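import Cfsg.Statements.S0144
import Cfsg.Agent.Lib.Char.Burnside
-- import your own Cfsg.Agent.* helpers here

set_option autoImplicit false
open Cfsg

namespace Cfsg.Agent.S0144

set_option linter.style.haveILetI false
open Cfsg Cfsg.Lib.Char


/-- The Burnside two-prime Theorem: a finite group of order p ^ a * q ^ b, for primes p and q, is solvable. -/
theorem result {G : Type*} [Group G] [Finite G] (p q a b : ℕ) (hp : p.Prime) (hq : q.Prime) (hcard : Nat.card G = p ^ a * q ^ b) : Group.IsSolvable G := by
  induction hn : Nat.card G using Nat.strong_induction_on generalizing G a b with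
  | _ n ih =>
    subst hn
    by_cases h1 : Nat.card G = 1
    · haveI : Subsingleton G := (Nat.card_eq_one_iff_unique.mp h1).1
      exact Group.isSolvable_of_comm fun _ _ => Subsingleton.elim _ _
    haveI : Nontrivial G := Finite.one_lt_card_iff_nontrivial.mp (by have := Nat.card_pos (α := G); omega)
    by_cases hsimple : IsSimpleGroup G
    · haveI := Fintype.ofFinite G
      haveI := Fact.mk hp
      by_cases ha : a = 0
      · subst ha
        haveI := Fact.mk hq
        have hpg : IsPGroup q G := IsPGroup.of_card (n := b) (by simpa using hcard)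
        haveI := hpg.isNilpotent
        infer_instance
      by_cases hpq : p = q
      · subst hpq
        have hpg : IsPGroup p G := IsPGroup.of_card (n := a + b) (by rw [pow_add]; exact hcard)
        haveI := hpg.isNilpotent
        infer_instance
      let P : Sylow p G := default
      have hP : Nat.card P = p ^ a := by
        rw [Sylow.card_eq_multiplicity, hcard, Nat.factorization_mul (pow_ne_zero _ hp.ne_zero)
          (pow_ne_zero _ hq.ne_zero), hp.factorization_pow, hq.factorization_pow]
        simp [Ne.symm hpq]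
      haveI : Nontrivial P := Finite.one_lt_card_iff_nontrivial.mp
        (hP ▸ Nat.one_lt_pow ha hp.one_lt)
      haveI := P.isPGroup'.center_nontrivial
      obtain ⟨z, hz⟩ := exists_ne (1 : Subgroup.center (P : Subgroup G))
      have hle : (P : Subgroup G) ≤ Subgroup.centralizer ({((z : (P : Subgroup G)) : G)} : Set G) := by
        intro x hx
        rw [Subgroup.mem_centralizer_iff]
        rintro y rfl
        exact (congrArg Subtype.val (Subgroup.mem_center_iff.mp z.2 ⟨x, hx⟩)).symm
      have hdvd : (Subgroup.centralizer ({((z : (P : Subgroup G)) : G)} : Set G)).index ∣ q ^ b := by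
        refine (Subgroup.index_dvd_of_le hle).trans ?_
        have h2 := (P : Subgroup G).card_mul_index
        rw [show Nat.card (P : Subgroup G) = p ^ a from hP, hcard] at h2
        exact dvd_of_eq (Nat.eq_of_mul_eq_mul_left (pow_pos hp.pos _) h2)
      obtain ⟨k, -, hk⟩ := (Nat.dvd_prime_pow hq).mp hdvd
      have hzne : ((z : (P : Subgroup G)) : G) ≠ 1 := fun h => hz (Subtype.ext (Subtype.ext h))
      have hprime := prime_card_of_class_prime_pow hq hzne ((card_classFinset _).trans hk)
      haveI := Fact.mk hprime
      haveI : IsCyclic G := isCyclic_of_prime_card rfl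
      exact Group.isSolvable_of_comm IsCyclic.commGroup.mul_comm
    · obtain ⟨N, hN, hN0, hN1⟩ : ∃ N : Subgroup G, N.Normal ∧ N ≠ ⊥ ∧ N ≠ ⊤ := by
        by_contra hcon
        push Not at hcon
        exact hsimple ⟨fun H hH => or_iff_not_imp_left.mpr (hcon H hH)⟩
      have h2 := N.card_mul_index
      have hNlt : Nat.card N < Nat.card G :=
        (Subgroup.card_le_card_group N).lt_of_ne (fun h => hN1 (Subgroup.eq_top_of_card_eq N h))
      have hQlt : Nat.card (G ⧸ N) < Nat.card G := by
        have h3 : 1 < Nat.card N :=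
          Finite.one_lt_card_iff_nontrivial.mpr (Subgroup.nontrivial_iff_ne_bot _ |>.mpr hN0)
        have h4 : 0 < N.index := Nat.pos_of_ne_zero N.index_ne_zero_of_finite
        show N.index < Nat.card G
        nlinarith
      obtain ⟨⟨c1, hc1⟩, ⟨c2, hc2⟩⟩ :
          (∃ a' : ℕ × ℕ, Nat.card N = p ^ a'.1 * q ^ a'.2) ∧
            (∃ a' : ℕ × ℕ, Nat.card (G ⧸ N) = p ^ a'.1 * q ^ a'.2) := by
        have key : ∀ m, m ∣ p ^ a * q ^ b → ∃ a' : ℕ × ℕ, m = p ^ a'.1 * q ^ a'.2 := by
          intro m hm
          obtain ⟨u, v, hu, hv, rfl⟩ := exists_dvd_and_dvd_of_dvd_mul hm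
          obtain ⟨i, -, rfl⟩ := (Nat.dvd_prime_pow hp).mp hu
          obtain ⟨j, -, rfl⟩ := (Nat.dvd_prime_pow hq).mp hv
          exact ⟨(i, j), rfl⟩
        exact ⟨key _ (hcard ▸ N.card_subgroup_dvd_card), key _ (hcard ▸ N.card_quotient_dvd_card)⟩
      haveI := ih _ hNlt c1.1 c1.2 hc1 rfl
      haveI := ih _ hQlt c2.1 c2.2 hc2 rfl
      exact Group.isSolvable_of_ker_le_range N.subtype (QuotientGroup.mk' N)
        (by rw [QuotientGroup.ker_mk', Subgroup.range_subtype])

end Cfsg.Agent.S0144
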