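import Cfsg.Statements.S0738
import Mathlib
import Cfsg.Agent.S0144

set_option autoImplicit false
open Cfsg

namespace Cfsg.Agent.S0738

open scoped commutatorElement


/-- Let a finite Zassenhaus group of degree `n + 1` have two-point stabilisers of order `d` with `2d ≥ n - 1`. Then a normal subgroup of a point stabiliser acting regularly on the remaining points is elementary abelian, and the degree is a prime power plus one. -/
theorem result {G Ω : Type*} [Group G] [Finite G] [MulAction G Ω] [Fintype Ω] (hZ : Cfsg.IsZassenhausGroup G Ω) {a b : Ω} (hab : a ≠ b) (hd : Fintype.card Ω - 2 ≤ 2 * Nat.card ↥(MulAction.stabilizer G a ⊓ MulAction.stabilizer G b)) (F : Subgroup G) (hFle : F ≤ MulAction.stabilizer G a) (hFn : (F.subgroupOf (MulAction.stabilizer G a)).Normal) (hreg : ∀ y z : Ω, y ≠ a → z ≠ a → ∃! u : F, (u : G) • y = z) : IsMulCommutative F ∧ ∃ p f : ℕ, p.Prime ∧ (∀ u ∈ F, u ^ p = 1) ∧ Fintype.card Ω = p ^ f + 1 := by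
  classical
  obtain ⟨hfaith, -, h3, h4, -⟩ := hZ
  haveI : Fintype G := Fintype.ofFinite G
  set H : Subgroup G := MulAction.stabilizer G a ⊓ MulAction.stabilizer G b with hH
  have hHn : ∀ h ∈ H, ∀ u ∈ F, h * u * h⁻¹ ∈ F := by
    intro h hh u hu
    have := hFn.conj_mem ⟨u, hFle hu⟩ (Subgroup.mem_subgroupOf.2 hu) ⟨h, (Subgroup.mem_inf.1 hh).1⟩
    simpa [Subgroup.mem_subgroupOf] using this
  have hFb : ∀ u : F, (u : G) • b ≠ a := fun u h => by
    have h1 : (u : G) • a = a := hFle u.2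
    exact hab (MulAction.injective (u : G) (h.trans h1.symm)).symm
  have hbne : ∀ u : F, (u : G) • b = b → u = 1 := fun u h => by
    obtain ⟨w, -, hw⟩ := hreg b b hab.symm hab.symm
    exact (hw u h).trans (hw 1 (one_smul _ _)).symm
  have hsemi : ∀ h ∈ H, ∀ u ∈ F, u ≠ 1 → h * u = u * h → h = 1 := by
    intro h hh u hu hu1 hc
    obtain ⟨hha, hhb⟩ := Subgroup.mem_inf.1 hh
    refine h3 h a b (u • b) hab (fun he => hu1 (congrArg Subtype.val (hbne ⟨u, hu⟩ he.symm))) ?_ hha hhb ?_
    · exact Ne.symm (hFb ⟨u, hu⟩)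
    · rw [smul_smul, hc, mul_smul, hhb]
  -- the points other than `a`
  have hcardF : Nat.card F = Fintype.card Ω - 1 := by
    have e : F ≃ {x : Ω // x ≠ a} := Equiv.ofBijective (fun u => ⟨(u : G) • b, hFb u⟩) ⟨fun u v huv => by
      obtain ⟨w, -, hw⟩ := hreg b ((u : G) • b) hab.symm (hFb u)
      exact (hw u rfl).trans (hw v (congrArg Subtype.val huv).symm).symm, fun x => by
      obtain ⟨w, hw, -⟩ := hreg b x.1 hab.symm x.2
      exact ⟨w, Subtype.ext hw⟩⟩
    rw [Nat.card_congr e, Nat.card_eq_fintype_card, Fintype.card_subtype_compl, Fintype.card_subtype_eq]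
  set d := Nat.card H with hd'
  -- the classes
  let cls : G → Finset G := fun x => Finset.univ.image fun h : H => (h : G) * x * (h : G)⁻¹
  have hclscard : ∀ x ∈ F, x ≠ 1 → (cls x).card = d := by
    intro x hx hx1
    rw [Finset.card_image_of_injective, Finset.card_univ, hd', Nat.card_eq_fintype_card]
    intro h k hk
    have h1 : ((k : G)⁻¹ * h) * x = x * ((k : G)⁻¹ * h) := by
      have : (h : G) * x * (h : G)⁻¹ = (k : G) * x * (k : G)⁻¹ := hk
      calc ((k : G)⁻¹ * h) * x = (k : G)⁻¹ * ((h : G) * x * (h : G)⁻¹) * h := by group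
        _ = x * ((k : G)⁻¹ * h) := by rw [this]; group
    have h2 := hsemi _ (H.mul_mem (H.inv_mem k.2) h.2) x hx hx1 h1
    exact Subtype.ext (inv_mul_eq_one.1 h2).symm
  have hclsmem : ∀ x, ∀ y, y ∈ cls x ↔ ∃ h ∈ H, h * x * h⁻¹ = y := by
    intro x y
    simp [cls]
  have hdisj : ∀ x y, y ∉ cls x → Disjoint (cls x) (cls y) := by
    intro x y hy
    rw [Finset.disjoint_left]
    intro w hwx hwy
    obtain ⟨h, hh, rfl⟩ := (hclsmem x w).1 hwx
    obtain ⟨k, hk, hkw⟩ := (hclsmem y _).1 hwy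
    refine hy ((hclsmem x y).2 ⟨k⁻¹ * h, H.mul_mem (H.inv_mem hk) hh, ?_⟩)
    calc k⁻¹ * h * x * (k⁻¹ * h)⁻¹ = k⁻¹ * (h * x * h⁻¹) * k := by group
      _ = y := by rw [← hkw]; group
  have hn : Nat.card F - 1 ≤ 2 * d := by rw [hcardF]; omega
  have hdpos : 0 < d := Nat.card_pos
  have hsub : ∀ M : Subgroup G, M ≤ F → (∀ h ∈ H, ∀ u ∈ M, h * u * h⁻¹ ∈ M) → M ≠ ⊥ → M ≠ F →
      d + 1 ≤ Nat.card M ∧ Nat.card M + d ≤ Nat.card F := by
    intro M hMF hMinv hMb hMne
    obtain ⟨⟨x, hx⟩, hx1⟩ : ∃ x : M, x ≠ 1 := by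
      haveI := M.nontrivial_iff_ne_bot.2 hMb
      exact exists_ne 1
    obtain ⟨y, hyF, hyM⟩ := SetLike.exists_of_lt (lt_of_le_of_ne hMF hMne)
    have hx1' : x ≠ 1 := fun h => hx1 (Subtype.ext h)
    constructor
    · have h1 : insert 1 (cls x) ⊆ (M : Set G).toFinset := by
        intro w hw
        rw [Set.mem_toFinset]
        rcases Finset.mem_insert.1 hw with rfl | hw
        · exact M.one_mem
        · obtain ⟨h, hh, rfl⟩ := (hclsmem x w).1 hw
          exact hMinv h hh x hx
      have h2 := Finset.card_le_card h1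
      rw [Finset.card_insert_of_notMem, hclscard x (hMF hx) hx1', Set.toFinset_card] at h2
      · rw [Nat.card_eq_fintype_card]; exact h2
      · intro h
        obtain ⟨k, -, hk⟩ := (hclsmem x 1).1 h
        exact hx1' (conj_eq_one_iff.1 hk)
    · have hy1 : y ≠ 1 := fun h => hyM (h ▸ M.one_mem)
      have h1 : (M : Set G).toFinset ∪ cls y ⊆ (F : Set G).toFinset := by
        intro w hw
        rw [Set.mem_toFinset]
        rcases Finset.mem_union.1 hw with hw | hw
        · exact hMF (Set.mem_toFinset.1 hw)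
        · obtain ⟨h, hh, rfl⟩ := (hclsmem y w).1 hw
          exact hHn h hh y hyF
      have h2 := Finset.card_le_card h1
      rw [Finset.card_union_of_disjoint, hclscard y hyF hy1, Set.toFinset_card, Set.toFinset_card] at h2
      · rw [Nat.card_eq_fintype_card, Nat.card_eq_fintype_card]; exact h2
      · rw [Finset.disjoint_left]
        intro w hwM hw
        obtain ⟨h, hh, rfl⟩ := (hclsmem y w).1 hw
        apply hyM
        have := hMinv h⁻¹ (H.inv_mem hh) _ (Set.mem_toFinset.1 hwM)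
        simpa [mul_assoc] using this
  have hirr : ∀ M : Subgroup G, M ≤ F → (∀ h ∈ H, ∀ u ∈ M, h * u * h⁻¹ ∈ M) → M = ⊥ ∨ M = F := by
    intro M hMF hMinv
    by_contra hc
    obtain ⟨hb, hne⟩ := not_or.1 hc
    obtain ⟨h1, h2⟩ := hsub M hMF hMinv hb hne
    have hlt : Nat.card M < Nat.card F := by omega
    obtain ⟨q, hq⟩ := Subgroup.card_dvd_of_le hMF
    rcases q with _ | _ | q
    · simp at hq
    · omega
    · have h5 : Nat.card M * 2 ≤ Nat.card F := hq ▸ Nat.mul_le_mul_left _ (by omega)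
      omega
  have hF2 : 2 ≤ Nat.card F := by
    rw [hcardF]
    by_contra h
    obtain ⟨g, hg1, x, y, hxy, hgx, hgy⟩ := h4
    apply hg1
    refine hfaith.eq_of_smul_eq_smul fun z => ?_
    rw [one_smul]
    by_contra hz
    have hzx : z ≠ x := fun e => hz (e ▸ hgx)
    have hzy : z ≠ y := fun e => hz (e ▸ hgy)
    have := Finset.card_le_univ ({x, y, z} : Finset Ω)
    rw [Finset.card_eq_three.2 ⟨x, y, z, hxy, hzx.symm, hzy.symm, rfl⟩] at this
    omega
  -- at most two primes
  set P := (Nat.card F).primeFactors with hP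
  have hprime : ∀ p ∈ P, ∃ x ∈ F, x ≠ 1 ∧ orderOf x = p := by
    intro p hp
    haveI := Fact.mk (Nat.prime_of_mem_primeFactors hp)
    obtain ⟨x, hx⟩ := exists_prime_orderOf_dvd_card' p (Nat.dvd_of_mem_primeFactors hp)
    rw [← Subgroup.orderOf_coe] at hx
    refine ⟨x, x.2, fun h => ?_, hx⟩
    rw [h, orderOf_one] at hx
    exact (Nat.prime_of_mem_primeFactors hp).one_lt.ne hx
  choose! xp hxF hx1 hxo using hprime
  have hP2 : P.card ≤ 2 := by
    have h1 : (P.biUnion fun p => cls (xp p)) ⊆ ((F : Set G).toFinset.erase 1) := by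
      intro w hw
      obtain ⟨p, hp, hwp⟩ := Finset.mem_biUnion.1 hw
      obtain ⟨h, hh, rfl⟩ := (hclsmem _ _).1 hwp
      exact Finset.mem_erase.2 ⟨fun e => hx1 p hp (conj_eq_one_iff.1 e), Set.mem_toFinset.2 (hHn h hh _ (hxF p hp))⟩
    have h2 := Finset.card_le_card h1
    rw [Finset.card_biUnion, Finset.sum_congr rfl (fun p hp => hclscard _ (hxF p hp) (hx1 p hp)), Finset.sum_const,
      smul_eq_mul, Finset.card_erase_of_mem (Set.mem_toFinset.2 F.one_mem), Set.toFinset_card] at h2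
    · rw [Nat.card_eq_fintype_card] at hn
      exact Nat.le_of_mul_le_mul_right (h2.trans hn) hdpos
    · intro p hp q hq hpq
      refine hdisj _ _ fun h => hpq ?_
      obtain ⟨k, -, hk⟩ := (hclsmem _ _).1 h
      rw [← hxo p hp, ← hxo q hq, ← hk]
      exact ((SemiconjBy.orderOf_eq k (by show k * xp p = k * xp p * k⁻¹ * k; group)).symm).symm
  haveI hFnt : Nontrivial F := Finite.one_lt_card_iff_nontrivial.1 (by omega)
  obtain ⟨p, hp⟩ : ∃ p, p ∈ P := ⟨_, Nat.mem_primeFactors.2 ⟨Nat.minFac_prime (by omega), Nat.minFac_dvd _, by omega⟩⟩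
  obtain ⟨q, hq, hPpq⟩ : ∃ q ∈ P, P ⊆ {p, q} := by
    by_cases h : ∃ q ∈ P, q ≠ p
    · obtain ⟨q, hq, hqp⟩ := h
      refine ⟨q, hq, ?_⟩
      rw [Finset.eq_of_subset_of_card_le (Finset.insert_subset hp (Finset.singleton_subset_iff.2 hq))
        (by rw [Finset.card_pair hqp.symm]; exact hP2)]
    · push Not at h
      exact ⟨p, hp, fun r hr => by simp [h r hr]⟩
  have hsolv : Group.IsSolvable F := by
    have hpP := Nat.prime_of_mem_primeFactors hp
    have hqP := Nat.prime_of_mem_primeFactors hq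
    have hfac : Nat.card F = ∏ r ∈ P, r ^ (Nat.card F).factorization r :=
      (Nat.factorization_prod_pow_eq_self (by omega)).symm
    by_cases hpq : p = q
    · subst hpq
      have hPp : P = {p} := Finset.Subset.antisymm (hPpq.trans (by simp)) (by simpa using hp)
      rw [hPp, Finset.prod_singleton] at hfac
      exact Cfsg.Agent.S0144.result p p ((Nat.card F).factorization p) 0 hpP hpP (by rw [pow_zero, mul_one]; exact hfac)
    · have hPe : P = {p, q} :=
        Finset.Subset.antisymm hPpq (Finset.insert_subset hp (Finset.singleton_subset_iff.2 hq))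
      rw [hPe, Finset.prod_pair hpq] at hfac
      exact Cfsg.Agent.S0144.result p q _ _ hpP hqP hfac
  have hcomm : ⁅F, F⁆ = ⊥ := by
    have hle : ⁅F, F⁆ ≤ F := Subgroup.commutator_le.2 fun x hx y hy => by
      rw [commutatorElement_def]
      exact F.mul_mem (F.mul_mem (F.mul_mem hx hy) (F.inv_mem hx)) (F.inv_mem hy)
    refine (hirr _ hle ?_).resolve_right fun h => ?_
    · intro h hh u hu
      have hmap : F.map (MulAut.conj h).toMonoidHom ≤ F := by
        rintro _ ⟨w, hw, rfl⟩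
        exact hHn h hh w hw
      have h1 : (MulAut.conj h).toMonoidHom u ∈ ⁅F, F⁆.map (MulAut.conj h).toMonoidHom :=
        Subgroup.mem_map_of_mem _ hu
      rw [Subgroup.map_commutator] at h1
      exact Subgroup.commutator_mono hmap hmap h1
    · have h1 := Group.IsSolvable.commutator_lt_top_of_nontrivial F
      refine h1.ne (Subgroup.map_injective F.subtype_injective ?_)
      rw [Subgroup.map_subtype_commutator, h, ← MonoidHom.range_eq_map, Subgroup.range_subtype]
  have hab' : ∀ x ∈ F, ∀ y ∈ F, x * y = y * x := by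
    intro x hx y hy
    have : ⁅x, y⁆ = 1 := by rw [← Subgroup.mem_bot, ← hcomm]; exact Subgroup.commutator_mem_commutator hx hy
    exact commutatorElement_eq_one_iff_mul_comm.1 this
  haveI hFc : IsMulCommutative F := ⟨⟨fun x y => Subtype.ext (hab' _ x.2 _ y.2)⟩⟩
  have hpP := Nat.prime_of_mem_primeFactors hp
  haveI := Fact.mk hpP
  let M : Subgroup G :=
    { carrier := {u | u ∈ F ∧ u ^ p = 1}
      mul_mem' := fun {u v} hu hv => ⟨F.mul_mem hu.1 hv.1, by
        rw [Commute.mul_pow (hab' u hu.1 v hv.1), hu.2, hv.2, one_mul]⟩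
      one_mem' := ⟨F.one_mem, one_pow p⟩
      inv_mem' := fun {u} hu => ⟨F.inv_mem hu.1, by rw [inv_pow, hu.2, inv_one]⟩ }
  have hMF : M = F := (hirr M (fun u hu => hu.1) (fun h hh u hu =>
      ⟨hHn h hh u hu.1, by rw [conj_pow, hu.2, mul_one, mul_inv_cancel]⟩)).resolve_left fun h => by
    have hmem : xp p ∈ M := ⟨hxF p hp, by
      have := pow_orderOf_eq_one (xp p)
      rwa [hxo p hp] at this⟩
    rw [h] at hmem
    exact hx1 p hp (Subgroup.mem_bot.1 hmem)
  have hpow : ∀ u ∈ F, u ^ p = 1 := fun u hu => (hMF.ge hu).2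
  refine ⟨hFc, p, ?_⟩
  obtain ⟨f, hf⟩ := IsPGroup.iff_card.1 (fun u : F => ⟨1, Subtype.ext (by rw [pow_one]; exact hpow u u.2)⟩ : IsPGroup p F)
  refine ⟨f, hpP, hpow, ?_⟩
  rw [← hf, hcardF]
  have : 0 < Fintype.card Ω := Fintype.card_pos_iff.2 ⟨a⟩
  omega

end Cfsg.Agent.S0738
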