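import Cfsg.Statements.S0741
import Mathlib

set_option autoImplicit false
open Cfsg

namespace Cfsg.Agent.S0741

/-- If the two-point stabilisers of a finite Zassenhaus group of degree `n + 1` have even order `d`, then `2d ≥ n - 1`. -/
theorem result {G Ω : Type*} [Group G] [Finite G] [MulAction G Ω] [Fintype Ω] (hZ : Cfsg.IsZassenhausGroup G Ω) {a b : Ω} (hab : a ≠ b) (heven : Even (Nat.card ↥(MulAction.stabilizer G a ⊓ MulAction.stabilizer G b))) : Fintype.card Ω - 2 ≤ 2 * Nat.card ↥(MulAction.stabilizer G a ⊓ MulAction.stabilizer G b) := by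
  classical
  obtain ⟨-, h2, h3, -, -⟩ := hZ
  haveI : Fintype G := Fintype.ofFinite G
  haveI := Fact.mk Nat.prime_two
  obtain ⟨z, hz⟩ := exists_prime_orderOf_dvd_card' 2 (even_iff_two_dvd.1 heven)
  have hza : (z : G) • a = a := (Subgroup.mem_inf.1 z.2).1
  have hzb : (z : G) • b = b := (Subgroup.mem_inf.1 z.2).2
  have hz2 : (z : G) * z = 1 := by
    rw [← pow_two, show (2 : ℕ) = orderOf (z : G) by rw [Subgroup.orderOf_coe, hz], pow_orderOf_eq_one]
  have hz1 : (z : G) ≠ 1 := fun h => by
    have : z = 1 := Subtype.ext h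
    rw [this, orderOf_one] at hz
    omega
  have hfix : ∀ x, (z : G) • x = x ↔ x = a ∨ x = b := by
    intro x
    refine ⟨fun hx => ?_, fun hx => by rcases hx with rfl | rfl <;> assumption⟩
    by_contra hne
    push Not at hne
    exact hz1 (h3 z a b x hab (Ne.symm hne.2) (Ne.symm hne.1) hza hzb hx)
  set C : Finset G := Finset.univ.image fun g : G => g * z * g⁻¹ with hC
  have hCconj : ∀ c ∈ C, ∀ g : G, g * c * g⁻¹ ∈ C := by
    intro c hc g
    obtain ⟨k, -, rfl⟩ := Finset.mem_image.1 hc
    exact Finset.mem_image.2 ⟨g * k, Finset.mem_univ _, by group⟩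
  have hfixC : ∀ g : G, (Finset.univ.filter fun x => (g * z * g⁻¹) • x = x) = {g • a, g • b} := by
    intro g
    ext x
    simp only [Finset.mem_filter, Finset.mem_univ, true_and, Finset.mem_insert, Finset.mem_singleton, mul_smul]
    rw [smul_eq_iff_eq_inv_smul, hfix, inv_smul_eq_iff, inv_smul_eq_iff]
  have hmoveC : ∀ c ∈ C, (Finset.univ.filter fun x : Ω => c • x ≠ x).card = Fintype.card Ω - 2 := by
    intro c hc
    obtain ⟨g, -, rfl⟩ := Finset.mem_image.1 hc
    have h1 := Finset.card_filter_add_card_filter_not (s := (Finset.univ : Finset Ω)) (fun x => (g * z * g⁻¹) • x = x)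
    rw [hfixC g, Finset.card_pair (fun h => hab (MulAction.injective g h)), Finset.card_univ] at h1
    simp only [ne_eq]
    omega
  haveI : MulAction.IsMultiplyPretransitive G Ω 2 := h2
  have htrans : ∀ x y : Ω, x ≠ y → ∃ g : G, g • a = x ∧ g • b = y :=
    fun x y hxy => MulAction.is_two_pretransitive_iff.1 h2 hab hxy
  -- number of conjugates swapping a given pair
  set n : Ω × Ω → ℕ := fun q => (C.filter fun c => c • q.1 = q.2).card with hn
  have hconst : ∀ x y : Ω, x ≠ y → n (x, y) = n (a, b) := by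
    intro x y hxy
    obtain ⟨g, hga, hgb⟩ := htrans x y hxy
    refine Finset.card_nbij' (fun c => g⁻¹ * c * g) (fun c => g * c * g⁻¹) ?_ ?_
      (fun c _ => by simp [mul_assoc]) (fun c _ => by simp [mul_assoc])
    · intro c hc
      obtain ⟨hcC, hcx⟩ := Finset.mem_filter.1 hc
      refine Finset.mem_filter.2 ⟨by simpa using hCconj c hcC g⁻¹, ?_⟩
      rw [mul_smul, mul_smul, hga, hcx, inv_smul_eq_iff, hgb]
    · intro c hc
      obtain ⟨hcC, hcx⟩ := Finset.mem_filter.1 hc
      refine Finset.mem_filter.2 ⟨hCconj c hcC g, ?_⟩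
      show (g * c * g⁻¹) • x = y
      rw [← hga, mul_smul, mul_smul, inv_smul_smul, hcx, hgb]
  -- double counting
  have hdouble : Fintype.card Ω * (Fintype.card Ω - 1) * n (a, b) = C.card * (Fintype.card Ω - 2) := by
    have h1 : ∑ c ∈ C, (Finset.univ.filter fun x : Ω => c • x ≠ x).card = C.card * (Fintype.card Ω - 2) := by
      rw [Finset.sum_congr rfl hmoveC, Finset.sum_const, smul_eq_mul]
    rw [← h1]
    calc Fintype.card Ω * (Fintype.card Ω - 1) * n (a, b)
        = ∑ q ∈ (Finset.univ : Finset Ω).offDiag, n q := by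
          rw [Finset.sum_congr rfl (fun q hq => hconst q.1 q.2 (Finset.mem_offDiag.1 hq).2.2), Finset.sum_const,
            smul_eq_mul, Finset.offDiag_card, Finset.card_univ, Nat.mul_sub, mul_one]
      _ = ∑ c ∈ C, ((Finset.univ : Finset Ω).offDiag.filter fun q => c • q.1 = q.2).card := by
          simp only [hn, Finset.card_filter]
          exact Finset.sum_comm
      _ = ∑ c ∈ C, (Finset.univ.filter fun x : Ω => c • x ≠ x).card := by
          refine Finset.sum_congr rfl fun c _ => ?_
          refine Finset.card_nbij' (fun q => q.1) (fun x => (x, c • x)) ?_ ?_ ?_ (fun x _ => rfl)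
          · intro q hq
            obtain ⟨hq1, hq2⟩ := Finset.mem_filter.1 hq
            refine Finset.mem_filter.2 ⟨Finset.mem_univ _, fun h => (Finset.mem_offDiag.1 hq1).2.2 ?_⟩
            rw [← hq2, h]
          · intro x hx
            refine Finset.mem_filter.2 ⟨Finset.mem_offDiag.2 ⟨Finset.mem_univ _, Finset.mem_univ _, ?_⟩, rfl⟩
            exact Ne.symm (Finset.mem_filter.1 hx).2
          · intro q hq
            exact Prod.ext rfl (Finset.mem_filter.1 hq).2
  have hCcard : (Fintype.card Ω).choose 2 ≤ C.card := by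
    rw [← Finset.card_univ, ← Finset.card_powersetCard]
    refine Finset.card_le_card_of_surjOn (fun c => Finset.univ.filter fun x => c • x = x) ?_
    intro s hs
    obtain ⟨x, y, hxy, rfl⟩ := Finset.card_eq_two.1 (Finset.mem_powersetCard.1 hs).2
    obtain ⟨g, hga, hgb⟩ := htrans x y hxy
    exact ⟨g * z * g⁻¹, Finset.mem_image.2 ⟨g, Finset.mem_univ _, rfl⟩, by
      show (Finset.univ.filter fun t : Ω => (g * z * g⁻¹) • t = t) = _
      rw [hfixC, hga, hgb]⟩
  have hle : n (a, b) ≤ Nat.card ↥(MulAction.stabilizer G a ⊓ MulAction.stabilizer G b) := by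
    rcases (C.filter fun c => c • a = b).eq_empty_or_nonempty with h | ⟨c₀, hc₀⟩
    · simp [hn, h]
    obtain ⟨hc₀C, hc₀a⟩ := Finset.mem_filter.1 hc₀
    have hinv : ∀ c ∈ C, c • a = b → c • b = a := by
      intro c hc hca
      obtain ⟨g, -, rfl⟩ := Finset.mem_image.1 hc
      have hsq : g * (z : G) * g⁻¹ * (g * z * g⁻¹) = 1 := by
        rw [show g * (z : G) * g⁻¹ * (g * z * g⁻¹) = g * ((z : G) * z) * g⁻¹ by group, hz2, mul_one, mul_inv_cancel]
      calc (g * (z : G) * g⁻¹) • b = (g * (z : G) * g⁻¹) • ((g * (z : G) * g⁻¹) • a) := by rw [hca]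
        _ = a := by rw [smul_smul, hsq, one_smul]
    rw [Nat.card_eq_fintype_card, ← Finset.card_univ]
    refine Finset.card_le_card_of_injOn
      (fun c => if h : c * c₀ ∈ MulAction.stabilizer G a ⊓ MulAction.stabilizer G b then ⟨c * c₀, h⟩ else 1)
      (fun _ _ => Finset.mem_univ _) ?_
    have hmem : ∀ c ∈ C.filter (fun c => c • a = b), c * c₀ ∈ MulAction.stabilizer G a ⊓ MulAction.stabilizer G b := by
      intro c hc
      obtain ⟨hcC, hca⟩ := Finset.mem_filter.1 hc
      exact Subgroup.mem_inf.2 ⟨by rw [MulAction.mem_stabilizer_iff, mul_smul, hc₀a, hinv c hcC hca],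
        by rw [MulAction.mem_stabilizer_iff, mul_smul, hinv c₀ hc₀C hc₀a, hca]⟩
    intro c hc c' hc' h
    simp only [hmem c hc, hmem c' hc', dite_true] at h
    exact mul_right_cancel (congrArg Subtype.val h)
  rcases Nat.lt_or_ge (Fintype.card Ω) 3 with hsm | hsm
  · omega
  have hch : Fintype.card Ω * (Fintype.card Ω - 1) = 2 * (Fintype.card Ω).choose 2 := by
    rw [Nat.choose_two_right, Nat.mul_div_cancel' (Nat.two_dvd_mul_sub_one _)]
  have hpos : 0 < Fintype.card Ω * (Fintype.card Ω - 1) := Nat.mul_pos (by omega) (by omega)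
  have h6 : Fintype.card Ω * (Fintype.card Ω - 1) * (Fintype.card Ω - 2) ≤
      Fintype.card Ω * (Fintype.card Ω - 1) * (2 * n (a, b)) := by
    calc Fintype.card Ω * (Fintype.card Ω - 1) * (Fintype.card Ω - 2)
        ≤ 2 * C.card * (Fintype.card Ω - 2) := Nat.mul_le_mul_right _ (by omega)
      _ = _ := by rw [mul_assoc 2, ← hdouble]; ring
  have h7 := Nat.le_of_mul_le_mul_left h6 hpos
  omega

end Cfsg.Agent.S0741
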