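import Cfsg.Statements.S0731
import Cfsg.Agent.Lib.Perm.ZasAbelian.Main

set_option autoImplicit false
open Cfsg Cfsg.Lib.Char Cfsg.Lib.Perm.ZasAbelian

namespace Cfsg.Agent.S0731

/-- A finite Zassenhaus group whose point stabiliser has an abelian regular normal subgroup on the remaining points is sharply triply transitive or isomorphic to `PSL(2, F)` for a finite field `F` of odd characteristic. -/
theorem result {G Ω : Type*} [Group G] [Finite G] [MulAction G Ω] [Finite Ω] (hZ : Cfsg.IsZassenhausGroup G Ω) (x : Ω) (F : Subgroup G) (hFle : F ≤ MulAction.stabilizer G x) (hFn : (F.subgroupOf (MulAction.stabilizer G x)).Normal) (hFab : IsMulCommutative F) (hreg : ∀ y z : Ω, y ≠ x → z ≠ x → ∃! u : F, (u : G) • y = z) : (MulAction.IsMultiplyPretransitive G Ω 3 ∧ ∀ t : Fin 3 ↪ Ω, MulAction.stabilizer G t = ⊥) ∨ ∃ (K : Type) (_ : Field K) (_ : Fintype K), ringChar K ≠ 2 ∧ Nonempty (G ≃* Matrix.ProjectiveSpecialLinearGroup (Fin 2) K) := by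
  classical
  haveI := Fintype.ofFinite Ω
  obtain ⟨g, -, a₀, b₀, hab₀, -⟩ := hZ.2.2.2.1
  obtain ⟨b, hab⟩ : ∃ b, x ≠ b := by
    by_cases h : x = a₀
    · exact ⟨b₀, h ▸ hab₀⟩
    · exact ⟨a₀, h⟩
  obtain ⟨hcard, hfix⟩ := kernel_of_regular F hFle hreg hab
  have hFc : ∀ u ∈ F, ∀ v ∈ F, u * v = v * u := fun u hu v hv =>
    congrArg Subtype.val (hFab.is_comm.comm (⟨u, hu⟩ : F) ⟨v, hv⟩)
  have hle : Fintype.card Ω - 2 ≤
      2 * Nat.card ↥(MulAction.stabilizer G x ⊓ MulAction.stabilizer G b : Subgroup G) := by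
    rcases Nat.even_or_odd (Nat.card ↥(MulAction.stabilizer G x ⊓ MulAction.stabilizer G b : Subgroup G)) with h | h
    · exact Cfsg.Agent.S0741.result hZ hab h
    · exact (bound hZ hab F hFle hcard hfix hFc h).1
  rcases two_orbits hZ hab hle with hd | htr
  · obtain ⟨p, f, K, iK, iF, -, -, -, -, h2, hiso⟩ := psl_of_two_orbits hZ hab F hFle hcard hfix hFn hreg hd
    exact Or.inr ⟨K, iK, iF, h2, hiso⟩
  · refine Or.inl ⟨?_, fun t => (Subgroup.eq_bot_iff_forall _).mpr fun g hg => ?_⟩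
    · obtain ⟨c, hcx, hcb⟩ : ∃ c, c ≠ x ∧ c ≠ b := by
        obtain ⟨u, v, w, huv, huw, hvw⟩ := Fintype.two_lt_card_iff.1 (zas_two_lt_card hZ)
        by_cases hu : u = x ∨ u = b
        · by_cases hv : v = x ∨ v = b
          · refine ⟨w, fun e => ?_, fun e => ?_⟩ <;>
              rcases hu with hu | hu <;> rcases hv with hv | hv <;> simp_all
          · exact ⟨v, fun e => hv (Or.inl e), fun e => hv (Or.inr e)⟩
        · exact ⟨u, fun e => hu (Or.inl e), fun e => hu (Or.inr e)⟩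
      have hstd : ∀ s : Fin 3 ↪ Ω, ∃ g : G, g • s 0 = x ∧ g • s 1 = b ∧ g • s 2 = c := by
        intro s
        have h01 : s 0 ≠ s 1 := s.injective.ne (by decide)
        obtain ⟨k, hk0, hk1⟩ := MulAction.is_two_pretransitive_iff.1 hZ.2.1 h01 hab
        obtain ⟨m, hm0, hm1, hm2⟩ := htr (k • s 2) c
          (fun e => s.injective.ne (show (2 : Fin 3) ≠ 0 by decide) (MulAction.injective k (e.trans hk0.symm)))
          (fun e => s.injective.ne (show (2 : Fin 3) ≠ 1 by decide) (MulAction.injective k (e.trans hk1.symm)))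
          hcx hcb
        exact ⟨m * k, by rw [mul_smul, hk0, hm0], by rw [mul_smul, hk1, hm1], by rw [mul_smul, hm2]⟩
      refine ⟨fun s t => ?_⟩
      obtain ⟨g, hg0, hg1, hg2⟩ := hstd s
      obtain ⟨k, hk0, hk1, hk2⟩ := hstd t
      refine ⟨k⁻¹ * g, DFunLike.ext _ _ fun i => ?_⟩
      fin_cases i
      · show (k⁻¹ * g) • s 0 = t 0
        rw [mul_smul, inv_smul_eq_iff, hg0, hk0]
      · show (k⁻¹ * g) • s 1 = t 1
        rw [mul_smul, inv_smul_eq_iff, hg1, hk1]
      · show (k⁻¹ * g) • s 2 = t 2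
        rw [mul_smul, inv_smul_eq_iff, hg2, hk2]
    · have h : ∀ i, g • t i = t i := fun i => DFunLike.congr_fun (MulAction.mem_stabilizer_iff.mp hg) i
      exact hZ.2.2.1 g (t 0) (t 1) (t 2) (t.injective.ne (by decide)) (t.injective.ne (by decide))
        (t.injective.ne (by decide)) (h 0) (h 1) (h 2)

end Cfsg.Agent.S0731
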