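import Cfsg.Statements.S0514
import Cfsg.Agent.Lib.DihedralAut
import Cfsg.Agent.Lib.Fusion.Alperin

set_option autoImplicit false
open Cfsg

namespace Cfsg.Agent.S0514

/-- In a finite group whose Sylow 2-subgroups are dihedral of order at least 4, the centralizer of any involution has a
normal subgroup of odd order whose index in the centralizer is a power of 2. -/
theorem result {X : Type*} [Group X] [Finite X]
    (S : Sylow 2 X) (n : ℕ) (hn : 2 ≤ n) (hS : Nonempty ((S : Subgroup X) ≃* DihedralGroup n)) (t : X)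
    (ht : orderOf t = 2) :
    ∃ N : Subgroup (Subgroup.centralizer ({t} : Set X)), N.Normal ∧ Odd (Nat.card N) ∧ ∃ k : ℕ, N.index = 2 ^ k := by
  have := Fact.mk Nat.prime_two
  obtain ⟨e⟩ := hS
  have : NeZero n := ⟨by omega⟩
  set C := Subgroup.centralizer ({t} : Set X) with hC
  have htc : ∀ c : ↥C, (c : X) * t = t * (c : X) := fun c => Subgroup.mem_centralizer_singleton_iff.1 c.2
  let t' : ↥C := ⟨t, Subgroup.mem_centralizer_singleton_iff.2 rfl⟩
  have ht' : orderOf t' = 2 := by rw [Subgroup.orderOf_mk, ht]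
  obtain ⟨P⟩ : Nonempty (Sylow 2 ↥C) := inferInstance
  have hfrob : Cfsg.HasNormalPComplement 2 ↥C := by
    refine (Cfsg.Lib.Fusion.frobenius P).2 ?_
    intro Q hQP g hg hco
    -- enlarge `Q` by the central involution `t'`
    set Q' : Subgroup ↥C := Q ⊔ Subgroup.zpowers t' with hQ'
    have ht'c : ∀ c : ↥C, c * t' = t' * c := fun c => Subtype.ext (htc c)
    have hzn : (Subgroup.zpowers t').Normal := ⟨fun a ha c => by
      obtain ⟨i, rfl⟩ := ha
      have : c * t' ^ i * c⁻¹ = t' ^ i := by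
        rw [((show Commute c t' from ht'c c).zpow_right i).eq, mul_inv_cancel_right]
      show c * t' ^ i * c⁻¹ ∈ _
      rw [this]; exact ⟨i, rfl⟩⟩
    have hQ'p : IsPGroup 2 ↥Q' := (P.isPGroup'.to_le hQP).to_sup_of_normal_right
      (IsPGroup.of_card (n := 1) (by rw [Nat.card_zpowers, ht', pow_one]))
    have hgQ' : g ∈ Subgroup.normalizer (Q' : Set ↥C) := by
      rw [Subgroup.mem_normalizer_iff_map_conj_eq, hQ', Subgroup.map_sup,
        Subgroup.mem_normalizer_iff_map_conj_eq.1 hg,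
        Subgroup.mem_normalizer_iff_map_conj_eq.1 (Subgroup.normalizer_eq_top (Subgroup.zpowers t') ▸ Subgroup.mem_top g)]
    -- embed `Q'` into the dihedral group
    obtain ⟨R, hR⟩ := IsPGroup.exists_le_sylow (hQ'p.map C.subtype)
    let e' : ↥(R : Subgroup X) ≃* DihedralGroup n := (R.equiv S).trans e
    let φ : ↥Q' →* DihedralGroup n := e'.toMonoidHom.comp
      ((Subgroup.inclusion hR).comp (Q'.equivMapOfInjective C.subtype C.subtype_injective).toMonoidHom)
    have hφ : Function.Injective φ :=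
      e'.injective.comp ((Subgroup.inclusion_injective hR).comp (MulEquiv.injective _))
    let σ : MulAut ↥Q' := Subgroup.normalizerMonoidHom Q' ⟨g, hgQ'⟩
    have hσm : σ ^ orderOf g = 1 := by
      rw [← map_pow]
      have : (⟨g, hgQ'⟩ : ↥(Subgroup.normalizer (Q' : Set ↥C))) ^ orderOf g = 1 := Subtype.ext (pow_orderOf_eq_one g)
      rw [this, map_one]
    have ht'Q : t' ∈ Q' := Subgroup.mem_sup_right (Subgroup.mem_zpowers t')
    have hσ := Cfsg.Lib.DihedralAut.eq_one_of_embeds_dihedral hQ'p φ hφ (t := ⟨t', ht'Q⟩)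
      (by rw [Subgroup.orderOf_mk, ht']) σ (Nat.coprime_two_right.1 hco) hσm
      (Subtype.ext (show g * t' * g⁻¹ = t' by rw [ht'c g, mul_inv_cancel_right]))
    rw [Subgroup.mem_centralizer_iff]
    intro q hq
    have h1 : g * q * g⁻¹ = q :=
      congrArg Subtype.val (DFunLike.congr_fun hσ (⟨q, Subgroup.mem_sup_left hq⟩ : ↥Q'))
    exact (mul_inv_eq_iff_eq_mul.1 h1).symm
  obtain ⟨P', N, hN, hNc⟩ := hfrob
  refine ⟨N, hN, ?_, ?_⟩
  · rw [← Nat.not_even_iff_odd, even_iff_two_dvd]
    intro hd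
    have h1 := P'.not_dvd_index
    rw [hNc.index_eq_card] at h1
    exact h1 hd
  · obtain ⟨k, hk⟩ := IsPGroup.iff_card.1 P'.isPGroup'
    exact ⟨k, by rw [hNc.symm.index_eq_card, hk]⟩

end Cfsg.Agent.S0514
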