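import Cfsg.Statements.S0111
import Cfsg.Agent.Lib.Fusion.Abelian

set_option autoImplicit false
set_option linter.style.haveILetI false
open Cfsg

namespace Cfsg.Agent.S0111

open Subgroup MulAction in
theorem transfer_neg_one {G : Type*} [Group G] [Finite G] (P : Sylow 2 G) (φ : (P : Subgroup G) →* ℤˣ)
    (u : G) (hu : u * u = 1)
    (h : ∀ g : G, ∀ hg : g⁻¹ * u * g ∈ (P : Subgroup G), φ ⟨_, hg⟩ = -1) :
    MonoidHom.transfer φ u = -1 := by
  classical
  haveI := Fintype.ofFinite (G ⧸ (P : Subgroup G))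
  haveI : Finite (orbitRel.Quotient (zpowers u) (G ⧸ (P : Subgroup G))) := Quotient.finite _
  haveI := Fintype.ofFinite (orbitRel.Quotient (zpowers u) (G ⧸ (P : Subgroup G)))
  rw [MonoidHom.transfer_eq_prod_quotient_orbitRel_zpowers_quot]
  have hper : ∀ c : G ⧸ (P : Subgroup G),
      Function.minimalPeriod (u • ·) c = 1 ∨ Function.minimalPeriod (u • ·) c = 2 := by
    intro c
    have h2 : u ^ 2 • c = c := by rw [pow_two, hu, one_smul]
    rw [pow_smul_eq_iff_minimalPeriod_dvd] at h2
    exact (Nat.dvd_prime Nat.prime_two).mp h2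
  have hterm : ∀ q : orbitRel.Quotient (zpowers u) (G ⧸ (P : Subgroup G)),
      φ ⟨q.out.out⁻¹ * u ^ Function.minimalPeriod (u • ·) q.out * q.out.out,
        QuotientGroup.out_conj_pow_minimalPeriod_mem (P : Subgroup G) u q.out⟩ =
        (-1) ^ Function.minimalPeriod (u • ·) q.out := by
    intro q
    have hmem := QuotientGroup.out_conj_pow_minimalPeriod_mem (P : Subgroup G) u q.out
    rcases hper q.out with h1 | h2
    · simp only [h1, pow_one] at hmem ⊢
      exact h q.out.out hmem
    · simp only [h2, pow_two, hu, mul_one, inv_mul_cancel] at hmem ⊢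
      rw [show (⟨(1 : G), hmem⟩ : (P : Subgroup G)) = 1 from rfl, map_one]
      decide
  rw [Finset.prod_congr rfl (fun q _ => hterm q), Finset.prod_pow_eq_pow_sum]
  have hsum : (P : Subgroup G).index =
      ∑ q : orbitRel.Quotient (zpowers u) (G ⧸ (P : Subgroup G)),
        Function.minimalPeriod (u • ·) q.out :=
    Subgroup.index_eq_sum_minimalPeriod (P : Subgroup G) u
  rw [← hsum]
  exact Odd.neg_one_pow (Nat.odd_iff.mpr (Nat.two_dvd_ne_zero.mp P.not_dvd_index))

/-- The Thompson transfer lemma states that an involution of a Sylow 2-subgroup P lying outside a subgroup Q of index 2 in P either lies outside some normal subgroup of index 2 in G or is conjugate to an element of Q. -/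
theorem result {G : Type*} [Group G] [Finite G] (P : Sylow 2 G) (Q : Subgroup G) (hQP : Q ≤ (P : Subgroup G)) (hQi : Q.relIndex (P : Subgroup G) = 2) (u : G) (hu : orderOf u = 2) (huP : u ∈ (P : Subgroup G)) (huQ : u ∉ Q) : (∃ M : Subgroup G, M.Normal ∧ M.index = 2 ∧ u ∉ M) ∨ ∃ g : G, g * u * g⁻¹ ∈ Q := by
  classical
  by_cases hconj : ∃ g : G, g * u * g⁻¹ ∈ Q
  · exact Or.inr hconj
  left
  push Not at hconj
  have hQ : (Q.subgroupOf (P : Subgroup G)).index = 2 := hQi
  let φ : (P : Subgroup G) →* ℤˣ := MonoidHom.mk' (fun y => if (y : G) ∈ Q then 1 else -1)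
    (fun a b => by
      have h := Subgroup.mul_mem_iff_of_index_two hQ (a := a) (b := b)
      simp only [Subgroup.mem_subgroupOf] at h
      by_cases ha : (a : G) ∈ Q <;> by_cases hb : (b : G) ∈ Q <;>
        · simp only [Subgroup.coe_mul] at h ⊢
          simp [ha, hb, h])
  have huu : u * u = 1 := by rw [← pow_two, ← hu, pow_orderOf_eq_one]
  have htr := transfer_neg_one P φ u huu fun g hg => by
    show (if g⁻¹ * u * g ∈ Q then (1 : ℤˣ) else -1) = -1
    exact if_neg fun h => hconj g⁻¹ (by rwa [inv_inv])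
  refine ⟨(MonoidHom.transfer φ).ker, inferInstance, ?_, ?_⟩
  · rw [Subgroup.index_ker]
    have hs : Function.Surjective (MonoidHom.transfer φ) := by
      intro z
      rcases Int.units_eq_one_or z with rfl | rfl
      · exact ⟨1, map_one _⟩
      · exact ⟨u, htr⟩
    rw [MonoidHom.range_eq_top.mpr hs, Subgroup.card_top, Nat.card_eq_fintype_card]
    rfl
  · rw [MonoidHom.mem_ker, htr]
    decide

end Cfsg.Agent.S0111
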