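import Cfsg.Statements.S3864
import Cfsg.Agent.S0111
import Cfsg.Agent.Lib.Local.FixedOrderClosed
import Cfsg.Agent.Lib.Fusion.Basic
import Cfsg.Agent.Lib.Local.Sylow
import Mathlib.GroupTheory.SpecificGroups.Dihedral
-- import your own Cfsg.Agent.* helpers here

set_option autoImplicit false
open Cfsg

namespace Cfsg.Agent.S3864

open Subgroup

/-- One class of involutions in a group without quotient of order two, whose Sylow 2-subgroup has a cyclic
subgroup of index two. -/
theorem one_class {G : Type*} [Group G] [Finite G] (T : Sylow 2 G) (Q : Subgroup G) [IsCyclic Q]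
    (hQle : Q ≤ (T : Subgroup G)) (hQi : Q.relIndex (T : Subgroup G) = 2) (hO : Cfsg.pResidual 2 G = ⊤)
    (x y : G) (hx : orderOf x = 2) (hy : orderOf y = 2) : ∃ g : G, g * x * g⁻¹ = y := by
  classical
  haveI : Fact (Nat.Prime 2) := ⟨Nat.prime_two⟩
  have key : ∀ u : G, orderOf u = 2 → ∃ g : G, g * u * g⁻¹ ∈ Q := by
    intro u hu
    have hz : IsPGroup 2 (zpowers u) := IsPGroup.of_card (n := 1) (by rw [Nat.card_zpowers, hu, pow_one])
    obtain ⟨S, hS⟩ := hz.exists_le_sylow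
    obtain ⟨a, ha⟩ := MulAction.exists_smul_eq G S T
    have hv : a * u * a⁻¹ ∈ (T : Subgroup G) := by
      rw [← ha, Sylow.coe_subgroup_smul, Subgroup.mem_smul_pointwise_iff_exists]
      exact ⟨u, hS (mem_zpowers u), rfl⟩
    by_cases hvQ : a * u * a⁻¹ ∈ Q
    · exact ⟨a, hvQ⟩
    have hvo : orderOf (a * u * a⁻¹) = 2 := hu ▸ (MulAut.conj a).orderOf_eq u
    rcases Cfsg.Agent.S0111.result T Q hQle hQi _ hvo hv hvQ with ⟨M, hM, hMi, hMu⟩ | ⟨g, hg⟩
    · exfalso
      haveI := hM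
      have hq : IsPGroup 2 (G ⧸ M) := IsPGroup.of_card (n := 1) (by rw [← index_eq_card, hMi, pow_one])
      have h2 := Cfsg.Lib.Fusion.pResidual_le_of_isPGroup_quotient M hq
      rw [hO] at h2
      exact hMu (h2 (mem_top _))
    · exact ⟨g * a, by simpa [mul_assoc] using hg⟩
  obtain ⟨g, hg⟩ := key x hx
  obtain ⟨k, hk⟩ := key y hy
  have hgo : orderOf (g * x * g⁻¹) = 2 := hx ▸ (MulAut.conj g).orderOf_eq x
  have hko : orderOf (k * y * k⁻¹) = 2 := hy ▸ (MulAut.conj k).orderOf_eq y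
  have h3 : g * x * g⁻¹ = k * y * k⁻¹ := by
    by_contra hne
    haveI := Fintype.ofFinite Q
    have hle := IsCyclic.card_pow_eq_one_le (α := Q) (n := 2) two_pos
    have hsq : ∀ (w : G) (hw : w ∈ Q), orderOf w = 2 → (⟨w, hw⟩ : Q) ^ 2 = 1 := fun w hw ho =>
      Subtype.ext (by rw [SubgroupClass.coe_pow, ← ho, pow_orderOf_eq_one]; rfl)
    have h3 : ({1, ⟨_, hg⟩, ⟨_, hk⟩} : Finset Q).card = 3 := by
      rw [Finset.card_eq_three]
      refine ⟨_, _, _, ?_, ?_, ?_, rfl⟩
      · intro h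
        rw [← show ((1 : Q) : G) = g * x * g⁻¹ from congrArg Subtype.val h, OneMemClass.coe_one, orderOf_one] at hgo
        omega
      · intro h
        rw [← show ((1 : Q) : G) = k * y * k⁻¹ from congrArg Subtype.val h, OneMemClass.coe_one, orderOf_one] at hko
        omega
      · exact fun h => hne (congrArg Subtype.val h)
    have hsub : ({1, ⟨_, hg⟩, ⟨_, hk⟩} : Finset Q) ⊆ Finset.univ.filter fun a : Q => a ^ 2 = 1 := by
      intro a ha
      simp only [Finset.mem_insert, Finset.mem_singleton] at ha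
      refine Finset.mem_filter.2 ⟨Finset.mem_univ _, ?_⟩
      rcases ha with rfl | rfl | rfl
      · simp
      · exact hsq _ hg hgo
      · exact hsq _ hk hko
    have := (Finset.card_le_card hsub).trans hle
    omega
  refine ⟨k⁻¹ * g, ?_⟩
  calc k⁻¹ * g * x * (k⁻¹ * g)⁻¹ = k⁻¹ * (g * x * g⁻¹) * k := by group
    _ = y := by rw [h3]; group

theorem conj_into {G : Type*} [Group G] [Finite G] (P : Sylow 2 G) {u : G} (hu : orderOf u = 2) :
    ∃ a : G, a * u * a⁻¹ ∈ (P : Subgroup G) := by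
  haveI : Fact (Nat.Prime 2) := ⟨Nat.prime_two⟩
  have hz : IsPGroup 2 (zpowers u) := IsPGroup.of_card (n := 1) (by rw [Nat.card_zpowers, hu, pow_one])
  obtain ⟨S, hS⟩ := hz.exists_le_sylow
  obtain ⟨a, ha⟩ := MulAction.exists_smul_eq G S P
  exact ⟨a, by rw [← ha]; exact smul_mem_pointwise_smul u (MulAut.conj a) _ (hS (mem_zpowers u))⟩

theorem retract {G : Type*} [Group G] [Finite G] (P : Sylow 2 G) (h : Cfsg.HasNormalPComplement 2 G)
    {u v : G} (hu : u ∈ (P : Subgroup G)) (hv : v ∈ (P : Subgroup G)) (huv : IsConj u v) :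
    ∃ w ∈ (P : Subgroup G), w * u * w⁻¹ = v := by
  haveI : Fact (Nat.Prime 2) := ⟨Nat.prime_two⟩
  obtain ⟨g, hg⟩ := isConj_iff.1 huv
  obtain ⟨w, hw, m, hm, rfl⟩ := Cfsg.Lib.Fusion.exists_mul_of_sylow P g
  refine ⟨w, hw, ?_⟩
  have hi := (Cfsg.Lib.Fusion.hasNormalPComplement_iff_inf P).1 h
  have h1 : u⁻¹ * (m * u * m⁻¹) = 1 := by
    rw [← mem_bot, ← hi]
    refine mem_inf.2 ⟨?_, mul_mem (inv_mem hu) ?_⟩
    · rw [show u⁻¹ * (m * u * m⁻¹) = (u⁻¹ * m * u⁻¹⁻¹) * m⁻¹ by group]
      exact mul_mem ((Cfsg.Lib.Fusion.pResidual_normal 2 G).conj_mem m hm u⁻¹) (inv_mem hm)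
    · rw [show m * u * m⁻¹ = w⁻¹ * v * w by rw [← hg]; group]
      exact mul_mem (mul_mem (inv_mem hw) hv) hw
  rw [inv_mul_eq_one] at h1
  conv_lhs => rw [h1]
  rw [← hg]; group

/-- Parity in `ZMod m`. -/
theorem parity {m : ℕ} [NeZero m] (j : ZMod m) : (∃ t, j = 2 * t) ∨ ∃ t, j = 2 * t + 1 := by
  rcases Nat.even_or_odd' j.val with ⟨t, h | h⟩
  · left; exact ⟨t, by rw [← ZMod.natCast_zmod_val j, h]; push_cast; ring⟩
  · right; exact ⟨t, by rw [← ZMod.natCast_zmod_val j, h]; push_cast; ring⟩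

theorem not_odd_two_mul {m : ℕ} (hm : 2 ∣ m) {t : ZMod m} (h : (1 : ZMod m) = 2 * t) : False := by
  have h' := congrArg (ZMod.castHom hm (ZMod 2)) h
  rw [map_one, map_mul, show ZMod.castHom hm (ZMod 2) 2 = 0 by rw [map_ofNat]; rfl, zero_mul] at h'
  exact one_ne_zero h'

theorem trichotomy {G : Type*} [Group G] [Finite G] (P : Sylow 2 G) (k : ℕ) (hk : 2 ≤ k)
    (e : ↥(P : Subgroup G) ≃* DihedralGroup (2 ^ k)) :
    (Nat.card {C : ConjClasses G // ∃ g : G, ConjClasses.mk g = C ∧ orderOf g = 2} = 1 ∧ ∀ N : Subgroup G, N.Normal → N.index ≠ 2) ∨ (Nat.card {C : ConjClasses G // ∃ g : G, ConjClasses.mk g = C ∧ orderOf g = 2} = 2 ∧ (∃ N : Subgroup G, N.Normal ∧ N.index = 2) ∧ ∀ N : Subgroup G, N.Normal → N.index ≠ 4) ∨ (Nat.card {C : ConjClasses G // ∃ g : G, ConjClasses.mk g = C ∧ orderOf g = 2} = 3 ∧ Cfsg.HasNormalPComplement 2 G) := by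
  classical
  haveI : Fact (Nat.Prime 2) := ⟨Nat.prime_two⟩
  set m := 2 ^ k with hm
  haveI : NeZero m := ⟨(Nat.two_pow_pos k).ne'⟩
  have hm4 : 4 ∣ m := hm ▸ pow_dvd_pow 2 hk
  have hm2 : 2 ∣ m := (dvd_mul_right 2 2).trans hm4
  let φ : DihedralGroup m →* G := (P : Subgroup G).subtype.comp e.symm.toMonoidHom
  have hφi : Function.Injective φ := (subtype_injective _).comp e.symm.injective
  have hφP : ∀ d, φ d ∈ (P : Subgroup G) := fun d => (e.symm d).2
  have hφs : ∀ x ∈ (P : Subgroup G), ∃ d, φ d = x := fun x hx => ⟨e ⟨x, hx⟩, by simp [φ]⟩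
  have hφo : ∀ d, orderOf (φ d) = orderOf d := fun d => orderOf_injective φ hφi d
  have hsr : ∀ i, orderOf (φ (DihedralGroup.sr i)) = 2 := fun i => by rw [hφo, DihedralGroup.orderOf_sr]
  have hconj : ∀ i t : ZMod m, IsConj (φ (DihedralGroup.sr i)) (φ (DihedralGroup.sr (i + 2 * t))) := fun i t =>
    isConj_iff.2 ⟨φ (DihedralGroup.r (-t)), by
      rw [← map_inv, ← map_mul, ← map_mul]
      congr 1
      simp only [DihedralGroup.inv_r, DihedralGroup.r_mul_sr, DihedralGroup.sr_mul_r]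
      congr 1
      ring⟩
  have hz0 : ∀ j : ZMod m, orderOf (DihedralGroup.r j) = 2 → ∃ t, j = 2 * t := by
    intro j hj
    refine (parity j).resolve_right ?_
    rintro ⟨t, rfl⟩
    have h1 : (DihedralGroup.r (2 * t + 1) : DihedralGroup m) ^ 2 = 1 := hj ▸ pow_orderOf_eq_one _
    rw [DihedralGroup.r_pow, DihedralGroup.one_def, DihedralGroup.r.injEq] at h1
    obtain ⟨c, hc⟩ := hm4
    have h2 := congrArg (ZMod.castHom (show 4 ∣ m from ⟨c, hc⟩) (ZMod 4)) h1
    simp only [map_mul, map_add, map_one, map_zero, map_natCast, map_ofNat] at h2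
    revert h2
    generalize ZMod.castHom (show 4 ∣ m from ⟨c, hc⟩) (ZMod 4) t = u
    revert u
    decide
  set z := φ (DihedralGroup.r ((2 ^ (k - 1) : ℕ) : ZMod m)) with hzdef
  have hmk : m = 2 ^ (k - 1) * 2 := by rw [hm, ← pow_succ, Nat.sub_add_cancel (by omega)]
  have hzo : orderOf z = 2 := by
    rw [hzdef, hφo, DihedralGroup.orderOf_r, ZMod.val_natCast_of_lt (by have := pow_pos Nat.two_pos (k - 1); omega)]
    rw [Nat.gcd_eq_right ⟨2, hmk⟩, hmk, Nat.mul_div_cancel_left _ (pow_pos Nat.two_pos _)]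
  have hrinv : ∀ j : ZMod m, orderOf (DihedralGroup.r j) = 2 → φ (DihedralGroup.r j) = z := by
    intro j hj
    have h1 : (DihedralGroup.r j : DihedralGroup m) ^ 2 = 1 := hj ▸ pow_orderOf_eq_one _
    rw [DihedralGroup.r_pow, DihedralGroup.one_def, DihedralGroup.r.injEq] at h1
    have h2 : ((j.val * 2 : ℕ) : ZMod m) = 0 := by push_cast; rw [ZMod.natCast_zmod_val]; exact_mod_cast h1
    obtain ⟨c, hc⟩ := (ZMod.natCast_eq_zero_iff _ _).1 h2
    have hc' : j.val = 2 ^ (k - 1) * c := Nat.eq_of_mul_eq_mul_right Nat.two_pos (by rw [hc, hmk]; ring)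
    have hlt := j.val_lt
    rw [hc', hmk] at hlt
    have hc2 : c < 2 := Nat.lt_of_mul_lt_mul_left hlt
    interval_cases c
    · exfalso
      rw [mul_zero, ZMod.val_eq_zero] at hc'
      rw [hc', ← DihedralGroup.one_def, orderOf_one] at hj
      norm_num at hj
    · rw [hzdef, ← ZMod.natCast_zmod_val j, hc', mul_one]
  -- every involution is conjugate to an element of the normal form
  have hinto : ∀ x : G, orderOf x = 2 → IsConj x z ∨ ∃ i, IsConj x (φ (DihedralGroup.sr i)) := by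
    intro x hx
    obtain ⟨a, ha⟩ := conj_into P hx
    obtain ⟨d, hd⟩ := hφs _ ha
    have hdo : orderOf d = 2 := by
      rw [← hφo, hd, show a * x * a⁻¹ = MulAut.conj a x from rfl, MulEquiv.orderOf_eq, hx]
    have hc : IsConj x (φ d) := isConj_iff.2 ⟨a, hd.symm⟩
    cases d with
    | r j => exact Or.inl (hrinv j hdo ▸ hc)
    | sr i => exact Or.inr ⟨i, hc⟩
  haveI : Finite (ConjClasses G) := Quotient.finite _
  have hcount : ∀ S : Finset (ConjClasses G), (∀ C ∈ S, ∃ g : G, ConjClasses.mk g = C ∧ orderOf g = 2) →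
      (∀ x : G, orderOf x = 2 → ConjClasses.mk x ∈ S) →
      Nat.card {C : ConjClasses G // ∃ g : G, ConjClasses.mk g = C ∧ orderOf g = 2} = S.card := by
    intro S h1 h2
    rw [← Nat.card_eq_finsetCard]
    refine Nat.card_congr (Equiv.subtypeEquivRight fun C => ⟨?_, h1 C⟩)
    rintro ⟨g, rfl, hg⟩
    exact h2 g hg
  by_cases hnpc : Cfsg.HasNormalPComplement 2 G
  · refine Or.inr (Or.inr ⟨?_, hnpc⟩)
    have hkey : ∀ d d' : DihedralGroup m, IsConj (φ d) (φ d') → ∃ c, c * d * c⁻¹ = d' := by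
      intro d d' h
      obtain ⟨w, hw, hwd⟩ := retract P hnpc (hφP d) (hφP d') h
      obtain ⟨c, rfl⟩ := hφs w hw
      exact ⟨c, hφi (by rw [map_mul, map_mul, map_inv, hwd])⟩
    rw [hcount {ConjClasses.mk z, ConjClasses.mk (φ (DihedralGroup.sr 0)), ConjClasses.mk (φ (DihedralGroup.sr 1))}]
    · rw [Finset.card_eq_three]
      refine ⟨_, _, _, ?_, ?_, ?_, rfl⟩
      · intro h
        obtain ⟨c, hc⟩ := hkey _ _ (ConjClasses.mk_eq_mk_iff_isConj.1 h)
        cases c <;> simp [DihedralGroup.r_mul_r, DihedralGroup.r_mul_sr, DihedralGroup.sr_mul_r, DihedralGroup.sr_mul_sr] at hc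
      · intro h
        obtain ⟨c, hc⟩ := hkey _ _ (ConjClasses.mk_eq_mk_iff_isConj.1 h)
        cases c <;> simp [DihedralGroup.r_mul_r, DihedralGroup.r_mul_sr, DihedralGroup.sr_mul_r, DihedralGroup.sr_mul_sr] at hc
      · intro h
        obtain ⟨c, hc⟩ := hkey _ _ (ConjClasses.mk_eq_mk_iff_isConj.1 h)
        cases c with
        | r t =>
          simp only [DihedralGroup.inv_r, DihedralGroup.r_mul_sr, DihedralGroup.sr_mul_r, DihedralGroup.sr.injEq] at hc
          exact not_odd_two_mul hm2 (t := -t) (by rw [← hc]; ring)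
        | sr t =>
          simp only [DihedralGroup.inv_sr, DihedralGroup.sr_mul_sr, DihedralGroup.r_mul_sr, DihedralGroup.sr.injEq] at hc
          exact not_odd_two_mul hm2 (t := t) (by rw [← hc]; ring)
    · intro C hC
      simp only [Finset.mem_insert, Finset.mem_singleton] at hC
      rcases hC with rfl | rfl | rfl
      exacts [⟨_, rfl, hzo⟩, ⟨_, rfl, hsr 0⟩, ⟨_, rfl, hsr 1⟩]
    · intro x hx
      simp only [Finset.mem_insert, Finset.mem_singleton]
      rcases hinto x hx with h | ⟨i, h⟩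
      · exact Or.inl (ConjClasses.mk_eq_mk_iff_isConj.2 h)
      · right
        rcases parity i with ⟨t, rfl⟩ | ⟨t, rfl⟩
        · left
          refine ConjClasses.mk_eq_mk_iff_isConj.2 (h.trans (IsConj.symm ?_))
          have := hconj 0 t
          rwa [zero_add] at this
        · right
          refine ConjClasses.mk_eq_mk_iff_isConj.2 (h.trans (IsConj.symm ?_))
          have := hconj 1 t
          rwa [add_comm] at this
  -- no normal complement
  set N := Cfsg.pResidual 2 G with hN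
  haveI hNn : N.Normal := Cfsg.Lib.Fusion.pResidual_normal 2 G
  let T0 : Subgroup N := (P : Subgroup G).subgroupOf N
  have hT0p : IsPGroup 2 T0 := P.isPGroup'.comap_of_injective N.subtype N.subtype_injective
  have hT0i : ¬ 2 ∣ T0.index := Cfsg.Lib.Local.not_dvd_relIndex_of_normal P N
  let T : Sylow 2 N := hT0p.toSylow hT0i
  have hOT : Cfsg.pResidual 2 N = ⊤ := Cfsg.Lib.Fusion.pResidual_pResidual 2 G
  let Qd : Subgroup (DihedralGroup m) := zpowers (DihedralGroup.r 1)
  haveI : IsCyclic (Qd.map φ) := (Qd.equivMapOfInjective φ hφi).isCyclic.1 inferInstance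
  set Q : Subgroup N := (Qd.map φ).subgroupOf N with hQ
  haveI : IsCyclic Q := isCyclic_of_injective
    ((MonoidHom.codRestrict (N.subtype.comp Q.subtype) (Qd.map φ) fun q => q.2 : Q →* Qd.map φ))
    (fun a b h => Subtype.ext (Subtype.ext (congrArg Subtype.val h :)))
  have hQmem : ∀ d, φ d ∈ Qd.map φ ↔ ∃ j, d = DihedralGroup.r j := by
    intro d
    rw [Subgroup.mem_map_iff_mem hφi]
    constructor
    · intro h
      obtain ⟨a, rfl⟩ := mem_powers_iff_mem_zpowers.2 h
      exact ⟨_, DihedralGroup.r_one_pow a⟩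
    · rintro ⟨j, rfl⟩
      refine mem_zpowers_iff.2 ⟨(j.val : ℤ), ?_⟩
      rw [zpow_natCast, DihedralGroup.r_one_pow, ZMod.natCast_zmod_val]
  obtain ⟨i, hi⟩ : ∃ i, φ (DihedralGroup.sr i) ∈ N := by
    by_contra hh
    push Not at hh
    apply hnpc
    have hTc : IsCyclic (T : Subgroup N) := by
      refine isCyclic_of_le (H := (T : Subgroup N)) (H' := Q) fun u hu => ?_
      obtain ⟨d, hd⟩ : ∃ d, φ d = (u : G) := hφs _ (hu : (u : G) ∈ (P : Subgroup G))
      refine mem_subgroupOf.2 ?_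
      rw [← hd]
      refine (hQmem d).2 ?_
      cases d with
      | r j => exact ⟨j, rfl⟩
      | sr i => exact absurd (hd ▸ u.2) (hh i)
    have hN' : Cfsg.HasNormalPComplement 2 N :=
      Cfsg.Lib.Local.FixedOrder.hasNormalPComplement_of_cyclic (fun q hq _ => hq.two_le) T hTc
    rw [Cfsg.Lib.Fusion.hasNormalPComplement_iff_coprime, hOT, Subgroup.card_top] at hN'
    rw [Cfsg.Lib.Fusion.hasNormalPComplement_iff_coprime]
    exact hN'
  have hr2 : ∀ t : ZMod m, φ (DihedralGroup.r (2 * t)) ∈ N := by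
    intro t
    have h1 : φ (DihedralGroup.r t) * φ (DihedralGroup.sr i) * (φ (DihedralGroup.r t))⁻¹ * φ (DihedralGroup.sr i) ∈ N :=
      mul_mem (hNn.conj_mem _ hi _) hi
    rw [← map_inv, ← map_mul, ← map_mul, ← map_mul] at h1
    simp only [DihedralGroup.inv_r, DihedralGroup.r_mul_sr, DihedralGroup.sr_mul_r, DihedralGroup.sr_mul_sr] at h1
    convert h1 using 3
    ring
  have hQT : Q.relIndex (T : Subgroup N) = 2 := by
    rw [relIndex, index_eq_two_iff]
    refine ⟨⟨⟨φ (DihedralGroup.sr i), hi⟩, hφP _⟩, fun b => ?_⟩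
    obtain ⟨d, hd⟩ : ∃ d, φ d = ((b : N) : G) := hφs _ (b.2 : ((b : N) : G) ∈ (P : Subgroup G))
    show Xor' (((b : N) : G) * φ (DihedralGroup.sr i) ∈ Qd.map φ) (((b : N) : G) ∈ Qd.map φ)
    rw [← hd, ← map_mul, hQmem, hQmem]
    cases d with
    | r j => exact Or.inr ⟨⟨j, rfl⟩, by rintro ⟨x, hx⟩; rw [DihedralGroup.r_mul_sr] at hx; cases hx⟩
    | sr j => exact Or.inl ⟨⟨i - j, DihedralGroup.sr_mul_sr j i⟩, by rintro ⟨x, hx⟩; cases hx⟩
  have hQle : Q ≤ (T : Subgroup N) := fun u hu => by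
    obtain ⟨d, -, hd⟩ := mem_subgroupOf.1 hu
    exact (hd ▸ hφP d : (u : G) ∈ (P : Subgroup G))
  have hone : ∀ x y : G, x ∈ N → y ∈ N → orderOf x = 2 → orderOf y = 2 → IsConj x y := by
    intro x y hx hy hxo hyo
    obtain ⟨g, hg⟩ := one_class T Q hQle hQT hOT ⟨x, hx⟩ ⟨y, hy⟩ (by rwa [Subgroup.orderOf_mk])
      (by rwa [Subgroup.orderOf_mk])
    exact isConj_iff.2 ⟨g, congrArg Subtype.val hg⟩
  have hzN : z ∈ N := by
    obtain ⟨t, ht⟩ := hz0 _ ((hφo _).symm.trans hzo)
    rw [hzdef, ht]; exact hr2 t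
  by_cases htop : N = ⊤
  · refine Or.inl ⟨?_, fun M hM hMi => ?_⟩
    · rw [hcount {ConjClasses.mk z}, Finset.card_singleton]
      · intro C hC
        rw [Finset.mem_singleton] at hC
        exact ⟨z, hC.symm, hzo⟩
      · intro x hx
        rw [Finset.mem_singleton]
        exact ConjClasses.mk_eq_mk_iff_isConj.2 (hone x z (htop ▸ mem_top x) hzN hx hzo)
    · haveI := hM
      have h := Cfsg.Lib.Fusion.pResidual_le_of_isPGroup_quotient M
        (IsPGroup.of_card (n := 1) (by rw [← index_eq_card, hMi, pow_one]) : IsPGroup 2 (G ⧸ M))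
      rw [← hN, htop, top_le_iff] at h
      rw [h, index_top] at hMi
      omega
  have hr1 : φ (DihedralGroup.r 1) ∉ N := by
    intro h
    refine htop (eq_top_iff.2 ?_)
    refine (Cfsg.Lib.Fusion.sylow_sup_pResidual P).ge.trans (sup_le (fun x hx => ?_) le_rfl)
    obtain ⟨d, rfl⟩ := hφs x hx
    have hrj : ∀ j : ZMod m, φ (DihedralGroup.r j) ∈ N := fun j => by
      rw [show DihedralGroup.r j = (DihedralGroup.r 1 : DihedralGroup m) ^ j.val by
        rw [DihedralGroup.r_one_pow, ZMod.natCast_zmod_val], map_pow]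
      exact pow_mem h _
    cases d with
    | r j => exact hrj j
    | sr j =>
      rw [show (DihedralGroup.sr j : DihedralGroup m) = DihedralGroup.sr i * DihedralGroup.r (j - i) by
        rw [DihedralGroup.sr_mul_r]; congr 1; ring, map_mul]
      exact mul_mem hi (hrj _)
  have hPdec : ∀ x ∈ (P : Subgroup G), x ∈ N ∨ x * φ (DihedralGroup.r 1) ∈ N := by
    intro x hx
    obtain ⟨d, rfl⟩ := hφs x hx
    rw [← map_mul]
    cases d with
    | r j =>
      rcases parity j with ⟨t, rfl⟩ | ⟨t, rfl⟩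
      · exact Or.inl (hr2 t)
      · refine Or.inr ?_
        rw [DihedralGroup.r_mul_r, show 2 * t + 1 + 1 = 2 * (t + 1) by ring]
        exact hr2 _
    | sr j =>
      rcases parity (j - i) with ⟨t, ht⟩ | ⟨t, ht⟩
      · refine Or.inl ?_
        rw [show (DihedralGroup.sr j : DihedralGroup m) = DihedralGroup.sr i * DihedralGroup.r (j - i) by
          rw [DihedralGroup.sr_mul_r]; congr 1; ring, map_mul, ht]
        exact mul_mem hi (hr2 t)
      · refine Or.inr ?_
        rw [DihedralGroup.sr_mul_r, show (DihedralGroup.sr (j + 1) : DihedralGroup m) = DihedralGroup.sr i * DihedralGroup.r (j - i + 1) by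
          rw [DihedralGroup.sr_mul_r]; congr 1; ring, map_mul, ht, show 2 * t + 1 + 1 = 2 * (t + 1) by ring]
        exact mul_mem hi (hr2 _)
  have hidx : N.index = 2 := by
    rw [index_eq_two_iff]
    refine ⟨φ (DihedralGroup.r 1), fun b => ?_⟩
    obtain ⟨x, hx, u, hu, rfl⟩ := Cfsg.Lib.Fusion.exists_mul_of_sylow P b
    have h1 : x * u ∈ N ↔ x ∈ N := mul_mem_cancel_right hu
    have h2 : x * u * φ (DihedralGroup.r 1) ∈ N ↔ x * φ (DihedralGroup.r 1) ∈ N := by
      rw [show x * u * φ (DihedralGroup.r 1) =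
        x * φ (DihedralGroup.r 1) * ((φ (DihedralGroup.r 1))⁻¹ * u * φ (DihedralGroup.r 1)) by group]
      refine mul_mem_cancel_right ?_
      have := hNn.conj_mem u hu (φ (DihedralGroup.r 1))⁻¹
      rwa [inv_inv] at this
    show Xor' (x * u * φ (DihedralGroup.r 1) ∈ N) (x * u ∈ N)
    rw [h1, h2]
    rcases hPdec x hx with h | h
    · exact Or.inr ⟨h, fun h' => hr1 ((mul_mem_cancel_left h).1 h')⟩
    · exact Or.inl ⟨h, fun h' => hr1 ((mul_mem_cancel_left h').1 h)⟩
  refine Or.inr (Or.inl ⟨?_, ⟨N, hNn, hidx⟩, fun M hM hMi => ?_⟩)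
  · have hi1 : φ (DihedralGroup.sr (i + 1)) ∉ N := by
      intro h
      apply hr1
      have := mul_mem hi h
      rwa [← map_mul, DihedralGroup.sr_mul_sr, show i + 1 - i = 1 by ring] at this
    rw [hcount {ConjClasses.mk z, ConjClasses.mk (φ (DihedralGroup.sr (i + 1)))}]
    · rw [Finset.card_pair]
      intro h
      obtain ⟨g, hg⟩ := isConj_iff.1 (ConjClasses.mk_eq_mk_iff_isConj.1 h)
      exact hi1 (hg ▸ hNn.conj_mem z hzN g)
    · intro C hC
      simp only [Finset.mem_insert, Finset.mem_singleton] at hC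
      rcases hC with rfl | rfl
      exacts [⟨_, rfl, hzo⟩, ⟨_, rfl, hsr _⟩]
    · intro x hx
      simp only [Finset.mem_insert, Finset.mem_singleton]
      rcases hinto x hx with h | ⟨j, h⟩
      · exact Or.inl (ConjClasses.mk_eq_mk_iff_isConj.2 h)
      rcases parity (j - (i + 1)) with ⟨t, ht⟩ | ⟨t, ht⟩
      · right
        refine ConjClasses.mk_eq_mk_iff_isConj.2 (h.trans (IsConj.symm ?_))
        have := hconj (i + 1) t
        rwa [← ht, add_sub_cancel] at this
      · left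
        refine ConjClasses.mk_eq_mk_iff_isConj.2 (h.trans (hone _ _ ?_ hzN (hsr _) hzo))
        rw [show (DihedralGroup.sr j : DihedralGroup m) = DihedralGroup.sr i * DihedralGroup.r (2 * (t + 1)) by
          rw [DihedralGroup.sr_mul_r]; congr 1; linear_combination ht, map_mul]
        exact mul_mem hi (hr2 _)
  · haveI := hM
    have h := Cfsg.Lib.Fusion.pResidual_le_of_isPGroup_quotient M
      (IsPGroup.of_card (n := 2) (by rw [← index_eq_card, hMi]; norm_num) : IsPGroup 2 (G ⧸ M))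
    have h2 := index_dvd_of_le h
    rw [← hN, hidx, hMi] at h2
    omega

/-- Let G be a finite group whose Sylow 2-subgroups are dihedral of order 2 ^ n with n ≥ 3, and count the conjugacy classes of involutions of G. Then exactly one of the following holds: there is one class of involutions and no normal subgroup of index 2; there are two classes of involutions, a normal subgroup of index 2 and none of index 4; there are three classes of involutions and G has a normal 2-complement. -/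
theorem result {G : Type*} [Group G] [Finite G] (P : Sylow 2 G) (n : ℕ) (hn : 3 ≤ n) (hdih : Nonempty (↥(P : Subgroup G) ≃* DihedralGroup (2 ^ (n - 1)))) : (Nat.card {C : ConjClasses G // ∃ g : G, ConjClasses.mk g = C ∧ orderOf g = 2} = 1 ∧ ∀ N : Subgroup G, N.Normal → N.index ≠ 2) ∨ (Nat.card {C : ConjClasses G // ∃ g : G, ConjClasses.mk g = C ∧ orderOf g = 2} = 2 ∧ (∃ N : Subgroup G, N.Normal ∧ N.index = 2) ∧ ∀ N : Subgroup G, N.Normal → N.index ≠ 4) ∨ (Nat.card {C : ConjClasses G // ∃ g : G, ConjClasses.mk g = C ∧ orderOf g = 2} = 3 ∧ Cfsg.HasNormalPComplement 2 G) := by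
  obtain ⟨e⟩ := hdih
  exact trichotomy P (n - 1) (by omega) e

end Cfsg.Agent.S3864
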