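import Cfsg.Statements.S0508
import Cfsg.Agent.Lib.BSW.Psl
import Cfsg.Agent.Lib.BSW.Small
import Cfsg.Agent.Lib.Core.Cores
import Cfsg.Agent.S3864
import Cfsg.Agent.S0514
import Mathlib.GroupTheory.SpecificGroups.Dihedral
-- import your own Cfsg.Agent.* helpers here

set_option autoImplicit false
open Cfsg

namespace Cfsg.Agent.S0508

/-- In a dihedral `2`-group a cyclic subgroup of index two is inverted from outside. -/
theorem dihedral_outside {n : ℕ} (hn : 2 ≤ n) (R : Subgroup (DihedralGroup n)) (hcyc : IsCyclic ↥R)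
    (hR : R.index = 2) {x : DihedralGroup n} (hx : x ∉ R) :
    x * x = 1 ∧ ∀ a ∈ R, x * a * x⁻¹ = a⁻¹ := by
  haveI : NeZero n := ⟨by omega⟩
  have hRc : Nat.card R = n := by
    have h := R.index_mul_card
    rw [hR, DihedralGroup.nat_card] at h
    omega
  by_cases h2 : n = 2
  · subst h2
    refine ⟨?_, ?_⟩
    · exact (by decide : ∀ y : DihedralGroup 2, y * y = 1) x
    · intro a _
      exact (by decide : ∀ y z : DihedralGroup 2, y * z * y⁻¹ = z⁻¹) x a
  have hrot : ∀ i : ZMod n, DihedralGroup.r i ∈ R := by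
    obtain ⟨g, hg⟩ := hcyc.exists_generator
    have hgo : orderOf (g : DihedralGroup n) = n := by
      rw [Subgroup.orderOf_coe, orderOf_eq_card_of_forall_mem_zpowers hg, hRc]
    obtain ⟨j, hj⟩ : ∃ j, (g : DihedralGroup n) = DihedralGroup.r j := by
      rcases hg0 : (g : DihedralGroup n) with j | j
      · exact ⟨j, rfl⟩
      · rw [hg0, DihedralGroup.orderOf_sr] at hgo; omega
    have hsub : R = Subgroup.zpowers (DihedralGroup.r (1 : ZMod n)) := by
      refine Subgroup.eq_of_le_of_card_ge (fun a ha => ?_)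
        (by rw [Nat.card_zpowers, DihedralGroup.orderOf_r_one, hRc])
      obtain ⟨i, hi⟩ := hg ⟨a, ha⟩
      have hi' : (g : DihedralGroup n) ^ i = a := congrArg Subtype.val hi
      rw [← hi']
      refine Subgroup.zpow_mem _ ?_ i
      rw [hj]
      exact ⟨(j.val : ℤ), by simp [DihedralGroup.r_one_pow]⟩
    intro i
    rw [hsub]
    exact ⟨(i.val : ℤ), by simp [DihedralGroup.r_one_pow]⟩
  have hxs : ∃ i, x = DihedralGroup.sr i := by
    rcases hx0 : x with i | i
    · exact absurd (hx0 ▸ hrot i) hx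
    · exact ⟨i, rfl⟩
  obtain ⟨i, rfl⟩ := hxs
  refine ⟨DihedralGroup.sr_mul_self i, fun a ha => ?_⟩
  rcases a with j | j
  · simp [DihedralGroup.inv_r, DihedralGroup.inv_sr, DihedralGroup.sr_mul_r, DihedralGroup.sr_mul_sr]
  · exfalso
    refine hx ?_
    have := R.mul_mem ha (hrot (i - j))
    simpa [DihedralGroup.sr_mul_r] using this

open Subgroup in
/-- The context of the abstract theorem. -/
theorem exists_ctx {G : Type*} [Group G] [Finite G] [IsSimpleGroup G] (S : Sylow 2 G) (n : ℕ)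
    (hn : 2 ≤ n) (e : (S : Subgroup G) ≃* DihedralGroup n) (t : G) (ht : orderOf t = 2)
    (htS : t ∈ (S : Subgroup G))
    (htZ : ∀ s ∈ (S : Subgroup G), s * t = t * s) (O : Subgroup G)
    (hO : O = (Cfsg.oddCore (Subgroup.centralizer ({t} : Set G))).map
      (Subgroup.centralizer ({t} : Set G)).subtype)
    (ha : O ≠ ⊥ →
      IsCyclic ((S : Subgroup G) ⊓ Subgroup.centralizer (O : Set G) : Subgroup G) ∧
        ((S : Subgroup G) ⊓ Subgroup.centralizer (O : Set G)).relIndex (S : Subgroup G) = 2)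
    (hb : ∀ s ∈ (S : Subgroup G), s ∉ Subgroup.centralizer (O : Set G) →
      ∀ y ∈ O, s * y * s⁻¹ = y⁻¹)
    (hc : ∀ Y : Subgroup G, Y ≤ O → Y ≠ ⊥ →
      Subgroup.normalizer (Y : Set G) ≤ Subgroup.centralizer ({t} : Set G)) :
    Nonempty (Cfsg.Lib.BSW.Ctx G) := by
  classical
  haveI : Fact (Nat.Prime 2) := ⟨Nat.prime_two⟩
  haveI : NeZero n := ⟨by omega⟩
  set C := centralizer ({t} : Set G) with hC
  have hmemC : ∀ x : G, x ∈ C ↔ x * t = t * x := fun x => mem_centralizer_singleton_iff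
  have ht1 : t ≠ 1 := fun h => by rw [h, orderOf_one] at ht; omega
  have ht2 : t * t = 1 := by rw [← pow_two, ← ht, pow_orderOf_eq_one]
  have hSC : (S : Subgroup G) ≤ C := fun s hs => (hmemC s).2 (htZ s hs)
  have hOC : O ≤ C := by
    rintro x hx
    rw [hO] at hx
    obtain ⟨y, -, rfl⟩ := hx
    exact y.2
  have hScard : Nat.card (S : Subgroup G) = 2 * n := by
    rw [Nat.card_congr e.toEquiv, DihedralGroup.nat_card]
  have hOodd : Odd (Nat.card O) := by
    rw [hO, card_map_of_injective C.subtype_injective]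
    exact Nat.coprime_two_right.1 (Cfsg.Lib.Core.pPrimeCore_coprime 2 ↥C)
  have hsplit : ∀ x ∈ C, ∃ o ∈ O, ∃ s ∈ (S : Subgroup G), o * s = x := by
    intro x hx
    obtain ⟨N, hNn, hNodd, k, hk⟩ := Cfsg.Agent.S0514.result S n hn ⟨e⟩ t ht
    haveI := hNn
    have hNO : N.map C.subtype ≤ O := by
      rw [hO]
      exact Subgroup.map_mono (Cfsg.Lib.Core.le_pPrimeCore (Nat.coprime_two_right.2 hNodd))
    have hcard : N.index ≤ Nat.card ((S : Subgroup G).subgroupOf C) := by
      rw [Nat.card_congr (subgroupOfEquivOfLe hSC).toEquiv, hk]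
      refine Nat.le_of_dvd Nat.card_pos (S.pow_dvd_card_of_pow_dvd_card ?_)
      rw [← hk]
      exact (index_dvd_card N).trans (card_subgroup_dvd_card C)
    have hinj : Function.Injective
        (fun a : ↥((S : Subgroup G).subgroupOf C) => (QuotientGroup.mk (a : ↥C) : ↥C ⧸ N)) := by
      intro a b hab
      have hm : (a : ↥C)⁻¹ * b ∈ N := QuotientGroup.eq.1 hab
      have h2 : orderOf ((a : ↥C)⁻¹ * b) ∣ Nat.card N := by
        rw [← Nat.card_zpowers]; exact card_dvd_of_le (zpowers_le.2 hm)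
      obtain ⟨i, hi⟩ := (IsPGroup.iff_orderOf.1 S.isPGroup')
        ⟨(((a : ↥C)⁻¹ * b : ↥C) : G), S.1.mul_mem (S.1.inv_mem a.2) b.2⟩
      rw [Subgroup.orderOf_mk, Subgroup.orderOf_coe] at hi
      rw [hi] at h2
      have hco : Nat.Coprime (2 ^ i) (Nat.card N) := (Nat.coprime_two_left.2 hNodd).pow_left i
      have := orderOf_eq_one_iff.1 (hi.trans (Nat.Coprime.eq_one_of_dvd hco h2))
      exact Subtype.ext (inv_mul_eq_one.1 this)
    have hbij := (Nat.bijective_iff_injective_and_card _).2 ⟨hinj,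
      le_antisymm (Nat.card_le_card_of_injective _ hinj) (by rwa [← index_eq_card])⟩
    obtain ⟨a, ha'⟩ := hbij.2 (QuotientGroup.mk ⟨x, hx⟩)
    have hm : (a : ↥C)⁻¹ * ⟨x, hx⟩ ∈ N := QuotientGroup.eq.1 ha'
    have hm2 := hNn.conj_mem _ hm (a : ↥C)
    refine ⟨_, hNO ⟨_, hm2, rfl⟩, ((a : ↥C) : G), a.2, ?_⟩
    simp [mul_assoc]
  obtain ⟨S1, hS1le, hS1c, hS1i, hS1O, hS1out, hS1t⟩ : ∃ S1 : Subgroup G, S1 ≤ (S : Subgroup G) ∧
      IsCyclic ↥S1 ∧ S1.relIndex (S : Subgroup G) = 2 ∧ (∀ a ∈ S1, ∀ o ∈ O, a * o = o * a) ∧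
      (∀ a ∈ (S : Subgroup G), a ∉ S1 → ∀ o ∈ O, a * o * a⁻¹ = o⁻¹) ∧
      (O = ⊥ → n = 2 → t ∈ S1) := by
    by_cases hbot : O = ⊥
    · let g0 : ↥(S : Subgroup G) := if n = 2 then ⟨t, htS⟩ else e.symm (DihedralGroup.r 1)
      have hg0 : orderOf g0 = n := by
        by_cases h2 : n = 2
        · simp only [g0, if_pos h2]; rw [Subgroup.orderOf_mk, ht, h2]
        · simp only [g0, if_neg h2]; rw [e.symm.orderOf_eq, DihedralGroup.orderOf_r_one]
      let Rot : Subgroup ↥(S : Subgroup G) := zpowers g0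
      refine ⟨Rot.map (S : Subgroup G).subtype, map_subtype_le Rot,
        isCyclic_of_surjective _ ((S : Subgroup G).subtype.subgroupMap_surjective Rot), ?_, ?_, ?_⟩
      · rw [relIndex, show (Rot.map (S : Subgroup G).subtype).subgroupOf (S : Subgroup G) = Rot from
          comap_map_eq_self_of_injective (S : Subgroup G).subtype_injective Rot]
        have h := Rot.index_mul_card
        rw [Nat.card_zpowers, hg0, hScard] at h
        exact Nat.eq_of_mul_eq_mul_right (by omega) h
      · intro a _ o ho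
        rw [hbot, mem_bot] at ho
        simp [ho]
      · refine ⟨?_, fun _ h2 => ⟨⟨t, htS⟩, ?_, rfl⟩⟩
        · intro a _ _ o ho
          rw [hbot, mem_bot] at ho
          simp [ho]
        · have : g0 = ⟨t, htS⟩ := if_pos h2
          exact this ▸ Subgroup.mem_zpowers g0
    · obtain ⟨h1, h2⟩ := ha hbot
      refine ⟨_, inf_le_left, h1, h2, fun a ha' o ho => (mem_centralizer_iff.1 ha'.2 o ho).symm,
        fun a ha' hout => hb a ha' fun h => hout ⟨ha', h⟩, fun h _ => absurd h hbot⟩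
  haveI := hS1c
  -- the dihedral picture
  have hRidx : ((S1.subgroupOf (S : Subgroup G)).map e.toMonoidHom).index = 2 := by
    exact (index_map_equiv _ e).trans hS1i
  haveI hRcyc : IsCyclic ↥((S1.subgroupOf (S : Subgroup G)).map e.toMonoidHom) := by
    haveI : IsCyclic ↥(S1.subgroupOf (S : Subgroup G)) :=
      isCyclic_of_surjective (subgroupOfEquivOfLe hS1le).symm (MulEquiv.surjective _)
    exact isCyclic_of_surjective _ (e.toMonoidHom.subgroupMap_surjective _)
  have hout : ∀ a ∈ (S : Subgroup G), a ∉ S1 →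
      a * a = 1 ∧ ∀ b ∈ S1, a * b * a⁻¹ = b⁻¹ := by
    intro a haS ha1
    have hnot : e ⟨a, haS⟩ ∉ (S1.subgroupOf (S : Subgroup G)).map e.toMonoidHom := by
      rintro ⟨y, hy, hye⟩
      rw [e.injective hye] at hy
      exact ha1 hy
    obtain ⟨h1, h2⟩ := dihedral_outside hn _ hRcyc hRidx hnot
    refine ⟨?_, fun b hb' => ?_⟩
    · rw [← map_mul, e.map_eq_one_iff] at h1
      exact congrArg Subtype.val h1
    · have h3 := h2 (e ⟨b, hS1le hb'⟩) ⟨⟨b, hS1le hb'⟩, hb', rfl⟩
      rw [← map_inv, ← map_inv, ← map_mul, ← map_mul] at h3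
      exact congrArg Subtype.val (e.injective h3)
  obtain ⟨s, hsS, hs1⟩ : ∃ s ∈ (S : Subgroup G), s ∉ S1 := by
    by_contra hno
    push Not at hno
    rw [relIndex_eq_one.2 hno] at hS1i
    omega
  obtain ⟨hs2, hsinv⟩ := hout s hsS hs1
  have hsne : s ≠ 1 := fun h => hs1 (h ▸ S1.one_mem)
  have hS1card : Nat.card S1 = n := by
    have h := Subgroup.relIndex_mul_relIndex ⊥ S1 (S : Subgroup G) bot_le hS1le
    rw [relIndex_bot_left, relIndex_bot_left, hS1i, hScard] at h
    omega
  -- involutions of `S1`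
  have hunique : ∀ a ∈ S1, ∀ b ∈ S1, a ≠ 1 → b ≠ 1 → a * a = 1 → b * b = 1 → a = b := by
    intro a ha' b hb' ha1 hb1 ha2 hb2
    by_contra hab
    haveI := Fintype.ofFinite ↥S1
    have hle := IsCyclic.card_pow_eq_one_le (α := ↥S1) (n := 2) two_pos
    have h3 : ({1, ⟨a, ha'⟩, ⟨b, hb'⟩} : Finset ↥S1).card = 3 := by
      rw [Finset.card_eq_three]
      exact ⟨_, _, _, fun h => ha1 (congrArg Subtype.val h).symm,
        fun h => hb1 (congrArg Subtype.val h).symm, fun h => hab (congrArg Subtype.val h), rfl⟩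
    have hsub : ({1, ⟨a, ha'⟩, ⟨b, hb'⟩} : Finset ↥S1) ⊆
        Finset.univ.filter fun x : ↥S1 => x ^ 2 = 1 := by
      intro x hx
      simp only [Finset.mem_insert, Finset.mem_singleton] at hx
      refine Finset.mem_filter.2 ⟨Finset.mem_univ _, ?_⟩
      rcases hx with rfl | rfl | rfl
      · simp
      · exact Subtype.ext (by rw [SubgroupClass.coe_pow, pow_two]; exact ha2)
      · exact Subtype.ext (by rw [SubgroupClass.coe_pow, pow_two]; exact hb2)
    have := (Finset.card_le_card hsub).trans hle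
    omega
  have htS1 : t ∈ S1 := by
    by_contra h
    obtain ⟨-, htinv⟩ := hout t htS h
    obtain ⟨g, hg⟩ := hS1c.exists_generator
    have h1 : (g : G) * g = 1 := by
      have h2 := htinv g g.2
      rw [← htZ g (hS1le g.2), mul_inv_cancel_right] at h2
      exact mul_eq_one_iff_eq_inv.2 h2
    have hn2 : n = 2 := by
      have h3 : orderOf (g : G) ∣ 2 := orderOf_dvd_of_pow_eq_one (by rw [pow_two, h1])
      rw [Subgroup.orderOf_coe, orderOf_eq_card_of_forall_mem_zpowers hg, hS1card] at h3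
      have := Nat.le_of_dvd two_pos h3
      omega
    -- then `S` has exponent two and `t` would invert and centralise `O`
    by_cases hbot : O = ⊥
    · exact h (hS1t hbot hn2)
    · obtain ⟨o, ho, ho1⟩ := (bot_or_exists_ne_one O).resolve_left hbot
      have h4 := hS1out t htS h o ho
      rw [← (hmemC o).1 (hOC ho), mul_inv_cancel_right] at h4
      have h5 : orderOf o ∣ 2 := orderOf_dvd_of_pow_eq_one (by
        rw [pow_two]; exact mul_eq_one_iff_eq_inv.2 h4)
      have h6 : orderOf o ∣ Nat.card O := by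
        rw [← Nat.card_zpowers]; exact card_dvd_of_le (zpowers_le.2 ho)
      exact ho1 (orderOf_eq_one_iff.1
        (Nat.Coprime.eq_one_of_dvd ((Nat.coprime_two_left.2 hOodd).coprime_dvd_left h5) h6))
  have hsC : s ∈ C := hSC hsS
  have hOinv : ∀ o ∈ O, s * o * s⁻¹ = o⁻¹ := hS1out s hsS hs1
  have hOcomm : ∀ a ∈ O, ∀ b ∈ O, a * b = b * a := by
    intro a ha' b hb'
    have h1 : s * (a * b) * s⁻¹ = (s * a * s⁻¹) * (s * b * s⁻¹) := by group
    rw [hOinv _ (O.mul_mem ha' hb'), hOinv _ ha', hOinv _ hb', mul_inv_rev] at h1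
    have h2 := congrArg Inv.inv h1
    simpa using h2
  have hS1comm : ∀ a ∈ S1, ∀ b ∈ S1, a * b = b * a := fun a ha' b hb' =>
    congrArg Subtype.val ((IsCyclic.commutative (α := ↥S1)).is_comm.comm ⟨a, ha'⟩ ⟨b, hb'⟩)
  have hOS : ∀ x, x ∈ O → x ∈ (S : Subgroup G) → x = 1 := by
    intro x hx hxS
    obtain ⟨i, hi⟩ := IsPGroup.iff_orderOf.1 S.isPGroup' ⟨x, hxS⟩
    rw [Subgroup.orderOf_mk] at hi
    have h6 : orderOf x ∣ Nat.card O := by
      rw [← Nat.card_zpowers]; exact card_dvd_of_le (zpowers_le.2 hx)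
    rw [hi] at h6
    exact orderOf_eq_one_iff.1 (hi.trans
      (Nat.Coprime.eq_one_of_dvd ((Nat.coprime_two_left.2 hOodd).pow_left i) h6))
  let K : Subgroup G :=
    { carrier := {x | ∃ o ∈ O, ∃ a ∈ S1, o * a = x}
      one_mem' := ⟨1, O.one_mem, 1, S1.one_mem, one_mul 1⟩
      mul_mem' := by
        rintro _ _ ⟨o, ho, a, ha', rfl⟩ ⟨p, hp, b, hb', rfl⟩
        refine ⟨o * p, O.mul_mem ho hp, a * b, S1.mul_mem ha' hb', ?_⟩
        calc o * p * (a * b) = o * (p * a) * b := by group
          _ = o * (a * p) * b := by rw [hS1O a ha' p hp]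
          _ = o * a * (p * b) := by group
      inv_mem' := by
        rintro _ ⟨o, ho, a, ha', rfl⟩
        refine ⟨o⁻¹, O.inv_mem ho, a⁻¹, S1.inv_mem ha', ?_⟩
        rw [mul_inv_rev, hS1O a⁻¹ (S1.inv_mem ha') o⁻¹ (O.inv_mem ho)] }
  have hK : ∀ x, x ∈ K ↔ ∃ o ∈ O, ∃ a ∈ S1, o * a = x := fun x => Iff.rfl
  have hKC : K ≤ C := by
    intro x hx
    obtain ⟨o, ho, a, ha', rfl⟩ := (hK x).1 hx
    exact C.mul_mem (hOC ho) (hSC (hS1le ha'))
  have hKsq : ∀ x ∈ K, x * x = 1 → x = 1 ∨ x = t := by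
    intro x hx hx2
    obtain ⟨o, ho, a, ha', rfl⟩ := (hK x).1 hx
    have h1 : o * o * (a * a) = 1 := by
      calc o * o * (a * a) = o * (o * a) * a := by group
        _ = o * (a * o) * a := by rw [hS1O a ha' o ho]
        _ = 1 := by rw [← hx2]; group
    have hoo : o * o = 1 := hOS _ (O.mul_mem ho ho) (by
      rw [eq_inv_of_mul_eq_one_left h1]
      exact S.1.inv_mem (hS1le (S1.mul_mem ha' ha')))
    rw [hoo, one_mul] at h1
    have ho1 : o = 1 := by
      have h5 : orderOf o ∣ 2 := orderOf_dvd_of_pow_eq_one (by rw [pow_two, hoo])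
      have h6 : orderOf o ∣ Nat.card O := by
        rw [← Nat.card_zpowers]; exact card_dvd_of_le (zpowers_le.2 ho)
      exact orderOf_eq_one_iff.1
        (Nat.Coprime.eq_one_of_dvd ((Nat.coprime_two_left.2 hOodd).coprime_dvd_left h5) h6)
    subst ho1
    rw [one_mul]
    by_cases ha1 : a = 1
    · exact Or.inl ha1
    · exact Or.inr (hunique a ha' t htS1 ha1 ht1 h1 ht2)
  have hKcomm : ∀ a ∈ K, ∀ b ∈ K, a * b = b * a := by
    intro x hx y hy
    obtain ⟨o, ho, a, ha', rfl⟩ := (hK x).1 hx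
    obtain ⟨p, hp, b, hb', rfl⟩ := (hK y).1 hy
    calc o * a * (p * b) = o * (a * p) * b := by group
      _ = o * (p * a) * b := by rw [hS1O a ha' p hp]
      _ = o * p * (a * b) := by group
      _ = p * o * (b * a) := by rw [hOcomm o ho p hp, hS1comm a ha' b hb']
      _ = p * (o * b) * a := by group
      _ = p * (b * o) * a := by rw [hS1O b hb' o ho]
      _ = p * b * (o * a) := by group
  have hKinv : ∀ x ∈ K, s * x * s⁻¹ = x⁻¹ := by
    intro x hx
    obtain ⟨o, ho, a, ha', rfl⟩ := (hK x).1 hx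
    rw [show s * (o * a) * s⁻¹ = (s * o * s⁻¹) * (s * a * s⁻¹) by group, hOinv o ho, hsinv a ha',
      mul_inv_rev, hS1O a⁻¹ (S1.inv_mem ha') o⁻¹ (O.inv_mem ho)]
  have htK : t ∈ K := (hK t).2 ⟨1, O.one_mem, t, htS1, one_mul t⟩
  have hsK : s ∉ K := by
    intro h
    obtain ⟨o, ho, a, ha', hoa⟩ := (hK s).1 h
    have ho1 := hOS o ho (by
      rw [eq_mul_inv_of_mul_eq hoa]; exact S.1.mul_mem hsS (S.1.inv_mem (hS1le ha')))
    exact hs1 (by rw [← hoa, ho1, one_mul]; exact ha')
  have hKs : ∀ x ∈ C, x ∈ K ∨ s * x ∈ K := by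
    intro x hx
    obtain ⟨o, ho, a, ha', rfl⟩ := hsplit x hx
    by_cases ha1 : a ∈ S1
    · exact Or.inl ((hK _).2 ⟨o, ho, a, ha1, rfl⟩)
    · right
      have hidx : (S1.subgroupOf (S : Subgroup G)).index = 2 := hS1i
      have hsa : (⟨s, hsS⟩ : ↥(S : Subgroup G)) * ⟨a, ha'⟩ ∈ S1.subgroupOf (S : Subgroup G) := by
        rw [Subgroup.mul_mem_iff_of_index_two hidx]
        exact iff_of_false hs1 ha1
      refine (hK _).2 ⟨o⁻¹, O.inv_mem ho, s * a, hsa, ?_⟩
      rw [← hOinv o ho]; group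
  have hpow : ∀ y ∈ K, y ∉ O → ∃ M : ℕ, y ^ M = t := by
    intro y hy hyO
    obtain ⟨o, ho, a, ha', rfl⟩ := (hK y).1 hy
    have ha1 : a ≠ 1 := fun h => hyO (by rw [h, mul_one]; exact ho)
    set m := Nat.card O
    obtain ⟨i, hi⟩ := IsPGroup.iff_orderOf.1 S.isPGroup' ⟨a, hS1le ha'⟩
    rw [Subgroup.orderOf_mk] at hi
    have hym : (o * a) ^ m = a ^ m := by
      rw [(Commute.mul_pow (show Commute o a from (hS1O a ha' o ho).symm))]
      have : (⟨o, ho⟩ : ↥O) ^ m = 1 := pow_card_eq_one'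
      rw [show o ^ m = 1 from congrArg Subtype.val this, one_mul]
    have hbo : orderOf (a ^ m) = 2 ^ i := by
      rw [Nat.Coprime.orderOf_pow (by rw [hi]; exact (Nat.coprime_two_left.2 hOodd).pow_left i), hi]
    rcases i with _ | i
    · exact absurd (orderOf_eq_one_iff.1 (by rw [hi, pow_zero])) ha1
    refine ⟨m * 2 ^ i, ?_⟩
    rw [pow_mul, hym]
    have hord : orderOf ((a ^ m) ^ (2 ^ i)) = 2 := by
      rw [orderOf_pow_of_dvd (by positivity) (hbo ▸ pow_dvd_pow 2 i.le_succ), hbo, pow_succ,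
        Nat.mul_div_cancel_left _ (by positivity)]
    refine hunique _ (S1.pow_mem (S1.pow_mem ha' m) _) t htS1 (fun e => ?_) ht1 ?_ ht2
    · rw [e, orderOf_one] at hord; omega
    · have h := pow_orderOf_eq_one ((a ^ m) ^ 2 ^ i)
      rwa [hord, pow_two] at h
  have hti : ∀ x y : G, y ∈ K → x * y * x⁻¹ ∈ K → y ≠ 1 → x ∈ C := by
    intro x y hy hxy hy1
    by_cases hyO : y ∈ O
    · by_cases hxyO : x * y * x⁻¹ ∈ O
      · have hy' : x * y * x⁻¹ * t = t * (x * y * x⁻¹) := (hmemC _).1 (hOC hxyO)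
        have hu : x⁻¹ * t * x * y = y * (x⁻¹ * t * x) := by
          calc x⁻¹ * t * x * y = x⁻¹ * (t * (x * y * x⁻¹)) * x := by group
            _ = x⁻¹ * (x * y * x⁻¹ * t) * x := by rw [hy']
            _ = y * (x⁻¹ * t * x) := by group
        have hne : Subgroup.zpowers y ≠ ⊥ := fun e => hy1 (Subgroup.zpowers_eq_bot.1 e)
        have huC : x⁻¹ * t * x ∈ C := hc (zpowers y) (zpowers_le.2 hyO) hne
          (Cfsg.Lib.BSW.mem_normalizer_of_conj fun b hb' => by
            obtain ⟨j, rfl⟩ := mem_zpowers_iff.1 hb'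
            have hcj : Commute (x⁻¹ * t * x) (y ^ j) := (show Commute _ y from hu).zpow_right j
            rw [hcj.eq, mul_inv_cancel_right]
            exact zpow_mem (mem_zpowers y) j)
        have hu2 : x⁻¹ * t * x * (x⁻¹ * t * x) = 1 := by
          calc x⁻¹ * t * x * (x⁻¹ * t * x) = x⁻¹ * (t * t) * x := by group
            _ = 1 := by rw [ht2]; group
        rcases hKs _ huC with h | h
        · rcases hKsq _ h hu2 with e | e
          · exact absurd (show t = 1 by
              calc t = x * (x⁻¹ * t * x) * x⁻¹ := by group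
                _ = 1 := by rw [e]; group) ht1
          · refine (hmemC x).2 ?_
            calc x * t = x * (x⁻¹ * t * x) := by rw [e]
              _ = t * x := by group
        · exfalso
          have hyK := hKcomm _ h y hy
          have h7 : s * y * s⁻¹ = y := by
            have e : s * (x⁻¹ * t * x) * y * (s * (x⁻¹ * t * x))⁻¹ = y := by
              rw [hyK, mul_inv_cancel_right]
            calc s * y * s⁻¹ = s * ((x⁻¹ * t * x) * y * (x⁻¹ * t * x)⁻¹) * s⁻¹ := by
                  rw [hu, mul_inv_cancel_right]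
              _ = y := by conv_rhs => rw [← e]
                          group
          rw [hKinv y hy] at h7
          rcases hKsq y hy (mul_eq_one_iff_eq_inv.2 h7.symm) with e | e
          · exact hy1 e
          · exact ht1 (hOS t (e ▸ hyO) htS)
      · obtain ⟨M, hM⟩ := hpow _ hxy hxyO
        rw [conj_pow] at hM
        rcases hKsq _ (K.pow_mem hy M) (by
          have h2 := congrArg (fun z => x⁻¹ * (z * z) * x) hM
          simpa [ht2, mul_assoc] using h2) with e | e
        · rw [e] at hM; simp at hM; exact absurd hM.symm ht1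
        · rw [e] at hM
          exact (hmemC x).2 (mul_inv_eq_iff_eq_mul.1 hM)
    · obtain ⟨M, hM⟩ := hpow _ hy hyO
      have h2 := K.pow_mem hxy M
      rw [conj_pow, hM] at h2
      rcases hKsq _ h2 (by
        calc x * t * x⁻¹ * (x * t * x⁻¹) = x * (t * t) * x⁻¹ := by group
          _ = 1 := by rw [ht2]; group) with e | e
      · exact absurd (conj_eq_one_iff.1 e) ht1
      · exact (hmemC x).2 (mul_inv_eq_iff_eq_mul.1 e)
  have hres : Cfsg.pResidual 2 G = ⊤ := by
    refine ((Cfsg.Lib.Fusion.pResidual_normal 2 G).eq_bot_or_eq_top).resolve_left fun hbot => ?_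
    have hodd1 : ∀ g : G, Nat.Coprime (orderOf g) 2 → g = 1 := fun g hg => by
      have h : g ∈ Cfsg.pResidual 2 G := Subgroup.subset_closure hg
      rwa [hbot, mem_bot] at h
    have hall : IsPGroup 2 G := by
      refine IsPGroup.iff_orderOf.2 fun g => ⟨(orderOf g).factorization 2, ?_⟩
      have h1 := Nat.ordProj_mul_ordCompl_eq_self (orderOf g) 2
      have h2 : orderOf (g ^ (2 ^ (orderOf g).factorization 2)) =
          orderOf g / 2 ^ (orderOf g).factorization 2 :=
        orderOf_pow_of_dvd (by positivity) (Nat.ordProj_dvd _ _)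
      have h3 : g ^ (2 ^ (orderOf g).factorization 2) = 1 := hodd1 _ (by
        rw [h2]; exact (Nat.coprime_ordCompl Nat.prime_two (orderOf_pos g).ne').symm)
      exact Nat.dvd_antisymm (orderOf_dvd_of_pow_eq_one h3) (Nat.ordProj_dvd _ _)
    haveI : Nontrivial G := ⟨⟨t, 1, ht1⟩⟩
    haveI := hall.center_nontrivial
    have htop : Subgroup.center G = ⊤ :=
      ((inferInstance : (Subgroup.center G).Normal).eq_bot_or_eq_top).resolve_left fun e => by
        obtain ⟨z, hz⟩ := exists_ne (1 : ↥(Subgroup.center G))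
        exact hz (Subtype.ext (by simpa [e] using z.2))
    have hn' : (zpowers t).Normal := ⟨fun a ha' g => by
      have hg : g ∈ Subgroup.center G := htop ▸ mem_top g
      rw [← Subgroup.mem_center_iff.1 hg a, mul_inv_cancel_right]
      exact ha'⟩
    rcases hn'.eq_bot_or_eq_top with h | h
    · exact ht1 (Subgroup.zpowers_eq_bot.1 h)
    · have h2 : Nat.card G = 2 := by rw [← Subgroup.card_top, ← h, Nat.card_zpowers, ht]
      have h3 := card_le_card_group (S : Subgroup G)
      omega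
  refine ⟨{ t := t, s := s, K := K, t_ne := ht1, t_sq := ht2, s_ne := hsne, s_sq := hs2
            K_comm := hKcomm, K_le := hKC, t_mem := htK, s_mem := hsC, s_notMem := hsK
            H_eq := ?_, fix_s := ?_, inv_s := hKinv, ti := hti, conj := ?_ }⟩
  · refine le_antisymm (sup_le hKC (zpowers_le.2 hsC)) fun x hx => ?_
    rcases hKs x hx with h | h
    · exact mem_sup_left h
    · have := (K ⊔ zpowers s).mul_mem (mem_sup_right (mem_zpowers s)) (mem_sup_left h)
      rwa [← mul_assoc, hs2, one_mul] at this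
  · intro x hx hxs
    refine hKsq x hx (mul_eq_one_iff_eq_inv.2 ?_)
    rw [← hKinv x hx, ← hxs, mul_inv_cancel_right]
  · intro x y hx hx2 hy hy2
    have ho : ∀ z : G, z ≠ 1 → z * z = 1 → orderOf z = 2 := fun z h1 h2 =>
      orderOf_eq_prime (by rw [pow_two, h2]) h1
    obtain ⟨g, hg⟩ := Cfsg.Agent.S3864.one_class S S1 hS1le hS1i hres x y (ho x hx hx2) (ho y hy hy2)
    exact isConj_iff.2 ⟨g, hg⟩

/-- Let G be a finite simple group with a dihedral Sylow 2-subgroup S (of order at least 4), t an involution in the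
centre of S, C the centralizer of t and O the core of C (its largest normal subgroup of odd order). Suppose that: if O
is nontrivial then the centralizer of O in S is cyclic of index 2 in S; every element of S not centralizing O inverts
every element of O; and the normalizer of every nontrivial subgroup of O lies in C. Then G is isomorphic to a projective
special linear group of dimension 2 over a field of odd order. -/
theorem result {G : Type*} [Group G] [Finite G] [IsSimpleGroup G] (S : Sylow 2 G) (n : ℕ)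
    (hn : 2 ≤ n) (hS : Nonempty ((S : Subgroup G) ≃* DihedralGroup n)) (t : G) (ht : orderOf t = 2)
    (htS : t ∈ (S : Subgroup G))
    (htZ : ∀ s ∈ (S : Subgroup G), s * t = t * s) (O : Subgroup G)
    (hO : O = (Cfsg.oddCore (Subgroup.centralizer ({t} : Set G))).map (Subgroup.centralizer ({t} : Set G)).subtype)
    (ha : O ≠ ⊥ → IsCyclic ((S : Subgroup G) ⊓ Subgroup.centralizer (O : Set G) : Subgroup G) ∧
      ((S : Subgroup G) ⊓ Subgroup.centralizer (O : Set G)).relIndex (S : Subgroup G) = 2)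
    (hb : ∀ s ∈ (S : Subgroup G), s ∉ Subgroup.centralizer (O : Set G) → ∀ y ∈ O, s * y * s⁻¹ = y⁻¹)
    (hc : ∀ Y : Subgroup G, Y ≤ O → Y ≠ ⊥ → Subgroup.normalizer (Y : Set G) ≤ Subgroup.centralizer ({t} : Set G)) :
    ∃ (F : Type) (_ : Field F) (_ : Fintype F), Odd (Fintype.card F) ∧ Nonempty (G ≃* Matrix.ProjectiveSpecialLinearGroup (Fin 2) F) := by
  obtain ⟨e⟩ := hS
  obtain ⟨c⟩ := exists_ctx S n hn e t ht htS htZ O hO ha hb hc
  haveI := Fintype.ofFinite G
  classical
  by_cases hk : c.k ≤ 2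
  · exact Cfsg.Lib.BSW.psl_of_concl (c.concl_small hk)
  · exact Cfsg.Lib.BSW.psl_of_concl (c.concl_large (by omega))

end Cfsg.Agent.S0508
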