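import Cfsg.Statements.S0107
import Cfsg.Agent.S0111
import Cfsg.Agent.Lib.Core.Basic
import Cfsg.Agent.Lib.Fusion.Basic

set_option autoImplicit false
open Cfsg

namespace Cfsg.Agent.S0107

open Subgroup


/-- A finite group with no nontrivial 2-group quotient and dihedral Sylow 2-subgroups of order at least 8 has a single class of involutions. -/
theorem result {G : Type*} [Group G] [Finite G] (T : Sylow 2 G) (n : ℕ) (hn : 2 ≤ n) (hT : Nonempty ((T : Subgroup G) ≃* DihedralGroup (2 ^ n))) (hO : Cfsg.pResidual 2 G = ⊤) (x y : G) (hx : orderOf x = 2) (hy : orderOf y = 2) : ∃ g : G, g * x * g⁻¹ = y := by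
  classical
  haveI : Fact (Nat.Prime 2) := ⟨Nat.prime_two⟩
  haveI : NeZero (2 ^ n) := ⟨(Nat.two_pow_pos n).ne'⟩
  obtain ⟨e⟩ := hT
  set R : Subgroup (T : Subgroup G) := (zpowers (DihedralGroup.r 1 : DihedralGroup (2 ^ n))).map e.symm.toMonoidHom
  have hRc : Nat.card R = 2 ^ n := by
    rw [card_map_of_injective e.symm.injective, Nat.card_zpowers, DihedralGroup.orderOf_r_one]
  haveI : IsCyclic R := isCyclic_of_surjective
    (e.symm.toMonoidHom.subgroupMap (zpowers (DihedralGroup.r 1 : DihedralGroup (2 ^ n))))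
    (MonoidHom.subgroupMap_surjective _ _)
  set Q : Subgroup G := R.map (T : Subgroup G).subtype with hQ
  haveI : IsCyclic Q := isCyclic_of_surjective ((T : Subgroup G).subtype.subgroupMap R)
    (MonoidHom.subgroupMap_surjective _ _)
  have hQle : Q ≤ (T : Subgroup G) := map_subtype_le R
  have hQi : Q.relIndex (T : Subgroup G) = 2 := by
    have hTc : Nat.card (T : Subgroup G) = 2 * 2 ^ n := (Nat.card_congr e.toEquiv).trans DihedralGroup.nat_card
    have h := Cfsg.Lib.Core.card_mul_relIndex hQle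
    rw [hQ, card_map_of_injective (T : Subgroup G).subtype_injective, hRc, hTc, mul_comm 2] at h
    exact Nat.eq_of_mul_eq_mul_left (Nat.two_pow_pos n) h
  have key : ∀ u : G, orderOf u = 2 → ∃ g : G, g * u * g⁻¹ ∈ Q := by
    intro u hu
    have hz : IsPGroup 2 (zpowers u) := IsPGroup.of_card (n := 1) (by rw [Nat.card_zpowers, hu, pow_one])
    obtain ⟨S, hS⟩ := hz.exists_le_sylow
    obtain ⟨a, ha⟩ := MulAction.exists_smul_eq G S T
    have hv : a * u * a⁻¹ ∈ (T : Subgroup G) := by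
      rw [← ha, Sylow.coe_subgroup_smul, Subgroup.mem_smul_pointwise_iff_exists]
      exact ⟨u, hS (mem_zpowers u), rfl⟩
    by_cases hvQ : a * u * a⁻¹ ∈ Q
    · exact ⟨a, hvQ⟩
    have hvo : orderOf (a * u * a⁻¹) = 2 := hu ▸ (MulAut.conj a).orderOf_eq u
    rcases Cfsg.Agent.S0111.result T Q hQle hQi _ hvo hv hvQ with ⟨M, hM, hMi, hMu⟩ | ⟨g, hg⟩
    · exfalso
      haveI := hM
      have hq : IsPGroup 2 (G ⧸ M) := IsPGroup.of_card (n := 1) (by rw [← index_eq_card, hMi, pow_one])
      have h2 := Cfsg.Lib.Fusion.pResidual_le_of_isPGroup_quotient M hq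
      rw [hO] at h2
      exact hMu (h2 (mem_top _))
    · exact ⟨g * a, by simpa [mul_assoc] using hg⟩
  obtain ⟨g, hg⟩ := key x hx
  obtain ⟨k, hk⟩ := key y hy
  have hgo : orderOf (g * x * g⁻¹) = 2 := hx ▸ (MulAut.conj g).orderOf_eq x
  have hko : orderOf (k * y * k⁻¹) = 2 := hy ▸ (MulAut.conj k).orderOf_eq y
  have h3 : g * x * g⁻¹ = k * y * k⁻¹ := by
    by_contra hne
    haveI := Fintype.ofFinite Q
    have hle := IsCyclic.card_pow_eq_one_le (α := Q) (n := 2) two_pos
    have hsq : ∀ (w : G) (hw : w ∈ Q), orderOf w = 2 → (⟨w, hw⟩ : Q) ^ 2 = 1 := fun w hw ho =>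
      Subtype.ext (by rw [SubgroupClass.coe_pow, ← ho, pow_orderOf_eq_one]; rfl)
    have h3 : ({1, ⟨_, hg⟩, ⟨_, hk⟩} : Finset Q).card = 3 := by
      rw [Finset.card_eq_three]
      refine ⟨_, _, _, ?_, ?_, ?_, rfl⟩
      · intro h
        rw [← show ((1 : Q) : G) = g * x * g⁻¹ from congrArg Subtype.val h, OneMemClass.coe_one, orderOf_one] at hgo
        omega
      · intro h
        rw [← show ((1 : Q) : G) = k * y * k⁻¹ from congrArg Subtype.val h, OneMemClass.coe_one, orderOf_one] at hko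
        omega
      · exact fun h => hne (congrArg Subtype.val h)
    have hsub : ({1, ⟨_, hg⟩, ⟨_, hk⟩} : Finset Q) ⊆ Finset.univ.filter fun a : Q => a ^ 2 = 1 := by
      intro a ha
      simp only [Finset.mem_insert, Finset.mem_singleton] at ha
      refine Finset.mem_filter.2 ⟨Finset.mem_univ _, ?_⟩
      rcases ha with rfl | rfl | rfl
      · simp
      · exact hsq _ hg hgo
      · exact hsq _ hk hko
    have := (Finset.card_le_card hsub).trans hle
    omega
  refine ⟨k⁻¹ * g, ?_⟩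
  calc k⁻¹ * g * x * (k⁻¹ * g)⁻¹ = k⁻¹ * (g * x * g⁻¹) * k := by group
    _ = y := by rw [h3]; group

end Cfsg.Agent.S0107
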