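import Cfsg.Statements.S1254
import Cfsg.Agent.Lib.DihedralAut
import Cfsg.Agent.Lib.Fusion.Alperin
-- import your own Cfsg.Agent.* helpers here

set_option autoImplicit false
open Cfsg

namespace Cfsg.Agent.S1254


open Subgroup
open scoped Pointwise

theorem centralizer_map {G : Type*} [Group G] [Finite G] (Q : Subgroup G) {t : G}
    (ht : t ∈ Subgroup.normalizer (Q : Set G)) :
    (Subgroup.centralizer (Q : Set G)).map (MulAut.conj t).toMonoidHom =
      Subgroup.centralizer (Q : Set G) := by
  refine Subgroup.eq_of_le_of_card_ge ?_ ?_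
  · rintro _ ⟨c, hc, rfl⟩
    rw [Subgroup.mem_centralizer_iff]
    intro q hq
    have hq' : t⁻¹ * q * t ∈ Q := by
      have := (Subgroup.mem_normalizer_iff.mp ((Subgroup.normalizer (Q : Set G)).inv_mem ht) q).mp hq
      simpa using this
    have h1 := Subgroup.mem_centralizer_iff.mp hc _ hq'
    show q * (t * c * t⁻¹) = t * c * t⁻¹ * q
    calc q * (t * c * t⁻¹) = t * ((t⁻¹ * q * t) * c) * t⁻¹ := by group
      _ = t * (c * (t⁻¹ * q * t)) * t⁻¹ := by rw [h1]
      _ = t * c * t⁻¹ * q := by group
  · rw [Subgroup.card_map_of_injective (MulAut.conj t).injective]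

theorem eq_one_or_klein {Q : Type*} [Group Q] [Finite Q] (hQ : IsPGroup 2 Q) {n : ℕ} [NeZero n]
    (φ : Q →* DihedralGroup n) (hφ : Function.Injective φ) :
    IsKleinFour Q ∨ ∀ (σ : MulAut Q) (m : ℕ), Odd m → σ ^ m = 1 → σ = 1 := by
  let rot : Subgroup (DihedralGroup n) := zpowers (DihedralGroup.r 1)
  have hrot : ∀ i : ZMod n, DihedralGroup.r i ∈ rot := fun i => by
    refine ⟨(i.val : ℤ), ?_⟩
    simp [DihedralGroup.r_one_pow]
  have hcyc : IsCyclic (rot.comap φ) :=
    isCyclic_of_injective (φ.subgroupComap rot) fun a b hab =>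
      Subtype.ext (hφ (congrArg (fun z : rot => (z : DihedralGroup n)) hab))
  have hidx : (rot.comap φ).index ≤ 2 := by
    have h1 : rot.index = 2 := by
      have hc := card_mul_index rot
      rw [Nat.card_zpowers, DihedralGroup.orderOf_r_one, DihedralGroup.nat_card, mul_comm 2 n] at hc
      exact Nat.eq_of_mul_eq_mul_left (Nat.pos_of_ne_zero (NeZero.ne n)) hc
    have hn : rot.Normal := normal_of_index_eq_two h1
    rw [index_comap]
    exact Nat.le_of_dvd two_pos (h1 ▸ relIndex_dvd_index_of_normal rot φ.range)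
  have big : ∀ x : Q, x ^ 2 ≠ 1 → ∃ i : ZMod n, φ x = DihedralGroup.r i ∧ i + i ≠ 0 := by
    intro x hx
    rcases hφx : φ x with i | i
    · refine ⟨i, rfl, fun h => hx (hφ ?_)⟩
      rw [map_pow, map_one, hφx, pow_two, DihedralGroup.r_mul_r, h]
      rfl
    · exact absurd (hφ (by rw [map_pow, map_one, hφx, pow_two, DihedralGroup.sr_mul_self])) hx
  by_cases hexp : ∀ x : Q, x ^ 2 = 1
  · have hR : Nat.card (rot.comap φ) ≤ 2 := by
      obtain ⟨g, hg⟩ := IsCyclic.exists_generator (α := rot.comap φ)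
      rw [← orderOf_eq_card_of_forall_mem_zpowers hg]
      exact Nat.le_of_dvd two_pos (orderOf_dvd_of_pow_eq_one (Subtype.ext (hexp _)))
    have hcard : Nat.card Q ≤ 4 := by
      rw [← card_mul_index (rot.comap φ)]
      exact (Nat.mul_le_mul hR hidx).trans (by norm_num)
    obtain ⟨k, hk⟩ := IsPGroup.iff_card.mp hQ
    have hk2 : k ≤ 2 := (Nat.pow_le_pow_iff_right one_lt_two).mp (hk ▸ hcard)
    rcases Nat.lt_or_ge k 2 with hlt | hge
    · right
      intro σ m hm hσ
      haveI : IsCyclic (⊤ : Subgroup Q) := by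
        haveI : IsCyclic Q := by
          interval_cases k
          · haveI := (Nat.card_eq_one_iff_unique.mp (by simpa using hk)).1
            infer_instance
          · haveI : Fact (Nat.Prime 2) := ⟨Nat.prime_two⟩
            exact isCyclic_of_prime_card (p := 2) (by simpa using hk)
        exact isCyclic_of_surjective (Subgroup.topEquiv.symm : Q ≃* (⊤ : Subgroup Q))
          Subgroup.topEquiv.symm.surjective
      exact Cfsg.Lib.DihedralAut.eq_one_of_stable_cyclic hQ σ hm hσ ⊤ (by simp)
        fun q _ => mem_top _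
    · left
      have hk4 : Nat.card Q = 4 := by rw [hk, le_antisymm hk2 hge]; norm_num
      refine ⟨hk4, Nat.dvd_antisymm (Monoid.exponent_dvd_iff_forall_pow_eq_one.mpr hexp) ?_⟩
      haveI : Nontrivial Q := Finite.one_lt_card_iff_nontrivial.mp (by omega)
      obtain ⟨x, hx⟩ := exists_ne (1 : Q)
      have := Monoid.order_dvd_exponent x
      rwa [orderOf_eq_prime (hexp x) hx] at this
  · right
    intro σ m hm hσ
    push Not at hexp
    obtain ⟨w, hw2⟩ := hexp
    have hw : w ∈ rot.comap φ := by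
      obtain ⟨i, hi, -⟩ := big w hw2
      rw [mem_comap, hi]; exact hrot i
    refine Cfsg.Lib.DihedralAut.eq_one_of_stable_cyclic hQ σ hm hσ (rot.comap φ) hidx fun r hr => ?_
    obtain ⟨i, hi, hi2⟩ := big (σ w) fun h => hw2 (σ.injective (by rw [map_pow, h, map_one]))
    rw [mem_comap]
    rcases hx : φ (σ r) with j | j
    · exact hrot j
    · exfalso
      have hcomm : r * w = w * r := by
        apply hφ
        rw [map_mul, map_mul]
        obtain ⟨u, hu⟩ := hr
        obtain ⟨v, hv⟩ := hw
        rw [← hu, ← hv]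
        exact ((Commute.refl _).zpow_zpow u v).eq
      have h2 := congrArg φ (congrArg σ hcomm)
      rw [map_mul, map_mul, map_mul, map_mul, hx, hi, DihedralGroup.sr_mul_r, DihedralGroup.r_mul_sr] at h2
      have h3 : j + i = j - i := by injection h2
      refine hi2 ?_
      rw [sub_eq_add_neg] at h3
      have h4 : i = -i := add_left_cancel h3
      exact eq_neg_iff_add_eq_zero.1 h4


/-- Let X be a finite group whose Sylow 2-subgroup S is dihedral (of order at least 4). Then X has a normal 2-complement if and only if, for every Klein four-subgroup U ≤ S, the normalizer N_X(U) is generated by C_X(U) and N_S(U). -/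
theorem result {X : Type*} [Group X] [Finite X] (S : Sylow 2 X) (m : ℕ) (hm : 2 ≤ m) (eS : (S : Subgroup X) ≃* DihedralGroup m) : Cfsg.HasNormalPComplement 2 X ↔ ∀ U : Subgroup X, U ≤ S → IsKleinFour U → Subgroup.normalizer (U : Set X) = Subgroup.centralizer (U : Set X) ⊔ ((S : Subgroup X) ⊓ Subgroup.normalizer (U : Set X)) := by
  classical
  haveI : Fact (Nat.Prime 2) := ⟨Nat.prime_two⟩
  haveI : NeZero m := ⟨by omega⟩
  constructor
  · intro h U hUS hU
    refine le_antisymm ?_ (sup_le (Subgroup.centralizer_le_normalizer (U : Set X)) inf_le_right)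
    intro n hn
    obtain ⟨P, K, hK, hKP⟩ := h
    haveI := hK
    have hcoK : Nat.Coprime (Nat.card K) 2 := Cfsg.Lib.Fusion.coprime_card_of_complement hKP
    have hKS : K ⊓ (S : Subgroup X) = ⊥ := by
      obtain ⟨j, hj⟩ := S.isPGroup'.exists_card_eq
      apply Subgroup.inf_eq_bot_of_coprime
      rw [hj]
      exact hcoK.pow_right j
    obtain ⟨k, hk, s, hs, rfl⟩ : ∃ k ∈ K, ∃ s ∈ (S : Subgroup X), k * s = n := by
      have htop : K ⊔ (S : Subgroup X) = ⊤ := by
        rw [sup_comm]; exact Cfsg.Lib.Fusion.sylow_sup_eq_top S K (by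
          rw [hKP.symm.index_eq_card]
          exact P.isPGroup'.exists_card_eq)
      have hmem : n ∈ ((K : Set X) * (S : Subgroup X) : Set X) := by
        rw [← Subgroup.normal_mul, htop]; exact Subgroup.mem_top n
      exact Set.mem_mul.mp hmem
    have key : ∀ u ∈ U, k * (s * u * s⁻¹) * k⁻¹ = s * u * s⁻¹ ∧ s * u * s⁻¹ ∈ U := by
      intro u hu
      have h1 : k * s * u * (k * s)⁻¹ ∈ U := (Subgroup.mem_normalizer_iff.mp hn u).mp hu
      have h1' : k * (s * u * s⁻¹) * k⁻¹ ∈ U := by
        have : k * (s * u * s⁻¹) * k⁻¹ = k * s * u * (k * s)⁻¹ := by group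
        rw [this]; exact h1
      have hv : s * u * s⁻¹ ∈ (S : Subgroup X) :=
        mul_mem (mul_mem hs (hUS hu)) ((S : Subgroup X).inv_mem hs)
      have h2 : k * (s * u * s⁻¹) * k⁻¹ * (s * u * s⁻¹)⁻¹ ∈ K ⊓ (S : Subgroup X) := by
        refine ⟨?_, mul_mem (hUS h1') ((S : Subgroup X).inv_mem hv)⟩
        have : k * (s * u * s⁻¹) * k⁻¹ * (s * u * s⁻¹)⁻¹ =
            k * ((s * u * s⁻¹) * k⁻¹ * (s * u * s⁻¹)⁻¹) := by group
        rw [this]
        exact mul_mem hk (hK.conj_mem _ (K.inv_mem hk) _)
      rw [hKS, Subgroup.mem_bot, mul_inv_eq_one] at h2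
      exact ⟨h2, h2 ▸ h1'⟩
    have hsN : s ∈ Subgroup.normalizer (U : Set X) := by
      rw [Subgroup.mem_normalizer_iff_map_conj_eq]
      refine Subgroup.eq_of_le_of_card_ge ?_ ?_
      · rintro _ ⟨u, hu, rfl⟩
        exact (key u hu).2
      · rw [Subgroup.card_map_of_injective (MulAut.conj s).injective]
    have hkC : k ∈ Subgroup.centralizer (U : Set X) := by
      rw [Subgroup.mem_centralizer_iff]
      intro u hu
      have hu' : s⁻¹ * u * s ∈ U := by
        have := (Subgroup.mem_normalizer_iff.mp ((Subgroup.normalizer (U : Set X)).inv_mem hsN) u).mp hu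
        simpa using this
      have h3 := (key _ hu').1
      have e : s * (s⁻¹ * u * s) * s⁻¹ = u := by group
      rw [e, mul_inv_eq_iff_eq_mul] at h3
      exact h3.symm
    exact mul_mem (Subgroup.mem_sup_left hkC) (Subgroup.mem_sup_right ⟨hs, hsN⟩)
  · intro h
    refine (Cfsg.Lib.Fusion.frobenius S).mpr fun Q hQS g hg hco => ?_
    have hodd : Odd (orderOf g) := Nat.coprime_two_right.mp hco
    let φ : ↥Q →* DihedralGroup m := eS.toMonoidHom.comp (Subgroup.inclusion hQS)
    have hφ : Function.Injective φ := eS.injective.comp (Subgroup.inclusion_injective hQS)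
    have hQp : IsPGroup 2 ↥Q := S.isPGroup'.to_le hQS
    rcases eq_one_or_klein hQp φ hφ with hK4 | htriv
    · haveI : ((Subgroup.centralizer (Q : Set X)).subgroupOf
          (Subgroup.normalizer (Q : Set X))).Normal := by
        rw [← Q.normalizerMonoidHom_ker]; infer_instance
      have hg' := hg
      rw [h Q hQS hK4] at hg
      let f := Q.normalizerMonoidHom
      have hle : Subgroup.centralizer (Q : Set X) ⊔
          ((S : Subgroup X) ⊓ Subgroup.normalizer (Q : Set X)) ≤ Subgroup.normalizer (Q : Set X) :=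
        (h Q hQS hK4).ge
      obtain ⟨c, hc, t, ht, rfl⟩ : ∃ c ∈ Subgroup.centralizer (Q : Set X),
          ∃ t ∈ (S : Subgroup X) ⊓ Subgroup.normalizer (Q : Set X), c * t = g := by
        have hmem : g ∈ ((Subgroup.centralizer (Q : Set X) : Set X) *
            ((S : Subgroup X) ⊓ Subgroup.normalizer (Q : Set X) : Subgroup X) : Set X) := by
          rw [← Subgroup.coe_mul_of_right_le_normalizer_left]
          · exact hg
          · intro t ht
            rw [Subgroup.mem_normalizer_iff_map_conj_eq]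
            exact Cfsg.Agent.S1254.centralizer_map Q ht.2
        exact Set.mem_mul.mp hmem
      have hcN : c ∈ Subgroup.normalizer (Q : Set X) := Subgroup.centralizer_le_normalizer (Q : Set X) hc
      have hf : f ⟨c * t, hg'⟩ = f ⟨t, ht.2⟩ := by
        have : (⟨c * t, hg'⟩ : ↥(Subgroup.normalizer (Q : Set X))) = ⟨c, hcN⟩ * ⟨t, ht.2⟩ := rfl
        rw [this, map_mul]
        have h1 : f ⟨c, hcN⟩ = 1 := by
          rw [← MonoidHom.mem_ker, Q.normalizerMonoidHom_ker, Subgroup.mem_subgroupOf]; exact hc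
        rw [h1, one_mul]
      have h1 : f ⟨c * t, hg'⟩ = 1 := by
        obtain ⟨j, hj⟩ := S.isPGroup' ⟨t, ht.1⟩
        have hj' : t ^ 2 ^ j = 1 := congrArg Subtype.val hj
        have d1 : orderOf (f ⟨c * t, hg'⟩) ∣ orderOf (c * t) := by
          refine (orderOf_map_dvd _ _).trans ?_
          rw [Subgroup.orderOf_mk]
        have d2 : orderOf (f ⟨c * t, hg'⟩) ∣ 2 ^ j := by
          rw [hf]
          refine (orderOf_map_dvd _ _).trans ?_
          rw [Subgroup.orderOf_mk]
          exact orderOf_dvd_of_pow_eq_one hj'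
        exact orderOf_eq_one_iff.mp (Nat.eq_one_of_dvd_coprimes (hco.pow_right j) d1 d2)
      rw [← MonoidHom.mem_ker, Q.normalizerMonoidHom_ker, Subgroup.mem_subgroupOf] at h1
      exact h1
    · let σ : MulAut ↥Q := Q.normalizerMonoidHom ⟨g, hg⟩
      have hσm : σ ^ orderOf g = 1 := by
        rw [← map_pow]
        have : (⟨g, hg⟩ : ↥(Subgroup.normalizer (Q : Set X))) ^ orderOf g = 1 :=
          Subtype.ext (pow_orderOf_eq_one g)
        rw [this, map_one]
      have h1 : (⟨g, hg⟩ : ↥(Subgroup.normalizer (Q : Set X))) ∈ Q.normalizerMonoidHom.ker :=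
        MonoidHom.mem_ker.mpr (htriv σ _ hodd hσm)
      rw [Q.normalizerMonoidHom_ker, Subgroup.mem_subgroupOf] at h1
      exact h1

end Cfsg.Agent.S1254
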