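import Cfsg.Statements.S1255
import Cfsg.Agent.S0107
import Cfsg.Agent.S1254
import Cfsg.Agent.Lib.Invol.KleinFour
-- import your own Cfsg.Agent.* helpers here

set_option autoImplicit false
open Cfsg

namespace Cfsg.Agent.S1255


open Subgroup

theorem exists_index_two {G : Type*} [Group G] [Finite G] (N : Subgroup G) [N.Normal] {k : ℕ}
    (hk : N.index = 2 ^ (k + 1)) : ∃ H : Subgroup G, H.index = 2 := by
  haveI : Fact (Nat.Prime 2) := ⟨Nat.prime_two⟩
  have hc : Nat.card (G ⧸ N) = 2 ^ (k + 1) := hk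
  obtain ⟨K, hK⟩ := Sylow.exists_subgroup_card_pow_prime (G := G ⧸ N) 2
    (n := k) (hc ▸ pow_dvd_pow 2 (Nat.le_succ k))
  refine ⟨K.comap (QuotientGroup.mk' N), ?_⟩
  rw [K.index_comap_of_surjective (QuotientGroup.mk'_surjective N)]
  have h := K.card_mul_index
  rw [hK, hc, pow_succ] at h
  exact Nat.eq_of_mul_eq_mul_left (Nat.two_pow_pos k) h

theorem exists_four {G : Type*} [Group G] {u z : G} (hu : u * u = 1) (hz : z * z = 1)
    (hu1 : u ≠ 1) (hz1 : z ≠ 1) (huz : u ≠ z) (hc : u * z = z * u) :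
    ∃ U : Subgroup G, IsKleinFour U ∧ u ∈ U ∧ z ∈ U ∧
      ∀ S : Subgroup G, u ∈ S → z ∈ S → U ≤ S := by
  have hui : u⁻¹ = u := inv_eq_of_mul_eq_one_right hu
  have hzi : z⁻¹ = z := inv_eq_of_mul_eq_one_right hz
  have huz1 : u * z ≠ 1 := fun h => huz (by rw [← inv_eq_of_mul_eq_one_right h, hui])
  have hzu : z * u = u * z := hc.symm
  have hu' : ∀ x : G, u * (u * x) = x := fun x => by rw [← mul_assoc, hu, one_mul]
  have hz' : ∀ x : G, z * (z * x) = x := fun x => by rw [← mul_assoc, hz, one_mul]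
  have hzu' : ∀ x : G, z * (u * x) = u * (z * x) := fun x => by rw [← mul_assoc, hzu, mul_assoc]
  let U : Subgroup G :=
    { carrier := {1, u, z, u * z}
      one_mem' := Set.mem_insert _ _
      mul_mem' := by
        intro a b ha hb
        simp only [Set.mem_insert_iff, Set.mem_singleton_iff] at ha hb ⊢
        rcases ha with rfl | rfl | rfl | rfl <;> rcases hb with rfl | rfl | rfl | rfl <;>
          simp [hu, hz, hzu, hu', hz', hzu', mul_assoc]
      inv_mem' := by
        intro a ha
        simp only [Set.mem_insert_iff, Set.mem_singleton_iff] at ha ⊢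
        rcases ha with rfl | rfl | rfl | rfl <;> simp [hui, hzi, hzu] }
  have hmem : ∀ x : G, x ∈ U ↔ x = 1 ∨ x = u ∨ x = z ∨ x = u * z := fun x => Iff.rfl
  have hcard : Nat.card U = 4 := by
    change Nat.card ({1, u, z, u * z} : Set G) = 4
    rw [Nat.card_coe_set_eq]
    rw [Set.ncard_insert_of_notMem, Set.ncard_insert_of_notMem, Set.ncard_insert_of_notMem,
      Set.ncard_singleton]
    · simp only [Set.mem_singleton_iff]
      intro h
      exact hu1 (mul_eq_right.mp h.symm)
    · simp only [Set.mem_insert_iff, Set.mem_singleton_iff, not_or]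
      exact ⟨huz, fun h => hz1 (mul_eq_left.mp h.symm)⟩
    · simp only [Set.mem_insert_iff, Set.mem_singleton_iff, not_or]
      exact ⟨hu1.symm, hz1.symm, huz1.symm⟩
  refine ⟨U, ⟨hcard, Nat.dvd_antisymm (Monoid.exponent_dvd_iff_forall_pow_eq_one.mpr ?_) ?_⟩,
    (hmem u).mpr (Or.inr (Or.inl rfl)), (hmem z).mpr (Or.inr (Or.inr (Or.inl rfl))), ?_⟩
  · rintro ⟨x, hx⟩
    apply Subtype.ext
    rw [SubmonoidClass.coe_pow, pow_two]
    show x * x = 1
    rcases (hmem x).mp hx with rfl | rfl | rfl | rfl <;> simp [hu, hz, hzu', mul_assoc, hu']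
  · have h1 : orderOf (⟨u, (hmem u).mpr (Or.inr (Or.inl rfl))⟩ : U) = 2 := by
      rw [Subgroup.orderOf_mk]
      exact orderOf_eq_prime (by rw [pow_two, hu]) hu1
    exact h1 ▸ Monoid.order_dvd_exponent _
  · intro S hS1 hS2 x hx
    rcases (hmem x).mp hx with rfl | rfl | rfl | rfl
    exacts [one_mem S, hS1, hS2, mul_mem hS1 hS2]

theorem klein_transitive {V : Type*} [Group V] [IsKleinFour V] (σ : MulAut V) (hσ : orderOf σ = 3)
    {a b : V} (ha : a ≠ 1) (hb : b ≠ 1) : ∃ i : ℕ, (σ ^ i) a = b := by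
  classical
  haveI : Finite V := IsKleinFour.instFinite
  let _ := Fintype.ofFinite V
  have h3 : ∀ x, σ (σ (σ x)) = x := by
    intro x
    have : σ ^ 3 = 1 := hσ ▸ pow_orderOf_eq_one σ
    have := DFunLike.congr_fun this x
    simpa [pow_succ] using this
  have hne : ∀ x : V, x ≠ 1 → σ x ≠ x := by
    intro x hx hfix
    have hall : ∀ c : V, σ c = c := by
      intro c
      by_cases hc1 : c = 1
      · rw [hc1, map_one]
      by_cases hcx : c = x
      · rw [hcx, hfix]
      have hm := Finset.mem_univ (σ c)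
      rw [← IsKleinFour.eq_finset_univ (x := x) (y := c) hx hc1 (Ne.symm hcx)] at hm
      simp only [Finset.mem_insert, Finset.mem_singleton] at hm
      rcases hm with h | h | h | h
      · exfalso
        have h' := h3 c
        rw [h, map_mul, hfix, h, ← mul_assoc, IsKleinFour.mul_self, one_mul, h] at h'
        exact hx (mul_eq_right.mp h')
      · exact absurd (σ.injective (h.trans hfix.symm)) hcx
      · exact h
      · exact absurd (σ.injective (h.trans (map_one σ).symm)) hc1
    have : σ = 1 := MulEquiv.ext hall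
    rw [this, orderOf_one] at hσ
    omega
  have ha2 : σ (σ a) ≠ a := fun h => hne a ha (by
    have := congrArg σ h
    rw [h3] at this
    exact this.symm)
  have h1 : σ a ≠ 1 := fun h => ha (σ.injective (h.trans (map_one σ).symm))
  have h2 : σ (σ a) ≠ 1 := fun h => h1 (σ.injective (h.trans (map_one σ).symm))
  have hm := Finset.mem_univ b
  rw [← IsKleinFour.eq_finset_univ (x := a) (y := σ a) ha h1 (hne a ha).symm] at hm
  have hm2 := Finset.mem_univ (σ (σ a))
  rw [← IsKleinFour.eq_finset_univ (x := a) (y := σ a) ha h1 (hne a ha).symm] at hm2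
  simp only [Finset.mem_insert, Finset.mem_singleton] at hm hm2
  rcases hm with h | h | h | h
  · refine ⟨2, ?_⟩
    rcases hm2 with e | e | e | e
    · rw [h, ← e]; simp [pow_succ]
    · exact absurd e ha2
    · exact absurd e (hne _ h1)
    · exact absurd e h2
  · exact ⟨0, by simp [h]⟩
  · exact ⟨1, by simp [h]⟩
  · exact absurd h hb


/-- Let X be a finite group whose Sylow 2-subgroup S is dihedral of order 2m ≥ 4. Then X has no subgroup of index 2 and no isolated involution if and only if either all involutions of X are conjugate, or for every Klein four-subgroup U ≤ S the index |N_X(U) : C_X(U)| equals 3 when |S| = 4 and equals 6 when |S| > 4. -/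
theorem result {X : Type*} [Group X] [Finite X] (S : Sylow 2 X) (m : ℕ) (hm : 2 ≤ m) (eS : (S : Subgroup X) ≃* DihedralGroup m) : ((∀ H : Subgroup X, H.index ≠ 2) ∧ (∀ z : X, ¬ Cfsg.IsIsolatedInvolution z)) ↔ ((∀ a b : X, orderOf a = 2 → orderOf b = 2 → IsConj a b) ∨ (∀ U : Subgroup X, U ≤ S → IsKleinFour U → (Subgroup.centralizer (U : Set X)).relIndex (Subgroup.normalizer (U : Set X)) = (if Nat.card S = 4 then 3 else 6))) := by
  classical
  haveI : Fact (Nat.Prime 2) := ⟨Nat.prime_two⟩
  haveI : NeZero m := ⟨by omega⟩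
  obtain ⟨a, rfl⟩ : ∃ a, m = 2 ^ a := by
    obtain ⟨j, hj⟩ := S.isPGroup'.exists_card_eq
    rw [Nat.card_congr eS.toEquiv, DihedralGroup.nat_card] at hj
    obtain ⟨i, _, hi⟩ := (Nat.dvd_prime_pow Nat.prime_two).mp (hj ▸ dvd_mul_left m 2)
    exact ⟨i, hi⟩
  obtain ⟨b, rfl⟩ : ∃ b, a = b + 1 := ⟨a - 1, by
    rcases a with _ | a
    · simp at hm
    · omega⟩
  set ι : DihedralGroup (2 ^ (b + 1)) →* X := (S : Subgroup X).subtype.comp eS.symm.toMonoidHom with hι
  have hinj : Function.Injective ι := Subtype.val_injective.comp eS.symm.injective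
  have hιS : ∀ x, ι x ∈ (S : Subgroup X) := fun x => (eS.symm x).2
  have hιsurj : ∀ x ∈ (S : Subgroup X), ∃ y, ι y = x := fun x hx =>
    ⟨eS ⟨x, hx⟩, by simp [hι]⟩
  set c : ZMod (2 ^ (b + 1)) := ((2 ^ b : ℕ) : ZMod (2 ^ (b + 1))) with hcdef
  have hc0 : c ≠ 0 := by
    rw [hcdef, Ne, ZMod.natCast_eq_zero_iff, Nat.pow_dvd_pow_iff_le_right one_lt_two]
    omega
  have hcc : c + c = 0 := by
    rw [hcdef, ← Nat.cast_add, ZMod.natCast_eq_zero_iff, ← two_mul, ← pow_succ']
  have hnc : -c = c := neg_eq_of_add_eq_zero_left hcc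
  set z₀ := ι (DihedralGroup.r c) with hz₀
  have hcomm : ∀ y, DihedralGroup.r c * y = y * DihedralGroup.r c := by
    rintro (i | i)
    · rw [DihedralGroup.r_mul_r, DihedralGroup.r_mul_r]
      exact congrArg DihedralGroup.r (add_comm c i)
    · rw [DihedralGroup.r_mul_sr, DihedralGroup.sr_mul_r, sub_eq_add_neg, hnc]
  have hz2 : z₀ * z₀ = 1 := by
    rw [hz₀, ← map_mul, DihedralGroup.r_mul_r, hcc, ← DihedralGroup.one_def, map_one]
  have hz1 : z₀ ≠ 1 := by
    rw [hz₀, ← map_one ι]
    intro h
    have := hinj h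
    rw [DihedralGroup.one_def] at this
    exact hc0 (DihedralGroup.r.inj this)
  have hsr : ∀ i, orderOf (ι (DihedralGroup.sr i)) = 2 := fun i => by
    rw [orderOf_injective ι hinj, DihedralGroup.orderOf_sr]
  have hz0o : orderOf z₀ = 2 := orderOf_eq_prime (by rw [pow_two, hz2]) hz1
  have toS : ∀ u : X, orderOf u = 2 → ∃ v, IsConj u v ∧ orderOf v = 2 ∧ v ∈ (S : Subgroup X) := by
    intro u hu
    have hp : IsPGroup 2 (zpowers u) :=
      IsPGroup.of_card (n := 1) (by rw [Nat.card_zpowers, hu, pow_one])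
    obtain ⟨R, hR⟩ := hp.exists_le_sylow
    obtain ⟨g, hg⟩ := MulAction.exists_smul_eq X R S
    refine ⟨g * u * g⁻¹, isConj_iff.mpr ⟨g, rfl⟩, hu ▸ (MulAut.conj g).orderOf_eq u, ?_⟩
    rw [← hg, Sylow.coe_subgroup_smul, Subgroup.mem_smul_pointwise_iff_exists]
    exact ⟨u, hR (mem_zpowers u), rfl⟩
  constructor
  · rintro ⟨h2, -⟩
    left
    intro x y hx hy
    rcases Nat.eq_zero_or_pos b with rfl | hb
    · haveI hK4 : IsKleinFour (S : Subgroup X) := by
        let e2 : ↥(S : Subgroup X) ≃* DihedralGroup 2 := eS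
        constructor
        · rw [Nat.card_congr e2.toEquiv]; exact IsKleinFour.card_four
        · rw [Monoid.exponent_eq_of_mulEquiv e2]; exact IsKleinFour.exponent_two
      have hmove : ∃ g ∈ Subgroup.normalizer ((S : Subgroup X) : Set X),
          g ∉ Subgroup.centralizer ((S : Subgroup X) : Set X) := by
        by_contra hcon
        push Not at hcon
        have hnpc : Cfsg.HasNormalPComplement 2 X := by
          refine (Cfsg.Agent.S1254.result S 2 le_rfl eS).mpr fun U hUS hU => ?_
          have hUeq : U = (S : Subgroup X) := Subgroup.eq_of_le_of_card_ge hUS (by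
            rw [hU.card_four, hK4.card_four])
          subst hUeq
          exact le_antisymm (fun g hg => Subgroup.mem_sup_left (hcon g hg))
            (sup_le (Subgroup.centralizer_le_normalizer _) inf_le_right)
        obtain ⟨P, K, hK, hKP⟩ := hnpc
        haveI := hK
        have hidx : K.index = 2 ^ (1 + 1) := by
          rw [hKP.symm.index_eq_card, Nat.card_congr (P.equiv S).toEquiv, hK4.card_four]
          norm_num
        obtain ⟨H, hH⟩ := exists_index_two K hidx
        exact h2 H hH
      obtain ⟨g, hgN, hgC⟩ := hmove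
      rw [Subgroup.mem_centralizer_iff] at hgC
      push Not at hgC
      obtain ⟨w, hwS, hw⟩ := hgC
      have hgw : g * w * g⁻¹ ≠ w := fun h => hw (mul_inv_eq_iff_eq_mul.mp h).symm
      obtain ⟨x', hxx, hxo, hxS⟩ := toS x hx
      obtain ⟨y', hyy, hyo, hyS⟩ := toS y hy
      have hne : ∀ v : X, orderOf v = 2 → v ≠ 1 := fun v hv h => by
        rw [h, orderOf_one] at hv; omega
      exact hxx.trans ((Cfsg.Lib.Invol.klein_isConj_of_moved S hgN hwS hgw hxS (hne _ hxo) hyS
        (hne _ hyo)).trans hyy.symm)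
    · have hO : Cfsg.pResidual 2 X = ⊤ := by
        by_contra hne
        haveI := Cfsg.Lib.Fusion.pResidual_normal 2 X
        obtain ⟨k, hk⟩ := Cfsg.Lib.Fusion.index_pResidual_eq_pow (p := 2) (G := X)
        rcases k with _ | k
        · exact hne (Subgroup.index_eq_one.mp hk)
        · obtain ⟨H, hH⟩ := exists_index_two _ hk
          exact h2 H hH
      exact isConj_iff.mpr (Cfsg.Agent.S0107.result S (b + 1) (by omega) ⟨eS⟩ hO x y hx hy)
  · intro h
    have hall : ∀ x y : X, orderOf x = 2 → orderOf y = 2 → IsConj x y := by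
      rcases h with h | h
      · exact h
      suffices hz : ∀ u : X, orderOf u = 2 → u ∈ (S : Subgroup X) → IsConj u z₀ by
        intro x y hx hy
        obtain ⟨x', hxx, hxo, hxS⟩ := toS x hx
        obtain ⟨y', hyy, hyo, hyS⟩ := toS y hy
        exact hxx.trans ((hz _ hxo hxS).trans ((hz _ hyo hyS).symm.trans hyy.symm))
      intro u hu huS
      rcases eq_or_ne u z₀ with rfl | hne
      · exact IsConj.refl _
      have hu1 : u ≠ 1 := fun e => by rw [e, orderOf_one] at hu; omega
      have hu2 : u * u = 1 := by rw [← pow_two, ← hu, pow_orderOf_eq_one]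
      obtain ⟨u', rfl⟩ := hιsurj u huS
      obtain ⟨U, hU, huU, hzU, hle⟩ := exists_four hu2 hz2 hu1 hz1 hne
        (by rw [hz₀, ← map_mul, ← map_mul, hcomm])
      have hUS : U ≤ (S : Subgroup X) := hle _ (hιS _) (hιS _)
      have hidx := h U hUS hU
      let f := U.normalizerMonoidHom
      have hr : Nat.card f.range = (Subgroup.centralizer (U : Set X)).relIndex
          (Subgroup.normalizer (U : Set X)) := by
        rw [Subgroup.relIndex, ← U.normalizerMonoidHom_ker, Subgroup.index_ker]
      haveI : Fact (Nat.Prime 3) := ⟨Nat.prime_three⟩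
      have h3 : 3 ∣ Nat.card f.range := by
        rw [hr, hidx]; split_ifs <;> norm_num
      obtain ⟨σ, hσ⟩ := exists_prime_orderOf_dvd_card' 3 h3
      obtain ⟨g, hg⟩ := σ.2
      have hσ' : orderOf (σ : MulAut ↥U) = 3 := by rw [Subgroup.orderOf_coe, hσ]
      obtain ⟨i, hi⟩ := klein_transitive (σ : MulAut ↥U) hσ' (a := ⟨_, huU⟩) (b := ⟨_, hzU⟩)
        (fun e => hu1 (congrArg Subtype.val e)) (fun e => hz1 (congrArg Subtype.val e))
      rw [← hg, ← map_pow] at hi
      exact isConj_iff.mpr ⟨((g ^ i : ↥(Subgroup.normalizer (U : Set X))) : X), congrArg Subtype.val hi⟩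
    have hw : orderOf (ι (DihedralGroup.sr 0)) = 2 := hsr 0
    refine ⟨fun H hH => ?_, fun z hz => ?_⟩
    · haveI := Subgroup.normal_of_index_eq_two hH
      have hiff : ∀ x y : X, orderOf x = 2 → orderOf y = 2 → x ∈ H → y ∈ H := by
        intro x y hx hy hxH
        obtain ⟨g, rfl⟩ := isConj_iff.mp (hall x y hx hy)
        exact ‹H.Normal›.conj_mem x hxH g
      by_cases hwH : ι (DihedralGroup.sr 0) ∈ H
      · have hSH : (S : Subgroup X) ≤ H := by
          intro x hx
          obtain ⟨y, rfl⟩ := hιsurj x hx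
          rcases y with i | i
          · have : DihedralGroup.r i = DihedralGroup.sr 0 * DihedralGroup.sr i := by
              rw [DihedralGroup.sr_mul_sr, sub_zero]
            rw [this, map_mul]
            exact mul_mem hwH (hiff _ _ hw (hsr i) hwH)
          · exact hiff _ _ hw (hsr i) hwH
        have h1 := Subgroup.index_dvd_of_le hSH
        rw [hH] at h1
        exact S.not_dvd_index h1
      · have hzH : z₀ ∉ H := fun e => hwH (hiff _ _ hz0o hw e)
        have h1 : ι (DihedralGroup.sr 0) * z₀ ∈ H :=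
          (Subgroup.mul_mem_iff_of_index_two hH).mpr (iff_of_false hwH hzH)
        rw [hz₀, ← map_mul, DihedralGroup.sr_mul_r] at h1
        exact hwH (hiff _ _ (hsr _) hw h1)
    · obtain ⟨k, hk⟩ := isConj_iff.mp (hall z₀ z hz0o hz.1)
      have hcw : k * ι (DihedralGroup.sr 0) * k⁻¹ = z := by
        obtain ⟨g, hg⟩ := isConj_iff.mp (hall z (k * ι (DihedralGroup.sr 0) * k⁻¹) hz.1
          (((MulAut.conj k).orderOf_eq _).trans hw))
        rw [← hg]
        apply hz.2 g
        rw [hg, ← hk]
        have hz0c : Commute z₀ (ι (DihedralGroup.sr 0)) := by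
          show _ = _
          rw [hz₀, ← map_mul, ← map_mul, hcomm]
        exact hz0c.map (MulAut.conj k).toMonoidHom
      rw [← hk] at hcw
      have := hinj (mul_left_cancel (mul_right_cancel hcw))
      cases this

end Cfsg.Agent.S1255
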