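import Cfsg.Statements.S0016
import Mathlib
import Cfsg.Agent.Lib.CyclicNormalAbelian

set_option autoImplicit false
open Cfsg

namespace Cfsg.Agent.S0016

open Subgroup

/-- In an abelian `p`-group with one subgroup of order `p` an element of maximal order generates. -/
theorem mem_zpowers_of_max {A : Type*} [CommGroup A] [Finite A] {p : ℕ} [hp : Fact p.Prime] (hA : IsPGroup p A)
    (hone : ∀ u v : A, orderOf u = p → orderOf v = p → v ∈ zpowers u) {x : A} (hx : ∀ w : A, orderOf w ∣ orderOf x)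
    (y : A) : y ∈ zpowers x := by
  suffices h : ∀ n, ∀ y : A, orderOf y = p ^ n → y ∈ zpowers x by
    obtain ⟨n, hn⟩ := IsPGroup.iff_orderOf.1 hA y
    exact h n y hn
  intro n
  induction n with
  | zero => intro y hy; rw [pow_zero, orderOf_eq_one_iff] at hy; exact hy ▸ one_mem _
  | succ n ih =>
    intro y hy
    have hyp : orderOf (y ^ p) = p ^ n := by
      rw [orderOf_pow, hy, Nat.gcd_eq_right (dvd_pow_self p (by omega)), pow_succ, Nat.mul_div_cancel _ hp.out.pos]
    obtain ⟨i, hi⟩ : ∃ i : ℕ, x ^ i = y ^ p := by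
      have := ih _ hyp
      rwa [← mem_powers_iff_mem_zpowers, Submonoid.mem_powers_iff] at this
    obtain ⟨m, hm⟩ := IsPGroup.iff_orderOf.1 hA x
    have hnm : n + 1 ≤ m := (Nat.pow_dvd_pow_iff_le_right hp.out.one_lt).1 (hy ▸ hm ▸ hx y)
    obtain ⟨j, rfl⟩ : p ∣ i := by
      have e : x ^ (i * p ^ n) = 1 := by rw [pow_mul, hi, ← hyp, pow_orderOf_eq_one]
      rw [← orderOf_dvd_iff_pow_eq_one, hm] at e
      have := (pow_dvd_pow p hnm).trans e
      rw [pow_succ'] at this
      exact Nat.dvd_of_mul_dvd_mul_right (pow_pos hp.out.pos n) this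
    have hu : (y * (x ^ j)⁻¹) ^ p = 1 := by rw [mul_pow, inv_pow, ← pow_mul, Nat.mul_comm, hi, mul_inv_cancel]
    refine (Subgroup.mul_mem_cancel_right _ (inv_mem (npow_mem_zpowers x j))).1 ?_
    by_cases hu1 : y * (x ^ j)⁻¹ = 1
    · exact hu1 ▸ one_mem _
    · have hz : orderOf (x ^ p ^ (m - 1)) = p := by
        rw [orderOf_pow, hm, Nat.gcd_eq_right (pow_dvd_pow p (by omega)), Nat.pow_div (by omega) hp.out.pos,
          show m - (m - 1) = 1 by omega, pow_one]
      exact zpowers_le.2 (npow_mem_zpowers x _) (hone _ _ hz (orderOf_eq_prime hu hu1))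



/-- A finite p-group in which only one subgroup has order p is either cyclic or (with p = 2) isomorphic to a generalized quaternion group. -/
theorem result {G : Type*} [Group G] [Finite G] (p : ℕ) [Fact p.Prime]
    (hG : IsPGroup p G) (huniq : ∀ H K : Subgroup G, Nat.card H = p → Nat.card K = p → H = K) :
    IsCyclic G ∨ (p = 2 ∧ ∃ n : ℕ, Nonempty (G ≃* QuaternionGroup (2 ^ n))) := by
  classical
  have hone : ∀ x y : G, orderOf x = p → orderOf y = p → y ∈ zpowers x := fun x y hx hy => by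
    rw [huniq (zpowers x) (zpowers y) (by rw [Nat.card_zpowers, hx]) (by rw [Nat.card_zpowers, hy])]
    exact mem_zpowers y
  have habel : ∀ A : Subgroup G, A.Normal → IsMulCommutative A → IsCyclic A := by
    intro A _ hA
    letI : CommGroup A := open scoped IsMulCommutative in inferInstance
    rw [IsCyclic.iff_exponent_eq_card]
    refine Nat.dvd_antisymm Group.exponent_dvd_nat_card ?_
    obtain ⟨x, hx⟩ := Monoid.exists_orderOf_eq_exponent (Monoid.ExponentExists.of_finite (G := A))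
    rw [← hx]
    suffices h : ∀ y : A, y ∈ zpowers x by
      rw [← Nat.card_zpowers, ← Subgroup.card_top (G := A), show (⊤ : Subgroup A) = zpowers x from (eq_top_iff.2 fun y _ => h y).symm]
    exact fun y => mem_zpowers_of_max (hG.to_subgroup A) (fun u v hu hv => by
      have := hone u v (by rw [orderOf_submonoid]; exact hu) (by rw [orderOf_submonoid]; exact hv)
      obtain ⟨i, hi⟩ := this
      exact ⟨i, Subtype.ext (by simpa using hi)⟩) (hx ▸ fun w => Monoid.order_dvd_exponent w) y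
  by_cases hc : IsCyclic G
  · exact Or.inl hc
  obtain ⟨rfl, a, M, hma, hidx, hout⟩ := Cfsg.Lib.CyclicNormalAbelian.two_group_data p hG habel hc
  refine Or.inr ⟨rfl, M + 1, ?_⟩
  set h := 2 ^ (M + 1) with hh
  have hN : (2 : ℕ) ^ (M + 2) = 2 * h := by rw [hh, pow_succ']
  have hh0 : 0 < h := pow_pos (by norm_num) _
  have ha2 : ∀ i j : ℤ, a ^ i = a ^ j ↔ ((2 * h : ℕ) : ℤ) ∣ j - i := fun i j => by
    rw [zpow_eq_zpow_iff_modEq, hma, hN, Int.modEq_iff_dvd]
  obtain ⟨g, hg⟩ : ∃ g : G, g ∉ zpowers a := by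
    by_contra hne
    push Not at hne
    have : (zpowers a).index = 1 := Subgroup.index_eq_one.2 (eq_top_iff.2 fun x _ => hne x)
    omega
  obtain ⟨hg2, k, hk, ⟨t, ht⟩, hk4⟩ := hout g hg
  have hg1 : g ≠ 1 := fun e => hg (e ▸ one_mem _)
  -- the involution of `A`
  have hz : orderOf (a ^ h) = 2 := by
    rw [orderOf_pow, hma, hN]
    have : Nat.gcd (2 * h) h = h := Nat.gcd_eq_right (dvd_mul_left h 2)
    rw [this]
    exact Nat.mul_div_cancel _ hh0
  have hinv : ∀ x : G, x ^ 2 = 1 → x ∈ zpowers a := fun x hx => by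
    by_cases hx1 : x = 1
    · exact hx1 ▸ one_mem _
    · exact zpowers_le.2 (npow_mem_zpowers a h) (hone _ x hz (orderOf_eq_prime hx hx1))
  -- `g ^ 2` is that involution
  have hgz : g ^ 2 = a ^ (h : ℤ) := by
    obtain ⟨i, hi⟩ := hg2
    simp only at hi
    have e1 : a ^ i = a ^ ((k : ℤ) * i) := by
      rw [zpow_mul, zpow_natCast, ← hk, conj_zpow, hi]; group
    obtain ⟨s, hs⟩ := (ha2 _ _).1 e1
    have hdvd : (h : ℤ) ∣ i := by
      obtain ⟨q, hq⟩ : ∃ q : ℤ, (k : ℤ) - 1 = 2 * (2 * q + 1) := ⟨((k : ℤ) - 3) / 4, by omega⟩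
      have hcop : IsCoprime (h : ℤ) (2 * q + 1) := by
        rw [hh]; push_cast; exact IsCoprime.pow_left ⟨-q, 1, by ring⟩
      refine hcop.dvd_of_dvd_mul_left ⟨s, mul_left_cancel₀ (two_ne_zero (α := ℤ)) ?_⟩
      push_cast at hs
      linear_combination hs - i * hq
    obtain ⟨r, rfl⟩ := hdvd
    rcases Int.even_or_odd r with ⟨u, hu⟩ | ⟨u, hu⟩
    · exfalso
      refine hg (hinv g ?_)
      rw [← hi, ← zpow_zero a, ha2]; push_cast; exact ⟨-u, by rw [hu]; ring⟩
    · rw [← hi, ha2]; push_cast; exact ⟨-u, by rw [hu]; ring⟩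
  -- the action is inversion
  have hinvert : g * a * g⁻¹ = a⁻¹ := by
    rw [hk, ← zpow_natCast, ← zpow_neg_one a, ha2]
    rcases Int.even_or_odd t with ⟨u, hu⟩ | ⟨u, hu⟩
    · push_cast; exact ⟨-u, by rw [hu] at ht; linear_combination (-1 : ℤ) * ht⟩
    · exfalso
      have hga : g * a ∉ zpowers a := fun e => hg ((Subgroup.mul_mem_cancel_right _ (mem_zpowers a)).1 e)
      refine hga (hinv _ ?_)
      have : (g * a) ^ 2 = (g * a * g⁻¹) * g ^ 2 * a := by rw [pow_two, pow_two]; group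
      rw [this, hk, hgz, ← zpow_natCast a k, ← zpow_add, ← zpow_add_one, ← zpow_zero a, ha2]
      push_cast
      exact ⟨-(u + 1), by rw [hu] at ht; linear_combination (-1 : ℤ) * ht⟩
  -- the isomorphism
  let f : QuaternionGroup h → G := fun x => match x with
    | QuaternionGroup.a i => a ^ (ZMod.cast i : ℤ)
    | QuaternionGroup.xa i => g * a ^ (ZMod.cast i : ℤ)
  haveI : NeZero (2 * h) := ⟨by omega⟩
  haveI : NeZero h := ⟨hh0.ne'⟩
  have hcast : ∀ i : ℤ, a ^ (ZMod.cast (i : ZMod (2 * h)) : ℤ) = a ^ i := fun i => by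
    rw [ha2, ← ZMod.intCast_zmod_eq_zero_iff_dvd, Int.cast_sub, ZMod.intCast_cast, ZMod.cast_id', id, sub_self]
  have hadd : ∀ i j : ZMod (2 * h), a ^ (ZMod.cast (i + j) : ℤ) = a ^ (ZMod.cast i : ℤ) * a ^ (ZMod.cast j : ℤ) := fun i j => by
    rw [← zpow_add, ← hcast ((ZMod.cast i : ℤ) + ZMod.cast j)]
    congr 2
    push_cast; rfl
  have hsub : ∀ i j : ZMod (2 * h), a ^ (ZMod.cast (j - i) : ℤ) = a ^ (-(ZMod.cast i : ℤ)) * a ^ (ZMod.cast j : ℤ) := fun i j => by
    rw [← zpow_add, ← hcast (-(ZMod.cast i : ℤ) + ZMod.cast j)]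
    congr 2
    push_cast; rw [sub_eq_neg_add]
  have hswap : ∀ i : ℤ, a ^ i * g = g * a ^ (-i) := fun i => by
    have : g * a ^ (-i) * g⁻¹ = a ^ i := by rw [← conj_zpow, hinvert, inv_zpow', neg_neg]
    rw [← this]; group
  have hfm : ∀ x y, f (x * y) = f x * f y := by
    rintro (i | i) (j | j)
    · rw [QuaternionGroup.a_mul_a]; exact hadd i j
    · rw [QuaternionGroup.a_mul_xa]
      show g * a ^ _ = a ^ _ * (g * a ^ _)
      rw [hsub, ← mul_assoc, ← mul_assoc, hswap]
    · rw [QuaternionGroup.xa_mul_a]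
      show g * a ^ _ = g * a ^ _ * a ^ _
      rw [hadd, mul_assoc]
    · rw [QuaternionGroup.xa_mul_xa]
      show a ^ _ = g * a ^ _ * (g * a ^ _)
      rw [add_sub_assoc, hadd, hsub,
        show g * a ^ (ZMod.cast i : ℤ) * (g * a ^ (ZMod.cast j : ℤ)) = g * (a ^ (ZMod.cast i : ℤ) * g) * a ^ (ZMod.cast j : ℤ) by group,
        hswap, ← mul_assoc g g, ← pow_two, hgz, mul_assoc (a ^ (h : ℤ))]
      congr 1
      exact_mod_cast hcast (h : ℤ)
  have hinj : Function.Injective f := by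
    have hA : ∀ i j : ZMod (2 * h), a ^ (ZMod.cast i : ℤ) = a ^ (ZMod.cast j : ℤ) → i = j := fun i j e => by
      have := (ha2 _ _).1 e
      rw [← ZMod.intCast_zmod_eq_zero_iff_dvd, Int.cast_sub, ZMod.intCast_cast, ZMod.intCast_cast, ZMod.cast_id', id, id, sub_eq_zero] at this
      exact this.symm
    rintro (i | i) (j | j) e
    · exact congrArg QuaternionGroup.a (hA i j e)
    · have e' : a ^ (ZMod.cast i : ℤ) = g * a ^ (ZMod.cast j : ℤ) := e
      exact absurd ((Subgroup.mul_mem_cancel_right _ (zpow_mem_zpowers a _)).1 (e' ▸ zpow_mem_zpowers a (ZMod.cast i : ℤ))) hg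
    · have e' : a ^ (ZMod.cast j : ℤ) = g * a ^ (ZMod.cast i : ℤ) := e.symm
      exact absurd ((Subgroup.mul_mem_cancel_right _ (zpow_mem_zpowers a _)).1 (e' ▸ zpow_mem_zpowers a (ZMod.cast j : ℤ))) hg
    · exact congrArg QuaternionGroup.xa (hA i j (mul_left_cancel e))
  have hcard : Nat.card (QuaternionGroup h) = Nat.card G := by
    rw [Nat.card_eq_fintype_card, QuaternionGroup.card, ← (zpowers a).card_mul_index, hidx, Nat.card_zpowers, hma, hN]
    ring
  exact ⟨(MulEquiv.ofBijective (MonoidHom.mk' f hfm) ((Nat.bijective_iff_injective_and_card _).2 ⟨hinj, hcard⟩)).symm⟩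

end Cfsg.Agent.S0016
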