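import Cfsg.Statements.S1189
import Cfsg.Agent.Lib.TwoGroup.QDSubgroups
-- import your own Cfsg.Agent.* helpers here

set_option autoImplicit false
open Cfsg

namespace Cfsg.Agent.S1189

/-- A quasi-dihedral 2-group has exactly two conjugacy classes of elements of order 2 and exactly two conjugacy classes of elements of order 4. -/
theorem result {S : Type*} [Group S] [Finite S] (hS : Cfsg.IsQuasiDihedral S) : Nat.card {C : ConjClasses S // ∃ t : S, orderOf t = 2 ∧ ConjClasses.mk t = C} = 2 ∧ Nat.card {C : ConjClasses S // ∃ t : S, orderOf t = 4 ∧ ConjClasses.mk t = C} = 2 := by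
  obtain ⟨n, ⟨d⟩⟩ := Cfsg.Lib.TwoGroup.exists_sd hS
  have key : ∀ (m : ℕ) (a b : S), ConjClasses.mk a ≠ ConjClasses.mk b → orderOf a = m →
      orderOf b = m → (∀ t : S, orderOf t = m →
        ConjClasses.mk t = ConjClasses.mk a ∨ ConjClasses.mk t = ConjClasses.mk b) →
      Nat.card {C : ConjClasses S // ∃ t : S, orderOf t = m ∧ ConjClasses.mk t = C} = 2 := by
    intro m a b hne ha hb hall
    rw [← Set.ncard_pair hne, ← Nat.card_coe_set_eq]
    refine Nat.card_congr (Equiv.setCongr (s := {C | _}) (Set.ext fun C => ⟨?_, ?_⟩))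
    · rintro ⟨t, ht, rfl⟩
      exact hall t ht
    · rintro (rfl | rfl)
      exacts [⟨a, ha, rfl⟩, ⟨b, hb, rfl⟩]
  have conj : ∀ {a b : S} (s : S), s * a * s⁻¹ = b → ConjClasses.mk a = ConjClasses.mk b :=
    fun s h => ConjClasses.mk_eq_mk_iff_isConj.mpr (isConj_iff.mpr ⟨s, h⟩)
  have hsep : ∀ (k j : ℤ), ConjClasses.mk (d.x ^ k) ≠ ConjClasses.mk (d.x ^ j * d.y) := by
    intro k j h
    obtain ⟨s, hs⟩ := isConj_iff.mp (ConjClasses.mk_eq_mk_iff_isConj.mp h)
    haveI := Subgroup.normal_of_index_eq_two d.index_x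
    exact d.mul_y_notMem j (hs ▸ Subgroup.Normal.conj_mem inferInstance _
      (zpow_mem (Subgroup.mem_zpowers _) k) s)
  refine ⟨key 2 d.z (d.x ^ (0 : ℤ) * d.y) (hsep _ _) d.orderOf_z
    (by simpa using d.orderOf_even 0) fun t ht => ?_,
    key 4 (d.x ^ Cfsg.Lib.TwoGroup.SD.P n) (d.x ^ (2 * (0 : ℤ) + 1) * d.y) (hsep _ _) ?_
    (d.orderOf_odd 0) fun t ht => ?_⟩
  · rcases d.involution_cases ht with rfl | ⟨i, rfl⟩
    · exact Or.inl rfl
    · obtain ⟨l, hl⟩ := d.exists_conj 0 i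
      exact Or.inr (conj _ (by rw [hl, zero_add])).symm
  · haveI : Fact (Nat.Prime 2) := ⟨Nat.prime_two⟩
    have h2 : d.x ^ Cfsg.Lib.TwoGroup.SD.P n * d.x ^ Cfsg.Lib.TwoGroup.SD.P n = d.z := by
      rw [← zpow_add, Cfsg.Lib.TwoGroup.SD.z]; congr 1; ring
    refine orderOf_eq_prime_pow (p := 2) (n := 1) ?_ ?_
    · rw [pow_one, pow_two, h2]; exact d.z_ne_one
    · rw [show (2 : ℕ) ^ (1 + 1) = 2 * 2 by norm_num, pow_mul, pow_two (d.x ^ _), h2, pow_two,
        Cfsg.Lib.Invol.inv_mul_self d.orderOf_z]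
  · rcases d.order_four_cases ht with rfl | rfl | ⟨i, rfl⟩
    · exact Or.inl rfl
    · refine Or.inl (conj d.y ?_).symm
      rw [d.conj_zpow, d.zx]
      obtain ⟨r, hr⟩ := d.P_even
      exact ⟨r, by linear_combination (2 * Cfsg.Lib.TwoGroup.SD.P n) * hr⟩
    · obtain ⟨l, hl⟩ := d.exists_conj (2 * 0 + 1) i
      refine Or.inr (conj (d.x ^ l) ?_).symm
      rw [hl]; congr 2; ring

end Cfsg.Agent.S1189
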