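import Cfsg.Statements.S2119
import Mathlib

set_option autoImplicit false
open Cfsg

namespace Cfsg.Agent.S2119

open Equiv Equiv.Perm

section

variable {α : Type*} [Fintype α] [DecidableEq α]

/-- the three-cycle `a → b → c → a` -/
def cyc (a b c : α) : Perm α := swap a b * swap b c

theorem cyc_fst {a b c : α} (hab : a ≠ b) (hac : a ≠ c) : cyc a b c a = b := by
  rw [cyc, Perm.mul_apply, swap_apply_of_ne_of_ne hab hac, swap_apply_left]

theorem cyc_snd {a b c : α} (hac : a ≠ c) (hbc : b ≠ c) : cyc a b c b = c := by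
  rw [cyc, Perm.mul_apply, swap_apply_left, swap_apply_of_ne_of_ne hac.symm hbc.symm]

theorem cyc_thd {a b c : α} : cyc a b c c = a := by
  rw [cyc, Perm.mul_apply, swap_apply_right, swap_apply_right]

theorem cyc_out {a b c z : α} (ha : z ≠ a) (hb : z ≠ b) (hc : z ≠ c) : cyc a b c z = z := by
  rw [cyc, Perm.mul_apply, swap_apply_of_ne_of_ne hb hc, swap_apply_of_ne_of_ne ha hb]

theorem cyc_three {a b c : α} (hab : a ≠ b) (hac : a ≠ c) (hbc : b ≠ c) : IsThreeCycle (cyc a b c) := by
  rw [cyc, swap_comm a b]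
  exact isThreeCycle_swap_mul_swap_same hab.symm hbc hac

theorem cyc_rot {a b c : α} (hab : a ≠ b) (hac : a ≠ c) (hbc : b ≠ c) : cyc a b c = cyc b c a := by
  ext z
  by_cases h1 : z = a
  · subst h1; rw [cyc_fst hab hac, cyc_thd]
  by_cases h2 : z = b
  · subst h2; rw [cyc_snd hac hbc, cyc_fst hbc hab.symm]
  by_cases h3 : z = c
  · subst h3; rw [cyc_thd, cyc_snd hab.symm hac.symm]
  rw [cyc_out h1 h2 h3, cyc_out h2 h3 h1]

theorem cyc_conj (g : Perm α) (a b c : α) : g * cyc a b c * g⁻¹ = cyc (g a) (g b) (g c) := by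
  rw [cyc, cyc, swap_apply_apply, swap_apply_apply]
  group

theorem cyc_inv (a b c : α) : (cyc a b c)⁻¹ = cyc c b a := by
  rw [cyc, cyc, mul_inv_rev, swap_inv, swap_inv, swap_comm b c, swap_comm a b]

theorem exists_cyc {g : Perm α} (hg : IsThreeCycle g) :
    ∃ a b c, a ≠ b ∧ a ≠ c ∧ b ≠ c ∧ g = cyc a b c := by
  have h3 : g.support.card = 3 := hg.card_support
  obtain ⟨a, ha⟩ : g.support.Nonempty := Finset.card_pos.mp (by omega)
  have hab : g a ≠ a := Perm.mem_support.mp ha
  have hcube : ∀ z, g (g (g z)) = z := fun z => by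
    have h1 : g ^ 3 = 1 := hg.orderOf ▸ pow_orderOf_eq_one g
    simpa [pow_succ, Perm.mul_apply] using congrArg (fun k : Perm α => k z) h1
  have hac : g (g a) ≠ a := fun e => hab (by rw [← e]; exact (hcube a).trans e.symm)
  have hbc : g (g a) ≠ g a := fun e => hab (g.injective e)
  refine ⟨a, g a, g (g a), hab.symm, hac.symm, hbc.symm, ?_⟩
  have hs : g.support = {a, g a, g (g a)} := by
    refine (Finset.eq_of_subset_of_card_le ?_ ?_).symm
    · simp only [Finset.insert_subset_iff, Finset.singleton_subset_iff, Perm.apply_mem_support]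
      exact ⟨ha, ha, ha⟩
    · rw [h3, Finset.card_eq_three.mpr ⟨a, g a, g (g a), hab.symm, hac.symm, hbc.symm, rfl⟩]
  refine Equiv.ext fun z => ?_
  by_cases h1 : z = a
  · rw [h1, cyc_fst hab.symm hac.symm]
  by_cases h2 : z = g a
  · rw [h2, cyc_snd hac.symm hbc.symm]
  by_cases h3' : z = g (g a)
  · rw [h3', cyc_thd, hcube]
  rw [cyc_out h1 h2 h3']
  exact Perm.notMem_support.mp (by rw [hs]; simp [h1, h2, h3'])

theorem cyc_mem (H : Subgroup (Perm α)) (o e : α) (hoe : o ≠ e)
    (hH : ∀ i, i ≠ o → i ≠ e → cyc o e i ∈ H) :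
    ∀ a b c, a ≠ b → a ≠ c → b ≠ c → cyc a b c ∈ H := by
  have hco : ∀ i j, i ≠ o → i ≠ e → j ≠ o → j ≠ e → i ≠ j → cyc o i j ∈ H ∧ cyc e i j ∈ H := by
    intro i j hio hie hjo hje hij
    have h1 := H.mul_mem (H.mul_mem (hH i hio hie) (hH j hjo hje)) (H.inv_mem (hH i hio hie))
    rw [cyc_conj, cyc_fst hoe hio.symm, cyc_snd hio.symm hie.symm, cyc_out hjo hje hij.symm] at h1
    have h2 := H.mul_mem (H.mul_mem (H.inv_mem (hH i hio hie)) (hH j hjo hje)) (hH i hio hie)
    have h2' : (cyc o e i)⁻¹ * cyc o e j * cyc o e i = cyc i o j := by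
      have h := cyc_conj ((cyc o e i)⁻¹) o e j
      rw [inv_inv] at h
      rw [h, cyc_inv, cyc_thd, cyc_snd hio hoe.symm, cyc_out hij.symm hje hjo]
    rw [h2'] at h2
    refine ⟨?_, h1⟩
    have h3 := H.inv_mem h2
    rwa [cyc_inv, cyc_rot hjo hij.symm hio.symm] at h3
  have hijk : ∀ i j k, i ≠ o → i ≠ e → j ≠ o → j ≠ e → k ≠ o → k ≠ e → i ≠ j → i ≠ k → j ≠ k →
      cyc i j k ∈ H := by
    intro i j k hio hie hjo hje hko hke hij hik hjk
    have h1 := H.mul_mem (H.mul_mem (hH i hio hie) (hco j k hjo hje hko hke hjk).2) (H.inv_mem (hH i hio hie))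
    rwa [cyc_conj, cyc_snd hio.symm hie.symm, cyc_out hjo hje hij.symm, cyc_out hko hke hik.symm] at h1
  have hstart : ∀ b c, b ≠ o → c ≠ o → b ≠ c → cyc o b c ∈ H := by
    intro b c hb hc hbc
    by_cases hbe : b = e
    · subst hbe; exact hH c hc hbc.symm
    by_cases hce : c = e
    · subst hce
      have := H.inv_mem (hH b hb hbe)
      rwa [cyc_inv, cyc_rot hbe hb hoe.symm, cyc_rot hoe.symm (Ne.symm hbe) (Ne.symm hb)] at this
    exact (hco b c hb hbe hc hce hbc).1
  have hstart' : ∀ b c, b ≠ e → c ≠ e → b ≠ o → c ≠ o → b ≠ c → cyc e b c ∈ H :=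
    fun b c hb hc hbo hco' hbc => (hco b c hbo hb hco' hc hbc).2
  intro a b c hab hac hbc
  by_cases ha : a = o
  · subst ha; exact hstart b c hab.symm hac.symm hbc
  by_cases hb : b = o
  · subst hb; rw [cyc_rot hab hac hbc]; exact hstart c a hbc.symm ha hac.symm
  by_cases hc : c = o
  · subst hc; rw [cyc_rot hab hac hbc, cyc_rot hbc hab.symm hac.symm]; exact hstart a b hac hbc hab
  by_cases ha' : a = e
  · subst ha'; exact hstart' b c hab.symm hac.symm hb hc hbc
  by_cases hb' : b = e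
  · subst hb'; rw [cyc_rot hab hac hbc]; exact hstart' c a hbc.symm ha' hc ha hac.symm
  by_cases hc' : c = e
  · subst hc'; rw [cyc_rot hab hac hbc, cyc_rot hbc hab.symm hac.symm]; exact hstart' a b hac hbc ha hb hab
  exact hijk a b c ha ha' hb hb' hc hc' hab hac hbc

theorem pair_ne {P Q R x y : α} (hPQ : P ≠ Q) (hPR : P ≠ R) (hQR : Q ≠ R) (hxP : x ≠ P) (hxQ : x ≠ Q)
    (hxR : x ≠ R) (hyP : y ≠ P) (hxy : x ≠ y) :
    cyc P Q x * cyc Q R y * (cyc P Q x * cyc Q R y) ≠ 1 := by
  intro h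
  have h1 := congrArg (fun k : Perm α => k x) h
  simp only [Perm.mul_apply, Perm.one_apply] at h1
  rw [cyc_out hxQ hxR hxy, cyc_thd, cyc_out hPQ hPR hyP.symm, cyc_fst hPQ hxP.symm] at h1
  exact hxQ h1.symm

/-- three-cycles with a point outside the first one -/
theorem edge_out {p q r a b c : α} (hpq : p ≠ q) (hpr : p ≠ r) (hqr : q ≠ r) (hab : a ≠ b) (hac : a ≠ c)
    (hbc : b ≠ c) (h2 : cyc p q r * cyc a b c * (cyc p q r * cyc a b c) = 1)
    (a1 : a ≠ p) (a2 : a ≠ q) (a3 : a ≠ r) :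
    cyc a b c = cyc p q a ∨ cyc a b c = cyc q r a ∨ cyc a b c = cyc r p a := by
  have hev : ∀ z, cyc p q r (cyc a b c (cyc p q r (cyc a b c z))) = z := fun z => by
    simpa [Perm.mul_apply] using congrArg (fun k : Perm α => k z) h2
  have hin : ∀ z, (z = p ∨ z = q ∨ z = r) → (cyc p q r z = p ∨ cyc p q r z = q ∨ cyc p q r z = r) ∧
      cyc p q r z ≠ z := by
    rintro z (rfl | rfl | rfl)
    · rw [cyc_fst hpq hpr]; exact ⟨Or.inr (Or.inl rfl), hpq.symm⟩
    · rw [cyc_snd hpr hqr]; exact ⟨Or.inr (Or.inr rfl), hqr.symm⟩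
    · rw [cyc_thd]; exact ⟨Or.inl rfl, hpr⟩
  by_cases hb : b = p ∨ b = q ∨ b = r
  · by_cases hc : c = p ∨ c = q ∨ c = r
    · obtain ⟨hb', hbne⟩ := hin b hb
      have hsucc : cyc p q r b = c := by
        by_contra hne
        have hba : cyc p q r b ≠ a := by
          rcases hb' with h | h | h <;> rw [h]
          exacts [a1.symm, a2.symm, a3.symm]
        have h1 := hev a
        rw [cyc_fst hab hac, cyc_out hba hbne hne] at h1
        rcases (hin _ hb').1 with h | h | h <;> rw [h] at h1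
        exacts [a1 h1.symm, a2 h1.symm, a3 h1.symm]
      rcases hb with rfl | rfl | rfl
      · rw [cyc_fst hpq hpr] at hsucc; subst hsucc
        exact Or.inl (cyc_rot hab hac hbc)
      · rw [cyc_snd hpr hqr] at hsucc; subst hsucc
        exact Or.inr (Or.inl (cyc_rot hab hac hbc))
      · rw [cyc_thd] at hsucc; subst hsucc
        exact Or.inr (Or.inr (cyc_rot hab hac hbc))
    · exfalso
      push Not at hc
      obtain ⟨hb', hbne⟩ := hin b hb
      have h1 := hev c
      rw [cyc_thd, cyc_out a1 a2 a3, cyc_fst hab hac] at h1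
      rcases hb' with h | h | h <;> rw [h] at h1
      exacts [hc.1 h1.symm, hc.2.1 h1.symm, hc.2.2 h1.symm]
  · exfalso
    push Not at hb
    by_cases hc : c = p ∨ c = q ∨ c = r
    · obtain ⟨hc', hcne⟩ := hin c hc
      have hca : cyc p q r c ≠ a := by
        rcases hc' with h | h | h <;> rw [h]
        exacts [a1.symm, a2.symm, a3.symm]
      have hcb : cyc p q r c ≠ b := by
        rcases hc' with h | h | h <;> rw [h]
        exacts [hb.1.symm, hb.2.1.symm, hb.2.2.symm]
      have h1 := hev b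
      rw [cyc_snd hac hbc, cyc_out hca hcb hcne] at h1
      rcases (hin _ hc').1 with h | h | h <;> rw [h] at h1
      exacts [hb.1 h1.symm, hb.2.1 h1.symm, hb.2.2 h1.symm]
    · push Not at hc
      have h1 := hev a
      rw [cyc_fst hab hac, cyc_out hb.1 hb.2.1 hb.2.2, cyc_snd hac hbc, cyc_out hc.1 hc.2.1 hc.2.2] at h1
      exact hac h1.symm

/-- two three-cycles with product of order two share an oriented edge -/
theorem edge {p q r a b c : α} (hpq : p ≠ q) (hpr : p ≠ r) (hqr : q ≠ r) (hab : a ≠ b) (hac : a ≠ c)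
    (hbc : b ≠ c) (h2 : cyc p q r * cyc a b c * (cyc p q r * cyc a b c) = 1)
    (h1 : cyc p q r * cyc a b c ≠ 1) (hne : cyc a b c ≠ cyc p q r) :
    ∃ x, x ≠ p ∧ x ≠ q ∧ x ≠ r ∧
      (cyc a b c = cyc p q x ∨ cyc a b c = cyc q r x ∨ cyc a b c = cyc r p x) := by
  have r1 : cyc a b c = cyc b c a := cyc_rot hab hac hbc
  have r2 : cyc a b c = cyc c a b := by rw [r1, cyc_rot hbc hab.symm hac.symm]
  by_cases ha : a = p ∨ a = q ∨ a = r
  · by_cases hb : b = p ∨ b = q ∨ b = r
    · by_cases hc : c = p ∨ c = q ∨ c = r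
      · exfalso
        have s1 : cyc p q r = cyc q r p := cyc_rot hpq hpr hqr
        have s2 : cyc q r p = cyc r p q := cyc_rot hqr hpq.symm hpr.symm
        have t1 : cyc r q p = cyc q p r := cyc_rot hqr.symm hpr.symm hpq.symm
        have t2 : cyc q p r = cyc p r q := cyc_rot hpq.symm hqr hpr
        have hi : cyc p q r * cyc r q p = 1 := by rw [← cyc_inv]; exact mul_inv_cancel _
        rcases ha with rfl | rfl | rfl <;> rcases hb with rfl | rfl | rfl <;> rcases hc with rfl | rfl | rfl <;>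
          first
            | contradiction
            | exact hne s1.symm
            | exact hne (s1.trans s2).symm
            | exact h1 hi
            | exact h1 (t1 ▸ hi)
            | exact h1 (t2 ▸ t1 ▸ hi)
      · push Not at hc
        refine ⟨c, hc.1, hc.2.1, hc.2.2, ?_⟩
        rw [r2] at h2 ⊢
        exact edge_out hpq hpr hqr hac.symm hbc.symm hab h2 hc.1 hc.2.1 hc.2.2
    · push Not at hb
      refine ⟨b, hb.1, hb.2.1, hb.2.2, ?_⟩
      rw [r1] at h2 ⊢
      exact edge_out hpq hpr hqr hbc hab.symm hac.symm h2 hb.1 hb.2.1 hb.2.2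
  · push Not at ha
    exact ⟨a, ha.1, ha.2.1, ha.2.2, edge_out hpq hpr hqr hab hac hbc h2 ha.1 ha.2.1 ha.2.2⟩

theorem fact_gt_aux : ∀ k m : ℕ, 2 ≤ k → 7 ≤ 3 * k + m →
    2 * 3 ^ k * k.factorial * m.factorial < 3 * (3 * k + m - 3).factorial := by
  intro k
  induction k with
  | zero => omega
  | succ k ih =>
    intro m hk h7
    rcases Nat.lt_or_ge k 2 with hk2 | hk2
    · obtain rfl : k = 1 := by omega
      obtain ⟨t, rfl⟩ : ∃ t, m = t + 1 := ⟨m - 1, by omega⟩
      rw [show 3 * (1 + 1) + (t + 1) - 3 = t + 4 by omega]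
      simp only [Nat.factorial_succ, Nat.factorial_zero]
      have hp : 0 < (t + 1) * t.factorial := Nat.mul_pos (by omega) (Nat.factorial_pos t)
      have hbig : 24 ≤ (t + 3 + 1) * ((t + 2 + 1) * (t + 1 + 1)) := by
        calc 24 = 4 * (3 * 2) := rfl
          _ ≤ _ := Nat.mul_le_mul (by omega) (Nat.mul_le_mul (by omega) (by omega))
      have hm : 24 * ((t + 1) * t.factorial) ≤ (t + 3 + 1) * ((t + 2 + 1) * (t + 1 + 1)) * ((t + 1) * t.factorial) :=
        Nat.mul_le_mul hbig le_rfl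
      calc 2 * 3 ^ (1 + 1) * ((1 + 1) * ((0 + 1) * 1)) * ((t + 1) * t.factorial)
          = 36 * ((t + 1) * t.factorial) := by norm_num
        _ < 3 * (24 * ((t + 1) * t.factorial)) := by omega
        _ ≤ 3 * ((t + 3 + 1) * ((t + 2 + 1) * (t + 1 + 1)) * ((t + 1) * t.factorial)) := Nat.mul_le_mul_left _ hm
        _ = _ := by ring
    · rcases Nat.lt_or_ge (3 * k + m) 7 with h6 | h6
      · obtain rfl : k = 2 := by omega
        obtain rfl : m = 0 := by omega
        decide
      · have h := ih m hk2 h6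
        obtain ⟨w, hw⟩ : ∃ w, 3 * k + m = w + 3 := ⟨3 * k + m - 3, by omega⟩
        rw [show 3 * k + m - 3 = w by omega] at h
        rw [show 3 * (k + 1) + m - 3 = w + 3 by omega]
        simp only [Nat.factorial_succ, pow_succ]
        have hbig : 3 * (k + 1) ≤ (w + 2 + 1) * ((w + 1 + 1) * (w + 1)) := by
          calc 3 * (k + 1) = 3 * (k + 1) * 1 := (mul_one _).symm
            _ ≤ (w + 2 + 1) * ((w + 1 + 1) * (w + 1)) := by
              have e1 : 3 * (k + 1) ≤ (w + 2 + 1) * 2 := by omega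
              have e2 : 2 ≤ (w + 1 + 1) * (w + 1) := by nlinarith
              nlinarith
        calc 2 * (3 ^ k * 3) * ((k + 1) * k.factorial) * m.factorial
            = 3 * (k + 1) * (2 * 3 ^ k * k.factorial * m.factorial) := by ring
          _ < 3 * (k + 1) * (3 * w.factorial) := Nat.mul_lt_mul_of_pos_left h (by omega)
          _ ≤ (w + 2 + 1) * ((w + 1 + 1) * (w + 1)) * (3 * w.factorial) := Nat.mul_le_mul_right _ hbig
          _ = _ := by ring

theorem fact_gt (k n : ℕ) (hk : 2 ≤ k) (hn : 3 * k ≤ n) (h7 : 7 ≤ n) :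
    2 * 3 ^ k * k.factorial * (n - 3 * k).factorial < 3 * (n - 3).factorial := by
  have h := fact_gt_aux k (n - 3 * k) hk (by omega)
  rwa [show 3 * k + (n - 3 * k) - 3 = n - 3 by omega] at h

theorem three_cycle_of_card {g : Perm α} (h3 : orderOf g = 3) (hn : Fintype.card α ≠ 6)
    (hc : 3 * (Fintype.card α - 3).factorial ≤ 2 * Nat.card (Subgroup.centralizer ({g} : Set (Perm α)))) :
    IsThreeCycle g := by
  obtain ⟨k, hk⟩ := cycleType_prime_order (σ := g) (by rw [h3]; exact Nat.prime_three)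
  rw [h3] at hk
  rcases Nat.eq_zero_or_pos k with rfl | hk0
  · exact hk
  exfalso
  have hs := sum_cycleType_le g
  rw [hk, Multiset.sum_replicate, smul_eq_mul] at hs
  have hlt := fact_gt (k + 1) (Fintype.card α) (by omega) (by omega) (by omega)
  rw [Equiv.Perm.nat_card_centralizer, hk, Multiset.sum_replicate, Multiset.prod_replicate,
    Multiset.toFinset_replicate, if_neg (by omega), Finset.prod_singleton, Multiset.count_replicate_self,
    smul_eq_mul, mul_comm (k + 1) 3] at hc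
  have e : 2 * ((Fintype.card α - 3 * (k + 1)).factorial * 3 ^ (k + 1) * (k + 1).factorial) =
      2 * 3 ^ (k + 1) * (k + 1).factorial * (Fintype.card α - 3 * (k + 1)).factorial := by ring
  omega

end

theorem eq_one_of_commute (n : ℕ) (hn : 4 ≤ n) (σ : Perm (Fin n))
    (h : ∀ g ∈ alternatingGroup (Fin n), σ * g * σ⁻¹ = g) : σ = 1 := by
  refine Equiv.ext fun x => ?_
  by_contra hne
  simp only [Perm.one_apply] at hne
  obtain ⟨a, ha, b, hb, hab⟩ := Finset.one_lt_card.mp
    (show 1 < (({x, σ x} : Finset (Fin n))ᶜ).card by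
      rw [Finset.card_compl, Finset.card_pair (Ne.symm hne), Fintype.card_fin]; omega)
  simp only [Finset.mem_compl, Finset.mem_insert, Finset.mem_singleton, not_or] at ha hb
  have hk := h _ (cyc_three (Ne.symm ha.1) (Ne.symm hb.1) hab).mem_alternatingGroup
  rw [cyc_conj] at hk
  have h2 := congrArg (fun k : Perm (Fin n) => k (σ x)) hk
  rw [cyc_fst (fun e => ha.1 (σ.injective e).symm) (fun e => hb.1 (σ.injective e).symm),
    cyc_out hne (Ne.symm ha.2) (Ne.symm hb.2)] at h2
  exact ha.1 (σ.injective h2)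

theorem image_three (n : ℕ) (hn : 4 ≤ n) (h6 : n ≠ 6) (φ : MulAut (alternatingGroup (Fin n)))
    (x : alternatingGroup (Fin n)) (hx : IsThreeCycle (x : Perm (Fin n))) :
    IsThreeCycle (φ x : Perm (Fin n)) := by
  apply three_cycle_of_card
  · rw [Subgroup.orderOf_coe, MulEquiv.orderOf_eq, ← Subgroup.orderOf_coe]; exact hx.orderOf
  · simpa using h6
  · haveI : Nontrivial (Fin n) := Fin.nontrivial_iff_two_le.mpr (by omega)
    have hA : ∀ y : alternatingGroup (Fin n), Nat.card (Subgroup.centralizer ({y} : Set (alternatingGroup (Fin n)))) =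
        Nat.card ↥(Subgroup.centralizer ({(y : Perm (Fin n))} : Set (Perm (Fin n))) ⊓ alternatingGroup (Fin n)) := by
      intro y
      refine Nat.card_congr
        { toFun := fun z => ⟨z.1.1, ?_, z.1.2⟩, invFun := fun z => ⟨⟨z.1, z.2.2⟩, ?_⟩,
          left_inv := fun z => rfl, right_inv := fun z => rfl }
      · exact Subgroup.mem_centralizer_singleton_iff.mpr
          (congrArg Subtype.val (Subgroup.mem_centralizer_singleton_iff.mp z.2))
      · exact Subgroup.mem_centralizer_singleton_iff.mpr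
          (Subtype.ext (Subgroup.mem_centralizer_singleton_iff.mp z.2.1))
    have he : Nat.card (Subgroup.centralizer ({x} : Set (alternatingGroup (Fin n)))) =
        Nat.card (Subgroup.centralizer ({φ x} : Set (alternatingGroup (Fin n)))) := by
      refine Nat.card_congr (φ.toEquiv.subtypeEquiv fun z => ?_)
      simp only [Subgroup.mem_centralizer_singleton_iff, MulEquiv.toEquiv_eq_coe, MulEquiv.coe_toEquiv]
      rw [← map_mul, ← map_mul, φ.injective.eq_iff]
    rw [hA, hA] at he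
    have h1 : Nat.card ↥(Subgroup.centralizer ({(φ x : Perm (Fin n))} : Set (Perm (Fin n))) ⊓ alternatingGroup (Fin n)) ≤
        Nat.card (Subgroup.centralizer ({(φ x : Perm (Fin n))} : Set (Perm (Fin n)))) :=
      Subgroup.card_le_of_le inf_le_left
    have h2 : Nat.card (Subgroup.centralizer ({(x : Perm (Fin n))} : Set (Perm (Fin n)))) ≤
        2 * Nat.card ↥(Subgroup.centralizer ({(x : Perm (Fin n))} : Set (Perm (Fin n))) ⊓ alternatingGroup (Fin n)) := by
      set C := Subgroup.centralizer ({(x : Perm (Fin n))} : Set (Perm (Fin n)))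
      have h3 := Subgroup.relIndex_mul_relIndex (⊥ : Subgroup (Perm (Fin n))) (C ⊓ alternatingGroup (Fin n)) C bot_le inf_le_left
      rw [Subgroup.relIndex_bot_left, Subgroup.relIndex_bot_left, Subgroup.inf_relIndex_left] at h3
      have h4 : (alternatingGroup (Fin n)).relIndex C ≤ 2 := by
        rw [← alternatingGroup.index_eq_two (α := Fin n)]
        exact Subgroup.relIndex_le_of_le_right le_top (by simp [Subgroup.relIndex_top_right, alternatingGroup.index_eq_two]) |>.trans
          (le_of_eq (Subgroup.relIndex_top_right _))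
      rw [← h3, mul_comm 2]
      exact Nat.mul_le_mul_left _ h4
    have h5 : Nat.card (Subgroup.centralizer ({(x : Perm (Fin n))} : Set (Perm (Fin n)))) =
        3 * (n - 3).factorial := by
      rw [Equiv.Perm.nat_card_centralizer, hx.cycleType, Fintype.card_fin]
      simp [mul_comm]
    rw [Fintype.card_fin]
    omega

theorem surj (n : ℕ) (hn : 4 ≤ n) (h6 : n ≠ 6) (φ : MulAut (alternatingGroup (Fin n))) :
    ∃ σ : Perm (Fin n), MulAut.conjNormal σ = φ := by
  obtain ⟨o, e, u, hoe, hou, heu⟩ : ∃ o e u : Fin n, o ≠ e ∧ o ≠ u ∧ e ≠ u :=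
    ⟨⟨0, by omega⟩, ⟨1, by omega⟩, ⟨2, by omega⟩, by simp, by simp, by simp⟩
  let c : ∀ i : Fin n, alternatingGroup (Fin n) := fun i =>
    if h : i ≠ o ∧ i ≠ e then ⟨cyc o e i, (cyc_three hoe h.1.symm h.2.symm).mem_alternatingGroup⟩ else 1
  have hc : ∀ i, i ≠ o → i ≠ e → (c i : Perm (Fin n)) = cyc o e i := fun i h1 h2 => by simp [c, h1, h2]
  have hd : ∀ i, i ≠ o → i ≠ e → IsThreeCycle (φ (c i) : Perm (Fin n)) := fun i h1 h2 =>
    image_three n hn h6 φ _ (by rw [hc i h1 h2]; exact cyc_three hoe h1.symm h2.symm)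
  have hgen : ∀ g : alternatingGroup (Fin n), g ∈ Subgroup.closure (c '' {i | i ≠ o ∧ i ≠ e}) := by
    set K := (Subgroup.closure (c '' {i | i ≠ o ∧ i ≠ e})).map (alternatingGroup (Fin n)).subtype with hK
    have hle : alternatingGroup (Fin n) ≤ K := by
      rw [← closure_three_cycles_eq_alternating, Subgroup.closure_le]
      intro g hg
      obtain ⟨a, b, d, hab, had, hbd, rfl⟩ := exists_cyc hg
      exact cyc_mem K o e hoe (fun i h1 h2 => ⟨c i, Subgroup.subset_closure ⟨i, ⟨h1, h2⟩, rfl⟩, hc i h1 h2⟩)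
        a b d hab had hbd
    intro g
    obtain ⟨g', hg', he'⟩ := hle g.2
    exact (Subtype.ext he' : g' = g) ▸ hg'
  obtain ⟨P, Q, R, hPQ, hPR, hQR, hu⟩ := exists_cyc (hd u hou.symm heu.symm)
  have hrel : ∀ i j, i ≠ o → i ≠ e → j ≠ o → j ≠ e → i ≠ j →
      (φ (c i) : Perm (Fin n)) * φ (c j) * (φ (c i) * φ (c j)) = 1 ∧
      (φ (c i) : Perm (Fin n)) * φ (c j) ≠ 1 ∧ (φ (c j) : Perm (Fin n)) ≠ φ (c i) := by
    intro i j hi1 hi2 hj1 hj2 hij
    have hpt : ∀ z, z = cyc o e i (cyc o e j z) → z ≠ o := by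
      intro z hz ho
      subst ho
      rw [cyc_fst hoe hj1.symm, cyc_snd hi1.symm hi2.symm] at hz
      exact hi1 hz.symm
    have hsq : c i * c j * (c i * c j) = 1 := by
      refine Subtype.ext (Equiv.ext fun z => ?_)
      simp only [Subgroup.coe_mul, hc i hi1 hi2, hc j hj1 hj2, Perm.mul_apply, Subgroup.coe_one, Perm.one_apply]
      by_cases z1 : z = o
      · subst z1
        rw [cyc_fst hoe hj1.symm, cyc_snd hi1.symm hi2.symm, cyc_out hi1 hi2 hij, cyc_thd]
      by_cases z2 : z = e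
      · subst z2
        rw [cyc_snd hj1.symm hj2.symm, cyc_out hj1 hj2 hij.symm, cyc_thd, cyc_fst hoe hi1.symm]
      by_cases z3 : z = i
      · subst z3
        rw [cyc_out hi1 hi2 hij, cyc_thd, cyc_fst hoe hj1.symm, cyc_snd hi1.symm hi2.symm]
      by_cases z4 : z = j
      · subst z4
        rw [cyc_thd, cyc_fst hoe hi1.symm, cyc_snd hj1.symm hj2.symm, cyc_out hj1 hj2 hij.symm]
      rw [cyc_out z1 z2 z4, cyc_out z1 z2 z3, cyc_out z1 z2 z4, cyc_out z1 z2 z3]
    refine ⟨?_, ?_, ?_⟩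
    · have h := congrArg (fun g => (φ g : Perm (Fin n))) hsq
      simpa using h
    · intro h
      have h' : c i * c j = 1 := φ.injective (Subtype.ext (by simpa using h))
      refine hpt o ?_ rfl
      have := congrArg (fun g : alternatingGroup (Fin n) => (g : Perm (Fin n)) o) h'
      simpa [hc i hi1 hi2, hc j hj1 hj2] using this.symm
    · intro h
      have h' : c j = c i := φ.injective (Subtype.ext h)
      have := congrArg (fun g : alternatingGroup (Fin n) => (g : Perm (Fin n)) e) h'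
      simp only [hc i hi1 hi2, hc j hj1 hj2, cyc_snd hi1.symm hi2.symm, cyc_snd hj1.symm hj2.symm] at this
      exact hij this.symm
  have hform : ∀ i, i ≠ o → i ≠ e → i ≠ u → ∃ x, x ≠ P ∧ x ≠ Q ∧ x ≠ R ∧
      ((φ (c i) : Perm (Fin n)) = cyc P Q x ∨ (φ (c i) : Perm (Fin n)) = cyc Q R x ∨
        (φ (c i) : Perm (Fin n)) = cyc R P x) := by
    intro i hi1 hi2 hiu
    obtain ⟨a, b, d, hab, had, hbd, he⟩ := exists_cyc (hd i hi1 hi2)
    obtain ⟨r1, r2, r3⟩ := hrel u i hou.symm heu.symm hi1 hi2 (Ne.symm hiu)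
    rw [hu, he] at r1 r2 r3
    rw [he]
    exact edge hPQ hPR hQR hab had hbd r1 r2 r3
  choose! x hxP hxQ hxR hx using hform
  obtain ⟨A, B, C', hAB, hAC, hBC, hu', hall⟩ : ∃ A B C', A ≠ B ∧ A ≠ C' ∧ B ≠ C' ∧
      (φ (c u) : Perm (Fin n)) = cyc A B C' ∧
      ∀ i, i ≠ o → i ≠ e → i ≠ u → x i ≠ A ∧ x i ≠ B ∧ (φ (c i) : Perm (Fin n)) = cyc A B (x i) := by
    have r1 : cyc P Q R = cyc Q R P := cyc_rot hPQ hPR hQR
    have r2 : cyc P Q R = cyc R P Q := by rw [r1, cyc_rot hQR hPQ.symm hPR.symm]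
    have hdiff : ∀ i j, i ≠ o → i ≠ e → i ≠ u → j ≠ o → j ≠ e → j ≠ u →
        (((φ (c i) : Perm (Fin n)) = cyc P Q (x i) ∧ (φ (c j) : Perm (Fin n)) = cyc Q R (x j)) ∨
        ((φ (c i) : Perm (Fin n)) = cyc Q R (x i) ∧ (φ (c j) : Perm (Fin n)) = cyc R P (x j)) ∨
        ((φ (c i) : Perm (Fin n)) = cyc R P (x i) ∧ (φ (c j) : Perm (Fin n)) = cyc P Q (x j))) → x i = x j := by
      intro i j hi1 hi2 hi3 hj1 hj2 hj3 hh
      by_contra hne
      have hij : i ≠ j := fun e => hne (e ▸ rfl)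
      have hr := (hrel i j hi1 hi2 hj1 hj2 hij).1
      rcases hh with ⟨ei, ej⟩ | ⟨ei, ej⟩ | ⟨ei, ej⟩ <;> rw [ei, ej] at hr
      · exact pair_ne hPQ hPR hQR (hxP i hi1 hi2 hi3) (hxQ i hi1 hi2 hi3) (hxR i hi1 hi2 hi3)
          (hxP j hj1 hj2 hj3) hne hr
      · exact pair_ne hQR hPQ.symm hPR.symm (hxQ i hi1 hi2 hi3) (hxR i hi1 hi2 hi3) (hxP i hi1 hi2 hi3)
          (hxQ j hj1 hj2 hj3) hne hr
      · exact pair_ne hPR.symm hQR.symm hPQ (hxR i hi1 hi2 hi3) (hxP i hi1 hi2 hi3) (hxQ i hi1 hi2 hi3)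
          (hxR j hj1 hj2 hj3) hne hr
    by_cases hw : ∃ y, ∀ i, i ≠ o → i ≠ e → i ≠ u → x i = y
    · obtain ⟨y, hy⟩ := hw
      by_cases hone : ∀ i j, i ≠ o → i ≠ e → i ≠ u → j ≠ o → j ≠ e → j ≠ u → i = j
      · by_cases hex : ∃ i, i ≠ o ∧ i ≠ e ∧ i ≠ u
        · obtain ⟨i, hi1, hi2, hi3⟩ := hex
          rcases hx i hi1 hi2 hi3 with h | h | h
          · exact ⟨P, Q, R, hPQ, hPR, hQR, hu, fun j a b d => by
              obtain rfl := hone j i a b d hi1 hi2 hi3; exact ⟨hxP j a b d, hxQ j a b d, h⟩⟩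
          · exact ⟨Q, R, P, hQR, hPQ.symm, hPR.symm, hu.trans r1, fun j a b d => by
              obtain rfl := hone j i a b d hi1 hi2 hi3; exact ⟨hxQ j a b d, hxR j a b d, h⟩⟩
          · exact ⟨R, P, Q, hPR.symm, hQR.symm, hPQ, hu.trans r2, fun j a b d => by
              obtain rfl := hone j i a b d hi1 hi2 hi3; exact ⟨hxR j a b d, hxP j a b d, h⟩⟩
        · push Not at hex
          exact ⟨P, Q, R, hPQ, hPR, hQR, hu, fun j a b d => absurd (hex j a b) d⟩
      · exfalso
        push Not at hone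
        obtain ⟨i, j, hi1, hi2, hi3, hj1, hj2, hj3, hij⟩ := hone
        have hn5 : 5 ≤ n := by
          have : ({o, e, u, i, j} : Finset (Fin n)).card = 5 := by
            simp [hoe, hou, heu, Ne.symm hi1, Ne.symm hi2, Ne.symm hi3, Ne.symm hj1, Ne.symm hj2, Ne.symm hj3, hij]
          have := Finset.card_le_univ ({o, e, u, i, j} : Finset (Fin n))
          rw [Fintype.card_fin] at this
          omega
        obtain ⟨z, hz⟩ := Finset.card_pos.mp (show 0 < (({P, Q, R, y} : Finset (Fin n))ᶜ).card by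
          rw [Finset.card_compl, Fintype.card_fin]
          have := Finset.card_le_four (a := P) (b := Q) (c := R) (d := y)
          omega)
        simp only [Finset.mem_compl, Finset.mem_insert, Finset.mem_singleton, not_or] at hz
        have hfix : ∀ g : alternatingGroup (Fin n), (φ g : Perm (Fin n)) z = z := by
          intro g
          induction hgen g using Subgroup.closure_induction with
          | mem w hw =>
            obtain ⟨k, ⟨hk1, hk2⟩, rfl⟩ := hw
            by_cases hk3 : k = u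
            · rw [hk3, hu]; exact cyc_out hz.1 hz.2.1 hz.2.2.1
            · have hy' := hy k hk1 hk2 hk3
              rcases hx k hk1 hk2 hk3 with h | h | h <;> rw [h, hy']
              · exact cyc_out hz.1 hz.2.1 hz.2.2.2
              · exact cyc_out hz.2.1 hz.2.2.1 hz.2.2.2
              · exact cyc_out hz.2.2.1 hz.1 hz.2.2.2
          | one => simp
          | mul a b _ _ ha hb => simp [ha, hb]
          | inv a _ ha =>
            rw [map_inv, Subgroup.coe_inv, Perm.inv_eq_iff_eq]; exact ha.symm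
        obtain ⟨g, hg⟩ := φ.surjective ⟨cyc z P Q, (cyc_three hz.1 hz.2.1 hPQ).mem_alternatingGroup⟩
        have := hfix g
        rw [hg] at this
        rw [cyc_fst hz.1 hz.2.1] at this
        exact hz.1 this.symm
    · have key : ∀ i j, i ≠ o → i ≠ e → i ≠ u → j ≠ o → j ≠ e → j ≠ u →
          ((φ (c i) : Perm (Fin n)) = cyc P Q (x i) → (φ (c j) : Perm (Fin n)) = cyc P Q (x j)) ∧
          ((φ (c i) : Perm (Fin n)) = cyc Q R (x i) → (φ (c j) : Perm (Fin n)) = cyc Q R (x j)) ∧
          ((φ (c i) : Perm (Fin n)) = cyc R P (x i) → (φ (c j) : Perm (Fin n)) = cyc R P (x j)) := by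
        intro i j hi1 hi2 hi3 hj1 hj2 hj3
        -- if `i, j` differ then every other image shares the third point
        have gen : x i = x j → ((φ (c i) : Perm (Fin n)) ≠ φ (c j)) → False := by
          intro hxy hne'
          apply hw
          refine ⟨x i, fun k hk1 hk2 hk3 => ?_⟩
          rcases hx i hi1 hi2 hi3 with h | h | h <;> rcases hx j hj1 hj2 hj3 with h' | h' | h' <;>
            rcases hx k hk1 hk2 hk3 with g | g | g <;>
            first
              | (refine absurd ?_ hne'; rw [h, h', hxy]; done)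
              | exact hdiff k i hk1 hk2 hk3 hi1 hi2 hi3 (Or.inl ⟨g, h⟩)
              | exact hdiff k i hk1 hk2 hk3 hi1 hi2 hi3 (Or.inr (Or.inl ⟨g, h⟩))
              | exact hdiff k i hk1 hk2 hk3 hi1 hi2 hi3 (Or.inr (Or.inr ⟨g, h⟩))
              | exact (hdiff i k hi1 hi2 hi3 hk1 hk2 hk3 (Or.inl ⟨h, g⟩)).symm
              | exact (hdiff i k hi1 hi2 hi3 hk1 hk2 hk3 (Or.inr (Or.inl ⟨h, g⟩))).symm
              | exact (hdiff i k hi1 hi2 hi3 hk1 hk2 hk3 (Or.inr (Or.inr ⟨h, g⟩))).symm
              | exact hxy ▸ hdiff k j hk1 hk2 hk3 hj1 hj2 hj3 (Or.inl ⟨g, h'⟩)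
              | exact hxy ▸ hdiff k j hk1 hk2 hk3 hj1 hj2 hj3 (Or.inr (Or.inl ⟨g, h'⟩))
              | exact hxy ▸ hdiff k j hk1 hk2 hk3 hj1 hj2 hj3 (Or.inr (Or.inr ⟨g, h'⟩))
              | exact hxy ▸ (hdiff j k hj1 hj2 hj3 hk1 hk2 hk3 (Or.inl ⟨h', g⟩)).symm
              | exact hxy ▸ (hdiff j k hj1 hj2 hj3 hk1 hk2 hk3 (Or.inr (Or.inl ⟨h', g⟩))).symm
              | exact hxy ▸ (hdiff j k hj1 hj2 hj3 hk1 hk2 hk3 (Or.inr (Or.inr ⟨h', g⟩))).symm
        have hP := hxP i hi1 hi2 hi3
        have hQ := hxQ i hi1 hi2 hi3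
        have hR := hxR i hi1 hi2 hi3
        refine ⟨fun h => ?_, fun h => ?_, fun h => ?_⟩ <;> rcases hx j hj1 hj2 hj3 with h' | h' | h' <;>
          first
            | exact h'
            | (exfalso
               have hh : x i = x j := by
                 first
                   | exact hdiff i j hi1 hi2 hi3 hj1 hj2 hj3 (Or.inl ⟨h, h'⟩)
                   | exact hdiff i j hi1 hi2 hi3 hj1 hj2 hj3 (Or.inr (Or.inl ⟨h, h'⟩))
                   | exact hdiff i j hi1 hi2 hi3 hj1 hj2 hj3 (Or.inr (Or.inr ⟨h, h'⟩))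
                   | exact (hdiff j i hj1 hj2 hj3 hi1 hi2 hi3 (Or.inl ⟨h', h⟩)).symm
                   | exact (hdiff j i hj1 hj2 hj3 hi1 hi2 hi3 (Or.inr (Or.inl ⟨h', h⟩))).symm
                   | exact (hdiff j i hj1 hj2 hj3 hi1 hi2 hi3 (Or.inr (Or.inr ⟨h', h⟩))).symm
               refine gen hh fun heq => ?_
               rw [h, h', ← hh] at heq
               have t1 := congrArg (fun g : Perm (Fin n) => g (x i)) heq
               simp only [cyc_thd] at t1
               first | exact hPQ t1 | exact hPQ t1.symm | exact hQR t1 | exact hQR t1.symm | exact hPR t1 | exact hPR t1.symm)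
      push Not at hw
      obtain ⟨i, hi1, hi2, hi3, -⟩ := hw P
      rcases hx i hi1 hi2 hi3 with h | h | h
      · exact ⟨P, Q, R, hPQ, hPR, hQR, hu, fun j a b d =>
          ⟨hxP j a b d, hxQ j a b d, (key i j hi1 hi2 hi3 a b d).1 h⟩⟩
      · exact ⟨Q, R, P, hQR, hPQ.symm, hPR.symm, hu.trans r1, fun j a b d =>
          ⟨hxQ j a b d, hxR j a b d, (key i j hi1 hi2 hi3 a b d).2.1 h⟩⟩
      · exact ⟨R, P, Q, hPR.symm, hQR.symm, hPQ, hu.trans r2, fun j a b d =>
          ⟨hxR j a b d, hxP j a b d, (key i j hi1 hi2 hi3 a b d).2.2 h⟩⟩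
  let f : Fin n → Fin n := fun i => if i = o then A else if i = e then B else if i = u then C' else x i
  have hfc : ∀ i, i ≠ o → i ≠ e → (φ (c i) : Perm (Fin n)) = cyc A B (f i) ∧ f i ≠ A ∧ f i ≠ B := by
    intro i h1 h2
    by_cases h3 : i = u
    · subst h3; simp only [f, h1, h2, if_false, if_true]
      exact ⟨hu', hAC.symm, hBC.symm⟩
    · obtain ⟨q1, q2, q3⟩ := hall i h1 h2 h3
      simp only [f, h1, h2, h3, if_false]
      exact ⟨q3, q1, q2⟩
  have hfo : f o = A := by simp [f]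
  have hfe : f e = B := by simp [f, hoe.symm]
  have hinj : Function.Injective f := by
    intro i j hij
    by_contra hne
    have hA : ∀ k, k ≠ o → f k ≠ A := fun k hk => by
      by_cases hke : k = e
      · rw [hke, hfe]; exact hAB.symm
      · exact (hfc k hk hke).2.1
    have hB : ∀ k, k ≠ e → f k ≠ B := fun k hk => by
      by_cases hko : k = o
      · rw [hko, hfo]; exact hAB
      · exact (hfc k hko hk).2.2
    by_cases i1 : i = o
    · subst i1; exact hA j (Ne.symm hne) (by rw [← hij, hfo])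
    by_cases j1 : j = o
    · subst j1; exact hA i hne (by rw [hij, hfo])
    by_cases i2 : i = e
    · subst i2; exact hB j (Ne.symm hne) (by rw [← hij, hfe])
    by_cases j2 : j = e
    · subst j2; exact hB i hne (by rw [hij, hfe])
    have := (hrel i j i1 i2 j1 j2 hne).2.2
    rw [(hfc i i1 i2).1, (hfc j j1 j2).1, hij] at this
    exact this rfl
  let σ : Perm (Fin n) := Equiv.ofBijective f (Finite.injective_iff_bijective.mp hinj)
  refine ⟨σ, MulEquiv.ext fun g => ?_⟩
  induction hgen g using Subgroup.closure_induction with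
  | mem w hw =>
    obtain ⟨k, ⟨hk1, hk2⟩, rfl⟩ := hw
    refine Subtype.ext ?_
    rw [MulAut.conjNormal_apply, hc k hk1 hk2, cyc_conj, (hfc k hk1 hk2).1]
    show cyc (f o) (f e) (f k) = _
    rw [hfo, hfe]
  | one => simp
  | mul a b _ _ ha hb => rw [map_mul, map_mul, ha, hb]
  | inv a _ ha => rw [map_inv, map_inv, ha]

/-- Automorphisms of the alternating groups: for n ≥ 4 with n ≠ 6, every automorphism of the alternating group of degree n is conjugation by a unique permutation, i.e. conjugation induces an isomorphism from the symmetric group of degree n onto the automorphism group of the alternating group (so the outer automorphism group has order 2). -/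
theorem result (n : ℕ) (hn : 4 ≤ n) (h6 : n ≠ 6) : Function.Bijective (MulAut.conjNormal : Equiv.Perm (Fin n) →* MulAut ↥(alternatingGroup (Fin n))) := by
  refine ⟨(injective_iff_map_eq_one _).mpr fun σ hσ => eq_one_of_commute n hn σ fun g hg => ?_,
    fun φ => surj n hn h6 φ⟩
  have := congrArg (fun f : MulAut (alternatingGroup (Fin n)) => ((f ⟨g, hg⟩ : alternatingGroup (Fin n)) : Equiv.Perm (Fin n))) hσ
  simpa using this

end Cfsg.Agent.S2119
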