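import Cfsg.Statements.S3224
import Mathlib
import Cfsg.Agent.Lib.Invol.Basic
import Cfsg.Agent.Lib.Solv.Nilpotent

set_option autoImplicit false
open Cfsg

namespace Cfsg.Agent.S3224


variable {S : Type*} [Group S] [Finite S]

/-- A normal subgroup of order two is central. -/
theorem central_of_unique {z : S} (hz : ∀ g : S, g * z * g⁻¹ = z) : z ∈ Subgroup.center S :=
  Subgroup.mem_center_iff.2 fun g => mul_inv_eq_iff_eq_mul.1 (hz g)

theorem conj_involution_cyclic (a : S) {m : ℕ} (ha : orderOf a = 2 ^ (m + 1)) {u : S} (hu : u ∈ Subgroup.zpowers a)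
    (hu2 : u * u = 1) (hu1 : u ≠ 1) : u = a ^ (2 ^ m) := by
  rw [← mem_powers_iff_mem_zpowers, Submonoid.mem_powers_iff] at hu
  obtain ⟨n, rfl⟩ := hu
  rw [← pow_add, ← orderOf_dvd_iff_pow_eq_one, ha, pow_succ, ← two_mul, Nat.mul_comm 2 n] at hu2
  obtain ⟨c, hc⟩ := Nat.dvd_of_mul_dvd_mul_right (by norm_num) hu2
  subst hc
  rw [pow_mul] at hu1 ⊢
  have h2 : (a ^ 2 ^ m) ^ 2 = 1 := by rw [← pow_mul, ← pow_succ, ← ha, pow_orderOf_eq_one]
  rcases Nat.even_or_odd c with ⟨d, rfl⟩ | ⟨d, rfl⟩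
  · exact absurd (by rw [← two_mul, pow_mul, h2, one_pow]) hu1
  · rw [pow_succ, pow_mul, h2, one_pow, one_mul]

/-- The final step: a cyclic subgroup of index two avoiding `x`. -/
theorem of_cyclic (hS : IsPGroup 2 S) (x : S) (hx : orderOf x = 2)
    (hC : Nat.card ↥(Subgroup.centralizer ({x} : Set S)) = 4) (a : S) (hidx : (Subgroup.zpowers a).index = 2)
    (hxa : x ∉ Subgroup.zpowers a) :
    (∃ n : ℕ, Nonempty (S ≃* DihedralGroup n)) ∨ Cfsg.IsQuasiDihedral S ∨ Nat.card S = 4 := by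
  have := Fact.mk Nat.prime_two
  obtain ⟨m, hm⟩ := IsPGroup.iff_orderOf.1 hS a
  have hcard : Nat.card S = 2 ^ m * 2 := by
    rw [← (Subgroup.zpowers a).card_mul_index, hidx, Nat.card_zpowers, hm]
  rcases m with _ | _ | m
  · exfalso
    have := Nat.le_of_dvd Nat.card_pos (Subgroup.card_subgroup_dvd_card (Subgroup.centralizer ({x} : Set S)))
    omega
  · exact Or.inr (Or.inr (by omega))
  set A := Subgroup.zpowers a with hA
  haveI : A.Normal := Subgroup.normal_of_index_eq_two hidx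
  have hfix : ∀ u ∈ A, x * u * x⁻¹ = u → u = 1 ∨ u = a ^ (2 ^ (m + 1)) := by
    intro u hu hxu
    by_cases hu1 : u = 1
    · exact Or.inl hu1
    refine Or.inr (conj_involution_cyclic a hm hu ?_ hu1)
    -- the fixed points form a subgroup of order two
    set D := A ⊓ Subgroup.centralizer ({x} : Set S) with hD
    have hlt : D < Subgroup.centralizer ({x} : Set S) := lt_of_le_of_ne inf_le_right fun h => hxa
      ((h.symm ▸ Subgroup.mem_centralizer_singleton_iff.2 rfl : x ∈ D)).1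
    have hDu : u ∈ D := ⟨hu, Subgroup.mem_centralizer_singleton_iff.2 (mul_inv_eq_iff_eq_mul.1 hxu).symm⟩
    have hd := Subgroup.card_dvd_of_le hlt.le
    rw [hC] at hd
    have hne : Nat.card ↥D ≠ 4 := fun h => hlt.ne (Subgroup.eq_of_le_of_card_ge hlt.le (by rw [hC, h]))
    have h2 : Nat.card ↥D ∣ 2 := by
      have := Nat.le_of_dvd (by norm_num) hd
      interval_cases h : Nat.card ↥D <;> simp_all
    have h3 : orderOf u ∣ 2 := by
      rw [← Subgroup.orderOf_mk u hDu]
      exact (orderOf_dvd_natCard _).trans h2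
    rw [← pow_two]
    exact orderOf_dvd_iff_pow_eq_one.1 h3
  set y := x * a * x⁻¹ with hy
  have hya : y ∈ A := (inferInstance : A.Normal).conj_mem a (Subgroup.mem_zpowers a) x
  have hxx : x * x = 1 := by rw [← pow_two, ← hx]; exact pow_orderOf_eq_one x
  have hxi : x⁻¹ = x := inv_eq_of_mul_eq_one_left hxx
  have hcom : ∀ u ∈ A, ∀ v ∈ A, u * v = v * u := by
    rintro _ ⟨i, rfl⟩ _ ⟨j, rfl⟩
    exact (Commute.refl a).zpow_zpow i j
  have hf : x * (a * y) * x⁻¹ = a * y := by
    calc x * (a * y) * x⁻¹ = y * ((x * x) * a * (x⁻¹ * x⁻¹)) := by rw [hy]; group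
      _ = y * a := by rw [hxi, hxx, one_mul, mul_one]
      _ = a * y := hcom y hya a (Subgroup.mem_zpowers a)
  rcases hfix _ (A.mul_mem (Subgroup.mem_zpowers a) hya) hf with h1 | h1
  · left
    have hinv : x * a * x⁻¹ = a⁻¹ := eq_inv_of_mul_eq_one_right h1
    refine ⟨orderOf a, ⟨(MulEquiv.ofBijective (Cfsg.Lib.Invol.dihedralHom (orderOf a) (pow_orderOf_eq_one a) hxx hinv)
      ((Nat.bijective_iff_injective_and_card _).2 ⟨Cfsg.Lib.Invol.dihedralHom_injective hxx hinv hxa, ?_⟩)).symm⟩⟩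
    rw [DihedralGroup.nat_card, hcard, hm, Nat.mul_comm]
  · right; left
    rcases m with _ | m
    · exfalso
      have h2 : y = a := by
        have h3 : a * y = a * a := by rw [h1, ← pow_two]; rfl
        exact mul_left_cancel h3
      rcases hfix a (Subgroup.mem_zpowers a) h2 with h | h
      · rw [h, orderOf_one] at hm; norm_num at hm
      · have h4 : orderOf a = 2 := by
          refine orderOf_eq_prime ?_ ?_
          · rw [h, ← pow_mul, ← pow_succ, ← hm, pow_orderOf_eq_one]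
          · intro h5; rw [h5, orderOf_one] at hm; norm_num at hm
        omega
    refine ⟨m + 3, by omega, by rw [hcard]; ring, a, x, hm, hx, ?_⟩
    show y = a ^ (2 ^ (m + 3 - 1) - 1)
    have hpos : 1 ≤ 2 ^ (m + 3 - 1) := Nat.one_le_two_pow
    apply mul_left_cancel (a := a)
    rw [h1, ← pow_succ', Nat.sub_add_cancel hpos]
    congr 2

theorem of_card_eight (hS : IsPGroup 2 S) (x : S) (hx : orderOf x = 2)
    (hC : Nat.card ↥(Subgroup.centralizer ({x} : Set S)) = 4) (h8 : Nat.card S = 8) :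
    (∃ n : ℕ, Nonempty (S ≃* DihedralGroup n)) ∨ Cfsg.IsQuasiDihedral S ∨ Nat.card S = 4 := by
  have hnc : ¬ ∀ g : S, g * x = x * g := fun h => by
    have : Subgroup.centralizer ({x} : Set S) = ⊤ :=
      (Subgroup.eq_top_iff' _).2 fun g => Subgroup.mem_centralizer_singleton_iff.2 (h g)
    rw [this, Subgroup.card_top] at hC
    omega
  obtain ⟨w, hw⟩ : ∃ w : S, w * w ≠ 1 := by
    by_contra h
    push Not at h
    refine hnc fun g => ?_
    have e := h (g * x)
    calc g * x = g⁻¹ * x⁻¹ := by rw [inv_eq_of_mul_eq_one_left (h g), inv_eq_of_mul_eq_one_left (h x)]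
      _ = (x * g)⁻¹ := by group
      _ = x * g := inv_eq_of_mul_eq_one_left (h _)
  have hw4 : orderOf w = 4 := by
    have hd : orderOf w ∣ 8 := h8 ▸ orderOf_dvd_natCard w
    have h1 : ¬ orderOf w ∣ 2 := fun h => hw (by rw [← pow_two]; exact orderOf_dvd_iff_pow_eq_one.1 h)
    have h2 : orderOf w ≠ 8 := fun h => hnc fun g => by
      have htop : Subgroup.zpowers w = ⊤ := Subgroup.eq_top_of_card_eq _ (by rw [Nat.card_zpowers, h, h8])
      obtain ⟨i, rfl⟩ := (htop ▸ Subgroup.mem_top g : g ∈ Subgroup.zpowers w)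
      obtain ⟨j, rfl⟩ := (htop ▸ Subgroup.mem_top x : x ∈ Subgroup.zpowers w)
      exact ((Commute.refl w).zpow_zpow i j).eq
    have := Nat.le_of_dvd (by norm_num) hd
    interval_cases h : orderOf w <;> simp_all
  have hidx : (Subgroup.zpowers w).index = 2 := by
    have := (Subgroup.zpowers w).card_mul_index
    rw [Nat.card_zpowers, hw4, h8] at this
    omega
  refine of_cyclic hS x hx hC w hidx fun hxw => hnc fun g => ?_
  haveI : (Subgroup.zpowers w).Normal := Subgroup.normal_of_index_eq_two hidx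
  have hxx : x * x = 1 := by rw [← pow_two, ← hx]; exact pow_orderOf_eq_one x
  have hx1 : x ≠ 1 := fun h => by rw [h, orderOf_one] at hx; omega
  have e1 := conj_involution_cyclic w (m := 1) hw4 hxw hxx hx1
  have e2 := conj_involution_cyclic w (m := 1) hw4 ((inferInstance : (Subgroup.zpowers w).Normal).conj_mem x hxw g)
    (by rw [conj_mul, hxx, mul_one, mul_inv_cancel]) (fun h => hx1 (conj_eq_one_iff.1 h))
  rw [← e1] at e2
  exact mul_inv_eq_iff_eq_mul.1 e2


/-- A finite 2-group containing an involution whose centralizer has order 4 is dihedral, quasi-dihedral (semidihedral), or of order 4. -/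
theorem result {S : Type*} [Group S] [Finite S] (hS : IsPGroup 2 S)
    (x : S) (hx : orderOf x = 2) (hC : Nat.card ↥(Subgroup.centralizer ({x} : Set S)) = 4) :
    (∃ n : ℕ, Nonempty (S ≃* DihedralGroup n)) ∨ Cfsg.IsQuasiDihedral S ∨ Nat.card S = 4 := by
  classical
  have := Fact.mk Nat.prime_two
  haveI : Group.IsNilpotent S := hS.isNilpotent
  by_cases h4 : Nat.card S = 4
  · exact Or.inr (Or.inr h4)
  have hxx : x * x = 1 := by rw [← pow_two, ← hx]; exact pow_orderOf_eq_one x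
  have hxi : x⁻¹ = x := inv_eq_of_mul_eq_one_left hxx
  have hx1 : x ≠ 1 := fun h => by rw [h, orderOf_one] at hx; omega
  have hne : Subgroup.centralizer ({x} : Set S) ≠ ⊤ := fun h => h4 (by rw [← hC, h, Subgroup.card_top])
  -- a central involution
  obtain ⟨z, hzc, hz2, hz1⟩ : ∃ z ∈ Subgroup.center S, z * z = 1 ∧ z ≠ 1 := by
    haveI : Nontrivial S := ⟨⟨x, 1, hx1⟩⟩
    haveI := hS.center_nontrivial
    obtain ⟨n, hn, hn'⟩ := (hS.to_subgroup (Subgroup.center S)).nontrivial_iff_card.1 inferInstance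
    obtain ⟨z, hz⟩ := exists_prime_orderOf_dvd_card' (G := ↥(Subgroup.center S)) 2 (hn' ▸ dvd_pow_self 2 (by omega))
    refine ⟨z, z.2, ?_, fun h => ?_⟩
    · rw [← pow_two, ← hz, ← Subgroup.orderOf_coe, pow_orderOf_eq_one]
    · rw [show z = 1 from Subtype.ext h, orderOf_one] at hz; omega
  have hzx : z ≠ x := fun h => hne ((Subgroup.eq_top_iff' _).2 fun g =>
    Subgroup.mem_centralizer_singleton_iff.2 (h ▸ Subgroup.mem_center_iff.1 hzc g))
  have hzz : ∀ g : S, g * z = z * g := Subgroup.mem_center_iff.1 hzc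
  have hCmem : ∀ u : S, u * x = x * u → u = 1 ∨ u = x ∨ u = z ∨ u = x * z := by
    intro u hu
    have : Fintype ↥(Subgroup.centralizer ({x} : Set S)) := Fintype.ofFinite _
    have hxm : x ∈ Subgroup.centralizer ({x} : Set S) := Subgroup.mem_centralizer_singleton_iff.2 rfl
    have hzm : z ∈ Subgroup.centralizer ({x} : Set S) := Subgroup.mem_centralizer_singleton_iff.2 (hzz x).symm
    have hs : ({1, ⟨x, hxm⟩, ⟨z, hzm⟩, ⟨x, hxm⟩ * ⟨z, hzm⟩} : Finset ↥(Subgroup.centralizer ({x} : Set S))) = Finset.univ := by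
      apply Finset.eq_univ_of_card
      have a1 : x * z ≠ x := fun e => hz1 (mul_eq_left.1 e)
      have a2 : x * z ≠ z := fun e => hx1 (mul_eq_right.1 e)
      have a3 : x * z ≠ 1 := fun e => hzx ((eq_inv_of_mul_eq_one_right e).trans hxi)
      rw [← Nat.card_eq_fintype_card, hC, Finset.card_insert_of_notMem, Finset.card_insert_of_notMem,
        Finset.card_insert_of_notMem, Finset.card_singleton] <;>
        simp [Subtype.ext_iff, hx1.symm, hz1.symm, a3.symm, hzx.symm, a1.symm, a2.symm]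
    have := hs ▸ Finset.mem_univ (⟨u, Subgroup.mem_centralizer_singleton_iff.2 hu⟩ : ↥(Subgroup.centralizer ({x} : Set S)))
    simpa [Subtype.ext_iff] using this
  obtain ⟨A, -, hmax⟩ := Finite.exists_le_maximal (p := fun N : Subgroup S => N.Normal ∧ IsMulCommutative N)
    (show (⊥ : Subgroup S).Normal ∧ IsMulCommutative (⊥ : Subgroup S) from ⟨inferInstance, inferInstance⟩)
  haveI := hmax.1.1
  haveI := hmax.1.2
  have hcent := Cfsg.Lib.Solv.centralizer_eq_of_maximal_abelian_normal A fun M hM hMc hle =>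
    le_antisymm (hmax.2 ⟨hM, hMc⟩ hle) hle
  have hself : ∀ g : S, (∀ u ∈ A, u * g = g * u) → g ∈ A := fun g hg => hcent ▸ Subgroup.mem_centralizer_iff.2 hg
  have hcom : ∀ u ∈ A, ∀ v ∈ A, u * v = v * u := fun u hu v hv =>
    congrArg Subtype.val (mul_comm' (⟨u, hu⟩ : ↥A) ⟨v, hv⟩)
  have hzA : z ∈ A := hself z fun u _ => hzz u
  have hAn : ∀ g : S, ∀ u ∈ A, g * u * g⁻¹ ∈ A := fun g u hu => hmax.1.1.conj_mem u hu g
  by_cases hxA : x ∈ A
  · -- `A` is the centralizer of `x`, and `x` has two conjugates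
    refine of_card_eight hS x hx hC ?_
    have hxz : ∀ g : S, g * x = x * g ∨ g * x * g⁻¹ = x * z := by
      intro g
      have hmem := hAn g x hxA
      rcases hCmem _ (hcom _ hmem x hxA) with e | e | e | e
      · exact absurd (conj_eq_one_iff.1 e) hx1
      · exact Or.inl (mul_inv_eq_iff_eq_mul.1 e)
      · exfalso
        apply hzx
        calc z = g⁻¹ * z * g := by rw [mul_assoc, ← hzz g, inv_mul_cancel_left]
          _ = x := by rw [← e]; group
      · exact Or.inr e
    obtain ⟨g0, hg0⟩ : ∃ g0 : S, g0 * x ≠ x * g0 := by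
      by_contra h
      push Not at h
      exact hne ((Subgroup.eq_top_iff' _).2 fun g => Subgroup.mem_centralizer_singleton_iff.2 (h g))
    have hi : (Subgroup.centralizer ({x} : Set S)).index = 2 := by
      rw [Subgroup.index_eq_two_iff]
      refine ⟨g0, fun b => ?_⟩
      rw [Subgroup.mem_centralizer_singleton_iff, Subgroup.mem_centralizer_singleton_iff]
      rcases hxz b with hb | hb
      · refine Or.inr ⟨hb, fun h => hg0 ?_⟩
        calc g0 * x = b⁻¹ * (b * g0 * x) := by group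
          _ = b⁻¹ * x * b * g0 := by rw [h]; group
          _ = b⁻¹ * (b * x) * g0 := by rw [hb]; group
          _ = x * g0 := by group
      · have hbn : ¬ b * x = x * b := fun h => by
          rw [h, mul_inv_cancel_right] at hb
          exact hz1 (mul_eq_left.1 hb.symm)
        refine Or.inl ⟨?_, hbn⟩
        have h0 := (hxz g0).resolve_left hg0
        refine mul_inv_eq_iff_eq_mul.1 ?_
        calc b * g0 * x * (b * g0)⁻¹ = b * (g0 * x * g0⁻¹) * b⁻¹ := by group
          _ = (b * x * b⁻¹) * (b * z * b⁻¹) := by rw [h0]; group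
          _ = x := by rw [hb, hzz b, mul_inv_cancel_right, mul_assoc, hz2, mul_one]
    rw [← Subgroup.card_mul_index (Subgroup.centralizer ({x} : Set S)), hi, hC]
  have hfix : ∀ u ∈ A, x * u * x⁻¹ = u → u = 1 ∨ u = z := by
    intro u hu hxu
    rcases hCmem u (mul_inv_eq_iff_eq_mul.1 hxu).symm with e | e | e | e
    · exact Or.inl e
    · exact absurd (e ▸ hu) hxA
    · exact Or.inr e
    · refine absurd ?_ hxA
      have := A.mul_mem hu hzA
      rwa [e, mul_assoc, hz2, mul_one] at this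
  have hf : ∀ u ∈ A, u * (x * u * x⁻¹) = 1 ∨ u * (x * u * x⁻¹) = z := by
    intro u hu
    refine hfix _ (A.mul_mem hu (hAn x u hu)) ?_
    calc x * (u * (x * u * x⁻¹)) * x⁻¹ = (x * u * x⁻¹) * ((x * x) * u * (x⁻¹ * x⁻¹)) := by group
      _ = (x * u * x⁻¹) * u := by rw [hxi, hxx, one_mul, mul_one]
      _ = _ := hcom _ (hAn x u hu) u hu
  by_cases hfour : ∃ e ∈ A, e * e = 1 ∧ e ≠ 1 ∧ e ≠ z
  · -- `A` is a four-group
    obtain ⟨e, he, he2, he1, hez⟩ := hfour
    refine of_card_eight hS x hx hC ?_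
    have hei : e⁻¹ = e := inv_eq_of_mul_eq_one_left he2
    have hxe : x * e * x⁻¹ = e * z := by
      rcases hf e he with h | h
      · rw [mul_eq_one_iff_inv_eq, hei] at h
        exact absurd (hfix e he h.symm) (by tauto)
      · rw [← h, ← mul_assoc, he2, one_mul]
    have hno4 : ∀ b ∈ A, b * b = 1 := by
      intro b hb
      by_contra hb2
      obtain ⟨b, hb, hb2, hb4⟩ : ∃ c ∈ A, c * c ≠ 1 ∧ c ^ 4 = 1 := by
        obtain ⟨k, hk⟩ := hS b
        induction k generalizing b with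
        | zero => exact absurd (by rw [show b = 1 by simpa using hk, mul_one]) hb2
        | succ k ih =>
          by_cases h : b ^ 2 * b ^ 2 = 1
          · exact ⟨b, hb, hb2, by rw [← h, ← pow_add]⟩
          · exact ih _ (A.pow_mem hb 2) h (by rw [← pow_mul, ← pow_succ', hk])
      obtain ⟨b, hb, hb2, hb4, hbx⟩ : ∃ c ∈ A, c * c ≠ 1 ∧ c ^ 4 = 1 ∧ c * (x * c * x⁻¹) = 1 := by
        rcases hf b hb with h | h
        · exact ⟨b, hb, hb2, hb4, h⟩
        have hbe : b * e = e * b := hcom b hb e he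
        refine ⟨b * e, A.mul_mem hb he, ?_, ?_, ?_⟩
        · rwa [mul_assoc, ← mul_assoc e, ← hbe, mul_assoc b e e, he2, mul_one]
        · rw [Commute.mul_pow hbe, hb4, one_mul, show (4 : ℕ) = 2 * 2 from rfl, pow_mul, pow_two e, he2, one_pow]
        · calc b * e * (x * (b * e) * x⁻¹) = b * (e * (x * b * x⁻¹)) * (x * e * x⁻¹) := by group
            _ = b * ((x * b * x⁻¹) * e) * (x * e * x⁻¹) := by rw [hcom e he _ (hAn x b hb)]
            _ = (b * (x * b * x⁻¹)) * (e * (e * z)) := by rw [hxe]; group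
            _ = 1 := by rw [h, ← mul_assoc e, he2, one_mul, hz2]
      have hbinv : x * b * x⁻¹ = b⁻¹ := eq_inv_of_mul_eq_one_right hbx
      have hbb : b * b * (b * b) = 1 := by rw [← pow_two b, ← pow_add, hb4]
      have hsq : b * b = z := by
        refine (hfix _ (A.mul_mem hb hb) ?_).resolve_left hb2
        rw [show x * (b * b) * x⁻¹ = (x * b * x⁻¹) * (x * b * x⁻¹) by group, hbinv, ← mul_inv_rev]
        exact inv_eq_of_mul_eq_one_left hbb
      have hfx : x * (b * e) * x⁻¹ = b * e := by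
        rw [← conj_mul, hbinv, hxe, hzz e, ← hsq]
        group
      rcases hfix _ (A.mul_mem hb he) hfx with h | h
      · exact hb2 (by rw [eq_inv_of_mul_eq_one_left h, hei, he2])
      · rw [← hsq, mul_right_inj] at h
        exact hb2 (h ▸ he2)
    have hAe : ∀ u ∈ A, u = 1 ∨ u = z ∨ u = e ∨ u = e * z := by
      intro u hu
      rcases hf u hu with h | h
      · rw [mul_eq_one_iff_inv_eq, inv_eq_of_mul_eq_one_left (hno4 u hu)] at h
        rcases hfix u hu h.symm with r | r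
        · exact Or.inl r
        · exact Or.inr (Or.inl r)
      · have hux : x * u * x⁻¹ = u * z := by rw [← h, ← mul_assoc, hno4 u hu, one_mul]
        have hfx : x * (u * e) * x⁻¹ = u * e := by
          rw [← conj_mul, hux, hxe, hzz e, mul_assoc, ← mul_assoc z, hz2, one_mul]
        rcases hfix _ (A.mul_mem hu he) hfx with r | r
        · exact Or.inr (Or.inr (Or.inl (by rw [eq_inv_of_mul_eq_one_left r, hei])))
        · exact Or.inr (Or.inr (Or.inr (by rw [hzz e, ← r, mul_assoc, he2, mul_one])))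
    have hA4 : Nat.card ↥A = 4 := by
      have : Fintype ↥A := Fintype.ofFinite _
      have hs : ({1, ⟨z, hzA⟩, ⟨e, he⟩, ⟨e, he⟩ * ⟨z, hzA⟩} : Finset ↥A) = Finset.univ :=
        Finset.eq_univ_iff_forall.2 fun ⟨u, hu⟩ => by rcases hAe u hu with rfl | rfl | rfl | rfl <;> simp [Finset.mem_insert, Subtype.ext_iff]
      have a1 : e * z ≠ e := fun h => hz1 (mul_eq_left.1 h)
      have a2 : e * z ≠ z := fun h => he1 (mul_eq_right.1 h)
      have a3 : e * z ≠ 1 := fun h => hez (by rw [eq_inv_of_mul_eq_one_left h, inv_eq_of_mul_eq_one_left hz2])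
      rw [Nat.card_eq_fintype_card, ← Finset.card_univ, ← hs, Finset.card_insert_of_notMem, Finset.card_insert_of_notMem,
        Finset.card_insert_of_notMem, Finset.card_singleton] <;>
        simp [Subtype.ext_iff, hz1.symm, he1.symm, a3.symm, hez.symm, a1.symm, a2.symm]
    have hi : A.index = 2 := by
      rw [Subgroup.index_eq_two_iff]
      refine ⟨x, fun b => ?_⟩
      by_cases hb : b ∈ A
      · refine Or.inr ⟨hb, fun h => hxA ?_⟩
        have := A.mul_mem (A.inv_mem hb) h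
        rwa [inv_mul_cancel_left] at this
      refine Or.inl ⟨hself _ fun u hu => ?_, hb⟩
      have hce : e * (b * x) = b * x * e := by
        have hbe : b * e * b⁻¹ = e * z := by
          rcases hAe _ (hAn b e he) with r | r | r | r
          · exact absurd (conj_eq_one_iff.1 r) he1
          · exfalso; apply hez
            calc e = b⁻¹ * (b * e * b⁻¹) * b := by group
              _ = z := by rw [r, mul_assoc, ← hzz b, inv_mul_cancel_left]
          · refine absurd (hself b fun u hu => ?_) hb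
            have hbe : Commute e b := (mul_inv_eq_iff_eq_mul.1 r).symm
            rcases hAe u hu with rfl | rfl | rfl | rfl
            · rw [one_mul, mul_one]
            · exact (hzz b).symm
            · exact hbe.eq
            · exact (hbe.mul_left (hzz b).symm).eq
          · exact r
        refine (mul_inv_eq_iff_eq_mul.1 ?_).symm
        calc b * x * e * (b * x)⁻¹ = b * (x * e * x⁻¹) * b⁻¹ := by group
          _ = (b * e * b⁻¹) * (b * z * b⁻¹) := by rw [hxe]; group
          _ = e := by rw [hbe, hzz b, mul_inv_cancel_right, mul_assoc, hz2, mul_one]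
      rcases hAe u hu with rfl | rfl | rfl | rfl
      · rw [one_mul, mul_one]
      · exact (hzz _).symm
      · exact hce
      · exact (Commute.mul_left (hce : Commute e (b * x)) (hzz _).symm).eq
    rw [← A.card_mul_index, hi, hA4]
  -- `A` is cyclic
  push Not at hfour
  obtain ⟨⟨a, haA⟩, hamax⟩ := Finite.exists_max (fun u : ↥A => orderOf (u : S))
  simp only at hamax
  obtain ⟨m, hm⟩ := IsPGroup.iff_orderOf.1 hS a
  obtain ⟨m, rfl⟩ : ∃ k, m = k + 1 := by
    rcases m with _ | m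
    · have h : orderOf z ≤ 1 := by have := hamax ⟨z, hzA⟩; simpa [hm] using this
      have h2 := orderOf_pos z
      exact absurd (orderOf_eq_one_iff.1 (by omega)) hz1
    · exact ⟨m, rfl⟩
  have hzp : z = a ^ 2 ^ m := by
    have h1 : a ^ 2 ^ m * a ^ 2 ^ m = 1 := by rw [← pow_add, ← two_mul, ← pow_succ', ← hm, pow_orderOf_eq_one]
    have h2 : a ^ 2 ^ m ≠ 1 := pow_ne_one_of_lt_orderOf (by positivity) (by rw [hm, pow_succ]; have := Nat.two_pow_pos m; omega)
    exact (hfour _ (A.pow_mem haA _) h1 h2).symm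
  have hcyc : A = Subgroup.zpowers a := by
    refine le_antisymm (fun u hu => ?_) (Subgroup.zpowers_le.2 haA)
    obtain ⟨k, hk⟩ := hS u
    induction k generalizing u with
    | zero => rw [show u = 1 by simpa using hk]; exact one_mem _
    | succ k ih =>
      have hu2 := ih (u ^ 2) (A.pow_mem hu 2) (by rw [← pow_mul, ← pow_succ', hk])
      rw [← mem_powers_iff_mem_zpowers, Submonoid.mem_powers_iff] at hu2
      obtain ⟨j, hj⟩ := hu2
      rcases Nat.even_or_odd j with ⟨i, rfl⟩ | hjo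
      · have hm1 : u * (a ^ i)⁻¹ ∈ A := A.mul_mem hu (A.inv_mem (A.pow_mem haA i))
        have hsq : u * (a ^ i)⁻¹ * (u * (a ^ i)⁻¹) = 1 := by
          have hc : Commute u (a ^ i)⁻¹ := hcom u hu _ (A.inv_mem (A.pow_mem haA i))
          rw [← pow_two, hc.mul_pow, ← hj, inv_pow, ← pow_mul, ← two_mul, Nat.mul_comm i 2, mul_inv_cancel]
        have : u * (a ^ i)⁻¹ ∈ Subgroup.zpowers a := by
          by_cases h1 : u * (a ^ i)⁻¹ = 1
          · rw [h1]; exact one_mem _
          · rw [hfour _ hm1 hsq h1, hzp]; exact Subgroup.npow_mem_zpowers a _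
        simpa using mul_mem this (Subgroup.npow_mem_zpowers a i)
      · exfalso
        have ho : orderOf (u ^ 2) = 2 ^ (m + 1) := by
          rw [← hj, Nat.Coprime.orderOf_pow (by rw [hm]; exact Nat.Coprime.pow_left _ hjo.coprime_two_left), hm]
        have hle := hamax ⟨u, hu⟩
        simp only [hm] at hle
        obtain ⟨i, hi⟩ := IsPGroup.iff_orderOf.1 hS u
        have h1 : orderOf (u ^ 2) ∣ orderOf u := orderOf_pow_dvd 2
        have h2 : orderOf u = 2 ^ (m + 1) := by
          rw [ho] at h1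
          exact le_antisymm hle (Nat.le_of_dvd (orderOf_pos u) h1)
        rw [orderOf_pow, h2] at ho
        have hg : Nat.gcd (2 ^ (m + 1)) 2 = 2 := Nat.gcd_eq_right (dvd_pow_self 2 (by omega))
        rw [hg, pow_succ, Nat.mul_div_cancel _ (by norm_num : 0 < 2)] at ho
        have := Nat.two_pow_pos m
        omega
  obtain ⟨ε, hε⟩ : ∃ ε : ℤ, a ^ ε = x * a * x⁻¹ := by
    obtain ⟨i, hi⟩ := (hcyc ▸ hAn x a haA : x * a * x⁻¹ ∈ Subgroup.zpowers a)
    exact ⟨i, hi⟩
  have hmod : ∀ i j : ℤ, a ^ i = a ^ j ↔ (2 ^ (m + 1) : ℤ) ∣ j - i := by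
    intro i j
    rw [zpow_eq_zpow_iff_modEq, hm, Int.modEq_iff_dvd]
    push_cast; rfl
  -- automorphisms are given by exponents
  have hexp : ∀ g : S, ∃ k : ℤ, ∀ i : ℤ, g * a ^ i * g⁻¹ = a ^ (k * i) := by
    intro g
    obtain ⟨k, hk⟩ := (hcyc ▸ hAn g a haA : g * a * g⁻¹ ∈ Subgroup.zpowers a)
    exact ⟨k, fun i => by rw [zpow_mul, ← conj_zpow]; simp only at hk; rw [hk]⟩
  have hxexp : ∀ i : ℤ, x * a ^ i * x⁻¹ = a ^ (ε * i) := fun i => by rw [zpow_mul, hε, conj_zpow]
  have hidx : A.index = 2 := by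
    rw [Subgroup.index_eq_two_iff]
    refine ⟨x, fun b => ?_⟩
    by_cases hb : b ∈ A
    · refine Or.inr ⟨hb, fun h => hxA ?_⟩
      have := A.mul_mem (A.inv_mem hb) h
      rwa [inv_mul_cancel_left] at this
    refine Or.inl ⟨?_, hb⟩
    by_contra hbx
    -- conjugates of `x` are in `A * x`
    have hcoset : ∀ g : S, ∃ i : ℤ, g * x * g⁻¹ = a ^ i * x := by
      intro g
      have hmemA : g * x * g⁻¹ * x⁻¹ ∈ A := by
        apply hself
        intro u hu
        rw [hcyc] at hu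
        obtain ⟨i, rfl⟩ := hu
        obtain ⟨k, hk⟩ := hexp g
        obtain ⟨k', hk'⟩ := hexp g⁻¹
        have hkk : a ^ (k * k') = a := by
          have := hk' 1
          rw [mul_one, inv_inv, zpow_one] at this
          rw [← hk k', ← this]; group
        have key : ∀ j : ℤ, g * x * g⁻¹ * a ^ j * (g * x * g⁻¹)⁻¹ = x * a ^ j * x⁻¹ := by
          intro j
          calc g * x * g⁻¹ * a ^ j * (g * x * g⁻¹)⁻¹ = g * (x * (g⁻¹ * a ^ j * g⁻¹⁻¹) * x⁻¹) * g⁻¹ := by group
            _ = a ^ (k * (ε * (k' * j))) := by rw [hk', hxexp, hk]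
            _ = (a ^ (k * k')) ^ (ε * j) := by rw [← zpow_mul]; congr 1; ring
            _ = x * a ^ j * x⁻¹ := by rw [hkk, hxexp]
        show a ^ i * (g * x * g⁻¹ * x⁻¹) = g * x * g⁻¹ * x⁻¹ * a ^ i
        refine (mul_inv_eq_iff_eq_mul.1 ?_).symm
        calc g * x * g⁻¹ * x⁻¹ * a ^ i * (g * x * g⁻¹ * x⁻¹)⁻¹
            = g * x * g⁻¹ * (x⁻¹ * a ^ i * x⁻¹⁻¹) * (g * x * g⁻¹)⁻¹ := by group
          _ = x * (x * a ^ i * x⁻¹) * x⁻¹ := by
              rw [show x⁻¹ * a ^ i * x⁻¹⁻¹ = x * a ^ i * x⁻¹ by simp only [hxi], hxexp, key]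
          _ = a ^ i := by
              calc x * (x * a ^ i * x⁻¹) * x⁻¹ = (x * x) * a ^ i * (x⁻¹ * x⁻¹) := by group
                _ = a ^ i := by rw [hxi, hxx, one_mul, mul_one]
      rw [hcyc] at hmemA
      obtain ⟨i, hi⟩ := hmemA
      exact ⟨i, by simp only at hi; rw [hi, inv_mul_cancel_right]⟩
    have htwist : ∀ j : ℤ, a ^ j * x * (a ^ j)⁻¹ = a ^ (j * (1 - ε)) * x := by
      intro j
      calc a ^ j * x * (a ^ j)⁻¹ = a ^ j * (x * a ^ (-j) * x⁻¹) * x := by group
        _ = a ^ (j * (1 - ε)) * x := by rw [hxexp, ← zpow_add]; congr 2; ring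
    -- `ε = -1` or `-1 + 2^m`
    have hεc : (2 ^ m : ℤ) ∣ ε + 1 := by
      have h0 : a ^ (ε + 1) = a * (x * a * x⁻¹) := by rw [zpow_add_one, hε, hcom _ (hAn x a haA) a haA]
      have h1 : a ^ ((2 : ℤ) * (ε + 1)) = a ^ (0 : ℤ) := by
        rw [Int.mul_comm, zpow_mul, h0, zpow_zero]
        rcases hf a haA with h | h <;> rw [h]
        · exact one_zpow 2
        · rw [zpow_two, hz2]
      rw [hmod, zero_sub, dvd_neg, pow_succ, Int.mul_comm] at h1
      exact (mul_dvd_mul_iff_left (by norm_num : (2 : ℤ) ≠ 0)).1 h1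
    rcases m with _ | m
    · refine hb (hself b fun u hu => ?_)
      rw [hcyc] at hu
      obtain ⟨i, rfl⟩ := hu
      obtain ⟨k, hk⟩ := hexp b
      have hz' : a = z := by rw [hzp]; simp
      show a ^ i * b = b * a ^ i
      rw [hz']
      exact ((show Commute b z from hzz b).zpow_right i).eq.symm
    rcases m with _ | m
    · -- `|A| = 4`: only two automorphisms
      obtain ⟨k, hk⟩ := hexp b
      have hkodd : ¬ (2 : ℤ) ∣ k := by
        rintro ⟨c, rfl⟩
        have h1 : b * a ^ (2 : ℤ) * b⁻¹ = a ^ (0 : ℤ) := by rw [hk, hmod]; exact ⟨-c, by ring⟩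
        rw [zpow_zero, conj_eq_one_iff, ← zpow_zero a, hmod] at h1
        norm_num at h1
      refine hbx ?_
      have hcases : a ^ k = a ∨ a ^ (k * ε) = a := by
        by_cases h1 : (4 : ℤ) ∣ 1 - k
        · exact Or.inl (by conv_rhs => rw [← zpow_one a]
                           rw [hmod]; exact h1)
        · refine Or.inr ?_
          conv_rhs => rw [← zpow_one a]
          rw [hmod]
          obtain ⟨c, hc⟩ := hεc
          have hε' : ε = 2 * c - 1 := by norm_num at hc; linarith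
          have hk2 : ∃ d, k = 4 * d - 1 := ⟨(k + 1) / 4, by omega⟩
          obtain ⟨d, rfl⟩ := hk2
          have hc2 : (2 : ℤ) ∣ c := by
            by_contra hc2
            obtain ⟨e, rfl⟩ : ∃ e, c = 2 * e + 1 := ⟨c / 2, by omega⟩
            have h3 : x * a ^ (1 : ℤ) * x⁻¹ = a ^ (1 : ℤ) := by rw [hxexp, hmod, hε']; exact ⟨-e, by ring⟩
            rw [zpow_one] at h3
            rcases hfix a haA h3 with h | h
            · rw [h, orderOf_one] at hm; norm_num at hm
            · have ha1 : a ^ (2 : ℤ) = a ^ (0 : ℤ) := by rw [zpow_zero, zpow_two, h, hz2]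
              rw [hmod] at ha1
              norm_num at ha1
          obtain ⟨e, rfl⟩ := hc2
          exact ⟨-(4 * d * e - d - e), by rw [hε']; push_cast; ring⟩
      rcases hcases with h | h
      · refine absurd (hself b fun u hu => ?_) hb
        rw [hcyc] at hu
        obtain ⟨i, rfl⟩ := hu
        refine (mul_inv_eq_iff_eq_mul.1 ?_).symm
        show b * a ^ i * b⁻¹ = a ^ i
        rw [hk, zpow_mul, h]
      · refine hself _ fun u hu => ?_
        rw [hcyc] at hu
        obtain ⟨i, rfl⟩ := hu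
        refine (mul_inv_eq_iff_eq_mul.1 ?_).symm
        show b * x * a ^ i * (b * x)⁻¹ = a ^ i
        rw [show b * x * a ^ i * (b * x)⁻¹ = b * (x * a ^ i * x⁻¹) * b⁻¹ by group, hxexp, hk, ← Int.mul_assoc, zpow_mul, h]
    have hk_even : ∀ g : S, ∀ i : ℤ, g * x * g⁻¹ = a ^ i * x → (2 : ℤ) ∣ i → g ∈ A ∨ g * x ∈ A := by
      intro g i hg hi
      obtain ⟨j, rfl⟩ := hi
      -- some power of `a` conjugates `x` in the same way
      obtain ⟨t, ht⟩ : ∃ t : ℤ, (2 ^ (m + 1 + 1 + 1) : ℤ) ∣ 2 * j - t * (1 - ε) := by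
        obtain ⟨c, hc⟩ := hεc
        have hε' : ε = 2 ^ (m + 1 + 1) * c - 1 := by linarith
        exact ⟨j + 2 ^ (m + 1) * (c * j), c * c * (2 ^ m * j), by rw [hε']; ring⟩
      have h1 : a ^ t * x * (a ^ t)⁻¹ = g * x * g⁻¹ := by
        rw [hg, htwist]; congr 1; exact (hmod _ _).2 ht
      have h2 : (a ^ t)⁻¹ * g * x = x * ((a ^ t)⁻¹ * g) := by
        calc (a ^ t)⁻¹ * g * x = (a ^ t)⁻¹ * (g * x * g⁻¹) * g := by group
          _ = x * ((a ^ t)⁻¹ * g) := by rw [← h1]; group
      have hat : a ^ t ∈ A := A.zpow_mem haA t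
      rcases hCmem _ h2 with r | r | r | r <;> rw [inv_mul_eq_iff_eq_mul] at r
      · exact Or.inl (by rw [r, mul_one]; exact hat)
      · exact Or.inr (by rw [r, mul_assoc, hxx, mul_one]; exact hat)
      · exact Or.inl (by rw [r]; exact A.mul_mem hat hzA)
      · exact Or.inr (by rw [r, mul_assoc, mul_assoc x, ← hzz x, ← mul_assoc x, hxx, one_mul]; exact A.mul_mem hat hzA)
    -- `|A| ≥ 8`
    have hε4 : (4 : ℤ) ∣ ε + 1 := (Dvd.intro (2 ^ m) (by ring)).trans hεc
    obtain ⟨s, hsA, hsx, ks, hks, hks4⟩ : ∃ s : S, s ∉ A ∧ s * x ∉ A ∧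
        ∃ k : ℤ, (∀ i : ℤ, s * a ^ i * s⁻¹ = a ^ (k * i)) ∧ (4 : ℤ) ∣ k - 1 := by
      obtain ⟨k, hk⟩ := hexp b
      have hkodd : ¬ (2 : ℤ) ∣ k := by
        rintro ⟨c, rfl⟩
        have h1 : b * a ^ ((2 : ℤ) ^ (m + 1 + 1)) * b⁻¹ = a ^ (0 : ℤ) := by rw [hk, hmod]; exact ⟨-c, by ring⟩
        rw [zpow_zero, conj_eq_one_iff, ← zpow_zero a, hmod, zero_sub, dvd_neg] at h1
        have := Int.le_of_dvd (by positivity) h1
        have h2 : (0 : ℤ) < 2 ^ (m + 1 + 1) := by positivity
        rw [pow_succ] at this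
        linarith
      by_cases h4k : (4 : ℤ) ∣ k - 1
      · exact ⟨b, hb, hbx, k, hk, h4k⟩
      · refine ⟨b * x, hbx, by rw [mul_assoc, hxx, mul_one]; exact hb, k * ε, fun i => ?_, ?_⟩
        · rw [show b * x * a ^ i * (b * x)⁻¹ = b * (x * a ^ i * x⁻¹) * b⁻¹ by group, hxexp, hk, Int.mul_assoc]
        · obtain ⟨c, hc⟩ := hε4
          obtain ⟨d, rfl⟩ : ∃ d, k = 4 * d + 3 := ⟨k / 4, by omega⟩
          exact ⟨4 * d * c + 3 * c - d - 1, by rw [show ε = 4 * c - 1 by linarith]; ring⟩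
    obtain ⟨i, hi⟩ := hcoset s
    have hiodd : ¬ (2 : ℤ) ∣ i := fun h => (hk_even s i hi h).elim hsA hsx
    obtain ⟨d, hd⟩ := hks4
    have hss : s * s * x * (s * s)⁻¹ = a ^ (i * (ks + 1)) * x := by
      calc s * s * x * (s * s)⁻¹ = s * (s * x * s⁻¹) * s⁻¹ := by group
        _ = s * (a ^ i * x) * s⁻¹ := by rw [hi]
        _ = (s * a ^ i * s⁻¹) * (s * x * s⁻¹) := by group
        _ = a ^ (i * (ks + 1)) * x := by rw [hks, hi, ← mul_assoc, ← zpow_add]; congr 2; ring
    have h2ev : (2 : ℤ) ∣ i * (ks + 1) := dvd_mul_of_dvd_right ⟨2 * d + 1, by linarith⟩ i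
    have hact : ∀ w : ℤ, s * s * a ^ w * (s * s)⁻¹ = a ^ (ks * ks * w) := by
      intro w
      rw [show s * s * a ^ w * (s * s)⁻¹ = s * (s * a ^ w * s⁻¹) * s⁻¹ by group, hks, hks, Int.mul_assoc]
    have hsq : s * s ∈ A := by
      rcases hk_even _ _ hss h2ev with h | h
      · exact h
      exfalso
      rw [hcyc] at h
      obtain ⟨j, hj⟩ := h
      have hse : s * s = a ^ j * x := by
        simp only at hj
        rw [hj, mul_assoc, hxx, mul_one]
      have e1 := hact 1
      rw [hse, show a ^ j * x * a ^ (1 : ℤ) * (a ^ j * x)⁻¹ = a ^ j * (x * a ^ (1 : ℤ) * x⁻¹) * (a ^ j)⁻¹ by group,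
        hxexp, ← zpow_add, ← zpow_neg, ← zpow_add, hmod] at e1
      obtain ⟨c, hc⟩ := hε4
      obtain ⟨w, hw⟩ := (Dvd.intro (2 ^ (m + 1)) (by ring) : (4 : ℤ) ∣ 2 ^ (m + 1 + 1 + 1)).trans e1
      have h5 : ks * ks = 4 * (4 * d * d + 2 * d) + 1 := by rw [show ks = 4 * d + 1 by linarith]; ring
      rw [h5, show ε = 4 * c - 1 by linarith] at hw
      omega
    -- the exponent of `s` is `1` or `1 + 2^(m+1)`
    have hks2 : (2 ^ (m + 1 + 1) : ℤ) ∣ ks - 1 := by
      have e1 := hact 1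
      have hcm : s * s * a ^ (1 : ℤ) * (s * s)⁻¹ = a ^ (1 : ℤ) := by
        rw [hcom _ hsq _ (A.zpow_mem haA 1), mul_inv_cancel_right]
      rw [hcm, hmod] at e1
      obtain ⟨w, hw⟩ := e1
      have hcop : IsCoprime (2 : ℤ) (2 * d + 1) := ⟨-d, 1, by ring⟩
      refine hcop.pow_left.dvd_of_dvd_mul_right (⟨w, mul_left_cancel₀ (by norm_num : (2 : ℤ) ≠ 0) ?_⟩)
      rw [show ks = 4 * d + 1 by linarith] at hw ⊢
      rw [pow_succ] at hw
      linarith
    obtain ⟨c0, hc0⟩ := hks2
    have hc0odd : ¬ (2 : ℤ) ∣ c0 := by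
      rintro ⟨c, rfl⟩
      refine hsA (hself s fun u hu => ?_)
      rw [hcyc] at hu
      obtain ⟨i, rfl⟩ := hu
      refine (mul_inv_eq_iff_eq_mul.1 ?_).symm
      show s * a ^ i * s⁻¹ = a ^ i
      rw [hks, hmod]
      exact ⟨-(c * i), by rw [show ks = 2 ^ (m + 1 + 1) * (2 * c) + 1 by linarith]; ring⟩
    rw [hcyc] at hsq
    obtain ⟨j, hj⟩ := hsq
    simp only at hj
    have hjeven : (2 : ℤ) ∣ j := by
      have e1 : s * a ^ j * s⁻¹ = a ^ j := by rw [hj]; group
      rw [hks, hmod] at e1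
      have e2 : (2 ^ (m + 1 + 1) : ℤ) * 2 ∣ 2 ^ (m + 1 + 1) * (c0 * j) := by
        rw [← pow_succ, show (2 ^ (m + 1 + 1) : ℤ) * (c0 * j) = -(j - ks * j) by
          rw [show ks = 2 ^ (m + 1 + 1) * c0 + 1 by linarith]; ring, dvd_neg]
        exact e1
      exact (Int.prime_two.dvd_or_dvd ((mul_dvd_mul_iff_left (by positivity)).1 e2)).resolve_left hc0odd
    have e3 : a ^ (i * (ks + 1)) = a ^ (j * (1 - ε)) := mul_right_cancel (by rw [← hss, ← htwist, hj])
    rw [hmod] at e3
    obtain ⟨w, hw⟩ := (Dvd.intro (2 ^ (m + 1)) (by ring) : (4 : ℤ) ∣ 2 ^ (m + 1 + 1 + 1)).trans e3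
    obtain ⟨c, hc⟩ := hε4
    obtain ⟨j', rfl⟩ := hjeven
    rw [show ks = 4 * d + 1 by linarith, show ε = 4 * c - 1 by linarith,
      show 2 * j' * (1 - (4 * c - 1)) - i * (4 * d + 1 + 1) = 4 * (j' - 2 * j' * c - i * d) - 2 * i by ring] at hw
    omega
  exact of_cyclic hS x hx hC a (hcyc ▸ hidx) (hcyc ▸ hxA)

end Cfsg.Agent.S3224
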