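import Cfsg.Statements.S4420
import Mathlib.GroupTheory.Index
import Mathlib.Order.Atoms
import Mathlib.Tactic.Group
import Mathlib.Algebra.Group.Int.Even

set_option autoImplicit false
open Cfsg

namespace Cfsg.Agent.S4420

open Subgroup

theorem inv_conj {H : Type*} [Group H] (A : Subgroup H) (hD : ∀ x : H, x ∉ A → x ^ 2 = 1) {x : H}
    (hx : x ∉ A) {a : H} (ha : a ∈ A) : x * a * x⁻¹ = a⁻¹ := by
  have h1 : x * a ∉ A := fun h => hx (by simpa using A.mul_mem h (A.inv_mem ha))
  have h2 : x * a * (x * a) = 1 := by rw [← sq]; exact hD _ h1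
  have h3 : x⁻¹ = x := inv_eq_of_mul_eq_one_right (by rw [← sq]; exact hD x hx)
  rw [h3]
  calc x * a * x = x * a * (x * a) * a⁻¹ := by group
    _ = a⁻¹ := by rw [h2, one_mul]

/-- Structure of groups in which every element outside some proper subgroup has square 1. Let H be a finite group with a proper subgroup A such that every element outside A has square 1. Then H has an abelian normal subgroup B of index 2 such that every element outside B is an involution inverting every element of B; and if H is not an elementary abelian 2-group, B is the only abelian normal subgroup of index 2 with this property. -/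
theorem result {H : Type*} [Group H] [Finite H] (A : Subgroup H) (hA : A ≠ ⊤) (hD : ∀ x : H, x ∉ A → x ^ 2 = 1) :
    ∃ B : Subgroup H, B.Normal ∧ IsMulCommutative ↥B ∧ B.index = 2 ∧
      (∀ x : H, x ∉ B → x ^ 2 = 1 ∧ ∀ b ∈ B, x * b * x⁻¹ = b⁻¹) ∧
      (¬ (IsMulCommutative H ∧ ∀ x : H, x ^ 2 = 1) →
        ∀ B' : Subgroup H, B'.Normal → IsMulCommutative ↥B' → B'.index = 2 →
          (∀ x : H, x ∉ B' → x ^ 2 = 1 ∧ ∀ b ∈ B', x * b * x⁻¹ = b⁻¹) → B' = B) := by
  classical
  obtain ⟨x₀, hx₀⟩ : ∃ x, x ∉ A := by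
    by_contra hcon
    push Not at hcon
    exact hA (eq_top_iff.2 fun x _ => hcon x)
  have hcomm : ∀ a ∈ A, ∀ b ∈ A, a * b = b * a := fun a ha b hb => by
    have h := inv_conj A hD hx₀ (A.mul_mem ha hb)
    have h1 := inv_conj A hD hx₀ ha
    have h2 := inv_conj A hD hx₀ hb
    have e : x₀ * (a * b) * x₀⁻¹ = (x₀ * a * x₀⁻¹) * (x₀ * b * x₀⁻¹) := by group
    rw [h, h1, h2, mul_inv_rev] at e
    calc a * b = (b⁻¹ * a⁻¹)⁻¹ := by group
      _ = (a⁻¹ * b⁻¹)⁻¹ := by rw [e]
      _ = b * a := by group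
  by_cases hel : ∀ a ∈ A, a ^ 2 = 1
  · -- elementary abelian case
    have h2 : ∀ x : H, x ^ 2 = 1 := fun x => if h : x ∈ A then hel x h else hD x h
    have hinv : ∀ x : H, x⁻¹ = x := fun x => inv_eq_of_mul_eq_one_right (by rw [← sq]; exact h2 x)
    have hc : ∀ x y : H, x * y = y * x := fun x y => by
      calc x * y = (x * y)⁻¹ := (hinv _).symm
        _ = y * x := by rw [mul_inv_rev, hinv, hinv]
    obtain ⟨B, hB, -⟩ := (eq_top_or_exists_le_coatom A).resolve_left hA
    obtain ⟨x, -, hx⟩ := SetLike.exists_of_lt (lt_top_iff_ne_top.2 hB.1)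
    have hBn : B.Normal := ⟨fun b hb g => by rw [hc g b, mul_inv_cancel_right]; exact hb⟩
    have hidx : B.index = 2 := by
      rw [Subgroup.index_eq_two_iff]
      refine ⟨x, fun y => ?_⟩
      have hy : y ∈ B ⊔ zpowers x := by
        rw [hB.2 _ (left_lt_sup.2 fun h => hx (h (mem_zpowers x)))]; exact mem_top y
      haveI := hBn
      obtain ⟨b, hb, z, hz, rfl⟩ := mem_sup_of_normal_left.1 hy
      obtain ⟨k, rfl⟩ := mem_zpowers_iff.1 hz
      have hsq : x * x = 1 := by rw [← sq]; exact h2 x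
      rcases Int.even_or_odd' k with ⟨m, rfl | rfl⟩
      · have : x ^ (2 * m) = 1 := by rw [zpow_mul, zpow_two, hsq, one_zpow]
        rw [this, mul_one]
        exact Or.inr ⟨hb, fun h => hx (by simpa using B.mul_mem (B.inv_mem hb) h)⟩
      · have : x ^ (2 * m + 1) = x := by rw [zpow_add, zpow_mul, zpow_two, hsq, one_zpow, one_mul, zpow_one]
        rw [this]
        refine Or.inl ⟨?_, fun h => hx (by simpa using B.mul_mem (B.inv_mem hb) h)⟩
        rw [mul_assoc, hsq, mul_one]; exact hb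
    refine ⟨B, hBn, ⟨⟨fun a b => Subtype.ext (hc a b)⟩⟩, hidx, fun y _ => ⟨h2 y, fun b _ => ?_⟩,
      fun hne => absurd ⟨⟨⟨hc⟩⟩, h2⟩ hne⟩
    rw [hc y b, mul_inv_cancel_right, hinv]
  · push Not at hel
    obtain ⟨a, ha, ha2⟩ := hel
    have hprod : ∀ x y, x ∉ A → y ∉ A → x * y ∈ A := fun x y hx hy => by
      by_contra h
      have h1 := inv_conj A hD h ha
      have e : x * y * a * (x * y)⁻¹ = x * (y * a * y⁻¹) * x⁻¹ := by group
      rw [h1, inv_conj A hD hy ha, inv_conj A hD hx (A.inv_mem ha), inv_inv] at e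
      exact ha2 (by rw [sq]; nth_rw 1 [← e]; exact inv_mul_cancel a)
    have hidx : A.index = 2 := by
      rw [Subgroup.index_eq_two_iff]
      refine ⟨x₀, fun y => ?_⟩
      by_cases hy : y ∈ A
      · exact Or.inr ⟨hy, fun h => hx₀ (by simpa using A.mul_mem (A.inv_mem hy) h)⟩
      · exact Or.inl ⟨hprod y x₀ hy hx₀, hy⟩
    refine ⟨A, Subgroup.normal_of_index_eq_two hidx, ⟨⟨fun u v => Subtype.ext (hcomm u u.2 v v.2)⟩⟩,
      hidx, fun x hx => ⟨hD x hx, fun b hb => inv_conj A hD hx hb⟩, fun _ B' _ hB'c hB'2 hB'D => ?_⟩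
    by_contra hne
    obtain ⟨z, hzA, hzB⟩ : ∃ z ∈ A, z ∉ B' := by
      by_contra hcon
      push Not at hcon
      exact hne (eq_of_le_of_card_ge (fun w hw => hcon w hw) (le_of_eq (Nat.eq_of_mul_eq_mul_right
        (show 0 < 2 by norm_num) (by
          calc Nat.card B' * 2 = Nat.card H := by rw [← hB'2]; exact B'.card_mul_index
            _ = Nat.card A * 2 := by rw [← hidx]; exact A.card_mul_index.symm)))).symm
    have hz := hB'D z hzB
    have hw : ∀ w ∈ A, w ∈ B' → w ^ 2 = 1 := fun w hwA hwB => by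
      have h1 := hz.2 w hwB
      rw [hcomm z hzA w hwA, mul_inv_cancel_right] at h1
      rw [sq]; nth_rw 1 [h1]; exact inv_mul_cancel w
    refine ha2 ?_
    by_cases haB : a ∈ B'
    · exact hw a ha haB
    · exact (hB'D a haB).1

end Cfsg.Agent.S4420
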