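import Cfsg.Statements.S4482
import Cfsg.Agent.Lib.Block.DihedralOrder

set_option autoImplicit false
set_option maxHeartbeats 1600000
open Cfsg

namespace Cfsg.Agent.S4482

open Cfsg.Lib.Block Cfsg.Lib.Char
open scoped ComplexConjugate

theorem sum_parity (f : ℕ → ℕ) (h : ℕ) :
    ∑ i ∈ Finset.range (2 * h), f (i % 2) = h * (f 0 + f 1) := by
  induction h with
  | zero => simp
  | succ h ih =>
    rw [show 2 * (h + 1) = 2 * h + 1 + 1 by omega, Finset.sum_range_succ, Finset.sum_range_succ, ih,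
      show (2 * h + 1) % 2 = 1 by omega, show 2 * h % 2 = 0 by omega]
    ring

/-- An order formula for groups with dihedral Sylow 2-subgroups and one class of involutions. Let G be a finite group whose Sylow 2-subgroup P = ⟨σ, τ⟩ is dihedral of order 2^n ≥ 8 (σ of order 2^(n−1), τ an involution inverting σ), let J be the central involution σ^(2^(n−2)), and suppose J, τ and στ are conjugate in G. Fix M over 2 and let χ₁ be an irreducible character in the principal 2-block taking one constant value δ₁ = ±1 at every non-identity power of σ, with χ₁ ≠ 1. Then, with x₁ = χ₁(1) and c(·) denoting orders of centralizers, x₁ ≠ δ₁ and #G · (x₁ − δ₁)² = 2·x₁(x₁ + δ₁)·c(J)³·(1/c(J, τ) + 1/c(J, στ))², where c(J, y) is the order of the joint centralizer of J and y. -/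
theorem result {G : Type*} [Group G] [Finite G] (M : Ideal Cfsg.AlgInt) (hM : Cfsg.IsPModular 2 M) (n : ℕ) (hn : 3 ≤ n) (P : Sylow 2 G) (σ τ : G) (hσ : σ ∈ (P : Subgroup G)) (hτ : τ ∈ (P : Subgroup G)) (hσo : orderOf σ = 2 ^ (n - 1)) (hτo : orderOf τ = 2) (hrel : τ * σ * τ⁻¹ = σ⁻¹) (hgen : Subgroup.closure ({σ, τ} : Set G) = (P : Subgroup G)) (hconj : IsConj (σ ^ (2 ^ (n - 2))) τ ∧ IsConj (σ ^ (2 ^ (n - 2))) (σ * τ)) (χ₁ : Cfsg.IrrCharacter G) (hχ₁ : χ₁ ∈ Cfsg.principalBlock M G) (h1 : (χ₁ : G → ℂ) ≠ (fun _ => 1)) (δ₁ : ℤ) (hδ₁ : δ₁ = 1 ∨ δ₁ = -1) (hval : ∀ l : ℕ, 0 < l → l < 2 ^ (n - 1) → (χ₁ : G → ℂ) (σ ^ l) = δ₁) : (Cfsg.charDegree (χ₁ : G → ℂ) : ℤ) ≠ δ₁ ∧ (Nat.card G : ℚ) * ((Cfsg.charDegree (χ₁ : G → ℂ) : ℚ) - δ₁) ^ 2 = 2 * (Cfsg.charDegree (χ₁ : G → ℂ) : ℚ) * ((Cfsg.charDegree (χ₁ : G → ℂ) : ℚ) + δ₁) * (Nat.card (Subgroup.centralizer ({σ ^ (2 ^ (n - 2))} : Set G)) : ℚ) ^ 3 * (1 / (Nat.card (Subgroup.centralizer ({σ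 ^ (2 ^ (n - 2)), τ} : Set G)) : ℚ) + 1 / (Nat.card (Subgroup.centralizer ({σ ^ (2 ^ (n - 2)), σ * τ} : Set G)) : ℚ)) ^ 2 := by
  classical
  letI : Fintype G := Fintype.ofFinite G
  haveI : Fact (Nat.Prime 2) := ⟨Nat.prime_two⟩
  obtain ⟨h, hh⟩ : ∃ h, h = 2 ^ (n - 2) := ⟨_, rfl⟩
  have h2h : 2 ^ (n - 1) = 2 * h := by rw [hh, ← pow_succ']; congr 1; omega
  rw [← hh] at hconj ⊢
  rw [h2h] at hσo hval
  have hle : 2 ≤ h := hh ▸ le_trans (by norm_num) (Nat.pow_le_pow_right two_pos (by omega : 1 ≤ n - 2))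
  have hev : Even h := hh ▸ Nat.even_pow.2 ⟨even_two, by omega⟩
  have hττ : τ * τ = 1 := by rw [← pow_two, ← hτo, pow_orderOf_eq_one]
  have hτi : τ⁻¹ = τ := inv_eq_of_mul_eq_one_right hττ
  have hflip : ∀ c ∈ Subgroup.zpowers σ, τ * c * τ = c⁻¹ := by
    intro c hc
    obtain ⟨i, rfl⟩ := Subgroup.mem_zpowers_iff.1 hc
    nth_rw 2 [← hτi]
    rw [← conj_zpow, hrel, inv_zpow]
  have hτσ : τ ∉ Subgroup.zpowers σ := by
    intro hm
    obtain ⟨i, hi⟩ := Subgroup.mem_zpowers_iff.1 hm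
    have hc : Commute τ σ := hi ▸ (Commute.refl σ).zpow_left i
    rw [hc.eq, mul_inv_cancel_right] at hrel
    have h2 : σ ^ 2 = 1 := by rw [pow_two]; exact mul_eq_one_iff_eq_inv.2 hrel
    have := Nat.le_of_dvd two_pos (orderOf_dvd_of_pow_eq_one h2)
    omega
  have hcov : ∀ x ∈ (P : Subgroup G), x ∈ Subgroup.zpowers σ ∨ x * τ ∈ Subgroup.zpowers σ := by
    intro x hx
    rw [← hgen] at hx
    induction hx using Subgroup.closure_induction with
    | mem x hx =>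
      rcases hx with rfl | rfl
      · exact Or.inl (Subgroup.mem_zpowers x)
      · exact Or.inr (by rw [hττ]; exact one_mem _)
    | one => exact Or.inl (one_mem _)
    | mul x y _ _ ihx ihy =>
      rcases ihx with a | a <;> rcases ihy with b | b
      · exact Or.inl (mul_mem a b)
      · exact Or.inr (by rw [mul_assoc]; exact mul_mem a b)
      · refine Or.inr ?_
        rw [show x * y * τ = x * τ * (τ⁻¹ * y * τ) by group, hτi, hflip y b]
        exact mul_mem a (inv_mem b)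
      · refine Or.inl ?_
        rw [show x * y = x * τ * (τ⁻¹ * (y * τ) * τ⁻¹) by group, hτi, hflip _ b]
        exact mul_mem a (inv_mem b)
    | inv x _ ihx =>
      rcases ihx with a | a
      · exact Or.inl (inv_mem a)
      · refine Or.inr ?_
        have e := congrArg (·⁻¹) (hflip _ a)
        simp only [inv_inv, mul_inv_rev, hτi] at e
        rw [mul_assoc τ x⁻¹ τ, ← mul_assoc τ τ, hττ, one_mul] at e
        rwa [e]
  have hcard : Nat.card (P : Subgroup G) = 4 * h := by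
    have hZ : Subgroup.zpowers σ ≤ (P : Subgroup G) := Subgroup.zpowers_le.2 hσ
    have hidx : ((Subgroup.zpowers σ).subgroupOf (P : Subgroup G)).index = 2 := by
      refine Subgroup.index_eq_two_iff.2 ⟨⟨τ, hτ⟩, fun b => ?_⟩
      rcases hcov b b.2 with a | a
      · exact Or.inr ⟨a, fun hbt => hτσ (by
          have := mul_mem (inv_mem a) (show (b : G) * τ ∈ Subgroup.zpowers σ from hbt)
          rwa [inv_mul_cancel_left] at this)⟩
      · exact Or.inl ⟨a, fun hb => hτσ (by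
          have := mul_mem (inv_mem (show (b : G) ∈ Subgroup.zpowers σ from hb)) a
          rwa [inv_mul_cancel_left] at this)⟩
    rw [← ((Subgroup.zpowers σ).subgroupOf (P : Subgroup G)).card_mul_index, hidx,
      Nat.card_congr (Subgroup.subgroupOfEquivOfLe hZ).toEquiv, Nat.card_zpowers, hσo]
    ring
  have D : DihSylow P σ τ h := ⟨hev, hle, hσ, hτ, hσo, hττ, hrel, hcov, hcard⟩
  obtain ⟨hJ2, hJ1, -⟩ := D.central_involution
  -- one class of involutions
  have hconjJ : ∀ a : G, a * a = 1 → a ≠ 1 → IsConj (σ ^ h) a := by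
    intro a ha ha1
    have hp : IsPGroup 2 (Subgroup.zpowers a) := IsPGroup.of_card (n := 1)
      (by rw [Nat.card_zpowers, orderOf_eq_prime (by rw [pow_two, ha]) ha1, pow_one])
    obtain ⟨g, hg⟩ := Lib.Invol.exists_conj_mem_sylow P hp
    have hb := hg a (Subgroup.mem_zpowers a)
    refine IsConj.trans ?_ (isConj_iff.2 ⟨g, rfl⟩ : IsConj a (g * a * g⁻¹)).symm
    by_cases hbσ : g * a * g⁻¹ ∈ Subgroup.zpowers σ
    · rcases D.eq_central_of_sq hbσ (by
        rw [show g * a * g⁻¹ * (g * a * g⁻¹) = g * (a * a) * g⁻¹ by group, ha, mul_one,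
          mul_inv_cancel]) with e | e
      · exact absurd (conj_eq_one_iff.1 e) ha1
      · rw [e]
    · obtain ⟨i, -, hi⟩ := D.reflection_iff.1 ⟨hb, hbσ⟩
      rw [hi]
      rcases Nat.even_or_odd' i with ⟨j, rfl | rfl⟩
      · refine hconj.1.trans (isConj_iff.2 ⟨σ ^ j, ?_⟩)
        have e := D.conj_pow_reflection 0 j
        rwa [pow_zero, one_mul, zero_add] at e
      · refine hconj.2.trans (isConj_iff.2 ⟨σ ^ j, ?_⟩)
        have e := D.conj_pow_reflection 1 j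
        rwa [pow_one, add_comm] at e
  -- the character
  obtain ⟨ζ, hζ⟩ : ∃ ζ : ℂ, IsPrimitiveRoot ζ (2 * h) :=
    ⟨_, Complex.isPrimitiveRoot_exp (2 * h) (by omega)⟩
  obtain ⟨c, x₂, x₃, χ', δ, δ₂, δ₃, d1, d2, d3, hinj, n1, n2, n3, n12, n13, n23, hne, hset, -,
    hv, hreg⟩ := D.principal_shape hM hζ
  have hneg : ζ ^ h = -1 :=
    (hζ.pow (a := h) (by omega) (mul_comm 2 h)).eq_neg_one_of_two_right
  have hζ0 : ζ ≠ 0 := hζ.ne_zero (by omega)
  have hχc : χ₁ = c := by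
    have hne1 : χ₁ ≠ trivChar G := fun e => h1 (by rw [e, trivChar_coe])
    have hB := hset ▸ hχ₁
    rcases hB with e | e | e | e | ⟨j, e⟩
    · exact absurd e hne1
    · exact e
    · have a := hval 1 one_pos (by omega)
      have b := hval 2 two_pos (by omega)
      rw [e, (hv 1 one_pos (by omega)).2.1] at a
      rw [e, (hv 2 two_pos (by omega)).2.1] at b
      rcases d2 with q | q <;> rcases hδ₁ with q' | q' <;> subst q q' <;> norm_num at a <;> norm_num at b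
    · have a := hval 1 one_pos (by omega)
      have b := hval 2 two_pos (by omega)
      rw [e, (hv 1 one_pos (by omega)).2.2.1] at a
      rw [e, (hv 2 two_pos (by omega)).2.2.1] at b
      rcases d3 with q | q <;> rcases hδ₁ with q' | q' <;> subst q q' <;> norm_num at a <;> norm_num at b
    · have a := hval h (by omega) (by omega)
      rw [e, (hv h (by omega) (by omega)).2.2.2 j, mul_comm (((j : ℕ) + 1)) h, pow_mul, hneg] at a
      rcases neg_one_pow_eq_or ℂ ((j : ℕ) + 1) with r | r <;> rw [r] at a <;>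
        rcases d1 with q | q <;> rcases hδ₁ with q' | q' <;> subst q q' <;> norm_num at a
  subst hχc
  have hδ : δ = δ₁ := by
    have a := hval 1 one_pos (by omega)
    rw [(hv 1 one_pos (by omega)).1] at a
    exact_mod_cast a
  subst hδ
  obtain ⟨x, hx⟩ : ∃ x : ℤ, x = (charDegree (χ₁ : G → ℂ) : ℤ) := ⟨_, rfl⟩
  have hx0 : 0 < x := hx ▸ by exact_mod_cast charDegree_pos χ₁
  have hxC : (χ₁ : G → ℂ) 1 = (x : ℂ) := by rw [apply_one_eq_charDegree, hx, Int.cast_natCast]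
  have hdeg : ∀ j, (χ' j : G → ℂ) 1 = ((x + δ : ℤ) : ℂ) := fun j => by
    have e := (hreg 1 (by simp [IsPRegular])).2 j
    rw [hxC] at e
    rcases d1 with q | q <;> subst q <;> push_cast at e ⊢ <;>
      first | linear_combination e | linear_combination -e
  have hxδ : 0 < x + δ := by
    have hj : 0 < h - 1 := by omega
    have e := hdeg ⟨0, hj⟩
    rw [apply_one_eq_charDegree, ← Int.cast_natCast, Int.cast_inj] at e
    have := charDegree_pos (χ' ⟨0, hj⟩)
    omega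
  -- the block sum
  have hsigma : h ≠ 1 := by omega
  have hconjδ : ∀ d : ℤ, conj (d : ℂ) = d := fun d => map_intCast _ _
  have hblock : ∑ χ ∈ (principalBlock M G).toFinset,
      (χ : G → ℂ) (σ ^ h) * (χ : G → ℂ) (σ ^ h) *
        (conj ((χ : G → ℂ) σ) + conj ((χ : G → ℂ) (σ ^ h))) / (χ : G → ℂ) 1 =
      2 + 2 * (δ : ℂ) / (x : ℂ) - 8 * δ / ((x + δ : ℤ) : ℂ) := by
    have hBeq : (principalBlock M G).toFinset =
        ({trivChar G, χ₁, x₂, x₃} : Finset (IrrCharacter G)) ∪ Finset.univ.image χ' := by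
      ext y
      rw [Set.mem_toFinset, hset]
      simp [eq_comm, or_assoc]
    have vJ := hv h (by omega) (by omega)
    have v1 := hv 1 one_pos (by omega)
    rw [pow_one] at v1
    have hJsgn : (-1 : ℂ) ^ (h + 1) = -1 := by rw [pow_succ, hev.neg_one_pow, one_mul]
    rw [hBeq, Finset.sum_union (Finset.disjoint_left.2 (by
        intro y hy hy'
        obtain ⟨j, -, rfl⟩ := Finset.mem_image.1 hy'
        simp only [Finset.mem_insert, Finset.mem_singleton] at hy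
        obtain ⟨a1, a2, a3, a4⟩ := hne j
        rcases hy with e | e | e | e <;> contradiction)),
      Finset.sum_image fun a _ b _ e => hinj e,
      Finset.sum_insert (by simp [n1.symm, n2.symm, n3.symm]),
      Finset.sum_insert (by simp [n12, n13]), Finset.sum_pair n23, trivChar_coe, vJ.1, vJ.2.1,
      vJ.2.2.1, v1.1, v1.2.1, v1.2.2.1, hxC, hJsgn]
    simp only [map_one, map_mul, map_neg, map_pow, hconjδ]
    rw [Finset.sum_congr rfl (g := fun j : Fin (h - 1) => 4 * (δ : ℂ) / ((x + δ : ℤ) : ℂ) *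
      ((ζ ^ ((j : ℕ) + 1) + (ζ ^ ((j : ℕ) + 1))⁻¹) + 2 * (-1) ^ ((j : ℕ) + 1))) fun j _ => ?_,
      ← Finset.mul_sum, Finset.sum_add_distrib, Finset.sum_add_distrib, ← Finset.mul_sum]
    swap
    · rw [vJ.2.2.2 j, v1.2.2.2 j, hdeg, mul_comm ((j : ℕ) + 1) h, pow_mul, hneg, mul_one,
        map_mul, map_mul, hconjδ, map_add, map_add, map_inv₀, map_inv₀, map_pow, map_pow,
        map_neg, map_one]
      have hn : ‖ζ‖ = 1 := Complex.norm_eq_one_of_pow_eq_one hζ.pow_eq_one (by omega)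
      rw [← Complex.inv_eq_conj hn, inv_pow, inv_inv]
      rcases neg_one_pow_eq_or ℂ ((j : ℕ) + 1) with r | r <;> rw [r] <;>
        rcases d1 with q | q <;> subst q <;> push_cast <;> ring
    have hinvζ : ∀ i, i < h → (ζ ^ i)⁻¹ = -ζ ^ (h - i) := fun i hi => by
      refine inv_eq_of_mul_eq_one_right ?_
      rw [mul_neg, ← pow_add, show i + (h - i) = h by omega, hneg, neg_neg]
    have hsz : ∑ j : Fin (h - 1), ζ ^ ((j : ℕ) + 1) +
        ∑ j : Fin (h - 1), (ζ ^ ((j : ℕ) + 1))⁻¹ = 0 := by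
      have e : ∑ i ∈ Finset.range (h - 1), (ζ ^ (i + 1))⁻¹ =
          ∑ i ∈ Finset.range (h - 1), -ζ ^ (h - 1 - 1 - i + 1) := Finset.sum_congr rfl fun i hi => by
        have := Finset.mem_range.1 hi
        rw [hinvζ _ (by omega)]
        congr 2
        omega
      rw [Fin.sum_univ_eq_sum_range (fun i => ζ ^ (i + 1)),
        Fin.sum_univ_eq_sum_range (fun i => (ζ ^ (i + 1))⁻¹), e, Finset.sum_neg_distrib,
        Finset.sum_range_reflect (fun i => ζ ^ (i + 1)), add_neg_cancel]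
    have hsm : ∑ j : Fin (h - 1), (-1 : ℂ) ^ ((j : ℕ) + 1) = -1 := by
      rw [Fin.sum_univ_eq_sum_range (fun i => (-1 : ℂ) ^ (i + 1))]
      simp only [pow_succ, mul_neg_one, Finset.sum_neg_distrib, neg_one_geom_sum]
      rw [if_neg (by rw [Nat.not_even_iff_odd]; obtain ⟨r, hr⟩ := hev; exact ⟨r - 1, by omega⟩)]
    rw [hsz, hsm]
    rcases d1 with q'' | q'' <;> rcases d2 with q | q <;> rcases d3 with q' | q' <;>
      subst q q' q'' <;> push_cast <;> ring
  -- the counting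
  obtain ⟨K, hK⟩ : ∃ K, K = (classFinset (σ ^ h)).card := ⟨_, rfl⟩
  obtain ⟨o, ho⟩ : ∃ o, o = (DihSylow.oddPart σ h).card := ⟨_, rfl⟩
  obtain ⟨N₀, hN₀⟩ : ∃ N₀, N₀ = (DihSylow.invCoset σ h τ).card := ⟨_, rfl⟩
  obtain ⟨N₁, hN₁⟩ : ∃ N₁, N₁ = (DihSylow.invCoset σ h (σ * τ)).card := ⟨_, rfl⟩
  have hpair : ∀ u : G, u ∈ Subgroup.zpowers σ → u ≠ 1 → (∃ k : ℕ, u ^ k = σ ^ h) →
      (σ ^ h * u * (σ ^ h * u) = 1 → u = σ ^ h) →
      (((∑ i ∈ Finset.range (2 * h), (DihSylow.invCoset σ h (σ ^ i * τ)).card *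
          (DihSylow.invCoset σ h (σ ^ i * τ * u)).card : ℕ)) : ℂ) =
      (K : ℂ) * K / (Nat.card G : ℂ) * ((o : ℂ) * ∑ χ ∈ (principalBlock M G).toFinset,
        (χ : G → ℂ) (σ ^ h) * (χ : G → ℂ) (σ ^ h) * conj ((χ : G → ℂ) u) / (χ : G → ℂ) 1) := by
    intro u hu hu1 ⟨k, hk⟩ huJ
    rw [← D.card_product_coset hconjJ hu hk huJ, Nat.cast_sum,
      Finset.sum_congr rfl fun y _ => card_class_product (σ ^ h) (σ ^ h) (y * u), ← hK,
      ← Finset.mul_sum, Finset.sum_comm]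
    congr 1
    have hterm : ∀ χ : IrrCharacter G, ∑ y ∈ DihSylow.oddPart σ h,
        (χ : G → ℂ) (σ ^ h) * (χ : G → ℂ) (σ ^ h) * conj ((χ : G → ℂ) (y * u)) /
          (χ : G → ℂ) 1 = if χ ∈ principalBlock M G then (o : ℂ) *
        ((χ : G → ℂ) (σ ^ h) * (χ : G → ℂ) (σ ^ h) * conj ((χ : G → ℂ) u) / (χ : G → ℂ) 1)
        else 0 := fun χ => by
      rw [← Finset.sum_div, ← Finset.mul_sum, ← map_sum, D.sum_coset_irr hM hu hk hu1 χ, ← ho,
        map_mul, Complex.conj_natCast]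
      split_ifs
      · ring
      · simp
    rw [Finset.sum_congr rfl fun χ _ => hterm χ, ← Finset.sum_filter, Finset.mul_sum]
    exact Finset.sum_congr (by ext; simp) fun _ _ => rfl
  have hNi : ∀ i, (DihSylow.invCoset σ h (σ ^ i * τ)).card = if i % 2 = 0 then N₀ else N₁ := by
    intro i
    rw [D.card_invCoset_parity]
    rcases Nat.mod_two_eq_zero_or_one i with e | e <;> rw [e]
    · rw [pow_zero, one_mul, if_pos rfl, hN₀]
    · rw [pow_one, if_neg one_ne_zero, hN₁]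
  obtain ⟨r, hr⟩ := hev
  have hJN : ∑ i ∈ Finset.range (2 * h), (DihSylow.invCoset σ h (σ ^ i * τ)).card *
      (DihSylow.invCoset σ h (σ ^ i * τ * σ ^ h)).card = h * (N₀ * N₀ + N₁ * N₁) := by
    rw [Finset.sum_congr rfl (g := fun i => (fun e => if e = 0 then N₀ * N₀ else N₁ * N₁) (i % 2))
      fun i _ => ?_, sum_parity (fun e => if e = 0 then N₀ * N₀ else N₁ * N₁)]
    · simp
    rw [mul_assoc, (D.central_involution.2.2 τ hτ).eq, ← mul_assoc, ← pow_add, hNi, hNi,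
      show (i + h) % 2 = i % 2 by omega]
    split_ifs <;> simp_all
  have hσN : ∑ i ∈ Finset.range (2 * h), (DihSylow.invCoset σ h (σ ^ i * τ)).card *
      (DihSylow.invCoset σ h (σ ^ i * τ * σ)).card = h * (N₀ * N₁ + N₁ * N₀) := by
    rw [Finset.sum_congr rfl (g := fun i => (fun e => if e = 0 then N₀ * N₁ else N₁ * N₀) (i % 2))
      fun i _ => ?_, sum_parity (fun e => if e = 0 then N₀ * N₁ else N₁ * N₀)]
    · simp
    have e : σ ^ i * τ * σ = σ ^ (i + (2 * h - 1)) * τ := by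
      have e1 : τ * σ = σ⁻¹ * τ := mul_inv_eq_iff_eq_mul.1 hrel
      have e2 : σ⁻¹ = σ ^ (2 * h - 1) := inv_eq_of_mul_eq_one_right (by
        rw [← pow_succ', show 2 * h - 1 + 1 = 2 * h by omega, ← hσo, pow_orderOf_eq_one])
      rw [mul_assoc, e1, e2, ← mul_assoc, ← pow_add]
    rw [e, hNi, hNi]
    rcases Nat.mod_two_eq_zero_or_one i with e | e
    · rw [if_pos e, if_neg (by omega), e]; rfl
    · rw [if_neg (by omega), if_pos (by omega), e]; rfl
  have hS1 := hpair σ (Subgroup.mem_zpowers σ) (by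
      intro e; rw [e, orderOf_one] at hσo; omega) ⟨h, rfl⟩ (fun e => by
      exfalso
      rw [← pow_succ, ← pow_add, ← orderOf_dvd_iff_pow_eq_one, hσo] at e
      obtain ⟨q, hq⟩ := e
      rcases q with _ | _ | q
      · omega
      · omega
      · nlinarith)
  have hS2 := hpair (σ ^ h) (D.mem_pow h) hJ1 ⟨1, pow_one _⟩ fun _ => rfl
  rw [hσN] at hS1
  rw [hJN] at hS2
  have htot : ((h * ((N₀ + N₁) * (N₀ + N₁)) : ℕ) : ℂ) = (K : ℂ) * K / (Nat.card G : ℂ) *
      ((o : ℂ) * (2 + 2 * (δ : ℂ) / (x : ℂ) - 8 * δ / ((x + δ : ℤ) : ℂ))) := by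
    rw [← hblock, show h * ((N₀ + N₁) * (N₀ + N₁)) =
      h * (N₀ * N₁ + N₁ * N₀) + h * (N₀ * N₀ + N₁ * N₁) by ring, Nat.cast_add, hS1, hS2,
      ← mul_add, ← mul_add, ← Finset.sum_add_distrib]
    congr 2
    exact Finset.sum_congr rfl fun χ _ => by ring
  have hGK : Nat.card G = K * (4 * h * o) := by
    rw [hK, card_classFinset, ho, ← D.oddPart_spec.2.2.2.2.2.2, mul_comm,
      Subgroup.card_mul_index]
  have hGne : (Nat.card G : ℂ) ≠ 0 := Nat.cast_ne_zero.2 Nat.card_pos.ne'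
  have hxne : (x : ℂ) ≠ 0 := Int.cast_ne_zero.2 hx0.ne'
  have hxδne : ((x : ℂ) + δ) ≠ 0 := by
    rw [← Int.cast_add]; exact Int.cast_ne_zero.2 hxδ.ne'
  have hKey : (h * ((N₀ + N₁) * (N₀ + N₁)) : ℤ) * (Nat.card G : ℤ) * x * (x + δ) =
      (K : ℤ) * K * o * (2 * (x - δ) * (x - δ)) := by
    apply Int.cast_injective (α := ℂ)
    push_cast
    push_cast at htot
    rw [htot]
    field_simp
    rcases d1 with q | q <;> subst q <;> push_cast <;> ring
  -- centralizers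
  have hτP : τ ∈ (P : Subgroup G) ∧ τ ∉ Subgroup.zpowers σ := ⟨hτ, hτσ⟩
  have hστP : σ * τ ∈ (P : Subgroup G) ∧ σ * τ ∉ Subgroup.zpowers σ :=
    D.reflection_iff.2 ⟨1, by omega, by rw [pow_one]⟩
  obtain ⟨hA, hcA⟩ := D.card_invCoset_mul hτP.1 hτP.2
  obtain ⟨hB, hcB⟩ := D.card_invCoset_mul hστP.1 hστP.2
  rw [← hN₀, ← ho] at hA
  rw [← hN₁, ← ho] at hB
  rw [hcA, hcB, D.oddPart_spec.2.2.2.2.2.2, ← ho, hGK]
  obtain ⟨a, ha⟩ : ∃ a, a = (DihSylow.oddFix σ h τ).card := ⟨_, rfl⟩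
  obtain ⟨b, hb⟩ : ∃ b, b = (DihSylow.oddFix σ h (σ * τ)).card := ⟨_, rfl⟩
  rw [← ha] at hA ⊢
  rw [← hb] at hB ⊢
  have hopos : 0 < o := ho ▸ Finset.card_pos.2 ⟨1, D.oddPart_spec.1⟩
  have hN0 : N₀ ≠ 0 := by rintro rfl; rw [zero_mul] at hA; omega
  have ha0 : a ≠ 0 := by rintro rfl; rw [mul_zero] at hA; omega
  have hb0 : b ≠ 0 := by rintro rfl; rw [mul_zero] at hB; omega
  have hG0 : 0 < Nat.card G := Nat.card_pos
  have hK0 : K ≠ 0 := by rintro rfl; rw [zero_mul] at hGK; omega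
  rw [hGK] at hKey
  push_cast at hKey
  have hKey' : (h : ℤ) * ((N₀ + N₁) * (N₀ + N₁)) * (4 * h) * x * (x + δ) =
      (K : ℤ) * (2 * (x - δ) * (x - δ)) := by
    refine mul_left_cancel₀ (show ((K : ℤ) * o) ≠ 0 by positivity) ?_
    linear_combination hKey
  refine ⟨fun e => ?_, ?_⟩
  · rw [← hx] at e
    simp only [show x - δ = 0 by omega, mul_zero, zero_mul] at hKey'
    have hpos : 0 < (h : ℤ) * ((N₀ + N₁) * (N₀ + N₁)) * (4 * h) * x * (x + δ) := by
      have h0 : (0 : ℤ) < h := by omega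
      have h1' : (0 : ℤ) < N₀ + N₁ := by omega
      positivity
    omega
  · have hxQ : (charDegree (χ₁ : G → ℂ) : ℚ) = (x : ℚ) := by rw [hx, Int.cast_natCast]
    rw [hxQ]
    have e := congrArg (fun z : ℤ => (z : ℚ)) hKey'
    have eA : (N₀ : ℚ) * a = o := by exact_mod_cast hA
    have eB : (N₁ : ℚ) * b = o := by exact_mod_cast hB
    have haQ : (a : ℚ) ≠ 0 := Nat.cast_ne_zero.2 ha0
    have hbQ : (b : ℚ) ≠ 0 := Nat.cast_ne_zero.2 hb0
    push_cast at e ⊢
    rw [eq_div_of_mul_eq haQ eA, eq_div_of_mul_eq hbQ eB] at e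
    field_simp at e ⊢
    linear_combination (-1 / 2 : ℚ) * e

end Cfsg.Agent.S4482
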