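import Cfsg.Statements.S1526
import Cfsg.Agent.Lib.Local.CNTheorem
import Cfsg.Agent.Lib.Solv.FrobeniusConj
import Cfsg.Agent.Lib.Thompson.FixedPointFree
import Cfsg.Agent.Lib.Core.PSolvable
-- import your own Cfsg.Agent.* helpers here

set_option autoImplicit false
open Cfsg

namespace Cfsg.Agent.S1526

set_option linter.style.haveILetI false
set_option maxHeartbeats 800000

open Subgroup

universe v

variable {G : Type v} [Group G] [Finite G] {L H : Subgroup G}

/-- A prime dividing the index of the kernel does not divide its order. -/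
theorem not_dvd_card_kernel (hHL : H ≤ L) (hn : ∀ x ∈ L, ∀ h ∈ H, x * h * x⁻¹ ∈ H)
    (hfrob : ∀ h ∈ H, h ≠ 1 → L ⊓ centralizer ({h} : Set G) ≤ H) {p : ℕ} [Fact p.Prime]
    (hp : p ∣ H.relIndex L) : ¬ p ∣ Nat.card H := by
  intro hpH
  set K := H.subgroupOf L with hK
  haveI : K.Normal := ⟨fun h hh x => hn x x.2 h hh⟩
  obtain ⟨P⟩ : Nonempty (Sylow p L) := inferInstance
  have hnle : ¬ (P : Subgroup L) ≤ K := fun hle =>
    P.not_dvd_index (hp.trans (index_dvd_of_le hle))
  -- a kernel element of order `p` in the Sylow subgroup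
  obtain ⟨⟨w, hw⟩, hwo⟩ := exists_prime_orderOf_dvd_card' (G := H) p hpH
  rw [Subgroup.orderOf_mk] at hwo
  have hwL : w ∈ L := hHL hw
  obtain ⟨Q, hQ⟩ := (IsPGroup.of_card (n := 1) (by
    rw [Nat.card_zpowers, Subgroup.orderOf_mk, hwo, pow_one]) :
      IsPGroup p (zpowers (⟨w, hwL⟩ : L))).exists_le_sylow
  obtain ⟨c, hc⟩ := MulAction.exists_smul_eq L Q P
  set w' : L := c * ⟨w, hwL⟩ * c⁻¹ with hw'
  have hw'P : w' ∈ (P : Subgroup L) := by
    rw [← hc]
    exact mem_map_of_mem (MulAut.conj c).toMonoidHom (hQ (mem_zpowers _))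
  have hw'K : w' ∈ K := hn c c.2 w hw
  have hw'1 : (w' : G) ≠ 1 := fun h => by
    have h1 : orderOf (c * ⟨w, hwL⟩ * c⁻¹ : L) = 1 :=
      orderOf_eq_one_iff.2 (Subtype.ext h)
    rw [show c * (⟨w, hwL⟩ : L) * c⁻¹ = MulAut.conj c ⟨w, hwL⟩ from rfl, MulEquiv.orderOf_eq,
      Subgroup.orderOf_mk, hwo] at h1
    exact (Fact.out : p.Prime).ne_one h1
  have hne : (P : Subgroup L) ≠ ⊥ := fun h => hnle (h ▸ bot_le)
  haveI : Nontrivial (P : Subgroup L) := (nontrivial_iff_ne_bot _).2 hne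
  haveI := P.2.center_nontrivial
  obtain ⟨z, hz⟩ := exists_ne (1 : Subgroup.center (P : Subgroup L))
  set y : L := ((z : (P : Subgroup L)) : L) with hy
  have hcomm : ∀ q ∈ (P : Subgroup L), Commute y q := fun q hq =>
    (congrArg Subtype.val (mem_center_iff.1 z.2 ⟨q, hq⟩)).symm
  have hy1 : (y : G) ≠ 1 := fun h => hz (Subtype.ext (Subtype.ext (Subtype.ext h)))
  have hyK : y ∈ K := hfrob w' hw'K hw'1 ⟨y.2, mem_centralizer_singleton_iff.2
    (congrArg Subtype.val (hcomm w' hw'P).eq)⟩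
  exact hnle fun q hq => hfrob y hyK hy1 ⟨q.2, mem_centralizer_singleton_iff.2
    (congrArg Subtype.val (hcomm q hq).eq).symm⟩

/-- The kernel of such a group is nilpotent. -/
theorem isNilpotent_kernel (hHL : H < L) (hn : ∀ x ∈ L, ∀ h ∈ H, x * h * x⁻¹ ∈ H)
    (hfrob : ∀ h ∈ H, h ≠ 1 → L ⊓ centralizer ({h} : Set G) ≤ H) : Group.IsNilpotent H := by
  have h1 : H.relIndex L ≠ 1 := fun h => hHL.not_ge (relIndex_eq_one.1 h)
  obtain ⟨p, hp, hpd⟩ := Nat.exists_prime_and_dvd h1
  haveI := Fact.mk hp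
  have hpH := not_dvd_card_kernel hHL.le hn hfrob hpd
  obtain ⟨⟨b, hbL⟩, hb⟩ := exists_prime_orderOf_dvd_card' (G := L) p
    (hpd.trans (index_dvd_card _))
  rw [Subgroup.orderOf_mk] at hb
  have hbH : b ∉ H := fun h => hpH (hb ▸ Subgroup.orderOf_dvd_natCard _ h)
  let φ : H ≃* H :=
    { toFun := fun h => ⟨b * h * b⁻¹, hn b hbL h h.2⟩
      invFun := fun h => ⟨b⁻¹ * h * b, by simpa using hn b⁻¹ (inv_mem hbL) h h.2⟩
      left_inv := fun h => Subtype.ext (by simp [mul_assoc])
      right_inv := fun h => Subtype.ext (by simp [mul_assoc])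
      map_mul' := fun h k => Subtype.ext (by simp [mul_assoc]) }
  refine Cfsg.Lib.Thompson.isNilpotent_of_fpf hp φ (fun h hh => ?_) (funext fun h => ?_)
  · by_contra h1'
    have e : b * (h : G) * b⁻¹ = h := congrArg Subtype.val hh
    exact hbH (hfrob h h.2 (fun e' => h1' (Subtype.ext e'))
      ⟨hbL, mem_centralizer_singleton_iff.2 (mul_inv_eq_iff_eq_mul.1 e)⟩)
  · have key : ∀ n : ℕ, ((φ^[n]) h : G) = b ^ n * h * (b ^ n)⁻¹ := by
      intro n
      induction n with
      | zero => simp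
      | succ n ihn =>
        rw [Function.iterate_succ_apply']
        show b * _ * b⁻¹ = _
        rw [ihn, pow_succ']; group
    exact Subtype.ext (by rw [key, ← hb, pow_orderOf_eq_one]; simp)


/-- Let G be a finite group of odd order and (L i, H i), i in a finite index type with at least two elements, pairs of subgroups with H i a nontrivial proper normal subgroup of L i such that every non-identity element of H i has its centraliser within L i contained in H i (L i is a Frobenius group with kernel H i), the orders of the H i pairwise coprime, and the underlying set of each H i a TI-subset of G with normaliser L i. If every non-identity element of G is conjugate to an element of some H i, we reach a contradiction. -/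
theorem result {G : Type*} [Group G] [Finite G] (hodd : Odd (Nat.card G)) {ι : Type*} [Fintype ι] (hι : 2 ≤ Fintype.card ι) (L H : ι → Subgroup G) (hHL : ∀ i, H i < L i) (hH1 : ∀ i, H i ≠ ⊥) (hHn : ∀ i, ∀ x ∈ L i, ∀ h ∈ H i, x * h * x⁻¹ ∈ H i) (hfrob : ∀ i, ∀ h ∈ H i, h ≠ 1 → L i ⊓ Subgroup.centralizer ({h} : Set G) ≤ H i) (hcop : ∀ i j, i ≠ j → Nat.Coprime (Nat.card (H i)) (Nat.card (H j))) (hTI : ∀ i, Cfsg.IsTISubset (H i : Set G) ∧ Subgroup.normalizer (H i : Set G) = L i) (hcover : ∀ g : G, g ≠ 1 → ∃ i, ∃ x : G, x * g * x⁻¹ ∈ H i) : False := by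
  classical
  have hHLle : ∀ i, H i ≤ L i := fun i => (hHL i).le
  -- centralizers of kernel elements
  have hcent : ∀ i, ∀ h ∈ H i, h ≠ 1 → centralizer ({h} : Set G) ≤ H i := by
    intro i h hh hh1 c hc
    have hcL : c ∈ L i := by
      rw [← (hTI i).2]
      by_contra hcn
      refine hh1 ((hTI i).1 c hcn h hh ?_)
      rw [mem_centralizer_singleton_iff.1 hc, mul_inv_cancel_right]
      exact hh
    exact hfrob i h hh hh1 ⟨hcL, hc⟩
  have hnil : ∀ i, Group.IsNilpotent (H i) := fun i => isNilpotent_kernel (hHL i) (hHn i) (hfrob i)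
  have hCN : Cfsg.IsCNGroup G := by
    intro g hg
    obtain ⟨i, x, hx⟩ := hcover g hg
    haveI := hnil i
    have h1 : x * g * x⁻¹ ≠ 1 := by simpa using hg
    let f : centralizer ({g} : Set G) →* H i :=
      ((MulAut.conj x).toMonoidHom.comp (centralizer ({g} : Set G)).subtype).codRestrict _
        fun c => hcent i _ hx h1 (mem_centralizer_singleton_iff.2 (by
          show x * c * x⁻¹ * (x * g * x⁻¹) = x * g * x⁻¹ * (x * c * x⁻¹)
          rw [conj_mul, conj_mul, mem_centralizer_singleton_iff.1 c.2]))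
    have hf : Function.Injective f := fun a b e =>
      Subtype.ext ((MulAut.conj x).injective (congrArg Subtype.val e))
    exact Group.nilpotent_of_mulEquiv (G := f.range) (MonoidHom.ofInjective hf).symm
  have hsol : Group.IsSolvable G := Cfsg.Lib.Local.CN.isSolvable_of_odd hodd hCN
  obtain ⟨i₀⟩ : Nonempty ι := Fintype.card_pos_iff.1 (by omega)
  obtain ⟨a₀, ha₀, ha₀1⟩ := (H i₀).bot_or_exists_ne_one.resolve_left (hH1 i₀)
  haveI : Nontrivial G := ⟨⟨a₀, 1, ha₀1⟩⟩
  obtain ⟨N, hN⟩ := Cfsg.Lib.Core.exists_isMinNormal_univ (G := G)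
  obtain ⟨hNab, p, hp, -, -⟩ := Cfsg.Lib.Core.minimal_solvable_elementary hN
    (Cfsg.Lib.Coprime.isSolvable_of_le (G := (⊤ : Subgroup G)) le_top inferInstance)
  have hNn : N.Normal := hN.1
  obtain ⟨n, hn, hn1⟩ := N.bot_or_exists_ne_one.resolve_left hN.2.1
  obtain ⟨i, x, hx⟩ := hcover n hn1
  have hnx : x * n * x⁻¹ ∈ N := hNn.conj_mem n hn x
  have hnx1 : x * n * x⁻¹ ≠ 1 := by simpa using hn1
  have hNH : N ≤ H i := fun w hw => hcent i _ hx hnx1 (mem_centralizer_singleton_iff.2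
    (congrArg Subtype.val (hNab.is_comm.comm (⟨w, hw⟩ : N) ⟨_, hnx⟩)))
  have hLtop : L i = ⊤ := eq_top_iff.2 fun g _ => by
    rw [← (hTI i).2]
    by_contra hg
    exact hnx1 ((hTI i).1 g hg _ hx (hNH (hNn.conj_mem _ hnx g)))
  have hHin : (H i).Normal := ⟨fun h hh g => hHn i g (hLtop ▸ mem_top g) h hh⟩
  obtain ⟨j, hji⟩ := Fintype.exists_ne_of_one_lt_card (by omega) i
  have hdisj : ∀ w, w ∈ H i → w ∈ H j → w = 1 := fun w h1 h2 =>
    orderOf_eq_one_iff.1 (Nat.eq_one_of_dvd_coprimes (hcop j i hji)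
      (Subgroup.orderOf_dvd_natCard _ h2) (Subgroup.orderOf_dvd_natCard _ h1))
  obtain ⟨a, ha, ha1⟩ := (H j).bot_or_exists_ne_one.resolve_left (hH1 j)
  have hLH : ∀ u ∈ L j, u ∈ H i → u = 1 := by
    intro u hu hui
    by_contra hu1
    refine ha1 (hdisj a (hcent i u hui hu1 (mem_centralizer_singleton_iff.2 ?_)) ha)
    have h1 : u * a * u⁻¹ * a⁻¹ = 1 := hdisj _ (by
      rw [show u * a * u⁻¹ * a⁻¹ = u * (a * u⁻¹ * a⁻¹) by group]
      exact mul_mem hui (hHin.conj_mem _ (inv_mem hui) a))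
      (mul_mem (hHn j u hu a ha) (inv_mem ha))
    rw [mul_inv_eq_one, mul_inv_eq_iff_eq_mul] at h1
    exact h1.symm
  -- a Frobenius complement inside `L j`
  set K := (H j).subgroupOf (L j) with hK
  haveI : K.Normal := ⟨fun h hh g => hHn j g g.2 h hh⟩
  have hKc : Nat.card K = Nat.card (H j) :=
    Nat.card_congr (subgroupOfEquivOfLe (hHLle j)).toEquiv
  have hcopK : (Nat.card K).Coprime K.index := by
    refine Nat.coprime_of_dvd fun q hq hqK hqi => ?_
    haveI := Fact.mk hq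
    exact not_dvd_card_kernel (hHLle j) (hHn j) (hfrob j) hqi (hKc ▸ hqK)
  obtain ⟨A, hA⟩ := exists_right_complement'_of_coprime hcopK
  have hKne : K ≠ ⊥ := by
    rw [hK, Ne, subgroupOf_eq_bot, disjoint_iff, inf_eq_left.2 (hHLle j)]
    exact hH1 j
  have hAne : A ≠ ⊥ := by
    rintro rfl
    rw [isComplement'_bot_right, hK, subgroupOf_eq_top] at hA
    exact (hHL j).not_ge hA
  have hAfrob : Cfsg.IsFrobeniusComplement A :=
    Cfsg.Lib.Solv.isFrobeniusComplement_of_fpf hA hKne hAne fun b hb hb1 =>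
      eq_bot_iff.2 fun k hk => by
        rw [mem_bot]
        by_contra hk1
        have hbK : b ∈ K := hfrob j k hk.1 (fun e => hk1 (Subtype.ext e))
          ⟨b.2, mem_centralizer_singleton_iff.2
            (congrArg Subtype.val (mem_centralizer_singleton_iff.1 hk.2)).symm⟩
        exact hb1 (mem_bot.1 (hA.disjoint.le_bot ⟨hbK, hb⟩))
  refine Cfsg.Lib.Solv.not_fpf_frobenius (V := H i) (hH1 i)
    (by rw [normalizer_eq_top (H := H i)]; exact le_top) ?_ A hAfrob
  intro b hb hb1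
  refine eq_bot_iff.2 fun v hv => mem_bot.2 ?_
  by_contra hv1
  exact hb1 (hLH b hb (hcent i v hv.1 hv1
    (mem_centralizer_singleton_iff.2 (mem_centralizer_singleton_iff.1 hv.2).symm)))

end Cfsg.Agent.S1526
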