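import Cfsg.Statements.S1525
import Cfsg.Agent.Lib.Char.Dade

set_option autoImplicit false
open Cfsg

namespace Cfsg.Agent.S1525

/-- Under the Dade hypothesis for (A, L, H), let χ be a class function of G and let ψ be a function on L whose value at each a ∈ A is the average of χ over the coset a·H(a). Then (1/|G|) Σ |χ g|² over the elements g of G conjugate into some coset a·H(a) with a ∈ A is at least (1/|L|) Σ_{a ∈ A ∩ L} |ψ a|². -/
theorem result {G : Type*} [Group G] [Fintype G] (A : Set G) (L : Subgroup G) [Fintype L] (H : G → Subgroup G) (hD : Cfsg.DadeHypothesis A L H) (χ : G → ℂ) (hχ : Cfsg.IsClassFunction G χ) (ψ : L → ℂ) (hψ : ∀ a : L, (a : G) ∈ A → ψ a = (Nat.card (H a) : ℂ)⁻¹ * ∑ᶠ u ∈ (H a : Set G), χ (a * u)) : (Nat.card L : ℝ)⁻¹ * ∑ᶠ a ∈ {a : L | (a : G) ∈ A}, ‖ψ a‖ ^ 2 ≤ (Nat.card G : ℝ)⁻¹ * ∑ᶠ g ∈ {g : G | ∃ a ∈ A, ∃ u ∈ H a, ∃ x : G, x * g * x⁻¹ = a * u}, ‖χ g‖ ^ 2 := by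
  classical
  set α : L → ℂ := fun a => if (a : G) ∈ A then 1 else 0 with hα
  have hαc : Cfsg.IsClassFunction L α := by
    intro a l
    have e : (((l * a * l⁻¹ : L)) : G) ∈ A ↔ (a : G) ∈ A := by
      refine ⟨fun h => ?_, fun h => hD.conj_mem l l.2 _ h⟩
      have := hD.conj_mem (l : G)⁻¹ (inv_mem l.2) _ h
      simpa [mul_assoc] using this
    simp only [hα, e]
  have hN : Cfsg.IsClassFunction G fun g => ((‖χ g‖ ^ 2 : ℝ) : ℂ) := fun g y => by
    simp only [hχ g y]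
  have key := Cfsg.Lib.Char.classInner_dadeIsometry hD hαc hN
  have hR : Cfsg.classInner (Cfsg.dadeIsometry A L H α) (fun g => ((‖χ g‖ ^ 2 : ℝ) : ℂ)) =
      (((Nat.card G : ℝ)⁻¹ * ∑ g : G, (if ∃ a ∈ A, ∃ u ∈ H a, ∃ x : G, x * g * x⁻¹ = a * u
        then ‖χ g‖ ^ 2 else 0) : ℝ) : ℂ) := by
    rw [Complex.ofReal_mul, Complex.ofReal_inv, Complex.ofReal_natCast, Complex.ofReal_sum]
    simp only [Cfsg.classInner, Complex.conj_ofReal]
    congr 1
    refine Finset.sum_congr rfl fun g _ => ?_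
    by_cases h : ∃ a ∈ A, ∃ u ∈ H a, ∃ x : G, x * g * x⁻¹ = a * u
    · obtain ⟨a, ha, u, hu, x, e⟩ := h
      rw [Cfsg.Lib.Char.dadeIsometry_eq hD hαc (a := ⟨a, hD.subset ha⟩) ha hu e,
        if_pos ⟨a, ha, u, hu, x, e⟩]
      simp [hα, ha]
    · rw [Cfsg.Lib.Char.dadeIsometry_eq_zero fun a ha x u hu e => h ⟨a, ha, u, hu, x, e⟩, if_neg h]
      simp
  have hL : (((Nat.card L : ℝ)⁻¹ * ∑ a : L, (if (a : G) ∈ A then
      (Nat.card (H (a : G)) : ℝ)⁻¹ * ∑ u : H (a : G), ‖χ ((a : G) * u)‖ ^ 2 else 0) : ℝ) : ℂ) =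
      Cfsg.classInner (Cfsg.dadeIsometry A L H α) (fun g => ((‖χ g‖ ^ 2 : ℝ) : ℂ)) := by
    rw [key, Complex.ofReal_mul, Complex.ofReal_inv, Complex.ofReal_natCast, Complex.ofReal_sum]
    congr 1
    refine Finset.sum_congr rfl fun a _ => ?_
    split_ifs with ha
    · simp only [hα, if_pos ha, one_mul, map_mul, map_inv₀, Complex.conj_natCast, map_sum,
        Complex.conj_ofReal, Complex.ofReal_mul, Complex.ofReal_inv, Complex.ofReal_natCast,
        Complex.ofReal_sum]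
    · simp
  have hEq := Complex.ofReal_injective (hL.trans hR)
  rw [finsum_mem_eq_toFinset_sum, finsum_mem_eq_toFinset_sum, Set.toFinset_ofPred,
    Set.toFinset_ofPred, Finset.sum_filter, Finset.sum_filter, ← hEq]
  refine mul_le_mul_of_nonneg_left (Finset.sum_le_sum fun a _ => ?_) (by positivity)
  split_ifs with ha
  · rw [hψ a ha, ← finsum_set_coe_eq_finsum_mem, finsum_eq_sum_of_fintype]
    set c : ℝ := (Nat.card (H (a : G)) : ℝ) with hc
    have hc0 : 0 < c := Nat.cast_pos.mpr Nat.card_pos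
    rw [norm_mul, norm_inv, Complex.norm_natCast, ← hc, mul_pow]
    have h1 : ‖∑ u : H (a : G), χ ((a : G) * u)‖ ^ 2 ≤
        c * ∑ u : H (a : G), ‖χ ((a : G) * u)‖ ^ 2 := by
      refine (pow_le_pow_left₀ (norm_nonneg _) (norm_sum_le _ _) 2).trans ?_
      refine (sq_sum_le_card_mul_sum_sq).trans (le_of_eq ?_)
      rw [hc, Finset.card_univ, Nat.card_eq_fintype_card]
    calc c⁻¹ ^ 2 * ‖∑ u : H (a : G), χ ((a : G) * u)‖ ^ 2
        ≤ c⁻¹ ^ 2 * (c * ∑ u : H (a : G), ‖χ ((a : G) * u)‖ ^ 2) := by gcongr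
      _ = c⁻¹ * ∑ u : H (a : G), ‖χ ((a : G) * u)‖ ^ 2 := by field_simp
  · exact le_rfl

end Cfsg.Agent.S1525
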