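import Cfsg.Statements.S1503
import Cfsg.Agent.Lib.Char.CyclicTI

set_option autoImplicit false
open Cfsg Cfsg.Lib.Char
open scoped ComplexConjugate

namespace Cfsg.Agent.S1503

/-- Let W₁, W₂ ≤ G with W = W₁ ⊔ W₂ and let χ an orthonormal family of irreducible characters of G up to sign, indexed by the linear characters ω of W, with χ_1 = 1, χ_ω = ω on W outside W₁ ∪ W₂, and the induction identity for (1 − φ)(1 − ψ). If θ is an irreducible character of G orthogonal to χ ω for every linear character ω of W, then θ vanishes at every element of W lying outside W₁ ∪ W₂. -/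
theorem result {G : Type*} [Group G] [Fintype G] (W₁ W₂ : Subgroup G) (hW : Cfsg.IsSelfNormalizingCyclic W₁ W₂) (χ : (↥(W₁ ⊔ W₂) →* ℂˣ) → (G → ℂ)) (hχ : Cfsg.IsCyclicTIFamily W₁ W₂ χ) (θ : G → ℂ) (hθ : Cfsg.IsIrrCharacter G θ) (horth : ∀ ω, Cfsg.classInner θ (χ ω) = 0) (w : ↥(W₁ ⊔ W₂)) (hw₁ : (w : G) ∉ W₁) (hw₂ : (w : G) ∉ W₂) : θ w = 0 := by
  haveI : Fintype ↥(W₁ ⊔ W₂) := Fintype.ofFinite _
  obtain ⟨-, -, hdisj, hcomm, hcyc, -⟩ := hW
  refine cti_eq_zero_of_orthogonal hdisj hcomm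
    (fun a b => by
      obtain ⟨c, hc⟩ := hcyc.exists_generator
      obtain ⟨i, rfl⟩ := hc a
      obtain ⟨j, rfl⟩ := hc b
      exact zpow_mul_comm c i j) (g := fun x : ↥(W₁ ⊔ W₂) => θ x) ?_ w hw₁ hw₂
  intro φ ψ hφ hψ hφ₂ hψ₁
  rw [← classInner_indFun (W₁ ⊔ W₂) _ hθ.isClassFunction]
  have e : indFun (W₁ ⊔ W₂) (ctiAlpha φ ψ) = χ 1 - χ φ - χ ψ + χ (φ * ψ) := by
    rw [hχ.map_one]
    exact hχ.induced_eq φ ψ hφ hψ hφ₂ hψ₁
  have h0 : ∀ ω, classInner (χ ω) θ = 0 := fun ω => by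
    rw [← classInner_conj_symm, horth ω, map_zero]
  rw [e, classInner_add_left, classInner_sub_left, classInner_sub_left, h0, h0, h0, h0]
  ring

end Cfsg.Agent.S1503
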