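import Cfsg.Statements.S1506
import Cfsg.Agent.Lib.Char.CyclicTI

set_option autoImplicit false
open Cfsg Cfsg.Lib.Char
open scoped ComplexConjugate

namespace Cfsg.Agent.S1506

/-- Let W₁, W₂ ≤ G form a self-normalising cyclic subgroup W = W₁ ⊔ W₂ and χ an orthonormal family of irreducible characters of G up to sign, indexed by the linear characters ω of W, with χ_1 = 1, χ_ω = ω on W outside W₁ ∪ W₂, and the induction identity for (1 − φ)(1 − ψ). Let θ be a class function of G vanishing at every element of W outside W₁ ∪ W₂. For linear characters φ, φ' of W trivial on W₂ and ψ, ψ' trivial on W₁, the inner products a(ω) = ⟨θ, χ ω⟩ satisfy a(φψ) + a(φ'ψ') = a(φψ') + a(φ'ψ). -/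
theorem result {G : Type*} [Group G] [Fintype G] (W₁ W₂ : Subgroup G) (hW : Cfsg.IsSelfNormalizingCyclic W₁ W₂) (χ : (↥(W₁ ⊔ W₂) →* ℂˣ) → (G → ℂ)) (hχ : Cfsg.IsCyclicTIFamily W₁ W₂ χ) (θ : G → ℂ) (hθ : Cfsg.IsClassFunction G θ) (hθV : ∀ w : ↥(W₁ ⊔ W₂), (w : G) ∉ W₁ → (w : G) ∉ W₂ → θ w = 0) (φ φ' ψ ψ' : ↥(W₁ ⊔ W₂) →* ℂˣ) (hφ₂ : ∀ w : ↥(W₁ ⊔ W₂), (w : G) ∈ W₂ → φ w = 1 ∧ φ' w = 1) (hψ₁ : ∀ w : ↥(W₁ ⊔ W₂), (w : G) ∈ W₁ → ψ w = 1 ∧ ψ' w = 1) : Cfsg.classInner θ (χ (φ * ψ)) + Cfsg.classInner θ (χ (φ' * ψ')) = Cfsg.classInner θ (χ (φ * ψ')) + Cfsg.classInner θ (χ (φ' * ψ)) := by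
  haveI : Fintype ↥(W₁ ⊔ W₂) := Fintype.ofFinite _
  have key : ∀ f g : ↥(W₁ ⊔ W₂) →* ℂˣ, (∀ w : ↥(W₁ ⊔ W₂), (w : G) ∈ W₂ → f w = 1) →
      (∀ w : ↥(W₁ ⊔ W₂), (w : G) ∈ W₁ → g w = 1) →
      classInner θ (χ (f * g)) = classInner θ (χ f) + classInner θ (χ g) - classInner θ (χ 1) := by
    intro f g hf hg
    by_cases h1 : f = 1
    · rw [h1, cti_one_mul]; ring
    by_cases h2 : g = 1
    · rw [h2, cti_mul_one]; ring
    have e : indFun (W₁ ⊔ W₂) (ctiAlpha f g) = χ 1 - χ f - χ g + χ (f * g) := by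
      rw [hχ.map_one]
      exact hχ.induced_eq f g h1 h2 hf hg
    have h3 : classInner (indFun (W₁ ⊔ W₂) (ctiAlpha f g)) θ = 0 := by
      rw [classInner_indFun (W₁ ⊔ W₂) _ hθ]
      simp only [classInner]
      rw [Finset.sum_eq_zero fun w _ => ?_, mul_zero]
      by_cases hw : (w : G) ∈ W₁ ∨ (w : G) ∈ W₂
      · rw [ctiAlpha_eq_zero hf hg hw, zero_mul]
      · push Not at hw
        rw [hθV w hw.1 hw.2, map_zero, mul_zero]
    have h4 : classInner θ (indFun (W₁ ⊔ W₂) (ctiAlpha f g)) = 0 := by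
      rw [← classInner_conj_symm, h3, map_zero]
    rw [e, classInner_add_right, classInner_sub_right, classInner_sub_right] at h4
    linear_combination h4
  have a := fun w hw => (hφ₂ w hw).1
  have a' := fun w hw => (hφ₂ w hw).2
  have b := fun w hw => (hψ₁ w hw).1
  have b' := fun w hw => (hψ₁ w hw).2
  rw [key φ ψ a b, key φ' ψ' a' b', key φ ψ' a b', key φ' ψ a' b]
  ring

end Cfsg.Agent.S1506
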