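import Cfsg.Statements.S1508
import Cfsg.Agent.S1506
import Cfsg.Agent.Lib.Char.CyclicTIExist
import Cfsg.Agent.Lib.Char.Galois

set_option autoImplicit false
open Cfsg Cfsg.Lib.Char

namespace Cfsg.Agent.S1508

/-- Let W₁, W₂ ≤ G form a self-normalising cyclic subgroup W = W₁ ⊔ W₂ of odd order and χ an orthonormal family of irreducible characters of G up to sign, indexed by the linear characters ω of W, with χ_1 = 1, χ_ω = ω on W outside W₁ ∪ W₂, and the induction identity for (1 − φ)(1 − ψ). Let ω be a linear character of W and g an element of G whose order is coprime to the order of ω. Then χ ω g is an integer. -/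
theorem result {G : Type*} [Group G] [Fintype G] (W₁ W₂ : Subgroup G) (hW : Cfsg.IsSelfNormalizingCyclic W₁ W₂) (hodd : Odd (Nat.card ↥(W₁ ⊔ W₂))) (χ : (↥(W₁ ⊔ W₂) →* ℂˣ) → (G → ℂ)) (hχ : Cfsg.IsCyclicTIFamily W₁ W₂ χ) (ω : ↥(W₁ ⊔ W₂) →* ℂˣ) (g : G) (hg : Nat.Coprime (orderOf g) (orderOf ω)) : ∃ n : ℤ, χ ω g = n := by
  classical
  obtain ⟨-, -, hdisj, hcomm, hcyc, -⟩ := id hW
  haveI : Fintype ↥(W₁ ⊔ W₂) := Fintype.ofFinite _
  have hab : ∀ a b : ↥(W₁ ⊔ W₂), a * b = b * a := fun a b => by
    obtain ⟨c, hc⟩ := hcyc.exists_generator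
    obtain ⟨i, rfl⟩ := hc a
    obtain ⟨j, rfl⟩ := hc b
    exact zpow_mul_comm c i j
  haveI : Finite (↥(W₁ ⊔ W₂) →* ℂˣ) := Finite.of_equiv _
    (linearCharEquiv.trans (Equiv.subtypeUnivEquiv fun χ => degree_eq_one_of_comm hab χ.2)).symm
  obtain ⟨p, q, hp, hq, hpq, hp1, hq2⟩ := cti_exists_proj hdisj hcomm
  let A := {f : ↥(W₁ ⊔ W₂) →* ℂˣ // ∀ w : ↥(W₁ ⊔ W₂), (w : G) ∈ W₂ → f w = 1}
  let B := {f : ↥(W₁ ⊔ W₂) →* ℂˣ // ∀ w : ↥(W₁ ⊔ W₂), (w : G) ∈ W₁ → f w = 1}
  have hA : Nat.card A = Nat.card W₁ := cti_card_trivial_on_right hdisj hcomm hab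
  have hB : Nat.card B = Nat.card W₂ := cti_card_trivial_on_left hdisj hcomm hab
  have hthree : ∀ {H : Subgroup G}, H ≠ ⊥ → H ≤ W₁ ⊔ W₂ → 3 ≤ Nat.card H := by
    intro H hne hle
    have h1 : 1 < Nat.card H :=
      Finite.one_lt_card_iff_nontrivial.mpr ((Subgroup.nontrivial_iff_ne_bot H).mpr hne)
    have h2 : Odd (Nat.card H) := hodd.of_dvd_nat (Subgroup.card_dvd_of_le hle)
    obtain ⟨c, hc⟩ := h2
    omega
  have hA3 : 3 ≤ Nat.card A := hA ▸ hthree hW.1 le_sup_left
  have hB3 : 3 ≤ Nat.card B := hB ▸ hthree hW.2.1 le_sup_right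
  let proj1 : (↥(W₁ ⊔ W₂) →* ℂˣ) → A := fun f =>
    ⟨f.comp p, fun x hx => by rw [MonoidHom.comp_apply, (hq2 x hx).1, map_one]⟩
  let proj2 : (↥(W₁ ⊔ W₂) →* ℂˣ) → B := fun f =>
    ⟨f.comp q, fun x hx => by rw [MonoidHom.comp_apply, (hp1 x hx).2, map_one]⟩
  have hsplit : ∀ f, (proj1 f).1 * (proj2 f).1 = f := fun f => by
    ext x
    show ((f (p x) * f (q x) : ℂˣ) : ℂ) = _
    rw [← map_mul, hpq]
  have hid : ∀ (a : A) (b : B), proj1 (a.1 * b.1) = a ∧ proj2 (a.1 * b.1) = b := by
    intro a b
    obtain ⟨e1, e2⟩ := cti_pair_inj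
      (fun w hw => ⟨(proj1 (a.1 * b.1)).2 w hw, a.2 w hw⟩)
      (fun w hw => ⟨(proj2 (a.1 * b.1)).2 w hw, b.2 w hw⟩) (hsplit (a.1 * b.1))
    exact ⟨Subtype.ext e1, Subtype.ext e2⟩
  have hcf : ∀ f, IsClassFunction G (χ f) := fun f => by
    rcases hχ.irr_or_neg f with h | h
    · exact h.isClassFunction
    · intro a b
      simpa using h.isClassFunction a b
  -- the power twist permutes the family
  have htwist : ∀ k : ℕ, k.Coprime (Nat.card G) → (fun x => χ ω (x ^ k)) = χ (ω ^ k) := by
    intro k hk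
    set f : G → ℂ := fun x => χ ω (x ^ k) with hf
    have hirr : IsIrrCharacter G f ∨ IsIrrCharacter G (-f) := by
      rcases hχ.irr_or_neg ω with h | h
      · exact Or.inl (isIrrCharacter_comp_pow hk h)
      · exact Or.inr (by have h' := isIrrCharacter_comp_pow hk h; exact h')
    have hnorm : classInner f f = 1 := by
      rcases hirr with h | h
      · exact classInner_irr_self h
      · simpa [classInner_neg_left, classInner_neg_right] using classInner_irr_self h
    have hfc : IsClassFunction G f := fun a b => by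
      simp only [hf, conj_pow]
      exact hcf ω _ _
    -- at most one member pairs with `f`
    obtain ⟨ω₁, hω₁⟩ : ∃ ω₁, ∀ ω', ω' ≠ ω₁ → classInner f (χ ω') = 0 := by
      by_cases hex : ∃ ω₁, classInner f (χ ω₁) ≠ 0
      · obtain ⟨ω₁, h1⟩ := hex
        refine ⟨ω₁, fun ω' hne => ?_⟩
        by_contra h2
        have h0 := hχ.orthonormal ω' ω₁
        rw [if_neg hne] at h0
        have key : ∀ a b : G → ℂ, (IsIrrCharacter G a ∨ IsIrrCharacter G (-a)) →
            (IsIrrCharacter G b ∨ IsIrrCharacter G (-b)) → classInner a b ≠ 0 → a = b ∨ a = -b := by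
          intro a b ha hb hab'
          by_contra hcon
          push Not at hcon
          apply hab'
          rcases ha with ha | ha <;> rcases hb with hb | hb
          · exact classInner_irr_ne ha hb hcon.1
          · simpa [classInner_neg_right] using classInner_irr_ne ha hb hcon.2
          · simpa [classInner_neg_left] using classInner_irr_ne ha hb
              (fun e => hcon.2 (by rw [← e, neg_neg]))
          · simpa [classInner_neg_left, classInner_neg_right] using classInner_irr_ne ha hb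
              (fun e => hcon.1 (neg_injective e))
        have hn : classInner (χ ω') (χ ω') = 1 := by rw [hχ.orthonormal, if_pos rfl]
        rcases key _ _ hirr (hχ.irr_or_neg ω₁) h1 with e | e <;>
          rcases key _ _ hirr (hχ.irr_or_neg ω') h2 with e' | e' <;>
          · first
              | rw [show χ ω₁ = χ ω' from e.symm.trans e'] at h0
              | rw [show χ ω₁ = -χ ω' from e.symm.trans e'] at h0
              | rw [show χ ω₁ = -χ ω' from neg_eq_iff_eq_neg.mp (e.symm.trans e')] at h0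
              | rw [show χ ω₁ = χ ω' from neg_injective (e.symm.trans e')] at h0
            simp only [classInner_neg_right, hn, neg_eq_zero, one_ne_zero] at h0
      · push Not at hex
        exact ⟨1, fun ω' _ => hex ω'⟩
    set D := f - χ (ω ^ k) with hD
    set a : (↥(W₁ ⊔ W₂) →* ℂˣ) → ℂ := fun ω' => classInner D (χ ω') with ha
    have hsupp : ∀ ω', ω' ≠ ω₁ → ω' ≠ ω ^ k → a ω' = 0 := fun ω' e1 e2 => by
      simp only [ha, hD, classInner_sub_left, hω₁ ω' e1, hχ.orthonormal, if_neg e2.symm, sub_zero]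
    have hDV : ∀ w : ↥(W₁ ⊔ W₂), (w : G) ∉ W₁ → (w : G) ∉ W₂ → D w = 0 := by
      intro w h1 h2
      have hkw : k.Coprime (orderOf (w : G)) := hk.coprime_dvd_right (orderOf_dvd_natCard _)
      have hmem : ∀ H : Subgroup G, (w : G) ^ k ∈ H → (w : G) ∈ H := fun H h => by
        obtain ⟨m, hm⟩ := exists_pow_eq_self_of_coprime hkw
        exact hm ▸ H.pow_mem h m
      have e : χ ω ((w : G) ^ k) = ((ω ^ k) w : ℂ) := by
        have := hχ.eq_on ω (w ^ k) (fun h => h1 (hmem W₁ (by simpa using h)))
          (fun h => h2 (hmem W₂ (by simpa using h)))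
        simpa [MonoidHom.pow_apply, map_pow] using this
      simp only [hD, hf, Pi.sub_apply]
      rw [e, hχ.eq_on (ω ^ k) w h1 h2, sub_self]
    have hrect : ∀ (x x' : A) (y y' : B),
        a (x.1 * y.1) + a (x'.1 * y'.1) = a (x.1 * y'.1) + a (x'.1 * y.1) := fun x x' y y' =>
      Cfsg.Agent.S1506.result W₁ W₂ hW χ hχ D (fun u v => by
        simp only [hD, Pi.sub_apply, hfc u v, hcf _ u v]) hDV _ _ _ _
        (fun w hw => ⟨x.2 w hw, x'.2 w hw⟩) (fun w hw => ⟨y.2 w hw, y'.2 w hw⟩)
    have havoid : ∀ {T : Type _} [Finite T] (u v : T), 3 ≤ Nat.card T → ∃ t : T, t ≠ u ∧ t ≠ v := by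
      intro T _ u v h3
      by_contra h
      push Not at h
      haveI := Fintype.ofFinite T
      have hsub : Finset.univ ⊆ ({u, v} : Finset T) := fun t _ => by
        by_cases e : t = u
        · simp [e]
        · simp [h t e]
      have h2 := (Finset.card_le_card hsub).trans Finset.card_le_two
      rw [Finset.card_univ, ← Nat.card_eq_fintype_card] at h2
      omega
    have hzero : ∀ x y, (x ≠ proj1 ω₁ ∧ x ≠ proj1 (ω ^ k)) ∨
        (y ≠ proj2 ω₁ ∧ y ≠ proj2 (ω ^ k)) → a ((x : A).1 * (y : B).1) = 0 := by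
      intro x y h
      refine hsupp _ (fun e => ?_) (fun e => ?_) <;>
        · have e1 := (hid x y).1
          have e2 := (hid x y).2
          rw [e] at e1 e2
          rcases h with h | h
          · first | exact h.1 e1.symm | exact h.2 e1.symm
          · first | exact h.1 e2.symm | exact h.2 e2.symm
    have hall : ∀ (x : A) (y : B), a (x.1 * y.1) = 0 := by
      intro x y
      obtain ⟨x', hx'⟩ := havoid (proj1 ω₁) (proj1 (ω ^ k)) hA3
      obtain ⟨y', hy'⟩ := havoid (proj2 ω₁) (proj2 (ω ^ k)) hB3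
      have h0 := hrect x x' y y'
      rw [hzero x' y' (Or.inl hx'), hzero x y' (Or.inr hy'), hzero x' y (Or.inl hx'), zero_add,
        add_zero] at h0
      exact h0
    have h1 : classInner f (χ (ω ^ k)) = 1 := by
      have := hall (proj1 (ω ^ k)) (proj2 (ω ^ k))
      rw [hsplit] at this
      simp only [ha, hD, classInner_sub_left, hχ.orthonormal, if_pos] at this
      linear_combination this
    have h2 : classInner D D = 0 := by
      have h3 : classInner (χ (ω ^ k)) f = 1 := by rw [← classInner_conj_symm, h1, map_one]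
      simp only [hD, classInner_sub_left, classInner_sub_right, hnorm, h1, h3, hχ.orthonormal,
        if_pos]
      ring
    exact sub_eq_zero.mp (eq_zero_of_classInner_self h2)
  -- invariance under all power maps
  have hinv : ∀ k : ℕ, k.Coprime (Nat.card G) → χ ω (g ^ k) = χ ω g := by
    intro k hk
    set o := orderOf g
    set n := orderOf ω
    obtain ⟨c, hc1, hc2⟩ := Nat.chineseRemainder hg k 1
    let J := ∏ r ∈ (Nat.card G).primeFactors.filter (fun r => ¬ r ∣ c), r
    have hcop : (c + J * (o * n)).Coprime (Nat.card G) := by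
      refine Nat.coprime_of_dvd fun r hr hr1 hr2 => ?_
      have hrF : r ∈ (Nat.card G).primeFactors := Nat.mem_primeFactors.mpr ⟨hr, hr2, Nat.card_pos.ne'⟩
      by_cases hrc : r ∣ c
      · have hJ : r ∣ J * (o * n) := (Nat.dvd_add_right hrc).mp hr1
        rcases hr.dvd_mul.mp hJ with h | h
        · obtain ⟨s, hs, hrs⟩ := (Prime.dvd_finsetProd_iff hr.prime _).mp h
          have hs' := Finset.mem_filter.mp hs
          rw [(Nat.prime_dvd_prime_iff_eq hr (Nat.prime_of_mem_primeFactors hs'.1)).mp hrs] at hrc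
          exact hs'.2 hrc
        · rcases hr.dvd_mul.mp h with h' | h'
          · have : c % r = k % r := Nat.ModEq.of_dvd h' hc1
            rw [Nat.mod_eq_zero_of_dvd hrc] at this
            exact hr.not_dvd_one (hk ▸ Nat.dvd_gcd (Nat.dvd_of_mod_eq_zero this.symm) hr2)
          · have : c % r = 1 % r := Nat.ModEq.of_dvd h' hc2
            rw [Nat.mod_eq_zero_of_dvd hrc, Nat.mod_eq_of_lt hr.one_lt] at this
            exact absurd this zero_ne_one
      · have hJ : r ∣ J := Finset.dvd_prod_of_mem (fun r => r) (Finset.mem_filter.mpr ⟨hrF, hrc⟩)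
        exact hrc ((Nat.dvd_add_left (hJ.mul_right _)).mp hr1)
    have e1 : g ^ (c + J * (o * n)) = g ^ k := by
      rw [pow_eq_pow_iff_modEq]
      exact Nat.ModEq.trans (by
        show _ % o = _ % o
        rw [show J * (o * n) = (J * n) * o by ring, Nat.add_mul_mod_self_right]) hc1
    have e2 : ω ^ (c + J * (o * n)) = ω := by
      have hmod : c + J * (o * n) ≡ 1 [MOD n] := Nat.ModEq.trans (by
        show _ % n = _ % n
        rw [show J * (o * n) = (J * o) * n by ring, Nat.add_mul_mod_self_right]) hc2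
      ext x
      have hx : (ω x) ^ n = 1 := by
        have := congrArg (fun F : ↥(W₁ ⊔ W₂) →* ℂˣ => F x) (pow_orderOf_eq_one ω)
        exact this
      have hdiv := Nat.div_add_mod (c + J * (o * n)) n
      rw [MonoidHom.pow_apply, ← hdiv, pow_add, pow_mul, hx, one_pow, one_mul]
      rcases eq_or_ne n 1 with h1 | h1
      · rw [h1, pow_one] at hx
        simp [h1, Nat.mod_one, hx]
      · have hn0 : n ≠ 0 := (orderOf_pos ω).ne'
        have : (c + J * (o * n)) % n = 1 := by
          rw [hmod, Nat.mod_eq_of_lt (by omega)]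
        rw [this, pow_one]
    rw [← e1]
    show (fun x => χ ω (x ^ (c + J * (o * n)))) g = _
    rw [htwist _ hcop, e2]
  rcases hχ.irr_or_neg ω with h | h
  · exact exists_int_of_pow_invariant h.isCharacter g hinv
  · obtain ⟨m, hm⟩ := exists_int_of_pow_invariant h.isCharacter g
      (fun k hk => by simp [hinv k hk])
    exact ⟨-m, by push_cast; rw [← hm]; simp⟩

end Cfsg.Agent.S1508
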