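import Cfsg.Statements.S0850
import Cfsg.Agent.Lib.Char.TI

set_option autoImplicit false
open Cfsg Cfsg.Lib.Char

namespace Cfsg.Agent.S0850

/-- Let K be a subgroup of the finite group G that meets each conjugate by an element outside its normalizer N trivially, is properly contained in N, and contains the centralizer of each of its non-identity elements (a T.I. subgroup with Frobenius normalizer). Then no element of N outside K is conjugate in G to an element of K, and for every class function ϑ of N that vanishes on N away from K and at the identity, the function induced from ϑ to G agrees with ϑ on all of N. -/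
theorem result {G : Type*} [Group G] [Fintype G] (K : Subgroup G) (hTI : ∀ g : G, g ∉ Subgroup.normalizer (K : Set G) → ∀ k ∈ K, g * k * g⁻¹ ∈ K → k = 1) (hlt : K < Subgroup.normalizer (K : Set G)) (hC : ∀ k ∈ K, k ≠ 1 → Subgroup.centralizer ({k} : Set G) ≤ K) : (∀ x ∈ Subgroup.normalizer (K : Set G), x ∉ K → ∀ g : G, g * x * g⁻¹ ∉ K) ∧ ∀ (ϑ : Subgroup.normalizer (K : Set G) → ℂ), Cfsg.IsClassFunction (Subgroup.normalizer (K : Set G)) ϑ → (∀ x : Subgroup.normalizer (K : Set G), (x : G) ∉ K → ϑ x = 0) → ϑ 1 = 0 → ∀ x : Subgroup.normalizer (K : Set G), Cfsg.indFun (Subgroup.normalizer (K : Set G)) ϑ x = ϑ x := by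
  classical
  set N := Subgroup.normalizer (K : Set G) with hN
  have h1 : ∀ x ∈ N, x ∉ K → ∀ g : G, g * x * g⁻¹ ∉ K := by
    intro x hx hxK g hgx
    have hinter : ∀ n : ℕ, x ^ n ∈ K → x ^ n = 1 := fun n h => by
      by_contra h1
      exact hxK (hC _ h h1 (Subgroup.mem_centralizer_singleton_iff.mpr
        ((Commute.self_pow x n).eq)))
    have hd : orderOf x ∣ Nat.card K := by
      rw [← show orderOf (g * x * g⁻¹) = orderOf x from
        orderOf_injective (MulAut.conj g).toMonoidHom (MulAut.conj g).injective x,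
        ← Subgroup.orderOf_mk (H := K) _ hgx]
      exact orderOf_dvd_natCard _
    have hx1 : orderOf x ≠ 1 := fun h => hxK (orderOf_eq_one_iff.mp h ▸ K.one_mem)
    obtain ⟨r, hr, hrd⟩ := Nat.exists_prime_and_dvd hx1
    haveI := Fact.mk hr
    set y := x ^ (orderOf x / r) with hy
    have hyo : orderOf y = r := orderOf_pow_orderOf_div (orderOf_pos x).ne' hrd
    have hyK : y ∉ K := fun h => by
      have := hinter _ h
      rw [← hy] at this
      rw [this, orderOf_one] at hyo
      exact hr.ne_one hyo.symm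
    have hyN : Subgroup.zpowers y ≤ N := Subgroup.zpowers_le.mpr (N.pow_mem hx _)
    letI act : MulAction (Subgroup.zpowers y) K :=
      { smul := fun a k => ⟨(a : G) * k * (a : G)⁻¹, ((hyN a.2) k).mp k.2⟩
        one_smul := fun k => Subtype.ext (by show (1 : G) * k * (1 : G)⁻¹ = k; simp)
        mul_smul := fun a b k => Subtype.ext (by
          show ((a : G) * b) * k * ((a : G) * b)⁻¹ = (a : G) * ((b : G) * k * (b : G)⁻¹) * (a : G)⁻¹
          group) }
    have hP : IsPGroup r (Subgroup.zpowers y) :=
      IsPGroup.of_card (n := 1) (by rw [Nat.card_zpowers, hyo, pow_one])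
    have hmod := hP.card_modEq_card_fixedPoints K
    have hfix : Nat.card (MulAction.fixedPoints (Subgroup.zpowers y) K) = 1 := by
      rw [Nat.card_eq_one_iff_unique]
      refine ⟨⟨fun a b => ?_⟩, ⟨⟨1, fun a => Subtype.ext (by show (a : G) * 1 * (a : G)⁻¹ = 1; simp)⟩⟩⟩
      have key : ∀ a : MulAction.fixedPoints (Subgroup.zpowers y) K, (a.1 : G) = 1 := fun a => by
        by_contra ha
        have e : y * (a.1 : G) * y⁻¹ = a.1 :=
          congrArg Subtype.val (a.2 ⟨y, Subgroup.mem_zpowers y⟩)
        exact hyK (hC _ a.1.2 ha (Subgroup.mem_centralizer_singleton_iff.mpr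
          (mul_inv_eq_iff_eq_mul.mp e)))
      exact Subtype.ext (Subtype.ext ((key a).trans (key b).symm))
    rw [hfix, Nat.ModEq, Nat.mod_eq_of_lt hr.one_lt,
      Nat.mod_eq_zero_of_dvd (hrd.trans hd)] at hmod
    exact zero_ne_one hmod
  refine ⟨h1, fun ϑ hϑ hK h0 x => ?_⟩
  by_cases hx : (x : G) ∈ K
  · by_cases hx1 : (x : G) = 1
    · obtain rfl : x = 1 := Subtype.ext hx1
      rw [OneMemClass.coe_one, indFun_apply_one, h0, mul_zero]
    · exact indFun_eq_of_TI N (K : Set G) (fun g hg t ht ht1 h => ht1 (hTI g hg t ht h)) hϑ hK x hx hx1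
  · rw [hK x hx]
    simp only [indFun]
    rw [Finset.sum_eq_zero fun g _ => ?_, mul_zero]
    by_cases hm : g⁻¹ * (x : G) * g ∈ N
    · rw [extendByZero_of_mem _ _ hm]
      exact hK _ fun h => h1 x x.2 hx g⁻¹ (by simpa using h)
    · exact extendByZero_of_notMem _ _ hm

end Cfsg.Agent.S0850
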