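import Cfsg.Statements.S1528
import Cfsg.Agent.Lib.Char.FixedChar
-- import your own Cfsg.Agent.* helpers here

set_option autoImplicit false
open Cfsg

namespace Cfsg.Agent.S1528

set_option linter.style.haveILetI false
open Cfsg Cfsg.Lib.Char


/-- Let N be a normal subgroup of the finite group G such that every element of G commuting with a non-identity element of N lies in N. If χ is an irreducible character of G with χ n ≠ χ 1 for some n ∈ N, then χ is the function induced from some irreducible character of N. -/
theorem result {G : Type*} [Group G] [Fintype G] (N : Subgroup G) [N.Normal] (hC : ∀ n ∈ N, n ≠ 1 → Subgroup.centralizer ({n} : Set G) ≤ N) (χ : G → ℂ) (hχ : Cfsg.IsIrrCharacter G χ) (hker : ∃ n ∈ N, χ n ≠ χ 1) : ∃ φ : N → ℂ, Cfsg.IsIrrCharacter N φ ∧ χ = Cfsg.indFun N φ := by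
  haveI := Fintype.ofFinite N
  obtain ⟨φ, hφ⟩ := exists_irr_constituent_res N hχ
  by_cases h1 : (φ : N → ℂ) = fun _ => 1
  · exfalso
    obtain ⟨n, hn, hne⟩ := hker
    have hinv : ∀ g, conjTwist N (φ : N → ℂ) g = φ := by
      intro g; rw [h1]; rfl
    have h := clifford_invariant N hχ φ.2 hinv hφ
    have e1 := congrFun h ⟨n, hn⟩
    have e2 := congrFun h 1
    simp only [Pi.smul_apply, h1] at e1 e2
    rw [OneMemClass.coe_one] at e2
    exact hne (e1.trans e2.symm)
  · refine ⟨φ, φ.2, ?_⟩
    have hI := inertia_eq_of_centralizer_le N hC φ.2 h1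
    have hirr := isIrrCharacter_indFun_of_inertia N φ.2 hI
    by_contra hne
    have h0 := classInner_irr_ne hirr hχ fun e => hne e.symm
    rw [classInner_indFun N (φ : N → ℂ) hχ.isClassFunction, ← classInner_conj_symm] at h0
    exact hφ ((map_eq_zero _).mp h0)

end Cfsg.Agent.S1528
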