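import Cfsg.Statements.S1514
import Cfsg.Agent.Lib.Char.SignedIrr
import Cfsg.Agent.Lib.Char.Coherence

set_option autoImplicit false
open Cfsg Cfsg.Lib.Char
open scoped ComplexConjugate

namespace Cfsg.Agent.S1514

/-- Let S be a nonempty set of irreducible characters of the finite group L, closed under complex conjugation and containing no real-valued member, and τ a linear isometry on the integer combinations of S vanishing at 1, with values virtual characters of G vanishing at 1. Then there is a choice R making (S, τ, R) a coherence system. -/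
theorem result {L : Type*} [Group L] [Fintype L] {G : Type*} [Group G] [Fintype G] (S : Set (L → ℂ)) (hS : S.Nonempty) (hirr : ∀ χ ∈ S, Cfsg.IsIrrCharacter L χ) (hconj : ∀ χ ∈ S, Cfsg.conjFun χ ∈ S ∧ Cfsg.conjFun χ ≠ χ) (τ : (L → ℂ) → (G → ℂ)) (hτ : Cfsg.IsLinearIsometryOn (Cfsg.zspanOn S {1}ᶜ) τ) (hτ1 : ∀ α ∈ Cfsg.zspanOn S {1}ᶜ, τ α 1 = 0) : ∃ R : (L → ℂ) → Finset (G → ℂ), Cfsg.IsCoherenceSystem S τ R := by
  classical
  have horth : ∀ χ ∈ S, ∀ φ ∈ S, χ ≠ φ → classInner χ φ = 0 := fun χ hχ φ hφ h =>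
    classInner_irr_ne (hirr χ hχ) (hirr φ hφ) h
  have hmem : ∀ χ ∈ S, χ - conjFun χ ∈ zspanOn S ({1}ᶜ : Set L) := fun χ hχ => by
    refine mem_zspanOn_one.mpr ⟨zspan_sub (mem_zspan_self hχ) (mem_zspan_self (hconj χ hχ).1), ?_⟩
    obtain ⟨d, -, hd⟩ := (hirr χ hχ).exists_degree
    simp [conjFun, hd]
  have h : ∀ χ : L → ℂ, ∃ μ ν : IrrCharacter G,
      χ ∈ S → μ ≠ ν ∧ τ (χ - conjFun χ) = (μ : G → ℂ) - (ν : G → ℂ) := fun χ => by
    by_cases hχ : χ ∈ S
    · have h1 := hconj χ hχ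
      obtain ⟨μ, ν, hne, e⟩ := exists_irr_sub_of_norm_two (hτ.2.2.2 _ (hmem χ hχ))
        (hτ1 _ (hmem χ hχ)) (by
          rw [hτ.2.2.1 _ (hmem χ hχ) _ (hmem χ hχ), classInner_sub_left, classInner_sub_right,
            classInner_sub_right, classInner_irr_self (hirr χ hχ),
            classInner_irr_self (hirr _ h1.1), horth χ hχ _ h1.1 (Ne.symm h1.2),
            horth _ h1.1 χ hχ h1.2]
          ring)
      exact ⟨μ, ν, fun _ => ⟨hne, e⟩⟩
    · exact ⟨⟨_, isIrrCharacter_one⟩, ⟨_, isIrrCharacter_one⟩, fun h => absurd h hχ⟩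
  choose μ ν hμν using h
  have hneg : ∀ a b : IrrCharacter G, (a : G → ℂ) ≠ -(b : G → ℂ) := fun a b e => by
    obtain ⟨x, hx0, hx⟩ := a.2.exists_degree
    obtain ⟨y, hy0, hy⟩ := b.2.exists_degree
    have h1 := congrFun e 1
    rw [Pi.neg_apply, hx, hy, eq_neg_iff_add_eq_zero, ← Nat.cast_add, Nat.cast_eq_zero] at h1
    omega
  refine ⟨fun χ => {(μ χ : G → ℂ), -(ν χ : G → ℂ)}, hS, fun χ hχ => (hirr χ hχ).isCharacter,
    fun χ hχ => (hconj χ hχ).1, fun χ hχ => (hconj χ hχ).2, hτ, hτ1, horth, ?_, ?_, ?_, ?_⟩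
  · intro χ hχ a ha b hb
    have hne' : (μ χ : G → ℂ) ≠ ν χ := fun e => (hμν χ hχ).1 (Subtype.ext e)
    simp only [Finset.mem_insert, Finset.mem_singleton] at ha hb
    rcases ha with rfl | rfl <;> rcases hb with rfl | rfl
    · rw [if_pos rfl, classInner_irr_self (μ χ).2]
    · rw [if_neg (hneg _ _), classInner_neg_right, classInner_irr_ne (μ χ).2 (ν χ).2 hne', neg_zero]
    · rw [if_neg (hneg _ _).symm, classInner_neg_left,
        classInner_irr_ne (ν χ).2 (μ χ).2 hne'.symm, neg_zero]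
    · rw [if_pos rfl, classInner_neg_left, classInner_neg_right, neg_neg,
        classInner_irr_self (ν χ).2]
  · intro χ hχ a ha
    simp only [Finset.mem_insert, Finset.mem_singleton] at ha
    rcases ha with rfl | rfl
    · exact (μ χ).2.isGeneralized
    · simpa using (ν χ).2.isGeneralized.intCast_smul (-1)
  · intro χ hχ
    rw [Finset.sum_pair (hneg _ _), (hμν χ hχ).2, sub_eq_add_neg]
  · intro χ hχ φ hφ h1 h2 a ha b hb
    obtain ⟨hne1, e1⟩ := hμν φ hφ
    obtain ⟨hne2, e2⟩ := hμν χ hχ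
    have hφc := (hconj φ hφ).1
    have hχc := (hconj χ hχ).1
    have n1 : φ ≠ χ := fun e => by
      subst e; rw [classInner_irr_self (hirr _ hφ)] at h1; exact one_ne_zero h1
    have n2 : φ ≠ conjFun χ := fun e => by
      subst e; rw [classInner_irr_self (hirr _ hφ)] at h2; exact one_ne_zero h2
    have h0 : classInner ((1 : ℂ) • (μ φ : G → ℂ) - (1 : ℂ) • (ν φ : G → ℂ))
        ((1 : ℂ) • (μ χ : G → ℂ) - (1 : ℂ) • (ν χ : G → ℂ)) = 0 := by
      rw [one_smul, one_smul, one_smul, one_smul, ← e1, ← e2,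
        hτ.2.2.1 _ (hmem φ hφ) _ (hmem χ hχ), classInner_sub_left, classInner_sub_right,
        classInner_sub_right, h1, h2,
        horth _ hφc χ hχ (fun e => n2 (by rw [← e, conjFun_conjFun])),
        horth _ hφc _ hχc (fun e => n1 (by rw [← conjFun_conjFun φ, e, conjFun_conjFun]))]
      ring
    have hv : ∀ ξ ∈ S, (1 : ℂ) * (μ ξ : G → ℂ) 1 = (1 : ℂ) * (ν ξ : G → ℂ) 1 := fun ξ hξ => by
      have := hτ1 _ (hmem ξ hξ)
      rw [(hμν ξ hξ).2, Pi.sub_apply, sub_eq_zero] at this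
      rw [this]
    obtain ⟨d1, d2, d3, d4⟩ := irr_pairs_disjoint (μ φ).2 (ν φ).2 (μ χ).2 (ν χ).2
      (fun e => hne1 (Subtype.ext e)) (fun e => hne2 (Subtype.ext e))
      (p := 1) (q := 1) (u := 1) (v := 1) one_ne_zero one_ne_zero one_ne_zero one_ne_zero
      (by simpa using hv φ hφ) (by simpa using hv χ hχ) (by simpa using h0)
    simp only [Finset.mem_insert, Finset.mem_singleton] at ha hb
    rcases ha with rfl | rfl <;> rcases hb with rfl | rfl <;>
      simp [classInner_neg_left, classInner_neg_right, classInner_irr_ne (μ φ).2 (μ χ).2 d1,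
        classInner_irr_ne (μ φ).2 (ν χ).2 d2, classInner_irr_ne (ν φ).2 (μ χ).2 d3,
        classInner_irr_ne (ν φ).2 (ν χ).2 d4]

end Cfsg.Agent.S1514
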