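import Cfsg.Statements.S1523
import Cfsg.Agent.Lib.Char.Formulas
import Cfsg.Agent.Lib.Char.Central
import Mathlib.GroupTheory.Sylow

set_option autoImplicit false
set_option linter.style.haveILetI false
open Cfsg Cfsg.Lib.Char

namespace Cfsg.Agent.S1523

theorem free_sum {G : Type*} [Group G] [Finite G] (P : Subgroup G) (f : G × G → ℂ)
    (hf : ∀ q, IsIntegral ℤ (f q))
    (hinv : ∀ y ∈ P, ∀ q, f (y * q.1 * y⁻¹, y * q.2 * y⁻¹) = f q) :
    ∀ (m : ℕ) (s : Finset (G × G)), s.card = m →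
      (∀ y ∈ P, ∀ q ∈ s, (y * q.1 * y⁻¹, y * q.2 * y⁻¹) ∈ s) →
      (∀ y ∈ P, ∀ q ∈ s, (y * q.1 * y⁻¹, y * q.2 * y⁻¹) = q → y = 1) →
      ∃ W : ℂ, IsIntegral ℤ W ∧ ∑ q ∈ s, f q = (Nat.card P : ℂ) * W := by
  classical
  haveI := Fintype.ofFinite P
  intro m
  induction m using Nat.strong_induction_on with
  | _ m IH =>
  intro s hm hs hfree
  rcases s.eq_empty_or_nonempty with rfl | ⟨q, hq⟩
  · exact ⟨0, isIntegral_zero, by simp⟩
  let φ : P → G × G := fun y => ((y : G) * q.1 * (y : G)⁻¹, (y : G) * q.2 * (y : G)⁻¹)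
  have hφ : Function.Injective φ := by
    intro a b h
    have h1 : (a : G) * q.1 * (a : G)⁻¹ = b * q.1 * (b : G)⁻¹ := congrArg Prod.fst h
    have h2 : (a : G) * q.2 * (a : G)⁻¹ = b * q.2 * (b : G)⁻¹ := congrArg Prod.snd h
    have h3 := hfree ((b : G)⁻¹ * a) (P.mul_mem (P.inv_mem b.2) a.2) q hq (Prod.ext
      (show (b : G)⁻¹ * a * q.1 * ((b : G)⁻¹ * a)⁻¹ = q.1 by
        calc _ = (b : G)⁻¹ * ((a : G) * q.1 * (a : G)⁻¹) * b := by group
          _ = q.1 := by rw [h1]; group)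
      (show (b : G)⁻¹ * a * q.2 * ((b : G)⁻¹ * a)⁻¹ = q.2 by
        calc _ = (b : G)⁻¹ * ((a : G) * q.2 * (a : G)⁻¹) * b := by group
          _ = q.2 := by rw [h2]; group))
    exact Subtype.ext (inv_mul_eq_one.mp h3).symm
  set O := Finset.univ.image φ with hO
  have hOs : O ⊆ s := by
    intro x hx
    obtain ⟨y, -, rfl⟩ := Finset.mem_image.mp hx
    exact hs y y.2 q hq
  have hlt : (s \ O).card < m := by
    rw [← hm]
    exact Finset.card_lt_card (Finset.sdiff_ssubset hOs ⟨φ 1, Finset.mem_image_of_mem φ (Finset.mem_univ _)⟩)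
  obtain ⟨W, hW, hWe⟩ := IH _ hlt (s \ O) rfl
    (fun y hy x hx => by
      obtain ⟨hxs, hxO⟩ := Finset.mem_sdiff.mp hx
      refine Finset.mem_sdiff.mpr ⟨hs y hy x hxs, fun h => hxO ?_⟩
      obtain ⟨w, -, hw⟩ := Finset.mem_image.mp h
      refine Finset.mem_image.mpr ⟨⟨y⁻¹ * w, P.mul_mem (P.inv_mem hy) w.2⟩, Finset.mem_univ _, ?_⟩
      have e1 : (w : G) * q.1 * (w : G)⁻¹ = y * x.1 * y⁻¹ := congrArg Prod.fst hw
      have e2 : (w : G) * q.2 * (w : G)⁻¹ = y * x.2 * y⁻¹ := congrArg Prod.snd hw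
      refine Prod.ext ?_ ?_
      · show y⁻¹ * w * q.1 * (y⁻¹ * w)⁻¹ = x.1
        calc _ = y⁻¹ * ((w : G) * q.1 * (w : G)⁻¹) * y := by group
          _ = x.1 := by rw [e1]; group
      · show y⁻¹ * w * q.2 * (y⁻¹ * w)⁻¹ = x.2
        calc _ = y⁻¹ * ((w : G) * q.2 * (w : G)⁻¹) * y := by group
          _ = x.2 := by rw [e2]; group)
    (fun y hy x hx => hfree y hy x (Finset.mem_sdiff.mp hx).1)
  refine ⟨f q + W, (hf q).add hW, ?_⟩
  rw [← Finset.sum_sdiff hOs, hWe, Finset.sum_image hφ.injOn,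
    Finset.sum_congr rfl (g := fun _ => f q) (fun (y : P) _ => hinv (y : G) y.2 q), Finset.sum_const,
    Finset.card_univ, nsmul_eq_mul, ← Nat.card_eq_fintype_card]
  ring

theorem result {G : Type*} [Group G] [Finite G] (p : ℕ) [Fact p.Prime] (P : Sylow p G) (hTI : Cfsg.IsTISubset ((P : Subgroup G) : Set G)) (hodd : Odd (Nat.card (Subgroup.normalizer ((P : Subgroup G) : Set G)))) (Z : Subgroup G) (hZ1 : Z ≠ ⊥) (hZP : Z ≤ P) (hZn : ∀ x ∈ Subgroup.normalizer ((P : Subgroup G) : Set G), ∀ z ∈ Z, x * z * x⁻¹ ∈ Z) (hZc : ∀ z ∈ Z, ∀ y ∈ (P : Subgroup G), z * y = y * z) (hCL : ∀ z ∈ Z, ∀ z' ∈ Z, z ≠ 1 → z' ≠ 1 → Nat.card ↥(Subgroup.normalizer ((P : Subgroup G) : Set G) ⊓ Subgroup.centralizer ({z} : Set G)) = Nat.card ↥(Subgroup.normalizer ((P : Subgroup G) : Set G) ⊓ Subgroup.centralizer ({z'} : Set G))) (ψ : G → ℂ) (hψ : Cfsg.IsIrrCharacter G ψ) (hconst : ∀ z ∈ Z, ∀ z' ∈ Z, z ≠ 1 → z' ≠ 1 → ψ z = ψ z') (z : G) (hz : z ∈ Z) (hz1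 : z ≠ 1) : ∃ n d : ℤ, ψ z = n ∧ ψ 1 = d ∧ (Nat.card (P : Subgroup G) : ℤ) ∣ d - n := by
  classical
  have hp : p.Prime := Fact.out
  haveI := Fintype.ofFinite G
  haveI := Fintype.ofFinite Z
  set L := Subgroup.normalizer ((P : Subgroup G) : Set G) with hLdef
  obtain ⟨d, hd0, hd⟩ := hψ.exists_degree
  -- the value on `Z` is an integer
  obtain ⟨r, hr⟩ := (hψ.isCharacter.comp Z.subtype).exists_nat_classInner
    isIrrCharacter_one.isCharacter
  have hZ2 : 2 ≤ Nat.card Z := (Subgroup.one_lt_card_iff_ne_bot Z).mpr hZ1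
  have hψz : ψ z * ((Nat.card Z : ℂ) - 1) = (Nat.card Z : ℂ) * r - d := by
    rw [classInner_one_right, inv_mul_eq_iff_eq_mul₀ card_cast_ne_zero] at hr
    have h1 : ∀ x : Z, ψ x = ψ z + if x = 1 then (d : ℂ) - ψ z else 0 := by
      intro x
      by_cases hx : x = 1
      · subst hx; rw [if_pos rfl, OneMemClass.coe_one, hd]; ring
      · rw [if_neg hx, add_zero]
        exact hconst x x.2 z hz (fun e => hx (Subtype.ext e)) hz1
    simp only [Subgroup.subtype_apply] at hr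
    rw [Finset.sum_congr rfl (g := fun x : Z => ψ z + if x = 1 then (d : ℂ) - ψ z else 0)
      (fun x _ => h1 x), Finset.sum_add_distrib, Finset.sum_const, Finset.card_univ, nsmul_eq_mul,
      Finset.sum_ite_eq', if_pos (Finset.mem_univ _), ← Nat.card_eq_fintype_card] at hr
    linear_combination hr
  obtain ⟨n, hn⟩ : ∃ n : ℤ, ψ z = n := by
    have hint := hψ.isCharacter.isIntegral z
    have hne : ((Nat.card Z : ℂ) - 1) ≠ 0 := sub_ne_zero.mpr (by exact_mod_cast (show Nat.card Z ≠ 1 by omega))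
    have hq : ψ z = ((((Nat.card Z : ℚ) * r - d) / ((Nat.card Z : ℚ) - 1) : ℚ) : ℂ) := by
      push_cast
      rw [eq_div_iff hne, hψz]
    rw [hq] at hint
    obtain ⟨n, hn⟩ := exists_int_of_isIntegral_rat hint
    exact ⟨n, by rw [hq, hn]; simp⟩
  refine ⟨n, d, hn, by rw [hd]; simp, ?_⟩
  have hval : ∀ w ∈ Z, w ≠ 1 → ψ w = n := fun w hw hw1 => (hconst w hw z hz hw1 hz1).trans hn
  -- fusion facts
  have hTI' : ∀ g : G, ∀ x ∈ (P : Subgroup G), x ≠ 1 → g * x * g⁻¹ ∈ (P : Subgroup G) → g ∈ L := by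
    intro g x hx hx1 h
    by_contra hg
    exact hx1 (hTI g hg x hx h)
  have hzinv : ∀ g : G, g * z * g⁻¹ ≠ z⁻¹ := by
    intro g h
    have hgL : g ∈ L := hTI' g z (hZP hz) hz1 (by rw [h]; exact (P : Subgroup G).inv_mem (hZP hz))
    have h2 : Commute (g ^ 2) z := by
      show g ^ 2 * z = z * g ^ 2
      calc g ^ 2 * z = g * (g * z * g⁻¹) * g⁻¹ * g ^ 2 := by rw [pow_two]; group
        _ = g * z⁻¹ * g⁻¹ * g ^ 2 := by rw [h]
        _ = (g * z * g⁻¹)⁻¹ * g ^ 2 := by group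
        _ = z * g ^ 2 := by rw [h, inv_inv]
    obtain ⟨k, hk⟩ := hodd
    have hgk : (g ^ 2) ^ (k + 1) = g := by
      have h3 : g ^ Nat.card L = 1 := congrArg Subtype.val (pow_card_eq_one' (x := (⟨g, hgL⟩ : L)))
      rw [← pow_mul, show 2 * (k + 1) = Nat.card L + 1 by omega, pow_succ, h3, one_mul]
    have h4 : Commute g z := hgk ▸ h2.pow_left (k + 1)
    rw [h4.eq, mul_inv_cancel_right] at h
    have h5 : z ^ 2 = 1 := by rw [pow_two]; nth_rewrite 1 [h]; exact inv_mul_cancel z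
    have h6 : orderOf z ∣ Nat.card L :=
      Subgroup.orderOf_dvd_natCard L (Subgroup.le_normalizer (hZP hz))
    have h7 : orderOf z ∣ 2 := orderOf_dvd_of_pow_eq_one h5
    rcases (Nat.dvd_prime Nat.prime_two).mp h7 with h8 | h8
    · exact hz1 (orderOf_eq_one_iff.mp h8)
    · rw [h8] at h6; omega
  have hcent : ∀ w ∈ Z, w ≠ 1 → ∀ g y : G, y ∈ (P : Subgroup G) → y ≠ 1 →
      y * (g * w * g⁻¹) * y⁻¹ = g * w * g⁻¹ → g * w * g⁻¹ ∈ Z := by
    intro w hw hw1 g y hy hy1 h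
    have hu : g⁻¹ * y * g * w * (g⁻¹ * y * g)⁻¹ = w := by
      calc g⁻¹ * y * g * w * (g⁻¹ * y * g)⁻¹ = g⁻¹ * (y * (g * w * g⁻¹) * y⁻¹) * g := by group
        _ = w := by rw [h]; group
    have huL : g⁻¹ * y * g ∈ L := hTI' _ w (hZP hw) hw1 (by rw [hu]; exact hZP hw)
    have hup : IsPGroup p (Subgroup.zpowers (g⁻¹ * y * g)) := by
      obtain ⟨i, hi⟩ := IsPGroup.iff_orderOf.mp P.2 ⟨y, hy⟩
      refine IsPGroup.of_card (n := i) ?_
      rw [Nat.card_zpowers, ← hi, Subgroup.orderOf_mk]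
      rw [← orderOf_injective (MulAut.conj g⁻¹).toMonoidHom (MulAut.conj g⁻¹).injective y]
      simp
    have huP : g⁻¹ * y * g ∈ (P : Subgroup G) := by
      have h1 := hup.to_sup_of_normal_right' P.2 (Subgroup.zpowers_le.mpr huL)
      exact (P.3 h1 le_sup_right).le (Subgroup.mem_sup_left (Subgroup.mem_zpowers _))
    have hgL : g ∈ L := hTI' g _ huP (fun e => hy1 (by
      rw [show y = g * (g⁻¹ * y * g) * g⁻¹ by group, e]; group)) (by
      rw [show g * (g⁻¹ * y * g) * g⁻¹ = y by group]; exact hy)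
    exact hZn g hgL w hw
  have hconjZ : ∀ y ∈ (P : Subgroup G), ∀ w : G, w ∈ Z ↔ y * w * y⁻¹ ∈ Z := fun y hy w =>
    ⟨fun hw => hZn y (Subgroup.le_normalizer hy) w hw, fun hw => by
      simpa [mul_assoc] using hZn y⁻¹ (Subgroup.le_normalizer ((P : Subgroup G).inv_mem hy)) _ hw⟩
  have hcls : ∀ w y : G, ∀ a ∈ classFinset w, y * a * y⁻¹ ∈ classFinset w := fun w y a ha =>
    mem_classFinset.mpr ((mem_classFinset.mp ha).trans (isConj_iff.mpr ⟨y, rfl⟩))
  have hzi : z⁻¹ ∈ Z := Z.inv_mem hz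
  have hzi1 : z⁻¹ ≠ 1 := fun h => hz1 (inv_eq_one.mp h)
  -- the main congruence
  have key : ∀ w ∈ Z, w ≠ 1 → ∃ W : ℂ, IsIntegral ℤ W ∧
      ((classFinset z).card : ℂ) * (classFinset w).card * ψ z * ψ w / d =
        ∑ q ∈ (classFinset z ×ˢ classFinset w).filter (fun q => q.1 ∈ Z ∧ q.2 ∈ Z), ψ (q.1 * q.2) +
          (Nat.card (P : Subgroup G) : ℂ) * W := by
    intro w hw hw1
    obtain ⟨W, hW, hWe⟩ := free_sum (P : Subgroup G) (fun q : G × G => ψ (q.1 * q.2))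
      (fun q => hψ.isCharacter.isIntegral _)
      (fun y _ q => by
        show ψ (y * q.1 * y⁻¹ * (y * q.2 * y⁻¹)) = ψ (q.1 * q.2)
        rw [show y * q.1 * y⁻¹ * (y * q.2 * y⁻¹) = y * (q.1 * q.2) * y⁻¹ by group, hψ.isClassFunction])
      _ ((classFinset z ×ˢ classFinset w).filter fun q => ¬ (q.1 ∈ Z ∧ q.2 ∈ Z)) rfl
      (fun y hy q hq => by
        simp only [Finset.mem_filter, Finset.mem_product] at hq ⊢
        exact ⟨⟨hcls _ _ _ hq.1.1, hcls _ _ _ hq.1.2⟩, fun h =>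
          hq.2 ⟨(hconjZ y hy _).mpr h.1, (hconjZ y hy _).mpr h.2⟩⟩)
      (fun y hy q hq h => by
        simp only [Finset.mem_filter, Finset.mem_product] at hq
        by_contra hy1
        obtain ⟨g, hg⟩ := isConj_iff.mp (mem_classFinset.mp hq.1.1)
        obtain ⟨g', hg'⟩ := isConj_iff.mp (mem_classFinset.mp hq.1.2)
        refine hq.2 ⟨?_, ?_⟩
        · rw [← hg]; exact hcent z hz hz1 g y hy hy1 (by rw [hg]; exact congrArg Prod.fst h)
        · rw [← hg']; exact hcent w hw hw1 g' y hy hy1 (by rw [hg']; exact congrArg Prod.snd h))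
    refine ⟨W, hW, ?_⟩
    rw [← hWe, Finset.sum_filter_add_sum_filter_not, Finset.sum_product]
    have h1 : ∀ g : G, ∑ y ∈ classFinset w, ψ (g * y) = ((classFinset w).card : ℂ) * ψ g * ψ w / d := by
      intro g
      apply mul_left_cancel₀ (card_cast_ne_zero (G := G))
      have h2 : ∑ y ∈ classFinset w, ∑ x : G, ψ (g * (x * y * x⁻¹)) =
          ∑ x : G, ∑ y ∈ classFinset w, ψ (g * y) := by
        rw [Finset.sum_comm]
        refine Finset.sum_congr rfl fun x _ => ?_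
        exact Finset.sum_equiv (MulAut.conj x).toEquiv
          (fun y => ⟨fun h => hcls w x y h, fun h => by
            simpa [mul_assoc] using hcls w x⁻¹ _ h⟩) (fun y _ => rfl)
      rw [Finset.sum_congr rfl (g := fun _ => (Nat.card G : ℂ) * ψ g * ψ w / d) (fun y hy => by
          obtain ⟨c, hc⟩ := isConj_iff.mp (mem_classFinset.mp hy)
          rw [sum_char_mul_conj hψ, hd, ← hc, hψ.isClassFunction]),
        Finset.sum_const, nsmul_eq_mul, Finset.sum_const, Finset.card_univ, nsmul_eq_mul,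
        ← Nat.card_eq_fintype_card] at h2
      rw [← h2]; ring
    rw [Finset.sum_congr rfl fun g _ => h1 g, ← Finset.sum_div, ← Finset.sum_mul, ← Finset.mul_sum,
      sum_classFinset hψ.isClassFunction]
    ring
  set c := ((classFinset z).filter fun a => a ∈ Z).card with hcdef
  -- both classes have the same size
  have hinvc : ∀ a : G, a ∈ classFinset z⁻¹ ↔ a⁻¹ ∈ classFinset z := by
    intro a
    simp only [mem_classFinset, isConj_iff]
    constructor
    · rintro ⟨g, hg⟩; exact ⟨g, by rw [← hg]; group⟩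
    · rintro ⟨g, hg⟩; exact ⟨g, by rw [show a = (g * z * g⁻¹)⁻¹ by rw [hg, inv_inv]]; group⟩
  have hcard' : (classFinset z⁻¹).card = (classFinset z).card :=
    Finset.card_equiv (Equiv.inv G) fun a => hinvc a
  have hprod : ∀ s t : Finset G, (s ×ˢ t).filter (fun q => q.1 ∈ Z ∧ q.2 ∈ Z) =
      (s.filter (· ∈ Z)) ×ˢ (t.filter (· ∈ Z)) := fun s t =>
    (Finset.filter_product (· ∈ Z) (· ∈ Z))
  have hne1 : ∀ a ∈ classFinset z, a ≠ 1 := fun a ha e => by
    obtain ⟨g, hg⟩ := isConj_iff.mp (mem_classFinset.mp ha)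
    rw [e] at hg
    exact hz1 (by simpa [mul_inv_eq_one] using hg)
  obtain ⟨W₁, hW₁, e₁⟩ := key z hz hz1
  obtain ⟨W₂, hW₂, e₂⟩ := key z⁻¹ hzi hzi1
  rw [hprod, Finset.sum_product, Finset.sum_congr rfl (g := fun _ => ∑ _b ∈ (classFinset z).filter (· ∈ Z), (n : ℂ))
    (fun a ha => Finset.sum_congr rfl fun b hb => by
      obtain ⟨ha, haZ⟩ := Finset.mem_filter.mp ha
      obtain ⟨hb, hbZ⟩ := Finset.mem_filter.mp hb
      refine hval _ (Z.mul_mem haZ hbZ) fun e => ?_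
      obtain ⟨g, hg⟩ := isConj_iff.mp (mem_classFinset.mp ha)
      obtain ⟨g', hg'⟩ := isConj_iff.mp (mem_classFinset.mp hb)
      refine hzinv (g⁻¹ * g') ?_
      have e' : g' * z * g'⁻¹ = (g * z * g⁻¹)⁻¹ := by rw [hg, hg']; exact eq_inv_of_mul_eq_one_right e
      calc g⁻¹ * g' * z * (g⁻¹ * g')⁻¹ = g⁻¹ * (g' * z * g'⁻¹) * g := by group
        _ = z⁻¹ := by rw [e']; group)] at e₁
  rw [hprod, Finset.sum_product, Finset.sum_congr rfl (g := fun _ => (d : ℂ) - n +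
      ∑ _b ∈ (classFinset z⁻¹).filter (· ∈ Z), (n : ℂ))
    (fun a ha => by
      obtain ⟨ha, haZ⟩ := Finset.mem_filter.mp ha
      rw [Finset.sum_congr rfl (g := fun b => (n : ℂ) + if b = a⁻¹ then (d : ℂ) - n else 0) fun b hb => by
          obtain ⟨hb, hbZ⟩ := Finset.mem_filter.mp hb
          by_cases hba : b = a⁻¹
          · rw [if_pos hba, hba, mul_inv_cancel, hd]; ring
          · rw [if_neg hba, add_zero]
            exact hval _ (Z.mul_mem haZ hbZ) fun e => hba (eq_inv_of_mul_eq_one_right e),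
        Finset.sum_add_distrib, Finset.sum_ite_eq',
        if_pos (Finset.mem_filter.mpr ⟨(hinvc _).mpr (by rw [inv_inv]; exact ha), Z.inv_mem haZ⟩)]
      ring)] at e₂
  have hc' : ((classFinset z⁻¹).filter fun a => a ∈ Z).card = c :=
    Finset.card_equiv (Equiv.inv G) fun a => by
      simp only [Finset.mem_filter, Equiv.inv_apply, hinvc a, Z.inv_mem_iff]
  rw [hval z⁻¹ hzi hzi1, hcard', hn] at e₂
  rw [hn] at e₁
  simp only [Finset.sum_const, nsmul_eq_mul, hc', ← hcdef] at e₁ e₂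
  have heq : (c : ℂ) * ((d : ℂ) - n) = (Nat.card (P : Subgroup G) : ℂ) * (W₁ - W₂) := by
    linear_combination e₁ - e₂
  have hdvd : (Nat.card (P : Subgroup G) : ℤ) ∣ (c : ℤ) * ((d : ℤ) - n) := by
    have hP0 : (Nat.card (P : Subgroup G) : ℂ) ≠ 0 := card_cast_ne_zero
    have hq : W₁ - W₂ = (((((c : ℚ) * ((d : ℚ) - n)) / (Nat.card (P : Subgroup G) : ℚ)) : ℚ) : ℂ) := by
      push_cast
      rw [eq_div_iff hP0, heq]; ring
    obtain ⟨m, hm⟩ := exists_int_of_isIntegral_rat (hq ▸ hW₁.sub hW₂)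
    rw [div_eq_iff (Nat.cast_ne_zero.mpr Nat.card_pos.ne')] at hm
    refine ⟨m, ?_⟩
    have h : (((c : ℤ) * ((d : ℤ) - n) : ℤ) : ℚ) = (((Nat.card (P : Subgroup G) : ℤ) * m : ℤ) : ℚ) := by
      push_cast; rw [hm]; ring
    exact_mod_cast h
  have hcop : Nat.Coprime (Nat.card (P : Subgroup G)) c := by
    obtain ⟨i, hi⟩ := IsPGroup.iff_card.mp P.2
    rw [hi]
    refine Nat.Coprime.pow_left _ (hp.coprime_iff_not_dvd.mpr fun hpc => ?_)
    obtain ⟨W, hW, hWe⟩ := free_sum (P : Subgroup G) (fun _ : G × G => (1 : ℂ)) (fun _ => isIntegral_one)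
      (fun _ _ _ => rfl) _ (((classFinset z).filter fun a => a ∉ Z) ×ˢ ({1} : Finset G)) rfl
      (fun y hy q hq => by
        simp only [Finset.mem_product, Finset.mem_filter, Finset.mem_singleton] at hq ⊢
        exact ⟨⟨hcls _ _ _ hq.1.1, fun h => hq.1.2 ((hconjZ y hy _).mpr h)⟩, by rw [hq.2]; group⟩)
      (fun y hy q hq h => by
        simp only [Finset.mem_product, Finset.mem_filter] at hq
        by_contra hy1
        obtain ⟨g, hg⟩ := isConj_iff.mp (mem_classFinset.mp hq.1.1)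
        exact hq.1.2 (hg ▸ hcent z hz hz1 g y hy hy1 (by rw [hg]; exact congrArg Prod.fst h)))
    rw [Finset.sum_const, nsmul_eq_mul, mul_one, Finset.card_product, Finset.card_singleton, mul_one, hi] at hWe
    have hint : (p : ℤ) ^ i ∣ ((((classFinset z).filter fun a => a ∉ Z).card : ℕ) : ℤ) := by
      have hq : W = (((((classFinset z).filter fun a => a ∉ Z).card : ℚ) / ((p : ℚ) ^ i)) : ℚ) := by
        push_cast
        rw [hWe]; push_cast
        rw [mul_div_cancel_left₀ _ (pow_ne_zero _ (Nat.cast_ne_zero.mpr hp.ne_zero))]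
      obtain ⟨m, hm⟩ := exists_int_of_isIntegral_rat (hq ▸ hW)
      rw [div_eq_iff (pow_ne_zero _ (Nat.cast_ne_zero.mpr hp.ne_zero))] at hm
      refine ⟨m, ?_⟩
      have h : (((((classFinset z).filter fun a => a ∉ Z).card : ℕ) : ℤ) : ℚ) =
          (((p : ℤ) ^ i * m : ℤ) : ℚ) := by push_cast; rw [hm]; ring
      exact_mod_cast h
    have hi0 : i ≠ 0 := by
      rintro rfl
      rw [pow_zero] at hi
      exact hz1 ((Subgroup.eq_bot_iff_forall _).mp (Subgroup.eq_bot_of_card_eq _ hi) z (hZP hz))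
    have hpu : p ∣ ((classFinset z).filter fun a => a ∉ Z).card :=
      (dvd_pow_self p hi0).trans (by exact_mod_cast hint)
    have hall : p ∣ (classFinset z).card := by
      rw [← Finset.card_filter_add_card_filter_not (fun a => a ∈ Z)]
      exact dvd_add hpc hpu
    rw [card_classFinset] at hall
    refine P.not_dvd_index (hall.trans (Subgroup.index_dvd_of_le fun y hy => ?_))
    exact Subgroup.mem_centralizer_singleton_iff.mpr (hZc z hz y hy).symm
  exact Int.dvd_of_dvd_mul_right_of_gcd_one hdvd (by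
    rw [Int.gcd_natCast_natCast]; exact hcop)

end Cfsg.Agent.S1523
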