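import Cfsg.Statements.S1432
import Cfsg.Agent.Lib.Local.Sigma.KappaStructure

set_option autoImplicit false
open Cfsg

namespace Cfsg.Agent.S1432

open Subgroup Cfsg.Lib Cfsg.Lib.Local Cfsg.Lib.Local.Uniq Cfsg.Lib.Local.Sigma

/-- Let G be a minimal simple group of odd order, M a maximal subgroup, x a non-identity element of M_σ and x' a non-identity element of C_M(x) no prime divisor of whose order lies in σ(M). Then either all prime divisors of the order of x' lie in κ(M) and C_G(x) ≤ M; or all of them lie in τ₂(M), they all lie in σ(L) for a single maximal subgroup L, and C_G(x') ≤ M with M the unique maximal subgroup containing C_G(x'). -/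
theorem result {G : Type*} [Group G] [Finite G] (hG : Cfsg.IsMinSimpleOddOrder G)
    (M : Subgroup G) (hM : IsCoatom M) (x : G) (hx : x ∈ Cfsg.sigmaCore M) (hx1 : x ≠ 1) (x' : G) (hx' : x' ∈ M ⊓ Subgroup.centralizer ({x} : Set G)) (hx'1 : x' ≠ 1)
    (hσ : ∀ p : ℕ, p.Prime → p ∣ orderOf x' → p ∉ Cfsg.sigma M) :
    ((∀ p : ℕ, p.Prime → p ∣ orderOf x' → p ∈ Cfsg.kappa M) ∧ Subgroup.centralizer ({x} : Set G) ≤ M) ∨
      ((∀ p : ℕ, p.Prime → p ∣ orderOf x' → p ∈ Cfsg.tau2 M) ∧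
        (∃ L : Subgroup G, IsCoatom L ∧ ∀ p : ℕ, p.Prime → p ∣ orderOf x' → p ∈ Cfsg.sigma L) ∧
        (Subgroup.centralizer ({x'} : Set G) ≤ M ∧ ∀ L : Subgroup G, IsCoatom L → Subgroup.centralizer ({x'} : Set G) ≤ L → L = M)) := by
  have hx'M : x' ∈ M := hx'.1
  have hxx' : x' * x = x * x' := mem_centralizer_singleton_iff.mp hx'.2
  obtain ⟨E, hE, hxE⟩ := exists_compl_ge hG hM (zpowers_le.mpr hx'M) fun t ht hd =>
    hσ t ht (by rwa [Nat.card_zpowers] at hd)
  replace hxE : x' ∈ E := hxE (mem_zpowers x')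
  have hpart : ∀ p : ℕ, p.Prime → p ∣ orderOf x' → ∃ u ∈ E, u ^ p = 1 ∧ u ≠ 1 ∧ u * x = x * u ∧
      ∀ w, w * x' = x' * w → w * u = u * w := fun p hp hd => by
    have hu : orderOf (x' ^ (orderOf x' / p)) = p := orderOf_pow_orderOf_div (orderOf_pos x').ne' hd
    exact ⟨_, pow_mem hxE _, orderOf_dvd_iff_pow_eq_one.mp (dvd_of_eq hu),
      fun e => hp.ne_one (by rw [← hu, e, orderOf_one]), ((show Commute x' x from hxx').pow_left _).eq,
      fun w hw => ((show Commute w x' from hw).pow_right _).eq⟩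
  have hfix : ∀ {u : G}, u * x = x * u → Cfsg.sigmaCore M ⊓ centralizer ({u} : Set G) ≠ ⊥ := fun hu e =>
    hx1 (mem_bot.mp (e.le (Subgroup.mem_inf.mpr ⟨hx, mem_centralizer_singleton_iff.mpr hu.symm⟩)))
  have hcase : ∀ p : ℕ, p.Prime → p ∣ orderOf x' → p ∈ Cfsg.kappa M ∨ p ∈ Cfsg.tau2 M := fun p hp hd => by
    haveI : Fact p.Prime := ⟨hp⟩
    obtain ⟨u, hu, hup, hu1, hux, -⟩ := hpart p hp hd
    by_cases hr1 : Cfsg.PRankLE p 1 M
    · exact Or.inl (mem_kappa hG (hσ p hp hd) hr1 (hE.le hu) hup hu1 (hfix hux))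
    · exact Or.inr (mem_tau2_of_not_rankLE hG hM (hσ p hp hd) hr1)
  obtain ⟨t, ht, htd⟩ := Nat.exists_prime_and_dvd (n := orderOf x') fun e => hx'1 (orderOf_eq_one_iff.mp e)
  haveI : Fact t.Prime := ⟨ht⟩
  by_cases hall : ∀ p : ℕ, p.Prime → p ∣ orderOf x' → p ∈ Cfsg.kappa M
  · refine Or.inl ⟨hall, ?_⟩
    obtain ⟨q, hq, hqd⟩ := Nat.exists_prime_and_dvd (n := orderOf x) fun e => hx1 (orderOf_eq_one_iff.mp e)
    haveI : Fact q.Prime := ⟨hq⟩
    have hwo : orderOf (x ^ (orderOf x / q)) = q := orderOf_pow_orderOf_div (orderOf_pos x).ne' hqd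
    set w := x ^ (orderOf x / q)
    have hwK : w ∈ Cfsg.sigmaCore M := pow_mem hx _
    have hwq : w ^ q = 1 := orderOf_dvd_iff_pow_eq_one.mp (dvd_of_eq hwo)
    have hw1 : w ≠ 1 := fun e => hq.ne_one (by rw [← hwo, e, orderOf_one])
    have hle : centralizer ({x} : Set G) ≤ centralizer ({w} : Set G) := fun c hc =>
      mem_centralizer_singleton_iff.mpr ((show Commute c x from mem_centralizer_singleton_iff.mp hc).pow_right _).eq
    obtain ⟨u, hu, hut, hu1, hux, -⟩ := hpart t ht htd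
    have hwu : w * u = u * w := ((show Commute x u from hux.symm).pow_left _).eq
    rcases kappa_tau (hall t ht htd) with hτ | hτ
    · exact hle.trans ((Tau1Elem.of_tau1 hM hτ (hE.le hu) hut hu1).unique_centralizer hG hwK hwq hw1 hwu).1
    · obtain ⟨a, s, ha, hτ', hs, hsa, hs1, hseq⟩ :=
        (⟨hE, hτ, hu, hut, hu1, hfix hux⟩ : Fixed3 t M E u).exists_twin hG
      haveI : Fact a.Prime := ⟨ha⟩
      have hws : w * s = s * w := mem_centralizer_singleton_iff.mp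
        (hseq.ge (Subgroup.mem_inf.mpr ⟨hwK, mem_centralizer_singleton_iff.mpr hwu⟩)).2
      exact hle.trans ((Tau1Elem.of_tau1 hM hτ' (hE.le hs) hsa hs1).unique_centralizer hG hwK hwq hw1 hws).1
  push Not at hall
  obtain ⟨a, ha, had, haκ⟩ := hall
  haveI : Fact a.Prime := ⟨ha⟩
  have haτ : a ∈ Cfsg.tau2 M := (hcase a ha had).resolve_left haκ
  obtain ⟨A, hAE, hA⟩ := hE.exists_tau_two hG haτ
  obtain ⟨z, hz, hza, hz1, hzx, hzc⟩ := hpart a ha had
  have hzA : z ∈ A := (hA.compl_structure hG hE hAE).1 z hz hza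
  have hall2 : ∀ p : ℕ, p.Prime → p ∣ orderOf x' → p ∈ Cfsg.tau2 M := fun p hp hd => by
    refine (hcase p hp hd).resolve_left fun hκ => ?_
    haveI : Fact p.Prime := ⟨hp⟩
    obtain ⟨u, hu, hup, hu1, hux, huc⟩ := hpart p hp hd
    rcases kappa_tau hκ with hτ | hτ
    · have huz : u * z = z * u :=
        hzc u (huc x' rfl).symm
      have huA : u ∈ centralizer (A : Set G) := hA.mem_centralizer_of_commute hG hE hAE hzA hz1
        (hA.unique_line hG hzA hz1 hx hx1 hzx.symm) hu (k := 1) (by rw [pow_one]; exact hup) huz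
      refine hx1 (mem_bot.mp ((hA.fixedfree hG).le
        (Subgroup.mem_inf.mpr ⟨hx, mem_centralizer_iff.mpr fun c hc => ?_⟩)))
      exact (mem_centralizer_singleton_iff.mp ((Tau1Elem.of_tau1 hM hτ (hE.le hu) hup hu1).centralizer_le hG
        hA.not_sigma (hA.le hc) (hA.elem.2 c hc) (mem_centralizer_iff.mp huA c hc)
        (Subgroup.mem_inf.mpr ⟨hx, mem_centralizer_singleton_iff.mpr hux.symm⟩))).symm
    · exact (⟨hE, hτ, hu, hup, hu1, hfix hux⟩ : Fixed3 p M E u).not_tau2 hG haτ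
  refine Or.inr ⟨hall2, ?_, (Cfsg.Agent.S1420.result hG M hM E hE.compl).2.2.2 x' hx'M hx'1 hall2
    ⟨hx'M, x, hx, hx1, hxx'⟩⟩
  by_cases hone : ∀ p : ℕ, p.Prime → p ∣ orderOf x' → p = a
  · obtain ⟨T, hAT⟩ := hA.isPGroup.exists_le_sylow
    have hT1 : (T : Subgroup G) ≠ ⊥ := ne_bot_of_le_ne_bot hA.ne_bot hAT
    obtain ⟨L, hL, hNL⟩ := exists_coatom (OddTransitivity.normalizer_ne_top_of hG hT1
      (ne_top_of_isPGroup hG T.isPGroup'))
    have hTL : (T : Subgroup G) ≤ L := Subgroup.le_normalizer.trans hNL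
    refine ⟨L, hL, fun p hp hd => hone p hp hd ▸ ⟨ha, hA.dvd_card.trans (card_dvd_of_le (hAT.trans hTL)),
      T.subtype hTL, ?_⟩⟩
    rw [Sylow.coe_subtype, map_subgroupOf_eq_of_le hTL]; exact hNL
  push Not at hone
  obtain ⟨b, hb, hbd, hba⟩ := hone
  have hab : ∀ T : Sylow a G, IsMulCommutative (T : Subgroup G) := by
    by_contra hne
    push Not at hne
    obtain ⟨T, hT⟩ := hne
    have h2 : b ∈ Cfsg.tau2 M := hall2 b hb hbd
    rw [(Cfsg.Agent.S1419.result hG M hM E hE.compl a haτ (fun S hS => hT (by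
      haveI := hS; exact sylow_abelian_all S T)) A ⟨hAE, hA.elem, hA.card⟩).1] at h2
    exact hba h2
  obtain ⟨P, hAP, hPE, hP, hPi, hPC⟩ := hA.exists_sylow_compl hG hE hA.isPGroup le_rfl hAE
  obtain ⟨T, hPT⟩ := hP.exists_le_sylow
  haveI := hab T
  have hT := hA.eq_sylow hG hAP hP (hPE.trans hE.le) hPi hPC T hPT
  obtain ⟨L, hL, hNL⟩ := exists_coatom (OddTransitivity.normalizer_ne_top_of hG hA.ne_bot
    (ne_top_of_isPGroup hG hA.isPGroup))
  have hNT : normalizer ((T : Subgroup G) : Set G) ≤ L := hT ▸ (hA.normalizer_sylow_le hG hAP hPC).trans hNL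
  have hTL : (T : Subgroup G) ≤ L := Subgroup.le_normalizer.trans hNT
  have hAL : A ≤ L := (hAP.trans hPT).trans hTL
  have haL : a ∈ Cfsg.sigma L := ⟨ha, hA.dvd_card.trans (card_dvd_of_le hAL), T.subtype hTL, by
    rw [Sylow.coe_subtype, map_subgroupOf_eq_of_le hTL]; exact hNT⟩
  refine ⟨L, hL, fun p hp hd => by_contra fun hpL => ?_⟩
  haveI : Fact p.Prime := ⟨hp⟩
  obtain ⟨B, hBE, hB⟩ := hE.exists_tau_two hG (hall2 p hp hd)
  have hBL : B ≤ L := hBE.trans ((hA.compl_structure hG hE hAE).2.trans hNL)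
  obtain ⟨g, hg, hgM⟩ := hA.exists_normalizer hG
  have hB' : Tau2 p L B :=
    ⟨hL, mem_tau2_of_not_rankLE hG hL hpL (not_rankLE_of_elementary hBL hB.elem hB.card.ge), hBL, hB.elem, hB.card⟩
  exact hA.ne_bot (le_bot_iff.mp ((le_inf (le_sigmaCore hG hL haL hAL hA.isPGroup) hA.le).trans
    (hB'.inter hG hM (fun e => hgM (e ▸ hNL hg)) (hBE.trans hE.le)).le))

end Cfsg.Agent.S1432
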