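import Cfsg.Statements.S1378
import Cfsg.Agent.Lib.Local.Sigma.SigmaDisjoint
-- import your own Cfsg.Agent.* helpers here

set_option autoImplicit false
open Cfsg

namespace Cfsg.Agent.S1378

open Subgroup Cfsg.Lib Cfsg.Lib.Local Cfsg.Lib.Local.Uniq Cfsg.Lib.Local.Sigma

/-- Let G be a minimal simple group of odd order. Then every prime dividing the order of G belongs to σ(M) for some maximal subgroup M, and if σ(M) and σ(N) have a prime in common for maximal subgroups M, N then N is conjugate to M; so the sets σ(M_i) over representatives of the conjugacy classes of maximal subgroups partition the prime divisors of #G. -/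
theorem result {G : Type*} [Group G] [Finite G] (hG : Cfsg.IsMinSimpleOddOrder G) :
    (∀ p : ℕ, p.Prime → p ∣ Nat.card G → ∃ M : Subgroup G, IsCoatom M ∧ p ∈ Cfsg.sigma M) ∧
      ∀ M N : Subgroup G, IsCoatom M → IsCoatom N → (Cfsg.sigma M ∩ Cfsg.sigma N).Nonempty → ∃ g : G, N = M.map (MulAut.conj g).toMonoidHom := by
  refine ⟨fun p hp hd => ?_, fun M N hM hN ⟨q, hqM, hqN⟩ => ?_⟩
  · haveI : Fact p.Prime := ⟨hp⟩
    obtain ⟨P⟩ : Nonempty (Sylow p G) := inferInstance
    have hP1 : (P : Subgroup G) ≠ ⊥ := fun e => P.not_dvd_index (by rw [e, index_bot]; exact hd)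
    obtain ⟨L, hL, hNL⟩ := exists_coatom
      (OddTransitivity.normalizer_ne_top_of hG hP1 (ne_top_of_isPGroup hG P.isPGroup'))
    have hPL : (P : Subgroup G) ≤ L := Subgroup.le_normalizer.trans hNL
    refine ⟨L, hL, hp, ?_, P.subtype hPL, ?_⟩
    · exact (dvd_card_of_isPGroup P.isPGroup' hP1 le_rfl).trans (card_dvd_of_le hPL)
    · rw [Sylow.coe_subtype, map_subgroupOf_eq_of_le hPL]
      exact hNL
  · haveI : Fact q.Prime := ⟨hqM.1⟩
    exact sigma_disjoint hG hM hN hqM hqN

end Cfsg.Agent.S1378
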