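import Cfsg.Statements.S3060
import Cfsg.Agent.Lib.Local.DStar
import Cfsg.Agent.Lib.Local.Sylow
import Cfsg.Agent.Lib.Core.Cores
-- import your own Cfsg.Agent.* helpers here

set_option autoImplicit false
open Cfsg

namespace Cfsg.Agent.S3060

/-- The D*-Theorem. For a finite p-group S let D*(S) be the subgroup generated by the abelian subgroups A of S such that every x ∈ S with ⟨A, x⟩ of nilpotency class at most two centralizes A. Let p be an odd prime and H a finite p-stable group with Sylow p-subgroup S. Here H is p-stable in the following sense: the largest normal p-subgroup O_p(H) contains its centralizer in H, and for every normal p-subgroup P of H, every element acting quadratically on P has image in O_p(H/C_H(P)). Then D*(S) is a normal subgroup of H. -/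
theorem result {G : Type*} [Group G] [Finite G] {p : ℕ} [Fact p.Prime] (hp : p ≠ 2)
    (hc : Subgroup.centralizer (Cfsg.pCore p G : Set G) ≤ Cfsg.pCore p G)
    (hst : ∀ (P : Subgroup G) [P.Normal], IsPGroup p P → Cfsg.IsPStableOn p P) (S : Sylow p G) :
    (Cfsg.dStarOf (S : Subgroup G)).Normal := by
  classical
  set D := Cfsg.dStarOf (S : Subgroup G) with hDdef
  set P := Cfsg.pCore p G with hP
  haveI hPn : P.Normal := by rw [hP]; infer_instance
  have hPp : IsPGroup p P := Cfsg.Lib.Core.pCore_isPGroup p G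
  have hPS : P ≤ (S : Subgroup G) := Cfsg.Lib.Core.pCore_le_sylow S
  have hDS : D ≤ (S : Subgroup G) := Subgroup.map_subtype_le _
  let Cl : Subgroup G → Prop := fun M => ⁅⁅M, M⁆, M⁆ = ⊥
  have hClmono : ∀ M N : Subgroup G, M ≤ N → Cl N → Cl M := fun M N hMN h =>
    eq_bot_iff.2 ((Subgroup.commutator_mono (Subgroup.commutator_mono hMN hMN) hMN).trans h.le)
  have hClconj : ∀ (M : Subgroup G) (g : G), Cl M → Cl (M.map (MulAut.conj g).toMonoidHom) := by
    intro M g h
    show ⁅⁅_, _⁆, _⁆ = ⊥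
    rw [← Subgroup.map_commutator, ← Subgroup.map_commutator, h, Subgroup.map_bot]
  -- membership in the family, read inside `G`
  let Fam : Subgroup G → Subgroup G → Prop := fun R A => A ≤ R ∧ (∀ a ∈ A, ∀ b ∈ A, a * b = b * a) ∧
    ∀ x ∈ R, Cl (A ⊔ Subgroup.zpowers x) → ∀ a ∈ A, a * x = x * a
  have toFam : ∀ (R A : Subgroup G), Fam R A → A.subgroupOf R ∈ Cfsg.dStarFamily ↥R := by
    rintro R A ⟨hAR, hab, hcl⟩
    refine ⟨⟨⟨fun a b => Subtype.ext (Subtype.ext (hab _ a.2 _ b.2))⟩⟩, fun x hx a ha => Subtype.ext ?_⟩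
    refine hcl x x.2 ?_ a ha
    have e : (A.subgroupOf R ⊔ Subgroup.zpowers x).map R.subtype = A ⊔ Subgroup.zpowers (x : G) := by
      rw [Subgroup.map_sup, Subgroup.map_subgroupOf_eq_of_le hAR, MonoidHom.map_zpowers]; rfl
    have := congrArg (Subgroup.map R.subtype) hx
    rwa [Subgroup.map_commutator, Subgroup.map_commutator, e, Subgroup.map_bot] at this
  have hDF : Fam (S : Subgroup G) D := by
    obtain ⟨hab, hcl⟩ := Cfsg.Lib.Local.dStar_mem (S.2 : IsPGroup p (S : Subgroup G))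
    refine ⟨hDS, ?_, ?_⟩
    · rintro _ ⟨a, ha, rfl⟩ _ ⟨b, hb, rfl⟩
      exact congrArg (fun t : ↥(Cfsg.dStar ↥(S : Subgroup G)) => ((t : ↥(S : Subgroup G)) : G))
        (hab.is_comm.comm ⟨a, ha⟩ ⟨b, hb⟩)
    · rintro x hx hxc _ ⟨a, ha, rfl⟩
      have e : (Cfsg.dStar ↥(S : Subgroup G) ⊔ Subgroup.zpowers (⟨x, hx⟩ : ↥(S : Subgroup G))).map
          (S : Subgroup G).subtype = D ⊔ Subgroup.zpowers x := by
        rw [Subgroup.map_sup, MonoidHom.map_zpowers]; rfl
      refine congrArg Subtype.val (hcl ⟨x, hx⟩ (Subgroup.map_injective (S : Subgroup G).subtype_injective ?_) a ha)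
      rw [Subgroup.map_commutator, Subgroup.map_commutator, e, Subgroup.map_bot]
      exact hxc
  have hSn : ∀ s ∈ (S : Subgroup G), ∀ d ∈ D, s * d * s⁻¹ ∈ D := by
    rintro s hs _ ⟨d, hd, rfl⟩
    refine ⟨(⟨s, hs⟩ : ↥(S : Subgroup G)) * d * ⟨s, hs⟩⁻¹, ?_, by simp⟩
    refine le_sSup (Cfsg.Lib.Local.dStarFamily_map_conj (Cfsg.Lib.Local.dStar_mem (S.2 : IsPGroup p (S : Subgroup G))) ⟨s, hs⟩) ?_
    exact ⟨d, hd, rfl⟩
  -- the kernel step of stability
  have hstab : ∀ (V : Subgroup G) [V.Normal], IsPGroup p V → ∀ x : G,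
      ⁅⁅V, Subgroup.zpowers x⁆, Subgroup.zpowers x⁆ = ⊥ →
      x ∈ (Cfsg.pCore p (G ⧸ Subgroup.centralizer (V : Set G))).comap (QuotientGroup.mk' _) :=
    fun V _ hV x hx => hst V hV x hx
  haveI hpcn : ∀ (N : Subgroup G) [N.Normal], (Cfsg.pCore p (G ⧸ N)).Normal := fun N _ => inferInstance
  -- `D ≤ O_p(G)`
  have hDP : D ≤ P := by
    intro d hd
    have hq : ⁅⁅P, Subgroup.zpowers d⁆, Subgroup.zpowers d⁆ = ⊥ := by
      have h1 : ⁅P, Subgroup.zpowers d⁆ ≤ D := by
        rw [Subgroup.commutator_le]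
        intro y hy t ht
        have htD : t ∈ D := Subgroup.zpowers_le.2 hd ht
        rw [commutatorElement_def]
        exact D.mul_mem (hSn y (hPS hy) t htD) (D.inv_mem htD)
      rw [eq_bot_iff]
      refine (Subgroup.commutator_mono h1 (Subgroup.zpowers_le.2 hd)).trans ?_
      rw [Subgroup.commutator_le]
      intro a ha b hb
      rw [Subgroup.mem_bot, commutatorElement_eq_one_iff_mul_comm]
      exact hDF.2.1 a ha b hb
    set X := (Cfsg.pCore p (G ⧸ Subgroup.centralizer (P : Set G))).comap (QuotientGroup.mk' _) with hX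
    have hXp : IsPGroup p X := (Cfsg.Lib.Core.pCore_isPGroup p _).comap_of_ker_isPGroup (QuotientGroup.mk' _)
      (by rw [QuotientGroup.ker_mk']; exact hPp.to_le hc)
    exact Cfsg.Lib.Core.le_pCore hXp (hstab P hPp d hq)
  -- the normal closure
  set K := Subgroup.normalClosure (D : Set G) with hK
  have hKP : K ≤ P := Subgroup.normalClosure_le_normal hDP
  have hDFP : ∀ g : G, Fam P (D.map (MulAut.conj g).toMonoidHom) := by
    intro g
    refine ⟨?_, ?_, ?_⟩
    · rintro _ ⟨d, hd, rfl⟩; exact hPn.conj_mem d (hDP hd) g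
    · rintro _ ⟨a, ha, rfl⟩ _ ⟨b, hb, rfl⟩
      rw [← map_mul, hDF.2.1 a ha b hb, map_mul]
    · rintro x hx hxc _ ⟨a, ha, rfl⟩
      have h1 := hDF.2.2 (g⁻¹ * x * g) (hPS (by simpa using hPn.conj_mem x hx g⁻¹)) (by
        have h2 := hClconj _ g⁻¹ hxc
        refine hClmono _ _ ?_ h2
        rw [Subgroup.map_sup, MonoidHom.map_zpowers, Subgroup.map_map]
        refine sup_le_sup (fun y hy => ⟨y, hy, by simp [mul_assoc]⟩) (le_of_eq ?_)
        simp) a ha
      have := congrArg (fun t => g * t * g⁻¹) h1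
      simpa [mul_assoc] using this
  have hKab : IsMulCommutative K := by
    refine Subgroup.isMulCommutative_closure fun x hx y hy => ?_
    obtain ⟨c, hc', hcx⟩ := Group.mem_conjugatesOfSet_iff.mp hx
    obtain ⟨c', hc'', hcy⟩ := Group.mem_conjugatesOfSet_iff.mp hy
    obtain ⟨g, rfl⟩ := isConj_iff.mp hcx
    obtain ⟨g', rfl⟩ := isConj_iff.mp hcy
    have h := Cfsg.Lib.Local.dStarFamily_commute hPp (toFam P _ (hDFP g)) (toFam P _ (hDFP g'))
      (a := ⟨g * c * g⁻¹, hPn.conj_mem c (hDP hc') g⟩) (b := ⟨g' * c' * g'⁻¹, hPn.conj_mem c' (hDP hc'') g'⟩)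
      ⟨c, hc', rfl⟩ ⟨c', hc'', rfl⟩
    exact congrArg Subtype.val h
  have hKF : Fam (S : Subgroup G) K := by
    refine ⟨hKP.trans hPS, fun a ha b hb => congrArg Subtype.val (hKab.is_comm.comm ⟨a, ha⟩ ⟨b, hb⟩), ?_⟩
    intro x hx hxc
    suffices hle : K ≤ Subgroup.centralizer {x} from fun a ha => Subgroup.mem_centralizer_singleton_iff.1 (hle ha)
    rw [hK, Subgroup.normalClosure, Subgroup.closure_le]
    intro y hy
    obtain ⟨d, hd, hdy⟩ := Group.mem_conjugatesOfSet_iff.mp hy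
    obtain ⟨g, rfl⟩ := isConj_iff.mp hdy
    set C := Subgroup.centralizer (K : Set G) with hC
    set X := (Cfsg.pCore p (G ⧸ C)).comap (QuotientGroup.mk' C) with hX
    haveI hXn : X.Normal := (hpcn C).comap _
    have hxX : x ∈ X := by
      refine hstab K (hPp.to_le hKP) x (eq_bot_iff.2 ?_)
      exact (Subgroup.commutator_mono (Subgroup.commutator_mono le_sup_left le_sup_right) le_sup_right).trans hxc.le
    have hXsup : X ≤ ((S : Subgroup G) ⊓ X) ⊔ C := by
      refine Cfsg.Lib.Local.le_inf_sup_of_pow_mem S fun z hz => ?_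
      obtain ⟨k, hk⟩ := Cfsg.Lib.Core.pCore_isPGroup p (G ⧸ C) ⟨_, hz⟩
      exact ⟨k, (QuotientGroup.eq_one_iff _).1 (by simpa using congrArg Subtype.val hk)⟩
    obtain ⟨T, hT⟩ := Cfsg.Lib.Local.exists_sylow_inf S X
    have hfr := Sylow.normalizer_sup_eq_top T
    rw [hT, Subgroup.subgroupOf_map_subtype] at hfr
    set N := Subgroup.normalizer (((S : Subgroup G) ⊓ X : Subgroup G) : Set G) with hN
    have hmem : g ∈ C ⊔ N := by
      have : (⊤ : Subgroup G) ≤ C ⊔ N := by
        rw [← hfr]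
        refine sup_le le_sup_right (hXsup.trans (sup_le ?_ le_sup_left))
        exact le_sup_of_le_right Subgroup.le_normalizer
      exact this (Subgroup.mem_top g)
    obtain ⟨c, hcC, n, hn, rfl⟩ := Subgroup.mem_sup_of_normal_left.1 hmem
    have hdK : n * d * n⁻¹ ∈ K := Subgroup.normalClosure_normal.conj_mem d (Subgroup.le_normalClosure hd) n
    have e : c * n * d * (c * n)⁻¹ = n * d * n⁻¹ := by
      rw [show c * n * d * (c * n)⁻¹ = c * (n * d * n⁻¹) * c⁻¹ by group,
        ← Subgroup.mem_centralizer_iff.1 hcC _ hdK, mul_inv_cancel_right]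
    rw [e]
    have hx' : n⁻¹ * x * n ∈ (S : Subgroup G) := ((Subgroup.mem_normalizer_iff''.1 hn x).1 ⟨hx, hxX⟩).1
    have h1 := hDF.2.2 (n⁻¹ * x * n) hx' (by
      refine hClmono _ _ ?_ (hClconj _ n⁻¹ hxc)
      rw [Subgroup.map_sup, MonoidHom.map_zpowers]
      refine sup_le_sup (fun y hy => ⟨n * y * n⁻¹, Subgroup.normalClosure_normal.conj_mem y (Subgroup.le_normalClosure hy) n, by simp [mul_assoc]⟩) (le_of_eq ?_)
      simp) d hd
    refine Subgroup.mem_centralizer_singleton_iff.2 ?_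
    have := congrArg (fun t => n * t * n⁻¹) h1
    simpa [mul_assoc] using this
  have hKD : K ≤ D := by
    intro k hk
    exact ⟨⟨k, hPS (hKP hk)⟩, le_sSup (toFam _ _ hKF) hk, rfl⟩
  rw [show D = K from le_antisymm Subgroup.le_normalClosure hKD]
  exact Subgroup.normalClosure_normal

end Cfsg.Agent.S3060
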