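import Cfsg.Statements.S1403
import Cfsg.Agent.Lib.Local.Uniq.Main

set_option autoImplicit false
open Cfsg

namespace Cfsg.Agent.S1403

open Cfsg.Lib.Local Subgroup

/-- Let G be a minimal simple group of odd order and K a proper subgroup having an elementary abelian subgroup of order p ^ 2 for some prime p. If K, or its centralizer C_G(K), has an elementary abelian subgroup of order q ^ 3 for some prime q, then K lies in exactly one maximal subgroup of G. -/
theorem result {G : Type*} [Group G] [Finite G] (hG : Cfsg.IsMinSimpleOddOrder G)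
    (K : Subgroup G) (hK : K ≠ ⊤) (hK2 : ¬ Cfsg.RankLE 1 K)
    (hK3 : ¬ Cfsg.RankLE 2 K ∨ ¬ Cfsg.RankLE 2 (Subgroup.centralizer (K : Set G))) :
    Cfsg.InUniqueMaximal K := by
  rcases hK3 with h | h
  · obtain ⟨r, hr, E, hEK, hE, hE3⟩ := OddTransitivity.exists_elementary h
    haveI : Fact r.Prime := ⟨hr⟩
    exact Uniq.unique_of_le (Uniq.unique_three hG hE hE3) hEK hK
  · obtain ⟨r, hr, E, hEK, hE, hE3⟩ := OddTransitivity.exists_elementary h
    haveI : Fact r.Prime := ⟨hr⟩
    obtain ⟨s, hs, F, hFK, hF, hF2⟩ := OddTransitivity.exists_elementary hK2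
    haveI : Fact s.Prime := ⟨hs⟩
    exact Uniq.unique_of_le (Uniq.unique_of_centralizes hG (Uniq.unique_three hG hE hE3) hF hF2
      (hFK.trans (le_centralizer_iff.mp hEK))) hFK hK

end Cfsg.Agent.S1403
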