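import Cfsg.Statements.S1400
import Cfsg.Agent.Lib.Local.Uniq.Connect

set_option autoImplicit false
open Cfsg

namespace Cfsg.Agent.S1400

open Cfsg.Lib.Local Subgroup

/-- Let G be a minimal simple group of odd order, p a prime, A an abelian p-subgroup containing an elementary abelian subgroup of order p ^ 3 and lying in exactly one maximal subgroup, and B a noncyclic p-subgroup whose centralizer contains an elementary abelian subgroup of order p ^ 3. Then B lies in exactly one maximal subgroup of G. -/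
theorem result {G : Type*} [Group G] [Finite G] (hG : Cfsg.IsMinSimpleOddOrder G)
    (p : ℕ) [Fact p.Prime] (A B : Subgroup G) (hAp : IsPGroup p A) (hAc : IsMulCommutative A) (hA3 : ¬ Cfsg.PRankLE p 2 ↥A)
    (hAU : Cfsg.InUniqueMaximal A) (hBp : IsPGroup p B) (hBnc : ¬ IsCyclic B) (hB3 : ¬ Cfsg.PRankLE p 2 ↥(Subgroup.centralizer (B : Set G))) :
    Cfsg.InUniqueMaximal B := by
  haveI := hAc
  obtain ⟨E, hEA, hE, hE3⟩ := Uniq.exists_elementary hA3
  obtain ⟨F, hFC, hF, hF3⟩ := Uniq.exists_elementary hB3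
  have hp2 : p ≠ 2 := by
    refine Uniq.ne_two hG (dvd_trans ?_ (card_subgroup_dvd_card E))
    obtain ⟨i, hi⟩ := IsPGroup.iff_card.mp (Cfsg.Lib.PGroup.isPGroup_of_isElementaryAbelian hE)
    rw [hi] at hE3 ⊢
    exact dvd_pow_self p (by have := (Nat.pow_le_pow_iff_right (Fact.out : p.Prime).one_lt).mp hE3; omega)
  have hEU := Uniq.unique_of_centralizes hG hAU hE ((Nat.pow_le_pow_right (Fact.out : p.Prime).pos (by norm_num)).trans hE3)
    (hEA.trans (le_centralizer_iff_isMulCommutative.mpr inferInstance))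
  have hFU := Uniq.connect_all hG hE hE3 hEU hF hF3
  obtain ⟨W, -, hW, hWc⟩ := Cfsg.Lib.PGroup.Noncyclic.exists_elemAb_sq hp2 hBp ⊤ (fun h => hBnc (by
    haveI := h
    exact isCyclic_of_surjective (topEquiv (G := B)).toMonoidHom (topEquiv (G := B)).surjective))
  have hWU := Uniq.unique_of_centralizes hG hFU (Cfsg.Lib.PGroup.isElementaryAbelian_map hW B.subtype)
    (by rw [card_map_of_injective B.subtype_injective, hWc])
    ((map_subtype_le W).trans (le_centralizer_iff.mp hFC))
  exact Uniq.unique_of_le hWU (map_subtype_le W) (Uniq.ne_top_of_isPGroup hG hBp)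

end Cfsg.Agent.S1400
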