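import Cfsg.Statements.S0093
import Cfsg.Agent.Lib.PGroup.Basic

set_option autoImplicit false
open Cfsg

namespace Cfsg.Agent.S0093

open Subgroup
open scoped commutatorElement

/-- Every finite p-group has a critical subgroup: a characteristic subgroup H whose Frattini subgroup and whose commutator with the whole group lie in the centre of H, and whose centralizer is contained in H. -/
theorem result {P : Type*} [Group P] [Finite P] {p : ℕ} [Fact p.Prime] (hP : IsPGroup p P) : ∃ H : Subgroup P, H.Characteristic ∧ (frattini H).map H.subtype ≤ Subgroup.centralizer (H : Set P) ∧ ⁅H, (⊤ : Subgroup P)⁆ ≤ H ⊓ Subgroup.centralizer (H : Set P) ∧ Subgroup.centralizer (H : Set P) ≤ H := by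
  have hp : p.Prime := Fact.out
  obtain ⟨D, -, ⟨hDchar, hDab⟩, hmax⟩ :=
    (Set.toFinite {A : Subgroup P | A.Characteristic ∧ IsMulCommutative A}).exists_le_maximal
      (a := ⊥) ⟨inferInstance, ⟨⟨fun x y => Subtype.ext (by simp [Subgroup.mem_bot.1 x.2, Subgroup.mem_bot.1 y.2])⟩⟩⟩
  haveI := hDchar
  set f := QuotientGroup.mk' D with hf
  let Ω : Subgroup (P ⧸ D) :=
    { carrier := {y | y ∈ center (P ⧸ D) ∧ y ^ p = 1}
      one_mem' := ⟨one_mem _, one_pow _⟩
      mul_mem' := fun {a b} ha hb => ⟨mul_mem ha.1 hb.1, by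
        have hc : Commute a b := (Subgroup.mem_center_iff.1 ha.1 b).symm
        rw [hc.mul_pow, ha.2, hb.2, one_mul]⟩
      inv_mem' := fun ha => ⟨inv_mem ha.1, by rw [inv_pow, ha.2, inv_one]⟩ }
  set K := Ω.comap f with hK
  have hmemK : ∀ x : P, x ∈ K ↔ (∀ g : P, x * g * x⁻¹ * g⁻¹ ∈ D) ∧ x ^ p ∈ D := by
    intro x
    show (f x ∈ center (P ⧸ D) ∧ f x ^ p = 1) ↔ _
    rw [← map_pow, hf, QuotientGroup.mk'_apply, QuotientGroup.mk'_apply, QuotientGroup.eq_one_iff,
      Subgroup.mem_center_iff]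
    refine and_congr_left' ⟨fun h g => ?_, fun h y => ?_⟩
    · rw [← QuotientGroup.eq_one_iff, QuotientGroup.mk_mul, QuotientGroup.mk_mul, QuotientGroup.mk_mul,
        QuotientGroup.mk_inv, QuotientGroup.mk_inv, ← h g]
      group
    · obtain ⟨g, rfl⟩ := QuotientGroup.mk_surjective y
      have := (QuotientGroup.eq_one_iff _).2 (h g)
      rw [QuotientGroup.mk_mul, QuotientGroup.mk_mul, QuotientGroup.mk_mul, QuotientGroup.mk_inv,
        QuotientGroup.mk_inv, mul_inv_eq_one, mul_inv_eq_iff_eq_mul] at this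
      exact this.symm
  haveI hKchar : K.Characteristic := by
    refine characteristic_iff_le_comap.2 fun φ x hx => ?_
    rw [hmemK] at hx
    rw [mem_comap, hmemK]
    have hφ : ∀ d ∈ D, φ d ∈ D := fun d hd => (characteristic_iff_le_comap.1 hDchar φ) hd
    refine ⟨fun g => ?_, ?_⟩
    · obtain ⟨g, rfl⟩ := φ.surjective g
      simpa using hφ _ (hx.1 g)
    · simpa using hφ _ hx.2
  set C := centralizer (D : Set P) with hC
  set H := C ⊓ K with hH
  haveI : C.Characteristic := inferInstance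
  haveI hHchar : H.Characteristic := inferInstance
  have hDH : D ≤ H := by
    refine le_inf (fun d hd => ?_) fun d hd => ?_
    · exact mem_centralizer_iff.2 fun e he =>
        congrArg Subtype.val (hDab.is_comm.comm ⟨e, he⟩ ⟨d, hd⟩)
    · rw [hmemK]
      refine ⟨fun g => ?_, pow_mem hd p⟩
      rw [mul_assoc (d * g), mul_assoc d, ← mul_assoc g]
      exact mul_mem hd ((inferInstance : D.Normal).conj_mem _ (inv_mem hd) g)
  have hDcent : D ≤ centralizer (H : Set P) := fun d hd =>
    mem_centralizer_iff.2 fun h hh => ((mem_centralizer_iff.1 hh.1) d hd).symm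
  have hcomm : ⁅H, (⊤ : Subgroup P)⁆ ≤ D :=
    commutator_le.2 fun x hx g _ => ((hmemK x).1 hx.2).1 g
  refine ⟨H, hHchar, ?_, hcomm.trans (le_inf hDH hDcent), ?_⟩
  · refine le_trans ?_ hDcent
    rw [map_le_iff_le_comap]
    refine Cfsg.Lib.PGroup.frattini_le_of_commutator_le_of_pow_mem (p := p) ?_
      fun x => ((hmemK x).1 x.2.2).2
    rw [commutator_def, commutator_le]
    exact fun x _ y _ => ((hmemK x).1 x.2.2).1 y
  -- the centre of `H` is `D`
  have hZ : H ⊓ centralizer (H : Set P) = D := by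
    refine le_antisymm (hmax ⟨inferInstance, ⟨⟨fun x y => Subtype.ext ?_⟩⟩⟩ (le_inf hDH hDcent))
      (le_inf hDH hDcent)
    exact (mem_centralizer_iff.1 x.2.2 y y.2.1).symm
  set Q := centralizer (H : Set P) with hQ
  intro q hq
  by_contra hqH
  haveI : Q.Normal := inferInstance
  haveI : (Q.map f).Normal := Subgroup.Normal.map inferInstance f (QuotientGroup.mk'_surjective D)
  have hne : Q.map f ≠ ⊥ := by
    intro h
    rw [Subgroup.map_eq_bot_iff, hf, QuotientGroup.ker_mk'] at h
    exact hqH (hDH (h hq))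
  obtain ⟨z, hzQ, hzc, hz⟩ :=
    Cfsg.Lib.PGroup.exists_mem_center_orderOf_eq (hP.to_quotient D) hne
  obtain ⟨x, hx, rfl⟩ := hzQ
  have hxK : x ∈ K := ⟨hzc, by rw [← hz]; exact pow_orderOf_eq_one _⟩
  have hxC : x ∈ C := centralizer_le (by exact_mod_cast hDH) hx
  have hxD : x ∈ D := hZ ▸ mem_inf.2 ⟨⟨hxC, hxK⟩, hx⟩
  rw [hf, QuotientGroup.mk'_apply, (QuotientGroup.eq_one_iff x).2 hxD, orderOf_one] at hz
  exact hp.one_lt.ne hz

end Cfsg.Agent.S0093
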