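import Cfsg.Statements.S0096
import Cfsg.Agent.Lib.PGroup.ClassTwo
import Mathlib.Data.Nat.Choose.Dvd

set_option autoImplicit false
set_option linter.style.haveILetI false
open Cfsg

namespace Cfsg.Agent.S0096

theorem pow_closure {P : Type*} [Group P] {p : ℕ} (hp : p.Prime) (hp2 : p ≠ 2)
    (hc : commutator P ≤ Subgroup.center P) {g : P}
    (hg : g ∈ Subgroup.closure {x : P | x ^ p = 1}) : g ^ p = 1 := by
  induction hg using Subgroup.closure_induction with
  | mem x hx => exact hx
  | one => exact one_pow p
  | mul x y _ _ hx hy =>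
    obtain ⟨c, hcc⟩ := hp.dvd_choose_self (k := 2) two_ne_zero (lt_of_le_of_ne hp.two_le (Ne.symm hp2))
    rw [Cfsg.Lib.PGroup.mul_pow_of_class_two hc, hx, hy, hcc, pow_mul,
      ← Cfsg.Lib.PGroup.commutatorElement_pow_left hc, hy, commutatorElement_one_left, one_pow]
    simp
  | inv x _ hx => rw [inv_pow, hx, inv_one]

/-- For odd p, in a p-group of class at most two the elements of order dividing p generate a subgroup of exponent dividing p. -/
theorem result {P : Type*} [Group P] [Finite P] {p : ℕ} [Fact p.Prime] (hp : p ≠ 2) (hP : IsPGroup p P) (h2 : ⁅commutator P, (⊤ : Subgroup P)⁆ = ⊥) (g : P) (hg : g ∈ Subgroup.closure {x : P | x ^ p = 1}) : g ^ p = 1 := by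
  exact pow_closure (Fact.out : p.Prime) hp
    (Subgroup.commutator_top_right_eq_bot_iff_le_center.mp h2) hg

end Cfsg.Agent.S0096
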