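import Cfsg.Statements.S0120
import Cfsg.Agent.Lib.PGroup.OddOmega
import Mathlib.GroupTheory.SemidirectProduct

set_option autoImplicit false
set_option linter.style.haveILetI false
open Cfsg

namespace Cfsg.Agent.S0120

/-- For odd p, a p'-automorphism of a p-group acting trivially on the elements of order dividing p is trivial. -/
theorem result {G : Type*} [Group G] [Finite G] {p : ℕ} [Fact p.Prime] (hp : p ≠ 2) (hG : IsPGroup p G) (a : MulAut G) (ha : Nat.Coprime (orderOf a) p) (h : ∀ x : G, x ^ p = 1 → a x = x) : a = 1 := by
  classical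
  let T := Subgroup.zpowers a
  let X := SemidirectProduct G T T.subtype
  haveI : Finite (MulAut G) := Finite.of_injective (fun f => (f : G → G)) DFunLike.coe_injective
  haveI : Finite X := Finite.of_equiv _ SemidirectProduct.equivProd.symm
  let P : Subgroup X := (SemidirectProduct.inl : G →* X).range
  let A : Subgroup X := (SemidirectProduct.inr : T →* X).range
  have hP : IsPGroup p P := hG.of_surjective (SemidirectProduct.inl : G →* X).rangeRestrict (MonoidHom.rangeRestrict_surjective _)
  have hPn : P.Normal := by
    rw [show P = _ from SemidirectProduct.range_inl_eq_ker_rightHom]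
    infer_instance
  have hc : (Nat.card A).Coprime (Nat.card P) := by
    obtain ⟨k, hk⟩ := IsPGroup.iff_card.mp hP
    rw [hk]
    refine (Nat.Coprime.coprime_dvd_left ?_ ha).pow_right k
    rw [← Nat.card_zpowers]
    exact Subgroup.card_range_dvd _
  have := Cfsg.Lib.PGroup.le_centralizer_of_centralizes_omega hp A P hP
    (by rw [Subgroup.normalizer_eq_top_iff.mpr hPn]; exact le_top) hc (by
      rintro _ ⟨g, rfl⟩ hg _ ⟨t, rfl⟩
      have hg' : g ^ p = 1 := SemidirectProduct.inl_injective (φ := T.subtype) (by rw [map_pow, hg, map_one])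
      obtain ⟨i, hi⟩ := Subgroup.mem_zpowers_iff.mp t.2
      have hfix : (t : MulAut G) g = g := by
        rw [← hi]
        exact (show a ^ i ∈ MulAction.stabilizer (MulAut G) g from zpow_mem (h g hg') i)
      have h2 := SemidirectProduct.inl_aut (φ := T.subtype) t g
      rw [show T.subtype t g = g from hfix] at h2
      calc SemidirectProduct.inr t * SemidirectProduct.inl g
          = SemidirectProduct.inr t * SemidirectProduct.inl g * SemidirectProduct.inr t⁻¹ * SemidirectProduct.inr t := by
            simp [mul_assoc, ← map_mul]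
        _ = _ := by rw [← h2])
  apply MulEquiv.ext
  intro g
  have h3 := Subgroup.mem_centralizer_iff.mp (this ⟨⟨a, Subgroup.mem_zpowers a⟩, rfl⟩) _ ⟨g, rfl⟩
  have h2 := SemidirectProduct.inl_aut (φ := T.subtype) ⟨a, Subgroup.mem_zpowers a⟩ g
  rw [← h3, mul_assoc, ← map_mul, mul_inv_cancel, map_one, mul_one] at h2
  exact SemidirectProduct.inl_injective h2

end Cfsg.Agent.S0120
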