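import Cfsg.Statements.S0121

set_option autoImplicit false
set_option linter.style.haveILetI false
open Cfsg

namespace Cfsg.Agent.S0121

/-- A p'-automorphism of a p-group acting trivially on a critical subgroup is trivial. -/
theorem result {G : Type*} [Group G] [Finite G] {p : ℕ} [Fact p.Prime] (hG : IsPGroup p G) (H : Subgroup G) (hH : H.Characteristic) (h1 : (frattini H).map H.subtype ≤ Subgroup.centralizer (H : Set G)) (h2 : ⁅H, (⊤ : Subgroup G)⁆ ≤ H ⊓ Subgroup.centralizer (H : Set G)) (h3 : Subgroup.centralizer (H : Set G) ≤ H) (a : MulAut G) (ha : Nat.Coprime (orderOf a) p) (h : ∀ x ∈ H, a x = x) : a = 1 := by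
  have hn := hH
  have hfix : ∀ x : G, a (x⁻¹ * a x) = x⁻¹ * a x := by
    intro x
    apply h
    apply h3
    rw [Subgroup.mem_centralizer_iff]
    intro y hy
    have e : a (x * y * x⁻¹) = x * y * x⁻¹ := h _ ((inferInstance : H.Normal).conj_mem y hy x)
    rw [map_mul, map_mul, map_inv, h y hy] at e
    calc y * (x⁻¹ * a x) = x⁻¹ * (x * y * x⁻¹) * a x := by group
      _ = x⁻¹ * (a x * y * (a x)⁻¹) * a x := by rw [e]
      _ = x⁻¹ * a x * y := by group
  apply MulEquiv.ext
  intro x
  rw [MulAut.one_apply]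
  set c := x⁻¹ * a x with hc
  have hpow : ∀ n : ℕ, (a ^ n) x = x * c ^ n := by
    intro n
    induction n with
    | zero => simp
    | succ n ih =>
      have hac : a c = c := hfix x
      have hax : a x = x * c := by rw [hc]; group
      rw [pow_succ', MulAut.mul_apply, ih, map_mul, map_pow, hac, hax,
        mul_assoc, ← pow_succ']
  have h1' := hpow (orderOf a)
  rw [pow_orderOf_eq_one, MulAut.one_apply, eq_comm, mul_eq_left] at h1'
  obtain ⟨k, hk⟩ := IsPGroup.iff_orderOf.mp hG c
  have hd : orderOf c ∣ orderOf a := orderOf_dvd_of_pow_eq_one h1'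
  have hc1 : c = 1 := orderOf_eq_one_iff.mp
    (Nat.eq_one_of_dvd_coprimes (hk ▸ ha.pow_right k) hd (dvd_refl _))
  rw [hc, inv_mul_eq_one] at hc1
  exact hc1.symm

end Cfsg.Agent.S0121
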