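import Cfsg.Statements.S3771
import Cfsg.Agent.Lib.PGroup.Basic
import Cfsg.Agent.Lib.Solv.Nilpotent
import Cfsg.Prelude.Def_CaseTheorems
-- import your own Cfsg.Agent.* helpers here

set_option autoImplicit false
open Cfsg

namespace Cfsg.Agent.S3771

open scoped commutatorElement


/-- Let p be a prime and R a finite p-group of p-rank at most 2 (no elementary abelian subgroup of order p³) in which every element has order dividing p. Then R has order at most p³. -/
theorem result {R : Type*} [Group R] [Finite R] {p : ℕ} [Fact p.Prime] (hR : IsPGroup p R) (hrank : Cfsg.PRankLE p 2 R) (hexp : ∀ x : R, x ^ p = 1) : Nat.card R ≤ p ^ 3 := by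
  classical
  have := hR.isNilpotent
  let F : Set (Subgroup R) := {N | N.Normal ∧ IsMulCommutative N}
  obtain ⟨A, -, ⟨hAn, hAc⟩, hmax⟩ := (Set.toFinite F).exists_le_maximal (a := ⊥)
    ⟨inferInstance, inferInstance⟩
  have hC := Cfsg.Lib.Solv.centralizer_eq_of_maximal_abelian_normal A
    (fun M h1 h2 h3 => le_antisymm (hmax ⟨h1, h2⟩ h3) h3)
  have hA2 : Nat.card A ≤ p ^ 2 := hrank A hAc fun a _ => hexp a
  have hp := (Fact.out : p.Prime)
  by_cases hcen : A ≤ Subgroup.center R
  · have htop : A = ⊤ := by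
      rw [← hC, Subgroup.centralizer_eq_top_iff_subset]
      exact hcen
    rw [htop, Subgroup.card_top] at hA2
    exact hA2.trans (Nat.pow_le_pow_right hp.pos (by norm_num))
  obtain ⟨a0, ha0, ha0c⟩ := SetLike.not_le_iff_exists.mp hcen
  -- the commutator of `A` with the group is central of order `p`
  set K := ⁅A, (⊤ : Subgroup R)⁆ with hK
  have hAne : A ≠ ⊥ := fun h => hcen (h ▸ bot_le)
  have hlt : K < A := Cfsg.Lib.PGroup.commutator_lt_of_isPGroup (hR.to_subgroup A)
    (hR.to_subgroup ⊤) (by rw [Subgroup.normalizer_eq_top]) hAne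
  obtain ⟨m, hm⟩ := IsPGroup.iff_card.mp (hR.to_subgroup A)
  have hm2 : m ≤ 2 := (Nat.pow_le_pow_iff_right hp.one_lt).mp (hm ▸ hA2)
  obtain ⟨k, hk⟩ := IsPGroup.iff_card.mp (hR.to_subgroup K)
  have hk1 : k ≤ 1 := by
    by_contra hk2
    exact hlt.ne (Subgroup.eq_of_le_of_card_ge hlt.le (by
      rw [hm, hk]; exact Nat.pow_le_pow_right hp.pos (by omega)))
  have hKc : K ≤ Subgroup.center R := by
    rcases eq_or_ne K ⊥ with h | h
    · rw [h]; exact bot_le
    have hlt2 : ⁅K, (⊤ : Subgroup R)⁆ < K := Cfsg.Lib.PGroup.commutator_lt_of_isPGroup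
      (hR.to_subgroup K) (hR.to_subgroup ⊤) (by rw [Subgroup.normalizer_eq_top]) h
    obtain ⟨j, hj⟩ := IsPGroup.iff_card.mp (hR.to_subgroup ⁅K, (⊤ : Subgroup R)⁆)
    have hj0 : j = 0 := by
      by_contra hj0
      exact hlt2.ne (Subgroup.eq_of_le_of_card_ge hlt2.le (by
        rw [hk, hj]; exact Nat.pow_le_pow_right hp.pos (by omega)))
    have hbot : ⁅K, (⊤ : Subgroup R)⁆ = ⊥ :=
      Subgroup.eq_bot_of_card_eq _ (by rw [hj, hj0, pow_zero])
    simpa [Subgroup.centralizer_univ] using Subgroup.commutator_eq_bot_iff_le_centralizer.mp hbot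
  have hmem : ∀ r : R, ⁅a0, r⁆ ∈ K := fun r =>
    Subgroup.commutator_mem_commutator ha0 (Subgroup.mem_top r)
  let f : R →* K :=
    { toFun := fun r => ⟨⁅a0, r⁆, hmem r⟩
      map_one' := Subtype.ext (by simp [commutatorElement_def])
      map_mul' := fun g h => Subtype.ext (by
        change ⁅a0, g * h⁆ = ⁅a0, g⁆ * ⁅a0, h⁆
        have h1 := Subgroup.mem_center_iff.mp (hKc (hmem h)) g
        calc ⁅a0, g * h⁆ = ⁅a0, g⁆ * (g * ⁅a0, h⁆) * g⁻¹ := by
              simp [commutatorElement_def, mul_assoc]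
          _ = _ := by rw [h1]; simp [mul_assoc]) }
  -- the centraliser of `a0` centralises `A`
  have hker : f.ker ≤ A := by
    intro r hr
    have hra : Commute a0 r :=
      commutatorElement_eq_one_iff_mul_comm.mp (congrArg Subtype.val (MonoidHom.mem_ker.mp hr))
    rw [← hC, Subgroup.mem_centralizer_iff]
    -- `A` is generated by `a0` and its central part
    have hAgen : A ≤ (A ⊓ Subgroup.center R) ⊔ Subgroup.zpowers a0 := by
      have hinf : A ⊓ Subgroup.center R ≠ ⊥ := Cfsg.Lib.Solv.inf_center_ne_bot_of_isNilpotent hAne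
      obtain ⟨i, hi⟩ := IsPGroup.iff_card.mp (hR.to_subgroup (A ⊓ Subgroup.center R))
      have hi1 : 1 ≤ i := by
        by_contra hi0
        exact hinf (Subgroup.eq_bot_of_card_eq _ (by rw [hi, show i = 0 by omega, pow_zero]))
      set D := (A ⊓ Subgroup.center R) ⊔ Subgroup.zpowers a0
      have hDA : D ≤ A := sup_le inf_le_left (Subgroup.zpowers_le.mpr ha0)
      have hlt3 : A ⊓ Subgroup.center R < D := lt_of_le_of_ne le_sup_left fun h =>
        ha0c (h.ge (Subgroup.mem_sup_right (Subgroup.mem_zpowers a0))).2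
      obtain ⟨j, hj⟩ := IsPGroup.iff_card.mp (hR.to_subgroup D)
      have hij : i < j := by
        by_contra hij
        exact hlt3.ne (Subgroup.eq_of_le_of_card_ge hlt3.le (by
          rw [hi, hj]; exact Nat.pow_le_pow_right hp.pos (by omega)))
      exact (Subgroup.eq_of_le_of_card_ge hDA (by
        rw [hm, hj]; exact Nat.pow_le_pow_right hp.pos (by omega))).ge
    intro a ha
    have : A ≤ Subgroup.centralizer {r} := hAgen.trans (sup_le
      (fun z hz => Subgroup.mem_centralizer_iff.mpr fun y hy => by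
        rw [Set.mem_singleton_iff] at hy; subst hy; exact Subgroup.mem_center_iff.mp hz.2 y)
      (Subgroup.zpowers_le.mpr (Subgroup.mem_centralizer_iff.mpr fun y hy => by
        rw [Set.mem_singleton_iff] at hy; subst hy; exact hra.eq.symm)))
    exact (Subgroup.mem_centralizer_iff.mp (this ha) r rfl).symm
  calc Nat.card R = Nat.card f.ker * f.ker.index := (Subgroup.card_mul_index _).symm
    _ ≤ p ^ 2 * p ^ 1 := Nat.mul_le_mul ((Subgroup.card_le_of_le hker).trans hA2) (by
        rw [Subgroup.index_ker]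
        exact (Subgroup.card_le_card_group _).trans (hk ▸ Nat.pow_le_pow_right hp.pos hk1))
    _ = p ^ 3 := by ring

end Cfsg.Agent.S3771
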