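import Cfsg.Statements.S0126
import Cfsg.Agent.Lib.PGroup.Noncyclic
import Cfsg.Agent.S0519
import Cfsg.Agent.Lib.Core.Cores

set_option autoImplicit false
open Cfsg

namespace Cfsg.Agent.S0126

open Subgroup
open Cfsg.Lib.PGroup

/-- For odd p, every non-cyclic p-group contains a normal elementary abelian subgroup of order p^2. -/
theorem result {R : Type*} [Group R] [Finite R] {p : ℕ} [Fact p.Prime] (hp : p ≠ 2) (hR : IsPGroup p R) (hnc : ¬ IsCyclic R) : ∃ A : Subgroup R, A.Normal ∧ Cfsg.IsElementaryAbelian p A ∧ Nat.card A = p ^ 2 := by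
  have hp' : p.Prime := Fact.out
  have hncT : ¬ IsCyclic (⊤ : Subgroup R) := fun h => hnc (Subgroup.topEquiv.isCyclic.1 h)
  obtain ⟨B, -, hB, hBc⟩ := Noncyclic.exists_elemAb_sq hp hR ⊤ hncT
  obtain ⟨A, hAn, hAc, hAnc⟩ : ∃ A : Subgroup R, A.Normal ∧ IsMulCommutative A ∧ ¬ IsCyclic A := by
    by_contra hn
    push Not at hn
    exact hp (Cfsg.Agent.S0519.result p hR (fun A h1 h2 => hn A h1 h2)
      ⟨B, hB.1, Noncyclic.not_isCyclic_of_elemAb hB hBc⟩).1
  haveI := hAn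
  haveI := hAc
  have cA : ∀ {a b : R}, a ∈ A → b ∈ A → Commute a b := fun ha hb =>
    congrArg Subtype.val (hAc.is_comm.comm ⟨_, ha⟩ ⟨_, hb⟩)
  let Ω : Subgroup R :=
    { carrier := {a | a ∈ A ∧ a ^ p = 1}
      one_mem' := ⟨A.one_mem, one_pow _⟩
      mul_mem' := fun ha hb => ⟨A.mul_mem ha.1 hb.1, by
        rw [(cA ha.1 hb.1).mul_pow, ha.2, hb.2, one_mul]⟩
      inv_mem' := fun ha => ⟨A.inv_mem ha.1, by rw [inv_pow, ha.2, inv_one]⟩ }
  haveI hΩn : Ω.Normal := ⟨fun a ha g => ⟨hAn.conj_mem a ha.1 g, by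
    rw [conj_pow, ha.2, mul_one, mul_inv_cancel]⟩⟩
  obtain ⟨E, hEA, hE, hEc⟩ := Noncyclic.exists_elemAb_sq hp hR A hAnc
  have hEΩ : E ≤ Ω := fun x hx => ⟨hEA hx, hE.2 x hx⟩
  have hΩne : Ω ≠ ⊥ := fun h => by
    have := card_le_of_le hEΩ
    rw [h, card_bot, hEc] at this
    exact absurd this (not_le.2 (Nat.one_lt_pow two_ne_zero hp'.one_lt))
  obtain ⟨z, hzΩ, hzc, hz⟩ := exists_mem_center_orderOf_eq hR hΩne
  haveI : (zpowers z).Normal := ⟨fun a ha g => by
    rw [Subgroup.mem_center_iff.1 (zpowers_le.2 hzc ha) g, mul_inv_cancel_right]; exact ha⟩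
  set f := QuotientGroup.mk' (zpowers z) with hf
  haveI : (Ω.map f).Normal := hΩn.map f (QuotientGroup.mk'_surjective _)
  have hne : Ω.map f ≠ ⊥ := by
    intro h
    rw [Subgroup.map_eq_bot_iff, hf, QuotientGroup.ker_mk'] at h
    have := (card_le_of_le hEΩ).trans (card_le_of_le h)
    rw [hEc, Nat.card_zpowers, hz] at this
    exact absurd this (not_le.2 (lt_self_pow₀ hp'.one_lt one_lt_two))
  obtain ⟨w, hwΩ, hwc, hw⟩ := exists_mem_center_orderOf_eq (hR.to_quotient (zpowers z)) hne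
  haveI : (zpowers w).Normal := ⟨fun a ha g => by
    rw [Subgroup.mem_center_iff.1 (zpowers_le.2 hwc ha) g, mul_inv_cancel_right]; exact ha⟩
  refine ⟨(zpowers w).comap f, inferInstance, ?_⟩
  have hle : (zpowers w).comap f ≤ Ω := by
    refine (comap_mono (zpowers_le.2 hwΩ)).trans (le_of_eq ?_)
    rw [comap_map_eq, hf, QuotientGroup.ker_mk', sup_eq_left]
    exact zpowers_le.2 hzΩ
  have hcard : Nat.card ((zpowers w).comap f) = p ^ 2 := by
    rw [Cfsg.Lib.Core.card_comap_eq f (QuotientGroup.mk'_surjective _), hf, QuotientGroup.ker_mk',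
      Nat.card_zpowers, Nat.card_zpowers, hz, hw, sq]
  exact ⟨⟨IsPGroup.isMulCommutative_of_card_eq_prime_sq hcard, fun a ha => (hle ha).2⟩, hcard⟩

end Cfsg.Agent.S0126
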