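import Cfsg.Statements.S1453
import Cfsg.Agent.Lib.Local.NarrowAut

set_option autoImplicit false
open Cfsg

namespace Cfsg.Agent.S1453

/-- Let p be an odd prime and R a finite p-group with an elementary abelian subgroup of order p ^ 3 and an elementary abelian subgroup E of order p ^ 2 contained in no larger elementary abelian subgroup. Let Z₂ be the second centre of R, W the subgroup generated by the elements of Z₂ of order dividing p, and T = C_R(W). Then E is not contained in T; the elements of order dividing p of the centre of R generate a group of order p; W is elementary abelian of order p ^ 2; and T is characteristic in R of index p. -/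
theorem result {R : Type*} [Group R] [Finite R] (p : ℕ) [Fact p.Prime] (hp : p ≠ 2) (hR : IsPGroup p R) (hr : ¬ Cfsg.PRankLE p 2 R)
    (E : Subgroup R) (hE : Cfsg.IsElementaryAbelian p E) (hE2 : Nat.card E = p ^ 2)
    (hEmax : ∀ B : Subgroup R, Cfsg.IsElementaryAbelian p B → E ≤ B → B = E) :
    ¬ E ≤ Subgroup.centralizer ((Subgroup.closure {x : R | x ∈ Subgroup.upperCentralSeries R 2 ∧ x ^ p = 1} : Subgroup R) : Set R) ∧
      Nat.card ↥(Subgroup.closure {x : R | x ∈ Subgroup.center R ∧ x ^ p = 1}) = p ∧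
      (Cfsg.IsElementaryAbelian p (Subgroup.closure {x : R | x ∈ Subgroup.upperCentralSeries R 2 ∧ x ^ p = 1}) ∧
        Nat.card ↥(Subgroup.closure {x : R | x ∈ Subgroup.upperCentralSeries R 2 ∧ x ^ p = 1}) = p ^ 2) ∧
      (Subgroup.centralizer ((Subgroup.closure {x : R | x ∈ Subgroup.upperCentralSeries R 2 ∧ x ^ p = 1} : Subgroup R) : Set R)).Characteristic ∧
      (Subgroup.centralizer ((Subgroup.closure {x : R | x ∈ Subgroup.upperCentralSeries R 2 ∧ x ^ p = 1} : Subgroup R) : Set R)).index = p := by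
  classical
  have hpp : p.Prime := Fact.out
  have hadd : ∀ y : R, y ^ p = 1 → (∀ b ∈ E, Commute y b) → y ∈ E := by
    intro y hy hcy
    have hins : ∀ a ∈ insert y (E : Set R), ∀ b ∈ insert y (E : Set R), a * b = b * a := by
      rintro a (rfl | ha) b (rfl | hb)
      · rfl
      · exact hcy b hb
      · exact (hcy a ha).eq.symm
      · exact congrArg Subtype.val (hE.1.is_comm.comm ⟨a, ha⟩ ⟨b, hb⟩)
    have hK := Subgroup.isMulCommutative_closure hins
    have hKexp : ∀ a ∈ Subgroup.closure (insert y (E : Set R)), a ^ p = 1 := by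
      intro a ha
      induction ha using Subgroup.closure_induction with
      | mem a ha =>
        rcases ha with rfl | ha
        · exact hy
        · exact hE.2 a ha
      | one => exact one_pow _
      | mul a b ha hb iha ihb =>
        have hc : Commute a b := congrArg Subtype.val (hK.is_comm.comm ⟨a, ha⟩ ⟨b, hb⟩)
        rw [hc.mul_pow, iha, ihb, one_mul]
      | inv a _ iha => rw [inv_pow, iha, inv_one]
    exact (hEmax _ ⟨hK, hKexp⟩ fun a ha => Subgroup.subset_closure (Or.inr ha)).le
      (Subgroup.subset_closure (Or.inl rfl))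
  have hnc : ¬ E ≤ Subgroup.center R := by
    intro h
    refine hr fun A hAc hAp => le_trans (Subgroup.card_le_of_le fun a ha => ?_) hE2.le
    exact hadd a (hAp a ha) fun b hb => Subgroup.mem_center_iff.mp (h hb) a
  obtain ⟨x, hxE, hxc⟩ := SetLike.not_le_iff_exists.mp hnc
  haveI : Nontrivial R := ⟨⟨x, 1, fun e => hxc (e ▸ one_mem _)⟩⟩
  obtain ⟨z, -, hzc, hzo⟩ := Cfsg.Lib.PGroup.exists_mem_center_orderOf_eq hR
    (N := (⊤ : Subgroup R)) top_ne_bot
  have hzE : z ∈ E := hadd z (by rw [← hzo, pow_orderOf_eq_one]) fun b _ =>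
    (Subgroup.mem_center_iff.mp hzc b).symm
  have hgen : Subgroup.zpowers x ⊔ Subgroup.zpowers z = E := by
    refine Subgroup.eq_of_le_of_card_ge
      (sup_le (Subgroup.zpowers_le.mpr hxE) (Subgroup.zpowers_le.mpr hzE)) ?_
    obtain ⟨j, hj⟩ := IsPGroup.iff_card.mp (hR.to_subgroup (Subgroup.zpowers x ⊔ Subgroup.zpowers z))
    have hlt : Subgroup.zpowers z < Subgroup.zpowers x ⊔ Subgroup.zpowers z :=
      lt_of_le_of_ne le_sup_right fun e =>
        hxc (Subgroup.zpowers_le.mpr hzc (e.ge (Subgroup.mem_sup_left (Subgroup.mem_zpowers x))))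
    have h1 : Nat.card (Subgroup.zpowers z) <
        Nat.card (Subgroup.zpowers x ⊔ Subgroup.zpowers z : Subgroup R) :=
      lt_of_le_of_ne (Subgroup.card_le_of_le hlt.le) fun e =>
        hlt.ne (Subgroup.eq_of_le_of_card_ge hlt.le e.ge)
    rw [Nat.card_zpowers, hzo, hj] at h1
    rw [hE2, hj]
    refine Nat.pow_le_pow_right hpp.pos ?_
    by_contra h
    exact absurd ((Nat.pow_le_pow_right hpp.pos (show j ≤ 1 by omega)).trans (pow_one p).le) (by omega)
  have hS : {y : R | Commute y x ∧ y ^ p = 1}.ncard ≤ p ^ 2 := by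
    rw [← hE2, ← SetLike.coe_sort_coe E, Nat.card_coe_set_eq]
    refine Set.ncard_le_ncard fun y hy => hadd y hy.2 fun b hb => ?_
    have hall : E ≤ Subgroup.centralizer ({y} : Set R) := by
      rw [← hgen]
      exact sup_le (Subgroup.zpowers_le.mpr (Subgroup.mem_centralizer_singleton_iff.mpr hy.1.symm.eq))
        (Subgroup.zpowers_le.mpr (Subgroup.mem_centralizer_singleton_iff.mpr
          (Subgroup.mem_center_iff.mp hzc y).symm))
    exact (Subgroup.mem_centralizer_singleton_iff.mp (hall hb)).symm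
  obtain ⟨Z, W, -, hZ, hZc, hW, hWc, hWcomm, hWchar, hTi, hxT, -, -, -⟩ :=
    Cfsg.Lib.Local.NarrowAut.slim_structure hp hR hr (hE.2 x hxE) hS
  have eZ : Subgroup.closure {x : R | x ∈ Subgroup.center R ∧ x ^ p = 1} = Z := by
    rw [show {x : R | x ∈ Subgroup.center R ∧ x ^ p = 1} = (Z : Set R) from
      Set.ext fun w => (hZ w).symm, Subgroup.closure_eq]
  have eW : Subgroup.closure {x : R | x ∈ Subgroup.upperCentralSeries R 2 ∧ x ^ p = 1} = W := by
    rw [show {x : R | x ∈ Subgroup.upperCentralSeries R 2 ∧ x ^ p = 1} = (W : Set R) from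
      Set.ext fun w => (hW w).symm, Subgroup.closure_eq]
  rw [eZ, eW]
  haveI := hWchar
  exact ⟨fun h => hxT (h hxE), hZc, ⟨⟨hWcomm, fun w hw => ((hW w).mp hw).2⟩, hWc⟩,
    inferInstanceAs (Subgroup.centralizer (W : Set R)).Characteristic, hTi⟩

end Cfsg.Agent.S1453
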