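import Cfsg.Statements.S1455
import Cfsg.Agent.Lib.Local.NarrowSolvable
import Cfsg.Agent.Lib.Local.PLengthOne

set_option autoImplicit false
open Cfsg

namespace Cfsg.Agent.S1455

/-- Let G be a solvable group of odd order, p a prime dividing its order, and S a Sylow p-subgroup of G that is narrow; if S has an elementary abelian subgroup of order p ^ 3 assume also G = O_{p',p,p'}(G). Then every prime dividing the index of O_{p'}(G) is at most p; if p = 3 or p is the smallest prime divisor of #G then G has a normal p-complement; G' has a normal p-complement; every subgroup of G' of order coprime to p lies in O_{p'}(G'); and G' ≤ O_{p',p}(G) with the index of O_{p',p}(G) coprime to p. -/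
theorem result {G : Type*} [Group G] [Finite G] [Group.IsSolvable G] (hodd : Odd (Nat.card G)) (p : ℕ) [Fact p.Prime] (hpG : p ∣ Nat.card G) (S : Sylow p G) (hS : Cfsg.IsNarrow p ↥(S : Subgroup G))
    (hpl : ¬ Cfsg.PRankLE p 2 ↥(S : Subgroup G) → Cfsg.PLengthLE p 1 G) :
    (∀ q : ℕ, q.Prime → q ∣ (Cfsg.pPrimeCore p G).index → q ≤ p) ∧
      ((p = 3 ∨ ∀ q : ℕ, q.Prime → q ∣ Nat.card G → p ≤ q) → Cfsg.HasNormalPComplement p G) ∧
      Cfsg.HasNormalPComplement p ↥(commutator G) ∧
      (∀ L : Subgroup ↥(commutator G), (Nat.card L).Coprime p → L ≤ Cfsg.pPrimeCore p ↥(commutator G)) ∧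
      commutator G ≤ Cfsg.pPrimePCore p G ∧ ((Cfsg.pPrimePCore p G).index).Coprime p := by
  classical
  have hp2 : p ≠ 2 := by
    rintro rfl
    exact Nat.not_even_iff_odd.mpr hodd (even_iff_two_dvd.mpr hpG)
  set O := Cfsg.pPrimeCore p G with hOdef
  have hodd' : Odd (Nat.card (G ⧸ O)) := hodd.of_dvd_nat (Subgroup.card_quotient_dvd_card O)
  have hO' : Cfsg.pPrimeCore p (G ⧸ O) = ⊥ := Cfsg.Lib.Core.pPrimeCore_quotient_eq_bot
  by_cases hr : Cfsg.PRankLE p 2 ↥(S : Subgroup G)
  · have hrG : Cfsg.PRankLE p 2 G := by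
      intro A hAc hAp
      have hA : IsPGroup p A := fun a => ⟨1, Subtype.ext (by simpa using hAp a a.2)⟩
      obtain ⟨T, hT⟩ := hA.exists_le_sylow
      have hrT := Cfsg.Lib.Local.NarrowAut.pRankLE_of_injective (T.equiv S).toMonoidHom
        (T.equiv S).injective hr
      rw [← Nat.card_congr (Subgroup.subgroupOfEquivOfLe hT).toEquiv]
      refine hrT _ ⟨⟨fun a b => Subtype.ext (Subtype.ext (congrArg Subtype.val
        (hAc.is_comm.comm ⟨_, a.2⟩ ⟨_, b.2⟩) :))⟩⟩ (fun a ha => Subtype.ext (hAp a ha))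
    have hrQ := Cfsg.Lib.Local.RankTwoAut.pRankLE_quotient hrG O (Cfsg.Lib.Core.pPrimeCore_coprime p G)
    obtain ⟨f, hf⟩ := Cfsg.Lib.Local.RankTwoAut.exists_hom_solvable hp2 hO' hrQ
    exact Cfsg.Lib.Local.NarrowAut.structure_of_quotient hodd
      (Cfsg.Lib.Local.GLTwoOdd.isPGroup_commutator p hp2 f hodd' hf)
      (Cfsg.Lib.Local.RankTwoAut.structure_mod_core hp2 hodd hrG).2.2
  · set f := QuotientGroup.mk' O with hfdef
    have hN : (O ⊔ (S : Subgroup G)).Normal := Cfsg.Lib.Local.pLengthOne_sup_normal (hpl hr) S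
    have hmap : (S : Subgroup G).map f = (O ⊔ (S : Subgroup G)).map f := by
      rw [Subgroup.map_sup, hfdef, QuotientGroup.map_mk'_self, bot_sup_eq]
    have hnorm : ((S : Subgroup G).map f).Normal := hmap ▸ hN.map f (QuotientGroup.mk'_surjective O)
    have hP : (S : Subgroup G).map f = Cfsg.pCore p (G ⧸ O) :=
      le_antisymm (Cfsg.Lib.Core.le_pCore' hnorm (S.isPGroup'.map f))
        (Cfsg.Lib.Core.pCore_le_sylow (S.mapSurjective (QuotientGroup.mk'_surjective O)))
    let e₀ : ↥(S : Subgroup G) →* ↥(Cfsg.pCore p (G ⧸ O)) :=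
      (f.comp (S : Subgroup G).subtype).codRestrict _ fun z => hP.le ⟨z, z.2, rfl⟩
    have he : Function.Bijective e₀ := by
      refine ⟨?_, fun ⟨z, hz⟩ => ?_⟩
      · rw [injective_iff_map_eq_one]
        intro z hz
        apply Cfsg.Lib.Local.RankTwoAut.pow_eq_one_of_coprime (S.isPGroup' z)
        have hmem : (z : G) ∈ O := (QuotientGroup.eq_one_iff _).mp (congrArg Subtype.val hz)
        rw [← Subgroup.orderOf_coe]
        exact (Cfsg.Lib.Core.pPrimeCore_coprime p G).coprime_dvd_left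
          (Subgroup.orderOf_dvd_natCard _ hmem)
      · obtain ⟨s, hs, rfl⟩ := hP.ge hz
        exact ⟨⟨s, hs⟩, rfl⟩
    let e := MulEquiv.ofBijective e₀ he
    let φ : G ⧸ O →* MulAut ↥(S : Subgroup G) :=
      (MulAut.congr e.symm).toMonoidHom.comp (MulAut.conjNormal (H := Cfsg.pCore p (G ⧸ O)))
    have hker : IsPGroup p φ.ker := by
      have hC := Cfsg.Lib.Core.centralizer_pCore_le_of_isPSolvable
        (Cfsg.Lib.Core.isPSolvable_of_isSolvable (p := p) (G := G ⧸ O)) hO'
      refine (Cfsg.Lib.Core.pCore_isPGroup p (G ⧸ O)).to_le fun g hg => hC ?_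
      refine Subgroup.mem_centralizer_iff.mpr fun z hz => ?_
      have h1 : MulAut.conjNormal (H := Cfsg.pCore p (G ⧸ O)) g = 1 :=
        (MulAut.congr e.symm).injective (by rw [map_one]; exact MonoidHom.mem_ker.mp hg)
      have e' := congrArg Subtype.val (DFunLike.congr_fun h1 (⟨z, hz⟩ : Cfsg.pCore p (G ⧸ O)))
      rw [MulAut.conjNormal_apply, MulAut.one_apply, mul_inv_eq_iff_eq_mul] at e'
      exact e'.symm
    obtain ⟨x, hx, hxS⟩ := Cfsg.Lib.Local.NarrowAut.exists_slim_of_narrow hS hr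
    obtain ⟨h1, h2⟩ := Cfsg.Lib.Local.NarrowAut.operator_facts hp2 S.isPGroup' hr hx hxS φ hker
    refine Cfsg.Lib.Local.NarrowAut.structure_of_quotient hodd h1 fun q hq hdvd => ?_
    by_cases hqp : q = p
    · exact hqp.le
    · haveI : Fact q.Prime := ⟨hq⟩
      rw [Subgroup.index_eq_card] at hdvd
      obtain ⟨g, hg⟩ := exists_prime_orderOf_dvd_card' q hdvd
      have hd := h2 g (hg ▸ (Nat.coprime_primes hq (Fact.out : p.Prime)).mpr hqp)
      rw [hg] at hd
      have := Nat.le_of_dvd (by have := (Fact.out : p.Prime).two_le; omega) hd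
      omega

end Cfsg.Agent.S1455
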