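import Cfsg.Statements.S1451
import Cfsg.Agent.Lib.Local.RankTwoSolvable
import Cfsg.Agent.Lib.PGroup.Elements
import Cfsg.Agent.Lib.Core.Fitting
import Cfsg.Agent.Lib.Core.Layer
import Cfsg.Agent.Lib.Local.PrimeOrderOperator

set_option autoImplicit false
open Cfsg

namespace Cfsg.Agent.S1451

open Subgroup

variable {G : Type*} [Group G] [Finite G]

/-- All prime divisors of the order of `g` exceed `p`. -/
def Large (p : ℕ) (g : G) : Prop := ∀ q : ℕ, q.Prime → q ∣ orderOf g → p < q

omit [Finite G] in
theorem Large.map {p : ℕ} {g : G} (h : Large p g) {H : Type*} [Group H] (f : G →* H) :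
    Large p (f g) := fun q hq hd => h q hq (hd.trans (orderOf_map_dvd f g))

/-- A hom into a commutative group sends a subgroup generated by large elements to large elements. -/
theorem large_of_mem_closure {p : ℕ} {H : Type*} [Group H] (f : G →* H)
    (hc : ∀ a b : G, Commute (f a) (f b)) {g : G} (hg : g ∈ closure {x : G | Large p x}) :
    Large p (f g) := by
  induction hg using closure_induction with
  | mem x hx => exact hx.map f
  | one => rw [map_one]; intro q hq hd; rw [orderOf_one] at hd; exact absurd (Nat.dvd_one.mp hd) hq.ne_one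
  | mul x y _ _ hx hy =>
    intro q hq hd
    rw [map_mul] at hd
    rcases (Nat.Prime.dvd_mul hq).mp (hd.trans (hc x y).orderOf_mul_dvd_mul_orderOf) with h | h
    exacts [hx q hq h, hy q hq h]
  | inv x _ hx => rw [map_inv]; intro q hq hd; rw [orderOf_inv] at hd; exact hx q hq hd

/-- A primary element of the Fitting subgroup lies in the corresponding core. -/
theorem mem_pCore_of_fitting {s : ℕ} [Fact s.Prime] {z : G} (hz : z ∈ Cfsg.fittingSubgroup G)
    (k : ℕ) (ho : orderOf z = s ^ k) : z ∈ Cfsg.pCore s G := by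
  set F := Cfsg.fittingSubgroup G with hF
  haveI : Group.IsNilpotent F := Cfsg.Lib.Core.fittingSubgroup_isNilpotent G
  obtain ⟨T⟩ : Nonempty (Sylow s F) := inferInstance
  haveI : (T : Subgroup F).Normal := by
    have h := (Group.isNilpotent_of_finite_tfae (G := F)).out 0 3
    exact h.mp inferInstance s inferInstance T
  haveI : (T : Subgroup F).Characteristic := T.characteristic_of_normal inferInstance
  haveI : F.Normal := Cfsg.Lib.Core.fittingSubgroup_normal' G
  refine Cfsg.Lib.Core.le_pCore' (N := (T : Subgroup F).map F.subtype) inferInstance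
    (T.isPGroup'.map _) ⟨⟨z, hz⟩, ?_, rfl⟩
  have hzp : IsPGroup s (zpowers (⟨z, hz⟩ : F)) := by
    rw [IsPGroup.iff_card]
    exact ⟨k, by rw [Nat.card_zpowers, Subgroup.orderOf_mk, ho]⟩
  obtain ⟨T', hT'⟩ := hzp.exists_le_sylow
  haveI := Sylow.unique_of_normal T inferInstance
  rw [Subsingleton.elim T T']
  exact hT' (mem_zpowers _)

/-- Primary elements of the kernel-free part act trivially on the other primary parts of `F (G)`. -/
theorem acts_trivially (hodd : Odd (Nat.card G)) {s : ℕ} [Fact s.Prime]
    (hr : Cfsg.PRankLE s 2 (Cfsg.pCore s G)) {q : ℕ} (hq : q.Prime) (hsq : s ≠ q)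
    {z : G} (hz : z ∈ Cfsg.pCore s G) {y : G} {k : ℕ} (hy : orderOf y = q ^ k)
    (hc : y ∈ commutator G ∨ s < q) : Commute y z := by
  by_cases hz1 : z = 1
  · rw [hz1]; exact Commute.one_right y
  have hsp : s.Prime := Fact.out
  have hP : IsPGroup s (Cfsg.pCore s G) := Cfsg.Lib.Core.pCore_isPGroup s G
  have hs2 : s ≠ 2 := by
    rintro rfl
    obtain ⟨j, hj⟩ := hP ⟨z, hz⟩
    have h := orderOf_dvd_of_pow_eq_one hj
    obtain ⟨i, -, hi⟩ := (Nat.dvd_prime_pow Nat.prime_two).mp h
    rcases i with - | i
    · rw [pow_zero, Subgroup.orderOf_mk, orderOf_eq_one_iff] at hi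
      exact hz1 hi
    · rw [Subgroup.orderOf_mk, pow_succ'] at hi
      exact Nat.not_even_iff_odd.mpr (hodd.of_dvd_nat (orderOf_dvd_natCard z))
        (even_iff_two_dvd.mpr ⟨_, hi⟩)
  let φ : G →* MulAut (Cfsg.pCore s G) := MulAut.conjNormal
  haveI : Finite φ.range := Finite.of_surjective φ.rangeRestrict φ.rangeRestrict_surjective
  have hker : IsPGroup s φ.range.subtype.ker := by
    rintro ⟨a, ha⟩
    exact ⟨0, by rw [pow_zero, pow_one]; exact Subtype.ext (Subtype.ext (MonoidHom.mem_ker.mp ha))⟩
  have key : φ y = 1 := by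
    by_contra hne
    obtain ⟨j, hjk, hj⟩ := (Nat.dvd_prime_pow hq).mp (hy ▸ orderOf_map_dvd φ y)
    have hj0 : j ≠ 0 := fun h => hne (orderOf_eq_one_iff.mp (by rw [hj, h, pow_zero]))
    have hodd' : Odd (Nat.card φ.range) := hodd.of_dvd_nat (card_range_dvd φ)
    rcases hc with hc | hc
    · have h := Cfsg.Lib.Local.RankTwoAut.commutator_isPGroup hs2 hP hr hodd' φ.range.subtype hker
        ⟨φ.rangeRestrict y, (map_commutator ⊤ ⊤ φ.rangeRestrict).trans_le
          (commutator_mono le_top le_top) ⟨y, hc, rfl⟩⟩
      obtain ⟨i, hi⟩ := h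
      have hd : orderOf (φ y) ∣ s ^ i :=
        orderOf_dvd_of_pow_eq_one (congrArg Subtype.val (congrArg Subtype.val hi))
      rw [hj] at hd
      exact hsq ((Nat.prime_dvd_prime_iff_eq hq hsp).mp
        (hq.dvd_of_dvd_pow ((dvd_pow_self q hj0).trans hd))).symm
    · haveI : Finite (MulAut (Cfsg.pCore s G)) :=
        Finite.of_injective (fun f => (f : Cfsg.pCore s G → Cfsg.pCore s G)) DFunLike.coe_injective
      obtain ⟨f, hf⟩ := Cfsg.Lib.Local.RankTwoAut.exists_hom hs2 hP hr
      have := (Cfsg.Lib.Local.RankTwoAut.prime_dvd hs2 f hf hq hsq.symm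
        ((dvd_pow_self q hj0).trans (hj ▸ orderOf_dvd_natCard (φ y)))).2
      omega
  have e : ((φ y ⟨z, hz⟩ : Cfsg.pCore s G) : G) = z := by rw [key]; rfl
  rw [MulAut.conjNormal_apply, mul_inv_eq_iff_eq_mul] at e
  exact e

/-- Let G be a solvable group of odd order such that G, or its Fitting subgroup, has no elementary abelian subgroup of order q ^ 3 for any prime q. Then G' is nilpotent; for every Sylow subgroup S of G, every characteristic subgroup T of S with T ≤ [S, S] is normal in G; and for every prime p, G has a characteristic subgroup that is a Hall subgroup for the set of primes greater than p. -/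
theorem result {G : Type*} [Group G] [Finite G] [Group.IsSolvable G] (hodd : Odd (Nat.card G)) (hr : Cfsg.RankLE 2 G ∨ Cfsg.RankLE 2 (Cfsg.fittingSubgroup G)) :
    Group.IsNilpotent ↥(commutator G) ∧
      (∀ (q : ℕ) [Fact q.Prime] (S : Sylow q G) (T : Subgroup ↥(S : Subgroup G)), T.Characteristic → T.map (S : Subgroup G).subtype ≤ ⁅(S : Subgroup G), (S : Subgroup G)⁆ →
        (T.map (S : Subgroup G).subtype).Normal) ∧
      ∀ p : ℕ, ∃ N : Subgroup G, N.Characteristic ∧ Cfsg.IsPiHall {q | q.Prime ∧ p < q} N := by
  classical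
  set F := Cfsg.fittingSubgroup G with hF
  haveI hFn : F.Normal := Cfsg.Lib.Core.fittingSubgroup_normal' G
  have hFnil : Group.IsNilpotent F := Cfsg.Lib.Core.fittingSubgroup_isNilpotent G
  have hrc : ∀ s : ℕ, s.Prime → Cfsg.PRankLE s 2 (Cfsg.pCore s G) := by
    intro s hs
    haveI : Fact s.Prime := ⟨hs⟩
    rcases hr with hr | hr
    · exact Cfsg.Lib.Local.RankTwoAut.pRankLE_subgroup (hr s hs) _
    · intro A hAc hAp
      have hle := Cfsg.Lib.Core.pCore_le_fittingSubgroup s G
      rw [← card_map_of_injective (Subgroup.inclusion_injective hle)]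
      refine hr s hs _ inferInstance ?_
      rintro _ ⟨a, ha, rfl⟩
      rw [← map_pow, hAp a ha, map_one]
  have hprim : ∀ (x : G) (q : ℕ), q.Prime →
      ∀ z ∈ F, (orderOf z).Coprime q → ∀ k, orderOf x = q ^ k →
      (∀ s : ℕ, s.Prime → s ∣ orderOf z → x ∈ commutator G ∨ s < q) → Commute x z := by
    intro x q hq z hz hzq k hk hc
    have : z ∈ centralizer ({x} : Set G) := by
      refine Cfsg.Lib.PGroup.mem_of_ordCompl_pow_mem fun s hs hsd => ?_
      haveI : Fact s.Prime := ⟨hs⟩
      have hsq : s ≠ q := by
        rintro rfl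
        exact Nat.Prime.not_coprime_iff_dvd.mpr ⟨s, hs, hsd, dvd_rfl⟩ hzq
      refine mem_centralizer_singleton_iff.mpr ?_
      exact (acts_trivially hodd (hrc s hs) hq hsq
        (mem_pCore_of_fitting (pow_mem hz _) _ (Cfsg.Lib.PGroup.orderOf_ordCompl_pow hs))
        hk (hc s hs hsd)).symm.eq
    exact (mem_centralizer_singleton_iff.mp this).symm
  have hCF : centralizer (F : Set G) ≤ F := Cfsg.Lib.Core.centralizer_fitting_le_of_isSolvable
  have hDF : commutator G ≤ F := by
    intro g hg
    refine Cfsg.Lib.PGroup.mem_of_ordCompl_pow_mem fun r hr' hrd => ?_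
    haveI : Fact r.Prime := ⟨hr'⟩
    let C : Subgroup G := centralizer {z : G | z ∈ F ∧ (orderOf z).Coprime r}
    haveI hCn : C.Normal := by
      refine ⟨fun c hc a => mem_centralizer_iff.mpr fun z hz => ?_⟩
      have hz' : a⁻¹ * z * a ∈ {z : G | z ∈ F ∧ (orderOf z).Coprime r} := by
        refine ⟨by simpa using hFn.conj_mem z hz.1 a⁻¹, ?_⟩
        rw [show a⁻¹ * z * a = MulAut.conj a⁻¹ z by simp, MulEquiv.orderOf_eq]
        exact hz.2
      have h := mem_centralizer_iff.mp hc _ hz'
      calc z * (a * c * a⁻¹) = a * ((a⁻¹ * z * a) * c) * a⁻¹ := by group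
        _ = a * c * a⁻¹ * z := by rw [h]; group
    let M : Subgroup G := commutator G ⊓ C
    haveI : M.Normal := inferInstance
    have hcentral : ∀ y ∈ M, (orderOf y).Coprime r → ∀ c ∈ M, Commute y c := by
      intro y hy hyr c hc
      have hyF : y ∈ F := by
        refine hCF (mem_centralizer_iff.mpr fun z hz => ?_)
        suffices h : y ∈ centralizer ({z} : Set G) from (mem_centralizer_singleton_iff.mp h).symm
        refine Cfsg.Lib.PGroup.mem_of_ordCompl_pow_mem fun q hq hqd => ?_
        rw [mem_centralizer_singleton_iff]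
        set y' := y ^ (orderOf y / q ^ (orderOf y).factorization q) with hy'
        have hy'M : y' ∈ M := pow_mem hy _
        haveI : Fact q.Prime := ⟨hq⟩
        suffices h : z ∈ centralizer ({y'} : Set G) from
          (mem_centralizer_singleton_iff.mp h).symm
        refine Cfsg.Lib.PGroup.mem_of_ordCompl_pow_mem fun s hs hsd => ?_
        rw [mem_centralizer_singleton_iff]
        haveI : Fact s.Prime := ⟨hs⟩
        by_cases hsq : s = q
        · subst hsq
          refine mem_centralizer_iff.mp hy'M.2 _ ⟨pow_mem hz _, ?_⟩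
          rw [Cfsg.Lib.PGroup.orderOf_ordCompl_pow hs]
          refine Nat.Coprime.pow_left _ ((Nat.coprime_primes hs hr').mpr ?_)
          rintro rfl
          exact Nat.Prime.not_coprime_iff_dvd.mpr ⟨s, hs, hqd, dvd_rfl⟩ hyr
        · exact ((acts_trivially hodd (hrc s hs) hq hsq
            (mem_pCore_of_fitting (pow_mem hz _) _ (Cfsg.Lib.PGroup.orderOf_ordCompl_pow hs))
            (Cfsg.Lib.PGroup.orderOf_ordCompl_pow hq) (Or.inl hy'M.1)).symm).eq
      exact mem_centralizer_iff.mp hc.2 y ⟨hyF, hyr⟩
    have hq : IsPGroup r (M ⧸ Subgroup.center M) := by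
      intro w
      obtain ⟨⟨m, hm⟩, rfl⟩ := QuotientGroup.mk'_surjective _ w
      obtain ⟨k, n, hn, hkn⟩ :=
        Nat.exists_eq_pow_mul_and_not_dvd (orderOf_pos m).ne' r hr'.ne_one
      refine ⟨k, ?_⟩
      rw [← map_pow]
      refine (QuotientGroup.eq_one_iff _).mpr (Subgroup.mem_center_iff.mpr fun c => Subtype.ext ?_)
      refine (hcentral _ (pow_mem hm _) ?_ c c.2).eq.symm
      rw [orderOf_pow, hkn, Nat.gcd_eq_right (dvd_mul_right _ _),
        Nat.mul_div_cancel_left _ (pow_pos hr'.pos k)]
      exact ((hr'.coprime_iff_not_dvd).mpr hn).symm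
    haveI : Group.IsNilpotent (M ⧸ Subgroup.center M) := hq.isNilpotent
    have hMnil : Group.IsNilpotent M := Group.of_quotient_center_nilpotent inferInstance
    refine Cfsg.Lib.Core.le_fittingSubgroup hMnil ⟨pow_mem hg _, mem_centralizer_iff.mpr ?_⟩
    intro z hz
    exact (hprim _ r hr' z hz.1 hz.2 _ (Cfsg.Lib.PGroup.orderOf_ordCompl_pow hr')
      fun s _ _ => Or.inl (pow_mem hg _)).eq.symm
  have hDnil : Group.IsNilpotent ↥(commutator G) := Cfsg.Lib.Core.isNilpotent_of_le hDF hFnil
  refine ⟨hDnil, ?_, ?_⟩
  · intro q _ S T hT hTle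
    set T' := T.map (S : Subgroup G).subtype with hT'
    have hTD : T' ≤ commutator G := hTle.trans (commutator_mono le_top le_top)
    let K : Subgroup G := (S : Subgroup G) ⊔ commutator G
    haveI : K.Normal := Normal.of_commutator_le _ le_sup_right
    have hfr : normalizer ((S : Subgroup G) : Set G) ⊔ K = ⊤ := Sylow.normalizer_sup_eq_top' S le_sup_left
    have hN : normalizer ((S : Subgroup G) : Set G) ≤ normalizer (T' : Set G) := by
      intro n hn
      refine mem_normalizer_iff_map_conj_eq.mpr ?_
      have h := hT.fixed (Cfsg.Lib.Local.autOf (S : Subgroup G) ⟨n, hn⟩)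
      refine eq_of_le_of_card_ge ?_ (card_map_of_injective (MulAut.conj n).injective).ge
      rintro _ ⟨_, ⟨t, ht, rfl⟩, rfl⟩
      exact ⟨_, (h.symm.le ht), rfl⟩
    have hD : commutator G ≤ normalizer (T' : Set G) := by
      intro d hd
      refine Cfsg.Lib.PGroup.mem_of_ordCompl_pow_mem fun r hr' hrd => ?_
      set d' := d ^ (orderOf d / r ^ (orderOf d).factorization r) with hd'
      have hd'D : d' ∈ commutator G := pow_mem hd _
      have ho : orderOf d' = r ^ (orderOf d).factorization r :=
        Cfsg.Lib.PGroup.orderOf_ordCompl_pow hr'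
      haveI : Fact r.Prime := ⟨hr'⟩
      by_cases hrq : r = q
      · subst hrq
        haveI := hDnil
        obtain ⟨P⟩ : Nonempty (Sylow r ↥(commutator G)) := inferInstance
        haveI : (P : Subgroup ↥(commutator G)).Normal := by
          have h := (Group.isNilpotent_of_finite_tfae (G := ↥(commutator G))).out 0 3
          exact h.mp inferInstance r inferInstance P
        haveI : (P : Subgroup ↥(commutator G)).Characteristic := P.characteristic_of_normal inferInstance
        have hPS : (P : Subgroup ↥(commutator G)).map (commutator G).subtype ≤ (S : Subgroup G) :=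
          (Cfsg.Lib.Core.le_pCore' inferInstance (P.isPGroup'.map _)).trans
            (Cfsg.Lib.Core.pCore_le_sylow S)
        have hdS : d' ∈ (S : Subgroup G) := by
          refine hPS ⟨⟨d', hd'D⟩, ?_, rfl⟩
          have hzp : IsPGroup r (zpowers (⟨d', hd'D⟩ : ↥(commutator G))) := by
            rw [IsPGroup.iff_card]
            exact ⟨_, by rw [Nat.card_zpowers, Subgroup.orderOf_mk, ho]⟩
          obtain ⟨P', hP'⟩ := hzp.exists_le_sylow
          haveI := Sylow.unique_of_normal P inferInstance
          rw [Subsingleton.elim P P']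
          exact hP' (mem_zpowers _)
        exact hN (le_normalizer hdS)
      · refine centralizer_le_normalizer _ (mem_centralizer_iff.mpr fun t ht => ?_)
        haveI := hDnil
        have htS : t ∈ (S : Subgroup G) := map_subtype_le _ ht
        obtain ⟨j, hj⟩ := IsPGroup.iff_orderOf.mp S.isPGroup' ⟨t, htS⟩
        rw [Subgroup.orderOf_mk] at hj
        have := Cfsg.Lib.PGroup.commute_of_coprime_orderOf (⟨t, hTD ht⟩ : ↥(commutator G)) ⟨d', hd'D⟩ (by
          rw [Subgroup.orderOf_mk, Subgroup.orderOf_mk, hj, ho]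
          exact Nat.coprime_pow_primes _ _ Fact.out hr' (Ne.symm hrq))
        exact congrArg Subtype.val this.eq
    rw [← normalizer_eq_top_iff, eq_top_iff, ← hfr]
    exact sup_le hN (sup_le (le_normalizer.trans hN) hD)
  · intro p
    let N : Subgroup G := closure {x : G | Large p x}
    refine ⟨N, ?_, fun q hq hdvd => ?_, fun q hq hqπ => ?_⟩
    · refine characteristic_iff_map_le.mpr fun φ => ?_
      rw [MonoidHom.map_closure, closure_le]
      rintro _ ⟨x, hx, rfl⟩
      exact subset_closure (hx.map φ.toMonoidHom)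
    · refine ⟨hq, ?_⟩
      by_contra hle
      haveI : Fact q.Prime := ⟨hq⟩
      obtain ⟨y0, hy0⟩ := exists_prime_orderOf_dvd_card' q hdvd
      let qs : G → Prop := fun x => ∀ s : ℕ, s.Prime → s ∣ orderOf x → s ≤ p
      have small : ∀ y ∈ N, ∀ k, ∀ s : ℕ, s.Prime → s ≤ p → orderOf y = s ^ k →
          y ∈ Subgroup.centralizer (N : Set G) := by
        intro y hy k s hs hsp hk
        have hyF : y ∈ F := by
          have hcQ : ∀ a b : G, Commute (QuotientGroup.mk' F a) (QuotientGroup.mk' F b) := by
            intro a b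
            rw [← commutatorElement_eq_one_iff_commute, ← map_commutatorElement]
            exact (QuotientGroup.eq_one_iff _).mpr
              (hDF (commutator_mem_commutator (mem_top a) (mem_top b)))
          have hl := large_of_mem_closure (QuotientGroup.mk' F) hcQ hy
          refine (QuotientGroup.eq_one_iff _).mp (orderOf_eq_one_iff.mp ?_)
          by_contra h1
          obtain ⟨j, -, hj⟩ := (Nat.dvd_prime_pow hs).mp (hk ▸ orderOf_map_dvd (QuotientGroup.mk' F) y)
          have hj0 : j ≠ 0 := fun h => h1 (by rw [show orderOf (y : G ⧸ F) = _ from hj, h, pow_zero])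
          exact absurd (hl s hs (hj ▸ dvd_pow_self s hj0)) (by omega)
        rw [centralizer_closure, mem_centralizer_iff]
        intro x hx
        suffices h : x ∈ centralizer ({y} : Set G) from mem_centralizer_singleton_iff.mp h
        refine Cfsg.Lib.PGroup.mem_of_ordCompl_pow_mem fun r hr' hrd => ?_
        rw [mem_centralizer_singleton_iff]
        have hrp := hx r hr' hrd
        refine (hprim _ r hr' y hyF ?_ _ (Cfsg.Lib.PGroup.orderOf_ordCompl_pow hr') ?_).eq
        · rw [hk]
          refine Nat.Coprime.pow_left _ ((Nat.coprime_primes hs hr').mpr ?_)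
          omega
        · intro u hu hud
          rw [hk] at hud
          have := (Nat.prime_dvd_prime_iff_eq hu hs).mp (hu.dvd_of_dvd_pow hud)
          exact Or.inr (by omega)
      let Zc := Subgroup.center N
      set n := Zc.index with hn
      have hnlarge : ∀ s : ℕ, s.Prime → s ∣ n → p < s := by
        intro s hs hsd
        by_contra hsp
        haveI : Fact s.Prime := ⟨hs⟩
        rw [hn, index_eq_card] at hsd
        obtain ⟨w, hw⟩ := exists_prime_orderOf_dvd_card' s hsd
        obtain ⟨v, rfl⟩ := QuotientGroup.mk'_surjective Zc w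
        set m := orderOf v / s ^ (orderOf v).factorization s with hm
        have hsm : ¬ s ∣ m := Nat.not_dvd_ordCompl hs (orderOf_pos v).ne'
        have hv : orderOf (v ^ m) = s ^ (orderOf v).factorization s :=
          Cfsg.Lib.PGroup.orderOf_ordCompl_pow hs
        have hvc : v ^ m ∈ Zc := by
          rw [Subgroup.mem_center_iff]
          intro c
          have h := small _ (v ^ m).2 _ s hs (by omega) ((Subgroup.orderOf_coe _).trans hv)
          exact Subtype.ext (mem_centralizer_iff.mp h c c.2)
        have h1 : (QuotientGroup.mk' Zc v) ^ m = 1 := by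
          rw [← map_pow]
          exact (QuotientGroup.eq_one_iff _).mpr hvc
        exact hsm (hw ▸ orderOf_dvd_of_pow_eq_one h1)
      have hpow : ∀ v : N, ∀ s : ℕ, s.Prime → s ∣ orderOf (v ^ n) → p < s := by
        intro v
        have hgen : v ∈ closure {x : N | Large p x} := by
          have e : {x : N | Large p x} = N.subtype ⁻¹' {x : G | Large p x} := by
            ext x
            simp only [Set.mem_setOf_eq, Set.mem_preimage, Large, Subgroup.coe_subtype,
              Subgroup.orderOf_coe]
          rw [e]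
          exact (closure_closure_coe_preimage (k := {x : G | Large p x})).ge (mem_top v)
        have hl := large_of_mem_closure (MonoidHom.transferCenterPow N)
          (fun a b => mul_comm' _ _) hgen
        intro s hs hsd
        refine hl s hs ?_
        rw [← Subgroup.orderOf_coe]
        exact hsd
      have h1 : ∀ s : ℕ, s.Prime → s ∣ orderOf y0 → p < s := by
        intro s hs hsd
        by_cases hsn : s ∣ n
        · exact hnlarge s hs hsn
        · refine hpow y0 s hs ?_
          have hsy : s = q := (Nat.prime_dvd_prime_iff_eq hs hq).mp (hy0 ▸ hsd)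
          have hcop : (orderOf y0).Coprime n := by
            rw [hy0, ← hsy]; exact hs.coprime_iff_not_dvd.mpr hsn
          rw [hcop.orderOf_pow]
          exact hsd
      exact hle (h1 q hq (hy0 ▸ dvd_rfl))
    · haveI : Fact q.Prime := ⟨hq⟩
      obtain ⟨P⟩ : Nonempty (Sylow q G) := inferInstance
      intro hd
      refine P.not_dvd_index (hd.trans (index_dvd_of_le fun x hx => subset_closure ?_))
      intro r hr' hrd
      obtain ⟨j, hj⟩ := IsPGroup.iff_orderOf.mp P.isPGroup' ⟨x, hx⟩
      rw [Subgroup.orderOf_mk] at hj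
      rw [hj] at hrd
      rw [(Nat.prime_dvd_prime_iff_eq hr' hq).mp (hr'.dvd_of_dvd_pow hrd)]
      exact hqπ.2

end Cfsg.Agent.S1451
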