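import Cfsg.Statements.S1415
import Cfsg.Agent.Lib.Local.Sigma.Complement
import Cfsg.Agent.Lib.Local.Sigma.Narrow
import Cfsg.Agent.S1451

set_option autoImplicit false
open Cfsg

namespace Cfsg.Agent.S1415

open Subgroup Cfsg.Lib.Local Cfsg.Lib.Local.Uniq Cfsg.Lib.Local.Sigma
open scoped commutatorElement

universe u

variable {G : Type u} [Group G] [Finite G] {M E : Subgroup G}

theorem isZGroup_of_pRankLE (hodd : Odd (Nat.card G)) {H : Subgroup G}
    (hr : ∀ q : ℕ, q.Prime → q ∣ Nat.card H → Cfsg.PRankLE q 1 H) : IsZGroup H := by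
  refine ⟨fun q hq S => ?_⟩
  haveI : Fact q.Prime := ⟨hq⟩
  by_cases hb : (S : Subgroup H) = ⊥
  · rw [hb]; exact isCyclic_iff_exists_zpowers_eq_top.mpr ⟨1, Subsingleton.elim _ _⟩
  obtain ⟨i, hi⟩ := IsPGroup.iff_card.mp S.isPGroup'
  have hi0 : i ≠ 0 := fun h0 => hb (eq_bot_of_card_eq _ (by rw [hi, h0, pow_zero]))
  have hd : q ∣ Nat.card H := (dvd_pow_self q hi0).trans (hi ▸ card_subgroup_dvd_card _)
  have hq2 : q ≠ 2 := fun e => Nat.not_even_iff_odd.mpr hodd
    (even_iff_two_dvd.mpr (e ▸ hd.trans H.card_subgroup_dvd_card))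
  by_contra hnc
  have hnc' : ¬ IsCyclic ((S : Subgroup H).map H.subtype) := fun hc =>
    hnc (((S : Subgroup H).equivMapOfInjective _ H.subtype_injective).isCyclic.mpr hc)
  obtain ⟨W, hW, hWe, hWc⟩ := exists_sq hq2 (S.isPGroup'.map H.subtype) hnc'
  exact not_rankLE_of_elementary (hW.trans (map_subtype_le _)) hWe hWc.ge (hr q hq hd)

theorem mem_pPrimeCore_of_nilpotent {H : Type*} [Group H] [Finite H] [hn : Group.IsNilpotent H] {q : ℕ}
    [Fact q.Prime] {y : H} (hy : (orderOf y).Coprime q) : y ∈ Cfsg.pPrimeCore q H := by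
  set f := QuotientGroup.mk' (Cfsg.pPrimeCore q H)
  have htop : (⊤ : Subgroup H) = ⨆ t : Nat.Primes, Cfsg.pCore (t : ℕ) H := by
    rw [← Cfsg.Lib.Core.fittingSubgroup_eq_iSup_pCore, Cfsg.Lib.Core.fittingSubgroup_eq_top hn]
  have hle : (⊤ : Subgroup H).map f ≤ (Cfsg.pCore q H).map f := by
    rw [htop, Subgroup.map_iSup]
    refine iSup_le fun t => ?_
    haveI : Fact (t : ℕ).Prime := ⟨t.2⟩
    by_cases htq : (t : ℕ) = q
    · rw [htq]
    refine le_trans (le_of_eq ?_) bot_le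
    rw [Subgroup.map_eq_bot_iff, QuotientGroup.ker_mk']
    refine Cfsg.Lib.Core.le_pPrimeCore' inferInstance ?_
    obtain ⟨i, hi⟩ := IsPGroup.iff_card.mp (Cfsg.Lib.Core.pCore_isPGroup (t : ℕ) H)
    rw [hi]
    exact ((Nat.coprime_primes t.2 Fact.out).mpr htq).pow_left i
  obtain ⟨i, hi⟩ := IsPGroup.iff_card.mp ((Cfsg.Lib.Core.pCore_isPGroup q H).map f)
  rw [← QuotientGroup.eq_one_iff, ← orderOf_eq_one_iff]
  refine Nat.eq_one_of_dvd_coprimes (hy.pow_right i) (orderOf_map_dvd f y) ?_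
  rw [← hi, show ((y : H ⧸ Cfsg.pPrimeCore q H)) = f y from rfl,
    ← Subgroup.orderOf_mk (f y) (hle (mem_map_of_mem f (mem_top y)))]
  exact orderOf_dvd_natCard _

/-- A `τ₃` prime divides neither the index of `E'`. -/
theorem not_dvd_index (hG : Cfsg.IsMinSimpleOddOrder G) (h : Sigma.Compl M E) {p : ℕ} (hp : p ∈ Cfsg.tau3 M) :
    ¬ p ∣ (commutator ↥E).index := by
  obtain ⟨hpp, hσ, hd, hr⟩ := hp
  haveI : Fact p.Prime := ⟨hpp⟩
  have hdE := h.dvd_card_commutator hpp hσ hd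
  rw [← map_subtype_commutator, Cfsg.Lib.Core.card_map_subtype] at hdE
  obtain ⟨S⟩ : Nonempty (Sylow p E) := inferInstance
  haveI : IsCyclic (S : Subgroup E) := by
    have hp2 : p ≠ 2 := Uniq.ne_two hG
      ((hdE.trans (commutator ↥E).card_subgroup_dvd_card).trans E.card_subgroup_dvd_card)
    by_contra hnc
    have hnc' : ¬ IsCyclic ((S : Subgroup E).map E.subtype) := fun hc =>
      hnc (((S : Subgroup E).equivMapOfInjective _ E.subtype_injective).isCyclic.mpr hc)
    obtain ⟨W, hW, hWe, hWc⟩ := exists_sq hp2 (S.isPGroup'.map E.subtype) hnc'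
    exact not_rankLE_of_elementary ((hW.trans (map_subtype_le _)).trans h.le) hWe hWc.ge hr
  exact (Sylow.not_dvd_card_commutator_or_not_dvd_index_commutator S).resolve_left (not_not_intro hdE)

/-- Let G be a minimal simple group of odd order, M a maximal subgroup and E a complement to M_σ in M. Then the derived subgroup E' is nilpotent; every Hall τ₁(M)-subgroup of E is cyclic; and every Hall τ₃(M)-subgroup E₃ of E is cyclic, contained in E' and normal in E. -/
theorem result {G : Type*} [Group G] [Finite G] (hG : Cfsg.IsMinSimpleOddOrder G)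
    (M : Subgroup G) (hM : IsCoatom M) (E : Subgroup G) (hE : Cfsg.IsComplIn E (Cfsg.sigmaCore M) M) :
    Group.IsNilpotent ↥⁅E, E⁆ ∧
      (∀ E₁ : Subgroup G, Cfsg.IsPiHallOf (Cfsg.tau1 M) E₁ E → IsCyclic E₁) ∧
      ∀ E₃ : Subgroup G, Cfsg.IsPiHallOf (Cfsg.tau3 M) E₃ E → IsCyclic E₃ ∧ E₃ ≤ ⁅E, E⁆ ∧ E ≤ Subgroup.normalizer (E₃ : Set G) := by
  have h : Sigma.Compl M E := ⟨hM, hE⟩
  haveI := h.isSolvable hG
  obtain ⟨hnil, -, -⟩ := Cfsg.Agent.S1451.result (odd_subgroup hG E) (Or.inl (h.rankLE hG))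
  have hE' : ⁅E, E⁆ = (commutator ↥E).map E.subtype := (map_subtype_commutator E).symm
  have hnil' : Group.IsNilpotent ↥⁅E, E⁆ := hE' ▸ Cfsg.Lib.Core.isNilpotent_map hnil _
  refine ⟨hnil', fun E₁ hE₁ => ?_, fun E₃ hE₃ => ?_⟩
  · obtain ⟨hle, hπ, -⟩ := hE₁
    have hrk : ∀ q : ℕ, q.Prime → q ∣ Nat.card E₁ → Cfsg.PRankLE q 1 E₁ := fun q hq hd => by
      haveI : Fact q.Prime := ⟨hq⟩
      intro B hB hBp
      by_contra hlt
      have hel : Cfsg.IsElementaryAbelian q (B.map E₁.subtype) :=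
        Cfsg.Lib.PGroup.isElementaryAbelian_map ⟨hB, hBp⟩ _
      obtain ⟨i, hi⟩ := IsPGroup.iff_card.mp (Cfsg.Lib.PGroup.isPGroup_of_isElementaryAbelian hel)
      refine not_rankLE_of_elementary (k := 1) ((map_subtype_le _).trans (hle.trans h.le)) hel ?_
        (hπ q hq hd).2.2.2.2
      rw [Cfsg.Lib.Core.card_map_subtype] at hi ⊢
      rw [hi] at hlt ⊢
      exact Nat.pow_le_pow_right hq.pos (by by_contra hh; exact hlt (Nat.pow_le_pow_right hq.pos (by omega)))
    haveI := isZGroup_of_pRankLE hG.1 hrk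
    have hab : IsMulCommutative E₁ := by
      rw [← le_centralizer_iff_isMulCommutative, ← commutator_eq_bot_iff_le_centralizer]
      refine eq_bot_of_card_eq _ ?_
      by_contra hne
      obtain ⟨t, ht, htd⟩ := Nat.exists_prime_and_dvd hne
      exact (hπ t ht (htd.trans (card_dvd_of_le ((map_subtype_commutator E₁).symm.le.trans (map_subtype_le _))))).2.2.2.1
        (htd.trans (card_dvd_of_le (commutator_mono (hle.trans h.le) (hle.trans h.le))))
    haveI : Group.IsNilpotent E₁ := Cfsg.Lib.Core.isNilpotent_of_isMulCommutative _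
    infer_instance
  · obtain ⟨hle, hπ, hidx⟩ := hE₃
    have hrk : ∀ q : ℕ, q.Prime → q ∣ Nat.card E₃ → Cfsg.PRankLE q 1 E₃ := fun q hq hd => by
      haveI : Fact q.Prime := ⟨hq⟩
      intro B hB hBp
      by_contra hlt
      have hel : Cfsg.IsElementaryAbelian q (B.map E₃.subtype) :=
        Cfsg.Lib.PGroup.isElementaryAbelian_map ⟨hB, hBp⟩ _
      obtain ⟨i, hi⟩ := IsPGroup.iff_card.mp (Cfsg.Lib.PGroup.isPGroup_of_isElementaryAbelian hel)
      refine not_rankLE_of_elementary (k := 1) ((map_subtype_le _).trans (hle.trans h.le)) hel ?_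
        (hπ q hq hd).2.2.2
      rw [Cfsg.Lib.Core.card_map_subtype] at hi ⊢
      rw [hi] at hlt ⊢
      exact Nat.pow_le_pow_right hq.pos (by by_contra hh; exact hlt (Nat.pow_le_pow_right hq.pos (by omega)))
    haveI := isZGroup_of_pRankLE hG.1 hrk
    -- `E₃` lies in `E'`
    have h3 : E₃ ≤ ⁅E, E⁆ := by
      rw [hE']
      intro x hx
      refine ⟨⟨x, hle hx⟩, ?_, rfl⟩
      show (⟨x, hle hx⟩ : E) ∈ commutator ↥E
      rw [← QuotientGroup.eq_one_iff, ← orderOf_eq_one_iff]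
      refine Nat.eq_one_of_dvd_coprimes (a := Nat.card E₃) (b := (commutator ↥E).index) ?_ ?_ ?_
      · exact Nat.coprime_of_dvd fun t ht h1 h2 => not_dvd_index hG h (hπ t ht h1) h2
      · refine (orderOf_map_dvd (QuotientGroup.mk' (commutator ↥E)) _).trans ?_
        rw [Subgroup.orderOf_mk, ← Subgroup.orderOf_mk x hx]
        exact orderOf_dvd_natCard _
      · rw [index_eq_card]
        exact orderOf_dvd_natCard _
    haveI : Group.IsNilpotent E₃ := Cfsg.Lib.Core.isNilpotent_of_le h3 hnil'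
    refine ⟨inferInstance, h3, ?_⟩
    set N := (Cfsg.piCore (Cfsg.tau3 M) ↥(commutator ↥E)).map (commutator ↥E).subtype
    haveI : N.Normal := by
      haveI : (Cfsg.piCore (Cfsg.tau3 M) ↥(commutator ↥E)).Characteristic :=
        characteristic_iff_map_le.mpr fun e => (Cfsg.Lib.Core.map_piCore_equiv e).le
      exact Cfsg.Lib.Core.normal_map_char_of_normal _
    have hsub : (E₃.subgroupOf E).subgroupOf (commutator ↥E) ≤ Cfsg.piCore (Cfsg.tau3 M) ↥(commutator ↥E) := by
      intro z hz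
      haveI := hnil
      obtain ⟨K, hKn, hK1, hK2⟩ := Sigma.exists_complement_all (G := ↥(commutator ↥E))
        {q | q.Prime ∧ q ∣ Nat.card ↥(commutator ↥E) ∧ q ∉ Cfsg.tau3 M} fun q hq => ⟨hq.1, by
          haveI : Fact q.Prime := ⟨hq.1⟩
          intro y hy
          exact mem_pPrimeCore_of_nilpotent hy⟩
      refine Cfsg.Lib.Core.le_piCore' hKn (fun t ht hd => by_contra fun hn =>
        hK1 t ⟨ht, hd.trans K.card_subgroup_dvd_card, hn⟩ hd) (hK2 z fun q hq => ?_)
      refine Nat.Coprime.coprime_dvd_left ?_ (hq.1.coprime_iff_not_dvd.mpr fun hd => hq.2.2 (hπ q hq.1 hd)).symm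
      rw [← Subgroup.orderOf_coe, ← Subgroup.orderOf_coe, ← Subgroup.orderOf_mk ((z : E) : G) hz]
      exact orderOf_dvd_natCard _
    have hNE : E₃ = N.map E.subtype := by
      have hle3 : E₃ ≤ N.map E.subtype := fun x hx => by
        obtain ⟨y, hy, rfl⟩ := hE' ▸ h3 hx
        exact mem_map_of_mem _ ⟨⟨y, hy⟩, hsub hx, rfl⟩
      refine le_antisymm hle3 (relIndex_eq_one.mp ?_)
      by_contra hne
      obtain ⟨t, ht, htd⟩ := Nat.exists_prime_and_dvd hne
      refine hidx t ht ?_ ?_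
      · refine Cfsg.Lib.Core.piCore_isPiSub (Cfsg.tau3 M) ↥(commutator ↥E) t ht ?_
        rw [← Cfsg.Lib.Core.card_map_subtype (Cfsg.piCore (Cfsg.tau3 M) ↥(commutator ↥E))]
        have := htd.trans (relIndex_dvd_card _ _)
        rwa [Cfsg.Lib.Core.card_map_subtype] at this
      · rw [← relIndex_mul_relIndex E₃ (N.map E.subtype) E hle3 (map_subtype_le _)]
        exact htd.trans (dvd_mul_right _ _)
    rw [hNE]
    exact le_normalizer_map_normal _

end Cfsg.Agent.S1415
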