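import Cfsg.Statements.S1420
import Cfsg.Agent.Lib.Local.Sigma.TauTwoAction
import Cfsg.Agent.S1415
import Cfsg.Agent.S1400

set_option autoImplicit false
open Cfsg

namespace Cfsg.Agent.S1420

open Subgroup Cfsg.Lib Cfsg.Lib.Local Cfsg.Lib.Local.Uniq Cfsg.Lib.Local.Sigma

/-- Let G be a minimal simple group of odd order, M a maximal subgroup and E a complement to M_σ in M. Then every nilpotent subgroup of M whose order involves no prime of σ(M) is abelian; E' is abelian; for p ∈ σ(M) and every noncyclic p-subgroup P of M, N_G(P) ≤ M; and if x ≠ 1 in M has every prime divisor of its order in τ₂(M) and centralizes a non-identity element of M_σ, then C_G(x) ≤ M and M is the unique maximal subgroup containing C_G(x). -/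
theorem result {G : Type*} [Group G] [Finite G] (hG : Cfsg.IsMinSimpleOddOrder G)
    (M : Subgroup G) (hM : IsCoatom M) (E : Subgroup G) (hE : Cfsg.IsComplIn E (Cfsg.sigmaCore M) M) :
    (∀ N : Subgroup G, N ≤ M → Group.IsNilpotent N → (∀ p : ℕ, p.Prime → p ∣ Nat.card N → p ∉ Cfsg.sigma M) → IsMulCommutative N) ∧
      IsMulCommutative ↥⁅E, E⁆ ∧
      (∀ (p : ℕ) (P : Subgroup G), p ∈ Cfsg.sigma M → IsPGroup p P → P ≤ M → ¬ IsCyclic P → Subgroup.normalizer (P : Set G) ≤ M) ∧
      ∀ x ∈ M, x ≠ 1 → (∀ p : ℕ, p.Prime → p ∣ orderOf x → p ∈ Cfsg.tau2 M) → x ∈ Cfsg.sigmaHat M →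
        Subgroup.centralizer ({x} : Set G) ≤ M ∧ ∀ L : Subgroup G, IsCoatom L → Subgroup.centralizer ({x} : Set G) ≤ L → L = M := by
  have hcE : Compl M E := ⟨hM, hE⟩
  have hnil : ∀ N : Subgroup G, N ≤ M → Group.IsNilpotent N →
      (∀ p : ℕ, p.Prime → p ∣ Nat.card N → p ∉ Cfsg.sigma M) → IsMulCommutative N := by
    intro N hNM hN hσ
    refine ⟨⟨fun a b => Subtype.ext ?_⟩⟩
    refine mem_centralizer_singleton_iff.mp (show (a : G) ∈ centralizer ({(b : G)} : Set G) from ?_)
    refine Cfsg.Lib.PGroup.mem_of_ordCompl_pow_mem fun q hq hd => ?_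
    haveI : Fact q.Prime := ⟨hq⟩
    refine mem_centralizer_singleton_iff.mpr ?_
    set c := (a : G) ^ (orderOf (a : G) / q ^ (orderOf (a : G)).factorization q) with hc
    suffices h : (b : G) ∈ centralizer ({c} : Set G) from (mem_centralizer_singleton_iff.mp h).symm
    refine Cfsg.Lib.PGroup.mem_of_ordCompl_pow_mem fun r hr hd' => ?_
    haveI : Fact r.Prime := ⟨hr⟩
    refine mem_centralizer_singleton_iff.mpr ?_
    set d := (b : G) ^ (orderOf (b : G) / r ^ (orderOf (b : G)).factorization r)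
    have hcN : c ∈ N := pow_mem a.2 _
    have hdN : d ∈ N := pow_mem b.2 _
    have htop := Core.fittingSubgroup_eq_top hN
    have hcR : (⟨c, hcN⟩ : N) ∈ Cfsg.pCore q N := NarrowAut.mem_pCore_of_fitting (by rw [htop]; exact mem_top _)
      _ (by rw [Subgroup.orderOf_mk]; exact Cfsg.Lib.PGroup.orderOf_ordCompl_pow hq)
    have hdR : (⟨d, hdN⟩ : N) ∈ Cfsg.pCore r N := NarrowAut.mem_pCore_of_fitting (by rw [htop]; exact mem_top _)
      _ (by rw [Subgroup.orderOf_mk]; exact Cfsg.Lib.PGroup.orderOf_ordCompl_pow hr)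
    rcases eq_or_ne q r with rfl | hqr
    · haveI := isMulCommutative_of_not_sigma hG hM (hσ q hq (hd.trans (Subgroup.orderOf_dvd_natCard _ a.2)))
        ((Core.pCore_isPGroup q N).map N.subtype) ((map_subtype_le _).trans hNM)
      exact congrArg Subtype.val (mul_comm' (⟨d, _, hdR, rfl⟩ : (Cfsg.pCore q N).map N.subtype) ⟨c, _, hcR, rfl⟩)
    · exact mem_centralizer_iff.mp
        (core_commute N hqr (mem_map_of_mem N.subtype hcR)) d (mem_map_of_mem N.subtype hdR)
  refine ⟨hnil, ?_, ?_, ?_⟩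
  · have hle : ⁅E, E⁆ ≤ E := (map_subtype_commutator E).symm.le.trans (map_subtype_le _)
    exact hnil _ (hle.trans hcE.le) (Cfsg.Agent.S1415.result hG M hM E hE).1
      fun p hp hd => hcE.not_mem_sigma hG hp (hd.trans (card_dvd_of_le hle))
  · intro p P hσ hP hPM hnc
    haveI : Fact p.Prime := ⟨hσ.1⟩
    have hp2 : p ≠ 2 := Local.Uniq.ne_two hG (hσ.2.1.trans M.card_subgroup_dvd_card)
    obtain ⟨W, hWP, hW, hWc⟩ := exists_sq hp2 hP hnc
    have hC : centralizer (P : Set G) ≤ M :=
      (centralizer_le hWP).trans (Cfsg.Agent.S1416.result hG M hM p W ⟨hWP.trans hPM, hW, hWc⟩).1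
    intro g hg
    obtain ⟨m, hm, c, hc, rfl⟩ := fusion_of_le hG hM hσ hP hPM (g := g)
      (by rw [cj, Core.map_conj_eq_of_mem_normalizer hg]; exact hPM)
    exact mul_mem hm (hC hc)
  · intro x hxM hx1 hxτ hxhat
    obtain ⟨-, w, hw, hw1, hxw⟩ := hxhat
    set p := (orderOf x).minFac
    have hp : p.Prime := Nat.minFac_prime fun h => hx1 (orderOf_eq_one_iff.mp h)
    haveI : Fact p.Prime := ⟨hp⟩
    have hpτ := hxτ p hp (Nat.minFac_dvd _)
    obtain ⟨E', hE', hxE'⟩ := exists_compl_ge hG hM (zpowers_le.mpr hxM) fun t ht hd => by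
      rw [Nat.card_zpowers] at hd
      exact (hxτ t ht hd).2.1
    obtain ⟨A, hAE, hA⟩ := hE'.exists_tau_two hG hpτ
    have hxA : x ∈ centralizer (A : Set G) := by
      refine Cfsg.Lib.PGroup.mem_of_ordCompl_pow_mem fun q hq hd => ?_
      haveI : Fact q.Prime := ⟨hq⟩
      set c := x ^ (orderOf x / q ^ (orderOf x).factorization q)
      have hcE' : c ∈ E' := pow_mem (hxE' (mem_zpowers x)) _
      have hcA : c ∈ normalizer (A : Set G) := (hA.compl_structure hG hE' hAE).2 hcE'
      have hcq : c ^ q ^ (orderOf x).factorization q = 1 := by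
        rw [← Cfsg.Lib.PGroup.orderOf_ordCompl_pow (g := x) hq]; exact pow_orderOf_eq_one _
      rcases (Nat.minFac_le_of_dvd hq.two_le hd).lt_or_eq with hlt | heq
      · exact mem_centralizer_of_gt (hA.ne_two hG) hA.elem hA.card.le hlt hcq hcA
      · refine hA.pGroup_le hG (P := zpowers c ⊔ A) (IsPGroup.to_sup_of_normal_right' ?_ hA.isPGroup
          (zpowers_le.mpr hcA)) (sup_le (zpowers_le.mpr (hE'.le hcE')) hA.le) le_sup_right
          (mem_sup_left (mem_zpowers c))
        refine IsPGroup.of_card (n := (orderOf x).factorization q) ?_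
        rw [Nat.card_zpowers, Cfsg.Lib.PGroup.orderOf_ordCompl_pow hq]
        exact congrArg (fun n : ℕ => n ^ (orderOf x).factorization q) heq.symm
    have key : ∀ L : Subgroup G, IsCoatom L → centralizer ({x} : Set G) ≤ L → L = M := by
      intro L hL hle
      by_contra hne
      refine hw1 (mem_bot.mp ((hA.inter hG hL hne fun a ha => hle ?_).le
        ⟨hw, hle (mem_centralizer_singleton_iff.mpr hxw.symm)⟩))
      exact mem_centralizer_singleton_iff.mpr (mem_centralizer_iff.mp hxA a ha)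
    obtain ⟨L, hL, hle⟩ := exists_coatom (OddTransitivity.centralizer_ne_top hG hx1)
    exact ⟨key L hL hle ▸ hle, key⟩

end Cfsg.Agent.S1420
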