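import Cfsg.Statements.S1421
import Cfsg.Agent.Lib.Local.Sigma.TauTwoFree
import Cfsg.Agent.S1420

set_option autoImplicit false
open Cfsg

namespace Cfsg.Agent.S1421

open Subgroup Cfsg.Lib Cfsg.Lib.Local Cfsg.Lib.Local.Uniq Cfsg.Lib.Local.Sigma

/-- Let G be a minimal simple group of odd order, M a maximal subgroup and E a complement to M_σ in M. Suppose that every non-identity element e of E all of whose order's prime divisors lie in τ₁(M) ∪ τ₃(M) has M_σ ∩ C_G(e) = 1. Then E has an abelian normal subgroup A₀ with E ∩ C_G(x) ≤ A₀ for every non-identity x ∈ M_σ, and E has a subgroup E₀ of the same exponent as E such that no non-identity element of E₀ centralizes a non-identity element of M_σ. -/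
theorem result {G : Type*} [Group G] [Finite G] (hG : Cfsg.IsMinSimpleOddOrder G)
    (M : Subgroup G) (hM : IsCoatom M) (E : Subgroup G) (hE : Cfsg.IsComplIn E (Cfsg.sigmaCore M) M)
    (h : ∀ e ∈ E, e ≠ 1 → (∀ p : ℕ, p.Prime → p ∣ orderOf e → p ∈ Cfsg.tau1 M ∪ Cfsg.tau3 M) →
      Cfsg.sigmaCore M ⊓ Subgroup.centralizer ({e} : Set G) = ⊥) :
    (∃ A₀ : Subgroup G, A₀ ≤ E ∧ E ≤ Subgroup.normalizer (A₀ : Set G) ∧ IsMulCommutative A₀ ∧
        ∀ x ∈ Cfsg.sigmaCore M, x ≠ 1 → E ⊓ Subgroup.centralizer ({x} : Set G) ≤ A₀) ∧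
      ∃ E₀ : Subgroup G, E₀ ≤ E ∧ Monoid.exponent E₀ = Monoid.exponent E ∧
        ∀ e ∈ E₀, e ≠ 1 → Cfsg.sigmaCore M ⊓ Subgroup.centralizer ({e} : Set G) = ⊥ := by
  have hcE : Compl M E := ⟨hM, hE⟩
  have hfix : ∀ (r : ℕ) (c : G), r.Prime → r ∉ Cfsg.tau2 M → c ∈ E → c ^ r = 1 → c ≠ 1 →
      Cfsg.sigmaCore M ⊓ centralizer ({c} : Set G) = ⊥ := by
    intro r c hr hrτ hcE' hcr hc1
    haveI : Fact r.Prime := ⟨hr⟩
    refine h c hcE' hc1 fun t ht hd => ?_
    rw [orderOf_eq_prime hcr hc1, Nat.prime_dvd_prime_iff_eq ht hr] at hd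
    subst t
    have hrE : r ∣ Nat.card E := (orderOf_eq_prime hcr hc1).symm.dvd.trans
      (Subgroup.orderOf_dvd_natCard E hcE')
    have hrσ := hcE.not_mem_sigma hG hr hrE
    have hr1 : Cfsg.PRankLE r 1 M := by
      by_contra hn
      exact hrτ ⟨hr, hrσ, by_contra fun hr2 => hrσ (alpha_sub_sigma hG hM hr2), hn⟩
    by_cases hd : r ∣ Nat.card ↥⁅M, M⁆
    · exact Or.inr ⟨hr, hrσ, hd, hr1⟩
    · exact Or.inl ⟨hr, hrσ, hrE.trans (card_dvd_of_le hcE.le), hd, hr1⟩
  have hF : IsMulCommutative (Cfsg.fittingOf E) :=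
    (Cfsg.Agent.S1420.result hG M hM E hE).1 _ ((fitting_le E).trans hcE.le) (fitting_isNilpotent E)
      fun p hp hd => hcE.not_mem_sigma hG hp (hd.trans (card_dvd_of_le (fitting_le E)))
  refine ⟨⟨Cfsg.fittingOf E, fitting_le E, ?_, hF, fun x hx hx1 e he => ?_⟩, ?_⟩
  · exact le_normalizer_map_normal _
  · refine Cfsg.Lib.PGroup.mem_of_ordCompl_pow_mem fun r hr hd => ?_
    haveI : Fact r.Prime := ⟨hr⟩
    set k := (orderOf e).factorization r with hk
    set c := e ^ (orderOf e / r ^ (orderOf e).factorization r)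
    have hco : orderOf c = r ^ k := Cfsg.Lib.PGroup.orderOf_ordCompl_pow hr
    have hk0 : k ≠ 0 := (hr.factorization_pos_of_dvd (orderOf_pos e).ne' hd).ne'
    obtain ⟨m, hm⟩ := Nat.exists_eq_succ_of_ne_zero hk0
    have hcE' : c ∈ E := pow_mem he.1 _
    have hz1 : c ^ r ^ m ≠ 1 := fun e' => by
      have h1 := orderOf_dvd_of_pow_eq_one e'
      rw [hco, hm] at h1
      have := (Nat.pow_dvd_pow_iff_le_right hr.one_lt).mp h1
      omega
    have hzp : (c ^ r ^ m) ^ r = 1 := by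
      rw [← pow_mul, ← pow_succ, ← Nat.succ_eq_add_one, ← hm, ← hco, pow_orderOf_eq_one]
    have hex : ∀ j : ℕ, Cfsg.sigmaCore M ⊓ centralizer ({c ^ j} : Set G) ≠ ⊥ := fun j h0 => hx1 (mem_bot.mp
      (h0.le (Subgroup.mem_inf.mpr ⟨hx, mem_centralizer_singleton_iff.mpr
        (((show Commute x e from (mem_centralizer_singleton_iff.mp he.2).symm).pow_right _).pow_right j).eq⟩)))
    have hrτ : r ∈ Cfsg.tau2 M := by_contra fun hrτ =>
      hex _ (hfix r _ hr hrτ (pow_mem hcE' _) hzp hz1)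
    obtain ⟨A, hAE, hA⟩ := hcE.exists_tau_two hG hrτ
    obtain ⟨P, hUP, hPE, hP, hPi, hPC⟩ := hA.exists_sylow_compl hG hcE
      (IsPGroup.to_sup_of_normal_right' (IsPGroup.of_card (n := k) (by rw [Nat.card_zpowers, hco]) :
          IsPGroup r (zpowers c)) hA.isPGroup (zpowers_le.mpr ((hA.compl_structure hG hcE hAE).2 hcE')))
      le_sup_right (sup_le (zpowers_le.mpr hcE') hAE)
    have hcP : c ∈ P := hUP (mem_sup_left (mem_zpowers c))
    have hAP : A ≤ P := le_sup_right.trans hUP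
    have hnormal : ∀ N : Subgroup G, N ≤ E → IsPGroup r N → E ≤ normalizer (N : Set G) → c ∈ N →
        c ∈ Cfsg.fittingOf E := fun N hNE hN hEN hcN => by
      haveI : (N.subgroupOf E).Normal := (normal_subgroupOf_iff_le_normalizer hNE).mpr hEN
      exact ⟨⟨c, hNE hcN⟩, Core.le_fittingSubgroup
        (hN.of_equiv (subgroupOfEquivOfLe hNE).symm : IsPGroup r (N.subgroupOf E)).isNilpotent hcN, rfl⟩
    by_cases hab : ∀ T : Sylow r G, IsMulCommutative (T : Subgroup G)
    · exact hnormal P hPE hP (hA.le_normalizer_sylow hG hcE hAP hP hPE hPi hPC hab) hcP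
    have hna : ∀ T : Sylow r G, ¬ IsMulCommutative (T : Subgroup G) := fun T hT => hab fun T' => by
      haveI := hT; exact sylow_abelian_all T T'
    refine hnormal A hAE hA.isPGroup (hA.compl_structure hG hcE hAE).2 ?_
    rcases Nat.eq_zero_or_pos m with rfl | hm0
    · rw [pow_zero, pow_one] at hzp
      exact hA.maximal hG hzp (hPC hcP)
    · exact absurd (hA.regular_of_power hG hna hAP hP (hPE.trans hcE.le) hPi hPC hcP hm0.ne' hz1 hzp).1 (hex _)
  by_cases hab : ∀ r : ℕ, r ∈ Cfsg.tau2 M → ∀ T : Sylow r G, IsMulCommutative (T : Subgroup G)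
  · exact exists_free_of_abelian hG hcE hfix hab hF
  push Not at hab
  obtain ⟨p, hp, T, hT⟩ := hab
  haveI : Fact p.Prime := ⟨hp.1⟩
  obtain ⟨A, hAE, hA⟩ := hcE.exists_tau_two hG hp
  refine hA.exists_free_of_single hG hcE hAE hfix (Cfsg.Agent.S1419.result hG M hM E hE p hp (fun S hS => hT ?_) A
    ⟨hAE, hA.elem, hA.card⟩).1
  haveI := hS
  exact sylow_abelian_all S T

end Cfsg.Agent.S1421
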