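import Cfsg.Statements.S1423
import Cfsg.Agent.Lib.Local.Sigma.CentralizerUnique

set_option autoImplicit false
open Cfsg

namespace Cfsg.Agent.S1423

open Subgroup Cfsg.Lib Cfsg.Lib.Local Cfsg.Lib.Local.Uniq Cfsg.Lib.Local.Sigma
open scoped commutatorElement

/-- Let G be a minimal simple group of odd order, M a maximal subgroup, p ∈ σ(M), X ≤ M a subgroup of order p and P a Sylow p-subgroup of M_σ. If p ∈ β(M) or X ≤ (M_σ)', then C_G(X) ≤ M, M is the unique maximal subgroup containing C_G(X), and M is the unique maximal subgroup containing P. -/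
theorem result {G : Type*} [Group G] [Finite G] (hG : Cfsg.IsMinSimpleOddOrder G)
    (M : Subgroup G) (hM : IsCoatom M) (p : ℕ) [Fact p.Prime] (hp : p ∈ Cfsg.sigma M) (X : Subgroup G) (hXM : X ≤ M) (hX : Nat.card X = p)
    (P : Sylow p ↥(Cfsg.sigmaCore M)) (h : p ∈ Cfsg.beta M ∨ X ≤ ⁅Cfsg.sigmaCore M, Cfsg.sigmaCore M⁆) :
    (Subgroup.centralizer (X : Set G) ≤ M ∧ ∀ L : Subgroup G, IsCoatom L → Subgroup.centralizer (X : Set G) ≤ L → L = M) ∧ Cfsg.InUniqueMaximal ((P : Subgroup ↥(Cfsg.sigmaCore M)).map (Cfsg.sigmaCore M).subtype) ∧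
      (P : Subgroup ↥(Cfsg.sigmaCore M)).map (Cfsg.sigmaCore M).subtype ≤ M := by
  have hp' : p.Prime := Fact.out
  set PG := (P : Subgroup (Cfsg.sigmaCore M)).map (Cfsg.sigmaCore M).subtype with hPG
  have hKM : (Cfsg.sigmaCore M) ≤ M := sigmaCore_le M
  have hPp : IsPGroup p PG := P.isPGroup'.map _
  have hPi : ¬ p ∣ PG.index := by
    rw [hPG, index_map_subtype]
    intro hd
    rcases hp'.dvd_mul.mp hd with h1 | h1
    · exact P.not_dvd_index h1
    · exact not_dvd_index_sigmaCore hG hM hp h1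
  set T : Sylow p G := hPp.toSylow hPi
  have hT : (T : Subgroup G) = PG := rfl
  have hPM : PG ≤ M := (map_subtype_le _).trans hKM
  have hX1 : X ≠ ⊥ := fun e => by rw [e, card_bot] at hX; exact hp'.ne_one hX.symm
  have hXp : IsPGroup p X := IsPGroup.of_card (n := 1) (by rw [pow_one, hX])
  have hXK : X ≤ (Cfsg.sigmaCore M) := le_sigmaCore hG hM hp hXM hXp
  obtain ⟨S, hS⟩ := (hXp.of_equiv (subgroupOfEquivOfLe hXK).symm : IsPGroup p (X.subgroupOf (Cfsg.sigmaCore M))).exists_le_sylow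
  obtain ⟨g, hg⟩ := MulAction.exists_smul_eq (Cfsg.sigmaCore M) S P
  obtain ⟨x, hx, hx1⟩ := X.bot_or_exists_ne_one.resolve_left hX1
  have hxp : x ^ p = 1 := by
    rw [← hX]; exact congrArg Subtype.val (pow_card_eq_one' (x := (⟨x, hx⟩ : X)))
  set y : G := (g : G) * x * (g : G)⁻¹
  have hxS : (⟨x, hXK hx⟩ : (Cfsg.sigmaCore M)) ∈ (S : Subgroup (Cfsg.sigmaCore M)) := hS (mem_subgroupOf.mpr hx)
  have hyP : g * ⟨x, hXK hx⟩ * g⁻¹ ∈ (P : Subgroup (Cfsg.sigmaCore M)) := by
    rw [← hg, Sylow.coe_subgroup_smul]; exact ⟨_, hxS, rfl⟩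
  have hyT : y ∈ (T : Subgroup G) := ⟨_, hyP, rfl⟩
  have hy1 : y ≠ 1 := fun e => hx1 (conj_eq_one_iff.mp e)
  have hyp : y ^ p = 1 := by simp [y, conj_pow, hxp]
  have hcase : Cfsg.IsIdealPrime p G ∨ y ∈ ⁅(T : Subgroup G), (T : Subgroup G)⁆ := by
    rcases h with h | h
    · exact Or.inl h.2
    by_cases hβ : p ∈ Cfsg.beta M
    · exact Or.inl hβ.2
    right
    have hcl : PClosed p (Cfsg.sigmaCore M) := by
      refine PClosed.of_injective ((inclusion (sigmaCore_le_commutator hG hM)).comp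
        (Subgroup.equivMapOfInjective _ M.subtype M.subtype_injective).symm.toMonoidHom) ?_
        (structure_of_not_beta hG hM hp.2.1 hβ).2
      exact (inclusion_injective (sigmaCore_le_commutator hG hM)).comp
        (Subgroup.equivMapOfInjective _ M.subtype M.subtype_injective).symm.injective
    have hxd : (⟨x, hXK hx⟩ : (Cfsg.sigmaCore M)) ∈ commutator (Cfsg.sigmaCore M) := by
      obtain ⟨w, hw, he⟩ := (map_subtype_commutator (Cfsg.sigmaCore M)).symm ▸ h hx
      rwa [show (⟨x, hXK hx⟩ : (Cfsg.sigmaCore M)) = w from Subtype.ext he.symm]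
    have hyd : g * ⟨x, hXK hx⟩ * g⁻¹ ∈ commutator (Cfsg.sigmaCore M) :=
      (inferInstance : (commutator (Cfsg.sigmaCore M)).Normal).conj_mem _ hxd g
    have h1 := mem_map_of_mem (Cfsg.sigmaCore M).subtype (mem_derived_of_pClosed hcl P hyP hyd)
    rw [Subgroup.map_commutator] at h1
    exact h1
  obtain ⟨U, hU, hUT, hUC⟩ := exists_unique_centralized hG T hyT hyp hy1 hcase
  have hUM : U ≤ M := hUT.trans hPM
  have hXx : zpowers x = X := eq_of_le_of_card_ge (zpowers_le.mpr hx) (by rw [card_zpowers_eq hxp hx1, hX])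
  refine ⟨unique_centralizer_conj hG hM hX1 (hKM g.2) fun L hL hle => ?_,
    unique_of_le hU hUT (ne_top_of_isPGroup hG hPp), hPM⟩
  refine eq_of_unique hU hM hUM hL (hUC.trans (le_trans ?_ hle))
  rw [← hXx, cj_zpowers, CommutatorPLength.centralizer_zpowers]

end Cfsg.Agent.S1423
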