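import Cfsg.Statements.S1426
import Cfsg.Agent.Lib.Local.Sigma.CentralizerUnique
import Cfsg.Agent.S1423

set_option autoImplicit false
open Cfsg

namespace Cfsg.Agent.S1426

open Subgroup Cfsg.Lib Cfsg.Lib.Local Cfsg.Lib.Local.Uniq Cfsg.Lib.Local.Sigma
open scoped commutatorElement

/-- Let G be a minimal simple group of odd order, M a maximal subgroup and E a complement to M_σ in M. Then M_σ ∩ C_G(E) ≤ (M_σ)', the commutator subgroup [M_σ, E] equals M_σ, and for every g outside M the intersection M_σ ∩ gMg⁻¹ is cyclic, has no prime divisor in β(M), and meets (M_σ)' trivially. -/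
theorem result {G : Type*} [Group G] [Finite G] (hG : Cfsg.IsMinSimpleOddOrder G)
    (M : Subgroup G) (hM : IsCoatom M) (E : Subgroup G) (hE : Cfsg.IsComplIn E (Cfsg.sigmaCore M) M) :
    Cfsg.sigmaCore M ⊓ Subgroup.centralizer (E : Set G) ≤ ⁅Cfsg.sigmaCore M, Cfsg.sigmaCore M⁆ ∧
      ⁅Cfsg.sigmaCore M, E⁆ = Cfsg.sigmaCore M ∧
      ∀ g : G, g ∉ M → IsCyclic ↥(Cfsg.sigmaCore M ⊓ M.map (MulAut.conj g).toMonoidHom) ∧
        (∀ p : ℕ, p.Prime → p ∣ Nat.card ↥(Cfsg.sigmaCore M ⊓ M.map (MulAut.conj g).toMonoidHom) → p ∉ Cfsg.beta M) ∧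
        Cfsg.sigmaCore M ⊓ M.map (MulAut.conj g).toMonoidHom ⊓ ⁅Cfsg.sigmaCore M, Cfsg.sigmaCore M⁆ = ⊥ := by
  have hcE : Compl M E := ⟨hM, hE⟩
  set K := Cfsg.sigmaCore M with hKdef
  have hKM : K ≤ M := sigmaCore_le M
  haveI hMs : Group.IsSolvable M := hG.2.2.2 M hM.1
  have hEK : E ≤ normalizer (K : Set G) := hcE.le.trans (le_normalizer_sigmaCore M)
  have hKKle : ⁅K, K⁆ ≤ K := Subgroup.commutator_le.mpr fun a ha b hb => by
    rw [commutatorElement_def]; exact mul_mem (mul_mem (mul_mem ha hb) (inv_mem ha)) (inv_mem hb)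
  have hKEle : ⁅K, E⁆ ≤ K := Cfsg.Lib.Coprime.commutator_le_of_le_normalizer hEK
  have hKKn : M ≤ normalizer ((⁅K, K⁆ : Subgroup G) : Set G) :=
    (le_normalizer_sigmaCore M).trans (Cfsg.Lib.Sig.le_normalizer_of_invariant fun g hg y hy => by
      have h1 : (⁅K, K⁆).map (MulAut.conj g).toMonoidHom = ⁅K, K⁆ := by
        rw [Subgroup.map_commutator, Core.map_conj_eq_of_mem_normalizer hg]
      exact h1 ▸ mem_map_of_mem (MulAut.conj g).toMonoidHom hy)
  have hKEn : M ≤ normalizer ((⁅K, E⁆ : Subgroup G) : Set G) := by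
    conv_lhs => rw [← hcE.sup_eq]
    exact sup_le (normalizer_commutator_ge_left K E) (normalizer_commutator_ge_right K E)
  have hgen : K ≤ ⁅K, E⁆ ⊔ ⁅K, K⁆ := by
    set N := ⁅K, E⁆ ⊔ ⁅K, K⁆
    have hNK : N ≤ K := sup_le hKEle hKKle
    have hNn : M ≤ normalizer (N : Set G) := (le_inf hKEn hKKn).trans fun g hg => by
      rw [Core.mem_normalizer_iff_map_conj, Subgroup.map_sup, Core.map_conj_eq_of_mem_normalizer hg.1,
        Core.map_conj_eq_of_mem_normalizer hg.2]
    haveI : (N.subgroupOf M).Normal := (normal_subgroupOf_iff_le_normalizer (hNK.trans hKM)).mpr hNn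
    set f := QuotientGroup.mk' (N.subgroupOf M)
    have hcen : ∀ (b : M), (b : G) ∈ K → ∀ y : M, f b * f y = f y * f b := by
      intro b hb y
      obtain ⟨a, ha, c, hc, e⟩ := hE.2.2.2 (y : G) y.2
      have hy : y = ⟨a, hcE.le ha⟩ * ⟨c, hKM hc⟩ := Subtype.ext e
      have h1 : f ⁅b, (⟨a, hcE.le ha⟩ : M)⁆ = 1 :=
        (QuotientGroup.eq_one_iff _).mpr (mem_subgroupOf.mpr (mem_sup_left (commutator_mem_commutator hb ha)))
      have h2 : f ⁅b, (⟨c, hKM hc⟩ : M)⁆ = 1 :=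
        (QuotientGroup.eq_one_iff _).mpr (mem_subgroupOf.mpr (mem_sup_right (commutator_mem_commutator hb hc)))
      rw [map_commutatorElement, commutatorElement_eq_one_iff_mul_comm] at h1 h2
      rw [hy, map_mul, ← mul_assoc, h1, mul_assoc, h2, ← mul_assoc]
    have hEEle : ⁅E, E⁆ ≤ E := (map_subtype_commutator E).symm.le.trans (map_subtype_le _)
    have hder : ⁅M, M⁆ ≤ N ⊔ ⁅E, E⁆ := Subgroup.commutator_le.mpr fun x hx y hy => by
      obtain ⟨a, ha, b, hb, rfl⟩ := hE.2.2.2 x hx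
      obtain ⟨c, hc, d, hd, rfl⟩ := hE.2.2.2 y hy
      have h1 : f ⁅(⟨a, hcE.le ha⟩ * ⟨b, hKM hb⟩ : M), ⟨c, hcE.le hc⟩ * ⟨d, hKM hd⟩⁆ =
          f ⁅(⟨a, hcE.le ha⟩ : M), ⟨c, hcE.le hc⟩⁆ := by
        rw [map_commutatorElement, map_commutatorElement, map_mul, map_mul]
        have hb' : ∀ z : M, f (⟨b, hKM hb⟩ : M) * f z = f z * f (⟨b, hKM hb⟩ : M) := hcen _ hb
        have hd' : ∀ z : M, f (⟨d, hKM hd⟩ : M) * f z = f z * f (⟨d, hKM hd⟩ : M) := hcen _ hd
        generalize hA : f (⟨a, hcE.le ha⟩ : M) = A'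
        generalize hC : f (⟨c, hcE.le hc⟩ : M) = C'
        generalize hB : f (⟨b, hKM hb⟩ : M) = B' at hb'
        generalize hD : f (⟨d, hKM hd⟩ : M) = D' at hd'
        have e1 : B' * (C' * D') = (C' * D') * B' := by rw [← hC, ← hD, ← map_mul]; exact hb' _
        have e2 : D' * A'⁻¹ = A'⁻¹ * D' := by rw [← hA, ← map_inv]; exact hd' _
        calc ⁅A' * B', C' * D'⁆ = A' * (B' * (C' * D')) * B'⁻¹ * A'⁻¹ * D'⁻¹ * C'⁻¹ := by
              simp only [commutatorElement_def]; group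
          _ = A' * C' * (D' * A'⁻¹) * D'⁻¹ * C'⁻¹ := by rw [e1]; group
          _ = ⁅A', C'⁆ := by rw [e2]; simp [commutatorElement_def, mul_assoc]
      have h2 : ⁅a, c⁆⁻¹ * ⁅a * b, c * d⁆ ∈ N := mem_subgroupOf.mp (QuotientGroup.eq.mp h1.symm)
      have h3 : ⁅a * b, c * d⁆ = ⁅a, c⁆ * (⁅a, c⁆⁻¹ * ⁅a * b, c * d⁆) := by group
      rw [h3]
      exact mul_mem (mem_sup_right (commutator_mem_commutator ha hc)) (mem_sup_left h2)
    intro x hx
    have h1 : x ∈ ⁅M, M⁆ := by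
      obtain ⟨z, hz, rfl⟩ := hx
      rw [← map_subtype_commutator M]
      exact mem_map_of_mem _ (sigmaCore_le_commutator hG hM hz)
    obtain ⟨n, hn, e, he, hxe⟩ := Cfsg.Lib.Coprime.exists_mul_of_mem_sup
      ((hEEle.trans hcE.le).trans hNn) (hder h1)
    have heK : e ∈ K := by
      have := mul_mem (inv_mem (hNK hn)) hx
      rwa [hxe, inv_mul_cancel_left] at this
    rw [hxe, mem_bot.mp (hE.2.2.1.le ⟨hEEle he, heK⟩), mul_one]
    exact hn
  have hKE : ⁅K, E⁆ = K := by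
    refine le_antisymm hKEle ?_
    set L := (⁅K, E⁆).subgroupOf K
    haveI : L.Normal := (normal_subgroupOf_iff_le_normalizer hKEle).mpr (normalizer_commutator_ge_left K E)
    haveI : Group.IsSolvable K := Core.isSolvable_of_le hKM hMs
    suffices h : L = ⊤ by exact subgroupOf_eq_top.mp h
    by_contra hne
    haveI : Nontrivial (K ⧸ L) := QuotientGroup.nontrivial_iff.mpr hne
    refine (Group.IsSolvable.commutator_lt_top_of_nontrivial (K ⧸ L)).ne (top_le_iff.mp fun y _ => ?_)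
    obtain ⟨⟨x, hx⟩, rfl⟩ := QuotientGroup.mk'_surjective L y
    obtain ⟨a, ha, b, hb, hab⟩ := Cfsg.Lib.Coprime.exists_mul_of_mem_sup
      ((hKKle.trans hKM).trans hKEn) (hgen hx)
    obtain ⟨w, hw, hwe⟩ := (map_subtype_commutator K).symm ▸ hb
    have hxe : (⟨x, hx⟩ : K) = ⟨a, hKEle ha⟩ * w := Subtype.ext (by simp [hab, ← hwe])
    rw [hxe, map_mul, show QuotientGroup.mk' L (⟨a, hKEle ha⟩ : K) = 1 from
      (QuotientGroup.eq_one_iff _).mpr (mem_subgroupOf.mpr ha), one_mul]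
    have h1 := mem_map_of_mem (QuotientGroup.mk' L) hw
    rw [_root_.commutator_def, Subgroup.map_commutator,
      Subgroup.map_top_of_surjective _ (QuotientGroup.mk'_surjective L)] at h1
    exact h1
  refine ⟨?_, hKE, fun g hg => ?_⟩
  · haveI : ((⁅K, K⁆).subgroupOf M).Normal :=
      (normal_subgroupOf_iff_le_normalizer (hKKle.trans hKM)).mpr hKKn
    set f := QuotientGroup.mk' ((⁅K, K⁆).subgroupOf M)
    set Kb := (K.subgroupOf M).map f
    set Eb := (E.subgroupOf M).map f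
    haveI : IsMulCommutative Kb := ⟨⟨by
      rintro ⟨_, ⟨y, hy, rfl⟩⟩ ⟨_, ⟨w, hw, rfl⟩⟩
      refine Subtype.ext (commutatorElement_eq_one_iff_mul_comm.mp ?_)
      rw [← map_commutatorElement]
      exact (QuotientGroup.eq_one_iff _).mpr (mem_subgroupOf.mpr (commutator_mem_commutator hy hw))⟩⟩
    have hn : Eb ≤ normalizer (Kb : Set _) := by
      refine le_trans (map_mono fun y hy => ?_) (le_normalizer_map f)
      refine mem_normalizer_iff.mpr fun w => ?_
      simp only [mem_subgroupOf, Subgroup.coe_mul, Subgroup.coe_inv]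
      exact mem_normalizer_iff.mp (hEK hy) w
    have hcop : (Nat.card Eb).Coprime (Nat.card Kb) := by
      refine ((hcE.coprime hG).coprime_dvd_left ((card_map_dvd _ _).trans ?_)).coprime_dvd_right
        ((card_map_dvd _ _).trans ?_)
      · rw [Nat.card_congr (subgroupOfEquivOfLe hcE.le).toEquiv]
      · rw [Nat.card_congr (subgroupOfEquivOfLe hKM).toEquiv]
    have heq : ⁅Kb, Eb⁆ = Kb := by
      rw [← Subgroup.map_commutator]
      congr 1
      refine map_injective M.subtype_injective ?_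
      rw [Subgroup.map_commutator, map_subgroupOf_eq_of_le hKM, map_subgroupOf_eq_of_le hcE.le, hKE]
    rintro x ⟨hxK, hxC⟩
    have h1 := (Cfsg.Lib.Coprime.disjoint_commutator_centralizer hn hcop).le_bot (Subgroup.mem_inf.mpr
      ⟨by rw [heq]; exact mem_map_of_mem f (show (⟨x, hKM hxK⟩ : M) ∈ K.subgroupOf M from hxK),
        mem_centralizer_iff.mpr (by
          rintro _ ⟨e, he, rfl⟩
          rw [← map_mul, ← map_mul]
          exact congrArg f (Subtype.ext (mem_centralizer_iff.mp hxC (e : G) he)))⟩)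
    exact mem_subgroupOf.mp ((QuotientGroup.eq_one_iff (N := (⁅K, K⁆).subgroupOf M) (⟨x, hKM hxK⟩ : M)).mp
      (mem_bot.mp h1))
  set D := K ⊓ M.map (MulAut.conj g).toMonoidHom with hDdef
  have hDM : D ≤ M := inf_le_left.trans hKM
  have hout : ∀ (p : ℕ) [Fact p.Prime], p ∈ Cfsg.sigma M → ∀ U : Subgroup G, U ≤ D → IsPGroup p U →
      ¬ centralizer (U : Set G) ≤ M := by
    intro p _ hσ U hUD hU hC
    have hU' : cj g⁻¹ U ≤ M := by
      rintro _ ⟨u, hu, rfl⟩
      obtain ⟨m, hm, hme⟩ := (hUD hu).2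
      show g⁻¹ * u * g⁻¹⁻¹ ∈ M
      rw [← hme]
      simpa [mul_assoc] using hm
    obtain ⟨m, hm, c, hc, hgc⟩ := fusion_of_le hG hM hσ hU (hUD.trans hDM) hU'
    exact hg (inv_mem_iff.mp (hgc ▸ mul_mem hm (hC hc)))
  have hline : ∀ x ∈ D, ∀ (p : ℕ) [Fact p.Prime], orderOf x = p →
      p ∉ Cfsg.beta M ∧ x ∉ ⁅K, K⁆ := by
    intro x hx p _ ho
    have hσ : p ∈ Cfsg.sigma M := sigmaCore_isPiSub M p Fact.out (ho ▸ Subgroup.orderOf_dvd_natCard _ hx.1)
    obtain ⟨P⟩ : Nonempty (Sylow p K) := inferInstance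
    have key : (p ∈ Cfsg.beta M ∨ zpowers x ≤ ⁅K, K⁆) → False := fun h =>
      hout p hσ (zpowers x) (zpowers_le.mpr hx) (IsPGroup.of_card (n := 1) (by rw [pow_one, Nat.card_zpowers, ho]))
        (Cfsg.Agent.S1423.result hG M hM p hσ (zpowers x) (zpowers_le.mpr (hDM hx))
          (by rw [Nat.card_zpowers, ho]) P h).1.1
    exact ⟨fun h => key (Or.inl h), fun h => key (Or.inr (zpowers_le.mpr h))⟩
  have hbot : D ⊓ ⁅K, K⁆ = ⊥ := by
    by_contra hne
    obtain ⟨p, hp, hpd⟩ := Nat.exists_prime_and_dvd fun e => hne (eq_bot_of_card_eq _ e)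
    haveI : Fact p.Prime := ⟨hp⟩
    obtain ⟨⟨x, hx⟩, ho⟩ := exists_prime_orderOf_dvd_card' p hpd
    rw [Subgroup.orderOf_mk] at ho
    exact (hline x hx.1 p ho).2 hx.2
  refine ⟨?_, fun p hp hd => ?_, hbot⟩
  · haveI : IsMulCommutative D := ⟨⟨fun a b => Subtype.ext (commutatorElement_eq_one_iff_mul_comm.mp
      (mem_bot.mp (hbot.le (Subgroup.mem_inf.mpr ⟨by
        rw [commutatorElement_def]
        exact mul_mem (mul_mem (mul_mem a.2 b.2) (inv_mem a.2)) (inv_mem b.2),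
        commutator_mem_commutator a.2.1 b.2.1⟩))))⟩⟩
    haveI : IsZGroup D := ⟨fun p hp S => by
      haveI : Fact p.Prime := ⟨hp⟩
      by_contra hnc
      have hS1 : (S : Subgroup D) ≠ ⊥ := fun e => hnc (by rw [e]; infer_instance)
      obtain ⟨i, hi⟩ := IsPGroup.iff_card.mp S.isPGroup'
      have hpD : p ∣ Nat.card D := by
        refine (dvd_pow_self p (n := i) fun h0 => hS1 (eq_bot_of_card_eq _ (by rw [hi, h0, pow_zero]))).trans ?_
        exact hi ▸ (S : Subgroup D).card_subgroup_dvd_card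
      have hσ : p ∈ Cfsg.sigma M := sigmaCore_isPiSub M p hp (hpD.trans (card_dvd_of_le inf_le_left))
      set U := (S : Subgroup D).map D.subtype
      have hUD : U ≤ D := map_subtype_le _
      have hUp : IsPGroup p U := S.isPGroup'.map _
      have hUnc : ¬ IsCyclic U := fun hc =>
        hnc (((S : Subgroup D).equivMapOfInjective _ D.subtype_injective).isCyclic.mpr hc)
      refine hout p hσ U hUD hUp ((centralizer_le_normalizer _).trans
        (normalizer_le_of_sigma hG hM hσ hUp (hUD.trans hDM) hUnc))⟩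
    letI : CommGroup D := { (inferInstance : Group D) with mul_comm := fun a b => mul_comm' a b }
    infer_instance
  · haveI : Fact p.Prime := ⟨hp⟩
    obtain ⟨⟨x, hx⟩, ho⟩ := exists_prime_orderOf_dvd_card' p hd
    rw [Subgroup.orderOf_mk] at ho
    exact (hline x hx p ho).1

end Cfsg.Agent.S1426
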