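import Cfsg.Statements.S1362
import Cfsg.Agent.Lib.Local.Sigma.P2Core
import Cfsg.Agent.Lib.Local.Sigma.SupportR
import Cfsg.Agent.Lib.Local.Sigma.UStructure
-- import your own Cfsg.Agent.* helpers here

set_option autoImplicit false
open Cfsg

namespace Cfsg.Agent.S1362

open Subgroup Cfsg.Lib Cfsg.Lib.Local Cfsg.Lib.Local.Uniq Cfsg.Lib.Local.Sigma

/-- Let G be a minimal simple group of odd order and M a maximal subgroup with standard factorisation M = K U M_σ, and let A(M) be the set of elements of U M_σ centralizing some non-identity element of M_σ. Then A(M) with M_σ removed is a TI-subset of G. -/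
theorem result {G : Type*} [Group G] [Finite G] (hG : Cfsg.IsMinSimpleOddOrder G)
    (M : Subgroup G) (hM : IsCoatom M) (K U : Subgroup G) (hKU : Cfsg.IsSigmaDecomposition M K U) :
    Cfsg.IsTISubset (Cfsg.sigmaA M U \ (Cfsg.sigmaCore M : Set G)) := by
  have hUh := decomp_hall hG hM hKU
  set X := Cfsg.sigmaA M U \ (Cfsg.sigmaCore M : Set G)
  have hinv : ∀ m ∈ M, ∀ a ∈ X, m * a * m⁻¹ ∈ X := by
    rintro m hm a ⟨⟨⟨haM, y, hy, hy1, hay⟩, haW⟩, haσ⟩
    refine ⟨⟨⟨mul_mem (mul_mem hm haM) (inv_mem hm), m * y * m⁻¹,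
      (mem_normalizer_iff.mp (le_normalizer_sigmaCore M hm) y).mp hy, fun e => hy1 (conj_eq_one_iff.mp e),
      by rw [conj_mul, conj_mul, hay]⟩, (mem_normalizer_iff.mp (decomp_le_normalizer hKU hm) a).mp haW⟩,
      fun h => haσ ((mem_normalizer_iff.mp (le_normalizer_sigmaCore M hm) a).mpr h)⟩
  -- a power of prime order with centralizer in `M` only
  have hkey : ∀ a ∈ X, ∀ n : ℕ, (a ^ n) ≠ 1 → (orderOf (a ^ n)).Prime → orderOf (a ^ n) ∉ Cfsg.sigma M →
      centralizer ({a ^ n} : Set G) ≤ M ∧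
        ∀ L : Subgroup G, IsCoatom L → centralizer ({a ^ n} : Set G) ≤ L → L = M := by
    rintro a ⟨⟨⟨haM, y, hy, hy1, hay⟩, haW⟩, -⟩ n hn1 hp hσ
    set z := a ^ n
    obtain ⟨m, hm, hmz⟩ := exists_conj_le_hall (π := {q | q.Prime ∧ q ∉ Cfsg.kappa M ∧ q ∉ Cfsg.sigma M})
      (Y := zpowers z) (hG.2.2.2 M hM.1) hUh.1 hUh.2.1 hUh.2.2 (zpowers_le.mpr (pow_mem haM n)) fun t ht hd => by
        rw [Nat.card_zpowers] at hd
        rw [(Nat.prime_dvd_prime_iff_eq ht hp).mp hd]
        exact ⟨hp, decomp_prime hG hM hKU haW hp (orderOf_pow_dvd n), hσ⟩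
    rw [cj_zpowers, zpowers_le] at hmz
    have hu := unique_of_fixed hG hM hKU (zpowers_le.mpr hmz)
      (zpowers_ne_bot.mpr fun e => hn1 (conj_eq_one_iff.mp e)) (fun e => hy1 (conj_eq_one_iff.mp (mem_bot.mp
        (e.le (Subgroup.mem_inf.mpr ⟨(mem_normalizer_iff.mp (le_normalizer_sigmaCore M hm) y).mp hy, by
          rw [FreeAction.centralizer_zpowers_eq]
          exact mem_centralizer_singleton_iff.mpr
            (by rw [conj_mul, conj_mul, ((show Commute a y from hay).pow_left n).eq])⟩)))))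
    rw [FreeAction.centralizer_zpowers_eq, ← cj_centralizer_singleton] at hu
    have hMm : cj m M = M := Core.map_conj_eq_of_mem_normalizer (Subgroup.le_normalizer hm)
    refine ⟨fun c hc => ?_, fun L hL hle => ?_⟩
    · have h1 := hu.1 (mem_cj (g := m) hc)
      simpa [mul_assoc] using mul_mem (mul_mem (inv_mem hm) h1) hm
    · rw [← cj_inv_cj m L, show cj m L = M from hu.2 _ (isCoatom_map_conj hL m) (map_mono hle)]
      exact Core.map_conj_eq_of_mem_normalizer (Subgroup.le_normalizer (inv_mem hm))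
  intro g hg a ha hb
  exfalso
  have hgM : g ∉ M := fun hgM => hg (mem_set_normalizer_iff.mpr fun v =>
    ⟨hinv g hgM v, fun hv => by simpa [mul_assoc] using hinv g⁻¹ (inv_mem hgM) _ hv⟩)
  obtain ⟨p, hp, hpd, hpσ⟩ : ∃ p, p.Prime ∧ p ∣ orderOf a ∧ p ∉ Cfsg.sigma M := by
    by_contra hno
    push Not at hno
    exact ha.2 (zpowers_le.mp (le_sigmaCore_of_isPiSub hG hM (zpowers_le.mpr ha.1.1.1) fun t ht hd =>
      hno t ht (by rwa [Nat.card_zpowers] at hd)))
  have ho : orderOf (a ^ (orderOf a / p)) = p := orderOf_pow_orderOf_div (orderOf_pos a).ne' hpd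
  set n := orderOf a / p
  have hne : a ^ n ≠ 1 := fun e => hp.ne_one (by rw [← ho, e, orderOf_one])
  have hbn : (g * a * g⁻¹) ^ n = g * a ^ n * g⁻¹ := conj_pow
  obtain ⟨hCa, -⟩ := hkey a ha n hne (by rwa [ho]) (by rwa [ho])
  obtain ⟨-, hu⟩ := hkey _ hb n (by rw [hbn]; exact fun e => hne (conj_eq_one_iff.mp e))
    (by rwa [hbn, orderOf_conj, ho]) (by rwa [hbn, orderOf_conj, ho])
  exact hgM (mem_of_cj_eq hG hM (hu _ (isCoatom_map_conj hM g) (by
    rw [hbn, ← cj_centralizer_singleton]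
    exact map_mono hCa)))

end Cfsg.Agent.S1362
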