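import Cfsg.Statements.S1379
import Cfsg.Agent.Lib.Local.Sigma.Cover
-- import your own Cfsg.Agent.* helpers here

set_option autoImplicit false
open Cfsg

namespace Cfsg.Agent.S1379

open Subgroup Cfsg.Lib Cfsg.Lib.Local Cfsg.Lib.Local.Uniq Cfsg.Lib.Local.Sigma

/-- Let G be a minimal simple group of odd order; for a maximal subgroup M write M̃ for the union of the G-conjugates of the cosets x R(x), x ≠ 1 in M_σ. Then M̃ ∩ Ñ = ∅ for non-conjugate maximal M, N; if every maximal subgroup has κ empty, every g ≠ 1 lies in some M̃; and if M = K U M_σ has K ≠ 1 with Ẑ = K K* − (K ∪ K*), then every g ≠ 1 lies in some Ñ or in a conjugate of Ẑ, and no conjugate of an element of Ẑ lies in any Ñ. -/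
theorem result {G : Type*} [Group G] [Finite G] (hG : Cfsg.IsMinSimpleOddOrder G) :
    (∀ M N : Subgroup G, IsCoatom M → IsCoatom N → (∀ g : G, N ≠ M.map (MulAut.conj g).toMonoidHom) → Cfsg.tildeOf M ((Cfsg.sigmaCore M : Set G) \ {1}) ∩ Cfsg.tildeOf N ((Cfsg.sigmaCore N : Set G) \ {1}) = ∅) ∧
      ((∀ M : Subgroup G, IsCoatom M → Cfsg.kappa M = ∅) →
        ∀ g : G, g ≠ 1 → ∃ M : Subgroup G, IsCoatom M ∧ g ∈ Cfsg.tildeOf M ((Cfsg.sigmaCore M : Set G) \ {1})) ∧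
      ∀ (M K U : Subgroup G), IsCoatom M → Cfsg.IsSigmaDecomposition M K U → K ≠ ⊥ →
        (∀ g : G, g ≠ 1 → (∃ N : Subgroup G, IsCoatom N ∧ g ∈ Cfsg.tildeOf N ((Cfsg.sigmaCore N : Set G) \ {1})) ∨
            ∃ y : G, ∃ z ∈ ((↑(K ⊔ (Cfsg.sigmaCore M ⊓ Subgroup.centralizer (K : Set G))) : Set G) \ ((K : Set G) ∪ ↑(Cfsg.sigmaCore M ⊓ Subgroup.centralizer (K : Set G)))), g = y * z * y⁻¹) ∧
        ∀ N : Subgroup G, IsCoatom N → ∀ y : G, ∀ z ∈ ((↑(K ⊔ (Cfsg.sigmaCore M ⊓ Subgroup.centralizer (K : Set G))) : Set G) \ ((K : Set G) ∪ ↑(Cfsg.sigmaCore M ⊓ Subgroup.centralizer (K : Set G)))), y * z * y⁻¹ ∉ Cfsg.tildeOf N ((Cfsg.sigmaCore N : Set G) \ {1}) := by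
  refine ⟨fun M N hM hN hne => Set.eq_empty_iff_forall_notMem.mpr fun z hz => tilde_disjoint hG hM hN hne hz.1 hz.2,
    fun hκ g hg => ?_, fun M K U hM hKU hK1 => ?_⟩
  · rcases covered hG hg with h | ⟨H, KH, hH, hKH, hKH1, -⟩
    · exact h
    · obtain ⟨t, u, -, hu, -, -, -, ht⟩ := exists_kappa_elem hKH hKH1
      rw [hκ H hH] at ht
      exact ht.elim
  · have hK := hKU.hall
    obtain ⟨L, hL, -, -⟩ := exists_pair hG hM hK hK1
    have hZ : ((↑(K ⊔ (Cfsg.sigmaCore M ⊓ Subgroup.centralizer (K : Set G))) : Set G) \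
        ((K : Set G) ∪ ↑(Cfsg.sigmaCore M ⊓ Subgroup.centralizer (K : Set G)))) = outer (zgrp M K) :=
      (hL.outer_eq hG hM hK hK1).symm
    rw [hZ]
    refine ⟨fun g hg => ?_, fun N hN y z hz => outer_notMem_tilde hG ⟨hM, K, hK, hK1, rfl⟩ hz hN y⟩
    rcases covered hG hg with h | ⟨H, KH, hH, hKH, hKH1, y, e, he, rfl⟩
    · exact Or.inl h
    · obtain ⟨LH, hLH, -, -⟩ := exists_pair hG hH hKH hKH1
      obtain ⟨c, z, hz, rfl⟩ := outer_conj hG hM hK hK1 hL hH hKH hKH1 hLH he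
      exact Or.inr ⟨y * c, z, hz, by group⟩

end Cfsg.Agent.S1379
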