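import Cfsg.Statements.S1363
import Cfsg.Agent.Lib.Local.Sigma.PairNeighbourCompl
-- import your own Cfsg.Agent.* helpers here

set_option autoImplicit false
open Cfsg

namespace Cfsg.Agent.S1363

open Subgroup Cfsg.Lib Cfsg.Lib.Local Cfsg.Lib.Local.Uniq Cfsg.Lib.Local.Sigma

/-- Let G be a minimal simple group of odd order and M a maximal subgroup with standard factorisation M = K U M_σ and K ≠ 1. Then U is abelian and the normalizer of U in G is not contained in M. -/
theorem result {G : Type*} [Group G] [Finite G] (hG : Cfsg.IsMinSimpleOddOrder G)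
    (M : Subgroup G) (hM : IsCoatom M) (K U : Subgroup G) (hKU : Cfsg.IsSigmaDecomposition M K U) (hK1 : K ≠ ⊥) :
    IsMulCommutative U ∧ ¬ Subgroup.normalizer (U : Set G) ≤ M := by
  refine ⟨decomp_abelian hG hM hKU hK1, fun hle => ?_⟩
  by_cases hU1 : U = ⊥
  · rw [hU1, Subgroup.normalizer_eq_top] at hle
    exact hM.1 (top_le_iff.mp hle)
  obtain ⟨L, hL, -⟩ := exists_pair hG hM hKU.hall hK1
  obtain ⟨r, hr, hrd⟩ := Nat.exists_prime_and_dvd (n := Nat.card U) fun e => hU1 (Subgroup.eq_bot_of_card_eq _ e)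
  haveI : Fact r.Prime := ⟨hr⟩
  obtain ⟨R⟩ : Nonempty (Sylow r U) := inferInstance
  have hR1 : (R : Subgroup U).map U.subtype ≠ ⊥ := fun e => by
    have h1 : Nat.card (R : Subgroup U) = 1 := by rw [← Core.card_map_subtype, e, Subgroup.card_bot]
    rw [R.card_eq_multiplicity, pow_eq_one_iff] at h1
    exact h1.elim hr.ne_one (hr.factorization_pos_of_dvd Nat.card_pos.ne' hrd).ne'
  obtain ⟨H, hH, hNR⟩ := exists_coatom (OddTransitivity.normalizer_ne_top_of hG hR1
    (ne_top_of_le_ne_top hM.1 ((Subgroup.map_subtype_le _).trans hKU.compl.1)))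
  have h : Neighbour M K U L H := ⟨hG, hM, hKU, hK1, hU1, hL, hH, ⟨r, inferInstance, hrd, R, hNR⟩⟩
  exact h.normalizer_U (inf_le_right.trans hle)

end Cfsg.Agent.S1363
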