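import Cfsg.Statements.S1524
import Cfsg.Agent.Lib.Char.CoherenceSibley

set_option autoImplicit false
open Cfsg Cfsg.Lib.Char
open scoped commutatorElement

namespace Cfsg.Agent.S1524

/-- Let G be a finite group and H ≤ L subgroups with L of odd order, H ≠ ⊥ nilpotent and normal in L with a nontrivial complement W₁ in L (H ⊓ W₁ = ⊥, H ⊔ W₁ = L) acting on H without non-identity fixed points (L is a Frobenius group with kernel H), and suppose the underlying set of H is a TI-subset of G whose normaliser is L. Let S be the set of functions on L induced from the non-principal irreducible characters of H. Then (S, L minus 1, induction to G) is coherent. -/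
theorem result {G : Type*} [Group G] [Fintype G] (H L W₁ : Subgroup G) [Fintype L] (hodd : Odd (Nat.card L)) (hHL : H ≤ L) (hW₁L : W₁ ≤ L) (hH1 : H ≠ ⊥) (hW1 : W₁ ≠ ⊥) (hnil : Group.IsNilpotent H) (hHn : ∀ x ∈ L, ∀ h ∈ H, x * h * x⁻¹ ∈ H) (hinf : H ⊓ W₁ = ⊥) (hsup : H ⊔ W₁ = L) (hfpf : ∀ w ∈ W₁, w ≠ 1 → ∀ h ∈ H, w * h = h * w → h = 1) (hTI : Cfsg.IsTISubset (H : Set G)) (hN : Subgroup.normalizer (H : Set G) = L) : Cfsg.IsCoherent (Cfsg.inducedIrrAbove (H.subgroupOf L) ⊥) {1}ᶜ (fun α : L → ℂ => Cfsg.indFun L α) := by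
  classical
  subst hN
  set K := H.subgroupOf (Subgroup.normalizer (H : Set G)) with hK
  haveI hKn : K.Normal := Subgroup.normal_in_normalizer
  have hC : ∀ h ∈ H, h ≠ 1 → Subgroup.normalizer (H : Set G) ⊓ Subgroup.centralizer ({h} : Set G) ≤ H := by
    intro h hh h1 x hx
    have hsup' : K ⊔ W₁.subgroupOf (Subgroup.normalizer (H : Set G)) = ⊤ := by
      rw [hK, ← Subgroup.subgroupOf_sup hHL hW₁L, hsup, Subgroup.subgroupOf_self]
    have := centralizer_le_of_fpf_complement (K := K) hsup'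
      (fun w hw hw1 k hk hwk => Subtype.ext (hfpf w hw (fun e => hw1 (Subtype.ext e)) k hk
        (congrArg Subtype.val hwk))) ⟨h, hHL hh⟩ hh (fun e => h1 (congrArg Subtype.val e))
      (Subgroup.mem_centralizer_singleton_iff.2 (Subtype.ext (Subgroup.mem_centralizer_singleton_iff.1 hx.2))
        : (⟨x, hx.1⟩ : Subgroup.normalizer (H : Set G)) ∈ _)
    exact this
  have hlt : H < Subgroup.normalizer (H : Set G) := lt_of_le_of_ne hHL fun e => hW1 (eq_bot_iff.2 (by
    rw [← hinf]; exact le_inf (hW₁L.trans e.ge) le_rfl))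
  rw [← irrNontrivialOn_eq_induced (H := K) (fun h hh h1 x hx => hC h hh (fun e => h1 (Subtype.ext e))
    ⟨x.2, Subgroup.mem_centralizer_singleton_iff.2
      (congrArg Subtype.val (Subgroup.mem_centralizer_singleton_iff.1 hx))⟩)]
  rcases coherence_TI_kernel H _ hH1 hlt rfl hTI hC with h | ⟨-, h⟩ | ⟨-, -, -, ⟨m, hm⟩, -, -⟩
  · exact h
  · exfalso
    change Nat.card H = K.index + 1 at h
    obtain ⟨a, ha⟩ : Odd (Nat.card H) := hodd.of_dvd_nat (Subgroup.card_dvd_of_le hHL)
    obtain ⟨c, hc⟩ : Odd K.index := hodd.of_dvd_nat K.index_dvd_card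
    omega
  · exfalso
    have ho : Odd (2 ^ m) := hm ▸ hodd.of_dvd_nat (Subgroup.card_dvd_of_le hHL)
    rcases m with _ | m
    · exact hH1 (Subgroup.eq_bot_of_card_eq H (by simpa using hm))
    · rw [pow_succ, Nat.odd_mul] at ho
      exact absurd ho.2 (by decide)

end Cfsg.Agent.S1524
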