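import Cfsg.Statements.S1542
import Cfsg.Agent.Lib.Local.Sigma.SupportR
import Cfsg.Agent.Lib.Local.Sigma.TypeCore
import Cfsg.Agent.Lib.Local.Sigma.Types
import Cfsg.Agent.Lib.Char.Dade
import Cfsg.Agent.Lib.Char.CoherenceSibley
import Cfsg.Agent.Lib.Local.CNFrobenius
import Cfsg.Agent.Lib.Local.CNSolvable
import Cfsg.Agent.S1514
import Cfsg.Agent.S1521
import Cfsg.Agent.S1524
import Cfsg.Agent.S1535

set_option autoImplicit false
open Cfsg

namespace Cfsg.Agent.S1542

open Subgroup Cfsg.Lib Cfsg.Lib.Local Cfsg.Lib.Local.Sigma Cfsg.Lib.Char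
open scoped commutatorElement

/-- A Frobenius complement of odd order has exponent equal to its order. -/
theorem exponent_quotient {L : Type*} [Group L] [Finite L] (hodd : Odd (Nat.card L)) (K V : Subgroup L) [K.Normal]
    (hK : K ≠ ⊥) (hKn : Group.IsNilpotent K) (hc : K.IsComplement' V)
    (hC : ∀ h ∈ K, h ≠ 1 → centralizer ({h} : Set L) ≤ K) : Monoid.exponent (L ⧸ K) = K.index := by
  have hfpf : ∀ e ∈ V, e ≠ 1 → K ⊓ centralizer ({e} : Set L) = ⊥ := by
    intro e he he1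
    refine (Subgroup.eq_bot_iff_forall _).2 fun z hz => by_contra fun hz1 => he1 ?_
    have heK : e ∈ K := hC z hz.1 hz1 (mem_centralizer_singleton_iff.2 (mem_centralizer_singleton_iff.1 hz.2).symm)
    exact mem_bot.1 (hc.disjoint.le_bot ⟨heK, he⟩)
  have hEK : V ≤ normalizer (K : Set L) := by rw [Subgroup.normalizer_eq_top]; exact le_top
  have hAC := CN.abelianCyclic_of_fpf hK hKn hEK hfpf
  haveI : IsZGroup V := ⟨fun p hp P => by
    haveI := Fact.mk hp
    by_cases hP1 : (P : Subgroup V) = ⊥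
    · rw [hP1]; infer_instance
    refine CN.isCyclic_sylow_of_odd hAC ?_ P
    rintro rfl
    haveI : Nontrivial ↥(P : Subgroup V) := (nontrivial_iff_ne_bot _).mpr hP1
    obtain ⟨k, hk, hk'⟩ := P.2.nontrivial_iff_card.mp inferInstance
    have h2 : 2 ∣ Nat.card L := (hk' ▸ dvd_pow_self 2 hk.ne' : 2 ∣ Nat.card (P : Subgroup V)).trans
      ((card_subgroup_dvd_card _).trans (card_subgroup_dvd_card V))
    exact (Nat.not_even_iff_odd.2 hodd) (even_iff_two_dvd.2 h2)⟩
  rw [Monoid.exponent_eq_of_mulEquiv hc.symm.QuotientMulEquiv, IsZGroup.exponent_eq_card,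
    hc.symm.index_eq_card]


/-- Let G be a minimal simple group of odd order and L a maximal subgroup of Type I in which every non-identity element of H = L_F has its centraliser within L inside H. Let S be the set of functions on L induced from non-principal irreducible characters of H. Then every member of S is an irreducible character of L, and (S, L minus 1, τ) is coherent for τ the Dade map relative to A(L), L and a ↦ R(a). -/
theorem result {G : Type*} [Group G] [Fintype G] (hG : Cfsg.IsMinSimpleOddOrder G) (L : Subgroup G) [Fintype L] (hL : IsCoatom L) (hI : Cfsg.IsOfTypeI L) (hfrob : ∀ x ∈ Cfsg.fittingHallOf L, x ≠ 1 → L ⊓ Subgroup.centralizer ({x} : Set G) ≤ Cfsg.fittingHallOf L) : (∀ χ ∈ Cfsg.inducedIrrAbove (Cfsg.fittingHall L) ⊥, Cfsg.IsIrrCharacter L χ) ∧ Cfsg.IsCoherent (Cfsg.inducedIrrAbove (Cfsg.fittingHall L) ⊥) {1}ᶜ (Cfsg.dadeIsometry (Cfsg.typeA L) L (Cfsg.supportR L)) := by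
  classical
  set H := Cfsg.fittingHallOf L with hHdef
  obtain ⟨K', U', hKU⟩ := exists_decomposition hG hL
  obtain ⟨-, hHσ⟩ := eq_bot_of_typeI hG hL hKU hI
  have hHσ' : H = Cfsg.sigmaCore L := hHσ
  obtain ⟨⟨-, -, hne, hnetop, V, -, hV, -, -⟩, hcases⟩ := id hI
  set K : Subgroup L := Cfsg.fittingHall ↥L with hKdef
  have hmemK : ∀ x : L, x ∈ K ↔ (x : G) ∈ H := fun x => (Subgroup.mem_map_iff_mem L.subtype_injective).symm
  have hHL : H ≤ L := fittingHallOf_le_self
  have hoddL : Odd (Nat.card L) := Uniq.odd_subgroup hG L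
  have hH1 : H ≠ ⊥ := fittingHallOf_ne_bot hG hL
  have hHtop : H ≠ ⊤ := fun e => hL.1 (top_le_iff.1 (e.ge.trans hHL))
  have hN : normalizer (H : Set G) = L :=
    (hL.le_iff.1 le_normalizer_fittingHallOf).resolve_left
      (OddTransitivity.normalizer_ne_top_of hG hH1 hHtop)
  have hC : ∀ h ∈ K, h ≠ 1 → centralizer ({h} : Set L) ≤ K := fun h hh h1 x hx =>
    (hmemK x).2 (hfrob h ((hmemK h).1 hh) (fun e => h1 (Subtype.ext e))
      ⟨x.2, mem_centralizer_singleton_iff.2 (congrArg Subtype.val (mem_centralizer_singleton_iff.1 hx))⟩)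
  -- the support
  have hA : Cfsg.typeA L = (H : Set G) \ {1} := by
    rw [Cfsg.typeA, if_pos hI]
    ext a
    constructor
    · rintro ⟨haL, ha1, x, hx, hx1, hax⟩
      exact ⟨hfrob x hx hx1 ⟨haL, mem_centralizer_singleton_iff.2 hax⟩, ha1⟩
    · rintro ⟨ha, ha1⟩
      exact ⟨hHL ha, ha1, a, ha, ha1, rfl⟩
  set A := Cfsg.typeA L
  set R := Cfsg.supportR L
  have hσ : ∀ a ∈ A, a ∈ Cfsg.sigmaCore L ∧ a ≠ 1 := fun a ha => by
    rw [hA] at ha
    exact ⟨hHσ'.le ha.1, ha.2⟩
  have hmemA : ∀ {a : G}, a ∈ H → a ≠ 1 → a ∈ A := fun {a} ha ha1 => by rw [hA]; exact ⟨ha, ha1⟩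
  have hD : Cfsg.DadeHypothesis A L R := by
    refine ⟨fun h => (hσ 1 h).2 rfl, fun a ha => sigmaCore_le L (hσ a ha).1, fun x hx a ha => ?_,
      fun a ha g hga => ?_, fun a ha r hr => ?_, fun a ha c hc u hu => ?_, fun a ha => ?_, fun a ha => ?_,
      fun a ha b hb => ?_⟩
    · refine hmemA (hHσ'.ge ((mem_normalizer_iff.1 (le_normalizer_sigmaCore L hx) a).1 (hσ a ha).1)) fun e => (hσ a ha).2 ?_
      exact conj_eq_one_iff.1 e
    · obtain ⟨r, hr, hre⟩ := exists_conj_centralizer hG hL (hσ a ha).1 (hσ a ha).2 (g := g⁻¹)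
        (mem_cj_iff.2 (by rw [inv_inv]; exact sigmaCore_le L (hσ _ hga).1))
      refine ⟨g * r, mem_of_cj_eq hG hL (by rw [← cj_cj, hre, cj_cj, mul_inv_cancel, cj_one]), ?_⟩
      rw [show g * r * a * (g * r)⁻¹ = g * (r * a) * r⁻¹ * g⁻¹ by group, mem_centralizer_singleton_iff.1 hr]
      group
    · exact mem_centralizer_singleton_iff.2 (supportR_le_centralizer hG hL (hσ a ha).1 (hσ a ha).2 hr)
    · rcases supportR_cases hG hL (hσ a ha).1 (hσ a ha).2 with ⟨-, h⟩ | ⟨N, hN', h⟩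
      · rw [show R a = ⊥ from h, mem_bot] at hu ⊢
        rw [hu]; group
      · rw [show R a = _ from h] at hu ⊢
        exact (mem_normalizer_iff.1 (hN'.le_normalizer hc) u).1 hu
    · rcases supportR_cases hG hL (hσ a ha).1 (hσ a ha).2 with ⟨-, h⟩ | ⟨N, hN', h⟩
      · rw [show R a = ⊥ from h, bot_inf_eq]
      · rw [show R a = _ from h, inf_comm]
        exact (hN'.compl_centralizer (sigmaCore_le L (hσ a ha).1)).2.2.1
    · rcases supportR_cases hG hL (hσ a ha).1 (hσ a ha).2 with ⟨hle, h⟩ | ⟨N, hN', h⟩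
      · rw [show R a = ⊥ from h, bot_sup_eq, inf_eq_right.2 hle]
      · rw [show R a = _ from h]
        obtain ⟨h1, h2, -, h4⟩ := hN'.compl_centralizer (sigmaCore_le L (hσ a ha).1)
        refine le_antisymm (sup_le h2 h1) fun z hz => ?_
        obtain ⟨y, hy, w, hw, rfl⟩ := h4 z hz
        exact mul_mem (mem_sup_right hy) (mem_sup_left hw)
    · refine Nat.coprime_of_dvd fun t ht h1 h2 => ?_
      haveI : Fact t.Prime := ⟨ht⟩
      obtain ⟨⟨r, hr⟩, hro⟩ := exists_prime_orderOf_dvd_card' t h1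
      rw [Subgroup.orderOf_mk] at hro
      refine (supportR_prime hG hL (hσ a ha).1 (hσ a ha).2 hr ht hro.symm.dvd).1 ?_
      refine sigmaCore_isPiSub L t ht (h2.trans (Subgroup.card_dvd_of_le ?_))
      intro z hz
      exact hHσ'.le (hfrob b (hHσ'.ge (hσ b hb).1) (hσ b hb).2 hz)
  -- the members of `S`
  set S := Cfsg.inducedIrrAbove K ⊥ with hSdef
  have hSeq : irrNontrivialOn K = S := irrNontrivialOn_eq_induced hC
  have hirr : ∀ χ ∈ S, Cfsg.IsIrrCharacter L χ := fun χ hχ => (hSeq.symm ▸ hχ : χ ∈ irrNontrivialOn K).1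
  refine ⟨hirr, ?_⟩
  have hprop : ∀ α ∈ Cfsg.zspan S, IsClassFunction L α ∧ (∀ x : L, x ∉ K → α x = 0) ∧
      IsGeneralizedCharacter L α := by
    intro α hα
    refine Submodule.span_induction (fun χ hχ => ?_) ?_ (fun a b _ _ ha hb => ?_) (fun z a _ ha => ?_) hα
    · have hχ' : χ ∈ irrNontrivialOn K := hSeq.symm ▸ hχ
      exact ⟨hχ'.1.isClassFunction, (frobKernel_degree hC hχ'.1 hχ'.2).2, hχ'.1.isCharacter.isGeneralized⟩
    · exact ⟨fun x y => rfl, fun x _ => rfl, isGeneralizedCharacter_zero⟩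
    · exact ⟨isClassFunction_add ha.1 hb.1, fun x hx => by simp [ha.2.1 x hx, hb.2.1 x hx], ha.2.2.add hb.2.2⟩
    · rw [← Int.cast_smul_eq_zsmul ℂ]
      exact ⟨fun x y => by simp [ha.1 x y], fun x hx => by simp [ha.2.1 x hx], ha.2.2.intCast_smul z⟩
  have hsupp : ∀ α ∈ Cfsg.zspanOn S {1}ᶜ, ∀ x : L, (x : G) ∉ A → α x = 0 := by
    intro α hα x hx
    by_cases hx1 : x = 1
    · rw [hx1]; exact (mem_zspanOn_one.1 hα).2
    · exact (hprop α hα.1).2.1 x fun h => hx (hmemA ((hmemK x).1 h) fun e => hx1 (Subtype.ext e))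
  set τ := Cfsg.dadeIsometry A L R with hτdef
  have hτ : Cfsg.IsLinearIsometryOn (Cfsg.zspanOn S {1}ᶜ) τ := by
    refine ⟨fun a _ b _ => ?_, fun a _ n => ?_, fun a ha b hb => ?_, fun a ha => ?_⟩
    · funext g; simp only [hτdef, Cfsg.dadeIsometry, Pi.add_apply]; split_ifs <;> simp
    · funext g; simp only [hτdef, Cfsg.dadeIsometry, Pi.smul_apply]; split_ifs <;> simp
    · exact classInner_dadeIsometry_dadeIsometry hD (hprop a ha.1).1 (hsupp a ha) (hprop b hb.1).1
    · exact isGeneralizedCharacter_dadeIsometry hD (hprop a ha.1).2.2 (hsupp a ha)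
  have hτ1 : ∀ α ∈ Cfsg.zspanOn S {1}ᶜ, τ α 1 = 0 := fun α _ => dadeIsometry_eq_zero fun a ha x u hu e => by
    rw [mul_one, mul_inv_cancel] at e
    have h0 : (a : G) = u⁻¹ := eq_inv_of_mul_eq_one_left e.symm
    have : (a : G) ∈ R (a : G) ⊓ (L ⊓ centralizer ({(a : G)} : Set G)) :=
      ⟨h0 ▸ (R (a : G)).inv_mem hu, a.2, mem_centralizer_singleton_iff.mpr rfl⟩
    rw [hD.inf_eq_bot _ ha, mem_bot] at this
    exact (hσ _ ha).2 this
  have hK1 : K ≠ ⊥ := hne
  have hnilK : Group.IsNilpotent K := by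
    haveI : Group.IsNilpotent ↥(K.map L.subtype) := fittingHallOf_isNilpotent (M := L)
    exact Group.nilpotent_of_mulEquiv (equivMapOfInjective K L.subtype L.subtype_injective).symm
  have hcardne : Nat.card K ≠ K.index + 1 := fun e => by
    obtain ⟨a, ha⟩ : Odd (Nat.card K) := hoddL.of_dvd_nat (card_subgroup_dvd_card K)
    obtain ⟨c, hc⟩ : Odd K.index := hoddL.of_dvd_nat K.index_dvd_card
    omega
  have hS1535 := Cfsg.Agent.S1535.result K hK1 hnetop hC hcardne τ
    (show Cfsg.IsLinearIsometryOn (Cfsg.zspanOn (irrNontrivialOn K) {1}ᶜ) τ by rw [hSeq]; exact hτ)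
    (show ∀ α ∈ Cfsg.zspanOn (irrNontrivialOn K) {1}ᶜ, τ α 1 = 0 by rw [hSeq]; exact hτ1)
  change Cfsg.IsCoherent (irrNontrivialOn K) {1}ᶜ τ ∨ _ at hS1535
  rw [hSeq] at hS1535
  rcases hcases with hTI | ⟨hab, -⟩ | ⟨hexp, -⟩
  · -- trivial intersection: `τ` is induction
    have hR : ∀ a ∈ A, R a = ⊥ := fun a ha => supportR_of_le fun c hc => by
      rw [← hN]
      by_contra hcn
      refine (hσ a ha).2 (hTI c hcn a (hHσ'.ge (hσ a ha).1) ?_)
      rw [mem_centralizer_singleton_iff.1 hc, mul_inv_cancel_right]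
      exact hHσ'.ge (hσ a ha).1
    have hind : ∀ α ∈ Cfsg.zspanOn S {1}ᶜ, Cfsg.indFun L α = τ α := by
      intro α hα
      have hcl := (hprop α hα.1).1
      have hT : ∀ x : G, x ∉ L → ∀ t ∈ (H : Set G), t ≠ 1 → x * t * x⁻¹ ∉ (H : Set G) :=
        fun x hx t ht ht1 h => ht1 (hTI x (by rw [hN]; exact hx) t ht h)
      funext g
      by_cases hg : ∃ a : L, (a : G) ∈ A ∧ ∃ x : G, x * g * x⁻¹ = a
      · obtain ⟨a, ha, x, hx⟩ := hg
        rw [hτdef, dadeIsometry_eq hD hcl ha (x := x) (one_mem _) (by rw [mul_one]; exact hx),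
          ← isClassFunction_indFun L α g x, hx]
        refine indFun_eq_of_TI L (H : Set G) hT hcl (fun y hy => ?_) a ?_ (hσ _ ha).2
        · exact (hprop α hα.1).2.1 y fun h => hy ((hmemK y).1 h)
        · exact hHσ'.ge (hσ _ ha).1
      · push Not at hg
        rw [hτdef, dadeIsometry_eq_zero fun a ha x u hu e => hg a ha x (by
          rw [hR _ ha, mem_bot] at hu; rw [e, hu, mul_one])]
        simp only [Cfsg.indFun]
        rw [Finset.sum_eq_zero fun x _ => ?_, mul_zero]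
        by_cases hx : x⁻¹ * g * x ∈ L
        · rw [extendByZero_of_mem L α hx]
          exact hsupp α hα _ fun h => hg ⟨_, hx⟩ h x⁻¹ (by rw [inv_inv])
        · rw [extendByZero_of_notMem L α hx]
    obtain ⟨W, hW⟩ : ∃ W : Subgroup G, W = V.map L.subtype := ⟨_, rfl⟩
    have h24 := Cfsg.Agent.S1524.result H L W hoddL hHL (hW ▸ map_subtype_le V) hH1
      (fun e => by
        rw [hW, map_eq_bot_iff_of_injective _ L.subtype_injective] at e
        exact hnetop (by simpa [e, Subgroup.isComplement'_bot_right] using hV))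
      fittingHallOf_isNilpotent
      (fun x hx h hh => (mem_normalizer_iff.1 (le_normalizer_fittingHallOf hx) h).1 hh)
      (by
        show K.map L.subtype ⊓ W = ⊥
        rw [hW, ← Subgroup.map_inf _ _ _ L.subtype_injective, hV.disjoint.eq_bot, Subgroup.map_bot])
      (by
        show K.map L.subtype ⊔ W = L
        rw [hW, ← Subgroup.map_sup, hV.sup_eq_top, ← MonoidHom.range_eq_map, range_subtype])
      (fun w hw hw1 h hh hwh => by
        by_contra hne1
        have hwK := hfrob h hh hne1 ⟨(hW ▸ map_subtype_le V : W ≤ L) hw, mem_centralizer_singleton_iff.2 hwh⟩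
        rw [hW] at hw
        obtain ⟨v, hv, rfl⟩ := hw
        exact hw1 (congrArg Subtype.val (mem_bot.1 (hV.disjoint.le_bot ⟨(hmemK v).2 hwK, hv⟩) : (v : L) = 1) :))
      hTI hN
    have hKeq : H.subgroupOf L = K := comap_map_eq_self_of_injective L.subtype_injective K
    rw [hKeq] at h24
    obtain ⟨h1, τ₁, h2, h3⟩ := h24
    exact ⟨h1, τ₁, h2, fun α hα => (h3 α hα).trans (hind α hα)⟩
  · refine hS1535.resolve_right fun ⟨_, _, _, hna, _⟩ => hna ?_
    refine ⟨⟨fun a b => Subtype.ext (Subtype.ext ?_)⟩⟩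
    have h := congrArg Subtype.val
      (hab.is_comm.comm (⟨((a : L) : G), (hmemK a).1 a.2⟩ : H) ⟨((b : L) : G), (hmemK b).1 b.2⟩)
    simpa using h
  · rcases hS1535 with h | ⟨p, hp, ⟨m, hm⟩, -, -⟩
    · exact h
    have hm' : p ∣ Nat.card H := by
      rw [hHdef, show Nat.card ↥(Cfsg.fittingHallOf L) = Nat.card K from
        (Nat.card_congr (equivMapOfInjective K L.subtype L.subtype_injective).toEquiv).symm, hm]
      refine dvd_pow_self p fun h0 => hK1 (Subgroup.eq_bot_of_card_eq _ (by rw [hm, h0, pow_zero]))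
    have hidx : K.index ∣ p - 1 := by
      rw [← exponent_quotient hoddL K V hK1 hnilK hV hC]
      exact hexp p hp hm'
    haveI := hnilK
    haveI : Group.IsSolvable K := inferInstance
    haveI : ((⊥ : Subgroup L).subgroupOf K).Normal := by rw [Subgroup.bot_subgroupOf]; infer_instance
    have hSne : S.Nonempty := by
      haveI : Nontrivial K := (nontrivial_iff_ne_bot K).2 hK1
      obtain ⟨θ, hθ⟩ : ∃ θ : Cfsg.IrrCharacter K, (θ : K → ℂ) ≠ fun _ => 1 := by
        by_contra hno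
        push Not at hno
        haveI : Subsingleton (Cfsg.IrrCharacter K) := ⟨fun a b => Subtype.ext ((hno a).trans (hno b).symm)⟩
        have h1 : Nat.card (Cfsg.IrrCharacter K) ≤ 1 := Finite.card_le_one_iff_subsingleton.2 inferInstance
        rw [card_irr_eq_card_conjClasses] at h1
        haveI := Finite.card_le_one_iff_subsingleton.1 h1
        obtain ⟨y, hy⟩ := exists_ne (1 : K)
        exact hy (isConj_one_right.1 (ConjClasses.mk_eq_mk_iff_isConj.1
          (Subsingleton.elim (ConjClasses.mk (1 : K)) (ConjClasses.mk y))))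
      exact ⟨_, θ, θ.2, hθ, fun a ha => congrArg (θ : K → ℂ) (Subtype.ext (by simpa using ha) : a = 1), rfl⟩
    have hconj : ∀ χ ∈ S, Cfsg.conjFun χ ∈ S ∧ Cfsg.conjFun χ ≠ χ := fun χ hχ => by
      rw [← hSeq] at hχ ⊢
      exact ⟨irrNontrivialOn_conjFun hχ, irrNontrivialOn_conjFun_ne hoddL hχ⟩
    obtain ⟨Rf, hRf⟩ := Cfsg.Agent.S1514.result S hSne hirr hconj τ hτ hτ1
    refine Cfsg.Agent.S1521.result K inferInstance τ Rf hRf hoddL ⊥ bot_le inferInstance ⁅K, K⁆
      (by rw [sup_bot_eq]) (frobKernel_commutator_lt hK1 hnilK) (lt_top_iff_ne_top.2 hnetop)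
      (fun k hk hk' x hx => mem_kernel_of_commutator_mem hC hk hk' hx)
      (Or.inr (Or.inr (Or.inr (Or.inr ⟨p, m, hp, ?_, hidx⟩))))
    rw [relIndex_bot_left, hm]

end Cfsg.Agent.S1542
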