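import Cfsg.Statements.S1545
import Cfsg.Agent.Lib.Char.FrobFixed

set_option autoImplicit false
open Cfsg

namespace Cfsg.Agent.S1545

/-- Let X be a finite group with subgroups U, E and H such that U and E generate a subgroup UE = U ⊔ E normalising H, with U normal in UE, U ⊓ E = ⊥, U ≠ ⊥, E ≠ ⊥, every non-identity element of E commuting with no non-identity element of U (UE is a Frobenius group with kernel U acting on H by conjugation), H solvable, H ⊓ (U ⊔ E) = ⊥ and the orders of H and U ⊔ E coprime. Then Nat.card (H ⊓ C(U ⊔ E)) ^ Nat.card E * Nat.card H = Nat.card (H ⊓ C(E)) ^ Nat.card E * Nat.card (H ⊓ C(U)), where C(·) denotes the centraliser. -/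
theorem result {X : Type*} [Group X] [Finite X] (U E H : Subgroup X) (hU1 : U ≠ ⊥) (hE1 : E ≠ ⊥) (hUE : U ⊓ E = ⊥) (hUn : ∀ e ∈ E, ∀ u ∈ U, e * u * e⁻¹ ∈ U) (hfpf : ∀ e ∈ E, e ≠ 1 → ∀ u ∈ U, e * u = u * e → u = 1) (hHn : ∀ x ∈ U ⊔ E, ∀ h ∈ H, x * h * x⁻¹ ∈ H) (hdisj : H ⊓ (U ⊔ E) = ⊥) (hsolv : Group.IsSolvable H) (hcop : Nat.Coprime (Nat.card H) (Nat.card ↥(U ⊔ E))) : Nat.card ↥(H ⊓ Subgroup.centralizer ((U ⊔ E : Subgroup X) : Set X)) ^ Nat.card E * Nat.card H = Nat.card ↥(H ⊓ Subgroup.centralizer (E : Set X)) ^ Nat.card E * Nat.card ↥(H ⊓ Subgroup.centralizer (U : Set X)) := by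
  classical
  set Γ : Subgroup X := U ⊔ E with hΓ
  have hUG : U ≤ Γ := le_sup_left
  have hEG : E ≤ Γ := le_sup_right
  have hUnorm : (U.subgroupOf Γ).Normal := by
    apply Subgroup.normal_subgroupOf_iff_le_normalizer hUG |>.2
    refine sup_le Subgroup.le_normalizer ?_
    intro e he
    rw [Subgroup.mem_normalizer_iff]
    intro u
    refine ⟨fun hu => hUn e he u hu, fun h => ?_⟩
    have := hUn e⁻¹ (inv_mem he) _ h
    simpa [mul_assoc] using this
  let act : MulDistribMulAction Γ H :=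
    { smul := fun g h => ⟨(g : X) * h * (g : X)⁻¹, hHn g g.2 h h.2⟩
      one_smul := fun h => Subtype.ext (by
        change (1 : X) * (h : X) * (1 : X)⁻¹ = h; simp)
      mul_smul := fun g g' h => Subtype.ext (by
        change ((g : X) * g') * (h : X) * ((g : X) * g')⁻¹ = (g : X) * ((g' : X) * h * (g' : X)⁻¹) * (g : X)⁻¹
        group)
      smul_mul := fun g h h' => Subtype.ext (by
        change (g : X) * ((h : X) * h') * (g : X)⁻¹ = ((g : X) * h * (g : X)⁻¹) * ((g : X) * h' * (g : X)⁻¹)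
        group)
      smul_one := fun g => Subtype.ext (by
        change (g : X) * (1 : X) * (g : X)⁻¹ = 1; simp) }
  have hd : U.subgroupOf Γ ⊓ E.subgroupOf Γ = ⊥ := by
    rw [Subgroup.eq_bot_iff_forall]
    intro x hx
    apply Subtype.ext
    have : (x : X) ∈ U ⊓ E := hx
    rwa [hUE, Subgroup.mem_bot] at this
  have hj : U.subgroupOf Γ ⊔ E.subgroupOf Γ = ⊤ := by
    rw [← Subgroup.subgroupOf_sup hUG hEG, hΓ, Subgroup.subgroupOf_self]
  have hf : ∀ e ∈ E.subgroupOf Γ, e ≠ 1 → ∀ u ∈ U.subgroupOf Γ, e * u = u * e → u = 1 := by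
    intro e he hne u hu heq
    exact Subtype.ext (hfpf e he (fun h => hne (Subtype.ext h)) u hu (congrArg Subtype.val heq))
  have hcount : ∀ A : Subgroup X, A ≤ Γ →
      Cfsg.Lib.Char.FrobFixed.fixCard (A.subgroupOf Γ) H = Nat.card ↥(H ⊓ Subgroup.centralizer (A : Set X)) := by
    intro A hA
    refine Nat.card_congr
      { toFun := fun h => ⟨(h.1 : X), h.1.2, fun a ha => ?_⟩
        invFun := fun x => ⟨⟨x.1, x.2.1⟩, fun a => Subtype.ext ?_⟩
        left_inv := fun h => rfl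
        right_inv := fun x => rfl }
    · have := congrArg Subtype.val (h.2 ⟨⟨a, hA ha⟩, ha⟩)
      change a * (h.1 : X) * a⁻¹ = (h.1 : X) at this
      exact mul_inv_eq_iff_eq_mul.1 this
    · change (a : X) * (x : X) * (a : X)⁻¹ = (x : X)
      exact mul_inv_eq_iff_eq_mul.2 (x.2.2 _ a.2)
  have hEc : Nat.card (E.subgroupOf Γ) = Nat.card E :=
    Nat.card_congr (Subgroup.subgroupOfEquivOfLe hEG).toEquiv
  have h := Cfsg.Lib.Char.FrobFixed.formula (U.subgroupOf Γ) (E.subgroupOf Γ) hd hj hf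
    (Nat.card H) H hsolv hcop.symm rfl
  rw [hcount U hUG, hcount E hEG, hEc, ← Subgroup.subgroupOf_self (H := Γ), hcount Γ le_rfl] at h
  exact h

end Cfsg.Agent.S1545
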