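import Cfsg.Statements.S1414
import Cfsg.Agent.Lib.Local.Sigma.Narrow
import Cfsg.Agent.Lib.Solv.Hall

set_option autoImplicit false
open Cfsg

namespace Cfsg.Agent.S1414

open Subgroup Cfsg.Lib.Local

theorem exists_nilpotent_hall {G : Type*} [Group G] [Finite G] (hG : Cfsg.IsMinSimpleOddOrder G) {M X : Subgroup G}
    (hM : IsCoatom M) (hXM : X ≤ M)
    (hX : ∀ p : ℕ, p.Prime → p ∣ Nat.card M → p ∉ Cfsg.beta M → Sigma.PClosed p ↥X) :
    ∃ H : Subgroup G, Cfsg.IsPiHallOf {q | q.Prime ∧ q ∉ Cfsg.beta M} H X ∧ Group.IsNilpotent H := by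
  haveI : Group.IsSolvable M := hG.2.2.2 M hM.1
  haveI : Group.IsSolvable X := Cfsg.Lib.Core.isSolvable_of_le hXM inferInstance
  obtain ⟨H, hH⟩ := Cfsg.Lib.Solv.exists_isPiHall {q | q.Prime ∧ q ∉ Cfsg.beta M} X
  refine ⟨H.map X.subtype, ⟨map_subtype_le _, fun p hp hd => hH.1 p hp ?_, fun p hp hpπ hd => hH.2 p hp hpπ ?_⟩, ?_⟩
  · rwa [Cfsg.Lib.Core.card_map_subtype] at hd
  · rwa [show (H.map X.subtype).relIndex X = H.index from
      congrArg Subgroup.index (comap_map_eq_self_of_injective X.subtype_injective _)] at hd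
  · haveI : Group.IsNilpotent H := Sigma.isNilpotent_of_pClosed fun p hp hd =>
      (hX p hp ((hd.trans H.card_subgroup_dvd_card).trans (card_dvd_of_le hXM)) (hH.1 p hp hd).2).of_injective
        H.subtype H.subtype_injective
    exact Group.nilpotent_of_mulEquiv (H.equivMapOfInjective _ X.subtype_injective)

/-- Let G be a minimal simple group of odd order, M a maximal subgroup, β(M) the set of ideal primes in α(M), and M_β = O_{β(M)}(M). Then M_β is a Hall β(M)-subgroup of M and of G; M' and M_σ each have a nilpotent Hall β(M)'-subgroup; and for each prime p dividing the order of M with p ∉ β(M), both M' and M_σ have normal p-complements and every prime dividing the index of O_{p'}(M) in M is at most p. -/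
theorem result {G : Type*} [Group G] [Finite G] (hG : Cfsg.IsMinSimpleOddOrder G)
    (M : Subgroup G) (hM : IsCoatom M) :
    Cfsg.IsPiHallOf (Cfsg.beta M) (Cfsg.piCoreOf (Cfsg.beta M) M) M ∧ Cfsg.IsPiHall (Cfsg.beta M) (Cfsg.piCoreOf (Cfsg.beta M) M) ∧
      (∃ H : Subgroup G, Cfsg.IsPiHallOf {q | q.Prime ∧ q ∉ Cfsg.beta M} H ⁅M, M⁆ ∧ Group.IsNilpotent H) ∧
      (∃ H : Subgroup G, Cfsg.IsPiHallOf {q | q.Prime ∧ q ∉ Cfsg.beta M} H (Cfsg.sigmaCore M) ∧ Group.IsNilpotent H) ∧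
      ∀ p : ℕ, p.Prime → p ∣ Nat.card M → p ∉ Cfsg.beta M →
        Cfsg.HasNormalPComplement p ↥⁅M, M⁆ ∧ Cfsg.HasNormalPComplement p ↥(Cfsg.sigmaCore M) ∧
        ∀ q : ℕ, q.Prime → q ∣ (Cfsg.pPrimeCore p ↥M).index → q ≤ p := by
  have hC : ∀ p : ℕ, p.Prime → p ∣ Nat.card M → p ∉ Cfsg.beta M →
      (∀ q : ℕ, q.Prime → q ∣ (Cfsg.pPrimeCore p ↥M).index → q ≤ p) ∧
        Sigma.PClosed p ↥(commutator ↥M) := fun p hp hd hβ => by
    haveI : Fact p.Prime := ⟨hp⟩
    exact Sigma.structure_of_not_beta hG hM hd hβ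
  have hsub : ∀ (X : Subgroup M), X ≤ commutator ↥M → ∀ p : ℕ, p.Prime → p ∣ Nat.card M → p ∉ Cfsg.beta M →
      Sigma.PClosed p ↥(X.map M.subtype) := fun X hX p hp hd hβ =>
    ((hC p hp hd hβ).2).of_injective
      ((Subgroup.inclusion hX).comp (X.equivMapOfInjective _ M.subtype_injective).symm.toMonoidHom)
      ((Subgroup.inclusion_injective hX).comp (X.equivMapOfInjective _ M.subtype_injective).symm.injective)
  have hcM : ⁅M, M⁆ = (commutator ↥M).map M.subtype := (map_subtype_commutator M).symm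
  have hsigma : Cfsg.sigmaCore M = (Cfsg.piCore (Cfsg.sigma M) ↥M).map M.subtype := rfl
  have hσle := Sigma.sigmaCore_le_commutator hG hM
  refine ⟨⟨map_subtype_le _, fun p hp hd => Cfsg.Lib.Core.piCore_isPiSub _ M p hp ?_, fun p hp hpβ hd => ?_⟩,
    ⟨fun p hp hd => Cfsg.Lib.Core.piCore_isPiSub _ M p hp ?_,
      fun p hp hpβ => (Sigma.betaCore_hall hG hM p hp hpβ).2⟩, ?_, ?_, fun p hp hd hβ => ⟨?_, ?_, (hC p hp hd hβ).1⟩⟩
  · rwa [Cfsg.piCoreOf, Cfsg.Lib.Core.card_map_subtype] at hd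
  · refine (Sigma.betaCore_hall hG hM p hp hpβ).1 ?_
    rwa [show (Cfsg.piCoreOf (Cfsg.beta M) M).relIndex M = (Cfsg.piCore (Cfsg.beta M) ↥M).index from
      congrArg Subgroup.index (comap_map_eq_self_of_injective M.subtype_injective _)] at hd
  · rwa [Cfsg.piCoreOf, Cfsg.Lib.Core.card_map_subtype] at hd
  · rw [hcM]
    exact exists_nilpotent_hall hG hM (map_subtype_le _) (hsub _ le_rfl)
  · rw [hsigma]
    exact exists_nilpotent_hall hG hM (map_subtype_le _) (hsub _ hσle)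
  · haveI : Fact p.Prime := ⟨hp⟩
    rw [hcM]
    exact (hsub _ le_rfl p hp hd hβ).hasNormalPComplement
  · haveI : Fact p.Prime := ⟨hp⟩
    rw [hsigma]
    exact (hsub _ hσle p hp hd hβ).hasNormalPComplement

end Cfsg.Agent.S1414
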