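import Cfsg.Statements.S1418
import Cfsg.Agent.Lib.Local.Sigma.TauTwoNormal

set_option autoImplicit false
open Cfsg

namespace Cfsg.Agent.S1418

open Subgroup Cfsg.Lib.Local Cfsg.Lib.Local.Uniq Cfsg.Lib.Local.Sigma

/-- Let G be a minimal simple group of odd order, M a maximal subgroup, E a complement to M_σ in M, p ∈ τ₂(M), and A ≤ E elementary abelian of order p ^ 2. Then A is normal in E and contains every subgroup of E of order p; C_G(A) ≤ M ∩ N_G(A) = E and N_G(A) is not contained in M; and for every subgroup X ≤ A of order p centralizing a non-identity element of M_σ, C_G(X) ≤ M and M is the unique maximal subgroup containing C_G(X). -/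
theorem result {G : Type*} [Group G] [Finite G] (hG : Cfsg.IsMinSimpleOddOrder G)
    (M : Subgroup G) (hM : IsCoatom M) (E : Subgroup G) (hE : Cfsg.IsComplIn E (Cfsg.sigmaCore M) M) (p : ℕ) [Fact p.Prime] (hp : p ∈ Cfsg.tau2 M) (A : Subgroup G) (hA : (A ≤ E ∧ Cfsg.IsElementaryAbelian p A ∧ Nat.card A = p ^ 2)) :
    (E ≤ Subgroup.normalizer (A : Set G) ∧ ∀ X : Subgroup G, X ≤ E → Nat.card X = p → X ≤ A) ∧
      (Subgroup.centralizer (A : Set G) ≤ M ⊓ Subgroup.normalizer (A : Set G) ∧ M ⊓ Subgroup.normalizer (A : Set G) = E ∧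
        ¬ Subgroup.normalizer (A : Set G) ≤ M) ∧
      ∀ X : Subgroup G, X ≤ A → Nat.card X = p → Cfsg.sigmaCore M ⊓ Subgroup.centralizer (X : Set G) ≠ ⊥ → (Subgroup.centralizer (X : Set G) ≤ M ∧ ∀ L : Subgroup G, IsCoatom L → Subgroup.centralizer (X : Set G) ≤ L → L = M) := by
  obtain ⟨hAE, hA, hA2⟩ := hA
  have hC : Sigma.Compl M E := ⟨hM, hE⟩
  have h : Sigma.Tau2 p M A := ⟨hM, hp, hAE.trans hC.le, hA, hA2⟩
  obtain ⟨h1, hN⟩ := h.compl_structure hG hC hAE
  obtain ⟨g, hg, hgM⟩ := h.exists_normalizer hG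
  refine ⟨⟨hN, fun X hXE hX x hx => h1 x (hXE hx) ?_⟩,
    ⟨le_inf (h.centralizer_le hG hM h.le) (centralizer_le_normalizer _), le_antisymm ?_ (le_inf hC.le hN),
      fun hle => hgM (hle hg)⟩, fun X hXA hX hne => ?_⟩
  · have h2 := pow_card_eq_one' (x := (⟨x, hx⟩ : X))
    rw [hX] at h2
    exact congrArg Subtype.val h2
  · rintro m ⟨hm, hmN⟩
    obtain ⟨e, he, s, hs, rfl⟩ := hC.compl.2.2.2 m hm
    have hsN : s ∈ normalizer (A : Set G) := by
      have := mul_mem (inv_mem (hN he)) hmN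
      rwa [inv_mul_cancel_left] at this
    have hsC : s ∈ centralizer (A : Set G) := mem_centralizer_iff.mpr fun a ha => by
      have hd := Cfsg.Lib.Coprime.disjoint_of_coprime_card h.coprime_sigmaCore
      have h2 : s * a * s⁻¹ * a⁻¹ ∈ A := mul_mem ((mem_normalizer_iff.mp hsN a).mp ha) (inv_mem ha)
      have h3 : s * a * s⁻¹ * a⁻¹ ∈ Cfsg.sigmaCore M := by
        rw [show s * a * s⁻¹ * a⁻¹ = s * (a * s⁻¹ * a⁻¹) by group]
        exact mul_mem hs ((mem_normalizer_iff.mp (le_normalizer_sigmaCore M (h.le ha)) _).mp (inv_mem hs))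
      exact (commutatorElement_eq_one_iff_mul_comm.mp (mem_bot.mp (hd.le_bot ⟨h2, h3⟩))).symm
    rw [mem_bot.mp ((h.fixedfree hG).le ⟨hs, hsC⟩), mul_one]
    exact he
  · haveI := hA.1
    have hX1 : X ≠ ⊥ := fun e => (Fact.out : p.Prime).ne_one (by rw [e, card_bot] at hX; exact hX.symm)
    have hAC : A ≤ centralizer (X : Set G) := h.le_centralizer.trans (centralizer_le hXA)
    have hall : ∀ L : Subgroup G, IsCoatom L → centralizer (X : Set G) ≤ L → L = M := fun L hL hCL =>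
      by_contra fun hne' => hne (le_bot_iff.mp ((inf_le_inf le_rfl hCL).trans
        (h.inter hG hL hne' (hAC.trans hCL)).le))
    obtain ⟨L, hL, hCL⟩ := exists_coatom (centralizer_ne_top_of hG hX1)
    exact ⟨hall L hL hCL ▸ hCL, hall⟩

end Cfsg.Agent.S1418
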