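import Cfsg.Statements.S1419
import Cfsg.Agent.Lib.Local.Sigma.TauTwoSylow

set_option autoImplicit false
open Cfsg

namespace Cfsg.Agent.S1419

open Subgroup Cfsg.Lib Cfsg.Lib.Local Cfsg.Lib.Local.Uniq Cfsg.Lib.Local.Sigma
open scoped commutatorElement

/-- Let G be a minimal simple group of odd order whose Sylow p-subgroups are nonabelian, M a maximal subgroup with p ∈ τ₂(M), E a complement to M_σ in M and A ≤ E elementary abelian of order p ^ 2. Then τ₂(M) = {p}; A₀ = A ∩ C_G(M_σ) has order p and F(M) is generated by M_σ and A₀ (a direct product); and every subgroup X ≠ A₀ of E of order p satisfies M_σ ∩ C_G(X) = 1 and C_G(X) ⊄ M. -/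
theorem result {G : Type*} [Group G] [Finite G] (hG : Cfsg.IsMinSimpleOddOrder G)
    (M : Subgroup G) (hM : IsCoatom M) (E : Subgroup G) (hE : Cfsg.IsComplIn E (Cfsg.sigmaCore M) M) (p : ℕ) [Fact p.Prime] (hp : p ∈ Cfsg.tau2 M) (hS : ∀ S : Sylow p G, ¬ IsMulCommutative (S : Subgroup G))
    (A : Subgroup G) (hA : (A ≤ E ∧ Cfsg.IsElementaryAbelian p A ∧ Nat.card A = p ^ 2)) :
    Cfsg.tau2 M = {p} ∧
      (Nat.card ↥(A ⊓ Subgroup.centralizer (Cfsg.sigmaCore M : Set G)) = p ∧
        Cfsg.fittingOf M = Cfsg.sigmaCore M ⊔ (A ⊓ Subgroup.centralizer (Cfsg.sigmaCore M : Set G))) ∧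
      ∀ X : Subgroup G, X ≤ E → Nat.card X = p → X ≠ A ⊓ Subgroup.centralizer (Cfsg.sigmaCore M : Set G) →
        Cfsg.sigmaCore M ⊓ Subgroup.centralizer (X : Set G) = ⊥ ∧ ¬ Subgroup.centralizer (X : Set G) ≤ M := by
  obtain ⟨hAE, hAel, hAc⟩ := hA
  have hp' : p.Prime := Fact.out
  have hcE : Compl M E := ⟨hM, hE⟩
  have h : Tau2 p M A := ⟨hM, hp, hAE.trans hcE.le, hAel, hAc⟩
  obtain ⟨hEA, hEN⟩ := h.compl_structure hG hcE hAE
  haveI := hAel.1
  set K := Cfsg.sigmaCore M
  have hKne : K ≠ ⊥ := sigmaCore_ne_bot hG hM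
  obtain ⟨T, hAT⟩ := h.isPGroup.exists_le_sylow
  obtain ⟨t, htT, htM, htA, htC⟩ := h.exists_outer hG T hAT (hS T)
  obtain ⟨k, hk⟩ := pow_pow_eq_one T.isPGroup' htT
  obtain ⟨z, hzT, hzp, hz1, hzc⟩ := exists_central T.isPGroup' le_rfl le_normalizer (ne_bot_of_le_ne_bot h.ne_bot hAT)
  have hzA : z ∈ A := h.maximal hG hzp (centralizer_le hAT hzc)
  have htz : t * z = z * t := mem_centralizer_iff.mp hzc t htT
  have hAz : A ≤ centralizer ({z} : Set G) := h.le_centralizer.trans (h.centralizer_le_singleton hzA)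
  obtain ⟨a0, ha0, ha01, hN0, -⟩ := h.exists_line hG
  have ha0z : a0 ∉ zpowers z := fun hm => by
    rw [zpowers_eq_of_mem hzp hm ha01] at hN0
    exact htM (hN0 (mem_normalizer_zpowers_of_commute htz))
  obtain ⟨L, hL, hNL⟩ := exists_coatom (OddTransitivity.normalizer_ne_top_of hG (zpowers_ne_bot.mpr hz1)
    (ne_top_of_isPGroup hG (T.isPGroup'.to_le (zpowers_le.mpr hzT))))
  have htL : t ∈ L := hNL (mem_normalizer_zpowers_of_commute htz)
  have hLM : L ≠ M := fun e => htM (e ▸ htL)
  have hAL : A ≤ L := (hAz.trans (centralizer_le_normalizer_zpowers z)).trans hNL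
  have hMN : normalizer (M : Set G) = M :=
    eq_normalizer hG hM (fun e => h.ne_bot (le_bot_iff.mp (h.le.trans e.le))) hM.1 le_normalizer
  have houter : ∀ x ∈ A, x ∉ zpowers z → x ∉ zpowers a0 →
      ∃ g ∈ normalizer (A : Set G), g ∉ M ∧ zpowers (g * a0 * g⁻¹) = zpowers x := by
    intro x hx hxz hxa
    obtain ⟨n, hn⟩ := exists_pow_conj hAel hAc ⟨k, hk⟩ htA htC hzA hz1 htz ha0 ha0z hx hxz
    refine ⟨t ^ n, pow_mem htA n, fun hm => hxa ?_, hn⟩
    have hc : t ^ n ∈ centralizer (A : Set G) := h.pGroup_le hG (T.isPGroup'.to_le inf_le_left)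
      (inf_le_right : (T : Subgroup G) ⊓ M ≤ M) (le_inf hAT h.le) ⟨pow_mem htT n, hm⟩
    rw [(mem_centralizer_iff.mp hc a0 ha0).symm, mul_inv_cancel_right] at hn
    rw [hn]; exact mem_zpowers x
  have hfix : ∀ x ∈ A, x ∉ zpowers a0 → K ⊓ centralizer ({x} : Set G) = ⊥ := by
    intro x hx hxa
    have hx1 : x ≠ 1 := fun e => hxa (e ▸ one_mem _)
    by_cases hxz : x ∈ zpowers z
    · refine le_bot_iff.mp ((inf_le_inf le_rfl ?_).trans (h.inter hG hL hLM hAL).le)
      refine (centralizer_le_normalizer_zpowers x).trans ?_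
      rw [zpowers_eq_of_mem hzp hxz hx1]
      exact hNL
    obtain ⟨g, hgA, hgM, hg⟩ := houter x hx hxz hxa
    refine le_bot_iff.mp ((inf_le_inf le_rfl (fun y hy => ?_)).trans (h.inter hG (isCoatom_map_conj hM g)
      (fun e => hgM (hMN.le (Core.mem_normalizer_iff_map_conj.mpr e))) ?_).le)
    · have h1 := centralizer_le_normalizer_zpowers x hy
      rw [← hg, ← cj_zpowers] at h1
      have h2 := conj_mem_normalizer (g := g⁻¹) h1
      rw [cj_cj, inv_mul_cancel, cj_one, inv_inv] at h2
      exact ⟨_, hN0 h2, by simp [mul_assoc]⟩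
    · rw [← Core.map_conj_eq_of_mem_normalizer hgA]
      exact map_mono h.le
  have ha0K : a0 ∈ centralizer (K : Set G) := by
    suffices h1 : K ≤ centralizer ({a0} : Set G) from
      mem_centralizer_iff.mpr fun y hy => mem_centralizer_singleton_iff.mp (h1 hy)
    refine (Cfsg.Lib.Coprime.le_iSup_centralizer_of_not_isCyclic (not_isCyclic_of_elementary hAel hAc.ge)
      (h.le.trans (le_normalizer_sigmaCore M)) h.coprime_sigmaCore).trans (iSup_le ?_)
    rintro ⟨x, hx, hx1⟩
    by_cases hxa : x ∈ zpowers a0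
    · refine inf_le_right.trans fun y hy => ?_
      rw [← CommutatorPLength.centralizer_zpowers, zpowers_eq_of_mem (hAel.2 a0 ha0) hxa hx1,
        CommutatorPLength.centralizer_zpowers] at hy
      exact hy
    · exact (hfix x hx hxa).le.trans bot_le
  have hA0 : A ⊓ centralizer (K : Set G) = zpowers a0 := by
    refine le_antisymm (fun y hy => ?_) (le_inf (zpowers_le.mpr ha0) (zpowers_le.mpr ha0K))
    by_contra hne
    refine hKne (le_bot_iff.mp (le_trans (le_inf le_rfl ?_) (hfix y hy.1 hne).le))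
    exact fun w hw => mem_centralizer_singleton_iff.mpr (mem_centralizer_iff.mp hy.2 w hw)
  have hC0 : K ≤ centralizer ({a0} : Set G) := fun w hw =>
    mem_centralizer_singleton_iff.mpr (mem_centralizer_iff.mp ha0K w hw)
  have hnorm : M ≤ normalizer (zpowers a0 : Set G) := by
    conv_lhs => rw [← hcE.sup_eq]
    refine sup_le (hC0.trans (centralizer_le_normalizer_zpowers a0)) ?_
    rw [← hA0]
    refine (le_inf hEN ((hcE.le.trans (le_normalizer_sigmaCore M)).trans ?_)).trans inf_normalizer_le_normalizer_inf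
    refine Cfsg.Lib.Sig.le_normalizer_of_invariant fun g hg y hy => mem_centralizer_iff.mpr fun w hw => ?_
    have h1 := mem_centralizer_iff.mp hy (g⁻¹ * w * g) ((mem_normalizer_iff''.mp hg w).mp hw)
    calc w * (g * y * g⁻¹) = g * ((g⁻¹ * w * g) * y) * g⁻¹ := by group
      _ = g * (y * (g⁻¹ * w * g)) * g⁻¹ := by rw [h1]
      _ = g * y * g⁻¹ * w := by group
  have hA0M : zpowers a0 ≤ M := zpowers_le.mpr (h.le ha0)
  have hNM := normalizer_normal_eq hG hM hA0M (zpowers_ne_bot.mpr ha01) hnorm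
  have htau : Cfsg.tau2 M = {p} := by
    refine Set.eq_singleton_iff_unique_mem.mpr ⟨hp, fun r hr => ?_⟩
    by_contra hrp
    haveI : Fact r.Prime := ⟨hr.1⟩
    obtain ⟨B, hBE, hB⟩ := hcE.exists_tau_two hG hr
    obtain ⟨hEB, hEBN⟩ := hB.compl_structure hG hcE hBE
    have hcop : (Nat.card A).Coprime (Nat.card B) := by
      rw [hAc, hB.card]; exact ((Nat.coprime_primes hp' hr.1).mpr (Ne.symm hrp)).pow 2 2
    have hBA : B ≤ centralizer (A : Set G) := le_centralizer_of_normalizes (hBE.trans hEN) (hAE.trans hEBN)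
      (Cfsg.Lib.Coprime.disjoint_of_coprime_card hcop.symm).eq_bot
    have htB : t ∈ normalizer (B : Set G) := by
      refine Core.mem_normalizer_iff_map_conj.mpr
        (eq_of_le_of_card_ge ?_ (Cfsg.Lib.Coprime.card_map_conj B t).ge)
      rintro _ ⟨b, hb, rfl⟩
      have hb' : t * b * t⁻¹ ∈ centralizer (A : Set G) := by
        have h1 : cj t (centralizer (A : Set G)) ≤ centralizer (A : Set G) :=
          cj_centralizer.trans (by rw [cj, Core.map_conj_eq_of_mem_normalizer htA])
        exact h1 ⟨b, hBA hb, rfl⟩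
      exact hEB _ (h.mem_compl_of_normalizer hG hcE hAE (h.centralizer_le hG hM h.le hb')
        (centralizer_le_normalizer _ hb')) (show (t * b * t⁻¹) ^ r = 1 by
          rw [conj_pow, hB.elem.2 b hb, mul_one, mul_inv_cancel])
    have htnB : t ∉ centralizer (B : Set G) := fun e => by
      obtain ⟨b0, hb0, -, hNb, -⟩ := hB.exists_line hG
      exact htM (hNb (mem_normalizer_zpowers_of_commute (mem_centralizer_iff.mp e b0 hb0).symm))
    have hBL : B ≤ L :=
      ((hBA.trans (h.centralizer_le_singleton hzA)).trans (centralizer_le_normalizer_zpowers z)).trans hNL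
    have hpL : p ∈ Cfsg.sigma L := by
      by_contra hpL
      haveI := isMulCommutative_of_not_sigma hG hL hpL (T.isPGroup'.to_le (inf_le_left : (T : Subgroup G) ⊓ L ≤ T))
        inf_le_right
      exact htC (mem_centralizer_iff.mpr fun a ha => congrArg Subtype.val (mul_comm'
        (⟨a, hAT ha, hAL ha⟩ : ((T : Subgroup G) ⊓ L : Subgroup G)) ⟨t, htT, htL⟩))
    have hrL : r ∈ Cfsg.sigma L := by
      by_contra hrL
      have h' : Tau2 r L B := ⟨hL, ⟨hr.1, hrL, not_not.mp fun h2 => hrL (alpha_sub_sigma hG hL h2),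
        not_rankLE_of_elementary hBL hB.elem hB.card.ge⟩, hBL, hB.elem, hB.card⟩
      exact h.ne_bot (le_bot_iff.mp ((le_inf (le_sigmaCore hG hL hpL hAL h.isPGroup) h.le).trans
        (h'.inter hG hM (Ne.symm hLM) hB.le).le))
    refine htnB (mem_centralizer_iff.mpr fun b hb => (commute_of_derivedCore (q := r) (L := L) (V := B)
      (mem_derivedCore (hB.pClosed hG hL hBL) (le_commutator_of_sigma hG hL hpL
        (inf_le_right : (T : Subgroup G) ⊓ L ≤ L) (T.isPGroup'.to_le inf_le_left) ⟨htT, htL⟩) ?_)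
      (hBL hb) hB.isPGroup (mul_mem ((mem_normalizer_iff.mp htB b).mp hb) (inv_mem hb))).symm)
    exact (((Nat.coprime_primes hp' hr.1).mpr (Ne.symm hrp)).pow_left k).coprime_dvd_left
      (orderOf_dvd_of_pow_eq_one hk)
  refine ⟨htau, ⟨?_, le_antisymm ?_ ?_⟩, fun X hXE hX hne => ?_⟩
  · rw [hA0]; exact card_zpowers_eq (hAel.2 a0 ha0) ha01
  · rw [hA0, Cfsg.fittingOf, Core.fittingSubgroup_eq_iSup_pCore, Subgroup.map_iSup]
    refine iSup_le ?_
    rintro ⟨q, hq⟩
    haveI : Fact q.Prime := ⟨hq⟩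
    show core q M ≤ _
    have hRM := core_le q M
    have hRp := core_isPGroup q M
    set R := core q M with hR
    by_cases hqσ : q ∈ Cfsg.sigma M
    · exact (le_sigmaCore hG hM hqσ hRM hRp).trans le_sup_left
    refine le_trans (fun x hx => ?_) le_sup_right
    have hcopRK : (Nat.card R).Coprime (Nat.card K) := by
      obtain ⟨i, hi⟩ := IsPGroup.iff_card.mp hRp
      rw [hi]
      exact (hq.coprime_iff_not_dvd.mpr fun hd => hqσ (sigmaCore_isPiSub M q hq hd)).pow_left i
    have hRK : R ≤ centralizer (K : Set G) := le_centralizer_of_normalizes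
      (hRM.trans (le_normalizer_sigmaCore M)) ((sigmaCore_le M).trans (le_normalizer_core q M))
      (Cfsg.Lib.Coprime.disjoint_of_coprime_card hcopRK).eq_bot
    by_cases hx1 : x = 1
    · rw [hx1]; exact one_mem _
    rcases eq_or_ne q p with rfl | hqp
    · have hsup : IsPGroup q ↥(A ⊔ R) :=
        IsPGroup.to_sup_of_normal_right' h.isPGroup hRp (h.le.trans (le_normalizer_core q M))
      obtain ⟨T', hT'⟩ := hsup.exists_le_sylow
      have hAT' : A ≤ (T' : Subgroup G) := le_sup_left.trans hT'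
      have hRT' : R ≤ (T' : Subgroup G) := le_sup_right.trans hT'
      have hRA : R ≤ centralizer (A : Set G) :=
        le_sup_right.trans (h.pGroup_le hG hsup (sup_le h.le hRM) le_sup_left)
      obtain ⟨C, hCcyc, hC, hTC⟩ :=
        exists_cyclic_factor hG hAel hAc (fun y => h.maximal hG) T' hAT' (hS T')
      obtain ⟨s, hsT, hsM, hsA, -⟩ := h.exists_outer hG T' hAT' (hS T')
      haveI := hCcyc
      have hsC : ∀ y : G, y ∈ centralizer (A : Set G) → s * y * s⁻¹ ∈ centralizer (A : Set G) := fun y hy => by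
        have h1 : cj s (centralizer (A : Set G)) ≤ centralizer (A : Set G) :=
          cj_centralizer.trans (by rw [cj, Core.map_conj_eq_of_mem_normalizer hsA])
        exact h1 ⟨y, hy, rfl⟩
      have hpowC : ∀ y ∈ (T' : Subgroup G) ⊓ centralizer (A : Set G), y ^ q ∈ C := fun y hy => by
        obtain ⟨a, ha, c, hc, rfl⟩ := Cfsg.Lib.Coprime.exists_mul_of_mem_sup
          ((hC.trans inf_le_right).trans (centralizer_le_normalizer _)) (hTC hy)
        rw [(show Commute a c from mem_centralizer_iff.mp (hC hc).2 a ha).mul_pow, hAel.2 a ha, one_mul]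
        exact pow_mem hc q
      have hmem : ∀ y ∈ R, y ^ q = 1 → y ∈ zpowers a0 := fun y hy hyq => by
        rw [← hA0]; exact ⟨h.maximal hG hyq (hRA hy), hRK hy⟩
      by_contra hxa
      obtain ⟨j, hj⟩ := pow_pow_eq_one hRp hx
      have key : ∀ j : ℕ, ∀ y ∈ R, y ^ q ^ j = 1 → y ∈ zpowers a0 := by
        intro j
        induction j with
        | zero => intro y _ hy; rw [pow_zero, pow_one] at hy; rw [hy]; exact one_mem _
        | succ j ih =>
          intro y hy hyq
          rw [pow_succ', pow_mul] at hyq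
          have h1 := ih _ (pow_mem hy q) hyq
          by_cases hy1 : y ^ q = 1
          · exact hmem y hy hy1
          exfalso
          have h2 : y ^ q ∈ C := hpowC y ⟨hRT' hy, hRA hy⟩
          have h3 : s * y ^ q * s⁻¹ ∈ C := by
            rw [← conj_pow]
            exact hpowC _ (Subgroup.mem_inf.mpr ⟨mul_mem (mul_mem hsT (hRT' hy)) (inv_mem hsT), hsC y (hRA hy)⟩)
          have h4 : (y ^ q) ^ q = 1 := pow_eq_one_of_mem_zpowers (hAel.2 a0 ha0) h1
          have h5 := mem_zpowers_of_isCyclic h2 h3 h4 hy1 (by rw [conj_pow, h4, mul_one, mul_inv_cancel])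
          refine hsM (hNM.le ?_)
          rw [← zpowers_eq_of_mem (hAel.2 a0 ha0) h1 hy1, Core.mem_normalizer_iff_map_conj,
            MonoidHom.map_zpowers]
          exact zpowers_eq_of_mem h4 (by simpa using h5) (by simpa using hy1)
      exact hxa (key j x hx hj)
    exfalso
    have hqd : q ∣ Nat.card G := by
      obtain ⟨i, hi⟩ := IsPGroup.iff_card.mp hRp
      refine (dvd_pow_self q ?_).trans (hi ▸ R.card_subgroup_dvd_card)
      intro h0
      exact hx1 (mem_bot.mp ((eq_bot_of_card_eq R (by rw [hi, h0, pow_zero])).le hx))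
    have hr1 : Cfsg.PRankLE q 1 ↥M := by
      by_contra h1
      have hm : q ∈ Cfsg.tau2 M := ⟨hq, hqσ, not_not.mp fun h2 => hqσ (alpha_sub_sigma hG hM h2), h1⟩
      rw [htau, Set.mem_singleton_iff] at hm
      exact hqp hm
    obtain ⟨S, hRS⟩ := (hRp.of_equiv (subgroupOfEquivOfLe hRM).symm : IsPGroup q (R.subgroupOf M)).exists_le_sylow
    set P := (S : Subgroup M).map M.subtype
    have hRP : R ≤ P := by rw [← map_subgroupOf_eq_of_le hRM]; exact map_mono hRS
    haveI : IsCyclic P := by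
      by_contra hnc
      obtain ⟨W, hWP, hW, hWc⟩ := exists_sq (Local.Uniq.ne_two hG hqd) (S.isPGroup'.map _) hnc
      exact not_rankLE_of_elementary (hWP.trans (map_subtype_le _)) hW hWc.ge hr1
    obtain ⟨w, hw, -, hw1⟩ := exists_orderOf hRp (fun e => hx1 (mem_bot.mp (e.le hx)))
    refine hqσ ⟨hq, ?_, S, fun g hg => ?_⟩
    · obtain ⟨i, hi⟩ := IsPGroup.iff_card.mp hRp
      refine (dvd_pow_self q ?_).trans (hi ▸ card_dvd_of_le hRM)
      intro h0
      exact hx1 (mem_bot.mp ((eq_bot_of_card_eq R (by rw [hi, h0, pow_zero])).le hx))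
    obtain ⟨v, hv, hvq, hv1, -⟩ := exists_central hRp le_rfl le_normalizer (fun e => hx1 (mem_bot.mp (e.le hx)))
    haveI : IsCyclic R := isCyclic_of_injective (f := inclusion hRP) (inclusion_injective hRP)
    exact (normalizer_normal_eq hG hM (zpowers_le.mpr (hRM hv)) (zpowers_ne_bot.mpr hv1)
      (le_normalizer_line hv hvq hv1 (le_normalizer_core q M))).le
      (le_normalizer_line (hRP hv) hvq hv1 (zpowers_le.mpr hg) (mem_zpowers g))
  · rw [hA0]
    haveI : Group.IsNilpotent ↥((Cfsg.piCore (Cfsg.sigma M) ↥M).map M.subtype) := h.isNilpotent_sigmaCore hG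
    refine sup_le ?_ ?_
    · refine map_mono (Core.le_fittingSubgroup ?_)
      exact Group.nilpotent_of_mulEquiv (Subgroup.equivMapOfInjective _ M.subtype M.subtype_injective).symm
    · rw [← map_subgroupOf_eq_of_le hA0M]
      haveI : ((zpowers a0).subgroupOf M).Normal := (normal_subgroupOf_iff_le_normalizer hA0M).mpr hnorm
      refine map_mono (Core.le_fittingSubgroup ?_)
      haveI : Group.IsNilpotent (zpowers a0) := (IsPGroup.of_card (p := p) (n := 1) (by rw [pow_one]; exact card_zpowers_eq (hAel.2 a0 ha0) ha01)).isNilpotent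
      exact Group.nilpotent_of_mulEquiv (subgroupOfEquivOfLe hA0M).symm
  · rw [hA0] at hne
    obtain ⟨x, hx, hx1⟩ := X.bot_or_exists_ne_one.resolve_left fun e => by
      rw [e, card_bot] at hX; exact hp'.ne_one hX.symm
    have hxp : x ^ p = 1 := by
      rw [← hX]; exact congrArg Subtype.val (pow_card_eq_one' (x := (⟨x, hx⟩ : X)))
    have hXx : zpowers x = X :=
      eq_of_le_of_card_ge (zpowers_le.mpr hx) (by rw [card_zpowers_eq hxp hx1, hX])
    have hxA : x ∈ A := hEA x (hXE hx) hxp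
    have hxa : x ∉ zpowers a0 := fun hm => hne (hXx.symm.trans (zpowers_eq_of_mem (hAel.2 a0 ha0) hm hx1))
    rw [← hXx, CommutatorPLength.centralizer_zpowers]
    refine ⟨hfix x hxA hxa, fun hle => ?_⟩
    by_cases hxz : x ∈ zpowers z
    · refine htM (hle ?_)
      rw [← CommutatorPLength.centralizer_zpowers, zpowers_eq_of_mem hzp hxz hx1,
        CommutatorPLength.centralizer_zpowers]
      exact mem_centralizer_singleton_iff.mpr htz
    obtain ⟨g, hgA, hgM, hg⟩ := houter x hxA hxz hxa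
    have hKle : K ≤ cj g⁻¹ M := fun y hy => by
      have h1 : g * y * g⁻¹ ∈ centralizer ({x} : Set G) := by
        rw [← CommutatorPLength.centralizer_zpowers, ← hg, CommutatorPLength.centralizer_zpowers]
        refine mem_centralizer_singleton_iff.mpr ?_
        calc g * y * g⁻¹ * (g * a0 * g⁻¹) = g * (y * a0) * g⁻¹ := by group
          _ = g * (a0 * y) * g⁻¹ := by rw [mem_centralizer_iff.mp ha0K y hy]
          _ = g * a0 * g⁻¹ * (g * y * g⁻¹) := by group
      exact ⟨_, hle h1, by simp [mul_assoc]⟩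
    have hgi : g⁻¹ ∉ M := fun e => hgM (inv_mem_iff.mp e)
    refine hKne (le_bot_iff.mp ((le_inf le_rfl hKle).trans (h.inter hG (isCoatom_map_conj hM g⁻¹)
      (fun e => hgi (hMN.le (Core.mem_normalizer_iff_map_conj.mpr e))) ?_).le))
    rw [← Core.map_conj_eq_of_mem_normalizer (inv_mem hgA)]
    exact map_mono h.le

end Cfsg.Agent.S1419
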