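import Cfsg.Statements.S1537
import Cfsg.Agent.Lib.Local.Sigma.DadeSets

set_option autoImplicit false
open Cfsg

namespace Cfsg.Agent.S1537

/-- Let G be a minimal simple group of odd order and M a maximal subgroup. For A equal to A₁(M), A(M) or A₀(M): the set normaliser of A is M, and the Dade hypothesis holds for A, M and the function a ↦ R(a). -/
theorem result {G : Type*} [Group G] [Finite G] (hG : Cfsg.IsMinSimpleOddOrder G) (M : Subgroup G) (hM : IsCoatom M) (A : Set G) (hA : A = Cfsg.typeA1 M ∨ A = Cfsg.typeA M ∨ A = Cfsg.typeA0 M) : Subgroup.normalizer A = M ∧ Cfsg.DadeHypothesis A M (Cfsg.supportR M) := by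
  classical
  open Cfsg.Lib.Local.Sigma in
  obtain ⟨K, U, hU⟩ := exists_decomposition hG hM
  open Cfsg.Lib.Local.Sigma in
  have hD := dade_typeA0 hG hM hU
  open Cfsg.Lib.Local.Sigma in
  have hcore := typeCore_eq_sigmaCore hG hM hU
  open Cfsg.Lib.Local.Sigma in
  have h1A := typeA1_subset_typeA hG hM hU
  have hAA0 : Cfsg.typeA M ⊆ Cfsg.typeA0 M := fun a ha => Or.inl ha
  obtain ⟨hsub, hinv⟩ : A ⊆ Cfsg.typeA0 M ∧ ∀ m ∈ M, ∀ a ∈ A, m * a * m⁻¹ ∈ A := by
    rcases hA with rfl | rfl | rfl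
    · exact ⟨h1A.trans hAA0, Cfsg.Lib.Local.Sigma.typeA1_invariant hG hM hU⟩
    · exact ⟨hAA0, Cfsg.Lib.Local.Sigma.typeA_invariant hG hM hU⟩
    · exact ⟨subset_rfl, hD.conj_mem⟩
  have hne : A.Nonempty := by
    obtain ⟨x, hx, hx1⟩ := (Subgroup.bot_or_exists_ne_one (Cfsg.sigmaCore M)).resolve_left
      (Cfsg.Lib.Local.Sigma.sigmaCore_ne_bot hG hM)
    have h : x ∈ Cfsg.typeA1 M := by rw [Cfsg.typeA1, hcore]; exact ⟨hx, hx1⟩
    rcases hA with rfl | rfl | rfl
    · exact ⟨x, h⟩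
    · exact ⟨x, h1A h⟩
    · exact ⟨x, hAA0 (h1A h)⟩
  refine ⟨Cfsg.Lib.Local.Sigma.setNormalizer_eq hG hM hinv hne (fun a ha => hD.subset (hsub ha))
    fun h => hD.one_not_mem (hsub h), fun h => hD.one_not_mem (hsub h), fun a ha => hD.subset (hsub ha),
    hinv, fun a ha g hg => hD.fusion a (hsub ha) g (hsub hg), fun a ha => hD.le_centralizer a (hsub ha),
    fun a ha => hD.conj_mem_H a (hsub ha), fun a ha => hD.inf_eq_bot a (hsub ha),
    fun a ha => hD.sup_eq a (hsub ha), fun a ha b hb => hD.coprime a (hsub ha) b (hsub hb)⟩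

end Cfsg.Agent.S1537
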