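import Cfsg.Statements.S0205
import Cfsg.Agent.Lib.OddOrder.Main
import Cfsg.Agent.Lib.OddOrder.NoTypeV
import Cfsg.Agent.Lib.OddOrder.NeighbourFinal

set_option autoImplicit false

namespace Cfsg.Agent.S0205

universe u

theorem isSolvable_aux : ∀ (n : ℕ) (G : Type u) [Group G] [Finite G], Nat.card G = n →
    Odd (Nat.card G) → Group.IsSolvable G := by
  intro n
  induction n using Nat.strong_induction_on with
  | _ n ih =>
    intro G _ _ hn hodd
    subst hn
    by_contra hns
    have hsub : ∀ H : Subgroup G, H ≠ ⊤ → Group.IsSolvable H := by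
      intro H hH
      refine ih (Nat.card H) ?_ H rfl (hodd.of_dvd_nat H.card_subgroup_dvd_card)
      exact lt_of_le_of_ne (Subgroup.card_le_card_group H) (fun e => hH (Subgroup.eq_top_of_card_eq H e))
    have hnc : ¬ IsMulCommutative G := fun h => hns (Group.isSolvable_of_comm fun a b => h.is_comm.comm a b)
    haveI : Nontrivial G := by
      by_contra hnt
      rw [not_nontrivial_iff_subsingleton] at hnt
      exact hns inferInstance
    have hsimple : IsSimpleGroup G := by
      refine IsSimpleGroup.mk fun N hN => ?_
      by_contra hne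
      push Not at hne
      haveI := hN
      haveI : Group.IsSolvable N := hsub N hne.2
      haveI : Group.IsSolvable (G ⧸ N) := by
        refine ih (Nat.card (G ⧸ N)) ?_ _ rfl (hodd.of_dvd_nat (Subgroup.card_quotient_dvd_card N))
        rw [N.card_eq_card_quotient_mul_card_subgroup]
        exact lt_mul_of_one_lt_right Nat.card_pos (by
          have := (Subgroup.one_lt_card_iff_ne_bot N).2 hne.1
          exact this)
      exact hns (Group.isSolvable_of_ker_le_range N.subtype (QuotientGroup.mk' N) (by simp))
    letI := Fintype.ofFinite G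
    have hG : Cfsg.IsMinSimpleOddOrder G := ⟨hodd, hsimple, hnc, hsub⟩
    exact Cfsg.Lib.OddOrder.not_minSimple_of hG
      (fun _ hM => Cfsg.Lib.OddOrder.not_typeV hG hM)
      (fun _ _ _ _ _ _ _ P => Cfsg.Lib.OddOrder.neighbours P)

/-- Every finite group of odd order is solvable. -/
theorem result {G : Type*} [Group G] [Finite G] (hG : Odd (Nat.card G)) : Group.IsSolvable G :=
  isSolvable_aux _ G rfl hG

end Cfsg.Agent.S0205
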