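import Cfsg.Statements.S0990
import Mathlib.GroupTheory.SpecificGroups.Alternating
import Mathlib.GroupTheory.Sylow
-- import your own Cfsg.Agent.* helpers here

set_option autoImplicit false
open Cfsg

namespace Cfsg.Agent.S0990


/-- Let p be an odd prime and P a Sylow p-subgroup of the symmetric group on a finite set with at least two elements. Then P is contained in the alternating group, and twice the order of the normalizer of P inside the alternating group equals the order of the normalizer of P in the symmetric group. -/
theorem result {α : Type*} [Fintype α] [DecidableEq α] (hα : 2 ≤ Fintype.card α) (p : ℕ) [Fact p.Prime] (hp : p ≠ 2) (P : Sylow p (Equiv.Perm α)) : (P : Subgroup (Equiv.Perm α)) ≤ alternatingGroup α ∧ 2 * Nat.card ↥(Subgroup.normalizer ((((P : Subgroup (Equiv.Perm α)).subgroupOf (alternatingGroup α) : Subgroup ↥(alternatingGroup α)) : Set ↥(alternatingGroup α)))) = Nat.card ↥(Subgroup.normalizer ((P : Subgroup (Equiv.Perm α)) : Set (Equiv.Perm α))) := by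
  classical
  have : Nontrivial α := Fintype.one_lt_card_iff_nontrivial.mp hα
  have hp' := (Fact.out : p.Prime)
  have hPA : (P : Subgroup (Equiv.Perm α)) ≤ alternatingGroup α := by
    intro x hx
    rw [Equiv.Perm.mem_alternatingGroup]
    obtain ⟨k, hk⟩ := P.isPGroup' ⟨x, hx⟩
    have h1 : Equiv.Perm.sign x ^ p ^ k = 1 := by
      rw [← map_pow, show x ^ p ^ k = 1 from congrArg Subtype.val hk, map_one]
    rcases Int.units_eq_one_or (Equiv.Perm.sign x) with h | h
    · exact h
    · exfalso
      rw [h, ((hp'.odd_of_ne_two hp).pow).neg_one_pow] at h1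
      exact absurd h1 (by decide)
  refine ⟨hPA, ?_⟩
  set A := alternatingGroup α
  set N := Subgroup.normalizer ((P : Subgroup (Equiv.Perm α)) : Set (Equiv.Perm α))
  have hsub : Subgroup.normalizer ((((P : Subgroup (Equiv.Perm α)).subgroupOf A : Subgroup A)) : Set A) =
      N.subgroupOf A := by
    apply le_antisymm
    · intro x hx
      have h1 := Subgroup.le_normalizer_map A.subtype (Subgroup.mem_map_of_mem A.subtype hx)
      rwa [Subgroup.map_subgroupOf_eq_of_le hPA] at h1
    · intro x hx
      rw [Subgroup.mem_normalizer_iff]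
      intro y
      exact Subgroup.mem_normalizer_iff.mp (show (x : Equiv.Perm α) ∈ N from hx) y
  rw [hsub]
  have hA2 : A.index = 2 := by
    exact alternatingGroup.index_eq_two
  have hfr := Sylow.normalizer_sup_eq_top' P hPA
  have hrel : A.relIndex N = 2 := by
    have hfr' : N ⊔ A = ⊤ := hfr
    rw [← Subgroup.relIndex_sup_right (H := N), hfr', Subgroup.relIndex_top_right, hA2]
  have h1 : Nat.card (N.subgroupOf A) = Nat.card ↥(A.subgroupOf N) := Nat.card_congr
    { toFun := fun x => ⟨⟨x.1.1, x.2⟩, x.1.2⟩
      invFun := fun x => ⟨⟨x.1.1, x.2⟩, x.1.2⟩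
      left_inv := fun _ => rfl
      right_inv := fun _ => rfl }
  rw [h1, mul_comm, ← hrel]
  exact Subgroup.card_mul_index _

end Cfsg.Agent.S0990
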