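import Cfsg.Statements.S0266
import Mathlib
open scoped LinearAlgebra.Projectivization

set_option autoImplicit false
open scoped MatrixGroups
open Cfsg

namespace Cfsg.Agent.S0266

theorem decomp {F : Type*} [Field F] (A B C : ℙ F (Fin 2 → F)) (hAB : A ≠ B) (hAC : A ≠ C) (hBC : B ≠ C) :
    ∃ (g : GL (Fin 2) F) (u v : Fin 2 → F) (hu : u ≠ 0) (hv : v ≠ 0) (huv : u + v ≠ 0),
      Projectivization.mk F u hu = A ∧ Projectivization.mk F v hv = B ∧ Projectivization.mk F (u + v) huv = C ∧
      g.val = !![u 0, v 0; u 1, v 1] := by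
  have hli : LinearIndependent F ![A.rep, B.rep] := Projectivization.linearIndependent_pair_iff_ne.2 hAB
  have hspan : C.rep ∈ Submodule.span F (Set.range ![A.rep, B.rep]) := by
    rw [hli.span_eq_top_of_card_eq_finrank (by simp)]; trivial
  rw [Submodule.mem_span_range_iff_exists_fun] at hspan
  obtain ⟨c, hc⟩ := hspan
  simp [Fin.sum_univ_two] at hc
  have h0 : c 0 ≠ 0 := by
    intro e
    rw [e, zero_smul, zero_add] at hc
    apply hBC
    rw [← Projectivization.mk_rep B, ← Projectivization.mk_rep C, eq_comm, Projectivization.mk_eq_mk_iff']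
    exact ⟨c 1, hc⟩
  have h1 : c 1 ≠ 0 := by
    intro e
    rw [e, zero_smul, add_zero] at hc
    apply hAC
    rw [← Projectivization.mk_rep A, ← Projectivization.mk_rep C, eq_comm, Projectivization.mk_eq_mk_iff']
    exact ⟨c 0, hc⟩
  have hdet : (!![(c 0 • A.rep) 0, (c 1 • B.rep) 0; (c 0 • A.rep) 1, (c 1 • B.rep) 1]).det ≠ 0 := by
    intro h
    have h' : (Matrix.transpose !![A.rep 0, A.rep 1; B.rep 0, B.rep 1]).det = 0 := by
      rw [Matrix.det_transpose, Matrix.det_fin_two]
      simp [Matrix.det_fin_two] at h ⊢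
      have h2 : c 0 * c 1 * (A.rep 0 * B.rep 1 - A.rep 1 * B.rep 0) = 0 := by linear_combination h
      linear_combination (mul_eq_zero.1 h2).resolve_left (mul_ne_zero h0 h1)
    rw [Matrix.det_transpose] at h'
    have hind : LinearIndependent F (Matrix.row !![A.rep 0, A.rep 1; B.rep 0, B.rep 1]) := by
      convert hli using 1
      funext i j; fin_cases i <;> fin_cases j <;> rfl
    exact (Matrix.linearIndependent_rows_iff_isUnit.1 hind).map (Matrix.detMonoidHom) |>.ne_zero h'
  refine ⟨Matrix.GeneralLinearGroup.mkOfDetNeZero _ hdet, c 0 • A.rep, c 1 • B.rep, smul_ne_zero h0 A.rep_nonzero,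
    smul_ne_zero h1 B.rep_nonzero, by rw [hc]; exact C.rep_nonzero, ?_, ?_, ?_, rfl⟩
  · conv_rhs => rw [← Projectivization.mk_rep A]
    exact (Projectivization.mk_eq_mk_iff' F _ _ _ _).2 ⟨c 0, rfl⟩
  · conv_rhs => rw [← Projectivization.mk_rep B]
    exact (Projectivization.mk_eq_mk_iff' F _ _ _ _).2 ⟨c 1, rfl⟩
  · conv_rhs => rw [← Projectivization.mk_rep C]
    congr 1

theorem smul_eq {F : Type*} [Field F] (g : GL (Fin 2) F) {u v : Fin 2 → F} (hg : g.val = !![u 0, v 0; u 1, v 1])
    (w : Fin 2 → F) : g • w = w 0 • u + w 1 • v := by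
  show g.val • w = _
  rw [hg]
  funext i
  fin_cases i <;> simp [Matrix.smul_eq_mulVec, Matrix.mulVec, dotProduct, Fin.sum_univ_two] <;> ring

theorem pretransitive {F : Type*} [Field F] :
    MulAction.IsMultiplyPretransitive (Matrix.ProjGenLinGroup (Fin 2) F) (ℙ F (Fin 2 → F)) 3 := by
  have hP : (![1, 0] : Fin 2 → F) ≠ 0 := fun h => one_ne_zero (congrFun h 0)
  have hQ : (![0, 1] : Fin 2 → F) ≠ 0 := fun h => one_ne_zero (congrFun h 1)
  have hR : (![1, 1] : Fin 2 → F) ≠ 0 := fun h => one_ne_zero (congrFun h 0)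
  have key : ∀ a : Fin 3 ↪ ℙ F (Fin 2 → F), ∃ g : Matrix.ProjGenLinGroup (Fin 2) F,
      g • Projectivization.mk F _ hP = a 0 ∧ g • Projectivization.mk F _ hQ = a 1 ∧ g • Projectivization.mk F _ hR = a 2 := by
    intro a
    obtain ⟨g, u, v, hu, hv, huv, e0, e1, e2, hg⟩ := decomp (a 0) (a 1) (a 2) (a.injective.ne (by decide))
      (a.injective.ne (by decide)) (a.injective.ne (by decide))
    refine ⟨Matrix.ProjGenLinGroup.mk g, ?_, ?_, ?_⟩
    · rw [Projectivization.PGL.mk_smul_mk, ← e0]; congr 1; rw [smul_eq g hg]; simp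
    · rw [Projectivization.PGL.mk_smul_mk, ← e1]; congr 1; rw [smul_eq g hg]; simp
    · rw [Projectivization.PGL.mk_smul_mk, ← e2]; congr 1; rw [smul_eq g hg]; simp
  refine ⟨fun a b => ?_⟩
  obtain ⟨g, g0, g1, g2⟩ := key a
  obtain ⟨h, k0, k1, k2⟩ := key b
  refine ⟨h * g⁻¹, Function.Embedding.ext fun i => ?_⟩
  rw [Function.Embedding.smul_apply, mul_smul]
  fin_cases i
  · show h • g⁻¹ • a 0 = b 0
    rw [← g0, inv_smul_smul, k0]
  · show h • g⁻¹ • a 1 = b 1
    rw [← g1, inv_smul_smul, k1]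
  · show h • g⁻¹ • a 2 = b 2
    rw [← g2, inv_smul_smul, k2]

/-- PGL_2(F) is sharply 3-transitive on the projective line: it is 3-transitive and the stabiliser of three distinct points is trivial. -/
theorem result {F : Type*} [Field F] : MulAction.IsMultiplyPretransitive (Matrix.ProjGenLinGroup (Fin 2) F) (Projectivization F (Fin 2 → F)) 3 ∧ ∀ (g : Matrix.ProjGenLinGroup (Fin 2) F) (a b c : Projectivization F (Fin 2 → F)), a ≠ b → a ≠ c → b ≠ c → g • a = a → g • b = b → g • c = c → g = 1 := by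
  refine ⟨pretransitive, fun g a b c hab hac hbc ha hb hc => ?_⟩
  obtain ⟨s, u, v, hu, hv, huv, e0, e1, e2, hs⟩ := decomp a b c hab hac hbc
  induction g using Matrix.ProjGenLinGroup.induction_on with | mk g =>
  rw [← e0, Projectivization.PGL.mk_smul_mk, Projectivization.mk_eq_mk_iff'] at ha
  rw [← e1, Projectivization.PGL.mk_smul_mk, Projectivization.mk_eq_mk_iff'] at hb
  rw [← e2, Projectivization.PGL.mk_smul_mk, Projectivization.mk_eq_mk_iff'] at hc
  obtain ⟨x, hx⟩ := ha
  obtain ⟨y, hy⟩ := hb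
  obtain ⟨z, hz⟩ := hc
  simp only [smul_add, ← hx, ← hy] at hz
  have hdet : u 0 * v 1 - v 0 * u 1 ≠ 0 := by
    have := s.det.ne_zero
    rw [Matrix.GeneralLinearGroup.val_det_apply, hs, Matrix.det_fin_two] at this
    simpa using this
  have a0 := congrFun hz 0
  have a1 := congrFun hz 1
  simp only [Pi.smul_apply, Pi.add_apply, smul_eq_mul] at a0 a1
  have hzx : z = x := by
    refine sub_eq_zero.1 ((mul_eq_zero.1 ?_).resolve_right hdet)
    linear_combination v 1 * a0 - v 0 * a1
  have hzy : z = y := by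
    refine sub_eq_zero.1 ((mul_eq_zero.1 ?_).resolve_right hdet)
    linear_combination u 0 * a1 - u 1 * a0
  subst hzx
  subst hzy
  obtain ⟨Z, hZ⟩ : ∃ Z : Fˣ, (Z : F) = z := ⟨Units.mk0 z (fun e => by
      rw [e, zero_smul] at hx; exact (smul_ne_zero_iff_ne g).2 hu hx.symm), rfl⟩
  have hall : g * s = s * Matrix.GeneralLinearGroup.scalar (Fin 2) Z := by
    refine Units.ext ?_
    rw [Units.val_mul, Units.val_mul, hs]
    have hx0 := congrFun hx
    have hy0 := congrFun hy
    change ∀ i, z * u i = (g.val • u) i at hx0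
    change ∀ i, z * v i = (g.val • v) i at hy0
    simp [Matrix.smul_eq_mulVec, Matrix.mulVec, dotProduct, Fin.sum_univ_two] at hx0 hy0
    ext i j
    fin_cases i <;> fin_cases j <;> simp [Matrix.mul_apply, Fin.sum_univ_two, hZ] <;> first
      | linear_combination -hx0.1
      | linear_combination -hx0.2
      | linear_combination -hy0.1
      | linear_combination -hy0.2
  have : g = Matrix.GeneralLinearGroup.scalar (Fin 2) Z := by
    refine mul_right_cancel (b := s) (hall.trans ?_)
    refine Units.ext ?_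
    ext i j; simp [mul_comm]
  rw [this, Matrix.ProjGenLinGroup.mk_scalar]

end Cfsg.Agent.S0266
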