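import Cfsg.Statements.S0262
import Mathlib
open scoped Matrix

set_option autoImplicit false
open Cfsg

namespace Cfsg.Agent.S0262

/-- For an odd prime r different from the characteristic, the Sylow r-subgroups of SL_2(q) are cyclic. -/
theorem result {F : Type*} [Field F] [Fintype F] (p : ℕ) [Fact p.Prime] [CharP F p] (r : ℕ) [Fact r.Prime] (hr : r ≠ 2) (hrp : r ≠ p) (R : Sylow r (Matrix.SpecialLinearGroup (Fin 2) F)) : IsCyclic (R : Subgroup (Matrix.SpecialLinearGroup (Fin 2) F)) := by
  classical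
  rcases subsingleton_or_nontrivial ↥(R : Subgroup (Matrix.SpecialLinearGroup (Fin 2) F)) with hs | hn
  · exact isCyclic_of_subsingleton
  haveI := R.isPGroup'.center_nontrivial
  obtain ⟨⟨z, hzc⟩, hz1⟩ := exists_ne (1 : Subgroup.center ↥(R : Subgroup (Matrix.SpecialLinearGroup (Fin 2) F)))
  have hz : z ≠ 1 := fun h => hz1 (Subtype.ext h)
  let K := AlgebraicClosure F
  let φ : Matrix (Fin 2) (Fin 2) F →+* Matrix (Fin 2) (Fin 2) K := (algebraMap F K).mapMatrix
  have hrel : ∀ x : ↥(R : Subgroup (Matrix.SpecialLinearGroup (Fin 2) F)), x ≠ 1 →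
      x.1.val 0 0 + x.1.val 1 1 = 2 → False := by
    intro x hx htr
    obtain ⟨N, hN⟩ : ∃ N, N = x.1.val - 1 := ⟨_, rfl⟩
    have hdet : x.1.val 0 0 * x.1.val 1 1 - x.1.val 0 1 * x.1.val 1 0 = 1 := by
      rw [← Matrix.det_fin_two]; exact x.1.2
    have hN2 : N * N = 0 := by
      ext i j
      fin_cases i <;> fin_cases j <;> simp [hN, Matrix.mul_apply, Fin.sum_univ_two]
      · linear_combination (x.1.val 0 0) * htr - hdet
      · linear_combination (x.1.val 0 1) * htr
      · linear_combination (x.1.val 1 0) * htr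
      · linear_combination (x.1.val 1 1) * htr - hdet
    have hpow : ∀ a : ℕ, x.1.val ^ a = 1 + (a : F) • N := by
      intro a
      induction a with
      | zero => simp
      | succ a ih =>
        rw [pow_succ, ih, show x.1.val = 1 + N by rw [hN]; abel, mul_add, mul_one, add_mul, one_mul, smul_mul_assoc,
          hN2, smul_zero, add_zero, Nat.cast_succ, add_smul, one_smul]
        abel
    have hp : x ^ p = 1 := by
      refine Subtype.ext (Subtype.ext ?_)
      show (↑(x.1 ^ p) : Matrix (Fin 2) (Fin 2) F) = 1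
      rw [Matrix.SpecialLinearGroup.coe_pow, hpow, CharP.cast_eq_zero, zero_smul, add_zero]
    obtain ⟨a, ha⟩ := R.isPGroup' x
    have hco : Nat.Coprime p (r ^ a) := Nat.Coprime.pow_right a
      ((Nat.coprime_primes (Fact.out : p.Prime) (Fact.out : r.Prime)).2 (Ne.symm hrp))
    exact hx (orderOf_eq_one_iff.1 (Nat.eq_one_of_dvd_coprimes hco (orderOf_dvd_of_pow_eq_one hp) (orderOf_dvd_of_pow_eq_one ha)))
  obtain ⟨l, hl⟩ := Module.End.exists_eigenvalue (Matrix.mulVecLin (φ z.1.val))
  obtain ⟨v, hv⟩ := hl.exists_hasEigenvector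
  have hzv : φ z.1.val *ᵥ v = l • v := hv.apply_eq_smul
  have hz2 : ∀ w : Fin 2 → K, φ z.1.val *ᵥ w = l • w → v 0 * w 1 = v 1 * w 0 := by
    intro w hw
    by_contra hne
    have hne' : v 0 * w 1 - v 1 * w 0 ≠ 0 := sub_ne_zero.2 hne
    have a0 := congrFun hzv 0
    have a1 := congrFun hzv 1
    have b0 := congrFun hw 0
    have b1 := congrFun hw 1
    simp [φ, Matrix.mulVec, dotProduct, Fin.sum_univ_two] at a0 a1 b0 b1
    have c00 : algebraMap F K (z.1.val 0 0) = l := by
      refine sub_eq_zero.1 ((mul_eq_zero.1 ?_).resolve_right hne'); linear_combination w 1 * a0 - v 1 * b0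
    have c01 : algebraMap F K (z.1.val 0 1) = 0 := by
      refine (mul_eq_zero.1 ?_).resolve_right hne'; linear_combination v 0 * b0 - w 0 * a0
    have c10 : algebraMap F K (z.1.val 1 0) = 0 := by
      refine (mul_eq_zero.1 ?_).resolve_right hne'; linear_combination w 1 * a1 - v 1 * b1
    have c11 : algebraMap F K (z.1.val 1 1) = l := by
      refine sub_eq_zero.1 ((mul_eq_zero.1 ?_).resolve_right hne'); linear_combination v 0 * b1 - w 0 * a1
    have e01 : z.1.val 0 1 = 0 := (map_eq_zero _).1 c01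
    have e10 : z.1.val 1 0 = 0 := (map_eq_zero _).1 c10
    have e11 : z.1.val 1 1 = z.1.val 0 0 := (algebraMap F K).injective (c11.trans c00.symm)
    have hdet : z.1.val 0 0 * z.1.val 1 1 - z.1.val 0 1 * z.1.val 1 0 = 1 := by
      rw [← Matrix.det_fin_two]; exact z.1.2
    rw [e01, e11, zero_mul, sub_zero, mul_self_eq_one_iff] at hdet
    rcases hdet with hd | hd
    · exact hz (Subtype.ext (Matrix.SpecialLinearGroup.ext _ _ fun i j => by
        fin_cases i <;> fin_cases j <;> simp [e01, e10, e11, hd]))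
    · have hzz : z ^ 2 = 1 := Subtype.ext (Matrix.SpecialLinearGroup.ext _ _ fun i j => by
        rw [sq]
        fin_cases i <;> fin_cases j <;> simp [Matrix.mul_apply, Fin.sum_univ_two, e01, e10, e11, hd])
      obtain ⟨a, ha⟩ := R.isPGroup' z
      have hco : Nat.Coprime 2 (r ^ a) := Nat.Coprime.pow_right a
        ((Nat.coprime_primes Nat.prime_two (Fact.out : r.Prime)).2 (Ne.symm hr))
      exact hz (orderOf_eq_one_iff.1 (Nat.eq_one_of_dvd_coprimes hco (orderOf_dvd_of_pow_eq_one hzz) (orderOf_dvd_of_pow_eq_one ha)))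
  obtain ⟨i, hi⟩ := Function.ne_iff.1 hv.2
  have heig : ∀ x : ↥(R : Subgroup (Matrix.SpecialLinearGroup (Fin 2) F)), ∃ c : K, φ x.1.val *ᵥ v = c • v := by
    intro x
    have hc : φ z.1.val * φ x.1.val = φ x.1.val * φ z.1.val := by
      rw [← map_mul, ← map_mul]
      exact congrArg φ (congrArg (fun y : ↥(R : Subgroup (Matrix.SpecialLinearGroup (Fin 2) F)) => (y.1.val : Matrix (Fin 2) (Fin 2) F))
        (Subgroup.mem_center_iff.1 hzc x).symm)
    have h := hz2 (φ x.1.val *ᵥ v) (by rw [Matrix.mulVec_mulVec, hc, ← Matrix.mulVec_mulVec, hzv, Matrix.mulVec_smul])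
    refine ⟨(φ x.1.val *ᵥ v) i / v i, funext fun j => ?_⟩
    have hi' : v i ≠ 0 := hi
    rw [Pi.smul_apply, smul_eq_mul, div_mul_eq_mul_div, eq_div_iff hi']
    fin_cases i <;> fin_cases j <;> simp at h ⊢ <;> first | linear_combination h | linear_combination -h
  choose c hc using heig
  have hcan : ∀ a b : K, a • v = b • v → a = b := fun a b h => mul_right_cancel₀ hi (congrFun h i)
  let χ : ↥(R : Subgroup (Matrix.SpecialLinearGroup (Fin 2) F)) →* K :=
    { toFun := c
      map_one' := hcan _ _ (by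
        rw [← hc]
        show φ (1 : Matrix (Fin 2) (Fin 2) F) *ᵥ v = _
        rw [map_one, Matrix.one_mulVec, one_smul])
      map_mul' := fun x y => hcan _ _ (by
        rw [← hc]
        show φ (x.1.val * y.1.val) *ᵥ v = _
        rw [map_mul, ← Matrix.mulVec_mulVec, hc, Matrix.mulVec_smul, hc, smul_smul, mul_comm]) }
  refine isCyclic_of_subgroup_isDomain χ ?_
  intro x y hxy
  by_contra hne
  have hne' : x⁻¹ * y ≠ 1 := fun h => hne (inv_mul_eq_one.1 h)
  have hχ : χ (x⁻¹ * y) = 1 := by rw [map_mul, ← hxy, ← map_mul, inv_mul_cancel, map_one]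
  refine hrel _ hne' ?_
  set u := x⁻¹ * y
  have hu := hc u
  rw [show c u = 1 from hχ, one_smul] at hu
  have u0 := congrFun hu 0
  have u1 := congrFun hu 1
  simp [φ, Matrix.mulVec, dotProduct, Fin.sum_univ_two] at u0 u1
  have hdet : algebraMap F K (u.1.val 0 0) * algebraMap F K (u.1.val 1 1) -
      algebraMap F K (u.1.val 0 1) * algebraMap F K (u.1.val 1 0) = 1 := by
    rw [← map_mul, ← map_mul, ← map_sub, ← Matrix.det_fin_two, u.1.2, map_one]
  have key : ∀ j, (algebraMap F K (u.1.val 0 0) + algebraMap F K (u.1.val 1 1) - 2) * v j = 0 := by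
    intro j
    match j with
    | 0 => linear_combination (-(algebraMap F K (u.1.val 1 1)) + 1) * u0 + (algebraMap F K (u.1.val 0 1)) * u1 + v 0 * hdet
    | 1 => linear_combination (-(algebraMap F K (u.1.val 0 0)) + 1) * u1 + (algebraMap F K (u.1.val 1 0)) * u0 + v 1 * hdet
  apply (algebraMap F K).injective
  rw [map_add, map_ofNat]
  exact sub_eq_zero.1 ((mul_eq_zero.1 (key i)).resolve_right hi)

end Cfsg.Agent.S0262
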