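import Cfsg.Statements.S1229
import Cfsg.Agent.Lib.Invol.ElementaryCentralizers
-- import your own Cfsg.Agent.* helpers here

set_option autoImplicit false
open Cfsg

namespace Cfsg.Agent.S1229

/-- Let G be a finite group with a Sylow 2-subgroup T that is neither cyclic nor normal, such that the centralizer of every involution is an elementary abelian 2-group; put H = N_G(T) and X = G/H. Then G is triply transitive on X, an element fixing three distinct points of X is the identity, and T acts regularly on X minus the point H. -/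
theorem result {G : Type*} [Group G] [Finite G] (T : Sylow 2 G) (hnc : ¬ IsCyclic (T : Subgroup G)) (hnn : ¬ (T : Subgroup G).Normal) (hC : ∀ t : G, orderOf t = 2 → IsMulCommutative (Subgroup.centralizer ({t} : Set G)) ∧ ∀ c ∈ Subgroup.centralizer ({t} : Set G), c ^ 2 = 1) : (∀ x₁ x₂ x₃ y₁ y₂ y₃ : G ⧸ Subgroup.normalizer ((T : Subgroup G) : Set G), x₁ ≠ x₂ → x₁ ≠ x₃ → x₂ ≠ x₃ → y₁ ≠ y₂ → y₁ ≠ y₃ → y₂ ≠ y₃ → ∃ g : G, g • x₁ = y₁ ∧ g • x₂ = y₂ ∧ g • x₃ = y₃) ∧ (∀ g : G, ∀ x₁ x₂ x₃ : G ⧸ Subgroup.normalizer ((T : Subgroup G) : Set G), x₁ ≠ x₂ → x₁ ≠ x₃ → x₂ ≠ x₃ → g • x₁ = x₁ → g • x₂ = x₂ → g • x₃ = x₃ → g = 1) ∧ (∀ x y : G ⧸ Subgroup.normalizer ((T : Subgroup G) : Set G), x ≠ QuotientGroup.mk 1 → y ≠ QuotientGroup.mk 1 → ∃! t : G, t ∈ T ∧ t • x = y) := by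
  classical
  have h : Cfsg.Lib.Invol.EA.Hyp T := ⟨hnc, hnn, hC⟩
  have hse := Cfsg.Lib.Invol.EA.se h
  obtain ⟨u, huH, hu⟩ := Cfsg.Lib.Invol.se_exists_outside hse
  set H := Subgroup.normalizer ((T : Subgroup G) : Set G) with hH
  set p₁ : G ⧸ H := QuotientGroup.mk 1
  set p₂ : G ⧸ H := QuotientGroup.mk u
  have hne : ∀ g : G, (QuotientGroup.mk g : G ⧸ H) ≠ p₁ → g ∉ H := fun g hg hgH =>
    hg (QuotientGroup.eq.mpr (by simpa using inv_mem hgH))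
  have hTH : ∀ t ∈ (T : Subgroup G), t • p₁ = p₁ := fun t ht => by
    rw [Cfsg.Lib.Invol.smul_coset_one_eq]
    exact Subgroup.le_normalizer ht
  have htrans : ∀ y : G ⧸ H, y ≠ p₁ → ∃ t ∈ (T : Subgroup G), t • p₂ = y := by
    intro y hy
    obtain ⟨g, rfl⟩ := QuotientGroup.mk_surjective y
    obtain ⟨t, ht, h1⟩ := Cfsg.Lib.Invol.EA.exists_translate h hu huH (hne g hy)
    exact ⟨t, ht, QuotientGroup.eq.mpr h1⟩
  have hreg : ∀ y : G ⧸ H, y ≠ p₁ → ∀ t ∈ (T : Subgroup G), t • y = y → t = 1 := by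
    intro y hy t ht hty
    by_contra ht1
    exact hy (Cfsg.Lib.Invol.se_fixed_unique hse
      (Cfsg.Lib.Invol.orderOf_eq_two_of ht1 ((Cfsg.Lib.Invol.EA.elementary h).2 t ht)) hty (hTH t ht))
  -- the two-point stabilizer moves a third point anywhere
  have hD : ∀ t ∈ (T : Subgroup G), t ≠ 1 → ∀ s ∈ (T : Subgroup G), s ≠ 1 →
      ∃ d ∈ Cfsg.Lib.Invol.EA.DD T u, d * t * d⁻¹ = s := by
    intro t ht ht1 s hs hs1
    have hmem : ∀ d : Cfsg.Lib.Invol.EA.DD T u, (d : G) * t * (d : G)⁻¹ ∈ (T : Subgroup G) :=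
      fun d => (Subgroup.mem_normalizer_iff.mp d.2.1 t).mp ht
    let f : Cfsg.Lib.Invol.EA.DD T u → {x : (T : Subgroup G) // x ≠ 1} := fun d =>
      ⟨⟨(d : G) * t * (d : G)⁻¹, hmem d⟩, fun e => ht1 (conj_eq_one_iff.mp (congrArg Subtype.val e))⟩
    have hinj : Function.Injective f := fun a b e => by
      have e' : (a : G) * t * (a : G)⁻¹ = (b : G) * t * (b : G)⁻¹ :=
        congrArg (fun z : {x : (T : Subgroup G) // x ≠ 1} => (z.1 : G)) e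
      by_contra hab
      refine ht1 (Cfsg.Lib.Invol.EA.eq_one_of_commute h huH ht
        (mul_mem (inv_mem b.2) a.2 : (b : G)⁻¹ * a ∈ Cfsg.Lib.Invol.EA.DD T u)
        (fun e1 => hab (Subtype.ext (inv_mul_eq_one.mp e1).symm)) ?_)
      show _ = _
      calc (b : G)⁻¹ * a * t = (b : G)⁻¹ * ((a : G) * t * (a : G)⁻¹) * a := by group
        _ = t * ((b : G)⁻¹ * a) := by rw [e']; group
    have hcard : Nat.card {x : (T : Subgroup G) // x ≠ 1} ≤ Nat.card (Cfsg.Lib.Invol.EA.DD T u) := by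
      rw [Cfsg.Lib.Invol.EA.card_DD h hu huH]
      haveI := Fintype.ofFinite (T : Subgroup G)
      rw [Nat.card_eq_fintype_card, Fintype.card_subtype_compl, Fintype.card_subtype_eq,
        Nat.card_eq_fintype_card]
    obtain ⟨d, hd⟩ := (Nat.bijective_iff_injective_and_card f).mpr
      ⟨hinj, le_antisymm (Nat.card_le_card_of_injective f hinj) hcard⟩ |>.2 ⟨⟨s, hs⟩, fun e => hs1 (congrArg Subtype.val e)⟩
    exact ⟨d, d.2, congrArg (fun z : {x : (T : Subgroup G) // x ≠ 1} => (z.1 : G)) hd⟩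
  have hDfix : ∀ d ∈ Cfsg.Lib.Invol.EA.DD T u, d • p₁ = p₁ ∧ d • p₂ = p₂ := fun d hd =>
    ⟨Cfsg.Lib.Invol.smul_coset_one_eq.mpr hd.1,
      Cfsg.Lib.Invol.smul_coset_eq_iff.mpr (Cfsg.Lib.Invol.mem_conjMap.mp hd.2)⟩
  obtain ⟨t₀, ht₀, ht₀1⟩ : ∃ t ∈ (T : Subgroup G), t ≠ 1 := by
    by_contra hc
    push Not at hc
    have := Cfsg.Lib.Invol.EA.two_lt h
    rw [(Subgroup.eq_bot_iff_forall _).mpr hc, Subgroup.card_bot] at this
    omega
  have hstd : ∀ x₁ x₂ x₃ : G ⧸ H, x₁ ≠ x₂ → x₁ ≠ x₃ → x₂ ≠ x₃ →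
      ∃ g : G, g • x₁ = p₁ ∧ g • x₂ = p₂ ∧ g • x₃ = t₀ • p₂ := by
    intro x₁ x₂ x₃ h12 h13 h23
    obtain ⟨a, ha⟩ := MulAction.exists_smul_eq G x₁ p₁
    have h2 : a • x₂ ≠ p₁ := fun e => h12 (MulAction.injective a (ha.trans e.symm))
    have h3 : a • x₃ ≠ p₁ := fun e => h13 (MulAction.injective a (ha.trans e.symm))
    obtain ⟨t, ht, hte⟩ := htrans _ h2
    have hp1 : t⁻¹ • p₁ = p₁ := hTH _ (inv_mem ht)
    obtain ⟨s, hs, hse'⟩ := htrans (t⁻¹ • a • x₃) fun e =>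
      h3 (MulAction.injective t⁻¹ (e.trans hp1.symm))
    have hs1 : s ≠ 1 := by
      rintro rfl
      rw [one_smul, eq_inv_smul_iff, hte] at hse'
      exact h23 (MulAction.injective a hse')
    obtain ⟨d, hd, hde⟩ := hD s hs hs1 t₀ ht₀ ht₀1
    refine ⟨d * t⁻¹ * a, ?_, ?_, ?_⟩
    · rw [mul_smul, mul_smul, ha, hp1, (hDfix d hd).1]
    · rw [mul_smul, mul_smul, ← hte, inv_smul_smul, (hDfix d hd).2]
    · rw [mul_smul, mul_smul, ← hse', ← mul_smul, ← hde]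
      conv_rhs => rw [← (hDfix d hd).2, ← mul_smul, inv_mul_cancel_right]
  refine ⟨fun x₁ x₂ x₃ y₁ y₂ y₃ a b c a' b' c' => ?_, fun g x₁ x₂ x₃ a b c e₁ e₂ e₃ => ?_,
    fun x y hx hy => ?_⟩
  · obtain ⟨k, k1, k2, k3⟩ := hstd x₁ x₂ x₃ a b c
    obtain ⟨l, l1, l2, l3⟩ := hstd y₁ y₂ y₃ a' b' c'
    exact ⟨l⁻¹ * k, by rw [mul_smul, k1, ← l1, inv_smul_smul],
      by rw [mul_smul, k2, ← l2, inv_smul_smul], by rw [mul_smul, k3, ← l3, inv_smul_smul]⟩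
  · obtain ⟨k, k1, k2, k3⟩ := hstd x₁ x₂ x₃ a b c
    have key : ∀ {x y : G ⧸ H}, k • x = y → g • x = x → (k * g * k⁻¹) • y = y := fun {x y} hk hg => by
      rw [← hk, mul_smul, mul_smul, inv_smul_smul, hg]
    set m := k * g * k⁻¹ with hm
    have hmD : m ∈ Cfsg.Lib.Invol.EA.DD T u :=
      ⟨Cfsg.Lib.Invol.smul_coset_one_eq.mp (key k1 e₁),
        Cfsg.Lib.Invol.mem_conjMap.mpr (Cfsg.Lib.Invol.smul_coset_eq_iff.mp (key k2 e₂))⟩
    have h3 : (t₀⁻¹ * m * t₀) • p₂ = p₂ := by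
      rw [mul_smul, mul_smul, key k3 e₃, inv_smul_smul]
    have hmt : t₀⁻¹ * m * t₀ ∈ Cfsg.Lib.Invol.EA.DD T u :=
      ⟨(Cfsg.Lib.Invol.EA.HH T).mul_mem ((Cfsg.Lib.Invol.EA.HH T).mul_mem ((Cfsg.Lib.Invol.EA.HH T).inv_mem (Subgroup.le_normalizer ht₀)) hmD.1) (Subgroup.le_normalizer ht₀),
        Cfsg.Lib.Invol.mem_conjMap.mpr (Cfsg.Lib.Invol.smul_coset_eq_iff.mp h3)⟩
    have hcomm : t₀⁻¹ * m * t₀ * m⁻¹ = 1 := by
      refine Cfsg.Lib.Invol.EA.eq_one_of_mem h huH ?_ (mul_mem hmt (inv_mem hmD))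
      rw [show t₀⁻¹ * m * t₀ * m⁻¹ = t₀⁻¹ * (m * t₀ * m⁻¹) by group]
      exact (T : Subgroup G).mul_mem ((T : Subgroup G).inv_mem ht₀) ((Subgroup.mem_normalizer_iff.mp hmD.1 t₀).mp ht₀)
    have hm1 : m = 1 := by
      by_contra hm1
      refine ht₀1 (Cfsg.Lib.Invol.EA.eq_one_of_commute h huH ht₀ hmD hm1 ?_)
      show m * t₀ = t₀ * m
      rw [← mul_left_cancel_iff (a := t₀⁻¹), ← mul_assoc, mul_inv_eq_one.mp hcomm, inv_mul_cancel_left]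
    rw [hm, conj_eq_one_iff] at hm1
    exact hm1
  · obtain ⟨a, ha, hae⟩ := htrans x hx
    obtain ⟨b, hb, hbe⟩ := htrans y hy
    refine ⟨b * a⁻¹, ⟨(T : Subgroup G).mul_mem hb ((T : Subgroup G).inv_mem ha), by rw [mul_smul, ← hae, inv_smul_smul, hbe]⟩, ?_⟩
    rintro t ⟨ht, hte⟩
    have h1 : (a⁻¹ * (t⁻¹ * b)) • p₂ = p₂ := by
      rw [mul_smul, mul_smul, hbe, ← hte, inv_smul_smul, ← hae, inv_smul_smul]
    have h2 := hreg p₂ (fun e => huH (by simpa using QuotientGroup.eq.mp e.symm)) _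
      ((T : Subgroup G).mul_mem ((T : Subgroup G).inv_mem ha) ((T : Subgroup G).mul_mem ((T : Subgroup G).inv_mem ht) hb)) h1
    rw [inv_mul_eq_one] at h2
    rw [h2, mul_inv_rev, inv_inv, mul_inv_cancel_left]

end Cfsg.Agent.S1229
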