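import Cfsg.Statements.S4702
import Cfsg.Agent.Lib.Perm.SharpThreeOdd

set_option autoImplicit false
open Cfsg

namespace Cfsg.Agent.S4702

/-- Let G be a triply transitive permutation group on a finite set of odd size m ≥ 3 in which only the identity fixes three or more points. Then m = 2^a + 1 for some a ≥ 1 and G is isomorphic to SL(2, 2^a). -/
theorem result {α : Type*} [Fintype α] [DecidableEq α] (hm : 3 ≤ Fintype.card α) (hodd : Odd (Fintype.card α)) (G : Subgroup (Equiv.Perm α)) (h3 : MulAction.IsMultiplyPretransitive G α 3) (hfix : ∀ g : G, 3 ≤ Nat.card (MulAction.fixedBy α g) → g = 1) : ∃ a : ℕ, 1 ≤ a ∧ Fintype.card α = 2 ^ a + 1 ∧ ∃ (F : Type) (_ : Field F) (_ : Fintype F), Fintype.card F = 2 ^ a ∧ Nonempty (G ≃* Matrix.SpecialLinearGroup (Fin 2) F) := by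
  classical
  have hs : ∀ g : G, ∀ a b c : α, a ≠ b → a ≠ c → b ≠ c → g • a = a → g • b = b → g • c = c → g = 1 := by
    intro g a b c hab hac hbc ha hb hc
    refine hfix g ?_
    have hsub : ({a, b, c} : Finset α) ⊆ Finset.univ.filter (fun x => g • x = x) := by
      intro x hx
      simp only [Finset.mem_insert, Finset.mem_singleton] at hx
      rcases hx with rfl | rfl | rfl <;> simp [ha, hb, hc]
    have h := Finset.card_le_card hsub
    rw [Finset.card_eq_three.mpr ⟨a, b, c, hab, hac, hbc, rfl⟩] at h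
    refine h.trans (le_of_eq ?_)
    rw [Nat.card_eq_fintype_card]
    exact (Fintype.card_subtype _).symm
  obtain ⟨k, hk, hc, F, iF, iFt, hF, ⟨e⟩⟩ := Cfsg.Agent.Lib.Perm.SharpThree.recognition G hodd hm h3 hs
  obtain ⟨e'⟩ := Cfsg.Agent.Lib.Perm.SharpThree.pgl_iso_sl (F := F) hk hF
  exact ⟨k, hk, hc, F, iF, iFt, hF, ⟨e.trans e'⟩⟩

end Cfsg.Agent.S4702
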