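import Cfsg.Statements.S1230
import Cfsg.Agent.S1229
import Cfsg.Agent.S4702
-- import your own Cfsg.Agent.* helpers here

set_option autoImplicit false
open Cfsg

namespace Cfsg.Agent.S1230

open Subgroup

/-- Let G be a finite group with a Sylow 2-subgroup T that is neither cyclic nor normal, such that the centralizer of every involution is an elementary abelian 2-group. Then G ≅ PSL(2,F) for a finite field F with |F| = |T|. -/
theorem result {G : Type*} [Group G] [Finite G] (T : Sylow 2 G) (hnc : ¬ IsCyclic (T : Subgroup G)) (hnn : ¬ (T : Subgroup G).Normal) (hC : ∀ t : G, orderOf t = 2 → IsMulCommutative (Subgroup.centralizer ({t} : Set G)) ∧ ∀ c ∈ Subgroup.centralizer ({t} : Set G), c ^ 2 = 1) : ∃ (F : Type) (_ : Field F) (_ : Fintype F), Fintype.card F = Nat.card T ∧ Nonempty (G ≃* Matrix.ProjectiveSpecialLinearGroup (Fin 2) F) := by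
  classical
  obtain ⟨h3, hfix, hreg⟩ := Cfsg.Agent.S1229.result T hnc hnn hC
  set H := Subgroup.normalizer ((T : Subgroup G) : Set G) with hH
  haveI : Fintype (G ⧸ H) := Fintype.ofFinite _
  set p₁ : G ⧸ H := QuotientGroup.mk 1 with hp₁
  haveI : Nontrivial (G ⧸ H) := by
    refine (QuotientGroup.nontrivial_iff (N := H)).2 fun h => hnn ?_
    exact Subgroup.normalizer_eq_top_iff.1 h
  obtain ⟨x0, hx0⟩ := exists_ne p₁
  have hT1 : ∀ t ∈ (T : Subgroup G), t • p₁ = p₁ := fun t ht => by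
    rw [hp₁, MulAction.Quotient.smul_mk, QuotientGroup.eq]
    simpa [hH] using le_normalizer ht
  let e : ↥(T : Subgroup G) → {y : G ⧸ H // y ≠ p₁} := fun t =>
    ⟨(t : G) • x0, fun h => hx0 (MulAction.injective (t : G) (h.trans (hT1 t t.2).symm))⟩
  have he : Function.Bijective e := by
    constructor
    · intro a b hab
      obtain ⟨t, -, huniq⟩ := hreg x0 (e a : G ⧸ H) hx0 (e a).2
      exact Subtype.ext ((huniq a ⟨a.2, rfl⟩).trans (huniq b ⟨b.2, (congrArg Subtype.val hab).symm⟩).symm)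
    · rintro ⟨y, hy⟩
      obtain ⟨t, ⟨ht, hty⟩, -⟩ := hreg x0 y hx0 hy
      exact ⟨⟨t, ht⟩, Subtype.ext hty⟩
  have hcard : Fintype.card (G ⧸ H) = Nat.card (T : Subgroup G) + 1 := by
    rw [Nat.card_eq_of_bijective e he, Nat.card_eq_fintype_card, Fintype.card_subtype_compl,
      Fintype.card_subtype_eq]
    have := Fintype.card_pos (α := G ⧸ H)
    omega
  haveI : Fact (Nat.Prime 2) := ⟨Nat.prime_two⟩
  obtain ⟨k, hk⟩ := IsPGroup.iff_card.1 T.isPGroup'
  have hk2 : 2 ≤ k := by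
    by_contra hlt
    apply hnc
    have hk' : k = 0 ∨ k = 1 := by omega
    rcases hk' with rfl | rfl
    · haveI : Subsingleton (T : Subgroup G) := (Nat.card_eq_one_iff_unique.1 (by simpa using hk)).1
      infer_instance
    · exact isCyclic_of_prime_card (p := 2) (by simpa using hk)
  have h4 : 4 ≤ 2 ^ k := by
    calc 4 = 2 ^ 2 := by norm_num
      _ ≤ 2 ^ k := Nat.pow_le_pow_right (by norm_num) hk2
  set ψ := MulAction.toPermHom G (G ⧸ H) with hψ
  obtain ⟨a, b, c, hab, hac, hbc⟩ : ∃ a b c : G ⧸ H, a ≠ b ∧ a ≠ c ∧ b ≠ c :=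
    Fintype.two_lt_card_iff.1 (by omega)
  have hinj : Function.Injective ψ := by
    rw [injective_iff_map_eq_one]
    intro g hg
    exact hfix g a b c hab hac hbc (Equiv.Perm.congr_fun hg a) (Equiv.Perm.congr_fun hg b) (Equiv.Perm.congr_fun hg c)
  have h3' : MulAction.IsMultiplyPretransitive ψ.range (G ⧸ H) 3 := ⟨fun x y => by
    obtain ⟨g, g0, g1, g2⟩ := h3 (x 0) (x 1) (x 2) (y 0) (y 1) (y 2) (by simp) (by simp) (by simp) (by simp)
      (by simp) (by simp)
    refine ⟨⟨ψ g, g, rfl⟩, DFunLike.ext _ _ fun i => ?_⟩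
    fin_cases i
    exacts [g0, g1, g2]⟩
  have hodd : Odd (Fintype.card (G ⧸ H)) := by
    rw [hcard, hk]; exact Even.add_one (Nat.even_pow.2 ⟨even_two, by omega⟩)
  obtain ⟨n, hn1, hn2, F, _, _, hF, ⟨eF⟩⟩ := Cfsg.Agent.S4702.result (by omega) hodd ψ.range h3' (by
    rintro ⟨_, g, rfl⟩ hg
    obtain ⟨u, v, w, huv, huw, hvw⟩ :=
      Fintype.two_lt_card_iff.1 (show 2 < Fintype.card (MulAction.fixedBy (G ⧸ H) (⟨ψ g, g, rfl⟩ : ψ.range)) by
        rw [← Nat.card_eq_fintype_card]; omega)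
    exact Subtype.ext ((congrArg ψ (hfix g u v w (fun h => huv (Subtype.ext h)) (fun h => huw (Subtype.ext h))
      (fun h => hvw (Subtype.ext h)) u.2 v.2 w.2)).trans (map_one ψ)))
  refine ⟨F, inferInstance, inferInstance, ?_, ?_⟩
  · rw [hF]; omega
  haveI hch : CharP F 2 := by
    obtain ⟨p, hp⟩ := CharP.exists F
    obtain ⟨⟨m, _⟩, hp', hm⟩ := FiniteField.card F p
    have h2 : p ∣ 2 ^ n := by
      rw [← hF, hm]; exact dvd_pow_self p (by simpa using Nat.pos_iff_ne_zero.1 ‹_›)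
    obtain rfl := (Nat.prime_dvd_prime_iff_eq hp' Nat.prime_two).1 (hp'.dvd_of_dvd_pow h2)
    exact hp
  have hcen : Subgroup.center (Matrix.SpecialLinearGroup (Fin 2) F) = ⊥ := by
    refine eq_bot_iff.2 fun A hA => ?_
    obtain ⟨r, hr, hA'⟩ := Matrix.SpecialLinearGroup.mem_center_iff.1 hA
    have hr1 : r = 1 := by
      have h0 : (r - 1) ^ 2 = 0 := by
        rw [Fintype.card_fin] at hr
        rw [show (r - 1) ^ 2 = r ^ 2 - (2 : F) * r + 1 by ring, hr, CharTwo.two_eq_zero, zero_mul, sub_zero]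
        exact CharTwo.add_self_eq_zero 1
      exact sub_eq_zero.1 (pow_eq_zero_iff (n := 2) (by norm_num) |>.1 h0)
    rw [Subgroup.mem_bot]
    ext i j
    rw [← hA', hr1]
    simp
  exact ⟨(MonoidHom.ofInjective hinj).trans (eF.trans
    ((QuotientGroup.quotientBot).symm.trans (QuotientGroup.quotientMulEquivOfEq hcen.symm)))⟩

end Cfsg.Agent.S1230
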