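import Cfsg.Statements.S0949
import Cfsg.Agent.Lib.Block.HomocyclicSylow
import Cfsg.Agent.Lib.Block.RegInt

set_option autoImplicit false
open Cfsg

namespace Cfsg.Agent.S0949

/-- Let the finite group G have a Sylow 2-subgroup P isomorphic to Z/2^m × Z/2^m with m ≥ 2, and suppose G has no nontrivial normal subgroup of odd order. Then P is normal in G, C_G(P) = P, and the index of P is 1 or 3. -/
theorem result {G : Type*} [Group G] [Finite G] (P : Sylow 2 G) (m : ℕ) (hm : 2 ≤ m) (e : (P : Subgroup G) ≃* Multiplicative (ZMod (2 ^ m) × ZMod (2 ^ m))) (hO : ∀ N : Subgroup G, N.Normal → Odd (Nat.card N) → N = ⊥) : (P : Subgroup G).Normal ∧ Subgroup.centralizer (P : Set G) = (P : Subgroup G) ∧ ((P : Subgroup G).index = 1 ∨ (P : Subgroup G).index = 3) := by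
  classical
  haveI := Fintype.ofFinite G
  haveI : Fact (Nat.Prime 2) := ⟨Nat.prime_two⟩
  obtain ⟨M, hM⟩ := Cfsg.Lib.Block.exists_isPModular Nat.prime_two
  haveI : IsMulCommutative (P : Subgroup G) :=
    ⟨⟨fun a b => e.injective (by rw [map_mul, map_mul, mul_comm])⟩⟩
  haveI : NeZero (2 ^ m) := ⟨by positivity⟩
  have hcard : Nat.card (P : Subgroup G) = 2 ^ m * 2 ^ m := by
    rw [Nat.card_congr e.toEquiv, Nat.card_congr Multiplicative.toAdd, Nat.card_prod, Nat.card_zmod]
  have h16 : 16 ∣ Nat.card (P : Subgroup G) := by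
    rw [hcard, ← pow_add]
    exact (show (16 : ℕ) = 2 ^ 4 by norm_num) ▸ pow_dvd_pow 2 (by omega)
  have hinv : Nat.card {x : (P : Subgroup G) // x ^ 2 = 1} ≤ 4 := by
    let f : {x : (P : Subgroup G) // x ^ 2 = 1} →
        {a : ZMod (2 ^ m) // a + a = 0} × {a : ZMod (2 ^ m) // a + a = 0} := fun x =>
      have h : Multiplicative.toAdd (e x.1) + Multiplicative.toAdd (e x.1) = 0 := by
        rw [← toAdd_mul, ← pow_two, ← map_pow, x.2, map_one, toAdd_one]
      (⟨(Multiplicative.toAdd (e x.1)).1, congrArg Prod.fst h⟩,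
        ⟨(Multiplicative.toAdd (e x.1)).2, congrArg Prod.snd h⟩)
    refine (Nat.card_le_card_of_injective f fun a b h => Subtype.ext (e.injective ?_)).trans ?_
    · exact Multiplicative.toAdd.injective (Prod.ext (congrArg (fun q => (q.1 : ZMod (2 ^ m))) h)
        (congrArg (fun q => (q.2 : ZMod (2 ^ m))) h))
    · rw [Nat.card_prod]
      exact Nat.mul_le_mul Cfsg.Lib.Block.natCard_two_torsion_zmod
        Cfsg.Lib.Block.natCard_two_torsion_zmod
  obtain ⟨u, hu⟩ : ∃ u : (P : Subgroup G), u ^ 2 ≠ 1 := by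
    by_contra hall
    push Not at hall
    rw [Nat.card_congr (Equiv.subtypeUnivEquiv hall)] at hinv
    have := Nat.le_of_dvd Nat.card_pos h16
    omega
  exact Cfsg.Lib.Block.homocyclic_sylow_two hM P h16 hinv hu hO

end Cfsg.Agent.S0949
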