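import Cfsg.Statements.S0638
import Cfsg.Agent.Lib.PGroup.Huppert
import Cfsg.Agent.Lib.PGroup.Noncyclic

set_option autoImplicit false
open Cfsg

namespace Cfsg.Agent.S0638

/-- The subgroup generated by the elements killed by `p`. -/
theorem omega_spec {R : Type*} [Group R] [Finite R] {p : ℕ} [Fact p.Prime] (hp : p ≠ 2)
    (hR : IsPGroup p R) (hm : Cfsg.IsMetacyclic R) (hnc : ¬ IsCyclic R) :
    Cfsg.IsElementaryAbelian p (Cfsg.omegaOne p (⊤ : Subgroup R)) ∧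
      Nat.card ↥(Cfsg.omegaOne p (⊤ : Subgroup R)) = p ^ 2 := by
  obtain ⟨E, hE, hEc, hEcard⟩ := Cfsg.Lib.PGroup.exists_omega_of_metacyclic hp hR hm
  have hO : Cfsg.omegaOne p (⊤ : Subgroup R) = E :=
    le_antisymm ((Subgroup.closure_le _).mpr fun x hx => (hE x).mpr hx.2)
      fun x hx => Subgroup.subset_closure ⟨Subgroup.mem_top x, (hE x).mp hx⟩
  rw [hO]
  refine ⟨⟨⟨⟨fun u v => Subtype.ext (hEc u.1 u.2 v.1 v.2)⟩⟩, fun x hx => (hE x).mp hx⟩, ?_⟩
  have hnc' : ¬ IsCyclic ↥(⊤ : Subgroup R) := fun h => hnc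
    (isCyclic_of_surjective (Subgroup.topEquiv : (⊤ : Subgroup R) ≃* R).toMonoidHom
      (Subgroup.topEquiv : (⊤ : Subgroup R) ≃* R).surjective)
  obtain ⟨A, -, hA, hAc⟩ := Cfsg.Lib.PGroup.Noncyclic.exists_elemAb_sq hp hR ⊤ hnc'
  exact le_antisymm hEcard (hAc ▸ Subgroup.card_le_of_le fun x hx => (hE x).mpr (hA.2 x hx))

/-- For odd p, in a non-cyclic metacyclic p-group the elements of order dividing p generate an elementary abelian subgroup of order p². -/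
theorem result {R : Type*} [Group R] [Finite R] {p : ℕ} [Fact p.Prime] (hp : p ≠ 2) (hR : IsPGroup p R) (hm : Cfsg.IsMetacyclic R) (hnc : ¬ IsCyclic R) : Cfsg.IsElementaryAbelian p (Cfsg.omegaOne p (⊤ : Subgroup R)) ∧ Nat.card ↥(Cfsg.omegaOne p (⊤ : Subgroup R)) = p ^ 2 := by
  exact omega_spec hp hR hm hnc

end Cfsg.Agent.S0638
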