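import Cfsg.Statements.S0127
import Cfsg.Agent.S0638

set_option autoImplicit false
open Cfsg

namespace Cfsg.Agent.S0127


/-- For odd p, in a non-cyclic p-group with a cyclic subgroup of index p, the elements of order dividing p generate an elementary abelian subgroup of order p^2. -/
theorem result {R : Type*} [Group R] [Finite R] {p : ℕ} [Fact p.Prime] (hp : p ≠ 2) (hR : IsPGroup p R) (hnc : ¬ IsCyclic R) (C : Subgroup R) (hC : IsCyclic C) (hCi : C.index = p) : Cfsg.IsElementaryAbelian p (Subgroup.closure {x : R | x ^ p = 1}) ∧ Nat.card (Subgroup.closure {x : R | x ^ p = 1}) = p ^ 2 := by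
  have hm : Cfsg.IsMetacyclic R := by
    haveI : C.Normal := Subgroup.normal_of_index_eq_minFac_card (by
      obtain ⟨n, hn⟩ := IsPGroup.iff_card.mp hR
      have h1 := Subgroup.card_mul_index C
      rw [hCi, hn] at h1
      have hn0 : n ≠ 0 := by
        rintro rfl
        rw [pow_zero] at h1
        exact (Fact.out : p.Prime).ne_one (Nat.eq_one_of_mul_eq_one_left h1)
      rw [hCi, hn, Nat.Prime.pow_minFac Fact.out hn0])
    exact ⟨C, inferInstance, hC, isCyclic_of_prime_card (p := p) (by rw [← Subgroup.index_eq_card, hCi])⟩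
  have h : {x : R | x ^ p = 1} = {x : R | x ∈ (⊤ : Subgroup R) ∧ x ^ p = 1} := by simp
  rw [h]
  exact Cfsg.Agent.S0638.omega_spec hp hR hm hnc

end Cfsg.Agent.S0127
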