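import Cfsg.Statements.S1237
import Cfsg.Agent.Lib.TwoFour.ThreeMain
import Cfsg.Agent.Lib.TwoFour.Targets

set_option autoImplicit false
open Cfsg

namespace Cfsg.Agent.S1237

/-- Let T be a finite 2-group of 2-rank exactly 2 (it has a Klein four-subgroup but no elementary abelian subgroup of order 8) admitting an automorphism φ such that any two involutions of T are carried to one another by a power of φ. Then T ≅ Z_{2^n} × Z_{2^n} for some n ≥ 1, or T is isomorphic to a Sylow 2-subgroup of PSU(3) over the field with 16 elements. -/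
theorem result {T : Type*} [Group T] [Finite T] (hT : IsPGroup 2 T) (h2 : Cfsg.PRankLE 2 2 T) (h1 : ¬ Cfsg.PRankLE 2 1 T) (φ : MulAut T) (htrans : ∀ s t : T, orderOf s = 2 → orderOf t = 2 → ∃ k : ℕ, (φ ^ k) s = t) {F : Type*} [Field F] [Fintype F] (hF : Fintype.card F = 16) (P : Sylow 2 (Cfsg.PSU 3 F 4)) : (∃ n : ℕ, 1 ≤ n ∧ Nonempty (T ≃* Multiplicative (ZMod (2 ^ n) × ZMod (2 ^ n)))) ∨ Nonempty (T ≃* (P : Subgroup (Cfsg.PSU 3 F 4))) := by
  haveI : Fact (Nat.Prime 2) := ⟨Nat.prime_two⟩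
  -- the involutions form a central four-group
  obtain ⟨A, hA, hA2, hAcard⟩ : ∃ A : Subgroup T, IsMulCommutative A ∧ (∀ a ∈ A, a ^ 2 = 1) ∧ 2 < Nat.card A := by
    rw [Cfsg.PRankLE] at h1
    push Not at h1
    obtain ⟨A, hA, hA2, hlt⟩ := h1
    exact ⟨A, hA, hA2, by simpa using hlt⟩
  have ord2 : ∀ x : T, x * x = 1 → x ≠ 1 → orderOf x = 2 := fun x hx hx1 =>
    orderOf_eq_prime (by rw [pow_two]; exact hx) hx1
  obtain ⟨a₁, ha₁, ha₁1⟩ : ∃ a ∈ A, a ≠ 1 := by
    suffices hb : A ≠ ⊥ by
      obtain ⟨v, hv⟩ := Subgroup.ne_bot_iff_exists_ne_one.1 hb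
      exact ⟨v, v.2, fun e => hv (Subtype.ext e)⟩
    intro e
    rw [e, Subgroup.card_bot] at hAcard
    omega
  haveI : Nontrivial T := ⟨⟨a₁, 1, ha₁1⟩⟩
  obtain ⟨z, hz⟩ : ∃ z : T, z ∈ Subgroup.center T ∧ orderOf z = 2 := by
    haveI := hT.center_nontrivial
    obtain ⟨k, hk0, hk⟩ := (hT.to_subgroup (Subgroup.center T)).nontrivial_iff_card.1 inferInstance
    obtain ⟨z, hz⟩ := exists_prime_orderOf_dvd_card' (G := Subgroup.center T) 2
      (by rw [hk]; exact dvd_pow_self 2 (by omega))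
    exact ⟨z, z.2, by rw [Subgroup.orderOf_coe]; exact hz⟩
  have hpow : ∀ (k : ℕ) (x : T), (φ ^ k) x = (⇑φ)^[k] x := by
    intro k
    induction k with
    | zero => exact fun x => rfl
    | succ k ih =>
      intro x
      rw [pow_succ', MulAut.mul_apply, ih, Function.iterate_succ_apply']
  have hcen : ∀ v : T, v * v = 1 → ∀ x : T, x * v = v * x := by
    intro v hv x
    rcases eq_or_ne v 1 with rfl | hv1
    · simp
    obtain ⟨k, rfl⟩ := htrans z v hz.2 (ord2 v hv hv1)
    obtain ⟨x', rfl⟩ := (φ ^ k).surjective x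
    rw [← map_mul, ← map_mul, Subgroup.mem_center_iff.1 hz.1 x']
  let V : Subgroup T :=
    { carrier := {x | x * x = 1}
      one_mem' := one_mul 1
      mul_mem' := fun {a b} ha hb => by
        simp only [Set.mem_setOf_eq] at ha hb ⊢
        calc a * b * (a * b) = a * (b * a) * b := by group
          _ = a * (a * b) * b := by rw [hcen a ha b]
          _ = (a * a) * (b * b) := by group
          _ = 1 := by rw [ha, hb, one_mul]
      inv_mem' := fun {a} ha => by
        simp only [Set.mem_setOf_eq] at ha ⊢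
        rw [← mul_inv_rev, ha, inv_one] }
  have hmem : ∀ x, x ∈ V ↔ x * x = 1 := fun x => Iff.rfl
  have hVcard : Nat.card V = 4 := by
    have hle : Nat.card V ≤ 4 := by
      have := h2 V ⟨⟨fun a b => Subtype.ext ((hcen b b.2 a))⟩⟩ (fun a ha => by rw [pow_two]; exact ha)
      simpa using this
    have hge : 3 ≤ Nat.card V := (show 3 ≤ Nat.card A by omega).trans
      (Subgroup.card_le_of_le fun a ha => (hmem a).2 (by rw [← pow_two]; exact hA2 a ha))
    obtain ⟨k, hk⟩ := IsPGroup.iff_card.1 (fun q => ⟨1, by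
      rw [pow_one, pow_two]; exact Subtype.ext q.2⟩ : IsPGroup 2 V)
    have : k ≤ 2 := by
      by_contra hk3
      have : 2 ^ 3 ≤ 2 ^ k := Nat.pow_le_pow_right (by norm_num) (by omega)
      omega
    have : 2 ≤ k := by
      by_contra hk1
      have : 2 ^ k ≤ 2 ^ 1 := Nat.pow_le_pow_right (by norm_num) (by omega)
      omega
    rw [hk, show k = 2 by omega]
    norm_num
  -- `φ` acts as a three-cycle on the involutions
  have hφV : ∀ v ∈ V, φ v ∈ V := fun v hv => (hmem _).2 (by rw [← map_mul, (hmem v).1 hv, map_one])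
  haveI : Fintype V := Fintype.ofFinite V
  have hmove : ∀ v ∈ V, v ≠ 1 → φ v ≠ v ∧ φ (φ v) ≠ v := by
    intro v hv hv1
    classical
    have huniq : ∀ w : T, orderOf w = 2 → ¬ (φ w = w) := by
      intro w hw e
      have hall : ∀ u ∈ V, u = 1 ∨ u = w := by
        intro u hu
        rcases eq_or_ne u 1 with h | h
        · exact Or.inl h
        obtain ⟨k, hk⟩ := htrans w u hw (ord2 u hu h)
        rw [hpow, Function.iterate_fixed e] at hk
        exact Or.inr hk.symm
      have : Nat.card V ≤ 2 := by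
        refine le_trans (Nat.card_le_card_of_injective (fun u : V => decide ((u : T) = 1)) ?_) (by simp)
        intro u u' e'
        simp only [decide_eq_decide] at e'
        refine Subtype.ext ?_
        rcases hall u u.2 with h | h <;> rcases hall u' u'.2 with h' | h'
        · rw [h, h']
        · rw [h, e'.1 h]
        · rw [h', e'.2 h']
        · rw [h, h']
      omega
    have h1' : φ v ≠ v := huniq v (ord2 v hv hv1)
    refine ⟨h1', fun e => ?_⟩
    have hall : ∀ u ∈ V, u = 1 ∨ u = v ∨ u = φ v := by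
      intro u hu
      rcases eq_or_ne u 1 with h | h
      · exact Or.inl h
      obtain ⟨k, hk⟩ := htrans v u (ord2 v hv hv1) (ord2 u hu h)
      rw [hpow] at hk
      have : ∀ k, (⇑φ)^[k] v = v ∨ (⇑φ)^[k] v = φ v := by
        intro k
        induction k with
        | zero => exact Or.inl rfl
        | succ k ih =>
          rw [Function.iterate_succ_apply']
          rcases ih with h' | h' <;> rw [h']
          · exact Or.inr rfl
          · exact Or.inl e
      rcases this k with h' | h' <;> rw [h'] at hk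
      · exact Or.inr (Or.inl hk.symm)
      · exact Or.inr (Or.inr hk.symm)
    have : Nat.card V ≤ 3 := by
      rw [Nat.card_eq_fintype_card, ← Finset.card_univ]
      refine le_trans (Finset.card_le_card (t := {⟨1, V.one_mem⟩, ⟨v, hv⟩, ⟨φ v, hφV v hv⟩}) ?_) (Finset.card_le_three)
      intro u _
      simp only [Finset.mem_insert, Finset.mem_singleton, Subtype.ext_iff]
      exact hall u u.2
    omega
  have hcube : ∀ v ∈ V, φ (φ (φ v)) = v := by
    intro v hv
    rcases eq_or_ne v 1 with rfl | hv1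
    · simp
    classical
    by_contra hne
    obtain ⟨m1, m2⟩ := hmove v hv hv1
    have hφ1 : φ v ≠ 1 := fun e => hv1 (φ.injective (e.trans (map_one φ).symm))
    obtain ⟨m3, m4⟩ := hmove (φ v) (hφV _ hv) hφ1
    have hφ2 : φ (φ v) ≠ 1 := fun e => hφ1 (φ.injective (e.trans (map_one φ).symm))
    obtain ⟨m5, -⟩ := hmove (φ (φ v)) (hφV _ (hφV _ hv)) hφ2
    have hφ3 : φ (φ (φ v)) ≠ 1 := fun e => hφ2 (φ.injective (e.trans (map_one φ).symm))
    have h5 : ({⟨1, V.one_mem⟩, ⟨v, hv⟩, ⟨φ v, hφV _ hv⟩, ⟨φ (φ v), hφV _ (hφV _ hv)⟩,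
        ⟨φ (φ (φ v)), hφV _ (hφV _ (hφV _ hv))⟩} : Finset V).card = 5 := by
      simp [Finset.card_insert_of_notMem, Subtype.ext_iff, Ne.symm hv1, Ne.symm m1, Ne.symm m2, Ne.symm hne,
        Ne.symm hφ1, Ne.symm m3, Ne.symm m4, Ne.symm hφ2, Ne.symm m5, Ne.symm hφ3]
    have := Finset.card_le_univ ({⟨1, V.one_mem⟩, ⟨v, hv⟩, ⟨φ v, hφV _ hv⟩, ⟨φ (φ v), hφV _ (hφV _ hv)⟩,
        ⟨φ (φ (φ v)), hφV _ (hφV _ (hφV _ hv))⟩} : Finset V)
    rw [h5, ← Nat.card_eq_fintype_card, hVcard] at this
    omega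
  -- the part of order a power of three
  obtain ⟨a, r, hr3, hordφ⟩ := Nat.exists_eq_pow_mul_and_not_dvd (orderOf_pos φ).ne' 3 (by norm_num)
  let ρ : T ≃* T := φ ^ r
  have hrmod : ∀ v ∈ V, ρ v = (⇑φ)^[r % 3] v := by
    intro v hv
    show (φ ^ r) v = _
    rw [hpow]
    conv_lhs => rw [← Nat.mod_add_div r 3, Function.iterate_add_apply, Function.iterate_mul]
    congr 1
    exact Function.iterate_fixed (hcube v hv) _
  have hρfix : ∀ v ∈ V, v ≠ 1 → ρ v ≠ v := by
    intro v hv hv1
    rw [hrmod v hv]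
    have h3 : r % 3 = 1 ∨ r % 3 = 2 := by
      have := Nat.mod_lt r (show 3 > 0 by norm_num)
      have : r % 3 ≠ 0 := fun e => hr3 (Nat.dvd_of_mod_eq_zero e)
      omega
    rcases h3 with e | e <;> rw [e]
    · exact (hmove v hv hv1).1
    · exact (hmove v hv hv1).2
  have hiter : ∀ (k : ℕ) (x : T), (⇑ρ)^[k] x = (φ ^ (r * k)) x := by
    intro k x
    rw [hpow, Function.iterate_mul]
    have : ⇑ρ = (⇑φ)^[r] := funext fun y => hpow r y
    rw [this]
  have hS : Cfsg.Lib.TwoFour.Three ρ V (3 ^ a) := by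
    refine ⟨hT, hmem, hVcard, fun v hv x => hcen v hv x, fun x hx => ?_, fun v hv => ?_, ⟨a, rfl⟩, fun x => ?_⟩
    · by_contra hx1
      let F : Subgroup T :=
        { carrier := {y | ρ y = y}
          one_mem' := map_one ρ
          mul_mem' := fun {a b} ha hb => by show ρ (a * b) = a * b; rw [map_mul, ha, hb]
          inv_mem' := fun {a} ha => by show ρ a⁻¹ = a⁻¹; rw [map_inv, ha] }
      haveI : Nontrivial F := ⟨⟨⟨x, hx⟩, 1, fun e => hx1 (congrArg Subtype.val e)⟩⟩
      obtain ⟨k, hk0, hk⟩ := (hT.to_subgroup F).nontrivial_iff_card.1 inferInstance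
      obtain ⟨y, hy⟩ := exists_prime_orderOf_dvd_card' (G := F) 2 (by rw [hk]; exact dvd_pow_self 2 (by omega))
      have hy2 : (y : T) * y = 1 := by
        have := pow_orderOf_eq_one y
        rw [hy, pow_two] at this
        exact congrArg Subtype.val this
      refine hρfix y hy2 (fun e => ?_) y.2
      rw [show y = 1 from Subtype.ext e, orderOf_one] at hy
      omega
    · show (⇑ρ)^[3] v = v
      rw [hiter, hpow, mul_comm, Function.iterate_mul]
      exact Function.iterate_fixed (hcube v hv) _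
    · show ((⇑ρ)^[3])^[3 ^ a] x = x
      rw [← Function.iterate_mul, hiter, show r * (3 * 3 ^ a) = orderOf φ * 3 by rw [hordφ]; ring, pow_mul,
        pow_orderOf_eq_one, one_pow, MulAut.one_apply]
  rcases hS.main with h | ⟨H, hno⟩
  · exact Or.inl h
  · refine Or.inr ?_
    obtain ⟨c⟩ := Cfsg.Lib.U3Even.nonempty_coords_psu (F := F) (n := 2) (by norm_num) (by rw [hF]; norm_num) P
    obtain ⟨ρ', W, H', hno'⟩ := Cfsg.Lib.TwoFour.hyp64_psu hF c
    exact H.nonempty_mulEquiv H' ⟨fun h => absurd h hno, fun h => absurd h hno'⟩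

end Cfsg.Agent.S1237
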