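import Cfsg.Statements.S1238
import Cfsg.Agent.S0519
import Cfsg.Agent.S1237
import Cfsg.Agent.Lib.Invol.AbelianCentralizers.Basic
import Cfsg.Agent.Lib.RankTwoFusion.TwoGroups
-- import your own Cfsg.Agent.* helpers here

set_option autoImplicit false
open Cfsg

namespace Cfsg.Agent.S1238

open Subgroup

set_option linter.unusedSimpArgs false

theorem two_torsion : ∀ q : ZMod 2 × ZMod 2, q + q = 0 := by decide

/-- Four commuting involutory elements in a group of 2-rank at most two. -/
theorem rank_list {G : Type*} [Group G] [Finite G] (h2 : Cfsg.PRankLE 2 2 G) {a b c : G}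
    (ha : a * a = 1) (hb : b * b = 1) (hc : c * c = 1) (hab : a * b = b * a) (hac : a * c = c * a)
    (hbc : b * c = c * b) (ha1 : a ≠ 1) (hb1 : b ≠ 1) (hne : a ≠ b) :
    c = 1 ∨ c = a ∨ c = b ∨ c = a * b := by
  classical
  by_contra hn
  push Not at hn
  obtain ⟨n1, n2, n3, n4⟩ := hn
  let A : Subgroup G := closure {a, b, c}
  have hcomm : IsMulCommutative A := isMulCommutative_closure (by
    simp only [Set.mem_insert_iff, Set.mem_singleton_iff]
    rintro x (rfl | rfl | rfl) y (rfl | rfl | rfl)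
    all_goals first | rfl | assumption | exact Eq.symm ‹_›)
  have hexp : ∀ x ∈ A, x ^ 2 = 1 := by
    intro x hx
    induction hx using closure_induction with
    | mem y hy =>
      simp only [Set.mem_insert_iff, Set.mem_singleton_iff] at hy
      rw [pow_two]
      rcases hy with rfl | rfl | rfl <;> assumption
    | one => exact one_pow 2
    | mul y z hy hz iy iz =>
      rw [(show Commute y z from congrArg Subtype.val (hcomm.is_comm.comm ⟨y, hy⟩ ⟨z, hz⟩)).mul_pow, iy, iz,
        one_mul]
    | inv y _ iy => rw [inv_pow, iy, inv_one]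
  have h4 := h2 A hcomm hexp
  have hsub : (↑({1, a, b, a * b, c} : Finset G) : Set G) ⊆ (A : Set G) := by
    have hAa : a ∈ A := subset_closure (by simp)
    have hAb : b ∈ A := subset_closure (by simp)
    have hAc : c ∈ A := subset_closure (by simp)
    intro x hx
    simp only [Finset.coe_insert, Finset.coe_singleton, Set.mem_insert_iff, Set.mem_singleton_iff] at hx
    rcases hx with rfl | rfl | rfl | rfl | rfl
    exacts [A.one_mem, hAa, hAb, A.mul_mem hAa hAb, hAc]
  have h5 : ({1, a, b, a * b, c} : Finset G).card = 5 := by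
    have e1 : a * b ≠ 1 := fun e => hne ((eq_inv_of_mul_eq_one_left e).trans (inv_eq_of_mul_eq_one_left hb))
    simp [ha1, hb1, hne, e1, n1, n2, n3, n4, Ne.symm ha1, Ne.symm hb1, Ne.symm e1, Ne.symm n1, Ne.symm n2,
      Ne.symm n3, Ne.symm n4]
  have := Set.ncard_le_ncard hsub (Set.toFinite _)
  rw [Set.ncard_coe_finset, h5, ← Nat.card_coe_set_eq] at this
  have : (5 : ℕ) ≤ Nat.card A := this
  norm_num at h4
  omega

/-- An element centralizing a central element of a Sylow subgroup moves its centralizer there. -/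
theorem extremal {G : Type*} [Group G] [Finite G] (S : Sylow 2 G) {w z : G}
    (hcen : ∀ x ∈ (S : Subgroup G), z * x = x * z) (hconj : IsConj w z) :
    ∃ h : G, h * w * h⁻¹ = z ∧ ∀ c ∈ (S : Subgroup G), w * c = c * w → h * c * h⁻¹ ∈ (S : Subgroup G) := by
  haveI : Fact (Nat.Prime 2) := ⟨Nat.prime_two⟩
  obtain ⟨g, hg⟩ := isConj_iff.1 hconj
  set C := centralizer ({z} : Set G) with hC
  have hSC : (S : Subgroup G) ≤ C := fun x hx => mem_centralizer_singleton_iff.2 (hcen x hx).symm
  set R := ((S : Subgroup G) ⊓ centralizer ({w} : Set G)).map (MulAut.conj g).toMonoidHom with hR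
  have hRC : R ≤ C := by
    rintro _ ⟨x, ⟨-, hxw⟩, rfl⟩
    have hxw' : x * w = w * x := mem_centralizer_singleton_iff.1 hxw
    refine mem_centralizer_singleton_iff.2 ?_
    show g * x * g⁻¹ * z = z * (g * x * g⁻¹)
    rw [← hg, show g * x * g⁻¹ * (g * w * g⁻¹) = g * (x * w) * g⁻¹ by group, hxw']
    group
  have hRp : IsPGroup 2 R := (S.isPGroup'.to_le inf_le_left).map _
  obtain ⟨P, hP⟩ := (hRp.of_equiv (subgroupOfEquivOfLe hRC).symm :
    IsPGroup 2 ↥(R.subgroupOf C)).exists_le_sylow
  obtain ⟨k, hk⟩ := MulAction.exists_smul_eq C P (S.subtype hSC)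
  refine ⟨(k : G) * g, ?_, fun c hc hcw => ?_⟩
  · rw [show (k : G) * g * w * ((k : G) * g)⁻¹ = k * (g * w * g⁻¹) * (k : G)⁻¹ by group, hg,
      mem_centralizer_singleton_iff.1 k.2, mul_inv_cancel_right]
  · have hm : g * c * g⁻¹ ∈ R :=
      ⟨c, ⟨hc, mem_centralizer_singleton_iff.2 hcw.symm⟩, rfl⟩
    have hm' : (⟨g * c * g⁻¹, hRC hm⟩ : C) ∈ P := hP hm
    have h3 : k * ⟨g * c * g⁻¹, hRC hm⟩ * k⁻¹ ∈ (S.subtype hSC : Subgroup C) := by
      rw [← hk, Sylow.coe_subgroup_smul, Subgroup.mem_smul_pointwise_iff_exists]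
      exact ⟨_, hm', rfl⟩
    have h4 : (k : G) * (g * c * g⁻¹) * (k : G)⁻¹ ∈ (S : Subgroup G) := h3
    rw [show (k : G) * g * c * ((k : G) * g)⁻¹ = (k : G) * (g * c * g⁻¹) * (k : G)⁻¹ by group]
    exact h4

/-- An element of a 2-group that is not involutory has a power of order four. -/
theorem exists_four {G : Type*} [Group G] {H : Subgroup G} (hH : IsPGroup 2 H) {c : G} (hc : c ∈ H)
    (h : c * c ≠ 1) : ∃ i : ℕ, c ^ i * c ^ i ≠ 1 ∧ (c ^ i * c ^ i) * (c ^ i * c ^ i) = 1 := by
  haveI : Fact (Nat.Prime 2) := ⟨Nat.prime_two⟩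
  obtain ⟨k, hk⟩ := hH.exists_orderOf_eq_pow (g := (⟨c, hc⟩ : H)) |> fun h => h
  rw [Subgroup.orderOf_mk] at hk
  have hone : c ^ 2 ^ k = 1 := by rw [← hk]; exact pow_orderOf_eq_one c
  obtain ⟨j, rfl⟩ : ∃ j, k = j + 2 := by
    rcases k with _ | _ | j
    · rw [pow_zero, pow_one] at hone; exact absurd (by rw [hone, one_mul]) h
    · rw [pow_succ, pow_zero, one_mul, pow_two] at hone; exact absurd hone h
    · exact ⟨j, rfl⟩
  refine ⟨2 ^ j, fun e => ?_, ?_⟩
  · rw [← pow_add, ← two_mul, ← pow_succ'] at e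
    have := Nat.le_of_dvd (Nat.two_pow_pos _) (orderOf_dvd_of_pow_eq_one e)
    rw [hk] at this
    exact absurd this (by simp [pow_succ])
  · rw [← pow_add, ← pow_add]
    convert hone using 2
    ring

/-- Let G be a finite group of 2-rank 2 (a Klein four-subgroup but no elementary abelian subgroup of order 8) which is fusion simple: G has no subgroup of index 2 and no isolated involution. Let S be a Sylow 2-subgroup. Then S is dihedral, quasi-dihedral, wreathed, isomorphic to Z_{2^n} × Z_{2^n} for some n ≥ 2, or isomorphic to a Sylow 2-subgroup of PSU(3) over the field with 16 elements. -/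
theorem result {G : Type*} [Group G] [Finite G] (h2 : Cfsg.PRankLE 2 2 G) (h1 : ¬ Cfsg.PRankLE 2 1 G) (hidx : ∀ H : Subgroup G, H.index ≠ 2) (hiso : ∀ z : G, ¬ Cfsg.IsIsolatedInvolution z) (S : Sylow 2 G) {F : Type*} [Field F] [Fintype F] (hF : Fintype.card F = 16) (P : Sylow 2 (Cfsg.PSU 3 F 4)) : (∃ m : ℕ, 2 ≤ m ∧ Nonempty ((S : Subgroup G) ≃* DihedralGroup m)) ∨ Cfsg.IsQuasiDihedral (S : Subgroup G) ∨ Cfsg.IsWreathed (S : Subgroup G) ∨ (∃ n : ℕ, 2 ≤ n ∧ Nonempty ((S : Subgroup G) ≃* Multiplicative (ZMod (2 ^ n) × ZMod (2 ^ n)))) ∨ Nonempty ((S : Subgroup G) ≃* (P : Subgroup (Cfsg.PSU 3 F 4))) := by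
  classical
  haveI : Fact (Nat.Prime 2) := ⟨Nat.prime_two⟩
  have hSp : IsPGroup 2 (S : Subgroup G) := S.isPGroup'
  have h2S : Cfsg.PRankLE 2 2 ↥(S : Subgroup G) := by
    intro A hA hA2
    haveI := hA
    rw [Nat.card_congr (A.equivMapOfInjective _ (Subgroup.subtype_injective _)).toEquiv]
    refine h2 _ inferInstance ?_
    rintro _ ⟨a, ha, rfl⟩
    rw [← map_pow, hA2 a ha, map_one]
  -- a four group
  obtain ⟨a₀, b₀, ha₀, hb₀, ha₀2, hb₀2, ha₀1, hb₀1, hab₀, hcomm₀⟩ : ∃ a b : G, a ∈ (S : Subgroup G) ∧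
      b ∈ (S : Subgroup G) ∧ a * a = 1 ∧ b * b = 1 ∧ a ≠ 1 ∧ b ≠ 1 ∧ a ≠ b ∧ a * b = b * a := by
    rw [Cfsg.PRankLE] at h1
    push Not at h1
    obtain ⟨A, hA, hA2, hlt⟩ := h1
    have hAp : IsPGroup 2 A := fun x => ⟨1, by
      rw [pow_one]; exact Subtype.ext (by simpa using hA2 x.1 x.2)⟩
    obtain ⟨R, hR⟩ := hAp.exists_le_sylow
    obtain ⟨g, hg⟩ := MulAction.exists_smul_eq G R S
    have hin : ∀ x ∈ A, g * x * g⁻¹ ∈ (S : Subgroup G) := by
      intro x hx
      rw [← hg, Sylow.coe_subgroup_smul, Subgroup.mem_smul_pointwise_iff_exists]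
      exact ⟨x, hR hx, rfl⟩
    haveI := Fintype.ofFinite A
    rw [Nat.card_eq_fintype_card, pow_one] at hlt
    obtain ⟨a, b, c, hab, hac, hbc⟩ := Fintype.two_lt_card_iff.1 hlt
    obtain ⟨x, y, hx, hy, hxy⟩ : ∃ x y : A, x ≠ 1 ∧ y ≠ 1 ∧ x ≠ y := by
      by_cases h : a = 1
      · exact ⟨b, c, fun e => hab (h.trans e.symm), fun e => hac (h.trans e.symm), hbc⟩
      · by_cases h' : b = 1
        · exact ⟨a, c, h, fun e => hbc (h'.trans e.symm), hac⟩
        · exact ⟨a, b, h, h', hab⟩
    refine ⟨MulAut.conj g x.1, MulAut.conj g y.1, hin _ x.2, hin _ y.2, ?_, ?_, ?_, ?_, ?_, ?_⟩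
    · rw [← map_mul, ← pow_two, hA2 _ x.2, map_one]
    · rw [← map_mul, ← pow_two, hA2 _ y.2, map_one]
    · exact fun e => hx (Subtype.ext ((MulAut.conj g).injective (e.trans (map_one _).symm)))
    · exact fun e => hy (Subtype.ext ((MulAut.conj g).injective (e.trans (map_one _).symm)))
    · exact fun e => hxy (Subtype.ext ((MulAut.conj g).injective e))
    · rw [← map_mul, ← map_mul]
      exact congrArg _ (congrArg Subtype.val (hA.is_comm.comm x y))
  haveI : Nontrivial ↥(S : Subgroup G) := ⟨⟨⟨a₀, ha₀⟩, 1, fun e => ha₀1 (congrArg Subtype.val e)⟩⟩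
  -- a central involution
  obtain ⟨z, hzS, hz2, hz1, hzc⟩ : ∃ z ∈ (S : Subgroup G), z * z = 1 ∧ z ≠ 1 ∧
      ∀ x ∈ (S : Subgroup G), z * x = x * z := by
    haveI := hSp.center_nontrivial
    obtain ⟨k, hk0, hk⟩ := (hSp.to_subgroup (center ↥(S : Subgroup G))).nontrivial_iff_card.1 inferInstance
    obtain ⟨z, hz⟩ := exists_prime_orderOf_dvd_card' (G := center ↥(S : Subgroup G)) 2
      (by rw [hk]; exact dvd_pow_self 2 (by omega))
    have hz' : orderOf ((z : ↥(S : Subgroup G)) : G) = 2 := by rw [Subgroup.orderOf_coe, Subgroup.orderOf_coe, hz]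
    refine ⟨_, (z : ↥(S : Subgroup G)).2, ?_, fun e => ?_, fun x hx => ?_⟩
    · have h := pow_orderOf_eq_one ((z : ↥(S : Subgroup G)) : G)
      rwa [hz', pow_two] at h
    · rw [e, orderOf_one] at hz'; omega
    · exact congrArg Subtype.val (Subgroup.mem_center_iff.1 z.2 ⟨x, hx⟩).symm
  have ordTwo : ∀ x : G, x * x = 1 → x ≠ 1 → orderOf x = 2 := fun x hx hx1 =>
    orderOf_eq_prime (by rw [pow_two, hx]) hx1
  -- central involutions of the Sylow subgroup are fused in it
  have hfuse : ∀ v ∈ (S : Subgroup G), v * v = 1 → v ≠ 1 → (∀ x ∈ (S : Subgroup G), v * x = x * v) →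
      ∃ w ∈ (S : Subgroup G), w * w = 1 ∧ w ≠ 1 ∧ w ≠ v ∧ IsConj w v := by
    intro v hv hv2 hv1 hvc
    have hni := hiso v
    rw [Cfsg.IsIsolatedInvolution, not_and] at hni
    have hni' := hni (ordTwo v hv2 hv1)
    push Not at hni'
    obtain ⟨g, hgc, hgne⟩ := hni'
    set v' := g * v * g⁻¹ with hv'
    set C := centralizer ({v} : Set G) with hC
    have hSC : (S : Subgroup G) ≤ C := fun x hx => mem_centralizer_singleton_iff.2 (hvc x hx).symm
    have hv'C : v' ∈ C := mem_centralizer_singleton_iff.2 hgc.eq.symm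
    have hv'2 : v' * v' = 1 := by
      rw [hv', show g * v * g⁻¹ * (g * v * g⁻¹) = g * (v * v) * g⁻¹ by group, hv2, mul_one, mul_inv_cancel]
    have hZ : IsPGroup 2 (zpowers (⟨v', hv'C⟩ : C)) := IsPGroup.of_card (n := 1) (by
      rw [Nat.card_zpowers, Subgroup.orderOf_mk, pow_one]
      exact ordTwo _ hv'2 (fun e => hv1 (by simpa [hv'] using e)))
    obtain ⟨P, hP⟩ := hZ.exists_le_sylow
    obtain ⟨k, hk⟩ := MulAction.exists_smul_eq C P (S.subtype hSC)
    have h3 : k * ⟨v', hv'C⟩ * k⁻¹ ∈ (S.subtype hSC : Subgroup C) := by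
      rw [← hk, Sylow.coe_subgroup_smul, Subgroup.mem_smul_pointwise_iff_exists]
      exact ⟨_, hP (mem_zpowers _), rfl⟩
    have h4 : (k : G) * v' * (k : G)⁻¹ ∈ (S : Subgroup G) := h3
    refine ⟨_, h4, ?_, ?_, ?_, ?_⟩
    · rw [show (k : G) * v' * (k : G)⁻¹ * ((k : G) * v' * (k : G)⁻¹) = k * (v' * v') * (k : G)⁻¹ by group,
        hv'2, mul_one, mul_inv_cancel]
    · intro e
      exact hv1 (by simpa [hv'] using e)
    · intro e
      apply hgne
      calc v' = (k : G)⁻¹ * ((k : G) * v' * (k : G)⁻¹) * k := by group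
        _ = (k : G)⁻¹ * (v * k) := by rw [e, mul_assoc]
        _ = v := by rw [← mem_centralizer_singleton_iff.1 k.2, inv_mul_cancel_left]
    · refine isConj_iff.2 ⟨((k : G) * g)⁻¹, ?_⟩
      rw [hv']
      group
  have hz1' : (⟨z, hzS⟩ : ↥(S : Subgroup G)) ≠ 1 := fun e => hz1 (congrArg Subtype.val e)
  by_cases hA : ∃ v ∈ (S : Subgroup G), v * v = 1 ∧ v ≠ 1 ∧ v ≠ z ∧ ∀ x ∈ (S : Subgroup G), v * x = x * v
  · -- all involutions are central
    obtain ⟨v, hvS, hv2, hv1, hvz, hvc⟩ := hA
    have hall : ∀ x ∈ (S : Subgroup G), x * x = 1 → x = 1 ∨ x = z ∨ x = v ∨ x = z * v := fun x hx hx2 =>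
      rank_list h2 hz2 hv2 hx2 (hzc v hvS) (hzc x hx) (hvc x hx) hz1 hv1 hvz.symm
    have hcen : ∀ x ∈ (S : Subgroup G), x * x = 1 → ∀ y ∈ (S : Subgroup G), x * y = y * x := by
      intro x hx hx2 y hy
      rcases hall x hx hx2 with rfl | rfl | rfl | rfl
      · rw [one_mul, mul_one]
      · exact hzc y hy
      · exact hvc y hy
      · rw [mul_assoc, hvc y hy, ← mul_assoc, hzc y hy, mul_assoc]
    -- the normalizer moves every involution
    obtain ⟨n, hn, hnz⟩ : ∃ n ∈ normalizer ((S : Subgroup G) : Set G), n * z * n⁻¹ ≠ z := by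
      obtain ⟨w, hw, hw2, -, hwz, hwc⟩ := hfuse z hzS hz2 hz1 hzc
      obtain ⟨g, hg⟩ := isConj_iff.1 hwc.symm
      obtain ⟨n, hn, hn'⟩ := S.conj_eq_normalizer_conj_of_mem_centralizer z g⁻¹
        (mem_centralizer_iff.2 fun y hy => (hzc y hy).symm)
        (mem_centralizer_iff.2 fun y hy => by rw [inv_inv, hg]; exact (hcen w hw hw2 y hy).symm)
      refine ⟨n⁻¹, inv_mem hn, fun e => hwz ?_⟩
      rw [← hg, ← inv_inv g, inv_inv g⁻¹, hn']
      simpa using e
    set φ : MulAut ↥(S : Subgroup G) := (S : Subgroup G).normalizerMonoidHom ⟨n, hn⟩ with hφ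
    have hφc : ∀ x : ↥(S : Subgroup G), ((φ x : ↥(S : Subgroup G)) : G) = n * x * n⁻¹ := fun x => rfl
    have hz2m : n * z * n⁻¹ ∈ (S : Subgroup G) := (mem_normalizer_iff.1 hn z).1 hzS
    -- the orbit of `z` has length three
    have hnn : n * (n * z * n⁻¹) * n⁻¹ ≠ z := by
      intro e
      haveI := (S : Subgroup G).normal_in_normalizer
      have hpow := Subgroup.pow_index_mem
        ((S : Subgroup G).subgroupOf (normalizer ((S : Subgroup G) : Set G))) ⟨n, hn⟩
      have hodd : Odd ((S : Subgroup G).subgroupOf (normalizer ((S : Subgroup G) : Set G))).index := by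
        rw [← Nat.not_even_iff_odd, even_iff_two_dvd]
        exact fun h => S.not_dvd_index (h.trans (relIndex_dvd_index_of_le le_normalizer))
      obtain ⟨r, hr⟩ := hodd
      rw [hr, mem_subgroupOf, SubgroupClass.coe_pow] at hpow
      have hper : ∀ r : ℕ, n ^ (2 * r) * z * (n ^ (2 * r))⁻¹ = z := by
        intro r
        induction r with
        | zero => simp
        | succ r ih =>
          rw [show 2 * (r + 1) = 2 + 2 * r by ring, pow_add, mul_inv_rev,
            show n ^ 2 * n ^ (2 * r) * z * ((n ^ (2 * r))⁻¹ * (n ^ 2)⁻¹) =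
              n ^ 2 * (n ^ (2 * r) * z * (n ^ (2 * r))⁻¹) * (n ^ 2)⁻¹ by group, ih]
          calc n ^ 2 * z * (n ^ 2)⁻¹ = n * (n * z * n⁻¹) * n⁻¹ := by rw [pow_two]; group
            _ = z := e
      apply hnz
      have h5 : n ^ (2 * r + 1) * z * (n ^ (2 * r + 1))⁻¹ = z := by
        rw [← hzc _ hpow, mul_inv_cancel_right]
      rw [pow_succ', mul_inv_rev, show n * n ^ (2 * r) * z * ((n ^ (2 * r))⁻¹ * n⁻¹) =
        n * (n ^ (2 * r) * z * (n ^ (2 * r))⁻¹) * n⁻¹ by group, hper r] at h5
      exact h5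
    have htrans : ∀ s t : ↥(S : Subgroup G), orderOf s = 2 → orderOf t = 2 → ∃ k : ℕ, (φ ^ k) s = t := by
      let z' : ↥(S : Subgroup G) := ⟨z, hzS⟩
      have key : ∀ s : ↥(S : Subgroup G), orderOf s = 2 → s = z' ∨ s = φ z' ∨ s = φ (φ z') := by
        intro s hs
        have hs2 : (s : G) * s = 1 := by
          have h := pow_orderOf_eq_one (s : G)
          rwa [Subgroup.orderOf_coe, hs, pow_two] at h
        have hs1 : (s : G) ≠ 1 := fun e => by
          rw [← Subgroup.orderOf_coe, e, orderOf_one] at hs; omega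
        have hz22 : n * z * n⁻¹ * (n * z * n⁻¹) = 1 := by
          rw [show n * z * n⁻¹ * (n * z * n⁻¹) = n * (z * z) * n⁻¹ by group, hz2, mul_one, mul_inv_cancel]
        have hz3m : n * (n * z * n⁻¹) * n⁻¹ ∈ (S : Subgroup G) := (mem_normalizer_iff.1 hn _).1 hz2m
        have hz32 : n * (n * z * n⁻¹) * n⁻¹ * (n * (n * z * n⁻¹) * n⁻¹) = 1 := by
          rw [show n * (n * z * n⁻¹) * n⁻¹ * (n * (n * z * n⁻¹) * n⁻¹) = n * n * (z * z) * (n * n)⁻¹ by group, hz2,
            mul_one, mul_inv_cancel]
        have hne1 : n * z * n⁻¹ ≠ 1 := fun e => hz1 (by simpa using e)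
        rcases rank_list h2 hz2 hz22 hz32 (hzc _ hz2m) (hzc _ hz3m) (hcen _ hz2m hz22 _ hz3m) hz1 hne1
          (Ne.symm hnz) with e | e | e | e
        · exact absurd (by simpa using e) hz1
        · exact absurd e hnn
        · exact absurd (by simpa using e) hnz
        rcases rank_list h2 hz2 hz22 hs2 (hzc _ hz2m) (hzc _ s.2) (hcen _ hz2m hz22 _ s.2) hz1 hne1
          (Ne.symm hnz) with f | f | f | f
        · exact absurd f hs1
        · exact Or.inl (Subtype.ext f)
        · exact Or.inr (Or.inl (Subtype.ext (by rw [hφc]; exact f)))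
        · exact Or.inr (Or.inr (Subtype.ext (by rw [hφc, hφc]; exact f.trans e.symm)))
      have hzo : orderOf z' = 2 := by
        rw [← Subgroup.orderOf_coe]; exact ordTwo z hz2 hz1
      have h3 : φ (φ (φ z')) = z' := by
        rcases key (φ (φ (φ z'))) (by rw [MulEquiv.orderOf_eq, MulEquiv.orderOf_eq, MulEquiv.orderOf_eq, hzo]) with e | e | e
        · exact e
        · exact absurd (congrArg Subtype.val (φ.injective e)) (by rw [hφc, hφc]; exact hnn)
        · exact absurd (congrArg Subtype.val (φ.injective (φ.injective e))) (by rw [hφc]; exact hnz)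
      intro s t hs ht
      rcases key s hs with rfl | rfl | rfl <;> rcases key t ht with rfl | rfl | rfl
      · exact ⟨0, rfl⟩
      · exact ⟨1, rfl⟩
      · exact ⟨2, rfl⟩
      · exact ⟨2, h3⟩
      · exact ⟨0, rfl⟩
      · exact ⟨1, rfl⟩
      · exact ⟨1, h3⟩
      · exact ⟨2, congrArg φ h3⟩
      · exact ⟨0, rfl⟩
    have h1S : ¬ Cfsg.PRankLE 2 1 ↥(S : Subgroup G) := by
      intro h
      let A : Subgroup ↥(S : Subgroup G) :=
        { carrier := {x | x * x = 1}
          one_mem' := one_mul 1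
          mul_mem' := fun {x y} hx hy => by
            have hxy : x * y = y * x := Subtype.ext (hcen x x.2 (congrArg Subtype.val hx) y y.2)
            show x * y * (x * y) = 1
            rw [show x * y * (x * y) = x * (y * x) * y by group, ← hxy,
              show x * (x * y) * y = (x * x) * (y * y) by group, hx, hy, one_mul]
          inv_mem' := fun {x} hx => by
            show x⁻¹ * x⁻¹ = 1
            rw [← mul_inv_rev, hx, inv_one] }
      have hcard := h A ⟨⟨fun x y => Subtype.ext (Subtype.ext (hcen x.1 x.1.2 (congrArg Subtype.val x.2) y.1 y.1.2))⟩⟩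
        (fun x hx => by rw [pow_two]; exact hx)
      haveI := Fintype.ofFinite A
      rw [Nat.card_eq_fintype_card] at hcard
      have h3 : 2 < Fintype.card A := Fintype.two_lt_card_iff.2 ⟨1, ⟨⟨z, hzS⟩, Subtype.ext hz2⟩,
        ⟨⟨v, hvS⟩, Subtype.ext hv2⟩, fun e => hz1 (congrArg (fun a : A => ((a : ↥(S : Subgroup G)) : G)) e).symm,
        fun e => hv1 (congrArg (fun a : A => ((a : ↥(S : Subgroup G)) : G)) e).symm,
        fun e => hvz (congrArg (fun a : A => ((a : ↥(S : Subgroup G)) : G)) e).symm⟩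
      omega
    rcases Cfsg.Agent.S1237.result hSp h2S h1S φ htrans hF P with ⟨m, hm, ⟨e⟩⟩ | h
    · rcases eq_or_lt_of_le hm with rfl | hm'
      · let e' : ↥(S : Subgroup G) ≃* Multiplicative (ZMod 2 × ZMod 2) := e
        exact Or.inl ⟨2, le_rfl, ⟨e'.trans (IsKleinFour.nonempty_mulEquiv).some⟩⟩
      · exact Or.inr (Or.inr (Or.inr (Or.inl ⟨m, hm', ⟨e⟩⟩)))
    · exact Or.inr (Or.inr (Or.inr (Or.inr h)))
  · push Not at hA
    have hzuniq : ∀ v ∈ (S : Subgroup G), v * v = 1 → v ≠ 1 → (∀ x ∈ (S : Subgroup G), v * x = x * v) → v = z := by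
      intro v hv hv2 hv1 hvc
      by_contra hne
      obtain ⟨x, hx, hx'⟩ := hA v hv hv2 hv1 hne
      exact hx' (hvc x hx)
    by_cases hall : ∀ A : Subgroup ↥(S : Subgroup G), A.Normal → IsMulCommutative A → IsCyclic A
    · -- no normal four group
      let B : Subgroup ↥(S : Subgroup G) := closure {⟨a₀, ha₀⟩, ⟨b₀, hb₀⟩}
      have hB : IsMulCommutative B := isMulCommutative_closure (by
        simp only [Set.mem_insert_iff, Set.mem_singleton_iff]
        rintro x (rfl | rfl) y (rfl | rfl)
        · rfl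
        · exact Subtype.ext hcomm₀
        · exact Subtype.ext hcomm₀.symm
        · rfl)
      have hBnc : ¬ IsCyclic B := by
        intro hc
        haveI := Fintype.ofFinite B
        have h := IsCyclic.card_pow_eq_one_le (α := B) (n := 2) two_pos
        have hm : ∀ x, x ∈ ({⟨a₀, ha₀⟩, ⟨b₀, hb₀⟩} : Set ↥(S : Subgroup G)) → x ∈ B := fun x hx => subset_closure hx
        have h3 : ({1, ⟨⟨a₀, ha₀⟩, hm _ (by simp)⟩, ⟨⟨b₀, hb₀⟩, hm _ (by simp)⟩} : Finset B).card = 3 := by
          rw [Finset.card_insert_of_notMem, Finset.card_insert_of_notMem, Finset.card_singleton]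
          · simp [hab₀]
          · simp only [Finset.mem_insert, Finset.mem_singleton, not_or]
            exact ⟨fun e => ha₀1 (congrArg (fun b : B => ((b : ↥(S : Subgroup G)) : G)) e).symm,
              fun e => hb₀1 (congrArg (fun b : B => ((b : ↥(S : Subgroup G)) : G)) e).symm⟩
        have h4 : ({1, ⟨⟨a₀, ha₀⟩, hm _ (by simp)⟩, ⟨⟨b₀, hb₀⟩, hm _ (by simp)⟩} : Finset B) ⊆
            Finset.univ.filter (fun x : B => x ^ 2 = 1) := by
          intro x hx
          simp only [Finset.mem_insert, Finset.mem_singleton] at hx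
          simp only [Finset.mem_filter, Finset.mem_univ, true_and, pow_two]
          rcases hx with rfl | rfl | rfl
          exacts [one_mul 1, Subtype.ext (Subtype.ext ha₀2), Subtype.ext (Subtype.ext hb₀2)]
        have := Finset.card_le_card h4
        omega
      rcases (Cfsg.Agent.S0519.result 2 hSp hall ⟨B, hB, hBnc⟩).2 with ⟨m, ⟨e⟩⟩ | ⟨m, hm, he⟩ | hQD
      · exfalso
        haveI : NeZero m := ⟨by
          rintro rfl
          haveI : Finite (QuaternionGroup 0) := Finite.of_equiv _ e.toEquiv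
          haveI : Finite ℤ := Finite.of_injective (fun i : ℤ => (QuaternionGroup.a i : QuaternionGroup 0))
            (fun i j h => QuaternionGroup.a.inj h)
          exact not_finite ℤ⟩
        have key : ∀ q : QuaternionGroup m, q * q = 1 → q ≠ 1 → q = QuaternionGroup.a (m : ℕ) := by
          intro q hq hq1
          rcases q with i | i
          · rw [QuaternionGroup.a_mul_a, QuaternionGroup.one_def, QuaternionGroup.a.injEq] at hq
            have h'' : ((2 * i.val : ℕ) : ZMod (2 * m)) = 0 := by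
              rw [Nat.cast_mul, ZMod.natCast_zmod_val, Nat.cast_ofNat]; exact (two_mul i).trans hq
            rw [ZMod.natCast_eq_zero_iff] at h''
            obtain ⟨c, hc⟩ := h''
            have hlt := ZMod.val_lt i
            have hv : i.val = m * c := by nlinarith
            rcases c with _ | _ | c
            · exfalso
              exact hq1 (by rw [QuaternionGroup.one_def, ← ZMod.natCast_zmod_val i, hv, mul_zero, Nat.cast_zero])
            · rw [← ZMod.natCast_zmod_val i, hv, zero_add, mul_one]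
            · exfalso
              nlinarith [Nat.pos_of_ne_zero (NeZero.ne m)]
          · exfalso
            rw [QuaternionGroup.xa_mul_xa, QuaternionGroup.one_def, QuaternionGroup.a.injEq, add_sub_cancel_right,
              ZMod.natCast_eq_zero_iff] at hq
            have h0 := Nat.pos_of_ne_zero (NeZero.ne m)
            have := Nat.le_of_dvd h0 hq
            omega
        apply hab₀
        have ea := key (e ⟨a₀, ha₀⟩) (by rw [← map_mul]; exact (congrArg e (Subtype.ext ha₀2)).trans (map_one e))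
          (fun h => ha₀1 (congrArg Subtype.val (e.injective (h.trans (map_one e).symm))))
        have eb := key (e ⟨b₀, hb₀⟩) (by rw [← map_mul]; exact (congrArg e (Subtype.ext hb₀2)).trans (map_one e))
          (fun h => hb₀1 (congrArg Subtype.val (e.injective (h.trans (map_one e).symm))))
        exact congrArg Subtype.val (e.injective (ea.trans eb.symm))
      · exact Or.inl ⟨m, by omega, he⟩
      · exact Or.inr (Or.inl hQD)
    · -- a normal four group
      push Not at hall
      obtain ⟨A, hAn, hAc, hAnc⟩ := hall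
      haveI := hAc
      obtain ⟨a, haA, ha2, ha1, haz⟩ : ∃ a : ↥(S : Subgroup G), a ∈ A ∧ (a : G) * a = 1 ∧ (a : G) ≠ 1 ∧ (a : G) ≠ z := by
        by_contra hno
        push Not at hno
        refine hAnc ?_
        letI : CommGroup A := { (inferInstance : Group A) with mul_comm := hAc.is_comm.comm }
        refine Cfsg.Lib.Invol.AC.isCyclic_of_unique_invol (hSp.to_subgroup A) fun x y hx hy => ?_
        have key : ∀ x : A, orderOf x = 2 → ((x : ↥(S : Subgroup G)) : G) = z := fun x hx => by
          have hx' : orderOf ((x : ↥(S : Subgroup G)) : G) = 2 := by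
            rw [Subgroup.orderOf_coe, Subgroup.orderOf_coe]; exact hx
          refine hno _ x.2 ?_ (fun e => ?_)
          · have h := pow_orderOf_eq_one ((x : ↥(S : Subgroup G)) : G)
            rwa [hx', pow_two] at h
          · rw [e, orderOf_one] at hx'; omega
        exact Subtype.ext (Subtype.ext ((key x hx).trans (key y hy).symm))
      set u : G := (a : G) with hu
      have huS : u ∈ (S : Subgroup G) := a.2
      have hconjU : ∀ s ∈ (S : Subgroup G), s * u * s⁻¹ = u ∨ s * u * s⁻¹ = u * z := by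
        intro s hs
        have hm := hAn.conj_mem a haA ⟨s, hs⟩
        have hcm : u * (s * u * s⁻¹) = s * u * s⁻¹ * u :=
          congrArg (fun x : A => ((x : ↥(S : Subgroup G)) : G)) (hAc.is_comm.comm ⟨a, haA⟩ ⟨_, hm⟩)
        have h22 : s * u * s⁻¹ * (s * u * s⁻¹) = 1 := by
          rw [show s * u * s⁻¹ * (s * u * s⁻¹) = s * (u * u) * s⁻¹ by group, ha2, mul_one, mul_inv_cancel]
        rcases rank_list h2 ha2 hz2 h22 (hzc u huS).symm hcm
          (hzc _ (mul_mem (mul_mem hs huS) (inv_mem hs))) ha1 hz1 haz with e | e | e | e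
        · exact absurd (by simpa using e) ha1
        · exact Or.inl e
        · exfalso
          apply haz
          calc u = s⁻¹ * (s * u * s⁻¹) * s := by group
            _ = s⁻¹ * (z * s) := by rw [e, mul_assoc]
            _ = z := by rw [hzc s hs, inv_mul_cancel_left]
        · exact Or.inr e
      obtain ⟨s, hsS, hsu⟩ : ∃ s ∈ (S : Subgroup G), s * u * s⁻¹ = u * z := by
        by_contra hno
        push Not at hno
        apply haz
        refine hzuniq u huS ha2 ha1 fun x hx => ?_
        have := (hconjU x hx).resolve_right (hno x hx)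
        exact (mul_inv_eq_iff_eq_mul.1 this).symm
      set T : Subgroup G := (S : Subgroup G) ⊓ centralizer ({u} : Set G) with hT
      have hmemT : ∀ x, x ∈ T ↔ x ∈ (S : Subgroup G) ∧ x * u = u * x := fun x => by
        rw [hT, mem_inf, mem_centralizer_singleton_iff]
      have huT : u ∈ T := (hmemT u).2 ⟨huS, rfl⟩
      have hzT : z ∈ T := (hmemT z).2 ⟨hzS, hzc u huS⟩
      have hnotT : ∀ x ∈ (S : Subgroup G), x ∉ T → x * u * x⁻¹ = u * z := fun x hx hxT =>
        (hconjU x hx).resolve_left fun e => hxT ((hmemT x).2 ⟨hx, mul_inv_eq_iff_eq_mul.1 e⟩)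
      have huz : u * z ≠ u := fun e => hz1 (mul_eq_left.1 e)
      have hsT : s ∉ T := fun h => huz (by rw [← hsu, ((hmemT s).1 h).2, mul_inv_cancel_right])
      have hTtwo : ∀ x ∈ (S : Subgroup G), ∀ y ∈ (S : Subgroup G), x ∉ T → y ∉ T → x * y ∈ T := by
        intro x hx y hy hxT hyT
        refine (hmemT _).2 ⟨mul_mem hx hy, ?_⟩
        have e : x * y * u * (x * y)⁻¹ = u := by
          calc x * y * u * (x * y)⁻¹ = x * (y * u * y⁻¹) * x⁻¹ := by group
            _ = x * (u * z) * x⁻¹ := by rw [hnotT y hy hyT]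
            _ = (x * u * x⁻¹) * (x * z * x⁻¹) := by group
            _ = u * z * z := by rw [hnotT x hx hxT, ← hzc x hx, mul_inv_cancel_right]
            _ = u := by rw [mul_assoc, hz2, mul_one]
        exact mul_inv_eq_iff_eq_mul.1 e
      have hsq : ∀ x ∈ (S : Subgroup G), x * x ∈ T := fun x hx => by
        by_cases h : x ∈ T
        · exact T.mul_mem h h
        · exact hTtwo x hx x hx h h
      have hTS : T ≤ (S : Subgroup G) := inf_le_left
      have hTnorm : ∀ x ∈ (S : Subgroup G), ∀ t ∈ T, x * t * x⁻¹ ∈ T := by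
        intro x hx t ht
        by_cases h : x ∈ T
        · exact T.mul_mem (T.mul_mem h ht) (T.inv_mem h)
        · have hxi : x⁻¹ ∉ T := fun h' => h (by simpa using T.inv_mem h')
          refine hTtwo _ (mul_mem hx (hTS ht)) _ (inv_mem hx) (fun h' => h ?_) hxi
          simpa using T.mul_mem h' (T.inv_mem ht)
      have hTinv : ∀ x ∈ T, x * x = 1 → x = 1 ∨ x = u ∨ x = z ∨ x = u * z := fun x hx hx2 =>
        rank_list h2 ha2 hz2 hx2 (hzc u huS).symm ((hmemT x).1 hx).2.symm (hzc x (hTS hx)) ha1 hz1 haz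
      have huz2 : u * z * (u * z) = 1 := by
        rw [show u * z * (u * z) = u * (z * u) * z by group, hzc u huS, ← mul_assoc, ha2, one_mul, hz2]
      have huz1 : u * z ≠ 1 := fun e => haz ((eq_inv_of_mul_eq_one_left e).trans (inv_eq_of_mul_eq_one_left hz2))
      have hzuz : u * z ≠ z := fun e => ha1 (mul_eq_right.1 e)
      have hsmall : ∀ w ∈ (S : Subgroup G), w * w = 1 → w ≠ 1 → w ≠ z →
          (∀ c ∈ (S : Subgroup G), w * c = c * w → c = 1 ∨ c = w ∨ c = z ∨ c = z * w) →
          (∃ m : ℕ, 2 ≤ m ∧ Nonempty ((S : Subgroup G) ≃* DihedralGroup m)) ∨ Cfsg.IsQuasiDihedral (S : Subgroup G) := by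
        intro w hw hw2 hw1 hwz hC
        refine Cfsg.Lib.RankTwoFusion.dihedral_or_quasiDihedral hSp (w := ⟨w, hw⟩) (z := ⟨z, hzS⟩)
          (Subtype.ext hw2) (fun e => hw1 (congrArg Subtype.val e)) (Subtype.ext hz2) hz1'
          (fun e => hwz (congrArg Subtype.val e).symm) (fun x => Subtype.ext (hzc x x.2)) ?_ (fun c hc => ?_)
        · by_contra hno
          push Not at hno
          exact hwz (hzuniq w hw hw2 hw1 fun x hx => congrArg Subtype.val (hno ⟨x, hx⟩))
        · rcases hC c c.2 (congrArg Subtype.val hc) with e | e | e | e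
          · exact Or.inl (Subtype.ext e)
          · exact Or.inr (Or.inl (Subtype.ext e))
          · exact Or.inr (Or.inr (Or.inl (Subtype.ext e)))
          · exact Or.inr (Or.inr (Or.inr (Subtype.ext e)))
      -- the case of a self-centralizing four group
      by_cases hT4 : ∀ c ∈ T, c * c = 1
      · refine (hsmall u huS ha2 ha1 haz fun c hc hcu => ?_).imp id Or.inl
        have hcT : c ∈ T := (hmemT c).2 ⟨hc, hcu.symm⟩
        rcases hTinv c hcT (hT4 c hcT) with e | e | e | e
        · exact Or.inl e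
        · exact Or.inr (Or.inl e)
        · exact Or.inr (Or.inr (Or.inl e))
        · exact Or.inr (Or.inr (Or.inr (e.trans (hzc u huS).symm)))
      push Not at hT4
      obtain ⟨c₀, hc₀T, hc₀⟩ := hT4
      -- `u` is fused to `z`
      by_cases hfu : ∃ w ∈ (S : Subgroup G), w * w = 1 ∧ w ≠ 1 ∧ w ≠ z ∧
          ∀ c ∈ (S : Subgroup G), w * c = c * w → c = 1 ∨ c = w ∨ c = z ∨ c = z * w
      · obtain ⟨w, hw, hw2, hw1, hwz, hC⟩ := hfu
        exact (hsmall w hw hw2 hw1 hwz hC).imp id Or.inl
      have huconj : IsConj u z := by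
        have huuz : IsConj u (u * z) := isConj_iff.2 ⟨s, hsu⟩
        obtain ⟨w, hw, hw2, hw1, hwz, hwc⟩ := hfuse z hzS hz2 hz1 hzc
        by_cases hwT : w ∈ T
        · rcases hTinv w hwT hw2 with e | e | e | e
          · exact absurd e hw1
          · rw [← e]; exact hwc
          · exact absurd e hwz
          · rw [e] at hwc; exact huuz.trans hwc
        obtain ⟨h, hh, hhS⟩ := extremal S hzc hwc
        push Not at hfu
        obtain ⟨c, hc, hcw, hc1, hcw', hcz, hczw⟩ := hfu w hw hw2 hw1 hwz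
        have hnocomm : ∀ x ∈ T, x * x = 1 → w * x = x * w → x = 1 ∨ x = z := by
          intro x hx hx2 hwx
          rcases hTinv x hx hx2 with e | e | e | e
          · exact Or.inl e
          · exfalso
            apply hwT
            rw [e] at hwx
            exact (hmemT w).2 ⟨hw, hwx⟩
          · exact Or.inr e
          · exfalso
            apply hwT
            rw [e, ← mul_assoc, mul_assoc u z w, hzc w hw, ← mul_assoc] at hwx
            exact (hmemT w).2 ⟨hw, mul_right_cancel hwx⟩
        obtain ⟨d, hdT, hdw, hd1, hdz⟩ : ∃ d ∈ T, w * d = d * w ∧ d ≠ 1 ∧ d ≠ z := by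
          by_cases hcT : c ∈ T
          · exact ⟨c, hcT, hcw, hc1, hcz⟩
          · refine ⟨c * w, hTtwo c hc w hw hcT hwT, by rw [← mul_assoc, hcw], fun e => hcw' ?_, fun e => hczw ?_⟩
            · exact (eq_inv_of_mul_eq_one_left e).trans (inv_eq_of_mul_eq_one_left hw2)
            · rw [← e, mul_assoc, hw2, mul_one]
        have hdd : d * d ≠ 1 := fun e => by
          rcases hnocomm d hdT e hdw with e' | e'
          exacts [hd1 e', hdz e']
        obtain ⟨i, hi1, hi2⟩ := exists_four hSp (hTS hdT) hdd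
        have hdi : d ^ i ∈ T := T.pow_mem hdT i
        have hdiw : w * d ^ i = d ^ i * w := ((show Commute w d from hdw).pow_right i).eq
        have hsqz : d ^ i * d ^ i = z := ((hnocomm _ (T.mul_mem hdi hdi) hi2
          (((show Commute w (d ^ i) from hdiw).mul_right (show Commute w (d ^ i) from hdiw)).eq)).resolve_left hi1)
        have him : h * z * h⁻¹ ∈ T := by
          rw [← hsqz, show h * (d ^ i * d ^ i) * h⁻¹ = (h * d ^ i * h⁻¹) * (h * d ^ i * h⁻¹) by group]
          exact hsq _ (hhS _ (hTS hdi) hdiw)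
        have him2 : h * z * h⁻¹ * (h * z * h⁻¹) = 1 := by
          rw [show h * z * h⁻¹ * (h * z * h⁻¹) = h * (z * z) * h⁻¹ by group, hz2, mul_one, mul_inv_cancel]
        rcases hTinv _ him him2 with e | e | e | e
        · exact absurd (by simpa using e) hz1
        · exact (isConj_iff.2 ⟨h, e⟩ : IsConj z u).symm
        · exfalso
          apply hwz
          calc w = h⁻¹ * (h * w * h⁻¹) * h := by group
            _ = h⁻¹ * (h * z * h⁻¹) * h := by rw [hh, e]
            _ = z := by group
        · exact huuz.trans (isConj_iff.2 ⟨h, e⟩ : IsConj z (u * z)).symm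
      obtain ⟨g, hgu, hgS⟩ := extremal S hzc huconj
      have hgT : ∀ t ∈ T, g * t * g⁻¹ ∈ (S : Subgroup G) := fun t ht =>
        hgS t (hTS ht) ((hmemT t).1 ht).2.symm
      have hgz2 : g * z * g⁻¹ * (g * z * g⁻¹) = 1 := by
        rw [show g * z * g⁻¹ * (g * z * g⁻¹) = g * (z * z) * g⁻¹ by group, hz2, mul_one, mul_inv_cancel]
      -- `g` maps `z` into the centralizer of `u`
      have hgzT : g * z * g⁻¹ ∈ T := by
        by_contra hw
        obtain ⟨i, hi1, hi2⟩ := exists_four hSp (hTS hc₀T) hc₀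
        have hdT : c₀ ^ i ∈ T := T.pow_mem hc₀T i
        have hroot : ∀ d ∈ T, d * d ≠ 1 → d * d * (d * d) = 1 → d * d = u := by
          intro d hd hd1 hd2
          have him : g * (d * d) * g⁻¹ ∈ T := by
            rw [show g * (d * d) * g⁻¹ = (g * d * g⁻¹) * (g * d * g⁻¹) by group]
            exact hsq _ (hgT d hd)
          rcases hTinv _ (T.mul_mem hd hd) hd2 with e | e | e | e
          · exact absurd e hd1
          · exact e
          · rw [e] at him; exact absurd him hw
          · exfalso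
            rw [e, show g * (u * z) * g⁻¹ = (g * u * g⁻¹) * (g * z * g⁻¹) by group, hgu] at him
            apply hw
            have := T.mul_mem (T.inv_mem hzT) him
            rwa [inv_mul_cancel_left] at this
        have e1 := hroot _ hdT hi1 hi2
        have hd' := hTnorm s hsS _ hdT
        have e3 : s * c₀ ^ i * s⁻¹ * (s * c₀ ^ i * s⁻¹) = u * z := by
          rw [show s * c₀ ^ i * s⁻¹ * (s * c₀ ^ i * s⁻¹) = s * (c₀ ^ i * c₀ ^ i) * s⁻¹ by group, e1, hsu]
        have e2 := hroot _ hd' (by rw [e3]; exact huz1) (by rw [e3]; exact huz2)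
        exact huz (e3.symm.trans e2)
      have hgzcase : g * z * g⁻¹ = u ∨ g * z * g⁻¹ = u * z := by
        rcases hTinv _ hgzT hgz2 with e | e | e | e
        · exact absurd (by simpa using e) hz1
        · exact Or.inl e
        · exfalso
          apply haz
          calc u = g⁻¹ * (g * u * g⁻¹) * g := by group
            _ = g⁻¹ * (g * z * g⁻¹) * g := by rw [hgu, e]
            _ = z := by group
        · exact Or.inr e
      have hgnorm : ∀ t ∈ T, g * t * g⁻¹ ∈ T := by
        intro t ht
        refine (hmemT _).2 ⟨hgT t ht, ?_⟩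
        have h1 : g * t * g⁻¹ * (g * z * g⁻¹) = g * z * g⁻¹ * (g * t * g⁻¹) := by
          rw [show g * t * g⁻¹ * (g * z * g⁻¹) = g * (t * z) * g⁻¹ by group, ← hzc t (hTS ht)]
          group
        have h2' : g * t * g⁻¹ * z = z * (g * t * g⁻¹) := (hzc _ (hgT t ht)).symm
        rcases hgzcase with e | e <;> rw [e] at h1
        · exact h1
        · have := (show Commute (g * t * g⁻¹) (u * z) from h1).mul_right (show Commute (g * t * g⁻¹) z from h2')
          rw [show u * z * z = u by rw [mul_assoc, hz2, mul_one]] at this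
          exact this
      -- an element moving the three involutions cyclically
      obtain ⟨k, hkT, hku, hkz, hkuz⟩ : ∃ k : G, (∀ t ∈ T, k * t * k⁻¹ ∈ T) ∧
          ((k * u * k⁻¹ = z ∧ k * z * k⁻¹ = u * z) ∨ (k * u * k⁻¹ = u * z ∧ k * z * k⁻¹ = u)) ∧ True ∧ True := by
        rcases hgzcase with e | e
        · refine ⟨g * s, fun t ht => ?_, Or.inr ⟨?_, ?_⟩, trivial, trivial⟩
          · rw [show g * s * t * (g * s)⁻¹ = g * (s * t * s⁻¹) * g⁻¹ by group]
            exact hgnorm _ (hTnorm s hsS t ht)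
          · rw [show g * s * u * (g * s)⁻¹ = g * (s * u * s⁻¹) * g⁻¹ by group, hsu,
              show g * (u * z) * g⁻¹ = (g * u * g⁻¹) * (g * z * g⁻¹) by group, hgu, e, hzc u huS]
          · rw [show g * s * z * (g * s)⁻¹ = g * (s * z * s⁻¹) * g⁻¹ by group, ← hzc s hsS,
              mul_inv_cancel_right, e]
        · exact ⟨g, hgnorm, Or.inl ⟨hgu, e⟩, trivial, trivial⟩
      let fk : T →* T :=
        { toFun := fun t => ⟨k * t * k⁻¹, hkT t t.2⟩
          map_one' := Subtype.ext (by simp)
          map_mul' := fun x y => Subtype.ext (by push_cast; group) }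
      have hfk : Function.Bijective fk := Finite.injective_iff_bijective.1 (fun x y e => by
        have := congrArg Subtype.val e
        exact Subtype.ext (by simpa [fk] using this))
      let φ : MulAut T := MulEquiv.ofBijective fk hfk
      have hTp : IsPGroup 2 T := hSp.to_le hTS
      have h2T : Cfsg.PRankLE 2 2 T := by
        intro B hB hB2
        haveI := hB
        rw [Nat.card_congr (B.equivMapOfInjective _ (Subgroup.subtype_injective _)).toEquiv]
        refine h2 _ inferInstance ?_
        rintro _ ⟨b, hb, rfl⟩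
        rw [← map_pow, hB2 b hb, map_one]
      have hinvT : ∀ t : T, orderOf t = 2 → t = ⟨u, huT⟩ ∨ t = ⟨z, hzT⟩ ∨ t = ⟨u * z, T.mul_mem huT hzT⟩ := by
        intro t ht
        rw [← Subgroup.orderOf_coe] at ht
        rcases hTinv t t.2 (by have h := pow_orderOf_eq_one (t : G); rwa [ht, pow_two] at h) with e | e | e | e
        · rw [e, orderOf_one] at ht; omega
        · exact Or.inl (Subtype.ext e)
        · exact Or.inr (Or.inl (Subtype.ext e))
        · exact Or.inr (Or.inr (Subtype.ext e))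
      have htrans : ∀ x y : T, orderOf x = 2 → orderOf y = 2 → ∃ j : ℕ, (φ ^ j) x = y := by
        intro x y hx hy
        have hφmul : φ (⟨u * z, T.mul_mem huT hzT⟩ : T) = φ ⟨u, huT⟩ * φ ⟨z, hzT⟩ := by
          rw [← map_mul]; rfl
        rcases hku with ⟨e1, e2⟩ | ⟨e1, e2⟩
        · have f1 : φ ⟨u, huT⟩ = ⟨z, hzT⟩ := Subtype.ext e1
          have f2 : φ ⟨z, hzT⟩ = ⟨u * z, T.mul_mem huT hzT⟩ := Subtype.ext e2
          have f3 : φ ⟨u * z, T.mul_mem huT hzT⟩ = ⟨u, huT⟩ := by
            rw [hφmul, f1, f2]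
            exact Subtype.ext (by show z * (u * z) = u; rw [← mul_assoc, hzc u huS, mul_assoc, hz2, mul_one])
          rcases hinvT x hx with rfl | rfl | rfl <;> rcases hinvT y hy with rfl | rfl | rfl
          exacts [⟨0, rfl⟩, ⟨1, f1⟩, ⟨2, (congrArg φ f1).trans f2⟩, ⟨2, (congrArg φ f2).trans f3⟩, ⟨0, rfl⟩, ⟨1, f2⟩,
            ⟨1, f3⟩, ⟨2, (congrArg φ f3).trans f1⟩, ⟨0, rfl⟩]
        · have f1 : φ ⟨u, huT⟩ = ⟨u * z, T.mul_mem huT hzT⟩ := Subtype.ext e1
          have f2 : φ ⟨z, hzT⟩ = ⟨u, huT⟩ := Subtype.ext e2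
          have f3 : φ ⟨u * z, T.mul_mem huT hzT⟩ = ⟨z, hzT⟩ := by
            rw [hφmul, f1, f2]
            exact Subtype.ext (by show u * z * u = z; rw [mul_assoc, hzc u huS, ← mul_assoc, ha2, one_mul])
          rcases hinvT x hx with rfl | rfl | rfl <;> rcases hinvT y hy with rfl | rfl | rfl
          exacts [⟨0, rfl⟩, ⟨2, (congrArg φ f1).trans f3⟩, ⟨1, f1⟩, ⟨1, f2⟩, ⟨0, rfl⟩, ⟨2, (congrArg φ f2).trans f1⟩,
            ⟨2, (congrArg φ f3).trans f2⟩, ⟨1, f3⟩, ⟨0, rfl⟩]
      have h1T : ¬ Cfsg.PRankLE 2 1 T := by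
        intro h
        let B : Subgroup T :=
          { carrier := {x | x * x = 1}
            one_mem' := one_mul 1
            mul_mem' := fun {x y} hx hy => by
              have hxy : x * y = y * x := by
                have hc : ∀ x : T, x * x = 1 → ∀ t : T, (x : G) * t = t * x := by
                  intro x hx t
                  rcases hTinv x x.2 (congrArg Subtype.val hx) with e | e | e | e <;> rw [e]
                  · rw [one_mul, mul_one]
                  · exact ((hmemT t).1 t.2).2.symm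
                  · exact hzc t (hTS t.2)
                  · exact ((show Commute u (t : G) from ((hmemT t).1 t.2).2.symm).mul_left (hzc t (hTS t.2))).eq
                exact Subtype.ext (hc x hx y)
              show x * y * (x * y) = 1
              rw [show x * y * (x * y) = x * (y * x) * y by group, ← hxy,
                show x * (x * y) * y = (x * x) * (y * y) by group, hx, hy, one_mul]
            inv_mem' := fun {x} hx => by
              show x⁻¹ * x⁻¹ = 1
              rw [← mul_inv_rev, hx, inv_one] }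
        have hBc : IsMulCommutative B := ⟨⟨fun x y => Subtype.ext (by
          have hxy := B.mul_mem x.2 y.2
          calc (x.1 : T) * y.1 = (x.1 * y.1)⁻¹ := (inv_eq_of_mul_eq_one_left hxy).symm
            _ = y.1⁻¹ * x.1⁻¹ := mul_inv_rev _ _
            _ = y.1 * x.1 := by rw [inv_eq_of_mul_eq_one_left y.2, inv_eq_of_mul_eq_one_left x.2])⟩⟩
        have hcard := h B hBc (fun x hx => by rw [pow_two]; exact hx)
        haveI := Fintype.ofFinite B
        rw [Nat.card_eq_fintype_card] at hcard
        have h3 : 2 < Fintype.card B := Fintype.two_lt_card_iff.2 ⟨1, ⟨⟨u, huT⟩, Subtype.ext ha2⟩,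
          ⟨⟨z, hzT⟩, Subtype.ext hz2⟩, fun e => ha1 (congrArg (fun b : B => ((b : T) : G)) e).symm,
          fun e => hz1 (congrArg (fun b : B => ((b : T) : G)) e).symm,
          fun e => haz (congrArg (fun b : B => ((b : T) : G)) e)⟩
        omega
      let T' : Subgroup ↥(S : Subgroup G) := T.subgroupOf (S : Subgroup G)
      let eT : T' ≃* T := subgroupOfEquivOfLe hTS
      rcases Cfsg.Agent.S1237.result hTp h2T h1T φ htrans hF P with ⟨m, hm, ⟨e⟩⟩ | hP
      · rcases eq_or_lt_of_le hm with rfl | hm'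
        · exfalso
          apply hc₀
          have : (⟨c₀, hc₀T⟩ : T) * ⟨c₀, hc₀T⟩ = 1 := e.injective (by
            rw [map_mul, map_one]
            apply Multiplicative.toAdd.injective
            rw [toAdd_mul, toAdd_one]
            generalize Multiplicative.toAdd (e ⟨c₀, hc₀T⟩) = q
            exact two_torsion q)
          exact congrArg Subtype.val this
        · refine Or.inr (Or.inr (Or.inl ?_))
          exact Cfsg.Lib.RankTwoFusion.wreathed T' (fun x y hx hy => hTtwo x x.2 y y.2 hx hy) hm' (eT.trans e)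
            (s := ⟨s, hsS⟩) hsT (fun x hx => hTnorm s hsS x hx) (u := ⟨u, huS⟩) huT (Subtype.ext ha2)
            (fun h => huz (hsu.symm.trans (congrArg Subtype.val h)))
      · exfalso
        obtain ⟨e⟩ := hP
        obtain ⟨c⟩ := Cfsg.Lib.U3Even.nonempty_coords_psu (F := F) (n := 2) (by norm_num) (by rw [hF]; norm_num) P
        obtain ⟨ρ', W, H', hno'⟩ := Cfsg.Lib.TwoFour.hyp64_psu hF c
        let ρ : T ≃* T := (e.trans ρ').trans e.symm
        let V : Subgroup T := W.comap e.toMonoidHom
        have hVW : ∀ x, x ∈ V ↔ e x ∈ W := fun x => Iff.rfl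
        have H : Cfsg.Lib.TwoFour.Hyp64 ρ V := by
          refine ⟨⟨fun x => ?_, fun x hx => ?_⟩, ⟨?_, fun v hv => ?_, fun v hv x => ?_, fun v hv => ?_⟩, ?_,
            fun x => ?_, ?_⟩
          · simp [ρ, H'.fpf.cube]
          · have := congrArg e hx
            simp [ρ] at this
            exact e.injective ((H'.fpf.fix _ this).trans (map_one e).symm)
          · rw [← H'.four.card]
            exact Nat.card_congr ((e.toEquiv.subtypeEquiv fun x => Iff.rfl))
          · exact e.injective (by rw [map_mul, map_one, H'.four.sq _ ((hVW v).1 hv)])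
          · exact e.injective (by rw [map_mul, map_mul, H'.four.central _ ((hVW v).1 hv)])
          · rw [hVW]; simpa [ρ] using H'.four.inv _ hv
          · rw [Nat.card_congr e.toEquiv]; exact H'.card
          · rw [hVW, map_mul]; exact H'.sq_mem _
          · obtain ⟨x, y, hxy⟩ := H'.nonab
            refine ⟨e.symm x, e.symm y, fun h => hxy ?_⟩
            simpa using congrArg e h
        have hno : ¬ ∃ x, x ∉ V ∧ x * x = 1 := fun ⟨x, hx, hx2⟩ =>
          hno' ⟨e x, hx, by rw [← map_mul, hx2, map_one]⟩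
        let fs : T →* T :=
          { toFun := fun t => ⟨s * t * s⁻¹, hTnorm s hsS t t.2⟩
            map_one' := Subtype.ext (by simp)
            map_mul' := fun x y => Subtype.ext (by push_cast; group) }
        have hfs : Function.Bijective fs := Finite.injective_iff_bijective.1 (fun x y e => by
          have := congrArg Subtype.val e
          exact Subtype.ext (by simpa [fs] using this))
        have hmem : ∀ x : T, x * x = 1 → x ∈ V := fun x hx => by
          by_contra hV; exact hno ⟨x, hV, hx⟩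
        refine Cfsg.Lib.RankTwoFusion.no_twist H hno (MulEquiv.ofBijective fs hfs) (u := ⟨u, huT⟩) (z := ⟨z, hzT⟩)
          (hmem _ (Subtype.ext ha2)) (fun h => ha1 (congrArg Subtype.val h))
          (hmem _ (Subtype.ext hz2)) (fun h => hz1 (congrArg Subtype.val h))
          (fun h => haz (congrArg Subtype.val h)) (Subtype.ext hsu) (Subtype.ext ?_) (fun t => ?_)
        · show s * z * s⁻¹ = z
          rw [← hzc s hsS, mul_inv_cancel_right]
        · let r : T := ⟨s * s, hsq s hsS⟩
          have e1 : (fs (fs t))⁻¹ * t = r * t⁻¹ * r⁻¹ * t⁻¹⁻¹ := by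
            apply Subtype.ext
            show (s * (s * t * s⁻¹) * s⁻¹)⁻¹ * (t : G) = s * s * (t : G)⁻¹ * (s * s)⁻¹ * (t : G)⁻¹⁻¹
            simp [mul_assoc]
          show (fs (fs t))⁻¹ * t ∈ V
          rw [e1]
          exact H.comm_mem r t⁻¹

end Cfsg.Agent.S1238
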