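import Cfsg.Statements.S0516
import Cfsg.Agent.S1238
import Cfsg.Agent.S0949
import Cfsg.Agent.S0205
import Cfsg.Agent.Lib.Invol.Isolated
import Cfsg.Agent.S0215

set_option autoImplicit false
open Cfsg

namespace Cfsg.Agent.S0516

/-- In a non-abelian finite simple group of 2-rank at most 2, a Sylow 2-subgroup is dihedral (of order at least 4),
quasi-dihedral, wreathed, or isomorphic to a Sylow 2-subgroup of the projective special unitary group of dimension 3
over the field with 16 elements. -/
theorem result {G : Type*} [Group G] [Finite G] [IsSimpleGroup G]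
    (hG : ¬ IsMulCommutative G) (h2 : Cfsg.PRankLE 2 2 G) (S : Sylow 2 G) {F : Type*} [Field F] [Fintype F]
    (hF : Fintype.card F = 16) (P : Sylow 2 (Cfsg.PSU 3 F 4)) :
    (∃ n : ℕ, 2 ≤ n ∧ Nonempty ((S : Subgroup G) ≃* DihedralGroup n)) ∨ Cfsg.IsQuasiDihedral (S : Subgroup G) ∨
      Cfsg.IsWreathed (S : Subgroup G) ∨ Nonempty ((S : Subgroup G) ≃* (P : Subgroup (Cfsg.PSU 3 F 4))) := by
  classical
  haveI : Fact (Nat.Prime 2) := ⟨Nat.prime_two⟩
  -- a normal subgroup is trivial or everything
  have hnorm : ∀ N : Subgroup G, N.Normal → N = ⊥ ∨ N = ⊤ := fun N hN => hN.eq_bot_or_eq_top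
  have heven : ¬ Odd (Nat.card G) := by
    intro hodd
    haveI := Cfsg.Agent.S0205.result hodd
    exact hG ⟨⟨IsSimpleGroup.comm_iff_isSolvable.2 inferInstance⟩⟩
  have hcore : Cfsg.oddCore G = ⊥ := by
    refine (hnorm _ inferInstance).resolve_right fun htop => heven ?_
    have h := Cfsg.Lib.ZStar.odd_card_oddCore (G := G)
    rwa [htop, Subgroup.card_top] at h
  have hiso : ∀ z : G, ¬ Cfsg.IsIsolatedInvolution z := by
    intro z hz
    have hc : z ∈ Subgroup.center G := Subgroup.mem_center_iff.2 fun g =>
      (Cfsg.Lib.ZStar.commute_of_oddCore_bot hcore (Cfsg.Lib.ZStar.zStarHolds G z hz g)).symm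
    rcases hnorm (Subgroup.center G) inferInstance with h | h
    · rw [h, Subgroup.mem_bot] at hc
      have h1 := hz.1
      rw [hc, orderOf_one] at h1
      omega
    · exact hG ⟨⟨fun a b => Subgroup.mem_center_iff.1 (h ▸ Subgroup.mem_top b) a⟩⟩
  have hidx : ∀ H : Subgroup G, H.index ≠ 2 := by
    intro H hH
    haveI := Subgroup.normal_of_index_eq_two hH
    rcases hnorm H inferInstance with h | h
    · rw [h, Subgroup.index_bot] at hH
      haveI : IsCyclic G := isCyclic_of_prime_card hH
      exact hG inferInstance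
    · rw [h, Subgroup.index_top] at hH
      omega
  have hSp : IsPGroup 2 (S : Subgroup G) := S.isPGroup'
  have hSne : Nontrivial (S : Subgroup G) := by
    rw [Subgroup.nontrivial_iff_ne_bot]
    refine S.ne_bot_of_dvd_card ?_
    rcases Nat.even_or_odd (Nat.card G) with h | h
    · exact even_iff_two_dvd.1 h
    · exact absurd h heven
  have h1 : ¬ Cfsg.PRankLE 2 1 G := by
    intro hr
    haveI := hSp.center_nontrivial
    obtain ⟨z, hz⟩ : ∃ z : Subgroup.center (S : Subgroup G), orderOf z = 2 := by
      refine exists_prime_orderOf_dvd_card' 2 ?_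
      obtain ⟨k, hk⟩ := (hSp.to_subgroup (Subgroup.center (S : Subgroup G))).exists_card_eq
      rcases k with _ | k
      · rw [pow_zero] at hk
        exact absurd hk Finite.one_lt_card.ne'
      · exact hk ▸ Dvd.intro_left _ (pow_succ 2 k).symm
    set u : G := ((z : (S : Subgroup G)) : G) with hu
    have hu2 : orderOf u = 2 := by rw [hu, Subgroup.orderOf_coe, Subgroup.orderOf_coe, hz]
    have huniq : ∀ a ∈ (S : Subgroup G), orderOf a = 2 → a = u := by
      intro a ha ha2
      by_contra hne
      have hcomm : Commute a u := congrArg Subtype.val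
        (Subgroup.mem_center_iff.1 z.2 ⟨a, ha⟩)
      have hsq : ∀ x ∈ ({a, u} : Set G), x ^ 2 = 1 := by
        rintro x (rfl | rfl)
        · exact ha2 ▸ pow_orderOf_eq_one _
        · exact hu2 ▸ pow_orderOf_eq_one _
      have hA : IsMulCommutative (Subgroup.closure ({a, u} : Set G)) :=
        Subgroup.isMulCommutative_closure (by
          rintro x (rfl | rfl) y (rfl | rfl)
          · rfl
          · exact hcomm.eq
          · exact hcomm.eq.symm
          · rfl)
      have hexp : ∀ x ∈ Subgroup.closure ({a, u} : Set G), x ^ 2 = 1 := by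
        intro x hx
        induction hx using Subgroup.closure_induction with
        | mem x hx => exact hsq x hx
        | one => exact one_pow 2
        | mul x y hx hy ihx ihy =>
          have hc : Commute x y := congrArg Subtype.val
            (hA.is_comm.comm (⟨x, hx⟩ : Subgroup.closure ({a, u} : Set G)) ⟨y, hy⟩)
          rw [hc.mul_pow, ihx, ihy, one_mul]
        | inv x hx ihx => rw [inv_pow, ihx, inv_one]
      have hle := hr _ hA hexp
      have h3 : ({1, a, u} : Finset G).card ≤ Nat.card (Subgroup.closure ({a, u} : Set G)) := by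
        rw [← SetLike.coe_sort_coe, Nat.card_coe_set_eq, ← Set.ncard_coe_finset]
        refine Set.ncard_le_ncard ?_ (Set.toFinite _)
        intro x hx
        simp only [Finset.coe_insert, Finset.coe_singleton] at hx
        rcases hx with rfl | rfl | rfl
        · exact one_mem _
        · exact Subgroup.subset_closure (Set.mem_insert _ _)
        · exact Subgroup.subset_closure (Set.mem_insert_of_mem _ rfl)
      have hcard : ({1, a, u} : Finset G).card = 3 := Finset.card_eq_three.2
        ⟨1, a, u, fun e => by simp [← e] at ha2, fun e => by simp [← e] at hu2, hne, rfl⟩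
      omega
    refine hiso u (Cfsg.Lib.Invol.isolated_of_sylow S hu2 fun g hg => huniq _ hg ?_)
    rw [Cfsg.Lib.Invol.orderOf_conj_eq, hu2]
  rcases Cfsg.Agent.S1238.result h2 h1 hidx hiso S hF P with h | h | h | ⟨n, hn, ⟨e⟩⟩ | h
  · exact Or.inl h
  · exact Or.inr (Or.inl h)
  · exact Or.inr (Or.inr (Or.inl h))
  · exfalso
    have hO : ∀ N : Subgroup G, N.Normal → Odd (Nat.card N) → N = ⊥ := fun N hN hodd =>
      (hnorm N hN).resolve_right fun htop => heven (by rwa [htop, Subgroup.card_top] at hodd)
    rcases hnorm _ (Cfsg.Agent.S0949.result S n hn e hO).1 with h | h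
    · exact (Subgroup.nontrivial_iff_ne_bot _).1 hSne h
    · refine hG ⟨⟨fun a b => ?_⟩⟩
      have hmem : ∀ x : G, x ∈ (S : Subgroup G) := fun x => h ▸ Subgroup.mem_top x
      exact congrArg Subtype.val (show (⟨a, hmem a⟩ : (S : Subgroup G)) * ⟨b, hmem b⟩ = ⟨b, hmem b⟩ * ⟨a, hmem a⟩ from
        e.injective (by rw [map_mul, map_mul, mul_comm]))
  · exact Or.inr (Or.inr (Or.inr h))

end Cfsg.Agent.S0516
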