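import Cfsg.Statements.S1248
import Cfsg.Agent.Lib.U34.Unitary
-- import your own Cfsg.Agent.* helpers here

set_option autoImplicit false
open Cfsg

namespace Cfsg.Agent.S1248


open Subgroup
open Matrix (mul_apply)
open scoped commutatorElement

section Matrices

variable {F : Type*} [Field F]

/-- Basis change to an isotropic frame. -/
def hB (a : F) : Matrix (Fin 3) (Fin 3) F := !![1, 0, a; 1, 0, a + 1; 0, 1, 0]

/-- Its inverse in characteristic two. -/
def hI (a : F) : Matrix (Fin 3) (Fin 3) F := !![a + 1, a, 0; 0, 0, 1; 1, 1, 0]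

/-- The unitriangular matrices. -/
def dM (y b : F) : Matrix (Fin 3) (Fin 3) F := !![1, y ^ 4, b; 0, 1, y; 0, 0, 1]

/-- The unitriangular element in the standard frame. -/
def uM (a y b : F) : Matrix (Fin 3) (Fin 3) F := hB a * dM y b * hI a

variable (h2 : (2 : F) = 0)
include h2

theorem hI_hB (a : F) : hI a * hB a = 1 := by
  ext i j
  fin_cases i <;> fin_cases j <;> simp [hI, hB, mul_apply, Fin.sum_univ_succ] <;>
    first
      | ring1
      | linear_combination a * h2
      | linear_combination (a + a ^ 2) * h2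
      | linear_combination h2

theorem hB_hI (a : F) : hB a * hI a = 1 := mul_eq_one_comm.mp (hI_hB h2 a)

theorem uM_mul (a y b y' b' : F) :
    uM a y b * uM a y' b' = uM a (y + y') (b + b' + y ^ 4 * y') := by
  have h : dM y b * dM y' b' = dM (y + y') (b + b' + y ^ 4 * y') := by
    have e4 : (y + y') ^ 4 = y ^ 4 + y' ^ 4 := by
      linear_combination (2 * y ^ 3 * y' + 3 * y ^ 2 * y' ^ 2 + 2 * y * y' ^ 3) * h2
    ext i j
    fin_cases i <;> fin_cases j <;> simp [dM, mul_apply, Fin.sum_univ_succ, e4] <;> ring1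
  calc uM a y b * uM a y' b' = hB a * (dM y b * (hI a * hB a) * dM y' b') * hI a := by
        simp only [uM, Matrix.mul_assoc]
    _ = _ := by rw [hI_hB h2, Matrix.mul_one, h]; rfl

theorem uM_zero (a : F) : uM a 0 0 = 1 := by
  have h : dM (0 : F) 0 = 1 := by
    ext i j; fin_cases i <;> fin_cases j <;> simp [dM]
  rw [uM, h, Matrix.mul_one, hB_hI h2]

theorem uM_inj {a y b y' b' : F} (h : uM a y b = uM a y' b') : y = y' ∧ b = b' := by
  have := congrArg (fun M => hI a * M * hB a) h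
  simp only [uM, ← Matrix.mul_assoc] at this
  rw [hI_hB h2, Matrix.one_mul, Matrix.one_mul, Matrix.mul_assoc, hI_hB h2, Matrix.mul_one,
    Matrix.mul_assoc, hI_hB h2, Matrix.mul_one] at this
  exact ⟨by simpa [dM] using congrFun (congrFun this 1) 2, by simpa [dM] using congrFun (congrFun this 0) 2⟩

theorem det_uM (a y b : F) : (uM a y b).det = 1 := by
  rw [uM, Matrix.det_mul, Matrix.det_mul, mul_right_comm, ← Matrix.det_mul, hB_hI h2, Matrix.det_one, one_mul,
    Matrix.det_fin_three]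
  simp [dM]

end Matrices

section Field

variable {F : Type*} [Field F] [Fintype F] (hF : Fintype.card F = 16)
include hF

theorem pow16 (x : F) : x ^ 16 = x := hF ▸ FiniteField.pow_card x

theorem add_four (x y : F) : (x + y) ^ 4 = x ^ 4 + y ^ 4 := by
  linear_combination (2 * x ^ 3 * y + 3 * x ^ 2 * y ^ 2 + 2 * x * y ^ 3) * Cfsg.Lib.U34.two_eq_zero hF

/-- The subfield with four elements. -/
theorem card_fix : Nat.card {x : F // x ^ 4 = x} = 4 := by
  classical
  have h1 : (insert 0 ((Finset.univ : Finset Fˣ).filter (fun u => u ^ 3 = 1) |>.image Units.val) : Finset F) =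
      Finset.univ.filter (fun x : F => x ^ 4 = x) := by
    ext x
    simp only [Finset.mem_insert, Finset.mem_image, Finset.mem_filter, Finset.mem_univ, true_and]
    constructor
    · rintro (rfl | ⟨u, hu, rfl⟩)
      · simp
      · rw [pow_succ, ← Units.val_pow_eq_pow_val, hu, Units.val_one, one_mul]
    · intro hx
      rcases eq_or_ne x 0 with h | h
      · exact Or.inl h
      · refine Or.inr ⟨Units.mk0 x h, Units.ext ?_, rfl⟩
        rw [Units.val_pow_eq_pow_val, Units.val_mk0, Units.val_one]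
        exact mul_right_cancel₀ h (by rw [← pow_succ, one_mul]; exact hx)
  have h3 : ((Finset.univ : Finset Fˣ).filter (fun u => u ^ 3 = 1)).card = 3 := by
    have h := IsCyclic.card_powMonoidHom_ker (G := Fˣ) 3
    rw [Nat.card_units, Nat.card_eq_fintype_card (α := F), hF] at h
    have hf : Nat.card (powMonoidHom 3 : Fˣ →* Fˣ).ker = ((Finset.univ : Finset Fˣ).filter (fun u => u ^ 3 = 1)).card := by
      rw [← Fintype.card_subtype, ← Nat.card_eq_fintype_card]
      rfl
    rw [← hf, h]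
    rfl
  rw [Nat.card_eq_fintype_card, Fintype.card_subtype, ← h1, Finset.card_insert_of_notMem (by simp),
    Finset.card_image_of_injective _ Units.val_injective, h3]

/-- The trace to the subfield. -/
theorem exists_trace_eq (c : F) (hc : c ^ 4 = c) : ∃ x : F, x ^ 4 + x = c := by
  classical
  let f : F →+ F := AddMonoidHom.mk' (fun x => x ^ 4 + x) fun x y => by rw [add_four hF]; abel
  have hle : ∀ x, f x ^ 4 = f x := fun x => by
    show (x ^ 4 + x) ^ 4 = x ^ 4 + x
    rw [add_four hF, ← pow_mul, pow16 hF, add_comm]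
  have hker : Nat.card f.ker = 4 := by
    rw [← card_fix hF]
    refine Nat.card_congr (Equiv.subtypeEquivRight fun x => ?_)
    have h2 := Cfsg.Lib.U34.two_eq_zero hF
    rw [AddMonoidHom.mem_ker]
    show x ^ 4 + x = 0 ↔ _
    exact ⟨fun h => by linear_combination h - x * h2, fun h => by linear_combination h + x * h2⟩
  have hr : Nat.card f.range = 4 := by
    have h := f.ker.card_mul_index
    rw [AddSubgroup.index_ker, hker, Nat.card_eq_fintype_card (α := F), hF] at h
    omega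
  let g : f.range → {x : F // x ^ 4 = x} := fun x => ⟨x.1, by obtain ⟨z, hz⟩ := x.2; rw [← hz]; exact hle z⟩
  have hg : Function.Surjective g := by
    apply (Fintype.bijective_iff_injective_and_card g).mpr ⟨?_, ?_⟩ |>.2
    · intro x y h; exact Subtype.ext (congrArg (fun z : {x : F // x ^ 4 = x} => z.1) h)
    · rw [← Nat.card_eq_fintype_card, ← Nat.card_eq_fintype_card, hr, card_fix hF]
  obtain ⟨⟨_, z, rfl⟩, hz⟩ := hg ⟨c, hc⟩
  exact ⟨z, congrArg Subtype.val hz⟩

theorem card_fibre (c : F) (hc : c ^ 4 = c) : Nat.card {x : F // x ^ 4 + x = c} = 4 := by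
  obtain ⟨x₀, hx₀⟩ := exists_trace_eq hF c hc
  have h2 := Cfsg.Lib.U34.two_eq_zero hF
  refine (Nat.card_congr ((Equiv.addRight x₀).subtypeEquiv fun x => ?_)).trans (card_fix hF)
  show _ ↔ (x + x₀) ^ 4 = x + x₀
  rw [add_four hF]
  exact ⟨fun h => by linear_combination h + hx₀ + (c - x - x₀) * h2,
    fun h => by linear_combination h - hx₀ + (x + x₀ - c) * h2⟩

end Field

section Group

variable {F : Type*} [Field F] [Fintype F] (hF : Fintype.card F = 16)

/-- The parameters of the Sylow subgroup. -/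
abbrev Par (F : Type*) [Field F] : Type _ := {p : F × F // p.2 ^ 4 + p.2 = p.1 ^ 5}

include hF in
theorem par_mul (p r : Par F) :
    (p.1.2 + r.1.2 + p.1.1 ^ 4 * r.1.1) ^ 4 + (p.1.2 + r.1.2 + p.1.1 ^ 4 * r.1.1) = (p.1.1 + r.1.1) ^ 5 := by
  rw [pow_succ (p.1.1 + r.1.1) 4, add_four hF p.1.1, add_four hF, add_four hF, mul_pow, ← pow_mul, pow16 hF]
  linear_combination p.2 + r.2

include hF in
theorem exists_param {θ : F} (hθ : θ ^ 4 + θ + 1 = 0) (p : Par F) :
    ∃ g : Cfsg.SU 3 F 4, Cfsg.Lib.U34.smat g = uM θ p.1.1 p.1.2 := by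
  have h2 := Cfsg.Lib.U34.two_eq_zero hF
  have hF2 : Fintype.card F = 4 ^ 2 := hF
  obtain ⟨⟨y, b⟩, hyb⟩ := p
  simp only at hyb ⊢
  refine Cfsg.Lib.U34.exists_su hF _ (det_uM h2 θ y b) ?_
  let φ := Cfsg.Lib.Linear.Herm.frob hF2
  have hmap : ∀ M : Matrix (Fin 3) (Fin 3) F, M.map (· ^ 4) = φ.mapMatrix M := fun M => by
    ext i j; simp [φ, Cfsg.Lib.Linear.Herm.frob_apply]
  rw [hmap, uM, map_mul, map_mul, Matrix.transpose_mul, Matrix.transpose_mul]
  set J : Matrix (Fin 3) (Fin 3) F := !![0, 0, 1; 0, 1, 0; 1, 0, 0] with hJ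
  have e1 : (hB θ).transpose * φ.mapMatrix (hB θ) = J := by
    ext i j
    fin_cases i <;> fin_cases j <;>
      simp [hJ, hB, φ, Cfsg.Lib.Linear.Herm.frob_apply, mul_apply, Fin.sum_univ_succ, add_four hF] <;>
      first
        | ring1
        | linear_combination h2
        | linear_combination (θ ^ 4) * h2
        | linear_combination θ * h2
        | linear_combination (θ ^ 5) * h2 + hθ
  have e2 : (dM y b).transpose * J * φ.mapMatrix (dM y b) = J := by
    ext i j
    fin_cases i <;> fin_cases j <;>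
      simp [hJ, dM, φ, Cfsg.Lib.Linear.Herm.frob_apply, mul_apply, Fin.sum_univ_succ, ← pow_mul, pow16 hF] <;>
      first
        | ring1
        | linear_combination y * h2
        | linear_combination y ^ 4 * h2
        | linear_combination hyb + y ^ 5 * h2
  calc _ = (hI θ).transpose * ((dM y b).transpose * ((hB θ).transpose * φ.mapMatrix (hB θ)) *
        φ.mapMatrix (dM y b)) * φ.mapMatrix (hI θ) := by simp only [Matrix.mul_assoc]
    _ = (hB θ * hI θ).transpose * φ.mapMatrix (hB θ * hI θ) := by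
        rw [e1, e2, ← e1, map_mul, Matrix.transpose_mul]; simp only [Matrix.mul_assoc]
    _ = 1 := by rw [hB_hI h2, map_one, Matrix.transpose_one, Matrix.mul_one]

include hF in
theorem struct (S : Sylow 2 (Cfsg.PSU 3 F 4)) :
    ∃ (U : Subgroup (Cfsg.SU 3 F 4)) (u : Par F → U), Nonempty (U ≃* ↥(S : Subgroup (Cfsg.PSU 3 F 4))) ∧
      Function.Bijective u ∧ ∀ p r, u p * u r = u ⟨(p.1.1 + r.1.1, p.1.2 + r.1.2 + p.1.1 ^ 4 * r.1.1), par_mul hF p r⟩ := by
  classical
  haveI : Fact (Nat.Prime 2) := ⟨Nat.prime_two⟩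
  have h2 := Cfsg.Lib.U34.two_eq_zero hF
  obtain ⟨θ, hθ⟩ := Cfsg.Lib.U34.exists_theta hF
  choose g hg using exists_param hF hθ
  have hinj : Function.Injective (Cfsg.Lib.U34.smat (F := F)) := fun x y h => Subtype.ext (Subtype.ext h)
  have hmul : ∀ p r, g p * g r = g ⟨(p.1.1 + r.1.1, p.1.2 + r.1.2 + p.1.1 ^ 4 * r.1.1), par_mul hF p r⟩ := by
    intro p r
    refine hinj ?_
    rw [hg]
    show Cfsg.Lib.U34.smat (g p) * Cfsg.Lib.U34.smat (g r) = _
    rw [hg, hg, uM_mul h2]
  have hone : g ⟨(0, 0), by simp⟩ = 1 := hinj (by rw [hg, uM_zero h2]; rfl)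
  let U : Subgroup (Cfsg.SU 3 F 4) :=
    { carrier := Set.range g
      one_mem' := ⟨_, hone⟩
      mul_mem' := by rintro _ _ ⟨p, rfl⟩ ⟨r, rfl⟩; exact ⟨_, (hmul p r).symm⟩
      inv_mem' := by
        rintro _ ⟨⟨⟨y, b⟩, hp⟩, rfl⟩
        simp only at hp
        have hr : (b ^ 4) ^ 4 + b ^ 4 = y ^ 5 := by rw [← pow_mul, pow16 hF, add_comm]; exact hp
        refine ⟨⟨(y, b ^ 4), hr⟩, (inv_eq_of_mul_eq_one_right ?_).symm⟩
        rw [hmul, ← hone]
        congr 1
        refine Subtype.ext (Prod.ext ?_ ?_)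
        · show y + y = 0; linear_combination y * h2
        · show b + b ^ 4 + y ^ 4 * y = 0; linear_combination hp + y ^ 5 * h2 }
  let u : Par F → U := fun p => ⟨g p, p, rfl⟩
  have hu : Function.Bijective u := by
    refine ⟨fun p r h => ?_, fun ⟨x, p, hp⟩ => ⟨p, Subtype.ext hp⟩⟩
    have := congrArg Cfsg.Lib.U34.smat (congrArg Subtype.val h)
    simp only [u, hg] at this
    obtain ⟨e1, e2⟩ := uM_inj h2 this
    exact Subtype.ext (Prod.ext e1 e2)
  have hcardP : Nat.card (Par F) = 64 := by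
    let e : Par F ≃ Σ y : F, {b : F // b ^ 4 + b = y ^ 5} :=
      ⟨fun p => ⟨p.1.1, p.1.2, p.2⟩, fun q => ⟨(q.1, q.2.1), q.2.2⟩, fun _ => rfl, fun _ => rfl⟩
    rw [Nat.card_congr e, Nat.card_sigma, Finset.sum_congr rfl fun y _ => card_fibre hF (y ^ 5) (by
      rw [← pow_mul, show 5 * 4 = 16 + 4 from rfl, pow_add, pow16 hF, ← pow_succ'])]
    simp [hF]
  have hUcard : Nat.card U = 64 := by rw [← Nat.card_eq_of_bijective u hu, hcardP]
  let ψ := Cfsg.Lib.U34.psuEquiv hF
  have hU' : Nat.card (U.map ψ.toMonoidHom) = 2 ^ (Nat.card (Cfsg.PSU 3 F 4)).factorization 2 := by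
    rw [← Nat.card_congr (U.equivMapOfInjective ψ.toMonoidHom ψ.injective).toEquiv, hUcard, Cfsg.Lib.U34.card_PSU hF,
      show (62400 : ℕ) = 2 ^ 6 * 975 from rfl, Nat.factorization_mul (by norm_num) (by norm_num),
      Finsupp.add_apply, Nat.Prime.factorization_pow Nat.prime_two, Finsupp.single_eq_same,
      Nat.factorization_eq_zero_of_not_dvd (by norm_num)]
    norm_num
  let Q := Sylow.ofCard (U.map ψ.toMonoidHom) hU'
  obtain ⟨c, hc⟩ := MulAction.exists_smul_eq (Cfsg.PSU 3 F 4) Q S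
  exact ⟨U, u, ⟨(U.equivMapOfInjective _ ψ.injective).trans ((Q.equivSMul c).trans (MulEquiv.subgroupCongr (by rw [hc])))⟩,
    hu, fun p r => Subtype.ext (hmul p r)⟩

include hF in
theorem props (S : Sylow 2 (Cfsg.PSU 3 F 4)) :
    Nat.card S = 64 ∧ IsKleinFour (Subgroup.center (S : Subgroup (Cfsg.PSU 3 F 4))) ∧
    Subgroup.center (S : Subgroup (Cfsg.PSU 3 F 4)) = Subgroup.closure {x : (S : Subgroup (Cfsg.PSU 3 F 4)) | orderOf x = 2} ∧
    Subgroup.center (S : Subgroup (Cfsg.PSU 3 F 4)) = commutator (S : Subgroup (Cfsg.PSU 3 F 4)) ∧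
    Nat.card ((S : Subgroup (Cfsg.PSU 3 F 4)) ⧸ Subgroup.center (S : Subgroup (Cfsg.PSU 3 F 4))) = 16 ∧
    ∀ x : (S : Subgroup (Cfsg.PSU 3 F 4)) ⧸ Subgroup.center (S : Subgroup (Cfsg.PSU 3 F 4)), x ^ 2 = 1 := by
  classical
  haveI : Fact (Nat.Prime 2) := ⟨Nat.prime_two⟩
  have h2 := Cfsg.Lib.U34.two_eq_zero hF
  obtain ⟨U, u, ⟨e⟩, hu, hmulU⟩ := struct hF S
  set v : Par F → ↥(S : Subgroup (Cfsg.PSU 3 F 4)) := fun p => e (u p) with hv
  have hvb : Function.Bijective v := e.bijective.comp hu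
  have hmul : ∀ p r, v p * v r = v ⟨(p.1.1 + r.1.1, p.1.2 + r.1.2 + p.1.1 ^ 4 * r.1.1), par_mul hF p r⟩ := fun p r => by
    simp only [hv, ← map_mul, hmulU]
  have hext : ∀ p r : Par F, p.1.1 = r.1.1 → p.1.2 = r.1.2 → v p = v r := fun p r h1 h3 =>
    congrArg v (Subtype.ext (Prod.ext h1 h3))
  have hone : v ⟨(0, 0), by simp⟩ = 1 := by
    have h := hmul ⟨(0, 0), by simp⟩ ⟨(0, 0), by simp⟩
    have h' : v ⟨(0, 0), by simp⟩ * v ⟨(0, 0), by simp⟩ = v ⟨(0, 0), by simp⟩ :=
      h.trans (hext _ _ (by simp) (by simp))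
    exact mul_eq_left.mp h'
  have hfix : ∀ b : F, b ^ 4 = b → b ^ 4 + b = (0 : F) ^ 5 := fun b hb => by
    rw [hb, zero_pow (by norm_num)]; linear_combination b * h2
  have hZ : ∀ p, v p ∈ center ↥(S : Subgroup (Cfsg.PSU 3 F 4)) ↔ p.1.1 = 0 := by
    intro p
    rw [mem_center_iff]
    refine ⟨fun h => ?_, fun h x => ?_⟩
    · have key : ∀ y : F, p.1.1 ^ 4 * y = y ^ 4 * p.1.1 := by
        intro y
        obtain ⟨b, hb⟩ := exists_trace_eq hF (y ^ 5) (by
          rw [← pow_mul, show 5 * 4 = 16 + 4 from rfl, pow_add, pow16 hF, ← pow_succ'])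
        have h' := h (v ⟨(y, b), hb⟩)
        rw [hmul, hmul] at h'
        have h'' : b + p.1.2 + y ^ 4 * p.1.1 = p.1.2 + b + p.1.1 ^ 4 * y :=
          congrArg (fun r : Par F => r.1.2) (hvb.1 h')
        linear_combination -h''
      by_contra h0
      have h1 : p.1.1 ^ 4 = p.1.1 := by simpa using key 1
      have h3 : ∀ y : F, y ^ 4 = y := fun y => by
        have := key y
        rw [h1, mul_comm (y ^ 4)] at this
        exact (mul_left_cancel₀ h0 this).symm
      have hc := card_fix hF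
      rw [Nat.card_congr (Equiv.subtypeUnivEquiv h3), Nat.card_eq_fintype_card, hF] at hc
      omega
    · obtain ⟨r, rfl⟩ := hvb.2 x
      rw [hmul, hmul]
      exact hext _ _ (by simp [h]) (by simp [h, add_comm])
  have hZcard : Nat.card (center ↥(S : Subgroup (Cfsg.PSU 3 F 4))) = 4 := by
    refine (Nat.card_eq_of_bijective (fun b : {x : F // x ^ 4 = x} =>
      (⟨v ⟨(0, b.1), hfix b.1 b.2⟩, (hZ _).mpr rfl⟩ : center ↥(S : Subgroup (Cfsg.PSU 3 F 4)))) ⟨?_, ?_⟩).symm.trans (card_fix hF)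
    · intro a b h
      exact Subtype.ext (congrArg (fun r : Par F => r.1.2) (hvb.1 (congrArg Subtype.val h)))
    · rintro ⟨x, hx⟩
      obtain ⟨p, rfl⟩ := hvb.2 x
      have h0 := (hZ p).mp hx
      have hb : p.1.2 ^ 4 = p.1.2 := by
        have := p.2
        rw [h0] at this
        linear_combination this - p.1.2 * h2
      exact ⟨⟨p.1.2, hb⟩, Subtype.ext (hext _ _ h0.symm rfl)⟩
  have hsq : ∀ x : ↥(S : Subgroup (Cfsg.PSU 3 F 4)), x ^ 2 ∈ center ↥(S : Subgroup (Cfsg.PSU 3 F 4)) := by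
    intro x
    obtain ⟨p, rfl⟩ := hvb.2 x
    rw [sq, hmul, hZ]
    show p.1.1 + p.1.1 = 0
    linear_combination p.1.1 * h2
  have hinv : ∀ x : ↥(S : Subgroup (Cfsg.PSU 3 F 4)), x ^ 2 = 1 ↔ x ∈ center ↥(S : Subgroup (Cfsg.PSU 3 F 4)) := by
    intro x
    obtain ⟨p, rfl⟩ := hvb.2 x
    rw [sq, hmul, hZ, ← hone]
    refine ⟨fun h => ?_, fun h => hext _ _ ?_ ?_⟩
    · have h' : p.1.2 + p.1.2 + p.1.1 ^ 4 * p.1.1 = 0 := congrArg (fun r : Par F => r.1.2) (hvb.1 h)
      have h5 : p.1.1 ^ 5 = 0 := by linear_combination h' - p.1.2 * h2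
      exact eq_zero_of_pow_eq_zero h5
    · show p.1.1 + p.1.1 = 0; linear_combination p.1.1 * h2
    · show p.1.2 + p.1.2 + p.1.1 ^ 4 * p.1.1 = 0
      rw [h]; linear_combination p.1.2 * h2
  have hS64 : Nat.card S = 64 := by
    rw [S.card_eq_multiplicity, Cfsg.Lib.U34.card_PSU hF,
      show (62400 : ℕ) = 2 ^ 6 * 975 from rfl, Nat.factorization_mul (by norm_num) (by norm_num),
      Finsupp.add_apply, Nat.Prime.factorization_pow Nat.prime_two, Finsupp.single_eq_same,
      Nat.factorization_eq_zero_of_not_dvd (by norm_num)]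
    norm_num
  have hexp : ∀ x : center ↥(S : Subgroup (Cfsg.PSU 3 F 4)), x ^ 2 = 1 := fun x => Subtype.ext ((hinv _).mpr x.2)
  have hq16 : Nat.card ((S : Subgroup (Cfsg.PSU 3 F 4)) ⧸ Subgroup.center (S : Subgroup (Cfsg.PSU 3 F 4))) = 16 := by
    have h := Subgroup.card_eq_card_quotient_mul_card_subgroup (Subgroup.center ↥(S : Subgroup (Cfsg.PSU 3 F 4)))
    rw [hZcard, hS64] at h
    omega
  have hq : ∀ x : (S : Subgroup (Cfsg.PSU 3 F 4)) ⧸ Subgroup.center (S : Subgroup (Cfsg.PSU 3 F 4)), x ^ 2 = 1 := by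
    intro x
    obtain ⟨x, rfl⟩ := QuotientGroup.mk_surjective x
    rw [← QuotientGroup.mk_pow, QuotientGroup.eq_one_iff]
    exact hsq x
  refine ⟨hS64, ⟨hZcard, ?_⟩, ?_, ?_, hq16, hq⟩
  · haveI : Nontrivial (center ↥(S : Subgroup (Cfsg.PSU 3 F 4))) := by
      rw [← Finite.one_lt_card_iff_nontrivial, hZcard]; norm_num
    exact (Monoid.exponent_eq_prime_iff Nat.prime_two).mpr fun g hg => orderOf_eq_prime (hexp g) hg
  · refine le_antisymm (fun x hx => ?_) ((closure_le _).mpr fun x hx => ?_)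
    · rcases eq_or_ne x 1 with rfl | h
      · exact one_mem _
      · exact subset_closure (orderOf_eq_prime ((hinv x).mpr hx) h)
    · exact (hinv x).mp (orderOf_dvd_iff_pow_eq_one.mp (dvd_of_eq hx))
  · refine le_antisymm (fun x hx => ?_) ?_
    · obtain ⟨p, rfl⟩ := hvb.2 x
      have h0 := (hZ p).mp hx
      have hb : p.1.2 ^ 4 = p.1.2 := by
        have := p.2
        rw [h0] at this
        linear_combination this - p.1.2 * h2
      obtain ⟨y, hy⟩ := exists_trace_eq hF p.1.2 hb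
      obtain ⟨b, hb1⟩ := exists_trace_eq hF ((1 : F) ^ 5) (by simp)
      obtain ⟨c, hc⟩ := exists_trace_eq hF (y ^ 5) (by
        rw [← pow_mul, show 5 * 4 = 16 + 4 from rfl, pow_add, pow16 hF, ← pow_succ'])
      set g := v ⟨(1, b), hb1⟩
      set k := v ⟨(y, c), hc⟩
      have hgk : g * k = v p * (k * g) := by
        rw [hmul, hmul, hmul]
        refine hext _ _ ?_ ?_
        · show 1 + y = p.1.1 + (y + 1)
          rw [h0]; ring
        · show b + c + 1 ^ 4 * y = p.1.2 + (c + b + y ^ 4 * 1) + p.1.1 ^ 4 * (y + 1)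
          rw [h0, ← hy]; linear_combination -(y ^ 4) * h2
      rw [_root_.commutator_def]
      have : v p = ⁅g, k⁆ := by
        rw [commutatorElement_def, hgk]; group
      rw [this]
      exact commutator_mem_commutator (mem_top _) (mem_top _)
    · rw [_root_.commutator_def, commutator_le]
      intro x _ y _
      rw [← QuotientGroup.eq_one_iff]
      show QuotientGroup.mk' _ ⁅x, y⁆ = 1
      rw [map_commutatorElement, commutatorElement_eq_one_iff_commute]
      exact Commute.of_orderOf_dvd_two (fun z => orderOf_dvd_of_pow_eq_one (hq z)) _ _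

end Group


/-- Let F be a field with 16 elements and S a Sylow 2-subgroup of PSU(3) over F (the unitary group U₃(4)). Then |S| = 64; the centre Z(S) is a Klein four-group and coincides with the subgroup generated by the involutions of S and with the derived subgroup; and every element of S ⧸ Z(S) squares to the identity, S ⧸ Z(S) having order 16. -/
theorem result {F : Type*} [Field F] [Fintype F] (hF : Fintype.card F = 16) (S : Sylow 2 (Cfsg.PSU 3 F 4)) : Nat.card S = 64 ∧ IsKleinFour (Subgroup.center (S : Subgroup (Cfsg.PSU 3 F 4))) ∧ Subgroup.center (S : Subgroup (Cfsg.PSU 3 F 4)) = Subgroup.closure {x : (S : Subgroup (Cfsg.PSU 3 F 4)) | orderOf x = 2} ∧ Subgroup.center (S : Subgroup (Cfsg.PSU 3 F 4)) = commutator (S : Subgroup (Cfsg.PSU 3 F 4)) ∧ Nat.card ((S : Subgroup (Cfsg.PSU 3 F 4)) ⧸ Subgroup.center (S : Subgroup (Cfsg.PSU 3 F 4))) = 16 ∧ ∀ x : (S : Subgroup (Cfsg.PSU 3 F 4)) ⧸ Subgroup.center (S : Subgroup (Cfsg.PSU 3 F 4)), x ^ 2 = 1 := by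
  exact props hF S

end Cfsg.Agent.S1248
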