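import Cfsg.Statements.S0942
import Cfsg.Agent.Lib.Block.SubsectionApps

set_option autoImplicit false
open Cfsg

namespace Cfsg.Agent.S0942

/-- Let u be a p-element of the finite group G, let v lie in the largest normal subgroup of C_G(u) of order prime to p, and let χ belong to the principal block (relative to a maximal ideal M of the algebraic integers containing p). Then χ (u * v) = χ u. -/
theorem result {G : Type*} [Group G] [Finite G] (p : ℕ) [Fact p.Prime] (M : Ideal Cfsg.AlgInt) (hM : Cfsg.IsPModular p M) (u : G) (hu : ∃ k : ℕ, orderOf u = p ^ k) (v : G) (hv : v ∈ Cfsg.centralizerPPrimeCore p u) (χ : Cfsg.IrrCharacter G) (hχ : χ ∈ Cfsg.principalBlock M G) : (χ : G → ℂ) (u * v) = (χ : G → ℂ) u := by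
  classical
  haveI := Fintype.ofFinite G
  set C := Subgroup.centralizer ({u} : Set G) with hC
  haveI := Fintype.ofFinite C
  have hHu : ∀ h : C, Commute u (h : G) := fun h => Subgroup.mem_centralizer_iff.1 h.2 u rfl
  obtain ⟨w, hw, rfl⟩ := hv
  have hndvd := Cfsg.Lib.Core.pPrimeCore_not_dvd p C
  have hwr : Cfsg.IsPRegular p w := fun h => hndvd (h.trans (by
    have := orderOf_dvd_natCard (⟨w, hw⟩ : Cfsg.pPrimeCore p C)
    rwa [Subgroup.orderOf_mk] at this))
  have h1r : Cfsg.IsPRegular p (1 : C) := by simp [Cfsg.IsPRegular, hM.1.ne_one]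
  have hB := Cfsg.Lib.Block.isPBlock_principal (M := M) (G := G)
  have key : ∀ y : C, Cfsg.IsPRegular p y → (χ : G → ℂ) (u * (y : G)) =
      Cfsg.blockPart (Cfsg.principalBlock M C) (Cfsg.Lib.Block.secFn u C (χ : G → ℂ)) y := by
    intro y hy
    have h := Cfsg.Lib.Block.blockPart_indSet hM hu hHu le_rfl hB χ hy
    rw [Cfsg.Lib.Block.indSet_principal hM hu hHu le_rfl, if_pos hχ] at h
    exact h.symm
  have e := key 1 h1r
  rw [Subgroup.coe_one, mul_one] at e
  rw [Subgroup.coe_subtype, key w hwr, e]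
  refine finsum_mem_congr rfl fun η hη => ?_
  rw [Cfsg.Lib.Block.principal_trivial_on hM hndvd hη w hw]

end Cfsg.Agent.S0942
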