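import Cfsg.Statements.S4230

set_option autoImplicit false
set_option linter.style.haveILetI false
open Cfsg

namespace Cfsg.Agent.S4230

/-- Let p be an odd prime, q a natural number not divisible by p, and e the multiplicative order of q modulo p. For a natural number f, p divides the value at q of the f-th cyclotomic polynomial if and only if f = e·p^j for some j ≥ 0. -/
theorem result (p q f : ℕ) (hp : p.Prime) (hp2 : p ≠ 2) (hpq : ¬ p ∣ q) :
    ((p : ℤ) ∣ (Polynomial.cyclotomic f ℤ).eval (q : ℤ)) ↔ ∃ j : ℕ, f = orderOf (q : ZMod p) * p ^ j := by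
  haveI := Fact.mk hp
  have hq0 : (q : ZMod p) ≠ 0 := fun h => hpq ((ZMod.natCast_eq_zero_iff _ _).mp h)
  set e := orderOf (q : ZMod p) with he
  have hed : e ∣ p - 1 := ZMod.orderOf_dvd_card_sub_one hq0
  have hp2' := hp.two_le
  have hpe : ¬ p ∣ e := fun h => by
    have := Nat.le_of_dvd (by omega) (h.trans hed)
    omega
  have hroot : ((p : ℤ) ∣ (Polynomial.cyclotomic f ℤ).eval (q : ℤ)) ↔
      (Polynomial.cyclotomic f (ZMod p)).IsRoot (q : ZMod p) := by
    have h := Polynomial.eval_intCast_map (Int.castRingHom (ZMod p)) (Polynomial.cyclotomic f ℤ) (q : ℤ)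
    rw [Polynomial.map_cyclotomic_int, Int.cast_natCast, eq_intCast] at h
    rw [Polynomial.IsRoot, h, ZMod.intCast_zmod_eq_zero_iff_dvd]; simp
  rcases Nat.eq_zero_or_pos f with rfl | hf
  · rw [hroot]
    have he0 : 0 < e := Nat.pos_of_ne_zero fun h => hpe (h ▸ dvd_zero p)
    refine ⟨fun h => ?_, fun ⟨j, hj⟩ => ?_⟩
    · simp [Polynomial.cyclotomic_zero] at h
    · have : 0 < e * p ^ j := by positivity
      omega
  obtain ⟨k, m, hm, rfl⟩ := Nat.exists_eq_pow_mul_and_not_dvd hf.ne' p hp.ne_one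
  haveI : NeZero (m : ZMod p) := ⟨fun h => hm ((ZMod.natCast_eq_zero_iff _ _).mp h)⟩
  rw [hroot, Polynomial.isRoot_cyclotomic_prime_pow_mul_iff_of_charP]
  constructor
  · intro h
    exact ⟨k, by rw [he, ← h.eq_orderOf, mul_comm]⟩
  · rintro ⟨j, hj⟩
    have hme : m = e := by
      refine Nat.dvd_antisymm ?_ ?_
      · exact (((hp.coprime_iff_not_dvd.mpr hm).symm).pow_right j).dvd_of_dvd_mul_right (hj ▸ dvd_mul_left m _)
      · exact (((hp.coprime_iff_not_dvd.mpr hpe).symm).pow_right k).dvd_of_dvd_mul_left (hj.symm ▸ dvd_mul_right e _)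
    rw [hme]
    exact IsPrimitiveRoot.orderOf _

end Cfsg.Agent.S4230
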