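import Cfsg.Statements.S2904
import Cfsg.Agent.S4230
import Mathlib.NumberTheory.Multiplicity
import Mathlib.RingTheory.Polynomial.Cyclotomic.Eval
import Mathlib.RingTheory.Polynomial.Cyclotomic.Expand
-- import your own Cfsg.Agent.* helpers here

set_option autoImplicit false
open Cfsg

namespace Cfsg.Agent.S2904

/-- Zsigmondy's Theorem: for natural numbers a > 1 and n > 1 there is a prime dividing aⁿ − 1 that divides aᵏ − 1 for no natural number 0 < k < n, unless a = 2 and n = 6, or n = 2 and a + 1 is a power of two. -/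
theorem result (a n : ℕ) (ha : 1 < a) (hn : 1 < n) (h6 : ¬ (a = 2 ∧ n = 6)) (h2 : ¬ (n = 2 ∧ ∃ m : ℕ, a + 1 = 2 ^ m)) : ∃ r : ℕ, r.Prime ∧ r ∣ a ^ n - 1 ∧ ∀ k : ℕ, 0 < k → k < n → ¬ r ∣ a ^ k - 1 := by
  classical
  open Polynomial in
  by_contra hnone
  push Not at hnone
  set C : ℕ → ℤ → ℤ := fun m x => (Polynomial.cyclotomic m ℤ).eval x with hC
  have hcast : ∀ (m : ℕ) (q : ℕ), ((C m (q : ℤ) : ℤ) : ℝ) = (Polynomial.cyclotomic m ℝ).eval (q : ℝ) := by
    intro m q
    rw [← Polynomial.map_cyclotomic_int m ℝ, ← Int.cast_natCast (R := ℝ),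
      Polynomial.eval_intCast_map, eq_intCast]
    rfl
  have hlo : ∀ (m q : ℕ), 1 < q → ((q : ℤ) - 1) ^ m.totient ≤ C m q := by
    intro m q hq
    have h := Polynomial.sub_one_pow_totient_le_cyclotomic_eval (q := (q : ℝ)) (by exact_mod_cast hq) m
    rw [← hcast] at h
    exact_mod_cast h
  have hhi : ∀ (m q : ℕ), 1 < q → C m q ≤ ((q : ℤ) + 1) ^ m.totient := by
    intro m q hq
    have h := Polynomial.cyclotomic_eval_le_add_one_pow_totient (q := (q : ℝ)) (by exact_mod_cast hq) m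
    rw [← hcast] at h
    exact_mod_cast h
  by_cases hn2 : n = 2
  · subst hn2
    have hne : ¬ ∃ m : ℕ, a + 1 = 2 ^ m := fun h => h2 ⟨rfl, h⟩
    obtain ⟨r, hr, hra, hr2⟩ : ∃ r : ℕ, r.Prime ∧ r ∣ a + 1 ∧ r ≠ 2 := by
      by_contra hc
      push Not at hc
      exact hne ⟨_, Nat.eq_prime_pow_of_unique_prime_dvd (by omega) fun {d} hd hda => hc d hd hda⟩
    have hfac : a ^ 2 - 1 = (a + 1) * (a - 1) := by
      rw [show (1 : ℕ) = 1 ^ 2 from rfl, Nat.sq_sub_sq, one_pow]
    obtain ⟨k, hk0, hk2, hk⟩ := hnone r hr (hfac ▸ hra.mul_right _)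
    obtain rfl : k = 1 := by omega
    rw [pow_one] at hk
    have h3 : r ∣ (a + 1) - (a - 1) := Nat.dvd_sub hra hk
    rw [show (a + 1) - (a - 1) = 2 by omega] at h3
    exact hr2 ((Nat.prime_dvd_prime_iff_eq hr Nat.prime_two).1 h3)
  have hn3 : 3 ≤ n := by omega
  have hΦdvd : C n a ∣ (a : ℤ) ^ n - 1 := by
    simpa [hC] using Polynomial.eval_dvd (x := (a : ℤ)) (Polynomial.cyclotomic.dvd_X_pow_sub_one n ℤ)
  have hΦgt : 1 < (C n a).natAbs := by
    refine lt_of_le_of_lt ?_ (Polynomial.sub_one_pow_totient_lt_natAbs_cyclotomic_eval (n := n) (q := a) hn (by omega))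
    exact Nat.one_le_pow _ _ (by omega)
  have hΦpos : 0 < C n a := lt_of_lt_of_le (pow_pos (by omega : (0 : ℤ) < (a : ℤ) - 1) _) (hlo n a ha)
  -- an odd prime divisor divides `n`
  have hkey : ∀ r : ℕ, r.Prime → r ≠ 2 → (r : ℤ) ∣ C n a →
      ∃ e j : ℕ, n = e * r ^ (j + 1) ∧ e ∣ r - 1 ∧ 0 < e := by
    intro r hr hr2 hdvd
    haveI := Fact.mk hr
    have hra : ¬ r ∣ a := by
      intro h
      have h1 : (r : ℤ) ∣ (a : ℤ) ^ n - 1 := hdvd.trans hΦdvd
      have h2 : (r : ℤ) ∣ (a : ℤ) ^ n := (Int.natCast_dvd_natCast.2 h).trans (dvd_pow_self _ (by omega))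
      have h3 := Int.dvd_sub h2 h1
      rw [sub_sub_cancel] at h3
      exact hr.one_lt.ne' (Nat.dvd_one.1 (by exact_mod_cast h3))
    obtain ⟨j, hj⟩ := (Cfsg.Agent.S4230.result r a n hr hr2 hra).1 hdvd
    have ha0 : (a : ZMod r) ≠ 0 := fun h => hra ((ZMod.natCast_eq_zero_iff _ _).1 h)
    cases j with
    | zero =>
      exfalso
      rw [pow_zero, mul_one] at hj
      have hdn : r ∣ a ^ n - 1 := by
        rw [← Int.natCast_dvd_natCast, Nat.cast_sub (Nat.one_le_pow _ _ (by omega))]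
        simpa using hdvd.trans hΦdvd
      obtain ⟨k, hk0, hkn, hk⟩ := hnone r hr hdn
      have h1 : (a : ZMod r) ^ k = 1 := by
        rw [← ZMod.natCast_eq_zero_iff, Nat.cast_sub (Nat.one_le_pow _ _ (by omega)),
          sub_eq_zero, Nat.cast_pow, Nat.cast_one] at hk
        exact hk
      have := Nat.le_of_dvd hk0 (orderOf_dvd_of_pow_eq_one h1)
      omega
    | succ j =>
      refine ⟨_, j, hj, ZMod.orderOf_dvd_card_sub_one ha0, ?_⟩
      rcases Nat.eq_zero_or_pos (orderOf (a : ZMod r)) with h | h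
      · rw [h, zero_mul] at hj; omega
      · exact h
  -- 2 only divides for two-powers
  have htwo : (2 : ℤ) ∣ C n a → ∃ k, n = 2 ^ k := by
    intro h
    obtain ⟨k, m, hm, rfl⟩ := Nat.exists_eq_two_pow_mul_odd (n := n) (by omega)
    haveI : NeZero (m : ZMod 2) := ⟨by
      rw [ne_eq, ZMod.natCast_eq_zero_iff]; exact hm.not_two_dvd_nat⟩
    have hroot : (Polynomial.cyclotomic (2 ^ k * m) (ZMod 2)).IsRoot (a : ZMod 2) := by
      rw [Polynomial.IsRoot, ← Polynomial.map_cyclotomic_int, ← Int.cast_natCast (R := ZMod 2),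
        Polynomial.eval_intCast_map, eq_intCast, ZMod.intCast_zmod_eq_zero_iff_dvd]
      exact_mod_cast h
    rw [Polynomial.isRoot_cyclotomic_prime_pow_mul_iff_of_charP] at hroot
    have h01 : ∀ x : ZMod 2, x = 0 ∨ x = 1 := by decide
    rcases h01 (a : ZMod 2) with e | e <;> rw [e] at hroot
    · have := hroot.pow_eq_one
      rw [zero_pow hm.pos.ne'] at this
      exact absurd this zero_ne_one
    · exact ⟨k, by rw [← hroot.eq_orderOf.trans orderOf_one |>.symm] at *; simp [hroot.eq_orderOf.trans orderOf_one]⟩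
  by_cases hodd : ∃ r : ℕ, r.Prime ∧ r ≠ 2 ∧ (r : ℤ) ∣ C n a
  swap
  · push Not at hodd
    have hpw : (C n a).natAbs = 2 ^ (C n a).natAbs.primeFactorsList.length :=
      Nat.eq_prime_pow_of_unique_prime_dvd (by omega) fun {d} hd hdd => by
        by_contra hd2
        exact hodd d hd hd2 (Int.natCast_dvd.2 hdd)
    set L := (C n a).natAbs.primeFactorsList.length
    have hL : L ≠ 0 := fun h => by rw [h, pow_zero] at hpw; omega
    obtain ⟨k, rfl⟩ := htwo (by
      rw [show (2 : ℤ) = ((2 : ℕ) : ℤ) from rfl, Int.natCast_dvd, hpw]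
      exact dvd_pow_self 2 hL)
    obtain ⟨k, rfl⟩ : ∃ i, k = i + 2 := by
      rcases k with _ | _ | i
      · simp at hn
      · simp at hn2
      · exact ⟨i, rfl⟩
    have hev : C (2 ^ (k + 2)) a = ((a : ℤ) ^ (2 ^ k)) ^ 2 + 1 := by
      haveI := Fact.mk Nat.prime_two
      simp only [hC, Polynomial.cyclotomic_prime_pow_eq_geom_sum Nat.prime_two, Finset.sum_range_succ,
        Finset.sum_range_zero, pow_zero, pow_one, zero_add, Polynomial.eval_add, Polynomial.eval_one,
        Polynomial.eval_pow, Polynomial.eval_X]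
      rw [pow_succ 2 k, pow_mul, add_comm]
    set b := a ^ (2 ^ k) with hb
    have hb1 : 1 < b := Nat.one_lt_pow (by positivity) ha
    have hCb : (C (2 ^ (k + 2)) a).natAbs = b ^ 2 + 1 := by
      rw [hev, ← Nat.cast_pow, ← hb]
      norm_cast
    rw [hCb] at hpw
    have hb2 : 4 ≤ b ^ 2 := by nlinarith
    have hL2 : 2 ≤ L := by
      rcases L with _ | _ | i
      · simp at hpw; omega
      · simp at hpw; omega
      · omega
    have h4 : (4 : ℕ) ∣ b ^ 2 + 1 := hpw ▸ pow_dvd_pow 2 hL2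
    have h5 : ((b ^ 2 + 1 : ℕ) : ZMod 4) = 0 := (ZMod.natCast_eq_zero_iff _ _).2 h4
    push_cast at h5
    have hall : ∀ x : ZMod 4, x ^ 2 + 1 ≠ 0 := by decide
    exact hall _ h5
  obtain ⟨r, hr, hr2, hrΦ⟩ := hodd
  obtain ⟨e, j, hne, her, he0⟩ := hkey r hr hr2 hrΦ
  haveI := Fact.mk hr
  have hr3 : 3 ≤ r := by have := hr.two_le; omega
  have her' : e < r := by have := Nat.le_of_dvd (by omega) her; omega
  have hrn : r ∣ n := hne ▸ (dvd_pow_self r j.succ_ne_zero).mul_left e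
  have honly : ∀ s : ℕ, s.Prime → (s : ℤ) ∣ C n a → s = r := by
    intro s hs hsd
    by_cases hs2 : s = 2
    · exfalso
      subst hs2
      obtain ⟨k, hk⟩ := htwo hsd
      exact hr2 ((Nat.prime_dvd_prime_iff_eq hr Nat.prime_two).1 (hr.dvd_of_dvd_pow (hk ▸ hrn)))
    by_contra hsr
    obtain ⟨e', j', hne', hes, he'0⟩ := hkey s hs hs2 hsd
    have hsn : s ∣ n := hne' ▸ (dvd_pow_self s j'.succ_ne_zero).mul_left e'
    have h1 : s ∣ e := ((hs.dvd_mul).1 (hne ▸ hsn)).resolve_right fun h =>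
      hsr ((Nat.prime_dvd_prime_iff_eq hs hr).1 (hs.dvd_of_dvd_pow h))
    have h2 : r ∣ e' := ((hr.dvd_mul).1 (hne' ▸ hrn)).resolve_right fun h =>
      hsr ((Nat.prime_dvd_prime_iff_eq hr hs).1 (hr.dvd_of_dvd_pow h)).symm
    have := Nat.le_of_dvd he0 h1
    have := Nat.le_of_dvd he'0 h2
    have := Nat.le_of_dvd (by have := hs.two_le; omega) hes
    omega
  have hsq : ¬ (r : ℤ) ^ 2 ∣ C n a := by
    intro h
    set x : ℤ := (a : ℤ) ^ (e * r ^ j) with hx
    have hd : e * r ^ j ∈ n.properDivisors := by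
      rw [Nat.mem_properDivisors]
      refine ⟨⟨r, by rw [hne, pow_succ, mul_assoc]⟩, ?_⟩
      rw [hne, pow_succ, ← mul_assoc]
      exact lt_mul_of_one_lt_right (by positivity) hr.one_lt
    have h1 := Polynomial.eval_dvd (x := (a : ℤ))
      (Polynomial.X_pow_sub_one_mul_cyclotomic_dvd_X_pow_sub_one_of_dvd ℤ hd)
    simp only [Polynomial.eval_mul, Polynomial.eval_sub, Polynomial.eval_pow, Polynomial.eval_X,
      Polynomial.eval_one] at h1
    rw [show (a : ℤ) ^ n = x ^ r by rw [hx, ← pow_mul, hne, pow_succ, mul_assoc],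
      ← geom_sum_mul x r, mul_comm _ (x - 1)] at h1
    have hx1 : x - 1 ≠ 0 := by
      have : 1 < x := one_lt_pow₀ (by exact_mod_cast ha) (by positivity)
      omega
    have h2 : C n a ∣ ∑ i ∈ Finset.range r, x ^ i := (mul_dvd_mul_iff_left hx1).1 h1
    have hxr : (r : ℤ) ∣ x - 1 := by
      have h3 : (r : ℤ) ∣ (a : ℤ) ^ n - 1 := hrΦ.trans hΦdvd
      rw [← ZMod.intCast_zmod_eq_zero_iff_dvd] at h3 ⊢
      push_cast at h3 ⊢
      rw [hx, sub_eq_zero] at *
      push_cast
      rw [show n = e * r ^ j * r by rw [hne, pow_succ, mul_assoc], pow_mul, ZMod.pow_card] at h3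
      exact h3
    obtain ⟨t, ht⟩ := hxr
    have h4 := odd_sq_dvd_geom_sum₂_sub (a := (1 : ℤ)) (b := t) (p := r) (hr.odd_of_ne_two hr2)
    rw [show (1 : ℤ) + r * t = x by rw [← ht]; ring] at h4
    simp only [one_pow, mul_one] at h4
    have h5 := Int.dvd_sub (h.trans h2) h4
    rw [sub_sub_cancel] at h5
    have h6 : r ^ 2 ∣ r := by exact_mod_cast h5
    have := Nat.le_of_dvd hr.pos h6
    nlinarith
  have hΦr : C n a = r := by
    have hpw : (C n a).natAbs = r ^ (C n a).natAbs.primeFactorsList.length :=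
      Nat.eq_prime_pow_of_unique_prime_dvd (by omega) fun {d} hd hdd =>
        honly d hd (Int.natCast_dvd.2 hdd)
    have habs : ((C n a).natAbs : ℤ) = C n a := Int.natAbs_of_nonneg hΦpos.le
    set L := (C n a).natAbs.primeFactorsList.length
    rw [hpw] at habs
    have hL1 : L = 1 := by
      rcases L with _ | _ | i
      · simp at hpw; omega
      · rfl
      · exfalso
        refine hsq (habs ▸ ?_)
        push_cast
        exact pow_dvd_pow _ (by omega)
    rw [hL1, pow_one] at habs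
    exact habs.symm
  by_cases ha3 : 3 ≤ a
  · have h1 := hlo n a ha
    rw [hΦr] at h1
    have h2 : r - 1 ≤ n.totient := by
      have : (r ^ (j + 1)).totient ∣ n.totient := Nat.totient_dvd_of_dvd (hne ▸ Dvd.intro_left e rfl)
      have h3 := Nat.le_of_dvd (Nat.totient_pos.2 (by omega)) this
      rw [Nat.totient_prime_pow hr j.succ_pos] at h3
      exact le_trans (Nat.le_mul_of_pos_left _ (by positivity)) h3
    have h3 : (2 : ℤ) ^ (r - 1) ≤ r := by
      refine le_trans ?_ h1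
      refine le_trans (pow_le_pow_right₀ (by norm_num) h2) (pow_le_pow_left₀ (by norm_num) ?_ _)
      omega
    have h4 : 2 ^ (r - 1) ≤ r := by exact_mod_cast h3
    obtain ⟨i, rfl⟩ : ∃ i, r = i + 3 := ⟨r - 3, by omega⟩
    rw [show i + 3 - 1 = i + 2 from rfl, pow_add] at h4
    have := Nat.lt_two_pow_self (n := i)
    omega
  obtain rfl : a = 2 := by omega
  have hA : 1 < (2 : ℕ) ^ r := Nat.one_lt_pow hr.pos.ne' (by norm_num)
  cases j with
  | succ i =>
    have hexp : Polynomial.expand ℤ r (Polynomial.cyclotomic (e * r ^ (i + 1)) ℤ) =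
        Polynomial.cyclotomic n ℤ := by
      rw [hne, pow_succ r (i + 1), ← mul_assoc]
      exact Polynomial.cyclotomic_expand_eq_cyclotomic hr ((dvd_pow_self r i.succ_ne_zero).mul_left e) ℤ
    have h1 : C n 2 = C (e * r ^ (i + 1)) ((2 ^ r : ℕ) : ℤ) := by
      simp only [hC]
      rw [← hexp, Polynomial.expand_eval]
      norm_num
    have h3 := hlo (e * r ^ (i + 1)) (2 ^ r) hA
    rw [← h1] at h3
    have hΦr' : C n 2 = (r : ℤ) := by exact_mod_cast hΦr
    rw [hΦr'] at h3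
    have h4 : ((2 ^ r : ℕ) : ℤ) - 1 ≤ r :=
      le_trans (le_self_pow₀ (by omega) (Nat.totient_pos.2 (by positivity)).ne') h3
    obtain ⟨i', rfl⟩ : ∃ i', r = i' + 3 := ⟨r - 3, by omega⟩
    have := Nat.lt_two_pow_self (n := i')
    have h5 : 2 ^ (i' + 3) = 8 * 2 ^ i' := by ring
    omega
  | zero =>
    rw [zero_add, pow_one] at hne
    have hre : ¬ r ∣ e := fun h => by have := Nat.le_of_dvd he0 h; omega
    have h1 : C n 2 * C e 2 = C e ((2 ^ r : ℕ) : ℤ) := by
      simp only [hC, hne]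
      rw [← Polynomial.eval_mul, ← Polynomial.cyclotomic_expand_eq_cyclotomic_mul hr hre ℤ,
        Polynomial.expand_eval]
      norm_num
    have hΦr' : C n 2 = (r : ℤ) := by exact_mod_cast hΦr
    rw [hΦr'] at h1
    have h3 := hlo e (2 ^ r) hA
    have h4 := hhi e 2 (by norm_num)
    rw [← h1] at h3
    set f := e.totient
    have hf : 1 ≤ f := Nat.totient_pos.2 he0
    have h5 : (((2 ^ r : ℕ) : ℤ) - 1) ^ f ≤ r * 3 ^ f := by
      refine h3.trans (mul_le_mul_of_nonneg_left ?_ (by positivity))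
      norm_num at h4 ⊢
      exact h4
    by_cases hr5 : 5 ≤ r
    · obtain ⟨i', rfl⟩ : ∃ i', r = i' + 5 := ⟨r - 5, by omega⟩
      have := Nat.lt_two_pow_self (n := i')
      have h6 : 2 ^ (i' + 5) = 32 * 2 ^ i' := by ring
      have h7 : 3 * ((i' + 5 : ℕ) : ℤ) < ((2 ^ (i' + 5) : ℕ) : ℤ) - 1 := by omega
      have h8 : (3 * ((i' + 5 : ℕ) : ℤ)) ^ f < (((2 ^ (i' + 5) : ℕ) : ℤ) - 1) ^ f :=
        pow_lt_pow_left₀ h7 (by positivity) (by omega)
      rw [mul_pow] at h8
      have h9 : ((i' + 5 : ℕ) : ℤ) ≤ ((i' + 5 : ℕ) : ℤ) ^ f := le_self_pow₀ (by omega) (by omega)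
      nlinarith [pow_pos (show (0 : ℤ) < 3 by norm_num) f]
    · obtain rfl : r = 3 := by
        have : r ≠ 4 := fun h => by subst h; norm_num at hr
        omega
      have he12 : e = 1 ∨ e = 2 := by
        have := Nat.le_of_dvd (by norm_num) her
        omega
      rcases he12 with rfl | rfl
      · rw [hne] at hΦr'
        norm_num [hC, Polynomial.cyclotomic_three] at hΦr'
      · exact h6 ⟨rfl, by omega⟩

end Cfsg.Agent.S2904
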