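import Cfsg.Statements.S3742
import Mathlib

set_option autoImplicit false
open Cfsg

namespace Cfsg.Agent.S3742

open QuaternionGroup

/-- The four pairs of opposite triples of generators. -/
def P (i : Fin 4) : Finset (Finset (QuaternionGroup 2)) :=
  let s : ZMod (2 * 2) := if i.1 % 2 = 0 then 0 else 2
  let t : ZMod (2 * 2) := if i.1 / 2 = 0 then 1 else 3
  {{a 1, xa s, xa t}, {a 3, xa (s + 2), xa (t + 2)}}

def idx (S : Finset (Finset (QuaternionGroup 2))) : Fin 4 :=
  if S = P 0 then 0 else if S = P 1 then 1 else if S = P 2 then 2 else 3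

/-- The map given by images of the two generators. -/
def g (u v : QuaternionGroup 2) : QuaternionGroup 2 → QuaternionGroup 2
  | a i => u ^ i.val
  | xa i => v * u ^ i.val

def Valid (u v : QuaternionGroup 2) : Prop :=
  u * u = a 2 ∧ v * v = a 2 ∧ v ≠ u ∧ v ≠ u * u * u

instance : DecidablePred fun q : QuaternionGroup 2 × QuaternionGroup 2 => Valid q.1 q.2 := fun q =>
  inferInstanceAs (Decidable (_ ∧ _ ∧ _ ∧ _))

theorem sq_eq (w : QuaternionGroup 2) (h2 : w * w * (w * w) = 1) (h1 : w * w ≠ 1) : w * w = a 2 := by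
  revert w; decide

theorem exists_gen (f : MulAut (QuaternionGroup 2)) : ∃ u v, Valid u v ∧ ⇑f = g u v := by
  refine ⟨f (a 1), f (xa 0), ⟨?_, ?_, ?_, ?_⟩, ?_⟩
  · refine sq_eq _ ?_ ?_
    · rw [← map_mul, ← map_mul, show (a 1 * a 1 * (a 1 * a 1) : QuaternionGroup 2) = 1 by decide, map_one]
    · rw [← map_mul, Ne, ← map_one f, f.injective.eq_iff]; decide
  · refine sq_eq _ ?_ ?_
    · rw [← map_mul, ← map_mul, show (xa 0 * xa 0 * (xa 0 * xa 0) : QuaternionGroup 2) = 1 by decide, map_one]
    · rw [← map_mul, Ne, ← map_one f, f.injective.eq_iff]; decide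
  · rw [Ne, f.injective.eq_iff]; decide
  · rw [← map_mul, ← map_mul, Ne, f.injective.eq_iff]; decide
  · funext z
    cases z with
    | a i =>
      show f (a i) = f (a 1) ^ i.val
      rw [← map_pow, show (a 1 : QuaternionGroup 2) ^ i.val = a i by revert i; decide]
    | xa i =>
      show f (xa i) = f (xa 0) * f (a 1) ^ i.val
      rw [← map_pow, ← map_mul, show xa 0 * (a 1 : QuaternionGroup 2) ^ i.val = xa i by revert i; decide]

def act (φ : QuaternionGroup 2 → QuaternionGroup 2) (i : Fin 4) : Finset (Finset (QuaternionGroup 2)) :=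
  (P i).image fun S => S.image φ

theorem idx_P : ∀ i, idx (P i) = i := by decide +kernel

theorem act_valid : ∀ u v, Valid u v → ∀ i, act (g u v) i = P (idx (act (g u v) i)) := by
  unfold Valid
  decide +kernel

theorem act_inj : ∀ u v, Valid u v → (∀ i, act (g u v) i = P i) → u = a 1 ∧ v = xa 0 := by
  unfold Valid
  decide +kernel

theorem act_surj : ∀ σ : Equiv.Perm (Fin 4), ∃ u v, Valid u v ∧ ∀ i, idx (act (g u v) i) = σ i := by
  unfold Valid
  decide +kernel

theorem act_f (f : MulAut (QuaternionGroup 2)) (i : Fin 4) : act f i = P (idx (act f i)) := by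
  obtain ⟨u, v, h, e⟩ := exists_gen f
  rw [e]
  exact act_valid u v h i

theorem act_comp (f f' : MulAut (QuaternionGroup 2)) (i : Fin 4) :
    idx (act (⇑(f * f')) i) = idx (act f (idx (act f' i))) := by
  have h : act (⇑(f * f')) i = (act f' i).image fun S => S.image f := by
    unfold act
    rw [Finset.image_image]
    congr 1
    funext S
    simp only [Function.comp_apply, Finset.image_image]
    rfl
  rw [h, act_f f' i, idx_P]
  rfl

theorem act_one (i : Fin 4) : idx (act (⇑(1 : MulAut (QuaternionGroup 2))) i) = i := by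
  have : act (⇑(1 : MulAut (QuaternionGroup 2))) i = P i := by
    unfold act
    simp
  rw [this, idx_P]

def toPerm : MulAut (QuaternionGroup 2) →* Equiv.Perm (Fin 4) where
  toFun f := ⟨fun i => idx (act f i), fun i => idx (act (⇑(f⁻¹)) i),
    fun i => by simp only; rw [← act_comp, inv_mul_cancel, act_one], fun i => by simp only; rw [← act_comp, mul_inv_cancel, act_one]⟩
  map_one' := by
    refine Equiv.ext fun i => ?_
    simp only [Equiv.coe_fn_mk, Equiv.Perm.one_apply]
    exact act_one i
  map_mul' f f' := by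
    refine Equiv.ext fun i => ?_
    simp only [Equiv.coe_fn_mk, Equiv.Perm.mul_apply]
    exact act_comp f f' i

theorem inj : Function.Injective toPerm := by
  rw [injective_iff_map_eq_one]
  intro f hf
  obtain ⟨u, v, h, e⟩ := exists_gen f
  have hP : ∀ i, act (g u v) i = P i := fun i => by
    rw [act_valid u v h i, ← e]
    exact congrArg P (Equiv.ext_iff.1 hf i)
  obtain ⟨rfl, rfl⟩ := act_inj u v h hP
  refine MulEquiv.ext fun z => ?_
  rw [e]
  cases z with
  | a i => show a 1 ^ i.val = a i; revert i; decide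
  | xa i => show xa 0 * a 1 ^ i.val = xa i; revert i; decide

theorem g_bij : ∀ u v, Valid u v → (∀ x y, g u v (x * y) = g u v x * g u v y) ∧ Function.Injective (g u v) := by
  unfold Valid Function.Injective
  decide +kernel

theorem surj : Function.Surjective toPerm := by
  intro σ
  obtain ⟨u, v, h, hi⟩ := act_surj σ
  obtain ⟨hm, hinj⟩ := g_bij u v h
  refine ⟨MulEquiv.ofBijective (MonoidHom.mk' (g u v) hm) ((Finite.injective_iff_bijective).1 hinj), Equiv.ext fun i => ?_⟩
  exact hi i


/-- The automorphism group of the quaternion group of order 8 is isomorphic to the symmetric group of degree 4. -/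
theorem result : Nonempty (MulAut (QuaternionGroup 2) ≃* Equiv.Perm (Fin 4)) := by
  classical
  exact ⟨MulEquiv.ofBijective Cfsg.Agent.S3742.toPerm ⟨Cfsg.Agent.S3742.inj, Cfsg.Agent.S3742.surj⟩⟩

end Cfsg.Agent.S3742
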