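import Cfsg.Statements.S0727
import Cfsg.Agent.Lib.Perm.SharpThreeOdd

set_option autoImplicit false
open Cfsg

namespace Cfsg.Agent.S0727

/-- A sharply triply transitive permutation group of degree `2^f + 1` is isomorphic to the projective general linear group of degree 2 over the field with `2^f` elements. -/
theorem result {α : Type*} [Fintype α] [DecidableEq α] {f : ℕ} (hf : 1 ≤ f) (hα : Fintype.card α = 2 ^ f + 1) (G : Subgroup (Equiv.Perm α)) (h3 : MulAction.IsMultiplyPretransitive G α 3) (hsharp : ∀ x : Fin 3 ↪ α, MulAction.stabilizer G x = ⊥) : ∃ (F : Type) (_ : Field F) (_ : Fintype F), Fintype.card F = 2 ^ f ∧ Nonempty (G ≃* Matrix.ProjGenLinGroup (Fin 2) F) := by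
  classical
  have hodd : Odd (Fintype.card α) := ⟨2 ^ (f - 1), by
    rw [hα]; congr 1; rw [← pow_succ']; congr 1; omega⟩
  have hs : ∀ g : G, ∀ a b c : α, a ≠ b → a ≠ c → b ≠ c → g • a = a → g • b = b → g • c = c → g = 1 := by
    intro g a b c hab hac hbc ha hb hc
    let x : Fin 3 ↪ α := ⟨![a, b, c], by
      intro i j h
      fin_cases i <;> fin_cases j <;> first | rfl | exact absurd h hab | exact absurd h hac | exact absurd h hbc | exact absurd h hab.symm | exact absurd h hac.symm | exact absurd h hbc.symm⟩
    have hm : g ∈ MulAction.stabilizer G x := MulAction.mem_stabilizer_iff.mpr (Function.Embedding.ext fun i => by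
      fin_cases i <;> simpa [x] using ‹_›)
    rw [hsharp x, Subgroup.mem_bot] at hm
    exact hm
  obtain ⟨k, hk, hc, F, iF, iFt, hF, e⟩ := Cfsg.Agent.Lib.Perm.SharpThree.recognition G hodd
    (by rw [hα]; have := Nat.one_le_two_pow (n := f); have := Nat.pow_le_pow_right (show 0 < 2 by norm_num) hf; omega) h3 hs
  exact ⟨F, iF, iFt, by rw [hF]; omega, e⟩

end Cfsg.Agent.S0727
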