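import Cfsg.Statements.S1011
import Cfsg.Agent.Lib.Small.SimpleOrder
import Cfsg.Agent.Lib.Small.CentralizerD8
import Cfsg.Agent.Lib.Fusion.Abelian
import Cfsg.Agent.Lib.ZStar.Main
import Cfsg.Agent.Lib.TwoGroup.Models
import Cfsg.Agent.Lib.Dickson.PSLTwo
import Cfsg.Agent.Lib.Spec.SLTwo
import Cfsg.Agent.Lib.Linear.SLBasic
import Cfsg.Agent.S0727
-- import your own Cfsg.Agent.* helpers here

set_option autoImplicit false
open Cfsg

namespace Cfsg.Agent.S1011

open Subgroup
open scoped commutatorElement

variable {G : Type*} [Group G] [Finite G] [IsSimpleGroup G]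

/-- A nonabelian group of order eight with two involutions is dihedral. -/
theorem dihedral_of_card_eight {D : Type*} [Group D] [Finite D] (h8 : Nat.card D = 8)
    (hna : ¬ IsMulCommutative D) {z w : D} (hz : orderOf z = 2) (hw : orderOf w = 2) (hzw : z ≠ w) :
    Nonempty (D ≃* DihedralGroup 4) := by
  have hord : ∀ x : D, orderOf x = 1 ∨ orderOf x = 2 ∨ orderOf x = 4 := by
    intro x
    obtain ⟨j, hj, hje⟩ := (Nat.dvd_prime_pow Nat.prime_two).mp (show orderOf x ∣ 2 ^ 3 by
      rw [show (2 : ℕ) ^ 3 = Nat.card D by rw [h8]; norm_num]; exact orderOf_dvd_natCard x)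
    interval_cases j
    · exact Or.inl hje
    · exact Or.inr (Or.inl hje)
    · exact Or.inr (Or.inr hje)
    · exfalso
      haveI := isCyclic_of_orderOf_eq_card x (by rw [hje, h8]; norm_num)
      exact hna ⟨⟨fun a b => (IsCyclic.commutative (α := D)).is_comm.comm a b⟩⟩
  obtain ⟨r, hr⟩ : ∃ r : D, orderOf r = 4 := by
    by_contra hh
    push Not at hh
    have h2 : ∀ x : D, x * x = 1 := fun x => by
      rcases hord x with h | h | h
      · rw [orderOf_eq_one_iff.mp h, one_mul]
      · rw [← pow_two, ← h]; exact pow_orderOf_eq_one x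
      · exact absurd h (hh x)
    refine hna ⟨⟨fun a b => ?_⟩⟩
    have i : ∀ x : D, x⁻¹ = x := fun x => inv_eq_of_mul_eq_one_right (h2 x)
    calc a * b = (a * b)⁻¹ := (i _).symm
      _ = b * a := by rw [mul_inv_rev, i, i]
  set H := zpowers r with hH
  have hHc : Nat.card H = 4 := by rw [hH, Nat.card_zpowers, hr]
  obtain ⟨s, hs, hsH⟩ : ∃ s : D, orderOf s = 2 ∧ s ∉ H := by
    by_contra hh
    push Not at hh
    have key : ∀ x : D, orderOf x = 2 → x = r ^ 2 := by
      intro x hx
      obtain ⟨i, hi⟩ := mem_powers_iff_mem_zpowers.mpr (hh x hx)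
      simp only at hi
      rw [← hi, pow_mod_orderOf r i |>.symm, hr]
      have h4 : i % 4 < 4 := Nat.mod_lt _ (by norm_num)
      have hxi : orderOf (r ^ (i % 4)) = 2 := by
        have : r ^ (i % 4) = x := by rw [← hi, ← hr, pow_mod_orderOf]
        rw [this, hx]
      interval_cases i % 4
      · rw [pow_zero, orderOf_one] at hxi; norm_num at hxi
      · rw [pow_one, hr] at hxi; norm_num at hxi
      · rfl
      · rw [orderOf_pow' r (by norm_num), hr] at hxi; norm_num at hxi
    exact hzw ((key z hz).trans (key w hw).symm)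
  have hidx : H.index = 2 := by
    have := H.index_mul_card; rw [hHc, h8] at this; omega
  have hn : H.Normal := Subgroup.normal_of_index_eq_two hidx
  have hs2 : s * s = 1 := by rw [← pow_two, ← hs]; exact pow_orderOf_eq_one s
  have htop : closure ({r, s} : Set D) = ⊤ := by
    have hle : H ≤ closure ({r, s} : Set D) := zpowers_le.mpr (subset_closure (Or.inl rfl))
    rw [← Subgroup.index_eq_one]
    rcases (Nat.dvd_prime Nat.prime_two).mp (hidx ▸ Subgroup.index_dvd_of_le hle) with h | h
    · exact h
    · exfalso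
      have hrel := Subgroup.relIndex_mul_index hle
      rw [hidx, h] at hrel
      have : H.relIndex (closure ({r, s} : Set D)) = 1 := by omega
      exact hsH (Subgroup.relIndex_eq_one.mp this (subset_closure (Or.inr rfl)))
  have hinv : s * r * s⁻¹ = r⁻¹ := by
    obtain ⟨i, hi⟩ := mem_powers_iff_mem_zpowers.mpr (hn.conj_mem r (mem_zpowers r) s)
    simp only at hi
    have hi' : r ^ (i % 4) = s * r * s⁻¹ := by rw [← hr, pow_mod_orderOf]; exact hi
    have ho : orderOf (r ^ (i % 4)) = 4 := by
      rw [hi', show s * r * s⁻¹ = MulAut.conj s r from rfl, MulEquiv.orderOf_eq, hr]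
    have h4 : i % 4 < 4 := Nat.mod_lt _ (by norm_num)
    interval_cases hk : i % 4
    · rw [pow_zero, orderOf_one] at ho; norm_num at ho
    · exfalso
      rw [pow_one] at hi'
      have hc : Commute s r := mul_inv_eq_iff_eq_mul.mp hi'.symm
      have hcm : IsMulCommutative (closure ({r, s} : Set D)) := Subgroup.isMulCommutative_closure (by
        rintro a (rfl | rfl) b (rfl | rfl) <;> first | rfl | exact hc | exact hc.symm)
      rw [htop] at hcm
      exact hna ⟨⟨fun a b => congrArg Subtype.val (hcm.is_comm.comm ⟨a, mem_top a⟩ ⟨b, mem_top b⟩)⟩⟩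
    · rw [orderOf_pow' r (by norm_num), hr] at ho; norm_num at ho
    · rw [← hi']; exact eq_inv_of_mul_eq_one_left (by rw [← pow_succ]; exact orderOf_dvd_iff_pow_eq_one.mp (by rw [hr]))
  obtain ⟨e⟩ := Cfsg.Lib.TwoGroup.equiv_dihedral hs2 hinv hsH
  refine ⟨?_⟩
  rw [hr, htop] at e
  exact Subgroup.topEquiv.symm.trans e

theorem index_ge (h : Nat.card G = 504) {H : Subgroup G} (hH : H ≠ ⊤) : 8 ≤ H.index := by
  by_contra hlt
  push Not at hlt
  by_cases h7 : H.index = 7
  · haveI : Finite (G ⧸ H) := inferInstance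
    let e : (G ⧸ H) ≃ Fin 7 := Finite.equivFinOfCardEq h7
    let φ : G →* Equiv.Perm (Fin 7) := e.permCongrHom.toMonoidHom.comp (MulAction.toPermHom G (G ⧸ H))
    have hφ : φ.ker = ⊥ := by
      refine (φ.normal_ker.eq_bot_or_eq_top).resolve_right fun ht => hH ?_
      rw [eq_top_iff, ← ht]
      intro g hg
      have h1 : MulAction.toPermHom G (G ⧸ H) g = 1 := e.permCongrHom.injective (by rw [map_one]; exact hg)
      exact Subgroup.normalCore_le H (by rw [Subgroup.normalCore_eq_ker]; exact h1)
    let σ : G →* ℤˣ := Equiv.Perm.sign.comp φ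
    have hσ : σ.ker = ⊤ := by
      refine (σ.normal_ker.eq_bot_or_eq_top).resolve_left fun hb => ?_
      have := Nat.card_le_card_of_injective σ ((MonoidHom.ker_eq_bot_iff σ).mp hb)
      rw [h, Nat.card_eq_fintype_card, Fintype.card_units_int] at this
      omega
    let ψ : G →* alternatingGroup (Fin 7) := φ.codRestrict _ fun g => by
      rw [Equiv.Perm.mem_alternatingGroup]
      exact (show g ∈ σ.ker from hσ ▸ mem_top g)
    have hψ : Function.Injective ψ := fun a b hab => (MonoidHom.ker_eq_bot_iff φ).mp hφ (congrArg Subtype.val hab)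
    haveI : IsSimpleGroup (alternatingGroup (Fin 7)) := alternatingGroup.isSimpleGroup (by simp)
    have hc : Nat.card ψ.range = 504 := by rw [← Nat.card_congr (MonoidHom.ofInjective hψ).toEquiv, h]
    have hA : Nat.card (alternatingGroup (Fin 7)) = 2520 := by
      rw [nat_card_alternatingGroup, Nat.card_fin]; decide
    have hi : ψ.range.index = 5 := by
      have := ψ.range.index_mul_card
      rw [hc, hA] at this; omega
    have hne : ψ.range ≠ ⊤ := fun ht => by rw [ht, Subgroup.index_top] at hi; norm_num at hi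
    have := Cfsg.Lib.Small.card_dvd_factorial hne
    rw [hA, hi] at this
    norm_num [Nat.factorial] at this
  · have := Cfsg.Lib.Small.index_dvd_factorial_le hH (b := 6) (by omega)
    rw [h] at this
    norm_num [Nat.factorial] at this

theorem card_le (h : Nat.card G = 504) {H : Subgroup G} (hH : H ≠ ⊤) : Nat.card H ≤ 63 := by
  have h1 := index_ge h hH
  have h2 := H.index_mul_card
  rw [h] at h2
  nlinarith

theorem perm_eight {y : Equiv.Perm (Fin 8)} (hy : orderOf y = 21) : False := by
  have h1 : y.cycleType.lcm = 21 := by rw [Equiv.Perm.lcm_cycleType, hy]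
  have h2 : y.cycleType.sum ≤ 8 := by
    rw [Equiv.Perm.sum_cycleType]
    exact (Finset.card_le_univ _).trans (by simp)
  have h7 : ∃ m ∈ y.cycleType, 7 ∣ m := by
    by_contra hh
    push Not at hh
    have : y.cycleType.lcm ∣ 3 := by
      refine Multiset.lcm_dvd.mpr fun m hm => ?_
      have hd : m ∣ 21 := h1 ▸ Multiset.dvd_lcm hm
      have := Nat.divisors_subset_of_dvd (by norm_num) hd (Nat.mem_divisors_self m (by rintro rfl; norm_num at hd))
      have := hh m hm
      have hle := Nat.le_of_dvd (by norm_num) hd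
      interval_cases m <;> first | (norm_num at hd; done) | (norm_num; done) | (exfalso; exact this (by norm_num))
    rw [h1] at this; norm_num at this
  have h3 : ∃ m ∈ y.cycleType, 3 ∣ m := by
    by_contra hh
    push Not at hh
    have : y.cycleType.lcm ∣ 7 := by
      refine Multiset.lcm_dvd.mpr fun m hm => ?_
      have hd : m ∣ 21 := h1 ▸ Multiset.dvd_lcm hm
      have := hh m hm
      have hle := Nat.le_of_dvd (by norm_num) hd
      interval_cases m <;> first | (norm_num at hd; done) | (norm_num; done) | (exfalso; exact this (by norm_num))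
    rw [h1] at this; norm_num at this
  obtain ⟨a, ha, a7⟩ := h7
  obtain ⟨b, hb, b3⟩ := h3
  have ha2 := Equiv.Perm.two_le_of_mem_cycleType ha
  have hb2 := Equiv.Perm.two_le_of_mem_cycleType hb
  have hale := Multiset.le_sum_of_mem ha
  by_cases hab : a = b
  · subst hab
    have := Nat.le_of_dvd (by omega) (Nat.Coprime.mul_dvd_of_dvd_of_dvd (by norm_num : Nat.Coprime 7 3) a7 b3)
    omega
  · obtain ⟨M, hM⟩ := Multiset.exists_cons_of_mem ha
    rw [hM] at hb h2
    have hbM : b ∈ M := (Multiset.mem_cons.mp hb).resolve_left (fun e => hab e.symm)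
    rw [Multiset.sum_cons] at h2
    have := Multiset.le_sum_of_mem hbM
    have := Nat.le_of_dvd (by omega) a7
    have := Nat.le_of_dvd (by omega) b3
    omega

theorem not_cyclic (h : Nat.card G = 504) : ¬ IsCyclic G :=
  Cfsg.Lib.Small.not_isCyclic_of_card (by rw [h]; norm_num)

/-- The normalizers of the Sylow `7`-subgroups are dihedral of order fourteen. -/
theorem seven_facts (h : Nat.card G = 504) (x : G) (hx : orderOf x = 7) :
    Nat.card (centralizer ({x} : Set G)) = 7 := by
  haveI : Fact (Nat.Prime 7) := ⟨by norm_num⟩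
  have hnc := not_cyclic h
  obtain ⟨hd, hm⟩ := Cfsg.Lib.Small.sylow_facts (G := G) (p := 7) 1 72 (by rw [h]; norm_num) (by norm_num)
  have hP : ∀ P : Sylow 7 G, Nat.card (P : Subgroup G) = 7 := fun P => by
    rw [Cfsg.Lib.Small.card_sylow 1 72 (by rw [h]; norm_num) (by norm_num) P, pow_one]
  obtain ⟨P, hPx⟩ := Cfsg.Lib.Small.exists_sylow_eq_zpowers hP hx
  have hmul := Cfsg.Lib.Small.card_normalizer_mul P
  rw [h] at hmul
  set N := Subgroup.normalizer ((P : Subgroup G) : Set G) with hN
  set C := Subgroup.centralizer ((P : Subgroup G) : Set G) with hC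
  have hCN : C ≤ N := Subgroup.centralizer_le_normalizer _
  have hrel : C.relIndex N ∣ 6 := Cfsg.Lib.Small.relIndex_centralizer_dvd (P : Subgroup G) (hP P)
  have hrel1 : C.relIndex N ≠ 1 := fun e =>
    Cfsg.Lib.Small.not_normalizer_le_centralizer hnc P (fun e' => by
      have := hP P; rw [e', Subgroup.card_bot] at this; norm_num at this) (Subgroup.relIndex_eq_one.mp e)
  have hcardN : Nat.card C * C.relIndex N = Nat.card N := by
    have := Subgroup.relIndex_mul_relIndex (⊥ : Subgroup G) C N bot_le hCN
    rwa [Subgroup.relIndex_bot_left, Subgroup.relIndex_bot_left] at this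
  have hCx : Nat.card (centralizer ({x} : Set G)) = Nat.card C := by
    rw [hC, hPx, Cfsg.Lib.Small.centralizer_zpowers]
  have h7C : 7 ∣ Nat.card C := by
    rw [← hCx, ← hx]
    exact Subgroup.orderOf_dvd_natCard _ (Subgroup.mem_centralizer_singleton_iff.mpr rfl)
  set n := Nat.card (Sylow 7 G) with hn
  have hn36 : n = 36 := by
    have hcases : n = 1 ∨ n = 8 ∨ n = 36 := by
      have hle := Nat.le_of_dvd (by norm_num) hd
      interval_cases n <;> first | (norm_num at hd; done) | (norm_num at hm; done) | norm_num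
    rcases hcases with e | e | e
    · exfalso
      rw [e, one_mul] at hmul
      have htop : N = ⊤ := Subgroup.eq_top_of_card_eq N (by rw [hmul, h])
      haveI : (P : Subgroup G).Normal := Subgroup.normalizer_eq_top_iff.mp htop
      rcases Subgroup.Normal.eq_bot_or_eq_top (inferInstance : (P : Subgroup G).Normal) with e' | e' <;>
        have := hP P <;> rw [e'] at this <;> simp [h] at this
    · exfalso
      rw [e] at hmul
      have hNc : Nat.card N = 63 := by omega
      have hidx : N.index = 8 := by
        have := N.index_mul_card; rw [hNc, h] at this; omega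
      have hne : N ≠ ⊤ := fun ht => by rw [ht, Subgroup.index_top] at hidx; norm_num at hidx
      -- an element of order 21
      have h21 : 21 ∣ Nat.card C := by
        refine Nat.Coprime.mul_dvd_of_dvd_of_dvd (by norm_num : Nat.Coprime 7 3) h7C ?_
        rw [hNc] at hcardN
        have h3 : ¬ 9 ∣ C.relIndex N := fun h9 => by have := h9.trans hrel; norm_num at this
        have hle := Nat.le_of_dvd (by norm_num) hrel
        interval_cases (C.relIndex N) <;> omega
      haveI : Fact (Nat.Prime 3) := ⟨Nat.prime_three⟩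
      obtain ⟨⟨y, hy⟩, hyo⟩ := exists_prime_orderOf_dvd_card' (G := C) 3 ((by norm_num : 3 ∣ 21).trans h21)
      rw [Subgroup.orderOf_mk] at hyo
      have hcom : Commute x y := Subgroup.mem_centralizer_iff.mp hy x (hPx ▸ Subgroup.mem_zpowers x)
      let e8 : (G ⧸ N) ≃ Fin 8 := Finite.equivFinOfCardEq hidx
      let φ : G →* Equiv.Perm (Fin 8) := e8.permCongrHom.toMonoidHom.comp (MulAction.toPermHom G (G ⧸ N))
      have hφ : φ.ker = ⊥ := by
        refine (φ.normal_ker.eq_bot_or_eq_top).resolve_right fun ht => hne ?_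
        rw [eq_top_iff, ← ht]
        intro g hg
        have h1 : MulAction.toPermHom G (G ⧸ N) g = 1 := e8.permCongrHom.injective (by rw [map_one]; exact hg)
        exact Subgroup.normalCore_le N (by rw [Subgroup.normalCore_eq_ker]; exact h1)
      exact perm_eight (y := φ (x * y)) (by
        rw [orderOf_injective φ ((MonoidHom.ker_eq_bot_iff φ).mp hφ),
          hcom.orderOf_mul_eq_mul_orderOf_of_coprime (by rw [hx, hyo]; norm_num), hx, hyo])
    · exact e
  rw [hn36] at hmul
  have hNc : Nat.card N = 14 := by omega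
  rw [hNc] at hcardN
  obtain ⟨k, hk⟩ := h7C
  rw [hk, mul_assoc] at hcardN
  have hk2 : k * C.relIndex N = 2 := by omega
  have hk1 : k = 1 := by
    rcases (Nat.dvd_prime Nat.prime_two).mp ⟨_, hk2.symm⟩ with e | e
    · exact e
    · exfalso; subst e; omega
  rw [hCx, hk, hk1]

/-- No involution commutes with an element of order seven. -/
theorem seven_not_dvd_centralizer (h : Nat.card G = 504) {t : G} (ht : orderOf t = 2) :
    ¬ 7 ∣ Nat.card (centralizer ({t} : Set G)) := by
  intro h7
  haveI : Fact (Nat.Prime 7) := ⟨by norm_num⟩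
  obtain ⟨⟨x, hx⟩, hxo⟩ := exists_prime_orderOf_dvd_card' (G := centralizer ({t} : Set G)) 7 h7
  rw [Subgroup.orderOf_mk] at hxo
  have hm : t ∈ centralizer ({x} : Set G) :=
    Subgroup.mem_centralizer_singleton_iff.mpr (Subgroup.mem_centralizer_singleton_iff.mp hx).symm
  have := Subgroup.orderOf_dvd_natCard _ hm
  rw [ht, seven_facts h x hxo] at this
  norm_num at this

theorem dihedral_facts : (∀ d : DihedralGroup 4, d * d ≠ 1 → d = DihedralGroup.r 1 ∨ d = (DihedralGroup.r 1)⁻¹) ∧
    (∀ k : ZMod 4, DihedralGroup.sr 0 * DihedralGroup.r k * DihedralGroup.r k * DihedralGroup.r k = DihedralGroup.sr 0 → k = 0) ∧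
    (∀ d : DihedralGroup 4, (∃ k, d = DihedralGroup.r k) ∨ ∃ k, d = DihedralGroup.sr 0 * DihedralGroup.r k) := by decide

omit [IsSimpleGroup G] in
theorem sylow_le_normalizer {t u : G} (ht : orderOf t = 2) (hut : Commute u t) (hu : orderOf u = 3)
    (hC : Nat.card (centralizer ({t} : Set G)) = 24) (S : Sylow 2 G)
    (hSC : (S : Subgroup G) ≤ centralizer ({t} : Set G)) (hS : Nat.card (S : Subgroup G) = 8)
    (eD : (S : Subgroup G) ≃* DihedralGroup 4) : (S : Subgroup G) ≤ normalizer ((zpowers u : Subgroup G) : Set G) := by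
  haveI : Fact (Nat.Prime 3) := ⟨Nat.prime_three⟩
  haveI : Fact (Nat.Prime 2) := ⟨Nat.prime_two⟩
  set C := centralizer ({t} : Set G) with hCdef
  have huC : u ∈ C := mem_centralizer_singleton_iff.mpr hut.eq
  have htC : t ∈ C := mem_centralizer_singleton_iff.mpr rfl
  let u' : C := ⟨u, huC⟩
  let t' : C := ⟨t, htC⟩
  have hu' : orderOf u' = 3 := by rw [Subgroup.orderOf_mk, hu]
  have hP : ∀ P : Sylow 3 C, Nat.card (P : Subgroup C) = 3 := fun P => by
    rw [Cfsg.Lib.Small.card_sylow 1 8 (by rw [hC]; norm_num) (by norm_num) P, pow_one]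
  obtain ⟨hd, hm⟩ := Cfsg.Lib.Small.sylow_facts (G := C) (p := 3) 1 8 (by rw [hC]; norm_num) (by norm_num)
  obtain ⟨P, hPu⟩ := Cfsg.Lib.Small.exists_sylow_eq_zpowers hP hu'
  have hn : Nat.card (Sylow 3 C) = 1 ∨ Nat.card (Sylow 3 C) = 4 := by
    have := Nat.le_of_dvd (by norm_num) hd
    interval_cases (Nat.card (Sylow 3 C)) <;> first | (norm_num at hd; done) | (norm_num at hm; done) | norm_num
  rcases hn with hn | hn
  · intro s hs
    refine Cfsg.Lib.Fusion.le_normalizer_of_conj_mem fun y hy => ?_
    haveI : Subsingleton (Sylow 3 C) := (Nat.card_eq_one_iff_unique.mp hn).1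
    have hnorm : (P : Subgroup C).Normal := Sylow.normal_of_subsingleton P
    obtain ⟨j, hj⟩ := hy
    have h1 : (u' ^ j) ∈ (P : Subgroup C) := hPu ▸ zpow_mem (mem_zpowers u') j
    have h2 := hnorm.conj_mem _ h1 ⟨s, hSC hs⟩
    rw [hPu] at h2
    obtain ⟨i, hi⟩ := h2
    refine ⟨i, ?_⟩
    have := congrArg Subtype.val hi
    simp only at hj
    rw [← hj]
    simpa [u'] using this
  -- otherwise `S` is normal in the centralizer
  classical
  have h8 : Nat.card {g : C // orderOf g = 3} = 8 := by
    rw [Cfsg.Lib.Small.card_orderOf_eq hP, hn]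
  have ht' : orderOf t' = 2 := by rw [Subgroup.orderOf_mk, ht]
  have htc : ∀ g : C, g * t' = t' * g := fun g => Subtype.ext (mem_centralizer_singleton_iff.mp g.2)
  let A : Set C := {g | orderOf g = 3}
  let B : Set C := (fun g => g * t') '' A
  have hB : ∀ g ∈ B, orderOf g = 6 := by
    rintro _ ⟨g, hg, rfl⟩
    show orderOf (g * t') = 6
    rw [(show Commute g t' from htc g).orderOf_mul_eq_mul_orderOf_of_coprime (by
      rw [show orderOf g = 3 from hg, ht']; norm_num), show orderOf g = 3 from hg, ht']
  have hAc : A.ncard = 8 := by rw [← Nat.card_coe_set_eq]; exact h8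
  have hBc : B.ncard = 8 := by rw [Set.ncard_image_of_injective _ (mul_left_injective t'), hAc]
  have hdisj : Disjoint A B := Set.disjoint_left.mpr fun g h1 h2 => by
    have := hB g h2
    rw [show orderOf g = 3 from h1] at this; norm_num at this
  set R : Set C := (A ∪ B)ᶜ
  have hRc : R.ncard = 8 := by
    rw [Set.ncard_compl, Set.ncard_union_eq hdisj, hAc, hBc, hC]
  have hsub : ∀ H : Subgroup C, Nat.card H = 8 → (H : Set C) = R := by
    intro H hH
    refine Set.eq_of_subset_of_ncard_le ?_ (by rw [hRc, ← Nat.card_coe_set_eq]; exact hH.ge)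
    intro g hg hab
    have h1 := Subgroup.orderOf_dvd_natCard H hg
    rw [hH] at h1
    rcases hab with h | h
    · rw [show orderOf g = 3 from h] at h1; norm_num at h1
    · rw [hB g h] at h1; norm_num at h1
  set S' := (S : Subgroup G).subgroupOf C with hS'
  have hS'c : Nat.card S' = 8 := by rw [Nat.card_congr (Subgroup.subgroupOfEquivOfLe hSC).toEquiv, hS]
  have hconj : ∀ s ∈ (S : Subgroup G), u * s * u⁻¹ ∈ (S : Subgroup G) := by
    intro s hs
    have h1 : ((S'.map (MulAut.conj u').toMonoidHom : Subgroup C) : Set C) = S' := by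
      rw [hsub S' hS'c]
      exact hsub _ (by rw [Subgroup.card_map_of_injective (MulAut.conj u').injective, hS'c])
    have h2 : (MulAut.conj u') ⟨s, hSC hs⟩ ∈ (S'.map (MulAut.conj u').toMonoidHom : Subgroup C) :=
      ⟨⟨s, hSC hs⟩, hs, rfl⟩
    rw [SetLike.coe_set_eq.mp h1] at h2
    exact h2
  -- `u` centralizes `S`
  let β : DihedralGroup 4 → DihedralGroup 4 := fun d =>
    eD ⟨u * (eD.symm d : G) * u⁻¹, hconj _ (eD.symm d).2⟩
  have βm : ∀ a b, β (a * b) = β a * β b := fun a b => by
    simp only [β, ← map_mul]; congr 1; apply Subtype.ext; simp [mul_assoc]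
  have βv : ∀ d, ((eD.symm (β d) : (S : Subgroup G)) : G) = u * (eD.symm d : G) * u⁻¹ := fun d => by
    simp only [β, MulEquiv.symm_apply_apply]
  have βi : Function.Injective β := fun a b hab => by
    have := βv a
    rw [hab, βv b] at this
    exact eD.symm.injective (Subtype.ext (mul_left_cancel (mul_right_cancel this))).symm
  have β3 : ∀ d, β (β (β d)) = d := fun d => by
    apply eD.symm.injective; apply Subtype.ext
    rw [βv, βv, βv]
    have h3 : u * u * u = 1 := by rw [← pow_two, ← pow_succ]; exact orderOf_dvd_iff_pow_eq_one.mp (by rw [hu])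
    calc u * (u * (u * (eD.symm d : G) * u⁻¹) * u⁻¹) * u⁻¹ = (u * u * u) * (eD.symm d : G) * (u * u * u)⁻¹ := by group
      _ = _ := by rw [h3]; group
  obtain ⟨f1, f2, f3⟩ := dihedral_facts
  have β1 : β 1 = 1 := by
    have := βm 1 1
    rw [one_mul] at this
    exact left_eq_mul.mp this
  have hr : β (DihedralGroup.r 1) = DihedralGroup.r 1 := by
    have hne : β (DihedralGroup.r 1) * β (DihedralGroup.r 1) ≠ 1 := by
      rw [← βm, ← β1]; exact fun e => absurd (βi e) (by decide)
    rcases f1 _ hne with e | e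
    · exact e
    · exfalso
      have einv : β (DihedralGroup.r 1)⁻¹ = DihedralGroup.r 1 := by
        have h1 : β (DihedralGroup.r 1)⁻¹ * β (DihedralGroup.r 1) = 1 := by rw [← βm, inv_mul_cancel, β1]
        rw [eq_inv_of_mul_eq_one_left h1, e, inv_inv]
      have := β3 (DihedralGroup.r 1)
      rw [e, einv, e] at this
      revert this
      decide
  have hrk : ∀ k : ZMod 4, β (DihedralGroup.r k) = DihedralGroup.r k := by
    intro k
    fin_cases k
    · exact β1
    · exact hr
    · show β (DihedralGroup.r 2) = _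
      rw [show (DihedralGroup.r 2 : DihedralGroup 4) = DihedralGroup.r 1 * DihedralGroup.r 1 from rfl, βm, hr]
      rfl
    · show β (DihedralGroup.r 3) = _
      rw [show (DihedralGroup.r 3 : DihedralGroup 4) = DihedralGroup.r 1 * DihedralGroup.r 1 * DihedralGroup.r 1 from rfl,
        βm, βm, hr]
      rfl
  have hsr : β (DihedralGroup.sr 0) = DihedralGroup.sr 0 := by
    rcases f3 (β (DihedralGroup.sr 0)) with ⟨k, hk⟩ | ⟨k, hk⟩
    · have := βi (hk.trans (hrk k).symm)
      exact absurd this (by simp)
    · have h := β3 (DihedralGroup.sr 0)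
      rw [hk, βm, hrk, hk, βm, βm, hrk, hk] at h
      rw [hk, f2 k h]
      rfl
  have βid : ∀ d, β d = d := fun d => by
    rcases f3 d with ⟨k, rfl⟩ | ⟨k, rfl⟩
    · exact hrk k
    · rw [βm, hsr, hrk]
  intro s hs
  refine Cfsg.Lib.Fusion.le_normalizer_of_conj_mem fun y hy => ?_
  have h1 := βv (eD ⟨s, hs⟩)
  rw [βid, eD.symm_apply_apply] at h1
  have hsu : Commute u s := mul_inv_eq_iff_eq_mul.mp h1.symm
  obtain ⟨j, rfl⟩ := hy
  simp only
  rw [(hsu.symm.zpow_right j).eq, mul_inv_cancel_right]
  exact ⟨j, rfl⟩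

/-- There are nine Sylow `2`-subgroups. -/
theorem card_sylow_two (h : Nat.card G = 504) : Nat.card (Sylow 2 G) = 9 := by
  haveI : Fact (Nat.Prime 2) := ⟨Nat.prime_two⟩
  haveI : Fact (Nat.Prime 3) := ⟨Nat.prime_three⟩
  have hnc := not_cyclic h
  obtain ⟨hd, -⟩ := Cfsg.Lib.Small.sylow_facts (G := G) (p := 2) 3 63 (by rw [h]; norm_num) (by norm_num)
  have hS : ∀ S : Sylow 2 G, Nat.card (S : Subgroup G) = 8 := fun S => by
    rw [Cfsg.Lib.Small.card_sylow 3 63 (by rw [h]; norm_num) (by norm_num) S]; norm_num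
  obtain ⟨S⟩ : Nonempty (Sylow 2 G) := inferInstance
  have hmul := Cfsg.Lib.Small.card_normalizer_mul S
  rw [h] at hmul
  set N := Subgroup.normalizer ((S : Subgroup G) : Set G) with hN
  set n := Nat.card (Sylow 2 G) with hn
  have hperf : commutator G = ⊤ := by
    refine (Subgroup.Normal.eq_bot_or_eq_top inferInstance).resolve_left fun hb => hnc ?_
    let _ : CommGroup G := { (inferInstance : Group G) with
      mul_comm := fun a b => commutatorElement_eq_one_iff_mul_comm.mp (Subgroup.mem_bot.mp
        (hb ▸ Subgroup.commutator_mem_commutator (Subgroup.mem_top a) (Subgroup.mem_top b))) }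
    exact IsSimpleGroup.isCyclic
  have hSne : (S : Subgroup G) ≠ ⊤ := fun e => by
    have := hS S; rw [e, Subgroup.card_top, h] at this; omega
  have hcases : n = 9 ∨ n = 21 ∨ n = 63 := by
    have hNtop : N ≠ ⊤ := fun e => by
      haveI : (S : Subgroup G).Normal := Subgroup.normalizer_eq_top_iff.mp e
      rcases Subgroup.Normal.eq_bot_or_eq_top (inferInstance : (S : Subgroup G).Normal) with e' | e'
      · have := hS S; rw [e', Subgroup.card_bot] at this; omega
      · exact hSne e'
    have hge := index_ge h hNtop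
    have hidx : N.index = n := by rw [hn, S.card_eq_index_normalizer]; rfl
    rw [hidx] at hge
    have hle := Nat.le_of_dvd (by norm_num) hd
    interval_cases n <;> first | (norm_num at hd; done) | norm_num
  rcases hcases with e | e
  · exact e
  exfalso
  by_cases hab : IsMulCommutative (S : Subgroup G)
  · haveI := hab
    have hfoc : ⁅(S : Subgroup G), N⁆ = S := by
      rw [← Cfsg.Lib.Fusion.focal_eq_commutator_normalizer, ← commutator_inf_eq_focalSubgroup, hperf, top_inf_eq]
    have hSN : (S : Subgroup G) ≤ N := Subgroup.le_normalizer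
    set S' := (S : Subgroup G).subgroupOf N with hS'
    haveI : IsMulCommutative S' := ⟨⟨fun a b => by
      apply Subtype.ext; apply Subtype.ext
      have hh := congrArg Subtype.val (hab.is_comm.comm (⟨((a : N) : G), a.2⟩ : (S : Subgroup G)) ⟨((b : N) : G), b.2⟩)
      exact hh⟩⟩
    have hS'c : Nat.card S' = 8 := by rw [Nat.card_congr (Subgroup.subgroupOfEquivOfLe hSN).toEquiv, hS]
    have hNn : Nat.card N = 24 ∨ Nat.card N = 8 := by
      rcases e with e | e <;> rw [e] at hmul
      · left; omega
      · right; omega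
    have hco : (Nat.card S').Coprime S'.index := by
      have := S'.index_mul_card
      rw [hS'c] at this ⊢
      rcases hNn with e' | e' <;> rw [e'] at this
      · rw [show S'.index = 3 by omega]; norm_num
      · rw [show S'.index = 1 by omega]; norm_num
    have hcomm : S' ≤ commutator N := by
      intro w hw
      have h1 : (w : G) ∈ ⁅(S : Subgroup G), N⁆ := by rw [hfoc]; exact hw
      have h2 : ⁅(S : Subgroup G), N⁆ ≤ (commutator N).map N.subtype := by
        rw [Subgroup.commutator_le]
        intro a ha b hb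
        exact ⟨⁅(⟨a, hSN ha⟩ : N), ⟨b, hb⟩⁆, Subgroup.commutator_mem_commutator (Subgroup.mem_top _) (Subgroup.mem_top _), rfl⟩
      obtain ⟨w', hw', hwe⟩ := h2 h1
      rwa [Subtype.ext hwe] at hw'
    obtain ⟨z, hz, hz1, hzc⟩ : ∃ z ∈ (S : Subgroup G), z ≠ 1 ∧ ∀ g ∈ N, g * z = z * g := by
      have habel : ∀ a ∈ (S : Subgroup G), ∀ b ∈ (S : Subgroup G), a * b = b * a := fun a ha b hb =>
        congrArg Subtype.val (hab.is_comm.comm ⟨a, ha⟩ ⟨b, hb⟩)
      rcases hNn with e' | e'
      · obtain ⟨g, hg⟩ := exists_prime_orderOf_dvd_card' (G := N) 3 (by rw [e']; norm_num)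
        have hP : IsPGroup 3 (Subgroup.zpowers g) := IsPGroup.of_card (n := 1) (by rw [Nat.card_zpowers, hg, pow_one])
        haveI : S'.Normal := by rw [hS']; exact Subgroup.normal_in_normalizer
        letI : MulAction (Subgroup.zpowers g) S' :=
          MulAction.compHom S' ((MulAut.conjNormal (H := S')).comp (Subgroup.zpowers g).subtype)
        have hfp := hP.card_modEq_card_fixedPoints S'
        rw [hS'c] at hfp
        obtain ⟨w, hw⟩ : ∃ w : MulAction.fixedPoints (Subgroup.zpowers g) S', (w : S') ≠ 1 := by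
          by_contra hh
          push Not at hh
          have : Nat.card (MulAction.fixedPoints (Subgroup.zpowers g) S') ≤ 1 := by
            haveI : Subsingleton (MulAction.fixedPoints (Subgroup.zpowers g) S') :=
              ⟨fun a b => Subtype.ext ((hh a).trans (hh b).symm)⟩
            exact Finite.card_le_one_iff_subsingleton.mpr inferInstance
          unfold Nat.ModEq at hfp
          interval_cases Nat.card (MulAction.fixedPoints (Subgroup.zpowers g) S') <;> omega
        refine ⟨((w : S') : N), (w : S').2, fun e'' => hw (Subtype.ext (Subtype.ext e'')), ?_⟩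
        set z : N := ((w : S') : N) with hzdef
        have hgz : g * z * g⁻¹ = z := by
          have h1 := w.2 ⟨g, Subgroup.mem_zpowers g⟩
          exact congrArg Subtype.val h1
        set K := Subgroup.centralizer ({z} : Set N)
        have hg' : g ∈ K := Subgroup.mem_centralizer_singleton_iff.mpr (mul_inv_eq_iff_eq_mul.mp hgz)
        have hSK : S' ≤ K := fun a ha => Subgroup.mem_centralizer_singleton_iff.mpr
          (Subtype.ext (habel (a : G) ha (z : G) (w : S').2))
        have h24 : 24 ∣ Nat.card K := (show (24 : ℕ) = 8 * 3 by norm_num) ▸ Nat.Coprime.mul_dvd_of_dvd_of_dvd (by norm_num)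
          (hS'c ▸ Subgroup.card_dvd_of_le hSK) (hg ▸ Subgroup.orderOf_dvd_natCard K hg')
        have hKtop : K = ⊤ := Subgroup.eq_top_of_le_card K (by rw [e']; exact Nat.le_of_dvd Nat.card_pos h24)
        intro a ha
        have h1 : (⟨a, ha⟩ : N) ∈ K := hKtop ▸ Subgroup.mem_top _
        exact congrArg Subtype.val (Subgroup.mem_centralizer_singleton_iff.mp h1)
      · obtain ⟨⟨z, hz⟩, hz1⟩ := Subgroup.ne_bot_iff_exists_ne_one.mp (fun e'' : (S : Subgroup G) = ⊥ => by
          have := hS S; rw [e'', Subgroup.card_bot] at this; omega)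
        refine ⟨z, hz, fun e'' => hz1 (Subtype.ext e''), fun g hg => habel g ?_ z hz⟩
        rwa [Subgroup.eq_of_le_of_card_ge hSN (by rw [hS, e'])]
    have hbot := Cfsg.Lib.Fusion.inf_commutator_inf_center_eq_bot S' hco
    have : (⟨z, hSN hz⟩ : N) ∈ S' ⊓ commutator N ⊓ Subgroup.center N :=
      ⟨⟨hz, hcomm hz⟩, Subgroup.mem_center_iff.mpr fun g => Subtype.ext (hzc g g.2)⟩
    rw [hbot, Subgroup.mem_bot] at this
    exact hz1 (congrArg Subtype.val this)
  · -- the centre of a nonabelian `S`
    haveI : Nontrivial (S : Subgroup G) := Finite.one_lt_card_iff_nontrivial.mp (by rw [hS]; norm_num)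
    haveI := S.isPGroup'.center_nontrivial
    obtain ⟨k, hk⟩ := IsPGroup.iff_card.mp (S.isPGroup'.to_subgroup (Subgroup.center (S : Subgroup G)))
    have hk0 : k ≠ 0 := by
      rintro rfl
      have := Finite.one_lt_card (α := Subgroup.center (S : Subgroup G))
      rw [pow_zero] at hk; omega
    obtain ⟨⟨⟨t, htS⟩, htc⟩, hto⟩ := exists_prime_orderOf_dvd_card' (G := Subgroup.center (S : Subgroup G)) 2 (hk ▸ dvd_pow_self 2 hk0)
    rw [Subgroup.orderOf_mk, Subgroup.orderOf_mk] at hto
    by_cases huniq : ∀ x ∈ (S : Subgroup G), orderOf x = 2 → x = t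
    · have hiso := Cfsg.Lib.ZStar.isolated_of_unique_involution S hto huniq
      have hO : Cfsg.oddCore G = ⊥ := by
        refine ((inferInstance : (Cfsg.oddCore G).Normal).eq_bot_or_eq_top).resolve_right fun htop => ?_
        have hc : (Nat.card (⊤ : Subgroup G)).Coprime 2 := htop ▸ Cfsg.Lib.Core.pPrimeCore_coprime 2 G
        rw [Subgroup.card_top, h] at hc
        norm_num at hc
      have hzc := Cfsg.Lib.ZStar.mem_center_of_isolated hO hiso
      rcases ((inferInstance : (Subgroup.center G).Normal).eq_bot_or_eq_top) with e' | e'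
      · rw [e', Subgroup.mem_bot] at hzc
        rw [hzc, orderOf_one] at hto; norm_num at hto
      · exact hab ⟨⟨fun a b => Subtype.ext ((Subgroup.mem_center_iff (G := G)).mp (e' ▸ Subgroup.mem_top (b : G)) a)⟩⟩
    push Not at huniq
    obtain ⟨w, hwS, hwo, hwt⟩ := huniq
    obtain ⟨eD⟩ := dihedral_of_card_eight (hS S) hab (z := (⟨t, htS⟩ : (S : Subgroup G))) (w := ⟨w, hwS⟩)
      (by rw [Subgroup.orderOf_mk]; exact hto) (by rw [Subgroup.orderOf_mk]; exact hwo)
      (fun e' => hwt (congrArg Subtype.val e').symm)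
    set C := Subgroup.centralizer ({t} : Set G) with hC
    have hSC : (S : Subgroup G) ≤ C := fun s hs => Subgroup.mem_centralizer_singleton_iff.mpr
      (congrArg Subtype.val (Subgroup.mem_center_iff.mp htc ⟨s, hs⟩))
    have hCtop : C ≠ ⊤ := fun e' => by
      have hzc : t ∈ Subgroup.center G :=
        Set.singleton_subset_iff.mp (Subgroup.centralizer_eq_top_iff_subset.mp e')
      rcases ((inferInstance : (Subgroup.center G).Normal).eq_bot_or_eq_top) with e'' | e''
      · rw [e'', Subgroup.mem_bot] at hzc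
        rw [hzc, orderOf_one] at hto; norm_num at hto
      · exact hab ⟨⟨fun a b => Subtype.ext ((Subgroup.mem_center_iff (G := G)).mp (e'' ▸ Subgroup.mem_top (b : G)) a)⟩⟩
    have hle := card_le h hCtop
    have h8 : 8 ∣ Nat.card C := hS S ▸ Subgroup.card_dvd_of_le hSC
    have hdvd : Nat.card C ∣ 504 := h ▸ Subgroup.card_subgroup_dvd_card C
    have h7 := seven_not_dvd_centralizer h hto
    rw [← hC] at h7
    have hCc : Nat.card C = 8 ∨ Nat.card C = 24 := by
      generalize Nat.card C = c at hle h8 hdvd h7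
      interval_cases c <;> omega
    rcases hCc with hc | hc
    · have hCS : (S : Subgroup G) = C := Subgroup.eq_of_le_of_card_ge hSC (by rw [hc, hS])
      rcases Cfsg.Lib.Small.CentralizerD8.card_eq ((MulEquiv.subgroupCongr hCS.symm).trans eD) hperf hto with e' | e' <;>
        omega
    · -- a subgroup of order three normalized by `S`
      obtain ⟨⟨u, huC⟩, huo⟩ := exists_prime_orderOf_dvd_card' (G := C) 3 (by rw [hc]; norm_num)
      rw [Subgroup.orderOf_mk] at huo
      have hut : Commute u t := Subgroup.mem_centralizer_singleton_iff.mp huC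
      set T := Subgroup.zpowers u with hT
      have hSNT : (S : Subgroup G) ≤ Subgroup.normalizer (T : Set G) :=
        sylow_le_normalizer hto hut huo hc S hSC (hS S) eD
      set NT := Subgroup.normalizer (T : Set G) with hNT
      obtain ⟨R, hR⟩ := (IsPGroup.of_card (n := 1) (by rw [Nat.card_zpowers, huo, pow_one]) : IsPGroup 3 T).exists_le_sylow
      have hRc : Nat.card (R : Subgroup G) = 9 := by
        rw [Cfsg.Lib.Small.card_sylow 2 56 (by rw [h]; norm_num) (by norm_num) R]; norm_num
      have hRle : (R : Subgroup G) ≤ NT := by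
        haveI : IsMulCommutative (R : Subgroup G) := IsPGroup.isMulCommutative_of_card_eq_prime_sq (p := 3) (by rw [hRc]; norm_num)
        intro r hr
        refine Cfsg.Lib.Fusion.le_normalizer_of_conj_mem fun y hy => ?_
        have : r * y = y * r := congrArg Subtype.val
          ((inferInstance : IsMulCommutative (R : Subgroup G)).is_comm.comm ⟨r, hr⟩ ⟨y, hR hy⟩)
        rw [this, mul_inv_cancel_right]; exact hy
      have h72 : 72 ∣ Nat.card NT :=
        (show (72 : ℕ) = 8 * 9 by norm_num) ▸ Nat.Coprime.mul_dvd_of_dvd_of_dvd (by norm_num)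
          (hS S ▸ Subgroup.card_dvd_of_le hSNT) (hRc ▸ Subgroup.card_dvd_of_le hRle)
      have hNTtop : NT ≠ ⊤ := fun e' => by
        haveI : T.Normal := Subgroup.normalizer_eq_top_iff.mp e'
        rcases Subgroup.Normal.eq_bot_or_eq_top (inferInstance : T.Normal) with e'' | e'' <;>
          have h3 : Nat.card T = 3 := by rw [hT, Nat.card_zpowers, huo]
        all_goals rw [e''] at h3; simp [h] at h3
      have := card_le h hNTtop
      have := Nat.le_of_dvd Nat.card_pos h72
      omega

/-- A simple group of order 504 is isomorphic to the projective special linear group of dimension 2 over the field with 8 elements. -/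
theorem result {G : Type*} [Group G] [Finite G] [IsSimpleGroup G] (h : Nat.card G = 504) {F : Type*} [Field F] [Fintype F] (hF : Fintype.card F = 8) : Nonempty (G ≃* Matrix.ProjectiveSpecialLinearGroup (Fin 2) F) := by
  classical
  haveI : Fact (Nat.Prime 2) := ⟨Nat.prime_two⟩
  haveI : Fact (Nat.Prime 7) := ⟨by norm_num⟩
  let Ω := Sylow 2 G
  haveI : Fintype Ω := Fintype.ofFinite _
  have hΩ : Nat.card Ω = 9 := card_sylow_two h
  let φ : G →* Equiv.Perm Ω := MulAction.toPermHom G Ω
  have hφi : Function.Injective φ := by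
    rw [← MonoidHom.ker_eq_bot_iff]
    refine (φ.normal_ker.eq_bot_or_eq_top).resolve_right fun ht => ?_
    haveI : Subsingleton Ω := ⟨fun P Q => by
      obtain ⟨g, hg⟩ := MulAction.exists_smul_eq G P Q
      have h1 : φ g = 1 := MonoidHom.mem_ker.mp (ht ▸ Subgroup.mem_top g)
      exact (congrFun (congrArg DFunLike.coe h1) P).symm.trans hg⟩
    have := Finite.card_le_one_iff_subsingleton.mpr (inferInstance : Subsingleton Ω)
    omega
  -- elements of order seven fix exactly two points
  have hfix7 : ∀ x : G, orderOf x = 7 → {P : Ω | x • P = P}.ncard = 2 := by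
    intro x hx
    have hP : IsPGroup 7 (Subgroup.zpowers x) := IsPGroup.of_card (n := 1) (by rw [Nat.card_zpowers, hx, pow_one])
    have hmod := hP.card_modEq_card_fixedPoints Ω
    have heq : Nat.card (MulAction.fixedPoints (Subgroup.zpowers x) Ω) = {P : Ω | x • P = P}.ncard := by
      rw [← Nat.card_coe_set_eq]
      refine Nat.card_congr (Equiv.subtypeEquivRight fun P => ⟨fun h => h ⟨x, Subgroup.mem_zpowers x⟩, fun h => ?_⟩)
      rintro ⟨c, hc⟩
      exact (Subgroup.zpowers_le.mpr (show x ∈ MulAction.stabilizer G P from h)) hc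
    rw [heq, hΩ] at hmod
    have hlt : {P : Ω | x • P = P}.ncard < 9 := by
      rw [← hΩ, ← Set.ncard_univ]
      refine Set.ncard_lt_ncard (Set.ssubset_univ_iff.mpr fun he => ?_) (Set.toFinite _)
      have h1 : φ x = 1 := Equiv.ext fun P => (he ▸ Set.mem_univ P : P ∈ {P : Ω | x • P = P})
      rw [← map_one φ] at h1
      rw [hφi h1, orderOf_one] at hx
      norm_num at hx
    unfold Nat.ModEq at hmod
    omega
  have hstab : ∀ P : Ω, Nat.card (MulAction.stabilizer G P) = 56 := by
    intro P
    have := Cfsg.Lib.Small.card_normalizer_mul P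
    rw [h, show Nat.card (Sylow 2 G) = 9 from hΩ] at this
    rw [Sylow.stabilizer_eq_normalizer]
    simp only [Sylow.coe_coe] at this ⊢
    omega
  have hS8 : ∀ S : Ω, Nat.card (S : Subgroup G) = 8 := fun S => by
    rw [Cfsg.Lib.Small.card_sylow 3 63 (by rw [h]; norm_num) (by norm_num) S]; norm_num
  -- two-point stabilisers have order seven
  have hpair : ∀ P Q : Ω, P ≠ Q → Nat.card ↥(MulAction.stabilizer G P ⊓ MulAction.stabilizer G Q) = 7 := by
    intro P Q hPQ
    set H := MulAction.stabilizer G P with hH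
    obtain ⟨⟨x, hxH⟩, hxo⟩ := exists_prime_orderOf_dvd_card' (G := H) 7 (by rw [hstab]; norm_num)
    rw [Subgroup.orderOf_mk] at hxo
    set O := MulAction.orbit H Q with hO
    have hidx : O.ncard = (MulAction.stabilizer H Q).index := (MulAction.index_stabilizer H Q).symm
    have hcard := (MulAction.stabilizer H Q).index_mul_card
    rw [hstab, ← hidx] at hcard
    have hOsub : O ⊆ {P}ᶜ := by
      rintro _ ⟨g, rfl⟩ he
      rw [Set.mem_singleton_iff] at he
      apply hPQ
      have h1 : g⁻¹ • (g • Q) = g⁻¹ • P := congrArg _ he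
      rw [inv_smul_smul] at h1
      rw [h1]
      exact ((g⁻¹).2).symm
    have hO8 : O.ncard ≤ 8 := by
      refine (Set.ncard_le_ncard hOsub (Set.toFinite _)).trans ?_
      rw [Set.ncard_compl, hΩ, Set.ncard_singleton]
    have hone : ∀ R : Ω, R ≠ P → ∃ g ∈ H, g • R ≠ R := by
      intro R hR
      by_contra hh
      push Not at hh
      have hle : H ≤ MulAction.stabilizer G R := fun g hg => hh g hg
      have heq := Subgroup.eq_of_le_of_card_ge hle (by rw [hstab, hstab])
      rw [hH, Sylow.stabilizer_eq_normalizer, Sylow.stabilizer_eq_normalizer] at heq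
      apply hR
      have hRN : (R : Subgroup G) ≤ Subgroup.normalizer ((P : Subgroup G) : Set G) := by
        simp only [Sylow.coe_coe] at heq ⊢
        rw [heq]; exact Subgroup.le_normalizer
      have hsup : IsPGroup 2 ((R : Subgroup G) ⊔ (P : Subgroup G) : Subgroup G) :=
        R.isPGroup'.to_sup_of_normal_right' P.isPGroup' hRN
      exact Sylow.ext ((R.is_maximal' hsup le_sup_left).symm.trans (P.is_maximal' hsup le_sup_right))
    have hfull : O.ncard = 8 := by
      by_contra hne
      have hdiv : O.ncard ∣ 56 := ⟨_, hcard.symm⟩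
      have hmem : Q ∈ O := MulAction.mem_orbit_self Q
      have hpos : 0 < O.ncard := (Set.ncard_pos (Set.toFinite _)).mpr ⟨Q, hmem⟩
      have hcases : O.ncard = 7 ∨ O.ncard < 7 := by omega
      rcases hcases with h7 | h7
      · have hc : (({P}ᶜ : Set Ω) \ O).ncard = 1 := by
          rw [Set.ncard_sdiff hOsub, Set.ncard_compl, hΩ, Set.ncard_singleton, h7]
        obtain ⟨R, hR⟩ := Set.ncard_eq_one.mp hc
        have hRm : R ∈ (({P}ᶜ : Set Ω) \ O) := hR ▸ rfl
        obtain ⟨g, hg, hgR⟩ := hone R hRm.1
        refine hgR (?_ : g • R = R)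
        have hm : g • R ∈ (({P}ᶜ : Set Ω) \ O) := by
          refine ⟨fun he => hRm.1 ?_, fun he => hRm.2 ?_⟩
          · rw [Set.mem_singleton_iff] at he ⊢
            have h1 : g⁻¹ • (g • R) = g⁻¹ • P := congrArg _ he
            rw [inv_smul_smul] at h1
            rw [h1]; exact MulAction.mem_stabilizer_iff.mp (inv_mem hg)
          · obtain ⟨k, hk⟩ := he
            refine ⟨(⟨g, hg⟩ : H)⁻¹ * k, ?_⟩
            show ((⟨g, hg⟩ : H)⁻¹ * k) • Q = R
            rw [mul_smul, show k • Q = g • R from hk]
            exact inv_smul_smul g R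
        rw [hR] at hm
        exact hm
      · -- `x` fixes the orbit pointwise
        have hfx : O ⊆ {R : Ω | x • R = R} := by
          intro R hR
          by_contra hne'
          have hsub : MulAction.orbit (Subgroup.zpowers x) R ⊆ O := by
            rintro _ ⟨⟨c, hc⟩, rfl⟩
            obtain ⟨k, hk⟩ := hR
            refine ⟨⟨c, Subgroup.zpowers_le.mpr hxH hc⟩ * k, ?_⟩
            show (⟨c, Subgroup.zpowers_le.mpr hxH hc⟩ * k : H) • Q = c • R
            rw [mul_smul, show k • Q = R from hk]; rfl
          have h1 : (MulAction.orbit (Subgroup.zpowers x) R).ncard = 7 := by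
            rw [← MulAction.index_stabilizer]
            have hd := Subgroup.index_dvd_card (MulAction.stabilizer (Subgroup.zpowers x) R)
            rw [Nat.card_zpowers, hxo] at hd
            rcases (Nat.dvd_prime (by norm_num : Nat.Prime 7)).mp hd with e | e
            · exfalso
              apply hne'
              have : (⟨x, Subgroup.mem_zpowers x⟩ : Subgroup.zpowers x) ∈ MulAction.stabilizer (Subgroup.zpowers x) R :=
                (Subgroup.index_eq_one.mp e) ▸ Subgroup.mem_top _
              exact this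
            · exact e
          have := Set.ncard_le_ncard hsub (Set.toFinite _)
          omega
        have hPfix : x • P = P := MulAction.mem_stabilizer_iff.mp hxH
        have h2 : (insert P O).ncard ≤ 2 := hfix7 x hxo ▸
          Set.ncard_le_ncard (Set.insert_subset hPfix hfx) (Set.toFinite _)
        rw [Set.ncard_insert_of_notMem (fun he => hOsub he rfl)] at h2
        have hO1 : O = {Q} := (Set.ncard_eq_one.mp (show O.ncard = 1 by omega)).elim fun R hR => by
          rw [hR] at hmem ⊢; rw [Set.mem_singleton_iff.mp hmem]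
        obtain ⟨g, hg, hgQ⟩ := hone Q hPQ.symm
        exact hgQ (show g • Q ∈ ({Q} : Set Ω) from hO1 ▸ ⟨⟨g, hg⟩, rfl⟩)
    rw [hfull] at hcard
    rw [← Nat.card_congr (Subgroup.subgroupOfEquivOfLe (inf_le_left : H ⊓ MulAction.stabilizer G Q ≤ H)).toEquiv]
    have : (H ⊓ MulAction.stabilizer G Q).subgroupOf H = MulAction.stabilizer H Q := by
      ext g
      exact ⟨fun hg => hg.2, fun hg => ⟨g.2, hg⟩⟩
    rw [this]
    omega
  set Γ := φ.range
  have hsharp : ∀ e : Fin 3 ↪ Ω, MulAction.stabilizer Γ e = ⊥ := by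
    intro e
    rw [eq_bot_iff]
    rintro ⟨_, g, rfl⟩ hg
    have hg' : ∀ i, g • e i = e i := fun i => congrFun (congrArg DFunLike.coe (MulAction.mem_stabilizer_iff.mp hg)) i
    rw [Subgroup.mem_bot]
    apply Subtype.ext
    show φ g = 1
    by_contra hne
    have hg1 : g ≠ 1 := fun e' => hne (by rw [e', map_one])
    have hm : g ∈ MulAction.stabilizer G (e 0) ⊓ MulAction.stabilizer G (e 1) := ⟨hg' 0, hg' 1⟩
    have hd := Subgroup.orderOf_dvd_natCard _ hm
    rw [hpair _ _ (fun h' => absurd (e.injective h') (by decide))] at hd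
    have ho : orderOf g = 7 := ((Nat.dvd_prime (by norm_num : Nat.Prime 7)).mp hd).resolve_left
      (fun h' => hg1 (orderOf_eq_one_iff.mp h'))
    have hsub : Set.range e ⊆ {P : Ω | g • P = P} := by rintro _ ⟨i, rfl⟩; exact hg' i
    have := Set.ncard_le_ncard hsub (Set.toFinite _)
    rw [hfix7 g ho, ← Nat.card_coe_set_eq, Nat.card_range_of_injective e.injective, Nat.card_fin] at this
    omega
  have h3 : MulAction.IsMultiplyPretransitive Γ Ω 3 := by
    rw [MulAction.isMultiplyPretransitive_iff]
    intro e e'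
    have ho : (MulAction.orbit Γ e).ncard = 504 := by
      have h1 := MulAction.index_stabilizer Γ e
      rw [hsharp e, Subgroup.index_bot, ← Nat.card_congr (MonoidHom.ofInjective hφi).toEquiv, h] at h1
      exact h1.symm
    have hall : MulAction.orbit Γ e = Set.univ := by
      refine Set.eq_of_subset_of_ncard_le (Set.subset_univ _) ?_ (Set.toFinite _)
      rw [ho, Set.ncard_univ, Nat.card_eq_fintype_card, Fintype.card_embedding_eq, Fintype.card_fin,
        ← Nat.card_eq_fintype_card (α := Ω), hΩ]
      decide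
    have : e' ∈ MulAction.orbit Γ e := hall ▸ Set.mem_univ _
    exact this
  obtain ⟨F0, iF, iFF, hF0, ⟨ψ⟩⟩ := Cfsg.Agent.S0727.result (f := 3) (by norm_num)
    (by rw [← Nat.card_eq_fintype_card, hΩ]; norm_num) Γ h3 hsharp
  have hroots : ∀ r : F0ˣ, ∃ k : F0ˣ, k ^ Fintype.card (Fin 2) = r := fun r => ⟨r ^ 4, by
    have h7 : r ^ 7 = 1 := by
      have : Fintype.card F0ˣ = 7 := by rw [Fintype.card_units, hF0]; norm_num
      rw [← this]; exact pow_card_eq_one
    rw [Fintype.card_fin, ← pow_mul, show 4 * 2 = 7 + 1 by norm_num, pow_succ, h7, one_mul]⟩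
  let τ := MulEquiv.ofBijective (Matrix.ProjectiveSpecialLinearGroup.toPGL (n := Fin 2) (R := F0))
    ⟨Matrix.ProjectiveSpecialLinearGroup.toPGL_injective, Matrix.ProjectiveSpecialLinearGroup.toPGL_surj_of_roots hroots⟩
  exact ⟨(((MonoidHom.ofInjective hφi).trans ψ).trans τ.symm).trans
    (Cfsg.Lib.Dickson.pslEquiv (FiniteField.ringEquivOfCardEq (hF0.trans (by rw [hF]; norm_num))))⟩

end Cfsg.Agent.S1011
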