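import Cfsg.Statements.S3189
import Cfsg.Agent.Lib.E8Cent.Local
import Cfsg.Agent.Lib.E8Cent.Contra

set_option autoImplicit false
open Cfsg

namespace Cfsg.Agent.S3189

/-- Let G be a non-abelian finite simple group whose Sylow 2-subgroup S is elementary abelian of order 8, and suppose the centralizer of every involution of G is solvable. Then the normalizer of S modulo the centralizer of S has order 7. -/
theorem result {G : Type*} [Group G] [Finite G]
    [IsSimpleGroup G] (hG : ¬ IsMulCommutative G) (S : Sylow 2 G)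
    (hS : Cfsg.IsElementaryAbelian 2 (S : Subgroup G)) (hS8 : Nat.card ↥(S : Subgroup G) = 8)
    (hC : ∀ t : G, orderOf t = 2 → Group.IsSolvable ↥(Subgroup.centralizer ({t} : Set G))) :
    (Subgroup.centralizer ((S : Subgroup G) : Set G)).relIndex (Subgroup.normalizer ((S : Subgroup G) : Set G)) = 7 := by
  haveI : Fact (Nat.Prime 2) := ⟨Nat.prime_two⟩
  haveI := hS.1
  rw [← Cfsg.Lib.E8Cent.card_automizer S]
  have h21 := Cfsg.Lib.E8Cent.card_automizer_dvd hS8 hS
  have h7 := Cfsg.Lib.E8Cent.seven_dvd_automizer hG hS8 hS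
  obtain ⟨k, hk⟩ := h7
  have hk3 : k ∣ 3 := Nat.dvd_of_mul_dvd_mul_left (by norm_num : 0 < 7) (hk ▸ h21)
  rcases (Nat.dvd_prime Nat.prime_three).1 hk3 with rfl | rfl
  · exact hk
  exfalso
  obtain ⟨t', ht'⟩ := exists_prime_orderOf_dvd_card' (G := (S : Subgroup G)) 2 (by rw [hS8]; norm_num)
  set t : G := (t' : G) with ht
  have ht2 : orderOf t = 2 := by rw [ht, Subgroup.orderOf_coe, ht']
  have ht1 : t ≠ 1 := fun h => by rw [h, orderOf_one] at ht2; norm_num at ht2
  obtain ⟨O, hOn, tC, Q, htC, hOdd, D⟩ := Cfsg.Lib.E8Cent.exists_coreData S hS8 hS hk t'.2 ht1 (hC t ht2)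
  haveI := Fintype.ofFinite G
  have hperf : commutator G = ⊤ := by
    rcases IsSimpleGroup.eq_bot_or_eq_top_of_normal (commutator G) inferInstance with h | h
    · refine absurd ⟨⟨fun a b => ?_⟩⟩ hG
      exact commutatorElement_eq_one_iff_mul_comm.1 (by
        rw [← Subgroup.mem_bot, ← h, commutator_def]
        exact Subgroup.commutator_mem_commutator (Subgroup.mem_top a) (Subgroup.mem_top b))
    · exact h
  refine Cfsg.Lib.E8Cent.false_of_coreData hperf S hS8 ht2 (fun s hs hs1 => ?_) rfl htC hOdd D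
  obtain ⟨a, ha⟩ := Cfsg.Lib.E8Cent.transitive_of_seven hS8 hS (by rw [hk]; norm_num)
    (s := ⟨s, hs⟩) (t := t') (fun h => hs1 (congrArg Subtype.val h))
    (fun h => ht1 (congrArg Subtype.val h))
  obtain ⟨n, -, hn⟩ := (Cfsg.Lib.E8Cent.mem_automizer_iff S).1 a.2
  exact isConj_iff.2 ⟨n, by rw [ht, ← hn t']; exact congrArg Subtype.val ha⟩

end Cfsg.Agent.S3189
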