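import Cfsg.Statements.S3975

set_option autoImplicit false
open Cfsg

namespace Cfsg.Agent.S3975

open scoped Pointwise

universe u

section

variable {G : Type u} [Group G] [Finite G] (q : ℕ)

/-- Translation action on subsets of a given size. -/
abbrev SubsetsOfSize (G : Type u) (q : ℕ) : Type u := {s : Set G // s.ncard = q}

noncomputable instance translateAction : MulAction G (SubsetsOfSize G q) where
  smul g s := ⟨g • s.1, by
    show ((fun x => g • x) '' s.1).ncard = q
    rw [Set.ncard_image_of_injective _ (MulAction.injective g)]; exact s.2⟩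
  one_smul s := Subtype.ext (one_smul G s.1)
  mul_smul g h s := Subtype.ext (mul_smul g h s.1)

omit [Finite G] in
theorem mem_stab_iff {g : G} {s : SubsetsOfSize G q} :
    g ∈ MulAction.stabilizer G s ↔ g • s.1 = s.1 :=
  Subtype.ext_iff

theorem card_subsetsOfSize : Nat.card (SubsetsOfSize G q) = (Nat.card G).choose q := by
  classical
  have := Fintype.ofFinite G
  rw [Nat.card_eq_fintype_card (α := G), ← Finset.card_univ, ← Finset.card_powersetCard,
    ← Fintype.card_coe, ← Nat.card_eq_fintype_card]
  exact Nat.card_congr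
    { toFun := fun s => ⟨s.1.toFinset, by
        rw [Finset.mem_powersetCard]
        exact ⟨Finset.subset_univ _, by rw [← Set.ncard_eq_toFinset_card']; exact s.2⟩⟩
      invFun := fun t => ⟨(t.1 : Set G), by
        rw [Set.ncard_coe_finset]; exact (Finset.mem_powersetCard.mp t.2).2⟩
      left_inv := fun s => Subtype.ext (Set.coe_toFinset s.1)
      right_inv := fun t => Subtype.ext (by simp) }

/-- The stabilizer of a nonempty set is contained in a translate of it. -/
theorem coset_subset {s : SubsetsOfSize G q} {x : G} (hx : x ∈ s.1) :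
    ((MulAction.stabilizer G s : Set G)) ⊆ (fun h => h * x⁻¹) '' s.1 := by
  intro g hg
  exact ⟨g * x, ((mem_stab_iff q).mp hg) ▸ ⟨x, hx, rfl⟩, by simp⟩

theorem card_fiber (H : Subgroup G) (hH : Nat.card H = q) :
    Nat.card {s : SubsetsOfSize G q // MulAction.stabilizer G s = H} = H.index := by
  classical
  have hq : q ≠ 0 := hH ▸ Nat.card_pos.ne'
  have hcoset : ∀ x : G, ((fun h => h * x⁻¹) '' (H : Set G)).ncard = q := fun x => by
    rw [Set.ncard_image_of_injective _ (mul_left_injective x⁻¹), ← Nat.card_coe_set_eq]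
    exact hH
  have hstab : ∀ x : G, MulAction.stabilizer G
      (⟨(fun h => h * x⁻¹) '' (H : Set G), hcoset x⟩ : SubsetsOfSize G q) = H := by
    intro x
    ext g
    rw [mem_stab_iff]
    constructor
    · intro hg
      have h1 : g • x⁻¹ ∈ (fun h => h * x⁻¹) '' (H : Set G) :=
        Eq.subset hg (Set.smul_mem_smul_set ⟨1, one_mem H, one_mul _⟩)
      obtain ⟨h, hh, he⟩ := h1
      rw [smul_eq_mul] at he
      exact mul_right_cancel he ▸ hh
    · intro hg
      ext y
      rw [Set.mem_smul_set_iff_inv_smul_mem, smul_eq_mul]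
      constructor
      · rintro ⟨h, hh, he⟩
        refine ⟨g * h, mul_mem hg hh, ?_⟩
        have he' : h * x⁻¹ = g⁻¹ * y := he
        show g * h * x⁻¹ = y
        rw [mul_assoc, he', mul_inv_cancel_left]
      · rintro ⟨h, hh, rfl⟩
        exact ⟨g⁻¹ * h, mul_mem (inv_mem hg) hh, by simp [mul_assoc]⟩
  rw [Subgroup.index_eq_card]
  let f : G ⧸ H → {s : SubsetsOfSize G q // MulAction.stabilizer G s = H} :=
    Quotient.lift (fun x => ⟨⟨(fun h => h * x⁻¹) '' (H : Set G), hcoset x⟩, hstab x⟩) (by
      intro a b hab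
      have hab : a⁻¹ * b ∈ H := QuotientGroup.leftRel_apply.mp hab
      refine Subtype.ext (Subtype.ext ?_)
      ext y
      constructor
      · rintro ⟨h, hh, rfl⟩
        exact ⟨h * (a⁻¹ * b), mul_mem hh hab, by simp [mul_assoc]⟩
      · rintro ⟨h, hh, rfl⟩
        exact ⟨h * (a⁻¹ * b)⁻¹, mul_mem hh (inv_mem hab), by simp [mul_assoc]⟩)
  refine (Nat.card_eq_of_bijective f ⟨?_, ?_⟩).symm
  · intro a b
    refine Quotient.inductionOn₂' a b fun a b hab => ?_
    have h1 : (fun h => h * a⁻¹) '' (H : Set G) = (fun h => h * b⁻¹) '' (H : Set G) :=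
      congrArg (fun s => s.1.1) hab
    have h2 : a⁻¹ ∈ (fun h => h * b⁻¹) '' (H : Set G) := h1 ▸ ⟨1, one_mem H, one_mul _⟩
    obtain ⟨h, hh, he⟩ := h2
    refine Quotient.sound' (QuotientGroup.leftRel_apply.mpr ?_)
    rw [← he]; simpa [mul_assoc] using hh
  · rintro ⟨s, hs⟩
    obtain ⟨x, hx⟩ : s.1.Nonempty := by
      rw [← Set.ncard_pos]; rw [s.2]; omega
    refine ⟨((x⁻¹ : G) : G ⧸ H), Subtype.ext (Subtype.ext ?_)⟩
    show (fun h => h * (x⁻¹)⁻¹) '' (H : Set G) = s.1
    rw [inv_inv]
    refine Set.eq_of_subset_of_ncard_le ?_ ?_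
    · rintro _ ⟨h, hh, rfl⟩
      have h1 := (mem_stab_iff q).mp (hs ▸ hh : h ∈ MulAction.stabilizer G s)
      exact h1 ▸ ⟨x, hx, rfl⟩
    · have := hcoset x⁻¹
      rw [inv_inv] at this
      rw [this, s.2]

/-- The key congruence between the number of subsets and the number of subgroups of size `q`. -/
theorem choose_modEq {p β : ℕ} (hp : p.Prime) (hdiv : p ^ β ∣ Nat.card G) :
    (Nat.card G).choose (p ^ β) ≡ Nat.card G / p ^ β * Nat.card {H : Subgroup G // Nat.card H = p ^ β}
      [MOD Nat.card G / p ^ β * p] := by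
  classical
  set q := p ^ β with hq
  set t := Nat.card G / q
  let Ω := SubsetsOfSize G q
  have : Fintype Ω := Fintype.ofFinite _
  have : Fintype (Subgroup G) := Fintype.ofFinite _
  rw [← card_subsetsOfSize q, Nat.card_eq_fintype_card (α := SubsetsOfSize G q), ← Finset.card_univ,
    ← Finset.card_filter_add_card_filter_not (fun s : Ω => Nat.card (MulAction.stabilizer G s) = q)]
  have hgood : (Finset.univ.filter fun s : Ω => Nat.card (MulAction.stabilizer G s) = q).card =
      t * Nat.card {H : Subgroup G // Nat.card H = q} := by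
    rw [Finset.card_eq_sum_card_fiberwise (f := fun s : Ω => MulAction.stabilizer G s)
      (t := Finset.univ.filter fun H : Subgroup G => Nat.card H = q)
      (fun s hs => Finset.mem_coe.mpr (Finset.mem_filter.mpr ⟨Finset.mem_univ _, (Finset.mem_filter.mp hs).2⟩))]
    rw [Finset.sum_congr rfl (g := fun _ => t) (fun H hH => ?_), Finset.sum_const, smul_eq_mul,
      mul_comm, Nat.card_eq_fintype_card, Fintype.card_subtype]
    have hH' : Nat.card H = q := (Finset.mem_filter.mp hH).2
    rw [Finset.filter_filter, ← Fintype.card_subtype, ← Nat.card_eq_fintype_card]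
    refine (Nat.card_congr (Equiv.subtypeEquivRight fun s => ?_)).trans
      ((card_fiber q H hH').trans ?_)
    · exact ⟨fun h => h.2, fun h => ⟨(congrArg (fun K : Subgroup G => Nat.card K) h).trans hH', h⟩⟩
    · exact (Nat.div_eq_of_eq_mul_left (hH' ▸ Nat.card_pos) (by rw [← hH', H.index_mul_card])).symm
  rw [hgood]
  suffices h : t * p ∣ (Finset.univ.filter fun s : Ω => ¬ Nat.card (MulAction.stabilizer G s) = q).card by
    exact Nat.ModEq.trans (Nat.ModEq.add_left _ (Nat.modEq_zero_iff_dvd.mpr h)) (by rw [add_zero])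
  rw [Finset.card_eq_sum_ones, ← Finset.sum_fiberwise (g := fun s : Ω =>
    (Quotient.mk'' s : MulAction.orbitRel.Quotient G Ω))]
  refine Finset.dvd_sum fun o _ => ?_
  rw [← Finset.card_eq_sum_ones]
  induction o using Quotient.inductionOn' with
  | h s =>
    by_cases hs : Nat.card (MulAction.stabilizer G s) = q
    · rw [Finset.card_eq_zero.mpr (Finset.filter_eq_empty_iff.mpr fun r hr hrs => ?_)]
      · exact dvd_zero _
      · refine (Finset.mem_filter.mp hr).2 ?_
        obtain ⟨g, rfl⟩ : r ∈ MulAction.orbit G s := MulAction.orbitRel_apply.mp (Quotient.eq''.mp hrs)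
        exact (Nat.card_congr (MulAction.stabilizerEquivStabilizer (g := g) rfl).toEquiv).symm.trans hs
    · have hfil : ((Finset.univ.filter fun r : Ω => ¬ Nat.card (MulAction.stabilizer G r) = q).filter
          fun r => (Quotient.mk'' r : MulAction.orbitRel.Quotient G Ω) = Quotient.mk'' s) =
          (MulAction.orbit G s).toFinset := by
        ext r
        simp only [Finset.mem_filter, Finset.mem_univ, true_and, Set.mem_toFinset, Quotient.eq'',
          MulAction.orbitRel_apply]
        refine ⟨fun h => h.2, fun h => ⟨?_, h⟩⟩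
        obtain ⟨g, rfl⟩ := h
        exact fun h' => hs ((Nat.card_congr (MulAction.stabilizerEquivStabilizer (g := g) rfl).toEquiv).trans h')
      rw [hfil, ← Set.ncard_eq_toFinset_card', ← MulAction.index_stabilizer]
      set S := MulAction.stabilizer G s
      have hSdvd : Nat.card S ∣ q := by
        have hle : Nat.card S ∣ s.1.ncard := by
          rw [← Nat.card_coe_set_eq]
          let act : MulAction S s.1 :=
            { smul := fun g y => ⟨(g : G) * y, by
                have h := (mem_stab_iff q).mp g.2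
                exact Eq.subset h ⟨y, y.2, rfl⟩⟩
              one_smul := fun y => Subtype.ext (one_mul _)
              mul_smul := fun g g' y => Subtype.ext (mul_assoc _ _ _) }
          have hfree : ∀ y : s.1, Nat.card (MulAction.orbit S y) = Nat.card S := fun y =>
            (Nat.card_congr (Equiv.ofInjective (fun g : S => g • y) fun a b h =>
              Subtype.ext (mul_right_cancel (congrArg Subtype.val h)))).symm
          have : Fintype s.1 := Fintype.ofFinite _
          rw [Nat.card_congr (MulAction.selfEquivSigmaOrbits S s.1), Nat.card_sigma]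
          exact Finset.dvd_sum fun o _ => (hfree _).symm.dvd
        rwa [s.2] at hle
      obtain ⟨j, hj, hjS⟩ := (Nat.dvd_prime_pow hp).mp hSdvd
      have hjlt : j < β := lt_of_le_of_ne hj fun h => hs (by rw [hjS, h])
      have h1 : S.index * p ^ j = t * q := by
        rw [← hjS, S.index_mul_card, Nat.div_mul_cancel hdiv]
      refine (Nat.mul_dvd_mul_iff_right (pow_pos hp.pos j)).mp ?_
      rw [h1, mul_assoc, ← pow_succ']
      exact mul_dvd_mul_left t (pow_dvd_pow p hjlt)

end

theorem card_subgroups_cyclic {C : Type*} [Group C] [Finite C] [IsCyclic C] {q : ℕ} (hq : q ∣ Nat.card C) :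
    Nat.card {H : Subgroup C // Nat.card H = q} = 1 := by
  classical
  have := Fintype.ofFinite C
  rw [Nat.card_eq_one_iff_unique]
  refine ⟨⟨fun a b => Subtype.ext ?_⟩, ?_⟩
  · have hq0 : 0 < q := Nat.pos_of_ne_zero fun h => Nat.card_pos.ne' (Nat.eq_zero_of_zero_dvd (h ▸ hq))
    have key : ∀ H : Subgroup C, Nat.card H = q → (H : Set C).toFinset = Finset.univ.filter (fun x : C => x ^ q = 1) := by
      intro H hH
      refine Finset.eq_of_subset_of_card_le (fun x hx => ?_) ?_
      · rw [Finset.mem_filter]
        refine ⟨Finset.mem_univ _, orderOf_dvd_iff_pow_eq_one.mp (hH ▸ Subgroup.orderOf_dvd_natCard H ?_)⟩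
        simpa using hx
      · refine (IsCyclic.card_pow_eq_one_le hq0).trans ?_
        rw [Set.toFinset_card, ← Nat.card_eq_fintype_card]
        exact hH.ge
    exact SetLike.coe_injective (Set.toFinset_inj.mp ((key _ a.2).trans (key _ b.2).symm))
  · obtain ⟨g, hg⟩ := IsCyclic.exists_generator (α := C)
    refine ⟨⟨Subgroup.zpowers (g ^ (Nat.card C / q)), ?_⟩⟩
    rw [Nat.card_zpowers, orderOf_pow, orderOf_eq_card_of_forall_mem_zpowers hg,
      Nat.gcd_eq_right (Nat.div_dvd_of_dvd hq), Nat.div_div_self hq Nat.card_pos.ne']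


/-- Let `p` be a prime and `G` a finite group whose order is divisible by `p ^ β`. Then the number of subgroups of `G` of order `p ^ β` is congruent to `1` modulo `p`. (When `p ^ β` is the full power of `p` dividing the order, these are the Sylow `p`-subgroups and this is the usual Sylow count.) -/
theorem result {G : Type*} [Group G] [Finite G] (p β : ℕ) (hp : p.Prime) (hdiv : p ^ β ∣ Nat.card G) : Nat.card {H : Subgroup G // Nat.card H = p ^ β} ≡ 1 [MOD p] := by
  have h1 := choose_modEq (G := G) hp hdiv
  have hn0 : NeZero (Nat.card G) := ⟨Nat.card_pos.ne'⟩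
  have hC : Nat.card (Multiplicative (ZMod (Nat.card G))) = Nat.card G := by simp
  have h2 := choose_modEq (G := Multiplicative (ZMod (Nat.card G))) hp (hC.symm ▸ hdiv)
  rw [card_subgroups_cyclic (hC.symm ▸ hdiv), hC] at h2
  exact Nat.ModEq.mul_left_cancel' (Nat.div_pos (Nat.le_of_dvd Nat.card_pos hdiv) (pow_pos hp.pos β)).ne'
    (h1.symm.trans h2)

end Cfsg.Agent.S3975
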