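import Cfsg.Statements.S3977
import Cfsg.Agent.Lib.PGroup.Basic
import Cfsg.Agent.Lib.PGroup.ClassTwo
import Cfsg.Agent.S3975
import Mathlib.Data.Nat.Choose.Dvd

set_option autoImplicit false
open Cfsg

namespace Cfsg.Agent.S3977

open Subgroup
open scoped commutatorElement

universe u

theorem isCyclic_subgroupOf_unique : ∀ (n : ℕ) (G : Type u) [Group G] [Finite G] (p t : ℕ), Nat.card G ≤ n →
    p.Prime → IsPGroup p G → 1 ≤ t → (p = 2 → t = 2) → (p ≠ 2 → t = 1) →
    (∀ H K : Subgroup G, Nat.card H = p → Nat.card K = p → H = K) →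
    (∀ H K : Subgroup G, Nat.card H = p ^ t → Nat.card K = p ^ t → H = K) → IsCyclic G := by
  intro n
  induction n with
  | zero => intro G _ _ p t hn; have := Nat.card_pos (α := G); omega
  | succ n ih =>
    intro G _ _ p t hn hp hG ht ht2 ht1 hu1 hut
    have : Fact p.Prime := ⟨hp⟩
    have hmax : ∀ M : Subgroup G, IsCoatom M → IsCyclic M := by
      intro M hM
      refine ih M p t ?_ hp (hG.to_subgroup M) ht ht2 ht1 ?_ ?_
      · have h1 := M.card_le_card_group
        have h2 : Nat.card M ≠ Nat.card G := fun h => hM.1 (eq_top_of_card_eq M h)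
        omega
      · intro H K hH hK
        exact map_injective M.subtype_injective (hu1 _ _
          (by rw [card_map_of_injective (Subgroup.subtype_injective _)]; exact hH) (by rw [card_map_of_injective (Subgroup.subtype_injective _)]; exact hK))
      · intro H K hH hK
        exact map_injective M.subtype_injective (hut _ _
          (by rw [card_map_of_injective (Subgroup.subtype_injective _)]; exact hH) (by rw [card_map_of_injective (Subgroup.subtype_injective _)]; exact hK))
    by_contra hnc
    have : Nontrivial G := by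
      by_contra h
      rw [not_nontrivial_iff_subsingleton] at h
      exact hnc inferInstance
    obtain ⟨M, hM, -⟩ := (eq_top_or_exists_le_coatom (⊥ : Subgroup G)).resolve_left bot_ne_top
    obtain ⟨y₀, -, hy₀⟩ := SetLike.exists_of_lt (lt_top_iff_ne_top.mpr hM.1)
    obtain ⟨N, hN, hyN⟩ := (eq_top_or_exists_le_coatom (zpowers y₀)).resolve_left fun h =>
      hnc ⟨⟨y₀, fun z => (show z ∈ zpowers y₀ by rw [h]; exact mem_top z)⟩⟩
    have hMn := Cfsg.Lib.PGroup.normal_of_isCoatom hG hM
    have hNn := Cfsg.Lib.PGroup.normal_of_isCoatom hG hN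
    have hMi := Cfsg.Lib.PGroup.index_of_isCoatom hG hM
    have hNi := Cfsg.Lib.PGroup.index_of_isCoatom hG hN
    have hne : M ≠ N := fun h => hy₀ (h ▸ hyN (mem_zpowers y₀))
    obtain ⟨x, hx⟩ := (hmax M hM).exists_generator
    obtain ⟨y, hy⟩ := (hmax N hN).exists_generator
    have hxM : ∀ z ∈ M, z ∈ zpowers (x : G) := fun z hz => by
      obtain ⟨j, hj⟩ := hx ⟨z, hz⟩
      exact ⟨j, by simpa using congrArg Subtype.val hj⟩
    have hyN' : ∀ z ∈ N, z ∈ zpowers (y : G) := fun z hz => by
      obtain ⟨j, hj⟩ := hy ⟨z, hz⟩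
      exact ⟨j, by simpa using congrArg Subtype.val hj⟩
    have hsup : M ⊔ N = ⊤ := (hM.le_iff.mp le_sup_left).resolve_right fun h =>
      hne ((hN.le_iff.mp (sup_eq_left.mp h)).resolve_left hM.1)
    have hD : ∀ d, d ∈ M → d ∈ N → d ∈ center G := by
      intro d hdM hdN
      have := hmax M hM
      have := hmax N hN
      have hMc : IsMulCommutative M := IsCyclic.isMulCommutative
      have hNc : IsMulCommutative N := IsCyclic.isMulCommutative
      rw [mem_center_iff]
      have hle : (⊤ : Subgroup G) ≤ centralizer ({d} : Set G) := hsup ▸ sup_le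
        (fun z hz => mem_centralizer_singleton_iff.mpr
          (congrArg Subtype.val (hMc.1.comm (⟨z, hz⟩ : M) ⟨d, hdM⟩)))
        (fun z hz => mem_centralizer_singleton_iff.mpr
          (congrArg Subtype.val (hNc.1.comm (⟨z, hz⟩ : N) ⟨d, hdN⟩)))
      exact fun g => mem_centralizer_singleton_iff.mp (hle (mem_top g))
    have hcl : commutator G ≤ center G := fun c hc => by
      have h1 := Cfsg.Lib.PGroup.commutator_le_frattini hG hc
      exact hD c (frattini_le_coatom hM h1) (frattini_le_coatom hN h1)
    have hxp : (x : G) ^ p ∈ M ⊓ N := ⟨pow_mem x.2 p,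
      frattini_le_coatom hN (Cfsg.Lib.PGroup.pow_mem_frattini hG _)⟩
    obtain ⟨i, hi⟩ := hyN' _ hxp.2
    have hxlt : ∀ z ∈ N, (x : G) ^ p = z ^ p → False := by
      intro z hzN hz
      have hxN : (x : G) ∉ N := fun h => hne (((hM.le_iff.mp
        (fun w hw => (zpowers_le.mpr h) (hxM w hw) : M ≤ N)).resolve_left hN.1).symm)
      set c := (x : G) * z⁻¹ with hc
      have hcN : c ∉ N := fun h => hxN (by simpa [hc] using mul_mem h hzN)
      have hpow := Cfsg.Lib.PGroup.mul_pow_of_class_two hcl (x : G) z⁻¹ p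
      rw [hz, inv_pow, mul_inv_cancel, one_mul] at hpow
      have hcomm : ⁅z⁻¹, (x : G)⁆ ^ p = 1 := by
        rw [← Cfsg.Lib.PGroup.commutatorElement_pow_right hcl, commutatorElement_eq_one_iff_mul_comm]
        exact mem_center_iff.mp (hD _ hxp.1 hxp.2) _
      by_cases hp2 : p = 2
      · subst hp2
        have h4 : orderOf c ∣ 2 ^ 2 := orderOf_dvd_of_pow_eq_one (by
          rw [show (2 : ℕ) ^ 2 = 2 * 2 from rfl, pow_mul, hpow, ← pow_mul, mul_comm, pow_mul, hcomm, one_pow])
        obtain ⟨e, he, hce⟩ := (Nat.dvd_prime_pow Nat.prime_two).mp h4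
        have hc1 : c ≠ 1 := fun h => hcN (h ▸ one_mem N)
        have ht' := ht2 rfl
        subst ht'
        obtain ⟨j, hj⟩ := IsPGroup.iff_card.mp (hG.to_subgroup N)
        have he0 : e ≠ 0 := by
          rintro rfl
          exact hc1 (orderOf_eq_one_iff.mp (by simpa using hce))
        have hzc : Nat.card (zpowers c) = 2 ^ e := by rw [Nat.card_zpowers]; exact hce
        by_cases hej : e ≤ j
        · obtain ⟨K, hK⟩ := Sylow.exists_subgroup_card_pow_prime (G := N) 2 (n := e) (hj ▸ pow_dvd_pow 2 hej)
          have hKc : Nat.card (K.map N.subtype) = 2 ^ e := by rw [card_map_of_injective (Subgroup.subtype_injective _)]; exact hK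
          have heq : zpowers c = K.map N.subtype := by
            rcases (show e = 1 ∨ e = 2 by omega) with rfl | rfl
            · exact hu1 _ _ (by simpa using hzc) (by simpa using hKc)
            · exact hut _ _ hzc hKc
          exact hcN (map_subtype_le K (heq ▸ mem_zpowers c))
        · have hcard : Nat.card G = 2 * 2 ^ j := by rw [← hj, ← N.index_mul_card, hNi]
          have hcG : 2 ^ e ∣ 2 ^ (j + 1) := by
            rw [pow_succ', ← hcard, ← hzc]; exact card_subgroup_dvd_card _
          have : e ≤ j + 1 := (Nat.pow_dvd_pow_iff_le_right (by norm_num)).mp hcG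
          have : e = j + 1 := by omega
          exact hnc ⟨⟨c, fun w => by
            have : zpowers c = ⊤ := eq_top_of_card_eq _ (by rw [hzc, hcard, ← pow_succ', this])
            exact (show w ∈ zpowers c by rw [this]; exact mem_top w)⟩⟩
      · obtain ⟨k, hk⟩ : p ∣ p.choose 2 := Nat.Prime.dvd_choose_self hp (by norm_num) (by
          have := hp.two_le; omega)
        rw [hk, pow_mul, hcomm, one_pow] at hpow
        have hc1 : c ≠ 1 := fun h => hcN (h ▸ one_mem N)
        have hzc : Nat.card (zpowers c) = p := by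
          rw [Nat.card_zpowers]; exact orderOf_eq_prime hpow hc1
        have hNb : N ≠ ⊥ := by
          rintro rfl
          rw [index_bot] at hNi
          exact hnc (isCyclic_of_prime_card hNi)
        obtain ⟨j, hj⟩ := IsPGroup.iff_card.mp (hG.to_subgroup N)
        have hj0 : j ≠ 0 := by
          rintro rfl
          exact hNb (eq_bot_of_card_eq N (by simpa using hj))
        obtain ⟨K, hK⟩ := Sylow.exists_subgroup_card_pow_prime (G := N) p (n := 1)
          (hj ▸ pow_dvd_pow p (Nat.one_le_iff_ne_zero.mpr hj0))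
        exact hcN (map_subtype_le K ((hu1 _ (K.map N.subtype) hzc
          (by rw [card_map_of_injective (Subgroup.subtype_injective _)]; simpa using hK)) ▸ mem_zpowers c))
    by_cases hpi : (p : ℤ) ∣ i
    · obtain ⟨q, rfl⟩ := hpi
      exact hxlt ((y : G) ^ q) (zpow_mem y.2 q) (by
        rw [← hi]; show (y : G) ^ ((p : ℤ) * q) = ((y : G) ^ q) ^ p
        rw [← zpow_natCast, ← zpow_mul, mul_comm])
    · -- `x ^ p` generates `N`
      have hyp : (y : G) ∈ M := by
        have hco : IsCoprime (i : ℤ) (p : ℤ) := ((Nat.prime_iff_prime_int.mp hp).coprime_iff_not_dvd.mpr hpi).symm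
        obtain ⟨a, b, hab⟩ := hco
        have hyp' : (y : G) ^ p ∈ M := frattini_le_coatom hM (Cfsg.Lib.PGroup.pow_mem_frattini hG _)
        have hyi : (y : G) ^ i ∈ M := by
          have h := hxp.1
          rwa [← hi] at h
        have heq : (y : G) = ((y : G) ^ i) ^ a * ((y : G) ^ p) ^ b := by
          rw [← zpow_natCast, ← zpow_mul, ← zpow_mul, ← zpow_add, mul_comm i a, mul_comm (p : ℤ) b, hab, zpow_one]
        rw [heq]
        exact mul_mem (zpow_mem hyi a) (zpow_mem hyp' b)
      exact hne ((hN.le_iff.mp (fun z hz => zpowers_le.mpr hyp (hyN' z hz))).resolve_left hM.1)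


/-- Let `p` be a prime and `G` a group of order `p ^ m` which has exactly one subgroup of order `p ^ s`, where `1 ≤ s < m`, and where `s ≥ 2` if `p = 2`. Then `G` is cyclic. (For `p = 2` and `s = 1` the generalized quaternion groups also occur; that case is the classical criterion for a unique involution.) -/
theorem result {G : Type*} [Group G] [Finite G] (p m s : ℕ) (hp : p.Prime) (hG : Nat.card G = p ^ m) (hs : 1 ≤ s) (hsm : s < m) (h2 : p ≠ 2 ∨ 2 ≤ s) (huniq : ∀ H K : Subgroup G, Nat.card H = p ^ s → Nat.card K = p ^ s → H = K) : IsCyclic G := by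
  classical
  have : Fact p.Prime := ⟨hp⟩
  have hpg : IsPGroup p G := IsPGroup.of_card hG
  obtain ⟨H₀, hH₀⟩ := Sylow.exists_subgroup_card_pow_prime (G := G) p (n := s) (hG ▸ pow_dvd_pow p hsm.le)
  have hHc : IsCyclic H₀ := by
    obtain ⟨g, -, hg⟩ := SetLike.exists_of_lt (show H₀ < ⊤ from lt_top_iff_ne_top.mpr fun h => by
      rw [h, card_top, hG] at hH₀
      exact hsm.ne' (Nat.pow_right_injective hp.two_le hH₀))
    obtain ⟨e, he⟩ := IsPGroup.iff_card.mp (hpg.to_subgroup (zpowers g))
    rcases Nat.lt_or_ge e s with hlt | hge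
    · exfalso
      obtain ⟨K, hK, hle⟩ := Sylow.exists_subgroup_card_pow_prime_le p (hG ▸ pow_dvd_pow p hsm.le) (zpowers g) he hlt.le
      exact hg (huniq K H₀ hK hH₀ ▸ hle (mem_zpowers g))
    · obtain ⟨K, hK⟩ := Sylow.exists_subgroup_card_pow_prime (G := zpowers g) p (n := s) (he ▸ pow_dvd_pow p hge)
      have heq := huniq (K.map (zpowers g).subtype) H₀ (by rw [card_map_of_injective (Subgroup.subtype_injective _)]; exact hK) hH₀
      have hle : H₀ ≤ zpowers g := heq ▸ map_subtype_le K
      exact isCyclic_of_injective (inclusion hle) (inclusion_injective hle)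
  have hsmall : ∀ t, t ≤ s → ∀ A B : Subgroup G, Nat.card A = p ^ t → Nat.card B = p ^ t → A = B := by
    intro t ht A B hA hB
    obtain ⟨A', hA', hAle⟩ := Sylow.exists_subgroup_card_pow_prime_le p (hG ▸ pow_dvd_pow p hsm.le) A hA ht
    obtain ⟨B', hB', hBle⟩ := Sylow.exists_subgroup_card_pow_prime_le p (hG ▸ pow_dvd_pow p hsm.le) B hB ht
    rw [huniq A' H₀ hA' hH₀] at hAle
    rw [huniq B' H₀ hB' hH₀] at hBle
    have h1 := S3975.card_subgroups_cyclic (C := H₀) (q := p ^ t) (hH₀ ▸ pow_dvd_pow p ht)
    have := (Nat.card_eq_one_iff_unique.mp h1).1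
    have h2 := Subsingleton.elim
      (⟨A.subgroupOf H₀, by rw [Nat.card_congr (subgroupOfEquivOfLe hAle).toEquiv]; exact hA⟩ : {H : Subgroup H₀ // Nat.card H = p ^ t})
      ⟨B.subgroupOf H₀, by rw [Nat.card_congr (subgroupOfEquivOfLe hBle).toEquiv]; exact hB⟩
    have h3 := congrArg (fun z => (z.1).map H₀.subtype) h2
    simpa [map_subgroupOf_eq_of_le hAle, map_subgroupOf_eq_of_le hBle] using h3
  refine isCyclic_subgroupOf_unique _ G p (if p = 2 then 2 else 1) le_rfl hp hpg (by split_ifs <;> omega)
    (fun h => if_pos h) (fun h => if_neg h)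
    (fun A B hA hB => hsmall 1 hs A B (by simpa using hA) (by simpa using hB))
    (hsmall _ (by split_ifs <;> omega))

end Cfsg.Agent.S3977
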