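import Cfsg.Statements.S3215
import Mathlib
import Cfsg.Agent.Lib.Coprime.PGroupAction
import Cfsg.Agent.Lib.Core.Layer
import Cfsg.Agent.Lib.Solv.FixedPointFree
import Cfsg.Agent.S3977
import Cfsg.Agent.Lib.Invol.Quaternion

set_option autoImplicit false
open Cfsg

namespace Cfsg.Agent.S3215


open scoped commutatorElement

theorem cyclic_of_unique_involution {A : Type*} [Group A] [Finite A] (hp : IsPGroup 2 A)
    (hc : ∀ a b : A, a * b = b * a) (hu : ∀ u v : A, u * u = 1 → u ≠ 1 → v * v = 1 → v ≠ 1 → u = v) : IsCyclic A := by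
  obtain ⟨a, ha⟩ := Finite.exists_max (fun u : A => orderOf u)
  obtain ⟨m, hm⟩ := IsPGroup.iff_orderOf.1 hp a
  refine ⟨a, fun u => ?_⟩
  show u ∈ Subgroup.zpowers a
  obtain ⟨k, hk⟩ := hp u
  induction k generalizing u with
  | zero => rw [show u = 1 by simpa using hk]; exact one_mem _
  | succ k ih =>
    have h2 := ih (u ^ 2) (by rw [← pow_mul, ← pow_succ', hk])
    rw [← mem_powers_iff_mem_zpowers, Submonoid.mem_powers_iff] at h2
    obtain ⟨j, hj⟩ := h2
    rcases m with _ | m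
    · have := ha u; rw [hm, pow_zero] at this
      rw [orderOf_eq_one_iff.1 (le_antisymm this (orderOf_pos u))]; exact one_mem _
    rcases Nat.even_or_odd j with ⟨i, rfl⟩ | hjo
    · have hsq : u * (a ^ i)⁻¹ * (u * (a ^ i)⁻¹) = 1 := by
        rw [← pow_two, Commute.mul_pow (hc _ _), ← hj, inv_pow, ← pow_mul, ← two_mul, Nat.mul_comm i 2, mul_inv_cancel]
      have hmem : u * (a ^ i)⁻¹ ∈ Subgroup.zpowers a := by
        by_cases h1 : u * (a ^ i)⁻¹ = 1
        · rw [h1]; exact one_mem _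
        · rw [hu _ (a ^ 2 ^ m) hsq h1 (by rw [← pow_add, ← two_mul, ← pow_succ', ← hm, pow_orderOf_eq_one])
            (pow_ne_one_of_lt_orderOf (by positivity) (by rw [hm, pow_succ]; have := Nat.two_pow_pos m; omega))]
          exact Subgroup.npow_mem_zpowers a _
      simpa using mul_mem hmem (Subgroup.npow_mem_zpowers a i)
    · exfalso
      have ho : orderOf (u ^ 2) = 2 ^ (m + 1) := by
        rw [← hj, Nat.Coprime.orderOf_pow (by rw [hm]; exact Nat.Coprime.pow_left _ hjo.coprime_two_left), hm]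
      have hle := ha u
      rw [hm] at hle
      have h1 : orderOf (u ^ 2) ∣ orderOf u := orderOf_pow_dvd 2
      have h2 : orderOf u = 2 ^ (m + 1) := le_antisymm hle (Nat.le_of_dvd (orderOf_pos u) (ho ▸ h1))
      rw [orderOf_pow, h2, Nat.gcd_eq_right (dvd_pow_self 2 (by omega)), pow_succ,
        Nat.mul_div_cancel _ (by norm_num : 0 < 2)] at ho
      have := Nat.two_pow_pos m
      omega


theorem fitting_le {H : Type*} [Group H] [Finite H] (hO : Cfsg.oddCore H = ⊥) :
    Cfsg.fittingSubgroup H ≤ Cfsg.pCore 2 H := by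
  rw [Cfsg.Lib.Core.fittingSubgroup_eq_iSup_pCore]
  refine iSup_le fun p => ?_
  by_cases h2 : (p : ℕ) = 2
  · rw [h2]
  have hle : Cfsg.pCore (p : ℕ) H ≤ Cfsg.pPrimeCore 2 H := by
    refine Cfsg.Lib.Core.le_pPrimeCore' inferInstance ?_
    haveI := Fact.mk p.2
    obtain ⟨n, hn⟩ := (Cfsg.Lib.Core.pCore_isPGroup (p : ℕ) H).exists_card_eq
    rw [hn]
    exact ((Nat.coprime_primes p.2 Nat.prime_two).2 h2).pow_left n
  exact (hle.trans hO.le).trans bot_le

variable {H : Type*} [Group H] [Finite H]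

theorem fpf (hsol : Group.IsSolvable H) (hO : Cfsg.oddCore H = ⊥)
    (hI : ∀ t : H, orderOf t = 2 → Cfsg.HasNormalPComplement 2 ↥(Subgroup.centralizer ({t} : Set H)))
    {x y : H} (hx : Odd (orderOf x)) (hx1 : x ≠ 1) (hy : y ∈ Cfsg.pCore 2 H) (hy1 : y ≠ 1) : x * y ≠ y * x := by
  intro hxy
  have := Fact.mk Nat.prime_two
  set Y := Cfsg.pCore 2 H with hY
  have hYp : IsPGroup 2 Y := Cfsg.Lib.Core.pCore_isPGroup 2 H
  obtain ⟨t, htY, ht, htx⟩ : ∃ t ∈ Y, orderOf t = 2 ∧ x * t = t * x := by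
    suffices h : ∀ k : ℕ, ∀ w ∈ Y, w ≠ 1 → Commute x w → w ^ 2 ^ k = 1 → ∃ t ∈ Y, orderOf t = 2 ∧ x * t = t * x by
      obtain ⟨k, hk⟩ := hYp ⟨y, hy⟩
      exact h k y hy hy1 hxy (congrArg Subtype.val hk)
    intro k
    induction k with
    | zero => intro w _ hw1 _ hk; exact absurd (by simpa using hk) hw1
    | succ k ih =>
      intro w hw hw1 hc hk
      by_cases h2 : w ^ 2 = 1
      · exact ⟨w, hw, orderOf_eq_prime h2 hw1, hc⟩
      · exact ih _ (Y.pow_mem hw 2) h2 (hc.pow_right 2) (by rw [← pow_mul, ← pow_succ', hk])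
  set C := Subgroup.centralizer ({t} : Set H) with hC
  obtain ⟨P, N, hN, hNc⟩ := hI t ht
  have hxC : x ∈ C := Subgroup.mem_centralizer_singleton_iff.2 htx
  have hPN := hNc.card_mul
  have hidx : N.index = Nat.card (P : Subgroup C) := hNc.symm.index_eq_card
  have hxN : (⟨x, hxC⟩ : C) ∈ N := by
    rw [← QuotientGroup.eq_one_iff, ← orderOf_eq_one_iff]
    refine Nat.eq_one_of_dvd_coprimes (a := orderOf x) (b := Nat.card (P : Subgroup C)) ?_
      ((orderOf_map_dvd (QuotientGroup.mk' N) (⟨x, hxC⟩ : C)).trans (Subgroup.orderOf_mk x hxC).dvd) ?_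
    · obtain ⟨n, hn⟩ := P.isPGroup'.exists_card_eq
      rw [hn]
      exact (Nat.coprime_two_right.2 hx).pow_right n
    · rw [← hidx]; exact orderOf_dvd_natCard _
  have hNodd : (Nat.card N).Coprime 2 := by
    have h1 : ¬ 2 ∣ (P : Subgroup C).index := P.not_dvd_index
    rw [hNc.index_eq_card] at h1
    exact (Nat.prime_two.coprime_iff_not_dvd.2 h1).symm
  set Q := Subgroup.zpowers x with hQ
  set T := Subgroup.zpowers t with hT
  have hYn : ∀ S : Subgroup H, S ≤ Subgroup.normalizer (Y : Set H) := fun S => by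
    rw [Subgroup.normalizer_eq_top_iff.2 (inferInstance : Y.Normal)]; exact le_top
  have hcent : Y ⊓ Subgroup.centralizer (T : Set H) ≤ Subgroup.centralizer (Q : Set H) := by
    intro u hu
    have hut : u * t = t * u := (Subgroup.mem_centralizer_iff.1 hu.2 t (Subgroup.mem_zpowers t)).symm
    have huC : u ∈ C := Subgroup.mem_centralizer_singleton_iff.2 hut
    set c : C := ⁅(⟨x, hxC⟩ : C), ⟨u, huC⟩⁆ with hc
    have hcN : c ∈ N := by
      rw [hc, commutatorElement_def, mul_assoc, mul_assoc]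
      refine N.mul_mem hxN ?_
      rw [← mul_assoc]
      exact hN.conj_mem _ (N.inv_mem hxN) _
    have hcY : (c : H) ∈ Y := by
      show x * u * x⁻¹ * u⁻¹ ∈ Y
      exact Y.mul_mem ((inferInstance : Y.Normal).conj_mem u hu.1 x) (Y.inv_mem hu.1)
    have hc1 : (c : H) = 1 := by
      obtain ⟨k, hk⟩ := IsPGroup.iff_orderOf.1 hYp ⟨(c : H), hcY⟩
      rw [Subgroup.orderOf_mk, Subgroup.orderOf_coe] at hk
      have : orderOf c ∣ Nat.card N := (Subgroup.orderOf_mk c hcN).symm.dvd.trans (orderOf_dvd_natCard _)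
      have h1 : orderOf c = 1 := Nat.eq_one_of_dvd_coprimes (hNodd.pow_right k) this hk.dvd
      rw [orderOf_eq_one_iff.1 h1]; rfl
    rw [Subgroup.mem_centralizer_iff]
    rintro _ ⟨i, rfl⟩
    have hc' : x * u * x⁻¹ * u⁻¹ = 1 := hc1
    rw [mul_inv_eq_one, mul_inv_eq_iff_eq_mul] at hc'
    exact ((show Commute x u from hc').zpow_left i).eq
  have hQT : Q ≤ Subgroup.centralizer (T : Set H) := by
    rw [hQ, Subgroup.zpowers_le, Subgroup.mem_centralizer_iff]
    rintro _ ⟨i, rfl⟩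
    exact ((show Commute x t from htx).zpow_right i).eq.symm
  have h := Cfsg.Lib.Coprime.commutator_eq_bot_of_AxB Y T Q hYp
    (IsPGroup.of_card (n := 1) (by rw [hT, Nat.card_zpowers, ht, pow_one]))
    (by rw [hQ, Nat.card_zpowers]; exact Nat.coprime_two_right.2 hx) (hYn T) (hYn Q) hQT hcent
  have hxc : x ∈ Subgroup.centralizer (Y : Set H) := Subgroup.mem_centralizer_iff.2 fun u hu =>
    commutatorElement_eq_one_iff_mul_comm.1 ((Subgroup.eq_bot_iff_forall _).1 h _
      (Subgroup.commutator_mem_commutator hu (Subgroup.mem_zpowers x)))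
  have hxF : x ∈ Cfsg.fittingSubgroup H := by
    haveI := hsol
    refine Cfsg.Lib.Core.centralizer_fitting_le_of_isSolvable (Subgroup.mem_centralizer_iff.2 fun u hu => ?_)
    exact Subgroup.mem_centralizer_iff.1 hxc u (fitting_le hO hu)
  obtain ⟨k, hk⟩ := IsPGroup.iff_orderOf.1 hYp ⟨x, fitting_le hO hxF⟩
  rw [Subgroup.orderOf_mk] at hk
  refine hx1 (orderOf_eq_one_iff.1 ?_)
  rcases k with _ | k
  · simpa using hk
  · rw [hk, pow_succ] at hx; exact absurd hx (Nat.not_odd_iff_even.2 ⟨2 ^ k, by ring⟩)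


/-- Let H be a finite solvable group with no nontrivial normal subgroup of odd order in which the centralizer of every involution has a normal 2-complement. Let X be a Hall 2'-subgroup of H (odd order, index a power of 2) and Y = O₂(H). Then no non-identity element of X commutes with a non-identity element of Y (so for X ≠ 1 the group XY is a Frobenius group with kernel Y), every Sylow subgroup of X is cyclic, XY is normal in H, and H/XY is a cyclic 2-group. -/
theorem result {H : Type*} [Group H] [Finite H] (hsol : Group.IsSolvable H)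
    (hO : Cfsg.oddCore H = ⊥)
    (hI : ∀ t : H, orderOf t = 2 → Cfsg.HasNormalPComplement 2 ↥(Subgroup.centralizer ({t} : Set H)))
    (X : Subgroup H) (hXodd : Odd (Nat.card X)) (hXidx : ∃ k : ℕ, X.index = 2 ^ k) :
    (∀ x ∈ X, x ≠ 1 → ∀ y ∈ Cfsg.pCore 2 H, y ≠ 1 → x * y ≠ y * x) ∧
      (∀ (p : ℕ) [Fact p.Prime] (P : Sylow p ↥X), IsCyclic ↥(P : Subgroup ↥X)) ∧
      (X ⊔ Cfsg.pCore 2 H).Normal ∧
      ∀ hN : (X ⊔ Cfsg.pCore 2 H).Normal, IsCyclic (H ⧸ (X ⊔ Cfsg.pCore 2 H)) ∧ IsPGroup 2 (H ⧸ (X ⊔ Cfsg.pCore 2 H)) := by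
  classical
  have := Fact.mk Nat.prime_two
  have := hsol
  set Y := Cfsg.pCore 2 H with hYd
  have hYp : IsPGroup 2 Y := Cfsg.Lib.Core.pCore_isPGroup 2 H
  obtain ⟨k0, hk0⟩ := hXidx
  have hoddX : ∀ x ∈ X, Odd (orderOf x) := fun x hx => by
    rw [← Subgroup.orderOf_mk x hx]
    exact hXodd.of_dvd_nat (orderOf_dvd_natCard _)
  have h1 : ∀ x ∈ X, x ≠ 1 → ∀ y ∈ Y, y ≠ 1 → x * y ≠ y * x := fun x hx hx1 y hy hy1 =>
    fpf hsol hO hI (hoddX x hx) hx1 hy hy1
  have hself : Subgroup.centralizer (Cfsg.fittingSubgroup H : Set H) ≤ Cfsg.fittingSubgroup H :=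
    Cfsg.Lib.Core.centralizer_fitting_le_of_isSolvable
  have hXne : X ≠ ⊥ → Y ≠ ⊥ := by
    intro hX hY
    obtain ⟨x, hx, hx1⟩ := X.bot_or_exists_ne_one.resolve_left hX
    have hF : Cfsg.fittingSubgroup H = ⊥ := le_bot_iff.1 (hY ▸ fitting_le hO)
    have : x ∈ Cfsg.fittingSubgroup H := hself (Subgroup.mem_centralizer_iff.2 fun u hu => by
      rw [hF] at hu
      have hu1 : u = 1 := hu
      rw [hu1, one_mul, mul_one])
    rw [hF] at this
    exact hx1 this
  have hcyc : ∀ (p : ℕ) [Fact p.Prime] (P : Sylow p ↥X), IsCyclic ↥(P : Subgroup ↥X) := by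
    intro p hp P
    obtain ⟨m, hm⟩ := P.isPGroup'.exists_card_eq
    rcases Nat.lt_or_ge 1 m with hm1 | hm1
    swap
    · interval_cases m
      · haveI : Subsingleton ↥(P : Subgroup ↥X) := (Nat.card_eq_one_iff_unique.1 (by simpa using hm)).1
        exact isCyclic_of_subsingleton
      · exact isCyclic_of_prime_card (p := p) (by simpa using hm)
    have hp2 : p ≠ 2 := fun h => by
      have hd : 2 ∣ Nat.card X := by
        refine (dvd_trans ?_ (Subgroup.card_subgroup_dvd_card (P : Subgroup ↥X)))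
        rw [hm, h]; exact dvd_pow_self 2 (by omega)
      exact Nat.not_even_iff_odd.2 hXodd (even_iff_two_dvd.2 hd)
    set R := (P : Subgroup ↥X).map X.subtype with hRd
    have hRcard : Nat.card R = p ^ m := by rw [hRd, Subgroup.card_map_of_injective X.subtype_injective, hm]
    have hRX : R ≤ X := Subgroup.map_subtype_le _
    -- abelian subgroups act without fixed points on the centre of `Y`
    have hXb : X ≠ ⊥ := fun h => by
      have h2 := Subgroup.card_dvd_of_le hRX
      rw [h, Subgroup.card_bot, hRcard, Nat.dvd_one] at h2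
      exact (Nat.one_lt_pow (by omega) hp.out.one_lt).ne' h2
    set V := (Subgroup.center Y).map Y.subtype with hVd
    have hVY : V ≤ Y := Subgroup.map_subtype_le _
    have hV : V ≠ ⊥ := by
      haveI : Nontrivial Y := (Subgroup.nontrivial_iff_ne_bot Y).2 (hXne hXb)
      have := hYp.center_nontrivial
      rw [Ne, Subgroup.map_eq_bot_iff_of_injective _ Y.subtype_injective]
      exact (Subgroup.nontrivial_iff_ne_bot _).1 this
    have habel : ∀ A : Subgroup H, A ≤ R → IsMulCommutative A → IsCyclic A := by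
      intro A hA hAc
      haveI := hAc
      refine Cfsg.Lib.Solv.isCyclic_of_fpf_abelian (V := V) hV ?_ (fun a ha ha1 => ?_)
      · exact le_trans (by rw [Subgroup.normalizer_eq_top_iff.2 (inferInstance : Y.Normal)]; exact le_top)
          (Cfsg.Lib.Core.normalizer_le_normalizer_map_char (H := Y) (Subgroup.center Y))
      · rw [Subgroup.eq_bot_iff_forall]
        rintro v ⟨hvV, hva⟩
        by_contra hv1
        exact h1 a (hRX (hA ha)) ha1 v (hVY hvV) hv1 (Subgroup.mem_centralizer_singleton_iff.1 hva).symm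
    haveI : Fact p.Prime := hp
    have hRp : IsPGroup p R := IsPGroup.of_card hRcard
    haveI : Nontrivial R := Finite.one_lt_card_iff_nontrivial.1 (by rw [hRcard]; exact Nat.one_lt_pow (by omega) hp.out.one_lt)
    have := hRp.center_nontrivial
    obtain ⟨n', hn', hn''⟩ := (hRp.to_subgroup (Subgroup.center R)).nontrivial_iff_card.1 inferInstance
    obtain ⟨z, hz⟩ := exists_prime_orderOf_dvd_card' (G := ↥(Subgroup.center R)) p (hn'' ▸ dvd_pow_self p (by omega))
    have hzo : orderOf (z : R) = p := by rw [Subgroup.orderOf_coe, hz]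
    have huniq : ∀ K : Subgroup R, Nat.card K = p ^ 1 → K = Subgroup.zpowers (z : R) := by
      intro K hK
      rw [pow_one] at hK
      obtain ⟨k, hk, hk1⟩ := K.bot_or_exists_ne_one.resolve_left (fun h => by
        rw [h, Subgroup.card_bot] at hK; exact hp.out.one_lt.ne hK)
      have hKz : Subgroup.zpowers k = K := by
        refine Subgroup.eq_of_le_of_card_ge (Subgroup.zpowers_le.2 hk) ?_
        rw [hK, Nat.card_zpowers]
        have hd : orderOf k ∣ p := hK ▸ (Subgroup.orderOf_mk k hk).symm.dvd.trans (orderOf_dvd_natCard _)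
        rcases (Nat.dvd_prime hp.out).1 hd with h | h
        · exact absurd (orderOf_eq_one_iff.1 h) hk1
        · exact h.ge
      set A := Subgroup.closure ({(z : R), k} : Set R) with hA
      have hAc : IsMulCommutative A := by
        refine ⟨⟨fun u v => ?_⟩⟩
        have hle : A ≤ Subgroup.centralizer (A : Set R) := by
          rw [hA, Subgroup.centralizer_closure, Subgroup.closure_le]
          have hzc : ∀ g : R, g * (z : R) = (z : R) * g := Subgroup.mem_center_iff.1 z.2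
          rintro w (rfl | rfl) <;> rw [SetLike.mem_coe, Subgroup.mem_centralizer_iff] <;> rintro v (rfl | rfl)
          · rfl
          · exact hzc _
          · exact (hzc _).symm
          · rfl
        exact Subtype.ext (Subgroup.mem_centralizer_iff.1 (hle v.2) u u.2)
      have hAcyc : IsCyclic A := by
        have := habel (A.map R.subtype) (Subgroup.map_subtype_le _) inferInstance
        exact isCyclic_of_surjective (A.equivMapOfInjective _ R.subtype_injective).symm
          (MulEquiv.surjective _)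
      haveI := hAcyc
      have hzA : (z : R) ∈ A := Subgroup.subset_closure (by simp)
      have hkA : k ∈ A := Subgroup.subset_closure (by simp)
      have hko : orderOf k = p := by rw [← Nat.card_zpowers, hKz, hK]
      have e1 := Cfsg.Lib.Invol.zpowers_eq_of_cyclic (x := (⟨k, hkA⟩ : A)) (y := ⟨(z : R), hzA⟩)
        ((Subgroup.orderOf_mk k hkA).trans (hko.trans (hzo.symm.trans (Subgroup.orderOf_mk _ hzA).symm)))
      have e2 := congrArg (Subgroup.map A.subtype) e1
      rw [MonoidHom.map_zpowers, MonoidHom.map_zpowers] at e2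
      exact hKz.symm.trans e2
    have hRc : IsCyclic R := Cfsg.Agent.S3977.result p m 1 hp.out hRcard le_rfl hm1 (Or.inl hp2)
      fun A B hA hB => (huniq A hA).trans (huniq B hB).symm
    exact isCyclic_of_surjective ((P : Subgroup ↥X).equivMapOfInjective _ X.subtype_injective).symm
      (MulEquiv.surjective _)
  set q := QuotientGroup.mk' Y with hq
  set Xb := X.map q with hXb
  have hXbcard : Nat.card Xb ∣ Nat.card X := Subgroup.card_map_dvd X q
  have hXbodd : Odd (Nat.card Xb) := hXodd.of_dvd_nat hXbcard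
  have hker : ∀ u : H, q u = 1 ↔ u ∈ Y := fun u => QuotientGroup.eq_one_iff u
  haveI hsolq : Group.IsSolvable (H ⧸ Y) := inferInstance
  set F := Cfsg.fittingSubgroup (H ⧸ Y) with hFd
  -- `F` has odd order
  have hFodd : Odd (Nat.card F) := by
    by_contra hev
    rw [Nat.not_odd_iff_even, even_iff_two_dvd] at hev
    obtain ⟨u, hu⟩ := exists_prime_orderOf_dvd_card' (G := F) 2 hev
    haveI := Cfsg.Lib.Core.fittingSubgroup_isNilpotent (H ⧸ Y)
    obtain ⟨S2⟩ : Nonempty (Sylow 2 F) := inferInstance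
    have hS2 : (S2 : Subgroup F).Normal := Sylow.normal_of_normalizerCondition normalizerCondition_of_isNilpotent S2
    haveI := hS2
    haveI : (S2 : Subgroup F).Characteristic := Sylow.characteristic_of_normal S2 hS2
    have hne : (S2 : Subgroup F) ≠ ⊥ := fun h => by
      have h2 : ¬ 2 ∣ (S2 : Subgroup F).index := S2.not_dvd_index
      rw [h, Subgroup.index_bot] at h2
      exact h2 hev
    have h3 : (S2 : Subgroup F).map F.subtype ≤ Cfsg.pCore 2 (H ⧸ Y) :=
      Cfsg.Lib.Core.le_pCore' inferInstance (S2.isPGroup'.map _)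
    rw [Cfsg.Lib.Core.pCore_quotient_pCore_eq_bot, le_bot_iff, Subgroup.map_eq_bot_iff_of_injective _ F.subtype_injective] at h3
    exact hne h3
  have hXbidx : ∃ k, Xb.index = 2 ^ k := by
    obtain ⟨k, -, hk⟩ := (Nat.dvd_prime_pow Nat.prime_two).1 (hk0 ▸ Subgroup.index_map_dvd X (QuotientGroup.mk'_surjective Y))
    exact ⟨k, hk⟩
  have hFX : F ≤ Xb := by
    obtain ⟨k, hk⟩ := hXbidx
    have hXn : Xb ≤ Subgroup.normalizer (F : Set (H ⧸ Y)) := by
      rw [Subgroup.normalizer_eq_top_iff.2 (Cfsg.Lib.Core.fittingSubgroup_normal' (H ⧸ Y))]; exact le_top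
    haveI : F.Normal := Cfsg.Lib.Core.fittingSubgroup_normal' (H ⧸ Y)
    have hc := Cfsg.Lib.Core.coprime_card_sup (p := 2) (H := Xb) (K := F)
      (Nat.coprime_two_right.2 hXbodd) (Nat.coprime_two_right.2 hFodd)
    have h2 : Xb.relIndex (Xb ⊔ F) = 1 := by
      refine Nat.eq_one_of_dvd_coprimes (hc.pow_right k) ?_ (hk ▸ Dvd.intro _ (Subgroup.relIndex_mul_index le_sup_left))
      exact Subgroup.relIndex_dvd_card Xb (Xb ⊔ F)
    exact le_sup_right.trans (Subgroup.relIndex_eq_one.1 h2)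
  haveI hFn : F.Normal := Cfsg.Lib.Core.fittingSubgroup_normal' (H ⧸ Y)
  haveI hFcyc : IsCyclic F := by
    haveI : IsZGroup X := ⟨fun p hp P => @hcyc p ⟨hp⟩ P⟩
    haveI : IsZGroup Xb := IsZGroup.of_surjective (q.subgroupMap_surjective X)
    haveI : IsZGroup F := IsZGroup.of_injective (f := Subgroup.inclusion hFX) (Subgroup.inclusion_injective hFX)
    haveI := Cfsg.Lib.Core.fittingSubgroup_isNilpotent (H ⧸ Y)
    exact inferInstance
  have hFc : ∀ a b : H ⧸ Y, a * b * a⁻¹ * b⁻¹ ∈ F := by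
    intro a b
    refine Cfsg.Lib.Core.centralizer_fitting_le_of_isSolvable (Subgroup.mem_centralizer_iff.2 fun f hf => ?_)
    obtain ⟨g, hg⟩ := IsCyclic.exists_generator (α := F)
    have hexp : ∀ a : H ⧸ Y, ∃ k : ℤ, ∀ f ∈ F, a * f * a⁻¹ = f ^ k := by
      intro a
      obtain ⟨k, hk⟩ := Subgroup.mem_zpowers_iff.1 (hg ⟨a * g * a⁻¹, hFn.conj_mem _ g.2 a⟩)
      have hk' : (g : H ⧸ Y) ^ k = a * g * a⁻¹ := congrArg Subtype.val hk
      refine ⟨k, fun f hf => ?_⟩
      obtain ⟨i, hi⟩ := Subgroup.mem_zpowers_iff.1 (hg ⟨f, hf⟩)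
      have hi' : (g : H ⧸ Y) ^ i = f := congrArg Subtype.val hi
      rw [← hi', ← conj_zpow, ← hk', ← zpow_mul, ← zpow_mul, Int.mul_comm]
    obtain ⟨ka, hka⟩ := hexp a
    obtain ⟨kb, hkb⟩ := hexp b
    have e : a * (b * f * b⁻¹) * a⁻¹ = b * (a * f * a⁻¹) * b⁻¹ := by
      rw [hka _ (hFn.conj_mem f hf b), hkb f hf, hkb _ (hFn.conj_mem f hf a), hka f hf, ← zpow_mul, ← zpow_mul, Int.mul_comm]
    set w := a⁻¹ * b⁻¹ * f * b * a with hw
    have hwF : w ∈ F := by
      rw [show w = a⁻¹ * b⁻¹ * f * (a⁻¹ * b⁻¹)⁻¹ by rw [hw]; group]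
      exact hFn.conj_mem f hf (a⁻¹ * b⁻¹)
    have e2 : ∀ f ∈ F, a * (b * f * b⁻¹) * a⁻¹ = b * (a * f * a⁻¹) * b⁻¹ := fun f hf => by
      rw [hka _ (hFn.conj_mem f hf b), hkb f hf, hkb _ (hFn.conj_mem f hf a), hka f hf, ← zpow_mul, ← zpow_mul, Int.mul_comm]
    have e3 := e2 w hwF
    calc f * (a * b * a⁻¹ * b⁻¹) = (b * (a * w * a⁻¹) * b⁻¹) * (a * b * a⁻¹ * b⁻¹) := by rw [hw]; group
      _ = (a * (b * w * b⁻¹) * a⁻¹) * (a * b * a⁻¹ * b⁻¹) := by rw [e3]
      _ = a * b * a⁻¹ * b⁻¹ * f := by rw [hw]; group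
  have hXbn : Xb.Normal := ⟨fun x hx a => by
    have := Xb.mul_mem (hFX (hFc a x)) hx
    rwa [inv_mul_cancel_right] at this⟩
  have hcomap : X ⊔ Y = Xb.comap q := by rw [hXb, Subgroup.comap_map_eq, QuotientGroup.ker_mk']
  have hXYn : (X ⊔ Y).Normal := hcomap ▸ hXbn.comap q
  refine ⟨h1, hcyc, hXYn, fun hN => ?_⟩
  -- no involution of `H / Y` centralizes a nontrivial element of `X Y / Y`
  have hnofix : ∀ u : H ⧸ Y, u * u = 1 → u ≠ 1 → ∀ f ∈ Xb, f ≠ 1 → u * f ≠ f * u := by
    rintro u hu2 hu1 _ ⟨x, hx, rfl⟩ hf1 huf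
    obtain ⟨g, rfl⟩ := QuotientGroup.mk'_surjective Y u
    have hx1 : x ≠ 1 := fun h => hf1 (by rw [h, map_one])
    set A := Subgroup.zpowers x with hA
    have hcop : (Nat.card A).Coprime (Nat.card Y) := by
      obtain ⟨n, hn⟩ := hYp.exists_card_eq
      rw [hA, Nat.card_zpowers, hn]
      exact (Nat.coprime_two_right.2 (hoddX x hx)).pow_right n
    have hAY : A ≤ Subgroup.normalizer (Y : Set H) := by
      rw [Subgroup.normalizer_eq_top_iff.2 (inferInstance : Y.Normal)]; exact le_top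
    have hcm : ∀ a ∈ A, g * a * g⁻¹ * a⁻¹ ∈ Y := by
      rintro _ ⟨i, rfl⟩
      rw [← hker, map_mul, map_mul, map_mul, map_inv, map_inv, map_zpow]
      rw [((show Commute (q g) (q x) from huf).zpow_right i).eq, mul_inv_cancel_right, mul_inv_cancel]
    have hB : A.map (MulAut.conj g).toMonoidHom ≤ Y ⊔ A := by
      rintro _ ⟨a, ha, rfl⟩
      have he : g * a * g⁻¹ = (g * a * g⁻¹ * a⁻¹) * a := by group
      show g * a * g⁻¹ ∈ Y ⊔ A
      rw [he]
      exact Subgroup.mul_mem_sup (hcm a ha) ha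
    obtain ⟨n, hn, hBn⟩ := Cfsg.Lib.Coprime.exists_conj_of_coprime Y A _ hAY hcop (Or.inl inferInstance) hB
      (Cfsg.Lib.Coprime.card_map_conj _ _)
    set c := n⁻¹ * g with hc
    have hqc : q c = q g := by rw [hc, map_mul, map_inv, (hker n).2 hn, inv_one, one_mul]
    have h1' : n⁻¹ * (g * x * g⁻¹) * n ∈ A :=
      Cfsg.Lib.Coprime.mem_map_conj_iff.1 (hBn ▸ ⟨x, Subgroup.mem_zpowers x, rfl⟩ : g * x * g⁻¹ ∈ A.map (MulAut.conj n).toMonoidHom)
    have h2 : c * x * c⁻¹ * x⁻¹ ∈ A := by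
      have := A.mul_mem h1' (A.inv_mem (Subgroup.mem_zpowers x))
      simpa [hc, mul_assoc] using this
    have h3 : c * x * c⁻¹ * x⁻¹ ∈ Y := by
      rw [← hker, map_mul, map_mul, map_mul, map_inv, map_inv, hqc, huf, mul_inv_cancel_right, mul_inv_cancel]
    have h4 := Subgroup.disjoint_def.1 (Cfsg.Lib.Coprime.disjoint_of_coprime_card hcop) h2 h3
    have hcx : c * x = x * c := mul_inv_eq_iff_eq_mul.1 (mul_inv_eq_one.1 h4)
    have hc2Y : c * c ∈ Y := by rw [← hker, map_mul, hqc]; exact hu2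
    have hc2 : c * c = 1 := by
      by_contra hne
      exact h1 x hx hx1 _ hc2Y hne ((show Commute c x from hcx).symm.mul_right (show Commute c x from hcx).symm).eq
    have hc1 : c ≠ 1 := fun h => hu1 (by rw [← hqc, h, map_one])
    have hco : orderOf c = 2 := orderOf_eq_prime (by rw [pow_two, hc2]) hc1
    -- `x` and a fixed point of `c` on `Y` both centralize `c`
    have hYne : Y ≠ ⊥ := hXne fun h => hx1 (by rw [h] at hx; exact hx)
    haveI : Nontrivial Y := (Subgroup.nontrivial_iff_ne_bot Y).2 hYne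
    obtain ⟨y, hy, hy1, hcy⟩ : ∃ y ∈ Y, y ≠ 1 ∧ c * y = y * c := by
      let f : Y → Y := fun y => ⟨(y : H) * (c * y * c⁻¹), Y.mul_mem y.2 ((inferInstance : Y.Normal).conj_mem _ y.2 c)⟩
      by_contra hno
      push Not at hno
      obtain ⟨e, he⟩ := hYp.exists_card_eq
      have h2d : 2 ∣ Nat.card Y := by
        rw [he]; rcases e with _ | e
        · exact absurd he (by have := Finite.one_lt_card (α := Y); omega)
        · exact dvd_pow_self 2 (by omega)
      let σ : Equiv.Perm Y := (MulAut.conjNormal c).toEquiv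
      have hσ : σ ^ 2 ^ 1 = 1 := Equiv.ext fun y => by
        apply Subtype.ext
        show ((MulAut.conjNormal c) ((MulAut.conjNormal c) y) : H) = y
        rw [MulAut.conjNormal_apply, MulAut.conjNormal_apply]
        calc c * (c * (y : H) * c⁻¹) * c⁻¹ = (c * c) * y * (c * c)⁻¹ := by group
          _ = y := by rw [hc2, one_mul, inv_one, mul_one]
      haveI := Fintype.ofFinite Y
      rw [Nat.card_eq_fintype_card] at h2d
      obtain ⟨y, hy, hy1⟩ := Equiv.Perm.exists_fixed_point_of_prime' (p := 2) h2d hσ (a := (1 : Y)) (map_one (MulAut.conjNormal c))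
      refine hno y y.2 (fun h => hy1 (Subtype.ext h)) (mul_inv_eq_iff_eq_mul.1 ?_)
      have := congrArg Subtype.val hy
      rwa [show ((σ y : Y) : H) = c * y * c⁻¹ from MulAut.conjNormal_apply c y] at this
    -- the centralizer of `c` has a normal 2-complement
    obtain ⟨P, N, hNn, hNc⟩ := hI c hco
    have hxC : x ∈ Subgroup.centralizer ({c} : Set H) := Subgroup.mem_centralizer_singleton_iff.2 hcx.symm
    have hyC : y ∈ Subgroup.centralizer ({c} : Set H) := Subgroup.mem_centralizer_singleton_iff.2 hcy.symm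
    have hxN : (⟨x, hxC⟩ : Subgroup.centralizer ({c} : Set H)) ∈ N := by
      rw [← QuotientGroup.eq_one_iff, ← orderOf_eq_one_iff]
      refine Nat.eq_one_of_dvd_coprimes (a := orderOf x) (b := Nat.card (P : Subgroup (Subgroup.centralizer ({c} : Set H)))) ?_
        ((orderOf_map_dvd (QuotientGroup.mk' N) (⟨x, hxC⟩ : Subgroup.centralizer ({c} : Set H))).trans (Subgroup.orderOf_mk x hxC).dvd) ?_
      · obtain ⟨n, hn⟩ := P.isPGroup'.exists_card_eq
        rw [hn]
        exact (Nat.coprime_two_right.2 (hoddX x hx)).pow_right n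
      · rw [← hNc.symm.index_eq_card]; exact orderOf_dvd_natCard _
    have hNodd : (Nat.card N).Coprime 2 := by
      have h := P.not_dvd_index
      rw [hNc.index_eq_card] at h
      exact (Nat.prime_two.coprime_iff_not_dvd.2 h).symm
    set w : Subgroup.centralizer ({c} : Set H) := ⟨x, hxC⟩ * ⟨y, hyC⟩ * ⟨x, hxC⟩⁻¹ * ⟨y, hyC⟩⁻¹ with hw
    have hwN : w ∈ N := by
      rw [hw, mul_assoc, mul_assoc]
      refine N.mul_mem hxN ?_
      rw [← mul_assoc]
      exact hNn.conj_mem _ (N.inv_mem hxN) _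
    have hwY : (w : H) ∈ Y := Y.mul_mem ((inferInstance : Y.Normal).conj_mem y hy x) (Y.inv_mem hy)
    obtain ⟨e, he⟩ := IsPGroup.iff_orderOf.1 hYp ⟨(w : H), hwY⟩
    rw [Subgroup.orderOf_mk, Subgroup.orderOf_coe] at he
    have hw1 : orderOf w = 1 := Nat.eq_one_of_dvd_coprimes (hNodd.pow_right e)
      ((Subgroup.orderOf_mk w hwN).symm.dvd.trans (orderOf_dvd_natCard _)) he.dvd
    have hw1' : x * y * x⁻¹ * y⁻¹ = 1 := congrArg Subtype.val (orderOf_eq_one_iff.1 hw1)
    exact h1 x hx hx1 y hy hy1 (mul_inv_eq_iff_eq_mul.1 (mul_inv_eq_one.1 hw1'))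
  let π := QuotientGroup.mk' (X ⊔ Y)
  have hπ : ∀ g : H, π g = 1 ↔ q g ∈ Xb := fun g => by
    rw [show π g = 1 ↔ g ∈ X ⊔ Y from QuotientGroup.eq_one_iff g, hcomap]; rfl
  have hcommQ : ∀ a b : H ⧸ (X ⊔ Y), a * b = b * a := by
    intro a b
    obtain ⟨a, rfl⟩ := QuotientGroup.mk'_surjective (X ⊔ Y) a
    obtain ⟨b, rfl⟩ := QuotientGroup.mk'_surjective (X ⊔ Y) b
    rw [← mul_inv_eq_one, mul_inv_rev]
    have h := (hπ (a * b * a⁻¹ * b⁻¹)).2 (by rw [map_mul, map_mul, map_mul, map_inv, map_inv]; exact hFX (hFc _ _))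
    rw [map_mul, map_mul, map_mul, map_inv, map_inv] at h
    rw [← mul_assoc]; exact h
  have hp2 : IsPGroup 2 (H ⧸ (X ⊔ Y)) := by
    obtain ⟨e, -, he⟩ := (Nat.dvd_prime_pow Nat.prime_two).1 (hk0 ▸ Subgroup.index_dvd_of_le (le_sup_left : X ≤ X ⊔ Y))
    exact IsPGroup.of_card (n := e) (by rw [← Subgroup.index_eq_card, he])
  refine ⟨cyclic_of_unique_involution hp2 hcommQ ?_, hp2⟩
  -- lift involutions
  have hlift : ∀ u : H ⧸ (X ⊔ Y), u * u = 1 → u ≠ 1 → ∃ g : H, π g = u ∧ q g * q g = 1 ∧ q g ≠ 1 := by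
    intro u hu2 hu1
    obtain ⟨g, rfl⟩ := QuotientGroup.mk'_surjective (X ⊔ Y) u
    obtain ⟨e, m, hm, hgm⟩ := Nat.exists_eq_two_pow_mul_odd (orderOf_pos g).ne'
    obtain ⟨m', rfl⟩ := hm
    refine ⟨g ^ (2 * m' + 1), ?_, ?_, fun h => hu1 ?_⟩
    · rw [map_pow, pow_succ, pow_mul, pow_two, hu2, one_pow, one_mul]
    · have hmem : q (g ^ (2 * m' + 1)) * q (g ^ (2 * m' + 1)) ∈ Xb := by
        rw [← map_mul, ← hπ, map_mul, map_pow, ← pow_add, ← two_mul, pow_mul, pow_two, hu2, one_pow]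
      have ho1 : orderOf (q (g ^ (2 * m' + 1)) * q (g ^ (2 * m' + 1))) ∣ 2 ^ e := by
        refine orderOf_dvd_of_pow_eq_one ?_
        rw [← map_mul, ← map_pow, ← pow_add, ← pow_mul, ← two_mul, Nat.mul_assoc, Nat.mul_comm (2 * m' + 1) (2 ^ e), ← hgm,
          Nat.mul_comm, pow_mul, pow_orderOf_eq_one, one_pow, map_one]
      have ho2 : orderOf (q (g ^ (2 * m' + 1)) * q (g ^ (2 * m' + 1))) ∣ Nat.card Xb :=
        (Subgroup.orderOf_mk _ hmem).symm.dvd.trans (orderOf_dvd_natCard _)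
      exact orderOf_eq_one_iff.1 (Nat.eq_one_of_dvd_coprimes ((Nat.coprime_two_right.2 hXbodd).pow_right e) ho2 ho1)
    · have : π (g ^ (2 * m' + 1)) = 1 := (hπ _).2 (by rw [h]; exact Xb.one_mem)
      rw [map_pow, pow_succ, pow_mul, pow_two, hu2, one_pow, one_mul] at this
      exact this
  intro u v hu hu1 hv hv1
  obtain ⟨g, rfl, hg2, hg1⟩ := hlift u hu hu1
  obtain ⟨g', rfl, hg'2, hg'1⟩ := hlift v hv hv1
  have hinv : ∀ w : H ⧸ Y, w * w = 1 → w ≠ 1 → ∀ f ∈ F, w * f * w⁻¹ = f⁻¹ := by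
    intro w hw2 hw1 f hf
    have hwi : w⁻¹ = w := inv_eq_of_mul_eq_one_left hw2
    set f' := w * f * w⁻¹ with hf'
    have hf'F : f' ∈ F := hFn.conj_mem f hf w
    have hcom : f * f' = f' * f := congrArg Subtype.val (IsCyclic.commGroup.mul_comm (⟨f, hf⟩ : F) ⟨f', hf'F⟩)
    have hfix : w * (f * f') * w⁻¹ = f * f' := by
      calc w * (f * f') * w⁻¹ = f' * ((w * w) * f * (w⁻¹ * w⁻¹)) := by rw [hf']; group
        _ = f' * f := by rw [hwi, hw2, one_mul, mul_one]
        _ = f * f' := hcom.symm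
    by_contra hne
    refine hnofix w hw2 hw1 _ (hFX (F.mul_mem hf hf'F)) (fun h => hne ?_) (mul_inv_eq_iff_eq_mul.1 hfix)
    exact (inv_eq_of_mul_eq_one_right h).symm
  rw [← inv_mul_eq_one, ← map_inv, ← map_mul, hπ]
  refine hFX (Cfsg.Lib.Core.centralizer_fitting_le_of_isSolvable (Subgroup.mem_centralizer_iff.2 fun f hf => ?_))
  rw [map_mul, map_inv, inv_eq_of_mul_eq_one_left hg2]
  refine (mul_inv_eq_iff_eq_mul.1 ?_).symm
  calc q g * q g' * f * (q g * q g')⁻¹ = q g * (q g' * f * (q g')⁻¹) * (q g)⁻¹ := by group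
    _ = f := by rw [hinv _ hg'2 hg'1 f hf, hinv _ hg2 hg1 _ (F.inv_mem hf), inv_inv]

end Cfsg.Agent.S3215
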