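import Cfsg.Statements.S2131
import Cfsg.Agent.Lib.H3.JankoOne
import Cfsg.Agent.Lib.Recog.Icosahedral
import Cfsg.Agent.Lib.Dickson.Binary
import Mathlib.GroupTheory.SpecificGroups.Alternating.Centralizer

set_option linter.style.haveILetI false

set_option autoImplicit false
open Cfsg

namespace Cfsg.Agent.S2131

open Cfsg.Lib.J1 Cfsg.Lib.H3.JankoOne

def wt : List Bool := [false, true, false, true, true, true, true]

def wu : List Bool := [false, true, false, false, true, true, true, true, false]

def wv : List Bool := [true, false, true, false, true, true, true, false, false, true, true, true, false, true, false]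

theorem checks : (exOK 2 wt && (exOK 2 wu && (exOK 3 wv && (exOK 5 (wu ++ wv) &&
    (beq (wordP (wt ++ wu)) (wordP (wu ++ wt)) && beq (wordP (wt ++ wv)) (wordP (wv ++ wt))))))) = true := by
  decide +kernel

theorem bad_orders : ∀ r ∈ [7, 11, 19], ∀ n ∈ ordList, ¬ 2 * r ∣ n := by decide

/-- The Janko group J₁ (the group generated by two explicit 7 × 7 matrices over the integers modulo 11) has an involution whose centraliser is isomorphic to the direct product of a group of order 2 with the alternating group of degree 5. -/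
theorem result : ∃ t : ↥Cfsg.Spor.J1, orderOf t = 2 ∧ Nonempty (↥(Subgroup.centralizer ({t} : Set ↥Cfsg.Spor.J1)) ≃* Multiplicative (ZMod 2) × ↥(alternatingGroup (Fin 5))) := by
  classical
  have h := checks
  simp only [Bool.and_eq_true] at h
  obtain ⟨h2, hu, hv, huv, ctu, ctv⟩ := h
  set t := wordG wt
  set u := wordG wu
  set v := wordG wv
  have ht : orderOf t = 2 := orderOf_wordG (by norm_num) h2
  have hu' : u ^ 2 = 1 := orderOf_dvd_iff_pow_eq_one.1 (orderOf_wordG (by norm_num) hu).dvd
  have hv' : v ^ 3 = 1 := orderOf_dvd_iff_pow_eq_one.1 (orderOf_wordG (by norm_num) hv).dvd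
  have huv' : (u * v) ^ 5 = 1 := by
    rw [← wordG_append]
    exact orderOf_dvd_iff_pow_eq_one.1 (orderOf_wordG (by norm_num) huv).dvd
  have hu1 : u ≠ 1 := fun e => by
    have := orderOf_wordG (by norm_num) hu
    rw [show wordG wu = 1 from e, orderOf_one] at this
    norm_num at this
  set C := Subgroup.centralizer ({t} : Set ↥Cfsg.Spor.J1) with hC
  have huC : u ∈ C := Subgroup.mem_centralizer_singleton_iff.2 (comm_of_check ctu).symm
  have hvC : v ∈ C := Subgroup.mem_centralizer_singleton_iff.2 (comm_of_check ctv).symm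
  clear_value t u v
  set K : Subgroup ↥Cfsg.Spor.J1 := Subgroup.closure {u, v} with hK
  have hKC : K ≤ C := by
    rw [hK, Subgroup.closure_le]
    rintro x (rfl | rfl)
    exacts [huC, hvC]
  let a : K := ⟨v, Subgroup.subset_closure (Or.inr rfl)⟩
  let b : K := ⟨(u * v)⁻¹, K.inv_mem (K.mul_mem (Subgroup.subset_closure (Or.inl rfl)) (Subgroup.subset_closure (Or.inr rfl)))⟩
  let u' : K := ⟨u, Subgroup.subset_closure (Or.inl rfl)⟩
  have hgen' : Subgroup.closure {u', a} = (⊤ : Subgroup K) := by
    apply Subgroup.map_injective K.subtype_injective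
    rw [MonoidHom.map_closure, ← MonoidHom.range_eq_map, Subgroup.range_subtype, Set.image_pair]
    exact hK.symm
  have hgen : Subgroup.closure {a, b} = (⊤ : Subgroup K) := by
    rw [eq_top_iff, ← hgen', Subgroup.closure_le]
    have e : u' = (a * b)⁻¹ := Subtype.ext (by show u = (v * (u * v)⁻¹)⁻¹; group)
    rintro x (rfl | rfl)
    · rw [e]
      exact Subgroup.inv_mem _ (Subgroup.mul_mem _ (Subgroup.subset_closure (Or.inl rfl)) (Subgroup.subset_closure (Or.inr rfl)))
    · exact Subgroup.subset_closure (Or.inl rfl)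
  have ha : a ^ 3 = 1 := Subtype.ext hv'
  have hb : b ^ 5 = 1 := Subtype.ext (by show ((u * v)⁻¹) ^ 5 = 1; rw [inv_pow, huv', inv_one])
  have hab : (a * b) ^ 2 = 1 := Subtype.ext (by
    show (v * (u * v)⁻¹) ^ 2 = 1
    rw [mul_inv_rev, mul_inv_cancel_left, inv_pow, hu', inv_one])
  have hle := (Cfsg.Lib.Recog.Icosa.finite_card_le_sixty hgen ha hb hab).2
  have hu'1 : u' ≠ 1 := fun e => hu1 (congrArg (fun q : K => (q : ↥Cfsg.Spor.J1)) e)
  have r1 : u' ^ 2 = 1 := Subtype.ext (by rw [SubmonoidClass.coe_pow]; exact hu')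
  have r2 : a ^ 3 = 1 := ha
  have r3 : (u' * a) ^ 5 = 1 := Subtype.ext (by rw [SubmonoidClass.coe_pow]; exact huv')
  obtain ⟨e5⟩ := Cfsg.Lib.Dickson.iso_alternating_five_of_relations (x := u') (y := a) hgen'
    r1 r2 r3 hu'1 hle
  have hK60 : Nat.card K = 60 := by
    rw [Nat.card_congr e5.toEquiv, nat_card_alternatingGroup, Nat.card_eq_fintype_card, Fintype.card_fin]
    rfl
  have htK : t ∉ K := by
    intro htK
    have hz : (e5 ⟨t, htK⟩) ∈ Subgroup.center (alternatingGroup (Fin 5)) := Subgroup.mem_center_iff.2 fun y => by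
      obtain ⟨x, rfl⟩ := e5.surjective y
      rw [← map_mul, ← map_mul]
      exact congrArg e5 (Subtype.ext (Subgroup.mem_centralizer_singleton_iff.1 (hKC x.2)))
    rw [alternatingGroup.center_eq_bot (by simp : 4 ≤ Nat.card (Fin 5)), Subgroup.mem_bot, map_eq_one_iff _ e5.injective] at hz
    have := congrArg Subtype.val hz
    rw [show t = 1 from this, orderOf_one] at ht
    norm_num at ht
  have hcomm : ∀ (x : Subgroup.zpowers (⟨t, Subgroup.mem_centralizer_singleton_iff.2 rfl⟩ : C)) (y : K),
      Commute (x : C) (Subgroup.inclusion hKC y) := by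
    intro x y
    obtain ⟨k, hk⟩ := Subgroup.mem_zpowers_iff.1 x.2
    rw [← hk]
    refine Commute.zpow_left ?_ k
    exact Subtype.ext (Subgroup.mem_centralizer_singleton_iff.1 (hKC y.2)).symm
  set tc : C := ⟨t, Subgroup.mem_centralizer_singleton_iff.2 rfl⟩ with htc
  let f := MonoidHom.noncommCoprod (Subgroup.zpowers tc).subtype (Subgroup.inclusion hKC) hcomm
  have hinj : Function.Injective f := by
    rw [injective_iff_map_eq_one]
    rintro ⟨⟨x, hx⟩, y⟩ h
    replace h : x * Subgroup.inclusion hKC y = 1 := h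
    obtain ⟨k, rfl⟩ := Subgroup.mem_zpowers_iff.1 hx
    have htc2 : tc * tc = 1 := Subtype.ext (by
      show t * t = 1
      rw [← pow_two]; exact orderOf_dvd_iff_pow_eq_one.1 ht.dvd)
    rcases Int.even_or_odd' k with ⟨l, rfl | rfl⟩
    · have e1 : tc ^ (2 * l) = 1 := by rw [zpow_mul, zpow_two, htc2, one_zpow]
      rw [e1, one_mul] at h
      refine Prod.ext (Subtype.ext e1) ?_
      exact Subgroup.inclusion_injective hKC (h.trans (map_one _).symm)
    · have e1 : tc ^ (2 * l + 1) = tc := by rw [zpow_add, zpow_mul, zpow_two, htc2, one_zpow, one_mul, zpow_one]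
      rw [e1] at h
      refine absurd ?_ htK
      have h' : t * (y : ↥Cfsg.Spor.J1) = 1 := congrArg Subtype.val h
      rw [eq_inv_of_mul_eq_one_left h']
      exact K.inv_mem y.2
  have hdvd : Nat.card C ∣ 120 := by
    have h1 : Nat.card C ∣ 175560 := card_J ▸ Subgroup.card_subgroup_dvd_card C
    have h3 : ∀ r ∈ [7, 11, 19], ¬ r ∣ Nat.card C := by
      intro r hr hd
      have hrp : r.Prime := by fin_cases hr <;> norm_num
      haveI : Fact r.Prime := ⟨hrp⟩
      obtain ⟨g, hg⟩ := exists_prime_orderOf_dvd_card' (G := C) r hd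
      have hc : Commute (g : ↥Cfsg.Spor.J1) t := Subgroup.mem_centralizer_singleton_iff.1 g.2
      have hg' : orderOf (g : ↥Cfsg.Spor.J1) = r := by rw [Subgroup.orderOf_coe, hg]
      have ho := hc.orderOf_mul_eq_mul_orderOf_of_coprime (by
        rw [hg', ht]; fin_cases hr <;> norm_num)
      exact bad_orders r hr _ (orderOf_mem _) (by rw [ho, hg', ht, mul_comm])
    have hcop : Nat.Coprime (Nat.card C) 1463 := by
      rw [show (1463 : ℕ) = 7 * 11 * 19 from rfl]
      refine Nat.Coprime.mul_right (Nat.Coprime.mul_right ?_ ?_) ?_ <;>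
        refine Nat.Coprime.symm ((Nat.Prime.coprime_iff_not_dvd (by norm_num)).2 (h3 _ (by decide)))
    exact hcop.dvd_of_dvd_mul_right (show Nat.card C ∣ 120 * 1463 from h1)
  have htc1 : orderOf tc = 2 := by rw [← Subgroup.orderOf_coe]; exact ht
  have hdom : Nat.card (Subgroup.zpowers tc × K) = 120 := by
    rw [Nat.card_prod, Nat.card_zpowers, htc1, hK60]
  have hbij : Function.Bijective f := (Nat.bijective_iff_injective_and_card f).2 ⟨hinj,
    le_antisymm (Nat.card_le_card_of_injective f hinj) (hdom.symm ▸ Nat.le_of_dvd (by norm_num) hdvd)⟩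
  haveI : Fact (Nat.Prime 2) := ⟨Nat.prime_two⟩
  have e2 : Subgroup.zpowers tc ≃* Multiplicative (ZMod 2) := mulEquivOfPrimeCardEq (p := 2)
    (by rw [Nat.card_zpowers, htc1]) (by rw [Nat.card_congr Multiplicative.toAdd, Nat.card_zmod])
  exact ⟨t, ht, ⟨(MulEquiv.ofBijective f hbij).symm.trans (e2.prodCongr e5)⟩⟩

end Cfsg.Agent.S2131
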