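import Cfsg.Statements.S1644
import Cfsg.Agent.Lib.J1Unique.TwoCentral
import Cfsg.Agent.S2131

set_option autoImplicit false
open Cfsg

namespace Cfsg.Agent.S1644

/-- The first Janko group recognised by an involution centraliser, at the level of isomorphism: a finite simple group with abelian Sylow 2-subgroups of order 8 and an involution whose centraliser is isomorphic to Z/2 × A₅ is isomorphic to the subgroup of GL(7, 11) generated by the two explicit Janko matrices. -/
theorem result {G : Type*} [Group G] [Finite G] [IsSimpleGroup G] (S : Sylow 2 G) (hS : IsMulCommutative (S : Subgroup G)) (h8 : Nat.card S = 8) (t : G) (ht : orderOf t = 2) (e : (Subgroup.centralizer ({t} : Set G)) ≃* Multiplicative (ZMod 2) × alternatingGroup (Fin 5)) : Cfsg.Spor.IsoJ1 G := by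
  haveI : IsSimpleGroup ↥Cfsg.Spor.J1 := Cfsg.Lib.H3.JankoOne.simple_J
  haveI : Finite ↥Cfsg.Spor.J1 :=
    Nat.finite_of_card_ne_zero (by rw [Cfsg.Lib.H3.JankoOne.card_J]; norm_num)
  obtain ⟨u, hu, ⟨f⟩⟩ := Cfsg.Agent.S2131.result
  refine Cfsg.Lib.J1Unique.iso e (Cfsg.Lib.J1Unique.isTwoCentral ht e ?_)
    (Cfsg.Lib.J1Unique.isTwoCentral hu f ?_) f
  · intro h16
    haveI : Fact (Nat.Prime 2) := ⟨Nat.prime_two⟩
    have := S.pow_dvd_card_of_pow_dvd_card (n := 4) (by norm_num; exact h16)
    rw [h8] at this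
    norm_num at this
  · rw [Cfsg.Lib.H3.JankoOne.card_J]; norm_num

end Cfsg.Agent.S1644
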