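import Cfsg.Statements.S1203
import Cfsg.Agent.S1190
import Cfsg.Agent.S1191
-- import your own Cfsg.Agent.* helpers here

set_option autoImplicit false
open Cfsg

namespace Cfsg.Agent.S1203


open Subgroup
open scoped Pointwise
open scoped IsKleinFour

theorem mem_mul_centralizer {G : Type*} [Group G] (Q : Subgroup G) (g : G)
    (hg : g ∈ Q ⊔ Subgroup.centralizer (Q : Set G)) :
    g ∈ (Q : Set G) * (Subgroup.centralizer (Q : Set G) : Set G) := by
  have hle : Subgroup.centralizer (Q : Set G) ≤ Subgroup.normalizer (Q : Set G) :=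
    Subgroup.centralizer_le_normalizer (Q : Set G)
  rw [← Subgroup.coe_mul_of_right_le_normalizer_left Q _ hle]
  exact hg

theorem card_mulAut_dvd_six {V : Type*} [Group V] [IsKleinFour V] : Nat.card (MulAut V) ∣ 6 := by
  classical
  let f : MulAut V →* Equiv.Perm {x : V // x ≠ 1} :=
    { toFun := fun σ => σ.toEquiv.subtypeEquiv (fun x => by simp)
      map_one' := by ext; rfl
      map_mul' := fun σ τ => by ext; rfl }
  have hf : Function.Injective f := by
    intro σ τ h; ext x
    rcases eq_or_ne x 1 with rfl | hx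
    · simp
    · exact congrArg Subtype.val (Equiv.congr_fun h ⟨x, hx⟩)
  have : Nat.card {x : V // x ≠ 1} = 3 := by
    have : Fintype V := Fintype.ofFinite V
    have h4 : Fintype.card V = 4 := IsKleinFour.card_four'
    rw [Nat.card_eq_fintype_card, Fintype.card_subtype_compl, Fintype.card_subtype_eq, h4]
  have h := Subgroup.card_dvd_of_injective f hf
  rw [Nat.card_perm, this] at h
  exact h

theorem two_or_six {G A : Type*} [Group G] [Group A] [Finite A] (hA : Nat.card A ∣ 6)
    {K N : Subgroup G} (f : ↥N →* A) (hker : f.ker = K.subgroupOf N)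
    {s : G} (hsN : s ∈ N) (hsK : s ∉ K) {k : ℕ} (hs : s ^ 2 ^ k = 1) :
    K.relIndex N = 2 ∨ K.relIndex N = 6 := by
  have e : K.relIndex N = Nat.card f.range := by
    rw [Subgroup.relIndex, ← hker, Subgroup.index_ker]
  have h6 : K.relIndex N ∣ 6 := e ▸ (Subgroup.card_subgroup_dvd_card _).trans hA
  have h2 : 2 ∣ K.relIndex N := by
    have h1 : orderOf (f.rangeRestrict ⟨s, hsN⟩) ∣ 2 ^ k := by
      apply orderOf_dvd_of_pow_eq_one
      rw [← map_pow]
      have : (⟨s, hsN⟩ : ↥N) ^ 2 ^ k = 1 := Subtype.ext (by simpa using hs)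
      rw [this, map_one]
    obtain ⟨i, _, hi⟩ := (Nat.dvd_prime_pow Nat.prime_two).mp h1
    have h0 : i ≠ 0 := by
      rintro rfl
      rw [pow_zero, orderOf_eq_one_iff] at hi
      have : (⟨s, hsN⟩ : ↥N) ∈ K.subgroupOf N := by
        rw [← hker, MonoidHom.mem_ker]; exact congrArg Subtype.val hi
      exact hsK (Subgroup.mem_subgroupOf.mp this)
    rw [e]
    exact ((dvd_pow_self 2 h0).trans hi.symm.dvd).trans (orderOf_dvd_natCard _)
  have hle : K.relIndex N ≤ 6 := Nat.le_of_dvd (by norm_num) h6
  revert h6 h2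
  generalize K.relIndex N = n at hle
  intro h6 h2
  interval_cases n <;> omega

theorem quat_aut {σ : MulAut (QuaternionGroup 2)}
    (hi : σ (QuaternionGroup.a 1) * (QuaternionGroup.a 1)⁻¹ ∈ center (QuaternionGroup 2))
    (hj : σ (QuaternionGroup.xa 0) * (QuaternionGroup.xa 0)⁻¹ ∈ center (QuaternionGroup 2)) :
    ∃ q, σ = MulAut.conj q := by
  have key : ∀ u v : QuaternionGroup 2,
      (∀ g, g * (u * (QuaternionGroup.a 1)⁻¹) = (u * (QuaternionGroup.a 1)⁻¹) * g) →
      (∀ g, g * (v * (QuaternionGroup.xa 0)⁻¹) = (v * (QuaternionGroup.xa 0)⁻¹) * g) →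
      ∃ q : QuaternionGroup 2, q * QuaternionGroup.a 1 * q⁻¹ = u ∧
        q * QuaternionGroup.xa 0 * q⁻¹ = v := by decide
  obtain ⟨q, h1, h2⟩ := key _ _ (Subgroup.mem_center_iff.mp hi) (Subgroup.mem_center_iff.mp hj)
  refine ⟨q, ?_⟩
  have hall : ∀ g : QuaternionGroup 2, ∃ i : Fin 4, g = (QuaternionGroup.a 1) ^ (i : ℕ) ∨
      g = QuaternionGroup.xa 0 * (QuaternionGroup.a 1) ^ (i : ℕ) := by decide
  ext g
  rcases hall g with ⟨i, rfl | rfl⟩ <;> simp only [map_mul, map_pow, MulAut.conj_apply, h1, h2]

theorem quat_quot : IsKleinFour (QuaternionGroup 2 ⧸ center (QuaternionGroup 2)) := by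
  constructor
  · have h := Subgroup.card_eq_card_quotient_mul_card_subgroup (center (QuaternionGroup 2))
    have hz : Nat.card (center (QuaternionGroup 2)) = 2 := by
      rw [Nat.card_eq_fintype_card]; decide
    rw [hz, Nat.card_eq_fintype_card (α := QuaternionGroup 2), QuaternionGroup.card] at h
    omega
  · apply Nat.dvd_antisymm
    · rw [Monoid.exponent_dvd_iff_forall_pow_eq_one]
      intro x
      induction x using QuotientGroup.induction_on with
      | _ g =>
        rw [← QuotientGroup.mk_pow, QuotientGroup.eq_one_iff, Subgroup.mem_center_iff]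
        revert g; decide
    · have hne : QuotientGroup.mk (s := center (QuaternionGroup 2)) (QuaternionGroup.a 1) ≠ 1 := by
        rw [Ne, QuotientGroup.eq_one_iff, Subgroup.mem_center_iff]
        decide
      have := Monoid.order_dvd_exponent
        (QuotientGroup.mk (s := center (QuaternionGroup 2)) (QuaternionGroup.a 1))
      have h2 : orderOf (QuotientGroup.mk (s := center (QuaternionGroup 2))
          (QuaternionGroup.a 1)) = 2 := by
        apply orderOf_eq_prime _ hne
        rw [← QuotientGroup.mk_pow, QuotientGroup.eq_one_iff, Subgroup.mem_center_iff]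
        decide
      rwa [h2] at this

/-- Kernel of the action of `Aut Q₈` on `Q₈ / Z`. -/
theorem quat_hom : ∃ (A : Type) (_ : Group A) (_ : Finite A), Nat.card A ∣ 6 ∧
    ∃ f : MulAut (QuaternionGroup 2) →* A, f.ker = (MulAut.conj (G := QuaternionGroup 2)).range := by
  let Z := center (QuaternionGroup 2)
  haveI := quat_quot
  let f : MulAut (QuaternionGroup 2) →* MulAut (QuaternionGroup 2 ⧸ Z) :=
    { toFun := fun σ => QuotientGroup.congr Z Z σ (by
        ext x
        rw [Subgroup.mem_map]
        constructor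
        · rintro ⟨y, hy, rfl⟩
          refine Subgroup.mem_center_iff.mpr fun g => ?_
          have := congrArg σ (Subgroup.mem_center_iff.mp hy (σ.symm g))
          simpa using this
        · intro hx
          refine ⟨σ.symm x, Subgroup.mem_center_iff.mpr fun g => ?_, by simp⟩
          have := congrArg σ.symm (Subgroup.mem_center_iff.mp hx (σ g))
          simpa using this)
      map_one' := by
        ext x
        induction x using QuotientGroup.induction_on with
        | _ g => rfl
      map_mul' := fun σ τ => by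
        ext x
        induction x using QuotientGroup.induction_on with
        | _ g => rfl }
  refine ⟨MulAut (QuaternionGroup 2 ⧸ Z), inferInstance, inferInstance, card_mulAut_dvd_six, f, ?_⟩
  ext σ
  rw [MonoidHom.mem_ker, MonoidHom.mem_range]
  constructor
  · intro h
    have hg : ∀ g, σ g * g⁻¹ ∈ Z := by
      intro g
      have h1 : ((σ g : QuaternionGroup 2) : QuaternionGroup 2 ⧸ Z) = g :=
        DFunLike.congr_fun h (g : QuaternionGroup 2 ⧸ Z)
      rw [← QuotientGroup.eq_one_iff, QuotientGroup.mk_mul, QuotientGroup.mk_inv, h1,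
        mul_inv_cancel]
    obtain ⟨q, hq⟩ := quat_aut (hg _) (hg _)
    exact ⟨q, hq.symm⟩
  · rintro ⟨q, rfl⟩
    ext x
    induction x using QuotientGroup.induction_on with
    | _ g =>
      show (((MulAut.conj q) g : QuaternionGroup 2) : QuaternionGroup 2 ⧸ Z) = g
      rw [MulAut.conj_apply, QuotientGroup.eq, Subgroup.mem_center_iff]
      revert q g; decide


/-- Let G be a finite group with quasi-dihedral Sylow 2-subgroup S, T a Klein four-subgroup of S and Q a quaternion subgroup of order 8 of S. Then |N_G(T) : C_G(T)| ∈ {2, 6} and |N_G(Q) : Q C_G(Q)| ∈ {2, 6}. -/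
theorem result {G : Type*} [Group G] [Finite G] (S : Sylow 2 G) (hS : Cfsg.IsQuasiDihedral (S : Subgroup G)) (T : Subgroup G) (hT : IsKleinFour T) (hTS : T ≤ S) (Q : Subgroup G) (hQS : Q ≤ S) (eQ : Q ≃* QuaternionGroup 2) : ((Subgroup.centralizer (T : Set G)).relIndex (Subgroup.normalizer (T : Set G)) = 2 ∨ (Subgroup.centralizer (T : Set G)).relIndex (Subgroup.normalizer (T : Set G)) = 6) ∧ ((Q ⊔ Subgroup.centralizer (Q : Set G)).relIndex (Subgroup.normalizer (Q : Set G)) = 2 ∨ (Q ⊔ Subgroup.centralizer (Q : Set G)).relIndex (Subgroup.normalizer (Q : Set G)) = 6) := by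
  classical
  constructor
  · have hT' : IsKleinFour ↥(T.subgroupOf (S : Subgroup G)) := by
      have e := Subgroup.subgroupOfEquivOfLe hTS
      exact ⟨by rw [Nat.card_congr e.toEquiv]; exact hT.card_four,
        by rw [Monoid.exponent_eq_of_mulEquiv e]; exact hT.exponent_two⟩
    obtain ⟨hc, hr⟩ := (S1190.result hS).2 _ hT'
    have hlt : ¬ Subgroup.normalizer ((T.subgroupOf (S : Subgroup G) : Subgroup ↥S) : Set ↥S) ≤
        T.subgroupOf (S : Subgroup G) := by
      intro h; rw [Subgroup.relIndex_eq_one.mpr h] at hr; exact absurd hr (by norm_num)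
    obtain ⟨s, hsN, hsT⟩ := SetLike.not_le_iff_exists.mp hlt
    have hsN' : (s : G) ∈ Subgroup.normalizer (T : Set G) := by
      rw [Subgroup.mem_normalizer_iff]
      intro x
      have key := Subgroup.mem_normalizer_iff.mp hsN
      constructor
      · intro hx
        exact Subgroup.mem_subgroupOf.mp ((key ⟨x, hTS hx⟩).mp (Subgroup.mem_subgroupOf.mpr hx))
      · intro hx
        have hxS : x ∈ (S : Subgroup G) := by
          have := (S : Subgroup G).mul_mem ((S : Subgroup G).mul_mem
            ((S : Subgroup G).inv_mem s.2) (hTS hx)) s.2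
          simpa [mul_assoc] using this
        exact Subgroup.mem_subgroupOf.mp ((key ⟨x, hxS⟩).mpr (Subgroup.mem_subgroupOf.mpr hx))
    have hsC : (s : G) ∉ Subgroup.centralizer (T : Set G) := by
      intro h
      apply hsT
      rw [← hc, Subgroup.mem_centralizer_iff]
      intro t ht
      exact Subtype.ext (Subgroup.mem_centralizer_iff.mp h _ (Subgroup.mem_subgroupOf.mp ht))
    obtain ⟨k, hk⟩ := S.isPGroup' s
    exact two_or_six card_mulAut_dvd_six T.normalizerMonoidHom T.normalizerMonoidHom_ker hsN' hsC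
      (congrArg Subtype.val hk)
  · have hQ' : Nonempty (↥(Q.subgroupOf (S : Subgroup G)) ≃* QuaternionGroup 2) :=
      ⟨(Subgroup.subgroupOfEquivOfLe hQS).trans eQ⟩
    obtain ⟨hc, hr⟩ := (S1191.result hS).2 _ hQ'
    have hlt : ¬ Subgroup.normalizer ((Q.subgroupOf (S : Subgroup G) : Subgroup ↥S) : Set ↥S) ≤
        Q.subgroupOf (S : Subgroup G) := by
      intro h; rw [Subgroup.relIndex_eq_one.mpr h] at hr; exact absurd hr (by norm_num)
    obtain ⟨s, hsN, hsT⟩ := SetLike.not_le_iff_exists.mp hlt
    have hsN' : (s : G) ∈ Subgroup.normalizer (Q : Set G) := by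
      rw [Subgroup.mem_normalizer_iff]
      intro x
      have key := Subgroup.mem_normalizer_iff.mp hsN
      constructor
      · intro hx
        exact Subgroup.mem_subgroupOf.mp ((key ⟨x, hQS hx⟩).mp (Subgroup.mem_subgroupOf.mpr hx))
      · intro hx
        have hxS : x ∈ (S : Subgroup G) := by
          have := (S : Subgroup G).mul_mem ((S : Subgroup G).mul_mem
            ((S : Subgroup G).inv_mem s.2) (hQS hx)) s.2
          simpa [mul_assoc] using this
        exact Subgroup.mem_subgroupOf.mp ((key ⟨x, hxS⟩).mpr (Subgroup.mem_subgroupOf.mpr hx))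
    obtain ⟨A, _, _, hA, f, hf⟩ := quat_hom
    let ψ : ↥(Subgroup.normalizer (Q : Set G)) →* A :=
      f.comp ((MulAut.congr eQ).toMonoidHom.comp Q.normalizerMonoidHom)
    have hker : ψ.ker = (Q ⊔ Subgroup.centralizer (Q : Set G)).subgroupOf
        (Subgroup.normalizer (Q : Set G)) := by
      ext g
      rw [Subgroup.mem_subgroupOf, MonoidHom.mem_ker]
      have hmem : ψ g = 1 ↔ (MulAut.congr eQ) (Q.normalizerMonoidHom g) ∈
          (MulAut.conj (G := QuaternionGroup 2)).range := by
        rw [← hf, MonoidHom.mem_ker]; rfl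
      rw [hmem, MonoidHom.mem_range]
      constructor
      · rintro ⟨q, hq⟩
        have hq' : ∀ x : ↥Q, (g : G) * x * (g : G)⁻¹ =
            (eQ.symm q : ↥Q) * (x : G) * ((eQ.symm q : ↥Q) : G)⁻¹ := by
          intro x
          have h1 := congrArg eQ.symm (DFunLike.congr_fun hq (eQ x))
          simp [MulAut.congr] at h1
          exact (congrArg Subtype.val h1).symm
        have : ((eQ.symm q : ↥Q) : G)⁻¹ * g ∈ Subgroup.centralizer (Q : Set G) := by
          rw [Subgroup.mem_centralizer_iff]
          intro x hx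
          have h1 := hq' ⟨x, hx⟩
          calc x * (((eQ.symm q : ↥Q) : G)⁻¹ * g)
              = ((eQ.symm q : ↥Q) : G)⁻¹ * ((eQ.symm q : ↥Q) * x * ((eQ.symm q : ↥Q) : G)⁻¹) * g
                := by group
            _ = ((eQ.symm q : ↥Q) : G)⁻¹ * ((g : G) * x * (g : G)⁻¹) * g := by rw [h1]
            _ = ((eQ.symm q : ↥Q) : G)⁻¹ * g * x := by group
        have := mul_mem (Subgroup.mem_sup_left (T := Subgroup.centralizer (Q : Set G))
          (eQ.symm q).2) (Subgroup.mem_sup_right (S := Q) this)
        simpa using this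
      · intro hg
        obtain ⟨a, ha, c, hc', hac⟩ := Set.mem_mul.mp
          (mem_mul_centralizer Q g hg)
        refine ⟨eQ ⟨a, ha⟩, ?_⟩
        ext y
        obtain ⟨x, rfl⟩ := eQ.surjective y
        have : (Q.normalizerMonoidHom g x : ↥Q) = ⟨a, ha⟩ * x * ⟨a, ha⟩⁻¹ := by
          apply Subtype.ext
          show (g : G) * x * (g : G)⁻¹ = a * x * a⁻¹
          rw [← hac, mul_inv_rev]
          have := Subgroup.mem_centralizer_iff.mp hc' x x.2
          calc a * c * x * (c⁻¹ * a⁻¹) = a * (c * x) * c⁻¹ * a⁻¹ := by group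
            _ = a * (x * c) * c⁻¹ * a⁻¹ := by rw [this]
            _ = a * x * a⁻¹ := by group
        simp [MulAut.congr, this]
    have hsC : (s : G) ∉ Q ⊔ Subgroup.centralizer (Q : Set G) := by
      intro h
      obtain ⟨a, ha, c, hc', hac⟩ := Set.mem_mul.mp
        (mem_mul_centralizer Q s h)
      have hcS : c ∈ (S : Subgroup G) := by
        have := (S : Subgroup G).mul_mem ((S : Subgroup G).inv_mem (hQS ha)) s.2
        rw [← hac] at this
        simpa using this
      have : (⟨c, hcS⟩ : ↥(S : Subgroup G)) ∈ Subgroup.centralizer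
          ((Q.subgroupOf (S : Subgroup G) : Subgroup ↥S) : Set ↥S) := by
        rw [Subgroup.mem_centralizer_iff]
        intro t ht
        exact Subtype.ext (Subgroup.mem_centralizer_iff.mp hc' _ (Subgroup.mem_subgroupOf.mp ht))
      rw [hc] at this
      have h2 : c ∈ Q := Subgroup.mem_subgroupOf.mp (Subgroup.map_subtype_le _ this)
      exact hsT (Subgroup.mem_subgroupOf.mpr (hac ▸ Q.mul_mem ha h2))
    obtain ⟨k, hk⟩ := S.isPGroup' s
    exact two_or_six hA ψ hker hsN' hsC (congrArg Subtype.val hk)

end Cfsg.Agent.S1203
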