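import Cfsg.Statements.S1241
import Mathlib.GroupTheory.Transfer
import Mathlib.GroupTheory.Abelianization.Defs
-- import your own Cfsg.Agent.* helpers here

set_option autoImplicit false
open Cfsg

namespace Cfsg.Agent.S1241

/-- Let G be a finite group, p a prime, H a subgroup of index prime to p, K a subgroup of H normal in H with H/K commutative, and g ∈ H ∖ K an element of p-power order such that for all integers m and all a ∈ G with a g^m a⁻¹ ∈ H one has a g^m a⁻¹ ∈ g^m K. Then g ∉ G'. -/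
theorem result {G : Type*} [Group G] [Finite G] {p : ℕ} [Fact p.Prime] (H K : Subgroup G) (hHK : K ≤ H) (hKn : (K.subgroupOf H).Normal) (hab : ∀ x ∈ H, ∀ y ∈ H, x * y * x⁻¹ * y⁻¹ ∈ K) (hidx : Nat.Coprime p H.index) (g : G) (hgH : g ∈ H) (hgK : g ∉ K) (hgp : ∃ k : ℕ, orderOf g = p ^ k) (hctrl : ∀ (m : ℤ) (a : G), a * g ^ m * a⁻¹ ∈ H → (a * g ^ m * a⁻¹) * (g ^ m)⁻¹ ∈ K) : g ∉ commutator G := by
  intro hgc
  classical
  set K' := K.subgroupOf H with hK'
  haveI : K'.Normal := hKn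
  letI : CommGroup (↥H ⧸ K') :=
    { QuotientGroup.Quotient.group K' with
      mul_comm := by
        intro x y
        obtain ⟨a, rfl⟩ := QuotientGroup.mk_surjective x
        obtain ⟨b, rfl⟩ := QuotientGroup.mk_surjective y
        refine QuotientGroup.eq.mpr (Subgroup.mem_subgroupOf.mpr ?_)
        have := hab _ (H.inv_mem b.2) _ (H.inv_mem a.2)
        simpa [mul_assoc] using this }
  let φ : ↥H →* ↥H ⧸ K' := QuotientGroup.mk' K'
  haveI : H.FiniteIndex := inferInstance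
  letI := H.fintypeQuotientOfFiniteIndex
  have h1 : MonoidHom.transfer φ g = 1 := Abelianization.commutator_subset_ker _ hgc
  rw [MonoidHom.transfer_eq_prod_quotient_orbitRel_zpowers_quot] at h1
  have hterm : ∀ (m : ℕ) (a : G) (ha : a⁻¹ * g ^ m * a ∈ H),
      φ ⟨a⁻¹ * g ^ m * a, ha⟩ = φ ⟨g, hgH⟩ ^ m := by
    intro m a ha
    have h2 := hctrl (m : ℤ) a⁻¹ (by simpa using ha)
    rw [← map_pow, eq_comm]
    refine QuotientGroup.eq.mpr (Subgroup.mem_subgroupOf.mpr ?_)
    have h3 : (⟨a⁻¹ * g ^ m * a, ha⟩ : ↥H).1 * ((g ^ m)⁻¹) ∈ K := by simpa using h2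
    have h4 := hab _ (H.inv_mem (H.pow_mem hgH m)) _ ha
    have h5 := K.mul_mem h4 h3
    simpa [mul_assoc] using h5
  rw [Finset.prod_congr rfl (fun q _ => hterm _ _ _)] at h1
  rw [Finset.prod_pow_eq_pow_sum, ← Subgroup.index_eq_sum_minimalPeriod H g] at h1
  obtain ⟨k, hk⟩ := hgp
  have h6 : φ ⟨g, hgH⟩ ^ (p ^ k) = 1 := by
    rw [← map_pow, ← map_one φ]
    refine congrArg φ (Subtype.ext ?_)
    show g ^ (p ^ k) = 1
    rw [← hk]
    exact pow_orderOf_eq_one g
  have h7 : φ ⟨g, hgH⟩ = 1 := by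
    have := pow_gcd_eq_one.mpr ⟨h6, h1⟩
    rwa [Nat.Coprime.pow_left k hidx, pow_one] at this
  exact hgK (Subgroup.mem_subgroupOf.mp ((QuotientGroup.eq_one_iff _).mp h7))

end Cfsg.Agent.S1241
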