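import Cfsg.Statements.S1204
import Cfsg.Agent.Lib.TwoGroup.QDFusion
-- import your own Cfsg.Agent.* helpers here

set_option autoImplicit false
open Cfsg

namespace Cfsg.Agent.S1204
open Subgroup
open Cfsg.Lib.TwoGroup
open Cfsg.Lib.TwoGroup.QDFusion
open scoped commutatorElement

/-- Let G be a finite group with quasi-dihedral Sylow 2-subgroup S, T a Klein four-subgroup and Q a quaternion subgroup of order 8 of S, with |N_G(T) : C_G(T)| = 6 and |N_G(Q) : Q C_G(Q)| = 6. Then G has no subgroup of index 2, exactly one conjugacy class of involutions and exactly one conjugacy class of elements of order 4. -/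
theorem result {G : Type*} [Group G] [Finite G] (S : Sylow 2 G) (hS : Cfsg.IsQuasiDihedral (S : Subgroup G)) (T : Subgroup G) (hT : IsKleinFour T) (hTS : T ≤ S) (Q : Subgroup G) (hQS : Q ≤ S) (eQ : Q ≃* QuaternionGroup 2) (h₁ : (Subgroup.centralizer (T : Set G)).relIndex (Subgroup.normalizer (T : Set G)) = 6) (h₂ : (Q ⊔ Subgroup.centralizer (Q : Set G)).relIndex (Subgroup.normalizer (Q : Set G)) = 6) : (∀ H : Subgroup G, H.index ≠ 2) ∧ Nat.card {C : ConjClasses G // ∃ t : G, orderOf t = 2 ∧ ConjClasses.mk t = C} = 1 ∧ Nat.card {C : ConjClasses G // ∃ t : G, orderOf t = 4 ∧ ConjClasses.mk t = C} = 1 := by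
  classical
  haveI : Fact (Nat.Prime 2) := ⟨Nat.prime_two⟩
  obtain ⟨n, ⟨d⟩⟩ := exists_sd hS
  have hzo : orderOf (d.z : G) = 2 := by rw [Subgroup.orderOf_coe, d.orderOf_z]
  have hyo : orderOf (d.y : G) = 2 := by rw [Subgroup.orderOf_coe, d.hy]
  have hio : orderOf ((d.x ^ SD.P n : ↥(S : Subgroup G)) : G) = 4 := by
    rw [Subgroup.orderOf_coe, orderOf_iG S d]
  have hjo : orderOf ((d.x * d.y : ↥(S : Subgroup G)) : G) = 4 := by
    rw [Subgroup.orderOf_coe]
    simpa using d.orderOf_odd 0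
  have hzy := isConj_z_of_six S d T hT hTS h₁
  have hij := isConj_four_of_six S d Q hQS eQ h₂
  refine ⟨fun H hH => ?_, count_one (d.z : G) hzo fun u hu => (involution_classes S d u hu).elim id fun h => h.trans hzy.symm, count_one ((d.x ^ SD.P n : ↥(S : Subgroup G)) : G) hio
      fun u hu => (four_classes S d u hu).elim id fun h => h.trans hij.symm⟩
  haveI := Subgroup.normal_of_index_eq_two hH
  have hconj : ∀ {a b : G}, IsConj a b → a ∈ H → b ∈ H := by
    intro a b hab ha
    obtain ⟨g, rfl⟩ := isConj_iff.mp hab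
    exact ‹H.Normal›.conj_mem a ha g
  have hz : (d.z : G) ∈ H := by
    have e : d.z = d.x ^ SD.P n * d.x ^ SD.P n := by
      rw [← zpow_add, SD.z]; congr 1; ring
    rw [e, Subgroup.coe_mul]
    exact Subgroup.mul_self_mem_of_index_two hH _
  have hy := hconj hzy hz
  have hi : ((d.x ^ SD.P n : ↥(S : Subgroup G)) : G) ∈ H := by
    have e : d.x ^ SD.P n = d.x ^ ((2 : ℤ) ^ (n - 3)) * d.x ^ ((2 : ℤ) ^ (n - 3)) := by
      rw [← zpow_add, d.two_pow.2.2]; congr 1; ring
    rw [e, Subgroup.coe_mul]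
    exact Subgroup.mul_self_mem_of_index_two hH _
  have hj := hconj hij hi
  have hx : (d.x : G) ∈ H := by
    rw [Subgroup.coe_mul] at hj
    exact (H.mul_mem_cancel_right hy).mp hj
  have hSH : (S : Subgroup G) ≤ H := by
    intro s hs
    obtain ⟨k, hk | hk⟩ := d.normal_form ⟨s, hs⟩
    · have : s = (d.x : G) ^ k := by rw [← Subgroup.coe_zpow, ← hk]
      rw [this]; exact zpow_mem hx k
    · have : s = (d.x : G) ^ k * (d.y : G) := by rw [← Subgroup.coe_zpow, ← Subgroup.coe_mul, ← hk]
      rw [this]; exact mul_mem (zpow_mem hx k) hy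
  have h1 := Subgroup.index_dvd_of_le hSH
  rw [hH] at h1
  exact S.not_dvd_index h1

end Cfsg.Agent.S1204
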