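import Cfsg.Statements.S1205
import Cfsg.Agent.Lib.TwoGroup.QDFusion
import Cfsg.Agent.S0111
-- import your own Cfsg.Agent.* helpers here

set_option autoImplicit false
open Cfsg

namespace Cfsg.Agent.S1205
open Subgroup
open Cfsg.Lib.TwoGroup
open Cfsg.Lib.TwoGroup.QDFusion
open scoped commutatorElement

/-- Let G be a finite group with quasi-dihedral Sylow 2-subgroup S, T a Klein four-subgroup and Q a quaternion subgroup of order 8 of S, with |N_G(T) : C_G(T)| = 2 and |N_G(Q) : Q C_G(Q)| = 6. Then G has a normal subgroup K of index 2 whose Sylow 2-subgroups are generalized quaternion and which has no subgroup of index 2; the centre of S is weakly closed in S; and G has exactly two classes of involutions and one class of elements of order 4. -/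
theorem result {G : Type*} [Group G] [Finite G] (S : Sylow 2 G) (hS : Cfsg.IsQuasiDihedral (S : Subgroup G)) (T : Subgroup G) (hT : IsKleinFour T) (hTS : T ≤ S) (Q : Subgroup G) (hQS : Q ≤ S) (eQ : Q ≃* QuaternionGroup 2) (h₁ : (Subgroup.centralizer (T : Set G)).relIndex (Subgroup.normalizer (T : Set G)) = 2) (h₂ : (Q ⊔ Subgroup.centralizer (Q : Set G)).relIndex (Subgroup.normalizer (Q : Set G)) = 6) : (∃ K : Subgroup G, K.Normal ∧ K.index = 2 ∧ (∀ P : Sylow 2 ↥K, ∃ m : ℕ, 1 ≤ m ∧ Nonempty ((P : Subgroup ↥K) ≃* QuaternionGroup (2 ^ m))) ∧ (∀ H : Subgroup ↥K, H.index ≠ 2)) ∧ Cfsg.IsWeaklyClosed ((Subgroup.center (S : Subgroup G)).map (S : Subgroup G).subtype) (S : Subgroup G) ∧ Nat.card {C : ConjClasses G // ∃ t : G, orderOf t = 2 ∧ ConjClasses.mk t = C} = 2 ∧ Nat.card {C : ConjClasses G // ∃ t : G, orderOf t = 4 ∧ ConjClasses.mk t = C} = 1 := by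
  classical
  haveI : Fact (Nat.Prime 2) := ⟨Nat.prime_two⟩
  obtain ⟨n, ⟨d⟩⟩ := exists_sd hS
  have hzo : orderOf (d.z : G) = 2 := by rw [Subgroup.orderOf_coe, d.orderOf_z]
  have hyo : orderOf (d.y : G) = 2 := by rw [Subgroup.orderOf_coe, d.hy]
  have hio : orderOf ((d.x ^ SD.P n : ↥(S : Subgroup G)) : G) = 4 := by
    rw [Subgroup.orderOf_coe, orderOf_iG S d]
  have hjo : orderOf ((d.x * d.y : ↥(S : Subgroup G)) : G) = 4 := by
    rw [Subgroup.orderOf_coe]
    simpa using d.orderOf_odd 0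
  have hzy := not_isConj_z_of_two S d T hT hTS h₁
  have hij := isConj_four_of_six S d Q hQS eQ h₂
  refine ⟨?_, ⟨map_subtype_le _, ?_⟩, count_two (d.z : G) (d.y : G) hzo hyo hzy (involution_classes S d), count_one ((d.x ^ SD.P n : ↥(S : Subgroup G)) : G) hio
      fun u hu => (four_classes S d u hu).elim id fun h => h.trans hij.symm⟩
  · have hyM₂ : (d.y : ↥(S : Subgroup G)) ∉ d.M₂ := fun h =>
      d.x_notMem_M₂ ((d.M₂.mul_mem_cancel_right h).mp (mem_closure_right _ _))
    set M := d.M₂.map (S : Subgroup G).subtype with hM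
    have hMi : M.relIndex (S : Subgroup G) = 2 := by
      rw [Subgroup.relIndex, hM, show (d.M₂.map (S : Subgroup G).subtype).subgroupOf (S : Subgroup G) = d.M₂ from
        comap_map_eq_self_of_injective (S : Subgroup G).subtype_injective _]
      exact d.index_M₂
    have hyM : (d.y : G) ∉ M := fun h => hyM₂ ((mem_map_iff_mem (S : Subgroup G).subtype_injective).mp h)
    rcases Cfsg.Agent.S0111.result S M (map_subtype_le _) hMi _ hyo d.y.2 hyM with
      ⟨K, hKn, hK, hyK⟩ | ⟨g, hg⟩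
    rotate_left
    · exfalso
      obtain ⟨v, hv, hvg⟩ := hg
      have hvo : orderOf v = 2 := by
        rw [← Subgroup.orderOf_coe, show (v : G) = g * (d.y : G) * g⁻¹ from hvg]
        exact ((MulAut.conj g).orderOf_eq _).trans hyo
      rcases d.involution_cases hvo with rfl | ⟨i, rfl⟩
      · exact hzy (isConj_iff.mpr ⟨g, hvg.symm⟩).symm
      · apply hyM₂
        have : d.x ^ (2 * i) ∈ d.M₂ := by
          rw [zpow_mul]; exact zpow_mem (mem_closure_left _ _) i
        exact (d.M₂.mul_mem_cancel_left this).mp hv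
    haveI := hKn
    have hsq : ((d.x ^ (2 : ℤ) : ↥(S : Subgroup G)) : G) ∈ K := by
      rw [zpow_two, Subgroup.coe_mul]; exact Subgroup.mul_self_mem_of_index_two hK _
    have hiK : ((d.x ^ SD.P n : ↥(S : Subgroup G)) : G) ∈ K := by
      rw [d.two_pow.2.2, zpow_mul, Subgroup.coe_zpow]; exact zpow_mem hsq _
    have hjK : ((d.x * d.y : ↥(S : Subgroup G)) : G) ∈ K := by
      obtain ⟨g, hg⟩ := isConj_iff.mp hij
      rw [← hg]; exact hKn.conj_mem _ hiK g
    have hxK : (d.x : G) ∉ K := fun h => hyK (by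
      rw [Subgroup.coe_mul] at hjK; exact (K.mul_mem_cancel_left h).mp hjK)
    have hMK : d.M₂.map (S : Subgroup G).subtype ≤ K := by
      rw [SD.M₂, MonoidHom.map_closure, closure_le]
      rintro _ ⟨s, rfl | rfl, rfl⟩
      exacts [hsq, hjK]
    refine ⟨K, hKn, hK, fun P => ?_, fun H hH => ?_⟩
    · obtain ⟨e⟩ := sylow_equiv_of_index_two S K hK d.M₂ d.index_M₂ hMK P
      obtain ⟨e'⟩ := d.M₂_equiv
      exact ⟨n - 2, by have := d.three_le; omega, ⟨e.trans e'⟩⟩
    · haveI := Subgroup.normal_of_index_eq_two hH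
      have hH' : ∀ k ∈ K, ∀ h ∈ H.map K.subtype, k * h * k⁻¹ ∈ H.map K.subtype := by
        rintro k hk _ ⟨h, hh, rfl⟩
        exact ⟨⟨k, hk⟩ * h * ⟨k, hk⟩⁻¹, ‹H.Normal›.conj_mem h hh _, rfl⟩
      have hw : Commute (d.x : G) ((d.x ^ SD.P n : ↥(S : Subgroup G)) : G) := by
        rw [Subgroup.coe_zpow]; exact Commute.self_zpow _ _
      set j' := d.x ^ (2 * (-1 - SD.P n) + 1) * d.y with hj'
      have hjj : d.x * d.y * j' = d.x ^ (2 : ℤ) := by
        rw [hj', show d.x * d.y = d.x ^ (1 : ℤ) * d.y by rw [zpow_one], d.mul_rule, d.zx]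
        exact ⟨-SD.P n, by ring⟩
      have hj'K : (j' : G) ∈ K := by
        obtain ⟨g, hg⟩ := isConj_iff.mp (isConj_coe (conj_xy S d (-1 - SD.P n)))
        rw [hj', ← hg]; exact hKn.conj_mem _ hjK g
      have h1 := mem_iff_of_conj hK hH' hw hxK hij
      have h2 := mem_iff_of_conj hK hH' hw hxK (hij.trans (isConj_coe (conj_xy S d (-1 - SD.P n))))
      have hsqH : ((d.x ^ (2 : ℤ) : ↥(S : Subgroup G)) : G) ∈ H.map K.subtype := by
        rw [← hjj, Subgroup.coe_mul]
        refine ⟨⟨_, hjK⟩ * ⟨_, hj'K⟩, ?_, rfl⟩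
        have h12 : (⟨_, hjK⟩ : ↥K) ∈ H ↔ (⟨_, hj'K⟩ : ↥K) ∈ H := by
          rw [← mem_map_iff_mem K.subtype_injective (K := H) (x := (⟨_, hjK⟩ : ↥K)),
            ← mem_map_iff_mem K.subtype_injective (K := H) (x := (⟨_, hj'K⟩ : ↥K))]
          exact h1.symm.trans h2
        exact (Subgroup.mul_mem_iff_of_index_two hH).mpr h12
      have hiH : ((d.x ^ SD.P n : ↥(S : Subgroup G)) : G) ∈ H.map K.subtype := by
        rw [d.two_pow.2.2, zpow_mul, Subgroup.coe_zpow]; exact zpow_mem hsqH _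
      have hMH : d.M₂.map (S : Subgroup G).subtype ≤ H.map K.subtype := by
        rw [SD.M₂, MonoidHom.map_closure, closure_le]
        rintro _ ⟨s, rfl | rfl, rfl⟩
        exacts [hsqH, h1.mp hiH]
      have hd := Subgroup.index_dvd_of_le hMH
      rw [index_map_subtype, index_map_subtype, hH, hK, d.index_M₂] at hd
      exact S.not_dvd_index (Nat.dvd_of_mul_dvd_mul_left two_pos (hd))
  · intro g hg
    refine eq_of_le_of_card_ge ?_ ?_
    · rw [d.center_eq, MonoidHom.map_zpowers, MonoidHom.map_zpowers, zpowers_le]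
      rw [d.center_eq, MonoidHom.map_zpowers, MonoidHom.map_zpowers, zpowers_le] at hg
      have hvo : orderOf (⟨_, hg⟩ : ↥(S : Subgroup G)) = 2 := by
        rw [Subgroup.orderOf_mk]
        exact ((MulAut.conj g).orderOf_eq _).trans hzo
      rcases d.involution_cases hvo with h | ⟨i, h⟩
      · exact mem_zpowers_iff.mpr ⟨1, (zpow_one _).trans (congrArg Subtype.val h).symm⟩
      · exfalso
        exact hzy ((isConj_iff.mpr ⟨g, congrArg Subtype.val h⟩).trans
          (isConj_coe (conj_y S d i)).symm)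
    · exact (card_map_of_injective (MulAut.conj g).injective).ge

end Cfsg.Agent.S1205
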