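import Cfsg.Statements.S1206
import Cfsg.Agent.Lib.TwoGroup.QDFusion
-- import your own Cfsg.Agent.* helpers here

set_option autoImplicit false
open Cfsg

namespace Cfsg.Agent.S1206
open Subgroup
open Cfsg.Lib.TwoGroup
open Cfsg.Lib.TwoGroup.QDFusion
open scoped commutatorElement

/-- The transfer step: an element of order two or four outside a maximal subgroup with all
conjugates outside is not in the derived subgroup. -/
theorem notMem_commutator {G : Type*} [Group G] [Finite G] (S : Sylow 2 G) {n : ℕ}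
    (d : SD ↥(S : Subgroup G) n) (M : Subgroup ↥(S : Subgroup G)) (hM : M.index = 2)
    (g : ↥(S : Subgroup G)) {k : ℕ} (hg : orderOf g = 2 ^ k) (hgM : g ∉ M)
    (heven : ∀ v : ↥(S : Subgroup G), IsConj ((g * g : ↥(S : Subgroup G)) : G) (v : G) → v ∈ M)
    (hodd : ∀ v : ↥(S : Subgroup G), IsConj (g : G) (v : G) ∨ IsConj ((g⁻¹ : ↥(S : Subgroup G)) : G) (v : G) → v ∉ M)
    (h4 : k ≤ 2) : (g : G) ∉ commutator G := by
  haveI : Fact (Nat.Prime 2) := ⟨Nat.prime_two⟩
  haveI hMn := Subgroup.normal_of_index_eq_two hM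
  set M' := M.map (S : Subgroup G).subtype with hM'
  have hmem : ∀ v : ↥(S : Subgroup G), (v : G) ∈ M' ↔ v ∈ M := fun v =>
    mem_map_iff_mem (S : Subgroup G).subtype_injective
  have hsq : g * g ∈ M := Subgroup.mul_self_mem_of_index_two hM g
  have h4' : g ^ (4 : ℤ) = 1 := by
    have : g ^ (2 ^ 2) = 1 := orderOf_dvd_iff_pow_eq_one.mp (hg ▸ pow_dvd_pow 2 h4)
    rw [show (4 : ℤ) = ((2 ^ 2 : ℕ) : ℤ) by norm_num, zpow_natCast, this]
  refine Cfsg.Agent.S1241.result (p := 2) (S : Subgroup G) M' (map_subtype_le _) ?_ ?_ ?_ (g : G) g.2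
    (fun h => hgM ((hmem g).mp h)) ⟨k, by rw [Subgroup.orderOf_coe, hg]⟩ ?_
  · rw [hM', show (M.map (S : Subgroup G).subtype).subgroupOf (S : Subgroup G) = M from
      comap_map_eq_self_of_injective (S : Subgroup G).subtype_injective _]
    exact hMn
  · intro a ha b hb
    refine ⟨⁅(⟨a, ha⟩ : ↥(S : Subgroup G)), ⟨b, hb⟩⁆, ?_, ?_⟩
    · have hc : commutator ↥(S : Subgroup G) ≤ M := by
        rw [d.commutator_eq, zpowers_le]; exact d.sq_x_mem hM
      exact hc (commutator_mem_commutator (mem_top _) (mem_top _))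
    · simp [commutatorElement_def]
  · exact Nat.prime_two.coprime_iff_not_dvd.mpr S.not_dvd_index
  · intro m a ha
    set v : ↥(S : Subgroup G) := ⟨_, ha⟩ with hv
    have e : (a * (g : G) ^ m * a⁻¹) * ((g : G) ^ m)⁻¹ = ((v * (g ^ m)⁻¹ : ↥(S : Subgroup G)) : G) := by
      simp [hv]
    rw [e, hmem]
    have hred : ∀ t r : ℤ, g ^ (4 * t + r) = g ^ r := fun t r => by
      rw [zpow_add, zpow_mul, h4', one_zpow, one_mul]
    obtain ⟨t, r, hr, rfl⟩ : ∃ t r : ℤ, (r = 0 ∨ r = 1 ∨ r = 2 ∨ r = 3) ∧ m = 4 * t + r :=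
      ⟨m / 4, m % 4, by omega, (Int.mul_ediv_add_emod m 4).symm⟩
    have hv' : IsConj ((g ^ r : ↥(S : Subgroup G)) : G) (v : G) := by
      rw [← hred t r]
      exact isConj_iff.mpr ⟨a, by simp [hv]⟩
    rw [hred]
    rcases hr with rfl | rfl | rfl | rfl
    · rw [zpow_zero, Subgroup.coe_one, isConj_one_right] at hv'
      rw [zpow_zero, inv_one, mul_one]
      rw [show v = 1 from Subtype.ext hv']
      exact one_mem _
    · rw [zpow_one] at hv' ⊢
      exact (Subgroup.mul_mem_iff_of_index_two hM).mpr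
        (iff_of_false (hodd v (Or.inl hv')) (fun h => hgM (inv_mem_iff.mp h)))
    · rw [zpow_two] at hv' ⊢
      exact mul_mem (heven v hv') (inv_mem hsq)
    · have e3 : g ^ (3 : ℤ) = g⁻¹ := by
        rw [show (3 : ℤ) = 4 + -1 by norm_num, zpow_add, h4', one_mul, zpow_neg_one]
      rw [e3] at hv' ⊢
      rw [inv_inv]
      exact (Subgroup.mul_mem_iff_of_index_two hM).mpr (iff_of_false (hodd v (Or.inr hv')) hgM)

theorem xy_notMem_commutator {G : Type*} [Group G] [Finite G] (S : Sylow 2 G) {n : ℕ}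
    (d : SD ↥(S : Subgroup G) n)
    (hij : ¬ IsConj ((d.x ^ SD.P n : ↥(S : Subgroup G)) : G) ((d.x * d.y : ↥(S : Subgroup G)) : G)) :
    ((d.x * d.y : ↥(S : Subgroup G)) : G) ∉ commutator G := by
  have hj : orderOf (d.x * d.y) = 4 := by simpa using d.orderOf_odd 0
  have hjM : d.x * d.y ∉ d.M₃ := by
    have := (d.M₃_mem_iff 1).not.mpr (by decide)
    simpa using this
  have hjj : d.x * d.y * (d.x * d.y) = d.z := by simpa using d.sq_odd 0
  have hzM : ∀ v : ↥(S : Subgroup G), orderOf v = 2 → v ∈ d.M₃ := fun v hv => by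
    rw [← d.closure_involutions]; exact subset_closure hv
  have hji : IsConj (d.x * d.y : ↥(S : Subgroup G)) (d.x * d.y)⁻¹ := by
    have ho : orderOf (d.x * d.y)⁻¹ = 4 := by rw [orderOf_inv, hj]
    have hx : (d.x * d.y)⁻¹ ∉ zpowers d.x := fun h => by
      have := inv_mem_iff.mp h
      exact d.mul_y_notMem 1 (by rwa [zpow_one])
    rcases d.order_four_cases ho with h | h | ⟨i, h⟩
    · exact absurd (h ▸ zpow_mem (mem_zpowers _) _) hx
    · exact absurd (h ▸ zpow_mem (mem_zpowers _) _) hx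
    · rw [h]; exact conj_xy S d i
  refine notMem_commutator S d d.M₃ d.index_M₃ (d.x * d.y) (k := 2) (by rw [hj]; rfl) hjM ?_ ?_ le_rfl
  · intro v hv
    rw [hjj] at hv
    obtain ⟨a, ha⟩ := isConj_iff.mp hv
    apply hzM
    rw [← Subgroup.orderOf_coe v, ← ha]
    exact ((MulAut.conj a).orderOf_eq _).trans ((Subgroup.orderOf_coe d.z).trans d.orderOf_z)
  · intro v hv hvM
    have hv' : IsConj ((d.x * d.y : ↥(S : Subgroup G)) : G) (v : G) :=
      hv.elim id fun h => (isConj_coe hji).trans h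
    obtain ⟨a, ha⟩ := isConj_iff.mp hv'
    have hvo : orderOf v = 4 := by
      rw [← Subgroup.orderOf_coe v, ← ha]
      exact ((MulAut.conj a).orderOf_eq _).trans ((Subgroup.orderOf_coe _).trans hj)
    rcases d.order_four_cases hvo with rfl | rfl | ⟨i, rfl⟩
    · exact hij hv'.symm
    · exact hij (hv'.trans (isConj_coe (conj_neg S d)).symm).symm
    · exact (d.M₃_mem_iff _).not.mpr (by simp [parity_simps]) hvM

/-- Let G be a finite group with quasi-dihedral Sylow 2-subgroup S, T a Klein four-subgroup and Q a quaternion subgroup of order 8 of S, with |N_G(T) : C_G(T)| = 6 and |N_G(Q) : Q C_G(Q)| = 2. Then G has a normal subgroup K of index 2 whose Sylow 2-subgroups are dihedral and which has no subgroup of index 2, and G has exactly one class of involutions and two classes of elements of order 4. -/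
theorem result {G : Type*} [Group G] [Finite G] (S : Sylow 2 G) (hS : Cfsg.IsQuasiDihedral (S : Subgroup G)) (T : Subgroup G) (hT : IsKleinFour T) (hTS : T ≤ S) (Q : Subgroup G) (hQS : Q ≤ S) (eQ : Q ≃* QuaternionGroup 2) (h₁ : (Subgroup.centralizer (T : Set G)).relIndex (Subgroup.normalizer (T : Set G)) = 6) (h₂ : (Q ⊔ Subgroup.centralizer (Q : Set G)).relIndex (Subgroup.normalizer (Q : Set G)) = 2) : (∃ K : Subgroup G, K.Normal ∧ K.index = 2 ∧ (∀ P : Sylow 2 ↥K, ∃ m : ℕ, Nonempty ((P : Subgroup ↥K) ≃* DihedralGroup m)) ∧ (∀ H : Subgroup ↥K, H.index ≠ 2)) ∧ Nat.card {C : ConjClasses G // ∃ t : G, orderOf t = 2 ∧ ConjClasses.mk t = C} = 1 ∧ Nat.card {C : ConjClasses G // ∃ t : G, orderOf t = 4 ∧ ConjClasses.mk t = C} = 2 := by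
  classical
  haveI : Fact (Nat.Prime 2) := ⟨Nat.prime_two⟩
  obtain ⟨n, ⟨d⟩⟩ := exists_sd hS
  have hzo : orderOf (d.z : G) = 2 := by rw [Subgroup.orderOf_coe, d.orderOf_z]
  have hyo : orderOf (d.y : G) = 2 := by rw [Subgroup.orderOf_coe, d.hy]
  have hio : orderOf ((d.x ^ SD.P n : ↥(S : Subgroup G)) : G) = 4 := by
    rw [Subgroup.orderOf_coe, orderOf_iG S d]
  have hjo : orderOf ((d.x * d.y : ↥(S : Subgroup G)) : G) = 4 := by
    rw [Subgroup.orderOf_coe]
    simpa using d.orderOf_odd 0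
  have hzy := isConj_z_of_six S d T hT hTS h₁
  have hij := not_isConj_four_of_two S d Q hQS eQ h₂
  refine ⟨?_, count_one (d.z : G) hzo fun u hu => (involution_classes S d u hu).elim id fun h => h.trans hzy.symm, count_two ((d.x ^ SD.P n : ↥(S : Subgroup G)) : G) ((d.x * d.y : ↥(S : Subgroup G)) : G) hio hjo hij
      (four_classes S d)⟩
  have hjG := xy_notMem_commutator S d hij
  have hsqG : ∀ s : ↥(S : Subgroup G), s ∈ zpowers (d.x ^ (2 : ℤ)) → (s : G) ∈ commutator G := by
    intro s hs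
    rw [← d.commutator_eq] at hs
    have hle : (commutator ↥(S : Subgroup G)).map (S : Subgroup G).subtype ≤ commutator G := by
      rw [commutator_def, commutator_def, Subgroup.map_commutator]
      exact Subgroup.commutator_mono le_top le_top
    exact hle (mem_map_of_mem _ hs)
  have hyG : (d.y : G) ∈ commutator G := by
    have hz : (d.z : G) ∈ commutator G := hsqG _ (by
      rw [SD.z, zpow_mul]; exact zpow_mem (mem_zpowers _) _)
    obtain ⟨g, hg⟩ := isConj_iff.mp hzy
    rw [← hg]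
    exact (Subgroup.Normal.conj_mem inferInstance) _ hz g
  obtain ⟨K, hK, hGK⟩ : ∃ K : Subgroup G, K.index = 2 ∧ commutator G ≤ K := by
    have hidx : 2 ∣ (commutator G).index := by
      by_contra hodd
      apply hjG
      set q := QuotientGroup.mk' (commutator G) ((d.x * d.y : ↥(S : Subgroup G)) : G) with hq
      have h1 : orderOf q ∣ 4 := (orderOf_map_dvd _ _).trans hjo.dvd
      have h2 : orderOf q ∣ (commutator G).index := by
        rw [Subgroup.index_eq_card]; exact orderOf_dvd_natCard _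
      have hco : Nat.Coprime 4 (commutator G).index := by
        rw [show 4 = 2 ^ 2 from rfl]
        exact (Nat.prime_two.coprime_iff_not_dvd.mpr hodd).pow_left 2
      have : q = 1 := orderOf_eq_one_iff.mp (Nat.eq_one_of_dvd_coprimes hco h1 h2)
      rwa [hq, QuotientGroup.mk'_apply, QuotientGroup.eq_one_iff] at this
    let R : Sylow 2 (G ⧸ commutator G) := Classical.arbitrary _
    have hcomm : ∀ a b : G ⧸ commutator G, a * b = b * a := fun a b => @mul_comm (Abelianization G) _ a b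
    obtain ⟨P, N, hN, hNP⟩ : Cfsg.HasNormalPComplement 2 (G ⧸ commutator G) :=
      (Cfsg.Lib.Fusion.frobenius R).mpr fun Q' _ g _ _ =>
        mem_centralizer_iff.mpr fun q _ => hcomm q g
    haveI := hN
    obtain ⟨e, he⟩ := P.isPGroup'.exists_card_eq
    have hNi : N.index = 2 ^ e := by rw [hNP.symm.index_eq_card, he]
    rcases e with _ | e
    · exfalso
      apply P.not_dvd_index
      have h := (P : Subgroup (G ⧸ commutator G)).card_mul_index
      rw [he, pow_zero, one_mul, ← Subgroup.index_eq_card] at h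
      rw [h]; exact hidx
    · obtain ⟨H, hH⟩ := Cfsg.Agent.S1255.exists_index_two N hNi
      refine ⟨H.comap (QuotientGroup.mk' _), ?_, ?_⟩
      · rw [H.index_comap_of_surjective (QuotientGroup.mk'_surjective _)]; exact hH
      · intro x hx
        rw [mem_comap, QuotientGroup.mk'_apply, (QuotientGroup.eq_one_iff x).mpr hx]
        exact one_mem _
  haveI hKn := Subgroup.normal_of_index_eq_two hK
  have hyK : (d.y : G) ∈ K := hGK hyG
  have hsqK : ((d.x ^ (2 : ℤ) : ↥(S : Subgroup G)) : G) ∈ K := hGK (hsqG _ (mem_zpowers _))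
  have hMK : d.M₃.map (S : Subgroup G).subtype ≤ K := by
    rw [SD.M₃, MonoidHom.map_closure, closure_le]
    rintro _ ⟨s, rfl | rfl, rfl⟩
    exacts [hsqK, hyK]
  have hxK : (d.x : G) ∉ K := by
    intro h
    have hSK : (S : Subgroup G) ≤ K := by
      intro s hs
      obtain ⟨k, hk | hk⟩ := d.normal_form ⟨s, hs⟩
      · have : s = (d.x : G) ^ k := by rw [← Subgroup.coe_zpow, ← hk]
        rw [this]; exact zpow_mem h k
      · have : s = (d.x : G) ^ k * (d.y : G) := by rw [← Subgroup.coe_zpow, ← Subgroup.coe_mul, ← hk]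
        rw [this]; exact mul_mem (zpow_mem h k) hyK
    have h1 := Subgroup.index_dvd_of_le hSK
    rw [hK] at h1
    exact S.not_dvd_index h1
  refine ⟨K, hKn, hK, fun P => ?_, fun H hH => ?_⟩
  · obtain ⟨e⟩ := sylow_equiv_of_index_two S K hK d.M₃ d.index_M₃ hMK P
    obtain ⟨e'⟩ := d.M₃_equiv
    exact ⟨_, ⟨e.trans e'⟩⟩
  · haveI := Subgroup.normal_of_index_eq_two hH
    have hH' : ∀ k ∈ K, ∀ h ∈ H.map K.subtype, k * h * k⁻¹ ∈ H.map K.subtype := by
      rintro k hk _ ⟨h, hh, rfl⟩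
      exact ⟨⟨k, hk⟩ * h * ⟨k, hk⟩⁻¹, ‹H.Normal›.conj_mem h hh _, rfl⟩
    have hw : Commute (d.x : G) (d.z : G) := congrArg Subtype.val (d.z_central d.x).eq
    set y' := d.x ^ (2 * (1 : ℤ)) * d.y with hy'
    have hy'K : (y' : G) ∈ K := hMK ⟨y', (d.M₃_mem_iff _).mpr (even_two_mul 1), rfl⟩
    have h1 := mem_iff_of_conj hK hH' hw hxK hzy
    have h2 := mem_iff_of_conj hK hH' hw hxK (hzy.trans (isConj_coe (conj_y S d 1)))
    have hyy : y' * d.y = d.x ^ (2 : ℤ) := by
      rw [hy', mul_assoc, d.yy, mul_one, mul_one]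
    have hsqH : ((d.x ^ (2 : ℤ) : ↥(S : Subgroup G)) : G) ∈ H.map K.subtype := by
      rw [← hyy, Subgroup.coe_mul]
      refine ⟨⟨_, hy'K⟩ * ⟨_, hyK⟩, ?_, rfl⟩
      have h12 : (⟨_, hy'K⟩ : ↥K) ∈ H ↔ (⟨_, hyK⟩ : ↥K) ∈ H := by
        rw [← mem_map_iff_mem K.subtype_injective (K := H) (x := (⟨_, hy'K⟩ : ↥K)),
          ← mem_map_iff_mem K.subtype_injective (K := H) (x := (⟨_, hyK⟩ : ↥K))]
        exact h2.symm.trans h1
      exact (Subgroup.mul_mem_iff_of_index_two hH).mpr h12
    have hzH : (d.z : G) ∈ H.map K.subtype := by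
      rw [SD.z, zpow_mul, Subgroup.coe_zpow]; exact zpow_mem hsqH _
    have hMH : d.M₃.map (S : Subgroup G).subtype ≤ H.map K.subtype := by
      rw [SD.M₃, MonoidHom.map_closure, closure_le]
      rintro _ ⟨s, rfl | rfl, rfl⟩
      exacts [hsqH, h1.mp hzH]
    have hd := Subgroup.index_dvd_of_le hMH
    rw [index_map_subtype, index_map_subtype, hH, hK, d.index_M₃] at hd
    exact S.not_dvd_index (Nat.dvd_of_mul_dvd_mul_left two_pos hd)

end Cfsg.Agent.S1206
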