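import Cfsg.Statements.S1207
import Cfsg.Agent.Lib.TwoGroup.QDFusion
import Cfsg.Agent.S1206
import Cfsg.Agent.Lib.DihedralAut
import Cfsg.Agent.Lib.Fusion.Alperin
-- import your own Cfsg.Agent.* helpers here

set_option autoImplicit false
open Cfsg

namespace Cfsg.Agent.S1207
open Subgroup
open Cfsg.Lib.TwoGroup
open Cfsg.Lib.TwoGroup.QDFusion
open scoped commutatorElement

/-- Let G be a finite group with quasi-dihedral Sylow 2-subgroup S, T a Klein four-subgroup and Q a quaternion subgroup of order 8 of S, with |N_G(T) : C_G(T)| = 2 and |N_G(Q) : Q C_G(Q)| = 2. Then G has a normal 2-complement, exactly two classes of involutions and exactly two classes of elements of order 4. -/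
theorem result {G : Type*} [Group G] [Finite G] (S : Sylow 2 G) (hS : Cfsg.IsQuasiDihedral (S : Subgroup G)) (T : Subgroup G) (hT : IsKleinFour T) (hTS : T ≤ S) (Q : Subgroup G) (hQS : Q ≤ S) (eQ : Q ≃* QuaternionGroup 2) (h₁ : (Subgroup.centralizer (T : Set G)).relIndex (Subgroup.normalizer (T : Set G)) = 2) (h₂ : (Q ⊔ Subgroup.centralizer (Q : Set G)).relIndex (Subgroup.normalizer (Q : Set G)) = 2) : Cfsg.HasNormalPComplement 2 G ∧ Nat.card {C : ConjClasses G // ∃ t : G, orderOf t = 2 ∧ ConjClasses.mk t = C} = 2 ∧ Nat.card {C : ConjClasses G // ∃ t : G, orderOf t = 4 ∧ ConjClasses.mk t = C} = 2 := by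
  classical
  haveI : Fact (Nat.Prime 2) := ⟨Nat.prime_two⟩
  obtain ⟨n, ⟨d⟩⟩ := exists_sd hS
  have hzo : orderOf (d.z : G) = 2 := by rw [Subgroup.orderOf_coe, d.orderOf_z]
  have hyo : orderOf (d.y : G) = 2 := by rw [Subgroup.orderOf_coe, d.hy]
  have hio : orderOf ((d.x ^ SD.P n : ↥(S : Subgroup G)) : G) = 4 := by
    rw [Subgroup.orderOf_coe, orderOf_iG S d]
  have hjo : orderOf ((d.x * d.y : ↥(S : Subgroup G)) : G) = 4 := by
    rw [Subgroup.orderOf_coe]
    simpa using d.orderOf_odd 0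
  have hzy := not_isConj_z_of_two S d T hT hTS h₁
  have hij := not_isConj_four_of_two S d Q hQS eQ h₂
  refine ⟨?_, count_two (d.z : G) (d.y : G) hzo hyo hzy (involution_classes S d), count_two ((d.x ^ SD.P n : ↥(S : Subgroup G)) : G) ((d.x * d.y : ↥(S : Subgroup G)) : G) hio hjo hij
      (four_classes S d)⟩
  have hjG := Cfsg.Agent.S1206.xy_notMem_commutator S d hij
  have hyM : ∀ i : ℤ, d.x ^ (2 * i) * d.y ∉ d.M₂ := by
    intro i h
    have h1 : d.x ^ (2 * i) ∈ d.M₂ := by
      rw [zpow_mul]; exact zpow_mem (mem_closure_left _ _) i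
    exact d.x_notMem_M₂ ((d.M₂.mul_mem_cancel_right ((d.M₂.mul_mem_cancel_left h1).mp h)).mp
      (mem_closure_right _ _))
  have hyG : (d.y : G) ∉ commutator G := by
    refine Cfsg.Agent.S1206.notMem_commutator S d d.M₂ d.index_M₂ d.y (k := 1) (by rw [d.hy]; rfl)
      (by simpa using hyM 0) ?_ ?_ (by norm_num)
    · intro v hv
      rw [d.yy, Subgroup.coe_one, isConj_one_right] at hv
      rw [show v = 1 from Subtype.ext hv]
      exact one_mem _
    · intro v hv
      rw [Cfsg.Lib.Invol.inv_eq_self d.hy, or_self] at hv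
      obtain ⟨a, ha⟩ := isConj_iff.mp hv
      have hvo : orderOf v = 2 := by
        rw [← Subgroup.orderOf_coe v, ← ha]
        exact ((MulAut.conj a).orderOf_eq _).trans hyo
      rcases d.involution_cases hvo with rfl | ⟨i, rfl⟩
      · exact absurd hv.symm hzy
      · exact hyM i
  have hout : ∀ s : ↥(S : Subgroup G), (s : G) ∈ commutator G → s ∈ zpowers d.x := by
    intro s hs
    obtain ⟨k, rfl | rfl⟩ := d.normal_form s
    · exact zpow_mem (mem_zpowers _) k
    · exfalso
      rcases Int.even_or_odd' k with ⟨i, rfl | rfl⟩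
      · obtain ⟨g, hg⟩ := isConj_iff.mp (isConj_coe (conj_y S d i)).symm
        exact hyG (hg ▸ (Subgroup.Normal.conj_mem inferInstance) _ hs g)
      · obtain ⟨g, hg⟩ := isConj_iff.mp (isConj_coe (conj_xy S d i)).symm
        exact hjG (hg ▸ (Subgroup.Normal.conj_mem inferInstance) _ hs g)
  refine (Cfsg.Lib.Fusion.frobenius S).mpr fun R hRS g hg hco => ?_
  set C := R ⊓ commutator G with hC
  have hCle : C ≤ zpowers (d.x : G) := by
    intro c hc'
    obtain ⟨k, hk⟩ := mem_zpowers_iff.mp (hout ⟨c, hRS (mem_inf.mp hc').1⟩ (mem_inf.mp hc').2)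
    refine mem_zpowers_iff.mpr ⟨k, ?_⟩
    rw [← Subgroup.coe_zpow, hk]
  haveI : IsCyclic ↥C := Subgroup.isCyclic_of_le hCle
  have hgC : g ∈ normalizer (C : Set G) := by
    rw [mem_normalizer_iff_map_conj_eq, hC, Subgroup.map_inf _ _ _ (MulAut.conj g).injective,
      mem_normalizer_iff_map_conj_eq.mp hg,
      mem_normalizer_iff_map_conj_eq.mp (normalizer_eq_top (commutator G) ▸ mem_top g)]
  have hodd : Odd (orderOf g) := Nat.coprime_two_right.mp hco
  have hfix : ∀ c ∈ C, g * c * g⁻¹ = c := by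
    intro c hc
    let σ : MulAut ↥C := C.normalizerMonoidHom ⟨g, hgC⟩
    have hσm : σ ^ orderOf g = 1 := by
      rw [← map_pow]
      have : (⟨g, hgC⟩ : ↥(normalizer (C : Set G))) ^ orderOf g = 1 := Subtype.ext (pow_orderOf_eq_one g)
      rw [this, map_one]
    haveI : IsCyclic (⊤ : Subgroup ↥C) := isCyclic_of_surjective
      (Subgroup.topEquiv.symm : ↥C ≃* (⊤ : Subgroup ↥C)) Subgroup.topEquiv.symm.surjective
    have hσ := Cfsg.Lib.DihedralAut.eq_one_of_stable_cyclic
      ((S.isPGroup'.to_le (inf_le_left.trans hRS : C ≤ (S : Subgroup G)))) σ hodd hσm ⊤ (by simp)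
      fun q _ => mem_top _
    exact congrArg Subtype.val (DFunLike.congr_fun hσ ⟨c, hc⟩)
  rw [mem_centralizer_iff]
  intro r hr
  set c := r⁻¹ * (g * r * g⁻¹) with hc
  have hcC : c ∈ C := by
    refine ⟨mul_mem (R.inv_mem hr) ((mem_normalizer_iff.mp hg r).mp hr), ?_⟩
    have : c = ⁅r⁻¹, g⁆ := by rw [hc, commutatorElement_def]; group
    rw [this]
    exact commutator_mem_commutator (mem_top _) (mem_top _)
  have hiter : ∀ k : ℕ, g ^ k * r * (g ^ k)⁻¹ = r * c ^ k := by
    intro k
    induction k with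
    | zero => simp
    | succ k ih =>
      rw [pow_succ' g]
      calc g * g ^ k * r * (g * g ^ k)⁻¹ = g * (g ^ k * r * (g ^ k)⁻¹) * g⁻¹ := by group
        _ = (g * r * g⁻¹) * (g * c ^ k * g⁻¹) := by rw [ih, conj_mul]
        _ = r * c * c ^ k := by rw [hfix _ (pow_mem hcC k), hc, mul_inv_cancel_left]
        _ = r * c ^ (k + 1) := by rw [pow_succ' c, mul_assoc]
  have hc1 : c = 1 := by
    have h1 : c ^ orderOf g = 1 := by
      have := hiter (orderOf g)
      rw [pow_orderOf_eq_one, one_mul, inv_one, mul_one] at this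
      exact left_eq_mul.mp this
    obtain ⟨j, hj⟩ := S.isPGroup' ⟨c, hRS hcC.1⟩
    have hj' : c ^ 2 ^ j = 1 := congrArg Subtype.val hj
    exact orderOf_eq_one_iff.mp (Nat.eq_one_of_dvd_coprimes
      ((Nat.coprime_two_right.mpr hodd).pow_right j) (orderOf_dvd_of_pow_eq_one h1)
      (orderOf_dvd_of_pow_eq_one hj'))
  rw [hc, inv_mul_eq_one] at hc1
  exact mul_inv_eq_iff_eq_mul.mp hc1.symm |>.symm

end Cfsg.Agent.S1207
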