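import Cfsg.Statements.S1210
import Cfsg.Agent.Lib.TwoGroup.WreathedSetup
-- import your own Cfsg.Agent.* helpers here

set_option autoImplicit false
open Cfsg

namespace Cfsg.Agent.S1210
open Subgroup
open Cfsg.Lib.TwoGroup
open Cfsg.Lib.TwoGroup.WreathedFusion

/-- Let G be a finite group whose Sylow 2-subgroup S is wreathed of order 2^(2n+1), U the commutative subgroup of index 2 in S, Q a quaternion subgroup of order 8 of S and V = Q Z(S). If |N_G(U) : C_G(U)| = 2 and |N_G(V) : V C_G(V)| = 6, then G has a normal subgroup K of index 2^n whose Sylow 2-subgroups are generalized quaternion and which has no subgroup of index 2; every subgroup of Z(S) is weakly closed in S; and G has exactly two classes of involutions. -/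
theorem result {G : Type*} [Group G] [Finite G] (S : Sylow 2 G) (hS : Cfsg.IsWreathed (S : Subgroup G)) (n : ℕ) (hn : Nat.card S = 2 ^ (2 * n + 1)) (U : Subgroup G) (hUS : U ≤ S) (hUab : IsMulCommutative U) (hUcard : Nat.card U = 2 ^ (2 * n)) (Q : Subgroup G) (hQS : Q ≤ S) (eQ : Q ≃* QuaternionGroup 2) (h₁ : (Subgroup.centralizer (U : Set G)).relIndex (Subgroup.normalizer (U : Set G)) = 2) (h₂ : ((Q ⊔ ((Subgroup.center (S : Subgroup G)).map (S : Subgroup G).subtype)) ⊔ Subgroup.centralizer ((Q ⊔ ((Subgroup.center (S : Subgroup G)).map (S : Subgroup G).subtype) : Subgroup G) : Set G)).relIndex (Subgroup.normalizer ((Q ⊔ ((Subgroup.center (S : Subgroup G)).map (S : Subgroup G).subtype) : Subgroup G) : Set G)) = 6) : (∃ K : Subgroup G, K.Normal ∧ K.index = 2 ^ n ∧ (∀ P : Sylow 2 ↥K, ∃ m : ℕ, 1 ≤ m ∧ Nonempty ((P : Subgroup ↥K) ≃* QuaternionGroup (2 ^ m))) ∧ (∀ H : Subgroup ↥K, H.index ≠ 2)) ∧ (∀ Z₀ : Subgroup G, Z₀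 ≤ ((Subgroup.center (S : Subgroup G)).map (S : Subgroup G).subtype) → Cfsg.IsWeaklyClosed Z₀ (S : Subgroup G)) ∧ Nat.card {C : ConjClasses G // ∃ t : G, orderOf t = 2 ∧ ConjClasses.mk t = C} = 2 := by
  classical
  haveI : Fact (Nat.Prime 2) := ⟨Nat.prime_two⟩
  obtain ⟨d⟩ := Cfsg.Lib.TwoGroup.w_of_card hS hn
  obtain rfl := eq_AG S d hUS hUab hUcard
  obtain ⟨c, X, hX, hV⟩ := exists_X S d hQS eQ
  rw [hV] at h₂
  have hwo : orderOf ((d.e (W.H n) (W.H n) : ↥(S : Subgroup G)) : G) = 2 :=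
    (Subgroup.orderOf_coe _).trans d.orderOf_HH
  have huo : orderOf ((d.e (W.H n) 0 : ↥(S : Subgroup G)) : G) = 2 :=
    (Subgroup.orderOf_coe _).trans d.orderOf_H0
  have hzo : orderOf (d.z : G) = 2 := (Subgroup.orderOf_coe _).trans d.hz
  -- central elements are not fused
  have hinvZ : ∀ ζ ∈ ZG S, ∀ x ∈ (S : Subgroup G), ∀ g : G, g * x * g⁻¹ ∈ (S : Subgroup G) →
      (g * x * g⁻¹ = ζ) = (x = ζ) := by
    intro ζ hζ
    have hiff : ∀ g : G, g * ζ * g⁻¹ = ζ → ∀ x : G, (g * x * g⁻¹ = ζ) = (x = ζ) := by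
      intro g hg x
      refine propext ⟨fun h => ?_, fun h => h ▸ hg⟩
      exact mul_left_cancel (mul_right_cancel (h.trans hg.symm))
    refine invariant S d (fun x => x = ζ) ?_ ?_ ?_
    · intro s hs x _
      refine hiff s ?_ x
      obtain ⟨ζ₀, hζ₀, rfl⟩ := hζ
      have := congrArg Subtype.val (mem_center_iff.mp hζ₀ ⟨s, hs⟩)
      exact mul_inv_eq_iff_eq_mul.mpr this
    · intro g hg hodd x _
      refine hiff g (fix_of_centralizer (AG_two S d h₁ hg hodd) ?_) x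
      obtain ⟨ζ₀, hζ₀, rfl⟩ := hζ
      rw [d.center_eq] at hζ₀
      exact ⟨ζ₀, (zpowers_le.mpr (d.mem_A.mpr ⟨1, 1, rfl⟩)) hζ₀, rfl⟩
    · intro c' X' hX' g hg _ x _
      exact hiff g (fix_of_centralizer (normalizer_XG_center S d hX' hg) hζ) x
  have hwk : ∀ ζ ∈ ZG S, ∀ g : G, g * ζ * g⁻¹ ∈ (S : Subgroup G) → g * ζ * g⁻¹ = ζ := by
    intro ζ hζ g hg
    exact (hinvZ ζ hζ ζ (map_subtype_le _ hζ) g hg).mpr rfl
  have hwZ : ((d.e (W.H n) (W.H n) : ↥(S : Subgroup G)) : G) ∈ ZG S :=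
    ⟨_, d.mem_center_e.mpr (by simp), rfl⟩
  have huz := u_isConj_z S d hX h₂
  have hnwu : ¬ IsConj ((d.e (W.H n) (W.H n) : ↥(S : Subgroup G)) : G)
      ((d.e (W.H n) 0 : ↥(S : Subgroup G)) : G) := by
    intro h
    obtain ⟨g, hg⟩ := isConj_iff.mp h
    exact u_ne_w S d (hg.symm.trans (hwk _ hwZ g (hg ▸ (d.e (W.H n) 0).2)))
  refine ⟨?_, ?_, QDFusion.count_two _ _ hwo huo hnwu fun t ht => ?_⟩
  rotate_left
  · intro Z₀ hZ₀
    refine ⟨hZ₀.trans (map_subtype_le _), fun g hg => ?_⟩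
    refine eq_of_le_of_card_ge ?_ (card_map_of_injective (MulAut.conj g).injective).ge
    rintro _ ⟨ζ, hζ, rfl⟩
    show g * ζ * g⁻¹ ∈ Z₀
    rw [hwk ζ (hZ₀ hζ) g (hg ⟨ζ, hζ, rfl⟩)]
    exact hζ
  · rcases involution_classes S d t ht with h | h | h
    exacts [Or.inl h, Or.inr h, Or.inr (h.trans huz.symm)]
  -- the character with kernel `Y`
  obtain ⟨hNH, -, -⟩ := d.pow_facts
  have hN2 : ((2 ^ n : ℕ) : ℤ) = W.N n := by rw [W.N]; push_cast; rfl
  let χf : ↥(S : Subgroup G) → ℤ := fun s =>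
    (Classical.choose (d.normal_form s)) + Classical.choose (Classical.choose_spec (d.normal_form s)) +
      (if s ∈ d.A then 0 else W.H n)
  have hχA : ∀ a b : ℤ, ((χf (d.e a b) : ℤ) : ZMod (2 ^ n)) = ((a + b : ℤ) : ZMod (2 ^ n)) := by
    intro a b
    rw [ZMod.intCast_eq_intCast_iff_dvd_sub, hN2]
    simp only [χf]
    rw [if_pos (show d.e a b ∈ d.A from ⟨a, b, rfl⟩)]
    rcases Classical.choose_spec (Classical.choose_spec (d.normal_form (d.e a b))) with h | h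
    · obtain ⟨⟨i, hi⟩, ⟨j, hj⟩⟩ := d.e_eq.mp h
      exact ⟨i + j, by linarith⟩
    · exact absurd h (d.e_ne_ez _ _ _ _)
  have hχz : ∀ a b : ℤ, ((χf (d.e a b * d.z) : ℤ) : ZMod (2 ^ n)) =
      ((a + b + W.H n : ℤ) : ZMod (2 ^ n)) := by
    intro a b
    rw [ZMod.intCast_eq_intCast_iff_dvd_sub, hN2]
    simp only [χf, if_neg (d.ez_notMem a b)]
    rcases Classical.choose_spec (Classical.choose_spec (d.normal_form (d.e a b * d.z))) with h | h
    · exact absurd h.symm (d.e_ne_ez _ _ _ _)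
    · obtain ⟨⟨i, hi⟩, ⟨j, hj⟩⟩ := d.e_eq.mp (mul_right_cancel h)
      exact ⟨i + j, by linarith⟩
  have hHH : ((W.H n : ℤ) : ZMod (2 ^ n)) + ((W.H n : ℤ) : ZMod (2 ^ n)) = 0 := by
    rw [← Int.cast_add, ZMod.intCast_zmod_eq_zero_iff_dvd, hN2, hNH]
    exact ⟨1, by ring⟩
  let χ : ↥(S : Subgroup G) →* Multiplicative (ZMod (2 ^ n)) :=
    MonoidHom.mk' (fun s => Multiplicative.ofAdd ((χf s : ℤ) : ZMod (2 ^ n))) fun s t => by
      rw [← ofAdd_add]
      congr 1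
      obtain ⟨a, b, rfl | rfl⟩ := d.normal_form s <;> obtain ⟨a', b', rfl | rfl⟩ := d.normal_form t
      · rw [d.e_mul, hχA, hχA, hχA]; push_cast; ring
      · rw [d.e_ez, hχz, hχA, hχz]; push_cast; ring
      · rw [d.ez_e, hχz, hχz, hχA]; push_cast; ring
      · rw [d.ez_ez, hχA, hχz, hχz]
        push_cast
        linear_combination -hHH
  have hχe : ∀ a b : ℤ, χ (d.e a b) = Multiplicative.ofAdd ((a + b : ℤ) : ZMod (2 ^ n)) := fun a b =>
    congrArg Multiplicative.ofAdd (hχA a b)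
  have hχez : ∀ a b : ℤ, χ (d.e a b * d.z) =
      Multiplicative.ofAdd ((a + b + W.H n : ℤ) : ZMod (2 ^ n)) := fun a b =>
    congrArg Multiplicative.ofAdd (hχz a b)
  let χG : G → Multiplicative (ZMod (2 ^ n)) := fun g =>
    if h : g ∈ (S : Subgroup G) then χ ⟨g, h⟩ else 1
  have hχG : ∀ v : ↥(S : Subgroup G), χG (v : G) = χ v := fun v => by simp [χG]
  have hχq : ∀ (c' : ℤ) (X' : Subgroup ↥(S : Subgroup G)), d.IsX c' X' → ∀ v ∈ X',
      v ∉ center ↥(S : Subgroup G) → v * v = d.e (W.H n) (W.H n) → χ v = 1 := by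
    intro c' X' hX' v hv hnc hsq
    rcases W.IsX.qtype_cases d hX' hv hnc hsq with ⟨k, -, -, p, r, rfl, hpr⟩ | ⟨p, r, -, rfl, hpr, -⟩
    · rw [hχe, show ((p + r : ℤ) : ZMod (2 ^ n)) = 0 by
        rw [ZMod.intCast_zmod_eq_zero_iff_dvd, hN2]; exact hpr]
      rfl
    · rw [hχez, show ((p + r + W.H n : ℤ) : ZMod (2 ^ n)) = 0 by
        rw [ZMod.intCast_zmod_eq_zero_iff_dvd, hN2]
        obtain ⟨t, ht⟩ := hpr
        exact ⟨t + 1, by rw [hNH] at ht ⊢; linarith⟩]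
      rfl
  have hinvχ : ∀ x ∈ (S : Subgroup G), ∀ g : G, g * x * g⁻¹ ∈ (S : Subgroup G) →
      χG (g * x * g⁻¹) = χG x := by
    refine invariant S d χG ?_ ?_ ?_
    · intro s hs x hx
      have : s * x * s⁻¹ = ((⟨s, hs⟩ * ⟨x, hx⟩ * ⟨s, hs⟩⁻¹ : ↥(S : Subgroup G)) : G) := rfl
      rw [this, hχG, map_mul, map_mul, map_inv, show χG x = χ ⟨x, hx⟩ from hχG ⟨x, hx⟩,
        mul_comm (χ ⟨s, hs⟩), mul_inv_cancel_right]
    · intro g hg hodd x hx
      rw [fix_of_centralizer (AG_two S d h₁ hg hodd) hx]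
    · intro c' X' hX' g hg hodd x hx
      obtain ⟨v, hv, rfl⟩ := hx
      have hgN : ∀ v ∈ X', g * (v : G) * g⁻¹ ∈ XG S X' := fun v hv =>
        (mem_normalizer_iff.mp hg _).mp ⟨v, hv, rfl⟩
      let M : Subgroup ↥(S : Subgroup G) :=
        { carrier := {v | v ∈ X' ∧ χG (g * (v : G) * g⁻¹) = χ v}
          one_mem' := ⟨one_mem _, by
            rw [Subgroup.coe_one, mul_one, mul_inv_cancel, ← Subgroup.coe_one (S : Subgroup G), hχG]⟩
          mul_mem' := by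
            rintro a b ⟨ha, ha'⟩ ⟨hb, hb'⟩
            refine ⟨mul_mem ha hb, ?_⟩
            obtain ⟨a₁, -, ha₁⟩ := hgN a ha
            obtain ⟨b₁, -, hb₁⟩ := hgN b hb
            have e : g * ((a * b : ↥(S : Subgroup G)) : G) * g⁻¹ = ((a₁ * b₁ : ↥(S : Subgroup G)) : G) := by
              rw [Subgroup.coe_mul, Subgroup.coe_mul, show (a₁ : G) = _ from ha₁,
                show (b₁ : G) = _ from hb₁, conj_mul]
            rw [← show (a₁ : G) = _ from ha₁, hχG] at ha'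
            rw [← show (b₁ : G) = _ from hb₁, hχG] at hb'
            rw [e, hχG, map_mul, map_mul, ha', hb']
          inv_mem' := by
            rintro a ⟨ha, ha'⟩
            refine ⟨inv_mem ha, ?_⟩
            obtain ⟨a₁, -, ha₁⟩ := hgN a ha
            have e : g * ((a⁻¹ : ↥(S : Subgroup G)) : G) * g⁻¹ = ((a₁⁻¹ : ↥(S : Subgroup G)) : G) := by
              rw [Subgroup.coe_inv, Subgroup.coe_inv, show (a₁ : G) = _ from ha₁, conj_inv]
            rw [← show (a₁ : G) = _ from ha₁, hχG] at ha'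
            rw [e, hχG, map_inv, map_inv, ha'] }
      have hle : X' ≤ M := by
        refine (W.IsX.le_gen d hX').trans (sup_le ((closure_le _).mpr ?_) ?_)
        · have hq : ∀ w ∈ X', w ∉ center ↥(S : Subgroup G) → w * w = d.e (W.H n) (W.H n) → w ∈ M := by
            intro w hw hnc hsq
            refine ⟨hw, ?_⟩
            obtain ⟨w', hw', he, hnc', hsq'⟩ := normalizer_XG_qtype S d hX' hg hw hnc hsq
            rw [← he, hχG, hχq c' X' hX' w' hw' hnc' hsq', hχq c' X' hX' w hw hnc hsq]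
          exact Set.insert_subset (hq _ (W.IsX.mem_qa d hX') d.qa_notMem_center d.qa_sq)
            (Set.singleton_subset_iff.mpr
              (hq _ (W.IsX.mem_qb d hX') (d.qb_notMem_center c') (d.qb_sq c')))
        · intro ζ hζ
          refine ⟨W.IsX.center_le d hX' hζ, ?_⟩
          have e := fix_of_centralizer (normalizer_XG_center S d hX' hg) (show (ζ : G) ∈ ZG S from ⟨ζ, hζ, rfl⟩)
          rw [e, hχG]
      show χG (g * (v : G) * g⁻¹) = χG (v : G)
      rw [(hle hv).2, hχG]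
  obtain ⟨τ, hτ⟩ := FusionInvariant.exists_transfer S χ (by
    intro x g hg
    have := hinvχ _ x.2 g hg
    rw [hχG] at this
    rw [← this]
    exact (hχG ⟨_, hg⟩).symm)
  have hoddI : Nat.Coprime (S : Subgroup G).index (2 ^ n) :=
    (Nat.coprime_two_right.mpr (by
      rw [← Nat.not_even_iff_odd, even_iff_two_dvd]; exact S.not_dvd_index)).pow_right n
  have hcardT : Nat.card (Multiplicative (ZMod (2 ^ n))) = 2 ^ n := by
    rw [Nat.card_congr Multiplicative.toAdd, Nat.card_zmod]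
  haveI : Finite (Multiplicative (ZMod (2 ^ n))) := Nat.finite_of_card_ne_zero (by rw [hcardT]; positivity)
  let φ := powCoprime (G := Multiplicative (ZMod (2 ^ n))) (n := (S : Subgroup G).index)
    (by rw [hcardT]; exact hoddI.symm)
  have hτ' : ∀ v : ↥(S : Subgroup G), τ (v : G) = φ (χ v) := hτ
  have hχsurj : ∀ u : Multiplicative (ZMod (2 ^ n)), ∃ v : ↥(S : Subgroup G), v ∈ d.A ∧ χ v = u := by
    intro u
    refine ⟨d.e ((Multiplicative.toAdd u).cast : ℤ) 0, ⟨_, _, rfl⟩, ?_⟩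
    rw [hχe, add_zero, ZMod.intCast_zmod_cast]
    rfl
  have hτsurj : ∀ u, ∃ v : ↥(S : Subgroup G), v ∈ d.A ∧ τ (v : G) = u := by
    intro u
    obtain ⟨v, hv, hvu⟩ := hχsurj (φ.symm u)
    exact ⟨v, hv, by rw [hτ', hvu, Equiv.apply_symm_apply]⟩
  have hK : τ.ker.index = 2 ^ n := by
    have hr : τ.range = ⊤ := eq_top_iff.mpr fun u _ => by
      obtain ⟨v, -, hv⟩ := hτsurj u
      exact ⟨_, hv⟩
    rw [Subgroup.index_ker, hr, Subgroup.card_top, hcardT]
  have hker : ∀ v : ↥(S : Subgroup G), χ v = 1 → (v : G) ∈ τ.ker := by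
    intro v hv
    rw [MonoidHom.mem_ker, hτ, hv, one_pow]
  set Yg := d.Y.map (S : Subgroup G).subtype with hYg
  have hy₀χ : χ (d.e (W.H n) 0 * d.z) = 1 := by
    rw [hχez, show ((W.H n + 0 + W.H n : ℤ) : ZMod (2 ^ n)) = 0 by push_cast; linear_combination hHH]
    rfl
  have hYK : Yg ≤ τ.ker := by
    rw [hYg, W.Y, MonoidHom.map_closure, closure_le]
    rintro _ ⟨v, rfl | rfl, rfl⟩
    · refine hker _ ?_
      rw [hχe, show ((1 + -1 : ℤ)) = 0 from by ring, Int.cast_zero]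
      rfl
    · exact hker _ hy₀χ
  have hYc : Nat.card Yg = 2 ^ (n + 1) := by
    rw [hYg, card_map_of_injective (S : Subgroup G).subtype_injective, d.card_Y]
  have hRidx : (Yg.subgroupOf τ.ker).index = (S : Subgroup G).index := by
    have h1 := (Yg.subgroupOf τ.ker).card_mul_index
    rw [Nat.card_congr (subgroupOfEquivOfLe hYK).toEquiv, hYc] at h1
    have h2 := τ.ker.card_mul_index
    rw [hK, ← h1] at h2
    have h3 := (S : Subgroup G).card_mul_index
    rw [← h2, d.card, show 2 * n + 1 = (n + 1) + n by ring, pow_add] at h3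
    refine Nat.eq_of_mul_eq_mul_left (show 0 < 2 ^ (n + 1) * 2 ^ n by positivity) ?_
    rw [h3]; ring
  refine ⟨τ.ker, inferInstance, hK, fun P => ?_, fun H hH => ?_⟩
  · obtain ⟨f⟩ := d.Y_equiv
    have hp : IsPGroup 2 ↥(Yg.subgroupOf τ.ker) :=
      ((S.isPGroup'.to_subgroup d.Y).map _).of_equiv (subgroupOfEquivOfLe hYK).symm
    let R := hp.toSylow (by rw [hRidx]; exact S.not_dvd_index)
    exact ⟨n - 1, by have := d.two_le; omega, ⟨(P.equiv R).trans ((subgroupOfEquivOfLe hYK).trans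
      ((d.Y.equivMapOfInjective _ (S : Subgroup G).subtype_injective).symm.trans f))⟩⟩
  · haveI := Subgroup.normal_of_index_eq_two hH
    have hH' : ∀ k ∈ τ.ker, ∀ h ∈ H.map τ.ker.subtype, k * h * k⁻¹ ∈ H.map τ.ker.subtype := by
      rintro k hk _ ⟨h, hh, rfl⟩
      exact ⟨⟨k, hk⟩ * h * ⟨k, hk⟩⁻¹, ‹H.Normal›.conj_mem h hh _, rfl⟩
    -- conjugates of `α` are conjugate inside the kernel
    have hsplit : ∀ b : G, IsConj (d.qa : G) b →
        ((d.qa : G) ∈ H.map τ.ker.subtype ↔ b ∈ H.map τ.ker.subtype) := by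
      intro b hb
      obtain ⟨g, rfl⟩ := isConj_iff.mp hb
      obtain ⟨w, hwA, hw⟩ := hτsurj (τ g)⁻¹
      have hk : g * (w : G) ∈ τ.ker := by rw [MonoidHom.mem_ker, map_mul, hw, mul_inv_cancel]
      have hcomm : (w : G) * (d.qa : G) = (d.qa : G) * w :=
        AG_comm S d ⟨w, hwA, rfl⟩ ⟨d.qa, ⟨_, _, rfl⟩, rfl⟩
      have e : g * (d.qa : G) * g⁻¹ = g * (w : G) * (d.qa : G) * (g * (w : G))⁻¹ := by
        calc g * (d.qa : G) * g⁻¹ = g * ((d.qa : G) * w) * (w : G)⁻¹ * g⁻¹ := by group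
          _ = g * (w : G) * (d.qa : G) * (g * (w : G))⁻¹ := by rw [← hcomm]; group
      rw [e]
      refine ⟨hH' _ hk _, fun h => ?_⟩
      have := hH' _ (τ.ker.inv_mem hk) _ h
      simpa [mul_assoc] using this
    obtain ⟨g, hg, -, v, hv, hvg, -, p, r, hvp, hpr⟩ := XG_six S d hX h₂
    have hα_y : IsConj (d.qa : G) ((d.e (W.H n) 0 * d.z : ↥(S : Subgroup G)) : G) := by
      refine (isConj_iff.mpr ⟨g, hvg.symm⟩).trans (QDFusion.isConj_coe (isConj_iff.mpr ⟨d.e (W.H n - p) 0, ?_⟩))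
      rw [hvp, d.conj_e_ez, mul_left_inj, d.e_eq]
      obtain ⟨t, ht⟩ := hpr
      exact ⟨⟨0, by ring⟩, ⟨t, by linarith⟩⟩
    set y₁ := d.e (W.H n + 1) (-1) * d.z with hy₁
    have hy₁conj : IsConj (d.qa : G) (y₁ : G) := hα_y.trans (QDFusion.isConj_coe (isConj_iff.mpr ⟨d.e 1 0, by
      rw [d.conj_e_ez, hy₁, mul_left_inj, d.e_eq]
      exact ⟨⟨0, by ring⟩, ⟨0, by ring⟩⟩⟩))
    have hy₀K : ((d.e (W.H n) 0 * d.z : ↥(S : Subgroup G)) : G) ∈ τ.ker := hker _ hy₀χ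
    have hy₁K : (y₁ : G) ∈ τ.ker := hker _ (by
      rw [hy₁, hχez, show ((W.H n + 1 + -1 + W.H n : ℤ) : ZMod (2 ^ n)) = 0 by
        push_cast; linear_combination hHH]
      rfl)
    have h0 := hsplit _ hα_y
    have h1 := hsplit _ hy₁conj
    have hprod : ((y₁ * (d.e (W.H n) 0 * d.z) : ↥(S : Subgroup G)) : G) ∈ H.map τ.ker.subtype := by
      rw [Subgroup.coe_mul]
      refine ⟨⟨_, hy₁K⟩ * ⟨_, hy₀K⟩, ?_, rfl⟩
      have h12 : (⟨_, hy₁K⟩ : ↥τ.ker) ∈ H ↔ (⟨_, hy₀K⟩ : ↥τ.ker) ∈ H := by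
        rw [← mem_map_iff_mem τ.ker.subtype_injective (K := H) (x := (⟨_, hy₁K⟩ : ↥τ.ker)),
          ← mem_map_iff_mem τ.ker.subtype_injective (K := H) (x := (⟨_, hy₀K⟩ : ↥τ.ker))]
        exact h1.symm.trans h0
      exact (Subgroup.mul_mem_iff_of_index_two hH).mpr h12
    have hwH : ((d.e (W.H n) (W.H n) : ↥(S : Subgroup G)) : G) ∈ H.map τ.ker.subtype := by
      refine ⟨⟨_, hy₀K⟩ * ⟨_, hy₀K⟩, Subgroup.mul_self_mem_of_index_two hH _, ?_⟩
      show ((d.e (W.H n) 0 * d.z : ↥(S : Subgroup G)) : G) * _ = _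
      rw [← Subgroup.coe_mul, d.ez_ez, add_zero, zero_add]
    have hr0 : ((d.e 1 (-1) : ↥(S : Subgroup G)) : G) ∈ H.map τ.ker.subtype := by
      have e : d.e 1 (-1) = y₁ * (d.e (W.H n) 0 * d.z) * (d.e (W.H n) (W.H n))⁻¹ := by
        rw [hy₁, d.ez_ez, d.e_inv, d.e_mul, d.e_eq]
        exact ⟨⟨0, by ring⟩, ⟨0, by ring⟩⟩
      rw [e, Subgroup.coe_mul, Subgroup.coe_inv]
      exact mul_mem hprod ((H.map τ.ker.subtype).inv_mem hwH)
    have hαH : (d.qa : G) ∈ H.map τ.ker.subtype := by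
      have e : d.qa = d.e 1 (-1) ^ W.Q n := by
        rw [W.qa, d.e_zpow, mul_one, mul_neg_one]
      rw [e, Subgroup.coe_zpow]
      exact zpow_mem hr0 _
    have hYH : Yg ≤ H.map τ.ker.subtype := by
      rw [hYg, W.Y, MonoidHom.map_closure, closure_le]
      rintro _ ⟨v, rfl | rfl, rfl⟩
      exacts [hr0, h0.mp hαH]
    have hd := Subgroup.index_dvd_of_le hYH
    have hYidx : d.Y.index = 2 ^ n := by
      have h := d.Y.card_mul_index
      rw [d.card_Y, d.card, show (2 : ℕ) ^ (2 * n + 1) = 2 ^ (n + 1) * 2 ^ n by rw [← pow_add]; congr 1; ring] at h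
      exact Nat.eq_of_mul_eq_mul_left (Nat.two_pow_pos _) h
    rw [hYg, index_map_subtype, index_map_subtype, hH, hK, hYidx, mul_comm 2] at hd
    exact S.not_dvd_index (Nat.dvd_of_mul_dvd_mul_left (Nat.two_pow_pos _) hd)

end Cfsg.Agent.S1210
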