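import Cfsg.Statements.S1211
import Cfsg.Agent.Lib.TwoGroup.WreathedSetup
-- import your own Cfsg.Agent.* helpers here

set_option autoImplicit false
open Cfsg

namespace Cfsg.Agent.S1211
open Subgroup
open Cfsg.Lib.TwoGroup
open Cfsg.Lib.TwoGroup.WreathedFusion

/-- Let G be a finite group whose Sylow 2-subgroup S is wreathed of order 2^(2n+1), U the commutative subgroup of index 2 in S, Q a quaternion subgroup of order 8 of S and V = Q Z(S). If |N_G(U) : C_G(U)| = 6 and |N_G(V) : V C_G(V)| = 2, then G has a normal subgroup K of index 2 containing U (so U is a Sylow 2-subgroup of K) which has no subgroup of index 2, and G has exactly two classes of involutions. -/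
theorem result {G : Type*} [Group G] [Finite G] (S : Sylow 2 G) (hS : Cfsg.IsWreathed (S : Subgroup G)) (n : ℕ) (hn : Nat.card S = 2 ^ (2 * n + 1)) (U : Subgroup G) (hUS : U ≤ S) (hUab : IsMulCommutative U) (hUcard : Nat.card U = 2 ^ (2 * n)) (Q : Subgroup G) (hQS : Q ≤ S) (eQ : Q ≃* QuaternionGroup 2) (h₁ : (Subgroup.centralizer (U : Set G)).relIndex (Subgroup.normalizer (U : Set G)) = 6) (h₂ : ((Q ⊔ ((Subgroup.center (S : Subgroup G)).map (S : Subgroup G).subtype)) ⊔ Subgroup.centralizer ((Q ⊔ ((Subgroup.center (S : Subgroup G)).map (S : Subgroup G).subtype) : Subgroup G) : Set G)).relIndex (Subgroup.normalizer ((Q ⊔ ((Subgroup.center (S : Subgroup G)).map (S : Subgroup G).subtype) : Subgroup G) : Set G)) = 2) : (∃ K : Subgroup G, K.Normal ∧ K.index = 2 ∧ U ≤ K ∧ (∀ H : Subgroup ↥K, H.index ≠ 2)) ∧ Nat.card {C : ConjClasses G // ∃ t : G, orderOf t = 2 ∧ ConjClasses.mk t = C} = 2 := by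
  classical
  haveI : Fact (Nat.Prime 2) := ⟨Nat.prime_two⟩
  obtain ⟨d⟩ := Cfsg.Lib.TwoGroup.w_of_card hS hn
  obtain rfl := eq_AG S d hUS hUab hUcard
  obtain ⟨c, X, hX, hV⟩ := exists_X S d hQS eQ
  rw [hV] at h₂
  have hwo : orderOf ((d.e (W.H n) (W.H n) : ↥(S : Subgroup G)) : G) = 2 :=
    (Subgroup.orderOf_coe _).trans d.orderOf_HH
  have huo : orderOf ((d.e (W.H n) 0 : ↥(S : Subgroup G)) : G) = 2 :=
    (Subgroup.orderOf_coe _).trans d.orderOf_H0
  have hzo : orderOf (d.z : G) = 2 := (Subgroup.orderOf_coe _).trans d.hz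
  -- membership in `A` is invariant
  have hinvA : ∀ x ∈ (S : Subgroup G), ∀ g : G, g * x * g⁻¹ ∈ (S : Subgroup G) →
      (g * x * g⁻¹ ∈ AG S d) = (x ∈ AG S d) := by
    refine invariant S d (fun x => x ∈ AG S d) ?_ ?_ ?_
    · intro s hs x _
      exact propext (mem_normalizer_iff.mp (sylow_le_normalizer_AG S d hs) x).symm
    · intro g hg _ x _
      exact propext (mem_normalizer_iff.mp hg x).symm
    · intro c' X' hX' g hg hodd x hx
      rw [fix_of_centralizer (XG_two_all S d hX h₂ hX' hg hodd) hx]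
  have huw := u_isConj_w S d h₁
  have hnuz : ¬ IsConj ((d.e (W.H n) 0 : ↥(S : Subgroup G)) : G) (d.z : G) := by
    intro h
    obtain ⟨g, hg⟩ := isConj_iff.mp h
    have hzA : (d.z : G) ∉ AG S d := fun h' =>
      d.z_notMem ((mem_map_iff_mem (S : Subgroup G).subtype_injective).mp h')
    have h1 := hinvA _ (d.e (W.H n) 0).2 g (hg ▸ d.z.2)
    rw [hg] at h1
    exact hzA (h1.mpr (TG_le_AG S d (u_mem_TG S d)))
  refine ⟨?_, QDFusion.count_two _ _ huo hzo hnuz fun t ht => ?_⟩
  swap
  · rcases involution_classes S d t ht with h | h | h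
    exacts [Or.inl (h.trans huw.symm), Or.inl h, Or.inr h]
  haveI hAn := Subgroup.normal_of_index_eq_two d.index_A
  -- the character with kernel `A`
  let χ : ↥(S : Subgroup G) →* ℤˣ := MonoidHom.mk' (fun y => if y ∈ d.A then 1 else -1)
    (fun a b => by
      have h := Subgroup.mul_mem_iff_of_index_two d.index_A (a := a) (b := b)
      by_cases ha : a ∈ d.A <;> by_cases hb : b ∈ d.A <;> simp [ha, hb, h])
  have hmemA : ∀ y : ↥(S : Subgroup G), (y : G) ∈ AG S d ↔ y ∈ d.A := fun y =>
    mem_map_iff_mem (S : Subgroup G).subtype_injective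
  obtain ⟨τ, hτ⟩ := FusionInvariant.exists_transfer S χ (by
    intro x g hg
    have h1 := hinvA _ x.2 g hg
    have h2 : ((⟨_, hg⟩ : ↥(S : Subgroup G)) ∈ d.A) ↔ (x ∈ d.A) := by
      rw [← hmemA, ← hmemA]; exact iff_of_eq h1
    simp only [χ, MonoidHom.mk'_apply]
    exact if_congr h2 rfl rfl)
  have hτz : τ (d.z : G) = -1 := by
    have hodd : Odd (S : Subgroup G).index := by
      rw [← Nat.not_even_iff_odd, even_iff_two_dvd]; exact S.not_dvd_index
    have hχ : χ d.z = -1 := by simp [χ, d.z_notMem]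
    rw [hτ, hχ, hodd.neg_one_pow]
  have hK : τ.ker.index = 2 := by
    have hr : τ.range = ⊤ := by
      rw [eq_top_iff]
      intro u _
      rcases Int.units_eq_one_or u with rfl | rfl
      exacts [one_mem _, ⟨_, hτz⟩]
    rw [Subgroup.index_ker, hr, Subgroup.card_top, Nat.card_eq_fintype_card]
    rfl
  have hAK : AG S d ≤ τ.ker := by
    intro x hx
    obtain ⟨a, b, rfl⟩ := (mem_AG S d).mp hx
    have hm : d.e a b ∈ d.A := ⟨a, b, rfl⟩
    have hχ : χ (d.e a b) = 1 := by simp [χ, hm]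
    rw [MonoidHom.mem_ker, hτ, hχ, one_pow]
  have hodd : ∀ g : G, Odd (orderOf g) → g ∈ τ.ker := by
    intro g hg
    rw [MonoidHom.mem_ker]
    rcases Int.units_eq_one_or (τ g) with h | h
    · exact h
    · exfalso
      have h1 : orderOf (τ g) = 2 := by
        rw [h]; exact orderOf_eq_prime (by decide) (by decide)
      have h2 := orderOf_map_dvd τ g
      rw [h1] at h2
      exact Nat.not_even_iff_odd.mpr hg (even_iff_two_dvd.mpr h2)
  refine ⟨τ.ker, inferInstance, hK, hAK, fun H hH => ?_⟩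
  have hle := AG_le_of_index_two S d h₁ hAK hodd hH
  have hd := Subgroup.index_dvd_of_le hle
  rw [AG, index_map_subtype, index_map_subtype, hH, hK, d.index_A] at hd
  exact S.not_dvd_index (Nat.dvd_of_mul_dvd_mul_left two_pos hd)

end Cfsg.Agent.S1211
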