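import Cfsg.Statements.S1212
import Cfsg.Agent.Lib.TwoGroup.WreathedSetup
-- import your own Cfsg.Agent.* helpers here

set_option autoImplicit false
open Cfsg

namespace Cfsg.Agent.S1212
open Subgroup
open Cfsg.Lib.TwoGroup
open Cfsg.Lib.TwoGroup.WreathedFusion

/-- Let G be a finite group whose Sylow 2-subgroup S is wreathed of order 2^(2n+1), U the commutative subgroup of index 2 in S, Q a quaternion subgroup of order 8 of S and V = Q Z(S). If |N_G(U) : C_G(U)| = 2 and |N_G(V) : V C_G(V)| = 2, then G has a normal 2-complement and exactly three conjugacy classes of involutions. -/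
theorem result {G : Type*} [Group G] [Finite G] (S : Sylow 2 G) (hS : Cfsg.IsWreathed (S : Subgroup G)) (n : ℕ) (hn : Nat.card S = 2 ^ (2 * n + 1)) (U : Subgroup G) (hUS : U ≤ S) (hUab : IsMulCommutative U) (hUcard : Nat.card U = 2 ^ (2 * n)) (Q : Subgroup G) (hQS : Q ≤ S) (eQ : Q ≃* QuaternionGroup 2) (h₁ : (Subgroup.centralizer (U : Set G)).relIndex (Subgroup.normalizer (U : Set G)) = 2) (h₂ : ((Q ⊔ ((Subgroup.center (S : Subgroup G)).map (S : Subgroup G).subtype)) ⊔ Subgroup.centralizer ((Q ⊔ ((Subgroup.center (S : Subgroup G)).map (S : Subgroup G).subtype) : Subgroup G) : Set G)).relIndex (Subgroup.normalizer ((Q ⊔ ((Subgroup.center (S : Subgroup G)).map (S : Subgroup G).subtype) : Subgroup G) : Set G)) = 2) : Cfsg.HasNormalPComplement 2 G ∧ Nat.card {C : ConjClasses G // ∃ t : G, orderOf t = 2 ∧ ConjClasses.mk t = C} = 3 := by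
  classical
  haveI : Fact (Nat.Prime 2) := ⟨Nat.prime_two⟩
  obtain ⟨d⟩ := Cfsg.Lib.TwoGroup.w_of_card hS hn
  obtain rfl := eq_AG S d hUS hUab hUcard
  obtain ⟨c, X, hX, hV⟩ := exists_X S d hQS eQ
  rw [hV] at h₂
  have hwo : orderOf ((d.e (W.H n) (W.H n) : ↥(S : Subgroup G)) : G) = 2 :=
    (Subgroup.orderOf_coe _).trans d.orderOf_HH
  have huo : orderOf ((d.e (W.H n) 0 : ↥(S : Subgroup G)) : G) = 2 :=
    (Subgroup.orderOf_coe _).trans d.orderOf_H0
  have hzo : orderOf (d.z : G) = 2 := (Subgroup.orderOf_coe _).trans d.hz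
  have hinvC : ∀ x ∈ (S : Subgroup G), ∀ g : G, g * x * g⁻¹ ∈ (S : Subgroup G) →
      {y : G | ∃ s ∈ (S : Subgroup G), s * (g * x * g⁻¹) * s⁻¹ = y} =
        {y : G | ∃ s ∈ (S : Subgroup G), s * x * s⁻¹ = y} := by
    refine invariant S d (fun x => {y : G | ∃ s ∈ (S : Subgroup G), s * x * s⁻¹ = y}) ?_ ?_ ?_
    · intro s hs x _
      ext y
      constructor
      · rintro ⟨t, ht, rfl⟩
        exact ⟨t * s, mul_mem ht hs, by group⟩
      · rintro ⟨t, ht, rfl⟩
        exact ⟨t * s⁻¹, mul_mem ht ((S : Subgroup G).inv_mem hs), by group⟩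
    · intro g hg hodd x hx
      rw [fix_of_centralizer (AG_two S d h₁ hg hodd) hx]
    · intro c' X' hX' g hg hodd x hx
      rw [fix_of_centralizer (XG_two_all S d hX h₂ hX' hg hodd) hx]
  have hctrl : ∀ x ∈ (S : Subgroup G), ∀ g : G, g * x * g⁻¹ ∈ (S : Subgroup G) →
      ∃ u ∈ (S : Subgroup G), u * x * u⁻¹ = g * x * g⁻¹ := by
    intro x hx g hg
    have h : g * x * g⁻¹ ∈ {y : G | ∃ s ∈ (S : Subgroup G), s * x * s⁻¹ = y} := by
      rw [← hinvC x hx g hg]; exact ⟨1, one_mem _, by group⟩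
    exact h
  refine ⟨Cfsg.Lib.Fusion.hasNormalPComplement_of_controls S hctrl, ?_⟩
  have hS' : ∀ v w : ↥(S : Subgroup G), IsConj (v : G) (w : G) → IsConj v w := by
    intro v w h
    obtain ⟨g, hg⟩ := isConj_iff.mp h
    obtain ⟨u, hu, he⟩ := hctrl _ v.2 g (hg ▸ w.2)
    exact isConj_iff.mpr ⟨⟨u, hu⟩, Subtype.ext (he.trans hg)⟩
  have hwu : ¬ IsConj ((d.e (W.H n) (W.H n) : ↥(S : Subgroup G)) : G)
      ((d.e (W.H n) 0 : ↥(S : Subgroup G)) : G) := by
    intro h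
    obtain ⟨s, hs⟩ := isConj_iff.mp (hS' _ _ h)
    have hwc : d.e (W.H n) (W.H n) ∈ center ↥(S : Subgroup G) := d.mem_center_e.mpr (by simp)
    rw [mem_center_iff.mp hwc s, mul_inv_cancel_right] at hs
    exact u_ne_w S d (congrArg Subtype.val hs.symm)
  have hout : ∀ a b : ℤ, ¬ IsConj ((d.e a b : ↥(S : Subgroup G)) : G) (d.z : G) := by
    intro a b h
    obtain ⟨s, hs⟩ := isConj_iff.mp (hS' _ _ h)
    haveI := Subgroup.normal_of_index_eq_two d.index_A
    exact d.z_notMem (hs ▸ (Subgroup.Normal.conj_mem inferInstance) _ (show d.e a b ∈ d.A from ⟨a, b, rfl⟩) s)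
  have h12 : ConjClasses.mk ((d.e (W.H n) (W.H n) : ↥(S : Subgroup G)) : G) ≠
      ConjClasses.mk ((d.e (W.H n) 0 : ↥(S : Subgroup G)) : G) :=
    fun e => hwu (ConjClasses.mk_eq_mk_iff_isConj.mp e)
  have h13 : ConjClasses.mk ((d.e (W.H n) (W.H n) : ↥(S : Subgroup G)) : G) ≠
      ConjClasses.mk (d.z : G) :=
    fun e => hout _ _ (ConjClasses.mk_eq_mk_iff_isConj.mp e)
  have h23 : ConjClasses.mk ((d.e (W.H n) 0 : ↥(S : Subgroup G)) : G) ≠ ConjClasses.mk (d.z : G) :=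
    fun e => hout _ _ (ConjClasses.mk_eq_mk_iff_isConj.mp e)
  have h3 : ({ConjClasses.mk ((d.e (W.H n) (W.H n) : ↥(S : Subgroup G)) : G),
      ConjClasses.mk ((d.e (W.H n) 0 : ↥(S : Subgroup G)) : G),
      ConjClasses.mk (d.z : G)} : Set (ConjClasses G)).ncard = 3 :=
    Set.ncard_eq_three.mpr ⟨_, _, _, h12, h13, h23, rfl⟩
  rw [← h3, ← Nat.card_coe_set_eq]
  refine Nat.card_congr (Equiv.setCongr (s := {C | _}) (Set.ext fun C => ⟨?_, ?_⟩))
  · rintro ⟨t, ht, rfl⟩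
    rcases involution_classes S d t ht with h | h | h
    exacts [Or.inl (ConjClasses.mk_eq_mk_iff_isConj.mpr h),
      Or.inr (Or.inl (ConjClasses.mk_eq_mk_iff_isConj.mpr h)),
      Or.inr (Or.inr (ConjClasses.mk_eq_mk_iff_isConj.mpr h))]
  · rintro (rfl | rfl | rfl)
    exacts [⟨_, hwo, rfl⟩, ⟨_, huo, rfl⟩, ⟨_, hzo, rfl⟩]

end Cfsg.Agent.S1212
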