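import Cfsg.Statements.S1213
import Cfsg.Agent.Lib.TwoGroup.WreathedSetup
import Cfsg.Agent.S1204
import Cfsg.Agent.S1205
import Cfsg.Agent.S1206
import Cfsg.Agent.S1207
import Cfsg.Agent.S1208
import Cfsg.Agent.S1210
import Cfsg.Agent.S1211
import Cfsg.Agent.S1212
import Cfsg.Agent.Lib.TwoGroup.WreathedCentre
-- import your own Cfsg.Agent.* helpers here

set_option autoImplicit false
open Cfsg

namespace Cfsg.Agent.S1213


open Subgroup
open scoped Pointwise
open Cfsg.Lib.TwoGroup

theorem index_two_of_complement {G : Type*} [Group G] [Finite G] (S : Sylow 2 G)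
    (h : Cfsg.HasNormalPComplement 2 G) (hS : 1 < Nat.card S) : ∃ H : Subgroup G, H.index = 2 := by
  haveI : Fact (Nat.Prime 2) := ⟨Nat.prime_two⟩
  obtain ⟨P, N, hN, hNP⟩ := h
  haveI := hN
  obtain ⟨e, he⟩ := P.isPGroup'.exists_card_eq
  have hNi : N.index = 2 ^ e := by rw [hNP.symm.index_eq_card, he]
  rcases e with _ | e
  · rw [Nat.card_congr (P.equiv S).toEquiv] at he
    rw [he] at hS; simp at hS
  · exact Cfsg.Agent.S1255.exists_index_two N hNi

/-- Transport of generators. -/
def sdTransport {S₁ S₂ : Type*} [Group S₁] [Group S₂] {m : ℕ} (d : SD S₁ m) (f : S₁ ≃* S₂) :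
    SD S₂ m where
  x := f d.x
  y := f d.y
  three_le := d.three_le
  card := (Nat.card_congr f.symm.toEquiv).trans d.card
  hx := (f.orderOf_eq d.x).trans d.hx
  hy := (f.orderOf_eq d.y).trans d.hy
  conj := by rw [← map_inv, ← map_mul, ← map_mul, d.conj, map_pow]

theorem sd_quat {S : Type*} [Group S] [Finite S] {n : ℕ} (d : SD S n) :
    Nonempty (↥(closure {d.x ^ SD.P n, d.x * d.y} : Subgroup S) ≃* QuaternionGroup 2) := by
  haveI : Fact (Nat.Prime 2) := ⟨Nat.prime_two⟩
  have h2 : d.x ^ SD.P n * d.x ^ SD.P n = d.z := by rw [← zpow_add, SD.z]; congr 1; ring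
  have hj : d.x * d.y * (d.x * d.y) = d.z := by simpa using d.sq_odd 0
  refine equiv_quaternion ?_ ?_ ?_ ?_
  · refine orderOf_eq_prime_pow (p := 2) (n := 1) ?_ ?_
    · rw [pow_one, pow_two, h2]; exact d.z_ne_one
    · rw [show (2 : ℕ) ^ (1 + 1) = 2 * 2 by norm_num, pow_mul, pow_two (d.x ^ _), h2, pow_two,
        Cfsg.Lib.Invol.inv_mul_self d.orderOf_z]
  · rw [hj, pow_two, h2]
  · rw [mul_inv_rev, show d.x * d.y * d.x ^ SD.P n * (d.y⁻¹ * d.x⁻¹) =
      d.x * (d.y * d.x ^ SD.P n * d.y⁻¹) * d.x⁻¹ by group, d.conj_zpow, ← zpow_one_add,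
      ← zpow_sub_one, ← zpow_neg, d.zx]
    obtain ⟨r, hr⟩ := d.P_even
    exact ⟨r, by linear_combination (2 * SD.P n) * hr⟩
  · intro hh
    exact d.mul_y_notMem 1 (by
      rw [zpow_one]
      exact (zpowers_le.mpr (zpow_mem (mem_zpowers _) _)) hh)

theorem relIndex_in {G : Type*} [Group G] {C A : Subgroup G} {B : Subgroup G} (hB : B ≤ C) :
    (A.subgroupOf C).relIndex (B.subgroupOf C) = A.relIndex B :=
  Subgroup.relIndex_subgroupOf hB

theorem centralizer_in {G : Type*} [Group G] {C A : Subgroup G} (hA : A ≤ C) :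
    Subgroup.centralizer ((A.subgroupOf C : Subgroup ↥C) : Set ↥C) =
      (Subgroup.centralizer (A : Set G)).subgroupOf C := by
  ext g
  rw [mem_subgroupOf, mem_centralizer_iff, mem_centralizer_iff]
  constructor
  · intro h a ha
    exact congrArg Subtype.val (h ⟨a, hA ha⟩ (mem_subgroupOf.mpr ha))
  · intro h a ha
    exact Subtype.ext (h _ (mem_subgroupOf.mp ha))

theorem normalizer_in {G : Type*} [Group G] [Finite G] {C A : Subgroup G} (hA : A ≤ C) :
    Subgroup.normalizer ((A.subgroupOf C : Subgroup ↥C) : Set ↥C) =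
      (Subgroup.normalizer (A : Set G)).subgroupOf C := by
  ext g
  rw [mem_subgroupOf]
  constructor
  · intro h
    rw [mem_normalizer_iff_map_conj_eq]
    refine eq_of_le_of_card_ge ?_ (card_map_of_injective (MulAut.conj (g : G)).injective).ge
    rintro _ ⟨a, ha, rfl⟩
    exact mem_subgroupOf.mp ((mem_normalizer_iff.mp h ⟨a, hA ha⟩).mp (mem_subgroupOf.mpr ha))
  · intro h
    rw [mem_normalizer_iff]
    intro a
    exact mem_normalizer_iff.mp h (a : G)

/-- The conclusion for a Sylow subgroup containing the involution in its centre. -/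
theorem main {G : Type*} [Group G] [Finite G] (S : Sylow 2 G)
    (hS : Cfsg.IsQuasiDihedral (S : Subgroup G) ∨ Cfsg.IsWreathed (S : Subgroup G))
    (hG : ∀ H : Subgroup G, H.index ≠ 2) (x : G) (hx : orderOf x = 2)
    (hxS : x ∈ (S : Subgroup G)) (hxZ : (⟨x, hxS⟩ : ↥(S : Subgroup G)) ∈ center ↥(S : Subgroup G)) :
    ∃ R : Sylow 2 ↥(Subgroup.centralizer ({x} : Set G)), Nat.card R = Nat.card S ∧ (∃ K : Subgroup ↥(Subgroup.centralizer ({x} : Set G)), K.Normal ∧ (∃ a : ℕ, K.index = 2 ^ a) ∧ (∀ H : Subgroup ↥K, H.index ≠ 2) ∧ (∀ P : Sylow 2 ↥K, ∃ m : ℕ, 1 ≤ m ∧ Nonempty ((P : Subgroup ↥K) ≃* QuaternionGroup (2 ^ m)))) ∧ (∀ Z₀ : Subgroup ↥(Subgroup.centralizer ({x} : Set G)), Z₀ ≤ ((Subgroup.center (R : Subgroup ↥(Subgroup.centralizer ({x} : Set G)))).map (R : Subgroup ↥(Subgroup.centralizer ({x} : Set G))).subtype) → Cfsg.IsWeaklyClosed Z₀ (R : Subgroup ↥(Subgroup.centralizer ({x} : Set G)))) := by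
  classical
  haveI : Fact (Nat.Prime 2) := ⟨Nat.prime_two⟩
  set C := Subgroup.centralizer ({x} : Set G) with hC
  have hSC : (S : Subgroup G) ≤ C := fun s hs => mem_centralizer_singleton_iff.mpr
    (congrArg Subtype.val (mem_center_iff.mp hxZ ⟨s, hs⟩))
  have hxC : ∀ g ∈ C, g * x * g⁻¹ = x := fun g hg => by
    rw [mem_centralizer_singleton_iff.mp hg, mul_inv_cancel_right]
  set R := S.subtype hSC with hR
  have hcard : Nat.card R = Nat.card S := Nat.card_congr (subgroupOfEquivOfLe hSC).toEquiv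
  refine ⟨R, hcard, ?_⟩
  let fR : ↥(S : Subgroup G) ≃* ↥((R : Sylow 2 ↥C) : Subgroup ↥C) := (subgroupOfEquivOfLe hSC).symm
  rcases hS with hS | hS
  · obtain ⟨n, ⟨d⟩⟩ := exists_sd hS
    have hxz : x = (d.z : G) := by
      rw [d.center_eq, mem_zpowers_iff] at hxZ
      obtain ⟨k, hk⟩ := hxZ
      have hk' := congrArg Subtype.val hk
      rcases Int.even_or_odd' k with ⟨i, rfl | rfl⟩
      · exfalso
        rw [zpow_mul, zpow_two, Cfsg.Lib.Invol.inv_mul_self d.orderOf_z, one_zpow] at hk'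
        rw [← show (1 : G) = x from hk', orderOf_one] at hx
        omega
      · rw [zpow_add, zpow_mul, zpow_two, Cfsg.Lib.Invol.inv_mul_self d.orderOf_z, one_zpow, one_mul,
          zpow_one] at hk'
        exact hk'.symm
    subst hxz
    obtain ⟨T, hT, hyT, hzT, hTle⟩ := Cfsg.Agent.S1255.exists_four (u := (d.y : G)) (z := (d.z : G))
      (congrArg Subtype.val d.yy) (congrArg Subtype.val (Cfsg.Lib.Invol.inv_mul_self d.orderOf_z))
      (fun e => Cfsg.Lib.Invol.ne_one d.hy (Subtype.ext e)) (fun e => d.z_ne_one (Subtype.ext e))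
      (fun e => d.ne_mul_y (2 * SD.P n) 0 (by rw [zpow_zero, one_mul]; exact Subtype.ext e.symm))
      (congrArg Subtype.val (d.z_central d.y).eq)
    have hTS : T ≤ (S : Subgroup G) := hTle _ d.y.2 d.z.2
    obtain ⟨e₀⟩ := sd_quat d
    set Q := (closure {d.x ^ SD.P n, d.x * d.y} : Subgroup ↥(S : Subgroup G)).map (S : Subgroup G).subtype
      with hQ
    have hQS : Q ≤ (S : Subgroup G) := map_subtype_le _
    let eQ : ↥Q ≃* QuaternionGroup 2 := ((closure {d.x ^ SD.P n, d.x * d.y} : Subgroup ↥(S : Subgroup G)).equivMapOfInjective _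
      (S : Subgroup G).subtype_injective).symm.trans e₀
    -- the automizers in `G`
    obtain ⟨h1, h2⟩ := Cfsg.Agent.S1203.result S hS T hT hTS Q hQS eQ
    have hbad : ∀ K : Subgroup G, K.index = 2 → False := fun K h => hG K h
    have hS1 : 1 < Nat.card S := by
      rw [d.card]; exact Nat.one_lt_two_pow (by omega)
    have h2' : (Q ⊔ centralizer (Q : Set G)).relIndex (normalizer (Q : Set G)) = 6 := by
      rcases h2 with h2 | h2
      · exfalso
        rcases h1 with h1 | h1
        · obtain ⟨H, hH⟩ := index_two_of_complement S (Cfsg.Agent.S1207.result S hS T hT hTS Q hQS eQ h1 h2).1 hS1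
          exact hbad H hH
        · obtain ⟨⟨K, -, hK, -⟩, -⟩ := Cfsg.Agent.S1206.result S hS T hT hTS Q hQS eQ h1 h2
          exact hbad K hK
      · exact h2
    -- normalizer of `Q` centralizes `x`
    have hzQ : (d.z : G) ∈ Q := by
      refine ⟨d.z, ?_, rfl⟩
      have : d.z = d.x ^ SD.P n * d.x ^ SD.P n := by rw [← zpow_add, SD.z]; congr 1; ring
      rw [this]
      exact mul_mem (Cfsg.Lib.TwoGroup.mem_closure_left _ _) (Cfsg.Lib.TwoGroup.mem_closure_left _ _)
    have hNQ : normalizer (Q : Set G) ≤ C := by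
      intro g hg
      have f2 : ∀ a b : QuaternionGroup 2, a * a = 1 → b * b = 1 → a ≠ 1 → b ≠ 1 → a = b := by decide
      have hgz : g * (d.z : G) * g⁻¹ ∈ Q := (mem_normalizer_iff.mp hg _).mp hzQ
      have hzz : (d.z : G) * d.z = 1 := congrArg Subtype.val (Cfsg.Lib.Invol.inv_mul_self d.orderOf_z)
      have hz1 : (d.z : G) ≠ 1 := fun e => d.z_ne_one (Subtype.ext e)
      have he : (⟨_, hgz⟩ : ↥Q) = ⟨_, hzQ⟩ := by
        refine eQ.injective (f2 _ _ ?_ ?_ ?_ ?_)
        · rw [← map_mul, ← map_one eQ]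
          exact congrArg eQ (Subtype.ext (show g * (d.z : G) * g⁻¹ * (g * d.z * g⁻¹) = 1 by
            rw [conj_mul, hzz, mul_one, mul_inv_cancel]))
        · rw [← map_mul, ← map_one eQ]
          exact congrArg eQ (Subtype.ext hzz)
        · rw [Ne, eQ.map_eq_one_iff]
          intro e
          exact hz1 (conj_eq_one_iff.mp (congrArg Subtype.val e))
        · rw [Ne, eQ.map_eq_one_iff]
          intro e
          exact hz1 (congrArg Subtype.val e)
      rw [hC, mem_centralizer_singleton_iff]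
      exact mul_inv_eq_iff_eq_mul.mp (congrArg Subtype.val he)
    have hQC : Q ≤ C := hQS.trans hSC
    have hTC : T ≤ C := hTS.trans hSC
    have hS' : Cfsg.IsQuasiDihedral ↥((R : Sylow 2 ↥C) : Subgroup ↥C) := by
      let d' := sdTransport d fR
      exact ⟨n, d'.three_le, d'.card, d'.x, d'.y, d'.hx, d'.hy, d'.conj⟩
    have hT' : IsKleinFour ↥(T.subgroupOf C) := by
      have e := subgroupOfEquivOfLe hTC
      exact ⟨by rw [Nat.card_congr e.toEquiv]; exact hT.card_four,
        by rw [Monoid.exponent_eq_of_mulEquiv e]; exact hT.exponent_two⟩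
    have hTS' : T.subgroupOf C ≤ (R : Subgroup ↥C) := fun t ht => mem_subgroupOf.mpr (hTS ht)
    have hQS' : Q.subgroupOf C ≤ (R : Subgroup ↥C) := fun t ht => mem_subgroupOf.mpr (hQS ht)
    let eQ' : ↥(Q.subgroupOf C) ≃* QuaternionGroup 2 := (subgroupOfEquivOfLe hQC).trans eQ
    have hQ6 : (Q.subgroupOf C ⊔ centralizer ((Q.subgroupOf C : Subgroup ↥C) : Set ↥C)).relIndex
        (normalizer ((Q.subgroupOf C : Subgroup ↥C) : Set ↥C)) = 6 := by
      rw [centralizer_in hQC, normalizer_in hQC,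
        ← Subgroup.subgroupOf_sup hQC ((centralizer_le_normalizer (Q : Set G)).trans hNQ),
        relIndex_in hNQ]
      exact h2'
    obtain ⟨d'⟩ : Nonempty (SD ↥((R : Sylow 2 ↥C) : Subgroup ↥C) n) := ⟨sdTransport d fR⟩
    have hT2 : (centralizer ((T.subgroupOf C : Subgroup ↥C) : Set ↥C)).relIndex
        (normalizer ((T.subgroupOf C : Subgroup ↥C) : Set ↥C)) = 2 := by
      rcases (Cfsg.Agent.S1203.result R hS' _ hT' hTS' _ hQS' eQ').1 with h | h
      · exact h
      · exfalso
        obtain ⟨g, hg⟩ := isConj_iff.mp (QDFusion.isConj_z_of_six R (sdTransport d fR) _ hT' hTS' h)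
        have hg' := congrArg (fun q : ↥C => (q : G)) hg
        have hzv : (((sdTransport d fR).z : ↥((R : Sylow 2 ↥C) : Subgroup ↥C)) : ↥C) = ⟨_, hSC d.z.2⟩ := by
          have : (sdTransport d fR).z = fR d.z := by
            simp only [SD.z, sdTransport]; rw [map_zpow]
          rw [this]; rfl
        rw [hzv] at hg'
        have hg'' : (g : G) * (d.z : G) * (g : G)⁻¹ = (d.y : G) := hg'
        rw [hxC _ g.2] at hg''
        exact d.ne_mul_y (2 * SD.P n) 0 (by rw [zpow_zero, one_mul]; exact Subtype.ext hg'')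
    obtain ⟨⟨K, hKn, hK, hKP, hKH⟩, hwc, -, -⟩ :=
      Cfsg.Agent.S1205.result R hS' _ hT' hTS' _ hQS' eQ' hT2 hQ6
    refine ⟨⟨K, hKn, ⟨1, by rw [hK, pow_one]⟩, hKH, hKP⟩, fun Z₀ hZ₀ => ?_⟩
    refine ⟨hZ₀.trans (map_subtype_le _), fun g hg => ?_⟩
    by_cases h0 : Z₀ = ⊥
    · subst h0; rw [Subgroup.map_bot]
    have hZ : Z₀ = (center ↥((R : Sylow 2 ↥C) : Subgroup ↥C)).map ((R : Sylow 2 ↥C) : Subgroup ↥C).subtype := by
      refine eq_of_le_of_card_ge hZ₀ ?_
      rw [card_map_of_injective ((R : Sylow 2 ↥C) : Subgroup ↥C).subtype_injective, d'.card_center]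
      exact (Subgroup.one_lt_card_iff_ne_bot Z₀).mpr h0
    rw [hZ] at hg ⊢
    exact hwc.2 g hg
  · obtain ⟨n, ⟨d⟩⟩ := exists_w hS
    have hxw : x = ((d.e (W.H n) (W.H n) : ↥(S : Subgroup G)) : G) := by
      have ho : orderOf (⟨x, hxS⟩ : ↥(S : Subgroup G)) = 2 := by rw [Subgroup.orderOf_mk]; exact hx
      have hH : ∀ k : ℤ, W.N n ∣ k - W.H n → k = k := fun k _ => rfl
      rcases d.involution_cases ho with e | e | e | ⟨a, e⟩
      · exfalso
        rw [e, d.mem_center_e, sub_zero] at hxZ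
        exact d.not_N_dvd_H hxZ
      · exfalso
        rw [e, d.mem_center_e, zero_sub, dvd_neg] at hxZ
        exact d.not_N_dvd_H hxZ
      · exact congrArg Subtype.val e
      · exfalso
        have hzc : d.e a (-a) * d.z ∈ center ↥(S : Subgroup G) := e ▸ hxZ
        rw [d.center_eq] at hzc
        exact d.ez_notMem _ _ ((zpowers_le.mpr (d.mem_A.mpr ⟨1, 1, rfl⟩)) hzc)
    subst hxw
    set Q := WreathedFusion.QG S d 0 with hQ
    obtain ⟨e₀⟩ := d.q_equiv 0
    have hQS : Q ≤ (S : Subgroup G) := map_subtype_le _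
    let eQ : ↥Q ≃* QuaternionGroup 2 := ((closure {d.qa, d.qb 0} : Subgroup ↥(S : Subgroup G)).equivMapOfInjective _
      (S : Subgroup G).subtype_injective).symm.trans e₀
    set U := WreathedFusion.AG S d with hU
    have hUS : U ≤ (S : Subgroup G) := map_subtype_le _
    have hUab : IsMulCommutative ↥U :=
      ⟨⟨fun a b => Subtype.ext (WreathedFusion.AG_comm S d a.2 b.2)⟩⟩
    have hUcard : Nat.card U = 2 ^ (2 * n) := by
      rw [hU, WreathedFusion.AG, card_map_of_injective (S : Subgroup G).subtype_injective, d.card_A]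
    obtain ⟨h1, h2⟩ := Cfsg.Agent.S1208.result S hS n d.card U hUS hUab hUcard Q hQS eQ
    have hbad : ∀ K : Subgroup G, K.index = 2 → False := fun K h => hG K h
    have hS1 : 1 < Nat.card S := by
      rw [d.card]; exact Nat.one_lt_two_pow (by omega)
    set V := Q ⊔ (center ↥(S : Subgroup G)).map (S : Subgroup G).subtype with hV
    have h2' : (V ⊔ centralizer (V : Set G)).relIndex (normalizer (V : Set G)) = 6 := by
      rcases h2 with h2 | h2
      · exfalso
        rcases h1 with h1 | h1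
        · obtain ⟨H, hH⟩ := index_two_of_complement S (Cfsg.Agent.S1212.result S hS n d.card U hUS hUab hUcard Q hQS eQ h1 h2).1 hS1
          exact hbad H hH
        · obtain ⟨⟨K, -, hK, -⟩, -⟩ := Cfsg.Agent.S1211.result S hS n d.card U hUS hUab hUcard Q hQS eQ h1 h2
          exact hbad K hK
      · exact h2
    obtain ⟨c, X, hX, hVX⟩ := WreathedFusion.exists_X S d hQS eQ
    have hNV : normalizer (V : Set G) ≤ C := by
      intro g hg
      rw [hV, hVX] at hg
      have h := WreathedFusion.normalizer_XG_center S d hX hg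
      rw [hC, mem_centralizer_singleton_iff]
      exact (mem_centralizer_iff.mp h _ ⟨_, hxZ, rfl⟩).symm
    have hQC : Q ≤ C := hQS.trans hSC
    have hUC : U ≤ C := hUS.trans hSC
    have hZC : (center ↥(S : Subgroup G)).map (S : Subgroup G).subtype ≤ C := (map_subtype_le _).trans hSC
    have hVC : V ≤ C := sup_le hQC hZC
    let d' := W.transport d fR
    have hS' : Cfsg.IsWreathed ↥((R : Sylow 2 ↥C) : Subgroup ↥C) :=
      ⟨n, d'.two_le, d'.card, d'.x, d'.y, d'.z, d'.hx, d'.comm, d'.disj, d'.hz, d'.conj⟩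
    have hUab' : IsMulCommutative ↥(U.subgroupOf C) :=
      ⟨⟨fun a b => Subtype.ext (Subtype.ext (WreathedFusion.AG_comm S d (mem_subgroupOf.mp a.2) (mem_subgroupOf.mp b.2)))⟩⟩
    have hUcard' : Nat.card (U.subgroupOf C) = 2 ^ (2 * n) :=
      (Nat.card_congr (subgroupOfEquivOfLe hUC).toEquiv).trans hUcard
    have hUS' : U.subgroupOf C ≤ (R : Subgroup ↥C) := fun t ht => mem_subgroupOf.mpr (hUS ht)
    have hQS' : Q.subgroupOf C ≤ (R : Subgroup ↥C) := fun t ht => mem_subgroupOf.mpr (hQS ht)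
    let eQ' : ↥(Q.subgroupOf C) ≃* QuaternionGroup 2 := (subgroupOfEquivOfLe hQC).trans eQ
    have hcen : (center ↥((R : Sylow 2 ↥C) : Subgroup ↥C)).map ((R : Sylow 2 ↥C) : Subgroup ↥C).subtype =
        ((center ↥(S : Subgroup G)).map (S : Subgroup G).subtype).subgroupOf C := by
      ext g
      rw [mem_subgroupOf, Subgroup.mem_map, Subgroup.mem_map]
      constructor
      · rintro ⟨r, hr, rfl⟩
        refine ⟨fR.symm r, ?_, rfl⟩
        rw [mem_center_iff] at hr ⊢
        intro s
        have := congrArg fR.symm (hr (fR s))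
        simpa using this
      · rintro ⟨s, hs, hsg⟩
        refine ⟨fR s, ?_, Subtype.ext hsg⟩
        rw [mem_center_iff] at hs ⊢
        intro r
        have := congrArg fR (hs (fR.symm r))
        simpa using this
    have hV6 : ((Q.subgroupOf C ⊔ (center ↥((R : Sylow 2 ↥C) : Subgroup ↥C)).map ((R : Sylow 2 ↥C) : Subgroup ↥C).subtype) ⊔
        centralizer ((Q.subgroupOf C ⊔ (center ↥((R : Sylow 2 ↥C) : Subgroup ↥C)).map ((R : Sylow 2 ↥C) : Subgroup ↥C).subtype : Subgroup ↥C) : Set ↥C)).relIndex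
        (normalizer ((Q.subgroupOf C ⊔ (center ↥((R : Sylow 2 ↥C) : Subgroup ↥C)).map ((R : Sylow 2 ↥C) : Subgroup ↥C).subtype : Subgroup ↥C) : Set ↥C)) = 6 := by
      rw [hcen, ← Subgroup.subgroupOf_sup hQC hZC, ← hV, centralizer_in hVC, normalizer_in hVC,
        ← Subgroup.subgroupOf_sup hVC ((centralizer_le_normalizer (V : Set G)).trans hNV),
        relIndex_in hNV]
      exact h2'
    have hU2 : (centralizer ((U.subgroupOf C : Subgroup ↥C) : Set ↥C)).relIndex
        (normalizer ((U.subgroupOf C : Subgroup ↥C) : Set ↥C)) = 2 := by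
      have hUA := WreathedFusion.eq_AG R d' hUS' hUab' hUcard'
      rcases (Cfsg.Agent.S1208.result R hS' n d'.card _ hUS' hUab' hUcard' _ hQS' eQ').1 with h | h
      · exact h
      · exfalso
        rw [hUA] at h
        obtain ⟨g, hg⟩ := isConj_iff.mp (WreathedFusion.u_isConj_w R d' h).symm
        have hg' := congrArg (fun q : ↥C => (q : G)) hg
        have hev : ∀ a b : ℤ, (((d'.e a b : ↥((R : Sylow 2 ↥C) : Subgroup ↥C)) : ↥C) : G) =
            ((d.e a b : ↥(S : Subgroup G)) : G) := by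
          intro a b
          show (((W.transport d fR).e a b : ↥((R : Sylow 2 ↥C) : Subgroup ↥C)) : G) = _
          rw [W.transport_e]; rfl
        simp only [Subgroup.coe_mul, Subgroup.coe_inv, hev] at hg'
        rw [hxC _ g.2] at hg'
        exact WreathedFusion.u_ne_w S d hg'.symm
    obtain ⟨⟨K, hKn, hK, hKP, hKH⟩, hwc, -⟩ :=
      Cfsg.Agent.S1210.result R hS' n d'.card _ hUS' hUab' hUcard' _ hQS' eQ' hU2 hV6
    exact ⟨⟨K, hKn, ⟨n, hK⟩, hKH, hKP⟩, hwc⟩


/-- Let G be a finite group with quasi-dihedral or wreathed Sylow 2-subgroups and no subgroup of index 2, and let x be an involution with centralizer C. Then C has a Sylow 2-subgroup R which is a Sylow 2-subgroup of G; C has a normal subgroup K of index a power of 2 which has no subgroup of index 2 and whose Sylow 2-subgroups are generalized quaternion; and every subgroup of the centre of R is weakly closed in R with respect to C. -/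
theorem result {G : Type*} [Group G] [Finite G] (S : Sylow 2 G) (hS : Cfsg.IsQuasiDihedral (S : Subgroup G) ∨ Cfsg.IsWreathed (S : Subgroup G)) (hG : ∀ H : Subgroup G, H.index ≠ 2) (x : G) (hx : orderOf x = 2) : ∃ R : Sylow 2 ↥(Subgroup.centralizer ({x} : Set G)), Nat.card R = Nat.card S ∧ (∃ K : Subgroup ↥(Subgroup.centralizer ({x} : Set G)), K.Normal ∧ (∃ a : ℕ, K.index = 2 ^ a) ∧ (∀ H : Subgroup ↥K, H.index ≠ 2) ∧ (∀ P : Sylow 2 ↥K, ∃ m : ℕ, 1 ≤ m ∧ Nonempty ((P : Subgroup ↥K) ≃* QuaternionGroup (2 ^ m)))) ∧ (∀ Z₀ : Subgroup ↥(Subgroup.centralizer ({x} : Set G)), Z₀ ≤ ((Subgroup.center (R : Subgroup ↥(Subgroup.centralizer ({x} : Set G)))).map (R : Subgroup ↥(Subgroup.centralizer ({x} : Set G))).subtype) → Cfsg.IsWeaklyClosed Z₀ (R : Subgroup ↥(Subgroup.centralizer ({x} : Set G)))) := by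
  classical
  haveI : Fact (Nat.Prime 2) := ⟨Nat.prime_two⟩
  -- `x` is central in some Sylow subgroup
  have hzc : ∃ v : ↥(S : Subgroup G), v ∈ center ↥(S : Subgroup G) ∧ IsConj x (v : G) := by
    rcases hS with hS | hS
    · obtain ⟨n, ⟨d⟩⟩ := exists_sd hS
      refine ⟨d.z, d.center_eq ▸ mem_zpowers _, ?_⟩
      obtain ⟨T, hT, -, -, hTle⟩ := Cfsg.Agent.S1255.exists_four (u := (d.y : G)) (z := (d.z : G))
        (congrArg Subtype.val d.yy) (congrArg Subtype.val (Cfsg.Lib.Invol.inv_mul_self d.orderOf_z))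
        (fun e => Cfsg.Lib.Invol.ne_one d.hy (Subtype.ext e)) (fun e => d.z_ne_one (Subtype.ext e))
        (fun e => d.ne_mul_y (2 * SD.P n) 0 (by rw [zpow_zero, one_mul]; exact Subtype.ext e.symm))
        (congrArg Subtype.val (d.z_central d.y).eq)
      have hTS : T ≤ (S : Subgroup G) := hTle _ d.y.2 d.z.2
      obtain ⟨e₀⟩ := sd_quat d
      let eQ := ((closure {d.x ^ SD.P n, d.x * d.y} : Subgroup ↥(S : Subgroup G)).equivMapOfInjective _
        (S : Subgroup G).subtype_injective).symm.trans e₀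
      obtain ⟨h1, h2⟩ := Cfsg.Agent.S1203.result S hS T hT hTS _ (map_subtype_le _) eQ
      rcases h1 with h1 | h1
      · exfalso
        rcases h2 with h2 | h2
        · obtain ⟨H, hH⟩ := index_two_of_complement S (Cfsg.Agent.S1207.result S hS T hT hTS _ (map_subtype_le _) eQ h1 h2).1
            (by rw [d.card]; exact Nat.one_lt_two_pow (by omega))
          exact hG H hH
        · obtain ⟨⟨K, -, hK, -⟩, -⟩ := Cfsg.Agent.S1205.result S hS T hT hTS _ (map_subtype_le _) eQ h1 h2
          exact hG K hK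
      · rcases QDFusion.involution_classes S d x hx with h | h
        · exact h
        · exact h.trans (QDFusion.isConj_z_of_six S d T hT hTS h1).symm
    · obtain ⟨n, ⟨d⟩⟩ := exists_w hS
      refine ⟨d.e (W.H n) (W.H n), d.mem_center_e.mpr (by simp), ?_⟩
      obtain ⟨e₀⟩ := d.q_equiv 0
      let eQ := ((closure {d.qa, d.qb 0} : Subgroup ↥(S : Subgroup G)).equivMapOfInjective _
        (S : Subgroup G).subtype_injective).symm.trans e₀
      have hUab : IsMulCommutative ↥(WreathedFusion.AG S d) :=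
        ⟨⟨fun a b => Subtype.ext (WreathedFusion.AG_comm S d a.2 b.2)⟩⟩
      have hUcard : Nat.card (WreathedFusion.AG S d) = 2 ^ (2 * n) := by
        rw [WreathedFusion.AG, card_map_of_injective (S : Subgroup G).subtype_injective, d.card_A]
      obtain ⟨h1, h2⟩ := Cfsg.Agent.S1208.result S hS n d.card _ (map_subtype_le _) hUab hUcard _ (map_subtype_le _) eQ
      have hS1 : 1 < Nat.card S := by rw [d.card]; exact Nat.one_lt_two_pow (by omega)
      rcases h1 with h1 | h1
      · exfalso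
        rcases h2 with h2 | h2
        · obtain ⟨H, hH⟩ := index_two_of_complement S (Cfsg.Agent.S1212.result S hS n d.card _ (map_subtype_le _) hUab hUcard _ (map_subtype_le _) eQ h1 h2).1 hS1
          exact hG H hH
        · obtain ⟨⟨K, hKn, hK, -⟩, -⟩ := Cfsg.Agent.S1210.result S hS n d.card _ (map_subtype_le _) hUab hUcard _ (map_subtype_le _) eQ h1 h2
          haveI := hKn
          have hn := d.two_le
          obtain ⟨H, hH⟩ := Cfsg.Agent.S1255.exists_index_two K (k := n - 1)
            (by rw [hK, Nat.sub_add_cancel (by omega)])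
          exact hG H hH
      · rcases h2 with h2 | h2
        · exfalso
          obtain ⟨⟨K, -, hK, -⟩, -⟩ := Cfsg.Agent.S1211.result S hS n d.card _ (map_subtype_le _) hUab hUcard _ (map_subtype_le _) eQ h1 h2
          exact hG K hK
        · obtain ⟨c, X, hX, hVX⟩ := WreathedFusion.exists_X S d (map_subtype_le _) eQ
          rw [hVX] at h2
          have huw := WreathedFusion.u_isConj_w S d h1
          have huz := WreathedFusion.u_isConj_z S d hX h2
          rcases WreathedFusion.involution_classes S d x hx with h | h | h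
          exacts [h, h.trans huw, (h.trans huz.symm).trans huw]
  obtain ⟨v, hv, hxv⟩ := hzc
  obtain ⟨g, hg⟩ := isConj_iff.mp hxv.symm
  let S' : Sylow 2 G := g • S
  have hS'c : (S' : Subgroup G) = (S : Subgroup G).map (MulAut.conj g).toMonoidHom := rfl
  let f : ↥(S : Subgroup G) ≃* ↥(S' : Subgroup G) :=
    ((S : Subgroup G).equivMapOfInjective _ (MulAut.conj g).injective).trans
      (MulEquiv.subgroupCongr hS'c.symm)
  have hS'type : Cfsg.IsQuasiDihedral (S' : Subgroup G) ∨ Cfsg.IsWreathed (S' : Subgroup G) := by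
    rcases hS with hS | hS
    · obtain ⟨n, ⟨d⟩⟩ := exists_sd hS
      let d' := sdTransport d f
      exact Or.inl ⟨n, d'.three_le, d'.card, d'.x, d'.y, d'.hx, d'.hy, d'.conj⟩
    · obtain ⟨n, ⟨d⟩⟩ := exists_w hS
      let d' := W.transport d f
      exact Or.inr ⟨n, d'.two_le, d'.card, d'.x, d'.y, d'.z, d'.hx, d'.comm, d'.disj, d'.hz, d'.conj⟩
  have hfx : (f v : G) = x := hg
  have hxS' : x ∈ (S' : Subgroup G) := hfx ▸ (f v).2
  have hxZ : (⟨x, hxS'⟩ : ↥(S' : Subgroup G)) ∈ center ↥(S' : Subgroup G) := by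
    have : (⟨x, hxS'⟩ : ↥(S' : Subgroup G)) = f v := Subtype.ext hfx.symm
    rw [this, mem_center_iff]
    intro r
    have := congrArg f (mem_center_iff.mp hv (f.symm r))
    simpa using this
  obtain ⟨R, hR, hrest⟩ := main S' hS'type hG x hx hxS' hxZ
  exact ⟨R, hR.trans (Nat.card_congr f.symm.toEquiv), hrest⟩

end Cfsg.Agent.S1213
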