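import Cfsg.Statements.S2602
import Cfsg.Agent.Lib.Linear.AutPSL.Out
-- import your own Cfsg.Agent.* helpers here

set_option autoImplicit false
open Cfsg

namespace Cfsg.Agent.S2602

open Cfsg.Lib.Linear.AutPSL

/-- Structure of the outer automorphism group of PSL_2(q), q = p^f ≥ 4: it has a normal cyclic subgroup of order gcd(2, q − 1) (diagonal automorphisms) with cyclic quotient of order f (field automorphisms); there is no graph automorphism in dimension 2. -/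
theorem result {F : Type*} [Field F] [Fintype F] {p f : ℕ} [Fact p.Prime] (hf : 1 ≤ f) (hF : Fintype.card F = p ^ f) (h4 : 4 ≤ p ^ f) : ∃ φ : Cfsg.Out (Matrix.ProjectiveSpecialLinearGroup (Fin 2) F) →* Multiplicative (ZMod f), Function.Surjective φ ∧ IsCyclic φ.ker ∧ Nat.card φ.ker = Nat.gcd 2 (p ^ f - 1) := by
  haveI := charP_of_card hf hF
  obtain ⟨E⟩ := exists_galEquiv hf hF
  let R : MulAut (Matrix.ProjectiveSpecialLinearGroup (Fin 2) F) → (F ≃+* F) → Prop :=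
    fun β σ => ∃ g : GL (Fin 2) F, β = innd g * fld σ
  have huniq : ∀ β σ σ', R β σ → R β σ' → σ = σ' := fun β σ σ' ⟨g, h⟩ ⟨g', h'⟩ =>
    fld_eq_of_eq le_rfl (h.symm.trans h')
  obtain ⟨J, hJ⟩ := gr_eq_innd_two (F := F)
  have hex : ∀ β, ∃ σ, R β σ := fun β => by
    obtain ⟨g, σ, h | h⟩ := exists_decomp (p := p) le_rfl β
    · exact ⟨σ, g, h⟩
    · refine ⟨σ, g * Matrix.GeneralLinearGroup.map σ.toRingHom J, ?_⟩
      rw [h, hJ, map_mul, mul_assoc, mul_assoc, fld_mul_innd]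
  choose ψ₀ hψ₀ using hex
  have hmul : ∀ β β', ψ₀ (β * β') = ψ₀ β * ψ₀ β' := by
    intro β β'
    refine huniq _ _ _ (hψ₀ _) ?_
    obtain ⟨g, h⟩ := hψ₀ β
    obtain ⟨g', h'⟩ := hψ₀ β'
    refine ⟨g * Matrix.GeneralLinearGroup.map (ψ₀ β).toRingHom g', ?_⟩
    conv_lhs => rw [h, h']
    rw [map_mul, map_mul, mul_assoc, ← mul_assoc (fld (ψ₀ β)), fld_mul_innd]
    simp only [mul_assoc]
  let ψ := E.toMonoidHom.comp (MonoidHom.mk' ψ₀ hmul)
  have hone : ∀ g : GL (Fin 2) F, ψ₀ (innd g) = 1 := fun g => huniq _ _ _ (hψ₀ _) ⟨g, by rw [map_one, mul_one]⟩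
  have hinn : Cfsg.Inn _ ≤ ψ.ker := by
    rintro _ ⟨x, rfl⟩
    obtain ⟨s, rfl⟩ := QuotientGroup.mk_surjective x
    rw [MonoidHom.mem_ker]
    show E (ψ₀ _) = 1
    rw [conj_mk, hone, map_one]
  refine ⟨QuotientGroup.lift _ ψ hinn, ?_, ?_⟩
  · intro z
    obtain ⟨σ, rfl⟩ := E.surjective z
    refine ⟨QuotientGroup.mk (fld σ), ?_⟩
    show E (ψ₀ _) = E σ
    rw [huniq _ _ σ (hψ₀ _) ⟨1, by rw [map_one, one_mul]⟩]
  have hker : (QuotientGroup.lift _ ψ hinn).ker =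
      (outInnd : GL (Fin 2) F →* Cfsg.Out (Matrix.ProjectiveSpecialLinearGroup (Fin 2) F)).range := by
    ext x
    obtain ⟨β, rfl⟩ := QuotientGroup.mk_surjective x
    rw [MonoidHom.mem_ker]
    constructor
    · intro h
      obtain ⟨g, hg⟩ := hψ₀ β
      have h1 : ψ₀ β = 1 := E.injective (by rw [map_one]; exact h)
      rw [h1, map_one, mul_one] at hg
      exact ⟨g, by rw [hg]; rfl⟩
    · rintro ⟨g, hg⟩
      rw [← hg]
      show E (ψ₀ _) = 1
      rw [hone, map_one]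
  rw [hker, ← hF]
  exact outInnd_range_card le_rfl

end Cfsg.Agent.S2602
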