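import Cfsg.Statements.S0780
import Cfsg.Agent.Lib.Linear.UnitaryGen
import Cfsg.Agent.Lib.Linear.TransvectionGL

set_option autoImplicit false
open Cfsg

namespace Cfsg.Agent.S0780

open scoped Matrix
open Cfsg.Lib.Linear.Herm Module

variable {F : Type*} [Field F] [Fintype F] {q : ℕ}

theorem two_trace_zero (hF : Fintype.card F = q ^ 2) (hq : 3 ≤ q) :
    ∃ y z : F, y ≠ 0 ∧ z ≠ 0 ∧ y ≠ z ∧ y + frob hF y = 0 ∧ z + frob hF z = 0 := by
  obtain ⟨y, hy0, hy⟩ := exists_trace_zero (frob_ne_id hF) (frob_frob hF)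
  obtain ⟨g, hg⟩ := IsCyclic.exists_generator (α := Fˣ)
  set a : F := (g : F) ^ (q + 1) with ha
  have ha1 : a ≠ 1 := by
    intro h
    have h1 : g ^ (q + 1) = 1 := Units.ext (by rw [Units.val_pow_eq_pow_val]; exact h)
    have h2 := Nat.le_of_dvd (by omega) (orderOf_dvd_of_pow_eq_one h1)
    rw [orderOf_eq_card_of_forall_mem_zpowers hg, card_units_sq hF] at h2
    have : 2 * (q + 1) ≤ (q + 1) * (q - 1) := by
      rw [mul_comm 2]; exact Nat.mul_le_mul_left _ (by omega)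
    omega
  refine ⟨y, a * y, hy0, mul_ne_zero (pow_ne_zero _ (Units.ne_zero g)) hy0, fun h => ha1 ?_, hy, ?_⟩
  · exact mul_right_cancel₀ hy0 (by rw [one_mul]; exact h.symm)
  · rw [map_mul, ha, map_pow, frob_apply, ← pow_mul, mul_comm q, pow_mul, norm_pow_q hF, ← mul_add,
      hy, mul_zero]

/-- For n ≥ 3 and (n, q) ≠ (3, 2), SU_n(q) is generated by its unitary transvections. -/
theorem result {F : Type*} [Field F] [Fintype F] {q : ℕ} (hF : Fintype.card F = q ^ 2) (n : ℕ) (hn : 3 ≤ n) (h32 : ¬ (n = 3 ∧ q = 2)) : Subgroup.closure {A : ↥(Cfsg.SU n F q) | ∃ (v : Fin n → F) (c : F), Cfsg.hermForm n F q v v = 0 ∧ ((A : Matrix.SpecialLinearGroup (Fin n) F) : Matrix (Fin n) (Fin n) F) = Cfsg.unitaryTransvection n q v c} = ⊤ := by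
  set S := {A : ↥(Cfsg.SU n F q) | ∃ (v : Fin n → F) (c : F), Cfsg.hermForm n F q v v = 0 ∧
    ((A : Matrix.SpecialLinearGroup (Fin n) F) : Matrix (Fin n) (Fin n) F) = Cfsg.unitaryTransvection n q v c}
  have hfr : finrank F (Fin n → F) = n := Module.finrank_fin_fun F
  have hdim : 4 ≤ finrank F (Fin n → F) ∨ (3 ≤ finrank F (Fin n → F) ∧ ∃ y z : F, y ≠ 0 ∧ z ≠ 0 ∧
      y ≠ z ∧ y + frob hF y = 0 ∧ z + frob hF z = 0) := by
    rw [hfr]
    rcases (show 4 ≤ n ∨ n = 3 by omega) with h | h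
    · exact Or.inl h
    · have := two_le_q hF
      exact Or.inr ⟨hn, two_trace_zero hF (by have : q ≠ 2 := fun e => h32 ⟨h, e⟩; omega)⟩
  let ψ : Cfsg.SU n F q →* ((Fin n → F) ≃ₗ[F] (Fin n → F)) :=
    Matrix.SpecialLinearGroup.toLin'.comp (Cfsg.SU n F q).subtype
  have hψ : ∀ (A : Cfsg.SU n F q) (x : Fin n → F), ψ A x =
      ((A : Matrix.SpecialLinearGroup (Fin n) F) : Matrix (Fin n) (Fin n) F) *ᵥ x := fun A x => rfl
  have hut : ∀ (v : Fin n → F) (c : F) (x : Fin n → F),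
      Cfsg.unitaryTransvection n q v c *ᵥ x = x + (c * hB hF n v x) • v := by
    intro v c x
    rw [Cfsg.unitaryTransvection, Matrix.add_mulVec, Matrix.one_mulVec, Matrix.smul_mulVec,
      Matrix.vecMulVec_mulVec, hB_apply, Cfsg.hermForm]
    funext i
    simp [dotProduct, mul_comm, mul_assoc, mul_left_comm, Finset.mul_sum]
  rw [eq_top_iff]
  intro A _
  have hA : ψ A ∈ tvGroup (hB hF n) := by
    rw [mem_tvGroup_iff (frob_ne_id hF) (frob_frob hF) (hB_isSymm hF n) (hB_nondegenerate hF n) hdim]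
    refine ⟨fun u v => A.2 v u, Units.ext ?_⟩
    rw [LinearEquiv.coe_det, Units.val_one,
      show ((ψ A : (Fin n → F) ≃ₗ[F] (Fin n → F)) : (Fin n → F) →ₗ[F] (Fin n → F)) =
        Matrix.toLin' ((A : Matrix.SpecialLinearGroup (Fin n) F) : Matrix (Fin n) (Fin n) F) from
        LinearMap.ext fun x => rfl, LinearMap.det_toLin']
    exact (A : Matrix.SpecialLinearGroup (Fin n) F).2
  have hle : tvGroup (hB hF n) ≤ (Subgroup.closure S).map ψ := by
    rw [tvGroup, Subgroup.closure_le]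
    rintro _ ⟨v, c, h, hv, rfl⟩
    let M := Cfsg.unitaryTransvection n q v c
    have hv' : Cfsg.hermForm n F q v v = 0 := hv
    have hdet : M.det = 1 := by
      rw [show M = Cfsg.Lib.Linear.tvMat v (c • fun j => v j ^ q) by
        rw [Cfsg.Lib.Linear.tvMat, Matrix.vecMulVec_smul]; rfl, Cfsg.Lib.Linear.det_tvMat,
        smul_dotProduct, dotProduct_comm]
      change 1 + c • Cfsg.hermForm n F q v v = 1
      rw [hv', smul_zero, add_zero]
    have hM : (⟨M, hdet⟩ : Matrix.SpecialLinearGroup (Fin n) F) ∈ Cfsg.SU n F q := by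
      intro u w
      show Cfsg.hermForm n F q (M *ᵥ u) (M *ᵥ w) = _
      rw [hut, hut, ← hB_apply hF, ← hB_apply hF]
      exact qrefl_mem_iso (hB_isSymm hF n) v c h w u
    refine ⟨⟨_, hM⟩, Subgroup.subset_closure ⟨v, c, hv', rfl⟩, LinearEquiv.ext fun x => ?_⟩
    rw [hψ, qrefl_apply]
    exact hut v c x
  obtain ⟨A', hA', he⟩ := hle hA
  have : A' = A := Subtype.ext (Matrix.SpecialLinearGroup.toLin'_injective he)
  exact this ▸ hA'

end Cfsg.Agent.S0780
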