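import Cfsg.Statements.S1896
import Cfsg.Agent.Lib.DihedralAut
import Cfsg.Agent.Lib.PGroup.FrattiniStab
import Cfsg.Agent.Lib.TwoGroup.Models
-- import your own Cfsg.Agent.* helpers here

set_option autoImplicit false
set_option maxHeartbeats 1000000
open Cfsg

namespace Cfsg.Agent.S1896

open Subgroup in
theorem core {X : Type*} [Group X] [Finite X] (hX : IsPGroup 2 X)
    (hm : Cfsg.IsMetacyclic X) (hA : ¬ IsPGroup 2 (MulAut X)) :
    Nonempty (X ≃* QuaternionGroup 2) ∨
      ∃ n : ℕ, Nonempty (X ≃* Multiplicative (ZMod (2 ^ n)) × Multiplicative (ZMod (2 ^ n))) := by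
  classical
  haveI : Fact (Nat.Prime 2) := ⟨Nat.prime_two⟩
  haveI : Finite (MulAut X) := Finite.of_injective (fun σ : MulAut X => (σ : X → X)) DFunLike.coe_injective
  obtain ⟨N, hNn, hNc, hQc⟩ := hm
  -- an automorphism of odd order
  obtain ⟨α, m, hmo, hαm, hα1⟩ : ∃ α : MulAut X, ∃ m : ℕ, Odd m ∧ α ^ m = 1 ∧ α ≠ 1 := by
    by_contra! h
    refine hA fun σ => ?_
    obtain ⟨k, m, hm, hkm⟩ := Nat.exists_eq_two_pow_mul_odd (orderOf_pos σ).ne'
    exact ⟨k, h (σ ^ 2 ^ k) m hm (by rw [← pow_mul, ← hkm, pow_orderOf_eq_one])⟩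
  set Φ := frattini X with hΦ
  haveI hΦc : Φ.Characteristic := inferInstance
  have hΦα : ∀ x ∈ Φ, α x ∈ Φ := fun x hx => Cfsg.Lib.PGroup.apply_mem_frattini α hx
  -- at most two generators
  obtain ⟨g, hg⟩ : ∃ g : X, N ≤ zpowers g := by
    obtain ⟨g, hg⟩ := hNc.exists_generator
    exact ⟨g, fun y hy => by
      obtain ⟨i, hi⟩ := mem_zpowers_iff.1 (hg ⟨y, hy⟩)
      exact mem_zpowers_iff.2 ⟨i, congrArg Subtype.val hi⟩⟩
  obtain ⟨h', hh'⟩ := hQc.exists_generator
  obtain ⟨h, rfl⟩ := QuotientGroup.mk_surjective h'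
  have hsq : ∀ x : X, x ^ 2 ∈ Φ := fun x => Cfsg.Lib.PGroup.pow_mem_frattini hX x
  set P := QuotientGroup.mk' Φ with hP
  have hPs : Function.Surjective P := QuotientGroup.mk'_surjective Φ
  have hP2 : ∀ v : X ⧸ Φ, v * v = 1 := by
    intro v
    obtain ⟨x, rfl⟩ := hPs v
    rw [← map_mul, ← pow_two]
    exact (QuotientGroup.eq_one_iff _).2 (hsq x)
  have hPc : ∀ v w : X ⧸ Φ, v * w = w * v := fun v w => by
    have h1 := hP2 (v * w)
    calc v * w = v * (v * w * (v * w)) * w := by rw [h1, mul_one]
      _ = (v * v) * w * v * (w * w) := by group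
      _ = w * v := by rw [hP2, hP2, one_mul, mul_one]
  have hPcard : Nat.card (X ⧸ Φ) ≤ 4 := by
    have hpow : ∀ (v : X ⧸ Φ) (i : ℤ), v ^ i = 1 ∨ v ^ i = v := by
      intro v i
      rcases Int.even_or_odd i with ⟨j, rfl⟩ | ⟨j, rfl⟩
      · left; rw [zpow_add, ← (Commute.refl v).mul_zpow, hP2, one_zpow]
      · right; rw [zpow_add, two_mul, zpow_add, ← (Commute.refl v).mul_zpow, hP2, one_zpow, one_mul, zpow_one]
    have hcover : (Set.univ : Set (X ⧸ Φ)) ⊆ ↑({1, P g, P h, P g * P h} : Finset (X ⧸ Φ)) := by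
      rintro v -
      obtain ⟨x, rfl⟩ := hPs v
      obtain ⟨i, hi⟩ := mem_zpowers_iff.1 (hh' (QuotientGroup.mk x))
      rw [← QuotientGroup.mk_zpow, QuotientGroup.eq] at hi
      obtain ⟨j, hj⟩ := mem_zpowers_iff.1 (hg hi)
      have hx : x = h ^ i * g ^ j := by rw [hj]; group
      have hx' : P x = P h ^ i * P g ^ j := by rw [hx, map_mul, map_zpow, map_zpow]
      rcases hpow (P h) i with e1 | e1 <;> rcases hpow (P g) j with e2 | e2 <;> rw [e1, e2] at hx' <;>
        simp [hx', hPc (P h) (P g)]
    rw [← Set.ncard_univ]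
    refine (Set.ncard_le_ncard hcover (Finset.finite_toSet _)).trans ?_
    rw [Set.ncard_coe_finset]
    exact Finset.card_le_four
  -- generators
  have hgen : ∀ x y : X, x ∉ Φ → y ∉ Φ → x⁻¹ * y ∉ Φ → closure ({x, y} : Set X) = ⊤ := by
    intro x y hx hy hxy
    refine frattini_nongenerating ?_
    set K := closure ({x, y} : Set X) with hK
    set W := K.map P with hW
    have h1 : ({1, P x, P y} : Finset (X ⧸ Φ)).card = 3 := by
      have e1 : P x ≠ 1 := fun e => hx ((QuotientGroup.eq_one_iff x).1 e)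
      have e2 : P y ≠ 1 := fun e => hy ((QuotientGroup.eq_one_iff y).1 e)
      have e3 : P x ≠ P y := fun e => hxy (QuotientGroup.eq.1 e)
      rw [Finset.card_insert_of_notMem (by simp [e1.symm, e2.symm]), Finset.card_pair e3]
    have h2 : 3 ≤ Nat.card W := by
      rw [← h1, ← Nat.card_eq_finsetCard]
      refine Nat.card_le_card_of_injective (fun v => ⟨v.1, ?_⟩) (fun a b e => Subtype.ext (congrArg (fun z : W => (z : X ⧸ Φ)) e))
      have hv := v.2
      simp only [Finset.mem_insert, Finset.mem_singleton] at hv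
      rcases hv with e | e | e <;> rw [e]
      · exact one_mem _
      · exact mem_map_of_mem P (subset_closure (Set.mem_insert x {y}))
      · exact mem_map_of_mem P (subset_closure (Set.mem_insert_of_mem x rfl))
    have h3 : W = ⊤ := by
      refine eq_top_of_le_card W ?_
      obtain ⟨c, hc⟩ := W.card_subgroup_dvd_card
      rcases c with _ | _ | c
      · rw [mul_zero] at hc; exact absurd hc Nat.card_pos.ne'
      · rw [hc]; simp
      · exfalso; rw [hc] at hPcard; nlinarith
    rw [← comap_map_eq_self (H := K ⊔ Φ) (f := P) (by rw [QuotientGroup.ker_mk']; exact le_sup_right),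
      Subgroup.map_sup, ← hW, h3, top_sup_eq, comap_top]
  have hiter : ∀ x : X, x⁻¹ * α x ∈ Φ → ∀ j : ℕ, x⁻¹ * (α ^ j) x ∈ Φ := by
    intro x hx j
    induction j with
    | zero => simp
    | succ j ih =>
      have := Φ.mul_mem hx (hΦα _ ih)
      rw [map_mul, map_inv, ← MulAut.mul_apply, ← pow_succ'] at this
      simpa [mul_assoc] using this
  -- a moved element
  obtain ⟨a, ha⟩ : ∃ a : X, a⁻¹ * α a ∉ Φ := by
    by_contra! hall
    refine hα1 ?_
    obtain ⟨k, hk⟩ := Cfsg.Lib.PGroup.isPGroup_frattiniStab hX ⟨α, hall⟩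
    have hk' : α ^ 2 ^ k = 1 := congrArg Subtype.val hk
    rw [← orderOf_eq_one_iff]
    exact Nat.eq_one_of_dvd_coprimes ((Nat.coprime_two_right.2 hmo).pow_right k).symm
      (orderOf_dvd_of_pow_eq_one hk') (orderOf_dvd_of_pow_eq_one hαm)
  set b := α a with hb
  set u := a⁻¹ * b with hu
  have ha' : a ∉ Φ := fun e => ha (Φ.mul_mem (Φ.inv_mem e) (hΦα _ e))
  have hu' : u⁻¹ * α u ∉ Φ := by
    intro e
    have h1 : P (α u) = P u := (QuotientGroup.eq.2 e).symm
    -- then `α²` fixes `a` modulo the Frattini subgroup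
    have h2 : a⁻¹ * (α ^ 2) a ∈ Φ := by
      rw [← QuotientGroup.eq_one_iff, ← QuotientGroup.mk'_apply, ← hP, pow_two α, MulAut.mul_apply, ← hb]
      have h3 : α b = b * α u := by rw [hu, map_mul, map_inv, ← hb]; group
      rw [h3, map_mul, map_mul, h1, ← mul_assoc, ← map_mul, ← hu, hP2]
    have h4 : ∀ j : ℕ, a⁻¹ * (α ^ (2 * j)) a ∈ Φ := by
      intro j
      induction j with
      | zero => simp
      | succ j ih =>
        have := Φ.mul_mem h2 (hΦα _ (hΦα _ ih))
        rw [map_mul, map_mul, map_inv, map_inv] at this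
        rw [show 2 * (j + 1) = 2 + 2 * j by ring, pow_add α, MulAut.mul_apply]
        simpa [pow_two, MulAut.mul_apply, mul_assoc] using this
    obtain ⟨j, hj⟩ := hmo
    refine ha ?_
    have h5 := h4 (j + 1)
    rwa [show 2 * (j + 1) = m + 1 by omega, pow_succ, hαm, one_mul] at h5
  have hΦinv : ∀ x : X, α x ∈ Φ → x ∈ Φ := fun x hx => by
    have := Cfsg.Lib.PGroup.apply_mem_frattini α⁻¹ hx
    rwa [MulAut.inv_apply_self] at this
  have hu0 : u ∉ Φ := ha
  have hgu : closure ({u, α u} : Set X) = ⊤ := hgen u (α u) hu0 (fun e => hu0 (hΦinv u e)) hu'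
  have hgab : closure ({a, b} : Set X) = ⊤ := hgen a b ha' (fun e => ha' (hΦinv a e)) ha
  -- commutators
  set D := commutator X with hD
  haveI hDn : D.Normal := inferInstance
  have hDN : D ≤ N := by
    rw [hD, ← QuotientGroup.ker_mk' N, _root_.commutator_def, commutator_le]
    intro x _ y _
    rw [MonoidHom.mem_ker, map_commutatorElement, commutatorElement_eq_one_iff_mul_comm]
    haveI := hQc
    exact IsMulCommutative.is_comm.comm _ _
  have hDα : ∀ z ∈ D, α z = z := by
    haveI : IsCyclic D := by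
      haveI := hNc
      exact isCyclic_of_injective (inclusion hDN) (inclusion_injective hDN)
    have hDc : ∀ σ : MulAut X, ∀ z ∈ D, σ z ∈ D := fun σ z hz =>
      ((inferInstance : D.Characteristic).fixed σ).symm.le hz
    let δ : MulAut D :=
      { toFun := fun z => ⟨α z, hDc α z z.2⟩
        invFun := fun z => ⟨α⁻¹ z, hDc α⁻¹ z z.2⟩
        left_inv := fun z => Subtype.ext (MulAut.inv_apply_self _ α z)
        right_inv := fun z => Subtype.ext (MulAut.apply_inv_self _ α z)
        map_mul' := fun z w => Subtype.ext (map_mul α (z : X) w) }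
    have hδ : ∀ j : ℕ, ∀ z : D, ((δ ^ j) z : X) = (α ^ j) (z : X) := by
      intro j
      induction j with
      | zero => intro z; rfl
      | succ j ih =>
        intro z
        rw [pow_succ, pow_succ, MulAut.mul_apply, MulAut.mul_apply, ih]
        rfl
    have hδ1 : δ = 1 := Cfsg.Lib.DihedralAut.eq_one_of_stable_cyclic (hX.to_subgroup D) δ hmo
      (MulEquiv.ext fun z => Subtype.ext (by rw [hδ, hαm]; rfl)) ⊤ (by simp) (fun _ _ => trivial)
    intro z hz
    exact congrArg (fun σ : MulAut D => ((σ ⟨z, hz⟩ : D) : X)) hδ1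
  have hDcen : ∀ z ∈ D, ∀ y : X, y * z = z * y := by
    intro z hz
    have hC : closure ({u, α u} : Set X) ≤ centralizer ({z} : Set X) := by
      have key : ∀ y : X, y⁻¹ * α y ∈ centralizer ({z} : Set X) := by
        intro y
        rw [mem_centralizer_singleton_iff]
        have h1 : α (y * z * y⁻¹) = y * z * y⁻¹ := hDα _ (hDn.conj_mem z hz y)
        rw [map_mul, map_mul, map_inv, hDα z hz] at h1
        calc y⁻¹ * α y * z = y⁻¹ * (α y * z * (α y)⁻¹) * α y := by group
          _ = z * (y⁻¹ * α y) := by rw [h1]; group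
      rw [closure_le]
      rintro y (rfl | rfl)
      · exact key a
      · rw [SetLike.mem_coe, hu, map_mul, map_inv, ← hb]; exact key b
    intro y
    exact mem_centralizer_singleton_iff.1 (hC (hgu ▸ mem_top y))
  set c := a * b * a⁻¹ * b⁻¹ with hc
  have hcD : c ∈ D := by
    rw [hD, _root_.commutator_def]
    exact commutator_mem_commutator (mem_top a) (mem_top b)
  set C := zpowers c with hC
  haveI : C.Normal := ⟨fun z hz y => by
    rw [hDcen z ((zpowers_le.2 hcD) hz) y, mul_inv_cancel_right]; exact hz⟩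
  have hDC : D = C := by
    refine le_antisymm ?_ (zpowers_le.2 hcD)
    set f := QuotientGroup.mk' C with hf
    have hcomm : ∀ v w : X ⧸ C, v * w = w * v := by
      have hab : f a * f b = f b * f a := by
        have : f c = 1 := (QuotientGroup.eq_one_iff c).2 (mem_zpowers c)
        rw [hc, map_mul, map_mul, map_mul, map_inv, map_inv] at this
        calc f a * f b = (f a * f b * (f a)⁻¹ * (f b)⁻¹) * (f b * f a) := by group
          _ = f b * f a := by rw [this, one_mul]
      have hall : closure ({f a, f b} : Set (X ⧸ C)) = ⊤ := by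
        rw [← Set.image_pair, ← MonoidHom.map_closure, hgab, map_top_of_surjective f (QuotientGroup.mk'_surjective C)]
      have hcm : IsMulCommutative (closure ({f a, f b} : Set (X ⧸ C))) := by
        refine isMulCommutative_closure ?_
        rintro v (rfl | rfl) w (rfl | rfl) <;> first | rfl | exact hab | exact hab.symm
      intro v w
      exact congrArg Subtype.val (hcm.is_comm.comm (⟨v, hall ▸ mem_top v⟩ : closure ({f a, f b} : Set (X ⧸ C))) ⟨w, hall ▸ mem_top w⟩)
    rw [hD, ← QuotientGroup.ker_mk' C, _root_.commutator_def, commutator_le]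
    intro x _ y _
    rw [MonoidHom.mem_ker, map_commutatorElement, commutatorElement_eq_one_iff_mul_comm]
    exact hcomm _ _
  -- the abelianization is homocyclic
  set π : X →* Abelianization X := Abelianization.of with hπ
  have hπs : Function.Surjective π := QuotientGroup.mk_surjective
  have hπ1 : ∀ x : X, π x = 1 ↔ x ∈ D := fun x => QuotientGroup.eq_one_iff x
  have hπα : ∀ x y : X, π x = π y → π (α x) = π (α y) := by
    intro x y e
    have h1 : x⁻¹ * y ∈ D := QuotientGroup.eq.1 e
    refine QuotientGroup.eq.2 ?_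
    rw [← map_inv, ← map_mul, hDα _ h1]; exact h1
  have hXA : IsPGroup 2 (Abelianization X) := hX.of_surjective π hπs
  obtain ⟨n, hn⟩ := IsPGroup.iff_orderOf.1 hXA (π a)
  set q := 2 ^ n with hq
  have hαπ : ∀ (x : X) (j : ℕ), π x ^ j = 1 → π (α x) ^ j = 1 := by
    intro x j e
    rw [← map_pow, ← map_pow, hπ1] at *
    rw [hDα _ e]; exact e
  have hαinv : ∀ (x : X) (j : ℕ), π (α x) ^ j = 1 → π x ^ j = 1 := by
    intro x j e
    rw [← map_pow, ← map_pow, hπ1] at *
    rwa [α.injective (hDα _ e)] at e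
  have hbq : orderOf (π b) = q := by
    rw [← hn]
    exact Nat.dvd_antisymm (orderOf_dvd_of_pow_eq_one (hαπ a _ (pow_orderOf_eq_one _)))
      (orderOf_dvd_of_pow_eq_one (hαinv a _ (pow_orderOf_eq_one _)))
  have hgA : ∀ v : Abelianization X, ∃ i j : ℤ, π a ^ i * π b ^ j = v := by
    intro v
    obtain ⟨x, rfl⟩ := hπs v
    have h1 : π x ∈ closure ({π a, π b} : Set (Abelianization X)) := by
      rw [← Set.image_pair, ← MonoidHom.map_closure, hgab]; exact mem_map_of_mem π (mem_top x)
    obtain ⟨i, j, hij⟩ := mem_closure_pair.1 h1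
    exact ⟨i, j, hij⟩
  have hdisj : zpowers (π a) ⊓ zpowers (π b) = ⊥ := by
    by_contra hne
    set I := zpowers (π a) ⊓ zpowers (π b) with hI
    have hn0 : n ≠ 0 := by
      rintro rfl
      rw [hq, pow_zero, orderOf_eq_one_iff] at hn
      refine hne (eq_bot_iff.2 (inf_le_left.trans ?_))
      rw [hn, zpowers_one_eq_bot]
    obtain ⟨v, hv⟩ : ∃ v : I, orderOf v = 2 := by
      haveI : Nontrivial I := (nontrivial_iff_ne_bot I).2 hne
      obtain ⟨k, hk⟩ := (hXA.to_subgroup I).exists_card_eq
      refine exists_prime_orderOf_dvd_card' 2 ?_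
      rw [hk]
      refine dvd_pow_self 2 ?_
      rintro rfl
      rw [pow_zero] at hk
      exact (Finite.one_lt_card (α := I)).ne' hk
    have key : ∀ z : Abelianization X, orderOf z = q → (v : Abelianization X) ∈ zpowers z →
        (v : Abelianization X) = z ^ (2 ^ (n - 1)) := by
      intro z hz hvz
      obtain ⟨k, -, hk⟩ := mem_zpowers_iff_mem_range_orderOf.1 hvz |> Finset.mem_image.1
      have hv2 : (v : Abelianization X) ^ 2 = 1 := by
        rw [← SubmonoidClass.coe_pow, ← hv, pow_orderOf_eq_one, OneMemClass.coe_one]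
      rw [← hk, ← pow_mul] at hv2
      have h1 := orderOf_dvd_of_pow_eq_one hv2
      have h2 : 2 ^ n = 2 ^ (n - 1) * 2 := by rw [← pow_succ]; congr 1; omega
      rw [hz, hq, h2] at h1
      obtain ⟨l, rfl⟩ : 2 ^ (n - 1) ∣ k := Nat.dvd_of_mul_dvd_mul_right two_pos h1
      rcases Nat.even_or_odd l with ⟨r, rfl⟩ | ⟨r, rfl⟩
      · exfalso
        have : (v : Abelianization X) = 1 := by
          rw [← hk, show 2 ^ (n - 1) * (r + r) = q * r by rw [hq, h2]; ring, pow_mul, ← hz, pow_orderOf_eq_one, one_pow]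
        rw [OneMemClass.coe_eq_one] at this
        rw [this, orderOf_one] at hv
        exact absurd hv (by norm_num)
      · rw [← hk, show 2 ^ (n - 1) * (2 * r + 1) = q * r + 2 ^ (n - 1) by rw [hq, h2]; ring, pow_add, pow_mul,
          ← hz, pow_orderOf_eq_one, one_pow, one_mul]
    have hA2 : π a ^ (2 ^ (n - 1)) = π b ^ (2 ^ (n - 1)) :=
      (key _ hn v.2.1).symm.trans (key _ hbq v.2.2)
    have hu2 : π u ^ (2 ^ (n - 1)) = 1 := by
      rw [hu, map_mul, map_inv, mul_pow, inv_pow, hA2, inv_mul_cancel]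
    let Kh : Subgroup X := MonoidHom.ker ((powMonoidHom (2 ^ (n - 1))).comp π)
    have hKu : closure ({u, α u} : Set X) ≤ Kh := by
      rw [closure_le]
      rintro y (rfl | rfl)
      · exact hu2
      · exact hαπ u _ hu2
    have h3 := orderOf_dvd_of_pow_eq_one (show π a ^ (2 ^ (n - 1)) = 1 from hKu (hgu ▸ mem_top a))
    rw [hn, Nat.pow_dvd_pow_iff_le_right one_lt_two] at h3
    omega
  have hcardA : Nat.card (Abelianization X) = q * q := by
    let e : zpowers (π a) × zpowers (π b) →* Abelianization X :=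
      (zpowers (π a)).subtype.coprod (zpowers (π b)).subtype
    have hbij : Function.Bijective e := by
      refine ⟨(injective_iff_map_eq_one e).2 ?_, fun v => ?_⟩
      · rintro ⟨x, y⟩ hxy
        have h1 : (x : Abelianization X) * y = 1 := hxy
        have hx : (x : Abelianization X) ∈ zpowers (π a) ⊓ zpowers (π b) :=
          ⟨x.2, (eq_inv_of_mul_eq_one_left h1).symm ▸ (zpowers (π b)).inv_mem y.2⟩
        rw [hdisj, mem_bot] at hx
        rw [hx, one_mul] at h1
        exact Prod.ext (Subtype.ext hx) (Subtype.ext h1)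
      · obtain ⟨i, j, hij⟩ := hgA v
        exact ⟨(⟨_, zpow_mem_zpowers _ i⟩, ⟨_, zpow_mem_zpowers _ j⟩), hij⟩
    rw [← Nat.card_eq_of_bijective e hbij, Nat.card_prod, Nat.card_zpowers, Nat.card_zpowers, hn, hbq]
  by_cases hc1 : c = 1
  · right
    refine ⟨n, ?_⟩
    have hπi : Function.Injective π := by
      rw [injective_iff_map_eq_one]
      intro x hx
      have : x ∈ C := hDC ▸ (hπ1 x).1 hx
      rwa [hC, hc1, zpowers_one_eq_bot, mem_bot] at this
    let eA : X ≃* Abelianization X := MulEquiv.ofBijective π ⟨hπi, hπs⟩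
    let ec : ∀ z : Abelianization X, orderOf z = q → (zpowers z ≃* Multiplicative (ZMod q)) := fun z hz =>
      mulEquivOfCyclicCardEq (by rw [Nat.card_zpowers, hz, Nat.card_congr Multiplicative.toAdd, Nat.card_zmod])
    let e : zpowers (π a) × zpowers (π b) →* Abelianization X :=
      (zpowers (π a)).subtype.coprod (zpowers (π b)).subtype
    have hsur : Function.Surjective e := fun v => by
      obtain ⟨i, j, hij⟩ := hgA v
      exact ⟨(⟨_, zpow_mem_zpowers _ i⟩, ⟨_, zpow_mem_zpowers _ j⟩), hij⟩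
    have hbij : Function.Bijective e := (Nat.bijective_iff_surjective_and_card e).2
      ⟨hsur, by rw [Nat.card_prod, Nat.card_zpowers, Nat.card_zpowers, hn, hbq, hcardA]⟩
    exact ⟨eA.trans ((MulEquiv.ofBijective e hbij).symm.trans (MulEquiv.prodCongr (ec _ hn) (ec _ hbq)))⟩
  -- the nonabelian case
  have hq1 : n ≠ 0 := by
    rintro rfl
    have hall : D = ⊤ := by
      refine eq_top_iff.2 fun x _ => (hπ1 x).1 ?_
      have hs : Subsingleton (Abelianization X) := (Nat.card_eq_one_iff_unique.1 (by simpa [hq] using hcardA)).1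
      exact hs.elim _ _
    exact ha' (by
      have h1 : D ≤ Φ := by
        rw [hD, hΦ]; exact Cfsg.Lib.PGroup.commutator_le_frattini hX
      exact h1 (hall ▸ mem_top a))
  have hpowmul : ∀ (x y : X) (j : ℕ), (x * y) ^ j = x ^ j * y ^ j * (y * x * y⁻¹ * x⁻¹) ^ (j.choose 2) := by
    intro x y j
    set d := y * x * y⁻¹ * x⁻¹ with hd
    have hdD : d ∈ D := by rw [hD, _root_.commutator_def]; exact commutator_mem_commutator (mem_top y) (mem_top x)
    have hdc : ∀ z : X, Commute z d := fun z => hDcen d hdD z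
    have hyx : ∀ i : ℕ, y ^ i * x = d ^ i * x * y ^ i := by
      intro i
      induction i with
      | zero => simp
      | succ i ih =>
        calc y ^ (i + 1) * x = y * (y ^ i * x) := by rw [pow_succ', mul_assoc]
          _ = (y * d ^ i) * x * y ^ i := by rw [ih]; group
          _ = d ^ i * (y * x) * y ^ i := by rw [((hdc y).pow_right i).eq]; group
          _ = d ^ i * (d * x * y) * y ^ i := by rw [hd]; group
          _ = d ^ (i + 1) * x * y ^ (i + 1) := by rw [pow_succ, pow_succ']; group
    induction j with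
    | zero => simp
    | succ j ih =>
      have hk : (j + 1).choose 2 = j + j.choose 2 := by rw [Nat.choose_succ_succ', Nat.choose_one_right]
      rw [pow_succ (x * y) j, ih, hk, pow_add d]
      calc x ^ j * y ^ j * d ^ j.choose 2 * (x * y) = x ^ j * (y ^ j * x) * y * d ^ j.choose 2 := by
            rw [mul_assoc _ (d ^ _), ← ((hdc (x * y)).pow_right _).eq]; group
        _ = (x ^ j * d ^ j) * x * (y ^ j * y) * d ^ j.choose 2 := by rw [hyx]; group
        _ = (d ^ j * (x ^ j * x * (y ^ j * y))) * d ^ j.choose 2 := by rw [((hdc (x ^ j)).pow_right j).eq]; group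
        _ = x ^ (j + 1) * y ^ (j + 1) * (d ^ j * d ^ j.choose 2) := by
          rw [← pow_succ, ← pow_succ, ← ((hdc (x ^ (j + 1) * y ^ (j + 1))).pow_right j).eq]; group
  by_cases hn1 : n = 1
  · -- the quaternion group
    left
    subst hn1
    have hsqD : ∀ x : X, x * x ∈ D := by
      intro x
      rw [← hπ1, map_mul]
      obtain ⟨i, j, hij⟩ := hgA (π x)
      rw [← hij]
      have e1 : π a * π a = 1 := by rw [← pow_two]; simpa [hq, hn] using pow_orderOf_eq_one (π a)
      have e2 : π b * π b = 1 := by rw [← pow_two]; simpa [hq, hbq] using pow_orderOf_eq_one (π b)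
      rw [mul_mul_mul_comm, ← mul_zpow, ← mul_zpow, e1, e2, one_zpow, one_zpow, one_mul]
    have hba : b * a = c⁻¹ * a * b := by rw [hc]; group
    have hc2 : c * c = 1 := by
      have h1 : a * a * b = b * (a * a) := (hDcen _ (hsqD a) b).symm
      have h2 : a * a * b = c * c * (b * (a * a)) := by
        calc a * a * b = a * (a * b * a⁻¹ * b⁻¹) * b * a := by group
          _ = a * c * b * a := by rw [hc]
          _ = c * (a * b) * a := by rw [hDcen c hcD a]; group
          _ = c * (c * b * a) * a := by rw [hc]; group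
          _ = c * c * (b * (a * a)) := by group
      exact mul_eq_right.1 (h2.symm.trans h1)
    have hcard : Nat.card C = 2 := by
      rw [hC, Nat.card_zpowers]
      exact orderOf_eq_prime (by rw [pow_two, hc2]) hc1
    have hX8 : Nat.card X = 8 := by
      rw [Subgroup.card_eq_card_quotient_mul_card_subgroup D]
      change Nat.card (Abelianization X) * Nat.card D = 8
      rw [hcardA, hDC, hcard]; rfl
    have hCval : ∀ z ∈ C, z = 1 ∨ z = c := by
      intro z hz
      obtain ⟨i, rfl⟩ := mem_zpowers_iff.1 hz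
      rcases Int.even_or_odd i with ⟨r, rfl⟩ | ⟨r, rfl⟩
      · left; rw [zpow_add, ← (Commute.refl c).mul_zpow, hc2, one_zpow]
      · right; rw [zpow_add, two_mul, zpow_add, ← (Commute.refl c).mul_zpow, hc2, one_zpow, one_mul, zpow_one]
    have haa : a * a = c := by
      refine (hCval _ (hDC ▸ hsqD a)).resolve_left fun e => ?_
      have hbb : b * b = 1 := by rw [hb, ← map_mul, e, map_one]
      -- `α b` is congruent to `a * b`
      have h2 : π (α b) = π (a * b) := by
        obtain ⟨x, hx⟩ : ∃ x, π (α b) = x := ⟨_, rfl⟩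
        have hαu : π (α u) ≠ π u := fun e => hu' (by
          have h1 : u⁻¹ * α u ∈ D := QuotientGroup.eq.1 e.symm
          exact Cfsg.Lib.PGroup.commutator_le_frattini hX h1)
        have e1 : π a * π a = 1 := by rw [← map_mul, hπ1]; exact hsqD a
        have e2 : π b * π b = 1 := by rw [← map_mul, hπ1]; exact hsqD b
        obtain ⟨i, j, hij⟩ := hgA (π (α b))
        have hp : ∀ (z : Abelianization X), z * z = 1 → ∀ k : ℤ, z ^ k = 1 ∨ z ^ k = z := by
          intro z hz k
          rcases Int.even_or_odd k with ⟨r, rfl⟩ | ⟨r, rfl⟩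
          · left; rw [zpow_add, ← (Commute.refl z).mul_zpow, hz, one_zpow]
          · right; rw [zpow_add, two_mul, zpow_add, ← (Commute.refl z).mul_zpow, hz, one_zpow, one_mul, zpow_one]
        have hαu' : π (α u) = π b * π (α b) := by
          rw [hu, map_mul, map_inv, ← hb, map_mul, map_inv, inv_eq_of_mul_eq_one_right e2]
        have hu_val : π u = π a * π b := by rw [hu, map_mul, map_inv, inv_eq_of_mul_eq_one_right e1]
        rcases hp _ e1 i with e3 | e3 <;> rcases hp _ e2 j with e4 | e4 <;> rw [e3, e4] at hij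
        · exfalso
          have : π b ^ 1 = 1 := by
            rw [pow_one]
            have h := hαinv b 1 (by rw [pow_one, ← hij, one_mul])
            simpa using h
          have h := orderOf_dvd_of_pow_eq_one this
          rw [hbq, hq] at h
          simp at h
        · exfalso
          rw [one_mul] at hij
          have hab : π (α a⁻¹ * α b) = 1 := by rw [map_mul, map_inv, ← hb, map_inv, ← hij, inv_mul_cancel]
          rw [← map_mul] at hab
          have h := hαinv u 1 (by rw [pow_one, hu]; exact hab)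
          rw [pow_one, hπ1] at h
          exact hu0 (Cfsg.Lib.PGroup.commutator_le_frattini hX h)
        · exfalso
          rw [mul_one] at hij
          exact hαu (by rw [hαu', ← hij, hu_val, mul_comm])
        · rw [map_mul, hij]
      have h3 : (a * b)⁻¹ * α b ∈ C := hDC ▸ QuotientGroup.eq.1 h2.symm
      have h4 : α b = a * b * ((a * b)⁻¹ * α b) := by group
      have h5 : α b * α b = 1 := by rw [← map_mul, hbb, map_one]
      set z := (a * b)⁻¹ * α b
      have hz2 : z * z = 1 := by rcases hCval z h3 with e | e <;> rw [e] <;> simp [hc2]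
      have h6 : a * b * (a * b) = 1 := by
        calc a * b * (a * b) = a * b * (z * (a * b)) * z := by
              rw [← hDcen z (hDC ▸ h3) (a * b)]
              calc a * b * (a * b) = a * b * (a * b) * (z * z) := by rw [hz2, mul_one]
                _ = _ := by group
          _ = α b * α b := by rw [h4]; group
          _ = 1 := h5
      refine hc1 ?_
      calc c = a * b * a⁻¹ * b⁻¹ := hc
        _ = a * b * (a * b) := by rw [inv_eq_of_mul_eq_one_right e, inv_eq_of_mul_eq_one_right hbb]; group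
        _ = 1 := h6
    have hbb : b * b = c := by rw [hb, ← map_mul, haa, hDα c hcD]
    have ho : orderOf a = 2 * 2 := by
      refine orderOf_eq_prime_pow (p := 2) (n := 1) ?_ ?_
      · rw [pow_one, pow_two, haa]; exact hc1
      · rw [show (2 : ℕ) ^ (1 + 1) = 2 * 2 by norm_num, pow_mul, pow_two a, haa, pow_two, hc2]
    have hinv : b * a * b⁻¹ = a⁻¹ := by
      calc b * a * b⁻¹ = c⁻¹ * a := by rw [hba]; group
        _ = a⁻¹ := by rw [← haa]; group
    have hbm : b ∉ zpowers a := by
      intro hmem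
      obtain ⟨i, hi⟩ := mem_zpowers_iff.1 hmem
      have hbi : π b ∈ zpowers (π a) ⊓ zpowers (π b) := ⟨⟨i, by rw [← hi, map_zpow]⟩, mem_zpowers _⟩
      rw [hdisj, mem_bot, ← orderOf_eq_one_iff, hbq] at hbi
      simp [hq] at hbi
    obtain ⟨e⟩ := Cfsg.Lib.TwoGroup.equiv_quaternion ho (by rw [pow_two, haa, hbb]) hinv hbm
    exact ⟨(Subgroup.topEquiv.symm.trans (MulEquiv.subgroupCongr hgab.symm)).trans e⟩
  -- `4 ∣ q` is impossible
  exfalso
  set T := zpowers (c * c) with hT
  have hcc : c * c ∈ D := D.mul_mem hcD hcD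
  haveI : T.Normal := ⟨fun z hz y => by
    rw [hDcen z ((zpowers_le.2 hcc) hz) y, mul_inv_cancel_right]; exact hz⟩
  have hchoose : Even (q.choose 2) := by
    rw [hq, Nat.choose_two_right, show 2 ^ n = 2 * 2 * 2 ^ (n - 2) by
      rw [← pow_two, ← pow_add]; congr 1; omega]
    set k := 2 ^ (n - 2)
    rw [show 2 * 2 * k * (2 * 2 * k - 1) = 2 * (2 * (k * (2 * 2 * k - 1))) by ring, Nat.mul_div_cancel_left _ two_pos]
    exact even_two_mul _
  have hDsq : ∀ z ∈ D, ∀ i : ℕ, Even i → z ^ i ∈ T := by
    intro z hz i hi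
    obtain ⟨r, rfl⟩ := hi
    obtain ⟨l, rfl⟩ := mem_zpowers_iff.1 (hDC ▸ hz : z ∈ C)
    rw [pow_add, ← (Commute.refl (c ^ l)).mul_pow, ← (Commute.refl c).mul_zpow]
    exact T.pow_mem (zpow_mem_zpowers _ l) r
  set w := QuotientGroup.mk' T with hw
  have hqhom : ∀ x y : X, w ((x * y) ^ q) = w (x ^ q) * w (y ^ q) := by
    intro x y
    have hz : y * x * y⁻¹ * x⁻¹ ∈ D := by
      rw [hD, _root_.commutator_def]; exact commutator_mem_commutator (mem_top y) (mem_top x)
    rw [hpowmul, map_mul, map_mul, show w ((y * x * y⁻¹ * x⁻¹) ^ q.choose 2) = 1 from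
      (QuotientGroup.eq_one_iff _).2 (hDsq _ hz _ hchoose), mul_one]
  let fq : X →* X ⧸ T :=
    { toFun := fun x => w (x ^ q)
      map_one' := by rw [one_pow, map_one]
      map_mul' := hqhom }
  have haq : a ^ q ∈ D := by rw [← hπ1, map_pow, ← hn, pow_orderOf_eq_one]
  have hfu : fq u = 1 := by
    rw [hu, map_mul, map_inv]
    show (w (a ^ q))⁻¹ * w (b ^ q) = 1
    rw [hb, ← map_pow, hDα _ haq, inv_mul_cancel]
  have hfα : ∀ x, x ^ q ∈ D → fq (α x) = fq x := fun x hx => by
    show w ((α x) ^ q) = w (x ^ q)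
    rw [← map_pow, hDα _ hx]
  have hall : ∀ x : X, x ^ q ∈ T := by
    intro x
    have h1 : closure ({u, α u} : Set X) ≤ fq.ker := by
      rw [closure_le]
      rintro y (rfl | rfl)
      · exact hfu
      · refine (hfα u ?_).trans hfu
        rw [← hπ1, map_pow, hu, map_mul, map_inv, mul_pow, inv_pow]
        conv_lhs => arg 2; rw [← hbq, pow_orderOf_eq_one]
        rw [← hn, pow_orderOf_eq_one, inv_one, one_mul]
    exact (QuotientGroup.eq_one_iff _).1 (h1 (hgu ▸ mem_top x))
  have hg1 : Nat.card (N.map w) ≤ q := by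
    refine le_trans (card_le_of_le (map_mono hg)) ?_
    rw [MonoidHom.map_zpowers, Nat.card_zpowers]
    refine orderOf_le_of_pow_eq_one (by positivity) ?_
    rw [← map_pow]; exact (QuotientGroup.eq_one_iff _).2 (hall g)
  have hh1 : ∀ x : X, ∃ i : ℤ, ∃ y ∈ N, x = h ^ i * y := fun x => by
    obtain ⟨i, hi⟩ := mem_zpowers_iff.1 (hh' (QuotientGroup.mk x))
    rw [← QuotientGroup.mk_zpow, QuotientGroup.eq] at hi
    exact ⟨i, _, hi, (mul_inv_cancel_left _ _).symm⟩
  have hle : Nat.card (X ⧸ T) ≤ q * q := by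
    refine le_trans (Nat.card_le_card_of_surjective
      (fun p : zpowers (w h) × N.map w => (p.1 : X ⧸ T) * (p.2 : X ⧸ T)) fun v => ?_) ?_
    · obtain ⟨x, rfl⟩ := QuotientGroup.mk'_surjective T v
      obtain ⟨i, y, hy, rfl⟩ := hh1 x
      exact ⟨(⟨w h ^ i, zpow_mem_zpowers _ i⟩, ⟨w y, mem_map_of_mem w hy⟩), by simp [map_zpow]; rfl⟩
    · rw [Nat.card_prod]
      refine Nat.mul_le_mul ?_ hg1
      rw [Nat.card_zpowers]
      refine orderOf_le_of_pow_eq_one (by positivity) ?_
      rw [← map_pow]; exact (QuotientGroup.eq_one_iff _).2 (hall h)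
  have hTC : T < C := by
    refine lt_of_le_of_ne (zpowers_le.2 (C.mul_mem (mem_zpowers c) (mem_zpowers c))) fun e => hc1 ?_
    obtain ⟨i, hi⟩ := mem_zpowers_iff.1 (e ▸ mem_zpowers c : c ∈ T)
    have h1 : c ^ (2 * i - 1) = 1 := by
      rw [zpow_sub, zpow_one, two_mul, zpow_add, ← (Commute.refl c).mul_zpow, hi, mul_inv_cancel]
    obtain ⟨k, hk⟩ := IsPGroup.iff_orderOf.1 hX c
    rcases k with _ | k
    · rwa [pow_zero, orderOf_eq_one_iff] at hk
    · exfalso
      have h2 := orderOf_dvd_iff_zpow_eq_one.2 h1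
      rw [hk] at h2
      have h3 : (2 : ℤ) ∣ 2 * i - 1 := (Dvd.intro_left _ (pow_succ (2 : ℤ) k).symm).trans (by exact_mod_cast h2)
      omega
  have h1 := Subgroup.card_eq_card_quotient_mul_card_subgroup T
  have h2 := Subgroup.card_eq_card_quotient_mul_card_subgroup D
  change Nat.card X = Nat.card (Abelianization X) * Nat.card D at h2
  rw [hcardA, hDC] at h2
  have h3 : Nat.card T < Nat.card C := Set.Finite.card_lt_card (Set.toFinite _) hTC
  have h4 : 0 < q * q := by positivity
  nlinarith


/-- A finite metacyclic 2-group whose automorphism group is not a 2-group is isomorphic to the quaternion group of order 8 or to a homocyclic abelian group Z_{2^n} × Z_{2^n}. -/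
theorem result {X : Type*} [Group X] [Finite X] (hX : IsPGroup 2 X)
    (hm : Cfsg.IsMetacyclic X) (hA : ¬ IsPGroup 2 (MulAut X)) :
    Nonempty (X ≃* QuaternionGroup 2) ∨
      ∃ n : ℕ, Nonempty (X ≃* Multiplicative (ZMod (2 ^ n)) × Multiplicative (ZMod (2 ^ n))) := by
  exact core hX hm hA

end Cfsg.Agent.S1896
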