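import Cfsg.Statements.S0112
import Cfsg.Agent.Lib.Fusion.Alperin
import Cfsg.Agent.Lib.Core.Basic

set_option autoImplicit false
open Cfsg

namespace Cfsg.Agent.S0112

open Subgroup

universe u'

theorem class_aux : ∀ n : ℕ, ∀ (X : Type u') [Group X] [Finite X] {p : ℕ} [Fact p.Prime],
    Nat.card X = p ^ n → ∀ A : Subgroup X, Nat.card A = p ^ 2 → centralizer (A : Set X) = A →
    Group.nilpotencyClass X = n - 1 := by
  intro n
  induction n using Nat.strong_induction_on with
  | _ n ih =>
    intro X _ _ p _ hX A hA hC
    have hp := (Fact.out : p.Prime)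
    have hXp : IsPGroup p X := IsPGroup.of_card hX
    haveI := hXp.isNilpotent
    have hn2 : 2 ≤ n := (Nat.pow_dvd_pow_iff_le_right hp.one_lt).1 (hA ▸ hX ▸ A.card_subgroup_dvd_card)
    haveI : Nontrivial X := Finite.one_lt_card_iff_nontrivial.1 (hX ▸ Nat.one_lt_pow (by omega) hp.one_lt)
    by_cases hAtop : A = ⊤
    · have hn : n = 2 := Nat.pow_right_injective hp.two_le (by
        show p ^ n = p ^ 2
        rw [← hX, ← hA, hAtop, card_top])
      subst hn
      have hZ : center X = ⊤ := by
        rw [← hAtop, ← hC, hAtop, coe_top, centralizer_univ]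
      haveI : Subsingleton (X ⧸ center X) := QuotientGroup.subsingleton_iff.2 hZ
      rw [Group.nilpotencyClass_eq_quotient_center_plus_one, Group.nilpotencyClass_zero_iff_subsingleton.2 this]
    set Z := center X with hZ
    have hZA : Z ≤ A := hC ▸ center_le_centralizer (A : Set X)
    have hZbot : Z ≠ ⊥ := (nontrivial_iff_ne_bot _).1 hXp.center_nontrivial
    have hZne : Z ≠ A := fun h => hAtop (by
      rw [← hC, centralizer_eq_top_iff_subset]
      exact fun a ha => by rw [SetLike.mem_coe] at ha ⊢; show a ∈ Z; rw [h]; exact ha)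
    have hZc : Nat.card Z = p := by
      obtain ⟨i, hi, hic⟩ := (Nat.dvd_prime_pow hp).1 (hA ▸ card_dvd_of_le hZA)
      interval_cases i
      · exact absurd (card_eq_one.1 (by rw [hic, pow_zero])) hZbot
      · rw [hic, pow_one]
      · exact absurd (eq_of_le_of_card_ge hZA (by rw [hic, hA])) hZne
    obtain ⟨a, haA, haZ⟩ := SetLike.not_le_iff_exists.1 fun h => hZne (le_antisymm hZA h)
    set N := normalizer (A : Set X) with hN
    have hAN : A ≤ N := le_normalizer
    haveI : (A.subgroupOf N).Normal := normal_in_normalizer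
    have hgen : ∀ z : X, z * a = a * z → z ∈ A := by
      intro z hz
      rw [← hC, mem_centralizer_iff]
      intro b hb
      let K : Subgroup X := centralizer {z}
      have hle : A ≤ K := by
        have h1 : Z ⊔ zpowers a ≤ K := sup_le (center_le_centralizer _)
          (zpowers_le.2 (mem_centralizer_singleton_iff.2 hz.symm))
        refine le_trans ?_ h1
        have h2 : Z ⊔ zpowers a ≤ A := sup_le hZA (zpowers_le.2 haA)
        refine (eq_of_le_of_card_ge h2 ?_).ge
        have h3 : Z < Z ⊔ zpowers a := lt_of_le_of_ne le_sup_left fun h =>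
          haZ (h.symm ▸ mem_sup_right (mem_zpowers a))
        obtain ⟨i, hi, hic⟩ := (Nat.dvd_prime_pow hp).1 (hA ▸ card_dvd_of_le h2)
        have h4 := Cfsg.Lib.Fusion.card_lt_card_of_lt h3
        rw [hZc, hic] at h4
        have h5 : 1 < i := by
          by_contra h5
          have := Nat.pow_le_pow_right hp.pos (not_lt.1 h5)
          rw [pow_one] at this
          omega
        rw [hA, hic]
        exact Nat.pow_le_pow_right hp.pos h5
      exact mem_centralizer_singleton_iff.1 (hle hb)
    have hidx : A.relIndex N = p := by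
      have hlt : A.relIndex N < p ^ 2 := by
        let f : N ⧸ A.subgroupOf N → {b : X // b ∈ A ∧ b ∉ Z} := Quotient.lift
          (fun g : N => ⟨(g : X) * a * (g : X)⁻¹, (mem_normalizer_iff.1 g.2 a).1 haA, fun h => haZ (by
            have h2 := (inferInstance : Z.Normal).conj_mem _ h (g : X)⁻¹
            simpa [mul_assoc] using h2)⟩)
          (fun g k hgk => by
            have h0 : g⁻¹ * k ∈ A.subgroupOf N := QuotientGroup.leftRel_apply.1 hgk
            have h1 : (g : X)⁻¹ * k ∈ A := h0
            have h2 : a * ((g : X)⁻¹ * k) = (g : X)⁻¹ * k * a :=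
              mem_centralizer_iff.1 (hC.symm ▸ h1) a haA
            refine Subtype.ext ?_
            show (g : X) * a * (g : X)⁻¹ = k * a * (k : X)⁻¹
            calc (g : X) * a * (g : X)⁻¹ = (g : X) * (a * ((g : X)⁻¹ * k)) * (k : X)⁻¹ := by group
              _ = _ := by rw [h2]; group)
        have hinj : Function.Injective f := by
          refine Quotient.ind₂ fun g k h => Quotient.sound (QuotientGroup.leftRel_apply.2 ?_)
          refine hgen _ ?_
          have h1 : (g : X) * a * (g : X)⁻¹ = k * a * (k : X)⁻¹ := congrArg Subtype.val h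
          calc (g : X)⁻¹ * k * a = (g : X)⁻¹ * (k * a * (k : X)⁻¹) * k := by group
            _ = a * ((g : X)⁻¹ * k) := by rw [← h1]; group
        calc A.relIndex N ≤ Nat.card {b : X // b ∈ A ∧ b ∉ Z} := Nat.card_le_card_of_injective f hinj
          _ = ((A : Set X) \ (Z : Set X)).ncard := rfl
          _ < (A : Set X).ncard :=
            Set.ncard_lt_ncard (HasSubset.Subset.ssubset_of_ne Set.sdiff_subset fun h =>
              (h.symm ▸ A.one_mem : (1 : X) ∈ (A : Set X) \ (Z : Set X)).2 Z.one_mem) (Set.toFinite _)
          _ = p ^ 2 := hA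
      obtain ⟨i, hi⟩ := (hXp.to_subgroup N).index (A.subgroupOf N)
      have hi' : A.relIndex N = p ^ i := hi
      rw [hi'] at hlt
      have hi2 := (Nat.pow_lt_pow_iff_right hp.one_lt).1 hlt
      interval_cases i
      · exfalso
        rw [pow_zero] at hi'
        exact (Group.normalizerCondition_of_isNilpotent A (lt_top_iff_ne_top.2 hAtop)).not_ge (relIndex_eq_one.1 hi')
      · rwa [pow_one] at hi'
    set π := QuotientGroup.mk' Z with hπ
    have hquot : Nat.card (X ⧸ Z) = p ^ (n - 1) := by
      refine Nat.eq_of_mul_eq_mul_right (Nat.card_pos (α := Z)) ?_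
      rw [← card_eq_card_quotient_mul_card_subgroup, hX, hZc, ← pow_succ]
      congr 1
      omega
    have hNc : Nat.card N = p ^ 3 := by
      have h := Cfsg.Lib.Core.card_mul_relIndex hAN
      rw [hA, hidx] at h
      rw [← h]; ring
    have hNbar : Nat.card (N.map π) = p ^ 2 := by
      refine Nat.eq_of_mul_eq_mul_right (Nat.card_pos (α := Z)) ?_
      have h := card_mul_index (Z.subgroupOf N)
      rw [Nat.card_congr (subgroupOfEquivOfLe (hZA.trans hAN)).toEquiv, hNc] at h
      have h2 : (Z.subgroupOf N).index = Nat.card (N.map π) := by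
        show Z.relIndex N = _
        rw [← relIndex_ker, hπ, QuotientGroup.ker_mk']
      rw [← h2, mul_comm, h, hZc]
      ring
    have hcent : centralizer (N.map π : Set (X ⧸ Z)) = N.map π := by
      refine le_antisymm ?_ ?_
      · intro x hx
        obtain ⟨x, rfl⟩ := QuotientGroup.mk'_surjective Z x
        refine ⟨x, ?_, rfl⟩
        show x ∈ normalizer (A : Set X)
        rw [mem_normalizer_iff]
        have key : ∀ w : X, (∀ b ∈ A, π w * π b = π b * π w) → ∀ b ∈ A, w * b * w⁻¹ ∈ A := by
          intro w hw b hb
          have h1 : w * b * w⁻¹ * b⁻¹ ∈ Z := (QuotientGroup.eq_one_iff _).1 (by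
            show π (w * b * w⁻¹ * b⁻¹) = 1
            rw [map_mul, map_mul, map_mul, map_inv, map_inv, hw b hb]; group)
          have h2 := mul_mem (hZA h1) hb
          rwa [inv_mul_cancel_right] at h2
        have hcom : ∀ b ∈ A, π x * π b = π b * π x := fun b hb =>
          (mem_centralizer_iff.1 hx (π b) (mem_map_of_mem π (hAN hb))).symm
        intro b
        refine ⟨key x hcom b, fun h => ?_⟩
        have h2 := key x⁻¹ (fun c hc => by
          rw [map_inv]
          exact (Commute.inv_left (hcom c hc : Commute (π x) (π c))).eq) _ h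
        simpa [mul_assoc] using h2
      · intro y hy
        rw [mem_centralizer_iff]
        intro z hz
        exact congrArg Subtype.val (IsPGroup.commutative_of_card_eq_prime_sq hNbar ⟨z, hz⟩ ⟨y, hy⟩)
    rw [Group.nilpotencyClass_eq_quotient_center_plus_one, ih (n - 1) (by omega) (X ⧸ Z) hquot _ hNbar hcent]
    have : 3 ≤ n := (Nat.pow_dvd_pow_iff_le_right hp.one_lt).1 (hNc ▸ hX ▸ N.card_subgroup_dvd_card)
    omega


/-- A p-group with a self-centralizing subgroup of order p^2 is of maximal class. -/
theorem result {X : Type*} [Group X] [Finite X] {p : ℕ} [Fact p.Prime] (n : ℕ) (hX : Nat.card X = p ^ n) (A : Subgroup X) (hA : Nat.card A = p ^ 2) (hC : Subgroup.centralizer (A : Set X) = A) : Group.nilpotencyClass X = n - 1 := by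
  exact class_aux n X hX A hA hC

end Cfsg.Agent.S0112
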