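import Cfsg.Statements.S5235
import Cfsg.Agent.Lib.FusionSys.InvariantStab
import Cfsg.Agent.Lib.PGroup.MetacyclicTwo
import Cfsg.Agent.Lib.TwoGroup.MaximalClass
import Cfsg.Agent.Lib.TwoGroup.Models
import Cfsg.Agent.S0112

set_option autoImplicit false
open Cfsg

namespace Cfsg.Agent.S5235

/-- Let F be a saturated fusion system over a finite 2-group S (p = 2) and P a metacyclic subgroup of S strongly closed in F that is not dihedral, not semidihedral and not generalized quaternion (here the group of order 2, the Klein four-group and the cyclic group of order 4 also count as excluded). Then P is normal in F. -/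
theorem result {Ω : Type*} [Group Ω] {S : Subgroup Ω} [Finite S] (p : ℕ) [Fact p.Prime] (hS : IsPGroup p S) (F : Cfsg.FusionSystem S) (hF : F.IsSaturated p) (P : Subgroup Ω) (hP : F.StronglyClosed P) (hp : p = 2) (hm : Cfsg.IsMetacyclic ↥P) (hd : ¬ ∃ m : ℕ, Nonempty (↥P ≃* DihedralGroup m)) (hq : ¬ ∃ m : ℕ, Nonempty (↥P ≃* QuaternionGroup m)) (hsd : ¬ Cfsg.IsQuasiDihedral ↥P) : F.IsNormal P := by
  subst hp
  haveI : Finite P := Cfsg.Lib.FusionSys.finite_of_le hP.1
  have hPp : IsPGroup 2 P := hS.to_le hP.1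
  have hA4 : ∀ A : Subgroup Ω, A ≤ P → Nat.card A = 4 →
      P ⊓ Subgroup.centralizer (A : Set Ω) ≤ A → A = P := by
    intro A hAP hA hAC
    by_contra hne
    obtain ⟨n, hn⟩ := IsPGroup.iff_card.mp hPp
    have hA' : Nat.card (A.subgroupOf P) = 2 ^ 2 := by
      rw [Nat.card_congr (Subgroup.subgroupOfEquivOfLe hAP).toEquiv, hA]; rfl
    have hn3 : 3 ≤ n := by
      have h1 : 4 ∣ 2 ^ n := hA ▸ hn ▸ Subgroup.card_dvd_of_le hAP
      have h2 : Nat.card A ≠ Nat.card P := fun h => hne (Subgroup.eq_of_le_of_card_ge hAP h.ge)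
      rw [hA, hn] at h2
      by_contra hlt
      interval_cases n <;> revert h1 h2 <;> norm_num
    have hC : Subgroup.centralizer ((A.subgroupOf P : Subgroup P) : Set P) = A.subgroupOf P := by
      refine le_antisymm (fun x hx => hAC ⟨x.2, Subgroup.mem_centralizer_iff.mpr fun a ha =>
        congrArg Subtype.val (Subgroup.mem_centralizer_iff.mp hx ⟨a, hAP ha⟩ ha)⟩) ?_
      haveI : IsMulCommutative (A.subgroupOf P) := by
        haveI : Fact (Nat.Prime 2) := ⟨Nat.prime_two⟩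
        exact ⟨⟨(IsPGroup.commutative_of_card_eq_prime_sq (p := 2) hA')⟩⟩
      exact Subgroup.le_centralizer _
    haveI : Fact (Nat.Prime 2) := ⟨Nat.prime_two⟩
    have hcls := Cfsg.Agent.S0112.result n hn (A.subgroupOf P) hA' hC
    obtain ⟨a, b, ha, hb, htop, hrel⟩ :=
      Cfsg.Lib.TwoGroup.MaximalClass.exists_generators_of_class hn3 hn hcls
    rcases hrel with ⟨hb2, hconj⟩ | ⟨hb2, hconj⟩ | ⟨h4, hb2, hconj⟩
    · obtain ⟨e⟩ := Cfsg.Lib.TwoGroup.equiv_dihedral (by rw [← sq]; exact hb2) hconj hb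
      exact hd ⟨_, ⟨(Subgroup.topEquiv.symm.trans (MulEquiv.subgroupCongr htop.symm)).trans e⟩⟩
    · have hm : orderOf a = 2 * 2 ^ (n - 2) := by
        rw [ha, ← pow_succ']; congr 1; omega
      obtain ⟨e⟩ := Cfsg.Lib.TwoGroup.equiv_quaternion hm (by rw [← sq]; exact hb2) hconj hb
      exact hq ⟨_, ⟨(Subgroup.topEquiv.symm.trans (MulEquiv.subgroupCongr htop.symm)).trans e⟩⟩
    · refine hsd ⟨n - 1, by omega, ?_, a, b, ha, ?_, ?_⟩
      · rw [hn]; congr 1; omega
      · exact orderOf_eq_prime hb2 fun h => hb (h ▸ one_mem _)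
      · rw [show n - 1 - 1 = n - 2 by omega]; exact hconj
  refine Cfsg.Lib.FusionSys.isNormal_of_normal_stab hS hF hP fun Q N hQP hC hQN hNP hNn => ?_
  haveI : Finite Q := Finite.of_injective _ (Subgroup.inclusion_injective hQP)
  haveI : Fact (Nat.Prime 2) := ⟨Nat.prime_two⟩
  rcases Cfsg.Lib.PGroup.metacyclic_two_dichotomy hPp hm hA4 hQP hC hQN hNP hNn with h | ⟨y, hy, hyQ, h⟩
  · haveI : Finite (MulAut Q) := Finite.of_injective (fun a : MulAut Q => (a : Q → Q))
      DFunLike.coe_injective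
    obtain ⟨y, hy, hyQ⟩ := SetLike.exists_of_lt hQN
    refine ⟨⊤, inferInstance, ?_, y, hy, hyQ, fun _ => Subgroup.mem_top _⟩
    exact (Cfsg.Lib.PGroup.isPGroup_two_of_odd_eq_one h).to_subgroup ⊤
  · refine ⟨Cfsg.Lib.PGroup.frattiniStab Q, inferInstance,
      Cfsg.Lib.PGroup.isPGroup_frattiniStab (hPp.to_le hQP), y, hy, hyQ, fun hyN q => ?_⟩
    obtain ⟨f, hf, hfe⟩ := h q
    have : q⁻¹ * Cfsg.Lib.FusionSys.conjAut Q hyN q = f := Subtype.ext (by
      simp only [Subgroup.coe_mul, Subgroup.coe_inv, Cfsg.Lib.FusionSys.coe_conjAut, hfe,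
        inv_mul_cancel_left])
    rw [this]
    exact hf

end Cfsg.Agent.S5235
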