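import Cfsg.Statements.S5212
import Cfsg.Agent.S5235
import Cfsg.Agent.S1896
import Cfsg.Agent.Lib.FusionSys.Abelian

set_option autoImplicit false
open Cfsg

namespace Cfsg.Agent.S5212

/-- Let S be a finite metacyclic 2-group that is not homocyclic abelian (a direct product of cyclic groups of one common order), not dihedral, not semidihedral and not generalized quaternion. Then every saturated fusion system over S is the inner fusion system of S. -/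
theorem result {Ω : Type*} [Group Ω] {S : Subgroup Ω} [Finite S] (hS : IsPGroup 2 S) (F : Cfsg.FusionSystem S) (hF : F.IsSaturated 2) (hm : Cfsg.IsMetacyclic ↥S) (hh : ¬ ∃ n k : ℕ, Nonempty (↥S ≃* Multiplicative (Fin k → ZMod (2 ^ n)))) (hd : ¬ ∃ m : ℕ, Nonempty (↥S ≃* DihedralGroup m)) (hq : ¬ ∃ m : ℕ, Nonempty (↥S ≃* QuaternionGroup m)) (hsd : ¬ Cfsg.IsQuasiDihedral ↥S) : ∀ P : Subgroup Ω, F.Hom P = (Cfsg.innerFusionSystem S).Hom P := by
  haveI : Fact (Nat.Prime 2) := ⟨Nat.prime_two⟩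
  intro P
  have hN : F.IsNormal S := Cfsg.Agent.S5235.result 2 hS F hF S ⟨le_rfl, fun R hR φ hφ x =>
    (F.le_of_mem hφ).2 x⟩ rfl hm hd hq hsd
  have hAut : IsPGroup 2 (MulAut ↥S) := by
    by_contra hA
    rcases Cfsg.Agent.S1896.result hS hm hA with ⟨⟨e⟩⟩ | ⟨n, ⟨e⟩⟩
    · exact hq ⟨2, ⟨e⟩⟩
    · refine hh ⟨n, 2, ⟨e.trans ?_⟩⟩
      exact (MulEquiv.prodMultiplicative (ZMod (2 ^ n)) (ZMod (2 ^ n))).symm.trans
        (AddEquiv.toMultiplicative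
          ({ finTwoArrowEquiv (ZMod (2 ^ n)) with map_add' := fun _ _ => rfl } :
            (Fin 2 → ZMod (2 ^ n)) ≃+ ZMod (2 ^ n) × ZMod (2 ^ n)).symm)
  obtain ⟨-, -, R, hR⟩ := Cfsg.Lib.FusionSys.isFullyAutomized_and_fc_of_fn hS hF
    (Cfsg.Lib.FusionSys.isFullyNormalized_top F)
  have htop : (R : Subgroup (F.autGroup S)) = ⊤ :=
    (R.3 ((hAut.to_subgroup (F.autGroup S)).to_subgroup ⊤) le_top).symm
  refine Set.Subset.antisymm (fun φ hφ => ?_) (Cfsg.Lib.FusionSys.innerFusionSystem_le F P)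
  obtain ⟨ψ, hψ, hψe, -⟩ := hN.2 _ φ hφ
  have hψS := Cfsg.Lib.FusionSys.restrict_mem hψ (le_sup_right : S ≤ P ⊔ S)
  have hr := Cfsg.Lib.FusionSys.eq_top_of_isConj (⟨_, hψS, rfl⟩ : F.IsConj S _)
  have hα := (Cfsg.Lib.FusionSys.mem_autGroup (F := F) le_rfl).2 (Cfsg.Lib.FusionSys.isoIn_homIso hψS hr)
  have h1 : (⟨_, hα⟩ : F.autGroup S) ∈ (R : Subgroup (F.autGroup S)) := htop ▸ trivial
  rw [hR, Subgroup.mem_subgroupOf] at h1
  obtain ⟨g, hg, hge⟩ := Cfsg.Lib.FusionSys.mem_autInducedBy.1 h1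
  refine ⟨Cfsg.Lib.FusionSys.hom_le hφ, g, hg, fun x => ?_⟩
  rw [← hψe]
  have h2 := hge ⟨x, Cfsg.Lib.FusionSys.hom_le hφ x.2⟩
  rw [Cfsg.Lib.FusionSys.coe_homIso] at h2
  exact h2

end Cfsg.Agent.S5212
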