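import Cfsg.Statements.S0800


set_option autoImplicit false
open Cfsg

namespace Cfsg.Agent.S0800

open scoped Matrix

theorem order_dvd {F : Type*} [Field F] [Fintype F] (p : ℕ) [Fact p.Prime] [CharP F p]
    (g : Matrix.SpecialLinearGroup (Fin 2) F) (hg : Nat.Coprime (orderOf g) p) :
    orderOf g ∣ Fintype.card F - 1 ∨ orderOf g ∣ Fintype.card F + 1 := by
  classical
  obtain ⟨G, hG⟩ : ∃ G : Matrix (Fin 2) (Fin 2) F, G = g.val := ⟨_, rfl⟩
  have hdet : G.det = 1 := by rw [hG]; exact g.2
  obtain ⟨t, ht⟩ : ∃ t, t = G.trace := ⟨_, rfl⟩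
  have hsq : G * G = t • G - 1 := by
    rw [Matrix.det_fin_two] at hdet
    ext i j
    fin_cases i <;> fin_cases j <;>
      simp [Matrix.mul_apply, Fin.sum_univ_two, ht, Matrix.trace_fin_two] <;>
      first | (linear_combination (-1 : F) * hdet; done) | ring
  have hord : ∀ k, G ^ k = 1 → orderOf g ∣ k := fun k hk =>
    orderOf_dvd_of_pow_eq_one (Subtype.ext (by
      rw [Matrix.SpecialLinearGroup.coe_pow, ← hG, hk]; rfl))
  obtain ⟨q, hq⟩ : ∃ q, q = Fintype.card F := ⟨_, rfl⟩
  have hq1 : 1 < q := hq ▸ Fintype.one_lt_card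
  rw [← hq]
  have hspan : ∀ k, ∃ a b : F, G ^ k = a • G + b • 1 := fun k => by
    induction k with
    | zero => exact ⟨0, 1, by simp⟩
    | succ k ih =>
      obtain ⟨a, b, h⟩ := ih
      exact ⟨a * t + b, -a, by rw [pow_succ, h, add_mul, smul_mul_assoc, hsq, smul_mul_assoc, one_mul]; module⟩
  -- the key identity
  have hkey : (G ^ (q - 1) - 1) * (G ^ (q + 1) - 1) = 0 := by
    obtain ⟨n, -, hn⟩ := FiniteField.card F p
    have hcomm : Commute (t • G) (-1 : Matrix (Fin 2) (Fin 2) F) := (Commute.one_right _).neg_right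
    have hfr : (G ^ q) * (G ^ q) = t • G ^ q - 1 := by
      have h := congrArg (fun M : Matrix (Fin 2) (Fin 2) F => M ^ q) hsq
      simp only [sub_eq_add_neg] at h
      rw [(Commute.refl G).mul_pow] at h
      rw [h, hq, hn, add_pow_char_pow_of_commute (p := p) (h := hcomm), smul_pow, ← hn, FiniteField.pow_card,
        sub_eq_add_neg, neg_pow, one_pow, mul_one]
      congr 1
      have h1 : ((-1 : F)) ^ Fintype.card F = -1 := FiniteField.pow_card _
      have := congrArg (algebraMap F (Matrix (Fin 2) (Fin 2) F)) h1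
      simpa using this
    have hG1 : G ^ (q + 1) + G ^ (q - 1) = t • G ^ q := by
      have : G ^ (q + 1) + G ^ (q - 1) = G ^ (q - 1) * (G * G + 1) := by
        rw [mul_add, mul_one, ← pow_two, ← pow_add]
        congr 2; omega
      rw [this, hsq, sub_add_cancel, mul_smul_comm, ← pow_succ]
      congr 2; omega
    rw [sub_mul, mul_sub, mul_one, one_mul, ← pow_add,
      show q - 1 + (q + 1) = q + q by omega, pow_add, hfr, ← hG1]
    abel
  by_cases hev : ∃ r : F, r ^ 2 - t * r + 1 = 0
  · left
    obtain ⟨r, hr⟩ := hev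
    have hr0 : r ≠ 0 := fun h => by rw [h] at hr; simp at hr
    have hr1 : r ^ (q - 1) = 1 := by rw [hq]; exact FiniteField.pow_card_sub_one_eq_one r hr0
    obtain ⟨s, hs⟩ : ∃ s, s = t - r := ⟨_, rfl⟩
    have hrs : r * s = 1 := by rw [hs]; linear_combination -hr
    have hs1 : s ^ (q - 1) = 1 := by
      rw [hq]; exact FiniteField.pow_card_sub_one_eq_one s (right_ne_zero_of_mul_eq_one hrs)
    obtain ⟨P, hP⟩ : ∃ P : Matrix (Fin 2) (Fin 2) F, P = G - s • 1 := ⟨_, rfl⟩
    obtain ⟨R, hR⟩ : ∃ R : Matrix (Fin 2) (Fin 2) F, R = G - r • 1 := ⟨_, rfl⟩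
    have hGP : G * P = r • P := by
      rw [hP, mul_sub, hsq, mul_smul_comm, mul_one, hs]
      match_scalars <;> first | (linear_combination -hr; done) | (linear_combination hr; done) | ring
    have hGR : G * R = s • R := by
      rw [hR, mul_sub, hsq, mul_smul_comm, mul_one, hs]
      match_scalars <;> first | (linear_combination -hr; done) | (linear_combination hr; done) | ring
    by_cases hrs' : r = s
    · -- a repeated eigenvalue
      have hnil : R * R = 0 := by
        nth_rewrite 1 [hR]
        rw [sub_mul, hGR, smul_mul_assoc, one_mul, hrs', sub_self]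
      have hpow : G ^ p = r ^ p • 1 := by
        have hGeq : G = R + r • 1 := by rw [hR, sub_add_cancel]
        have hc : Commute R (r • (1 : Matrix (Fin 2) (Fin 2) F)) := (Commute.one_right _).smul_right r
        rw [hGeq, add_pow_char_of_commute (p := p) (h := hc), smul_pow, one_pow]
        obtain ⟨j, hj⟩ : ∃ j, p = j + 2 := ⟨p - 2, by have := (Fact.out : p.Prime).two_le; omega⟩
        nth_rewrite 1 [hj]
        rw [pow_add, sq, hnil, mul_zero, zero_add]
      have : G ^ (p * (q - 1)) = 1 := by
        rw [pow_mul, hpow, smul_pow, one_pow, ← pow_mul, mul_comm, pow_mul, hr1, one_pow, one_smul]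
      exact (hg.dvd_mul_left).mp (hord _ this)
    · have hk : ∀ k, (r - s) • G ^ k = r ^ k • P - s ^ k • R := fun k => by
        induction k with
        | zero => rw [hP, hR]; simp only [pow_zero, one_smul]; module
        | succ k ih =>
          rw [pow_succ', ← mul_smul_comm, ih, mul_sub, mul_smul_comm, mul_smul_comm, hGP, hGR,
            smul_smul, smul_smul, pow_succ, pow_succ]
      have h := hk (q - 1)
      rw [hr1, hs1] at h
      have h0 := hk 0
      rw [pow_zero, pow_zero, pow_zero, ← h] at h0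
      exact hord _ (smul_right_injective _ (sub_ne_zero.mpr hrs') h0).symm
  · push Not at hev
    obtain ⟨a, b, hab⟩ := hspan (q - 1)
    by_cases hA : G ^ (q - 1) = 1
    · exact Or.inl (hord _ hA)
    refine Or.inr (hord _ (sub_eq_zero.mp ?_))
    obtain ⟨b', hb'⟩ : ∃ b', b' = b - 1 := ⟨_, rfl⟩
    have hA' : G ^ (q - 1) - 1 = a • G + b' • 1 := by rw [hab, hb']; module
    have hn : a ^ 2 + a * b' * t + b' ^ 2 ≠ 0 := fun h => by
      by_cases ha : a = 0
      · have hb0 : b' = 0 := by rw [ha] at h; simpa using h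
        refine hA (sub_eq_zero.mp ?_)
        rw [hA', ha, hb0]; simp
      · refine hev (-b' / a) ?_
        field_simp
        linear_combination h
    have h := congrArg (fun M => ((-a) • G + (b' + a * t) • (1 : Matrix (Fin 2) (Fin 2) F)) * M) hkey
    simp only [mul_zero, ← mul_assoc, hA'] at h
    have hprod : ((-a) • G + (b' + a * t) • (1 : Matrix (Fin 2) (Fin 2) F)) * (a • G + b' • 1) =
        (a ^ 2 + a * b' * t + b' ^ 2) • 1 := by
      rw [add_mul, mul_add, mul_add, smul_mul_smul_comm, smul_mul_smul_comm, smul_mul_smul_comm,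
        smul_mul_smul_comm, hsq]
      simp only [one_mul, mul_one]
      match_scalars <;> ring
    rw [hprod, smul_mul_assoc, one_mul] at h
    exact (smul_eq_zero.mp h).resolve_left hn


/-- Tori of SL_2(q): if g ∈ SL_2(q) has order coprime to the characteristic p, then the order of g divides q − 1 or q + 1. -/
theorem result {F : Type*} [Field F] [Fintype F] {q : ℕ} (hF : Fintype.card F = q) (p : ℕ) [Fact p.Prime] [CharP F p] (g : Matrix.SpecialLinearGroup (Fin 2) F) (hg : Nat.Coprime (orderOf g) p) : orderOf g ∣ q - 1 ∨ orderOf g ∣ q + 1 := by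
  classical
  subst hF
  exact order_dvd p g hg

end Cfsg.Agent.S0800
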