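import Cfsg.Statements.S0261
import Cfsg.Agent.S0800
import Cfsg.Agent.S0016
import Cfsg.Agent.Lib.Linear.GLTwo

set_option autoImplicit false
open Cfsg

namespace Cfsg.Agent.S0261

open Cfsg.Lib.Linear

/-- The only involution of a two-dimensional special linear group. -/
theorem sq_one {F : Type*} [Field F] (h2 : (2 : F) ≠ 0) (x : Matrix.SpecialLinearGroup (Fin 2) F)
    (hx : x ^ 2 = 1) :
    (x : Matrix (Fin 2) (Fin 2) F) = 1 ∨ (x : Matrix (Fin 2) (Fin 2) F) = -1 := by
  have hd := x.2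
  rw [Matrix.det_fin_two] at hd
  have h := congrArg (fun y : Matrix.SpecialLinearGroup (Fin 2) F => (y : Matrix (Fin 2) (Fin 2) F)) hx
  simp only [Matrix.SpecialLinearGroup.coe_pow, Matrix.SpecialLinearGroup.coe_one, sq] at h
  have h00 := congrFun (congrFun h 0) 0
  have h01 := congrFun (congrFun h 0) 1
  have h10 := congrFun (congrFun h 1) 0
  have h11 := congrFun (congrFun h 1) 1
  simp [Matrix.mul_apply, Fin.sum_univ_two] at h00 h01 h10 h11
  obtain ⟨t, ht⟩ : ∃ t, t = (x : Matrix (Fin 2) (Fin 2) F) 0 0 + (x : Matrix (Fin 2) (Fin 2) F) 1 1 :=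
    ⟨_, rfl⟩
  have e00 : t * (x : Matrix (Fin 2) (Fin 2) F) 0 0 = 2 := by rw [ht]; linear_combination h00 + hd
  have e11 : t * (x : Matrix (Fin 2) (Fin 2) F) 1 1 = 2 := by rw [ht]; linear_combination h11 + hd
  have ht0 : t ≠ 0 := fun h => h2 (by rw [← e00, h, zero_mul])
  have b : (x : Matrix (Fin 2) (Fin 2) F) 0 1 = 0 :=
    (mul_eq_zero.mp (show t * _ = 0 by rw [ht]; linear_combination h01)).resolve_left ht0
  have c : (x : Matrix (Fin 2) (Fin 2) F) 1 0 = 0 :=
    (mul_eq_zero.mp (show t * _ = 0 by rw [ht]; linear_combination h10)).resolve_left ht0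
  have e : (x : Matrix (Fin 2) (Fin 2) F) 0 0 = (x : Matrix (Fin 2) (Fin 2) F) 1 1 :=
    mul_left_cancel₀ ht0 (e00.trans e11.symm)
  rw [b] at h00
  rcases mul_eq_zero.mp (show ((x : Matrix (Fin 2) (Fin 2) F) 0 0 - 1) *
      ((x : Matrix (Fin 2) (Fin 2) F) 0 0 + 1) = 0 by linear_combination h00) with h | h
  · left
    ext i j
    fin_cases i <;> fin_cases j <;> simp [b, c, ← e, sub_eq_zero.mp h]
  · right
    ext i j
    fin_cases i <;> fin_cases j <;> simp [b, c, ← e, eq_neg_of_add_eq_zero_left h]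

theorem two_ne {F : Type*} [Field F] [Fintype F] (hF : Odd (Fintype.card F)) : (2 : F) ≠ 0 :=
  fun h => by
    haveI : CharP F 2 := CharTwo.of_one_ne_zero_of_two_eq_zero one_ne_zero h
    have h1 := FiniteField.even_card_of_char_two (ringChar.eq F 2)
    rw [Nat.odd_iff] at hF
    omega

/-- Elements of two-power order. -/
theorem two_power_dvd {F : Type*} [Field F] [Fintype F] (hF : Odd (Fintype.card F))
    (g : Matrix.SpecialLinearGroup (Fin 2) F) {k : ℕ} (hg : orderOf g = 2 ^ k) :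
    2 ^ k ∣ Fintype.card F - 1 ∨ 2 ^ k ∣ Fintype.card F + 1 := by
  obtain ⟨p, hp⟩ := CharP.exists F
  haveI := hp
  haveI : Fact p.Prime := ⟨CharP.char_is_prime F p⟩
  rw [← hg]
  refine Cfsg.Agent.S0800.result rfl p g ?_
  rw [hg]
  refine Nat.Coprime.pow_left k ((Nat.coprime_primes Nat.prime_two Fact.out).mpr fun h => ?_)
  subst h
  exact two_ne hF (CharTwo.two_eq_zero)

/-- For q odd, the Sylow 2-subgroups of SL_2(q) are generalised quaternion. -/
theorem result {F : Type*} [Field F] [Fintype F] (hF : Odd (Fintype.card F)) (P : Sylow 2 (Matrix.SpecialLinearGroup (Fin 2) F)) : ∃ k : ℕ, 1 ≤ k ∧ Nonempty ((P : Subgroup (Matrix.SpecialLinearGroup (Fin 2) F)) ≃* QuaternionGroup (2 ^ k)) := by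
  classical
  haveI : Fact (Nat.Prime 2) := ⟨Nat.prime_two⟩
  have h2 := two_ne hF
  obtain ⟨a, ha⟩ := IsPGroup.iff_card.mp P.2
  have hidx := P.not_dvd_index
  have hmul := (P : Subgroup (Matrix.SpecialLinearGroup (Fin 2) F)).card_mul_index
  rw [ha, Two.card_SL_two] at hmul
  have hncyc : ¬ IsCyclic (P : Subgroup (Matrix.SpecialLinearGroup (Fin 2) F)) := fun hc => by
    obtain ⟨g, hg⟩ := hc.exists_ofOrder_eq_natCard
    rw [ha] at hg
    have hgo : orderOf (g : Matrix.SpecialLinearGroup (Fin 2) F) = 2 ^ a := by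
      rw [Subgroup.orderOf_coe, hg]
    obtain ⟨m, hm⟩ : ∃ m, Fintype.card F = 2 * m + 1 := hF
    have hb : 2 ^ (a + 1) ∣ Fintype.card F * (Fintype.card F ^ 2 - 1) := by
      refine Dvd.dvd.mul_left ?_ _
      rw [show Fintype.card F ^ 2 - 1 = (Fintype.card F + 1) * (Fintype.card F - 1) by
        simpa using Nat.sq_sub_sq (Fintype.card F) 1, pow_succ]
      rcases two_power_dvd ⟨m, hm⟩ _ hgo with h | h
      · rw [mul_comm]
        exact mul_dvd_mul (⟨m + 1, by omega⟩ : 2 ∣ Fintype.card F + 1) h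
      · exact mul_dvd_mul h (⟨m, by omega⟩ : 2 ∣ Fintype.card F - 1)
    rw [← hmul, pow_succ] at hb
    exact hidx (Nat.dvd_of_mul_dvd_mul_left (pow_pos (by norm_num) a) hb)
  have huniq : ∀ H K : Subgroup (P : Subgroup (Matrix.SpecialLinearGroup (Fin 2) F)),
      Nat.card H = 2 → Nat.card K = 2 → H = K := by
    intro H K hH hK
    have key : ∀ x : (P : Subgroup (Matrix.SpecialLinearGroup (Fin 2) F)), orderOf x = 2 →
        ((x : Matrix.SpecialLinearGroup (Fin 2) F) : Matrix (Fin 2) (Fin 2) F) = -1 := fun x hx => by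
      have h1 : (x : Matrix.SpecialLinearGroup (Fin 2) F) ^ 2 = 1 := by
        have h0 := pow_orderOf_eq_one x
        rw [hx] at h0
        rw [← SubgroupClass.coe_pow, h0]; rfl
      refine (sq_one h2 _ h1).resolve_left fun h => ?_
      have : x = 1 := Subtype.ext (Subtype.ext h)
      rw [this, orderOf_one] at hx
      exact absurd hx (by norm_num)
    obtain ⟨y, hy⟩ := exists_prime_orderOf_dvd_card' (G := H) 2 (by rw [hH])
    obtain ⟨z, hz⟩ := exists_prime_orderOf_dvd_card' (G := K) 2 (by rw [hK])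
    have hyz : y.1 = z.1 := by
      refine Subtype.ext (Subtype.ext ?_)
      rw [key y.1 (by rw [Subgroup.orderOf_coe, hy]), key z.1 (by rw [Subgroup.orderOf_coe, hz])]
    have eH : Subgroup.zpowers y.1 = H := Subgroup.eq_of_le_of_card_ge
      (Subgroup.zpowers_le.mpr y.2) (by rw [Nat.card_zpowers, Subgroup.orderOf_coe, hy, hH])
    have eK : Subgroup.zpowers z.1 = K := Subgroup.eq_of_le_of_card_ge
      (Subgroup.zpowers_le.mpr z.2) (by rw [Nat.card_zpowers, Subgroup.orderOf_coe, hz, hK])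
    rw [← eH, ← eK, hyz]
  rcases Cfsg.Agent.S0016.result 2 P.2 huniq with h | ⟨-, k, ⟨e⟩⟩
  · exact absurd h hncyc
  · refine ⟨k, Nat.one_le_iff_ne_zero.mpr fun hk => hncyc ?_, ⟨e⟩⟩
    subst hk
    haveI : IsCyclic (QuaternionGroup (2 ^ 0)) := by
      refine isCyclic_of_orderOf_eq_card (QuaternionGroup.xa 0) ?_
      rw [QuaternionGroup.orderOf_xa, Nat.card_eq_fintype_card, QuaternionGroup.card, pow_zero, mul_one]
    exact isCyclic_of_surjective e.symm e.symm.surjective

end Cfsg.Agent.S0261
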