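import Cfsg.Statements.S3953
import Cfsg.Agent.Lib.Schur.Transfer
-- import your own Cfsg.Agent.* helpers here

set_option autoImplicit false
open Cfsg

namespace Cfsg.Agent.S3953

open Cfsg.Lib.Schur Subgroup

/-- Let `P` be a Sylow `p`-subgroup of the finite group `G`, let `A` be the Schur multiplier of `G` and `B` that of `P`. Then the `p`-primary component of `A` is isomorphic to a direct factor of `B`: there are subgroups `C` and `D` of `B` meeting trivially and generating `B`, with `C` isomorphic to the `p`-primary component of `A`. -/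
theorem result {G : Type*} [Group G] [Finite G] (p : ℕ) [Fact p.Prime] (P : Sylow p G) {A B : Type*} [CommGroup A] [CommGroup B] (hA : Cfsg.HasSchurMultiplier G A) (hB : Cfsg.HasSchurMultiplier P B) : ∃ C D : Subgroup B, C ⊓ D = ⊥ ∧ C ⊔ D = ⊤ ∧ Nonempty (CommGroup.primaryComponent A p ≃* C) := by
  obtain ⟨eA⟩ := nonempty_equiv_of_has hA
  obtain ⟨eB⟩ := nonempty_equiv_of_has hB
  have : Finite A := finite_of_has hA
  obtain ⟨tr, cor, h⟩ := exists_res_cor (P : Subgroup G)
  let t : A →* B := eB.symm.toMonoidHom.comp (tr.comp eA.toMonoidHom)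
  let c : B →* A := eA.symm.toMonoidHom.comp (cor.comp eB.toMonoidHom)
  have hct : ∀ a, c (t a) = a ^ (P : Subgroup G).index := fun a => by
    show eA.symm (cor (eB (eB.symm (tr (eA a))))) = _
    rw [eB.apply_symm_apply, h, map_pow, eA.symm_apply_apply]
  have hp := (Fact.out : p.Prime)
  have hA0 : Nat.card A ≠ 0 := Nat.card_pos.ne'
  set r := Nat.card A / p ^ (Nat.card A).factorization p with hr
  set Ap := CommGroup.primaryComponent A p
  have hrp : ∀ a : A, a ^ r ∈ Ap := fun a => ⟨(Nat.card A).factorization p, by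
    rw [← pow_mul, hr, mul_comm, Nat.ordProj_mul_ordCompl_eq_self, pow_card_eq_one']⟩
  let f : B →* Ap := ((powMonoidHom r).comp c).codRestrict Ap fun b => hrp (c b)
  let g : Ap →* Ap := f.comp (t.comp Ap.subtype)
  have hg : Function.Injective g := (injective_iff_map_eq_one g).mpr fun a ha => by
    have h1 : (a : A) ^ ((P : Subgroup G).index * r) = 1 := by
      rw [pow_mul, ← hct]; exact congrArg Subtype.val ha
    obtain ⟨k, hk⟩ := a.2
    have hco : Nat.Coprime ((P : Subgroup G).index * r) (p ^ k) := by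
      refine Nat.Coprime.pow_right k (Nat.Coprime.mul_left ?_ ?_)
      · exact ((hp.coprime_iff_not_dvd).mpr P.not_dvd_index).symm
      · exact (Nat.coprime_ordCompl hp hA0).symm
    refine Subtype.ext (orderOf_eq_one_iff.mp (Nat.eq_one_of_dvd_coprimes hco ?_ ?_))
    · exact orderOf_dvd_of_pow_eq_one h1
    · exact orderOf_dvd_of_pow_eq_one hk
  have hgb := Finite.injective_iff_bijective.mp hg
  refine ⟨Ap.map t, f.ker, ?_, ?_, ⟨MulEquiv.ofBijective (t.subgroupMap Ap) ⟨?_, t.subgroupMap_surjective Ap⟩⟩⟩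
  · rw [eq_bot_iff]
    rintro _ ⟨⟨a, ha, rfl⟩, hb⟩
    have h2 : (⟨a, ha⟩ : Ap) = 1 := hg ((show g ⟨a, ha⟩ = 1 from hb).trans (map_one g).symm)
    rw [mem_bot, show a = 1 from congrArg Subtype.val h2, map_one]
  · rw [eq_top_iff]
    intro b _
    obtain ⟨a, ha⟩ := hgb.2 (f b)
    have hb : (t a)⁻¹ * b ∈ f.ker := by
      rw [MonoidHom.mem_ker, map_mul, map_inv, show f (t a) = g a from rfl, ha, inv_mul_cancel]
    rw [← mul_inv_cancel_left (t a) b]
    exact mul_mem (le_sup_left (b := f.ker) ⟨a, a.2, rfl⟩) (le_sup_right (a := Ap.map t) hb)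
  · intro a b hab
    refine hg ?_
    show f (t a) = f (t b)
    rw [show t (a : A) = t (b : A) from congrArg Subtype.val hab]

end Cfsg.Agent.S3953
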