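import Cfsg.Statements.S3963
import Cfsg.Agent.Lib.Schur.TwoGen
-- import your own Cfsg.Agent.* helpers here

set_option autoImplicit false
open Cfsg

namespace Cfsg.Agent.S3963

open Cfsg.Lib.Schur Subgroup


/-- For every `n ≥ 1` the dicyclic (generalized quaternion) group of order `4 n` has trivial Schur multiplier. -/
theorem result (n : ℕ) [NeZero n] : Cfsg.HasCyclicSchurMultiplier (QuaternionGroup n) 1 := by
  have : Subsingleton (M (QuaternionGroup n)) := by
    obtain ⟨Γ, _, _, σ, hσ, ⟨e⟩⟩ := exists_cover (canon (QuaternionGroup n)) canon_surjective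
    obtain ⟨c, hc, hσc, hle⟩ := inverting_stem (n := n) hσ (quaternion_gen n)
      (by
        rw [mul_inv_eq_iff_eq_mul]
        show QuaternionGroup.xa (0 : ZMod (2 * n)) * QuaternionGroup.a 1 = (QuaternionGroup.a 1)⁻¹ * QuaternionGroup.xa 0
        rw [show (QuaternionGroup.a (1 : ZMod (2 * n)))⁻¹ = QuaternionGroup.a (-1) from rfl, QuaternionGroup.a_mul_xa, QuaternionGroup.xa_mul_a, zero_add, zero_sub, neg_neg])
      (fun A B hA hB => by
        have hk : (B * B)⁻¹ * A ^ n ∈ σ.ker := by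
          show σ _ = 1
          rw [map_mul, map_inv, map_mul, map_pow, hA, hB, QuaternionGroup.a_one_pow, QuaternionGroup.xa_mul_xa]
          simp
        have h1 := mem_center_iff.mp (hσ.2.1 hk) B
        calc B * A ^ n * B⁻¹ = (B * B) * (B * ((B * B)⁻¹ * A ^ n)) * B⁻¹ := by group
          _ = (B * B) * (((B * B)⁻¹ * A ^ n) * B) * B⁻¹ := by rw [h1]
          _ = A ^ n := by group)
    have hbot : σ.ker = ⊥ := by
      rw [eq_bot_iff]
      intro k hk
      obtain ⟨i, hi⟩ := mem_zpowers_iff.mp (hle hk)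
      have h1 : σ (c ^ i) = 1 := by rw [hi]; exact hk
      rw [map_zpow, hσc, inv_zpow, inv_eq_one, ← zpow_natCast, ← zpow_mul, ← orderOf_dvd_iff_zpow_eq_one,
        QuaternionGroup.orderOf_a_one] at h1
      obtain ⟨j, hj⟩ : (n : ℤ) ∣ i := by
        have h2 : (2 : ℤ) * n ∣ 2 * i := by exact_mod_cast h1
        exact (mul_dvd_mul_iff_left two_ne_zero).mp h2
      rw [mem_bot, ← hi, hj, zpow_mul, zpow_natCast, hc, one_zpow]
    refine ⟨fun a b => e.symm.injective ?_⟩
    exact Subtype.ext ((mem_bot.mp (hbot ▸ (e.symm a).2)).trans (mem_bot.mp (hbot ▸ (e.symm b).2)).symm)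
  exact hasCyclic_one_iff.mpr this

end Cfsg.Agent.S3963
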