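import Cfsg.Statements.S3979
import Cfsg.Agent.Lib.Schur.Bilinear
import Mathlib.GroupTheory.SpecificGroups.Cyclic
-- import your own Cfsg.Agent.* helpers here

set_option autoImplicit false
open Cfsg

namespace Cfsg.Agent.S3979

open Cfsg.Lib.Schur Subgroup

theorem mult_trivial {G : Type*} [Group G] [Finite G] [IsCyclic G] : Subsingleton (M G) := by
  obtain ⟨g, hg⟩ := IsCyclic.exists_generator (α := G)
  obtain ⟨x, hx⟩ := covMap_surjective (canon G) canon_surjective g
  have h : commutator (Cov (canon G)) = ⊥ := commutator_eq_bot_of_one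
    (closure_sup_center (ker_covMap_le_center (canon G)) {x} (by
      rw [Set.image_singleton, hx, ← zpowers_eq_closure]
      exact eq_top_iff.mpr fun y _ => hg y))
  refine ⟨fun a b => Subtype.ext ?_⟩
  have ha : (a : Cov (canon G)) = 1 := mem_bot.mp (h ▸ a.2.2)
  have hb : (b : Cov (canon G)) = 1 := mem_bot.mp (h ▸ b.2.2)
  rw [ha, hb]


/-- A finite cyclic group has trivial Schur multiplier: every finite stem extension of it is an isomorphism, said through `HasCyclicSchurMultiplier G 1`. -/
theorem result {G : Type*} [Group G] [Finite G] [IsCyclic G] : Cfsg.HasCyclicSchurMultiplier G 1 := by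
  exact Cfsg.Lib.Schur.hasCyclic_one_iff.mpr mult_trivial

end Cfsg.Agent.S3979
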