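import Cfsg.Statements.S0254
import Cfsg.Agent.Lib.Linear.PSLSmall
import Cfsg.Agent.Lib.Small.Order360
import Cfsg.Agent.Lib.Linear.SLBasic

set_option linter.style.haveILetI false

set_option autoImplicit false
open Cfsg

namespace Cfsg.Agent.S0254

/-- PSL_2(9) is isomorphic to A_6. -/
theorem result {F : Type*} [Field F] [Fintype F] (hF : Fintype.card F = 9) : Nonempty (Matrix.ProjectiveSpecialLinearGroup (Fin 2) F ≃* alternatingGroup (Fin 6)) := by
  haveI := Cfsg.Lib.Linear.PSL_simple (F := F) 2 le_rfl (fun _ => by rw [Nat.card_eq_fintype_card, hF]; norm_num)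
  have h := Cfsg.Lib.Linear.Two.card_PSL_two (F := F)
  rw [hF] at h
  norm_num at h
  exact Cfsg.Lib.Small.Order360.iso_alternating (by omega)

end Cfsg.Agent.S0254
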