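import Cfsg.Statements.S0102
import Cfsg.Agent.Lib.Fusion.Abelian

set_option autoImplicit false
set_option linter.style.haveILetI false
open Cfsg

namespace Cfsg.Agent.S0102

/-- A finite perfect group with cyclic Sylow p-subgroups has no perfect central extension whose kernel has order divisible by p. -/
theorem result {G : Type*} {H : Type*} [Group G] [Group H] [Finite G] [Finite H] (hG : commutator G = ⊤) {p : ℕ} [Fact p.Prime] (hcyc : ∀ P : Sylow p G, IsCyclic P) (σ : H →* G) (hσ : Function.Surjective σ) (hz : σ.ker ≤ Subgroup.center H) (hH : commutator H = ⊤) : ¬ p ∣ Nat.card σ.ker := by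
  intro hd
  let P : Sylow p H := Classical.arbitrary _
  haveI hcy : IsCyclic ((P : Subgroup H).map σ) := hcyc (P.mapSurjective hσ)
  haveI hcom : IsMulCommutative (P : Subgroup H) := by
    refine ⟨⟨fun a b => ?_⟩⟩
    haveI : IsCyclic (σ.subgroupMap (P : Subgroup H)).range := by
      rw [MonoidHom.range_eq_top.mpr (σ.subgroupMap_surjective _)]
      exact isCyclic_of_surjective _ (Subgroup.topEquiv (G := ↥((P : Subgroup H).map σ))).symm.surjective
    refine commutative_of_cyclic_center_quotient (σ.subgroupMap (P : Subgroup H)) (fun x hx => ?_) a b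
    rw [Subgroup.mem_center_iff]
    intro y
    exact Subtype.ext (Subgroup.mem_center_iff.mp (hz (congrArg Subtype.val hx : σ x = 1)) y)
  obtain ⟨z, hz1⟩ := exists_prime_orderOf_dvd_card' p hd
  have hzp : IsPGroup p (Subgroup.zpowers (z : H)) :=
    IsPGroup.of_card (n := 1) (by rw [Nat.card_zpowers, Subgroup.orderOf_coe, hz1, pow_one])
  obtain ⟨Q, hQ⟩ := hzp.exists_le_sylow
  obtain ⟨c, hc⟩ := MulAction.exists_smul_eq H Q P
  have hzP : (z : H) ∈ (P : Subgroup H) := by
    rw [← hc]
    refine ⟨z, hQ (Subgroup.mem_zpowers _), ?_⟩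
    show c * z * c⁻¹ = (z : H)
    rw [Subgroup.mem_center_iff.mp (hz z.2) c, mul_inv_cancel_right]
  have h1 : (z : H) ∈ (P : Subgroup H) ⊓ commutator H ⊓ Subgroup.center H :=
    ⟨⟨hzP, hH ▸ Subgroup.mem_top _⟩, hz z.2⟩
  rw [Cfsg.Lib.Fusion.inf_commutator_inf_center_eq_bot_sylow, Subgroup.mem_bot] at h1
  rw [← Subgroup.orderOf_coe, h1, orderOf_one] at hz1
  exact (Fact.out : p.Prime).one_lt.ne hz1

end Cfsg.Agent.S0102
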