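import Cfsg.Statements.S3277
import Cfsg.Agent.Lib.Invol.KleinFour
import Cfsg.Agent.Lib.Invol.Basic
import Cfsg.Agent.Lib.Invol.Embedded
import Cfsg.Agent.S1229

set_option autoImplicit false
open Cfsg

namespace Cfsg.Agent.S3277

open Subgroup Cfsg.Lib.Invol

private theorem two_mem {G : Type*} [Group G] {A : Subgroup G} [Finite A] {b : G} (hA : ∀ a ∈ A, a = 1 ∨ a = b) : Nat.card A ≤ 2 := by
  classical
  let f : A → Bool := fun a => decide ((a : G) = 1)
  have hf : Function.Injective f := fun a a' e => by
    have e' : ((a : G) = 1) ↔ ((a' : G) = 1) := by simpa [f] using e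
    apply Subtype.ext
    rcases hA a a.2 with h | h <;> rcases hA a' a'.2 with h' | h'
    · rw [h, h']
    · rw [e'.mp h, h]
    · rw [e'.mpr h', h']
    · rw [h, h']
  simpa using Nat.card_le_card_of_injective f hf


/-- Let G be a finite group containing an involution whose centralizer is elementary abelian of order 4. If G has no normal 2-complement and no normal elementary abelian 2-subgroup of order 2 or 4, then G is isomorphic to the alternating group of degree 5 (that is, to PSL(2, 5)). -/
theorem result {G : Type*} [Group G] [Finite G] (x : G) (hx : orderOf x = 2)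
    (hC4 : Nat.card ↥(Subgroup.centralizer ({x} : Set G)) = 4) (hCe : ∀ c ∈ Subgroup.centralizer ({x} : Set G), c ^ 2 = 1)
    (hnc : ¬ Cfsg.HasNormalPComplement 2 G)
    (hne : ∀ E : Subgroup G, E.Normal → Cfsg.IsElementaryAbelian 2 E → Nat.card ↥E ≠ 2 ∧ Nat.card ↥E ≠ 4) :
    Nonempty (G ≃* ↥(alternatingGroup (Fin 5))) := by
  classical
  haveI : Fact (Nat.Prime 2) := ⟨Nat.prime_two⟩
  set V := centralizer ({x} : Set G) with hVdef
  have hxV : x ∈ V := mem_centralizer_singleton_iff.mpr rfl
  have hV2 : ∀ c ∈ V, c * c = 1 := fun c hc => by rw [← pow_two]; exact hCe c hc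
  have hkV : IsKleinFour V := by
    refine ⟨hC4, ?_⟩
    refine (Nat.prime_two.eq_one_or_self_of_dvd _ (Monoid.exponent_dvd_of_forall_pow_eq_one
      fun c => Subtype.ext (by simpa using hCe c c.2))).resolve_left fun h1 => ?_
    exact ne_one hx (congrArg Subtype.val
      (show (⟨x, hxV⟩ : V) = 1 by rw [← pow_one (⟨x, hxV⟩ : V), ← h1, Monoid.pow_exponent_eq_one]))
  have hVp : IsPGroup 2 V := IsPGroup.of_card (n := 2) (by rw [hC4]; norm_num)
  obtain ⟨S, hVS⟩ := hVp.exists_le_sylow
  by_cases hSV : (S : Subgroup G) = V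
  · haveI : IsKleinFour (S : Subgroup G) := hSV ▸ hkV
    have hmove : ∃ g ∈ normalizer ((S : Subgroup G) : Set G), ∃ a ∈ (S : Subgroup G), g * a * g⁻¹ ≠ a := by
      by_contra hc
      push Not at hc
      refine hnc (Cfsg.Lib.Fusion.hasNormalPComplement_of_normalizer_le_centralizer S fun g hg => ?_)
      rw [mem_centralizer_iff]
      intro a ha
      have := hc g hg a ha
      calc a * g = g * a * g⁻¹ * g := by rw [this]
        _ = g * a := by group
    obtain ⟨g, hg, a, ha, hga⟩ := hmove
    have hconj : ∀ t : G, orderOf t = 2 → IsConj x t := fun t ht => by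
      obtain ⟨y, hy, hy2, hyt⟩ := klein_exists_rep S ht
      exact (klein_isConj_of_moved S hg ha hga (hVS hxV) (ne_one hx) hy (ne_one hy2)).trans hyt
    have hC : ∀ t : G, orderOf t = 2 → IsMulCommutative (centralizer ({t} : Set G)) ∧
        ∀ c ∈ centralizer ({t} : Set G), c ^ 2 = 1 := fun t ht => by
      obtain ⟨h, rfl⟩ := isConj_iff.mp (hconj t ht)
      have hex : ∀ c ∈ centralizer ({h * x * h⁻¹} : Set G), c ^ 2 = 1 := fun c hc => by
        have h1 : h⁻¹ * c * h ∈ V := by
          rw [mem_centralizer_singleton_iff] at hc ⊢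
          calc h⁻¹ * c * h * x = h⁻¹ * (c * (h * x * h⁻¹)) * h := by group
            _ = x * (h⁻¹ * c * h) := by rw [hc]; group
        have h2 := hV2 _ h1
        rw [pow_two]
        calc c * c = h * (h⁻¹ * c * h * (h⁻¹ * c * h)) * h⁻¹ := by group
          _ = 1 := by rw [h2]; group
      refine ⟨⟨⟨fun p q => Subtype.ext ?_⟩⟩, hex⟩
      have e1 : ∀ c : G, c ^ 2 = 1 → c⁻¹ = c := fun c hc => inv_eq_of_mul_eq_one_right (by rw [← pow_two, hc])
      have h3 := e1 _ (hex _ (p * q).2)
      simp only [coe_mul] at h3 ⊢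
      rw [← h3, mul_inv_rev, e1 _ (hex _ p.2), e1 _ (hex _ q.2)]
    have hScard : Nat.card (S : Subgroup G) = 4 := IsKleinFour.card_four
    have hnn : ¬ (S : Subgroup G).Normal := fun h => (hne S h
      ⟨IsKleinFour.isMulCommutative, fun c hc => hCe c (hSV ▸ hc)⟩).2 hScard
    have hncyc : ¬ IsCyclic (S : Subgroup G) := IsKleinFour.not_isCyclic
    obtain ⟨h3t, h3f, hbij⟩ := Cfsg.Agent.S1229.result S hncyc hnn hC
    have hH := Cfsg.Lib.Invol.EA.card_H (T := S) ⟨hncyc, hnn, hC⟩
    obtain ⟨u, huH, hu⟩ := se_exists_outside (Cfsg.Lib.Invol.EA.se (T := S) ⟨hncyc, hnn, hC⟩)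
    set H := normalizer ((S : Subgroup G) : Set G) with hHdef
    have hx0 : (QuotientGroup.mk u : G ⧸ H) ≠ QuotientGroup.mk 1 := fun e => huH (by
      have := QuotientGroup.eq.mp e.symm
      simpa using this)
    let F : ↥(S : Subgroup G) → {y : G ⧸ H // y ≠ QuotientGroup.mk 1} := fun t =>
      ⟨(t : G) • (QuotientGroup.mk u : G ⧸ H), fun e => hx0 (by
        rw [eq_inv_smul_iff.mpr e, smul_coset_one_eq]
        exact inv_mem (le_normalizer t.2))⟩
    have hF : Function.Bijective F := by
      refine ⟨fun a b e => ?_, fun y => ?_⟩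
      · obtain ⟨t, -, ht⟩ := hbij (QuotientGroup.mk u) (F a).1 hx0 (F a).2
        exact Subtype.ext ((ht _ ⟨a.2, rfl⟩).trans (ht _ ⟨b.2, (congrArg Subtype.val e).symm⟩).symm)
      · obtain ⟨t, ⟨ht, hty⟩, -⟩ := hbij (QuotientGroup.mk u) y.1 hx0 y.2
        exact ⟨⟨t, ht⟩, Subtype.ext hty⟩
    have h5 : Nat.card (G ⧸ H) = 5 := by
      have h4 : Nat.card {y : G ⧸ H // y ≠ QuotientGroup.mk 1} = 4 := by
        rw [← Nat.card_eq_of_bijective F hF, hScard]
      haveI := Fintype.ofFinite (G ⧸ H)
      rw [Nat.card_eq_fintype_card, Fintype.card_subtype_compl, Fintype.card_subtype_eq] at h4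
      rw [Nat.card_eq_fintype_card]
      omega
    have hG : Nat.card G = 60 := by
      rw [← H.card_mul_index, Subgroup.index_eq_card, h5]
      change Nat.card (Cfsg.Lib.Invol.EA.HH S) * 5 = 60
      rw [hH, hScard]
    have e : G ⧸ H ≃ Fin 5 := Finite.equivFinOfCardEq h5
    let φ : G →* Equiv.Perm (Fin 5) := e.permCongrHom.toMonoidHom.comp (MulAction.toPermHom G (G ⧸ H))
    have hφ : Function.Injective φ := by
      rw [injective_iff_map_eq_one]
      intro a ha
      have ha' : MulAction.toPermHom G (G ⧸ H) a = 1 := e.permCongrHom.injective (ha.trans (map_one _).symm)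
      have hfix : ∀ q : G ⧸ H, a • q = q := fun q => by
        have := Equiv.Perm.congr_fun ha' q
        simpa using this
      exact h3f a (e.symm 0) (e.symm 1) (e.symm 2) (e.symm.injective.ne (by decide))
        (e.symm.injective.ne (by decide)) (e.symm.injective.ne (by decide)) (hfix _) (hfix _) (hfix _)
    have hidx : φ.range.index = 2 := by
      have h := φ.range.card_mul_index
      rw [← Nat.card_congr (MonoidHom.ofInjective hφ).toEquiv, hG, Nat.card_perm, Nat.card_fin] at h
      rw [show Nat.factorial 5 = 120 by rfl] at h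
      omega
    exact ⟨(MonoidHom.ofInjective hφ).trans (MulEquiv.subgroupCongr (Equiv.Perm.eq_alternatingGroup_of_index_eq_two hidx))⟩
  · have hne' : ∀ y, IsConj x y → ¬ (S : Subgroup G) ≤ centralizer ({y} : Set G) := fun y hy hle => by
      obtain ⟨h, rfl⟩ := isConj_iff.mp hy
      let f : ↥(S : Subgroup G) → V := fun c => ⟨h⁻¹ * (c : G) * h, by
        have hc := mem_centralizer_singleton_iff.mp (hle c.2)
        rw [hVdef, mem_centralizer_singleton_iff]
        calc h⁻¹ * c * h * x = h⁻¹ * (c * (h * x * h⁻¹)) * h := by group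
          _ = x * (h⁻¹ * c * h) := by rw [hc]; group⟩
      have hf : Function.Injective f := fun c d e => Subtype.ext (by
        have := congrArg Subtype.val e
        simpa [f] using this)
      exact hSV (Subgroup.eq_of_le_of_card_ge hVS (Nat.card_le_card_of_injective f hf)).symm
    obtain ⟨w, hwS, hw, hwc⟩ : ∃ w ∈ (S : Subgroup G), orderOf w = 2 ∧ ∀ s ∈ (S : Subgroup G), s * w = w * s := by
      haveI : Nontrivial (S : Subgroup G) := (nontrivial_iff_exists_ne_one _).mpr ⟨x, hVS hxV, ne_one hx⟩
      haveI := S.isPGroup'.center_nontrivial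
      obtain ⟨k, hk, hk'⟩ := (S.isPGroup'.to_subgroup (center (S : Subgroup G))).nontrivial_iff_card.mp inferInstance
      obtain ⟨z, hz⟩ := exists_prime_orderOf_dvd_card' (G := center (S : Subgroup G)) 2 (hk' ▸ dvd_pow_self 2 hk.ne')
      refine ⟨((z : (S : Subgroup G)) : G), (z : (S : Subgroup G)).2, ?_, fun s hs =>
        congrArg Subtype.val (mem_center_iff.mp z.2 ⟨s, hs⟩)⟩
      rw [orderOf_coe, orderOf_coe, hz]
    have hwV : w ∈ V := mem_centralizer_singleton_iff.mpr (hwc x (hVS hxV)).symm
    have hwx : ¬ IsConj x w := fun h => hne' w h fun s hs => mem_centralizer_singleton_iff.mpr (hwc s hs)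
    have hwne : w ≠ x := fun h => hwx (h ▸ IsConj.refl _)
    have hxw : x * w = w * x := hwc x (hVS hxV)
    obtain ⟨g, hgS, hgN, hgV⟩ : ∃ g ∈ (S : Subgroup G), g ∈ normalizer (V : Set G) ∧ g ∉ V := by
      haveI : Group.IsNilpotent (S : Subgroup G) := S.isPGroup'.isNilpotent
      have hlt : V.subgroupOf S < ⊤ := lt_top_iff_ne_top.mpr fun h =>
        hSV (le_antisymm (subgroupOf_eq_top.mp h) hVS)
      obtain ⟨⟨g, hgS⟩, hgN, hgV⟩ := SetLike.exists_of_lt (normalizerCondition_of_isNilpotent _ hlt)
      refine ⟨g, hgS, mem_normalizer_fintype fun v hv => ?_, fun h => hgV h⟩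
      exact (mem_normalizer_iff.mp hgN ⟨v, hVS hv⟩).mp hv
    have hgx : g * x * g⁻¹ = x * w := by
      have hm : g * x * g⁻¹ ∈ V := (mem_normalizer_iff.mp hgN x).mp hxV
      rcases klein_mem_cases hxV hwV (ne_one hx) (ne_one hw) hwne.symm hm
        (fun h => ne_one hx (conj_eq_one_iff.mp h)) with h | h | h
      · exact absurd (mem_centralizer_singleton_iff.mpr (mul_inv_eq_iff_eq_mul.mp h)) hgV
      · exact absurd (isConj_iff.mpr ⟨g, h⟩) hwx
      · exact h
    have hkey : ∀ q : G, IsConj w q → q * w = w * q := fun q hq => by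
      have hq2 : orderOf q = 2 := by
        obtain ⟨h, rfl⟩ := isConj_iff.mp hq
        rw [orderOf_conj_eq, hw]
      have heven : Even (orderOf (x * q)) := by
        rw [← Nat.not_odd_iff_even]
        exact fun ho => hwx ((isConj_of_odd hx hq2 ho).trans hq.symm)
      obtain ⟨hu2, hux, huq⟩ := central_involution hx hq2 heven
      generalize (x * q) ^ (orderOf (x * q) / 2) = u at hu2 hux huq
      rcases klein_mem_cases hxV hwV (ne_one hx) (ne_one hw) hwne.symm
        (mem_centralizer_singleton_iff.mpr hux.eq) (ne_one hu2) with rfl | rfl | rfl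
      · exact klein_comm (mem_centralizer_singleton_iff.mpr huq.eq.symm) hwV
      · exact huq.eq.symm
      · refine klein_comm ?_ hwV
        have h1 : g⁻¹ * q * g ∈ V := by
          rw [hVdef, mem_centralizer_singleton_iff]
          have h2 := huq.eq
          rw [← hgx] at h2
          calc g⁻¹ * q * g * x = g⁻¹ * (q * (g * x * g⁻¹)) * g := by group
            _ = x * (g⁻¹ * q * g) := by rw [← h2]; group
        have := (mem_normalizer_iff.mp hgN _).mp h1
        simpa [mul_assoc] using this
    set E := normalClosure ({w} : Set G) with hEdef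
    have hpair : ∀ p q : G, IsConj w p → IsConj w q → q * p = p * q := fun p q hp hq => by
      obtain ⟨h, rfl⟩ := isConj_iff.mp hp
      have := hkey (h⁻¹ * q * h) (hq.trans (isConj_iff.mpr ⟨h⁻¹, by group⟩))
      calc q * (h * w * h⁻¹) = h * (h⁻¹ * q * h * w) * h⁻¹ := by group
        _ = h * w * h⁻¹ * q := by rw [this]; group
    have hgen : ∀ p ∈ Group.conjugatesOfSet ({w} : Set G), IsConj w p := fun p hp => by
      obtain ⟨a, ha, hap⟩ := Group.mem_conjugatesOfSet_iff.mp hp
      rw [Set.mem_singleton_iff] at ha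
      exact ha ▸ hap
    have hEcomm : ∀ a ∈ E, ∀ b ∈ E, a * b = b * a := by
      have h1 : E ≤ centralizer (Group.conjugatesOfSet ({w} : Set G)) := (closure_le _).mpr
        fun p hp => mem_centralizer_iff.mpr fun q hq => hpair p q (hgen p hp) (hgen q hq)
      have h2 : E ≤ centralizer (E : Set G) := (closure_le _).mpr fun p hp =>
        mem_centralizer_iff.mpr fun q hq => (mem_centralizer_iff.mp (h1 hq) p hp).symm
      exact fun a ha b hb => mem_centralizer_iff.mp (h2 hb) a ha
    have hE2 : ∀ a ∈ E, a ^ 2 = 1 := by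
      intro a ha
      induction ha using closure_induction with
      | mem p hp =>
        obtain ⟨h, rfl⟩ := isConj_iff.mp (hgen p hp)
        rw [← orderOf_dvd_iff_pow_eq_one, orderOf_conj_eq, hw]
      | one => simp
      | mul a b ha hb iha ihb =>
        rw [(show Commute a b from hEcomm a ha b hb).mul_pow, iha, ihb, mul_one]
      | inv a _ iha => rw [inv_pow, iha, inv_one]
    have hEn : E.Normal := normalClosure_normal
    have hwE : w ∈ E := subset_normalClosure rfl
    have hEA : Cfsg.IsElementaryAbelian 2 E :=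
      ⟨⟨⟨fun a b => Subtype.ext (hEcomm a a.2 b b.2)⟩⟩, hE2⟩
    have hEp : IsPGroup 2 E := fun a => ⟨1, Subtype.ext (by simpa using hE2 a a.2)⟩
    obtain ⟨k, hk⟩ := hEp.exists_card_eq
    have hk0 : k ≠ 0 := fun h => ne_one hw (by
      have := Subgroup.eq_bot_of_card_eq E (show Nat.card E = 1 by rw [hk, h, pow_zero])
      rw [this] at hwE
      exact hwE)
    have hle : Nat.card E ≤ 4 := by
      by_cases hxE : x ∈ E
      · exact hC4 ▸ card_le_of_le fun e he => mem_centralizer_singleton_iff.mpr (hEcomm e he x hxE)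
      · have hcase : ∀ e ∈ E, e * x = x * e → e = 1 ∨ e = w := fun e he hec => by
          by_cases he1 : e = 1
          · exact Or.inl he1
          rcases klein_mem_cases hxV hwV (ne_one hx) (ne_one hw) hwne.symm
            (mem_centralizer_singleton_iff.mpr hec) he1 with rfl | rfl | rfl
          · exact absurd he hxE
          · exact Or.inr rfl
          · exact absurd ((E.mul_mem_cancel_right hwE).mp he) hxE
        let f : E →* G := MonoidHom.mk' (fun e => x * e * x⁻¹ * e) fun a b => by
          have ha : x * (b : G) * x⁻¹ * a = a * (x * (b : G) * x⁻¹) :=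
            hEcomm _ (hEn.conj_mem b b.2 x) a a.2
          simp only [coe_mul]
          calc x * ((a : G) * b) * x⁻¹ * (a * b)
              = x * (a : G) * x⁻¹ * (x * (b : G) * x⁻¹ * a) * b := by group
            _ = _ := by rw [ha]; group
        have hker : Nat.card (f.ker.map E.subtype) ≤ 2 := two_mem (b := w) fun a ha => by
          obtain ⟨e, he, rfl⟩ := mem_map.mp ha
          refine hcase e e.2 ?_
          have h1 : x * (e : G) * x⁻¹ * e = 1 := he
          have h2 : (e : G)⁻¹ = e := inv_eq_of_mul_eq_one_right (by rw [← pow_two]; exact hE2 e e.2)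
          rw [mul_eq_one_iff_eq_inv, h2, mul_inv_eq_iff_eq_mul] at h1
          exact h1.symm
        have hran : Nat.card f.range ≤ 2 := two_mem (b := w) fun a ha => by
          obtain ⟨e, rfl⟩ := ha
          refine hcase _ (E.mul_mem (hEn.conj_mem e e.2 x) e.2) ?_
          have hxi : x⁻¹ = x := inv_eq_self hx
          show x * e * x⁻¹ * e * x = x * (x * e * x⁻¹ * e)
          have hc := hEcomm _ (hEn.conj_mem e e.2 x) e e.2
          rw [hc]
          rw [hxi] at *
          calc (e : G) * (x * e * x) * x = e * x * e * (x * x) := by group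
            _ = x * x * e * x * e := by rw [inv_mul_self hx]; group
            _ = x * (x * e * x * e) := by group
            _ = _ := by rw [hc]
        rw [Subgroup.card_map_of_injective E.subtype_injective] at hker
        rw [← f.ker.card_mul_index, Subgroup.index_ker]
        exact (Nat.mul_le_mul hker hran).trans le_rfl
    have := hne E hEn hEA
    have hk2 : k ≤ 2 := by
      by_contra h3
      have : 2 ^ 3 ≤ 2 ^ k := Nat.pow_le_pow_right (by norm_num) (by omega)
      omega
    interval_cases k <;> omega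

end Cfsg.Agent.S3277
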