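import Cfsg.Statements.S0948
import Cfsg.Agent.Lib.Block.KleinStructure

set_option autoImplicit false
open Cfsg

namespace Cfsg.Agent.S0948

/-- Let the finite group G have a Sylow 2-subgroup P that is a Klein four-group, suppose all involutions of G are conjugate, and fix a maximal ideal M of the algebraic integers containing 2. Then the principal block consists of exactly four irreducible characters, the principal character and ζ₂, ζ₃, ζ₄, and there is a sign ε such that for every involution z: ζ₂ z = 1, ζ₃ z = ε, ζ₄ z = -1; moreover ζ₂ 1 ≡ 1, ζ₃ 1 ≡ ε, ζ₄ 1 ≡ -1 (mod 4), and 1 + ζ₂ y + ε ζ₃ y - ζ₄ y = 0 for every y of odd order. -/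
theorem result {G : Type*} [Group G] [Finite G] (M : Ideal Cfsg.AlgInt) (hM : Cfsg.IsPModular 2 M) (P : Sylow 2 G) (hP : IsKleinFour (P : Subgroup G)) (hone : ∀ s t : G, orderOf s = 2 → orderOf t = 2 → IsConj s t) : ∃ ζ₂ ζ₃ ζ₄ : Cfsg.IrrCharacter G, ∃ ε : ℤ, (ε = 1 ∨ ε = -1) ∧ (ζ₂ : G → ℂ) ≠ (fun _ => 1) ∧ (ζ₃ : G → ℂ) ≠ (fun _ => 1) ∧ ζ₂ ≠ ζ₃ ∧ ζ₂ ≠ ζ₄ ∧ ζ₃ ≠ ζ₄ ∧ Cfsg.principalBlock M G = {χ : Cfsg.IrrCharacter G | (χ : G → ℂ) = (fun _ => 1) ∨ χ = ζ₂ ∨ χ = ζ₃ ∨ χ = ζ₄} ∧ (∀ z : G, orderOf z = 2 → (ζ₂ : G → ℂ) z = 1 ∧ (ζ₃ : G → ℂ) z = (ε : ℂ) ∧ (ζ₄ : G → ℂ) z = -1) ∧ (4 : ℤ) ∣ (Cfsg.charDegree (ζ₂ : G → ℂ) : ℤ) - 1 ∧ (4 : ℤ) ∣ (Cfsg.charDegree (ζ₃ : G → ℂ) : ℤ) - ε ∧ (4 : ℤ) ∣ (Cfsg.charDegree (ζ₄ : G → ℂ) : ℤ) + 1 ∧ ∀ y : G, Odd (orderOf y) → 1 + (ζ₂ : G → ℂ) y + (ε : ℂ) * (ζ₃ : G → ℂ) y - (ζ₄ : G → ℂ) y = 0 := by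
  classical
  haveI := Fintype.ofFinite G
  have hK : Lib.Block.KleinCond P :=
    ⟨hP.card_four, fun x hx => congrArg Subtype.val (IsKleinFour.mul_self (⟨x, hx⟩ : (P : Subgroup G))),
      hone⟩
  obtain ⟨z, -, hz⟩ := hK.exists_involution
  obtain ⟨a, b, c, ha0, hb0, hc0, hab, hac, hbc, sa, sc, sb, hset⟩ :=
    Lib.Block.klein_exists_three hM hK hz
  obtain ⟨ε, hεv, hε⟩ : ∃ ε : ℤ, (b : G → ℂ) z = ε ∧ (ε = 1 ∨ ε = -1) := by
    rcases sb with h | h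
    · exact ⟨1, by simp [h], Or.inl rfl⟩
    · exact ⟨-1, by simp [h], Or.inr rfl⟩
  have htriv : ∀ χ : IrrCharacter G, (χ : G → ℂ) = (fun _ => 1) ↔ χ = Lib.Block.trivChar G :=
    fun χ => ⟨fun h => Subtype.ext h, fun h => by rw [h]; rfl⟩
  refine ⟨a, b, c, ε, hε, fun h => ha0 ((htriv a).1 h), fun h => hb0 ((htriv b).1 h), hab, hac,
    hbc, ?_, ?_, ?_, ?_, ?_, ?_⟩
  · rw [hset]
    ext χ
    simp [htriv]
  · intro t ht
    obtain ⟨g, hg⟩ := isConj_iff.1 (hone t z ht hz)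
    have hv : ∀ χ : IrrCharacter G, (χ : G → ℂ) t = (χ : G → ℂ) z := fun χ => by
      rw [← hg, χ.2.isClassFunction t g]
    exact ⟨by rw [hv, sa], by rw [hv, hεv], by rw [hv, sc]⟩
  · have := Lib.Block.klein_degree_congr hM hK hz a (ε := 1) (by simp [sa])
    omega
  · have := Lib.Block.klein_degree_congr hM hK hz b hεv
    omega
  · have := Lib.Block.klein_degree_congr hM hK hz c (ε := -1) (by simp [sc])
    omega
  · intro y hy
    have hr := Lib.Block.klein_relation hM hK hz (y := y)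
      (show ¬ 2 ∣ orderOf y from fun h => Nat.not_even_iff_odd.2 hy (even_iff_two_dvd.2 h))
    have hB : (principalBlock M G).toFinset = {Lib.Block.trivChar G, a, b, c} := by
      apply Finset.coe_injective
      rw [Set.coe_toFinset, hset]
      simp
    rw [hB, Finset.sum_insert (by simp [ha0.symm, hb0.symm, hc0.symm]),
      Finset.sum_insert (by simp [hab, hac]), Finset.sum_pair hbc, sa, sc, hεv] at hr
    simp only [Lib.Block.trivChar_coe, one_mul] at hr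
    linear_combination hr

end Cfsg.Agent.S0948
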