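import Cfsg.Statements.S4479
import Cfsg.Agent.Lib.Block.KleinData

set_option autoImplicit false
open Cfsg

namespace Cfsg.Agent.S4479

/-- An order formula from the principal 2-block. Let G be a finite group of order 4·g₀ with g₀ odd having no normal 2-complement (no normal subgroup of order g₀); let P be a Sylow 2-subgroup, J an involution of P, and fix a maximal ideal M of the algebraic integers containing 2. Suppose the principal 2-block consists of the principal character and three further distinct characters χ₁, χ₂, χ₃ of degrees x₁, x₂, x₃, with χ_i(J) = ε_i = ±1. Then, writing c(J) and c(P) for the orders of the centralizers of J and of P, the order of G equals 8·α·c(J)³/c(P)² with α = x₁x₂x₃ / ((x₁ + ε₁)(x₂ + ε₂)(x₃ + ε₃)). -/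
theorem result {G : Type*} [Group G] [Finite G] (M : Ideal Cfsg.AlgInt) (hM : Cfsg.IsPModular 2 M) (g₀ : ℕ) (hg₀ : Odd g₀) (hG : Nat.card G = 4 * g₀) (hnc : ¬ ∃ N : Subgroup G, N.Normal ∧ Nat.card N = g₀) (P : Sylow 2 G) (J : G) (hJ : J ∈ (P : Subgroup G)) (hJ2 : orderOf J = 2) (χ₁ χ₂ χ₃ : Cfsg.IrrCharacter G) (ε₁ ε₂ ε₃ : ℤ) (hB : Cfsg.principalBlock M G = {χ : Cfsg.IrrCharacter G | (χ : G → ℂ) = (fun _ => 1) ∨ χ = χ₁ ∨ χ = χ₂ ∨ χ = χ₃}) (hdist : (χ₁ : G → ℂ) ≠ (fun _ => 1) ∧ (χ₂ : G → ℂ) ≠ (fun _ => 1) ∧ (χ₃ : G → ℂ) ≠ (fun _ => 1) ∧ χ₁ ≠ χ₂ ∧ χ₁ ≠ χ₃ ∧ χ₂ ≠ χ₃) (hε : (ε₁ = 1 ∨ ε₁ = -1) ∧ (ε₂ = 1 ∨ ε₂ = -1) ∧ (ε₃ = 1 ∨ ε₃ = -1)) (hval : (χ₁ : G → ℂ) J = ε₁ ∧ (χ₂ : G → ℂ) J = ε₂ ∧ (χ₃ : G → ℂ) J = ε₃) : (Nat.card G : ℚ) = 8 * (((Cfsg.charDegree (χ₁ : G → ℂ) : ℚ) * Cfsg.charDegree (χ₂ : G → ℂ) * Cfsg.charDegree (χ₃ : G → ℂ)) / ((Cfsg.charDegree (χ₁ : G → ℂ)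 + ε₁) * (Cfsg.charDegree (χ₂ : G → ℂ) + ε₂) * (Cfsg.charDegree (χ₃ : G → ℂ) + ε₃))) * (Nat.card (Subgroup.centralizer ({J} : Set G)) : ℚ) ^ 3 / (Nat.card (Subgroup.centralizer ((P : Subgroup G) : Set G)) : ℚ) ^ 2 := by
  classical
  haveI := Fintype.ofFinite G
  have hK : Lib.Block.KleinCond P := Lib.Block.kleinCond_of_no_complement hg₀ hG hnc
  have h := Lib.Block.klein_order_rat hM hK hJ hJ2 hB hdist hval
  have hr := Lib.Block.klein_degree_relation hM hK hJ2 hB hdist hval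
  have hp : ∀ χ : IrrCharacter G, (0 : ℚ) < (Cfsg.charDegree (χ : G → ℂ) : ℚ) := fun χ =>
    Nat.cast_pos.2 (Lib.Block.charDegree_pos χ)
  have hsq : ∀ e : ℤ, (e = 1 ∨ e = -1) → ((e : ℚ) * e = 1) := fun e he => by
    rcases he with rfl | rfl <;> norm_num
  have ha := Lib.Block.klein_alpha (hp χ₁).ne' (hp χ₂).ne' (hp χ₃).ne' (hsq _ hε.1) (hsq _ hε.2.1)
    (hsq _ hε.2.2) hr
  have hP0 : (Nat.card (Subgroup.centralizer ((P : Subgroup G) : Set G)) : ℚ) ≠ 0 :=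
    Nat.cast_ne_zero.2 Nat.card_pos.ne'
  have hJ0 : (Nat.card (Subgroup.centralizer ({J} : Set G)) : ℚ) ≠ 0 :=
    Nat.cast_ne_zero.2 Nat.card_pos.ne'
  have hS : (1 + (ε₁ : ℚ) / Cfsg.charDegree (χ₁ : G → ℂ) + (ε₂ : ℚ) / Cfsg.charDegree (χ₂ : G → ℂ) +
      (ε₃ : ℚ) / Cfsg.charDegree (χ₃ : G → ℂ)) ≠ 0 := fun h0 => by
    rw [h0, mul_zero, zero_mul, eq_comm, mul_eq_zero, pow_eq_zero_iff (by norm_num)] at h
    rcases h with h | h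
    · norm_num at h
    · exact hJ0 h
  have hx := mul_ne_zero (mul_ne_zero (hp χ₁).ne' (hp χ₂).ne') (hp χ₃).ne'
  rw [ha, div_mul_eq_div_div, div_self hx, mul_div_assoc', div_mul_eq_mul_div, div_div, mul_one,
    eq_div_iff (mul_ne_zero hS (pow_ne_zero 2 hP0))]
  linear_combination h

end Cfsg.Agent.S4479
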