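import Cfsg.Statements.S4480
import Cfsg.Agent.Lib.Block.KleinReal

set_option autoImplicit false
open Cfsg

namespace Cfsg.Agent.S4480

/-- Same setting as the Klein-four order formula: G of order 4·g₀ (g₀ odd) with no normal 2-complement, P a Sylow 2-subgroup, J an involution of P, M over 2, principal 2-block {1, χ₁, χ₂, χ₃} with χ_i(J) = ε_i = ±1. Suppose ε₁ε₂ε₃ = −1 and ε₃ = −1, and put q = x₃ = χ₃(1). Then there is a natural number m with 4·c(J) = m·c(P)·(q + 1), and the order of G equals (m³·c(P)/4)·(q³ − q)/2, that is 8·#G = m³·c(P)·(q³ − q). -/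
theorem result {G : Type*} [Group G] [Finite G] (M : Ideal Cfsg.AlgInt) (hM : Cfsg.IsPModular 2 M) (g₀ : ℕ) (hg₀ : Odd g₀) (hG : Nat.card G = 4 * g₀) (hnc : ¬ ∃ N : Subgroup G, N.Normal ∧ Nat.card N = g₀) (P : Sylow 2 G) (J : G) (hJ : J ∈ (P : Subgroup G)) (hJ2 : orderOf J = 2) (χ₁ χ₂ χ₃ : Cfsg.IrrCharacter G) (ε₁ ε₂ ε₃ : ℤ) (hB : Cfsg.principalBlock M G = {χ : Cfsg.IrrCharacter G | (χ : G → ℂ) = (fun _ => 1) ∨ χ = χ₁ ∨ χ = χ₂ ∨ χ = χ₃}) (hdist : (χ₁ : G → ℂ) ≠ (fun _ => 1) ∧ (χ₂ : G → ℂ) ≠ (fun _ => 1) ∧ (χ₃ : G → ℂ) ≠ (fun _ => 1) ∧ χ₁ ≠ χ₂ ∧ χ₁ ≠ χ₃ ∧ χ₂ ≠ χ₃) (hε : (ε₁ = 1 ∨ ε₁ = -1) ∧ (ε₂ = 1 ∨ ε₂ = -1) ∧ (ε₃ = 1 ∨ ε₃ = -1)) (hval : (χ₁ : G → ℂ) J = ε₁ ∧ (χ₂ : G → ℂ) J = ε₂ ∧ (χ₃ : G → ℂ) J = ε₃) (hprod : ε₁ * ε₂ * ε₃ = -1) (hε₃ : ε₃ = -1) : ∃ m : ℕ, 4 * Nat.card (Subgroup.centralizer ({J} : Set G)) = m * Nat.card (Subgroup.centralizer ((P : Subgroup G) : Set G))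 * (Cfsg.charDegree (χ₃ : G → ℂ) + 1) ∧ 8 * Nat.card G = m ^ 3 * Nat.card (Subgroup.centralizer ((P : Subgroup G) : Set G)) * (Cfsg.charDegree (χ₃ : G → ℂ) ^ 3 - Cfsg.charDegree (χ₃ : G → ℂ)) := by
  classical
  haveI := Fintype.ofFinite G
  have hK : Lib.Block.KleinCond P := Lib.Block.kleinCond_of_no_complement hg₀ hG hnc
  have h := Lib.Block.klein_order_rat hM hK hJ hJ2 hB hdist hval
  have hr := Lib.Block.klein_degree_relation hM hK hJ2 hB hdist hval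
  subst hε₃
  obtain ⟨v₁, v₂, v₃⟩ := hval
  have hp : ∀ χ : IrrCharacter G, 0 < Cfsg.charDegree (χ : G → ℂ) := fun χ =>
    Lib.Block.charDegree_pos χ
  have hboth : ε₁ = 1 ∧ ε₂ = 1 := by
    rcases hε.1 with rfl | rfl <;> rcases hε.2.1 with rfl | rfl <;>
      first | exact ⟨rfl, rfl⟩ | (norm_num at hprod; done) | skip
    exfalso
    have h1 : (1 : ℚ) ≤ (Cfsg.charDegree (χ₁ : G → ℂ) : ℚ) := Nat.one_le_cast.2 (hp χ₁)
    have h2 : (1 : ℚ) ≤ (Cfsg.charDegree (χ₂ : G → ℂ) : ℚ) := Nat.one_le_cast.2 (hp χ₂)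
    have h3 : (1 : ℚ) ≤ (Cfsg.charDegree (χ₃ : G → ℂ) : ℚ) := Nat.one_le_cast.2 (hp χ₃)
    push_cast at hr
    linarith
  obtain ⟨rfl, rfl⟩ := hboth
  have heq := Lib.Block.klein_degree_eq hM hK hJ2 hB hdist (by simpa using v₁) (by simpa using v₂)
    (by simpa using v₃)
  obtain ⟨hd, hhd⟩ : Nat.card (Subgroup.centralizer ((P : Subgroup G) : Set G)) ∣
      Nat.card (Subgroup.centralizer ({J} : Set G)) :=
    Subgroup.card_dvd_of_le (Subgroup.centralizer_le (Set.singleton_subset_iff.2 hJ))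
  obtain ⟨j, hj⟩ := Lib.Char.exists_int_of_isIntegral_rat
    (q := ((Subgroup.centralizer ({J} : Set G)).index : ℚ) /
      (Cfsg.charDegree (χ₁ : G → ℂ) : ℚ))
    (by
      have hi := Lib.Block.isIntegral_centralChar_irr χ₁ J
      rw [Cfsg.centralChar, v₁, Lib.Block.apply_one_eq_charDegree] at hi
      push_cast at hi ⊢
      simpa using hi)
  set cP := Nat.card (Subgroup.centralizer ((P : Subgroup G) : Set G)) with hcP
  set cJ := Nat.card (Subgroup.centralizer ({J} : Set G)) with hcJ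
  set x := Cfsg.charDegree (χ₁ : G → ℂ) with hx
  set q := Cfsg.charDegree (χ₃ : G → ℂ) with hq
  rw [← heq] at h hr
  push_cast at h hr
  have hqx : q = 2 * x + 1 := by
    have : (q : ℚ) = ((2 * x + 1 : ℕ) : ℚ) := by push_cast; linarith
    exact_mod_cast this
  have hidx : (Subgroup.centralizer ({J} : Set G)).index * cJ = Nat.card G := by
    rw [hcJ]; exact Subgroup.index_mul_card _
  have hx0 : (x : ℚ) ≠ 0 := Nat.cast_ne_zero.2 (hp χ₁).ne'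
  have hq0 : (q : ℚ) ≠ 0 := Nat.cast_ne_zero.2 (hp χ₃).ne'
  have hq' : (q : ℚ) = 2 * x + 1 := by rw [hqx]; push_cast; ring
  -- the order formula
  have hmain : (Nat.card G : ℚ) * ((q : ℚ) + 1) ^ 2 =
      8 * (hd : ℚ) ^ 3 * cP * (q * (q - 1)) := by
    have e : (1 + 1 / (x : ℚ) + 1 / (x : ℚ) + (-1) / (q : ℚ)) * (q * (q - 1)) = ((q : ℚ) + 1) ^ 2 := by
      rw [hq'] at hq0 ⊢
      field_simp
      ring
    rw [← e]
    have hcP0 : (cP : ℚ) ^ 2 ≠ 0 := pow_ne_zero 2 (Nat.cast_ne_zero.2 Nat.card_pos.ne')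
    apply mul_right_cancel₀ hcP0
    have hd' : (cJ : ℚ) = cP * hd := by exact_mod_cast hhd
    rw [hd'] at h
    linear_combination ((q : ℚ) * (q - 1)) * h
  have hdiv : ((q : ℤ) + 1) ^ 2 ∣ (4 * (hd : ℤ)) ^ 2 := by
    have hcop : IsCoprime (((q : ℤ) + 1) ^ 2) (q : ℤ) :=
      IsCoprime.pow_left ⟨1, -1, by ring⟩
    refine hcop.dvd_of_dvd_mul_right ⟨j, ?_⟩
    have hjx : ((Subgroup.centralizer ({J} : Set G)).index : ℚ) = j * x := by
      rw [← hj]; field_simp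
    have hcJ0 : (cJ : ℚ) ≠ 0 := Nat.cast_ne_zero.2 Nat.card_pos.ne'
    have hG' : ((Subgroup.centralizer ({J} : Set G)).index : ℚ) * cJ = Nat.card G := by
      exact_mod_cast hidx
    have hd' : (cJ : ℚ) = cP * hd := by exact_mod_cast hhd
    have : (4 * (hd : ℚ)) ^ 2 * q = ((q : ℚ) + 1) ^ 2 * j := by
      apply mul_left_cancel₀ (mul_ne_zero hx0 hcJ0)
      rw [← hG', hjx] at hmain
      have e2 : (q : ℚ) - 1 = 2 * x := by rw [hq']; ring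
      rw [e2] at hmain
      linear_combination -hmain + (16 * (hd : ℚ) ^ 2 * q * x) * hd'
    exact_mod_cast this
  have h4 : q + 1 ∣ 4 * hd := by
    have := (Int.pow_dvd_pow_iff two_ne_zero).1 hdiv
    exact_mod_cast this
  obtain ⟨m, hm⟩ := h4
  refine ⟨m, by rw [hhd, mul_left_comm, hm]; ring, ?_⟩
  have hq3 : q ≤ q ^ 3 := Nat.le_self_pow three_ne_zero q
  have hgoal : (8 * (Nat.card G : ℚ)) = (m : ℚ) ^ 3 * cP * ((q : ℚ) ^ 3 - q) := by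
    have hm' : 4 * (hd : ℚ) = ((q : ℚ) + 1) * m := by exact_mod_cast hm
    have hne : ((q : ℚ) + 1) ^ 2 ≠ 0 := by positivity
    apply mul_right_cancel₀ hne
    have e : ((4 : ℚ) * hd) ^ 3 = (((q : ℚ) + 1) * m) ^ 3 := by rw [hm']
    linear_combination 8 * hmain + (cP : ℚ) * ((q : ℚ) * (q - 1)) * e
  rw [← Nat.cast_pow, ← Nat.cast_pow, ← Nat.cast_sub hq3] at hgoal
  exact_mod_cast hgoal

end Cfsg.Agent.S4480
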