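import Cfsg.Statements.S3278
import Cfsg.Agent.S0111
import Cfsg.Agent.S0948
import Cfsg.Agent.S4479
import Cfsg.Agent.S4480
import Cfsg.Agent.Lib.Invol.KleinFour
import Cfsg.Agent.Lib.Block.Basic


set_option autoImplicit false
open Cfsg

namespace Cfsg.Agent.S3278

open Subgroup

universe u

/-- A p-group with cyclic abelianisation is abelian. -/
theorem comm_of_cyclic {P : Type u} [Group P] [Finite P] (hP : IsPGroup 2 P)
    [IsCyclic (P ⧸ commutator P)] (a b : P) : a * b = b * a := by
  haveI : Fact (Nat.Prime 2) := ⟨Nat.prime_two⟩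
  obtain ⟨q, hq⟩ := IsCyclic.exists_generator (α := P ⧸ commutator P)
  obtain ⟨g, rfl⟩ := QuotientGroup.mk'_surjective (commutator P) q
  have htop : zpowers g = ⊤ := frattini_nongenerating (eq_top_iff.mpr fun y _ => by
    obtain ⟨k, hk⟩ := Subgroup.mem_zpowers_iff.mp (hq (QuotientGroup.mk' _ y))
    rw [← map_zpow] at hk
    have h1 : (g ^ k)⁻¹ * y ∈ frattini P :=
      Cfsg.Lib.PGroup.commutator_le_frattini hP (QuotientGroup.eq.mp hk)
    simpa using Subgroup.mul_mem_sup (zpow_mem (Subgroup.mem_zpowers g) k) h1)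
  obtain ⟨i, rfl⟩ := Subgroup.mem_zpowers_iff.mp (htop ▸ mem_top a)
  obtain ⟨j, rfl⟩ := Subgroup.mem_zpowers_iff.mp (htop ▸ mem_top b)
  exact ((Commute.refl g).zpow_zpow i j).eq

/-- In a 2-group of order at least 8, an involution with a centraliser of order 4 avoids a maximal
subgroup all whose involutions have larger centralisers. -/
theorem exists_maximal {P : Type u} [Group P] [Finite P] (hP : IsPGroup 2 P) (h8 : 8 ≤ Nat.card P)
    {x : P} (hx : x ≠ 1) (hx2 : x * x = 1) (hC : Nat.card (centralizer ({x} : Set P)) = 4) :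
    ∃ M : Subgroup P, M.index = 2 ∧ x ∉ M ∧
      ∀ w ∈ M, w ≠ 1 → w * w = 1 → 8 ∣ Nat.card (centralizer ({w} : Set P)) := by
  classical
  haveI : Fact (Nat.Prime 2) := ⟨Nat.prime_two⟩
  haveI : Nontrivial P := ⟨⟨x, 1, hx⟩⟩
  set D := commutator P with hD
  have hclass : ∀ w : P, Nat.card {v : P // IsConj w v} * Nat.card (centralizer ({w} : Set P)) = Nat.card P := by
    intro w
    rw [show {v : P // IsConj w v} = ↥(MulAction.orbit (ConjAct P) w) by
      congr 1
      funext v
      refine propext ?_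
      show _ ↔ v ∈ MulAction.orbit (ConjAct P) w
      rw [ConjAct.mem_orbit_conjAct, isConj_comm]]
    rw [Nat.card_coe_set_eq, ← MulAction.index_stabilizer, ConjAct.stabilizer_eq_centralizer]
    exact Subgroup.index_mul_card _
  have hsub : ∀ w v : P, IsConj w v → w⁻¹ * v ∈ D := by
    intro w v h
    obtain ⟨g, rfl⟩ := isConj_iff.mp h
    have h1 := Subgroup.commutator_mem_commutator (Subgroup.mem_top w⁻¹) (Subgroup.mem_top g)
    rw [commutatorElement_def, inv_inv, ← commutator_def] at h1
    simpa [mul_assoc] using h1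
  have hnoncyc : ¬ IsCyclic (P ⧸ D) := fun hcyc => by
    have hT : centralizer ({x} : Set P) = ⊤ := eq_top_iff.mpr fun g _ =>
      mem_centralizer_singleton_iff.mpr (comm_of_cyclic hP g x)
    rw [hT, Subgroup.card_top] at hC
    omega
  have hDi : 4 ≤ D.index := by
    by_contra hlt
    push Not at hlt
    haveI hcyc : IsCyclic (P ⧸ D) := by
      obtain ⟨k, hk⟩ := IsPGroup.iff_card.mp (hP.to_quotient D)
      have hidx : D.index = 2 ^ k := hk
      rcases Nat.lt_or_ge k 2 with hk2 | hk2
      · interval_cases k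
        · haveI : Subsingleton (P ⧸ D) := (Nat.card_eq_one_iff_unique.mp hk).1
          infer_instance
        · exact isCyclic_of_prime_card (p := 2) hk
      · have : 2 ^ 2 ≤ 2 ^ k := Nat.pow_le_pow_right (by norm_num) hk2
        omega
    exact hnoncyc hcyc
  have hspec : ∀ w : P, w ≠ 1 → w * w = 1 → Nat.card (centralizer ({w} : Set P)) = 4 →
      D.index = 4 ∧ w ∉ D ∧ ∀ d ∈ D, IsConj w (w * d) := by
    intro w hw hww hCw
    let f : {v : P // IsConj w v} → D := fun v => ⟨w⁻¹ * v.1, hsub w v.1 v.2⟩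
    have hf : Function.Injective f := fun a b e =>
      Subtype.ext (mul_left_cancel (congrArg Subtype.val e : w⁻¹ * a.1 = w⁻¹ * b.1))
    have h1 := hclass w
    rw [hCw] at h1
    have h2 := Nat.card_le_card_of_injective f hf
    have h3 := D.card_mul_index
    have hidx : D.index = 4 := by
      have h4 : Nat.card D * D.index ≤ Nat.card D * 4 := by rw [h3, ← h1]; omega
      have := Nat.le_of_mul_le_mul_left h4 Nat.card_pos
      omega
    have hcard : Nat.card {v : P // IsConj w v} = Nat.card D := by rw [hidx] at h3; omega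
    have hbij := hf.bijective_of_nat_card_le hcard.ge
    have hall : ∀ d ∈ D, IsConj w (w * d) := fun d hd => by
      obtain ⟨v, hv⟩ := hbij.2 ⟨d, hd⟩
      have : w⁻¹ * v.1 = d := congrArg Subtype.val hv
      rw [← this, mul_inv_cancel_left]
      exact v.2
    refine ⟨hidx, fun hwD => hw ?_, hall⟩
    have h5 := hall w⁻¹ (inv_mem hwD)
    rw [mul_inv_cancel, isConj_one_left] at h5
    exact h5
  have hinv : ∀ w : P, w ≠ 1 → w * w = 1 → Nat.card (centralizer ({w} : Set P)) = 4 →
      ∀ d ∈ D, w * d * (w * d) = 1 := by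
    intro w hw hww hCw d hd
    obtain ⟨g, hg⟩ := isConj_iff.mp ((hspec w hw hww hCw).2.2 d hd)
    rw [← hg]
    calc g * w * g⁻¹ * (g * w * g⁻¹) = g * (w * w) * g⁻¹ := by group
      _ = 1 := by rw [hww]; group
  obtain ⟨hidx, hxD, -⟩ := hspec x hx hx2 hC
  let π : P →* P ⧸ D := QuotientGroup.mk' D
  let Special : P ⧸ D → Prop := fun q =>
    ∃ w : P, w ≠ 1 ∧ w * w = 1 ∧ Nat.card (centralizer ({w} : Set P)) = 4 ∧ π w = q
  obtain ⟨m, hm1, hms⟩ : ∃ m : P ⧸ D, m ≠ 1 ∧ ¬ Special m := by
    by_contra hall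
    push Not at hall
    have hex : ∀ d : P, d * d = 1 := by
      have hout : ∀ y : P, y ∉ D → y * y = 1 := by
        intro y hy
        obtain ⟨w, hw, hww, hCw, hwy⟩ := hall (π y) (fun e => hy ((QuotientGroup.eq_one_iff y).mp e))
        have := hinv w hw hww hCw (w⁻¹ * y) (QuotientGroup.eq.mp hwy)
        simpa using this
      intro d
      by_cases hd : d ∈ D
      · obtain ⟨y, hy1, hyx⟩ : ∃ y : P, y ∉ D ∧ x⁻¹ * y ∉ D := by
          by_contra hc
          push Not at hc
          have hsub2 : ∀ q : P ⧸ D, q = 1 ∨ q = π x := fun q => by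
            obtain ⟨y, rfl⟩ := QuotientGroup.mk'_surjective D q
            by_cases hy : y ∈ D
            · exact Or.inl ((QuotientGroup.eq_one_iff y).mpr hy)
            · exact Or.inr (QuotientGroup.eq.mpr (hc y hy)).symm
          have h2 : Nat.card (P ⧸ D) ≤ 2 := by
            haveI := Fintype.ofFinite (P ⧸ D)
            rw [Nat.card_eq_fintype_card, ← Finset.card_univ]
            exact (Finset.card_le_card (t := {1, π x}) fun q _ => by simpa using hsub2 q).trans Finset.card_le_two
          have : D.index ≤ 2 := h2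
          omega
        -- `x`, `y` and `x * y` all invert `D`
        have e1 := hout x hxD
        have e2 := hout y hy1
        have e3 := hout (x * y) (fun h => hyx (by rwa [inv_eq_of_mul_eq_one_right e1]))
        have f1 := hout (x * d) (fun h => hxD (by simpa using mul_mem h (inv_mem hd)))
        have f2 := hout (y * d) (fun h => hy1 (by simpa using mul_mem h (inv_mem hd)))
        have f3 := hout (x * y * d) (fun h => hyx (by
          rw [inv_eq_of_mul_eq_one_right e1]; simpa using mul_mem h (inv_mem hd)))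
        have g1 : x * d * x = d⁻¹ := eq_inv_of_mul_eq_one_left (by simpa [mul_assoc] using f1)
        have g2 : y * d * y = d⁻¹ := eq_inv_of_mul_eq_one_left (by simpa [mul_assoc] using f2)
        have g3 : x * y * d * (x * y) = d⁻¹ := eq_inv_of_mul_eq_one_left (by simpa [mul_assoc] using f3)
        have xi : x⁻¹ = x := inv_eq_of_mul_eq_one_right e1
        have yi : y⁻¹ = y := inv_eq_of_mul_eq_one_right e2
        have hyx' : x * y = y * x := by
          calc x * y = (x * y)⁻¹ := (inv_eq_of_mul_eq_one_right e3).symm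
            _ = y * x := by rw [mul_inv_rev, xi, yi]
        have h5 : d⁻¹ = d := by
          calc d⁻¹ = x * y * d * (x * y) := g3.symm
            _ = x * (y * d * y) * x := by
              conv_lhs => arg 2; rw [hyx']
              group
            _ = x * d⁻¹ * x := by rw [g2]
            _ = (x⁻¹ * d * x⁻¹)⁻¹ := by group
            _ = d := by rw [xi, g1, inv_inv]
        calc d * d = d * d⁻¹ := by rw [h5]
          _ = 1 := mul_inv_cancel d
      · exact hout d hd
    have hcomm : ∀ a b : P, a * b = b * a := fun a b => by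
      calc a * b = (a * b)⁻¹ := (inv_eq_of_mul_eq_one_right (hex _)).symm
        _ = b * a := by
          rw [mul_inv_rev, inv_eq_of_mul_eq_one_right (hex b), inv_eq_of_mul_eq_one_right (hex a)]
    have : centralizer ({x} : Set P) = ⊤ := eq_top_iff.mpr fun g _ =>
      mem_centralizer_singleton_iff.mpr (hcomm g x)
    rw [this, Subgroup.card_top] at hC
    omega
  have hc : Nat.card (P ⧸ D) = 4 := hidx
  have hmm : orderOf m = 2 := by
    have hd4 : orderOf m ∣ 2 ^ 2 := by
      have := orderOf_dvd_natCard m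
      rwa [hc] at this
    obtain ⟨j, hj, hj'⟩ := (Nat.dvd_prime_pow Nat.prime_two).mp hd4
    interval_cases j
    · exact absurd (orderOf_eq_one_iff.mp hj') hm1
    · exact hj'
    · exact absurd (isCyclic_of_orderOf_eq_card m (by rw [hj', hc]; norm_num)) hnoncyc
  have hzm : ∀ q ∈ zpowers m, q = 1 ∨ q = m := by
    intro q hq
    obtain ⟨i, rfl⟩ := Subgroup.mem_zpowers_iff.mp hq
    rcases Int.even_or_odd i with ⟨k, rfl⟩ | ⟨k, rfl⟩ <;>
      simp [zpow_add, ← two_mul, zpow_mul, show m ^ (2 : ℤ) = 1 by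
        rw [zpow_ofNat, ← hmm, pow_orderOf_eq_one]]
  refine ⟨(zpowers m).comap π, ?_, ?_, ?_⟩
  · rw [Subgroup.index_comap_of_surjective _ (QuotientGroup.mk'_surjective D)]
    have h1 := (zpowers m).card_mul_index
    rw [Nat.card_zpowers, hmm, hc] at h1
    omega
  · intro hxm
    refine hms ?_
    rcases hzm (π x) hxm with h | h
    · exact absurd ((QuotientGroup.eq_one_iff x).mp h) hxD
    · exact ⟨x, hx, hx2, hC, h⟩
  · intro w hwm hw hww
    obtain ⟨k, hk⟩ := IsPGroup.iff_card.mp (hP.to_subgroup (centralizer ({w} : Set P)))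
    rw [hk]
    by_contra hlt
    have hk3 : k ≤ 2 := by
      by_contra h
      exact hlt (pow_dvd_pow 2 (show 3 ≤ k by omega))
    have hC4 : Nat.card (centralizer ({w} : Set P)) = 4 := by
      by_contra h4
      have hle2 : Nat.card (centralizer ({w} : Set P)) ≤ 2 := by
        rw [hk] at h4 ⊢
        interval_cases k <;> simp_all
      have hz : zpowers w = centralizer ({w} : Set P) :=
        Subgroup.eq_of_le_of_card_ge (zpowers_le.mpr (mem_centralizer_singleton_iff.mpr rfl))
          (by rw [Nat.card_zpowers, orderOf_eq_prime (by rw [pow_two, hww]) hw]; exact hle2)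
      haveI := hP.center_nontrivial
      obtain ⟨⟨z, hzc⟩, hz1⟩ := exists_ne (1 : Subgroup.center P)
      have hzw : z ∈ zpowers w := hz ▸ mem_centralizer_singleton_iff.mpr
        (Subgroup.mem_center_iff.mp hzc w).symm
      obtain ⟨i, hi⟩ := Subgroup.mem_zpowers_iff.mp hzw
      have hzw' : z = 1 ∨ z = w := by
        rw [← hi]
        rcases Int.even_or_odd i with ⟨j, rfl⟩ | ⟨j, rfl⟩ <;>
          simp [zpow_add, ← two_mul, zpow_mul, show w ^ (2 : ℤ) = 1 by rw [zpow_ofNat, pow_two, hww]]
      rcases hzw' with rfl | rfl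
      · exact hz1 rfl
      · have : centralizer ({z} : Set P) = ⊤ := eq_top_iff.mpr fun g _ =>
          mem_centralizer_singleton_iff.mpr (Subgroup.mem_center_iff.mp hzc g)
        rw [this, Subgroup.card_top] at hle2
        omega
    rcases hzm (π w) hwm with h | h
    · exact (hspec w hw hww hC4).2.1 ((QuotientGroup.eq_one_iff w).mp h)
    · exact hms ⟨w, hw, hww, hC4, h⟩

theorem injective_toPerm {G : Type u} [Group G] [IsSimpleGroup G] {H : Subgroup G} (hH : H ≠ ⊤) :
    Function.Injective (MulAction.toPermHom G (G ⧸ H)) := by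
  rw [← MonoidHom.ker_eq_bot_iff]
  rcases (MulAction.toPermHom G (G ⧸ H)).normal_ker.eq_bot_or_eq_top with h | h
  · exact h
  · exfalso
    refine hH (eq_top_iff.mpr fun g _ => ?_)
    have h1 : MulAction.toPermHom G (G ⧸ H) g = 1 := MonoidHom.mem_ker.mp (h ▸ mem_top g)
    have h2 : (g • QuotientGroup.mk 1 : G ⧸ H) = QuotientGroup.mk 1 :=
      Equiv.ext_iff.mp h1 (QuotientGroup.mk 1)
    rw [MulAction.Quotient.smul_mk, smul_eq_mul, mul_one] at h2
    simpa using inv_mem (QuotientGroup.eq.mp h2)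

/-- Let G be a finite simple group with an involution x such that a Sylow 2-subgroup of C_G(x) is a Klein four-group which is normal in C_G(x). Then G is isomorphic to the alternating group of degree 5 (that is, to PSL(2, 5)). -/
theorem result {G : Type*} [Group G] [Finite G] [IsSimpleGroup G] (x : G) (hx : orderOf x = 2)
    (S₀ : Subgroup G) (hle : S₀ ≤ Subgroup.centralizer ({x} : Set G)) (hK : IsKleinFour ↥S₀)
    (hodd : ¬ 2 ∣ S₀.relIndex (Subgroup.centralizer ({x} : Set G))) (hn : (S₀.subgroupOf (Subgroup.centralizer ({x} : Set G))).Normal) :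
    Nonempty (G ≃* ↥(alternatingGroup (Fin 5))) := by
  classical
  haveI : Fact (Nat.Prime 2) := ⟨Nat.prime_two⟩
  have hx1 : x ≠ 1 := fun e => by rw [e, orderOf_one] at hx; omega
  have hxx : x * x = 1 := by rw [← pow_two, ← hx, pow_orderOf_eq_one]
  set C := centralizer ({x} : Set G) with hC
  haveI := hn
  haveI := hK
  have hS4 : Nat.card S₀ = 4 := IsKleinFour.card_four
  -- odd powers land in `S₀`
  have hpow : ∀ c ∈ C, c ^ S₀.relIndex C ∈ S₀ := fun c hc => by
    have := Subgroup.pow_index_mem (S₀.subgroupOf C) ⟨c, hc⟩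
    exact this
  have hoddm : Odd (S₀.relIndex C) := Nat.not_even_iff_odd.mp fun h => hodd h.two_dvd
  have h2mem : ∀ c ∈ C, ∀ k : ℕ, c ^ 2 ^ k = 1 → c ∈ S₀ := by
    intro c hc k hk
    obtain ⟨j, hj⟩ : ∃ j, c = (c ^ S₀.relIndex C) ^ j := by
      obtain ⟨j, hj⟩ := exists_pow_eq_self_of_coprime (x := c) (n := S₀.relIndex C)
        (((Nat.coprime_two_right.mpr hoddm).pow_right k).coprime_dvd_right (orderOf_dvd_of_pow_eq_one hk))
      exact ⟨j, hj.symm⟩
    rw [hj]
    exact pow_mem (hpow c hc) j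
  have hxC : x ∈ C := mem_centralizer_singleton_iff.mpr rfl
  have hxS : x ∈ S₀ := h2mem x hxC 1 (by rw [pow_one, pow_two, hxx])
  obtain ⟨S, hS⟩ := (IsPGroup.of_card (n := 2) (by rw [hS4]; norm_num) : IsPGroup 2 S₀).exists_le_sylow
  have hCS : (S : Subgroup G) ⊓ C ≤ S₀ := by
    rintro c ⟨hcS, hcC⟩
    obtain ⟨k, hk⟩ := S.2 ⟨c, hcS⟩
    exact h2mem c hcC k (by simpa using congrArg Subtype.val hk)
  have hna : ∀ N : Subgroup G, N.Normal → N.index ≠ 2 := by
    intro N hN hidx
    rcases hN.eq_bot_or_eq_top with h | h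
    · rw [h, index_bot] at hidx
      have := Subgroup.card_subgroup_dvd_card S₀
      rw [hS4, hidx] at this
      omega
    · rw [h, index_top] at hidx; omega
  -- `S₀` is a Sylow subgroup
  have hSeq : (S : Subgroup G) = S₀ := by
    by_contra hne
    have h8 : 8 ≤ Nat.card (S : Subgroup G) := by
      obtain ⟨k, hk⟩ := IsPGroup.iff_card.mp S.2
      have h4 : 4 ≤ Nat.card (S : Subgroup G) := hS4 ▸ Subgroup.card_le_of_le hS
      have h4' : Nat.card (S : Subgroup G) ≠ 4 := fun e => hne (Subgroup.eq_of_le_of_card_ge hS (by omega)).symm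
      rw [hk] at h4 h4' ⊢
      have : 3 ≤ k := by
        by_contra hlt
        interval_cases k <;> simp_all
      calc 8 = 2 ^ 3 := rfl
        _ ≤ 2 ^ k := Nat.pow_le_pow_right (by norm_num) this
    have hxS' : x ∈ (S : Subgroup G) := hS hxS
    have hcen : (centralizer ({⟨x, hxS'⟩} : Set (S : Subgroup G))).map (S : Subgroup G).subtype =
        S₀ := by
      ext w
      constructor
      · rintro ⟨v, hv, rfl⟩
        exact hCS ⟨v.2, mem_centralizer_singleton_iff.mpr
          (congrArg Subtype.val (mem_centralizer_singleton_iff.mp hv))⟩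
      · intro hw
        exact ⟨⟨w, hS hw⟩, mem_centralizer_singleton_iff.mpr (Subtype.ext
          (mem_centralizer_singleton_iff.mp (hle hw))), rfl⟩
    have hC4 : Nat.card (centralizer ({⟨x, hxS'⟩} : Set (S : Subgroup G))) = 4 := by
      rw [← hS4, ← hcen]
      exact (Nat.card_congr (Subgroup.equivMapOfInjective _ _ (Subgroup.subtype_injective _)).toEquiv)
    obtain ⟨M, hM2, hxM, hMw⟩ := exists_maximal S.2 h8 (x := ⟨x, hxS'⟩)
      (fun e => hx1 (congrArg Subtype.val e)) (Subtype.ext hxx) hC4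
    rcases Cfsg.Agent.S0111.result S (M.map (S : Subgroup G).subtype) (map_subtype_le M)
      (by rw [Subgroup.relIndex, Subgroup.subgroupOf, comap_map_eq_self_of_injective (Subgroup.subtype_injective _), hM2]) x hx hxS'
      (by rintro ⟨v, hv, hve⟩; exact hxM (by rwa [show (⟨x, hxS'⟩ : (S : Subgroup G)) = v from Subtype.ext hve.symm]))
      with ⟨N, hN, hNi, -⟩ | ⟨g, w, hw, hwe⟩
    · exact hna N hN hNi
    · have hwg : (w : G) = g * x * g⁻¹ := hwe
      have h8d := hMw w hw (fun e => hx1 (by
        have : (1 : G) = g * x * g⁻¹ := by rw [← hwg, e]; rfl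
        exact conj_eq_one_iff.mp this.symm)) (Subtype.ext (by
        show (w : G) * w = 1
        rw [hwg]
        calc g * x * g⁻¹ * (g * x * g⁻¹) = g * (x * x) * g⁻¹ := by group
          _ = 1 := by rw [hxx]; group))
      let φ : centralizer ({w} : Set (S : Subgroup G)) → C := fun v =>
        ⟨g⁻¹ * ((v : (S : Subgroup G)) : G) * g, mem_centralizer_singleton_iff.mpr (by
          have hv : ((v : (S : Subgroup G)) : G) * w = w * ((v : (S : Subgroup G)) : G) :=
            congrArg Subtype.val (mem_centralizer_singleton_iff.mp v.2)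
          rw [hwg] at hv
          calc g⁻¹ * ((v : (S : Subgroup G)) : G) * g * x
              = g⁻¹ * (((v : (S : Subgroup G)) : G) * (g * x * g⁻¹)) * g := by group
            _ = g⁻¹ * (g * x * g⁻¹ * ((v : (S : Subgroup G)) : G)) * g := by rw [hv]
            _ = _ := by group)⟩
      let φh : centralizer ({w} : Set (S : Subgroup G)) →* C := MonoidHom.mk' φ fun a b => Subtype.ext (by
        show g⁻¹ * ((a * b : centralizer ({w} : Set (S : Subgroup G))) : (S : Subgroup G)) * g =
          g⁻¹ * ((a : (S : Subgroup G)) : G) * g * (g⁻¹ * ((b : (S : Subgroup G)) : G) * g)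
        simp only [Subgroup.coe_mul]
        group)
      have hinj : Function.Injective φh := fun a b e => Subtype.ext (Subtype.ext
        (mul_left_cancel (mul_right_cancel (congrArg Subtype.val e :))))
      have h8C : 8 ∣ Nat.card C := h8d.trans (Subgroup.card_dvd_of_injective φh hinj)
      rw [← Subgroup.card_mul_index (S₀.subgroupOf C),
        Nat.card_congr (Subgroup.subgroupOfEquivOfLe hle).toEquiv, hS4] at h8C
      obtain ⟨j, hj⟩ := hoddm
      rw [show (S₀.subgroupOf C).index = S₀.relIndex C from rfl, hj] at h8C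
      omega
  haveI hKS : IsKleinFour (S : Subgroup G) := hSeq ▸ hK
  -- all involutions are conjugate
  have hnc : ¬ normalizer ((S : Subgroup G) : Set G) ≤ centralizer ((S : Subgroup G) : Set G) := by
    intro h
    have hc := MonoidHom.ker_transferSylow_isComplement' S h
    rcases (inferInstance : (MonoidHom.transferSylow S h).ker.Normal).eq_bot_or_eq_top with h1 | h1
    · rw [h1, isComplement'_bot_left] at hc
      have hnorm : (S₀ : Subgroup G) = ⊤ := hSeq ▸ hc
      haveI : IsMulCommutative G := ⟨⟨fun a b => by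
        haveI := IsKleinFour.isMulCommutative (G := S₀)
        exact congrArg Subtype.val (this.is_comm.comm ⟨a, hnorm ▸ mem_top a⟩ ⟨b, hnorm ▸ mem_top b⟩)⟩⟩
      rcases (inferInstance : (zpowers x).Normal).eq_bot_or_eq_top with h2 | h2
      · exact hx1 (zpowers_eq_bot.mp h2)
      · have := Nat.card_zpowers x
        rw [h2, Subgroup.card_top, hx] at this
        rw [hnorm, Subgroup.card_top] at hS4
        omega
    · rw [h1, isComplement'_top_left] at hc
      rw [hSeq] at hc
      rw [hc, Subgroup.card_bot] at hS4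
      omega
  have hone : ∀ s t : G, orderOf s = 2 → orderOf t = 2 → IsConj s t := by
    rcases Cfsg.Lib.Invol.klein_class_count S with ⟨h, -⟩ | ⟨-, h⟩
    · exact absurd h hnc
    · intro s t hs ht
      obtain ⟨hsub, -⟩ := Nat.card_eq_one_iff_unique.mp h
      exact ConjClasses.mk_eq_mk_iff_isConj.mp (congrArg Subtype.val
        (hsub.elim ⟨ConjClasses.mk s, s, hs, rfl⟩ ⟨ConjClasses.mk t, t, ht, rfl⟩))
  -- the two centralisers agree
  set CS := centralizer ((S : Subgroup G) : Set G) with hCSdef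
  have hCC : CS = C := by
    refine le_antisymm (fun c hc => mem_centralizer_singleton_iff.mpr
      ((mem_centralizer_iff.mp hc x (hS hxS)).symm)) fun c hc => mem_centralizer_iff.mpr ?_
    intro y hy
    have hy0 : y ∈ S₀ := hSeq ▸ hy
    by_cases hy1 : y = 1
    · rw [hy1, one_mul, mul_one]
    by_cases hyx : y = x
    · rw [hyx]; exact (mem_centralizer_singleton_iff.mp hc).symm
    have hconjS : ∀ k ∈ C, ∀ w ∈ S₀, k * w * k⁻¹ ∈ S₀ := fun k hk w hw =>
      ((inferInstance : (S₀.subgroupOf C).Normal).conj_mem ⟨w, hle hw⟩ hw ⟨k, hk⟩ :)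
    have hcx : c * x * c⁻¹ = x := mul_inv_eq_iff_eq_mul.mpr (mem_centralizer_singleton_iff.mp hc)
    have hcases : ∀ k ∈ C, k * y * k⁻¹ = y ∨ k * y * k⁻¹ = x * y := by
      intro k hk
      have hkx : k * x * k⁻¹ = x := mul_inv_eq_iff_eq_mul.mpr (mem_centralizer_singleton_iff.mp hk)
      rcases Cfsg.Lib.Invol.klein_mem_cases hxS hy0 hx1 hy1 (Ne.symm hyx) (hconjS k hk y hy0)
        (fun e => hy1 (conj_eq_one_iff.mp e)) with h | h | h
      · exact absurd (mul_left_cancel (mul_right_cancel (h.trans hkx.symm))) hyx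
      · exact Or.inl h
      · exact Or.inr h
    rcases hcases c hc with h | h
    · exact (mul_inv_eq_iff_eq_mul.mp h).symm
    · exfalso
      have h2 : c * (x * y) * c⁻¹ = y := by
        calc c * (x * y) * c⁻¹ = (c * x * c⁻¹) * (c * y * c⁻¹) := by group
          _ = x * (x * y) := by rw [hcx, h]
          _ = y := by rw [← mul_assoc, hxx, one_mul]
      have heven : ∀ j : ℕ, c ^ (2 * j) * y * (c ^ (2 * j))⁻¹ = y := by
        intro j
        induction j with
        | zero => simp
        | succ j ih =>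
          calc c ^ (2 * (j + 1)) * y * (c ^ (2 * (j + 1)))⁻¹
              = c * (c * (c ^ (2 * j) * y * (c ^ (2 * j))⁻¹) * c⁻¹) * c⁻¹ := by
                rw [show 2 * (j + 1) = (2 * j + 1) + 1 by ring, pow_succ', pow_succ']; group
            _ = y := by rw [ih, h, h2]
      obtain ⟨j, hj⟩ := hoddm
      have h3 := hpow c hc
      rw [hj, pow_succ'] at h3
      have h4 : c * c ^ (2 * j) * y * (c * c ^ (2 * j))⁻¹ = y := by
        rw [Cfsg.Lib.Invol.klein_comm h3 hy0, mul_inv_cancel_right]
      have h5 : c * c ^ (2 * j) * y * (c * c ^ (2 * j))⁻¹ = x * y := by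
        calc c * c ^ (2 * j) * y * (c * c ^ (2 * j))⁻¹
            = c * (c ^ (2 * j) * y * (c ^ (2 * j))⁻¹) * c⁻¹ := by group
          _ = x * y := by rw [heven, h]
      exact hx1 (mul_right_cancel ((h5.symm.trans h4).trans (one_mul y).symm))
  -- the order
  have hG4 : Nat.card G = 4 * (S : Subgroup G).index := by
    rw [← Subgroup.card_mul_index (S : Subgroup G), hSeq, hS4]
  have hg₀ : Odd (S : Subgroup G).index := Nat.not_even_iff_odd.mp fun h =>
    (Sylow.not_dvd_index S) h.two_dvd
  have hnc' : ¬ ∃ N : Subgroup G, N.Normal ∧ Nat.card N = (S : Subgroup G).index := by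
    rintro ⟨N, hN, hNc⟩
    rcases hN.eq_bot_or_eq_top with h | h
    · rw [h, Subgroup.card_bot] at hNc
      refine hnc fun n _ => mem_centralizer_iff.mpr fun w hw => ?_
      have hn' : n ∈ (S : Subgroup G) := (Subgroup.index_eq_one.mp hNc.symm) ▸ mem_top n
      exact Cfsg.Lib.Invol.klein_comm hw hn'
    · rw [h, Subgroup.card_top, hG4] at hNc
      obtain ⟨j, hj⟩ := hg₀
      omega
  obtain ⟨M, hM⟩ := Cfsg.Lib.Block.exists_isPModular Nat.prime_two
  obtain ⟨ζ₂, ζ₃, ζ₄, ε, hε, h2, h3, h23, h24, h34, hB, hval, hd2, hd3, hd4, hrel⟩ :=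
    Cfsg.Agent.S0948.result M hM S hKS hone
  have h4 : (ζ₄ : G → ℂ) ≠ fun _ => 1 := fun e => by
    have := (hval x hx).2.2
    rw [e] at this
    norm_num at this
  obtain ⟨hv2, hv3, hv4⟩ := hval x hx
  have hdeg : ∀ ζ : Cfsg.IrrCharacter G, (ζ : G → ℂ) 1 = Cfsg.charDegree (ζ : G → ℂ) ∧
      0 < Cfsg.charDegree (ζ : G → ℂ) := fun ζ => by
    obtain ⟨d, hd, hd1⟩ := ζ.2.exists_degree
    rw [Cfsg.Lib.Block.charDegree_eq_of_apply_one hd1]
    exact ⟨hd1, hd⟩
  set x₁ := Cfsg.charDegree (ζ₂ : G → ℂ)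
  set x₂ := Cfsg.charDegree (ζ₃ : G → ℂ)
  set x₃ := Cfsg.charDegree (ζ₄ : G → ℂ)
  have hsum : (1 : ℤ) + x₁ + ε * x₂ - x₃ = 0 := by
    have := hrel 1 (by rw [orderOf_one]; exact odd_one)
    rw [(hdeg ζ₂).1, (hdeg ζ₃).1, (hdeg ζ₄).1] at this
    exact_mod_cast this
  have hcpos : 0 < Nat.card C := Nat.card_pos
  have hne : C ≠ ⊤ := fun h => hnc fun n _ => (hCC.trans h).symm ▸ mem_top n
  rcases hε with rfl | rfl
  · exfalso
    obtain ⟨m, hm, hm'⟩ := Cfsg.Agent.S4480.result M hM _ hg₀ hG4 hnc' S x (hS hxS) hx ζ₂ ζ₃ ζ₄ 1 1 (-1)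
      hB ⟨h2, h3, h4, h23, h24, h34⟩ ⟨Or.inl rfl, Or.inl rfl, Or.inr rfl⟩
      ⟨by rw [hv2]; norm_num, by rw [hv3], by rw [hv4]; norm_num⟩ (by norm_num) rfl
    rw [show centralizer ((S : Subgroup G) : Set G) = C from hCC] at hm hm'
    change 4 * Nat.card C = m * Nat.card C * (x₃ + 1) at hm
    change 8 * Nat.card G = m ^ 3 * Nat.card C * (x₃ ^ 3 - x₃) at hm'
    have h41 : m * (x₃ + 1) = 4 := Nat.eq_of_mul_eq_mul_right hcpos (by rw [hm]; ring)
    have hx3 : x₃ = 3 := by
      have : x₃ + 1 ≤ 4 := Nat.le_of_dvd (by norm_num) ⟨m, by rw [← h41]; ring⟩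
      have h0 := (hdeg ζ₄).2
      omega
    rw [hx3] at h41 hm'
    have hm1 : m = 1 := by omega
    rw [hm1] at hm'
    norm_num at hm'
    have hidx : C.index = 3 := by
      have := Subgroup.card_mul_index C
      exact Nat.eq_of_mul_eq_mul_left hcpos (by omega)
    have hinj := injective_toPerm hne
    have h6 := Subgroup.card_dvd_of_injective _ hinj
    rw [Nat.card_perm, show Nat.card (G ⧸ C) = 3 from hidx, hG4] at h6
    have : 4 ∣ Nat.factorial 3 := dvd_of_mul_right_dvd h6
    norm_num [Nat.factorial] at this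
  · have hform := Cfsg.Agent.S4479.result M hM _ hg₀ hG4 hnc' S x (hS hxS) hx ζ₂ ζ₃ ζ₄ 1 (-1) (-1)
      hB ⟨h2, h3, h4, h23, h24, h34⟩ ⟨Or.inl rfl, Or.inr rfl, Or.inr rfl⟩
      ⟨by rw [hv2]; norm_num, by rw [hv3], by rw [hv4]; norm_num⟩
    rw [show centralizer ((S : Subgroup G) : Set G) = C from hCC] at hform
    have hx2le : 3 ≤ x₂ := by
      have h0 := (hdeg ζ₃).2
      omega
    have hx3le : 3 ≤ x₃ := by
      have h0 := (hdeg ζ₄).2
      omega
    have hlt : Nat.card G < 18 * Nat.card C := by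
      change (Nat.card G : ℚ) = 8 * (((x₁ : ℚ) * x₂ * x₃) / (((x₁ : ℚ) + (1 : ℤ)) * ((x₂ : ℚ) + (-1 : ℤ)) * ((x₃ : ℚ) + (-1 : ℤ)))) * (Nat.card C : ℚ) ^ 3 / (Nat.card C : ℚ) ^ 2 at hform
      have hc0 : (0 : ℚ) < Nat.card C := by exact_mod_cast hcpos
      have a1 : (0 : ℚ) < x₁ := by exact_mod_cast (hdeg ζ₂).2
      have a2 : (3 : ℚ) ≤ x₂ := by exact_mod_cast hx2le
      have a3 : (3 : ℚ) ≤ x₃ := by exact_mod_cast hx3le
      have hα : ((x₁ : ℚ) * x₂ * x₃) / (((x₁ : ℚ) + (1 : ℤ)) * ((x₂ : ℚ) + (-1 : ℤ)) * ((x₃ : ℚ) + (-1 : ℤ))) < 9 / 4 := by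
        push_cast
        have hd0 : (0 : ℚ) < ((x₁ : ℚ) + 1) * ((x₂ : ℚ) + -1) * ((x₃ : ℚ) + -1) :=
          mul_pos (mul_pos (by linarith) (by linarith)) (by linarith)
        rw [div_lt_div_iff₀ hd0 (by norm_num)]
        have b1 : 2 * (x₂ : ℚ) ≤ 3 * ((x₂ : ℚ) + -1) := by linarith
        have b2 : 2 * (x₃ : ℚ) ≤ 3 * ((x₃ : ℚ) + -1) := by linarith
        have b3 := mul_le_mul b1 b2 (by linarith) (by linarith)
        nlinarith [mul_le_mul_of_nonneg_left b3 a1.le, mul_pos (show (0:ℚ) < (x₂ : ℚ) + -1 by linarith) (show (0:ℚ) < (x₃ : ℚ) + -1 by linarith)]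
      have : (Nat.card G : ℚ) < 18 * Nat.card C := by
        rw [hform, show ((Nat.card C : ℚ) ^ 3) = (Nat.card C : ℚ) * (Nat.card C : ℚ) ^ 2 by ring,
          ← mul_assoc, mul_div_assoc, div_self (by positivity), mul_one]
        nlinarith
      exact_mod_cast this
    set N := normalizer ((S : Subgroup G) : Set G) with hN
    have hCN : C ≤ N := hCC ▸ centralizer_le_normalizer _
    -- `N / C` has order three
    have hmemS : ∀ n : N, (n : G) * x * (n : G)⁻¹ ∈ (S : Subgroup G) := fun n =>
      (mem_normalizer_iff.mp n.2 x).mp (hS hxS)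
    have hNC : Nat.card N = 3 * Nat.card C := by
      haveI := Fintype.ofFinite N
      haveI := Fintype.ofFinite C
      haveI := Fintype.ofFinite (S : Subgroup G)
      have h3 : ((Finset.univ : Finset N).image fun n => (⟨_, hmemS n⟩ : (S : Subgroup G))) =
          (Finset.univ : Finset (S : Subgroup G)).erase 1 := by
        ext w
        simp only [Finset.mem_image, Finset.mem_univ, true_and, Finset.mem_erase, and_true]
        constructor
        · rintro ⟨n, rfl⟩ e
          exact hx1 (conj_eq_one_iff.mp (congrArg Subtype.val e))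
        · intro hw
          haveI : IsMulCommutative (S : Subgroup G) := IsKleinFour.isMulCommutative
          have hw2 : orderOf (w : G) = 2 := orderOf_eq_prime
            (by rw [pow_two, Cfsg.Lib.Invol.klein_mul_self w.2]) (fun e => hw (Subtype.ext e))
          obtain ⟨g, hg⟩ := isConj_iff.mp (hone x w hx hw2)
          obtain ⟨n, hn', he⟩ := Cfsg.Lib.Fusion.exists_normalizer_conj_of_abelian S (hS hxS) (hg.symm ▸ w.2)
          exact ⟨⟨n, hn'⟩, Subtype.ext (he.trans hg)⟩
      have hfib : ∀ w ∈ ((Finset.univ : Finset N).image fun n => (⟨_, hmemS n⟩ : (S : Subgroup G))),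
          ((Finset.univ : Finset N).filter fun n => (⟨_, hmemS n⟩ : (S : Subgroup G)) = w).card = Nat.card C := by
        intro w hw
        obtain ⟨n₀, -, rfl⟩ := Finset.mem_image.mp hw
        rw [Nat.card_eq_fintype_card, ← Finset.card_univ (α := C)]
        refine (Finset.card_bij (fun (k : C) _ => n₀ * ⟨(k : G), hCN k.2⟩) ?_ ?_ ?_).symm
        · intro k _
          refine Finset.mem_filter.mpr ⟨Finset.mem_univ _, Subtype.ext ?_⟩
          show (n₀ : G) * k * x * ((n₀ : G) * k)⁻¹ = (n₀ : G) * x * (n₀ : G)⁻¹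
          calc (n₀ : G) * k * x * ((n₀ : G) * k)⁻¹ = (n₀ : G) * ((k : G) * x * (k : G)⁻¹) * (n₀ : G)⁻¹ := by group
            _ = _ := by rw [mem_centralizer_singleton_iff.mp k.2, mul_inv_cancel_right]
        · intro k _ k' _ e
          exact Subtype.ext (congrArg Subtype.val (mul_left_cancel e) :)
        · intro n hn'
          have e : (n : G) * x * (n : G)⁻¹ = (n₀ : G) * x * (n₀ : G)⁻¹ :=
            congrArg Subtype.val (Finset.mem_filter.mp hn').2
          refine ⟨⟨(n₀ : G)⁻¹ * n, mem_centralizer_singleton_iff.mpr (mul_inv_eq_iff_eq_mul.mp ?_)⟩,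
            Finset.mem_univ _, Subtype.ext (mul_inv_cancel_left _ _)⟩
          calc (n₀ : G)⁻¹ * n * x * ((n₀ : G)⁻¹ * n)⁻¹
              = (n₀ : G)⁻¹ * ((n : G) * x * (n : G)⁻¹) * n₀ := by group
            _ = x := by rw [e]; group
      rw [Nat.card_eq_fintype_card (α := N), ← Finset.card_univ,
        Finset.card_eq_sum_card_image (fun n => (⟨_, hmemS n⟩ : (S : Subgroup G))) Finset.univ,
        Finset.sum_congr rfl hfib, Finset.sum_const, smul_eq_mul, h3,
        Finset.card_erase_of_mem (Finset.mem_univ _), Finset.card_univ, ← Nat.card_eq_fintype_card,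
        hSeq, hS4]
    have hNi : N.index < 6 := by
      rw [← Subgroup.card_mul_index N, hNC] at hlt
      by_contra hge
      push Not at hge
      have : 3 * Nat.card C * 6 ≤ 3 * Nat.card C * N.index := Nat.mul_le_mul_left _ hge
      omega
    have hNtop : N ≠ ⊤ := fun h => by
      rcases (normalizer_eq_top_iff.mp h).eq_bot_or_eq_top with h1 | h1
      · rw [hSeq] at h1
        rw [h1, Subgroup.card_bot] at hS4
        omega
      · exact hnc fun n _ => mem_centralizer_iff.mpr fun w hw =>
          Cfsg.Lib.Invol.klein_comm hw (h1 ▸ mem_top n)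
    have hNodd : Odd N.index := Nat.not_even_iff_odd.mp fun he => Sylow.not_dvd_index S
      (he.two_dvd.trans (Subgroup.index_dvd_of_le le_normalizer))
    have hN1 : N.index ≠ 1 := fun h => hNtop (Subgroup.index_eq_one.mp h)
    have hinj := injective_toPerm hNtop
    have hdvd := Subgroup.card_dvd_of_injective _ hinj
    rw [Nat.card_perm, show Nat.card (G ⧸ N) = N.index from rfl] at hdvd
    have hGN : Nat.card G = 3 * Nat.card C * N.index := by rw [← hNC, Subgroup.card_mul_index]
    have h4C : 4 ∣ Nat.card C := hS4 ▸ Subgroup.card_dvd_of_le hle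
    have h5 : N.index = 5 := by
      rcases (show N.index = 3 ∨ N.index = 5 by obtain ⟨j, hj⟩ := hNodd; omega) with h | h
      · exfalso
        rw [h, hGN, h] at hdvd
        have h6 := Nat.le_of_dvd (Nat.factorial_pos 3) hdvd
        obtain ⟨j, hj⟩ := h4C
        norm_num [Nat.factorial] at h6
        omega
      · exact h
    haveI := Fintype.ofFinite (G ⧸ N)
    have hcard5 : Fintype.card (G ⧸ N) = 5 := by rw [← Nat.card_eq_fintype_card]; exact h5
    let e : (G ⧸ N) ≃ Fin 5 := (Fintype.equivFinOfCardEq hcard5)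
    let π : G →* Equiv.Perm (Fin 5) := e.permCongrHom.toMonoidHom.comp (MulAction.toPermHom G (G ⧸ N))
    have hπ : Function.Injective π := e.permCongrHom.injective.comp hinj
    have heven : ∀ g, π g ∈ alternatingGroup (Fin 5) := by
      intro g
      rw [Equiv.Perm.mem_alternatingGroup]
      have hk : (Equiv.Perm.sign.comp π).ker = ⊤ := by
        rcases (Equiv.Perm.sign.comp π).normal_ker.eq_bot_or_eq_top with h | h
        · exfalso
          have h1 := Subgroup.card_dvd_of_injective _ ((MonoidHom.ker_eq_bot_iff _).mp h)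
          rw [Nat.card_eq_fintype_card (α := ℤˣ), Fintype.card_units_int] at h1
          have := Nat.le_of_dvd two_pos h1
          rw [hGN, h5] at this
          omega
        · exact h
      exact MonoidHom.mem_ker.mp (hk ▸ mem_top g : g ∈ (Equiv.Perm.sign.comp π).ker)
    let ψ : G →* alternatingGroup (Fin 5) := π.codRestrict _ heven
    have hψ : Function.Injective ψ := fun a b h => hπ (congrArg Subtype.val h)
    refine ⟨MulEquiv.ofBijective ψ (hψ.bijective_of_nat_card_le ?_)⟩
    have hA5 : Nat.card (alternatingGroup (Fin 5)) = 60 := by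
      rw [Nat.card_eq_fintype_card]; rfl
    rw [hA5, hGN, h5]
    obtain ⟨j, hj⟩ := h4C
    omega

end Cfsg.Agent.S3278
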