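import Cfsg.Statements.S4006
import Cfsg.Agent.Lib.PGroup.TwoEngel
import Cfsg.Agent.Lib.Core.Cores
import Cfsg.Agent.Lib.Solv.WardRank
import Cfsg.Agent.S0016
import Cfsg.Agent.S0144
import Cfsg.Agent.Lib.TwoGroup.Models
-- import your own Cfsg.Agent.* helpers here

set_option autoImplicit false
open Cfsg

namespace Cfsg.Agent.S4006

open Subgroup
open scoped commutatorElement

variable {G : Type*} [Group G] [Finite G]

theorem commute_six {a b : G} (h : ∀ g : G, orderOf g ≤ 4) (hab : Commute a b) (ha : orderOf a ∣ 4) (hb : b ^ 3 = 1) :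
    a = 1 ∨ b = 1 := by
  by_contra hh
  push Not at hh
  have hb3 : orderOf b = 3 := by
    haveI := Fact.mk Nat.prime_three
    exact orderOf_eq_prime hb hh.2
  have hco : (orderOf a).Coprime (orderOf b) :=
    hb3 ▸ Nat.Coprime.coprime_dvd_left ha (by norm_num)
  have h1 := h (a * b)
  rw [hab.orderOf_mul_eq_mul_orderOf_of_coprime hco, hb3] at h1
  have h2 : orderOf a ≠ 1 := fun e => hh.1 (orderOf_eq_one_iff.mp e)
  have := orderOf_pos a
  omega

theorem norm_three {V : Subgroup G} (σ : G) (hσV : ∀ v ∈ V, σ * v * σ⁻¹ ∈ V) (hσ : σ ^ 3 = 1)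
    (hfix : ∀ v ∈ V, σ * v * σ⁻¹ = v → v = 1) {v : G} (hv : v ∈ V) :
    v * (σ * v * σ⁻¹) * (σ * (σ * v * σ⁻¹) * σ⁻¹) = 1 := by
  let φ : V →* V :=
    { toFun := fun u => ⟨σ * u * σ⁻¹, hσV u u.2⟩
      map_one' := Subtype.ext (by simp)
      map_mul' := fun a b => Subtype.ext (by simp [mul_assoc]) }
  have hφ : MonoidHom.FixedPointFree φ := fun u hu => Subtype.ext (hfix u u.2 (congrArg Subtype.val hu))
  have h3 : (⇑φ)^[3] = id := by
    funext u
    apply Subtype.ext
    show σ * (σ * (σ * u * σ⁻¹) * σ⁻¹) * σ⁻¹ = (u : G)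
    calc _ = (σ * σ * σ) * u * (σ * σ * σ)⁻¹ := by group
      _ = _ := by rw [← pow_two, ← pow_succ, hσ]; group
  have h := hφ.prod_pow_eq_one h3 ⟨v, hv⟩
  simp [List.range_succ] at h
  have h' := congrArg Subtype.val h
  simpa [φ, mul_assoc] using h'

/-- A group of order `6` with an involution inverting an element of order three is `S₃`. -/
theorem iso_three {K : Type*} [Group K] [Finite K] (hK : Nat.card K = 6) (hnc : ∀ g : K, orderOf g ≠ 6) :
    Nonempty (K ≃* Equiv.Perm (Fin 3)) := by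
  haveI := Fact.mk Nat.prime_two
  haveI := Fact.mk Nat.prime_three
  obtain ⟨s, hs⟩ := exists_prime_orderOf_dvd_card' (G := K) 2 (by rw [hK]; norm_num)
  obtain ⟨x, hx⟩ := exists_prime_orderOf_dvd_card' (G := K) 3 (by rw [hK]; norm_num)
  set H := zpowers s
  have hH : H.index = 3 := by
    have := H.index_mul_card
    rw [Nat.card_zpowers, hs, hK] at this
    omega
  let φ := MulAction.toPermHom K (K ⧸ H)
  have hker : φ.ker ≤ H := by
    rw [← Subgroup.normalCore_eq_ker]; exact Subgroup.normalCore_le H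
  have hinj : Function.Injective φ := by
    rw [← MonoidHom.ker_eq_bot_iff]
    by_contra hne
    have hker' : φ.ker = H := by
      refine Subgroup.eq_of_le_of_card_ge hker ?_
      have h1 : Nat.card φ.ker ≠ 1 := fun h => hne (Subgroup.card_eq_one.mp h)
      have h2 : Nat.card φ.ker ∣ Nat.card H := Subgroup.card_dvd_of_le hker
      rw [Nat.card_zpowers, hs] at h2 ⊢
      rcases (Nat.dvd_prime Nat.prime_two).mp h2 with h | h
      · exact absurd h h1
      · rw [h]
    have hn : H.Normal := hker' ▸ φ.normal_ker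
    have hc : x * s * x⁻¹ = s := by
      obtain ⟨j, hj⟩ := hn.conj_mem s (mem_zpowers s) x
      have hs1 : s ≠ 1 := fun e => by rw [e, orderOf_one] at hs; norm_num at hs
      rcases Int.even_or_odd' j with ⟨i, rfl | rfl⟩
      · simp only [zpow_mul, zpow_ofNat, show s ^ 2 = 1 from hs ▸ pow_orderOf_eq_one s, one_zpow] at hj
        exact absurd (conj_eq_one_iff.mp hj.symm) hs1
      · simp only [zpow_add, zpow_mul, zpow_ofNat, show s ^ 2 = 1 from hs ▸ pow_orderOf_eq_one s, one_zpow, one_mul,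
          zpow_one, pow_one] at hj
        exact hj.symm
    have hcom : Commute x s := mul_inv_eq_iff_eq_mul.mp hc
    exact hnc (x * s) (by rw [hcom.orderOf_mul_eq_mul_orderOf_of_coprime (by rw [hx, hs]; norm_num), hx, hs])
  haveI := Fintype.ofFinite (K ⧸ H)
  have e : (K ⧸ H) ≃ Fin 3 := Finite.equivFinOfCardEq hH
  let ψ : K →* Equiv.Perm (Fin 3) := e.permCongrHom.toMonoidHom.comp φ
  have hψ : Function.Injective ψ := e.permCongrHom.injective.comp hinj
  refine ⟨MulEquiv.ofBijective ψ (Nat.bijective_iff_injective_and_card ψ |>.mpr ⟨hψ, ?_⟩)⟩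
  rw [hK, Nat.card_perm, Nat.card_fin]
  rfl

/-- A nontrivial normal 3-subgroup. -/
theorem caseThree (hord : ∀ g : G, orderOf g ≤ 4) (hfour : ∃ g : G, orderOf g = 4)
    (hN : Cfsg.pCore 3 G ≠ ⊥) :
    ∃ (N : Subgroup G) (_ : N.Normal), Cfsg.IsElementaryAbelian 3 N ∧
      ((IsCyclic (G ⧸ N) ∧ N.index = 4) ∨ Nonempty (G ⧸ N ≃* QuaternionGroup 2)) := by
  haveI := Fact.mk Nat.prime_two
  haveI := Fact.mk Nat.prime_three
  set N := Cfsg.pCore 3 G with hNdef
  have hn : N.Normal := inferInstance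
  have hNp : IsPGroup 3 N := Cfsg.Lib.Core.pCore_isPGroup 3 G
  have hexp : ∀ n ∈ N, n ^ 3 = 1 := by
    intro n hn
    obtain ⟨k, hk⟩ := (IsPGroup.iff_orderOf.mp hNp) ⟨n, hn⟩
    rw [Subgroup.orderOf_mk] at hk
    have h := hord n
    rw [hk] at h
    have : k ≤ 1 := by
      by_contra hk1
      have := Nat.pow_le_pow_right (show 0 < 3 by norm_num) (show 2 ≤ k by omega)
      omega
    refine orderOf_dvd_iff_pow_eq_one.mp ?_
    rw [hk]
    exact (pow_dvd_pow 3 this).trans (dvd_of_eq (pow_one 3))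
  obtain ⟨n0, hn0, hn01⟩ : ∃ n ∈ N, n ≠ 1 := by
    obtain ⟨⟨n, hn⟩, h⟩ := Subgroup.ne_bot_iff_exists_ne_one.mp hN
    exact ⟨n, hn, fun e => h (Subtype.ext e)⟩
  have fpf : ∀ s : G, orderOf s ∣ 4 → s ≠ 1 → ∀ n ∈ N, s * n = n * s → n = 1 := fun s hs hs1 n hn hc =>
    ((commute_six hord hc hs (hexp n hn)).resolve_left hs1)
  obtain ⟨g4, hg4⟩ := hfour
  set t := g4 ^ 2 with ht
  have ht2 : orderOf t = 2 := by rw [ht, orderOf_pow' g4 (by norm_num), hg4]; rfl
  have inv : ∀ s : G, orderOf s = 2 → ∀ n ∈ N, s * n * s⁻¹ = n⁻¹ := by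
    intro s hs n hnN
    let φ : N →* N :=
      { toFun := fun u => ⟨s * u * s⁻¹, hn.conj_mem u u.2 s⟩
        map_one' := Subtype.ext (by simp)
        map_mul' := fun a b => Subtype.ext (by simp [mul_assoc]) }
    have hφ : MonoidHom.FixedPointFree φ := fun u hu => Subtype.ext
      (fpf s (hs ▸ by norm_num) (fun e => by rw [e, orderOf_one] at hs; norm_num at hs) u u.2
        (mul_inv_eq_iff_eq_mul.mp (congrArg Subtype.val hu)))
    have hinv : Function.Involutive φ := fun u => Subtype.ext (by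
      show s * (s * u * s⁻¹) * s⁻¹ = (u : G)
      calc _ = (s * s) * u * (s * s)⁻¹ := by group
        _ = _ := by rw [← pow_two, show s ^ 2 = 1 from hs ▸ pow_orderOf_eq_one s]; group)
    exact congrArg Subtype.val (congrFun (hφ.coe_eq_inv_of_involutive hinv) ⟨n, hnN⟩)
  have habel : ∀ a ∈ N, ∀ b ∈ N, a * b = b * a := by
    intro a ha b hb
    have e := inv t ht2 (a * b) (mul_mem ha hb)
    rw [show t * (a * b) * t⁻¹ = (t * a * t⁻¹) * (t * b * t⁻¹) by group, inv t ht2 a ha, inv t ht2 b hb,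
      ← mul_inv_rev, inv_inj] at e
    exact e.symm
  -- the centralizer of `N` is `N`
  have hC : Subgroup.centralizer (N : Set G) ≤ N := by
    haveI : (Subgroup.centralizer (N : Set G)).Normal := Subgroup.normal_centralizer
    refine Cfsg.Lib.Core.le_pCore' inferInstance ?_
    rw [IsPGroup.iff_orderOf]
    intro ⟨c, hc⟩
    rw [Subgroup.orderOf_mk]
    have hc' : Commute c n0 := (Subgroup.mem_centralizer_iff.mp hc n0 hn0).symm
    have hle := hord c
    have hpos := orderOf_pos c
    obtain ⟨o, ho⟩ : ∃ o, orderOf c = o := ⟨_, rfl⟩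
    have hno : orderOf c ∣ 4 → c = 1 := fun hd => (commute_six hord hc' hd (hexp n0 hn0)).resolve_right hn01
    rw [ho] at hle hpos hno
    rcases (show o = 1 ∨ o = 2 ∨ o = 3 ∨ o = 4 by omega) with rfl | rfl | rfl | rfl
    · exact ⟨0, ho⟩
    · exact absurd (hno (by norm_num)) (fun e => by rw [e, orderOf_one] at ho; norm_num at ho)
    · exact ⟨1, ho⟩
    · exact absurd (hno (dvd_refl 4)) (fun e => by rw [e, orderOf_one] at ho; norm_num at ho)
  -- any two involutions agree modulo `N`
  have hprod : ∀ s r : G, orderOf s = 2 → orderOf r = 2 → s⁻¹ * r ∈ N := by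
    intro s r hs hr
    refine hC (Subgroup.mem_centralizer_iff.mpr fun n hnN => ?_)
    have h1 := inv r hr n hnN
    have h2 := inv s hs n hnN
    have h3 : s * n * s⁻¹ = r * n * r⁻¹ := h2.trans h1.symm
    calc n * (s⁻¹ * r) = s⁻¹ * (s * n * s⁻¹) * r := by group
      _ = s⁻¹ * (r * n * r⁻¹) * r := by rw [h3]
      _ = _ := by group
  set Q := G ⧸ N
  have hQ : IsPGroup 2 Q := by
    rw [IsPGroup.iff_orderOf]
    intro q
    obtain ⟨g, rfl⟩ := QuotientGroup.mk_surjective q
    obtain ⟨o, ho⟩ : ∃ o, orderOf g = o := ⟨_, rfl⟩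
    have hd : orderOf (g : Q) ∣ o := ho ▸ orderOf_map_dvd (QuotientGroup.mk' N) g
    have hle := hord g
    have hpos := orderOf_pos g
    rw [ho] at hle hpos
    rcases (show o = 1 ∨ o = 2 ∨ o = 4 ∨ o = 3 by omega) with rfl | rfl | rfl | rfl
    · obtain ⟨j, -, hj⟩ := (Nat.dvd_prime_pow Nat.prime_two).mp (by simpa using hd : orderOf (g : Q) ∣ 2 ^ 0); exact ⟨j, hj⟩
    · obtain ⟨j, -, hj⟩ := (Nat.dvd_prime_pow Nat.prime_two).mp (by simpa using hd : orderOf (g : Q) ∣ 2 ^ 1); exact ⟨j, hj⟩
    · obtain ⟨j, -, hj⟩ := (Nat.dvd_prime_pow Nat.prime_two).mp (show orderOf (g : Q) ∣ 2 ^ 2 by simpa using hd); exact ⟨j, hj⟩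
    · refine ⟨0, ?_⟩
      rw [pow_zero, orderOf_eq_one_iff, QuotientGroup.eq_one_iff]
      set n := t⁻¹ * (g * t * g⁻¹) with hndef
      have hnN : n ∈ N := by
        refine hprod t _ ht2 ?_
        rw [show g * t * g⁻¹ = MulAut.conj g t from rfl, MulEquiv.orderOf_eq, ht2]
      have hconj : n * t * n⁻¹ = g * t * g⁻¹ := by
        have h1 := inv t ht2 _ (inv_mem hnN)
        rw [inv_inv] at h1
        have h3 := hexp n hnN
        calc n * t * n⁻¹ = n * (t * n⁻¹ * t⁻¹) * t := by group
          _ = n * n * t := by rw [h1]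
          _ = n⁻¹ * t := by
            congr 1
            exact eq_inv_of_mul_eq_one_left (by rw [← pow_two, ← pow_succ, h3])
          _ = t * (t⁻¹ * n⁻¹ * t) := by group
          _ = t * n := by
            have h4 := inv t ht2 n hnN
            congr 1
            calc t⁻¹ * n⁻¹ * t = t⁻¹ * (t * n * t⁻¹) * t := by rw [h4]
              _ = n := by group
          _ = _ := by rw [hndef]; group
      have hcom : Commute t (n⁻¹ * g) := by
        show t * (n⁻¹ * g) = n⁻¹ * g * t
        calc t * (n⁻¹ * g) = n⁻¹ * (n * t * n⁻¹) * g := by group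
          _ = n⁻¹ * (g * t * g⁻¹) * g := by rw [hconj]
          _ = _ := by group
      obtain ⟨o', ho'⟩ : ∃ o', orderOf (n⁻¹ * g) = o' := ⟨_, rfl⟩
      have hle' := hord (n⁻¹ * g)
      have hpos' := orderOf_pos (n⁻¹ * g)
      rw [ho'] at hle' hpos'
      rcases (show o' = 3 ∨ o' = 1 ∨ o' = 2 ∨ o' = 4 by omega) with rfl | h124
      · rcases commute_six hord hcom (ht2 ▸ by norm_num) (ho' ▸ pow_orderOf_eq_one _) with h | h
        · rw [h, orderOf_one] at ht2; norm_num at ht2
        · rw [h, orderOf_one] at ho'; norm_num at ho'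
      · -- the image has order dividing both 3 and 4
        have e : ((n⁻¹ * g : G) : Q) = (g : Q) := by
          rw [QuotientGroup.eq]
          have : (n⁻¹ * g)⁻¹ * g = g⁻¹ * n * g := by group
          rw [this]; simpa using hn.conj_mem n hnN g⁻¹
        have d1 : orderOf (g : Q) ∣ 4 := by
          rw [← e]
          refine (orderOf_map_dvd (QuotientGroup.mk' N) _).trans ?_
          rw [ho']; rcases h124 with rfl | rfl | rfl <;> norm_num
        have : orderOf (g : Q) = 1 := Nat.eq_one_of_dvd_coprimes (show Nat.Coprime 3 4 by norm_num) hd d1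
        exact (QuotientGroup.eq_one_iff g).mp (orderOf_eq_one_iff.mp this)
  obtain ⟨k, hk⟩ := IsPGroup.iff_card.mp hQ
  -- lift involutions of the quotient
  have lift : ∀ q : Q, orderOf q = 2 → q = (t : Q) := by
    intro q hq
    obtain ⟨g, rfl⟩ := QuotientGroup.mk_surjective q
    obtain ⟨o, ho⟩ : ∃ o, orderOf g = o := ⟨_, rfl⟩
    have hd : 2 ∣ o := ho ▸ hq ▸ orderOf_map_dvd (QuotientGroup.mk' N) g
    have hle := hord g
    have hpos := orderOf_pos g
    rw [ho] at hle hpos
    rcases (show o = 2 ∨ o = 4 by omega) with rfl | rfl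
    · exact QuotientGroup.eq.mpr (hprod g t ho ht2)
    · exfalso
      have hg2 : g ^ 2 ∈ N := by
        rw [← QuotientGroup.eq_one_iff, QuotientGroup.mk_pow]
        exact hq ▸ pow_orderOf_eq_one _
      have h1 : orderOf (g ^ 2) = 2 := by rw [orderOf_pow' g (by norm_num), ho]; rfl
      have h2 := orderOf_dvd_of_pow_eq_one (hexp _ hg2)
      rw [h1] at h2; norm_num at h2
  have huniq : ∀ H K : Subgroup Q, Nat.card H = 2 → Nat.card K = 2 → H = K := by
    have key : ∀ H : Subgroup Q, Nat.card H = 2 → H = zpowers (t : Q) := by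
      intro H hH
      obtain ⟨⟨q, hq⟩, hq2⟩ := exists_prime_orderOf_dvd_card' (G := H) 2 (by rw [hH])
      rw [Subgroup.orderOf_mk] at hq2
      refine (Subgroup.eq_of_le_of_card_ge (zpowers_le.mpr (lift q hq2 ▸ hq)) ?_).symm
      rw [Nat.card_zpowers, hH, ← lift q hq2, hq2]
    exact fun H K hH hK => (key H hH).trans (key K hK).symm
  have ho4 : orderOf (g4 : Q) = 4 := by
    have hd : orderOf (g4 : Q) ∣ 2 ^ 2 := (orderOf_map_dvd (QuotientGroup.mk' N) g4).trans (by rw [hg4]; norm_num)
    obtain ⟨j, hj, hje⟩ := (Nat.dvd_prime_pow Nat.prime_two).mp hd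
    have hne : g4 ^ 2 ∉ N := fun hm => by
      have h2 := orderOf_dvd_of_pow_eq_one (hexp _ hm)
      rw [← ht, ht2] at h2; norm_num at h2
    interval_cases j
    · refine absurd ?_ hne
      rw [← QuotientGroup.eq_one_iff, QuotientGroup.mk_pow, (orderOf_eq_one_iff.mp (hje.trans rfl) : (g4 : Q) = 1), one_pow]
    · refine absurd ?_ hne
      rw [← QuotientGroup.eq_one_iff, QuotientGroup.mk_pow]
      refine orderOf_dvd_iff_pow_eq_one.mp ?_
      rw [hje]; norm_num
    · rw [hje]; norm_num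
  have horQ : ∀ q : Q, orderOf q ≤ 4 := by
    intro q
    obtain ⟨g, rfl⟩ := QuotientGroup.mk_surjective q
    exact (Nat.le_of_dvd (orderOf_pos g) (orderOf_map_dvd (QuotientGroup.mk' N) g)).trans (hord g)
  refine ⟨N, hn, ⟨⟨⟨fun a b => Subtype.ext (habel a a.2 b b.2)⟩⟩, hexp⟩, ?_⟩
  rcases Cfsg.Agent.S0016.result 2 hQ huniq with hcyc | ⟨-, m, ⟨e⟩⟩
  · left
    refine ⟨hcyc, ?_⟩
    obtain ⟨γ, hγ⟩ := hcyc.exists_generator
    have hγo : orderOf γ = Nat.card Q := by
      rw [← Nat.card_zpowers, show zpowers γ = ⊤ from eq_top_iff.mpr fun x _ => hγ x, Subgroup.card_top]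
    show Nat.card Q = 4
    refine le_antisymm (hγo ▸ horQ γ) ?_
    calc 4 = orderOf (g4 : Q) := ho4.symm
      _ ≤ _ := Nat.le_of_dvd Nat.card_pos (orderOf_dvd_natCard _)
  · match m with
    | 0 =>
      left
      haveI : IsCyclic (QuaternionGroup (2 ^ 0)) := isCyclic_of_orderOf_eq_card (QuaternionGroup.xa (0 : ZMod (2 * 2 ^ 0))) (by
          rw [QuaternionGroup.orderOf_xa, Nat.card_eq_fintype_card, QuaternionGroup.card, pow_zero, mul_one])
      haveI := isCyclic_of_surjective e.symm.toMonoidHom e.symm.surjective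
      refine ⟨inferInstance, ?_⟩
      show Nat.card Q = 4
      rw [Nat.card_congr e.toEquiv, Nat.card_eq_fintype_card, QuaternionGroup.card, pow_zero, mul_one]
    | 1 => right; exact ⟨e⟩
    | (m + 2) =>
      exfalso
      have h := horQ (e.symm (QuaternionGroup.a 1))
      rw [MulEquiv.orderOf_eq, QuaternionGroup.orderOf_a_one] at h
      have := Nat.one_le_two_pow (n := m)
      rw [pow_add] at h
      omega

/-- A nontrivial normal 2-subgroup. -/
theorem caseTwo (hord : ∀ g : G, orderOf g ≤ 4) (h3 : ∃ g : G, orderOf g = 3) (hfour : ∃ g : G, orderOf g = 4)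
    (hP : Cfsg.pCore 2 G ≠ ⊥) [Group.IsSolvable G] :
    ∃ (N : Subgroup G) (_ : N.Normal),
      (IsPGroup 2 N ∧ Monoid.exponent N = 4 ∧ Group.nilpotencyClass N ≤ 2 ∧ N.index = 3) ∨
      (Cfsg.IsElementaryAbelian 2 N ∧ Nonempty (G ⧸ N ≃* Equiv.Perm (Fin 3))) := by
  haveI := Fact.mk Nat.prime_two
  haveI := Fact.mk Nat.prime_three
  set P := Cfsg.pCore 2 G with hPdef
  have hn : P.Normal := inferInstance
  have hPp : IsPGroup 2 P := Cfsg.Lib.Core.pCore_isPGroup 2 G
  have hP4 : ∀ v ∈ P, orderOf v ∣ 4 := by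
    intro v hv
    obtain ⟨k, hk⟩ := (IsPGroup.iff_orderOf.mp hPp) ⟨v, hv⟩
    rw [Subgroup.orderOf_mk] at hk
    have h := hord v
    rw [hk] at h ⊢
    have : k ≤ 2 := (Nat.pow_le_pow_iff_right (le_refl 2)).mp (h.trans (le_of_eq (by norm_num)))
    exact (pow_dvd_pow 2 this).trans (dvd_of_eq (by norm_num))
  have hfix : ∀ σ : G, σ ^ 3 = 1 → σ ≠ 1 → ∀ v ∈ P, σ * v * σ⁻¹ = v → v = 1 := fun σ hσ hσ1 v hv e =>
    (commute_six hord (mul_inv_eq_iff_eq_mul.mp e).symm (hP4 v hv) hσ).resolve_right hσ1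
  obtain ⟨x, hx⟩ := h3
  have hx3 : x ^ 3 = 1 := hx ▸ pow_orderOf_eq_one x
  have hx1 : x ≠ 1 := fun e => by rw [e, orderOf_one] at hx; norm_num at hx
  -- the Sylow 3-subgroups have order three
  haveI : Nontrivial P := P.nontrivial_iff_ne_bot.mpr hP
  have hsyl : ∀ T : Subgroup G, IsPGroup 3 T → Nat.card T ≤ 3 := by
    intro T hT
    by_contra hlt
    obtain ⟨k, hk⟩ := IsPGroup.iff_card.mp hT
    have hk2 : 2 ≤ k := by
      by_contra hh
      have := Nat.pow_le_pow_right (show 0 < 3 by norm_num) (show k ≤ 1 by omega)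
      omega
    have hexp : ∀ a ∈ T, a ^ 3 = 1 := by
      intro a ha
      obtain ⟨j, hj⟩ := (IsPGroup.iff_orderOf.mp hT) ⟨a, ha⟩
      rw [Subgroup.orderOf_mk] at hj
      have h := hord a
      rw [hj] at h
      have : j ≤ 1 := by
        by_contra hh
        have := Nat.pow_le_pow_right (show 0 < 3 by norm_num) (show 2 ≤ j by omega)
        omega
      refine orderOf_dvd_iff_pow_eq_one.mp ?_
      rw [hj]
      exact (pow_dvd_pow 3 this).trans (dvd_of_eq (pow_one 3))
    haveI : Nontrivial T := Finite.one_lt_card_iff_nontrivial.mp (by omega)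
    haveI := hT.center_nontrivial
    obtain ⟨⟨⟨a, haT⟩, hac⟩, hane⟩ := exists_ne (1 : Subgroup.center T)
    have ha1 : a ≠ 1 := fun e => hane (Subtype.ext (Subtype.ext e))
    obtain ⟨b, hbT, hb⟩ : ∃ b ∈ T, b ∉ zpowers a := by
      by_contra hh
      push Not at hh
      have := Subgroup.card_le_of_le (show T ≤ zpowers a from hh)
      rw [Nat.card_zpowers] at this
      have := Nat.le_of_dvd (by norm_num) (orderOf_dvd_of_pow_eq_one (hexp a haT))
      omega
    have hab : Commute a b := (congrArg Subtype.val (Subgroup.mem_center_iff.mp hac ⟨b, hbT⟩)).symm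
    have ha3 := hexp a haT
    have hb3 := hexp b hbT
    have nab : ∀ i : ℕ, a ^ i * b ≠ 1 := fun i e => hb (by
      rw [eq_inv_of_mul_eq_one_right e]; exact inv_mem (pow_mem (mem_zpowers a) i))
    haveI := hPp.center_nontrivial
    obtain ⟨⟨⟨v, hvP⟩, hvc⟩, hvne⟩ := exists_ne (1 : Subgroup.center P)
    have hv1 : v ≠ 1 := fun e => hvne (Subtype.ext (Subtype.ext e))
    -- the centre of `P`, as a normal abelian subgroup
    set V := (Subgroup.center P).map P.subtype with hV
    haveI : V.Normal := ConjAct.normal_of_characteristic_of_normal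
    have hVP : V ≤ P := Subgroup.map_subtype_le _
    have hvV : v ∈ V := ⟨⟨v, hvP⟩, hvc, rfl⟩
    letI : CommGroup V := { (inferInstance : Group V) with
      mul_comm := fun u w => Subtype.ext (by
        obtain ⟨u', hu', hue⟩ := u.2
        show (u : G) * w = w * u
        rw [← hue]
        exact (congrArg Subtype.val (Subgroup.mem_center_iff.mp hu' ⟨(w : G), hVP w.2⟩)).symm) }
    let c : G → V → V := fun g u => ⟨g * u * g⁻¹, (inferInstance : V.Normal).conj_mem u u.2 g⟩
    have cc : ∀ g h u, c g (c h u) = c (g * h) u := fun g h u => Subtype.ext (by simp [c, mul_assoc])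
    have cm : ∀ g u w, c g (u * w) = c g u * c g w := fun g u w => Subtype.ext (by simp [c, mul_assoc])
    have nrm : ∀ σ : G, σ ^ 3 = 1 → σ ≠ 1 → ∀ u : V, u * c σ u * c (σ * σ) u = 1 := by
      intro σ hσ hσ1 u
      apply Subtype.ext
      have h := norm_three (V := P) σ (fun w hw => hn.conj_mem w hw σ) hσ (hfix σ hσ hσ1) (hVP u.2)
      show (u : G) * (σ * u * σ⁻¹) * (σ * σ * u * (σ * σ)⁻¹) = 1
      rw [show σ * σ * (u : G) * (σ * σ)⁻¹ = σ * (σ * u * σ⁻¹) * σ⁻¹ by group]
      exact h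
    have hb1 : b ≠ 1 := fun e => nab 0 (by rw [e, pow_zero, one_mul])
    set u : V := ⟨v, hvV⟩
    have n1 := nrm b hb3 hb1 u
    have n2 := nrm (a * b) (by rw [hab.mul_pow, ha3, hb3, one_mul]) (by simpa using nab 1) u
    have n3 := nrm (a ^ 2 * b) (by rw [(hab.pow_left 2).mul_pow, ← pow_mul, hb3, mul_one, mul_comm 2 3, pow_mul, ha3, one_pow]) (nab 2) u
    have n4 := nrm a ha3 ha1 (c b u)
    have n5 := nrm a ha3 ha1 (c (b * b) u)
    rw [cc, cc] at n4 n5
    have ea : a * a * a = 1 := by rw [← pow_two, ← pow_succ, ha3]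
    have e2 : a * b * (a * b) = a * a * (b * b) := by
      rw [mul_assoc a b, ← mul_assoc b a b, ← hab.eq]; simp only [mul_assoc]
    have e3 : a ^ 2 * b * (a ^ 2 * b) = a * (b * b) := by
      rw [mul_assoc (a ^ 2) b, ← mul_assoc b (a ^ 2) b, ← (hab.pow_left 2).eq, ← mul_assoc, ← mul_assoc, ← pow_add,
        pow_succ, ha3, one_mul, mul_assoc]
    rw [e2] at n2
    rw [e3, pow_two] at n3
    rw [mul_assoc a a] at n2 n5
    simp only [mul_assoc] at n1 n2 n3 n4 n5
    apply_fun Additive.ofMul at n1 n2 n3 n4 n5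
    simp only [ofMul_mul, ofMul_one] at n1 n2 n3 n4 n5
    have h3u : (3 : ℤ) • Additive.ofMul u = 0 := by
      linear_combination (norm := abel) n1 + n2 + n3 - n4 - n5
    have hu3 : u ^ 3 = 1 := by
      apply Additive.ofMul.injective
      rw [ofMul_pow, ofMul_one]
      exact_mod_cast h3u
    have hv3 : v ^ 3 = 1 := congrArg Subtype.val hu3
    exact hv1 (orderOf_eq_one_iff.mp (Nat.eq_one_of_dvd_coprimes (show Nat.Coprime 4 3 by norm_num) (hP4 v hvP)
      (orderOf_dvd_of_pow_eq_one hv3)))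
  -- a Sylow 3-subgroup
  set T := zpowers x with hT
  have hTc : Nat.card T = 3 := by rw [hT, Nat.card_zpowers, hx]
  have hTx : ∀ y ∈ T, y = 1 ∨ y = x ∨ y = x⁻¹ := by
    rintro y ⟨j, rfl⟩
    rcases (show j % 3 = 0 ∨ j % 3 = 1 ∨ j % 3 = 2 by omega) with h | h | h
    all_goals simp only
    all_goals rw [show j = j % 3 + 3 * (j / 3) from (Int.emod_add_mul_ediv j 3).symm, zpow_add, zpow_mul, zpow_ofNat, hx3, one_zpow, mul_one, h]
    · left; rw [zpow_zero]
    · right; left; rw [zpow_one]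
    · right; right
      exact eq_inv_of_mul_eq_one_left (by rw [zpow_ofNat, ← pow_succ, hx3])
  -- the quotient has a normal subgroup of order three
  set Q := G ⧸ P
  haveI : Nontrivial Q := by
    rw [← not_subsingleton_iff_nontrivial, QuotientGroup.subsingleton_iff]
    intro h
    exact hx1 ((commute_six hord (Commute.refl x) (hP4 x (h ▸ Subgroup.mem_top x)) hx3).elim id id)
  have hQord : ∀ q : Q, ∃ g : G, (g : Q) = q := QuotientGroup.mk_surjective
  obtain ⟨r, hr, hrne⟩ := Cfsg.Lib.Solv.WardRank.exists_pCore_ne_bot (G := Q)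
  have hr3 : r = 3 := by
    have hr2 : r ≠ 2 := fun e => hrne (by rw [e]; exact Cfsg.Lib.Core.pCore_quotient_pCore_eq_bot (p := 2))
    haveI := Fact.mk hr
    haveI : Nontrivial (Cfsg.pCore r Q) := (Subgroup.nontrivial_iff_ne_bot _).mpr hrne
    obtain ⟨k, hk0, hk⟩ := (IsPGroup.nontrivial_iff_card (Cfsg.Lib.Core.pCore_isPGroup r Q)).mp inferInstance
    obtain ⟨g, hg⟩ := exists_prime_orderOf_dvd_card' (G := Q) r
      ((dvd_pow_self r hk0.ne').trans (hk ▸ Subgroup.card_subgroup_dvd_card _))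
    obtain ⟨g', rfl⟩ := hQord g
    have hd : r ∣ orderOf g' := hg ▸ orderOf_map_dvd (QuotientGroup.mk' P) g'
    have hle := (Nat.le_of_dvd (orderOf_pos g') hd).trans (hord g')
    have := hr.two_le
    rcases (show r = 3 ∨ r = 4 by omega) with h | h
    · exact h
    · exact absurd (h ▸ hr) (by norm_num)
  subst hr3
  set M := (Cfsg.pCore 3 Q).comap (QuotientGroup.mk' P) with hM
  haveI : M.Normal := inferInstance
  have hPM : P ≤ M := fun p hp => by
    show (QuotientGroup.mk' P) p ∈ Cfsg.pCore 3 Q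
    rw [QuotientGroup.mk'_apply, (QuotientGroup.eq_one_iff p).mpr hp]; exact one_mem _
  let TS : Sylow 3 G := { toSubgroup := T
                          isPGroup' := IsPGroup.of_card (n := 1) (by rw [hTc, pow_one])
                          is_maximal' := fun {R} hR hle => (Subgroup.eq_of_le_of_card_ge hle (hTc ▸ hsyl R hR)).symm }
  have hcQ : Nat.card (Cfsg.pCore 3 Q) = 3 := by
    obtain ⟨k, hk⟩ := IsPGroup.iff_card.mp (Cfsg.Lib.Core.pCore_isPGroup 3 Q)
    have hk0 : k ≠ 0 := fun e => hrne (Subgroup.card_eq_one.mp (by rw [hk, e, pow_zero]))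
    have hk1 : k ≤ 1 := by
      have h1 : 3 ^ k ∣ Nat.card G := hk ▸ (Subgroup.card_subgroup_dvd_card _).trans (Subgroup.card_quotient_dvd_card P)
      obtain ⟨R, hR⟩ := Sylow.exists_subgroup_card_pow_prime 3 h1
      have := hsyl R (IsPGroup.of_card hR)
      rw [hR] at this
      exact (Nat.pow_le_pow_iff_right (by norm_num : 1 < 3)).mp (this.trans_eq (pow_one 3).symm)
    rw [hk, show k = 1 by omega, pow_one]
  have hxM : x ∈ M := by
    obtain ⟨⟨q, hq⟩, hqo⟩ := exists_prime_orderOf_dvd_card' (G := Cfsg.pCore 3 Q) 3 (by rw [hcQ])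
    -- all elements of order three are conjugate into `T`
    have hMcard : 3 ∣ Nat.card M := by
      have : Nat.card (M.map (QuotientGroup.mk' P)) = 3 := by
        rw [Subgroup.map_comap_eq_self_of_surjective (QuotientGroup.mk'_surjective P), hcQ]
      exact this ▸ Subgroup.card_map_dvd M (QuotientGroup.mk' P)
    obtain ⟨⟨y, hy⟩, hyo⟩ := exists_prime_orderOf_dvd_card' (G := M) 3 hMcard
    rw [Subgroup.orderOf_mk] at hyo
    obtain ⟨S', hS'⟩ := (IsPGroup.of_card (n := 1) (by rw [Nat.card_zpowers, hyo, pow_one]) : IsPGroup 3 (zpowers y)).exists_le_sylow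
    have hS'eq : zpowers y = S' := Subgroup.eq_of_le_of_card_ge hS' (by
      rw [Nat.card_zpowers, hyo]; exact hsyl _ S'.isPGroup')
    obtain ⟨g, hg⟩ := MulAction.exists_smul_eq G S' TS
    have hxg : x ∈ (zpowers y).map (MulAut.conj g).toMonoidHom := by
      rw [hS'eq]
      have : (TS : Subgroup G) = (S' : Subgroup G).map (MulAut.conj g).toMonoidHom := by rw [← hg]; rfl
      rw [← this]; exact mem_zpowers x
    obtain ⟨z, hz, hze⟩ := hxg
    rw [← hze]
    exact Subgroup.Normal.conj_mem inferInstance z (zpowers_le.mpr hy hz) g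
  -- Frattini argument
  set K := Subgroup.normalizer (T : Set G) with hK
  have hKP : ∀ g : G, ∃ k ∈ K, k⁻¹ * g ∈ P := by
    intro g
    have hTM : T ≤ M := zpowers_le.mpr hxM
    have htop := Sylow.normalizer_sup_eq_top' TS (N := M) hTM
    have hMTP : M = T ⊔ P := by
      refine (Subgroup.eq_of_le_of_card_ge (sup_le hTM hPM) ?_).symm
      have h1 : Nat.card M = Nat.card P * 3 := by
        have hidx : P.relIndex M = 3 := by
          rw [show P = (⊥ : Subgroup Q).comap (QuotientGroup.mk' P) by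
              rw [MonoidHom.comap_bot, QuotientGroup.ker_mk'], hM,
            Subgroup.relIndex_comap, Subgroup.map_comap_eq_self_of_surjective (QuotientGroup.mk'_surjective P),
            Subgroup.relIndex_bot_left, hcQ]
        have := Subgroup.relIndex_mul_relIndex (⊥ : Subgroup G) P M bot_le hPM
        rw [Subgroup.relIndex_bot_left, Subgroup.relIndex_bot_left, hidx] at this
        exact this.symm
      rw [h1]
      have d1 : Nat.card P ∣ Nat.card (T ⊔ P : Subgroup G) := Subgroup.card_dvd_of_le le_sup_right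
      have d2 : 3 ∣ Nat.card (T ⊔ P : Subgroup G) := hTc ▸ Subgroup.card_dvd_of_le le_sup_left
      obtain ⟨k, hk⟩ := IsPGroup.iff_card.mp hPp
      exact Nat.le_of_dvd Nat.card_pos (Nat.Coprime.mul_dvd_of_dvd_of_dvd
        (hk ▸ Nat.Coprime.pow_left k (by norm_num)) d1 d2)
    change K ⊔ M = ⊤ at htop
    rw [hMTP, ← sup_assoc, sup_eq_left.mpr (Subgroup.le_normalizer : T ≤ K), sup_comm] at htop
    have hg : g ∈ ((K ⊔ P : Subgroup G) : Set G) := by rw [sup_comm, htop]; trivial
    rw [Subgroup.mul_normal K P] at hg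
    obtain ⟨k, hk, p, hp, rfl⟩ := hg
    exact ⟨k, hk, by simpa using hp⟩
  have hKinf : ∀ k ∈ K, k ∈ P → k = 1 := by
    intro k hk hkP
    refine hfix x hx3 hx1 k hkP ?_
    have h1 : x * k * x⁻¹ * k⁻¹ ∈ P := mul_mem (hn.conj_mem k hkP x) (inv_mem hkP)
    have h2 : x * k * x⁻¹ * k⁻¹ ∈ T := by
      rw [mul_assoc, mul_assoc, ← mul_assoc k]
      exact mul_mem (mem_zpowers x) ((Subgroup.mem_normalizer_iff.mp hk _).mp (inv_mem (mem_zpowers x)))
    have h3 : (x * k * x⁻¹ * k⁻¹) ^ 3 = 1 := by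
      rcases hTx _ h2 with e | e | e <;> rw [e]
      · exact one_pow 3
      · exact hx3
      · rw [inv_pow, hx3, inv_one]
    have := Nat.eq_one_of_dvd_coprimes (show Nat.Coprime 4 3 by norm_num) (hP4 _ h1) (orderOf_dvd_of_pow_eq_one h3)
    exact mul_inv_eq_one.mp (orderOf_eq_one_iff.mp this)
  let π : K →* Q := (QuotientGroup.mk' P).comp K.subtype
  have hπi : Function.Injective π := by
    rw [injective_iff_map_eq_one]
    intro k hk
    exact Subtype.ext (hKinf k k.2 ((QuotientGroup.eq_one_iff (k : G)).mp hk))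
  have hπs : Function.Surjective π := by
    intro q
    obtain ⟨g, rfl⟩ := hQord q
    obtain ⟨k, hk, hkg⟩ := hKP g
    exact ⟨⟨k, hk⟩, QuotientGroup.eq.mpr hkg⟩
  set e := MulEquiv.ofBijective π ⟨hπi, hπs⟩
  -- centralizer of `x`
  have hCx : ∀ k : G, k * x = x * k → k ∈ T := by
    intro k hk
    have h3 : k ^ 3 = 1 := by
      obtain ⟨o, ho⟩ : ∃ o, orderOf k = o := ⟨_, rfl⟩
      have hle := hord k
      have hpos := orderOf_pos k
      rw [ho] at hle hpos
      refine orderOf_dvd_iff_pow_eq_one.mp ?_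
      rw [ho]
      rcases (show o = 1 ∨ o = 3 ∨ o = 2 ∨ o = 4 by omega) with rfl | rfl | h
      · norm_num
      · norm_num
      · have := (commute_six hord hk (by rw [ho]; rcases h with rfl | rfl <;> norm_num) hx3).resolve_right hx1
        rw [this, orderOf_one] at ho
        rcases h with rfl | rfl <;> norm_num at ho
    set R := closure ({k, x} : Set G)
    haveI : IsMulCommutative R := Subgroup.isMulCommutative_closure (by
      rintro a (rfl | rfl) b (rfl | rfl) <;> first | rfl | exact hk | exact hk.symm)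
    have hR : IsPGroup 3 R := by
      intro ⟨y, hy⟩
      refine ⟨1, Subtype.ext ?_⟩
      show y ^ (3 ^ 1) = 1
      rw [pow_one]
      induction hy using Subgroup.closure_induction with
      | mem y hy => rcases hy with rfl | rfl; exacts [h3, hx3]
      | one => exact one_pow 3
      | mul a b ha hb iha ihb =>
        have : Commute a b := congrArg Subtype.val (IsMulCommutative.is_comm.comm (⟨a, ha⟩ : R) ⟨b, hb⟩)
        rw [this.mul_pow, iha, ihb, one_mul]
      | inv a _ ih => rw [inv_pow, ih, inv_one]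
    have hle : T ≤ R := zpowers_le.mpr (subset_closure (Or.inr rfl))
    rw [Subgroup.eq_of_le_of_card_ge hle (hTc ▸ hsyl R hR)]
    exact subset_closure (Or.inl rfl)
  by_cases hall : ∀ k ∈ K, k * x = x * k
  · refine ⟨P, hn, Or.inl ⟨hPp, ?_, ?_, ?_⟩⟩
    · have hKc : ∀ k ∈ K, k ∈ T := fun k hk => hCx k (hall k hk)
      obtain ⟨g4, hg4⟩ := hfour
      have hg4P : g4 ∈ P := by
        obtain ⟨k, hk, hkg⟩ := hKP g4
        have hk3 : k ^ 3 = 1 := by
          rcases hTx k (hKc k hk) with e | e | e <;> rw [e]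
          · exact one_pow 3
          · exact hx3
          · rw [inv_pow, hx3, inv_one]
        have e1 : ((k : G) : Q) = g4 := QuotientGroup.eq.mpr hkg
        have d1 : orderOf ((g4 : G) : Q) ∣ 3 := e1 ▸ (orderOf_map_dvd (QuotientGroup.mk' P) k).trans (orderOf_dvd_of_pow_eq_one hk3)
        have d2 : orderOf ((g4 : G) : Q) ∣ 4 := hg4 ▸ orderOf_map_dvd (QuotientGroup.mk' P) g4
        have := Nat.eq_one_of_dvd_coprimes (show Nat.Coprime 3 4 by norm_num) d1 d2
        exact (QuotientGroup.eq_one_iff g4).mp (orderOf_eq_one_iff.mp this)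
      refine Nat.dvd_antisymm (Monoid.exponent_dvd_of_forall_pow_eq_one fun v => Subtype.ext
        (orderOf_dvd_iff_pow_eq_one.mp (hP4 v v.2))) ?_
      have := Monoid.order_dvd_exponent (⟨g4, hg4P⟩ : P)
      rwa [Subgroup.orderOf_mk, hg4] at this
    · have hE : Cfsg.Lib.PGroup.TwoEngel.ConjCommute P := by
        have hcm : ∀ σ : G, σ ^ 3 = 1 → σ ≠ 1 → ∀ v ∈ P,
            (σ * v * σ⁻¹) * v = v * (σ * v * σ⁻¹) ∧ v * (σ * v * σ⁻¹) * (σ * (σ * v * σ⁻¹) * σ⁻¹) = 1 := by
          intro σ hσ hσ1 v hv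
          have hσ' : σ⁻¹ ^ 3 = 1 := by rw [inv_pow, hσ, inv_one]
          have e1 := norm_three (V := P) σ (fun w hw => hn.conj_mem w hw σ) hσ (hfix σ hσ hσ1) hv
          have e2 := norm_three (V := P) σ⁻¹ (fun w hw => hn.conj_mem w hw σ⁻¹) hσ' (hfix σ⁻¹ hσ' (inv_ne_one.mpr hσ1)) hv
          have e3 : σ * (σ * v * σ⁻¹) * σ⁻¹ = σ⁻¹ * v * σ⁻¹⁻¹ := by
            have : σ * σ = σ⁻¹ := eq_inv_of_mul_eq_one_left (by rw [← pow_two, ← pow_succ, hσ])
            calc _ = (σ * σ) * v * (σ * σ)⁻¹ := by group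
              _ = _ := by rw [this]
          have e4 : σ⁻¹ * (σ⁻¹ * v * σ⁻¹⁻¹) * σ⁻¹⁻¹ = σ * v * σ⁻¹ := by
            rw [← e3]; group
          rw [e4] at e2
          rw [e3] at e1
          refine ⟨?_, by rw [e3]; exact e1⟩
          set A := σ * v * σ⁻¹
          set B := σ⁻¹ * v * σ⁻¹⁻¹
          have i1 : B = (v * A)⁻¹ := eq_inv_of_mul_eq_one_right e1
          rw [i1, mul_inv_rev] at e2
          have e5 : v * A⁻¹ * v⁻¹ * A = 1 := by simpa [mul_assoc] using e2
          have e6 : v * A⁻¹ * v⁻¹ = A⁻¹ := eq_inv_of_mul_eq_one_left e5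
          calc A * v = (A⁻¹)⁻¹ * v := by rw [inv_inv]
            _ = (v * A⁻¹ * v⁻¹)⁻¹ * v := by rw [e6]
            _ = _ := by group
        intro v g
        apply Subtype.ext
        show (v : G) * (g * v * (g : G)⁻¹) = g * v * (g : G)⁻¹ * v
        set w := x * (v : G) * x⁻¹
        set w' := x * w * x⁻¹
        obtain ⟨hvw, hprod⟩ := hcm x hx3 hx1 v v.2
        have conj_comm : ∀ σ : G, σ ^ 3 = 1 → σ ≠ 1 → Commute (v : G) (g * (σ * v * σ⁻¹) * (g : G)⁻¹) := by
          intro σ hσ hσ1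
          -- apply to a conjugate of `σ` and the conjugate of `v`
          set τ := σ⁻¹ * (g : G)⁻¹ * σ with hτ
          have hgP : (g : G) ∈ P := g.2
          obtain ⟨q, hq⟩ : ∃ q : G, q = (g : G) * σ := ⟨_, rfl⟩
          have hq3 : q ^ 3 = 1 := by
            have e := norm_three (V := P) σ (fun w hw => hn.conj_mem w hw σ) hσ (hfix σ hσ hσ1) hgP
            calc q ^ 3 = (g : G) * (σ * g * σ⁻¹) * (σ * (σ * g * σ⁻¹) * σ⁻¹) * σ ^ 3 := by
                  rw [hq]; simp only [pow_succ, pow_zero, one_mul]; group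
              _ = 1 := by rw [e, hσ, one_mul]
          have hq1 : q ≠ 1 := fun e => hσ1 (by
            have e' : (g : G) * σ = 1 := hq.symm.trans e
            have hσP : σ ∈ P := by rw [eq_inv_of_mul_eq_one_right e']; exact inv_mem hgP
            exact ((commute_six hord (Commute.refl σ) (hP4 σ hσP) hσ).elim id id))
          have h := (hcm q hq3 hq1 v v.2).1
          rw [hq] at h
          have e : (g : G) * σ * v * ((g : G) * σ)⁻¹ = g * (σ * v * σ⁻¹) * (g : G)⁻¹ := by group
          rw [e] at h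
          exact h.symm
        have c1 := conj_comm x hx3 hx1
        have c2 := conj_comm (x * x) (by rw [← pow_two, ← pow_mul, mul_comm 2 3, pow_mul, hx3, one_pow])
          (fun e => hx1 (by rw [show x = x ^ 3 * (x * x)⁻¹ by simp only [pow_succ, pow_zero, one_mul]; group, hx3, e, inv_one, one_mul]))
        have ev : g * (v : G) * (g : G)⁻¹ = ((g * w * (g : G)⁻¹) * (g * (x * x * v * (x * x)⁻¹) * (g : G)⁻¹))⁻¹ := by
          have : (v : G) = (w * (x * x * v * (x * x)⁻¹))⁻¹ := eq_inv_of_mul_eq_one_left (by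
            rw [← mul_assoc, show x * x * (v : G) * (x * x)⁻¹ = x * (x * v * x⁻¹) * x⁻¹ by group]
            exact hprod)
          conv_lhs => rw [this]
          group
        rw [ev]
        exact (c1.mul_right c2).inv_right.eq
      have hc : commutator P ≤ Subgroup.center P := by
        refine Cfsg.Lib.PGroup.TwoEngel.commutator_le_center hE fun v hv => ?_
        have h1 : (v : G) ^ 3 = 1 := congrArg Subtype.val hv
        exact Subtype.ext (orderOf_eq_one_iff.mp (Nat.eq_one_of_dvd_coprimes (show Nat.Coprime 4 3 by norm_num)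
          (hP4 v v.2) (orderOf_dvd_of_pow_eq_one h1)))
      haveI := hPp.isNilpotent
      refine Subgroup.lowerCentralSeries_eq_bot_iff_nilpotencyClass_le.mp ?_
      rw [Subgroup.lowerCentralSeries_succ, Subgroup.top_lowerCentralSeries_one]
      exact Subgroup.commutator_top_right_eq_bot_iff_le_center.mpr hc
    · show Nat.card Q = 3
      rw [← Nat.card_congr e.toEquiv, ← hTc]
      exact congrArg (fun S : Subgroup G => Nat.card S)
        (le_antisymm (fun k hk => hCx k (hall k hk)) Subgroup.le_normalizer)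
  · push Not at hall
    obtain ⟨k, hkK, hkx⟩ := hall
    have hkinv : k * x * k⁻¹ = x⁻¹ := by
      rcases hTx _ ((Subgroup.mem_normalizer_iff.mp hkK x).mp (mem_zpowers x)) with h | h | h
      · exact absurd (conj_eq_one_iff.mp h) hx1
      · exact absurd (mul_inv_eq_iff_eq_mul.mp h) hkx
      · exact h
    have hkx' : k * x = x⁻¹ * k := mul_inv_eq_iff_eq_mul.mp hkinv
    -- `t := k` is an involution
    have hk2 : k ^ 2 = 1 := by
      have hm : k ^ 2 ∈ T := by
        refine hCx _ ?_
        calc k ^ 2 * x = k * (k * x) := by rw [pow_two, mul_assoc]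
          _ = k * (x⁻¹ * k) := by rw [hkx']
          _ = (k * x * k⁻¹)⁻¹ * k * k := by group
          _ = x * k ^ 2 := by rw [hkinv, inv_inv, pow_two, mul_assoc]
      rcases hTx _ hm with h | h | h
      · exact h
      · exfalso; refine hkx ?_
        rw [← h, pow_two, mul_assoc]
      · exfalso; refine hkx ?_
        have : x = (k ^ 2)⁻¹ := by rw [h, inv_inv]
        rw [this, pow_two]; group
    have hkk : k⁻¹ = k := inv_eq_of_mul_eq_one_right (by rw [← pow_two]; exact hk2)
    have hK6 : Nat.card K = 6 := by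
      have hKle : ∀ j ∈ K, j ∈ T ∨ k⁻¹ * j ∈ T := by
        intro j hj
        rcases hTx _ ((Subgroup.mem_normalizer_iff.mp hj x).mp (mem_zpowers x)) with h | h | h
        · exact absurd (conj_eq_one_iff.mp h) hx1
        · exact Or.inl (hCx j (mul_inv_eq_iff_eq_mul.mp h))
        · refine Or.inr (hCx _ ?_)
          calc k⁻¹ * j * x = k⁻¹ * (j * x * j⁻¹) * j := by group
            _ = k⁻¹ * (k * x * k⁻¹) * j := by rw [h, hkinv]
            _ = _ := by group
      have hidx : (T.subgroupOf K).index = 2 := by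
        refine Subgroup.index_eq_two_iff.mpr ⟨⟨k, hkK⟩, fun j => ?_⟩
        have hkT : k ∉ T := fun hm => hkx (by obtain ⟨i, rfl⟩ := hm; exact ((Commute.refl x).zpow_left i).eq)
        simp only [Subgroup.mem_subgroupOf, Subgroup.coe_mul]
        rcases hKle j j.2 with h | h
        · refine Or.inr ⟨h, fun hm => hkT ?_⟩
          simpa using mul_mem (inv_mem h) hm
        · refine Or.inl ⟨?_, fun hm => hkT ?_⟩
          · have hm : k * (k⁻¹ * (j : G)) * k⁻¹ ∈ T := (Subgroup.mem_normalizer_iff.mp hkK _).mp h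
            rw [mul_inv_cancel_left, hkk] at hm; exact hm
          · simpa using mul_mem hm (inv_mem h)
      have := (T.subgroupOf K).index_mul_card
      rw [hidx, Nat.card_congr (Subgroup.subgroupOfEquivOfLe Subgroup.le_normalizer).toEquiv, hTc] at this
      omega
    have hiso : Nonempty (Q ≃* Equiv.Perm (Fin 3)) := by
      obtain ⟨f⟩ := iso_three hK6 (fun j => by
        have := hord (j : G); rw [Subgroup.orderOf_coe] at this; omega)
      exact ⟨e.symm.trans f⟩
    refine ⟨P, hn, Or.inr ⟨?_, hiso⟩⟩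
    -- the fixed subgroup of `k` in `P`
    set C0 := P ⊓ Subgroup.centralizer ({k} : Set G) with hC0
    let X : G → G := fun v => x * v * x⁻¹
    have hXP : ∀ v ∈ P, X v ∈ P := fun v hv => hn.conj_mem v hv x
    have hXm : ∀ u v, X (u * v) = X u * X v := fun u v => by simp [X, mul_assoc]
    have hp3 : ∀ v ∈ P, v * X v * X (X v) = 1 := fun v hv =>
      norm_three (V := P) x (fun w hw => hn.conj_mem w hw x) hx3 (hfix x hx3 hx1) hv
    have hkX : ∀ v, k * X v * k⁻¹ = X (X (k * v * k⁻¹)) := by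
      intro v
      have h1 : k * x⁻¹ * k⁻¹ = x := by
        calc k * x⁻¹ * k⁻¹ = (k * x * k⁻¹)⁻¹ := by group
          _ = x := by rw [hkinv, inv_inv]
      have h2 : x * x = x⁻¹ := eq_inv_of_mul_eq_one_left (by rw [← pow_two, ← pow_succ, hx3])
      show k * (x * v * x⁻¹) * k⁻¹ = x * (x * (k * v * k⁻¹) * x⁻¹) * x⁻¹
      calc k * (x * v * x⁻¹) * k⁻¹ = (k * x * k⁻¹) * (k * v * k⁻¹) * (k * x⁻¹ * k⁻¹) := by group
        _ = x⁻¹ * (k * v * k⁻¹) * x := by rw [hkinv, h1]
        _ = (x * x) * (k * v * k⁻¹) * (x * x)⁻¹ := by rw [h2, inv_inv]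
        _ = _ := by group
    have hfixed : ∀ v ∈ C0, k * v * k⁻¹ = v := fun v hv =>
      mul_inv_eq_iff_eq_mul.mpr (Subgroup.mem_centralizer_singleton_iff.mp hv.2).symm
    have facts : ∀ v ∈ C0, v * v = 1 ∧ Commute v (X v) := by
      intro v hv
      have hkv := hfixed v hv
      have hw2 : (X v * k) * (X v * k) = v⁻¹ := by
        calc X v * k * (X v * k) = X v * (k * X v * k⁻¹) * k ^ 2 := by rw [pow_two]; group
          _ = X v * X (X v) := by rw [hkX, hkv, hk2, mul_one]
          _ = v⁻¹ := eq_inv_of_mul_eq_one_right (by rw [← mul_assoc]; exact hp3 v hv.1)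
      have hv2 : v * v = 1 := by
        by_contra hne
        have ho : orderOf v = 4 := by
          obtain ⟨j, hj, hje⟩ := (Nat.dvd_prime_pow Nat.prime_two).mp (show orderOf v ∣ 2 ^ 2 by simpa using hP4 v hv.1)
          interval_cases j
          · exact absurd (by rw [orderOf_eq_one_iff.mp (hje.trans rfl), one_mul]) hne
          · exact absurd (by rw [← pow_two]; exact orderOf_dvd_iff_pow_eq_one.mp (by rw [hje]; norm_num)) hne
          · exact hje
        set y := X v * k with hy
        have hy' : orderOf (y ^ 2) = 4 := by rw [pow_two, hw2, orderOf_inv, ho]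
        have h4 : 4 ∣ orderOf y := hy' ▸ orderOf_pow_dvd 2
        have hle := hord y
        have hy4 : orderOf y = 4 := by
          have := Nat.le_of_dvd (orderOf_pos y) h4; omega
        rw [orderOf_pow' y (by norm_num), hy4] at hy'
        norm_num at hy'
      refine ⟨hv2, ?_⟩
      have vi : v⁻¹ = v := inv_eq_of_mul_eq_one_right hv2
      have Xi : (X v)⁻¹ = X v := by show (x * v * x⁻¹)⁻¹ = x * v * x⁻¹; rw [mul_inv_rev, mul_inv_rev, inv_inv, vi, mul_assoc]
      have h1 : X (X v) = (v * X v)⁻¹ := eq_inv_of_mul_eq_one_right (hp3 v hv.1)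
      have h2 : X (X v) * X (X v) = 1 := by rw [← hXm, ← hXm, hv2]; simp [X]
      rw [h1, mul_inv_rev, vi, Xi] at h2
      show v * X v = X v * v
      calc v * X v = (X v * v)⁻¹ := by rw [mul_inv_rev, vi, Xi]
        _ = X v * v := inv_eq_of_mul_eq_one_right h2
    have cC : ∀ a ∈ C0, ∀ b ∈ C0, a * b = b * a := by
      intro a ha b hb
      have h1 := (facts _ (mul_mem ha hb)).1
      calc a * b = (a * b)⁻¹ := (inv_eq_of_mul_eq_one_right h1).symm
        _ = b * a := by rw [mul_inv_rev, inv_eq_of_mul_eq_one_right (facts a ha).1, inv_eq_of_mul_eq_one_right (facts b hb).1]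
    have cross : ∀ a ∈ C0, ∀ b ∈ C0, a * X b = X b * a := by
      intro a ha b hb
      obtain ⟨a2, aA⟩ := facts a ha
      obtain ⟨b2, bB⟩ := facts b hb
      obtain ⟨-, abAB⟩ := facts _ (mul_mem ha hb)
      rw [hXm] at abAB
      set A := X a
      set B := X b
      have A2 : A * A = 1 := by rw [← hXm, a2]; simp [X]
      have B2 : B * B = 1 := by rw [← hXm, b2]; simp [X]
      have hAB : A * B = B * A := by rw [← hXm, ← hXm, cC a ha b hb]
      have key : A * b * A * b = a * B * a * B := by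
        have h : a * b * (A * B) = A * B * (a * b) := abAB.eq
        have h2 : A * a * b * A * B = B * a * b := by
          calc A * a * b * A * B = A * (a * b * (A * B)) := by simp only [mul_assoc]
            _ = A * (A * B * (a * b)) := by rw [h]
            _ = _ := by simp only [← mul_assoc, A2, one_mul]
        calc A * b * A * b = a * (a * A) * b * A * (B * B) * b := by
              rw [B2, mul_one]; simp only [← mul_assoc, a2, one_mul]
          _ = a * (A * a * b * A * B) * B * b := by rw [aA.eq]; simp only [mul_assoc]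
          _ = a * (B * a * b) * B * b := by rw [h2]
          _ = a * B * a * (b * B) * b := by simp only [mul_assoc]
          _ = a * B * a * B * (b * b) := by rw [bB.eq]; simp only [mul_assoc]
          _ = _ := by rw [b2, mul_one]
      set c := a * B * a * B with hc
      have hXB : X B = b * B := by
        have h := hp3 b hb.1
        rw [eq_inv_of_mul_eq_one_right h, mul_inv_rev, inv_eq_of_mul_eq_one_right B2, inv_eq_of_mul_eq_one_right b2, bB.eq]
      have hc' : X c = c := by
        have hbc : B * A = A * B := hAB.symm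
        calc X c = A * (b * B) * (A * (b * B)) := by rw [hc, hXm, hXm, hXm, hXB]; simp only [mul_assoc]; rfl
          _ = A * b * (B * A) * (b * B) := by simp only [mul_assoc]
          _ = A * b * A * ((B * b) * B) := by rw [hbc]; simp only [mul_assoc]
          _ = A * b * A * b * (B * B) := by rw [← bB.eq]; simp only [mul_assoc]
          _ = c := by rw [B2, mul_one, key]
      have hc1 : c = 1 := hfix x hx3 hx1 c (mul_mem (mul_mem (mul_mem ha.1 (hXP b hb.1)) ha.1) (hXP b hb.1)) hc'
      calc a * B = (a * B)⁻¹ := (inv_eq_of_mul_eq_one_right (by rw [← mul_assoc]; exact hc1)).symm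
        _ = B * a := by rw [mul_inv_rev, inv_eq_of_mul_eq_one_right B2, inv_eq_of_mul_eq_one_right a2]
    let B0 : Subgroup G :=
      { carrier := {z | ∃ a ∈ C0, ∃ b ∈ C0, z = a * X b}
        one_mem' := ⟨1, one_mem _, 1, one_mem _, by simp [X]⟩
        mul_mem' := by
          rintro _ _ ⟨a, ha, b, hb, rfl⟩ ⟨a', ha', b', hb', rfl⟩
          refine ⟨a * a', mul_mem ha ha', b * b', mul_mem hb hb', ?_⟩
          rw [hXm]
          calc a * X b * (a' * X b') = a * (X b * a') * X b' := by simp only [mul_assoc]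
            _ = a * (a' * X b) * X b' := by rw [cross a' ha' b hb]
            _ = _ := by simp only [mul_assoc]
        inv_mem' := by
          rintro _ ⟨a, ha, b, hb, rfl⟩
          refine ⟨a⁻¹, inv_mem ha, b⁻¹, inv_mem hb, ?_⟩
          rw [mul_inv_rev]
          have e : (X b)⁻¹ = X b⁻¹ := by simp [X, mul_assoc]
          rw [e, cross a⁻¹ (inv_mem ha) b⁻¹ (inv_mem hb)] }
    have hB0P : B0 ≤ P := by rintro _ ⟨a, ha, b, hb, rfl⟩; exact mul_mem ha.1 (hXP b hb.1)
    have hB0ab : ∀ u ∈ B0, ∀ v ∈ B0, u * v = v * u := by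
      rintro _ ⟨a, ha, b, hb, rfl⟩ _ ⟨a', ha', b', hb', rfl⟩
      have c1 : Commute a a' := cC a ha a' ha'
      have c2 : Commute a (X b') := cross a ha b' hb'
      have c3 : Commute (X b) a' := (cross a' ha' b hb).symm
      have c4 : Commute (X b) (X b') := by show X b * X b' = X b' * X b; rw [← hXm, ← hXm, cC b hb b' hb']
      exact ((c1.mul_right c2).mul_left (c3.mul_right c4)).eq
    have hB0sq : ∀ u ∈ B0, u ^ 2 = 1 := by
      rintro _ ⟨a, ha, b, hb, rfl⟩
      rw [(show Commute a (X b) from cross a ha b hb).mul_pow, pow_two, pow_two, (facts a ha).1, ← hXm, (facts b hb).1]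
      simp [X]
    have hX1 : X 1 = 1 := by simp [X]
    have hC0B : C0 ≤ B0 := fun a ha => ⟨a, ha, 1, one_mem _, by rw [hX1, mul_one]⟩
    have hXXb : ∀ b ∈ C0, X (X b) = b * X b := by
      intro b hb
      rw [eq_inv_of_mul_eq_one_right (hp3 b hb.1), mul_inv_rev, inv_eq_of_mul_eq_one_right (facts b hb).1]
      have : (X b)⁻¹ = X b := inv_eq_of_mul_eq_one_right (by rw [← hXm, (facts b hb).1, hX1])
      rw [this, (facts b hb).2.eq]
    have hkB0 : ∀ u ∈ B0, k * u * k⁻¹ ∈ B0 := by
      rintro _ ⟨a, ha, b, hb, rfl⟩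
      have : k * (a * X b) * k⁻¹ = (k * a * k⁻¹) * (k * X b * k⁻¹) := by group
      rw [this, hfixed a ha, hkX, hfixed b hb, hXXb b hb]
      exact ⟨a * b, mul_mem ha hb, b, hb, by rw [mul_assoc]⟩
    have hPB : P ≤ B0 := by
      by_contra hne
      haveI := hPp.isNilpotent
      set N := P ⊓ Subgroup.normalizer (B0 : Set G) with hN
      have hlt : B0.subgroupOf P < ⊤ := lt_top_iff_ne_top.mpr fun h => hne (fun v hv => by
        have : (⟨v, hv⟩ : P) ∈ B0.subgroupOf P := h ▸ Subgroup.mem_top _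
        exact this)
      obtain ⟨z, hz, hzn⟩ := SetLike.exists_of_lt (Group.normalizerCondition_of_isNilpotent _ hlt)
      have hzN : (z : G) ∈ N := by
        refine ⟨z.2, ?_⟩
        rw [Subgroup.mem_normalizer_iff] at hz
        refine Subgroup.mem_normalizer_iff.mpr fun y => ⟨fun hy => (hz ⟨y, hB0P hy⟩).mp hy, fun hy => ?_⟩
        have hyP : y ∈ P := by
          have := mul_mem (mul_mem (inv_mem z.2) (hB0P hy)) z.2
          simpa [mul_assoc] using this
        exact (hz ⟨y, hyP⟩).mpr hy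
      have hBN : B0 ≤ N := le_inf hB0P Subgroup.le_normalizer
      set B' := B0.subgroupOf N with hB'
      haveI : B'.Normal := ⟨fun b hb g => (Subgroup.mem_normalizer_iff.mp g.2.2 _).mp hb⟩
      haveI : Nontrivial (N ⧸ B') := by
        rw [← not_subsingleton_iff_nontrivial, QuotientGroup.subsingleton_iff]
        intro h
        have : (⟨z, hzN⟩ : N) ∈ B' := h ▸ Subgroup.mem_top _
        exact hzn this
      have hNp : IsPGroup 2 (N ⧸ B') := (hPp.to_le inf_le_left).to_quotient B'
      haveI := hNp.center_nontrivial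
      obtain ⟨j, hj⟩ := IsPGroup.iff_card.mp (hNp.to_subgroup (Subgroup.center (N ⧸ B')))
      have hj0 : j ≠ 0 := by
        rintro rfl
        have := Finite.one_lt_card (α := Subgroup.center (N ⧸ B'))
        rw [pow_zero] at hj; omega
      obtain ⟨ζ, hζ⟩ := exists_prime_orderOf_dvd_card' (G := Subgroup.center (N ⧸ B')) 2 (hj ▸ dvd_pow_self 2 hj0)
      obtain ⟨n, hn'⟩ := QuotientGroup.mk_surjective (ζ : N ⧸ B')
      have hn2 : (n : G) * n ∈ B0 := by
        have h2 : ((n : N ⧸ B')) ^ 2 = 1 := by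
          rw [hn', ← SubmonoidClass.coe_pow, ← hζ, pow_orderOf_eq_one]; rfl
        rw [← QuotientGroup.mk_pow, QuotientGroup.eq_one_iff, pow_two] at h2
        exact h2
      have hnB : (n : G) ∉ B0 := by
        intro h
        have h1 : (n : N ⧸ B') = 1 := (QuotientGroup.eq_one_iff n).mpr h
        rw [hn'] at h1
        rw [show ζ = 1 from Subtype.ext h1, orderOf_one] at hζ
        norm_num at hζ
      have hncent : ∀ m ∈ N, (n : G) * m * (n : G)⁻¹ * m⁻¹ ∈ B0 := by
        intro m hm
        have h2 : (QuotientGroup.mk' B') ⁅n, (⟨m, hm⟩ : N)⁆ = 1 := by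
          rw [map_commutatorElement, commutatorElement_eq_one_iff_mul_comm]
          show (n : N ⧸ B') * _ = _ * (n : N ⧸ B')
          rw [hn']; exact (Subgroup.mem_center_iff.mp ζ.2 _).symm
        exact (QuotientGroup.eq_one_iff (N := B') _).mp h2
      have hkB0' : ∀ u, k * u * k⁻¹ ∈ B0 → u ∈ B0 := fun u h => by
        have := hkB0 _ h
        rwa [show k * (k * u * k⁻¹) * k⁻¹ = (k * k) * u * (k * k)⁻¹ by group, ← pow_two, hk2, one_mul, inv_one, mul_one] at this
      have hkN : ∀ m ∈ N, k * m * k⁻¹ ∈ N := by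
        intro m hm
        refine ⟨hn.conj_mem m hm.1 k, ?_⟩
        have hkn : k ∈ Subgroup.normalizer (B0 : Set G) :=
          Subgroup.mem_normalizer_iff.mpr fun u => ⟨hkB0 u, hkB0' u⟩
        exact (Subgroup.normalizer _).mul_mem ((Subgroup.normalizer _).mul_mem hkn hm.2) ((Subgroup.normalizer _).inv_mem hkn)
      -- a coset fixed by `k`
      obtain ⟨m, hm, hmB, hmfix⟩ : ∃ m ∈ N, m ∉ B0 ∧ m⁻¹ * (k * m * k⁻¹) ∈ B0 := by
        by_cases hfx : (n : G) * (k * n * k⁻¹) ∈ B0
        · refine ⟨n, n.2, hnB, ?_⟩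
          have key : ∀ a c : G, a⁻¹ * c = (a * a)⁻¹ * (a * c) := fun a c => by group
          rw [key]
          exact mul_mem (inv_mem hn2) hfx
        · refine ⟨_, mul_mem n.2 (hkN n n.2), hfx, ?_⟩
          set n' := k * (n : G) * k⁻¹ with hn''
          have e : k * ((n : G) * n') * k⁻¹ = n' * n := by
            rw [show k * ((n : G) * n') * k⁻¹ = n' * ((k * k) * n * (k * k)⁻¹) by rw [hn'']; group, ← pow_two, hk2]
            group
          rw [e]
          have hd := hncent n' (hkN n n.2)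
          have key : ∀ a c : G, (a * c)⁻¹ * (c * a) = (a * c)⁻¹ * (a * c * a⁻¹ * c⁻¹)⁻¹ * (a * c) := fun a c => by group
          have e2 := key (n : G) n'
          rw [e2]
          have hnn : ((n : G) * n')⁻¹ ∈ Subgroup.normalizer (B0 : Set G) :=
            (Subgroup.normalizer _).inv_mem (mul_mem n.2 (hkN n n.2) : (n : G) * n' ∈ N).2
          have := (Subgroup.mem_normalizer_iff.mp hnn _).mp (inv_mem hd)
          rwa [inv_inv] at this
      set b := m⁻¹ * (k * m * k⁻¹) with hb
      have hkm : k * m * k⁻¹ = m * b := by rw [hb]; group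
      have hkb : k * b * k⁻¹ = b := by
        have hbb : b * b = 1 := by rw [← pow_two]; exact hB0sq b hmfix
        have : m * b * (k * b * k⁻¹) = m := by
          calc m * b * (k * b * k⁻¹) = (k * m * k⁻¹) * (k * b * k⁻¹) := by rw [hkm]
            _ = k * (m * b) * k⁻¹ := by group
            _ = k * (k * m * k⁻¹) * k⁻¹ := by rw [hkm]
            _ = (k * k) * m * (k * k)⁻¹ := by group
            _ = m := by rw [← pow_two, hk2]; group
        rw [mul_assoc] at this
        have h2 : b * (k * b * k⁻¹) = 1 := by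
          have := congrArg (m⁻¹ * ·) this
          simpa using this
        rw [← inv_eq_of_mul_eq_one_right h2, inv_eq_of_mul_eq_one_right hbb]
      have hbC : b ∈ C0 := ⟨hB0P hmfix, Subgroup.mem_centralizer_singleton_iff.mpr (mul_inv_eq_iff_eq_mul.mp hkb).symm⟩
      refine hmB ?_
      have hv : m * X b ∈ C0 := by
        refine ⟨mul_mem hm.1 (hXP b hbC.1), Subgroup.mem_centralizer_singleton_iff.mpr ?_⟩
        refine (mul_inv_eq_iff_eq_mul.mp ?_).symm
        calc k * (m * X b) * k⁻¹ = (k * m * k⁻¹) * (k * X b * k⁻¹) := by group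
          _ = m * (b * b) * X b := by rw [hkm, hkX, hkb, hXXb b hbC]; simp only [mul_assoc]
          _ = _ := by rw [(facts b hbC).1, mul_one]
      have hXbB : X b ∈ B0 := ⟨1, one_mem _, b, hbC, (one_mul _).symm⟩
      simpa using mul_mem (hC0B hv) (inv_mem hXbB)
    exact ⟨⟨⟨fun u v => Subtype.ext (hB0ab u (hPB u.2) v (hPB v.2))⟩⟩, fun u hu => hB0sq u (hPB hu)⟩

/-- A finite group whose set of element orders is exactly {1, 2, 3, 4} has a normal subgroup N such that either N is a 2-group of exponent 4 and nilpotency class at most 2 with G/N of order 3, or N is an elementary abelian 2-group with G/N isomorphic to the symmetric group of degree 3, or N is an elementary abelian 3-group with G/N cyclic of order 4 or quaternion of order 8. -/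
theorem result {G : Type*} [Group G] [Finite G] (h : Set.range (orderOf : G → ℕ) = {k : ℕ | 1 ≤ k ∧ k ≤ 4}) :
    ∃ (N : Subgroup G) (_ : N.Normal),
      (IsPGroup 2 ↥N ∧ Monoid.exponent ↥N = 4 ∧ Group.nilpotencyClass ↥N ≤ 2 ∧ N.index = 3) ∨
      (Cfsg.IsElementaryAbelian 2 N ∧ Nonempty (G ⧸ N ≃* Equiv.Perm (Fin 3))) ∨
      (Cfsg.IsElementaryAbelian 3 N ∧ ((IsCyclic (G ⧸ N) ∧ N.index = 4) ∨ Nonempty (G ⧸ N ≃* QuaternionGroup 2))) := by
  classical
  have hord : ∀ g : G, orderOf g ≤ 4 := fun g => by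
    have : orderOf g ∈ {k : ℕ | 1 ≤ k ∧ k ≤ 4} := h ▸ Set.mem_range_self g
    exact this.2
  have hex : ∀ k, 1 ≤ k → k ≤ 4 → ∃ g : G, orderOf g = k := fun k h1 h2 => by
    have : k ∈ Set.range (orderOf : G → ℕ) := h ▸ (show k ∈ {k : ℕ | 1 ≤ k ∧ k ≤ 4} from ⟨h1, h2⟩)
    exact this
  obtain ⟨a, b, hcard⟩ : ∃ a b, Nat.card G = 2 ^ a * 3 ^ b := by
    have hpr : ∀ q ∈ (Nat.card G).primeFactors, q = 2 ∨ q = 3 := by
      intro q hq
      obtain ⟨hqp, hqd, -⟩ := Nat.mem_primeFactors.mp hq
      haveI := Fact.mk hqp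
      obtain ⟨g, hg⟩ := exists_prime_orderOf_dvd_card' (G := G) q hqd
      have := hord g
      rw [hg] at this
      have := hqp.two_le
      rcases (show q = 2 ∨ q = 3 ∨ q = 4 by omega) with h | h | h
      · exact Or.inl h
      · exact Or.inr h
      · rw [h] at hqp; norm_num at hqp
    refine ⟨(Nat.card G).factorization 2, (Nat.card G).factorization 3, ?_⟩
    rw [← Finset.prod_pair (f := fun q => q ^ (Nat.card G).factorization q) (show (2 : ℕ) ≠ 3 by norm_num)]
    refine (Nat.prod_primeFactors_pow_factorization (n := Nat.card G) Nat.card_pos.ne').trans (Finset.prod_subset (fun q hq => by simpa using hpr q hq) fun q _ hq => ?_)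
    rw [Finsupp.notMem_support_iff.mp (by rwa [Nat.support_factorization]), pow_zero]
  haveI : Group.IsSolvable G := Cfsg.Agent.S0144.result 2 3 a b Nat.prime_two Nat.prime_three hcard
  haveI : Nontrivial G := by
    obtain ⟨g, hg⟩ := hex 2 (by norm_num) (by norm_num)
    exact nontrivial_of_ne g 1 (fun e => by rw [e, orderOf_one] at hg; norm_num at hg)
  obtain ⟨r, hr, hne⟩ := Cfsg.Lib.Solv.WardRank.exists_pCore_ne_bot (G := G)
  have hr23 : r = 2 ∨ r = 3 := by
    haveI := Fact.mk hr
    haveI : Nontrivial (Cfsg.pCore r G) := (Subgroup.nontrivial_iff_ne_bot _).mpr hne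
    obtain ⟨k, hk0, hk⟩ := (IsPGroup.nontrivial_iff_card (Cfsg.Lib.Core.pCore_isPGroup r G)).mp inferInstance
    obtain ⟨g, hg⟩ := exists_prime_orderOf_dvd_card' (G := G) r
      ((dvd_pow_self r hk0.ne').trans (hk ▸ Subgroup.card_subgroup_dvd_card _))
    have := hord g
    rw [hg] at this
    have := hr.two_le
    rcases (show r = 2 ∨ r = 3 ∨ r = 4 by omega) with h | h | h
    · exact Or.inl h
    · exact Or.inr h
    · rw [h] at hr; norm_num at hr
  rcases hr23 with rfl | rfl
  · obtain ⟨N, hN, hc | hc⟩ := caseTwo hord (hex 3 (by norm_num) (by norm_num)) (hex 4 (by norm_num) le_rfl) hne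
    · exact ⟨N, hN, Or.inl hc⟩
    · exact ⟨N, hN, Or.inr (Or.inl hc)⟩
  · obtain ⟨N, hN, hc⟩ := caseThree hord (hex 4 (by norm_num) le_rfl) hne
    exact ⟨N, hN, Or.inr (Or.inr hc)⟩

end Cfsg.Agent.S4006
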