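import Cfsg.Statements.S1012
import Cfsg.Agent.Lib.Small.SimpleOrder
-- import your own Cfsg.Agent.* helpers here

set_option autoImplicit false
open Cfsg

namespace Cfsg.Agent.S1012

theorem no_commuting {G : Type*} [Group G] (h6 : ∀ g : G, orderOf g ≠ 6) {a b : G}
    (ha : orderOf a = 2) (hb : orderOf b = 3) : ¬ Commute a b := fun hab => by
  refine h6 (a * b) ?_
  rw [hab.orderOf_mul_eq_mul_orderOf_of_coprime (by rw [ha, hb]; norm_num), ha, hb]


/-- A group of order 24 containing no element of order 6 is isomorphic to the symmetric group of degree 4. -/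
theorem result {G : Type*} [Group G] [Finite G] (h : Nat.card G = 24) (h6 : ∀ g : G, orderOf g ≠ 6) : Nonempty (G ≃* Equiv.Perm (Fin 4)) := by
  classical
  have := Fact.mk Nat.prime_three
  have := Fact.mk Nat.prime_two
  have hc3 : ∀ P : Sylow 3 G, Nat.card (P : Subgroup G) = 3 := fun P => by
    rw [Cfsg.Lib.Small.card_sylow 1 8 (by rw [h]; norm_num) (by norm_num) P, pow_one]
  obtain ⟨P⟩ : Nonempty (Sylow 3 G) := inferInstance
  obtain ⟨⟨z, hzP⟩, hz⟩ := exists_prime_orderOf_dvd_card' (G := (P : Subgroup G)) 3 (by rw [hc3])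
  rw [Subgroup.orderOf_mk] at hz
  have hn : Nat.card (Sylow 3 G) = 4 := by
    have hd : Nat.card (Sylow 3 G) ∣ 8 := by
      have h1 := P.card_dvd_index
      have h2 := Subgroup.card_mul_index (P : Subgroup G)
      rw [hc3, h] at h2
      rwa [show (P : Subgroup G).index = 8 by omega] at h1
    have hm : Nat.card (Sylow 3 G) % 3 = 1 % 3 := card_sylow_modEq_one 3 G
    have hle := Nat.le_of_dvd (by norm_num) hd
    by_contra hne
    have h1 : Nat.card (Sylow 3 G) = 1 := by
      interval_cases (Nat.card (Sylow 3 G)) <;> omega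
    have hN := Cfsg.Lib.Small.card_normalizer_mul P
    rw [h1, one_mul, h] at hN
    have hr := Cfsg.Lib.Small.relIndex_centralizer_dvd (P : Subgroup G) (hc3 P)
    have hle' := Nat.le_of_dvd (by norm_num) hr
    have hCN : Subgroup.centralizer ((P : Subgroup G) : Set G) ≤
        Subgroup.normalizer ((P : Subgroup G) : Set G) := Subgroup.centralizer_le_normalizer _
    have hcm : Nat.card ↥(Subgroup.centralizer ((P : Subgroup G) : Set G)) *
        (Subgroup.centralizer ((P : Subgroup G) : Set G)).relIndex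
          (Subgroup.normalizer ((P : Subgroup G) : Set G)) = 24 := by
      rw [← hN, ← Subgroup.relIndex_bot_left, ← Subgroup.relIndex_bot_left]
      exact Subgroup.relIndex_mul_relIndex _ _ _ bot_le hCN
    have heven : 2 ∣ Nat.card ↥(Subgroup.centralizer ((P : Subgroup G) : Set G)) := by
      have := Nat.pos_of_dvd_of_pos hr (by norm_num)
      interval_cases hh : (Subgroup.centralizer ((P : Subgroup G) : Set G)).relIndex
          (Subgroup.normalizer ((P : Subgroup G) : Set G)) <;> omega
    obtain ⟨⟨a, ha⟩, hao⟩ := exists_prime_orderOf_dvd_card' 2 heven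
    rw [Subgroup.orderOf_mk] at hao
    exact no_commuting h6 hao hz (Subgroup.mem_centralizer_iff.mp ha z hzP).symm
  have e : Sylow 3 G ≃ Fin 4 := (Finite.equivFin _).trans (finCongr hn)
  let f : G →* Equiv.Perm (Fin 4) := e.permCongrHom.toMonoidHom.comp (MulAction.toPermHom G (Sylow 3 G))
  have hfix : ∀ k ∈ f.ker, ∀ Q : Sylow 3 G, k ∈ Subgroup.normalizer ((Q : Subgroup G) : Set G) := by
    intro k hk Q
    refine Sylow.smul_eq_iff_mem_normalizer.mp ?_
    have h1 : MulAction.toPermHom G (Sylow 3 G) k = 1 := by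
      apply e.permCongrHom.injective
      rw [map_one]
      exact hk
    exact Equiv.congr_fun h1 Q
  have hcardN : ∀ Q : Sylow 3 G, Nat.card ↥(Subgroup.normalizer ((Q : Subgroup G) : Set G)) = 6 := fun Q => by
    have := Cfsg.Lib.Small.card_normalizer_mul Q
    rw [hn, h] at this
    omega
  have hk6 : Nat.card f.ker ∣ 6 := hcardN P ▸ Subgroup.card_dvd_of_le fun k hk => hfix k hk P
  have hker : f.ker = ⊥ := by
    by_contra hne
    have hk1 : Nat.card f.ker ≠ 1 := fun h1 => hne (Subgroup.eq_bot_of_card_eq _ h1)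
    by_cases h3 : 3 ∣ Nat.card f.ker
    · obtain ⟨⟨a, ha⟩, hao⟩ := exists_prime_orderOf_dvd_card' 3 h3
      rw [Subgroup.orderOf_mk] at hao
      obtain ⟨Q, hQ⟩ := Cfsg.Lib.Small.exists_sylow_eq_zpowers hc3 hao
      have hall : ∀ R : Sylow 3 G, (R : Subgroup G) ≤ f.ker := by
        intro R
        obtain ⟨g, rfl⟩ := MulAction.exists_smul_eq G Q R
        rintro _ ⟨x, hx, rfl⟩
        rw [SetLike.mem_coe, hQ] at hx
        exact (inferInstance : f.ker.Normal).conj_mem x (Subgroup.zpowers_le.mpr ha hx) g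
      have hcount := Cfsg.Lib.Small.card_orderOf_eq hc3
      rw [hn] at hcount
      have hle : Nat.card {g : G // orderOf g = 3} ≤ Nat.card f.ker := by
        refine Nat.card_le_card_of_injective (fun g => (⟨g.1, ?_⟩ : f.ker)) fun a b hab =>
          Subtype.ext (congrArg (fun x : f.ker => (x : G)) hab)
        obtain ⟨R, hR⟩ := Cfsg.Lib.Small.exists_sylow_eq_zpowers hc3 g.2
        exact hall R (hR ▸ Subgroup.mem_zpowers _)
      have := Nat.le_of_dvd (by norm_num) hk6
      omega
    · have h2 : Nat.card f.ker = 2 := by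
        have := Nat.le_of_dvd (by norm_num) hk6
        have := Nat.pos_of_dvd_of_pos hk6 (by norm_num)
        interval_cases hh : Nat.card f.ker <;> omega
      obtain ⟨⟨a, ha⟩, hao⟩ := exists_prime_orderOf_dvd_card' 2 (h2 ▸ dvd_rfl : 2 ∣ Nat.card f.ker)
      rw [Subgroup.orderOf_mk] at hao
      have ha1 : a ≠ 1 := fun h => by rw [h, orderOf_one] at hao; norm_num at hao
      have h4 := Cfsg.Lib.Small.zpowers_eq_of_prime_card (p := 2) h2
        ((inferInstance : f.ker.Normal).conj_mem a ha z) (fun h => ha1 (by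
          rw [mul_inv_eq_one, mul_eq_left] at h; exact h))
      have h5 : a = z * a * z⁻¹ := by
        have : a ∈ Subgroup.zpowers (z * a * z⁻¹) := h4.symm ▸ ha
        obtain ⟨i, hi⟩ := Subgroup.mem_zpowers_iff.mp this
        rw [← Int.emod_add_mul_ediv i 2, zpow_add, zpow_mul] at hi
        have hsq : (z * a * z⁻¹) ^ (2 : ℤ) = 1 := by
          rw [show (2 : ℤ) = ((2 : ℕ) : ℤ) from rfl, zpow_natCast, conj_pow, ← hao, pow_orderOf_eq_one,
            mul_one, mul_inv_cancel]
        rw [hsq, one_zpow, mul_one] at hi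
        rcases Int.emod_two_eq i with h | h <;> rw [h] at hi
        · rw [zpow_zero] at hi; exact absurd hi.symm ha1
        · rw [zpow_one] at hi; exact hi.symm
      exact no_commuting h6 hao hz (eq_mul_inv_iff_mul_eq.mp h5)
  have hinj : Function.Injective f := (MonoidHom.ker_eq_bot_iff f).mp hker
  refine ⟨MulEquiv.ofBijective f (hinj.bijective_of_nat_card_le ?_)⟩
  rw [Nat.card_perm, Nat.card_fin, h]
  decide

end Cfsg.Agent.S1012
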