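import Cfsg.Statements.S3331
import Cfsg.Agent.Lib.Recog.SelfThree.Main
import Cfsg.Agent.S0495

set_option autoImplicit false
open Cfsg

namespace Cfsg.Agent.S3331

/-- Let G be a finite group containing a subgroup X of order 3 with C_G(X) = X. Then one of the following holds: G has a nilpotent normal subgroup N of order prime to 3 with G/N of order 3 or isomorphic to Sym(3); or G has an elementary abelian normal 2-subgroup N with G/N isomorphic to the alternating group of degree 5; or G is isomorphic to PSL(2,7). -/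
theorem result {G : Type*} [Group G] [Finite G]
    (X : Subgroup G) (hX : Nat.card X = 3) (hC : Subgroup.centralizer (X : Set G) = X) :
    (∃ (N : Subgroup G) (hN : N.Normal), Group.IsNilpotent N ∧ (Nat.card N).Coprime 3 ∧
        (Nat.card (G ⧸ N) = 3 ∨ Nonempty (G ⧸ N ≃* Equiv.Perm (Fin 3)))) ∨
    (∃ (N : Subgroup G) (hN : N.Normal), IsMulCommutative N ∧ (∀ n ∈ N, n ^ 2 = 1) ∧
        Nonempty (G ⧸ N ≃* alternatingGroup (Fin 5))) ∨
    Nonempty (G ≃* Matrix.ProjectiveSpecialLinearGroup (Fin 2) (ZMod 7)) := by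
  haveI := Fact.mk Nat.prime_three
  obtain ⟨⟨x, hx⟩, hxo⟩ := exists_prime_orderOf_dvd_card' (G := X) 3 (by rw [hX])
  rw [Subgroup.orderOf_mk] at hxo
  have hXx : Subgroup.zpowers x = X :=
    Subgroup.eq_of_le_of_card_ge (Subgroup.zpowers_le.2 hx) (by rw [Nat.card_zpowers, hxo, hX])
  have h : Cfsg.Lib.Recog.SelfThree.SC x := by
    refine ⟨hxo, fun g hg => ?_⟩
    rw [hXx, ← hC, Subgroup.mem_centralizer_iff]
    intro v hv
    rw [← hXx] at hv
    obtain ⟨i, rfl⟩ := hv
    exact ((show Commute g x from hg).zpow_right i).eq.symm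
  rcases Cfsg.Lib.Recog.SelfThree.struct_of_sc h with ⟨N, hN, hN3, hidx⟩ | ⟨E, hE, -, hE2, he⟩ | ⟨hs, hcard⟩
  · refine Or.inl ⟨N, hN, h.nilpotent ⟨fun k hk => hN.conj_mem k hk x, hN3⟩,
      ((Nat.Prime.coprime_iff_not_dvd Nat.prime_three).2 hN3).symm, ?_⟩
    haveI := hN
    rcases hidx with e | e
    · exact Or.inl e
    · refine Or.inr (Cfsg.Agent.S4006.iso_three e fun g hg => ?_)
      have hy := h.quotient (K := N) hN3
      have h2 : orderOf (g ^ 2) = 3 := by rw [orderOf_pow' g two_ne_zero, hg]; rfl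
      have hy2 : Cfsg.Lib.Recog.SelfThree.SC (g ^ 2) := by
        obtain ⟨c, hc | hc⟩ := hy.exists_conj h2
        · exact hc ▸ hy.conj c
        · exact hc ▸ hy.inv.conj c
      have := orderOf_dvd_of_mem_zpowers (hy2.2 g ((Commute.refl g).pow_right 2).eq)
      rw [hg, h2] at this
      norm_num at this
  · refine Or.inr (Or.inl ⟨E, hE, ⟨⟨fun a b => ?_⟩⟩, hE2, he⟩)
    have ha := hE2 a.1 a.2
    have hb := hE2 b.1 b.2
    have hab := hE2 (a.1 * b.1) (E.mul_mem a.2 b.2)
    rw [pow_two] at ha hb hab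
    apply Subtype.ext
    show a.1 * b.1 = b.1 * a.1
    calc a.1 * b.1 = (a.1 * b.1)⁻¹ := eq_inv_of_mul_eq_one_left hab
      _ = b.1⁻¹ * a.1⁻¹ := mul_inv_rev _ _
      _ = b.1 * a.1 := by rw [← eq_inv_of_mul_eq_one_left ha, ← eq_inv_of_mul_eq_one_left hb]
  · haveI := hs
    haveI : Fact (Nat.Prime 7) := ⟨by norm_num⟩
    exact Or.inr (Or.inr (Cfsg.Agent.S0495.result hcard (ZMod.card 7)))

end Cfsg.Agent.S3331
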