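import Cfsg.Statements.S0813
import Cfsg.Agent.Lib.Linear.AutPSL.Out
-- import your own Cfsg.Agent.* helpers here

set_option autoImplicit false
open Cfsg

namespace Cfsg.Agent.S0813

open Cfsg.Lib.Linear.AutPSL Matrix

/-- |Aut(PSL_n(q))|, q = p^f: for n ≥ 3 it is 2 f |PGL_n(q)|, and for n = 2 (q ≥ 4) it is f |PGL_2(q)|. -/
theorem result {F : Type*} [Field F] [Fintype F] (p f : ℕ) [Fact p.Prime] (hf : 1 ≤ f) (hF : Fintype.card F = p ^ f) (n : ℕ) (hn : 2 ≤ n) (h2 : n = 2 → 4 ≤ p ^ f) : Nat.card (MulAut (Matrix.ProjectiveSpecialLinearGroup (Fin n) F)) = (if n = 2 then 1 else 2) * f * Nat.card (Matrix.ProjGenLinGroup (Fin n) F) := by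
  classical
  haveI := charP_of_card hf hF
  haveI : Nontrivial (Fin n) := Fin.nontrivial_iff_two_le.2 hn
  obtain ⟨E⟩ := exists_galEquiv hf hF
  let H := (innd : GL (Fin n) F →* MulAut (Matrix.ProjectiveSpecialLinearGroup (Fin n) F)).range
  have hker : (innd : GL (Fin n) F →* MulAut (Matrix.ProjectiveSpecialLinearGroup (Fin n) F)).ker =
      Subgroup.center (GL (Fin n) F) := by
    ext g
    rw [MonoidHom.mem_ker]
    refine ⟨fun h => ?_, fun h => innd_scalar ?_⟩
    · obtain ⟨r, hr⟩ := innd_eq_one h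
      refine Subgroup.mem_center_iff.2 fun x => Units.ext ?_
      rw [Units.val_mul, Units.val_mul, ← hr]
      exact (Matrix.scalar_commute r (Commute.all r) x.val).eq.symm
    · refine Matrix.mem_range_scalar_of_commute_single fun i j hij => ?_
      have hu : IsUnit (1 + Matrix.single i j (1 : F)).det := by
        rw [show (1 + Matrix.single i j (1 : F)) = Matrix.transvection i j 1 from rfl,
          Matrix.det_transvection_of_ne i j hij]
        exact isUnit_one
      have h1 := congrArg Units.val (Subgroup.mem_center_iff.1 h (Matrix.GeneralLinearGroup.mk'' _ hu))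
      rw [Units.val_mul, Units.val_mul] at h1
      show Matrix.single i j 1 * g.val = g.val * Matrix.single i j 1
      change (1 + Matrix.single i j (1 : F)) * g.val = g.val * (1 + Matrix.single i j (1 : F)) at h1
      rw [add_mul, mul_add, one_mul, mul_one, add_right_inj] at h1
      exact h1
  have hH : Nat.card H = Nat.card (Matrix.ProjGenLinGroup (Fin n) F) := by
    rw [← Subgroup.index_ker, hker, Subgroup.index_eq_card]
    rfl
  have hgal : Nat.card (F ≃+* F) = f := by
    rw [Nat.card_congr E.toEquiv, Nat.card_congr Multiplicative.toAdd, Nat.card_zmod]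
  rcases eq_or_ne n 2 with h | h
  · subst h
    rw [if_pos rfl, one_mul, ← hH, ← hgal, ← Nat.card_prod]
    refine (Nat.card_eq_of_bijective (fun z : (F ≃+* F) × H => z.2.1 * fld z.1) ⟨?_, ?_⟩).symm
    · rintro ⟨σ, _, g, rfl⟩ ⟨σ', _, g', rfl⟩ he
      obtain rfl := fld_eq_of_eq hn he
      simp only [mul_left_inj] at he
      exact Prod.ext rfl (Subtype.ext he)
    · intro β
      obtain ⟨J, hJ⟩ := gr_eq_innd_two (F := F)
      obtain ⟨g, σ, h | h⟩ := exists_decomp (p := p) hn β
      · exact ⟨(σ, ⟨_, g, rfl⟩), h.symm⟩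
      · refine ⟨(σ, ⟨_, g * Matrix.GeneralLinearGroup.map σ.toRingHom J, rfl⟩), ?_⟩
        simp only
        rw [h, hJ, map_mul, mul_assoc, mul_assoc, fld_mul_innd]
  · rw [if_neg h, ← hH, ← hgal, show (2 : ℕ) = Nat.card Bool by simp, ← Nat.card_prod, ← Nat.card_prod]
    refine (Nat.card_eq_of_bijective
      (fun z : (Bool × (F ≃+* F)) × H => z.2.1 * fld z.1.2 * (if z.1.1 then gr else 1)) ⟨?_, ?_⟩).symm
    · rintro ⟨⟨b, σ⟩, _, g, rfl⟩ ⟨⟨b', σ'⟩, _, g', rfl⟩ he
      cases b <;> cases b' <;> simp only [Bool.false_eq_true, if_false, if_true, mul_one] at he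
      · obtain rfl := fld_eq_of_eq hn he
        rw [mul_left_inj] at he
        exact Prod.ext rfl (Subtype.ext he)
      · exact absurd he (ne_mul_gr (by omega) _ _ _ _)
      · exact absurd he.symm (ne_mul_gr (by omega) _ _ _ _)
      · rw [mul_left_inj] at he
        obtain rfl := fld_eq_of_eq hn he
        rw [mul_left_inj] at he
        exact Prod.ext rfl (Subtype.ext he)
    · intro β
      obtain ⟨g, σ, h | h⟩ := exists_decomp (p := p) hn β
      · exact ⟨((false, σ), ⟨_, g, rfl⟩), by simp [h]⟩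
      · exact ⟨((true, σ), ⟨_, g, rfl⟩), by simp [h]⟩

end Cfsg.Agent.S0813
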