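import Cfsg.Statements.S2476
import Mathlib
import Cfsg.Agent.Lib.Spec.LinearThree

set_option autoImplicit false
open Cfsg

namespace Cfsg.Agent.S2476



/-- The set of element orders of PSL(3,q): let F be a finite field of characteristic p with q elements and d = gcd(3, q − 1). The orders of elements of PSL(3,F) are exactly the divisors of (q² + q + 1)/d, of (q² − 1)/d, of q − 1, of p(q − 1)/d, and, when p = 2, of 4. -/
theorem result {F : Type*} [Field F] [Fintype F] (p : ℕ) [Fact p.Prime] [CharP F p] :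
    Set.range (orderOf : Matrix.ProjectiveSpecialLinearGroup (Fin 3) F → ℕ) =
      {m : ℕ | m ∣ (Fintype.card F ^ 2 + Fintype.card F + 1) / Nat.gcd 3 (Fintype.card F - 1) ∨
        m ∣ (Fintype.card F ^ 2 - 1) / Nat.gcd 3 (Fintype.card F - 1) ∨ m ∣ Fintype.card F - 1 ∨
        m ∣ p * (Fintype.card F - 1) / Nat.gcd 3 (Fintype.card F - 1) ∨ (p = 2 ∧ m ∣ 4)} := by
  classical
  open Cfsg.Lib.Spec.LThree Cfsg.Lib.Linear.AbsorbPSL in
  exact (by
    set q := Fintype.card F with hqF
    have hq : 2 ≤ q := Fintype.one_lt_card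
    set d := Nat.gcd 3 (q - 1) with hd
    have hd0 : 0 < d := Nat.gcd_pos_of_pos_left _ (by norm_num)
    obtain ⟨s, hs⟩ : d ∣ q - 1 := Nat.gcd_dvd_right _ _
    have hs0 : 0 < s := Nat.pos_of_ne_zero fun h => by rw [h, mul_zero] at hs; omega
    have hds : (q - 1) / d = s := by rw [hs, Nat.mul_div_cancel_left _ hd0]
    obtain ⟨ω, hω⟩ := IsCyclic.exists_ofOrder_eq_natCard (α := Fˣ)
    rw [Nat.card_units, Nat.card_eq_fintype_card, ← hqF] at hω
    have hωpow : ∀ t : ℕ, (ω : F) ^ t = 1 ↔ q - 1 ∣ t := fun t => by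
      rw [← Units.val_pow_eq_pow_val, Units.val_eq_one, ← orderOf_dvd_iff_pow_eq_one, hω]
    have hsd : ∀ t, q - 1 ∣ 3 * t → s ∣ t := by
      intro t ht
      obtain ⟨a, ha⟩ := Nat.gcd_dvd_left 3 (q - 1)
      have hc : Nat.Coprime s a := by
        have h := Nat.coprime_div_gcd_div_gcd (m := 3) (n := q - 1) hd0
        rw [← hd] at h ha
        rw [hds, ha, Nat.mul_div_cancel_left _ hd0] at h
        exact h.symm
      rw [← hd] at ha
      rw [hs, ha, mul_assoc] at ht
      exact hc.dvd_of_dvd_mul_left (Nat.dvd_of_mul_dvd_mul_left hd0 ht)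
    have take : ∀ (N m : ℕ), (∃ y : Matrix.ProjectiveSpecialLinearGroup (Fin 3) F, N ∣ orderOf y) → m ∣ N →
        m ∈ Set.range (orderOf : Matrix.ProjectiveSpecialLinearGroup (Fin 3) F → ℕ) := by
      rintro N m ⟨y, hy⟩ hm
      exact ⟨y ^ (orderOf y / m), orderOf_pow_orderOf_div (orderOf_pos y).ne' (hm.trans hy)⟩
    ext m
    constructor
    · rintro ⟨x, rfl⟩
      obtain ⟨g, rfl⟩ := QuotientGroup.mk_surjective x
      obtain ⟨k, hk, c, hc⟩ := exists_scalar_pow p g
      have hdvd : orderOf (QuotientGroup.mk g : Matrix.ProjectiveSpecialLinearGroup (Fin 3) F) ∣ k :=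
        orderOf_dvd_of_pow_eq_one ((cls_pow_eq_one_iff g k).2 ⟨c, hc⟩)
      rcases hk with rfl | rfl | rfl | rfl | ⟨hp, rfl⟩
      exacts [Or.inl hdvd, Or.inr (Or.inl hdvd), Or.inr (Or.inr (Or.inl hdvd)),
        Or.inr (Or.inr (Or.inr (Or.inl hdvd))), Or.inr (Or.inr (Or.inr (Or.inr ⟨hp, hdvd⟩)))]
    rintro (h | h | h | h | ⟨hp, h⟩)
    · refine take ((q ^ 2 + q + 1) / d) m ?_ h
      obtain ⟨y, hy⟩ := exists_singer (n := 3) (F := F) p
      refine ⟨y, dvd_trans (dvd_of_eq ?_) hy⟩
      show _ = (∑ i ∈ Finset.range 3, q ^ i) / Nat.gcd 3 (q - 1)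
      rw [Finset.sum_range_succ, Finset.sum_range_succ, Finset.sum_range_one, pow_zero, pow_one, ← hd]
      congr 1
      ring
    · refine take ((q ^ 2 - 1) / d) m ?_ h
      let K := FiniteField.Extension F p 2
      let b : Module.Basis (Fin 2) F K :=
        (Module.finBasis F K).reindex (finCongr (FiniteField.finrank_extension F p 2))
      haveI : Finite K := Module.finite_of_finite F
      obtain ⟨v, hv⟩ := IsCyclic.exists_ofOrder_eq_natCard (α := Kˣ)
      rw [Nat.card_units, FiniteField.natCard_extension, Nat.card_eq_fintype_card, ← hqF] at hv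
      set n := Algebra.norm F (v : K)
      have hn0 : n ≠ 0 := fun h => v.ne_zero (Algebra.norm_eq_zero_iff.1 h)
      refine block_multiple (Algebra.leftMulMatrix b (v : K)) n⁻¹
        (by rw [← Algebra.norm_eq_matrix_det, mul_inv_cancel₀ hn0]) fun t c hA he => ?_
      have hvc : (v : K) ^ t = algebraMap F K c := Algebra.leftMulMatrix_injective b (by
        rw [map_pow, hA, AlgHom.commutes]; rfl)
      have hc2 : c ^ 3 = 1 := by
        have h1 := congrArg (Algebra.norm F) hvc
        rw [map_pow, Algebra.norm_algebraMap, FiniteField.finrank_extension] at h1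
        change n ^ t = c ^ 2 at h1
        rw [inv_pow, h1] at he
        have hc0 : c ≠ 0 := fun h0 => pow_ne_zero t v.ne_zero (by rw [hvc, h0, map_zero])
        rw [inv_eq_iff_eq_inv] at he
        rw [pow_succ, he, inv_mul_cancel₀ hc0]
      have hcg : c ^ d = 1 := pow_gcd_eq_one.2 ⟨hc2, by
        rw [hqF]; exact FiniteField.pow_card_sub_one_eq_one c (fun h0 => by simp [h0] at hc2)⟩
      have hvd : v ^ (t * d) = 1 := Units.ext (by
        rw [Units.val_pow_eq_pow_val, pow_mul, hvc, ← map_pow, hcg, map_one, Units.val_one])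
      have := orderOf_dvd_of_pow_eq_one hvd
      rw [hv] at this
      refine (Nat.div_dvd_iff_dvd_mul ?_ hd0).2 (by rwa [mul_comm] at this)
      rw [sq_sub_one]
      exact dvd_mul_of_dvd_right (Nat.gcd_dvd_right _ _) _
    · refine take (q - 1) m ?_ h
      refine block_multiple !![(ω : F), 0; 0, ((ω⁻¹ : Fˣ) : F)] 1 (by simp [Matrix.det_fin_two]) fun t c hA he => ?_
      rw [one_pow] at he
      subst he
      rw [show (!![(ω : F), 0; 0, ((ω⁻¹ : Fˣ) : F)]) = Matrix.diagonal ![(ω : F), ((ω⁻¹ : Fˣ) : F)] by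
        ext i j; fin_cases i <;> fin_cases j <;> simp, Matrix.diagonal_pow] at hA
      have := congrFun (congrFun hA 0) 0
      simp at this
      exact (hωpow t).1 this
    · refine take (p * s) m ?_ (by rwa [Nat.mul_div_assoc _ (Nat.gcd_dvd_right _ _), ← hd, hds] at h)
      refine block_multiple !![(ω : F), 1; 0, (ω : F)] (((ω ^ 2)⁻¹ : Fˣ) : F)
        (by simp [Matrix.det_fin_two, sq]; field_simp) fun t c hA he => ?_
      rw [upper_pow] at hA
      have e1 := congrFun (congrFun hA 0) 1
      have e0 := congrFun (congrFun hA 0) 0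
      simp at e1 e0
      have hpt : p ∣ t := (CharP.cast_eq_zero_iff F p t).1 e1
      have hst : s ∣ t := by
        refine hsd t ((hωpow _).1 ?_)
        rw [← e0, ← Units.val_pow_eq_pow_val, ← Units.val_pow_eq_pow_val, Units.val_inj] at he
        have h2 : ω ^ (3 * t) = 1 := by
          rw [inv_pow, ← pow_mul, inv_eq_iff_mul_eq_one, ← pow_add] at he
          rwa [show 3 * t = 2 * t + t by ring]
        rw [← Units.val_pow_eq_pow_val, h2, Units.val_one]
      refine Nat.Coprime.mul_dvd_of_dvd_of_dvd ?_ hpt hst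
      refine ((Fact.out : p.Prime).coprime_iff_not_dvd).2 fun hps => ?_
      obtain ⟨k, hp, hk⟩ := FiniteField.card F p
      have h1 : p ∣ q := by rw [hqF, hk]; exact dvd_pow_self _ k.ne_zero
      have h2 := Nat.dvd_sub h1 (hps.trans (hs ▸ dvd_mul_left s d))
      rw [Nat.sub_sub_self (show 1 ≤ q by omega)] at h2
      exact hp.ne_one (Nat.dvd_one.1 h2)
    · refine take 4 m ?_ h
      subst hp
      have h2 : (2 : F) = 0 := CharTwo.two_eq_zero
      set U : Matrix (Fin 3) (Fin 3) F := !![1, 1, 0; 0, 1, 1; 0, 0, 1]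
      have hU : U.det = 1 := by simp [U, Matrix.det_fin_three]
      refine exists_multiple ⟨U, hU⟩ fun t c hc => ?_
      change U ^ t = _ at hc
      have hU4 : U ^ 4 = 1 := by
        ext i j
        fin_cases i <;> fin_cases j <;>
          simp [U, pow_succ, Matrix.mul_apply, Fin.sum_univ_three, Matrix.one_apply] <;>
          first
          | linear_combination (2 : F) * h2
          | linear_combination (3 : F) * h2
      have hUt : U ^ t = U ^ (t % 4) := by
        conv_lhs => rw [← Nat.mod_add_div t 4, pow_add, pow_mul, hU4, one_pow, mul_one]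
      rw [hUt] at hc
      rcases (by omega : t % 4 = 0 ∨ t % 4 = 1 ∨ t % 4 = 2 ∨ t % 4 = 3) with e | e | e | e
      · exact Nat.dvd_of_mod_eq_zero e
      all_goals
        exfalso
        rw [e] at hc
        have e01 := congrFun (congrFun hc 0) 1
        have e02 := congrFun (congrFun hc 0) 2
        simp [U, pow_succ, Matrix.mul_apply, Fin.sum_univ_three] at e01 e02
      all_goals exact one_ne_zero (α := F) (by linear_combination e01 - h2))

end Cfsg.Agent.S2476
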