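import Cfsg.Statements.S1691
import Mathlib

set_option autoImplicit false
open Cfsg

namespace Cfsg.Agent.S1691
open Cfsg.Spor

def parity : Fi24.Gen → Multiplicative (ZMod 2) := fun _ => Multiplicative.ofAdd 1

theorem parity_rel : ∀ r ∈ coxRelators Fi24.edges ∪ {r | r ∈ Fi24.extra}, FreeGroup.lift parity r = 1 := by
  rintro r (⟨x, -, y, -, rfl⟩ | hr)
  · simp only [map_pow, map_mul, FreeGroup.lift_apply_of, parity]
    rw [show (Multiplicative.ofAdd (1 : ZMod 2)) * Multiplicative.ofAdd 1 = 1 from rfl, one_pow]
  · simp only [Fi24.extra, Set.mem_setOf_eq, List.mem_cons, List.not_mem_nil, or_false] at hr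
    rcases hr with rfl | rfl <;> simp [parity] <;> decide

/-- The commutator subgroup of the presented group Fi₂₄ has index 2 (the presented group is Fi₂₄′:2 with Fi₂₄′ its derived subgroup). -/
theorem result : (commutator Cfsg.Spor.Fi24).index = 2 := by
  set R : Set (FreeGroup Fi24.Gen) := coxRelators Fi24.edges ∪ {r | r ∈ Fi24.extra}
  let φ : Cfsg.Spor.Fi24 →* Multiplicative (ZMod 2) := PresentedGroup.toGroup parity_rel
  let q : Cfsg.Spor.Fi24 →* Abelianization Cfsg.Spor.Fi24 := Abelianization.of
  let v : Fi24.Gen → Abelianization Cfsg.Spor.Fi24 := fun x => q (PresentedGroup.of x)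
  have hrel : ∀ x ∈ coxNodes Fi24.edges, ∀ y ∈ coxNodes Fi24.edges,
      (v x * v y) ^ coxLabel Fi24.edges x y = 1 := by
    intro x hx y hy
    have h : PresentedGroup.mk R ((FreeGroup.of x * FreeGroup.of y) ^ coxLabel Fi24.edges x y) = 1 :=
      PresentedGroup.one_of_mem (Or.inl ⟨x, hx, y, hy, rfl⟩)
    have h' := congrArg q h
    simp only [map_pow, map_mul, map_one] at h'
    exact h'
  have hnode : ∀ x : Fi24.Gen, x ∈ coxNodes Fi24.edges := by intro x; cases x <;> decide
  have hsq : ∀ x, v x * v x = 1 := by
    intro x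
    have := hrel x (hnode x) x (hnode x)
    rwa [coxLabel, if_pos rfl, pow_one] at this
  have hedge : ∀ x y, coxLabel Fi24.edges x y = 3 → v x = v y := by
    intro x y h3
    have := hrel x (hnode x) y (hnode y)
    rw [h3] at this
    have h2 : (v x * v y) * (v x * v y) = 1 := by rw [mul_mul_mul_comm, hsq, hsq, one_mul]
    rw [pow_succ, pow_two, h2, one_mul] at this
    calc v x = v x * (v y * v y) := by rw [hsq, mul_one]
      _ = v y := by rw [← mul_assoc, this, one_mul]
  have e := fun x y h => hedge x y h
  have hd : ∀ x, v x = v .d := by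
    have c1 := e .c .d (by decide)
    have c2 := (e .b .c (by decide)).trans c1
    have c3 := (e .a .b (by decide)).trans c2
    have c4 := (e .k .a (by decide)).trans c3
    have c5 := (e .l .k (by decide)).trans c4
    have c6 := (e .d .e (by decide)).symm
    have c7 := (e .e .f (by decide)).symm.trans c6
    have c8 := (e .f .g (by decide)).symm.trans c7
    have c9 := (e .g .j (by decide)).symm.trans c8
    have c10 := (e .d .h (by decide)).symm
    have c11 := (e .h .i (by decide)).symm.trans c10
    intro x; cases x <;> first | assumption | rfl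
  have htop : Subgroup.zpowers (v .d) = ⊤ := by
    rw [eq_top_iff]
    intro z _
    obtain ⟨g, rfl⟩ := QuotientGroup.mk'_surjective (commutator Cfsg.Spor.Fi24) z
    have hg : g ∈ Subgroup.closure (Set.range (PresentedGroup.of (rels := R))) := by
      rw [PresentedGroup.closure_range_of]; trivial
    refine (Subgroup.closure_le ((Subgroup.zpowers (v .d)).comap q)).2 ?_ hg
    rintro _ ⟨x, rfl⟩
    show v x ∈ Subgroup.zpowers (v .d)
    rw [hd x]; exact Subgroup.mem_zpowers _
  have hne : v .d ≠ 1 := by
    intro h
    have h2 := congrArg (Abelianization.lift φ) h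
    simp [v, q, φ, parity] at h2
  show Nat.card (Abelianization Cfsg.Spor.Fi24) = 2
  rw [← Subgroup.card_top, ← htop, Nat.card_zpowers]
  exact orderOf_eq_prime (by rw [pow_two, hsq]) hne

end Cfsg.Agent.S1691
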