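import Cfsg.Statements.S0803
import Cfsg.Agent.Lib.Dickson.Necessity

set_option autoImplicit false
open Cfsg

namespace Cfsg.Agent.S0803

/-- PSL_2(q) has a subgroup isomorphic to S_4 iff q² ≡ 1 (mod 16). -/
theorem result {F : Type*} [Field F] [Fintype F] {q : ℕ} (hF : Fintype.card F = q) : (∃ H : Subgroup (Matrix.ProjectiveSpecialLinearGroup (Fin 2) F), Nonempty (H ≃* Equiv.Perm (Fin 4))) ↔ q ^ 2 % 16 = 1 := by
  subst hF
  constructor
  · rintro ⟨H, ⟨e⟩⟩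
    obtain ⟨x, h4, h2⟩ : ∃ x : Equiv.Perm (Fin 4), x ^ 4 = 1 ∧ ¬ x ^ 2 = 1 := ⟨finRotate 4, by decide, by decide⟩
    have hx : orderOf x = 4 := orderOf_eq_prime_pow (p := 2) (n := 1) (by simpa using h2) (by simpa using h4)
    haveI := Fact.mk Nat.prime_two
    refine Cfsg.Lib.Dickson.sq_mod_sixteen_of_orderOf_four (x := ((e.symm x : H) : _)) ?_
    rw [Subgroup.orderOf_coe, e.symm.orderOf_eq, hx]
  · intro h
    obtain ⟨h2, hsq⟩ := Cfsg.Lib.Dickson.isSquare_two_of_sq_mod h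
    exact Cfsg.Lib.Dickson.exists_perm_four (Cfsg.Lib.Dickson.two_ne_zero_of_odd h2) hsq

end Cfsg.Agent.S0803
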