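import Cfsg.Statements.S0804
import Cfsg.Agent.Lib.Dickson.Necessity

set_option autoImplicit false
open Cfsg

namespace Cfsg.Agent.S0804

/-- PSL_2(q) has a subgroup isomorphic to A_5 iff 5 ∣ q(q² − 1). -/
theorem result {F : Type*} [Field F] [Fintype F] {q : ℕ} (hF : Fintype.card F = q) : (∃ H : Subgroup (Matrix.ProjectiveSpecialLinearGroup (Fin 2) F), Nonempty (H ≃* alternatingGroup (Fin 5))) ↔ 5 ∣ q * (q ^ 2 - 1) := by
  subst hF
  constructor
  · rintro ⟨H, ⟨e⟩⟩
    obtain ⟨x, h5, h1⟩ : ∃ x : alternatingGroup (Fin 5), x ^ 5 = 1 ∧ x ≠ 1 := by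
      refine ⟨⟨finRotate 5, Equiv.Perm.mem_alternatingGroup.mpr (by rw [sign_finRotate]; decide)⟩, ?_, ?_⟩
      · exact Subtype.ext (by decide)
      · exact fun h => absurd (congrArg Subtype.val h) (by decide)
    haveI := Fact.mk (show Nat.Prime 5 by norm_num)
    refine Cfsg.Lib.Dickson.five_dvd_of_orderOf_five (x := ((e.symm x : H) : _)) ?_
    rw [Subgroup.orderOf_coe, e.symm.orderOf_eq, orderOf_eq_prime h5 h1]
  · intro h
    obtain ⟨p, hpp, hp, n, hn0, hn⟩ := Cfsg.Lib.Dickson.exists_char (F := F)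
    by_cases h2 : p = 2
    · subst h2
      refine Cfsg.Lib.Dickson.exists_alternating_five_even hn ?_
      by_contra ho
      rw [Nat.not_even_iff_odd] at ho
      obtain ⟨m, rfl⟩ := ho
      have key : ∀ j : ℕ, 2 ^ (2 * j + 1) % 5 = 2 ∨ 2 ^ (2 * j + 1) % 5 = 3 := by
        intro j
        induction j with
        | zero => simp
        | succ j ih =>
          have e : 2 ^ (2 * (j + 1) + 1) = 4 * 2 ^ (2 * j + 1) := by ring
          omega
      have hm := key m
      rw [hn] at h
      have h5 : Nat.Prime 5 := by norm_num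
      rcases h5.dvd_mul.mp h with h | h
      · have h0 := Nat.mod_eq_zero_of_dvd h
        rcases hm with e | e <;> rw [e] at h0 <;> simp at h0
      · rw [← Nat.modEq_zero_iff_dvd] at h
        have h' : (2 ^ (2 * m + 1)) ^ 2 % 5 = 1 := by
          have : 1 ≤ (2 ^ (2 * m + 1)) ^ 2 := Nat.one_le_pow _ _ (Nat.two_pow_pos _)
          unfold Nat.ModEq at h
          omega
        rw [sq, Nat.mul_mod] at h'
        rcases hm with e | e <;> rw [e] at h' <;> omega
    · have hodd : Fintype.card F % 2 = 1 := by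
        rw [hn]; exact Nat.odd_iff.mp ((hpp.odd_of_ne_two h2).pow)
      exact Cfsg.Lib.Dickson.exists_alternating_five (Cfsg.Lib.Dickson.two_ne_zero_of_odd hodd)
        (Cfsg.Lib.Dickson.isSquare_five_of hodd h)

end Cfsg.Agent.S0804
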