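import Cfsg.Statements.S4571
import Cfsg.Agent.Lib.Block.InflateRank

set_option autoImplicit false
open Cfsg

namespace Cfsg.Agent.S4571

/-- Let Q be a normal p-subgroup of the finite group G with G = Q·C_G(Q), and M a maximal ideal of the algebraic integers containing p. Then the principal p-blocks of G and of G/Q have the same p-regular rank (the same number of irreducible Brauer characters). -/
theorem result {G : Type*} [Group G] [Finite G] (p : ℕ) [Fact p.Prime] (M : Ideal Cfsg.AlgInt) (hM : Cfsg.IsPModular p M) (Q : Subgroup G) [Q.Normal] (hQ : IsPGroup p Q) (hsup : Q ⊔ Subgroup.centralizer (Q : Set G) = ⊤) : Cfsg.blockRank p (Cfsg.principalBlock M G) = Cfsg.blockRank p (Cfsg.principalBlock M (G ⧸ Q)) := by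
  classical
  haveI := Fintype.ofFinite G
  have hreg : ∀ g : G, ¬ p ∣ orderOf g → g ∈ Subgroup.centralizer (Q : Set G) := by
    intro g hg
    rw [← QuotientGroup.eq_one_iff]
    apply orderOf_eq_one_iff.1
    obtain ⟨k, hk⟩ := IsPGroup.iff_card.1 hQ
    have h1 : (Subgroup.centralizer (Q : Set G)).index ∣ p ^ k := by
      rw [← Subgroup.relIndex_top_right, ← hsup, Subgroup.relIndex_sup_right, ← hk]
      exact Subgroup.index_dvd_card _
    refine Nat.eq_one_of_dvd_coprimes
      (Nat.Coprime.pow_left k ((Fact.out : p.Prime).coprime_iff_not_dvd.2 hg)) ?_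
      (orderOf_map_dvd (QuotientGroup.mk' (Subgroup.centralizer (Q : Set G))) g)
    rw [Subgroup.index_eq_card] at h1
    exact (orderOf_dvd_natCard _).trans h1
  haveI := Fintype.ofFinite (G ⧸ Q)
  have hB := Cfsg.Lib.Block.isPBlock_principal (G := G) (M := M)
  rw [← Cfsg.Lib.Block.blockRank_deflSet hM Q hQ hreg hB]
  congr 1
  ext φ
  exact (Cfsg.Lib.Block.sameBlock_inflate_iff hM Q Q hQ le_rfl (fun g hg _ => hreg g hg)
    (Cfsg.Lib.Block.trivChar (G ⧸ Q)) φ).symm

end Cfsg.Agent.S4571
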