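import Cfsg.Statements.S0165
import Cfsg.Agent.Lib.MEleven.Basic

set_option autoImplicit false
open Cfsg

namespace Cfsg.Agent.S0165

/-- If p ^ n is the exact power of the prime p dividing the order of a finite group and p ^ n divides the degree of an irreducible complex representation, then its character vanishes at every element of order divisible by p. -/
theorem result {G : Type*} [Group G] [Finite G] {V : Type*} [AddCommGroup V] [Module ℂ V] [FiniteDimensional ℂ V] (ρ : Representation ℂ G V) [ρ.IsIrreducible] (p n : ℕ) (hp : p.Prime) (hn : p ^ n ∣ Nat.card G) (hn' : ¬ p ^ (n + 1) ∣ Nat.card G) (hdeg : p ^ n ∣ Module.finrank ℂ V) (x : G) (hx : p ∣ orderOf x) : ρ.character x = 0 := by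
  classical
  haveI := Fintype.ofFinite G
  haveI := Fact.mk hp
  let χ : IrrCharacter G := ⟨ρ.character, Cfsg.Lib.Char.isIrrCharacter_character ρ⟩
  have hd : Cfsg.charDegree (χ : G → ℂ) = Module.finrank ℂ V := by
    have h := Cfsg.Lib.MEleven.apply_one χ
    rw [show (χ : G → ℂ) 1 = (Module.finrank ℂ V : ℂ) from Representation.char_one ρ] at h
    exact_mod_cast h.symm
  have hG : (Nat.card G).factorization p = n :=
    le_antisymm (Nat.lt_succ_iff.1 (lt_of_not_ge fun h => hn'
        ((hp.pow_dvd_iff_le_factorization Nat.card_pos.ne').2 h)))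
      ((hp.pow_dvd_iff_le_factorization Nat.card_pos.ne').1 hn)
  have hpos : Cfsg.charDegree (χ : G → ℂ) ≠ 0 := (Cfsg.Lib.Block.charDegree_pos χ).ne'
  have hdeg' : (Cfsg.charDegree (χ : G → ℂ)).factorization p = (Nat.card G).factorization p :=
    le_antisymm ((Nat.factorization_le_iff_dvd hpos Nat.card_pos.ne').2
        (Cfsg.Lib.Block.charDegree_dvd_card χ) p)
      (hG.symm ▸ (hp.pow_dvd_iff_le_factorization hpos).1 (hd.symm ▸ hdeg))
  exact Cfsg.Lib.MEleven.apply_eq_zero_of_defectZero χ hdeg' hx

end Cfsg.Agent.S0165
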