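import Cfsg.Statements.S2300
import Cfsg.Agent.Lib.TwoDim.SLClass
-- import your own Cfsg.Agent.* helpers here

set_option autoImplicit false
open Cfsg

namespace Cfsg.Agent.S2300

open Cfsg.Lib.TwoDim in
theorem degree_cases {F : Type*} [Field F] [Fintype F] [DecidableEq F]
    {χ : Matrix.SpecialLinearGroup (Fin 2) F → ℂ} (h : χ ∈ baseSet F) :
    (χ = oneR F ∧ χ 1 = ((1 : ℕ) : ℂ)) ∨ (χ = stR F ∧ χ 1 = ((Fintype.card F : ℕ) : ℂ)) ∨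
      (χ ∈ psSet1 F ∧ χ 1 = ((Fintype.card F + 1 : ℕ) : ℂ)) ∨ (χ ∈ cuSet1 F ∧ χ 1 = ((Fintype.card F - 1 : ℕ) : ℂ)) := by
  rcases mem_baseSet.1 h with h | h | h | h
  · exact Or.inl ⟨h, h ▸ oneR_one⟩
  · exact Or.inr (Or.inl ⟨h, h ▸ stR_one⟩)
  · obtain ⟨a, -, rfl⟩ := mem_psSet1.1 h; exact Or.inr (Or.inr (Or.inl ⟨h, psR_one a⟩))
  · obtain ⟨a, -, rfl⟩ := mem_cuSet1.1 h; exact Or.inr (Or.inr (Or.inr ⟨h, cuR_one _⟩))

/-- Over a finite field F with q elements, q even, every irreducible complex character of SL₂ has degree 1, q − 1, q or q + 1; and when q ≥ 4 (so that these four numbers are distinct) there are exactly one irreducible character of degree 1, one of degree q, (q − 2)/2 of degree q + 1 and q/2 of degree q − 1. -/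
theorem result {F : Type*} [Field F] [Fintype F] [CharP F 2] :
    (∀ χ : Matrix.SpecialLinearGroup (Fin 2) F → ℂ, Cfsg.IsIrrCharacter (Matrix.SpecialLinearGroup (Fin 2) F) χ →
      χ 1 = 1 ∨ χ 1 = (Fintype.card F : ℂ) - 1 ∨ χ 1 = (Fintype.card F : ℂ) ∨ χ 1 = (Fintype.card F : ℂ) + 1) ∧
    (4 ≤ Fintype.card F →
      Nat.card {χ : Cfsg.IrrCharacter (Matrix.SpecialLinearGroup (Fin 2) F) // (χ : Matrix.SpecialLinearGroup (Fin 2) F → ℂ) 1 = 1} = 1 ∧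
      Nat.card {χ : Cfsg.IrrCharacter (Matrix.SpecialLinearGroup (Fin 2) F) // (χ : Matrix.SpecialLinearGroup (Fin 2) F → ℂ) 1 = (Fintype.card F : ℂ)} = 1 ∧
      Nat.card {χ : Cfsg.IrrCharacter (Matrix.SpecialLinearGroup (Fin 2) F) // (χ : Matrix.SpecialLinearGroup (Fin 2) F → ℂ) 1 = (Fintype.card F : ℂ) + 1} = (Fintype.card F - 2) / 2 ∧
      Nat.card {χ : Cfsg.IrrCharacter (Matrix.SpecialLinearGroup (Fin 2) F) // (χ : Matrix.SpecialLinearGroup (Fin 2) F → ℂ) 1 = (Fintype.card F : ℂ) - 1} = Fintype.card F / 2) := by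
  classical
  set q := Fintype.card F with hq
  have h1 : 2 ≤ q := Cfsg.Lib.TwoDim.two_le_q
  have heven : Even q := Nat.even_iff.2 (FiniteField.even_card_iff_char_two.1 (ringChar.eq F 2))
  refine ⟨fun χ hχ => ?_, fun h4 => ?_⟩
  · rcases degree_cases ((Cfsg.Lib.TwoDim.isIrr_sl_even heven χ).1 hχ) with ⟨-, h⟩ | ⟨-, h⟩ | ⟨-, h⟩ | ⟨-, h⟩ <;> rw [h]
    · exact Or.inl Nat.cast_one
    · exact Or.inr (Or.inr (Or.inl rfl))
    · exact Or.inr (Or.inr (Or.inr (by push_cast; rfl)))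
    · exact Or.inr (Or.inl (by rw [Nat.cast_sub (by omega), Nat.cast_one]))
  have key : ∀ (c : ℕ) (S : Finset (Matrix.SpecialLinearGroup (Fin 2) F → ℂ)),
      (∀ f, f ∈ S ↔ f ∈ Cfsg.Lib.TwoDim.baseSet F ∧ f 1 = (c : ℂ)) →
      Nat.card {χ : Cfsg.IrrCharacter (Matrix.SpecialLinearGroup (Fin 2) F) //
        (χ : Matrix.SpecialLinearGroup (Fin 2) F → ℂ) 1 = (c : ℂ)} = S.card := fun c S hS => by
    rw [Cfsg.Lib.TwoDim.card_irr_filter (fun f => Cfsg.Lib.TwoDim.isIrr_sl_even heven f) (fun f => f 1 = (c : ℂ))]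
    congr 1
    ext f
    rw [Finset.mem_filter, hS]
  have e1 : ((1 : ℕ) : ℂ) = 1 := Nat.cast_one
  have e2 : ((q + 1 : ℕ) : ℂ) = (q : ℂ) + 1 := by push_cast; rfl
  have e3 : ((q - 1 : ℕ) : ℂ) = (q : ℂ) - 1 := by rw [Nat.cast_sub (by omega), Nat.cast_one]
  obtain ⟨m, hm⟩ := heven
  have hA := Cfsg.Lib.TwoDim.two_mul_card_psSet1 (F := F)
  have hB := Cfsg.Lib.TwoDim.two_mul_card_cuSet1 (F := F)
  rw [← hq] at hA hB
  rw [(Nat.coprime_two_right.2 ⟨m - 1, by omega⟩ : Nat.Coprime (q - 1) 2)] at hA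
  rw [(Nat.coprime_two_right.2 ⟨m, by omega⟩ : Nat.Coprime (q + 1) 2)] at hB
  have k1 := key 1 {Cfsg.Lib.TwoDim.oneR F} fun f => by
    rw [Finset.mem_singleton]
    refine ⟨fun h => ⟨Cfsg.Lib.TwoDim.mem_baseSet.2 (Or.inl h), h ▸ Cfsg.Lib.TwoDim.oneR_one⟩, fun h => ?_⟩
    rcases degree_cases h.1 with ⟨a, b⟩ | ⟨a, b⟩ | ⟨a, b⟩ | ⟨a, b⟩ <;>
      first | exact a | (rw [h.2, Nat.cast_inj] at b; omega)
  have k2 := key q {Cfsg.Lib.TwoDim.stR F} fun f => by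
    rw [Finset.mem_singleton]
    refine ⟨fun h => ⟨Cfsg.Lib.TwoDim.mem_baseSet.2 (Or.inr (Or.inl h)), h ▸ Cfsg.Lib.TwoDim.stR_one⟩, fun h => ?_⟩
    rcases degree_cases h.1 with ⟨a, b⟩ | ⟨a, b⟩ | ⟨a, b⟩ | ⟨a, b⟩ <;>
      first | exact a | (rw [h.2, Nat.cast_inj] at b; omega)
  have k3 := key (q + 1) (Cfsg.Lib.TwoDim.psSet1 F) fun f => by
    refine ⟨fun h => ⟨Cfsg.Lib.TwoDim.mem_baseSet.2 (Or.inr (Or.inr (Or.inl h))), ?_⟩, fun h => ?_⟩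
    · obtain ⟨a, -, rfl⟩ := Cfsg.Lib.TwoDim.mem_psSet1.1 h; exact Cfsg.Lib.TwoDim.psR_one a
    rcases degree_cases h.1 with ⟨a, b⟩ | ⟨a, b⟩ | ⟨a, b⟩ | ⟨a, b⟩ <;>
      first | exact a | (rw [h.2, Nat.cast_inj] at b; omega)
  have k4 := key (q - 1) (Cfsg.Lib.TwoDim.cuSet1 F) fun f => by
    refine ⟨fun h => ⟨Cfsg.Lib.TwoDim.mem_baseSet.2 (Or.inr (Or.inr (Or.inr h))), ?_⟩, fun h => ?_⟩
    · obtain ⟨a, -, rfl⟩ := Cfsg.Lib.TwoDim.mem_cuSet1.1 h; exact Cfsg.Lib.TwoDim.cuR_one _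
    rcases degree_cases h.1 with ⟨a, b⟩ | ⟨a, b⟩ | ⟨a, b⟩ | ⟨a, b⟩ <;>
      first | exact a | (rw [h.2, Nat.cast_inj] at b; omega)
  rw [e1] at k1
  rw [e2] at k3
  rw [e3] at k4
  rw [k1, k2, k3, k4, Finset.card_singleton, Finset.card_singleton]
  exact ⟨rfl, rfl, by omega, by omega⟩

end Cfsg.Agent.S2300
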