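import Cfsg.Statements.S0319
import Cfsg.Agent.Lib.Linear.BNPair

set_option autoImplicit false
open Cfsg
open Cfsg.Lib.Linear

namespace Cfsg.Agent.S0319

/-- Simplicity criterion for groups with a (B,N)-pair: if the distinguished generators admit no
splitting into two non-empty mutually commuting parts, `B` is solvable, `G` is perfect and the intersection
of all conjugates of `B` is trivial, then `G` is simple. -/
theorem result {G : Type*} [Group G] [Nontrivial G]
    (P : Cfsg.BNPair G) (hirr : P.Irreducible) (hsolv : Group.IsSolvable P.B) (hperf : commutator G = ⊤)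
    (hcore : P.B.normalCore = ⊥) : IsSimpleGroup G := by
  refine IsSimpleGroup.mk fun K hK => ?_
  set M : Subgroup G := P.B ⊔ K with hM
  have hMdec : ∀ x ∈ M, ∃ b ∈ P.B, ∃ k ∈ K, x = b * k := by
    intro x hx
    rw [hM, ← SetLike.mem_coe, Subgroup.mul_normal] at hx
    obtain ⟨b, hb, k, hk, rfl⟩ := hx
    exact ⟨b, hb, k, hk, rfl⟩
  have hpar := BN.eq_parabolic (P := P) (M := M) le_sup_left
  set J := P.S ∩ (M : Set G) with hJ
  by_cases hJ0 : J = ∅
  · left
    rw [hJ0] at hpar
    have hKB : K ≤ P.B := by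
      have hMB : M ≤ P.B := by
        rw [hpar]
        exact sup_le le_rfl (by rw [Subgroup.closure_empty]; exact bot_le)
      exact le_sup_right.trans hMB
    rw [eq_bot_iff, ← hcore]
    exact Subgroup.normal_le_normalCore.2 hKB
  by_cases hJS : J = P.S
  · right
    have htop : M = ⊤ := by rw [hpar, hJS]; exact BN.parabolic_S_eq_top
    have hsurj : Function.Surjective ((QuotientGroup.mk' K).comp P.B.subtype) := by
      intro y
      obtain ⟨x, rfl⟩ := QuotientGroup.mk'_surjective K y
      obtain ⟨b, hb, k, hk, rfl⟩ := hMdec x (htop ▸ Subgroup.mem_top x)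
      exact ⟨⟨b, hb⟩, (QuotientGroup.eq).2 (by simpa using hk)⟩
    have hQ : Group.IsSolvable (G ⧸ K) := by
      have := hsolv
      exact Group.isSolvable_of_surjective hsurj
    have hperfQ : commutator (G ⧸ K) = ⊤ := by
      rw [commutator_def, ← Subgroup.map_top_of_surjective _ (QuotientGroup.mk'_surjective K),
        ← Subgroup.map_commutator, ← commutator_def, hperf]
    by_contra hne
    have : Nontrivial (G ⧸ K) := by
      by_contra h
      rw [not_nontrivial_iff_subsingleton] at h
      refine hne (eq_top_iff.2 fun x _ => ?_)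
      rw [← QuotientGroup.eq_one_iff]
      exact Subsingleton.elim _ _
    exact (IsSolvable.commutator_lt_top_of_nontrivial (G ⧸ K)).ne hperfQ
  exfalso
  obtain ⟨s, hsJ, s', ⟨hs', hs'J⟩, hcomm⟩ := hirr J Set.inter_subset_left
    (Set.nonempty_iff_ne_empty.2 hJ0)
    (Set.sdiff_nonempty.2 fun h => hJS (Set.Subset.antisymm Set.inter_subset_left h))
  obtain ⟨hs, hsM⟩ := hsJ
  have hs'M : s' ∉ M := fun h => hs'J ⟨hs', h⟩
  have hne : s ≠ s' := fun h => hs'M (h ▸ hsM)
  obtain ⟨b, hb, k, hk, hsk⟩ := hMdec s hsM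
  have hsN := P.subset hs
  have hs'N := P.subset hs'
  -- `s s'` has length two
  have hlen2 : BN.len P (s * s') = 2 := by
    rcases BN.len_mul_cases hs hs'N with h | h
    · rw [h, BN.len_S hs']
    · rw [BN.len_S hs'] at h
      have h0 := BN.mem_T_of_len_eq_zero (mul_mem hsN hs'N) (by omega)
      exfalso
      refine hne (P.inj s hs s' hs' ?_)
      have e : s⁻¹ * s' = (s * s)⁻¹ * (s * s') := by group
      rw [e]
      exact mul_mem (inv_mem (P.sq_mem s hs)) h0.1
  rcases BN.len_mul_cases hs' (mul_mem hsN hs'N) with h | h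
  · -- length three: `s'` would lie in `M`
    have hk1 : k ∈ BN.cell P s := by
      refine BN.mem_cell.2 ⟨b⁻¹, inv_mem hb, 1, one_mem _, ?_⟩
      rw [hsk]; group
    have hcs' : s'⁻¹ ∈ BN.cell P s' := by
      rw [← (BN.same_inv_S hs').cell_eq]; exact BN.self_mem_cell _
    have h1 : k * s'⁻¹ ∈ BN.cell P (s * s') :=
      BN.cell_mul_of_le hs hs'N (by rw [hlen2, BN.len_S hs']; omega) hk1 hcs'
    have h2 : s' * (k * s'⁻¹) ∈ BN.cell P (s' * (s * s')) :=
      BN.cell_mul_of_le hs' (mul_mem hsN hs'N) (by omega) (BN.self_mem_cell s') h1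
    have h3 : s' * (k * s'⁻¹) ∈ M := by
      rw [← mul_assoc]; exact Subgroup.mem_sup_right (hK.conj_mem k hk s')
    obtain ⟨c, hc, d, hd, he⟩ := BN.mem_cell.1 h2
    have h4 : s' * (s * s') ∈ M := by
      have e : s' * (s * s') = c⁻¹ * (s' * (k * s'⁻¹)) * d⁻¹ := by rw [he]; group
      rw [e]
      exact mul_mem (mul_mem (inv_mem (Subgroup.mem_sup_left hc)) h3) (inv_mem (Subgroup.mem_sup_left hd))
    refine hs'M (BN.letters_mem [s', s, s'] ?_ ?_ (s' * (s * s')) ?_ M le_sup_left ?_ s' (by simp))
    · intro x hx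
      simp at hx
      rcases hx with rfl | rfl | rfl <;> assumption
    · simp; omega
    · simpa using BN.Same.rfl'
    · intro x hx
      exact mul_mem (mul_mem h4 (Subgroup.mem_sup_left hx)) (inv_mem h4)
  · obtain ⟨i, hi, hsame⟩ := BN.exchange [s, s'] (by simp [hs, hs']) (by simpa using hlen2) s' hs'
      (by simp; omega)
    simp only [List.length_cons, List.length_nil] at hi
    apply hcomm
    rcases i with _ | _ | i
    · -- `s' s s' = s'`
      exfalso
      simp only [List.eraseIdx_cons_zero, List.prod_cons, List.prod_nil, mul_one] at hsame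
      have h0 : s * s' ∈ P.B := by
        have := hsame.1
        simpa [← mul_assoc] using this
      refine hne (P.inj s hs s' hs' ?_)
      have e : s⁻¹ * s' = (s * s)⁻¹ * (s * s') := by group
      rw [e]
      exact mul_mem (inv_mem (P.sq_mem s hs)) h0
    · -- `s' s s' = s`
      simp only [List.eraseIdx_cons_succ, List.eraseIdx_cons_zero, List.prod_cons, List.prod_nil,
        mul_one] at hsame
      have ht : (s' * s')* (s⁻¹ * (s' * (s * s')))⁻¹ ∈ P.B ⊓ P.N :=
        mul_mem (BN.sq_mem_T hs') (inv_mem hsame)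
      have h9 := (BN.conj_mem_T hsN ht).1
      have e : s * s' * s⁻¹ * s'⁻¹ = s * (s' * s' * (s⁻¹ * (s' * (s * s')))⁻¹) * s⁻¹ := by group
      rw [e]
      exact h9
    · omega

end Cfsg.Agent.S0319
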