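import Cfsg.Statements.S0276
import Cfsg.Agent.S0800
import Cfsg.Agent.Lib.Linear.PSLSmall

set_option autoImplicit false
open Cfsg

namespace Cfsg.Agent.S0276

open Cfsg.Lib.Linear

/-- The only involution of a two-dimensional special linear group. -/
theorem sq_one {F : Type*} [Field F] (h2 : (2 : F) ≠ 0) (x : Matrix.SpecialLinearGroup (Fin 2) F)
    (hx : x ^ 2 = 1) :
    (x : Matrix (Fin 2) (Fin 2) F) = 1 ∨ (x : Matrix (Fin 2) (Fin 2) F) = -1 := by
  have hd := x.2
  rw [Matrix.det_fin_two] at hd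
  have h := congrArg (fun y : Matrix.SpecialLinearGroup (Fin 2) F => (y : Matrix (Fin 2) (Fin 2) F)) hx
  simp only [Matrix.SpecialLinearGroup.coe_pow, Matrix.SpecialLinearGroup.coe_one, sq] at h
  have h00 := congrFun (congrFun h 0) 0
  have h01 := congrFun (congrFun h 0) 1
  have h10 := congrFun (congrFun h 1) 0
  have h11 := congrFun (congrFun h 1) 1
  simp [Matrix.mul_apply, Fin.sum_univ_two] at h00 h01 h10 h11
  obtain ⟨t, ht⟩ : ∃ t, t = (x : Matrix (Fin 2) (Fin 2) F) 0 0 + (x : Matrix (Fin 2) (Fin 2) F) 1 1 :=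
    ⟨_, rfl⟩
  have e00 : t * (x : Matrix (Fin 2) (Fin 2) F) 0 0 = 2 := by rw [ht]; linear_combination h00 + hd
  have e11 : t * (x : Matrix (Fin 2) (Fin 2) F) 1 1 = 2 := by rw [ht]; linear_combination h11 + hd
  have ht0 : t ≠ 0 := fun h => h2 (by rw [← e00, h, zero_mul])
  have b : (x : Matrix (Fin 2) (Fin 2) F) 0 1 = 0 :=
    (mul_eq_zero.mp (show t * _ = 0 by rw [ht]; linear_combination h01)).resolve_left ht0
  have c : (x : Matrix (Fin 2) (Fin 2) F) 1 0 = 0 :=
    (mul_eq_zero.mp (show t * _ = 0 by rw [ht]; linear_combination h10)).resolve_left ht0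
  have e : (x : Matrix (Fin 2) (Fin 2) F) 0 0 = (x : Matrix (Fin 2) (Fin 2) F) 1 1 :=
    mul_left_cancel₀ ht0 (e00.trans e11.symm)
  rw [b] at h00
  rcases mul_eq_zero.mp (show ((x : Matrix (Fin 2) (Fin 2) F) 0 0 - 1) *
      ((x : Matrix (Fin 2) (Fin 2) F) 0 0 + 1) = 0 by linear_combination h00) with h | h
  · left
    ext i j
    fin_cases i <;> fin_cases j <;> simp [b, c, ← e, sub_eq_zero.mp h]
  · right
    ext i j
    fin_cases i <;> fin_cases j <;> simp [b, c, ← e, eq_neg_of_add_eq_zero_left h]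

theorem two_ne {F : Type*} [Field F] [Fintype F] (hF : Odd (Fintype.card F)) : (2 : F) ≠ 0 :=
  fun h => by
    haveI : CharP F 2 := CharTwo.of_one_ne_zero_of_two_eq_zero one_ne_zero h
    have h1 := FiniteField.even_card_of_char_two (ringChar.eq F 2)
    rw [Nat.odd_iff] at hF
    omega

/-- Elements of two-power order. -/
theorem two_power_dvd {F : Type*} [Field F] [Fintype F] (hF : Odd (Fintype.card F))
    (g : Matrix.SpecialLinearGroup (Fin 2) F) {k : ℕ} (hg : orderOf g = 2 ^ k) :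
    2 ^ k ∣ Fintype.card F - 1 ∨ 2 ^ k ∣ Fintype.card F + 1 := by
  obtain ⟨p, hp⟩ := CharP.exists F
  haveI := hp
  haveI : Fact p.Prime := ⟨CharP.char_is_prime F p⟩
  rw [← hg]
  refine Cfsg.Agent.S0800.result rfl p g ?_
  rw [hg]
  refine Nat.Coprime.pow_left k ((Nat.coprime_primes Nat.prime_two Fact.out).mpr fun h => ?_)
  subst h
  exact two_ne hF (CharTwo.two_eq_zero)

/-- For q = 3 or 5 mod 8 the Sylow 2-subgroups of PSL_2(q) are elementary abelian of order 4. -/
theorem result {F : Type*} [Field F] [Fintype F] {q : ℕ} (hF : Fintype.card F = q) (hq : q % 8 = 3 ∨ q % 8 = 5) (P : Sylow 2 (Matrix.ProjectiveSpecialLinearGroup (Fin 2) F)) : IsKleinFour (P : Subgroup (Matrix.ProjectiveSpecialLinearGroup (Fin 2) F)) := by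
  classical
  haveI : Fact (Nat.Prime 2) := ⟨Nat.prime_two⟩
  subst hF
  have hodd : Odd (Fintype.card F) := Nat.odd_iff.mpr (by omega)
  have h2 := two_ne hodd
  obtain ⟨a, ha⟩ := IsPGroup.iff_card.mp P.2
  have hidx := P.not_dvd_index
  have hmul := (P : Subgroup (Matrix.ProjectiveSpecialLinearGroup (Fin 2) F)).card_mul_index
  have hcard := Two.card_PSL_two (F := F)
  rw [show Nat.gcd 2 (Fintype.card F - 1) = 2 from Nat.gcd_eq_left (by omega), ← hmul, ha] at hcard
  obtain ⟨N, hN, hNodd⟩ : ∃ N, Fintype.card F * (Fintype.card F ^ 2 - 1) = 8 * N ∧ N % 2 = 1 := by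
    obtain ⟨s, hs⟩ : ∃ s, Fintype.card F = 8 * s + 3 ∨ Fintype.card F = 8 * s + 5 :=
      ⟨Fintype.card F / 8, by omega⟩
    rcases hs with hs | hs
    · refine ⟨(8 * s + 3) * (8 * s * s + 6 * s + 1), ?_, by simp [Nat.mul_mod, Nat.add_mod]⟩
      rw [hs, show (8 * s + 3) ^ 2 - 1 = 8 * (8 * s * s + 6 * s + 1) from
        Nat.sub_eq_of_eq_add (by ring)]
      ring
    · refine ⟨(8 * s + 5) * (8 * s * s + 10 * s + 3), ?_, by simp [Nat.mul_mod, Nat.add_mod]⟩
      rw [hs, show (8 * s + 5) ^ 2 - 1 = 8 * (8 * s * s + 10 * s + 3) from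
        Nat.sub_eq_of_eq_add (by ring)]
      ring
  rw [hN] at hcard
  have ha2 : a = 2 := by
    rcases Nat.lt_or_ge a 2 with h | h
    · exfalso
      interval_cases a
      · simp at hcard; exact hidx ⟨2 * N, by omega⟩
      · simp at hcard; exact hidx ⟨N, by omega⟩
    · rcases Nat.lt_or_ge 2 a with h' | h'
      · exfalso
        obtain ⟨b, rfl⟩ : ∃ b, a = b + 3 := ⟨a - 3, by omega⟩
        rw [pow_add] at hcard
        obtain ⟨M, hM⟩ : ∃ M, M = 2 ^ b * (P : Subgroup (Matrix.ProjectiveSpecialLinearGroup (Fin 2) F)).index :=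
          ⟨_, rfl⟩
        have : 16 * M = 8 * N := by rw [hM, ← hcard]; ring
        omega
      · omega
  subst ha2
  have hP4 : Nat.card (P : Subgroup (Matrix.ProjectiveSpecialLinearGroup (Fin 2) F)) = 4 := ha
  have hexp : ∀ x : (P : Subgroup (Matrix.ProjectiveSpecialLinearGroup (Fin 2) F)), x ^ 2 = 1 := by
    intro x
    by_contra hx
    have hx4 : x ^ 4 = 1 := by rw [← hP4]; exact pow_card_eq_one'
    obtain ⟨g, hg⟩ := QuotientGroup.mk_surjective
      (x : Matrix.ProjectiveSpecialLinearGroup (Fin 2) F)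
    have hc : ∀ z : Matrix.SpecialLinearGroup (Fin 2) F, z ∈ Subgroup.center _ → z ^ 2 = 1 := by
      intro z hz
      obtain ⟨r, hr, hrz⟩ := Matrix.SpecialLinearGroup.mem_center_iff.mp hz
      refine Subtype.ext ?_
      rw [Fintype.card_fin] at hr
      rw [Matrix.SpecialLinearGroup.coe_pow, ← hrz, sq, ← map_mul, ← sq, hr, map_one]
      rfl
    have hg2 : g ^ 2 ∉ Subgroup.center _ := fun h => hx (Subtype.ext (by
      rw [SubgroupClass.coe_pow, ← hg, ← QuotientGroup.mk_pow]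
      exact (QuotientGroup.eq_one_iff _).mpr h))
    have hg4 : g ^ 4 ∈ Subgroup.center _ := by
      refine (QuotientGroup.eq_one_iff _).mp ?_
      rw [QuotientGroup.mk_pow, hg, ← SubgroupClass.coe_pow, hx4]
      rfl
    have hg8 : g ^ (2 ^ 3) = 1 := by
      rw [show (2 : ℕ) ^ 3 = 4 * 2 from rfl, pow_mul]; exact hc _ hg4
    have hne : ¬ g ^ (2 ^ 2) = 1 := fun h => hg2 (by
      have h' : (g ^ 2) ^ 2 = 1 := by rw [← pow_mul]; exact h
      rw [Matrix.SpecialLinearGroup.mem_center_iff]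
      rcases sq_one h2 _ h' with e | e
      · exact ⟨1, by simp, by rw [e]; simp⟩
      · exact ⟨-1, by simp, by rw [e]; ext i j; fin_cases i <;> fin_cases j <;> simp⟩)
    have hord : orderOf g = 2 ^ 3 := orderOf_eq_prime_pow hne hg8
    rcases two_power_dvd hodd g hord with h | h <;> omega
  refine ⟨hP4, ?_⟩
  obtain ⟨y, hy⟩ : ∃ y : (P : Subgroup (Matrix.ProjectiveSpecialLinearGroup (Fin 2) F)), y ≠ 1 := by
    haveI : Finite (P : Subgroup (Matrix.ProjectiveSpecialLinearGroup (Fin 2) F)) := inferInstance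
    by_contra h
    push Not at h
    haveI : Subsingleton (P : Subgroup (Matrix.ProjectiveSpecialLinearGroup (Fin 2) F)) :=
      ⟨fun u v => by rw [h u, h v]⟩
    rw [Nat.card_of_subsingleton (1 : (P : Subgroup (Matrix.ProjectiveSpecialLinearGroup (Fin 2) F)))] at hP4
    omega
  refine Nat.dvd_antisymm (Monoid.exponent_dvd_of_forall_pow_eq_one hexp) ?_
  have hd := Monoid.order_dvd_exponent y
  rwa [orderOf_eq_prime (hexp y) hy] at hd

end Cfsg.Agent.S0276
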