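import Cfsg.Statements.S2507
import Cfsg.Agent.Lib.Dickson.Involutions
-- import your own Cfsg.Agent.* helpers here

set_option autoImplicit false
open Cfsg

namespace Cfsg.Agent.S2507

open Cfsg.Lib.Dickson

variable {F : Type*} [Field F] [Fintype F]

local notation "PSL2" => Matrix.ProjectiveSpecialLinearGroup (Fin 2) F

/-- `q` times one less times one more. -/
theorem card_psl_split : Nat.gcd 2 (Fintype.card F - 1) * Nat.card PSL2 =
    Fintype.card F * ((Fintype.card F + 1) * (Fintype.card F - 1)) := by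
  rw [Cfsg.Lib.Linear.Two.card_PSL_two (F := F)]
  congr 1
  have e := Nat.mul_self_sub_mul_self_eq (Fintype.card F) 1
  rw [mul_one] at e
  rwa [sq]

theorem index_eq {x : PSL2} {c i : ℕ} (hc : Nat.card (Subgroup.centralizer ({x} : Set PSL2)) = c) (hc0 : 0 < c)
    (h : Nat.card PSL2 = c * i) : (Subgroup.centralizer ({x} : Set PSL2)).index = i := by
  refine Nat.eq_of_mul_eq_mul_left hc0 ?_
  rw [← h, ← Subgroup.card_mul_index (Subgroup.centralizer ({x} : Set PSL2)), hc]

theorem index_one : (Subgroup.centralizer ({(1 : PSL2)} : Set PSL2)).index = 1 :=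
  Subgroup.index_eq_one.mpr (eq_top_iff.mpr fun a _ => Subgroup.mem_centralizer_singleton_iff.mpr (by simp))

theorem not_dvd_torus (p : ℕ) [Fact p.Prime] [CharP F p] {o : ℕ}
    (ho : o ∣ (Fintype.card F + 1) / Nat.gcd 2 (Fintype.card F - 1) ∨
      o ∣ (Fintype.card F - 1) / Nat.gcd 2 (Fintype.card F - 1)) : ¬ p ∣ o := by
  intro h
  obtain ⟨n, hpp, hn⟩ := FiniteField.card F p
  have hpq : p ∣ Fintype.card F := hn ▸ dvd_pow_self p n.pos.ne'
  have h2 : 2 ≤ Fintype.card F := two_le_card
  rcases ho with ho | ho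
  · have hdvd : Nat.gcd 2 (Fintype.card F - 1) ∣ Fintype.card F + 1 := by
      rcases (Nat.dvd_prime Nat.prime_two).mp (Nat.gcd_dvd_left 2 (Fintype.card F - 1)) with h' | h'
      · rw [h']; exact one_dvd _
      · have := Nat.gcd_dvd_right 2 (Fintype.card F - 1)
        rw [h'] at this ⊢
        omega
    have := Nat.dvd_sub (h.trans (ho.trans (Nat.div_dvd_of_dvd hdvd))) hpq
    rw [show Fintype.card F + 1 - Fintype.card F = 1 by omega] at this
    exact hpp.not_dvd_one this
  · have := Nat.dvd_sub hpq (h.trans (ho.trans (Nat.div_dvd_of_dvd (Nat.gcd_dvd_right _ _))))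
    rw [show Fintype.card F - (Fintype.card F - 1) = 1 by omega] at this
    exact hpp.not_dvd_one this


/-- Let F be a finite field with q = 2^f ≥ 4 elements. The conjugacy class sizes of PSL(2,F) are exactly 1, q(q − 1), q² − 1 and q(q + 1). -/
theorem result {F : Type*} [Field F] [Fintype F]
    (h2 : 2 ∣ Fintype.card F) (h4 : 4 ≤ Fintype.card F) :
    Set.range (fun g : (Matrix.ProjectiveSpecialLinearGroup (Fin 2) F) => (Subgroup.centralizer ({g} : Set (Matrix.ProjectiveSpecialLinearGroup (Fin 2) F))).index) =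
      {1, Fintype.card F * (Fintype.card F - 1), Fintype.card F ^ 2 - 1, Fintype.card F * (Fintype.card F + 1)} := by
  classical
  obtain ⟨p, hp⟩ := CharP.exists F
  haveI := Fact.mk (CharP.char_is_prime F p)
  obtain ⟨n, hpp, hn⟩ := FiniteField.card F p
  obtain rfl : p = 2 := ((Nat.prime_dvd_prime_iff_eq Nat.prime_two hpp).mp (Nat.prime_two.dvd_of_dvd_pow (hn ▸ h2))).symm
  have hd : Nat.gcd 2 (Fintype.card F - 1) = 1 :=
    ((Nat.Prime.coprime_iff_not_dvd Nat.prime_two).mpr (by omega) : Nat.Coprime 2 (Fintype.card F - 1))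
  have hG := card_psl_split (F := F)
  rw [hd, one_mul] at hG
  have hnd := @not_dvd_torus F _ _ 2 _ _
  have hss := fun (x : Matrix.ProjectiveSpecialLinearGroup (Fin 2) F) => card_centralizer_semisimple (x := x) h4 2
  have hspec := Cfsg.Lib.Spec.psl_two_spectrum (F := F) 2 h4
  rw [hd, Nat.div_one, Nat.div_one] at hspec hnd
  simp only [hd, Nat.div_one] at hss
  set q := Fintype.card F with hq
  have e1 : q * ((q + 1) * (q - 1)) = q * (q ^ 2 - 1) := by
    congr 1
    have e := Nat.mul_self_sub_mul_self_eq q 1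
    rw [mul_one] at e
    rw [sq, e]
  have e2 : q * ((q + 1) * (q - 1)) = (q + 1) * (q * (q - 1)) := by ring
  have e3 : q * ((q + 1) * (q - 1)) = (q - 1) * (q * (q + 1)) := by ring
  ext i
  simp only [Set.mem_range, Set.mem_insert_iff, Set.mem_singleton_iff]
  constructor
  · rintro ⟨g, rfl⟩
    by_cases h1 : g = 1
    · subst h1; exact Or.inl index_one
    obtain ⟨o, ho⟩ : orderOf g ∈ Set.range (orderOf : Matrix.ProjectiveSpecialLinearGroup (Fin 2) F → ℕ) := ⟨g, rfl⟩
    have hm : orderOf g ∈ {m : ℕ | m ∣ 2 ∨ m ∣ q - 1 ∨ m ∣ q + 1} := hspec ▸ (⟨g, rfl⟩ : orderOf g ∈ Set.range _)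
    rcases hm with hm | hm
    · have h2' : orderOf g = 2 :=
        ((Nat.dvd_prime Nat.prime_two).mp hm).resolve_left fun h => h1 (orderOf_eq_one_iff.mp h)
      exact Or.inr (Or.inr (Or.inl (index_eq (card_centralizer_unipotent 2 h2') (by omega) (by rw [hG, e1]))))
    · have hsq : g ^ 2 ≠ 1 := fun h => h1 (by
        have h' := orderOf_dvd_of_pow_eq_one h
        rcases (Nat.dvd_prime Nat.prime_two).mp h' with h' | h'
        · exact orderOf_eq_one_iff.mp h'
        · exact absurd (show 2 ∣ orderOf g by rw [h']) (hnd hm.symm))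
      rcases hss g hsq (hnd hm.symm) with ⟨hc, -⟩ | ⟨hc, -⟩
      · exact Or.inr (Or.inl (index_eq hc (by omega) (by rw [hG, e2])))
      · exact Or.inr (Or.inr (Or.inr (index_eq hc (by omega) (by rw [hG, e3]))))
  · have hex : ∀ k, 3 ≤ k → (k = q - 1 ∨ k = q + 1) → ∃ g : Matrix.ProjectiveSpecialLinearGroup (Fin 2) F,
        Nat.card (Subgroup.centralizer ({g} : Set (Matrix.ProjectiveSpecialLinearGroup (Fin 2) F))) = k := by
      intro k hk3 hk
      obtain ⟨g, hg⟩ : k ∈ Set.range (orderOf : Matrix.ProjectiveSpecialLinearGroup (Fin 2) F → ℕ) := by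
        rw [hspec]; rcases hk with rfl | rfl
        exacts [Or.inr (Or.inl dvd_rfl), Or.inr (Or.inr dvd_rfl)]
      refine ⟨g, ?_⟩
      have hsq : g ^ 2 ≠ 1 := fun h => by
        have := Nat.le_of_dvd (by norm_num) (hg ▸ orderOf_dvd_of_pow_eq_one h)
        omega
      have hn2 : ¬ 2 ∣ orderOf g := hnd (hg ▸ (by rcases hk with rfl | rfl <;> simp))
      rcases hss g hsq hn2 with ⟨hc, ho⟩ | ⟨hc, ho⟩ <;> rw [hg] at ho
      · rcases hk with rfl | rfl
        · exfalso
          have := Nat.le_of_dvd (by norm_num) (show q - 1 ∣ 2 by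
            have := Nat.dvd_sub ho (dvd_refl (q - 1))
            rwa [show q + 1 - (q - 1) = 2 by omega] at this)
          omega
        · exact hc
      · rcases hk with rfl | rfl
        · exact hc
        · exfalso
          have := Nat.le_of_dvd (by omega) ho
          omega
    rintro (rfl | rfl | rfl | rfl)
    · exact ⟨1, index_one⟩
    · obtain ⟨g, hg⟩ := hex (q + 1) (by omega) (Or.inr rfl)
      exact ⟨g, index_eq hg (by omega) (by rw [hG, e2])⟩
    · obtain ⟨g, hg⟩ : 2 ∈ Set.range (orderOf : Matrix.ProjectiveSpecialLinearGroup (Fin 2) F → ℕ) := by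
        rw [hspec]; exact Or.inl dvd_rfl
      exact ⟨g, index_eq (card_centralizer_unipotent 2 hg) (by omega) (by rw [hG, e1])⟩
    · obtain ⟨g, hg⟩ := hex (q - 1) (by omega) (Or.inl rfl)
      exact ⟨g, index_eq hg (by omega) (by rw [hG, e3])⟩

end Cfsg.Agent.S2507
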