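import Cfsg.Statements.S4626
import Cfsg.Agent.Lib.Block.Principal
import Cfsg.Agent.Lib.Char.Quotient

set_option autoImplicit false
open Cfsg

namespace Cfsg.Agent.S4626

/-- Let G be a finite group, p a prime, M a maximal ideal of the algebraic integers containing p, P a Sylow p-subgroup of G and N a normal subgroup of index prime to p containing the centralizer C_G(P). Then every irreducible character of G whose kernel contains N lies in the principal p-block of G. -/
theorem result {G : Type*} [Group G] [Finite G] (p : ℕ) [Fact p.Prime] (M : Ideal Cfsg.AlgInt) (hM : Cfsg.IsPModular p M) (P : Sylow p G) (N : Subgroup G) [N.Normal] (hidx : ¬ p ∣ N.index)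
    (hC : Subgroup.centralizer ((P : Subgroup G) : Set G) ≤ N) (χ : Cfsg.IrrCharacter G) (hker : ∀ n ∈ N, (χ : G → ℂ) n = (χ : G → ℂ) 1) :
    χ ∈ Cfsg.principalBlock M G := by
  haveI := Fintype.ofFinite G
  show SameBlock M (fun _ : G => (1 : ℂ)) (χ : G → ℂ)
  intro g
  by_cases hg : g ∈ N
  · simp only [centralChar, mul_div_assoc, hker g hg, div_self χ.2.apply_one_ne_zero, div_one]
    rw [sub_self]
    exact Lib.Block.memLocalIdeal_zero hM
  · have hp : p.Prime := Fact.out
    have hidxg : p ∣ (Subgroup.centralizer ({g} : Set G)).index := by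
      by_contra hn
      obtain ⟨S, hS⟩ : ∃ S : Sylow p G, (S : Subgroup G) ≤ Subgroup.centralizer ({g} : Set G) := by
        obtain ⟨R⟩ : Nonempty (Sylow p (Subgroup.centralizer ({g} : Set G))) := inferInstance
        obtain ⟨T, hT⟩ := (R.isPGroup'.map (Subgroup.centralizer ({g} : Set G)).subtype).exists_le_sylow
        refine ⟨T, ?_⟩
        suffices h : (R : Subgroup _).map (Subgroup.centralizer ({g} : Set G)).subtype = (T : Subgroup G) by
          rw [← h]; exact Subgroup.map_subtype_le _
        refine Subgroup.eq_of_le_of_card_ge hT ?_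
        rw [Subgroup.card_map_of_injective (Subgroup.subtype_injective _), R.card_eq_multiplicity,
          T.card_eq_multiplicity]
        apply Nat.pow_le_pow_right hp.pos
        rw [← Subgroup.index_mul_card (Subgroup.centralizer ({g} : Set G)),
          Nat.factorization_mul Subgroup.index_ne_zero_of_finite Nat.card_pos.ne', Finsupp.add_apply,
          Nat.factorization_eq_zero_of_not_dvd hn, zero_add]
      obtain ⟨x, hx⟩ := MulAction.exists_smul_eq G P S
      apply hg
      have hgS : g ∈ Subgroup.centralizer ((S : Subgroup G) : Set G) :=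
        Subgroup.mem_centralizer_iff.2 fun y hy =>
          (Subgroup.mem_centralizer_iff.1 (hS hy) g rfl).symm
      have hcon : x⁻¹ * g * x ∈ Subgroup.centralizer ((P : Subgroup G) : Set G) := by
        refine Subgroup.mem_centralizer_iff.2 fun y hy => ?_
        have hy' : x * y * x⁻¹ ∈ (S : Subgroup G) := by
          rw [← hx, Sylow.coe_subgroup_smul]
          exact Subgroup.smul_mem_pointwise_smul y (MulAut.conj x) _ hy
        have h := Subgroup.mem_centralizer_iff.1 hgS _ hy'
        calc y * (x⁻¹ * g * x) = x⁻¹ * ((x * y * x⁻¹) * g) * x := by group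
          _ = x⁻¹ * (g * (x * y * x⁻¹)) * x := by rw [h]
          _ = x⁻¹ * g * x * y := by group
      have h2 := Subgroup.Normal.conj_mem ‹N.Normal› _ (hC hcon) x
      rwa [show x * (x⁻¹ * g * x) * x⁻¹ = g by group] at h2
    refine Lib.Block.memLocalIdeal_sub hM ?_ ?_
    · simp only [centralChar, mul_one, div_one]
      exact (Lib.Block.memLocalIdeal_natCast_iff hM _).2 hidxg
    · obtain ⟨φ, hφ, hφχ⟩ := Lib.Char.exists_deflate_irr N χ.2 hker
      have hdeg : ¬ p ∣ charDegree (χ : G → ℂ) := fun hd => hidx (hd.trans (by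
        haveI := Fintype.ofFinite (G ⧸ N)
        have h := Lib.Block.charDegree_dvd_card (⟨φ, hφ⟩ : IrrCharacter (G ⧸ N))
        rwa [Lib.Block.charDegree_eq_of_apply_one (χ := φ) (n := charDegree (χ : G → ℂ)) (by
          rw [← Lib.Block.apply_one_eq_charDegree χ, ← hφχ]; rfl)] at h))
      rw [centralChar, mul_div_assoc, Lib.Block.apply_one_eq_charDegree χ, div_eq_mul_inv]
      exact Lib.Block.memLocalIdeal_mul_right hM
        ((Lib.Block.memLocalIdeal_natCast_iff hM _).2 hidxg)
        (mul_mem (Lib.Block.charVal_mem_locRing hM χ g) (Lib.Block.inv_natCast_mem_locRing hM hdeg))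

end Cfsg.Agent.S4626
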