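import Cfsg.Statements.S4441
import Cfsg.Agent.Lib.Block.CyclicPrimeApps

set_option autoImplicit false
open Cfsg

namespace Cfsg.Agent.S4441

/-- Let p be an odd prime and G a finite group whose Sylow p-subgroup P has order p; let C = C_G(P), N = N_G(P), e the index of C in N and t = (p − 1)/e; fix a maximal ideal M of the algebraic integers containing p and let B₀ be the principal block. Then B₀ is the disjoint union of a set X of e characters and a set Y of t characters such that: each χ ∈ X has a sign ε_χ with χ(1) ≡ ε_χ (mod p) and χ(x y) = ε_χ for every non-identity x ∈ P and every p-regular y ∈ C; all members of Y agree on the p-regular elements of G; there is one sign ε with θ(1) ≡ ε e (mod p) for every θ ∈ Y; and for every θ ∈ Y and every p-regular g, ε θ(g) = Σ_{χ ∈ X} ε_χ χ(g). -/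
theorem result {G : Type*} [Group G] [Fintype G] (p : ℕ) [Fact p.Prime] (M : Ideal Cfsg.AlgInt) (hM : Cfsg.IsPModular p M) (hodd : p ≠ 2) (P : Sylow p G) (hP : Nat.card P = p) (e : ℕ) (he : (Subgroup.centralizer ((P : Subgroup G) : Set G)).relIndex (Subgroup.normalizer ((P : Subgroup G) : Set G)) = e) : ∃ X Y : Set (Cfsg.IrrCharacter G), Cfsg.principalBlock M G = X ∪ Y ∧ Disjoint X Y ∧ Nat.card X = e ∧ Nat.card Y = (p - 1) / e ∧ ∃ (εX : Cfsg.IrrCharacter G → ℤ) (ε : ℤ), (∀ χ ∈ X, (εX χ = 1 ∨ εX χ = -1) ∧ (Cfsg.charDegree (χ : G → ℂ) : ℤ) ≡ εX χ [ZMOD p] ∧ ∀ x : G, x ∈ (P : Subgroup G) → x ≠ 1 → ∀ y : G, y ∈ Subgroup.centralizer ((P : Subgroup G) : Set G) → ¬ p ∣ orderOf y → (χ : G → ℂ) (x * y) = (εX χ : ℂ)) ∧ (ε = 1 ∨ ε = -1) ∧ (∀ θ ∈ Y, (Cfsg.charDegree (θ : G → ℂ) : ℤ) ≡ ε * (e : ℤ) [ZMOD p]) ∧ (∀ θ ∈ Y, ∀ θ' ∈ Y, ∀ g : G, ¬ p ∣ orderOf g → (θ : G → ℂ) g = (θ' : G → ℂ) g) ∧ ∀ θ ∈ Y, ∀ g : G, ¬ p ∣ orderOf g → (ε : ℂ) * (θ : G → ℂ) g = ∑ᶠ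 χ ∈ X, (εX χ : ℂ) * (χ : G → ℂ) g := by
  classical
  haveI hp := Fact.mk hM.1
  haveI := Fintype.ofFinite (Subgroup.centralizer ((P : Subgroup G) : Set G))
  have hPC : (P : Subgroup G) ≤ (Subgroup.centralizer ((P : Subgroup G) : Set G)) := Cfsg.Lib.Block.le_centralizer_self hP
  obtain ⟨hind, huniq⟩ := Cfsg.Lib.Block.principal_root hM P.2 hPC
  have hD := Cfsg.Lib.Block.isDefectGroup_principal_sylow hM P
  have hB := Cfsg.Lib.Block.isPBlock_principal (M := M) (G := G)
  set θ := Cfsg.Lib.Block.trivChar (Subgroup.centralizer ((P : Subgroup G) : Set G)) with hθdef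
  have hθ : θ ∈ principalBlock M (Subgroup.centralizer ((P : Subgroup G) : Set G)) := Cfsg.Lib.Block.trivChar_mem_principal hM
  have hθ1 : ∀ k : (Subgroup.centralizer ((P : Subgroup G) : Set G)), (θ : (Subgroup.centralizer ((P : Subgroup G) : Set G)) → ℂ) k = 1 := fun k => rfl
  have hθP : ∀ z : (Subgroup.centralizer ((P : Subgroup G) : Set G)), (z : G) ∈ (P : Subgroup G) → (θ : (Subgroup.centralizer ((P : Subgroup G) : Set G)) → ℂ) z = (θ : (Subgroup.centralizer ((P : Subgroup G) : Set G)) → ℂ) 1 := fun _ _ => rfl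
  have hT : ∀ g : G, g ∈ (Subgroup.normalizer ((P : Subgroup G) : Set G)) ↔ g ∈ (Subgroup.normalizer ((P : Subgroup G) : Set G)) ∧ StabilizesBlock (Subgroup.centralizer ((P : Subgroup G) : Set G)) (principalBlock M (Subgroup.centralizer ((P : Subgroup G) : Set G))) g := fun g =>
    ⟨fun hg => ⟨hg, (Cfsg.Lib.Block.stabilizes_iff_fix hM hB hD hP hind hθ hθP hg).2
      fun _ _ _ => rfl⟩, And.left⟩
  obtain ⟨X, Y, δ, δ₀, hdiv, hBXY, hdis, hX, hY, hYne, hrank, hδ, hδ₀, hYagree, hrel, -, -, hcX,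
    hcY, -⟩ := Cfsg.Lib.Block.prime_structure hM hB hD hP hind hθ hθP (Subgroup.normalizer ((P : Subgroup G) : Set G)) hT
  rw [he] at hX hY hcY
  have hr : (Subgroup.normalizer ((P : Subgroup G) : Set G)).relIndex (Subgroup.normalizer ((P : Subgroup G) : Set G)) = 1 := Subgroup.relIndex_self (Subgroup.normalizer ((P : Subgroup G) : Set G))
  have hθd : Cfsg.charDegree (θ : (Subgroup.centralizer ((P : Subgroup G) : Set G)) → ℂ) = 1 :=
    Cfsg.Lib.Block.charDegree_eq_of_apply_one (by rw [hθ1, Nat.cast_one])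
  have hcb := Cfsg.Lib.Block.root_card hM hB hD hP hind
  refine ⟨X, Y, hBXY, hdis, hX, hY, fun χ => -δ χ, δ₀, fun χ hχ => ?_, hδ₀, fun θ' hθ' => ?_,
    hYagree, fun ψ hψ g hg => ?_⟩
  · have hχB : χ ∈ principalBlock M G := hBXY ▸ Or.inl hχ
    refine ⟨(hδ χ hχ).symm.imp (fun h => by simp [h]) (fun h => by simp [h]), ?_, ?_⟩
    · have h := Cfsg.Lib.Block.degree_congr hM hB hD hP hind hθ (Subgroup.normalizer ((P : Subgroup G) : Set G)) hT hχB
        (((p : ℤ) - 1) * δ χ) (by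
          rw [← Finset.add_sum_erase _ _ (Set.mem_toFinset.2 hθ), sub_self, zero_add,
            Finset.sum_congr rfl fun ξ hξ => by
              rw [hcX χ hχ ξ (Set.mem_toFinset.1 (Finset.mem_erase.1 hξ).2)
                (Finset.mem_erase.1 hξ).1, add_sub_cancel_left],
            Finset.sum_const, Finset.card_erase_of_mem (Set.mem_toFinset.2 hθ), Set.toFinset_card,
            ← Nat.card_eq_fintype_card, hcb, nsmul_eq_mul, Nat.cast_sub hp.out.one_le]
          push_cast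
          ring)
      rw [hr, hθd] at h
      refine h.trans (Int.modEq_iff_dvd.2 ⟨-δ χ, ?_⟩)
      push_cast
      ring
    · intro x hx hx1 y hy hyreg
      have hc : Commute x y := Subgroup.mem_centralizer_iff.1 hy x hx
      obtain ⟨j, hj⟩ := Cfsg.Lib.Block.exists_orderOf_eq_pow_of_mem P.2 hx
      have hxP : Cfsg.Lib.Block.pPt p (x * y) = x := (Cfsg.Lib.Block.eq_pPt rfl hc hj hyreg).symm
      have h := Cfsg.Lib.Block.apply_section_single hM hB hD hP hind hθ huniq hχB (hcX χ hχ)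
        ⟨x * y, mul_mem (hPC hx) hy⟩ (by rw [hxP]; exact hx)
        (fun h => hx1 (by rw [← hxP]; exact (Cfsg.Lib.Block.pPt_eq_one_iff _).2 h))
      rw [hθ1, mul_one] at h
      rw [h]
      push_cast
      ring
  · have hθB : θ' ∈ principalBlock M G := hBXY ▸ Or.inr hθ'
    have h := Cfsg.Lib.Block.degree_congr hM hB hD hP hind hθ (Subgroup.normalizer ((P : Subgroup G) : Set G)) hT hθB ((e : ℤ) * δ₀)
      (by rw [hcY θ' hθ']; push_cast; rfl)
    rw [hr, hθd] at h
    refine h.trans ?_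
    rw [mul_comm (e : ℤ)]
    simp
  · have h := hrel ψ hψ g hg
    rw [eq_neg_of_add_eq_zero_left h, finsum_mem_eq_toFinset_sum, finsum_mem_eq_toFinset_sum,
      ← Finset.sum_neg_distrib]
    exact Finset.sum_congr rfl fun χ _ => by push_cast; ring

end Cfsg.Agent.S4441
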