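import Cfsg.Statements.S4540
import Cfsg.Agent.Lib.Block.TwoMajor

set_option autoImplicit false
open Cfsg

namespace Cfsg.Agent.S4540

open Cfsg.Lib Cfsg.Lib.Block in
/-- Let B be a 2-block of the finite group G (relative to a maximal ideal M of the algebraic integers containing 2) of defect d with defect group D. Let z be an element of D commuting with every element of D, and let b be a block of the centralizer C of z with defect group D that induces B (a major subsection (z, b)). If b has 2-regular rank at most three, then 3·k(B) ≤ 3·k₀(B) + 2·Σ 2 ^ h(χ), where k(B) is the number of members of B, k₀(B) the number of members of height zero, and the sum runs over the members χ of B of positive height h(χ); this bound is at most 3·2 ^ d, so in particular B contains at most 2 ^ d irreducible characters. -/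
theorem result {G : Type*} [Group G] [Finite G] (M : Ideal Cfsg.AlgInt) (hM : Cfsg.IsPModular 2 M) (B : Set (Cfsg.IrrCharacter G)) (hB : Cfsg.IsPBlock M B) (D : Subgroup G) (hD : Cfsg.IsDefectGroup 2 M B D) (z : G) (hzD : z ∈ D) (hzc : ∀ d ∈ D, d * z = z * d) (b : Set (Cfsg.IrrCharacter ↥(Subgroup.centralizer ({z} : Set G)))) (hb : Cfsg.IsInducedBlock M (Subgroup.centralizer ({z} : Set G)) b B) (hbD : Cfsg.IsDefectGroup 2 M b (D.subgroupOf (Subgroup.centralizer ({z} : Set G)))) (hl : Cfsg.blockRank 2 b ≤ 3) : 3 * Nat.card B ≤ 3 * Nat.card {χ : Cfsg.IrrCharacter G // χ ∈ B ∧ Cfsg.blockHeight 2 B (χ : G → ℂ) = 0} + 2 * (∑ᶠ χ ∈ {χ : Cfsg.IrrCharacter G | χ ∈ B ∧ 1 ≤ Cfsg.blockHeight 2 B (χ : G → ℂ)}, 2 ^ Cfsg.blockHeight 2 B (χ : G → ℂ)) ∧ 3 * Nat.card {χ : Cfsg.IrrCharacter G // χ ∈ B ∧ Cfsg.blockHeight 2 B (χ : G → ℂ) = 0} + 2 * (∑ᶠ χ ∈ {χ : Cfsg.IrrCharacter G | χ ∈ B ∧ 1 ≤ Cfsg.blockHeight 2 B (χ : G → ℂ)}, 2 ^ Cfsg.blockHeight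 2 B (χ : G → ℂ)) ≤ 3 * 2 ^ Cfsg.blockDefect 2 B := by
  haveI : Fact (Nat.Prime 2) := ⟨Nat.prime_two⟩
  classical
  haveI := Fintype.ofFinite G
  haveI := Fintype.ofFinite (Subgroup.centralizer ({z} : Set G))
  obtain ⟨e, m, hS⟩ := exists_majorSetup hM hD hzD hzc hb hbD
  have h := hS.two_weighted_le hM hl
  set F0 := B.toFinset.filter fun χ : Cfsg.IrrCharacter G =>
    Cfsg.blockHeight 2 B (χ : G → ℂ) = 0 with hF0
  set F1 := B.toFinset.filter fun χ : Cfsg.IrrCharacter G =>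
    ¬ Cfsg.blockHeight 2 B (χ : G → ℂ) = 0 with hF1
  have h0 : Nat.card {χ : Cfsg.IrrCharacter G // χ ∈ B ∧ Cfsg.blockHeight 2 B (χ : G → ℂ) = 0} =
      F0.card := by
    rw [Nat.card_eq_fintype_card, Fintype.card_subtype, hF0]
    congr 1
    ext χ
    simp
  have h1 : (∑ᶠ χ ∈ {χ : Cfsg.IrrCharacter G | χ ∈ B ∧ 1 ≤ Cfsg.blockHeight 2 B (χ : G → ℂ)},
      2 ^ Cfsg.blockHeight 2 B (χ : G → ℂ)) =
      ∑ χ ∈ F1, 2 ^ Cfsg.blockHeight 2 B (χ : G → ℂ) := by
    rw [finsum_mem_eq_toFinset_sum]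
    refine Finset.sum_congr ?_ fun _ _ => rfl
    ext χ
    simp [hF1, Nat.one_le_iff_ne_zero]
  have hk : Nat.card B = F0.card + F1.card := by
    rw [Nat.card_eq_card_toFinset, Finset.card_filter_add_card_filter_not]
  have hlow : 2 * F1.card ≤ ∑ χ ∈ F1, 2 ^ Cfsg.blockHeight 2 B (χ : G → ℂ) := by
    rw [Finset.card_eq_sum_ones, Finset.mul_sum]
    refine Finset.sum_le_sum fun χ hχ => ?_
    have := (Finset.mem_filter.1 hχ).2
    rw [mul_one]
    exact Nat.le_self_pow this 2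
  have e2 : ∑ χ ∈ B.toFinset, (if Cfsg.blockHeight 2 B (χ : G → ℂ) = 0 then (3 : ℤ)
      else 2 * 2 ^ Cfsg.blockHeight 2 B (χ : G → ℂ)) =
      ((3 * F0.card + 2 * ∑ χ ∈ F1, 2 ^ Cfsg.blockHeight 2 B (χ : G → ℂ) : ℕ) : ℤ) := by
    rw [Finset.sum_ite, Finset.sum_const, nsmul_eq_mul, hF0, hF1, ← Finset.mul_sum]
    push_cast
    ring
  rw [e2] at h
  rw [h0, h1]
  refine ⟨?_, ?_⟩
  · rw [hk]; omega
  · exact_mod_cast h

end Cfsg.Agent.S4540
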