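import Cfsg.Statements.S4544
import Cfsg.Agent.S4540
import Cfsg.Agent.Lib.Block.TwistClassify
import Cfsg.Agent.Lib.Block.CentralPairs
import Cfsg.Agent.Lib.Block.CentralQuotientForm
import Cfsg.Agent.Lib.Block.InflateRank

set_option autoImplicit false
open Cfsg

namespace Cfsg.Agent.S4544

open Cfsg.Lib.Block in

/-- Let B be a 2-block of the finite group G (relative to a maximal ideal M of the algebraic integers containing 2) whose defect group D contains a cyclic subgroup of index at most 4 in D. Then B contains at most as many irreducible characters as D has elements. -/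
theorem result {G : Type*} [Group G] [Finite G] (M : Ideal Cfsg.AlgInt) (hM : Cfsg.IsPModular 2 M) (B : Set (Cfsg.IrrCharacter G)) (hB : Cfsg.IsPBlock M B) (D : Subgroup G) (hD : Cfsg.IsDefectGroup 2 M B D) (C : Subgroup G) (hCD : C ≤ D) (hcyc : IsCyclic C) (hidx : C.relIndex D ≤ 4) : Nat.card B ≤ Nat.card D := by
  classical
  haveI : Fact (Nat.Prime 2) := ⟨Nat.prime_two⟩
  haveI := Fintype.ofFinite G
  have hDp := isPGroup_defectGroup hM hD
  -- a cyclic subgroup of index at most four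
  obtain ⟨g, hg⟩ := hcyc.exists_generator
  obtain ⟨a₀, ha₀⟩ : ∃ a₀ : D, a₀ = ⟨(g : G), hCD g.2⟩ := ⟨_, rfl⟩
  have hCeq : Subgroup.zpowers a₀ = C.subgroupOf D := by
    refine le_antisymm (Subgroup.zpowers_le.2 (Subgroup.mem_subgroupOf.2 (by rw [ha₀]; exact g.2)))
      fun x hx => ?_
    obtain ⟨i, hi⟩ := Subgroup.mem_zpowers_iff.1 (hg ⟨(x : G), Subgroup.mem_subgroupOf.1 hx⟩)
    refine Subgroup.mem_zpowers_iff.2 ⟨i, Subtype.ext ?_⟩
    have h2 := congrArg Subtype.val hi
    simp only [SubgroupClass.coe_zpow] at h2 ⊢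
    rw [ha₀]
    exact h2
  obtain ⟨z, hzc, hgood⟩ := exists_goodCenter hDp (a₀ := a₀) (by rw [hCeq]; exact hidx)
  haveI hzn : (Subgroup.zpowers z).Normal :=
    ⟨fun y hy d => by
      rw [Subgroup.mem_center_iff.1 (Subgroup.zpowers_le.2 hzc hy) d, mul_inv_cancel_right]
      exact hy⟩
  specialize hgood hzn
  obtain ⟨z₀, hz₀⟩ : ∃ z₀ : G, z₀ = (z : G) := ⟨_, rfl⟩
  have hz₀D : z₀ ∈ D := hz₀ ▸ z.2
  have hcom : ∀ d ∈ D, d * z₀ = z₀ * d := fun d hd =>
    hz₀ ▸ congrArg Subtype.val (Subgroup.mem_center_iff.1 hzc ⟨d, hd⟩)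
  -- the subsection at the central element
  obtain ⟨c, hc⟩ := exists_pair_at_defect hM hB hD
  obtain ⟨f, hf, hle⟩ := exists_subpair hM hc.1.1 (Subgroup.zpowers_le.2 hz₀D)
  have hDK : D ≤ Subgroup.centralizer (Subgroup.zpowers z₀ : Set G) := fun d hd =>
    Subgroup.mem_centralizer_iff.2 fun y hy => by
      obtain ⟨i, rfl⟩ := Subgroup.mem_zpowers_iff.1 hy
      exact (Commute.zpow_left (hcom d hd).symm i).eq
  have hdef := subpair_defect_central hM hc hDK hle
  have hord : ∃ k : ℕ, orderOf z₀ = 2 ^ k := by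
    obtain ⟨k, hk⟩ := IsPGroup.iff_orderOf.1 hDp z
    exact ⟨k, by rw [hz₀, Subgroup.orderOf_coe, hk]⟩
  have hind := (isBrauerPairOf_zpowers_iff hM hB hord hf).1
    ((isBrauerPairOf_iff_of_le hM hle B).1 hc.1)
  -- its rank
  have hl : Cfsg.blockRank 2 f ≤ 3 := by
    obtain ⟨K, hK⟩ : ∃ K : Subgroup G, K = Subgroup.centralizer (Subgroup.zpowers z₀ : Set G) :=
      ⟨_, rfl⟩
    clear hle hind
    revert f
    rw [← hK] at hDK ⊢
    intro f hf hdef
    have hz₀K : z₀ ∈ K := hDK hz₀D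
    obtain ⟨N, hN⟩ : ∃ N : Subgroup K, N = Subgroup.zpowers (⟨z₀, hz₀K⟩ : K) := ⟨_, rfl⟩
    have hNc : N ≤ Subgroup.center K := by
      rw [hN, Subgroup.zpowers_le, Subgroup.mem_center_iff]
      intro k
      have hk := k.2
      simp only [hK, Subgroup.mem_centralizer_iff] at hk
      exact Subtype.ext (hk z₀ (Subgroup.mem_zpowers z₀)).symm
    have hNp : IsPGroup 2 N := by
      obtain ⟨k, hk⟩ := hord
      refine IsPGroup.of_card (n := k) ?_
      rw [hN, Nat.card_zpowers, Subgroup.orderOf_mk, hk]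
    haveI : N.Normal := ⟨fun y hy k => by
      rw [Subgroup.mem_center_iff.1 (hNc hy) k, mul_inv_cancel_right]
      exact hy⟩
    haveI := Fintype.ofFinite (K ⧸ N)
    haveI := Fintype.ofFinite K
    obtain ⟨hb', hdef'⟩ := deflSet_central hM hNp hNc hf
    obtain ⟨φ, hφ⟩ : ∃ φ : D →* K ⧸ N, φ = (QuotientGroup.mk' N).comp (Subgroup.inclusion hDK) :=
      ⟨_, rfl⟩
    have hker : φ.ker = Subgroup.zpowers z := by
      ext d
      rw [MonoidHom.mem_ker, hφ, MonoidHom.comp_apply, QuotientGroup.mk'_apply,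
        QuotientGroup.eq_one_iff, hN, Subgroup.mem_zpowers_iff, Subgroup.mem_zpowers_iff]
      refine exists_congr fun i => ?_
      rw [Subtype.ext_iff, Subtype.ext_iff, SubgroupClass.coe_zpow, SubgroupClass.coe_zpow,
        Subgroup.coe_inclusion]
      subst hz₀
      rfl
    have hrange : φ.range = (D.subgroupOf K).map (QuotientGroup.mk' N) := by
      rw [hφ, MonoidHom.range_comp, Subgroup.inclusion_range]
    rw [← blockRank_deflSet hM N hNp (fun k _ => centralizer_of_le_center hNc k) hf]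
    exact hgood (K ⧸ N) M _ _ hM hb' (hdef' _ hdef)
      ⟨((MulEquiv.subgroupCongr hrange.symm).trans
        (QuotientGroup.quotientKerEquivRange φ).symm).trans
          (QuotientGroup.quotientMulEquivOfEq hker)⟩
  -- the bound
  have hmove : ∀ H : Subgroup G, H = Subgroup.centralizer (Subgroup.zpowers z₀ : Set G) →
      ∃ b : Set (Cfsg.IrrCharacter H), Cfsg.IsInducedBlock M H b B ∧
        Cfsg.IsDefectGroup 2 M b (D.subgroupOf H) ∧ Cfsg.blockRank 2 b ≤ 3 := by
    rintro H rfl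
    exact ⟨f, hind, hdef, hl⟩
  obtain ⟨b, hb, hbD, hbl⟩ := hmove _ (centralizer_singleton_eq z₀)
  have h := Cfsg.Agent.S4540.result M hM B hB D hD z₀ hz₀D hcom b hb hbD hbl
  rw [card_defectGroup hM hB hD]
  omega

end Cfsg.Agent.S4544
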