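import Cfsg.Statements.S4528
import Cfsg.Agent.Lib.Block.DihedralDefectExists

set_option autoImplicit false
open Cfsg

namespace Cfsg.Agent.S4528

open Cfsg.Lib.Block

/-- Let B be a 2-block of the finite group G (relative to a maximal ideal M of the algebraic integers containing 2) whose defect group D is dihedral of order 2 ^ n with n ≥ 3. Then B contains exactly 2 ^ (n - 2) + 3 irreducible characters, its 2-regular rank (the number of irreducible Brauer characters) is between 1 and 3, exactly four of its members have height zero, and every member has height at most one. -/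
theorem result {G : Type*} [Group G] [Finite G] (M : Ideal Cfsg.AlgInt) (hM : Cfsg.IsPModular 2 M) (B : Set (Cfsg.IrrCharacter G)) (hB : Cfsg.IsPBlock M B) (D : Subgroup G) (hD : Cfsg.IsDefectGroup 2 M B D) (n : ℕ) (hn : 3 ≤ n) (hdih : Nonempty (D ≃* DihedralGroup (2 ^ (n - 1)))) : Nat.card B = 2 ^ (n - 2) + 3 ∧ 1 ≤ Cfsg.blockRank 2 B ∧ Cfsg.blockRank 2 B ≤ 3 ∧ Nat.card {χ : Cfsg.IrrCharacter G // χ ∈ B ∧ Cfsg.blockHeight 2 B (χ : G → ℂ) = 0} = 4 ∧ ∀ χ ∈ B, Cfsg.blockHeight 2 B (χ : G → ℂ) ≤ 1 := by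
  classical
  letI : Fintype G := Fintype.ofFinite G
  haveI : Fact (Nat.Prime 2) := ⟨Nat.prime_two⟩
  obtain ⟨m, rfl⟩ : ∃ m, n = m + 3 := ⟨n - 3, by omega⟩
  rw [show 2 ^ (m + 3 - 1) = 2 * 2 ^ (m + 1) by
    rw [show m + 3 - 1 = (m + 1) + 1 by omega, pow_succ, mul_comm]] at hdih
  rw [show m + 3 - 2 = m + 1 by omega]
  obtain ⟨h, hh⟩ : ∃ h, h = 2 ^ (m + 1) := ⟨_, rfl⟩
  rw [← hh] at hdih ⊢
  obtain ⟨e⟩ := hdih
  have h2 : 2 ≤ h := by
    rw [hh]
    exact le_self_pow (by norm_num) (by omega)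
  have heven : Even h := hh ▸ Nat.even_pow.2 ⟨even_two, by omega⟩
  have hk : 4 * h = 2 ^ (m + 3) := by rw [hh]; ring
  have hsmall : h = 2 ∨ h = 4 ∨ 8 ≤ h := by
    rw [hh]
    rcases m with _ | _ | m
    · exact Or.inl rfl
    · exact Or.inr (Or.inl rfl)
    · exact Or.inr (Or.inr (le_trans (by norm_num : 8 ≤ 2 ^ 3)
        (Nat.pow_le_pow_right (by norm_num) (by omega))))
  obtain ⟨K, f, P, c, e', χ₀, μ, bl, S, -⟩ := exists_dihData hM hB hD h2 heven hk e
  obtain ⟨ζ, hζ⟩ : ∃ ζ : ℂ, IsPrimitiveRoot ζ (2 * h) :=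
    ⟨_, Complex.isPrimitiveRoot_exp (2 * h) (by omega)⟩
  obtain ⟨w, hval, hinv, hgram, hsym, hmid, hrel⟩ := S.exists_weights hζ
  rcases block_weight_shape B.toFinset h2 heven hsmall w hgram (fun x hx => (hmid x hx).2) with
    hR | hE
  · exact S.invariants_of_regular hmid hrel hR
  · exact absurd hE (S.not_exceptional hζ e' rfl rfl hval hinv hsym hmid hrel)

end Cfsg.Agent.S4528
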