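import Cfsg.Statements.S4470
import Cfsg.Agent.Lib.Char.SmallEigen
-- import your own Cfsg.Agent.* helpers here

set_option autoImplicit false
open Cfsg

namespace Cfsg.Agent.S4470

set_option linter.style.haveILetI false
open Cfsg Cfsg.Lib.Char


/-- Let the finite group G have a faithful character of degree n. Then G has an abelian normal subgroup A such that every abelian subgroup H of G satisfies [H : H ⊓ A] ≤ 12^n. -/
theorem result {G : Type*} [Group G] [Finite G] (χ : G → ℂ) (hχ : Cfsg.IsCharacter G χ) (hfaith : ∀ g : G, χ g = χ 1 → g = 1) (n : ℕ) (hn : Cfsg.charDegree χ = n) : ∃ A : Subgroup G, A.Normal ∧ (∀ x ∈ A, ∀ y ∈ A, x * y = y * x) ∧ ∀ H : Subgroup G, (∀ x ∈ H, ∀ y ∈ H, x * y = y * x) → (A.subgroupOf H).index ≤ 12 ^ n := by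
  classical
  haveI := Fintype.ofFinite G
  obtain ⟨d, ρ, rfl⟩ := hχ
  have hd : d = n := by
    have h1 := (isCharacter_character ρ).apply_one_eq_charDegree
    rw [hn, Representation.char_one, Module.finrank_fin_fun] at h1
    exact_mod_cast h1
  subst hd
  rcases Nat.eq_zero_or_pos d with rfl | hpos
  · have htriv : ∀ g : G, g = 1 := fun g => hfaith g
      (congrArg (LinearMap.trace ℂ _) (LinearMap.ext fun v => funext fun i => Fin.elim0 i))
    refine ⟨⊤, inferInstance, fun x _ y _ => by rw [htriv x, htriv y], fun H _ => ?_⟩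
    simp
  haveI : NeZero d := ⟨hpos.ne'⟩
  have hker : ∀ g, ρ g = 1 → g = 1 := fun g h => hfaith g (by
    show LinearMap.trace ℂ _ (ρ g) = LinearMap.trace ℂ _ (ρ 1)
    exact congrArg _ (h.trans (map_one ρ).symm))
  let S : Set G := shortArc ρ
  refine ⟨Subgroup.closure S, ?_, fun x hx y hy => ?_, fun H hH => ?_⟩
  · refine ⟨fun a ha g => ?_⟩
    have h1 : (Subgroup.closure S).map (MulAut.conj g).toMonoidHom ≤ Subgroup.closure S := by
      rw [MonoidHom.map_closure]
      refine Subgroup.closure_mono ?_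
      rintro _ ⟨s, hs, rfl⟩
      exact conj_mem_shortArc ρ hs g
    exact h1 ⟨a, ha, rfl⟩
  · haveI := Subgroup.isMulCommutative_closure (k := S)
      fun a ha b hb => (commute_of_shortArc hker ha hb).eq
    exact congrArg Subtype.val (mul_comm' (⟨x, hx⟩ : Subgroup.closure S) ⟨y, hy⟩)
  letI : CommGroup H :=
    { (inferInstance : Group H) with mul_comm := fun a b => Subtype.ext (hH a a.2 b b.2) }
  obtain ⟨ι, _, μ, P, hsum, hact, horth, -, hcard⟩ := exists_weight_decomp ρ H.subtype
  let box : H → ι → Fin 12 := fun h i =>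
    ⟨⌊(Real.pi - Complex.arg (μ i h : ℂ)) / (Real.pi / 6)⌋₊, by
      rw [Nat.floor_lt' (by norm_num)]
      rw [div_lt_iff₀ (by positivity)]
      push_cast
      linarith [Complex.neg_pi_lt_arg (μ i h : ℂ), Real.pi_pos]⟩
  have hkey : ∀ h k : H, box h = box k → h⁻¹ * k ∈ (Subgroup.closure S).subgroupOf H := by
    intro h k he
    refine Subgroup.mem_subgroupOf.mpr (Subgroup.subset_closure ?_)
    refine mem_shortArc_of_weights ρ (fun i => (μ i (h⁻¹ * k) : ℂ)) P hsum
      (fun i v => hact i (h⁻¹ * k) v) horth fun i => ?_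
    have hb := congrArg Fin.val (congrFun he i)
    simp only [box] at hb
    have hpi : (0 : ℝ) < Real.pi / 6 := by positivity
    have hnn : ∀ x : H, 0 ≤ (Real.pi - Complex.arg (μ i x : ℂ)) / (Real.pi / 6) := fun x =>
      div_nonneg (by linarith [Complex.arg_le_pi (μ i x : ℂ)]) hpi.le
    have habs : |Complex.arg (μ i k : ℂ) - Complex.arg (μ i h : ℂ)| < Real.pi / 6 := by
      have a1 := Nat.floor_le (hnn h)
      have a2 := Nat.lt_floor_add_one ((Real.pi - Complex.arg (μ i h : ℂ)) / (Real.pi / 6))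
      have b1 := Nat.floor_le (hnn k)
      have b2 := Nat.lt_floor_add_one ((Real.pi - Complex.arg (μ i k : ℂ)) / (Real.pi / 6))
      rw [hb] at a1 a2
      rw [le_div_iff₀ hpi] at a1 b1
      rw [div_lt_iff₀ hpi] at a2 b2
      rw [abs_lt]
      constructor <;> linarith
    have hexp : (μ i (h⁻¹ * k) : ℂ) = Complex.exp
        (((Complex.arg (μ i k : ℂ) - Complex.arg (μ i h : ℂ) : ℝ) : ℂ) * Complex.I) := by
      have e : ∀ x : H, (μ i x : ℂ) = Complex.exp ((Complex.arg (μ i x : ℂ) : ℂ) * Complex.I) := by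
        intro x
        conv_lhs => rw [← Complex.norm_mul_exp_arg_mul_I (μ i x : ℂ), norm_hom_eq_one,
          Complex.ofReal_one, one_mul]
      rw [map_mul, map_inv, Units.val_mul, Units.val_inv_eq_inv_val, Complex.ofReal_sub, sub_mul,
        Complex.exp_sub, ← e k, ← e h, inv_mul_eq_div]
    rw [hexp]
    exact norm_sub_sqrt_three_lt habs
  rw [Subgroup.index_eq_card]
  calc Nat.card (H ⧸ (Subgroup.closure S).subgroupOf H)
      ≤ Nat.card (ι → Fin 12) := by
        refine Nat.card_le_card_of_injective (fun q => box q.out) fun q r hqr => ?_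
        have h1 := QuotientGroup.eq.mpr (hkey _ _ hqr)
        rwa [QuotientGroup.out_eq', QuotientGroup.out_eq'] at h1
    _ = 12 ^ Fintype.card ι := by rw [Nat.card_eq_fintype_card, Fintype.card_fun, Fintype.card_fin]
    _ ≤ 12 ^ d := Nat.pow_le_pow_right (by norm_num) hcard

end Cfsg.Agent.S4470
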