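import Cfsg.Statements.S0912
import Cfsg.Agent.Lib.Block.Induced
import Cfsg.Agent.Lib.Core.Cores

set_option autoImplicit false
open Cfsg

namespace Cfsg.Agent.S0912

/-- Let B be a block of the finite group G relative to a maximal ideal M of the algebraic integers containing the prime p. Every defect group of B contains the largest normal p-subgroup O_p(G). -/
theorem result {G : Type*} [Group G] [Finite G] (p : ℕ) [Fact p.Prime] (M : Ideal Cfsg.AlgInt) (hM : Cfsg.IsPModular p M) (B : Set (Cfsg.IrrCharacter G)) (hB : Cfsg.IsPBlock M B) (D : Subgroup G) (hD : Cfsg.IsDefectGroup p M B D) : Cfsg.pCore p G ≤ D := by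
  haveI := Fintype.ofFinite G
  obtain ⟨g, hg, S, rfl⟩ := Lib.Block.isDefectGroup_iff.1 hD
  have hgC : g ∈ Subgroup.centralizer (Cfsg.pCore p G : Set G) := by
    by_contra hn
    exact hg.2.1 (Lib.Block.blockCoeff_eq_zero_of_notMem hM (Lib.Core.pCore_isPGroup p G) hB hn ▸
      Lib.Block.memLocalIdeal_zero hM)
  obtain ⟨x, hx, hle⟩ := Lib.Block.exists_conj_le_cenSyl S (Lib.Core.pCore_isPGroup p G)
    (Lib.Block.mem_centralizer_singleton_of hgC)
  intro y hy
  refine hle ⟨x⁻¹ * y * x, ?_, ?_⟩
  · have h := Subgroup.Normal.conj_mem inferInstance y hy x⁻¹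
    rwa [inv_inv] at h
  · simp [mul_assoc]

end Cfsg.Agent.S0912
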