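import Cfsg.Statements.S1279
import Cfsg.Agent.Lib.Sig.PConstrained

set_option autoImplicit false
open Cfsg

namespace Cfsg.Agent.S1279

/-- Let A be a noncyclic elementary abelian p-subgroup of the finite group G such that C_G(a) is solvable for every non-identity a ∈ A. Then a ↦ O_{p'}(C_G(a)) is a solvable A-signalizer functor on G. -/
theorem result {G : Type*} [Group G] [Finite G] (p : ℕ) [Fact p.Prime] (A : Subgroup G) (hA : Cfsg.IsElementaryAbelian p A) (hA2 : p ^ 2 ≤ Nat.card ↥A) (hsolv : ∀ a ∈ A, a ≠ 1 → Group.IsSolvable ↥(Subgroup.centralizer ({a} : Set G))) : Cfsg.IsSolvableSignalizerFunctor p A (fun a => Cfsg.centralizerPPrimeCore p a) := by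
    refine ⟨⟨fun a _ _ => Subgroup.map_subtype_le _, fun a _ _ => ?_, ?_, ?_⟩, fun a ha ha1 => ?_⟩
    · show ¬ p ∣ Nat.card ↥(Cfsg.centralizerPPrimeCore p a)
      intro hdvd
      exact Cfsg.Lib.Core.pPrimeCore_not_dvd p ↥(Subgroup.centralizer ({a} : Set G))
        (hdvd.trans (Subgroup.card_map_dvd _ _))
    · intro a ha ha1 b hb x hx
      have := hA.1
      have hab : b * a = a * b := congrArg Subtype.val (mul_comm' (⟨b, hb⟩ : ↥A) ⟨a, ha⟩)
      obtain ⟨y, hy, rfl⟩ := hx
      exact ⟨⟨b, Subgroup.mem_centralizer_singleton_iff.2 hab⟩ * y *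
          ⟨b, Subgroup.mem_centralizer_singleton_iff.2 hab⟩⁻¹,
        Subgroup.Normal.conj_mem inferInstance y hy _, rfl⟩
    · intro a ha ha1 b hb hb1
      have := hA.1
      have := hsolv b hb hb1
      have hab : a * b = b * a := congrArg Subtype.val (mul_comm' (⟨a, ha⟩ : ↥A) ⟨b, hb⟩)
      have hap : IsPGroup p ↥(Subgroup.zpowers a) := IsPGroup.of_card (n := 1) (by
        rw [Nat.card_zpowers, orderOf_eq_prime (hA.2 a ha) ha1, pow_one])
      exact Cfsg.Lib.Sig.centralizerPPrimeCore_inf_le hap hab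
        (Cfsg.Lib.Sig.isPConstrained_of_isPSolvable Cfsg.Lib.Core.isPSolvable_of_isSolvable)
    · exact Cfsg.Lib.Core.isSolvable_of_le (Subgroup.map_subtype_le _) (hsolv a ha ha1)

end Cfsg.Agent.S1279
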