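import Cfsg.Statements.S4456
import Cfsg.Agent.Lib.Block.ThompsonDegree
import Cfsg.Agent.Lib.Char.Linear

set_option autoImplicit false
open Cfsg

namespace Cfsg.Agent.S4456

/-- Let p be a prime and G a finite group such that p divides the degree of every irreducible character of G of degree greater than one. Then G has a normal p-complement: a normal subgroup of order prime to p whose index is a power of p. -/
theorem result {G : Type*} [Group G] [Finite G] (p : ℕ) (hp : p.Prime) (hdeg : ∀ χ : Cfsg.IrrCharacter G, Cfsg.charDegree (χ : G → ℂ) ≠ 1 → p ∣ Cfsg.charDegree (χ : G → ℂ)) : ∃ N : Subgroup G, N.Normal ∧ (Nat.card N).Coprime p ∧ ∃ k : ℕ, N.index = p ^ k := by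
  classical
  haveI := Fintype.ofFinite G
  haveI : Fact p.Prime := ⟨hp⟩
  obtain ⟨j, hj⟩ := Cfsg.Lib.Fusion.index_pResidual_eq_pow (p := p) (G := G)
  refine ⟨Cfsg.pResidual p G, inferInstance, ?_, j, hj⟩
  rw [Nat.coprime_comm, hp.coprime_iff_not_dvd, ← CharP.cast_eq_zero_iff (ZMod p) p,
    Cfsg.Lib.Block.card_pResidual_modEq]
  haveI : Finite (G →* ℂˣ) := Nat.finite_of_card_ne_zero
    (by rw [Cfsg.Lib.Char.card_linear_eq_index]; exact Subgroup.index_ne_zero_of_finite)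
  have hdet : ∀ f : G →* ℂˣ, Cfsg.detOrder (fun g => (f g : ℂ)) = orderOf f := by
    intro f
    rw [← Cfsg.Lib.Char.linearRep_character, Cfsg.Lib.Char.detOrder_character]
    congr 1
    refine MonoidHom.ext fun g => Units.ext ?_
    rw [Cfsg.Lib.Char.detHom_apply]
    show LinearMap.det ((f g : ℂ) • (LinearMap.id : ℂ →ₗ[ℂ] ℂ)) = _
    rw [LinearMap.det_smul, LinearMap.det_id, Module.finrank_self, pow_one, mul_one]
  have hlin : ∀ f : G →* ℂˣ, Cfsg.charDegree (fun g => (f g : ℂ)) = 1 := by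
    intro f
    simp [Cfsg.charDegree]
  obtain ⟨k, m, hm, he⟩ :=
    Nat.exists_eq_pow_mul_and_not_dvd (Nat.card_pos (α := G →* ℂˣ)).ne' p hp.ne_one
  let T : Subgroup (G →* ℂˣ) := (powMonoidHom m).ker
  haveI := Fintype.ofFinite (G →* ℂˣ)
  have hsum : ∑ᶠ χ ∈ {χ : Cfsg.IrrCharacter G | ¬ p ∣ Cfsg.charDegree (χ : G → ℂ) ∧
      ¬ p ∣ Cfsg.detOrder (χ : G → ℂ)}, (Cfsg.charDegree (χ : G → ℂ) : ZMod p) ^ 2 =
      (Nat.card T : ZMod p) := by
    rw [finsum_mem_eq_toFinset_sum, Finset.sum_congr rfl (g := fun _ => (1 : ZMod p)) (fun χ hχ => by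
      have h : ¬ p ∣ Cfsg.charDegree (χ : G → ℂ) := (Set.mem_toFinset.1 hχ).1
      rw [show Cfsg.charDegree (χ : G → ℂ) = 1 from by_contra fun h1 => h (hdeg χ h1), Nat.cast_one,
        one_pow]), Finset.sum_const, nsmul_one]
    congr 1
    rw [← Nat.card_eq_finsetCard]
    refine (Nat.card_congr (Equiv.ofBijective (fun f : T =>
      (⟨⟨fun g => ((f : G →* ℂˣ) g : ℂ), Cfsg.Lib.Char.isIrrCharacter_linear _⟩, ?_⟩ :
        {χ // χ ∈ _})) ⟨?_, ?_⟩)).symm
    · rw [Set.mem_toFinset]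
      refine ⟨by rw [hlin]; exact hp.not_dvd_one, ?_⟩
      rw [hdet]
      exact fun h => hm (h.trans (orderOf_dvd_of_pow_eq_one f.2))
    · intro a b h
      exact Subtype.ext (Cfsg.Lib.Char.linearChar_injective
        (congrArg (fun c => (c.1 : G → ℂ)) h))
    · rintro ⟨χ, hχ⟩
      obtain ⟨h1, h2⟩ := Set.mem_toFinset.1 hχ
      obtain ⟨f, hf⟩ := Cfsg.Lib.Char.exists_hom_of_degree_one χ.2.isCharacter
        (by rw [χ.2.apply_one_eq_charDegree, show Cfsg.charDegree (χ : G → ℂ) = 1 from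
          by_contra fun h => h1 (hdeg χ h), Nat.cast_one])
      rw [hf, hdet] at h2
      refine ⟨⟨f, orderOf_dvd_iff_pow_eq_one.1 (Nat.Coprime.dvd_of_dvd_mul_left
        ((Nat.Coprime.symm ((hp.coprime_iff_not_dvd).2 h2)).pow_right k)
        (he ▸ orderOf_dvd_natCard f))⟩, Subtype.ext (Subtype.ext hf.symm)⟩
  rw [hsum, CharP.cast_eq_zero_iff (ZMod p) p]
  intro h
  obtain ⟨t, ht⟩ := exists_prime_orderOf_dvd_card' p h
  apply hm
  rw [← ht, ← orderOf_submonoid]
  exact orderOf_dvd_of_pow_eq_one t.2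

end Cfsg.Agent.S4456
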