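import Cfsg.Statements.S4551
import Cfsg.Agent.Lib.Block.AlperinRestriction

set_option autoImplicit false
open Cfsg

set_option linter.style.haveILetI false

namespace Cfsg.Agent.S4551

/-- Let N be a normal subgroup of the finite group G of index prime to p, P a Sylow p-subgroup of G with G = N·C_G(P), and M a maximal ideal of the algebraic integers containing p. Then restriction to N is a bijection from the principal p-block of G onto the principal p-block of N: every member of the principal block of G restricts to a member of the principal block of N, and every member of the principal block of N is the restriction of exactly one member of the principal block of G. -/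
theorem result {G : Type*} [Group G] [Finite G] (p : ℕ) [Fact p.Prime] (M : Ideal Cfsg.AlgInt) (hM : Cfsg.IsPModular p M) (N : Subgroup G) [N.Normal] (hidx : ¬ p ∣ N.index) (P : Sylow p G) (hsup : N ⊔ Subgroup.centralizer ((P : Subgroup G) : Set G) = ⊤) : (∀ χ ∈ Cfsg.principalBlock M G, ∃ θ ∈ Cfsg.principalBlock M ↥N, ∀ n : N, (χ : G → ℂ) n = (θ : N → ℂ) n) ∧ ∀ θ ∈ Cfsg.principalBlock M ↥N, ∃! χ : Cfsg.IrrCharacter G, χ ∈ Cfsg.principalBlock M G ∧ ∀ n : N, (χ : G → ℂ) n = (θ : N → ℂ) n := by
  classical
  haveI := Fintype.ofFinite G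
  haveI := Fintype.ofFinite N
  have hp : p.Prime := Fact.out
  have hPN : (P : Subgroup G) ≤ N := by
    intro x hx
    obtain ⟨a, ha⟩ := P.2 ⟨x, hx⟩
    have h1 : ((x : G) : G ⧸ N) ^ p ^ a = 1 := by
      rw [← QuotientGroup.mk_pow, show x ^ p ^ a = 1 from congrArg Subtype.val ha,
        QuotientGroup.mk_one]
    have h2 : orderOf ((x : G) : G ⧸ N) ∣ N.index := by
      rw [Subgroup.index_eq_card]; exact orderOf_dvd_natCard _
    exact (QuotientGroup.eq_one_iff x).mp (orderOf_eq_one_iff.mp (Nat.eq_one_of_dvd_coprimes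
      (Nat.Coprime.pow_left a (hp.coprime_iff_not_dvd.mpr hidx))
      (orderOf_dvd_of_pow_eq_one h1) h2))
  let PN : Sylow p N := P.subtype hPN
  have hmap : (PN : Subgroup N).map N.subtype = (P : Subgroup G) := by
    rw [show (PN : Subgroup N) = (P : Subgroup G).subgroupOf N from Sylow.coe_subtype ..,
      Subgroup.map_subgroupOf_eq_of_le hPN]
  have hcov : N ⊔ Subgroup.centralizer (((PN : Subgroup N).map N.subtype : Subgroup G) : Set G) = ⊤ := by
    rw [hmap]; exact hsup
  have hinv := Lib.Block.invariant_of_covered N hM PN hcov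
  have hext := Lib.Block.exists_principal_extension_of_index N hM hidx PN hcov
  refine ⟨fun χ hχ => ?_, fun θ hθ => ?_⟩
  · obtain ⟨η, hη⟩ := Lib.Char.exists_irr_constituent_res N χ.2
    have htriv : Cfsg.classInner
        (fun n : N => ((Lib.Block.trivChar G : Cfsg.IrrCharacter G) : G → ℂ) n)
        ((Lib.Block.trivChar N : Cfsg.IrrCharacter N) : N → ℂ) ≠ 0 := by
      rw [show (fun n : N => ((Lib.Block.trivChar G : Cfsg.IrrCharacter G) : G → ℂ) n) =
        ((Lib.Block.trivChar N : Cfsg.IrrCharacter N) : N → ℂ) from rfl,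
        Lib.Char.classInner_irr_self (Lib.Block.trivChar N).2]
      exact one_ne_zero
    obtain ⟨g, hg⟩ := Lib.Block.constituent_conj N hM Lib.Block.isPBlock_principal
      Lib.Block.isPBlock_principal (Lib.Block.trivChar_mem_principal hM)
      (Lib.Block.trivChar_mem_principal hM) htriv hχ hη
    have hηmem : η ∈ Cfsg.principalBlock M ↥N :=
      (Lib.Block.sameBlock_twistIrr N g (Lib.Block.trivChar N) η).mp hg
    obtain ⟨χ₀, hχ₀, hres⟩ := hext η hηmem
    have heq := Lib.Block.eq_of_principal_over N hM P hPN hidx hsup η.2 (hinv η hηmem) hχ₀ hres hχ hη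
    exact ⟨η, hηmem, fun n => by rw [heq]; exact hres n⟩
  · obtain ⟨χ₀, hχ₀, hres⟩ := hext θ hθ
    refine ⟨χ₀, ⟨hχ₀, hres⟩, fun χ hχ => ?_⟩
    refine Lib.Block.eq_of_principal_over N hM P hPN hidx hsup θ.2 (hinv θ hθ) hχ₀ hres hχ.1 ?_
    rw [show (fun n : N => (χ : G → ℂ) n) = (θ : N → ℂ) from funext hχ.2,
      Lib.Char.classInner_irr_self θ.2]
    exact one_ne_zero

end Cfsg.Agent.S4551
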