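import Cfsg.Statements.S4593
import Cfsg.Agent.Lib.ZStar.Main
import Cfsg.Agent.Lib.Fusion.Abelian

set_option autoImplicit false
open Cfsg Subgroup

namespace Cfsg.Agent.S4593

theorem key {G E : Type*} [Group G] [Finite G] [Group E] [Finite E] (f : G →* E)
    (hf : Function.Injective f) [hn : f.range.Normal]
    (hC : ∀ e : E, (∀ g, Commute e (f g)) → e = 1)
    (hcore : Cfsg.pPrimeCore 2 G = ⊥) (P : Sylow 2 G) (hab : IsMulCommutative (P : Subgroup G))
    (a : E) (hdec : ∀ e : E, ∃ g : G, ∃ k : ℤ, e = f g * a ^ k)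
    (ha : ∃ j : ℕ, orderOf a = 2 ^ j) (hfix : ∀ x ∈ (P : Subgroup G), Commute a (f x)) :
    a ∈ f.range := by
  haveI : Fact (Nat.Prime 2) := ⟨Nat.prime_two⟩
  have hO : oddCore E = ⊥ := by
    rw [eq_bot_iff]
    intro e he
    haveI : (oddCore E).Normal := inferInstanceAs (Cfsg.pPrimeCore 2 E).Normal
    have hinf : (oddCore E).comap f = ⊥ := by
      rw [eq_bot_iff, ← hcore]
      refine Cfsg.Lib.ZStar.le_oddCore inferInstance ?_
      have h := Subgroup.card_dvd_of_le (Subgroup.map_comap_le f (oddCore E))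
      rw [Nat.card_congr ((Subgroup.comap (G := G) f (oddCore E)).equivMapOfInjective f hf).symm.toEquiv] at h
      exact Cfsg.Lib.ZStar.odd_card_oddCore.of_dvd_nat h
    rw [mem_bot]
    refine hC e fun g => ?_
    obtain ⟨g', hg'⟩ := hn.conj_mem (f g) ⟨g, rfl⟩ e
    have h1 : g' * g⁻¹ ∈ (oddCore E).comap f := by
      rw [mem_comap, map_mul, map_inv, hg', mul_assoc, mul_assoc]
      refine mul_mem he ?_
      rw [← mul_assoc]
      exact Normal.conj_mem inferInstance _ (inv_mem he) _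
    rw [hinf, mem_bot, mul_inv_eq_one] at h1
    rw [h1] at hg'
    exact eq_mul_inv_iff_mul_eq.1 hg' |>.symm
  -- the abelian Sylow subgroup
  have hA : zpowers a ≤ centralizer ((P : Subgroup G).map f : Set E) := by
    rw [zpowers_le, mem_centralizer_iff]
    rintro _ ⟨x, hx, rfl⟩
    exact (hfix x hx).eq.symm
  obtain ⟨j, hj⟩ := ha
  have hH : IsPGroup 2 (zpowers a ⊔ (P : Subgroup G).map f : Subgroup E) :=
    IsPGroup.to_sup_of_normal_right' (IsPGroup.of_card (n := j) (by rw [Nat.card_zpowers, hj]))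
      (P.2.map f) (hA.trans (centralizer_le_normalizer _))
  obtain ⟨T, hT⟩ := hH.exists_le_sylow
  have haT : a ∈ (T : Subgroup E) := hT (mem_sup_left (mem_zpowers a))
  have hcomap : (T : Subgroup E).comap f = (P : Subgroup G) :=
    P.is_maximal' (T.2.comap_of_injective f hf) fun x hx =>
      hT (mem_sup_right ⟨x, hx, rfl⟩)
  have hT' : ∀ t ∈ (T : Subgroup E), ∃ x ∈ (P : Subgroup G), ∃ k : ℤ, t = f x * a ^ k := by
    intro t ht
    obtain ⟨g, k, rfl⟩ := hdec t
    refine ⟨g, ?_, k, rfl⟩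
    rw [← hcomap, mem_comap]
    exact (Subgroup.mul_mem_cancel_right _ (zpow_mem haT k)).1 ht
  haveI hTab : IsMulCommutative (T : Subgroup E) := by
    refine ⟨⟨?_⟩⟩
    rintro ⟨s, hs⟩ ⟨t, ht⟩
    apply Subtype.ext
    obtain ⟨x, hx, k, rfl⟩ := hT' s hs
    obtain ⟨y, hy, l, rfl⟩ := hT' t ht
    have hxy : Commute (f x) (f y) := by
      have := congrArg Subtype.val (hab.is_comm.comm ⟨x, hx⟩ ⟨y, hy⟩)
      exact (Commute.map (x := x) (y := y) this f)
    exact ((hxy.mul_right ((hfix x hx).zpow_left l).symm).mul_left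
      (((hfix y hy).zpow_left k).mul_right ((Commute.refl a).zpow_zpow k l)))
  have hcomm : commutator E ≤ f.range := by
    refine Normal.quotient_commutative_iff_commutator_le.mp ⟨⟨fun u v => ?_⟩⟩
    obtain ⟨u, rfl⟩ := QuotientGroup.mk_surjective u
    obtain ⟨v, rfl⟩ := QuotientGroup.mk_surjective v
    obtain ⟨g, k, rfl⟩ := hdec u
    obtain ⟨h, l, rfl⟩ := hdec v
    have h1 : ∀ g, ((f g : E) : E ⧸ f.range) = 1 := fun g =>
      (QuotientGroup.eq_one_iff _).2 ⟨g, rfl⟩
    rw [QuotientGroup.mk_mul, QuotientGroup.mk_mul, h1, h1, one_mul, one_mul,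
      ← QuotientGroup.mk_mul, ← QuotientGroup.mk_mul, ((Commute.refl a).zpow_zpow k l).eq]
  -- split `a` along the normalizer of `T`
  set N := normalizer ((T : Subgroup E) : Set E)
  have hTN : (T : Subgroup E) ≤ N := le_normalizer
  set B := (T : Subgroup E).subgroupOf N
  haveI : B.Normal := normal_in_normalizer
  haveI : IsMulCommutative B := ⟨⟨fun u v => by
    have h : ((u : N) : E) * (v : N) = (v : N) * (u : N) :=
      congrArg Subtype.val (hTab.is_comm.comm ⟨((u : N) : E), u.2⟩ ⟨((v : N) : E), v.2⟩)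
    exact Subtype.ext (Subtype.ext h)⟩⟩
  have hB : (Nat.card B).Coprime B.index := by
    rw [Nat.card_congr (subgroupOfEquivOfLe hTN).toEquiv]
    exact T.card_coprime_index.coprime_dvd_right ⟨N.index, (relIndex_mul_index hTN).symm⟩
  obtain ⟨-, -, hdecomp⟩ := Cfsg.Lib.Fusion.abelian_normal_hall_decomp B hB
  have haB : (⟨a, hTN haT⟩ : N) ∈ B := haT
  rw [← hdecomp] at haB
  obtain ⟨c, hc, z, hz, hcz⟩ := mem_sup_of_normal_left.1 haB
  have hcI : (c : E) ∈ f.range := hcomm (by
    have h1 : (c : E) ∈ (commutator N).map N.subtype := ⟨c, hc.1, rfl⟩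
    rw [_root_.commutator_def, map_commutator] at h1
    rw [_root_.commutator_def]
    exact commutator_mono le_top le_top h1)
  by_cases hz1 : (z : E) = 1
  · have : (c : E) * z = a := congrArg Subtype.val hcz
    rw [hz1, mul_one] at this
    exact this ▸ hcI
  exfalso
  have hzT : (z : E) ∈ (T : Subgroup E) := hz.2
  obtain ⟨k, hk⟩ := T.2 ⟨z, hzT⟩
  obtain ⟨y, hyz, hy2⟩ : ∃ y ∈ zpowers (z : E), orderOf y = 2 := by
    have h2 : (2 : ℕ) ∣ Nat.card (zpowers (z : E)) := by
      rw [Nat.card_zpowers]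
      obtain ⟨i, -, hi⟩ := (Nat.dvd_prime_pow Nat.prime_two).1
        (orderOf_dvd_of_pow_eq_one (congrArg Subtype.val hk))
      rcases Nat.eq_zero_or_pos i with rfl | hi0
      · exact absurd (orderOf_eq_one_iff.1 (by simpa using hi)) hz1
      · rw [hi]; exact dvd_pow_self 2 hi0.ne'
    obtain ⟨y, hy⟩ := exists_prime_orderOf_dvd_card' 2 h2
    exact ⟨y, y.2, by rw [Subgroup.orderOf_coe, hy]⟩
  have hyT : y ∈ (T : Subgroup E) := zpowers_le.2 hzT hyz
  have hyc : ∀ n ∈ N, n * y * n⁻¹ = y := by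
    intro n hn'
    obtain ⟨m, rfl⟩ := mem_zpowers_iff.1 hyz
    have h1 : Commute n (z : E) := congrArg Subtype.val (mem_center_iff.1 hz.1 ⟨n, hn'⟩)
    rw [(h1.zpow_right m).eq, mul_inv_cancel_right]
  have hiso : IsIsolatedInvolution y := Cfsg.Lib.Invol.isolated_of_sylow T hy2 fun g hg => by
    obtain ⟨n, hn', he⟩ := Cfsg.Lib.Fusion.exists_normalizer_conj_of_abelian T hyT hg
    rw [← he, hyc n hn']
  have h1 := Cfsg.Lib.ZStar.mem_center_of_isolated hO hiso
  have h2 : y = 1 := hC y fun g => (mem_center_iff.1 h1 (f g)).symm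
  rw [h2, orderOf_one] at hy2
  exact absurd hy2 (by decide)

theorem inj_conj {G : Type*} [Group G] (hZ : Subgroup.center G = ⊥) :
    Function.Injective (MulAut.conj : G →* MulAut G) := by
  rw [injective_iff_map_eq_one]
  intro g hg
  rw [← mem_bot, ← hZ, mem_center_iff]
  intro h
  have h1 := DFunLike.congr_fun hg h
  rw [MulAut.conj_apply, MulAut.one_apply, mul_inv_eq_iff_eq_mul] at h1
  exact h1.symm

/-- Let G be a finite group with trivial centre and no nontrivial normal subgroup of odd order, whose Sylow 2-subgroups are abelian, and let P be a Sylow 2-subgroup. Every automorphism of G of 2-power order that fixes P elementwise is inner. -/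
theorem result {G : Type*} [Group G] [Finite G] (hZ : Subgroup.center G = ⊥) (hcore : Cfsg.pPrimeCore 2 G = ⊥) (P : Sylow 2 G) (hab : IsMulCommutative (P : Subgroup G))
    (α : MulAut G) (h2 : ∃ j : ℕ, orderOf α = 2 ^ j) (hfix : ∀ x ∈ (P : Subgroup G), α x = x) :
    ∃ g : G, ∀ x : G, α x = g * x * g⁻¹ := by
  haveI : Finite (MulAut G) := Finite.of_injective _ DFunLike.coe_injective
  have hconj : ∀ (β : MulAut G) g, β * MulAut.conj g * β⁻¹ = MulAut.conj (β g) := fun β g => by
    ext x; simp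
  haveI hIn : (MulAut.conj : G →* MulAut G).range.Normal := ⟨by
    rintro _ ⟨g, rfl⟩ β; exact ⟨β g, (hconj β g).symm⟩⟩
  set E := (MulAut.conj : G →* MulAut G).range ⊔ zpowers α
  let f : G →* E := (MulAut.conj : G →* MulAut G).codRestrict E
    fun g => mem_sup_left ⟨g, rfl⟩
  have hinj : Function.Injective f := fun x y h => inj_conj hZ (congrArg Subtype.val h)
  haveI : f.range.Normal := ⟨by
    rintro _ ⟨g, rfl⟩ ⟨β, hβ⟩
    exact ⟨β g, Subtype.ext (hconj β g).symm⟩⟩
  have hC : ∀ e : E, (∀ g, Commute e (f g)) → e = 1 := by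
    intro e he
    refine Subtype.ext (MulEquiv.ext fun g => inj_conj hZ ?_)
    have h1 : (e : MulAut G) * MulAut.conj g = MulAut.conj g * e := congrArg Subtype.val (he g)
    rw [← hconj, h1, mul_inv_cancel_right]
    rfl
  have hfix' : ∀ x ∈ (P : Subgroup G), Commute (⟨α, mem_sup_right (mem_zpowers α)⟩ : E) (f x) := by
    intro x hx
    refine Subtype.ext ?_
    show α * MulAut.conj x = MulAut.conj x * α
    have h1 := hconj α x
    rw [hfix x hx, mul_inv_eq_iff_eq_mul] at h1
    exact h1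
  have hdec : ∀ e : E, ∃ g : G, ∃ k : ℤ,
      e = f g * (⟨α, mem_sup_right (mem_zpowers α)⟩ : E) ^ k := by
    rintro ⟨e, he⟩
    obtain ⟨_, ⟨g, rfl⟩, _, ⟨k, rfl⟩, rfl⟩ := mem_sup_of_normal_left.1 he
    exact ⟨g, k, Subtype.ext rfl⟩
  obtain ⟨g, hg⟩ := key f hinj hC hcore P hab _ hdec
    (by obtain ⟨j, hj⟩ := h2; exact ⟨j, by rw [Subgroup.orderOf_mk, hj]⟩) hfix'
  refine ⟨g, fun x => ?_⟩
  have h1 : MulAut.conj g = α := congrArg Subtype.val hg
  rw [← h1, MulAut.conj_apply]

end Cfsg.Agent.S4593
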