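import Cfsg.Statements.S4722
import Cfsg.Agent.Lib.Block.SubsectionApps
import Cfsg.Agent.Lib.Block.GaloisTwist
import Cfsg.Agent.Lib.Char.Formulas
import Cfsg.Agent.Lib.Core.Cores

set_option autoImplicit false
open Cfsg

namespace Cfsg.Agent.S4722

open scoped ComplexConjugate

universe u

/-- Weights with vanishing moments and a single positive one are concentrated at a single ratio. -/
theorem ratio_eq {ι : Type*} (s : Finset ι) (w r : ι → ℝ) (h0 : ∑ i ∈ s, w i = 0)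
    (h1 : ∑ i ∈ s, w i * r i = 0) (h2 : ∑ i ∈ s, w i * r i ^ 2 = 0) {i₀ : ι} (hi₀ : i₀ ∈ s)
    (hw₀ : w i₀ ≠ 0) (hone : ∀ i ∈ s, ∀ j ∈ s, 0 < w i → 0 < w j → i = j) :
    ∃ j ∈ s, j ≠ i₀ ∧ w j ≠ 0 ∧ r j = r i₀ := by
  classical
  have hpos : ∃ i ∈ s, 0 < w i := by
    by_contra h
    push Not at h
    exact hw₀ ((Finset.sum_eq_zero_iff_of_nonpos h).1 h0 i₀ hi₀)
  obtain ⟨m, hm, hwm⟩ := hpos
  have hsum : ∑ i ∈ s, w i * (r i - r m) ^ 2 = 0 := by
    have e : ∀ i, w i * (r i - r m) ^ 2 = w i * r i ^ 2 - 2 * r m * (w i * r i) + r m ^ 2 * w i :=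
      fun i => by ring
    simp only [e, Finset.sum_add_distrib, Finset.sum_sub_distrib, ← Finset.mul_sum, h0, h1, h2]
    ring
  have hle : ∀ i ∈ s, w i * (r i - r m) ^ 2 ≤ 0 := by
    intro i hi
    rcases le_or_gt (w i) 0 with h | h
    · exact mul_nonpos_of_nonpos_of_nonneg h (sq_nonneg _)
    · rw [hone i hi m hm h hwm]
      simp
  have heq : ∀ i ∈ s, w i ≠ 0 → r i = r m := by
    intro i hi hw
    have h := (Finset.sum_eq_zero_iff_of_nonpos hle).1 hsum i hi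
    have h' := (mul_eq_zero.1 h).resolve_left hw
    exact sub_eq_zero.1 (pow_eq_zero_iff two_ne_zero |>.1 h')
  have hex : ∃ j ∈ s, j ≠ i₀ ∧ w j ≠ 0 := by
    by_contra h
    push Not at h
    rw [← Finset.add_sum_erase _ _ hi₀, Finset.sum_eq_zero fun j hj =>
      h j (Finset.mem_of_mem_erase hj) (Finset.ne_of_mem_erase hj), add_zero] at h0
    exact hw₀ h0
  obtain ⟨j, hj, hji, hwj⟩ := hex
  exact ⟨j, hj, hji, hwj, (heq j hj hwj).trans (heq i₀ hi₀ hw₀).symm⟩

open Cfsg.Lib Cfsg.Lib.Block in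
/-- The block sum at a `p`-element of a function vanishing on the section. -/
theorem block_sum_eq_zero {G : Type u} [Group G] [Fintype G] {p : ℕ} [Fact p.Prime]
    {M : Ideal AlgInt} (hM : IsPModular p M) {B : Set (IrrCharacter G)} (hB : IsPBlock M B)
    [DecidablePred (· ∈ B)] (c : IrrCharacter G → ℂ) {y : G} (hy : ∃ k : ℕ, orderOf y = p ^ k)
    (hF : ∀ g : G, IsConj (pPt p g) y⁻¹ →
      ∑ χ : IrrCharacter G, c χ * conj ((χ : G → ℂ) g) = 0) :
    ∑ χ ∈ B.toFinset, c χ * (χ : G → ℂ) y = 0 := by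
  have hc : ∀ χ : IrrCharacter G, c χ = (Nat.card G : ℂ)⁻¹ *
      ∑ g : G, (∑ ψ : IrrCharacter G, c ψ * conj ((ψ : G → ℂ) g)) * (χ : G → ℂ) g := by
    intro χ
    simp only [Finset.sum_mul, mul_assoc]
    rw [Finset.sum_comm, Finset.mul_sum, Finset.sum_eq_single χ]
    · have h := Char.classInner_irr_self χ.2
      simp only [classInner] at h
      rw [← Finset.mul_sum, mul_left_comm, show ∑ g : G, conj ((χ : G → ℂ) g) * (χ : G → ℂ) g =
        ∑ g : G, (χ : G → ℂ) g * conj ((χ : G → ℂ) g) from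
          Finset.sum_congr rfl fun g _ => mul_comm _ _, h, mul_one]
    · intro ψ _ hne
      have h := Char.classInner_irr_ne χ.2 ψ.2 fun h => hne (Subtype.ext h.symm)
      simp only [classInner] at h
      rw [← Finset.mul_sum, mul_left_comm, show ∑ g : G, conj ((ψ : G → ℂ) g) * (χ : G → ℂ) g =
        ∑ g : G, (χ : G → ℂ) g * conj ((ψ : G → ℂ) g) from
          Finset.sum_congr rfl fun g _ => mul_comm _ _, h, mul_zero]
    · simp
  rw [Finset.sum_congr rfl fun χ _ => by rw [hc χ]]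
  simp only [Finset.mul_sum, Finset.sum_mul (s := (Finset.univ : Finset G))]
  rw [Finset.sum_comm]
  refine Finset.sum_eq_zero fun g _ => ?_
  by_cases hg : IsConj (pPt p g) y⁻¹
  · refine Finset.sum_eq_zero fun χ _ => ?_
    rw [hF g hg]
    simp
  · have h4 := sum_block_mul_conj_eq_zero hM (vInt_indVec hM hB) (g := g) (h := y⁻¹) (fun hcj => by
      refine hg ?_
      rwa [show pPt p y⁻¹ = y⁻¹ from by
        obtain ⟨k, hk⟩ := hy
        refine (eq_pPt (x := y⁻¹) (y := 1) (mul_one _) (Commute.one_right _)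
          (k := k) (by rw [orderOf_inv, hk]) ?_).symm
        simp [(Fact.out : p.Prime).ne_one]] at hcj)
    rw [finsum_mem_eq_toFinset_sum] at h4
    rw [← mul_zero ((Nat.card G : ℂ)⁻¹ * ∑ ψ : IrrCharacter G, c ψ * conj ((ψ : G → ℂ) g)), ← h4,
      Finset.mul_sum]
    refine Finset.sum_congr rfl fun χ _ => ?_
    rw [χ.2.isCharacter.apply_inv, Complex.conj_conj]
    ring

open Cfsg.Lib Cfsg.Lib.Block in
/-- The three relations at one element. -/
theorem relations {G : Type u} [Group G] [Fintype G] {M : Ideal AlgInt} (hM : IsPModular 2 M)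
    [DecidablePred (· ∈ principalBlock M G)] {t : G} (ht : orderOf t = 2) {y : G}
    (hy : ∃ k : ℕ, orderOf y = 2 ^ k)
    (hinv : ∀ g : G, (g * t * g⁻¹) * y * (g * t * g⁻¹)⁻¹ ≠ y⁻¹) :
    ∑ χ ∈ (principalBlock M G).toFinset,
        (χ : G → ℂ) t ^ 2 / (χ : G → ℂ) 1 * (χ : G → ℂ) y = 0 ∧
      ∑ χ ∈ (principalBlock M G).toFinset, (χ : G → ℂ) 1 * (χ : G → ℂ) y = 0 ∧
      ∑ χ ∈ (principalBlock M G).toFinset, (χ : G → ℂ) t * (χ : G → ℂ) y = 0 := by
  classical
  haveI : Fact (Nat.Prime 2) := ⟨Nat.prime_two⟩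
  have hB : IsPBlock M (principalBlock M G) := isPBlock_principal
  have htt : t * t = 1 := by rw [← pow_two, ← ht, pow_orderOf_eq_one]
  have hsw : ∀ g x : G, (g * t * g⁻¹) * x * (g * t * g⁻¹)⁻¹ = x⁻¹ →
      ∀ h : G, (h * g * t * (h * g)⁻¹) * (h * x * h⁻¹) * (h * g * t * (h * g)⁻¹)⁻¹ =
        (h * x * h⁻¹)⁻¹ := by
    intro g x he h
    calc _ = h * ((g * t * g⁻¹) * x * (g * t * g⁻¹)⁻¹) * h⁻¹ := by group
      _ = _ := by rw [he]; group
  -- no element of the section is inverted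
  have hno : ∀ x : G, IsConj x y⁻¹ → ∀ g : G,
      (g * t * g⁻¹) * x * (g * t * g⁻¹)⁻¹ ≠ x⁻¹ := by
    intro x hx g he
    obtain ⟨h, hh⟩ := isConj_iff.1 hx
    have h1 := hsw g x he h
    rw [hh, inv_inv] at h1
    refine hinv (h * g) ?_
    have h2 := congrArg (fun z : G => z⁻¹) h1
    simp only [mul_inv_rev, inv_inv, ← mul_assoc] at h2
    calc (h * g) * t * (h * g)⁻¹ * y * ((h * g) * t * (h * g)⁻¹)⁻¹
        = h * g * t * (h * g)⁻¹ * y * (h * g) * t⁻¹ * (h * g)⁻¹ := by group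
      _ = y⁻¹ := by rw [← h2]; group
  refine ⟨?_, ?_, ?_⟩
  · refine block_sum_eq_zero hM hB (fun χ => (χ : G → ℂ) t ^ 2 / (χ : G → ℂ) 1) hy fun g hg => ?_
    have hempty : ((Char.classFinset t ×ˢ Char.classFinset t).filter fun q => q.1 * q.2 = g) = ∅ := by
      refine Finset.filter_eq_empty_iff.2 fun q hq he => ?_
      obtain ⟨hq1, hq2⟩ := Finset.mem_product.1 hq
      obtain ⟨a, ha⟩ := isConj_iff.1 (Char.mem_classFinset.1 hq1)
      obtain ⟨b, hb⟩ := isConj_iff.1 (Char.mem_classFinset.1 hq2)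
      have htinv : t⁻¹ = t := inv_eq_of_mul_eq_one_right htt
      have h1 : q.1⁻¹ = q.1 := by rw [← ha]; simp [mul_assoc, htinv]
      have h2 : q.2⁻¹ = q.2 := by rw [← hb]; simp [mul_assoc, htinv]
      have hinvg : q.1 * g * q.1⁻¹ = g⁻¹ := by
        rw [← he, mul_inv_rev, h2]
        nth_rewrite 1 [← mul_assoc]
        rw [show q.1 * q.1 = 1 from by
          nth_rewrite 1 [← h1]
          exact inv_mul_cancel _, one_mul]
      have hp : q.1 * pPt 2 g * q.1⁻¹ = (pPt 2 g)⁻¹ := by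
        obtain ⟨j, hj⟩ := Subgroup.mem_zpowers_iff.1 (pPt_mem_zpowers (p := 2) g)
        rw [← hj, ← conj_zpow, hinvg, inv_zpow]
      rw [← ha] at hp
      exact hno _ hg a hp
    have h := Char.card_class_product t t g
    rw [hempty, Finset.card_empty, Nat.cast_zero] at h
    have hne : ((Char.classFinset t).card : ℂ) * (Char.classFinset t).card / (Nat.card G : ℂ) ≠ 0 :=
      div_ne_zero (mul_ne_zero (Nat.cast_ne_zero.2 (Finset.card_ne_zero.2
        ⟨t, Char.mem_classFinset.2 (IsConj.refl t)⟩)) (Nat.cast_ne_zero.2 (Finset.card_ne_zero.2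
        ⟨t, Char.mem_classFinset.2 (IsConj.refl t)⟩))) Char.card_cast_ne_zero
    rw [← (mul_eq_zero.1 h.symm).resolve_left hne]
    exact Finset.sum_congr rfl fun χ _ => by ring
  · refine block_sum_eq_zero hM hB (fun χ => (χ : G → ℂ) 1) hy fun g hg => ?_
    have hg1 : g ≠ 1 := by
      rintro rfl
      rw [show pPt 2 (1 : G) = 1 from (pPt_eq_one_iff _).2 (by simp), isConj_one_right] at hg
      exact hinv 1 (by rw [inv_eq_one.1 hg]; group)
    have h := Char.column_orthogonality (1 : G) g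
    rw [if_neg fun hc => hg1 (isConj_one_right.1 hc)] at h
    exact h
  · refine block_sum_eq_zero hM hB (fun χ => (χ : G → ℂ) t) hy fun g hg => ?_
    have h := Char.column_orthogonality t g
    rw [if_neg fun hc => ?_] at h
    · exact h
    obtain ⟨a, ha⟩ := isConj_iff.1 hc
    have hgo : orderOf g = 2 ^ 1 := by
      rw [← ha, show a * t * a⁻¹ = MulAut.conj a t from rfl, MulEquiv.orderOf_eq, ht, pow_one]
    have hp : pPt 2 g = g :=
      (eq_pPt (x := g) (y := 1) (mul_one _) (Commute.one_right _) (k := 1) hgo (by simp)).symm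
    rw [hp] at hg
    refine hno g hg a ?_
    rw [ha]
    have hgg : g * g = 1 := by rw [← pow_two, ← pow_one 2, ← hgo, pow_orderOf_eq_one]
    rw [inv_eq_of_mul_eq_one_right hgg, hgg, one_mul]

open Cfsg.Lib Cfsg.Lib.Block in
/-- Let M be a maximal ideal of the algebraic integers containing 2, P a 2-subgroup of the finite group G, U a subset of P, and t an involution of G such that no element of U is inverted by any conjugate of t. Let θ be a generalized character of P vanishing outside U, and for χ in the principal 2-block B₀ put a_χ = #P⁻¹ Σ_{y ∈ P} χ(y) θ(y⁻¹). Then Σ_{χ ∈ B₀} a_χ χ(t)^2/χ(1) = 0, Σ_{χ ∈ B₀} a_χ χ(1) = 0 and Σ_{χ ∈ B₀} a_χ χ(t) = 0. If moreover #P⁻¹ Σ_{y ∈ P} θ(y) ≠ 0, then either at least two of the a_χ have positive real part and at least two have negative real part, or G has a proper normal subgroup containing O_2'(G) and t. -/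
theorem result {G : Type*} [Group G] [Finite G] (M : Ideal Cfsg.AlgInt) (hM : Cfsg.IsPModular 2 M) (P : Subgroup G) (hP : IsPGroup 2 P) (U : Set G) (hUP : U ⊆ (P : Set G)) (t : G) (ht : orderOf t = 2) (hinv : ∀ u ∈ U, ∀ g : G, (g * t * g⁻¹) * u * (g * t * g⁻¹)⁻¹ ≠ u⁻¹) (θ : ↥P → ℂ) (hθ : Cfsg.IsGeneralizedCharacter ↥P θ) (hθU : ∀ y : ↥P, (y : G) ∉ U → θ y = 0) : (∑ᶠ χ ∈ Cfsg.principalBlock M G, ((Nat.card ↥P : ℂ)⁻¹ * ∑ᶠ y : ↥P, (χ : G → ℂ) (y : G) * θ y⁻¹) * (χ : G → ℂ) t ^ 2 / (χ : G → ℂ) 1 = 0) ∧ (∑ᶠ χ ∈ Cfsg.principalBlock M G, ((Nat.card ↥P : ℂ)⁻¹ * ∑ᶠ y : ↥P, (χ : G → ℂ) (y : G) * θ y⁻¹) * (χ : G → ℂ) 1 = 0) ∧ (∑ᶠ χ ∈ Cfsg.principalBlock M G, ((Nat.card ↥P : ℂ)⁻¹ * ∑ᶠ y : ↥P, (χ : G → ℂ) (y : G) * θ y⁻¹) * (χ : G → ℂ) t = 0) ∧ ((Nat.card ↥P : ℂ)⁻¹ * ∑ᶠ y : ↥P, θ y ≠ 0 → (2 ≤ Nat.card {χ : Cfsg.IrrCharacter G // χ ∈ Cfsg.principalBlock M G ∧ 0 < (((Nat.card ↥P : ℂ)⁻¹ * ∑ᶠ y : ↥P, (χ : G → ℂ) (y : G) * θ y⁻¹)).re} ∧ 2 ≤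 Nat.card {χ : Cfsg.IrrCharacter G // χ ∈ Cfsg.principalBlock M G ∧ (((Nat.card ↥P : ℂ)⁻¹ * ∑ᶠ y : ↥P, (χ : G → ℂ) (y : G) * θ y⁻¹)).re < 0}) ∨ ∃ K : Subgroup G, K.Normal ∧ K ≠ ⊤ ∧ Cfsg.pPrimeCore 2 G ≤ K ∧ t ∈ K) := by
  classical
  haveI : Fact (Nat.Prime 2) := ⟨Nat.prime_two⟩
  haveI := Fintype.ofFinite G
  haveI : Fintype P := Fintype.ofFinite _
  set S := (principalBlock M G).toFinset with hS
  set a : IrrCharacter G → ℂ := fun χ => (Nat.card ↥P : ℂ)⁻¹ *
    ∑ᶠ y : ↥P, (χ : G → ℂ) (y : G) * θ y⁻¹ with ha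
  -- integrality
  have hint : ∀ χ : IrrCharacter G, ∃ n : ℤ, a χ = n := by
    intro χ
    obtain ⟨f₁, f₂, h₁, h₂, rfl⟩ := hθ
    obtain ⟨n₁, hn₁⟩ := (χ.2.isCharacter.comp P.subtype).exists_nat_classInner h₁
    obtain ⟨n₂, hn₂⟩ := (χ.2.isCharacter.comp P.subtype).exists_nat_classInner h₂
    refine ⟨(n₁ : ℤ) - n₂, ?_⟩
    push_cast
    rw [← hn₁, ← hn₂, ← Char.classInner_sub_right]
    simp only [ha, classInner, finsum_eq_sum_of_fintype, Subgroup.coe_subtype]
    refine congrArg _ (Finset.sum_congr rfl fun y _ => ?_)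
    simp only [Pi.sub_apply, map_sub]
    rw [h₁.apply_inv, h₂.apply_inv]
  -- the relations
  have hrel : ∀ c : IrrCharacter G → ℂ, (∀ y : G, (∃ k : ℕ, orderOf y = 2 ^ k) →
      (∀ g : G, (g * t * g⁻¹) * y * (g * t * g⁻¹)⁻¹ ≠ y⁻¹) →
        ∑ χ ∈ S, c χ * (χ : G → ℂ) y = 0) → ∑ χ ∈ S, a χ * c χ = 0 := by
    intro c hc
    simp only [ha, finsum_eq_sum_of_fintype, Finset.mul_sum, Finset.sum_mul]
    rw [Finset.sum_comm]
    refine Finset.sum_eq_zero fun y _ => ?_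
    by_cases hy : ((y⁻¹ : P) : G) ∈ U
    · have h := hc y (by
        obtain ⟨k, hk⟩ := exists_orderOf_eq_pow_of_mem hP y.2
        exact ⟨k, hk⟩) (fun g he => hinv _ hy g (by
          rw [InvMemClass.coe_inv, ← conj_inv, he]))
      rw [← mul_zero ((Nat.card ↥P : ℂ)⁻¹ * θ y⁻¹), ← h, Finset.mul_sum]
      exact Finset.sum_congr rfl fun χ _ => by ring
    · refine Finset.sum_eq_zero fun χ _ => ?_
      rw [hθU _ hy]
      ring
  have e1 : ∑ χ ∈ S, a χ * ((χ : G → ℂ) t ^ 2 / (χ : G → ℂ) 1) = 0 :=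
    hrel _ fun y hy hy' => (relations hM ht hy hy').1
  have e2 : ∑ χ ∈ S, a χ * (χ : G → ℂ) 1 = 0 :=
    hrel _ fun y hy hy' => (relations hM ht hy hy').2.1
  have e3 : ∑ χ ∈ S, a χ * (χ : G → ℂ) t = 0 :=
    hrel _ fun y hy hy' => (relations hM ht hy hy').2.2
  refine ⟨?_, ?_, ?_, fun hθ0 => ?_⟩
  · rw [finsum_mem_eq_toFinset_sum, ← e1]
    exact Finset.sum_congr rfl fun χ _ => by simp only [ha]; ring
  · rw [finsum_mem_eq_toFinset_sum, ← e2]
  · rw [finsum_mem_eq_toFinset_sum, ← e3]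
  choose A hA using hint
  choose d hd0 hd using fun χ : IrrCharacter G => χ.2.exists_degree
  have htinv : t⁻¹ = t := inv_eq_of_mul_eq_one_right (by rw [← pow_two, ← ht, pow_orderOf_eq_one])
  have hreal : ∀ χ : IrrCharacter G, (χ : G → ℂ) t = (((χ : G → ℂ) t).re : ℂ) := fun χ => by
    refine (Complex.conj_eq_iff_re.1 ?_).symm
    rw [← χ.2.isCharacter.apply_inv, htinv]
  set s : IrrCharacter G → ℝ := fun χ => ((χ : G → ℂ) t).re with hs
  set w : IrrCharacter G → ℝ := fun χ => (A χ : ℝ) * d χ with hw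
  set r : IrrCharacter G → ℝ := fun χ => s χ / d χ with hr
  have hdne : ∀ χ, ((d χ : ℕ) : ℝ) ≠ 0 := fun χ => Nat.cast_ne_zero.2 (hd0 χ).ne'
  have w0 : ∑ χ ∈ S, w χ = 0 := by
    apply Complex.ofReal_injective
    rw [Complex.ofReal_zero, ← e2, Complex.ofReal_sum]
    exact Finset.sum_congr rfl fun χ _ => by simp [hw, hA, hd]
  have w1 : ∑ χ ∈ S, w χ * r χ = 0 := by
    apply Complex.ofReal_injective
    rw [Complex.ofReal_zero, ← e3, Complex.ofReal_sum]
    refine Finset.sum_congr rfl fun χ _ => ?_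
    rw [show w χ * r χ = (A χ : ℝ) * s χ by simp only [hw, hr]; field_simp [hdne χ], hA, hreal χ]
    simp [hs]
  have w2 : ∑ χ ∈ S, w χ * r χ ^ 2 = 0 := by
    apply Complex.ofReal_injective
    rw [Complex.ofReal_zero, ← e1, Complex.ofReal_sum]
    refine Finset.sum_congr rfl fun χ _ => ?_
    rw [show w χ * r χ ^ 2 = (A χ : ℝ) * (s χ ^ 2 / d χ) by
      simp only [hw, hr]; field_simp [hdne χ], hA, hd, hreal χ]
    simp [hs]
  have ht0 : trivChar G ∈ S := Set.mem_toFinset.2 (trivChar_mem_principal hM)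
  have hwt : w (trivChar G) ≠ 0 := by
    refine mul_ne_zero (fun h => hθ0 ?_) (hdne _)
    have h' : a (trivChar G) = 0 := by rw [hA, Int.cast_eq_zero.1 h, Int.cast_zero]
    rw [← h']
    simp only [ha, trivChar_coe, one_mul, finsum_eq_sum_of_fintype]
    rw [Equiv.sum_comp (Equiv.inv P) θ |>.symm]
    rfl
  have hrt : r (trivChar G) = 1 := by
    have h1 : d (trivChar G) = 1 := by
      have h := hd (trivChar G)
      simp only [trivChar_coe] at h
      exact_mod_cast h.symm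
    simp [hr, hs, h1, trivChar_coe]
  have hfin : ∀ e : ℝ, e = 1 ∨ e = -1 →
      Nat.card {χ : IrrCharacter G // χ ∈ principalBlock M G ∧ 0 < e * (a χ).re} ≤ 1 →
      ∃ K : Subgroup G, K.Normal ∧ K ≠ ⊤ ∧ Cfsg.pPrimeCore 2 G ≤ K ∧ t ∈ K := by
    intro e he hcard
    have he0 : e ≠ 0 := by rcases he with rfl | rfl <;> norm_num
    obtain ⟨j, hj, hjt, -, hrj⟩ := ratio_eq S (fun χ => e * w χ) r
      (by rw [← Finset.mul_sum, w0, mul_zero])
      (by simp only [mul_assoc, ← Finset.mul_sum, w1, mul_zero])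
      (by simp only [mul_assoc, ← Finset.mul_sum, w2, mul_zero]) ht0 (mul_ne_zero he0 hwt)
      (fun i hi k hk hwi hwk => by
        have hpos : ∀ χ, 0 < e * w χ → 0 < e * (a χ).re := fun χ h => by
          have h' : e * w χ = e * (A χ : ℝ) * d χ := by simp only [hw]; ring
          rw [h'] at h
          rw [hA, Complex.intCast_re]
          exact pos_of_mul_pos_left h (Nat.cast_nonneg _)
        haveI := (Finite.card_le_one_iff_subsingleton
          (α := {χ : IrrCharacter G // χ ∈ principalBlock M G ∧ 0 < e * (a χ).re})).1 hcard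
        exact congrArg Subtype.val (Subsingleton.elim
          (⟨i, Set.mem_toFinset.1 hi, hpos i hwi⟩ :
            {χ : IrrCharacter G // χ ∈ principalBlock M G ∧ 0 < e * (a χ).re})
          ⟨k, Set.mem_toFinset.1 hk, hpos k hwk⟩))
    rw [hrt] at hrj
    have hjt' : (j : G → ℂ) t = (j : G → ℂ) 1 := by
      rw [hreal j, hd]
      have : s j = d j := by
        simp only [hr] at hrj
        exact (div_eq_one_iff_eq (hdne j)).1 hrj
      simp only [hs] at this
      rw [this]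
      simp
    refine ⟨Char.charKer j.2.isCharacter, Char.charKer_normal _, fun htop => hjt ?_, ?_,
      (Char.mem_charKer _).2 hjt'⟩
    · by_contra hne
      have h := Char.classInner_irr_ne j.2 (trivChar G).2 fun h => hjt (Subtype.ext h)
      rw [trivChar_coe, Char.classInner_one_right, Finset.sum_congr rfl fun g _ =>
        (Char.mem_charKer j.2.isCharacter).1 (htop ▸ Subgroup.mem_top g), Finset.sum_const,
        Finset.card_univ, nsmul_eq_mul, ← Nat.card_eq_fintype_card, ← mul_assoc,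
        inv_mul_cancel₀ Char.card_cast_ne_zero, one_mul] at h
      exact j.2.apply_one_ne_zero h
    · haveI : (Cfsg.pPrimeCore 2 G).Normal := inferInstance
      exact fun n hn => (Char.mem_charKer _).2 (principal_trivial_on hM
        (Cfsg.Lib.Core.pPrimeCore_not_dvd 2 G) (Set.mem_toFinset.1 hj) n hn)
  by_contra hcon
  push Not at hcon
  obtain ⟨hcard, hK⟩ := hcon
  by_cases hpos : 2 ≤ Nat.card {χ : IrrCharacter G // χ ∈ principalBlock M G ∧ 0 < (a χ).re}
  · have hneg := hcard hpos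
    obtain ⟨K, h1, h2, h3, h4⟩ := hfin (-1) (Or.inr rfl) (by
      refine le_trans (le_of_eq ?_) (Nat.lt_succ_iff.1 hneg)
      exact Nat.card_congr (Equiv.subtypeEquivRight fun χ => by simp [ha]))
    exact hK K h1 h2 h3 h4
  · obtain ⟨K, h1, h2, h3, h4⟩ := hfin 1 (Or.inl rfl) (by
      refine le_trans (le_of_eq ?_) (Nat.lt_succ_iff.1 (not_le.1 hpos))
      exact Nat.card_congr (Equiv.subtypeEquivRight fun χ => by simp))
    exact hK K h1 h2 h3 h4

end Cfsg.Agent.S4722
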