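import Cfsg.Statements.S1217
import Cfsg.Agent.Lib.TwoGroup.SylowCriterion
-- import your own Cfsg.Agent.* helpers here

set_option autoImplicit false
open scoped MatrixGroups
open Cfsg

namespace Cfsg.Agent.S1217


open Subgroup
open Cfsg.Lib.TwoGroup

/-- The diagonal matrices. -/
def diag {F : Type*} [Field F] : Fˣ × Fˣ →* GL (Fin 2) F where
  toFun a := ⟨Matrix.diagonal ![(a.1 : F), (a.2 : F)], Matrix.diagonal ![((a.1⁻¹ : Fˣ) : F), ((a.2⁻¹ : Fˣ) : F)],
    by rw [Matrix.diagonal_mul_diagonal]; ext i j; fin_cases i <;> fin_cases j <;> simp,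
    by rw [Matrix.diagonal_mul_diagonal]; ext i j; fin_cases i <;> fin_cases j <;> simp⟩
  map_one' := Units.ext (by ext i j; fin_cases i <;> fin_cases j <;> simp)
  map_mul' a b := Units.ext (by
    show Matrix.diagonal ![((a * b).1 : F), ((a * b).2 : F)] = Matrix.diagonal ![(a.1 : F), (a.2 : F)] * Matrix.diagonal ![(b.1 : F), (b.2 : F)]
    rw [Matrix.diagonal_mul_diagonal]
    ext i j; fin_cases i <;> fin_cases j <;> simp)

theorem diag_injective {F : Type*} [Field F] : Function.Injective (diag (F := F)) := by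
  intro a b h
  have h0 := congrArg (fun g : GL (Fin 2) F => g.val 0 0) h
  have h1 := congrArg (fun g : GL (Fin 2) F => g.val 1 1) h
  simp [diag] at h0 h1
  exact Prod.ext (Units.ext h0) (Units.ext h1)

/-- The permutation matrix. -/
def swap {F : Type*} [Field F] : GL (Fin 2) F :=
  ⟨!![0, 1; 1, 0], !![0, 1; 1, 0], by simp [Matrix.one_fin_two], by simp [Matrix.one_fin_two]⟩

theorem orderOf_swap {F : Type*} [Field F] : orderOf (swap (F := F)) = 2 := by
  refine orderOf_eq_prime (Units.ext (by simp [swap, sq, Matrix.one_fin_two])) fun h => ?_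
  have := congrArg (fun g : GL (Fin 2) F => g.val 0 0) h
  simp [swap] at this

theorem swap_conj {F : Type*} [Field F] (a b : Fˣ) : swap * diag (a, b) * swap⁻¹ = diag (b, a) := by
  rw [mul_inv_eq_iff_eq_mul]
  refine Units.ext ?_
  rw [Units.val_mul, Units.val_mul]
  ext i j; fin_cases i <;> fin_cases j <;> simp [swap, diag, Matrix.mul_apply, Fin.sum_univ_two]

theorem exists_two_adic {N : ℕ} (hN : N ≠ 0) (h4 : 4 ∣ N) : ∃ n b, 2 ≤ n ∧ Odd b ∧ N = 2 ^ n * b := by
  obtain ⟨n, b, hb, he⟩ := Nat.exists_eq_two_pow_mul_odd hN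
  refine ⟨n, b, ?_, hb, he⟩
  by_contra h
  rcases hb with ⟨c, rfl⟩
  interval_cases n <;> omega

theorem card_gl {F : Type*} [Field F] [Fintype F] :
    Nat.card (GL (Fin 2) F) = (Fintype.card F - 1) * (Fintype.card F - 1) * (Fintype.card F + 1) * Fintype.card F := by
  rw [Matrix.card_GL_field, Fin.prod_univ_two]
  simp only [Fin.val_zero, Fin.val_one, pow_zero, pow_one]
  obtain ⟨q, hq⟩ : ∃ q, Fintype.card F = q + 1 := ⟨Fintype.card F - 1, by have := Fintype.card_pos (α := F); omega⟩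
  rw [hq]
  have e1 : (q + 1) ^ 2 - 1 = q * (q + 2) := by
    have : (q + 1) ^ 2 = q * (q + 2) + 1 := by ring
    omega
  have e2 : (q + 1) ^ 2 - (q + 1) = q * (q + 1) := by
    have : (q + 1) ^ 2 = q * (q + 1) + (q + 1) := by ring
    omega
  rw [e1, e2, Nat.add_sub_cancel]; ring

theorem one_mod_four {F : Type*} [Field F] [Fintype F] (h : Fintype.card F % 4 = 1) (P : Sylow 2 (GL (Fin 2) F)) :
    Cfsg.IsWreathed (P : Subgroup (GL (Fin 2) F)) := by
  have hc := card_gl (F := F)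
  have h2q := Fintype.one_lt_card (α := F)
  generalize hq : Fintype.card F = q at h hc h2q
  obtain ⟨n, a, hn, ha, he⟩ := exists_two_adic (N := q - 1) (by omega) (by omega)
  obtain ⟨b, hb⟩ : ∃ b, q + 1 = 2 * b := ⟨(q + 1) / 2, by omega⟩
  obtain ⟨ζ, hζ⟩ : ∃ ζ : Fˣ, orderOf ζ = 2 ^ n := by
    obtain ⟨g, hg⟩ := IsCyclic.exists_ofOrder_eq_natCard (α := Fˣ)
    refine ⟨g ^ a, ?_⟩
    have : Nat.card Fˣ = 2 ^ n * a := by rw [Nat.card_units, Nat.card_eq_fintype_card, hq, he]
    rw [orderOf_pow, hg, this, Nat.gcd_eq_right (Dvd.intro_left _ rfl), Nat.mul_div_cancel _ ha.pos]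
  have hbodd : Odd b := by rw [Nat.odd_iff]; omega
  have hqodd : Odd q := by rw [Nat.odd_iff]; omega
  refine SylowCriterion.wreathed P hn (((ha.mul ha).mul hbodd).mul hqodd) (m := a * a * b * q) ?_
    (diag (ζ, 1)) (diag (1, ζ)) swap ?_ ?_ ?_ orderOf_swap (swap_conj ζ 1)
  · rw [hc, hb, he, pow_succ, pow_mul', sq]; ring
  · rw [orderOf_injective _ diag_injective, Prod.orderOf_mk, hζ, orderOf_one, Nat.lcm_one_right]
  · rw [← map_mul, ← map_mul]; simp
  · rw [eq_bot_iff]
    rintro g ⟨⟨i, hi⟩, ⟨j, hj⟩⟩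
    simp only [← map_zpow] at hi hj
    have := congrArg Prod.snd (diag_injective (hi.trans hj.symm))
    have hj' : (ζ ^ j : Fˣ) = 1 := by simpa using this.symm
    rw [mem_bot, ← hj, Prod.pow_mk, one_zpow, hj']
    exact map_one _

theorem three_mod_four {F : Type*} [Field F] [Fintype F] (h : Fintype.card F % 4 = 3) (P : Sylow 2 (GL (Fin 2) F)) :
    Cfsg.IsQuasiDihedral (P : Subgroup (GL (Fin 2) F)) := by
  classical
  have hc := card_gl (F := F)
  generalize hq : Fintype.card F = q at h hc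
  obtain ⟨k, b, hk, hb, he⟩ := exists_two_adic (N := q + 1) (by omega) (by omega)
  obtain ⟨a, ha⟩ : ∃ a, q - 1 = 2 * a := ⟨(q - 1) / 2, by omega⟩
  have haodd : Odd a := by rw [Nat.odd_iff]; omega
  have hqodd : Odd q := by rw [Nat.odd_iff]; omega
  obtain ⟨p, hp⟩ := CharP.exists F
  haveI := hp
  haveI : Fact p.Prime := ⟨CharP.char_is_prime F p⟩
  let K := FiniteField.Extension F p 2
  haveI : Fintype K := Fintype.ofFinite K
  have hK : Fintype.card K = q ^ 2 := by
    rw [← hq, Fintype.card_eq_nat_card, FiniteField.natCard_extension, Nat.card_eq_fintype_card]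
  obtain ⟨g, hg⟩ := IsCyclic.exists_ofOrder_eq_natCard (α := Kˣ)
  have hKu : Nat.card Kˣ = 2 ^ (k + 1) * (a * b) := by
    rw [Nat.card_units, Nat.card_eq_fintype_card, hK,
      show q ^ 2 - 1 = (q + 1) * (q - 1) from by rw [← Nat.sq_sub_sq, one_pow], he, ha]
    ring
  have hab := (haodd.mul hb).pos
  have hζ : orderOf (g ^ (a * b)) = 2 ^ (k + 1) := by
    rw [orderOf_pow, hg, hKu, Nat.gcd_eq_right (Dvd.intro_left _ rfl), Nat.mul_div_cancel _ hab]
  generalize g ^ (a * b) = ζ at hζ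
  let B := Module.finBasisOfFinrankEq F K (FiniteField.finrank_extension F p 2)
  let e : (Module.End F K)ˣ →* GL (Fin 2) F := Units.map (LinearMap.toMatrixAlgEquiv B).toMonoidHom
  have he' : Function.Injective e := Units.map_injective (LinearMap.toMatrixAlgEquiv B).injective
  let L : Kˣ →* (Module.End F K)ˣ := Units.map (Algebra.lmul F K).toMonoidHom
  have hL : Function.Injective L := Units.map_injective (Algebra.lmul_injective (R := F) (A := K))
  let σ := FiniteField.Extension.frob F p 2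
  have hσ : ∀ x : K, σ x = x ^ q := fun x => by
    rw [FiniteField.Extension.frob_apply, Nat.card_eq_fintype_card, hq]
  have hσσ : ∀ x : K, σ (σ x) = x := fun x => by
    rw [hσ, hσ, ← pow_mul, ← sq, ← hK, FiniteField.pow_card]
  let y : (Module.End F K)ˣ := ⟨σ.toLinearMap, σ.toLinearMap, LinearMap.ext hσσ, LinearMap.ext hσσ⟩
  have hyconj : y * L ζ * y⁻¹ = L (ζ ^ q) := by
    refine Units.ext (LinearMap.ext fun x => ?_)
    show σ ((ζ : K) * σ x) = ((ζ ^ q : Kˣ) : K) * x
    rw [map_mul, hσσ, hσ, Units.val_pow_eq_pow_val]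
  have hζq : ζ ^ q = ζ ^ (2 ^ k - 1) := by
    rw [pow_eq_pow_iff_modEq, hζ]
    obtain ⟨c, rfl⟩ := hb
    have h1 : 1 ≤ 2 ^ k := Nat.one_le_two_pow
    have e1 : q = (2 ^ k - 1) + 2 ^ (k + 1) * c := by
      have : 2 ^ k * (2 * c + 1) = 2 ^ k + 2 ^ (k + 1) * c := by ring
      omega
    rw [e1]
    exact Nat.add_mul_mod_self_left _ _ _
  have hy : orderOf y = 2 := by
    refine orderOf_eq_prime (Units.ext (LinearMap.ext hσσ)) fun hy1 => ?_
    rw [hy1, one_mul, inv_one, mul_one] at hyconj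
    have h2 := hL hyconj
    rw [hζq] at h2
    have h3 : ζ ^ 1 = ζ ^ (2 ^ k - 1) := by rw [pow_one]; exact h2
    rw [pow_eq_pow_iff_modEq, hζ] at h3
    have h4 : 2 ^ 2 ≤ 2 ^ k := Nat.pow_le_pow_right (by norm_num) hk
    have h5 := Nat.ModEq.eq_of_lt_of_lt h3 (Nat.one_lt_two_pow (by omega)) (by rw [pow_succ]; omega)
    omega
  refine SylowCriterion.quasiDihedral P (n := k + 1) (by omega) (((haodd.mul haodd).mul hb).mul hqodd)
    (m := a * a * b * q) ?_ (e (L ζ)) (e y) ?_ ?_ ?_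
  · rw [hc, he, ha]; ring
  · rw [orderOf_injective e he', orderOf_injective L hL, hζ]
  · rw [orderOf_injective e he', hy]
  · rw [Nat.add_sub_cancel, ← map_inv, ← map_mul, ← map_mul, ← map_pow, hyconj, hζq, map_pow]


/-- Let F be a finite field with q elements, q odd, and P a Sylow 2-subgroup of GL(2,F). If q ≡ 3 (mod 4) then P is quasi-dihedral; if q ≡ 1 (mod 4) then P is wreathed. -/
theorem result {F : Type*} [Field F] [Fintype F] (P : Sylow 2 (GL (Fin 2) F)) : (Fintype.card F % 4 = 3 → Cfsg.IsQuasiDihedral (P : Subgroup (GL (Fin 2) F))) ∧ (Fintype.card F % 4 = 1 → Cfsg.IsWreathed (P : Subgroup (GL (Fin 2) F))) := by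
  exact ⟨fun h => three_mod_four h P, fun h => one_mod_four h P⟩

end Cfsg.Agent.S1217
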