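import Cfsg.Statements.S1447
import Cfsg.Agent.Lib.Local.MetacyclicOperator
import Cfsg.Agent.Lib.Local.QdRankTwo

set_option autoImplicit false
open Cfsg

namespace Cfsg.Agent.S1447

open scoped commutatorElement

/-- A cyclicity test: the subgroup meets a subgroup of order `p ^ 2` containing all elements of order `p` properly. -/
theorem isCyclic_of_small {G : Type*} [Group G] [Finite G] {p : ℕ} [Fact p.Prime] (hp : p ≠ 2)
    (D E : Subgroup G) (hD : IsPGroup p D) (hDE : ∀ x ∈ D, x ^ p = 1 → x ∈ E)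
    (hE : Nat.card E ≤ p ^ 2) (hlt : ¬ E ≤ D) : IsCyclic D := by
  by_cases hbot : D = ⊥
  · subst hbot; infer_instance
  have hpD : p ∣ Nat.card D := by
    obtain ⟨i, hi⟩ := IsPGroup.iff_card.mp hD
    rw [hi]
    exact dvd_pow_self p fun h => hbot (Subgroup.eq_bot_of_card_eq _ (by rw [hi, h, pow_zero]))
  obtain ⟨⟨z, hz⟩, hzo⟩ := exists_prime_orderOf_dvd_card' p hpD
  rw [Subgroup.orderOf_mk] at hzo
  have hzp : z ^ p = 1 := by rw [← hzo, pow_orderOf_eq_one]
  refine Cfsg.Lib.Local.QdRankTwo.isCyclic_of_unique hp D hD hzp fun x hx hxp => ?_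
  have hle : Subgroup.zpowers z ≤ D ⊓ E := Subgroup.zpowers_le.mpr ⟨hz, hDE z hz hzp⟩
  have hlt' : D ⊓ E < E := lt_of_le_of_ne inf_le_right fun e => hlt (e.ge.trans inf_le_left)
  have hDEp : IsPGroup p (D ⊓ E : Subgroup G) := hD.to_le inf_le_left
  obtain ⟨i, hi⟩ := IsPGroup.iff_card.mp hDEp
  have hc : Nat.card (D ⊓ E : Subgroup G) < Nat.card E :=
    lt_of_le_of_ne (Subgroup.card_le_of_le hlt'.le) fun e =>
      hlt'.ne (Subgroup.eq_of_le_of_card_ge hlt'.le e.ge)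
  have hi1 : i ≤ 1 := by
    by_contra h
    have h1 : p ^ 2 ≤ p ^ i := Nat.pow_le_pow_right (Fact.out : p.Prime).pos (by omega)
    omega
  have hall : Subgroup.zpowers z = D ⊓ E := Subgroup.eq_of_le_of_card_ge hle (by
    rw [Nat.card_zpowers, hzo, hi]
    exact (Nat.pow_le_pow_right (Fact.out : p.Prime).pos hi1).trans (pow_one p).le)
  exact hall.ge ⟨hx, hDE x hx hxp⟩

/-- Let G be a finite group, p an odd prime, R a metacyclic p-subgroup and A a subgroup of order coprime to p normalizing R. Then [R, A] is abelian; R is generated by [R, A] and R ∩ C_G(A), which meet trivially; and if R is non-abelian and A does not centralize R, then [R, A] and R ∩ C_G(A) are nontrivial cyclic groups and [R, R] ≤ [R, A]. -/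
theorem result {G : Type*} [Group G] [Finite G] (p : ℕ) [Fact p.Prime] (hp : p ≠ 2) (R A : Subgroup G) (hR : IsPGroup p R) (hRm : Cfsg.IsMetacyclic R)
    (hA : (A ≤ Subgroup.normalizer (R : Set G))) (hcop : (Nat.card A).Coprime p) :
    IsMulCommutative ↥⁅R, A⁆ ∧ ⁅R, A⁆ ⊔ (R ⊓ Subgroup.centralizer (A : Set G)) = R ∧ ⁅R, A⁆ ⊓ (R ⊓ Subgroup.centralizer (A : Set G)) = ⊥ ∧
      (¬ IsMulCommutative R → ¬ A ≤ Subgroup.centralizer (R : Set G) →
        ⁅R, A⁆ ≠ ⊥ ∧ IsCyclic ↥⁅R, A⁆ ∧ (R ⊓ Subgroup.centralizer (A : Set G)) ≠ ⊥ ∧ IsCyclic ↥(R ⊓ Subgroup.centralizer (A : Set G)) ∧ ⁅R, R⁆ ≤ ⁅R, A⁆) := by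
  classical
  have hpp : p.Prime := Fact.out
  obtain ⟨n, hn⟩ := IsPGroup.iff_card.mp hR
  have hcop' : (Nat.card A).Coprime (Nat.card R) := by rw [hn]; exact hcop.pow_right n
  have hsol : Group.IsSolvable A ∨ Group.IsSolvable R := Or.inr (have := hR.isNilpotent; inferInstance)
  have hKle : ⁅R, A⁆ ≤ R := Cfsg.Lib.Coprime.commutator_le_of_le_normalizer hA
  set K := ⁅R, A⁆ with hK
  set C := R ⊓ Subgroup.centralizer (A : Set G) with hC
  have hKA : A ≤ Subgroup.normalizer (K : Set G) := Subgroup.normalizer_commutator_ge_right R A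
  have hKK : ⁅K, A⁆ = K := Cfsg.Lib.Coprime.commutator_commutator_eq hA hcop' hsol
  have hKp : IsPGroup p K := hR.to_le hKle
  obtain ⟨N, hNn, hNc, hQc⟩ := hRm
  -- `K` is metacyclic
  have hKm : Cfsg.IsMetacyclic K := by
    let ι : K →* R := Subgroup.inclusion hKle
    haveI := hNn
    haveI hNc' := hNc
    haveI hQc' := hQc
    let N' : Subgroup K := N.comap ι
    refine ⟨N', inferInstanceAs (N.comap ι).Normal, ?_, ?_⟩
    · exact isCyclic_of_injective ((ι.comp N'.subtype).codRestrict N fun z => z.2)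
        fun a b h => Subtype.ext (Subgroup.inclusion_injective hKle (congrArg Subtype.val h))
    · exact isCyclic_of_injective (QuotientGroup.map N' N ι le_rfl) (by
        rw [← MonoidHom.ker_eq_bot_iff, eq_bot_iff]
        intro z hz
        obtain ⟨z, rfl⟩ := QuotientGroup.mk'_surjective N' z
        exact Subgroup.mem_bot.mpr ((QuotientGroup.eq_one_iff z).mpr
          ((QuotientGroup.eq_one_iff (ι z)).mp hz)))
  have hKab : IsMulCommutative K :=
    Cfsg.Lib.Local.MetacyclicOperator.isMulCommutative_of_commutator_eq hp K A hKp hKm hKA hcop hKK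
  have hsup : K ⊔ C = R := Cfsg.Lib.Coprime.commutator_sup_centralizer_eq hA hcop' hsol
  have hdis : K ⊓ C = ⊥ := by
    obtain ⟨k, hk⟩ := IsPGroup.iff_card.mp hKp
    haveI := hKab
    have hd := Cfsg.Lib.Coprime.disjoint_commutator_centralizer (G := K) (A := A) hKA
      (by rw [hk]; exact hcop.pow_right k)
    rw [hKK] at hd
    exact eq_bot_iff.mpr ((inf_le_inf_left K inf_le_right).trans hd.eq_bot.le)
  refine ⟨hKab, hsup, hdis, fun hnab hnc => ?_⟩
  obtain ⟨E₀, hE₀, -, hE₀c⟩ := Cfsg.Lib.PGroup.exists_omega_of_metacyclic hp hR ⟨N, hNn, hNc, hQc⟩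
  set E := E₀.map R.subtype with hEdef
  have hEc : Nat.card E ≤ p ^ 2 := by
    rw [hEdef, Subgroup.card_map_of_injective R.subtype_injective]; exact hE₀c
  have hEmem : ∀ x ∈ R, x ^ p = 1 → x ∈ E := fun x hx hxp =>
    ⟨⟨x, hx⟩, (hE₀ _).mpr (Subtype.ext hxp), rfl⟩
  have hK0 : K ≠ ⊥ := fun h => hnc (by
    rw [Subgroup.le_centralizer_iff, ← Subgroup.commutator_eq_bot_iff_le_centralizer]
    exact h)
  have hC0 : C ≠ ⊥ := fun h => hnab (by
    rw [h, sup_bot_eq] at hsup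
    rw [← hsup]; exact hKab)
  have hex : ∀ D : Subgroup G, D ≤ R → D ≠ ⊥ → ∃ z ∈ D, z ≠ 1 ∧ z ∈ E := by
    intro D hD hD0
    have hpD : p ∣ Nat.card D := by
      obtain ⟨i, hi⟩ := IsPGroup.iff_card.mp (hR.to_le hD)
      rw [hi]
      exact dvd_pow_self p fun h => hD0 (Subgroup.eq_bot_of_card_eq _ (by rw [hi, h, pow_zero]))
    obtain ⟨⟨z, hz⟩, hzo⟩ := exists_prime_orderOf_dvd_card' p hpD
    rw [Subgroup.orderOf_mk] at hzo
    refine ⟨z, hz, ?_, hEmem z (hD hz) (by rw [← hzo, pow_orderOf_eq_one])⟩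
    rintro rfl
    rw [orderOf_one] at hzo
    exact hpp.one_lt.ne hzo
  have hKcyc : IsCyclic K := by
    refine isCyclic_of_small hp K E hKp (fun x hx => hEmem x (hKle hx)) hEc fun h => ?_
    obtain ⟨z, hz, hz1, hzE⟩ := hex C inf_le_left hC0
    exact hz1 (Subgroup.mem_bot.mp (hdis.le ⟨h hzE, hz⟩))
  have hCcyc : IsCyclic C := by
    refine isCyclic_of_small hp C E (hR.to_le inf_le_left) (fun x hx => hEmem x hx.1) hEc fun h => ?_
    obtain ⟨z, hz, hz1, hzE⟩ := hex K hKle hK0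
    exact hz1 (Subgroup.mem_bot.mp (hdis.le ⟨hz, h hzE⟩))
  refine ⟨hK0, hKcyc, hC0, hCcyc, ?_⟩
  have hRN : R ≤ Subgroup.normalizer (K : Set G) := Subgroup.normalizer_commutator_ge_left R A
  rw [Subgroup.commutator_le]
  intro x hx y hy
  rw [← hsup] at hx hy
  have hdec : ∀ x ∈ K ⊔ C, ∃ k ∈ K, ∃ c ∈ C, x = k * c := by
    intro x hx
    have hnorm : C ≤ Subgroup.normalizer (K : Set G) := inf_le_left.trans hRN
    have h := Subgroup.coe_mul_of_right_le_normalizer_left K C hnorm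
    obtain ⟨k, hk, c, hc, e⟩ := (Set.ext_iff.mp h x).mp hx
    exact ⟨k, hk, c, hc, e.symm⟩
  obtain ⟨k, hk, c, hc, rfl⟩ := hdec x hx
  obtain ⟨l, hl, d, hd, rfl⟩ := hdec y hy
  have hn : ∀ g ∈ R, ∀ u ∈ K, g * u * g⁻¹ ∈ K := fun g hg u hu =>
    (Subgroup.mem_normalizer_iff.mp (hRN hg) u).mp hu
  have hcd : c * d = d * c := by
    haveI := hCcyc
    letI := IsCyclic.commGroup (α := C)
    exact congrArg Subtype.val (mul_comm (⟨c, hc⟩ : C) ⟨d, hd⟩)
  have e : ⁅k * c, l * d⁆ = k * (c * l * c⁻¹) * (d * k⁻¹ * d⁻¹) * l⁻¹ := by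
    have e2 : c * d * c⁻¹ = d := by rw [hcd, mul_inv_cancel_right]
    calc ⁅k * c, l * d⁆ = k * (c * l * c⁻¹) * (c * d * c⁻¹) * k⁻¹ * d⁻¹ * l⁻¹ := by
          simp [commutatorElement_def, mul_assoc]
      _ = _ := by rw [e2]; group
  rw [e]
  exact mul_mem (mul_mem (mul_mem hk (hn c hc.1 l hl)) (hn d hd.1 _ (inv_mem hk))) (inv_mem hl)

end Cfsg.Agent.S1447
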