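import Cfsg.Statements.S0742
import Cfsg.Agent.Lib.Perm.ZasAbelian.Main
import Cfsg.Agent.S0741

set_option autoImplicit false
open Cfsg Cfsg.Lib.Char Cfsg.Lib.Perm.ZasAbelian

namespace Cfsg.Agent.S0742

/-- A finite Zassenhaus group of degree `n + 1` with two-point stabilisers of even order `d` satisfying `2d ≤ n - 1` has `n = p^f` for an odd prime `p` and is isomorphic to `PSL(2, p^f)`. -/
theorem result {G Ω : Type*} [Group G] [Finite G] [MulAction G Ω] [Fintype Ω] (hZ : Cfsg.IsZassenhausGroup G Ω) {a b : Ω} (hab : a ≠ b) (heven : Even (Nat.card ↥(MulAction.stabilizer G a ⊓ MulAction.stabilizer G b))) (hd : 2 * Nat.card ↥(MulAction.stabilizer G a ⊓ MulAction.stabilizer G b) ≤ Fintype.card Ω - 2) : ∃ (p f : ℕ) (K : Type) (_ : Field K) (_ : Fintype K), p.Prime ∧ p ≠ 2 ∧ Fintype.card K = p ^ f ∧ Fintype.card Ω = p ^ f + 1 ∧ Nonempty (G ≃* Matrix.ProjectiveSpecialLinearGroup (Fin 2) K) := by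
  classical
  have heq := le_antisymm (Cfsg.Agent.S0741.result hZ hab heven) hd
  obtain ⟨N, hNn, -, hc, -, hfix⟩ := zas_exists_kernel hZ hab
  haveI := hNn
  set F := N.map (MulAction.stabilizer G a).subtype with hF
  have hFle : F ≤ MulAction.stabilizer G a := Subgroup.map_subtype_le _
  have hFn : (F.subgroupOf (MulAction.stabilizer G a)).Normal := by
    rw [hF, Subgroup.subgroupOf, Subgroup.comap_map_eq_self_of_injective Subtype.val_injective]
    exact hNn
  have hFfix : ∀ u ∈ F, u ≠ 1 → ∀ c : Ω, u • c = c → c = a := by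
    rintro _ ⟨u, hu, rfl⟩ hu1 c hcu
    exact hfix u hu (fun e => hu1 (by rw [e]; rfl)) c hcu
  have hFcard : Nat.card F + 1 = Fintype.card Ω := by
    have h1 := hc.card_mul
    obtain ⟨hA1, -⟩ := zas_card_group hZ hab
    rw [Nat.card_congr (Subgroup.subgroupOfEquivOfLe (show (MulAction.stabilizer G a ⊓
      MulAction.stabilizer G b : Subgroup G) ≤ MulAction.stabilizer G a from inf_le_left)).toEquiv, hA1] at h1
    have := Nat.eq_of_mul_eq_mul_right Nat.card_pos h1
    rw [hF, Subgroup.card_subtype]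
    have := zas_two_lt_card hZ
    omega
  have hreg : ∀ y z : Ω, y ≠ a → z ≠ a → ∃! u : F, (u : G) • y = z := by
    intro y z hy hz
    obtain ⟨v, hv, hvz⟩ := kernel_transitive (Ne.symm hy) F hFle hFcard hFfix hz
    refine ⟨⟨v, hv⟩, hvz, fun w hw => Subtype.ext ?_⟩
    by_contra hne
    exact hy (hFfix (v⁻¹ * (w : G)) (F.mul_mem (F.inv_mem hv) w.2)
      (fun e => hne (inv_mul_eq_one.mp e).symm) y (by rw [mul_smul, hw, ← hvz, inv_smul_smul]))
  obtain ⟨p, f, K, iK, iF, hp, hp2, hK, hcard, -, hiso⟩ :=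
    psl_of_two_orbits hZ hab F hFle hFcard hFfix hFn hreg heq
  exact ⟨p, f, K, iK, iF, hp, hp2, hK, hcard, hiso⟩

end Cfsg.Agent.S0742
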