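import Cfsg.Statements.S0344
import Cfsg.Agent.Lib.Perm.ZasSimpleEven
import Cfsg.Agent.S0742
-- import your own Cfsg.Agent.* helpers here

set_option autoImplicit false
open Cfsg

namespace Cfsg.Agent.S0344



/-- A finite simple Zassenhaus group with a two-point stabiliser of even order is isomorphic to `PSL₂(F)` for a finite
field `F` with more than three elements. -/
theorem result {G Ω : Type*} [Group G] [Finite G] [MulAction G Ω] [Finite Ω]
    (hZ : Cfsg.IsZassenhausGroup G Ω) [IsSimpleGroup G]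
    {a b : Ω} (hab : a ≠ b) (heven : Even (Nat.card ↥(MulAction.stabilizer G a ⊓ MulAction.stabilizer G b))) :
    ∃ (F : Type) (_ : Field F) (_ : Fintype F), 3 < Fintype.card F ∧ Nonempty (G ≃* Matrix.ProjectiveSpecialLinearGroup (Fin 2) F) := by
  classical
  haveI := Fintype.ofFinite Ω
  obtain ⟨p, f, K, iK, iF, -, -, hK, hcard, hiso⟩ := Cfsg.Agent.S0742.result hZ hab heven
    (Cfsg.Lib.Perm.ZasSimpleEven.card_sub_two_eq hZ hab heven).ge
  have hd2 := Cfsg.Lib.Perm.ZasSimpleEven.card_sub_two_eq hZ hab heven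
  obtain ⟨m, hm⟩ := heven
  have : 0 < Nat.card ↥(MulAction.stabilizer G a ⊓ MulAction.stabilizer G b : Subgroup G) := Nat.card_pos
  exact ⟨K, iK, iF, by omega, hiso⟩

end Cfsg.Agent.S0344
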