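import Cfsg.Statements.S0852
import Cfsg.Agent.Lib.Char.TIExceptional
import Cfsg.Agent.Lib.Char.SignedIrr

set_option autoImplicit false
set_option linter.style.haveILetI false
open Cfsg Cfsg.Lib.Char

namespace Cfsg.Agent.S0852

theorem result {G : Type*} [Group G] [Fintype G] (K : Subgroup G) (hTI : ∀ g : G, g ∉ Subgroup.normalizer (K : Set G) → ∀ k ∈ K, g * k * g⁻¹ ∈ K → k = 1) (hlt : K < Subgroup.normalizer (K : Set G)) (hC : ∀ k ∈ K, k ≠ 1 → Subgroup.centralizer ({k} : Set G) ≤ K) [Fintype ↥(Subgroup.normalizer (K : Set G))] (S : Set (↥(Subgroup.normalizer (K : Set G)) → ℂ)) (hS : S = {χ : ↥(Subgroup.normalizer (K : Set G)) → ℂ | Cfsg.IsIrrCharacter ↥(Subgroup.normalizer (K : Set G)) χ ∧ ∃ k : ↥(Subgroup.normalizer (K : Set G)), (k : G) ∈ K ∧ χ k ≠ χ 1}) (htwo : ∃ χ ∈ S, ∃ ξ ∈ S, χ ≠ ξ) (star : (↥(Subgroup.normalizer (K : Set G)) → ℂ) → (G → ℂ)) (hstar : Cfsg.IsLinearIsometryOn (Cfsg.zspan S) star) (hext : ∀ α ∈ Cfsg.zspanOn S ({1}ᶜ : Set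 ↥(Subgroup.normalizer (K : Set G))), star α = Cfsg.indFun (Subgroup.normalizer (K : Set G)) α) (ψ : G → ℂ) (hψ : Cfsg.IsIrrCharacter G ψ) : (∃ χ ∈ S, ψ = star χ ∨ ψ = -star χ) ↔ ∃ a ∈ K, ∃ b ∈ K, a ≠ 1 ∧ b ≠ 1 ∧ ψ a ≠ ψ b := by
  classical
  haveI : (K.subgroupOf (Subgroup.normalizer (K : Set G))).Normal := Subgroup.normal_in_normalizer
  have hCN := subgroupOf_normalizer_frob hlt hC
  obtain ⟨χ₁, hχ₁, χ₂, hχ₂, hne₂⟩ := htwo
  have hKne : K.subgroupOf (Subgroup.normalizer (K : Set G)) ≠ ⊥ := by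
    intro h
    rw [hS] at hχ₁
    obtain ⟨k, hk, hk'⟩ := hχ₁.2
    have : k = 1 := (Subgroup.eq_bot_iff_forall _).mp h k hk
    exact hk' (by rw [this])
  have hin : ∀ {φ : (Subgroup.normalizer (K : Set G)) → ℂ}, φ ∈ S → IsIrrCharacter (Subgroup.normalizer (K : Set G)) φ ∧ ∃ k ∈ K.subgroupOf (Subgroup.normalizer (K : Set G)), φ k ≠ φ 1 := by
    intro φ hφ; rw [hS] at hφ; exact hφ
  have hin' : ∀ {φ : (Subgroup.normalizer (K : Set G)) → ℂ}, IsIrrCharacter (Subgroup.normalizer (K : Set G)) φ → (∃ k ∈ K.subgroupOf (Subgroup.normalizer (K : Set G)), φ k ≠ φ 1) → φ ∈ S := by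
    intro φ h1 h2; rw [hS]; exact ⟨h1, h2⟩
  have hz : ∀ {φ : (Subgroup.normalizer (K : Set G)) → ℂ}, φ ∈ S → φ ∈ zspan S := fun h => Submodule.subset_span (R := ℤ) h
  constructor
  · rintro ⟨χ, hχ, hψe⟩
    by_contra hcon
    push Not at hcon
    obtain ⟨ξ, hξ, hne⟩ : ∃ ξ ∈ S, ξ ≠ χ := by
      by_cases h : χ₁ = χ
      · exact ⟨χ₂, hχ₂, fun e => hne₂ (h.trans e.symm)⟩
      · exact ⟨χ₁, hχ₁, h⟩
    obtain ⟨k₀, hk₀, hk₀'⟩ := (hin hχ).2
    have hk₀1 : k₀ ≠ 1 := fun h => hk₀' (by rw [h])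
    -- `star χ` is constant on the nontrivial elements of `K`
    have hsc : ∀ k : (Subgroup.normalizer (K : Set G)), (k : G) ∈ K → k ≠ 1 → star χ k = star χ k₀ := by
      intro k hk hk1
      have h := hcon k hk k₀ hk₀ (fun e => hk1 (Subtype.ext e)) (fun e => hk₀1 (Subtype.ext e))
      rcases hψe with rfl | rfl
      · exact h
      · simpa using h
    obtain ⟨a, -, ha⟩ := (hin hχ).1.exists_degree
    obtain ⟨b, hb0, hb⟩ := (hin hξ).1.exists_degree
    obtain ⟨A, hA⟩ := frobKernel_constant hKne hCN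
      (f := (fun x : (Subgroup.normalizer (K : Set G)) => star χ x) - χ)
      (((hstar.2.2.2 χ (hz hχ)).comp (Subgroup.normalizer (K : Set G)).subtype).sub (hin hχ).1.isGeneralized) (by
        intro u v hu hun hv hvn
        obtain ⟨du, -, hdu⟩ := hu.exists_degree
        obtain ⟨dv, -, hdv⟩ := hv.exists_degree
        have h := star_pair_inner hTI hlt hC hS hstar hext
          ((hstar.2.2.2 χ (hz hχ)).isClassFunction) (hin' hu hun) (hin' hv hvn) hdu hdv
        rw [hstar.2.2.1 χ (hz hχ) u (hz (hin' hu hun)),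
          hstar.2.2.1 χ (hz hχ) v (hz (hin' hv hvn))] at h
        rw [hdu, hdv, classInner_sub_left, classInner_sub_left]
        linear_combination -h)
    refine frobKernel_not_constant hCN (hin hχ).1 (hin hχ).2 (hin hξ).1 (hin hξ).2 hne.symm
      (C := star χ k₀ - A) fun k hk hk1 => ?_
    have h := hA k hk hk1
    rw [Pi.sub_apply, hsc k hk hk1] at h
    linear_combination -h
  · rintro ⟨x, hx, y, hy, hx1, hy1, hxy⟩
    by_contra hcon
    push Not at hcon
    obtain ⟨A, hA⟩ := frobKernel_constant hKne hCN (f := fun z : (Subgroup.normalizer (K : Set G)) => ψ z)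
      (hψ.isCharacter.comp (Subgroup.normalizer (K : Set G)).subtype).isGeneralized (by
        intro u v hu hun hv hvn
        obtain ⟨du, -, hdu⟩ := hu.exists_degree
        obtain ⟨dv, -, hdv⟩ := hv.exists_degree
        have h := star_pair_inner hTI hlt hC hS hstar hext
          hψ.isClassFunction (hin' hu hun) (hin' hv hvn) hdu hdv
        have hzero : ∀ {φ : (Subgroup.normalizer (K : Set G)) → ℂ}, φ ∈ S → classInner ψ (star φ) = 0 := by
          intro φ hφ
          have hg := hstar.2.2.2 φ (hz hφ)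
          have h1 : classInner (star φ) (star φ) = 1 := by
            rw [hstar.2.2.1 φ (hz hφ) φ (hz hφ), classInner_irr_self (hin hφ).1]
          obtain ⟨ε, η, hε, he⟩ := exists_signed_irr_of_norm_one hg h1
          rw [he, classInner_smul_right]
          refine mul_eq_zero_of_right _ (classInner_irr_ne hψ η.2 fun e => ?_)
          rcases hε with rfl | rfl
          · exact (hcon φ hφ).1 (by rw [he]; simp [e])
          · exact (hcon φ hφ).2 (by rw [he]; simp [e])
        rw [hzero (hin' hu hun), hzero (hin' hv hvn), mul_zero, mul_zero, sub_zero] at h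
        rw [hdu, hdv]
        linear_combination -h)
    refine hxy ?_
    have e1 := hA ⟨x, hlt.le hx⟩ hx (fun e => hx1 (congrArg Subtype.val e))
    have e2 := hA ⟨y, hlt.le hy⟩ hy (fun e => hy1 (congrArg Subtype.val e))
    exact e1.trans e2.symm

end Cfsg.Agent.S0852
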