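import Cfsg.Statements.S0853
import Cfsg.Agent.Lib.Char.TIExceptional
import Cfsg.Agent.Lib.Char.SignedIrr

set_option autoImplicit false
set_option linter.style.haveILetI false
open Cfsg Cfsg.Lib.Char

namespace Cfsg.Agent.S0853

theorem result {G : Type*} [Group G] [Fintype G] (K : Subgroup G) (hTI : ∀ g : G, g ∉ Subgroup.normalizer (K : Set G) → ∀ k ∈ K, g * k * g⁻¹ ∈ K → k = 1) (hlt : K < Subgroup.normalizer (K : Set G)) (hC : ∀ k ∈ K, k ≠ 1 → Subgroup.centralizer ({k} : Set G) ≤ K) [Fintype ↥(Subgroup.normalizer (K : Set G))] (S : Set (↥(Subgroup.normalizer (K : Set G)) → ℂ)) (hS : S = {χ : ↥(Subgroup.normalizer (K : Set G)) → ℂ | Cfsg.IsIrrCharacter ↥(Subgroup.normalizer (K : Set G)) χ ∧ ∃ k : ↥(Subgroup.normalizer (K : Set G)), (k : G) ∈ K ∧ χ k ≠ χ 1}) (htwo : ∃ χ ∈ S, ∃ ξ ∈ S, χ ≠ ξ) (star : (↥(Subgroup.normalizer (K : Set G)) → ℂ) → (G → ℂ)) (hstar : Cfsg.IsLinearIsometryOn (Cfsg.zspan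 S) star) (hext : ∀ α ∈ Cfsg.zspanOn S ({1}ᶜ : Set ↥(Subgroup.normalizer (K : Set G))), star α = Cfsg.indFun (Subgroup.normalizer (K : Set G)) α) : ∃ m : ℤ, ∀ χ ∈ S, ∀ k : ↥(Subgroup.normalizer (K : Set G)), (k : G) ∈ K → k ≠ 1 → star χ k - χ k = (m : ℂ) * χ 1 / ((K.subgroupOf (Subgroup.normalizer (K : Set G))).index : ℂ) := by
  classical
  haveI : (K.subgroupOf (Subgroup.normalizer (K : Set G))).Normal := Subgroup.normal_in_normalizer
  have hCN := subgroupOf_normalizer_frob hlt hC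
  obtain ⟨χ₁, hχ₁, -⟩ := htwo
  have hin : ∀ {φ : (Subgroup.normalizer (K : Set G)) → ℂ}, φ ∈ S → IsIrrCharacter (Subgroup.normalizer (K : Set G)) φ ∧ ∃ k ∈ K.subgroupOf (Subgroup.normalizer (K : Set G)), φ k ≠ φ 1 := by
    intro φ hφ; rw [hS] at hφ; exact hφ
  have hin' : ∀ {φ : (Subgroup.normalizer (K : Set G)) → ℂ}, IsIrrCharacter (Subgroup.normalizer (K : Set G)) φ → (∃ k ∈ K.subgroupOf (Subgroup.normalizer (K : Set G)), φ k ≠ φ 1) → φ ∈ S := by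
    intro φ h1 h2; rw [hS]; exact ⟨h1, h2⟩
  have hz : ∀ {φ : (Subgroup.normalizer (K : Set G)) → ℂ}, φ ∈ S → φ ∈ zspan S := fun h => Submodule.subset_span (R := ℤ) h
  have hKne : K.subgroupOf (Subgroup.normalizer (K : Set G)) ≠ ⊥ := by
    intro h
    obtain ⟨k, hk, hk'⟩ := (hin hχ₁).2
    exact hk' (by rw [(Subgroup.eq_bot_iff_forall _).mp h k hk])
  obtain ⟨k₁, hk₁, hk₁'⟩ := (hin hχ₁).2
  have hk₁1 : k₁ ≠ 1 := fun h => hk₁' (by rw [h])
  have hconst : ∀ χ ∈ S, ∃ A : ℤ, ∀ k : (Subgroup.normalizer (K : Set G)), (k : G) ∈ K → k ≠ 1 → star χ k - χ k = A := by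
    intro χ hχ
    obtain ⟨A, hA⟩ := frobKernel_constant hKne hCN
      (f := (fun x : (Subgroup.normalizer (K : Set G)) => star χ x) - χ)
      (((hstar.2.2.2 χ (hz hχ)).comp (Subgroup.normalizer (K : Set G)).subtype).sub (hin hχ).1.isGeneralized) (by
        intro u v hu hun hv hvn
        obtain ⟨du, -, hdu⟩ := hu.exists_degree
        obtain ⟨dv, -, hdv⟩ := hv.exists_degree
        have h := star_pair_inner hTI hlt hC hS hstar hext
          ((hstar.2.2.2 χ (hz hχ)).isClassFunction) (hin' hu hun) (hin' hv hvn) hdu hdv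
        rw [hstar.2.2.1 χ (hz hχ) u (hz (hin' hu hun)),
          hstar.2.2.1 χ (hz hχ) v (hz (hin' hv hvn))] at h
        rw [hdu, hdv, classInner_sub_left, classInner_sub_left]
        linear_combination -h)
    exact ⟨A, fun k hk hk1 => hA k hk hk1⟩
  choose! A hA using hconst
  have hprop : ∀ χ ∈ S, ∀ ξ ∈ S, ξ 1 * (A χ : ℂ) = χ 1 * (A ξ : ℂ) := by
    intro χ hχ ξ hξ
    obtain ⟨a, -, ha⟩ := (hin hχ).1.exists_degree
    obtain ⟨b, -, hb⟩ := (hin hξ).1.exists_degree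
    obtain ⟨h1, h2, h3⟩ := star_pair hTI hlt hC hS hstar hext hχ hξ ha hb
    have h := h3 k₁ hk₁
    rw [← h2, h1] at h
    simp only [Pi.sub_apply, Pi.smul_apply, smul_eq_mul] at h
    rw [ha, hb, ← hA χ hχ k₁ hk₁ hk₁1, ← hA ξ hξ k₁ hk₁ hk₁1]
    linear_combination h
  have h10 := (hin hχ₁).1.apply_one_ne_zero
  obtain ⟨m, hm⟩ := frobKernel_int hKne hCN ((A χ₁ : ℂ) / χ₁ 1) fun ξ hξ hξn =>
    ⟨A ξ, by
      rw [div_mul_eq_mul_div, div_eq_iff h10]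
      linear_combination hprop χ₁ hχ₁ ξ (hin' hξ hξn)⟩
  refine ⟨m, fun χ hχ k hk hk1 => ?_⟩
  rw [hA χ hχ k hk hk1, ← hm, eq_div_iff (Nat.cast_ne_zero.mpr Subgroup.index_ne_zero_of_finite),
    div_mul_eq_mul_div, div_mul_eq_mul_div, eq_div_iff h10]
  linear_combination ((K.subgroupOf (Subgroup.normalizer (K : Set G))).index : ℂ) * hprop χ hχ χ₁ hχ₁

end Cfsg.Agent.S0853
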