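import Cfsg.Statements.S0039
import Cfsg.Agent.Lib.Core.Smul

set_option autoImplicit false
open Cfsg
open scoped Pointwise

namespace Cfsg.Agent.S0039

/-- In a finite group that is a semidirect product of a normal subgroup K by a nontrivial subgroup H, H is a Frobenius complement exactly when each nonidentity element of H acts without nonidentity fixed points on K by conjugation. -/
theorem result {G : Type*} [Group G] [Finite G] (K H : Subgroup G) [K.Normal]
    (hc : Subgroup.IsComplement' K H) (hK : K ≠ ⊥) (hH : H ≠ ⊥) :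
    Cfsg.IsFrobeniusComplement H ↔ ∀ h ∈ H, h ≠ 1 → K ⊓ Subgroup.centralizer {h} = ⊥ := by
  constructor
  · intro hF h hh hh1
    refine eq_bot_iff.2 fun k ⟨hk, hkc⟩ => ?_
    have hkh : h * k = k * h := Subgroup.mem_centralizer_singleton_iff.1 hkc |>.symm
    by_contra hk1
    have hkH : k ∉ H := fun h' => hk1 (hc.disjoint.le_bot ⟨hk, h'⟩)
    have : h ∈ H ⊓ MulAut.conj k • H := by
      refine ⟨hh, (Cfsg.Lib.Core.mem_conj_smul).2 ?_⟩
      rwa [mul_assoc, hkh, inv_mul_cancel_left]
    rw [hF.2.2 k hkH, Subgroup.mem_bot] at this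
    exact hh1 this
  · intro hfpf
    refine ⟨hH, fun htop => hK ?_, fun g hg => ?_⟩
    · subst htop
      simpa using hc.disjoint.eq_bot
    · obtain ⟨⟨⟨k, hk⟩, ⟨h₀, hh₀⟩⟩, rfl⟩ := hc.2 g
      refine eq_bot_iff.2 fun x ⟨hx, hx'⟩ => ?_
      have hxy : (k * h₀)⁻¹ * x * (k * h₀) ∈ H := Cfsg.Lib.Core.mem_conj_smul.1 hx'
      have hy : k⁻¹ * x * k ∈ H := by
        have := mul_mem (mul_mem hh₀ hxy) (H.inv_mem hh₀)
        simpa [mul_assoc] using this
      have h1 : x⁻¹ * (k⁻¹ * x * k) = 1 := by
        refine hc.disjoint.le_bot ⟨?_, mul_mem (H.inv_mem hx) hy⟩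
        have := mul_mem (‹K.Normal›.conj_mem _ (K.inv_mem hk) x⁻¹) hk
        simpa [mul_assoc] using this
      have hcomm : x * k = k * x := by
        have h2 : x = k⁻¹ * x * k := inv_mul_eq_one.1 h1
        calc x * k = k * (k⁻¹ * x * k) := by group
          _ = k * x := by rw [← h2]
      rw [Subgroup.mem_bot]
      by_contra hx1
      have hk1 : k = 1 := by
        have hmem : k ∈ K ⊓ Subgroup.centralizer {x} :=
          ⟨hk, Subgroup.mem_centralizer_singleton_iff.2 (by first | exact hcomm | exact hcomm.symm)⟩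
        rw [hfpf x hx hx1, Subgroup.mem_bot] at hmem
        exact hmem
      exact hg (by simpa [hk1] using hh₀)

end Cfsg.Agent.S0039
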