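import Cfsg.Statements.S0042
import Cfsg.Agent.Lib.Thompson.FixedPointFree
import Cfsg.Agent.Lib.Solv.FrobeniusBasic

set_option autoImplicit false
set_option linter.style.haveILetI false
open Cfsg

namespace Cfsg.Agent.S0042

/-- In a finite Frobenius group, the Frobenius kernel is (the carrier of) a normal subgroup which is nilpotent. -/
theorem result {G : Type*} [Group G] [Finite G] (H : Subgroup G) (hH : Cfsg.IsFrobeniusComplement H) :
    ∃ N : Subgroup G, (N : Set G) = Cfsg.frobeniusKernel H ∧ N.Normal ∧ Group.IsNilpotent N := by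
  obtain ⟨K, hK, hKn, hc⟩ := Cfsg.Lib.Solv.frobenius_theorem hH
  refine ⟨K, hK, hKn, ?_⟩
  obtain ⟨q, hq, hqd⟩ := Nat.exists_prime_and_dvd
    (fun h => hH.1 (Subgroup.card_eq_one.mp h) : Nat.card H ≠ 1)
  have : Fact q.Prime := ⟨hq⟩
  obtain ⟨h, hh⟩ := exists_prime_orderOf_dvd_card' (G := H) q hqd
  have hh1 : (h : G) ≠ 1 := fun e => by
    rw [← Subgroup.orderOf_coe, e, orderOf_one] at hh
    exact hq.one_lt.ne hh
  have hmul : ∀ (n : ℕ) (x : K), (((MulAut.conjNormal (H := K) (h : G) : MulAut K))^[n] x : K) =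
      MulAut.conjNormal (H := K) ((h : G) ^ n) x := fun n => by
    induction n with
    | zero => intro x; simp
    | succ n ih => intro x; rw [Function.iterate_succ_apply, ih, pow_succ, map_mul]; rfl
  refine Cfsg.Lib.Thompson.isNilpotent_of_fpf hq (MulAut.conjNormal (H := K) (h : G))
    (fun k hk => Subtype.ext ?_) (funext fun x => ?_)
  · refine Cfsg.Lib.Solv.fpf_of_frobenius hH hc.disjoint h.2 hh1 k.2 ?_
    have hval := congrArg Subtype.val hk
    rw [MulAut.conjNormal_apply] at hval
    exact (mul_inv_eq_iff_eq_mul.mp hval).symm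
  · have hpow : (h : G) ^ q = 1 := by rw [← hh, ← Subgroup.orderOf_coe, pow_orderOf_eq_one]
    rw [hmul, hpow, map_one]; rfl

end Cfsg.Agent.S0042
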