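import Cfsg.Statements.S0080

set_option autoImplicit false
set_option linter.style.haveILetI false
open Cfsg

namespace Cfsg.Agent.S0080

open scoped IsMulCommutative

open Subgroup in
theorem ker_inf {G : Type*} [Group G] [Finite G] (H : Subgroup G)
    (h : Nat.Coprime H.index (⁅H, H⁆.relIndex H)) :
    H.transferFocal.ker ⊓ H = H.focalSubgroup ∧ H.transferFocal.ker ⊔ H = ⊤ := by
  have hdvd : Nat.card (H ⧸ H.focalSubgroupOf) ∣ ⁅H, H⁆.relIndex H := by
    exact relIndex_dvd_of_le_left H H.commutator_le_focalSubgroup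
  have hbij : Function.Bijective fun y : H ⧸ H.focalSubgroupOf => y ^ H.index :=
    (powCoprime (Nat.Coprime.coprime_dvd_left hdvd h.symm)).bijective
  constructor
  · refine le_antisymm (fun x hx => ?_) (le_inf ?_ H.focalSubgroup_le)
    · have h1 := transferFocal_eq_pow H ⟨x, hx.2⟩
      rw [show H.transferFocal x = 1 from hx.1] at h1
      have h2 : ((⟨x, hx.2⟩ : H) : H ⧸ H.focalSubgroupOf) = 1 := hbij.1 (by simpa using h1.symm)
      exact mem_subgroupOf.mp ((QuotientGroup.eq_one_iff (N := H.focalSubgroupOf) _).mp h2)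
    · exact H.focalSubgroup_le_commutator.trans (Abelianization.commutator_subset_ker _)
  · rw [eq_top_iff]
    intro g _
    obtain ⟨y, hy⟩ := hbij.2 (H.transferFocal g)
    obtain ⟨x, rfl⟩ := QuotientGroup.mk_surjective y
    have h1 : g * (x : G)⁻¹ ∈ H.transferFocal.ker := by
      rw [MonoidHom.mem_ker, map_mul, map_inv, transferFocal_eq_pow]
      exact mul_inv_eq_one.mpr hy.symm
    have := mul_mem (mem_sup_left (T := H) h1) (mem_sup_right (S := H.transferFocal.ker) x.2)
    rwa [inv_mul_cancel_right] at this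

/-- When the index of H is prime to the order of H/H', the focal subgroup of H is G' ∩ H, and H/(G' ∩ H) has a normal complement. -/
theorem result {G : Type*} [Group G] [Finite G] (H : Subgroup G) (h : Nat.Coprime H.index (⁅H, H⁆.relIndex H)) : Subgroup.focalSubgroup H = commutator G ⊓ H ∧ ∃ N : Subgroup G, N.Normal ∧ N ⊓ H = commutator G ⊓ H ∧ N ⊔ H = ⊤ := by
  obtain ⟨h1, h2⟩ := ker_inf H h
  have hfoc : Subgroup.focalSubgroup H = commutator G ⊓ H := by
    refine le_antisymm (le_inf H.focalSubgroup_le_commutator H.focalSubgroup_le) ?_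
    rw [← h1]
    exact inf_le_inf_right _ (Abelianization.commutator_subset_ker _)
  exact ⟨hfoc, H.transferFocal.ker, inferInstance, by rw [h1, hfoc], h2⟩

end Cfsg.Agent.S0080
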