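import Cfsg.Statements.S0740
import Mathlib

set_option autoImplicit false
open Cfsg

namespace Cfsg.Agent.S0740

/-- In a finite Zassenhaus group any two points `a ≠ b` are swapped by an involution; every such involution has exactly one fixed point when the degree is odd and 0 or 2 fixed points when the degree is even; and if the two-point stabiliser has even order, some such involution has exactly 2 fixed points. -/
theorem result {G Ω : Type*} [Group G] [Finite G] [MulAction G Ω] [Fintype Ω] (hZ : Cfsg.IsZassenhausGroup G Ω) {a b : Ω} (hab : a ≠ b) : (∃ s : G, orderOf s = 2 ∧ s • a = b ∧ s • b = a) ∧ (∀ s : G, orderOf s = 2 → s • a = b → s • b = a → (Odd (Fintype.card Ω) → Nat.card (MulAction.fixedBy Ω s) = 1) ∧ (Even (Fintype.card Ω) → Nat.card (MulAction.fixedBy Ω s) = 0 ∨ Nat.card (MulAction.fixedBy Ω s) = 2)) ∧ (Even (Fintype.card Ω) → Even (Nat.card ↥(MulAction.stabilizer G a ⊓ MulAction.stabilizer G b)) → ∃ s : G, orderOf s = 2 ∧ s • a = b ∧ s • b = a ∧ Nat.card (MulAction.fixedBy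 Ω s) = 2) := by
  classical
  obtain ⟨hfaith, h2, h3, h4, -⟩ := hZ
  haveI := hfaith
  haveI : Fintype G := Fintype.ofFinite G
  have htrans : ∀ {x y z w : Ω}, x ≠ y → z ≠ w → ∃ g : G, g • x = z ∧ g • y = w :=
    fun hxy hzw => MulAction.is_two_pretransitive_iff.1 h2 hxy hzw
  have hsq : ∀ s : G, orderOf s = 2 → ∀ x : Ω, s • s • x = x := fun s hs x => by
    rw [smul_smul, ← pow_two, ← hs, pow_orderOf_eq_one, one_smul]
  -- moving an involution into place
  have hmove : ∀ t : G, orderOf t = 2 → ∀ x : Ω, t • x ≠ x → ∃ s : G, orderOf s = 2 ∧ s • a = b ∧ s • b = a ∧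
      Nat.card (MulAction.fixedBy Ω s) = Nat.card (MulAction.fixedBy Ω t) := by
    intro t ht x hx
    obtain ⟨g, hga, hgb⟩ := htrans (Ne.symm hx) hab
    refine ⟨g * t * g⁻¹, ?_, ?_, ?_, ?_⟩
    · rw [← MulAut.conj_apply, MulEquiv.orderOf_eq]
      exact ht
    · rw [← hga, mul_smul, mul_smul, inv_smul_smul, hgb]
    · rw [← hgb, mul_smul, mul_smul, inv_smul_smul, hsq t ht, hga]
    · rw [← Nat.card_congr ((MulAction.toPerm g).subtypeEquiv (p := fun y => y ∈ MulAction.fixedBy Ω t)
        (q := fun y => y ∈ MulAction.fixedBy Ω (g * t * g⁻¹)) fun y => by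
          rw [MulAction.mem_fixedBy, MulAction.mem_fixedBy, MulAction.toPerm_apply, mul_smul, mul_smul, inv_smul_smul,
            (MulAction.injective g).eq_iff])]
  have hle2 : ∀ s : G, orderOf s = 2 → Nat.card (MulAction.fixedBy Ω s) ≤ 2 := by
    intro s hs
    by_contra h
    push Not at h
    rw [Nat.card_eq_fintype_card] at h
    obtain ⟨⟨x, hx⟩, ⟨y, hy⟩, ⟨z, hz⟩, hxy, hxz, hyz⟩ := Fintype.two_lt_card_iff.1 h
    have h1 := h3 s x y z (fun e => hxy (Subtype.ext e)) (fun e => hyz (Subtype.ext e)) (fun e => hxz (Subtype.ext e))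
      hx hy hz
    rw [h1, orderOf_one] at hs
    omega
  have hpar : ∀ s : G, orderOf s = 2 → Nat.card (MulAction.fixedBy Ω s) % 2 = Fintype.card Ω % 2 := by
    intro s hs
    have hp : IsPGroup 2 (Subgroup.zpowers s) := IsPGroup.of_card (n := 1) (by rw [Nat.card_zpowers, hs, pow_one])
    haveI := Fact.mk Nat.prime_two
    have h1 := hp.card_modEq_card_fixedPoints (α := Ω)
    rw [Nat.card_eq_fintype_card] at h1
    rw [show MulAction.fixedBy Ω s = MulAction.fixedPoints (Subgroup.zpowers s) Ω from ?_]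
    · exact h1.symm
    · ext x
      refine ⟨fun hx => ?_, fun hx => hx ⟨s, Subgroup.mem_zpowers s⟩⟩
      rintro ⟨g, k, rfl⟩
      exact MulAction.mem_fixedBy_zpow hx k
  refine ⟨?_, fun s hs _ _ => ⟨fun ho => ?_, fun he => ?_⟩, fun he hHe => ?_⟩
  · obtain ⟨g, hga, hgb⟩ := htrans hab hab.symm
    have hev : Even (orderOf g) := by
      by_contra ho
      obtain ⟨k, hk⟩ := Nat.not_even_iff_odd.1 ho
      have hiter : ∀ j : ℕ, g ^ (2 * j) • a = a := by
        intro j
        induction j with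
        | zero => simp
        | succ j ih => rw [show 2 * (j + 1) = 2 * j + 1 + 1 by ring, pow_succ, pow_succ, mul_smul, mul_smul, hga, hgb, ih]
      have h1 : g ^ orderOf g • a = b := by rw [hk, pow_succ', mul_smul, hiter, hga]
      rw [pow_orderOf_eq_one, one_smul] at h1
      exact hab h1
    have hpos := orderOf_pos g
    have ht : orderOf (g ^ (orderOf g / 2)) = 2 := by
      rw [orderOf_pow, Nat.gcd_eq_right (Nat.div_dvd_of_dvd (even_iff_two_dvd.1 hev)),
        Nat.div_div_self (even_iff_two_dvd.1 hev) hpos.ne']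
    obtain ⟨x, hx⟩ : ∃ x : Ω, (g ^ (orderOf g / 2)) • x ≠ x := by
      by_contra hall
      push Not at hall
      have h1 : g ^ (orderOf g / 2) = 1 := FaithfulSMul.eq_of_smul_eq_smul fun y : Ω => by rw [hall, one_smul]
      rw [h1, orderOf_one] at ht
      omega
    obtain ⟨s, hs, hsa, hsb, -⟩ := hmove _ ht x hx
    exact ⟨s, hs, hsa, hsb⟩
  · have h1 := hle2 s hs
    have h2' := hpar s hs
    rw [Nat.odd_iff.1 ho] at h2'
    omega
  · have h1 := hle2 s hs
    have h2' := hpar s hs
    rw [Nat.even_iff.1 he] at h2'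
    omega
  · haveI := Fact.mk Nat.prime_two
    obtain ⟨z, hz⟩ := exists_prime_orderOf_dvd_card' 2 (even_iff_two_dvd.1 hHe)
    rw [← Subgroup.orderOf_coe] at hz
    obtain ⟨x, hx⟩ : ∃ x : Ω, (z : G) • x ≠ x := by
      by_contra hall
      push Not at hall
      have h1 : (z : G) = 1 := FaithfulSMul.eq_of_smul_eq_smul fun y : Ω => by rw [hall, one_smul]
      rw [h1, orderOf_one] at hz
      omega
    obtain ⟨s, hs, hsa, hsb, hcard⟩ := hmove _ hz x hx
    refine ⟨s, hs, hsa, hsb, ?_⟩
    have hge : 2 ≤ Nat.card (MulAction.fixedBy Ω (z : G)) := by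
      have ha : a ∈ MulAction.fixedBy Ω (z : G) := (Subgroup.mem_inf.1 z.2).1
      have hb : b ∈ MulAction.fixedBy Ω (z : G) := (Subgroup.mem_inf.1 z.2).2
      rw [Nat.card_eq_fintype_card]
      exact Fintype.one_lt_card_iff.2 ⟨⟨a, ha⟩, ⟨b, hb⟩, fun h => hab (congrArg Subtype.val h)⟩
    have := hle2 _ hz
    omega

end Cfsg.Agent.S0740
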