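import Cfsg.Statements.S0878
import Cfsg.Agent.Lib.Char.Zassenhaus

set_option autoImplicit false
set_option linter.style.haveILetI false
open Cfsg Cfsg.Lib.Char

namespace Cfsg.Agent.S0878

theorem result {G Ω : Type*} [Group G] [Finite G] [MulAction G Ω] [Fintype Ω] (hZ : Cfsg.IsZassenhausGroup G Ω) (a : Ω) (H : Subgroup G) (hHa : H ≤ MulAction.stabilizer G a) (hHcard : Nat.card H + 1 = Fintype.card Ω) (hHfix : ∀ u ∈ H, u ≠ 1 → ∀ c : Ω, u • c = c → c = a) : (∀ g : G, g ∉ MulAction.stabilizer G a → ∀ u ∈ H, g * u * g⁻¹ ∈ H → u = 1) ∧ Subgroup.normalizer (H : Set G) = MulAction.stabilizer G a := by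
  classical
  have hTI : ∀ g : G, g ∉ MulAction.stabilizer G a → ∀ u ∈ H, g * u * g⁻¹ ∈ H → u = 1 := by
    intro g hg u hu h
    by_contra hu1
    apply hg
    refine hHfix (g * u * g⁻¹) h (fun e => hu1 ?_) (g • a) ?_
    · rwa [mul_inv_eq_one, mul_eq_left] at e
    · have hua : u • a = a := hHa hu
      rw [mul_smul, mul_smul, inv_smul_smul, hua]
  refine ⟨hTI, le_antisymm (fun g hg => ?_) (fun g hg => ?_)⟩
  · by_contra hga
    have hne : H ≠ ⊥ := fun e => by
      rw [e, Subgroup.card_bot] at hHcard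
      have := zas_two_lt_card hZ
      omega
    exact hne ((Subgroup.eq_bot_iff_forall _).mpr fun u hu =>
      hTI g hga u hu ((hg u).mp hu))
  · have key : ∀ k : G, k • a = a → ∀ u ∈ H, k * u * k⁻¹ ∈ H := by
      intro k hk u hu
      by_cases hu1 : u = 1
      · simp [hu1, H.one_mem]
      have hki : k⁻¹ • a = a := by rw [inv_smul_eq_iff, hk]
      refine zas_mem_kernel hZ a H hHa hHcard hHfix ?_ fun c hc => ?_
      · have hua : u • a = a := hHa hu
        rw [mul_smul, mul_smul, hki, hua, hk]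
      · have := hHfix u hu hu1 (k⁻¹ • c) (by rw [eq_inv_smul_iff, ← mul_smul, ← mul_smul]; exact hc)
        rwa [inv_smul_eq_iff, hk] at this
    refine fun u => ⟨fun hu => key g hg u hu, fun hu => ?_⟩
    have := key g⁻¹ ((MulAction.stabilizer G a).inv_mem hg) _ hu
    simpa [mul_assoc] using this

end Cfsg.Agent.S0878
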