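import Cfsg.Statements.S0881
import Cfsg.Agent.Lib.Char.ZassenhausOdd
import Cfsg.Agent.Lib.Char.Linear


set_option autoImplicit false
set_option linter.style.haveILetI false
open Cfsg Cfsg.Lib.Char

namespace Cfsg.Agent.S0881

theorem result {G Ω : Type*} [Group G] [Fintype G] [MulAction G Ω] [Fintype Ω] (hZ : Cfsg.IsZassenhausGroup G Ω) {a b : Ω} (hab : a ≠ b) [IsSimpleGroup G] (hodd : Odd (Nat.card ↥(MulAction.stabilizer G a ⊓ MulAction.stabilizer G b : Subgroup G))) (hlt : Nat.card ↥(MulAction.stabilizer G a ⊓ MulAction.stabilizer G b : Subgroup G) < Fintype.card Ω - 2) (H : Subgroup G) (hHa : H ≤ MulAction.stabilizer G a) (hHcard : Nat.card H + 1 = Fintype.card Ω) (hHfix : ∀ u ∈ H, u ≠ 1 → ∀ c : Ω, u • c = c → c = a) (μ : MulAction.stabilizer G a → ℂ) (hμ : Cfsg.IsCharacter (MulAction.stabilizer G a) μ ∧ μ 1 = 1) (hμH : ∀ u : MulAction.stabilizer G a, (u : G) ∈ H → μ u = 1) (hμne : μ ≠ fun _ => 1) : Cfsg.IsIrrCharacter G (Cfsg.indFun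 (MulAction.stabilizer G a) μ) ∧ ∀ u ∈ H, u ≠ 1 → Cfsg.indFun (MulAction.stabilizer G a) μ u = 1 := by
  classical
  let A : Subgroup G := MulAction.stabilizer G a
  let D : Subgroup G := MulAction.stabilizer G a ⊓ MulAction.stabilizer G b
  obtain ⟨l, rfl⟩ := exists_hom_of_degree_one hμ.1 hμ.2
  obtain ⟨s, hs, hsa, hsb⟩ := (Cfsg.Agent.S0740.result hZ hab).1
  have hss : s * s = 1 := by rw [← pow_two, ← hs, pow_orderOf_eq_one]
  have hsi : s⁻¹ = s := inv_eq_of_mul_eq_one_right hss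
  have hnorm : ∀ x : G, x ∈ A → ∀ w ∈ H, x * w * x⁻¹ ∈ H := fun x hx w hw =>
    ((Subgroup.mem_normalizer_iff.mp
      ((Cfsg.Agent.S0878.result hZ a H hHa hHcard hHfix).2.symm ▸ hx :
        x ∈ Subgroup.normalizer (H : Set G))) w).mp hw
  -- the linear character is not invariant under the swap
  have hsD : ∀ d : D, s * (d : G) * s⁻¹ ∈ D := fun d => (zas_swap_conj hZ hab hsa hsb d.2).1
  let χ : D →* ℂˣ :=
    { toFun := fun d => l ⟨d, d.2.1⟩ / l ⟨s * (d : G) * s⁻¹, (hsD d).1⟩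
      map_one' := by
        rw [show (⟨s * ((1 : D) : G) * s⁻¹, (hsD 1).1⟩ : A) = 1 from Subtype.ext (by simp),
          show (⟨((1 : D) : G), (1 : D).2.1⟩ : A) = 1 from rfl, map_one, div_one]
      map_mul' := fun c d => by
        rw [show (⟨((c * d : D) : G), (c * d).2.1⟩ : A) = ⟨c, c.2.1⟩ * ⟨d, d.2.1⟩ from rfl,
          show (⟨s * ((c * d : D) : G) * s⁻¹, (hsD (c * d)).1⟩ : A) =
            ⟨s * (c : G) * s⁻¹, (hsD c).1⟩ * ⟨s * (d : G) * s⁻¹, (hsD d).1⟩ from
            Subtype.ext (by simp [mul_assoc]), map_mul, map_mul, mul_div_mul_comm] }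
  have hχ : χ ≠ 1 := by
    intro hχ1
    apply hμne
    have h1 : l.comp (Subgroup.inclusion (inf_le_left : D ≤ A)) = 1 :=
      zas_lin_eq_one hZ hab hodd hsa hsb _ fun d => by
        have h2 : l ⟨d, d.2.1⟩ / l ⟨s * (d : G) * s⁻¹, (hsD d).1⟩ = 1 := DFunLike.congr_fun hχ1 d
        exact (div_eq_one.mp h2).symm
    funext x
    -- `H` is transitive on the other points
    have hbij : Function.Bijective (fun u : H => (⟨(u : G) • b, fun e => hab (by
        have hua : (u : G) • a = a := hHa u.2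
        exact MulAction.injective (u : G) (hua.trans e.symm))⟩ : {c : Ω // c ≠ a})) := by
      refine (Fintype.bijective_iff_injective_and_card _).mpr ⟨fun u v huv => ?_, ?_⟩
      · have e : (u : G) • b = (v : G) • b := congrArg Subtype.val huv
        by_contra hne
        refine hab (hHfix ((v : G)⁻¹ * u) (H.mul_mem (H.inv_mem v.2) u.2) (fun h =>
          hne (Subtype.ext (inv_mul_eq_one.mp h).symm)) b ?_).symm
        rw [mul_smul, e, inv_smul_smul]
      · rw [Fintype.card_subtype_compl, Fintype.card_subtype_eq, ← Nat.card_eq_fintype_card]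
        omega
    obtain ⟨u, hu⟩ := hbij.2 ⟨(x : G) • b, fun e => hab (by
      have hxa : (x : G) • a = a := x.2
      exact MulAction.injective (x : G) (hxa.trans e.symm))⟩
    have hub : (u : G) • b = (x : G) • b := congrArg Subtype.val hu
    have hd : (u : G)⁻¹ * x ∈ D := ⟨A.mul_mem (A.inv_mem (hHa u.2)) x.2,
      show ((u : G)⁻¹ * x) • b = b by rw [mul_smul, inv_smul_eq_iff, hub]⟩
    have h2 : l ⟨(u : G)⁻¹ * x, hd.1⟩ = 1 := DFunLike.congr_fun h1 ⟨_, hd⟩
    have h3 := hμH ⟨u, hHa u.2⟩ u.2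
    rw [show x = ⟨u, hHa u.2⟩ * ⟨(u : G)⁻¹ * x, hd.1⟩ from Subtype.ext (by simp)]
    show ((l _ : ℂˣ) : ℂ) = 1
    rw [map_mul, h2, mul_one]
    exact h3
  have hcl : ∀ k : G, k ∈ A → ∀ y : G,
      extendByZero A (fun g => (l g : ℂ)) (k * y * k⁻¹) = extendByZero A (fun g => (l g : ℂ)) y := by
    intro k hk y
    by_cases hy : y ∈ A
    · have h1 : k * y * k⁻¹ ∈ A := A.mul_mem (A.mul_mem hk hy) (A.inv_mem hk)
      rw [extendByZero_of_mem _ _ h1, extendByZero_of_mem _ _ hy,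
        show (⟨_, h1⟩ : A) = ⟨k, hk⟩ * ⟨y, hy⟩ * ⟨k, hk⟩⁻¹ from rfl, map_mul, map_mul, map_inv,
        mul_comm (l ⟨k, hk⟩), mul_inv_cancel_right]
    · rw [extendByZero_of_notMem _ _ hy, extendByZero_of_notMem _ _ fun h1 => hy ?_]
      have h2 := A.mul_mem (A.mul_mem (A.inv_mem hk) h1) hk
      rwa [show k⁻¹ * (k * y * k⁻¹) * k = y by group] at h2
  have hunit : ∀ g : A, (l g : ℂ) * starRingEnd ℂ (l g : ℂ) = 1 := by
    intro g
    have h1 : ‖(l g : ℂ)‖ = 1 := norm_eq_one_of_pow_orderOf (g := g) (by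
      rw [← Units.val_pow_eq_pow_val, ← map_pow, pow_orderOf_eq_one, map_one, Units.val_one])
    rw [Complex.mul_conj, Complex.normSq_eq_norm_sq, h1]; simp
  haveI := Fintype.ofFinite A
  let T : G → ℂ := fun x =>
    ∑ g : A, (l g : ℂ) * starRingEnd ℂ (extendByZero A (fun g => (l g : ℂ)) (x⁻¹ * g * x))
  have hTA : ∀ x : G, x ∈ A → T x = Nat.card A := by
    intro x hx
    show ∑ g : A, _ = _
    rw [Finset.sum_congr rfl (g := fun _ => (1 : ℂ)) fun g _ => ?_, Finset.sum_const, nsmul_eq_mul,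
      mul_one, Finset.card_univ, Nat.card_eq_fintype_card]
    have h1 := hcl x⁻¹ (A.inv_mem hx) (g : G)
    rw [inv_inv] at h1
    rw [h1, extendByZero_coe, hunit]
  have hTs : T s = 0 := by
    show ∑ g : A, _ = _
    haveI := Fintype.ofFinite D
    rw [← Finset.sum_subset (Finset.subset_univ (Finset.univ.filter fun g : A => (g : G) ∈ D))
      fun g _ hg => ?_]
    · rw [← Finset.sum_bij' (s := (Finset.univ : Finset D)) (t := Finset.univ.filter fun g : A => (g : G) ∈ D)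
        (f := fun d => (χ d : ℂ)) (fun d _ => ⟨d, d.2.1⟩)
        (fun g hg => ⟨g, (Finset.mem_filter.mp hg).2⟩) (fun d _ => Finset.mem_filter.mpr ⟨Finset.mem_univ _, d.2⟩)
        (fun _ _ => Finset.mem_univ _) (fun _ _ => rfl) (fun _ _ => rfl) fun d _ => ?_]
      · obtain ⟨d₀, hd₀⟩ : ∃ d₀, χ d₀ ≠ 1 := by
          by_contra hh
          push Not at hh
          exact hχ (MonoidHom.ext hh)
        have h1 : (χ d₀ : ℂ) * ∑ d : D, (χ d : ℂ) = ∑ d : D, (χ d : ℂ) := by
          rw [Finset.mul_sum]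
          exact Fintype.sum_equiv (Equiv.mulLeft d₀) _ _ fun d => by
            rw [Equiv.coe_mulLeft, map_mul, Units.val_mul]
        by_contra hS
        exact hd₀ (Units.ext (mul_right_cancel₀ hS (h1.trans (one_mul _).symm)))
      · show ((l _ / l _ : ℂˣ) : ℂ) = _
        have h2 := hunit ⟨s * (d : G) * s⁻¹, (hsD d).1⟩
        rw [show s⁻¹ * ((⟨(d : G), d.2.1⟩ : A) : G) * s = s * (d : G) * s⁻¹ by rw [hsi],
          extendByZero_of_mem _ _ (hsD d).1, Units.val_div_eq_div_val, div_eq_iff (Units.ne_zero _),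
          mul_assoc, mul_comm (starRingEnd ℂ _), h2, mul_one]
    · rw [extendByZero_of_notMem _ _ (fun h1 => hg ?_), map_zero, mul_zero]
      refine Finset.mem_filter.mpr ⟨Finset.mem_univ _, g.2, ?_⟩
      have h2 : (s⁻¹ * (g : G) * s) • a = a := h1
      rw [mul_smul, mul_smul, hsa, inv_smul_eq_iff, hsa] at h2
      exact h2
  have hT0 : ∀ x : G, x ∉ A → T x = 0 := by
    intro x hx
    obtain ⟨k, hka, hkb⟩ := MulAction.is_two_pretransitive_iff.1 hZ.2.1 hab (Ne.symm hx)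
    have hk : k ∈ A := hka
    have hy : s⁻¹ * (k⁻¹ * x) ∈ A := by
      show (s⁻¹ * (k⁻¹ * x)) • a = a
      rw [mul_smul, mul_smul, inv_smul_eq_iff, inv_smul_eq_iff, hsa, hkb]
    rw [← hTs]
    refine Fintype.sum_equiv (MulAut.conj (⟨k, hk⟩ : A)⁻¹).toEquiv _ _ fun g => ?_
    set g' : A := (MulAut.conj (⟨k, hk⟩ : A)⁻¹).toEquiv g with hg'
    have hg'' : g' = (⟨k, hk⟩ : A)⁻¹ * g * (⟨k, hk⟩ : A) := by
      rw [hg']; simp
    have h1 : (l g' : ℂˣ) = l g := by
      rw [hg'', map_mul, map_mul, map_inv, mul_comm _ (l g), inv_mul_cancel_right]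
    have h2 : (g' : G) = k⁻¹ * g * k := by rw [hg'']; simp
    have h3 : x⁻¹ * (g : G) * x =
        (s⁻¹ * (k⁻¹ * x))⁻¹ * (s⁻¹ * (k⁻¹ * g * k) * s) * ((s⁻¹ * (k⁻¹ * x))⁻¹)⁻¹ := by group
    rw [h1, h2, h3, hcl _ (A.inv_mem hy)]
  refine ⟨isIrrCharacter_of_norm_one (isCharacter_indFun A hμ.1) ?_, fun u hu hu1 => ?_⟩
  · show classInner (indFun A fun g => (l g : ℂ)) (indFun A fun g => (l g : ℂ)) = 1
    rw [classInner_indFun A _ (isClassFunction_indFun A _)]
    simp only [classInner, indFun, map_mul, map_sum, map_inv₀, map_natCast]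
    rw [show ∑ g : A, (l g : ℂ) * ((Nat.card A : ℂ)⁻¹ * ∑ x : G,
          starRingEnd ℂ (extendByZero A (fun g => (l g : ℂ)) (x⁻¹ * g * x))) =
        (Nat.card A : ℂ)⁻¹ * ∑ x : G, T x from ?_]
    · rw [← Finset.sum_subset (Finset.subset_univ (Finset.univ.filter fun x : G => x ∈ A))
        fun x _ hx => hT0 x (by simpa using hx),
        Finset.sum_congr rfl fun x hx => hTA x (Finset.mem_filter.mp hx).2, Finset.sum_const,
        nsmul_eq_mul, ← Fintype.card_subtype, ← Nat.card_eq_fintype_card]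
      have := card_cast_ne_zero (G := A)
      field_simp
    · simp only [T]
      rw [Finset.sum_comm, Finset.mul_sum]
      refine Finset.sum_congr rfl fun g _ => ?_
      rw [← Finset.mul_sum]
      ring
  · show (Nat.card A : ℂ)⁻¹ * ∑ x : G, extendByZero A (fun g => (l g : ℂ)) (x⁻¹ * u * x) = 1
    rw [← Finset.sum_subset (Finset.subset_univ (Finset.univ.filter fun x : G => x ∈ A))
      fun x _ hx => ?_, Finset.sum_congr rfl (g := fun _ => (1 : ℂ)) fun x hx => ?_, Finset.sum_const,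
      nsmul_eq_mul, mul_one, ← Fintype.card_subtype, ← Nat.card_eq_fintype_card,
      inv_mul_cancel₀ (card_cast_ne_zero (G := A))]
    · have hxA : x ∈ A := (Finset.mem_filter.mp hx).2
      have h1 := hnorm x⁻¹ (A.inv_mem hxA) u hu
      rw [inv_inv] at h1
      rw [extendByZero_of_mem _ _ (hHa h1)]
      exact hμH ⟨_, hHa h1⟩ h1
    · refine extendByZero_of_notMem _ _ fun h1 => hx (Finset.mem_filter.mpr ⟨Finset.mem_univ _, ?_⟩)
      have h2 : (x⁻¹ * u * x) • a = a := h1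
      rw [mul_smul, mul_smul, inv_smul_eq_iff] at h2
      exact hHfix u hu hu1 (x • a) h2

end Cfsg.Agent.S0881
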