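import Cfsg.Statements.S0883
import Cfsg.Agent.Lib.Char.ZassenhausOdd
import Cfsg.Agent.Lib.Solv.Nilpotent


set_option autoImplicit false
set_option linter.style.haveILetI false
open Cfsg Cfsg.Lib.Char

namespace Cfsg.Agent.S0883

theorem result {G Ω : Type*} [Group G] [Finite G] [MulAction G Ω] [Fintype Ω] (hZ : Cfsg.IsZassenhausGroup G Ω) {a b : Ω} (hab : a ≠ b) [IsSimpleGroup G] (h e : ℕ) (hh : Fintype.card Ω = h + 1) (he : Nat.card ↥(MulAction.stabilizer G a ⊓ MulAction.stabilizer G b : Subgroup G) = e) (hodd : Odd e) (hlt : 2 * e < h - 1) (H : Subgroup G) (hHa : H ≤ MulAction.stabilizer G a) (hHcard : Nat.card H + 1 = Fintype.card Ω) (hHfix : ∀ u ∈ H, u ≠ 1 → ∀ c : Ω, u • c = c → c = a) (u : G) (hu : u ∈ H) (hu1 : u ≠ 1) (x y : G) (hx : orderOf x = 2) (hy : orderOf y = 2) (hxy : x * y = u) : orderOf u = 2 := by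
  classical
  haveI := Fintype.ofFinite G
  subst he
  have hxx : x * x = 1 := by rw [← pow_two, ← hx, pow_orderOf_eq_one]
  have hxi : x⁻¹ = x := inv_eq_of_mul_eq_one_right hxx
  have hyy : y * y = 1 := by rw [← pow_two, ← hy, pow_orderOf_eq_one]
  -- `x` fixes `a`
  have hxu : x * u * x⁻¹ = u⁻¹ := by
    rw [← hxy, mul_inv_rev, hxi, inv_eq_of_mul_eq_one_right hyy, ← mul_assoc, hxx, one_mul]
  have hua : u • a = a := hHa hu
  have hxa : x • a = a := by
    refine hHfix u hu hu1 (x • a) ?_
    have h1 : (x * u * x⁻¹) • (x • a) = x • a := by rw [mul_smul, mul_smul, inv_smul_smul, hua]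
    rw [hxu, inv_smul_eq_iff] at h1
    exact h1.symm
  have hya : y • a = a := by
    have : y = x⁻¹ * u := by rw [← hxy]; group
    rw [this, mul_smul, hua, hxi, hxa]
  have hone : ∀ t : G, orderOf t = 2 → t • a = a → t ∈ H := fun t ht hta =>
    zas_mem_kernel hZ a H hHa hHcard hHfix hta fun c hc => zas_invol_fix hZ hab hodd ht hc hta
  have hxH := hone x hx hxa
  have hyH := hone y hy hya
  -- a central involution of `H`
  obtain ⟨N, hNn, hNnil, hc, hN1, hfix⟩ := zas_exists_kernel hZ hab
  let A : Subgroup G := MulAction.stabilizer G a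
  have hNH : N.map A.subtype = H := by
    refine Subgroup.eq_of_le_of_card_ge ?_ ?_
    · rintro _ ⟨z, hz, rfl⟩
      by_cases hz1 : z = 1
      · rw [hz1]; exact H.one_mem
      · exact zas_mem_kernel hZ a H hHa hHcard hHfix z.2 (hfix z hz hz1)
    · rw [Nat.card_congr (N.equivMapOfInjective _ A.subtype_injective).toEquiv.symm]
      have h1 := hc.card_mul
      rw [Nat.card_congr (Subgroup.subgroupOfEquivOfLe (inf_le_left (a := A)
        (b := MulAction.stabilizer G b))).toEquiv, (zas_card_group hZ hab).1] at h1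
      have h2 := Nat.card_pos (α := ↥(MulAction.stabilizer G a ⊓ MulAction.stabilizer G b : Subgroup G))
      rw [Nat.eq_of_mul_eq_mul_right h2 h1]
      omega
  haveI : Group.IsNilpotent H := by
    haveI := hNnil
    exact Group.nilpotent_of_mulEquiv ((N.equivMapOfInjective _ A.subtype_injective).trans
      (MulEquiv.subgroupCongr hNH))
  have h2H : 2 ∣ Nat.card H := hx ▸ Subgroup.orderOf_dvd_natCard _ hxH
  obtain ⟨z, hz2, hzH, hzc⟩ : ∃ z : G, orderOf z = 2 ∧ z ∈ H ∧ ∀ w ∈ H, z * w = w * z := by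
    haveI := Fact.mk Nat.prime_two
    have h2Z : 2 ∣ Nat.card (Subgroup.center H) := by
      let P : Sylow 2 H := default
      have hP : (P : Subgroup H) ≠ ⊥ := P.ne_bot_of_dvd_card h2H
      haveI : (P : Subgroup H).Normal := Sylow.normal_of_normalizerCondition
        Group.normalizerCondition_of_isNilpotent P
      have hne := Cfsg.Lib.Solv.inf_center_ne_bot_of_isNilpotent hP
      obtain ⟨n, hn⟩ := (P.2.to_le (inf_le_left : (P : Subgroup H) ⊓ Subgroup.center H ≤ P)).exists_card_eq
      refine Dvd.dvd.trans ?_ (Subgroup.card_dvd_of_le (inf_le_right : (P : Subgroup H) ⊓ Subgroup.center H ≤ _))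
      rw [hn]
      refine dvd_pow_self 2 fun h0 => hne ?_
      rw [h0, pow_zero] at hn
      exact Subgroup.card_eq_one.mp hn
    obtain ⟨z, hz⟩ := exists_prime_orderOf_dvd_card' 2 h2Z
    refine ⟨((z : H) : G), by rw [Subgroup.orderOf_coe, Subgroup.orderOf_coe, hz], (z : H).2,
      fun w hw => ?_⟩
    exact congrArg Subtype.val (Subgroup.mem_center_iff.mp z.2 ⟨w, hw⟩).symm
  -- every involution at `a` is conjugate to `z` by an element of the two-point stabilizer
  let D : Subgroup G := MulAction.stabilizer G a ⊓ MulAction.stabilizer G b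
  have hnorm : ∀ d : G, d • a = a → ∀ w ∈ H, d * w * d⁻¹ ∈ H := fun d hd w hw =>
    ((Subgroup.mem_normalizer_iff.mp
      ((Cfsg.Agent.S0878.result hZ a H hHa hHcard hHfix).2.symm ▸ (hd : d ∈ A) :
        d ∈ Subgroup.normalizer (H : Set G))) w).mp hw
  have hsub : Finset.image (fun d : D => (d : G) * z * (d : G)⁻¹) Finset.univ =
      Finset.univ.filter fun t : G => orderOf t = 2 ∧ t • a = a := by
    refine Finset.eq_of_subset_of_card_le ?_ ?_
    · intro t ht
      obtain ⟨d, -, rfl⟩ := Finset.mem_image.mp ht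
      refine Finset.mem_filter.mpr ⟨Finset.mem_univ _, ?_, hHa (hnorm d d.2.1 z hzH)⟩
      rw [← MulAut.conj_apply, MulEquiv.orderOf_eq, hz2]
    · rw [Finset.card_image_of_injective _ ?_, Finset.card_univ, ← Nat.card_eq_fintype_card]
      · exact zas_invol_at hZ hab hodd hh rfl a
      intro d d' hdd
      by_contra hne
      have hcom : ((d'⁻¹ * d : D) : G) * z = z * ((d'⁻¹ * d : D) : G) := by
        simp only at hdd
        rw [mul_inv_eq_iff_eq_mul] at hdd
        simp only [Subgroup.coe_mul, Subgroup.coe_inv]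
        rw [mul_assoc, hdd]; group
      set w : D := d'⁻¹ * d with hw
      have hwb : (w : G) • b = b := w.2.2
      have hza : z • a = a := hHa hzH
      have h1 : (w : G) • (z • b) = z • b := by rw [← mul_smul, hcom, mul_smul, hwb]
      have hz1 : z ≠ 1 := fun e => by rw [e, orderOf_one] at hz2; omega
      have hne1 : z • b ≠ a := fun e => hab (MulAction.injective z (hza.trans e.symm))
      have hne2 : z • b ≠ b := fun e => hab (hHfix z hzH hz1 b e).symm
      refine hne (inv_mul_eq_one.mp ((Subtype.ext ?_ : w = 1))).symm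
      exact hZ.2.2.1 (w : G) a b (z • b) hab hne2.symm hne1.symm w.2.1 hwb h1
  have hcen : ∀ t : G, orderOf t = 2 → t • a = a → ∀ w ∈ H, t * w = w * t := by
    intro t ht hta w hw
    have : t ∈ Finset.univ.filter fun t : G => orderOf t = 2 ∧ t • a = a :=
      Finset.mem_filter.mpr ⟨Finset.mem_univ _, ht, hta⟩
    rw [← hsub, Finset.mem_image] at this
    obtain ⟨d, -, rfl⟩ := this
    have hda : (d : G)⁻¹ • a = a := by rw [inv_smul_eq_iff]; exact d.2.1.symm
    have h1 := hzc _ (hnorm _ hda w hw)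
    calc (d : G) * z * (d : G)⁻¹ * w = (d : G) * (z * ((d : G)⁻¹ * w * ((d : G)⁻¹)⁻¹)) * (d : G)⁻¹ := by
          group
      _ = w * ((d : G) * z * (d : G)⁻¹) := by rw [h1]; group
  have hxy' : x * y = y * x := hcen x hx hxa y hyH
  refine orderOf_eq_prime ?_ hu1
  rw [← hxy, pow_two, mul_assoc, ← mul_assoc y, ← hxy', mul_assoc, hyy, mul_one, hxx]

end Cfsg.Agent.S0883
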