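import Cfsg.Statements.S0170
import Cfsg.Agent.Lib.Char.SignedIrr
import Cfsg.Agent.Lib.Char.TI

set_option autoImplicit false
open Cfsg Cfsg.Lib.Char
open scoped ComplexConjugate

namespace Cfsg.Agent.S0170

/-- Exceptional characters. Let S be a subset of a finite group contained in its normalizer N and meeting its conjugates by elements outside N only in the identity. Given n ≥ 2 distinct irreducible characters of N of equal degree that vanish on N away from S, there exist a sign ε and n distinct irreducible characters θ_i of G such that inducing χ_i − χ_j to G gives ε (θ_i − θ_j) for all i, j. -/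
theorem result {G : Type*} [Group G] [Fintype G] (S : Set G) (hSN : S ⊆ Subgroup.normalizer S) (hTI : ∀ g : G, g ∉ Subgroup.normalizer S → ∀ s ∈ S, g * s * g⁻¹ ∈ S → s = 1) (n : ℕ) (hn : 2 ≤ n) (χ : Fin n → (Subgroup.normalizer S → ℂ)) (hirr : ∀ i, Cfsg.IsIrrCharacter (Subgroup.normalizer S) (χ i)) (hinj : Function.Injective χ) (hvan : ∀ i, ∀ x : Subgroup.normalizer S, (x : G) ∉ S → χ i x = 0) (hdeg : ∀ i j, χ i 1 = χ j 1) : ∃ ε : ℂ, (ε = 1 ∨ ε = -1) ∧ ∃ θ : Fin n → (G → ℂ), (∀ i, Cfsg.IsIrrCharacter G (θ i)) ∧ Function.Injective θ ∧ ∀ i j, Cfsg.indFun (Subgroup.normalizer S) (χ i) - Cfsg.indFun (Subgroup.normalizer S) (χ j) = ε • (θ i - θ j) := by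
  have : Fintype (Subgroup.normalizer S) := Fintype.ofFinite _
  let i₀ : Fin n := ⟨0, by omega⟩
  set τ : Fin n → G → ℂ := fun i => indFun (Subgroup.normalizer S) (χ i - χ i₀) with hτ
  have hcf : ∀ i, IsClassFunction (Subgroup.normalizer S) (χ i - χ i₀) := fun i =>
    ((hirr i).isGeneralized.sub (hirr i₀).isGeneralized).isClassFunction
  have hT : ∀ i, ∀ x : (Subgroup.normalizer S), (x : G) ∉ S → (χ i - χ i₀) x = 0 := fun i x hx => by
    simp [hvan i x hx, hvan i₀ x hx]
  have hip : ∀ i j, classInner (τ i) (τ j) = classInner (χ i - χ i₀) (χ j - χ i₀) := fun i j =>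
    classInner_indFun_TI (Subgroup.normalizer S) S (fun g hg s hs hs1 hgs => hs1 (hTI g hg s hs hgs)) (hcf j) (hT i)
      (hT j) (by simp [hdeg i i₀])
  obtain ⟨ε, hε, μ, hμ, hμinj, hμτ⟩ := exists_exceptional_irr i₀ τ
    (by simp only [hτ, indFun_sub, sub_self])
    (fun i => isGeneralizedCharacter_indFun (Subgroup.normalizer S) ((hirr i).isGeneralized.sub (hirr i₀).isGeneralized))
    (fun i => by simp [hτ, indFun_apply_one, hdeg i i₀])
    (fun i hi => by
      rw [hip, classInner_sub_left, classInner_sub_right, classInner_sub_right,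
        classInner_irr_self (hirr i), classInner_irr_self (hirr i₀),
        classInner_irr_ne (hirr i) (hirr i₀) (fun h => hi (hinj h)),
        classInner_irr_ne (hirr i₀) (hirr i) (fun h => hi (hinj h).symm)]
      ring)
    (fun i j hi hj hij => by
      rw [hip, classInner_sub_left, classInner_sub_right, classInner_sub_right,
        classInner_irr_ne (hirr i) (hirr j) (fun h => hij (hinj h)),
        classInner_irr_self (hirr i₀),
        classInner_irr_ne (hirr i) (hirr i₀) (fun h => hi (hinj h)),
        classInner_irr_ne (hirr i₀) (hirr j) (fun h => hj (hinj h).symm)]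
      ring)
  refine ⟨ε, hε, μ, hμ, hμinj, fun i j => ?_⟩
  have e : indFun (Subgroup.normalizer S) (χ i) - indFun (Subgroup.normalizer S) (χ j) = τ i - τ j := by
    simp only [hτ, indFun_sub]
    abel
  rw [e, hμτ i, hμτ j, ← smul_sub, sub_sub_sub_cancel_right]

end Cfsg.Agent.S0170
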