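import Cfsg.Statements.S0851
import Cfsg.Agent.Lib.Char.TIExceptional
import Cfsg.Agent.S0170

set_option autoImplicit false
set_option linter.style.haveILetI false
open Cfsg Cfsg.Lib.Char

namespace Cfsg.Agent.S0851

theorem result {G : Type*} [Group G] [Fintype G] (K : Subgroup G) (hTI : ∀ g : G, g ∉ Subgroup.normalizer (K : Set G) → ∀ k ∈ K, g * k * g⁻¹ ∈ K → k = 1) (hlt : K < Subgroup.normalizer (K : Set G)) (hC : ∀ k ∈ K, k ≠ 1 → Subgroup.centralizer ({k} : Set G) ≤ K) (hab : ∀ a ∈ K, ∀ b ∈ K, a * b = b * a) : (Nat.card {χ : Cfsg.IrrCharacter (Subgroup.normalizer (K : Set G)) // ∃ k : Subgroup.normalizer (K : Set G), (k : G) ∈ K ∧ (χ : ↥(Subgroup.normalizer (K : Set G)) → ℂ) k ≠ (χ : ↥(Subgroup.normalizer (K : Set G)) → ℂ) 1} = 1 ∧ ∃ p : ℕ, p.Prime ∧ Cfsg.IsElementaryAbelian p K ∧ Nat.card K = (K.subgroupOf (Subgroup.normalizer (K : Set G))).index + 1) ∨ ∃ (ε : ℂ) (f : {χ : Cfsg.IrrCharacter (Subgroup.normalizer (K : Set G)) // ∃ k : Subgroup.normalizer (K : Set G), (k : G) ∈ K ∧ (χ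 : ↥(Subgroup.normalizer (K : Set G)) → ℂ) k ≠ (χ : ↥(Subgroup.normalizer (K : Set G)) → ℂ) 1} → Cfsg.IrrCharacter G), (ε = 1 ∨ ε = -1) ∧ Function.Injective f ∧ ∀ χ ξ, Cfsg.indFun (Subgroup.normalizer (K : Set G)) ((χ.1 : ↥(Subgroup.normalizer (K : Set G)) → ℂ) - (ξ.1 : ↥(Subgroup.normalizer (K : Set G)) → ℂ)) = ε • ((f χ : G → ℂ) - (f ξ : G → ℂ)) := by
  classical
  let NK := Subgroup.normalizer (K : Set G)
  haveI : (K.subgroupOf (Subgroup.normalizer (K : Set G))).Normal := Subgroup.normal_in_normalizer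
  haveI := Fintype.ofFinite (Subgroup.normalizer (K : Set G))
  have hCN := subgroupOf_normalizer_frob hlt hC
  set X := {χ : Cfsg.IrrCharacter (Subgroup.normalizer (K : Set G)) // ∃ k : Subgroup.normalizer (K : Set G), (k : G) ∈ K ∧ (χ : ↥(Subgroup.normalizer (K : Set G)) → ℂ) k ≠ (χ : ↥(Subgroup.normalizer (K : Set G)) → ℂ) 1} with hX
  haveI : Finite X := Subtype.finite
  haveI := Fintype.ofFinite X
  have habN : ∀ a b : K.subgroupOf (Subgroup.normalizer (K : Set G)), a * b = b * a := fun a b =>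
    Subtype.ext (Subtype.ext (hab _ a.2 _ b.2))
  have hdeg : ∀ x : X, (x.1 : ↥(Subgroup.normalizer (K : Set G)) → ℂ) 1 =
      ((K.subgroupOf (Subgroup.normalizer (K : Set G))).index : ℂ) := by
    intro x
    obtain ⟨k, hk, hk'⟩ := x.2
    obtain ⟨φ, hφ, he⟩ := Cfsg.Agent.S1528.result _ hCN _ x.1.2 ⟨k, hk, hk'⟩
    haveI := Fintype.ofFinite (K.subgroupOf (Subgroup.normalizer (K : Set G)))
    rw [he, indFun_apply_one, degree_eq_one_of_comm habN hφ, mul_one]
  have hoff : ∀ x : X, ∀ y : Subgroup.normalizer (K : Set G), (y : G) ∉ K →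
      (x.1 : ↥(Subgroup.normalizer (K : Set G)) → ℂ) y = 0 := by
    intro x y hy
    obtain ⟨k, hk, hk'⟩ := x.2
    exact (frobKernel_degree hCN x.1.2 ⟨k, hk, hk'⟩).2 y hy
  rcases Nat.lt_trichotomy (Fintype.card X) 1 with h | h | h
  · haveI : IsEmpty X := Fintype.card_eq_zero_iff.mp (by omega)
    exact Or.inr ⟨1, isEmptyElim, Or.inl rfl, fun a => isEmptyElim a, fun a => isEmptyElim a⟩
  · left
    refine ⟨by rw [← hX, Nat.card_eq_fintype_card, h], ?_⟩
    set KN := K.subgroupOf (Subgroup.normalizer (K : Set G)) with hKN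
    have hsum := sum_nontrivialOn KN KN.one_mem
    rw [if_pos rfl] at hsum
    have hfilter : (Finset.univ.filter fun η : IrrCharacter (Subgroup.normalizer (K : Set G)) =>
        ¬ ∀ k ∈ KN, (η : ↥(Subgroup.normalizer (K : Set G)) → ℂ) k =
          (η : ↥(Subgroup.normalizer (K : Set G)) → ℂ) 1).card = 1 := by
      rw [← Fintype.card_subtype, ← h]
      refine Fintype.card_congr (Equiv.subtypeEquivRight fun η => ?_)
      push Not
      rfl
    obtain ⟨η, hη⟩ := Finset.card_eq_one.mp hfilter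
    rw [hη, Finset.sum_singleton] at hsum
    have hηn := (Finset.mem_filter.mp (hη.symm ▸ Finset.mem_singleton_self η :
      η ∈ Finset.univ.filter fun η : IrrCharacter (Subgroup.normalizer (K : Set G)) =>
        ¬ ∀ k ∈ KN, (η : ↥(Subgroup.normalizer (K : Set G)) → ℂ) k =
          (η : ↥(Subgroup.normalizer (K : Set G)) → ℂ) 1)).2
    push Not at hηn
    rw [hdeg ⟨η, hηn⟩, ← KN.card_mul_index] at hsum
    have hs0 : KN.index ≠ 0 := Subgroup.index_ne_zero_of_finite
    have hKcard : Nat.card K = KN.index + 1 := by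
      have h1 : KN.index * KN.index + KN.index = Nat.card KN * KN.index := by
        have : ((KN.index * KN.index + KN.index : ℕ) : ℂ) = ((Nat.card KN * KN.index : ℕ) : ℂ) := by
          push_cast at hsum ⊢; linear_combination hsum
        exact_mod_cast this
      rw [show KN.index * KN.index + KN.index = (KN.index + 1) * KN.index by ring,
        Nat.card_congr (Subgroup.subgroupOfEquivOfLe hlt.le).toEquiv] at h1
      exact (Nat.eq_of_mul_eq_mul_right (Nat.pos_of_ne_zero hs0) h1).symm
    -- every nontrivial element of `K` is conjugate to a fixed one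
    haveI : Nontrivial K := (Subgroup.nontrivial_iff_ne_bot K).mpr fun hb => by
      have h1 : Nat.card K = 1 := Subgroup.card_eq_one.mpr hb
      omega
    obtain ⟨z, hz⟩ := exists_ne (1 : K)
    obtain ⟨p, hp, hpd⟩ := Nat.exists_prime_and_dvd (show orderOf z ≠ 1 by
      rwa [Ne, orderOf_eq_one_iff])
    haveI := Fact.mk hp
    obtain ⟨w, hw⟩ := exists_prime_orderOf_dvd_card' (G := K) p (hpd.trans (orderOf_dvd_natCard z))
    let w' : Subgroup.normalizer (K : Set G) := ⟨w, hlt.le w.2⟩
    have hw1 : w' ≠ 1 := fun e => by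
      have : (w : G) = 1 := congrArg Subtype.val e
      rw [← Subgroup.orderOf_coe, this, orderOf_one] at hw
      exact hp.one_lt.ne hw
    have hcent : Nat.card (Subgroup.centralizer ({w'} : Set ↥(Subgroup.normalizer (K : Set G)))) ≤
        Nat.card KN := Subgroup.card_le_of_le (hCN w' (show w' ∈ KN from w.2) hw1)
    set Cl := (Finset.univ.filter fun y => IsConj w' y) with hCl
    set Ksh := (Finset.univ.filter fun y : ↥(Subgroup.normalizer (K : Set G)) => y ∈ KN ∧ y ≠ 1) with hKsh
    have hsub : Cl ⊆ Ksh := by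
      intro y hy
      obtain ⟨c, hc⟩ := isConj_iff.mp (Finset.mem_filter.mp hy).2
      refine Finset.mem_filter.mpr ⟨Finset.mem_univ _, ?_, ?_⟩
      · rw [← hc]; exact (inferInstance : KN.Normal).conj_mem _ (show w' ∈ KN from w.2) _
      · rintro rfl
        exact hw1 (by simpa [mul_inv_eq_one] using hc)
    have hclcard : Cl.card * Nat.card (Subgroup.centralizer ({w'} : Set ↥(Subgroup.normalizer (K : Set G)))) =
        Nat.card ↥(Subgroup.normalizer (K : Set G)) := by
      have h := card_classFinset w'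
      have e : classFinset w' = Cl := by ext y; simp [hCl, mem_classFinset]
      rw [e] at h
      rw [h, mul_comm, Subgroup.card_mul_index]
    have hKsh : Ksh.card + 1 = Nat.card KN := by
      have e : Finset.univ.filter (fun y : ↥(Subgroup.normalizer (K : Set G)) => y ∈ KN) =
          insert 1 Ksh := by
        ext y
        simp only [hKsh, Finset.mem_filter, Finset.mem_univ, true_and, Finset.mem_insert]
        constructor
        · intro hy; by_cases h1 : y = 1 <;> tauto
        · rintro (rfl | ⟨hy, -⟩)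
          · exact KN.one_mem
          · exact hy
      rw [Nat.card_eq_fintype_card, Fintype.card_subtype, e, Finset.card_insert_of_notMem (by simp [hKsh])]
    have heq : Cl = Ksh := by
      refine Finset.eq_of_subset_of_card_le hsub ?_
      have hK' : Nat.card KN = Nat.card K := Nat.card_congr (Subgroup.subgroupOfEquivOfLe hlt.le).toEquiv
      have h1 : Nat.card KN * KN.index ≤ Cl.card * Nat.card KN := by
        rw [KN.card_mul_index, ← hclcard]
        exact Nat.mul_le_mul_left _ hcent
      rw [mul_comm] at h1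
      have := Nat.le_of_mul_le_mul_right h1 Nat.card_pos
      omega
    refine ⟨p, hp, ⟨⟨⟨fun a b => Subtype.ext (hab _ a.2 _ b.2)⟩⟩, fun a ha => ?_⟩, hKcard⟩
    by_cases ha1 : a = 1
    · rw [ha1, one_pow]
    · have hmem : (⟨a, hlt.le ha⟩ : ↥(Subgroup.normalizer (K : Set G))) ∈ Cl := by
        rw [heq]
        exact Finset.mem_filter.mpr ⟨Finset.mem_univ _, ha, fun e => ha1 (congrArg Subtype.val e)⟩
      obtain ⟨c, hc⟩ := isConj_iff.mp (Finset.mem_filter.mp hmem).2
      have hc' : (c : G) * w * (c : G)⁻¹ = a := congrArg Subtype.val hc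
      rw [← hc', conj_pow, ← SubgroupClass.coe_pow, ← hw, pow_orderOf_eq_one, OneMemClass.coe_one,
        mul_one, mul_inv_cancel]
  · right
    let e := Fintype.equivFin X
    obtain ⟨ε, hε, θ, hθ, hθinj, hθeq⟩ := Cfsg.Agent.S0170.result (K : Set G)
      (fun x hx => hlt.le hx) hTI (Fintype.card X) (by omega)
      (fun i => ((e.symm i).1 : ↥(Subgroup.normalizer (K : Set G)) → ℂ)) (fun i => (e.symm i).1.2)
      (fun i j hij => e.symm.injective (Subtype.ext (Subtype.ext hij)))
      (fun i y hy => hoff (e.symm i) y hy) (fun i j => (hdeg _).trans (hdeg _).symm)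
    refine ⟨ε, fun x => ⟨θ (e x), hθ _⟩, hε, fun x y hxy => e.injective (hθinj (congrArg Subtype.val hxy)),
      fun x y => ?_⟩
    have := hθeq (e x) (e y)
    simp only [Equiv.symm_apply_apply] at this
    rw [indFun_sub]
    exact this

end Cfsg.Agent.S0851
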