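import Cfsg.Statements.S0884
import Cfsg.Agent.Lib.Char.ZassenhausOdd


set_option autoImplicit false
set_option linter.style.haveILetI false
open Cfsg Cfsg.Lib.Char

namespace Cfsg.Agent.S0884

set_option maxHeartbeats 1000000 in
theorem result {G Ω : Type*} [Group G] [Finite G] [MulAction G Ω] [Fintype Ω] (hZ : Cfsg.IsZassenhausGroup G Ω) {a b : Ω} (hab : a ≠ b) [IsSimpleGroup G] (h e : ℕ) (hh : Fintype.card Ω = h + 1) (he : Nat.card ↥(MulAction.stabilizer G a ⊓ MulAction.stabilizer G b : Subgroup G) = e) (hodd : Odd e) (hlt : 2 * e < h - 1) (H : Subgroup G) (hHa : H ≤ MulAction.stabilizer G a) (hHcard : Nat.card H + 1 = Fintype.card Ω) (hHfix : ∀ u ∈ H, u ≠ 1 → ∀ c : Ω, u • c = c → c = a) : e ≤ Nat.card {C : ConjClasses G // ∀ g : G, ConjClasses.mk g = C → g ∉ H} := by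
  classical
  haveI := Fintype.ofFinite G
  subst he
  obtain ⟨c1, c2, c3⟩ := zas_counts hZ hab hh rfl
  obtain ⟨-, hG⟩ := zas_card_group hZ hab
  rw [hh, Nat.add_sub_cancel] at hG
  have he3 := zas_three_le_D hZ hab hodd
  set e := Nat.card ↥(MulAction.stabilizer G a ⊓ MulAction.stabilizer G b : Subgroup G) with hedef
  let I : Finset G := Finset.univ.filter fun t : G => orderOf t = 2
  let P : G → Finset G := fun x => Finset.univ.filter fun t : G => orderOf t = 2 ∧ orderOf (t * x) = 2
  let F : ℕ → Finset G := fun k => Finset.univ.filter fun g : G => g ≠ 1 ∧ zasFix Ω g = k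
  have hPinv : ∀ x t : G, t ∈ P x → t * x * t⁻¹ = x⁻¹ := by
    intro x t ht
    obtain ⟨-, ht, htx⟩ := Finset.mem_filter.mp ht
    have h1 : t * t = 1 := by rw [← pow_two, ← ht, pow_orderOf_eq_one]
    have h2 : t * x * (t * x) = 1 := by rw [← pow_two, ← htx, pow_orderOf_eq_one]
    rw [inv_eq_of_mul_eq_one_right h1]
    exact eq_inv_of_mul_eq_one_left (by rw [← h2]; group)
  -- an inverting element permutes the fixed points
  have hmove : ∀ x t : G, t * x * t⁻¹ = x⁻¹ → ∀ c : Ω, x • c = c → x • (t • c) = t • c := by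
    intro x t htx c hc
    have h1 : (t * x * t⁻¹) • (t • c) = t • c := by rw [mul_smul, mul_smul, inv_smul_smul, hc]
    rw [htx, inv_smul_eq_iff] at h1
    exact h1.symm
  -- total
  have htot : ∑ x : G, (P x).card = I.card * I.card := by
    simp only [P, I, Finset.card_filter]
    rw [Finset.sum_comm, Finset.sum_mul]
    refine Finset.sum_congr rfl fun t _ => ?_
    by_cases ht : orderOf t = 2
    · simp only [ht, true_and, if_true, one_mul]
      exact Fintype.sum_equiv (Equiv.mulLeft t) _ _ fun x => rfl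
    · simp [ht]
  have hone : (P 1).card = I.card := by
    congr 1
    ext t
    simp [P, I]
  -- two fixed points
  have htwo : ∑ x ∈ F 2, (P x).card ≤ (F 2).card * e := by
    refine le_trans (Finset.sum_le_card_nsmul _ _ e fun x hx => ?_) (by rw [smul_eq_mul])
    obtain ⟨-, hx1, hx2⟩ := Finset.mem_filter.mp hx
    obtain ⟨c, d, hcd, hfix⟩ := Finset.card_eq_two.mp hx2
    have hm : ∀ y, x • y = y ↔ y = c ∨ y = d := fun y => by
      have := congrArg (y ∈ ·) hfix
      simpa using this
    refine le_trans (Finset.card_le_card fun t ht => ?_) (zas_card_swap hZ hab hodd hcd).le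
    have h2 : orderOf t = 2 := (Finset.mem_filter.mp ht).2.1
    refine Finset.mem_filter.mpr ⟨Finset.mem_univ _, h2, ?_⟩
    rcases (hm _).mp (hmove x t (hPinv x t ht) c ((hm c).mpr (Or.inl rfl))) with h3 | h3
    · rcases (hm _).mp (hmove x t (hPinv x t ht) d ((hm d).mpr (Or.inr rfl))) with h4 | h4
      · exact absurd (MulAction.injective t (h3.trans h4.symm)) hcd
      · exact absurd (zas_invol_fix hZ hab hodd h2 h3 h4) hcd
    · exact h3
  -- one fixed point
  let Ic : Ω → Finset G := fun c => Finset.univ.filter fun t : G => orderOf t = 2 ∧ t • c = c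
  have hone' : ∑ x ∈ F 1, (P x).card ≤ ∑ c : Ω, (Ic c).offDiag.card := by
    rw [← Finset.card_sigma, ← Finset.card_sigma]
    haveI : Nonempty Ω := ⟨a⟩
    choose! f hf using fun x : G => fun hx : x ∈ F 1 => Finset.card_eq_one.mp (Finset.mem_filter.mp hx).2.2
    refine Finset.card_le_card_of_injOn (fun q => ⟨f q.1, (q.2, q.2 * q.1)⟩) ?_ ?_
    · rintro ⟨x, t⟩ hq
      obtain ⟨hx, ht⟩ := Finset.mem_sigma.mp hq
      obtain ⟨-, ht2, htx2⟩ := Finset.mem_filter.mp ht
      have hxc : x • f x = f x := by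
        have : f x ∈ Finset.univ.filter fun y : Ω => x • y = y := by
          rw [hf x hx]; exact Finset.mem_singleton_self _
        exact (Finset.mem_filter.mp this).2
      have htc : t • f x = f x := by
        have : t • f x ∈ Finset.univ.filter fun y : Ω => x • y = y :=
          Finset.mem_filter.mpr ⟨Finset.mem_univ _, hmove x t (hPinv x t ht) _ hxc⟩
        rw [hf x hx] at this
        exact Finset.mem_singleton.mp this
      refine Finset.mem_sigma.mpr ⟨Finset.mem_univ _, Finset.mem_offDiag.mpr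
        ⟨Finset.mem_filter.mpr ⟨Finset.mem_univ _, ht2, htc⟩, Finset.mem_filter.mpr
          ⟨Finset.mem_univ _, htx2, by rw [mul_smul, hxc, htc]⟩, fun h => ?_⟩⟩
      exact (Finset.mem_filter.mp hx).2.1 (mul_eq_left.mp h.symm)
    · rintro ⟨x, t⟩ - ⟨x', t'⟩ - hqq
      simp only [Sigma.mk.injEq, heq_eq_eq, Prod.mk.injEq] at hqq
      obtain ⟨-, rfl, h2⟩ := hqq
      rw [mul_left_cancel h2]
  -- no fixed points
  let R : Finset (ConjClasses G) := (F 0).image ConjClasses.mk
  have hzero : ∑ x ∈ F 0, (P x).card ≤ R.card * Nat.card G := by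
    rw [← Finset.sum_fiberwise_of_maps_to (g := ConjClasses.mk)
      (fun x hx => Finset.mem_image_of_mem _ hx)]
    refine le_trans (Finset.sum_le_card_nsmul _ _ (Nat.card G) fun C _ => ?_) (by rw [smul_eq_mul])
    rw [← Finset.card_sigma, Nat.card_eq_fintype_card, ← Finset.card_univ]
    rcases ((F 0).filter fun x => ConjClasses.mk x = C).sigma P |>.eq_empty_or_nonempty with h0 | ⟨⟨x₀, u₀⟩, h0⟩
    · rw [h0, Finset.card_empty]; exact Nat.zero_le _
    obtain ⟨hx₀, hu₀⟩ := Finset.mem_sigma.mp h0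
    have hconj : ∀ x : G, ∃ k : G, ConjClasses.mk x = C → k * x₀ * k⁻¹ = x := by
      intro x
      by_cases hx : ConjClasses.mk x = C
      · obtain ⟨k, hk⟩ := isConj_iff.mp
          (ConjClasses.mk_eq_mk_iff_isConj.mp ((Finset.mem_filter.mp hx₀).2.trans hx.symm))
        exact ⟨k, fun _ => hk⟩
      · exact ⟨1, fun h => absurd h hx⟩
    choose k hk using hconj
    refine Finset.card_le_card_of_injOn (fun q => k q.1 * ((k q.1)⁻¹ * q.2 * k q.1 * u₀⁻¹))
      (fun _ _ => Finset.mem_univ _) ?_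
    have hrec : ∀ x t : G, ConjClasses.mk x = C → t ∈ P x →
        (k x * ((k x)⁻¹ * t * k x * u₀⁻¹)) * x₀ * (k x * ((k x)⁻¹ * t * k x * u₀⁻¹))⁻¹ = x := by
      intro x t hx ht
      have h1 := hk x hx
      have h2 := hPinv x t ht
      have h3 : u₀⁻¹ * x₀ * u₀ = x₀⁻¹ := by
        have h5 : (u₀ * x₀ * u₀⁻¹)⁻¹ = x₀ := by rw [hPinv x₀ u₀ hu₀, inv_inv]
        calc u₀⁻¹ * x₀ * u₀ = u₀⁻¹ * (u₀ * x₀ * u₀⁻¹)⁻¹ * u₀ := by rw [h5]
          _ = x₀⁻¹ := by group
      calc (k x * ((k x)⁻¹ * t * k x * u₀⁻¹)) * x₀ * (k x * ((k x)⁻¹ * t * k x * u₀⁻¹))⁻¹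
          = t * (k x * (u₀⁻¹ * x₀ * u₀) * (k x)⁻¹) * t⁻¹ := by group
        _ = (t * (k x * x₀ * (k x)⁻¹) * t⁻¹)⁻¹ := by rw [h3]; group
        _ = x := by rw [h1, h2, inv_inv]
    rintro ⟨x, t⟩ hq ⟨x', t'⟩ hq' hqq
    rw [Finset.mem_coe, Finset.mem_sigma, Finset.mem_filter] at hq hq'
    change k x * ((k x)⁻¹ * t * k x * u₀⁻¹) = k x' * ((k x')⁻¹ * t' * k x' * u₀⁻¹) at hqq
    have hxx : x = x' := by
      rw [← hrec x t hq.1.2 hq.2, ← hrec x' t' hq'.1.2 hq'.2, hqq]
    subst hxx
    rw [mul_right_inj, mul_left_inj, mul_left_inj, mul_right_inj] at hqq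
    rw [hqq]
  -- the splitting
  have hsplit : ∑ x : G, (P x).card =
      (P 1).card + (∑ x ∈ F 0, (P x).card + ∑ x ∈ F 1, (P x).card + ∑ x ∈ F 2, (P x).card) := by
    rw [← Finset.add_sum_erase _ _ (Finset.mem_univ (1 : G))]
    congr 1
    rw [← Finset.sum_union ?_, ← Finset.sum_union ?_]
    · refine Finset.sum_congr ?_ fun _ _ => rfl
      ext g
      simp only [F, Finset.mem_erase, Finset.mem_univ, and_true, Finset.mem_union, Finset.mem_filter,
        true_and]
      constructor
      · intro hg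
        have := zasFix_le_two (Ω := Ω) hZ hg
        interval_cases hk : zasFix Ω g <;> simp [hg]
      · rintro ((⟨hg, -⟩ | ⟨hg, -⟩) | ⟨hg, -⟩) <;> exact hg
    · rw [Finset.disjoint_left]
      intro g hg hg'
      simp only [F, Finset.mem_union, Finset.mem_filter] at hg hg'
      omega
    · rw [Finset.disjoint_left]
      intro g hg hg'
      simp only [F, Finset.mem_filter] at hg hg'
      omega
  -- many classes without fixed points
  have hR : e + 1 ≤ 2 * R.card := by
    rw [htot, hone] at hsplit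
    have hIc : ∀ c : Ω, (Ic c).card ≤ e := zas_invol_at hZ hab hodd hh rfl
    by_contra hcon
    have hr : 2 * R.card ≤ e - 1 := by obtain ⟨j, hj⟩ := hodd; omega
    obtain ⟨j, hj⟩ : ∃ j, e = j + 1 := ⟨e - 1, by omega⟩
    rw [hj, Nat.add_sub_cancel] at hr
    rw [hj] at c2 hG htwo hlt
    have c2' : 2 * (F 2).card + (h + 1) * h = (h + 1) * h * (j + 1) := c2
    have hf2 : 2 * (F 2).card = (h + 1) * h * j := by
      rw [Nat.mul_succ] at c2'
      omega
    have hC : 2 * ∑ x ∈ F 2, (P x).card ≤ (h + 1) * h * j * (j + 1) := by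
      rw [← hf2, mul_assoc]; exact Nat.mul_le_mul_left 2 htwo
    rw [hG] at hzero
    rcases Nat.even_or_odd h with hev | hev
    · have hI : I.card = (j + 1) * (h + 1) := ((zas_invol_count hZ hab hodd hh hedef.symm).1 hev).2.trans (by rw [hj])
      have ho : ∑ x ∈ F 1, (P x).card ≤ (h + 1) * ((j + 1) * j) := by
        refine hone'.trans (le_trans (Finset.sum_le_card_nsmul _ _ ((j + 1) * j) fun c _ => ?_)
          (by rw [Finset.card_univ, hh, smul_eq_mul]))
        rw [Finset.offDiag_card, ← Nat.mul_sub_one]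
        exact Nat.mul_le_mul ((hIc c).trans hj.le) (by have := hIc c; omega)
      rw [hI] at hsplit
      have key : (h + 1) * (j + 1) * (2 * ((j + 1) * (h + 1))) ≤
          (h + 1) * (j + 1) * (2 + h * j + 2 * j + 2 * R.card * h) := by linarith
      have key2 := Nat.le_of_mul_le_mul_left key (by positivity)
      have := Nat.mul_le_mul_right h hr
      have : 1 ≤ h := by omega
      linarith
    · obtain ⟨hz, hI⟩ := (zas_invol_count hZ hab hodd hh hedef.symm).2 (Nat.not_even_iff_odd.mpr hev)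
      have ho : ∑ x ∈ F 1, (P x).card = 0 := by
        refine Nat.le_zero.mp (hone'.trans ?_)
        rw [Nat.le_zero, Finset.sum_eq_zero_iff]
        intro c _
        rw [Finset.card_eq_zero, Finset.eq_empty_iff_forall_notMem]
        intro q hq
        obtain ⟨-, ht, htc⟩ := Finset.mem_filter.mp (Finset.mem_offDiag.mp hq).1
        have := hz q.1 ht
        rw [zasFix, Finset.card_eq_zero, Finset.filter_eq_empty_iff] at this
        exact this (Finset.mem_univ c) htc
      rw [hj] at hI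
      rw [show I.card = (j + 1) * h from hI, ho] at hsplit
      have key : h * (j + 1) * (2 * ((j + 1) * h)) ≤
          h * (j + 1) * (2 + (h + 1) * j + 2 * R.card * (h + 1)) := by linarith
      have key2 := Nat.le_of_mul_le_mul_left key (Nat.mul_pos (by omega) (by omega))
      have := Nat.mul_le_mul_right (h + 1) hr
      have : j + 1 < h := by omega
      linarith
  -- classes meeting the two-point stabilizer
  let D : Subgroup G := MulAction.stabilizer G a ⊓ MulAction.stabilizer G b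
  let D1 : Finset G := Finset.univ.filter fun g : G => g ∈ D ∧ g ≠ 1
  let Q : Finset (ConjClasses G) := D1.image ConjClasses.mk
  have hQ : e ≤ 2 * Q.card + 1 := by
    have hD1 : D1.card + 1 = e := by
      rw [hedef, Nat.card_eq_fintype_card, Fintype.card_subtype,
        show (Finset.univ.filter fun g : G => g ∈ D) = insert 1 D1 from ?_,
        Finset.card_insert_of_notMem (by simp [D1])]
      ext g
      by_cases hg : g = 1
      · subst hg; simp [D.one_mem]
      · simp [D1, hg]
    have hle : D1.card ≤ 2 * Q.card := by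
      refine Finset.card_le_mul_card_image D1 2 fun C hC => ?_
      obtain ⟨x, hx, rfl⟩ := Finset.mem_image.mp hC
      refine le_trans (Finset.card_le_card (t := {x, x⁻¹}) fun y hy => ?_) Finset.card_le_two
      obtain ⟨hy, hyx⟩ := Finset.mem_filter.mp hy
      obtain ⟨g, hg⟩ := isConj_iff.mp (ConjClasses.mk_eq_mk_iff_isConj.mp hyx.symm)
      obtain ⟨-, hxD, hx1⟩ := Finset.mem_filter.mp hx
      rw [Finset.mem_insert, Finset.mem_singleton]
      rcases zas_set_stab hZ hab hxD hx1 (hg ▸ (Finset.mem_filter.mp hy).2.1) with hga | ⟨hga, hgb⟩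
      · left
        rw [← hg, zas_D_comm hZ hab hodd (⟨hga.1, hga.2⟩ : g ∈ D) hxD, mul_inv_cancel_right]
      · right
        obtain ⟨s, hs, hsa, hsb⟩ := (Cfsg.Agent.S0740.result hZ hab).1
        have hd : s⁻¹ * g ∈ D := ⟨show (s⁻¹ * g) • a = a by rw [mul_smul, hga, inv_smul_eq_iff, hsa],
          show (s⁻¹ * g) • b = b by rw [mul_smul, hgb, inv_smul_eq_iff, hsb]⟩
        rw [← zas_invert hZ hab hodd hs hsa hsb hxD, ← hg]
        calc g * x * g⁻¹ = s * ((s⁻¹ * g) * x) * (s⁻¹ * g)⁻¹ * s⁻¹ := by group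
          _ = s * x * s⁻¹ := by rw [zas_D_comm hZ hab hodd hd hxD]; group
    omega
  -- neither kind meets `H`
  have hfixmk : ∀ g g' : G, ConjClasses.mk g = ConjClasses.mk g' → zasFix Ω g = zasFix Ω g' := by
    intro g g' hgg
    obtain ⟨k, hk⟩ := isConj_iff.mp (ConjClasses.mk_eq_mk_iff_isConj.mp hgg)
    rw [← hk, zasFix_conj]
  have hHfix' : ∀ g : G, g ∈ H → g ≠ 1 → zasFix Ω g = 1 := fun g hg hg1 => by
    rw [zasFix, Finset.card_eq_one]
    refine ⟨a, Finset.eq_singleton_iff_unique_mem.mpr ⟨Finset.mem_filter.mpr ⟨Finset.mem_univ _,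
      hHa hg⟩, fun c hc => hHfix g hg hg1 c (Finset.mem_filter.mp hc).2⟩⟩
  have hD2 : ∀ x : G, x ∈ D1 → zasFix Ω x = 2 := by
    intro x hx
    obtain ⟨-, hxD, hx1⟩ := Finset.mem_filter.mp hx
    refine le_antisymm (zasFix_le_two hZ hx1) ?_
    rw [← Finset.card_pair hab]
    refine Finset.card_le_card fun c hc => ?_
    rw [Finset.mem_insert, Finset.mem_singleton] at hc
    rcases hc with rfl | rfl
    · exact Finset.mem_filter.mpr ⟨Finset.mem_univ _, hxD.1⟩
    · exact Finset.mem_filter.mpr ⟨Finset.mem_univ _, hxD.2⟩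
  have hdisj : Disjoint R Q := by
    rw [Finset.disjoint_left]
    intro C hC hC'
    obtain ⟨x, hx, rfl⟩ := Finset.mem_image.mp hC
    obtain ⟨y, hy, hyx⟩ := Finset.mem_image.mp hC'
    have := hfixmk y x hyx
    rw [hD2 y hy, (Finset.mem_filter.mp hx).2.2] at this
    omega
  have hsub : R ∪ Q ⊆ Finset.univ.filter fun C : ConjClasses G =>
      ∀ g : G, ConjClasses.mk g = C → g ∉ H := by
    intro C hC
    refine Finset.mem_filter.mpr ⟨Finset.mem_univ _, fun g hg hgH => ?_⟩
    obtain ⟨x, hx1, hx2, rfl⟩ : ∃ x, x ≠ 1 ∧ zasFix Ω x ≠ 1 ∧ ConjClasses.mk x = C := by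
      rcases Finset.mem_union.mp hC with hC | hC
      · obtain ⟨x, hx, rfl⟩ := Finset.mem_image.mp hC
        exact ⟨x, (Finset.mem_filter.mp hx).2.1, by rw [(Finset.mem_filter.mp hx).2.2]; omega, rfl⟩
      · obtain ⟨x, hx, rfl⟩ := Finset.mem_image.mp hC
        exact ⟨x, (Finset.mem_filter.mp hx).2.2, by rw [hD2 x hx]; omega, rfl⟩
    by_cases hg1 : g = 1
    · subst hg1
      obtain ⟨k, hk⟩ := isConj_iff.mp (ConjClasses.mk_eq_mk_iff_isConj.mp hg)
      exact hx1 (by rw [← hk]; group)
    · exact hx2 ((hfixmk g x hg).symm.trans (hHfix' g hgH hg1))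
  have := Finset.card_le_card hsub
  rw [Finset.card_union_of_disjoint hdisj] at this
  rw [Nat.card_eq_fintype_card, Fintype.card_subtype]
  refine le_trans ?_ (le_trans this (le_of_eq ?_))
  · omega
  · congr 1

end Cfsg.Agent.S0884
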