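import Cfsg.Statements.S0885
import Cfsg.Agent.Lib.Char.FeitZassenhaus
import Cfsg.Agent.Lib.Perm.ZasAbelian.Reduce

set_option autoImplicit false
set_option linter.style.haveILetI false
open Cfsg Cfsg.Lib.Char

namespace Cfsg.Agent.S0885

/-- Let G be a finite Zassenhaus group on Ω with h + 1 points whose two-point stabilizer E has odd order e, and let H be the subgroup of the stabilizer of a consisting of the identity and the elements fixing no point other than a (given here as a subgroup of the stabilizer of order one less than the number of points whose non-identity elements fix only a; it is the Frobenius kernel of the stabilizer). Then either h - 1 ≤ 2 * e, or H is a non-abelian 2-group whose commutator subgroup has index at most 4 * e ^ 2 + 1 in H. -/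
theorem result {G Ω : Type*} [Group G] [Finite G] [MulAction G Ω] [Fintype Ω] (hZ : Cfsg.IsZassenhausGroup G Ω) {a b : Ω} (hab : a ≠ b) (h e : ℕ) (hh : Fintype.card Ω = h + 1) (he : Nat.card ↥(MulAction.stabilizer G a ⊓ MulAction.stabilizer G b : Subgroup G) = e) (hodd : Odd e) (H : Subgroup G) (hHa : H ≤ MulAction.stabilizer G a) (hHcard : Nat.card H + 1 = Fintype.card Ω) (hHfix : ∀ u ∈ H, u ≠ 1 → ∀ c : Ω, u • c = c → c = a) : h - 1 ≤ 2 * e ∨ (IsPGroup 2 H ∧ (∃ u v : H, u * v ≠ v * u) ∧ (commutator H).index ≤ 4 * e ^ 2 + 1) := by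
  classical
  haveI := Fintype.ofFinite G
  have hf := hZ.1
  haveI := hf
  by_cases hHc : ∀ x ∈ H, ∀ y ∈ H, x * y = y * x
  · left
    have hb := (Cfsg.Lib.Perm.ZasAbelian.bound hZ hab H hHa hHcard hHfix hHc (he.symm ▸ hodd)).1
    rw [hh, he] at hb
    omega
  obtain ⟨N, hNn, hHN, hNs, hNZ⟩ := zas_exists_simple hZ hab H hHa hHcard hHfix
  haveI := hNs
  haveI := Fintype.ofFinite N
  set D : Subgroup G := MulAction.stabilizer G a ⊓ MulAction.stabilizer G b with hD
  obtain ⟨eN, heN⟩ : ∃ eN, Nat.card ↥(MulAction.stabilizer N a ⊓ MulAction.stabilizer N b : Subgroup N) = eN :=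
    ⟨_, rfl⟩
  have he' : Nat.card ↥(N ⊓ D : Subgroup G) = eN := by
    rw [← heN]
    exact (Nat.card_congr ⟨fun g => ⟨(g.1 : G), g.1.2, g.2⟩, fun g => ⟨⟨g.1, g.2.1⟩, g.2.2⟩,
      fun _ => rfl, fun _ => rfl⟩).symm
  have hdvd : eN ∣ e := by
    rw [← he', ← he]; exact Subgroup.card_dvd_of_le inf_le_right
  have heNle : eN ≤ e := Nat.le_of_dvd (he ▸ Nat.card_pos) hdvd
  have hoddN : Odd (Nat.card ↥(MulAction.stabilizer N a ⊓ MulAction.stabilizer N b : Subgroup N)) :=
    heN.symm ▸ hodd.of_dvd_nat hdvd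
  by_cases hlt : h - 1 ≤ 2 * eN
  · left; omega
  push Not at hlt
  -- the kernel inside the simple normal subgroup
  set H' : Subgroup N := H.subgroupOf N with hH'
  have hH'a : H' ≤ MulAction.stabilizer N a := fun u hu => hHa hu
  have hH'card : Nat.card H' + 1 = Fintype.card Ω := by
    rw [hH', Nat.card_congr (Subgroup.subgroupOfEquivOfLe hHN).toEquiv]; exact hHcard
  have hH'fix : ∀ u ∈ H', u ≠ 1 → ∀ c : Ω, u • c = c → c = a :=
    fun u hu hu1 c hc => hHfix u hu (fun e' => hu1 (Subtype.ext e')) c hc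
  have hna : ¬ ∀ x ∈ H', ∀ y ∈ H', x * y = y * x := fun hc => hHc fun x hx y hy =>
    congrArg Subtype.val (hc ⟨x, hHN hx⟩ hx ⟨y, hHN hy⟩ hy)
  obtain ⟨hTI, hN⟩ := Cfsg.Agent.S0878.result hNZ a H' hH'a hH'card hH'fix
  obtain ⟨hA1, -⟩ := zas_card_group hNZ hab
  rw [hh, Nat.add_sub_cancel, heN] at hA1
  have hH'h : Nat.card H' = h := by omega
  haveI hKn : (H'.subgroupOf (MulAction.stabilizer N a)).Normal := by
    rw [← hN]; exact Subgroup.normal_in_normalizer
  haveI := Fintype.ofFinite (MulAction.stabilizer N a)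
  have he3 : 3 ≤ eN := heN ▸ zas_three_le_D hNZ hab hoddN
  have hlt' : H' < MulAction.stabilizer N a := lt_of_le_of_ne hH'a fun e' => by
    have h1 : Nat.card H' = h * eN := by rw [e', hA1]
    have h2 : h * 3 ≤ h * eN := Nat.mul_le_mul_left h he3
    omega
  have hH'1 : H' ≠ ⊥ := fun hb => hna fun x hx y hy => by
    rw [hb, Subgroup.mem_bot] at hx hy; rw [hx, hy]
  have hC : ∀ k ∈ H', k ≠ 1 → Subgroup.centralizer ({k} : Set N) ≤ H' :=
    fun k hk hk1 => zas_centralizer_le hNZ hab H' hH'a hH'card hH'fix hk hk1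
  have hidx : (H'.subgroupOf (MulAction.stabilizer N a)).index = eN := by
    have h1 := (H'.subgroupOf (MulAction.stabilizer N a)).card_mul_index
    rw [Nat.card_congr (Subgroup.subgroupOfEquivOfLe hH'a).toEquiv, hH'h, hA1] at h1
    exact Nat.eq_of_mul_eq_mul_left (show 0 < h by omega) h1
  rcases coherence_TI_kernel H' (MulAction.stabilizer N a) hH'1 hlt' hN
      (fun g hg k hk hk' => hTI g (hN ▸ hg) k hk hk') (fun k hk hk1 x hx => hC k hk hk1 hx.2) with
    hcoh | ⟨hc, -⟩ | ⟨-, -, -, ⟨m, hm⟩, -, hq⟩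
  · exact absurd hcoh (fz_noncoherent hNZ hab hoddN H' hH'a hH'card hH'fix hh heN hlt hna)
  · exact absurd hc hna
  · right
    refine ⟨IsPGroup.of_card (n := m) (by rw [← hm, hH'h]; omega), ?_, ?_⟩
    · push Not at hHc
      obtain ⟨x, hx, y, hy, hxy⟩ := hHc
      exact ⟨⟨x, hx⟩, ⟨y, hy⟩, fun e' => hxy (congrArg Subtype.val e')⟩
    · rw [hidx] at hq
      refine le_trans (le_of_eq ?_) (hq.trans (by gcongr))
      have hmap : H'.map N.subtype = H := by
        rw [hH', Subgroup.subgroupOf_map_subtype]; exact inf_eq_left.2 hHN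
      show _ = ⁅H', H'⁆.relIndex H'
      rw [← Subgroup.relIndex_map_map_of_injective _ _ N.subtype_injective, Subgroup.map_commutator, hmap,
        Subgroup.relIndex, ← Subgroup.map_subtype_commutator, Subgroup.subgroupOf,
        Subgroup.comap_map_eq_self_of_injective H.subtype_injective]

end Cfsg.Agent.S0885
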