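import Cfsg.Statements.S0340
import Cfsg.Agent.S0344
import Cfsg.Agent.S0731
import Cfsg.Agent.S0738
import Cfsg.Agent.S0885
import Cfsg.Agent.S0347
import Cfsg.Agent.Lib.Perm.SharpThreeOdd
import Cfsg.Agent.Lib.Perm.ZasAbelian.Main

set_option autoImplicit false
open Cfsg

namespace Cfsg.Agent.S0340

open Cfsg.Lib.Char Cfsg.Lib.Perm.ZasAbelian

universe u v

/-- A sharply three-transitive faithful action of odd degree gives `PSL(2, 2 ^ k)`. -/
theorem psl_of_sharp_odd {G : Type u} {Ω : Type v} [Group G] [MulAction G Ω] [Fintype Ω]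
    (hf : FaithfulSMul G Ω) (hodd : Odd (Fintype.card Ω)) (h3 : 3 ≤ Fintype.card Ω)
    (htr : MulAction.IsMultiplyPretransitive G Ω 3)
    (hsharp : ∀ t : Fin 3 ↪ Ω, MulAction.stabilizer G t = ⊥) :
    ∃ (F : Type) (_ : Field F) (_ : Fintype F),
      Nonempty (G ≃* Matrix.ProjectiveSpecialLinearGroup (Fin 2) F) := by
  classical
  haveI := hf
  let φ := MulAction.toPermHom G Ω
  have hφ : Function.Injective φ := MulAction.toPerm_injective
  have htr' : MulAction.IsMultiplyPretransitive φ.range Ω 3 := by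
    rw [MulAction.isMultiplyPretransitive_iff]
    intro x y
    obtain ⟨g, hg⟩ := (MulAction.isMultiplyPretransitive_iff.1 htr) x y
    exact ⟨⟨φ g, g, rfl⟩, DFunLike.ext _ _ fun i => DFunLike.congr_fun hg i⟩
  have hsharp' : ∀ g : φ.range, ∀ a b c : Ω, a ≠ b → a ≠ c → b ≠ c →
      g • a = a → g • b = b → g • c = c → g = 1 := by
    rintro ⟨_, g, rfl⟩ a b c hab hac hbc ha hb hc
    have hinj : Function.Injective ![a, b, c] := by
      intro i j h
      fin_cases i <;> fin_cases j <;> first | rfl | exact absurd h hab | exact absurd h hac | exact absurd h hbc | exact absurd h hab.symm | exact absurd h hac.symm | exact absurd h hbc.symm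
    have hg : g ∈ MulAction.stabilizer G (⟨![a, b, c], hinj⟩ : Fin 3 ↪ Ω) :=
      MulAction.mem_stabilizer_iff.2 (DFunLike.ext _ _ fun i => by
        fin_cases i
        · exact ha
        · exact hb
        · exact hc)
    rw [hsharp, Subgroup.mem_bot] at hg
    exact Subtype.ext ((congrArg φ hg).trans (map_one φ))
  obtain ⟨k, hk, -, F, iF, iFF, hF, ⟨ψ⟩⟩ :=
    Cfsg.Agent.Lib.Perm.SharpThree.recognition φ.range hodd h3 htr' hsharp'
  have hroots : ∀ r : Fˣ, ∃ t : Fˣ, t ^ Fintype.card (Fin 2) = r := fun r => ⟨r ^ (2 ^ (k - 1)), by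
    rw [Fintype.card_fin, ← pow_mul, ← pow_succ, Nat.sub_add_cancel hk, ← hF,
      show Fintype.card F = Fintype.card Fˣ + 1 by
        rw [Fintype.card_units, Nat.sub_add_cancel Fintype.card_pos],
      pow_succ, pow_card_eq_one, one_mul]⟩
  let τ := MulEquiv.ofBijective (Matrix.ProjectiveSpecialLinearGroup.toPGL (n := Fin 2) (R := F))
    ⟨Matrix.ProjectiveSpecialLinearGroup.toPGL_injective,
      Matrix.ProjectiveSpecialLinearGroup.toPGL_surj_of_roots hroots⟩
  exact ⟨F, iF, iFF, ⟨((MonoidHom.ofInjective hφ).trans ψ).trans τ.symm⟩⟩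

/-- Classification of Zassenhaus groups, simple case, order-level form: a finite simple Zassenhaus group is
isomorphic to `PSL₂(F)` for some finite field `F` or is simple of Suzuki order. -/
theorem result {G Ω : Type*} [Group G] [Finite G] [MulAction G Ω]
    [Finite Ω] (hZ : Cfsg.IsZassenhausGroup G Ω) [IsSimpleGroup G] :
    (∃ (F : Type) (_ : Field F) (_ : Fintype F), Nonempty (G ≃* Matrix.ProjectiveSpecialLinearGroup (Fin 2) F)) ∨ Cfsg.IsSuzuki G := by
  classical
  haveI := Fintype.ofFinite Ω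
  obtain ⟨g, -, a, b, hab, -, -⟩ := hZ.2.2.2.1
  have h2 := zas_two_lt_card hZ
  rcases Nat.even_or_odd (Nat.card ↥(MulAction.stabilizer G a ⊓ MulAction.stabilizer G b : Subgroup G))
    with heven | hodd
  · obtain ⟨F, i1, i2, -, h⟩ := Cfsg.Agent.S0344.result hZ hab heven
    exact Or.inl ⟨F, i1, i2, h⟩
  obtain ⟨N, hNn, -, hc, -, hfix⟩ := zas_exists_kernel hZ hab
  haveI := hNn
  set F := N.map (MulAction.stabilizer G a).subtype with hF
  have hFle : F ≤ MulAction.stabilizer G a := Subgroup.map_subtype_le _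
  have hFn : (F.subgroupOf (MulAction.stabilizer G a)).Normal := by
    rw [hF, Subgroup.subgroupOf, Subgroup.comap_map_eq_self_of_injective Subtype.val_injective]
    exact hNn
  have hFfix : ∀ u ∈ F, u ≠ 1 → ∀ c : Ω, u • c = c → c = a := by
    rintro _ ⟨u, hu, rfl⟩ hu1 c hcu
    exact hfix u hu (fun e => hu1 (by rw [e]; rfl)) c hcu
  have hFcard : Nat.card F + 1 = Fintype.card Ω := by
    have h1 := hc.card_mul
    obtain ⟨hA1, -⟩ := zas_card_group hZ hab
    rw [Nat.card_congr (Subgroup.subgroupOfEquivOfLe (show (MulAction.stabilizer G a ⊓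
      MulAction.stabilizer G b : Subgroup G) ≤ MulAction.stabilizer G a from inf_le_left)).toEquiv, hA1] at h1
    have := Nat.eq_of_mul_eq_mul_right Nat.card_pos h1
    rw [hF, Subgroup.card_subtype]
    omega
  have hreg : ∀ y z : Ω, y ≠ a → z ≠ a → ∃! u : F, (u : G) • y = z := by
    intro y z hy hz
    obtain ⟨v, hv, hvz⟩ := kernel_transitive (Ne.symm hy) F hFle hFcard hFfix hz
    refine ⟨⟨v, hv⟩, hvz, fun w hw => Subtype.ext ?_⟩
    by_contra hne
    exact hy (hFfix (v⁻¹ * (w : G)) (F.mul_mem (F.inv_mem hv) w.2)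
      (fun e => hne (inv_mul_eq_one.mp e).symm) y (by rw [mul_smul, hw, ← hvz, inv_smul_smul]))
  rcases Cfsg.Agent.S0885.result hZ hab (Fintype.card Ω - 1) _ (by omega) rfl hodd F hFle hFcard hFfix
    with h | ⟨h, hna, -⟩
  · obtain ⟨hcomm, -⟩ := Cfsg.Agent.S0738.result hZ hab (by omega) F hFle hFn hreg
    rcases Cfsg.Agent.S0731.result hZ a F hFle hFn hcomm hreg with ⟨htr, hsharp⟩ | ⟨K, i1, i2, -, hK⟩
    · obtain ⟨c, hca, hcb⟩ : ∃ c, c ≠ a ∧ c ≠ b := by
        obtain ⟨u, v, w, huv, huw, hvw⟩ := Fintype.two_lt_card_iff.1 h2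
        by_cases hu : u = a ∨ u = b
        · by_cases hv : v = a ∨ v = b
          · refine ⟨w, fun e => ?_, fun e => ?_⟩ <;>
              rcases hu with hu | hu <;> rcases hv with hv | hv <;> simp_all
          · exact ⟨v, fun e => hv (Or.inl e), fun e => hv (Or.inr e)⟩
        · exact ⟨u, fun e => hu (Or.inl e), fun e => hu (Or.inr e)⟩
      have hinj : ∀ d : Ω, d ≠ a → d ≠ b → Function.Injective ![a, b, d] := fun d hda hdb i j h => by
        fin_cases i <;> fin_cases j <;> first | rfl | exact absurd h hab | exact absurd h hab.symm | exact absurd h hda.symm | exact absurd h hdb.symm | exact absurd h hda | exact absurd h hdb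
      have hbij : Function.Bijective (fun x : ↥(MulAction.stabilizer G a ⊓ MulAction.stabilizer G b : Subgroup G) =>
          (⟨(x : G) • c, fun e => by
            rcases Finset.mem_insert.1 e with e | e
            · exact hca (MulAction.injective (x : G) (e.trans x.2.1.symm))
            · exact hcb (MulAction.injective (x : G) ((Finset.mem_singleton.1 e).trans x.2.2.symm))⟩ :
            {d : Ω // d ∉ ({a, b} : Finset Ω)})) := by
        refine ⟨fun x y e => ?_, fun d => ?_⟩
        · by_contra hne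
          exact hne (Subtype.ext (inv_mul_eq_one.1 (hZ.2.2.1 ((y : G)⁻¹ * x) a b c hab hcb.symm hca.symm
            (by rw [mul_smul, x.2.1, inv_smul_eq_iff, y.2.1]) (by rw [mul_smul, x.2.2, inv_smul_eq_iff, y.2.2])
            (by rw [mul_smul, show (x : G) • c = (y : G) • c from congrArg Subtype.val e, inv_smul_smul]))).symm)
        · have hd : d.1 ≠ a ∧ d.1 ≠ b := by simpa using d.2
          obtain ⟨x, hx⟩ := (MulAction.isMultiplyPretransitive_iff.1 htr) (⟨_, hinj c hca hcb⟩ : Fin 3 ↪ Ω)
            ⟨_, hinj d.1 hd.1 hd.2⟩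
          exact ⟨⟨x, DFunLike.congr_fun hx 0, DFunLike.congr_fun hx 1⟩, Subtype.ext (DFunLike.congr_fun hx 2)⟩
      have hcardD : Nat.card ↥(MulAction.stabilizer G a ⊓ MulAction.stabilizer G b : Subgroup G) + 2 =
          Fintype.card Ω := by
        rw [Nat.card_congr (Equiv.ofBijective _ hbij), Nat.card_eq_fintype_card, Fintype.card_subtype_compl,
          Fintype.card_coe, Finset.card_pair hab]
        omega
      exact Or.inl (psl_of_sharp_odd hZ.1 (by rw [← hcardD]; exact hodd.add_even even_two) (by omega)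
        htr hsharp)
    · exact Or.inl ⟨K, i1, i2, hK⟩
  · obtain ⟨u, v, huv⟩ := hna
    exact Or.inr (Cfsg.Agent.S0347.result hZ a F hFle hFn h ⟨u, v, huv⟩ hreg)

end Cfsg.Agent.S0340
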