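import Cfsg.Statements.S0346
import Cfsg.Agent.S0738
import Cfsg.Agent.S0741
import Cfsg.Agent.S0885
import Cfsg.Agent.Lib.Perm.ZasAbelian.Main
-- import your own Cfsg.Agent.* helpers here

set_option autoImplicit false
open Cfsg

namespace Cfsg.Agent.S0346

open Cfsg.Lib.Char Cfsg.Lib.Perm.ZasAbelian

/-- The number of points of a finite simple Zassenhaus group is `p^k + 1` for some prime power `p^k` (the regular normal
subgroup of a point stabiliser is a `p`-group). -/
theorem result {G Ω : Type*} [Group G] [Finite G] [MulAction G Ω] [Fintype Ω]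
    (hZ : Cfsg.IsZassenhausGroup G Ω) [IsSimpleGroup G] :
    IsPrimePow (Fintype.card Ω - 1) := by
  classical
  obtain ⟨g, -, a, b, hab, -, -⟩ := hZ.2.2.2.1
  have h2 := zas_two_lt_card hZ
  obtain ⟨N, hNn, -, hc, -, hfix⟩ := zas_exists_kernel hZ hab
  haveI := hNn
  set F := N.map (MulAction.stabilizer G a).subtype with hF
  have hFle : F ≤ MulAction.stabilizer G a := Subgroup.map_subtype_le _
  have hFn : (F.subgroupOf (MulAction.stabilizer G a)).Normal := by
    rw [hF, Subgroup.subgroupOf, Subgroup.comap_map_eq_self_of_injective Subtype.val_injective]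
    exact hNn
  have hFfix : ∀ u ∈ F, u ≠ 1 → ∀ c : Ω, u • c = c → c = a := by
    rintro _ ⟨u, hu, rfl⟩ hu1 c hcu
    exact hfix u hu (fun e => hu1 (by rw [e]; rfl)) c hcu
  have hFcard : Nat.card F + 1 = Fintype.card Ω := by
    have h1 := hc.card_mul
    obtain ⟨hA1, -⟩ := zas_card_group hZ hab
    rw [Nat.card_congr (Subgroup.subgroupOfEquivOfLe (show (MulAction.stabilizer G a ⊓
      MulAction.stabilizer G b : Subgroup G) ≤ MulAction.stabilizer G a from inf_le_left)).toEquiv, hA1] at h1
    have := Nat.eq_of_mul_eq_mul_right Nat.card_pos h1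
    rw [hF, Subgroup.card_subtype]
    omega
  have hreg : ∀ y z : Ω, y ≠ a → z ≠ a → ∃! u : F, (u : G) • y = z := by
    intro y z hy hz
    obtain ⟨v, hv, hvz⟩ := kernel_transitive (Ne.symm hy) F hFle hFcard hFfix hz
    refine ⟨⟨v, hv⟩, hvz, fun w hw => Subtype.ext ?_⟩
    by_contra hne
    exact hy (hFfix (v⁻¹ * (w : G)) (F.mul_mem (F.inv_mem hv) w.2)
      (fun e => hne (inv_mul_eq_one.mp e).symm) y (by rw [mul_smul, hw, ← hvz, inv_smul_smul]))
  have key : ∀ p f : ℕ, p.Prime → Fintype.card Ω = p ^ f + 1 → IsPrimePow (Fintype.card Ω - 1) := by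
    intro p f hp hcard
    have hf : f ≠ 0 := by rintro rfl; rw [pow_zero] at hcard; omega
    rw [hcard, Nat.add_sub_cancel]
    exact (isPrimePow_nat_iff _).2 ⟨p, f, hp, Nat.pos_of_ne_zero hf, rfl⟩
  rcases Nat.even_or_odd (Nat.card ↥(MulAction.stabilizer G a ⊓ MulAction.stabilizer G b : Subgroup G))
    with heven | hodd
  · obtain ⟨-, p, f, hp, -, hcard⟩ := Cfsg.Agent.S0738.result hZ hab
      (Cfsg.Agent.S0741.result hZ hab heven) F hFle hFn hreg
    exact key p f hp hcard
  · rcases Cfsg.Agent.S0885.result hZ hab (Fintype.card Ω - 1) _ (by omega) rfl hodd F hFle hFcard hFfix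
      with h | ⟨h, -, -⟩
    · obtain ⟨-, p, f, hp, -, hcard⟩ := Cfsg.Agent.S0738.result hZ hab (by omega) F hFle hFn hreg
      exact key p f hp hcard
    · haveI := Fact.mk Nat.prime_two
      obtain ⟨f, hf⟩ := IsPGroup.iff_card.1 h
      exact key 2 f Nat.prime_two (by rw [← hf]; exact hFcard.symm)

end Cfsg.Agent.S0346
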