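import Cfsg.Statements.S0033
import Cfsg.Agent.Lib.Thompson.FixedPointFree

set_option autoImplicit false
set_option linter.style.haveILetI false
open Cfsg

namespace Cfsg.Agent.S0033

/-- Thompson's Theorem on fixed-point-free automorphisms: a finite group with an automorphism of prime order fixing only the identity is nilpotent. -/
theorem result {G : Type*} [Group G] [Finite G] (φ : G ≃* G)
    (hφ : MonoidHom.FixedPointFree (φ : G →* G)) (p : ℕ) (hp : p.Prime) (hord : orderOf φ = p) :
    Group.IsNilpotent G := by
  refine Cfsg.Lib.Thompson.isNilpotent_of_fpf hp φ hφ ?_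
  have h : φ ^ p = 1 := hord ▸ pow_orderOf_eq_one φ
  have hiter : ∀ (n : ℕ) (x : G), (φ ^ n : G ≃* G) x = φ^[n] x := fun n => by
    induction n with
    | zero => intro x; rfl
    | succ n ih => intro x; rw [pow_succ, Function.iterate_succ_apply]; exact ih (φ x)
  funext x
  rw [← hiter, h]
  rfl

end Cfsg.Agent.S0033
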