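import Cfsg.Statements.S2739
import Mathlib

set_option linter.style.haveILetI false

set_option autoImplicit false
open scoped Pointwise
open Cfsg

namespace Cfsg.Agent.S2739

open Matrix

variable {F : Type*} [Field F] [Fintype F]

theorem cube (hF : Fintype.card F = 4) {a : F} (ha : a ≠ 0) : a ^ 3 = 1 := by
  have := FiniteField.pow_card_sub_one_eq_one a ha
  rwa [hF] at this

theorem exists_omega (hF : Fintype.card F = 4) : ∃ w : F, w ≠ 0 ∧ w ≠ 1 := by
  classical
  obtain ⟨w, hw⟩ := Finset.exists_mem_notMem_of_card_lt_card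
    (show ({0, 1} : Finset F).card < (Finset.univ : Finset F).card by
      rw [Finset.card_univ, hF]; exact lt_of_le_of_lt Finset.card_le_two (by norm_num))
  simp only [Finset.mem_univ, Finset.mem_insert, Finset.mem_singleton, not_or, true_and] at hw
  exact ⟨w, hw.1, hw.2⟩

theorem three_eq_one (hF : Fintype.card F = 4) : (3 : F) = 1 := by
  have h2 : (4 : F) = 0 := by
    have := FiniteField.cast_card_eq_zero F
    rw [hF] at this; exact_mod_cast this
  have h3 : (2 : F) * 2 = 0 := by rw [← h2]; norm_num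
  have h4 : (2 : F) = 0 := by simpa using h3
  rw [show (3 : F) = 2 + 1 by norm_num, h4, zero_add]

theorem sum_roots (hF : Fintype.card F = 4) {w : F} (h0 : w ≠ 0) (h1 : w ≠ 1) : 1 + w + w ^ 2 = 0 := by
  have h : (w - 1) * (1 + w + w ^ 2) = 0 := by rw [show (w - 1) * (1 + w + w ^ 2) = w ^ 3 - 1 by ring, cube hF h0, sub_self]
  exact (mul_eq_zero.1 h).resolve_left (sub_ne_zero.2 h1)

/-- The standard element of order three. -/
def dd (w : F) : Matrix (Fin 3) (Fin 3) F := Matrix.diagonal ![1, w, w ^ 2]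

theorem root_cases (hF : Fintype.card F = 4) {w : F} (h0 : w ≠ 0) (h1 : w ≠ 1) {a : F} (ha : a ≠ 0) :
    ∃ k : Fin 3, a = (![1, w, w ^ 2] : Fin 3 → F) k := by
  have hs := sum_roots hF h0 h1
  have e : (a - 1) * (a - w) * (a - w ^ 2) = 0 := by
    have : (a - 1) * (a - w) * (a - w ^ 2) = a ^ 3 - (1 + w + w ^ 2) * a ^ 2 + w * (1 + w + w ^ 2) * a - w ^ 3 := by ring
    rw [this, hs, cube hF ha, cube hF h0]; ring
  rcases mul_eq_zero.1 e with e | e
  · rcases mul_eq_zero.1 e with e | e
    · exact ⟨0, sub_eq_zero.1 e⟩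
    · exact ⟨1, sub_eq_zero.1 e⟩
  · exact ⟨2, sub_eq_zero.1 e⟩

theorem conj_diag (hF : Fintype.card F = 4) {w : F} (h0 : w ≠ 0) (h1 : w ≠ 1) (x : Matrix.SpecialLinearGroup (Fin 3) F)
    (hx : x ^ 3 ∈ Subgroup.center (Matrix.SpecialLinearGroup (Fin 3) F))
    (hns : ¬ x ∈ Subgroup.center (Matrix.SpecialLinearGroup (Fin 3) F)) :
    ∃ P : Matrix.SpecialLinearGroup (Fin 3) F,
      (x : Matrix (Fin 3) (Fin 3) F) * P = (P : Matrix (Fin 3) (Fin 3) F) * dd w := by
  classical
  obtain ⟨c, hc1, hc⟩ := Matrix.SpecialLinearGroup.mem_center_iff.1 hx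
  rw [Fintype.card_fin] at hc1
  rw [Matrix.SpecialLinearGroup.coe_pow] at hc
  set M : Matrix (Fin 3) (Fin 3) F := (x : Matrix (Fin 3) (Fin 3) F) with hM
  have hdet : M.det = 1 := x.2
  have hc' : c = 1 := by
    by_contra hne
    have hp3 : (Polynomial.X ^ 3 - Polynomial.C c : Polynomial F).natDegree = 3 := Polynomial.natDegree_X_pow_sub_C
    have hirr : Irreducible (Polynomial.X ^ 3 - Polynomial.C c : Polynomial F) := by
      refine (Polynomial.irreducible_iff_roots_eq_zero_of_degree_le_three (by omega) (by omega)).2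
        (Multiset.eq_zero_iff_forall_notMem.2 fun a ha => ?_)
      obtain ⟨-, hr⟩ := Polynomial.mem_roots'.1 ha
      rw [Polynomial.IsRoot, Polynomial.eval_sub, Polynomial.eval_pow, Polynomial.eval_X, Polynomial.eval_C, sub_eq_zero] at hr
      by_cases ha0 : a = 0
      · rw [ha0, zero_pow three_ne_zero] at hr
        rw [← hr, zero_pow three_ne_zero] at hc1
        exact zero_ne_one hc1
      · exact hne (hr.symm.trans (cube hF ha0))
    have haev : Polynomial.aeval M (Polynomial.X ^ 3 - Polynomial.C c : Polynomial F) = 0 := by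
      rw [map_sub, map_pow, Polynomial.aeval_X, Polynomial.aeval_C, ← hc, Algebra.algebraMap_eq_smul_one,
        Matrix.scalar_apply, Matrix.smul_one_eq_diagonal, sub_self]
    have hmin := minpoly.eq_of_irreducible_of_monic hirr haev (Polynomial.monic_X_pow_sub_C c three_ne_zero)
    have hch : M.charpoly = Polynomial.X ^ 3 - Polynomial.C c := by
      refine (Polynomial.eq_of_monic_of_dvd_of_natDegree_le (Polynomial.monic_X_pow_sub_C c three_ne_zero)
        (Matrix.charpoly_monic M) ?_ ?_)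
      · rw [hmin]; exact Matrix.minpoly_dvd_charpoly M
      · rw [Matrix.charpoly_natDegree_eq_dim, Fintype.card_fin, hp3]
    have h2 := Matrix.det_eq_sign_charpoly_coeff M
    rw [hdet, hch, Fintype.card_fin] at h2
    simp at h2
    exact hne (by linear_combination -h2)
  rw [hc', map_one] at hc
  -- eigenvectors span
  set s : Set (Fin 3 → F) := {v | ∃ k : Fin 3, M *ᵥ v = (![1, w, w ^ 2] : Fin 3 → F) k • v}
  have h3 : M * M * M = 1 := by rw [hc]; noncomm_ring
  have hspan : Submodule.span F s = ⊤ := by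
    refine eq_top_iff.2 fun v _ => ?_
    have hM3 : M *ᵥ (M *ᵥ (M *ᵥ v)) = v := by rw [mulVec_mulVec, mulVec_mulVec, h3, one_mulVec]
    have key : ∀ a : F, a ^ 3 = 1 → M *ᵥ (v + a ^ 2 • (M *ᵥ v) + a • (M *ᵥ (M *ᵥ v))) =
        a • (v + a ^ 2 • (M *ᵥ v) + a • (M *ᵥ (M *ᵥ v))) := by
      intro a ha
      rw [mulVec_add, mulVec_add, mulVec_smul, mulVec_smul, hM3, smul_add, smul_add, smul_smul, smul_smul,
        ← pow_succ', ha, one_smul, ← pow_two]
      abel
    have hsplit : v = (v + (1 : F) ^ 2 • (M *ᵥ v) + (1 : F) • (M *ᵥ (M *ᵥ v))) +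
        (v + w ^ 2 • (M *ᵥ v) + w • (M *ᵥ (M *ᵥ v))) +
        (v + (w ^ 2) ^ 2 • (M *ᵥ v) + w ^ 2 • (M *ᵥ (M *ᵥ v))) := by
      funext i
      simp only [Pi.add_apply, Pi.smul_apply, smul_eq_mul]
      have hs := sum_roots hF h0 h1
      have h3' := three_eq_one hF
      have hw := cube hF h0
      linear_combination (-(v i)) * h3' - ((M *ᵥ v) i + (M *ᵥ (M *ᵥ v)) i) * hs - (w * (M *ᵥ v) i) * hw
    rw [hsplit]
    refine Submodule.add_mem _ (Submodule.add_mem _ (Submodule.subset_span ⟨0, key 1 (one_pow 3)⟩)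
      (Submodule.subset_span ⟨1, key w (cube hF h0)⟩)) (Submodule.subset_span ⟨2, key (w ^ 2) (cube hF (pow_ne_zero 2 h0))⟩)
  obtain ⟨B, hBs, hBspan, hBli⟩ := exists_linearIndependent F s
  rw [hspan] at hBspan
  let bB := Module.Basis.mk hBli (by rw [Subtype.range_coe_subtype, Set.setOf_mem_eq, hBspan])
  haveI : Fintype B := FiniteDimensional.fintypeBasisIndex bB
  have hcardB : Fintype.card B = 3 := by
    rw [← Module.finrank_eq_card_basis bB, Module.finrank_fintype_fun_eq_card, Fintype.card_fin]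
  let eB : Fin 3 ≃ B := (Fintype.equivFinOfCardEq hcardB).symm
  choose k hk using fun i : Fin 3 => hBs (eB i).2
  let P0 : Matrix (Fin 3) (Fin 3) F := Matrix.of fun i j => (eB j : Fin 3 → F) i
  have hP0 : IsUnit P0 := by
    rw [← Matrix.linearIndependent_cols_iff_isUnit]
    exact hBli.comp eB eB.injective
  let d : Fin 3 → F := fun i => (![1, w, w ^ 2] : Fin 3 → F) (k i)
  have hMP : M * P0 = P0 * Matrix.diagonal d := by
    ext i j
    have := congrFun (hk j) i
    rw [Matrix.mul_diagonal]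
    exact this.trans (mul_comm _ _)
  have hd : d 0 * d 1 * d 2 = 1 := by
    have h4 := congrArg Matrix.det hMP
    rw [Matrix.det_mul, Matrix.det_mul, hdet, one_mul, Matrix.det_diagonal, Fin.prod_univ_three] at h4
    exact (mul_left_cancel₀ (P0.isUnit_iff_isUnit_det.1 hP0).ne_zero ((mul_one _).trans h4)).symm
  have hd0 : ∀ i, d i ≠ 0 := fun i h => by
    have hi : i = 0 ∨ i = 1 ∨ i = 2 := by fin_cases i <;> simp
    rcases hi with rfl | rfl | rfl <;> rw [h] at hd <;> simp at hd
  have hdinj : Function.Injective d := by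
    by_contra hni
    have hall : d 0 = d 1 ∧ d 1 = d 2 := by
      have c0 := cube hF (hd0 0)
      have c1 := cube hF (hd0 1)
      have c2 := cube hF (hd0 2)
      simp only [Function.Injective, not_forall] at hni
      obtain ⟨a, b, hab, hne⟩ := hni
      have e01 : d 0 = d 1 → d 1 = d 2 := fun e => by
        rw [e] at hd
        exact (mul_left_cancel₀ (mul_ne_zero (hd0 1) (hd0 1)) (by linear_combination hd - c1)).symm
      have e12 : d 1 = d 2 → d 0 = d 1 := fun e => by
        rw [← e] at hd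
        exact mul_left_cancel₀ (mul_ne_zero (hd0 1) (hd0 1)) (by linear_combination hd - c1)
      have e02 : d 0 = d 2 → d 0 = d 1 := fun e => by
        rw [← e] at hd
        exact (mul_left_cancel₀ (mul_ne_zero (hd0 0) (hd0 0)) (by linear_combination hd - c0)).symm
      have hcases : d 0 = d 1 ∨ d 1 = d 2 ∨ d 0 = d 2 := by
        have ha : a = 0 ∨ a = 1 ∨ a = 2 := by fin_cases a <;> simp
        have hb : b = 0 ∨ b = 1 ∨ b = 2 := by fin_cases b <;> simp
        rcases ha with rfl | rfl | rfl <;> rcases hb with rfl | rfl | rfl <;>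
          first
            | exact absurd rfl hne
            | exact Or.inl hab
            | exact Or.inl hab.symm
            | exact Or.inr (Or.inl hab)
            | exact Or.inr (Or.inl hab.symm)
            | exact Or.inr (Or.inr hab)
            | exact Or.inr (Or.inr hab.symm)
      rcases hcases with e | e | e
      · exact ⟨e, e01 e⟩
      · exact ⟨e12 e, e⟩
      · exact ⟨e02 e, e01 (e02 e)⟩
    apply hns
    refine Matrix.SpecialLinearGroup.mem_center_iff.2 ⟨d 0, ?_, ?_⟩
    · rw [Fintype.card_fin]; exact cube hF (hd0 0)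
    · have hdd : Matrix.diagonal d = Matrix.scalar (Fin 3) (d 0) := by
        rw [Matrix.scalar_apply]; congr 1; funext i
        fin_cases i
        · rfl
        · exact hall.1.symm
        · exact (hall.1.trans hall.2).symm
      rw [hdd] at hMP
      rw [← (Matrix.scalar_commute (d 0) (fun r => mul_comm _ r) P0).eq] at hMP
      exact (hP0.mul_right_cancel hMP).symm
  have hkinj : Function.Injective k := fun a b h => hdinj (show d a = d b from congrArg (![1, w, w ^ 2] : Fin 3 → F) h)
  let σ : Fin 3 ≃ Fin 3 := Equiv.ofBijective k (Finite.injective_iff_bijective.1 hkinj)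
  let P1 : Matrix (Fin 3) (Fin 3) F := P0.submatrix id σ.symm
  have hMP1 : M * P1 = P1 * dd w := by
    ext i j
    have := congrFun (congrFun hMP i) (σ.symm j)
    rw [dd, Matrix.mul_diagonal]
    rw [Matrix.mul_diagonal] at this
    show _ = P0 i (σ.symm j) * _
    rw [show (![1, w, w ^ 2] : Fin 3 → F) j = d (σ.symm j) from congrArg _ (σ.apply_symm_apply j).symm]
    exact this
  have hP1 : P1.det ≠ 0 := by
    rw [← isUnit_iff_ne_zero, ← Matrix.isUnit_iff_isUnit_det, ← Matrix.linearIndependent_cols_iff_isUnit]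
    exact (hBli.comp eB eB.injective).comp σ.symm σ.symm.injective
  refine ⟨⟨P1 * Matrix.diagonal ![P1.det⁻¹, 1, 1], ?_⟩, ?_⟩
  · rw [Matrix.det_mul, Matrix.det_diagonal, Fin.prod_univ_three]
    simp [hP1]
  · show M * (P1 * _) = P1 * _ * dd w
    rw [← mul_assoc, hMP1, mul_assoc, mul_assoc, dd, Matrix.diagonal_mul_diagonal, Matrix.diagonal_mul_diagonal]
    congr 2; funext i; ring

theorem exists_gen (hF : Fintype.card F = 4) {w : F} (h0 : w ≠ 0) :
    ∃ D : Matrix.SpecialLinearGroup (Fin 3) F, (D : Matrix (Fin 3) (Fin 3) F) = dd w := by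
  refine ⟨⟨dd w, ?_⟩, rfl⟩
  rw [dd, Matrix.det_diagonal, Fin.prod_univ_three]
  simp [← pow_succ', cube hF h0]

theorem psl_conj (hF : Fintype.card F = 4) {w : F} (h0 : w ≠ 0) (h1 : w ≠ 1) (D : Matrix.SpecialLinearGroup (Fin 3) F)
    (hD : (D : Matrix (Fin 3) (Fin 3) F) = dd w) (g : Matrix.ProjectiveSpecialLinearGroup (Fin 3) F) (hg : orderOf g = 3) :
    ∃ h : Matrix.ProjectiveSpecialLinearGroup (Fin 3) F, h⁻¹ * g * h = (QuotientGroup.mk D : Matrix.ProjectiveSpecialLinearGroup (Fin 3) F) := by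
  obtain ⟨x, rfl⟩ := QuotientGroup.mk_surjective g
  have hns : x ∉ Subgroup.center (Matrix.SpecialLinearGroup (Fin 3) F) := fun h => by
    rw [(QuotientGroup.eq_one_iff x).2 h, orderOf_one] at hg; omega
  have hx3 : x ^ 3 ∈ Subgroup.center (Matrix.SpecialLinearGroup (Fin 3) F) := by
    rw [← QuotientGroup.eq_one_iff, QuotientGroup.mk_pow]
    have h3 := pow_orderOf_eq_one (QuotientGroup.mk x : Matrix.ProjectiveSpecialLinearGroup (Fin 3) F)
    rwa [hg] at h3
  obtain ⟨P, hP⟩ := conj_diag hF h0 h1 x hx3 hns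
  have h2 : x * P = P * D := Subtype.ext (by rw [Matrix.SpecialLinearGroup.coe_mul, Matrix.SpecialLinearGroup.coe_mul, hD]; exact hP)
  refine ⟨(P : Matrix.ProjectiveSpecialLinearGroup (Fin 3) F), ?_⟩
  rw [← QuotientGroup.mk_inv, ← QuotientGroup.mk_mul, ← QuotientGroup.mk_mul, mul_assoc, h2, inv_mul_cancel_left]

/-- In the projective special linear group PSL(3, 4) all subgroups of order 3 are conjugate. -/
theorem result (F : Type*) [Field F] [Fintype F] (hF : Fintype.card F = 4) (X Y : Subgroup (Matrix.ProjectiveSpecialLinearGroup (Fin 3) F)) (hX : Nat.card ↥X = 3) (hY : Nat.card ↥Y = 3) : ∃ g : Matrix.ProjectiveSpecialLinearGroup (Fin 3) F, MulAut.conj g • X = Y := by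
  obtain ⟨w, h0, h1⟩ := exists_omega hF
  obtain ⟨D, hD⟩ := exists_gen hF h0
  have key : ∀ Z : Subgroup (Matrix.ProjectiveSpecialLinearGroup (Fin 3) F), Nat.card Z = 3 →
      ∃ h : Matrix.ProjectiveSpecialLinearGroup (Fin 3) F, MulAut.conj h • Z = Subgroup.zpowers (QuotientGroup.mk D) := by
    intro Z hZ
    haveI : IsCyclic Z := isCyclic_of_prime_card hZ
    obtain ⟨a, ha⟩ := IsCyclic.exists_ofOrder_eq_natCard (α := Z)
    rw [hZ, ← Subgroup.orderOf_coe] at ha
    obtain ⟨h, hh⟩ := psl_conj hF h0 h1 D hD _ ha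
    refine ⟨h⁻¹, ?_⟩
    have hZa : Z = Subgroup.zpowers (a : Matrix.ProjectiveSpecialLinearGroup (Fin 3) F) :=
      (Subgroup.eq_of_le_of_card_ge ((Subgroup.zpowers_le).2 a.2) (by rw [hZ, Nat.card_zpowers, ha])).symm
    rw [hZa]
    show (Subgroup.zpowers _).map (MulAut.conj h⁻¹).toMonoidHom = _
    rw [MonoidHom.map_zpowers]
    congr 1
    rw [← hh]
    simp [MulAut.conj_apply]
  obtain ⟨a, ha⟩ := key X hX
  obtain ⟨b, hb⟩ := key Y hY
  refine ⟨b⁻¹ * a, ?_⟩
  rw [map_mul, mul_smul, ha, ← hb, map_inv, inv_smul_smul]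

end Cfsg.Agent.S2739
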