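import Cfsg.Statements.S0820
import Cfsg.Agent.S2739

set_option linter.style.haveILetI false

set_option autoImplicit false
open Cfsg

namespace Cfsg.Agent.S0820

open Matrix Cfsg.Agent.S2739

variable {F : Type*} [Field F] [Fintype F]

theorem two_eq_zero (hF : Fintype.card F = 4) : (2 : F) = 0 := by
  have h := three_eq_one hF
  linear_combination h

/-- A transvection. -/
def tt : Matrix (Fin 3) (Fin 3) F := !![1, 0, 1; 0, 1, 0; 0, 0, 1]

theorem conj_tv (hF : Fintype.card F = 4) (x : Matrix.SpecialLinearGroup (Fin 3) F) (hx : x * x = 1) (hx1 : x ≠ 1) :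
    ∃ P : Matrix.SpecialLinearGroup (Fin 3) F,
      (x : Matrix (Fin 3) (Fin 3) F) * (P : Matrix (Fin 3) (Fin 3) F) = (P : Matrix (Fin 3) (Fin 3) F) * tt := by
  classical
  set M : Matrix (Fin 3) (Fin 3) F := (x : Matrix (Fin 3) (Fin 3) F) with hM
  have hMM : M * M = 1 := by rw [hM, ← Matrix.SpecialLinearGroup.coe_mul, hx, Matrix.SpecialLinearGroup.coe_one]
  let N : (Fin 3 → F) →ₗ[F] (Fin 3 → F) := Matrix.toLin' M - 1
  have hN : ∀ v, N v = M *ᵥ v - v := fun v => rfl
  have hN2 : ∀ v, N (N v) = 0 := by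
    intro v
    rw [hN, hN, mulVec_sub, mulVec_mulVec, hMM, one_mulVec]
    funext i
    simp only [Pi.sub_apply, Pi.zero_apply]
    linear_combination (v i - (M *ᵥ v) i) * two_eq_zero hF
  obtain ⟨v₀, hv₀⟩ : ∃ v, N v ≠ 0 := by
    by_contra h
    push Not at h
    apply hx1
    refine Subtype.ext ?_
    refine Matrix.ext_of_mulVec_single fun j => ?_
    have := sub_eq_zero.1 ((hN _).symm.trans (h (Pi.single j 1)))
    rw [this, Matrix.SpecialLinearGroup.coe_one, one_mulVec]
  set u := N v₀ with hu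
  have huk : u ∈ LinearMap.ker N := hN2 v₀
  obtain ⟨z, hz, hzu⟩ : ∃ z ∈ LinearMap.ker N, z ∉ Submodule.span F {u} := by
    by_contra h
    push Not at h
    have h1 := LinearMap.finrank_range_add_finrank_ker N
    have h2 : Module.finrank F (LinearMap.ker N) ≤ 1 :=
      (Submodule.finrank_mono h).trans (finrank_span_singleton hv₀).le
    have h3 : Module.finrank F (LinearMap.range N) ≤ Module.finrank F (LinearMap.ker N) :=
      Submodule.finrank_mono (by rintro _ ⟨v, rfl⟩; exact hN2 v)
    rw [Module.finrank_fintype_fun_eq_card, Fintype.card_fin] at h1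
    omega
  let P0 : Matrix (Fin 3) (Fin 3) F := Matrix.of fun i j => (![u, z, v₀] : Fin 3 → Fin 3 → F) j i
  have hP0 : P0.det ≠ 0 := by
    rw [← isUnit_iff_ne_zero, ← Matrix.isUnit_iff_isUnit_det, ← Matrix.linearIndependent_cols_iff_isUnit]
    show LinearIndependent F ![u, z, v₀]
    rw [Fintype.linearIndependent_iff]
    intro g hg
    rw [Fin.sum_univ_three] at hg
    simp only [Matrix.cons_val_zero, Matrix.cons_val_one, Matrix.cons_val_two, Matrix.cons_val] at hg
    have h2 := congrArg N hg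
    rw [map_add, map_add, map_smul, map_smul, map_smul, LinearMap.mem_ker.1 huk, LinearMap.mem_ker.1 hz, map_zero,
      smul_zero, smul_zero, zero_add, zero_add] at h2
    have g2 : g 2 = 0 := (smul_eq_zero.1 h2).resolve_right hv₀
    rw [g2, zero_smul, add_zero] at hg
    have g1 : g 1 = 0 := by
      by_contra h
      refine hzu (Submodule.mem_span_singleton.2 ⟨-(g 1)⁻¹ * g 0, ?_⟩)
      rw [eq_comm, ← sub_eq_zero, ← smul_right_inj h, smul_zero, smul_sub, smul_smul,
        show g 1 * (-(g 1)⁻¹ * g 0) = -g 0 by field_simp, neg_smul, sub_neg_eq_add, add_comm, hg]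
    rw [g1, zero_smul, add_zero] at hg
    have g0 : g 0 = 0 := (smul_eq_zero.1 hg).resolve_right hv₀
    intro i
    fin_cases i
    · exact g0
    · exact g1
    · exact g2
  have hu1 : M *ᵥ u = u := sub_eq_zero.1 ((hN u).symm.trans huk)
  have hz1 : M *ᵥ z = z := sub_eq_zero.1 ((hN z).symm.trans hz)
  have hv1 : M *ᵥ v₀ = v₀ + u := by rw [hu, hN]; abel
  have hMP : M * P0 = P0 * tt := by
    ext i j
    have hj : j = 0 ∨ j = 1 ∨ j = 2 := by fin_cases j <;> simp
    rcases hj with rfl | rfl | rfl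
    · exact ((congrFun hu1 i).trans (by simp [Matrix.mul_apply, tt, P0, Fin.sum_univ_three]))
    · exact ((congrFun hz1 i).trans (by simp [Matrix.mul_apply, tt, P0, Fin.sum_univ_three]))
    · exact ((congrFun hv1 i).trans (by simp [Matrix.mul_apply, tt, P0, Fin.sum_univ_three, add_comm]))
  refine ⟨⟨P0 * Matrix.diagonal ![1, P0.det⁻¹, 1], ?_⟩, ?_⟩
  · rw [Matrix.det_mul, Matrix.det_diagonal, Fin.prod_univ_three]
    simp [hP0]
  · show M * (P0 * _) = P0 * _ * tt
    rw [← mul_assoc, hMP, mul_assoc, mul_assoc]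
    congr 1
    ext i j
    fin_cases i <;> fin_cases j <;> simp [tt, Matrix.mul_apply, Fin.sum_univ_three]

/-- Any two elements of order 2 of PSL_3(4) are conjugate. -/
theorem result {F : Type*} [Field F] [Fintype F] (hF : Fintype.card F = 4) (x y : Matrix.ProjectiveSpecialLinearGroup (Fin 3) F) (hx : orderOf x = 2) (hy : orderOf y = 2) : IsConj x y := by
  classical
  obtain ⟨T, hT⟩ : ∃ T : Matrix.SpecialLinearGroup (Fin 3) F, (T : Matrix (Fin 3) (Fin 3) F) = tt :=
    ⟨⟨tt, by simp [tt, Matrix.det_fin_three]⟩, rfl⟩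
  have key : ∀ g : Matrix.ProjectiveSpecialLinearGroup (Fin 3) F, orderOf g = 2 →
      IsConj (QuotientGroup.mk T : Matrix.ProjectiveSpecialLinearGroup (Fin 3) F) g := by
    intro g hg
    obtain ⟨a, rfl⟩ := QuotientGroup.mk_surjective g
    have ha2 : a * a ∈ Subgroup.center (Matrix.SpecialLinearGroup (Fin 3) F) := by
      rw [← QuotientGroup.eq_one_iff, QuotientGroup.mk_mul, ← pow_two]
      have h2 := pow_orderOf_eq_one (QuotientGroup.mk a : Matrix.ProjectiveSpecialLinearGroup (Fin 3) F)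
      rwa [hg] at h2
    set z := a * a with hz
    have hz3 : z ^ 3 = 1 := by
      obtain ⟨c, hc1, hc⟩ := Matrix.SpecialLinearGroup.mem_center_iff.1 ha2
      rw [Fintype.card_fin] at hc1
      refine Subtype.ext ?_
      rw [Matrix.SpecialLinearGroup.coe_pow, ← hc, ← map_pow, hc1, map_one]
      rfl
    have hsq : (a * z) * (a * z) = 1 := by
      rw [← mul_assoc, mul_assoc a z a, ← Subgroup.mem_center_iff.1 ha2 a, ← mul_assoc a a z, ← hz, ← pow_three']
      exact hz3
    have hne : a * z ≠ 1 := by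
      intro h
      have h1 : (QuotientGroup.mk (a * z) : Matrix.ProjectiveSpecialLinearGroup (Fin 3) F) = 1 := by rw [h]; rfl
      rw [QuotientGroup.mk_mul, (QuotientGroup.eq_one_iff z).2 ha2, mul_one] at h1
      rw [h1, orderOf_one] at hg
      exact absurd hg (by norm_num)
    obtain ⟨P, hP⟩ := conj_tv hF (a * z) hsq hne
    have h3 : a * z * P = P * T :=
      Subtype.ext (by rw [Matrix.SpecialLinearGroup.coe_mul _ P, Matrix.SpecialLinearGroup.coe_mul P, hT]; exact hP)
    refine isConj_iff.2 ⟨(QuotientGroup.mk P : Matrix.ProjectiveSpecialLinearGroup (Fin 3) F), ?_⟩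
    rw [← QuotientGroup.mk_inv, ← QuotientGroup.mk_mul, ← QuotientGroup.mk_mul, ← h3, mul_inv_cancel_right,
      QuotientGroup.mk_mul, (QuotientGroup.eq_one_iff z).2 ha2, mul_one]
  exact (key x hx).symm.trans (key y hy)

end Cfsg.Agent.S0820
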