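import Cfsg.Statements.S0115
import Cfsg.Agent.Lib.TwoGroup.MaximalClass

set_option autoImplicit false
open Cfsg

namespace Cfsg.Agent.S0115


/-- A 2-group of order 2^n, n ≥ 3, is of maximal class exactly when its commutator quotient is a Klein four-group. -/
theorem result {X : Type*} [Group X] [Finite X] (n : ℕ) (hn : 3 ≤ n) (hX : Nat.card X = 2 ^ n) : Group.nilpotencyClass X = n - 1 ↔ IsKleinFour (X ⧸ commutator X) := by
  constructor
  · intro hc
    obtain ⟨h4, hsq⟩ := Cfsg.Lib.TwoGroup.MaximalClass.index_commutator_of_class hn hX hc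
    have hcard : Nat.card (X ⧸ commutator X) = 4 := by rw [← Subgroup.index_eq_card]; exact h4
    refine ⟨hcard, ?_⟩
    haveI : Nontrivial (X ⧸ commutator X) := Finite.one_lt_card_iff_nontrivial.1 (by omega)
    have h2 : Monoid.exponent (X ⧸ commutator X) ∣ 2 := Monoid.exponent_dvd_of_forall_pow_eq_one fun q => by
      obtain ⟨x, rfl⟩ := QuotientGroup.mk'_surjective _ q
      rw [← map_pow]
      exact (QuotientGroup.eq_one_iff _).2 (hsq x)
    rcases (Nat.dvd_prime Nat.prime_two).1 h2 with h | h
    · exact absurd (Monoid.exp_eq_one_iff.1 h) (not_subsingleton _)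
    · exact h
  · intro h
    exact Cfsg.Lib.TwoGroup.MaximalClass.class_of_index_four n hn X hX
      (by rw [Subgroup.index_eq_card]; exact h.card_four)

end Cfsg.Agent.S0115
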