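import Cfsg.Statements.S4399
import Cfsg.Agent.Lib.TwoGroup.MaximalClass

set_option autoImplicit false
open Cfsg

namespace Cfsg.Agent.S4399


/-- Let S be a finite 2-group whose commutator quotient S/[S,S] is a Klein four-group (order 4 and exponent 2). Then S itself has order 4, or S is dihedral of order at least 8, semidihedral of order at least 16 (order 2^(k+4) with an element a of order 2^(k+3) and an involution b with b a b⁻¹ = a^(2^(k+2)−1)), or generalized quaternion of order at least 8. -/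
theorem result {S : Type*} [Group S] [Finite S] (h2 : IsPGroup 2 S) (hab : Nat.card (Abelianization S) = 4)
    (hexp : ∀ x : Abelianization S, x ^ 2 = 1) :
    Nat.card S = 4 ∨
    ((∃ k : ℕ, Nonempty (S ≃* DihedralGroup (2 ^ (k + 2)))) ∨
      (∃ k : ℕ, Nat.card S = 2 ^ (k + 4) ∧ ∃ a b : S, orderOf a = 2 ^ (k + 3) ∧ orderOf b = 2 ∧ b * a * b⁻¹ = a ^ (2 ^ (k + 2) - 1)) ∨
      (∃ k : ℕ, Nonempty (S ≃* QuaternionGroup (2 ^ (k + 1))))) := by
  classical
  obtain ⟨n, hn⟩ := IsPGroup.iff_card.1 h2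
  have hidx : (commutator S).index = 4 := by rw [Subgroup.index_eq_card]; exact hab
  rcases Nat.lt_or_ge n 3 with hlt | hge
  · left
    have hdvd := (commutator S).index_dvd_card
    rw [hidx, hn] at hdvd
    have h4 := Nat.le_of_dvd (Nat.two_pow_pos n) hdvd
    interval_cases n <;> simp_all
  · right
    have hc := Cfsg.Lib.TwoGroup.MaximalClass.class_of_index_four n hge S hn hidx
    obtain ⟨a, b, ha, hb, htop, hrel⟩ :=
      Cfsg.Lib.TwoGroup.MaximalClass.exists_generators_of_class hge hn hc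
    obtain ⟨w, rfl⟩ : ∃ w, n = w + 3 := ⟨n - 3, by omega⟩
    have eS : S ≃* ↥(Subgroup.closure ({a, b} : Set S)) :=
      Subgroup.topEquiv.symm.trans (MulEquiv.subgroupCongr htop.symm)
    rw [show w + 3 - 1 = w + 2 from rfl] at ha
    rcases hrel with ⟨hb2, hinv⟩ | ⟨hb2, hinv⟩ | ⟨h4, hb2, hconj⟩
    · obtain ⟨e⟩ := Cfsg.Lib.TwoGroup.equiv_dihedral (r := a) (t := b) (by rw [← sq]; exact hb2) hinv hb
      rw [ha] at e
      exact Or.inl ⟨w, ⟨eS.trans e⟩⟩
    · obtain ⟨e⟩ := Cfsg.Lib.TwoGroup.equiv_quaternion (a := a) (b := b) (m := 2 ^ (w + 1))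
        (by rw [ha, pow_succ']) (by rw [← sq]; exact hb2) hinv hb
      exact Or.inr (Or.inr ⟨w, ⟨eS.trans e⟩⟩)
    · obtain ⟨k, rfl⟩ : ∃ k, w = k + 1 := ⟨w - 1, by omega⟩
      refine Or.inr (Or.inl ⟨k, hn, a, b, ha, ?_, hconj⟩)
      exact orderOf_eq_prime hb2 (fun h => hb (h ▸ one_mem _))

end Cfsg.Agent.S4399
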