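import Cfsg.Statements.S3951
import Cfsg.Agent.Lib.Schur.TwoGen
-- import your own Cfsg.Agent.* helpers here

set_option autoImplicit false
open Cfsg

namespace Cfsg.Agent.S3951

open Cfsg.Lib.Schur Subgroup
open scoped commutatorElement

/-- The pairing defining the cover. -/
def pairing {m n : ℕ} (hnm : n ∣ m) : Pairing (Multiplicative (ZMod m × ZMod n)) (Multiplicative (ZMod n)) where
  toFun g k := Multiplicative.ofAdd (ZMod.castHom hnm (ZMod n) (Multiplicative.toAdd g).1 * (Multiplicative.toAdd k).2)
  map_mul_left a b c := by rw [toAdd_mul, Prod.fst_add, map_add, add_mul, ofAdd_add]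
  map_mul_right a b c := by rw [toAdd_mul, Prod.snd_add, mul_add, ofAdd_add]


/-- For positive integers `m` and `n` with `n` dividing `m`, the Schur multiplier of the abelian group `ZMod m × ZMod n` (written multiplicatively) is cyclic of order `n`. In particular the elementary abelian group of order `p ^ 2` has multiplier of order `p`. -/
theorem result (m n : ℕ) [NeZero m] [NeZero n] (hnm : n ∣ m) : Cfsg.HasCyclicSchurMultiplier (Multiplicative (ZMod m × ZMod n)) n := by
  refine ⟨⟨(pairing hnm).Ext, inferInstance, inferInstance, (pairing hnm).proj,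
    (pairing hnm).isStemExtension fun z => ?_, ⟨(pairing hnm).kerEquiv⟩⟩, fun Γ _ _ σ hσ => ?_⟩
  · obtain ⟨c, hc⟩ := ZMod.castHom_surjective hnm (Multiplicative.toAdd z)
    refine ⟨Multiplicative.ofAdd (c, 0), Multiplicative.ofAdd (0, 1), mul_comm _ _, ?_⟩
    simp only [pairing, toAdd_ofAdd, hc, map_zero, zero_mul, mul_one, ofAdd_zero, inv_one]
    exact ofAdd_toAdd z
  · obtain ⟨x, hx⟩ := hσ.1 (Multiplicative.ofAdd ((1, 0) : ZMod m × ZMod n))
    obtain ⟨y, hy⟩ := hσ.1 (Multiplicative.ofAdd ((0, 1) : ZMod m × ZMod n))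
    have hker : ⁅x, y⁆ ∈ σ.ker := by
      show σ _ = 1
      rw [map_commutatorElement]
      exact commutatorElement_eq_one_iff_mul_comm.mpr (mul_comm _ _)
    have hcen := mem_center_iff.mp (hσ.2.1 hker)
    have hyn : y ^ n ∈ Subgroup.center Γ := hσ.2.1 (by
      show σ _ = 1
      rw [map_pow, hy, ← ofAdd_nsmul]
      simp)
    have hN : (Subgroup.zpowers ⁅x, y⁆).Normal := ⟨fun w hw g => by
      obtain ⟨i, rfl⟩ := mem_zpowers_iff.mp hw
      rw [((show Commute g ⁅x, y⁆ from hcen g).zpow_right i).eq, mul_inv_cancel_right]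
      exact hw⟩
    have hgen : closure ({Multiplicative.ofAdd ((1, 0) : ZMod m × ZMod n),
        Multiplicative.ofAdd ((0, 1) : ZMod m × ZMod n)} : Set (Multiplicative (ZMod m × ZMod n))) = ⊤ := by
      refine eq_top_iff.mpr fun g _ => ?_
      have h1 := pow_mem (subset_closure (Set.mem_insert (Multiplicative.ofAdd ((1, 0) : ZMod m × ZMod n))
        {Multiplicative.ofAdd ((0, 1) : ZMod m × ZMod n)})) (Multiplicative.toAdd g).1.val
      have h2 := pow_mem (subset_closure (show Multiplicative.ofAdd ((0, 1) : ZMod m × ZMod n) ∈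
        ({Multiplicative.ofAdd ((1, 0) : ZMod m × ZMod n), Multiplicative.ofAdd ((0, 1) : ZMod m × ZMod n)} : Set _)
        from Or.inr rfl)) (Multiplicative.toAdd g).2.val
      convert mul_mem h1 h2
      refine Multiplicative.toAdd.injective ?_
      ext <;> simp [toAdd_pow, ZMod.natCast_zmod_val]
    refine exists_surjection_of_zpowers hker (hσ.2.2.trans ?_) ?_
    · exact commutator_le_of_two (closure_sup_center hσ.2.1 {x, y} (by rw [Set.image_pair, hx, hy, hgen])) _
        (mem_zpowers _)
    · have key : ∀ k : ℕ, ⁅x, y ^ k⁆ = ⁅x, y⁆ ^ k := by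
        intro k
        induction k with
        | zero => simp [commutatorElement_def]
        | succ k ih =>
          rw [pow_succ y, pow_succ ⁅x, y⁆, ← ih]
          calc ⁅x, y ^ k * y⁆ = ⁅x, y ^ k⁆ * (y ^ k * ⁅x, y⁆ * (y ^ k)⁻¹) := by
                simp [commutatorElement_def, mul_assoc]
            _ = ⁅x, y ^ k⁆ * ⁅x, y⁆ := by rw [hcen (y ^ k), mul_inv_cancel_right]
      rw [← key]
      exact commutatorElement_eq_one_iff_mul_comm.mpr (mem_center_iff.mp hyn x)

end Cfsg.Agent.S3951
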