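import Cfsg.Statements.S3966
import Mathlib.Tactic.LinearCombination
-- import your own Cfsg.Agent.* helpers here

set_option autoImplicit false
open Cfsg

namespace Cfsg.Agent.S3966

open QuaternionGroup
open scoped commutatorElement

/-- The projection of the dicyclic group. -/
def proj (n : ℕ) : QuaternionGroup n →* DihedralGroup n where
  toFun
    | .a i => .r (ZMod.castHom (dvd_mul_left n 2) (ZMod n) i)
    | .xa i => .sr (ZMod.castHom (dvd_mul_left n 2) (ZMod n) i)
  map_one' := by
    rw [QuaternionGroup.one_def]
    simp
  map_mul' x y := by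
    cases x <;> cases y <;> simp

theorem stem (n : ℕ) [NeZero n] (hn : Even n) : Cfsg.IsStemExtension (proj n) ∧ Nat.card (proj n).ker = 2 := by
  have hker : ∀ x, x ∈ (proj n).ker ↔ x = a 0 ∨ x = a (n : ZMod (2 * n)) := by
    intro x
    rw [MonoidHom.mem_ker]
    cases x with
    | a i =>
      show DihedralGroup.r (ZMod.castHom (dvd_mul_left n 2) (ZMod n) i) = 1 ↔ _
      rw [← DihedralGroup.r_zero, DihedralGroup.r.injEq]
      simp only [QuaternionGroup.a.injEq]
      constructor
      · intro hi
        rw [← ZMod.natCast_zmod_val i, map_natCast, ZMod.natCast_eq_zero_iff] at hi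
        obtain ⟨k, hk⟩ := hi
        have hlt := i.val_lt
        have : k < 2 := by
          by_contra hc
          have := Nat.mul_le_mul_left n (show 2 ≤ k by omega)
          omega
        interval_cases k
        · left; rw [← ZMod.natCast_zmod_val i, hk, mul_zero, Nat.cast_zero]
        · right; rw [← ZMod.natCast_zmod_val i, hk, mul_one]
      · rintro (rfl | rfl)
        · exact map_zero _
        · rw [map_natCast, ZMod.natCast_self]
    | xa i =>
      show DihedralGroup.sr _ = 1 ↔ _
      rw [← DihedralGroup.r_zero]
      refine iff_of_false (fun h => by cases h) ?_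
      rintro (h | h) <;> cases h
  have hne : (a 0 : QuaternionGroup n) ≠ a (n : ZMod (2 * n)) := by
    intro h
    rw [QuaternionGroup.a.injEq, eq_comm, ZMod.natCast_eq_zero_iff] at h
    have := Nat.le_of_dvd (Nat.pos_of_ne_zero (NeZero.ne n)) h
    have := Nat.pos_of_ne_zero (NeZero.ne n)
    omega
  refine ⟨⟨?_, ?_, ?_⟩, ?_⟩
  · intro y
    cases y with
    | r i =>
      obtain ⟨j, hj⟩ := ZMod.castHom_surjective (dvd_mul_left n 2) i
      exact ⟨a j, congrArg DihedralGroup.r hj⟩
    | sr i =>
      obtain ⟨j, hj⟩ := ZMod.castHom_surjective (dvd_mul_left n 2) i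
      exact ⟨xa j, congrArg DihedralGroup.sr hj⟩
  · intro x hx
    rw [Subgroup.mem_center_iff]
    intro y
    rcases (hker x).mp hx with rfl | rfl
    · cases y <;> simp
    · cases y with
      | a j => simp [add_comm]
      | xa j =>
        simp only [xa_mul_a, a_mul_xa, QuaternionGroup.xa.injEq]
        have h2 : (n : ZMod (2 * n)) + n = 0 := by
          rw [← Nat.cast_add, ← two_mul, ZMod.natCast_self]
        linear_combination h2
  · intro x hx
    rcases (hker x).mp hx with rfl | rfl
    · exact one_mem _
    · obtain ⟨k, hk⟩ := hn
      have : a (n : ZMod (2 * n)) = ⁅(a (k : ZMod (2 * n)) : QuaternionGroup n), xa 0⁆ := by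
        rw [commutatorElement_def, eq_mul_inv_iff_mul_eq, eq_mul_inv_iff_mul_eq, a_mul_xa, a_mul_xa, xa_mul_a, QuaternionGroup.xa.injEq]
        have h2 : (n : ZMod (2 * n)) + n = 0 := by
          rw [← Nat.cast_add, ← two_mul, ZMod.natCast_self]
        have hk' : (n : ZMod (2 * n)) = k + k := by rw [← Nat.cast_add, ← hk]
        first | linear_combination hk' - h2 | linear_combination h2 - hk' | linear_combination hk' | linear_combination -hk' | linear_combination h2 - 2 * hk' | linear_combination h2 + (-2) * hk'
      rw [this]
      exact Subgroup.commutator_mem_commutator (Subgroup.mem_top _) (Subgroup.mem_top _)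
  · rw [← SetLike.coe_sort_coe, Nat.card_coe_set_eq,
      show ((proj n).ker : Set (QuaternionGroup n)) = {a 0, a (n : ZMod (2 * n))} from Set.ext hker,
      Set.ncard_pair hne]


/-- For even `n ≥ 2` the dicyclic group of order `4 n` is a stem extension of the dihedral group of order `2 n` with kernel of order `2`: there is a surjective homomorphism `QuaternionGroup n →* DihedralGroup n` whose kernel is central, lies in the commutator subgroup and has two elements. Together with the order of the multiplier this exhibits the dicyclic group as a Schur covering group of the dihedral group. -/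
theorem result (n : ℕ) [NeZero n] (hn : Even n) : ∃ σ : QuaternionGroup n →* DihedralGroup n, Cfsg.IsStemExtension σ ∧ Nat.card σ.ker = 2 := by
  exact ⟨proj n, stem n hn⟩

end Cfsg.Agent.S3966
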