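import Cfsg.Statements.S3965
import Cfsg.Agent.Lib.Schur.TwoGen
import Cfsg.Agent.S3966
-- import your own Cfsg.Agent.* helpers here

set_option autoImplicit false
open Cfsg

namespace Cfsg.Agent.S3965

open Cfsg.Lib.Schur Subgroup


/-- For even `n ≥ 2` the dihedral group of order `2 n` has Schur multiplier cyclic of order `2`. -/
theorem result (n : ℕ) [NeZero n] (hn : Even n) : Cfsg.HasCyclicSchurMultiplier (DihedralGroup n) 2 := by
  obtain ⟨hstem, hcard⟩ := S3966.stem n hn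
  refine ⟨⟨QuaternionGroup n, inferInstance, inferInstance, S3966.proj n, hstem, ?_⟩, fun Γ _ _ σ hσ => ?_⟩
  · have : Fact (Nat.Prime 2) := ⟨Nat.prime_two⟩
    exact ⟨mulEquivOfPrimeCardEq (p := 2) hcard (by rw [Nat.card_congr Multiplicative.toAdd, Nat.card_zmod])⟩
  · obtain ⟨c, hc, hk⟩ := dihedral_stem hσ
    obtain ⟨k, hk'⟩ := hn
    have hgen : ∀ x ∈ σ.ker, x ∈ Subgroup.zpowers (c ^ k) := by
      intro x hx
      obtain ⟨i, hi, hd⟩ := hk x hx
      obtain ⟨j, rfl⟩ : (k : ℤ) ∣ i := by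
        have h2 : (2 : ℤ) * k ∣ 2 * i := by
          refine dvd_trans (dvd_of_eq ?_) hd
          rw [hk']; push_cast; ring
        exact (mul_dvd_mul_iff_left two_ne_zero).mp h2
      exact Subgroup.mem_zpowers_iff.mpr ⟨j, by rw [← hi, zpow_mul, zpow_natCast]⟩
    by_cases hd : c ^ k ∈ σ.ker
    · refine exists_surjection_of_zpowers hd hgen ?_
      rw [← pow_mul, mul_two, ← hk', hc]
    · refine ⟨1, fun x => ⟨1, ?_⟩⟩
      obtain ⟨i, hi⟩ := Subgroup.mem_zpowers_iff.mp (hgen x x.2)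
      rcases Int.even_or_odd' i with ⟨l, rfl | rfl⟩
      · rw [zpow_mul, zpow_ofNat, ← pow_mul, mul_two, ← hk', hc, one_zpow] at hi
        exact Subtype.ext hi
      · rw [zpow_add, zpow_one, zpow_mul, zpow_ofNat, ← pow_mul, mul_two, ← hk', hc, one_zpow, one_mul] at hi
        exact absurd (hi ▸ x.2) hd

end Cfsg.Agent.S3965
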