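import Cfsg.Statements.S4458
import Cfsg.Agent.Lib.Char.TwoDegrees
import Mathlib.GroupTheory.Nilpotent


set_option autoImplicit false
open Cfsg
open scoped commutatorElement

namespace Cfsg.Agent.S4458

/-- If a finite group has exactly two irreducible character degrees, 1 and m with m ≠ 1, then its commutator subgroup is abelian. -/
theorem result {G : Type*} [Group G] [Finite G] (m : ℕ) (hcd : ∀ χ : Cfsg.IrrCharacter G, Cfsg.charDegree (χ : G → ℂ) = 1 ∨ Cfsg.charDegree (χ : G → ℂ) = m) (hm : ∃ χ : Cfsg.IrrCharacter G, Cfsg.charDegree (χ : G → ℂ) = m) (hm1 : m ≠ 1) : ∀ a ∈ commutator G, ∀ b ∈ commutator G, a * b = b * a := by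
  classical
  haveI := Fintype.ofFinite G
  have hcd' : ∀ χ : Cfsg.IrrCharacter G, (χ : G → ℂ) 1 = 1 ∨ (χ : G → ℂ) 1 = (m : ℂ) := fun χ => by
    rw [χ.2.apply_one_eq_charDegree]
    exact_mod_cast hcd χ
  obtain ⟨χ₀, hχ₀⟩ := hm
  have hex : ∃ χ : Cfsg.IrrCharacter G, (χ : G → ℂ) 1 = (m : ℂ) :=
    ⟨χ₀, by rw [χ₀.2.apply_one_eq_charDegree, hχ₀]⟩
  have hm2 : 1 < m := by
    have h := χ₀.2.charDegree_pos
    rw [hχ₀] at h
    omega
  intro a ha b hb
  rcases Cfsg.Lib.Char.two_degree_structure hm2 hcd' hex with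
    ⟨N, -, hNc, -, hGN⟩ | ⟨p, e, hp, -, P, A, hP, hA, hPp, -, hAz, hinf, hsup⟩
  · exact hNc a (hGN ha) b (hGN hb)
  haveI := hA
  haveI := hP
  haveI := Fact.mk hp
  obtain ⟨π, hπs, hπ, -⟩ := Cfsg.Lib.Char.exists_projection A P hinf hsup
  haveI := Fintype.ofFinite P
  haveI : Group.IsNilpotent P := hPp.isNilpotent
  have hle : commutator G ≤ (commutator P).map P.subtype := by
    rw [commutator_def, Subgroup.commutator_le]
    intro x _ y _
    obtain ⟨s, hs, c, hc, rfl⟩ :=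
      Subgroup.mem_sup_of_normal_right.mp (hsup ▸ Subgroup.mem_top x : x ∈ P ⊔ A)
    obtain ⟨t, ht, d, hd, rfl⟩ :=
      Subgroup.mem_sup_of_normal_right.mp (hsup ▸ Subgroup.mem_top y : y ∈ P ⊔ A)
    have hc' := Subgroup.mem_center_iff.mp (hAz hc)
    have hd' := Subgroup.mem_center_iff.mp (hAz hd)
    refine ⟨⁅(⟨s, hs⟩ : P), ⟨t, ht⟩⁆, ?_, ?_⟩
    · rw [SetLike.mem_coe, commutator_def]
      exact Subgroup.commutator_mem_commutator (Subgroup.mem_top _) (Subgroup.mem_top _)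
    · rw [map_commutatorElement]
      simp only [Subgroup.coe_subtype, commutatorElement_def, mul_inv_rev]
      symm
      calc s * c * (t * d) * (c⁻¹ * s⁻¹) * (d⁻¹ * t⁻¹)
          = s * (c * (t * d) * c⁻¹) * s⁻¹ * d⁻¹ * t⁻¹ := by simp [mul_assoc]
        _ = s * t * (d * s⁻¹ * d⁻¹) * t⁻¹ := by
          rw [← hc', mul_inv_cancel_right]; simp [mul_assoc]
        _ = s * t * s⁻¹ * t⁻¹ := by rw [← hd', mul_inv_cancel_right]
  obtain ⟨a', ha', rfl⟩ := hle ha
  obtain ⟨b', hb', rfl⟩ := hle hb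
  exact congrArg Subtype.val (Cfsg.Lib.Char.metabelian_of_nilpotent
    (Cfsg.Lib.Char.degrees_of_surjective π hπs hcd') ha' hb')


end Cfsg.Agent.S4458
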