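import Cfsg.Statements.S0673
import Mathlib

set_option autoImplicit false
open Cfsg

namespace Cfsg.Agent.S0673

/-- In characteristic `p`, the translation-invariant subspaces of the space of functions on `ZMod p` are exactly the spaces of polynomial functions of degree less than `r`, one for each `r ≤ p`, of dimension `r`. -/
theorem result {p : ℕ} [Fact p.Prime] {K : Type*} [Field K] [CharP K p] (W : Submodule K (ZMod p → K)) (hW : ∀ f ∈ W, (fun j => f (j - 1)) ∈ W) : ∃ r : ℕ, r ≤ p ∧ Module.finrank K W = r ∧ ∀ f : ZMod p → K, f ∈ W ↔ ∃ P : Polynomial K, P.degree < r ∧ ∀ j : ZMod p, f j = P.eval (ZMod.cast j : K) := by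
  classical
  have hp : p.Prime := Fact.out
  let ev : Polynomial K →ₗ[K] (ZMod p → K) :=
    LinearMap.pi fun j => Polynomial.leval (ZMod.cast j : K)
  have hev : ∀ P j, ev P j = P.eval (ZMod.cast j : K) := fun P j => rfl
  have hcast : Function.Injective (fun j : ZMod p => (ZMod.cast j : K)) :=
    (ZMod.castHom dvd_rfl K).injective
  -- injectivity below degree `p`
  have hinj : ∀ P : Polynomial K, P.degree < p → ev P = 0 → P = 0 := by
    intro P hP h
    refine Polynomial.eq_zero_of_degree_lt_of_eval_index_eq_zero (s := (Finset.univ : Finset (ZMod p)))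
      (v := fun j : ZMod p => (ZMod.cast j : K)) hcast.injOn
      (by simpa [Finset.card_univ, ZMod.card] using hP) (fun j _ => ?_)
    rw [← hev, h]; rfl
  -- surjectivity
  have hsurj : ∀ f : ZMod p → K, ∃ P : Polynomial K, P.degree < p ∧ ev P = f := by
    intro f
    refine ⟨Lagrange.interpolate Finset.univ (fun j : ZMod p => (ZMod.cast j : K)) f, ?_, funext fun j => ?_⟩
    · have := Lagrange.degree_interpolate_lt (r := f) (s := (Finset.univ : Finset (ZMod p)))
        (v := fun j : ZMod p => (ZMod.cast j : K)) hcast.injOn
      simpa [Finset.card_univ, ZMod.card] using this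
    · rw [hev]
      exact Lagrange.eval_interpolate_at_node (r := f) hcast.injOn (Finset.mem_univ j)
  -- the shift
  have hshift : ∀ P : Polynomial K, ev P ∈ W → ev (Polynomial.taylor (-1) P) ∈ W := by
    intro P hP
    have e : ev (Polynomial.taylor (-1) P) = fun j => ev P (j - 1) := by
      funext j
      rw [hev, hev, Polynomial.taylor_eval, ← sub_eq_add_neg]
      congr 1
      have h := map_sub (ZMod.castHom dvd_rfl K) j 1
      rw [map_one] at h
      exact h.symm
    rw [e]; exact hW _ hP
  have hdown : ∀ n : ℕ, ∀ P : Polynomial K, P.natDegree = n → P ≠ 0 → n < p → ev P ∈ W →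
      ∀ Q : Polynomial K, Q.degree ≤ n → ev Q ∈ W := by
    intro n
    induction n with
    | zero =>
        intro P hPn hP0 _ hPW Q hQ
        rw [Polynomial.eq_C_of_natDegree_eq_zero hPn] at hP0 hPW
        have hc : P.coeff 0 ≠ 0 := fun h => hP0 (by rw [h, map_zero])
        rw [Polynomial.eq_C_of_degree_le_zero hQ,
          show Polynomial.C (Q.coeff 0) = (Q.coeff 0 / P.coeff 0) • Polynomial.C (P.coeff 0) by
            rw [Polynomial.smul_C, smul_eq_mul, div_mul_cancel₀ _ hc], map_smul]
        exact W.smul_mem _ hPW
    | succ n ih =>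
        intro P hPn hP0 hnp hPW Q hQ
        set a := P.coeff (n + 1) with ha
        have ha0 : a ≠ 0 := by
          rw [ha, ← hPn]; exact Polynomial.leadingCoeff_ne_zero.mpr hP0
        set R := P - Polynomial.taylor (-1) P with hR
        have hRW : ev R ∈ W := by rw [map_sub]; exact W.sub_mem hPW (hshift P hPW)
        have hhigh : ∀ i, n + 1 < i → P.coeff i = 0 := fun i hi =>
          Polynomial.coeff_eq_zero_of_natDegree_lt (by omega)
        have hRc : R.coeff n = (n + 1 : ℕ) * a := by
          have hh : Polynomial.hasseDeriv n P =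
              Polynomial.C (P.coeff n) + Polynomial.C (((n + 1 : ℕ) : K) * a) * Polynomial.X := by
            refine Polynomial.ext fun i => ?_
            rw [Polynomial.hasseDeriv_coeff, Polynomial.coeff_add, Polynomial.coeff_C,
              Polynomial.coeff_C_mul, Polynomial.coeff_X]
            rcases i with _ | _ | i
            · simp
            · rw [ha, show (0 + 1 + n).choose n = n + 1 by
                rw [show 0 + 1 + n = n + 1 by omega, Nat.choose_succ_self_right],
                show 0 + 1 + n = n + 1 by omega]
              simp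
            · rw [hhigh _ (by omega)]
              simp
          rw [hR, Polynomial.coeff_sub, Polynomial.taylor_coeff, hh]
          simp only [Polynomial.eval_add, Polynomial.eval_mul, Polynomial.eval_C, Polynomial.eval_X]
          ring
        have hnK : ((n + 1 : ℕ) : K) ≠ 0 := by
          intro h
          rw [CharP.cast_eq_zero_iff K p] at h
          exact absurd (Nat.le_of_dvd (Nat.succ_pos n) h) (by omega)
        have hR0 : R.coeff n ≠ 0 := by rw [hRc]; exact mul_ne_zero hnK ha0
        have hRd : R.natDegree = n := by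
          refine le_antisymm ?_ (Polynomial.le_natDegree_of_ne_zero hR0)
          rw [Polynomial.natDegree_le_iff_coeff_eq_zero]
          intro i hi
          rw [hR, Polynomial.coeff_sub]
          rcases eq_or_lt_of_le (Nat.succ_le_of_lt hi) with h | h
          · have h' : i = P.natDegree := by omega
            rw [h']
            conv_lhs => arg 2; rw [← Polynomial.natDegree_taylor P (-1)]
            rw [← Polynomial.leadingCoeff, ← Polynomial.leadingCoeff, Polynomial.leadingCoeff_taylor, sub_self]
          · rw [hhigh i h, Polynomial.coeff_eq_zero_of_natDegree_lt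
              (by rw [Polynomial.natDegree_taylor]; omega), sub_self]
        have hRne : R ≠ 0 := fun h => hR0 (by rw [h, Polynomial.coeff_zero])
        set c := Q.coeff (n + 1) / a with hc
        have hQ' : (Q - c • P).degree ≤ n := by
          rw [Polynomial.degree_le_iff_coeff_zero]
          intro i hi
          have hi' : n < i := by exact_mod_cast hi
          rw [Polynomial.coeff_sub, Polynomial.coeff_smul, smul_eq_mul]
          rcases eq_or_lt_of_le (Nat.succ_le_of_lt hi') with h | h
          · rw [← h, Nat.succ_eq_add_one, ← ha, hc, div_mul_cancel₀ _ ha0, sub_self]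
          · rw [hhigh i h, mul_zero, sub_zero]
            exact Polynomial.degree_le_iff_coeff_zero Q (n + 1 : ℕ) |>.mp hQ i (by exact_mod_cast h)
        have h1 := ih R hRd hRne (by omega) hRW _ hQ'
        rw [show Q = (Q - c • P) + c • P by abel, map_add, map_smul]
        exact W.add_mem h1 (W.smul_mem _ hPW)
  -- the degree bound
  have hex : ∃ r, r ≤ p ∧ ∀ f, f ∈ W ↔ ∃ P : Polynomial K, P.degree < r ∧ ev P = f := by
    have hP : ∃ r, r ≤ p ∧ ∀ f ∈ W, ∃ P : Polynomial K, P.degree < r ∧ ev P = f :=
      ⟨p, le_rfl, fun f _ => hsurj f⟩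
    refine ⟨Nat.find hP, (Nat.find_spec hP).1, fun f => ⟨(Nat.find_spec hP).2 f, ?_⟩⟩
    rintro ⟨Q, hQ, rfl⟩
    obtain ⟨r, hr⟩ : ∃ r, r = Nat.find hP := ⟨_, rfl⟩
    rw [← hr] at hQ
    rcases r with _ | r
    · have : Q = 0 := Polynomial.degree_eq_bot.mp (by
        rcases hd : Q.degree with _ | d
        · rfl
        · rw [hd] at hQ; exact absurd hQ (not_lt.mpr (WithBot.coe_le_coe.mpr (Nat.zero_le d))))
      rw [this, map_zero]; exact W.zero_mem
    · have hlt : r < Nat.find hP := by omega
      have hmin := Nat.find_min hP hlt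
      push Not at hmin
      obtain ⟨f, hf, hfP⟩ := hmin (by have := (Nat.find_spec hP).1; omega)
      obtain ⟨P, hPd, rfl⟩ := (Nat.find_spec hP).2 f hf
      rw [← hr] at hPd
      have hP0 : P ≠ 0 := by
        rintro rfl
        exact hfP 0 (by rw [Polynomial.degree_zero]; exact WithBot.bot_lt_coe r) rfl
      have hnd : P.natDegree = r := by
        have h1 : P.natDegree < r + 1 := (Polynomial.natDegree_lt_iff_degree_lt hP0).mpr hPd
        by_contra hne
        exact hfP P ((Polynomial.natDegree_lt_iff_degree_lt hP0).mp (by omega)) rfl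
      refine hdown r P hnd hP0 (by have := (Nat.find_spec hP).1; omega) hf Q ?_
      rcases hd : Q.degree with _ | d
      · exact bot_le
      · rw [hd] at hQ
        exact WithBot.coe_le_coe.mpr (Nat.lt_succ_iff.mp (WithBot.coe_lt_coe.mp hQ))
  obtain ⟨r, hrp, hr⟩ := hex
  refine ⟨r, hrp, ?_, fun f => ?_⟩
  · have hWeq : W = (Polynomial.degreeLT K r).map ev := by
      refine Submodule.ext fun f => ?_
      rw [hr, Submodule.mem_map]
      simp only [Polynomial.mem_degreeLT]
    have hinj' : Function.Injective (ev.domRestrict (Polynomial.degreeLT K r)) := by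
      rw [injective_iff_map_eq_zero]
      rintro ⟨P, hP⟩ h
      refine Subtype.ext (hinj P (lt_of_lt_of_le (Polynomial.mem_degreeLT.mp hP) ?_) h)
      exact_mod_cast hrp
    rw [hWeq, ← LinearMap.range_domRestrict,
      LinearMap.finrank_range_of_inj hinj', (Polynomial.degreeLTEquiv K r).finrank_eq,
      Module.finrank_pi, Fintype.card_fin]
  · rw [hr]
    exact ⟨fun ⟨P, h1, h2⟩ => ⟨P, h1, fun j => by rw [← h2, hev]⟩,
      fun ⟨P, h1, h2⟩ => ⟨P, h1, funext fun j => by rw [hev, ← h2]⟩⟩

end Cfsg.Agent.S0673
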