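import Cfsg.Statements.S0190
import Cfsg.Agent.Lib.Char.Induced
-- import your own Cfsg.Agent.* helpers here

set_option autoImplicit false
open Cfsg

namespace Cfsg.Agent.S0190

set_option linter.style.haveILetI false
open Cfsg Cfsg.Lib.Char


/-- For a transitive action of a finite group on X, the permutation character g ↦ (number of fixed points of g) is the function induced from the principal character of the stabilizer of any point. -/
theorem result {G : Type*} [Group G] [Fintype G] (X : Type*) [MulAction G X] [Finite X] [MulAction.IsPretransitive G X] (x : X) : (fun g : G => (Nat.card (MulAction.fixedBy X g) : ℂ)) = Cfsg.indFun (MulAction.stabilizer G x) (fun _ => 1) := by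
  classical
  funext g
  simp only [indFun]
  have h1 : ∀ y : G, extendByZero (MulAction.stabilizer G x) (fun _ => (1 : ℂ)) (y⁻¹ * g * y) =
      if g • (y • x) = y • x then 1 else 0 := by
    intro y
    have : y⁻¹ * g * y ∈ MulAction.stabilizer G x ↔ g • (y • x) = y • x := by
      rw [MulAction.mem_stabilizer_iff, mul_smul, mul_smul, inv_smul_eq_iff]
    split_ifs with h
    · rw [extendByZero_of_mem _ _ (this.mpr h)]
    · rw [extendByZero_of_notMem _ _ (fun h' => h (this.mp h'))]
  simp only [h1, Finset.sum_boole]
  rw [eq_inv_mul_iff_mul_eq₀ (Nat.cast_ne_zero.mpr Nat.card_pos.ne')]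
  norm_cast
  rw [← Fintype.card_subtype, ← Nat.card_eq_fintype_card, mul_comm, ← Nat.card_prod]
  choose t ht using fun z : X => MulAction.exists_smul_eq G x z
  exact Nat.card_congr
    { toFun := fun p => ⟨t p.1 * p.2, by
        rw [mul_smul (t (p.1 : X)), MulAction.mem_stabilizer_iff.mp p.2.2, ht]; exact p.1.2⟩
      invFun := fun y => (⟨y.1 • x, y.2⟩, ⟨(t (y.1 • x))⁻¹ * y.1, by
        rw [MulAction.mem_stabilizer_iff, mul_smul, inv_smul_eq_iff, ht]⟩)
      left_inv := fun p => by
        have hx : (t (p.1 : X) * (p.2 : G)) • x = p.1 := by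
          rw [mul_smul, MulAction.mem_stabilizer_iff.mp p.2.2, ht]
        refine Prod.ext (Subtype.ext hx) (Subtype.ext ?_)
        show (t ((t (p.1 : X) * (p.2 : G)) • x))⁻¹ * (t (p.1 : X) * p.2) = p.2
        rw [hx, inv_mul_cancel_left]
      right_inv := fun y => Subtype.ext (by simp) }

end Cfsg.Agent.S0190
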