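import Cfsg.Statements.S0157
import Cfsg.Agent.S0190
import Cfsg.Agent.Lib.Char.Orthogonality
import Cfsg.Agent.Lib.Char.Induced
-- import your own Cfsg.Agent.* helpers here

set_option autoImplicit false
open Cfsg

namespace Cfsg.Agent.S0157

set_option linter.style.haveILetI false
open Cfsg Cfsg.Lib.Char
open scoped ComplexConjugate


/-- For a transitive action of a finite group on a finite set with at least two points: the action is 2-transitive if and only if the function sending g to (number of fixed points of g) − 1 is an irreducible character. -/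
theorem result {G : Type*} [Group G] [Finite G] (X : Type*) [MulAction G X] [Finite X] [MulAction.IsPretransitive G X] (hX : 2 ≤ Nat.card X) : Cfsg.IsIrrCharacter G (fun g => (Nat.card (MulAction.fixedBy X g) : ℂ) - 1) ↔ MulAction.IsMultiplyPretransitive G X 2 := by
  classical
  haveI := Fintype.ofFinite G
  haveI := Fintype.ofFinite X
  haveI : Nonempty X := (Nat.card_pos_iff.mp (by omega : 0 < Nat.card X)).1
  let x₀ : X := Classical.arbitrary X
  set P : G → ℂ := fun g => (Nat.card (MulAction.fixedBy X g) : ℂ) with hP
  have hPc : IsCharacter G P := by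
    rw [show P = indFun (MulAction.stabilizer G x₀) (fun _ => 1) from Cfsg.Agent.S0190.result X x₀]
    exact isCharacter_indFun _ isCharacter_one
  have hburn : ∀ (Y : Type _) [MulAction G Y] [Finite Y],
      ∑ g : G, (Nat.card (MulAction.fixedBy Y g) : ℂ) =
        (Nat.card (Quotient (MulAction.orbitRel G Y)) : ℂ) * Nat.card G := by
    intro Y _ _
    haveI := Fintype.ofFinite Y
    haveI := Fintype.ofFinite (Quotient (MulAction.orbitRel G Y))
    have h := MulAction.sum_card_fixedBy_eq_card_orbits_mul_card_group G Y
    simp only [← Nat.card_eq_fintype_card] at h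
    exact_mod_cast h
  have hone : classInner P (fun _ => 1) = 1 := by
    rw [classInner_one_right, hP, hburn X]
    haveI : Subsingleton (Quotient (MulAction.orbitRel G X)) :=
      (MulAction.pretransitive_iff_subsingleton_quotient G X).mp inferInstance
    rw [Nat.card_of_subsingleton (Quotient.mk _ x₀), Nat.cast_one, one_mul,
      inv_mul_cancel₀ card_cast_ne_zero]
  have hsq : classInner P P = (Nat.card (Quotient (MulAction.orbitRel G (X × X))) : ℂ) := by
    have hfix : ∀ g : G, (Nat.card (MulAction.fixedBy (X × X) g) : ℂ) = P g * conj (P g) := by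
      intro g
      simp only [hP, Complex.conj_natCast, ← Nat.cast_mul, ← Nat.card_prod]
      exact congrArg Nat.cast (Nat.card_congr
        { toFun := fun z => (⟨z.1.1, congrArg Prod.fst z.2⟩, ⟨z.1.2, congrArg Prod.snd z.2⟩)
          invFun := fun z => ⟨(z.1.1, z.2.1), Prod.ext z.1.2 z.2.2⟩
          left_inv := fun z => rfl
          right_inv := fun z => rfl })
    simp only [classInner, ← hfix]
    rw [hburn (X × X), mul_comm (Nat.card _ : ℂ), inv_mul_cancel_left₀ card_cast_ne_zero]
  set Q : G → ℂ := P - fun _ => 1 with hQ
  show IsIrrCharacter G Q ↔ _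
  have hQc : IsCharacter G Q := by
    rw [isCharacter_iff]
    refine ⟨fun g h => by simp [hQ, hPc.isClassFunction g h], fun χ hχ => ?_⟩
    rw [hQ, classInner_sub_left]
    by_cases h1 : χ = fun _ => 1
    · subst h1
      rw [hone, classInner_irr_self isIrrCharacter_one, sub_self]
      exact ⟨0, Nat.cast_zero.symm⟩
    · rw [classInner_irr_ne isIrrCharacter_one hχ (Ne.symm h1), sub_zero]
      exact hPc.exists_nat_classInner hχ.isCharacter
  have hQn : classInner Q Q = (Nat.card (Quotient (MulAction.orbitRel G (X × X))) : ℂ) - 1 := by
    rw [hQ, classInner_sub_left, classInner_sub_right, classInner_sub_right, hsq, hone,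
      classInner_irr_self isIrrCharacter_one, ← classInner_conj_symm P, hone, map_one]
    ring
  have key : MulAction.IsMultiplyPretransitive G X 2 ↔
      Nat.card (Quotient (MulAction.orbitRel G (X × X))) = 2 := by
    haveI : Nontrivial X := Finite.one_lt_card_iff_nontrivial.mp (by omega)
    obtain ⟨a, b, hab⟩ := exists_pair_ne X
    let D : Quotient (MulAction.orbitRel G (X × X)) := Quotient.mk _ (a, a)
    let O : Quotient (MulAction.orbitRel G (X × X)) := Quotient.mk _ (a, b)
    have hDO : D ≠ O := by
      intro h
      obtain ⟨g, hg⟩ := Quotient.exact h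
      simp only [Prod.smul_mk, Prod.mk.injEq] at hg
      exact hab (smul_left_cancel g (hg.1.trans hg.2.symm))
    rw [MulAction.is_two_pretransitive_iff]
    constructor
    · intro h2
      rw [Nat.card_eq_two_iff]
      refine ⟨D, O, hDO, Set.eq_univ_of_forall fun q => ?_⟩
      induction q using Quotient.inductionOn with
      | h z =>
        by_cases hz : z.1 = z.2
        · left
          obtain ⟨g, hg⟩ := MulAction.exists_smul_eq G a z.1
          exact Quotient.sound ⟨g, Prod.ext hg (hg.trans hz)⟩
        · right
          obtain ⟨g, hg1, hg2⟩ := h2 hab hz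
          exact Quotient.sound ⟨g, Prod.ext hg1 hg2⟩
    · intro h2 p q r s hpq hrs
      have hall : ∀ z : X × X, z.1 ≠ z.2 →
          (Quotient.mk _ z : Quotient (MulAction.orbitRel G (X × X))) = O := by
        intro z hz
        rw [Nat.card_eq_two_iff] at h2
        obtain ⟨u, v, -, huniv⟩ := h2
        have hmem : ∀ q, q = u ∨ q = v := fun q => by
          have : q ∈ ({u, v} : Set _) := huniv ▸ Set.mem_univ q
          simpa using this
        have hzD : Quotient.mk _ z ≠ D := by
          intro h
          obtain ⟨g, hg⟩ := Quotient.exact h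
          simp only [Prod.smul_mk] at hg
          exact hz (by rw [← hg])
        rcases hmem D with h1 | h1 <;> rcases hmem O with h3 | h3 <;>
          rcases hmem (Quotient.mk _ z) with h4 | h4 <;> simp_all
      obtain ⟨g, hg⟩ := Quotient.exact ((hall (r, s) hrs).trans (hall (p, q) hpq).symm)
      simp only [Prod.smul_mk, Prod.mk.injEq] at hg
      exact ⟨g, hg.1, hg.2⟩
  rw [key, isIrrCharacter_iff_norm, and_iff_right hQc, hQn, sub_eq_iff_eq_add]
  norm_cast

end Cfsg.Agent.S0157
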