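import Cfsg.Statements.S1510
import Mathlib.GroupTheory.NoncommCoprod
import Mathlib.GroupTheory.Complement
import Mathlib.GroupTheory.SpecificGroups.Cyclic
import Mathlib.Data.Nat.ModEq

set_option autoImplicit false
set_option linter.style.haveILetI false
open Cfsg
open scoped Pointwise

namespace Cfsg.Agent.S1510

theorem result {L : Type*} [Group L] [Fintype L] (K W₁ W₂ : Subgroup L) [hK : K.Normal] (hKW₁ : K ⊓ W₁ = ⊥) (hKW₁' : K ⊔ W₁ = ⊤) (hW₁ : W₁ ≠ ⊥) (hW₁c : IsCyclic W₁) (hHall : Nat.Coprime (Nat.card W₁) W₁.index) (hW₂ : W₂ ≠ ⊥) (hW₂c : IsCyclic W₂) (hW₂K : W₂ ≤ K) (hC : ∀ x ∈ W₁, x ≠ 1 → K ⊓ Subgroup.centralizer ({x} : Set L) = W₂) (hodd : Odd (Nat.card ↥(W₁ ⊔ W₂))) : Cfsg.IsSelfNormalizingCyclic W₁ W₂ := by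
  classical
  obtain ⟨a₀, ha₀⟩ := hW₁c
  have hcomm : ∀ a ∈ W₁, ∀ b ∈ W₂, a * b = b * a := by
    intro a ha b hb
    by_cases h1 : a = 1
    · simp [h1]
    · rw [← hC a ha h1] at hb
      exact (Subgroup.mem_centralizer_singleton_iff.mp hb.2).symm
  have hinf : W₁ ⊓ W₂ = ⊥ := le_antisymm (fun x hx => hKW₁ ▸ ⟨hW₂K hx.2, hx.1⟩) bot_le
  have hidx : W₁.index = Nat.card K := by
    have hc : K.IsComplement' W₁ := Subgroup.isComplement'_of_disjoint_and_mul_eq_univ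
      (disjoint_iff.mpr hKW₁) (by rw [← Subgroup.normal_mul, hKW₁']; rfl)
    exact hc.index_eq_card
  have hcop : Nat.Coprime (Nat.card W₁) (Nat.card W₂) :=
    (hidx ▸ hHall).coprime_dvd_right (Subgroup.card_dvd_of_le hW₂K)
  have hcompl : ∀ g : L, ∃ k ∈ K, ∃ w ∈ W₁, k * w = g := fun g => by
    have hg : g ∈ ((K ⊔ W₁ : Subgroup L) : Set L) := by rw [hKW₁']; exact Subgroup.mem_top g
    rw [Subgroup.normal_mul] at hg
    exact Set.mem_mul.mp hg
  let f : W₁ × W₂ →* L := (W₁.subtype).noncommCoprod W₂.subtype fun a b => hcomm a a.2 b b.2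
  have hfi : Function.Injective f := by
    intro p q hpq
    have e : ((p.1 : L)) * p.2 = q.1 * q.2 := hpq
    have h1 : (q.1 : L)⁻¹ * p.1 = q.2 * (p.2 : L)⁻¹ := by
      rw [eq_mul_inv_iff_mul_eq, mul_assoc, e]; group
    have h2 : (q.1 : L)⁻¹ * p.1 ∈ W₁ ⊓ W₂ :=
      ⟨W₁.mul_mem (W₁.inv_mem q.1.2) p.1.2, h1 ▸ W₂.mul_mem q.2.2 (W₂.inv_mem p.2.2)⟩
    rw [hinf, Subgroup.mem_bot] at h2
    exact Prod.ext (Subtype.ext (inv_mul_eq_one.mp h2).symm)
      (Subtype.ext (mul_inv_eq_one.mp (h1.symm.trans h2)).symm)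
  have hrange : f.range = W₁ ⊔ W₂ := by
    refine le_antisymm ?_ (sup_le (fun x hx => ⟨(⟨x, hx⟩, 1), mul_one x⟩)
      fun x hx => ⟨(1, ⟨x, hx⟩), one_mul x⟩)
    rintro - ⟨⟨a, b⟩, rfl⟩
    exact (W₁ ⊔ W₂).mul_mem (le_sup_left (b := W₂) a.2) (le_sup_right (a := W₁) b.2)
  have hmemW : ∀ x ∈ W₁ ⊔ W₂, ∃ a ∈ W₁, ∃ b ∈ W₂, a * b = x := fun x hx => by
    rw [← hrange] at hx
    obtain ⟨⟨a, b⟩, rfl⟩ := hx
    exact ⟨a, a.2, b, b.2, rfl⟩
  refine ⟨hW₁, hW₂, hinf, hcomm, ?_, fun X hX hne => ?_⟩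
  · haveI := hW₂c
    haveI : IsCyclic W₁ := ⟨a₀, ha₀⟩
    haveI : IsCyclic (W₁ × W₂) :=
      Group.isCyclic_prod_iff.mpr ⟨inferInstance, inferInstance, hcop⟩
    exact isCyclic_of_surjective ((MulEquiv.ofBijective f.rangeRestrict
      ⟨fun p q h => hfi (congrArg Subtype.val h), f.rangeRestrict_surjective⟩).trans
      (MulEquiv.subgroupCongr hrange)).toMonoidHom (MulEquiv.surjective _)
  · have habW : ∀ x ∈ W₁ ⊔ W₂, ∀ y ∈ W₁ ⊔ W₂, x * y = y * x := by
      intro x hx y hy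
      obtain ⟨a, ha, b, hb, rfl⟩ := hmemW x hx
      obtain ⟨c, hc, d, hd, rfl⟩ := hmemW y hy
      haveI := hW₂c
      haveI : IsCyclic W₁ := ⟨a₀, ha₀⟩
      letI := IsCyclic.commGroup (α := W₁)
      letI := IsCyclic.commGroup (α := W₂)
      have e1 : a * c = c * a := congrArg Subtype.val (mul_comm (⟨a, ha⟩ : W₁) ⟨c, hc⟩)
      have e2 : b * d = d * b := congrArg Subtype.val (mul_comm (⟨b, hb⟩ : W₂) ⟨d, hd⟩)
      calc a * b * (c * d) = a * (b * c) * d := by group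
        _ = a * (c * b) * d := by rw [← hcomm c hc b hb]
        _ = (a * c) * (b * d) := by group
        _ = (c * a) * (d * b) := by rw [e1, e2]
        _ = c * (a * d) * b := by group
        _ = c * (d * a) * b := by rw [hcomm a ha d hd]
        _ = c * d * (a * b) := by group
    refine le_antisymm (fun g hg => ?_) (fun g hg => fun y => ?_)
    · obtain ⟨x, hx⟩ := hne
      obtain ⟨k, hk, w, hw, rfl⟩ := hcompl g
      have hwx : w * x * w⁻¹ = x := by
        rw [habW w (le_sup_left (b := W₂) hw) x (hX hx).1, mul_inv_cancel_right]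
      have hx' : k * x * k⁻¹ ∈ X := by
        have := (hg x).mp hx
        rw [show k * w * x * (k * w)⁻¹ = k * (w * x * w⁻¹) * k⁻¹ by group, hwx] at this
        exact this
      obtain ⟨a, ha, b, hb, hab⟩ := hmemW x (hX hx).1
      obtain ⟨a', ha', b', hb', hab'⟩ := hmemW _ (hX hx').1
      have ha1 : a ≠ 1 := by
        rintro rfl
        exact (hX hx).2 (Or.inr (by rw [← hab, one_mul]; exact hb))
      obtain ⟨m, hm1, hm2⟩ := Nat.chineseRemainder hcop 1 0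
      have hpow : ∀ c ∈ W₁, ∀ d ∈ W₂, (c * d) ^ m = c := by
        intro c hc d hd
        rw [Commute.mul_pow (hcomm c hc d hd)]
        have e1 : c ^ m = c := by
          conv_rhs => rw [← pow_one c]
          exact pow_eq_pow_iff_modEq.mpr (hm1.of_dvd (Subgroup.orderOf_dvd_natCard W₁ hc))
        have e2 : d ^ m = 1 := orderOf_dvd_iff_pow_eq_one.mp
          ((Subgroup.orderOf_dvd_natCard W₂ hd).trans (Nat.modEq_zero_iff_dvd.mp hm2))
        rw [e1, e2, mul_one]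
      have hconj : k * a * k⁻¹ = a' := by
        rw [← hpow a' ha' b' hb', hab', conj_pow, ← hab, hpow a ha b hb]
      have hKW : a' * a⁻¹ ∈ K ⊓ W₁ := ⟨by
        rw [← hconj, show k * a * k⁻¹ * a⁻¹ = k * (a * k⁻¹ * a⁻¹) by group]
        exact K.mul_mem hk (hK.conj_mem _ (K.inv_mem hk) a), W₁.mul_mem ha' (W₁.inv_mem ha)⟩
      rw [hKW₁, Subgroup.mem_bot, mul_inv_eq_one] at hKW
      have hkC : k ∈ K ⊓ Subgroup.centralizer ({a} : Set L) := ⟨hk,
        Subgroup.mem_centralizer_singleton_iff.mpr (mul_inv_eq_iff_eq_mul.mp (hconj.trans hKW))⟩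
      rw [hC a ha ha1] at hkC
      exact (W₁ ⊔ W₂).mul_mem (le_sup_right (a := W₁) hkC) (le_sup_left (b := W₂) hw)
    · constructor
      · intro hy
        rwa [habW g hg y (hX hy).1, mul_inv_cancel_right]
      · intro hy
        have h2 := habW g hg _ (hX hy).1
        have e : g * y * g⁻¹ = y := by
          apply mul_left_cancel (a := g)
          calc g * (g * y * g⁻¹) = g * y * g⁻¹ * g := h2
            _ = g * y := by group
        rwa [e] at hy

end Cfsg.Agent.S1510
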