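import Cfsg.Statements.S1511
import Cfsg.Agent.S1510
import Cfsg.Agent.Lib.Char.CyclicTI
import Cfsg.Agent.Lib.Char.SignedIrr
import Mathlib.GroupTheory.Complement
import Mathlib.Data.Nat.ModEq

set_option autoImplicit false
set_option linter.style.haveILetI false
set_option maxHeartbeats 800000
open Cfsg Cfsg.Lib.Char
open scoped Pointwise ComplexConjugate

namespace Cfsg.Agent.S1511

theorem exists_linear_ne_one {W : Type*} [Group W] [Finite W] (hab : ∀ a b : W, a * b = b * a)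
    {x : W} (hx : x ≠ 1) : ∃ l : W →* ℂˣ, l x ≠ 1 := by
  classical
  haveI := Fintype.ofFinite W
  obtain ⟨χ, hχ⟩ : ∃ χ : IrrCharacter W, (χ : W → ℂ) x ≠ (χ : W → ℂ) 1 := by
    by_contra hall
    push Not at hall
    obtain ⟨y, hy⟩ := isConj_iff.mp ((isConj_iff_forall_irr x 1).mpr hall).symm
    rw [mul_one, mul_inv_cancel] at hy
    exact hx hy.symm
  obtain ⟨l, hl⟩ := exists_hom_of_degree_one χ.2.isCharacter (degree_eq_one_of_comm hab χ.2)
  rw [hl] at hχ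
  exact ⟨l, fun h => hχ (by simp [h])⟩

theorem result {L : Type*} [Group L] [Fintype L] (K W₁ W₂ : Subgroup L) [hK : K.Normal] (hKW₁ : K ⊓ W₁ = ⊥) (hKW₁' : K ⊔ W₁ = ⊤) (hW₁ : W₁ ≠ ⊥) (hW₁c : IsCyclic W₁) (hHall : Nat.Coprime (Nat.card W₁) W₁.index) (hW₂ : W₂ ≠ ⊥) (hW₂c : IsCyclic W₂) (hW₂K : W₂ ≤ K) (hC : ∀ x ∈ W₁, x ≠ 1 → K ⊓ Subgroup.centralizer ({x} : Set L) = W₂) (hodd : Odd (Nat.card ↥(W₁ ⊔ W₂))) : ∃ (μ : (↥(W₁ ⊔ W₂) →* ℂˣ) → (L → ℂ)) (δ : (↥(W₁ ⊔ W₂) →* ℂˣ) → ℂ), Function.Injective μ ∧ (∀ ω, Cfsg.IsIrrCharacter L (μ ω)) ∧ (∀ ω, δ ω = 1 ∨ δ ω = -1) ∧ (∀ ω ω' : ↥(W₁ ⊔ W₂) →* ℂˣ, (∀ w : ↥(W₁ ⊔ W₂), (w : L) ∈ W₂ → ω w = ω' w) → δ ω = δ ω' ∧ Cfsg.indFun (W₁ ⊔ W₂) (fun w => (ω w : ℂ) - (ω' w : ℂ)) = δ ω • (μ ω - μ ω')) ∧ (∀ ω, ∀ w : ↥(W₁ ⊔ W₂), (w : L) ∉ W₂ → μ ω w = δ ω * (ω w : ℂ)) ∧ (∀ θ : L → ℂ, Cfsg.IsIrrCharacter L θ → (∀ ω, θ ≠ μ ω) → ∀ w : ↥(W₁ ⊔ W₂), (w : L) ∉ W₂ → θ w = 0)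 ∧ (∀ ω, ∃ n : ℤ, μ ω 1 - δ ω = n * (Nat.card W₁ : ℂ)) := by
  classical
  obtain ⟨hd, hcomm⟩ : W₁ ⊓ W₂ = ⊥ ∧ ∀ a ∈ W₁, ∀ b ∈ W₂, a * b = b * a :=
    let h := Cfsg.Agent.S1510.result K W₁ W₂ hKW₁ hKW₁' hW₁ hW₁c hHall hW₂ hW₂c hW₂K hC hodd
    ⟨h.2.2.1, h.2.2.2.1⟩
  have hcyc : IsCyclic ↥(W₁ ⊔ W₂) :=
    (Cfsg.Agent.S1510.result K W₁ W₂ hKW₁ hKW₁' hW₁ hW₁c hHall hW₂ hW₂c hW₂K hC hodd).2.2.2.2.1
  haveI := Fintype.ofFinite ↥(W₁ ⊔ W₂)
  have hab : ∀ a b : ↥(W₁ ⊔ W₂), a * b = b * a := fun a b => by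
    haveI := hcyc
    exact (IsCyclic.commGroup (α := ↥(W₁ ⊔ W₂))).mul_comm a b
  obtain ⟨p, q, hp, hq, hpq, hp1, hq2⟩ := cti_exists_proj hd hcomm
  -- `W \ W₂` is a TI subset
  have hTI : ∀ g : L, g ∉ W₁ ⊔ W₂ → ∀ t ∈ {x : L | x ∈ W₁ ⊔ W₂ ∧ x ∉ W₂}, t ≠ 1 →
      g * t * g⁻¹ ∉ {x : L | x ∈ W₁ ⊔ W₂ ∧ x ∉ W₂} := by
    rintro g hg t ⟨htW, ht2⟩ - ⟨htW', -⟩
    apply hg
    have hg' : g ∈ ((K ⊔ W₁ : Subgroup L) : Set L) := by rw [hKW₁']; exact Subgroup.mem_top g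
    rw [Subgroup.normal_mul] at hg'
    obtain ⟨k, hk, w, hw, rfl⟩ := Set.mem_mul.mp hg'
    have hwt : w * t * w⁻¹ = t := by
      have := congrArg Subtype.val (hab ⟨w, le_sup_left (b := W₂) hw⟩ ⟨t, htW⟩)
      simp only [Subgroup.coe_mul] at this
      rw [this, mul_inv_cancel_right]
    set x : ↥(W₁ ⊔ W₂) := ⟨t, htW⟩ with hx
    set y : ↥(W₁ ⊔ W₂) := ⟨k * w * t * (k * w)⁻¹, htW'⟩ with hy
    have hky : k * t * k⁻¹ = (y : L) := by
      show k * t * k⁻¹ = k * w * t * (k * w)⁻¹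
      conv_lhs => rw [← hwt]
      group
    have hpx : (p x : L) ≠ 1 := fun h => ht2 (by
      have e := congrArg Subtype.val (hpq x)
      rw [Subgroup.coe_mul, h, one_mul] at e
      exact (show (x : L) ∈ W₂ from e ▸ hq x))
    have hcopr : (Nat.card W₁).Coprime (Nat.card W₂) := by
      have hc : K.IsComplement' W₁ := Subgroup.isComplement'_of_disjoint_and_mul_eq_univ
        (disjoint_iff.mpr hKW₁) (by rw [← Subgroup.normal_mul, hKW₁']; rfl)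
      exact (hc.index_eq_card ▸ hHall).coprime_dvd_right (Subgroup.card_dvd_of_le hW₂K)
    obtain ⟨m, hm1, hm2⟩ := Nat.chineseRemainder hcopr 1 0
    have hpow : ∀ z : ↥(W₁ ⊔ W₂), (z : L) ^ m = (p z : L) := by
      intro z
      conv_lhs => rw [← hpq z]
      rw [Subgroup.coe_mul, Commute.mul_pow (hcomm _ (hp z) _ (hq z))]
      have e1 : (p z : L) ^ m = p z := by
        conv_rhs => rw [← pow_one (p z : L)]
        exact pow_eq_pow_iff_modEq.mpr (hm1.of_dvd (Subgroup.orderOf_dvd_natCard W₁ (hp z)))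
      have e2 : (q z : L) ^ m = 1 := orderOf_dvd_iff_pow_eq_one.mp
        ((Subgroup.orderOf_dvd_natCard W₂ (hq z)).trans (Nat.modEq_zero_iff_dvd.mp hm2))
      rw [e1, e2, mul_one]
    have hconj : k * (p x : L) * k⁻¹ = p y := by
      rw [← hpow x, ← hpow y, ← hky, conj_pow]
    have hKW : (p y : L) * (p x : L)⁻¹ ∈ K ⊓ W₁ := ⟨by
      rw [← hconj, show k * (p x : L) * k⁻¹ * (p x : L)⁻¹ =
        k * ((p x : L) * k⁻¹ * (p x : L)⁻¹) by group]
      exact K.mul_mem hk (hK.conj_mem _ (K.inv_mem hk) _), W₁.mul_mem (hp y) (W₁.inv_mem (hp x))⟩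
    rw [hKW₁, Subgroup.mem_bot, mul_inv_eq_one] at hKW
    have hkC : k ∈ K ⊓ Subgroup.centralizer ({(p x : L)} : Set L) := ⟨hk,
      Subgroup.mem_centralizer_singleton_iff.mpr (mul_inv_eq_iff_eq_mul.mp (hconj.trans hKW))⟩
    rw [hC _ (hp x) hpx] at hkC
    exact (W₁ ⊔ W₂).mul_mem (le_sup_right (a := W₁) hkC) (le_sup_left (b := W₂) hw)
  have hqq : ∀ ω : ↥(W₁ ⊔ W₂) →* ℂˣ, (ω.comp q).comp q = ω.comp q := fun ω => by
    ext x; rw [MonoidHom.comp_apply, MonoidHom.comp_apply, (hq2 _ (hq x)).2, MonoidHom.comp_apply]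
  have hagree : ∀ ω ω' : ↥(W₁ ⊔ W₂) →* ℂˣ,
      (∀ w : ↥(W₁ ⊔ W₂), (w : L) ∈ W₂ → ω w = ω' w) → ω.comp q = ω'.comp q := fun ω ω' h => by
    refine MonoidHom.ext fun x => ?_
    exact h _ (hq x)
  let lin : (↥(W₁ ⊔ W₂) →* ℂˣ) → ↥(W₁ ⊔ W₂) → ℂ := fun ω w => (ω w : ℂ)
  have hvanish : ∀ ω ω' : ↥(W₁ ⊔ W₂) →* ℂˣ, ω.comp q = ω'.comp q →
      ∀ x : ↥(W₁ ⊔ W₂), (x : L) ∉ {x : L | x ∈ W₁ ⊔ W₂ ∧ x ∉ W₂} → (lin ω - lin ω') x = 0 := by
    intro ω ω' h x hx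
    have hx2 : (x : L) ∈ W₂ := by by_contra hc; exact hx ⟨x.2, hc⟩
    have := DFunLike.congr_fun h x
    rw [MonoidHom.comp_apply, MonoidHom.comp_apply, (hq2 x hx2).2] at this
    simp [lin, this]
  have hcf : ∀ ω ω' : ↥(W₁ ⊔ W₂) →* ℂˣ, IsClassFunction ↥(W₁ ⊔ W₂) (lin ω - lin ω') := fun ω ω' a b => by
    rw [hab b a, mul_inv_cancel_right]
  have hinner : ∀ ω ω' η η' : ↥(W₁ ⊔ W₂) →* ℂˣ, ω.comp q = ω'.comp q → η.comp q = η'.comp q →
      classInner (indFun (W₁ ⊔ W₂) (lin ω - lin ω')) (indFun (W₁ ⊔ W₂) (lin η - lin η')) =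
        (if ω = η then 1 else 0) - (if ω = η' then 1 else 0) -
          ((if ω' = η then 1 else 0) - (if ω' = η' then 1 else 0)) := by
    intro ω ω' η η' h h'
    rw [classInner_indFun_TI (W₁ ⊔ W₂) {x : L | x ∈ W₁ ⊔ W₂ ∧ x ∉ W₂} hTI (hcf η η')
      (hvanish ω ω' h) (hvanish η η' h') (hvanish ω ω' h 1 (fun hc => hc.2 W₂.one_mem)),
      classInner_sub_left, classInner_sub_right, classInner_sub_right]
    simp only [lin, classInner_linear]
  -- the exceptional families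
  have hfam : ∀ β : ↥(W₁ ⊔ W₂) →* ℂˣ, β.comp q = β → ∃ ε : ℂ, (ε = 1 ∨ ε = -1) ∧
      ∃ μ : {ω : ↥(W₁ ⊔ W₂) →* ℂˣ // ω.comp q = β} → (L → ℂ), (∀ i, IsIrrCharacter L (μ i)) ∧
        Function.Injective μ ∧ ∀ i i', indFun (W₁ ⊔ W₂) (lin i.1 - lin i'.1) = ε • (μ i - μ i') := by
    intro β hβ
    obtain ⟨ε, hε, μ, hμ, hinj, he⟩ := exists_exceptional_irr
      (⟨β, hβ⟩ : {ω : ↥(W₁ ⊔ W₂) →* ℂˣ // ω.comp q = β})
      (fun i => indFun (W₁ ⊔ W₂) (lin i.1 - lin β))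
      (show indFun (W₁ ⊔ W₂) (lin β - lin β) = 0 by rw [indFun_sub, sub_self])
      (fun i => isGeneralizedCharacter_indFun _
        ((isIrrCharacter_linear i.1).isGeneralized.sub (isIrrCharacter_linear β).isGeneralized))
      (fun i => by simp [lin, indFun_apply_one])
      (fun i hi => by
        have h1 : i.1 ≠ β := fun e => hi (Subtype.ext e)
        rw [hinner _ _ _ _ (i.2.trans hβ.symm) (i.2.trans hβ.symm), if_pos rfl, if_neg h1,
          if_neg (Ne.symm h1), if_pos rfl]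
        ring)
      (fun i j hi hj hij => by
        have h1 : i.1 ≠ β := fun e => hi (Subtype.ext e)
        have h2 : j.1 ≠ β := fun e => hj (Subtype.ext e)
        rw [hinner _ _ _ _ (i.2.trans hβ.symm) (j.2.trans hβ.symm),
          if_neg (fun e => hij (Subtype.ext e)), if_neg h1, if_neg (Ne.symm h2), if_pos rfl]
        ring)
    refine ⟨ε, hε, μ, hμ, hinj, fun i i' => ?_⟩
    rw [show lin i.1 - lin i'.1 = (lin i.1 - lin β) - (lin i'.1 - lin β) by abel,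
      indFun_sub, he i, he i', ← smul_sub, sub_sub_sub_cancel_right]
  choose E hE M hM hMinj hME using hfam
  let δ : (↥(W₁ ⊔ W₂) →* ℂˣ) → ℂ := fun ω => E (ω.comp q) (hqq ω)
  let μ : (↥(W₁ ⊔ W₂) →* ℂˣ) → (L → ℂ) := fun ω => M (ω.comp q) (hqq ω) ⟨ω, rfl⟩
  have hμe : ∀ ω β (hβ : β.comp q = β) (h : ω.comp q = β),
      μ ω = M β hβ ⟨ω, h⟩ ∧ δ ω = E β hβ := by
    intro ω β hβ h; subst h; exact ⟨rfl, rfl⟩
  have hpair : ∀ ω ω', ω.comp q = ω'.comp q →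
      δ ω = δ ω' ∧ indFun (W₁ ⊔ W₂) (lin ω - lin ω') = δ ω • (μ ω - μ ω') := by
    intro ω ω' h
    obtain ⟨e1, e2⟩ := hμe ω _ (hqq ω') h
    obtain ⟨e3, e4⟩ := hμe ω' _ (hqq ω') rfl
    refine ⟨e2.trans e4.symm, ?_⟩
    rw [e1, e2, e3]
    exact hME _ (hqq ω') ⟨ω, h⟩ ⟨ω', rfl⟩
  have hδ : ∀ ω, δ ω = 1 ∨ δ ω = -1 := fun ω => hE _ _
  have hμirr : ∀ ω, IsIrrCharacter L (μ ω) := fun ω => hM _ _ _
  obtain ⟨l₁, hl₁⟩ : ∃ l : ↥(W₁ ⊔ W₂) →* ℂˣ, l ≠ 1 ∧ l.comp q = 1 := by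
    obtain ⟨a, ha, ha1⟩ : ∃ a ∈ W₁, a ≠ 1 := by
      by_contra hh; push Not at hh; exact hW₁ ((Subgroup.eq_bot_iff_forall _).mpr hh)
    obtain ⟨l, hl⟩ := exists_linear_ne_one hab
      (x := (⟨a, le_sup_left (b := W₂) ha⟩ : ↥(W₁ ⊔ W₂))) (fun e => ha1 (congrArg Subtype.val e))
    refine ⟨l.comp p, fun e => hl ?_, ?_⟩
    · have := DFunLike.congr_fun e (⟨a, le_sup_left (b := W₂) ha⟩ : ↥(W₁ ⊔ W₂))
      rwa [MonoidHom.comp_apply, (hp1 _ ha).1, MonoidHom.one_apply] at this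
    · ext x
      rw [MonoidHom.comp_apply, MonoidHom.comp_apply, (hq2 _ (hq x)).1, map_one]
      rfl
  have hμinj : Function.Injective μ := by
    intro ω η h
    by_cases hc : ω.comp q = η.comp q
    · obtain ⟨e1, -⟩ := hμe ω _ (hqq η) hc
      obtain ⟨e3, -⟩ := hμe η _ (hqq η) rfl
      rw [e1, e3] at h
      exact congrArg Subtype.val (hMinj _ (hqq η) h)
    · exfalso
      have hshift : ∀ ω : ↥(W₁ ⊔ W₂) →* ℂˣ, (ω * l₁).comp q = ω.comp q ∧ ω * l₁ ≠ ω := fun ω => by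
        refine ⟨by rw [MonoidHom.mul_comp, hl₁.2, cti_mul_one], fun e => hl₁.1 ?_⟩
        ext x
        have := DFunLike.congr_fun e x
        rw [MonoidHom.mul_apply] at this
        rw [mul_eq_left.mp this, MonoidHom.one_apply]
      obtain ⟨ω', hω', hωne⟩ : ∃ ω', ω'.comp q = ω.comp q ∧ ω' ≠ ω := ⟨_, hshift ω⟩
      obtain ⟨η', hη', hηne⟩ : ∃ η', η'.comp q = η.comp q ∧ η' ≠ η := ⟨_, hshift η⟩
      have hne : ∀ a b : ↥(W₁ ⊔ W₂) →* ℂˣ, a.comp q = ω.comp q → b.comp q = η.comp q → a ≠ b :=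
        fun a b ha hb e => hc (by rw [← ha, e, hb])
      have h0 := hinner ω ω' η η' hω'.symm hη'.symm
      rw [if_neg (hne _ _ rfl rfl), if_neg (hne _ _ rfl hη'), if_neg (hne _ _ hω' rfl),
        if_neg (hne _ _ hω' hη'), (hpair ω ω' hω'.symm).2, (hpair η η' hη'.symm).2,
        classInner_smul_left, classInner_smul_right] at h0
      have hd0 : δ ω ≠ 0 := by rcases hδ ω with e | e <;> simp [e]
      have hd1 : δ η ≠ 0 := by rcases hδ η with e | e <;> simp [e]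
      simp only [sub_self, mul_eq_zero, map_eq_zero, hd0, hd1, false_or, classInner_sub_left,
        classInner_sub_right] at h0
      have n1 : μ ω' ≠ μ ω := fun e => hωne (by
        obtain ⟨e1, -⟩ := hμe ω' _ (hqq ω) hω'
        obtain ⟨e3, -⟩ := hμe ω _ (hqq ω) rfl
        rw [e1, e3] at e
        exact congrArg Subtype.val (hMinj _ (hqq ω) e))
      have n2 : μ η ≠ μ η' := fun e => hηne (by
        obtain ⟨e1, -⟩ := hμe η' _ (hqq η) hη'
        obtain ⟨e3, -⟩ := hμe η _ (hqq η) rfl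
        rw [e1, e3] at e
        exact congrArg Subtype.val (hMinj _ (hqq η) e.symm))
      rw [classInner_irr (hμirr ω) (hμirr η), if_pos h, classInner_irr (hμirr ω) (hμirr η'),
        if_neg (h ▸ n2), classInner_irr (hμirr ω') (hμirr η), if_neg (h ▸ n1),
        classInner_irr (hμirr ω') (hμirr η')] at h0
      split_ifs at h0 <;> norm_num at h0
  -- values off `W₂`
  have hval : ∀ θ : L → ℂ, IsIrrCharacter L θ → ∀ e : (↥(W₁ ⊔ W₂) →* ℂˣ) → ℂ,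
      (∀ η, classInner θ (μ η) = e η) → ∀ w : ↥(W₁ ⊔ W₂), (w : L) ∉ W₂ →
      θ w = ∑ᶠ η, δ η * e η * (η w : ℂ) := by
    intro θ hθ e he w hw
    letI : Fintype (↥(W₁ ⊔ W₂) →* ℂˣ) := Fintype.ofEquiv _
      (linearCharEquiv.trans (Equiv.subtypeUnivEquiv fun χ => degree_eq_one_of_comm hab χ.2)).symm
    set g : ↥(W₁ ⊔ W₂) → ℂ := fun x => θ x with hg
    set d : (↥(W₁ ⊔ W₂) →* ℂˣ) → ℂ := fun η => classInner g (lin η) - δ η * e η with hdd
    have hd : ∀ η, d η = d (η.comp q) := by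
      intro η
      have h := classInner_indFun_right (W₁ ⊔ W₂) (lin η - lin (η.comp q)) hθ.isClassFunction
      obtain ⟨h1, h2⟩ := hpair η (η.comp q) (hqq η).symm
      rw [h2, classInner_smul_right, classInner_sub_right, classInner_sub_right, he, he] at h
      have hr : conj (δ η) = δ η := by rcases hδ η with e | e <;> simp [e]
      rw [hr] at h
      simp only [hdd, ← h1]
      linear_combination -h
    have hexp : g w = ∑ η : ↥(W₁ ⊔ W₂) →* ℂˣ, classInner g (lin η) * (η w : ℂ) := by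
      have hgc : IsClassFunction ↥(W₁ ⊔ W₂) g := fun a b => by rw [hab b a, mul_inv_cancel_right]
      conv_lhs => rw [eq_sum_classInner hgc]
      rw [Finset.sum_apply]
      exact (Fintype.sum_equiv
        (linearCharEquiv.trans (Equiv.subtypeUnivEquiv fun χ => degree_eq_one_of_comm hab χ.2))
        _ _ fun ω => rfl).symm
    obtain ⟨l, hl⟩ := exists_linear_ne_one hab (x := p w) fun h => hw (by
      have := congrArg Subtype.val (hpq w)
      rw [Subgroup.coe_mul, h, OneMemClass.coe_one, one_mul] at this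
      rw [← this]; exact hq w)
    have hlq : (l.comp p).comp q = 1 := by
      ext x; rw [MonoidHom.comp_apply, MonoidHom.comp_apply, (hq2 _ (hq x)).1, map_one]; rfl
    have hz : ∑ η : ↥(W₁ ⊔ W₂) →* ℂˣ, d η * (η w : ℂ) = 0 := by
      set S := ∑ η : ↥(W₁ ⊔ W₂) →* ℂˣ, d η * (η w : ℂ) with hS
      have h1 : S = ((l.comp p) w : ℂ) * S := by
        conv_lhs => rw [hS, ← Fintype.sum_equiv (Equiv.mulRight (l.comp p))
          (fun η => d (η * l.comp p) * ((η * l.comp p) w : ℂ)) _ (fun η => rfl)]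
        rw [hS, Finset.mul_sum]
        refine Finset.sum_congr rfl fun η _ => ?_
        rw [hd (η * l.comp p), MonoidHom.mul_comp, hlq, cti_mul_one, ← hd η, MonoidHom.mul_apply,
          Units.val_mul]
        ring
      by_contra hne
      exact hl (Units.ext (mul_right_cancel₀ hne (by rw [Units.val_one, one_mul]; exact h1.symm)))
    rw [finsum_eq_sum_of_fintype, show θ w = g w from rfl, hexp, ← sub_eq_zero, ← Finset.sum_sub_distrib, ← hz]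
    exact Finset.sum_congr rfl fun η _ => by simp only [hdd]; ring
  have hvalμ : ∀ ω, ∀ w : ↥(W₁ ⊔ W₂), (w : L) ∉ W₂ → μ ω w = δ ω * (ω w : ℂ) := by
    intro ω w hw
    rw [hval (μ ω) (hμirr ω) (fun η => if ω = η then 1 else 0) (fun η => by
        rw [classInner_irr (hμirr ω) (hμirr η)]
        exact if_congr hμinj.eq_iff rfl rfl) w hw,
      finsum_eq_single _ ω (fun η hη => by rw [if_neg (Ne.symm hη)]; ring), if_pos rfl, mul_one]
  refine ⟨μ, δ, hμinj, hμirr, hδ, fun ω ω' h => hpair ω ω' (hagree ω ω' h), hvalμ,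
    fun θ hθ hne w hw => ?_, fun ω => ?_⟩
  · rw [hval θ hθ 0 (fun η => classInner_irr_ne hθ (hμirr η) (hne η)) w hw]
    simp
  · haveI := Fintype.ofFinite W₁
    let r : ↥W₁ →* ↥(W₁ ⊔ W₂) := Subgroup.inclusion le_sup_left
    obtain ⟨n, hn⟩ := ((hμirr ω).isGeneralized.comp W₁.subtype).exists_int_classInner
      (isIrrCharacter_linear (ω.comp r)).isGeneralized
    refine ⟨n - (if δ ω = 1 then 1 else -1), ?_⟩
    have hsum : ∑ a : ↥W₁, μ ω a * conj ((ω (r a) : ℂˣ) : ℂ) =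
        (μ ω 1 - δ ω) + (Nat.card W₁ : ℂ) * δ ω := by
      have : ∀ a : ↥W₁, μ ω a * conj ((ω (r a) : ℂˣ) : ℂ) =
          δ ω + if a = 1 then μ ω 1 - δ ω else 0 := by
        intro a
        by_cases ha : a = 1
        · subst ha; rw [if_pos rfl, map_one, map_one]; simp
        · have ha2 : ((r a : ↥(W₁ ⊔ W₂)) : L) ∉ W₂ := fun h => ha (by
            have : (a : L) ∈ W₁ ⊓ W₂ := ⟨a.2, h⟩
            rw [hd, Subgroup.mem_bot] at this
            exact Subtype.ext this)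
          rw [if_neg ha, add_zero, show μ ω a = μ ω (r a : L) from rfl, hvalμ ω (r a) ha2, mul_assoc,
            Complex.mul_conj', norm_eq_one_of_pow_orderOf (g := r a)
              (by rw [← Units.val_pow_eq_pow_val, ← map_pow, pow_orderOf_eq_one, map_one, Units.val_one])]
          simp
      rw [Finset.sum_congr rfl fun a _ => this a, Finset.sum_add_distrib, Finset.sum_const,
        Finset.card_univ, nsmul_eq_mul, Finset.sum_ite_eq', if_pos (Finset.mem_univ _),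
        Nat.card_eq_fintype_card]
      ring
    simp only [classInner, MonoidHom.comp_apply, Subgroup.coe_subtype] at hn
    rw [hsum, inv_mul_eq_iff_eq_mul₀ card_cast_ne_zero] at hn
    rcases hδ ω with e | e <;> rw [e] at hn ⊢ <;> push_cast [show ((-1 : ℂ) = 1) = False by norm_num]
    · simp only [if_true]; push_cast; linear_combination hn
    · linear_combination hn

end Cfsg.Agent.S1511
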