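import Cfsg.Statements.S0173
import Cfsg.Agent.Lib.Char.PermLemma
-- import your own Cfsg.Agent.* helpers here

set_option autoImplicit false
open Cfsg

namespace Cfsg.Agent.S0173

set_option linter.style.haveILetI false
open Cfsg Cfsg.Lib.Char


/-- Brauer's permutation lemma for a single automorphism: the number of conjugacy classes mapped to themselves equals the number of irreducible complex characters χ with χ ∘ α = χ. -/
theorem result {G : Type*} [Group G] [Finite G] (α : G ≃* G) : Nat.card {C : ConjClasses G // ConjClasses.map α.toMonoidHom C = C} = Nat.card {χ : Cfsg.IrrCharacter G // (χ : G → ℂ) ∘ α = (χ : G → ℂ)} := by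
  classical
  haveI : Finite (ConjClasses G) := Quotient.finite _
  let f : IrrCharacter G → IrrCharacter G := fun χ =>
    ⟨fun g => (χ : G → ℂ) (α.symm g), χ.2.comp_surjective α.symm.toMonoidHom α.symm.surjective⟩
  have hb : Function.Bijective (ConjClasses.map (α.toMonoidHom : G →* G)) := by
    refine Finite.injective_iff_bijective.mp fun C D h => ?_
    obtain ⟨a, rfl⟩ := C.exists_rep
    obtain ⟨b, rfl⟩ := D.exists_rep
    obtain ⟨c, hc⟩ := isConj_iff.mp (ConjClasses.mk_eq_mk_iff_isConj.mp h)
    refine ConjClasses.mk_eq_mk_iff_isConj.mpr (isConj_iff.mpr ⟨α.symm c, α.injective ?_⟩)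
    simpa using! hc
  have key := brauer_permutation f (ConjClasses.map (α.toMonoidHom : G →* G)) hb fun χ g g' h => by
    obtain ⟨c, hc⟩ := isConj_iff.mp (ConjClasses.mk_eq_mk_iff_isConj.mp h)
    have h1 := congrArg α.symm hc
    simp only [map_mul, map_inv] at h1
    show (χ : G → ℂ) (α.symm g') = _
    have h2 : α.symm (α g) = g := α.symm_apply_apply g
    rw [← χ.2.isClassFunction (α.symm g') (α.symm c), h1]
    exact congrArg _ h2
  rw [← key]
  refine Nat.card_congr (Equiv.subtypeEquivRight fun χ => ?_)
  constructor
  · intro h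
    funext g
    have h' : (χ : G → ℂ) (α.symm (α g)) = (χ : G → ℂ) (α g) :=
      congrFun (congrArg Subtype.val h) (α g)
    rw [α.symm_apply_apply] at h'
    exact h'.symm
  · intro h
    refine Subtype.ext (funext fun g => ?_)
    have h' := congrFun h (α.symm g)
    simp only [Function.comp_apply, α.apply_symm_apply] at h'
    exact h'.symm

end Cfsg.Agent.S0173
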