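import Cfsg.Statements.S1512
import Cfsg.Agent.Lib.Char.CoprimeElem
import Mathlib.Algebra.Group.Conj

set_option autoImplicit false
set_option linter.style.haveILetI false
open Cfsg Cfsg.Lib.Char

namespace Cfsg.Agent.S1512

theorem result {L : Type*} [Group L] [Finite L] (K W₂ : Subgroup L) [hK : K.Normal] (x : L) (hx1 : x ≠ 1) (hx : Nat.Coprime (orderOf x) (Nat.card K)) (hC : ∀ y ∈ Subgroup.zpowers x, y ≠ 1 → K ⊓ Subgroup.centralizer ({y} : Set L) = W₂) : Nat.card {C : ConjClasses K // ConjClasses.map (MulEquiv.toMonoidHom ((MulAut.conjNormal x : MulAut K))) C = C} ≤ Nat.card W₂ := by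
  classical
  haveI := Fintype.ofFinite L
  haveI := Fintype.ofFinite K
  let C : Subgroup L := K ⊓ Subgroup.centralizer ({x} : Set L)
  haveI := Fintype.ofFinite C
  have hCmem : ∀ y, y ∈ C ↔ y ∈ K ∧ Commute y x := fun y => by
    simp [C, Subgroup.mem_centralizer_singleton_iff, Commute, SemiconjBy, eq_comm]
  have hW : C = W₂ := hC x (Subgroup.mem_zpowers x) hx1
  have hfib := (conj_coset_fibre (s := x) (H := K)
    (by rw [Subgroup.normalizer_eq_top]; exact Subgroup.mem_top x) hx.symm C hCmem).1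
  obtain ⟨e, he, -⟩ := exists_proj_exponent (s := x) hx.symm
  suffices hs : ∀ D : {D : ConjClasses K // ConjClasses.map (MulEquiv.toMonoidHom ((MulAut.conjNormal x : MulAut K))) D = D},
      ∃ c : W₂, ∃ hc : (c : L) ∈ K, ConjClasses.mk (⟨c, hc⟩ : K) = D.1 by
    choose c hc hcD using hs
    refine Nat.card_le_card_of_injective c fun D D' h => Subtype.ext ?_
    rw [← hcD D, ← hcD D']
    exact congrArg ConjClasses.mk (Subtype.ext (congrArg (fun z : W₂ => (z : L)) h))
  rintro ⟨D, hD⟩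
  induction D using Quotient.inductionOn with
  | h k =>
    obtain ⟨m, hm⟩ := isConj_iff.mp (ConjClasses.mk_eq_mk_iff_isConj.mp hD.symm)
    have hm' : (m : L) * k * (m : L)⁻¹ = x * k * x⁻¹ := by simpa using congrArg Subtype.val hm
    obtain ⟨u, hu, c, hc, huc⟩ := hfib (m : L)⁻¹ (K.inv_mem m.2)
    have hcx := ((hCmem c).mp hc)
    have hcom : Commute (u⁻¹ * (k : L) * u) (c * x) := by
      have h1 : Commute (k : L) ((m : L)⁻¹ * x) := by
        show (k : L) * ((m : L)⁻¹ * x) = (m : L)⁻¹ * x * k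
        calc (k : L) * ((m : L)⁻¹ * x) = (m : L)⁻¹ * ((m : L) * k * (m : L)⁻¹) * x := by group
          _ = (m : L)⁻¹ * (x * k * x⁻¹) * x := by rw [hm']
          _ = _ := by group
      rw [← huc] at h1
      show u⁻¹ * (k : L) * u * (c * x) = c * x * (u⁻¹ * (k : L) * u)
      calc u⁻¹ * (k : L) * u * (c * x) = u⁻¹ * ((k : L) * (u * (c * x) * u⁻¹)) * u := by group
        _ = u⁻¹ * (u * (c * x) * u⁻¹ * (k : L)) * u := by rw [h1.eq]
        _ = _ := by group
    have hkx : u⁻¹ * (k : L) * u ∈ C := (hCmem _).mpr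
      ⟨K.mul_mem (K.mul_mem (K.inv_mem hu) k.2) hu, by
        have h2 := hcom.pow_right e
        rwa [he c hcx.1 hcx.2] at h2⟩
    refine ⟨⟨u⁻¹ * (k : L) * u, hW ▸ hkx⟩, ((hCmem _).mp hkx).1, ConjClasses.mk_eq_mk_iff_isConj.mpr
      (isConj_iff.mpr ⟨⟨u, hu⟩, Subtype.ext ?_⟩)⟩
    show u * (u⁻¹ * (k : L) * u) * u⁻¹ = (k : L)
    group

end Cfsg.Agent.S1512
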