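import Cfsg.Statements.S1513
import Cfsg.Agent.S1512
import Cfsg.Agent.S0173
import Cfsg.Agent.Lib.Char.AbelianInertia
import Cfsg.Agent.Lib.Char.FixedChar
import Cfsg.Agent.Lib.Char.CoprimeElem
import Mathlib.GroupTheory.Complement

set_option autoImplicit false
set_option linter.style.haveILetI false
open Cfsg Cfsg.Lib.Char
open scoped Pointwise

namespace Cfsg.Agent.S1513

theorem result {L : Type*} [Group L] [Fintype L] (K W₁ W₂ : Subgroup L) [hK : K.Normal] (hKW₁ : K ⊓ W₁ = ⊥) (hKW₁' : K ⊔ W₁ = ⊤) (hW₁ : W₁ ≠ ⊥) (hW₁c : IsCyclic W₁) (hHall : Nat.Coprime (Nat.card W₁) W₁.index) (hW₂ : W₂ ≠ ⊥) (hW₂c : IsCyclic W₂) (hW₂K : W₂ ≤ K) (hC : ∀ x ∈ W₁, x ≠ 1 → K ⊓ Subgroup.centralizer ({x} : Set L) = W₂) (hodd : Odd (Nat.card ↥(W₁ ⊔ W₂))) : (∀ θ : K → ℂ, Cfsg.IsIrrCharacter K θ → (∃ x ∈ W₁, (fun k : K => θ ⟨x * k * x⁻¹, hK.conj_mem (k : L) k.2 x⟩) ≠ θ) → Cfsg.IsIrrCharacter L (Cfsg.indFun K θ)) ∧ Nat.card {θ : Cfsg.IrrCharacter K // ∀ x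 ∈ W₁, (fun k : K => (θ : K → ℂ) ⟨x * k * x⁻¹, hK.conj_mem (k : L) k.2 x⟩) = θ} = Nat.card W₂ ∧ (∀ θ : K → ℂ, Cfsg.IsIrrCharacter K θ → (∀ x ∈ W₁, (fun k : K => θ ⟨x * k * x⁻¹, hK.conj_mem (k : L) k.2 x⟩) = θ) → ∃ C : Finset (L → ℂ), C.card = Nat.card W₁ ∧ (∀ μ ∈ C, Cfsg.IsIrrCharacter L μ) ∧ Cfsg.indFun K θ = ∑ μ ∈ C, μ) := by
  classical
  haveI := Fintype.ofFinite K
  obtain ⟨a₀, ha₀⟩ := hW₁c
  let al : L → MulAut K := fun x => MulAut.conjNormal x
  have hnat : ∀ (x : L) (θ : K → ℂ),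
      (fun k : K => θ ⟨x * k * x⁻¹, hK.conj_mem (k : L) k.2 x⟩) = conjTwist K θ x := fun x θ => rfl
  simp only [hnat]
  have hcompl : ∀ g : L, ∃ k ∈ K, ∃ w ∈ W₁, k * w = g := fun g => by
    have hg : g ∈ ((K ⊔ W₁ : Subgroup L) : Set L) := by rw [hKW₁']; exact Subgroup.mem_top g
    rw [Subgroup.normal_mul] at hg
    exact Set.mem_mul.mp hg
  have hidx : K.index = Nat.card W₁ ∧ W₁.index = Nat.card K := by
    have hc : K.IsComplement' W₁ := Subgroup.isComplement'_of_disjoint_and_mul_eq_univ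
      (disjoint_iff.mpr hKW₁) (by rw [← Subgroup.normal_mul, hKW₁']; rfl)
    exact ⟨hc.symm.index_eq_card, hc.index_eq_card⟩
  have hcopK : Nat.Coprime (Nat.card K) (Nat.card W₁) := (hidx.2 ▸ hHall).symm
  have hcop : ∀ x ∈ W₁, Nat.Coprime (orderOf x) (Nat.card K) := fun x hx =>
    (hcopK.symm.coprime_dvd_left (Subgroup.orderOf_dvd_natCard W₁ hx))
  haveI := hW₂c
  letI := IsCyclic.commGroup (α := W₂)
  -- classes fixed by an element of `W₁`
  have hfix : ∀ x ∈ W₁, x ≠ 1 →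
      Nat.card {C : ConjClasses K // ConjClasses.map (MulEquiv.toMonoidHom (al x)) C = C} = Nat.card W₂ := by
    intro x hx hx1
    refine le_antisymm ?_ ?_
    · refine Cfsg.Agent.S1512.result K W₂ x hx1 (hcop x hx) fun y hy hy1 => hC y ?_ hy1
      exact Subgroup.zpowers_le.mpr hx hy
    · have hcx : ∀ c : W₂, x * (c : L) = c * x := fun c => by
        have := (hC x hx hx1).ge c.2
        exact (Subgroup.mem_centralizer_singleton_iff.mp this.2).symm
      refine Nat.card_le_card_of_injective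
        (fun c : W₂ => ⟨ConjClasses.mk (⟨c, hW₂K c.2⟩ : K), congrArg ConjClasses.mk (Subtype.ext
          (by show x * (c : L) * x⁻¹ = c; rw [hcx c, mul_inv_cancel_right]))⟩) fun c d hcd => ?_
      obtain ⟨u, hu⟩ := isConj_iff.mp (ConjClasses.mk_eq_mk_iff_isConj.mp (congrArg Subtype.val hcd))
      have hu' : (u : L) * c * (u : L)⁻¹ = d := congrArg Subtype.val hu
      let D : Subgroup L := K ⊓ Subgroup.centralizer ({(c : L)} : Set L)
      let C : Subgroup L := D ⊓ Subgroup.centralizer ({x} : Set L)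
      haveI := Fintype.ofFinite D
      haveI := Fintype.ofFinite C
      have hxD : x ∈ Subgroup.normalizer (D : Set L) := by
        refine Subgroup.mem_normalizer_iff.mpr fun y => ?_
        simp only [D, Subgroup.mem_inf, Subgroup.mem_centralizer_singleton_iff]
        constructor
        · rintro ⟨h1, h2⟩
          refine ⟨hK.conj_mem y h1 x, ?_⟩
          calc x * y * x⁻¹ * (c : L) = x * (y * (x⁻¹ * (c : L) * x)) * x⁻¹ := by group
            _ = x * (y * c) * x⁻¹ := by rw [mul_assoc x⁻¹, ← hcx c, inv_mul_cancel_left]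
            _ = x * (c * y) * x⁻¹ := by rw [h2]
            _ = (x * c) * (y * x⁻¹) := by group
            _ = (c * x) * (y * x⁻¹) := by rw [hcx c]
            _ = c * (x * y * x⁻¹) := by group
        · rintro ⟨h1, h2⟩
          refine ⟨by simpa [mul_assoc] using hK.conj_mem _ h1 x⁻¹, ?_⟩
          calc y * (c : L) = x⁻¹ * (x * y * x⁻¹ * (x * c)) := by group
            _ = x⁻¹ * (x * y * x⁻¹ * c * x) := by rw [hcx c, ← mul_assoc (x * y * x⁻¹)]
            _ = x⁻¹ * (c * (x * y * x⁻¹) * x) := by rw [h2]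
            _ = x⁻¹ * (c * x) * y := by group
            _ = x⁻¹ * (x * c) * y := by rw [hcx c]
            _ = c * y := by group
      have hcopD : (Nat.card D).Coprime (orderOf x) :=
        ((hcop x hx).coprime_dvd_right (Subgroup.card_dvd_of_le inf_le_left)).symm
      have hCmem : ∀ y, y ∈ C ↔ y ∈ D ∧ Commute y x := fun y => by
        simp [C, Subgroup.mem_centralizer_singleton_iff, Commute, SemiconjBy, eq_comm]
      have hux : (u : L)⁻¹ * x * u * x⁻¹ ∈ D := by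
        refine ⟨?_, Subgroup.mem_centralizer_singleton_iff.mpr ?_⟩
        · rw [show (u : L)⁻¹ * x * u * x⁻¹ = (u : L)⁻¹ * (x * u * x⁻¹) by group]
          exact K.mul_mem (K.inv_mem u.2) (hK.conj_mem _ u.2 x)
        · calc (u : L)⁻¹ * x * u * x⁻¹ * c = (u : L)⁻¹ * x * u * (x⁻¹ * c * x) * x⁻¹ := by group
            _ = (u : L)⁻¹ * x * u * c * x⁻¹ := by rw [mul_assoc x⁻¹, ← hcx c, inv_mul_cancel_left]
            _ = (u : L)⁻¹ * (x * (u * c * (u : L)⁻¹)) * u * x⁻¹ := by group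
            _ = (u : L)⁻¹ * (x * d) * u * x⁻¹ := by rw [hu']
            _ = (u : L)⁻¹ * (d * x) * u * x⁻¹ := by rw [hcx d]
            _ = (u : L)⁻¹ * (u * c * (u : L)⁻¹) * x * u * x⁻¹ := by rw [hu']; group
            _ = c * ((u : L)⁻¹ * x * u * x⁻¹) := by group
      obtain ⟨v, hv, c', hc', hvc⟩ := (conj_coset_fibre hxD hcopD C hCmem).1 _ hux
      obtain ⟨e, he, he'⟩ := exists_proj_exponent (s := x) (H := D) hcopD
      have hpow := congrArg (fun g => g ^ e) hvc
      simp only [conj_pow, he c' ((hCmem c').mp hc').1 ((hCmem c').mp hc').2] at hpow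
      rw [inv_mul_cancel_right] at hpow
      have h3 : ((u : L)⁻¹ * x * u) ^ e = (u : L)⁻¹ * x * u := by
        simpa using he' (u : L)⁻¹
      rw [h3] at hpow
      have hw : (u : L) * v ∈ W₂ := by
        rw [← hC x hx hx1]
        refine ⟨K.mul_mem u.2 hv.1, Subgroup.mem_centralizer_singleton_iff.mpr ?_⟩
        calc (u : L) * v * x = u * (v * x * v⁻¹) * v := by group
          _ = u * ((u : L)⁻¹ * x * u) * v := by rw [hpow]
          _ = x * (u * v) := by group
      have hvc2 : v * (c : L) = c * v := Subgroup.mem_centralizer_singleton_iff.mp hv.2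
      have hcomm : (u : L) * v * c = c * (u * v) :=
        congrArg Subtype.val (mul_comm (⟨_, hw⟩ : W₂) c)
      refine Subtype.ext ?_
      calc (c : L) = (c * (u * v)) * ((u : L) * v)⁻¹ := by group
        _ = (u * v * c) * ((u : L) * v)⁻¹ := by rw [hcomm]
        _ = u * (v * c * v⁻¹) * (u : L)⁻¹ := by group
        _ = d := by rw [hvc2, mul_inv_cancel_right, hu']
  have hirr : ∀ x ∈ W₁, x ≠ 1 →
      Nat.card {θ : Cfsg.IrrCharacter K // conjTwist K (θ : K → ℂ) x = θ} = Nat.card W₂ := by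
    intro x hx hx1
    rw [← hfix x hx hx1, Cfsg.Agent.S0173.result (al x)]
    refine Nat.card_congr (Equiv.subtypeEquivRight fun θ => ?_)
    rw [show (θ : K → ℂ) ∘ (al x) = conjTwist K (θ : K → ℂ) x from
      funext fun k => congrArg (θ : K → ℂ) (Subtype.ext (MulAut.conjNormal_apply x k))]
  have ha1 : (a₀ : L) ≠ 1 := by
    intro h
    apply hW₁
    rw [Subgroup.eq_bot_iff_forall]
    intro x hx
    obtain ⟨n, hn⟩ := Subgroup.mem_zpowers_iff.mp (ha₀ ⟨x, hx⟩)
    have : x = ((a₀ : W₁) : L) ^ n := by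
      rw [← SubgroupClass.coe_zpow, hn]
    rw [this, h, one_zpow]
  have hgen : ∀ θ : K → ℂ, conjTwist K θ (a₀ : L) = θ → ∀ x ∈ W₁, conjTwist K θ x = θ := by
    intro θ h x hx
    obtain ⟨n, hn⟩ := Subgroup.mem_zpowers_iff.mp (ha₀ ⟨x, hx⟩)
    have hxe : x = ((a₀ : W₁) : L) ^ n := by
      rw [← SubgroupClass.coe_zpow, hn]
    rw [hxe]
    exact (mem_inertia K).mp (Subgroup.zpow_mem _ ((mem_inertia K).mpr h) n)
  have hall : Nat.card {θ : Cfsg.IrrCharacter K // ∀ x ∈ W₁, conjTwist K (θ : K → ℂ) x = θ} =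
      Nat.card W₂ := by
    rw [← hirr a₀ a₀.2 ha1]
    exact Nat.card_congr (Equiv.subtypeEquivRight fun θ => ⟨fun h => h a₀ a₀.2, hgen θ⟩)
  -- an element of `W₁` fixing a character forces invariance
  have hone : ∀ (θ : IrrCharacter K), ∀ x ∈ W₁, x ≠ 1 → conjTwist K (θ : K → ℂ) x = θ →
      ∀ y ∈ W₁, conjTwist K (θ : K → ℂ) y = θ := by
    intro θ x hx hx1 h
    let i : {θ : Cfsg.IrrCharacter K // ∀ x ∈ W₁, conjTwist K (θ : K → ℂ) x = θ} →
        {θ : Cfsg.IrrCharacter K // conjTwist K (θ : K → ℂ) x = θ} := fun t => ⟨t.1, t.2 x hx⟩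
    haveI : Finite {θ : Cfsg.IrrCharacter K // conjTwist K (θ : K → ℂ) x = θ} := Subtype.finite
    have hb : Function.Bijective i := (Nat.bijective_iff_injective_and_card i).mpr
      ⟨fun a b hab => Subtype.ext (congrArg (fun t => (t.1 : IrrCharacter K)) hab),
        hall.trans (hirr x hx hx1).symm⟩
    obtain ⟨t, ht⟩ := hb.2 ⟨θ, h⟩
    have : t.1 = θ := congrArg Subtype.val ht
    exact this ▸ t.2
  refine ⟨?_, hall, ?_⟩
  · rintro θ hθ ⟨x, hx, hne⟩
    refine isIrrCharacter_indFun_of_inertia K hθ (le_antisymm (fun g hg => ?_) (le_inertia K hθ.isClassFunction))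
    obtain ⟨k, hk, w, hw, rfl⟩ := hcompl g
    have hwI : w ∈ inertia K θ := by
      simpa using (inertia K θ).mul_mem ((inertia K θ).inv_mem (le_inertia K hθ.isClassFunction hk)) hg
    by_cases hw1 : w = 1
    · simpa [hw1] using hk
    · exact absurd (hone ⟨θ, hθ⟩ w hw hw1 hwI x hx) hne
  · intro θ hθ hinv
    have hinv' : ∀ g, conjTwist K θ g = θ := by
      intro g
      obtain ⟨k, hk, w, hw, rfl⟩ := hcompl g
      exact (mem_inertia K).mp ((inertia K θ).mul_mem (le_inertia K hθ.isClassFunction hk) (hinv w hw))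
    haveI : IsCyclic W₁ := ⟨a₀, ha₀⟩
    letI := IsCyclic.commGroup (α := W₁)
    have hab : ∀ g h : L, g * h * g⁻¹ * h⁻¹ ∈ K := by
      intro g h
      obtain ⟨k, hk, w, hw, rfl⟩ := hcompl g
      obtain ⟨k', hk', w', hw', rfl⟩ := hcompl h
      have e1 : w * w' = w' * w := congrArg Subtype.val (mul_comm (⟨w, hw⟩ : W₁) ⟨w', hw'⟩)
      rw [← QuotientGroup.eq_one_iff]
      have e2 := congrArg (QuotientGroup.mk' K) e1
      have z1 : (k : L ⧸ K) = 1 := (QuotientGroup.eq_one_iff _).mpr hk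
      have z2 : (k' : L ⧸ K) = 1 := (QuotientGroup.eq_one_iff _).mpr hk'
      simp only [QuotientGroup.mk'_apply, QuotientGroup.mk_mul] at e2
      simp only [QuotientGroup.mk_mul, QuotientGroup.mk_inv, z1, z2, one_mul]
      rw [e2]; group
    obtain ⟨e, C, -, hCirr, hcard, hind, -, he1⟩ := indFun_invariant_abelian K hθ hinv' hab
    obtain ⟨χ, hχ, hχθ⟩ := exists_extension_of_coprime K hθ hinv' (hidx.1.symm ▸ hcopK)
    have he : e = 1 := he1 χ hχ hχθ
    refine ⟨C, ?_, hCirr, ?_⟩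
    · rw [← hidx.1, ← hcard, he, one_pow, one_mul]
    · rw [hind, he, Nat.cast_one, one_smul]

end Cfsg.Agent.S1513
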