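import Cfsg.Statements.S1466
import Cfsg.Agent.Lib.Local.Puig
-- import your own Cfsg.Agent.* helpers here

set_option autoImplicit false
open Cfsg

namespace Cfsg.Agent.S1466

/-- Let p be a prime and R a nontrivial finite p-group. Then for every i > 0, Z(R) ≤ C_R(L_i(R)) ≤ L_i(R); likewise Z(R) ≤ C_R(L_*(R)) ≤ L_*(R) and Z(R) ≤ C_R(L(R)) ≤ L(R); and L(R) ≠ 1, L_*(R) ≠ 1. -/
theorem result {R : Type*} [Group R] [Finite R] (p : ℕ) [Fact p.Prime] (hR : IsPGroup p R) [Nontrivial R] :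
    (∀ i : ℕ, 0 < i → Subgroup.center R ≤ Subgroup.centralizer ((Cfsg.puigSeq R i : Subgroup R) : Set R) ∧
        Subgroup.centralizer ((Cfsg.puigSeq R i : Subgroup R) : Set R) ≤ Cfsg.puigSeq R i) ∧
      (Subgroup.center R ≤ Subgroup.centralizer ((Cfsg.puigLower R : Subgroup R) : Set R) ∧ Subgroup.centralizer ((Cfsg.puigLower R : Subgroup R) : Set R) ≤ Cfsg.puigLower R) ∧
      (Subgroup.center R ≤ Subgroup.centralizer ((Cfsg.puigSubgroup R : Subgroup R) : Set R) ∧ Subgroup.centralizer ((Cfsg.puigSubgroup R : Subgroup R) : Set R) ≤ Cfsg.puigSubgroup R) ∧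
      Cfsg.puigSubgroup R ≠ ⊥ ∧ Cfsg.puigLower R ≠ ⊥ := by
  haveI := hR.isNilpotent
  have hne : Subgroup.center R ≠ ⊥ := (Subgroup.nontrivial_iff_ne_bot _).mp hR.center_nontrivial
  have key : ∀ X : Subgroup R, Subgroup.center R ≤ Subgroup.centralizer (X : Set R) := fun X =>
    Subgroup.center_le_centralizer _
  obtain ⟨k, hk⟩ := Cfsg.Lib.Local.exists_puig_stable (G := R)
  have hlow : Subgroup.centralizer (Cfsg.puigLower R : Set R) ≤ Cfsg.puigLower R := by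
    rw [← (hk (k + 1) (by omega)).1]
    exact Cfsg.Lib.Local.centralizer_puigSeq_le (2 * k + 1)
  have hup : Subgroup.centralizer (Cfsg.puigSubgroup R : Set R) ≤ Cfsg.puigSubgroup R := by
    rw [← (hk k le_rfl).2]
    exact Cfsg.Lib.Local.centralizer_puigSeq_le (2 * k)
  refine ⟨fun i hi => ⟨key _, ?_⟩, ⟨key _, hlow⟩, ⟨key _, hup⟩,
    fun h => hne (le_bot_iff.mp (h ▸ (key _).trans hup)),
    fun h => hne (le_bot_iff.mp (h ▸ (key _).trans hlow))⟩
  obtain ⟨j, rfl⟩ : ∃ j, i = j + 1 := ⟨i - 1, by omega⟩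
  exact Cfsg.Lib.Local.centralizer_puigSeq_le j

end Cfsg.Agent.S1466
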