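import Cfsg.Statements.S0081
import Cfsg.Agent.Lib.Fusion.Tate

set_option autoImplicit false
set_option linter.style.haveILetI false
open Cfsg

namespace Cfsg.Agent.S0081

/-- If a normal subgroup meets a Sylow p-subgroup P inside the Frattini subgroup of P, then it has a normal p-complement. -/
theorem result {G : Type*} [Group G] [Finite G] {p : ℕ} [Fact p.Prime] (P : Sylow p G) (N : Subgroup G) [N.Normal] (h : N ⊓ (P : Subgroup G) ≤ (frattini P).map (P : Subgroup G).subtype) : Cfsg.HasNormalPComplement p N := by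
  obtain ⟨S, hS⟩ : ∃ S : Sylow p G, True := ⟨P, trivial⟩
  clear hS S
  haveI hG₁ : Finite ↥(N ⊔ (P : Subgroup G)) := inferInstance
  let P' : Sylow p ↥(N ⊔ (P : Subgroup G)) := P.subtype le_sup_right
  have key := Cfsg.Lib.Fusion.tate P' (P' : Subgroup _) le_rfl ?_
  · rw [Cfsg.Lib.Fusion.hasNormalPComplement_iff_coprime]
    have hbot : Cfsg.pResidual p (P' : Subgroup ↥(N ⊔ (P : Subgroup G))) = ⊥ := by
      rw [eq_bot_iff]
      exact (Cfsg.Lib.Fusion.pResidual_le_ker P'.2 (MonoidHom.id _)).trans (by simp)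
    rw [hbot, Subgroup.map_bot, bot_inf_eq] at key
    have h1 : Cfsg.HasNormalPComplement p ↥(N ⊔ (P : Subgroup G)) :=
      (Cfsg.Lib.Fusion.hasNormalPComplement_iff_inf P').mpr key
    exact Cfsg.Lib.Fusion.hasNormalPComplement_iff_coprime.mp
      (Cfsg.Lib.Fusion.hasNormalPComplement_of_le le_sup_left h1)
  · haveI : (N.subgroupOf (N ⊔ (P : Subgroup G))).Normal := inferInstance
    have hle : Cfsg.pResidual p ↥(N ⊔ (P : Subgroup G)) ≤ N.subgroupOf (N ⊔ (P : Subgroup G)) := by
      refine Cfsg.Lib.Fusion.pResidual_le_of_isPGroup_quotient _ ?_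
      refine P'.2.of_surjective
        ((QuotientGroup.mk' (N.subgroupOf (N ⊔ (P : Subgroup G)))).comp
          (P' : Subgroup ↥(N ⊔ (P : Subgroup G))).subtype) ?_
      intro y
      obtain ⟨⟨g, hg⟩, rfl⟩ := QuotientGroup.mk_surjective y
      obtain ⟨a, ha, b, hb, rfl⟩ := Subgroup.mem_sup_of_normal_left.mp hg
      refine ⟨⟨⟨b, Subgroup.mem_sup_right hb⟩, Subgroup.mem_subgroupOf.mpr hb⟩, ?_⟩
      refine QuotientGroup.eq.mpr (Subgroup.mem_subgroupOf.mpr ?_)
      show b⁻¹ * (a * b) ∈ N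
      rw [← mul_assoc]
      exact Subgroup.Normal.conj_mem' inferInstance a ha b
    intro x hx
    refine Subgroup.mem_sup_left ?_
    have hxP : (x : G) ∈ (P : Subgroup G) := Subgroup.mem_subgroupOf.mp hx.2
    obtain ⟨f, hf, he⟩ := h ⟨Subgroup.mem_subgroupOf.mp (hle hx.1), hxP⟩
    let e : (P : Subgroup G) ≃* (P' : Subgroup ↥(N ⊔ (P : Subgroup G))) :=
      (Subgroup.subgroupOfEquivOfLe le_sup_right).symm
    exact ⟨e f, frattini_le_comap_frattini_of_surjective (φ := e.toMonoidHom) e.surjective hf,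
      Subtype.ext he⟩

end Cfsg.Agent.S0081
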