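import Cfsg.Statements.S3309
import Mathlib
import Cfsg.Agent.Lib.Local.TwoTransfer

set_option autoImplicit false
open Cfsg

namespace Cfsg.Agent.S3309

theorem zsq : ∀ x : Multiplicative (ZMod 2) × DihedralGroup 4, x * x ≠ 1 → x * x = (1, DihedralGroup.r 2) := by decide

theorem cen : ∀ x : Multiplicative (ZMod 2) × DihedralGroup 4, x * x = 1 → (∀ y, x * y = y * x) →
    x = 1 ∨ x = (1, DihedralGroup.r 2) ∨ x = (Multiplicative.ofAdd 1, 1) ∨
      x = (Multiplicative.ofAdd 1, DihedralGroup.r 2) := by decide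

theorem add_self_one : (Multiplicative.ofAdd (1 : ZMod 2)) * Multiplicative.ofAdd (1 : ZMod 2) = 1 := by decide

theorem mem_of_two_pow {G : Type*} [Group G] [Finite G] {S : Sylow 2 G} (x : G)
    (hx : x ∈ Subgroup.normalizer ((S : Subgroup G) : Set G)) {k : ℕ} (hk : x ^ 2 ^ k = 1) : x ∈ (S : Subgroup G) := by
  haveI : Fact (Nat.Prime 2) := ⟨Nat.prime_two⟩
  have hp : IsPGroup 2 (Subgroup.zpowers x) := by
    rw [IsPGroup.iff_card, Nat.card_zpowers]
    obtain ⟨j, -, hj⟩ := (Nat.dvd_prime_pow Nat.prime_two).1 (orderOf_dvd_of_pow_eq_one hk)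
    exact ⟨j, hj⟩
  have h := S.3 (hp.to_sup_of_normal_right' S.2 (Subgroup.zpowers_le.2 hx)) le_sup_right
  exact h ▸ Subgroup.mem_sup_left (Subgroup.mem_zpowers x)



/-- A finite group whose Sylow 2-subgroups are isomorphic to the direct product of a group of order 2 and the dihedral group of order 8 is not a non-abelian simple group. -/
theorem result {G : Type*} [Group G] [Finite G] (S : Sylow 2 G) (hS : Nonempty (↥(S : Subgroup G) ≃* Multiplicative (ZMod 2) × DihedralGroup 4))
    [IsSimpleGroup G] (hG : ¬ IsMulCommutative G) : False := by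
  classical
  haveI : Fact (Nat.Prime 2) := ⟨Nat.prime_two⟩
  obtain ⟨φ⟩ := hS
  set T := (S : Subgroup G) with hT
  let e0 : ↥T := φ.symm (Multiplicative.ofAdd 1, 1)
  let z0 : ↥T := φ.symm (1, DihedralGroup.r 2)
  let M : Subgroup ↥T := ((MonoidHom.fst (Multiplicative (ZMod 2)) (DihedralGroup 4)).comp φ.toMonoidHom).ker
  have hM : M.index = 2 := by
    rw [Subgroup.index_ker, MonoidHom.range_eq_top_of_surjective _ (fun x => ⟨φ.symm (x, 1), by simp⟩),
      Subgroup.card_top]
    simp
  have hec : ∀ x : Multiplicative (ZMod 2) × DihedralGroup 4,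
      x * (Multiplicative.ofAdd 1, 1) = (Multiplicative.ofAdd 1, 1) * x := fun x =>
    Prod.ext (mul_comm _ _) (by rw [Prod.snd_mul, Prod.snd_mul, mul_one, one_mul])
  have hzsq : ∀ x : Multiplicative (ZMod 2) × DihedralGroup 4, x * x ≠ 1 → x * x = (1, DihedralGroup.r 2) := zsq
  have hcen : ∀ x : Multiplicative (ZMod 2) × DihedralGroup 4, x * x = 1 → (∀ y, x * y = y * x) →
      x = 1 ∨ x = (1, DihedralGroup.r 2) ∨ x = (Multiplicative.ofAdd 1, 1) ∨ x = (Multiplicative.ofAdd 1, DihedralGroup.r 2) := cen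
  have hconj : ∀ (n : G) (x : ↥T), n ∈ Subgroup.normalizer (T : Set G) → n * (x : G) * n⁻¹ ∈ T :=
    fun n x hn => (Subgroup.mem_normalizer_iff.1 hn _).1 x.2
  have hz : ∀ n ∈ Subgroup.normalizer (T : Set G), n * (z0 : G) * n⁻¹ = z0 := by
    intro n hn
    let r0 : ↥T := φ.symm (1, DihedralGroup.r 1)
    have h1 : r0 * r0 = z0 := φ.injective (by simp [r0, z0]; decide)
    set w : ↥T := ⟨n * (r0 : G) * n⁻¹, hconj n r0 hn⟩ with hw
    have h2 : ((w * w : ↥T) : G) = n * (z0 : G) * n⁻¹ := by
      rw [← h1, hw]; simp only [Subgroup.coe_mul]; group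
    have h3 : φ w * φ w ≠ 1 := by
      rw [← map_mul]
      intro h
      have h4 : w * w = 1 := φ.injective (h.trans (map_one φ).symm)
      rw [h4, Subgroup.coe_one, eq_comm, mul_inv_eq_one, mul_eq_left] at h2
      have : φ z0 = 1 := by rw [show z0 = 1 from Subtype.ext h2, map_one]
      simp [z0] at this
      exact absurd this (by decide)
    rw [← h2]
    congr 1
    apply φ.injective
    rw [map_mul, hzsq _ h3]
    exact (φ.apply_symm_apply _).symm
  have he : ∀ n ∈ Subgroup.normalizer (T : Set G), n * (e0 : G) * n⁻¹ = e0 ∨ n * (e0 : G) * n⁻¹ = e0 * z0 := by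
    intro n hn
    set w : ↥T := ⟨n * (e0 : G) * n⁻¹, hconj n e0 hn⟩ with hw
    have hw2 : φ w * φ w = 1 := by
      rw [← map_mul, ← map_one φ]
      congr 1
      apply Subtype.ext
      have : (e0 : G) * e0 = 1 := by
        rw [← Subgroup.coe_mul, show e0 * e0 = 1 from φ.injective (by simp [e0, add_self_one]), Subgroup.coe_one]
      rw [hw]; simp only [Subgroup.coe_mul, Subgroup.coe_one]
      calc n * (e0 : G) * n⁻¹ * (n * (e0 : G) * n⁻¹) = n * ((e0 : G) * e0) * n⁻¹ := by group
        _ = 1 := by rw [this, mul_one, mul_inv_cancel]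
    have hwc : ∀ y, φ w * y = y * φ w := by
      intro y
      obtain ⟨v, rfl⟩ := φ.surjective y
      rw [← map_mul, ← map_mul]
      congr 1
      apply Subtype.ext
      have hv : n⁻¹ * (v : G) * n ∈ T := by
        have := hconj n⁻¹ v (inv_mem hn); rwa [inv_inv] at this
      have h5 : e0 * (⟨_, hv⟩ : ↥T) = ⟨_, hv⟩ * e0 := φ.injective (by
        rw [map_mul, map_mul, MulEquiv.apply_symm_apply]; exact (hec _).symm)
      have h6 := congrArg (fun u : ↥T => n * (u : G) * n⁻¹) h5
      simp only [Subgroup.coe_mul] at h6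
      rw [hw]; simp only [Subgroup.coe_mul]
      convert h6 using 1 <;> group
    have hback : ∀ c, φ w = c → n * (e0 : G) * n⁻¹ = (φ.symm c : ↥T) := fun c hc => by
      rw [← hc, MulEquiv.symm_apply_apply]
    rcases hcen _ hw2 hwc with h | h | h | h
    · exfalso
      have h1 := hback _ h
      rw [map_one, Subgroup.coe_one, mul_inv_eq_one, mul_eq_left] at h1
      have : φ e0 = 1 := by rw [show e0 = 1 from Subtype.ext h1, map_one]
      simp [e0] at this
    · exfalso
      have h1 : n * (e0 : G) * n⁻¹ = n * (z0 : G) * n⁻¹ := (hback _ h).trans (hz n hn).symm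
      rw [mul_left_inj, mul_right_inj] at h1
      have : φ e0 = φ z0 := by rw [show e0 = z0 from Subtype.ext h1]
      simp [e0, z0] at this
    · exact Or.inl (hback _ h)
    · right
      rw [hback _ h, ← Subgroup.coe_mul]
      congr 1
      rw [← map_mul]
      simp
  have hec' : (e0 : G) ∈ Subgroup.centralizer (T : Set G) := by
    rw [Subgroup.mem_centralizer_iff]
    intro v hv
    have : (⟨v, hv⟩ : ↥T) * e0 = e0 * ⟨v, hv⟩ := φ.injective (by rw [map_mul, map_mul, MulEquiv.apply_symm_apply]; exact hec _)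
    exact congrArg Subtype.val this
  have hzc' : ∀ n ∈ Subgroup.normalizer (T : Set G), n * (e0 : G) * n⁻¹ = e0 := by
    intro n hn
    rcases he n hn with h | h
    · exact h
    exfalso
    have hodd : ∀ k : ℕ, n ^ k * (e0 : G) * (n ^ k)⁻¹ = if Odd k then (e0 : G) * z0 else e0 := by
      intro k
      induction k with
      | zero => simp
      | succ k ih =>
        have : n ^ (k + 1) * (e0 : G) * (n ^ (k + 1))⁻¹ = n * (n ^ k * (e0 : G) * (n ^ k)⁻¹) * n⁻¹ := by
          rw [pow_succ']; group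
        rw [this, ih]
        rcases Nat.even_or_odd k with hk | hk
        · rw [if_neg (Nat.not_odd_iff_even.2 hk), if_pos hk.add_one, h]
        · rw [if_pos hk, if_neg (Nat.not_odd_iff_even.2 hk.add_one)]
          calc n * ((e0 : G) * z0) * n⁻¹ = n * (e0 : G) * n⁻¹ * (n * (z0 : G) * n⁻¹) := by group
            _ = (e0 : G) := by
              rw [h, hz n hn, mul_assoc, ← Subgroup.coe_mul, show z0 * z0 = 1 from φ.injective (by simp [z0]; decide),
                Subgroup.coe_one, mul_one]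
    set N := orderOf n with hN
    have hN0 : N ≠ 0 := (orderOf_pos n).ne'
    obtain ⟨k, m, hm, hNm⟩ := Nat.exists_eq_two_pow_mul_odd hN0
    have hmT : n ^ m ∈ T := by
      refine mem_of_two_pow (n ^ m) (pow_mem hn m) (k := k) ?_
      rw [← pow_mul, Nat.mul_comm, ← hNm]; exact pow_orderOf_eq_one n
    have h1 := hodd m
    rw [if_pos hm] at h1
    rw [← Subgroup.mem_centralizer_iff.1 hec' _ hmT |>.symm, mul_inv_cancel_right, left_eq_mul, ← Subgroup.coe_one] at h1
    have : φ z0 = 1 := by rw [Subtype.ext h1, map_one]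
    simp [z0] at this
    exact absurd this (by decide)
  have he2 : (e0 : G) * e0 = 1 := by
    rw [← Subgroup.coe_mul, show e0 * e0 = 1 from φ.injective (by simp [e0, add_self_one]), Subgroup.coe_one]
  have heM : (⟨(e0 : G), e0.2⟩ : ↥T) ∉ M := by
    simp [M, MonoidHom.mem_ker, e0, Subgroup.mem_prod]
  obtain ⟨f, hf⟩ := Cfsg.Lib.Local.exists_hom_of_central_involution S e0.2 hec' he2 M hM heM hzc'
  rcases (IsSimpleGroup.eq_bot_or_eq_top_of_normal f.ker inferInstance) with h | h
  · apply hG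
    refine ⟨⟨fun a b => (MonoidHom.ker_eq_bot_iff f).1 h ?_⟩⟩
    haveI : Fact (Nat.Prime 2) := ⟨Nat.prime_two⟩
    haveI : IsCyclic (↥T ⧸ M) := isCyclic_of_prime_card (p := 2) hM
    letI : CommGroup (↥T ⧸ M) := IsCyclic.commGroup
    rw [map_mul, map_mul]; exact mul_comm _ _
  · exact hf (MonoidHom.mem_ker.1 (h ▸ Subgroup.mem_top _))

end Cfsg.Agent.S3309
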