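import Cfsg.Statements.S0898
import Cfsg.Agent.Lib.Char.Central
import Cfsg.Agent.Lib.Char.Linear


set_option autoImplicit false
set_option linter.style.haveILetI false
open Cfsg Cfsg.Lib.Char

namespace Cfsg.Agent.S0898

open scoped ComplexConjugate

variable {G : Type*} [Group G] [Fintype G]

/-- Averaging an irreducible character over a normal subgroup gives a multiple, zero unless the
subgroup is in the kernel. -/
theorem proj_irr {N : Type*} [Group N] [Fintype N] (K : Subgroup N) [K.Normal] [Fintype K] {ψ : N → ℂ}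
    (hψ : IsIrrCharacter N ψ) :
    ∃ c : ℂ, (∀ n : N, ∑ k : K, ψ (n * k) = c * ψ n) ∧ ((∃ k : K, ψ k ≠ ψ 1) → c = 0) := by
  classical
  obtain ⟨d, ρ, hρ, rfl⟩ := hψ
  haveI := hρ
  let f : N → ℂ := fun n => if n ∈ K then 1 else 0
  have hf : IsClassFunction N f := fun n g => by
    refine if_congr ⟨fun h => ?_, fun h => Subgroup.Normal.conj_mem inferInstance n h g⟩ rfl rfl
    have := Subgroup.Normal.conj_mem (H := K) inferInstance _ h g⁻¹
    simpa [mul_assoc] using this
  have hkey := averageOp_irreducible ρ hf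
  set c := (∑ g, f g * ρ.character g) / (Module.finrank ℂ (Fin d → ℂ) : ℂ)
  have hsum : ∀ n : N, ∑ k : K, ρ.character (n * k) = c * ρ.character n := by
    intro n
    have h1 := congrArg (fun T => LinearMap.trace ℂ (Fin d → ℂ) (ρ n * T)) hkey
    simp only [averageOp, Finset.mul_sum, map_sum] at h1
    rw [show ρ n * (c • LinearMap.id) = c • ρ n from by
      ext v; simp, map_smul, smul_eq_mul] at h1
    refine Eq.trans ?_ h1
    rw [← Finset.sum_subset (Finset.subset_univ (Finset.univ.filter fun g : N => g ∈ K))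
      fun g _ hg => by simp [f, show g ∉ K by simpa using hg]]
    rw [Finset.sum_subtype _ (p := fun g : N => g ∈ K) (by simp)]
    refine Finset.sum_congr rfl fun k _ => ?_
    simp only [f, if_pos k.2, one_smul]
    show LinearMap.trace ℂ _ (ρ (n * k)) = _
    rw [map_mul]
  refine ⟨c, hsum, fun ⟨k₀, hk₀⟩ => ?_⟩
  have h1 : ∑ k : K, ρ.character ((k₀ : N) * k) = ∑ k : K, ρ.character (1 * (k : N)) :=
    Fintype.sum_equiv (Equiv.mulLeft k₀) _ _ fun k => by simp
  rw [hsum, hsum] at h1
  by_contra hc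
  exact hk₀ (mul_left_cancel₀ hc h1)

/-- A central element acts as a scalar of absolute value one. -/
theorem central_scalar {χ : G → ℂ} (hχ : IsIrrCharacter G χ) {z : G} (hz : z ∈ Subgroup.center G) :
    ∃ w : ℂ, ‖w‖ = 1 ∧ ∀ g : G, χ (z * g) = w * χ g := by
  classical
  obtain ⟨d, ρ, hρ, rfl⟩ := hχ
  haveI := hρ
  have hcl : classFinset z = {z} := by
    ext x
    rw [mem_classFinset, Finset.mem_singleton]
    refine ⟨fun h => ?_, fun h => h ▸ IsConj.refl _⟩
    obtain ⟨k, hk⟩ := isConj_iff.mp h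
    rw [← hk, Subgroup.mem_center_iff.mp hz k, mul_inv_cancel_right]
  have h := sum_class_smul ρ z
  rw [hcl, Finset.sum_singleton, Finset.card_singleton, Nat.cast_one, one_mul] at h
  set w := ρ.character z / (Module.finrank ℂ (Fin d → ℂ) : ℂ)
  refine ⟨w, norm_eq_one_of_pow_orderOf (g := z) ?_, fun g => ?_⟩
  · have h1 : (ρ z) ^ orderOf z = 1 := by rw [← map_pow, pow_orderOf_eq_one, map_one]
    rw [h, ← Module.End.one_eq_id, smul_pow, one_pow] at h1
    have h2 := congrArg (LinearMap.trace ℂ (Fin d → ℂ)) h1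
    rw [map_smul, smul_eq_mul, LinearMap.trace_one] at h2
    exact mul_right_cancel₀ (Nat.cast_ne_zero.mpr (irreducible_finrank_pos ρ).ne') (h2.trans (one_mul _).symm)
  · show LinearMap.trace ℂ _ (ρ (z * g)) = w * LinearMap.trace ℂ _ (ρ g)
    rw [map_mul, h, ← Module.End.one_eq_id, smul_mul_assoc, one_mul, map_smul, smul_eq_mul]

section Main

variable (H : Subgroup G) [Fintype H] (hab : ∀ a ∈ H, ∀ b ∈ H, a * b = b * a)
  (hZ : H ⊓ Subgroup.center G = ⊥)
  (hone : ∀ g : G, g ∉ Subgroup.center G → ∀ a b : G,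
    Subgroup.centralizer ({g} : Set G) ⊓ H.map (MulAut.conj a).toMonoidHom ≠ ⊥ →
    Subgroup.centralizer ({g} : Set G) ⊓ H.map (MulAut.conj b).toMonoidHom ≠ ⊥ →
    H.map (MulAut.conj a).toMonoidHom = H.map (MulAut.conj b).toMonoidHom)

include hab hZ hone

open Classical in
theorem first_part {χ : G → ℂ} (hχ : IsIrrCharacter G χ) (hker : ∃ h ∈ H, χ h ≠ χ 1) :
    (χ 1).re ^ 2 > (Nat.card H : ℝ) * (classInner (fun h : H => χ h) (fun _ => 1)).re ^ 2 := by
  let N : Subgroup G := Subgroup.normalizer (H : Set G)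
  let Z : Subgroup G := Subgroup.center G
  haveI : (H.subgroupOf N).Normal := Subgroup.normal_in_normalizer
  haveI := Fintype.ofFinite N
  obtain ⟨c, hc⟩ := (hχ.isCharacter.comp H.subtype).exists_nat_classInner (isCharacter_one (G := H))
  replace hc : classInner (fun h : H => χ h) (fun _ => 1) = (c : ℂ) := hc
  obtain ⟨d, hd0, hd⟩ := hχ.exists_degree
  rw [hc, hd, Complex.natCast_re, Complex.natCast_re]
  have hH0 : (Nat.card H : ℂ) ≠ 0 := card_cast_ne_zero
  let P : G → ℂ := fun g => (Nat.card H : ℂ)⁻¹ * ∑ h : H, χ (g * h)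
  have hP1 : P 1 = (c : ℂ) := by
    rw [← hc]; simp [P, classInner]
  have hPinv : ∀ (g : G) (h : H), P (g * h) = P g := fun g h => by
    show _ * _ = _ * _
    congr 1
    exact Fintype.sum_equiv (Equiv.mulLeft h) _ _ fun k => by simp [mul_assoc]
  -- the three kinds of elements of the normalizer
  let X : Finset G := Finset.univ.filter fun g =>
    g ∈ N ∧ g ∉ Z ∧ ∃ h ∈ H, h ≠ 1 ∧ g * h = h * g
  let B : Finset G := Finset.univ.filter fun g =>
    g ∈ N ∧ g ∉ Z ∧ ∀ h ∈ H, g * h = h * g → h = 1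
  let ZF : Finset G := Finset.univ.filter fun g => g ∈ Z
  let NF : Finset G := Finset.univ.filter fun g => g ∈ N
  have hB : ∀ g ∈ B, P g = χ g := by
    intro g hg
    obtain ⟨-, hgN, -, hfpf⟩ := Finset.mem_filter.mp hg
    have hgN' : g⁻¹ ∈ N := N.inv_mem hgN
    let f : H → H := fun k => ⟨g⁻¹ * k * (g⁻¹)⁻¹ * (k : G)⁻¹,
      H.mul_mem ((hgN' k).mp k.2) (H.inv_mem k.2)⟩
    have hinj : Function.Injective f := by
      intro k l hkl
      have h1 : g⁻¹ * k * (g⁻¹)⁻¹ * (k : G)⁻¹ = g⁻¹ * l * (g⁻¹)⁻¹ * (l : G)⁻¹ := congrArg Subtype.val hkl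
      have hu : g⁻¹ * ((k : G) * (l : G)⁻¹) * g ∈ H := by
        have := (hgN' _).mp (H.mul_mem k.2 (H.inv_mem l.2))
        rwa [inv_inv] at this
      rw [inv_inv] at h1
      have h2 : g⁻¹ * ((k : G) * (l : G)⁻¹) * g = (k : G) * (l : G)⁻¹ := by
        have e2 : g⁻¹ * (k : G) * g = g⁻¹ * (l : G) * g * ((l : G)⁻¹ * k) := by
          rw [← mul_assoc, ← h1]; group
        calc g⁻¹ * ((k : G) * (l : G)⁻¹) * g = g⁻¹ * (k : G) * g * (g⁻¹ * (l : G) * g)⁻¹ := by group
          _ = g⁻¹ * (l : G) * g * ((l : G)⁻¹ * k) * (g⁻¹ * (l : G) * g)⁻¹ := by rw [e2]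
          _ = (l : G)⁻¹ * k * (g⁻¹ * (l : G) * g) * (g⁻¹ * (l : G) * g)⁻¹ := by
              rw [hab (g⁻¹ * (l : G) * g) (by have := (hgN' _).mp l.2; rwa [inv_inv] at this)
                ((l : G)⁻¹ * k) (H.mul_mem (H.inv_mem l.2) k.2)]
          _ = (k : G) * (l : G)⁻¹ := by
              rw [mul_inv_cancel_right, hab _ (H.inv_mem l.2) _ k.2]
      have h3 := hfpf _ (H.mul_mem k.2 (H.inv_mem l.2)) (by
        conv_lhs => rw [← h2]
        group)
      exact Subtype.ext (mul_inv_eq_one.mp h3)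
    have hsur := Finite.injective_iff_surjective.mp hinj
    show (Nat.card H : ℂ)⁻¹ * ∑ h : H, χ (g * h) = χ g
    rw [Finset.sum_congr rfl (g := fun _ => χ g) fun h _ => ?_, Finset.sum_const, Finset.card_univ,
      nsmul_eq_mul, ← Nat.card_eq_fintype_card, ← mul_assoc, inv_mul_cancel₀ hH0, one_mul]
    obtain ⟨k, rfl⟩ := hsur h
    show χ (g * (g⁻¹ * k * (g⁻¹)⁻¹ * (k : G)⁻¹)) = χ g
    rw [show g * (g⁻¹ * k * (g⁻¹)⁻¹ * (k : G)⁻¹) = k * g * (k : G)⁻¹ by group]
    exact hχ.isClassFunction g k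
  -- Pythagoras on the normalizer
  have hnorm : (Nat.card N : ℝ) ≤ ∑ g ∈ NF, ‖χ g - P g‖ ^ 2 := by
    let χN : N → ℂ := fun n => χ n
    have hχN : IsCharacter N χN := hχ.isCharacter.comp N.subtype
    have hexp := eq_sum_classInner hχN.isClassFunction
    choose m hm using fun ψ : IrrCharacter N => hχN.exists_nat_classInner ψ.2.isCharacter
    choose e he he0 using fun ψ : IrrCharacter N => proj_irr (H.subgroupOf N) ψ.2
    have hK : Fintype.card (H.subgroupOf N) = Nat.card H := by
      rw [← Nat.card_eq_fintype_card]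
      exact Nat.card_congr (Subgroup.subgroupOfEquivOfLe Subgroup.le_normalizer).toEquiv
    have hdiff : (fun n : N => χ n - P n) =
        ∑ ψ : IrrCharacter N, ((m ψ : ℂ) * (1 - e ψ / Nat.card H)) • (ψ : N → ℂ) := by
      funext n
      have h1 : ∀ x : N, χ x = ∑ ψ : IrrCharacter N, (m ψ : ℂ) * (ψ : N → ℂ) x := fun x => by
        have := congrFun hexp x
        simpa [χN, Finset.sum_apply, hm] using this
      have h2 : P n = (Nat.card H : ℂ)⁻¹ * ∑ k : H.subgroupOf N, χ ((n * (k : N) : N) : G) := by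
        show _ * _ = _ * _
        congr 1
        exact (Fintype.sum_equiv (Subgroup.subgroupOfEquivOfLe Subgroup.le_normalizer).toEquiv _ _
          fun k => rfl).symm
      simp only [Finset.sum_apply, Pi.smul_apply, smul_eq_mul, h2, h1]
      rw [Finset.sum_comm, Finset.mul_sum, ← Finset.sum_sub_distrib]
      refine Finset.sum_congr rfl fun ψ _ => ?_
      rw [← Finset.mul_sum, he]
      ring
    obtain ⟨h₀, hh₀, hχh₀⟩ := hker
    obtain ⟨ψ₀, hψ₀, hψh⟩ : ∃ ψ : IrrCharacter N, m ψ ≠ 0 ∧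
        (ψ : N → ℂ) ⟨h₀, Subgroup.le_normalizer hh₀⟩ ≠ (ψ : N → ℂ) 1 := by
      by_contra hcon
      push Not at hcon
      apply hχh₀
      have h1 := congrFun hexp ⟨h₀, Subgroup.le_normalizer hh₀⟩
      have h2 := congrFun hexp 1
      simp only [χN, Finset.sum_apply, Pi.smul_apply, smul_eq_mul, hm] at h1 h2
      rw [h1, show χ 1 = χ ((1 : N) : G) from rfl, h2]
      refine Finset.sum_congr rfl fun ψ _ => ?_
      by_cases hmψ : m ψ = 0
      · rw [hmψ, Nat.cast_zero, zero_mul, zero_mul]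
      · rw [hcon ψ hmψ]
    have he₀ : e ψ₀ = 0 := he0 ψ₀ ⟨⟨⟨h₀, Subgroup.le_normalizer hh₀⟩, Subgroup.mem_subgroupOf.mpr hh₀⟩, hψh⟩
    have hii : classInner (fun n : N => χ n - P n) (fun n : N => χ n - P n) =
        ∑ ψ : IrrCharacter N, ((Complex.normSq ((m ψ : ℂ) * (1 - e ψ / Nat.card H)) : ℝ) : ℂ) := by
      rw [hdiff, classInner_sum_left]
      refine Finset.sum_congr rfl fun ψ _ => ?_
      rw [classInner_smul_left, classInner_sum_right, Finset.sum_eq_single_of_mem ψ (Finset.mem_univ _)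
        fun φ _ hne => by rw [classInner_smul_right, classInner_irr_ne ψ.2 φ.2 fun h => hne (Subtype.ext h).symm, mul_zero],
        classInner_smul_right, classInner_irr_self ψ.2, mul_one, Complex.mul_conj]
    have hone' : (1 : ℝ) ≤ (classInner (fun n : N => χ n - P n) (fun n : N => χ n - P n)).re := by
      rw [hii, Complex.re_sum]
      simp only [Complex.ofReal_re]
      refine le_trans ?_ (Finset.single_le_sum (fun ψ _ => Complex.normSq_nonneg _) (Finset.mem_univ ψ₀))
      rw [he₀, zero_div, sub_zero, mul_one, Complex.normSq_natCast]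
      have : (1 : ℝ) ≤ m ψ₀ := by exact_mod_cast Nat.pos_of_ne_zero hψ₀
      nlinarith
    rw [classInner] at hone'
    simp only [Complex.mul_conj, Complex.normSq_eq_norm_sq, ← Complex.ofReal_natCast, ← Complex.ofReal_inv,
      ← Complex.ofReal_sum, ← Complex.ofReal_mul, Complex.ofReal_re] at hone'
    rw [Finset.sum_subtype NF (p := fun g => g ∈ N) (by simp [NF])]
    have hN0 : (0 : ℝ) < Nat.card N := by exact_mod_cast Nat.card_pos
    rw [inv_mul_eq_div, le_div_iff₀ hN0, one_mul] at hone'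
    exact hone'
  have hpyth : ∑ g ∈ NF, ‖χ g‖ ^ 2 = ∑ g ∈ NF, ‖P g‖ ^ 2 + ∑ g ∈ NF, ‖χ g - P g‖ ^ 2 := by
    have hortho : ∑ g ∈ NF, P g * conj (χ g) = ∑ g ∈ NF, P g * conj (P g) := by
      have h1 : ∀ h : H, ∑ g ∈ NF, P g * conj (χ (g * h)) = ∑ g ∈ NF, P g * conj (χ g) := fun h => by
        refine Finset.sum_equiv (Equiv.mulRight (h : G)) (fun g => ?_) fun g _ => ?_
        · simp only [NF, Finset.mem_filter, Finset.mem_univ, true_and, Equiv.coe_mulRight]
          exact (N.mul_mem_cancel_right (Subgroup.le_normalizer h.2)).symm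
        · rw [Equiv.coe_mulRight, hPinv]
      symm
      calc ∑ g ∈ NF, P g * conj (P g)
          = (Nat.card H : ℂ)⁻¹ * ∑ h : H, ∑ g ∈ NF, P g * conj (χ (g * h)) := by
            rw [Finset.sum_comm, Finset.mul_sum]
            refine Finset.sum_congr rfl fun g _ => ?_
            simp only [P, map_mul, map_sum, map_inv₀, map_natCast, Finset.mul_sum]
            exact Finset.sum_congr rfl fun k _ => by ring
        _ = _ := by
            rw [Finset.sum_congr rfl fun h _ => h1 h, Finset.sum_const, Finset.card_univ, nsmul_eq_mul,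
              ← Nat.card_eq_fintype_card, ← mul_assoc, inv_mul_cancel₀ hH0, one_mul]
    have h2 := congrArg Complex.re hortho
    rw [Complex.re_sum, Complex.re_sum] at h2
    rw [← Finset.sum_add_distrib]
    have h3 : ∀ g, ‖χ g‖ ^ 2 = ‖P g‖ ^ 2 + ‖χ g - P g‖ ^ 2 + 2 * ((P g * conj (χ g)).re - (P g * conj (P g)).re) := by
      intro g
      simp only [← Complex.normSq_eq_norm_sq, Complex.normSq_apply, Complex.mul_re, Complex.conj_re,
        Complex.conj_im, Complex.sub_re, Complex.sub_im]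
      ring
    rw [Finset.sum_congr rfl fun g _ => h3 g, Finset.sum_add_distrib]
    rw [← Finset.mul_sum, Finset.sum_sub_distrib, h2, sub_self, mul_zero, add_zero]
  have hZN : Z ≤ N := fun z hz k => by
    rw [← Subgroup.mem_center_iff.mp hz k, mul_inv_cancel_right]
  have hNsplit : ∀ F : G → ℝ, ∑ g ∈ NF, F g = ∑ g ∈ ZF, F g + ∑ g ∈ X, F g + ∑ g ∈ B, F g := by
    intro F
    rw [← Finset.sum_union, ← Finset.sum_union]
    · refine Finset.sum_congr ?_ fun _ _ => rfl
      ext g
      simp only [NF, ZF, X, B, Finset.mem_union, Finset.mem_filter, Finset.mem_univ, true_and]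
      constructor
      · intro hg
        by_cases hz : g ∈ Z
        · exact Or.inl (Or.inl hz)
        by_cases hh : ∃ h ∈ H, h ≠ 1 ∧ g * h = h * g
        · exact Or.inl (Or.inr ⟨hg, hz, hh⟩)
        · push Not at hh
          exact Or.inr ⟨hg, hz, fun h hh' e => by_contra fun hne => hh h hh' hne e⟩
      · rintro ((hz | ⟨hg, -, -⟩) | ⟨hg, -, -⟩)
        exacts [hZN hz, hg, hg]
    · rw [Finset.disjoint_left]
      intro g hg hg'
      simp only [ZF, X, B, Finset.mem_union, Finset.mem_filter, Finset.mem_univ, true_and] at hg hg'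
      rcases hg with hg | ⟨-, -, h, hh, hne, e⟩
      · exact hg'.2.1 hg
      · exact hne (hg'.2.2 h hh e)
    · rw [Finset.disjoint_left]
      intro g hg hg'
      simp only [ZF, X, Finset.mem_filter, Finset.mem_univ, true_and] at hg hg'
      exact hg'.2.1 hg
  have hbadeq : ∑ g ∈ B, ‖P g‖ ^ 2 = ∑ g ∈ B, ‖χ g‖ ^ 2 :=
    Finset.sum_congr rfl fun g hg => by rw [hB g hg]
  -- the central and near-central elements
  have hZχ : ∑ g ∈ ZF, ‖χ g‖ ^ 2 = (Nat.card Z : ℝ) * (d : ℝ) ^ 2 := by
    rw [Finset.sum_congr rfl (g := fun _ => (d : ℝ) ^ 2) fun g hg => ?_, Finset.sum_const, nsmul_eq_mul,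
      show ZF.card = Nat.card Z by rw [Nat.card_eq_fintype_card, Fintype.card_subtype]]
    obtain ⟨w, hw, hwz⟩ := central_scalar hχ (Finset.mem_filter.mp hg).2
    have := hwz 1
    rw [mul_one, hd] at this
    rw [this, norm_mul, hw, one_mul, Complex.norm_natCast]
  have hPlow : (Nat.card H : ℝ) * Nat.card Z * (c : ℝ) ^ 2 ≤
      ∑ g ∈ ZF, ‖P g‖ ^ 2 + ∑ g ∈ X, ‖P g‖ ^ 2 := by
    rw [← Finset.sum_union (by
      rw [Finset.disjoint_left]
      intro g hg hg'
      simp only [ZF, X, Finset.mem_filter, Finset.mem_univ, true_and] at hg hg'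
      exact hg'.2.1 hg)]
    let M : Finset G := (Finset.univ : Finset (Z × H)).image fun q => (q.1 : G) * q.2
    have hinj : Function.Injective fun q : Z × H => (q.1 : G) * q.2 := by
      rintro ⟨z, h⟩ ⟨z', h'⟩ e
      simp only at e
      have h1 : (h : G) * (h' : G)⁻¹ ∈ H ⊓ Subgroup.center G := by
        refine ⟨H.mul_mem h.2 (H.inv_mem h'.2), ?_⟩
        have h3 : (h : G) * (h' : G)⁻¹ = (z : G)⁻¹ * z' := by
          rw [show (h : G) = (z : G)⁻¹ * ((z : G) * h) by group, e]; group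
        rw [h3]
        exact Z.mul_mem (Z.inv_mem z.2) z'.2
      rw [hZ, Subgroup.mem_bot, mul_inv_eq_one] at h1
      rw [h1] at e
      exact Prod.ext (Subtype.ext (mul_right_cancel e)) (Subtype.ext h1)
    refine le_trans (le_of_eq ?_) (Finset.sum_le_sum_of_subset_of_nonneg (s := M) ?_
      fun g _ _ => sq_nonneg _)
    · rw [Finset.sum_image fun a _ b _ e => hinj e, Finset.sum_congr rfl (g := fun _ => (c : ℝ) ^ 2) fun q _ => ?_,
        Finset.sum_const, Finset.card_univ, nsmul_eq_mul, Fintype.card_prod, Nat.cast_mul,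
        ← Nat.card_eq_fintype_card, ← Nat.card_eq_fintype_card, mul_comm (Nat.card H : ℝ)]
      obtain ⟨w, hw, hwz⟩ := central_scalar hχ q.1.2
      have : P ((q.1 : G) * q.2) = w * P 1 := by
        rw [hPinv]
        simp only [P, hwz, one_mul, ← Finset.mul_sum]
        ring
      rw [this, norm_mul, hw, one_mul, hP1, Complex.norm_natCast]
    · intro g hg
      obtain ⟨⟨z, h⟩, -, rfl⟩ := Finset.mem_image.mp hg
      simp only [ZF, X, Finset.mem_union, Finset.mem_filter, Finset.mem_univ, true_and]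
      by_cases hz : (z : G) * h ∈ Z
      · exact Or.inl hz
      refine Or.inr ⟨N.mul_mem (hZN z.2) (Subgroup.le_normalizer h.2), hz, h, h.2,
        fun e => hz ?_, ?_⟩
      · rw [e, mul_one]; exact z.2
      · rw [mul_assoc, ← mul_assoc (h : G) z, Subgroup.mem_center_iff.mp z.2 h, mul_assoc]
  have hX : (Nat.card N : ℝ) + Nat.card H * Nat.card Z * (c : ℝ) ^ 2 ≤
      (Nat.card Z : ℝ) * (d : ℝ) ^ 2 + ∑ g ∈ X, ‖χ g‖ ^ 2 := by
    rw [← hZχ]
    have e1 := hNsplit fun g => ‖χ g‖ ^ 2
    have e2 := hNsplit fun g => ‖P g‖ ^ 2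
    linarith
  -- spread over the conjugates
  have hspread : (Nat.card G : ℝ) * ∑ g ∈ X, ‖χ g‖ ^ 2 ≤
      (Nat.card N : ℝ) * ((Nat.card G : ℝ) - Nat.card Z * (d : ℝ) ^ 2) := by
    have htot : ∑ g : G, ‖χ g‖ ^ 2 = (Nat.card G : ℝ) := by
      have h1 := classInner_irr_self hχ
      rw [classInner, inv_mul_eq_iff_eq_mul₀ card_cast_ne_zero, mul_one] at h1
      simp only [Complex.mul_conj, Complex.normSq_eq_norm_sq] at h1
      exact_mod_cast h1
    have hrest : ∑ g ∈ Finset.univ.filter (fun g : G => g ∉ Z), ‖χ g‖ ^ 2 =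
        (Nat.card G : ℝ) - Nat.card Z * (d : ℝ) ^ 2 := by
      rw [← htot, ← hZχ, ← Finset.sum_filter_add_sum_filter_not Finset.univ (fun g : G => g ∈ Z)]
      ring
    rw [← hrest, Nat.card_eq_fintype_card, ← Finset.card_univ, ← nsmul_eq_mul, ← Finset.sum_const]
    calc ∑ _a : G, ∑ g ∈ X, ‖χ g‖ ^ 2
        = ∑ a : G, ∑ y : G, if a⁻¹ * y * a ∈ X then ‖χ y‖ ^ 2 else 0 := by
          refine Finset.sum_congr rfl fun a _ => ?_
          rw [← Finset.sum_filter]
          refine Finset.sum_equiv (MulAut.conj a).toEquiv (fun g => ?_) fun g _ => ?_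
          · simp [MulAut.conj_apply, mul_assoc]
          · show ‖χ g‖ ^ 2 = ‖χ (a * g * a⁻¹)‖ ^ 2
            rw [hχ.isClassFunction]
      _ = ∑ y : G, ((Finset.univ.filter fun a : G => a⁻¹ * y * a ∈ X).card : ℝ) * ‖χ y‖ ^ 2 := by
          rw [Finset.sum_comm]
          exact Finset.sum_congr rfl fun y _ => by rw [← Finset.sum_filter, Finset.sum_const, nsmul_eq_mul]
      _ ≤ ∑ y ∈ Finset.univ.filter (fun g : G => g ∉ Z), (Nat.card N : ℝ) * ‖χ y‖ ^ 2 := by
          rw [Finset.sum_filter (p := fun g : G => g ∉ Z)]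
          refine Finset.sum_le_sum fun y _ => ?_
          by_cases hy : y ∈ Z
          · rw [if_neg (not_not.mpr hy), Finset.card_eq_zero.mpr, Nat.cast_zero, zero_mul]
            rw [Finset.filter_eq_empty_iff]
            intro a _ ha
            simp only [X, Finset.mem_filter] at ha
            apply ha.2.2.1
            rw [mul_assoc, ← Subgroup.mem_center_iff.mp hy a, ← mul_assoc, inv_mul_cancel, one_mul]
            exact hy
          rw [if_pos hy]
          refine mul_le_mul_of_nonneg_right ?_ (sq_nonneg _)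
          rcases (Finset.univ.filter fun a : G => a⁻¹ * y * a ∈ X).eq_empty_or_nonempty with h0 | ⟨b, hb⟩
          · rw [h0, Finset.card_empty, Nat.cast_zero]; positivity
          refine Nat.cast_le.mpr ?_
          rw [Nat.card_eq_fintype_card, ← Finset.card_univ]
          have hne : ∀ a : G, a⁻¹ * y * a ∈ X →
              Subgroup.centralizer ({y} : Set G) ⊓ H.map (MulAut.conj a).toMonoidHom ≠ ⊥ := by
            intro a ha he
            obtain ⟨-, -, -, h, hh, hne, e⟩ := Finset.mem_filter.mp ha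
            have hmem : a * h * a⁻¹ ∈ Subgroup.centralizer ({y} : Set G) ⊓ H.map (MulAut.conj a).toMonoidHom := by
              refine ⟨Subgroup.mem_centralizer_singleton_iff.mpr ?_, ⟨h, hh, rfl⟩⟩
              calc a * h * a⁻¹ * y = a * (h * (a⁻¹ * y * a)) * a⁻¹ := by group
                _ = y * (a * h * a⁻¹) := by rw [← e]; group
            rw [he, Subgroup.mem_bot, mul_inv_eq_one, mul_eq_left] at hmem
            exact hne hmem
          refine Finset.card_le_card_of_injOn (fun a => if h : b⁻¹ * a ∈ N then (⟨b⁻¹ * a, h⟩ : N) else 1)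
            (fun _ _ => Finset.mem_univ _) ?_
          have hbN : ∀ a ∈ (Finset.univ.filter fun a : G => a⁻¹ * y * a ∈ X), b⁻¹ * a ∈ N := by
            intro a ha
            have heq := hone y hy a b (hne a (Finset.mem_filter.mp ha).2) (hne b (Finset.mem_filter.mp hb).2)
            intro k
            constructor
            · intro hk
              obtain ⟨k', hk', e⟩ : a * k * a⁻¹ ∈ H.map (MulAut.conj b).toMonoidHom :=
                heq ▸ ⟨k, hk, rfl⟩
              have e' : b * k' * b⁻¹ = a * k * a⁻¹ := e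
              rwa [show b⁻¹ * a * k * (b⁻¹ * a)⁻¹ = k' by
                calc _ = b⁻¹ * (a * k * a⁻¹) * b := by group
                  _ = k' := by rw [← e']; group]
            · intro hk
              obtain ⟨k', hk', e⟩ : b * (b⁻¹ * a * k * (b⁻¹ * a)⁻¹) * b⁻¹ ∈ H.map (MulAut.conj a).toMonoidHom :=
                heq.symm ▸ ⟨_, hk, rfl⟩
              have e' : a * k' * a⁻¹ = b * (b⁻¹ * a * k * (b⁻¹ * a)⁻¹) * b⁻¹ := e
              rwa [show k = k' by
                calc k = a⁻¹ * (b * (b⁻¹ * a * k * (b⁻¹ * a)⁻¹) * b⁻¹) * a := by group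
                  _ = k' := by rw [← e']; group]
          intro a ha a' ha' haa
          simp only [dif_pos (hbN a ha), dif_pos (hbN a' ha'), Subtype.mk.injEq] at haa
          exact mul_left_cancel haa
      _ = _ := by rw [← Finset.mul_sum]
  by_contra hcon
  have hG0 : (0 : ℝ) < Nat.card G := by exact_mod_cast Nat.card_pos
  have hN0 : (0 : ℝ) < Nat.card N := by exact_mod_cast Nat.card_pos
  have hZ0 : (0 : ℝ) < Nat.card Z := by exact_mod_cast Nat.card_pos
  have hd1 : (0 : ℝ) < (d : ℝ) ^ 2 := by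
    have : (0 : ℝ) < d := by exact_mod_cast hd0
    positivity
  have hle : (d : ℝ) ^ 2 ≤ Nat.card H * (c : ℝ) ^ 2 := by
    simpa only [gt_iff_lt, not_lt] using hcon
  have h1 := mul_le_mul_of_nonneg_left hX hG0.le
  have h2 := mul_le_mul_of_nonneg_left hle (mul_nonneg hG0.le hZ0.le)
  have h3 := mul_pos (mul_pos hN0 hZ0) hd1
  nlinarith

end Main


theorem result {G : Type*} [Group G] [Fintype G] (H : Subgroup G) [Fintype H] (hab : ∀ a ∈ H, ∀ b ∈ H, a * b = b * a) (hZ : H ⊓ Subgroup.center G = ⊥) (hone : ∀ g : G, g ∉ Subgroup.center G → ∀ a b : G, Subgroup.centralizer ({g} : Set G) ⊓ H.map (MulAut.conj a).toMonoidHom ≠ ⊥ → Subgroup.centralizer ({g} : Set G) ⊓ H.map (MulAut.conj b).toMonoidHom ≠ ⊥ → H.map (MulAut.conj a).toMonoidHom = H.map (MulAut.conj b).toMonoidHom) (χ : G → ℂ) (hχ : Cfsg.IsIrrCharacter G χ) (hker : ∃ h ∈ H, χ h ≠ χ 1) : (χ 1).re ^ 2 > (Nat.card H : ℝ) * (Cfsg.classInner (fun h : H => χ h) (fun _ => 1)).re ^ 2 ∧ (χ 1 ≠ 1 → (∀ M : Subgroup G, M.Normal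 → H ≤ M → M = ⊤) → (1 + (χ 1).re) ^ 2 > (Nat.card H : ℝ)) := by
  classical
  refine ⟨first_part H hab hZ hone hχ hker, fun hχ1 hclos => ?_⟩
  obtain ⟨d, hd0, hd⟩ := hχ.exists_degree
  rw [hd, Complex.natCast_re]
  -- constituents of `χ * conj χ`
  have hcc : IsCharacter G (χ * fun g => starRingEnd ℂ (χ g)) := hχ.isCharacter.mul hχ.isCharacter.conjFn
  have hexp := eq_sum_classInner hcc.isClassFunction
  choose m hm using fun ψ : IrrCharacter G => hcc.exists_nat_classInner ψ.2.isCharacter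
  choose q hq using fun ψ : IrrCharacter G =>
    (ψ.2.isCharacter.comp H.subtype).exists_nat_classInner (isCharacter_one (G := H))
  replace hq : ∀ ψ : IrrCharacter G, classInner (fun h : H => (ψ : G → ℂ) h) (fun _ => 1) = (q ψ : ℂ) := hq
  choose e he0 he using fun ψ : IrrCharacter G => ψ.2.exists_degree
  let one : IrrCharacter G := ⟨fun _ => 1, isIrrCharacter_one⟩
  have hm1 : m one = 1 := by
    have h1 := hm one
    have h2 : classInner (χ * fun g => starRingEnd ℂ (χ g)) (one : G → ℂ) = classInner χ χ := by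
      simp [classInner, one]
    rw [h2, classInner_irr_self hχ] at h1
    exact_mod_cast h1.symm
  have hq1 : q one = 1 := by
    have h1 := hq one
    have h2 : classInner (fun h : H => (one : G → ℂ) h) (fun _ => 1) = 1 := classInner_irr_self isIrrCharacter_one
    rw [h2] at h1
    exact_mod_cast h1.symm
  have he1 : e one = 1 := by
    have h1 := he one
    simp only [one] at h1
    exact_mod_cast h1.symm
  have hval : ∀ g : G, χ g * starRingEnd ℂ (χ g) = ∑ ψ : IrrCharacter G, (m ψ : ℂ) * (ψ : G → ℂ) g := fun g => by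
    have := congrFun hexp g
    simpa [Finset.sum_apply, hm] using this
  have hdeg : d * d = ∑ ψ : IrrCharacter G, m ψ * e ψ := by
    have h1 := hval 1
    rw [hd, map_natCast] at h1
    simp only [he] at h1
    exact_mod_cast h1
  -- multiplicity of the principal character on `H`
  have hres : d ≤ ∑ ψ : IrrCharacter G, m ψ * q ψ := by
    letI : CommGroup H := { (inferInstance : Group H) with mul_comm := fun x y => Subtype.ext (hab _ x.2 _ y.2) }
    have hcH : IsCharacter H fun h : H => χ h := hχ.isCharacter.comp H.subtype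
    choose a ha using fun l : IrrCharacter H => hcH.exists_nat_classInner l.2.isCharacter
    have hsum : (∑ ψ : IrrCharacter G, m ψ * q ψ : ℕ) = ∑ l : IrrCharacter H, a l * a l := by
      have h1 : classInner (fun h : H => χ h) (fun h : H => χ h) = ∑ ψ : IrrCharacter G, (m ψ : ℂ) * (q ψ : ℂ) := by
        simp only [← hq, classInner, mul_one, map_one, hval, Finset.mul_sum]
        rw [Finset.sum_comm]
        exact Finset.sum_congr rfl fun ψ _ => Finset.sum_congr rfl fun h _ => by ring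
      rw [eq_sum_classInner hcH.isClassFunction, classInner_sum_left] at h1
      simp only [classInner_smul_left, classInner_sum_right, classInner_smul_right, ha,
        Complex.conj_natCast] at h1
      rw [Finset.sum_congr rfl (g := fun l => (a l : ℂ) * a l) fun l _ => by
        rw [Finset.sum_eq_single_of_mem l (Finset.mem_univ _) fun l' _ hne => by
          rw [classInner_irr_ne l.2 l'.2 fun h => hne (Subtype.ext h).symm, mul_zero, mul_zero],
          classInner_irr_self l.2, mul_one]] at h1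
      exact_mod_cast h1.symm
    have hda : d = ∑ l : IrrCharacter H, a l := by
      have h1 := congrFun (eq_sum_classInner hcH.isClassFunction) 1
      simp only [Finset.sum_apply, Pi.smul_apply, smul_eq_mul, ha,
        degree_eq_one_of_comm (fun x y : H => mul_comm x y) (Subtype.prop _), mul_one, Subgroup.coe_one, hd] at h1
      exact_mod_cast h1
    rw [hsum, hda]
    exact Finset.sum_le_sum fun l _ => Nat.le_mul_self _
  -- the first part applies to the non-principal constituents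
  have hstep : ∀ ψ ∈ Finset.univ.erase one,
      Real.sqrt (Nat.card H) * ((m ψ : ℝ) * q ψ) ≤ (m ψ : ℝ) * e ψ ∧
      (m ψ * q ψ ≠ 0 → Real.sqrt (Nat.card H) * ((m ψ : ℝ) * q ψ) < (m ψ : ℝ) * e ψ) := by
    intro ψ hψ
    have hψ1 : ψ ≠ one := Finset.ne_of_mem_erase hψ
    have hk : ∃ h ∈ H, (ψ : G → ℂ) h ≠ (ψ : G → ℂ) 1 := by
      by_contra hno
      push Not at hno
      haveI := charKer_normal ψ.2.isCharacter
      have htop := hclos (charKer ψ.2.isCharacter) inferInstance fun h hh => hno h hh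
      have hcst : (ψ : G → ℂ) = fun _ => (e ψ : ℂ) := funext fun g => by
        rw [← he ψ]; exact (mem_charKer ψ.2.isCharacter).mp (htop ▸ Subgroup.mem_top g)
      have h1 : classInner (ψ : G → ℂ) (one : G → ℂ) = 0 :=
        classInner_irr_ne ψ.2 one.2 fun h => hψ1 (Subtype.ext h)
      rw [hcst] at h1
      have hG := card_cast_ne_zero (G := G)
      have he' : (e ψ : ℂ) ≠ 0 := Nat.cast_ne_zero.mpr (he0 ψ).ne'
      simp [classInner, one, hG, he', ← Nat.card_eq_fintype_card] at h1
    have h1 := first_part H hab hZ hone ψ.2 hk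
    rw [he ψ, hq ψ, Complex.natCast_re, Complex.natCast_re] at h1
    have h2 : Real.sqrt (Nat.card H) * (q ψ : ℝ) < e ψ := by
      have hs : Real.sqrt (Nat.card H) ^ 2 = (Nat.card H : ℝ) := Real.sq_sqrt (Nat.cast_nonneg _)
      refine lt_of_pow_lt_pow_left₀ 2 (Nat.cast_nonneg _) ?_
      rw [mul_pow, hs]; exact h1
    refine ⟨?_, fun hne => ?_⟩
    · rw [mul_left_comm]
      exact mul_le_mul_of_nonneg_left h2.le (Nat.cast_nonneg _)
    · rw [mul_left_comm]
      exact mul_lt_mul_of_pos_left h2 (Nat.cast_pos.mpr (Nat.pos_of_ne_zero (left_ne_zero_of_mul hne)))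
  have hd2 : 2 ≤ d := by
    by_contra hlt
    exact hχ1 (by rw [hd, show d = 1 by omega, Nat.cast_one])
  rw [← Finset.add_sum_erase _ _ (Finset.mem_univ one), hm1, hq1] at hres
  rw [← Finset.add_sum_erase _ _ (Finset.mem_univ one), hm1, he1] at hdeg
  obtain ⟨ψ₁, hψ₁, hne₁⟩ : ∃ ψ ∈ Finset.univ.erase one, m ψ * q ψ ≠ 0 := by
    by_contra hall
    push Not at hall
    rw [Finset.sum_eq_zero hall] at hres
    omega
  have hlt : Real.sqrt (Nat.card H) * ((∑ ψ ∈ Finset.univ.erase one, m ψ * q ψ : ℕ) : ℝ) <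
      ((∑ ψ ∈ Finset.univ.erase one, m ψ * e ψ : ℕ) : ℝ) := by
    push_cast
    rw [Finset.mul_sum]
    exact Finset.sum_lt_sum (fun ψ hψ => (hstep ψ hψ).1) ⟨ψ₁, hψ₁, (hstep ψ₁ hψ₁).2 hne₁⟩
  have h4 : (d : ℝ) - 1 ≤ ((∑ ψ ∈ Finset.univ.erase one, m ψ * q ψ : ℕ) : ℝ) := by
    have : (d : ℝ) ≤ 1 * 1 + ((∑ ψ ∈ Finset.univ.erase one, m ψ * q ψ : ℕ) : ℝ) := by exact_mod_cast hres
    linarith
  have h5 : (d : ℝ) * d = 1 * 1 + ((∑ ψ ∈ Finset.univ.erase one, m ψ * e ψ : ℕ) : ℝ) := by exact_mod_cast hdeg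
  have hd2' : (2 : ℝ) ≤ d := by exact_mod_cast hd2
  have hs0 := Real.sqrt_nonneg (Nat.card H : ℝ)
  have h6 := mul_le_mul_of_nonneg_left h4 hs0
  have h7 : Real.sqrt (Nat.card H) < 1 + d := by
    have h8 : Real.sqrt (Nat.card H) * ((d : ℝ) - 1) < (1 + d) * ((d : ℝ) - 1) := by nlinarith
    exact lt_of_mul_lt_mul_right h8 (by linarith)
  calc (Nat.card H : ℝ) = Real.sqrt (Nat.card H) ^ 2 := (Real.sq_sqrt (Nat.cast_nonneg _)).symm
    _ < (1 + d) ^ 2 := pow_lt_pow_left₀ h7 hs0 two_ne_zero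

end Cfsg.Agent.S0898
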