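import Cfsg.Statements.S2653
import Cfsg.Agent.Lib.Linear.AltDeg.Reduce

set_option autoImplicit false
open scoped MatrixGroups
open Cfsg

namespace Cfsg.Agent.S2653

/-- Alternating sections of finite linear groups. Let `F` be a finite field of characteristic `p` and `n` a natural number, and suppose some subgroup `H` of GL_n(F) has a normal subgroup `K` with `H ⧸ K` isomorphic to the alternating group of degree `r ≥ 9`. Then `n ≥ r - 2` when `p` divides `r`, and `n ≥ r - 1` otherwise (the smallest degree of a nontrivial projective representation of that alternating group in characteristic `p`). The same bound follows for every classical group with natural module of dimension `n` over `F`, since each is a section of a subgroup of GL_n(F). -/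
theorem result {F : Type*} [Field F] [Fintype F] (p : ℕ) [Fact p.Prime] [CharP F p]
    (n : ℕ) (r : ℕ) (H : Subgroup (GL (Fin n) F)) (K : Subgroup ↥H) [K.Normal]
    (h : Nonempty (↥H ⧸ K ≃* ↥(alternatingGroup (Fin r)))) (hr : 9 ≤ r) :
    r - 1 - (if p ∣ r then 1 else 0) ≤ n := by
  classical
  obtain ⟨e⟩ := h
  open Cfsg.Lib.Linear.AltDeg in
  have hb : DegBound (AlgebraicClosure F) (Fin n → AlgebraicClosure F) r :=
    section_bound (L := AlgebraicClosure F) hr n (fun d _ => smallBound hr d) (Nat.card H) H
      (Fin n → AlgebraicClosure F) (extRep _ H) (e.toMonoidHom.comp (QuotientGroup.mk' K)) rfl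
      (Module.finrank_fin_fun _) (e.surjective.comp (QuotientGroup.mk'_surjective K))
      (fun x hx => by
        rw [show x = 1 from extRep_injective _ H ((MonoidHom.mem_ker.1 hx).trans (map_one _).symm)]
        exact one_mem _)
  obtain ⟨h1, h2⟩ := hb
  rw [Module.finrank_fin_fun] at h1 h2
  split_ifs with hp
  · omega
  · refine (Nat.sub_le _ 0).trans (h2 fun h0 => hp ?_)
    rw [← map_natCast (algebraMap F (AlgebraicClosure F)), map_eq_zero] at h0
    exact (CharP.cast_eq_zero_iff F p r).1 h0

end Cfsg.Agent.S2653
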