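import Cfsg.Statements.S0302
import Cfsg.Agent.Lib.Linear.OrthSmallIso
import Cfsg.Agent.Lib.Linear.OrthOrderStd

set_option autoImplicit false
open Cfsg

namespace Cfsg.Agent.S0302

open scoped Matrix
open Cfsg.Lib.Linear

section

variable {F : Type*} [Field F]

/-- The alternating matrix with given coordinates. -/
def wedgeX : (Fin 3 ⊕ Fin 3 → F) →ₗ[F] Matrix (Fin 4) (Fin 4) F where
  toFun v := !![0, v (.inl 0), -v (.inl 1), v (.inl 2);
    -v (.inl 0), 0, v (.inr 2), v (.inr 1);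
    v (.inl 1), -v (.inr 2), 0, v (.inr 0);
    -v (.inl 2), -v (.inr 1), -v (.inr 0), 0]
  map_add' u v := by
    ext i j
    fin_cases i <;> fin_cases j <;> simp <;> ring
  map_smul' c v := by
    ext i j
    fin_cases i <;> fin_cases j <;> simp

/-- The coordinates of an alternating matrix. -/
def wedgeCo : Matrix (Fin 4) (Fin 4) F →ₗ[F] (Fin 3 ⊕ Fin 3 → F) where
  toFun N := Sum.elim ![N 0 1, -N 0 2, N 0 3] ![N 2 3, N 1 3, N 1 2]
  map_add' M N := by
    funext j
    rcases j with j | j <;> fin_cases j <;> simp <;> ring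
  map_smul' c M := by
    funext j
    rcases j with j | j <;> fin_cases j <;> simp

theorem co_X (v : Fin 3 ⊕ Fin 3 → F) : wedgeCo (wedgeX v) = v := by
  funext j
  rcases j with j | j <;> fin_cases j <;> simp [wedgeCo, wedgeX]

theorem X_co (N : Matrix (Fin 4) (Fin 4) F) (hd : ∀ i, N i i = 0) (hs : ∀ i j, N j i = -N i j) :
    wedgeX (wedgeCo N) = N := by
  ext i j
  fin_cases i <;> fin_cases j <;>
    simp [wedgeCo, wedgeX, hd, hs 0 1, hs 0 2, hs 0 3, hs 1 2, hs 1 3, hs 2 3]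

theorem entry (A : Matrix (Fin 4) (Fin 4) F) (v : Fin 3 ⊕ Fin 3 → F) (i j : Fin 4) :
    (A * wedgeX v * Aᵀ) i j = v (.inl 0) * (A i 0 * A j 1 - A i 1 * A j 0) -
      v (.inl 1) * (A i 0 * A j 2 - A i 2 * A j 0) + v (.inl 2) * (A i 0 * A j 3 - A i 3 * A j 0) +
      v (.inr 0) * (A i 2 * A j 3 - A i 3 * A j 2) + v (.inr 1) * (A i 1 * A j 3 - A i 3 * A j 1) +
      v (.inr 2) * (A i 1 * A j 2 - A i 2 * A j 1) := by
  simp [wedgeX, Matrix.mul_apply, Fin.sum_univ_four]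
  ring

theorem closed (A : Matrix (Fin 4) (Fin 4) F) (v : Fin 3 ⊕ Fin 3 → F) :
    wedgeX (wedgeCo (A * wedgeX v * Aᵀ)) = A * wedgeX v * Aᵀ :=
  X_co _ (fun i => by rw [entry]; ring) (fun i j => by rw [entry, entry]; ring)

theorem det_four (A : Matrix (Fin 4) (Fin 4) F) : A.det =
    (A 0 0 * A 1 1 - A 0 1 * A 1 0) * (A 2 2 * A 3 3 - A 2 3 * A 3 2) -
    (A 0 0 * A 1 2 - A 0 2 * A 1 0) * (A 2 1 * A 3 3 - A 2 3 * A 3 1) +
    (A 0 0 * A 1 3 - A 0 3 * A 1 0) * (A 2 1 * A 3 2 - A 2 2 * A 3 1) +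
    (A 0 1 * A 1 2 - A 0 2 * A 1 1) * (A 2 0 * A 3 3 - A 2 3 * A 3 0) -
    (A 0 1 * A 1 3 - A 0 3 * A 1 1) * (A 2 0 * A 3 2 - A 2 2 * A 3 0) +
    (A 0 2 * A 1 3 - A 0 3 * A 1 2) * (A 2 0 * A 3 1 - A 2 1 * A 3 0) := by
  simp [Matrix.det_succ_row_zero, Fin.sum_univ_four, Fin.sum_univ_three, Fin.succAbove,
    Matrix.submatrix_apply]
  ring

set_option maxHeartbeats 2000000 in
theorem pfaffian (A : Matrix (Fin 4) (Fin 4) F) (v : Fin 3 ⊕ Fin 3 → F) :
    Cfsg.quadFormPlus 3 F (wedgeCo (A * wedgeX v * Aᵀ)) = A.det * Cfsg.quadFormPlus 3 F v := by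
  simp only [Cfsg.quadFormPlus, Fin.sum_univ_three, wedgeCo, LinearMap.coe_mk, AddHom.coe_mk,
    Sum.elim_inl, Sum.elim_inr, Matrix.cons_val_zero, Matrix.cons_val_one, Matrix.cons_val_two,
    Matrix.head_cons, Matrix.tail_cons, entry, det_four]
  ring

/-- The exterior square of the natural representation. -/
theorem exists_wedge (F : Type*) [Field F] :
    ∃ φ : Matrix.SpecialLinearGroup (Fin 4) F →* GL (Fin 3 ⊕ Fin 3) F,
      (∀ g, φ g ∈ Cfsg.isometryGroup F (Cfsg.quadFormPlus 3 F)) ∧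
      (∀ g v, wedgeX ((φ g).val *ᵥ v) = g.val * wedgeX v * (g.val)ᵀ) ∧
      ∀ z, φ z = 1 → ∃ c : F, c * c = 1 ∧ z.val = c • 1 := by
  obtain ⟨φ, hφ⟩ := SmallIso.exists_hom (G := Matrix.SpecialLinearGroup (Fin 4) F) wedgeX wedgeCo co_X
    (fun g => (LinearMap.mulLeft F g.val).comp (LinearMap.mulRight F (g.val)ᵀ))
    (fun M => by simp)
    (fun g h M => by simp [Matrix.mul_assoc])
    (fun g v => by
      have := closed g.val v
      simpa [Matrix.mul_assoc] using this)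
  have hφ' : ∀ g v, wedgeX ((φ g).val *ᵥ v) = g.val * wedgeX v * (g.val)ᵀ := fun g v => by
    rw [hφ]; simp [Matrix.mul_assoc]
  refine ⟨φ, fun g v _ => ?_, hφ', fun z hz => ?_⟩
  · show Cfsg.quadFormPlus 3 F ((φ g).val *ᵥ v) = Cfsg.quadFormPlus 3 F v
    have h := congrArg wedgeCo (hφ' g v)
    rw [co_X] at h
    rw [h, pfaffian, g.2, one_mul]
  · have hX : ∀ v : Fin 3 ⊕ Fin 3 → F, z.val * wedgeX v * (z.val)ᵀ = wedgeX v := fun v => by
      rw [← hφ', hz, Units.val_one, Matrix.one_mulVec]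
    have key : ∀ a b : Fin 4, a ≠ b → ∀ i j, z.val i a * z.val j b - z.val i b * z.val j a =
        if i = a ∧ j = b then 1 else if i = b ∧ j = a then -1 else 0 := by
      intro a b hab i j
      have hcomb : ∀ a b : Fin 4, a ≠ b → ∃ v : Fin 3 ⊕ Fin 3 → F,
          wedgeX v = Matrix.single a b 1 - Matrix.single b a 1 := by
        intro a b hab
        refine ⟨wedgeCo (Matrix.single a b 1 - Matrix.single b a 1), X_co _ (fun i => ?_) fun i j => ?_⟩
        · simp [Matrix.single_apply, hab, Ne.symm hab, and_comm]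
        · simp [Matrix.single_apply, and_comm]
      obtain ⟨v, hv⟩ := hcomb a b hab
      have h := congrFun (congrFun (hX v) i) j
      rw [hv] at h
      have hsgl : ∀ p r : Fin 4, (z.val * Matrix.single p r (1 : F) * (z.val)ᵀ) i j = z.val i p * z.val j r := by
        intro p r
        rw [Matrix.mul_apply, Finset.sum_eq_single r (fun y _ hy => by
          rw [Matrix.mul_single_apply_of_ne _ _ _ _ _ hy, zero_mul]) (fun h' => absurd (Finset.mem_univ _) h'),
          Matrix.mul_single_apply_same, mul_one, Matrix.transpose_apply]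
      rw [Matrix.mul_sub, Matrix.sub_mul, Matrix.sub_apply, Matrix.sub_apply, hsgl, hsgl] at h
      rw [h]
      simp only [Matrix.single_apply]
      by_cases h1 : i = a ∧ j = b
      · obtain ⟨rfl, rfl⟩ := h1
        simp [hab, Ne.symm hab]
      · by_cases h2 : i = b ∧ j = a
        · obtain ⟨rfl, rfl⟩ := h2
          simp [hab, Ne.symm hab]
        · rw [if_neg h1, if_neg h2, if_neg (fun e => h1 ⟨e.1.symm, e.2.symm⟩),
            if_neg (fun e => h2 ⟨e.1.symm, e.2.symm⟩), sub_zero]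
    have hdiag : ∀ a b : Fin 4, a ≠ b → z.val a a * z.val b b - z.val a b * z.val b a = 1 :=
      fun a b hab => by rw [key a b hab a b, if_pos ⟨rfl, rfl⟩]
    have hoff : ∀ i a : Fin 4, i ≠ a → z.val i a = 0 := fun i a hia => by
      obtain ⟨b, hba, hbi⟩ : ∃ b : Fin 4, b ≠ a ∧ b ≠ i := by revert i a; decide
      have k1 : z.val i a * z.val b b - z.val i b * z.val b a = 0 := by
        rw [key a b hba.symm i b, if_neg (fun h => hia h.1), if_neg (fun h => hba h.2)]
      have k2 : z.val i a * z.val a b - z.val i b * z.val a a = 0 := by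
        rw [key a b hba.symm i a, if_neg (fun h => hia h.1), if_neg (fun h => hbi h.1.symm)]
      linear_combination (-(z.val i a)) * hdiag a b hba.symm + z.val a a * k1 - z.val b a * k2
    have hd : ∀ a b : Fin 4, a ≠ b → z.val a a * z.val b b = 1 := fun a b hab => by
      have := hdiag a b hab
      rwa [hoff a b hab, zero_mul, sub_zero] at this
    refine ⟨z.val 0 0, ?_, ?_⟩
    · linear_combination (z.val 0 0 * z.val 0 0) * (hd 1 2 (by decide)).symm +
        (z.val 0 0 * z.val 2 2) * hd 0 1 (by decide) + hd 0 2 (by decide)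
    · ext i j
      rcases eq_or_ne i j with rfl | hij
      · rw [Matrix.smul_apply, Matrix.one_apply_eq, smul_eq_mul, mul_one]
        by_cases h0 : i = 0
        · rw [h0]
        obtain ⟨l, hl0, hli⟩ : ∃ l : Fin 4, l ≠ 0 ∧ l ≠ i := by revert i; decide
        have e1 := hd i l (Ne.symm hli)
        have e2 := hd 0 l (Ne.symm hl0)
        exact mul_right_cancel₀ (right_ne_zero_of_mul_eq_one e1) (e1.trans e2.symm)
      · rw [Matrix.smul_apply, Matrix.one_apply_ne hij, smul_zero, hoff i j hij]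

/-- The order of `SL₄(q)`. -/
theorem card_SL_four [Fintype F] : (Nat.card (Matrix.SpecialLinearGroup (Fin 4) F) : ℤ) =
    (Fintype.card F : ℤ) ^ 6 * (((Fintype.card F : ℤ) ^ 2 - 1) * ((Fintype.card F : ℤ) ^ 3 - 1) *
      ((Fintype.card F : ℤ) ^ 4 - 1)) := by
  have h := Cfsg.Lib.Linear.card_SL_mul (F := F) 4 (by norm_num)
  obtain ⟨q, hq⟩ : ∃ q, q = Fintype.card F := ⟨_, rfl⟩
  have h1 : 1 < q := hq ▸ Fintype.one_lt_card
  rw [← hq] at h ⊢
  simp [Fin.prod_univ_four] at h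
  have e2 : q ^ 2 ≤ q ^ 4 := Nat.pow_le_pow_right h1.le (by norm_num)
  have e3 : q ^ 3 ≤ q ^ 4 := Nat.pow_le_pow_right h1.le (by norm_num)
  have e1 : q ≤ q ^ 4 := Nat.le_self_pow (by norm_num) q
  have e0 : 1 ≤ q ^ 4 := Nat.one_le_pow 4 q (by omega)
  zify [h1.le, e0, e1, e2, e3] at h
  refine mul_left_cancel₀ (show ((q : ℤ) - 1) ≠ 0 by omega) ?_
  linear_combination h

theorem plus_six_equiv [Fintype F] (φ : Matrix.SpecialLinearGroup (Fin 4) F →* GL (Fin 3 ⊕ Fin 3) F)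
    (hφ : ∀ g, φ g ∈ Cfsg.isometryGroup F (Cfsg.quadFormPlus 3 F))
    (hker : ∀ z, φ z = 1 → ∃ c : F, c * c = 1 ∧ z.val = c • 1) :
    Nonempty (Cfsg.POmega F (Cfsg.quadFormPlus 3 F) ≃* Matrix.ProjectiveSpecialLinearGroup (Fin 4) F) := by
  classical
  obtain ⟨B, C⟩ := Orth.exists_space_plus (F := F) 3
  have h6 : 2 ≤ Fintype.card (Fin 3 ⊕ Fin 3) := by simp
  have h' : (2 : F) ≠ 0 ∨ Fintype.card F ≠ 2 ∨ Fintype.card (Fin 3 ⊕ Fin 3) ≠ 4 := Or.inr (Or.inr (by simp))
  obtain ⟨-, hi2, hi4⟩ := SmallIso.omega_facts C h6 h'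
  have hr : ∀ z, z ∈ φ.ker → ∃ c : F, c * c = 1 ∧ z.val = c • 1 := hker
  obtain ⟨hk2, hk1⟩ := SmallIso.card_le_roots φ.ker (fun z => z.val 0 0) (fun x hx y hy e => by
    obtain ⟨c, -, hc⟩ := hr x hx
    obtain ⟨d, -, hd⟩ := hr y hy
    refine Subtype.ext ?_
    rw [hc, hd] at e
    rw [hc, hd]
    simp at e
    rw [e]) (fun x hx => by
    obtain ⟨c, hc1, hc⟩ := hr x hx
    rw [hc]
    simpa using hc1)
  have hO := (Orth.counts_plus (F := F) 3).2
  rw [Nat.card_eq_fintype_card (α := F)] at hO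
  have hcard : (Nat.card ↥(Cfsg.isometryGroup F (Cfsg.quadFormPlus 3 F)) : ℤ) =
      2 * Nat.card (Matrix.SpecialLinearGroup (Fin 4) F) := by
    rw [hO, card_SL_four]
    simp [Finset.prod_range_succ]
    ring
  have hcard' : Nat.card ↥(Cfsg.isometryGroup F (Cfsg.quadFormPlus 3 F)) =
      2 * Nat.card (Matrix.SpecialLinearGroup (Fin 4) F) := by exact_mod_cast hcard
  by_cases h2 : (2 : F) = 0
  · exact SmallIso.pomega_equiv C h6 h' (SmallIso.squares_SL (Or.inr (Or.inl (by simp)))) φ hφ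
      (fun z hz => by obtain ⟨c, h1, h2⟩ := hker z hz; exact SmallIso.scalar_central h1 h2)
      1 one_pos (hk1 h2) (by rw [hi2 h2, hcard']; omega)
  · exact SmallIso.pomega_equiv C h6 h' (SmallIso.squares_SL (Or.inl h2)) φ hφ
      (fun z hz => by obtain ⟨c, h1, h2⟩ := hker z hz; exact SmallIso.scalar_central h1 h2)
      2 two_pos hk2 (by rw [hi4 h2, hcard']; omega)

end

/-- PΩ^+_6(q) is isomorphic to PSL_4(q). -/
theorem result {F : Type*} [Field F] [Fintype F] : Nonempty (Cfsg.POmega F (Cfsg.quadFormPlus 3 F) ≃* Matrix.ProjectiveSpecialLinearGroup (Fin 4) F) := by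
  classical
  obtain ⟨φ, hφ, -, hker⟩ := exists_wedge F
  exact plus_six_equiv φ hφ hker

end Cfsg.Agent.S0302
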