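import Cfsg.Statements.S0301
import Cfsg.Agent.Lib.Linear.OrthSmallIso
import Cfsg.Agent.Lib.Linear.OrthOrderStd
import Cfsg.Agent.Lib.Linear.SymplecticGroup
import Cfsg.Agent.S0245
import Cfsg.Agent.S0302

set_option autoImplicit false
open Cfsg

namespace Cfsg.Agent.S0301

open scoped Matrix
open Cfsg.Lib.Linear

section

variable {F : Type*} [Field F]

/-- The five dimensional subspace of the alternating square. -/
def emb : (Unit ⊕ (Fin 2 ⊕ Fin 2) → F) →ₗ[F] (Fin 3 ⊕ Fin 3 → F) where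
  toFun v := Sum.elim ![v (.inr (.inl 0)), -v (.inl ()), v (.inr (.inl 1))]
    ![v (.inr (.inr 0)), -v (.inl ()), v (.inr (.inr 1))]
  map_add' u v := by
    funext j
    rcases j with j | j <;> fin_cases j <;> simp <;> ring
  map_smul' c v := by
    funext j
    rcases j with j | j <;> fin_cases j <;> simp

/-- The coordinates of the five dimensional subspace. -/
def co5 : Matrix (Fin 4) (Fin 4) F →ₗ[F] (Unit ⊕ (Fin 2 ⊕ Fin 2) → F) where
  toFun N := Sum.elim (fun _ => N 0 2) (Sum.elim ![N 0 1, N 0 3] ![N 2 3, N 1 2])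
  map_add' M N := by
    funext j
    rcases j with j | j | j
    · simp
    all_goals fin_cases j <;> simp
  map_smul' c M := by
    funext j
    rcases j with j | j | j
    · simp
    all_goals fin_cases j <;> simp

theorem co5_X (v : Unit ⊕ (Fin 2 ⊕ Fin 2) → F) : co5 (S0302.wedgeX (emb v)) = v := by
  funext j
  rcases j with j | j | j
  · simp [co5, emb, S0302.wedgeX]
  all_goals fin_cases j <;> simp [co5, emb, S0302.wedgeX]

theorem emb_co5 (N : Matrix (Fin 4) (Fin 4) F) (h : N 0 2 + N 1 3 = 0) :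
    emb (co5 N) = S0302.wedgeCo N := by
  funext j
  rcases j with j | j <;> fin_cases j <;> simp [co5, emb, S0302.wedgeCo]
  linear_combination -h

theorem form_emb (v : Unit ⊕ (Fin 2 ⊕ Fin 2) → F) :
    Cfsg.quadFormPlus 3 F (emb v) = Cfsg.quadFormOdd 2 F v := by
  simp [Cfsg.quadFormPlus, Cfsg.quadFormOdd, emb, Fin.sum_univ_three, Fin.sum_univ_two]
  ring

/-- The indexing of the four dimensional space. -/
abbrev e4 : Fin 4 ≃ Fin 2 ⊕ Fin 2 := (finSumFinEquiv (m := 2) (n := 2)).symm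

/-- The standard alternating matrix. -/
def J4 : Matrix (Fin 4) (Fin 4) F := (Matrix.J (Fin 2) F).submatrix e4 e4

theorem J4_eq : (J4 : Matrix (Fin 4) (Fin 4) F) =
    !![0, 0, -1, 0; 0, 0, 0, -1; 1, 0, 0, 0; 0, 1, 0, 0] := by
  ext i j
  fin_cases i <;> fin_cases j <;> first | rfl | exact neg_zero

/-- The symplectic condition in the square. -/
theorem bracket {A : Matrix (Fin 4) (Fin 4) F} (hA : Aᵀ * J4 * A = J4) (p r : Fin 4) :
    A 0 p * A 2 r - A 0 r * A 2 p + (A 1 p * A 3 r - A 1 r * A 3 p) = -J4 p r := by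
  conv_rhs => rw [← hA]
  simp [J4_eq, Matrix.mul_apply, Fin.sum_univ_four]
  ring

theorem closed5 {A : Matrix (Fin 4) (Fin 4) F} (hA : Aᵀ * J4 * A = J4)
    (v : Unit ⊕ (Fin 2 ⊕ Fin 2) → F) :
    (A * S0302.wedgeX (emb v) * Aᵀ) 0 2 + (A * S0302.wedgeX (emb v) * Aᵀ) 1 3 = 0 := by
  have e01 := bracket hA 0 1
  have e02 := bracket hA 0 2
  have e03 := bracket hA 0 3
  have e23 := bracket hA 2 3
  have e13 := bracket hA 1 3
  have e12 := bracket hA 1 2
  simp [J4_eq] at e01 e02 e03 e23 e13 e12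
  rw [S0302.entry, S0302.entry]
  simp [emb]
  linear_combination v (.inr (.inl 0)) * e01 + v (.inl ()) * e02 + v (.inr (.inl 1)) * e03 +
    v (.inr (.inr 0)) * e23 - v (.inl ()) * e13 + v (.inr (.inr 1)) * e12

theorem squares_Sp (h2 : (2 : F) ≠ 0) : SmallIso.squares (Matrix.symplecticGroup (Fin 2) F) = ⊤ := by
  rw [eq_top_iff]
  intro g _
  have h : Subgroup.closure {t : Symp.iso (Symp.spB 2 F) | ∃ v c, t = Symp.tvG (Symp.spB_isAlt 2 F) v c} ≤
      (SmallIso.squares (Matrix.symplecticGroup (Fin 2) F)).comap (Symp.spEquiv (m := 2) (F := F)).symm.toMonoidHom := by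
    rw [Subgroup.closure_le]
    rintro _ ⟨v, c, rfl⟩
    haveI : NeZero (2 : F) := ⟨h2⟩
    refine Subgroup.subset_closure ⟨(Symp.spEquiv (m := 2) (F := F)).symm (Symp.tvG (Symp.spB_isAlt 2 F) v (c / 2)), ?_⟩
    rw [← map_mul, ← Symp.tvG_add, add_halves]
    rfl
  have := h (show Symp.spEquiv (m := 2) (F := F) g ∈ _ by
    rw [Symp.closure_tvG (Symp.spB_nondegenerate 2 F) (Symp.spB_isAlt 2 F)]; trivial)
  simpa using this

theorem det_one (h2 : (2 : F) ≠ 0) (g : Matrix.symplecticGroup (Fin 2) F) :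
    (g : Matrix (Fin 2 ⊕ Fin 2) (Fin 2 ⊕ Fin 2) F).det = 1 := by
  let d : Matrix.symplecticGroup (Fin 2) F →* F :=
    Matrix.detMonoidHom.comp (Matrix.symplecticGroup (Fin 2) F).subtype
  have h : SmallIso.squares (Matrix.symplecticGroup (Fin 2) F) ≤ d.toHomUnits.ker := by
    refine (Subgroup.closure_le _).mpr fun x ⟨y, hy⟩ => ?_
    rw [SetLike.mem_coe, MonoidHom.mem_ker, hy, map_mul]
    refine Units.ext ?_
    show Matrix.det (y : Matrix (Fin 2 ⊕ Fin 2) (Fin 2 ⊕ Fin 2) F) * Matrix.det (y : Matrix (Fin 2 ⊕ Fin 2) (Fin 2 ⊕ Fin 2) F) = 1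
    have hy' := congrArg Matrix.det (SymplecticGroup.mem_iff.mp y.2)
    rw [Matrix.det_mul, Matrix.det_mul, Matrix.det_transpose] at hy'
    have hJ : (Matrix.J (Fin 2) F).det ≠ 0 := fun e => by
      have := Matrix.J_det_mul_J_det (l := Fin 2) (R := F)
      rw [e, zero_mul] at this
      exact zero_ne_one this
    refine mul_right_cancel₀ hJ ?_
    linear_combination hy'
  have := h (show g ∈ _ by rw [squares_Sp h2]; trivial)
  exact congrArg Units.val this

/-- The symplectic group inside `SL₄`. -/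
theorem exists_toSL (h2 : (2 : F) ≠ 0) :
    ∃ ι : Matrix.symplecticGroup (Fin 2) F →* Matrix.SpecialLinearGroup (Fin 4) F,
      ∀ g, (ι g).val = (g : Matrix (Fin 2 ⊕ Fin 2) (Fin 2 ⊕ Fin 2) F).submatrix
        e4 e4 := by
  refine ⟨MonoidHom.mk' (fun g => ⟨_, (Matrix.det_submatrix_equiv_self e4
    (g : Matrix (Fin 2 ⊕ Fin 2) (Fin 2 ⊕ Fin 2) F)).trans (det_one h2 g)⟩) (fun g h => Subtype.ext ?_),
    fun g => rfl⟩
  exact (Matrix.submatrix_mul_equiv _ _ _ _ _).symm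

theorem exists_five (h2 : (2 : F) ≠ 0) :
    ∃ φ : Matrix.symplecticGroup (Fin 2) F →* GL (Unit ⊕ (Fin 2 ⊕ Fin 2)) F,
      (∀ g, φ g ∈ Cfsg.isometryGroup F (Cfsg.quadFormOdd 2 F)) ∧
      ∀ z, φ z = 1 → ∃ c : F, c * c = 1 ∧ (z : Matrix (Fin 2 ⊕ Fin 2) (Fin 2 ⊕ Fin 2) F) = c • 1 := by
  obtain ⟨ι, hι⟩ := exists_toSL (F := F) h2
  have hJ : ∀ g, (ι g).valᵀ * J4 * (ι g).val = J4 := fun g => by
    rw [hι, J4, Matrix.transpose_submatrix, Matrix.submatrix_mul_equiv, Matrix.submatrix_mul_equiv,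
      SymplecticGroup.mem_iff'.mp g.2]
  have hJ' : ∀ g, (ι g).val * J4 * (ι g).valᵀ = J4 := fun g => by
    rw [hι, J4, Matrix.transpose_submatrix, Matrix.submatrix_mul_equiv, Matrix.submatrix_mul_equiv,
      SymplecticGroup.mem_iff.mp g.2]
  have hcl : ∀ g v, S0302.wedgeX (emb (co5 ((ι g).val * S0302.wedgeX (emb v) * (ι g).valᵀ))) =
      (ι g).val * S0302.wedgeX (emb v) * (ι g).valᵀ := fun g v => by
    rw [emb_co5 _ (closed5 (hJ g) v), S0302.closed]
  obtain ⟨φ, hφ⟩ := SmallIso.exists_hom (G := Matrix.symplecticGroup (Fin 2) F)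
    (S0302.wedgeX.comp (emb (F := F))) co5 co5_X
    (fun g => (LinearMap.mulLeft F (ι g).val).comp (LinearMap.mulRight F (ι g).valᵀ))
    (fun M => by simp)
    (fun g h M => by simp [Matrix.mul_assoc])
    (fun g v => by
      have := hcl g v
      simpa [Matrix.mul_assoc] using this)
  have hφ' : ∀ g v, S0302.wedgeX (emb ((φ g).val *ᵥ v)) =
      (ι g).val * S0302.wedgeX (emb v) * (ι g).valᵀ := fun g v => by
    have := hφ g v
    simpa [Matrix.mul_assoc] using this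
  refine ⟨φ, fun g v _ => ?_, fun z hz => ?_⟩
  · show Cfsg.quadFormOdd 2 F ((φ g).val *ᵥ v) = Cfsg.quadFormOdd 2 F v
    have h := congrArg S0302.wedgeCo (hφ' g v)
    rw [S0302.co_X] at h
    rw [← form_emb, h, S0302.pfaffian, (ι g).2, one_mul, form_emb]
  · obtain ⟨ψ, -, hψ, hψker⟩ := S0302.exists_wedge F
    have hfix : ∀ w, (ι z).val * S0302.wedgeX w * (ι z).valᵀ = S0302.wedgeX w := by
      intro w
      obtain ⟨s, hs⟩ : ∃ s : F, s = (w (.inl 1) - w (.inr 1)) / 2 := ⟨_, rfl⟩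
      obtain ⟨t, ht⟩ : ∃ t : F, t = -(w (.inl 1) + w (.inr 1)) / 2 := ⟨_, rfl⟩
      obtain ⟨v, hv⟩ : ∃ v : Unit ⊕ (Fin 2 ⊕ Fin 2) → F, v = Sum.elim (fun _ => t)
          (Sum.elim ![w (.inl 0), w (.inl 2)] ![w (.inr 0), w (.inr 2)]) := ⟨_, rfl⟩
      have e : S0302.wedgeX w = S0302.wedgeX (emb v) + s • J4 := by
        ext i j
        fin_cases i <;> fin_cases j <;>
          simp [S0302.wedgeX, emb, hv, J4_eq, hs, ht] <;> field_simp <;> ring
      rw [e, Matrix.mul_add, Matrix.add_mul, mul_smul_comm, smul_mul_assoc, hJ', ← hφ', hz,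
        Units.val_one, Matrix.one_mulVec]
    have hψz : ψ (ι z) = 1 := by
      refine Units.ext (Matrix.toLin'.injective (LinearMap.ext fun w => ?_))
      rw [Matrix.toLin'_apply, Units.val_one, Matrix.toLin'_one, LinearMap.id_apply]
      have := congrArg S0302.wedgeCo ((hψ (ι z) w).trans (hfix w))
      rwa [S0302.co_X, S0302.co_X] at this
    obtain ⟨c, hc1, hc⟩ := hψker _ hψz
    refine ⟨c, hc1, ?_⟩
    ext i j
    have := congrFun (congrFun ((hι z).symm.trans hc) (e4.symm i)) (e4.symm j)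
    rw [Matrix.submatrix_apply, Equiv.apply_symm_apply, Equiv.apply_symm_apply] at this
    rw [this, Matrix.smul_apply, Matrix.smul_apply, Matrix.one_apply, Matrix.one_apply]
    simp only [EmbeddingLike.apply_eq_iff_eq]

theorem five_equiv [Fintype F] (hodd : Odd (Fintype.card F)) :
    Nonempty (Cfsg.POmega F (Cfsg.quadFormOdd 2 F) ≃* Cfsg.PSp 2 F) := by
  classical
  have h2 : (2 : F) ≠ 0 := fun h => by
    haveI : CharP F 2 := CharTwo.of_one_ne_zero_of_two_eq_zero one_ne_zero h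
    have h1 := FiniteField.even_card_of_char_two (ringChar.eq F 2)
    rw [Nat.odd_iff] at hodd
    omega
  obtain ⟨B, C⟩ := Cfsg.Lib.Linear.Orth.exists_space (Cfsg.Lib.Linear.Orth.isQuad_odd (F := F) 2 h2)
  have hn : 2 ≤ Fintype.card (Unit ⊕ (Fin 2 ⊕ Fin 2)) := by simp
  obtain ⟨-, -, hi4⟩ := SmallIso.omega_facts C hn (Or.inl h2)
  obtain ⟨φ, hφ, hker⟩ := exists_five (F := F) h2
  have hr : ∀ z, z ∈ φ.ker → ∃ c : F, c * c = 1 ∧ (z : Matrix (Fin 2 ⊕ Fin 2) (Fin 2 ⊕ Fin 2) F) = c • 1 := hker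
  obtain ⟨hk2, -⟩ := SmallIso.card_le_roots φ.ker
    (fun z => (z : Matrix (Fin 2 ⊕ Fin 2) (Fin 2 ⊕ Fin 2) F) (.inl 0) (.inl 0)) (fun x hx y hy e => by
    obtain ⟨c, -, hc⟩ := hr x hx
    obtain ⟨d, -, hd⟩ := hr y hy
    refine Subtype.ext ?_
    rw [hc, hd] at e
    rw [hc, hd]
    simp at e
    rw [e]) (fun x hx => by
    obtain ⟨c, hc1, hc⟩ := hr x hx
    rw [hc]
    simpa using hc1)
  refine SmallIso.pomega_equiv C hn (Or.inl h2) (squares_Sp h2) φ hφ (fun z hz => ?_) 2 two_pos hk2 ?_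
  · obtain ⟨c, h1, hc⟩ := hker z hz
    refine ⟨Subgroup.mem_center_iff.mpr fun x => Subtype.ext ?_, Subtype.ext ?_⟩
    · rw [Submonoid.coe_mul, Submonoid.coe_mul, hc, mul_smul_comm, smul_mul_assoc, one_mul, mul_one]
    · rw [Submonoid.coe_mul, Submonoid.coe_one, hc, smul_mul_smul_comm, h1, one_mul, one_smul]
  · have hO := (Orth.counts_odd (F := F) h2 2).2.2
    rw [Nat.card_eq_fintype_card (α := F)] at hO
    rw [hi4 h2, Cfsg.Agent.S0245.result rfl 2]
    have h1 := Fintype.one_lt_card (α := F)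
    simp only [Finset.prod_range_succ, Finset.prod_range_zero, one_mul]
    zify [Nat.one_le_pow (2 * (0 + 1)) (Fintype.card F) (by omega), Nat.one_le_pow (2 * (1 + 1)) (Fintype.card F) (by omega)]
    rw [hO]
    simp [Finset.prod_range_succ]
    ring_nf
    exact le_refl _

end


/-- PΩ_5(q) is isomorphic to PSp_4(q) for q odd. -/
theorem result {F : Type*} [Field F] [Fintype F] (hodd : Odd (Fintype.card F)) : Nonempty (Cfsg.POmega F (Cfsg.quadFormOdd 2 F) ≃* Cfsg.PSp 2 F) := by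
  classical
  exact five_equiv hodd

end Cfsg.Agent.S0301
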