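import Cfsg.Statements.S0246
import Cfsg.Agent.Lib.Linear.SymplecticGroup

set_option autoImplicit false
open Cfsg

namespace Cfsg.Agent.S0246

/-- The centre of Sp_{2m}(q), m at least 1, is {1, -1}: it has order gcd(2, q-1). -/
theorem result {F : Type*} [Field F] [Fintype F] {q : ℕ} (hF : Fintype.card F = q) (m : ℕ) (hm : 1 ≤ m) : Nat.card (Subgroup.center (Matrix.symplecticGroup (Fin m) F)) = Nat.gcd 2 (q - 1) := by
  classical
  haveI : Nonempty (Fin m ⊕ Fin m) := ⟨Sum.inl ⟨0, by omega⟩⟩
  rw [Nat.card_congr (Subgroup.centerCongr (Cfsg.Lib.Linear.Symp.spEquiv (m := m) (F := F))).toEquiv,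
    Cfsg.Lib.Linear.Symp.card_center (Cfsg.Lib.Linear.Symp.spB_nondegenerate m F)
      (Cfsg.Lib.Linear.Symp.spB_isAlt m F)]
  have hq : 2 ≤ q := hF ▸ Fintype.one_lt_card
  by_cases h2 : (2 : F) = 0
  · have hone : ∀ a : F, a * a = 1 → a = 1 := fun a ha => by
      have : (a - 1) * (a - 1) = 0 := by linear_combination ha + (1 - a) * h2
      simpa [sub_eq_zero] using this
    have : Nat.card {a : F // a * a = 1} = 1 :=
      Nat.card_eq_one_iff_exists.2 ⟨⟨1, one_mul 1⟩, fun a => Subtype.ext (hone a a.2)⟩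
    rw [this]
    have hev : q % 2 = 0 := hF ▸ FiniteField.even_card_of_char_two ((ringChar.spec F 2).1 (by simpa using h2) |> fun h =>
      ((Nat.prime_dvd_prime_iff_eq (CharP.char_is_prime F (ringChar F)) Nat.prime_two).1 h))
    symm
    rw [← Nat.coprime_iff_gcd_eq_one, Nat.prime_two.coprime_iff_not_dvd]
    omega
  · have hne : (1 : F) ≠ -1 := fun h => h2 (by linear_combination h)
    have hset : {a : F | a * a = 1} = {1, -1} := by
      ext a; simp [mul_self_eq_one_iff]
    have : Nat.card {a : F // a * a = 1} = 2 := by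
      rw [← Set.coe_ofPred, Nat.card_coe_set_eq]
      show ({a : F | a * a = 1} : Set F).ncard = 2
      rw [hset, Set.ncard_pair hne]
    rw [this]
    have hchar : ringChar F ≠ 2 := fun h => h2 (by
      haveI : CharP F 2 := h ▸ ringChar.charP F
      exact CharTwo.two_eq_zero)
    have hodd : q % 2 = 1 := hF ▸ FiniteField.odd_card_of_char_ne_two hchar
    symm
    exact Nat.gcd_eq_left (by omega)

end Cfsg.Agent.S0246
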