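import Cfsg.Statements.S1060
import Cfsg.Agent.Lib.Chev.OrderB2
import Cfsg.Agent.Lib.Chev.FullAll

set_option autoImplicit false
open Cfsg

namespace Cfsg.Agent.S1060

/-- `gcd(2, q-1) · |B₂(q)| = q⁴ (q² - 1)(q⁴ - 1)`. -/
theorem result {F : Type*} [Field F] [Fintype F] {q : ℕ} (hq : Fintype.card F = q) : Nat.gcd 2 (q - 1) * Nat.card ↥(Cfsg.Lie.chevB2.group F) = q ^ 4 * (q ^ 2 - 1) * (q ^ 4 - 1) := by
  classical
  rw [← Nat.card_eq_fintype_card] at hq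
  subst hq
  have h := Cfsg.Lib.Chev.order_formula (F := F) Cfsg.Lib.Chev.fullCertB2.comm.cert Cfsg.Lib.Chev.fullCertB2 Cfsg.Lib.Chev.chkWeylB2 Cfsg.Lib.Chev.torusCertB2
    (Cfsg.Lib.Chev.polyB2 Nat.card_pos)
  rw [show Cfsg.Lie.chevB2.nroots / 2 = 4 from rfl] at h
  have e : (∏ k, (Nat.card F - 1).gcd ((![1, 2] : Fin 2 → ℕ) k)) * Nat.card ↥(Cfsg.Lie.chevB2.group F) = _ := h
  generalize Nat.card ↥(Cfsg.Lie.chevB2.group F) = N at e ⊢
  generalize Nat.card F = q at e ⊢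
  simp [Fin.prod_univ_succ] at e
  rw [Nat.gcd_comm (q - 1) 2] at e
  linear_combination e

end Cfsg.Agent.S1060
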