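import Cfsg.Statements.S1054
import Cfsg.Agent.Lib.Chev.Simple

set_option autoImplicit false
open Cfsg

namespace Cfsg.Agent.S1054

/-- The Chevalley groups of types D₄, F₄, E₆, E₇, E₈ are simple over every field. -/
theorem result {F : Type*} [Field F] (D : Cfsg.Lie.ChevalleyDatum)
    (hD : D ∈ [Cfsg.Lie.chevD4, Cfsg.Lie.chevF4, Cfsg.Lie.chevE6, Cfsg.Lie.chevE7, Cfsg.Lie.chevE8]) :
    IsSimpleGroup ↥(D.group F) ∧ ¬ IsMulCommutative ↥(D.group F) := by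
  simp only [List.mem_cons, List.not_mem_nil, or_false] at hD
  rcases hD with rfl | rfl | rfl | rfl | rfl
  · exact Cfsg.Lib.Chev.simple_of_perfect Cfsg.Lib.Chev.fullCertD4 Cfsg.Lib.Chev.linkedD4 (by decide) (Cfsg.Lib.Chev.perfect_of_clean Cfsg.Lib.Chev.fullCertD4.comm.cert Cfsg.Lib.Chev.fullCertD4.comm Cfsg.Lib.Chev.cleanD4)
  · exact Cfsg.Lib.Chev.simple_of_perfect Cfsg.Lib.Chev.fullCertF4 Cfsg.Lib.Chev.linkedF4 (by decide) (Cfsg.Lib.Chev.perfect_of_clean Cfsg.Lib.Chev.fullCertF4.comm.cert Cfsg.Lib.Chev.fullCertF4.comm Cfsg.Lib.Chev.cleanF4)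
  · exact Cfsg.Lib.Chev.simple_of_perfect Cfsg.Lib.Chev.fullCertE6 Cfsg.Lib.Chev.linkedE6 (by decide) (Cfsg.Lib.Chev.perfect_of_clean Cfsg.Lib.Chev.fullCertE6.comm.cert Cfsg.Lib.Chev.fullCertE6.comm Cfsg.Lib.Chev.cleanE6)
  · exact Cfsg.Lib.Chev.simple_of_perfect Cfsg.Lib.Chev.fullCertE7 Cfsg.Lib.Chev.linkedE7 (by decide) (Cfsg.Lib.Chev.perfect_of_clean Cfsg.Lib.Chev.fullCertE7.comm.cert Cfsg.Lib.Chev.fullCertE7.comm Cfsg.Lib.Chev.cleanE7)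
  · exact Cfsg.Lib.Chev.simple_of_perfect Cfsg.Lib.Chev.fullCertE8 Cfsg.Lib.Chev.linkedE8 (by decide) (Cfsg.Lib.Chev.perfect_of_clean Cfsg.Lib.Chev.fullCertE8.comm.cert Cfsg.Lib.Chev.fullCertE8.comm Cfsg.Lib.Chev.cleanE8)

end Cfsg.Agent.S1054
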