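import Cfsg.Statements.S2638


set_option linter.style.haveILetI false

set_option autoImplicit false
open Cfsg

namespace Cfsg.Agent.S2638

/-- If an element x of GL_n(q), n ≥ 1, has prime order r and the multiplicative order of q modulo r is n (r is a primitive prime divisor of q^n − 1, so x acts irreducibly), then the centraliser of x in GL_n(q) is cyclic of order q^n − 1 (the multiplicative group of the field with q^n elements, a Singer cycle). -/
theorem result {F : Type*} [Field F] [Fintype F] {p q : ℕ} [Fact p.Prime] [CharP F p] (hF : Fintype.card F = q) {n r : ℕ} (hn : 1 ≤ n) (hr : r.Prime) (hrp : r ≠ p) (hi : orderOf (q : ZMod r) = n) (x : GL (Fin n) F) (hx : orderOf x = r) : IsCyclic ↥(Subgroup.centralizer ({x} : Set (GL (Fin n) F))) ∧ Nat.card ↥(Subgroup.centralizer ({x} : Set (GL (Fin n) F))) = q ^ n - 1 := by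
  classical
  haveI : Fact r.Prime := ⟨hr⟩
  set M : Matrix (Fin n) (Fin n) F := (x : Matrix (Fin n) (Fin n) F) with hM
  have hMr : M ^ r = 1 := by rw [hM, ← Units.val_pow_eq_pow_val, ← hx, pow_orderOf_eq_one, Units.val_one]
  let Φ : Submodule F (Fin n → F) := LinearMap.ker (M.mulVecLin - LinearMap.id)
  have hΦ : ∀ v, v ∈ Φ ↔ M.mulVec v = v := fun v => by simp [Φ, sub_eq_zero]
  have hcard : ∀ W : Submodule F (Fin n → F), (∀ w ∈ W, M.mulVec w ∈ W) →
      ((q : ZMod r) ^ Module.finrank F W = (q : ZMod r) ^ Module.finrank F ↥(W ⊓ Φ)) := by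
    intro W hW
    let f : Function.End W := fun w => ⟨M.mulVec w, hW w w.2⟩
    have hpow : ∀ (k : ℕ) (w : W), ((f ^ k) w : Fin n → F) = (M ^ k).mulVec (w : Fin n → F) := by
      intro k
      induction k with
      | zero => intro w; simp [Function.End.one_def]
      | succ k ih => intro w; rw [pow_succ', pow_succ', ← Matrix.mulVec_mulVec, ← ih w]; rfl
    have hf : f ^ r ^ 1 = 1 := funext fun w => Subtype.ext (by rw [pow_one, hpow, hMr, Matrix.one_mulVec]; rfl)
    have h := Equiv.Perm.card_fixedPoints_modEq hf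
    have e : ↥(Function.fixedPoints f) ≃ ↥(W ⊓ Φ) :=
      { toFun := fun w => ⟨w.1.1, w.1.2, (hΦ _).mpr (congrArg Subtype.val w.2)⟩
        invFun := fun w => ⟨⟨w.1, w.2.1⟩, Subtype.ext ((hΦ _).mp w.2.2)⟩
        left_inv := fun w => rfl
        right_inv := fun w => rfl }
    rw [Fintype.card_congr e, Module.card_eq_pow_finrank (K := F), Module.card_eq_pow_finrank (K := F) (V := ↥(W ⊓ Φ)), hF] at h
    have h2 := (ZMod.natCast_eq_natCast_iff _ _ _).mpr h
    rwa [Nat.cast_pow, Nat.cast_pow] at h2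
  have hq0 : (q : ZMod r) ≠ 0 := fun h => by rw [h, orderOf_zero] at hi; omega
  have hdvd : ∀ a b : ℕ, b ≤ a → (q : ZMod r) ^ a = (q : ZMod r) ^ b → n ∣ a - b := by
    intro a b hba h
    rw [← hi]
    refine orderOf_dvd_of_pow_eq_one (mul_right_cancel₀ (pow_ne_zero b hq0) ?_)
    rw [← pow_add, Nat.sub_add_cancel hba, one_mul, h]
  have hC0 : Φ = ⊥ := by
    by_contra hne
    have h := hdvd _ _ (Submodule.finrank_mono inf_le_left) (hcard ⊤ fun w _ => Submodule.mem_top)
    rw [top_inf_eq, finrank_top, Module.finrank_fin_fun] at h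
    have hpos : 0 < Module.finrank F Φ := Nat.pos_of_ne_zero fun h => hne (Submodule.finrank_eq_zero.mp h)
    have hle := Submodule.finrank_le Φ
    rw [Module.finrank_fin_fun] at hle
    have h0 := Nat.eq_zero_of_dvd_of_lt h (by omega)
    have htop : Φ = ⊤ := Submodule.eq_top_of_finrank_eq (by rw [Module.finrank_fin_fun]; omega)
    have hx1 : x = 1 := by
      refine Units.ext (Matrix.ext_of_mulVec_single fun i => ?_)
      rw [Units.val_one, Matrix.one_mulVec]
      exact (hΦ _).mp (htop ▸ Submodule.mem_top)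
    rw [hx1, orderOf_one] at hx
    exact hr.ne_one hx.symm
  have hirr : ∀ W : Submodule F (Fin n → F), (∀ w ∈ W, M.mulVec w ∈ W) → W ≠ ⊥ → W = ⊤ := by
    intro W hW hne
    have h := hdvd (Module.finrank F W) 0 (Nat.zero_le _) (by
      have := hcard W hW
      rwa [hC0, inf_bot_eq, finrank_bot] at this)
    refine Submodule.eq_top_of_finrank_eq (le_antisymm (Submodule.finrank_le W) ?_)
    rw [Module.finrank_fin_fun]
    exact Nat.le_of_dvd (Nat.pos_of_ne_zero fun h => hne (Submodule.finrank_eq_zero.mp h)) (by rwa [Nat.sub_zero] at h)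
  set K : Subalgebra F (Matrix (Fin n) (Fin n) F) := Algebra.adjoin F {M} with hK
  let v₀ : Fin n → F := Pi.single ⟨0, hn⟩ 1
  have hv₀ : v₀ ≠ 0 := by simp [v₀]
  have hcommK : ∀ d ∈ K, d * M = M * d := fun d hd => by
    induction hd using Algebra.adjoin_induction with
    | mem a ha => rw [Set.mem_singleton_iff.mp ha]
    | algebraMap c => exact Algebra.commutes c M
    | add a b _ _ ha hb => rw [add_mul, mul_add, ha, hb]
    | mul a b _ _ ha hb => rw [mul_assoc, hb, ← mul_assoc, ha, mul_assoc]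
  have hinj : ∀ d, d * M = M * d → ∀ v, v ≠ 0 → d.mulVec v = 0 → d = 0 := by
    intro d hd v hv h0
    have hker := hirr (LinearMap.ker d.mulVecLin) (fun w hw => by
      simp only [LinearMap.mem_ker, Matrix.mulVecLin_apply] at hw ⊢
      rw [Matrix.mulVec_mulVec, hd, ← Matrix.mulVec_mulVec, hw, Matrix.mulVec_zero]) (fun h => hv ((Submodule.mem_bot F).mp (h ▸ h0)))
    exact Matrix.ext_of_mulVec_single fun i => by
      rw [Matrix.zero_mulVec]
      exact LinearMap.mem_ker.mp (hker ▸ Submodule.mem_top)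
  let φ : K →ₗ[F] (Fin n → F) :=
    { toFun := fun d => (d : Matrix (Fin n) (Fin n) F).mulVec v₀
      map_add' := fun a b => Matrix.add_mulVec _ _ _
      map_smul' := fun c a => Matrix.smul_mulVec c _ _ }
  have hsurj : LinearMap.range φ = ⊤ := hirr _ (by
      rintro w ⟨d, rfl⟩
      refine ⟨⟨M, Algebra.self_mem_adjoin_singleton F M⟩ * d, ?_⟩
      show (M * (d : Matrix (Fin n) (Fin n) F)).mulVec v₀ = M.mulVec ((d : Matrix (Fin n) (Fin n) F).mulVec v₀)
      rw [Matrix.mulVec_mulVec])
    (fun h => hv₀ ((Submodule.mem_bot F).mp (h ▸ ⟨1, Matrix.one_mulVec v₀⟩)))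
  have hcent : ∀ c : GL (Fin n) F, c ∈ Subgroup.centralizer ({x} : Set (GL (Fin n) F)) ↔
      (c : Matrix (Fin n) (Fin n) F) * M = M * c := fun c => by
    rw [Subgroup.mem_centralizer_singleton_iff, Units.ext_iff]; rfl
  have hmemK : ∀ c, c ∈ Subgroup.centralizer ({x} : Set (GL (Fin n) F)) → (c : Matrix (Fin n) (Fin n) F) ∈ K := by
    intro c hc
    obtain ⟨d, hd⟩ := LinearMap.range_eq_top.mp hsurj ((c : Matrix (Fin n) (Fin n) F).mulVec v₀)
    have h := hinj ((c : Matrix (Fin n) (Fin n) F) - d) (by rw [sub_mul, mul_sub, (hcent c).mp hc, hcommK d d.2]) v₀ hv₀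
      (by rw [Matrix.sub_mulVec]; exact sub_eq_zero.mpr hd.symm)
    rw [sub_eq_zero.mp h]
    exact d.2
  haveI : IsMulCommutative K := Algebra.isMulCommutative_adjoin_singleton F M
  letI : CommRing K := { (inferInstance : Ring K) with mul_comm := fun a b => Std.Commutative.comm a b }
  haveI : Nontrivial K := ⟨⟨0, 1, fun h => hv₀ (by
    have := congrArg (fun d : K => (d : Matrix (Fin n) (Fin n) F).mulVec v₀) h
    simpa using this.symm)⟩⟩
  haveI : NoZeroDivisors K := ⟨fun {a b} hab => by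
    by_cases hb : (b : Matrix (Fin n) (Fin n) F).mulVec v₀ = 0
    · exact Or.inr (Subtype.ext (hinj _ (hcommK b b.2) v₀ hv₀ hb))
    · refine Or.inl (Subtype.ext (hinj _ (hcommK a a.2) _ hb ?_))
      rw [Matrix.mulVec_mulVec]
      have : (a : Matrix (Fin n) (Fin n) F) * b = 0 := congrArg Subtype.val hab
      rw [this, Matrix.zero_mulVec]⟩
  haveI : IsDomain K := NoZeroDivisors.to_isDomain K
  let ι : ↥(Subgroup.centralizer ({x} : Set (GL (Fin n) F))) →* K :=
    { toFun := fun c => ⟨_, hmemK c.1 c.2⟩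
      map_one' := Subtype.ext rfl
      map_mul' := fun a b => Subtype.ext rfl }
  refine ⟨isCyclic_of_injective_ringHom ι (fun a b h => Subtype.ext (Units.ext (congrArg Subtype.val h))), ?_⟩
  have e : ↥(Subgroup.centralizer ({x} : Set (GL (Fin n) F))) ≃ {w : Fin n → F // w ≠ 0} := by
    refine Equiv.ofBijective (fun c => ⟨(c.1 : Matrix (Fin n) (Fin n) F).mulVec v₀, fun h => hv₀
      (Matrix.mulVec_injective_iff_isUnit.mpr c.1.isUnit (h.trans (Matrix.mulVec_zero _).symm))⟩) ⟨?_, ?_⟩
    · intro a b h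
      refine Subtype.ext (Units.ext (sub_eq_zero.mp (hinj _ ?_ v₀ hv₀ ?_)))
      · rw [sub_mul, mul_sub, (hcent a.1).mp a.2, (hcent b.1).mp b.2]
      · rw [Matrix.sub_mulVec]; exact sub_eq_zero.mpr (congrArg Subtype.val h)
    · rintro ⟨w, hw⟩
      obtain ⟨d, hd⟩ := LinearMap.range_eq_top.mp hsurj w
      have hu : IsUnit (d : Matrix (Fin n) (Fin n) F) := by
        refine Matrix.mulVec_injective_iff_isUnit.mp ?_
        intro a b hab
        by_contra hne
        refine hw ?_
        rw [← hd]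
        have := hinj _ (hcommK d d.2) (a - b) (sub_ne_zero.mpr hne) (by rw [Matrix.mulVec_sub, sub_eq_zero]; exact hab)
        show (d : Matrix (Fin n) (Fin n) F).mulVec v₀ = 0
        rw [this, Matrix.zero_mulVec]
      exact ⟨⟨hu.unit, (hcent _).mpr (hcommK d d.2)⟩, Subtype.ext hd⟩
  rw [Nat.card_congr e, Nat.card_eq_fintype_card, Fintype.card_subtype_compl, Fintype.card_fun, hF, Fintype.card_fin,
    Fintype.card_subtype_eq]

end Cfsg.Agent.S2638
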