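import Cfsg.Statements.S1097
import Cfsg.Agent.Lib.Chev.Presentation.Steinberg

set_option autoImplicit false
open Cfsg

namespace Cfsg.Agent.S1097

/-- Any homomorphism from the presented group to the Chevalley group with `x̄_r(t) ↦ x_r(t)` has kernel contained in `H̄ = ⟨h̄_p(t) : p fundamental, t ≠ 0⟩`. -/
theorem result {K : Type*} [Field K] (D : Cfsg.Lie.ChevalleyDatum) (hD : D ∈ [Cfsg.Lie.chevG2, Cfsg.Lie.chevB2, Cfsg.Lie.chevD4, Cfsg.Lie.chevF4, Cfsg.Lie.chevE6, Cfsg.Lie.chevE7, Cfsg.Lie.chevE8]) (θ : D.SteinbergGroup K →* ↥(D.group K))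
    (hθ : ∀ (r : ℕ) (t : K), r < D.nroots → ((θ (D.stGen K r t) : GL D.Idx K) : Matrix D.Idx D.Idx K) = D.x K r t) :
    θ.ker ≤ Subgroup.closure {h | ∃ (i : ℕ) (t : K), i < D.rank ∧ t ≠ 0 ∧ h = PresentedGroup.mk (D.steinbergRels K) (D.stH (D.simple i) t)} := by
  open Cfsg.Lib.Chev in
  exact (by
    obtain ⟨T, Kc, hS⟩ := exists_selfCert hD
    have C := Kc.comm.cert
    have hπ : ∀ r < D.nroots, ∀ t, (D.group K).subtype.comp θ (D.stGen K r t) = xg C r t :=
      fun r hr t => eq_xg C (hθ r t hr)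
    intro g hg
    have h := (st_ker_le C Kc hS ((D.group K).subtype.comp θ) hπ
      (congrArg Subtype.val (MonoidHom.mem_ker.1 hg))).1
    refine Subgroup.closure_mono ?_ h
    rintro a ⟨k, v, hk, hv, rfl⟩
    refine ⟨k, v, hk, hv, ?_⟩
    rw [C.spec.shape.simple_eq k hk, stH_eq C _ (C.spec.simp_lt k hk)])

end Cfsg.Agent.S1097
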