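import Cfsg.Statements.S0269
import Cfsg.Agent.Lib.Linear.SymplecticGroup

set_option autoImplicit false
open Cfsg

namespace Cfsg.Agent.S0269

/-- Sp_{2m}(q) is perfect except for Sp_2(2), Sp_2(3) and Sp_4(2): stated as m at least 3, or m = 2 and q at least 3, or q at least 4. -/
theorem result {F : Type*} [Field F] [Fintype F] (m : ℕ) (h : 3 ≤ m ∨ (m = 2 ∧ 3 ≤ Fintype.card F) ∨ 4 ≤ Fintype.card F) : commutator (Matrix.symplecticGroup (Fin m) F) = ⊤ := by
  classical
  have hex : 4 ≤ Fintype.card F → ∃ a : F, a ≠ 0 ∧ a ^ 2 ≠ 1 := by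
    intro h4
    obtain ⟨a, ha⟩ : ∃ a : F, a ∉ ({0, 1, -1} : Finset F) := by
      by_contra hc
      push_neg at hc
      have h1 := Finset.card_le_card (fun a (_ : a ∈ (Finset.univ : Finset F)) => hc a)
      rw [Finset.card_univ] at h1
      have h3 : ({0, 1, -1} : Finset F).card ≤ 3 := Finset.card_le_three
      omega
    simp only [Finset.mem_insert, Finset.mem_singleton, not_or] at ha
    exact ⟨a, ha.1, by simp [ha.2.1, ha.2.2]⟩
  have hiso := Cfsg.Lib.Linear.Symp.commutator_eq_top (Cfsg.Lib.Linear.Symp.spB_nondegenerate m F)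
    (Cfsg.Lib.Linear.Symp.spB_isAlt m F) (by
      rw [Cfsg.Lib.Linear.Symp.finrank_space]
      rcases h with h | ⟨rfl, h3⟩ | h
      · left; omega
      · right; left
        refine ⟨le_rfl, ?_⟩
        rcases Nat.lt_or_ge (Fintype.card F) 4 with h4 | h4
        · left
          intro h2
          have h3' : Fintype.card F = 3 := by omega
          have h0 : ((Fintype.card F : ℕ) : F) = 0 := Nat.cast_card_eq_zero F
          rw [h3'] at h0
          have : (1 : F) = 0 := by
            calc (1 : F) = (3 : F) - 2 := by norm_num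
              _ = 0 := by rw [h2, sub_zero]; simpa using h0
          exact one_ne_zero this
        · exact Or.inr (hex h4)
      · exact Or.inr (Or.inr (hex h)))
  let e := (Cfsg.Lib.Linear.Symp.spEquiv (m := m) (F := F)).symm
  rw [← Subgroup.map_top_of_surjective e.toMonoidHom e.surjective, ← hiso, commutator_def,
    commutator_def, Subgroup.map_commutator, Subgroup.map_top_of_surjective e.toMonoidHom e.surjective]

end Cfsg.Agent.S0269
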