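import Cfsg.Statements.S0270
import Cfsg.Agent.S0269
import Cfsg.Agent.Lib.Linear.SymplecticGroup

set_option autoImplicit false
open Cfsg

namespace Cfsg.Agent.S0270

/-- PSp_{2m}(q) is simple for m at least 2 and (m, q) other than (2, 2). -/
theorem result {F : Type*} [Field F] [Fintype F] (m : ℕ) (hm : 2 ≤ m) (h : m = 2 → 3 ≤ Fintype.card F) : IsSimpleGroup (Cfsg.PSp m F) := by
  haveI : Nonempty (Fin m ⊕ Fin m) := ⟨Sum.inl ⟨0, by omega⟩⟩
  let e := Cfsg.Lib.Linear.Symp.spEquiv (m := m) (F := F)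
  have hsp := Cfsg.Agent.S0269.result (F := F) m (by
    rcases Nat.lt_or_ge m 3 with h3 | h3
    · exact Or.inr (Or.inl ⟨by omega, h (by omega)⟩)
    · exact Or.inl h3)
  have hperf : commutator (Cfsg.Lib.Linear.Symp.iso (Cfsg.Lib.Linear.Symp.spB m F)) = ⊤ := by
    rw [← Subgroup.map_top_of_surjective e.toMonoidHom e.surjective, ← hsp, commutator_def,
      commutator_def, Subgroup.map_commutator, Subgroup.map_top_of_surjective e.toMonoidHom e.surjective]
  haveI := Cfsg.Lib.Linear.Symp.isSimpleGroup_quotient (Cfsg.Lib.Linear.Symp.spB_nondegenerate m F)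
      (Cfsg.Lib.Linear.Symp.spB_isAlt m F) hperf
  have hmap : (Subgroup.center (Matrix.symplecticGroup (Fin m) F)).map e.toMonoidHom =
      Subgroup.center (Cfsg.Lib.Linear.Symp.iso (Cfsg.Lib.Linear.Symp.spB m F)) := by
    ext g
    rw [Subgroup.mem_map_equiv]
    constructor
    · intro hg
      have h2 : e (e.symm g) ∈ Subgroup.center _ := (Subgroup.centerCongr e ⟨_, hg⟩).2
      rwa [MulEquiv.apply_symm_apply] at h2
    · intro hg
      exact (Subgroup.centerCongr e.symm ⟨g, hg⟩).2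
  let q : Cfsg.PSp m F ≃* (Cfsg.Lib.Linear.Symp.iso (Cfsg.Lib.Linear.Symp.spB m F) ⧸ Subgroup.center _) :=
    QuotientGroup.congr _ _ e hmap
  haveI := q.toEquiv.nontrivial
  exact IsSimpleGroup.isSimpleGroup_of_surjective (f := q.symm.toMonoidHom) q.symm.surjective

end Cfsg.Agent.S0270
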