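import Cfsg.Statements.S1218
import Cfsg.Agent.Lib.TwoGroup.SylowCriterion
import Cfsg.Agent.Lib.Linear.HermStandard
import Cfsg.Agent.S1217
-- import your own Cfsg.Agent.* helpers here

set_option autoImplicit false
open scoped MatrixGroups
open Cfsg

namespace Cfsg.Agent.S1218


open Subgroup
open scoped Matrix
open Cfsg.Lib.TwoGroup
open Cfsg.Agent.S1217 (diag diag_injective orderOf_swap swap_conj exists_two_adic)

variable {F : Type*} [Field F] [Fintype F] {q : ℕ}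

theorem card_gu (hF : Fintype.card F = q ^ 2) :
    Nat.card ↥(Cfsg.preserving (Units.coeHom (Matrix (Fin 2) (Fin 2) F)) (Cfsg.hermForm 2 F q)) =
      (q - 1) * (q + 1) * (q + 1) * q := by
  have h := Cfsg.Lib.Linear.Herm.card_GU hF 2
  refine h.trans ?_
  rw [Finset.prod_range_succ, Finset.prod_range_succ, Finset.prod_range_zero]
  simp only [Even.zero, if_true, Nat.not_even_one, if_false, zero_add, pow_one, one_mul,
    show 2 * (2 - 1) / 2 = 1 from rfl, Nat.reduceAdd]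
  rw [show q ^ 2 - 1 = (q + 1) * (q - 1) from by rw [← Nat.sq_sub_sq, one_pow]]
  ring

theorem swap_mem : Cfsg.Agent.S1217.swap ∈ Cfsg.preserving (Units.coeHom (Matrix (Fin 2) (Fin 2) F)) (Cfsg.hermForm 2 F q) := by
  intro u v
  simp only [Units.coeHom_apply, Cfsg.hermForm, Fin.sum_univ_two]
  simp [Cfsg.Agent.S1217.swap, Matrix.mulVec, dotProduct, Fin.sum_univ_two]
  ring

theorem diag_mem {a b : Fˣ} (ha : a ^ (q + 1) = 1) (hb : b ^ (q + 1) = 1) :
    diag (a, b) ∈ Cfsg.preserving (Units.coeHom (Matrix (Fin 2) (Fin 2) F)) (Cfsg.hermForm 2 F q) := by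
  intro u v
  have ha' : (a : F) * (a : F) ^ q = 1 := by rw [← pow_succ', ← Units.val_pow_eq_pow_val, ha, Units.val_one]
  have hb' : (b : F) * (b : F) ^ q = 1 := by rw [← pow_succ', ← Units.val_pow_eq_pow_val, hb, Units.val_one]
  simp only [Units.coeHom_apply, Cfsg.hermForm, Fin.sum_univ_two]
  simp [diag, Matrix.mulVec, dotProduct, Fin.sum_univ_two, mul_pow]
  linear_combination (u 0 * v 0 ^ q) * ha' + (u 1 * v 1 ^ q) * hb'

theorem three_mod_four (hF : Fintype.card F = q ^ 2) (h : q % 4 = 3)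
    (P : Sylow 2 ↥(Cfsg.preserving (Units.coeHom (Matrix (Fin 2) (Fin 2) F)) (Cfsg.hermForm 2 F q))) :
    Cfsg.IsWreathed (P : Subgroup ↥(Cfsg.preserving (Units.coeHom (Matrix (Fin 2) (Fin 2) F)) (Cfsg.hermForm 2 F q))) := by
  have hc := card_gu hF
  obtain ⟨n, a, hn, ha, he⟩ := exists_two_adic (N := q + 1) (by omega) (by omega)
  obtain ⟨b, hb⟩ : ∃ b, q - 1 = 2 * b := ⟨(q - 1) / 2, by omega⟩
  have hbodd : Odd b := by rw [Nat.odd_iff]; omega
  have hqodd : Odd q := by rw [Nat.odd_iff]; omega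
  obtain ⟨ζ, hζ⟩ : ∃ ζ : Fˣ, orderOf ζ = 2 ^ n := by
    obtain ⟨g, hg⟩ := IsCyclic.exists_ofOrder_eq_natCard (α := Fˣ)
    refine ⟨g ^ (a * (2 * b)), ?_⟩
    have : Nat.card Fˣ = 2 ^ n * (a * (2 * b)) := by
      rw [Cfsg.Lib.Linear.Herm.card_units_sq hF, he, hb]; ring
    rw [orderOf_pow, hg, this, Nat.gcd_eq_right (Dvd.intro_left _ rfl),
      Nat.mul_div_cancel _ (Nat.mul_pos ha.pos (by have := hbodd.pos; omega))]
  have hq1 : ζ ^ (q + 1) = 1 := by
    rw [he, pow_mul, ← hζ, pow_orderOf_eq_one, one_pow]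
  refine SylowCriterion.wreathed P hn (((hbodd.mul ha).mul ha).mul hqodd) (m := b * a * a * q) ?_
    ⟨_, diag_mem hq1 (one_pow _)⟩ ⟨_, diag_mem (one_pow _) hq1⟩ ⟨_, swap_mem⟩ ?_ ?_ ?_ ?_ ?_
  · rw [hc, hb, he, pow_succ, pow_mul', sq]; ring
  · rw [← Subgroup.orderOf_coe, orderOf_injective _ diag_injective, Prod.orderOf_mk, hζ, orderOf_one,
      Nat.lcm_one_right]
  · refine Subtype.ext ?_
    rw [Subgroup.coe_mul, Subgroup.coe_mul, ← map_mul, ← map_mul]; simp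
  · rw [eq_bot_iff]
    rintro g ⟨⟨i, hi⟩, ⟨j, hj⟩⟩
    have hi' : diag ((ζ, 1) : Fˣ × Fˣ) ^ i = (g : GL (Fin 2) F) := by rw [← hi]; rfl
    have hj' : diag ((1, ζ) : Fˣ × Fˣ) ^ j = (g : GL (Fin 2) F) := by rw [← hj]; rfl
    rw [← map_zpow] at hi' hj'
    have := congrArg Prod.snd (diag_injective (hi'.trans hj'.symm))
    have hj1 : (ζ ^ j : Fˣ) = 1 := by simpa using this.symm
    refine mem_bot.mpr (Subtype.ext ?_)
    rw [← hj', Prod.pow_mk, one_zpow, hj1]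
    exact map_one _
  · rw [← Subgroup.orderOf_coe]; exact orderOf_swap
  · exact Subtype.ext (swap_conj ζ 1)

theorem one_mod_four (hF : Fintype.card F = q ^ 2) (h : q % 4 = 1)
    (P : Sylow 2 ↥(Cfsg.preserving (Units.coeHom (Matrix (Fin 2) (Fin 2) F)) (Cfsg.hermForm 2 F q))) :
    Cfsg.IsQuasiDihedral (P : Subgroup ↥(Cfsg.preserving (Units.coeHom (Matrix (Fin 2) (Fin 2) F)) (Cfsg.hermForm 2 F q))) := by
  classical
  have hc := card_gu hF
  have hq2 := Cfsg.Lib.Linear.Herm.two_le_q hF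
  obtain ⟨k, b, hk, hb, he⟩ := exists_two_adic (N := q - 1) (by omega) (by omega)
  obtain ⟨a, ha⟩ : ∃ a, q + 1 = 2 * a := ⟨(q + 1) / 2, by omega⟩
  have haodd : Odd a := by rw [Nat.odd_iff]; omega
  have hqodd : Odd q := by rw [Nat.odd_iff]; omega
  obtain ⟨g, hg⟩ := IsCyclic.exists_ofOrder_eq_natCard (α := Fˣ)
  have hKu : Nat.card Fˣ = 2 ^ (k + 1) * (a * b) := by
    rw [Cfsg.Lib.Linear.Herm.card_units_sq hF, he, ha]; ring
  have hab := (haodd.mul hb).pos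
  have hζ : orderOf (g ^ (a * b)) = 2 ^ (k + 1) := by
    rw [orderOf_pow, hg, hKu, Nat.gcd_eq_right (Dvd.intro_left _ rfl), Nat.mul_div_cancel _ hab]
  generalize g ^ (a * b) = ζ at hζ
  -- a pair of isotropic vectors
  have h2 : (2 : F) ≠ 0 := by
    intro h0
    have hch : ringChar F = 2 := CharP.ringChar_of_prime_eq_zero Nat.prime_two (by exact_mod_cast h0)
    have := FiniteField.even_card_iff_char_two.mp hch
    have hodd2 : Odd (q ^ 2) := hqodd.pow
    rw [hF] at this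
    rw [Nat.odd_iff] at hodd2
    omega
  obtain ⟨c, hc1⟩ := Cfsg.Lib.Linear.Herm.exists_norm_eq hF (μ := (-1 : F)) (neg_ne_zero.mpr one_ne_zero)
    (by rw [Odd.neg_one_pow hqodd])
  let H : GL (Fin 2) F := Matrix.GeneralLinearGroup.mkOfDetNeZero !![1, 1; (c : F), -(c : F)] (by
    rw [Matrix.det_fin_two_of]
    have : (1 : F) * -(c : F) - 1 * (c : F) = -(2 * (c : F)) := by ring
    rw [this]; exact neg_ne_zero.mpr (mul_ne_zero h2 c.ne_zero))
  let f : (Fin 2 → F) → (Fin 2 → F) → F := fun u v => u 0 * v 1 ^ q + u 1 * v 0 ^ q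
  have hform : ∀ u v : Fin 2 → F, Cfsg.hermForm 2 F q (H.val *ᵥ u) (H.val *ᵥ v) = 2 * f u v := by
    intro u v
    have hadd : ∀ x y : F, (x + y) ^ q = x ^ q + y ^ q := fun x y => by
      simp only [← Cfsg.Lib.Linear.Herm.frob_apply hF, map_add]
    have e : ∀ w : Fin 2 → F, H.val *ᵥ w = ![w 0 + w 1, (c : F) * w 0 + -(c : F) * w 1] := fun w => by
      ext i; fin_cases i <;> simp [H, Matrix.mulVec, dotProduct, Fin.sum_univ_two]
    have hcq : (c : F) * (c : F) ^ q = -1 := by rw [← pow_succ']; exact hc1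
    rw [e, e]
    simp only [Cfsg.hermForm, Fin.sum_univ_two, Matrix.cons_val_zero, Matrix.cons_val_one, f, hadd, mul_pow,
      Odd.neg_pow hqodd]
    linear_combination ((u 0 - u 1) * (v 0 ^ q - v 1 ^ q)) * hcq
  have hmem : ∀ d : GL (Fin 2) F, (∀ u v, f (d.val *ᵥ u) (d.val *ᵥ v) = f u v) →
      H * d * H⁻¹ ∈ Cfsg.preserving (Units.coeHom (Matrix (Fin 2) (Fin 2) F)) (Cfsg.hermForm 2 F q) := by
    intro d hd u v
    simp only [Units.coeHom_apply, Units.val_mul, ← Matrix.mulVec_mulVec]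
    rw [hform, hd, ← hform, Matrix.mulVec_mulVec, Matrix.mulVec_mulVec, ← Units.val_mul, mul_inv_cancel,
      Units.val_one, Matrix.one_mulVec, Matrix.one_mulVec]
  set η : Fˣ := (ζ ^ q)⁻¹ with hη
  have hζζ : ζ ^ (q * q) = ζ := by
    refine Units.ext ?_
    rw [Units.val_pow_eq_pow_val, ← sq, ← hF, FiniteField.pow_card]
  have hd1 : ∀ u v, f ((diag (ζ, η)).val *ᵥ u) ((diag (ζ, η)).val *ᵥ v) = f u v := by
    intro u v
    have e1 : (ζ : F) * (η : F) ^ q = 1 := by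
      rw [← Units.val_pow_eq_pow_val, ← Units.val_mul, hη, inv_pow, ← pow_mul, hζζ, mul_inv_cancel, Units.val_one]
    have e2 : (η : F) * (ζ : F) ^ q = 1 := by
      rw [← Units.val_pow_eq_pow_val, ← Units.val_mul, hη, inv_mul_cancel, Units.val_one]
    simp [f, diag, Matrix.mulVec, dotProduct, Fin.sum_univ_two, mul_pow]
    linear_combination (u 0 * v 1 ^ q) * e1 + (u 1 * v 0 ^ q) * e2
  have hs1 : ∀ u v, f ((Cfsg.Agent.S1217.swap (F := F)).val *ᵥ u) ((Cfsg.Agent.S1217.swap (F := F)).val *ᵥ v) = f u v := by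
    intro u v
    simp [f, Cfsg.Agent.S1217.swap, Matrix.mulVec, dotProduct, Fin.sum_univ_two]
    ring
  have hpow : ∀ (e : ℕ) (t : ℕ), e = 2 ^ (k + 1) * t → ζ ^ e = 1 := fun e t ht => by
    rw [ht, pow_mul, ← hζ, pow_orderOf_eq_one, one_pow]
  obtain ⟨w, hw⟩ := hb.add_odd odd_one
  have hp1 : 1 ≤ 2 ^ k := Nat.one_le_two_pow
  obtain ⟨t, ht⟩ : ∃ t, 2 ^ k = t + 1 := ⟨2 ^ k - 1, by omega⟩
  have hηζ : ζ ^ (2 ^ k - 1) = η := by
    rw [hη, eq_inv_iff_mul_eq_one, ← pow_add]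
    refine hpow _ w ?_
    rw [pow_succ, show 2 ^ k * 2 * w = 2 ^ k * (w + w) by ring, ← hw, show 2 ^ k * (b + 1) = 2 ^ k * b + 2 ^ k by ring]
    omega
  have hζη : η ^ (2 ^ k - 1) = ζ := by
    obtain ⟨w', hw'⟩ := Nat.Odd.sub_odd (show Odd q from hqodd) hb
    rw [hη, inv_pow, inv_eq_iff_mul_eq_one, ← pow_mul, ← pow_succ]
    refine hpow _ w' ?_
    rw [pow_succ, show 2 ^ k * 2 * w' = 2 ^ k * (w' + w') by ring, ← hw', ht, Nat.add_sub_cancel]
    have hqb : b ≤ q := by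
      have : b * 1 ≤ b * 2 ^ k := Nat.mul_le_mul_left _ hp1
      rw [mul_one, mul_comm] at this
      omega
    obtain ⟨r, hr⟩ := Nat.exists_eq_add_of_le hqb
    have hqq : q = (t + 1) * b + 1 := by rw [← ht]; omega
    rw [hr, Nat.add_sub_cancel_left]
    rw [hr] at hqq
    ring_nf at hqq ⊢
    omega
  refine SylowCriterion.quasiDihedral P (n := k + 1) (by omega) (((hb.mul haodd).mul haodd).mul hqodd)
    (m := b * a * a * q) ?_ ⟨_, hmem _ hd1⟩ ⟨_, hmem _ hs1⟩ ?_ ?_ ?_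
  · rw [hc, he, ha]; ring
  · rw [← Subgroup.orderOf_coe]
    show orderOf (MulAut.conj H (diag (ζ, η))) = _
    rw [MulEquiv.orderOf_eq, orderOf_injective _ diag_injective, Prod.orderOf_mk, hζ]
    exact Nat.lcm_eq_left (hζ ▸ orderOf_dvd_of_pow_eq_one (by rw [hη, inv_pow, ← pow_mul, mul_comm, pow_mul, pow_orderOf_eq_one, one_pow, inv_one]))
  · rw [← Subgroup.orderOf_coe]
    show orderOf (MulAut.conj H Cfsg.Agent.S1217.swap) = _
    rw [MulEquiv.orderOf_eq, orderOf_swap]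
  · refine Subtype.ext ?_
    simp only [Subgroup.coe_mul, Subgroup.coe_inv, SubgroupClass.coe_pow, Nat.add_sub_cancel]
    rw [conj_pow]
    have key : Cfsg.Agent.S1217.swap * diag (ζ, η) * Cfsg.Agent.S1217.swap⁻¹ = diag (ζ, η) ^ (2 ^ k - 1) := by
      rw [swap_conj, ← map_pow, Prod.pow_mk, hηζ, hζη]
    rw [← key]
    group


/-- Let F be a finite field with q² elements, q odd, let GU be the subgroup of GL(2,F) preserving the Hermitian form u₁v₁^q + u₂v₂^q, and P a Sylow 2-subgroup of GU. If q ≡ 1 (mod 4) then P is quasi-dihedral; if q ≡ 3 (mod 4) then P is wreathed. -/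
theorem result {F : Type*} [Field F] [Fintype F] (q : ℕ) (hF : Fintype.card F = q ^ 2) (hq : Odd q) (P : Sylow 2 ↥(Cfsg.preserving (Units.coeHom (Matrix (Fin 2) (Fin 2) F)) (Cfsg.hermForm 2 F q))) : (q % 4 = 1 → Cfsg.IsQuasiDihedral (P : Subgroup ↥(Cfsg.preserving (Units.coeHom (Matrix (Fin 2) (Fin 2) F)) (Cfsg.hermForm 2 F q)))) ∧ (q % 4 = 3 → Cfsg.IsWreathed (P : Subgroup ↥(Cfsg.preserving (Units.coeHom (Matrix (Fin 2) (Fin 2) F)) (Cfsg.hermForm 2 F q)))) := by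
  exact ⟨fun h => one_mod_four hF h P, fun h => three_mod_four hF h P⟩

end Cfsg.Agent.S1218
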