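import Cfsg.Statements.S1159
import Cfsg.Agent.Lib.Chev.ReeHall

set_option autoImplicit false
open Cfsg

namespace Cfsg.Agent.S1159

/-- In the small Ree group ²G₂(q), q = 3^(2m+1) with m ≥ 1, realised as G¹ inside the Chevalley group G₂ over the field with q elements (θ the 3^m-th power map), with `r = 3^(m+1)`: a natural number is the order of an element of `G¹` iff it divides one of `6`, `9`, `q - 1`, `(q + 1)/2`, `q - r + 1`, `q + r + 1`. -/
theorem result {K : Type*} [Field K] [Fintype K] {m : ℕ} (hm : 1 ≤ m) (hK : Fintype.card K = 3 ^ (2 * m + 1)) (d : ℕ) :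
    (∃ g : ↥(Cfsg.Lie.twistedG2 K (3 ^ m)), orderOf g = d) ↔
      (d ∣ 6 ∨ d ∣ 9 ∨ d ∣ 3 ^ (2 * m + 1) - 1 ∨ d ∣ (3 ^ (2 * m + 1) + 1) / 2 ∨
        d ∣ 3 ^ (2 * m + 1) - 3 ^ (m + 1) + 1 ∨ d ∣ 3 ^ (2 * m + 1) + 3 ^ (m + 1) + 1) := by
  haveI := Cfsg.Lib.Chev.g2_charP hK
  rw [Cfsg.Lib.Chev.twistedG2_eq hK]
  constructor
  · rintro ⟨g, rfl⟩
    rcases Cfsg.Lib.Chev.Ree.order_cases hK hm g with h | h | ⟨i, h⟩
    · exact Or.inl (orderOf_dvd_of_pow_eq_one h)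
    · exact Or.inr (Or.inl (orderOf_dvd_of_pow_eq_one h))
    · have := orderOf_dvd_of_pow_eq_one h
      fin_cases i
      · exact Or.inr (Or.inr (Or.inl this))
      · exact Or.inr (Or.inr (Or.inr (Or.inl this)))
      · exact Or.inr (Or.inr (Or.inr (Or.inr (Or.inl this))))
      · exact Or.inr (Or.inr (Or.inr (Or.inr (Or.inr this))))
  · intro h
    have key : ∀ {n : ℕ}, d ∣ n → (∃ g : ↥(Cfsg.Lib.Chev.G2Aut.gG K m), orderOf g = n) →
        ∃ g : ↥(Cfsg.Lib.Chev.G2Aut.gG K m), orderOf g = d := by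
      rintro n hd ⟨g, rfl⟩
      obtain ⟨c, hc⟩ := hd
      have hc0 : c ≠ 0 := fun e => by rw [e, mul_zero] at hc; exact (orderOf_pos g).ne' hc
      exact ⟨g ^ c, by rw [orderOf_pow_of_dvd hc0 ⟨d, hc.trans (mul_comm d c)⟩, hc,
        Nat.mul_div_cancel _ (Nat.pos_of_ne_zero hc0)]⟩
    have hE := Cfsg.Lib.Chev.Ree.orderOf_torE hK hm
    rcases h with h | h | h | h | h | h
    · exact key h ⟨_, Cfsg.Lib.Chev.Ree.orderOf_six hK⟩
    · exact key h ⟨_, Cfsg.Lib.Chev.Ree.orderOf_nine hK⟩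
    · exact key h (hE 0)
    · exact key h (hE 1)
    · exact key h (hE 2)
    · exact key h (hE 3)

end Cfsg.Agent.S1159
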