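import Cfsg.Statements.S0825
import Cfsg.Agent.Lib.Linear.PermOrth
import Cfsg.Agent.Lib.Linear.OrthOrderStd

set_option autoImplicit false
open Cfsg

namespace Cfsg.Agent.S0825

open Cfsg.Lib.Linear.PermModule

def e8 : Fin 3 → Fin 8 → ZMod 2 :=
  ![![0, 0, 0, 0, 1, 1, 1, 1], ![0, 0, 1, 1, 1, 0, 0, 1], ![0, 1, 0, 1, 1, 1, 0, 0]]
def f8 : Fin 3 → Fin 8 → ZMod 2 :=
  ![![0, 0, 0, 1, 0, 1, 1, 1], ![0, 0, 1, 1, 1, 0, 1, 0], ![0, 1, 1, 0, 0, 0, 1, 1]]

set_option maxRecDepth 10000 in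
theorem good8 : Good e8 f8 (1 : Fin 8 → ZMod 2) := by
  refine ⟨by decide, by decide, by decide, by decide, by decide, Or.inr rfl, ?_, ?_⟩
  · unfold pr; decide
  · unfold pr sec
    decide +kernel

theorem compl8 (v : Fin 8 → ZMod 2) (hv : ∑ p, v p = 0) :
    halfWeight (v + 1) = halfWeight v := by
  revert v
  unfold halfWeight
  decide +kernel

theorem key8 : ∀ y : Fin 3 ⊕ Fin 3 → ZMod 2,
    ∑ i, y (.inl i) * y (.inr i) = halfWeight (sec e8 f8 y) := by
  unfold sec halfWeight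
  decide +kernel

theorem plus_six {F : Type*} [Field F] [Fintype F] (hF : Fintype.card F = 2) :
    Nonempty (↥(Cfsg.isometryGroup F (Cfsg.quadFormPlus 3 F)) ≃* Equiv.Perm (Fin 8)) := by
  classical
  let φ := ZMod.ringEquivOfPrime F Nat.prime_two hF
  let σ : Fin 3 ⊕ Fin 3 ≃ Fin 3 ⊕ Fin 3 := Equiv.refl _
  have hmem : ∀ g, good8.homF φ σ g ∈ Cfsg.isometryGroup F (Cfsg.quadFormPlus 3 F) :=
    good8.homF_mem φ σ halfWeight compl8 halfWeight_perm _ fun y => by
      rw [← key8 y]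
      simp [Cfsg.quadFormPlus, σ]
  have hcard := (Cfsg.Lib.Linear.Orth.counts_plus (F := F) 3).2
  obtain ⟨u⟩ := equiv_of_card ((good8.homF φ σ).codRestrict _ hmem)
    (fun g h e => good8.homF_injective (by simp) φ σ (congrArg Subtype.val e)) (by
      have h2 : Nat.card F = 2 := by rw [Nat.card_eq_fintype_card, hF]
      rw [h2] at hcard
      norm_num [Finset.prod_range_succ] at hcard
      rw [Nat.card_perm, Nat.card_fin]
      simp [Nat.factorial]
      omega)
  exact ⟨u⟩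

/-- O⁺_6(2) ≅ S_8: the isometry group of the hyperbolic form x_1y_1 + x_2y_2 + x_3y_3 over the field with 2 elements is isomorphic to the symmetric group on 8 letters. -/
theorem result {F : Type*} [Field F] [Fintype F] (hF : Fintype.card F = 2) : Nonempty (↥(Cfsg.isometryGroup F (Cfsg.quadFormPlus 3 F)) ≃* Equiv.Perm (Fin 8)) := by
  classical
  exact plus_six hF

end Cfsg.Agent.S0825
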