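import Cfsg.Statements.S0256
import Cfsg.Agent.S0302
import Cfsg.Agent.S0825

set_option autoImplicit false
open Cfsg

namespace Cfsg.Agent.S0256

open Cfsg.Lib.Linear

theorem psl_four_two {F : Type*} [Field F] [Fintype F] (hF : Fintype.card F = 2)
    (f : Matrix.SpecialLinearGroup (Fin 4) F →* Equiv.Perm (Fin 8)) (hf : ∀ z, f z = 1 → z = 1) :
    Nonempty (Matrix.ProjectiveSpecialLinearGroup (Fin 4) F ≃* alternatingGroup (Fin 8)) := by
  classical
  have hinj : Function.Injective f := (injective_iff_map_eq_one f).mpr hf
  have h : Nat.card (Matrix.SpecialLinearGroup (Fin 4) F) = 20160 := by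
    have := Cfsg.Agent.S0302.card_SL_four (F := F)
    rw [hF] at this
    norm_num [-Nat.card_eq_fintype_card] at this
    exact_mod_cast this
  have hr : f.range = alternatingGroup (Fin 8) := by
    refine Equiv.Perm.eq_alternatingGroup_of_index_eq_two ?_
    have h1 := Subgroup.card_mul_index f.range
    rw [← Nat.card_congr (MonoidHom.ofInjective hinj).toEquiv, Nat.card_perm, Nat.card_fin, h] at h1
    simp [Nat.factorial] at h1
    omega
  have hz : Subgroup.center (Matrix.SpecialLinearGroup (Fin 4) F) = ⊥ := by
    refine Subgroup.eq_bot_of_card_eq _ ?_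
    rw [card_center_SL (ι := Fin 4), Fintype.card_fin, hF]
    rfl
  exact ⟨((QuotientGroup.quotientMulEquivOfEq hz).trans QuotientGroup.quotientBot).trans
    ((MonoidHom.ofInjective hinj).trans (MulEquiv.subgroupCongr hr))⟩

/-- PSL_4(2) is isomorphic to A_8. -/
theorem result {F : Type*} [Field F] [Fintype F] (hF : Fintype.card F = 2) : Nonempty (Matrix.ProjectiveSpecialLinearGroup (Fin 4) F ≃* alternatingGroup (Fin 8)) := by
  classical
  obtain ⟨φ, hφ, -, hker⟩ := Cfsg.Agent.S0302.exists_wedge F
  obtain ⟨u⟩ := Cfsg.Agent.S0825.result (F := F) hF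
  exact psl_four_two hF ((u.toMonoidHom).comp (φ.codRestrict _ hφ)) fun z hz => by
    have : φ z = 1 := by
      have h : φ.codRestrict _ hφ z = 1 := u.injective (hz.trans (map_one u).symm)
      exact congrArg Subtype.val h
    obtain ⟨c, hc, hzc⟩ := hker z this
    have hc1 : c = 1 := by
      have h2 : ∀ x : F, x = 0 ∨ x = 1 := fun x => by
        by_contra h
        push Not at h
        have := Finset.card_le_univ ({0, 1, x} : Finset F)
        rw [hF, Finset.card_insert_of_notMem (by simp [h.1.symm]),
          Finset.card_insert_of_notMem (by simp [h.2.symm]), Finset.card_singleton] at this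
        omega
      rcases h2 c with rfl | rfl
      · simp at hc
      · rfl
    exact Subtype.ext (by rw [hzc, hc1, one_smul]; rfl)

end Cfsg.Agent.S0256
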