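import Cfsg.Statements.S4035
import Cfsg.Agent.Lib.PGroup.Elements

set_option autoImplicit false
open Cfsg

namespace Cfsg.Agent.S4035

theorem carrier_ncard_eq_index {G : Type*} [Group G] (x : G) :
    (ConjClasses.mk x).carrier.ncard = (Subgroup.centralizer ({x} : Set G)).index := by
  have h1 : MulAction.orbit (ConjAct G) x = (ConjClasses.mk x).carrier := by
    ext y
    rw [ConjAct.mem_orbit_conjAct, ConjClasses.mem_carrier_iff_mk_eq, ConjClasses.mk_eq_mk_iff_isConj]
  rw [← h1, ← MulAction.index_stabilizer, ConjAct.stabilizer_eq_centralizer]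
  rfl


/-- Let G be a finite group and p a prime such that p divides the size of no conjugacy class of p-regular elements (elements of order prime to p). Then G is the internal direct product of a Sylow p-subgroup P and a normal subgroup H of order prime to p: P is normal, P ⊓ H = 1 and PH = G. -/
theorem result {G : Type*} [Group G] [Finite G] {p : ℕ} [Fact p.Prime]
    (h : ∀ x : G, (orderOf x).Coprime p → ¬ p ∣ (ConjClasses.mk x).carrier.ncard) (P : Sylow p G) :
    (P : Subgroup G).Normal ∧ ∃ H : Subgroup G, H.Normal ∧ ¬ p ∣ Nat.card H ∧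
      (P : Subgroup G) ⊓ H = ⊥ ∧ (P : Subgroup G) ⊔ H = ⊤ := by
  classical
  have hp : p.Prime := Fact.out
  have key : ∀ x : G, (orderOf x).Coprime p → ∀ y : G, Commute x y → (∃ k, y ^ p ^ k = 1) →
      ∃ Q : Sylow p G, y ∈ (Q : Subgroup G) ∧ (Q : Subgroup G) ≤ Subgroup.centralizer ({x} : Set G) := by
    intro x hx y hxy hy
    let C := Subgroup.centralizer ({x} : Set G)
    have hyC : y ∈ C := Subgroup.mem_centralizer_singleton_iff.mpr hxy.eq.symm
    have hyp : IsPGroup p (Subgroup.zpowers (⟨y, hyC⟩ : C)) := by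
      obtain ⟨k, hk⟩ := hy
      exact IsPGroup.of_card_dvd_pow (n := k) (by
        rw [Nat.card_zpowers]; exact orderOf_dvd_of_pow_eq_one (Subtype.ext (by simpa using hk)))
    obtain ⟨S, hS⟩ := hyp.exists_le_sylow
    have hidx : ¬ p ∣ C.index := by
      rw [← carrier_ncard_eq_index]; exact h x hx
    have hni : ¬ p ∣ ((S : Subgroup C).map C.subtype).index := by
      rw [Subgroup.index_map_subtype]
      exact hp.not_dvd_mul S.not_dvd_index hidx
    exact ⟨(S.2.map C.subtype).toSylow hni, ⟨⟨y, hyC⟩, hS (Subgroup.mem_zpowers _), rfl⟩,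
      Subgroup.map_subtype_le _⟩
  have hN : Subgroup.normalizer ((P : Subgroup G) : Set G) = ⊤ := by
    refine Cfsg.Lib.PGroup.eq_top_of_forall_exists_conj_mem fun g => ?_
    set k := (orderOf g).factorization p with hk
    set e := orderOf g / p ^ k with he
    have hpe : p ^ k * e = orderOf g := Nat.ordProj_mul_ordCompl_eq_self _ _
    have hecop : e.Coprime p := (Nat.coprime_ordCompl hp (orderOf_pos g).ne').symm
    have hx : (orderOf (g ^ p ^ k)).Coprime p :=
      hecop.coprime_dvd_left (orderOf_dvd_of_pow_eq_one (by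
        rw [← pow_mul, hpe, pow_orderOf_eq_one]))
    obtain ⟨Q, hyQ, hQC⟩ := key (g ^ p ^ k) hx (g ^ e) ((Commute.refl g).pow_pow _ _)
      ⟨k, by rw [← pow_mul, mul_comm, hpe, pow_orderOf_eq_one]⟩
    have hxN : g ^ p ^ k ∈ Subgroup.normalizer ((Q : Subgroup G) : Set G) := by
      rw [Subgroup.mem_normalizer_iff]
      intro z
      have hz : ∀ w ∈ (Q : Subgroup G), g ^ p ^ k * w * (g ^ p ^ k)⁻¹ = w := fun w hw => by
        rw [← Subgroup.mem_centralizer_singleton_iff.mp (hQC hw), mul_inv_cancel_right]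
      refine ⟨fun hzQ => by rw [hz z hzQ]; exact hzQ, fun hzQ => ?_⟩
      have h3 := hz _ hzQ
      rw [mul_left_inj, mul_right_inj] at h3
      rwa [h3] at hzQ
    have hgN : g ∈ Subgroup.normalizer ((Q : Subgroup G) : Set G) := by
      have hyN := Subgroup.le_normalizer hyQ
      have hg : g = (g ^ p ^ k) ^ Nat.gcdA (p ^ k) e * (g ^ e) ^ Nat.gcdB (p ^ k) e := by
        rw [← zpow_natCast g, ← zpow_mul, ← zpow_natCast g, ← zpow_mul, ← zpow_add,
          ← Nat.gcd_eq_gcd_ab, (hecop.symm.pow_left k).gcd_eq_one, Nat.cast_one, zpow_one]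
      rw [hg]
      exact mul_mem (zpow_mem hxN _) (zpow_mem hyN _)
    obtain ⟨u, hu⟩ := MulAction.exists_smul_eq G Q P
    refine ⟨u, ?_⟩
    rw [Sylow.coe_coe, ← Sylow.smul_eq_iff_mem_normalizer] at hgN ⊢
    rw [← hu, smul_smul, mul_assoc, inv_mul_cancel, mul_one, ← smul_smul, hgN]
  have hPn : (P : Subgroup G).Normal := Subgroup.normalizer_eq_top_iff.mp hN
  refine ⟨hPn, ?_⟩
  obtain ⟨H, hH⟩ := Subgroup.exists_right_complement'_of_coprime P.card_coprime_index
  have hHp : ¬ p ∣ Nat.card H := by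
    rw [← hH.symm.index_eq_card]; exact P.not_dvd_index
  refine ⟨H, ?_, hHp, hH.disjoint.eq_bot, hH.sup_eq_top⟩
  have hc : ∀ x ∈ H, ∀ y ∈ (P : Subgroup G), x * y = y * x := by
    intro x hx y hy
    obtain ⟨Q, -, hQ⟩ := key x ((hp.coprime_iff_not_dvd.mpr hHp).symm.coprime_dvd_left
      (Subgroup.orderOf_dvd_natCard H hx)) 1 (Commute.one_right x) ⟨0, one_pow _⟩
    have := Sylow.unique_of_normal P hPn
    rw [Subsingleton.elim Q P] at hQ
    exact (Subgroup.mem_centralizer_singleton_iff.mp (hQ hy)).symm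
  refine ⟨fun x hx g => ?_⟩
  obtain ⟨y, hy, z, hz, rfl⟩ := Subgroup.mem_sup_of_normal_left.mp (hH.sup_eq_top.symm ▸ Subgroup.mem_top g)
  have h1 : z * x * z⁻¹ ∈ H := mul_mem (mul_mem hz hx) (inv_mem hz)
  have h2 : y * z * x * (y * z)⁻¹ = z * x * z⁻¹ := by
    rw [show y * z * x * (y * z)⁻¹ = y * (z * x * z⁻¹) * y⁻¹ by simp [mul_assoc],
      ← hc _ h1 y hy, mul_inv_cancel_right]
  rwa [h2]

end Cfsg.Agent.S4035
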