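import Cfsg.Statements.S4354
import Mathlib

set_option autoImplicit false
open Cfsg

namespace Cfsg.Agent.S4354

open Pointwise

section
variable {G : Type*} [Group G] [Finite G] {p : ℕ} [Fact p.Prime]

theorem relIndex_sup_normal (H N : Subgroup G) [N.Normal] :
    H.relIndex (H ⊔ N) = H.relIndex N := by
  have h1 : (⊥ : Subgroup G).relIndex N * N.relIndex (H ⊔ N) = (⊥ : Subgroup G).relIndex (H ⊔ N) :=
    Subgroup.relIndex_mul_relIndex _ _ _ bot_le le_sup_right
  have h2 : (⊥ : Subgroup G).relIndex H * H.relIndex (H ⊔ N) = (⊥ : Subgroup G).relIndex (H ⊔ N) :=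
    Subgroup.relIndex_mul_relIndex _ _ _ bot_le le_sup_left
  have h3 : (⊥ : Subgroup G).relIndex (H ⊓ N) * (H ⊓ N).relIndex H = (⊥ : Subgroup G).relIndex H :=
    Subgroup.relIndex_mul_relIndex _ _ _ bot_le inf_le_left
  have h4 : (⊥ : Subgroup G).relIndex (H ⊓ N) * (H ⊓ N).relIndex N = (⊥ : Subgroup G).relIndex N :=
    Subgroup.relIndex_mul_relIndex _ _ _ bot_le inf_le_right
  have e1 : N.relIndex (H ⊔ N) = N.relIndex H := Subgroup.relIndex_sup_right _ _
  have e2 : (H ⊓ N).relIndex H = N.relIndex H := by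
    rw [inf_comm]; exact Subgroup.inf_relIndex_right _ _
  have e3 : (H ⊓ N).relIndex N = H.relIndex N := Subgroup.inf_relIndex_right _ _
  rw [e1] at h1; rw [e2] at h3; rw [e3] at h4
  have h3' := h3
  rw [← h4] at h1; rw [← h3] at h2
  have hb : (⊥ : Subgroup G).relIndex (H ⊓ N) ≠ 0 := by
    rw [Subgroup.relIndex_bot_left]; exact Nat.card_pos.ne'
  have hN0 : N.relIndex H ≠ 0 := by
    intro e; apply (Nat.card_pos (α := ↥H)).ne'
    rw [← Subgroup.relIndex_bot_left, ← h3', e, mul_zero]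
  have : (⊥ : Subgroup G).relIndex (H ⊓ N) * N.relIndex H * H.relIndex N =
      (⊥ : Subgroup G).relIndex (H ⊓ N) * N.relIndex H * H.relIndex (H ⊔ N) := by
    rw [h2, ← h1]; ring
  exact (Nat.eq_of_mul_eq_mul_left (Nat.pos_of_ne_zero (mul_ne_zero hb hN0)) this).symm

theorem exists_sylow_le {H : Subgroup G} (h : ¬ p ∣ H.index) : ∃ Q : Sylow p G, (Q : Subgroup G) ≤ H := by
  obtain ⟨Q0⟩ : Nonempty (Sylow p H) := inferInstance
  have hp : IsPGroup p ↥((Q0 : Subgroup H).map H.subtype) := Q0.2.map _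
  have hi : ¬ p ∣ ((Q0 : Subgroup H).map H.subtype).index := by
    rw [Subgroup.index_map_subtype]
    exact (Nat.Prime.not_dvd_mul Fact.out) (Q0.not_dvd_index) h
  exact ⟨hp.toSylow hi, Subgroup.map_subtype_le _⟩

theorem mem_sylow_of_centralizes (Q : Sylow p G) {x : G} (hx : ∃ k : ℕ, orderOf x = p ^ k)
    (h : (Q : Subgroup G) ≤ Subgroup.centralizer ({x} : Set G)) : x ∈ Q := by
  obtain ⟨k, hk⟩ := hx
  have hz : IsPGroup p ↥(Subgroup.zpowers x) := IsPGroup.of_card (n := k) (by rw [Nat.card_zpowers, hk])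
  have hn : Subgroup.zpowers x ≤ Subgroup.normalizer ((Q : Subgroup G) : Set G) := by
    rw [Subgroup.zpowers_le]
    have hc : x ∈ Subgroup.centralizer ((Q : Subgroup G) : Set G) := by
      rw [Subgroup.mem_centralizer_iff]
      intro q hq
      exact (Subgroup.mem_centralizer_singleton_iff.mp (h hq)).symm ▸ rfl
    exact Subgroup.centralizer_le_normalizer _ hc
  have := Q.3 (IsPGroup.to_sup_of_normal_right' hz Q.2 hn) le_sup_right
  exact this.le (Subgroup.mem_sup_left (Subgroup.mem_zpowers x))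

end


/-- Let G be a finite group and p a prime such that the Sylow p-subgroups of G are non-abelian while every element of p-power order has conjugacy class size prime to p, and suppose no nontrivial proper normal subgroup N of G has this property and no quotient G/N by such an N has it. Then G is simple. -/
theorem result {G : Type*} [Group G] [Finite G]
    (p : ℕ) [Fact p.Prime] (h : ((∃ P : Sylow p G, ¬ IsMulCommutative P) ∧ ∀ x : G, (∃ k : ℕ, orderOf x = p ^ k) → ¬ p ∣ (Subgroup.centralizer ({x} : Set G)).index))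
    (hmin : ∀ (N : Subgroup G) [N.Normal], N ≠ ⊥ → N ≠ ⊤ →
      ¬ ((∃ P : Sylow p N, ¬ IsMulCommutative P) ∧ ∀ x : N, (∃ k : ℕ, orderOf x = p ^ k) → ¬ p ∣ (Subgroup.centralizer ({x} : Set N)).index) ∧
      ¬ ((∃ P : Sylow p (G ⧸ N), ¬ IsMulCommutative P) ∧ ∀ x : (G ⧸ N), (∃ k : ℕ, orderOf x = p ^ k) → ¬ p ∣ (Subgroup.centralizer ({x} : Set (G ⧸ N))).index)) :
    IsSimpleGroup G := by

  obtain ⟨⟨P0, hP0⟩, hc⟩ := h
  haveI : Nontrivial G := by
    rcases subsingleton_or_nontrivial G with hs | hn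
    · exact absurd ⟨⟨fun a b => Subsingleton.elim _ _⟩⟩ hP0
    · exact hn
  refine ⟨fun M hMn => ?_⟩
  by_contra hM
  push Not at hM
  obtain ⟨hM1, hM2⟩ := hM
  -- normal subgroups inherit, so their Sylow subgroups are abelian
  have hsub : ∀ N : Subgroup G, N.Normal → N ≠ ⊥ → N ≠ ⊤ → ∀ R : Sylow p N, IsMulCommutative R := by
    intro N hNn hN1 hN2 R
    by_contra hR
    refine (hmin N hN1 hN2).1 ⟨⟨R, hR⟩, fun x hx => ?_⟩
    obtain ⟨Q, hQ⟩ := exists_sylow_le (hc (x : G) (by rwa [Subgroup.orderOf_coe]))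
    have e : Subgroup.centralizer ({x} : Set N) = (Subgroup.centralizer ({(x : G)} : Set G)).subgroupOf N := by
      ext y
      simp [Subgroup.mem_subgroupOf, Subgroup.mem_centralizer_singleton_iff, Subtype.ext_iff]
    rw [e]
    intro hd
    apply Q.not_dvd_index
    have h1 : (Subgroup.centralizer ({(x : G)} : Set G)).relIndex N ∣ (Q : Subgroup G).relIndex N :=
      Subgroup.relIndex_dvd_of_le_left N hQ
    have h2 : (Q : Subgroup G).relIndex N ∣ (Q : Subgroup G).index := by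
      rw [← relIndex_sup_normal, ← Subgroup.relIndex_mul_index (le_sup_left : (Q : Subgroup G) ≤ (Q : Subgroup G) ⊔ N)]
      exact Dvd.intro _ rfl
    exact hd.trans (h1.trans h2)
  have hquot : ∀ R : Sylow p (G ⧸ M), IsMulCommutative R := by
    intro R
    by_contra hR
    refine (hmin M hM1 hM2).2 ⟨⟨R, hR⟩, fun x hx => ?_⟩
    obtain ⟨k, hk⟩ := hx
    have hz : IsPGroup p ↥(Subgroup.zpowers x) := IsPGroup.of_card (n := k) (by rw [Nat.card_zpowers, hk])
    obtain ⟨R', hR'⟩ := hz.exists_le_sylow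
    obtain ⟨Q, hQ⟩ := Sylow.mapSurjective_surjective (QuotientGroup.mk'_surjective M) p R'
    have hxR := hR' (Subgroup.mem_zpowers x)
    rw [← hQ] at hxR
    obtain ⟨y, hy, hyx⟩ := hxR
    have hyp : ∃ k : ℕ, orderOf y = p ^ k := by
      obtain ⟨j, hj⟩ := IsPGroup.iff_orderOf.mp Q.2 ⟨y, hy⟩
      exact ⟨j, by rwa [Subgroup.orderOf_mk] at hj⟩
    intro hd
    apply hc y hyp
    refine hd.trans ((Subgroup.index_dvd_of_le ?_).trans
      (Subgroup.index_map_dvd _ (QuotientGroup.mk'_surjective M)))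
    rintro _ ⟨c, hcc, rfl⟩
    rw [Subgroup.mem_centralizer_singleton_iff, ← hyx, ← map_mul, ← map_mul,
      Subgroup.mem_centralizer_singleton_iff.mp hcc]
  have hPnc : ∀ P : Sylow p G, ¬ IsMulCommutative P := by
    intro P hP
    apply hP0
    haveI := hP
    exact ⟨⟨fun a b => (P.equiv P0).symm.injective (by rw [map_mul, map_mul, mul_comm'])⟩⟩
  -- the Sylow subgroup of `M`
  obtain ⟨R0⟩ : Nonempty (Sylow p M) := inferInstance
  haveI := hsub M hMn hM1 hM2 R0
  set Rg := (R0 : Subgroup M).map M.subtype with hRg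
  set C := Subgroup.centralizer (Rg : Set G) with hC
  have hRC : Rg ≤ C := by
    rintro _ ⟨a, ha, rfl⟩
    rw [hC, Subgroup.mem_centralizer_iff]
    rintro _ ⟨b, hb, rfl⟩
    rw [← map_mul, ← map_mul]
    have := mul_comm' (⟨b, hb⟩ : (R0 : Subgroup M)) ⟨a, ha⟩
    exact congrArg M.subtype (congrArg Subtype.val this)
  have hKn : (M ⊔ C).Normal := by
    rw [← Subgroup.normalizer_eq_top_iff, eq_top_iff, ← R0.normalizer_sup_eq_top]
    refine sup_le (fun g hg => ?_) (le_sup_left.trans Subgroup.le_normalizer)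
    have hgC : ∀ c, c ∈ C → g * c * g⁻¹ ∈ C := by
      intro c hcC
      rw [hC, Subgroup.mem_centralizer_iff] at hcC ⊢
      intro r hr
      have h1 : g⁻¹ * r * g ∈ Rg := (Subgroup.mem_normalizer_iff''.mp hg r).mp hr
      have h2 := hcC _ h1
      calc r * (g * c * g⁻¹) = g * (g⁻¹ * r * g * c) * g⁻¹ := by group
        _ = g * (c * (g⁻¹ * r * g)) * g⁻¹ := by rw [h2]
        _ = g * c * g⁻¹ * r := by group
    have hle : (M ⊔ C).map (MulAut.conj g).toMonoidHom ≤ M ⊔ C := by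
      rw [Subgroup.map_sup]
      refine sup_le_sup ?_ ?_
      · rintro _ ⟨m, hm, rfl⟩; exact hMn.conj_mem m hm g
      · rintro _ ⟨c, hcC, rfl⟩; exact hgC c hcC
    have heq := Subgroup.eq_of_le_of_card_ge hle
      (Nat.card_congr ((M ⊔ C).equivMapOfInjective _ (MulAut.conj g).injective).toEquiv).le
    rw [Subgroup.mem_normalizer_iff]
    intro n
    constructor
    · intro hn; rw [← heq]; exact ⟨n, hn, rfl⟩
    · intro hn
      rw [← heq] at hn
      obtain ⟨n', hn', e⟩ := hn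
      have : n' = n := by simpa using e
      rwa [← this]
  have hSylM : ∀ Q : Sylow p G, ∃ m : M, ∀ r, r ∈ Rg → (m : G) * r * (m : G)⁻¹ ∈ Q := by
    intro Q
    have hp' : IsPGroup p ↥((Q : Subgroup G).subgroupOf M) := Q.2.comap_subtype
    have hi : ¬ p ∣ ((Q : Subgroup G).subgroupOf M).index := by
      intro hd
      apply Q.not_dvd_index
      refine hd.trans ?_
      show (Q : Subgroup G).relIndex M ∣ _
      rw [← relIndex_sup_normal, ← Subgroup.relIndex_mul_index (le_sup_left : (Q : Subgroup G) ≤ (Q : Subgroup G) ⊔ M)]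
      exact Dvd.intro _ rfl
    obtain ⟨m, hm⟩ := MulAction.exists_smul_eq M R0 (hp'.toSylow hi)
    refine ⟨m, ?_⟩
    rintro _ ⟨a, ha, rfl⟩
    have : m * a * m⁻¹ ∈ (m • R0 : Sylow p M) := Subgroup.smul_mem_pointwise_smul a (MulAut.conj m) _ ha
    rw [hm] at this
    exact this
  have hall : ∀ x : G, (∃ k : ℕ, orderOf x = p ^ k) → x ∈ M ⊔ C := by
    intro x hx
    obtain ⟨Q, hQ⟩ := exists_sylow_le (hc x hx)
    obtain ⟨m, hm⟩ := hSylM Q
    have hmc : (m : G)⁻¹ * x * m ∈ C := by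
      rw [hC, Subgroup.mem_centralizer_iff]
      intro r hr
      have := Subgroup.mem_centralizer_singleton_iff.mp (hQ (hm r hr))
      calc r * ((m : G)⁻¹ * x * m) = (m : G)⁻¹ * ((m : G) * r * (m : G)⁻¹ * x) * m := by group
        _ = (m : G)⁻¹ * (x * ((m : G) * r * (m : G)⁻¹)) * m := by rw [this]
        _ = (m : G)⁻¹ * x * m * r := by group
    have e : x = (m : G) * ((m : G)⁻¹ * x * m) * (m : G)⁻¹ := by group
    rw [e]
    exact mul_mem (mul_mem (Subgroup.mem_sup_left m.2) (Subgroup.mem_sup_right hmc))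
      (inv_mem (Subgroup.mem_sup_left m.2))
  have hpel : ∀ (P : Sylow p G) (x : G), x ∈ P → ∃ k : ℕ, orderOf x = p ^ k := by
    intro P x hx
    obtain ⟨j, hj⟩ := IsPGroup.iff_orderOf.mp P.2 ⟨x, hx⟩
    exact ⟨j, by rwa [Subgroup.orderOf_mk] at hj⟩
  have hKtop : M ⊔ C = ⊤ := by
    by_contra hne
    have hle : (P0 : Subgroup G) ≤ M ⊔ C := fun x hx => hall x (hpel P0 x hx)
    haveI := hsub (M ⊔ C) hKn (fun e => hM1 (eq_bot_iff.mpr (le_sup_left.trans e.le))) hne (P0.subtype hle)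
    refine hP0 ⟨⟨fun a b => Subtype.ext ?_⟩⟩
    have := mul_comm' (⟨⟨a.1, hle a.2⟩, a.2⟩ : (P0.subtype hle : Sylow p ↥(M ⊔ C))) ⟨⟨b.1, hle b.2⟩, b.2⟩
    exact congrArg (fun t => ((t.1 : ↥(M ⊔ C)) : G)) this
  have hCi : ¬ p ∣ C.index := by
    intro hd
    apply R0.not_dvd_index
    have h1 : C.index = C.relIndex M := by
      rw [← relIndex_sup_normal, sup_comm, hKtop, Subgroup.relIndex_top_right]
    have h2 : C.relIndex M ∣ Rg.relIndex M := Subgroup.relIndex_dvd_of_le_left M hRC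
    have h3 : Rg.relIndex M = (R0 : Subgroup M).index := by
      show (Rg.subgroupOf M).index = _
      rw [hRg, Subgroup.subgroupOf, Subgroup.comap_map_eq_self_of_injective M.subtype_injective]
    exact (hd.trans (h1 ▸ h2)).trans h3.dvd
  obtain ⟨P, hPC⟩ := exists_sylow_le hCi
  have hRP : Rg ≤ P := by
    intro r hr
    have hr2 := hRC hr
    refine mem_sylow_of_centralizes P ?_ (fun q hq => ?_)
    · obtain ⟨j, hj⟩ := IsPGroup.iff_orderOf.mp (R0.2.map M.subtype) ⟨r, hr⟩
      exact ⟨j, by rwa [Subgroup.orderOf_mk] at hj⟩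
    · rw [Subgroup.mem_centralizer_singleton_iff]
      exact (Subgroup.mem_centralizer_iff.mp (hPC hq) r hr).symm
  have hPM : ∀ r : G, r ∈ P → r ∈ M → r ∈ Rg := by
    intro r hr hrM
    have hp' : IsPGroup p ↥((P : Subgroup G).subgroupOf M) := P.2.comap_subtype
    have : (P : Subgroup G).subgroupOf M = (R0 : Subgroup M) := by
      refine R0.3 hp' ?_
      intro a ha
      exact hRP ⟨a, ha, rfl⟩
    exact ⟨⟨r, hrM⟩, this.le hr, rfl⟩
  apply hPnc P
  set π := QuotientGroup.mk' M with hπ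
  have hπs : Function.Surjective π := QuotientGroup.mk'_surjective M
  haveI := hquot (P.mapSurjective hπs)
  refine ⟨⟨fun a b => Subtype.ext ?_⟩⟩
  revert a b
  suffices key : ∀ x ∈ P, ∀ b ∈ P, x * b = b * x from fun a b => key a.1 a.2 b.1 b.2
  intro x hxP b hbP
  obtain ⟨Q, hQ⟩ := exists_sylow_le (hc x (hpel P x hxP))
  have hxQ := mem_sylow_of_centralizes Q (hpel P x hxP) hQ
  obtain ⟨g, hg⟩ := MulAction.exists_smul_eq G P Q
  have hgm : ∀ t : G, t ∈ Q ↔ g⁻¹ * t * g ∈ P := by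
    intro t
    rw [← hg]
    show t ∈ (MulAut.conj g • (P : Subgroup G)) ↔ _
    rw [Subgroup.mem_pointwise_smul_iff_inv_smul_mem]
    simp [MulAut.smul_def, mul_assoc]
    rfl
  set y := g⁻¹ * x * g with hy
  have hyP : y ∈ P := (hgm x).mp hxQ
  have hyc : ∀ c ∈ P, y * c = c * y := by
    intro c hcP
    have : g * c * g⁻¹ ∈ Q := (hgm _).mpr (by simpa [mul_assoc] using hcP)
    have h2 := Subgroup.mem_centralizer_singleton_iff.mp (hQ this)
    calc y * c = g⁻¹ * (x * (g * c * g⁻¹)) * g := by simp [hy, mul_assoc]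
      _ = g⁻¹ * (g * c * g⁻¹ * x) * g := by rw [h2]
      _ = c * y := by simp [hy, mul_assoc]
  obtain ⟨nb, hnb, hnbe⟩ := Sylow.conj_eq_normalizer_conj_of_mem (P.mapSurjective hπs) (π x) (π g)
    ⟨x, hxP, rfl⟩ (by rw [← map_inv, ← map_mul, ← map_mul]; exact ⟨y, hyP, rfl⟩)
  obtain ⟨n, rfl⟩ := hπs nb
  -- lift to the normalizer of `P`
  set K := (P : Subgroup G) ⊔ M
  have hnK : ((n • P : Sylow p G) : Subgroup G) ≤ K := by
    intro t ht
    change t ∈ MulAut.conj n • (P : Subgroup G) at ht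
    rw [Subgroup.mem_pointwise_smul_iff_inv_smul_mem] at ht
    have h1 : π (n⁻¹ * t * n) ∈ (P.mapSurjective hπs : Subgroup (G ⧸ M)) :=
      ⟨_, show n⁻¹ * t * n ∈ (P : Subgroup G) by simpa [MulAut.smul_def, mul_assoc] using ht, rfl⟩
    have h2 := (Subgroup.mem_normalizer_iff.mp hnb _).mp h1
    have h3 : π t ∈ (P : Subgroup G).map π := by
      have e : π n * π (n⁻¹ * t * n) * (π n)⁻¹ = π t := by
        rw [← map_inv, ← map_mul, ← map_mul]; congr 1; group
      rw [← e]; exact h2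
    obtain ⟨q, hq, hqt⟩ := h3
    have : q⁻¹ * t ∈ M := QuotientGroup.eq.mp hqt
    simpa using mul_mem (Subgroup.mem_sup_left hq : q ∈ K) (Subgroup.mem_sup_right this)
  obtain ⟨k, hk⟩ := MulAction.exists_smul_eq K (P.subtype (le_sup_left : (P : Subgroup G) ≤ K)) ((n • P).subtype hnK)
  rw [Sylow.smul_subtype] at hk
  have hkn : (k : G) • P = n • P := Sylow.subtype_injective hk
  set n' := (k : G)⁻¹ * n
  have hn' : ∀ t, t ∈ P → n'⁻¹ * t * n' ∈ P := by
    intro t ht
    have : n' • P = P := by rw [mul_smul, ← hkn, inv_smul_smul]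
    rw [Sylow.smul_eq_iff_mem_normalizer] at this
    exact (Subgroup.mem_normalizer_iff''.mp this t).mp ht
  set z := n'⁻¹ * x * n' with hz
  have hkx : π ((k : G) * x * (k : G)⁻¹) = π x := by
    have h1 : π (k : G) ∈ (P.mapSurjective hπs : Subgroup (G ⧸ M)) := by
      have : (K.map π) ≤ (P : Subgroup G).map π := by
        rw [Subgroup.map_sup]
        refine sup_le le_rfl ?_
        rintro _ ⟨m, hm, rfl⟩
        rw [show π m = 1 from (QuotientGroup.eq_one_iff m).mpr hm]
        exact one_mem _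
      exact this ⟨k, k.2, rfl⟩
    have h2 := mul_comm' (⟨π (k : G), h1⟩ : (P.mapSurjective hπs : Subgroup (G ⧸ M))) ⟨π x, x, hxP, rfl⟩
    have h3 : π (k : G) * π x = π x * π (k : G) := congrArg Subtype.val h2
    rw [map_mul, map_mul, map_inv, h3]; group
  have hzy : π z = π y := by
    have e : z = n⁻¹ * ((k : G) * x * (k : G)⁻¹) * n := by simp [hz, n', mul_assoc]
    rw [e, map_mul, map_mul, hkx, map_inv, ← hnbe, hy, map_mul, map_mul, map_inv]
  have hzP : z ∈ P := hn' x hxP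
  have hr : z⁻¹ * y ∈ Rg := hPM _ (mul_mem (inv_mem hzP) hyP) (QuotientGroup.eq.mp hzy)
  have hzc : ∀ c ∈ P, z * c = c * z := by
    intro c hcP
    have h1 := Subgroup.mem_centralizer_iff.mp (hPC hcP) _ hr
    have h2 := hyc c hcP
    have e : z = y * (z⁻¹ * y)⁻¹ := by group
    rw [e, mul_assoc, ← (Commute.inv_left (h1 : Commute (z⁻¹ * y) c)).symm.eq, ← mul_assoc, h2, mul_assoc]
  have hb' := hzc _ (hn' b hbP)
  calc x * b = n' * (z * (n'⁻¹ * b * n')) * n'⁻¹ := by simp [hz, mul_assoc]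
    _ = n' * (n'⁻¹ * b * n' * z) * n'⁻¹ := by rw [hb']
    _ = b * x := by simp [hz, mul_assoc]

end Cfsg.Agent.S4354
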