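import Cfsg.Statements.S4314
import Cfsg.Agent.Lib.Fusion.Abelian
import Cfsg.Agent.Lib.Fusion.Basic
import Cfsg.Agent.Lib.PGroup.Elements
import Cfsg.Agent.Lib.Coprime.Conjugacy
import Cfsg.Agent.S4354
import Mathlib.GroupTheory.IndexNormal

set_option linter.style.haveILetI false

set_option autoImplicit false
open Cfsg

namespace Cfsg.Agent.S4314

open Subgroup
open scoped commutatorElement Pointwise

variable {G : Type*} [Group G] [Finite G]

/-- The centraliser of an element. -/
abbrev cen (x : G) : Subgroup G := centralizer ({x} : Set G)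

omit [Finite G] in
theorem mem_cen {x y : G} : y ∈ cen x ↔ x * y = y * x := by
  rw [mem_centralizer_iff]
  exact ⟨fun h => h x rfl, fun h z hz => by rw [Set.mem_singleton_iff.mp hz]; exact h⟩

omit [Finite G] in
theorem mem_center_of_index {x : G} (h : (cen x).index = 1) : x ∈ center G := by
  rw [index_eq_one] at h
  exact mem_center_iff.mpr fun g => (mem_cen.mp (h ▸ mem_top g : g ∈ cen x)).symm

omit [Finite G] in
theorem center_le_cen (x : G) : center G ≤ cen x := fun z hz => mem_cen.mpr (mem_center_iff.mp hz x)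

/-- An element whose class size is prime to `r` centralizes a conjugate of a Sylow `r`-subgroup. -/
theorem exists_conj_mem_centralizer {r : ℕ} [Fact r.Prime] (R : Sylow r G) {x : G}
    (h : ¬ r ∣ (cen x).index) : ∃ g : G, g * x * g⁻¹ ∈ centralizer ((R : Subgroup G) : Set G) := by
  obtain ⟨R', hR'⟩ := Cfsg.Agent.S4354.exists_sylow_le h
  obtain ⟨g, hg⟩ := MulAction.exists_smul_eq G R' R
  refine ⟨g, mem_centralizer_iff.mpr fun y hy => ?_⟩
  rw [← hg, Sylow.coe_subgroup_smul] at hy
  obtain ⟨z, hz, rfl⟩ := hy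
  have hzx := mem_cen.mp (hR' hz)
  show (g * z * g⁻¹) * (g * x * g⁻¹) = (g * x * g⁻¹) * (g * z * g⁻¹)
  calc (g * z * g⁻¹) * (g * x * g⁻¹) = g * (z * x) * g⁻¹ := by group
    _ = _ := by rw [← hzx]; group

theorem sylow_le_center {r : ℕ} [Fact r.Prime] (R : Sylow r G) (h : ∀ x : G, ¬ r ∣ (cen x).index) :
    (R : Subgroup G) ≤ center G := by
  have htop := Cfsg.Lib.PGroup.eq_top_of_forall_exists_conj_mem
    (H := centralizer ((R : Subgroup G) : Set G)) fun x => exists_conj_mem_centralizer R (h x)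
  exact fun y hy => mem_center_iff.mpr fun g =>
    (mem_centralizer_iff.mp (htop ▸ mem_top g : g ∈ centralizer ((R : Subgroup G) : Set G)) y hy).symm

/-- The conjugates of `C` together with a proper subgroup `D` do not fill `G`, if `C < N` where `N` normalizes `C`. -/
theorem eq_normalizer_of_cover {C D N : Subgroup G} (hD : D ≠ ⊤) (hCN : C ≤ N)
    (hN : N ≤ normalizer (C : Set G)) (h : ∀ g : G, g ∈ D ∨ ∃ t : G, t * g * t⁻¹ ∈ C) : N = C := by
  classical
  refine le_antisymm ?_ hCN
  by_contra hlt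
  let f : D ⊕ ((G ⧸ N) × {k : C // k ≠ 1}) → G := fun o =>
    Sum.elim (fun (d : D) => (d : G))
      (fun (q : (G ⧸ N) × {k : C // k ≠ 1}) => q.1.out * ((q.2 : C) : G) * q.1.out⁻¹) o
  have hf : Function.Surjective f := by
    intro g
    by_cases hg : g ∈ D
    · exact ⟨Sum.inl ⟨g, hg⟩, rfl⟩
    obtain ⟨t, ht⟩ := (h g).resolve_left hg
    obtain ⟨k, hk⟩ : ∃ k : N, ((t⁻¹ : G) : G ⧸ N).out = t⁻¹ * k :=
      ⟨⟨_, QuotientGroup.eq.mp (QuotientGroup.out_eq' ((t⁻¹ : G) : G ⧸ N)).symm⟩, by simp⟩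
    have hmem : (k : G)⁻¹ * (t * g * t⁻¹) * k ∈ C := by
      have := (mem_normalizer_iff.mp (inv_mem (hN k.2)) (t * g * t⁻¹)).mp ht
      rwa [inv_inv] at this
    refine ⟨Sum.inr (((t⁻¹ : G) : G ⧸ N), ⟨⟨_, hmem⟩, ?_⟩), ?_⟩
    · intro h1
      simp only [Subtype.ext_iff, Subgroup.coe_one] at h1
      apply hg
      have h2 := congrArg (fun z => t⁻¹ * ((k : G) * z * (k : G)⁻¹) * t) h1
      have : g = 1 := by simpa [mul_assoc] using h2
      rw [this]; exact one_mem _
    · simp [f, hk, mul_assoc]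
  have hle := Nat.card_le_card_of_surjective f hf
  have := Fintype.ofFinite C
  rw [Nat.card_sum, Nat.card_prod, ← Subgroup.index_eq_card,
    Nat.card_eq_fintype_card (α := {k : C // k ≠ 1}), Fintype.card_subtype_compl,
    Fintype.card_subtype_eq, ← Nat.card_eq_fintype_card, Nat.mul_sub_one] at hle
  have hDc : 2 * Nat.card D ≤ Nat.card G := by
    rw [← D.index_mul_card]
    exact Nat.mul_le_mul_right _ (one_lt_index_of_ne_top hD)
  have hCc : 2 * Nat.card C ≤ Nat.card N := by
    have hm : Nat.card C * C.relIndex N = Nat.card N := by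
      rw [← relIndex_bot_left, ← relIndex_bot_left]
      exact relIndex_mul_relIndex ⊥ C N bot_le hCN
    rw [← hm, mul_comm 2]
    refine Nat.mul_le_mul_left _ ?_
    have h1 : C.relIndex N ≠ 1 := fun e => hlt (relIndex_eq_one.mp e)
    have h0 : C.relIndex N ≠ 0 := by
      intro e
      rw [e, mul_zero] at hm
      exact (Nat.card_pos (α := N)).ne hm
    omega
  have h3 : 2 * (N.index * Nat.card C) ≤ Nat.card G := by
    rw [← N.index_mul_card, ← mul_assoc, mul_comm 2, mul_assoc]
    exact Nat.mul_le_mul_left _ hCc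
  have hpos : 0 < N.index := Nat.pos_of_ne_zero index_ne_zero_of_finite
  have : N.index ≤ N.index * Nat.card C := Nat.le_mul_of_pos_right _ Nat.card_pos
  omega

/-- Commuting parts of coprime order. -/
theorem cen_mul_le {z y : G} (hc : Commute z y) (hco : (orderOf z).Coprime (orderOf y)) :
    cen (z * y) ≤ cen z ⊓ cen y := by
  intro u hu
  have key : ∀ {a b : G}, Commute a b → (orderOf a).Coprime (orderOf b) → Commute (a * b) u → Commute a u := by
    intro a b hab habc h
    obtain ⟨m, hm⟩ := exists_pow_eq_self_of_coprime (x := a) (n := orderOf b) habc.symm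
    have h1 : ((a * b) ^ orderOf b) ^ m = a := by
      rw [hab.mul_pow, pow_orderOf_eq_one, mul_one, hm]
    rw [← h1]
    exact (h.pow_left _).pow_left _
  exact ⟨mem_cen.mpr (key hc hco (mem_cen.mp hu)),
    mem_cen.mpr (key hc.symm hco.symm (hc.eq ▸ mem_cen.mp hu))⟩

theorem coprime_orderOf {L Q : Subgroup G} (h : (Nat.card L).Coprime (Nat.card Q)) {a b : G}
    (ha : a ∈ L) (hb : b ∈ Q) : (orderOf a).Coprime (orderOf b) :=
  (h.coprime_dvd_left (orderOf_dvd_natCard L ha)).coprime_dvd_right (orderOf_dvd_natCard Q hb)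

/-- Let `G` be a finite group every conjugacy class of which has size 1 or a prime. Then either `G` is nilpotent of class at most 2, or `G/Z(G)` is a non-abelian group of order `pq` for distinct primes `p, q` (a Frobenius group of order `pq`). -/
theorem result {G : Type*} [Group G] [Finite G]
    (h : ∀ x : G, (Subgroup.centralizer ({x} : Set G)).index = 1 ∨ ((Subgroup.centralizer ({x} : Set G)).index).Prime) :
    Subgroup.upperCentralSeries G 2 = ⊤ ∨
      ∃ p q : ℕ, p.Prime ∧ q.Prime ∧ p ≠ q ∧ Nat.card (G ⧸ Subgroup.center G) = p * q ∧ ¬ IsMulCommutative (G ⧸ Subgroup.center G) := by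
  classical
  have hidx : ∀ x : G, x ∉ center G → ((cen x).index).Prime := fun x hx =>
    (h x).resolve_left fun h1 => hx (mem_center_of_index h1)
  -- the quotient by the centre
  set Z := center G with hZdef
  set π := QuotientGroup.mk' Z with hπdef
  have hπs : Function.Surjective π := QuotientGroup.mk'_surjective _
  have hmapidx : ∀ x : G, ((cen x).map π).index = (cen x).index := fun x =>
    index_map_eq _ hπs (by rw [hπdef, QuotientGroup.ker_mk']; exact center_le_cen x)
  have hprimes : ∀ r : ℕ, r.Prime → r ∣ Z.index → ∃ x : G, (cen x).index = r := by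
    intro r hr hd
    by_contra! hno
    haveI : Fact r.Prime := ⟨hr⟩
    obtain ⟨R⟩ : Nonempty (Sylow r G) := inferInstance
    have hRZ : (R : Subgroup G) ≤ Z := sylow_le_center R fun x hd' => by
      rcases h x with h1 | h1
      · rw [h1] at hd'; exact hr.one_lt.ne' (Nat.dvd_one.mp hd')
      · exact hno x ((Nat.prime_dvd_prime_iff_eq hr h1).mp hd').symm
    exact R.not_dvd_index (hd.trans (index_dvd_of_le hRZ))
  have hcenidx : ∀ x : G, (cen x).index ∣ Z.index := fun x => index_dvd_of_le (center_le_cen x)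
  have hnormal_of_minFac : ∀ x : G, (cen x).index = Z.index.minFac → (cen x).Normal := by
    intro x hx
    have hn : ((cen x).map π).Normal := normal_of_index_eq_minFac_card (by
      rw [hmapidx, hx, Subgroup.index_eq_card])
    have heq : cen x = ((cen x).map π).comap π := by
      rw [comap_map_eq, hπdef, QuotientGroup.ker_mk', sup_eq_left.mpr (center_le_cen x)]
    rw [heq]; exact hn.comap π
  by_cases hone : ∀ x y : G, x ∉ Z → y ∉ Z → (cen x).index = (cen y).index
  · -- one prime: class two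
    left
    have hcomm : commutator G ≤ Z := by
      rw [commutator_def]
      refine commutator_le.mpr fun g _ k _ => mem_center_iff.mpr fun w => ?_
      by_cases hw : w ∈ Z
      · exact (mem_center_iff.mp hw _).symm
      have hwp := hidx w hw
      have hmin : (cen w).index = Z.index.minFac := by
        have h1 : Z.index ≠ 1 := fun e => hw ((index_eq_one.mp e).symm ▸ mem_top w)
        obtain ⟨x, hx⟩ := hprimes _ (Nat.minFac_prime h1) (Nat.minFac_dvd _)
        have hxZ : x ∉ Z := fun hx' => (Nat.minFac_prime h1).one_lt.ne' (by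
          rw [← hx, index_eq_one, eq_top_iff]
          exact fun g _ => mem_cen.mpr (mem_center_iff.mp hx' g).symm)
        rw [hone w x hw hxZ, hx]
      haveI := hnormal_of_minFac w hmin
      haveI : Fact (cen w).index.Prime := ⟨hwp⟩
      haveI : IsCyclic (G ⧸ cen w) := isCyclic_of_prime_card (p := (cen w).index) rfl
      have hmem : ⁅g, k⁆ ∈ cen w := by
        rw [← QuotientGroup.eq_one_iff, ← QuotientGroup.mk'_apply, map_commutatorElement,
          commutatorElement_eq_one_iff_mul_comm]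
        exact (IsCyclic.isMulCommutative.is_comm).comm _ _
      exact mem_cen.mp hmem
    rw [eq_top_iff]
    intro g _
    rw [Subgroup.mem_upperCentralSeries_succ_iff]
    intro k
    rw [Subgroup.upperCentralSeries_one]
    exact hcomm (commutator_def G ▸ commutator_mem_commutator (mem_top g) (mem_top k))
  right
  simp only [not_forall] at hone
  obtain ⟨x₀, y₀, hx₀, hy₀, hne⟩ := hone
  have hZ1 : Z.index ≠ 1 := fun e => hx₀ ((index_eq_one.mp e).symm ▸ mem_top x₀)
  set q := Z.index.minFac with hqdef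
  have hq : q.Prime := Nat.minFac_prime hZ1
  haveI : Fact q.Prime := ⟨hq⟩
  set L := pResidual q G with hLdef
  obtain ⟨Q⟩ : Nonempty (Sylow q G) := inferInstance
  have hLcen : ∀ y, (cen y).index = q → L ≤ cen y := by
    intro y hy
    haveI := hnormal_of_minFac y hy
    have h1 := Cfsg.Lib.Fusion.pResidual_le_ker (p := q) (G := G)
      (IsPGroup.of_card (n := 1) (by rw [pow_one, ← hy]; rfl) : IsPGroup q (G ⧸ cen y))
      (QuotientGroup.mk' (cen y))
    rwa [QuotientGroup.ker_mk'] at h1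
  -- noncentral elements: index `q` and centralizing `L`, or centralizing a Sylow `q`-subgroup
  have hdich : ∀ x : G, x ∈ centralizer (L : Set G) ∨
      ((cen x).index ≠ q ∧ ∃ g : G, g * x * g⁻¹ ∈ centralizer ((Q : Subgroup G) : Set G)) := by
    intro x
    by_cases hx : (cen x).index = q
    · exact Or.inl fun l hl => (mem_cen.mp (hLcen x hx hl)).symm
    refine Or.inr ⟨hx, exists_conj_mem_centralizer Q fun hd => ?_⟩
    rcases h x with h1 | h1
    · rw [h1] at hd; exact hq.one_lt.ne' (Nat.dvd_one.mp hd)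
    · exact hx ((Nat.prime_dvd_prime_iff_eq hq h1).mp hd).symm
  have hD : centralizer (L : Set G) ≠ ⊤ := by
    intro htop
    have hone' : ∀ x : G, x ∉ Z → (cen x).index = q := by
      intro x hx
      have hpg : IsPGroup q (G ⧸ Z) :=
        (Cfsg.Lib.Fusion.isPGroup_quotient_pResidual (p := q) (G := G)).of_surjective
          (QuotientGroup.map L Z (MonoidHom.id G) fun l hl => mem_center_iff.mpr fun g =>
            (mem_centralizer_iff.mp (htop ▸ mem_top g : g ∈ centralizer (L : Set G)) l hl).symm)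
          fun y => by obtain ⟨g, rfl⟩ := QuotientGroup.mk_surjective y; exact ⟨g, rfl⟩
      obtain ⟨j, hj⟩ := IsPGroup.iff_card.mp hpg
      have hdq := hcenidx x
      rw [Subgroup.index_eq_card Z, hj] at hdq
      exact (Nat.prime_dvd_prime_iff_eq (hidx x hx) hq).mp ((hidx x hx).dvd_of_dvd_pow hdq)
    exact hne ((hone' x₀ hx₀).trans (hone' y₀ hy₀).symm)
  have hQcomm : ∀ a ∈ (Q : Subgroup G), ∀ b ∈ (Q : Subgroup G), a * b = b * a ∧
      normalizer ((Q : Subgroup G) : Set G) ≤ centralizer ((Q : Subgroup G) : Set G) := by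
    have hNC : normalizer ((Q : Subgroup G) : Set G) = centralizer ((Q : Subgroup G) : Set G) := by
      refine eq_normalizer_of_cover hD (centralizer_le_normalizer _) ?_
        fun x => (hdich x).imp_right fun h => h.2
      intro n hn
      rw [mem_normalizer_iff_map_conj_eq]
      refine eq_of_le_of_card_ge ?_ (card_map_of_injective (MulAut.conj n).injective).ge
      rintro _ ⟨c, hc, rfl⟩
      refine mem_centralizer_iff.mpr fun y hy => ?_
      have hy' : n⁻¹ * y * n ∈ (Q : Subgroup G) := by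
        have := (mem_normalizer_iff.mp (inv_mem hn) y).mp hy
        rwa [inv_inv] at this
      have := mem_centralizer_iff.mp hc _ hy'
      show y * (n * c * n⁻¹) = n * c * n⁻¹ * y
      calc y * (n * c * n⁻¹) = n * ((n⁻¹ * y * n) * c) * n⁻¹ := by group
        _ = n * c * n⁻¹ * y := by rw [this]; group
    intro a ha b hb
    exact ⟨mem_centralizer_iff.mp ((hNC ▸ le_normalizer) hb) a ha, hNC.le⟩
  have hQab : ∀ a ∈ (Q : Subgroup G), ∀ b ∈ (Q : Subgroup G), a * b = b * a :=
    fun a ha b hb => (hQcomm a ha b hb).1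
  have hcompl := Cfsg.Lib.Fusion.hasNormalPComplement_of_normalizer_le_centralizer Q
    (hQcomm 1 (one_mem _) 1 (one_mem _)).2
  have hLcop : (Nat.card L).Coprime q := Cfsg.Lib.Fusion.hasNormalPComplement_iff_coprime.mp hcompl
  have hLQ : (Nat.card L).Coprime (Nat.card (Q : Subgroup G)) := by
    obtain ⟨j, hj⟩ := IsPGroup.iff_card.mp Q.2
    rw [hj]; exact hLcop.pow_right j
  have hdec : ∀ g : G, ∃ s ∈ (Q : Subgroup G), ∃ l ∈ L, g = s * l :=
    fun g => Cfsg.Lib.Fusion.exists_mul_of_sylow Q g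
  have hdisj : ∀ a, a ∈ L → a ∈ (Q : Subgroup G) → a = 1 := fun a ha hb =>
    mem_bot.mp ((Cfsg.Lib.Coprime.disjoint_of_coprime_card hLQ).eq_bot ▸ mem_inf.mpr ⟨ha, hb⟩)
  set ZL := L ⊓ centralizer (L : Set G) with hZL
  set CQ := L ⊓ centralizer ((Q : Subgroup G) : Set G) with hCQ
  haveI hLn : L.Normal := inferInstance
  haveI hZLn : (ZL.subgroupOf L).Normal := ⟨fun n hn g => by
    rw [mem_subgroupOf] at hn ⊢
    rw [Subgroup.coe_mul, Subgroup.coe_mul, Subgroup.coe_inv,
      mem_centralizer_iff.mp hn.2 g g.2, mul_inv_cancel_right]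
    exact hn⟩
  have hW : ∀ l ∈ L, ∃ z ∈ ZL, ∃ c ∈ CQ, l = z * c := by
    have htop : (ZL.subgroupOf L ⊔ CQ.subgroupOf L) = ⊤ := by
      refine Cfsg.Lib.PGroup.eq_top_of_forall_exists_conj_mem fun l => ?_
      rcases hdich (l : G) with hl | ⟨-, g, hg⟩
      · refine ⟨1, ?_⟩
        rw [one_mul, inv_one, mul_one]
        exact mem_sup_left (show l ∈ ZL.subgroupOf L from ⟨l.2, hl⟩)
      obtain ⟨s, hs, m, hm, rfl⟩ := hdec g
      refine ⟨⟨m, hm⟩, mem_sup_right ?_⟩
      refine mem_subgroupOf.mpr ⟨L.mul_mem (L.mul_mem hm l.2) (L.inv_mem hm), mem_centralizer_iff.mpr fun y hy => ?_⟩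
      have h1 := mem_centralizer_iff.mp hg y hy
      have hys : s⁻¹ * y * s = y := by
        rw [mul_assoc, hQab y hy s hs, inv_mul_cancel_left]
      show y * (m * l * m⁻¹) = m * l * m⁻¹ * y
      calc y * (m * l * m⁻¹) = (s⁻¹ * y * s) * (m * l * m⁻¹) := by rw [hys]
        _ = s⁻¹ * (y * (s * m * l * (s * m)⁻¹)) * s := by group
        _ = s⁻¹ * ((s * m * l * (s * m)⁻¹) * y) * s := by rw [h1]
        _ = (m * l * m⁻¹) * (s⁻¹ * y * s) := by group
        _ = _ := by rw [hys]
    intro l hl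
    obtain ⟨z, hz, c, hc, he⟩ := mem_sup_of_normal_left.mp (htop ▸ mem_top (⟨l, hl⟩ : L))
    exact ⟨z, hz, c, hc, (congrArg Subtype.val he).symm⟩
  have hpq : ∀ w : G, w ∉ Z → ∀ a b : ℕ, a.Prime → b.Prime → a ∣ (cen w).index → b ∣ (cen w).index → a = b :=
    fun w hw a b ha hb hda hdb => ((Nat.prime_dvd_prime_iff_eq ha (hidx w hw)).mp hda).trans
      ((Nat.prime_dvd_prime_iff_eq hb (hidx w hw)).mp hdb).symm
  have htop' : ∀ {x : G}, (∀ l ∈ L, l * x = x * l) → (∀ s ∈ (Q : Subgroup G), s * x = x * s) → x ∈ Z := by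
    intro x h1 h2
    refine mem_center_iff.mpr fun g => ?_
    obtain ⟨s, hs, l, hl, rfl⟩ := hdec g
    rw [mul_assoc, h1 l hl, ← mul_assoc, h2 s hs, mul_assoc]
  have hcne : ∀ {w v : G}, cen w ≤ cen v → v ∉ Z → w ∉ Z := fun hle hv hw => hv (mem_center_of_index
    (index_eq_one.mpr (top_le_iff.mp ((eq_top_iff.mp (eq_top_iff.mpr
      fun g _ => mem_cen.mpr (mem_center_iff.mp hw g).symm)).trans hle))))
  -- `L` is abelian
  have hLab : L ≤ centralizer (L : Set G) := by
    by_contra hnot
    obtain ⟨l₀, hl₀, hl₀'⟩ := SetLike.not_le_iff_exists.mp hnot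
    obtain ⟨z₁, hz₁, c, hc, he⟩ := hW l₀ hl₀
    have hcD : c ∉ centralizer (L : Set G) := fun h' => hl₀' (he ▸ mul_mem hz₁.2 h')
    have hcZ : c ∉ Z := fun h' => hcD (mem_centralizer_iff.mpr fun l _ => mem_center_iff.mp h' l)
    have hcq : (cen c).index ≠ q := fun e => hcD fun l hl => (mem_cen.mp (hLcen c e hl)).symm
    have hZLQ : ∀ z ∈ ZL, ∀ s ∈ (Q : Subgroup G), s * z = z * s := by
      intro z hz
      by_contra hzQ
      have hzZ : z ∉ Z := fun h' => hzQ fun s _ => mem_center_iff.mp h' s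
      have hle : cen (c * z) ≤ cen c ⊓ cen z := by
        intro u hu
        obtain ⟨s, hs, l, hl, rfl⟩ := hdec u
        obtain ⟨z₀, hz₀, c₀, hc₀, rfl⟩ := hW l hl
        have hcz := mem_cen.mp hu
        have hzl : ∀ a ∈ L, a * z = z * a := fun a ha => mem_centralizer_iff.mp hz.2 a ha
        have hz₀c : z₀ * c = c * z₀ := (mem_centralizer_iff.mp hz₀.2 c hc.1).symm
        set e := c⁻¹ * (c₀ * c * c₀⁻¹) with he'
        have heQ : ∀ s' ∈ (Q : Subgroup G), s' * e = e * s' := fun s' hs' => by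
          refine mem_centralizer_iff.mp ?_ s' hs'
          exact mul_mem (inv_mem hc.2) (mul_mem (mul_mem hc₀.2 hc.2) (inv_mem hc₀.2))
        have heL : e ∈ L := mul_mem (inv_mem hc.1) (mul_mem (mul_mem hc₀.1 hc.1) (inv_mem hc₀.1))
        have hconj : s * z * s⁻¹ = e⁻¹ * z := by
          have hl : (z₀ * c₀) * (c * z) * (z₀ * c₀)⁻¹ = c₀ * c * c₀⁻¹ * z := by
            have h1 : z₀ * (c₀ * c * c₀⁻¹) = (c₀ * c * c₀⁻¹) * z₀ := (mem_centralizer_iff.mp hz₀.2 _
              (mul_mem (mul_mem hc₀.1 hc.1) (inv_mem hc₀.1))).symm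
            have h2 : z₀ * z = z * z₀ := hzl z₀ hz₀.1
            calc (z₀ * c₀) * (c * z) * (z₀ * c₀)⁻¹ = z₀ * c₀ * c * (z * c₀⁻¹) * z₀⁻¹ := by group
              _ = z₀ * c₀ * c * (c₀⁻¹ * z) * z₀⁻¹ := by rw [← hzl c₀⁻¹ (inv_mem hc₀.1)]
              _ = (z₀ * (c₀ * c * c₀⁻¹)) * z * z₀⁻¹ := by group
              _ = (c₀ * c * c₀⁻¹) * (z₀ * z) * z₀⁻¹ := by rw [h1]; group
              _ = _ := by rw [h2]; group
          have h3 : (s * (z₀ * c₀)) * (c * z) * (s * (z₀ * c₀))⁻¹ = c * z := by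
            rw [← hcz, mul_inv_cancel_right]
          have hsc : s * (c₀ * c * c₀⁻¹) * s⁻¹ = c₀ * c * c₀⁻¹ := by
            rw [mem_centralizer_iff.mp (mul_mem (mul_mem hc₀.2 hc.2) (inv_mem hc₀.2)) s hs, mul_inv_cancel_right]
          have h4 : (c₀ * c * c₀⁻¹) * (s * z * s⁻¹) = c * z := by
            calc (c₀ * c * c₀⁻¹) * (s * z * s⁻¹) = (s * (c₀ * c * c₀⁻¹) * s⁻¹) * (s * z * s⁻¹) := by rw [hsc]
              _ = s * ((z₀ * c₀) * (c * z) * (z₀ * c₀)⁻¹) * s⁻¹ := by rw [hl]; group
              _ = (s * (z₀ * c₀)) * (c * z) * (s * (z₀ * c₀))⁻¹ := by group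
              _ = c * z := h3
          calc s * z * s⁻¹ = (c₀ * c * c₀⁻¹)⁻¹ * ((c₀ * c * c₀⁻¹) * (s * z * s⁻¹)) := by group
            _ = e⁻¹ * z := by rw [h4, he']; group
        have hiter : ∀ n : ℕ, s ^ n * z * (s ^ n)⁻¹ = (e⁻¹) ^ n * z := by
          intro n
          induction n with
          | zero => simp
          | succ n ih =>
            have hse : s * e⁻¹ ^ n = e⁻¹ ^ n * s := (Commute.inv_right (heQ s hs : Commute s e)).pow_right n
            calc s ^ (n + 1) * z * (s ^ (n + 1))⁻¹ = s * (s ^ n * z * (s ^ n)⁻¹) * s⁻¹ := by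
                  rw [pow_succ']; group
              _ = s * e⁻¹ ^ n * z * s⁻¹ := by rw [ih]; group
              _ = e⁻¹ ^ n * (s * z * s⁻¹) := by rw [hse]; group
              _ = _ := by rw [hconj, ← mul_assoc, ← pow_succ]
        have he1 : e = 1 := by
          have h1 := hiter (orderOf s)
          rw [pow_orderOf_eq_one, one_mul, inv_one, mul_one, right_eq_mul, inv_pow, inv_eq_one] at h1
          exact orderOf_eq_one_iff.mp (Nat.eq_one_of_dvd_coprimes (coprime_orderOf hLQ heL hs)
            dvd_rfl (orderOf_dvd_of_pow_eq_one h1))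
        have hcc₀ : c₀ * c = c * c₀ := by
          have h1 : c₀ * c * c₀⁻¹ = c := (inv_mul_eq_one.mp (he' ▸ he1)).symm
          exact mul_inv_eq_iff_eq_mul.mp h1
        rw [he1, inv_one, one_mul] at hconj
        have hzs : s * z = z * s := mul_inv_eq_iff_eq_mul.mp hconj
        refine ⟨mem_cen.mpr ?_, mem_cen.mpr ?_⟩
        · have hsc : s * c = c * s := mem_centralizer_iff.mp hc.2 s hs
          calc c * (s * (z₀ * c₀)) = (c * s) * z₀ * c₀ := by group
            _ = s * (c * z₀) * c₀ := by rw [← hsc]; group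
            _ = s * z₀ * (c * c₀) := by rw [← hz₀c]; group
            _ = _ := by rw [← hcc₀]; group
        · have hzl' : z₀ * c₀ * z = z * (z₀ * c₀) := hzl _ (mul_mem hz₀.1 hc₀.1)
          calc z * (s * (z₀ * c₀)) = s * (z * (z₀ * c₀)) := by rw [← mul_assoc, ← hzs]; group
            _ = _ := by rw [← hzl']; group
      have hd1 : (cen c).index ∣ (cen (c * z)).index := index_dvd_of_le (hle.trans inf_le_left)
      have hzq : (cen z).index = q := by
        rcases hdich z with _ | h'
        · by_contra hzq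
          have hLle : L ≤ cen z := fun l hl => mem_cen.mpr (mem_centralizer_iff.mp hz.2 l hl).symm
          obtain ⟨j, hj⟩ := IsPGroup.iff_card.mp (Cfsg.Lib.Fusion.isPGroup_quotient_pResidual (p := q) (G := G))
          have hd' := index_dvd_of_le hLle
          rw [Subgroup.index_eq_card L, hj] at hd'
          exact hzq ((Nat.prime_dvd_prime_iff_eq (hidx z hzZ) hq).mp ((hidx z hzZ).dvd_of_dvd_pow hd'))
        · exfalso
          have hLle : L ≤ cen z := fun l hl => mem_cen.mpr (mem_centralizer_iff.mp hz.2 l hl).symm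
          obtain ⟨j, hj⟩ := IsPGroup.iff_card.mp (Cfsg.Lib.Fusion.isPGroup_quotient_pResidual (p := q) (G := G))
          have hd' := index_dvd_of_le hLle
          rw [Subgroup.index_eq_card L, hj] at hd'
          exact h'.1 ((Nat.prime_dvd_prime_iff_eq (hidx z hzZ) hq).mp ((hidx z hzZ).dvd_of_dvd_pow hd'))
      have hd2 : q ∣ (cen (c * z)).index := hzq ▸ index_dvd_of_le (hle.trans inf_le_right)
      exact hcq (hpq (c * z) (hcne (hle.trans inf_le_left) hcZ) _ _ (hidx c hcZ) hq hd1 hd2)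
    -- then `Q` is central
    have hQZ : (Q : Subgroup G) ≤ Z := fun s hs => htop' (fun l hl => by
      obtain ⟨z, hz, c', hc', rfl⟩ := hW l hl
      rw [mul_assoc, ← mem_centralizer_iff.mp hc'.2 s hs, ← mul_assoc, ← hZLQ z hz s hs, mul_assoc])
      fun s' hs' => hQab s' hs' s hs
    exact Q.not_dvd_index ((Nat.minFac_dvd _).trans (index_dvd_of_le hQZ))
  have hLcomm : ∀ a ∈ L, ∀ b ∈ L, a * b = b * a := fun a ha b hb => mem_centralizer_iff.mp (hLab hb) a ha
  have hLidx : ∀ x ∈ L, x ∉ Z → (cen x).index = q := by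
    intro x hx hxZ
    obtain ⟨j, hj⟩ := IsPGroup.iff_card.mp (Cfsg.Lib.Fusion.isPGroup_quotient_pResidual (p := q) (G := G))
    have hd' := index_dvd_of_le (show L ≤ cen x from fun l hl => mem_cen.mpr (hLcomm x hx l hl))
    rw [Subgroup.index_eq_card L, hj] at hd'
    exact (Nat.prime_dvd_prime_iff_eq (hidx x hxZ) hq).mp ((hidx x hxZ).dvd_of_dvd_pow hd')
  have hQidx : ∀ y ∈ (Q : Subgroup G), y ∉ Z → (cen y).index ≠ q := fun y hy hyZ he => hyZ (htop'
    (fun l hl => (mem_cen.mp (hLcen y he hl)).symm) fun s hs => hQab s hs y hy)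
  -- disjoint fixed points
  have hfpf : ∀ y ∈ (Q : Subgroup G), y ∉ Z → ∀ z ∈ L, z ∈ cen y → z ∈ Z := by
    intro y hy hyZ z hz hzy
    by_contra hzZ
    have hle := cen_mul_le ((mem_cen.mp hzy).symm : Commute z y) (coprime_orderOf hLQ hz hy)
    exact hQidx y hy hyZ (hpq (z * y) (hcne (hle.trans inf_le_left) hzZ) _ _ (hidx y hyZ) hq
      (index_dvd_of_le (hle.trans inf_le_right))
      (hLidx z hz hzZ ▸ index_dvd_of_le (hle.trans inf_le_left)))
  obtain ⟨y, hy, hyZ⟩ : ∃ y ∈ (Q : Subgroup G), y ∉ Z := by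
    by_contra! hall
    exact Q.not_dvd_index ((Nat.minFac_dvd _).trans (index_dvd_of_le hall))
  obtain ⟨x, hx, hxZ⟩ : ∃ x ∈ L, x ∉ Z := by
    by_contra! hall
    exact hyZ (htop' (fun l hl => (mem_center_iff.mp (hall l hl) y).symm) fun s hs => hQab s hs y hy)
  refine ⟨q, (cen y).index, hq, hidx y hyZ, (hQidx y hy hyZ).symm, ?_, ?_⟩
  · have hinf : cen x ⊓ cen y = Z := by
      refine le_antisymm (fun g hg => ?_) (le_inf (center_le_cen x) (center_le_cen y))
      obtain ⟨s, hs, l, hl, rfl⟩ := hdec g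
      have hly : l ∈ cen y := by
        have := (cen y).mul_mem ((cen y).inv_mem (mem_cen.mpr (hQab y hy s hs))) hg.2
        rwa [inv_mul_cancel_left] at this
      have hlZ := hfpf y hy hyZ l hl hly
      have hsx : x ∈ cen s := by
        have := (cen x).mul_mem hg.1 ((cen x).inv_mem (mem_cen.mpr (hLcomm x hx l hl)))
        rw [mul_inv_cancel_right] at this
        exact mem_cen.mpr (mem_cen.mp this).symm
      have hsZ : s ∈ Z := by
        by_contra hsZ
        exact hxZ (hfpf s hs hsZ x hx hsx)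
      exact mul_mem hsZ hlZ
    have hle : Z.index ≤ q * (cen y).index := by
      rw [← hinf, ← hLidx x hx hxZ]; exact index_inf_le
    have hdvd : q * (cen y).index ∣ Z.index :=
      (Nat.Coprime.mul_dvd_of_dvd_of_dvd ((Nat.coprime_primes hq (hidx y hyZ)).mpr (hQidx y hy hyZ).symm)
        (hLidx x hx hxZ ▸ hcenidx x) (hcenidx y))
    rw [← Subgroup.index_eq_card]
    exact le_antisymm hle (Nat.le_of_dvd (Nat.pos_of_ne_zero index_ne_zero_of_finite) hdvd)
  · intro hcomm
    have hxy : ⁅x, y⁆ ∈ Z := by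
      rw [← QuotientGroup.eq_one_iff, ← QuotientGroup.mk'_apply, map_commutatorElement,
        commutatorElement_eq_one_iff_mul_comm]
      exact hcomm.is_comm.comm _ _
    set e := ⁅x, y⁆ with he
    have heL : e ∈ L := by
      rw [he, commutatorElement_def, mul_assoc, mul_assoc, ← mul_assoc y]
      exact L.mul_mem hx (hLn.conj_mem _ (L.inv_mem hx) y)
    have hpw : ∀ n : ℕ, y ^ n * x * (y ^ n)⁻¹ = (e⁻¹) ^ n * x := by
      intro n
      induction n with
      | zero => simp
      | succ n ih =>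
        have hye : y * e⁻¹ ^ n = e⁻¹ ^ n * y :=
          (Commute.inv_right (mem_center_iff.mp hxy y : Commute y e)).pow_right n
        calc y ^ (n + 1) * x * (y ^ (n + 1))⁻¹ = y * (y ^ n * x * (y ^ n)⁻¹) * y⁻¹ := by rw [pow_succ']; group
          _ = y * e⁻¹ ^ n * x * y⁻¹ := by rw [ih]; group
          _ = e⁻¹ ^ n * (e⁻¹ * x) := by rw [hye, he, commutatorElement_def]; group
          _ = _ := by rw [← mul_assoc, ← pow_succ]
    have h1 := hpw (orderOf y)
    rw [pow_orderOf_eq_one, one_mul, inv_one, mul_one, right_eq_mul, inv_pow, inv_eq_one] at h1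
    have he1 : e = 1 := orderOf_eq_one_iff.mp (Nat.eq_one_of_dvd_coprimes (coprime_orderOf hLQ heL hy)
      dvd_rfl (orderOf_dvd_of_pow_eq_one h1))
    exact hxZ (hfpf y hy hyZ x hx (mem_cen.mpr
      (commutatorElement_eq_one_iff_mul_comm.mp (he ▸ he1)).symm))

end Cfsg.Agent.S4314
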