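import Cfsg.Statements.S4034
import Cfsg.Agent.Lib.Core.PSolvable
import Cfsg.Agent.Lib.Char.Burnside
import Cfsg.Agent.Lib.Coprime.Action
import Cfsg.Agent.S4035

set_option autoImplicit false
open Cfsg

namespace Cfsg.Agent.S4034

open Subgroup

universe u

/-- All classes of `p`-regular elements have `p`-power size. -/
def RegHyp (p : ℕ) (G : Type u) [Group G] : Prop :=
  ∀ x : G, (orderOf x).Coprime p → ∃ k : ℕ, (centralizer ({x} : Set G)).index = p ^ k

/-- An abelian `p`-complement. -/
def AbCompl (p : ℕ) (G : Type u) [Group G] : Prop :=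
  ∃ H : Subgroup G, IsMulCommutative H ∧ (Nat.card H).Coprime p ∧ ∃ k : ℕ, H.index = p ^ k

variable {p : ℕ} [hp : Fact p.Prime] {G : Type u} [Group G] [Finite G]

omit [Finite G] in
theorem exists_pow_of_dvd {a k : ℕ} (h : a ∣ p ^ k) : ∃ m, a = p ^ m :=
  let ⟨m, _, hm⟩ := (Nat.dvd_prime_pow hp.out).mp h
  ⟨m, hm⟩

omit [Finite G] in
theorem eq_one_of_dvd_pow_of_coprime {a b k : ℕ} (h : a ∣ p ^ k) (hb : a ∣ b) (hc : b.Coprime p) : a = 1 :=
  Nat.eq_one_of_dvd_coprimes ((hc.symm.pow_left k)) h hb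

theorem exists_pRegular_lift (N : Subgroup G) [N.Normal] {x : G ⧸ N} (hx : (orderOf x).Coprime p) :
    ∃ y : G, (orderOf y).Coprime p ∧ (y : G ⧸ N) = x := by
  obtain ⟨g, rfl⟩ := QuotientGroup.mk_surjective x
  set k := (orderOf g).factorization p
  refine ⟨(g ^ p ^ k) ^ Nat.gcdA (p ^ k) (orderOf (g : G ⧸ N)), ?_, ?_⟩
  · refine Nat.Coprime.coprime_dvd_left
      (orderOf_dvd_of_mem_zpowers (x := g ^ p ^ k) (zpow_mem (mem_zpowers _) _)) ?_
    have hpe : p ^ k * (orderOf g / p ^ k) = orderOf g := Nat.ordProj_mul_ordCompl_eq_self _ _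
    exact ((Nat.coprime_ordCompl hp.out (orderOf_pos g).ne').symm).coprime_dvd_left
      (orderOf_dvd_of_pow_eq_one (by rw [← pow_mul, hpe, pow_orderOf_eq_one]))
  · have h1 := Nat.gcd_eq_gcd_ab (p ^ k) (orderOf (g : G ⧸ N))
    rw [(hx.symm.pow_left k).gcd_eq_one, Nat.cast_one] at h1
    conv_rhs => rw [← zpow_one (g : G ⧸ N), h1, zpow_add, zpow_mul (g : G ⧸ N) (orderOf (g : G ⧸ N) : ℤ),
      zpow_natCast, pow_orderOf_eq_one, one_zpow, mul_one, zpow_mul, zpow_natCast]
    rw [QuotientGroup.mk_zpow, QuotientGroup.mk_pow]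

theorem regHyp_quotient (h : RegHyp p G) (N : Subgroup G) [N.Normal] : RegHyp p (G ⧸ N) := by
  intro x hx
  obtain ⟨y, hy, rfl⟩ := exists_pRegular_lift N hx
  obtain ⟨k, hk⟩ := h y hy
  have hle : (centralizer ({y} : Set G)).map (QuotientGroup.mk' N) ≤
      centralizer ({(y : G ⧸ N)} : Set (G ⧸ N)) := by
    rintro _ ⟨c, hc, rfl⟩
    rw [mem_centralizer_singleton_iff] at ⊢
    exact congrArg (QuotientGroup.mk' N) (mem_centralizer_singleton_iff.mp hc)
  exact exists_pow_of_dvd (k := k) (hk ▸ (index_dvd_of_le hle).trans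
    (index_map_dvd _ (QuotientGroup.mk'_surjective N)))

theorem relIndex_dvd_index_of_normal_right (C N : Subgroup G) [N.Normal] :
    C.relIndex N ∣ C.index := by
  have h1 : C.relIndex N * Nat.card C = Nat.card ↥(C ⊔ N) := by
    have e1 : Nat.card ↥(C ⊓ N) * C.relIndex N = Nat.card N := by
      rw [← inf_relIndex_right, ← relIndex_bot_left, ← relIndex_bot_left,
        relIndex_mul_relIndex _ _ _ bot_le inf_le_right]
    have e2 : Nat.card ↥(C ⊓ N) * N.relIndex C = Nat.card C := by
      rw [← inf_relIndex_right N C, inf_comm N C, ← relIndex_bot_left, ← relIndex_bot_left,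
        relIndex_mul_relIndex _ _ _ bot_le inf_le_left]
    have e3 : Nat.card N * N.relIndex C = Nat.card ↥(C ⊔ N) := by
      rw [← relIndex_sup_right, ← relIndex_bot_left, ← relIndex_bot_left,
        relIndex_mul_relIndex _ _ _ bot_le le_sup_right]
    rw [← e3, ← e1, ← e2]
    ring
  refine Nat.dvd_of_mul_dvd_mul_right (Nat.card_pos (α := C)) ?_
  rw [h1, C.index_mul_card]
  exact Subgroup.card_subgroup_dvd_card _

theorem regHyp_subgroup (h : RegHyp p G) (N : Subgroup G) [N.Normal] : RegHyp p N := by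
  intro x hx
  obtain ⟨k, hk⟩ := h x (by rwa [Subgroup.orderOf_coe])
  have hC : centralizer ({x} : Set N) = (centralizer ({(x : G)} : Set G)).subgroupOf N := by
    ext c
    simp [mem_subgroupOf, mem_centralizer_singleton_iff, Subtype.ext_iff]
  rw [hC]
  exact exists_pow_of_dvd (k := k) (hk ▸ relIndex_dvd_index_of_normal_right _ N)

theorem abCompl_quotient (h : AbCompl p G) (N : Subgroup G) [N.Normal] : AbCompl p (G ⧸ N) := by
  obtain ⟨H, hab, hcop, k, hk⟩ := h
  have := hab
  exact ⟨H.map (QuotientGroup.mk' N), H.map_isMulCommutative _,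
    hcop.coprime_dvd_left (H.card_map_dvd _),
    exists_pow_of_dvd (k := k) (hk ▸ index_map_dvd _ (QuotientGroup.mk'_surjective N))⟩

theorem abCompl_subgroup (h : AbCompl p G) (N : Subgroup G) [N.Normal] : AbCompl p N := by
  obtain ⟨H, hab, hcop, k, hk⟩ := h
  have := hab
  refine ⟨H.subgroupOf N, inferInstance, hcop.coprime_dvd_left ?_,
    exists_pow_of_dvd (k := k) (hk ▸ relIndex_dvd_index_of_normal_right H N)⟩
  rw [← inf_subgroupOf_right, Nat.card_congr (subgroupOfEquivOfLe inf_le_right).toEquiv]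
  exact card_dvd_of_le inf_le_left

theorem isPSolvable_of_class_prime_pow [IsSimpleGroup G] {g : G} (hg : g ≠ 1) {k : ℕ}
    (hk : (centralizer ({g} : Set G)).index = p ^ k) : Cfsg.IsPSolvable p G := by
  have := Fintype.ofFinite G
  have hpr := Cfsg.Lib.Char.prime_card_of_class_prime_pow hp.out hg
    (by rw [Cfsg.Lib.Char.card_classFinset, hk])
  have : Fact (Nat.card G).Prime := ⟨hpr⟩
  have : IsCyclic G := isCyclic_of_prime_card rfl
  have := Group.isSolvable_of_comm (G := G) fun a b => mul_comm' a b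
  exact Cfsg.Lib.Core.isPSolvable_of_isSolvable

/-- A finite group with either hypothesis is `p`-solvable. -/
theorem isPSolvable_of_hyp (P : ∀ (G : Type u) [Group G], Prop)
    (hq : ∀ (G : Type u) [Group G] [Finite G] (N : Subgroup G) [N.Normal], P G → P (G ⧸ N))
    (hs : ∀ (G : Type u) [Group G] [Finite G] (N : Subgroup G) [N.Normal], P G → P N)
    (hsimple : ∀ (G : Type u) [Group G] [Finite G] [IsSimpleGroup G], P G → Cfsg.IsPSolvable p G) :
    ∀ (n : ℕ) (G : Type u) [Group G] [Finite G], Nat.card G ≤ n → P G → Cfsg.IsPSolvable p G := by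
  intro n
  induction n with
  | zero => intro G _ _ hn _; have := Nat.card_pos (α := G); omega
  | succ n ih =>
    intro G _ _ hn hG
    rcases subsingleton_or_nontrivial G with hs' | hnt
    · exact Cfsg.Lib.Core.HasFactorChain.of_subsingleton (G := G) (Cfsg.Lib.Core.PFactor p)
    obtain ⟨M, hM⟩ := Cfsg.Lib.Core.exists_isMinNormal_univ (G := G)
    have := hM.1
    by_cases htop : M = ⊤
    · have : IsSimpleGroup G := ⟨fun K hK => (hM.2.2 K hK (htop ▸ le_top)).imp id fun h => h.trans htop⟩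
      exact hsimple G hG
    have hMn : Nat.card M ≤ n := by
      have h1 := M.card_le_card_group
      have h2 : Nat.card M ≠ Nat.card G := fun h => htop (Subgroup.eq_top_of_card_eq M h)
      omega
    have hMps : Cfsg.IsPSolvable p M := ih M hMn (hs G M hG)
    have hfac : Cfsg.Lib.Core.PFactor p (Nat.card M) := by
      have : Nontrivial M := (nontrivial_iff_ne_bot M).mpr hM.2.1
      obtain ⟨M', hM'⟩ := Cfsg.Lib.Core.exists_isMinNormal_univ (G := M)
      rcases Cfsg.Lib.Core.minimal_normal_of_isPSolvable hMps hM' with h | h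
      · have hne : (Cfsg.pCore p M).map M.subtype ≠ ⊥ := fun hb => hM'.2.1 (le_bot_iff.mp
          (((map_eq_bot_iff_of_injective _ M.subtype_injective).mp hb) ▸ Cfsg.Lib.Core.le_pCore' hM'.1 h))
        have heq := (hM.2.2 _ inferInstance (map_subtype_le _)).resolve_left hne
        obtain ⟨m, hm⟩ := IsPGroup.iff_card.mp ((Cfsg.Lib.Core.pCore_isPGroup p M).map M.subtype)
        rw [heq] at hm
        exact Or.inl ⟨m, hm⟩
      · have hne : (Cfsg.pPrimeCore p M).map M.subtype ≠ ⊥ := fun hb => hM'.2.1 (le_bot_iff.mp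
          (((map_eq_bot_iff_of_injective _ M.subtype_injective).mp hb) ▸ Cfsg.Lib.Core.le_pPrimeCore' hM'.1 h))
        have heq := (hM.2.2 _ inferInstance (map_subtype_le _)).resolve_left hne
        refine Or.inr ?_
        rw [← heq, card_map_of_injective M.subtype_injective]
        exact Cfsg.Lib.Core.pPrimeCore_coprime p M
    refine Cfsg.Lib.Core.HasFactorChain.extension M hfac (ih (G ⧸ M) ?_ (hq G M hG))
    have := Cfsg.Lib.Core.card_quotient_lt hM.2.1
    omega

theorem isPSolvable_of_regHyp (h : RegHyp p G) : Cfsg.IsPSolvable p G := by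
  refine isPSolvable_of_hyp (fun G _ => RegHyp p G) (fun G _ _ N _ h => regHyp_quotient h N)
    (fun G _ _ N _ h => regHyp_subgroup h N) ?_ _ G le_rfl h
  intro G _ _ _ hG
  by_cases hex : ∃ x : G, x ≠ 1 ∧ (orderOf x).Coprime p
  · obtain ⟨x, hx1, hx⟩ := hex
    obtain ⟨k, hk⟩ := hG x hx
    exact isPSolvable_of_class_prime_pow hx1 hk
  · refine Cfsg.Lib.Core.isPSolvable_of_isPGroup fun g => ⟨(orderOf g).factorization p, ?_⟩
    by_contra hne
    refine hex ⟨_, hne, ?_⟩
    exact ((Nat.coprime_ordCompl hp.out (orderOf_pos g).ne').symm).coprime_dvd_left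
      (orderOf_dvd_of_pow_eq_one (by
        rw [← pow_mul, Nat.ordProj_mul_ordCompl_eq_self, pow_orderOf_eq_one]))

theorem isPSolvable_of_abCompl (h : AbCompl p G) : Cfsg.IsPSolvable p G := by
  refine isPSolvable_of_hyp (fun G _ => AbCompl p G) (fun G _ _ N _ h => abCompl_quotient h N)
    (fun G _ _ N _ h => abCompl_subgroup h N) ?_ _ G le_rfl h
  intro G _ _ _ hG
  obtain ⟨H, hab, hcop, k, hk⟩ := hG
  by_cases hbot : H = ⊥
  · refine Cfsg.Lib.Core.isPSolvable_of_isPGroup (IsPGroup.of_card (n := k) ?_)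
    rw [← hk, hbot, index_bot]
  obtain ⟨x, hx, hx1⟩ := (Subgroup.ne_bot_iff_exists_ne_one.mp hbot |>.elim fun x hx =>
    ⟨(x : G), x.2, fun h => hx (Subtype.ext h)⟩ : ∃ x ∈ H, x ≠ 1)
  have hle : H ≤ centralizer ({x} : Set G) := fun y hy => mem_centralizer_singleton_iff.mpr
    (congrArg Subtype.val (hab.1.comm (⟨y, hy⟩ : H) ⟨x, hx⟩))
  obtain ⟨m, hm⟩ := exists_pow_of_dvd (p := p) (k := k) (hk ▸ index_dvd_of_le hle)
  exact isPSolvable_of_class_prime_pow hx1 hm

theorem sylowFree_quotient_isPGroup {K : Subgroup G} [K.Normal]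
    (h : ∀ x : G, (orderOf x).Coprime p → x ∈ K) : IsPGroup p (G ⧸ K) := by
  intro q
  obtain ⟨g, rfl⟩ := QuotientGroup.mk_surjective q
  refine ⟨(orderOf g).factorization p, ?_⟩
  rw [← QuotientGroup.mk_pow, QuotientGroup.eq_one_iff]
  exact h _ (((Nat.coprime_ordCompl hp.out (orderOf_pos g).ne').symm).coprime_dvd_left
    (orderOf_dvd_of_pow_eq_one (by
      rw [← pow_mul, Nat.ordProj_mul_ordCompl_eq_self, pow_orderOf_eq_one])))

theorem abCompl_of_pCore_eq_bot (h : RegHyp p G) (hps : Cfsg.IsPSolvable p G)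
    (hO : Cfsg.pCore p G = ⊥) : AbCompl p G := by
  set N := Cfsg.pPrimeCore p G with hN
  have hNc : (Nat.card N).Coprime p := Cfsg.Lib.Core.pPrimeCore_coprime p G
  have hcent : ∀ x : G, (orderOf x).Coprime p → x ∈ centralizer (N : Set G) := by
    intro x hx
    obtain ⟨k, hk⟩ := h x hx
    have h1 : (centralizer ({x} : Set G)).relIndex N = 1 :=
      eq_one_of_dvd_pow_of_coprime (k := k) (hk ▸ relIndex_dvd_index_of_normal_right _ N)
        (Subgroup.index_dvd_card _) hNc
    rw [mem_centralizer_iff]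
    exact fun y hy => mem_centralizer_singleton_iff.mp (relIndex_eq_one.mp h1 hy)
  have hreg : ∀ y ∈ N, (orderOf y).Coprime p := fun y hy =>
    hNc.coprime_dvd_left (Subgroup.orderOf_dvd_natCard N hy)
  have hab : IsMulCommutative N := ⟨⟨fun a b => Subtype.ext
    (mem_centralizer_iff.mp (hcent b (hreg b b.2)) a a.2)⟩⟩
  have hKN : centralizer (N : Set G) ≤ N := by
    by_contra hne
    set f := QuotientGroup.mk' N
    have hne' : (centralizer (N : Set G)).map f ≠ ⊥ := by
      rw [ne_eq, Subgroup.map_eq_bot_iff, QuotientGroup.ker_mk']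
      exact hne
    obtain ⟨M, hM, hMC⟩ := Cfsg.Lib.Core.exists_isMinNormal
      (Subgroup.Normal.map inferInstance f (QuotientGroup.mk'_surjective N)) hne'
    have hMn := hM.1
    have hOq : Cfsg.pPrimeCore p (G ⧸ N) = ⊥ := Cfsg.Lib.Core.pPrimeCore_quotient_eq_bot
    rcases Cfsg.Lib.Core.minimal_normal_of_isPSolvable (Cfsg.Lib.Core.isPSolvable_quotient hps N) hM
      with hp' | hcop'
    · set K := M.comap f with hK
      have hKn : K.Normal := hMn.comap f
      have hKC : K ≤ centralizer (N : Set G) := by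
        refine (comap_mono hMC).trans (le_of_eq ?_)
        rw [comap_map_eq, QuotientGroup.ker_mk', sup_eq_left]
        exact le_centralizer N
      let g : K →* M := (f.comp K.subtype).codRestrict M fun x => x.2
      have hnil : Group.IsNilpotent K := by
        have : Group.IsNilpotent M := hp'.isNilpotent
        refine Subgroup.isNilpotent_of_ker_le_center g ?_
        intro z hz
        have hzN : (z : G) ∈ N := (QuotientGroup.eq_one_iff _).mp (congrArg Subtype.val hz)
        exact mem_center_iff.mpr fun w => Subtype.ext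
          (mem_centralizer_iff.mp (hKC w.2) z hzN).symm
      obtain ⟨S⟩ : Nonempty (Sylow p K) := inferInstance
      have hSn : (S : Subgroup K).Normal := inferInstance
      have hSG : ((S : Subgroup K).map K.subtype) ≤ Cfsg.pCore p G :=
        Cfsg.Lib.Core.le_pCore_of_isSubnormal (hSn.isSubnormal.trans' hKn.isSubnormal) (S.2.map _)
      rw [hO, le_bot_iff, map_eq_bot_iff_of_injective _ K.subtype_injective] at hSG
      have hpK : ¬ p ∣ Nat.card K := by
        have := S.not_dvd_index
        rwa [hSG, index_bot] at this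
      have hcopK : (Nat.card K).Coprime p := (hp.out.coprime_iff_not_dvd.mpr hpK).symm
      have hKN' : K ≤ N := Cfsg.Lib.Core.le_pPrimeCore' hKn hcopK
      refine hM.2.1 ?_
      rw [← map_comap_eq_self_of_surjective (QuotientGroup.mk'_surjective N) M, ← hK,
        Subgroup.map_eq_bot_iff, QuotientGroup.ker_mk']
      exact hKN'
    · exact hM.2.1 (le_bot_iff.mp (hOq ▸ Cfsg.Lib.Core.le_pPrimeCore' hMn hcop'))
  obtain ⟨k, hk⟩ := IsPGroup.iff_card.mp
    (sylowFree_quotient_isPGroup (p := p) fun x hx => hKN (hcent x hx))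
  exact ⟨N, hab, hNc, k, hk⟩

theorem abCompl_of_regHyp : ∀ (n : ℕ) (G : Type u) [Group G] [Finite G], Nat.card G ≤ n →
    RegHyp p G → AbCompl p G := by
  intro n
  induction n with
  | zero => intro G _ _ hn _; have := Nat.card_pos (α := G); omega
  | succ n ih =>
    intro G _ _ hn h
    by_cases hO : Cfsg.pCore p G = ⊥
    · exact abCompl_of_pCore_eq_bot h (isPSolvable_of_regHyp h) hO
    set O := Cfsg.pCore p G with hOdef
    obtain ⟨Hb, hab, hcop, k, hk⟩ := ih (G ⧸ O) (by
      have := Cfsg.Lib.Core.card_quotient_lt hO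
      omega) (regHyp_quotient h O)
    set f := QuotientGroup.mk' O
    set K := Hb.comap f with hK
    have hOK : O ≤ K := (QuotientGroup.ker_mk' O).symm.le.trans (f.ker_le_comap Hb)
    have hrel : O.relIndex K = Nat.card Hb := by
      conv_lhs => rw [show O = (⊥ : Subgroup (G ⧸ O)).comap f by
        rw [MonoidHom.comap_bot, QuotientGroup.ker_mk'], relIndex_comap,
        map_comap_eq_self_of_surjective (QuotientGroup.mk'_surjective O), relIndex_bot_left]
    obtain ⟨a, ha⟩ : ∃ a, Nat.card O = p ^ a := IsPGroup.iff_card.mp (Cfsg.Lib.Core.pCore_isPGroup p G)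
    obtain ⟨H, hHK, hHcard, hsup⟩ := Cfsg.Lib.Coprime.exists_complement_of_coprime hOK
      ((le_top : K ≤ ⊤).trans (normalizer_eq_top (H := O)).ge)
      (by rw [hrel, ha]; exact Nat.Coprime.pow_left a hcop.symm)
    rw [hrel] at hHcard
    have hd : Disjoint O H := Cfsg.Lib.Coprime.disjoint_of_coprime_card
      (by rw [hHcard, ha]; exact Nat.Coprime.pow_left a hcop.symm)
    refine ⟨H, ⟨⟨fun x y => ?_⟩⟩, hHcard ▸ hcop, exists_pow_of_dvd (k := a + k) ?_⟩
    · have hxy : f ((x : G) * y) = f (y * x) := by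
        rw [map_mul, map_mul]
        exact congrArg Subtype.val (hab.1.comm (⟨f x, hHK x.2⟩ : Hb) ⟨f y, hHK y.2⟩)
      have hO' : ((x : G) * y)⁻¹ * (y * x) ∈ O := QuotientGroup.eq.mp hxy
      have h1 : ((x : G) * y)⁻¹ * (y * x) = 1 := Subgroup.disjoint_def.mp hd hO'
        (mul_mem (inv_mem (mul_mem x.2 y.2)) (mul_mem y.2 x.2))
      exact Subtype.ext (inv_mul_eq_one.mp h1)
    · refine dvd_of_eq (Nat.eq_of_mul_eq_mul_right (Nat.card_pos (α := H)) ?_)
      rw [index_mul_card, hHcard, pow_add, ← ha, ← hk, mul_assoc, index_mul_card,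
        ← index_eq_card, card_mul_index]

theorem conj_mem_of_abCompl : ∀ (n : ℕ) (G : Type u) [Group G] [Finite G], Nat.card G ≤ n →
    Cfsg.IsPSolvable p G → ∀ H : Subgroup G, (Nat.card H).Coprime p → (∃ k, H.index = p ^ k) →
      ∀ x : G, (orderOf x).Coprime p → ∃ g : G, g * x * g⁻¹ ∈ H := by
  intro n
  induction n with
  | zero => intro G _ _ hn; have := Nat.card_pos (α := G); omega
  | succ n ih =>
    intro G _ _ hn hps H hH hidx x hx
    rcases subsingleton_or_nontrivial G with hs' | hnt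
    · exact ⟨1, by rw [Subsingleton.elim (1 * x * 1⁻¹) 1]; exact one_mem H⟩
    obtain ⟨M, hM⟩ := Cfsg.Lib.Core.exists_isMinNormal_univ (G := G)
    have := hM.1
    obtain ⟨k, hk⟩ := hidx
    set f := QuotientGroup.mk' M
    obtain ⟨gq, hgq⟩ := ih (G ⧸ M) (by
      have := Cfsg.Lib.Core.card_quotient_lt hM.2.1
      omega) (Cfsg.Lib.Core.isPSolvable_quotient hps M) (H.map f)
        (hH.coprime_dvd_left (H.card_map_dvd _))
        (exists_pow_of_dvd (k := k) (hk ▸ index_map_dvd _ (QuotientGroup.mk'_surjective M)))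
        (f x) (hx.coprime_dvd_left (orderOf_map_dvd f x))
    obtain ⟨g, rfl⟩ := QuotientGroup.mk'_surjective M gq
    set y := g * x * g⁻¹ with hy
    have hyK : y ∈ M ⊔ H := by
      rw [← map_mul, ← map_inv, ← map_mul] at hgq
      have hy2 : y ∈ (H.map f).comap f := hgq
      rwa [comap_map_eq, QuotientGroup.ker_mk', sup_comm] at hy2
    have hyo : (orderOf y).Coprime p := by
      rw [hy]
      simpa [MulAut.conj_apply] using ((MulAut.conj g).orderOf_eq x).symm ▸ hx
    rcases Cfsg.Lib.Core.minimal_normal_of_isPSolvable hps hM with hMp | hMc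
    · obtain ⟨a, ha⟩ := IsPGroup.iff_card.mp hMp
      set A := zpowers y with hA
      have hAM : A ≤ normalizer (M : Set G) := (le_top : A ≤ ⊤).trans (normalizer_eq_top (H := M)).ge
      have hAc : (Nat.card A).Coprime (Nat.card M) := by
        rw [hA, Nat.card_zpowers, ha]; exact hyo.pow_right a
      set B := (M ⊔ A) ⊓ H
      have hBd : Disjoint M B := Cfsg.Lib.Coprime.disjoint_of_coprime_card (by
        rw [ha]
        exact Nat.Coprime.pow_left a (hH.coprime_dvd_left (card_dvd_of_le inf_le_right)).symm)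
      have hBsup : M ⊔ B = M ⊔ A := by
        refine le_antisymm (sup_le le_sup_left inf_le_left) (sup_le le_sup_left ?_)
        rw [hA, zpowers_le]
        obtain ⟨m, hm, h', hh', hmh⟩ := mem_sup_of_normal_left.mp hyK
        rw [← hmh]
        refine mul_mem_sup hm ⟨?_, hh'⟩
        have : h' = m⁻¹ * y := by rw [← hmh, inv_mul_cancel_left]
        rw [this]
        exact mul_mem_sup (inv_mem hm) (mem_zpowers y)
      have hBcard : Nat.card B = Nat.card A := by
        have h1 := Cfsg.Lib.Coprime.card_sup_of_disjoint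
          ((le_top : B ≤ ⊤).trans (normalizer_eq_top (H := M)).ge) hBd
        have h2 := Cfsg.Lib.Coprime.card_sup_of_disjoint hAM
          (Cfsg.Lib.Coprime.disjoint_of_coprime_card hAc.symm)
        rw [hBsup, h2] at h1
        exact (Nat.eq_of_mul_eq_mul_left Nat.card_pos h1).symm
      obtain ⟨m, hm, hB⟩ := Cfsg.Lib.Coprime.exists_conj_of_coprime M A B hAM hAc
        (Or.inl inferInstance) inf_le_left hBcard
      refine ⟨m * g, ?_⟩
      have h3 : m * y * m⁻¹ ∈ B := hB ▸ ⟨y, mem_zpowers y, rfl⟩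
      simpa [hy, mul_assoc] using h3.2
    · have hle : M ≤ H := by
        rw [← relIndex_eq_one]
        exact eq_one_of_dvd_pow_of_coprime (k := k) (hk ▸ relIndex_dvd_index_of_normal_right H M)
          (Subgroup.index_dvd_card _) hMc
      rw [sup_eq_right.mpr hle] at hyK
      exact ⟨g, hyK⟩


/-- Let G be a finite group and p a prime. Every conjugacy class of p-regular elements of G (elements of order prime to p) has p-power size if and only if G has an abelian p-complement, i.e. an abelian subgroup of order prime to p and p-power index. -/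
theorem result {G : Type*} [Group G] [Finite G] {p : ℕ} (hp : p.Prime) :
    (∀ x : G, (orderOf x).Coprime p → ∃ k : ℕ, (ConjClasses.mk x).carrier.ncard = p ^ k) ↔
    (∃ H : Subgroup G, IsMulCommutative H ∧ ¬ p ∣ Nat.card H ∧ ∃ k : ℕ, H.index = p ^ k) := by
  have : Fact p.Prime := ⟨hp⟩
  have hclass : ∀ x : G, (ConjClasses.mk x).carrier.ncard = (Subgroup.centralizer ({x} : Set G)).index :=
    S4035.carrier_ncard_eq_index
  constructor
  · intro h
    obtain ⟨H, hab, hcop, hk⟩ := abCompl_of_regHyp _ G le_rfl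
      (fun x hx => (h x hx).imp fun k hk => hclass x ▸ hk)
    exact ⟨H, hab, hp.coprime_iff_not_dvd.mp hcop.symm, hk⟩
  · rintro ⟨H, hab, hndvd, k, hk⟩ x hx
    have hcop : (Nat.card H).Coprime p := (hp.coprime_iff_not_dvd.mpr hndvd).symm
    have hps : Cfsg.IsPSolvable p G := isPSolvable_of_abCompl ⟨H, hab, hcop, k, hk⟩
    obtain ⟨g, hg⟩ := conj_mem_of_abCompl _ G le_rfl hps H hcop ⟨k, hk⟩ x hx
    rw [hclass]
    have hle : H.map (MulAut.conj g⁻¹).toMonoidHom ≤ Subgroup.centralizer ({x} : Set G) := by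
      rintro _ ⟨y, hy, rfl⟩
      rw [mem_centralizer_singleton_iff]
      have h1 : y * (g * x * g⁻¹) = g * x * g⁻¹ * y :=
        congrArg Subtype.val (hab.1.comm (⟨y, hy⟩ : H) ⟨_, hg⟩)
      simpa [mul_assoc] using congrArg (fun z => g⁻¹ * z * g) h1
    refine exists_pow_of_dvd (k := k) (hk ▸ ?_)
    exact (index_dvd_of_le hle).trans (Subgroup.index_map_equiv H (MulAut.conj g⁻¹)).dvd

end Cfsg.Agent.S4034
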