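import Cfsg.Statements.S4033
import Cfsg.Agent.Lib.TwoSizes.Final
import Cfsg.Agent.Lib.TwoSizes.OnePrime

set_option autoImplicit false
open Cfsg

namespace Cfsg.Agent.S4033

/-- Let G be a finite group and p a prime, and suppose the conjugacy classes of p-regular elements of G (elements of order prime to p) have exactly two distinct sizes. Then either G has an abelian p-complement (an abelian subgroup of order prime to p and p-power index), or there are a prime q ≠ p, a Sylow p-subgroup P, a Sylow q-subgroup Q and a central subgroup A such that PQ is a normal subgroup of order #P·#Q and G is the internal direct product PQ × A. -/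
theorem result {G : Type*} [Group G] [Finite G] {p : ℕ} (hp : p.Prime)
    (h2 : Set.ncard (Set.range fun x : {x : G // (orderOf x).Coprime p} => (ConjClasses.mk (x : G)).carrier.ncard) = 2) :
    (∃ H : Subgroup G, IsMulCommutative H ∧ ¬ p ∣ Nat.card H ∧ ∃ k : ℕ, H.index = p ^ k) ∨
    (∃ (q : ℕ) (_ : Fact q.Prime) (P : Sylow p G) (Q : Sylow q G) (A : Subgroup G), q ≠ p ∧
        A ≤ Subgroup.center G ∧ Nat.card ↥((P : Subgroup G) ⊔ (Q : Subgroup G)) = Nat.card P * Nat.card Q ∧
        ((P : Subgroup G) ⊔ (Q : Subgroup G)).Normal ∧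
        ((P : Subgroup G) ⊔ (Q : Subgroup G)) ⊓ A = ⊥ ∧ ((P : Subgroup G) ⊔ (Q : Subgroup G)) ⊔ A = ⊤) := by
  classical
  have : Fact p.Prime := ⟨hp⟩
  set f := fun x : {x : G // (orderOf x).Coprime p} => (ConjClasses.mk (x : G)).carrier.ncard
  have hf : ∀ x, f x = (Subgroup.centralizer ({(x : G)} : Set G)).index :=
    fun x => S4035.carrier_ncard_eq_index _
  have h1 : 1 ∈ Set.range f := ⟨⟨1, by simp⟩, by
    rw [hf]
    exact Subgroup.index_eq_one.mpr (eq_top_iff.mpr fun g _ =>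
      Cfsg.Lib.TwoSizes.mem_cent_iff.mpr (Commute.one_right g))⟩
  obtain ⟨u, v, huv, hr⟩ := Set.ncard_eq_two.mp h2
  obtain ⟨m, hm1, hrange⟩ : ∃ m, m ≠ 1 ∧ Set.range f = {1, m} := by
    rw [hr] at h1
    rcases h1 with rfl | rfl
    · exact ⟨v, huv.symm, hr⟩
    · exact ⟨u, huv, hr.trans (Set.pair_comm _ _)⟩
  have hT : Cfsg.Lib.TwoSizes.TwoReg p m G := by
    constructor
    · intro x hx hxZ
      have hmem : f ⟨x, hx⟩ ∈ Set.range f := ⟨_, rfl⟩
      rw [hrange] at hmem
      rcases hmem with h | h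
      · refine absurd ?_ hxZ
        rw [hf, Subgroup.index_eq_one] at h
        exact Subgroup.mem_center_iff.mpr fun g =>
          (Cfsg.Lib.TwoSizes.mem_cent_iff.mp (h.ge (Subgroup.mem_top g))).eq
      · rw [← hf ⟨x, hx⟩]; exact h
    · have hmem : m ∈ Set.range f := by rw [hrange]; exact Or.inr rfl
      obtain ⟨⟨x, hx⟩, hxm⟩ := hmem
      refine ⟨x, hx, fun hxZ => hm1 ?_⟩
      rw [← hxm, hf]
      exact Subgroup.index_eq_one.mpr (eq_top_iff.mpr fun g _ =>
        Cfsg.Lib.TwoSizes.mem_cent_iff.mpr (Subgroup.mem_center_iff.mp hxZ g))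
  by_cases h3 : Cfsg.Lib.TwoSizes.TwoPrimes p G
  · left
    refine (S4034.result hp).mp fun x hx => ?_
    obtain ⟨k, hk⟩ : ∃ k, m = p ^ k := by
      refine ⟨_, Nat.eq_prime_pow_of_unique_prime_dvd ?_ fun {r} hr hrm => ?_⟩
      · obtain ⟨x, hx, hxZ⟩ := hT.exists_noncentral
        rw [← hT.index_eq x hx hxZ]
        exact Subgroup.index_ne_zero_of_finite
      · by_contra hrp
        have : Fact r.Prime := ⟨hr⟩
        obtain ⟨R⟩ : Nonempty (Sylow r G) := inferInstance
        obtain ⟨a, haR, haZ, har, hRa⟩ :=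
          Cfsg.Lib.TwoSizes.exists_second_center (Cfsg.Lib.TwoSizes.NC_of_dvd hT hrm) R
        exact Cfsg.Lib.TwoSizes.Setup.contradiction
          { h := hT, hp := hp, h2 := h3, hrp := hrp, hrm := hrm, R := R, a := a, haR := haR,
            haZ := haZ, har := har, hRa := hRa }
    have hmem : f ⟨x, hx⟩ ∈ Set.range f := ⟨_, rfl⟩
    rw [hrange] at hmem
    rcases hmem with h | h
    · exact ⟨0, by rw [pow_zero]; exact h⟩
    · exact ⟨k, (show f ⟨x, hx⟩ = m from h).trans hk⟩
  · right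
    obtain ⟨q, hq, hqp, hNC⟩ := hT.exists_NC hp
    have hc : ∀ t : ℕ, t.Prime → t ≠ p → t ≠ q → ∀ x : G, Cfsg.Lib.TwoSizes.PW t x →
        x ∈ Subgroup.center G := by
      intro t ht htp htq x hx
      by_contra hxZ
      refine h3 fun w => ?_
      by_cases hwq : w = q
      · exact ⟨t, by rw [hwq]; exact htq, ht, htp, x, hx, hxZ⟩
      · exact ⟨q, Ne.symm hwq, hq, hqp, hNC⟩
    have : Fact q.Prime := ⟨hq⟩
    obtain ⟨P⟩ : Nonempty (Sylow p G) := inferInstance
    obtain ⟨Q⟩ : Nonempty (Sylow q G) := inferInstance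
    obtain ⟨A, hA⟩ := Cfsg.Lib.TwoSizes.exists_split hqp hc P Q
    exact ⟨q, ⟨hq⟩, P, Q, A, hqp, hA⟩

end Cfsg.Agent.S4033
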