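import Cfsg.Statements.S1567
import Cfsg.Agent.Lib.Concrete.LeechIndex
import Cfsg.Prelude.Def_Spor_Conway
-- import your own Cfsg.Agent.* helpers here

set_option autoImplicit false
open Cfsg

namespace Cfsg.Agent.S1567

open Cfsg Cfsg.Lib.Concrete

/-- The subgroup generated by the minimal vectors. -/
abbrev minSpan : AddSubgroup (GolayPt → ℤ) :=
  AddSubgroup.closure {x : GolayPt → ℤ | x ∈ leechLattice ∧ sqNorm x = 32}

theorem mem_minSpan {x : GolayPt → ℤ} (hx : x ∈ leechLattice) (hn : sqNorm x = 32) : x ∈ minSpan :=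
  AddSubgroup.subset_closure ⟨hx, hn⟩

theorem basis_octads : basisMasks.all (fun b => Nat.beq (pcnt b) 8 && decide (b < 16777216) && isCode b) = true := by
  decide +kernel

theorem two_word_mem {b : ℕ} (hb : b ∈ basisMasks) :
    (fun p => 2 * (((word b) p).val : ℤ)) ∈ minSpan := by
  have h := List.all_eq_true.1 basis_octads b hb
  simp only [Bool.and_eq_true, Nat.beq_eq, decide_eq_true_eq] at h
  have hw : word b ∈ golayCode := (word_mem_golayCode_iff h.1.2).2 h.2
  have hc : (support₂ (word b)).card = 8 := by rw [support₂_word, mset_card, mcnt_eq_pcnt, h.1.1]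
  refine mem_minSpan (mem_leechLattice_iff.2 (mem_leechSet_iff.2 ⟨0, word b, hw, fun i => ?_, ?_⟩)) ?_
  · simp
  · rw [← Finset.mul_sum, sum_val_eq_card, hc]; decide
  · have h01 : ∀ i, (2 * ((word b i).val : ℤ)) ^ 2 = 4 * ((word b i).val : ℤ) := fun i => by
      rw [zmod_two_val]; split <;> simp
    simp only [sqNorm, h01, ← Finset.mul_sum, sum_val_eq_card, hc]
    norm_num

theorem pair_mem {p q : GolayPt} (hpq : p ≠ q) {s : ℤ} (hs : s = 4 ∨ s = -4) :
    (Pi.single p 4 + Pi.single q s : GolayPt → ℤ) ∈ minSpan := by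
  have hsum : ∑ i, (Pi.single p (4 : ℤ) + Pi.single q s : GolayPt → ℤ) i = 4 + s := by
    simp [Pi.add_apply, Finset.sum_add_distrib, Finset.sum_pi_single']
  refine mem_minSpan (mem_leechLattice_iff.2 (mem_leechSet_iff.2 ⟨0, 0, zero_mem _, fun i => ?_, ?_⟩)) ?_
  · simp only [Pi.add_apply, Pi.single_apply, Pi.zero_apply]
    rcases hs with rfl | rfl <;> split <;> split <;> decide
  · rw [hsum]; rcases hs with rfl | rfl <;> decide
  · have hsq : ∀ i, (Pi.single p (4 : ℤ) + Pi.single q s : GolayPt → ℤ) i ^ 2 =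
        (Pi.single p (16 : ℤ) + Pi.single q (s ^ 2) : GolayPt → ℤ) i := fun i => by
      simp only [Pi.add_apply, Pi.single_apply]
      by_cases h1 : i = p
      · simp [h1, hpq]
      · by_cases h2 : i = q <;> simp [h1, h2, Ne.symm hpq]
    rw [sqNorm, Finset.sum_congr rfl fun i _ => hsq i]
    simp only [Pi.add_apply, Finset.sum_add_distrib, Finset.sum_pi_single', Finset.mem_univ, if_true]
    rcases hs with rfl | rfl <;> norm_num

theorem four_mem (t : GolayPt → ℤ) (ht : (2 : ℤ) ∣ ∑ i, t i) : (fun i => 4 * t i) ∈ minSpan := by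
  classical
  obtain ⟨k, hk⟩ := ht
  set o : GolayPt := none
  set a : GolayPt := some 0
  have h8 : (Pi.single o 8 : GolayPt → ℤ) ∈ minSpan := by
    have := add_mem (pair_mem (p := o) (q := a) (by simp [o, a]) (Or.inl rfl)) (pair_mem (p := o) (q := a) (by simp [o, a]) (Or.inr rfl))
    convert this using 1
    funext i
    simp only [Pi.add_apply, Pi.single_apply]
    split <;> split <;> norm_num
  have hd : ∀ i, (Pi.single i 4 - Pi.single o 4 : GolayPt → ℤ) ∈ minSpan := fun i => by
    by_cases h : i = o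
    · simp [h]
    · convert pair_mem h (Or.inr rfl) using 1
      funext j
      simp only [Pi.add_apply, Pi.sub_apply, Pi.single_apply]
      split <;> split <;> simp
  have key : (fun i => 4 * t i) = ∑ i, t i • (Pi.single i 4 - Pi.single o 4 : GolayPt → ℤ) + k • Pi.single o 8 := by
    funext j
    simp only [Pi.add_apply, Finset.sum_apply, Pi.smul_apply, Pi.sub_apply, Pi.single_apply, smul_eq_mul,
      mul_sub, Finset.sum_sub_distrib, mul_ite, mul_zero]
    rw [Finset.sum_ite_eq Finset.univ j, if_pos (Finset.mem_univ j)]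
    by_cases hj : j = o
    · simp [hj, ← Finset.sum_mul, hk]; ring
    · simp [hj]; ring
  rw [key]
  exact add_mem (sum_mem fun i _ => zsmul_mem (hd i) _) (zsmul_mem h8 _)

theorem exists_lift (c : ℕ) : ∀ L : List ℕ, (∀ b ∈ L, b ∈ basisMasks) →
    ∃ h ∈ minSpan, ∀ p, h p ≡ 2 * (((word (comboAux L c)) p).val : ℤ) [ZMOD 4] := by
  intro L
  induction L generalizing c with
  | nil => exact fun _ => ⟨0, zero_mem _, fun p => by simp [comboAux, word]⟩
  | cons b L ih =>
    intro hL
    obtain ⟨h, hh, he⟩ := ih (c / 2) fun x hx => hL x (List.mem_cons_of_mem _ hx)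
    rw [comboAux]
    cases hc : (c % 2 == 1)
    · exact ⟨h, hh, fun p => by simpa using he p⟩
    · refine ⟨(fun p => 2 * (((word b) p).val : ℤ)) + h, add_mem (two_word_mem (hL b (List.mem_cons_self ..))) hh,
        fun p => ?_⟩
      have := two_mul_val_add (word b p) (word (comboAux L (c / 2)) p)
      have := he p
      simp only [cond_true, word_xor, Pi.add_apply]
      unfold Int.ModEq at *
      omega

/-- The vector (-3, 1²³). -/
def oddVec : GolayPt → ℤ := fun p => if p = none then -3 else 1

theorem oddVec_mem : oddVec ∈ minSpan := by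
  refine mem_minSpan (mem_leechLattice_iff.2 (Spor.mem_leechSet_of_const_mod_four oddVec 1 1 ?_ ?_ ?_)) ?_ <;>
    decide

theorem leech_le : leechLattice ≤ minSpan := by
  intro x hx
  obtain ⟨m, w, hw, h1, h2⟩ := mem_leechSet_iff.1 (mem_leechLattice_iff.1 hx)
  obtain ⟨c, -, rfl⟩ := mem_golayCode_iff.1 hw
  obtain ⟨h, hh, he⟩ := exists_lift c basisMasks fun _ h => h
  have hle : minSpan ≤ leechLattice := (AddSubgroup.closure_le _).2 fun _ h => h.1
  set y := x - m • oddVec - h with hy
  have hyL : y ∈ leechLattice := sub_mem (sub_mem hx (zsmul_mem (hle oddVec_mem) _)) (hle hh)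
  have h4 : ∀ p, (4 : ℤ) ∣ y p := fun p => by
    have e1 := h1 p
    have e2 := he p
    have e3 : m * oddVec p % 4 = m % 4 := by
      simp only [oddVec]; split <;> omega
    simp only [hy, Pi.sub_apply, Pi.smul_apply, smul_eq_mul]
    unfold combo at e1
    unfold Int.ModEq at e1 e2
    omega
  choose t ht using h4
  have hyt : y = fun p => 4 * t p := funext ht
  have hym : y ∈ minSpan := by
    rw [hyt]
    refine four_mem t ?_
    obtain ⟨n, v, hv, g1, g2⟩ := mem_leechSet_iff.1 (mem_leechLattice_iff.1 hyL)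
    have hn := g1 none
    rw [hyt] at hn g2
    unfold Int.ModEq at hn g2
    beta_reduce at hn g2
    rw [← Finset.mul_sum] at g2
    omega
  have : x = y + m • oddVec + h := by rw [hy]; abel
  rw [this]
  exact add_mem (add_mem hym (zsmul_mem oddVec_mem _)) hh

/-- The rank-24 lattice is the additive subgroup generated by its 196560 minimal vectors. -/
theorem result : AddSubgroup.closure {x : Cfsg.GolayPt → ℤ | x ∈ Cfsg.leechLattice ∧ Cfsg.sqNorm x = 32} = Cfsg.leechLattice := by
  exact le_antisymm ((AddSubgroup.closure_le _).2 fun _ h => h.1) leech_le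

end Cfsg.Agent.S1567
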