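import Cfsg.Statements.S1573
import Cfsg.Agent.Lib.Concrete.LeechCensus

set_option autoImplicit false
open Cfsg

namespace Cfsg.Agent.S1573

/-- Census of minimal vectors by inner product with a fixed minimal vector: 4600 have customary inner product −2, 47104 have −1, and 93150 are orthogonal. -/
theorem result (v : Cfsg.GolayPt → ℤ) (hv : v ∈ Cfsg.leechLattice) (hvn : Cfsg.sqNorm v = 32) : {w : Cfsg.GolayPt → ℤ | w ∈ Cfsg.leechLattice ∧ Cfsg.sqNorm w = 32 ∧ Cfsg.dotInt v w = -16}.ncard = 4600 ∧ {w : Cfsg.GolayPt → ℤ | w ∈ Cfsg.leechLattice ∧ Cfsg.sqNorm w = 32 ∧ Cfsg.dotInt v w = -8}.ncard = 47104 ∧ {w : Cfsg.GolayPt → ℤ | w ∈ Cfsg.leechLattice ∧ Cfsg.sqNorm w = 32 ∧ Cfsg.dotInt v w = 0}.ncard = 93150 := by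
  have hm : Cfsg.Lib.Concrete.Moves v Cfsg.Lib.Concrete.rep32 := Cfsg.Lib.Concrete.moves32 hv hvn
  have key : ∀ k : ℤ, {w : Cfsg.GolayPt → ℤ | w ∈ Cfsg.leechLattice ∧ Cfsg.sqNorm w = 32 ∧
      Cfsg.dotInt v w = k}.ncard = Cfsg.Lib.Concrete.dotCount Cfsg.Lib.Concrete.rep32 k := fun k => by
    rw [← Cfsg.Lib.Concrete.dotCount_moves hm k, Cfsg.Lib.Concrete.dotCount, ← Set.ncard_coe_finset]
    refine congrArg Set.ncard (Set.ext fun w => ?_)
    simp only [Set.mem_setOf_eq, Finset.coe_filter, Cfsg.Lib.Concrete.mem_shell, and_assoc]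
  obtain ⟨-, h16, h8, h0⟩ := Cfsg.Lib.Concrete.census32
  exact ⟨by rw [key, Cfsg.Lib.Concrete.dotCount_neg, h16], by rw [key, Cfsg.Lib.Concrete.dotCount_neg, h8],
    by rw [key, h0]⟩

end Cfsg.Agent.S1573
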