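import Cfsg.Statements.S0287
import Cfsg.Agent.Lib.Linear.OrthOrderStd

set_option autoImplicit false
open Cfsg

namespace Cfsg.Agent.S0287

open Module Cfsg.Lib.Linear.Orth
open scoped Matrix

theorem cast_pow_sub {q : ℕ} (hq : 1 ≤ q) (k : ℕ) : ((q ^ k - 1 : ℕ) : ℤ) = (q : ℤ) ^ k - 1 := by
  rw [Nat.cast_sub (Nat.one_le_pow k q hq)]; push_cast; ring

theorem two_ne {F : Type*} [Field F] [Fintype F] (hodd : Odd (Fintype.card F)) : (2 : F) ≠ 0 :=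
  two_ne_zero_of_odd_card hodd


/-- |GO^+_{2m}(q)| = 2 q^(m(m-1)) (q^m - 1) prod_{i=1}^{m-1} (q^(2i) - 1), m at least 1, all q. -/
theorem result {F : Type*} [Field F] [Fintype F] {q : ℕ} (hF : Fintype.card F = q) (m : ℕ) (hm : 1 ≤ m) : Nat.card (Cfsg.isometryGroup F (Cfsg.quadFormPlus m F)) = 2 * q ^ (m * (m - 1)) * (q ^ m - 1) * ∏ i ∈ Finset.range (m - 1), (q ^ (2 * (i + 1)) - 1) := by
  subst hF
  have hq : 1 ≤ Fintype.card F := Fintype.card_pos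
  rw [← Nat.card_eq_fintype_card] at *
  obtain ⟨k, rfl⟩ : ∃ k, m = k + 1 := ⟨m - 1, by omega⟩
  obtain ⟨-, h3⟩ := counts_plus (F := F) (k + 1)
  rw [Nat.add_sub_cancel] at h3 ⊢
  apply Int.natCast_inj.mp
  push_cast
  simp only [cast_pow_sub hq]
  rw [h3, prod_plus]
  ring

end Cfsg.Agent.S0287
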