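import Cfsg.Statements.S0790
import Cfsg.Agent.Lib.Linear.OrthSpinor
import Cfsg.Agent.Lib.Linear.OrthForms

set_option autoImplicit false
open Cfsg

namespace Cfsg.Agent.S0790

open Module Cfsg.Lib.Linear.Orth
open scoped Matrix

theorem two_ne {F : Type*} [Field F] [Fintype F] (hodd : Odd (Fintype.card F)) : (2 : F) ≠ 0 :=
  fun h => by
    haveI : CharP F 2 := CharTwo.of_one_ne_zero_of_two_eq_zero one_ne_zero h
    have h1 := FiniteField.even_card_of_char_two (ringChar.eq F 2)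
    rw [Nat.odd_iff] at hodd
    omega

theorem sign_pow (q m : ℕ) (hq : Odd q) :
    ((q ^ m % 4 = 1) ↔ ¬ (q % 4 = 3 ∧ Odd m)) ∧ ((q ^ m % 4 = 3) ↔ (q % 4 = 3 ∧ Odd m)) := by
  have h4 : q % 4 = 1 ∨ q % 4 = 3 := by rw [Nat.odd_iff] at hq; omega
  rw [Nat.pow_mod]
  rcases h4 with h | h <;> rw [h]
  · simp
  · rcases Nat.even_or_odd m with ⟨k, rfl⟩ | ⟨k, rfl⟩
    · rw [← two_mul, pow_mul, Nat.pow_mod]
      simp [Nat.not_odd_iff_even.mpr (even_two_mul k)]
    · rw [pow_succ, pow_mul, Nat.mul_mod, Nat.pow_mod]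
      simp [odd_two_mul_add_one k]

theorem prod_pairs {F : Type*} [Field F] [Fintype F] [DecidableEq F] (m : ℕ) :
    (∏ _i : Fin m, (if IsSquare (1 : F) then (-1 : ℤˣ) else 1)) *
      (∏ _i : Fin m, (if IsSquare (-1 : F) then (-1 : ℤˣ) else 1)) =
      if Fintype.card F % 4 = 3 ∧ Odd m then -1 else 1 := by
  classical
  rw [Finset.prod_const, Finset.prod_const, Finset.card_univ, Fintype.card_fin,
    if_pos IsSquare.one]
  by_cases h : Fintype.card F % 4 = 3
  · rw [if_neg (fun hs => FiniteField.isSquare_neg_one_iff.mp hs h), one_pow, mul_one]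
    rcases Nat.even_or_odd m with hm | hm
    · rw [hm.neg_one_pow, if_neg (fun h' => Nat.not_odd_iff_even.mpr hm h'.2)]
    · rw [hm.neg_one_pow, if_pos ⟨h, hm⟩]
  · rw [if_pos (FiniteField.isSquare_neg_one_iff.mpr h), ← mul_pow, if_neg (fun h' => h h'.1)]
    simp


/-- −1 ∈ Ω⁺_2m(q) iff q^m ≡ 1 (mod 4), for q odd and m ≥ 1 (so that in the other case SO⁺_2m(q) = 2 × Ω⁺_2m(q)). -/
theorem result {F : Type*} [Field F] [Fintype F] {q : ℕ} (hF : Fintype.card F = q) (hodd : Odd q) (m : ℕ) (hm : 1 ≤ m) : (∃ g : ↥(Cfsg.isometryGroup F (Cfsg.quadFormPlus m F)), g ∈ Cfsg.Omega F (Cfsg.quadFormPlus m F) ∧ ((g : Matrix.GeneralLinearGroup (Fin m ⊕ Fin m) F) : Matrix (Fin m ⊕ Fin m) (Fin m ⊕ Fin m) F) = -1) ↔ q ^ m % 4 = 1 := by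
  classical
  subst hF
  have h2 := two_ne hodd
  obtain ⟨B, C⟩ := exists_space_plus (F := F) m
  let b : Fin m ⊕ Fin m → Fin m ⊕ Fin m → F :=
    Sum.elim (fun i => Pi.single (Sum.inl i) 1 + Pi.single (Sum.inr i) 1)
      (fun i => Pi.single (Sum.inl i) 1 - Pi.single (Sum.inr i) 1)
  have hQ1 : ∀ i, Cfsg.quadFormPlus m F (b (.inl i)) = 1 := fun i => by
    simp [b, Cfsg.quadFormPlus, Pi.single_apply]
  have hQ2 : ∀ i, Cfsg.quadFormPlus m F (b (.inr i)) = -1 := fun i => by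
    simp [b, Cfsg.quadFormPlus, Pi.single_apply]
  have horth : ∀ i j, i ≠ j → B (b i) (b j) = 0 := fun i j hij => by
    rw [← C.polar, polar_plus_apply]
    rcases i with i | i <;> rcases j with j | j <;> rcases eq_or_ne i j with rfl | hne <;>
      first
        | exact absurd rfl hij
        | (simp [b, Pi.single_apply, Finset.sum_add_distrib]; done)
        | (simp [b, Pi.single_apply, Finset.sum_add_distrib, hne, Ne.symm hne]; done)
  have hiff := neg_one_mem_omega_iff C h2 ⟨m, by simp⟩ (by simp; omega) b rfl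
    (fun i => by rcases i with i | i <;> simp [hQ1, hQ2]) horth
  refine hiff.trans ?_
  rw [(sign_pow _ m hodd).1, Fintype.prod_sum_type]
  simp only [hQ1, hQ2]
  rw [prod_pairs m]
  split_ifs with hc <;> simp [hc]

end Cfsg.Agent.S0790
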