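import Cfsg.Statements.S0293
import Cfsg.Agent.Lib.Linear.OrthOrderStd
import Cfsg.Agent.Lib.Linear.OrthCenter
import Cfsg.Agent.S0287
import Cfsg.Agent.S0790
import Cfsg.Agent.Lib.Linear.OrthForms

set_option autoImplicit false
open Cfsg

namespace Cfsg.Agent.S0293

open Module Cfsg.Lib.Linear.Orth
open scoped Matrix

theorem gcd_four {q : ℕ} (hq : Odd q) (k : ℕ) :
    (q ^ k % 4 = 1 → Nat.gcd 4 (q ^ k - 1) = 4 ∧ Nat.gcd 4 (q ^ k + 1) = 2) ∧
      (q ^ k % 4 ≠ 1 → Nat.gcd 4 (q ^ k - 1) = 2 ∧ Nat.gcd 4 (q ^ k + 1) = 4 ∧ q ^ k % 4 = 3) := by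
  have ho : q ^ k % 2 = 1 := Nat.odd_iff.mp hq.pow
  have h1 : 1 ≤ q ^ k := by omega
  constructor <;> intro h
  · constructor
    · exact Nat.gcd_eq_left (Nat.dvd_of_mod_eq_zero (by omega))
    · rw [Nat.gcd_rec, show (q ^ k + 1) % 4 = 2 by omega]; rfl
  · refine ⟨?_, Nat.gcd_eq_left (Nat.dvd_of_mod_eq_zero (by omega)), by omega⟩
    rw [Nat.gcd_rec, show (q ^ k - 1) % 4 = 2 by omega]; rfl

theorem two_eq {F : Type*} [Field F] [Fintype F] (hev : ¬ Odd (Fintype.card F)) : (2 : F) = 0 := by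
  haveI : CharP F 2 := ringChar.of_eq (by
    by_contra h
    exact hev (Nat.odd_iff.mpr (FiniteField.odd_card_of_char_ne_two h)))
  exact CharTwo.two_eq_zero


/-- gcd(4, q^m - 1) |PΩ^+_{2m}(q)| = q^(m(m-1)) (q^m - 1) prod_{i=1}^{m-1} (q^(2i) - 1), m at least 4 (type D_m). -/
theorem result {F : Type*} [Field F] [Fintype F] {q : ℕ} (hF : Fintype.card F = q) (m : ℕ) (hm : 4 ≤ m) : Nat.gcd 4 (q ^ m - 1) * Nat.card (Cfsg.POmega F (Cfsg.quadFormPlus m F)) = q ^ (m * (m - 1)) * (q ^ m - 1) * ∏ i ∈ Finset.range (m - 1), (q ^ (2 * (i + 1)) - 1) := by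
  classical
  obtain ⟨B, C⟩ := exists_space_plus (F := F) m
  have h := card_pomega C (by simp only [Fintype.card_sum, Fintype.card_fin]; omega)
  rw [Cfsg.Agent.S0287.result hF m (by omega)] at h
  by_cases hodd : Odd q
  · obtain ⟨-, hidx, -⟩ := omega_odd C (two_ne_zero_of_odd_card (F := F) (hF ▸ hodd)) (by simp only [Fintype.card_sum, Fintype.card_fin]; omega)
    have hiff := Cfsg.Agent.S0790.result hF hodd m (by omega)
    rw [hidx] at h
    by_cases hc : q ^ m % 4 = 1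
    · rw [if_pos ⟨two_ne_zero_of_odd_card (hF ▸ hodd), hiff.mpr hc⟩] at h
      rw [((gcd_four hodd m).1 hc).1]
      linarith
    · rw [if_neg (fun hh => hc (hiff.mp hh.2))] at h
      rw [((gcd_four hodd m).2 hc).1]
      linarith
  · have h2 : (2 : F) = 0 := two_eq (hF ▸ hodd)
    obtain ⟨hidx, -⟩ := omega_two C h2 (by simp only [Fintype.card_sum, Fintype.card_fin]; omega) (Or.inr (by simp only [Fintype.card_sum, Fintype.card_fin]; omega))
    rw [hidx, if_neg (fun hh => hh.1 h2)] at h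
    have hev : ¬ Odd (q ^ m) := fun ho => hodd ((Nat.odd_pow_iff (by omega)).mp ho)
    have hg : Nat.gcd 4 (q ^ m - 1) = 1 := by
      have h1 : 1 ≤ q ^ m := Nat.one_le_pow _ _ (hF ▸ Fintype.card_pos)
      rw [Nat.odd_iff] at hev
      rw [Nat.gcd_rec]
      rcases (by omega : (q ^ m - 1) % 4 = 1 ∨ (q ^ m - 1) % 4 = 3) with h' | h' <;> rw [h'] <;> rfl
    rw [hg]
    linarith

end Cfsg.Agent.S0293
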