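import Cfsg.Statements.S5408
import Cfsg.Agent.Lib.Concrete.LeechMonomial
-- import your own Cfsg.Agent.* helpers here

set_option autoImplicit false
open Cfsg
open Cfsg.Lib.Concrete

namespace Cfsg.Agent.S5408

theorem pairs_check : ∀ a b : Fin 24, a ≠ b →
    octList.any (fun o => o.testBit a.val && o.testBit b.val &&
      octList.any (fun d => Nat.beq (o &&& d) (2 ^ a.val ||| 2 ^ b.val))) = true := by
  decide +kernel

theorem pivot_check : ∀ k l : Fin 12,
    (basisMasks.getD k.val 0).testBit l.val = decide (k = l) := by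
  decide +kernel

theorem basis_code : ∀ k : Fin 12,
    (decide (basisMasks.getD k.val 0 < 2 ^ 24) && isCode (basisMasks.getD k.val 0)) = true := by
  decide +kernel

/-- Two octads meeting exactly in a given pair, and a point outside the first. -/
theorem exists_octad_pair {i j : GolayPt} (h : i ≠ j) :
    ∃ O ∈ octads, ∃ D ∈ octads, i ∈ O ∧ j ∈ O ∧
      ∀ p ∈ O, (p ∈ D ↔ p = i ∨ p = j) := by
  obtain ⟨o, ho, h'⟩ := List.any_eq_true.1 (pairs_check (gidx i) (gidx j)
    fun e => h (gidx_injective e))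
  simp only [Bool.and_eq_true] at h'
  obtain ⟨⟨hi, hj⟩, h'⟩ := h'
  obtain ⟨d, hd, hod⟩ := List.any_eq_true.1 h'
  have hod' : o &&& d = 2 ^ (gidx i).val ||| 2 ^ (gidx j).val := Nat.eq_of_beq_eq_true hod
  refine ⟨mset o, (mset_mem_octads_iff (octList_lt ho)).2 ho, mset d,
    (mset_mem_octads_iff (octList_lt hd)).2 hd, mem_mset.2 hi, mem_mset.2 hj, fun p hp => ?_⟩
  have := congrArg (fun m : ℕ => m.testBit (gidx p).val) hod'
  simp only [Nat.testBit_and, Nat.testBit_or, Nat.testBit_two_pow, mem_mset.1 hp,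
    Bool.true_and] at this
  rw [mem_mset, this, Bool.or_eq_true, decide_eq_true_eq, decide_eq_true_eq, ← Fin.ext_iff,
    ← Fin.ext_iff, gidx_injective.eq_iff, gidx_injective.eq_iff]
  exact or_congr eq_comm eq_comm

theorem mem_of_const (x : GolayPt → ℤ) (m c : ℤ) (hc : c ≡ m [ZMOD 2])
    (h4 : ∀ i, x i ≡ c [ZMOD 4]) (hsum : ∑ i, x i ≡ 4 * m [ZMOD 8]) : x ∈ leechLattice :=
  AddSubgroup.subset_closure (Cfsg.Spor.mem_leechSet_of_const_mod_four x m c hc h4 hsum)

theorem even_sum {x : GolayPt → ℤ} (hx : x ∈ leechLattice) (he : ∀ i, (2 : ℤ) ∣ x i) :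
    (8 : ℤ) ∣ ∑ i, x i := by
  obtain ⟨m, h2, h8, -⟩ := mem_leechLattice_iff.1 hx
  have hm : (2 : ℤ) ∣ m := Int.modEq_zero_iff_dvd.1
    ((h2 none).symm.trans (Int.modEq_zero_iff_dvd.2 (he none)))
  obtain ⟨k, rfl⟩ := hm
  exact Int.modEq_zero_iff_dvd.1
    (h8.trans (Int.modEq_zero_iff_dvd.2 ⟨k, by ring⟩))

theorem pair_mem (i j : GolayPt) :
    (Pi.single i 4 + Pi.single j 4 : GolayPt → ℤ) ∈ leechLattice := by
  refine mem_of_const _ 0 0 rfl (fun k => ?_) ?_
  · rw [Int.modEq_zero_iff_dvd]
    refine dvd_add ?_ ?_ <;> rw [Pi.single_apply] <;> split <;> norm_num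
  · simp only [Pi.add_apply, Finset.sum_add_distrib, Finset.sum_pi_single', Finset.mem_univ,
      if_true]
    decide

/-- The vector with 4 at two points. -/
def fourPair (i j : GolayPt) : leechLattice := ⟨Pi.single i 4 + Pi.single j 4, pair_mem i j⟩

theorem fourPair_apply (i j p : GolayPt) :
    (fourPair i j : GolayPt → ℤ) p = (if p = i then 4 else 0) + (if p = j then 4 else 0) := by
  simp [fourPair, Pi.single_apply]

/-- The sign change on a code support. -/
noncomputable def flipCo0 (c : Finset GolayPt) (hc : c ∈ codeSets) : Co0 :=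
  monoCo0 1 (one_mem _) c hc

theorem flipCo0_apply (c : Finset GolayPt) (hc : c ∈ codeSets) (v : leechLattice) (p : GolayPt) :
    ((flipCo0 c hc • v : leechLattice) : GolayPt → ℤ) p = if p ∈ c then -v.1 p else v.1 p :=
  rfl

section Group

variable {Q : Type*} [Group Q] {ψ : leechLattice → Q ⧸ Subgroup.center Q}

/-- The squares of the lifts of `v` are trivial. -/
def Good (ψ : leechLattice → Q ⧸ Subgroup.center Q) (v : leechLattice) : Prop :=
  ∀ q : Q, ψ v = QuotientGroup.mk q → q * q = 1

/-- The lifts of `v` and `w` commute. -/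
def Comm (ψ : leechLattice → Q ⧸ Subgroup.center Q) (v w : leechLattice) : Prop :=
  ∀ a b : Q, ψ v = QuotientGroup.mk a → ψ w = QuotientGroup.mk b → a * b = b * a

variable (hadd : ∀ v w : leechLattice, ψ (v + w) = ψ v * ψ w)
  (hsurj : Function.Surjective ψ)
  (h2 : ∀ w : leechLattice, ψ (w + w) = 1)
  (hZ : Nat.card (Subgroup.center Q) = 2)
  (hinv : ∀ g : Co0, ∃ θ : Q ≃* Q, ∀ v q, ψ v = QuotientGroup.mk q →
    ψ (g • v) = QuotientGroup.mk (θ q))

include hZ in
theorem center_sq {c : Q} (hc : c ∈ Subgroup.center Q) : c * c = 1 := by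
  have : (⟨c, hc⟩ : Subgroup.center Q) ^ 2 = 1 := by rw [← hZ]; exact pow_card_eq_one'
  simpa [pow_two] using congrArg Subtype.val this

include hadd in
theorem map_zero' : ψ 0 = 1 := by
  have := hadd 0 0
  rw [add_zero] at this
  exact left_eq_mul.mp this

include hadd h2 in
theorem map_neg' (v : leechLattice) : ψ (-v) = ψ v := by
  have h := hadd (-v) (v + v)
  rw [h2, mul_one, ← add_assoc, neg_add_cancel, zero_add] at h
  exact h.symm

include hadd h2 in
theorem map_sub' (v w : leechLattice) : ψ (v - w) = ψ (v + w) := by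
  rw [sub_eq_add_neg, hadd, map_neg' hadd h2, hadd]

include hadd in
theorem lift_mul {v w : leechLattice} {a b : Q} (ha : ψ v = QuotientGroup.mk a)
    (hb : ψ w = QuotientGroup.mk b) : ψ (v + w) = QuotientGroup.mk (a * b) := by
  rw [hadd, ha, hb, QuotientGroup.mk_mul]

theorem lift_unique {v : leechLattice} {a b : Q} (ha : ψ v = QuotientGroup.mk a)
    (hb : ψ v = QuotientGroup.mk b) : ∃ c ∈ Subgroup.center Q, b = a * c :=
  ⟨a⁻¹ * b, QuotientGroup.eq.1 (ha.symm.trans hb), by group⟩

include hadd hsurj in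
theorem comm_central (a b : Q) : a * b * a⁻¹ * b⁻¹ ∈ Subgroup.center Q := by
  obtain ⟨v, hv⟩ := hsurj (QuotientGroup.mk a)
  obtain ⟨w, hw⟩ := hsurj (QuotientGroup.mk b)
  have h : (QuotientGroup.mk (a * b) : Q ⧸ Subgroup.center Q) = QuotientGroup.mk (b * a) := by
    rw [← lift_mul hadd hv hw, ← lift_mul hadd hw hv, add_comm]
  rw [← QuotientGroup.eq_one_iff]
  rw [QuotientGroup.mk_mul, QuotientGroup.mk_mul, h, QuotientGroup.mk_mul, QuotientGroup.mk_inv,
    QuotientGroup.mk_inv]
  group

include hadd hZ hinv in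
theorem exists_theta (g : Co0) : ∃ θ : Q ≃* Q, (∀ v q, ψ v = QuotientGroup.mk q →
    ψ (g • v) = QuotientGroup.mk (θ q)) ∧ ∀ c ∈ Subgroup.center Q, θ c = c := by
  obtain ⟨θ, hθ⟩ := hinv g
  refine ⟨θ, hθ, fun c hc => ?_⟩
  by_cases h1 : c = 1
  · rw [h1, map_one]
  have h0 : ψ 0 = QuotientGroup.mk c := by
    rw [map_zero' hadd, (QuotientGroup.eq_one_iff c).2 hc]
  have hg0 : g • (0 : leechLattice) = 0 := by
    have h := (g.2.1 0 0)
    rw [add_zero] at h
    exact left_eq_add.mp h
  have h3 := hθ 0 c h0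
  rw [hg0, map_zero' hadd, eq_comm, QuotientGroup.eq_one_iff] at h3
  have htwo := Nat.card_eq_two_iff' (1 : Subgroup.center Q) |>.1 hZ
  obtain ⟨y, -, hy⟩ := htwo
  have e1 := hy ⟨c, hc⟩ (fun h => h1 (congrArg Subtype.val h))
  have e2 := hy ⟨θ c, h3⟩ (fun h => h1 (θ.injective (by
    rw [map_one]; exact congrArg Subtype.val h)))
  exact congrArg Subtype.val (e2.trans e1.symm)

include hadd in
theorem Good.comm {v w : leechLattice} (hv : Good ψ v) (hw : Good ψ w) (hvw : Good ψ (v + w)) :
    Comm ψ v w := by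
  intro a b ha hb
  have h1 := hv a ha
  have h2 := hw b hb
  have h3 := hvw _ (lift_mul hadd ha hb)
  calc a * b = (a * b)⁻¹ := eq_inv_of_mul_eq_one_left h3
    _ = b * a := by rw [mul_inv_rev, ← eq_inv_of_mul_eq_one_left h1, ← eq_inv_of_mul_eq_one_left h2]

include hadd hsurj in
theorem Comm.add {v u w : leechLattice} (hu : Comm ψ v u) (hw : Comm ψ v w) :
    Comm ψ v (u + w) := by
  intro a b ha hb
  obtain ⟨x, hx⟩ := QuotientGroup.mk_surjective (ψ u)
  obtain ⟨y, hy⟩ := QuotientGroup.mk_surjective (ψ w)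
  obtain ⟨c, hc, rfl⟩ := lift_unique (lift_mul hadd hx.symm hy.symm) hb
  have hc' := Subgroup.mem_center_iff.1 hc
  calc a * (x * y * c) = (a * x) * y * c := by group
    _ = x * (a * y) * c := by rw [hu a x ha hx.symm]; group
    _ = x * y * (a * c) := by rw [hw a y ha hy.symm]; group
    _ = x * y * c * a := by rw [hc' a]; group

theorem Good.congr {v w : leechLattice} (hv : Good ψ v) (h : ψ v = ψ w) : Good ψ w :=
  fun q hq => hv q (h.trans hq)

theorem Comm.congr {v v' w w' : leechLattice} (hvw : Comm ψ v w) (h : ψ v = ψ v')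
    (h' : ψ w = ψ w') : Comm ψ v' w' := fun a b ha hb => hvw a b (h.trans ha) (h'.trans hb)

theorem Comm.symm {v w : leechLattice} (h : Comm ψ v w) : Comm ψ w v :=
  fun a b ha hb => (h b a hb ha).symm

include hadd hZ hinv in
theorem Good.smul {v : leechLattice} (hv : Good ψ v) (g : Co0) : Good ψ (g • v) := by
  intro q hq
  obtain ⟨θ, hθ, hθc⟩ := exists_theta hadd hZ hinv g
  obtain ⟨a, ha⟩ := QuotientGroup.mk_surjective (ψ v)
  obtain ⟨c, hc, rfl⟩ := lift_unique (hθ v a ha.symm) hq
  rw [show θ a * c * (θ a * c) = θ a * θ a * (c * c) by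
    rw [mul_assoc, ← mul_assoc c, ← Subgroup.mem_center_iff.1 hc (θ a)]; group, center_sq hZ hc,
    mul_one, ← map_mul, hv a ha.symm, map_one]

include hadd hsurj h2 hZ hinv in
/-- The lifts of the pairs of fours are involutions. -/
theorem good_fourPair {i j : GolayPt} (hij : i ≠ j) : Good ψ (fourPair i j) := by
  classical
  obtain ⟨O, hO, D, hD, hiO, hjO, hmeet⟩ := exists_octad_pair hij
  obtain ⟨k, hk⟩ : ∃ k, k ∉ O := by
    by_contra! h
    have := hO.2
    rw [Finset.eq_univ_iff_forall.2 h] at this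
    exact absurd this (by decide)
  have hu0 : (fun p => if p = k then (-3 : ℤ) else 1) ∈ leechLattice := by
    refine mem_of_const _ 1 1 rfl (fun p => ?_) ?_
    · split <;> decide
    · have : (fun p => if p = k then (-3 : ℤ) else 1) = fun p => 1 + Pi.single k (-4) p := by
        funext p; rw [Pi.single_apply]; split <;> norm_num
      rw [this, Finset.sum_add_distrib, Finset.sum_pi_single']
      simp only [Finset.mem_univ, if_true, Finset.sum_const, Finset.card_univ]
      decide
  let u : leechLattice := ⟨_, hu0⟩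
  let x : leechLattice := ⟨_, oct_vector_mem hO⟩
  let v := fourPair i j
  obtain ⟨θ, hθ, hθc⟩ := exists_theta hadd hZ hinv (flipCo0 O hO.1)
  obtain ⟨θ', hθ', hθc'⟩ := exists_theta hadd hZ hinv (flipCo0 D hD.1)
  have hv : flipCo0 O hO.1 • v = -v := by
    refine Subtype.ext (funext fun p => ?_)
    rw [flipCo0_apply, AddSubgroup.coe_neg, Pi.neg_apply, fourPair_apply]
    split_ifs <;> simp_all
  have hxe : u - flipCo0 O hO.1 • u = x := by
    refine Subtype.ext (funext fun p => ?_)
    rw [AddSubgroup.coe_sub, Pi.sub_apply, flipCo0_apply]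
    show (if p = k then (-3 : ℤ) else 1) - (if p ∈ O then -(if p = k then (-3 : ℤ) else 1)
      else (if p = k then (-3 : ℤ) else 1)) = if p ∈ O then 2 else 0
    by_cases hp : p ∈ O
    · have hpk : p ≠ k := fun e => hk (e ▸ hp)
      rw [if_pos hp, if_pos hp, if_neg hpk]
      norm_num
    · rw [if_neg hp, if_neg hp, sub_self]
  have hxv : flipCo0 D hD.1 • x = x - v := by
    refine Subtype.ext (funext fun p => ?_)
    rw [AddSubgroup.coe_sub, Pi.sub_apply, flipCo0_apply, fourPair_apply]
    show (if p ∈ D then -(if p ∈ O then (2 : ℤ) else 0) else if p ∈ O then 2 else 0) =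
      (if p ∈ O then (2 : ℤ) else 0) - _
    by_cases hp : p ∈ O
    · have := hmeet p hp
      by_cases hpi : p = i <;> by_cases hpj : p = j <;> simp_all
    · have hpi : p ≠ i := fun e => hp (e ▸ hiO)
      have hpj : p ≠ j := fun e => hp (e ▸ hjO)
      simp [hp, hpi, hpj]
  intro a ha
  obtain ⟨b, hb⟩ := QuotientGroup.mk_surjective (ψ u)
  have hta : ψ v = QuotientGroup.mk (θ a) := by rw [← hθ v a ha, hv, map_neg' hadd h2]
  obtain ⟨c, hc, hθa⟩ := lift_unique ha hta
  have hkey : a * (b * θ b) = (b * θ b) * a := by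
    obtain ⟨d, hd, h1⟩ : ∃ d ∈ Subgroup.center Q, a * b = d * (b * a) :=
      ⟨a * b * a⁻¹ * b⁻¹, comm_central hadd hsurj a b, by group⟩
    have h1' := congrArg θ h1
    rw [map_mul, map_mul, map_mul, hθc d hd, hθa] at h1'
    have hc' := Subgroup.mem_center_iff.1 hc
    have hd' := Subgroup.mem_center_iff.1 hd
    have h3 : a * θ b = d * (θ b * a) := by
      have : a * θ b * c = d * (θ b * a) * c := by
        calc a * θ b * c = a * c * θ b := by rw [mul_assoc, hc', ← mul_assoc]
          _ = d * (θ b * (a * c)) := h1'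
          _ = d * (θ b * a) * c := by group
      exact mul_right_cancel this
    calc a * (b * θ b) = d * (b * (a * θ b)) := by rw [← mul_assoc, h1]; group
      _ = d * ((b * d) * (θ b * a)) := by rw [h3]; group
      _ = d * ((d * b) * (θ b * a)) := by rw [hd' b]
      _ = (d * d) * (b * θ b * a) := by group
      _ = b * θ b * a := by rw [center_sq hZ hd, one_mul]
  have hxl : ψ x = QuotientGroup.mk (b * θ b) := by
    rw [← hxe, map_sub' hadd h2]
    exact lift_mul hadd hb.symm (hθ u b hb.symm)
  set y := b * θ b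
  obtain ⟨e, he, hθy⟩ := lift_unique (lift_mul hadd ha hxl)
    (show ψ (v + x) = QuotientGroup.mk (θ' y) by
      rw [← hθ' x y hxl, hxv, map_sub' hadd h2, add_comm])
  have hyy : y * y ∈ Subgroup.center Q := by
    rw [← QuotientGroup.eq_one_iff, ← lift_mul hadd hxl hxl, h2]
  have he' := Subgroup.mem_center_iff.1 he
  have h4 : (a * y) * (a * y) = y * y := by
    have h5 := hθc' _ hyy
    rw [map_mul, hθy] at h5
    rw [← h5, show a * y * e * (a * y * e) = a * y * (a * y) * (e * e) by
      rw [mul_assoc (a * y) e, ← mul_assoc e, ← he' (a * y)]; group, center_sq hZ he, mul_one]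
  have h6 : a * y * (a * y) = a * a * (y * y) := by
    calc a * y * (a * y) = a * (y * a) * y := by group
      _ = a * a * (y * y) := by rw [← hkey]; group
  rw [h6] at h4
  exact mul_eq_right.mp h4

include hadd hsurj h2 hZ hinv in
theorem good_fourDiff {i j : GolayPt} (hij : i ≠ j) (w : leechLattice)
    (hw : ∀ p, (w : GolayPt → ℤ) p = (if p = i then 4 else 0) - (if p = j then 4 else 0)) :
    Good ψ w := by
  obtain ⟨c, hc, hj, hi⟩ := exists_code_separating hij.symm
  have h := (good_fourPair hadd hsurj h2 hZ hinv hij).smul hadd hZ hinv (flipCo0 c hc)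
  have e : flipCo0 c hc • fourPair i j = w := by
    refine Subtype.ext (funext fun p => ?_)
    rw [flipCo0_apply, fourPair_apply, hw]
    by_cases hpi : p = i <;> by_cases hpj : p = j <;> simp_all
  rwa [e] at h

include hadd hsurj h2 hZ hinv in
theorem comm_share {i j m : GolayPt} (hij : i ≠ j) (him : i ≠ m) :
    Comm ψ (fourPair i j) (fourPair i m) := by
  by_cases hjm : j = m
  · subst hjm
    intro a b ha hb
    obtain ⟨c, hc, rfl⟩ := lift_unique ha hb
    rw [mul_assoc a c a, ← Subgroup.mem_center_iff.1 hc a]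
  refine (good_fourPair hadd hsurj h2 hZ hinv hij).comm hadd
    (good_fourPair hadd hsurj h2 hZ hinv him) ?_
  refine (good_fourDiff hadd hsurj h2 hZ hinv hjm (fourPair i j - fourPair i m) fun p => ?_).congr
    (map_sub' hadd h2 _ _)
  rw [AddSubgroup.coe_sub, Pi.sub_apply, fourPair_apply, fourPair_apply]
  ring

end Group

/-- The twelve generators. -/
def gen (k : Fin 12) : leechLattice :=
  if k.val < 11 then fourPair (gpt (k.castLE (by norm_num))) (gpt 11) else e8 (gpt 11)

theorem gen_inj_mod (c d : Fin 12 → Fin 2) (w : leechLattice)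
    (h : ∑ k, ((c k).val : ℤ) • gen k - ∑ k, ((d k).val : ℤ) • gen k = w + w) : c = d := by
  classical
  set δ : Fin 12 → ℤ := fun k => ((c k).val : ℤ) - ((d k).val : ℤ) with hδ
  have hw : ∀ p, 2 * (w : GolayPt → ℤ) p = ∑ k, δ k * (gen k : GolayPt → ℤ) p := by
    intro p
    have := congrArg (fun v : leechLattice => (v : GolayPt → ℤ) p) h
    simp only [AddSubgroup.coe_sub, AddSubgroup.coe_add, Pi.sub_apply, Pi.add_apply,
      AddSubgroup.val_finsetSum, Finset.sum_apply, AddSubgroup.coe_zsmul, Pi.smul_apply,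
      smul_eq_mul] at this
    rw [two_mul, ← this, ← Finset.sum_sub_distrib]
    exact Finset.sum_congr rfl fun k _ => by rw [hδ]; ring
  have hb : ∀ k, -1 ≤ δ k ∧ δ k ≤ 1 := fun k => by
    have := (c k).isLt
    have := (d k).isLt
    simp only [hδ]; omega
  have hpar : ∀ k : Fin 12, k.val < 11 → δ k = 0 := by
    intro k hk
    set m := basisMasks.getD k.val 0 with hm
    have hcode := basis_code k
    simp only [Bool.and_eq_true, decide_eq_true_eq] at hcode
    have hD : mset m ∈ codeSets := (mset_mem_supports_iff hcode.1).2 hcode.2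
    have h8 : (8 : ℤ) ∣ ∑ p ∈ mset m, 2 * (w : GolayPt → ℤ) p := by
      have := even_sum (x := ((w - flipCo0 (mset m) hD • w : leechLattice) : GolayPt → ℤ))
        (w - flipCo0 (mset m) hD • w).2 (fun p => by
          rw [AddSubgroup.coe_sub, Pi.sub_apply, flipCo0_apply]
          split
          · exact ⟨(w : GolayPt → ℤ) p, by ring⟩
          · simp)
      simp only [AddSubgroup.coe_sub, Pi.sub_apply, flipCo0_apply] at this
      convert this using 1
      rw [← Finset.sum_subset (Finset.subset_univ (mset m)) (fun p _ hp => by simp [hp])]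
      exact Finset.sum_congr rfl fun p hp => by rw [if_pos hp]; ring
    simp only [hw] at h8
    rw [Finset.sum_comm] at h8
    have hmem : ∀ l : Fin 12, gpt (l.castLE (by norm_num)) ∈ mset m ↔ k = l := fun l => by
      rw [mem_mset, gidx_gpt, hm, show ((l.castLE (by norm_num) : Fin 24)).val = l.val from rfl,
        pivot_check]
      simp
    have h11 : gpt 11 ∉ mset m := fun h => by
      have := (hmem 11).1 h
      rw [this] at hk
      exact absurd hk (by decide)
    have hterm : ∀ l, ∑ p ∈ mset m, δ l * (gen l : GolayPt → ℤ) p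
        = if k = l then 4 * δ l else 0 := by
      intro l
      rw [← Finset.mul_sum, gen]
      by_cases hl : l.val < 11
      · rw [if_pos hl]
        simp only [fourPair_apply, Finset.sum_add_distrib, Finset.sum_ite_eq', h11, if_false,
          add_zero, hmem]
        split_ifs <;> ring
      · rw [if_neg hl, if_neg (fun e : k = l => hl (by rw [← e]; exact hk))]
        have : ∑ p ∈ mset m, (e8 (gpt 11) : GolayPt → ℤ) p = 0 := Finset.sum_eq_zero fun p hp => by
          show (Pi.single (gpt 11) 8 : GolayPt → ℤ) p = 0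
          exact Pi.single_eq_of_ne (fun e : p = gpt 11 => h11 (by rw [← e]; exact hp)) _
        rw [this, mul_zero]
    simp only [hterm, Finset.sum_ite_eq, Finset.mem_univ, if_true] at h8
    have := hb k
    omega
  have hlast : δ 11 = 0 := by
    have hw11 : ∀ p, (w : GolayPt → ℤ) p = if p = gpt 11 then 4 * δ 11 else 0 := by
      intro p
      have := hw p
      rw [Finset.sum_eq_single (11 : Fin 12) (fun l _ hl => by
        rw [hpar l (by have := l.isLt; have : l.val ≠ 11 := fun e => hl (Fin.ext e); omega),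
          zero_mul]) (fun h => absurd (Finset.mem_univ _) h), gen, if_neg (by decide)] at this
      simp only [e8, Pi.single_apply] at this
      split_ifs at this ⊢ <;> linarith
    have h8 := even_sum w.2 (fun p => by
      rw [hw11]; split
      · exact ⟨2 * δ 11, by ring⟩
      · simp)
    simp only [hw11, Finset.sum_ite_eq', Finset.mem_univ, if_true] at h8
    have := hb 11
    omega
  funext k
  apply Fin.ext
  have : δ k = 0 := by
    by_cases hk : k.val < 11
    · exact hpar k hk
    · rw [show k = 11 from Fin.ext (by have := k.isLt; simp; omega)]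
      exact hlast
  simp only [hδ] at this
  omega


/-- Let G be a finite group of Monster type at the involution z with Q the extraspecial normal subgroup of order 2^25 of C = C_G(z) (so C/Q is identified with the first Conway group with Q modulo its centre the Leech lattice modulo 2, and z is not weakly closed in Q). Then Q is of plus type: it contains an elementary abelian subgroup of order 2^13. -/
theorem result {G : Type*} [Group G] [Finite G] (z : G) (Q : Subgroup (Subgroup.centralizer ({z} : Set G))) [Q.Normal] (hM : Cfsg.IsOfMonsterType z Q) : ∃ E : Subgroup Q, Cfsg.IsElementaryAbelian 2 E ∧ Nat.card E = 2 ^ 13 := by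
  classical
  obtain ⟨⟨-, -, ⟨-, hZ⟩, -, -⟩, e, ψ, hadd, hsurj, hker, hconj⟩ := hM
  have h2 : ∀ w, ψ (w + w) = 1 := fun w => (hker _).2 ⟨w, rfl⟩
  have hinv : ∀ g : Co0, ∃ θ : Q ≃* Q, ∀ v q, ψ v = QuotientGroup.mk q →
      ψ (g • v) = QuotientGroup.mk (θ q) := by
    intro g
    obtain ⟨h, hh⟩ := QuotientGroup.mk_surjective (e.symm (QuotientGroup.mk g))
    refine ⟨MulAut.conjNormal h, fun v q hq => ?_⟩
    rw [hconj h g (by rw [hh, MulEquiv.apply_symm_apply]) v q hq]
    congr 1
  have hgood : ∀ k, Good ψ (gen k) := by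
    intro k
    unfold gen
    split_ifs with hk
    · refine good_fourPair hadd hsurj h2 hZ hinv fun e => ?_
      have := congrArg (fun p => (gidx p).val) e
      simp only [gidx_gpt] at this
      exact absurd this (by simp; omega)
    · have hne : gpt 0 ≠ gpt 11 := by decide
      intro q hq
      have e8eq : e8 (gpt 11) = fourPair (gpt 11) (gpt 0) + (e8 (gpt 11) - fourPair (gpt 11) (gpt 0)) := by
        abel
      have hd : Good ψ (e8 (gpt 11) - fourPair (gpt 11) (gpt 0)) := by
        refine good_fourDiff hadd hsurj h2 hZ hinv hne.symm _ fun p => ?_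
        rw [AddSubgroup.coe_sub, Pi.sub_apply, fourPair_apply]
        show (Pi.single (gpt 11) 8 : GolayPt → ℤ) p - _ = _
        rw [Pi.single_apply]
        split_ifs <;> ring
      have hp := good_fourPair hadd hsurj h2 hZ hinv hne.symm
      obtain ⟨a, ha⟩ := QuotientGroup.mk_surjective (ψ (fourPair (gpt 11) (gpt 0)))
      obtain ⟨b, hb⟩ := QuotientGroup.mk_surjective (ψ (e8 (gpt 11) - fourPair (gpt 11) (gpt 0)))
      have hne2 : gpt 1 ≠ gpt 11 ∧ gpt 1 ≠ gpt 0 := by decide
      have hcomm : Comm ψ (fourPair (gpt 11) (gpt 0)) (e8 (gpt 11) - fourPair (gpt 11) (gpt 0)) := by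
        have h1 := comm_share hadd hsurj h2 hZ hinv hne.symm hne2.1.symm
        have h3 : Comm ψ (fourPair (gpt 0) (gpt 11)) (fourPair (gpt 0) (gpt 1)) :=
          comm_share hadd hsurj h2 hZ hinv hne hne2.2.symm
        have hsw : fourPair (gpt 0) (gpt 11) = fourPair (gpt 11) (gpt 0) :=
          Subtype.ext (add_comm _ _)
        rw [hsw] at h3
        refine ((h1.add hadd hsurj h3)).congr rfl ?_
        rw [← map_sub' hadd h2]
        congr 1
        refine Subtype.ext (funext fun p => ?_)
        simp only [AddSubgroup.coe_sub, Pi.sub_apply, fourPair_apply]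
        show _ = (Pi.single (gpt 11) 8 : GolayPt → ℤ) p - _
        rw [Pi.single_apply]
        split_ifs <;> ring
      obtain ⟨c, hc, rfl⟩ := lift_unique
        (show ψ (e8 (gpt 11)) = QuotientGroup.mk (a * b) by
          rw [← lift_mul hadd ha.symm hb.symm]; exact congrArg ψ e8eq) hq
      rw [mul_assoc, ← mul_assoc c, ← Subgroup.mem_center_iff.1 hc (a * b), mul_assoc (a * b) c,
        center_sq hZ hc, mul_one]
      calc a * b * (a * b) = a * (b * a) * b := by group
        _ = (a * a) * (b * b) := by rw [← hcomm a b ha.symm hb.symm]; group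
        _ = 1 := by rw [hp a ha.symm, hd b hb.symm, one_mul]
  have hne11 : ∀ k : Fin 12, k.val < 11 → gpt (k.castLE (by norm_num)) ≠ gpt 11 := by
    intro k hk e
    have := congrArg (fun p => (gidx p).val) e
    simp only [gidx_gpt] at this
    exact absurd this (by simp; omega)
  have hsw : ∀ i j : GolayPt, fourPair i j = fourPair j i := fun i j => Subtype.ext (add_comm _ _)
  have hcomm : ∀ k l, Comm ψ (gen k) (gen l) := by
    have hlast : ∀ k : Fin 12, k.val < 11 →
        Comm ψ (fourPair (gpt 11) (gpt (k.castLE (by norm_num)))) (e8 (gpt 11)) := by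
      intro k hk
      set i := gpt 11
      set j := gpt (k.castLE (by norm_num) : Fin 24)
      obtain ⟨m, hmi, hmj⟩ : ∃ m : GolayPt, m ≠ i ∧ m ≠ j := by
        refine ⟨gpt 12, by decide, fun e => ?_⟩
        have h12 := congrArg (fun p => (gidx p).val) e
        simp only [j, gidx_gpt] at h12
        exact absurd h12 (by simp; omega)
      have h1 := comm_share hadd hsurj h2 hZ hinv (hne11 k hk).symm hmi.symm
      have h3 := comm_share hadd hsurj h2 hZ hinv (hne11 k hk) hmj.symm
      rw [hsw] at h3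
      have h5 := (comm_share hadd hsurj h2 hZ hinv (hne11 k hk).symm (hne11 k hk).symm).add hadd
        hsurj (h1.add hadd hsurj h3)
      refine h5.congr rfl ?_
      rw [hadd, ← map_sub' hadd h2 (fourPair i m), ← hadd]
      congr 1
      refine Subtype.ext (funext fun p => ?_)
      simp only [AddSubgroup.coe_add, AddSubgroup.coe_sub, Pi.add_apply, Pi.sub_apply,
        fourPair_apply]
      show _ = (Pi.single i 8 : GolayPt → ℤ) p
      rw [Pi.single_apply]
      split_ifs <;> ring
    intro k l
    unfold gen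
    split_ifs with hk hl hl
    · rw [hsw _ (gpt 11), hsw _ (gpt 11)]
      exact comm_share hadd hsurj h2 hZ hinv (hne11 k hk).symm (hne11 l hl).symm
    · rw [hsw _ (gpt 11)]; exact hlast k hk
    · rw [hsw _ (gpt 11)]; exact (hlast l hl).symm
    · intro a b ha hb
      obtain ⟨c, hc, rfl⟩ := lift_unique ha hb
      rw [mul_assoc a c a, ← Subgroup.mem_center_iff.1 hc a]
  set T : Set Q := {q | ∃ k, ψ (gen k) = QuotientGroup.mk q} ∪ (Subgroup.center Q : Set Q) with hT
  have hTc : ∀ a ∈ T, ∀ b ∈ T, a * b = b * a := by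
    rintro a (⟨k, ha⟩ | ha) b (⟨l, hb⟩ | hb)
    · exact hcomm k l a b ha hb
    · exact Subgroup.mem_center_iff.1 hb a
    · exact (Subgroup.mem_center_iff.1 ha b).symm
    · exact Subgroup.mem_center_iff.1 hb a
  have hTs : ∀ a ∈ T, a * a = 1 := by
    rintro a (⟨k, ha⟩ | ha)
    · exact hgood k a ha
    · exact center_sq hZ ha
  let E := Subgroup.closure T
  haveI : IsMulCommutative E := Subgroup.isMulCommutative_closure hTc
  have hcm : ∀ a ∈ E, ∀ b ∈ E, a * b = b * a := fun a ha b hb =>
    congrArg Subtype.val (IsMulCommutative.is_comm.comm (⟨a, ha⟩ : E) ⟨b, hb⟩)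
  have hEs : ∀ a ∈ E, a * a = 1 := by
    intro a ha
    induction ha using Subgroup.closure_induction with
    | mem x hx => exact hTs x hx
    | one => exact mul_one 1
    | mul x y hx hy ihx ihy =>
      calc x * y * (x * y) = x * (y * x) * y := by group
        _ = x * x * (y * y) := by rw [hcm y hy x hx]; group
        _ = 1 := by rw [ihx, ihy, one_mul]
    | inv x _ ih => rw [← mul_inv_rev, ih, inv_one]
  let A : AddSubgroup leechLattice :=
    { carrier := {v | ∀ q, ψ v = QuotientGroup.mk q → q ∈ E}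
      zero_mem' := fun q hq => Subgroup.subset_closure (Or.inr (by
        rw [map_zero' hadd, eq_comm, QuotientGroup.eq_one_iff] at hq
        exact hq))
      add_mem' := fun {v w} hv hw q hq => by
        obtain ⟨a, ha⟩ := QuotientGroup.mk_surjective (ψ v)
        obtain ⟨b, hb⟩ := QuotientGroup.mk_surjective (ψ w)
        obtain ⟨c, hc, rfl⟩ := lift_unique (lift_mul hadd ha.symm hb.symm) hq
        exact mul_mem (mul_mem (hv a ha.symm) (hw b hb.symm))
          (Subgroup.subset_closure (Or.inr hc))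
      neg_mem' := fun {v} hv q hq => hv q ((map_neg' hadd h2 v).symm.trans hq) }
  let f : (Fin 12 → Fin 2) → leechLattice := fun c => ∑ k, ((c k).val : ℤ) • gen k
  have hgA : ∀ k, gen k ∈ A := fun k q hq => Subgroup.subset_closure (Or.inl ⟨k, hq⟩)
  have hfA : ∀ c, f c ∈ A := fun c =>
    sum_mem fun k _ => zsmul_mem (hgA k) _
  choose L hL using fun c => QuotientGroup.mk_surjective (ψ (f c))
  let F : (Fin 12 → Fin 2) × Subgroup.center Q → E := fun cz =>
    ⟨L cz.1 * cz.2.1, mul_mem (hfA cz.1 _ (hL cz.1).symm) (Subgroup.subset_closure (Or.inr cz.2.2))⟩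
  have hF : Function.Injective F := by
    rintro ⟨c, z⟩ ⟨d, z'⟩ heq
    have heq' : L c * z.1 = L d * z'.1 := congrArg Subtype.val heq
    have hψ : ψ (f c) = ψ (f d) := by
      rw [← hL, ← hL]
      have := congrArg (QuotientGroup.mk : Q → Q ⧸ Subgroup.center Q) heq'
      rwa [QuotientGroup.mk_mul, QuotientGroup.mk_mul, (QuotientGroup.eq_one_iff _).2 z.2,
        (QuotientGroup.eq_one_iff _).2 z'.2, mul_one, mul_one] at this
    have h0 : ψ (f c - f d) = 1 := by
      rw [map_sub' hadd h2, hadd, hψ, ← hadd, h2]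
    obtain ⟨w, hw⟩ := (hker _).1 h0
    have hcd := gen_inj_mod c d w hw
    subst hcd
    exact Prod.ext rfl (Subtype.ext (mul_left_cancel heq'))
  have hcard : 2 ^ 13 ≤ Nat.card E := by
    haveI : Finite E := inferInstance
    refine le_trans ?_ (Nat.card_le_card_of_injective F hF)
    rw [Nat.card_prod, Nat.card_fun, Nat.card_fin, Nat.card_fin, hZ]
    norm_num
  haveI : Fact (Nat.Prime 2) := ⟨Nat.prime_two⟩
  obtain ⟨n, hn⟩ := IsPGroup.iff_card.1 (show IsPGroup 2 E from fun x => ⟨1, Subtype.ext (by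
    simpa [pow_two] using hEs x.1 x.2)⟩)
  have h13 : 13 ≤ n := (Nat.pow_le_pow_iff_right (by norm_num)).1 (hn ▸ hcard)
  obtain ⟨K, hK⟩ := Sylow.exists_subgroup_card_pow_prime 2
    (show 2 ^ 13 ∣ Nat.card E from hn ▸ pow_dvd_pow 2 h13)
  refine ⟨K.map E.subtype, ⟨⟨⟨?_⟩⟩, ?_⟩, ?_⟩
  · rintro ⟨a, ha⟩ ⟨b, hb⟩
    exact Subtype.ext (hcm a (Subgroup.map_subtype_le K ha) b (Subgroup.map_subtype_le K hb))
  · rintro a ha
    rw [pow_two]
    exact hEs a (Subgroup.map_subtype_le K ha)
  · rw [← hK]
    exact (Nat.card_congr (K.equivMapOfInjective _ E.subtype_injective).toEquiv).symm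

end Cfsg.Agent.S5408
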