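import Cfsg.Statements.S0358
import Cfsg.Agent.Lib.Concrete.Mathieu

set_option autoImplicit false
open Cfsg Cfsg.Lib.Concrete

namespace Cfsg.Agent.S0358

/-- The length-24 code built from the squares modulo 23 has dimension 12 over the field with two elements. -/
theorem result : Module.finrank (ZMod 2) Cfsg.golayCode = 12 := by
  have h : Nat.card golayCode = 4096 := by
    refine (Nat.card_congr (Equiv.ofBijective
      (fun c : Fin 4096 => (⟨word (combo c.val), mem_golayCode_iff.2 ⟨c.val, c.isLt, rfl⟩⟩ : golayCode))
      ⟨fun a b hab => ?_, fun ⟨w, hw⟩ => ?_⟩)).symm.trans (Nat.card_fin _)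
    · have := congrArg (fun w : golayCode => support₂ (w : GolayPt → ZMod 2)) hab
      simp only [support₂_word] at this
      have := mset_inj (combo_lt a.isLt) (combo_lt b.isLt) this
      exact Fin.ext (by rw [← combo_and a.isLt, ← combo_and b.isLt, this])
    · obtain ⟨c, hc, rfl⟩ := mem_golayCode_iff.1 hw
      exact ⟨⟨c, hc⟩, rfl⟩
  rw [Module.natCard_eq_pow_finrank (K := ZMod 2), Nat.card_zmod] at h
  exact Nat.pow_right_injective le_rfl (show 2 ^ Module.finrank (ZMod 2) golayCode = 2 ^ 12 by
    rw [h])

end Cfsg.Agent.S0358
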