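import Cfsg.Statements.S0815
import Cfsg.Agent.Lib.Linear.AutPSU.Out
-- import your own Cfsg.Agent.* helpers here

set_option autoImplicit false
open Cfsg

namespace Cfsg.Agent.S0815

/-- |Aut(PSU_n(q))| = gcd(n, q+1) · 2f · |PSU_n(q)| for q = p^f, n ≥ 3, (n, q) ≠ (3, 2); the form is realised over F with |F| = q². -/
theorem result {F : Type*} [Field F] [Fintype F] (p f : ℕ) [Fact p.Prime] (hf : 1 ≤ f) {q : ℕ} (hq : q = p ^ f) (hF : Fintype.card F = q ^ 2) (n : ℕ) (hn : 3 ≤ n) (h32 : ¬ (n = 3 ∧ q = 2)) : Nat.card (MulAut (Cfsg.PSU n F q)) = Nat.gcd n (q + 1) * (2 * f) * Nat.card (Cfsg.PSU n F q) := by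
  have hcard : Fintype.card F = p ^ (2 * f) := by rw [hF, hq, ← pow_mul, mul_comm f]
  haveI : CharP F p := Cfsg.Lib.Linear.AutPSL.charP_of_card (by omega) hcard
  obtain ⟨E⟩ := Cfsg.Lib.Linear.AutPSL.exists_galEquiv (by omega) hcard
  obtain ⟨φ, hφ, -, hker⟩ := Cfsg.Lib.Linear.AutPSU.exists_outHom hF p hn h32 E
  haveI : NeZero (2 * f) := ⟨by omega⟩
  have hout : Nat.card (Cfsg.Out (Cfsg.PSU n F q)) = Nat.gcd n (q + 1) * (2 * f) := by
    rw [← Subgroup.card_mul_index φ.ker, hker, Subgroup.index_ker, MonoidHom.range_eq_top.2 hφ,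
      Nat.card_congr (Subgroup.topEquiv (G := Multiplicative (ZMod (2 * f)))).toEquiv,
      Nat.card_congr Multiplicative.toAdd, Nat.card_zmod]
  have hinn : Nat.card (Cfsg.Inn (Cfsg.PSU n F q)) = Nat.card (Cfsg.PSU n F q) :=
    (Nat.card_congr (MonoidHom.ofInjective (Cfsg.Lib.Linear.AutPSU.inn_injective hF p hn)).toEquiv).symm
  rw [Subgroup.card_eq_card_quotient_mul_card_subgroup (Cfsg.Inn (Cfsg.PSU n F q)), hinn]
  exact congrArg (· * _) hout

end Cfsg.Agent.S0815
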