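import Cfsg.Statements.S0402
import Cfsg.Agent.Lib.Concrete.LeechSimpleGroups

set_option autoImplicit false
open Cfsg

namespace Cfsg.Agent.S0402

/-- Stabiliser of a minimal vector is simple of order 42305421312000. -/
theorem result (v : Cfsg.leechLattice) (hv : Cfsg.sqNorm (v : Cfsg.GolayPt → ℤ) = 32) : Cfsg.IsCo2 (MulAction.stabilizer Cfsg.Co0 v) := by
  obtain ⟨g, rfl⟩ := Cfsg.Lib.Concrete.exists_smul_eq_of_moves
    (Cfsg.Lib.Concrete.moves32 Cfsg.Lib.Concrete.threeL.2 Cfsg.Lib.Concrete.threeL_norm)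
    (Cfsg.Lib.Concrete.moves32 v.2 hv)
  obtain ⟨hs, hc⟩ := Cfsg.Lib.Concrete.isCo2_three
  have e := MulAction.stabilizerEquivStabilizer (g := g) (a := Cfsg.Lib.Concrete.threeL) rfl
  exact ⟨e.isSimpleGroup_congr.1 hs, (Nat.card_congr e.toEquiv).symm.trans hc⟩

end Cfsg.Agent.S0402
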