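import Cfsg.Statements.S1684
import Cfsg.Agent.Lib.CosetEnum.Groups.Fi22Simple
import Cfsg.Agent.Lib.CosetEnum.Fi22U62.Valid
import Cfsg.Agent.Lib.CosetEnum.Central
import Cfsg.Agent.Lib.CosetEnum.Restrict
import Cfsg.Agent.Lib.CosetEnum.U62Geom
import Cfsg.Agent.Lib.CosetEnum.Fi22U62Pts.Valid
import Cfsg.Agent.Lib.CosetEnum.Fi22U62Pts.Points
import Cfsg.Agent.Lib.CosetEnum.Fi22U62Pts.Kernel
-- import your own Cfsg.Agent.* helpers here

set_option autoImplicit false
open Cfsg

namespace Cfsg.Agent.S1684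

open Cfsg.Lib.CosetEnum Cfsg.Spor
open scoped Matrix

set_option maxRecDepth 100000

/-- The point with a number. -/
noncomputable def pt (j : Fin 693) : Fin 6 → GF4 := GF4.vec (Fi22U62Pts.tabV.getP j.1)

theorem pt_distinct (i j : Fin 693) (c : GF4) (hc : c ≠ 0) (h : c • pt i = pt j) : i = j := by
  have hi := (GF4.pointsOK_get Fi22U62Pts.points_ok i.1 (Nat.zero_le _) (by omega)).1
  have hj := (GF4.pointsOK_get Fi22U62Pts.points_ok j.1 (Nat.zero_le _) (by omega)).1 1
    (by decide)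
  have hmem : ∀ l : GF4, l ≠ 0 → l ∈ [GF4.i, GF4.w, GF4.v] := by decide
  have h1 := hi c (hmem c hc)
  have e : GF4.smulV (1 : GF4) (GF4.vec (Fi22U62Pts.tabV.getP j.1)) =
      GF4.smulV c (GF4.vec (Fi22U62Pts.tabV.getP i.1)) := by
    funext k
    show (1 : GF4) * _ = c * _
    rw [one_mul]
    exact (congrFun h k).symm
  rw [e] at hj
  exact Fin.ext (h1.symm.trans hj)

theorem perm_induced : ∀ σ ∈ tperm Fi22U62Pts.tabP 9 693 '' {g | g < 9},
    ∃ A, GF4.Maps pt A σ := by
  rintro _ ⟨g, hg, rfl⟩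
  replace hg : g < 9 := hg
  rcases g with _ | g
  · refine ⟨1, fun j => ⟨1, one_ne_zero, ?_⟩⟩
    have h0 := (GF4.pointsOK_get Fi22U62Pts.points_ok j.1 (Nat.zero_le _) (by omega)).2.1
    have : tperm Fi22U62Pts.tabP 9 693 0 j = j :=
      Fin.ext (by rw [tperm_apply Fi22U62Pts.perm_ok hg]; exact h0)
    rw [this, one_smul, Subgroup.coe_one, Matrix.SpecialLinearGroup.coe_one, Matrix.one_mulVec]
  · have hlen : Fi22U62Pts.centres.length = 8 := by decide +kernel
    have hiso : GF4.herm (GF4.vec (Fi22U62Pts.centres.getD g 0))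
        (GF4.vec (Fi22U62Pts.centres.getD g 0)) = 0 := by
      have hgl : g < Fi22U62Pts.centres.length := by omega
      rw [List.getD_eq_getElem _ _ hgl]
      exact of_decide_eq_true
        (List.all_eq_true.1 Fi22U62Pts.centres_ok _ (List.getElem_mem hgl))
    refine ⟨GF4.transvection _ hiso, fun j => ?_⟩
    obtain ⟨l, hl, he⟩ := (GF4.pointsOK_get Fi22U62Pts.points_ok j.1 (Nat.zero_le _) (by omega)).2.2
      g (by omega)
    refine ⟨l, (show ∀ l ∈ [GF4.i, GF4.w, GF4.v], l ≠ 0 by decide) l hl, ?_⟩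
    show GF4.cmat _ *ᵥ pt j = _
    rw [GF4.cmat_mulVec, pt, GF4.code_injective he]
    have hi : (tperm Fi22U62Pts.tabP 9 693 (g + 1) j).1 = img Fi22U62Pts.tabP 9 (g + 1) j.1 :=
      tperm_apply Fi22U62Pts.perm_ok hg j
    funext k
    show l * _ = l * GF4.vec (Fi22U62Pts.tabV.getP (tperm Fi22U62Pts.tabP 9 693 (g + 1) j).1) k
    rw [hi]

theorem card_points_group :
    9196830720 ≤ Nat.card (Subgroup.closure (tperm Fi22U62Pts.tabP 9 693 '' {g | g < 9})) := by
  have hb : BaseOK Fi22U62Pts.tabP 9 693 [Fi22U62Pts.level0, Fi22U62Pts.level1, Fi22U62Pts.level2,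
      Fi22U62Pts.level3, Fi22U62Pts.level4] :=
    ⟨Fi22U62Pts.nest0_ok, Fi22U62Pts.orbit0_ok, Fi22U62Pts.nest1_ok, Fi22U62Pts.orbit1_ok,
      Fi22U62Pts.nest2_ok, Fi22U62Pts.orbit2_ok, Fi22U62Pts.nest3_ok, Fi22U62Pts.orbit3_ok,
      Fi22U62Pts.nest4_ok, Fi22U62Pts.orbit4_ok, trivial⟩
  have h := base_le (tperm Fi22U62Pts.tabP 9 693) (MonoidHom.id _) Fi22U62Pts.perm_ok (by decide)
    (fun g _ => rfl) hb
  refine le_trans (le_trans (by decide +kernel) h) ?_
  rw [Subgroup.map_id]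
  refine Subgroup.card_le_of_le ((Subgroup.closure_le _).2 ?_)
  rintro _ ⟨u, hu, rfl⟩
  have hlt : ∀ u ∈ Fi22U62Pts.level0.U, ∀ g ∈ u, g < 9 := by decide +kernel
  refine Subgroup.closure_mono ?_ (wordVal_mem _ (S := List.range 9) fun g hg =>
    ⟨List.mem_range.2 (hlt u hu g hg), by have := hlt u hu g hg; simp only [eps]; omega⟩)
  rintro _ ⟨g, hg, rfl⟩
  exact ⟨g, List.mem_range.1 hg, rfl⟩

/-- Membership in a subgroup of index two counts the letters outside it. -/
theorem wordVal_mem_iff_count {G : Type*} [Group G] {L : Subgroup G} (hL : L.index = 2)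
    (y : ℕ → G) (b : ℕ → Bool) : ∀ {w : List ℕ}, (∀ g ∈ w, g ≠ eps ∧ (y g ∈ L ↔ b g = false)) →
      (wordVal y w ∈ L ↔ Even (w.countP b))
  | [], _ => by simp [wordVal, one_mem]
  | g :: w, h => by
    have ih := wordVal_mem_iff_count hL y b (w := w) fun a ha => h a (by simp [ha])
    rw [wordVal, Subgroup.mul_mem_iff_of_index_two hL, gen, if_neg (h g (by simp)).1, ih,
      (h g (by simp)).2]
    cases hb : b g <;> simp [hb, Nat.even_add_one]

theorem center_psu : Subgroup.center (Cfsg.PSU 6 GF4 2) = ⊥ := by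
  have : IsSimpleGroup (Cfsg.PSU 6 GF4 2) :=
    Cfsg.Lib.Linear.Herm.psu_simple (q := 2) (rfl : Fintype.card GF4 = 2 ^ 2) (by norm_num)
  have hc := GF4.card_psu.1
  refine ((Subgroup.center (Cfsg.PSU 6 GF4 2)).normal_of_characteristic.eq_bot_or_eq_top).resolve_right
    fun h => ?_
  let : CommGroup (Cfsg.PSU 6 GF4 2) := Group.commGroupOfCenterEqTop h
  have : Finite (Cfsg.PSU 6 GF4 2) := Nat.finite_of_card_ne_zero (by omega)
  have := IsSimpleGroup.prime_card (α := Cfsg.PSU 6 GF4 2)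
  rw [hc] at this
  exact Nat.not_prime_mul (a := 2) (b := 4598415360) (by decide) (by decide) this

/-- In the presented Fischer group Fi₂₂, the subgroup generated by the images of a, c, d, e, f, g, h, i and (abcdeh)^5 is a non-split double cover of PSU(6, 2) (realised over a field with four elements). -/
theorem result : ∃ (K : Type) (_ : Field K) (_ : Fintype K), Fintype.card K = 4 ∧ Cfsg.IsNonsplitDoubleCover (((Subgroup.closure ({Cfsg.Spor.Fi22.a, Cfsg.Spor.Fi22.c, Cfsg.Spor.Fi22.d, Cfsg.Spor.Fi22.e, Cfsg.Spor.Fi22.f, Cfsg.Spor.Fi22.g, Cfsg.Spor.Fi22.h, Cfsg.Spor.Fi22.i, (Cfsg.Spor.Fi22.a * Cfsg.Spor.Fi22.b * Cfsg.Spor.Fi22.c * Cfsg.Spor.Fi22.d * Cfsg.Spor.Fi22.e * Cfsg.Spor.Fi22.h) ^ 5} : Set (FreeGroup Cfsg.Spor.Fi22.Gen))).map (PresentedGroup.mk (Cfsg.Spor.coxRelators Cfsg.Spor.Fi22.edges ∪ {r | r ∈ Cfsg.Spor.Fi22.extra})))) (Cfsg.PSU 6 K 2) := by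
  let N := Fi22Pres.numbering
  let x : ℕ → Cfsg.Spor.Fi22 := N.gens Fi22.extra
  have hx : ∀ g, x g * x g = 1 := N.gens_mul_self Fi22.extra
  have hk : N.k ≤ eps := by decide
  have hR : Fi22U62.cert.R0 = N.pairs ++ Fi22Pres.extra := by decide +kernel
  have hrel : ∀ r ∈ Fi22U62.cert.R0, wordVal x r = 1 := fun r hr =>
    N.wordVal_gens hk (Fi22Pres.map_extra x hx) r (hR ▸ hr)
  obtain ⟨f, hf⟩ := N.exists_hom hk Fi22.extra Fi22U62.cert_valid hR rfl
    (Fi22Pres.map_extra _ fun g => tperm_mul_self _ _ _ g)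
  have hgen := N.closure_gens Fi22.extra
  have hK := N.map_closure Fi22.extra (Us := [Fi22.a, Fi22.c, Fi22.d, Fi22.e, Fi22.f, Fi22.g, Fi22.h, Fi22.i,
      (Fi22.a * Fi22.b * Fi22.c * Fi22.d * Fi22.e * Fi22.h) ^ 5])
    (U := Fi22U62.subWords)
    (by simp [Fi22U62.subWords, wordVal, gen, eps, N, Fi22Pres.numbering, Fi22Pres.num, pow_succ, mul_assoc])
    (s := {Fi22.a, Fi22.c, Fi22.d, Fi22.e, Fi22.f, Fi22.g, Fi22.h, Fi22.i,
      (Fi22.a * Fi22.b * Fi22.c * Fi22.d * Fi22.e * Fi22.h) ^ 5})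
    (by ext w; simp)
  obtain ⟨hidx, Φ, hΦ, heq, h0⟩ := Fi22U62.cert_valid.index_eq hx hgen hrel f hf hK
  replace hidx : _ = 3510 := hidx
  have : IsSimpleGroup Cfsg.Spor.Fi22 := Fi22Pres.isFi22.1
  have hcardG : Nat.card Cfsg.Spor.Fi22 = 64561751654400 := Fi22Pres.isFi22.2
  have : Finite Cfsg.Spor.Fi22 := Nat.finite_of_card_ne_zero (by rw [hcardG]; decide)
  have hinj : Function.Injective f := by
    rw [← MonoidHom.ker_eq_bot_iff]
    refine (f.normal_ker.eq_bot_or_eq_top).resolve_right fun h => ?_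
    have h1 : f (x 1) = 1 := f.mem_ker.1 (h ▸ Subgroup.mem_top _)
    rw [show f (x 1) = tperm Fi22U62.cert.step.P Fi22U62.cert.step.k Fi22U62.cert.step.n 1 from
      hf 1 (by decide)] at h1
    have h2 := congrArg Fin.val (congrArg (fun σ : Equiv.Perm _ => σ (⟨0, by decide⟩ : Fin Fi22U62.cert.step.n)) h1)
    rw [tperm_apply Fi22U62.cert_valid.perm (by decide)] at h2
    exact absurd h2 (show img Fi22U62.tabP 9 1 0 ≠ 0 by decide +kernel)
  set H := (Subgroup.closure _).map (PresentedGroup.mk _) with hH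
  obtain ⟨ρ, hρgen, hρrange, hρact⟩ := exists_restrict (k' := 9) x f (k := 9) Fi22U62.cert_valid.perm
    (by decide) hf Fi22U62.orb0_ok Fi22U62Pts.perm_ok Fi22U62Pts.restrict_ok (by decide) hK
  obtain ⟨hcardM, ⟨e0⟩⟩ := GF4.equiv_psu pt_distinct perm_induced card_points_group
  have hcardR : Nat.card ρ.range = 9196830720 := by rw [hρrange]; exact hcardM
  let e : ρ.range ≃* Cfsg.PSU 6 GF4 2 := (MulEquiv.subgroupCongr hρrange).trans e0
  have hcardH : Nat.card H = 18393661440 := by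
    have := Subgroup.card_mul_index H
    rw [hidx, hcardG] at this
    omega
  have hker : Nat.card ρ.ker = 2 := by
    have h := Subgroup.card_eq_card_quotient_mul_card_subgroup ρ.ker
    rw [Nat.card_congr (QuotientGroup.quotientKerEquivRange ρ).toEquiv, hcardR, hcardH] at h
    omega
  have hmem : ∀ g, wordVal x (Fi22U62.subWords.getD g []) ∈ H := fun g => by
    rw [hK]
    rcases Nat.lt_or_ge g Fi22U62.subWords.length with h | h
    · rw [List.getD_eq_getElem _ _ h]
      exact Subgroup.subset_closure ⟨_, List.getElem_mem h, rfl⟩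
    · rw [List.getD_eq_default _ _ h]
      exact one_mem _
  let u : ℕ → H := fun g => ⟨_, hmem g⟩
  have hu0 : u 0 ∈ ρ.ker := by
    rw [MonoidHom.mem_ker, hρgen 0 (by decide)]
    exact Equiv.ext fun j => Fin.ext (by
      rw [tperm_apply Fi22U62Pts.perm_ok (by decide)]
      exact (GF4.pointsOK_get Fi22U62Pts.points_ok j.1 (Nat.zero_le _) (by omega)).2.1)
  have ha1 : u 0 ≠ 1 := by
    intro h
    have h1 : f (x 0) = 1 := by
      have : wordVal x (Fi22U62.subWords.getD 0 []) = 1 := congrArg Subtype.val h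
      rw [show Fi22U62.subWords.getD 0 [] = [0] from rfl] at this
      simp only [wordVal, gen, eps, one_mul] at this
      rw [show x 0 = 1 from this, map_one]
    obtain ⟨p, hp, hne⟩ : ∃ p < 3510, img Fi22U62.tabP 9 0 p ≠ p := ⟨1, by decide, by decide +kernel⟩
    rw [show f (x 0) = tperm Fi22U62.cert.step.P Fi22U62.cert.step.k Fi22U62.cert.step.n 0 from
      hf 0 (by decide)] at h1
    have h2 := congrArg Fin.val (congrArg (fun σ : Equiv.Perm _ => σ (⟨p, hp⟩ : Fin Fi22U62.cert.step.n)) h1)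
    rw [tperm_apply Fi22U62.cert_valid.perm (by decide)] at h2
    exact hne h2
  have hkc : ρ.ker ≤ Subgroup.center H := by
    intro z hz
    rw [Subgroup.mem_center_iff]
    intro g
    obtain ⟨a, b, -, hab⟩ := Nat.card_eq_two_iff.1 hker
    by_cases hz1 : z = 1
    · simp [hz1]
    have h2 : g * z * g⁻¹ ∈ ρ.ker := ρ.normal_ker.conj_mem z hz g
    have hne : g * z * g⁻¹ ≠ 1 := fun h => hz1 (conj_eq_one_iff.1 h)
    have huniv : ∀ c : ρ.ker, c = 1 ∨ c = ⟨z, hz⟩ := by
      intro c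
      have hc := hab.symm.subset (Set.mem_univ c)
      have h1 := hab.symm.subset (Set.mem_univ (1 : ρ.ker))
      have h3 := hab.symm.subset (Set.mem_univ (⟨z, hz⟩ : ρ.ker))
      simp only [Set.mem_insert_iff, Set.mem_singleton_iff] at hc h1 h3
      have : (1 : ρ.ker) ≠ ⟨z, hz⟩ := fun h => hz1 (congrArg Subtype.val h).symm
      grind
    rcases huniv ⟨_, h2⟩ with h | h
    · exact absurd (congrArg Subtype.val h) hne
    · have h4 : g * z * g⁻¹ = z := congrArg Subtype.val h
      calc g * z = g * z * g⁻¹ * g := by group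
        _ = z * g := by rw [h4]
  have hcen : Subgroup.center H = ρ.ker := by
    refine le_antisymm (fun c hc => ?_) hkc
    have h1 : e ⟨ρ c, c, rfl⟩ ∈ Subgroup.center (Cfsg.PSU 6 GF4 2) := by
      rw [Subgroup.mem_center_iff]
      intro q
      obtain ⟨⟨_, d, rfl⟩, rfl⟩ := e.surjective q
      rw [← map_mul, ← map_mul]
      congr 1
      exact Subtype.ext (by
        show ρ d * ρ c = ρ c * ρ d
        rw [← map_mul, ← map_mul, Subgroup.mem_center_iff.1 hc d])
    rw [center_psu, Subgroup.mem_bot, ← map_one e, e.injective.eq_iff] at h1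
    exact congrArg Subtype.val h1
  refine ⟨GF4, inferInstance, inferInstance, GF4.card_eq, by rw [hcen, hker],
    ⟨(QuotientGroup.quotientMulEquivOfEq hcen).trans
      ((QuotientGroup.quotientKerEquivRange ρ).trans e)⟩, ?_⟩
  intro L hL
  have hidx2 : L.index = 2 := by rw [hL.index_eq_card, hcen, hker]
  have ha : u 0 ∉ L := fun h => by
    have h1 : u 0 ∈ Subgroup.center H ⊓ L := ⟨hcen ▸ hu0, h⟩
    rw [hL.disjoint.eq_bot] at h1
    exact ha1 h1
  have hword : wordVal u Fi22U62Pts.centreWord = u 0 := by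
    apply Subtype.ext
    have hmap : ∀ w : List ℕ, (∀ g ∈ w, g ≠ eps) →
        ((wordVal u w : H) : Cfsg.Spor.Fi22) =
          wordVal x (w.map fun g => Fi22U62.subWords.getD g []).flatten := by
      intro w
      induction w with
      | nil => intro _; rfl
      | cons g w ih =>
        intro h
        rw [wordVal, Subgroup.coe_mul, ih fun a ha => h a (by simp [ha]), List.map_cons,
          List.flatten_cons, wordVal_append, gen, if_neg (h g (by simp))]
    rw [hmap _ (by decide +kernel)]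
    have hw : Fi22U62Pts.kerWord =
        (Fi22U62Pts.centreWord.map fun g => Fi22U62.subWords.getD g []).flatten ++ [0] := by
      decide +kernel
    have h1 : f (wordVal x Fi22U62Pts.kerWord) = f 1 := by
      rw [map_one, map_wordVal_tperm x f (k := 9) (by decide) hf (by decide +kernel)]
      exact wordVal_tperm_eq_one Fi22U62Pts.kerWord_ok (by decide) (List.mem_singleton_self _)
    replace h1 := hinj h1
    rw [hw, wordVal_append] at h1
    have hx0 : wordVal x [0] = x 0 := by simp [wordVal, gen, eps]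
    rw [hx0] at h1
    show _ = wordVal x (Fi22U62.subWords.getD 0 [])
    rw [show Fi22U62.subWords.getD 0 [] = [0] from rfl, hx0]
    rw [eq_inv_of_mul_eq_one_right h1]
    exact inv_eq_of_mul_eq_one_left (hx 0)
  have hadj : ∀ p ∈ [(1, 2), (2, 3), (2, 6), (3, 4), (4, 5), (6, 7)],
      (u p.1 ∈ L ↔ u p.2 ∈ L) := by
    intro p hp
    refine mem_iff_of_braid hidx2 ?_
    have hw : ∃ a b, Fi22U62.subWords.getD p.1 [] = [a] ∧ Fi22U62.subWords.getD p.2 [] = [b] ∧
        a < 9 ∧ b < 9 ∧ (List.replicate 3 [b, a]).flatten ∈ Fi22U62.cert.R0 := by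
      simp only [List.mem_cons, List.not_mem_nil, or_false] at hp
      rcases hp with rfl | rfl | rfl | rfl | rfl | rfl
      all_goals exact ⟨_, _, rfl, rfl, by decide, by decide, by decide +kernel⟩
    obtain ⟨a, b, hA, hB, ha9, hb9, hr⟩ := hw
    apply Subtype.ext
    have := hrel _ hr
    rw [wordVal_replicate x _ _ (by simp only [eps]; omega) (by simp only [eps]; omega)] at this
    have hv : ∀ g c, c < 9 → Fi22U62.subWords.getD g [] = [c] → ((u g : H) : Cfsg.Spor.Fi22) = x c := by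
      intro g c hc hgc
      show wordVal x (Fi22U62.subWords.getD g []) = x c
      rw [hgc]
      simp [wordVal, gen, eps, show c ≠ 31 by omega]
    rw [SubmonoidClass.coe_pow, Subgroup.coe_mul, hv _ a ha9 hA, hv _ b hb9 hB, this]
    rfl
  simp only [List.mem_cons, List.not_mem_nil, or_false, forall_eq_or_imp, forall_eq] at hadj
  obtain ⟨b1, b2, b3, b4, b5, b6⟩ := hadj
  classical
  let b : ℕ → Bool := fun g => if g = 8 then decide (u 8 ∉ L) else decide (u 1 ∉ L)
  have hb : ∀ g ∈ Fi22U62Pts.centreWord, g ≠ eps ∧ (u g ∈ L ↔ b g = false) := by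
    intro g hg
    have h18 : 1 ≤ g ∧ g ≤ 8 :=
      (show ∀ g ∈ Fi22U62Pts.centreWord, 1 ≤ g ∧ g ≤ 8 by decide +kernel) g hg
    refine ⟨by simp only [eps]; omega, ?_⟩
    obtain ⟨h1, h8⟩ := h18
    have hs : ∀ k, 1 ≤ k → k ≤ 7 → (u k ∈ L ↔ u 1 ∈ L) := by
      intro k hk1 hk7
      interval_cases k
      exacts [Iff.rfl, b1.symm, (b1.trans b2).symm, ((b1.trans b2).trans b4).symm,
        (((b1.trans b2).trans b4).trans b5).symm, (b1.trans b3).symm,
        ((b1.trans b3).trans b6).symm]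
    by_cases hg8 : g = 8
    · subst hg8; simp [b]
    · simp only [b, if_neg hg8, decide_eq_false_iff_not, not_not]
      exact hs g h1 (by omega)
  have hev : ∀ s t : Bool, Even (Fi22U62Pts.centreWord.countP fun g => if g = 8 then t else s) := by
    decide +kernel
  exact ha (hword ▸ (wordVal_mem_iff_count hidx2 u b hb).2 (hev (decide (u 1 ∉ L)) (decide (u 8 ∉ L))))

end Cfsg.Agent.S1684
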