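import Cfsg.Statements.S2585


set_option autoImplicit false
open Cfsg

namespace Cfsg.Agent.S2585

/-- Over a finite field of characteristic two every element of the symplectic group is orthogonal for a suitable quadratic form: for each A in Sp_2m(F) there is a quadratic form Q on F^(2m) whose polar form is the alternating form defining Sp_2m(F) (so Q is non-degenerate) and which A preserves. Equivalently, for m ≥ 1, Sp_2m(F) is the union of the conjugates of its two orthogonal subgroups O⁺_2m(F) and O⁻_2m(F). -/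
theorem result {F : Type*} [Field F] [Fintype F] [CharP F 2] {m : ℕ} (A : Matrix.symplecticGroup (Fin m) F) : ∃ Q : QuadraticForm F (Fin m ⊕ Fin m → F), (∀ u v : Fin m ⊕ Fin m → F, QuadraticMap.polar ⇑Q u v = Cfsg.sympForm m F u v) ∧ ∀ v : Fin m ⊕ Fin m → F, Q ((A : Matrix (Fin m ⊕ Fin m) (Fin m ⊕ Fin m) F).mulVec v) = Q v := by
  classical
  have h2 : (2 : F) = 0 := by exact_mod_cast CharP.cast_eq_zero F 2
  let M := (A : Matrix (Fin m ⊕ Fin m) (Fin m ⊕ Fin m) F)
  let Q₀ : QuadraticForm F (Fin m ⊕ Fin m → F) :=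
    ∑ i, QuadraticMap.linMulLin (LinearMap.proj (Sum.inl i) : (Fin m ⊕ Fin m → F) →ₗ[F] F) (LinearMap.proj (Sum.inr i))
  have hQ₀ : ∀ v, Q₀ v = ∑ i, v (Sum.inl i) * v (Sum.inr i) := fun v => by
    simp [Q₀]
  have hpol : ∀ u v : Fin m ⊕ Fin m → F, Q₀ (u + v) = Q₀ u + Q₀ v + Cfsg.sympForm m F u v := by
    intro u v
    rw [hQ₀, hQ₀, hQ₀, Cfsg.sympForm, Matrix.J, Matrix.fromBlocks_mulVec, dotProduct, Fintype.sum_sum_type]
    simp only [Sum.elim_inl, Sum.elim_inr, Pi.add_apply, Matrix.zero_mulVec, Matrix.neg_mulVec, Matrix.one_mulVec,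
      Pi.neg_apply, Pi.zero_apply, Function.comp_apply, add_zero, zero_add]
    rw [← Finset.sum_add_distrib, ← Finset.sum_add_distrib, ← Finset.sum_add_distrib]
    exact Finset.sum_congr rfl fun i _ => by linear_combination (u (Sum.inl i) * v (Sum.inr i)) * h2
  have hA : ∀ u v, Cfsg.sympForm m F (M.mulVec u) (M.mulVec v) = Cfsg.sympForm m F u v := by
    intro u v
    have h := SymplecticGroup.mem_iff'.mp A.2
    show (M.mulVec u) ⬝ᵥ (Matrix.J (Fin m) F).mulVec (M.mulVec v) = u ⬝ᵥ (Matrix.J (Fin m) F).mulVec v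
    rw [Matrix.dotProduct_mulVec, ← Matrix.mulVec_transpose, Matrix.mulVec_mulVec, ← Matrix.vecMul_transpose,
      Matrix.transpose_mul, Matrix.transpose_transpose, ← Matrix.dotProduct_mulVec, Matrix.mulVec_mulVec, h]
  have hsq : ∀ x : F, ∃ r : F, r ^ 2 = x := fun x => by
    obtain ⟨r, hr⟩ := FiniteField.isSquare_of_char_two (ringChar.eq F 2) x
    exact ⟨r, by rw [hr, pow_two]⟩
  choose rt hrt using hsq
  have hinj : ∀ x y : F, x ^ 2 = y ^ 2 → x = y := fun x y h => by
    rcases sq_eq_sq_iff_eq_or_eq_neg.mp h with h | h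
    · exact h
    · rw [h, CharTwo.neg_eq]
  let D : (Fin m ⊕ Fin m → F) → F := fun v => Q₀ (M.mulVec v) - Q₀ v
  let lam : (Fin m ⊕ Fin m → F) →ₗ[F] F :=
    { toFun := fun v => rt (D v)
      map_add' := fun u v => hinj _ _ (by
        rw [CharTwo.add_sq, hrt, hrt, hrt]
        show Q₀ (M.mulVec (u + v)) - Q₀ (u + v) = _
        rw [Matrix.mulVec_add, hpol, hpol, hA]
        ring)
      map_smul' := fun c v => hinj _ _ (by
        rw [RingHom.id_apply, smul_eq_mul, mul_pow, hrt, hrt]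
        show Q₀ (M.mulVec (c • v)) - Q₀ (c • v) = _
        rw [Matrix.mulVec_smul, QuadraticMap.map_smul, QuadraticMap.map_smul]
        simp only [smul_eq_mul, D]
        ring) }
  let N : (Fin m ⊕ Fin m → F) →ₗ[F] (Fin m ⊕ Fin m → F) := M.mulVecLin + LinearMap.id
  have hker : lam ∈ (LinearMap.ker N).dualAnnihilator := by
    rw [Submodule.mem_dualAnnihilator]
    intro v hv
    have hfix : M.mulVec v = v := funext fun i => CharTwo.add_eq_zero.mp (congrFun (LinearMap.mem_ker.mp hv) i)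
    refine hinj _ _ ?_
    show rt (D v) ^ 2 = _
    rw [hrt]
    show Q₀ (M.mulVec v) - Q₀ v = _
    rw [hfix, sub_self, zero_pow two_ne_zero]
  rw [← LinearMap.range_dualMap_eq_dualAnnihilator_ker] at hker
  obtain ⟨μ, hμ⟩ := hker
  have hmul : ∀ v, QuadraticMap.linMulLin μ μ v = μ v * μ v := fun v => rfl
  refine ⟨Q₀ + QuadraticMap.linMulLin μ μ, fun u v => ?_, fun v => ?_⟩
  · rw [QuadraticMap.polar, QuadraticMap.add_apply, QuadraticMap.add_apply, QuadraticMap.add_apply, hmul, hmul, hmul,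
      hpol, map_add]
    linear_combination (μ u * μ v) * h2
  · have h1 : lam v = μ (M.mulVec v) + μ v := by
      rw [← hμ, LinearMap.dualMap_apply]
      simp [N]
    have h2' : lam v ^ 2 = Q₀ (M.mulVec v) - Q₀ v := hrt _
    rw [h1] at h2'
    show (Q₀ + QuadraticMap.linMulLin μ μ) (M.mulVec v) = (Q₀ + QuadraticMap.linMulLin μ μ) v
    rw [QuadraticMap.add_apply, QuadraticMap.add_apply, hmul, hmul]
    linear_combination h2' + (Q₀ (M.mulVec v) - Q₀ v - μ v * μ v - μ v * μ (M.mulVec v)) * h2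

end Cfsg.Agent.S2585
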