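import Cfsg.Statements.S5985
import Cfsg.Agent.Lib.Linear.OrthFixPoint
-- import your own Cfsg.Agent.* helpers here

set_option autoImplicit false
open scoped MatrixGroups
open Cfsg

namespace Cfsg.Agent.S5985

open Cfsg.Lib.Linear.Orth Module
open scoped Matrix

variable {F : Type*} [Field F] [Fintype F]

/-- The shear `(u, w) ↦ (u + w ∘ rev, w)`. -/
def shearLin (d : ℕ) (F : Type*) [Field F] : (Fin d ⊕ Fin d → F) →ₗ[F] (Fin d ⊕ Fin d → F) where
  toFun v := Sum.elim (fun i => v (.inl i) + v (.inr i.rev)) (fun i => v (.inr i))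
  map_add' a b := by funext j; rcases j with j | j <;> simp; ring
  map_smul' c a := by funext j; rcases j with j | j <;> simp; ring

theorem two_eq_zero' {p : ℕ} [CharP F p] (hp : p = 2) : (2 : F) = 0 := by
  subst hp
  exact CharTwo.two_eq_zero

theorem exists_shear {d : ℕ} (hd : Even d) (hd0 : d ≠ 0) (h2 : (2 : F) = 0)
    (h : Fintype.card F ≠ 2 ∨ Fintype.card (Fin d ⊕ Fin d) ≠ 4) :
    ∃ x ∈ Cfsg.Geo.omegaGL (Cfsg.quadFormPlus d F), x ^ 2 = 1 ∧ x ≠ 1 ∧
      ∀ v, x.val *ᵥ v = v → Cfsg.quadFormPlus d F v = 0 := by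
  obtain ⟨B, C⟩ := exists_space_plus (F := F) d
  set M := LinearMap.toMatrix' (shearLin d F) with hM
  have hMv : ∀ v, M *ᵥ v = shearLin d F v := fun v => LinearMap.toMatrix'_mulVec _ _
  have hMM : M * M = 1 := mat_ext fun v => by
    rw [← Matrix.mulVec_mulVec, hMv, hMv, Matrix.one_mulVec]
    funext j
    rcases j with j | j <;> simp [shearLin]
    linear_combination v (.inr j.rev) * h2
  have hval : (toGL M).val = M := toGL_val hMM
  have hrev : ∀ i : Fin d, i.rev ≠ i := fun i hi => by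
    have hi' := congrArg Fin.val hi
    rw [Fin.val_rev] at hi'
    obtain ⟨k, hk⟩ := hd
    have := i.2
    omega
  have hiso : toGL M ∈ isometryGroup F (Cfsg.quadFormPlus d F) := mem_iso.mpr fun v => by
    rw [hval, hMv]
    have h0 : ∑ i : Fin d, v (.inr i.rev) * v (.inr i) = 0 :=
      Finset.sum_involution (fun i _ => i.rev)
        (fun i _ => by rw [Fin.rev_rev]; linear_combination v (.inr i.rev) * v (.inr i) * h2)
        (fun i _ _ => hrev i) (fun i _ => Finset.mem_univ _) (fun i _ => Fin.rev_rev i)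
    simp only [Cfsg.quadFormPlus, shearLin, LinearMap.coe_mk, AddHom.coe_mk, Sum.elim_inl,
      Sum.elim_inr, add_mul, Finset.sum_add_distrib, h0, add_zero]
  have hfix : ∀ v, (toGL M).val *ᵥ v = v ↔ ∀ i, v (.inr i) = 0 := fun v => by
    rw [hval, hMv]
    constructor
    · intro hv i
      have := congrFun hv (.inl i.rev)
      simpa [shearLin] using this
    · intro hv
      funext j
      rcases j with j | j <;> simp [shearLin, hv]
  let ι' : (Fin d → F) →ₗ[F] (Fin d ⊕ Fin d → F) :=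
    { toFun := fun u => Sum.elim u 0
      map_add' := fun a b => by funext j; rcases j with j | j <;> simp
      map_smul' := fun c a => by funext j; rcases j with j | j <;> simp }
  have hrange : fixSpace (toGL M) = LinearMap.range ι' := by
    ext v
    rw [mem_fixSpace, hfix]
    constructor
    · intro hv
      exact ⟨fun i => v (.inl i), by funext j; rcases j with j | j <;> simp [ι', hv]⟩
    · rintro ⟨u, rfl⟩ i
      rfl
  have hfr : finrank F (fixSpace (toGL M)) = d := by
    rw [hrange, LinearMap.finrank_range_of_inj fun a b h => funext fun i => congrFun h (.inl i),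
      finrank_fin_fun]
  refine ⟨toGL M, (mem_omegaGL_iff_even C h2 (by simp; omega) (by simp) h hiso).mpr (hfr.symm ▸ hd),
    Units.ext (by rw [Units.val_pow_eq_pow_val, hval, sq, hMM, Units.val_one]), fun h1 => ?_,
    fun v hv => by
      rw [Cfsg.quadFormPlus]
      exact Finset.sum_eq_zero fun i _ => by rw [(hfix v).mp hv i, mul_zero]⟩
  have := (hfix (Pi.single (.inr ⟨0, by omega⟩) 1)).mp (by rw [h1, Units.val_one, Matrix.one_mulVec]) ⟨0, by omega⟩
  simp at this

theorem exists_fpf_plus {d r : ℕ} [hr : Fact r.Prime] (hd : 1 ≤ d) (h2 : (2 : F) = 0)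
    (hrF : (r : F) ≠ 0) (hdiv : (r : ℤ) ∣ (Nat.card F : ℤ) ^ d - 1) :
    ∃ x ∈ isometryGroup F (Cfsg.quadFormPlus d F), x ^ r = 1 ∧ fixSpace x = ⊥ := by
  obtain ⟨B, C⟩ := exists_space_plus (F := F) d
  by_cases hq : (r : ℤ) ∣ (Nat.card F : ℤ) - 1
  · have hq' : r ∣ Nat.card Fˣ := by
      rw [Nat.card_units, ← Int.natCast_dvd_natCast, Nat.cast_sub Nat.card_pos, Nat.cast_one]
      exact hq
    obtain ⟨ζ, hζ⟩ := exists_prime_orderOf_dvd_card' r hq'
    have hζ1 : (ζ : F) ≠ 1 := fun h => by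
      rw [Units.val_eq_one.mp h, orderOf_one] at hζ
      exact hr.out.ne_one hζ.symm
    refine ⟨levGL d (Units.map (Matrix.scalar (Fin d) : F →+* _).toMonoidHom ζ), levGL_mem _,
      by rw [← map_pow, ← map_pow, ← hζ, pow_orderOf_eq_one, map_one, map_one],
      (Submodule.eq_bot_iff _).mpr fun v hv => ?_⟩
    rw [mem_fixSpace] at hv
    have hval : (levGL d (Units.map (Matrix.scalar (Fin d) : F →+* _).toMonoidHom ζ)).val =
        Matrix.fromBlocks (Matrix.diagonal fun _ => (ζ : F)) 0 0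
          (Matrix.diagonal fun _ => ((ζ⁻¹ : Fˣ) : F))ᵀ := rfl
    rw [hval, Matrix.fromBlocks_mulVec] at hv
    funext j
    have hj := congrFun hv j
    rcases j with j | j
    · simp [Matrix.mulVec_diagonal] at hj
      by_contra h0
      exact hζ1 ((mul_eq_right₀ h0).mp hj)
    · simp [Matrix.mulVec_diagonal] at hj
      by_contra h0
      exact hζ1 (inv_eq_one.mp ((mul_eq_right₀ h0).mp hj))
  · refine exists_fpf C h2 hrF ?_ ?_ hq
    · rw [sgCount_top, (counts_plus (F := F) d).1 (by omega), add_sub_cancel_right]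
      exact dvd_mul_of_dvd_left hdiv _
    · rw [Fintype.card_sum, Fintype.card_fin, ← two_mul, mul_comm, pow_mul]
      exact hdiv.trans (by
        rw [show ((Nat.card F : ℤ) ^ d) ^ 2 - 1 =
          ((Nat.card F : ℤ) ^ d - 1) * ((Nat.card F : ℤ) ^ d + 1) by ring]
        exact dvd_mul_right _ _)

/-- Elements of prime order of Ω⁺_n(q), q even, with no fixed nonsingular 1-space. Here `T = PΩ⁺_n(F)`, `n = 2d ≥ 8`, realised through `Ω⁺_n(q)`, the commutator subgroup of the isometry group of `Q = Σ xᵢyᵢ` over the field `F` with `q` elements; an element of `T` of prime order `r` is an element `x` of `Ω⁺_n(q)` with `x^r` scalar and `x` not scalar; `q` is even (so the centre is trivial). Let Ω be the set of 1-dimensional subspaces spanned by a vector `v` with `Q(v) ≠ 0`, and let `r` be a prime dividing their number. Then every element of `T` of order `r` fixes some nonsingular 1-space if and only if `r = 2` and `n ≡ 2 (mod 4)` (that is, `d` is odd). -/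
theorem result {F : Type*} [Field F] [Fintype F] {p : ℕ} [Fact p.Prime] [CharP F p] {q : ℕ} (hq : Fintype.card F = q)
    (hp : p = 2) (d : ℕ) (hd : 4 ≤ d) (r : ℕ) [Fact r.Prime]
    (hrΩ : r ∣ Nat.card {W : Submodule F (Fin d ⊕ Fin d → F) // Module.finrank F ↥W = 1 ∧ ∃ v ∈ W, Cfsg.quadFormPlus d F v ≠ 0}) :
    (∀ x : GL (Fin d ⊕ Fin d) F, x ∈ Cfsg.Geo.omegaGL (Cfsg.quadFormPlus d F) →
      (∃ z : F, ((x ^ r : GL (Fin d ⊕ Fin d) F) : Matrix (Fin d ⊕ Fin d) (Fin d ⊕ Fin d) F) = z • (1 : Matrix (Fin d ⊕ Fin d) (Fin d ⊕ Fin d) F)) →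
      (∀ z : F, (x : Matrix (Fin d ⊕ Fin d) (Fin d ⊕ Fin d) F) ≠ z • (1 : Matrix (Fin d ⊕ Fin d) (Fin d ⊕ Fin d) F)) →
      ∃ W : Submodule F (Fin d ⊕ Fin d → F), (Module.finrank F ↥W = 1 ∧ ∃ v ∈ W, Cfsg.quadFormPlus d F v ≠ 0) ∧ W.map (Matrix.toLin' (x : Matrix (Fin d ⊕ Fin d) (Fin d ⊕ Fin d) F)) ≤ W) ↔ (r = 2 ∧ Odd d) := by
  subst hp
  have h2 : (2 : F) = 0 := two_eq_zero' (p := 2) rfl
  obtain ⟨B, C⟩ := exists_space_plus (F := F) d
  have hr : r.Prime := Fact.out
  have hne : Fintype.card F ≠ 2 ∨ Fintype.card (Fin d ⊕ Fin d) ≠ 4 := Or.inr (by simp; omega)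
  have hn : 2 ≤ Fintype.card (Fin d ⊕ Fin d) := by simp; omega
  haveI : Nonempty (Fin d ⊕ Fin d) := ⟨.inl ⟨0, by omega⟩⟩
  constructor
  · intro hall
    by_contra hcon
    rcases hr.eq_two_or_odd' with rfl | hodd
    · obtain ⟨x, hx, hx2, hx1, hfix⟩ := exists_shear
        (Nat.not_odd_iff_even.mp fun ho => hcon ⟨rfl, ho⟩) (by omega) h2 hne
      exact not_forall_fix C h2 hx hx2 hx1 hfix hall
    · have hrne : ¬ 2 = r := fun h => by subst h; exact (by decide : ¬ Odd 2) hodd
      have hrF : (r : F) ≠ 0 := fun h =>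
        hrne ((Nat.prime_dvd_prime_iff_eq Nat.prime_two hr).mp ((CharP.cast_eq_zero_iff F 2 r).mp h))
      rw [card_points C h2] at hrΩ
      have hL := card_level C h2 (⊤ : Submodule F (Fin d ⊕ Fin d → F))
      rw [card_top, Fintype.card_sum, Fintype.card_fin, sgCount_top,
        (counts_plus (F := F) d).1 (by omega)] at hL
      obtain ⟨k, rfl⟩ : ∃ k, d = k + 1 := ⟨d - 1, by omega⟩
      rw [show 0 + (k + 1) - 1 = k by omega] at hL
      have hF : 1 < Nat.card F := Finite.one_lt_card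
      have hLe : (Nat.card {v : Fin (k + 1) ⊕ Fin (k + 1) → F //
          v ∈ (⊤ : Submodule F (Fin (k + 1) ⊕ Fin (k + 1) → F)) ∧
            Cfsg.quadFormPlus (k + 1) F v = 1} : ℤ) =
          (Nat.card F : ℤ) ^ k * ((Nat.card F : ℤ) ^ (k + 1) - 1) :=
        mul_right_cancel₀ (b := (Nat.card F : ℤ) - 1) (by omega) (by linear_combination hL)
      have hdiv : (r : ℤ) ∣ (Nat.card F : ℤ) ^ k * ((Nat.card F : ℤ) ^ (k + 1) - 1) :=
        hLe ▸ Int.natCast_dvd_natCast.mpr hrΩ
      have hrP : Prime (r : ℤ) := Nat.prime_iff_prime_int.mp hr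
      have hd' : (r : ℤ) ∣ (Nat.card F : ℤ) ^ (k + 1) - 1 := by
        refine (hrP.dvd_or_dvd hdiv).resolve_left fun h => hrF ?_
        have h' := Int.natCast_dvd_natCast.mp (hrP.dvd_of_dvd_pow h)
        obtain ⟨m, -, hm⟩ := FiniteField.card F 2
        rw [Nat.card_eq_fintype_card, hm] at h'
        exact absurd ((Nat.prime_dvd_prime_iff_eq hr Nat.prime_two).mp (hr.dvd_of_dvd_pow h'))
          (fun h => hrne h.symm)
      obtain ⟨x, hx, hxr, hfix⟩ := exists_fpf_plus (by omega) h2 hrF hd'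
      refine not_forall_fix C h2 (mem_omegaGL_of_pow C h2 hn hne hx hodd hxr) hxr (fun h1 => ?_)
        (fun v hv => ?_) hall
      · have : (Pi.single (.inl 0) 1 : Fin (k + 1) ⊕ Fin (k + 1) → F) ∈ fixSpace x :=
          mem_fixSpace.mpr (by rw [h1, Units.val_one, Matrix.one_mulVec])
        rw [hfix, Submodule.mem_bot] at this
        simpa using congrFun this (.inl 0)
      · rw [(Submodule.eq_bot_iff _).mp hfix v (mem_fixSpace.mpr hv), C.zero]
  · rintro ⟨rfl, hodd⟩ x hx ⟨z, hz⟩ -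
    have hxi := omegaGL_le_iso hx
    have hx2 : x ^ 2 = 1 := scalar_iso_eq_one C h2 (pow_mem hxi 2) hz
    have he := (mem_omegaGL_iff_even C h2 hn (by simp) hne hxi).mp hx
    have h1 := two_fix h2 hx2
    have hlt : Fintype.card (Fin d ⊕ Fin d) < 2 * finrank F (fixSpace x) := by
      simp only [Fintype.card_sum, Fintype.card_fin] at h1 ⊢
      obtain ⟨a, ha⟩ := he
      obtain ⟨b, hb⟩ := hodd
      omega
    obtain ⟨v, hv, hQv⟩ := exists_nonsing_of_lt C hlt
    exact (point_iff C h2 hxi).mpr ⟨v, mem_fixSpace.mp hv, hQv⟩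

end Cfsg.Agent.S5985
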