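import Cfsg.Statements.S5983
import Cfsg.Agent.Lib.Linear.SympQuadForms
import Cfsg.Agent.Lib.Linear.SympInvolution
import Cfsg.Agent.Lib.Linear.SymplecticGroup
import Cfsg.Agent.S2585
import Cfsg.Agent.S5985
-- import your own Cfsg.Agent.* helpers here

set_option autoImplicit false
open scoped MatrixGroups
open Cfsg

namespace Cfsg.Agent.S5983

open Cfsg.Lib.Linear.Orth Module
open scoped Matrix

section Forms

variable {ι : Type} [Fintype ι] [DecidableEq ι] {F : Type*} [Field F] [Fintype F]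
  {Q : (ι → F) → F} {B : LinearMap.BilinForm F (ι → F)}

/-- The translates of the type of `Q` are told by the count. -/
theorem inJ_iff_count (C : Space Q B) (h2 : (2 : F) = 0) {k : ℕ} (hι : Fintype.card ι = 2 * (k + 1))
    {a : ι → F} : InJ (Q a) ↔
      Nat.card {v : ι → F // tr Q B a v = 0} = Nat.card {v : ι → F // Q v = 0} := by
  constructor
  · intro h
    obtain ⟨g, -, hg⟩ := exists_trans C h2 h
    rw [← natCard_singular_comp (Q := Q) (g := g)]
    simp only [hg]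
  · intro h
    by_contra hne
    have hf := count_flip C h2 (k := 2 * k + 1) (by omega) hne
    rw [h, ← sgCount_top] at hf
    have hq : (2 : ℤ) ≤ Nat.card F := by exact_mod_cast Finite.one_lt_card
    have hpos : (0 : ℤ) < (Nat.card F : ℤ) ^ k * ((Nat.card F : ℤ) - 1) :=
      mul_pos (pow_pos (by omega) _) (by omega)
    rcases count_cases C k ⊤ C.ndeg_top (by rw [finrank_top, finrank_fintype_fun_eq_card, hι]) with
      ⟨hS, -⟩ | hS
    all_goals
      rw [hS] at hf
      rw [mul_sub, mul_one, ← pow_succ] at hpos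
      linarith

/-- An isometry fixing a translate of the type of `Q` moves no translate of the other type. -/
theorem no_tr (C : Space Q B) (h2 : (2 : F) = 0) {k : ℕ} (hι : Fintype.card ι = 2 * (k + 1))
    {x : GL ι F} (hB : ∀ u v, B (x.val *ᵥ u) (x.val *ᵥ v) = B u v) {a : ι → F}
    (ha : ¬ InJ (Q a)) (hx : ∀ v, tr Q B a (x.val *ᵥ v) = tr Q B a v)
    (hfix : ∀ b, x.val *ᵥ b = b → InJ (tr Q B a b)) :
    ¬ ∃ c, InJ (Q c) ∧ ∀ v, tr Q B c (x.val *ᵥ v) = tr Q B c v := by
  rintro ⟨c, hc, hxc⟩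
  have h1 : tr (tr Q B a) B (a + c) = tr Q B c := by
    rw [tr_tr h2]
    congr 1
    funext i
    simp only [Pi.add_apply]
    linear_combination a i * h2
  have hb : x.val *ᵥ (a + c) = a + c := by
    have h : ∀ v, B (a + c) (x.val *ᵥ v) = B (a + c) v := fun v => by
      refine sq_injective_two h2 ?_
      have e := congrFun h1 (x.val *ᵥ v)
      have e' := congrFun h1 v
      have e'' := hxc v
      have e3 := hx v
      simp only [tr] at e e' e'' e3
      linear_combination e - e' + e'' - e3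
    refine sub_eq_zero.mp (C.nondeg' fun u => ?_)
    have hu := hB (a + c) ((x⁻¹ : GL ι F).val *ᵥ u)
    rw [act_inv] at hu
    have := h ((x⁻¹ : GL ι F).val *ᵥ u)
    rw [act_inv] at this
    rw [map_sub, LinearMap.sub_apply, hu, ← this, sub_self]
  have h3 := (inJ_iff_count (tr_space C h2 a) h2 hι).mp (hfix _ hb)
  rw [h1] at h3
  exact ha ((inJ_iff_count C h2 hι).mpr (h3.symm.trans ((inJ_iff_count C h2 hι).mp hc)))

end Forms

variable {F : Type*} [Field F] [Fintype F]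

theorem polar_plus_eq {d : ℕ} (h2 : (2 : F) = 0) (u v : Fin d ⊕ Fin d → F) :
    QuadraticMap.polar (Cfsg.quadFormPlus d F) u v = Cfsg.Lib.Linear.Symp.spB d F u v := by
  rw [polar_plus_apply, Cfsg.Lib.Linear.Symp.spB_apply, Cfsg.sympForm,
    Cfsg.Lib.Linear.Symp.J_mulVec, dotProduct, Fintype.sum_sum_type]
  simp only [Sum.elim_inl, Sum.elim_inr]
  rw [← Finset.sum_add_distrib]
  exact Finset.sum_congr rfl fun i _ => by linear_combination (u (.inl i) * v (.inr i)) * h2

section Action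

variable {d : ℕ}

/-- The action of the symplectic group on functions. -/
@[instance_reducible]
def fnAct (d : ℕ) (F : Type*) [Field F] :
    MulAction ↥(Cfsg.spGL d F) ((Fin d ⊕ Fin d → F) → F) where
  smul g Φ := fun v => Φ ((g.1⁻¹ : GL (Fin d ⊕ Fin d) F).val *ᵥ v)
  one_smul Φ := funext fun v => by
    show Φ (((1 : GL (Fin d ⊕ Fin d) F))⁻¹.val *ᵥ v) = Φ v
    simp
  mul_smul g h Φ := funext fun v => by
    show Φ (((g.1 * h.1 : GL (Fin d ⊕ Fin d) F))⁻¹.val *ᵥ v) = Φ _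
    rw [_root_.mul_inv_rev, mul_act]

variable {Q : (Fin d ⊕ Fin d → F) → F}

omit [Fintype F] in
theorem sp_B {g : GL (Fin d ⊕ Fin d) F} :
    g ∈ Cfsg.spGL d F ↔ ∀ u v, Cfsg.Lib.Linear.Symp.spB d F (g.val *ᵥ u) (g.val *ᵥ v) =
      Cfsg.Lib.Linear.Symp.spB d F u v := by
  simp only [Cfsg.Lib.Linear.Symp.spB_apply]
  exact Iff.rfl

omit [Fintype F] in
theorem sim_iso (C : Space Q (Cfsg.Lib.Linear.Symp.spB d F)) (hd : 1 ≤ d)
    {g : GL (Fin d ⊕ Fin d) F} (hg : g ∈ Cfsg.spGL d F) :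
    g ∈ Cfsg.Geo.quadSimilarityGroup Q ↔ ∀ v, Q (g.val *ᵥ v) = Q v := by
  refine ⟨fun ⟨c, hc⟩ v => ?_, fun h => ⟨1, fun v => by rw [Units.val_one, one_mul]; exact h v⟩⟩
  obtain ⟨w, hw⟩ := C.exists_pair (v := Pi.single (.inl ⟨0, hd⟩) 1) (fun h => by
    simpa using congrFun h (.inl ⟨0, hd⟩))
  have h1 := sp_B.mp hg (Pi.single (.inl ⟨0, hd⟩) 1) w
  rw [hw, ← C.polar, QuadraticMap.polar, ← Matrix.mulVec_add, hc, hc, hc, ← mul_sub, ← mul_sub,
    ← QuadraticMap.polar, C.polar, hw, mul_one] at h1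
  rw [hc, h1, one_mul]

theorem fix_iff (C : Space Q (Cfsg.Lib.Linear.Symp.spB d F)) (h2 : (2 : F) = 0) {k : ℕ}
    (hd : d = k + 1) {x : GL (Fin d ⊕ Fin d) F} (hx : x ∈ Cfsg.spGL d F) :
    (∃ g ∈ Cfsg.spGL d F, g⁻¹ * x * g ∈ Cfsg.Geo.quadSimilarityGroup Q) ↔
      ∃ a, InJ (Q a) ∧ ∀ v, tr Q (Cfsg.Lib.Linear.Symp.spB d F) a (x.val *ᵥ v) =
        tr Q (Cfsg.Lib.Linear.Symp.spB d F) a v := by
  have hι : Fintype.card (Fin d ⊕ Fin d) = 2 * (k + 1) := by simp; omega
  constructor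
  · rintro ⟨g, hg, hh⟩
    have hiso := (sim_iso C (by omega) (mul_mem (mul_mem (inv_mem hg) hx) hg)).mp hh
    let Φ : (Fin d ⊕ Fin d → F) → F := fun v => Q ((g⁻¹ : GL (Fin d ⊕ Fin d) F).val *ᵥ v)
    have CΦ : Space Φ (Cfsg.Lib.Linear.Symp.spB d F) := ⟨fun c v => by
        simp only [Φ, Matrix.mulVec_smul, C.smul], fun u v => by
        simp only [QuadraticMap.polar, Φ, Matrix.mulVec_add, C.add, sp_B.mp (inv_mem hg)]
        ring, C.nondeg⟩
    obtain ⟨a, ha⟩ := exists_tr C h2 CΦ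
    refine ⟨a, (inJ_iff_count C h2 hι).mpr ?_, fun v => ?_⟩
    · rw [ha]; exact natCard_singular_comp (Q := Q) (g := g⁻¹)
    · rw [ha]
      have h := hiso ((g⁻¹ : GL (Fin d ⊕ Fin d) F).val *ᵥ v)
      rw [mul_act, act_inv, mul_act] at h
      exact h
  · rintro ⟨a, ha, hax⟩
    obtain ⟨g, hgB, hg⟩ := exists_trans C h2 ha
    refine ⟨g⁻¹, inv_mem (sp_B.mpr hgB), (sim_iso C (by omega)
      (mul_mem (mul_mem (inv_mem (inv_mem (sp_B.mpr hgB))) hx) (inv_mem (sp_B.mpr hgB)))).mpr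
      fun v => ?_⟩
    rw [inv_inv, mul_act, mul_act, hg, hax, ← hg, act_inv]

theorem index_eq (C : Space Q (Cfsg.Lib.Linear.Symp.spB d F)) (h2 : (2 : F) = 0) {k : ℕ}
    (hd : d = k + 1) :
    (Cfsg.Geo.quadSimilarityGroup Q).relIndex (Cfsg.spGL d F) =
      Nat.card {a : Fin d ⊕ Fin d → F // InJ (Q a)} := by
  have hι : Fintype.card (Fin d ⊕ Fin d) = 2 * (k + 1) := by simp; omega
  letI := fnAct d F
  have hst : MulAction.stabilizer ↥(Cfsg.spGL d F) Q =
      (Cfsg.Geo.quadSimilarityGroup Q).subgroupOf (Cfsg.spGL d F) := by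
    ext g
    rw [MulAction.mem_stabilizer_iff, Subgroup.mem_subgroupOf, sim_iso C (by omega) g.2]
    constructor
    · intro h v
      have := congrFun h (g.1.val *ᵥ v)
      change Q ((g.1⁻¹ : GL (Fin d ⊕ Fin d) F).val *ᵥ (g.1.val *ᵥ v)) = _ at this
      rw [inv_act] at this
      exact this.symm
    · intro h
      funext v
      show Q ((g.1⁻¹ : GL (Fin d ⊕ Fin d) F).val *ᵥ v) = Q v
      rw [← h, act_inv]
  show ((Cfsg.Geo.quadSimilarityGroup Q).subgroupOf (Cfsg.spGL d F)).index = _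
  rw [← hst, MulAction.index_stabilizer]
  have : MulAction.orbit ↥(Cfsg.spGL d F) Q =
      tr Q (Cfsg.Lib.Linear.Symp.spB d F) '' {a | InJ (Q a)} := by
    ext Φ
    constructor
    · rintro ⟨g, rfl⟩
      have CΦ : Space (fun v => Q ((g.1⁻¹ : GL (Fin d ⊕ Fin d) F).val *ᵥ v))
          (Cfsg.Lib.Linear.Symp.spB d F) := ⟨fun c v => by
          simp only [Matrix.mulVec_smul, C.smul], fun u v => by
          simp only [QuadraticMap.polar, Matrix.mulVec_add, C.add, sp_B.mp (inv_mem g.2)]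
          ring, C.nondeg⟩
      obtain ⟨a, ha⟩ := exists_tr C h2 CΦ
      refine ⟨a, (inJ_iff_count C h2 hι).mpr ?_, ha⟩
      rw [ha]
      exact natCard_singular_comp (Q := Q) (g := g.1⁻¹)
    · rintro ⟨a, ha, rfl⟩
      obtain ⟨g, hgB, hg⟩ := exists_trans C h2 ha
      refine ⟨⟨g⁻¹, inv_mem (sp_B.mpr hgB)⟩, funext fun v => ?_⟩
      show Q ((g⁻¹⁻¹ : GL (Fin d ⊕ Fin d) F).val *ᵥ v) = _
      rw [inv_inv, hg]
  rw [this, Set.ncard_image_of_injective _ fun _ _ h => tr_injective C h2 h, ← Nat.card_coe_set_eq]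
  rfl

end Action

theorem sp_scalar {d : ℕ} (C : Space (Cfsg.quadFormPlus d F) (Cfsg.Lib.Linear.Symp.spB d F))
    (h2 : (2 : F) = 0) (hd : 1 ≤ d) {g : GL (Fin d ⊕ Fin d) F} (hg : g ∈ Cfsg.spGL d F) {z : F}
    (hz : g.val = z • (1 : Matrix (Fin d ⊕ Fin d) (Fin d ⊕ Fin d) F)) : g = 1 := by
  obtain ⟨w, hw⟩ := C.exists_pair (v := Pi.single (.inl ⟨0, hd⟩) 1) (fun h => by
    simpa using congrFun h (.inl ⟨0, hd⟩))
  have h1 := sp_B.mp hg (Pi.single (.inl ⟨0, hd⟩) 1) w
  rw [hz, Matrix.smul_mulVec, Matrix.smul_mulVec, Matrix.one_mulVec, Matrix.one_mulVec, map_smul,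
    map_smul, LinearMap.smul_apply, hw, smul_eq_mul, smul_eq_mul, mul_one] at h1
  have : (z - 1) ^ 2 = 0 := by linear_combination h1 + (1 - z) * h2
  exact Units.ext (by rw [hz, sub_eq_zero.mp (eq_zero_of_pow_eq_zero this), one_smul, Units.val_one])

/-- Elements of prime order of PSp_n(q), q even, and the subgroups of orthogonal type. Here `T = Sp_{2d}(F)` for a field `F` of characteristic 2 with `q` elements (`d ≥ 2`, `(d, q) ≠ (2, 2)`), realised as the invertible matrices preserving the standard alternating form; `Q` is a non-degenerate quadratic form on `F^{2d}` whose polar form is that alternating form, and `H` is the subgroup of `T` preserving `Q` up to a scalar (equivalently preserving `Q`) — a subgroup of type O^±_{2d}(q) (maximality is not assumed); `Q` is of plus type when `F^{2d}` contains a `d`-dimensional subspace on which `Q` vanishes, of minus type otherwise. Ω is the set of cosets of `H` in `T`, so an element of `T` of prime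 order `r` (`x ∈ T` with `x^r` scalar, `x` not scalar) fixes a point of Ω exactly when some `T`-conjugate of `x` preserves `Q`. Let `r` be a prime dividing the index of `H`. Then every element of `T` of order `r` fixes a point of Ω if and only if `r = 2` and either `Q` is of plus type or `d` is odd. -/
theorem result {F : Type*} [Field F] [Fintype F] {p : ℕ} [Fact p.Prime] [CharP F p] {q : ℕ} (hq : Fintype.card F = q)
    (hp : p = 2) (d : ℕ) (hd : 2 ≤ d) (hT : (d, q) ≠ (2, 2)) (Q : (Fin d ⊕ Fin d → F) → F) (hQ : Cfsg.Geo.IsNondegenerateQuadraticForm Q)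
    (hQf : ∀ u v, QuadraticMap.polar Q u v = Cfsg.sympForm d F u v)
    (r : ℕ) [Fact r.Prime]
    (hΩ : r ∣ (Cfsg.Geo.quadSimilarityGroup Q).relIndex (Cfsg.spGL d F)) :
    (∀ x ∈ Cfsg.spGL d F, (∃ z : F, ((x ^ r : GL (Fin d ⊕ Fin d) F) : Matrix (Fin d ⊕ Fin d) (Fin d ⊕ Fin d) F) = z • (1 : Matrix (Fin d ⊕ Fin d) (Fin d ⊕ Fin d) F)) →
      (∀ z : F, (x : Matrix (Fin d ⊕ Fin d) (Fin d ⊕ Fin d) F) ≠ z • (1 : Matrix (Fin d ⊕ Fin d) (Fin d ⊕ Fin d) F)) →
      ∃ g ∈ Cfsg.spGL d F, g⁻¹ * x * g ∈ Cfsg.Geo.quadSimilarityGroup Q) ↔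
    (r = 2 ∧ (Cfsg.Geo.IsPlusTypeOn Q ⊤ ∨ Odd d)) := by
  subst hp
  have h2 : (2 : F) = 0 := CharTwo.two_eq_zero
  obtain ⟨k, hk⟩ : ∃ k, d = k + 1 := ⟨d - 1, by omega⟩
  set B := Cfsg.Lib.Linear.Symp.spB d F with hB
  have C : Space Q B := ⟨hQ.smul, fun u v => by rw [hQf, hB, Cfsg.Lib.Linear.Symp.spB_apply],
    fun v hv => (Cfsg.Lib.Linear.Symp.spB_nondegenerate d F).2 v hv⟩
  have CP : Space (Cfsg.quadFormPlus d F) B := ⟨fun c v => by
      obtain ⟨B', C'⟩ := exists_space_plus (F := F) d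
      exact C'.smul c v, polar_plus_eq h2, C.nondeg⟩
  have hι : Fintype.card (Fin d ⊕ Fin d) = 2 * (k + 1) := by simp; omega
  haveI : Nonempty (Fin d ⊕ Fin d) := ⟨.inl ⟨0, by omega⟩⟩
  have hF : (2 : ℤ) ≤ Nat.card F := by exact_mod_cast Finite.one_lt_card
  have hn : 2 ≤ Fintype.card (Fin d ⊕ Fin d) := by omega
  have hne : Fintype.card F ≠ 2 ∨ Fintype.card (Fin d ⊕ Fin d) ≠ 4 := by
    by_contra hc
    push Not at hc
    exact hT (Prod.ext (by have := hc.2; simp at this; omega) (by rw [← hq]; exact hc.1))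
  have hr : r.Prime := Fact.out
  have hSP : (Nat.card {v // Cfsg.quadFormPlus d F v = 0} : ℤ) =
      (Nat.card F : ℤ) ^ (2 * k + 1) + (Nat.card F : ℤ) ^ (k + 1) - (Nat.card F : ℤ) ^ k := by
    rw [(counts_plus (F := F) d).1 (by omega), hk, show 0 + (k + 1) - 1 = k by omega]
    ring
  have hplus : Cfsg.Geo.IsPlusTypeOn Q ⊤ ↔ (Nat.card {v // Q v = 0} : ℤ) =
      (Nat.card F : ℤ) ^ (2 * k + 1) + (Nat.card F : ℤ) ^ (k + 1) - (Nat.card F : ℤ) ^ k := by
    constructor
    · rintro ⟨U, -, hU, hUd⟩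
      rw [finrank_top, finrank_fintype_fun_eq_card] at hUd
      rw [ts_half_count C hU (k := k) (by omega) hι]
      ring
    · intro h
      rcases count_cases C k ⊤ C.ndeg_top (by rw [finrank_top, finrank_fintype_fun_eq_card, hι]) with
        ⟨-, A, hA, hts, hAd⟩ | hS
      · exact ⟨A, hA, hts, by rw [finrank_top, finrank_fintype_fun_eq_card, hι, hAd]⟩
      · rw [sgCount_top, h] at hS
        have hpos : (0 : ℤ) < (Nat.card F : ℤ) ^ k * ((Nat.card F : ℤ) - 1) :=
          mul_pos (pow_pos (by omega) _) (by omega)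
        rw [mul_sub, mul_one, ← pow_succ] at hpos
        linarith
  have hminus : ¬ Cfsg.Geo.IsPlusTypeOn Q ⊤ → (Nat.card {v // Q v = 0} : ℤ) =
      (Nat.card F : ℤ) ^ (2 * k + 1) - (Nat.card F : ℤ) ^ (k + 1) + (Nat.card F : ℤ) ^ k := by
    intro h
    rcases count_cases C k ⊤ C.ndeg_top (by rw [finrank_top, finrank_fintype_fun_eq_card, hι]) with
      ⟨hS, -⟩ | hS
    · rw [sgCount_top] at hS; exact absurd (hplus.mpr hS) h
    · rwa [sgCount_top] at hS
  obtain ⟨τ, hτ⟩ : ∃ τ : F, ¬ InJ τ := by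
    by_contra hc
    push Not at hc
    have h := two_card_J (F := F) h2
    rw [show (asHom h2).range = ⊤ from eq_top_iff.mpr fun t _ => (mem_range_asHom h2).mpr (hc t),
      AddSubgroup.card_top] at h
    have : 0 < Nat.card F := Nat.card_pos
    omega
  -- a counterexample from an isometry of a form of the other type
  have witness : ∀ (x : GL (Fin d ⊕ Fin d) F) (Φ : (Fin d ⊕ Fin d → F) → F), Space Φ B →
      (Nat.card {v // Φ v = 0} ≠ Nat.card {v // Q v = 0}) → x ∈ isometryGroup F Φ → x ^ r = 1 →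
      x ≠ 1 → (∀ b, x.val *ᵥ b = b → InJ (Φ b)) →
      ¬ ∀ x ∈ Cfsg.spGL d F, (∃ z : F, ((x ^ r : GL (Fin d ⊕ Fin d) F) : Matrix (Fin d ⊕ Fin d) (Fin d ⊕ Fin d) F) = z • (1 : Matrix (Fin d ⊕ Fin d) (Fin d ⊕ Fin d) F)) →
        (∀ z : F, (x : Matrix (Fin d ⊕ Fin d) (Fin d ⊕ Fin d) F) ≠ z • (1 : Matrix (Fin d ⊕ Fin d) (Fin d ⊕ Fin d) F)) →
        ∃ g ∈ Cfsg.spGL d F, g⁻¹ * x * g ∈ Cfsg.Geo.quadSimilarityGroup Q := by
    intro x Φ CΦ hne' hx hxr hx1 hfix hall
    have hxs : x ∈ Cfsg.spGL d F := sp_B.mpr (CΦ.B_act hx)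
    obtain ⟨a, rfl⟩ := exists_tr C h2 CΦ
    exact no_tr C h2 hι (CΦ.B_act hx) (fun h => hne' ((inJ_iff_count C h2 hι).mp h))
      (mem_iso.mp hx) hfix ((fix_iff C h2 hk hxs).mp (hall x hxs ⟨1, by
        rw [hxr, one_smul, Units.val_one]⟩ fun z hz => hx1 (sp_scalar CP h2 (by omega) hxs hz)))
  constructor
  · intro hall
    by_contra hcon
    rcases hr.eq_two_or_odd' with rfl | hodd
    · have hnp : ¬ Cfsg.Geo.IsPlusTypeOn Q ⊤ := fun h => hcon ⟨rfl, Or.inl h⟩
      obtain ⟨x, hx, hx2, hx1, hfix⟩ := Cfsg.Agent.S5985.exists_shear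
        (Nat.not_odd_iff_even.mp fun ho => hcon ⟨rfl, Or.inr ho⟩) (by omega) h2 hne
      refine witness x _ CP (fun h => hnp (hplus.mpr ?_)) (omegaGL_le_iso hx) hx2 hx1
        (fun b hb => ⟨0, by rw [hfix b hb]; ring⟩) hall
      rw [← h]; exact hSP
    · have hrne : r ≠ 2 := fun h => by subst h; exact (by decide : ¬ Odd 2) hodd
      have hrF : (r : F) ≠ 0 := fun h =>
        hrne ((Nat.prime_dvd_prime_iff_eq Nat.prime_two hr).mp ((CharP.cast_eq_zero_iff F 2 r).mp h)).symm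
      have hrP : Prime (r : ℤ) := Nat.prime_iff_prime_int.mp hr
      rw [index_eq C h2 hk] at hΩ
      have hΩ' : (r : ℤ) ∣ 2 * (Nat.card {a : Fin d ⊕ Fin d → F // InJ (Q a)} : ℤ) :=
        dvd_mul_of_dvd_right (Int.natCast_dvd_natCast.mpr hΩ) _
      have hO := two_card_orbit C h2
      rw [hι] at hO
      have hrq : ¬ (r : ℤ) ∣ (Nat.card F : ℤ) := fun h => hrne (by
        have h' := Int.natCast_dvd_natCast.mp h
        obtain ⟨m, -, hm⟩ := FiniteField.card F 2
        rw [Nat.card_eq_fintype_card, hm] at h'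
        exact (Nat.prime_dvd_prime_iff_eq hr Nat.prime_two).mp (hr.dvd_of_dvd_pow h'))
      have main : ∀ (Φ : (Fin d ⊕ Fin d → F) → F), Space Φ B →
          Nat.card {v // Φ v = 0} ≠ Nat.card {v // Q v = 0} →
          (∃ x ∈ isometryGroup F Φ, x ^ r = 1 ∧ fixSpace x = ⊥) → False := by
        intro Φ CΦ hne' ⟨x, hx, hxr, hfix⟩
        refine witness x Φ CΦ hne' hx hxr (fun h1 => ?_) (fun b hb => ⟨0, ?_⟩) hall
        · have : (Pi.single (.inl ⟨0, by omega⟩) 1 : Fin d ⊕ Fin d → F) ∈ fixSpace x :=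
            mem_fixSpace.mpr (by rw [h1, Units.val_one, Matrix.one_mulVec])
          rw [hfix, Submodule.mem_bot] at this
          simpa using congrFun this (.inl ⟨0, by omega⟩)
        · rw [(Submodule.eq_bot_iff _).mp hfix b (mem_fixSpace.mpr hb), CΦ.zero]; ring
      by_cases hp : Cfsg.Geo.IsPlusTypeOn Q ⊤
      · have hS := hplus.mp hp
        rw [hS] at hO
        have h2O : 2 * (Nat.card {a : Fin d ⊕ Fin d → F // InJ (Q a)} : ℤ) =
            (Nat.card F : ℤ) ^ (k + 1) * ((Nat.card F : ℤ) ^ (k + 1) + 1) :=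
          mul_right_cancel₀ (b := (Nat.card F : ℤ) - 1) (by omega) (by linear_combination hO)
        rw [h2O] at hΩ'
        have hd' := (hrP.dvd_or_dvd hΩ').resolve_left fun h => hrq (hrP.dvd_of_dvd_pow h)
        obtain ⟨v, -, hv⟩ := exists_nonsing C C.ndeg_top top_ne_bot
        obtain ⟨s, hs⟩ := exists_sqrt_two h2 (τ * (Q v)⁻¹)
        have ha : ¬ InJ (Q (s • v)) := by
          rw [C.smul, hs, mul_assoc, inv_mul_cancel₀ hv, mul_one]; exact hτ
        have hf := count_flip C h2 (k := 2 * k + 1) (by omega) ha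
        rw [hS] at hf
        refine main _ (tr_space C h2 (s • v)) (fun h => ha ((inJ_iff_count C h2 hι).mpr h))
          (exists_fpf (tr_space C h2 (s • v)) h2 hrF ?_ ?_ ?_)
        · rw [sgCount_top]
          have : (Nat.card {x // tr Q B (s • v) x = 0} : ℤ) - 1 =
              ((Nat.card F : ℤ) ^ k - 1) * ((Nat.card F : ℤ) ^ (k + 1) + 1) := by
            linear_combination hf
          rw [this]
          exact dvd_mul_of_dvd_right hd' _
        · rw [hι, mul_comm, pow_mul, show ((Nat.card F : ℤ) ^ (k + 1)) ^ 2 - 1 =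
            ((Nat.card F : ℤ) ^ (k + 1) + 1) * ((Nat.card F : ℤ) ^ (k + 1) - 1) by ring]
          exact dvd_mul_of_dvd_left hd' _
        · intro h
          have h1 : (r : ℤ) ∣ (Nat.card F : ℤ) ^ (k + 1) - 1 := h.trans (sub_one_dvd_pow_sub_one _ _)
          have h3 := dvd_sub hd' h1
          rw [show (Nat.card F : ℤ) ^ (k + 1) + 1 - ((Nat.card F : ℤ) ^ (k + 1) - 1) = (2 : ℕ) by
            push_cast; ring] at h3
          exact hrne ((Nat.prime_dvd_prime_iff_eq hr Nat.prime_two).mp (Int.natCast_dvd_natCast.mp h3))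
      · have hS := hminus hp
        rw [hS] at hO
        have h2O : 2 * (Nat.card {a : Fin d ⊕ Fin d → F // InJ (Q a)} : ℤ) =
            (Nat.card F : ℤ) ^ (k + 1) * ((Nat.card F : ℤ) ^ (k + 1) - 1) :=
          mul_right_cancel₀ (b := (Nat.card F : ℤ) - 1) (by omega) (by linear_combination hO)
        rw [h2O] at hΩ'
        have hd' := (hrP.dvd_or_dvd hΩ').resolve_left fun h => hrq (hrP.dvd_of_dvd_pow h)
        refine main _ CP (fun h => hp (hplus.mpr ?_))
          (Cfsg.Agent.S5985.exists_fpf_plus (by omega) h2 hrF (by rw [hk]; exact hd'))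
        rw [← h]; exact hSP
  · rintro ⟨rfl, hcase⟩ x hx ⟨z, hz⟩ -
    have hx2 : x ^ 2 = 1 := sp_scalar CP h2 (by omega) (pow_mem hx 2) hz
    rw [fix_iff C h2 hk hx]
    obtain ⟨Q', hQ'p, hQ'x⟩ := Cfsg.Agent.S2585.result
      (⟨x.val, (Cfsg.Lib.Linear.Symp.mem_symplecticGroup_iff x.val).mpr (sp_B.mp hx)⟩ :
        Matrix.symplecticGroup (Fin d) F)
    have C' : Space (⇑Q') B := ⟨fun c v => by rw [QuadraticMap.map_smul, smul_eq_mul, sq],
      fun u v => by rw [hQ'p, hB, Cfsg.Lib.Linear.Symp.spB_apply], C.nondeg⟩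
    obtain ⟨a, ha⟩ := exists_tr C h2 C'
    have hax : ∀ v, tr Q B a (x.val *ᵥ v) = tr Q B a v := fun v => by rw [ha]; exact hQ'x v
    by_cases hJ : InJ (Q a)
    · exact ⟨a, hJ, hax⟩
    by_cases hns : ∃ b, x.val *ᵥ b = b ∧ tr Q B a b ≠ 0
    · obtain ⟨b, hb, hb0⟩ := hns
      obtain ⟨s, hs⟩ := exists_sqrt_two h2 (Q a * (tr Q B a b)⁻¹)
      have hsb : tr Q B a (s • b) = Q a := by
        rw [(tr_space C h2 a).smul, hs, mul_assoc, inv_mul_cancel₀ hb0, mul_one]
      refine ⟨a + s • b, (inJ_iff_count C h2 hι).mpr ?_, fun v => ?_⟩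
      · have h1 := count_flip C h2 (k := 2 * k + 1) (by omega) hJ
        have h3 := count_flip (tr_space C h2 a) h2 (k := 2 * k + 1) (by omega)
          (hsb.symm ▸ hJ : ¬ InJ (tr Q B a (s • b)))
        rw [tr_tr h2] at h3
        exact_mod_cast (show (Nat.card {v // tr Q B (a + s • b) v = 0} : ℤ) =
          Nat.card {v // Q v = 0} by linear_combination h3 - h1)
      · have h1 : B (s • b) (x.val *ᵥ v) = B (s • b) v := by
          conv_lhs => rw [show s • b = x.val *ᵥ (s • b) by rw [Matrix.mulVec_smul, hb]]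
          exact sp_B.mp hx _ _
        rw [← tr_tr h2]
        show tr Q B a _ + _ = tr Q B a v + _
        rw [hax, h1]
    exfalso
    push Not at hns
    have CΦ := tr_space C h2 a
    have hfix : ∀ v ∈ fixSpace x, tr Q B a v = 0 := fun v hv => hns v (mem_fixSpace.mp hv)
    have h1 := two_fix h2 hx2
    have h3 := ts_bound CΦ hfix
    rw [hι] at h1 h3
    have hfr : finrank F (fixSpace x) = d := by omega
    have h4 := ts_half_count CΦ hfix (k := k) (by omega) hι
    have h5 := count_flip C h2 (k := 2 * k + 1) (by omega) hJ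
    have hnp : ¬ Cfsg.Geo.IsPlusTypeOn Q ⊤ := fun hp => by
      rw [hplus.mp hp, h4] at h5
      have hpos : (0 : ℤ) < (Nat.card F : ℤ) ^ k * ((Nat.card F : ℤ) - 1) :=
        mul_pos (pow_pos (by omega) _) (by omega)
      ring_nf at h5 hpos
      linarith
    have hodd : Odd d := hcase.resolve_left hnp
    let N : Module.End F (Fin d ⊕ Fin d → F) := Matrix.mulVecLin x.val - LinearMap.id
    have hinv : ∀ v, x.val *ᵥ (x.val *ᵥ v) = v := fun v => by
      rw [← mul_act, ← sq, hx2, Units.val_one, Matrix.one_mulVec]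
    have hev := Cfsg.Lib.Linear.SympInv.rank_even (Cfsg.Lib.Linear.Symp.spB_nondegenerate d F) N
      (fun u v => by
        have e : B (x.val *ᵥ u) v = B u (x.val *ᵥ v) := by
          conv_lhs => rw [← hinv v]
          exact sp_B.mp hx _ _
        simp [N, ← hB, e])
      (fun v => by
        have hmem : v + x.val *ᵥ v ∈ fixSpace x :=
          mem_fixSpace.mpr (by rw [Matrix.mulVec_add, hinv, add_comm])
        have h6 := hfix _ hmem
        rw [CΦ.add, hax] at h6
        simp [N, ← hB, C.self, h2]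
        linear_combination h6 - tr Q B a v * h2)
    have h7 := LinearMap.finrank_range_add_finrank_ker N
    rw [show LinearMap.ker N = fixSpace x from rfl, hfr, finrank_fintype_fun_eq_card, hι] at h7
    rw [show finrank F (LinearMap.range N) = d by omega] at hev
    exact Nat.not_even_iff_odd.mpr hodd hev

end Cfsg.Agent.S5983
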