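import Cfsg.Statements.S2168
import Cfsg.Agent.Lib.Linear.SympQuadForms
import Cfsg.Agent.S5983
-- import your own Cfsg.Agent.* helpers here

set_option autoImplicit false
open Cfsg

namespace Cfsg.Agent.S2168

open Cfsg.Lib.Linear.Orth Module
open scoped Matrix

variable {ι : Type} [Fintype ι] [DecidableEq ι] {F : Type*} [Field F] [Fintype F]
  {Q : (ι → F) → F} {B : LinearMap.BilinForm F (ι → F)}

/-- Conjugacy under the isometries of the polar form descends to the orthogonal group. -/
theorem isConj_iff (C : Space Q B) (h2 : (2 : F) = 0) {k : ℕ} (hι : Fintype.card ι = 2 * (k + 1))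
    (t s : ↥(Cfsg.isometryGroup F Q)) :
    IsConj t s ↔ ∃ g ∈ Cfsg.preserving (Units.coeHom (Matrix ι ι F))
      (fun u v => Q (u + v) - Q u - Q v), g * (t : GL ι F) * g⁻¹ = (s : GL ι F) := by
  rw [_root_.isConj_iff]
  constructor
  · rintro ⟨h, hh⟩
    refine ⟨h, fun u v => ?_, congrArg Subtype.val hh⟩
    show Q ((h : GL ι F).val *ᵥ u + (h : GL ι F).val *ᵥ v) - _ - _ = _
    rw [← Matrix.mulVec_add]
    simp only [mem_iso.mp h.2, Units.coeHom_apply]
  · rintro ⟨g, hg, hgt⟩
    have hgB : ∀ u v, B (g.val *ᵥ u) (g.val *ᵥ v) = B u v := fun u v => by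
      rw [← C.polar, ← C.polar]
      exact hg u v
    have CΦ : Space (fun v => Q (g.val *ᵥ v)) B := ⟨fun c v => by
        simp only [Matrix.mulVec_smul, C.smul], fun u v => by
        simp only [QuadraticMap.polar, Matrix.mulVec_add, C.add, hgB]
        ring, C.nondeg⟩
    obtain ⟨a, ha⟩ := exists_tr C h2 CΦ
    have hJ : InJ (Q a) := (Cfsg.Agent.S5983.inJ_iff_count C h2 hι).mpr (by
      rw [ha]; exact natCard_singular_comp (Q := Q) (g := g))
    have hat : (t : GL ι F).val *ᵥ a = a := by
      have h1 : ∀ v, B a ((t : GL ι F).val *ᵥ v) = B a v := fun v => by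
        refine sq_injective_two h2 ?_
        have e := congrFun ha ((t : GL ι F).val *ᵥ v)
        have e' := congrFun ha v
        simp only [tr] at e e'
        rw [mem_iso.mp t.2, ← mul_act, show g * (t : GL ι F) = (s : GL ι F) * g by
          rw [← hgt, inv_mul_cancel_right], mul_act, mem_iso.mp s.2] at e
        linear_combination e - e'
      refine sub_eq_zero.mp (C.nondeg' fun u => ?_)
      have hu := C.B_act t.2 a (((t : GL ι F)⁻¹).val *ᵥ u)
      have h3 := h1 (((t : GL ι F)⁻¹).val *ᵥ u)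
      rw [act_inv] at hu h3
      rw [map_sub, LinearMap.sub_apply, hu, ← h3, sub_self]
    obtain ⟨h, -, hQh, c, hc⟩ := exists_trans' C h2 hJ
    have hcomm : (t : GL ι F) * h = h * (t : GL ι F) := gl_ext fun v => by
      rw [mul_act, mul_act, hc, hc, Matrix.mulVec_add, Matrix.mulVec_smul, hat]
      congr 2
      rw [show B a ((t : GL ι F).val *ᵥ v) = B a v by
        conv_lhs => rw [← hat]
        exact C.B_act t.2 a v]
    have hiso : g * h⁻¹ ∈ Cfsg.isometryGroup F Q := mem_iso.mpr fun v => by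
      rw [mul_act, ← congrFun ha, ← hQh, act_inv]
    refine ⟨⟨_, hiso⟩, Subtype.ext ?_⟩
    show g * h⁻¹ * (t : GL ι F) * (g * h⁻¹)⁻¹ = (s : GL ι F)
    rw [← hgt, _root_.mul_inv_rev, inv_inv]
    calc g * h⁻¹ * (t : GL ι F) * (h * g⁻¹) = g * (h⁻¹ * ((t : GL ι F) * h)) * g⁻¹ := by group
      _ = g * (t : GL ι F) * g⁻¹ := by rw [hcomm, inv_mul_cancel_left]

/-- Involutions in the full isometry group O of the hyperbolic quadratic form Σ x_i y_i in dimension 2m over a finite field F of characteristic two, m ≥ 4 (plus type): two elements of order 2 of O are conjugate in O exactly when they are conjugate under the group of all invertible matrices preserving the polar bilinear form (u, v) ↦ Q(u + v) − Q(u) − Q(v) (the symplectic group of that form). -/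
theorem result {F : Type*} [Field F] [Fintype F] [CharP F 2] {m : ℕ} (hm : 4 ≤ m) (t s : ↥(Cfsg.isometryGroup F (Cfsg.quadFormPlus m F))) (ht : orderOf t = 2) (hs : orderOf s = 2) :
    IsConj t s ↔ ∃ g ∈ Cfsg.preserving (Units.coeHom (Matrix (Fin m ⊕ Fin m) (Fin m ⊕ Fin m) F)) (fun u v => Cfsg.quadFormPlus m F (u + v) - Cfsg.quadFormPlus m F u - Cfsg.quadFormPlus m F v), g * ((t : ↥(Cfsg.isometryGroup F (Cfsg.quadFormPlus m F))) : GL (Fin m ⊕ Fin m) F) * g⁻¹ = ((s : ↥(Cfsg.isometryGroup F (Cfsg.quadFormPlus m F))) : GL (Fin m ⊕ Fin m) F) := by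
  obtain ⟨B, C⟩ := exists_space_plus (F := F) m
  exact isConj_iff C CharTwo.two_eq_zero (k := m - 1) (by simp; omega) t s

end Cfsg.Agent.S2168
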