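import Cfsg.Statements.S2166
import Cfsg.Agent.Lib.Linear.SympInvolution

/-! Involutions of symplectic groups in characteristic two. -/

set_option autoImplicit false
open Cfsg
open scoped Matrix

namespace Cfsg.Agent.S2166

open Cfsg.Lib.Linear Cfsg.Lib.Linear.Symp Module

variable {F : Type*} [Field F] [Fintype F] [CharP F 2] {m : ℕ}

/-- The square-zero part of an element. -/
noncomputable def nil (a : Matrix.symplecticGroup (Fin m) F) : End F (Fin m ⊕ Fin m → F) :=
  Matrix.mulVecLin ((a : Matrix (Fin m ⊕ Fin m) (Fin m ⊕ Fin m) F) - 1)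

theorem nil_apply (a : Matrix.symplecticGroup (Fin m) F) (v : Fin m ⊕ Fin m → F) :
    nil a v = (a : Matrix (Fin m ⊕ Fin m) (Fin m ⊕ Fin m) F) *ᵥ v - v := by
  show _ *ᵥ v = _
  rw [Matrix.sub_mulVec, Matrix.one_mulVec]

theorem nil_props (a : Matrix.symplecticGroup (Fin m) F) (ha : a * a = 1) :
    (∀ x, nil a (nil a x) = 0) ∧ ∀ u v, spB m F (nil a u) v = spB m F u (nil a v) := by
  have hinv : ∀ x, (a : Matrix (Fin m ⊕ Fin m) (Fin m ⊕ Fin m) F) *ᵥ ((a : Matrix (Fin m ⊕ Fin m) (Fin m ⊕ Fin m) F) *ᵥ x) = x :=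
    fun x => by rw [Matrix.mulVec_mulVec, ← Submonoid.coe_mul, ha, Submonoid.coe_one, Matrix.one_mulVec]
  refine ⟨fun x => ?_, fun u v => ?_⟩
  · rw [nil_apply, nil_apply, Matrix.mulVec_sub, hinv]
    funext i
    simp only [Pi.sub_apply, Pi.zero_apply, CharTwo.sub_eq_add]
    linear_combination (x i + ((a : Matrix (Fin m ⊕ Fin m) (Fin m ⊕ Fin m) F) *ᵥ x) i) * (CharTwo.two_eq_zero (R := F))
  · rw [nil_apply, nil_apply, map_sub, map_sub, LinearMap.sub_apply]
    congr 1
    conv_lhs => rw [← hinv v]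
    exact (mem_symplecticGroup_iff _).1 a.2 _ _

theorem rank_eq (a : Matrix.symplecticGroup (Fin m) F) :
    ((a : Matrix (Fin m ⊕ Fin m) (Fin m ⊕ Fin m) F) - 1).rank = finrank F (LinearMap.range (nil a)) := rfl

theorem zero_set (a : Matrix.symplecticGroup (Fin m) F) (v : Fin m ⊕ Fin m → F) :
    Cfsg.sympForm m F v ((a : Matrix (Fin m ⊕ Fin m) (Fin m ⊕ Fin m) F) *ᵥ v) = spB m F v (nil a v) := by
  rw [nil_apply, map_sub, (spB_isAlt m F).self_eq_zero, sub_zero, spB_apply]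

theorem alt_iff_card (a : Matrix.symplecticGroup (Fin m) F) :
    (∀ v, spB m F v (nil a v) = 0) ↔
      Nat.card {v : Fin m ⊕ Fin m → F // Cfsg.sympForm m F v ((a : Matrix (Fin m ⊕ Fin m) (Fin m ⊕ Fin m) F) *ᵥ v) = 0} =
        Nat.card (Fin m ⊕ Fin m → F) := by
  classical
  simp only [zero_set]
  constructor
  · intro h
    exact Nat.card_congr (Equiv.subtypeUnivEquiv h)
  · intro h v
    by_contra hv
    rw [Nat.card_eq_fintype_card, Nat.card_eq_fintype_card] at h
    exact (Fintype.card_subtype_lt (x := v) hv).ne h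

theorem nil_conj {a b : Matrix.symplecticGroup (Fin m) F} (c : Matrix.symplecticGroup (Fin m) F) (h : c * a * c⁻¹ = b)
    (x : Fin m ⊕ Fin m → F) : (c : Matrix (Fin m ⊕ Fin m) (Fin m ⊕ Fin m) F) *ᵥ nil a x =
      nil b ((c : Matrix (Fin m ⊕ Fin m) (Fin m ⊕ Fin m) F) *ᵥ x) := by
  rw [nil_apply, nil_apply, Matrix.mulVec_sub, Matrix.mulVec_mulVec, Matrix.mulVec_mulVec, ← Submonoid.coe_mul,
    ← Submonoid.coe_mul, ← h, inv_mul_cancel_right]

theorem isConj_of_type {a b : Matrix.symplecticGroup (Fin m) F} (ha : a * a = 1) (hb : b * b = 1)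
    (hr : finrank F (LinearMap.range (nil a)) = finrank F (LinearMap.range (nil b)))
    (ht : (∀ v, spB m F v (nil a v) = 0) ↔ ∀ v, spB m F v (nil b v) = 0) : IsConj a b := by
  obtain ⟨g, hg, hgx⟩ := SympInv.exists_conj_of_type (spB_nondegenerate m F) (spB_isAlt m F) (nil a) (nil b)
    (nil_props a ha).1 (nil_props b hb).1 (nil_props a ha).2 (nil_props b hb).2 hr ht
  set c := spEquiv.symm ⟨g, hg⟩ with hc
  have hcx : ∀ x, (c : Matrix (Fin m ⊕ Fin m) (Fin m ⊕ Fin m) F) *ᵥ x = g x := fun x => by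
    rw [← spEquiv_apply, hc, MulEquiv.apply_symm_apply]
  refine isConj_iff.2 ⟨c, mul_inv_eq_iff_eq_mul.2 (spEquiv.injective (Subtype.ext (LinearEquiv.ext fun x => ?_)))⟩
  rw [spEquiv_apply, spEquiv_apply, Submonoid.coe_mul, Submonoid.coe_mul, ← Matrix.mulVec_mulVec, ← Matrix.mulVec_mulVec]
  have h1 := hgx x
  rw [nil_apply, nil_apply, map_sub] at h1
  rw [hcx, hcx]
  exact sub_left_inj.1 h1

theorem main (hm : 2 ≤ m) (a b : ↥(Matrix.symplecticGroup (Fin m) F)) (ha : orderOf a = 2) (hb : orderOf b = 2) :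
    IsConj a b ↔ ((((a : ↥(Matrix.symplecticGroup (Fin m) F)) : Matrix (Fin m ⊕ Fin m) (Fin m ⊕ Fin m) F) - 1).rank = (((b : ↥(Matrix.symplecticGroup (Fin m) F)) : Matrix (Fin m ⊕ Fin m) (Fin m ⊕ Fin m) F) - 1).rank ∧
      (Even (((a : ↥(Matrix.symplecticGroup (Fin m) F)) : Matrix (Fin m ⊕ Fin m) (Fin m ⊕ Fin m) F) - 1).rank → Nat.card {v : Fin m ⊕ Fin m → F // Cfsg.sympForm m F v (Matrix.mulVec ((a : ↥(Matrix.symplecticGroup (Fin m) F)) : Matrix (Fin m ⊕ Fin m) (Fin m ⊕ Fin m) F) v) = 0} = Nat.card {v : Fin m ⊕ Fin m → F // Cfsg.sympForm m F v (Matrix.mulVec ((b : ↥(Matrix.symplecticGroup (Fin m) F)) : Matrix (Fin m ⊕ Fin m) (Fin m ⊕ Fin m) F) v) = 0})) := by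
  classical
  have ha' : a * a = 1 := by rw [← pow_two, ← ha, pow_orderOf_eq_one]
  have hb' : b * b = 1 := by rw [← pow_two, ← hb, pow_orderOf_eq_one]
  constructor
  · intro h
    obtain ⟨c, hc⟩ := isConj_iff.1 h
    let L := (spEquiv c : (Fin m ⊕ Fin m → F) ≃ₗ[F] (Fin m ⊕ Fin m → F))
    have hL : ∀ x, L (nil a x) = nil b (L x) := fun x => nil_conj c hc x
    refine ⟨?_, fun _ => ?_⟩
    · rw [rank_eq, rank_eq, show nil b = L.toLinearMap ∘ₗ nil a ∘ₗ L.symm.toLinearMap from LinearMap.ext fun x => by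
        simp [hL], LinearMap.range_comp, LinearMap.range_comp_of_range_eq_top _ (LinearEquiv.range _)]
      exact (L.submoduleMap _).finrank_eq
    · refine Nat.card_congr (L.toEquiv.subtypeEquiv fun v => ?_)
      rw [zero_set, zero_set]
      show _ ↔ spB m F (L v) (nil b (L v)) = 0
      rw [← hL]
      exact (Iff.of_eq (congrArg (· = 0) (((mem_symplecticGroup_iff _).1 c.2 v (nil a v)).symm)))
  · rintro ⟨hr, hcard⟩
    rw [rank_eq, rank_eq] at hr
    refine isConj_of_type ha' hb' hr ?_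
    by_cases he : Even (finrank F (LinearMap.range (nil a)))
    · rw [alt_iff_card, alt_iff_card, hcard he]
    · exact iff_of_false (fun h => he (SympInv.rank_even (spB_nondegenerate m F) _ (nil_props a ha').2 h))
        (fun h => he (hr ▸ SympInv.rank_even (spB_nondegenerate m F) _ (nil_props b hb').2 h))

/-- Conjugacy of involutions in the symplectic group Sp_{2m}(F), F a finite field of characteristic two, m ≥ 2 (Sp taken as the matrices A with A J Aᵀ = J, acting on column vectors, with the alternating form f(u, v) = u ⬝ (J v)). For an involution t write V(t) for the set of vectors v with f(v, t v) = 0 (a subspace). Two involutions a, b are conjugate in Sp_{2m}(F) exactly when a − 1 and b − 1 have the same rank and, in case that rank is even, V(a) and V(b) have the same number of elements. -/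
theorem result {F : Type*} [Field F] [Fintype F] [CharP F 2] {m : ℕ} (hm : 2 ≤ m) (a b : ↥(Matrix.symplecticGroup (Fin m) F)) (ha : orderOf a = 2) (hb : orderOf b = 2) :
    IsConj a b ↔ ((((a : ↥(Matrix.symplecticGroup (Fin m) F)) : Matrix (Fin m ⊕ Fin m) (Fin m ⊕ Fin m) F) - 1).rank = (((b : ↥(Matrix.symplecticGroup (Fin m) F)) : Matrix (Fin m ⊕ Fin m) (Fin m ⊕ Fin m) F) - 1).rank ∧
      (Even (((a : ↥(Matrix.symplecticGroup (Fin m) F)) : Matrix (Fin m ⊕ Fin m) (Fin m ⊕ Fin m) F) - 1).rank → Nat.card {v : Fin m ⊕ Fin m → F // Cfsg.sympForm m F v (Matrix.mulVec ((a : ↥(Matrix.symplecticGroup (Fin m) F)) : Matrix (Fin m ⊕ Fin m) (Fin m ⊕ Fin m) F) v) = 0} = Nat.card {v : Fin m ⊕ Fin m → F // Cfsg.sympForm m F v (Matrix.mulVec ((b : ↥(Matrix.symplecticGroup (Fin m) F)) : Matrix (Fin m ⊕ Fin m) (Fin m ⊕ Fin m) F) v) = 0})) := by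
  exact main hm a b ha hb

end Cfsg.Agent.S2166
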