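import Cfsg.Statements.S2593
import Cfsg.Agent.S2166

/-! The number of involution classes of symplectic groups in characteristic two. -/

set_option autoImplicit false
open Cfsg
open scoped Matrix

namespace Cfsg.Agent.S2593

open Cfsg.Lib.Linear Cfsg.Lib.Linear.Symp Module Cfsg.Agent.S2166

variable {F : Type*} [Field F] [Fintype F] [CharP F 2] {m : ℕ}

omit [Fintype F] [CharP F 2] in
theorem mem_block {S : Matrix (Fin m) (Fin m) F} (hS : Sᵀ = S) :
    Matrix.fromBlocks 1 S 0 1 ∈ Matrix.symplecticGroup (Fin m) F := by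
  rw [SymplecticGroup.mem_iff, Matrix.J, Matrix.fromBlocks_transpose, Matrix.fromBlocks_multiply,
    Matrix.fromBlocks_multiply]
  simp [hS]

theorem block_props {S : Matrix (Fin m) (Fin m) F} (hS : Sᵀ = S) :
    (⟨_, mem_block hS⟩ : Matrix.symplecticGroup (Fin m) F) * ⟨_, mem_block hS⟩ = 1 ∧
    finrank F (LinearMap.range (nil ⟨_, mem_block hS⟩)) = S.rank ∧
    ∀ v, spB m F v (nil ⟨_, mem_block hS⟩ v) = (v ∘ Sum.inr) ⬝ᵥ (S *ᵥ (v ∘ Sum.inr)) := by
  classical
  set a : Matrix.symplecticGroup (Fin m) F := ⟨_, mem_block hS⟩ with ha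
  have hn : ∀ v, nil a v = Sum.elim (S *ᵥ (v ∘ Sum.inr)) 0 := fun v => by
    rw [nil_apply]
    show Matrix.fromBlocks 1 S 0 1 *ᵥ v - v = _
    rw [Matrix.fromBlocks_mulVec]
    funext i
    rcases i with i | i <;> simp
  refine ⟨Subtype.ext ?_, ?_, fun v => ?_⟩
  · show Matrix.fromBlocks 1 S 0 1 * Matrix.fromBlocks 1 S 0 1 = 1
    rw [Matrix.fromBlocks_multiply, ← Matrix.fromBlocks_one]
    simp only [mul_one, one_mul, mul_zero, zero_mul, add_zero, zero_add]
    rw [show S + S = 0 from Matrix.ext fun i j => CharTwo.add_self_eq_zero (S i j)]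
  · let ι : (Fin m → F) →ₗ[F] (Fin m ⊕ Fin m → F) :=
      { toFun := fun x => Sum.elim x 0
        map_add' := fun x y => by funext i; rcases i with i | i <;> simp
        map_smul' := fun c x => by funext i; rcases i with i | i <;> simp }
    let π : (Fin m ⊕ Fin m → F) →ₗ[F] (Fin m → F) := LinearMap.funLeft F F Sum.inr
    have hπ : LinearMap.range π = ⊤ := LinearMap.range_eq_top.2 fun y => ⟨Sum.elim 0 y, rfl⟩
    have hι : Function.Injective ι := fun x y h => funext fun i => congrFun h (Sum.inl i)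
    rw [show nil a = ι ∘ₗ S.mulVecLin ∘ₗ π from LinearMap.ext hn, LinearMap.range_comp,
      LinearMap.range_comp_of_range_eq_top _ hπ]
    exact (Submodule.equivMapOfInjective ι hι _).finrank_eq.symm
  · rw [hn, spB_apply, Cfsg.sympForm, J_mulVec]
    simp [dotProduct, Fintype.sum_sum_type]

theorem card_lt {k : ℕ} (hk : k ≤ m) : Fintype.card {j : Fin m // (j : ℕ) < k} = k :=
  (Fintype.card_congr ⟨fun j => (⟨j.1, j.2⟩ : Fin k), fun i => ⟨⟨i, by omega⟩, i.2⟩, fun _ => rfl, fun _ => rfl⟩).trans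
    (Fintype.card_fin k)

theorem rank_chi {k : ℕ} (hk : k ≤ m) :
    (Matrix.diagonal fun i : Fin m => if (i : ℕ) < k then (1 : F) else 0).rank = k := by
  classical
  rw [Matrix.rank_diagonal]
  conv_rhs => rw [← card_lt hk]
  refine Fintype.card_congr (Equiv.subtypeEquivRight fun i => ?_)
  simp

/-- A representative of rank `k` of either type. -/
theorem exists_rep (k : ℕ) (hk : k ≤ m) (hk0 : k ≠ 0) (alt : Prop) (hp : alt → Even k) :
    ∃ a : Matrix.symplecticGroup (Fin m) F, orderOf a = 2 ∧ finrank F (LinearMap.range (nil a)) = k ∧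
      ((∀ v, spB m F v (nil a v) = 0) ↔ alt) := by
  classical
  suffices h : ∃ S : Matrix (Fin m) (Fin m) F, Sᵀ = S ∧ S.rank = k ∧ ((∀ y, y ⬝ᵥ (S *ᵥ y) = 0) ↔ alt) by
    obtain ⟨S, hS, hr, halt⟩ := h
    obtain ⟨h1, h2, h3⟩ := block_props hS
    refine ⟨⟨_, mem_block hS⟩, orderOf_eq_prime (by rw [pow_two, h1]) (fun he => ?_), h2.trans hr, ?_⟩
    · apply hk0
      rw [← hr, ← h2, he, show nil (1 : Matrix.symplecticGroup (Fin m) F) = 0 from LinearMap.ext fun v => by
        rw [nil_apply, Submonoid.coe_one, Matrix.one_mulVec, sub_self]; rfl, LinearMap.range_zero, finrank_bot]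
    · rw [← halt]
      exact ⟨fun h y => by simpa [h3] using h (Sum.elim 0 y), fun h v => by rw [h3]; exact h _⟩
  by_cases ha : alt
  · obtain ⟨j, rfl⟩ := hp ha
    let π : Fin m → Fin m := fun i => if h : (i : ℕ) < j + j then
      (if h' : (i : ℕ) % 2 = 0 then ⟨(i : ℕ) + 1, by omega⟩ else ⟨(i : ℕ) - 1, by omega⟩) else i
    have hπv : ∀ i : Fin m, (π i : ℕ) = if (i : ℕ) < j + j then (if (i : ℕ) % 2 = 0 then (i : ℕ) + 1 else (i : ℕ) - 1) else (i : ℕ) :=
      fun i => by simp only [π]; split_ifs <;> rfl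
    have hπlt : ∀ i : Fin m, ((π i : ℕ) < j + j ↔ (i : ℕ) < j + j) := fun i => by
      rw [hπv]; split_ifs <;> omega
    have hππ : ∀ i : Fin m, π (π i) = i := fun i => Fin.ext (by rw [hπv, hπv]; split_ifs <;> omega)
    have hπne : ∀ i : Fin m, (i : ℕ) < j + j → π i ≠ i := fun i hi he => by
      have := congrArg Fin.val he
      rw [hπv, if_pos hi] at this
      split_ifs at this <;> omega
    let S : Matrix (Fin m) (Fin m) F := Matrix.of fun a b => if (a : ℕ) < j + j ∧ π a = b then 1 else 0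
    have hSy : ∀ (y : Fin m → F) a, (S *ᵥ y) a = if (a : ℕ) < j + j then y (π a) else 0 := fun y a => by
      simp only [S, Matrix.mulVec, dotProduct, Matrix.of_apply, ite_mul, one_mul, zero_mul, ite_and]
      split_ifs <;> simp
    refine ⟨S, ?_, ?_, iff_of_true (fun y => ?_) ha⟩
    · ext a b
      simp only [S, Matrix.transpose_apply, Matrix.of_apply]
      refine if_congr ⟨fun ⟨h1, h2⟩ => ⟨by rw [← h2, hπlt]; exact h1, by rw [← h2, hππ]⟩,
        fun ⟨h1, h2⟩ => ⟨by rw [← h2, hπlt]; exact h1, by rw [← h2, hππ]⟩⟩ rfl rfl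
    · have h1 : S * S = Matrix.diagonal fun i : Fin m => if (i : ℕ) < j + j then (1 : F) else 0 := by
        refine Matrix.toLin'.injective (LinearMap.ext fun y => funext fun a => ?_)
        rw [Matrix.toLin'_apply, Matrix.toLin'_apply, ← Matrix.mulVec_mulVec, Matrix.mulVec_diagonal, hSy, hSy]
        by_cases h : (a : ℕ) < j + j <;> simp [h, hπlt, hππ]
      have h2 : (Matrix.diagonal fun i : Fin m => if (i : ℕ) < j + j then (1 : F) else 0) * S = S := by
        refine Matrix.toLin'.injective (LinearMap.ext fun y => funext fun a => ?_)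
        rw [Matrix.toLin'_apply, Matrix.toLin'_apply, ← Matrix.mulVec_mulVec, Matrix.mulVec_diagonal, hSy]
        by_cases h : (a : ℕ) < j + j <;> simp [h]
      refine le_antisymm ?_ ?_
      · calc S.rank = ((Matrix.diagonal fun i : Fin m => if (i : ℕ) < j + j then (1 : F) else 0) * S).rank := by rw [h2]
          _ ≤ _ := (Matrix.rank_mul_le_left _ _).trans (rank_chi hk).le
      · calc j + j = (S * S).rank := by rw [h1, rank_chi hk]
          _ ≤ S.rank := Matrix.rank_mul_le_left _ _
    · rw [dotProduct]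
      simp only [hSy, mul_ite, mul_zero]
      rw [← Finset.sum_filter]
      refine Finset.sum_involution (fun a _ => π a) (fun a ha => ?_) (fun a ha _ => ?_) (fun a ha => ?_) (fun a _ => hππ a)
      · rw [hππ, mul_comm (y (π a)), CharTwo.add_self_eq_zero]
      · exact hπne a (Finset.mem_filter.1 ha).2
      · exact Finset.mem_filter.2 ⟨Finset.mem_univ _, (hπlt a).2 (Finset.mem_filter.1 ha).2⟩
  · refine ⟨Matrix.diagonal fun i : Fin m => if (i : ℕ) < k then (1 : F) else 0, Matrix.diagonal_transpose _,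
      rank_chi hk, iff_of_false (fun h => ?_) ha⟩
    have := h (Pi.single ⟨0, by omega⟩ 1)
    rw [Matrix.mulVec_single_one, single_one_dotProduct] at this
    simp [show 0 < k by omega] at this

theorem invariants {a b : Matrix.symplecticGroup (Fin m) F} (h : IsConj a b) :
    finrank F (LinearMap.range (nil a)) = finrank F (LinearMap.range (nil b)) ∧
      ((∀ v, spB m F v (nil a v) = 0) ↔ ∀ v, spB m F v (nil b v) = 0) := by
  obtain ⟨c, hc⟩ := isConj_iff.1 h
  let L := (spEquiv c : (Fin m ⊕ Fin m → F) ≃ₗ[F] (Fin m ⊕ Fin m → F))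
  have hL : ∀ x, L (nil a x) = nil b (L x) := fun x => nil_conj c hc x
  have hB : ∀ v, spB m F (L v) (nil b (L v)) = spB m F v (nil a v) := fun v => by
    rw [← hL]; exact (mem_symplecticGroup_iff _).1 c.2 _ _
  refine ⟨?_, fun h v => ?_, fun h v => by rw [← hB]; exact h _⟩
  · rw [show nil b = L.toLinearMap ∘ₗ nil a ∘ₗ L.symm.toLinearMap from LinearMap.ext fun x => by
        simp [hL], LinearMap.range_comp, LinearMap.range_comp_of_range_eq_top _ (LinearEquiv.range _)]
    exact (L.submoduleMap _).finrank_eq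
  · rw [← L.apply_symm_apply v, hB]; exact h _

theorem main (hm : 1 ≤ m) :
    Nat.card {C : ConjClasses ↥(Matrix.symplecticGroup (Fin m) F) //
      ∃ g : Matrix.symplecticGroup (Fin m) F, ConjClasses.mk g = C ∧ orderOf g = 2} = m + m / 2 := by
  classical
  let k : Fin m ⊕ Fin (m / 2) → ℕ := Sum.elim (fun i => (i : ℕ) + 1) (fun i => 2 * ((i : ℕ) + 1))
  let alt : Fin m ⊕ Fin (m / 2) → Prop := fun i => i.isRight = true
  have hk : ∀ i, k i ≤ m ∧ k i ≠ 0 ∧ (alt i → Even (k i)) := by
    rintro (i | i)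
    · have := i.2
      exact ⟨by show (i : ℕ) + 1 ≤ m; omega, by simp [k], fun h => by simp [alt] at h⟩
    · have := i.2
      exact ⟨by simp [k]; omega, by simp [k], fun _ => ⟨(i : ℕ) + 1, by simp [k, two_mul]⟩⟩
  choose R hR2 hRk hRa using fun i => exists_rep (F := F) (k i) (hk i).1 (hk i).2.1 (alt i) (hk i).2.2
  rw [show m + m / 2 = Nat.card (Fin m ⊕ Fin (m / 2)) by simp]
  refine (Nat.card_eq_of_bijective (fun i => ⟨ConjClasses.mk (R i), R i, rfl, hR2 i⟩) ⟨fun i j h => ?_, ?_⟩).symm
  · obtain ⟨h1, h2⟩ := invariants (ConjClasses.mk_eq_mk_iff_isConj.1 (congrArg Subtype.val h))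
    rw [hRk, hRk] at h1
    rw [hRa, hRa] at h2
    rcases i with i | i <;> rcases j with j | j <;> simp [k, alt] at h1 h2
    · exact congrArg Sum.inl (Fin.ext h1)
    · exact congrArg Sum.inr (Fin.ext h1)
  · rintro ⟨C, g, rfl, hg⟩
    have hg' : g * g = 1 := by rw [← pow_two, ← hg, pow_orderOf_eq_one]
    obtain ⟨hN2, hadj⟩ := nil_props g hg'
    set r := finrank F (LinearMap.range (nil g)) with hr
    have hr0 : r ≠ 0 := by
      intro h0
      have h1 : LinearMap.range (nil g) = ⊥ := Submodule.finrank_eq_zero.1 h0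
      have h2 : g = 1 := by
        refine spEquiv.injective (Subtype.ext (LinearEquiv.ext fun x => ?_))
        rw [map_one, spEquiv_apply]
        show _ = x
        have h3 : nil g x = 0 := (Submodule.mem_bot F).1 (h1 ▸ LinearMap.mem_range_self _ x)
        rw [nil_apply, sub_eq_zero] at h3
        exact h3
      rw [h2, orderOf_one] at hg
      omega
    have hrm : r ≤ m := by
      have hle : LinearMap.range (nil g) ≤ (spB m F).orthogonal (LinearMap.range (nil g)) := by
        rintro _ ⟨x, rfl⟩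
        rw [LinearMap.BilinForm.mem_orthogonal_iff]
        rintro _ ⟨y, rfl⟩
        show spB m F (nil g y) (nil g x) = 0
        rw [hadj, hN2, map_zero]
      have h1 := Submodule.finrank_mono hle
      rw [LinearMap.BilinForm.finrank_orthogonal (spB_nondegenerate m F), finrank_space, ← hr] at h1
      omega
    by_cases ha : ∀ v, spB m F v (nil g v) = 0
    · obtain ⟨j, hj⟩ := SympInv.rank_even (spB_nondegenerate m F) _ hadj ha
      rw [← hr] at hj
      refine ⟨Sum.inr ⟨j - 1, by omega⟩, Subtype.ext (ConjClasses.mk_eq_mk_iff_isConj.2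
        (isConj_of_type (orderOf_dvd_iff_pow_eq_one.1 (hR2 _).dvd |> fun h => (pow_two _).symm.trans h) hg' ?_ ?_))⟩
      · rw [hRk, ← hr]; simp [k]; omega
      · rw [hRa]; exact iff_of_true rfl ha
    · refine ⟨Sum.inl ⟨r - 1, by omega⟩, Subtype.ext (ConjClasses.mk_eq_mk_iff_isConj.2
        (isConj_of_type (orderOf_dvd_iff_pow_eq_one.1 (hR2 _).dvd |> fun h => (pow_two _).symm.trans h) hg' ?_ ?_))⟩
      · rw [hRk, ← hr]; simp [k]; omega
      · rw [hRa]; exact iff_of_false (by simp [alt]) ha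

/-- Number of conjugacy classes of involutions in the symplectic group Sp_2m(F) over a finite field of characteristic two (m ≥ 1): for each s with 1 ≤ s ≤ m there is one class with rank(t − 1) = s if s is odd and two if s is even (according as v ↦ f(v, tv), f the symplectic form, vanishes identically or not), so m + ⌊m/2⌋ classes in all. -/
theorem result {F : Type*} [Field F] [Fintype F] [CharP F 2] {m : ℕ} (hm : 1 ≤ m) : Nat.card {C : ConjClasses ↥(Matrix.symplecticGroup (Fin m) F) // ∃ g : Matrix.symplecticGroup (Fin m) F, ConjClasses.mk g = C ∧ orderOf g = 2} = m + m / 2 := by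
  exact main hm

end Cfsg.Agent.S2593
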