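import Cfsg.Statements.S0750
import Mathlib

set_option linter.style.haveILetI false

set_option autoImplicit false
open Cfsg

namespace Cfsg.Agent.S0750

open Module in
/-- Isometries of a quadratic space fixing a subspace are transitive on admissible vectors. -/
theorem exists_iso_map {F V : Type*} [Field F] [AddCommGroup V] [Module F V] [FiniteDimensional F V]
    (Q : QuadraticForm F V) (hQ : (QuadraticMap.polarBilin Q).Nondegenerate) (X : Submodule F V)
    {a b : V} (ha : a ∉ X) (hb : b ∉ X) (hab : Q a = Q b)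
    (h : ∀ x ∈ X, QuadraticMap.polar Q x a = QuadraticMap.polar Q x b) :
    ∃ t : V ≃ₗ[F] V, ((∀ v, Q (t v) = Q v) ∧ ∀ x ∈ X, t x = x) ∧ t a = b := by
  classical
  set B := QuadraticMap.polarBilin Q with hBdef
  have hsym : ∀ u v, B u v = B v u := fun u v => QuadraticMap.polar_comm Q u v
  have hadd : ∀ u v, Q (u + v) = Q u + Q v + B u v := fun u v => QuadraticMap.map_add Q u v
  have hsm : ∀ (c : F) v, Q (c • v) = c * c * Q v := fun c v => by
    rw [QuadraticMap.map_smul, smul_eq_mul]
  have hself : ∀ v, B v v = 2 * Q v := fun v => by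
    show QuadraticMap.polar Q v v = _
    rw [QuadraticMap.polar_self]; ring
  -- an isometry fixing `X` given as a linear map
  have mkIso : ∀ f : V →ₗ[F] V, (∀ v, Q (f v) = Q v) → (∀ x ∈ X, f x = x) → f a = b →
      ∃ t : V ≃ₗ[F] V, ((∀ v, Q (t v) = Q v) ∧ ∀ x ∈ X, t x = x) ∧ t a = b := by
    intro f hf hfX hfa
    have hinj : Function.Injective f := by
      rw [injective_iff_map_eq_zero]
      intro v hv
      refine hQ.1 v fun u => ?_
      show QuadraticMap.polar Q v u = 0
      have h1 : QuadraticMap.polar Q (f v) (f u) = QuadraticMap.polar Q v u := by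
        simp only [QuadraticMap.polar]
        rw [← map_add f, hf, hf, hf]
      rw [← h1, hv, QuadraticMap.polar_zero_left]
    exact ⟨LinearEquiv.ofBijective f ⟨hinj, LinearMap.injective_iff_surjective.1 hinj⟩, ⟨hf, hfX⟩, hfa⟩
  set d := b - a with hd
  have hbd : b = a + d := by rw [hd]; abel
  have hdX : ∀ x ∈ X, B x d = 0 := by
    intro x hx
    rw [hd, map_sub, sub_eq_zero]
    exact (h x hx).symm
  have hBad : B a d = -Q d := by
    have := hadd a d
    rw [← hbd, ← hab] at this
    linear_combination -this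
  by_cases hQd : Q d = 0
  · rw [hQd, neg_zero] at hBad
    have hBdd : B d d = 0 := by rw [hself, hQd, mul_zero]
    by_cases hu : ∃ u, (∀ x ∈ X, B x u = 0) ∧ B d u = 0 ∧ B a u ≠ 0
    · obtain ⟨u₀, hu1, hu2, hu3⟩ := hu
      set u := (-(B a u₀)⁻¹) • u₀ with hudef
      have huX : ∀ x ∈ X, B x u = 0 := fun x hx => by rw [hudef, map_smul, hu1 x hx, smul_zero]
      have hud : B d u = 0 := by rw [hudef, map_smul, hu2, smul_zero]
      have hau : B a u = -1 := by
        rw [hudef, map_smul, smul_eq_mul, neg_mul, inv_mul_cancel₀ hu3]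
      clear_value u
      refine mkIso (LinearMap.id + (B d).smulRight u - (B u).smulRight d -
        (Q u • B d).smulRight d) (fun v => ?_) (fun x hx => ?_) ?_
      · have e : (LinearMap.id + (B d).smulRight u - (B u).smulRight d - (Q u • B d).smulRight d : V →ₗ[F] V) v =
            (v + (B d v) • u) + (-(B u v) - Q u * B d v) • d := by
          simp only [LinearMap.sub_apply, LinearMap.add_apply, LinearMap.id_apply,
            LinearMap.smulRight_apply, LinearMap.smul_apply, smul_eq_mul, sub_smul, neg_smul]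
          abel
        rw [e, hadd, hadd, hsm, hsm, hQd, map_add, LinearMap.add_apply]
        simp only [map_smul, LinearMap.smul_apply, smul_eq_mul, hsym v u, hsym u d, hud, hsym v d]
        ring
      · simp [hsym d x, hdX x hx, hsym u x, huX x hx]
      · simp [hsym d a, hBad, hsym u a, hau, hbd]
    · push Not at hu
      have hmem : a ∈ X ⊔ Submodule.span F {d} := by
        rw [← LinearMap.BilinForm.orthogonal_orthogonal hQ (fun u v huv => by rw [← huv]; exact hsym v u)
          (X ⊔ Submodule.span F {d})]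
        intro u hu'
        show B u a = 0
        rw [hsym]
        exact hu u (fun x hx => hu' x (Submodule.mem_sup_left hx))
          (hu' d (Submodule.mem_sup_right (Submodule.mem_span_singleton_self d)))
      obtain ⟨x₀, hx₀, z, hz, hxa⟩ := Submodule.mem_sup.1 hmem
      obtain ⟨c, rfl⟩ := Submodule.mem_span_singleton.1 hz
      have hc0 : c ≠ 0 := fun hc => ha (by rw [← hxa, hc, zero_smul, add_zero]; exact hx₀)
      have hdnX : d ∉ X := fun hc => ha (hxa ▸ add_mem hx₀ (X.smul_mem c hc))
      have hc1 : c + 1 ≠ 0 := fun hc => hb (by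
        rw [hbd, ← hxa, add_assoc, show c • d + d = (c + 1) • d by rw [add_smul, one_smul], hc, zero_smul,
          add_zero]; exact hx₀)
      obtain ⟨w₀, hw₀, hdw₀⟩ : ∃ w, (∀ x ∈ X, B x w = 0) ∧ B d w = 1 := by
        by_contra hcon
        push Not at hcon
        apply hdnX
        rw [← LinearMap.BilinForm.orthogonal_orthogonal hQ (fun u v huv => by rw [← huv]; exact hsym v u) X]
        intro u hu'
        show B u d = 0
        rw [hsym]
        by_contra hne
        refine hcon ((B d u)⁻¹ • u) (fun x hx => ?_) ?_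
        · rw [map_smul]; rw [show B x u = 0 from hu' x hx, smul_zero]
        · rw [map_smul, smul_eq_mul, inv_mul_cancel₀ hne]
      set w := w₀ - Q w₀ • d with hw
      have hwX : ∀ x ∈ X, B x w = 0 := fun x hx => by
        rw [hw, map_sub, map_smul, hw₀ x hx, hdX x hx, smul_zero, sub_zero]
      have hdw : B d w = 1 := by rw [hw, map_sub, map_smul, hdw₀, hBdd, smul_zero, sub_zero]
      have hQw : Q w = 0 := by
        rw [hw, sub_eq_add_neg, ← neg_smul, hadd, hsm, hQd, map_smul, hsym w₀ d, hdw₀, smul_eq_mul]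
        ring
      set l := (c + 1) * c⁻¹ with hl
      have hl0 : l ≠ 0 := mul_ne_zero hc1 (inv_ne_zero hc0)
      refine mkIso (LinearMap.id + ((l - 1) • B w).smulRight d + ((l⁻¹ - 1) • B d).smulRight w)
        (fun v => ?_) (fun x hx => ?_) ?_
      · have e : (LinearMap.id + ((l - 1) • B w).smulRight d + ((l⁻¹ - 1) • B d).smulRight w : V →ₗ[F] V) v =
            (v + ((l - 1) * B w v) • d) + ((l⁻¹ - 1) * B d v) • w := by
          simp
        rw [e, hadd, hadd, hsm, hsm, hQd, hQw, map_add, LinearMap.add_apply]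
        simp only [map_smul, LinearMap.smul_apply, smul_eq_mul, hsym v w, hdw, hsym v d]
        field_simp
        ring
      · simp [hsym d x, hdX x hx, hsym w x, hwX x hx]
      · have e1 : B w x₀ = 0 := by rw [hsym]; exact hwX x₀ hx₀
        have e2 : B d x₀ = 0 := by rw [hsym]; exact hdX x₀ hx₀
        have e3 : B w d = 1 := by rw [hsym]; exact hdw
        have ew : B w a = c := by rw [← hxa, map_add, map_smul, e1, e3, smul_eq_mul]; ring
        have ed : B d a = 0 := by rw [← hxa, map_add, map_smul, e2, hBdd, smul_eq_mul]; ring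
        simp only [LinearMap.add_apply, LinearMap.id_apply, LinearMap.smulRight_apply,
          LinearMap.smul_apply, smul_eq_mul, ew, ed]
        rw [hbd]
        simp only [mul_zero, mul_one, zero_add, add_zero, zero_smul]
        have : (l - 1) * c = 1 := by rw [hl]; field_simp; ring
        rw [this, one_smul]
  · refine mkIso (LinearMap.id - ((Q d)⁻¹ • B d).smulRight d) (fun v => ?_) (fun x hx => ?_) ?_
    · have e : (LinearMap.id - ((Q d)⁻¹ • B d).smulRight d : V →ₗ[F] V) v =
          v + (-((Q d)⁻¹ * B d v)) • d := by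
        simp [sub_eq_add_neg]
      rw [e, hadd, hsm, map_smul, smul_eq_mul, hsym v d]
      field_simp
      ring
    · simp [hsym d x, hdX x hx]
    · simp [hsym d a, hBad, hQd, hbd]

open Module in
/-- Witt extension for quadratic forms. -/
theorem witt_quadratic {F V : Type*} [Field F] [AddCommGroup V] [Module F V] [FiniteDimensional F V]
    (Q : QuadraticForm F V) (hQ : (QuadraticMap.polarBilin Q).Nondegenerate) (X : Submodule F V)
    (φ : X →ₗ[F] V) (hinj : Function.Injective φ) (hφ : ∀ x : X, Q (φ x) = Q (x : V)) :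
    ∃ t : V ≃ₗ[F] V, (∀ v, Q (t v) = Q v) ∧ ∀ x : X, t (x : V) = φ x := by
  classical
  suffices H : ∀ (k : ℕ) (X' : Submodule F V) (h : X' ≤ X), finrank F ↥X' ≤ k →
      ∃ t : V ≃ₗ[F] V, (∀ v, Q (t v) = Q v) ∧ ∀ x : X', t (x : V) = φ ⟨x, h x.2⟩ by
    obtain ⟨t, ht, hx⟩ := H _ X le_rfl le_rfl
    exact ⟨t, ht, hx⟩
  intro k
  induction k with
  | zero =>
    intro X' h hk
    have : X' = ⊥ := Submodule.finrank_eq_zero.1 (by omega)
    subst this
    refine ⟨1, fun v => rfl, fun x => ?_⟩
    have : (x : V) = 0 := (Submodule.mem_bot F).1 x.2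
    show (x : V) = φ _
    rw [show (⟨(x : V), h x.2⟩ : X) = 0 from Subtype.ext this, map_zero, this]
  | succ k ih =>
    intro X' h hk
    by_cases hX' : finrank F ↥X' ≤ k
    · exact ih X' h hX'
    have hpos : 0 < finrank F ↥X' := by omega
    obtain ⟨W, hW⟩ : ∃ W : Submodule F ↥X', IsCoatom W := by
      haveI : Nontrivial ↥X' := Module.finrank_pos_iff.1 hpos
      obtain ⟨W, hW, -⟩ := (eq_top_or_exists_le_coatom (⊥ : Submodule F ↥X')).resolve_left bot_ne_top
      exact ⟨W, hW⟩
    set Y := W.map X'.subtype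
    have hYX : Y ≤ X' := Submodule.map_subtype_le X' W
    have hYk : finrank F ↥Y ≤ k := by
      rw [Submodule.finrank_map_subtype_eq]
      have := Submodule.finrank_lt (s := W) hW.1
      omega
    obtain ⟨s, hs, hsY⟩ := ih Y (hYX.trans h) hYk
    obtain ⟨a', ha'⟩ : ∃ a' : X', a' ∉ W := by
      by_contra hc
      push_neg at hc
      exact hW.1 ((Submodule.eq_top_iff').2 hc)
    set a : V := (a' : V)
    set b : V := φ ⟨a, h a'.2⟩
    set Z := Y.map (s : V →ₗ[F] V)
    have haY : a ∉ Y := fun hc => by
      obtain ⟨w, hw, he⟩ := hc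
      exact ha' (Subtype.ext he ▸ hw)
    have hsa : s a ∉ Z := fun ⟨y, hy, he⟩ => haY (s.injective he ▸ hy)
    have hbZ : b ∉ Z := by
      rintro ⟨y, hy, he⟩
      have he' : s y = b := he
      rw [hsY ⟨y, hy⟩] at he'
      have h2 : y = a := congrArg Subtype.val (hinj he')
      exact haY (h2 ▸ hy)
    obtain ⟨t, ⟨ht, htZ⟩, htb⟩ := exists_iso_map Q hQ Z hsa hbZ (by rw [hs a]; exact (hφ ⟨a, h a'.2⟩).symm) (by
      rintro _ ⟨y, hy, rfl⟩
      show QuadraticMap.polar Q (s y) (s a) = QuadraticMap.polar Q (s y) b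
      rw [hsY ⟨y, hy⟩]
      show QuadraticMap.polar Q (φ ⟨y, _⟩) (s a) = QuadraticMap.polar Q (φ ⟨y, _⟩) (φ _)
      have e1 : QuadraticMap.polar Q (φ ⟨y, h (hYX hy)⟩) (φ ⟨a, h a'.2⟩) = QuadraticMap.polar Q y a := by
        simp only [QuadraticMap.polar]
        rw [← map_add φ, hφ, hφ, hφ]
        rfl
      rw [e1, ← hsY ⟨y, hy⟩]
      simp only [QuadraticMap.polar]
      rw [← map_add s, hs, hs, hs])
    refine ⟨t * s, fun v => by rw [LinearEquiv.mul_apply, ht, hs], fun x => ?_⟩
    have hsup : W ⊔ Submodule.span F {a'} = ⊤ := by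
      refine hW.2 _ (lt_of_le_of_ne le_sup_left fun he => ha' ?_)
      rw [he]; exact Submodule.mem_sup_right (Submodule.mem_span_singleton_self a')
    have hx : x ∈ W ⊔ Submodule.span F {a'} := hsup ▸ Submodule.mem_top
    obtain ⟨w, hw, z, hz, rfl⟩ := Submodule.mem_sup.1 hx
    obtain ⟨c, rfl⟩ := Submodule.mem_span_singleton.1 hz
    have hw' : (w : V) ∈ Y := ⟨w, hw, rfl⟩
    show t (s ((w : V) + c • a)) = _
    rw [map_add, map_add, map_smul, map_smul, htb,
      htZ (s (w : V)) ⟨(w : V), hw', rfl⟩, hsY ⟨(w : V), hw'⟩]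
    rw [← map_smul, ← map_add]
    rfl

/-- Witt's Lemma for quadratic forms over a finite field, in any characteristic: if Q is a quadratic form on a finite-dimensional space V whose polar bilinear form is non-degenerate, then every linear equivalence between subspaces X, Y of V that preserves Q extends to a Q-preserving linear automorphism of V. (In odd characteristic this is the symmetric-bilinear case; in characteristic two it is the statement for non-degenerate quadratic forms.) -/
theorem result {F V : Type*} [Field F] [Finite F] [AddCommGroup V] [Module F V] [FiniteDimensional F V] (Q : QuadraticForm F V) (hQ : (QuadraticMap.polarBilin Q).Nondegenerate) (X Y : Submodule F V) (φ : X ≃ₗ[F] Y) (hφ : ∀ x : X, Q (φ x : V) = Q (x : V)) : ∃ g : V ≃ₗ[F] V, (∀ v : V, Q (g v) = Q v) ∧ ∀ x : X, g (x : V) = (φ x : V) := by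
  exact witt_quadratic Q hQ X (Y.subtype.comp φ.toLinearMap)
    (Subtype.val_injective.comp φ.injective) hφ

end Cfsg.Agent.S0750
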