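import Cfsg.Statements.S1242
import Cfsg.Agent.Lib.Fusion.Basic
-- import your own Cfsg.Agent.* helpers here

set_option autoImplicit false
open Cfsg

namespace Cfsg.Agent.S1242

/-- Let G be a finite group, p a prime and H a subgroup of index prime to p such that any two elements of H of p-power order that are conjugate in G are conjugate in H. Then (O^p(G)·G') ∩ H = O^p(H)·H', where O^p denotes the subgroup generated by the elements of order prime to p. -/
theorem result {G : Type*} [Group G] [Finite G] {p : ℕ} [Fact p.Prime] (H : Subgroup G) (hidx : Nat.Coprime p H.index) (hfus : ∀ g ∈ H, (∃ k : ℕ, orderOf g = p ^ k) → ∀ a : G, a * g * a⁻¹ ∈ H → ∃ h ∈ H, h * g * h⁻¹ = a * g * a⁻¹) : (Cfsg.pResidual p G ⊔ commutator G) ⊓ H = (Cfsg.pResidual p ↥H ⊔ commutator ↥H).map H.subtype := by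
  refine le_antisymm ?_ ?_
  swap
  · rw [Subgroup.map_sup]
    refine le_inf (sup_le_sup (Cfsg.Lib.Fusion.map_subtype_pResidual_le H) ?_)
      (sup_le (Subgroup.map_subtype_le _) (Subgroup.map_subtype_le _))
    rw [commutator_def, commutator_def, Subgroup.map_commutator]
    exact Subgroup.commutator_mono le_top le_top
  obtain ⟨P₀⟩ : Nonempty (Sylow p ↥H) := inferInstance
  obtain ⟨P, hP⟩ := (P₀.isPGroup'.map H.subtype).exists_le_sylow
  have hPH : (P : Subgroup G) = (P₀ : Subgroup ↥H).map H.subtype := by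
    refine (Subgroup.eq_of_le_of_card_ge hP ?_).symm
    rw [Subgroup.card_map_of_injective H.subtype_injective, P.card_eq_multiplicity,
      P₀.card_eq_multiplicity, ← Subgroup.card_mul_index H, Nat.factorization_mul Nat.card_pos.ne'
        Subgroup.index_ne_zero_of_finite, Finsupp.add_apply, Nat.factorization_eq_zero_of_not_dvd
        ((Fact.out : p.Prime).coprime_iff_not_dvd.mp hidx), add_zero]
  intro x hx
  obtain ⟨hxA, hxH⟩ := hx
  obtain ⟨a, ha, b, hb, hab⟩ := Cfsg.Lib.Fusion.exists_mul_of_sylow P₀ (⟨x, hxH⟩ : ↥H)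
  have haP : (a : G) ∈ (P : Subgroup G) := hPH ▸ Subgroup.mem_map_of_mem _ ha
  have hbA : (b : G) ∈ Cfsg.pResidual p G ⊔ commutator G :=
    Subgroup.mem_sup_left (Cfsg.Lib.Fusion.map_subtype_pResidual_le H (Subgroup.mem_map_of_mem _ hb))
  have haA : (a : G) ∈ Cfsg.pResidual p G ⊔ commutator G := by
    have he : x = (a : G) * (b : G) := congrArg Subtype.val hab
    have := mul_mem (he ▸ hxA) (inv_mem hbA)
    simpa using this
  have haG : (a : G) ∈ commutator G := by
    set A := G ⧸ commutator G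
    letI : CommGroup A := inferInstanceAs (CommGroup (Abelianization G))
    let π : G →* A := QuotientGroup.mk' (commutator G)
    let S : Subgroup A :=
      { carrier := {z | (orderOf z).Coprime p}
        one_mem' := by simp
        mul_mem' := fun {u v} hu hv => Nat.Coprime.coprime_dvd_left
          (Commute.orderOf_mul_dvd_mul_orderOf (Commute.all u v)) (Nat.Coprime.mul_left hu hv)
        inv_mem' := fun {u} hu => by
          show (orderOf u⁻¹).Coprime p
          rw [orderOf_inv]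
          exact hu }
    have hle : Cfsg.pResidual p G ⊔ commutator G ≤ S.comap π := by
      refine sup_le ((Subgroup.closure_le _).mpr fun g hg =>
        Nat.Coprime.coprime_dvd_left (orderOf_map_dvd π g) hg) fun g hg => ?_
      show (orderOf (π g)).Coprime p
      rw [show π g = 1 from (QuotientGroup.eq_one_iff g).mpr hg, orderOf_one]
      exact Nat.coprime_one_left p
    have h1 : (orderOf (π (a : G))).Coprime p := hle haA
    obtain ⟨k, hk⟩ := IsPGroup.iff_orderOf.mp P.isPGroup' ⟨a, haP⟩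
    rw [Subgroup.orderOf_mk] at hk
    exact (QuotientGroup.eq_one_iff (a : G)).mp (orderOf_eq_one_iff.mp
      (Nat.Coprime.eq_one_of_dvd (h1.pow_right k) (hk ▸ orderOf_map_dvd π (a : G))))
  have hfoc : (P : Subgroup G).focalSubgroup ≤ (commutator ↥H).map H.subtype := by
    rw [Subgroup.focalSubgroup_def, Subgroup.closure_le]
    rintro z ⟨hz, y, hy, u, rfl⟩
    have hPleH : (P : Subgroup G) ≤ H := hPH ▸ Subgroup.map_subtype_le _
    have hu : u * y⁻¹ * u⁻¹ ∈ (P : Subgroup G) := by
      have := mul_mem (inv_mem hy) hz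
      simpa [commutatorElement_def, mul_assoc] using this
    obtain ⟨k, hk⟩ := IsPGroup.iff_orderOf.mp P.isPGroup' ⟨y⁻¹, inv_mem hy⟩
    rw [Subgroup.orderOf_mk] at hk
    obtain ⟨h, hh, he⟩ := hfus y⁻¹ (hPleH (inv_mem hy)) ⟨k, hk⟩ u (hPleH hu)
    refine ⟨(⟨y, hPleH hy⟩ : ↥H) * ⟨h, hh⟩ * (⟨y, hPleH hy⟩ : ↥H)⁻¹ * (⟨h, hh⟩ : ↥H)⁻¹, ?_, ?_⟩
    · exact Subgroup.commutator_mem_commutator (Subgroup.mem_top _) (Subgroup.mem_top _)
    · show y * h * y⁻¹ * h⁻¹ = y * u * y⁻¹ * u⁻¹
      simp only [mul_assoc] at he ⊢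
      rw [he]
  have ha' : (a : G) ∈ (Cfsg.pResidual p ↥H ⊔ commutator ↥H).map H.subtype :=
    Subgroup.map_mono le_sup_right (hfoc (Subgroup.commutator_inf_eq_focalSubgroup P ▸
      (⟨haG, haP⟩ : (a : G) ∈ commutator G ⊓ (P : Subgroup G))))
  refine ⟨⟨x, hxH⟩, ?_, rfl⟩
  rw [hab]
  refine mul_mem ?_ (Subgroup.mem_sup_left hb)
  obtain ⟨a', ha'', he⟩ := ha'
  exact (Subtype.ext he : a' = a) ▸ ha''

end Cfsg.Agent.S1242
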