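import Mathlib
import Cfsg.Prelude.Def_Sz
import Cfsg.Prelude.Def_KGroupFacts
import Cfsg.Agent.Lib.Linear.Suzuki.LieForm
import Cfsg.Agent.Lib.Linear.Suzuki.Struct

/-!
# The outer automorphism group of a Suzuki group

An automorphism is adjusted by inner ones to fix the two base points and the unipotent group; on the
unipotent group it is then semilinear, and an automorphism fixing that group and the base points fixes
every point of the ovoid.
-/

set_option autoImplicit false

namespace Cfsg.Agent.S2126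

open Cfsg.Lib.Linear.Suz
open scoped LinearAlgebra.Projectivization

section Core

variable {F : Type*} [Field F] [Fintype F] {m : ℕ} (h : Params F m)

omit [Fintype F] in
theorem map_uSL (σ : F ≃+* F) (a b : F) :
    Matrix.SpecialLinearGroup.map σ.toRingHom (uSL m a b) = uSL m (σ a) (σ b) := by
  refine Subtype.ext (Matrix.ext fun i j => ?_)
  show σ (uM m a b i j) = uM m (σ a) (σ b) i j
  fin_cases i <;> fin_cases j <;> simp [uM, th, map_pow]

omit [Fintype F] in
theorem map_dHom (σ : F ≃+* F) (k : Fˣ) :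
    Matrix.SpecialLinearGroup.map σ.toRingHom (dHom F m k) = dHom F m (Units.map σ.toMonoidHom k) := by
  refine Subtype.ext (Matrix.ext fun i j => ?_)
  show σ (dM m k i j) = dM m (Units.map σ.toMonoidHom k) i j
  fin_cases i <;> fin_cases j <;> simp [dM, map_pow, map_inv₀]

omit [Fintype F] in
theorem map_wSL (σ : F ≃+* F) : Matrix.SpecialLinearGroup.map σ.toRingHom (wSL F) = wSL F := by
  refine Subtype.ext (Matrix.ext fun i j => ?_)
  show σ (wM F i j) = wM F i j
  fin_cases i <;> fin_cases j <;> simp [wM]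

include h

theorem map_mem (σ : F ≃+* F) (g : ↥(Cfsg.Sz F m)) :
    Matrix.SpecialLinearGroup.map σ.toRingHom g.1 ∈ Cfsg.Sz F m := by
  have key : ((Cfsg.Sz F m).comap (Matrix.SpecialLinearGroup.map σ.toRingHom)).subgroupOf (Cfsg.Sz F m) = ⊤ := by
    refine eq_top_of_gens h _ (fun a b => ?_) (fun k => ?_) ?_ <;>
      rw [Subgroup.mem_subgroupOf, Subgroup.mem_comap]
    · show Matrix.SpecialLinearGroup.map σ.toRingHom (uSL m a b) ∈ _
      rw [map_uSL]; exact uSL_mem h _ _
    · show Matrix.SpecialLinearGroup.map σ.toRingHom (dHom F m k) ∈ _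
      rw [map_dHom]; exact dHom_mem h _
    · show Matrix.SpecialLinearGroup.map σ.toRingHom (wSL F) ∈ _
      rw [map_wSL]; exact wSL_mem h
  exact Subgroup.subgroupOf_eq_top.mp key g.2

/-- The field automorphisms. -/
def frobS : (F ≃+* F) →* MulAut ↥(Cfsg.Sz F m) where
  toFun σ :=
    { toFun := fun s => ⟨_, map_mem h σ s⟩
      invFun := fun s => ⟨_, map_mem h σ.symm s⟩
      left_inv := fun s => Subtype.ext (Subtype.ext (Matrix.ext fun i j => σ.symm_apply_apply _))
      right_inv := fun s => Subtype.ext (Subtype.ext (Matrix.ext fun i j => σ.apply_symm_apply _))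
      map_mul' := fun s t => Subtype.ext (map_mul _ _ _) }
  map_one' := MulEquiv.ext fun s => Subtype.ext (Subtype.ext (Matrix.ext fun i j => rfl))
  map_mul' σ τ := MulEquiv.ext fun s => Subtype.ext (Subtype.ext (Matrix.ext fun i j => rfl))

theorem frobS_uS (σ : F ≃+* F) (a b : F) : frobS h σ (uS h a b) = uS h (σ a) (σ b) :=
  Subtype.ext (map_uSL σ a b)

theorem frobS_wS (σ : F ≃+* F) : frobS h σ (wS h) = wS h := Subtype.ext (map_wSL σ)

theorem eq_of_smul_eq {g g' : ↥(Cfsg.Sz F m)}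
    (e : ∀ p ∈ Cfsg.suzukiOvoid F m, g.1 • p = g'.1 • p) : g = g' := by
  have e' : ∀ p ∈ Cfsg.suzukiOvoid F m, (g'⁻¹ * g).1 • p = p := fun p hp => by
    show (g'.1⁻¹ * g.1) • p = p
    rw [mul_smul, inv_smul_eq_iff, e p hp]
  exact (inv_mul_eq_one.mp (eq_one_of_fixed h (e' _ (mem_inf m)) (e' _ (mem_pA m 0 0)) (x := 1) (y := 0)
    (Or.inl one_ne_zero) (e' _ (mem_pA m 1 0)))).symm

/-- An automorphism fixing the two base points is determined by its action on the unipotent group. -/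
theorem aut_ext {γ μ : MulAut ↥(Cfsg.Sz F m)}
    (hu : ∀ a b, γ (uS h a b) = μ (uS h a b))
    (hγ : ∀ g : ↥(Cfsg.Sz F m), g.1 • Cfsg.suzukiPointInfinity F = Cfsg.suzukiPointInfinity F →
      (γ g).1 • Cfsg.suzukiPointInfinity F = Cfsg.suzukiPointInfinity F)
    (hμ : ∀ g : ↥(Cfsg.Sz F m), g.1 • Cfsg.suzukiPointInfinity F = Cfsg.suzukiPointInfinity F →
      (μ g).1 • Cfsg.suzukiPointInfinity F = Cfsg.suzukiPointInfinity F)
    (hγw : (γ (wS h)).1 • Cfsg.suzukiPointInfinity F = pA m (0 : F) 0)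
    (hμw : (μ (wS h)).1 • Cfsg.suzukiPointInfinity F = pA m (0 : F) 0) : γ = μ := by
  have hpt : ∀ g : ↥(Cfsg.Sz F m),
      (γ g).1 • Cfsg.suzukiPointInfinity F = (μ g).1 • Cfsg.suzukiPointInfinity F := fun g => by
    rcases exists_bruhat h g with hg | ⟨x, y, hg⟩
    · rw [hγ g hg, hμ g hg]
    · obtain ⟨b, hb⟩ : ∃ b, b = (uS h x y * wS h)⁻¹ * g := ⟨_, rfl⟩
      rw [← hb] at hg
      have hg' : g = uS h x y * wS h * b := by rw [hb, mul_inv_cancel_left]
      rw [hg', map_mul, map_mul, map_mul, map_mul, Subgroup.coe_mul, Subgroup.coe_mul, Subgroup.coe_mul,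
        Subgroup.coe_mul, mul_smul, mul_smul, mul_smul, mul_smul, hγ b hg, hμ b hg, hγw, hμw, hu]
  refine MulEquiv.ext fun g => eq_of_smul_eq h fun p hp => ?_
  rw [← orbit_inf h] at hp
  obtain ⟨k, hk⟩ := hp
  have hk' : (μ (μ.symm k)).1 • Cfsg.suzukiPointInfinity F = p := by rw [MulEquiv.apply_symm_apply]; exact hk
  rw [← hk', ← hpt, ← mul_smul, ← Subgroup.coe_mul, ← map_mul, hpt, hpt, ← mul_smul, ← Subgroup.coe_mul,
    ← map_mul]

theorem stab_of_US {γ : MulAut ↥(Cfsg.Sz F m)} (hU : (US h).map γ.toMonoidHom = US h)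
    (g : ↥(Cfsg.Sz F m)) (hg : g.1 • Cfsg.suzukiPointInfinity F = Cfsg.suzukiPointInfinity F) :
    (γ g).1 • Cfsg.suzukiPointInfinity F = Cfsg.suzukiPointInfinity F := by
  have hn : g ∈ Subgroup.normalizer ((US h) : Set ↥(Cfsg.Sz F m)) := by rw [normalizer_US h]; exact hg
  have hγn : γ g ∈ Subgroup.normalizer (((US h).map γ.toMonoidHom) : Set ↥(Cfsg.Sz F m)) := by
    rw [← Subgroup.map_equiv_normalizer_eq]; exact ⟨g, hn, rfl⟩
  rw [hU, normalizer_US h] at hγn
  exact hγn

set_option maxHeartbeats 1000000 in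
theorem semilinear {γ : MulAut ↥(Cfsg.Sz F m)} (hU : (US h).map γ.toMonoidHom = US h)
    (hw : (γ (wS h)).1 • Cfsg.suzukiPointInfinity F = pA m (0 : F) 0) :
    ∃ (c : Fˣ) (σ : F ≃+* F), γ = MulAut.conj (dS h c) * frobS h σ := by
  classical
  have hst := stab_of_US h hU
  have hU' : ∀ a b, ∃ a' b', γ (uS h a b) = uS h a' b' := fun a b => by
    have : γ (uS h a b) ∈ (US h).map γ.toMonoidHom := ⟨_, ⟨a, b, rfl⟩, rfl⟩
    rw [hU] at this
    exact this
  choose G1 H1 hGH using fun a => hU' a 0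
  obtain ⟨τ, hτ⟩ : ∃ τ : Fˣ → Fˣ, ∀ k, γ (dS h k) = dS h (τ k) := by
    have hk : ∀ k, ∃ l, γ (dS h k) = dS h l := fun k => by
      refine (mem_stab_two_iff h).mp (Subgroup.mem_inf.mpr ⟨hst _ (dHom_inf k), ?_⟩)
      rw [pZero_eq h, MulAction.mem_stabilizer_iff, ← hw]
      show (γ (dS h k)).1 • ((γ (wS h)).1 • Cfsg.suzukiPointInfinity F) = (γ (wS h)).1 • Cfsg.suzukiPointInfinity F
      rw [← mul_smul, ← Subgroup.coe_mul, ← map_mul,
        show dS h k * wS h = wS h * dS h k⁻¹ by rw [wS_conj h, inv_inv], map_mul, Subgroup.coe_mul, mul_smul,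
        hst _ (dHom_inf k⁻¹)]
    choose τ hτ using hk
    exact ⟨τ, hτ⟩
  obtain ⟨f, hf⟩ : ∃ f : F → F, ∀ b, γ (uS h 0 b) = uS h 0 (f b) := by
    have hk : ∀ b, ∃ b', γ (uS h 0 b) = uS h 0 b' := fun b => by
      obtain ⟨l, hl⟩ := mul_th_surjective h b
      refine ⟨th m (G1 l) * G1 l, ?_⟩
      have e : uS h 0 b = uS h l 0 * uS h l 0 := by
        rw [uS_mul h, add_self h, zero_add, zero_add, mul_comm (th m l), hl]
      rw [e, map_mul, hGH, uS_mul h, add_self h, add_self h, zero_add]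
    choose f hf using hk
    exact ⟨f, hf⟩
  -- the relations
  have hadd : ∀ a a', G1 (a + a') = G1 a + G1 a' ∧
      H1 (a + a') + f (th m a * a') = H1 a + H1 a' + th m (G1 a) * G1 a' := fun a a' => by
    have e : uS h a 0 * uS h a' 0 = uS h (a + a') 0 * uS h 0 (th m a * a') := by
      rw [uS_mul h, uS_mul h]; congr 1 <;> ring
    have := congrArg γ e
    rw [map_mul, map_mul, hGH, hGH, hGH, hf, uS_mul h, uS_mul h] at this
    obtain ⟨e1, e2⟩ := uS_inj h this
    refine ⟨by linear_combination -e1, ?_⟩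
    rw [mul_zero, add_zero] at e2
    exact e2.symm
  have hd : ∀ (k : Fˣ) a, G1 ((k : F) * a) = (τ k : F) * G1 a ∧
      H1 ((k : F) * a) = (τ k : F) * th m (τ k : F) * H1 a := fun k a => by
    have e : uS h ((k : F) * a) 0 = dS h k * uS h a 0 * (dS h k)⁻¹ := by
      rw [dS_mul_uS h, mul_inv_cancel_right, mul_zero]
    have := congrArg γ e
    rw [map_mul, map_mul, map_inv, hτ, hGH, hGH, dS_mul_uS h, mul_inv_cancel_right] at this
    exact uS_inj h this
  have hf0 : f 0 = 0 := by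
    have := hf 0
    rw [uS_zero h, map_one, ← uS_zero h] at this
    exact (uS_inj h this).2.symm
  have hG0 : G1 0 = 0 := by
    have := (hadd 0 0).1
    rw [add_zero] at this
    linear_combination -this
  obtain ⟨c, hc⟩ : ∃ c, c = G1 1 := ⟨_, rfl⟩
  have hc0 : c ≠ 0 := fun e0 => by
    have e := (hadd 1 1).2
    rw [← hc, e0, mul_zero, add_zero, add_self h, add_self h, th_one h, one_mul] at e
    have e' : f 1 = 0 := by
      have hH0 : H1 0 = 0 := by
        have := hGH 0
        rw [uS_zero h, map_one, ← uS_zero h] at this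
        exact (uS_inj h this).2.symm
      rwa [hH0, zero_add] at e
    have := hf 1
    rw [e', uS_zero h, EmbeddingLike.map_eq_one_iff, ← uS_zero h] at this
    exact one_ne_zero (uS_inj h this).2
  have hmul : ∀ x y, G1 (x * y) * c = G1 x * G1 y := fun x y => by
    rcases eq_or_ne x 0 with rfl | hx
    · rw [zero_mul, hG0, zero_mul, zero_mul]
    · have e1 := (hd (Units.mk0 x hx) y).1
      have e2 := (hd (Units.mk0 x hx) 1).1
      rw [Units.val_mk0, mul_one, ← hc] at e2
      rw [Units.val_mk0] at e1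
      rw [e1, e2]; ring
  let σ₀ : F →+* F :=
    { toFun := fun x => G1 x / c
      map_one' := by rw [← hc, div_self hc0]
      map_mul' := fun x y => by
        rw [div_mul_div_comm, eq_div_iff (mul_ne_zero hc0 hc0), ← hmul x y]
        field_simp
      map_zero' := by rw [hG0, zero_div]
      map_add' := fun x y => by rw [(hadd x y).1, add_div] }
  obtain ⟨σ, hσ⟩ : ∃ σ : F ≃+* F, ∀ x, σ x = G1 x / c :=
    ⟨RingEquiv.ofBijective σ₀ ⟨σ₀.injective, Finite.surjective_of_injective σ₀.injective⟩, fun x => rfl⟩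
  have hG : ∀ x, G1 x = c * σ x := fun x => by rw [hσ, mul_div_cancel₀ _ hc0]
  have hσth : ∀ x, σ (th m x) = th m (σ x) := fun x => map_pow σ x _
  have hH0 : H1 0 = 0 := by
    have := hGH 0
    rw [uS_zero h, map_one, ← uS_zero h] at this
    exact (uS_inj h this).2.symm
  have hfv : ∀ b, f b = c * th m c * σ b := fun b => by
    obtain ⟨l, hl⟩ := mul_th_surjective h b
    have := (hadd l l).2
    rw [add_self h, add_self h, zero_add, hH0, zero_add, hG, th_mul h] at this
    rw [← hl, map_mul, hσth, mul_comm l, this]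
    ring
  -- the central component vanishes
  have hHv : ∀ a, a ≠ 0 → H1 a = σ a * th m (σ a) * H1 1 := fun a ha => by
    have e1 := (hd (Units.mk0 a ha) 1).2
    have e2 := (hd (Units.mk0 a ha) 1).1
    rw [Units.val_mk0, mul_one] at e1 e2
    rw [hG, ← hc, mul_comm] at e2
    rw [e1, mul_right_cancel₀ hc0 e2]
  have hH1 : H1 1 = 0 := by
    obtain ⟨k, hk0, hk1⟩ := exists_ne_zero_one h
    have hk2 : (1 : F) + k ≠ 0 := fun e => hk1 (by linear_combination e - two_eq h)
    have e := (hadd 1 k).2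
    rw [hHv _ hk2, hHv k hk0, hG, hG, hfv, th_mul h, map_one, th_one h, one_mul, map_add, map_one, th_add h,
      th_one h] at e
    have hne : σ k + th m (σ k) ≠ 0 := fun e' => by
      have hk' : th m (σ k) = σ k := by linear_combination e' - σ k * two_eq h
      rcases th_eq_self h hk' with e'' | e''
      · exact hk0 (σ.injective (by rw [e'', map_zero]))
      · exact hk1 (σ.injective (by rw [e'', map_one]))
    exact (mul_eq_zero.mp (show (σ k + th m (σ k)) * H1 1 = 0 by linear_combination e)).resolve_left hne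
  have hHz : ∀ a, H1 a = 0 := fun a => by
    rcases eq_or_ne a 0 with rfl | ha
    · exact hH0
    · rw [hHv a ha, hH1, mul_zero]
  refine ⟨Units.mk0 c hc0, σ, aut_ext h (fun a b => ?_) hst (fun g hg => ?_) hw ?_⟩
  · rw [MulAut.mul_apply, MulAut.conj_apply, frobS_uS, dS_mul_uS h, mul_inv_cancel_right, Units.val_mk0]
    have e : uS h a b = uS h a 0 * uS h 0 b := by
      rw [uS_mul h, add_zero, mul_zero, add_zero, zero_add]
    rw [e, map_mul, hGH, hf, uS_mul h, add_zero, mul_zero, add_zero, hG, hHz, zero_add, hfv]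
  · obtain ⟨a, b, k, rfl⟩ := (mem_stab_inf_iff h).mp hg
    rw [MulAut.mul_apply, map_mul, MulAut.conj_apply, frobS_uS,
      show frobS h σ (dS h k) = dS h (Units.map σ.toMonoidHom k) from Subtype.ext (map_dHom σ k)]
    exact mul_mem (mul_mem (show dS h _ ∈ MulAction.stabilizer ↥(Cfsg.Sz F m) (Cfsg.suzukiPointInfinity F) from
      dHom_inf _) ((mem_stab_inf_iff h).mpr ⟨_, _, _, rfl⟩)) (inv_mem (dHom_inf _))
  · rw [MulAut.mul_apply, MulAut.conj_apply, frobS_wS, ← map_inv (dS h), Subgroup.coe_mul, Subgroup.coe_mul,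
      mul_smul, mul_smul]
    show dHom F m _ • (wSL F • (dHom F m _ • _)) = _
    rw [dHom_inf, wSL_inf h, dHom_pA h, mul_zero, mul_zero]

theorem card_out : Nat.card (Cfsg.Out ↥(Cfsg.Sz F m)) = Nat.card (F ≃+* F) := by
  classical
  haveI : Fact (Nat.Prime 2) := ⟨Nat.prime_two⟩
  refine (Nat.card_eq_of_bijective
    ((QuotientGroup.mk' (Cfsg.Inn ↥(Cfsg.Sz F m))).comp (frobS h)) ⟨?_, fun q => ?_⟩).symm
  · refine (MonoidHom.ker_eq_bot_iff _).mp ((Subgroup.eq_bot_iff_forall _).mpr fun σ hσ => ?_)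
    rw [MonoidHom.mem_ker, MonoidHom.comp_apply, QuotientGroup.mk'_apply, QuotientGroup.eq_one_iff] at hσ
    obtain ⟨g, hg⟩ := hσ
    have hconj : ∀ x, g * x * g⁻¹ = frobS h σ x := fun x => DFunLike.congr_fun hg x
    have hginf : g ∈ MulAction.stabilizer ↥(Cfsg.Sz F m) (Cfsg.suzukiPointInfinity F) := by
      refine conj_mem_stab h (u := uS h 1 0) (v := uS h 1 0) ⟨1, 0, rfl⟩ ⟨1, 0, rfl⟩ (fun e => ?_) ?_
      · rw [← uS_zero h] at e; exact one_ne_zero (uS_inj h e).1
      · rw [hconj, frobS_uS, map_one, map_zero]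
    have hg0 : g.1 • pA m (0 : F) 0 = pA m 0 0 := by
      rw [← wSL_inf h]
      show g.1 • ((wS h).1 • _) = (wS h).1 • _
      rw [← mul_smul, ← Subgroup.coe_mul,
        show g * wS h = wS h * g from mul_inv_eq_iff_eq_mul.mp ((hconj (wS h)).trans (frobS_wS h σ)),
        Subgroup.coe_mul, mul_smul, show g.1 • Cfsg.suzukiPointInfinity F = Cfsg.suzukiPointInfinity F from hginf]
    obtain ⟨k, hk⟩ := two_point h g.2 hginf hg0
    have hk' : g = dS h k := Subtype.ext hk
    refine RingEquiv.ext fun a => ?_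
    have e := hconj (uS h a 0)
    have e1 := hconj (uS h 1 0)
    rw [hk', dS_mul_uS h, mul_inv_cancel_right, frobS_uS] at e e1
    have hk1 := (uS_inj h e1).1
    rw [mul_one, map_one] at hk1
    rw [← (uS_inj h e).1, hk1, one_mul]
    rfl
  · obtain ⟨α, rfl⟩ := QuotientGroup.mk'_surjective _ q
    have hp : IsPGroup 2 ↥(US h) := IsPGroup.of_card (n := (2 * m + 1) * 2) (by rw [card_US h, ← pow_mul])
    obtain ⟨P, hP⟩ := (hp.map α.toMonoidHom).exists_le_sylow
    obtain ⟨g, hg⟩ := sylow_conj h P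
    have hPeq : (US h).map α.toMonoidHom = (US h).map (MulAut.conj g).toMonoidHom := by
      rw [← hg]
      refine Subgroup.eq_of_le_of_card_ge hP ?_
      rw [hg, Subgroup.card_map_of_injective (MulAut.conj g).injective,
        Subgroup.card_map_of_injective α.injective]
    have hmem : ∀ u ∈ US h, g⁻¹ * α u * g ∈ US h := fun u hu => by
      have : α u ∈ (US h).map α.toMonoidHom := ⟨u, hu, rfl⟩
      rw [hPeq] at this
      obtain ⟨v, hv, e⟩ := this
      change g * v * g⁻¹ = α u at e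
      rw [← e, show g⁻¹ * (g * v * g⁻¹) * g = v by group]
      exact hv
    obtain ⟨β, hβ⟩ : ∃ β, β = MulAut.conj g⁻¹ * α := ⟨_, rfl⟩
    have hUβ : (US h).map β.toMonoidHom = US h := by
      refine Subgroup.eq_of_le_of_card_ge ?_ (le_of_eq (Subgroup.card_map_of_injective β.injective).symm)
      rintro _ ⟨u, hu, rfl⟩
      show β u ∈ US h
      rw [hβ, MulAut.mul_apply, MulAut.conj_apply, inv_inv]
      exact hmem u hu
    obtain ⟨a, b, hab⟩ : ∃ a b, (β (wS h)).1 • Cfsg.suzukiPointInfinity F = pA m a b := by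
      refine (mem_ovoid_iff.mp (mem_Sz_iff.mp (β (wS h)).2 _ (mem_inf m))).resolve_left fun e => ?_
      have hn : β (wS h) ∈ Subgroup.normalizer (((US h).map β.toMonoidHom) : Set ↥(Cfsg.Sz F m)) := by
        rw [hUβ, normalizer_US h]; exact e
      rw [← Subgroup.map_equiv_normalizer_eq, normalizer_US h] at hn
      obtain ⟨x, hx, hxw⟩ := hn
      have hxw' : x = wS h := β.injective hxw
      rw [hxw'] at hx
      change wSL F • Cfsg.suzukiPointInfinity F = Cfsg.suzukiPointInfinity F at hx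
      rw [wSL_inf h] at hx
      exact inf_ne_pA m _ _ hx.symm
    obtain ⟨γ, hγ⟩ : ∃ γ, γ = MulAut.conj (uS h a b)⁻¹ * β := ⟨_, rfl⟩
    have hUγ : (US h).map γ.toMonoidHom = US h := by
      refine Subgroup.eq_of_le_of_card_ge ?_ (le_of_eq (Subgroup.card_map_of_injective γ.injective).symm)
      rintro _ ⟨u, hu, rfl⟩
      show γ u ∈ US h
      rw [hγ, MulAut.mul_apply, MulAut.conj_apply, inv_inv]
      have h1 : β u ∈ US h := hUβ ▸ ⟨u, hu, rfl⟩
      exact mul_mem (mul_mem (inv_mem ⟨a, b, rfl⟩) h1) ⟨a, b, rfl⟩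
    have hγw : (γ (wS h)).1 • Cfsg.suzukiPointInfinity F = pA m (0 : F) 0 := by
      rw [hγ, MulAut.mul_apply, MulAut.conj_apply, inv_inv, Subgroup.coe_mul, Subgroup.coe_mul, mul_smul,
        mul_smul]
      show (uSL m a b)⁻¹ • ((β (wS h)).1 • (uSL m a b • _)) = _
      rw [uSL_inf, hab, inv_smul_eq_iff, uSL_zero_pt h]
    obtain ⟨c, σ, hcσ⟩ := semilinear h hUγ hγw
    refine ⟨σ, ?_⟩
    have hInn : ∀ x, (QuotientGroup.mk' (Cfsg.Inn ↥(Cfsg.Sz F m))) (MulAut.conj x) = 1 := fun x =>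
      (QuotientGroup.eq_one_iff _).mpr ⟨x, rfl⟩
    have e := congrArg (QuotientGroup.mk' (Cfsg.Inn ↥(Cfsg.Sz F m))) hcσ
    rw [hγ, hβ, map_mul, map_mul, map_mul, hInn, hInn, hInn, one_mul, one_mul, one_mul] at e
    exact e.symm

end Core

theorem card_out_congr {G : Type*} {H : Type*} [Group G] [Group H] (e : G ≃* H) :
    Nat.card (Cfsg.Out G) = Nat.card (Cfsg.Out H) := by
  refine Nat.card_congr (QuotientGroup.congr _ _ (MulAut.congr e) ?_).toEquiv
  ext α
  constructor
  · rintro ⟨β, ⟨u, rfl⟩, rfl⟩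
    refine ⟨e u, ?_⟩
    ext x
    simp
  · rintro ⟨u, rfl⟩
    refine ⟨MulAut.conj (e.symm u), ⟨_, rfl⟩, ?_⟩
    ext x
    simp

/-- Outer automorphisms of the Suzuki groups: for q = 2^(2m+1) with m ≥ 1 the outer automorphism group of Sz(q) has order 2m + 1 (field automorphisms only). -/
theorem result {F : Type*} [Field F] [Fintype F] {m : ℕ} (hm : 1 ≤ m) (hF : Fintype.card F = 2 ^ (2 * m + 1)) : Nat.card (Cfsg.Out ↥(Cfsg.Lie.Sz F (2 ^ (m + 1)))) = 2 * m + 1 := by
  have h : Params F m := ⟨hm, hF⟩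
  obtain ⟨e, -⟩ := exists_lie_equiv h
  haveI := charP_two h
  letI : Algebra (ZMod 2) F := ZMod.algebra F 2
  have hcast : Nat.card (F ≃+* F) = Nat.card (F ≃ₐ[ZMod 2] F) :=
    Nat.card_congr
      { toFun := fun σ => AlgEquiv.ofRingEquiv (f := σ) fun z =>
          RingHom.congr_fun (Subsingleton.elim (σ.toRingHom.comp (algebraMap (ZMod 2) F)) (algebraMap (ZMod 2) F)) z
        invFun := fun σ => σ.toRingEquiv
        left_inv := fun σ => RingEquiv.ext fun x => rfl
        right_inv := fun σ => AlgEquiv.ext fun x => rfl }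
  rw [← card_out_congr e, card_out h, hcast, IsGalois.card_aut_eq_finrank]
  have := Module.card_eq_pow_finrank (K := ZMod 2) (V := F)
  rw [hF, ZMod.card] at this
  exact (Nat.pow_right_injective le_rfl this).symm

end Cfsg.Agent.S2126
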