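import Cfsg.Statements.S1285
import Cfsg.Agent.Lib.Sig.Transitivity

set_option autoImplicit false
open Cfsg

namespace Cfsg.Agent.S1285

/-- Let θ be a solvable A-signalizer functor on the finite group G with A elementary abelian of rank at least 3, and suppose that for some prime q every θ a (a ∈ A non-identity) is a q-group. Then θ is complete. -/
theorem result {G : Type*} [Group G] [Finite G] (p : ℕ) [Fact p.Prime] (A : Subgroup G) (hA : Cfsg.IsElementaryAbelian p A) (hA3 : p ^ 3 ≤ Nat.card ↥A) (θ : G → Subgroup G) (hθ : Cfsg.IsSolvableSignalizerFunctor p A θ) (q : ℕ) [Fact q.Prime] (hq : ∀ a ∈ A, a ≠ 1 → IsPGroup q ↥(θ a)) : Cfsg.IsCompleteSignalizerFunctor p A θ := by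
    obtain ⟨b, hb, hb1⟩ := A.bot_or_exists_ne_one.resolve_left (by
      rintro rfl
      rw [Subgroup.card_bot] at hA3
      have := (Fact.out : p.Prime).two_le
      nlinarith [pow_le_pow_left' (show 2 ≤ p by omega) 3])
    have hbot : (⊥ : Subgroup G) ∈ Cfsg.signalizerFamily p A θ :=
      Cfsg.Lib.Sig.mem_family_of_le_theta hθ hb hb1 bot_le (Cfsg.Lib.Sig.le_normalizer_of_invariant fun c _ u hu => by simp_all)
    obtain ⟨Q, -, hQ, hQq, hQm⟩ := Cfsg.Lib.Sig.exists_maximal_member (q := q) hbot IsPGroup.of_bot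
    refine ⟨hθ.1, Q, hQ.2.2.1, hQ.2.1, fun a ha ha1 => le_antisymm (hQ.2.2.2 a ha ha1) ?_⟩
    have hne : Subgroup.zpowers a ≠ ⊥ := Subgroup.zpowers_ne_bot.2 ha1
    obtain ⟨S, hS⟩ := Cfsg.Lib.Sig.sylow_signalizerInf hA hA3 hθ hQ hQq hQm (Subgroup.zpowers_le.2 ha) hne
    have hHa : θ a ≤ (Cfsg.signalizerInf (Subgroup.zpowers a) θ) := le_iInf fun d => by
      refine le_trans (le_inf le_rfl ?_) (hθ.1.2.2.2 a ha ha1 d (Subgroup.zpowers_le.2 ha d.2.1) d.2.2)
      intro x hx
      obtain ⟨i, hi⟩ := Subgroup.mem_zpowers_iff.1 d.2.1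
      rw [← hi]
      exact Subgroup.mem_centralizer_singleton_iff.2 ((show Commute x a from Subgroup.mem_centralizer_singleton_iff.1 (hθ.1.1 a ha ha1 hx)).zpow_right i).eq
    have hHle : (Cfsg.signalizerInf (Subgroup.zpowers a) θ) ≤ θ a := iInf_le _ (⟨a, Subgroup.mem_zpowers a, ha1⟩ : {c : G // c ∈ Subgroup.zpowers a ∧ c ≠ 1})
    have hHq : IsPGroup q ↥(Cfsg.signalizerInf (Subgroup.zpowers a) θ) := (hq a ha ha1).to_le hHle
    have hmax := S.is_maximal' (Q := (⊤ : Subgroup ↥(Cfsg.signalizerInf (Subgroup.zpowers a) θ))) (hHq.of_equiv Subgroup.topEquiv.symm) le_top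
    rw [← hmax, ← MonoidHom.range_eq_map, Subgroup.range_subtype] at hS
    refine hHa.trans (hS.le.trans (inf_le_inf_left _ (Subgroup.centralizer_le ?_)))
    exact Set.singleton_subset_iff.2 (Subgroup.mem_zpowers a)

end Cfsg.Agent.S1285
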