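import Cfsg.Statements.S1640
import Cfsg.Agent.Lib.Concrete.LeechPairOrbitsTwo

set_option autoImplicit false
open Cfsg

namespace Cfsg.Agent.S1640

/-- The stabiliser of a vector of customary norm 6 is transitive on the 11178 minimal vectors of customary inner product −2 with it. -/
theorem result (u : ↥Cfsg.leechLattice) (hu : Cfsg.sqNorm (u : Cfsg.GolayPt → ℤ) = 48) : {x : ↥Cfsg.leechLattice | Cfsg.sqNorm (x : Cfsg.GolayPt → ℤ) = 32 ∧ Cfsg.dotInt (u : Cfsg.GolayPt → ℤ) (x : Cfsg.GolayPt → ℤ) = -16}.ncard = 11178 ∧ ∀ x ∈ {x : ↥Cfsg.leechLattice | Cfsg.sqNorm (x : Cfsg.GolayPt → ℤ) = 32 ∧ Cfsg.dotInt (u : Cfsg.GolayPt → ℤ) (x : Cfsg.GolayPt → ℤ) = -16}, ∀ x' ∈ {x : ↥Cfsg.leechLattice | Cfsg.sqNorm (x : Cfsg.GolayPt → ℤ) = 32 ∧ Cfsg.dotInt (u : Cfsg.GolayPt → ℤ) (x : Cfsg.GolayPt → ℤ) = -16}, ∃ g : ↥Cfsg.Co0, g • u = u ∧ g • x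 = x' := by
  refine ⟨?_, ?_⟩
  · rw [← Set.ncard_image_of_injective _ Subtype.val_injective, ← Cfsg.Lib.Concrete.census48.2.2.1,
      ← Cfsg.Lib.Concrete.dotCount_moves (Cfsg.Lib.Concrete.moves48 u.2 hu) 16, ← Cfsg.Lib.Concrete.dotCount_neg,
      Cfsg.Lib.Concrete.dotCount, ← Set.ncard_coe_finset]
    refine congrArg Set.ncard (Set.ext fun x => ?_)
    simp only [Set.mem_image, Set.mem_setOf_eq, Finset.coe_filter, Cfsg.Lib.Concrete.mem_shell]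
    exact ⟨fun ⟨y, ⟨h1, h2⟩, e⟩ => e ▸ ⟨⟨y.2, h1⟩, h2⟩, fun ⟨⟨hx, h1⟩, h2⟩ => ⟨⟨x, hx⟩, ⟨h1, h2⟩, rfl⟩⟩
  · rintro x ⟨hx, hxd⟩ x' ⟨hx', hxd'⟩
    obtain ⟨g, hg⟩ := Cfsg.Lib.Concrete.exists_smul_eq_of_moves (Cfsg.Lib.Concrete.moves32 x.2 hx)
      (Cfsg.Lib.Concrete.moves32 x'.2 hx')
    obtain ⟨k, h1, h2⟩ := Cfsg.Lib.Concrete.exists_fix_fortyEight (v := x') (w := g • u) (w' := u) hx'
      ((Cfsg.Lib.Concrete.co0_sqNorm g u).trans hu) hu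
      (by rw [← hg, Cfsg.Lib.Concrete.co0_dot, Cfsg.Lib.Concrete.dotInt_comm]; exact hxd)
      (by rw [Cfsg.Lib.Concrete.dotInt_comm]; exact hxd')
    exact ⟨k * g, by rw [mul_smul, h2], by rw [mul_smul, hg, h1]⟩

end Cfsg.Agent.S1640
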