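import Cfsg.Statements.S1583
import Cfsg.Agent.Lib.Concrete.LeechJointOrbits

set_option autoImplicit false
open Cfsg

namespace Cfsg.Agent.S1583

/-- The Higman–Sims configuration: for two vectors of customary norm 6 with inner product −4, exactly 100 minimal vectors have customary inner products 3 and −3 with them, and the joint stabiliser permutes these transitively. -/
theorem result (v w : ↥Cfsg.leechLattice) (hv : Cfsg.sqNorm (v : Cfsg.GolayPt → ℤ) = 48) (hw : Cfsg.sqNorm (w : Cfsg.GolayPt → ℤ) = 48) (hvw : Cfsg.dotInt (v : Cfsg.GolayPt → ℤ) (w : Cfsg.GolayPt → ℤ) = -32) : {x : ↥Cfsg.leechLattice | Cfsg.sqNorm (x : Cfsg.GolayPt → ℤ) = 32 ∧ Cfsg.dotInt (v : Cfsg.GolayPt → ℤ) (x : Cfsg.GolayPt → ℤ) = 24 ∧ Cfsg.dotInt (w : Cfsg.GolayPt → ℤ) (x : Cfsg.GolayPt → ℤ) = -24}.ncard = 100 ∧ ∀ x ∈ {x : ↥Cfsg.leechLattice | Cfsg.sqNorm (x : Cfsg.GolayPt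 → ℤ) = 32 ∧ Cfsg.dotInt (v : Cfsg.GolayPt → ℤ) (x : Cfsg.GolayPt → ℤ) = 24 ∧ Cfsg.dotInt (w : Cfsg.GolayPt → ℤ) (x : Cfsg.GolayPt → ℤ) = -24}, ∀ x' ∈ {x : ↥Cfsg.leechLattice | Cfsg.sqNorm (x : Cfsg.GolayPt → ℤ) = 32 ∧ Cfsg.dotInt (v : Cfsg.GolayPt → ℤ) (x : Cfsg.GolayPt → ℤ) = 24 ∧ Cfsg.dotInt (w : Cfsg.GolayPt → ℤ) (x : Cfsg.GolayPt → ℤ) = -24}, ∃ g : ↥Cfsg.Co0, g • v = v ∧ g • w = w ∧ g • x = x' := by
  have hz : Cfsg.sqNorm ((-(v + w) : ↥Cfsg.leechLattice) : Cfsg.GolayPt → ℤ) = 32 := by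
    rw [AddSubgroup.coe_neg, Cfsg.Lib.Concrete.sqNorm_neg', AddSubgroup.coe_add, Cfsg.Lib.Concrete.sqNorm_add,
      hv, hw, hvw]
    norm_num
  obtain ⟨h, hh, hk⟩ := Cfsg.Lib.Concrete.exists_to_pairBase _ hz
  have hdot : ∀ a : ↥Cfsg.leechLattice,
      Cfsg.dotInt ((-(v + w) : ↥Cfsg.leechLattice) : Cfsg.GolayPt → ℤ) (a : Cfsg.GolayPt → ℤ) =
        -(Cfsg.dotInt (v : Cfsg.GolayPt → ℤ) (a : Cfsg.GolayPt → ℤ) +
          Cfsg.dotInt (w : Cfsg.GolayPt → ℤ) (a : Cfsg.GolayPt → ℤ)) := fun a => by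
    rw [AddSubgroup.coe_neg, AddSubgroup.coe_add]
    simp only [Cfsg.dotInt, Pi.neg_apply, Pi.add_apply, neg_mul, add_mul, Finset.sum_add_distrib, Finset.sum_neg_distrib]
  have hV : ((h • v : ↥Cfsg.leechLattice) : Cfsg.GolayPt → ℤ) ∈ Cfsg.Lib.Concrete.fortyEightSet :=
    Finset.mem_filter.2 ⟨Cfsg.Lib.Concrete.mem_shell.2 ⟨(h • v).2, (Cfsg.Lib.Concrete.co0_sqNorm h v).trans hv⟩,
      hk v (-4) (by rw [hdot, Cfsg.Lib.Concrete.dotInt_self, hv, Cfsg.Lib.Concrete.dotInt_comm, hvw]; norm_num)⟩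
  have hX : ∀ x : ↥Cfsg.leechLattice, Cfsg.sqNorm (x : Cfsg.GolayPt → ℤ) = 32 →
      Cfsg.dotInt (v : Cfsg.GolayPt → ℤ) (x : Cfsg.GolayPt → ℤ) = 24 →
      Cfsg.dotInt (w : Cfsg.GolayPt → ℤ) (x : Cfsg.GolayPt → ℤ) = -24 →
      ((h • x : ↥Cfsg.leechLattice) : Cfsg.GolayPt → ℤ) ∈ Cfsg.Lib.Concrete.perpSet ∧
        Cfsg.dotInt ((h • v : ↥Cfsg.leechLattice) : Cfsg.GolayPt → ℤ) ((h • x : ↥Cfsg.leechLattice) : Cfsg.GolayPt → ℤ) = 24 :=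
    fun x h1 h2 h3 =>
      ⟨Finset.mem_filter.2 ⟨Cfsg.Lib.Concrete.mem_shell.2 ⟨(h • x).2, (Cfsg.Lib.Concrete.co0_sqNorm h x).trans h1⟩,
        hk x 0 (by rw [hdot, h2, h3]; norm_num)⟩, (Cfsg.Lib.Concrete.co0_dot h v x).trans h2⟩
  refine ⟨?_, ?_⟩
  · rw [← Cfsg.Lib.Concrete.card_hundred hV, ← Set.ncard_image_of_injective _
      (Subtype.val_injective.comp (MulAction.injective h)), ← Set.ncard_coe_finset]
    refine congrArg Set.ncard (Set.ext fun y => ?_)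
    simp only [Set.mem_image, Set.mem_setOf_eq, Finset.coe_filter, Function.comp_apply]
    constructor
    · rintro ⟨x, ⟨h1, h2, h3⟩, rfl⟩
      exact hX x h1 h2 h3
    · rintro ⟨hy, hy24⟩
      obtain ⟨hy1, hy2⟩ := Finset.mem_filter.1 hy
      obtain ⟨hyL, hyn⟩ := Cfsg.Lib.Concrete.mem_shell.1 hy1
      have e : h • (h⁻¹ • (⟨y, hyL⟩ : ↥Cfsg.leechLattice)) = ⟨y, hyL⟩ := smul_inv_smul h _
      have d1 := Cfsg.Lib.Concrete.co0_dot h v (h⁻¹ • ⟨y, hyL⟩)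
      have d2 := Cfsg.Lib.Concrete.co0_dot h (-(v + w)) (h⁻¹ • ⟨y, hyL⟩)
      rw [e] at d1 d2
      rw [hh, show ((Cfsg.Lib.Concrete.pairL : ↥Cfsg.leechLattice) : Cfsg.GolayPt → ℤ) = Cfsg.Lib.Concrete.pairBase from rfl,
        Cfsg.Lib.Concrete.dot_pairBase, hdot] at d2
      refine ⟨h⁻¹ • ⟨y, hyL⟩, ⟨(Cfsg.Lib.Concrete.co0_sqNorm _ _).trans hyn, d1.symm.trans hy24, ?_⟩, congrArg Subtype.val e⟩
      have d3 := d1.symm.trans hy24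
      dsimp only at d2
      omega
  · rintro x ⟨h1, h2, h3⟩ x' ⟨h1', h2', h3'⟩
    obtain ⟨g, g1, g2, g3⟩ := Cfsg.Lib.Concrete.exists_fix_hundred (h • v) (h • x) (h • x') hV (hX x h1 h2 h3).1
      (hX x' h1' h2' h3').1 (hX x h1 h2 h3).2 (hX x' h1' h2' h3').2
    have gz : (h⁻¹ * g * h) • (-(v + w)) = -(v + w) := by
      rw [mul_smul, mul_smul, hh, g1, ← hh, inv_smul_smul]
    have gv : (h⁻¹ * g * h) • v = v := by rw [mul_smul, mul_smul, g2, inv_smul_smul]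
    refine ⟨h⁻¹ * g * h, gv, ?_, by rw [mul_smul, mul_smul, g3, inv_smul_smul]⟩
    have g4 : (h⁻¹ * g * h) • (v + w) = v + w :=
      neg_injective ((map_neg (Cfsg.Lib.Concrete.co0Hom (h⁻¹ * g * h)) (v + w)).symm.trans gz)
    rw [Cfsg.Lib.Concrete.co0_add, gv] at g4
    exact add_left_cancel g4

end Cfsg.Agent.S1583
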