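import Cfsg.Statements.S1580
import Cfsg.Agent.Lib.Concrete.LeechJointOrbits

set_option autoImplicit false
open Cfsg

namespace Cfsg.Agent.S1580

/-- The McLaughlin configuration: for u of customary norm 6 and v minimal with u − v minimal, there are 275 further such summands x of customary inner product 2 with v, permuted transitively by the stabiliser of u and v. -/
theorem result (u v : ↥Cfsg.leechLattice) (hu : Cfsg.sqNorm (u : Cfsg.GolayPt → ℤ) = 48) (hv : Cfsg.sqNorm (v : Cfsg.GolayPt → ℤ) = 32 ∧ Cfsg.sqNorm ((u - v) : Cfsg.GolayPt → ℤ) = 32) : {x : ↥Cfsg.leechLattice | Cfsg.sqNorm (x : Cfsg.GolayPt → ℤ) = 32 ∧ Cfsg.sqNorm ((u - x) : Cfsg.GolayPt → ℤ) = 32 ∧ Cfsg.dotInt (v : Cfsg.GolayPt → ℤ) (x : Cfsg.GolayPt → ℤ) = 16}.ncard = 275 ∧ ∀ x ∈ {x : ↥Cfsg.leechLattice | Cfsg.sqNorm (x : Cfsg.GolayPt → ℤ) = 32 ∧ Cfsg.sqNorm ((u - x) : Cfsg.GolayPt → ℤ) = 32 ∧ Cfsg.dotInt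 (v : Cfsg.GolayPt → ℤ) (x : Cfsg.GolayPt → ℤ) = 16}, ∀ x' ∈ {x : ↥Cfsg.leechLattice | Cfsg.sqNorm (x : Cfsg.GolayPt → ℤ) = 32 ∧ Cfsg.sqNorm ((u - x) : Cfsg.GolayPt → ℤ) = 32 ∧ Cfsg.dotInt (v : Cfsg.GolayPt → ℤ) (x : Cfsg.GolayPt → ℤ) = 16}, ∃ g : ↥Cfsg.Co0, g • u = u ∧ g • v = v ∧ g • x = x' := by
  obtain ⟨hv1, hv2⟩ := hv
  set P : ↥Cfsg.leechLattice → Prop := fun x =>
    Cfsg.sqNorm (x : Cfsg.GolayPt → ℤ) = 32 ∧ Cfsg.sqNorm ((u - x) : Cfsg.GolayPt → ℤ) = 32 with hP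
  have hcoe : ∀ a : ↥Cfsg.leechLattice, ((u - a : ↥Cfsg.leechLattice) : Cfsg.GolayPt → ℤ) =
      (u : Cfsg.GolayPt → ℤ) - (a : Cfsg.GolayPt → ℤ) := fun a => AddSubgroup.coe_sub _ _ _
  have hPinv : ∀ x, P x → P (u - x) := fun x hx =>
    ⟨by rw [hcoe]; exact hx.2, by rw [hcoe, sub_sub_cancel]; exact hx.1⟩
  have hdot : ∀ a b : ↥Cfsg.leechLattice, Cfsg.dotInt (a : Cfsg.GolayPt → ℤ) ((u - b : ↥Cfsg.leechLattice) : Cfsg.GolayPt → ℤ) =
      Cfsg.dotInt (a : Cfsg.GolayPt → ℤ) (u : Cfsg.GolayPt → ℤ) - Cfsg.dotInt (a : Cfsg.GolayPt → ℤ) (b : Cfsg.GolayPt → ℤ) :=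
    fun a b => by
      rw [hcoe, sub_eq_add_neg, Cfsg.Lib.Concrete.dotInt_add_right, Cfsg.Lib.Concrete.dotInt_neg_right]; ring
  have hu24 : ∀ x, P x → Cfsg.dotInt (x : Cfsg.GolayPt → ℤ) (u : Cfsg.GolayPt → ℤ) = 24 := by
    rintro x ⟨h1, h2⟩
    rw [Cfsg.Lib.Concrete.sqNorm_sub', hu, h1] at h2
    rw [Cfsg.Lib.Concrete.dotInt_comm]; omega
  have hvP : P v := ⟨hv1, hv2⟩
  have hwd : Cfsg.dotInt (v : Cfsg.GolayPt → ℤ) ((u - v : ↥Cfsg.leechLattice) : Cfsg.GolayPt → ℤ) = -8 := by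
    rw [hdot, hu24 v hvP, Cfsg.Lib.Concrete.dotInt_self, hv1]; norm_num
  have hdd : ∀ x, P x → Cfsg.dotInt (v : Cfsg.GolayPt → ℤ) ((u - x : ↥Cfsg.leechLattice) : Cfsg.GolayPt → ℤ) =
      24 - Cfsg.dotInt (v : Cfsg.GolayPt → ℤ) (x : Cfsg.GolayPt → ℤ) := fun x _ => by rw [hdot, hu24 v hvP]
  have hsh : ∀ x, P x → (x : Cfsg.GolayPt → ℤ) ∈ Cfsg.Lib.Concrete.shell 32 := fun x hx =>
    Cfsg.Lib.Concrete.mem_shell.2 ⟨x.2, hx.1⟩
  set A : Set ↥Cfsg.leechLattice := {x | P x ∧ Cfsg.dotInt (v : Cfsg.GolayPt → ℤ) (x : Cfsg.GolayPt → ℤ) = 16} with hA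
  set B : Set ↥Cfsg.leechLattice := {x | P x ∧ Cfsg.dotInt (v : Cfsg.GolayPt → ℤ) (x : Cfsg.GolayPt → ℤ) = 8} with hB
  have h552 : {x | P x}.ncard = 552 := by
    rw [← Set.ncard_image_of_injective _ Subtype.val_injective, ← Cfsg.Lib.Concrete.census48.2.1,
      ← Cfsg.Lib.Concrete.dotCount_moves (Cfsg.Lib.Concrete.moves48 u.2 hu) 24, Cfsg.Lib.Concrete.dotCount,
      ← Set.ncard_coe_finset]
    refine congrArg Set.ncard (Set.ext fun y => ?_)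
    simp only [Set.mem_image, Set.mem_setOf_eq, Finset.coe_filter, Cfsg.Lib.Concrete.mem_shell]
    constructor
    · rintro ⟨x, hx, rfl⟩
      exact ⟨⟨x.2, hx.1⟩, by rw [Cfsg.Lib.Concrete.dotInt_comm]; exact hu24 x hx⟩
    · rintro ⟨⟨hy, h1⟩, h2⟩
      exact ⟨⟨y, hy⟩, ⟨h1, by rw [Cfsg.Lib.Concrete.sqNorm_sub', hu, h1, h2]; norm_num⟩, rfl⟩
  have hBA : B = (fun x => u - x) '' A := by
    ext x
    constructor
    · rintro ⟨h1, h2⟩
      exact ⟨u - x, ⟨hPinv x h1, by rw [hdd x h1, h2]; norm_num⟩, sub_sub_cancel u x⟩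
    · rintro ⟨y, ⟨h1, h2⟩, rfl⟩
      exact ⟨hPinv y h1, by rw [hdd y h1, h2]; norm_num⟩
  have hsplit : {x | P x} = insert v (insert (u - v) (A ∪ B)) := by
    ext x
    constructor
    · intro hx
      have h1 := Cfsg.Lib.Concrete.dot_values (hsh v hvP) (hsh x hx) (by norm_num)
      have h2 := Cfsg.Lib.Concrete.dot_values (hsh v hvP) (hsh (u - x) (hPinv x hx)) (by norm_num)
      rw [hdd x hx] at h2
      simp only [Finset.mem_insert, Finset.mem_singleton] at h1 h2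
      rcases (show Cfsg.dotInt (v : Cfsg.GolayPt → ℤ) (x : Cfsg.GolayPt → ℤ) = 32 ∨
          Cfsg.dotInt (v : Cfsg.GolayPt → ℤ) (x : Cfsg.GolayPt → ℤ) = -8 ∨
          Cfsg.dotInt (v : Cfsg.GolayPt → ℤ) (x : Cfsg.GolayPt → ℤ) = 16 ∨
          Cfsg.dotInt (v : Cfsg.GolayPt → ℤ) (x : Cfsg.GolayPt → ℤ) = 8 ∨
          Cfsg.dotInt (v : Cfsg.GolayPt → ℤ) (x : Cfsg.GolayPt → ℤ) = 24 ∨
          Cfsg.dotInt (v : Cfsg.GolayPt → ℤ) (x : Cfsg.GolayPt → ℤ) = 0 by omega) with e | e | e | e | e | e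
      · rcases Cfsg.Lib.Concrete.dot_bound (hsh v hvP) (hsh x hx) with ⟨-, r⟩ | ⟨r, -⟩ | r
        · exact Or.inl (Subtype.ext r.symm)
        · omega
        · rw [e] at r; norm_num at r
      · rcases Cfsg.Lib.Concrete.dot_bound (hsh v hvP) (hsh (u - x) (hPinv x hx)) with ⟨-, r⟩ | ⟨r, -⟩ | r
        · exact Or.inr (Or.inl (by rw [show v = u - x from Subtype.ext r, sub_sub_cancel]))
        · rw [hdd x hx] at r; omega
        · rw [hdd x hx, e] at r; norm_num at r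
      · exact Or.inr (Or.inr (Or.inl ⟨hx, e⟩))
      · exact Or.inr (Or.inr (Or.inr ⟨hx, e⟩))
      all_goals
        rcases Cfsg.Lib.Concrete.dot_bound (hsh v hvP) (hsh x hx) with ⟨r, -⟩ | ⟨r, -⟩ | r
        · omega
        · omega
        · rcases Cfsg.Lib.Concrete.dot_bound (hsh v hvP) (hsh (u - x) (hPinv x hx)) with ⟨r', -⟩ | ⟨r', -⟩ | r'
          · rw [hdd x hx] at r'; omega
          · rw [hdd x hx] at r'; omega
          · rw [hdd x hx] at r'; rw [e] at r r'; (norm_num at r') <;> norm_num at r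
    · rintro (rfl | rfl | h | h)
      · exact hvP
      · exact hPinv v hvP
      · exact h.1
      · exact h.1
  have hfin : {x | P x}.Finite := Set.finite_of_ncard_ne_zero (by rw [h552]; norm_num)
  have hfA : A.Finite := hfin.subset fun x hx => hx.1
  have hfB : B.Finite := hfin.subset fun x hx => hx.1
  have hd1 : Disjoint A B := Set.disjoint_left.2 fun x h1 h2 => by have := h1.2; have := h2.2; omega
  have hnv : v ∉ insert (u - v) (A ∪ B) := by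
    rintro (h | h | h)
    · have h' := hwd; rw [← h, Cfsg.Lib.Concrete.dotInt_self, hv1] at h'; norm_num at h'
    · have := h.2; rw [Cfsg.Lib.Concrete.dotInt_self, hv1] at this; omega
    · have := h.2; rw [Cfsg.Lib.Concrete.dotInt_self, hv1] at this; omega
  have hnw : u - v ∉ A ∪ B := by
    rintro (h | h) <;> · have := h.2; rw [hwd] at this; omega
  have h275 : A.ncard = 275 := by
    rw [hsplit, Set.ncard_insert_of_notMem hnv ((hfA.union hfB).insert _), Set.ncard_insert_of_notMem hnw (hfA.union hfB),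
      Set.ncard_union_eq hd1 hfA hfB, hBA,
      Set.ncard_image_of_injective _ (fun a b (h : u - a = u - b) => sub_right_injective h)] at h552
    omega
  have hset : {x : ↥Cfsg.leechLattice | Cfsg.sqNorm (x : Cfsg.GolayPt → ℤ) = 32 ∧ Cfsg.sqNorm ((u - x) : Cfsg.GolayPt → ℤ) = 32 ∧
      Cfsg.dotInt (v : Cfsg.GolayPt → ℤ) (x : Cfsg.GolayPt → ℤ) = 16} = A := Set.ext fun x => (and_assoc).symm
  refine ⟨hset ▸ h275, ?_⟩
  rw [hset]
  rintro x ⟨hx, hxd⟩ x' ⟨hx', hxd'⟩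
  have neg32 : ∀ a : ↥Cfsg.leechLattice, Cfsg.sqNorm (a : Cfsg.GolayPt → ℤ) = 32 →
      Cfsg.sqNorm ((-a : ↥Cfsg.leechLattice) : Cfsg.GolayPt → ℤ) = 32 := fun a ha => by
    rw [AddSubgroup.coe_neg, Cfsg.Lib.Concrete.sqNorm_neg', ha]
  have negd : ∀ a : ↥Cfsg.leechLattice, Cfsg.dotInt (v : Cfsg.GolayPt → ℤ) (a : Cfsg.GolayPt → ℤ) = 16 →
      Cfsg.dotInt (v : Cfsg.GolayPt → ℤ) ((-a : ↥Cfsg.leechLattice) : Cfsg.GolayPt → ℤ) = 4 * (-4) := fun a ha => by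
    rw [AddSubgroup.coe_neg, Cfsg.Lib.Concrete.dotInt_neg_right, ha]; norm_num
  obtain ⟨g, g1, g2⟩ := Cfsg.Lib.Concrete.exists_fix_of_pairFix (v := v) (w := -x) (w' := -x') hv1 (neg32 x hx.1)
    (neg32 x' hx'.1) (negd x hxd) (negd x' hxd') fun y hy hs => Cfsg.Lib.Concrete.pairFix_sixteen hy hs
  have gx : g • x = x' := neg_injective ((map_neg (Cfsg.Lib.Concrete.co0Hom g) x).symm.trans g2)
  have hw32 := (hPinv v hvP).1
  have f1 := Cfsg.Lib.Concrete.co0_dot g v (u - v)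
  have f2 := Cfsg.Lib.Concrete.co0_dot g x (u - v)
  rw [g1, hwd] at f1
  rw [gx, hdot x v, hu24 x hx, Cfsg.Lib.Concrete.dotInt_comm (x : Cfsg.GolayPt → ℤ), hxd] at f2
  obtain ⟨k, k1, k2, k3⟩ := Cfsg.Lib.Concrete.exists_fix_tri (v := v) (x := x') (w := g • (u - v)) (w' := u - v)
    hv1 hx'.1 hxd' ((Cfsg.Lib.Concrete.co0_sqNorm g _).trans hw32) hw32 f1 (f2.trans (by norm_num)) hwd
    (by rw [hdot x' v, hu24 x' hx', Cfsg.Lib.Concrete.dotInt_comm (x' : Cfsg.GolayPt → ℤ), hxd']; norm_num)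
  refine ⟨k * g, ?_, by rw [mul_smul, g1, k1], by rw [mul_smul, gx, k2]⟩
  have h3 : (k * g) • v + (k * g) • (u - v) = v + (u - v) := by rw [mul_smul, mul_smul, g1, k1, k3]
  rwa [← Cfsg.Lib.Concrete.co0_add, add_sub_cancel] at h3

end Cfsg.Agent.S1580
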