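import Cfsg.Statements.S0228
import Mathlib
-- import your own Cfsg.Agent.* helpers here

set_option autoImplicit false
open Cfsg

namespace Cfsg.Agent.S0228

/-- A group of order 12 in which no involution is central is isomorphic to the alternating group on four letters. -/
theorem result {G : Type*} [Group G] [Finite G] (hG : Nat.card G = 12) (hz : ∀ z : G, orderOf z = 2 → z ∉ Subgroup.center G) : Nonempty (G ≃* alternatingGroup (Fin 4)) := by
  classical
  haveI : Fact (Nat.Prime 3) := ⟨by norm_num⟩
  haveI : Fact (Nat.Prime 2) := ⟨by norm_num⟩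
  obtain ⟨P⟩ : Nonempty (Sylow 3 G) := inferInstance
  have hc : ∀ R : Sylow 3 G, Nat.card (R : Subgroup G) = 3 := fun R => by
    rw [R.card_eq_multiplicity, hG]
    have h1 : (12 : ℕ).factorization 3 = 1 := by
      rw [show (12 : ℕ) = 2 ^ 2 * 3 by norm_num, Nat.factorization_mul (by norm_num) (by norm_num),
        Nat.Prime.factorization_pow Nat.prime_two, Nat.Prime.factorization (by norm_num : Nat.Prime 3)]
      simp
    rw [h1]; norm_num
  have hidx : (P : Subgroup G).index = 4 := by
    have := Subgroup.card_mul_index (P : Subgroup G)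
    rw [hc, hG] at this
    omega
  have hn : Nat.card (Sylow 3 G) = 4 := by
    have h1 : Nat.card (Sylow 3 G) ∣ 4 := hidx ▸ P.card_dvd_index
    have h2 := card_sylow_modEq_one 3 G
    have h3 : Nat.card (Sylow 3 G) ≤ 4 := Nat.le_of_dvd (by norm_num) h1
    by_contra hne
    have h4 : Nat.card (Sylow 3 G) = 1 := by
      unfold Nat.ModEq at h2
      generalize Nat.card (Sylow 3 G) = k at *
      interval_cases k <;> omega
    have hPn : (P : Subgroup G).Normal := by
      rw [← Subgroup.normalizer_eq_top_iff, ← Subgroup.index_eq_one]; exact P.card_eq_index_normalizer.symm.trans h4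
    obtain ⟨S⟩ : Nonempty (Sylow 2 G) := inferInstance
    have hS : Nat.card (S : Subgroup G) = 2 ^ 2 := by
      rw [S.card_eq_multiplicity, hG, show (12 : ℕ) = 2 ^ 2 * 3 by norm_num,
        Nat.factorization_mul (by norm_num) (by norm_num), Nat.Prime.factorization_pow Nat.prime_two,
        Nat.Prime.factorization (by norm_num : Nat.Prime 3)]
      simp
    have hSc := IsPGroup.commutative_of_card_eq_prime_sq hS
    set Z := (S : Subgroup G) ⊓ Subgroup.centralizer ((P : Subgroup G) : Set G)
    have hle : Subgroup.centralizer ((S : Subgroup G) : Set G) ⊓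
        Subgroup.centralizer ((P : Subgroup G) : Set G) ≤ Subgroup.center G := by
      rintro z ⟨hzS, hzP⟩
      have htop : (S : Subgroup G) ⊔ (P : Subgroup G) = ⊤ := by
        refine Subgroup.eq_top_of_le_card _ ?_
        rw [hG]
        refine Nat.le_of_dvd Nat.card_pos ?_
        have h := Nat.Coprime.mul_dvd_of_dvd_of_dvd (show Nat.Coprime 4 3 by norm_num)
          (show 4 ∣ Nat.card ↥((S : Subgroup G) ⊔ (P : Subgroup G)) by
            have := Subgroup.card_dvd_of_le (le_sup_left : (S : Subgroup G) ≤ (S : Subgroup G) ⊔ (P : Subgroup G))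
            rw [hS] at this; exact this)
          (show 3 ∣ Nat.card ↥((S : Subgroup G) ⊔ (P : Subgroup G)) by
            have := Subgroup.card_dvd_of_le (le_sup_right : (P : Subgroup G) ≤ (S : Subgroup G) ⊔ (P : Subgroup G))
            rw [hc] at this; exact this)
        exact h
      rw [Subgroup.mem_center_iff]
      intro g
      have : g ∈ Subgroup.centralizer ({z} : Set G) := by
        have hle : (S : Subgroup G) ⊔ (P : Subgroup G) ≤ Subgroup.centralizer ({z} : Set G) :=
          sup_le (fun s hs => Subgroup.mem_centralizer_singleton_iff.mpr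
              (Subgroup.mem_centralizer_iff.mp hzS s hs))
            (fun s hs => Subgroup.mem_centralizer_singleton_iff.mpr
              (Subgroup.mem_centralizer_iff.mp hzP s hs))
        exact hle (htop.ge (Subgroup.mem_top g))
      exact Subgroup.mem_centralizer_singleton_iff.mp this
    -- the kernel of the action of `S` on `P`
    have hK : ∃ z ∈ (S : Subgroup G), orderOf z = 2 ∧ z ∈ Subgroup.centralizer ((P : Subgroup G) : Set G) := by
      let f : (S : Subgroup G) →* MulAut (P : Subgroup G) := MulAut.conjNormal.comp (S : Subgroup G).subtype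
      haveI : IsCyclic (P : Subgroup G) := isCyclic_of_prime_card (hc P)
      have h6 : Nat.card (MulAut (P : Subgroup G)) = 2 := by
        rw [IsCyclic.card_mulAut, hc, Nat.totient_prime (by norm_num)]
      have h7 : Nat.card f.range ∣ 2 := (Subgroup.card_subgroup_dvd_card f.range).trans (dvd_of_eq h6)
      have h8 := Subgroup.card_mul_index f.ker
      rw [Subgroup.index_ker, hS] at h8
      have h9 : 2 ∣ Nat.card f.ker := by
        rcases (Nat.dvd_prime Nat.prime_two).mp h7 with h | h <;> rw [h] at h8 <;> omega
      obtain ⟨x, hx⟩ := exists_prime_orderOf_dvd_card' 2 h9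
      refine ⟨x.1.1, x.1.2, by rw [Subgroup.orderOf_coe, Subgroup.orderOf_coe, hx], ?_⟩
      rw [Subgroup.mem_centralizer_iff]
      intro y hy
      have := congrArg (fun q : MulAut (P : Subgroup G) => ((q ⟨y, hy⟩ : (P : Subgroup G)) : G))
        (MonoidHom.mem_ker.mp x.2)
      simp only [f, MonoidHom.comp_apply, Subgroup.coe_subtype, MulAut.conjNormal_apply,
        MulAut.one_apply] at this
      rw [mul_inv_eq_iff_eq_mul] at this
      exact this.symm
    obtain ⟨z, hzS, hzo, hzP⟩ := hK
    refine hz z hzo (hle ⟨Subgroup.mem_centralizer_iff.mpr fun s hs => ?_, hzP⟩)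
    exact congrArg Subtype.val (hSc ⟨s, hs⟩ ⟨z, hzS⟩)
  have hN : ∀ R : Sylow 3 G, Subgroup.normalizer ((R : Subgroup G) : Set G) = (R : Subgroup G) := by
    intro R
    refine (Subgroup.eq_of_le_of_card_ge Subgroup.le_normalizer ?_).symm
    have h1 := Subgroup.card_mul_index (Subgroup.normalizer ((R : Subgroup G) : Set G))
    rw [show (Subgroup.normalizer ((R : Subgroup G) : Set G)).index = 4 from R.card_eq_index_normalizer.symm.trans hn, hG] at h1
    rw [hc]; omega
  let e : Sylow 3 G ≃ Fin 4 := Finite.equivFinOfCardEq hn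
  let f : G →* Equiv.Perm (Fin 4) :=
    e.permCongrHom.toMonoidHom.comp (MulAction.toPermHom G (Sylow 3 G))
  have hf : Function.Injective f := by
    refine e.permCongrHom.injective.comp ?_
    rw [injective_iff_map_eq_one]
    intro g hg
    have hmem : ∀ R : Sylow 3 G, g ∈ (R : Subgroup G) := fun R => by
      rw [← hN R]
      exact Sylow.smul_eq_iff_mem_normalizer.mp (DFunLike.congr_fun hg R)
    obtain ⟨R, hR⟩ : ∃ R : Sylow 3 G, R ≠ P := by
      by_contra h
      push Not at h
      haveI : Subsingleton (Sylow 3 G) := ⟨fun a b => (h a).trans (h b).symm⟩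
      rw [Nat.card_of_subsingleton P] at hn
      omega
    by_contra hg1
    have hinf : ∀ Q : Sylow 3 G, Subgroup.zpowers g = (Q : Subgroup G) := fun Q => by
      refine Subgroup.eq_of_le_of_card_ge (Subgroup.zpowers_le.mpr (hmem Q)) ?_
      have h1 : Nat.card (Subgroup.zpowers g) ∣ 3 := hc Q ▸ Subgroup.card_dvd_of_le (Subgroup.zpowers_le.mpr (hmem Q))
      rcases (Nat.dvd_prime (by norm_num)).mp h1 with h | h
      · exact absurd (orderOf_eq_one_iff.mp (by rwa [Nat.card_zpowers] at h)) hg1
      · rw [h, hc]
    exact hR (Sylow.ext ((hinf R).symm.trans (hinf P)))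
  have hr : f.range = alternatingGroup (Fin 4) := by
    refine Equiv.Perm.eq_alternatingGroup_of_index_eq_two ?_
    have h1 := Subgroup.card_mul_index f.range
    rw [← Nat.card_congr (MonoidHom.ofInjective hf).toEquiv, Nat.card_perm, Nat.card_fin, hG] at h1
    norm_num [Nat.factorial] at h1
    omega
  exact ⟨(MonoidHom.ofInjective hf).trans (MulEquiv.subgroupCongr hr)⟩

end Cfsg.Agent.S0228
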