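import Cfsg.Statements.S4025
import Cfsg.Agent.Lib.Recog.SolvTrans.Main
import Cfsg.Agent.Lib.Solv.Hall
import Cfsg.Agent.Lib.Core.Cores
import Cfsg.Agent.Lib.Fusion.Abelian
import Mathlib.GroupTheory.SchurZassenhaus
import Mathlib.LinearAlgebra.Matrix.GeneralLinearGroup.Card
import Mathlib.FieldTheory.Finite.GaloisField

set_option autoImplicit false
set_option maxHeartbeats 1000000
open Cfsg

namespace Cfsg.Agent.S4025


open Module
open scoped Pointwise

instance finite_linearEquiv {p : ℕ} {V : Type*} [AddCommGroup V] [Module (ZMod p) V] [Finite V] :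
    Finite (V ≃ₗ[ZMod p] V) := Finite.of_injective _ LinearEquiv.coe_injective

section Fixed

variable {p : ℕ} [Fact p.Prime] {V : Type*} [AddCommGroup V] [Module (ZMod p) V] [Finite V]

/-- The vectors fixed by a linear map. -/
def fixedSpace (x : V ≃ₗ[ZMod p] V) : Submodule (ZMod p) V where
  carrier := {v | x v = v}
  add_mem' {a b} ha hb := show x (a + b) = a + b by rw [map_add, ha, hb]
  zero_mem' := map_zero x
  smul_mem' c a ha := show x (c • a) = c • a by rw [map_smul, ha]

theorem card_fixed_modEq {r : ℕ} [Fact r.Prime] {x : V ≃ₗ[ZMod p] V} (hx : orderOf x = r)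
    (W : Submodule (ZMod p) V) (hW : ∀ v ∈ W, x v ∈ W) :
    Nat.card W ≡ Nat.card (W ⊓ fixedSpace x : Submodule (ZMod p) V) [MOD r] := by
  classical
  have hst : ∀ g ∈ Subgroup.zpowers x, ∀ v ∈ W, g v ∈ W := by
    intro g hg
    obtain ⟨k, rfl⟩ := (mem_powers_iff_mem_zpowers (x := x)).2 hg
    induction k with
    | zero => intro v hv; simpa using hv
    | succ k ih =>
      intro v hv
      show (x ^ (k + 1) : V ≃ₗ[ZMod p] V) v ∈ W
      rw [pow_succ]
      exact ih ⟨k, rfl⟩ (x v) (hW v hv)
  letI : MulAction (Subgroup.zpowers x) W :=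
    { smul := fun g v => ⟨(g : V ≃ₗ[ZMod p] V) v, hst g g.2 v v.2⟩
      one_smul := fun v => Subtype.ext rfl
      mul_smul := fun g h v => Subtype.ext rfl }
  have hP : IsPGroup r (Subgroup.zpowers x) :=
    IsPGroup.of_card (n := 1) (by rw [Nat.card_zpowers, hx, pow_one])
  refine (hP.card_modEq_card_fixedPoints W).trans ?_
  refine congrArg (· % r) ?_
  refine Nat.card_congr
    { toFun := fun v => ⟨((v.1 : W) : V), (v.1 : W).2,
        congrArg Subtype.val (v.2 ⟨x, Subgroup.mem_zpowers x⟩)⟩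
      invFun := fun v => ⟨⟨v.1, v.2.1⟩, ?_⟩
      left_inv := fun v => rfl
      right_inv := fun v => rfl }
  intro g
  refine Subtype.ext ?_
  obtain ⟨g, hg⟩ := g
  obtain ⟨k, rfl⟩ := (mem_powers_iff_mem_zpowers (x := x)).2 hg
  show (x ^ k : V ≃ₗ[ZMod p] V) v.1 = v.1
  induction k with
  | zero => rfl
  | succ k ih =>
    rw [pow_succ]
    show (x ^ k : V ≃ₗ[ZMod p] V) (x v.1) = v.1
    rw [show x v.1 = v.1 from v.2.2]
    exact ih (Subgroup.pow_mem _ (Subgroup.mem_zpowers x) k)

end Fixed

/-- A group of linear maps in four dimensions over three elements has no commuting elements of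
orders five and thirteen. -/
theorem no_sixty_five {V : Type*} [AddCommGroup V] [Module (ZMod 3) V] [Finite V] (hV : Nat.card V = 81)
    (x h : V ≃ₗ[ZMod 3] V) (hx : orderOf x = 5) (hh : orderOf h = 13) (hc : x * h = h * x) : False := by
  classical
  haveI : Fact (Nat.Prime 3) := ⟨Nat.prime_three⟩
  haveI : Fact (Nat.Prime 5) := ⟨Nat.prime_five⟩
  haveI : Fact (Nat.Prime 13) := ⟨by norm_num⟩
  have hcard : ∀ W : Submodule (ZMod 3) V, ∃ k ≤ 4, Nat.card W = 3 ^ k := by
    intro W
    have hd : Nat.card W ∣ 3 ^ 4 := by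
      have := W.toAddSubgroup.card_addSubgroup_dvd_card
      rw [hV] at this
      exact this
    exact (Nat.dvd_prime_pow Nat.prime_three).1 hd
  have htop : Nat.card (⊤ : Submodule (ZMod 3) V) = 81 := by
    rw [← hV]; exact Nat.card_congr Submodule.topEquiv.toEquiv
  have hfull : ∀ W : Submodule (ZMod 3) V, Nat.card W = 81 → W = ⊤ := fun W hW => by
    refine SetLike.coe_injective ?_
    rw [Submodule.top_coe]
    refine Set.eq_univ_iff_ncard _ |>.2 ?_
    rw [← Nat.card_coe_set_eq, hV]; exact hW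
  have key : ∀ {r : ℕ} [Fact r.Prime] (y : V ≃ₗ[ZMod 3] V), orderOf y = r →
      fixedSpace y ≠ ⊤ := by
    intro r hr y hy htop'
    have : y = 1 := LinearEquiv.ext fun v => (htop'.symm ▸ Submodule.mem_top : v ∈ fixedSpace y)
    rw [this, orderOf_one] at hy
    exact hr.out.one_lt.ne hy
  -- fixed points of `h` form a proper non-zero subspace
  set W := fixedSpace h with hWdef
  have hWx : ∀ v ∈ W, x v ∈ W := fun v hv => by
    show h (x v) = x v
    have := congrArg (fun e : V ≃ₗ[ZMod 3] V => e v) hc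
    exact this.symm.trans (congrArg x hv)
  have h13 := card_fixed_modEq hh ⊤ fun v _ => Submodule.mem_top
  rw [htop, top_inf_eq] at h13
  obtain ⟨k, hk, hWk⟩ := hcard W
  obtain ⟨m, hm, hFm⟩ := hcard (fixedSpace x)
  have h5 := card_fixed_modEq hx ⊤ fun v _ => Submodule.mem_top
  rw [htop, top_inf_eq, hFm] at h5
  rw [← hWdef, hWk] at h13
  obtain ⟨j, hj, hIj⟩ := hcard (W ⊓ fixedSpace x)
  have h5' := card_fixed_modEq hx W hWx
  rw [hWk, hIj] at h5'
  have hm4 : m < 4 := lt_of_le_of_ne hm fun e => key x hx (hfull _ (by rw [hFm, e]; norm_num))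
  have hk4 : k < 4 := lt_of_le_of_ne hk fun e => key h hh (hfull _ (by rw [hWk, e]; norm_num))
  have hle : Nat.card (W ⊓ fixedSpace x : Submodule (ZMod 3) V) ≤ Nat.card (fixedSpace x) :=
    Nat.card_le_card_of_injective (Submodule.inclusion inf_le_right) (Submodule.inclusion_injective _)
  rw [hIj, hFm] at hle
  have hjm : j ≤ m := (Nat.pow_le_pow_iff_right (by norm_num)).1 hle
  unfold Nat.ModEq at h13 h5 h5'
  clear hWx key hfull hcard htop hFm hWk hIj hle
  interval_cases m <;> interval_cases k <;> interval_cases j <;> omega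

theorem zmod_two_eq_one : ∀ x : ZMod 2, x ≠ 0 → x = 1 := by decide

theorem exc_num {p n : ℕ} (hp : p.Prime) (hn : 3 ≤ n)
    (h : p ^ n ∈ ({9, 25, 49, 121, 529, 81} : Set ℕ)) : p = 3 ∧ n = 4 := by
  simp only [Set.mem_insert_iff, Set.mem_singleton_iff] at h
  have hp2 := hp.two_le
  have hp8 : p ^ 3 ≤ p ^ n := Nat.pow_le_pow_right hp.pos hn
  have hp9 : p < 9 := by
    by_contra hc
    have : 9 ^ 3 ≤ p ^ 3 := Nat.pow_le_pow_left (by omega) 3
    omega
  have hn10 : n < 10 := by
    by_contra hc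
    have : 2 ^ 10 ≤ p ^ n := (Nat.pow_le_pow_left hp2 10).trans (Nat.pow_le_pow_right hp.pos (by omega))
    omega
  interval_cases p <;> interval_cases n <;> norm_num at *

/-- The arithmetic of the transitive action on planes. -/
theorem num_bound {p n : ℕ} (hp : p.Prime) (hn : 3 ≤ n) (h : p ^ (n - 1) - 1 ∣ n * (p ^ 2 - 1)) :
    n = 3 ∨ (n = 5 ∧ p = 2) := by
  have h2 := hp.two_le
  have hp2 : 4 ≤ p ^ 2 := by nlinarith
  have hle := Nat.le_of_dvd (Nat.mul_pos (by omega) (by omega)) h
  rcases Nat.lt_or_ge n 6 with hn6 | hn6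
  · interval_cases n
    · exact Or.inl rfl
    · exfalso
      have hp4 : p < 5 := by
        by_contra hc
        have : 5 * p ^ 2 ≤ p ^ 3 := by rw [show p ^ 3 = p * p ^ 2 by ring]; exact Nat.mul_le_mul_right _ (by omega)
        simp only [show (4 : ℕ) - 1 = 3 from rfl] at hle
        omega
      interval_cases p <;> norm_num at *
    · refine Or.inr ⟨rfl, ?_⟩
      by_contra hc
      have h3 : 3 ≤ p := by omega
      have h9 : 9 ≤ p ^ 2 := by nlinarith
      have : 9 * p ^ 2 ≤ p ^ 4 := by rw [show p ^ 4 = p ^ 2 * p ^ 2 by ring]; exact Nat.mul_le_mul_right _ h9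
      simp only [show (5 : ℕ) - 1 = 4 from rfl] at hle
      omega
  · exfalso
    have hexp : ∀ m, 3 ≤ m → m + 3 < p ^ m := by
      intro m hm
      induction m, hm using Nat.le_induction with
      | base => have : 8 ≤ p ^ 3 := Nat.pow_le_pow_left h2 3; omega
      | succ m hm ih =>
        rw [pow_succ]
        nlinarith
    have he : p ^ (n - 1) = p ^ (n - 3) * p ^ 2 := by rw [← pow_add]; congr 1; omega
    have h1 := hexp (n - 3) (by omega)
    have : (n + 1) * p ^ 2 ≤ p ^ (n - 1) := by rw [he]; exact Nat.mul_le_mul_right _ (by omega)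
    rw [Nat.add_mul, one_mul] at this
    rw [Nat.mul_sub, mul_one] at hle
    have : n ≤ n * p ^ 2 := Nat.le_mul_of_pos_right _ (by omega)
    omega

theorem card_ringAut (p n : ℕ) [Fact p.Prime] (hn : n ≠ 0) :
    Nat.card (GaloisField p n ≃+* GaloisField p n) = n := by
  rw [show Nat.card (GaloisField p n ≃+* GaloisField p n) =
    Nat.card (GaloisField p n ≃ₐ[ZMod p] GaloisField p n) from Nat.card_congr
      { toFun := fun f => AlgEquiv.ofRingEquiv (f := f) (fun c =>
          RingHom.congr_fun (Subsingleton.elim (f.toRingHom.comp (algebraMap _ _)) (algebraMap _ _)) c)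
        invFun := fun f => f.toRingEquiv
        left_inv := fun f => RingEquiv.ext fun x => rfl
        right_inv := fun f => AlgEquiv.ext fun x => rfl }]
  rw [IsGalois.card_aut_eq_finrank, GaloisField.finrank p hn]

/-- Semiaffine permutations fixing zero. -/
abbrev semiStab (F : Type*) [Field F] : Subgroup (Equiv.Perm F) :=
  Cfsg.semiaffineGroup F ⊓ MulAction.stabilizer (Equiv.Perm F) (0 : F)

theorem semi_ext {F : Type*} [Field F] {a a' : Fˣ} {b b' : F} {φ φ' : F ≃+* F}
    (h : ∀ x, (a : F) * φ x + b = (a' : F) * φ' x + b') : a = a' ∧ b = b' ∧ φ = φ' := by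
  have hb : b = b' := by simpa using h 0
  subst hb
  have ha : a = a' := Units.ext (by simpa using h 1)
  subst ha
  exact ⟨rfl, rfl, RingEquiv.ext fun x => mul_left_cancel₀ a.ne_zero (add_right_cancel (h x))⟩

theorem card_semiaffine (F : Type*) [Field F] [Finite F] :
    Nat.card (Cfsg.semiaffineGroup F) = Nat.card Fˣ * Nat.card F * Nat.card (F ≃+* F) := by
  rw [← Nat.card_prod, ← Nat.card_prod]
  symm
  refine Nat.card_congr (Equiv.ofBijective
    (fun t : (Fˣ × F) × (F ≃+* F) => (⟨(t.2.toEquiv.trans (Equiv.mulLeft₀ (t.1.1 : F) t.1.1.ne_zero)).trans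
      (Equiv.addRight t.1.2), t.1.1, t.1.2, t.2, fun x => rfl⟩ : Cfsg.semiaffineGroup F)) ⟨?_, ?_⟩)
  · rintro ⟨⟨a, b⟩, φ⟩ ⟨⟨a', b'⟩, φ'⟩ h
    obtain ⟨rfl, rfl, rfl⟩ := semi_ext (a := a) (a' := a') (b := b) (b' := b') (φ := φ) (φ' := φ')
      fun x => Equiv.congr_fun (congrArg Subtype.val h) x
    rfl
  · rintro ⟨σ, a, b, φ, hσ⟩
    exact ⟨((a, b), φ), Subtype.ext (Equiv.ext fun x => (hσ x).symm)⟩

theorem card_semiStab (F : Type*) [Field F] [Finite F] :
    Nat.card (semiStab F) = Nat.card Fˣ * Nat.card (F ≃+* F) := by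
  rw [← Nat.card_prod]
  symm
  refine Nat.card_congr (Equiv.ofBijective
    (fun t : Fˣ × (F ≃+* F) => (⟨t.2.toEquiv.trans (Equiv.mulLeft₀ (t.1 : F) t.1.ne_zero),
      ⟨t.1, 0, t.2, fun x => (add_zero _).symm⟩, by
        show (t.1 : F) * t.2 0 = 0
        rw [map_zero, mul_zero]⟩ : semiStab F)) ⟨?_, ?_⟩)
  · rintro ⟨a, φ⟩ ⟨a', φ'⟩ h
    obtain ⟨rfl, -, rfl⟩ := semi_ext (a := a) (a' := a') (φ := φ) (φ' := φ') (b := (0 : F)) (b' := 0)
      fun x => by
        simp only [add_zero]
        exact Equiv.congr_fun (congrArg Subtype.val h) x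
    rfl
  · rintro ⟨σ, ⟨a, b, φ, hσ⟩, h0⟩
    have hb : b = 0 := by
      have h0' : σ 0 = 0 := h0
      rw [hσ, map_zero, mul_zero, zero_add] at h0'
      exact h0'
    exact ⟨(a, φ), Subtype.ext (Equiv.ext fun x => by rw [hσ, hb, add_zero]; rfl)⟩

section Core

variable {p : ℕ} [Fact p.Prime] {V : Type*} [AddCommGroup V] [Module (ZMod p) V] [Finite V]

/-- Solvable linear groups transitive on lines and planes. -/
theorem core (L : Subgroup (V ≃ₗ[ZMod p] V)) [Group.IsSolvable L] (n : ℕ) (hn : 3 ≤ n)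
    (hV : Nat.card V = p ^ n)
    (htr : ∀ k, k = 1 ∨ k = 2 → ∀ W W' : Submodule (ZMod p) V, finrank (ZMod p) W = k → finrank (ZMod p) W' = k →
      ∃ l ∈ L, ∀ v ∈ W, (l : V ≃ₗ[ZMod p] V) v ∈ W') :
    ∃ e : V ≃+ GaloisField p n,
      (∀ l ∈ L, ∃ (a : (GaloisField p n)ˣ) (σ : GaloisField p n ≃+* GaloisField p n),
        ∀ v : V, e ((l : V ≃ₗ[ZMod p] V) v) = (a : GaloisField p n) * σ (e v)) ∧
      Nat.card L ∣ (p ^ n - 1) * n ∧
      (n = 3 ∨ (n = 5 ∧ p = 2)) ∧ (p = 2 → 7 ∣ Nat.card L ∨ n = 5) ∧ (n = 5 → p = 2 → 155 ∣ Nat.card L) := by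
  classical
  have hp : p.Prime := Fact.out
  have hp2 := hp.two_le
  haveI : Fintype (ZMod p) := ZMod.fintype p
  have hfr : finrank (ZMod p) V = n := by
    have := Module.natCard_eq_pow_finrank (K := ZMod p) (V := V)
    rw [hV, Nat.card_zmod] at this
    exact (Nat.pow_right_injective hp2 this).symm
  haveI : Nontrivial V := Module.nontrivial_of_finrank_pos (R := ZMod p) (by omega)
  haveI : Finite (V ≃ₗ[ZMod p] V) := Finite.of_injective _ LinearEquiv.coe_injective
  let s : (ZMod p)ˣ →* (V ≃ₗ[ZMod p] V) := DistribMulAction.toModuleAut (ZMod p) V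
  have hsv : ∀ (c : (ZMod p)ˣ) (v : V), s c v = (c : ZMod p) • v := fun c v => rfl
  have hcomm : ∀ (l : L) (c : (ZMod p)ˣ), Commute (L.subtype l) (s c) := fun l c =>
    LinearEquiv.ext fun v => map_smul (l : V ≃ₗ[ZMod p] V) (c : ZMod p) v
  let ρ : L × (ZMod p)ˣ →* (V ≃ₗ[ZMod p] V) := MonoidHom.noncommCoprod L.subtype s hcomm
  have hρ : ∀ (l : L) (c : (ZMod p)ˣ), ρ (l, c) = (l : V ≃ₗ[ZMod p] V) * s c := fun l c => rfl
  haveI : Group.IsSolvable ρ.range := Group.isSolvable_of_surjective ρ.rangeRestrict_surjective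
  have hLle : L ≤ ρ.range := fun l hl => ⟨(⟨l, hl⟩, 1), by rw [hρ, map_one, mul_one]⟩
  have hsle : ∀ c, s c ∈ ρ.range := fun c => ⟨(1, c), by rw [hρ, Subgroup.coe_one, one_mul]⟩
  have htrans : ∀ v w : V, v ≠ 0 → w ≠ 0 → ∃ g : ρ.range, (g : V ≃ₗ[ZMod p] V) v = w := by
    intro v w hv hw
    obtain ⟨l, hl, hlv⟩ := htr 1 (Or.inl rfl) (ZMod p ∙ v) (ZMod p ∙ w)
      (finrank_span_singleton hv) (finrank_span_singleton hw)
    obtain ⟨c, hc⟩ := Submodule.mem_span_singleton.1 (hlv v (Submodule.mem_span_singleton_self v))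
    have hc0 : c ≠ 0 := by
      rintro rfl
      rw [zero_smul] at hc
      exact hv (l.map_eq_zero_iff.1 hc.symm)
    refine ⟨⟨ρ (⟨l, hl⟩, (Units.mk0 c hc0)⁻¹), _, rfl⟩, ?_⟩
    show l (s (Units.mk0 c hc0)⁻¹ v) = w
    rw [hsv, map_smul, ← hc, smul_smul, Units.val_inv_eq_inv_val, Units.val_mk0, inv_mul_cancel₀ hc0, one_smul]
  -- transitivity on planes
  let S := {W : Submodule (ZMod p) V // finrank (ZMod p) W = 2}
  letI act : MulAction ρ.range S :=
    { smul := fun g W => ⟨W.1.map ((g : V ≃ₗ[ZMod p] V) : V →ₗ[ZMod p] V),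
        ((g : V ≃ₗ[ZMod p] V).finrank_map_eq W.1).trans W.2⟩
      one_smul := fun W => Subtype.ext (Submodule.map_id W.1)
      mul_smul := fun g h W => Subtype.ext (Submodule.map_comp _ _ W.1) }
  haveI : MulAction.IsPretransitive ρ.range S := ⟨fun W W' => by
    obtain ⟨l, hl, hlW⟩ := htr 2 (Or.inr rfl) W.1 W'.1 W.2 W'.2
    refine ⟨⟨l, hLle hl⟩, Subtype.ext (Submodule.eq_of_le_of_finrank_eq ?_ ?_)⟩
    · rintro _ ⟨v, hv, rfl⟩; exact hlW v hv
    · exact (l.finrank_map_eq W.1).trans (W.2.trans W'.2.symm)⟩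
  let SS := {f : Fin 2 → V // LinearIndependent (ZMod p) f}
  have hSS : Nat.card SS = (p ^ n - 1) * (p ^ n - p) := by
    rw [show Nat.card SS = _ from card_linearIndependent (K := ZMod p) (V := V) (k := 2) (by omega), hfr,
      Fin.prod_univ_two, ZMod.card]
    simp
  let sp : SS → S := fun f => ⟨Submodule.span (ZMod p) (Set.range f.1),
    (finrank_span_eq_card f.2).trans (Fintype.card_fin 2)⟩
  have hfib : ∀ W : S, Nat.card {f : SS // sp f = W} = (p ^ 2 - 1) * (p ^ 2 - p) := by
    intro W
    have hW := card_linearIndependent (K := ZMod p) (V := W.1) (k := 2) (by rw [W.2])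
    rw [W.2, Fin.prod_univ_two, ZMod.card] at hW
    simp only [Fin.val_zero, Fin.val_one, pow_zero, pow_one] at hW
    rw [← hW]
    refine Nat.card_congr
      { toFun := fun f => ⟨fun i => ⟨f.1.1 i, (congrArg Subtype.val f.2) ▸ Submodule.subset_span ⟨i, rfl⟩⟩,
          LinearIndependent.of_comp W.1.subtype f.1.2⟩
        invFun := fun g => ⟨⟨fun i => (g.1 i : V), g.2.map' W.1.subtype W.1.ker_subtype⟩,
          Subtype.ext (Submodule.eq_of_le_of_finrank_eq
            (Submodule.span_le.2 (by rintro _ ⟨i, rfl⟩; exact (g.1 i).2))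
            (((finrank_span_eq_card (g.2.map' W.1.subtype W.1.ker_subtype)).trans (Fintype.card_fin 2)).trans
              W.2.symm))⟩
        left_inv := fun f => rfl
        right_inv := fun g => rfl }
  have hcount : Nat.card S * ((p ^ 2 - 1) * (p ^ 2 - p)) = (p ^ n - 1) * (p ^ n - p) := by
    haveI : Fintype S := Fintype.ofFinite S
    rw [← hSS, ← Nat.card_congr (Equiv.sigmaFiberEquiv sp), Nat.card_sigma, Finset.sum_congr rfl (fun W _ => hfib W),
      Finset.sum_const, Finset.card_univ, ← Nat.card_eq_fintype_card, smul_eq_mul]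
  have hSne : Nonempty S := by
    by_contra hc
    rw [not_nonempty_iff] at hc
    rw [Nat.card_of_isEmpty, zero_mul] at hcount
    have h1 : 1 < p ^ n := Nat.one_lt_pow (by omega) hp.one_lt
    have h2 : p < p ^ n := lt_self_pow₀ hp.one_lt (by omega)
    exact absurd hcount.symm (Nat.mul_ne_zero (by omega) (by omega))
  obtain ⟨W₀⟩ := hSne
  have hSdvd : Nat.card S * (p - 1) ∣ Nat.card ρ.range := by
    rw [← MulAction.index_stabilizer_of_transitive ρ.range W₀, ← Subgroup.index_mul_card (MulAction.stabilizer ρ.range W₀)]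
    refine Nat.mul_dvd_mul_left _ ?_
    let t : (ZMod p)ˣ →* MulAction.stabilizer ρ.range W₀ :=
      { toFun := fun c => ⟨⟨s c, hsle c⟩, Subtype.ext (by
          apply le_antisymm
          · rintro _ ⟨v, hv, rfl⟩
            show s c v ∈ W₀.1
            rw [hsv]; exact W₀.1.smul_mem _ hv
          · intro v hv
            refine ⟨(↑c⁻¹ : ZMod p) • v, W₀.1.smul_mem _ hv, ?_⟩
            show s c ((↑c⁻¹ : ZMod p) • v) = v
            rw [hsv, smul_smul, Units.mul_inv, one_smul])⟩
        map_one' := Subtype.ext (Subtype.ext (map_one s))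
        map_mul' := fun a b => Subtype.ext (Subtype.ext (map_mul s a b)) }
    have ht : Function.Injective t := by
      intro a b hab
      obtain ⟨v, hv⟩ := exists_ne (0 : V)
      have := congrArg (fun x : MulAction.stabilizer ρ.range W₀ => ((x : ρ.range) : V ≃ₗ[ZMod p] V) v) hab
      exact Units.ext (smul_left_injective (ZMod p) hv this)
    have := Subgroup.card_dvd_of_injective t ht
    rwa [Nat.card_units, Nat.card_zmod] at this
  -- the classification
  rcases Cfsg.Lib.Recog.SolvTrans.classification ρ.range.subtype Subtype.coe_injective htrans with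
    ⟨F, iF, iFt, e₀, he₀⟩ | hexc
  · have hcF : Fintype.card F = p ^ n := by
      rw [← Nat.card_eq_fintype_card, ← Nat.card_congr e₀.toEquiv, hV]
    haveI : Fintype (GaloisField p n) := Fintype.ofFinite _
    let φ : F ≃+* GaloisField p n := FiniteField.ringEquivOfCardEq (by
      rw [hcF, ← Nat.card_eq_fintype_card, GaloisField.card p n (by omega)])
    let e : V ≃+ GaloisField p n := e₀.trans φ.toAddEquiv
    have hsemi : ∀ g ∈ ρ.range, ∃ (a : (GaloisField p n)ˣ) (σ : GaloisField p n ≃+* GaloisField p n),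
        ∀ v : V, e ((g : V ≃ₗ[ZMod p] V) v) = (a : GaloisField p n) * σ (e v) := by
      intro g hg
      obtain ⟨a, σ, h⟩ := he₀ ⟨g, hg⟩
      have ha : φ a ≠ 0 := by
        intro h0
        rw [map_eq_zero_iff φ φ.injective] at h0
        obtain ⟨v, hv⟩ := exists_ne (0 : V)
        refine hv (g.map_eq_zero_iff.1 (e₀.injective ?_))
        rw [map_zero, show e₀ (g v) = a * σ (e₀ v) from h v, h0, zero_mul]
      refine ⟨Units.mk0 (φ a) ha, (φ.symm.trans σ).trans φ, fun v => ?_⟩
      show φ (e₀ (g v)) = φ a * φ (σ (φ.symm (φ (e₀ v))))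
      rw [RingEquiv.symm_apply_apply, ← map_mul, show e₀ (g v) = a * σ (e₀ v) from h v]
    let θ : ρ.range →* semiStab (GaloisField p n) :=
      { toFun := fun g => ⟨(e.symm.toEquiv.trans (g : V ≃ₗ[ZMod p] V).toEquiv).trans e.toEquiv, by
          obtain ⟨a, σ, h⟩ := hsemi g g.2
          exact ⟨a, 0, σ, fun x => by
            show e ((g : V ≃ₗ[ZMod p] V) (e.symm x)) = _
            rw [h, AddEquiv.apply_symm_apply, add_zero]⟩, by
          show e ((g : V ≃ₗ[ZMod p] V) (e.symm 0)) = 0
          rw [map_zero, map_zero, map_zero]⟩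
        map_one' := Subtype.ext (Equiv.ext fun x => e.apply_symm_apply x)
        map_mul' := fun g h => Subtype.ext (Equiv.ext fun x => by
          show e ((g : V ≃ₗ[ZMod p] V) ((h : V ≃ₗ[ZMod p] V) (e.symm x))) =
            e ((g : V ≃ₗ[ZMod p] V) (e.symm (e ((h : V ≃ₗ[ZMod p] V) (e.symm x)))))
          rw [AddEquiv.symm_apply_apply]) }
    have hθ : Function.Injective θ := fun g h hgh => Subtype.ext (LinearEquiv.ext fun v => e.injective (by
      have : e ((g : V ≃ₗ[ZMod p] V) (e.symm (e v))) = e ((h : V ≃ₗ[ZMod p] V) (e.symm (e v))) :=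
        Equiv.congr_fun (congrArg Subtype.val hgh) (e v)
      rwa [AddEquiv.symm_apply_apply] at this))
    have hdvd : Nat.card ρ.range ∣ (p ^ n - 1) * n := by
      have := Subgroup.card_dvd_of_injective θ hθ
      rwa [card_semiStab, card_ringAut p n (by omega), Nat.card_units, GaloisField.card p n (by omega)] at this
    have harith : p ^ (n - 1) - 1 ∣ n * (p ^ 2 - 1) := by
      have h1 := Nat.mul_dvd_mul_right (hSdvd.trans hdvd) ((p ^ 2 - 1) * (p ^ 2 - p))
      rw [mul_right_comm, hcount] at h1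
      have hpn : p ^ n - p = p * (p ^ (n - 1) - 1) := by
        rw [Nat.mul_sub, mul_one, ← pow_succ', show n - 1 + 1 = n by omega]
      have hp2' : p ^ 2 - p = p * (p - 1) := by rw [Nat.mul_sub, mul_one, sq]
      rw [hpn, hp2'] at h1
      have h1' : (p ^ n - 1) * p * (p - 1) * (p ^ (n - 1) - 1) ∣
          (p ^ n - 1) * p * (p - 1) * (n * (p ^ 2 - 1)) := by
        convert h1 using 1 <;> ring
      have hpos : 0 < (p ^ n - 1) * p * (p - 1) := by
        have : 1 < p ^ n := Nat.one_lt_pow (by omega) hp.one_lt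
        exact Nat.mul_pos (Nat.mul_pos (by omega) (by omega)) (by omega)
      exact (Nat.mul_dvd_mul_iff_left hpos).1 h1'
    have hcases := num_bound hp hn harith
    have hLdvd : Nat.card L ∣ Nat.card ρ.range := Subgroup.card_dvd_of_le hLle
    have hL2 : p = 2 → Nat.card L = Nat.card ρ.range := fun h2' => by
      refine le_antisymm (Nat.le_of_dvd Nat.card_pos hLdvd) ?_
      refine Subgroup.card_le_of_le fun g hg => ?_
      obtain ⟨⟨l, c⟩, rfl⟩ := hg
      have hc : c = 1 := by
        subst h2'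
        exact Units.ext (zmod_two_eq_one _ c.ne_zero)
      rw [hρ, hc, map_one, mul_one]
      exact l.2
    refine ⟨e, fun l hl => hsemi l (hLle hl), hLdvd.trans hdvd, hcases, fun h2' => ?_, fun h5 h2' => ?_⟩
    · rcases hcases with h3 | ⟨h5, -⟩
      · left
        rw [hL2 h2']
        subst h2' h3
        norm_num at hcount
        rw [show Nat.card S = 7 by omega, show (2 : ℕ) - 1 = 1 from rfl, mul_one] at hSdvd
        exact hSdvd
      · exact Or.inr h5
    · rw [hL2 h2']
      subst h2' h5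
      norm_num at hcount
      rw [show Nat.card S = 155 by omega, show (2 : ℕ) - 1 = 1 from rfl, mul_one] at hSdvd
      exact hSdvd
  · exfalso
    rw [hV] at hexc
    obtain ⟨hp3, hn4⟩ := exc_num hp hn hexc
    subst hp3
    subst hn4
    norm_num at hcount hV
    rw [show Nat.card S = 130 by omega] at hSdvd
    let ι : ρ.range →* Module.End (ZMod 3) V :=
      { toFun := fun g => ((g : V ≃ₗ[ZMod 3] V) : V →ₗ[ZMod 3] V)
        map_one' := rfl
        map_mul' := fun g h => rfl }
    have hgl := Cfsg.Lib.Recog.SolvTrans.card_dvd_gl (ι := ι)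
      (fun g h e => Subtype.ext (LinearEquiv.toLinearMap_injective e)) hfr
    have hgl' : Nat.card ρ.range ∣ 24261120 := by
      simpa [Fin.prod_univ_four] using hgl
    have h40 : 5 ∣ Nat.card ρ.range := (Dvd.intro 52 (by norm_num) : 5 ∣ 130 * (3 - 1)).trans hSdvd
    have h13 : 13 ∣ Nat.card ρ.range := (Dvd.intro 20 (by norm_num) : 13 ∣ 130 * (3 - 1)).trans hSdvd
    obtain ⟨k, hk⟩ : 65 ∣ Nat.card ρ.range := Nat.Coprime.mul_dvd_of_dvd_of_dvd (by norm_num : Nat.Coprime 5 13) h40 h13
    have hkco : Nat.Coprime 65 k := by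
      rw [hk] at hgl'
      have hk' : k ∣ 373248 := Nat.dvd_of_mul_dvd_mul_left (by norm_num : 0 < 65) (by simpa using hgl')
      exact Nat.Coprime.coprime_dvd_right hk' (by norm_num)
    obtain ⟨H, hH, -⟩ := Cfsg.Lib.Solv.hall_main (Nat.card ρ.range) ρ.range le_rfl 65 k hk hkco
    haveI : Fact (Nat.Prime 5) := ⟨Nat.prime_five⟩
    haveI : Fact (Nat.Prime 13) := ⟨by norm_num⟩
    have hsyl : ∀ r : ℕ, ∀ _ : Fact r.Prime, r = 5 ∨ r = 13 → ∀ P : Sylow r H, (P : Subgroup H).Normal := by
      intro r hr hr' P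
      have h1 := card_sylow_modEq_one r H
      have h2 := P.card_dvd_index
      have h3 : (P : Subgroup H).index ∣ Nat.card H := (P : Subgroup H).index_dvd_card
      have h4 : Nat.card (Sylow r H) ∣ 65 := hH ▸ h2.trans h3
      have h5 : Nat.card (Sylow r H) = 1 := by
        have : Nat.card (Sylow r H) ∈ Nat.divisors 65 := Nat.mem_divisors.2 ⟨h4, by norm_num⟩
        rw [show Nat.divisors 65 = ({1, 5, 13, 65} : Finset ℕ) by decide] at this
        unfold Nat.ModEq at h1
        simp only [Finset.mem_insert, Finset.mem_singleton] at this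
        rcases hr' with rfl | rfl <;> rcases this with e | e | e | e <;> rw [e] at h1 <;> simp_all
      haveI : Subsingleton (Sylow r H) := (Nat.card_eq_one_iff_unique.1 h5).1
      exact P.normal_of_subsingleton
    obtain ⟨x, hx⟩ := exists_prime_orderOf_dvd_card' (G := H) 5 (by rw [hH]; norm_num)
    obtain ⟨h, hh⟩ := exists_prime_orderOf_dvd_card' (G := H) 13 (by rw [hH]; norm_num)
    obtain ⟨P, hP⟩ := (IsPGroup.of_card (n := 1) (by rw [Nat.card_zpowers, hx, pow_one]) :
      IsPGroup 5 (Subgroup.zpowers x)).exists_le_sylow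
    obtain ⟨Q, hQ⟩ := (IsPGroup.of_card (n := 1) (by rw [Nat.card_zpowers, hh, pow_one]) :
      IsPGroup 13 (Subgroup.zpowers h)).exists_le_sylow
    have hxh : Commute x h := Subgroup.commute_of_normal_of_disjoint _ _ (hsyl 5 inferInstance (Or.inl rfl) P)
      (hsyl 13 inferInstance (Or.inr rfl) Q)
      (IsPGroup.disjoint_of_ne 5 13 (by norm_num) _ _ P.2 Q.2) x h
      (hP (Subgroup.mem_zpowers x)) (hQ (Subgroup.mem_zpowers h))
    have hinj : Function.Injective (fun y : H => ((y : ρ.range) : V ≃ₗ[ZMod 3] V)) :=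
      Subtype.coe_injective.comp Subtype.coe_injective
    refine no_sixty_five hV ((x : ρ.range) : V ≃ₗ[ZMod 3] V) ((h : ρ.range) : V ≃ₗ[ZMod 3] V) ?_ ?_
      (congrArg (fun y : H => ((y : ρ.range) : V ≃ₗ[ZMod 3] V)) hxh.eq)
    · exact (orderOf_injective ((ρ.range.subtype).comp H.subtype) hinj x).trans hx
    · exact (orderOf_injective ((ρ.range.subtype).comp H.subtype) hinj h).trans hh

end Core

/-- Let p be a prime and G a finite group in which any two p-subgroups of the same order are conjugate, and suppose a Sylow p-subgroup P of G is elementary abelian of order pⁿ with n ≥ 3. Let N be the normalizer of P and K the largest normal subgroup of N of order prime to p, and assume N/K is solvable. Then either n = 3 and N/K embeds in the one-dimensional semi-affine group over the field with p³ elements (and for p = 2 it is isomorphic to the affine or the semi-affine group over the field with 8 elements), or n = 5, p = 2 and N/K is isomorphic to the one-dimensional semi-affine group over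 the field with 32 elements. -/
theorem result {G : Type*} [Group G] [Finite G]
    {p : ℕ} [Fact p.Prime] (hC : ∀ H K : Subgroup G, IsPGroup p H → IsPGroup p K → Nat.card H = Nat.card K →
      ∃ g : G, K = H.map (MulAut.conj g).toMonoidHom) (P : Sylow p G) (n : ℕ) (hn : 3 ≤ n)
    (hel : Cfsg.IsElementaryAbelian p (P : Subgroup G)) (hcard : Nat.card P = p ^ n)
    (N : Subgroup G) (hN : N = Subgroup.normalizer ((P : Subgroup G) : Set G))
    (hsolv : Group.IsSolvable (↥N ⧸ Cfsg.pPrimeCore p ↥N)) :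
    (n = 3 ∧ (∃ f : ↥N ⧸ Cfsg.pPrimeCore p ↥N →* ↥(Cfsg.semiaffineGroup (GaloisField p 3)), Function.Injective f) ∧
      (p = 2 → Nonempty (↥N ⧸ Cfsg.pPrimeCore p ↥N ≃* Cfsg.semiaffineGroup (GaloisField 2 3)) ∨
               Nonempty (↥N ⧸ Cfsg.pPrimeCore p ↥N ≃* Cfsg.affineGroup (GaloisField 2 3)))) ∨
    (n = 5 ∧ p = 2 ∧ Nonempty (↥N ⧸ Cfsg.pPrimeCore p ↥N ≃* Cfsg.semiaffineGroup (GaloisField 2 5))) := by
  classical
  subst hN
  have hp : p.Prime := Fact.out
  set Ps : Subgroup G := (P : Subgroup G) with hPs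
  set N : Subgroup G := Subgroup.normalizer (Ps : Set G) with hNdef
  haveI hPc : IsMulCommutative Ps := hel.1
  have hPN : Ps ≤ N := Subgroup.le_normalizer
  haveI : (Ps.subgroupOf N).Normal := Subgroup.normal_subgroupOf_iff_le_normalizer hPN |>.2 le_rfl
  set U : Subgroup N := Ps.subgroupOf N with hUdef
  have hcU : Nat.card U = p ^ n := by
    rw [Nat.card_congr (Subgroup.subgroupOfEquivOfLe hPN).toEquiv]; exact hcard
  have hUind : ¬ p ∣ U.index := fun h => P.not_dvd_index (h.trans (Subgroup.relIndex_dvd_index_of_le hPN))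
  have hco : Nat.Coprime (Nat.card U) U.index := by
    rw [hcU]; exact Nat.Coprime.pow_left n ((hp.coprime_iff_not_dvd).2 hUind)
  obtain ⟨L₀, hL₀⟩ := Subgroup.exists_right_complement'_of_coprime hco
  have hL₀ind : U.index = Nat.card L₀ := hL₀.symm.index_eq_card
  -- the module
  letI : CommGroup U :=
    { (inferInstance : Group U) with
      mul_comm := fun a b => Subtype.ext (Subtype.ext
        (setLike_mul_comm (s := Ps) (show ((a : N) : G) ∈ Ps from a.2) b.2)) }
  obtain ⟨iM⟩ : Nonempty (Module (ZMod p) (Additive U)) := ⟨AddCommGroup.zmodModule fun x => by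
    apply Additive.toMul.injective
    exact Subtype.ext (Subtype.ext (hel.2 _ x.toMul.2))⟩
  haveI : Finite (Additive U) := Finite.of_equiv U Additive.ofMul
  have hV : Nat.card (Additive U) = p ^ n := hcU
  let act₀ : N → (Additive U ≃ₗ[ZMod p] Additive U) := fun g =>
    { (MulEquiv.toAdditive (MulAut.conjNormal (H := U) g)) with
      map_smul' := fun c v => ZMod.map_smul
        ((MulEquiv.toAdditive (MulAut.conjNormal (H := U) g)).toAddMonoidHom) c v }
  let act : N →* (Additive U ≃ₗ[ZMod p] Additive U) :=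
    { toFun := act₀
      map_one' := LinearEquiv.ext fun v => Subtype.ext (by
        show ((MulAut.conjNormal (1 : N) (v.toMul : U) : U) : N) = ((v.toMul : U) : N)
        rw [map_one]; rfl)
      map_mul' := fun g h => LinearEquiv.ext fun v => Subtype.ext (by
        show ((MulAut.conjNormal (g * h) (v.toMul : U) : U) : N) =
          ((MulAut.conjNormal g (MulAut.conjNormal h (v.toMul : U)) : U) : N)
        rw [map_mul]; rfl) }
  have hact : ∀ (g : N) (v : Additive U), (((act g v).toMul : U) : N) = g * (v.toMul : U) * g⁻¹ :=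
    fun g v => MulAut.conjNormal_apply g v.toMul
  set K : Subgroup N := Cfsg.pPrimeCore p N with hKdef
  haveI hKn : K.Normal := inferInstance
  have hKco : (Nat.card K).Coprime p := Cfsg.Lib.Core.pPrimeCore_coprime p N
  have hdisj : Disjoint U K := by
    rw [disjoint_iff]
    refine Subgroup.card_eq_one.1 (Nat.eq_one_of_dvd_coprimes (k := Nat.card (U ⊓ K : Subgroup N))
      (Nat.Coprime.pow_right n hKco) (Subgroup.card_dvd_of_le inf_le_right) ?_)
    rw [← hcU]; exact Subgroup.card_dvd_of_le inf_le_left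
  have hKker : K ≤ act.ker := fun k hk => LinearEquiv.ext fun v => by
    apply Additive.toMul.injective
    refine Subtype.ext ((hact k v).trans ?_)
    rw [← (Subgroup.commute_of_normal_of_disjoint U K inferInstance hKn hdisj _ _ v.toMul.2 hk).eq,
      mul_inv_cancel_right]
    rfl
  haveI : Group.IsSolvable (N ⧸ K) := hsolv
  haveI : Group.IsSolvable act.range := by
    refine Group.isSolvable_of_surjective (f := (QuotientGroup.lift K act.rangeRestrict
      (fun k hk => Subtype.ext (hKker hk)))) ?_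
    intro x
    obtain ⟨g, rfl⟩ := act.rangeRestrict_surjective x
    exact ⟨QuotientGroup.mk g, rfl⟩
  -- fusion of subgroups of the Sylow subgroup
  have hfus : ∀ A B : Subgroup G, A ≤ Ps → B ≤ Ps → Nat.card A = Nat.card B →
      ∃ g ∈ N, ∀ a ∈ A, g * a * g⁻¹ ∈ B := by
    intro A B hA hB hAB
    obtain ⟨g, hg⟩ := hC A B (P.2.to_le hA) (P.2.to_le hB) hAB
    have hgA : ∀ a ∈ A, g * a * g⁻¹ ∈ B := fun a ha => hg ▸ ⟨a, ha, rfl⟩
    -- two Sylow subgroups of the centralizer of `B`
    set C : Subgroup G := Subgroup.centralizer (B : Set G) with hCdef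
    have h1 : Ps ≤ C := fun x hx b hb => setLike_mul_comm (s := Ps) (hB hb) hx
    have h2 : ((g • P : Sylow p G) : Subgroup G) ≤ C := by
      rintro x hx b hb
      rw [Sylow.coe_subgroup_smul, Subgroup.mem_pointwise_smul_iff_inv_smul_mem] at hx
      obtain ⟨a, ha, rfl⟩ := hg ▸ hb
      have hc := setLike_mul_comm (s := Ps) (hA ha) hx
      simp only [MulAut.smul_def, ← map_inv, MulAut.conj_apply, inv_inv] at hc
      show g * a * g⁻¹ * x = x * (g * a * g⁻¹)
      calc g * a * g⁻¹ * x = g * (a * (g⁻¹ * x * g)) * g⁻¹ := by group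
        _ = g * (g⁻¹ * x * g * a) * g⁻¹ := by rw [hc]
        _ = x * (g * a * g⁻¹) := by group
    obtain ⟨c, hc⟩ := MulAction.exists_smul_eq C ((g • P).subtype h2) (P.subtype h1)
    have hcP : ((c : G) * g) • P = P := by
      apply Sylow.ext
      have hc' := congrArg (fun S : Sylow p C => (S : Subgroup C).map C.subtype) hc
      simp only [Sylow.coe_subgroup_smul, Sylow.coe_subtype, Subgroup.subgroupOf_map_subtype] at hc' ⊢
      rw [map_mul, mul_smul]
      rw [inf_eq_left.2 h1] at hc'
      refine Eq.trans ?_ hc'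
      ext x
      simp only [Subgroup.mem_pointwise_smul_iff_inv_smul_mem, Subgroup.mem_map, MulAut.smul_def,
        ← map_inv, MulAut.conj_apply, inv_inv, Subgroup.coe_subtype, Subgroup.mem_subgroupOf]
      constructor
      · intro hx
        have hxC : (c : G)⁻¹ * x * c ∈ C := h2 (by
          rw [Sylow.coe_subgroup_smul, Subgroup.mem_pointwise_smul_iff_inv_smul_mem]
          simpa [MulAut.smul_def, ← map_inv, mul_assoc] using hx)
        refine ⟨⟨x, ?_⟩, hx, rfl⟩
        have := C.mul_mem (C.mul_mem c.2 hxC) (C.inv_mem c.2)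
        simpa [mul_assoc] using this
      · rintro ⟨y, hy, rfl⟩
        exact hy
    refine ⟨c * g, Sylow.smul_eq_iff_mem_normalizer.1 hcP, fun a ha => ?_⟩
    have hb := hgA a ha
    have hcb : (g * a * g⁻¹) * c = c * (g * a * g⁻¹) := c.2 _ hb
    have : (c : G) * g * a * (c * g)⁻¹ = g * a * g⁻¹ := by
      calc (c : G) * g * a * (c * g)⁻¹ = c * (g * a * g⁻¹) * (c : G)⁻¹ := by group
        _ = g * a * g⁻¹ := by rw [← hcb, mul_inv_cancel_right]
    rw [this]; exact hb
  have htr : ∀ k, k = 1 ∨ k = 2 → ∀ W W' : Submodule (ZMod p) (Additive U), Module.finrank (ZMod p) W = k →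
      Module.finrank (ZMod p) W' = k →
      ∃ l ∈ act.range, ∀ v ∈ W, (l : Additive U ≃ₗ[ZMod p] Additive U) v ∈ W' := by
    intro k _ W W' hW hW'
    let toG : Submodule (ZMod p) (Additive U) → Subgroup G := fun W =>
      ((AddSubgroup.toSubgroup' W.toAddSubgroup).map U.subtype).map N.subtype
    have hle : ∀ W, toG W ≤ Ps := by rintro W _ ⟨_, ⟨y, -, rfl⟩, rfl⟩; exact y.2
    have hcd : ∀ W, Nat.card (toG W) = p ^ Module.finrank (ZMod p) W := fun W => by
      rw [Subgroup.card_map_of_injective N.subtype_injective, Subgroup.card_map_of_injective U.subtype_injective]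
      rw [show Nat.card (AddSubgroup.toSubgroup' W.toAddSubgroup) = Nat.card W from rfl,
        Module.natCard_eq_pow_finrank (K := ZMod p), Nat.card_zmod]
    obtain ⟨g, hg, hgW⟩ := hfus (toG W) (toG W') (hle W) (hle W') (by rw [hcd, hcd, hW, hW'])
    refine ⟨act ⟨g, hg⟩, ⟨_, rfl⟩, fun v hv => ?_⟩
    obtain ⟨_, ⟨y, hy, rfl⟩, hy'⟩ := hgW _ ⟨_, ⟨v.toMul, hv, rfl⟩, rfl⟩
    have : act ⟨g, hg⟩ v = Additive.ofMul y := by
      apply Additive.toMul.injective
      refine Subtype.ext ((hact _ _).trans (Subtype.ext ?_))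
      exact hy'.symm
    rw [this]; exact hy
  obtain ⟨e, hsemi, hdvd, hcases, h7, h155⟩ := core act.range n hn hV htr
  -- the permutation action
  let F := GaloisField p n
  haveI : Fintype F := Fintype.ofFinite _
  let ε₀ : U → N ⧸ L₀ := fun u => QuotientGroup.mk (u : N)
  have hε₀ : Function.Bijective ε₀ := by
    rw [Nat.bijective_iff_injective_and_card]
    refine ⟨fun a b hab => ?_, ?_⟩
    · have h1 := QuotientGroup.eq.1 hab
      have h2 : ((a : N)⁻¹ * b) ∈ U := U.mul_mem (U.inv_mem a.2) b.2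
      have h3 := (Subgroup.disjoint_def.1 hL₀.disjoint) h2 h1
      exact Subtype.ext (inv_mul_eq_one.1 h3)
    · rw [← Subgroup.index_eq_card, hL₀.index_eq_card]
  let ε : F ≃ N ⧸ L₀ := (e.symm.toEquiv.trans Additive.toMul).trans (Equiv.ofBijective ε₀ hε₀)
  let f : N →* Equiv.Perm F := (ε.symm.permCongrHom.toMonoidHom).comp (MulAction.toPermHom N (N ⧸ L₀))
  have hf : ∀ (g : N) (x : F), f g x = ε.symm (g • ε x) := fun g x => rfl
  have hfl : ∀ l ∈ L₀, ∀ x : F, f l x = e (act l (e.symm x)) := by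
    intro l hl x
    rw [hf, Equiv.symm_apply_eq]
    show QuotientGroup.mk (l * ((e.symm x).toMul : U)) =
      QuotientGroup.mk ((((e.symm (e (act l (e.symm x)))).toMul : U)) : N)
    rw [AddEquiv.symm_apply_apply, hact, QuotientGroup.eq]
    simpa [mul_assoc] using L₀.inv_mem hl
  have hfu : ∀ (u : U) (x : F), f (u : N) x = e (Additive.ofMul u) + x := by
    intro u x
    rw [hf, Equiv.symm_apply_eq]
    show QuotientGroup.mk ((u : N) * ((e.symm x).toMul : U)) =
      QuotientGroup.mk ((((e.symm (e (Additive.ofMul u) + x)).toMul : U)) : N)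
    rw [map_add, AddEquiv.symm_apply_apply]
    rfl
  have hdec : ∀ g : N, ∃ (u : U) (l : L₀), g = (u : N) * l := fun g => by
    obtain ⟨⟨u, l⟩, rfl⟩ := hL₀.surjective g; exact ⟨u, l, rfl⟩
  have hfsemi : ∀ g : N, f g ∈ Cfsg.semiaffineGroup F := by
    intro g
    obtain ⟨u, l, rfl⟩ := hdec g
    obtain ⟨a, σ, h⟩ := hsemi (act (l : N)) ⟨_, rfl⟩
    refine ⟨a, e (Additive.ofMul u), σ, fun x => ?_⟩
    rw [map_mul, Equiv.Perm.mul_apply, hfl _ l.2, hfu, h, AddEquiv.apply_symm_apply, add_comm]
  have hker : f.ker = K := by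
    have h1 : f.ker = L₀.normalCore := by
      rw [Subgroup.normalCore_eq_ker]
      ext g
      simp only [MonoidHom.mem_ker, f, MonoidHom.comp_apply, MulEquiv.coe_toMonoidHom, map_eq_one_iff _
        (MulEquiv.injective _)]
    rw [h1]
    apply le_antisymm
    · refine Cfsg.Lib.Core.le_pPrimeCore (Nat.Coprime.coprime_dvd_left
        (Subgroup.card_dvd_of_le L₀.normalCore_le) ?_)
      rw [← hL₀ind]
      exact ((hp.coprime_iff_not_dvd).2 hUind).symm
    · refine Subgroup.normal_le_normalCore.2 fun k hk => ?_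
      obtain ⟨u, l, rfl⟩ := hdec k
      -- `K L₀` has order prime to `p`
      have hKL : (Nat.card (L₀ ⊔ K : Subgroup N)).Coprime p := Cfsg.Lib.Core.coprime_card_sup
        (by rw [← hL₀ind]; exact ((hp.coprime_iff_not_dvd).2 hUind).symm) hKco
      have hu : (u : N) ∈ (L₀ ⊔ K : Subgroup N) ⊓ U := by
        refine ⟨?_, u.2⟩
        have := (L₀ ⊔ K).mul_mem (Subgroup.mem_sup_right hk) ((L₀ ⊔ K).inv_mem (Subgroup.mem_sup_left l.2))
        simpa using this
      have h0 : (L₀ ⊔ K : Subgroup N) ⊓ U = ⊥ := by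
        refine Subgroup.card_eq_one.1 (Nat.eq_one_of_dvd_coprimes (Nat.Coprime.pow_right n hKL)
          (Subgroup.card_dvd_of_le inf_le_left) ?_)
        rw [← hcU]; exact Subgroup.card_dvd_of_le inf_le_right
      rw [h0, Subgroup.mem_bot] at hu
      rw [hu, one_mul]; exact l.2
  let fs : N →* Cfsg.semiaffineGroup F := f.codRestrict _ hfsemi
  have hks : fs.ker = K := by rw [MonoidHom.ker_codRestrict, hker]
  let fq : N ⧸ K →* Cfsg.semiaffineGroup F := QuotientGroup.lift K fs hks.ge
  have hfq : Function.Injective fq := by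
    rw [← MonoidHom.ker_eq_bot_iff, QuotientGroup.ker_lift, hks, QuotientGroup.map_mk'_self]
  -- the order of the quotient
  have hactker : L₀ ⊓ act.ker ≤ K := by
    refine le_of_le_of_eq (fun g hg => ?_) hker
    refine Equiv.ext fun x => ?_
    rw [hfl g hg.1, MonoidHom.mem_ker.1 hg.2]
    exact e.apply_symm_apply x
  have hQcard : Nat.card (N ⧸ K) = p ^ n * Nat.card act.range := by
    let rL : L₀ →* act.range := act.rangeRestrict.comp L₀.subtype
    have hrs : Function.Surjective rL := by
      intro x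
      obtain ⟨g, rfl⟩ := act.rangeRestrict_surjective x
      obtain ⟨u, l, rfl⟩ := hdec g
      refine ⟨l, Subtype.ext ?_⟩
      show act (l : N) = act ((u : N) * l)
      rw [map_mul]
      have : act (u : N) = 1 := LinearEquiv.ext fun v => by
        apply Additive.toMul.injective
        refine Subtype.ext ((hact _ v).trans (Subtype.ext ?_))
        show ((u : N) : G) * ((v.toMul : U) : N) * ((u : N) : G)⁻¹ = ((v.toMul : U) : N)
        exact mul_inv_eq_iff_eq_mul.2 (setLike_mul_comm (s := Ps) u.2 v.toMul.2)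
      rw [this, one_mul]
    have hrk : rL.ker = K.subgroupOf L₀ := by
      ext l
      rw [MonoidHom.mem_ker, Subgroup.mem_subgroupOf]
      refine ⟨fun h => hactker ⟨l.2, congrArg Subtype.val h⟩, fun h => Subtype.ext (hKker h)⟩
    have hKL₀ : K ≤ L₀ := by
      intro k hk
      have : k ∈ L₀.normalCore := by
        have h1 : f.ker = L₀.normalCore := by
          rw [Subgroup.normalCore_eq_ker]
          ext g
          simp only [MonoidHom.mem_ker, f, MonoidHom.comp_apply, MulEquiv.coe_toMonoidHom, map_eq_one_iff _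
            (MulEquiv.injective _)]
        rw [← h1, hker]; exact hk
      exact L₀.normalCore_le this
    have h1 := Subgroup.card_eq_card_quotient_mul_card_subgroup K
    have h2 := Subgroup.card_eq_card_quotient_mul_card_subgroup rL.ker
    have h3 : Nat.card (L₀ ⧸ rL.ker) = Nat.card act.range :=
      Nat.card_congr (QuotientGroup.quotientKerEquivOfSurjective rL hrs).toEquiv
    rw [h3, hrk, Nat.card_congr (Subgroup.subgroupOfEquivOfLe hKL₀).toEquiv] at h2
    have h4 : Nat.card N = p ^ n * Nat.card L₀ := by rw [← hL₀.card_mul, hcU]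
    rw [h4, h2, ← mul_assoc] at h1
    exact (Nat.eq_of_mul_eq_mul_right Nat.card_pos h1).symm
  have hFc : Nat.card F = p ^ n := GaloisField.card p n (by omega)
  have hsac : Nat.card (Cfsg.semiaffineGroup F) = (p ^ n - 1) * p ^ n * n := by
    rw [card_semiaffine, Nat.card_units, hFc, card_ringAut p n (by omega)]
  rcases hcases with h3 | ⟨h5, h2⟩
  · subst h3
    refine Or.inl ⟨rfl, ⟨fq, hfq⟩, fun h2 => ?_⟩
    subst h2
    have h7' : 7 ∣ Nat.card act.range := (h7 rfl).resolve_right (by norm_num)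
    obtain ⟨m, hm⟩ := h7'
    have hm3 : m ∣ 3 := by
      rw [show ((2 : ℕ) ^ 3 - 1) * 3 = 7 * 3 by norm_num, hm] at hdvd
      exact Nat.dvd_of_mul_dvd_mul_left (by norm_num : 0 < 7) hdvd
    rcases (Nat.dvd_prime Nat.prime_three).1 hm3 with rfl | rfl
    · right
      have haff : ∀ x, (fq x : Equiv.Perm F) ∈ Cfsg.affineGroup F := by
        rintro ⟨g⟩
        obtain ⟨u, l, rfl⟩ := hdec g
        obtain ⟨a, σ, h⟩ := hsemi (act (l : N)) ⟨_, rfl⟩
        have hσ7 : (act (l : N)) ^ 7 = 1 := by
          have := congrArg Subtype.val (pow_card_eq_one' (x := (⟨act (l : N), _, rfl⟩ : act.range)))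
          rw [hm, mul_one] at this
          exact this
        have hpow : ∀ k : ℕ, ∃ c : F, ∀ v, e ((act (l : N) ^ k) v) = c * (σ ^ k : RingAut F) (e v) := by
          intro k
          induction k with
          | zero => exact ⟨1, fun v => by rw [one_mul]; rfl⟩
          | succ k ih =>
            obtain ⟨c, hc⟩ := ih
            refine ⟨c * (σ ^ k : RingAut F) a, fun v => ?_⟩
            rw [pow_succ, pow_succ]
            show e ((act (l : N) ^ k) (act (l : N) v)) = _ * (σ ^ k : RingAut F) (σ (e v))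
            rw [hc, h, map_mul, mul_assoc]
        obtain ⟨c, hc⟩ := hpow 7
        rw [hσ7] at hc
        have hc1 : c = 1 := by
          have := hc (e.symm 1)
          simpa using this.symm
        have hσ : (σ : RingAut F) ^ 7 = 1 := RingEquiv.ext fun x => by
          have := hc (e.symm x)
          rw [hc1, one_mul, AddEquiv.apply_symm_apply] at this
          exact this.symm.trans (e.apply_symm_apply x)
        have hσ3 : (σ : RingAut F) ^ 3 = 1 := by
          have h3 : Nat.card (RingAut F) = 3 := card_ringAut 2 3 (by norm_num)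
          have hpw := pow_card_eq_one' (x := (σ : RingAut F))
          rwa [h3] at hpw
        have hσ1 : (σ : RingAut F) = 1 := by
          have := pow_gcd_eq_one.2 ⟨hσ, hσ3⟩
          simpa using this
        refine ⟨a, e (Additive.ofMul u), fun x => ?_⟩
        show f ((u : N) * l) x = _
        rw [map_mul, Equiv.Perm.mul_apply, hfl _ l.2, hfu, h, AddEquiv.apply_symm_apply, add_comm]
        rw [show σ x = x from congrArg (fun τ : RingAut F => τ x) hσ1]
      let fa : ↥N ⧸ K →* Cfsg.affineGroup F :=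
        ((Cfsg.semiaffineGroup F).subtype.comp fq).codRestrict _ haff
      have hfa : Function.Injective fa := fun x y hxy => hfq (Subtype.ext (congrArg Subtype.val hxy :))
      have hac : Nat.card (Cfsg.affineGroup F) ≤ 56 := by
        have hsurj : Function.Surjective (fun t : Fˣ × F =>
            (⟨(Equiv.mulLeft₀ (t.1 : F) t.1.ne_zero).trans (Equiv.addRight t.2), t.1, t.2, fun x => rfl⟩ :
              Cfsg.affineGroup F)) := by
          rintro ⟨σ, a, b, hσ⟩
          exact ⟨(a, b), Subtype.ext (Equiv.ext fun x => (hσ x).symm)⟩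
        have := Nat.card_le_card_of_surjective _ hsurj
        rw [Nat.card_prod, Nat.card_units, hFc] at this
        simpa using this
      refine ⟨MulEquiv.ofBijective fa ((Nat.bijective_iff_injective_and_card fa).2 ⟨hfa, ?_⟩)⟩
      refine le_antisymm (Nat.card_le_card_of_injective fa hfa) (hac.trans ?_)
      rw [hQcard, hm]; norm_num
    · left
      refine ⟨MulEquiv.ofBijective fq ((Nat.bijective_iff_injective_and_card fq).2 ⟨hfq, ?_⟩)⟩
      rw [hQcard, hm, hsac]; norm_num
  · subst h5 h2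
    refine Or.inr ⟨rfl, rfl, ⟨MulEquiv.ofBijective fq ((Nat.bijective_iff_injective_and_card fq).2 ⟨hfq, ?_⟩)⟩⟩
    rw [hQcard, hsac]
    have h1 := h155 rfl rfl
    rw [show ((2 : ℕ) ^ 5 - 1) * 5 = 155 by norm_num] at hdvd
    rw [Nat.dvd_antisymm hdvd h1]
    norm_num


end Cfsg.Agent.S4025
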