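import Cfsg.Statements.S2879
import Cfsg.Agent.Lib.Core.PSolvable
import Cfsg.Agent.Lib.Core.Cores
import Cfsg.Agent.Lib.TwoGroup.QuasiDihedral
-- import your own Cfsg.Agent.* helpers here

set_option autoImplicit false
open Cfsg

namespace Cfsg.Agent.S2879

open Subgroup

section
variable {G : Type*} [Group G]

theorem mem_of_pow_mem {H : Subgroup G} {g : G} {n p : ℕ} (hg : g ^ p = 1) (hc : n.Coprime p)
    (hn : g ^ n ∈ H) : g ∈ H := by
  have e := Nat.gcd_eq_gcd_ab n p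
  rw [Nat.coprime_iff_gcd_eq_one.1 hc, Nat.cast_one] at e
  rw [← zpow_one g, e, zpow_add, zpow_mul, zpow_mul, zpow_natCast, zpow_natCast, hg, one_zpow, mul_one]
  exact zpow_mem hn _

theorem pow_eq_one_iff_of_coprime' {g : G} {m n : ℕ} (hm : g ^ m = 1) (hn : g ^ n = 1)
    (hc : m.Coprime n) : g = 1 :=
  orderOf_eq_one_iff.1 (Nat.eq_one_of_dvd_coprimes hc (orderOf_dvd_of_pow_eq_one hm)
    (orderOf_dvd_of_pow_eq_one hn))

/-- An element of odd prime order which moves `k` by a fixed `2`-element fixes `k`. -/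
theorem fix_of {p : ℕ} (hp : p.Prime) (hp2 : p ≠ 2) {g k d : G} (hg : g ^ p = 1)
    (hk : g * k * g⁻¹ = d * k) (hd : g * d * g⁻¹ = d) {e : ℕ} (he : d ^ 2 ^ e = 1) : d = 1 := by
  have key : ∀ n : ℕ, g ^ n * k * (g ^ n)⁻¹ = d ^ n * k := by
    intro n
    induction n with
    | zero => simp
    | succ n ih =>
      calc g ^ (n + 1) * k * (g ^ (n + 1))⁻¹ = g * (g ^ n * k * (g ^ n)⁻¹) * g⁻¹ := by
            rw [pow_succ']; group
        _ = (g * d * g⁻¹) ^ n * (g * k * g⁻¹) := by rw [ih, conj_pow]; group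
        _ = d ^ (n + 1) * k := by rw [hd, hk, pow_succ, mul_assoc]
  have h1 := key p
  rw [hg, inv_one, mul_one, one_mul, right_eq_mul] at h1
  exact pow_eq_one_iff_of_coprime' h1 he
    (Nat.Coprime.pow_right e ((Nat.coprime_primes hp Nat.prime_two).2 hp2))

theorem cyclic_fixed {p : ℕ} (hp : p.Prime) (hp2 : p ≠ 2) {g : G} (hg : g ^ p = 1) :
    ∀ (e : ℕ) (k : G), k ^ 2 ^ e = 1 → g * k * g⁻¹ ∈ zpowers k → g * k * g⁻¹ = k := by
  intro e
  induction e with
  | zero => intro k hk _; simp at hk; simp [hk]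
  | succ e ih =>
    intro k hk hmem
    obtain ⟨i, hi⟩ := mem_zpowers_iff.1 hmem
    have h2 : g * (k * k) * g⁻¹ = k * k := by
      refine ih _ ?_ (mem_zpowers_iff.2 ⟨i, ?_⟩)
      · rw [← pow_two, ← pow_mul, ← pow_succ', hk]
      · rw [← conj_mul, ← hi, (Commute.refl k).mul_zpow]
    set d := k ^ (i - 1) with hd
    have hdk : g * k * g⁻¹ = d * k := by rw [← hi, hd, ← zpow_add_one, sub_add_cancel]
    have hd2 : d * d = 1 := by
      have : k ^ i * k ^ i = k * k := by rw [hi, conj_mul, h2]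
      rw [hd, zpow_sub_one, mul_assoc, ← mul_assoc k⁻¹, (Commute.refl k).inv_left.zpow_right i |>.eq,
        mul_assoc (k ^ i) k⁻¹, ← mul_assoc, this]
      group
    have hdi : g * d * g⁻¹ = d ^ i := by
      rw [hd, ← conj_zpow, ← hi, ← zpow_mul, ← zpow_mul, mul_comm]
    have hdd : g * d * g⁻¹ = d := by
      have hsq : d ^ (2 : ℤ) = 1 := by rw [zpow_two, hd2]
      rcases Int.even_or_odd' i with ⟨j, rfl | rfl⟩
      · rw [zpow_mul, hsq, one_zpow] at hdi
        rw [conj_eq_one_iff.1 hdi]; group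
      · rwa [zpow_add_one, zpow_mul, hsq, one_zpow, one_mul] at hdi
    rw [hdk, fix_of hp hp2 hg hdk hdd (e := 1) (by rw [pow_one, pow_two, hd2]), one_mul]

theorem eq_of_involutions [Finite G] {c x y : G} (hx : x ∈ zpowers c) (hy : y ∈ zpowers c)
    (hx2 : x * x = 1) (hy2 : y * y = 1) (hx1 : x ≠ 1) (hy1 : y ≠ 1) : x = y := by
  obtain ⟨i, rfl⟩ := mem_zpowers_iff.1 hx
  obtain ⟨j, rfl⟩ := mem_zpowers_iff.1 hy
  rw [← zpow_add, ← orderOf_dvd_iff_zpow_eq_one] at hx2 hy2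
  rw [ne_eq, ← orderOf_dvd_iff_zpow_eq_one] at hx1 hy1
  rw [← orderOf_dvd_sub_iff_zpow_eq_zpow]
  obtain ⟨s, hs⟩ := hx2
  obtain ⟨t, ht⟩ := hy2
  rcases Int.even_or_odd' s with ⟨s', rfl | rfl⟩
  · exact absurd ⟨s', by linarith⟩ hx1
  rcases Int.even_or_odd' t with ⟨t', rfl | rfl⟩
  · exact absurd ⟨t', by linarith⟩ hy1
  exact ⟨s' - t', by linarith⟩

/-- The cyclic subgroup of index two of a dihedral or semidihedral group. -/
theorem twoGroup_facts [Finite G] (T : Subgroup G)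
    (hT : (∃ n : ℕ, 4 ≤ n ∧ Nonempty (↥T ≃* DihedralGroup n)) ∨ Cfsg.IsQuasiDihedral ↥T) :
    ∃ c ∈ T, (∀ s ∈ T, s ∉ zpowers c → s ^ 4 = 1) ∧
      (∀ s ∈ T, ∀ t ∈ T, s ∉ zpowers c → t ∉ zpowers c → s * t ∈ zpowers c) ∧
      ∃ s ∈ T, s * c ≠ c * s := by
  suffices h : ∃ c : T, (∀ s : T, s ∉ zpowers c → s ^ 4 = 1) ∧
      (∀ s t : T, s ∉ zpowers c → t ∉ zpowers c → s * t ∈ zpowers c) ∧
      ∃ s : T, s * c ≠ c * s by
    obtain ⟨c, h1, h2, s, hs⟩ := h
    have hmem : ∀ w : T, (w : G) ∈ zpowers (c : G) ↔ w ∈ zpowers c := fun w => by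
      simp only [mem_zpowers_iff, Subtype.ext_iff, coe_zpow]
    refine ⟨c, c.2, fun t ht htc => congrArg Subtype.val (h1 ⟨t, ht⟩ ?_),
      fun t ht u hu htc huc => (hmem (⟨t, ht⟩ * ⟨u, hu⟩)).2 (h2 _ _ ?_ ?_),
      s, s.2, fun h => hs (Subtype.ext h)⟩
    · exact fun h => htc ((hmem ⟨t, ht⟩).2 h)
    · exact fun h => htc ((hmem ⟨t, ht⟩).2 h)
    · exact fun h => huc ((hmem ⟨u, hu⟩).2 h)
  rcases hT with ⟨n, hn, ⟨e⟩⟩ | hq
  · have hmem : ∀ k : ZMod n, e.symm (.r k) ∈ zpowers (e.symm (.r 1)) := by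
      intro k
      obtain ⟨m, rfl⟩ := ZMod.intCast_surjective k
      exact mem_zpowers_iff.2 ⟨m, by rw [← map_zpow, DihedralGroup.r_one_zpow]⟩
    have key : ∀ s, s ∉ zpowers (e.symm (.r 1)) → ∃ i, s = e.symm (.sr i) := by
      intro s hs
      cases hc : e s with
      | r i => exact absurd (e.symm_apply_apply s ▸ hc ▸ hmem i) hs
      | sr i => exact ⟨i, by rw [← hc, e.symm_apply_apply]⟩
    refine ⟨e.symm (.r 1), fun s hs => ?_, fun s t hs ht => ?_, e.symm (.sr 0), fun h => ?_⟩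
    · obtain ⟨i, rfl⟩ := key s hs
      rw [← map_pow, pow_succ, pow_succ, pow_two, DihedralGroup.sr_mul_self, one_mul,
        DihedralGroup.sr_mul_self, map_one]
    · obtain ⟨i, rfl⟩ := key s hs
      obtain ⟨j, rfl⟩ := key t ht
      rw [← map_mul, DihedralGroup.sr_mul_sr]
      exact hmem _
    · rw [← map_mul, ← map_mul, DihedralGroup.sr_mul_r, DihedralGroup.r_mul_sr] at h
      have h' : (0 + 1 : ZMod n) = 0 - 1 := by simpa using e.symm.injective h
      have h2 : ((2 : ℕ) : ZMod n) = 0 := by push_cast; linear_combination h'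
      rw [ZMod.natCast_eq_zero_iff] at h2
      exact absurd (Nat.le_of_dvd (by norm_num) h2) (by omega)
  · obtain ⟨n, ⟨d⟩⟩ := Cfsg.Lib.TwoGroup.exists_sd hq
    refine ⟨d.x, fun s hs => ?_, fun s t hs ht => ?_, d.y, fun h => ?_⟩
    · obtain ⟨k, rfl | rfl⟩ := d.normal_form s
      · exact absurd (zpow_mem (mem_zpowers _) k) hs
      rw [show (4 : ℕ) = 2 * 2 from rfl, pow_mul, pow_two (d.x ^ k * d.y), d.sq, pow_two, ← zpow_add, d.zx_one]
      exact ⟨k, by ring⟩
    · obtain ⟨k, rfl | rfl⟩ := d.normal_form s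
      · exact absurd (zpow_mem (mem_zpowers _) k) hs
      obtain ⟨l, rfl | rfl⟩ := d.normal_form t
      · exact absurd (zpow_mem (mem_zpowers _) l) ht
      rw [mul_assoc, ← mul_assoc d.y, d.y_mul, mul_assoc (d.x ^ _) d.y, d.yy, mul_one, ← zpow_add]
      exact zpow_mem (mem_zpowers _) _
    · have h1 := d.conj_zpow 1
      rw [zpow_one, mul_one, h, mul_inv_cancel_right] at h1
      have h2 : d.x ^ (1 : ℤ) = d.x ^ (2 * Cfsg.Lib.TwoGroup.SD.P n - 1) := by rwa [zpow_one]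
      rw [d.zx] at h2
      have := Int.le_of_dvd (by have := d.P_pos; obtain ⟨q, hq⟩ := d.P_even; omega)
        (dvd_neg.2 h2)
      have := d.P_pos
      obtain ⟨q, hq⟩ := d.P_even
      omega

theorem quaternion_gens [Finite G] {T F : Subgroup G} {c : G}
    (hout : ∀ s ∈ T, s ∉ zpowers c → s ^ 4 = 1)
    (hidx : ∀ s ∈ T, ∀ t ∈ T, s ∉ zpowers c → t ∉ zpowers c → s * t ∈ zpowers c)
    (hFT : F ≤ T) (hF2 : IsPGroup 2 F) {p : ℕ} (hp : p.Prime) (hp2 : p ≠ 2) {g : G}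
    (hgp : g ^ p = 1) (hnorm : ∀ x ∈ F, g * x * g⁻¹ ∈ F) (hnc : ∃ x ∈ F, g * x * g⁻¹ ≠ x)
    {z : G} (hzF : z ∈ F) (hz1 : z ≠ 1) (hz2 : z * z = 1) (hzC : z ∈ zpowers c)
    (hzg : g * z * g⁻¹ = z) :
    ∃ a b h : G, a ∈ F ∧ b ∈ F ∧ a ^ 4 = 1 ∧ a * a ≠ 1 ∧ b * b = a * a ∧ b * a = a⁻¹ * b ∧
      h * a * h⁻¹ = b ∧ h * b * h⁻¹ = a * b ∧ h ^ 3 = 1 ∧ h ≠ 1 ∧ b ∉ zpowers a ∧
      ∀ x ∈ F, ∃ i : ℕ, x = a ^ i ∨ x = a ^ i * b := by
  have h2el : ∀ x ∈ F, ∃ e : ℕ, x ^ 2 ^ e = 1 := fun x hx =>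
    (hF2 ⟨x, hx⟩).imp fun e he => congrArg Subtype.val he
  haveI : IsCyclic ↥(zpowers c ⊓ F) := Subgroup.isCyclic_of_le (inf_le_left : _ ≤ zpowers c)
  obtain ⟨⟨a, haK⟩, hgen⟩ := IsCyclic.exists_zpow_surjective (G := ↥(zpowers c ⊓ F))
  obtain ⟨haC, haF⟩ := haK
  have hK : ∀ x ∈ F, x ∈ zpowers c → ∃ i : ℤ, a ^ i = x := fun x hx hxc =>
    (hgen ⟨x, hxc, hx⟩).imp fun i hi => congrArg Subtype.val hi
  -- `g` moves `a` out of the cyclic subgroup
  have hb : g * a * g⁻¹ ∉ zpowers c := by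
    intro hb
    obtain ⟨e, he⟩ := h2el a haF
    obtain ⟨i, hi⟩ := hK _ (hnorm a haF) hb
    have hfa : g * a * g⁻¹ = a := cyclic_fixed hp hp2 hgp e a he (mem_zpowers_iff.2 ⟨i, hi⟩)
    have hfK : ∀ x ∈ F, x ∈ zpowers c → g * x * g⁻¹ = x := by
      intro x hx hxc
      obtain ⟨j, rfl⟩ := hK x hx hxc
      rw [← conj_zpow, hfa]
    obtain ⟨x, hx, hxne⟩ := hnc
    by_cases hxc : x ∈ zpowers c
    · exact hxne (hfK x hx hxc)
    have hgx : g * x * g⁻¹ ∉ zpowers c := by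
      intro hc
      have := hfK _ (hnorm x hx) hc
      exact hxne (by simpa [mul_assoc] using congrArg (fun w => g⁻¹ * w * g) this)
    have hd : g * x * g⁻¹ * x⁻¹ ∈ zpowers c :=
      hidx _ (hFT (hnorm x hx)) _ (hFT (F.inv_mem hx)) hgx (by rwa [inv_mem_iff])
    have hdF : g * x * g⁻¹ * x⁻¹ ∈ F := F.mul_mem (hnorm x hx) (F.inv_mem hx)
    obtain ⟨e, he⟩ := h2el _ hdF
    have := fix_of hp hp2 hgp (k := x) (by group) (hfK _ hdF hd) he
    exact hxne (mul_inv_eq_one.1 this)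
  set b := g * a * g⁻¹ with hbdef
  have hbF : b ∈ F := hnorm a haF
  have ha4 : a ^ 4 = 1 := by
    have h := hout b (hFT hbF) hb
    rw [hbdef, conj_pow] at h
    exact conj_eq_one_iff.1 h
  have hred : ∀ i : ℤ, a ^ i = a ^ (i % 4).toNat := by
    intro i
    rw [← zpow_natCast, Int.toNat_of_nonneg (Int.emod_nonneg _ (by norm_num))]
    conv_lhs => rw [← Int.mul_ediv_add_emod i 4]
    rw [zpow_add, zpow_mul, show a ^ (4 : ℤ) = 1 by exact_mod_cast ha4, one_zpow, one_mul]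
  have hK' : ∀ x ∈ F, x ∈ zpowers c → ∃ i < 4, x = a ^ i := by
    intro x hx hxc
    obtain ⟨i, rfl⟩ := hK x hx hxc
    exact ⟨(i % 4).toNat, by omega, hred i⟩
  have ha2 : a * a ≠ 1 := by
    intro h
    obtain ⟨i, hi, hzi⟩ := hK' z hzF hzC
    have : z = a := by
      interval_cases i
      · exact absurd (hzi.trans (pow_zero a)) hz1
      · simpa using hzi
      · exact absurd (hzi.trans ((pow_two a).trans h)) hz1
      · rw [hzi, pow_succ, pow_two, h, one_mul]
    subst this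
    exact hb (by rw [hbdef, hzg]; exact hzC)
  have haa : z = a * a := by
    obtain ⟨i, hi, hzi⟩ := hK' z hzF hzC
    interval_cases i
    · exact absurd (hzi.trans (pow_zero a)) hz1
    · exact absurd (by rw [hzi, pow_one] at hz2; exact hz2) ha2
    · rw [hzi, pow_two]
    · refine absurd ?_ ha2
      calc a * a = a ^ 4 * (a * a) := by rw [ha4, one_mul]
        _ = z * z := by rw [hzi]; group
        _ = 1 := hz2
  subst haa
  have hbb : b * b = a * a := by rw [hbdef, conj_mul, hzg]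
  have hbinv : b⁻¹ = a * a * b := by
    apply inv_eq_of_mul_eq_one_left
    rw [mul_assoc (a * a) b b, hbb, hz2]
  have henum : ∀ x ∈ F, ∃ i < 4, x = a ^ i ∨ x = a ^ i * b := by
    intro x hx
    by_cases hxc : x ∈ zpowers c
    · exact (hK' x hx hxc).imp fun i hi => ⟨hi.1, Or.inl hi.2⟩
    obtain ⟨i, hi, hxi⟩ := hK' _ (F.mul_mem hx (F.inv_mem hbF))
      (hidx x (hFT hx) _ (hFT (F.inv_mem hbF)) hxc (by rwa [inv_mem_iff]))
    exact ⟨i, hi, Or.inr (mul_inv_eq_iff_eq_mul.1 hxi)⟩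
  have hna : g * a * g⁻¹ ≠ a := fun h => hb (by rw [hbdef, h]; exact haC)
  have hcent : ∀ n : ℕ, n.Coprime p → g ^ n * a * (g ^ n)⁻¹ ≠ a := by
    intro n hn h
    have hn' : g ^ n ∈ centralizer ({a} : Set G) :=
      mem_centralizer_singleton_iff.2 (mul_inv_eq_iff_eq_mul.1 h)
    have hg' : g * a = a * g := mem_centralizer_singleton_iff.1 (mem_of_pow_mem hgp hn hn')
    exact hna (mul_inv_eq_iff_eq_mul.2 hg')
  have hcop : ∀ k, Nat.Coprime (2 ^ k) p := fun k =>
    Nat.Coprime.pow_left k ((Nat.coprime_primes Nat.prime_two hp).2 (Ne.symm hp2))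
  set w := g * b * g⁻¹ with hw
  have hwF : w ∈ F := hnorm b hbF
  have hww : w * w = a * a := by rw [hw, conj_mul, hbb, hzg]
  have hwa : w ≠ a := by
    intro h
    refine hcent (2 ^ 1) (hcop 1) ?_
    calc g ^ (2 ^ 1) * a * (g ^ (2 ^ 1))⁻¹ = w := by rw [hw, hbdef]; simp [pow_succ, mul_assoc]
      _ = a := h
  have hwa3 : w ≠ a * a * a := by
    intro h
    refine hcent (2 ^ 2) (hcop 2) ?_
    have h1 : g * (g * (a * a * a) * g⁻¹) * g⁻¹ = w * w * w := by
      rw [hw, hbdef]; group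
    calc g ^ (2 ^ 2) * a * (g ^ (2 ^ 2))⁻¹ = g * (g * w * g⁻¹) * g⁻¹ := by
          rw [hw, hbdef]; simp [pow_succ, mul_assoc]
      _ = w * w * w := by rw [← h1, ← h]
      _ = a * a * (a * a * a) := by rw [hww, h]
      _ = a ^ 4 * a := by simp [pow_succ, mul_assoc]
      _ = a := by rw [ha4, one_mul]
  have hwb : w ≠ b := by
    intro h
    exact hna ((MulAut.conj g).injective (show g * b * g⁻¹ = g * a * g⁻¹ from h))
  have hwzb : w ≠ a * a * b := by
    intro h
    have : b = a * a * a := by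
      refine (MulAut.conj g).injective (show g * b * g⁻¹ = g * (a * a * a) * g⁻¹ from ?_)
      rw [show g * (a * a * a) * g⁻¹ = g * (a * a) * g⁻¹ * (g * a * g⁻¹) by group, hzg, ← hbdef]
      exact h
    exact hb (this ▸ mul_mem (mul_mem haC haC) haC)
  have hcase : w = a * b ∨ w = a ^ 3 * b := by
    obtain ⟨i, hi, hw' | hw'⟩ := henum w hwF <;> interval_cases i
    · rw [pow_zero] at hw'
      exact absurd (hw'.symm ▸ hww).symm (by simpa using ha2)
    · exact absurd (hw'.trans (pow_one a)) hwa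
    · refine absurd ?_ hb
      have h' : g * b * g⁻¹ = g * (a * a) * g⁻¹ := by rw [← hw, hw', pow_two, hzg]
      have h'' : b = a * a := (MulAut.conj g).injective h'
      exact h'' ▸ mul_mem haC haC
    · exact absurd (hw'.trans (by simp [pow_succ])) hwa3
    · exact absurd (hw'.trans (by simp)) hwb
    · exact Or.inl (hw'.trans (by rw [pow_one]))
    · exact absurd (hw'.trans (by rw [pow_two])) hwzb
    · exact Or.inr hw'
  have haba : a * b * a = b := by
    rcases hcase with h | h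
    · rw [h, ← hbb, ← mul_assoc, mul_left_inj] at hww
      exact hww
    · rw [h, ← hbb, ← mul_assoc, mul_left_inj] at hww
      calc a * b * a = a * (a ^ 3 * b * a ^ 3) * a := by rw [hww]
        _ = a ^ 4 * b * a ^ 4 := by group
        _ = b := by rw [ha4, one_mul, mul_one]
  have hba : b * a = a⁻¹ * b := eq_inv_mul_of_mul_eq (by rw [← mul_assoc, haba])
  have hp3 : ∀ {y : G}, g * w * g⁻¹ = y → y = a → p = 3 := by
    intro y hy hy'
    by_contra hne
    refine hcent 3 ((Nat.coprime_primes Nat.prime_three hp).2 (Ne.symm hne)) ?_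
    calc g ^ 3 * a * (g ^ 3)⁻¹ = g * w * g⁻¹ := by rw [hw, hbdef]; simp [pow_succ, mul_assoc]
      _ = a := hy.trans hy'
  have hna' : b ∉ zpowers a := fun h => hb (zpowers_le.2 haC h)
  rcases hcase with h | h
  · have hp3' : p = 3 := hp3 (y := b * (a * b)) (by rw [h, ← conj_mul, ← hbdef, ← hw, h]) (by
      rw [← mul_assoc, hba, mul_assoc, hbb, inv_mul_cancel_left])
    subst hp3'
    refine ⟨a, b, g, haF, hbF, ha4, ha2, hbb, hba, rfl, hw.symm.trans h, hgp, ?_, hna',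
      fun x hx => (henum x hx).imp fun i hi => hi.2⟩
    rintro rfl
    exact hna (by simp)
  · have h' : w = b * a := by
      rw [h, hba]
      congr 1
      exact eq_inv_of_mul_eq_one_left ((pow_succ a 3).symm.trans ha4)
    have hgba : g * (b * a) * g⁻¹ = a := by
      rw [← conj_mul, ← hbdef, ← hw, h', hba, mul_assoc, hbb, inv_mul_cancel_left]
    have hp3' : p = 3 := hp3 (y := a) (by rw [h', hgba]) rfl
    subst hp3'
    refine ⟨a, b * a, g⁻¹, haF, F.mul_mem hbF haF, ha4, ha2, ?_, ?_, ?_, ?_, ?_, ?_, ?_, ?_⟩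
    · rw [mul_assoc b a (b * a), ← mul_assoc a b a, haba, hbb]
    · rw [← mul_assoc a⁻¹, ← hba]
    · calc g⁻¹ * a * g⁻¹⁻¹ = g⁻¹ * (g * (b * a) * g⁻¹) * g⁻¹⁻¹ := by rw [hgba]
        _ = b * a := by group
    · rw [← mul_assoc a b a, haba]
      calc g⁻¹ * (b * a) * g⁻¹⁻¹ = g⁻¹ * (g * b * g⁻¹) * g⁻¹⁻¹ := by rw [← hw, h']
        _ = b := by group
    · rw [inv_pow, hgp, inv_one]
    · rw [ne_eq, inv_eq_one]
      rintro rfl
      exact hna (by simp)
    · intro hc
      exact hna' (((zpowers a).mul_mem_cancel_right (mem_zpowers a)).1 hc)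
    · intro x hx
      obtain ⟨i, -, hx' | hx'⟩ := henum x hx
      · exact ⟨i, Or.inl hx'⟩
      · exact ⟨i + 1, Or.inr (by rw [hx', pow_succ, mul_assoc, ← mul_assoc a b a, haba])⟩

/-- Six elements containing all fourth roots in a quaternion group. -/
def six (a b : G) : Fin 6 → G := ![a, a⁻¹, b, b⁻¹, a * b, (a * b)⁻¹]

theorem six_of_sq {F : Subgroup G} {a b : G} (ha4 : a ^ 4 = 1) (ha2 : a * a ≠ 1)
    (hbb : b * b = a * a) (hba : b * a = a⁻¹ * b)
    (henum : ∀ x ∈ F, ∃ i : ℕ, x = a ^ i ∨ x = a ^ i * b) {x : G} (hx : x ∈ F)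
    (hxx : x * x = a * a) : ∃ k, six a b k = x := by
  obtain ⟨i, hi⟩ := henum x hx
  have hai : a ^ i = a ^ (i % 4) := pow_eq_pow_mod i ha4
  rw [hai] at hi
  have hb' : b⁻¹ = a ^ 2 * b := by
    refine inv_eq_of_mul_eq_one_left ?_
    rw [mul_assoc, hbb, ← ha4]; group
  have hab' : (a * b)⁻¹ = a ^ 3 * b := by
    refine inv_eq_of_mul_eq_one_left ?_
    calc a ^ 3 * b * (a * b) = a ^ 3 * (b * a) * b := by group
      _ = a ^ 2 * (b * b) := by rw [hba]; group
      _ = 1 := by rw [hbb, ← ha4]; group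
  have : i % 4 < 4 := Nat.mod_lt _ (by norm_num)
  interval_cases h : i % 4 <;> rcases hi with rfl | rfl
  · exact absurd (by simpa using hxx.symm) ha2
  · exact ⟨2, by simp [six]⟩
  · exact ⟨0, by simp [six]⟩
  · exact ⟨4, by simp [six]⟩
  · exact absurd (hxx.symm.trans (by rw [← ha4]; group)) ha2
  · exact ⟨3, by simp [six, hb']⟩
  · refine ⟨1, ?_⟩
    simpa [six] using (eq_inv_of_mul_eq_one_left ((pow_succ a 3).symm.trans ha4)).symm
  · exact ⟨5, by simp [six, hab', pow_succ]⟩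

theorem sq_eq_of_involution {F : Subgroup G} {a b z : G} (hzF : z ∈ F) (hz1 : z ≠ 1)
    (hz2 : z * z = 1) (ha4 : a ^ 4 = 1) (ha2 : a * a ≠ 1) (hbb : b * b = a * a)
    (hba : b * a = a⁻¹ * b) (henum : ∀ x ∈ F, ∃ i : ℕ, x = a ^ i ∨ x = a ^ i * b)
    (hzc : ∀ x : G, x * z * x⁻¹ = z) : a * a = z := by
  obtain ⟨i, hi⟩ := henum z hzF
  have hab : a * b ≠ b * a := by
    intro h
    refine ha2 ?_
    have h' : a * b = a⁻¹ * b := h.trans hba
    calc a * a = a * a⁻¹ := by rw [← mul_right_cancel h']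
      _ = 1 := mul_inv_cancel a
  have hza : z * a = a * z := (mul_inv_eq_iff_eq_mul.1 (hzc a)).symm
  rcases hi with rfl | rfl
  · rw [pow_eq_pow_mod i ha4] at *
    have : i % 4 < 4 := Nat.mod_lt _ (by norm_num)
    interval_cases h : i % 4
    · simp at hz1
    · exact absurd (by simpa using hz2) ha2
    · rw [pow_two]
    · refine absurd ?_ ha2
      calc a * a = a ^ 4 * (a * a) := by rw [ha4, one_mul]
        _ = a ^ 3 * a ^ 3 := by group
        _ = 1 := hz2
  · refine absurd ?_ hab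
    have h1 : a ^ i * (b * a) = a ^ i * (a * b) := by
      rw [← mul_assoc, hza, ← mul_assoc, ← mul_assoc, ← pow_succ, ← pow_succ']
    exact (mul_left_cancel h1).symm

theorem card_le [Finite G] {F : Subgroup G} [F.Normal] {a b : G} (hCF : centralizer (F : Set G) ≤ F)
    (haF : a ∈ F) (hbF : b ∈ F) (ha4 : a ^ 4 = 1) (ha2 : a * a ≠ 1) (hbb : b * b = a * a)
    (hba : b * a = a⁻¹ * b) (hbn : b ∉ zpowers a)
    (henum : ∀ x ∈ F, ∃ i : ℕ, x = a ^ i ∨ x = a ^ i * b)
    (hz : ∀ x : G, x * (a * a) * x⁻¹ = a * a) : Nat.card G ≤ 48 := by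
  classical
  haveI := Fintype.ofFinite G
  have hab : a * b ≠ b * a := by
    intro h
    refine ha2 ?_
    calc a * a = a * a⁻¹ := by rw [← mul_right_cancel (h.trans hba)]
      _ = 1 := mul_inv_cancel a
  have hsmall : ∀ d : G, d * a = a * d → d * b = b * d → d ∈ ({1, a * a} : Finset G) := by
    intro d hda hdb
    have hd : d ∈ F := hCF (mem_centralizer_iff.2 fun x hx => by
      obtain ⟨i, rfl | rfl⟩ := henum x hx
      · exact ((show Commute d a from hda).pow_right i).eq.symm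
      · exact (((show Commute d a from hda).pow_right i).mul_right hdb).eq.symm)
    obtain ⟨i, rfl | rfl⟩ := henum d hd
    · rw [pow_eq_pow_mod i ha4] at *
      have : i % 4 < 4 := Nat.mod_lt _ (by norm_num)
      interval_cases h : i % 4
      · simp
      · exact absurd (by simpa using hdb) hab
      · simp [pow_two]
      · refine absurd ?_ hab
        rw [show a ^ 3 = a⁻¹ from eq_inv_of_mul_eq_one_left ((pow_succ a 3).symm.trans ha4)] at hdb
        simpa using ((show Commute a⁻¹ b from hdb).inv_left).eq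
    · refine absurd ?_ hab
      have h1 : a ^ i * (b * a) = a ^ i * (a * b) := by
        rw [← mul_assoc, hda, ← mul_assoc, ← mul_assoc, ← pow_succ, ← pow_succ']
      exact (mul_left_cancel h1).symm
  let P : Finset (G × G) :=
    (Finset.univ.filter fun q : Fin 6 × Fin 6 => q.1.val / 2 ≠ q.2.val / 2).image
      fun q => (six a b q.1, six a b q.2)
  have hP : P.card ≤ 24 := Finset.card_image_le.trans (le_of_eq (by decide))
  let f : G → G × G := fun x => (x * a * x⁻¹, x * b * x⁻¹)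
  have hf : ∀ x ∈ (Finset.univ : Finset G), f x ∈ P := by
    intro x _
    obtain ⟨i, hi⟩ := six_of_sq ha4 ha2 hbb hba henum (Normal.conj_mem inferInstance a haF x)
      (by rw [conj_mul, hz])
    obtain ⟨j, hj⟩ := six_of_sq ha4 ha2 hbb hba henum (Normal.conj_mem inferInstance b hbF x)
      (by rw [conj_mul, hbb, hz])
    refine Finset.mem_image.2 ⟨(i, j), Finset.mem_filter.2 ⟨Finset.mem_univ _, fun hij => hbn ?_⟩,
      by simp only [f, hi, hj]⟩
    have hji : six a b j ∈ zpowers (six a b i) := by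
      fin_cases i <;> fin_cases j <;>
        first | exact absurd hij (by decide) | simp [six, mem_zpowers, -mul_inv_rev]
    rw [hi, hj] at hji
    obtain ⟨m, hm⟩ := mem_zpowers_iff.1 hji
    rw [conj_zpow, mul_left_inj, mul_right_inj] at hm
    exact mem_zpowers_iff.2 ⟨m, hm⟩
  have h := Finset.card_le_mul_card_image_of_maps_to hf 2 (fun y _ => by
    rcases (Finset.univ.filter fun x => f x = y).eq_empty_or_nonempty with he | ⟨x₀, hx₀⟩
    · simp [he]
    refine (Finset.card_le_card (t := {x₀, x₀ * (a * a)}) ?_).trans Finset.card_le_two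
    intro x hx
    simp only [Finset.mem_filter, Finset.mem_univ, true_and] at hx hx₀
    rw [← hx₀] at hx
    simp only [f, Prod.mk.injEq] at hx
    have key : ∀ t, x * t * x⁻¹ = x₀ * t * x₀⁻¹ → x₀⁻¹ * x * t = t * (x₀⁻¹ * x) := by
      intro t ht
      have := congrArg (fun u => x₀⁻¹ * u * x) ht
      simpa [mul_assoc] using this
    have hd := hsmall _ (key a hx.1) (key b hx.2)
    simp only [Finset.mem_insert, Finset.mem_singleton] at hd ⊢
    rcases hd with hd | hd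
    · exact Or.inl (inv_mul_eq_one.1 hd).symm
    · exact Or.inr (inv_mul_eq_iff_eq_mul.1 hd))
  rw [Finset.card_univ] at h
  rw [Nat.card_eq_fintype_card]
  omega

end

/-! ### A presentation of `SL(2,3)` -/

/-- Normal forms. -/
abbrev NF := Fin 4 × Fin 2 × Fin 3

/-- Right multiplication by `a` in the quaternion part. -/
def mA : Fin 4 × Fin 2 → Fin 4 × Fin 2
  | (i, 0) => (i + 1, 0)
  | (i, 1) => (i + 3, 1)

/-- Right multiplication by `b` in the quaternion part. -/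
def mB : Fin 4 × Fin 2 → Fin 4 × Fin 2
  | (i, 0) => (i, 1)
  | (i, 1) => (i + 2, 0)

/-- Right multiplication by `a`. -/
def rA : NF → NF
  | (i, j, 0) => ((mA (i, j)).1, (mA (i, j)).2, 0)
  | (i, j, 1) => ((mB (i, j)).1, (mB (i, j)).2, 1)
  | (i, j, 2) => ((mB (mA (i, j))).1, (mB (mA (i, j))).2, 2)

/-- Right multiplication by `b`. -/
def rB : NF → NF
  | (i, j, 0) => ((mB (i, j)).1, (mB (i, j)).2, 0)
  | (i, j, 1) => ((mB (mA (i, j))).1, (mB (mA (i, j))).2, 1)
  | (i, j, 2) => ((mA (i, j)).1, (mA (i, j)).2, 2)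

/-- Right multiplication by `g`. -/
def rG (q : NF) : NF := (q.1, q.2.1, q.2.2 + 1)

section
variable {H : Type*} [Group H]

/-- The element with a given normal form. -/
def nf (a b g : H) (q : NF) : H := a ^ q.1.val * b ^ q.2.1.val * g ^ q.2.2.val

variable {a b g : H}

theorem nf_rules (ha : a ^ 4 = 1) (hbb : b * b = a * a) (hba : b * a = a⁻¹ * b)
    (hga : g * a * g⁻¹ = b) (hgb : g * b * g⁻¹ = a * b) (hg : g ^ 3 = 1) (q : NF) :
    nf a b g (rA q) = nf a b g q * a ∧ nf a b g (rB q) = nf a b g q * b ∧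
      nf a b g (rG q) = nf a b g q * g := by
  obtain ⟨i, j, k⟩ := q
  have hadd : ∀ u v : Fin 4, a ^ (u + v).val = a ^ u.val * a ^ v.val := fun u v => by
    rw [Fin.val_add, ← pow_eq_pow_mod _ ha, pow_add]
  have hinv : a⁻¹ = a ^ 3 := (eq_inv_of_mul_eq_one_left ((pow_succ a 3).symm.trans ha)).symm
  have qa : ∀ (u : Fin 4) (v : Fin 2),
      a ^ (mA (u, v)).1.val * b ^ (mA (u, v)).2.val = a ^ u.val * b ^ v.val * a := by
    intro u v
    fin_cases v
    · simp [mA, hadd]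
    · simp [mA, hadd, mul_assoc, hba, hinv]
  have qb : ∀ (u : Fin 4) (v : Fin 2),
      a ^ (mB (u, v)).1.val * b ^ (mB (u, v)).2.val = a ^ u.val * b ^ v.val * b := by
    intro u v
    fin_cases v
    · simp [mB]
    · simp [mB, hadd, mul_assoc, hbb, pow_two]
  have qab : ∀ (u : Fin 4) (v : Fin 2),
      a ^ (mB (mA (u, v))).1.val * b ^ (mB (mA (u, v))).2.val
        = a ^ u.val * b ^ v.val * (a * b) := by
    intro u v
    rw [qb (mA (u, v)).1 (mA (u, v)).2, qa, mul_assoc]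
  have h1a : g * a = b * g := mul_inv_eq_iff_eq_mul.1 hga
  have h1b : g * b = a * b * g := mul_inv_eq_iff_eq_mul.1 hgb
  have h2a : g ^ 2 * a = a * b * g ^ 2 := by
    rw [pow_two, mul_assoc, h1a, ← mul_assoc, h1b, mul_assoc]
  have h2b : g ^ 2 * b = a * g ^ 2 := by
    rw [pow_two, mul_assoc, h1b, ← mul_assoc, ← mul_assoc, h1a, mul_assoc b g b, h1b,
      ← mul_assoc, ← mul_assoc, hba, mul_assoc a⁻¹ b b, hbb, inv_mul_cancel_left, mul_assoc]
  refine ⟨?_, ?_, ?_⟩
  · fin_cases k <;> simp only [nf, rA, Fin.zero_eta, Fin.mk_one, Fin.reduceFinMk, Fin.isValue]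
    · simp [qa]
    · simp [qb, mul_assoc, h1a]
    · show _ * g ^ 2 = _ * g ^ 2 * a
      rw [qab, mul_assoc _ (g ^ 2) a, h2a]
      simp [mul_assoc]
  · fin_cases k <;> simp only [nf, rB, Fin.zero_eta, Fin.mk_one, Fin.reduceFinMk, Fin.isValue]
    · simp [qb]
    · simp [qab, mul_assoc, h1b]
    · show _ * g ^ 2 = _ * g ^ 2 * b
      rw [qa, mul_assoc _ (g ^ 2) b, h2b]
      simp [mul_assoc]
  · simp only [nf, rG, Fin.val_add, Fin.val_one, ← pow_eq_pow_mod _ hg, pow_succ, mul_assoc]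

end

/-- `SL(2,3)`. -/
abbrev SL23 := Matrix.SpecialLinearGroup (Fin 2) (ZMod 3)

/-- First quaternion generator. -/
def mtxA : SL23 := ⟨!![0, 2; 1, 0], by decide⟩
/-- Second quaternion generator. -/
def mtxB : SL23 := ⟨!![1, 1; 1, 2], by decide⟩
/-- The element of order three. -/
def mtxG : SL23 := ⟨!![1, 1; 0, 1], by decide⟩

theorem mtx_bijective : Function.Bijective (nf mtxA mtxB mtxG) := by
  decide +kernel

/-- Normal forms in `SL(2,3)`. -/
noncomputable def sl23Equiv : NF ≃ SL23 := Equiv.ofBijective _ mtx_bijective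

theorem mtx_rules (q : NF) :
    nf mtxA mtxB mtxG (rA q) = nf mtxA mtxB mtxG q * mtxA ∧
      nf mtxA mtxB mtxG (rB q) = nf mtxA mtxB mtxG q * mtxB ∧
      nf mtxA mtxB mtxG (rG q) = nf mtxA mtxB mtxG q * mtxG :=
  nf_rules (by decide) (by decide) (by decide) (by decide) (by decide) (by decide) q

theorem sl23_hom {H : Type*} [Group H] {F : Subgroup H} {a b g : H} (ha : a ^ 4 = 1)
    (ha2 : a * a ≠ 1) (hbb : b * b = a * a) (hba : b * a = a⁻¹ * b) (hga : g * a * g⁻¹ = b)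
    (hgb : g * b * g⁻¹ = a * b) (hg : g ^ 3 = 1) (haF : a ∈ F) (hbF : b ∈ F) (hgF : g ∉ F)
    (hbn : b ∉ zpowers a) : ∃ Φ : SL23 →* H, Function.Injective Φ := by
  let f : SL23 → H := fun x => nf a b g (sl23Equiv.symm x)
  have hf : ∀ q, f (nf mtxA mtxB mtxG q) = nf a b g q := fun q =>
    congrArg (nf a b g) (sl23Equiv.symm_apply_apply q)
  have step : ∀ x, f (x * mtxA) = f x * a ∧ f (x * mtxB) = f x * b ∧ f (x * mtxG) = f x * g := by
    intro x
    obtain ⟨q, rfl⟩ := mtx_bijective.2 x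
    obtain ⟨m1, m2, m3⟩ := mtx_rules q
    obtain ⟨n1, n2, n3⟩ := nf_rules ha hbb hba hga hgb hg q
    exact ⟨by rw [← m1, hf, hf, n1], by rw [← m2, hf, hf, n2], by rw [← m3, hf, hf, n3]⟩
  have pows : ∀ (u : SL23) (v : H), (∀ x, f (x * u) = f x * v) →
      ∀ (n : ℕ) (x : SL23), f (x * u ^ n) = f x * v ^ n := by
    intro u v h n
    induction n with
    | zero => simp
    | succ n ih => intro x; rw [pow_succ, ← mul_assoc, h, ih, pow_succ, mul_assoc]
  have hmul : ∀ x y, f (x * y) = f x * f y := by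
    intro x y
    obtain ⟨q, rfl⟩ := mtx_bijective.2 y
    rw [hf]
    show f (x * (_ * _ * _)) = f x * (_ * _ * _)
    rw [← mul_assoc, ← mul_assoc, pows _ _ (fun x => (step x).2.2),
      pows _ _ (fun x => (step x).2.1), pows _ _ (fun x => (step x).1), mul_assoc, mul_assoc,
      mul_assoc]
  refine ⟨MonoidHom.mk' f hmul, (injective_iff_map_eq_one _).2 fun x hx => ?_⟩
  obtain ⟨⟨i, j, k⟩, rfl⟩ := mtx_bijective.2 x
  have h : a ^ i.val * b ^ j.val * g ^ k.val = 1 := (hf (i, j, k)).symm.trans hx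
  have hk : k = 0 := by
    by_contra hk
    refine hgF (mem_of_pow_mem hg ?_
      (eq_inv_of_mul_eq_one_right h ▸ F.inv_mem (F.mul_mem (F.pow_mem haF _) (F.pow_mem hbF _))))
    fin_cases k <;> first | exact absurd rfl hk | decide
  subst hk
  have hj : j = 0 := by
    by_contra hj
    fin_cases j
    · simp at hj
    · refine hbn ?_
      simp at h
      rw [eq_inv_of_mul_eq_one_right h]
      exact (zpowers a).inv_mem (pow_mem (mem_zpowers a) _)
  subst hj
  have hi : i = 0 := by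
    simp at h
    by_contra hi
    fin_cases i
    · simp at hi
    · exact ha2 (by simp at h; rw [h, one_mul])
    · exact ha2 (by simpa [pow_two] using h)
    · refine ha2 ?_
      have ha1 : a = 1 := by rw [← ha, pow_succ, h, one_mul]
      rw [ha1, one_mul]
  subst hi
  simp [nf]

/-- Let G be a finite solvable group with O(G) = 1 whose Sylow 2-subgroup T is dihedral of order at least 8 or semidihedral, with G ≠ T and Z(T) normal in G. Then G has a normal subgroup isomorphic to SL₂(3). -/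
theorem result {G : Type*} [Group G] [Finite G] (hsol : IsSolvable G) (hO : Cfsg.oddCore G = ⊥) (T : Sylow 2 G) (hT : (∃ n : ℕ, 4 ≤ n ∧ Nonempty (↥(T : Subgroup G) ≃* DihedralGroup n)) ∨ Cfsg.IsQuasiDihedral ↥(T : Subgroup G)) (hne : (T : Subgroup G) ≠ ⊤) (hZ : ((T : Subgroup G) ⊓ Subgroup.centralizer ((T : Subgroup G) : Set G)).Normal) : ∃ U : Subgroup G, U.Normal ∧ Nonempty (↥U ≃* Matrix.SpecialLinearGroup (Fin 2) (ZMod 3)) := by
  classical
  obtain ⟨c, hcT, hout, hidx, s₀, hs₀, hne₀⟩ := twoGroup_facts (T : Subgroup G) hT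
  set Z := (T : Subgroup G) ⊓ centralizer ((T : Subgroup G) : Set G) with hZdef
  have hZC : ∀ w ∈ Z, w ∈ zpowers c := by
    rintro w ⟨hwT, hwc⟩
    by_contra hw
    obtain ⟨i, hi⟩ := mem_zpowers_iff.1 (hidx s₀ hs₀ w hwT (by
      intro h
      obtain ⟨i, rfl⟩ := mem_zpowers_iff.1 h
      exact hne₀ ((Commute.refl c).zpow_left i).eq) hw)
    have hwcomm : Commute c w := mem_centralizer_iff.1 hwc c hcT
    refine hne₀ ?_
    have e : s₀ = c ^ i * w⁻¹ := by rw [hi, mul_inv_cancel_right]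
    rw [e]
    exact (((Commute.refl c).zpow_left i).mul_left hwcomm.inv_right.symm).eq
  -- the central involution
  haveI : Fact (Nat.Prime 2) := ⟨Nat.prime_two⟩
  obtain ⟨z, hzZ, hz1, hz2⟩ : ∃ z ∈ Z, z ≠ 1 ∧ z * z = 1 := by
    haveI : Nontrivial ↥(T : Subgroup G) := by
      refine ⟨⟨⟨c, hcT⟩, 1, fun h => hne₀ ?_⟩⟩
      rw [show c = 1 from congrArg Subtype.val h, mul_one, one_mul]
    haveI := T.isPGroup'.center_nontrivial
    obtain ⟨⟨w, hw⟩, hw1⟩ := exists_ne (1 : center ↥(T : Subgroup G))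
    have hwZ : (w : G) ∈ Z := ⟨w.2, mem_centralizer_iff.2 fun t ht =>
      congrArg Subtype.val (mem_center_iff.1 hw ⟨t, ht⟩)⟩
    have h2 : IsPGroup 2 Z := T.isPGroup'.to_le inf_le_left
    haveI : Nontrivial Z := ⟨⟨⟨w, hwZ⟩, 1, fun h => hw1 (by
      ext; simpa using congrArg Subtype.val h)⟩⟩
    obtain ⟨n, hn0, hn⟩ := h2.nontrivial_iff_card.1 inferInstance
    obtain ⟨⟨z, hz⟩, hzo⟩ := exists_prime_orderOf_dvd_card' (G := Z) 2 (hn ▸ dvd_pow_self 2 hn0.ne')
    rw [orderOf_mk] at hzo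
    refine ⟨z, hz, fun h => by simp [h] at hzo, ?_⟩
    have := pow_orderOf_eq_one z
    rwa [hzo, pow_two] at this
  have hzc : ∀ x : G, x * z * x⁻¹ = z := fun x =>
    eq_of_involutions (hZC _ (hZ.conj_mem z hzZ x)) (hZC _ hzZ)
      (by rw [conj_mul, hz2, mul_one, mul_inv_cancel]) hz2
      (fun h => hz1 (conj_eq_one_iff.1 h)) hz1
  -- the Fitting subgroup
  set F := Cfsg.pCore 2 G with hF
  have hFT : F ≤ (T : Subgroup G) := Cfsg.Lib.Core.pCore_le_sylow T
  have hF2 : IsPGroup 2 F := Cfsg.Lib.Core.pCore_isPGroup 2 G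
  haveI : Group.IsSolvable G := hsol
  have hCF : centralizer (F : Set G) ≤ F :=
    Cfsg.Lib.Core.centralizer_pCore_le_of_isPSolvable
      Cfsg.Lib.Core.isPSolvable_of_isSolvable hO
  have hzF : z ∈ F := Cfsg.Lib.Core.le_pCore' hZ (T.isPGroup'.to_le inf_le_left) hzZ
  -- an element of odd prime order
  obtain ⟨p, hp, hpd⟩ := Nat.exists_prime_and_dvd (n := (T : Subgroup G).index)
    (fun h => hne (index_eq_one.1 h))
  haveI : Fact p.Prime := ⟨hp⟩
  have hp2 : p ≠ 2 := by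
    rintro rfl
    exact T.not_dvd_index hpd
  obtain ⟨g, hgo⟩ := exists_prime_orderOf_dvd_card' (G := G) p (hpd.trans (index_dvd_card _))
  have hgp : g ^ p = 1 := hgo ▸ pow_orderOf_eq_one g
  have hnc : ∃ x ∈ F, g * x * g⁻¹ ≠ x := by
    by_contra! hc
    have hgF : g ∈ F := hCF (mem_centralizer_iff.2 fun x hx =>
      (mul_inv_eq_iff_eq_mul.1 (hc x hx)).symm)
    obtain ⟨k, hk⟩ := hF2 ⟨g, hgF⟩
    have hk' : g ^ 2 ^ k = 1 := congrArg Subtype.val hk
    have hd : p ∣ 2 ^ k := hgo ▸ orderOf_dvd_of_pow_eq_one hk'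
    exact hp2 ((Nat.prime_dvd_prime_iff_eq hp Nat.prime_two).1 (hp.dvd_of_dvd_pow hd))
  haveI : F.Normal := hF ▸ inferInstance
  obtain ⟨a, b, h, haF, hbF, ha4, ha2, hbb, hba, hha, hhb, hh3, hh, hbn, henum⟩ :=
    quaternion_gens hout hidx hFT hF2 hp hp2 hgp
      (fun x hx => Normal.conj_mem inferInstance x hx g) hnc hzF hz1 hz2 (hZC _ hzZ) (hzc g)
  have hhF : h ∉ F := by
    intro hc
    obtain ⟨k, hk⟩ := hF2 ⟨h, hc⟩
    have hk' : h ^ 2 ^ k = 1 := congrArg Subtype.val hk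
    have := pow_eq_one_iff_of_coprime' hh3 hk' (Nat.Coprime.pow_right k (by norm_num))
    exact hh this
  obtain ⟨Φ, hΦ⟩ := sl23_hom ha4 ha2 hbb hba hha hhb hh3 haF hbF hhF hbn
  refine ⟨Φ.range, ?_, ⟨(MonoidHom.ofInjective hΦ).symm⟩⟩
  have hcard : Nat.card Φ.range = 24 := by
    rw [← Nat.card_congr (MonoidHom.ofInjective hΦ).toEquiv, ← Nat.card_congr sl23Equiv]
    simp
  have hle : Nat.card G ≤ 48 :=
    card_le hCF haF hbF ha4 ha2 hbb hba hbn henum (fun x => by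
      have := hzc x
      rwa [← (sq_eq_of_involution hzF hz1 hz2 ha4 ha2 hbb hba henum hzc)] at this)
  have hmul := Φ.range.card_mul_index
  rw [hcard] at hmul
  have hi : Φ.range.index = 1 ∨ Φ.range.index = 2 := by
    have : Φ.range.index ≠ 0 := index_ne_zero_of_finite
    omega
  rcases hi with hi | hi
  · rw [index_eq_one.1 hi]; infer_instance
  · exact normal_of_index_eq_two hi

end Cfsg.Agent.S2879
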