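import Cfsg.Statements.S0106
import Cfsg.Agent.S0071
import Cfsg.Agent.S2879
import Cfsg.Agent.Lib.Invol.Quaternion
import Cfsg.Agent.Lib.PGroup.Basic
import Cfsg.Agent.Lib.Fusion.Basic
import Cfsg.Agent.Lib.FusionSys.NormalizerModel

set_option autoImplicit false
set_option linter.style.haveILetI false
open Cfsg

namespace Cfsg.Agent.S0106

open Subgroup

/-- The cyclic subgroup of index two of a generalized quaternion subgroup. -/
theorem quaternion_facts {G : Type*} [Group G] (T : Subgroup G) {m : ℕ} [NeZero m] (e : T ≃* QuaternionGroup m) :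
    ∃ c ∈ T, (∀ s ∈ T, s ∉ zpowers c → s ^ 4 = 1) ∧
      (∀ s ∈ T, ∀ t ∈ T, s ∉ zpowers c → t ∉ zpowers c → s * t ∈ zpowers c) ∧
      (∀ s ∈ T, orderOf s = 2 → s ∈ zpowers c) ∧ ∀ s ∈ T, ∀ t ∈ T, orderOf s = 2 → orderOf t = 2 → s = t := by
  haveI : NeZero (2 * m) := ⟨mul_ne_zero two_ne_zero (NeZero.ne m)⟩
  set c : T := e.symm (QuaternionGroup.a 1) with hc
  have hmem : ∀ i : ZMod (2 * m), ((e.symm (QuaternionGroup.a i) : T) : G) ∈ zpowers (c : G) := fun i => by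
    rw [← ZMod.natCast_zmod_val i, ← QuaternionGroup.a_one_pow, map_pow, ← hc, Subgroup.coe_pow]
    exact pow_mem (mem_zpowers _) _
  have hcases : ∀ s : T, (s : G) ∉ zpowers (c : G) → ∃ i, e s = QuaternionGroup.xa i := by
    intro s hs
    rcases hes : e s with i | i
    · exfalso
      refine hs ?_
      rw [← e.symm_apply_apply s, hes]
      exact hmem i
    · exact ⟨i, rfl⟩
  have hinv : ∀ s : T, orderOf (s : G) = 2 → e s = QuaternionGroup.a (m : ZMod (2 * m)) := fun s hs =>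
    Cfsg.Lib.Invol.quaternion_eq_of_orderOf_two (by rw [e.orderOf_eq, ← hs, Subgroup.orderOf_coe])
  refine ⟨c, c.2, ?_, ?_, ?_, ?_⟩
  · intro s hs hsc
    obtain ⟨i, hi⟩ := hcases ⟨s, hs⟩ hsc
    have h : (⟨s, hs⟩ : T) ^ 4 = 1 := e.injective (by
      rw [map_pow, map_one, hi, ← QuaternionGroup.orderOf_xa i]; exact pow_orderOf_eq_one _)
    exact congrArg Subtype.val h
  · intro s hs t ht hsc htc
    obtain ⟨i, hi⟩ := hcases ⟨s, hs⟩ hsc
    obtain ⟨j, hj⟩ := hcases ⟨t, ht⟩ htc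
    have h : (⟨s, hs⟩ : T) * ⟨t, ht⟩ = e.symm (QuaternionGroup.a ((m : ZMod (2 * m)) + j - i)) := by
      rw [e.eq_symm_apply, map_mul, hi, hj, QuaternionGroup.xa_mul_xa]
    have h' : s * t = _ := congrArg Subtype.val h
    rw [h']; exact hmem _
  · intro s hs h2
    have h : (⟨s, hs⟩ : T) = e.symm (QuaternionGroup.a (m : ZMod (2 * m))) := e.eq_symm_apply.2 (hinv ⟨s, hs⟩ h2)
    have h' : s = _ := congrArg Subtype.val h
    rw [h']; exact hmem _
  · intro s hs t ht h2 h2'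
    exact congrArg Subtype.val (e.injective ((hinv ⟨s, hs⟩ h2).trans (hinv ⟨t, ht⟩ h2').symm))

/-- A finite group with generalized quaternion Sylow 2-subgroups either has a normal 2-complement or has a section isomorphic to SL(2,3). -/
theorem result {G : Type*} [Group G] [Finite G] (T : Sylow 2 G) (n : ℕ) (hn : 1 ≤ n) (hT : Nonempty ((T : Subgroup G) ≃* QuaternionGroup (2 ^ n))) : Cfsg.HasNormalPComplement 2 G ∨ ∃ (H K : Subgroup G) (hK : (K.subgroupOf H).Normal), Nonempty ((H ⧸ K.subgroupOf H) ≃* Matrix.SpecialLinearGroup (Fin 2) (ZMod 3)) := by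
  classical
  haveI : Fact (Nat.Prime 2) := ⟨Nat.prime_two⟩
  refine or_iff_not_imp_left.2 fun hnc => ?_
  rw [Cfsg.Lib.Fusion.hasNormalPComplement_iff_exists T, Cfsg.Agent.S0071.result T] at hnc
  push Not at hnc
  obtain ⟨Q, hQT, g, hgN, hgcop, hgc⟩ := hnc
  haveI : NeZero (2 ^ n) := ⟨(Nat.two_pow_pos n).ne'⟩
  obtain ⟨eT⟩ := hT
  obtain ⟨c, -, hout, hidx, hinvc, hunique⟩ := quaternion_facts (T : Subgroup G) eT
  have hQp : IsPGroup 2 Q := T.2.to_le hQT
  -- a power of `g` inducing an automorphism of prime order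
  set Z := Subgroup.centralizer (Q : Set G) ⊓ Subgroup.normalizer (Q : Set G) with hZ
  obtain ⟨g₀, p, hp, hp2, hg₀N, hg₀c, hg₀p⟩ : ∃ (g₀ : G) (p : ℕ), p.Prime ∧ p ≠ 2 ∧
      g₀ ∈ Subgroup.normalizer (Q : Set G) ∧ g₀ ∉ Subgroup.centralizer (Q : Set G) ∧
      (Odd (orderOf g₀) ∧ g₀ ^ p ∈ Subgroup.centralizer (Q : Set G)) := by
    have hex : ∃ d : ℕ, 0 < d ∧ g ^ d ∈ Subgroup.centralizer (Q : Set G) :=
      ⟨orderOf g, orderOf_pos g, by rw [pow_orderOf_eq_one]; exact one_mem _⟩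
    obtain ⟨hd0, hd⟩ := Nat.find_spec hex
    set d := Nat.find hex with hddef
    have hodd : Odd (orderOf g) := Nat.coprime_two_right.1 hgcop
    have hdd : d ∣ orderOf g := by
      have hlt := Nat.mod_lt (orderOf g) hd0
      by_contra hne
      refine Nat.find_min hex hlt ⟨Nat.pos_of_ne_zero fun h => hne (Nat.dvd_of_mod_eq_zero h), ?_⟩
      have h1 : g ^ (d * (orderOf g / d)) * g ^ (orderOf g % d) = 1 := by
        rw [← pow_add, Nat.div_add_mod, pow_orderOf_eq_one]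
      rw [eq_inv_of_mul_eq_one_right h1, pow_mul]
      exact inv_mem (pow_mem hd _)
    have hd1 : d ≠ 1 := fun h => hgc (by rw [h, pow_one] at hd; exact hd)
    obtain ⟨p, hp, hpd⟩ := Nat.exists_prime_and_dvd hd1
    refine ⟨g ^ (d / p), p, hp, ?_, pow_mem hgN _, ?_, hodd.of_dvd_nat (orderOf_pow_dvd _), ?_⟩
    · rintro rfl
      exact (Nat.not_even_iff_odd.2 hodd) (even_iff_two_dvd.2 (hpd.trans hdd))
    · intro h
      have h2 := Nat.find_min' hex ⟨Nat.div_pos (Nat.le_of_dvd hd0 hpd) hp.pos, h⟩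
      exact absurd h2 (not_le.2 (Nat.div_lt_self hd0 hp.one_lt))
    · rw [← pow_mul, Nat.div_mul_cancel hpd]; exact hd
  set H := Q ⊔ Subgroup.zpowers g₀ with hH
  set k := g₀ ^ p with hk
  have hkH : k ∈ H := Subgroup.mem_sup_right (pow_mem (Subgroup.mem_zpowers _) _)
  have hkc : H ≤ Subgroup.centralizer ({k} : Set G) := sup_le (fun x hx => Subgroup.mem_centralizer_singleton_iff.2
      (Subgroup.mem_centralizer_iff.1 hg₀p.2 x hx))
    (Subgroup.zpowers_le.2 (Subgroup.mem_centralizer_singleton_iff.2 ((Commute.refl g₀).pow_right p).eq))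
  set K : Subgroup H := Subgroup.zpowers (⟨k, hkH⟩ : H) with hK
  haveI : K.Normal := ⟨fun x hx y => by
    obtain ⟨i, rfl⟩ := Subgroup.mem_zpowers_iff.1 hx
    have h1 : Commute y (⟨k, hkH⟩ : H) :=
      Subtype.ext (Subgroup.mem_centralizer_singleton_iff.1 (hkc y.2))
    rw [(h1.zpow_right i).eq, mul_inv_cancel_right]
    exact hx⟩
  set π := QuotientGroup.mk' K with hπ
  set F := (Q.subgroupOf H).map π with hF
  have hQH : Q ≤ H := le_sup_left
  have hker : ∀ x : H, (x : G) ∈ Q → π x = 1 → x = 1 := by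
    intro x hxQ hx
    have h1 : orderOf (x : G) ∣ orderOf k := by
      obtain ⟨i, hi⟩ := Subgroup.mem_zpowers_iff.1 ((QuotientGroup.eq_one_iff x).1 hx)
      rw [← hi]
      exact orderOf_dvd_of_mem_zpowers (Subgroup.mem_zpowers_iff.2 ⟨i, rfl⟩)
    obtain ⟨j, hj⟩ := hQp ⟨x, hxQ⟩
    have h2 : orderOf (x : G) ∣ 2 ^ j := orderOf_dvd_of_pow_eq_one (congrArg Subtype.val hj)
    refine Subtype.ext (orderOf_eq_one_iff.1 ?_)
    exact Nat.eq_one_of_dvd_coprimes (Nat.Coprime.pow_left j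
      (Nat.coprime_two_left.2 (hg₀p.1.of_dvd_nat (orderOf_pow_dvd p)))) h2 h1
  have hFmem : ∀ y ∈ F, ∃ x : H, (x : G) ∈ Q ∧ π x = y := by
    rintro _ ⟨x, hx, rfl⟩; exact ⟨x, hx, rfl⟩
  have hQmem : ∀ x : H, (x : G) ∈ Q → π x ∈ F := fun x hx => ⟨x, hx, rfl⟩
  obtain ⟨q, hqQ, hqne⟩ : ∃ q ∈ Q, g₀ * q * g₀⁻¹ ≠ q := by
    by_contra hcon
    push Not at hcon
    exact hg₀c (Subgroup.mem_centralizer_iff.2 fun x hx => (mul_inv_eq_iff_eq_mul.1 (hcon x hx)).symm)
  have hQ1 : Q ≠ ⊥ := fun h => hqne (by rw [Subgroup.mem_bot.1 (h.le hqQ)]; group)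
  obtain ⟨z, -, -, hzo⟩ := Cfsg.Lib.PGroup.exists_mem_center_orderOf_eq hQp
    (show (⊤ : Subgroup Q) ≠ ⊥ from fun h => hQ1 (by
      rw [← Subgroup.range_subtype Q, MonoidHom.range_eq_map, h, Subgroup.map_bot]))
  rw [← Subgroup.orderOf_coe] at hzo
  obtain ⟨i₀, hi₀⟩ : ∃ i : ℤ, c ^ i = (z : G) := Subgroup.mem_zpowers_iff.1 (hinvc z (hQT z.2) hzo)
  -- a generator of the cyclic part inside `Q`
  haveI : IsCyclic ↥(Subgroup.zpowers c ⊓ Q) := Subgroup.isCyclic_of_le (inf_le_left : _ ≤ Subgroup.zpowers c)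
  obtain ⟨⟨c', hc'⟩, hgen⟩ := IsCyclic.exists_zpow_surjective (G := ↥(Subgroup.zpowers c ⊓ Q))
  have hK' : ∀ x ∈ Q, x ∈ Subgroup.zpowers c → ∃ i : ℤ, c' ^ i = x := fun x hx hxc =>
    (hgen ⟨x, hxc, hx⟩).imp fun i hi => congrArg Subtype.val hi
  set c'' := π ⟨c', hQH hc'.2⟩ with hc''
  have hin : ∀ x : H, (x : G) ∈ Q → π x ∉ Subgroup.zpowers c'' → (x : G) ∉ Subgroup.zpowers c := by
    intro x hx hxn hxc
    obtain ⟨i, hi⟩ := hK' x hx hxc
    refine hxn ⟨i, ?_⟩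
    show c'' ^ i = π x
    rw [hc'', ← map_zpow]
    exact congrArg π (Subtype.ext hi)
  set γ := π ⟨g₀, Subgroup.mem_sup_right (Subgroup.mem_zpowers _)⟩ with hγ
  obtain ⟨iz, hiz⟩ := hK' z z.2 (hinvc z (hQT z.2) hzo)
  set zz := π ⟨z, hQH z.2⟩ with hzz
  obtain ⟨a, b, h, haF, hbF, ha4, ha2, hbb, hba, hga, hgb, hh3, hh1, hbn, -⟩ :=
    Cfsg.Agent.S2879.quaternion_gens (T := F) (F := F) (c := c'')
      (fun s hs hsc => by
        obtain ⟨x, hx, rfl⟩ := hFmem s hs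
        rw [← map_pow, show x ^ 4 = 1 from Subtype.ext (hout x (hQT hx) (hin x hx hsc)), map_one])
      (fun s hs t ht hsc htc => by
        obtain ⟨x, hx, rfl⟩ := hFmem s hs
        obtain ⟨y, hy, rfl⟩ := hFmem t ht
        obtain ⟨i, hi⟩ := hK' _ (mul_mem hx hy) (hidx x (hQT hx) y (hQT hy) (hin x hx hsc) (hin y hy htc))
        refine ⟨i, ?_⟩
        show c'' ^ i = π x * π y
        rw [hc'', ← map_zpow, ← map_mul]
        exact congrArg π (Subtype.ext hi))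
      le_rfl ((hQp.of_equiv (Subgroup.subgroupOfEquivOfLe hQH).symm).map π) hp hp2 (g := γ)
      (by
        rw [hγ, ← map_pow]
        exact (QuotientGroup.eq_one_iff _).2 (Subgroup.mem_zpowers _))
      (fun y hy => by
        obtain ⟨x, hx, rfl⟩ := hFmem y hy
        rw [hγ, ← map_mul, ← map_inv, ← map_mul]
        exact hQmem _ ((Subgroup.mem_normalizer_iff.1 hg₀N _).1 hx))
      ⟨π ⟨q, hQH hqQ⟩, hQmem _ hqQ, fun he => by
        rw [hγ, ← map_mul, ← map_inv, ← map_mul, ← mul_inv_eq_one, ← map_inv, ← map_mul] at he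
        have h3 := congrArg Subtype.val (hker _ (mul_mem ((Subgroup.mem_normalizer_iff.1 hg₀N _).1 hqQ) (inv_mem hqQ)) he)
        exact hqne (mul_inv_eq_one.1 h3)⟩
      (z := zz) (hQmem _ z.2)
      (fun h1 => by
        have := congrArg Subtype.val (hker ⟨z, hQH z.2⟩ z.2 h1)
        rw [show (z : G) = 1 from this, orderOf_one] at hzo
        omega)
      (by
        rw [hzz, ← map_mul, show (⟨z, hQH z.2⟩ : H) * ⟨z, hQH z.2⟩ = 1 from Subtype.ext (by
          show (z : G) * z = 1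
          rw [← sq, ← hzo, pow_orderOf_eq_one]), map_one])
      ⟨iz, by
        show c'' ^ iz = zz
        rw [hc'', ← map_zpow]
        exact congrArg π (Subtype.ext hiz)⟩
      (by
        rw [hγ, hzz, ← map_mul, ← map_inv, ← map_mul]
        refine congrArg π (Subtype.ext ?_)
        refine hunique _ (hQT ((Subgroup.mem_normalizer_iff.1 hg₀N _).1 z.2)) _ (hQT z.2) ?_ hzo
        show orderOf (g₀ * z * g₀⁻¹) = 2
        rw [← MulAut.conj_apply, MulEquiv.orderOf_eq, hzo])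
  have hhF : h ∉ F := fun hh => by
    obtain ⟨x, hx, rfl⟩ := hFmem h hh
    obtain ⟨j, hj⟩ := hQp ⟨x, hx⟩
    refine hh1 (orderOf_eq_one_iff.1 (Nat.eq_one_of_dvd_coprimes (Nat.Coprime.pow_left j (by norm_num : Nat.Coprime 2 3))
      ((orderOf_map_dvd π x).trans (orderOf_dvd_of_pow_eq_one (show x ^ 2 ^ j = 1 from Subtype.ext (congrArg (fun w : Q => (w : G)) hj))))
      (orderOf_dvd_of_pow_eq_one hh3)))
  obtain ⟨Φ, hΦ⟩ := Cfsg.Agent.S2879.sl23_hom ha4 ha2 hbb hba hga hgb hh3 haF hbF hhF hbn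
  let e := (MonoidHom.ofInjective hΦ).symm
  let H₃ : Subgroup H := Φ.range.comap π
  let f : ↥(H₃.map H.subtype) →* Matrix.SpecialLinearGroup (Fin 2) (ZMod 3) :=
    e.toMonoidHom.comp ((π.subgroupComap Φ.range).comp (H₃.equivMapOfInjective H.subtype H.subtype_injective).symm.toMonoidHom)
  have hf : Function.Surjective f := by
    intro w
    obtain ⟨⟨y, hy⟩, hyw⟩ := e.surjective w
    obtain ⟨x, rfl⟩ := QuotientGroup.mk'_surjective K y
    obtain ⟨u, hu⟩ := (H₃.equivMapOfInjective H.subtype H.subtype_injective).symm.surjective (⟨x, hy⟩ : H₃)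
    refine ⟨u, ?_⟩
    show e ((π.subgroupComap Φ.range) ((H₃.equivMapOfInjective H.subtype H.subtype_injective).symm u)) = w
    rw [hu]
    exact hyw
  obtain ⟨A, B, hB, hiso⟩ := Cfsg.Lib.FusionSys.involves_iff_exists_hom.2 ⟨_, f, hf⟩
  exact ⟨A, B, hB, hiso⟩

end Cfsg.Agent.S0106
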