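import Cfsg.Statements.S0721
import Mathlib

set_option autoImplicit false
open Cfsg
open scoped Pointwise

namespace Cfsg.Agent.S0721

/-- A minimal normal subgroup of a finite group is isomorphic to a direct power `T ^ m` of a simple group `T` (possibly of prime order). -/
theorem result {H : Type*} [Group H] [Finite H] (N : Subgroup H) [N.Normal] (hN : N ≠ ⊥) (hmin : ∀ M : Subgroup H, M.Normal → M ≤ N → M = ⊥ ∨ M = N) : ∃ (T : Type) (_ : Group T) (m : ℕ), IsSimpleGroup T ∧ 0 < m ∧ Nonempty (N ≃* (Fin m → T)) := by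
  classical
  haveI : Nontrivial N := by rwa [Subgroup.nontrivial_iff_ne_bot]
  -- a minimal normal subgroup of `N`
  obtain ⟨S, ⟨hSn, hSne⟩, hSmin⟩ : ∃ S : Subgroup H, ((S ≤ N ∧ (S.subgroupOf N).Normal) ∧ S ≠ ⊥) ∧
      ∀ R : Subgroup H, ((R ≤ N ∧ (R.subgroupOf N).Normal) ∧ R ≠ ⊥) → R ≤ S → R = S := by
    have hne : {R : Subgroup H | (R ≤ N ∧ (R.subgroupOf N).Normal) ∧ R ≠ ⊥}.Nonempty :=
      ⟨N, ⟨le_rfl, by rw [Subgroup.subgroupOf_self]; infer_instance⟩, hN⟩
    obtain ⟨S, hS, hmn⟩ := Set.Finite.exists_minimal (Set.toFinite _) hne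
    exact ⟨S, hS, fun R hR hle => le_antisymm hle (hmn hR hle)⟩
  let C : H → Subgroup H := fun h => S.map (MulAut.conj h).toMonoidHom
  have Cmem : ∀ h x, x ∈ C h ↔ h⁻¹ * x * h ∈ S := by
    intro h x
    constructor
    · rintro ⟨y, hy, rfl⟩
      simpa [mul_assoc] using hy
    · intro hx
      exact ⟨h⁻¹ * x * h, hx, by simp [mul_assoc]⟩
  have CN : ∀ h, C h ≤ N := by
    intro h x hx
    have := (inferInstance : N.Normal).conj_mem _ (hSn.1 ((Cmem h x).1 hx)) h
    simpa [mul_assoc] using this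
  have Sconj : ∀ n ∈ N, ∀ s ∈ S, n * s * n⁻¹ ∈ S := fun n hn s hs =>
    (hSn.2.conj_mem ⟨s, hSn.1 hs⟩ hs ⟨n, hn⟩)
  have Cnorm : ∀ h, ∀ n ∈ N, ∀ x ∈ C h, n * x * n⁻¹ ∈ C h := by
    intro h n hn x hx
    rw [Cmem] at hx ⊢
    have hn' : h⁻¹ * n * h ∈ N := by simpa using (inferInstance : N.Normal).conj_mem n hn h⁻¹
    have := Sconj _ hn' _ hx
    simpa [mul_assoc] using this
  have Ccard : ∀ h, C h ≠ ⊥ := fun h => by
    rwa [ne_eq, Subgroup.map_eq_bot_iff_of_injective _ (MulAut.conj h).injective]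
  have Cmin : ∀ h, ∀ R : Subgroup H, R ≤ C h → (∀ n ∈ N, ∀ x ∈ R, n * x * n⁻¹ ∈ R) → R ≠ ⊥ → R = C h := by
    intro h R hle hR hne
    have hle' : R.map (MulAut.conj h⁻¹).toMonoidHom ≤ S := by
      rintro _ ⟨x, hx, rfl⟩
      simpa using (Cmem h x).1 (hle hx)
    have he := hSmin (R.map (MulAut.conj h⁻¹).toMonoidHom) ⟨⟨hle'.trans hSn.1, ⟨fun x hx g => by
      obtain ⟨y, hy, hyx⟩ := (Subgroup.mem_subgroupOf.1 hx)
      refine Subgroup.mem_subgroupOf.2 ⟨(h * (g : H) * h⁻¹) * y * (h * (g : H) * h⁻¹)⁻¹,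
        hR _ ((inferInstance : N.Normal).conj_mem _ g.2 h) y hy, ?_⟩
      have hyx' : h⁻¹ * y * h = (x : H) := by simpa using hyx
      simp [← hyx', mul_assoc]⟩⟩, by rwa [ne_eq, Subgroup.map_eq_bot_iff_of_injective _ (MulAut.conj h⁻¹).injective]⟩ hle'
    show R = S.map _
    rw [← he, Subgroup.map_map]
    ext x
    simp [mul_assoc]
  -- a maximal independent family of conjugates
  let Good : Finset (Subgroup H) → Prop := fun F => (∀ A ∈ F, ∃ h, A = C h) ∧ sSupIndep (F : Set (Subgroup H))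
  obtain ⟨F, hF, hFmax⟩ : ∃ F, Good F ∧ ∀ F', Good F' → F ⊆ F' → F' = F := by
    haveI : Fintype (Subgroup H) := Fintype.ofFinite _
    obtain ⟨F, hF, hmax⟩ := Set.Finite.exists_maximal (Set.toFinite {F | Good F}) ⟨∅, by simp [Good, sSupIndep]⟩
    exact ⟨F, hF, fun F' h1 h2 => le_antisymm (hmax h1 h2) h2⟩
  set U : Subgroup H := sSup (F : Set (Subgroup H))
  have hUN : U ≤ N := sSup_le fun A hA => by obtain ⟨h, rfl⟩ := hF.1 A hA; exact CN h
  have supNorm : ∀ T : Set (Subgroup H), (∀ A ∈ T, ∃ h, A = C h) → ∀ n ∈ N, ∀ x ∈ sSup T, n * x * n⁻¹ ∈ sSup T := by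
    intro T hT n hn x hx
    have : sSup T ≤ (sSup T).comap (MulAut.conj n).toMonoidHom := sSup_le fun A hA y hy => by
      obtain ⟨h, rfl⟩ := hT A hA
      exact le_sSup (s := T) hA (Cnorm h n hn y hy)
    exact this hx
  have allC : ∀ h, C h ≤ U := by
    intro h
    by_contra hnot
    have hdis : Disjoint (C h) U := by
      rw [disjoint_iff]
      by_contra hne
      exact hnot (inf_eq_left.1 (Cmin h (C h ⊓ U) inf_le_left
        (fun n hn x hx => ⟨Cnorm h n hn x hx.1, supNorm _ hF.1 n hn x hx.2⟩) hne))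
    have hmemF : C h ∉ F := fun hm => hnot (le_sSup hm)
    have hgood : Good (insert (C h) F) := by
      refine ⟨fun A hA => ?_, ?_⟩
      · rcases Finset.mem_insert.1 hA with rfl | hA
        · exact ⟨h, rfl⟩
        · exact hF.1 A hA
      · intro A hA
        rw [Finset.coe_insert] at hA ⊢
        rcases Set.mem_insert_iff.1 hA with rfl | hA
        · exact hdis.mono_right (sSup_le_sSup fun B hB => (Set.mem_insert_iff.1 hB.1).resolve_left hB.2)
        · have hA' : A ∈ F := hA
          have hne : A ≠ C h := fun e => hmemF (e ▸ hA')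
          rw [show insert (C h) (F : Set (Subgroup H)) \ {A} = insert (C h) ((F : Set (Subgroup H)) \ {A}) from by
            ext B; simp only [Set.mem_diff, Set.mem_insert_iff, Set.mem_singleton_iff]; constructor
            · rintro ⟨h1 | h1, h2⟩
              · exact Or.inl h1
              · exact Or.inr ⟨h1, h2⟩
            · rintro (rfl | ⟨h1, h2⟩)
              · exact ⟨Or.inl rfl, Ne.symm hne⟩
              · exact ⟨Or.inr h1, h2⟩, sSup_insert, disjoint_iff_inf_le]
          intro x hx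
          obtain ⟨a, ha⟩ := hF.1 A hA'
          set V := sSup ((F : Set (Subgroup H)) \ {A})
          have hCn : C h ≤ Subgroup.normalizer (V : Set H) := by
            intro c hc
            have hT : ∀ B ∈ (F : Set (Subgroup H)) \ {A}, ∃ k, B = C k := fun B hB => hF.1 B hB.1
            rw [Subgroup.mem_normalizer_iff]
            refine fun y => ⟨fun hy => supNorm _ hT c (CN h hc) y hy, fun hy => ?_⟩
            have := supNorm _ hT c⁻¹ (N.inv_mem (CN h hc)) _ hy
            simpa [mul_assoc] using this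
          have hx2 : x ∈ ((C h : Set H) * (V : Set H)) := by
            rw [← Subgroup.coe_mul_of_left_le_normalizer_right _ _ hCn]; exact hx.2
          obtain ⟨c, hc, v, hv, hcv⟩ := hx2
          have hvU : v ∈ U := sSup_le_sSup (s := (F : Set (Subgroup H)) \ {A}) (fun B hB => hB.1) hv
          have hxU : x ∈ U := le_sSup (s := (F : Set (Subgroup H))) hA' hx.1
          have hcU : c ∈ U := by
            have : c = x * v⁻¹ := eq_mul_inv_of_mul_eq hcv
            rw [this]; exact U.mul_mem hxU (U.inv_mem hvU)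
          have hc1 : c = 1 := (Subgroup.disjoint_def.1 hdis) hc hcU
          have hxv : x = v := by rw [← hcv, hc1]; simp
          exact (hF.2 hA').le_bot ⟨hx.1, hxv ▸ hv⟩
    exact hmemF (hFmax _ hgood (Finset.subset_insert _ _) ▸ Finset.mem_insert_self _ _)
  have hUtop : U = N := by
    have hn : (⨆ h, C h).Normal := by
      refine ⟨fun x hx g => ?_⟩
      have : (⨆ h, C h) ≤ (⨆ h, C h).comap (MulAut.conj g).toMonoidHom := iSup_le fun h y hy => by
        refine le_iSup C (g * h) ?_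
        rw [Cmem] at hy ⊢
        simpa [mul_assoc] using hy
      exact this hx
    rcases hmin _ hn (iSup_le CN) with e | e
    · exact absurd (le_bot_iff.1 (e ▸ le_iSup C 1)) (Ccard 1)
    · exact le_antisymm hUN (e ▸ iSup_le allC)
  -- the factors commute and are simple
  have hcomm : ∀ A B : {A // A ∈ F}, A ≠ B → ∀ x y : H, x ∈ A.1 → y ∈ B.1 → Commute x y := by
    intro A B hAB x y hx hy
    obtain ⟨a, ha⟩ := hF.1 A A.2
    obtain ⟨b, hb⟩ := hF.1 B B.2
    have hd : Disjoint A.1 B.1 := (hF.2 A.2).mono_right (le_sSup (show B.1 ∈ (F : Set (Subgroup H)) \ {A.1} from ⟨B.2, fun e => hAB (Subtype.ext (Set.mem_singleton_iff.1 e).symm)⟩))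
    have h1 : x * y * x⁻¹ * y⁻¹ ∈ A.1 := by
      rw [show x * y * x⁻¹ * y⁻¹ = x * (y * x⁻¹ * y⁻¹) by group]
      refine A.1.mul_mem hx ?_
      rw [ha] at hx ⊢
      exact Cnorm a y (CN b (hb ▸ hy)) _ (inv_mem hx)
    have h2 : x * y * x⁻¹ * y⁻¹ ∈ B.1 := by
      refine B.1.mul_mem ?_ (B.1.inv_mem hy)
      rw [hb] at hy ⊢
      exact Cnorm b x (CN a (ha ▸ hx)) _ hy
    exact mul_inv_eq_iff_eq_mul.1 (mul_inv_eq_one.1 ((Subgroup.disjoint_def.1 hd) h1 h2))
  haveI : Nonempty {A // A ∈ F} := by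
    by_contra hcon
    apply hN
    rw [← hUtop]
    show sSup (F : Set (Subgroup H)) = ⊥
    rw [sSup_eq_bot]
    exact fun A hA => absurd ⟨⟨A, hA⟩⟩ hcon
  let f : (∀ A : {A // A ∈ F}, A.1) →* H := Subgroup.noncommPiCoprod (H := fun A : {A // A ∈ F} => A.1) hcomm
  have hind : iSupIndep fun A : {A // A ∈ F} => A.1 := sSupIndep_iff _ |>.1 hF.2
  have hinj : Function.Injective f := Subgroup.injective_noncommPiCoprod_of_iSupIndep hind
  have hrange : f.range = N := by
    rw [← hUtop]
    exact Subgroup.noncommPiCoprod_range.trans (sSup_eq_iSup' _).symm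
  -- each factor is isomorphic to `S`
  have hiso : ∀ A : {A // A ∈ F}, Nonempty (A.1 ≃* S) := by
    intro A
    obtain ⟨h, hh⟩ := hF.1 A A.2
    rw [hh]
    exact ⟨(S.equivMapOfInjective _ (MulAut.conj h).injective).symm⟩
  have hsimple : IsSimpleGroup S := by
    haveI : Nontrivial S := by rwa [Subgroup.nontrivial_iff_ne_bot]
    refine ⟨fun R hR => ?_⟩
    by_cases hRb : R = ⊥
    · exact Or.inl hRb
    right
    -- `R` is normal in `N`
    have hS' : S = C 1 := by ext x; rw [Cmem]; simp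
    have hSU : ∀ n ∈ U, ∀ r ∈ R.map S.subtype, n * r * n⁻¹ ∈ R.map S.subtype := by
      have gen : U ≤ Subgroup.normalizer ((R.map S.subtype : Subgroup H) : Set H) := by
        have hSN : S ≤ Subgroup.normalizer ((R.map S.subtype : Subgroup H) : Set H) := by
          intro s hs
          rw [Subgroup.mem_normalizer_iff]
          intro r
          constructor
          · rintro ⟨t, ht, rfl⟩
            exact ⟨⟨s, hs⟩ * t * ⟨s, hs⟩⁻¹, hR.conj_mem t ht _, rfl⟩
          · rintro ⟨t, ht, htr⟩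
            refine ⟨⟨s, hs⟩⁻¹ * t * ⟨s, hs⟩, by simpa using hR.conj_mem t ht ⟨s, hs⟩⁻¹, ?_⟩
            show s⁻¹ * (t : H) * s = r
            rw [show (t : H) = s * r * s⁻¹ from htr]; group
        refine sSup_le fun A hA => ?_
        obtain ⟨h, rfl⟩ := hF.1 A hA
        by_cases hCS : C h = S
        · intro y hy; rw [hCS] at hy; exact hSN hy
        intro c hc
        have hd : C h ⊓ S = ⊥ := by
          by_contra hne
          have e := Cmin h (C h ⊓ S) inf_le_left (fun n hn x hx => ⟨Cnorm h n hn x hx.1, Sconj n hn x hx.2⟩) hne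
          have hle : C h ≤ S := inf_eq_left.1 e
          exact hCS ((Cmin 1 (C h) (hS' ▸ hle) (Cnorm h) (Ccard h)).trans hS'.symm)
        rw [Subgroup.mem_normalizer_iff]
        intro r
        have com : ∀ s ∈ S, c * s * c⁻¹ = s := by
          intro s hs
          have h1 : c * s * c⁻¹ * s⁻¹ ∈ S := S.mul_mem (Sconj c (CN h hc) s hs) (S.inv_mem hs)
          have h2 : c * s * c⁻¹ * s⁻¹ ∈ C h := by
            rw [show c * s * c⁻¹ * s⁻¹ = c * (s * c⁻¹ * s⁻¹) by group]
            exact mul_mem hc (Cnorm h s (hSn.1 hs) _ (inv_mem hc))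
          exact mul_inv_eq_one.1 ((Subgroup.disjoint_def.1 (disjoint_iff.2 hd)) h2 h1)
        constructor
        · intro hr
          rw [com r (Subgroup.map_subtype_le _ hr)]; exact hr
        · intro hr
          have h3 : c * r * c⁻¹ ∈ S := Subgroup.map_subtype_le _ hr
          have h4 : r ∈ S := by
            have := Sconj c⁻¹ (N.inv_mem (CN h hc)) _ h3
            simpa [mul_assoc] using this
          rwa [com r h4] at hr
      intro n hn r hr
      exact (Subgroup.mem_normalizer_iff.1 (gen hn) r).1 hr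
    have := Cmin 1 (R.map S.subtype) (hS' ▸ Subgroup.map_subtype_le _)
      (fun n hn x hx => hSU n (hUtop ▸ hn) x hx) (by
        rwa [ne_eq, Subgroup.map_eq_bot_iff_of_injective _ S.subtype_injective])
    rw [← hS'] at this
    rw [eq_top_iff]
    intro s _
    obtain ⟨t, ht, hts⟩ := (this.symm ▸ s.2 : (s : H) ∈ R.map S.subtype)
    exact (Subtype.ext hts : t = s) ▸ ht
  obtain ⟨m, ⟨e1⟩⟩ := Finite.exists_equiv_fin {A // A ∈ F}
  haveI : Small.{0} S := inferInstance
  have eS : S ≃* Shrink.{0} S := Shrink.mulEquiv.symm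
  refine ⟨Shrink.{0} S, inferInstance, m, ?_, ?_, ⟨?_⟩⟩
  · haveI := hsimple
    exact eS.symm.isSimpleGroup
  · rcases Nat.eq_zero_or_pos m with rfl | hm
    · exact (e1 (Classical.arbitrary _)).elim0
    · exact hm
  · have a1 : N ≃* (∀ A : {A // A ∈ F}, A.1) :=
      ((MonoidHom.ofInjective hinj).trans (MulEquiv.subgroupCongr hrange)).symm
    have a2 : (∀ A : {A // A ∈ F}, A.1) ≃* ({A // A ∈ F} → Shrink.{0} S) :=
      MulEquiv.piCongrRight fun A => (hiso A).some.trans eS
    let a3 : ({A // A ∈ F} → Shrink.{0} S) ≃* (Fin m → Shrink.{0} S) :=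
      { toFun := fun f i => f (e1.symm i)
        invFun := fun f A => f (e1 A)
        left_inv := fun f => funext fun A => by simp
        right_inv := fun f => funext fun i => by simp
        map_mul' := fun f g => rfl }
    exact a1.trans (a2.trans a3)

end Cfsg.Agent.S0721
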