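import Cfsg.Statements.S0811
import Cfsg.Agent.Lib.Dickson.DihedralMax

set_option autoImplicit false
open Cfsg

namespace Cfsg.Agent.S0811

/-- For q ∉ {2, 7, 9}, PSL_2(q) has a maximal subgroup isomorphic to the dihedral group of order 2(q + 1)/d, d = gcd(2, q − 1). -/
theorem result {F : Type*} [Field F] [Fintype F] {q : ℕ} (hF : Fintype.card F = q) (hq : q ∉ ({2, 7, 9} : Finset ℕ)) : ∃ H : Subgroup (Matrix.ProjectiveSpecialLinearGroup (Fin 2) F), IsCoatom H ∧ Nonempty (H ≃* DihedralGroup ((q + 1) / Nat.gcd 2 (q - 1))) := by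
  classical
  simp only [Finset.mem_insert, Finset.mem_singleton, not_or] at hq
  obtain ⟨h2, h7, h9⟩ := hq
  have hge : 2 ≤ Fintype.card F := Cfsg.Lib.Dickson.two_le_card
  rcases Nat.lt_or_ge q 4 with h4 | h4
  · obtain rfl : q = 3 := by omega
    rw [show (3 + 1) / Nat.gcd 2 (3 - 1) = 2 by rfl]
    obtain ⟨e⟩ := Cfsg.Lib.Linear.Two.psl_equiv_alternating (F := F) (n := 4) (by omega) (by
      have h := Cfsg.Lib.Linear.Two.card_PSL_two (F := F)
      rw [hF] at h
      simp [Nat.factorial] at h ⊢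
      omega)
    have hc : Nat.card (Matrix.ProjectiveSpecialLinearGroup (Fin 2) F) = 12 := by
      rw [Nat.card_congr e.toEquiv, nat_card_alternatingGroup, Nat.card_fin]; rfl
    obtain ⟨x, w, hx, hw, hwx, hne⟩ : ∃ x w : alternatingGroup (Fin 4), x ^ 2 = 1 ∧ w * w = 1 ∧
        w * x * w⁻¹ = x⁻¹ ∧ x ≠ 1 ∧ w ≠ 1 ∧ w ≠ x := by decide
    have ho : orderOf x = 2 := orderOf_eq_prime hx hne.1
    have hwm : w ∉ Subgroup.zpowers x := by
      intro h
      obtain ⟨i, hi⟩ := mem_powers_iff_mem_zpowers.mpr h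
      rcases Nat.even_or_odd' i with ⟨j, rfl | rfl⟩
      · exact hne.2.1 (by rw [← hi]; simp [pow_mul, hx])
      · exact hne.2.2 (by rw [← hi]; simp [pow_succ, pow_mul, hx])
    let φ := (e.symm.toMonoidHom).comp
      (Cfsg.Lib.Invol.dihedralHom (orderOf x) (pow_orderOf_eq_one x) hw hwx)
    have hφ : Function.Injective φ :=
      e.symm.injective.comp (Cfsg.Lib.Invol.dihedralHom_injective hw hwx hwm)
    have e₁ : DihedralGroup (orderOf x) ≃* DihedralGroup 2 := by rw [ho]
    let e₀ : φ.range ≃* DihedralGroup 2 := (MonoidHom.ofInjective hφ).symm.trans e₁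
    have hc₀ : Nat.card φ.range = 4 := by rw [Nat.card_congr e₀.toEquiv, DihedralGroup.nat_card]
    refine ⟨φ.range, Cfsg.Lib.Dickson.isCoatom_of_overgroups (fun h => ?_) fun H hlt => ?_, ⟨e₀⟩⟩
    · rw [h, Subgroup.card_top] at hc₀
      omega
    · obtain ⟨h1, h3⟩ := Cfsg.Lib.Dickson.card_lt_of_lt hlt
      have h5 := Subgroup.card_subgroup_dvd_card H
      rw [hc₀] at h1 h3
      rw [hc] at h5
      refine Subgroup.eq_top_of_card_eq H ?_
      have := Nat.le_of_dvd (by norm_num) h5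
      generalize Nat.card H = N at *
      interval_cases N <;> first | omega | (revert h3 h5; norm_num)
  · subst hF
    exact Cfsg.Lib.Dickson.exists_maximal_dihedral _ h4 h9 (Or.inl ⟨rfl, h7⟩)

end Cfsg.Agent.S0811
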