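import Cfsg.Statements.S3669
import Cfsg.Agent.Lib.OrderLeHundred
import Cfsg.Agent.Lib.Char.Formulas
import Cfsg.Agent.Lib.Char.Ito
import Cfsg.Agent.Lib.Char.DegreeDiv
import Cfsg.Agent.Lib.Char.Linear

set_option autoImplicit false
set_option maxHeartbeats 1000000
set_option maxRecDepth 100000
open Cfsg

namespace Cfsg.Agent.S3669

open Cfsg.Lib.Char

universe u

/-- Sylow orders and numbers. -/
theorem scount {M : Type*} [Group M] [Finite M] (p : ℕ) [hp : Fact p.Prime] {k m : ℕ}
    (hk : Nat.card M = p ^ k * m) (hm : ¬ p ∣ m) :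
    (∀ P : Sylow p M, Nat.card (P : Subgroup M) = p ^ k) ∧ Nat.card (Sylow p M) ∣ m ∧
      Nat.card (Sylow p M) % p = 1 % p := by
  have hm0 : m ≠ 0 := by rintro rfl; simp at hm
  have hc : ∀ P : Sylow p M, Nat.card (P : Subgroup M) = p ^ k := by
    intro P
    rw [P.card_eq_multiplicity, hk, Nat.factorization_mul (pow_ne_zero _ hp.out.ne_zero) hm0]
    simp [Nat.factorization_eq_zero_of_not_dvd hm, Nat.Prime.factorization_pow hp.out,
      Nat.Prime.factorization_self hp.out]
  obtain ⟨P⟩ : Nonempty (Sylow p M) := inferInstance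
  refine ⟨hc, ?_, card_sylow_modEq_one p M⟩
  have h1 := P.card_dvd_index
  have h2 := Subgroup.index_mul_card (P : Subgroup M)
  rw [hc P, hk] at h2
  have : (P : Subgroup M).index = m := by
    have := pow_pos hp.out.pos k
    nlinarith
  rwa [this] at h1

/-- Five divides some degree of the alternating group of degree five. -/
theorem five_mem : 5 ∈ Cfsg.degreePrimes (alternatingGroup (Fin 5)) := by
  classical
  set A := alternatingGroup (Fin 5) with hA
  have hcard : Nat.card A = 60 := by rw [hA, nat_card_alternatingGroup, Nat.card_fin]; rfl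
  have hpairs : (Finset.univ.filter fun p : A × A => p.1 * p.2 = p.2 * p.1).card = 300 := by
    decide +kernel
  have hk : Nat.card (IrrCharacter A) = 5 := by
    have h1 := card_comm_eq_card_conjClasses_mul_card A
    rw [Nat.card_eq_fintype_card, Fintype.card_subtype, hcard] at h1
    have h2 : (Finset.univ.filter fun p : A × A => Commute p.1 p.2).card = 300 := by
      rw [← hpairs]
      exact congrArg Finset.card (Finset.ext fun p => by simp [commute_iff_eq])
    rw [h2] at h1
    rw [card_irr_eq_card_conjClasses]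
    omega
  have hperf : commutator A = ⊤ := by
    haveI : IsSimpleGroup A := alternatingGroup.isSimpleGroup (by simp)
    refine (IsSimpleGroup.eq_bot_or_eq_top_of_normal _ inferInstance).resolve_left fun h => ?_
    have hc : ∀ a b : A, a * b = b * a := by
      intro a b
      have h1 := Subgroup.commutator_mem_commutator (Subgroup.mem_top a) (Subgroup.mem_top b)
      rw [← commutator_def, h, Subgroup.mem_bot, commutatorElement_eq_one_iff_mul_comm] at h1
      exact h1
    have : (Finset.univ.filter fun p : A × A => p.1 * p.2 = p.2 * p.1).card = 3600 := by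
      rw [Finset.filter_true_of_mem fun p _ => hc p.1 p.2, Finset.card_univ, Fintype.card_prod,
        ← Nat.card_eq_fintype_card, hcard]
    omega
  have h1lin : Nat.card {χ : IrrCharacter A // (χ : A → ℂ) 1 = 1} = 1 := by
    rw [card_degree_one, hperf, Subgroup.index_top]
  choose d hdpos hd using fun χ : IrrCharacter A => χ.2.exists_degree
  refine ⟨by norm_num, ?_⟩
  by_contra hno
  push Not at hno
  have h5 : ∀ χ, ¬ 5 ∣ d χ := by
    intro χ h
    refine hno (charDegree (χ : A → ℂ)) ⟨χ, rfl⟩ ?_
    have := χ.2.apply_one_eq_charDegree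
    rw [hd χ] at this
    rwa [← (show d χ = charDegree (χ : A → ℂ) by exact_mod_cast this)]
  have hdvd : ∀ χ, d χ ∣ 60 := by
    intro χ
    have h := charDegree_dvd_card χ.2
    have := χ.2.apply_one_eq_charDegree
    rw [hd χ] at this
    rw [← (show d χ = charDegree (χ : A → ℂ) by exact_mod_cast this), hcard] at h
    exact h
  have hsum : ∑ χ, d χ ^ 2 = 60 := by
    have := sum_sq_degree (G := A)
    simp only [hd, hcard] at this
    exact_mod_cast this
  have hone : (Finset.univ.filter fun χ => d χ = 1).card = 1 := by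
    refine Eq.trans ?_ h1lin
    rw [Nat.card_eq_fintype_card, Fintype.card_subtype]
    congr 1
    ext χ
    simp [hd]
  obtain ⟨e⟩ := Fintype.truncEquivFinOfCardEq (α := IrrCharacter A)
    (by rw [← Nat.card_eq_fintype_card, hk]) |>.nonempty
  have hsum' : ∑ i : Fin 5, d (e.symm i) ^ 2 = 60 := by rw [← hsum, e.symm.sum_comp (fun χ => d χ ^ 2)]
  have hone' : (Finset.univ.filter fun i : Fin 5 => d (e.symm i) = 1).card = 1 := by
    refine Eq.trans ?_ hone
    exact Finset.card_equiv e.symm (by simp)
  have hmem : ∀ i, d (e.symm i) ∈ ({1, 2, 3, 4, 6} : Finset ℕ) := by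
    intro i
    set χ := e.symm i
    have hle : d χ ^ 2 ≤ 60 := hsum ▸ Finset.single_le_sum (f := fun ψ => d ψ ^ 2)
      (fun _ _ => Nat.zero_le _) (Finset.mem_univ χ)
    have h7 : d χ ≤ 7 := by nlinarith
    have := hdvd χ
    have := h5 χ
    have := hdpos χ
    interval_cases (d χ) <;> simp_all
  have hall : ∀ a ∈ ({1, 2, 3, 4, 6} : Finset ℕ), ∀ b ∈ ({1, 2, 3, 4, 6} : Finset ℕ),
      ∀ c ∈ ({1, 2, 3, 4, 6} : Finset ℕ), ∀ u ∈ ({1, 2, 3, 4, 6} : Finset ℕ),
      ∀ v ∈ ({1, 2, 3, 4, 6} : Finset ℕ), a ^ 2 + b ^ 2 + c ^ 2 + u ^ 2 + v ^ 2 = 60 →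
      (Finset.univ.filter fun i : Fin 5 => ![a, b, c, u, v] i = 1).card = 1 → False := by
    decide +kernel
  refine hall _ (hmem 0) _ (hmem 1) _ (hmem 2) _ (hmem 3) _ (hmem 4) ?_ ?_
  · simpa [Fin.sum_univ_five] using hsum'
  · refine Eq.trans ?_ hone'
    refine congrArg Finset.card (Finset.ext fun i => ?_)
    fin_cases i <;> simp

/-- A permutation of order dividing five of fewer than five points is trivial. -/
theorem perm_small {Y : Type*} [Finite Y] (hY : Nat.card Y < 5) (σ : Equiv.Perm Y) (h : σ ^ 5 = 1) :
    σ = 1 := by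
  classical
  have := Fintype.ofFinite Y
  rcases (Nat.dvd_prime (by norm_num)).mp (orderOf_dvd_of_pow_eq_one h) with h1 | h1
  · exact orderOf_eq_one_iff.mp h1
  · have h2 := orderOf_dvd_natCard σ
    rw [h1, Nat.card_perm] at h2
    exact absurd ((Nat.Prime.dvd_factorial (by norm_num)).mp h2) (by omega)

/-- A group of order thirty has a normal subgroup of order three or five. -/
theorem thirty {M : Type u} [Group M] [Finite M] (h : Nat.card M = 30) :
    (∀ P : Sylow 5 M, (P : Subgroup M).Normal) ∨ ∀ Q : Sylow 3 M, (Q : Subgroup M).Normal := by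
  classical
  haveI := Fintype.ofFinite M
  haveI : Fact (Nat.Prime 3) := ⟨by norm_num⟩
  haveI : Fact (Nat.Prime 5) := ⟨by norm_num⟩
  obtain ⟨c5, n5d, n5m⟩ := scount (M := M) 5 (k := 1) (m := 6)
    (by rw [h]; rfl) (by norm_num)
  obtain ⟨c3, n3d, n3m⟩ := scount (M := M) 3 (k := 1) (m := 10)
    (by rw [h]; rfl) (by norm_num)
  have normal_of : ∀ (p : ℕ) [Fact p.Prime], Nat.card (Sylow p M) = 1 →
      ∀ P : Sylow p M, (P : Subgroup M).Normal := fun p _ h1 P => by
    haveI : Subsingleton (Sylow p M) := (Nat.card_eq_one_iff_unique.mp h1).1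
    exact Sylow.normal_of_subsingleton P
  by_contra hcon
  rw [not_or] at hcon
  have e5 : Nat.card (Sylow 5 M) = 6 := by
    have := Nat.le_of_dvd (by norm_num) n5d
    have hne : Nat.card (Sylow 5 M) ≠ 1 := fun h1 => hcon.1 (normal_of 5 h1)
    interval_cases Nat.card (Sylow 5 M) <;> simp_all
  have e3 : Nat.card (Sylow 3 M) = 10 := by
    have := Nat.le_of_dvd (by norm_num) n3d
    have hne : Nat.card (Sylow 3 M) ≠ 1 := fun h1 => hcon.2 (normal_of 3 h1)
    interval_cases Nat.card (Sylow 3 M) <;> simp_all
  have count : ∀ (p : ℕ) [Fact p.Prime], (∀ P : Sylow p M, Nat.card (P : Subgroup M) = p) →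
      Nat.card (Sylow p M) * (p - 1) ≤ (Finset.univ.filter fun x : M => orderOf x = p).card := by
    intro p hp hc
    haveI := Fintype.ofFinite (Sylow p M)
    let S : Sylow p M → Finset M := fun P => Finset.univ.filter fun x => x ∈ (P : Subgroup M) ∧ x ≠ 1
    have hdis : ∀ P Q : Sylow p M, P ≠ Q → Disjoint (S P) (S Q) := by
      intro P Q hPQ
      rw [Finset.disjoint_left]
      intro x hx hx'
      simp only [S, Finset.mem_filter, Finset.mem_univ, true_and] at hx hx'
      apply hPQ
      refine Sylow.ext ?_
      have hz : ∀ R : Sylow p M, x ∈ (R : Subgroup M) → (R : Subgroup M) = Subgroup.zpowers x := by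
        intro R hR
        refine (Subgroup.eq_of_le_of_card_ge (Subgroup.zpowers_le.mpr hR) ?_).symm
        rw [hc R, Nat.card_zpowers]
        have h1 := Subgroup.orderOf_dvd_natCard _ hR
        rw [hc R] at h1
        rcases (Nat.dvd_prime hp.out).mp h1 with h2 | h2
        · exact absurd (orderOf_eq_one_iff.mp h2) hx.2
        · exact h2.ge
      rw [hz P hx.1, hz Q hx'.1]
    have hcardS : ∀ P, (S P).card = p - 1 := by
      intro P
      have : S P = (Finset.univ.filter fun x => x ∈ (P : Subgroup M)).erase 1 := by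
        ext x; simp [S, and_comm]
      rw [this, Finset.card_erase_of_mem (by simp), ← Fintype.card_subtype,
        ← Nat.card_eq_fintype_card]
      exact congrArg (· - 1) (hc P)
    calc Nat.card (Sylow p M) * (p - 1) = (Finset.univ.biUnion S).card := by
          rw [Finset.card_biUnion (fun P _ Q _ h => hdis P Q h), Finset.sum_congr rfl fun P _ => hcardS P,
            Finset.sum_const, Finset.card_univ, smul_eq_mul, Nat.card_eq_fintype_card]
      _ ≤ _ := Finset.card_le_card fun x hx => by
          simp only [Finset.mem_biUnion, S, Finset.mem_filter, Finset.mem_univ, true_and] at hx ⊢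
          obtain ⟨P, hP, hx1⟩ := hx
          have h1 := Subgroup.orderOf_dvd_natCard _ hP
          rw [hc P] at h1
          exact ((Nat.dvd_prime hp.out).mp h1).resolve_left (mt orderOf_eq_one_iff.mp hx1)
  have a5 := count 5 (by simpa using c5)
  have a3 := count 3 (by simpa using c3)
  rw [e5] at a5
  rw [e3] at a3
  have hu : Disjoint (Finset.univ.filter fun x : M => orderOf x = 5)
      (Finset.univ.filter fun x : M => orderOf x = 3) := by
    rw [Finset.disjoint_left]
    intro x hx hx'
    simp at hx hx'
    omega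
  have := Finset.card_le_univ ((Finset.univ.filter fun x : M => orderOf x = 5) ∪
      Finset.univ.filter fun x : M => orderOf x = 3)
  rw [Finset.card_union_of_disjoint hu, ← Nat.card_eq_fintype_card, h] at this
  omega

theorem fact30 : 5 ^ (Nat.factorization 30) 5 = 5 := by
  rw [show (30 : ℕ) = 5 ^ 1 * 6 by rfl, Nat.factorization_mul (by norm_num) (by norm_num)]
  simp [Nat.Prime.factorization_pow (show Nat.Prime 5 by norm_num),
    Nat.Prime.factorization_self (show Nat.Prime 5 by norm_num),
    Nat.factorization_eq_zero_of_not_dvd (show ¬ 5 ∣ 6 by norm_num)]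

theorem fact30' : 3 ^ (Nat.factorization 30) 3 = 3 := by
  rw [show (30 : ℕ) = 3 ^ 1 * 10 by rfl, Nat.factorization_mul (by norm_num) (by norm_num)]
  simp [Nat.Prime.factorization_pow (show Nat.Prime 3 by norm_num),
    Nat.Prime.factorization_self (show Nat.Prime 3 by norm_num),
    Nat.factorization_eq_zero_of_not_dvd (show ¬ 3 ∣ 10 by norm_num)]

/-- A group of order sixty with a non-normal Sylow five subgroup is simple. -/
theorem simple_of_sixty {G : Type u} [Group G] [Finite G] (h : Nat.card G = 60)
    (hP : ∀ P : Sylow 5 G, ¬ (P : Subgroup G).Normal) : IsSimpleGroup G := by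
  classical
  haveI := Fintype.ofFinite G
  haveI : Fact (Nat.Prime 5) := ⟨by norm_num⟩
  haveI : Fact (Nat.Prime 3) := ⟨by norm_num⟩
  haveI : Fact (Nat.Prime 2) := ⟨by norm_num⟩
  obtain ⟨c5, n5d, n5m⟩ := scount (M := G) 5 (k := 1) (m := 12)
    (by rw [h]; rfl) (by norm_num)
  have c5' : ∀ P : Sylow 5 G, Nat.card (P : Subgroup G) = 5 := by simpa using c5
  have n6 : Nat.card (Sylow 5 G) = 6 := by
    obtain ⟨P⟩ : Nonempty (Sylow 5 G) := inferInstance
    have := Nat.le_of_dvd (by norm_num) n5d
    have hne : Nat.card (Sylow 5 G) ≠ 1 := fun h1 => by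
      haveI : Subsingleton (Sylow 5 G) := (Nat.card_eq_one_iff_unique.mp h1).1
      exact hP P (Sylow.normal_of_subsingleton P)
    interval_cases Nat.card (Sylow 5 G) <;> simp_all
  obtain ⟨N, ⟨hNn, hN5⟩, hNmax⟩ := (Set.toFinite {N : Subgroup G | N.Normal ∧ ¬ 5 ∣ Nat.card N}).exists_maximal
    ⟨⊥, inferInstance, by rw [Subgroup.card_bot]; norm_num⟩
  haveI := hNn
  obtain ⟨P⟩ : Nonempty (Sylow 5 G) := inferInstance
  have hN12 : Nat.card N ∣ 12 := by
    have h1 : Nat.card N ∣ 5 * 12 := by
      rw [show 5 * 12 = Nat.card G by rw [h]]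
      exact N.card_subgroup_dvd_card
    exact ((Nat.prime_five.coprime_iff_not_dvd.mpr hN5).symm).dvd_of_dvd_mul_left h1
  have hidx : N.index * Nat.card N = 60 := by rw [Subgroup.index_mul_card, h]
  have key : ∀ M : Subgroup G, M.Normal → 5 ∣ Nat.card M → ∀ x : G, orderOf x = 5 → x ∈ M := by
    intro M hM h5 x hx
    obtain ⟨y, hy⟩ := exists_prime_orderOf_dvd_card' 5 h5
    have hz : ∀ z : G, orderOf z = 5 → ∃ R : Sylow 5 G, (R : Subgroup G) = Subgroup.zpowers z := by
      intro z hz
      obtain ⟨R, hR⟩ := IsPGroup.exists_le_sylow (p := 5)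
        (IsPGroup.of_card (n := 1) (by rw [Nat.card_zpowers, hz, pow_one]) : IsPGroup 5 (Subgroup.zpowers z))
      exact ⟨R, (Subgroup.eq_of_le_of_card_ge hR (by rw [c5' R, Nat.card_zpowers, hz])).symm⟩
    obtain ⟨R, hR⟩ := hz x hx
    obtain ⟨R', hR'⟩ := hz (y : G) (by rw [Subgroup.orderOf_coe, hy])
    obtain ⟨g, rfl⟩ := MulAction.exists_smul_eq G R' R
    have : x ∈ (g • R' : Sylow 5 G).toSubgroup := hR.symm ▸ Subgroup.mem_zpowers x
    rw [Sylow.coe_subgroup_smul, hR', Subgroup.mem_pointwise_smul_iff_inv_smul_mem] at this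
    have hxy : (MulAut.conj g)⁻¹ • x ∈ M := Subgroup.zpowers_le.mpr y.2 this
    have := hM.conj_mem _ hxy g
    simpa [mul_assoc] using this
  -- the quotient has a normal Sylow subgroup of order five unless `N` is trivial
  by_cases hN1 : N = ⊥
  · haveI : Nontrivial G := (Finite.one_lt_card_iff_nontrivial).mp (by omega)
    refine { eq_bot_or_eq_top_of_normal := fun M hM => ?_ }
    by_contra hMc
    push Not at hMc
    have hM5 : 5 ∣ Nat.card M := by
      by_contra h5
      exact hMc.1 (le_bot_iff.mp (hN1 ▸ hNmax ⟨hM, h5⟩ (hN1 ▸ bot_le)))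
    have hge : 25 ≤ Nat.card M := by
      let S : Finset G := Finset.univ.filter fun x => orderOf x = 5
      have h24 : 24 ≤ S.card := by
        haveI := Fintype.ofFinite (Sylow 5 G)
        let T : Sylow 5 G → Finset G := fun R =>
          (Finset.univ.filter fun x => x ∈ (R : Subgroup G)).erase 1
        have hT : ∀ R, (T R).card = 4 := fun R => by
          rw [Finset.card_erase_of_mem (by simp), ← Fintype.card_subtype, ← Nat.card_eq_fintype_card]
          exact congrArg (· - 1) (c5' R)
        have hsub : Finset.univ.biUnion T ⊆ S := fun x hx => by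
          simp only [Finset.mem_biUnion, T, Finset.mem_erase, Finset.mem_filter, Finset.mem_univ,
            true_and, S] at hx ⊢
          obtain ⟨R, hx1, hxR⟩ := hx
          have h1 := Subgroup.orderOf_dvd_natCard _ hxR
          rw [c5' R] at h1
          exact ((Nat.dvd_prime (by norm_num)).mp h1).resolve_left (mt orderOf_eq_one_iff.mp hx1)
        have hd : ∀ R R', R ≠ R' → Disjoint (T R) (T R') := by
          intro R R' hne
          rw [Finset.disjoint_left]
          intro x hx hx'
          simp only [T, Finset.mem_erase, Finset.mem_filter, Finset.mem_univ, true_and] at hx hx'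
          have hx5 : orderOf x = 5 := by
            have h1 := Subgroup.orderOf_dvd_natCard _ hx.2
            rw [c5' R] at h1
            exact ((Nat.dvd_prime (by norm_num)).mp h1).resolve_left (mt orderOf_eq_one_iff.mp hx.1)
          refine hne (Sylow.ext ?_)
          rw [← Subgroup.eq_of_le_of_card_ge (Subgroup.zpowers_le.mpr hx.2)
              (by rw [c5' R, Nat.card_zpowers, hx5]),
            ← Subgroup.eq_of_le_of_card_ge (Subgroup.zpowers_le.mpr hx'.2)
              (by rw [c5' R', Nat.card_zpowers, hx5])]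
        have := Finset.card_le_card hsub
        rw [Finset.card_biUnion (fun R _ R' _ h => hd R R' h), Finset.sum_congr rfl fun R _ => hT R,
          Finset.sum_const, Finset.card_univ, smul_eq_mul, ← Nat.card_eq_fintype_card, n6] at this
        exact this
      have hsub : insert 1 S ⊆ Finset.univ.filter fun x => x ∈ M := fun x hx => by
        simp only [Finset.mem_insert, S, Finset.mem_filter, Finset.mem_univ, true_and] at hx ⊢
        rcases hx with rfl | hx
        · exact M.one_mem
        · exact key M hM hM5 x hx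
      have := Finset.card_le_card hsub
      rw [Finset.card_insert_of_notMem (by simp [S])] at this
      have e : (Finset.univ.filter fun x => x ∈ M).card = Nat.card M :=
        (Fintype.card_subtype _).symm.trans Nat.card_eq_fintype_card.symm
      omega
    have hMd : Nat.card M ∣ 60 := h ▸ M.card_subgroup_dvd_card
    have hM30 : Nat.card M = 30 := by
      have h1 : Nat.card M ≠ 60 := fun e => hMc.2 (Subgroup.eq_top_of_card_eq M (e.trans h.symm))
      have := Nat.le_of_dvd (by norm_num) hMd
      interval_cases Nat.card M <;> omega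
    rcases thirty hM30 with hh | hh
    · obtain ⟨R⟩ : Nonempty (Sylow 5 M) := inferInstance
      haveI := hh R
      haveI := Sylow.characteristic_of_normal R inferInstance
      refine hP (Classical.arbitrary _) ?_
      have hn : ((R : Subgroup M).map M.subtype).Normal := inferInstance
      have hRc : Nat.card ((R : Subgroup M).map M.subtype) = 5 := by
        rw [Subgroup.card_map_of_injective M.subtype_injective, R.card_eq_multiplicity, hM30,
          Cfsg.Agent.S3669.fact30]
      set R' := Classical.arbitrary (Sylow 5 G)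
      suffices (R' : Subgroup G) = (R : Subgroup M).map M.subtype by rw [this]; exact hn
      refine (Subgroup.eq_of_le_of_card_ge ?_ (by rw [hRc, c5'])).symm
      exact IsPGroup.le_sylow_of_normal (R.isPGroup'.map _) R'
    · obtain ⟨R⟩ : Nonempty (Sylow 3 M) := inferInstance
      haveI := hh R
      haveI := Sylow.characteristic_of_normal R inferInstance
      have hRc : Nat.card ((R : Subgroup M).map M.subtype) = 3 := by
        rw [Subgroup.card_map_of_injective M.subtype_injective, R.card_eq_multiplicity, hM30,
          Cfsg.Agent.S3669.fact30']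
      have hle := hNmax ⟨(inferInstance : ((R : Subgroup M).map M.subtype).Normal),
        by rw [hRc]; norm_num⟩ (hN1 ▸ bot_le)
      rw [hN1, le_bot_iff] at hle
      rw [hle, Subgroup.card_bot] at hRc
      norm_num at hRc
  · exfalso
    set PN : Subgroup G := (P : Subgroup G) ⊔ N with hPN
    have hqc : Nat.card (G ⧸ N) = N.index := rfl
    have hPNn : PN.Normal := by
      obtain ⟨R, hR⟩ : ∃ R : Sylow 5 (G ⧸ N),
          (R : Subgroup (G ⧸ N)) = (P : Subgroup G).map (QuotientGroup.mk' N) :=
        ⟨P.mapSurjective (QuotientGroup.mk'_surjective N), rfl⟩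
      suffices hn : (R : Subgroup (G ⧸ N)).Normal by
        rw [hR] at hn
        have := hn.comap (QuotientGroup.mk' N)
        rwa [Subgroup.comap_map_eq, QuotientGroup.ker_mk'] at this
      have hcN : Nat.card N ≠ 1 := fun h1 => hN1 (Subgroup.card_eq_one.mp h1)
      by_cases h30 : N.index = 30
      · rcases thirty (hqc.trans h30) with hh | hh
        · exact hh R
        · exfalso
          obtain ⟨Q⟩ : Nonempty (Sylow 3 (G ⧸ N)) := inferInstance
          haveI := hh Q
          have hle : N ≤ (Q : Subgroup (G ⧸ N)).comap (QuotientGroup.mk' N) := by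
            intro x hx
            show (x : G ⧸ N) ∈ (Q : Subgroup (G ⧸ N))
            rw [(QuotientGroup.eq_one_iff x).mpr hx]
            exact one_mem _
          have hQi : ((Q : Subgroup (G ⧸ N)).comap (QuotientGroup.mk' N)).index = 10 := by
            rw [Subgroup.index_comap_of_surjective _ (QuotientGroup.mk'_surjective N)]
            have h1 := Subgroup.index_mul_card (Q : Subgroup (G ⧸ N))
            rw [Q.card_eq_multiplicity, hqc, h30, Cfsg.Agent.S3669.fact30'] at h1
            omega
          set B := (Q : Subgroup (G ⧸ N)).comap (QuotientGroup.mk' N)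
          have hB : B.index * Nat.card B = 60 := by rw [Subgroup.index_mul_card, h]
          rw [hQi] at hB
          have hle2 := hNmax ⟨(inferInstance : B.Normal), by omega⟩ hle
          have := Subgroup.index_antitone hle2
          omega
      · have hd : Nat.card N * (N.index / 5) = 12 := by
          have := Nat.le_of_dvd (by norm_num) hN12
          have hN0 : 0 < Nat.card N := Nat.card_pos
          have : N.index ≤ 60 := by nlinarith
          interval_cases Nat.card N <;> omega
        obtain ⟨cR, nd, nm⟩ := scount (M := G ⧸ N) 5 (k := 1)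
          (m := N.index / 5) (by
            rw [hqc]
            have hN0 : 0 < Nat.card N := Nat.card_pos
            have := Nat.le_of_dvd (by norm_num) hN12
            interval_cases Nat.card N <;> omega)
          (by
            have := Nat.le_of_dvd (by norm_num) hN12
            have hN0 : 0 < Nat.card N := Nat.card_pos
            interval_cases Nat.card N <;> omega)
        have h1 : Nat.card (Sylow 5 (G ⧸ N)) = 1 := by
          have hlt : N.index / 5 ≤ 4 ∧ 0 < N.index / 5 := by
            have := Nat.le_of_dvd (by norm_num) hN12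
            have hN0 : 0 < Nat.card N := Nat.card_pos
            interval_cases Nat.card N <;> omega
          have := Nat.le_of_dvd hlt.2 nd
          have : 0 < Nat.card (Sylow 5 (G ⧸ N)) := Nat.card_pos
          obtain ⟨hlt1, hlt2⟩ := hlt
          have : Nat.card (Sylow 5 (G ⧸ N)) ≤ 4 := le_trans (by assumption) hlt1
          interval_cases Nat.card (Sylow 5 (G ⧸ N)) <;> simp_all
        haveI : Subsingleton (Sylow 5 (G ⧸ N)) := (Nat.card_eq_one_iff_unique.mp h1).1
        exact Sylow.normal_of_subsingleton R
    -- Frattini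
    haveI := hPNn
    set X : Subgroup G := Subgroup.normalizer (P : Set G) with hX
    have hXN : X ⊔ N = ⊤ := by
      rw [eq_top_iff, ← Sylow.normalizer_sup_eq_top (P.subtype (le_sup_left : (P : Subgroup G) ≤ PN))]
      refine sup_le (le_of_eq_of_le ?_ le_sup_left) (sup_le (le_sup_of_le_left Subgroup.le_normalizer) le_sup_right)
      rw [Sylow.coe_subtype, Subgroup.map_subgroupOf_eq_of_le le_sup_left]
      rfl
    have hX6 : X.index = 6 := (P.card_eq_index_normalizer).symm.trans n6
    have hN6 : 6 ∣ Nat.card N := by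
      have horb : ∀ R : Sylow 5 G, R ∈ MulAction.orbit N P := by
        intro R
        obtain ⟨g, rfl⟩ := MulAction.exists_smul_eq G P R
        obtain ⟨x, hx, a, ha, rfl⟩ := Subgroup.mem_sup_of_normal_right.mp (hXN ▸ Subgroup.mem_top g)
        refine ⟨⟨x * a * x⁻¹, hNn.conj_mem a ha x⟩, ?_⟩
        show (x * a * x⁻¹) • P = (x * a) • P
        have hxP : x • P = P := Sylow.smul_eq_iff_mem_normalizer.mpr hx
        conv_rhs => rw [show x * a = x * a * x⁻¹ * x by group, mul_smul, hxP]
      have h1 := Nat.card_congr (MulAction.orbitProdStabilizerEquivGroup N P)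
      rw [Nat.card_prod] at h1
      rw [← h1]
      refine Dvd.dvd.mul_right ?_ _
      rw [← n6]
      exact (Nat.card_congr (Equiv.subtypeUnivEquiv horb)).symm.dvd
    -- the Sylow subgroup centralizes `N`
    have hfix : ∀ (q : ℕ) [Fact q.Prime], Nat.card (Sylow q N) < 5 →
        (∀ Q : Sylow q N, Nat.card (Q : Subgroup N) ≤ 4) →
        ∀ x ∈ (P : Subgroup G), ∀ Q : Sylow q N, ∀ a : N, a ∈ (Q : Subgroup N) →
          x * (a : G) * x⁻¹ = a := by
      intro q _ hs hq x hx Q a ha
      have hx5 : x ^ 5 = 1 := by
        rw [← orderOf_dvd_iff_pow_eq_one]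
        exact c5' P ▸ Subgroup.orderOf_dvd_natCard _ hx
      let α : MulAut N := MulAut.conjNormal x
      have hα : α ^ 5 = 1 := by rw [← map_pow, hx5, map_one]
      have hQ : α • Q = Q := by
        have := perm_small hs (MulAction.toPerm α : Equiv.Perm (Sylow q N)) (by
          show (MulAction.toPermHom (MulAut N) (Sylow q N) α) ^ 5 = 1
          rw [← map_pow, hα, map_one])
        exact congrArg (fun σ : Equiv.Perm (Sylow q N) => σ Q) this
      have hmap : ∀ y, y ∈ (Q : Subgroup N) → α y ∈ (Q : Subgroup N) := by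
        intro y hy
        have h2 : α y ∈ ((α • Q : Sylow q N) : Subgroup N) :=
          Subgroup.mem_map.mpr ⟨y, hy, rfl⟩
        rwa [hQ] at h2
      let σ : Equiv.Perm (Q : Subgroup N) := Equiv.ofBijective (fun y => ⟨α y, hmap y y.2⟩)
        (Finite.injective_iff_bijective.mp fun y z hyz =>
          Subtype.ext (α.injective (congrArg Subtype.val hyz)))
      have hit : ∀ n (y : (Q : Subgroup N)), (((σ ^ n) y : (Q : Subgroup N)) : N) = (α ^ n) y := by
        intro n
        induction n with
        | zero => intro y; simp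
        | succ n ih =>
          intro y
          rw [pow_succ', Equiv.Perm.mul_apply, pow_succ']
          show α (((σ ^ n) y : (Q : Subgroup N)) : N) = _
          rw [ih]
          rfl
      have hσ := perm_small (lt_of_le_of_lt (hq Q) (by norm_num)) σ (Equiv.ext fun y => Subtype.ext (by
        rw [hit 5 y, hα]; rfl))
      have h3 := congrArg (fun z : (Q : Subgroup N) => ((z : N) : G)) (Equiv.congr_fun hσ ⟨a, ha⟩)
      exact h3
    have hN' : Nat.card N = 6 ∨ Nat.card N = 12 := by
      have := Nat.le_of_dvd (by norm_num) hN12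
      obtain ⟨j, hj⟩ := hN6
      omega
    have hcent : ∀ x ∈ (P : Subgroup G), ∀ a ∈ N, x * a * x⁻¹ = a := by
      intro x hx a ha
      let C : Subgroup N :=
        (Subgroup.centralizer ({x} : Set G)).subgroupOf N
      have hC : ∀ (b : N), x * (b : G) * x⁻¹ = b → b ∈ C := fun b hb =>
        Subgroup.mem_subgroupOf.mpr (Subgroup.mem_centralizer_singleton_iff.mpr
          (mul_inv_eq_iff_eq_mul.mp hb).symm)
      have hQle : ∀ (q : ℕ) [Fact q.Prime], Nat.card (Sylow q N) < 5 →
          (∀ Q : Sylow q N, Nat.card (Q : Subgroup N) ≤ 4) → ∀ Q : Sylow q N, (Q : Subgroup N) ≤ C :=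
        fun q _ hs hq Q b hb => hC b (hfix q hs hq x hx Q b hb)
      suffices hCtop : C = ⊤ by
        have h2 := Subgroup.mem_subgroupOf.mp (hCtop ▸ Subgroup.mem_top (⟨a, ha⟩ : N))
        rw [Subgroup.mem_centralizer_singleton_iff] at h2
        simp only at h2
        rw [← h2, mul_inv_cancel_right]
      obtain ⟨Q2⟩ : Nonempty (Sylow 2 N) := inferInstance
      obtain ⟨Q3⟩ : Nonempty (Sylow 3 N) := inferInstance
      obtain ⟨k2, m2, hk2, hm2, hb2, hN23⟩ : ∃ k m, Nat.card N = 2 ^ k * m ∧ ¬ 2 ∣ m ∧
          (2 ^ k ≤ 4 ∧ m ≤ 4) ∧ Nat.card N = 2 ^ k * 3 := by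
        rcases hN' with e | e
        · exact ⟨1, 3, by omega, by norm_num, by norm_num, by omega⟩
        · exact ⟨2, 3, by omega, by norm_num, by norm_num, by omega⟩
      obtain ⟨k3, m3, hk3, hm3, hb3, hk31⟩ : ∃ k m, Nat.card N = 3 ^ k * m ∧ ¬ 3 ∣ m ∧
          (3 ^ k ≤ 4 ∧ m ≤ 4) ∧ 3 ^ k = 3 := by
        rcases hN' with e | e
        · exact ⟨1, 2, by omega, by norm_num, by norm_num, by norm_num⟩
        · exact ⟨1, 4, by omega, by norm_num, by norm_num, by norm_num⟩
      obtain ⟨c2, d2, -⟩ := scount (M := N) 2 hk2 hm2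
      obtain ⟨c3, d3, -⟩ := scount (M := N) 3 hk3 hm3
      have hm2' : 0 < m2 := Nat.pos_of_ne_zero (by rintro rfl; simp at hm2)
      have hm3' : 0 < m3 := Nat.pos_of_ne_zero (by rintro rfl; simp at hm3)
      have h2le := hQle 2 (lt_of_le_of_lt (le_trans (Nat.le_of_dvd hm2' d2) hb2.2) (by norm_num))
        (fun Q => by rw [c2 Q]; exact hb2.1) Q2
      have h3le := hQle 3 (lt_of_le_of_lt (le_trans (Nat.le_of_dvd hm3' d3) hb3.2) (by norm_num))
        (fun Q => by rw [c3 Q]; exact hb3.1) Q3
      apply Subgroup.eq_top_of_card_eq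
      refine Nat.dvd_antisymm C.card_subgroup_dvd_card ?_
      have e2 : 2 ^ k2 ∣ Nat.card C := c2 Q2 ▸ Subgroup.card_dvd_of_le h2le
      have e3 : 3 ^ k3 ∣ Nat.card C := c3 Q3 ▸ Subgroup.card_dvd_of_le h3le
      have e23 : 2 ^ k2 * 3 ^ k3 ∣ Nat.card C :=
        Nat.Coprime.mul_dvd_of_dvd_of_dvd (Nat.Coprime.pow _ _ (by norm_num)) e2 e3
      refine dvd_trans ?_ e23
      rw [hk31, hN23]
    have hNX : N ≤ X := by
      intro a ha
      show a ∈ Subgroup.normalizer ((P : Subgroup G) : Set G)
      refine Subgroup.mem_normalizer_iff.mpr fun y => ?_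
      constructor
      · intro hy
        have := hcent y hy a ha
        rw [show a * y * a⁻¹ = y by rw [← mul_inv_eq_iff_eq_mul.mp this, mul_inv_cancel_right]]
        exact hy
      · intro hy
        have h2 := hcent _ hy a⁻¹ (N.inv_mem ha)
        have h3 : a * y * a⁻¹ * a⁻¹ = a⁻¹ * (a * y * a⁻¹) := mul_inv_eq_iff_eq_mul.mp h2
        have h4 : y = a * y * a⁻¹ := by
          have := congrArg (fun z => z * a) h3
          simpa [mul_assoc] using this.symm
        rw [h4]
        exact hy
    rw [sup_eq_left.mpr hNX] at hXN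
    rw [hXN, Subgroup.index_top] at hX6
    norm_num at hX6


/-- The character degree graph of a finite group has as vertices the primes dividing some irreducible complex character degree, two distinct primes being joined when their product divides some irreducible character degree; two groups have the same character degree graph when they have the same vertices and the same joined pairs. A finite group of order 60 with the same character degree graph as the alternating group A₅ (whose character degrees are 1, 3, 4, 5, so the graph has vertices 2, 3, 5 and no edges) is isomorphic to A₅. -/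
theorem result {G : Type*} [Group G] [Finite G] (hcard : Nat.card G = 60)
    (hΓ : Cfsg.degreePrimes G = Cfsg.degreePrimes (alternatingGroup (Fin 5)) ∧ Cfsg.degreeGraph G = Cfsg.degreeGraph (alternatingGroup (Fin 5))) : Nonempty (G ≃* alternatingGroup (Fin 5)) := by
  classical
  haveI := Fintype.ofFinite G
  haveI : Fact (Nat.Prime 5) := ⟨by norm_num⟩
  by_cases hP : ∀ P : Sylow 5 G, ¬ (P : Subgroup G).Normal
  · haveI := simple_of_sixty hcard hP
    exact Cfsg.Lib.OrderLeHundred.iso_alternating_five hcard
  · exfalso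
    push Not at hP
    obtain ⟨P, hPn⟩ := hP
    have h5 : 5 ∈ Cfsg.degreePrimes G := hΓ.1 ▸ five_mem
    obtain ⟨-, d, ⟨χ, hχ⟩, hd⟩ := h5
    obtain ⟨e, he, he'⟩ := χ.2.exists_degree
    have hde : e = d := by
      have := χ.2.apply_one_eq_charDegree
      rw [hχ, he'] at this
      exact_mod_cast this
    obtain ⟨cP, -, -⟩ := scount (M := G) 5 (k := 1) (m := 12)
      (by rw [hcard]; rfl) (by norm_num)
    have hPc : Nat.card (P : Subgroup G) = 5 := by simpa using cP P
    haveI : IsCyclic (P : Subgroup G) := isCyclic_of_prime_card (p := 5) hPc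
    letI : CommGroup (P : Subgroup G) := IsCyclic.commGroup
    have hi := degree_dvd_index_of_comm (P : Subgroup G)
      (fun a ha b hb => congrArg Subtype.val (mul_comm (⟨a, ha⟩ : (P : Subgroup G)) ⟨b, hb⟩)) χ.2 he'
    have := Subgroup.index_mul_card (P : Subgroup G)
    rw [hPc, hcard] at this
    have h5e : (5 : ℕ) ∣ (P : Subgroup G).index := (hde ▸ hd : 5 ∣ e).trans hi
    omega

end Cfsg.Agent.S3669
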