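import Cfsg.Statements.S4364
import Cfsg.Agent.Lib.Kazarin.Basic
import Cfsg.Agent.Lib.Core.Cores
import Cfsg.Agent.Lib.Core.Fitting
import Cfsg.Agent.Lib.Core.Layer

set_option autoImplicit false
set_option linter.style.haveILetI false
open Cfsg

namespace Cfsg.Agent.S4364

open Subgroup in
/-- In a group with trivial `O_p` an element with class of `p`-power size commutes with its
conjugates. -/
theorem commute_conj {G : Type*} [Group G] [Finite G] {p : ℕ} [hp : Fact p.Prime]
    (hO : Cfsg.pCore p G = ⊥) (x : G) {a : ℕ}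
    (hx : (centralizer ({x} : Set G)).index = p ^ a) (g : G) :
    Commute x (g * x * g⁻¹) := by
  obtain ⟨R, hRn, hRs, hxR⟩ := Cfsg.Lib.Kazarin.exists_solvable_normal_mem _ G rfl x hp.out hx
  set F := (Cfsg.fittingSubgroup R).map R.subtype with hF
  have hFn : F.Normal := inferInstance
  have hFnil : Group.IsNilpotent F :=
    Cfsg.Lib.Core.isNilpotent_map (Cfsg.Lib.Core.fittingSubgroup_isNilpotent R) _
  have hcop : ¬ p ∣ Nat.card F := by
    intro hd
    obtain ⟨y, hy⟩ := exists_prime_orderOf_dvd_card' (G := F) p hd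
    obtain ⟨P, hP⟩ := (IsPGroup.of_card (n := 1) (by rw [Nat.card_zpowers, hy, pow_one]) :
      IsPGroup p (zpowers y)).exists_le_sylow
    have := P.characteristic_of_normal
      (P.normal_of_normalizerCondition (Group.normalizerCondition_of_isNilpotent (G := F)))
    have hn : ((P : Subgroup F).map F.subtype).Normal := inferInstance
    have hle := Cfsg.Lib.Core.le_pCore' hn (P.2.map _)
    rw [hO, le_bot_iff, Subgroup.map_eq_bot_iff_of_injective _ (subtype_injective _)] at hle
    have h1 : y ∈ (P : Subgroup F) := hP (mem_zpowers y)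
    rw [hle, mem_bot] at h1
    rw [h1, orderOf_one] at hy
    exact hp.out.ne_one hy.symm
  have hcent : F ≤ centralizer ({x} : Set G) := by
    have h1 : (centralizer ({x} : Set G)).relIndex F ∣ p ^ a :=
      hx ▸ Cfsg.Lib.Kazarin.relIndex_dvd_index' _ F
    have h2 : (centralizer ({x} : Set G)).relIndex F ∣ Nat.card F := index_dvd_card _
    have hc : Nat.Coprime (p ^ a) (Nat.card F) :=
      Nat.Coprime.pow_left a ((Nat.Prime.coprime_iff_not_dvd hp.out).mpr hcop)
    exact relIndex_eq_one.mp (Nat.eq_one_of_dvd_coprimes hc h1 h2)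
  have hxF : x ∈ F := by
    refine ⟨⟨x, hxR⟩, ?_, rfl⟩
    refine Cfsg.Lib.Core.centralizer_fitting_le_of_isSolvable
      (mem_centralizer_iff.mpr fun f hf => Subtype.ext ?_)
    exact mem_centralizer_singleton_iff.mp (hcent (mem_map_of_mem _ hf))
  exact (mem_centralizer_singleton_iff.mp (hcent (hFn.conj_mem x hxF g))).symm

/-- Let G be a finite group, p a prime and x an element whose conjugacy class has p-power size. Then for any two conjugates y and z of x, the commutator y z y⁻¹ z⁻¹ lies in O_p(G), the largest normal p-subgroup of G. -/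
theorem result {G : Type*} [Group G] [Finite G] (p : ℕ) [Fact p.Prime]
    (x : G) (hx : ∃ a : ℕ, (Subgroup.centralizer ({x} : Set G)).index = p ^ a) (g h : G) :
    (g * x * g⁻¹) * (h * x * h⁻¹) * (g * x * g⁻¹)⁻¹ * (h * x * h⁻¹)⁻¹ ∈ Cfsg.pCore p G := by
  obtain ⟨a, ha⟩ := hx
  set N := Cfsg.pCore p G with hN
  have hdvd : (Subgroup.centralizer ({((x : G ⧸ N))} : Set (G ⧸ N))).index ∣ p ^ a := by
    refine ha ▸ (Subgroup.index_dvd_of_le ?_).trans
      (Subgroup.index_map_dvd _ (QuotientGroup.mk'_surjective N))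
    rintro _ ⟨b, hb, rfl⟩
    rw [SetLike.mem_coe, Subgroup.mem_centralizer_singleton_iff] at hb
    rw [Subgroup.mem_centralizer_singleton_iff]
    simpa using congrArg (QuotientGroup.mk' N) hb
  obtain ⟨j, -, hj⟩ := (Nat.dvd_prime_pow (Fact.out : p.Prime)).mp hdvd
  have hc := commute_conj (p := p) Cfsg.Lib.Core.pCore_quotient_pCore_eq_bot (x : G ⧸ N) hj
    (((g⁻¹ * h : G) : G ⧸ N))
  rw [← QuotientGroup.eq_one_iff]
  have hc2 : Commute ((g : G ⧸ N) * x * (g : G ⧸ N)⁻¹)
      ((h : G ⧸ N) * x * (h : G ⧸ N)⁻¹) := by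
    have := hc.map (MulAut.conj (g : G ⧸ N)).toMonoidHom
    simpa [mul_assoc] using this
  simp only [QuotientGroup.mk_mul, QuotientGroup.mk_inv]
  rw [hc2.eq, mul_assoc ((h : G ⧸ N) * x * (h : G ⧸ N)⁻¹), mul_inv_cancel, mul_one, mul_inv_cancel]

end Cfsg.Agent.S4364
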