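import Cfsg.Statements.S0560
import Cfsg.Agent.Lib.Solv.Product
import Cfsg.Agent.Lib.Coprime.Action

set_option autoImplicit false
open Pointwise
open Cfsg
open scoped Pointwise

namespace Cfsg.Agent.S0560

/-- Let the finite group G be the product HK of two subgroups and p a prime. Then there are Sylow p-subgroups P of H and Q of K and a Sylow p-subgroup R of G whose underlying set is the product set of P and Q. -/
theorem result {G : Type*} [Group G] [Finite G] (H K : Subgroup G) (hHK : ∀ g : G, ∃ h ∈ H, ∃ k ∈ K, g = h * k) (p : ℕ) [Fact p.Prime] : ∃ (P : Sylow p H) (Q : Sylow p K) (R : Sylow p G), ((R : Subgroup G) : Set G) = (((P : Subgroup H).map H.subtype : Subgroup G) : Set G) * (((Q : Subgroup K).map K.subtype : Subgroup G) : Set G) := by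
  classical
  have hp : p.Prime := Fact.out
  obtain ⟨P₀⟩ : Nonempty (Sylow p H) := inferInstance
  obtain ⟨Q₀⟩ : Nonempty (Sylow p K) := inferInstance
  obtain ⟨S₁, hS₁⟩ := (P₀.isPGroup'.map H.subtype).exists_le_sylow
  obtain ⟨S₂, hS₂⟩ := (Q₀.isPGroup'.map K.subtype).exists_le_sylow
  obtain ⟨x, hx⟩ := MulAction.exists_smul_eq G S₁ S₂
  obtain ⟨h, hh, k, hk, hxhk⟩ := hHK x⁻¹
  obtain ⟨P, hP⟩ := Cfsg.Lib.Coprime.exists_sylow_eq_conj P₀ (Subgroup.le_normalizer (H.inv_mem hh))
  obtain ⟨Q, hQ⟩ := Cfsg.Lib.Coprime.exists_sylow_eq_conj Q₀ (Subgroup.le_normalizer hk)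
  set S := h⁻¹ • S₁ with hS
  set P' := (P : Subgroup H).map H.subtype
  set Q' := (Q : Subgroup K).map K.subtype
  have hPS : P' ≤ (S : Subgroup G) := by
    rw [hP, hS]
    exact Subgroup.map_mono hS₁
  have hQS : Q' ≤ (S : Subgroup G) := by
    have hkey : (S : Subgroup G) = ((k • S₂ : Sylow p G) : Subgroup G) := by
      rw [← hx, smul_smul, hS]
      congr 2
      rw [← inv_inv x, hxhk, mul_inv_rev, ← mul_assoc, mul_inv_cancel, one_mul]
    rw [hQ, hkey]
    exact Subgroup.map_mono hS₂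
  refine ⟨P, Q, S, (Set.eq_of_subset_of_ncard_le ?_ ?_ (Set.toFinite _)).symm⟩
  · rintro _ ⟨a, ha, b, hb, rfl⟩
    exact (S : Subgroup G).mul_mem (hPS ha) (hQS hb)
  rw [← Nat.card_coe_set_eq, ← Nat.card_coe_set_eq]
  change Nat.card (S : Subgroup G) ≤ Nat.card ((P' : Set G) * (Q' : Set G) : Set G)
  have hGc : Nat.card G = Nat.card K * K.relIndex H := by
    rw [← Cfsg.Lib.Solv.card_mul_set H K]
    rw [show ((H : Set G) * (K : Set G)) = Set.univ from Set.eq_univ_of_forall fun g => by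
      obtain ⟨a, ha, b, hb, rfl⟩ := hHK g; exact Set.mul_mem_mul ha hb]
    exact (Nat.card_congr (Equiv.Set.univ G)).symm
  rw [Cfsg.Lib.Solv.card_mul_set P' Q']
  set d := Nat.card (Q' ⊓ P' : Subgroup G)
  have hd : d * Q'.relIndex P' = Nat.card P' := by
    rw [← Subgroup.inf_relIndex_right Q' P', Cfsg.Lib.Core.card_mul_relIndex inf_le_right]
  have hD : Nat.card (K ⊓ H : Subgroup G) * K.relIndex H = Nat.card H := by
    rw [← Subgroup.inf_relIndex_right K H, Cfsg.Lib.Core.card_mul_relIndex inf_le_right]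
  have hdD : d ∣ Nat.card (K ⊓ H : Subgroup G) :=
    Subgroup.card_dvd_of_le (inf_le_inf (Subgroup.map_subtype_le _) (Subgroup.map_subtype_le _))
  have hdvd : Nat.card (S : Subgroup G) * d ∣ Nat.card P' * Nat.card Q' * ((P : Subgroup H).index * (Q : Subgroup K).index) := by
    have e1 : Nat.card P' * (P : Subgroup H).index = Nat.card H := by
      rw [show Nat.card P' = Nat.card (P : Subgroup H) from Cfsg.Lib.Core.card_map_subtype _, Subgroup.card_mul_index]
    have e2 : Nat.card Q' * (Q : Subgroup K).index = Nat.card K := by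
      rw [show Nat.card Q' = Nat.card (Q : Subgroup K) from Cfsg.Lib.Core.card_map_subtype _, Subgroup.card_mul_index]
    have e : Nat.card P' * Nat.card Q' * ((P : Subgroup H).index * (Q : Subgroup K).index) = Nat.card G * Nat.card (K ⊓ H : Subgroup G) := by
      calc _ = (Nat.card P' * (P : Subgroup H).index) * (Nat.card Q' * (Q : Subgroup K).index) := by ring
        _ = _ := by rw [e1, e2, hGc, ← hD]; ring
    rw [e]
    exact mul_dvd_mul (Subgroup.card_subgroup_dvd_card _) hdD
  obtain ⟨i, hi⟩ := IsPGroup.iff_card.1 S.isPGroup'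
  obtain ⟨j, hj⟩ : ∃ j, d = p ^ j :=
    IsPGroup.iff_card.1 ((Q.isPGroup'.map K.subtype).to_le (inf_le_left : Q' ⊓ P' ≤ Q'))
  have hcop : (Nat.card (S : Subgroup G) * d).Coprime ((P : Subgroup H).index * (Q : Subgroup K).index) := by
    rw [hi, hj, ← pow_add]
    exact Nat.Coprime.pow_left _ (Nat.Coprime.mul_right (hp.coprime_iff_not_dvd.2 P.not_dvd_index) (hp.coprime_iff_not_dvd.2 Q.not_dvd_index))
  have hle := Nat.le_of_dvd (Nat.mul_pos (Nat.card_pos (α := P')) (Nat.card_pos (α := Q'))) (hcop.dvd_of_dvd_mul_right hdvd)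
  rw [← hd] at hle
  refine le_of_mul_le_mul_left ?_ (Nat.card_pos : 0 < d)
  calc d * Nat.card (S : Subgroup G) = Nat.card (S : Subgroup G) * d := mul_comm _ _
    _ ≤ d * Q'.relIndex P' * Nat.card Q' := hle
    _ = _ := by ring

end Cfsg.Agent.S0560
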