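import Cfsg.Statements.S0225
import Cfsg.Agent.Lib.ZStar.Main
-- import your own Cfsg.Agent.* helpers here

set_option autoImplicit false
open Cfsg

namespace Cfsg.Agent.S0225

/-- Two distinct commuting involutions generate a Klein four-group. -/
theorem isKleinFour_pair {G : Type*} [Group G] {a b : G} (ha : orderOf a = 2) (hb : orderOf b = 2)
    (hab : Commute a b) (hne : a ≠ b) : IsKleinFour (Subgroup.closure ({a, b} : Set G)) := by
  have ha1 : a ≠ 1 := Lib.Invol.ne_one ha
  have hb1 : b ≠ 1 := Lib.Invol.ne_one hb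
  have haa := Lib.Invol.inv_mul_self ha
  have hbb := Lib.Invol.inv_mul_self hb
  have hab1 : a * b ≠ 1 := fun h =>
    hne ((eq_inv_of_mul_eq_one_left h).trans (Lib.Invol.inv_eq_self hb))
  let V : Subgroup G :=
    { carrier := {1, a, b, a * b}
      one_mem' := Or.inl rfl
      mul_mem' := by
        have hba : b * a = a * b := hab.eq.symm
        rintro x y (h | h | h | h) (h' | h' | h' | h') <;> rw [h, h'] <;>
          simp [haa, hbb, hba, ← mul_assoc, mul_assoc a b a, mul_assoc a b b]
      inv_mem' := by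
        rintro x (h | h | h | h) <;> rw [h] <;>
          simp [Lib.Invol.inv_eq_self ha, Lib.Invol.inv_eq_self hb, hab.eq] }
  have hV : Subgroup.closure ({a, b} : Set G) = V := by
    refine le_antisymm ((Subgroup.closure_le _).2 ?_) ?_
    · rintro x (h | h) <;> rw [h]
      · exact Or.inr (Or.inl rfl)
      · exact Or.inr (Or.inr (Or.inl rfl))
    · rintro x (h | h | h | h) <;> rw [h]
      · exact one_mem _
      · exact Subgroup.subset_closure (by simp)
      · exact Subgroup.subset_closure (by simp)
      · exact mul_mem (Subgroup.subset_closure (by simp)) (Subgroup.subset_closure (by simp))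
  rw [hV]
  refine ⟨?_, ?_⟩
  · show Nat.card ({1, a, b, a * b} : Set G) = 4
    rw [Nat.card_coe_set_eq, Set.ncard_insert_of_notMem (by simp [ha1.symm, hb1.symm, hab1.symm]),
      Set.ncard_insert_of_notMem (by simp [hne, hb1]),
      Set.ncard_pair (by simp [ha1])]
  · haveI : Nontrivial V := ⟨⟨a, Or.inr (Or.inl rfl)⟩, 1, fun h => ha1 (congrArg Subtype.val h)⟩
    refine (Monoid.exponent_eq_prime_iff Nat.prime_two).2 fun x hx => ?_
    rw [← Subgroup.orderOf_coe]
    rcases x.2 with h | h | h | h
    · exact absurd (Subtype.ext h) hx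
    · rw [h, ha]
    · rw [h, hb]
    · rw [h]
      exact Lib.Invol.orderOf_eq_two_of hab1 (by rw [hab.symm.mul_mul_mul_comm, haa, hbb, one_mul])


/-- If a finite group G has even order but contains no Klein four-subgroup (2-rank 1), then some involution z of G is central modulo a normal subgroup of odd order: there is a normal subgroup N of odd order containing every commutator z g z⁻¹ g⁻¹. -/
theorem result {G : Type*} [Group G] [Finite G] (heven : Even (Nat.card G)) (hrank : ∀ E : Subgroup G, ¬ IsKleinFour E) : ∃ z : G, orderOf z = 2 ∧ ∃ N : Subgroup G, N.Normal ∧ Odd (Nat.card N) ∧ ∀ g : G, z * g * z⁻¹ * g⁻¹ ∈ N := by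
  haveI : Fact (Nat.Prime 2) := ⟨Nat.prime_two⟩
  obtain ⟨S⟩ : Nonempty (Sylow 2 G) := inferInstance
  have hS : (S : Subgroup G) ≠ ⊥ := S.ne_bot_of_dvd_card (even_iff_two_dvd.1 heven)
  haveI : Nontrivial (S : Subgroup G) := (Subgroup.nontrivial_iff_ne_bot _).2 hS
  haveI := S.2.center_nontrivial
  obtain ⟨k, hk, hkc⟩ :=
    (S.2.to_subgroup (Subgroup.center (S : Subgroup G))).nontrivial_iff_card.1 inferInstance
  obtain ⟨w, hw⟩ := exists_prime_orderOf_dvd_card' (G := Subgroup.center (S : Subgroup G)) 2
    (hkc ▸ dvd_pow_self 2 hk.ne')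
  set z : G := ((w : (S : Subgroup G)) : G) with hz
  have hoz : orderOf z = 2 := by rw [hz, Subgroup.orderOf_coe, Subgroup.orderOf_coe, hw]
  refine ⟨z, hoz, oddCore G, inferInstance, Lib.ZStar.odd_card_oddCore, fun g =>
    Lib.ZStar.zStarHolds G z (Lib.ZStar.isolated_of_unique_involution S hoz fun x hx h2 => ?_) g⟩
  by_contra hne
  have hc : Commute z x := (congrArg Subtype.val (Subgroup.mem_center_iff.1 w.2 ⟨x, hx⟩)).symm
  exact hrank _ (isKleinFour_pair hoz h2 hc (Ne.symm hne))

end Cfsg.Agent.S0225
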