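import Cfsg.Statements.S0032


set_option autoImplicit false
open Cfsg

namespace Cfsg.Agent.S0032

/-- If an automorphism of a finite group fixes only the identity and maps a normal subgroup N into itself, then the only cosets of N it fixes are those in N: a fixed coset xN forces x ∈ N. -/
theorem result {G : Type*} [Group G] [Finite G] (φ : G ≃* G)
    (hφ : MonoidHom.FixedPointFree (φ : G →* G)) (N : Subgroup G) [N.Normal] (hN : ∀ n ∈ N, φ n ∈ N)
    (x : G) (hx : (φ x)⁻¹ * x ∈ N) : x ∈ N := by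
  let ψ : N → N := fun m => ⟨(φ m)⁻¹ * m, mul_mem (inv_mem (hN _ m.2)) m.2⟩
  have hψ : Function.Injective ψ := by
    intro a b hab
    have h : (φ (a : G))⁻¹ * a = (φ (b : G))⁻¹ * b := congrArg Subtype.val hab
    have hfix : φ ((a : G) * (b : G)⁻¹) = (a : G) * (b : G)⁻¹ := by
      rw [map_mul, map_inv]
      calc φ (a : G) * (φ (b : G))⁻¹ = φ (a : G) * ((φ (b : G))⁻¹ * b) * (b : G)⁻¹ := by group
        _ = (a : G) * (b : G)⁻¹ := by rw [← h]; group
    exact Subtype.ext (mul_inv_eq_one.1 (hφ _ hfix))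
  obtain ⟨⟨m, hm⟩, hm'⟩ := Finite.surjective_of_injective hψ ⟨_, hx⟩
  have h : (φ m)⁻¹ * m = (φ x)⁻¹ * x := congrArg Subtype.val hm'
  have hfix : φ (x * m⁻¹) = x * m⁻¹ := by
    rw [map_mul, map_inv]
    calc φ x * (φ m)⁻¹ = φ x * ((φ m)⁻¹ * m) * m⁻¹ := by group
      _ = x * m⁻¹ := by rw [h]; group
  rwa [mul_inv_eq_one.1 (hφ _ hfix)]

end Cfsg.Agent.S0032
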