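import Cfsg.Statements.S4365
import Cfsg.Agent.Lib.PGroup.Basic
import Mathlib.Data.ZMod.Basic

set_option linter.style.haveILetI false

set_option autoImplicit false
open Cfsg

namespace Cfsg.Agent.S4365

open Subgroup
open scoped commutatorElement

section
variable {P : Type*} [Group P]

/-- The centraliser of an element. -/
abbrev cen (x : P) : Subgroup P := centralizer ({x} : Set P)

/-- The centre of the centraliser. -/
abbrev core (x : P) : Subgroup P := cen x ⊓ centralizer (cen x : Set P)

theorem mem_cen {x y : P} : y ∈ cen x ↔ x * y = y * x := by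
  rw [mem_centralizer_iff]
  exact ⟨fun h => h x rfl, fun h z hz => by rw [Set.mem_singleton_iff.mp hz]; exact h⟩

theorem self_mem_core (x : P) : x ∈ core x :=
  ⟨mem_cen.mpr rfl, mem_centralizer_iff.mpr fun y hy => (mem_cen.mp hy).symm⟩

theorem core_comm {x a b : P} (ha : a ∈ core x) (hb : b ∈ core x) : a * b = b * a :=
  mem_centralizer_iff.mp hb.2 a ha.1

theorem center_le_core (x : P) : center P ≤ core x := fun z hz =>
  ⟨mem_cen.mpr (mem_center_iff.mp hz x), mem_centralizer_iff.mpr fun y _ => mem_center_iff.mp hz y⟩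

theorem cen_mul_central {x z : P} (hz : z ∈ center P) : cen (x * z) = cen x := by
  ext y
  rw [mem_cen, mem_cen, mul_assoc, ← mem_center_iff.mp hz y, ← mul_assoc, ← mul_assoc y x z]
  exact ⟨fun h => mul_right_cancel h, fun h => by rw [h]⟩

theorem mul_pow_conj (a w : P) : ∀ n : ℕ,
    (a * w) ^ n = ((List.range n).map fun j => w ^ j * a * (w ^ j)⁻¹).prod * w ^ n := by
  intro n
  induction n with
  | zero => simp
  | succ n ih =>
    rw [List.range_succ, List.map_append, List.map_singleton, List.prod_append, List.prod_singleton,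
      pow_succ, ih, pow_succ]
    group

end

variable {P : Type*} [Group P] [Finite P] {p : ℕ} [Fact p.Prime]

theorem cen_eq_of_mem_core (n : ℕ) (hn : ∀ x : P, x ∉ center P → (cen x).index = n)
    {x y : P} (hx : x ∉ center P) (hy : y ∈ core x) (hyZ : y ∉ center P) : cen y = cen x := by
  have hle : cen x ≤ cen y := fun u hu => mem_cen.mpr (mem_centralizer_iff.mp hy.2 u hu).symm
  refine (eq_of_le_of_card_ge hle (le_of_eq ?_)).symm
  have h1 := (cen x).card_mul_index
  have h2 := (cen y).card_mul_index
  rw [hn x hx] at h1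
  rw [hn y hyZ, ← h1] at h2
  have hpos : 0 < n := hn x hx ▸ Nat.pos_of_ne_zero (cen x).index_ne_zero_of_finite
  exact Nat.eq_of_mul_eq_mul_right hpos h2

/-- If `x ^ p` is non-central, everything commuting with `x` modulo the centre is in `core x`. -/
theorem mem_core_of_commute_mod (hP : IsPGroup p P) (n : ℕ) (hn : ∀ x : P, x ∉ center P → (cen x).index = n)
    {x : P} (hx : x ^ p ∉ center P) : ∀ (k : ℕ) (y : P), y ^ p ^ k = 1 → ⁅x, y⁆ ∈ center P → y ∈ core x := by
  have hxZ : x ∉ center P := fun h => hx (pow_mem h p)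
  have hxp : cen (x ^ p) = cen x := cen_eq_of_mem_core n hn hxZ (pow_mem (self_mem_core x) p) hx
  intro k
  induction k with
  | zero =>
    intro y hy _
    rw [pow_zero, pow_one] at hy
    rw [hy]; exact one_mem _
  | succ k ih =>
    intro y hy hxy
    let q := QuotientGroup.mk' (center P)
    have hq : ∀ z, q z = 1 ↔ z ∈ center P := fun z => QuotientGroup.eq_one_iff z
    have hcom : Commute (q x) (q y) := by
      have h := hxy
      rw [← hq, map_commutatorElement, commutatorElement_eq_one_iff_mul_comm] at h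
      exact h
    by_cases hyp : y ^ p ∈ center P
    · have hz : (x ^ p)⁻¹ * (x * y) ^ p ∈ center P := by
        rw [← hq, map_mul, map_inv, map_pow, map_pow, map_mul, hcom.mul_pow, ← mul_assoc,
          inv_mul_cancel, one_mul, ← map_pow, hq]
        exact hyp
      have hxyp : (x * y) ^ p = x ^ p * ((x ^ p)⁻¹ * (x * y) ^ p) := by rw [mul_inv_cancel_left]
      have hnc : (x * y) ^ p ∉ center P := fun h => hx (by
        have := mul_mem h (inv_mem hz)
        rwa [mul_inv_rev, inv_inv, ← mul_assoc, mul_inv_cancel, one_mul] at this)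
      have hxyZ : x * y ∉ center P := fun h => hnc (pow_mem h p)
      have h1 : cen ((x * y) ^ p) = cen (x * y) :=
        cen_eq_of_mem_core n hn hxyZ (pow_mem (self_mem_core _) p) hnc
      rw [hxyp, cen_mul_central hz, hxp] at h1
      have h2 : x * y ∈ core x := by
        have := self_mem_core (x * y)
        rwa [core, ← h1] at this
      have := mul_mem (inv_mem (self_mem_core x)) h2
      rwa [inv_mul_cancel_left] at this
    · have hy' : y ^ p ∈ core x := by
        refine ih _ (by rw [← pow_mul, ← pow_succ']; exact hy) ?_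
        rw [← hq, map_commutatorElement, commutatorElement_eq_one_iff_commute, map_pow]
        exact hcom.pow_right p
      have hyZ : y ∉ center P := fun h => hyp (pow_mem h p)
      have h1 : cen (y ^ p) = cen y := cen_eq_of_mem_core n hn hyZ (pow_mem (self_mem_core y) p) hyp
      rw [cen_eq_of_mem_core n hn hxZ hy' hyp] at h1
      have := self_mem_core y
      rwa [core, ← h1] at this

/-- Let P be a finite p-group whose conjugacy class sizes are exactly 1 and pᵃ for some a ≥ 1. Then every element of P has its p-th power in the center of P (P/Z(P) has exponent p). -/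
theorem result {P : Type*} [Group P] [Finite P] (p : ℕ) [Fact p.Prime]
    (hP : IsPGroup p P) (a : ℕ) (ha : 1 ≤ a)
    (hcs : {k : ℕ | ∃ x : P, (Subgroup.centralizer ({x} : Set P)).index = k} = {1, p ^ a}) (x : P) :
    x ^ p ∈ Subgroup.center P := by
  classical
  have hn : ∀ y : P, y ∉ center P → (cen y).index = p ^ a := by
    intro y hy
    have h : (cen y).index ∈ ({1, p ^ a} : Set ℕ) := hcs ▸ ⟨y, rfl⟩
    refine (Set.mem_insert_iff.mp h).resolve_left fun h1 => hy ?_
    rw [index_eq_one] at h1
    exact mem_center_iff.mpr fun g => (mem_cen.mp (h1 ▸ mem_top g : g ∈ cen y)).symm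
  have hkey : ∀ {w : P}, w ^ p ∉ center P → ∀ {y : P}, ⁅w, y⁆ ∈ center P → y ∈ core w := by
    intro w hw y hy
    obtain ⟨k, hk⟩ := hP y
    exact mem_core_of_commute_mod hP (p ^ a) hn hw k y hk hy
  by_contra hx
  have hxZ : x ∉ center P := fun h => hx (pow_mem h p)
  -- a second-centre element
  obtain ⟨z, hzZ, hz⟩ : ∃ z : P, z ∉ center P ∧ ∀ g : P, ⁅g, z⁆ ∈ center P := by
    haveI : Nontrivial (P ⧸ center P) :=
      (QuotientGroup.nontrivial_iff).mpr fun h => hxZ (h ▸ mem_top x)
    haveI := (hP.to_quotient (center P)).center_nontrivial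
    obtain ⟨⟨zb, hzb⟩, hne⟩ := exists_ne (1 : center (P ⧸ center P))
    obtain ⟨z, rfl⟩ := QuotientGroup.mk_surjective zb
    refine ⟨z, fun h => hne (Subtype.ext ((QuotientGroup.eq_one_iff z).mpr h)), fun g => ?_⟩
    rw [← QuotientGroup.eq_one_iff, ← QuotientGroup.mk'_apply, map_commutatorElement,
      commutatorElement_eq_one_iff_mul_comm]
    exact mem_center_iff.mp hzb _
  have hcenz : ∀ {w : P}, w ^ p ∉ center P → cen z = cen w := fun {w} hw =>
    cen_eq_of_mem_core (p ^ a) hn (fun h => hw (pow_mem h p)) (hkey hw (hz w)) hzZ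
  set A := cen x with hA
  have hAeq : core x = A := le_antisymm inf_le_left fun u hu => hkey hx (by
    rw [commutatorElement_eq_one_iff_mul_comm.mpr (mem_cen.mp hu)]; exact one_mem _)
  have hAcomm : ∀ u ∈ A, ∀ v ∈ A, u * v = v * u := fun u hu v hv =>
    core_comm (hAeq.ge hu) (hAeq.ge hv)
  haveI hAn : A.Normal := ⟨fun u hu g => by
    rw [hA, ← hcenz hx, mem_cen] at hu ⊢
    have hc : g⁻¹ * z * g = z * (z⁻¹ * g⁻¹ * z * g) := by group
    have hzc : z⁻¹ * g⁻¹ * z * g ∈ center P := by
      have h := hz g⁻¹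
      rw [commutatorElement_def, inv_inv] at h
      have h' := (inferInstance : (center P).Normal).conj_mem _ h z⁻¹
      rwa [inv_inv, show z⁻¹ * (g⁻¹ * z * g * z⁻¹) * z = z⁻¹ * g⁻¹ * z * g by group] at h'
    have hu2 : (g⁻¹ * z * g) * u = u * (g⁻¹ * z * g) := by
      rw [hc]
      calc z * (z⁻¹ * g⁻¹ * z * g) * u = z * (u * (z⁻¹ * g⁻¹ * z * g)) := by
            rw [mul_assoc z, mem_center_iff.mp hzc u]
        _ = z * u * (z⁻¹ * g⁻¹ * z * g) := (mul_assoc _ _ _).symm
        _ = u * (z * (z⁻¹ * g⁻¹ * z * g)) := by rw [hu, mul_assoc]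
    calc z * (g * u * g⁻¹) = g * ((g⁻¹ * z * g) * u) * g⁻¹ := by group
      _ = g * u * g⁻¹ * z := by rw [hu2]; group⟩
  have hout : ∀ y, y ∉ A → y ^ p ∈ center P := fun y hy => by
    by_contra h
    exact hy (hA ▸ (hcenz hx).symm.trans (hcenz h) ▸ (self_mem_core y).1)
  have hAcen : ∀ u ∈ A, u ∉ center P → cen u = A := fun u hu huZ =>
    cen_eq_of_mem_core (p ^ a) hn hxZ (hAeq.ge hu) huZ
  obtain ⟨y, hy⟩ : ∃ y : P, y ∉ A := by
    by_contra! hall
    exact hxZ (mem_center_iff.mpr fun g => (mem_cen.mp (hall g)).symm)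
  have hyZ : y ∉ center P := fun h => hy (hAeq ▸ center_le_core x h)
  let q := QuotientGroup.mk' (center P)
  -- `u` centralizes `y` and is independent modulo `A`
  obtain ⟨u, huy, hu⟩ : ∃ u ∈ cen y, u ∉ zpowers y ⊔ A := by
    by_contra! hall
    have hle : (cen y).map q ≤ zpowers (q y) := by
      rintro _ ⟨c, hc, rfl⟩
      obtain ⟨w, hw, b, hb, rfl⟩ := mem_sup_of_normal_right.mp (hall c hc)
      have hwy : w ∈ cen y := by
        obtain ⟨i, rfl⟩ := mem_zpowers_iff.mp hw
        exact mem_cen.mpr (Commute.self_zpow y i)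
      have hby : b ∈ cen y := by
        have := mul_mem (inv_mem hwy) hc
        rwa [inv_mul_cancel_left] at this
      have hbZ : b ∈ center P := by
        by_contra hbZ
        have : y ∈ cen b := mem_cen.mpr (mem_cen.mp hby).symm
        rw [hAcen b hb hbZ] at this
        exact hy this
      rw [map_mul, show q b = 1 from (QuotientGroup.eq_one_iff b).mpr hbZ, mul_one]
      obtain ⟨i, rfl⟩ := mem_zpowers_iff.mp hw
      exact ⟨i, (map_zpow q y i).symm⟩
    have h1 : Nat.card ((cen y).map q) ≤ p := by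
      refine le_trans (card_le_of_le hle) ?_
      rw [Nat.card_zpowers]
      refine orderOf_le_of_pow_eq_one (Fact.out : p.Prime).pos ?_
      rw [← map_pow]; exact (QuotientGroup.eq_one_iff _).mpr (hout y hy)
    have hZy : center P ≤ cen y := fun c hc => mem_cen.mpr (mem_center_iff.mp hc y)
    have hZA : center P ≤ A := fun c hc => mem_cen.mpr (mem_center_iff.mp hc x)
    have hcard : Nat.card ((cen y).map q) = Nat.card (A.map q) := by
      have e : ∀ H : Subgroup P, center P ≤ H → Nat.card (H.map q) * H.index = Nat.card (P ⧸ center P) := by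
        intro H hH
        rw [← (H.map q).card_mul_index, index_map_eq _ (QuotientGroup.mk'_surjective _) (by rw [QuotientGroup.ker_mk']; exact hH)]
      have h2 := e _ hZy
      have h3 := e _ hZA
      rw [hn y hyZ, ← h3, hA, hn x hxZ] at h2
      exact Nat.eq_of_mul_eq_mul_right (pow_pos (Fact.out : p.Prime).pos a) h2
    have h4 : orderOf (q x) ≤ p := by
      rw [← Nat.card_zpowers]
      exact (card_le_of_le (zpowers_le.mpr (mem_map_of_mem q (mem_cen.mpr rfl : x ∈ A)))).trans (hcard ▸ h1)
    obtain ⟨k, hk⟩ := IsPGroup.iff_orderOf.mp (hP.to_quotient (center P)) (q x)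
    have hk1 : k ≤ 1 := by
      by_contra hk2
      rw [hk] at h4
      exact absurd h4 (not_le.mpr (lt_self_pow₀ (Fact.out : p.Prime).one_lt (by omega)))
    refine hx ((QuotientGroup.eq_one_iff _).mp ?_)
    show q (x ^ p) = 1
    rw [map_pow]
    exact orderOf_dvd_iff_pow_eq_one.mp (hk ▸ by simpa using pow_dvd_pow p hk1)
  have huy' : Commute y u := mem_cen.mp huy
  have huA : u ∉ A := fun h => hu (mem_sup_right h)
  -- the norms
  letI : CommGroup A := { (inferInstance : Group A) with
    mul_comm := fun s t => Subtype.ext (hAcomm s s.2 t t.2) }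
  have hnorm : ∀ w, w ∉ A → ((List.range p).map fun j => w ^ j * x * (w ^ j)⁻¹).prod ∈ center P := by
    intro w hw
    have h1 : x * w ∉ A := fun h => hw (by
      have := mul_mem (inv_mem (mem_cen.mpr rfl : x ∈ cen x)) h
      rwa [inv_mul_cancel_left] at this)
    have h2 := mul_mem (hout _ h1) (inv_mem (hout w hw))
    rwa [mul_pow_conj, mul_inv_cancel_right] at h2
  have hxA : x ∈ A := mem_cen.mpr rfl
  let f : ZMod p → ZMod p → A := fun j k =>
    MulAut.conjNormal (y ^ j.val * u ^ k.val) ⟨x, hxA⟩
  have hper : ∀ (w : P), w ∉ A → ∀ (i : ℕ), MulAut.conjNormal (w ^ i) (⟨x, hxA⟩ : A) =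
      MulAut.conjNormal (w ^ (i % p)) ⟨x, hxA⟩ := by
    intro w hw i
    refine Subtype.ext ?_
    simp only [MulAut.conjNormal_apply]
    conv_lhs => rw [← Nat.mod_add_div i p, pow_add, pow_mul]
    have hc : (w ^ p) ^ (i / p) ∈ center P := pow_mem (hout w hw) _
    rw [mul_inv_rev, mul_assoc _ _ x, ← mem_center_iff.mp hc x]
    group
  have hN : ∀ i : ZMod p, ((∏ j, f j (i * j) : A) : P) ∈ center P := by
    intro i
    have hw : y * u ^ i.val ∉ A := by
      intro hmem
      rcases eq_or_ne i 0 with rfl | hi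
      · rw [ZMod.val_zero, pow_zero, mul_one] at hmem; exact hy hmem
      have hu' : u ^ i.val ∈ zpowers y ⊔ A := by
        have := mul_mem (mem_sup_left (T := A) (inv_mem (mem_zpowers y))) (mem_sup_right (S := zpowers y) hmem)
        rwa [inv_mul_cancel_left] at this
      have hcop : Nat.Coprime i.val p := by
        refine Nat.Coprime.symm ((Fact.out : p.Prime).coprime_iff_not_dvd.mpr fun hd => hi ?_)
        rw [← ZMod.natCast_zmod_val i]
        exact (ZMod.natCast_eq_zero_iff _ _).mpr hd
      obtain ⟨m, hm⟩ := Nat.exists_mul_mod_eq_one_of_coprime hcop (Fact.out : p.Prime).one_lt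
      apply hu
      have hsplit : u = (u ^ i.val) ^ m * ((u ^ p) ^ (i.val * m / p))⁻¹ := by
        have he : i.val * m = 1 + p * (i.val * m / p) := by
          have := Nat.mod_add_div (i.val * m) p
          omega
        calc u = u ^ (1 + p * (i.val * m / p)) * ((u ^ p) ^ (i.val * m / p))⁻¹ := by
              rw [pow_add, pow_one, pow_mul, mul_inv_cancel_right]
          _ = (u ^ i.val) ^ m * ((u ^ p) ^ (i.val * m / p))⁻¹ := by rw [← he, pow_mul]
      rw [hsplit]
      exact mul_mem (pow_mem hu' m) (inv_mem (pow_mem (mem_sup_right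
        (hAeq ▸ center_le_core x (hout u huA))) _))
    have h := hnorm _ hw
    have e : ((List.range p).map fun j => (y * u ^ i.val) ^ j * x * ((y * u ^ i.val) ^ j)⁻¹).prod =
        ((∏ j, f j (i * j) : A) : P) := by
      have e1 : (∏ j : ZMod p, f j (i * j)) =
          ∏ j ∈ Finset.range p, MulAut.conjNormal ((y * u ^ i.val) ^ j) (⟨x, hxA⟩ : A) := by
        refine Finset.prod_bij (fun (j : ZMod p) _ => j.val) (fun j _ => Finset.mem_range.mpr (ZMod.val_lt j))
          (fun s _ t _ hst => ZMod.val_injective p hst)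
          (fun b hb => ⟨(b : ZMod p), Finset.mem_univ _, by
            rw [ZMod.val_natCast, Nat.mod_eq_of_lt (Finset.mem_range.mp hb)]⟩) fun j _ => ?_
        simp only [f]
        rw [(huy'.pow_right _).mul_pow, map_mul, map_mul, MulAut.mul_apply, MulAut.mul_apply, ← pow_mul,
          ZMod.val_mul]
        exact congrArg _ (hper u huA (i.val * j.val)).symm
      rw [e1, Finset.prod_eq_multiset_prod, Finset.range_val, ← Multiset.coe_range, Multiset.map_coe,
        Multiset.prod_coe, ← Subgroup.coe_subtype, map_list_prod, List.map_map]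
      exact congrArg List.prod (List.map_congr_left fun j _ => (MulAut.conjNormal_apply (H := A) _ ⟨x, hxA⟩).symm)
    rwa [e] at h
  have hrow : ((∏ k, f 0 k : A) : P) ∈ center P ∧
      ∀ j : ZMod p, ((∏ k, f j k : A) : P) ∈ center P := by
    have h0 : ((∏ k, f 0 k : A) : P) ∈ center P := by
      have h := hnorm u huA
      have e : ((List.range p).map fun j => u ^ j * x * (u ^ j)⁻¹).prod = ((∏ k, f 0 k : A) : P) := by
        have e1 : (∏ k, f 0 k : A) = ∏ j ∈ Finset.range p, MulAut.conjNormal (u ^ j) (⟨x, hxA⟩ : A) := by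
          refine Finset.prod_bij (fun (j : ZMod p) _ => j.val) (fun j _ => Finset.mem_range.mpr (ZMod.val_lt j))
            (fun s _ t _ hst => ZMod.val_injective p hst)
            (fun b hb => ⟨(b : ZMod p), Finset.mem_univ _, by
              rw [ZMod.val_natCast, Nat.mod_eq_of_lt (Finset.mem_range.mp hb)]⟩) fun j _ => ?_
          simp only [f, ZMod.val_zero, pow_zero, one_mul]
        rw [e1, Finset.prod_eq_multiset_prod, Finset.range_val, ← Multiset.coe_range, Multiset.map_coe,
          Multiset.prod_coe, ← Subgroup.coe_subtype, map_list_prod, List.map_map]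
        exact congrArg List.prod (List.map_congr_left fun j _ => (MulAut.conjNormal_apply (H := A) _ ⟨x, hxA⟩).symm)
      rwa [e] at h
    refine ⟨h0, fun j => ?_⟩
    have e : (∏ k, f j k : A) = MulAut.conjNormal (y ^ j.val) (∏ k, f 0 k) := by
      rw [map_prod]
      refine Finset.prod_congr rfl fun k _ => ?_
      simp only [f, ZMod.val_zero, pow_zero, map_one, map_mul, MulAut.mul_apply, MulAut.one_apply]
    rw [e, MulAut.conjNormal_apply, mem_center_iff.mp h0, mul_inv_cancel_right]
    exact h0
  -- the partition identity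
  have hid : (∏ i : ZMod p, ∏ j, f j (i * j)) * ∏ k, f 0 k = (⟨x, hxA⟩ : A) ^ p * ∏ j, ∏ k, f j k := by
    rw [Finset.prod_comm, ← Finset.mul_prod_erase Finset.univ _ (Finset.mem_univ (0 : ZMod p)),
      ← Finset.mul_prod_erase Finset.univ (fun j => ∏ k, f j k) (Finset.mem_univ (0 : ZMod p))]
    have h0 : ∏ i : ZMod p, f 0 (i * 0) = (⟨x, hxA⟩ : A) ^ p := by
      simp only [mul_zero, Finset.prod_const, Finset.card_univ, ZMod.card, f, ZMod.val_zero, pow_zero,
        one_mul, map_one, MulAut.one_apply]
    have hj : ∀ j ∈ Finset.univ.erase (0 : ZMod p), ∏ i : ZMod p, f j (i * j) = ∏ k, f j k := fun j hj =>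
      Fintype.prod_equiv (Equiv.mulRight₀ j (Finset.mem_erase.mp hj).1) _ _ fun i => rfl
    rw [h0, Finset.prod_congr rfl hj]
    rw [mul_comm (∏ k, f 0 k) (∏ x ∈ _, _), mul_assoc]
  have hmem : ∀ {s : Finset (ZMod p)} {g : ZMod p → A}, (∀ j ∈ s, ((g j : A) : P) ∈ center P) →
      ((∏ j ∈ s, g j : A) : P) ∈ center P := fun {s g} h => Finset.prod_induction g
        (fun t => (t : P) ∈ center P) (fun s t hs ht => mul_mem hs ht) (one_mem _) h
  have h1 := congrArg (fun t : A => (t : P)) hid
  simp only [Subgroup.coe_mul, SubmonoidClass.coe_pow] at h1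
  have hl := mul_mem (hmem (s := Finset.univ) fun i _ => hN i) hrow.1
  rw [h1] at hl
  exact hx ((mul_mem_cancel_right (hmem (s := Finset.univ) fun j _ => hrow.2 j)).mp hl)

end Cfsg.Agent.S4365
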