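import Cfsg.Statements.S4134
import Cfsg.Agent.S4365
import Cfsg.Agent.S4314
import Cfsg.Agent.Lib.Fusion.Parts
import Mathlib.GroupTheory.Transfer

set_option linter.style.haveILetI false

set_option autoImplicit false
open Cfsg

namespace Cfsg.Agent.S4134


open Subgroup
open scoped commutatorElement IsMulCommutative
open Cfsg.Agent.S4314 (cen mem_cen mem_center_of_index center_le_cen sylow_le_center cen_mul_le)

section Action
variable {H V : Type*} [Group H] [CommGroup V] {φ : H →* MulAut V} {W : Subgroup V}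

theorem prod_mem_of_fix (hfix : ∀ h : H, h ≠ 1 → ∀ v, φ h v = v → v ∈ W) (M : Subgroup H)
    [Fintype M] (hM : M ≠ ⊥) (u : V) : ∏ m : M, φ (m : H) u ∈ W := by
  obtain ⟨μ, hμ, hμ1⟩ := (M.bot_or_exists_ne_one).resolve_left hM
  refine hfix μ hμ1 _ ?_
  rw [map_prod]
  exact Fintype.prod_equiv (Equiv.mulLeft (⟨μ, hμ⟩ : M)) _ _ fun m => by simp [map_mul]

theorem prod_pow_mem_of_fix (hfix : ∀ h : H, h ≠ 1 → ∀ v, φ h v = v → v ∈ W) {e : H} {p : ℕ}
    (hep : e ^ p = 1) (he : e ≠ 1) (u : V) : ∏ i ∈ Finset.range p, φ (e ^ i) u ∈ W := by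
  refine hfix e he _ ?_
  have h1 := Finset.prod_range_succ' (fun i => φ (e ^ i) u) p
  rw [Finset.prod_range_succ, hep, pow_zero] at h1
  rw [map_prod]
  refine Eq.trans ?_ (mul_right_cancel h1).symm
  exact Finset.prod_congr rfl fun i _ => by rw [pow_succ', map_mul]; rfl

theorem pow_card_mem (hfix : ∀ h : H, h ≠ 1 → ∀ v, φ h v = v → v ∈ W) (M : Subgroup H) [Fintype M]
    (hM : M ≠ ⊥) {p : ℕ} (hp : 0 < p) (a : H) (e : M → H) (hep : ∀ m, e m ^ p = 1)
    (he : ∀ m, e m ≠ 1) (σ : ℕ → M → M)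
    (hσ : ∀ i, 0 < i → i < p → Function.Bijective (σ i))
    (hes : ∀ i m, 0 < i → i < p → e m ^ i = (σ i m : H) * a ^ i) (u : V) :
    u ^ Fintype.card M ∈ W := by
  have h1 : ∏ m : M, ∏ i ∈ Finset.range p, φ (e m ^ i) u ∈ W :=
    prod_mem fun m _ => prod_pow_mem_of_fix hfix (hep m) (he m) u
  obtain ⟨k, rfl⟩ : ∃ k, p = k + 1 := ⟨p - 1, by omega⟩
  rw [Finset.prod_comm, Finset.prod_range_succ'] at h1
  have h2 : ∏ i ∈ Finset.range k, ∏ m : M, φ (e m ^ (i + 1)) u ∈ W := prod_mem fun i hi => by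
    have hi' : i + 1 < k + 1 := by have := Finset.mem_range.mp hi; omega
    have : ∏ m : M, φ (e m ^ (i + 1)) u = ∏ m : M, φ (m : H) (φ (a ^ (i + 1)) u) := by
      rw [← (hσ (i + 1) (by omega) hi').prod_comp fun m : M => φ (m : H) (φ (a ^ (i + 1)) u)]
      exact Finset.prod_congr rfl fun m _ => by
        rw [hes (i + 1) m (by omega) hi', map_mul]; rfl
    rw [this]
    exact prod_mem_of_fix hfix M hM _
  have h3 := (W.mul_mem_cancel_left h2).mp h1
  simpa [Finset.prod_const] using h3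

/-- No elementary abelian subgroup of order `p ^ 2` acts with so few fixed points. -/
theorem pow_prime_mem [Finite H] (hfix : ∀ h : H, h ≠ 1 → ∀ v, φ h v = v → v ∈ W) {p : ℕ}
    [hp : Fact p.Prime] {a b : H} (ha : orderOf a = p) (hb : orderOf b = p) (hab : Commute a b)
    (hba : b ∉ zpowers a) (u : V) : u ^ p ∈ W := by
  have hanot : a ∉ zpowers b := fun h => hba (by
    have heq : zpowers a = zpowers b := eq_of_le_of_card_ge (zpowers_le.mpr h)
      (by rw [Nat.card_zpowers, Nat.card_zpowers, ha, hb])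
    exact heq ▸ mem_zpowers b)
  haveI := Fintype.ofFinite (zpowers b)
  have hM : zpowers b ≠ ⊥ := fun h => hanot.elim (by
    rw [zpowers_eq_bot] at h
    rw [h, orderOf_one] at hb
    exact absurd hb.symm hp.out.ne_one)
  have hcomm : ∀ m : zpowers b, Commute (m : H) a := fun m => by
    obtain ⟨j, hj⟩ := mem_zpowers_iff.mp m.2
    rw [← hj]; exact (hab.symm).zpow_left j
  have hpow : ∀ m : zpowers b, (m : H) ^ p = 1 := fun m => by
    rw [← hb]
    obtain ⟨j, hj⟩ := mem_zpowers_iff.mp m.2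
    rw [← hj, ← zpow_natCast, ← zpow_mul, mul_comm, zpow_mul, zpow_natCast, pow_orderOf_eq_one,
      one_zpow]
  have := pow_card_mem hfix (zpowers b) hM hp.out.pos a (fun m => (m : H) * a)
    (fun m => by rw [(hcomm m).mul_pow, hpow, one_mul, ← ha, pow_orderOf_eq_one])
    (fun m h => hanot (by rw [eq_inv_of_mul_eq_one_right h]; exact inv_mem m.2))
    (fun i m => m ^ i)
    (fun i hi hip => (powCoprime (G := zpowers b) (n := i) (by
      rw [Nat.card_zpowers, hb]
      exact (Nat.Prime.coprime_iff_not_dvd hp.out).mpr fun h => by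
        have := Nat.le_of_dvd hi h; omega)).bijective)
    (fun i m _ _ => by rw [(hcomm m).mul_pow]; rfl) u
  rwa [← Nat.card_eq_fintype_card, Nat.card_zpowers, hb] at this

/-- A group normalized by an element of order `p` acting fixed-point-freely on it. -/
theorem pow_card_complement_mem [Finite H] (hfix : ∀ h : H, h ≠ 1 → ∀ v, φ h v = v → v ∈ W)
    {p : ℕ} [hp : Fact p.Prime] {a : H} (ha : orderOf a = p) {M : Subgroup H} [M.Normal]
    (hM : M ≠ ⊥) (hC : ∀ m ∈ M, Commute m a → m = 1) (u : V) : u ^ Nat.card M ∈ W := by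
  haveI := Fintype.ofFinite M
  rw [Nat.card_eq_fintype_card]
  let σ : ℕ → M → M := fun i m => ⟨(m : H) * (a ^ i * (m : H)⁻¹ * (a ^ i)⁻¹),
    M.mul_mem m.2 (Subgroup.Normal.conj_mem inferInstance _ (M.inv_mem m.2) _)⟩
  refine pow_card_mem hfix M hM hp.out.pos a (fun m => (m : H) * a * (m : H)⁻¹) ?_ ?_ σ ?_ ?_ u
  · intro m
    rw [conj_pow, ← ha, pow_orderOf_eq_one, mul_one, mul_inv_cancel]
  · intro m h
    rw [conj_eq_one_iff] at h
    rw [h, orderOf_one] at ha
    exact hp.out.ne_one ha.symm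
  · intro i hi hip
    refine (Finite.injective_iff_bijective).mp fun m m' he => ?_
    have he' : (m : H) * a ^ i * (m : H)⁻¹ = (m' : H) * a ^ i * (m' : H)⁻¹ := by
      have h1 : (m : H) * (a ^ i * (m : H)⁻¹ * (a ^ i)⁻¹) =
          (m' : H) * (a ^ i * (m' : H)⁻¹ * (a ^ i)⁻¹) := congrArg Subtype.val he
      exact mul_right_cancel (b := (a ^ i)⁻¹) (by
        calc _ = (m : H) * (a ^ i * (m : H)⁻¹ * (a ^ i)⁻¹) := by group
          _ = _ := h1
          _ = _ := by group)
    have hc : Commute ((m' : H)⁻¹ * m) (a ^ i) := by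
      calc (m' : H)⁻¹ * m * a ^ i = (m' : H)⁻¹ * ((m : H) * a ^ i * (m : H)⁻¹) * m := by group
        _ = a ^ i * ((m' : H)⁻¹ * m) := by rw [he']; group
    obtain ⟨j, hj⟩ := exists_pow_eq_self_of_coprime (x := a) (n := i) (by
      rw [ha]
      exact ((Nat.Prime.coprime_iff_not_dvd hp.out).mpr fun h => by
        have := Nat.le_of_dvd hi h; omega).symm)
    have := hC _ (M.mul_mem (M.inv_mem m'.2) m.2) (hj ▸ hc.pow_right j)
    exact Subtype.ext (inv_mul_eq_one.mp this).symm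
  · intro i m _ _
    rw [conj_pow]
    simp only [σ]
    group

end Action

/-- An element whose `m`-th power lies in `W`, of order dividing `k` prime to `m`, lies in `W`. -/
theorem mem_of_pow_mem {G : Type*} [Group G] {W : Subgroup G} {x : G} {k m : ℕ} (hk : x ^ k = 1)
    (hm : x ^ m ∈ W) (hco : m.Coprime k) : x ∈ W := by
  obtain ⟨j, hj⟩ := exists_pow_eq_self_of_coprime (x := x) (n := m)
    (hco.coprime_dvd_right (orderOf_dvd_of_pow_eq_one hk))
  exact hj ▸ pow_mem hm j

theorem commute_of_central_commutator {G : Type*} [Group G] {x h : G} (hc : ⁅x, h⁆ ∈ center G)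
    {A B : ℕ} (hA : x ^ A = 1) (hB : h ^ B = 1) (hco : A.Coprime B) : x * h = h * x := by
  set z := ⁅x, h⁆ with hz
  have hzc : ∀ g, g * z = z * g := mem_center_iff.mp hc
  have hxh : x * h * x⁻¹ = z * h := by rw [hz, commutatorElement_def]; group
  have hiter : ∀ n : ℕ, x ^ n * h * (x ^ n)⁻¹ = z ^ n * h := by
    intro n
    induction n with
    | zero => simp
    | succ n ih =>
      calc x ^ (n + 1) * h * (x ^ (n + 1))⁻¹ = x * (x ^ n * h * (x ^ n)⁻¹) * x⁻¹ := by
            rw [pow_succ']; group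
        _ = (x * z ^ n) * h * x⁻¹ := by rw [ih]; group
        _ = (z ^ n * x) * h * x⁻¹ := by
            rw [((show Commute x z from hzc x).pow_right n).eq]
        _ = z ^ n * (x * h * x⁻¹) := by group
        _ = _ := by rw [hxh, pow_succ, mul_assoc]
  have h1 := hiter A
  rw [hA, one_mul, inv_one, mul_one, right_eq_mul] at h1
  have h2 : z ^ B = 1 := by
    have := congrArg (· ^ B) hxh
    simp only [conj_pow, hB, mul_one, mul_inv_cancel] at this
    rw [((show Commute h z from hzc h).symm).mul_pow, hB, mul_one] at this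
    exact this.symm
  have h3 : z = 1 := orderOf_eq_one_iff.mp (Nat.eq_one_of_dvd_coprimes hco
    (orderOf_dvd_of_pow_eq_one h1) (orderOf_dvd_of_pow_eq_one h2))
  exact commutatorElement_eq_one_iff_mul_comm.mp h3

/-- The core contradiction, inside the normalizer of an abelian centralizer. -/
theorem no_config {K : Type*} [Group K] [Finite K] (Z A : Subgroup K) [A.Normal] [IsMulCommutative A]
    (hZ : Z ≤ center K) (hCA : ∀ t ∉ A, ∀ w ∈ A, t * w = w * t → w ∈ Z)
    {p q : ℕ} [hp : Fact p.Prime] [hq : Fact q.Prime] (hqp : q ≠ p) (P : Sylow p K) {x y : K}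
    (hxA : x ∈ A) (hxZ : x ∉ Z) {k : ℕ} (hxk : x ^ p ^ k = 1) (hxp : x ^ p ∈ Z)
    (hx : ∀ g ∈ (P : Subgroup K), ⁅g, x⁆ ∈ Z)
    (hyA : y ∈ A) (hyZ : y ∉ Z) {l : ℕ} (hyl : y ^ q ^ l = 1)
    (hpA : p ∣ A.index) (hqA : q ∣ A.index) (hmin : ∀ r, r.Prime → r ∣ A.index → p ≤ r) : False := by
  classical
  haveI hZn : Z.Normal := ⟨fun n hn g => by
    rw [mem_center_iff.mp (hZ hn) g, mul_inv_cancel_right]; exact hn⟩
  let φ : K ⧸ A →* MulAut A := QuotientGroup.lift A MulAut.conjNormal fun a ha => by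
    rw [MonoidHom.mem_ker]
    refine MulEquiv.ext fun v => Subtype.ext ?_
    rw [MulAut.conjNormal_apply]
    show a * v * a⁻¹ = v
    rw [show a * (v : K) = v * a from congrArg Subtype.val
      ((IsMulCommutative.is_comm (M := A)).comm ⟨a, ha⟩ v), mul_inv_cancel_right]
  set W := Z.subgroupOf A with hW
  have hfix : ∀ h : K ⧸ A, h ≠ 1 → ∀ v, φ h v = v → v ∈ W := by
    intro h h1 v hv
    obtain ⟨t, rfl⟩ := QuotientGroup.mk_surjective h
    have hv' : t * (v : K) * t⁻¹ = v := by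
      have := congrArg Subtype.val hv
      simpa [φ, MulAut.conjNormal_apply] using this
    exact mem_subgroupOf.mpr (hCA t (fun ht => h1 ((QuotientGroup.eq_one_iff t).mpr ht)) v v.2
      (mul_inv_eq_iff_eq_mul.mp hv'))
  set π := QuotientGroup.mk' A with hπ
  have hπs : Function.Surjective π := QuotientGroup.mk'_surjective A
  -- the image of `P` has exponent `p`
  have hexp : ∀ g ∈ (P : Subgroup K), g ^ p ∈ A := by
    intro g hg
    have hc : Commute (QuotientGroup.mk' Z g) (QuotientGroup.mk' Z x) := by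
      rw [commute_iff_eq, ← commutatorElement_eq_one_iff_mul_comm, ← map_commutatorElement]
      exact (QuotientGroup.eq_one_iff _).mpr (hx g hg)
    have h1 : (g ^ p)⁻¹ * (g * x) ^ p ∈ Z := by
      rw [← QuotientGroup.eq_one_iff, ← QuotientGroup.mk'_apply, map_mul, map_inv, map_pow, map_pow,
        map_mul, hc.mul_pow, inv_mul_cancel_left, ← map_pow]
      exact (QuotientGroup.eq_one_iff _).mpr hxp
    obtain ⟨z, hz, hzeq⟩ : ∃ z ∈ Z, (g * x) ^ p = g ^ p * z := ⟨_, h1, by group⟩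
    have h2 : Commute (g * x) (g ^ p) := by
      have h3 : g ^ p = (g * x) ^ p * z⁻¹ := by rw [hzeq, mul_inv_cancel_right]
      rw [h3]
      exact (Commute.self_pow _ p).mul_right (mem_center_iff.mp (inv_mem (hZ hz)) _)
    have h4 : Commute x (g ^ p) := by
      have := (Commute.self_pow g p).inv_left.mul_left h2
      rwa [inv_mul_cancel_left] at this
    by_contra hgA
    exact hxZ (hCA _ hgA x hxA h4.eq.symm)
  set PH : Sylow p (K ⧸ A) := P.mapSurjective hπs with hPH
  have hPHcoe : (PH : Subgroup (K ⧸ A)) = (P : Subgroup K).map π := by rw [hPH]; rfl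
  have hPHexp : ∀ a ∈ (PH : Subgroup (K ⧸ A)), a ^ p = 1 := by
    intro a ha
    rw [hPHcoe] at ha
    obtain ⟨g, hg, rfl⟩ := ha
    rw [← map_pow]
    exact (QuotientGroup.eq_one_iff _).mpr (hexp g hg)
  have hcardH : Nat.card (K ⧸ A) = A.index := A.index_eq_card.symm
  haveI : Nontrivial (PH : Subgroup (K ⧸ A)) := by
    rw [Subgroup.nontrivial_iff_ne_bot]
    intro h
    have h1 : p ∣ Nat.card (PH : Subgroup (K ⧸ A)) := PH.dvd_card_of_dvd_card (hcardH ▸ hpA)
    rw [h, card_bot] at h1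
    exact hp.out.one_lt.ne' (Nat.dvd_one.mp h1)
  haveI := PH.2.center_nontrivial
  obtain ⟨⟨a₀, ha₀c⟩, ha₀1⟩ := exists_ne (1 : center (PH : Subgroup (K ⧸ A)))
  set a := (a₀ : K ⧸ A) with hadef
  have haP : a ∈ (PH : Subgroup (K ⧸ A)) := a₀.2
  have ha1 : a ≠ 1 := fun h => ha₀1 (Subtype.ext (Subtype.ext h))
  have hord : ∀ b ∈ (PH : Subgroup (K ⧸ A)), b ≠ 1 → orderOf b = p := fun b hb hb1 =>
    orderOf_eq_prime (hPHexp b hb) hb1
  have hPHz : (PH : Subgroup (K ⧸ A)) = zpowers a := by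
    refine le_antisymm (fun b hb => ?_) (zpowers_le.mpr haP)
    by_contra hba
    have hb1 : b ≠ 1 := fun h => hba (h ▸ one_mem _)
    have hab : Commute a b :=
      (congrArg Subtype.val (mem_center_iff.mp ha₀c ⟨b, hb⟩)).symm
    have h1 := pow_prime_mem hfix (hord a haP ha1) (hord b hb hb1) hab hba (⟨y, hyA⟩ : A)
    exact hyZ (mem_of_pow_mem (W := Z) hyl (mem_subgroupOf.mp h1)
      (((Nat.coprime_primes hp.out hq.out).mpr hqp.symm).pow_right l))
  have hcyc : IsCyclic (PH : Subgroup (K ⧸ A)) := by rw [hPHz]; infer_instance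
  have hminFac : (Nat.card (K ⧸ A)).minFac = p := by
    rw [hcardH]
    exact le_antisymm (Nat.minFac_le_of_dvd hp.out.two_le hpA)
      (hmin _ (Nat.minFac_prime fun h => by
        rw [h] at hpA; exact hp.out.one_lt.ne' (Nat.dvd_one.mp hpA)) (Nat.minFac_dvd _))
  have hcompl := hcyc.isComplement' hminFac (P := PH)
  set M := (MonoidHom.transferSylow PH (hcyc.normalizer_le_centralizer hminFac)).ker with hMdef
  haveI : M.Normal := MonoidHom.normal_ker _
  have hcardP : Nat.card (PH : Subgroup (K ⧸ A)) = p := by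
    rw [hPHz, Nat.card_zpowers]; exact hord a haP ha1
  have hMdis : Disjoint M (PH : Subgroup (K ⧸ A)) := hcompl.disjoint
  have hMidx : (PH : Subgroup (K ⧸ A)).index = Nat.card M := hcompl.index_eq_card
  have hMp : ¬ p ∣ Nat.card M := hMidx ▸ PH.not_dvd_index
  have hM : M ≠ ⊥ := by
    intro h
    have h1 := hcompl.card_mul
    rw [h, card_bot, one_mul, hcardP, hcardH] at h1
    rw [← h1] at hqA
    exact hqp ((Nat.prime_dvd_prime_iff_eq hq.out hp.out).mp hqA)
  -- no element of the complement commutes with `a`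
  have hC : ∀ m ∈ M, Commute m a → m = 1 := by
    intro m hm hma
    by_contra hm1
    obtain ⟨t, ht⟩ := hπs (m * a)
    obtain ⟨j, r, hr, hrt⟩ := Nat.exists_eq_pow_mul_and_not_dvd (orderOf_pos t).ne' p hp.out.ne_one
    have hmM : m ^ Nat.card M = 1 := by
      have := pow_card_eq_one' (x := (⟨m, hm⟩ : M))
      exact congrArg Subtype.val this
    set g' := t ^ Nat.card M with hg'
    set h' := t ^ p ^ j with hh'
    have hg'π : π g' = a ^ Nat.card M := by
      rw [hg', map_pow, ht, hma.mul_pow, hmM, one_mul]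
    have hg'A : g' ∉ A := fun h => by
      have h1 : π g' = 1 := (QuotientGroup.eq_one_iff _).mpr h
      rw [hg'π] at h1
      exact hMp (hord a haP ha1 ▸ orderOf_dvd_of_pow_eq_one h1)
    have hh'A : h' ∉ A := fun h => by
      have h1 : π h' = 1 := (QuotientGroup.eq_one_iff _).mpr h
      rw [hh', map_pow, ht, hma.mul_pow] at h1
      have h2 : m ^ p ^ j ∈ (PH : Subgroup (K ⧸ A)) := by
        rw [eq_inv_of_mul_eq_one_left h1]
        exact inv_mem (pow_mem haP _)
      have h3 : m ^ p ^ j = 1 := (Subgroup.mem_bot).mp (hMdis.eq_bot ▸ mem_inf.mpr ⟨pow_mem hm _, h2⟩)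
      exact hm1 (mem_bot.mp (mem_of_pow_mem (W := ⊥) hmM (mem_bot.mpr h3)
        (((Nat.Prime.coprime_iff_not_dvd hp.out).mpr hMp).pow_left j)))
    obtain ⟨g, hg, hgeq⟩ : ∃ g ∈ (P : Subgroup K), π g = π g' := by
      have h1 : π g' ∈ (PH : Subgroup (K ⧸ A)) := hg'π ▸ pow_mem haP _
      rw [hPHcoe] at h1
      exact h1
    set c := g⁻¹ * g' with hc
    have hcA : c ∈ A := (QuotientGroup.eq).mp hgeq
    have hcx : c * x = x * c :=
      congrArg Subtype.val ((IsMulCommutative.is_comm (M := A)).comm ⟨c, hcA⟩ ⟨x, hxA⟩)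
    have hgx : g' * x * g'⁻¹ = ⁅g, x⁆ * x := by
      calc g' * x * g'⁻¹ = g * (c * x * c⁻¹) * g⁻¹ := by rw [hc]; group
        _ = g * x * g⁻¹ := by rw [hcx, mul_inv_cancel_right]
        _ = _ := by rw [commutatorElement_def]; group
    have hw : ⁅x, h'⁆ ∈ A := by
      rw [commutatorElement_def, mul_assoc, mul_assoc, ← mul_assoc h']
      exact A.mul_mem hxA (Subgroup.Normal.conj_mem inferInstance _ (A.inv_mem hxA) h')
    have hgh : g' * h' * g'⁻¹ = h' := by
      rw [((Commute.refl t).pow_pow (Nat.card M) (p ^ j)).eq, mul_inv_cancel_right]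
    set z := ⁅g, x⁆ with hzdef
    have hzc : ∀ u, u * z = z * u := mem_center_iff.mp (hZ (hx g hg))
    have hfixw : g' * ⁅x, h'⁆ * g'⁻¹ = ⁅x, h'⁆ := by
      calc g' * ⁅x, h'⁆ * g'⁻¹
          = (g' * x * g'⁻¹) * (g' * h' * g'⁻¹) * (g' * x * g'⁻¹)⁻¹ * (g' * h' * g'⁻¹)⁻¹ := by
            rw [commutatorElement_def]; group
        _ = z * (x * h' * x⁻¹) * z⁻¹ * h'⁻¹ := by rw [hgx, hgh]; group
        _ = (x * h' * x⁻¹) * h'⁻¹ := by rw [← hzc, mul_inv_cancel_right]
        _ = _ := by rw [commutatorElement_def]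
    have hwZ := hCA g' hg'A _ hw (mul_inv_eq_iff_eq_mul.mp hfixw)
    have hcomm := commute_of_central_commutator (hZ hwZ) hxk
      (show h' ^ r = 1 by rw [hh', ← pow_mul, ← hrt, pow_orderOf_eq_one])
      (((Nat.Prime.coprime_iff_not_dvd hp.out).mpr hr).pow_left k)
    exact hxZ (hCA h' hh'A x hxA hcomm.symm)
  have h1 := pow_card_complement_mem hfix (hord a haP ha1) hM hC (⟨x, hxA⟩ : A)
  exact hxZ (mem_of_pow_mem (W := Z) hxk (mem_subgroupOf.mp h1)
    (((Nat.Prime.coprime_iff_not_dvd hp.out).mpr hMp).symm.pow_right k))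

section TwoSizes
variable {G : Type*} [Group G] [Finite G] {n : ℕ}

theorem cen_eq (hn : ∀ x : G, x ∉ center G → (cen x).index = n) {x y : G} (hx : x ∉ center G)
    (hy : y ∉ center G) (hle : cen x ≤ cen y) : cen x = cen y := by
  refine le_antisymm hle ?_
  have h1 : (cen x).relIndex (cen y) * (cen y).index = (cen x).index := relIndex_mul_index hle
  rw [hn x hx, hn y hy] at h1
  have hpos : 0 < n := hn x hx ▸ Nat.pos_of_ne_zero index_ne_zero_of_finite
  exact relIndex_eq_one.mp ((Nat.mul_eq_right hpos.ne').mp h1)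

/-- A non-central element and a commuting element of coprime order. -/
theorem cen_le_of_coprime (hn : ∀ x : G, x ∉ center G → (cen x).index = n) {x y : G}
    (hx : x ∉ center G) (hc : Commute x y) (hco : (orderOf x).Coprime (orderOf y)) :
    cen x ≤ cen y := by
  have hle := cen_mul_le hc hco
  have hxy : x * y ∉ center G := fun h => hx (mem_center_iff.mpr fun g =>
    (mem_cen.mp (hle (mem_cen.mpr (mem_center_iff.mp h g).symm)).1).symm)
  rw [← cen_eq hn hxy hx (hle.trans inf_le_left)]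
  exact hle.trans inf_le_right

theorem exists_noncentral (hn : ∀ x : G, x ∉ center G → (cen x).index = n)
    {x : G} (hx : x ∉ center G) {q : ℕ} [hq : Fact q.Prime] (hqn : q ∣ n) :
    ∃ y ∈ cen x, y ∉ center G ∧ ∃ k, y ^ q ^ k = 1 := by
  obtain ⟨R⟩ : Nonempty (Sylow q G) := inferInstance
  have hR : ¬ (R : Subgroup G) ≤ center G := fun h => R.not_dvd_index
    ((hn x hx ▸ hqn : q ∣ (cen x).index).trans
      ((index_dvd_of_le (center_le_cen x)).trans (index_dvd_of_le h)))
  obtain ⟨y, hyR, hyZ⟩ := SetLike.not_le_iff_exists.mp hR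
  by_contra! hall
  obtain ⟨Q⟩ : Nonempty (Sylow q (cen x)) := inferInstance
  set Qx := (Q : Subgroup (cen x)).map (cen x).subtype with hQx
  have hQxp : IsPGroup q Qx := Q.2.map _
  have hQxZ : Qx ≤ center G := by
    intro u hu
    by_contra huZ
    obtain ⟨k, hk⟩ := hQxp ⟨u, hu⟩
    exact hall u (map_subtype_le _ hu) huZ k (congrArg Subtype.val hk)
  haveI : Qx.Normal := ⟨fun v hv g => by
    rw [mem_center_iff.mp (hQxZ hv) g, mul_inv_cancel_right]; exact hv⟩
  have hTp : IsPGroup q (Qx ⊔ zpowers y : Subgroup G) :=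
    hQxp.to_sup_of_normal_left (R.2.to_le (zpowers_le.mpr hyR))
  have hTle : (Qx ⊔ zpowers y : Subgroup G) ≤ cen y :=
    sup_le (hQxZ.trans (center_le_cen y)) (zpowers_le.mpr (mem_cen.mpr rfl))
  obtain ⟨j, hj⟩ := IsPGroup.iff_card.mp hTp
  have hcards : Nat.card (cen y) = Nat.card (cen x) := by
    have h1 := (cen x).card_mul_index
    have h2 := (cen y).card_mul_index
    rw [hn x hx] at h1
    rw [hn y hyZ, ← h1] at h2
    exact Nat.eq_of_mul_eq_mul_right (hn x hx ▸ Nat.pos_of_ne_zero index_ne_zero_of_finite) h2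
  have hdvd : q ^ j ∣ Nat.card (Q : Subgroup (cen x)) := by
    refine Q.pow_dvd_card_of_pow_dvd_card ?_
    rw [← hj, ← hcards]
    exact card_dvd_of_le hTle
  have hQcard : Nat.card Qx = Nat.card (Q : Subgroup (cen x)) :=
    card_map_of_injective (cen x).subtype_injective
  have heq : Qx = Qx ⊔ zpowers y := eq_of_le_of_card_ge le_sup_left (by
    rw [hj, hQcard]; exact Nat.le_of_dvd Nat.card_pos hdvd)
  exact hyZ (hQxZ (heq ▸ mem_sup_right (mem_zpowers y)))

variable (hn : ∀ x : G, x ∉ center G → (cen x).index = n)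
include hn

theorem cen_abelian_pow {p q : ℕ} (hp : p.Prime) (hq : q.Prime) (hpq : p ≠ q) (hpn : p ∣ n)
    (hqn : q ∣ n) {x : G} (hx : x ∉ center G) {r k : ℕ} (hr : r.Prime) (hxr : x ^ r ^ k = 1) :
    ∀ u ∈ cen x, ∀ v ∈ cen x, u * v = v * u := by
  obtain ⟨s, hs, hsn, hsr⟩ : ∃ s, s.Prime ∧ s ∣ n ∧ s ≠ r := by
    by_cases h : p = r
    · exact ⟨q, hq, hqn, h ▸ hpq.symm⟩
    · exact ⟨p, hp, hpn, h⟩
  haveI : Fact s.Prime := ⟨hs⟩
  obtain ⟨y, hy, hyZ, l, hyl⟩ := exists_noncentral hn hx hsn (q := s)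
  have hco : ∀ {a b : G} {e f : ℕ} {α β : ℕ}, e.Prime → f.Prime → e ≠ f → a ^ e ^ α = 1 → b ^ f ^ β = 1 →
      (orderOf a).Coprime (orderOf b) := fun he hf hne ha hb =>
    (((Nat.coprime_primes he hf).mpr hne).pow _ _).coprime_dvd_left (orderOf_dvd_of_pow_eq_one ha)
      |>.coprime_dvd_right (orderOf_dvd_of_pow_eq_one hb)
  have hxy : cen x = cen y :=
    cen_eq hn hx hyZ (cen_le_of_coprime hn hx (mem_cen.mp hy) (hco hr hs hsr.symm hxr hyl))
  intro u hu v hv
  refine (Cfsg.Lib.Fusion.induction_parts v (Q := fun w => w ∈ cen x → u * w = w * u) ?_ ?_ hv)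
  · intro w _ e i he hw hwx
    have hwe : w ^ e ^ i = 1 := hw ▸ pow_orderOf_eq_one w
    have hle : cen x ≤ cen w := by
      by_cases her : e = r
      · rw [hxy]
        exact cen_le_of_coprime hn hyZ (mem_cen.mp (hxy ▸ hwx))
          (hco hs he (her ▸ hsr) hyl hwe)
      · exact cen_le_of_coprime hn hx (mem_cen.mp hwx) (hco hr he (Ne.symm her) hxr hwe)
    exact (mem_cen.mp (hle hu)).symm
  · intro a ha b hb iha ihb _
    have hz : zpowers v ≤ cen x := zpowers_le.mpr hv
    exact (Commute.mul_right (show Commute u a from iha (hz ha)) (ihb (hz hb)))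

theorem cen_abelian {p q : ℕ} (hp : p.Prime) (hq : q.Prime) (hpq : p ≠ q) (hpn : p ∣ n)
    (hqn : q ∣ n) {g : G} (hg : g ∉ center G) : ∀ u ∈ cen g, ∀ v ∈ cen g, u * v = v * u := by
  obtain ⟨w, hw, hwZ, r, k, hr, hwr⟩ : ∃ w ∈ zpowers g, w ∉ center G ∧ ∃ r k : ℕ, r.Prime ∧ w ^ r ^ k = 1 := by
    by_contra! hall
    refine hg (Cfsg.Lib.Fusion.induction_parts g (Q := fun w => w ∈ center G) ?_ fun a _ b _ => mul_mem)
    intro w hw r k hr hwr
    by_contra hwZ
    exact hall w hw hwZ r k hr (hwr ▸ pow_orderOf_eq_one w)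
  have hle : cen g ≤ cen w := fun u hu => by
    obtain ⟨i, hi⟩ := mem_zpowers_iff.mp hw
    exact mem_cen.mpr (hi ▸ (show Commute g u from mem_cen.mp hu).zpow_left i)
  exact fun u hu v hv => cen_abelian_pow hn hp hq hpq hpn hqn hwZ hr hwr u (hle hu) v (hle hv)

theorem conj_mem_cen {C : Subgroup G} {x : G} (hC : cen x = C)
    (hab : ∀ u ∈ C, ∀ v ∈ C, u * v = v * u) {g : G}
    (hg : g * x * g⁻¹ ∈ C) (hx : x ∉ center G) {u : G} (hu : u ∈ C) : g * u * g⁻¹ ∈ C := by
  subst hC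
  have hne : g * x * g⁻¹ ∉ center G := fun h => hx (by
    have := (inferInstance : (center G).Normal).conj_mem _ h g⁻¹
    simpa [mul_assoc] using this)
  have hle : cen x ≤ cen (g * x * g⁻¹) := fun v hv => mem_cen.mpr (hab _ hg v hv)
  rw [cen_eq hn hx hne hle, mem_cen]
  have hux := mem_cen.mp hu
  calc (g * x * g⁻¹) * (g * u * g⁻¹) = g * (x * u) * g⁻¹ := by group
    _ = _ := by rw [hux]; group

theorem unique_prime {p q : ℕ} [hp : Fact p.Prime] [hq : Fact q.Prime] (hpn : p ∣ n) (hqn : q ∣ n)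
    (hmin : ∀ r, r.Prime → r ∣ n → p ≤ r) {x₀ : G} (hx₀ : x₀ ∉ center G) : q = p := by
  by_contra hqp
  have hab : ∀ {g : G}, g ∉ center G → ∀ u ∈ cen g, ∀ v ∈ cen g, u * v = v * u :=
    fun hg => cen_abelian hn hp.out hq.out (Ne.symm hqp) hpn hqn hg
  obtain ⟨P⟩ : Nonempty (Sylow p G) := inferInstance
  have hPZ : ¬ (P : Subgroup G) ≤ center G := fun h => P.not_dvd_index
    ((hn x₀ hx₀ ▸ hpn : p ∣ (cen x₀).index).trans
      ((index_dvd_of_le (center_le_cen x₀)).trans (index_dvd_of_le h)))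
  set Z₀ := (center G).subgroupOf (P : Subgroup G) with hZ₀
  haveI : Nontrivial ((P : Subgroup G) ⧸ Z₀) := by
    rw [QuotientGroup.nontrivial_iff]
    exact fun h => hPZ (subgroupOf_eq_top.mp h)
  have hq0 : IsPGroup p ((P : Subgroup G) ⧸ Z₀) := P.2.to_quotient Z₀
  haveI := hq0.center_nontrivial
  obtain ⟨⟨ξ, hξc⟩, hξ⟩ : ∃ ξ : center ((P : Subgroup G) ⧸ Z₀), orderOf ξ = p := by
    refine exists_prime_orderOf_dvd_card' p ?_
    obtain ⟨m, hm⟩ := IsPGroup.iff_card.mp (hq0.to_subgroup (center ((P : Subgroup G) ⧸ Z₀)))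
    rw [hm]
    refine dvd_pow_self p fun h => ?_
    rw [h, pow_zero] at hm
    exact (Finite.one_lt_card (α := center ((P : Subgroup G) ⧸ Z₀))).ne' hm
  obtain ⟨x', rfl⟩ := QuotientGroup.mk_surjective ξ
  set x := (x' : G) with hxdef
  have hxZ : x ∉ center G := fun h => by
    have h1 : (x' : (P : Subgroup G) ⧸ Z₀) = 1 := (QuotientGroup.eq_one_iff x').mpr h
    rw [Subgroup.orderOf_mk, h1, orderOf_one] at hξ
    exact hp.out.ne_one hξ.symm
  have hxp : x ^ p ∈ center G := by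
    have h1 := pow_orderOf_eq_one (x' : (P : Subgroup G) ⧸ Z₀)
    rw [Subgroup.orderOf_mk] at hξ
    rw [hξ, ← QuotientGroup.mk_pow, QuotientGroup.eq_one_iff] at h1
    exact h1
  have hxg : ∀ g ∈ (P : Subgroup G), ⁅g, x⁆ ∈ center G := by
    intro g hg
    have h1 := mem_center_iff.mp hξc (QuotientGroup.mk ⟨g, hg⟩)
    rw [← commutatorElement_eq_one_iff_mul_comm, ← QuotientGroup.mk'_apply, ← QuotientGroup.mk'_apply,
      ← map_commutatorElement, QuotientGroup.mk'_apply, QuotientGroup.eq_one_iff, hZ₀,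
      mem_subgroupOf] at h1
    exact h1
  obtain ⟨k, hxk⟩ := P.2 x'
  replace hxk : x ^ p ^ k = 1 := congrArg Subtype.val hxk
  set C := cen x with hC
  have habC := hab hxZ
  have hPN : (P : Subgroup G) ≤ normalizer (C : Set G) := by
    have hmv : ∀ g ∈ (P : Subgroup G), ∀ u ∈ C, g * u * g⁻¹ ∈ C := by
      intro g hg u hu
      refine conj_mem_cen hn hC.symm habC ?_ hxZ hu
      have : g * x * g⁻¹ = ⁅g, x⁆ * x := by rw [commutatorElement_def]; group
      rw [this]
      exact C.mul_mem (center_le_cen x (hxg g hg)) (mem_cen.mpr rfl)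
    intro g hg
    refine mem_normalizer_iff.mpr fun u => ⟨hmv g hg u, fun h => ?_⟩
    have := hmv g⁻¹ (inv_mem hg) _ h
    simpa [mul_assoc] using this
  -- a `q`-element in the normalizer of `C` but not in `C`
  obtain ⟨y, hyC, hyZ, l, hyl⟩ := exists_noncentral hn hxZ hqn (q := q)
  obtain ⟨QC⟩ : Nonempty (Sylow q C) := inferInstance
  set Q₀ := (QC : Subgroup C).map C.subtype with hQ₀
  have hQ₀C : Q₀ ≤ C := map_subtype_le _
  have hmemQ₀ : ∀ c ∈ C, ∀ i : ℕ, c ^ q ^ i = 1 → c ∈ Q₀ := by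
    intro c hc i hci
    have hz : IsPGroup q (zpowers (⟨c, hc⟩ : C)) := IsPGroup.of_card_dvd_pow (by
      rw [Nat.card_zpowers]
      exact orderOf_dvd_of_pow_eq_one (Subtype.ext hci))
    haveI : (QC : Subgroup C).Normal := ⟨fun v hv g => by
      rw [show g * v = v * g from Subtype.ext (habC _ g.2 _ v.2), mul_inv_cancel_right]; exact hv⟩
    have heq := QC.is_maximal' (QC.2.to_sup_of_normal_left hz) le_sup_left
    exact mem_map.mpr ⟨⟨c, hc⟩, heq ▸ mem_sup_right (mem_zpowers _), rfl⟩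
  have hQ₀q : IsPGroup q Q₀ := QC.2.map _
  obtain ⟨Q, hQ⟩ := hQ₀q.exists_le_sylow
  have hlt : Q₀.subgroupOf (Q : Subgroup G) < ⊤ := by
    rw [lt_top_iff_ne_top, Ne, subgroupOf_eq_top]
    exact fun h => Q.not_dvd_index ((hn x hxZ ▸ hqn : q ∣ C.index).trans (index_dvd_of_le (h.trans hQ₀C)))
  have hnc := Group.normalizerCondition_of_isNilpotent (h := Q.2.isNilpotent) _ hlt
  obtain ⟨t, htN, htQ⟩ := SetLike.exists_of_lt hnc
  rw [mem_subgroupOf] at htQ
  obtain ⟨i, hti⟩ := Q.2 t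
  replace hti : (t : G) ^ q ^ i = 1 := congrArg Subtype.val hti
  have htC : (t : G) ∉ C := fun h => htQ (hmemQ₀ _ h i hti)
  have hyQ : y ∈ Q₀ := hmemQ₀ y hyC l hyl
  have hCy : cen y = C := (cen_eq hn hxZ hyZ fun u hu => mem_cen.mpr (habC y hyC u hu)).symm
  have htNC : (t : G) ∈ normalizer (C : Set G) := by
    refine mem_normalizer_iff.mpr fun u => ⟨fun hu => ?_, fun hu => ?_⟩
    · refine conj_mem_cen hn hCy habC ?_ hyZ hu
      exact hQ₀C (mem_subgroupOf.mp ((mem_normalizer_iff.mp htN ⟨y, hQ hyQ⟩).mp (mem_subgroupOf.mpr hyQ)))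
    · have := conj_mem_cen hn hCy habC (g := (t : G)⁻¹)
        (hQ₀C (mem_subgroupOf.mp ((mem_normalizer_iff.mp (inv_mem htN) ⟨y, hQ hyQ⟩).mp
          (mem_subgroupOf.mpr hyQ)))) hyZ hu
      simpa [mul_assoc] using this
  set N := normalizer (C : Set G) with hN
  have hCN : C ≤ N := le_normalizer
  haveI : (C.subgroupOf N).Normal := normal_in_normalizer
  haveI : IsMulCommutative (C.subgroupOf N) := ⟨⟨fun a b => Subtype.ext (Subtype.ext
    (habC _ (mem_subgroupOf.mp a.2) _ (mem_subgroupOf.mp b.2)))⟩⟩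
  have hdvd : ∀ (r : ℕ), r.Prime → ∀ g : G, g ∈ N → g ∉ C → ∀ i : ℕ, g ^ r ^ i = 1 →
      r ∣ (C.subgroupOf N).index := by
    intro r hr g hgN hgC i hgi
    haveI : Fact r.Prime := ⟨hr⟩
    set e := QuotientGroup.mk' (C.subgroupOf N) ⟨g, hgN⟩ with he
    have he1 : e ≠ 1 := fun h => hgC (mem_subgroupOf.mp ((QuotientGroup.eq_one_iff _).mp h))
    have hed : orderOf e ∣ r ^ i := by
      refine orderOf_dvd_of_pow_eq_one ?_
      rw [he, ← map_pow, show (⟨g, hgN⟩ : N) ^ r ^ i = 1 from Subtype.ext hgi, map_one]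
    obtain ⟨m, -, hm⟩ := (Nat.dvd_prime_pow hr).mp hed
    rw [index_eq_card]
    refine dvd_trans ?_ (orderOf_dvd_natCard e)
    rw [hm]
    exact dvd_pow_self r fun h0 => he1 (orderOf_eq_one_iff.mp (by rw [hm, h0, pow_zero]))
  have hidx : (C.subgroupOf N).index ∣ n := hn x hxZ ▸ relIndex_dvd_index_of_le hCN
  obtain ⟨g₁, hg₁P, hg₁C⟩ : ∃ g ∈ (P : Subgroup G), g ∉ C := by
    by_contra! hall
    exact P.not_dvd_index ((hn x hxZ ▸ hpn : p ∣ C.index).trans (index_dvd_of_le hall))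
  obtain ⟨i₁, hi₁⟩ := P.2 ⟨g₁, hg₁P⟩
  exact no_config ((center G).subgroupOf N) (C.subgroupOf N)
    (fun z hz => mem_center_iff.mpr fun g => Subtype.ext (mem_center_iff.mp (mem_subgroupOf.mp hz) g))
    (fun u hu w hw huw => by
      rw [mem_subgroupOf] at hu hw ⊢
      by_contra hwZ
      exact hu (by
        rw [hC, cen_eq hn hxZ hwZ fun v hv => mem_cen.mpr (habC _ hw v hv)]
        exact mem_cen.mpr (congrArg Subtype.val huw).symm))
    hqp (P.subtype hPN) (x := ⟨x, hPN x'.2⟩) (y := ⟨y, hCN hyC⟩)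
    (mem_subgroupOf.mpr (mem_cen.mpr rfl)) (fun h => hxZ (mem_subgroupOf.mp h))
    (k := k) (Subtype.ext hxk) (mem_subgroupOf.mpr hxp)
    (fun g hg => mem_subgroupOf.mpr (hxg g (by rw [Sylow.coe_subtype, mem_subgroupOf] at hg; exact hg)))
    (mem_subgroupOf.mpr hyC) (fun h => hyZ (mem_subgroupOf.mp h)) (l := l) (Subtype.ext hyl)
    (hdvd p hp.out g₁ (hPN hg₁P) hg₁C i₁ (congrArg Subtype.val hi₁))
    (hdvd q hq.out t htNC htC i hti) (fun r hr hrd => hmin r hr (hrd.trans hidx))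

end TwoSizes
/-- Let G be a finite group whose conjugacy classes have exactly two sizes, 1 and n > 1. Then n is a power of a prime p and G is the direct product of a p-group and an abelian group of order prime to p: its Sylow p-subgroup P is normal with an abelian normal complement centralizing it; moreover P has an abelian normal subgroup A with P/A of exponent dividing p. -/
theorem result {G : Type*} [Group G] [Finite G] (n : ℕ) (hn : 1 < n)
    (h : ∀ x : G, (Subgroup.centralizer ({x} : Set G)).index = 1 ∨ (Subgroup.centralizer ({x} : Set G)).index = n) (hex : ∃ x : G, (Subgroup.centralizer ({x} : Set G)).index = n) :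
    ∃ (p : ℕ) (_ : Fact p.Prime) (a : ℕ), n = p ^ a ∧ ∀ P : Sylow p G, (P : Subgroup G).Normal ∧
      (∃ N : Subgroup G, N.Normal ∧ N.IsComplement' (P : Subgroup G) ∧ IsMulCommutative N ∧
        ∀ x ∈ N, ∀ y ∈ (P : Subgroup G), x * y = y * x) ∧
      ∃ A : Subgroup (P : Subgroup G), A.Normal ∧ IsMulCommutative A ∧ ∀ y : (P : Subgroup G), y ^ p ∈ A := by

  classical
  have hidx : ∀ x : G, x ∉ center G → (cen x).index = n := fun x hx =>
    (h x).resolve_left fun h1 => hx (mem_center_of_index h1)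
  obtain ⟨x₀, hx₀⟩ := hex
  have hx₀Z : x₀ ∉ center G := fun hz => by
    have : (cen x₀).index = 1 := index_eq_one.mpr (eq_top_iff.mpr fun g _ =>
      mem_cen.mpr (mem_center_iff.mp hz g).symm)
    exact hn.ne' (hx₀.symm.trans this)
  set p := n.minFac with hpdef
  haveI hp : Fact p.Prime := ⟨Nat.minFac_prime hn.ne'⟩
  have hmin : ∀ r, r.Prime → r ∣ n → p ≤ r := fun r hr hd => Nat.minFac_le_of_dvd hr.two_le hd
  have huniq : ∀ {r : ℕ}, r.Prime → r ∣ n → r = p := fun {r} hr hd =>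
    haveI : Fact r.Prime := ⟨hr⟩
    unique_prime hidx (Nat.minFac_dvd n) hd hmin hx₀Z
  obtain ⟨a, ha⟩ : ∃ a, n = p ^ a :=
    ⟨_, Nat.eq_prime_pow_of_unique_prime_dvd (by omega) fun hd he => huniq hd he⟩
  refine ⟨p, hp, a, ha, fun P => ?_⟩
  let N : Subgroup G :=
    { carrier := {z | z ∈ center G ∧ z ^ (P : Subgroup G).index = 1}
      one_mem' := ⟨one_mem _, one_pow _⟩
      mul_mem' := fun {u v} hu hv => ⟨mul_mem hu.1 hv.1, by
        rw [(show Commute u v from mem_center_iff.mp hv.1 u).mul_pow, hu.2, hv.2, one_mul]⟩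
      inv_mem' := fun {u} hu => ⟨inv_mem hu.1, by rw [inv_pow, hu.2, inv_one]⟩ }
  have hNc : ∀ z ∈ N, ∀ g : G, z * g = g * z := fun z hz g => (mem_center_iff.mp hz.1 g).symm
  haveI hNn : N.Normal := ⟨fun z hz g => by rw [← hNc z hz g, mul_inv_cancel_right]; exact hz⟩
  have htop : N ⊔ (P : Subgroup G) = ⊤ := by
    rw [← index_eq_one]
    by_contra hne
    obtain ⟨r, hr, hrd⟩ := Nat.exists_prime_and_dvd hne
    haveI : Fact r.Prime := ⟨hr⟩
    by_cases hrp : r = p
    · subst hrp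
      exact P.not_dvd_index (hrd.trans (index_dvd_of_le le_sup_right))
    obtain ⟨R⟩ : Nonempty (Sylow r G) := inferInstance
    have hRZ : (R : Subgroup G) ≤ center G := sylow_le_center R fun g hd => by
      rcases h g with h1 | h1
      · rw [h1] at hd; exact hr.one_lt.ne' (Nat.dvd_one.mp hd)
      · rw [h1] at hd; exact hrp (huniq hr hd)
    have hRN : (R : Subgroup G) ≤ N := by
      intro z hz
      refine ⟨hRZ hz, orderOf_dvd_iff_pow_eq_one.mp ?_⟩
      obtain ⟨j, hj⟩ := IsPGroup.iff_card.mp R.2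
      obtain ⟨i, hi⟩ := IsPGroup.iff_card.mp P.2
      have h1 : orderOf z ∣ r ^ j := hj ▸ orderOf_dvd_natCard (R : Subgroup G) hz
      have h2 : orderOf z ∣ Nat.card (P : Subgroup G) * (P : Subgroup G).index := by
        rw [card_mul_index]; exact orderOf_dvd_natCard z
      refine (Nat.Coprime.dvd_of_dvd_mul_left ?_ h2)
      rw [hi]
      exact (((Nat.coprime_primes hr hp.out).mpr hrp).pow j i).coprime_dvd_left h1
    exact R.not_dvd_index (hrd.trans (index_dvd_of_le (hRN.trans le_sup_left)))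
  have hdec : ∀ g : G, ∃ z ∈ N, ∃ y ∈ (P : Subgroup G), g = z * y := by
    intro g
    obtain ⟨z, hz, y, hy, he⟩ := mem_sup_of_normal_left.mp (htop ▸ mem_top g)
    exact ⟨z, hz, y, hy, he.symm⟩
  have hPn : (P : Subgroup G).Normal := ⟨fun v hv g => by
    obtain ⟨z, hz, y, hy, rfl⟩ := hdec g
    have : z * y * v * (z * y)⁻¹ = z * (y * v * y⁻¹) * z⁻¹ := by group
    rw [this, hNc z hz, mul_inv_cancel_right]
    exact mul_mem (mul_mem hy hv) (inv_mem hy)⟩
  have hdisj : Disjoint N (P : Subgroup G) := by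
    rw [disjoint_iff, eq_bot_iff]
    intro z hz
    obtain ⟨i, hi⟩ := IsPGroup.iff_card.mp P.2
    rw [mem_bot, ← orderOf_eq_one_iff]
    exact Nat.eq_one_of_dvd_coprimes (((Nat.Prime.coprime_iff_not_dvd hp.out).mpr P.not_dvd_index).pow_left i)
      (hi ▸ orderOf_dvd_natCard (P : Subgroup G) (mem_inf.mp hz).2)
      (orderOf_dvd_of_pow_eq_one (mem_inf.mp hz).1.2)
  refine ⟨hPn, ⟨N, hNn, ?_, ⟨⟨fun u v => Subtype.ext (hNc _ u.2 _)⟩⟩,
    fun u hu v _ => hNc u hu v⟩, center (P : Subgroup G), inferInstance, inferInstance, ?_⟩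
  · refine isComplement'_of_disjoint_and_mul_eq_univ hdisj (Set.eq_univ_of_forall fun g => ?_)
    obtain ⟨z, hz, y, hy, rfl⟩ := hdec g
    exact Set.mul_mem_mul hz hy
  have hcenP : ∀ y : (P : Subgroup G),
      (centralizer ({y} : Set (P : Subgroup G))).index = (cen (y : G)).index := by
    intro y
    set π := QuotientGroup.mk' N with hπ
    have hker : π.ker ≤ cen (y : G) := by
      rw [hπ, QuotientGroup.ker_mk']
      exact fun z hz => mem_cen.mpr (hNc z hz _).symm
    have hC : cen (y : G) = ((cen (y : G)).map π).comap π := by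
      rw [comap_map_eq, sup_eq_left.mpr hker]
    have hcen : centralizer ({y} : Set (P : Subgroup G)) =
        ((cen (y : G)).map π).comap (π.comp (P : Subgroup G).subtype) := by
      rw [← comap_comap, ← hC]
      ext u
      show u ∈ cen y ↔ (u : G) ∈ cen (y : G)
      rw [mem_cen, mem_cen]
      exact ⟨fun h' => congrArg Subtype.val h', fun h' => Subtype.ext h'⟩
    rw [hcen, index_comap_of_surjective]
    · exact index_map_eq _ (QuotientGroup.mk'_surjective N) hker
    intro e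
    obtain ⟨g, rfl⟩ := QuotientGroup.mk'_surjective N e
    obtain ⟨z, hz, v, hv, rfl⟩ := hdec g
    refine ⟨⟨v, hv⟩, ?_⟩
    rw [MonoidHom.comp_apply, map_mul, show π z = 1 from (QuotientGroup.eq_one_iff z).mpr hz, one_mul]
    rfl
  have ha1 : 1 ≤ a := by
    by_contra hlt
    rw [show a = 0 by omega, pow_zero] at ha
    omega
  refine fun y => Cfsg.Agent.S4365.result p P.2 a ha1 ?_ y
  ext m
  constructor
  · rintro ⟨y, rfl⟩
    rw [hcenP, ← ha]
    exact h (y : G)
  · rintro (rfl | rfl)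
    · exact ⟨1, index_eq_one.mpr (eq_top_iff.mpr fun g _ => mem_centralizer_iff.mpr fun w hw => by
        rw [Set.mem_singleton_iff.mp hw, one_mul, mul_one])⟩
    · obtain ⟨z, hz, y, hy, he⟩ := hdec x₀
      refine ⟨⟨y, hy⟩, ?_⟩
      rw [hcenP, ← ha, ← hx₀, he]
      congr 1
      ext u
      rw [mem_cen, mem_centralizer_iff]
      simp only [Set.mem_singleton_iff, forall_eq]
      rw [mul_assoc, ← mul_assoc u z y, ← hNc z hz u, mul_assoc z u y, mul_right_inj]

end Cfsg.Agent.S4134
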