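import Cfsg.Statements.S0339
import Cfsg.Agent.Lib.Char.ZassenhausReduce
import Cfsg.Agent.Lib.Char.ZassenhausOdd
-- import your own Cfsg.Agent.* helpers here

set_option autoImplicit false
open Cfsg

namespace Cfsg.Agent.S0339

open Cfsg.Lib.Char
open scoped Pointwise

theorem exists_kernel_subgroup {G Ω : Type*} [Group G] [Finite G] [MulAction G Ω] [Fintype Ω]
    (hZ : IsZassenhausGroup G Ω) {a b : Ω} (hab : a ≠ b) :
    ∃ H : Subgroup G, H ≤ MulAction.stabilizer G a ∧ Nat.card H + 1 = Fintype.card Ω ∧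
      ∀ u ∈ H, u ≠ 1 → ∀ c : Ω, u • c = c → c = a := by
  obtain ⟨N, -, -, hc, -, hfix⟩ := zas_exists_kernel hZ hab
  refine ⟨N.map (MulAction.stabilizer G a).subtype, Subgroup.map_subtype_le N, ?_, ?_⟩
  · rw [Subgroup.card_map_of_injective (Subgroup.subtype_injective _)]
    have h1 := hc.card_mul
    rw [Nat.card_congr (Subgroup.subgroupOfEquivOfLe (inf_le_left :
      MulAction.stabilizer G a ⊓ MulAction.stabilizer G b ≤ MulAction.stabilizer G a)).toEquiv,
      (zas_card_group hZ hab).1] at h1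
    have h2 := Nat.eq_of_mul_eq_mul_right Nat.card_pos h1
    have := zas_two_lt_card hZ
    omega
  · rintro _ ⟨x, hx, rfl⟩ hx1 c hc'
    exact hfix x hx (fun e => hx1 (by rw [e]; rfl)) c hc'

theorem main {G Ω : Type*} [Group G] [Finite G] [MulAction G Ω] [Fintype Ω]
    (hZ : IsZassenhausGroup G Ω) (N : Subgroup G) [hNn : N.Normal] (hN1 : N ≠ ⊥) :
    IsZassenhausGroup N Ω := by
  classical
  obtain ⟨-, -, -, ⟨g₀, -, a, b, hab, -, -⟩, -⟩ := id hZ
  obtain ⟨H, hHa, hHcard, hHfix⟩ := exists_kernel_subgroup hZ hab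
  obtain ⟨hf, h2, h3, h4, h5⟩ := hZ
  have hZ : IsZassenhausGroup G Ω := ⟨hf, h2, h3, h4, h5⟩
  haveI := hf
  obtain ⟨hHN, x, hx, hxN, hx1⟩ := zas_normal_contains hZ hab H hHa hHcard hHfix N hN1
  haveI := Cfsg.Lib.Perm.ZasAbelian.normal_transitive hf h2 N hN1
  have hNf : FaithfulSMul N Ω := ⟨fun {u v} h => Subtype.ext (hf.eq_of_smul_eq_smul fun y => h y)⟩
  have hNt : MulAction.IsMultiplyPretransitive N Ω 2 := by
    have hmov : ∀ {y z : Ω}, y ≠ z → ∃ k : N, k • y = a ∧ k • z = b := by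
      intro y z hyz
      obtain ⟨k, hk⟩ := MulAction.exists_smul_eq N y a
      have hz : k • z ≠ a := fun h => hyz (MulAction.injective k (hk.trans h.symm))
      obtain ⟨u, hu, hub⟩ := Cfsg.Lib.Perm.ZasAbelian.kernel_transitive hab H hHa hHcard hHfix hz
      refine ⟨⟨u⁻¹, N.inv_mem (hHN hu)⟩ * k, ?_, ?_⟩
      · rw [mul_smul, hk]
        show u⁻¹ • a = a
        rw [inv_smul_eq_iff]; exact (hHa hu).symm
      · rw [mul_smul]
        show u⁻¹ • (k • z) = b
        rw [inv_smul_eq_iff, hub]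
    rw [MulAction.is_two_pretransitive_iff]
    intro y z y' z' hyz hyz'
    obtain ⟨k, hk1, hk2⟩ := hmov hyz
    obtain ⟨k', hk1', hk2'⟩ := hmov hyz'
    exact ⟨k'⁻¹ * k, by rw [mul_smul, hk1, inv_smul_eq_iff, hk1'], by
      rw [mul_smul, hk2, inv_smul_eq_iff, hk2']⟩
  -- regular normal subgroups of `N`
  have hreg : ∀ R : Subgroup N, R.Normal → MulAction.IsPretransitive R Ω →
      (∀ c : Ω, ∀ r ∈ R, r • c = c → r = 1) → False := by
    intro R hRn hRt hRs
    haveI := hRn
    have hconj : ∀ r ∈ R, r ≠ 1 → ∀ s ∈ R, s ≠ 1 → ∃ k : N, k * r * k⁻¹ = s := by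
      intro r hr hr1 s hs hs1
      obtain ⟨k, hka, hkr⟩ := MulAction.is_two_pretransitive_iff.1 hNt
        (show a ≠ r • a from fun e => hr1 (hRs a r hr e.symm))
        (show a ≠ s • a from fun e => hs1 (hRs a s hs e.symm))
      refine ⟨k, inv_mul_eq_one.mp (hRs a _ (R.mul_mem (R.inv_mem (hRn.conj_mem r hr k)) hs) ?_)⟩
      rw [mul_smul, inv_smul_eq_iff, mul_smul, mul_smul, show k⁻¹ • a = a by rw [inv_smul_eq_iff, hka], hkr]
    -- the subgroup is a `p`-group
    have hRne : R ≠ ⊥ := by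
      rintro rfl
      obtain ⟨⟨k, hk⟩, hkab⟩ := hRt.exists_smul_eq a b
      rw [Subgroup.mem_bot] at hk; subst hk
      exact hab ((one_smul N a).symm.trans hkab)
    obtain ⟨p, hp, hpdvd⟩ := Nat.exists_prime_and_dvd
      (show Nat.card R ≠ 1 from fun e => hRne (Subgroup.eq_bot_of_card_eq R e))
    haveI := Fact.mk hp
    obtain ⟨r, hr⟩ := exists_prime_orderOf_dvd_card' p hpdvd
    rw [← Subgroup.orderOf_coe] at hr
    have hr1 : (r : N) ≠ 1 := fun e => by rw [e, orderOf_one] at hr; exact hp.one_lt.ne hr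
    have hP : IsPGroup p R := by
      intro s
      refine ⟨1, ?_⟩
      rw [pow_one]
      by_cases hs1 : s = 1
      · rw [hs1, one_pow]
      obtain ⟨k, hk⟩ := hconj r r.2 hr1 s s.2 (fun e => hs1 (Subtype.ext e))
      exact Subtype.ext (show (s : N) ^ p = 1 by
        rw [← hk, conj_pow, ← hr, pow_orderOf_eq_one, mul_one, mul_inv_cancel])
    haveI : Nontrivial R := (Subgroup.nontrivial_iff_ne_bot R).mpr hRne
    -- it is the only one
    have huniq : ∀ R' : Subgroup N, R'.Normal → MulAction.IsPretransitive R' Ω →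
        (∀ c : Ω, ∀ r ∈ R', r • c = c → r = 1) → R ≤ R' := by
      intro R' hR'n hR't hR's
      by_contra hne
      have hinf : ∀ z ∈ R, z ∈ R' → z = 1 := by
        intro z hz hz'
        by_contra hz1
        refine hne fun s hs => ?_
        by_cases hs1 : s = 1
        · exact hs1 ▸ R'.one_mem
        · obtain ⟨k, hk⟩ := hconj z hz hz1 s hs hs1
          exact hk ▸ hR'n.conj_mem z hz' k
      have hcomm : ∀ z ∈ R, ∀ w ∈ R', z * w = w * z := by
        intro z hz w hw
        have h1 : z * w * z⁻¹ * w⁻¹ ∈ R := by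
          rw [mul_assoc, mul_assoc]
          exact R.mul_mem hz (by rw [← mul_assoc]; exact hRn.conj_mem _ (R.inv_mem hz) w)
        have h2' : z * w * z⁻¹ * w⁻¹ ∈ R' := R'.mul_mem (hR'n.conj_mem _ hw z) (R'.inv_mem hw)
        exact commutatorElement_eq_one_iff_mul_comm.mp (hinf _ h1 h2')
      haveI := IsPGroup.center_nontrivial hP
      obtain ⟨⟨z, hz⟩, hz1⟩ := exists_ne (1 : Subgroup.center R)
      -- a central element agrees with an element of the other subgroup
      obtain ⟨⟨w, hw⟩, hwa⟩ := hR't.exists_smul_eq a ((z : N) • a)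
      have hwa : w • a = (z : N) • a := hwa
      apply hz1
      have hzw : (z : N) = w := by
        refine inv_mul_eq_one.mp (FaithfulSMul.eq_of_smul_eq_smul (α := Ω) fun y => ?_) |>.symm
        obtain ⟨⟨s, hs⟩, rfl⟩ := hRt.exists_smul_eq a y
        show (w⁻¹ * (z : N)) • (s • a) = (1 : N) • (s • a)
        have e1 : (z : N) * s = s * z := congrArg Subtype.val (Subgroup.mem_center_iff.mp hz ⟨s, hs⟩).symm
        have e2 : s * w = w * s := hcomm s hs w hw
        rw [one_smul, mul_smul, inv_smul_eq_iff, ← mul_smul (z : N), e1, ← mul_smul w, ← e2, mul_smul,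
          mul_smul, hwa]
      exact Subtype.ext (Subtype.ext (hinf _ z.2 (hzw ▸ hw)))
    have hnorm : (R.map N.subtype).Normal := by
      refine ⟨fun y hy g => ?_⟩
      obtain ⟨y, hyR, rfl⟩ := hy
      let φ : N ≃* N := MulAut.conjNormal g
      have hφs : ∀ (z : N) (c : Ω), φ z • c = g • (z • (g⁻¹ • c)) := fun z c => by
        show ((φ z : N) : G) • c = _
        rw [MulAut.conjNormal_apply, mul_smul, mul_smul]
        rfl
      let R' := R.comap φ.toMonoidHom
      have hR'n : R'.Normal := hRn.comap _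
      have hR't : MulAction.IsPretransitive R' Ω := by
        refine ⟨fun c c' => ?_⟩
        obtain ⟨⟨s, hs⟩, hsc⟩ := hRt.exists_smul_eq (g • c) (g • c')
        refine ⟨⟨φ.symm s, show φ (φ.symm s) ∈ R by rw [φ.apply_symm_apply]; exact hs⟩, ?_⟩
        have h1 := hφs (φ.symm s) (g • c)
        rw [φ.apply_symm_apply, inv_smul_smul] at h1
        exact MulAction.injective g (h1.symm.trans hsc)
      have hR's : ∀ c : Ω, ∀ r ∈ R', r • c = c → r = 1 := by
        intro c r hr hrc
        have h1 := hRs (g • c) (φ r) hr (by rw [hφs, inv_smul_smul, hrc])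
        exact φ.map_eq_one_iff.mp h1
      exact ⟨φ y, huniq R' hR'n hR't hR's hyR, MulAut.conjNormal_apply g y⟩
    have htr : MulAction.IsPretransitive (R.map N.subtype) Ω := by
      refine ⟨fun c c' => ?_⟩
      obtain ⟨⟨s, hs⟩, hsc⟩ := hRt.exists_smul_eq c c'
      exact ⟨⟨(s : G), s, hs, rfl⟩, hsc⟩
    obtain ⟨c₀, hc₀⟩ := h5 _ hnorm htr
    obtain ⟨⟨y, s, hsR, rfl⟩, hy, hy1⟩ := (Subgroup.bot_or_exists_ne_one _).resolve_left hc₀
    exact hy1 (Subtype.ext (show (s : G) = 1 by rw [hRs c₀ s hsR hy]; rfl))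
  have hNZ : IsZassenhausGroup N Ω := by
    refine ⟨hNf, hNt, fun g p q r h1 h2 h4 e1 e2 e3 => Subtype.ext (h3 g p q r h1 h2 h4 e1 e2 e3),
      ⟨⟨x, hxN⟩, fun e => hx1 (congrArg Subtype.val e), a, b, hab, hx.1, hx.2⟩, fun R hRn hRt => ?_⟩
    by_contra hh
    push Not at hh
    exact hreg R hRn hRt fun c r hr hrc =>
      congrArg Subtype.val ((Subgroup.eq_bot_iff_forall _).mp (hh c) ⟨r, hr⟩ hrc)
  exact hNZ

/-- A non-trivial normal subgroup of a Zassenhaus group is itself a Zassenhaus group on the same set. -/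
theorem result {G Ω : Type*} [Group G] [MulAction G Ω] [Finite Ω]
    (hZ : Cfsg.IsZassenhausGroup G Ω) (N : Subgroup G) [N.Normal] (hN : N ≠ ⊥) :
    Cfsg.IsZassenhausGroup N Ω := by
  haveI := Fintype.ofFinite Ω
  haveI := hZ.1
  haveI : Finite G := Finite.of_injective (MulAction.toPermHom G Ω) MulAction.toPerm_injective
  exact main hZ N hN

end Cfsg.Agent.S0339
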