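import Cfsg.Statements.S5398
import Cfsg.Agent.Lib.Fischer.Relations.Involutions.Main

set_option autoImplicit false
open Cfsg

namespace Cfsg.Agent.S5398

open Cfsg.Lib.Fischer Cfsg.Lib.Fischer.Relations

/-- Short products of the same length are conjugate. -/
theorem isConj_prod {G : Type*} [Group G] [Finite G] {D : Set G} {F : Type} [Field F] [Fintype F]
    {hF : Fintype.card F = 2 ^ 2} {d : G} (C : Coord D d hF) {m : ℕ} {x y : G} (hm1 : 1 ≤ m) (hm : m ≤ 3)
    (hx : IsProd D m x) (hy : IsProd D m y) : IsConj x y := by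
  obtain ⟨l, hn, hlen, hl, hc, rfl⟩ := hx
  obtain ⟨l', hn', hlen', hl', hc', rfl⟩ := hy
  rw [isConj_iff]
  interval_cases m
  · obtain ⟨a, rfl⟩ := List.length_eq_one_iff.1 hlen
    obtain ⟨a', rfl⟩ := List.length_eq_one_iff.1 hlen'
    simpa using C.trans.trans a (hl a (by simp)) a' (hl' a' (by simp))
  · obtain ⟨a, b, rfl⟩ := List.length_eq_two.1 hlen
    obtain ⟨a', b', rfl⟩ := List.length_eq_two.1 hlen'
    obtain ⟨g, hg⟩ := C.trans.trans a (hl a (by simp)) a' (hl' a' (by simp))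
    have ha' : a' ∈ D := hl' a' (by simp)
    have hb : g * b * g⁻¹ ∈ perp D a' := ⟨C.trans.conj g b (hl b (by simp)), fun e => by
      have hab : a ≠ b := by simpa using hn
      exact hab ((MulAut.conj g).injective (hg.trans e.symm)),
      hg ▸ (Commute.conj_iff g).2 (hc a (by simp) b (by simp))⟩
    obtain ⟨h, hh, e⟩ := perp_transitive C.fis ha' hb
      (⟨hl' b' (by simp), fun e => by simp [e] at hn', hc' a' (by simp) b' (by simp)⟩ : b' ∈ perp D a')
    have f : h * a' * h⁻¹ = a' := by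
      rw [(commute_of_mem_closure C.fis ha' (Subgroup.closure_mono (Set.subset_insert _ _) hh)).eq,
        mul_inv_cancel_right]
    refine ⟨h * g, ?_⟩
    simp only [List.prod_cons, List.prod_nil, mul_one]
    calc h * g * (a * b) * (h * g)⁻¹ = h * (g * a * g⁻¹) * h⁻¹ * (h * (g * b * g⁻¹) * h⁻¹) := by group
      _ = a' * b' := by rw [hg, f, e]
  · obtain ⟨a, b, c, rfl⟩ := List.length_eq_three.1 hlen
    obtain ⟨a', b', c', rfl⟩ := List.length_eq_three.1 hlen'
    obtain ⟨g, e1, e2, e3⟩ := triple_transitive C.fis C.nbr (a := a) (b := b) (c := c) (a' := a') (b' := b')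
      (c' := c') ⟨hn, hl, hc⟩ ⟨hn', hl', hc'⟩
    refine ⟨g, ?_⟩
    simp only [List.prod_cons, List.prod_nil, mul_one]
    calc g * (a * (b * c)) * g⁻¹ = g * a * g⁻¹ * (g * b * g⁻¹ * (g * c * g⁻¹)) := by group
      _ = a' * (b' * c') := by rw [e1, e2, e3]

/-- Each length occurs. -/
theorem exists_prod {G : Type*} [Group G] [Finite G] {D : Set G} {F : Type} [Field F] [Fintype F]
    {hF : Fintype.card F = 2 ^ 2} {d : G} (C : Coord D d hF) {m : ℕ} (hm : m ≤ 3) :
    ∃ x : G, IsProd D m x := by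
  obtain ⟨b, hb⟩ : (perp D d).Nonempty := by
    refine Set.nonempty_of_ncard_ne_zero ?_
    rw [← Nat.card_coe_set_eq, C.card_perp]
    norm_num
  obtain ⟨c, hc, hcb⟩ : {t | t ∈ perp D d ∧ t ∈ perp D b}.Nonempty := by
    refine Set.nonempty_of_ncard_ne_zero ?_
    rw [← Nat.card_coe_set_eq, C.card_common hb]
    norm_num
  obtain ⟨hn, hl, hcc⟩ := IsTriple.mk C.mem hb.1 hc.1 hb.2.1.symm hc.2.1.symm hcb.2.1.symm hb.2.2 hc.2.2 hcb.2.2
  refine ⟨_, [d, b, c].take m, hn.sublist (List.take_sublist _ _), by simp; omega,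
    fun a ha => hl a (List.mem_of_mem_take ha),
    fun a ha a' ha' => hcc a (List.mem_of_mem_take ha) a' (List.mem_of_mem_take ha'), rfl⟩

/-- Let G be a finite group with trivial centre generated by a conjugation-invariant set D of 3-transpositions on which it acts primitively, such that for some d in D the subgroup generated by the members of D other than d commuting with d has central largest normal 2- and 3-subgroups, and suppose G with D is of type M(22). Then G has exactly 3 conjugacy classes of involutions: every involution is a product of m distinct pairwise commuting members of D for some m between 1 and 3; for each such m these products form one non-empty conjugacy class; and the value of m is determined by the involution. -/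
theorem result {G : Type*} [Group G] [Finite G] {D : Set G} (hD : Cfsg.IsThreeTranspositionGroup D) (hprim : Cfsg.IsPrimitiveUnderConj D) (d : G) (hd : d ∈ D) (h3 : Cfsg.pCore 3 ↥(Subgroup.closure {y : G | y ∈ D ∧ y ≠ d ∧ Commute d y}) ≤ Subgroup.center ↥(Subgroup.closure {y : G | y ∈ D ∧ y ≠ d ∧ Commute d y})) (h2 : Cfsg.pCore 2 ↥(Subgroup.closure {y : G | y ∈ D ∧ y ≠ d ∧ Commute d y}) ≤ Subgroup.center ↥(Subgroup.closure {y : G | y ∈ D ∧ y ≠ d ∧ Commute d y})) (ht : Cfsg.IsOfTypeM22 G D) : (∀ x : G, orderOf x = 2 → ∃ m : ℕ, 1 ≤ m ∧ m ≤ 3 ∧ (∃ l : List G, l.Nodup ∧ l.length = m ∧ (∀ a ∈ l, a ∈ D) ∧ (∀ a ∈ l, ∀ b ∈ l, Commute a b) ∧ l.prod = x)) ∧ (∀ m : ℕ, 1 ≤ m → m ≤ 3 → (∃ x : G, orderOf x = 2 ∧ (∃ l : List G, l.Nodup ∧ l.length = m ∧ (∀ a ∈ l, a ∈ D) ∧ (∀ a ∈ l, ∀ b ∈ l, Commute a b) ∧ l.prod = x)) ∧ ∀ x y : G, (∃ l : List G, l.Nodup ∧ l.length = m ∧ (∀ a ∈ l, a ∈ D) ∧ (∀ a ∈ l, ∀ b ∈ l, Commute a b) ∧ l.prod = x) → (∃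 l : List G, l.Nodup ∧ l.length = m ∧ (∀ a ∈ l, a ∈ D) ∧ (∀ a ∈ l, ∀ b ∈ l, Commute a b) ∧ l.prod = y) → IsConj x y) ∧ ∀ (m m' : ℕ) (x : G), 1 ≤ m → m ≤ 3 → 1 ≤ m' → m' ≤ 3 → (∃ l : List G, l.Nodup ∧ l.length = m ∧ (∀ a ∈ l, a ∈ D) ∧ (∀ a ∈ l, ∀ b ∈ l, Commute a b) ∧ l.prod = x) → (∃ l : List G, l.Nodup ∧ l.length = m' ∧ (∀ a ∈ l, a ∈ D) ∧ (∀ a ∈ l, ∀ b ∈ l, Commute a b) ∧ l.prod = x) → m = m' := by
  obtain ⟨hset, hconj, hgen⟩ := hD
  have hT : Trans D := ⟨hset, hconj, hprim.1, hgen, ⟨d, hd⟩⟩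
  obtain ⟨F, _, _, hF, d₁, ⟨C⟩⟩ := m22_coord hT hprim ht
  obtain ⟨hDc, hG, -⟩ := m22_order hT hprim ht
  refine ⟨fun x hx => ?_, fun m hm1 hm => ⟨?_, fun x y hx hy => isConj_prod C hm1 hm hx hy⟩,
    fun m m' x _ hm _ hm' hx hx' => C.prod_length hm hm' hx hx'⟩
  · obtain ⟨g, hg⟩ := C.exists_conj_commute hG hDc hx
    have hxx : x * x = 1 := by rw [← pow_two, ← hx, pow_orderOf_eq_one]
    obtain ⟨m, hm, hy⟩ := C.involution_isProd hg (by
      calc g * x * g⁻¹ * (g * x * g⁻¹) = g * (x * x) * g⁻¹ := by group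
        _ = 1 := by rw [hxx, mul_one, mul_inv_cancel])
    have hy' : IsProd D m x := by simpa [mul_assoc] using hy.conj hT g⁻¹
    refine ⟨m, Nat.one_le_iff_ne_zero.2 ?_, hm, hy'⟩
    rintro rfl
    obtain ⟨l, -, hlen, -, -, e⟩ := hy'
    rw [List.length_eq_zero_iff.1 hlen, List.prod_nil] at e
    simp [← e] at hx
  · obtain ⟨x, hx⟩ := exists_prod C hm
    exact ⟨x, C.orderOf_prod hm1 hm hx, hx⟩

end Cfsg.Agent.S5398
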