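import Cfsg.Statements.S5456
import Cfsg.Agent.S5398

set_option autoImplicit false
open Cfsg

namespace Cfsg.Agent.S5456

open Cfsg.Lib.Fischer Cfsg.Lib.Fischer.Relations Cfsg.Lib.Fischer.RadicalAbelian Cfsg.Lib.Linear.Herm

/-- Two pairs on a path of four members do not behave like transpositions, also after a central factor. -/
theorem path_false {G : Type*} [Group G] {D : Set G} (hD : Trans D) (hN : NoRel D 5) {a b c e z : G}
    (ha : a ∈ D) (hb : b ∈ D) (hc : c ∈ D) (he : e ∈ D) (hab : ¬ Commute a b) (hbc : ¬ Commute b c)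
    (hce : ¬ Commute c e) (hac : Commute a c) (hbe : Commute b e) (hae : Commute a e)
    (hz : z * z = 1) (za : Commute z a) (zc : Commute z c) :
    ¬ ((z * (a * c) * (z * (b * e))) ^ 2 = 1 ∨ (z * (a * c) * (z * (b * e))) ^ 3 = 1) := by
  have hd : z * (a * c) * (z * (b * e)) = a * c * (b * e) := by
    rw [← mul_assoc, (za.mul_right zc).eq, mul_assoc (a * c) z z, hz, mul_one]
  have ix : (a * c)⁻¹ = a * c := by rw [mul_inv_rev, inv_eq hD ha, inv_eq hD hc, hac.eq]
  have iy : (b * e)⁻¹ = b * e := by rw [mul_inv_rev, inv_eq hD hb, inv_eq hD he, hbe.eq]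
  have hx : ∀ u, a * c * u * (a * c) = cj a (cj c u) := fun u => by
    nth_rw 2 [hac.eq]
    simp only [cj_def, mul_assoc]
  have hy : ∀ u, b * e * u * (b * e) = cj b (cj e u) := fun u => by
    nth_rw 2 [hbe.eq]
    simp only [cj_def, mul_assoc]
  have hxb : cj a (cj c b) ∈ D := cj_mem hD ha (cj_mem hD hc hb)
  have hce' : cj c e ∈ D := cj_mem hD hc he
  have hxe : cj a (cj c e) = cj c e := cj_of_commute hD ha (by
    rw [← cj_of_commute hD hc hac.symm, commute_cj hD hc]; exact hae)
  have hne : cj c e ≠ e := fun h => hce ((cj_eq_self hD hc).1 h)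
  have hbce : cj c e ≠ b := fun h => by
    have := not_commute_cj' hD hc he hce
    rw [h] at this
    exact this hbe.symm
  have ebe : b ≠ e := fun h => hab (h ▸ hae)
  have hnd : [cj a (cj c b), cj c e].Nodup := by
    rw [← hxe]
    simp [cj_inj hD ha, cj_inj hD hc, ebe]
  have huv : ∀ p ∈ [cj a (cj c b), cj c e], ∀ q ∈ [cj a (cj c b), cj c e], Commute p q := by
    have h : Commute (cj a (cj c b)) (cj c e) := by
      rw [← hxe, commute_cj hD ha, commute_cj hD hc]; exact hbe
    simp [h, h.symm]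
  have hu : a * c * (b * e) * (a * c) = cj a (cj c b) * cj c e := by
    calc a * c * (b * e) * (a * c) = a * c * b * (a * c) * (a * c * e * (a * c)) := by
          rw [show a * c * b * (a * c) * (a * c * e * (a * c)) = a * c * b * (a * c * (a * c)) * e * (a * c) by
            group, show a * c * (a * c) = 1 from mul_eq_one_iff_eq_inv.2 ix.symm]
          group
      _ = cj a (cj c b) * cj c e := by rw [hx, hx, hxe]
  rw [hd]
  rintro (h | h)
  · -- commuting pairs
    have e1 : a * c * (b * e) * (a * c) = b * e := by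
      rw [pow_two] at h
      calc a * c * (b * e) * (a * c) = a * c * (b * e) * (a * c) * (b * e) * (b * e)⁻¹ := by group
        _ = b * e := by rw [show a * c * (b * e) * (a * c) * (b * e) = 1 by simpa [mul_assoc] using h, one_mul, iy]
    have hiff := mem_iff_of_prod_eq hD hN hnd (show [b, e].Nodup by simp [ebe])
      (by simp [hxb, hce']) (by simp [hb, he]) huv (by simp [hbe, hbe.symm]) (by simp) (by simp)
      (by simpa using hu.symm.trans e1)
    have := (hiff (cj c e)).1 (by simp)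
    simp [hne, hbce] at this
  · -- pairs generating a symmetric group of degree three
    have e1 : a * c * (b * e) * (a * c) = b * e * (a * c) * (b * e) := by
      rw [pow_succ, pow_two] at h
      calc a * c * (b * e) * (a * c)
          = a * c * (b * e) * (a * c * (b * e)) * (a * c * (b * e)) * ((b * e)⁻¹ * (a * c)⁻¹ * (b * e)⁻¹) := by
            group
        _ = b * e * (a * c) * (b * e) := by rw [h, one_mul, ix, iy]
    have hw : b * e * (a * c) * (b * e) = cj b a * cj b (cj e c) := by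
      calc b * e * (a * c) * (b * e) = b * e * a * (b * e) * (b * e * c * (b * e)) := by
            rw [show b * e * a * (b * e) * (b * e * c * (b * e)) = b * e * a * (b * e * (b * e)) * c * (b * e) by
              group, show b * e * (b * e) = 1 from mul_eq_one_iff_eq_inv.2 iy.symm]
            group
        _ = cj b a * cj b (cj e c) := by rw [hy, hy, cj_of_commute hD he hae.symm]
    have hac' : a ≠ c := fun h => hce (h ▸ hae)
    have hw' : Commute (cj b a) (cj b (cj e c)) := by
      rw [commute_cj hD hb, commute_cj_of hD he hae.symm]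
      exact hac
    have hiff := mem_iff_of_prod_eq hD hN hnd (l' := [cj b a, cj b (cj e c)])
      (by
        rw [← cj_of_commute hD he (x := a) hae.symm]
        simp [cj_inj hD hb, cj_inj hD he, hac'])
      (by simp [hxb, hce']) (by simp [cj_mem hD hb ha, cj_mem hD hb (cj_mem hD he hc)]) huv
      (by simp [hw', hw'.symm]) (by simp) (by simp) (by simpa using hu.symm.trans (e1.trans hw))
    have := (hiff (cj c e)).1 (by simp)
    simp only [List.mem_cons, List.not_mem_nil, or_false] at this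
    rcases this with h1 | h1
    · refine not_commute_cj' hD hb ha (fun h2 => hab h2.symm) (h1 ▸ ?_)
      exact (cj_eq_self hD ha).1 hxe
    · rw [← braid hD hc he hce] at h1
      have h2 : Commute b (cj c e) := (cj_eq_self hD hb).1 h1.symm
      have h3 := (commute_cj_left hD hc).1 h2.symm
      rw [braid hD hc hb fun h4 => hbc h4.symm, commute_cj_of hD hb hbe] at h3
      exact hce h3.symm

/-- Let G be a finite group with trivial centre generated by a conjugation-invariant set D of 3-transpositions on which it acts primitively, of type M(22), and suppose G also has an involution whose centralizer is quasisimple with quotient by it the projective special unitary group of dimension 6 over the field with four elements and which is not weakly closed in that centralizer. Then D is the only conjugacy class of 3-transpositions generating G. -/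
theorem result {G : Type*} [Group G] [Finite G] {D : Set G} (hD : Cfsg.IsThreeTranspositionGroup D) (hprim : Cfsg.IsPrimitiveUnderConj D) (h22 : Cfsg.IsOfTypeM22 G D) (hM : ∃ d : G, orderOf d = 2 ∧ Cfsg.IsQuasisimple ↥(Subgroup.centralizer ({d} : Set G)) ∧ (∃ (_ : ((Subgroup.zpowers d).subgroupOf (Subgroup.centralizer ({d} : Set G))).Normal) (K : Type) (_ : Field K) (_ : Fintype K), Fintype.card K = 4 ∧ Nonempty (↥(Subgroup.centralizer ({d} : Set G)) ⧸ (Subgroup.zpowers d).subgroupOf (Subgroup.centralizer ({d} : Set G)) ≃* Cfsg.PSU 6 K 2)) ∧ ∃ g : G, g * d * g⁻¹ ∈ Subgroup.centralizer ({d} : Set G) ∧ g * d * g⁻¹ ≠ d) (D' : Set G) (hD' : Cfsg.IsThreeTranspositionClass D') : D' = D := by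
  obtain ⟨hset, hconj, hgen⟩ := hD
  have hne : D.Nonempty := by
    obtain ⟨-, d, hd, -⟩ := h22
    exact ⟨d, hd⟩
  have hT : Trans D := ⟨hset, hconj, hprim.1, hgen, hne⟩
  obtain ⟨F, _, _, hF, d₁, ⟨C⟩⟩ := m22_coord hT hprim h22
  obtain ⟨hDc, hG, -⟩ := m22_order hT hprim h22
  obtain ⟨hset', ⟨d', hd', rfl⟩, -⟩ := hD'
  have hd'2 : d' * d' = 1 := by rw [← pow_two, ← hset'.1 d' hd', pow_orderOf_eq_one]
  obtain ⟨g, hg⟩ := C.exists_conj_commute hG hDc (hset'.1 d' hd')
  obtain ⟨m, hm, hy⟩ := C.involution_isProd hg (by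
    calc g * d' * g⁻¹ * (g * d' * g⁻¹) = g * (d' * d') * g⁻¹ := by group
      _ = 1 := by rw [hd'2, mul_one, mul_inv_cancel])
  have hm' : IsProd D m d' := by simpa [mul_assoc] using hy.conj hT g⁻¹
  have hm1 : 1 ≤ m := Nat.one_le_iff_ne_zero.2 fun h0 => by
    obtain ⟨l, -, hlen, -, -, e⟩ := hm'
    rw [h0, List.length_eq_zero_iff] at hlen
    have := hset'.1 d' hd'
    rw [← e, hlen] at this
    simp at this
  rcases eq_or_lt_of_le hm1 with rfl | hm2
  · obtain ⟨l, -, hlen, hl, -, e⟩ := hm'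
    obtain ⟨a, rfl⟩ := List.length_eq_one_iff.1 hlen
    rw [List.prod_singleton] at e
    subst e
    ext x
    refine ⟨fun hx => ?_, fun hx => isConj_iff.2 (hT.trans a (hl a (by simp)) x hx)⟩
    obtain ⟨c, rfl⟩ := isConj_iff.1 hx
    exact hT.conj c a (hl a (by simp))
  exfalso
  -- a path of four neighbours
  have hB6 : ∀ v w : Fin 6 → F, hB hF 6 v w = Cfsg.hermForm 6 F 2 w v := fun v w => hB_apply hF 6 v w
  have h2F : (2 : F) = 0 := (fourField hF).two
  have hpt : ∀ v : Fin 6 → F, v ≠ 0 → hB hF 6 v v = 0 → ∃ s ∈ perp D d₁, ∃ k : F, k ≠ 0 ∧ C.U.c s = k • v :=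
    fun v => C.exists_point
  have hcomm : ∀ {s t : G} {v w : Fin 6 → F}, s ∈ perp D d₁ → t ∈ perp D d₁ →
      (∃ k : F, k ≠ 0 ∧ C.U.c s = k • v) → (∃ k : F, k ≠ 0 ∧ C.U.c t = k • w) →
      (Commute s t ↔ hB hF 6 v w = 0) := by
    rintro s t v w hs ht ⟨k, hk, ek⟩ ⟨j, hj, ej⟩
    rw [C.U.comm s hs t ht, ek, ej, map_smul, LinearMap.map_smulₛₗ, LinearMap.smul_apply]
    simp [hk, hj]
  have hne1 : ∀ i : Fin 6, ∀ v : Fin 6 → F, v i = 1 → v ≠ 0 := fun i v hv e => by simp [e] at hv
  obtain ⟨a, ha, ea⟩ := hpt ![1, 1, 0, 0, 0, 0] (hne1 0 _ rfl)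
    (by simp [hB6, Cfsg.hermForm, Fin.sum_univ_six]; linear_combination h2F)
  obtain ⟨b, hb, eb⟩ := hpt ![0, 1, 1, 0, 0, 0] (hne1 1 _ rfl)
    (by simp [hB6, Cfsg.hermForm, Fin.sum_univ_six]; linear_combination h2F)
  obtain ⟨c, hc, ec⟩ := hpt ![0, 0, 1, 1, 0, 0] (hne1 2 _ rfl)
    (by simp [hB6, Cfsg.hermForm, Fin.sum_univ_six]; linear_combination h2F)
  obtain ⟨e, he, ee⟩ := hpt ![0, 0, 0, 1, 1, 0] (hne1 3 _ rfl)
    (by simp [hB6, Cfsg.hermForm, Fin.sum_univ_six]; linear_combination h2F)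
  have hab : ¬ Commute a b := by simp [hcomm ha hb ea eb, hB6, Cfsg.hermForm, Fin.sum_univ_six]
  have hbc : ¬ Commute b c := by simp [hcomm hb hc eb ec, hB6, Cfsg.hermForm, Fin.sum_univ_six]
  have hce : ¬ Commute c e := by simp [hcomm hc he ec ee, hB6, Cfsg.hermForm, Fin.sum_univ_six]
  have hac : Commute a c := by simp [hcomm ha hc ea ec, hB6, Cfsg.hermForm, Fin.sum_univ_six]
  have hbe : Commute b e := by simp [hcomm hb he eb ee, hB6, Cfsg.hermForm, Fin.sum_univ_six]
  have hae : Commute a e := by simp [hcomm ha he ea ee, hB6, Cfsg.hermForm, Fin.sum_univ_six]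
  have nac : a ≠ c := fun h => hce (h ▸ hae)
  have nbe : b ≠ e := fun h => hab (h ▸ hae)
  have hin : ∀ x, IsProd D m x → x ∈ conjugatesOf d' := fun x hx =>
    Cfsg.Agent.S5398.isConj_prod C hm1 hm hm' hx
  obtain ⟨z, hz, hzc, hza, hzb⟩ : ∃ z : G, z * z = 1 ∧ (∀ u ∈ perp D d₁, Commute z u) ∧
      IsProd D m (z * (a * c)) ∧ IsProd D m (z * (b * e)) := by
    interval_cases m
    · refine ⟨1, one_mul 1, fun u _ => Commute.one_left u, ⟨[a, c], ?_⟩, ⟨[b, e], ?_⟩⟩
      · simp [nac, ha.1, hc.1, hac, hac.symm]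
      · simp [nbe, hb.1, he.1, hbe, hbe.symm]
    · refine ⟨d₁, mul_self hT C.mem, fun u hu => hu.2.2, ⟨[d₁, a, c], ?_⟩, ⟨[d₁, b, e], ?_⟩⟩
      · obtain ⟨h1, h2, h3⟩ := IsTriple.mk C.mem ha.1 hc.1 ha.2.1.symm hc.2.1.symm nac ha.2.2 hc.2.2 hac
        exact ⟨h1, rfl, h2, h3, by simp⟩
      · obtain ⟨h1, h2, h3⟩ := IsTriple.mk C.mem hb.1 he.1 hb.2.1.symm he.2.1.symm nbe hb.2.2 he.2.2 hbe
        exact ⟨h1, rfl, h2, h3, by simp⟩
  exact path_false hT C.noRel ha.1 hb.1 hc.1 he.1 hab hbc hce hac hbe hae hz (hzc a ha) (hzc c hc)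
    (hset'.2 _ (hin _ hza) _ (hin _ hzb))

end Cfsg.Agent.S5456
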