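import Cfsg.Statements.S0286
import Cfsg.Agent.Lib.Linear.OrthOrderStd

set_option autoImplicit false
open Cfsg

namespace Cfsg.Agent.S0286

open Module Cfsg.Lib.Linear.Orth
open scoped Matrix

theorem cast_pow_sub {q : ℕ} (hq : 1 ≤ q) (k : ℕ) : ((q ^ k - 1 : ℕ) : ℤ) = (q : ℤ) ^ k - 1 := by
  rw [Nat.cast_sub (Nat.one_le_pow k q hq)]; push_cast; ring

theorem two_ne {F : Type*} [Field F] [Fintype F] (hodd : Odd (Fintype.card F)) : (2 : F) ≠ 0 :=
  two_ne_zero_of_odd_card hodd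


/-- |GO_{2m+1}(q)| = 2 q^(m^2) prod_{i=1}^{m} (q^(2i) - 1) for q odd. -/
theorem result {F : Type*} [Field F] [Fintype F] {q : ℕ} (hF : Fintype.card F = q) (hodd : Odd q) (m : ℕ) : Nat.card (Cfsg.isometryGroup F (Cfsg.quadFormOdd m F)) = 2 * q ^ (m ^ 2) * ∏ i ∈ Finset.range m, (q ^ (2 * (i + 1)) - 1) := by
  subst hF
  have hq : 1 ≤ Fintype.card F := Fintype.card_pos
  rw [← Nat.card_eq_fintype_card] at *
  obtain ⟨-, -, h3⟩ := counts_odd (F := F) (two_ne (by rwa [← Nat.card_eq_fintype_card])) m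
  apply Int.natCast_inj.mp
  push_cast
  simp only [cast_pow_sub hq]
  rw [h3, prod_odd, show 1 * m + m * (m - 1) = m ^ 2 by rcases m with _ | m <;> simp; ring]
  ring

end Cfsg.Agent.S0286
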