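import Cfsg.Statements.S0292
import Cfsg.Agent.Lib.Linear.OrthOrderStd
import Cfsg.Agent.Lib.Linear.OrthCenter
import Cfsg.Agent.S0286

set_option autoImplicit false
open Cfsg

namespace Cfsg.Agent.S0292

open Module Cfsg.Lib.Linear.Orth
open scoped Matrix

theorem gcd_four {q : ℕ} (hq : Odd q) (k : ℕ) :
    (q ^ k % 4 = 1 → Nat.gcd 4 (q ^ k - 1) = 4 ∧ Nat.gcd 4 (q ^ k + 1) = 2) ∧
      (q ^ k % 4 ≠ 1 → Nat.gcd 4 (q ^ k - 1) = 2 ∧ Nat.gcd 4 (q ^ k + 1) = 4 ∧ q ^ k % 4 = 3) := by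
  have ho : q ^ k % 2 = 1 := Nat.odd_iff.mp hq.pow
  have h1 : 1 ≤ q ^ k := by omega
  constructor <;> intro h
  · constructor
    · exact Nat.gcd_eq_left (Nat.dvd_of_mod_eq_zero (by omega))
    · rw [Nat.gcd_rec, show (q ^ k + 1) % 4 = 2 by omega]; rfl
  · refine ⟨?_, Nat.gcd_eq_left (Nat.dvd_of_mod_eq_zero (by omega)), by omega⟩
    rw [Nat.gcd_rec, show (q ^ k - 1) % 4 = 2 by omega]; rfl

theorem two_eq {F : Type*} [Field F] [Fintype F] (hev : ¬ Odd (Fintype.card F)) : (2 : F) = 0 := by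
  haveI : CharP F 2 := ringChar.of_eq (by
    by_contra h
    exact hev (Nat.odd_iff.mpr (FiniteField.odd_card_of_char_ne_two h)))
  exact CharTwo.two_eq_zero


/-- 2 |PΩ_{2m+1}(q)| = q^(m^2) prod_{i=1}^{m} (q^(2i) - 1), for q odd and m at least 3 (type B_m). -/
theorem result {F : Type*} [Field F] [Fintype F] {q : ℕ} (hF : Fintype.card F = q) (hodd : Odd q) (m : ℕ) (hm : 3 ≤ m) : 2 * Nat.card (Cfsg.POmega F (Cfsg.quadFormOdd m F)) = q ^ (m ^ 2) * ∏ i ∈ Finset.range m, (q ^ (2 * (i + 1)) - 1) := by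
  classical
  obtain ⟨B, C⟩ := exists_space (isQuad_odd m (two_ne_zero_of_odd_card (F := F) (hF ▸ hodd)))
  have h2 : (2 : F) ≠ 0 := two_ne_zero_of_odd_card (hF ▸ hodd)
  obtain ⟨e1, hidx, -⟩ := omega_odd C h2 (by rw [card_odd_index]; omega)
  have h := card_pomega C (by rw [card_odd_index]; omega)
  rw [hidx, Cfsg.Agent.S0286.result hF hodd m, if_neg (fun ⟨_, g, hg, hgv⟩ => by
    have hk : g ∈ (detSpin (Cfsg.quadFormOdd m F)).ker := e1 ▸ hg
    have hd := congrArg (fun x : Fˣ × ℤˣ => ((x.1 : Fˣ) : F)) hk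
    change (g : GL (Unit ⊕ (Fin m ⊕ Fin m)) F).val.det = 1 at hd
    rw [hgv, Matrix.det_neg, Matrix.det_one, card_odd_index, (odd_two_mul_add_one m).neg_one_pow,
      mul_one] at hd
    exact h2 (by linear_combination -hd))] at h
  linarith

end Cfsg.Agent.S0292
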