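import Cfsg.Statements.S4625
import Cfsg.Agent.Lib.Linear.SylowTwo.Classical
import Cfsg.Agent.Lib.Linear.SylowTwo.Other
import Cfsg.Agent.Lib.Chev.SylowSqTypes
import Cfsg.Agent.S2326

set_option autoImplicit false
open Cfsg

namespace Cfsg.Agent.S4625

/-- Let G be a finite simple group of Lie type in characteristic 2, not counting the Tits group ²F₄(2)′. Then a Sylow 2-subgroup P of G has P/P' elementary abelian: the square of every element of P lies in the derived subgroup of P. -/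
theorem result {G : Type*} [Group G] [Finite G] [IsSimpleGroup G] (hG : Cfsg.IsLieTypeChar 2 G) (P : Sylow 2 G) :
    ∀ x : (P : Subgroup G), x ^ 2 ∈ commutator (P : Subgroup G) := by
  haveI : Fact (Nat.Prime 2) := ⟨Nat.prime_two⟩
  have mk : ∀ {A : Type} [_root_.Group A] (N : Subgroup A) [N.Normal] (e : G ≃* A ⧸ N),
      Function.Surjective ⇑(e.symm.toMonoidHom.comp (QuotientGroup.mk' N)) := fun N _ e =>
    e.symm.surjective.comp (QuotientGroup.mk'_surjective N)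
  rcases hG with h | h | h | h | h | h | h | h | ⟨-, h⟩ | ⟨-, h⟩ | ⟨h, -⟩
  · obtain ⟨F, _, _, _, n, -, -, ⟨e⟩⟩ := h
    exact Cfsg.Lib.Group.SqCom.psl_sylow_sq _ (mk _ e) P
  · obtain ⟨F, _, _, _, m, -, -, ⟨e⟩⟩ := h
    exact Cfsg.Lib.Linear.Steinberg.psp_sylow_sq _ (mk _ e) P
  · obtain ⟨F, _, _, _, n, q, hF, hn, -, ⟨e⟩⟩ := h
    exact Cfsg.Lib.Linear.Steinberg.psu_sylow_sq hF (by omega) _ (mk _ e) P
  · obtain ⟨F, _, _, _, m, -, hodd, -⟩ := h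
    obtain ⟨k, -, hk⟩ := FiniteField.card F 2
    rw [hk] at hodd
    exact absurd hodd (Nat.not_odd_iff_even.2 (Nat.even_pow.2 ⟨even_two, k.pos.ne'⟩))
  · obtain ⟨F, _, _, _, m, hm, ⟨e⟩⟩ := h
    obtain ⟨B, C⟩ := Cfsg.Lib.Linear.Orth.exists_space_plus (F := F) m
    exact Cfsg.Lib.Linear.Steinberg.pomega_sylow_sq (Cfsg.Lib.Linear.Steinberg.plusSetup C)
      (Or.inr (by simp; omega)) (by simp; omega) (by omega)
      (Cfsg.Lib.Linear.Steinberg.plus_good C 2 (by omega) (Or.inr (by omega))) _ (mk _ e) P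
  · obtain ⟨F, _, _, _, m, a, b, hm, hab, ⟨e⟩⟩ := h
    obtain ⟨B, C⟩ := Cfsg.Lib.Linear.Orth.exists_space_minus (F := F) (m - 1) a b hab
    exact Cfsg.Lib.Linear.Steinberg.pomega_sylow_sq (Cfsg.Lib.Linear.Steinberg.minusSetup C hab)
      (Or.inr (by simp; omega)) (by simp) (by omega)
      (Cfsg.Lib.Linear.Steinberg.minus_good 2 (Or.inr (by omega)) C hab) _ (mk _ e) P
  · obtain ⟨F, _, _, _, h⟩ := h
    have key : ∀ D ∈ [Cfsg.Lie.chevG2, Cfsg.Lie.chevB2, Cfsg.Lie.chevD4, Cfsg.Lie.chevF4, Cfsg.Lie.chevE6,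
        Cfsg.Lie.chevE7, Cfsg.Lie.chevE8], ∀ e : G ≃* ↥(D.group F),
          ∀ x : (P : Subgroup G), x ^ 2 ∈ commutator (P : Subgroup G) := by
      intro D hD e
      haveI : Finite ↥(D.group F) := Finite.of_equiv G e.toEquiv
      obtain ⟨S, hS⟩ := Cfsg.Agent.S2326.result 2 D hD (F := F)
      obtain ⟨T, K, -, -⟩ := Cfsg.Lib.Chev.exists_cert_step hD
      refine Cfsg.Lib.Group.SqCom.sylow_map e.symm.toMonoidHom e.symm.surjective S.isPGroup' S.not_dvd_index ?_ P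
      rw [hS]
      exact Cfsg.Lib.Group.SqCom.subgroupOf (Cfsg.Lib.Chev.pos_le_group K.comm.cert)
        (Cfsg.Lib.Chev.sqCom_pos K.comm.cert)
    rcases h with ⟨-, ⟨e⟩⟩ | ⟨⟨e⟩⟩ | ⟨⟨e⟩⟩ | ⟨⟨e⟩⟩ | ⟨⟨e⟩⟩
    exacts [key _ (by simp) e, key _ (by simp) e, key _ (by simp) e, key _ (by simp) e, key _ (by simp) e]
  · obtain ⟨K, _, _, _, q, hq, ⟨hK, ⟨e⟩⟩ | ⟨hK, ⟨e⟩⟩⟩ := h
    · obtain ⟨X, hX, -, -⟩ := Cfsg.Lib.Chev.exists_ctxE6 hq hK
      exact X.sylow_sq (e.trans (MulEquiv.subgroupCongr hX)) P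
    · obtain ⟨X, hX, -, -⟩ := Cfsg.Lib.Chev.exists_ctxD4 hq hK
      exact X.sylow_sq (e.trans (MulEquiv.subgroupCongr hX)) P
  · obtain ⟨F, _, _, m, hm, hF, ⟨e⟩⟩ := h
    have hp : Cfsg.Lib.Linear.Suz.Params F m := ⟨hm, hF⟩
    obtain ⟨e', -⟩ := Cfsg.Lib.Linear.Suz.exists_lie_equiv hp
    exact Cfsg.Lib.Linear.Suz.sz_sylow_sq hp (e'.trans e.symm).toMonoidHom (e'.trans e.symm).surjective P
  · obtain ⟨K, _, _, m, hm, hK, ⟨e⟩⟩ := h
    haveI := Cfsg.Lib.Chev.f4_charP (K := K) hK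
    exact Cfsg.Lib.Chev.f4_sylow_sq hK hm (e.trans (MulEquiv.subgroupCongr (Cfsg.Lib.Chev.twistedF4_eq hK))) P
  · exact absurd h (by decide)

end Cfsg.Agent.S4625
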