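import Cfsg.Statements.S2092
import Cfsg.Agent.Lib.SpMult.Main
import Cfsg.Agent.Lib.Concrete.SLMultiplier
import Cfsg.Agent.S0246
import Cfsg.Agent.S0269

set_option autoImplicit false
open Cfsg

namespace Cfsg.Agent.S2092

/-- Schur multipliers of the symplectic groups: for m ≥ 2 and a field F with q elements (q ≥ 3 when m = 2), with (m, q) ≠ (3, 2), the Schur multiplier of PSp_2m(F) is cyclic of order gcd(2, q − 1); here the Schur multiplier is described through stem extensions, as in the definitions. -/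
theorem result {F : Type*} [Field F] [Fintype F] {q : ℕ} (hF : Fintype.card F = q) (m : ℕ) (hm : 2 ≤ m) (h2 : m = 2 → 3 ≤ q) (hexc : ¬ (m = 3 ∧ q = 2)) : Cfsg.HasCyclicSchurMultiplier (Cfsg.PSp m F) (Nat.gcd 2 (q - 1)) := by
  subst hF
  have hk : Nat.card (QuotientGroup.mk' (Subgroup.center (Matrix.symplecticGroup (Fin m) F))).ker =
      Nat.gcd 2 (Fintype.card F - 1) := by
    rw [QuotientGroup.ker_mk']
    exact Cfsg.Agent.S0246.result rfl m (by omega)
  haveI : IsCyclic (QuotientGroup.mk' (Subgroup.center (Matrix.symplecticGroup (Fin m) F))).ker := by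
    rcases (Nat.dvd_prime Nat.prime_two).1 (hk ▸ Nat.gcd_dvd_left 2 (Fintype.card F - 1)) with h | h
    · haveI := (Nat.card_eq_one_iff_unique.1 h).1
      exact isCyclic_of_subsingleton
    · haveI : Fact (Nat.Prime 2) := ⟨Nat.prime_two⟩
      exact isCyclic_of_prime_card h
  haveI : Finite (Matrix.symplecticGroup (Fin m) F) := inferInstance
  rw [← hk]
  refine Cfsg.Lib.Concrete.SLMult.hasCyclic_quotient ?_ (fun Γ _ _ σ hσ =>
    Cfsg.Lib.SpMult.stem_trivial_sp m hm h2 hexc Γ σ hσ) _ (QuotientGroup.mk'_surjective _)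
    (QuotientGroup.ker_mk' _).le
  have hc : commutator (Cfsg.Lib.Linear.Symp.iso (Cfsg.Lib.Linear.Symp.spB m F)) = ⊤ :=
    Cfsg.Lib.SpMult.perfect_iso (Cfsg.Lib.Linear.Symp.spB_nondegenerate m F)
      (Cfsg.Lib.Linear.Symp.spB_isAlt m F) Cfsg.Lib.Linear.Symp.finrank_space hm h2
  let e := (Cfsg.Lib.Linear.Symp.spEquiv (m := m) (F := F)).symm
  have := congrArg (Subgroup.map e.toMonoidHom) hc
  rwa [commutator_def, Subgroup.map_commutator, Subgroup.map_top_of_surjective _ e.surjective,
    ← commutator_def] at this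

end Cfsg.Agent.S2092
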