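import Cfsg.Statements.S1027
import Cfsg.Agent.Lib.Chev.CommAll
import Cfsg.Agent.Lib.Chev.Unipotent

set_option autoImplicit false
open Cfsg

namespace Cfsg.Agent.S1027

/-- For the subgroup `U` generated by the root elements `x_r(t)` of the positive roots `r`: `|U| = q^N` over a field with `q` elements, where `N` is the number of positive roots (half the number of roots). -/
theorem result {F : Type*} [Field F] [Fintype F] (D : Cfsg.Lie.ChevalleyDatum) (hD : D ∈ [Cfsg.Lie.chevG2, Cfsg.Lie.chevB2, Cfsg.Lie.chevD4, Cfsg.Lie.chevF4, Cfsg.Lie.chevE6, Cfsg.Lie.chevE7, Cfsg.Lie.chevE8]) :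
    Nat.card (D.posUnipotent F) = Fintype.card F ^ (D.nroots / 2) := by
  obtain ⟨T, K⟩ := Cfsg.Lib.Chev.exists_commCert hD
  classical
  have hev := Cfsg.Lib.Chev.nroots_even K.cert
  rw [Cfsg.Lib.Chev.posUnipotent_eq K.cert]
  have hcard : ∀ (m k : ℕ), D.nroots ≤ 2 * k → k + m = D.nroots →
      Nat.card (Cfsg.Lib.Chev.upper K.cert F k) = Fintype.card F ^ m := by
    intro m
    induction m with
    | zero =>
      intro k _ hkm
      rw [Cfsg.Lib.Chev.upper_top K.cert (by omega), Subgroup.card_bot, pow_zero]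
    | succ m ih =>
      intro k hk hkm
      have hb : Function.Bijective fun p : F × Cfsg.Lib.Chev.upper K.cert F (k + 1) =>
          (⟨Cfsg.Lib.Chev.xg K.cert k p.1 * p.2, (Cfsg.Lib.Chev.upper_step K.cert K hk).2 ⟨p.1, p.2, p.2.2, rfl⟩⟩ :
            Cfsg.Lib.Chev.upper K.cert F k) := by
        refine ⟨fun p p' e => ?_, fun g => ?_⟩
        · obtain ⟨h1, h2⟩ := Cfsg.Lib.Chev.upper_unique K.cert hk (by omega) p.2.2 p'.2.2 (congrArg Subtype.val e)
          exact Prod.ext h1 (Subtype.ext h2)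
        · obtain ⟨t, b, hb, e⟩ := (Cfsg.Lib.Chev.upper_step K.cert K hk).1 g.2
          exact ⟨(t, ⟨b, hb⟩), Subtype.ext e.symm⟩
      rw [← Nat.card_eq_of_bijective _ hb, Nat.card_prod, ih (k + 1) (by omega) (by omega), Nat.card_eq_fintype_card,
        pow_succ, mul_comm]
  exact hcard _ _ (by omega) (by omega)

end Cfsg.Agent.S1027
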