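import Cfsg.Statements.S0806
import Cfsg.Agent.Lib.Dickson.Orders

set_option autoImplicit false
open Cfsg

namespace Cfsg.Agent.S0806

/-- Minimal index (Galois): if q ∉ {2, 3, 5, 7, 9, 11} then every proper subgroup of PSL_2(q) has index ≥ q + 1, and some subgroup has index exactly q + 1. -/
theorem result {F : Type*} [Field F] [Fintype F] {q : ℕ} (hF : Fintype.card F = q) (hq : q ∉ ({2, 3, 5, 7, 9, 11} : Finset ℕ)) : (∀ H : Subgroup (Matrix.ProjectiveSpecialLinearGroup (Fin 2) F), H ≠ ⊤ → q + 1 ≤ H.index) ∧ ∃ H : Subgroup (Matrix.ProjectiveSpecialLinearGroup (Fin 2) F), H.index = q + 1 := by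
  subst hF
  obtain ⟨p, hp⟩ := CharP.exists F
  haveI := Fact.mk (CharP.char_is_prime F p)
  obtain ⟨n, hpp, hn⟩ := FiniteField.card F p
  haveI : Finite (Matrix.ProjectiveSpecialLinearGroup (Fin 2) F) := inferInstance
  obtain ⟨P⟩ : Nonempty (Sylow p (Matrix.ProjectiveSpecialLinearGroup (Fin 2) F)) := inferInstance
  refine ⟨?_, ⟨_, Cfsg.Lib.Dickson.index_normalizer_sylow_psl p P⟩⟩
  intro H hH
  have hG := Cfsg.Lib.Linear.Two.card_PSL_two (F := F)
  have hcases := Cfsg.Lib.Dickson.card_subgroup_cases p H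
  have hdvd := Subgroup.card_subgroup_dvd_card H
  have hidx := Subgroup.card_mul_index H
  have hlt : Nat.card H ≠ Nat.card (Matrix.ProjectiveSpecialLinearGroup (Fin 2) F) :=
    fun e => hH (Subgroup.eq_top_of_card_eq H e)
  set q := Fintype.card F with hq'
  set d := Nat.gcd 2 (q - 1) with hd
  set G := Nat.card (Matrix.ProjectiveSpecialLinearGroup (Fin 2) F)
  set h := Nat.card H
  have hpos : 0 < h := Nat.card_pos
  simp only [Finset.mem_insert, Finset.mem_singleton, not_or] at hq
  have hq2 : 2 ≤ q := Cfsg.Lib.Dickson.two_le_card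
  have hdd : d = 1 ∧ q % 2 = 0 ∨ d = 2 ∧ q % 2 = 1 := by
    rcases Nat.mod_two_eq_zero_or_one q with e | e
    · refine Or.inl ⟨?_, e⟩
      rw [hd, Nat.gcd_rec]
      simp [show (q - 1) % 2 = 1 by omega]
    · exact Or.inr ⟨by rw [hd]; exact Nat.gcd_eq_left (by omega), e⟩
  have hsq : q ^ 2 - 1 = (q + 1) * (q - 1) := by rw [← Nat.sq_sub_sq, one_pow]
  have hdpos : 0 < d := by omega
  -- it suffices to bound the order
  suffices hb : d * h ≤ q * (q - 1) by
    have e : d * h * H.index = q * (q - 1) * (q + 1) := by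
      rw [mul_assoc, hidx, hG, hsq]; ring
    by_contra hcon
    push Not at hcon
    have h1 : d * h * H.index < d * h * (q + 1) := Nat.mul_lt_mul_of_pos_left hcon (Nat.mul_pos hdpos hpos)
    have h2 : d * h * (q + 1) ≤ q * (q - 1) * (q + 1) := Nat.mul_le_mul_right _ hb
    omega
  have hq4 : 4 ≤ q := by omega
  rcases hcases with ⟨k, hk, hh⟩ | hh | hh | ⟨r, m, hr3, hrm, hh⟩
  · have hk' : k * d ≤ q + 1 := by
      rcases hk with hk | hk
      · exact (Nat.mul_le_mul_right d (Nat.le_of_dvd (Nat.div_pos (by omega) hdpos) hk)).trans (Nat.div_mul_le_self _ _)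
      · exact ((Nat.mul_le_mul_right d (Nat.le_of_dvd (Nat.div_pos (by omega) hdpos) hk)).trans
          (Nat.div_mul_le_self _ _)).trans (by omega)
    have h1 : 4 * (q - 1) ≤ q * (q - 1) := Nat.mul_le_mul_right _ hq4
    rcases hh with hh | hh <;> rw [hh, mul_comm]
    · omega
    · rw [mul_assoc]; omega
  · exact Nat.le_of_dvd (Nat.mul_pos (by omega) (by omega)) hh
  · rcases hdd with ⟨h1, h2⟩ | ⟨h1, h2⟩
    · rcases Nat.lt_or_ge q 16 with h16 | h16
      · have hev : q = 4 ∨ q = 8 := by
          obtain ⟨e, he⟩ : ∃ e : ℕ, q = p ^ e := ⟨n, hn⟩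
          have hp2 : p = 2 := by
            have : 2 ∣ p ^ e := by omega
            exact ((Nat.prime_dvd_prime_iff_eq Nat.prime_two hpp).mp (Nat.prime_two.dvd_of_dvd_pow this)).symm
          subst hp2
          rcases Nat.lt_or_ge e 4 with h4 | h4
          · interval_cases e <;> omega
          · have := Nat.pow_le_pow_right (show 0 < 2 by norm_num) h4
            omega
        rw [h1, one_mul] at hG ⊢
        rcases hev with e | e <;> rw [e] at hG ⊢ <;> norm_num at hG ⊢ <;> rw [hG] at hdvd hlt <;>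
          rcases hh with hh | hh | hh <;> rw [hh] at hdvd hlt ⊢ <;> omega
      · have := Nat.mul_le_mul h16 (show 15 ≤ q - 1 by omega)
        rw [h1, one_mul]
        omega
    · have := Nat.mul_le_mul (show 13 ≤ q by omega) (show 12 ≤ q - 1 by omega)
      rw [h1]
      omega
  · rcases m with _ | _ | m
    · simp at hrm; omega
    · rw [zero_add, pow_one] at hrm
      subst hrm
      exfalso
      rcases hdd with ⟨h1, h2⟩ | ⟨h1, h2⟩
      · rcases hh with ⟨h3, -⟩ | hh
        · omega
        · rw [h1, one_mul] at hG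
          omega
      · rcases hh with ⟨-, hh⟩ | hh
        · rw [h1] at hG
          omega
        · rw [h1] at hG
          have := Nat.le_of_dvd (by omega) hdvd
          omega
    · have hr2 : r ^ 2 ≤ q := by
        rw [← hrm]
        exact Nat.pow_le_pow_right (by omega) (by omega)
      have h2 : d * h ≤ 2 * (r * (r ^ 2 - 1)) := by
        refine Nat.mul_le_mul (by omega) ?_
        rcases hh with ⟨-, hh⟩ | hh <;> omega
      calc d * h ≤ 2 * (r * (r ^ 2 - 1)) := h2
        _ ≤ r * (r * (r ^ 2 - 1)) := Nat.mul_le_mul_right _ (by omega)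
        _ = r ^ 2 * (r ^ 2 - 1) := by ring
        _ ≤ q * (q - 1) := Nat.mul_le_mul hr2 (by omega)

end Cfsg.Agent.S0806
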