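import Cfsg.Statements.S1070
import Cfsg.Agent.Lib.Chev.TwE6
import Cfsg.Agent.Lib.Chev.TwBNTools

set_option autoImplicit false
open Cfsg

namespace Cfsg.Agent.S1070

/-- ²E₆(q) is simple for every `q`. -/
theorem result {K : Type*} [Field K] [Fintype K] {q : ℕ} (hq : IsPrimePow q) (hK : Fintype.card K = q ^ 2) :
    IsSimpleGroup ↥(Cfsg.Lie.twistedE6 K q) ∧ ¬ IsMulCommutative ↥(Cfsg.Lie.twistedE6 K q) := by
  obtain ⟨f, h, e, hw, hd, hp, hwit⟩ := Cfsg.Lib.Chev.twistedE6_facts hq hK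
  rw [e]
  exact h.simple_of_perfect Cfsg.Lib.Chev.certE6C Cfsg.Lib.Chev.fullCertE6 Cfsg.Lib.Chev.twCombE6
    Cfsg.Lib.Chev.twLinkedE6 (by decide) (by decide) hwit hp

end Cfsg.Agent.S1070
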