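import Cfsg.Statements.S3779
import Cfsg.Agent.Lib.Lie.Kreknin
import Cfsg.Agent.Lib.Lie.LowerCentral
import Cfsg.Agent.Lib.Solv.FixedPointFree
import Cfsg.Agent.S0032
import Cfsg.Agent.S0033
-- import your own Cfsg.Agent.* helpers here

set_option autoImplicit false
open Cfsg

namespace Cfsg.Agent.S3779

open Subgroup Cfsg.Lib.Lie Polynomial
open scoped TensorProduct commutatorElement

universe u

/-- The cyclotomic ring. -/
abbrev CR (p : ℕ) : Type := AdjoinRoot (Polynomial.cyclotomic p ℤ)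

/-- A primitive root of unity in it. -/
noncomputable abbrev om (p : ℕ) : CR p := AdjoinRoot.root (Polynomial.cyclotomic p ℤ)

variable {p : ℕ} [hp : Fact p.Prime]

theorem sum_range_om : ∑ k ∈ Finset.range p, om p ^ k = 0 := by
  have h := AdjoinRoot.eval₂_root (Polynomial.cyclotomic p ℤ)
  have h' := congrArg (fun q => Polynomial.eval₂ (AdjoinRoot.of (Polynomial.cyclotomic p ℤ)) (om p) q)
    (Polynomial.cyclotomic_prime ℤ p)
  simp only [Polynomial.eval₂_finsetSum, Polynomial.eval₂_pow, Polynomial.eval₂_X] at h'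
  exact h'.symm.trans h

theorem om_pow : om p ^ p = 1 := by
  have h := geom_sum_mul (om p) p
  rw [sum_range_om, zero_mul] at h
  exact sub_eq_zero.1 h.symm

/-- The powers of the root of unity indexed by residues. -/
noncomputable def w (t : ZMod p) : CR p := om p ^ t.val

theorem w_add (s t : ZMod p) : w (s + t) = w s * w t := by
  rw [w, w, w, ← pow_add, ZMod.val_add, pow_eq_pow_mod (s.val + t.val) om_pow]

theorem w_zero : w (0 : ZMod p) = 1 := by rw [w, ZMod.val_zero, pow_zero]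

theorem sum_w : ∑ t : ZMod p, w t = 0 := by
  rw [← sum_range_om (p := p)]
  refine Finset.sum_bij (fun t _ => t.val) (fun t _ => Finset.mem_range.2 (ZMod.val_lt t))
    (fun a _ b _ h => ZMod.val_injective p h)
    (fun k hk => ⟨(k : ZMod p), Finset.mem_univ _, ZMod.val_cast_of_lt (Finset.mem_range.1 hk)⟩) fun _ _ => rfl

theorem sum_w_mul (i : ZMod p) : ∑ j : ZMod p, w (-(i * j)) = if i = 0 then (p : CR p) else 0 := by
  split_ifs with h
  · subst h
    simp [w_zero]
  · rw [← sum_w (p := p)]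
    exact Equiv.sum_comp (Equiv.ofBijective (fun j : ZMod p => -(i * j))
      (Finite.injective_iff_bijective.1 fun a b hab => mul_left_cancel₀ h (neg_injective hab))) w

section Main

variable {G : Type u} [Group G] [Finite G] {α : MulAut G} {c : ℕ}

/-- The action of a power of the automorphism. -/
noncomputable def mu (α : MulAut G) (c : ℕ) (i : ZMod p) : LCRing G c →+ LCRing G c :=
  lcMap c ((α ^ i.val : MulAut G) : G →* G)

theorem mu_cl (α : MulAut G) (i : ZMod p) {k : ℕ} {x : G} (hx : x ∈ lcs G k) :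
    mu α c i (cl c k x) = cl c k ((α ^ i.val) x) := lcMap_cl _ hx

theorem aut_mem (e : MulAut G) {k : ℕ} {x : G} (hx : x ∈ lcs G k) : e x ∈ lcs G k :=
  map_lcs_le (e : G →* G) k ⟨x, hx, rfl⟩

theorem mu_mu (hα : α ^ p = 1) (i j : ZMod p) (a : LCRing G c) : mu α c i (mu α c j a) = mu α c (i + j) a := by
  induction a using cl_induction with
  | h0 => rw [map_zero, map_zero, map_zero]
  | hadd a b ha hb => rw [map_add, map_add, map_add, ha, hb]
  | hcl k x hx =>
    rw [mu_cl α j hx, mu_cl α i (aut_mem _ hx), mu_cl α (i + j) hx, ZMod.val_add,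
      ← pow_eq_pow_mod (i.val + j.val) hα, pow_add, MulAut.mul_apply]

theorem mu_zero (a : LCRing G c) : mu (p := p) α c 0 a = a := by
  induction a using cl_induction with
  | h0 => rw [map_zero]
  | hadd a b ha hb => rw [map_add, ha, hb]
  | hcl k x hx => rw [mu_cl α 0 hx, ZMod.val_zero, pow_zero, MulAut.one_apply]

theorem eq_zero_of_mu_one (hfpf : ∀ g : G, α g = g → g = 1) {a : LCRing G c}
    (h : mu (p := p) α c 1 a = a) : a = 0 := by
  refine LCRing.ext fun k => ?_
  have hk := congrFun h k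
  rw [← gr_rep a k]
  refine (gr_eq_zero_iff _ _).2 ?_
  have hf : MonoidHom.FixedPointFree (α : G →* G) := fun g hg => hfpf g hg
  have hN : ∀ n ∈ lcs G ((k : ℕ) + 1), α n ∈ lcs G ((k : ℕ) + 1) :=
    fun n hn => map_lcs_le (α : G →* G) _ ⟨n, hn, rfl⟩
  have he : gr (k : ℕ) ((α ^ (1 : ZMod p).val) (rep a k)) (aut_mem _ (rep_mem a k)) =
      gr (k : ℕ) (rep a k) (rep_mem a k) := by rw [gr_rep]; exact hk
  rw [gr_eq_iff] at he
  rw [ZMod.val_one, pow_one] at he
  exact Cfsg.Agent.S0032.result α hf _ hN _ he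

/-- The extended automorphism. -/
noncomputable def ext (α : MulAut G) (c : ℕ) : CR p ⊗[ℤ] LCRing G c →ₗ[CR p] CR p ⊗[ℤ] LCRing G c :=
  (mu (p := p) α c 1).toIntLinearMap.baseChange (CR p)

theorem ext_tmul (r : CR p) (a : LCRing G c) : ext α c (r ⊗ₜ[ℤ] a) = r ⊗ₜ[ℤ] mu (p := p) α c 1 a := rfl

theorem t_lie_zero (x : CR p ⊗[ℤ] LCRing G c) : ⁅x, (0 : CR p ⊗[ℤ] LCRing G c)⁆ = 0 :=
  lie_zero (L := CR p ⊗[ℤ] LCRing G c) (M := CR p ⊗[ℤ] LCRing G c) x

theorem t_lie_add (x y z : CR p ⊗[ℤ] LCRing G c) : ⁅x, y + z⁆ = ⁅x, y⁆ + ⁅x, z⁆ :=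
  lie_add (L := CR p ⊗[ℤ] LCRing G c) (M := CR p ⊗[ℤ] LCRing G c) x y z

theorem t_smul_lie_smul (r s : CR p) (x y : CR p ⊗[ℤ] LCRing G c) : ⁅r • x, s • y⁆ = (r * s) • ⁅x, y⁆ :=
  ((smul_lie (L := CR p ⊗[ℤ] LCRing G c) (M := CR p ⊗[ℤ] LCRing G c) r x (s • y)).trans
    (congrArg (r • ·) (lie_smul (L := CR p ⊗[ℤ] LCRing G c) (M := CR p ⊗[ℤ] LCRing G c) s x y))).trans
    (smul_smul r s _)

theorem t_lie_nsmul (n : ℕ) (x y : CR p ⊗[ℤ] LCRing G c) : n • ⁅x, y⁆ = ⁅x, n • y⁆ :=
  (lie_nsmul (L := CR p ⊗[ℤ] LCRing G c) (M := CR p ⊗[ℤ] LCRing G c) x y n).symm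

theorem t_lie_sum {ι : Type*} (a : CR p ⊗[ℤ] LCRing G c) (s : Finset ι) (f : ι → CR p ⊗[ℤ] LCRing G c) :
    ⁅a, ∑ i ∈ s, f i⁆ = ∑ i ∈ s, ⁅a, f i⁆ :=
  map_sum (AddMonoidHom.mk' (fun z => ⁅a, z⁆) (t_lie_add a)) f s

theorem ext_lie (α : MulAut G) (x y : CR p ⊗[ℤ] LCRing G c) : ext α c ⁅x, y⁆ = ⁅ext α c x, ext α c y⁆ := by
  induction x using TensorProduct.induction_on with
  | zero => rw [zero_lie, map_zero, zero_lie]
  | add a b ha hb => rw [add_lie, map_add, map_add, add_lie, ha, hb]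
  | tmul r a =>
    induction y using TensorProduct.induction_on with
    | zero => rw [t_lie_zero, map_zero, t_lie_zero]
    | add b d hb hd => rw [t_lie_add, map_add, map_add, t_lie_add, hb, hd]
    | tmul s b =>
      rw [LieAlgebra.ExtendScalars.bracket_tmul, ext_tmul, ext_tmul, ext_tmul,
        LieAlgebra.ExtendScalars.bracket_tmul]
      exact congrArg _ (lcMap_lie _ a b)

/-- The eigencomponents. -/
noncomputable def eig (α : MulAut G) (c : ℕ) (j : ZMod p) : AddSubgroup (CR p ⊗[ℤ] LCRing G c) :=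
  (LinearMap.ker (ext α c - w j • LinearMap.id)).toAddSubgroup

theorem mem_eig {j : ZMod p} {v : CR p ⊗[ℤ] LCRing G c} : v ∈ eig α c j ↔ ext α c v = w j • v := by
  rw [eig, Submodule.mem_toAddSubgroup, LinearMap.mem_ker, LinearMap.sub_apply, sub_eq_zero]
  rfl

theorem eig_fpf (hfpf : ∀ g : G, α g = g → g = 1) : IsFpfGrading (eig (p := p) α c) where
  zero := by
    rw [eq_bot_iff]
    intro v hv
    rw [mem_eig, w_zero, one_smul] at hv
    rw [AddSubgroup.mem_bot]
    let e := TensorProduct.equivFinsuppOfBasisLeft (N := LCRing G c)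
      (AdjoinRoot.powerBasis' (Polynomial.cyclotomic.monic p ℤ)).basis
    have hcomm : ∀ (x : CR p ⊗[ℤ] LCRing G c) i, e (ext α c x) i = mu (p := p) α c 1 (e x i) := by
      intro x i
      induction x using TensorProduct.induction_on with
      | zero => simp
      | add a b ha hb => simp [map_add, ha, hb]
      | tmul r a =>
        rw [ext_tmul]
        simp only [e, TensorProduct.equivFinsuppOfBasisLeft_apply_tmul_apply]
        rw [map_zsmul]
    refine e.injective (Finsupp.ext fun i => ?_)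
    rw [map_zero, Finsupp.zero_apply]
    refine eq_zero_of_mu_one (p := p) hfpf ?_
    rw [← hcomm, hv]
  mul i j x y hx hy := by
    rw [mem_eig] at hx hy ⊢
    rw [ext_lie, hx, hy]
    rw [t_smul_lie_smul, w_add]

/-- The eigencomponent of an element. -/
noncomputable def comp' (α : MulAut G) (a : LCRing G c) (j : ZMod p) : CR p ⊗[ℤ] LCRing G c :=
  ∑ i : ZMod p, w (-(i * j)) ⊗ₜ[ℤ] mu α c i a

theorem comp'_mem (hα : α ^ p = 1) (a : LCRing G c) (j : ZMod p) : comp' α a j ∈ eig α c j := by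
  rw [mem_eig, comp', map_sum, Finset.smul_sum]
  refine Finset.sum_equiv (Equiv.addLeft (1 : ZMod p)) (fun _ => by simp) fun i _ => ?_
  rw [ext_tmul, mu_mu hα, TensorProduct.smul_tmul', smul_eq_mul, ← w_add]
  congr 2
  show -(i * j) = j + -((1 + i) * j)
  ring

theorem sum_comp' (a : LCRing G c) :
    ∑ j : ZMod p, comp' α a j = p • ((1 : CR p) ⊗ₜ[ℤ] a) := by
  simp only [comp']
  rw [Finset.sum_comm]
  simp only [← TensorProduct.sum_tmul, sum_w_mul]
  rw [Finset.sum_eq_single (0 : ZMod p) (fun i _ hi => by rw [if_neg hi, TensorProduct.zero_tmul]) (by simp),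
    if_pos rfl, mu_zero, TensorProduct.smul_tmul', nsmul_one]

theorem chain_smul {L : Type*} [LieRing L] (m : ℕ) (u : L) (l : List (ZMod p × L)) :
    chain (m • u) l = m • chain u l := by
  induction l generalizing u with
  | nil => rfl
  | cons q l ih => rw [chain_cons, chain_cons, nsmul_lie, ih]

theorem chain_sum {L : Type*} [LieRing L] {ι : Type*} (s : Finset ι) (u : ι → L) (l : List (ZMod p × L)) :
    chain (∑ i ∈ s, u i) l = ∑ i ∈ s, chain (u i) l := by
  induction l generalizing u with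
  | nil => rfl
  | cons q l ih =>
    rw [chain_cons, sum_lie, ih]
    exact Finset.sum_congr rfl fun i _ => (chain_cons _ _ _).symm

theorem fold_add {L : Type*} [LieRing L] {β : Type*} (g : β → L) (l : List β) (a b : L) :
    l.foldl (fun v y => ⁅v, g y⁆) (a + b) = l.foldl (fun v y => ⁅v, g y⁆) a + l.foldl (fun v y => ⁅v, g y⁆) b := by
  induction l generalizing a b with
  | nil => rfl
  | cons z zs ih => rw [List.foldl_cons, List.foldl_cons, List.foldl_cons, add_lie, ih]

/-- Iterated brackets in the lower central ring. -/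
noncomputable def iter (x : G) (xs : List G) : LCRing G c := xs.foldl (fun v y => ⁅v, cl c 0 y⁆) (cl c 0 x)

theorem iter_eq_zero (hα : α ^ p = 1) (hfpf : ∀ g : G, α g = g → g = 1) (hpG : ¬ p ∣ Nat.card G) {f : ℕ}
    (H : ∀ {L : Type u} [LieRing L] (A : ZMod p → AddSubgroup L), IsFpfGrading A → ∀ (i : ZMod p) (u : L)
      (l : List (ZMod p × L)), u ∈ A i → (∀ q ∈ l, q.2 ∈ A q.1) → f ≤ l.length → chain u l = 0)
    (x : G) (xs : List G) (hlen : f ≤ xs.length) : (iter x xs : LCRing G c) = 0 := by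
  have hA := eig_fpf (p := p) (c := c) hfpf
  have key : ∀ (ys : List G) (i : ZMod p) (u : CR p ⊗[ℤ] LCRing G c) (m : List (ZMod p × CR p ⊗[ℤ] LCRing G c)),
      u ∈ eig α c i → (∀ q ∈ m, q.2 ∈ eig α c q.1) → f ≤ m.length + ys.length →
      p ^ ys.length • (ys.foldl (fun v y => ⁅v, (1 : CR p) ⊗ₜ[ℤ] cl c 0 y⁆) (chain u m)) = 0 := by
    intro ys
    induction ys with
    | nil =>
      intro i u m hu hm hl
      rw [List.foldl_nil, H _ hA i u m hu hm (by simpa using hl), smul_zero]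
    | cons y ys ih =>
      intro i u m hu hm hl
      rw [List.foldl_cons, List.length_cons, pow_succ, mul_comm, ← smul_smul]
      set F := fun v : CR p ⊗[ℤ] LCRing G c =>
        ys.foldl (fun v y => ⁅v, (1 : CR p) ⊗ₜ[ℤ] cl c 0 y⁆) v with hF
      have hadd : ∀ a b, F (a + b) = F a + F b := fun a b => fold_add _ ys a b
      let F' := AddMonoidHom.mk' F hadd
      show p • p ^ ys.length • F' ⁅chain u m, (1 : CR p) ⊗ₜ[ℤ] cl c 0 y⁆ = 0
      rw [smul_comm, ← map_nsmul]
      rw [t_lie_nsmul]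
      rw [← sum_comp' (α := α), t_lie_sum, map_sum, Finset.smul_sum]
      refine Finset.sum_eq_zero fun j _ => ?_
      have h1 := ih i u (m ++ [(j, comp' α (cl c 0 y) j)]) hu (fun q hq => by
        rcases List.mem_append.1 hq with hq | hq
        · exact hm q hq
        · rw [List.mem_singleton.1 hq]; exact comp'_mem hα _ j) (by simp at hl ⊢; omega)
      rw [chain_append] at h1
      exact h1
  have hz : p • (p ^ xs.length • ((1 : CR p) ⊗ₜ[ℤ] (iter x xs : LCRing G c))) = 0 := by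
    have h1 : (1 : CR p) ⊗ₜ[ℤ] (iter x xs : LCRing G c) =
        xs.foldl (fun v y => ⁅v, (1 : CR p) ⊗ₜ[ℤ] cl c 0 y⁆) ((1 : CR p) ⊗ₜ[ℤ] cl c 0 x) := by
      unfold iter
      clear hlen key
      generalize cl c 0 x = a
      induction xs generalizing a with
      | nil => rfl
      | cons y ys ih => rw [List.foldl_cons, List.foldl_cons, ih, LieAlgebra.ExtendScalars.bracket_tmul, one_mul]
    let F' := AddMonoidHom.mk'
      (fun a : CR p ⊗[ℤ] LCRing G c => xs.foldl (fun v y => ⁅v, (1 : CR p) ⊗ₜ[ℤ] cl c 0 y⁆) a)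
      (fun a b => fold_add _ xs a b)
    rw [h1]
    show p • p ^ xs.length • F' ((1 : CR p) ⊗ₜ[ℤ] cl c 0 x) = 0
    rw [smul_comm, ← map_nsmul, ← sum_comp' (α := α), map_sum, Finset.smul_sum]
    exact Finset.sum_eq_zero fun j _ => key xs j _ [] (comp'_mem hα _ j) (by simp) (by simpa using hlen)
  rw [smul_smul, TensorProduct.smul_tmul', TensorProduct.smul_tmul] at hz
  let pb := AdjoinRoot.powerBasis' (Polynomial.cyclotomic.monic p ℤ)
  let e := TensorProduct.equivFinsuppOfBasisLeft (N := LCRing G c) pb.basis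
  have hd : 0 < pb.dim := by
    simp only [pb, AdjoinRoot.powerBasis'_dim, Polynomial.natDegree_cyclotomic]
    exact Nat.totient_pos.2 hp.out.pos
  have h2 := congrArg (fun v => e v ⟨0, hd⟩) hz
  simp only [e, TensorProduct.equivFinsuppOfBasisLeft_apply_tmul_apply, map_zero, Finsupp.zero_apply] at h2
  have h3 : pb.basis.repr 1 ⟨0, hd⟩ = 1 := by
    have : (1 : CR p) = pb.basis ⟨0, hd⟩ := by rw [pb.basis_eq_pow, pow_zero]
    rw [this, Module.Basis.repr_self, Finsupp.single_eq_same]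
  rw [h3, one_smul] at h2
  set N := p * p ^ xs.length
  have hN : N.Coprime (Nat.card G) :=
    Nat.Coprime.mul_left (hp.out.coprime_iff_not_dvd.2 hpG) ((hp.out.coprime_iff_not_dvd.2 hpG).pow_left _)
  refine LCRing.ext fun k => ?_
  obtain ⟨g, hg, he⟩ := exists_gr (k : ℕ) ((iter x xs : LCRing G c) k)
  have h4 : N • gr (k : ℕ) g hg = 0 := by rw [he]; exact congrFun h2 k
  have h5 : Nat.card G • gr (k : ℕ) g hg = 0 := by
    have : ∀ m : ℕ, m • gr (k : ℕ) g hg = gr (k : ℕ) (g ^ m) (pow_mem hg m) := fun m => by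
      induction m with
      | zero => rw [zero_smul]; exact ((gr_eq_zero_iff _ _).2 (by rw [pow_zero]; exact one_mem _)).symm
      | succ m ih => rw [succ_nsmul, ih, ← gr_mul]; exact gr_congr _ _ _ (pow_succ g m).symm
    rw [this, gr_eq_zero_iff, pow_card_eq_one']
    exact one_mem _
  rw [← he]
  show gr (k : ℕ) g hg = 0
  have h6 : Nat.gcd N (Nat.card G) • gr (k : ℕ) g hg = 0 := by
    rw [← addOrderOf_dvd_iff_nsmul_eq_zero] at h4 h5 ⊢
    exact Nat.dvd_gcd h4 h5
  rwa [hN, one_smul] at h6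

theorem lcs_le_succ (hα : α ^ p = 1) (hfpf : ∀ g : G, α g = g → g = 1) (hpG : ¬ p ∣ Nat.card G) {f : ℕ}
    (H : ∀ {L : Type u} [LieRing L] (A : ZMod p → AddSubgroup L), IsFpfGrading A → ∀ (i : ZMod p) (u : L)
      (l : List (ZMod p × L)), u ∈ A i → (∀ q ∈ l, q.2 ∈ A q.1) → f ≤ l.length → chain u l = 0) :
    lcs G f ≤ lcs G (f + 1) := by
  have key : ∀ k, ∀ y ∈ lcs G k, cl (f + 1) k y ∈
      AddSubgroup.closure {v : LCRing G (f + 1) | ∃ x xs, List.length xs = k ∧ v = iter x xs} := by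
    intro k
    induction k with
    | zero => intro y _; exact AddSubgroup.subset_closure ⟨y, [], rfl, rfl⟩
    | succ k ih =>
      intro y hy
      have hy' := (Subgroup.mem_lowerCentralSeries_succ_iff (⊤ : Subgroup G) k y).1 hy
      have hle : Subgroup.closure { x | ∃ a ∈ lcs G k, ∃ b ∈ (⊤ : Subgroup G), ⁅a, b⁆ = x } ≤ lcs G (k + 1) :=
        fun z hz => (Subgroup.mem_lowerCentralSeries_succ_iff (⊤ : Subgroup G) k z).2 hz
      induction hy' using Subgroup.closure_induction with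
      | mem z hz =>
        obtain ⟨a, ha, b, -, rfl⟩ := hz
        rw [show k + 1 = k + 0 + 1 from rfl, ← lc_bracket_cl (c := f + 1) (j := 0) (y := b) ha (Subgroup.mem_top b)]
        refine bracket_mem_of_closure (T := {cl (f + 1) 0 b}) ?_ (ih a ha) (AddSubgroup.subset_closure rfl)
        rintro _ ⟨x, xs, hl, rfl⟩ _ rfl
        refine AddSubgroup.subset_closure ⟨x, xs ++ [b], by simp [hl], ?_⟩
        unfold iter
        rw [List.foldl_append]
        rfl
      | one => rw [cl_one]; exact zero_mem _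
      | mul a b ha hb iha ihb => rw [cl_mul _ (hle ha) (hle hb)]; exact add_mem (iha (hle ha)) (ihb (hle hb))
      | inv a ha iha => rw [cl_inv _ (hle ha)]; exact neg_mem (iha (hle ha))
  intro y hy
  have h1 := key f y hy
  have h2 : AddSubgroup.closure {v : LCRing G (f + 1) | ∃ x xs, List.length xs = f ∧ v = iter x xs} = ⊥ := by
    rw [AddSubgroup.closure_eq_bot_iff]
    rintro _ ⟨x, xs, hl, rfl⟩
    exact iter_eq_zero hα hfpf hpG H x xs hl.ge
  rw [h2, AddSubgroup.mem_bot] at h1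
  have h3 := congrFun h1 ⟨f, Nat.lt_succ_self f⟩
  rw [cl_apply f hy, dif_pos rfl] at h3
  exact (gr_eq_zero_iff f hy).1 h3

theorem lcs_eq_bot (hord : orderOf α = p) (hfpf : ∀ g : G, α g = g → g = 1) {f : ℕ}
    (H : ∀ {L : Type u} [LieRing L] (A : ZMod p → AddSubgroup L), IsFpfGrading A → ∀ (i : ZMod p) (u : L)
      (l : List (ZMod p × L)), u ∈ A i → (∀ q ∈ l, q.2 ∈ A q.1) → f ≤ l.length → chain u l = 0) :
    lcs G f = ⊥ := by
  have hf : MonoidHom.FixedPointFree (α : G →* G) := fun g hg => hfpf g hg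
  have := Cfsg.Agent.S0033.result α hf p hp.out hord
  have hpG : ¬ p ∣ Nat.card G := by
    have hc := Cfsg.Lib.Solv.coprime_of_fpf_hom (Subgroup.zpowers α).subtype (fun b hb v hv => by
      obtain ⟨i, hi⟩ := Subgroup.mem_zpowers_iff.1 b.2
      refine hfpf v ?_
      have hne : ¬ (p : ℤ) ∣ i := fun hd => hb (Subtype.ext (by
        rw [← hi, ← hord] at *
        exact orderOf_dvd_iff_zpow_eq_one.1 hd))
      obtain ⟨a, b', hab⟩ := ((Nat.prime_iff_prime_int.1 hp.out).coprime_iff_not_dvd.2 hne)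
      have hv' : (b : MulAut G) v = v := hv
      have h1 : α = (α ^ i) ^ b' := by
        rw [← zpow_mul]
        nth_rewrite 1 [← zpow_one α]
        rw [zpow_eq_zpow_iff_modEq, hord, Int.modEq_iff_dvd]
        exact ⟨-a, by linear_combination hab⟩
      rw [h1, hi]
      have hs : (b : MulAut G) ∈ MulAction.stabilizer (MulAut G) v := hv'
      exact Subgroup.zpow_mem _ hs b')
    rw [Nat.card_zpowers, hord] at hc
    exact hp.out.coprime_iff_not_dvd.1 hc
  have hstep := lcs_le_succ (hord ▸ pow_orderOf_eq_one α) hfpf hpG H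
  have hall : ∀ k, lcs G f ≤ lcs G (f + k) := by
    intro k
    induction k with
    | zero => exact le_rfl
    | succ k ih =>
      refine hstep.trans ?_
      exact Subgroup.commutator_mono ih le_rfl
  obtain ⟨n, hn⟩ := Subgroup.nilpotent_iff_lowerCentralSeries.1 this
  exact le_bot_iff.1 ((hall n).trans ((lcs_anti (Nat.le_add_left n f)).trans hn.le))

end Main

/-- Let G be a finite group with an automorphism of prime order p fixing only the identity. Then G is nilpotent; if p = 2 then G is abelian, if p = 3 then G has class at most 2, and in general the class of G is at most ξ = 1 + (p−1) + (p−1)² + ⋯ + (p−1)^(n−1) with n = 2^(p−1) − 1 (the Higman–Kreknin–Kostrikin bound). -/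
theorem result {G : Type*} [Group G] [Finite G] {p : ℕ} (hp : p.Prime) (α : MulAut G) (hα : orderOf α = p) (hfpf : ∀ g : G, α g = g → g = 1) : (p = 2 → (⊤ : Subgroup G).lowerCentralSeries 1 = ⊥) ∧ (p = 3 → (⊤ : Subgroup G).lowerCentralSeries 2 = ⊥) ∧ (⊤ : Subgroup G).lowerCentralSeries (Finset.sum (Finset.range (2 ^ (p - 1) - 1)) (fun i => (p - 1) ^ i)) = ⊥ := by
  haveI := Fact.mk hp
  have hgen : lcs G (Finset.sum (Finset.range (2 ^ (p - 1) - 1)) (fun i => (p - 1) ^ i)) = ⊥ :=
    lcs_eq_bot hα hfpf fun {L} _ A hA i u l hu hl hlen => Cfsg.Lib.Lie.chain_eq_zero hA hu hl hlen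
  refine ⟨fun h2 => ?_, fun h3 => ?_, hgen⟩
  · subst h2
    simpa using hgen
  · subst h3
    refine lcs_eq_bot hα hfpf fun {L} _ A hA i u l hu hl hlen => ?_
    match l, hlen with
    | a :: b :: rest, _ =>
      rw [Cfsg.Lib.Lie.chain_cons, Cfsg.Lib.Lie.chain_cons,
        Cfsg.Lib.Lie.bracket_bracket_eq_zero_three hA hu (hl a (by simp)) (hl b (by simp))]
      have : ∀ m : List (ZMod 3 × L), Cfsg.Lib.Lie.chain (0 : L) m = 0 := fun m => by
        induction m with
        | nil => rfl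
        | cons r m ih => rw [Cfsg.Lib.Lie.chain_cons, zero_lie, ih]
      exact this rest

end Cfsg.Agent.S3779
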