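import Cfsg.Statements.S0206
import Cfsg.Agent.Lib.Invol.Basic
-- import your own Cfsg.Agent.* helpers here

set_option autoImplicit false
open Cfsg

namespace Cfsg.Agent.S0206

/-- Two distinct involutions x, y of a finite group generate a subgroup isomorphic to the dihedral group of order 2·|xy|. -/
theorem result {G : Type*} [Group G] [Finite G] (x y : G) (hx : orderOf x = 2) (hy : orderOf y = 2) (hxy : x ≠ y) : Nonempty (↥(Subgroup.closure ({x, y} : Set G)) ≃* DihedralGroup (orderOf (x * y))) := by
  let f := Cfsg.Lib.Invol.dihedralHom (orderOf (x * y)) (pow_orderOf_eq_one _)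
    (Cfsg.Lib.Invol.inv_mul_self hx) (Cfsg.Lib.Invol.conj_mul_left hx hy)
  have hf : Function.Injective f := Cfsg.Lib.Invol.dihedralHom_injective
    (Cfsg.Lib.Invol.inv_mul_self hx) (Cfsg.Lib.Invol.conj_mul_left hx hy)
    (Cfsg.Lib.Invol.notMem_zpowers hx hy hxy)
  exact ⟨((MulEquiv.subgroupCongr (Cfsg.Lib.Invol.dihedralHom_range hx hy)).symm).trans
    (MonoidHom.ofInjective hf).symm⟩

end Cfsg.Agent.S0206
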