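import Cfsg.Statements.S5388
import Cfsg.Agent.Lib.CoOne.OctadFitting

set_option autoImplicit false
open Cfsg

namespace Cfsg.Agent.S5388

open Cfsg.Lib.Concrete Cfsg.Lib.CoOne
open scoped Pointwise symmDiff

theorem fitting_eq : Cfsg.generalizedFittingSubgroup ↥cZ = qZ := by
  haveI : Fact (Nat.Prime 2) := ⟨Nat.prime_two⟩
  haveI : Finite Co0 := Nat.finite_of_card_ne_zero (by rw [card_Co0]; norm_num)
  have hQ : qZ ≤ Cfsg.pCore 2 ↥cZ := Cfsg.Lib.Core.le_pCore (IsPGroup.of_card card_qZ)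
  have hC : Subgroup.centralizer (Cfsg.pCore 2 ↥cZ : Set ↥cZ) ≤ Cfsg.pCore 2 ↥cZ :=
    ((Subgroup.centralizer_le hQ).trans centralizer_qZ).trans hQ
  rw [Cfsg.Lib.Core.generalizedFitting_eq_pCore_iff.2 hC]
  refine le_antisymm ?_ hQ
  haveI : IsSimpleGroup ↥toOZ.range := by
    haveI := isSimple_omega
    exact (MulEquiv.subgroupCongr range_toOZ).isSimpleGroup
  haveI hn : ((Cfsg.pCore 2 ↥cZ).map toOZ.rangeRestrict).Normal :=
    Subgroup.Normal.map inferInstance _ toOZ.rangeRestrict_surjective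
  rcases hn.eq_bot_or_eq_top with hb | ht
  · intro x hx
    have : toOZ.rangeRestrict x ∈ (Cfsg.pCore 2 ↥cZ).map toOZ.rangeRestrict := ⟨x, hx, rfl⟩
    rw [hb, Subgroup.mem_bot] at this
    exact congrArg Subtype.val this
  · exfalso
    obtain ⟨k, hk⟩ := ((Cfsg.Lib.Core.pCore_isPGroup 2 ↥cZ).map toOZ.rangeRestrict).exists_card_eq
    rw [ht, Subgroup.card_top, range_toOZ, card_omega] at hk
    exact absurd (Nat.prime_three.dvd_of_dvd_pow (hk ▸ (by norm_num : 3 ∣ 174182400))) (by norm_num)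

theorem out_octad : (Cfsg.Lib.CoOne.outList.any fun m => Nat.beq (pcnt m) 8) = true := by decide +kernel

theorem exists_conjugate : ∃ g : Spor.Co1, (∃ hq : g * zEl * g⁻¹ ∈ cZ, (⟨g * zEl * g⁻¹, hq⟩ : ↥cZ) ∈ qZ) ∧
    g * zEl * g⁻¹ ≠ zEl := by
  obtain ⟨m, hm, h8⟩ := List.any_eq_true.1 out_octad
  obtain ⟨k, hk, e0⟩ := List.getElem_of_mem hm
  have hk32 : k < 32 := lt_of_lt_of_le hk (show Cfsg.Lib.CoOne.outList.length ≤ 32 by decide +kernel)
  have e : oW ⟨k, hk32⟩ = m := by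
    show Cfsg.Lib.CoOne.outList.getD k 0 = m
    rw [List.getD_eq_getElem?_getD, List.getElem?_eq_getElem hk, Option.getD_some, e0]
  set j : Fin 32 := ⟨k, hk32⟩
  have hoct : mset (oW j) ∈ octads := ⟨oW_code j, by rw [mset_card, mcnt_eq_pcnt, e, Nat.eq_of_beq_eq_true h8]⟩
  obtain ⟨σ, hσ, hσo⟩ := M24_octad_transitive oSet_octad hoct
  refine ⟨kq σ hσ ∅ empty_mem_codeSets, ?_, ?_⟩ <;>
    have hconj : kq σ hσ ∅ empty_mem_codeSets * zEl * (kq σ hσ ∅ empty_mem_codeSets)⁻¹ =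
        kq 1 (one_mem _) (mset (oW j)) (oW_code j) := by
      rw [mul_inv_eq_iff_eq_mul, show zEl = kq 1 (one_mem _) oSet oSet_mem from rfl, kq_mul, kq_mul]
      refine kq_congr _ _ _ _ (by rw [one_mul, mul_one]) ?_
      rw [← Finset.bot_eq_empty, bot_symmDiff, hσo, one_smul, symmDiff_bot]
  · obtain ⟨i, hi⟩ : ∃ i, fx i = 1 := exists_fx (one_mem _)
    obtain ⟨h, hq⟩ := kE_mem i j
    have e' : kE i j = kq σ hσ ∅ empty_mem_codeSets * zEl * (kq σ hσ ∅ empty_mem_codeSets)⁻¹ :=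
      (kq_congr _ _ _ _ hi rfl).trans hconj.symm
    have key : ∀ x, kE i j = x → ∃ hx : x ∈ cZ, (⟨x, hx⟩ : ↥cZ) ∈ qZ := by
      rintro x rfl
      exact ⟨h, hq⟩
    exact key _ e'
  · rw [hconj, zEl_eq]
    intro h
    have h2 := congrArg Finset.card (kq_inj _ _ _ _ (oW_out j none_mem) outMask_set.2.2 h).2
    rw [hoct.2] at h2
    revert h2
    decide +kernel


/-- The first Conway group, the automorphism group of the Leech lattice modulo its centre, satisfies the large extraspecial hypothesis of plus type in dimension 8: it has an involution z whose centralizer C has generalized Fitting subgroup Q extraspecial of order 2^9, with C/Q isomorphic to the commutator subgroup of the isometry group of the hyperbolic quadratic form in dimension 8 over the field with two elements, and some conjugate of z other than z lies in Q. -/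
theorem result : ∃ z : Cfsg.Spor.Co1, orderOf z = 2 ∧ ∃ (Q : Subgroup (Subgroup.centralizer ({z} : Set Cfsg.Spor.Co1))) (_ : Q.Normal), Cfsg.generalizedFittingSubgroup (Subgroup.centralizer ({z} : Set Cfsg.Spor.Co1)) = Q ∧ Cfsg.IsExtraspecial 2 Q ∧ Nat.card Q = 2 ^ 9 ∧ Nonempty ((Subgroup.centralizer ({z} : Set Cfsg.Spor.Co1)) ⧸ Q ≃* Cfsg.Omega (ZMod 2) (Cfsg.quadFormPlus 4 (ZMod 2))) ∧ ∃ g : Cfsg.Spor.Co1, (∃ hq : g * z * g⁻¹ ∈ Subgroup.centralizer ({z} : Set Cfsg.Spor.Co1), (⟨g * z * g⁻¹, hq⟩ : Subgroup.centralizer ({z} : Set Cfsg.Spor.Co1)) ∈ Q) ∧ g * z * g⁻¹ ≠ z := by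
  refine ⟨zEl, orderOf_eq_prime (by rw [pow_two]; exact zEl_sq) zEl_ne, qZ, inferInstance, fitting_eq,
    isExtraspecial_qZ, card_qZ, ⟨quotEquiv⟩, exists_conjugate⟩

end Cfsg.Agent.S5388
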