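import Cfsg.Statements.S5378
import Cfsg.Agent.Lib.Extra.Wide.Numbers
-- import your own Cfsg.Agent.* helpers here

set_option autoImplicit false
open Cfsg

namespace Cfsg.Agent.S5378

/-- Let G be a finite group of Conway type: it has an involution z whose centralizer C has generalized Fitting subgroup Q extraspecial of order 2^9 with C/Q isomorphic to the commutator subgroup of the isometry group of the hyperbolic quadratic form in dimension 8 over the field with two elements, and some conjugate of z other than z lies in Q. Then G has exactly three conjugacy classes of involutions. -/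
theorem result {G : Type*} [Group G] [Finite G] (z : G) (hz : orderOf z = 2) (Q : Subgroup (Subgroup.centralizer ({z} : Set G))) [Q.Normal] (hF : Cfsg.generalizedFittingSubgroup (Subgroup.centralizer ({z} : Set G)) = Q) (hQ : Cfsg.IsExtraspecial 2 Q) (hcard : Nat.card Q = 2 ^ 9) (e : (Subgroup.centralizer ({z} : Set G)) ⧸ Q ≃* Cfsg.Omega (ZMod 2) (Cfsg.quadFormPlus 4 (ZMod 2))) (hnwc : ∃ g : G, (∃ hq : g * z * g⁻¹ ∈ Subgroup.centralizer ({z} : Set G), (⟨g * z * g⁻¹, hq⟩ : Subgroup.centralizer ({z} : Set G)) ∈ Q) ∧ g * z * g⁻¹ ≠ z) : ∃ a b c : G, orderOf a = 2 ∧ orderOf b = 2 ∧ orderOf c = 2 ∧ ¬ IsConj a b ∧ ¬ IsConj a c ∧ ¬ IsConj b c ∧ ∀ x : G, orderOf x = 2 → IsConj x a ∨ IsConj x b ∨ IsConj x c := by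
  classical
  haveI : Fact (Nat.Prime 2) := ⟨Nat.prime_two⟩
  obtain ⟨Bm, Sm⟩ := Cfsg.Lib.Linear.Orth.exists_space_minus (F := ZMod 2) 3 1 1
    Cfsg.Lib.Extra.Wide.aniso_two
  obtain ⟨Bp, Sp⟩ := Cfsg.Lib.Linear.Orth.exists_space_plus (F := ZMod 2) 4
  have hΩ := Cfsg.Lib.Extra.Wide.two_mul_card_omega Sp (by simp)
  rw [Cfsg.Lib.Extra.Wide.card_plus_eight] at hΩ
  rcases Cfsg.Lib.Extra.model_cases hQ 3 (by rw [hcard]) with ⟨⟨f⟩⟩ | ⟨⟨f⟩⟩
  · obtain ⟨D, hD⟩ := (Cfsg.Lib.Extra.Wide.exists_data z hz Q hF hQ (Cfsg.Lib.Extra.pairForm_nondeg _)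
      (Cfsg.Lib.Extra.plusCoords 4) (Cfsg.Lib.Extra.plus_form 4) Sp (by simp) (by simp; decide)
      f e hnwc).2 rfl
    exact D.three_classes (by simp) (by rw [hD]; exact Cfsg.Lib.Extra.Wide.half_plus_eight)
  · exfalso
    have h := (Cfsg.Lib.Extra.Wide.exists_data z hz Q hF hQ (Cfsg.Lib.Extra.pairForm_nondeg _)
      (Cfsg.Lib.Extra.minusCoords 3) (Cfsg.Lib.Extra.minus_form 3) Sm (by simp) (by simp; decide)
      f e hnwc).1
    rw [Cfsg.Lib.Extra.Wide.card_minus_eight] at h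
    rw [show Nat.card ↥(Cfsg.Omega (ZMod 2) (Cfsg.quadFormPlus 4 (ZMod 2))) = 174182400 by omega] at h
    norm_num at h

end Cfsg.Agent.S5378
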