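import Cfsg.Statements.S0223
import Cfsg.Agent.Lib.Invol.Embedded
-- import your own Cfsg.Agent.* helpers here

set_option autoImplicit false
open Cfsg

namespace Cfsg.Agent.S0223

/-- Let H be a proper subgroup of even order of the finite group G. Then H is strongly embedded if and only if (i) C_G(t) ≤ H for every involution t of H and (ii) H controls fusion of its involutions: involutions of H conjugate in G are conjugate in H. -/
theorem result {G : Type*} [Group G] [Finite G] (H : Subgroup G) (hH : H ≠ ⊤) (heven : Even (Nat.card H)) : Cfsg.IsStronglyEmbedded H ↔ ((∀ t ∈ H, orderOf t = 2 → Subgroup.centralizer ({t} : Set G) ≤ H) ∧ (∀ t ∈ H, ∀ s ∈ H, orderOf t = 2 → orderOf s = 2 → IsConj t s → ∃ h ∈ H, h * t * h⁻¹ = s)) := by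
  rw [Cfsg.Lib.Invol.stronglyEmbedded_iff hH heven]
  constructor
  · intro h
    refine ⟨fun t ht ht2 c hc => h t ht ht2 c ?_, fun t ht s hs ht2 _ hts => ?_⟩
    · rw [Subgroup.mem_centralizer_singleton_iff] at hc
      rw [hc, mul_inv_cancel_right]; exact ht
    · obtain ⟨c, hc⟩ := isConj_iff.mp hts
      exact ⟨c, h t ht ht2 c (hc ▸ hs), hc⟩
  · rintro ⟨h1, h2⟩ t ht ht2 c hc
    obtain ⟨d, hd, hdt⟩ := h2 t ht _ hc ht2 (by rw [Cfsg.Lib.Invol.orderOf_conj_eq, ht2])
      (isConj_iff.mpr ⟨c, rfl⟩)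
    have h3 : d⁻¹ * c ∈ Subgroup.centralizer ({t} : Set G) := by
      rw [Subgroup.mem_centralizer_singleton_iff]
      calc d⁻¹ * c * t = d⁻¹ * (c * t * c⁻¹) * c := by group
        _ = t * (d⁻¹ * c) := by rw [← hdt]; group
    have := H.mul_mem hd (h1 t ht ht2 h3)
    rwa [mul_inv_cancel_left] at this

end Cfsg.Agent.S0223
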