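import Cfsg.Statements.S0581
import Cfsg.Agent.Lib.Solv.Schmidt

set_option autoImplicit false
open Pointwise
open Cfsg

namespace Cfsg.Agent.S0581

universe u

variable {G : Type u} [Group G] [Finite G]

theorem aux (H : Subgroup G) (hH : Group.IsNilpotent H) (hHall : (Nat.card H).Coprime H.index) :
    ∀ (n : ℕ) (K : Subgroup G), Nat.card K ≤ n →
      (∀ p : ℕ, p.Prime → p ∣ Nat.card K → p ∣ Nat.card H) → ∃ x : G, K ≤ MulAut.conj x • H := by
  classical
  intro n
  induction n with
  | zero => intro K h; exact absurd h (Nat.not_le.2 Nat.card_pos)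
  | succ n ih =>
    intro K hn hK
    by_cases hKb : K = ⊥
    · exact ⟨1, hKb ▸ bot_le⟩
    have hproper : ∀ L : Subgroup K, L ≠ ⊤ → ∃ x : G, L.map K.subtype ≤ MulAut.conj x • H := fun L hL => by
      have hc : Nat.card (L.map K.subtype) = Nat.card L := Cfsg.Lib.Core.card_map_subtype L
      refine ih _ (by have := Cfsg.Lib.Core.lt_card_of_ne_top hL; omega) fun p hp hd => hK p hp ?_
      exact (hc ▸ hd).trans L.card_subgroup_dvd_card
    have hnilc : ∀ x : G, Group.IsNilpotent ↥(MulAut.conj x • H) := fun x => by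
      rw [Cfsg.Lib.Core.conj_smul_eq_map]; exact Cfsg.Lib.Core.isNilpotent_map hH _
    have hprop' : ∀ L : Subgroup K, L ≠ ⊤ → Group.IsNilpotent L := fun L hL => by
      obtain ⟨x, hx⟩ := hproper L hL
      exact @Group.nilpotent_of_mulEquiv _ _ _ _ (Cfsg.Lib.Core.isNilpotent_of_le hx (hnilc x))
        (L.equivMapOfInjective K.subtype K.subtype_injective).symm
    obtain ⟨q, hq, hqd, Q, hQn⟩ : ∃ q : ℕ, q.Prime ∧ q ∣ Nat.card K ∧ ∃ Q : Sylow q K, (Q : Subgroup K).Normal := by
      haveI : Nontrivial K := (Subgroup.nontrivial_iff_ne_bot K).2 hKb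
      by_cases hnil : Group.IsNilpotent K
      · obtain ⟨q, hq, hqd⟩ := Nat.exists_prime_and_dvd (Finite.one_lt_card (α := K)).ne'
        exact ⟨q, hq, hqd, default,
          ((Group.isNilpotent_of_finite_tfae (G := K)).out 0 3 rfl rfl).mp hnil q ⟨hq⟩ default⟩
      · obtain ⟨p, q, hp, hq, -, P, Q, x, -, hQ, htop⟩ := Cfsg.Lib.Schmidt.structure_thm hnil hprop'
        haveI : Fact p.Prime := ⟨hp⟩
        haveI : Fact q.Prime := ⟨hq⟩
        refine ⟨q, hq, ?_, Q, hQ⟩
        by_contra hd
        refine hnil ?_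
        have hQb : (Q : Subgroup K) = ⊥ := by
          rw [← Subgroup.card_eq_one, Q.card_eq_multiplicity, Nat.factorization_eq_zero_of_not_dvd hd, pow_zero]
        rw [hQb, sup_bot_eq] at htop
        exact (P.2.of_equiv ((MulEquiv.subgroupCongr htop).trans Subgroup.topEquiv)).isNilpotent
    haveI : Fact q.Prime := ⟨hq⟩
    -- elements of coprime order commute in a conjugate of `H`
    obtain ⟨R, hR⟩ := Subgroup.exists_right_complement'_of_coprime (N := (Q : Subgroup K)) (by
      rw [Q.card_eq_multiplicity]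
      exact Nat.Coprime.pow_left _ ((hq.coprime_iff_not_dvd).2 Q.not_dvd_index))
    have hRne : R ≠ ⊤ := by
      intro ht
      have hi := hR.index_eq_card
      rw [ht, Subgroup.index_top] at hi
      rw [Q.card_eq_multiplicity] at hi
      exact absurd hi.symm (Nat.one_lt_pow (hq.factorization_pos_of_dvd Nat.card_pos.ne' hqd).ne' hq.one_lt).ne'
    have hRq : ¬ q ∣ Nat.card R := by rw [← hR.symm.index_eq_card]; exact Q.not_dvd_index
    set Q' := (Q : Subgroup K).map K.subtype
    set R' := R.map K.subtype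
    have hQ'q : IsPGroup q Q' := Q.2.map _
    have hKQR : K ≤ Q' ⊔ R' := by
      rw [← Subgroup.map_sup, hR.sup_eq_top, ← MonoidHom.range_eq_map, Subgroup.range_subtype]
    have hRq' : ¬ q ∣ Nat.card R' := by rw [Cfsg.Lib.Core.card_map_subtype]; exact hRq
    obtain ⟨x, hx⟩ := hproper R hRne
    set Hx := MulAut.conj x • H
    have hHxc : Nat.card Hx = Nat.card H := Nat.card_congr (Subgroup.equivSMul (MulAut.conj x) H).symm.toEquiv
    have hfull : ∀ (l : ℕ) [Fact l.Prime], l ∣ Nat.card H → ∀ {Y : Subgroup G}, Nat.card Y = Nat.card H →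
        ∀ P : Sylow l Y, ¬ l ∣ ((P : Subgroup Y).map Y.subtype).index := by
      intro l hl hld Y hY P hd
      rw [Subgroup.index_map_subtype] at hd
      rcases hl.out.dvd_mul.1 hd with h | h
      · exact P.not_dvd_index h
      · have h2 : Y.index = H.index := by
          have e1 := Y.card_mul_index
          have e2 := H.card_mul_index
          rw [hY, ← e2] at e1
          exact Nat.eq_of_mul_eq_mul_left Nat.card_pos e1
        exact hl.out.ne_one (Nat.eq_one_of_dvd_coprimes hHall hld (h2 ▸ h))
    have hqH := hK q hq hqd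
    -- a `q`-subgroup of a conjugate of `H` is centralised by the other Sylow subgroups
    have hcom : ∀ {Y : Subgroup G}, Group.IsNilpotent Y → ∀ {l : ℕ} [Fact l.Prime], l ≠ q →
        ∀ u ∈ Y, ∀ v ∈ Y, IsPGroup l (Subgroup.zpowers u) → IsPGroup q (Subgroup.zpowers v) → u * v = v * u :=
      fun {Y} hY {l} _ hl u hu v hv h1 h2 => Cfsg.Lib.Schmidt.commute_of_nilpotent hY hl hu hv h1 h2
    -- first: `R` centralises `Q`
    have hRQ : ∀ l : ℕ, l.Prime → l ∣ Nat.card R' → ∀ P : Sylow l R', ∀ r ∈ (P : Subgroup R'),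
        ∀ v ∈ Q', (r : G) * v = v * (r : G) := by
      intro l hl hld P r hr v hv
      haveI : Fact l.Prime := ⟨hl⟩
      have hlq : l ≠ q := fun h => hRq' (h ▸ hld)
      by_cases hQK : (Q : Subgroup K) = ⊤
      · exfalso
        refine hRq' ?_
        have : R = ⊥ := by
          have := hR.disjoint
          rwa [hQK, top_disjoint] at this
        exfalso
        have h1 : Nat.card R' = 1 := by rw [Cfsg.Lib.Core.card_map_subtype, this, Subgroup.card_bot]
        rw [h1] at hld
        exact hl.ne_one (Nat.dvd_one.1 hld)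
      obtain ⟨y, hy⟩ := hproper _ hQK
      set Hy := MulAut.conj y • H
      have hHyc : Nat.card Hy = Nat.card H := Nat.card_congr (Subgroup.equivSMul (MulAut.conj y) H).symm.toEquiv
      obtain ⟨S⟩ : Nonempty (Sylow l Hy) := inferInstance
      have hlH : l ∣ Nat.card H := hHxc ▸ hld.trans (Subgroup.card_dvd_of_le hx)
      set S' := (S : Subgroup Hy).map Hy.subtype
      set C := Subgroup.centralizer (Q' : Set G)
      have hSC : S' ≤ C := by
        rintro _ ⟨s, hs, rfl⟩
        refine Subgroup.mem_centralizer_iff.2 fun w hw => (hcom (hnilc y) hlq _ s.2 w (hy hw) ?_ ?_).symm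
        · exact Cfsg.Lib.Schmidt.isPGroup_zpowers_of_mem (S.2.map Hy.subtype) ⟨s, hs, rfl⟩
        · exact Cfsg.Lib.Schmidt.isPGroup_zpowers_of_mem hQ'q hw
      have hCi : ¬ l ∣ C.index := fun hd => hfull l hlH hHyc S (hd.trans (Subgroup.index_dvd_of_le hSC))
      set N := Subgroup.normalizer (Q' : Set G)
      have hrN : (r : G) ∈ N := by
        have hrK : (r : G) ∈ K := Subgroup.map_subtype_le R r.2
        rw [Cfsg.Lib.Core.mem_normalizer_iff_map_conj]
        refine Subgroup.eq_of_le_of_card_ge ?_
          (Nat.card_congr (Q'.equivMapOfInjective _ (MulAut.conj (r : G)).injective).toEquiv).le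
        rintro _ ⟨_, ⟨w, hw, rfl⟩, rfl⟩
        exact ⟨⟨r, hrK⟩ * w * ⟨r, hrK⟩⁻¹, hQn.conj_mem w hw _, rfl⟩
      have hCN : (C.subgroupOf N).Normal := by
        refine ⟨fun c hc g => ?_⟩
        rw [Subgroup.mem_subgroupOf] at hc ⊢
        refine Subgroup.mem_centralizer_iff.2 fun w hw => ?_
        have hw' : (g : G)⁻¹ * w * g ∈ Q' := by
          have := (Subgroup.mem_normalizer_iff.1 (inv_mem g.2) w).1 hw
          simpa using this
        have h := Subgroup.mem_centralizer_iff.1 hc _ hw'
        push_cast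
        calc w * ((g : G) * c * (g : G)⁻¹) = g * (((g : G)⁻¹ * w * g) * c) * (g : G)⁻¹ := by group
          _ = _ := by rw [h]; group
      have h1 : orderOf (QuotientGroup.mk' (C.subgroupOf N) ⟨r, hrN⟩) = 1 := by
        obtain ⟨k, hk⟩ := P.2 ⟨r, hr⟩
        refine Nat.eq_one_of_dvd_coprimes (a := l ^ k) (b := (C.subgroupOf N).index)
          (Nat.Coprime.pow_left _ ((hl.coprime_iff_not_dvd).2 fun hd =>
            hCi (hd.trans (Subgroup.relIndex_dvd_index_of_le (Subgroup.centralizer_le_normalizer _))))) ?_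
          (orderOf_dvd_natCard _)
        refine orderOf_dvd_of_pow_eq_one ?_
        have h2 : (r : G) ^ l ^ k = 1 := by
          have h3 := congrArg (fun z : (P : Subgroup R') => ((z : R') : G)) hk
          exact h3
        rw [← map_pow, show (⟨(r : G), hrN⟩ : N) ^ l ^ k = 1 from Subtype.ext h2, map_one]
      rw [orderOf_eq_one_iff, QuotientGroup.mk'_apply, QuotientGroup.eq_one_iff, Subgroup.mem_subgroupOf] at h1
      exact (Subgroup.mem_centralizer_iff.1 h1 v hv).symm
    have hQR : Q' ≤ Subgroup.centralizer (R' : Set G) := by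
      intro v hv
      have htop : (Subgroup.centralizer ({v} : Set G)).subgroupOf R' = ⊤ := by
        by_contra hne
        obtain ⟨l, hl, hd⟩ := Nat.exists_prime_and_dvd (fun h => hne (Subgroup.index_eq_one.1 h) :
          ((Subgroup.centralizer ({v} : Set G)).subgroupOf R').index ≠ 1)
        haveI : Fact l.Prime := ⟨hl⟩
        refine (default : Sylow l R').not_dvd_index (hd.trans (Subgroup.index_dvd_of_le fun r hr => ?_))
        rw [Subgroup.mem_subgroupOf, Subgroup.mem_centralizer_iff]
        intro w hw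
        rw [Set.mem_singleton_iff.1 hw]
        exact (hRQ l hl (hd.trans (Subgroup.index_dvd_card _)) default r hr v hv).symm
      refine Subgroup.mem_centralizer_iff.2 fun r hr => ?_
      have h1 : (⟨r, hr⟩ : R') ∈ (Subgroup.centralizer ({v} : Set G)).subgroupOf R' := htop ▸ Subgroup.mem_top _
      exact ((Subgroup.mem_centralizer_iff.1 (Subgroup.mem_subgroupOf.1 h1)) v rfl).symm
    -- then move `Q` into `Hx` inside the centralizer of `R`
    obtain ⟨T⟩ : Nonempty (Sylow q Hx) := inferInstance
    set T' := (T : Subgroup Hx).map Hx.subtype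
    set C := Subgroup.centralizer (R' : Set G)
    have hTC : T' ≤ C := by
      rintro _ ⟨t, ht, rfl⟩
      refine Subgroup.mem_centralizer_iff.2 fun r hr => ?_
      have hr' : r ∈ (Subgroup.centralizer ({(t : G)} : Set G)) := by
        suffices hle : R' ≤ Subgroup.centralizer ({(t : G)} : Set G) from hle hr
        rw [← Subgroup.subgroupOf_eq_top]
        by_contra hne
        obtain ⟨l, hl, hd⟩ := Nat.exists_prime_and_dvd (fun h => hne (Subgroup.index_eq_one.1 h) :
          ((Subgroup.centralizer ({(t : G)} : Set G)).subgroupOf R').index ≠ 1)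
        haveI : Fact l.Prime := ⟨hl⟩
        have hlq : l ≠ q := fun h => hRq' (h ▸ hd.trans (Subgroup.index_dvd_card _))
        refine (default : Sylow l R').not_dvd_index (hd.trans (Subgroup.index_dvd_of_le fun u hu => ?_))
        rw [Subgroup.mem_subgroupOf, Subgroup.mem_centralizer_iff]
        intro w hw
        rw [Set.mem_singleton_iff.1 hw]
        exact (hcom (hnilc x) hlq _ (hx u.2) _ t.2
          (Cfsg.Lib.Schmidt.isPGroup_zpowers_of_mem ((default : Sylow l R').2.map R'.subtype) ⟨u, hu, rfl⟩)
          (Cfsg.Lib.Schmidt.isPGroup_zpowers_of_mem (T.2.map Hx.subtype) ⟨t, ht, rfl⟩)).symm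
      exact ((Subgroup.mem_centralizer_iff.1 hr') _ rfl).symm
    have hTi : ¬ q ∣ (T'.subgroupOf C).index := fun hd =>
      hfull q hqH hHxc T (hd.trans (Subgroup.relIndex_dvd_index_of_le hTC))
    obtain ⟨W, hW⟩ := (hQ'q.comap_of_injective C.subtype C.subtype_injective).exists_le_sylow
    obtain ⟨c, hc⟩ := MulAction.exists_smul_eq C
      (((T.2.map Hx.subtype).comap_of_injective C.subtype C.subtype_injective).toSylow hTi) W
    refine ⟨(c : G) * x, ?_⟩
    rw [map_mul, mul_smul]
    refine hKQR.trans (sup_le (fun v hv => ?_) fun r hr => ?_)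
    · have h1 : (⟨v, hQR hv⟩ : C) ∈ (c • (((T.2.map Hx.subtype).comap_of_injective C.subtype
          C.subtype_injective).toSylow hTi) : Sylow q C) := hc ▸ hW hv
      obtain ⟨t, ht, hte⟩ := h1
      exact ⟨(t : G), Subgroup.map_subtype_le _ ht, congrArg Subtype.val hte⟩
    · refine ⟨r, hx hr, ?_⟩
      show (c : G) * r * (c : G)⁻¹ = r
      rw [← Subgroup.mem_centralizer_iff.1 c.2 r hr, mul_inv_cancel_right]


/-- Let H be a nilpotent subgroup of a finite group G whose order is coprime to its index, and K a subgroup every prime divisor of whose order divides the order of H. Then K lies in some conjugate of H. -/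
theorem result {G : Type*} [Group G] [Finite G] (H K : Subgroup G) (hH : Group.IsNilpotent H) (hHall : (Nat.card H).Coprime H.index) (hK : ∀ p : ℕ, p.Prime → p ∣ Nat.card K → p ∣ Nat.card H) : ∃ x : G, K ≤ MulAut.conj x • H := by
  exact aux H hH hHall _ K le_rfl hK

end Cfsg.Agent.S0581
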