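import Cfsg.Statements.S0031


set_option autoImplicit false
open Cfsg

namespace Cfsg.Agent.S0031

/-- A fixed-point-free automorphism of a finite group maps some Sylow p-subgroup to itself. -/
theorem result {G : Type*} [Group G] [Finite G] (φ : G ≃* G)
    (hφ : MonoidHom.FixedPointFree (φ : G →* G)) (p : ℕ) [Fact p.Prime] :
    ∃ P : Sylow p G, (P : Subgroup G).map (φ : G →* G) = P := by
  obtain ⟨Q⟩ : Nonempty (Sylow p G) := inferInstance
  obtain ⟨Q', hQ'⟩ : ∃ Q' : Sylow p G, (Q' : Subgroup G) = (Q : Subgroup G).map (φ : G →* G) :=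
    ⟨Q.mapSurjective (f := (φ : G →* G)) φ.surjective, Sylow.coe_mapSurjective _ _⟩
  obtain ⟨g, hg⟩ := MulAction.exists_smul_eq G Q Q'
  obtain ⟨y, hy⟩ := MonoidHom.FixedPointFree.commutatorMap_surjective hφ g⁻¹
  rw [MonoidHom.commutatorMap_apply] at hy
  refine ⟨y⁻¹ • Q, ?_⟩
  have hmap : (φ : G →* G).comp (MulAut.conj y⁻¹).toMonoidHom =
      (MulAut.conj (φ y⁻¹)).toMonoidHom.comp (φ : G →* G) := by
    ext z; simp [MulAut.conj_apply]
  have hQg : (Q' : Subgroup G) = (Q : Subgroup G).map (MulAut.conj g).toMonoidHom := by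
    rw [← hg]; rfl
  have hy' : φ y⁻¹ * g = y⁻¹ := by
    have : g = (y / φ y)⁻¹ := by rw [show y / φ y = g⁻¹ from hy, inv_inv]
    rw [this, map_inv]; simp [div_eq_mul_inv]
  change ((Q : Subgroup G).map (MulAut.conj y⁻¹).toMonoidHom).map (φ : G →* G) =
    (Q : Subgroup G).map (MulAut.conj y⁻¹).toMonoidHom
  rw [Subgroup.map_map, hmap, ← Subgroup.map_map, ← hQ', hQg, Subgroup.map_map]
  congr 1
  ext z
  conv_rhs => rw [← hy']
  simp [MulAut.conj_apply, mul_assoc]

end Cfsg.Agent.S0031
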