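import Cfsg.Statements.S3861
import Cfsg.Agent.Lib.Invol.BaerSuzuki
import Cfsg.Agent.Lib.Core.Cores
import Cfsg.Agent.Lib.Coprime.Conjugacy
import Cfsg.Agent.Lib.PGroup.Elements
import Cfsg.Agent.S4034

set_option autoImplicit false
open Cfsg

namespace Cfsg.Agent.S3861

open Subgroup

/-- If the Sylow `2`-subgroup is not normal, some nontrivial element of odd order is real. -/
theorem exists_real_odd {G : Type*} [Group G] [Finite G] (P : Sylow 2 G)
    (hP : ¬ (P : Subgroup G).Normal) : ∃ x : G, x ≠ 1 ∧ Odd (orderOf x) ∧ IsConj x x⁻¹ := by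
  have : Fact (Nat.Prime 2) := ⟨Nat.prime_two⟩
  set O := Cfsg.pCore 2 G with hO
  set f := QuotientGroup.mk' O
  have hOP : O ≤ P := Cfsg.Lib.Core.pCore_le_sylow P
  have heven : 2 ∣ Nat.card (G ⧸ O) := by
    by_contra hodd
    have h1 : (P : Subgroup G).map f = ⊥ := by
      obtain ⟨a, ha⟩ := IsPGroup.iff_card.mp (P.2.map f)
      refine Subgroup.eq_bot_of_card_eq _ ?_
      rcases Nat.eq_zero_or_pos a with rfl | hpos
      · simpa using ha
      · exact absurd ((dvd_pow_self 2 hpos.ne').trans (ha ▸ card_subgroup_dvd_card _)) hodd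
    rw [Subgroup.map_eq_bot_iff, QuotientGroup.ker_mk'] at h1
    exact hP (le_antisymm h1 hOP ▸ inferInstance)
  obtain ⟨t, ht⟩ := exists_prime_orderOf_dvd_card' (G := G ⧸ O) 2 heven
  have hcore : Cfsg.pCore 2 (G ⧸ O) = ⊥ := Cfsg.Lib.Core.pCore_quotient_pCore_eq_bot
  obtain ⟨h, hh1, hhodd, hht⟩ := Cfsg.Lib.Invol.exists_inverted_odd ht fun N hN hN2 htN => by
    have h1 : N ≤ ⊥ := hcore ▸ Cfsg.Lib.Core.le_pCore' hN hN2
    rw [Subgroup.mem_bot.mp (h1 htN), orderOf_one] at ht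
    exact absurd ht (by norm_num)
  obtain ⟨x, hx, hxh⟩ := S4034.exists_pRegular_lift O (Nat.coprime_two_right.mpr hhodd)
  obtain ⟨g, hgt⟩ := QuotientGroup.mk_surjective t
  have hxodd : Odd (orderOf x) := Nat.coprime_two_right.mp hx
  have hx1 : x ≠ 1 := by rintro rfl; exact hh1 hxh.symm
  refine ⟨x, hx1, hxodd, ?_⟩
  obtain ⟨a, ha⟩ := IsPGroup.iff_card.mp (Cfsg.Lib.Core.pCore_isPGroup 2 G)
  have hcop : (Nat.card (zpowers x)).Coprime (Nat.card O) := by
    rw [Nat.card_zpowers, hO, ha]; exact hx.pow_right a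
  have hAN : zpowers x ≤ normalizer (O : Set G) :=
    (le_top : zpowers x ≤ ⊤).trans (normalizer_eq_top (H := O)).ge
  have hmem : g * x * g⁻¹ * x ∈ O := by
    rw [← QuotientGroup.eq_one_iff]
    simp only [QuotientGroup.mk_mul, QuotientGroup.mk_inv, hgt, hxh]
    rw [hht, inv_mul_cancel]
  have hB : zpowers (g * x * g⁻¹) ≤ O ⊔ zpowers x := by
    rw [zpowers_le]
    have := mul_mem_sup hmem (inv_mem (mem_zpowers x))
    simpa using this
  obtain ⟨n, hn, hconj⟩ := Cfsg.Lib.Coprime.exists_conj_of_coprime O (zpowers x) (zpowers (g * x * g⁻¹))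
    hAN hcop (Or.inl inferInstance) hB (by rw [Nat.card_zpowers, Nat.card_zpowers, Cfsg.Lib.Invol.orderOf_conj_eq])
  obtain ⟨z, ⟨j, rfl⟩, hz⟩ : g * x * g⁻¹ ∈ (zpowers x).map (MulAut.conj n).toMonoidHom :=
    hconj ▸ mem_zpowers _
  refine isConj_iff.mpr ⟨n⁻¹ * g, ?_⟩
  have hy : n⁻¹ * g * x * (n⁻¹ * g)⁻¹ = x ^ j := by
    have hz' : n * x ^ j * n⁻¹ = g * x * g⁻¹ := hz
    calc n⁻¹ * g * x * (n⁻¹ * g)⁻¹ = n⁻¹ * (g * x * g⁻¹) * n := by simp [mul_assoc]
      _ = x ^ j := by rw [← hz']; simp [mul_assoc]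
  rw [hy]
  have hdisj := Cfsg.Lib.Coprime.disjoint_of_coprime_card hcop
  have hmemO : x ^ j * x ∈ O := by
    rw [← hy, ← QuotientGroup.eq_one_iff]
    have hn1 : (n : G ⧸ O) = 1 := (QuotientGroup.eq_one_iff _).mpr hn
    have := (QuotientGroup.eq_one_iff _).mpr hmem
    simp only [QuotientGroup.mk_mul, QuotientGroup.mk_inv] at this
    simp only [QuotientGroup.mk_mul, QuotientGroup.mk_inv, hn1, inv_one, one_mul]
    exact this
  exact eq_inv_of_mul_eq_one_left (Subgroup.disjoint_def.mp hdisj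
    (mul_mem (zpow_mem (mem_zpowers x) j) (mem_zpowers x)) hmemO)


/-- A finite group G has no non-identity element of odd order that is conjugate to its inverse if and only if the Sylow 2-subgroups of G are normal. -/
theorem result {G : Type*} [Group G] [Finite G] (P : Sylow 2 G) : (∀ x : G, x ≠ 1 → Odd (orderOf x) → ¬ IsConj x x⁻¹) ↔ (P : Subgroup G).Normal := by
  constructor
  · intro h
    by_contra hP
    obtain ⟨x, hx1, hx, hc⟩ := exists_real_odd P hP
    exact h x hx1 hx hc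
  · intro hP x hx1 hx hc
    have : Fact (Nat.Prime 2) := ⟨Nat.prime_two⟩
    obtain ⟨g, hg⟩ := isConj_iff.mp hc
    have hinv : ∀ m : ℕ, Odd m → g ^ m * x * (g ^ m)⁻¹ = x⁻¹ := by
      have h2 : g ^ 2 * x * (g ^ 2)⁻¹ = x := by
        have : g * (g * x * g⁻¹) * g⁻¹ = x := by
          rw [hg, ← conj_inv, hg, inv_inv]
        simpa [sq, mul_assoc] using this
      rintro m ⟨i, rfl⟩
      induction i with
      | zero => simpa using hg
      | succ i ih =>
        rw [show 2 * (i + 1) + 1 = 2 + (2 * i + 1) by ring, pow_add]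
        calc g ^ 2 * g ^ (2 * i + 1) * x * (g ^ 2 * g ^ (2 * i + 1))⁻¹
            = g ^ 2 * (g ^ (2 * i + 1) * x * (g ^ (2 * i + 1))⁻¹) * (g ^ 2)⁻¹ := by simp [mul_assoc]
          _ = x⁻¹ := by rw [ih, ← conj_inv, h2]
    set k := (orderOf g).factorization 2
    set m := orderOf g / 2 ^ k
    have hm : Odd m := Nat.coprime_two_right.mp
      (Nat.coprime_ordCompl Nat.prime_two (orderOf_pos g).ne').symm
    set t := g ^ m
    have htP : t ∈ (P : Subgroup G) := by
      have hpg : IsPGroup 2 (Subgroup.zpowers t) :=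
        IsPGroup.of_card (n := k) (by rw [Nat.card_zpowers]; exact Cfsg.Lib.PGroup.orderOf_ordCompl_pow Nat.prime_two)
      obtain ⟨Q, hQ⟩ := hpg.exists_le_sylow
      have := Sylow.unique_of_normal P hP
      rw [Subsingleton.elim P Q]
      exact hQ (Subgroup.mem_zpowers t)
    have hcomm : x ^ 2 ∈ (P : Subgroup G) := by
      have h1 : (t * x * t⁻¹)⁻¹ * x ∈ Subgroup.zpowers x := by
        rw [hinv m hm, inv_inv]; exact mul_mem (Subgroup.mem_zpowers x) (Subgroup.mem_zpowers x)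
      have h2 : (t * x * t⁻¹)⁻¹ * x = t * (x⁻¹ * t⁻¹ * x) := by simp [mul_assoc]
      have h3 : (t * x * t⁻¹)⁻¹ * x = x ^ 2 := by rw [hinv m hm, inv_inv, sq]
      rw [← h3, h2]
      exact mul_mem htP (by simpa using hP.conj_mem _ (inv_mem htP) x⁻¹)
    obtain ⟨a, ha⟩ := IsPGroup.iff_card.mp P.2
    have h1 : orderOf (x ^ 2) = 1 := by
      refine Nat.eq_one_of_dvd_coprimes (b := orderOf x) (a := 2 ^ a) ?_
        (ha ▸ Subgroup.orderOf_dvd_natCard _ hcomm) (orderOf_pow_dvd 2)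
      exact ((Nat.coprime_two_left.mpr hx).pow_left a)
    rw [orderOf_eq_one_iff] at h1
    have h2 := Nat.dvd_gcd (dvd_refl (orderOf x)) (orderOf_dvd_of_pow_eq_one h1)
    rw [(Nat.coprime_two_right.mpr hx).gcd_eq_one, Nat.dvd_one, orderOf_eq_one_iff] at h2
    exact hx1 h2

end Cfsg.Agent.S3861
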