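import Cfsg.Statements.S3863
import Mathlib.Tactic.Group
import Mathlib.Data.Nat.Factorization.Basic
import Mathlib.GroupTheory.Sylow
-- import your own Cfsg.Agent.* helpers here

set_option autoImplicit false
open Cfsg

namespace Cfsg.Agent.S3863

open Subgroup

theorem two_element_inverts {G : Type*} [Group G] [Finite G] {x : G} (hx : IsConj x x⁻¹) :
    ∃ t : G, (∃ j : ℕ, orderOf t = 2 ^ j) ∧ t * x * t⁻¹ = x⁻¹ := by
  obtain ⟨g, hg⟩ := isConj_iff.mp hx
  set m := orderOf g / 2 ^ (orderOf g).factorization 2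
  have hm : ¬ 2 ∣ m := Nat.not_dvd_ordCompl Nat.prime_two (orderOf_pos g).ne'
  have hinv : ∀ k : ℕ, g ^ (2 * k + 1) * x * (g ^ (2 * k + 1))⁻¹ = x⁻¹ := by
    intro k
    induction k with
    | zero => simpa using hg
    | succ k ih =>
      have h2 : g * x⁻¹ * g⁻¹ = x := by
        calc g * x⁻¹ * g⁻¹ = (g * x * g⁻¹)⁻¹ := by group
          _ = x := by rw [hg, inv_inv]
      rw [show 2 * (k + 1) + 1 = 2 + (2 * k + 1) by ring, pow_add, sq]
      calc g * g * g ^ (2 * k + 1) * x * (g * g * g ^ (2 * k + 1))⁻¹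
          = g * (g * (g ^ (2 * k + 1) * x * (g ^ (2 * k + 1))⁻¹) * g⁻¹) * g⁻¹ := by group
        _ = x⁻¹ := by rw [ih, h2, hg]
  obtain ⟨k, hk⟩ : ∃ k, m = 2 * k + 1 := ⟨m / 2, by omega⟩
  refine ⟨g ^ m, ⟨(orderOf g).factorization 2, ?_⟩, hk ▸ hinv k⟩
  have hmdvd : m ∣ orderOf g := Nat.ordCompl_dvd _ _
  have h3 : orderOf g / m = 2 ^ (orderOf g).factorization 2 :=
    Nat.div_eq_of_eq_mul_left (by omega) (Nat.ordProj_mul_ordCompl_eq_self _ _).symm
  rw [orderOf_pow' g (by omega), Nat.gcd_eq_right hmdvd, h3]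

theorem sq_eq_one_of_odd_class {G : Type*} [Group G] [Finite G] {x : G} (hx : IsConj x x⁻¹)
    (hodd : Odd (centralizer ({x} : Set G)).index) : x ^ 2 = 1 := by
  by_contra hne
  have hxx : x⁻¹ ≠ x := fun h => hne (by rw [sq]; exact inv_eq_iff_mul_eq_one.mp h)
  have hflip : ∀ {a : G}, a * x * a⁻¹ = x⁻¹ → a * x⁻¹ * a⁻¹ = x := fun {a} h => by
    calc a * x⁻¹ * a⁻¹ = (a * x * a⁻¹)⁻¹ := by group
      _ = x := by rw [h, inv_inv]
  have hfix : ∀ {a : G}, a * x * a⁻¹ = x → a * x⁻¹ * a⁻¹ = x⁻¹ := fun {a} h => by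
    calc a * x⁻¹ * a⁻¹ = (a * x * a⁻¹)⁻¹ := by group
      _ = x⁻¹ := by rw [h]
  let D : Subgroup G :=
    { carrier := {g | g * x * g⁻¹ = x ∨ g * x * g⁻¹ = x⁻¹}
      one_mem' := Or.inl (by group)
      mul_mem' := fun {a b} ha hb => by
        have e : a * b * x * (a * b)⁻¹ = a * (b * x * b⁻¹) * a⁻¹ := by group
        show _ ∨ _
        rw [e]
        rcases hb with hb | hb <;> rw [hb] <;> rcases ha with ha | ha
        · exact Or.inl ha
        · exact Or.inr ha
        · exact Or.inr (hfix ha)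
        · exact Or.inl (hflip ha)
      inv_mem' := fun {a} ha => by
        show _ ∨ _
        rcases ha with ha | ha
        · left; nth_rewrite 1 [← ha]; group
        · right; nth_rewrite 1 [← hflip ha]; group }
  have hCD : centralizer ({x} : Set G) ≤ D := fun c hc =>
    Or.inl (by rw [mem_centralizer_singleton_iff.mp hc, mul_inv_cancel_right])
  obtain ⟨g, hg⟩ := isConj_iff.mp hx
  have hmem : ∀ c : G, c ∈ centralizer ({x} : Set G) ↔ c * x * c⁻¹ = x := fun c => by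
    rw [mem_centralizer_singleton_iff, mul_inv_eq_iff_eq_mul]
  have h2 : (centralizer ({x} : Set G)).relIndex D = 2 := by
    refine index_eq_two_iff.mpr ⟨⟨g, Or.inr hg⟩, fun b => ?_⟩
    rw [mem_subgroupOf, mem_subgroupOf, Subgroup.coe_mul, hmem, hmem]
    have e : (b : G) * g * x * ((b : G) * g)⁻¹ = (b : G) * (g * x * g⁻¹) * (b : G)⁻¹ := by group
    rw [e, hg]
    rcases b.2 with hb | hb
    · exact Or.inr ⟨hb, fun h => hxx ((hfix hb).symm.trans h)⟩
    · exact Or.inl ⟨hflip hb, fun h => hxx (hb.symm.trans h)⟩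
  refine (Nat.not_even_iff_odd.mpr hodd) (even_iff_two_dvd.mpr ?_)
  rw [← relIndex_mul_index hCD, h2]
  exact dvd_mul_right 2 _

theorem mem_of_odd_index {G : Type*} [Group G] [Finite G] {x : G} (hx : IsConj x x⁻¹) (N : Subgroup G) [N.Normal]
    (hN : Odd N.index) : ∃ hxN : x ∈ N, IsConj (⟨x, hxN⟩ : N) (⟨x, hxN⟩ : N)⁻¹ := by
  obtain ⟨t, ⟨j, hj⟩, ht⟩ := two_element_inverts hx
  have hoddc : Odd (Nat.card (G ⧸ N)) := by rwa [← Subgroup.index_eq_card]
  have hone : ∀ y : G, ∀ j : ℕ, ((y : G ⧸ N)) ^ 2 ^ j = 1 → y ∈ N := fun y j hy => by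
    rw [← QuotientGroup.eq_one_iff, ← orderOf_eq_one_iff]
    exact Nat.eq_one_of_dvd_coprimes (Nat.Coprime.pow_left j (Nat.coprime_two_left.mpr hoddc))
      (orderOf_dvd_of_pow_eq_one hy) (orderOf_dvd_natCard _)
  have htN : t ∈ N := hone t j (by rw [← QuotientGroup.mk_pow, ← hj, pow_orderOf_eq_one, QuotientGroup.mk_one])
  have hxN : x ∈ N := hone x 1 (by
    have h := congrArg (fun y : G => (y : G ⧸ N)) ht
    simp only [QuotientGroup.mk_mul, QuotientGroup.mk_inv, (QuotientGroup.eq_one_iff t).mpr htN, one_mul, inv_one,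
      mul_one] at h
    rw [pow_one, sq]
    nth_rewrite 2 [h]
    exact mul_inv_cancel _)
  exact ⟨hxN, isConj_iff.mpr ⟨⟨t, htN⟩, Subtype.ext ht⟩⟩

/-- Let x be an element of the finite group G that is conjugate to its inverse. Then some 2-element conjugates x to its inverse; if the conjugacy class of x has odd size then x ^ 2 = 1; and x lies in, and is conjugate to its inverse inside, every normal subgroup of odd index. -/
theorem result {G : Type*} [Group G] [Finite G] (x : G) (hx : IsConj x x⁻¹) : (∃ t : G, (∃ j : ℕ, orderOf t = 2 ^ j) ∧ t * x * t⁻¹ = x⁻¹) ∧ (Odd (Subgroup.centralizer ({x} : Set G)).index → x ^ 2 = 1) ∧ ∀ (N : Subgroup G) [N.Normal], Odd N.index → ∃ hxN : x ∈ N, IsConj (⟨x, hxN⟩ : N) (⟨x, hxN⟩ : N)⁻¹ := by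
  exact ⟨two_element_inverts hx, sq_eq_one_of_odd_class hx, fun N _ hN => mem_of_odd_index hx N hN⟩

end Cfsg.Agent.S3863
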