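import Cfsg.Statements.S0735
import Mathlib

set_option autoImplicit false
open Cfsg
open scoped Pointwise

namespace Cfsg.Agent.S0735

/-- A 2-homogeneous permutation group (transitive on 2-subsets) of even order is doubly transitive; a non-trivial 2-homogeneous group is primitive. -/
theorem result {α : Type*} [Fintype α] [DecidableEq α] (G : Subgroup (Equiv.Perm α)) (h2 : MulAction.IsPretransitive G (Set.powersetCard α 2)) (hα : 3 ≤ Fintype.card α) : (Even (Nat.card G) → MulAction.IsMultiplyPretransitive G α 2) ∧ (G ≠ ⊥ → MulAction.IsPreprimitive G α) := by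
  classical
  have pair : ∀ a b c d : α, a ≠ b → c ≠ d → ∃ g : G, (g • a = c ∧ g • b = d) ∨ (g • a = d ∧ g • b = c) := by
    intro a b c d hab hcd
    obtain ⟨g, hg⟩ := h2.exists_smul_eq (⟨{a, b}, Finset.card_pair hab⟩ : Set.powersetCard α 2) ⟨{c, d}, Finset.card_pair hcd⟩
    refine ⟨g, ?_⟩
    have hg' : g • ({a, b} : Finset α) = {c, d} := congrArg Subtype.val hg
    have ha : g • a ∈ ({c, d} : Finset α) := hg' ▸ Finset.smul_mem_smul_finset (by simp)
    have hb : g • b ∈ ({c, d} : Finset α) := hg' ▸ Finset.smul_mem_smul_finset (by simp)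
    have hne : g • a ≠ g • b := fun h => hab (MulAction.injective g h)
    simp only [Finset.mem_insert, Finset.mem_singleton] at ha hb
    rcases ha with ha | ha <;> rcases hb with hb | hb
    · exact absurd (ha.trans hb.symm) hne
    · exact Or.inl ⟨ha, hb⟩
    · exact Or.inr ⟨ha, hb⟩
    · exact absurd (ha.trans hb.symm) hne
  refine ⟨fun he => ?_, fun _ => ?_⟩
  · haveI : Fact (Nat.Prime 2) := ⟨Nat.prime_two⟩
    obtain ⟨t, ht⟩ := exists_prime_orderOf_dvd_card' (G := G) 2 he.two_dvd
    have htt : t * t = 1 := by rw [← pow_two, ← ht, pow_orderOf_eq_one]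
    obtain ⟨x₀, hx₀⟩ : ∃ x : α, t • x ≠ x := by
      by_contra hcon; push Not at hcon
      have : t = 1 := Subtype.ext (Equiv.ext hcon)
      rw [this, orderOf_one] at ht; norm_num at ht
    have swapAll : ∀ a b : α, a ≠ b → ∃ s : G, s • a = b ∧ s • b = a := by
      intro a b hab
      obtain ⟨g, hg⟩ := pair x₀ (t • x₀) a b (Ne.symm hx₀) hab
      refine ⟨g * t * g⁻¹, ?_⟩
      rcases hg with ⟨h1, h2⟩ | ⟨h1, h2⟩
      · rw [← h1, ← h2]; simp only [mul_smul, inv_smul_smul, true_and]
        rw [← mul_smul t t, htt, one_smul]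
      · rw [← h1, ← h2]; simp only [mul_smul, inv_smul_smul, and_true]
        rw [← mul_smul t t, htt, one_smul]
    rw [MulAction.is_two_pretransitive_iff]
    intro a b c d hab hcd
    obtain ⟨g, hg⟩ := pair a b c d hab hcd
    rcases hg with hg | ⟨h1, h2⟩
    · exact ⟨g, hg⟩
    · obtain ⟨s, hs1, hs2⟩ := swapAll d c (Ne.symm hcd)
      exact ⟨s * g, by rw [mul_smul, h1, hs1], by rw [mul_smul, h2, hs2]⟩
  · haveI : MulAction.IsPretransitive G α := by
      constructor
      intro x y
      by_cases hxy : x = y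
      · exact ⟨1, by rw [one_smul, hxy]⟩
      obtain ⟨z, -, hzx, hzy⟩ : ∃ z, z ∈ (Finset.univ : Finset α) ∧ z ≠ x ∧ z ≠ y := by
        by_contra hcon
        have hsub : (Finset.univ : Finset α) ⊆ {x, y} := fun z hz => by
          by_contra hz'; simp at hz'; exact hcon ⟨z, hz, hz'.1, hz'.2⟩
        have := Finset.card_le_card hsub
        rw [Finset.card_univ, Finset.card_pair hxy] at this
        omega
      obtain ⟨g, hg⟩ := pair x z y z (Ne.symm hzx) (Ne.symm hzy)
      rcases hg with ⟨h1, -⟩ | ⟨h1, h2⟩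
      · exact ⟨g, h1⟩
      · exact ⟨g * g, by rw [mul_smul, h1, h2]⟩
    refine ⟨fun {B} hB => ?_⟩
    by_cases hs : B.Subsingleton
    · exact Or.inl hs
    right
    rw [Set.not_subsingleton_iff] at hs
    obtain ⟨a, ha, b, hb, hab⟩ := hs
    refine Set.eq_univ_of_forall fun c => ?_
    by_contra hc
    obtain ⟨g, hg⟩ := pair a b a c hab (fun h => hc (h ▸ ha))
    have hB' : g • B = B := by
      apply hB.smul_eq_of_nonempty
      rcases hg with ⟨h1, -⟩ | ⟨-, h2⟩
      · exact ⟨a, ⟨a, ha, h1⟩, ha⟩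
      · exact ⟨a, ⟨b, hb, h2⟩, ha⟩
    apply hc
    rw [← hB']
    rcases hg with ⟨-, h2⟩ | ⟨h1, -⟩
    · exact ⟨b, hb, h2⟩
    · exact ⟨a, ha, h1⟩

end Cfsg.Agent.S0735
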