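import Cfsg.Statements.S5361
import Cfsg.Agent.Lib.Fischer.Primitive

set_option autoImplicit false
open Cfsg
open scoped commutatorElement

namespace Cfsg.Agent.S5361

/-- Let D be a conjugacy class of 3-transpositions generating the finite group G, and suppose the centre of G is trivial and some two different members of D commute. Then the following are equivalent: (1) the commutator subgroup of G is simple (possibly of prime order); (2) G acts primitively on D by conjugation; (3) the largest normal 2-subgroup and the largest normal 3-subgroup of G are trivial and the commuting graph of D is connected. -/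
theorem result {G : Type*} [Group G] [Finite G] {D : Set G} (hD : Cfsg.IsThreeTranspositionClass D) (hZ : Subgroup.center G = ⊥) (hw : ∃ a ∈ D, ∃ b ∈ D, a ≠ b ∧ Commute a b) : (IsSimpleGroup (commutator G) ↔ Cfsg.IsPrimitiveUnderConj D) ∧ (Cfsg.IsPrimitiveUnderConj D ↔ (Cfsg.pCore 2 G = ⊥ ∧ Cfsg.pCore 3 G = ⊥ ∧ (Cfsg.commutingGraph D).Connected)) := by
  obtain ⟨a, ha, b, hb, hne, hc⟩ := hw
  have hT := Cfsg.Lib.Fischer.trans_of_class hD
  have hD2 : ∃ a ∈ D, ∃ b ∈ D, a ≠ b := ⟨a, ha, b, hb, hne⟩
  have h23 : Cfsg.IsPrimitiveUnderConj D → Cfsg.pCore 2 G = ⊥ ∧ Cfsg.pCore 3 G = ⊥ ∧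
      (Cfsg.commutingGraph D).Connected := fun hp => by
    obtain ⟨h2, h3⟩ := Cfsg.Lib.Fischer.core_le_center_of_primitive hT hp ⟨a, ha, b, hb, hne, hc⟩
    rw [hZ] at h2 h3
    exact ⟨le_bot_iff.1 h2, le_bot_iff.1 h3,
      Cfsg.Lib.Fischer.connected_of_primitive hT hp ⟨a, ha, b, hb, hne, hc⟩⟩
  have h32 : Cfsg.pCore 2 G = ⊥ → Cfsg.pCore 3 G = ⊥ → (Cfsg.commutingGraph D).Connected →
      Cfsg.IsPrimitiveUnderConj D ∧ IsSimpleGroup (commutator G) := fun h2 h3 hconn => by
    have h2' : Cfsg.pCore 2 G ≤ Subgroup.center G := h2.le.trans bot_le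
    have h3' : Cfsg.pCore 3 G ≤ Subgroup.center G := h3.le.trans bot_le
    obtain ⟨L, hLn, hL, -, hF⟩ := Cfsg.Lib.Fischer.exists_quasisimple hT hD2 h2' h3'
    haveI := hLn
    have hidx := Cfsg.Lib.Fischer.index_le_two_of_connected hT hL hconn
    refine ⟨Cfsg.Lib.Fischer.primitive_of_index hT hD2 h2' h3' hL hF hidx, ?_⟩
    rw [Cfsg.Lib.Fischer.commutator_eq hT hL hidx]
    have hzl : Subgroup.center L = ⊥ := by
      rw [eq_bot_iff]
      intro x hx
      have h1 : (x : G) ∈ Subgroup.centralizer (L : Set G) := Subgroup.mem_centralizer_iff.2 fun l hl =>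
        congrArg Subtype.val (Subgroup.mem_center_iff.1 hx ⟨l, hl⟩)
      have h2 := Cfsg.Lib.Fischer.centralizer_le_center hT h2' h3' hF h1
      rw [hZ, Subgroup.mem_bot] at h2
      exact Subgroup.mem_bot.2 (Subtype.ext h2)
    haveI := hL.2.2
    haveI : Nontrivial L := Lib.Core.quasisimple_nontrivial hL.2
    have e : (L ⧸ Subgroup.center L) ≃* L :=
      (QuotientGroup.quotientMulEquivOfEq hzl).trans QuotientGroup.quotientBot
    exact IsSimpleGroup.isSimpleGroup_of_surjective e.toMonoidHom e.surjective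
  refine ⟨⟨fun hs => ?_, fun hp => ?_⟩, ⟨h23, fun h => (h32 h.1 h.2.1 h.2.2).1⟩⟩
  · haveI := hs
    have hmin : ∀ N : Subgroup G, N.Normal → N ≠ ⊥ → commutator G ≤ N := fun N hN hN0 => by
      haveI := hN
      rcases IsSimpleGroup.eq_bot_or_eq_top_of_normal (N.subgroupOf (commutator G)) inferInstance with h | h
      · refine absurd (le_bot_iff.1 (hZ ▸ fun x hx => Subgroup.mem_center_iff.2 fun g => ?_)) hN0
        have h1 : ⁅x, g⁆ ∈ N ⊓ commutator G := ⟨Subgroup.commutator_le_left N ⊤
          (Subgroup.commutator_mem_commutator hx (Subgroup.mem_top g)),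
          Subgroup.commutator_mem_commutator (Subgroup.mem_top x) (Subgroup.mem_top g)⟩
        rw [Subgroup.subgroupOf_eq_bot, disjoint_iff] at h
        rw [h, Subgroup.mem_bot, commutatorElement_eq_one_iff_mul_comm] at h1
        exact h1.symm
      · exact Subgroup.subgroupOf_eq_top.1 h
    have hcom : ¬ IsMulCommutative (commutator G) := fun hcomm => by
      haveI := hcomm
      have hab : a * b ∈ commutator G := Cfsg.Lib.Fischer.mul_mem_commutator hT ha hb
      have hne1 : (⟨a * b, hab⟩ : commutator G) ≠ 1 := fun h => hne (by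
        rw [eq_inv_of_mul_eq_one_left (congrArg Subtype.val h : a * b = 1), Cfsg.Lib.Fischer.inv_eq hT hb])
      have hord : orderOf (⟨a * b, hab⟩ : commutator G) = 2 := orderOf_eq_prime (Subtype.ext (by
        rw [SubmonoidClass.coe_pow, hc.mul_pow, pow_two, pow_two, Cfsg.Lib.Fischer.mul_self hT ha,
          Cfsg.Lib.Fischer.mul_self hT hb, one_mul, Subgroup.coe_one])) hne1
      letI : CommGroup (commutator G) := { mul_comm := fun x y => mul_comm' x y }
      have hcard : Nat.card (commutator G) = 2 := by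
        rw [← hord, ← Nat.card_zpowers,
          ((IsSimpleGroup.eq_bot_or_eq_top_of_normal (Subgroup.zpowers (⟨a * b, hab⟩ : commutator G))
            inferInstance).resolve_left fun h => hne1 (by simpa using h.le (Subgroup.mem_zpowers _))),
          Subgroup.card_top]
      refine hne1 (Subtype.ext ?_)
      have hz : a * b ∈ Subgroup.center G := Subgroup.mem_center_iff.2 fun g => by
        have h1 : (⟨g * (a * b) * g⁻¹, Subgroup.Normal.conj_mem inferInstance _ hab g⟩ : commutator G) =
            ⟨a * b, hab⟩ := by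
          obtain ⟨u, v, huv, huniv⟩ := Nat.card_eq_two_iff.1 hcard
          have hg1 : (⟨g * (a * b) * g⁻¹, Subgroup.Normal.conj_mem inferInstance _ hab g⟩ : commutator G) ≠ 1 :=
            fun h => hne1 (Subtype.ext (conj_eq_one_iff.1 (congrArg Subtype.val h)))
          have hm : ∀ x : commutator G, x = u ∨ x = v := fun x => by
            have := Set.eq_univ_iff_forall.1 huniv x
            simpa using this
          rcases hm 1 with h1 | h1 <;> rcases hm ⟨a * b, hab⟩ with h2 | h2 <;>
            rcases hm ⟨g * (a * b) * g⁻¹, Subgroup.Normal.conj_mem inferInstance _ hab g⟩ with h3 | h3 <;>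
            first | exact h3.trans h2.symm | exact absurd (h2.trans h1.symm) hne1 | exact absurd (h3.trans h1.symm) hg1
        exact mul_inv_eq_iff_eq_mul.1 (congrArg Subtype.val h1)
      rw [hZ] at hz
      exact Subgroup.mem_bot.1 hz
    have hcore : ∀ p : ℕ, p.Prime → Cfsg.pCore p G = ⊥ := fun p hp => by
      by_contra h0
      haveI : Fact p.Prime := ⟨hp⟩
      have hpg : IsPGroup p (commutator G) :=
        (Lib.Core.pCore_isPGroup p G).to_le (hmin _ inferInstance h0)
      haveI := hs.1
      haveI := hpg.center_nontrivial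
      rcases IsSimpleGroup.eq_bot_or_eq_top_of_normal (Subgroup.center (commutator G)) inferInstance with h | h
      · exact (Subgroup.nontrivial_iff_ne_bot _).1 inferInstance h
      · exact hcom ⟨⟨fun x y => Subgroup.mem_center_iff.1 (h ▸ Subgroup.mem_top y) x⟩⟩
    have h2 := hcore 2 Nat.prime_two
    have h3 := hcore 3 Nat.prime_three
    obtain ⟨L, hLn, hL, -, hF⟩ := Cfsg.Lib.Fischer.exists_quasisimple hT hD2 (h2.le.trans bot_le) (h3.le.trans bot_le)
    haveI := hLn
    have hle : commutator G ≤ L := hmin L hLn (Lib.Core.IsComponent.ne_bot hL)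
    exact Cfsg.Lib.Fischer.primitive_of_index hT hD2 (h2.le.trans bot_le) (h3.le.trans bot_le) hL hF
      (Cfsg.Lib.Fischer.index_le_two hT L fun x hx y hy => hle (Cfsg.Lib.Fischer.mul_mem_commutator hT hx hy))
  · obtain ⟨h2, h3, hconn⟩ := h23 hp
    exact (h32 h2 h3 hconn).2

end Cfsg.Agent.S5361
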