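import Cfsg.Statements.S3704
import Cfsg.Agent.Lib.Recog.TwoOrbits

set_option autoImplicit false
open Cfsg

namespace Cfsg.Agent.S3704

/-- Let G be a finite group acting faithfully and 2-transitively on a finite set Ω of size n, and let H be a subgroup of index n in G which is not transitive on Ω and fixes no point of Ω. Then H has exactly two orbits on Ω. -/
theorem result {G Ω : Type*} [Group G] [Finite G] [MulAction G Ω] [FaithfulSMul G Ω] [Finite Ω] (h2 : MulAction.IsMultiplyPretransitive G Ω 2) (H : Subgroup G) (hidx : H.index = Nat.card Ω) (hnt : ¬ MulAction.IsPretransitive H Ω) (hfix : ∀ a : Ω, ∃ h : H, h • a ≠ a) : Nat.card (MulAction.orbitRel.Quotient H Ω) = 2 := by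
  classical
  haveI := Fintype.ofFinite Ω
  haveI := Fintype.ofFinite (G ⧸ H)
  have hn : 0 < Nat.card Ω := hidx ▸ Nat.pos_of_ne_zero Subgroup.index_ne_zero_of_finite
  haveI : Nonempty Ω := (Nat.card_pos_iff.1 hn).1
  haveI := h2
  haveI : MulAction.IsPretransitive G Ω := MulAction.isPretransitive_of_is_two_pretransitive
  have hcard : Fintype.card (G ⧸ H) = Fintype.card Ω := by
    rw [← Nat.card_eq_fintype_card, ← Nat.card_eq_fintype_card]
    exact hidx
  haveI := Fintype.ofFinite (MulAction.orbitRel.Quotient H Ω)
  rw [Nat.card_eq_fintype_card]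
  refine le_antisymm ?_ ?_
  · by_contra h3
    push Not at h3
    obtain ⟨a, b, c, hab, hac, hbc⟩ := Fintype.two_lt_card_iff.1 h3
    induction a using Quotient.inductionOn' with | h u => ?_
    induction b using Quotient.inductionOn' with | h v => ?_
    induction c using Quotient.inductionOn' with | h w => ?_
    have key : ∀ x y : Ω, (Quotient.mk'' x : MulAction.orbitRel.Quotient H Ω) ≠ Quotient.mk'' y →
        y ∉ MulAction.orbit H x := fun x y hne hmem =>
      hne ((Quotient.eq'').2 (MulAction.orbitRel_apply.2 (MulAction.mem_orbit_symm.1 hmem)))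
    exact Cfsg.Lib.Recog.TwoOrbits.no_three h2 hcard (key u v hab) (key u w hac) (key v w hbc)
  · by_contra h1
    push Not at h1
    refine hnt ⟨fun x y => ?_⟩
    have : (Quotient.mk'' y : MulAction.orbitRel.Quotient H Ω) = Quotient.mk'' x :=
      @Subsingleton.elim _ (Fintype.card_le_one_iff_subsingleton.1 (Nat.le_of_lt_succ h1)) _ _
    exact MulAction.orbitRel_apply.1 ((Quotient.eq'').1 this)

end Cfsg.Agent.S3704
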