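import Cfsg.Statements.S0440
import Cfsg.Agent.Lib.Linear.SymplecticGroup

set_option autoImplicit false
open Cfsg

namespace Cfsg.Agent.S0440

open Cfsg.Lib.Linear.Symp Module

variable (n : ℕ)

local notation "W" => (Fin n ⊕ Fin n → ZMod 2)

theorem zmod2_cases : ∀ a : ZMod 2, a = 0 ∨ a = 1 := by decide

/-- the transvection with centre v -/
noncomputable def tr (v : W) : iso (spB n (ZMod 2)) := tvG (spB_isAlt n (ZMod 2)) v 1

theorem tr_apply (v x : W) :
    ((tr n v : iso (spB n (ZMod 2))) : (W ≃ₗ[ZMod 2] W)) x = x + (spB n (ZMod 2) x v) • v := by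
  show x + (1 * spB n (ZMod 2) x v) • v = _
  rw [one_mul]

theorem tr_sq (v : W) : tr n v * tr n v = 1 := by
  rw [tr, ← tvG_add, show (1 : ZMod 2) + 1 = 0 by decide]
  exact Subtype.ext (tv_zero (spB_isAlt n (ZMod 2)) v)

theorem tr_ne_one {v : W} (hv : v ≠ 0) : tr n v ≠ 1 := by
  intro h
  apply hv
  refine (spB_nondegenerate n (ZMod 2)).2 v fun x => ?_
  have := congrArg (fun g : iso (spB n (ZMod 2)) => (g : (W ≃ₗ[ZMod 2] W)) x) h
  simp only [tr_apply] at this
  have h1 : (spB n (ZMod 2) x v) • v = 0 := by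
    have h2 : x + (spB n (ZMod 2) x v) • v = x := this
    simpa using h2
  rcases smul_eq_zero.mp h1 with h2 | h2
  · exact h2
  · simp [h2]

theorem tr_conj (g : iso (spB n (ZMod 2))) (v : W) :
    g * tr n v * g⁻¹ = tr n ((g : (W ≃ₗ[ZMod 2] W)) v) := tvG_conj _ g v 1

theorem symm_B (v w : W) : spB n (ZMod 2) v w = spB n (ZMod 2) w v := by
  exact (CharTwo.neg_eq _).symm.trans (LinearMap.IsAlt.neg (spB_isAlt n (ZMod 2)) v w)

theorem tr_pair (v w : W) : (tr n v * tr n w) ^ 2 = 1 ∨ (tr n v * tr n w) ^ 3 = 1 := by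
  have hi : ∀ u, (tr n u)⁻¹ = tr n u := fun u => inv_eq_of_mul_eq_one_right (tr_sq n u)
  have hvw : tr n v * tr n w * tr n v = tr n (w + spB n (ZMod 2) w v • v) := by
    have := tr_conj n (tr n v) w
    rw [hi, tr_apply] at this
    exact this
  rcases zmod2_cases (spB n (ZMod 2) w v) with h | h
  · left
    rw [h, zero_smul, add_zero] at hvw
    calc (tr n v * tr n w) ^ 2 = (tr n v * tr n w * tr n v) * tr n w := by simp only [pow_succ, pow_zero, one_mul, mul_assoc]
      _ = 1 := by rw [hvw, tr_sq]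
  · right
    have hwv : tr n w * tr n v * tr n w = tr n (v + spB n (ZMod 2) v w • w) := by
      have := tr_conj n (tr n w) v
      rw [hi, tr_apply] at this
      exact this
    rw [h, one_smul] at hvw
    rw [symm_B n v w, h, one_smul, add_comm] at hwv
    calc (tr n v * tr n w) ^ 3
        = (tr n v * tr n w * tr n v) * (tr n w * tr n v * tr n w) := by
          simp only [pow_succ, pow_zero, one_mul, mul_assoc]
      _ = 1 := by rw [hvw, hwv, tr_sq]

theorem rank_one_iff (A : Matrix.symplecticGroup (Fin n) (ZMod 2)) :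
    ((A : Matrix (Fin n ⊕ Fin n) (Fin n ⊕ Fin n) (ZMod 2)) - 1).rank = 1 ↔
      ∃ v : W, v ≠ 0 ∧ spEquiv A = tr n v := by
  set T : W →ₗ[ZMod 2] W :=
    Matrix.mulVecLin ((A : Matrix (Fin n ⊕ Fin n) (Fin n ⊕ Fin n) (ZMod 2)) - 1) with hT
  have hTx : ∀ x, (spEquiv A : (W ≃ₗ[ZMod 2] W)) x = x + T x := by
    intro x
    rw [spEquiv_apply, hT, Matrix.mulVecLin_apply, Matrix.sub_mulVec, Matrix.one_mulVec]
    abel
  show finrank (ZMod 2) (LinearMap.range T) = 1 ↔ _
  constructor
  · intro h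
    obtain ⟨⟨a, ha⟩, ha0, hspan⟩ := finrank_eq_one_iff'.mp h
    have ha0' : a ≠ 0 := fun e => ha0 (Subtype.ext e)
    choose f hf using fun x => hspan ⟨T x, LinearMap.mem_range_self T x⟩
    have hfx : ∀ x, T x = f x • a := fun x => (congrArg Subtype.val (hf x)).symm
    have hiso : ∀ x y, f x * spB n (ZMod 2) y a = f y * spB n (ZMod 2) x a := by
      intro x y
      have h2 := (spEquiv A).2 x y
      rw [hTx, hTx, hfx, hfx] at h2
      simp only [map_add, map_smul, LinearMap.add_apply, LinearMap.smul_apply, smul_eq_mul,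
        (spB_isAlt n (ZMod 2)).self_eq_zero, mul_zero, add_zero] at h2
      rw [symm_B n a y] at h2
      have h3 : f x * spB n (ZMod 2) y a + f y * spB n (ZMod 2) x a = 0 := by
        linear_combination h2
      exact CharTwo.add_eq_zero.mp h3
    obtain ⟨x0, hx0⟩ : ∃ x0, f x0 ≠ 0 := by
      obtain ⟨x0, hx0⟩ := ha
      refine ⟨x0, fun h0 => ha0' ?_⟩
      rw [← hx0, hfx, h0, zero_smul]
    have hf1 : f x0 = 1 := (zmod2_cases _).resolve_left hx0
    have hBf : ∀ y, spB n (ZMod 2) y a = f y * spB n (ZMod 2) x0 a := fun y => by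
      rw [← hiso x0 y, hf1, one_mul]
    have hx0a : spB n (ZMod 2) x0 a = 1 := by
      refine (zmod2_cases _).resolve_left fun h0 => ha0' ?_
      exact (spB_nondegenerate n (ZMod 2)).2 a fun y => by rw [hBf, h0, mul_zero]
    refine ⟨a, ha0', Subtype.ext (LinearEquiv.ext fun x => ?_)⟩
    rw [hTx, tr_apply, hfx, hBf x, hx0a, mul_one]
  · rintro ⟨v, hv, he⟩
    have hTv : ∀ x, T x = spB n (ZMod 2) x v • v := by
      intro x
      have := hTx x
      rw [he, tr_apply] at this
      exact (add_left_cancel this).symm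
    obtain ⟨x0, hx0⟩ : ∃ x0, spB n (ZMod 2) x0 v ≠ 0 := by
      by_contra hh
      push_neg at hh
      exact hv ((spB_nondegenerate n (ZMod 2)).2 v hh)
    have hr : LinearMap.range T = Submodule.span (ZMod 2) {v} := by
      apply le_antisymm
      · rintro _ ⟨x, rfl⟩
        rw [hTv]
        exact Submodule.smul_mem _ _ (Submodule.mem_span_singleton_self v)
      · rw [Submodule.span_singleton_le_iff_mem]
        exact ⟨x0, by rw [hTv, (zmod2_cases _).resolve_left hx0, one_smul]⟩
    rw [hr, finrank_span_singleton hv]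

/-- In the symplectic group in dimension 2n ≥ 2 over the field with two elements, the elements g for which g - 1 has rank one (the symplectic transvections) form a conjugacy class of 3-transpositions generating the group. -/
theorem result (n : ℕ) (hn : 1 ≤ n) : Cfsg.IsThreeTranspositionClass {g : Matrix.symplecticGroup (Fin n) (ZMod 2) | ((g : Matrix (Fin n ⊕ Fin n) (Fin n ⊕ Fin n) (ZMod 2)) - 1).rank = 1} := by
  set D := {g : Matrix.symplecticGroup (Fin n) (ZMod 2) |
    ((g : Matrix (Fin n ⊕ Fin n) (Fin n ⊕ Fin n) (ZMod 2)) - 1).rank = 1} with hD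
  have hmem : ∀ g, g ∈ D ↔ ∃ v, v ≠ 0 ∧ spEquiv g = tr n v := rank_one_iff n
  have hback : ∀ v, v ≠ 0 → spEquiv.symm (tr n v) ∈ D :=
    fun v hv => (hmem _).mpr ⟨v, hv, MulEquiv.apply_symm_apply _ _⟩
  refine ⟨⟨?_, ?_⟩, ?_, ?_⟩
  · intro d hd
    obtain ⟨v, hv, he⟩ := (hmem d).mp hd
    refine orderOf_eq_prime ?_ ?_
    · apply spEquiv.injective
      rw [map_pow, he, sq, tr_sq, map_one]
    · intro h
      rw [h, map_one] at he
      exact tr_ne_one n hv he.symm
  · intro d hd e hde
    obtain ⟨v, -, hev⟩ := (hmem d).mp hd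
    obtain ⟨w, -, hew⟩ := (hmem e).mp hde
    rcases tr_pair n v w with h | h
    · left; apply spEquiv.injective; rw [map_pow, map_mul, hev, hew, h, map_one]
    · right; apply spEquiv.injective; rw [map_pow, map_mul, hev, hew, h, map_one]
  · obtain ⟨i⟩ : Nonempty (Fin n ⊕ Fin n) := ⟨Sum.inl ⟨0, hn⟩⟩
    have hv0 : (Pi.single i 1 : Fin n ⊕ Fin n → ZMod 2) ≠ 0 := by simp
    refine ⟨_, hback _ hv0, Set.ext fun g => ?_⟩
    change _ ↔ IsConj _ g
    rw [isConj_iff]
    constructor
    · intro hg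
      obtain ⟨w, hw, he⟩ := (hmem g).mp hg
      obtain ⟨t, ht, htv⟩ := exists_iso_vec (spB_nondegenerate n (ZMod 2)) (spB_isAlt n (ZMod 2)) hv0 hw
      refine ⟨spEquiv.symm ⟨t, T_le_iso _ ⊥ ht⟩, spEquiv.injective ?_⟩
      rw [map_mul, map_mul, map_inv, MulEquiv.apply_symm_apply, MulEquiv.apply_symm_apply, tr_conj,
        he]
      exact congrArg (tr n) htv
    · rintro ⟨c, hc⟩
      refine (hmem g).mpr ⟨(spEquiv c : (Fin n ⊕ Fin n → ZMod 2) ≃ₗ[ZMod 2] (Fin n ⊕ Fin n → ZMod 2))
        (Pi.single i 1), (LinearEquiv.map_ne_zero_iff _).mpr hv0, ?_⟩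
      rw [← hc, map_mul, map_mul, map_inv, MulEquiv.apply_symm_apply, tr_conj]
  · rw [eq_top_iff]
    intro g _
    have h1 : Subgroup.closure {t : iso (spB n (ZMod 2)) | ∃ v c, t = tvG (spB_isAlt n (ZMod 2)) v c}
        ≤ (Subgroup.closure D).map spEquiv.toMonoidHom := by
      rw [Subgroup.closure_le]
      rintro _ ⟨v, c, rfl⟩
      rcases zmod2_cases c with rfl | rfl
      · have : tvG (spB_isAlt n (ZMod 2)) v 0 = 1 := Subtype.ext (tv_zero (spB_isAlt n (ZMod 2)) v)
        rw [this]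
        exact one_mem _
      · by_cases hv : v = 0
        · have : tvG (spB_isAlt n (ZMod 2)) v 1 = 1 :=
            Subtype.ext (LinearEquiv.ext fun x => by subst hv; simp [tvG])
          rw [this]
          exact one_mem _
        · exact ⟨_, Subgroup.subset_closure (hback v hv), MulEquiv.apply_symm_apply _ _⟩
    rw [closure_tvG (spB_nondegenerate n (ZMod 2))] at h1
    obtain ⟨g', hg', he⟩ := h1 (Subgroup.mem_top (spEquiv g))
    have he' : spEquiv g' = spEquiv g := he
    rwa [spEquiv.injective he'] at hg'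

end Cfsg.Agent.S0440
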