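import Cfsg.Statements.S3701
import Cfsg.Agent.Lib.Char.InvolutionSum
import Cfsg.Agent.Lib.Char.Linear
import Cfsg.Agent.Lib.Char.TI
import Cfsg.Agent.Lib.Coprime.Generation
import Cfsg.Agent.Lib.Recog.ThreeCubedModel
import Cfsg.Agent.Lib.Recog.ThreeCubedVectors

set_option autoImplicit false
set_option linter.style.haveILetI false
set_option linter.unusedSectionVars false
open Cfsg

namespace Cfsg.Agent.S3701

open Cfsg.Lib.Char Cfsg.Lib.Recog.ThreeCubed Matrix
open scoped ComplexConjugate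

section

variable {G : Type*} [Group G] [Fintype G]

/-- An integer function on the model, as a function on the subgroup. -/
def pull {H : Subgroup G} (φ : H ≃* Model) (F : Model → ℤ) : H → ℂ := fun h => (F (φ h) : ℂ)

theorem classInner_pull {H : Subgroup G} [Fintype H] (φ : H ≃* Model) (F F' : Model → ℤ) (n : ℤ)
    (h : ∑ x, F x * F' x = 108 * n) : classInner (pull φ F) (pull φ F') = (n : ℂ) := by
  have hc : Nat.card H = 108 := by
    rw [Nat.card_congr φ.toEquiv, Nat.card_eq_fintype_card]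
    decide +kernel
  have hs : ∑ x : H, (F (φ x) : ℂ) * conj ((F' (φ x) : ℂ)) = ((108 * n : ℤ) : ℂ) := by
    rw [← h, Int.cast_sum, ← φ.toEquiv.sum_comp]
    refine Finset.sum_congr rfl fun x _ => ?_
    simp
  simp only [classInner, pull]
  rw [hs, hc]
  push_cast
  ring

theorem pair_pull {H : Subgroup G} [Fintype H] [DecidableEq G] (φ : H ≃* Model) (F : Model → ℤ) :
    ∑ x ∈ involFinset H, ∑ y ∈ involFinset H, pull φ F (x * y) =
      ((∑ x ∈ invols, ∑ y ∈ invols, F (x * y) : ℤ) : ℂ) := by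
  have hmem : ∀ x : H, x ∈ involFinset H ↔ φ x ∈ invols := by
    intro x
    simp [mem_involFinset, invols, ← map_mul]
  push_cast
  refine Finset.sum_equiv φ.toEquiv hmem fun x _ => ?_
  refine Finset.sum_equiv φ.toEquiv hmem fun y _ => ?_
  simp [pull]

/-- The weights of a three-unit vector of norm three with the trivial character. -/
theorem weight_B {l q : ℂ} {a b c d σ τ : ℂ} (h1 : 1 + σ * a + τ * b = 0)
    (h2 : l + σ * c + τ * d = 0) (hσ : σ * σ = 1) (hτ : τ * τ = 1) (ha : a ≠ 0) (hb : b ≠ 0)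
    (h3 : l ^ 2 + σ * (c ^ 2 / a) + τ * (d ^ 2 / b) = q) :
    (σ * c - l * (σ * a)) ^ 2 = q * (σ * a) * (1 + σ * a) := by
  have e1 : σ * (c ^ 2 / a) = (σ * c) ^ 2 / (σ * a) := by
    have : σ ≠ 0 := left_ne_zero_of_mul_eq_one hσ
    field_simp
  have e2 : τ * (d ^ 2 / b) = (τ * d) ^ 2 / (τ * b) := by
    have : τ ≠ 0 := left_ne_zero_of_mul_eq_one hτ
    field_simp
  have hb' : τ * b = -(1 + σ * a) := by linear_combination h1
  have hd' : τ * d = -(l + σ * c) := by linear_combination h2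
  have hA : σ * a ≠ 0 := mul_ne_zero (left_ne_zero_of_mul_eq_one hσ) ha
  have hB : 1 + σ * a ≠ 0 := fun h => by
    have : τ * b = 0 := by rw [hb', h, neg_zero]
    exact hb ((mul_eq_zero.mp this).resolve_left (left_ne_zero_of_mul_eq_one hτ))
  rw [e1, e2, hb', hd'] at h3
  field_simp at h3
  linear_combination σ * h3

/-- The final equations: all three distinguished constituents have signed degree one. -/
theorem solve_weights {s R : ℂ} (hR : R ≠ 0) {L P : Fin 3 → ℂ} (hL : ∀ j, L j ≠ 0)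
    (hB : ∀ j, (P j - s * L j) ^ 2 = R * L j * (1 + L j))
    (h01 : P 0 * L 2 = P 2 * L 0) (h12 : P 1 * L 2 = P 2 * L 1)
    (hne : 1 + (L 0 + L 1 + L 2) ≠ 0)
    (hD : s ^ 2 + P 0 ^ 2 / L 0 + P 1 ^ 2 / L 1 + P 2 ^ 2 / L 2 -
      (s + (P 0 + P 1 + P 2)) ^ 2 / (1 + (L 0 + L 1 + L 2)) = 3 / 2 * R) : ∀ j, L j = 1 := by
  set r := P 2 / L 2 with hr
  have hP : ∀ j, P j = r * L j := by
    intro j
    rcases (show ∀ k : Fin 3, k = 0 ∨ k = 1 ∨ k = 2 by decide) j with rfl | rfl | rfl <;>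
      rw [hr, div_mul_eq_mul_div, eq_div_iff (hL 2)]
    · exact h01
    · exact h12
  have hB' : ∀ j, (r - s) ^ 2 * L j = R * (1 + L j) := by
    intro j
    have := hB j
    rw [hP j] at this
    refine mul_right_cancel₀ (hL j) ?_
    linear_combination this
  have hrs : (r - s) ^ 2 - R ≠ 0 := by
    intro h
    have := hB' 0
    have h' : R = 0 := by linear_combination (-1 : ℂ) * this + L 0 * h
    exact hR h'
  have heq : ∀ j, L j = L 0 := by
    intro j
    refine mul_left_cancel₀ hrs ?_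
    linear_combination hB' j - hB' 0
  rw [hP 0, hP 1, hP 2, heq 1, heq 2] at hD
  rw [heq 1, heq 2] at hne
  have h3 : (r - s) ^ 2 * (3 * L 0) = 3 / 2 * R * (1 + (L 0 + L 0 + L 0)) := by
    have e : (r * L 0) ^ 2 / L 0 = r ^ 2 * L 0 := by
      have := hL 0
      field_simp
    rw [e] at hD
    have hm := congrArg (· * (1 + (L 0 + L 0 + L 0))) hD
    simp only [sub_mul, div_mul_cancel₀ _ hne] at hm
    linear_combination hm
  have h4 : R * (1 - L 0) = 0 := by linear_combination (2 / 3 : ℂ) * h3 - 2 * hB' 0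
  intro j
  rw [heq j]
  have := (mul_eq_zero.mp h4).resolve_left hR
  linear_combination -this

theorem exists_linear_sign (H : Subgroup G) [Fintype H] (φ : H ≃* Model) (j : Fin 3)
    (lam : G →* ℂˣ)
    (hk : ∀ k, classInner (pull φ (funB k)) (fun h : H => ((lam h : ℂˣ) : ℂ)) =
      if k = j then 1 else 0) :
    ∀ h : H, ((lam h : ℂˣ) : ℂ) = (sg j (φ h) : ℂ) := by
  obtain ⟨hA, hB, ⟨a0, a1, a2⟩, ⟨b0, b1, b2⟩, hcube⟩ := invol_facts
  let μ : Model →* ℂ := ((Units.coeHom ℂ).comp (lam.comp H.subtype)).comp φ.symm.toMonoidHom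
  have hμ : ∀ h : H, μ (φ h) = ((lam h : ℂˣ) : ℂ) := fun h => by simp [μ]
  have hT : ∀ t : Model, t ^ 3 = 1 → μ t = 1 := by
    intro t ht
    obtain ⟨y, -, w, -, rfl⟩ := cube_commutator t ht
    have h1 : ∀ u v : Model, μ (u * v * u⁻¹ * v⁻¹) = 1 := by
      intro u v
      rw [map_mul, map_mul, map_mul, mul_comm (μ u), mul_assoc (μ v), ← map_mul μ u,
        mul_inv_cancel, map_one, mul_one, ← map_mul, mul_inv_cancel, map_one]
    rw [map_mul, h1, h1, mul_one]
  have hsq : ∀ x : Model, x * x = 1 → μ x = 1 ∨ μ x = -1 := fun x hx =>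
    mul_self_eq_one_iff.mp (by rw [← map_mul, hx, map_one])
  have hsgm : ∀ k, ∀ x y : Model, sg k (x * y) = sg k x * sg k y := by
    intro k x y
    simp [sg]
  have hdet : ∀ F : Model → ℤ, (∀ x y, F (x * y) = F x * F y) →
      (∀ t : Model, t ^ 3 = 1 → F t = 1) → μ invA = F invA → μ invB = F invB →
      ∀ x, μ x = F x := by
    intro F hF hF1 h1 h2 x
    obtain ⟨t, ht, p, q, rfl⟩ := decompose x
    fin_cases p <;> fin_cases q <;>
      simp [hF, hF1 t ht, hT t ht, h1, h2, map_mul]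
  have hclass : (∀ x, μ x = 1) ∨ ∃ k, ∀ x, μ x = sg k x := by
    rcases hsq _ hA with h1 | h1 <;> rcases hsq _ hB with h2 | h2
    · exact Or.inl fun x => by
        have := hdet (fun _ => 1) (fun _ _ => by simp) (fun _ _ => rfl) (by simpa using h1)
          (by simpa using h2) x
        simpa using this
    · exact Or.inr ⟨2, hdet _ (hsgm 2) (hcube 2) (by simp [h1, a2]) (by simp [h2, b2])⟩
    · exact Or.inr ⟨1, hdet _ (hsgm 1) (hcube 1) (by simp [h1, a1]) (by simp [h2, b1])⟩
    · exact Or.inr ⟨0, hdet _ (hsgm 0) (hcube 0) (by simp [h1, a0]) (by simp [h2, b0])⟩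
  have hfun : ∀ F : Model → ℤ, (∀ x, μ x = F x) →
      (fun h : H => ((lam h : ℂˣ) : ℂ)) = pull φ F := by
    intro F hF
    funext h
    rw [← hμ, hF]
    rfl
  rcases hclass with h | ⟨k, h⟩
  · exfalso
    have hc : ∀ k, classInner (pull φ (funB k)) (pull φ fun _ => 1) = ((1 : ℤ) : ℂ) := fun k =>
      classInner_pull φ _ _ 1 (by simpa using sum_one.1 k)
    have := hk (j + 1)
    rw [hfun (fun _ => 1) (by simpa using h), hc, if_neg ((show ∀ k : Fin 3, k + 1 ≠ k by decide) j)] at this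
    simp at this
  · have hc : classInner (pull φ (funB k)) (pull φ (sg k)) = ((1 : ℤ) : ℂ) :=
      classInner_pull φ _ _ 1 (by simpa using inner_Bsg k k)
    have := hk k
    rw [hfun _ h, hc] at this
    have hkj : k = j := by
      by_contra hne
      rw [if_neg hne] at this
      simp at this
    subst hkj
    exact fun x => by rw [← hμ, h]

/-- Three linear characters of `G` extending the sign characters. -/
theorem exists_linear_extensions [DecidableEq G] (H : Subgroup G) [Fintype H]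
    [DecidablePred (· ∈ H)] (φ : H ≃* Model)
    (hTI : ∀ x : G, x ∉ H → ∀ t : H, (t : G) * t ≠ 1 → x * t * x⁻¹ ∈ H →
      x * t * x⁻¹ * (x * t * x⁻¹) = 1) :
    ∀ j, ∃ lam : G →* ℂˣ, ∀ h : H, ((lam h : ℂˣ) : ℂ) = (sg j (φ h) : ℂ) := by
  classical
  -- generalized characters of `H`
  have hsgn : ∀ j, IsGeneralizedCharacter H (pull φ (sg j)) := fun j =>
    (isIrrCharacter_linear ((Units.map (Int.castRingHom ℂ).toMonoidHom).comp
      (Equiv.Perm.sign.comp ((proj j).comp φ.toMonoidHom)))).isGeneralized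
  have hfix : ∀ j, IsGeneralizedCharacter H (pull φ (fx j)) := fun j => by
    convert (isCharacter_fixedCount ((proj j).comp φ.toMonoidHom)).isGeneralized using 1
    funext h
    simp [pull, fx]
    congr!
  have hconst : ∀ n : ℕ, IsGeneralizedCharacter H (pull φ fun _ => (n : ℤ)) := fun n => by
    convert ((isCharacter_one (G := H)).natCast_smul n).isGeneralized using 1
    funext h
    simp [pull]
  have gadd : ∀ F F' : Model → ℤ, IsGeneralizedCharacter H (pull φ F) →
      IsGeneralizedCharacter H (pull φ F') → IsGeneralizedCharacter H (pull φ (F + F')) :=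
    fun F F' h h' => by convert h.add h' using 1; funext x; simp [pull]
  have gsub : ∀ F F' : Model → ℤ, IsGeneralizedCharacter H (pull φ F) →
      IsGeneralizedCharacter H (pull φ F') → IsGeneralizedCharacter H (pull φ (F - F')) :=
    fun F F' h h' => by convert h.sub h' using 1; funext x; simp [pull]
  have gmul : ∀ F F' : Model → ℤ, IsGeneralizedCharacter H (pull φ F) →
      IsGeneralizedCharacter H (pull φ F') → IsGeneralizedCharacter H (pull φ (F * F')) :=
    fun F F' h h' => by convert h.mul h' using 1; funext x; simp [pull]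
  have hf1 : ∀ j, IsGeneralizedCharacter H (pull φ (fx j - fun _ => ((1 : ℕ) : ℤ))) :=
    fun j => gsub _ _ (hfix j) (hconst 1)
  have gB : ∀ j, IsGeneralizedCharacter H (pull φ (funB j)) := fun j =>
    gsub _ _ (gadd _ _ (hconst 2) (hsgn j)) (hfix j)
  have gC : ∀ j, IsGeneralizedCharacter H (pull φ (funC j)) := fun j =>
    gsub _ _ (gadd _ _ (hsgn (j + 1)) (hsgn (j + 2))) (gmul _ _ (hsgn (j + 1)) (hf1 j))
  have gD : IsGeneralizedCharacter H (pull φ funD) :=
    gsub _ _ (gadd _ _ (gadd _ _ (gadd _ _ (hconst 1) (hsgn 0)) (hsgn 1)) (hsgn 2))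
      (gmul _ _ (hf1 0) (hf1 1))
  have gΔ : IsGeneralizedCharacter H (pull φ funΔ) :=
    gsub _ _ (gmul _ _ (hf1 0) (hf1 1)) (gmul _ _ (hf1 0) (hf1 2))
  -- the set on which they live
  have hvan : ∀ F : Model → ℤ, (∀ x, x * x = 1 → F x = 0) →
      ∀ h : H, (h : G) * h = 1 → pull φ F h = 0 := by
    intro F hF h hh
    have : φ h * φ h = 1 := by
      rw [← map_mul, show h * h = 1 from Subtype.ext hh, map_one]
    simp [pull, hF _ this]
  -- induced coefficients
  have hcoef : ∀ F : Model → ℤ, IsGeneralizedCharacter H (pull φ F) →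
      ∃ c : IrrCharacter G → ℤ,
        ∀ χ : IrrCharacter G, classInner (indFun H (pull φ F)) (χ : G → ℂ) = (c χ : ℂ) := by
    intro F hF
    choose c hc using fun χ : IrrCharacter G =>
      (isGeneralizedCharacter_indFun H hF).exists_int_classInner χ.2.isGeneralized
    exact ⟨c, hc⟩
  choose cB hcB using fun j => hcoef _ (gB j)
  choose cC hcC using fun j => hcoef _ (gC j)
  obtain ⟨cD, hcD⟩ := hcoef _ gD
  obtain ⟨cΔ, hcΔ⟩ := hcoef _ gΔ
  have vB : ∀ j x, x * x = 1 → funB j x = 0 := fun j x hx => (fun_vanish x hx).1 j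
  have vC : ∀ j x, x * x = 1 → funC j x = 0 := fun j x hx => (fun_vanish x hx).2.1 j
  have vD : ∀ x, x * x = 1 → funD x = 0 := fun x hx => (fun_vanish x hx).2.2.1
  have vΔ : ∀ x, x * x = 1 → funΔ x = 0 := fun x hx => (fun_vanish x hx).2.2.2
  -- inner products
  have hdot : ∀ {F F' : Model → ℤ} {c c' : IrrCharacter G → ℤ} (n : ℤ),
      IsGeneralizedCharacter H (pull φ F') →
      (∀ χ : IrrCharacter G, classInner (indFun H (pull φ F)) (χ : G → ℂ) = (c χ : ℂ)) →
      (∀ χ : IrrCharacter G, classInner (indFun H (pull φ F')) (χ : G → ℂ) = (c' χ : ℂ)) →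
      (∀ x, x * x = 1 → F x = 0) → (∀ x, x * x = 1 → F' x = 0) →
      ∑ x, F x * F' x = 108 * n → c ⬝ᵥ c' = n := by
    intro F F' c c' n hF' hc hc' hv hv' hs
    have h1 := classInner_indFun_TI H {t : G | t ∈ H ∧ t * t ≠ 1}
      (fun x hx t ht _ hm => hm.2 (hTI x hx ⟨t, ht.1⟩ ht.2 hm.1)) hF'.isClassFunction
      (fun y hy => hvan F hv y (by_contra fun h => hy ⟨y.2, h⟩))
      (fun y hy => hvan F' hv' y (by_contra fun h => hy ⟨y.2, h⟩))
      (hvan F hv 1 (by simp))
    rw [classInner_pull φ F F' n hs, classInner_eq_sum (isClassFunction_indFun H _)] at h1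
    simp only [hc, hc', map_intCast] at h1
    have : ((c ⬝ᵥ c' : ℤ) : ℂ) = (n : ℂ) := by
      rw [← h1]
      simp [dotProduct]
    exact_mod_cast this
  set o : IrrCharacter G := ⟨_, isIrrCharacter_one⟩ with ho
  have hone : ∀ {F : Model → ℤ} {c : IrrCharacter G → ℤ} (n : ℤ),
      (∀ χ : IrrCharacter G, classInner (indFun H (pull φ F)) (χ : G → ℂ) = (c χ : ℂ)) →
      ∑ x, F x = 108 * n → c o = n := by
    intro F c n hc hs
    have h1 := hc o
    rw [classInner_indFun H _ o.2.isClassFunction] at h1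
    have h2 := classInner_pull φ F (fun _ => 1) n (by simpa using hs)
    have h3 : (fun x : H => (o : G → ℂ) x) = pull φ fun _ => 1 := by
      funext x; simp [ho, pull]
    rw [h3, h2] at h1
    exact_mod_cast h1.symm
  choose deg hdegpos hdeg using fun χ : IrrCharacter G => χ.2.exists_degree
  -- the vanishing sums
  have hw : ∀ {F : Model → ℤ} {c : IrrCharacter G → ℤ} (w : IrrCharacter G → ℂ),
      (∀ χ : IrrCharacter G, classInner (indFun H (pull φ F)) (χ : G → ℂ) = (c χ : ℂ)) →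
      wsum c w = ∑ χ : IrrCharacter G, classInner (indFun H (pull φ F)) (χ : G → ℂ) * w χ := by
    intro F c w hc
    simp [wsum, hc]
  let wd : IrrCharacter G → ℂ := fun χ => (χ : G → ℂ) 1
  let wS : IrrCharacter G → ℂ := fun χ => ∑ x ∈ involFinset G, (χ : G → ℂ) x
  let wQ : IrrCharacter G → ℂ := fun χ => wS χ ^ 2 / wd χ
  have hdeg0 : ∀ {F : Model → ℤ} {c : IrrCharacter G → ℤ},
      (∀ χ : IrrCharacter G, classInner (indFun H (pull φ F)) (χ : G → ℂ) = (c χ : ℂ)) →
      (∀ x, x * x = 1 → F x = 0) → wsum c wd = 0 := by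
    intro F c hc hv
    rw [hw wd hc]
    have := congrFun (eq_sum_classInner (isClassFunction_indFun H (pull φ F))) 1
    simp only [Finset.sum_apply, Pi.smul_apply, smul_eq_mul] at this
    rw [← this, indFun_apply_one, hvan F hv 1 (by simp), mul_zero]
  have hS0 : ∀ {F : Model → ℤ} {c : IrrCharacter G → ℤ},
      (∀ χ : IrrCharacter G, classInner (indFun H (pull φ F)) (χ : G → ℂ) = (c χ : ℂ)) →
      (∀ x, x * x = 1 → F x = 0) → wsum c wS = 0 := by
    intro F c hc hv
    rw [hw wS hc, ← sum_invol_eq (isClassFunction_indFun H _)]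
    exact Finset.sum_eq_zero fun x hx =>
      indFun_invol_eq_zero H (hvan F hv) (mem_involFinset.mp hx).2
  have hQ : ∀ {F : Model → ℤ} {c : IrrCharacter G → ℤ} (p : ℤ),
      (∀ χ : IrrCharacter G, classInner (indFun H (pull φ F)) (χ : G → ℂ) = (c χ : ℂ)) →
      (∀ x, x * x = 1 → F x = 0) → ∑ x ∈ invols, ∑ y ∈ invols, F (x * y) = p →
      wsum c wQ = (H.index : ℂ) * p := by
    intro F c p hc hv hp
    rw [hw wQ hc, ← sum_invol_pair_eq (isClassFunction_indFun H _),
      sum_invol_pair_indFun H hTI (hvan F hv), pair_pull, hp]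
  have hintdeg : ∀ c : IrrCharacter G → ℤ,
      ((c ⬝ᵥ fun χ => (deg χ : ℤ) : ℤ) : ℂ) = wsum c wd := by
    intro c
    simp [wsum, dotProduct, wd, hdeg]
  have degO : deg o = 1 := by
    have := hdeg o
    simp only [ho] at this
    exact_mod_cast this.symm
  let X : Data (IrrCharacter G) :=
    { o := o
      d := fun χ => (deg χ : ℤ)
      B := cB
      D := cD
      Δ := cΔ
      d_pos := fun χ => by exact_mod_cast hdegpos χ
      d_o := by simp [degO]
      B_deg := fun j => by exact_mod_cast (hintdeg _).trans (hdeg0 (hcB j) (vB j))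
      B_o := fun j => hone 1 (hcB j) (by simpa using sum_one.1 j)
      BB := fun j k => hdot _ (gB k) (hcB j) (hcB k) (vB j) (vB k)
        (by rw [inner_BB]; split_ifs <;> rfl)
      D_o := hone 1 hcD (by simpa using sum_one.2.2.1)
      DD := hdot _ gD hcD hcD vD vD (by rw [inner_D.2]; rfl)
      DB := fun j => hdot _ (gB j) hcD (hcB j) vD (vB j) (by rw [inner_D.1]; rfl)
      Δ_o := hone 0 hcΔ (by simpa using sum_one.2.2.2)
      Δ_deg := by exact_mod_cast (hintdeg _).trans (hdeg0 hcΔ vΔ)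
      ΔΔ := hdot _ gΔ hcΔ hcΔ vΔ vΔ (by rw [inner_Δ.2.1]; rfl)
      ΔB := fun j => hdot _ (gB j) hcΔ (hcB j) vΔ (vB j) (by rw [inner_Δ.1]; rfl)
      ΔD := hdot _ gD hcΔ hcD vΔ vD (by rw [inner_Δ.2.2]; rfl) }
  obtain ⟨l, q, σ, τ, e, f, ε, hinj, hσ, hτ, hε, hB, hD, η, hη, hΔ⟩ := X.exists_shape
  have hC : ∀ j : Fin 3, ∃ h κ, cC j = Pi.single (l (j + 1)) (σ (j + 1)) +
      Pi.single (l (j + 2)) (σ (j + 2)) + Pi.single h κ := by
    intro j
    have hne : j ≠ j + 1 ∧ j ≠ j + 2 ∧ j + 1 ≠ j + 2 := by revert j; decide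
    refine X.c_shape hinj hσ hτ hε hη hB hD hΔ (hone 0 (hcC j) (by simpa using sum_one.2.1 j))
      (hdot _ (gC j) (hcC j) (hcC j) (vC j) (vC j) (by rw [(inner_C j).1]; rfl))
      j (j + 1) (j + 2) hne.1 hne.2.1 hne.2.2 ?_ ?_ ?_ ?_ ?_
    · exact hdot 0 (gB j) (hcC j) (hcB j) (vC j) (vB j) (by rw [inner_BC, if_pos rfl]; rfl)
    · exact hdot 1 (gB _) (hcC j) (hcB _) (vC j) (vB _) (by rw [inner_BC, if_neg hne.1]; rfl)
    · exact hdot 1 (gB _) (hcC j) (hcB _) (vC j) (vB _) (by rw [inner_BC, if_neg hne.2.1]; rfl)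
    · exact hdot 2 gD (hcC j) hcD (vC j) vD (by rw [(inner_C j).2.1]; rfl)
    · exact hdot 0 gΔ (hcC j) hcΔ (vC j) vΔ (by rw [(inner_C j).2.2]; rfl)
  -- the equations
  set N : ℂ := (H.index : ℂ) with hN
  have hN0 : N ≠ 0 := Nat.cast_ne_zero.mpr Subgroup.FiniteIndex.index_ne_zero
  set s : ℂ := wS o with hs
  have hwd0 : ∀ χ, wd χ ≠ 0 := fun χ => χ.2.apply_one_ne_zero
  have hoQ : wQ o = s ^ 2 := by simp [wQ, hs, wd, ho]
  have hod : wd o = 1 := by simp [wd, ho]
  have hunit : ∀ {a : ℤ}, (a = 1 ∨ a = -1) → (a : ℂ) * a = 1 := by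
    intro a ha; rcases ha with rfl | rfl <;> simp
  set L : Fin 3 → ℂ := fun j => (σ j : ℂ) * wd (l j) with hL
  set P : Fin 3 → ℂ := fun j => (σ j : ℂ) * wS (l j) with hP
  have hL0 : ∀ j, L j ≠ 0 := fun j =>
    mul_ne_zero (left_ne_zero_of_mul_eq_one (hunit (hσ j))) (hwd0 _)
  have hBeq : ∀ j, wsum (cB j) wd = 1 + L j + τ j * wd (q j) ∧
      wsum (cB j) wS = s + P j + τ j * wS (q j) ∧
      wsum (cB j) wQ = s ^ 2 + σ j * wQ (l j) + τ j * wQ (q j) := by
    intro j
    have : cB j = _ := hB j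
    simp [this, wsum_add, wsum_single, hod, hoQ, hs, hL, hP, X]
  have hQL : ∀ j, (σ j : ℂ) * wQ (l j) = P j ^ 2 / L j := by
    intro j
    have := hwd0 (l j)
    rcases hσ j with a | a <;> simp [hP, hL, a, wQ, div_neg, neg_div]
  set R : ℂ := N * 648 with hRdef
  have hRB : ∀ j, (P j - s * L j) ^ 2 = R * L j * (1 + L j) ∧ 1 + L j ≠ 0 := by
    intro j
    obtain ⟨e1, e2, e3⟩ := hBeq j
    rw [hdeg0 (hcB j) (vB j)] at e1
    rw [hS0 (hcB j) (vB j)] at e2
    rw [hQ 648 (hcB j) (vB j) (pair_sums.1 j)] at e3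
    refine ⟨?_, fun h => ?_⟩
    · exact weight_B e1.symm e2.symm (hunit (hσ j)) (hunit (hτ j)) (hwd0 _) (hwd0 _)
        (by simpa [hRdef, wQ] using e3.symm)
    · rw [h, zero_add] at e1
      exact hwd0 (q j) ((mul_eq_zero.mp e1.symm).resolve_left
        (left_ne_zero_of_mul_eq_one (hunit (hτ j))))
  have hcross : ∀ j : Fin 3, P (j + 1) * L (j + 2) = P (j + 2) * L (j + 1) := by
    intro j
    obtain ⟨h, κ, hCj⟩ := hC j
    have e1 := hdeg0 (hcC j) (vC j)
    have e2 := hS0 (hcC j) (vC j)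
    have e3 := hQ 0 (hcC j) (vC j) (pair_sums.2.1 j)
    simp only [hCj, wsum_add, wsum_single, hQL, Int.cast_zero, mul_zero] at e1 e2 e3
    change L (j + 1) + L (j + 2) + κ * wd h = 0 at e1
    change P (j + 1) + P (j + 2) + κ * wS h = 0 at e2
    have hw0 := hwd0 h
    have ha := hL0 (j + 1)
    have hb := hL0 (j + 2)
    have hS' : (κ : ℂ) * wS h = -(P (j + 1) + P (j + 2)) := by linear_combination e2
    have hd' : (κ : ℂ) * wd h = -(L (j + 1) + L (j + 2)) := by linear_combination e1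
    simp only [wQ] at e3
    field_simp at e3
    refine sub_eq_zero.mp (pow_eq_zero_iff (two_ne_zero) |>.mp ?_)
    have key : (L (j + 1) + L (j + 2)) * (P (j + 1) ^ 2 * L (j + 2) + P (j + 2) ^ 2 * L (j + 1)) -
        (P (j + 1) + P (j + 2)) ^ 2 * (L (j + 1) * L (j + 2)) = 0 := by
      linear_combination (-(κ : ℂ)) * e3 +
        (P (j + 1) ^ 2 * L (j + 2) + P (j + 2) ^ 2 * L (j + 1)) * hd' +
        (L (j + 1) * L (j + 2)) * ((κ : ℂ) * wS h - (P (j + 1) + P (j + 2))) * hS'
    linear_combination key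
  have hDeq : 1 + L 0 + L 1 + L 2 + ε * wd e = 0 ∧ s + P 0 + P 1 + P 2 + ε * wS e = 0 ∧
      s ^ 2 + P 0 ^ 2 / L 0 + P 1 ^ 2 / L 1 + P 2 ^ 2 / L 2 + ε * wQ e = N * 972 := by
    have hD' : cD = _ := hD
    have e1 := hdeg0 hcD vD
    have e2 := hS0 hcD vD
    have e3 := hQ 972 hcD vD pair_sums.2.2
    simp only [hD', wsum_add, wsum_single, hQL, X, hoQ, hod, Int.cast_one, one_mul] at e1 e2 e3
    exact ⟨e1, e2, by simpa [hN] using e3⟩
  obtain ⟨eD1, eD2, eD3⟩ := hDeq
  have hne : 1 + (L 0 + L 1 + L 2) ≠ 0 := fun h => hwd0 e ((mul_eq_zero.mp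
    (show (ε : ℂ) * wd e = 0 by linear_combination eD1 - h)).resolve_left
    (left_ne_zero_of_mul_eq_one (hunit hε)))
  have hL1 : ∀ j, L j = 1 := by
    refine solve_weights (R := R) (s := s) (mul_ne_zero hN0 (by norm_num)) hL0
      (fun j => (hRB j).1) ?_ ?_ hne ?_
    · exact (hcross 1).symm
    · exact hcross 0
    · have hS' : (ε : ℂ) * wQ e =
          -((s + (P 0 + P 1 + P 2)) ^ 2 / (1 + (L 0 + L 1 + L 2))) := by
        have h1 : wS e = -(ε : ℂ) * (s + (P 0 + P 1 + P 2)) := by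
          linear_combination (ε : ℂ) * eD2 - wS e * hunit hε
        have h2 : wd e = -(ε : ℂ) * (1 + (L 0 + L 1 + L 2)) := by
          linear_combination (ε : ℂ) * eD1 - wd e * hunit hε
        simp only [wQ, h1, h2]
        rcases hε with a | a <;> subst a <;> push_cast <;> field_simp
      rw [hS'] at eD3
      linear_combination eD3
  -- the linear characters
  intro j
  have hdl : wd (l j) = 1 ∧ σ j = 1 := by
    have h := hL1 j
    simp only [hL, wd, hdeg] at h
    have h' : σ j * (deg (l j) : ℤ) = 1 := by exact_mod_cast h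
    have := hdegpos (l j)
    rcases hσ j with a | a <;> rw [a] at h'
    · refine ⟨?_, a⟩
      simp only [wd, hdeg]
      exact_mod_cast (by omega : (deg (l j) : ℤ) = 1)
    · omega
  obtain ⟨lam, hlam⟩ := exists_hom_of_degree_one (l j).2.isCharacter hdl.1
  refine ⟨lam, exists_linear_sign H φ j lam fun k => ?_⟩
  have h1 := hcB k (l j)
  rw [classInner_indFun H _ (l j).2.isClassFunction] at h1
  simp only [hlam] at h1
  rw [h1]
  have hv : cB k (l j) = if k = j then 1 else 0 := by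
    have hk' : cB k = _ := hB k
    have hlo : l j ≠ o := fun h => absurd (hinj (a₁ := Sum.inl (j, false))
      (a₂ := Sum.inr none) (by simpa [X] using h)) Sum.inl_ne_inr
    have hlq : l j ≠ q k := fun h => absurd (congrArg Prod.snd (Sum.inl_injective
      (hinj (a₁ := Sum.inl (j, false)) (a₂ := Sum.inl (k, true)) (by simpa using h)))) (by simp)
    by_cases hkj : k = j
    · subst hkj
      simp [hk', X, hlo, hlq, hdl.2]
    · have hll : l j ≠ l k := fun h => hkj (congrArg Prod.fst (Sum.inl_injective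
        (hinj (a₁ := Sum.inl (k, false)) (a₂ := Sum.inl (j, false)) (by simpa using h.symm))))
      simp [hk', X, hlo, hlq, hll, hkj]
  rw [hv]
  split_ifs <;> simp

end


/-- Let H₀ ≤ Sym(9) be generated by the 3-cycles (1 2 3), (4 5 6), (7 8 9) and the involutions (1 2)(4 5), (1 2)(7 8) (a group of order 108, elementary abelian of order 27 extended by a four-group). Let G be a finite group with a subgroup H ≅ H₀, and T ≤ H of order 27 (a Sylow 3-subgroup of H) with N_G(T) = H and C_G(t) ≤ H for every t ≠ 1 in T. Then G = H. -/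
theorem result {G : Type*} [Group G] [Finite G] (H : Subgroup G)
    (hH : Nonempty (↥H ≃* ↥(Subgroup.closure ({Equiv.swap (0 : Fin 9) 1 * Equiv.swap 1 2, Equiv.swap (3 : Fin 9) 4 * Equiv.swap 4 5, Equiv.swap (6 : Fin 9) 7 * Equiv.swap 7 8,
        Equiv.swap (0 : Fin 9) 1 * Equiv.swap 3 4, Equiv.swap (0 : Fin 9) 1 * Equiv.swap 6 7} : Set (Equiv.Perm (Fin 9))))))
    (T : Subgroup G) (hTH : T ≤ H) (hT : Nat.card T = 27) (hN : Subgroup.normalizer (T : Set G) = H)
    (hC : ∀ t ∈ T, t ≠ 1 → Subgroup.centralizer ({t} : Set G) ≤ H) : H = ⊤ := by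
  classical
  haveI := Fintype.ofFinite G
  haveI := Fintype.ofFinite H
  obtain ⟨e₀⟩ := hH
  let φ : H ≃* Model := e₀.trans modelEquiv
  have hc108 : ∀ x : G, x ∈ H → x ^ 6 = 1 := fun x hx => by
    have h := pow_six (φ ⟨x, hx⟩)
    rw [← map_pow, map_eq_one_iff φ φ.injective] at h
    exact congrArg Subtype.val h
  -- `T` is the set of solutions of `x ^ 3 = 1` in `H`
  have hT3 : ∀ x : G, x ∈ T → x ^ 3 = 1 := fun x hx => by
    have h1 : orderOf x ∣ 6 := orderOf_dvd_of_pow_eq_one (hc108 x (hTH hx))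
    have h2 : orderOf x ∣ 27 := hT ▸ (Subgroup.orderOf_mk x hx ▸ orderOf_dvd_natCard _)
    exact orderOf_dvd_iff_pow_eq_one.mp (Nat.dvd_gcd h1 h2)
  have hT' : ∀ x : H, (x : G) ∈ T ↔ φ x ^ 3 = 1 := by
    have hsub : (Finset.univ.filter fun x : Model => (φ.symm x : G) ∈ T) ⊆
        Finset.univ.filter fun x : Model => x ^ 3 = 1 := by
      intro x hx
      simp only [Finset.mem_filter, Finset.mem_univ, true_and] at hx ⊢
      rw [← map_eq_one_iff φ.symm φ.symm.injective, map_pow]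
      exact Subtype.ext (hT3 _ hx)
    have hcard : (Finset.univ.filter fun x : Model => (φ.symm x : G) ∈ T).card = 27 := by
      rw [← hT, ← Fintype.card_subtype, ← Nat.card_eq_fintype_card]
      exact Nat.card_congr
        { toFun := fun x => ⟨_, x.2⟩
          invFun := fun t => ⟨φ ⟨t, hTH t.2⟩, by simp⟩
          left_inv := fun x => Subtype.ext (by simp)
          right_inv := fun t => Subtype.ext (by simp) }
    have heq := Finset.eq_of_subset_of_card_le hsub (by rw [hcard, card_cube])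
    intro x
    simpa using Finset.ext_iff.mp heq (φ x)
  have hab : ∀ a ∈ T, ∀ b ∈ T, a * b = b * a := fun a ha b hb => by
    have h := cube_comm (φ ⟨a, hTH ha⟩) ((hT' _).mp ha) (φ ⟨b, hTH hb⟩) ((hT' _).mp hb)
    rw [← map_mul, ← map_mul] at h
    exact congrArg Subtype.val (φ.injective h)
  -- trivial intersections
  have hTI : ∀ x : G, x ∉ H → ∀ t : H, (t : G) * t ≠ 1 → x * t * x⁻¹ ∈ H →
      x * t * x⁻¹ * (x * t * x⁻¹) = 1 := by
    intro x hx t ht hm
    by_contra hne
    have hsq : ∀ y : G, y ∈ H → y * y ∈ T := fun y hy => by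
      refine (hT' ⟨y * y, H.mul_mem hy hy⟩).mpr ?_
      rw [show (⟨y * y, H.mul_mem hy hy⟩ : H) = (⟨y, hy⟩ : H) ^ 2 from
        Subtype.ext (pow_two y).symm, map_pow, ← pow_mul]
      exact pow_six _
    apply hx
    rw [← hN, Subgroup.mem_normalizer_iff]
    have hle : ∀ y ∈ T, x * y * x⁻¹ ∈ T := by
      intro y hy
      have h1 : x * y * x⁻¹ ∈ H := by
        refine hC _ (hsq _ hm) hne (Subgroup.mem_centralizer_singleton_iff.mpr ?_)
        have := hab _ hy _ (hsq _ t.2)
        calc x * y * x⁻¹ * (x * t * x⁻¹ * (x * t * x⁻¹)) = x * (y * (t * t)) * x⁻¹ := by group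
          _ = x * ((t : G) * t * y) * x⁻¹ := by rw [this]
          _ = _ := by group
      refine (hT' ⟨_, h1⟩).mpr ?_
      rw [← map_pow, map_eq_one_iff φ φ.injective]
      refine Subtype.ext ?_
      rw [Subgroup.coe_pow, conj_pow, hT3 y hy, mul_one, mul_inv_cancel]
      rfl
    intro y
    refine ⟨hle y, fun hy => ?_⟩
    have hbij : Function.Surjective (fun z : T => (⟨x * z * x⁻¹, hle z z.2⟩ : T)) :=
      Finite.surjective_of_injective fun a b h => Subtype.ext
        (mul_left_cancel (mul_right_cancel (congrArg Subtype.val h)))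
    obtain ⟨z, hz⟩ := hbij ⟨_, hy⟩
    have := congrArg Subtype.val hz
    simp only [mul_left_inj, mul_right_inj] at this
    exact this ▸ z.2
  -- the normal subgroup
  choose lam hlam using exists_linear_extensions H φ hTI
  set G0 : Subgroup G := (lam 0).ker ⊓ (lam 1).ker with hG0
  haveI : G0.Normal := inferInstance
  have hG0H : ∀ x : H, (x : G) ∈ G0 ↔ (x : G) ∈ T := by
    intro x
    rw [hT', ← cube_iff]
    simp only [hG0, Subgroup.mem_inf, MonoidHom.mem_ker, ← Units.val_eq_one, hlam]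
    norm_cast
  have hTG0 : T ≤ G0 := fun x hx => (hG0H ⟨x, hTH hx⟩).mpr hx
  have hfinal : ∀ (hTn : T.Normal), H = ⊤ := fun hTn => by
    rw [← hN, Subgroup.normalizer_eq_top_iff]
    exact hTn
  haveI : Fact (Nat.Prime 3) := ⟨by norm_num⟩
  set T0 : Subgroup G0 := T.subgroupOf G0 with hT0
  have hp : IsPGroup 3 T0 := IsPGroup.of_card (n := 3) (by
    rw [hT0, Nat.card_congr (Subgroup.subgroupOfEquivOfLe hTG0).toEquiv, hT]; norm_num)
  obtain ⟨P, hP⟩ := hp.exists_le_sylow
  have hnorm : ∀ g : G0, g ∈ Subgroup.normalizer (T0 : Set G0) → g ∈ T0 := by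
    intro g hg
    have hgH : (g : G) ∈ H := by
      rw [← hN, Subgroup.mem_normalizer_iff]
      intro y
      constructor
      · intro hy
        exact (Subgroup.mem_normalizer_iff.mp hg ⟨y, hTG0 hy⟩).mp hy
      · intro hy
        have hy0 : y ∈ G0 := by
          have := G0.mul_mem (G0.mul_mem (G0.inv_mem g.2) (hTG0 hy)) g.2
          simpa [mul_assoc] using this
        exact (Subgroup.mem_normalizer_iff.mp hg ⟨y, hy0⟩).mpr hy
    exact (hG0H ⟨g, hgH⟩).mp g.2
  have hPeq : (P : Subgroup G0) = T0 := by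
    by_contra hne
    have hlt : T0.subgroupOf P < ⊤ := lt_top_iff_ne_top.mpr fun h =>
      hne (le_antisymm (Subgroup.subgroupOf_eq_top.mp h) hP)
    haveI := P.isPGroup'.isNilpotent
    obtain ⟨g, hg, hgn⟩ :=
      SetLike.exists_of_lt (Group.normalizerCondition_of_isNilpotent (T0.subgroupOf P) hlt)
    refine hgn (hnorm g ?_)
    rw [Subgroup.mem_normalizer_iff]
    intro y
    constructor
    · intro hy
      exact (Subgroup.mem_normalizer_iff.mp hg ⟨y, hP hy⟩).mp hy
    · intro hy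
      have hyP : y ∈ (P : Subgroup G0) := by
        have := P.mul_mem (P.mul_mem (P.inv_mem g.2) (hP hy)) g.2
        simpa [mul_assoc] using this
      exact (Subgroup.mem_normalizer_iff.mp hg ⟨y, hyP⟩).mpr hy
  have hBurn : Subgroup.normalizer (P : Set G0) ≤ Subgroup.centralizer (P : Set G0) := by
    intro g hg
    rw [Subgroup.mem_centralizer_iff]
    intro y hy
    have hy' : y ∈ (P : Subgroup G0) := hy
    have hg' : g ∈ Subgroup.normalizer ((P : Subgroup G0) : Set G0) := hg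
    rw [hPeq] at hy' hg'
    exact Subtype.ext (hab _ hy' _ (hnorm g hg'))
  obtain ⟨K0, hK0n, hcompl, hK0c⟩ : ∃ K0 : Subgroup G0, K0.Normal ∧
      K0.IsComplement' (P : Subgroup G0) ∧ ¬ 3 ∣ Nat.card K0 :=
    ⟨_, MonoidHom.normal_ker _, MonoidHom.ker_transferSylow_isComplement' P hBurn,
      MonoidHom.not_dvd_card_ker_transferSylow P hBurn⟩
  set K : Subgroup G := K0.map G0.subtype with hK
  have hKG0 : K ≤ G0 := Subgroup.map_subtype_le _
  have hKT : K ⊓ T = ⊥ := by
    rw [Subgroup.eq_bot_iff_forall]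
    rintro _ ⟨⟨g, hg, rfl⟩, hgT⟩
    have h1 : g ∈ K0 ⊓ (P : Subgroup G0) :=
      ⟨hg, by rw [hPeq]; exact hgT⟩
    rw [hcompl.disjoint.eq_bot] at h1
    rw [Subgroup.mem_bot.mp h1]
    rfl
  have hcop : (Nat.card T).Coprime (Nat.card K) := by
    rw [hT, hK, Subgroup.card_map_of_injective (Subgroup.subtype_injective G0)]
    exact Nat.Coprime.pow_left 3 ((Nat.prime_three.coprime_iff_not_dvd).mpr hK0c)
  have hTK : T ≤ Subgroup.normalizer (K : Set G) := by
    intro t ht
    rw [Subgroup.mem_normalizer_iff]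
    have h : ∀ s ∈ G0, ∀ y ∈ K, s * y * s⁻¹ ∈ K := by
      rintro s hs _ ⟨y, hy, rfl⟩
      exact ⟨⟨s, hs⟩ * y * ⟨s, hs⟩⁻¹, hK0n.conj_mem _ hy _, rfl⟩
    intro y
    refine ⟨h t (hTG0 ht) y, fun hy => ?_⟩
    have := h t⁻¹ (G0.inv_mem (hTG0 ht)) _ hy
    simpa [mul_assoc] using this
  haveI : IsMulCommutative T := ⟨⟨fun a b => Subtype.ext (hab _ a.2 _ b.2)⟩⟩
  have hnc : ¬ IsCyclic T := fun hcyc => by
    obtain ⟨g, hg⟩ := hcyc.exists_generator
    have h1 : orderOf g = 27 := by rw [orderOf_eq_card_of_forall_mem_zpowers hg, hT]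
    have h2 : orderOf g ∣ 3 := orderOf_dvd_of_pow_eq_one (Subtype.ext (hT3 _ g.2))
    rw [h1] at h2
    norm_num at h2
  have hK1 : K = ⊥ := by
    refine le_bot_iff.mp ((Cfsg.Lib.Coprime.le_iSup_centralizer_of_not_isCyclic hnc hTK
      hcop).trans (iSup_le ?_))
    rintro ⟨t, ht, ht1⟩ x ⟨hxK, hxC⟩
    have hxH := hC t ht ht1 hxC
    have hxT := (hG0H ⟨x, hxH⟩).mp (hKG0 hxK)
    exact hKT ▸ (⟨hxK, hxT⟩ : x ∈ K ⊓ T)
  refine hfinal ?_
  have : G0 = T := by
    refine le_antisymm (fun x hx => ?_) hTG0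
    have h1 := hcompl.sup_eq_top
    rw [hK, Subgroup.map_eq_bot_iff_of_injective _ (Subgroup.subtype_injective G0)] at hK1
    rw [hK1, bot_sup_eq, hPeq, hT0, Subgroup.subgroupOf_eq_top] at h1
    exact h1 hx
  rwa [this] at ‹G0.Normal›

end Cfsg.Agent.S3701
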