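import Cfsg.Statements.S3702
import Cfsg.Agent.S3701
import Cfsg.Agent.Lib.Recog.ThreeCubedFour.Chars
import Cfsg.Agent.Lib.Recog.ThreeCubedFour.Inner

set_option autoImplicit false
open Cfsg

namespace Cfsg.Agent.S3702

open Cfsg.Lib.Recog.ThreeCubedFour

/-- Let K ≤ Sym(9) be generated by (1 2 3), (1 4 7)(2 5 8)(3 6 9), (1 2)(4 5) and (1 4)(2 5)(3 6)(7 8) (the normalizer in Alt(9) of the elementary abelian group generated by (1 2 3), (4 5 6), (7 8 9)). Let G be a finite group with a subgroup H ≅ K and J = O₃(H). If C_G(j) ≤ H for every j ≠ 1 in J and J is strongly closed in H with respect to G (a G-conjugate of an element of J lying in H lies in J), then G = H. -/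
theorem result {G : Type*} [Group G] [Finite G] (H : Subgroup G)
    (hH : Nonempty (↥H ≃* ↥(Subgroup.closure ({Equiv.swap (0 : Fin 9) 1 * Equiv.swap 1 2,
        Equiv.swap (0 : Fin 9) 3 * Equiv.swap 3 6 * (Equiv.swap (1 : Fin 9) 4 * Equiv.swap 4 7) * (Equiv.swap (2 : Fin 9) 5 * Equiv.swap 5 8),
        Equiv.swap (0 : Fin 9) 1 * Equiv.swap 3 4, Equiv.swap (0 : Fin 9) 3 * Equiv.swap 1 4 * Equiv.swap 2 5 * Equiv.swap 6 7} : Set (Equiv.Perm (Fin 9))))))
    (J : Subgroup G) (hJ : J = (Cfsg.pCore 3 ↥H).map H.subtype)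
    (hC : ∀ j ∈ J, j ≠ 1 → Subgroup.centralizer ({j} : Set G) ≤ H) (hsc : Cfsg.IsStronglyClosed J H) : H = ⊤ := by
  classical
  obtain ⟨e₀⟩ := hH
  let φ : H ≃* Model :=
    e₀.trans ((MulEquiv.subgroupCongr range_modelPerm.symm).trans
      (MonoidHom.ofInjective modelPerm_injective).symm)
  have memJ : ∀ x : H, (x : G) ∈ J ↔ InBase (φ x) := by
    intro x
    rw [← mem_baseSub, ← pCore_model, ← Cfsg.Lib.Core.map_pCore_equiv (p := 3) φ, hJ]
    exact (Subgroup.mem_map_iff_mem H.subtype_injective).trans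
      (Subgroup.mem_map_iff_mem φ.injective).symm
  let X : Setting G :=
    { H := H
      φ := φ
      J := J
      J_le := hsc.1
      mem_J := memJ
      cent_le := hC }
  obtain ⟨M, hMn, hM⟩ := X.exists_normal
  have hJM : J ≤ M := by
    intro j hj
    rw [show j = X.hom (φ ⟨j, hsc.1 hj⟩) from (X.hom_φ ⟨j, hsc.1 hj⟩).symm, hM]
    exact ((memJ ⟨j, hsc.1 hj⟩).mp hj).1
  have hMp : ∀ x : H, (x : G) ∈ M → φ x ∈ blockStab := by
    intro x hx
    have := (hM (φ x)).mp (by rw [show X.hom (φ x) = (x : G) from X.hom_φ x]; exact hx)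
    exact this
  let ψ : ↥(H.subgroupOf M) ≃* ↥blockStab :=
    { toFun := fun x => ⟨φ ⟨x.1.1, x.2⟩, hMp ⟨x.1.1, x.2⟩ x.1.2⟩
      invFun := fun y => ⟨⟨X.hom y.1, (hM y.1).mpr y.2⟩, X.hom_mem y.1⟩
      left_inv := fun x => Subtype.ext (Subtype.ext (X.hom_φ ⟨x.1.1, x.2⟩))
      right_inv := fun y => Subtype.ext (X.φ_hom y.1)
      map_mul' := fun x y => Subtype.ext (map_mul φ ⟨x.1.1, x.2⟩ ⟨y.1.1, y.2⟩) }
  have hcard : Nat.card J = 27 := by
    rw [← card_inBase, ← Fintype.card_subtype, ← Nat.card_eq_fintype_card]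
    exact Nat.card_congr
      { toFun := fun j => ⟨φ ⟨j, hsc.1 j.2⟩, (memJ _).mp j.2⟩
        invFun := fun x => ⟨X.hom x.1, X.hom_mem_J.mpr x.2⟩
        left_inv := fun j => Subtype.ext (X.hom_φ ⟨j.1, hsc.1 j.2⟩)
        right_inv := fun x => Subtype.ext (X.φ_hom x.1) }
  have hnorm : ∀ h ∈ H, ∀ j ∈ J, h * j * h⁻¹ ∈ J := fun h hh j hj =>
    hsc.2 j hj h (mul_mem (mul_mem hh (hsc.1 hj)) (inv_mem hh))
  have htop : H.subgroupOf M = ⊤ := by
    refine Cfsg.Agent.S3701.result (H.subgroupOf M)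
      ⟨ψ.trans ((Subgroup.equivMapOfInjective _ _ modelPerm_injective).trans
        (MulEquiv.subgroupCongr map_blockStab))⟩
      (J.subgroupOf M) (fun x hx => hsc.1 hx) ?_ ?_ ?_
    · rw [Nat.card_congr (Subgroup.subgroupOfEquivOfLe hJM).toEquiv, hcard]
    · ext n
      constructor
      · intro hn
        refine X.mem_H_of_normalize (n := (n : G)) fun j hj => ?_
        exact (Subgroup.mem_normalizer_iff.mp hn ⟨j, hJM hj⟩).mp hj
      · intro hn
        refine Subgroup.mem_normalizer_iff.mpr fun t => ⟨fun ht => hnorm _ hn _ ht, fun ht => ?_⟩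
        have := hnorm _ (inv_mem hn) _ ht
        simpa [Subgroup.mem_subgroupOf, mul_assoc] using this
    · intro t ht ht1 c hc
      refine hC t ht (fun e => ht1 (Subtype.ext e)) ?_
      rw [Subgroup.mem_centralizer_singleton_iff] at hc ⊢
      exact congrArg Subtype.val hc
  rw [Subgroup.subgroupOf_eq_top] at htop
  rw [eq_top_iff]
  intro g _
  exact X.mem_H_of_normalize fun j hj => hsc.2 j hj g (htop (hMn.conj_mem j (hJM hj) g))

end Cfsg.Agent.S3702
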