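import Cfsg.Statements.S2912
import Mathlib

set_option linter.style.haveILetI false

set_option autoImplicit false
open Cfsg

namespace Cfsg.Agent.S2912

open Polynomial

set_option maxHeartbeats 1000000 in
/-- Core: a group with central commutators acting faithfully. -/
theorem core {p r n : ℕ} [Fact p.Prime] [Fact r.Prime] (hpr : p ≠ r) {E : Type*} [Group E] [Finite E] {w : ℕ}
    (hZc : Nat.card (Subgroup.center E) = p) (hcomm : ∀ a b : E, a * b * a⁻¹ * b⁻¹ ∈ Subgroup.center E)
    (hEcard : Nat.card E = p ^ (2 * w + 1))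
    {V : Type*} [AddCommGroup V] [Module (ZMod r) V] [Finite V] (ρ : E →* Module.End (ZMod r) V) (hρ : Function.Injective ρ)
    (hmin : ∀ k : ℕ, 1 ≤ k → p ∣ r ^ k - 1 → n ≤ k) : r ^ (n * p ^ w) ≤ Nat.card V := by
  classical
  have hp : p.Prime := Fact.out
  have hrp : r.Prime := Fact.out
  haveI : Nontrivial (Subgroup.center E) := Finite.one_lt_card_iff_nontrivial.1 (hZc ▸ hp.one_lt)
  obtain ⟨z, hz1⟩ := exists_ne (1 : Subgroup.center E)
  have hzp : (z : E) ^ p = 1 := by
    have h := pow_card_eq_one' (G := Subgroup.center E) (x := z)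
    rw [hZc] at h
    simpa using congrArg Subtype.val h
  have hzc : ∀ e : E, e * z = z * e := fun e => Subgroup.mem_center_iff.1 z.2 e
  have hgen : ∀ y ∈ Subgroup.center E, ∃ k : ℕ, y = (z : E) ^ k := by
    intro y hy
    obtain ⟨k, hk⟩ := Submonoid.mem_powers_iff _ _ |>.1
      (mem_powers_of_prime_card (g := z) (g' := (⟨y, hy⟩ : Subgroup.center E)) hZc hz1)
    exact ⟨k, by simpa using (congrArg Subtype.val hk).symm⟩
  set F := ZMod r
  set T : Module.End F V := ρ (z : E) with hT
  have hTp : T ^ p = 1 := by rw [hT, ← map_pow, hzp, map_one]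
  have hT1 : T ≠ 1 := fun h => hz1 (Subtype.ext (hρ (h.trans (map_one ρ).symm)))
  obtain ⟨f, hf, hfirr, hfker, hfdvd, hfX⟩ : ∃ f : F[X], f.Monic ∧ Irreducible f ∧ LinearMap.ker (aeval T f) ≠ ⊥ ∧
      f ∣ X ^ p - 1 ∧ f ≠ X - 1 := by
    have hsep : Squarefree (X ^ p - 1 : F[X]) := by
      refine ((X_pow_sub_one_separable_iff).2 ?_).squarefree
      intro h
      rw [CharP.cast_eq_zero_iff (ZMod r) r] at h
      exact hpr ((Nat.prime_dvd_prime_iff_eq hrp hp).1 h).symm
    have hdvd : minpoly F T ∣ X ^ p - 1 := minpoly.dvd F T (by simp [hTp])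
    have hint : IsIntegral F T := IsIntegral.of_finite F T
    by_contra hno
    push Not at hno
    have hmon := minpoly.monic hint
    have hall : ∀ f : F[X], f.Monic → Irreducible f → f ∣ minpoly F T → f = X - 1 := by
      intro f hf hfi hfd
      refine hno f hf hfi (fun hk => ?_) (hfd.trans hdvd)
      obtain ⟨g, hg⟩ := hfd
      have h2 : aeval T g = 0 := by
        refine LinearMap.ext fun v => ?_
        have h3 : aeval T g v ∈ LinearMap.ker (aeval T f) := by
          rw [LinearMap.mem_ker, ← Module.End.mul_apply, ← map_mul, ← hg, minpoly.aeval]; rfl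
        rw [hk, Submodule.mem_bot] at h3
        exact h3
      have hg0 : g ≠ 0 := fun h => hmon.ne_zero (by rw [hg, h, mul_zero])
      have h4 := natDegree_le_of_dvd (minpoly.dvd F T h2) hg0
      have h5 : (minpoly F T).natDegree = f.natDegree + g.natDegree := by rw [hg, natDegree_mul hf.ne_zero hg0]
      have h6 := hfi.natDegree_pos
      omega
    have hd0 : 0 < (minpoly F T).natDegree := by
      haveI : Nontrivial (Module.End F V) := ⟨⟨T, 1, hT1⟩⟩
      exact minpoly.natDegree_pos hint
    obtain ⟨f, hfi, hfd⟩ := exists_irreducible_of_natDegree_pos hd0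
    have hfm := monic_normalize hfi.ne_zero
    have e1 := hall (normalize f) hfm ((normalize_associated f).irreducible_iff.2 hfi) (normalize_dvd_iff.2 hfd)
    obtain ⟨g, hg⟩ : X - 1 ∣ minpoly F T := e1 ▸ normalize_dvd_iff.2 hfd
    have hgm : g.Monic := (monic_X_sub_C (1 : F)).of_mul_monic_left (by rw [map_one, ← hg]; exact hmon)
    have hg1 : g = 1 := by
      by_contra hne
      have hgd : 0 < g.natDegree := Nat.pos_of_ne_zero fun h => hne (eq_one_of_monic_natDegree_zero hgm h)
      obtain ⟨f2, hf2i, hf2d⟩ := exists_irreducible_of_natDegree_pos hgd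
      have e2 := hall (normalize f2) (monic_normalize hf2i.ne_zero) ((normalize_associated f2).irreducible_iff.2 hf2i)
        (normalize_dvd_iff.2 (hf2d.trans ⟨X - 1, by rw [hg, mul_comm]⟩))
      have h7 : (X - 1) * (X - 1) ∣ minpoly F T := by
        rw [hg]; exact mul_dvd_mul_left _ (e2 ▸ normalize_dvd_iff.2 hf2d)
      exact (irreducible_X_sub_C (1 : F)).not_isUnit (by
        rw [map_one]; exact hsep (X - 1) (h7.trans hdvd))
    have h0 : aeval T (X - 1 : F[X]) = 0 := by
      rw [show (X - 1 : F[X]) = minpoly F T by rw [hg, hg1, mul_one], minpoly.aeval]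
    rw [map_sub, aeval_X, map_one, sub_eq_zero] at h0
    exact hT1 h0
  haveI : Fact (Irreducible f) := ⟨hfirr⟩
  have hdeg : n ≤ f.natDegree := by
    refine hmin _ hfirr.natDegree_pos ?_
    haveI : FiniteDimensional F (AdjoinRoot f) := (AdjoinRoot.powerBasis hf.ne_zero).finite
    haveI : Finite (AdjoinRoot f) := Module.finite_of_finite F
    letI : Fintype (AdjoinRoot f) := Fintype.ofFinite _
    set x := AdjoinRoot.root f
    have hxp : x ^ p = 1 := by
      obtain ⟨g, hg⟩ := hfdvd
      have h2 : aeval x (X ^ p - 1 : F[X]) = 0 := by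
        rw [hg, map_mul, AdjoinRoot.aeval_eq, AdjoinRoot.mk_self, zero_mul]
      simpa [sub_eq_zero] using h2
    have hx1 : x ≠ 1 := by
      intro h
      have h2 : AdjoinRoot.mk f (X - 1) = 0 := by rw [map_sub, AdjoinRoot.mk_X, map_one, sub_eq_zero]; exact h
      rw [AdjoinRoot.mk_eq_zero] at h2
      have hirr : Irreducible (X - 1 : F[X]) := by simpa using irreducible_X_sub_C (1 : F)
      have h3 := hfirr.associated_of_dvd hirr h2
      exact hfX (eq_of_monic_of_associated hf (by simpa using monic_X_sub_C (1 : F)) h3)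
    have hx0 : x ≠ 0 := fun h => by rw [h, zero_pow hp.ne_zero] at hxp; exact zero_ne_one hxp
    have h4 := FiniteField.pow_card_sub_one_eq_one x hx0
    rw [← Nat.card_eq_fintype_card, Module.natCard_eq_pow_finrank (K := F), Nat.card_zmod,
      PowerBasis.finrank (AdjoinRoot.powerBasis hf.ne_zero), AdjoinRoot.powerBasis_dim] at h4
    rw [← orderOf_eq_prime hxp hx1]
    exact orderOf_dvd_of_pow_eq_one h4
  -- the field acts on the kernel
  set W : Submodule F V := LinearMap.ker (aeval T f) with hW
  have hinvE : ∀ e : E, ∀ v ∈ W, ρ e v ∈ W := by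
    intro e v hv
    have hc : Commute (ρ e) (aeval T f) := by
      have h1 : Commute (ρ e) T := by show _ * _ = _ * _; rw [hT, ← map_mul, ← map_mul, hzc]
      have hall : ∀ g : F[X], Commute (ρ e) (aeval T g) := by
        intro g
        induction g using Polynomial.induction_on' with
        | add a b ha hb => rw [map_add]; exact Commute.add_right ha hb
        | monomial k c =>
          rw [aeval_monomial]
          exact Commute.mul_right (show Commute (ρ e) (algebraMap F _ c) from (Algebra.commutes c (ρ e)).symm) (h1.pow_right k)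
      exact hall f
    rw [hW, LinearMap.mem_ker] at hv ⊢
    rw [← Module.End.mul_apply, ← hc.eq, Module.End.mul_apply, hv, map_zero]
  let TW : Module.End F W := T.restrict (hinvE z)
  have hTW : aeval TW f = 0 := by
    refine LinearMap.ext fun v => Subtype.ext ?_
    have : ∀ g : F[X], ((aeval TW g v : W) : V) = aeval T g (v : V) := by
      intro g
      induction g using Polynomial.induction_on' with
      | add a b ha hb => simp [ha, hb]
      | monomial k c =>
        have hk : ∀ k : ℕ, (((TW ^ k) v : W) : V) = (T ^ k) (v : V) := by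
          intro k
          induction k with
          | zero => rfl
          | succ k ih =>
            rw [pow_succ', pow_succ']
            show T (((TW ^ k) v : W) : V) = T ((T ^ k) (v : V))
            rw [ih]
        simp [aeval_monomial, hk]
    rw [this]
    exact v.2
  set K := AdjoinRoot f
  let φ : K →ₐ[F] Module.End F W := Ideal.Quotient.liftₐ (Ideal.span {f}) (aeval TW) (fun g hg => by
    obtain ⟨c, rfl⟩ := Ideal.mem_span_singleton.1 hg
    rw [map_mul, hTW, zero_mul])
  have hφroot : φ (AdjoinRoot.root f) = TW := aeval_X TW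
  letI modK : Module K W := Module.compHom W φ.toRingHom
  have hsmul : ∀ (c : K) (v : W), c • v = φ c v := fun c v => rfl
  haveI : IsScalarTower F K W := ⟨fun a c v => by rw [hsmul, hsmul, map_smul]; rfl⟩
  haveI : Module.Finite K W := Module.Finite.of_restrictScalars_finite F K W
  -- operators
  have hEK : ∀ (e : E) (c : K) (v : W), (⟨ρ e (c • v : W), hinvE e _ (c • v).2⟩ : W) = c • ⟨ρ e v, hinvE e _ v.2⟩ := by
    intro e c
    induction c using AdjoinRoot.induction_on with
    | ih g =>
      intro v
      rw [hsmul, hsmul]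
      induction g using Polynomial.induction_on' generalizing v with
      | add a b ha hb =>
        simp only [map_add, LinearMap.add_apply]
        rw [← ha v, ← hb v]
        exact Subtype.ext (by simp)
      | monomial k c =>
        rw [← C_mul_X_pow_eq_monomial, map_mul, map_pow, AdjoinRoot.mk_X, AdjoinRoot.mk_C, map_mul, map_pow, hφroot,
          ← AdjoinRoot.algebraMap_eq, AlgHom.commutes]
        refine Subtype.ext ?_
        show ρ e (c • ((((TW ^ k) v : W)) : V)) = c • (((TW ^ k) ⟨ρ e v, hinvE e _ v.2⟩ : W) : V)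
        rw [map_smul]
        congr 1
        induction k generalizing v with
        | zero => rfl
        | succ k ih =>
          rw [pow_succ, Module.End.mul_apply, ih (TW v), Module.End.mul_apply]
          have hTe : (⟨ρ e (TW v : W), hinvE e _ (TW v).2⟩ : W) = TW ⟨ρ e v, hinvE e _ v.2⟩ := Subtype.ext (by
            show ρ e (ρ z v) = ρ z (ρ e v)
            rw [← Module.End.mul_apply, ← map_mul, hzc, map_mul]; rfl)
          rw [hTe]
  let op : E → Module.End K W := fun e =>
    { toFun := fun v => ⟨ρ e v, hinvE e _ v.2⟩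
      map_add' := fun a b => Subtype.ext (map_add (ρ e) (a : V) b)
      map_smul' := fun c v => hEK e c v }
  have hopmul : ∀ a b : E, op (a * b) = op a * op b := fun a b =>
    LinearMap.ext fun v => Subtype.ext (by show ρ (a * b) v = ρ a (ρ b v); rw [map_mul]; rfl)
  have hop1 : op 1 = 1 := LinearMap.ext fun v => Subtype.ext (by show ρ 1 (v : V) = v; rw [map_one]; rfl)
  haveI : Nontrivial W := Submodule.nontrivial_iff_ne_bot.2 hfker
  have hopz : ∀ k : ℕ, op ((z : E) ^ k) = (AdjoinRoot.root f) ^ k • (1 : Module.End K W) := by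
    intro k
    refine LinearMap.ext fun v => ?_
    rw [LinearMap.smul_apply, Module.End.one_apply, hsmul, map_pow, hφroot]
    induction k generalizing v with
    | zero => rw [pow_zero, hop1, pow_zero]; rfl
    | succ k ih => rw [pow_succ, hopmul, pow_succ, Module.End.mul_apply, Module.End.mul_apply, ih]; rfl
  -- coset representatives are independent
  set Q := E ⧸ Subgroup.center E
  letI : Fintype Q := Fintype.ofFinite _
  have hli : LinearIndependent K fun x : Q => op x.out := by
    rw [Fintype.linearIndependent_iff]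
    suffices key : ∀ m : ℕ, ∀ c : Q → K, (Finset.univ.filter fun x => c x ≠ 0).card ≤ m →
        ∑ x, c x • op x.out = 0 → ∀ x, c x = 0 from fun c hc => key _ c le_rfl hc
    intro m
    induction m with
    | zero =>
      intro c hc _ x
      by_contra h
      have h2 := Finset.card_eq_zero.1 (Nat.le_zero.1 hc)
      rw [Finset.filter_eq_empty_iff] at h2
      exact h2 (Finset.mem_univ x) h
    | succ m ih =>
      intro c hc hsum x₀
      by_contra h0
      -- conjugation multiplies coefficients by roots of unity
      have hchar : ∀ (g e : E), ∃ k : ℕ, g * e * g⁻¹ = (z : E) ^ k * e := by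
        intro g e
        obtain ⟨k, hk⟩ := hgen _ (hcomm g e)
        exact ⟨k, by rw [← hk]; group⟩
      choose k hk using hchar
      have hconj : ∀ g : E, ∑ x : Q, ((AdjoinRoot.root f) ^ k g x.out * c x) • op x.out = 0 := by
        intro g
        have h1 : op g * (∑ x, c x • op x.out) * op g⁻¹ = 0 := by rw [hsum, mul_zero, zero_mul]
        rw [Finset.mul_sum, Finset.sum_mul] at h1
        rw [← h1]
        refine Finset.sum_congr rfl fun x _ => ?_
        rw [mul_smul_comm, smul_mul_assoc, ← hopmul, ← hopmul, hk, hopmul, hopz, smul_mul_assoc, one_mul, smul_smul,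
          mul_comm]
      have hall : ∀ (g : E) (x : Q), ((AdjoinRoot.root f) ^ k g x.out - (AdjoinRoot.root f) ^ k g x₀.out) * c x = 0 := by
        intro g
        refine ih (fun x => ((AdjoinRoot.root f) ^ k g x.out - (AdjoinRoot.root f) ^ k g x₀.out) * c x) ?_ ?_
        · have hsub : (Finset.univ.filter fun x =>
              ((AdjoinRoot.root f) ^ k g x.out - (AdjoinRoot.root f) ^ k g x₀.out) * c x ≠ 0) ⊆
              (Finset.univ.filter fun x => c x ≠ 0).erase x₀ := by
            intro x hx
            rw [Finset.mem_filter] at hx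
            refine Finset.mem_erase.2 ⟨?_, Finset.mem_filter.2 ⟨Finset.mem_univ _, right_ne_zero_of_mul hx.2⟩⟩
            rintro rfl
            exact hx.2 (by rw [sub_self, zero_mul])
          have h2 := Finset.card_le_card hsub
          have hx₀ : x₀ ∈ Finset.univ.filter (fun x => c x ≠ 0) := by simp [h0]
          rw [Finset.card_erase_of_mem hx₀] at h2
          omega
        · rw [Finset.sum_congr rfl fun x _ => show (((AdjoinRoot.root f) ^ k g x.out - (AdjoinRoot.root f) ^ k g x₀.out) * c x) • op x.out = ((AdjoinRoot.root f) ^ k g x.out * c x) • op x.out -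
            (AdjoinRoot.root f) ^ k g x₀.out • (c x • op x.out) from by
              rw [sub_mul, smul_smul]
              exact sub_smul (M := Module.End K W) _ _ _,
            Finset.sum_sub_distrib, hconj g, ← Finset.smul_sum, hsum, smul_zero, sub_zero]
      by_cases hone : ∃ x, x ≠ x₀ ∧ c x ≠ 0
      · obtain ⟨x, hx, hcx⟩ := hone
        apply hx
        rw [← QuotientGroup.out_eq' x, ← QuotientGroup.out_eq' x₀, QuotientGroup.eq, Subgroup.mem_center_iff]
        intro g
        have hne : (AdjoinRoot.root f) ^ k g x.out = (AdjoinRoot.root f) ^ k g x₀.out :=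
          sub_eq_zero.1 ((mul_eq_zero.1 (hall g x)).resolve_right hcx)
        have hzk : (z : E) ^ k g x.out = (z : E) ^ k g x₀.out := by
          have h2 : op ((z : E) ^ k g x.out) = op ((z : E) ^ k g x₀.out) := by rw [hopz, hopz, hne]
          obtain ⟨v, hv⟩ := exists_ne (0 : W)
          have hord : orderOf (z : E) = p := orderOf_eq_prime hzp (fun h => hz1 (Subtype.ext h))
          rw [pow_eq_pow_iff_modEq, hord]
          have hxp : (AdjoinRoot.root f) ^ p = 1 := by
            obtain ⟨g', hg'⟩ := hfdvd
            have h3 : aeval (AdjoinRoot.root f) (X ^ p - 1 : F[X]) = 0 := by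
              rw [hg', map_mul, AdjoinRoot.aeval_eq, AdjoinRoot.mk_self, zero_mul]
            simpa [sub_eq_zero] using h3
          have hx1 : (AdjoinRoot.root f) ≠ 1 := by
            intro h
            have h3 : AdjoinRoot.mk f (X - 1) = 0 := by rw [map_sub, AdjoinRoot.mk_X, map_one, sub_eq_zero]; exact h
            rw [AdjoinRoot.mk_eq_zero] at h3
            have hirr : Irreducible (X - 1 : F[X]) := by simpa using irreducible_X_sub_C (1 : F)
            exact hfX (eq_of_monic_of_associated hf (by simpa using monic_X_sub_C (1 : F)) (hfirr.associated_of_dvd hirr h3))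
          have hprim : IsPrimitiveRoot (AdjoinRoot.root f) p := orderOf_eq_prime hxp hx1 ▸ IsPrimitiveRoot.orderOf _
          refine hprim.pow_inj (Nat.mod_lt _ hp.pos) (Nat.mod_lt _ hp.pos) ?_
          rw [← orderOf_eq_prime hxp hx1, pow_mod_orderOf, pow_mod_orderOf]
          exact hne
        have h3 := hk g x.out
        have h4 := hk g x₀.out
        rw [← hzk] at h4
        set u := (z : E) ^ k g x.out
        have hu : ∀ a : E, a * u = u * a := fun a =>
          Subgroup.mem_center_iff.1 ((Subgroup.center E).pow_mem z.2 _) a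
        calc g * (x.out⁻¹ * x₀.out) = (g * x.out * g⁻¹)⁻¹ * (g * x₀.out * g⁻¹) * g := by group
          _ = (u * x.out)⁻¹ * (u * x₀.out) * g := by rw [h3, h4]
          _ = x.out⁻¹ * x₀.out * g := by group
      · push Not at hone
        rw [Finset.sum_eq_single x₀ (fun x _ hx => by rw [hone x hx, zero_smul]) (by simp)] at hsum
        obtain ⟨v, hv⟩ := exists_ne (0 : W)
        have h5 : (c x₀ • op x₀.out) (op x₀.out⁻¹ v) = 0 := by rw [hsum]; rfl
        rw [LinearMap.smul_apply, ← Module.End.mul_apply, ← hopmul, mul_inv_cancel, hop1, Module.End.one_apply] at h5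
        exact h0 ((smul_eq_zero.1 h5).resolve_right hv)
  have hQ : Fintype.card Q = (p ^ w) ^ 2 := by
    have h1 := Subgroup.card_eq_card_quotient_mul_card_subgroup (Subgroup.center E)
    rw [hEcard, hZc, Nat.card_eq_fintype_card, pow_succ] at h1
    rw [← pow_mul, mul_comm w 2]
    exact (Nat.eq_of_mul_eq_mul_right hp.pos h1).symm
  have h1 := hli.fintype_card_le_finrank
  rw [hQ, Module.finrank_linearMap, ← pow_two] at h1
  have h2 : p ^ w ≤ Module.finrank K W := (Nat.pow_le_pow_iff_left two_ne_zero).1 h1
  have h3 : n * p ^ w ≤ Module.finrank F W := by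
    rw [← Module.finrank_mul_finrank F K W, PowerBasis.finrank (AdjoinRoot.powerBasis hf.ne_zero),
      AdjoinRoot.powerBasis_dim]
    exact Nat.mul_le_mul hdeg h2
  rw [Module.natCard_eq_pow_finrank (K := F), Nat.card_zmod]
  exact Nat.pow_le_pow_right hrp.pos (h3.trans (Submodule.finrank_le W))

/-- Core, for an action by additive maps. -/
theorem core' {p r n : ℕ} [Fact p.Prime] [Fact r.Prime] (hpr : p ≠ r) {E : Type*} [Group E] [Finite E] {w : ℕ}
    (hZc : Nat.card (Subgroup.center E) = p) (hcomm : ∀ a b : E, a * b * a⁻¹ * b⁻¹ ∈ Subgroup.center E)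
    (hEcard : Nat.card E = p ^ (2 * w + 1))
    {V : Type*} [AddCommGroup V] [Module (ZMod r) V] [Finite V] (act : E → V →+ V) (h1 : ∀ v, act 1 v = v)
    (hmul : ∀ a b v, act (a * b) v = act a (act b v)) (hinj : ∀ e, (∀ v, act e v = v) → e = 1)
    (hmin : ∀ k : ℕ, 1 ≤ k → p ∣ r ^ k - 1 → n ≤ k) : r ^ (n * p ^ w) ≤ Nat.card V := by
  let ρ : E →* Module.End (ZMod r) V :=
    { toFun := fun e => { toFun := act e, map_add' := (act e).map_add, map_smul' := fun c x => ZMod.map_smul (act e) c x }
      map_one' := LinearMap.ext h1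
      map_mul' := fun a b => LinearMap.ext (hmul a b) }
  refine core hpr hZc hcomm hEcard ρ ?_ hmin
  rw [injective_iff_map_eq_one]
  exact fun e he => hinj e fun v => LinearMap.congr_fun he v

/-- Let p and r be distinct primes, let E be an extraspecial subgroup of order p^(2w+1) of a finite group, and let A be an elementary abelian r-subgroup normalized by E on which E acts faithfully (C_E(A) = 1). If n ≥ 1 is least with p dividing rⁿ − 1 (the smallest dimension of a faithful representation of a group of order p over the field with r elements), then the order of A is at least r^(n·p^w). -/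
theorem result {G : Type*} [Group G] [Finite G] {p r : ℕ} [Fact p.Prime] [hr : Fact r.Prime] (hpr : p ≠ r) (E A : Subgroup G) (w : ℕ) (hE : Cfsg.IsExtraspecial p ↥E) (hEcard : Nat.card ↥E = p ^ (2 * w + 1)) (hA : Cfsg.IsElementaryAbelian r A) (hnorm : E ≤ Subgroup.normalizer (A : Set G)) (hfaith : E ⊓ Subgroup.centralizer (A : Set G) = ⊥) (n : ℕ) (hn : 1 ≤ n) (hdiv : p ∣ r ^ n - 1) (hmin : ∀ k : ℕ, 1 ≤ k → p ∣ r ^ k - 1 → n ≤ k) : r ^ (n * p ^ w) ≤ Nat.card ↥A := by
  classical
  haveI := hA.1
  letI : CommGroup A := { (inferInstance : Group A) with mul_comm := hA.1.1.comm }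
  letI : Module (ZMod r) (Additive A) := AddCommGroup.zmodModule (fun a => by
    apply Additive.toMul.injective
    rw [toMul_nsmul, toMul_zero]
    exact Subtype.ext (hA.2 _ (Additive.toMul a).2))
  have hmem : ∀ (e : E) (a : A), (e : G) * (a : G) * (e : G)⁻¹ ∈ A := fun e a =>
    (Subgroup.mem_normalizer_iff.1 (hnorm e.2) a).1 a.2
  let act : E → (Additive A →+ Additive A) := fun e =>
    { toFun := fun a => Additive.ofMul ⟨(e : G) * ((Additive.toMul a : A) : G) * (e : G)⁻¹, hmem e _⟩
      map_zero' := Additive.toMul.injective (Subtype.ext (by simp))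
      map_add' := fun a b => Additive.toMul.injective (Subtype.ext (by simp [mul_assoc])) }
  have hval : ∀ (e : E) (a : Additive A), ((Additive.toMul (act e a) : A) : G) = (e : G) * ((Additive.toMul a : A) : G) * (e : G)⁻¹ :=
    fun e a => rfl
  have hact1 : ∀ a, act 1 a = a := fun a => Additive.toMul.injective (Subtype.ext (by rw [hval, Subgroup.coe_one, inv_one, one_mul, mul_one]))
  have hact : ∀ (e e' : E) a, act (e * e') a = act e (act e' a) := fun e e' a =>
    Additive.toMul.injective (Subtype.ext (by rw [hval, hval, hval, Subgroup.coe_mul, mul_inv_rev]; simp only [mul_assoc]))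
  have hinj : ∀ e : E, (∀ v, act e v = v) → e = 1 := by
    intro e he
    have hmem2 : (e : G) ∈ E ⊓ Subgroup.centralizer (A : Set G) := by
      refine ⟨e.2, Subgroup.mem_centralizer_iff.2 fun a ha => ?_⟩
      have h2 : (e : G) * a * (e : G)⁻¹ = a :=
        (hval e (Additive.ofMul (⟨a, ha⟩ : A))).symm.trans
          (congrArg (fun u : Additive A => ((Additive.toMul u : A) : G)) (he _))
      exact (mul_inv_eq_iff_eq_mul.1 h2).symm
    rw [hfaith, Subgroup.mem_bot] at hmem2
    exact Subtype.ext hmem2
  have hcomm : ∀ a b : E, a * b * a⁻¹ * b⁻¹ ∈ Subgroup.center E := fun a b => by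
    rw [← hE.1.2.2]; exact Subgroup.commutator_mem_commutator (Subgroup.mem_top a) (Subgroup.mem_top b)
  have hcore := core' (V := Additive A) hpr hE.2 hcomm hEcard act hact1 hact hinj hmin
  exact hcore.trans (le_of_eq (Nat.card_congr Additive.toMul))

end Cfsg.Agent.S2912
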