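import Cfsg.Statements.S0817
import Cfsg.Agent.Lib.Linear.AutPO.PlusShapes

set_option autoImplicit false
open Cfsg

namespace Cfsg.Agent.S0817

open Cfsg.Lib.Linear.AutPO

/-- |Aut(PΩ⁺_2m(q))| for q = p^f, m ≥ 4: |PΩ⁺_2m(q)| times f, times 3 when m = 4, times 2 if p = 2, and times 8 or 4 if p is odd according as m(q−1)/2 is even or odd. -/
theorem result {F : Type*} [Field F] [Fintype F] (p f : ℕ) [Fact p.Prime] (hf : 1 ≤ f) (hF : Fintype.card F = p ^ f) (m : ℕ) (hm : 4 ≤ m) : Nat.card (MulAut (Cfsg.POmega F (Cfsg.quadFormPlus m F))) = (if m = 4 then 3 else 1) * (if p = 2 then 2 else (if Even (m * (p ^ f - 1) / 2) then 8 else 4)) * f * Nat.card (Cfsg.POmega F (Cfsg.quadFormPlus m F)) := by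
  haveI := Cfsg.Lib.Linear.AutPSL.charP_of_card hf hF
  have hpar : p ≠ 2 → (Even (m * (p ^ f - 1) / 2) ↔ ¬ (p ^ f % 4 = 3 ∧ Odd m)) := fun hp =>
    plus_parity ((Fact.out : p.Prime).odd_of_ne_two hp).pow
  by_cases hm4 : m = 4
  · subst hm4
    rw [(d4_out_pomega p hf hF).2.2, if_pos rfl]
    by_cases hp : p = 2
    · rw [if_pos hp, if_pos hp]
    · rw [if_neg hp, if_neg hp, if_pos ((hpar hp).2 fun h => absurd h.2 (by decide))]
  · obtain ⟨n, rfl⟩ : ∃ n, m = n + 1 := ⟨m - 1, by omega⟩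
    rw [plus_card_mulAut (by omega) p hf hF, if_neg hm4, one_mul]
    by_cases hp : p = 2
    · rw [if_pos hp, if_pos hp]
    · rw [if_neg hp, if_neg hp]
      by_cases hc : p ^ f % 4 = 3 ∧ Odd (n + 1)
      · rw [if_pos hc.symm, if_neg (fun h => (hpar hp).1 h hc)]
      · rw [if_neg (fun h => hc h.symm), if_pos ((hpar hp).2 hc)]

end Cfsg.Agent.S0817
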