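import Cfsg.Statements.S0791
import Cfsg.Agent.Lib.Linear.OrthSpinor
import Cfsg.Agent.Lib.Linear.OrthForms

set_option autoImplicit false
open Cfsg

namespace Cfsg.Agent.S0791

open Module Cfsg.Lib.Linear.Orth
open scoped Matrix

theorem two_ne {F : Type*} [Field F] [Fintype F] (hodd : Odd (Fintype.card F)) : (2 : F) ≠ 0 :=
  fun h => by
    haveI : CharP F 2 := CharTwo.of_one_ne_zero_of_two_eq_zero one_ne_zero h
    have h1 := FiniteField.even_card_of_char_two (ringChar.eq F 2)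
    rw [Nat.odd_iff] at hodd
    omega

theorem sign_pow (q m : ℕ) (hq : Odd q) :
    ((q ^ m % 4 = 1) ↔ ¬ (q % 4 = 3 ∧ Odd m)) ∧ ((q ^ m % 4 = 3) ↔ (q % 4 = 3 ∧ Odd m)) := by
  have h4 : q % 4 = 1 ∨ q % 4 = 3 := by rw [Nat.odd_iff] at hq; omega
  rw [Nat.pow_mod]
  rcases h4 with h | h <;> rw [h]
  · simp
  · rcases Nat.even_or_odd m with ⟨k, rfl⟩ | ⟨k, rfl⟩
    · rw [← two_mul, pow_mul, Nat.pow_mod]
      simp [Nat.not_odd_iff_even.mpr (even_two_mul k)]
    · rw [pow_succ, pow_mul, Nat.mul_mod, Nat.pow_mod]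
      simp [odd_two_mul_add_one k]

theorem prod_pairs {F : Type*} [Field F] [Fintype F] [DecidableEq F] (m : ℕ) :
    (∏ _i : Fin m, (if IsSquare (1 : F) then (-1 : ℤˣ) else 1)) *
      (∏ _i : Fin m, (if IsSquare (-1 : F) then (-1 : ℤˣ) else 1)) =
      if Fintype.card F % 4 = 3 ∧ Odd m then -1 else 1 := by
  classical
  rw [Finset.prod_const, Finset.prod_const, Finset.card_univ, Fintype.card_fin,
    if_pos IsSquare.one]
  by_cases h : Fintype.card F % 4 = 3
  · rw [if_neg (fun hs => FiniteField.isSquare_neg_one_iff.mp hs h), one_pow, mul_one]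
    rcases Nat.even_or_odd m with hm | hm
    · rw [hm.neg_one_pow, if_neg (fun h' => Nat.not_odd_iff_even.mpr hm h'.2)]
    · rw [hm.neg_one_pow, if_pos ⟨h, hm⟩]
  · rw [if_pos (FiniteField.isSquare_neg_one_iff.mpr h), ← mul_pow, if_neg (fun h' => h h'.1)]
    simp


/-- −1 ∈ Ω⁻_2m(q) iff q^m ≡ −1 (mod 4), for q odd and m ≥ 1; for the minus-type form quadFormMinus (m−1) with anisotropic binary part. -/
theorem result {F : Type*} [Field F] [Fintype F] {q : ℕ} (hF : Fintype.card F = q) (hodd : Odd q) (m : ℕ) (hm : 1 ≤ m) (a b : F) (hab : ∀ z₁ z₂ : F, z₁ ^ 2 + a * z₁ * z₂ + b * z₂ ^ 2 = 0 → z₁ = 0 ∧ z₂ = 0) : (∃ g : ↥(Cfsg.isometryGroup F (Cfsg.quadFormMinus (m - 1) F a b)), g ∈ Cfsg.Omega F (Cfsg.quadFormMinus (m - 1) F a b) ∧ ((g : Matrix.GeneralLinearGroup ((Fin (m - 1) ⊕ Fin (m - 1)) ⊕ Fin 2) F) : Matrix ((Fin (m - 1) ⊕ Fin (m - 1)) ⊕ Fin 2) ((Fin (m - 1) ⊕ Fin (m - 1)) ⊕ Fin 2) F) = -1) ↔ q ^ m % 4 = 3 := by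
  classical
  subst hF
  have h2 := two_ne hodd
  obtain ⟨k, rfl⟩ : ∃ k, m = k + 1 := ⟨m - 1, by omega⟩
  show (∃ g : ↥(Cfsg.isometryGroup F (Cfsg.quadFormMinus k F a b)), _) ↔ _
  obtain ⟨B, C⟩ := exists_space_minus (F := F) k a b hab
  set δ : F := b - a ^ 2 / 4 with hδ
  have h4 : (4 : F) ≠ 0 := by
    rw [show (4 : F) = 2 * 2 by norm_num]; exact mul_ne_zero h2 h2
  have hnd : ¬ IsSquare (-δ) := fun ⟨r, hr⟩ => one_ne_zero (hab (r - a / 2) 1 (by
    rw [hδ] at hr
    field_simp at hr ⊢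
    linear_combination -hr)).2
  have hδ0 : δ ≠ 0 := fun h => hnd ⟨0, by rw [h]; simp⟩
  let v : (Fin k ⊕ Fin k) ⊕ Fin 2 → (Fin k ⊕ Fin k) ⊕ Fin 2 → F :=
    Sum.elim (Sum.elim
      (fun i => Pi.single (Sum.inl (Sum.inl i)) 1 + Pi.single (Sum.inl (Sum.inr i)) 1)
      (fun i => Pi.single (Sum.inl (Sum.inl i)) 1 - Pi.single (Sum.inl (Sum.inr i)) 1))
      ![Pi.single (Sum.inr 0) 1, Pi.single (Sum.inr 0) (-a / 2) + Pi.single (Sum.inr 1) 1]
  have hQ1 : ∀ i, Cfsg.quadFormMinus k F a b (v (.inl (.inl i))) = 1 := fun i => by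
    simp [v, Cfsg.quadFormMinus, Pi.single_apply]
  have hQ2 : ∀ i, Cfsg.quadFormMinus k F a b (v (.inl (.inr i))) = -1 := fun i => by
    simp [v, Cfsg.quadFormMinus, Pi.single_apply]
  have hQ3 : Cfsg.quadFormMinus k F a b (v (.inr 0)) = 1 := by
    simp [v, Cfsg.quadFormMinus, Pi.single_apply]
  have hQ4 : Cfsg.quadFormMinus k F a b (v (.inr 1)) = δ := by
    simp [v, Cfsg.quadFormMinus, Pi.single_apply, hδ]
    field_simp
    ring
  have horth : ∀ i j, i ≠ j → B (v i) (v j) = 0 := fun i j hij => by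
    rw [← C.polar]
    rcases i with (i | i) | i <;> rcases j with (j | j) | j
    all_goals (try fin_cases i) <;> (try fin_cases j)
    all_goals
      first
        | exact absurd rfl hij
        | (simp [v, QuadraticMap.polar, Cfsg.quadFormMinus, Pi.single_apply]; done)
        | (rcases eq_or_ne i j with rfl | hne
           · first
              | exact absurd rfl hij
              | simp [v, QuadraticMap.polar, Cfsg.quadFormMinus, Pi.single_apply, add_mul, mul_add,
                  sub_mul, mul_sub, Finset.sum_add_distrib]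
           · simp [v, QuadraticMap.polar, Cfsg.quadFormMinus, Pi.single_apply, add_mul, mul_add,
               sub_mul, mul_sub, Finset.sum_add_distrib, hne, Ne.symm hne])
        | (simp [v, QuadraticMap.polar, Cfsg.quadFormMinus, Pi.single_apply]; field_simp; ring)
  have hiff := neg_one_mem_omega_iff C h2 ⟨k + 1, by simp; omega⟩ (by simp) v rfl
    (fun i => by
      rcases i with (i | i) | i
      · simp [hQ1]
      · simp [hQ2]
      · fin_cases i
        · simp [hQ3]
        · simp [hQ4, hδ0]) horth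
  refine hiff.trans ?_
  rw [(sign_pow _ (k + 1) hodd).2, Fintype.prod_sum_type, Fintype.prod_sum_type, Fin.prod_univ_two]
  simp only [hQ1, hQ2, hQ3, hQ4]
  rw [prod_pairs k, if_pos IsSquare.one]
  have hsq : IsSquare δ ↔ Fintype.card F % 4 = 3 := by
    have hm := map_mul (quadraticChar F) (-1) δ
    rw [neg_one_mul, quadraticChar_neg_one_iff_not_isSquare.mpr hnd] at hm
    constructor
    · intro hs
      by_contra h3
      rw [(quadraticChar_one_iff_isSquare hδ0).mpr hs, (quadraticChar_one_iff_isSquare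
        (neg_ne_zero.mpr one_ne_zero)).mpr (FiniteField.isSquare_neg_one_iff.mpr h3)] at hm
      norm_num at hm
    · intro h3
      by_contra hs
      rw [quadraticChar_neg_one_iff_not_isSquare.mpr hs, quadraticChar_neg_one_iff_not_isSquare.mpr
        (fun h => FiniteField.isSquare_neg_one_iff.mp h h3)] at hm
      norm_num at hm
  by_cases h3 : Fintype.card F % 4 = 3
  · rw [if_pos (hsq.mpr h3)]
    by_cases hk : Odd k <;> simp [h3, hk, Nat.odd_add_one]
  · rw [if_neg (fun h => h3 (hsq.mp h))]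
    simp [h3]

end Cfsg.Agent.S0791
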