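import Cfsg.Statements.S0818
import Cfsg.Agent.Lib.Linear.AutPO.MinusOut

set_option autoImplicit false
open Cfsg

namespace Cfsg.Agent.S0818

open Cfsg.Lib.Linear.AutPO

/-- |Aut(PΩ⁻_2m(q))| for q = p^f, m ≥ 4 (form quadFormMinus (m−1) with anisotropic binary part): |PΩ⁻_2m(q)| times f, times 2 if p = 2, and times 4 or 8 if p is odd according as m(q−1)/2 is even or odd. -/
theorem result {F : Type*} [Field F] [Fintype F] (p f : ℕ) [Fact p.Prime] (hf : 1 ≤ f) (hF : Fintype.card F = p ^ f) (m : ℕ) (hm : 4 ≤ m) (a b : F) (hab : ∀ z₁ z₂ : F, z₁ ^ 2 + a * z₁ * z₂ + b * z₂ ^ 2 = 0 → z₁ = 0 ∧ z₂ = 0) : Nat.card (MulAut (Cfsg.POmega F (Cfsg.quadFormMinus (m - 1) F a b))) = (if p = 2 then 2 else (if Even (m * (p ^ f - 1) / 2) then 4 else 8)) * f * Nat.card (Cfsg.POmega F (Cfsg.quadFormMinus (m - 1) F a b)) := by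
  haveI := Cfsg.Lib.Linear.AutPSL.charP_of_card hf hF
  rw [card_mulAut hab (by omega) p hf hF]
  by_cases hp : p = 2
  · simp [hp]
  obtain ⟨j, hj⟩ := ((Fact.out : p.Prime).odd_of_ne_two hp).pow (n := f)
  obtain ⟨k, rfl⟩ : ∃ k, m = k + 1 := ⟨m - 1, by omega⟩
  rw [if_neg hp, if_neg hp, hj, show (k + 1) * (2 * j + 1 - 1) / 2 = (k + 1) * j by
    rw [Nat.add_sub_cancel, ← mul_assoc, mul_comm (k + 1) 2, mul_assoc, Nat.mul_div_cancel_left _ two_pos],
    Nat.add_sub_cancel]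
  have hiff : (Even k ∧ (2 * j + 1) % 4 = 3) ↔ ¬ Even ((k + 1) * j) := by
    rw [Nat.even_mul, Nat.even_add_one, not_or, not_not, Nat.even_iff (n := j)]
    exact and_congr_right fun _ => by omega
  by_cases hc : Even k ∧ (2 * j + 1) % 4 = 3
  · rw [if_pos hc, if_neg (hiff.1 hc)]
  · rw [if_neg hc, if_pos (not_not.1 fun h => hc (hiff.2 h))]

end Cfsg.Agent.S0818
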