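import Cfsg.Statements.S5452
import Cfsg.Agent.Lib.Linear.UnitarySix.InvolLift
-- import your own Cfsg.Agent.* helpers here

set_option autoImplicit false
open Cfsg

namespace Cfsg.Agent.S5452

/-- Let G be a finite group with an involution d whose centralizer C is quasisimple with C modulo the subgroup generated by d isomorphic to the projective special unitary group of dimension 6 over the field with four elements, and suppose some conjugate of d other than d commutes with d. Then every involution of C modulo the subgroup generated by d is the image of an involution of C, and d is not a square in G. -/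
theorem result {G : Type*} [Group G] [Finite G] (d : G) (hd : orderOf d = 2) (hq : Cfsg.IsQuasisimple ↥(Subgroup.centralizer ({d} : Set G))) [hzn : ((Subgroup.zpowers d).subgroupOf (Subgroup.centralizer ({d} : Set G))).Normal] (K : Type) [Field K] [Fintype K] (hK : Fintype.card K = 4) (e : ↥(Subgroup.centralizer ({d} : Set G)) ⧸ (Subgroup.zpowers d).subgroupOf (Subgroup.centralizer ({d} : Set G)) ≃* Cfsg.PSU 6 K 2) (hnwc : ∃ g : G, g * d * g⁻¹ ∈ Subgroup.centralizer ({d} : Set G) ∧ g * d * g⁻¹ ≠ d) : (∀ x : ↥(Subgroup.centralizer ({d} : Set G)) ⧸ (Subgroup.zpowers d).subgroupOf (Subgroup.centralizer ({d} : Set G)), orderOf x = 2 → ∃ y : ↥(Subgroup.centralizer ({d} : Set G)), orderOf y = 2 ∧ (QuotientGroup.mk y : ↥(Subgroup.centralizer ({d} : Set G)) ⧸ (Subgroup.zpowers d).subgroupOf (Subgroup.centralizer ({d} : Set G))) = x) ∧ ¬ ∃ g : G, g ^ 2 = d := by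
  set C := Subgroup.centralizer ({d} : Set G)
  set Z := (Subgroup.zpowers d).subgroupOf C
  have hd2 : d * d = 1 := by rw [← pow_two, ← hd, pow_orderOf_eq_one]
  let π : C →* Cfsg.PSU 6 K 2 := e.toMonoidHom.comp (QuotientGroup.mk' Z)
  have hmem : ∀ k : C, k ∈ π.ker ↔ k ∈ Z := fun k => by
    simp [π, MonoidHom.mem_ker, QuotientGroup.eq_one_iff]
  have hcentral : π.ker ≤ Subgroup.center C := by
    intro k hk
    obtain ⟨i, hi⟩ := Subgroup.mem_zpowers_iff.1 ((hmem k).1 hk)
    refine Subgroup.mem_center_iff.2 fun g => Subtype.ext ?_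
    change (g : G) * (k : G) = (k : G) * (g : G)
    rw [show (k : G) = d ^ i from hi.symm]
    exact ((show Commute (g : G) d from Subgroup.mem_centralizer_singleton_iff.1 g.2).zpow_right i)
  have hexp : ∀ k ∈ π.ker, k * k = 1 := by
    intro k hk
    obtain ⟨i, hi⟩ := Subgroup.mem_zpowers_iff.1 ((hmem k).1 hk)
    apply Subtype.ext
    change (k : G) * (k : G) = 1
    rw [show (k : G) = d ^ i from hi.symm, ← Commute.mul_zpow (Commute.refl d), hd2, one_zpow]
  have hlift : ∀ x : C ⧸ Z, orderOf x = 2 → ∃ y : C, orderOf y = 2 ∧ (QuotientGroup.mk y : C ⧸ Z) = x := by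
    intro x hx
    have hx2 : x * x = 1 := by rw [← pow_two, ← hx, pow_orderOf_eq_one]
    obtain ⟨c, hc, hc2⟩ := Cfsg.Lib.Linear.UnitarySix.exists_lift (F := K) (by rw [hK]; norm_num) π
      (e.surjective.comp (QuotientGroup.mk'_surjective Z)) hcentral hexp (e x)
      (by rw [← map_mul, hx2, map_one])
    have hcx : (QuotientGroup.mk c : C ⧸ Z) = x := e.injective hc
    refine ⟨c, orderOf_eq_prime (by rw [pow_two, hc2]) fun h1 => ?_, hcx⟩
    rw [h1, QuotientGroup.mk_one] at hcx
    rw [← hcx, orderOf_one] at hx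
    omega
  refine ⟨hlift, ?_⟩
  rintro ⟨g, hg⟩
  have hgC : g ∈ C := Subgroup.mem_centralizer_singleton_iff.2 (by rw [← hg]; exact (Commute.self_pow g 2).eq)
  set g' : C := ⟨g, hgC⟩
  have hdne : d ≠ 1 := fun h => by rw [h, orderOf_one] at hd; omega
  have hgz : (QuotientGroup.mk g' : C ⧸ Z) ≠ 1 := by
    rw [Ne, QuotientGroup.eq_one_iff]
    intro h
    obtain ⟨i, hi⟩ := Subgroup.mem_zpowers_iff.1 (show g ∈ Subgroup.zpowers d from h)
    rw [← hi, pow_two, ← Commute.mul_zpow (Commute.refl d), hd2, one_zpow] at hg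
    exact hdne hg.symm
  obtain ⟨y, hy, hyg⟩ := hlift (QuotientGroup.mk g') (orderOf_eq_prime (by
    rw [← QuotientGroup.mk_pow, QuotientGroup.eq_one_iff]
    show g ^ 2 ∈ Subgroup.zpowers d
    rw [hg]
    exact Subgroup.mem_zpowers d) hgz)
  have hk : g'⁻¹ * y ∈ π.ker := (hmem _).2 (QuotientGroup.eq.1 hyg.symm)
  have h1 : (g'⁻¹ * y) * (g'⁻¹ * y) = 1 := hexp _ hk
  have hy2 : y * y = 1 := by rw [← pow_two, ← hy, pow_orderOf_eq_one]
  have h2 : g' * g' = 1 := by
    have hc := Subgroup.mem_center_iff.1 (hcentral hk) g'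
    calc g' * g' = g' * g' * ((g'⁻¹ * y) * (g'⁻¹ * y)) := by rw [h1, mul_one]
      _ = g' * (g' * (g'⁻¹ * y)) * (g'⁻¹ * y) := by simp only [mul_assoc]
      _ = g' * ((g'⁻¹ * y) * g') * (g'⁻¹ * y) := by rw [hc]
      _ = 1 := by simp only [mul_assoc, mul_inv_cancel_left]; rw [hy2]
  exact hdne (hg.symm.trans ((pow_two g).trans (congrArg Subtype.val h2)))

end Cfsg.Agent.S5452
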