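import Cfsg.Statements.S5344
import Mathlib

set_option autoImplicit false
open Cfsg

namespace Cfsg.Agent.S5344

inductive Gen | a | b | c
deriving DecidableEq

def genPerm : Gen → Equiv.Perm (Fin 4)
  | .a => Equiv.swap 0 1
  | .b => Equiv.swap 1 2
  | .c => Equiv.swap 2 3

def normalWords : List (List Gen) :=
  let X1 : List (List Gen) := [[], [.a]]
  let X2 : List (List Gen) := [[], [.b], [.b, .a]]
  let X3 : List (List Gen) := [[], [.c], [.c, .b], [.c, .b, .a]]
  X1.flatMap fun u => X2.flatMap fun v => X3.map fun w => u ++ v ++ w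

def evalP (w : List Gen) : Equiv.Perm (Fin 4) := (w.map genPerm).prod

theorem evalP_inj : ∀ w ∈ normalWords, ∀ w' ∈ normalWords, evalP w = evalP w' → w = w' := by decide +kernel

def nf : Gen → List Gen → List Gen
  | .a, [] => [.a]
  | .a, [.c] => [.a, .c]
  | .a, [.c, .b] => [.a, .c, .b]
  | .a, [.c, .b, .a] => [.a, .c, .b, .a]
  | .a, [.b] => [.a, .b]
  | .a, [.b, .c] => [.a, .b, .c]
  | .a, [.b, .c, .b] => [.a, .b, .c, .b]
  | .a, [.b, .c, .b, .a] => [.a, .b, .c, .b, .a]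
  | .a, [.b, .a] => [.a, .b, .a]
  | .a, [.b, .a, .c] => [.a, .b, .a, .c]
  | .a, [.b, .a, .c, .b] => [.a, .b, .a, .c, .b]
  | .a, [.b, .a, .c, .b, .a] => [.a, .b, .a, .c, .b, .a]
  | .a, [.a] => []
  | .a, [.a, .c] => [.c]
  | .a, [.a, .c, .b] => [.c, .b]
  | .a, [.a, .c, .b, .a] => [.c, .b, .a]
  | .a, [.a, .b] => [.b]
  | .a, [.a, .b, .c] => [.b, .c]
  | .a, [.a, .b, .c, .b] => [.b, .c, .b]
  | .a, [.a, .b, .c, .b, .a] => [.b, .c, .b, .a]
  | .a, [.a, .b, .a] => [.b, .a]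
  | .a, [.a, .b, .a, .c] => [.b, .a, .c]
  | .a, [.a, .b, .a, .c, .b] => [.b, .a, .c, .b]
  | .a, [.a, .b, .a, .c, .b, .a] => [.b, .a, .c, .b, .a]
  | .b, [] => [.b]
  | .b, [.c] => [.b, .c]
  | .b, [.c, .b] => [.b, .c, .b]
  | .b, [.c, .b, .a] => [.b, .c, .b, .a]
  | .b, [.b] => []
  | .b, [.b, .c] => [.c]
  | .b, [.b, .c, .b] => [.c, .b]
  | .b, [.b, .c, .b, .a] => [.c, .b, .a]
  | .b, [.b, .a] => [.a]
  | .b, [.b, .a, .c] => [.a, .c]
  | .b, [.b, .a, .c, .b] => [.a, .c, .b]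
  | .b, [.b, .a, .c, .b, .a] => [.a, .c, .b, .a]
  | .b, [.a] => [.b, .a]
  | .b, [.a, .c] => [.b, .a, .c]
  | .b, [.a, .c, .b] => [.b, .a, .c, .b]
  | .b, [.a, .c, .b, .a] => [.b, .a, .c, .b, .a]
  | .b, [.a, .b] => [.a, .b, .a]
  | .b, [.a, .b, .c] => [.a, .b, .a, .c]
  | .b, [.a, .b, .c, .b] => [.a, .b, .a, .c, .b]
  | .b, [.a, .b, .c, .b, .a] => [.a, .b, .a, .c, .b, .a]
  | .b, [.a, .b, .a] => [.a, .b]
  | .b, [.a, .b, .a, .c] => [.a, .b, .c]
  | .b, [.a, .b, .a, .c, .b] => [.a, .b, .c, .b]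
  | .b, [.a, .b, .a, .c, .b, .a] => [.a, .b, .c, .b, .a]
  | .c, [] => [.c]
  | .c, [.c] => []
  | .c, [.c, .b] => [.b]
  | .c, [.c, .b, .a] => [.b, .a]
  | .c, [.b] => [.c, .b]
  | .c, [.b, .c] => [.b, .c, .b]
  | .c, [.b, .c, .b] => [.b, .c]
  | .c, [.b, .c, .b, .a] => [.b, .a, .c]
  | .c, [.b, .a] => [.c, .b, .a]
  | .c, [.b, .a, .c] => [.b, .c, .b, .a]
  | .c, [.b, .a, .c, .b] => [.b, .a, .c, .b, .a]
  | .c, [.b, .a, .c, .b, .a] => [.b, .a, .c, .b]
  | .c, [.a] => [.a, .c]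
  | .c, [.a, .c] => [.a]
  | .c, [.a, .c, .b] => [.a, .b]
  | .c, [.a, .c, .b, .a] => [.a, .b, .a]
  | .c, [.a, .b] => [.a, .c, .b]
  | .c, [.a, .b, .c] => [.a, .b, .c, .b]
  | .c, [.a, .b, .c, .b] => [.a, .b, .c]
  | .c, [.a, .b, .c, .b, .a] => [.a, .b, .a, .c]
  | .c, [.a, .b, .a] => [.a, .c, .b, .a]
  | .c, [.a, .b, .a, .c] => [.a, .b, .c, .b, .a]
  | .c, [.a, .b, .a, .c, .b] => [.a, .b, .a, .c, .b, .a]
  | .c, [.a, .b, .a, .c, .b, .a] => [.a, .b, .a, .c, .b]
  | _, _ => []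

theorem nf_spec : ∀ g ∈ [Gen.a, Gen.b, Gen.c], ∀ w ∈ normalWords,
    nf g w ∈ normalWords ∧ evalP (nf g w) = genPerm g * evalP w := by decide +kernel

theorem gen_mem : ∀ g : Gen, g ∈ [Gen.a, Gen.b, Gen.c] := by intro g; cases g <;> simp

theorem kernel_fact : ∀ σ : Equiv.Perm (Fin 4), σ ≠ 1 →
    (∃ τ₁ τ₂ : Equiv.Perm (Fin 4), τ₁ * σ * τ₁⁻¹ * (τ₂ * σ * τ₂⁻¹) = Equiv.swap 0 1 * Equiv.swap 2 3) ∨
    (∃ τ₁ τ₂ : Equiv.Perm (Fin 4), τ₁ * σ * τ₁⁻¹ * (τ₂ * σ⁻¹ * τ₂⁻¹) = Equiv.swap 0 1 * Equiv.swap 2 3) := by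
  decide +kernel


/-- In a set of 3-transpositions, let a, b, c be members with a and c different and commuting, while neither a nor c commutes with b (a 3-string). Then there is an injective homomorphism from the symmetric group of degree 4 into the ambient group sending the transpositions (0 1), (1 2), (2 3) to a, b, c; so a, b, c generate a copy of the symmetric group of degree 4 in which they are transpositions. -/
theorem result {G : Type*} [Group G] {D : Set G} (hD : Cfsg.IsThreeTranspositionSet D) {a b c : G} (ha : a ∈ D) (hb : b ∈ D) (hc : c ∈ D) (hac : a ≠ c) (hac' : Commute a c) (hab : ¬ Commute a b) (hbc : ¬ Commute b c) : ∃ φ : Equiv.Perm (Fin 4) →* G, Function.Injective φ ∧ φ (Equiv.swap 0 1) = a ∧ φ (Equiv.swap 1 2) = b ∧ φ (Equiv.swap 2 3) = c := by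
  obtain ⟨hinv, h3⟩ := hD
  have sq : ∀ d ∈ D, d * d = 1 := fun d hd => by rw [← pow_two, ← hinv d hd, pow_orderOf_eq_one]
  have braid : ∀ d ∈ D, ∀ e ∈ D, ¬ Commute d e → e * (d * e) = d * (e * d) := by
    intro d hd e he hne
    have di : d⁻¹ = d := inv_eq_of_mul_eq_one_left (sq d hd)
    have ei : e⁻¹ = e := inv_eq_of_mul_eq_one_left (sq e he)
    rcases h3 d hd e he with h | h
    · exfalso; apply hne
      have h1 : d * e = (d * e)⁻¹ := eq_inv_of_mul_eq_one_left (by rw [← pow_two]; exact h)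
      rw [mul_inv_rev, di, ei] at h1
      exact h1
    · have h1 : (d * e) * d * (e * d * e) = 1 := by
        rw [← h, pow_succ, pow_two]; group
      have h2 := eq_inv_of_mul_eq_one_left h1
      simp only [mul_inv_rev, di, ei] at h2
      simp only [mul_assoc] at h2
      exact h2.symm
  have haa : ∀ x, a * (a * x) = x := fun x => by rw [← mul_assoc, sq a ha, one_mul]
  have hbb : ∀ x, b * (b * x) = x := fun x => by rw [← mul_assoc, sq b hb, one_mul]
  have hcc : ∀ x, c * (c * x) = x := fun x => by rw [← mul_assoc, sq c hc, one_mul]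
  have hca : ∀ x, c * (a * x) = a * (c * x) := fun x => by rw [← mul_assoc, ← hac'.eq, mul_assoc]
  have hba : ∀ x, b * (a * (b * x)) = a * (b * (a * x)) := fun x => by
    have := congrArg (· * x) (braid a ha b hb hab)
    simpa only [mul_assoc] using this
  have hcb : ∀ x, c * (b * (c * x)) = b * (c * (b * x)) := fun x => by
    have := congrArg (· * x) (braid b hb c hc hbc)
    simpa only [mul_assoc] using this
  have hcbac : ∀ x, c * (b * (a * (c * x))) = b * (c * (b * (a * x))) := fun x => by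
    rw [← hca, hcb]
  let gG : Gen → G := fun g => match g with | .a => a | .b => b | .c => c
  let evalG : List Gen → G → G := fun w x => w.foldr (fun g y => gG g * y) x
  have step : ∀ g, ∀ w ∈ normalWords, ∀ x, evalG (g :: w) x = evalG (nf g w) x := by
    intro g w hw x
    simp only [normalWords, List.flatMap_cons, List.flatMap_nil, List.map_cons, List.map_nil, List.nil_append,
      List.cons_append, List.append_nil, List.mem_cons, List.not_mem_nil, or_false] at hw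
    rcases hw with rfl | rfl | rfl | rfl | rfl | rfl | rfl | rfl | rfl | rfl | rfl | rfl | rfl | rfl | rfl | rfl |
      rfl | rfl | rfl | rfl | rfl | rfl | rfl | rfl <;> cases g <;>
      (simp only [nf, evalG, gG, List.foldr_cons, List.foldr_nil, haa, hbb, hcc, hca, hba, hcb, hcbac])
  let S : Subgroup (Equiv.Perm (Fin 4) × G) := Subgroup.closure (Set.range fun g => (genPerm g, gG g))
  have key : ∀ p ∈ S, ∃ w ∈ normalWords, evalP w = p.1 ∧ ∀ x, evalG w x = p.2 * x := by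
    intro p hp
    have hgen : ∀ g, ∀ q : Equiv.Perm (Fin 4) × G, (∃ w ∈ normalWords, evalP w = q.1 ∧ ∀ x, evalG w x = q.2 * x) →
        ∃ w ∈ normalWords, evalP w = genPerm g * q.1 ∧ ∀ x, evalG w x = gG g * q.2 * x := by
      rintro g q ⟨w, hw, h1, h2⟩
      obtain ⟨h5, h4⟩ := nf_spec g (gen_mem g) w hw
      refine ⟨nf g w, h5, by rw [h4, h1], fun x => ?_⟩
      rw [← step g w hw x, mul_assoc, ← h2]
      rfl
    have hginv : ∀ g, (genPerm g, gG g)⁻¹ = (genPerm g, gG g) := by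
      intro g
      refine inv_eq_of_mul_eq_one_left (Prod.ext ?_ ?_)
      · cases g <;> simp [genPerm]
      · cases g <;> simp [gG, sq a ha, sq b hb, sq c hc]
    refine Subgroup.closure_induction_left (p := fun q _ => ∃ w ∈ normalWords, evalP w = q.1 ∧ ∀ x, evalG w x = q.2 * x)
      ⟨[], by decide, rfl, fun x => by show x = 1 * x; rw [one_mul]⟩ ?_ ?_ hp
    · rintro _ ⟨g, rfl⟩ q _ ih; exact hgen g q ih
    · rintro _ ⟨g, rfl⟩ q _ ih; rw [hginv g]; exact hgen g q ih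
  have hinj : Function.Injective (fun p : S => p.1.1) := by
    rintro ⟨p, hp⟩ ⟨q, hq⟩ h
    obtain ⟨w, hw, h1, h2⟩ := key p hp
    obtain ⟨w', hw', h1', h2'⟩ := key q hq
    obtain rfl := evalP_inj w hw w' hw' (by rw [h1, h1']; exact h)
    exact Subtype.ext (Prod.ext h (mul_right_cancel (b := (1 : G)) ((h2 1).symm.trans (h2' 1))))
  let π : S →* Equiv.Perm (Fin 4) := (MonoidHom.fst _ _).comp S.subtype
  have hsurj : Function.Surjective π := by
    rw [← MonoidHom.range_eq_top, eq_top_iff]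
    intro σ _
    have : ∀ w : List Gen, evalP w ∈ π.range := by
      intro w
      induction w with
      | nil => exact one_mem _
      | cons g w ih =>
        rw [evalP, List.map_cons, List.prod_cons]
        exact mul_mem ⟨⟨_, Subgroup.subset_closure ⟨g, rfl⟩⟩, rfl⟩ ih
    obtain ⟨w, -, hw⟩ := (show ∀ σ : Equiv.Perm (Fin 4), ∃ w ∈ normalWords, evalP w = σ by decide +kernel) σ
    exact hw ▸ this w
  let e : S ≃* Equiv.Perm (Fin 4) := MulEquiv.ofBijective π ⟨hinj, hsurj⟩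
  let φ : Equiv.Perm (Fin 4) →* G := ((MonoidHom.snd _ _).comp S.subtype).comp e.symm.toMonoidHom
  have hφ : ∀ g, φ (genPerm g) = gG g := by
    intro g
    have : e.symm (genPerm g) = ⟨(genPerm g, gG g), Subgroup.subset_closure ⟨g, rfl⟩⟩ := by
      rw [MulEquiv.symm_apply_eq]; rfl
    show ((e.symm (genPerm g) : S) : Equiv.Perm (Fin 4) × G).2 = gG g
    rw [this]
  refine ⟨φ, ?_, hφ .a, hφ .b, hφ .c⟩
  rw [injective_iff_map_eq_one]
  intro σ hσ
  by_contra hne
  have hbad : a * c = 1 := by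
    show gG .a * gG .c = 1
    rw [← hφ .a, ← hφ .c, ← map_mul]
    rcases kernel_fact σ hne with ⟨τ₁, τ₂, h⟩ | ⟨τ₁, τ₂, h⟩ <;>
    · show φ (Equiv.swap 0 1 * Equiv.swap 2 3) = 1
      rw [← h]
      simp [hσ]
  exact hac ((eq_inv_of_mul_eq_one_left hbad).trans (inv_eq_of_mul_eq_one_left (sq c hc)))

end Cfsg.Agent.S5344
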