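import Cfsg.Statements.S5399
import Cfsg.Agent.Lib.Fischer.Relations.Involutions.Twenty

set_option autoImplicit false
open Cfsg

namespace Cfsg.Agent.S5399

open Cfsg.Lib.Fischer Cfsg.Lib.Fischer.Relations

variable {G : Type*} [Group G] [Finite G] {D : Set G} {d : G}

/-- Short products of one length are conjugate. -/
theorem isConj_prod (K : M23Data D d) {m : ℕ} {x y : G} (hm1 : 1 ≤ m) (hm : m ≤ 3)
    (hx : IsProd D m x) (hy : IsProd D m y) : IsConj x y := by
  have hT := K.trans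
  -- bring the first member to `d`
  have norm : ∀ z, IsProd D m z → ∃ l : List G, l.Nodup ∧ l.length + 1 = m ∧ (∀ a ∈ l, a ∈ perp D d) ∧
      (∀ a ∈ l, ∀ b ∈ l, Commute a b) ∧ IsConj z (d * l.prod) := by
    rintro z ⟨l, hn, hlen, hl, hc, rfl⟩
    rcases l with _ | ⟨a, t⟩
    · simp at hlen; omega
    rw [List.nodup_cons] at hn
    obtain ⟨g, hg⟩ := hT.trans a (hl a (by simp)) d K.mem
    have inj : Function.Injective fun u : G => g * u * g⁻¹ := (MulAut.conj g).injective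
    refine ⟨t.map fun u => g * u * g⁻¹, hn.2.map inj, by simpa using hlen, ?_, ?_, isConj_iff.2 ⟨g, ?_⟩⟩
    · simp only [List.mem_map]
      rintro _ ⟨u, hu, rfl⟩
      exact ⟨hT.conj g u (hl u (by simp [hu])), fun e => hn.1 (inj (hg.trans e.symm) ▸ hu),
        hg ▸ (Commute.conj_iff g).2 (hc a (by simp) u (by simp [hu]))⟩
    · simp only [List.mem_map]
      rintro _ ⟨u, hu, rfl⟩ _ ⟨v, hv, rfl⟩
      exact (Commute.conj_iff g).2 (hc u (by simp [hu]) v (by simp [hv]))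
    · rw [prod_conj_list hT, ← hg, List.prod_cons]
      group
  obtain ⟨l, hn, hlen, hl, hc, e⟩ := norm x hx
  obtain ⟨l', hn', hlen', hl', hc', e'⟩ := norm y hy
  refine e.trans (IsConj.trans ?_ e'.symm)
  rw [isConj_iff]
  interval_cases m
  · exact ⟨1, by simp [List.length_eq_zero_iff.1 (show l.length = 0 by omega),
      List.length_eq_zero_iff.1 (show l'.length = 0 by omega)]⟩
  · obtain ⟨b, rfl⟩ := List.length_eq_one_iff.1 (show l.length = 1 by omega)
    obtain ⟨b', rfl⟩ := List.length_eq_one_iff.1 (show l'.length = 1 by omega)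
    obtain ⟨g, hg, eg⟩ := perp_transitive K.fis K.mem (hl b (by simp)) (hl' b' (by simp))
    have f : g * d * g⁻¹ = d := by rw [(K.commute_of_mem hg).eq, mul_inv_cancel_right]
    refine ⟨g, ?_⟩
    simp only [List.prod_singleton]
    calc g * (d * b) * g⁻¹ = g * d * g⁻¹ * (g * b * g⁻¹) := by group
      _ = d * b' := by rw [f, eg]
  · obtain ⟨b, c, rfl⟩ := List.length_eq_two.1 (show l.length = 2 by omega)
    obtain ⟨b', c', rfl⟩ := List.length_eq_two.1 (show l'.length = 2 by omega)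
    have hne : c ≠ b := fun e => by simp [e] at hn
    have hne' : c' ≠ b' := fun e => by simp [e] at hn'
    obtain ⟨g, f, e1, e2⟩ := K.pair_transitive (hl b (by simp)) (hl c (by simp))
      ⟨(hl c (by simp)).1, hne, hc b (by simp) c (by simp)⟩ (hl' b' (by simp)) (hl' c' (by simp))
      ⟨(hl' c' (by simp)).1, hne', hc' b' (by simp) c' (by simp)⟩
    refine ⟨g, ?_⟩
    simp only [List.prod_cons, List.prod_nil, mul_one]
    calc g * (d * (b * c)) * g⁻¹ = g * d * g⁻¹ * (g * b * g⁻¹ * (g * c * g⁻¹)) := by group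
      _ = d * (b' * c') := by rw [f, e1, e2]

/-- Let G be a finite group with trivial centre generated by a conjugation-invariant set D of 3-transpositions on which it acts primitively, such that for some d in D the subgroup generated by the members of D other than d commuting with d has central largest normal 2- and 3-subgroups, and suppose G with D is of type M(23). Then G has exactly 3 conjugacy classes of involutions: every involution is a product of m distinct pairwise commuting members of D for some m between 1 and 3; for each such m these products form one non-empty conjugacy class; and the value of m is determined by the involution. -/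
theorem result {G : Type*} [Group G] [Finite G] {D : Set G} (hD : Cfsg.IsThreeTranspositionGroup D) (hprim : Cfsg.IsPrimitiveUnderConj D) (d : G) (hd : d ∈ D) (h3 : Cfsg.pCore 3 ↥(Subgroup.closure {y : G | y ∈ D ∧ y ≠ d ∧ Commute d y}) ≤ Subgroup.center ↥(Subgroup.closure {y : G | y ∈ D ∧ y ≠ d ∧ Commute d y})) (h2 : Cfsg.pCore 2 ↥(Subgroup.closure {y : G | y ∈ D ∧ y ≠ d ∧ Commute d y}) ≤ Subgroup.center ↥(Subgroup.closure {y : G | y ∈ D ∧ y ≠ d ∧ Commute d y})) (ht : Cfsg.IsOfTypeM23 G D) : (∀ x : G, orderOf x = 2 → ∃ m : ℕ, 1 ≤ m ∧ m ≤ 3 ∧ (∃ l : List G, l.Nodup ∧ l.length = m ∧ (∀ a ∈ l, a ∈ D) ∧ (∀ a ∈ l, ∀ b ∈ l, Commute a b) ∧ l.prod = x)) ∧ (∀ m : ℕ, 1 ≤ m → m ≤ 3 → (∃ x : G, orderOf x = 2 ∧ (∃ l : List G, l.Nodup ∧ l.length = m ∧ (∀ a ∈ l, a ∈ D) ∧ (∀ a ∈ l, ∀ b ∈ l, Commute a b) ∧ l.prod = x)) ∧ ∀ x y : G, (∃ l : List G, l.Nodup ∧ l.length = m ∧ (∀ a ∈ l, a ∈ D) ∧ (∀ a ∈ l, ∀ b ∈ l, Commute a b) ∧ l.prod = x) → (∃ l : List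 G, l.Nodup ∧ l.length = m ∧ (∀ a ∈ l, a ∈ D) ∧ (∀ a ∈ l, ∀ b ∈ l, Commute a b) ∧ l.prod = y) → IsConj x y) ∧ ∀ (m m' : ℕ) (x : G), 1 ≤ m → m ≤ 3 → 1 ≤ m' → m' ≤ 3 → (∃ l : List G, l.Nodup ∧ l.length = m ∧ (∀ a ∈ l, a ∈ D) ∧ (∀ a ∈ l, ∀ b ∈ l, Commute a b) ∧ l.prod = x) → (∃ l : List G, l.Nodup ∧ l.length = m' ∧ (∀ a ∈ l, a ∈ D) ∧ (∀ a ∈ l, ∀ b ∈ l, Commute a b) ∧ l.prod = x) → m = m' := by
  obtain ⟨hset, hconj, hgen⟩ := hD
  have hT : Trans D := ⟨hset, hconj, hprim.1, hgen, ⟨d, hd⟩⟩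
  have hcore : ∀ e ∈ D, Cfsg.pCore 2 ↥(Subgroup.closure (perp D e)) ≤
      Subgroup.center ↥(Subgroup.closure (perp D e)) := fun e he => by
    obtain ⟨g, rfl⟩ := hprim.1 d hd e he
    exact core_perp_conj hT g d h2
  have h6 := m23_noRel hT hprim ht hcore
  obtain ⟨-, hDc, -, -, -⟩ := m23_order hT hprim ht
  obtain ⟨d₁, K⟩ := m23_data hT hprim ht fun c hc Q hQ =>
    Dvd.dvd.trans (by norm_num) (ReflSeven.quot_dvd Q hQ hc)
  obtain ⟨F, _, _, hF, b₁, ⟨C⟩⟩ := exists_coord23 K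
  have hord : ∀ {m : ℕ} {x : G}, 1 ≤ m → m ≤ 3 → IsProd D m x → orderOf x = 2 := by
    rintro m x hm1 hm ⟨l, hn, hlen, hl, hc, rfl⟩
    refine orderOf_eq_prime (by rw [pow_two, prod_sq hT hl hc]) fun e => ?_
    have h0 := h6 l hn hl hc (fun y _ => e ▸ Commute.one_left y) (by omega)
    simp [h0] at hlen
    omega
  refine ⟨fun x hx => ?_, fun m hm1 hm => ⟨?_, fun x y hx hy => isConj_prod K hm1 hm hx hy⟩, ?_⟩
  · have hxx : x * x = 1 := by rw [← pow_two, ← hx, pow_orderOf_eq_one]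
    obtain ⟨a, ha, hxa⟩ := exists_fixed_member hT (by rw [hDc]; norm_num) hxx
    obtain ⟨g, hg⟩ := hT.trans a ha d₁ K.mem
    obtain ⟨m, hm, hy⟩ := C.involution_isProd h6 (x := g * x * g⁻¹) (hg ▸ (Commute.conj_iff g).2 hxa) (by
      calc g * x * g⁻¹ * (g * x * g⁻¹) = g * (x * x) * g⁻¹ := by group
        _ = 1 := by rw [hxx, mul_one, mul_inv_cancel])
    have hy' : IsProd D m x := by simpa [mul_assoc] using hy.conj hT g⁻¹
    refine ⟨m, Nat.one_le_iff_ne_zero.2 ?_, hm, hy'⟩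
    rintro rfl
    obtain ⟨l, -, hlen, -, -, e⟩ := hy'
    rw [List.length_eq_zero_iff.1 hlen, List.prod_nil] at e
    simp [← e] at hx
  · obtain ⟨q, hq, hne, hqc⟩ := exists_perp K.imgFis C.co.mem
    obtain ⟨c, hc, rfl⟩ := exists_bar hq
    have hbc : Commute b₁ c := (bar_commute hT (fun _ h => h.1) C.bmem hc).1 hqc
    have hcne : b₁ ≠ c := fun e => hne (by subst e; rfl)
    obtain ⟨hn, hl, hcc⟩ := IsTriple.mk K.mem C.bmem.1 hc.1 C.bmem.2.1.symm hc.2.1.symm hcne C.bmem.2.2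
      hc.2.2 hbc
    have hp : IsProd D m ([d₁, b₁, c].take m).prod := ⟨_, hn.sublist (List.take_sublist _ _), by simp; omega,
      fun a ha => hl a (List.mem_of_mem_take ha),
      fun a ha a' ha' => hcc a (List.mem_of_mem_take ha) a' (List.mem_of_mem_take ha'), rfl⟩
    exact ⟨_, hord hm1 hm hp, hp⟩
  · rintro m m' x - hm - hm' ⟨l, hn, hlen, hl, hc, e⟩ ⟨l', hn', hlen', hl', hc', e'⟩
    have hiff := mem_iff_of_prod_eq hT h6 hn hn' hl hl' hc hc' (hlen ▸ hm) (by omega) (e.trans e'.symm)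
    have := ((List.perm_ext_iff_of_nodup hn hn').2 hiff).length_eq
    omega

end Cfsg.Agent.S5399
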