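import Cfsg.Statements.S5468
import Cfsg.Agent.Lib.Fischer.Relations.Pair.Twenty

set_option autoImplicit false
open Cfsg

namespace Cfsg.Agent.S5468

open Cfsg.Lib.Fischer Cfsg.Lib.Fischer.Relations
open scoped commutatorElement

/-- An ordered commuting pair goes to another by conjugation. -/
theorem pair_move {G : Type*} [Group G] [Finite G] {D : Set G} (hF : IsFischer D) {a b a' b' : G} (ha : a ∈ D)
    (hb : b ∈ perp D a) (ha' : a' ∈ D) (hb' : b' ∈ perp D a') :
    ∃ g : G, g * a * g⁻¹ = a' ∧ g * b * g⁻¹ = b' := by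
  obtain ⟨g, hg⟩ := hF.toTrans.trans a ha a' ha'
  have h := conj_perp hF g a hb
  rw [hg] at h
  obtain ⟨k, hk, ek⟩ := perp_transitive hF ha' h hb'
  have f : k * a' * k⁻¹ = a' := by
    rw [(commute_of_mem_closure hF ha' (Subgroup.closure_mono (Set.subset_insert _ _) hk)).eq, mul_inv_cancel_right]
  refine ⟨k * g, ?_, ?_⟩
  · rw [show k * g * a * (k * g)⁻¹ = k * (g * a * g⁻¹) * k⁻¹ by group, hg, f]
  · rw [show k * g * b * (k * g)⁻¹ = k * (g * b * g⁻¹) * k⁻¹ by group, ek]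

/-- Let G be a finite group with trivial centre generated by a conjugation-invariant set D of 3-transpositions on which it acts primitively, such that for some d in D the subgroup generated by the members of D other than d commuting with d has central largest normal 2- and 3-subgroups, and suppose G with D is of type M(23). Let d₁, d₂ be distinct commuting members of D, j = d₁ d₂, K the joint centralizer of d₁ and d₂ and C the centralizer of j. Then K has index 2 in C, the centre of K is the subgroup generated by d₁ and d₂, K is quasisimple with K modulo its centre isomorphic to the projective special unitary group of dimension 6 over the field with four elements, and C modulo the subgroup generated by d₁ and d₂ has trivial centre (so it is that unitary group extended by an outer involution). -/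
theorem result {G : Type*} [Group G] [Finite G] {D : Set G} (hD : Cfsg.IsThreeTranspositionGroup D) (hprim : Cfsg.IsPrimitiveUnderConj D) (d₀ : G) (hd₀ : d₀ ∈ D) (h3 : Cfsg.pCore 3 ↥(Subgroup.closure {y : G | y ∈ D ∧ y ≠ d₀ ∧ Commute d₀ y}) ≤ Subgroup.center ↥(Subgroup.closure {y : G | y ∈ D ∧ y ≠ d₀ ∧ Commute d₀ y})) (h2 : Cfsg.pCore 2 ↥(Subgroup.closure {y : G | y ∈ D ∧ y ≠ d₀ ∧ Commute d₀ y}) ≤ Subgroup.center ↥(Subgroup.closure {y : G | y ∈ D ∧ y ≠ d₀ ∧ Commute d₀ y})) (h23 : Cfsg.IsOfTypeM23 G D) (d₁ d₂ : G) (h₁ : d₁ ∈ D) (h₂ : d₂ ∈ D) (hne : d₁ ≠ d₂) (hc : Commute d₁ d₂) (K C V : Subgroup G) (hK : K = Subgroup.centralizer ({d₁, d₂} : Set G)) (hC : C = Subgroup.centralizer ({d₁ * d₂} : Set G)) (hV : V = Subgroup.closure ({d₁, d₂} : Set G)) [hn : (V.subgroupOf C).Normal] : K ≤ C ∧ (K.subgroupOf C).index = 2 ∧ (Subgroup.center ↥K).map K.subtype = V ∧ Cfsg.IsQuasisimple ↥K ∧ (∃ (F : Type) (_ : Field F) (_ : Fintype F), Fintype.card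 F = 4 ∧ Nonempty (↥K ⧸ Subgroup.center ↥K ≃* Cfsg.PSU 6 F 2)) ∧ Subgroup.center (↥C ⧸ V.subgroupOf C) = ⊥ := by
  obtain ⟨hset, hconj, hgen⟩ := hD
  have hT : Trans D := ⟨hset, hconj, hprim.1, hgen, ⟨d₀, hd₀⟩⟩
  have hcore : ∀ e ∈ D, Cfsg.pCore 2 ↥(Subgroup.closure (perp D e)) ≤
      Subgroup.center ↥(Subgroup.closure (perp D e)) := fun e he => by
    obtain ⟨g, rfl⟩ := hprim.1 d₀ hd₀ e he
    exact core_perp_conj hT g d₀ h2
  have h6 := m23_noRel hT hprim h23 hcore
  obtain ⟨d, b, hd, hb, hqs, hcen, F, _, _, hF, ⟨e6⟩⟩ := m23_pair_base hT hprim h23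
  have hFD := isFischer_of_primitive hT hprim ⟨d₁, h₁, d₂, h₂, hne, hc⟩ h23.1
  have hp₂ : d₂ ∈ perp D d₁ := ⟨h₂, hne.symm, hc⟩
  obtain ⟨g, g1, g2⟩ := pair_move hFD hd hb h₁ hp₂
  -- transport to the given pair
  have hmap : (Subgroup.centralizer ({d, b} : Set G)).map (MulAut.conj g).toMonoidHom = K := by
    ext x
    rw [hK, Subgroup.mem_map, mem_centralizer_pair]
    constructor
    · rintro ⟨y, hy, rfl⟩
      rw [mem_centralizer_pair] at hy
      rw [← g1, ← g2]
      exact ⟨(Commute.conj_iff g).2 hy.1, (Commute.conj_iff g).2 hy.2⟩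
    · intro hx
      rw [← g1, ← g2] at hx
      refine ⟨g⁻¹ * x * g, mem_centralizer_pair.2 ⟨?_, ?_⟩, by simp [mul_assoc]⟩
      · refine (Commute.conj_iff g).1 ?_
        rw [show g * (g⁻¹ * x * g) * g⁻¹ = x by group]
        exact hx.1
      · refine (Commute.conj_iff g).1 ?_
        rw [show g * (g⁻¹ * x * g) * g⁻¹ = x by group]
        exact hx.2
  obtain ⟨E, hE⟩ : ∃ E : ↥(Subgroup.centralizer ({d, b} : Set G)) ≃* ↥K, ∀ y, (E y : G) = g * y * g⁻¹ :=
    ⟨((Subgroup.centralizer ({d, b} : Set G)).equivMapOfInjective _ (MulAut.conj g).injective).trans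
      (MulEquiv.subgroupCongr hmap), fun y => rfl⟩
  have hcE : (Subgroup.center ↥(Subgroup.centralizer ({d, b} : Set G))).map E.toMonoidHom =
      Subgroup.center ↥K := by
    ext x
    rw [Subgroup.mem_map_equiv, Subgroup.mem_center_iff, Subgroup.mem_center_iff]
    exact ⟨fun h y => E.symm.injective (by simpa using h (E.symm y)),
      fun h y => E.injective (by simpa using h (E y))⟩
  have hVc : (Subgroup.center ↥K).map K.subtype = V := by
    rw [← hcE, Subgroup.map_map, show K.subtype.comp E.toMonoidHom =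
      (MulAut.conj g).toMonoidHom.comp (Subgroup.centralizer ({d, b} : Set G)).subtype from MonoidHom.ext hE,
      ← Subgroup.map_map, hcen, MonoidHom.map_closure, hV, Set.image_insert_eq, Set.image_singleton, ← g1, ← g2]
    rfl
  have hKq : Cfsg.IsQuasisimple ↥K := Cfsg.Lib.Core.quasisimple_congr hqs E
  have hKC : K ≤ C := fun x hx => by
    rw [hK, mem_centralizer_pair] at hx
    rw [hC, Subgroup.mem_centralizer_singleton_iff]
    exact (hx.1.mul_right hx.2).eq
  have hperm : ∀ x ∈ C, (x * d₁ * x⁻¹ = d₁ ∧ x * d₂ * x⁻¹ = d₂) ∨ (x * d₁ * x⁻¹ = d₂ ∧ x * d₂ * x⁻¹ = d₁) := by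
    intro x hx
    rw [hC, Subgroup.mem_centralizer_singleton_iff] at hx
    have hne' : x * d₁ * x⁻¹ ≠ x * d₂ * x⁻¹ := fun e => hne ((MulAut.conj x).injective e)
    have hc' : Commute (x * d₁ * x⁻¹) (x * d₂ * x⁻¹) := (Commute.conj_iff x).2 hc
    have hiff := mem_iff_of_prod_eq hT h6 (l := [x * d₁ * x⁻¹, x * d₂ * x⁻¹]) (l' := [d₁, d₂])
      (by simp [hne']) (by simp [hne]) (by simp [hconj x d₁ h₁, hconj x d₂ h₂]) (by simp [h₁, h₂])
      (by simp [hc', hc'.symm]) (by simp [hc, hc.symm]) (by simp) (by simp) (by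
        simp only [List.prod_cons, List.prod_nil, mul_one]
        calc x * d₁ * x⁻¹ * (x * d₂ * x⁻¹) = x * (d₁ * d₂) * x⁻¹ := by group
          _ = d₁ * d₂ := by rw [hx, mul_inv_cancel_right])
    have a1 := (hiff _).1 (List.mem_cons_self ..)
    have a2 := (hiff _).1 (List.mem_cons_of_mem _ (List.mem_cons_self ..))
    simp only [List.mem_cons, List.not_mem_nil, or_false] at a1 a2
    rcases a1 with a1 | a1 <;> rcases a2 with a2 | a2
    · exact absurd (a1.trans a2.symm) hne'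
    · exact Or.inl ⟨a1, a2⟩
    · exact Or.inr ⟨a1, a2⟩
    · exact absurd (a1.trans a2.symm) hne'
  have hKmem : ∀ x, x ∈ K ↔ x * d₁ * x⁻¹ = d₁ ∧ x * d₂ * x⁻¹ = d₂ := fun x => by
    rw [hK, mem_centralizer_pair, mul_inv_eq_iff_eq_mul, mul_inv_eq_iff_eq_mul]
    rfl
  obtain ⟨s, s1, s2⟩ := pair_move hFD h₁ hp₂ h₂ (⟨h₁, hne, hc.symm⟩ : d₁ ∈ perp D d₂)
  have hsC : s ∈ C := by
    rw [hC, Subgroup.mem_centralizer_singleton_iff, ← mul_inv_eq_iff_eq_mul,
      show s * (d₁ * d₂) * s⁻¹ = s * d₁ * s⁻¹ * (s * d₂ * s⁻¹) by group, s1, s2, hc.eq]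
  have hidx : (K.subgroupOf C).index = 2 := by
    have hstep : ∀ y : ↥C, Xor (y * ⟨s, hsC⟩ ∈ K.subgroupOf C) (y ∈ K.subgroupOf C) := fun y => by
      simp only [Subgroup.mem_subgroupOf, Subgroup.coe_mul, hKmem]
      have e : ∀ u, (y : G) * s * u * ((y : G) * s)⁻¹ = y * (s * u * s⁻¹) * (y : G)⁻¹ := fun u => by group
      rw [e, e, s1, s2]
      rcases hperm y y.2 with ⟨y1, y2⟩ | ⟨y1, y2⟩ <;> rw [y1, y2]
      · exact Or.inr ⟨⟨rfl, rfl⟩, fun h => hne h.1.symm⟩
      · exact Or.inl ⟨⟨rfl, rfl⟩, fun h => hne h.1.symm⟩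
    exact Subgroup.index_eq_two_iff.2 ⟨_, hstep⟩
  refine ⟨hKC, hidx, hVc, hKq, ⟨F, inferInstance, inferInstance, hF,
    ⟨(QuotientGroup.congr _ _ E hcE).symm.trans e6⟩⟩, ?_⟩
  -- nothing outside the pair is central modulo it
  have hKV : ∀ v ∈ V, ∀ k ∈ K, Commute v k := by
    intro v hv k hk
    rw [← hVc] at hv
    obtain ⟨z, hz, rfl⟩ := hv
    exact (congrArg Subtype.val (Subgroup.mem_center_iff.1 hz ⟨k, hk⟩)).symm
  rw [eq_bot_iff]
  intro q hq
  obtain ⟨⟨x, hx⟩, rfl⟩ := QuotientGroup.mk_surjective q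
  rw [Subgroup.mem_bot, QuotientGroup.eq_one_iff, Subgroup.mem_subgroupOf]
  have hcomm : ∀ k ∈ K, ∃ v ∈ V, x * k * x⁻¹ = k * v := fun k hk => by
    have h := (Subgroup.mem_center_iff.1 hq (QuotientGroup.mk ⟨k, hKC hk⟩))
    rw [← QuotientGroup.mk_mul, ← QuotientGroup.mk_mul, QuotientGroup.eq, Subgroup.mem_subgroupOf] at h
    refine ⟨_, hn.conj_mem _ (Subgroup.mem_subgroupOf.2 h) ⟨x, hx⟩, ?_⟩
    show x * k * x⁻¹ = k * (x * ((k * x)⁻¹ * (x * k)) * x⁻¹)
    group
  have hxK : ∀ k ∈ K, Commute x k := by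
    have hperf : ⁅K, K⁆ = K := Subgroup.isPerfect_iff.1 hKq.1
    have hle : ⁅K, K⁆ ≤ Subgroup.centralizer ({x} : Set G) := by
      refine Subgroup.commutator_le.2 fun a ha b hb => ?_
      obtain ⟨v, hv, ea⟩ := hcomm a ha
      obtain ⟨w, hw, eb⟩ := hcomm b hb
      have c1 : Commute v b := hKV v hv b hb
      have c2 : Commute w a := hKV w hw a ha
      have c3 : Commute v w := hKV v hv w (by
        rw [← hVc] at hw
        obtain ⟨z, -, rfl⟩ := hw
        exact z.2)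
      have e : x * ⁅a, b⁆ * x⁻¹ = ⁅a, b⁆ := by
        rw [commutatorElement_def, show x * (a * b * a⁻¹ * b⁻¹) * x⁻¹ =
          x * a * x⁻¹ * (x * b * x⁻¹) * (x * a * x⁻¹)⁻¹ * (x * b * x⁻¹)⁻¹ by group, ea, eb]
        calc a * v * (b * w) * (a * v)⁻¹ * (b * w)⁻¹ = a * (v * (b * w) * v⁻¹) * a⁻¹ * (w⁻¹ * b⁻¹) := by group
          _ = a * b * (w * a⁻¹) * w⁻¹ * b⁻¹ := by rw [(c1.mul_right c3).eq, mul_inv_cancel_right]; group
          _ = a * b * a⁻¹ * b⁻¹ := by rw [c2.inv_right.eq]; group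
      exact Subgroup.mem_centralizer_singleton_iff.2 (mul_inv_eq_iff_eq_mul.1 e).symm
    intro k hk
    exact (Subgroup.mem_centralizer_singleton_iff.1 (hle (hperf.symm ▸ hk))).symm
  have hd₁K : d₁ ∈ K := by
    rw [hK, mem_centralizer_pair]
    exact ⟨Commute.refl _, hc⟩
  have hxmem : x ∈ K := by
    rcases hperm x hx with h | h
    · exact (hKmem x).2 h
    · exfalso
      rw [(hxK d₁ hd₁K).eq, mul_inv_cancel_right] at h
      exact hne h.1
  rw [← hVc]
  exact ⟨⟨x, hxmem⟩, Subgroup.mem_center_iff.2 fun k => Subtype.ext (hxK k k.2).eq.symm, rfl⟩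

end Cfsg.Agent.S5468
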