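import Cfsg.Statements.S5561
import Cfsg.Agent.Lib.Invol.IsolatedSylow
import Cfsg.Agent.Lib.Core.Cores

set_option autoImplicit false
open Cfsg

namespace Cfsg.Agent.S5561

/-- The case p = 3 of the Z*-type result for involution classes. Let G be a finite group and d an involution of G such that the product of any two conjugates of d has order a power of 3. Then the product of any two conjugates of d lies in O₃(G); so the conjugacy class of d lies in the coset O₃(G)d. -/
theorem result {G : Type*} [Group G] [Finite G] (d : G) (hd : orderOf d = 2)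
    (hprod : ∀ a ∈ conjugatesOf d, ∀ b ∈ conjugatesOf d, ∃ k : ℕ, orderOf (a * b) = 3 ^ k) :
    ∀ a ∈ conjugatesOf d, ∀ b ∈ conjugatesOf d, a * b ∈ Cfsg.pCore 3 G := by
  classical
  have hdd : d * d = 1 := by rw [← pow_two, ← hd, pow_orderOf_eq_one]
  have hdi : d⁻¹ = d := inv_eq_of_mul_eq_one_right hdd
  have hmem : ∀ g : G, g * d * g⁻¹ ∈ conjugatesOf d := fun g => isConj_iff.2 ⟨g, rfl⟩
  have hone : ∀ (q : ℕ), q.Prime → q ≠ 3 → ∀ (g : G) (n : ℕ), (d * (g * d * g⁻¹)) ^ q ^ n = 1 →
      g * d * g⁻¹ = d := by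
    intro q hq hq3 g n hn
    obtain ⟨k, hk⟩ := hprod d (mem_conjugatesOf_self) _ (hmem g)
    have h1 : orderOf (d * (g * d * g⁻¹)) = 1 := Nat.eq_one_of_dvd_coprimes
      (((Nat.coprime_primes hq Nat.prime_three).2 hq3).pow n k) (orderOf_dvd_of_pow_eq_one hn) (dvd_of_eq hk)
    rw [orderOf_eq_one_iff] at h1
    rw [eq_inv_of_mul_eq_one_right h1, hdi]
  have hz : Cfsg.IsIsolatedInvolution d := ⟨hd, fun g hc => hone 2 Nat.prime_two (by decide) g 1 (by
    rw [pow_one, hc.mul_pow, pow_two, pow_two, hdd, one_mul]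
    simp only [mul_assoc, inv_mul_cancel_left]
    rw [← mul_assoc d, hdd, one_mul, mul_inv_cancel])⟩
  set C := Subgroup.centralizer ({d} : Set G) with hC
  have hidx : ∀ p : ℕ, p.Prime → p ∣ C.index → p = 3 := by
    intro p hp hdvd
    by_contra hp3
    haveI : Fact p.Prime := ⟨hp⟩
    obtain ⟨P, hP⟩ := Lib.Invol.exists_invariant_sylow hz p
    refine P.not_dvd_index (hdvd.trans (Subgroup.index_dvd_of_le fun x hx => ?_))
    have hy : d * (x * d * x⁻¹) ∈ (P : Subgroup G) := by
      have h1 := (Subgroup.mem_normalizer_iff.1 hP x).1 hx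
      rw [show d * (x * d * x⁻¹) = (d * x * d⁻¹) * x⁻¹ by rw [hdi]; simp only [mul_assoc]]
      exact mul_mem h1 (inv_mem hx)
    obtain ⟨n, hn⟩ := P.2 ⟨_, hy⟩
    exact Subgroup.mem_centralizer_singleton_iff.2
      (mul_inv_eq_iff_eq_mul.1 (hone p hp hp3 x n (congrArg Subtype.val hn)))
  haveI : Fact (Nat.Prime 3) := ⟨Nat.prime_three⟩
  obtain ⟨P, hP⟩ := Lib.Invol.exists_invariant_sylow hz 3
  have hdvd : C.index ∣ C.relIndex (P : Subgroup G) := by
    refine Nat.Coprime.dvd_of_dvd_mul_right (n := (P : Subgroup G).index) ?_ ?_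
    · refine Nat.coprime_of_dvd fun p hp h1 h2 => ?_
      obtain rfl := hidx p hp h1
      exact P.not_dvd_index h2
    · rw [← Subgroup.inf_relIndex_right, Subgroup.relIndex_mul_index inf_le_right]
      exact Subgroup.index_dvd_of_le inf_le_left
  let f : (P : Subgroup G) ⧸ C.subgroupOf P → G ⧸ C :=
    Quotient.map' (fun x => (x : G)) fun x y hxy => by
      rw [QuotientGroup.leftRel_apply] at hxy ⊢
      simpa [Subgroup.mem_subgroupOf] using hxy
  have hf : Function.Injective f := by
    intro u v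
    induction u using QuotientGroup.induction_on with | _ u => ?_
    induction v using QuotientGroup.induction_on with | _ v => ?_
    intro huv
    have huv' : (QuotientGroup.mk (u : G) : G ⧸ C) = QuotientGroup.mk (v : G) := huv
    rw [QuotientGroup.eq] at huv' ⊢
    simpa [Subgroup.mem_subgroupOf] using huv'
  have hbij : Function.Bijective f := hf.bijective_of_nat_card_le (Nat.le_of_dvd Nat.card_pos hdvd)
  have hin : ∀ g : G, d * (g * d * g⁻¹) ∈ (P : Subgroup G) := by
    intro g
    obtain ⟨u, hu⟩ := hbij.2 (QuotientGroup.mk g)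
    induction u using QuotientGroup.induction_on with | _ u => ?_
    have hu' : (QuotientGroup.mk (u : G) : G ⧸ C) = QuotientGroup.mk g := hu
    rw [QuotientGroup.eq, hC, Subgroup.mem_centralizer_singleton_iff] at hu'
    have e : g * d * g⁻¹ = (u : G) * d * (u : G)⁻¹ := by
      calc g * d * g⁻¹ = (u : G) * ((u : G)⁻¹ * g * d) * g⁻¹ := by group
        _ = (u : G) * (d * ((u : G)⁻¹ * g)) * g⁻¹ := by rw [hu']
        _ = _ := by group
    rw [e, show d * ((u : G) * d * (u : G)⁻¹) = (d * u * d⁻¹) * (u : G)⁻¹ by rw [hdi]; simp only [mul_assoc]]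
    exact mul_mem ((Subgroup.mem_normalizer_iff.1 hP _).1 u.2) (inv_mem u.2)
  let N := Subgroup.closure {w : G | ∃ g : G, w = d * (g * d * g⁻¹)}
  have hN : N ≤ (P : Subgroup G) := by
    refine (Subgroup.closure_le _).2 ?_
    rintro _ ⟨g, rfl⟩
    exact hin g
  have hNn : N.Normal := by
    refine ⟨fun w hw h => ?_⟩
    induction hw using Subgroup.closure_induction with
    | mem w hw =>
      obtain ⟨g, rfl⟩ := hw
      have e : h * (d * (g * d * g⁻¹)) * h⁻¹ = (d * (h * d * h⁻¹))⁻¹ * (d * ((h * g) * d * (h * g)⁻¹)) := by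
        simp only [_root_.mul_inv_rev, inv_inv, hdi, mul_assoc]
        rw [← mul_assoc d d, hdd, one_mul, inv_mul_cancel_left]
      rw [e]
      exact mul_mem (inv_mem (Subgroup.subset_closure ⟨h, rfl⟩)) (Subgroup.subset_closure ⟨h * g, rfl⟩)
    | one => simp
    | mul u v _ _ hu hv => simpa [mul_assoc] using mul_mem hu hv
    | inv u _ hu => simpa [mul_assoc] using inv_mem hu
  have hle := Lib.Core.le_pCore' hNn (P.2.to_le hN)
  intro a ha b hb
  obtain ⟨g, rfl⟩ := isConj_iff.1 ha
  obtain ⟨k, rfl⟩ := isConj_iff.1 hb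
  have e : g * d * g⁻¹ * (k * d * k⁻¹) = (d * (g * d * g⁻¹))⁻¹ * (d * (k * d * k⁻¹)) := by
    simp only [_root_.mul_inv_rev, inv_inv, hdi, mul_assoc]
    rw [← mul_assoc d d, hdd, one_mul]
  rw [e]
  exact mul_mem (inv_mem (hle (Subgroup.subset_closure ⟨g, rfl⟩))) (hle (Subgroup.subset_closure ⟨k, rfl⟩))

end Cfsg.Agent.S5561
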