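import Cfsg.Statements.S5355
import Cfsg.Agent.Lib.Fischer.Classes
import Cfsg.Agent.S5344

set_option autoImplicit false
open Cfsg

namespace Cfsg.Agent.S5355

/-- Let D be a conjugacy class of 3-transpositions generating the finite group G, with at least two members, and d a member of D. Suppose that every member of D commuting with d commutes with exactly the same members of D as d does, and that exactly one member of D other than d commutes with d. Then G is isomorphic to the symmetric group of degree 4. -/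
theorem result {G : Type*} [Group G] [Finite G] {D : Set G} (hD : Cfsg.IsThreeTranspositionClass D) (hD2 : ∃ a ∈ D, ∃ b ∈ D, a ≠ b) {d : G} (hd : d ∈ D) (hV : {y : G | y ∈ D ∧ Commute d y} = {v : G | v ∈ D ∧ ∀ e ∈ D, Commute v e ↔ Commute d e}) (hm : {y : G | y ∈ D ∧ Commute d y}.ncard = 2) : Nonempty (G ≃* Equiv.Perm (Fin 4)) := by
  classical
  have hT := Cfsg.Lib.Fischer.trans_of_class hD
  have hall : ∀ a ∈ D, ∀ b ∈ D, Commute a b → ∀ e ∈ D, Commute a e ↔ Commute b e := by
    intro a ha b hb hab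
    obtain ⟨g, rfl⟩ := hT.trans d hd a ha
    have hb' : g⁻¹ * b * g ∈ D := by simpa using hT.conj g⁻¹ b hb
    have hcb : Commute d (g⁻¹ * b * g) := by simpa [mul_assoc] using (Commute.conj_iff g⁻¹).2 hab
    have h := (Set.ext_iff.1 hV _).1 ⟨hb', hcb⟩
    have h' := (Cfsg.Lib.Fischer.blocks_sameComm hT).inv g d hd _ hb' fun e he => (h.2 e he).symm
    intro e he
    have h'' := h' e he
    simpa [mul_assoc] using h''
  have hcount : ∀ x ∈ D, ∃ x', x' ∈ D ∧ x' ≠ x ∧ Commute x x' ∧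
      ∀ z ∈ D, Commute x z → z = x ∨ z = x' := by
    intro x hx
    obtain ⟨g, rfl⟩ := hT.trans d hd x hx
    obtain ⟨u, v, huv, hset⟩ := Set.ncard_eq_two.1 hm
    have hd' : d = u ∨ d = v := by
      have : d ∈ ({u, v} : Set G) := hset ▸ ⟨hd, Commute.refl d⟩
      simpa using this
    obtain ⟨w, hwD, hwd, hwc, hw⟩ : ∃ w, w ∈ D ∧ w ≠ d ∧ Commute d w ∧
        ∀ z ∈ D, Commute d z → z = d ∨ z = w := by
      have hmem : ∀ z, (z ∈ D ∧ Commute d z) ↔ z = u ∨ z = v := fun z => by
        have := Set.ext_iff.1 hset z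
        simpa using this
      rcases hd' with rfl | rfl
      · exact ⟨v, ((hmem v).2 (Or.inr rfl)).1, huv.symm, ((hmem v).2 (Or.inr rfl)).2,
          fun z hz hc => (hmem z).1 ⟨hz, hc⟩⟩
      · exact ⟨u, ((hmem u).2 (Or.inl rfl)).1, huv, ((hmem u).2 (Or.inl rfl)).2,
          fun z hz hc => ((hmem z).1 ⟨hz, hc⟩).symm⟩
    refine ⟨g * w * g⁻¹, hT.conj g w hwD, fun h => hwd (by simpa using h),
      (Commute.conj_iff g).2 hwc, fun z hz hc => ?_⟩
    have hz' : g⁻¹ * z * g ∈ D := by simpa using hT.conj g⁻¹ z hz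
    have hc' : Commute d (g⁻¹ * z * g) := by simpa [mul_assoc] using (Commute.conj_iff g⁻¹).2 hc
    rcases hw _ hz' hc' with h | h
    · exact Or.inl (by rw [← h]; group)
    · exact Or.inr (by rw [← h]; group)
  choose p hpD hpne hpc hp using hcount
  let q : G → G := fun x => if h : x ∈ D then p x h else 1
  have hqD : ∀ x ∈ D, q x ∈ D := fun x hx => by simp only [q, dif_pos hx]; exact hpD x hx
  have hqne : ∀ x ∈ D, q x ≠ x := fun x hx => by simp only [q, dif_pos hx]; exact hpne x hx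
  have hqc : ∀ x ∈ D, Commute x (q x) := fun x hx => by simp only [q, dif_pos hx]; exact hpc x hx
  have hq : ∀ x ∈ D, ∀ z ∈ D, Commute x z → z ≠ x → z = q x := fun x hx z hz hc hne => by
    simp only [q, dif_pos hx]
    exact (hp x hx z hz hc).resolve_left hne
  have hqconj : ∀ g : G, ∀ x ∈ D, q (g * x * g⁻¹) = g * q x * g⁻¹ := fun g x hx =>
    (hq _ (hT.conj g x hx) _ (hT.conj g _ (hqD x hx)) ((Commute.conj_iff g).2 (hqc x hx))
      fun h => hqne x hx (by simpa using h)).symm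
  have sw : ∀ {a b c : G}, a ∈ D → b ∈ D → c ∈ D → a ≠ c → Commute a c → ¬ Commute a b → ¬ Commute b c →
      ∃ φ : Equiv.Perm (Fin 4) →* G, Function.Injective φ ∧ φ (Equiv.swap 0 1) = a ∧
        φ (Equiv.swap 1 2) = b ∧ φ (Equiv.swap 2 3) = c := fun ha hb hc hne hcc hab hbc =>
    Cfsg.Agent.S5344.result hD.1 ha hb hc hne hcc hab hbc
  have key : ∀ x ∈ D, ∀ w ∈ D, ¬ Commute x w →
      ∃ φ : Equiv.Perm (Fin 4) →* G, Function.Injective φ ∧ φ (Equiv.swap 0 1) = x ∧ φ (Equiv.swap 1 2) = w ∧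
        φ (Equiv.swap 2 3) = q x ∧ φ (Equiv.swap 0 3) = q w ∧
        φ (Equiv.swap 0 2) = x * w * x⁻¹ ∧ φ (Equiv.swap 1 3) = q (x * w * x⁻¹) := by
    intro x hx w hw hxw
    obtain ⟨φ, hφ, h1, h2, h3⟩ := sw hx hw (hqD x hx) (hqne x hx).symm (hqc x hx) hxw
      fun h => hxw ((hall x hx (q x) (hqD x hx) (hqc x hx) w hw).2 h.symm)
    have h4 : φ (Equiv.swap 0 3) = q w := by
      have e : (Equiv.swap 0 1 : Equiv.Perm (Fin 4)) * Equiv.swap 2 3 * Equiv.swap 1 2 *
          (Equiv.swap 0 1 * Equiv.swap 2 3)⁻¹ = Equiv.swap 0 3 := by decide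
      refine hq w hw _ ?_ ?_ ?_
      · rw [← e, map_mul, map_mul, map_inv, h2]; exact hT.conj _ w hw
      · rw [← h2, commute_iff_eq, ← map_mul, ← map_mul]
        exact congrArg φ (by decide)
      · rw [← h2]; exact fun h => absurd (hφ h) (by decide)
    have h5 : φ (Equiv.swap 0 2) = x * w * x⁻¹ := by
      rw [← h1, ← h2, ← map_inv, ← map_mul, ← map_mul]
      exact congrArg φ (by decide)
    refine ⟨φ, hφ, h1, h2, h3, h4, h5, ?_⟩
    rw [hqconj x w hw, ← h4, ← h1, ← map_inv, ← map_mul, ← map_mul]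
    exact congrArg φ (by decide)
  let z : G → G := fun x => x * q x
  have zkey : ∀ x ∈ D, ∀ w ∈ D, ¬ Commute x w →
      z x * z w = z (x * w * x⁻¹) ∧ Commute (z x) (z w) := by
    intro x hx w hw hxw
    obtain ⟨φ, -, h1, h2, h3, h4, h5, h6⟩ := key x hx w hw hxw
    constructor
    · simp only [z]
      rw [← h6, ← h5, ← h4, ← h3, ← h2, ← h1, ← map_mul, ← map_mul, ← map_mul, ← map_mul]
      exact congrArg φ (by decide)
    · simp only [z]
      rw [← h4, ← h2, ← h3, ← h1, commute_iff_eq, ← map_mul, ← map_mul, ← map_mul, ← map_mul]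
      exact congrArg φ (by decide)
  have zconj : ∀ y ∈ D, ∀ x ∈ D, ¬ Commute y x → y * z x * y⁻¹ = z y * z x := by
    intro y hy x hx hyx
    rw [(zkey y hy x hx hyx).1]
    show y * (x * q x) * y⁻¹ = y * x * y⁻¹ * q (y * x * y⁻¹)
    rw [hqconj y x hx]; group
  obtain ⟨e, he, hde⟩ := Cfsg.Lib.Fischer.exists_noncommuting hT hD2 hd
  set f := d * e * d⁻¹ with hf'
  have hf : f ∈ D := hT.conj d e he
  obtain ⟨φ, hφ, h1, h2, h3, h4, h5, h6⟩ := key d hd e he hde
  have hcover : ∀ y ∈ D, Commute d y ∨ Commute e y ∨ Commute f y := by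
    intro y hy
    by_contra hcon
    push Not at hcon
    obtain ⟨n1, n2, n3⟩ := hcon
    have hd' : ¬ Commute y d := fun h => n1 h.symm
    have he' : ¬ Commute y e := fun h => n2 h.symm
    have hf'' : ¬ Commute y f := fun h => n3 h.symm
    have e1 : y * z f * y⁻¹ = (y * z d * y⁻¹) * (y * z e * y⁻¹) := by
      rw [← (zkey d hd e he hde).1]; group
    rw [zconj y hy f hf hf'', zconj y hy d hd hd', zconj y hy e he he', ← (zkey d hd e he hde).1] at e1
    have hsq : z y * z y = 1 := by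
      show y * q y * (y * q y) = 1
      rw [← pow_two, (hqc y hy).mul_pow, pow_two, pow_two, Cfsg.Lib.Fischer.mul_self hT hy,
        Cfsg.Lib.Fischer.mul_self hT (hqD y hy), one_mul]
    have hcd := (zkey y hy d hd hd').2
    have e2 : z y * z d * (z y * z e) = z d * z e := by
      calc z y * z d * (z y * z e) = z y * (z d * z y) * z e := by simp only [mul_assoc]
        _ = z y * (z y * z d) * z e := by rw [← hcd.eq]
        _ = _ := by rw [← mul_assoc (z y) (z y), hsq, one_mul]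
    rw [e2, mul_eq_right] at e1
    exact hqne y hy (by
      rw [eq_inv_of_mul_eq_one_right (e1 : y * q y = 1), Cfsg.Lib.Fischer.inv_eq hT hy])
  have hmem : ∀ y ∈ D, y ∈ φ.range := by
    intro y hy
    have main : ∀ x ∈ D, x ∈ φ.range → q x ∈ φ.range → Commute x y → y ∈ φ.range := fun x hx hxr hqr hc => by
      by_cases hyx : y = x
      · exact hyx ▸ hxr
      · exact hq x hx y hy hc hyx ▸ hqr
    rcases hcover y hy with h | h | h
    · exact main d hd ⟨_, h1⟩ ⟨_, h3⟩ h
    · exact main e he ⟨_, h2⟩ ⟨_, h4⟩ h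
    · exact main f hf ⟨_, h5⟩ ⟨_, h6⟩ h
  have hsurj : Function.Surjective φ := by
    rw [← MonoidHom.range_eq_top, eq_top_iff, ← hT.gen, Subgroup.closure_le]
    exact hmem
  exact ⟨(MulEquiv.ofBijective φ ⟨hφ, hsurj⟩).symm⟩

end Cfsg.Agent.S5355
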