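import Cfsg.Statements.S1631
import Cfsg.Agent.Lib.Linear.HermStandard
import Cfsg.Agent.Lib.Linear.UnitaryGen

set_option autoImplicit false
open scoped MatrixGroups
open Cfsg

namespace Cfsg.Agent.S1631

open Module Cfsg.Lib.Linear.Herm

section Abstract

variable {F V : Type*} [Field F] [Fintype F] [AddCommGroup V] [Module F V] [FiniteDimensional F V]
  {σ : F →+* F} {B : V →ₛₗ[σ] V →ₗ[F] F}

/-- the facts about the field with four elements -/
structure FourField (F : Type*) [Field F] (σ : F →+* F) : Prop where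
  sq : ∀ x : F, σ x = x * x
  cube : ∀ x : F, x ≠ 0 → x * x * x = 1
  two : (2 : F) = 0
  invol : ∀ x, σ (σ x) = x
  ne_id : σ ≠ RingHom.id F

variable (hK : FourField F σ) (hS : B.IsSymm)

include hK

omit [Fintype F] [AddCommGroup V] [Module F V] [FiniteDimensional F V] in
theorem neg_eq' (x : F) : -x = x := by linear_combination (-x) * hK.two

omit [Fintype F] [AddCommGroup V] [Module F V] [FiniteDimensional F V] in
theorem fixed_cases {c : F} (h : σ c = c) : c = 0 ∨ c = 1 := by
  rw [hK.sq] at h
  rcases eq_or_ne c 0 with h0 | h0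
  · exact Or.inl h0
  · exact Or.inr (mul_left_cancel₀ h0 (by rw [mul_one]; exact h))

omit [Fintype F] [FiniteDimensional F V] in
theorem one_cond {w : V} (hw : B w w = 0) : (1 : F) + σ 1 + σ 1 * 1 * B w w = 0 := by
  rw [map_one, hw, mul_zero, add_zero, one_add_one_eq_two, hK.two]

/-- the transvection with isotropic centre -/
def tvu {w : V} (hw : B w w = 0) : V ≃ₗ[F] V := qrefl (B := B) w 1 (one_cond hK hw)

omit [Fintype F] [FiniteDimensional F V] in
theorem tvu_apply {w : V} (hw : B w w = 0) (x : V) : tvu hK hw x = x + B w x • w := by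
  rw [tvu, qrefl_apply, one_mul]

omit [Fintype F] [FiniteDimensional F V] in
theorem tvu_sq {w : V} (hw : B w w = 0) : tvu hK hw * tvu hK hw = 1 := by
  refine LinearEquiv.ext fun x => ?_
  show tvu hK hw (tvu hK hw x) = x
  rw [tvu_apply, tvu_apply, map_add, map_smul, hw, smul_zero, add_zero, add_assoc, ← add_smul,
    ← two_mul, hK.two, zero_mul, zero_smul, add_zero]

omit [Fintype F] [FiniteDimensional F V] in
theorem tvu_inv {w : V} (hw : B w w = 0) : (tvu hK hw)⁻¹ = tvu hK hw :=
  inv_eq_of_mul_eq_one_right (tvu_sq hK hw)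

omit [Fintype F] [FiniteDimensional F V] in
theorem tvu_conj {g : V ≃ₗ[F] V} (hg : g ∈ iso B) {w : V} (hw : B w w = 0) :
    g * tvu hK hw * g⁻¹ = tvu hK (show B (g w) (g w) = 0 by rw [hg, hw]) :=
  qrefl_conj hg w 1 _

omit [Fintype F] [FiniteDimensional F V] in
theorem tvu_smul {w : V} (hw : B w w = 0) {k : F} (hk : k ≠ 0) (h : B (k • w) (k • w) = 0) :
    tvu hK h = tvu hK hw := by
  refine LinearEquiv.ext fun x => ?_
  rw [tvu_apply, tvu_apply, LinearMap.map_smulₛₗ, LinearMap.smul_apply, smul_eq_mul, hK.sq,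
    smul_smul]
  congr 2
  linear_combination B w x * hK.cube k hk

omit [Fintype F] [FiniteDimensional F V] in
theorem tvu_congr {v w : V} (hv : B v v = 0) (hw : B w w = 0) (h : v = w) :
    tvu hK hv = tvu hK hw := by subst h; rfl

include hS

omit [Fintype F] [FiniteDimensional F V] in
theorem tvu_mem {w : V} (hw : B w w = 0) : tvu hK hw ∈ iso B := qrefl_mem_iso hS w 1 _

omit [Fintype F] [FiniteDimensional F V] in
theorem tvu_pair {v w : V} (hv : B v v = 0) (hw : B w w = 0) :
    (tvu hK hv * tvu hK hw) ^ 2 = 1 ∨ (tvu hK hv * tvu hK hw) ^ 3 = 1 := by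
  have hvw := tvu_conj hK (tvu_mem hK hS hv) hw
  rw [tvu_inv hK hv] at hvw
  have hwv := tvu_conj hK (tvu_mem hK hS hw) hv
  rw [tvu_inv hK hw] at hwv
  rcases eq_or_ne (B v w) 0 with h | h
  · left
    have e : tvu hK hv w = w := by rw [tvu_apply, h, zero_smul, add_zero]
    rw [tvu_congr hK _ hw e] at hvw
    calc (tvu hK hv * tvu hK hw) ^ 2 = (tvu hK hv * tvu hK hw * tvu hK hv) * tvu hK hw := by
          simp only [pow_succ, pow_zero, one_mul, mul_assoc]
      _ = 1 := by rw [hvw, tvu_sq]
  · right
    have e : tvu hK hw v = σ (B v w) • tvu hK hv w := by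
      rw [tvu_apply, tvu_apply, smul_add, smul_smul, hK.sq, hK.cube _ h, one_smul, add_comm, ← hK.sq,
        hS.eq v w]
    have hne : σ (B v w) ≠ 0 := fun h0 => h (σ.injective (by rw [h0, map_zero]))
    have hiso : B (tvu hK hv w) (tvu hK hv w) = 0 := by rw [tvu_mem hK hS hv w w, hw]
    have hiso2 : B (σ (B v w) • tvu hK hv w) (σ (B v w) • tvu hK hv w) = 0 := by
      rw [map_smul, LinearMap.map_smulₛₗ, LinearMap.smul_apply, hiso]; simp
    rw [tvu_congr hK _ hiso2 e, tvu_smul hK hiso hne hiso2] at hwv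
    calc (tvu hK hv * tvu hK hw) ^ 3
        = (tvu hK hv * tvu hK hw * tvu hK hv) * (tvu hK hw * tvu hK hv * tvu hK hw) := by
          simp only [pow_succ, pow_zero, one_mul, mul_assoc]
      _ = 1 := by rw [hvw, hwv, tvu_sq]

omit [Fintype F] [FiniteDimensional F V] in
theorem tvu_ne_one (hB : B.Nondegenerate) {w : V} (hw : B w w = 0) (h0 : w ≠ 0) :
    tvu hK hw ≠ 1 := by
  intro h
  apply h0
  refine hB.1 w fun x => ?_
  have h1 : tvu hK hw x = x := by rw [h]; rfl
  rw [tvu_apply, add_eq_left, smul_eq_zero] at h1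
  exact h1.resolve_right h0

omit [Fintype F] in
/-- a rank one isometry of determinant one is a transvection -/
theorem rank_one (hB : B.Nondegenerate) {g : V ≃ₗ[F] V} (hg : g ∈ iso B)
    (hd : LinearEquiv.det g = 1) {a : V} (ha0 : a ≠ 0) (f : V →ₗ[F] F)
    (hf : ∀ x, g x = x + f x • a) (hne : g ≠ 1) :
    ∃ hw : B a a = 0, g = tvu hK hw := by
  have hfa : f a = 0 := by
    have e : (g : V →ₗ[F] V) = LinearMap.transvection f a :=
      LinearMap.ext fun x => by simp [LinearMap.transvection, hf]
    have h1 := congrArg Units.val hd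
    rw [LinearEquiv.coe_det, e, LinearMap.transvection.det, Units.val_one] at h1
    simpa using h1
  have hiso : ∀ x y, σ (f x) * B a y + f y * B x a + σ (f x) * f y * B a a = 0 := by
    intro x y
    have h := hg x y
    rw [hf, hf] at h
    simp only [map_add, LinearMap.map_smulₛₗ, LinearMap.add_apply, LinearMap.smul_apply, smul_eq_mul,
      RingHom.id_apply] at h
    linear_combination h
  obtain ⟨x0, hx0⟩ : ∃ x, f x ≠ 0 := by
    by_contra h
    push Not at h
    exact hne (LinearEquiv.ext fun x => by rw [hf, h, zero_smul, add_zero]; rfl)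
  have hw : B a a = 0 := by
    have h := hiso x0 a
    rw [hfa, zero_mul, mul_zero, zero_mul, add_zero, add_zero] at h
    exact (mul_eq_zero.mp h).resolve_left fun h0 => hx0 (σ.injective (by rw [h0, map_zero]))
  refine ⟨hw, LinearEquiv.ext fun x => ?_⟩
  rw [hf, tvu_apply]
  obtain ⟨y1, hy1⟩ : ∃ y, B a y ≠ 0 := by
    by_contra h
    push Not at h
    exact ha0 (hB.1 a h)
  set y0 := (B a y1)⁻¹ • y1 with hy0
  have hBy0 : B a y0 = 1 := by rw [hy0, map_smul, smul_eq_mul, inv_mul_cancel₀ hy1]
  have hfx : ∀ x, σ (f x) = f y0 * σ (B a x) := by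
    intro x
    have h := hiso x y0
    rw [hBy0, mul_one, hw, mul_zero, add_zero] at h
    rw [hS.eq a x]
    linear_combination h - (f y0 * B x a) * hK.two
  have hfix : f y0 = 1 := by
    have h := hfx y0
    rw [hBy0, map_one, mul_one] at h
    refine (fixed_cases hK h).resolve_left fun h0 => hx0 (σ.injective ?_)
    rw [hfx, h0, zero_mul, map_zero]
  have : f x = B a x := σ.injective (by rw [hfx, hfix, one_mul])
  rw [this]

/-- the special isometry group is transitive on isotropic vectors -/
theorem special_trans (hB : B.Nondegenerate) (h4 : 4 ≤ finrank F V) {v w : V} (hv : B v v = 0)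
    (hw : B w w = 0) (hv0 : v ≠ 0) (hw0 : w ≠ 0) :
    ∃ g ∈ iso B, LinearEquiv.det g = 1 ∧ g v = w := by
  obtain ⟨g, hg, hgv⟩ := exists_map hK.ne_id hK.invol hS hB ⊥ (a := v) (b := w)
    (by simpa using hv0) (by simpa using hw0) (fun x hx => by simp [(Submodule.mem_bot F).mp hx])
    (by rw [hv, hw])
  obtain ⟨b, hb, hbb⟩ : ∃ b, B w b = 0 ∧ B b b ≠ 0 := by
    by_contra hcon
    push Not at hcon
    have hzero : ∀ x y, B w x = 0 → B w y = 0 → B x y = 0 := by
      intro x y hx hy
      by_contra hne
      have key : ∀ c : F, σ c * B y x + c * B x y = 0 := fun c => by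
        have h := hcon (x + c • y) (by rw [map_add, map_smul, hx, hy, smul_zero, add_zero])
        rw [map_add, map_add, LinearMap.add_apply, LinearMap.add_apply, LinearMap.map_smulₛₗ,
          map_smul, LinearMap.smul_apply, LinearMap.smul_apply, map_smul, hcon x hx, hcon y hy] at h
        simp only [smul_eq_mul, mul_zero, add_zero, zero_add] at h
        linear_combination h
      obtain ⟨ω, hω⟩ : ∃ ω : F, σ ω ≠ ω := by
        by_contra h
        push Not at h
        exact hK.ne_id (RingHom.ext h)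
      have h1 := key 1
      rw [map_one, one_mul, one_mul] at h1
      have h2 := key ω
      have h3 : (σ ω - ω) * B x y = 0 := by linear_combination (σ ω) * h1 - h2
      exact hne ((mul_eq_zero.mp h3).resolve_left (sub_ne_zero.mpr hω))
    obtain ⟨z, hz⟩ : ∃ z, B w z ≠ 0 := by
      by_contra h
      push Not at h
      exact hw0 (hB.1 w h)
    have hker : finrank F V ≤ finrank F (LinearMap.ker (B w)) + 1 := by
      have := LinearMap.finrank_range_add_finrank_ker (B w)
      have h1 : finrank F (LinearMap.range (B w)) ≤ 1 := by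
        have := Submodule.finrank_le (LinearMap.range (B w))
        rwa [finrank_self] at this
      omega
    have hle : LinearMap.ker (B w) ≤ Submodule.span F {w} := by
      intro x hx
      rw [Submodule.mem_span_singleton]
      refine ⟨σ ((B w z)⁻¹ * B x z), ?_⟩
      rw [eq_comm, ← sub_eq_zero]
      refine hB.1 _ fun y => ?_
      have hy : B w (y - ((B w z)⁻¹ * B w y) • z) = 0 := by
        rw [map_sub, map_smul, smul_eq_mul]; field_simp; ring
      have h := hzero x _ hx hy
      rw [map_sub, map_smul, smul_eq_mul] at h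
      rw [map_sub, LinearMap.sub_apply, LinearMap.map_smulₛₗ, LinearMap.smul_apply, smul_eq_mul,
        hK.invol]
      linear_combination h
    have := Submodule.finrank_mono hle
    rw [finrank_span_singleton hw0] at this
    omega
  set δ : F := (((LinearEquiv.det g)⁻¹ : Fˣ) : F) with hδ
  have hδ0 : δ ≠ 0 := Units.ne_zero _
  have hbb1 : B b b = 1 := (fixed_cases hK (hS.eq b b)).resolve_left hbb
  have hl : (δ + 1) + σ (δ + 1) + σ (δ + 1) * (δ + 1) * B b b = 0 := by
    rw [hbb1, map_add, map_one, hK.sq, mul_one]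
    linear_combination hK.cube δ hδ0 + (δ + δ * δ + 2) * hK.two
  refine ⟨qrefl (B := B) b (δ + 1) hl * g, mul_mem (qrefl_mem_iso hS b _ hl) hg.1, ?_, ?_⟩
  · apply Units.ext
    rw [map_mul, Units.val_mul, det_qrefl, hbb1, Units.val_one]
    have h1 : δ * (LinearEquiv.det g : Fˣ) = 1 := by rw [hδ, ← Units.val_mul, inv_mul_cancel, Units.val_one]
    linear_combination h1 + ((LinearEquiv.det g : Fˣ) : F) * hK.two
  · rw [LinearEquiv.mul_apply, hgv, qrefl_apply]
    have : B b w = 0 := by
      rw [← hS.eq w b, hb, map_zero]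
    rw [this, mul_zero, zero_smul, add_zero]

end Abstract

/-- The unitary transvections of SU(n, 2), n ≥ 4, form a generating conjugacy class of 3-transpositions. -/
theorem result (F : Type) [Field F] [Fintype F] [DecidableEq F] (hF : Fintype.card F = 4) (n : ℕ) (hn : 4 ≤ n) : Cfsg.IsThreeTranspositionClass {g : ↥(Cfsg.SU n F 2) | (((g : Matrix.SpecialLinearGroup (Fin n) F) : Matrix (Fin n) (Fin n) F) - 1).rank = 1} := by
  classical
  have hF' : Fintype.card F = 2 ^ 2 := hF
  let σ := frob hF'
  have h2 : (2 : F) = 0 := by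
    have h := FiniteField.cast_card_eq_zero F
    rw [hF] at h
    have : (2 : F) * 2 = 0 := by exact_mod_cast h
    exact (mul_eq_zero.mp this).elim id id
  have hK : FourField F σ := by
    refine ⟨fun x => by rw [frob_apply, sq], fun x hx => ?_, h2, frob_frob hF', frob_ne_id hF'⟩
    have h := FiniteField.pow_card_sub_one_eq_one x hx
    rw [hF] at h
    linear_combination h
  have hS := hB_isSymm hF' n
  have hND := hB_nondegenerate hF' n
  have h4 : 4 ≤ finrank F (Fin n → F) := by rwa [finrank_fin_fun]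
  let e : ↥(Cfsg.SU n F 2) →* ((Fin n → F) ≃ₗ[F] (Fin n → F)) :=
    (iso (hB hF' n)).subtype.comp ((guEquiv hF' n).toMonoidHom.comp
      (((Matrix.SpecialLinearGroup.toGL).comp (Cfsg.SU n F 2).subtype).codRestrict (Cfsg.GU n F 2)
        fun A => A.2))
  have eapp : ∀ (A : ↥(Cfsg.SU n F 2)) x,
      e A x = ((A : Matrix.SpecialLinearGroup (Fin n) F) : Matrix (Fin n) (Fin n) F).mulVec x :=
    fun A x => rfl
  have einj : Function.Injective e := by
    intro A A' h
    apply Subtype.ext
    apply Subtype.ext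
    apply Matrix.mulVec_injective
    funext x
    rw [← eapp, ← eapp, h]
  have emem : ∀ A, e A ∈ iso (hB hF' n) := fun A => SetLike.coe_mem _
  have edet : ∀ A, LinearEquiv.det (e A) = 1 := by
    intro A
    apply Units.ext
    rw [LinearEquiv.coe_det, Units.val_one]
    have : ((e A : (Fin n → F) ≃ₗ[F] (Fin n → F)) : (Fin n → F) →ₗ[F] (Fin n → F)) =
        Matrix.toLin' ((A : Matrix.SpecialLinearGroup (Fin n) F) : Matrix (Fin n) (Fin n) F) :=
      LinearMap.ext fun x => by rw [Matrix.toLin'_apply]; exact eapp A x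
    rw [this, LinearMap.det_toLin']
    exact (A : Matrix.SpecialLinearGroup (Fin n) F).2
  have esurj : ∀ g, g ∈ iso (hB hF' n) → LinearEquiv.det g = 1 → ∃ A, e A = g := by
    intro g hg hd
    have hmv : ∀ x, (LinearMap.toMatrix' (g : (Fin n → F) →ₗ[F] (Fin n → F))).mulVec x = g x :=
      fun x => LinearMap.toMatrix'_mulVec _ x
    have hdet : (LinearMap.toMatrix' (g : (Fin n → F) →ₗ[F] (Fin n → F))).det = 1 := by
      rw [LinearMap.det_toMatrix', ← LinearEquiv.coe_det, hd, Units.val_one]
    refine ⟨⟨⟨_, hdet⟩, fun u v => ?_⟩, LinearEquiv.ext fun x => (eapp _ x).trans (hmv x)⟩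
    show Cfsg.hermForm n F 2 _ _ = _
    have := hg v u
    rw [hB_apply, hB_apply] at this
    convert this using 2 <;> exact hmv _
  have hmem : ∀ A : ↥(Cfsg.SU n F 2),
      (((A : Matrix.SpecialLinearGroup (Fin n) F) : Matrix (Fin n) (Fin n) F) - 1).rank = 1 ↔
        ∃ (w : Fin n → F) (hw : hB hF' n w w = 0), w ≠ 0 ∧ e A = tvu hK hw := by
    intro A
    set T : (Fin n → F) →ₗ[F] (Fin n → F) := Matrix.mulVecLin
      (((A : Matrix.SpecialLinearGroup (Fin n) F) : Matrix (Fin n) (Fin n) F) - 1) with hT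
    have hTx : ∀ x, e A x = x + T x := by
      intro x
      rw [eapp, hT, Matrix.mulVecLin_apply, Matrix.sub_mulVec, Matrix.one_mulVec]
      abel
    show finrank F (LinearMap.range T) = 1 ↔ _
    constructor
    · intro h
      obtain ⟨⟨a, ha⟩, ha0, hspan⟩ := finrank_eq_one_iff'.mp h
      have ha0' : a ≠ 0 := fun h0 => ha0 (Subtype.ext h0)
      choose f hf using fun x => hspan ⟨T x, LinearMap.mem_range_self T x⟩
      have hfx : ∀ x, T x = f x • a := fun x => (congrArg Subtype.val (hf x)).symm
      let f' : (Fin n → F) →ₗ[F] F :=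
        { toFun := f
          map_add' := fun x y => smul_left_injective F ha0' (by
            show f (x + y) • a = (f x + f y) • a
            rw [add_smul, ← hfx, ← hfx, ← hfx, map_add])
          map_smul' := fun c x => smul_left_injective F ha0' (by
            show f (c • x) • a = (c • f x) • a
            rw [smul_assoc, ← hfx, ← hfx, map_smul]) }
      have hne : e A ≠ 1 := by
        intro h1
        obtain ⟨x, hx⟩ := ha
        apply ha0'
        have := hTx x
        rw [h1, hx] at this
        exact add_eq_left.mp this.symm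
      obtain ⟨hw, he⟩ := rank_one hK hS hND (emem A) (edet A) ha0' f'
        (fun x => by rw [hTx, hfx]; rfl) hne
      exact ⟨a, hw, ha0', he⟩
    · rintro ⟨w, hw, hw0, he⟩
      have hTw : ∀ x, T x = hB hF' n w x • w := fun x => by
        have := hTx x
        rw [he, tvu_apply] at this
        exact (add_left_cancel this).symm
      obtain ⟨z, hz⟩ : ∃ z, hB hF' n w z ≠ 0 := by
        by_contra h
        push Not at h
        exact hw0 (hND.1 w h)
      have hr : LinearMap.range T = Submodule.span F {w} := by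
        apply le_antisymm
        · rintro _ ⟨x, rfl⟩
          rw [hTw]
          exact Submodule.smul_mem _ _ (Submodule.mem_span_singleton_self w)
        · rw [Submodule.span_singleton_le_iff_mem]
          exact ⟨(hB hF' n w z)⁻¹ • z, by
            rw [map_smul, hTw, smul_smul, inv_mul_cancel₀ hz, one_smul]⟩
      rw [hr, finrank_span_singleton hw0]
  have tdet : ∀ {w : Fin n → F} (hw : hB hF' n w w = 0), LinearEquiv.det (tvu hK hw) = 1 :=
    fun {w} hw => Units.ext (by rw [tvu, det_qrefl, hw, mul_zero, add_zero]; rfl)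
  refine ⟨⟨?_, ?_⟩, ?_, ?_⟩
  · intro d hd
    obtain ⟨w, hw, hw0, he⟩ := (hmem d).mp hd
    refine orderOf_eq_prime (einj ?_) ?_
    · rw [map_pow, he, sq, tvu_sq, map_one]
    · intro h
      rw [h, map_one] at he
      exact tvu_ne_one hK hS hND hw hw0 he.symm
  · intro d hd d' hd'
    obtain ⟨v, hv, -, hev⟩ := (hmem d).mp hd
    obtain ⟨w, hw, -, hew⟩ := (hmem d').mp hd'
    rcases tvu_pair hK hS hv hw with h | h
    · left; apply einj; rw [map_pow, map_mul, hev, hew, h, map_one]
    · right; apply einj; rw [map_pow, map_mul, hev, hew, h, map_one]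
  · obtain ⟨v, hv0, hv⟩ : ∃ v : Fin n → F, v ≠ 0 ∧ hB hF' n v v = 0 := by
      refine ⟨Pi.single ⟨0, by omega⟩ 1 + Pi.single ⟨1, by omega⟩ 1, ?_, ?_⟩
      · intro h
        have := congrFun h ⟨0, by omega⟩
        simp [Pi.single_apply] at this
      · rw [map_add, hB_single_right, hB_single_right]
        simp [Pi.single_apply, Fin.ext_iff, one_add_one_eq_two, h2]
    obtain ⟨A, hA⟩ := esurj _ (tvu_mem hK hS hv) (tdet hv)
    refine ⟨A, (hmem A).mpr ⟨v, hv, hv0, hA⟩, Set.ext fun C => ?_⟩
    change _ ↔ IsConj A C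
    rw [isConj_iff]
    constructor
    · intro hC
      obtain ⟨w, hw, hw0, he⟩ := (hmem C).mp hC
      obtain ⟨g, hg, hgd, hgv⟩ := special_trans hK hS hND h4 hv hw hv0 hw0
      obtain ⟨X, hX⟩ := esurj g hg hgd
      refine ⟨X, einj ?_⟩
      rw [map_mul, map_mul, map_inv, hX, hA, he, tvu_conj hK hg]
      exact tvu_congr hK _ _ hgv
    · rintro ⟨X, hX⟩
      refine (hmem C).mpr ⟨e X v, by rw [emem X v v, hv], (LinearEquiv.map_ne_zero_iff _).mpr hv0, ?_⟩
      rw [← hX, map_mul, map_mul, map_inv, hA, tvu_conj hK (emem X)]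
  · rw [eq_top_iff]
    intro C _
    set D := {g : ↥(Cfsg.SU n F 2) |
      (((g : Matrix.SpecialLinearGroup (Fin n) F) : Matrix (Fin n) (Fin n) F) - 1).rank = 1}
    have h1 : tvGroup (hB hF' n) ≤ (Subgroup.closure D).map e := by
      rw [tvGroup, Subgroup.closure_le]
      rintro _ ⟨w, l, h, hw, rfl⟩
      have hl : l = 0 ∨ l = 1 := by
        refine fixed_cases hK ?_
        rw [hw, mul_zero, add_zero] at h
        linear_combination h - l * h2
      by_cases hw0 : l = 0 ∨ w = 0
      · have h1 : qrefl (B := hB hF' n) w l h = 1 := LinearEquiv.ext fun x => by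
          rw [qrefl_apply]
          rcases hw0 with rfl | rfl <;> simp
        rw [h1]
        exact one_mem _
      · push Not at hw0
        obtain ⟨A, hA⟩ := esurj _ (tvu_mem hK hS hw) (tdet hw)
        refine ⟨A, Subgroup.subset_closure ((hmem A).mpr ⟨w, hw, hw0.2, hA⟩), ?_⟩
        rw [hA]
        exact (qrefl_congr (hl.resolve_left hw0.1) h (one_cond hK hw)).symm
    obtain ⟨C', hC', he⟩ := h1 ((mem_tvGroup_iff hK.ne_id hK.invol hS hND (Or.inl h4) (e C)).mpr
      ⟨emem C, edet C⟩)
    rwa [einj he] at hC'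

end Cfsg.Agent.S1631
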