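import Mathlib
import Cfsg.Statements.S3390
import Cfsg.Agent.S0112
import Cfsg.Agent.S0113
import Cfsg.Agent.Lib.PGroup.CyclicNormal
import Cfsg.Agent.Lib.PGroup.Basic
import Cfsg.Agent.Lib.Invol.Quaternion

set_option autoImplicit false
open Cfsg

namespace Cfsg.Agent.S3390

open MulAction

/-- A 2-group with an involution whose centralizer has order at most four and a second involution. -/
theorem dihedral_or_semidihedral {S : Type*} [Group S] [Finite S] (hS : IsPGroup 2 S) {u t : S}
    (hu : orderOf u = 2) (ht : orderOf t = 2) (htu : t ≠ u)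
    (hC : Nat.card (Subgroup.centralizer ({u} : Set S)) ≤ 4) :
    (∃ n : ℕ, Nonempty (S ≃* DihedralGroup n)) ∨ Cfsg.IsQuasiDihedral S := by
  classical
  haveI : Fact (Nat.Prime 2) := ⟨Nat.prime_two⟩
  obtain ⟨n, hn⟩ := IsPGroup.iff_card.1 hS
  have hcu : u ∈ Subgroup.centralizer ({u} : Set S) := Subgroup.mem_centralizer_singleton_iff.2 rfl
  by_cases hn3 : n < 3
  · -- order at most four
    have hS4 : Nat.card S ≤ 4 := by
      rw [hn]; interval_cases n <;> norm_num
    have hne : u ≠ 1 := fun h => by rw [h, orderOf_one] at hu; norm_num at hu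
    have hnet : t ≠ 1 := fun h => by rw [h, orderOf_one] at ht; norm_num at ht
    have hcyc : ¬ IsCyclic S := fun h => by
      apply htu
      haveI := Fintype.ofFinite S
      have hle := IsCyclic.card_pow_eq_one_le (α := S) (n := 2) (by norm_num)
      by_contra htu
      have hsub : ({1, u, t} : Finset S) ⊆ Finset.univ.filter (fun a : S => a ^ 2 = 1) := by
        intro x hx
        simp only [Finset.mem_insert, Finset.mem_singleton] at hx
        rcases hx with rfl | rfl | rfl
        · simp
        · simp [← hu, pow_orderOf_eq_one]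
        · simp [← ht, pow_orderOf_eq_one]
      have := Finset.card_le_card hsub
      rw [Finset.card_insert_of_notMem (by simp [Ne.symm hne, Ne.symm hnet]), Finset.card_pair (Ne.symm htu)] at this
      omega
    left
    refine ⟨2, ?_⟩
    have hcard : Nat.card S = 4 := by
      interval_cases n
      · exfalso; haveI := (Nat.card_eq_one_iff_unique.1 hn).1; exact hne (Subsingleton.elim _ _)
      · exfalso; exact hcyc (isCyclic_of_prime_card (p := 2) (by simpa using hn))
      · simpa using hn
    haveI : IsKleinFour S := by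
      refine ⟨hcard, ?_⟩
      haveI : Nontrivial S := ⟨⟨u, 1, hne⟩⟩
      refine ((Nat.dvd_prime Nat.prime_two).1 (Monoid.exponent_dvd_of_forall_pow_eq_one fun x => ?_)).resolve_left
        (fun h => not_subsingleton S (Monoid.exp_eq_one_iff.1 h))
      rcases (Nat.dvd_prime_pow Nat.prime_two).1 (show orderOf x ∣ 2 ^ 2 by
        rw [show (2 : ℕ) ^ 2 = 4 from rfl, ← hcard]; exact orderOf_dvd_natCard x) with ⟨j, hj, hj'⟩
      interval_cases j
      · rw [orderOf_dvd_iff_pow_eq_one.1]; rw [hj']; norm_num
      · rw [orderOf_dvd_iff_pow_eq_one.1]; rw [hj']; norm_num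
      · exfalso; exact hcyc (isCyclic_of_orderOf_eq_card x (by rw [hj', hcard]; norm_num))
    exact IsKleinFour.nonempty_mulEquiv
  push Not at hn3
  have hne : u ≠ 1 := fun h => by rw [h, orderOf_one] at hu; norm_num at hu
  -- the centralizer is a self-centralizing subgroup of order four
  have hCne : Subgroup.centralizer ({u} : Set S) ≠ ⊤ := by
    intro h
    rw [h, Subgroup.card_top, hn] at hC
    have : 2 ^ 3 ≤ 2 ^ n := Nat.pow_le_pow_right (by norm_num) hn3
    omega
  haveI : Nontrivial S := ⟨⟨u, 1, hne⟩⟩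
  obtain ⟨z, -, hzc, hzo⟩ := Cfsg.Lib.PGroup.exists_mem_center_orderOf_eq hS (show (⊤ : Subgroup S) ≠ ⊥ from top_ne_bot)
  have hzu : z ≠ u := by
    rintro rfl
    exact hCne (eq_top_iff.2 fun x _ => Subgroup.mem_centralizer_singleton_iff.2 (Subgroup.mem_center_iff.1 hzc x))
  set A := Subgroup.centralizer ({u} : Set S) with hA
  have hzA : z ∈ A := Subgroup.mem_centralizer_singleton_iff.2 (Subgroup.mem_center_iff.1 hzc u).symm
  have hA4 : Nat.card A = 2 ^ 2 := by
    obtain ⟨k, hk⟩ := IsPGroup.iff_card.1 (hS.to_subgroup A)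
    have h3 : 2 < Nat.card A := by
      haveI := Fintype.ofFinite A
      have hz1 : z ≠ 1 := fun h => by rw [h, orderOf_one] at hzo; norm_num at hzo
      rw [Nat.card_eq_fintype_card, Fintype.two_lt_card_iff]
      refine ⟨1, ⟨u, hcu⟩, ⟨z, hzA⟩, fun h => hne ?_, fun h => hz1 ?_, fun h => hzu ?_⟩
      · exact (congrArg Subtype.val h).symm
      · exact (congrArg Subtype.val h).symm
      · exact (congrArg Subtype.val h).symm
    have hk2 : k ≤ 2 := by
      by_contra h
      have : 2 ^ 3 ≤ 2 ^ k := Nat.pow_le_pow_right (by norm_num) (by omega)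
      omega
    interval_cases k <;> omega
  have hAC : Subgroup.centralizer (A : Set S) = A := by
    refine le_antisymm (Subgroup.centralizer_le (Set.singleton_subset_iff.2 hcu)) ?_
    haveI : IsMulCommutative A := IsPGroup.isMulCommutative_of_card_eq_prime_sq (p := 2) hA4
    exact Subgroup.le_centralizer A
  have hcl := Cfsg.Agent.S0112.result n hn A hA4 hAC
  obtain ⟨U, hU, hUi⟩ := Cfsg.Agent.S0113.result n hn3 hn hcl
  have hna : ¬ IsMulCommutative S := fun h => hCne (eq_top_iff.2 fun x _ =>
    Subgroup.mem_centralizer_singleton_iff.2 (h.is_comm.comm x u))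
  haveI : U.Normal := Subgroup.normal_of_index_eq_two hUi
  have hUn : Nat.card U = 2 ^ (n - 1) := by
    have h := U.card_mul_index
    rw [hUi, hn, show n = (n - 1) + 1 by omega, pow_succ] at h
    omega
  have hCU : Subgroup.centralizer (U : Set S) ≤ U := by
    intro x hx
    by_contra hxU
    apply hna
    haveI := hU
    obtain ⟨g, hg⟩ := IsCyclic.exists_generator (α := U)
    have hgen : ∀ y ∈ U, ∃ i : ℤ, (g : S) ^ i = y := fun y hy => by
      obtain ⟨i, hi⟩ := hg ⟨y, hy⟩
      exact ⟨i, congrArg Subtype.val hi⟩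
    have hsx : ∀ y : S, y ∈ U ∨ x⁻¹ * y ∈ U := by
      intro y
      by_cases hy : y ∈ U
      · exact Or.inl hy
      · exact Or.inr ((Subgroup.mul_mem_iff_of_index_two hUi).2
          (iff_of_false (fun h => hxU (by simpa using U.inv_mem h)) hy))
    have hUc : ∀ a ∈ U, ∀ b ∈ U, a * b = b * a := by
      intro a ha b hb
      obtain ⟨i, rfl⟩ := hgen a ha
      obtain ⟨j, rfl⟩ := hgen b hb
      rw [← zpow_add, ← zpow_add, add_comm]
    have hxc : ∀ a ∈ U, a * x = x * a := fun a ha => Subgroup.mem_centralizer_iff.1 hx a ha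
    have hall : ∀ y : S, ∀ a ∈ U, a * y = y * a := by
      intro y a ha
      rcases hsx y with h | h
      · exact hUc a ha y h
      · calc a * y = a * x * (x⁻¹ * y) := by group
          _ = x * (a * (x⁻¹ * y)) := by rw [hxc a ha, mul_assoc]
          _ = x * ((x⁻¹ * y) * a) := by rw [hUc a ha _ h]
          _ = y * a := by group
    have hallx : ∀ y : S, x * y = y * x := by
      intro y
      rcases hsx y with h | h
      · exact (hxc y h).symm
      · calc x * y = x * (x * (x⁻¹ * y)) := by group
          _ = x * ((x⁻¹ * y) * x) := by rw [hxc _ h]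
          _ = y * x := by group
    refine ⟨⟨fun a b => ?_⟩⟩
    rcases hsx a with h | h
    · exact hall b a h
    · calc a * b = x * ((x⁻¹ * a) * b) := by group
        _ = x * (b * (x⁻¹ * a)) := by rw [hall b _ h]
        _ = (x * b) * x⁻¹ * a := by group
        _ = b * a := by rw [hallx b]; group
  obtain ⟨a, haU, hd⟩ := Cfsg.Lib.CyclicNormal.exists_data hS U hU hUn hCU
  rcases hd.alternative hna with ⟨-, -, ⟨m, h⟩ | ⟨m, ⟨e⟩⟩ | h⟩ | ⟨h3, m, hm, hmc⟩
  · exact Or.inl ⟨m, h⟩
  · exfalso
    haveI : NeZero m := ⟨fun h0 => by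
      subst h0
      haveI : Finite (QuaternionGroup 0) := Finite.of_equiv S e.toEquiv
      have : Infinite (QuaternionGroup 0) := Infinite.of_injective (fun i : ℤ => QuaternionGroup.a (i : ZMod (2 * 0)))
        fun i j hij => QuaternionGroup.a.inj hij
      exact not_finite (QuaternionGroup 0)⟩
    exact htu (e.injective ((Cfsg.Lib.Invol.quaternion_eq_of_orderOf_two (by rw [MulEquiv.orderOf_eq]; exact ht)).trans
      (Cfsg.Lib.Invol.quaternion_eq_of_orderOf_two (by rw [MulEquiv.orderOf_eq]; exact hu)).symm))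
  · exact Or.inr h
  · exfalso
    have hn4 : 3 ≤ n - 1 := h3 rfl
    have hcen : a ^ 2 ∈ Subgroup.center S := by
      rw [Subgroup.mem_center_iff]
      intro y
      have key : ∀ y ∈ U, y * a ^ 2 = a ^ 2 * y := fun y hy => by
        rw [← haU, Subgroup.mem_zpowers_iff] at hy
        obtain ⟨i, rfl⟩ := hy
        exact (((Commute.refl a).zpow_left i).pow_right 2).eq
      by_cases hy : y ∈ U
      · exact key y hy
      · have h1 : m⁻¹ * y ∈ U := by
          refine (Subgroup.mul_mem_iff_of_index_two hUi).2 (iff_of_false (fun h => hm ?_) hy)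
          rw [haU]; simpa using U.inv_mem h
        calc y * a ^ 2 = m * ((m⁻¹ * y) * a ^ 2) := by group
          _ = (m * a ^ 2) * (m⁻¹ * y) := by rw [key _ h1, mul_assoc]
          _ = a ^ 2 * y := by rw [hmc.eq]; group
    have h4 : 4 ≤ orderOf (a ^ 2) := by
      rw [orderOf_pow' a (by norm_num), hd.ord, Nat.gcd_eq_right (dvd_pow_self 2 (by omega))]
      have : 2 ^ 3 ≤ 2 ^ (n - 1) := Nat.pow_le_pow_right (by norm_num) hn4
      omega
    have hle : Subgroup.zpowers (a ^ 2) ≤ A := Subgroup.zpowers_le.2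
      (Subgroup.mem_centralizer_singleton_iff.2 (Subgroup.mem_center_iff.1 hcen u).symm)
    have heq : Subgroup.zpowers (a ^ 2) = A := Subgroup.eq_of_le_of_card_ge hle (by rw [Nat.card_zpowers, hA4]; omega)
    obtain ⟨i, hi⟩ := Subgroup.mem_zpowers_iff.1 (heq.ge hcu)
    exact hCne (eq_top_iff.2 fun x _ => Subgroup.mem_centralizer_singleton_iff.2
      (Subgroup.mem_center_iff.1 (hi ▸ zpow_mem hcen i) x))

/-- The sign of a permutation all of whose non-trivial cycles have the same length. -/
theorem sign_semiregular {α : Type*} [Fintype α] [DecidableEq α] (σ : Equiv.Perm α)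
    (h : ∀ (i : ℕ) (x : α), σ x ≠ x → (σ ^ i) x = x → σ ^ i = 1) :
    ∃ c : ℕ, σ.support.card = c * orderOf σ ∧ Equiv.Perm.sign σ = (-1) ^ (σ.support.card + c) := by
  have hall : ∀ l ∈ σ.cycleType, l = orderOf σ := by
    intro l hl
    refine Nat.dvd_antisymm (Equiv.Perm.dvd_of_mem_cycleType hl) (orderOf_dvd_of_pow_eq_one ?_)
    rw [Equiv.Perm.cycleType_def, Multiset.mem_map] at hl
    obtain ⟨c, hc, rfl⟩ := hl
    obtain ⟨hcyc, hsame⟩ := Equiv.Perm.mem_cycleFactorsFinset_iff.1 (Finset.mem_def.2 hc)
    obtain ⟨x, hx⟩ := hcyc.nonempty_support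
    have hσx : σ x ≠ x := by rw [← hsame x hx]; exact Equiv.Perm.mem_support.1 hx
    refine h _ x hσx ?_
    have hceq : c = σ.cycleOf x := by
      rw [Equiv.Perm.cycle_is_cycleOf hx (Finset.mem_def.2 hc)]
    rw [Function.comp_apply, ← hcyc.orderOf, ← Equiv.Perm.cycleOf_pow_apply_self σ x, ← hceq, pow_orderOf_eq_one]
    rfl
  refine ⟨Multiset.card σ.cycleType, ?_, ?_⟩
  · rw [← Equiv.Perm.sum_cycleType, Multiset.eq_replicate_of_mem hall, Multiset.sum_replicate, Multiset.card_replicate,
      smul_eq_mul]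
  · rw [Equiv.Perm.sign_of_cycleType, Equiv.Perm.sum_cycleType]

variable {G Ω : Type*} [Group G] [MulAction G Ω]

theorem three_fixed [Fintype Ω] (hfix : ∀ g : G, g ≠ 1 → Nat.card (fixedBy Ω g) ≤ 2) {g : G} {a b c : Ω}
    (ha : g • a = a) (hb : g • b = b) (hc : g • c = c) (hab : a ≠ b) (hac : a ≠ c) (hbc : b ≠ c) : g = 1 := by
  classical
  by_contra hg
  have h := hfix g hg
  rw [Nat.card_eq_fintype_card] at h
  have : 2 < Fintype.card (fixedBy Ω g) :=
    Fintype.two_lt_card_iff.2 ⟨⟨a, ha⟩, ⟨b, hb⟩, ⟨c, hc⟩, fun e => hab (congrArg Subtype.val e),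
      fun e => hac (congrArg Subtype.val e), fun e => hbc (congrArg Subtype.val e)⟩
  omega

theorem orbit_two [Finite G] [Fintype Ω] {S : Subgroup G} {α : Ω} (h : (stabilizer S α).index = 2) :
    ∃ α', α' ≠ α ∧ orbit S α = {α, α'} := by
  have hn : (orbit S α).ncard = 2 := by rw [← index_stabilizer, h]
  obtain ⟨x, y, hxy, he⟩ := Set.ncard_eq_two.1 hn
  have hα : α ∈ ({x, y} : Set Ω) := he ▸ mem_orbit_self α
  rcases hα with rfl | hα
  · exact ⟨y, hxy.symm, he⟩
  · rw [Set.mem_singleton_iff] at hα
    subst hα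
    exact ⟨x, hxy, by rw [he, Set.pair_comm]⟩

theorem conj_stab {S : Subgroup G} {u : S} {ω : Ω} (hfix : ∀ g : G, g ≠ 1 → Nat.card (fixedBy Ω g) ≤ 2)
    [Fintype Ω] [Finite G] (hu : u ≠ 1) (hω : u • ω = ω) (hU : Nat.card (stabilizer S ω) ≤ 2) :
    Nat.card (Subgroup.centralizer ({u} : Set S)) ≤ 4 := by
  set C := Subgroup.centralizer ({u} : Set S)
  have h1 := (stabilizer C ω).card_mul_index
  have hle : Nat.card (stabilizer C ω) ≤ 2 := le_trans (Nat.card_le_card_of_injective
    (fun x : stabilizer C ω => (⟨x.1.1, x.2⟩ : stabilizer S ω))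
    (fun x y h => Subtype.ext (Subtype.ext (congrArg (fun q : stabilizer S ω => (q : S)) h)))) hU
  have hi : (stabilizer C ω).index ≤ 2 := by
    rw [index_stabilizer, ← Nat.card_coe_set_eq]
    refine le_trans (Nat.card_le_card_of_injective (fun x : orbit C ω => (⟨x.1, ?_⟩ : fixedBy Ω (u : G)))
      (fun x y h => Subtype.ext (congrArg (fun q : fixedBy Ω (u : G) => (q : Ω)) h)))
      (hfix _ (fun h => hu (Subtype.ext h)))
    obtain ⟨c, hc⟩ := x.2
    change u • x.1 = x.1
    rw [← hc]
    change u • (c : S) • ω = (c : S) • ω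
    rw [← mul_smul, ← Subgroup.mem_centralizer_singleton_iff.1 c.2, mul_smul, hω]
  calc Nat.card C = Nat.card (stabilizer C ω) * (stabilizer C ω).index := h1.symm
    _ ≤ 2 * 2 := Nat.mul_le_mul hle hi

theorem frob [Finite G] [Fintype Ω] [FaithfulSMul G Ω] (htr : IsPretransitive G Ω)
    (hfix : ∀ g : G, g ≠ 1 → Nat.card (fixedBy Ω g) ≤ 2) (S : Sylow 2 G) (α : Ω)
    (hidx : (stabilizer (S : Subgroup G) α).index = 2) (hT : stabilizer (S : Subgroup G) α ≠ ⊥)
    (hfree : ∀ x : (S : Subgroup G), x ≠ 1 → ∀ ω, ω ∉ orbit (S : Subgroup G) α → x • ω ≠ ω) :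
    ∃ N : Subgroup G, N.Normal ∧ N.index = 2 ∧ ∃ H : Subgroup N, Cfsg.IsFrobeniusComplement H := by
  classical
  haveI : Fact (Nat.Prime 2) := ⟨Nat.prime_two⟩
  haveI := htr
  obtain ⟨α', hne, hO⟩ := orbit_two hidx
  have hmem : ∀ ω, ω ∈ orbit (S : Subgroup G) α ↔ ω = α ∨ ω = α' := fun ω => by
    rw [hO, Set.mem_insert_iff, Set.mem_singleton_iff]
  set T := stabilizer (S : Subgroup G) α with hTdef
  set P := Nat.card (S : Subgroup G) with hP
  obtain ⟨e, he⟩ := IsPGroup.iff_card.1 S.isPGroup'
  have hTc : Nat.card T * 2 = P := by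
    have := T.card_mul_index
    rwa [hidx] at this
  have hP4 : 4 ∣ P := by
    have h1 : 2 ≤ Nat.card T := (Subgroup.one_lt_card_iff_ne_bot T).2 hT
    rcases e with _ | _ | e
    · have h3 : P = 1 := by rw [hP, he]; rfl
      omega
    · have h3 : P = 2 := by rw [hP, he]; rfl
      omega
    · rw [hP, he]; exact ⟨2 ^ e, by ring⟩
  -- the number of points
  have hndiv : ∃ k, Fintype.card Ω = 2 + k * P := by
    letI act : MulAction (S : Subgroup G) {ω // ω ∉ orbit (S : Subgroup G) α} :=
      { smul := fun g x => ⟨g • x.1, fun h => x.2 (by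
          obtain ⟨s, hs⟩ := h
          exact ⟨g⁻¹ * s, by simp only at hs ⊢; rw [mul_smul, hs, inv_smul_smul]⟩)⟩
        one_smul := fun x => Subtype.ext (one_smul _ _)
        mul_smul := fun g h x => Subtype.ext (mul_smul _ _ _) }
    have hd : P ∣ Nat.card {ω // ω ∉ orbit (S : Subgroup G) α} := by
      haveI := Fintype.ofFinite (orbitRel.Quotient (S : Subgroup G) {ω // ω ∉ orbit (S : Subgroup G) α})
      rw [Nat.card_congr (selfEquivSigmaOrbits (S : Subgroup G) {ω // ω ∉ orbit (S : Subgroup G) α}), Nat.card_sigma]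
      refine Finset.dvd_sum fun o _ => dvd_of_eq ?_
      have hb : stabilizer (S : Subgroup G) o.out = ⊥ := by
        rw [Subgroup.eq_bot_iff_forall]
        intro g hg
        by_contra hg1
        exact hfree g hg1 _ o.out.2 (congrArg Subtype.val hg)
      rw [Nat.card_congr (orbitEquivQuotientStabilizer _ _), ← Subgroup.index_eq_card, hb, Subgroup.index_bot]
    obtain ⟨k, hk⟩ := hd
    refine ⟨k, ?_⟩
    rw [Nat.card_eq_fintype_card, Fintype.card_subtype_compl] at hk
    have h2 : Fintype.card {ω // ω ∈ orbit (S : Subgroup G) α} = 2 := by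
      exact Nat.card_eq_fintype_card.symm.trans ((Nat.card_coe_set_eq (orbit (S : Subgroup G) α)).trans
        ((congrArg Set.ncard hO).trans (Set.ncard_pair hne.symm)))
    have hle : Fintype.card {ω // ω ∈ orbit (S : Subgroup G) α} ≤ Fintype.card Ω := Fintype.card_subtype_le _
    rw [h2] at hk hle
    rw [mul_comm]; omega
  obtain ⟨k, hk⟩ := hndiv
  -- the homomorphism
  obtain ⟨f, hfT, hfs⟩ : ∃ f : G →* ℤˣ, (∀ t ∈ T, f (t : G) = 1) ∧ ∀ s : (S : Subgroup G), s ∉ T → f (s : G) = -1 := by
    haveI := Fintype.ofFinite G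
    by_cases hcyc : IsCyclic (S : Subgroup G)
    · let f : G →* ℤˣ := Equiv.Perm.sign.comp (MulAction.toPermHom G G)
      obtain ⟨g, hg⟩ := IsCyclic.exists_generator (α := (S : Subgroup G))
      have hgo : orderOf g = P := orderOf_eq_card_of_forall_mem_zpowers hg
      have hgT : g ∉ T := fun h => by
        have htop : T = ⊤ := eq_top_iff.2 fun x _ => (Subgroup.zpowers_le.2 h) (hg x)
        rw [htop, Subgroup.index_top] at hidx; norm_num at hidx
      have hfg : f (g : G) = -1 := by
        obtain ⟨c, hc, hsign⟩ := sign_semiregular (MulAction.toPermHom G G (g : G)) (by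
          intro i x _ hx
          rw [← map_pow] at hx ⊢
          have : (g : G) ^ i * x = x := hx
          rw [mul_eq_right.1 this, map_one])
        have hinj : Function.Injective (MulAction.toPermHom G G) := fun a b h => by
          have := Equiv.ext_iff.1 h (1 : G)
          simpa using this
        rw [orderOf_injective _ hinj, Subgroup.orderOf_coe, hgo] at hc
        have hsupp : (MulAction.toPermHom G G (g : G)).support = Finset.univ := by
          refine Finset.eq_univ_of_forall fun x => Equiv.Perm.mem_support.2 fun h => hgT ?_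
          have : (g : G) * x = x := h
          have h1 : g = 1 := Subtype.ext (mul_eq_right.1 this)
          rw [h1]; exact one_mem T
        rw [hsupp, Finset.card_univ] at hc hsign
        have hodd : ¬ 2 ∣ c := by
          intro h2
          apply S.not_dvd_index
          rw [← Nat.card_eq_fintype_card, ← (S : Subgroup G).card_mul_index, ← hP, mul_comm c] at hc
          rwa [Nat.eq_of_mul_eq_mul_left (by rw [hP]; exact Nat.card_pos) hc]
        change Equiv.Perm.sign _ = -1
        rw [hsign, Odd.neg_one_pow]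
        obtain ⟨d, hd⟩ := hP4
        rw [hc, hd, Nat.odd_iff]
        have := Nat.odd_iff.1 (Nat.not_even_iff_odd.1 (fun h => hodd (even_iff_two_dvd.1 h)))
        rw [show c * (4 * d) + c = 2 * (2 * c * d) + c by ring]
        omega
      have hpar : ∀ x : (S : Subgroup G), ∃ i : ℤ, g ^ i = x ∧ (x ∈ T ↔ Even i) := by
        intro x
        obtain ⟨i, hi⟩ := hg x
        simp only at hi
        refine ⟨i, hi, ?_⟩
        have h2 : g ^ 2 ∈ T := Subgroup.sq_mem_of_index_two hidx g
        rcases Int.even_or_odd' i with ⟨j, rfl | rfl⟩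
        · refine iff_of_true ?_ (even_two_mul j)
          rw [← hi, zpow_mul, zpow_two, ← pow_two]; exact zpow_mem h2 j
        · refine iff_of_false (fun h => hgT ?_) (by simp [parity_simps])
          have h' : g ^ (2 * j) ∈ T := by rw [zpow_mul, zpow_two, ← pow_two]; exact zpow_mem h2 j
          rw [← hi, zpow_add, zpow_one] at h
          exact (Subgroup.mul_mem_cancel_left T h').1 h
      refine ⟨f, fun t ht => ?_, fun s hs => ?_⟩
      · obtain ⟨i, rfl, hiff⟩ := hpar t
        rw [Subgroup.coe_zpow, map_zpow, hfg, (hiff.1 ht).neg_one_zpow]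
      · obtain ⟨i, rfl, hiff⟩ := hpar s
        rw [Subgroup.coe_zpow, map_zpow, hfg,
          (Int.not_even_iff_odd.1 (fun h => hs (hiff.2 h))).neg_one_zpow]
    · let f : G →* ℤˣ := Equiv.Perm.sign.comp (MulAction.toPermHom G Ω)
      -- a permutation agreeing with s off the pair and fixing the pair
      have key : ∀ s : (S : Subgroup G), ∀ σ : Equiv.Perm Ω, σ α = α → σ α' = α' →
          (∀ ω, ω ∉ orbit (S : Subgroup G) α → σ ω = s • ω) → Equiv.Perm.sign σ = 1 := by
        intro s σ ha hb hσ
        have hpow : ∀ i : ℕ, (σ ^ i) α = α ∧ (σ ^ i) α' = α' ∧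
            ∀ ω, ω ∉ orbit (S : Subgroup G) α → (σ ^ i) ω = s ^ i • ω := by
          intro i
          induction i with
          | zero => simp
          | succ i ih =>
            refine ⟨by rw [pow_succ', Equiv.Perm.mul_apply, ih.1, ha], by rw [pow_succ', Equiv.Perm.mul_apply, ih.2.1, hb],
              fun ω hω => ?_⟩
            rw [pow_succ', Equiv.Perm.mul_apply, ih.2.2 ω hω, pow_succ', mul_smul]
            refine hσ _ fun h => hω ?_
            obtain ⟨r, hr⟩ := h
            exact ⟨(s ^ i)⁻¹ * r, by simp only at hr ⊢; rw [mul_smul, hr, inv_smul_smul]⟩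
        have hone : ∀ i : ℕ, s ^ i = 1 → σ ^ i = 1 := fun i hi => Equiv.ext fun ω => by
          rw [Equiv.Perm.one_apply]
          by_cases hω : ω ∈ orbit (S : Subgroup G) α
          · rcases (hmem ω).1 hω with rfl | rfl
            exacts [(hpow i).1, (hpow i).2.1]
          · rw [(hpow i).2.2 ω hω, hi, one_smul]
        obtain ⟨c, hc, hsign⟩ := sign_semiregular σ (by
          intro i x hx hix
          refine hone i (by_contra fun hne1 => ?_)
          have hxO : x ∉ orbit (S : Subgroup G) α := fun h => by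
            rcases (hmem x).1 h with rfl | rfl
            exacts [hx ha, hx hb]
          rw [(hpow i).2.2 x hxO] at hix
          exact hfree _ hne1 x hxO hix)
        rw [hsign]
        refine Even.neg_one_pow ?_
        have ho : orderOf σ ∣ orderOf s := orderOf_dvd_of_pow_eq_one (hone _ (pow_orderOf_eq_one s))
        have hlt : 2 * orderOf s ∣ P := by
          have hd : orderOf s ∣ P := orderOf_dvd_natCard s
          obtain ⟨j, hj, hj'⟩ := (Nat.dvd_prime_pow Nat.prime_two).1 (show orderOf s ∣ 2 ^ e by rw [← he]; exact hd)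
          have hje : j ≠ e := fun h => hcyc (isCyclic_of_orderOf_eq_card s (by rw [hj', h, ← he]))
          rw [hj', hP, he, ← pow_succ']
          exact pow_dvd_pow 2 (by omega)
        by_cases hs1 : s = 1
        · have hσ1 : σ = 1 := by simpa using hone 1 (by rw [pow_one, hs1])
          subst hσ1
          have hc' : c = 0 := by simpa using hc.symm
          simp [hc']
        have hsupp : σ.support.card = k * P := by
          have : σ.support = Finset.univ \ {α, α'} := by
            ext x
            simp only [Equiv.Perm.mem_support, Finset.mem_sdiff, Finset.mem_univ, true_and, Finset.mem_insert, Finset.mem_singleton]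
            constructor
            · rintro hx (rfl | rfl)
              exacts [hx ha, hx hb]
            · intro hx
              have hxO : x ∉ orbit (S : Subgroup G) α := fun h => hx ((hmem x).1 h)
              rw [hσ x hxO]
              exact hfree s hs1 x hxO
          rw [this, Finset.card_sdiff, Finset.inter_univ, Finset.card_univ, Finset.card_pair hne.symm, hk]
          omega
        obtain ⟨d, hd⟩ := (mul_dvd_mul_left 2 ho).trans hlt
        rw [hsupp, hd] at hc
        have hc2 : c = 2 * (k * d) := by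
          refine Nat.eq_of_mul_eq_mul_right (orderOf_pos σ) ?_
          rw [← hc]; ring
        obtain ⟨d', hd'⟩ := hP4
        rw [hsupp, hc2, hd', even_iff_two_dvd]
        exact ⟨2 * (k * d') + k * d, by ring⟩
      refine ⟨f, fun t ht => ?_, fun s hs => ?_⟩
      · refine key t _ ht ?_ (fun ω _ => rfl)
        change t • α' = α'
        obtain ⟨r, hr⟩ := (hmem α').2 (Or.inr rfl)
        have : r⁻¹ * t * r ∈ T := by
          have := (Subgroup.normal_of_index_eq_two hidx).conj_mem t ht r⁻¹
          rwa [inv_inv] at this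
        simp only at hr
        rw [← hr]
        have h' : (r⁻¹ * t * r) • α = α := this
        rw [mul_smul, mul_smul, inv_smul_eq_iff] at h'
        exact h'
      · have hsa : s • α = α' := ((hmem (s • α)).1 (mem_orbit α s)).resolve_left hs
        have hsb : s • α' = α := by
          refine ((hmem (s • α')).1 ⟨s * s, by simp only; rw [mul_smul, hsa]⟩).resolve_right fun h => hne ?_
          exact (smul_left_cancel s (h.trans hsa.symm) : α' = α)
        have h1 := key s (Equiv.swap α α' * MulAction.toPermHom G Ω (s : G)) (by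
            rw [Equiv.Perm.mul_apply]; change Equiv.swap α α' (s • α) = α; rw [hsa, Equiv.swap_apply_right]) (by
            rw [Equiv.Perm.mul_apply]; change Equiv.swap α α' (s • α') = α'; rw [hsb, Equiv.swap_apply_left]) (by
            intro ω hω
            rw [Equiv.Perm.mul_apply]
            have hsω : s • ω ∉ orbit (S : Subgroup G) α := fun h => hω (by
              obtain ⟨r, hr⟩ := h
              exact ⟨s⁻¹ * r, by simp only at hr ⊢; rw [mul_smul, hr, inv_smul_smul]⟩)
            exact Equiv.swap_apply_of_ne_of_ne (fun h => hsω ((hmem _).2 (Or.inl h)))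
              (fun h => hsω ((hmem _).2 (Or.inr h))))
        rw [map_mul, Equiv.Perm.sign_swap hne.symm] at h1
        change Equiv.Perm.sign _ = -1
        calc Equiv.Perm.sign (MulAction.toPermHom G Ω (s : G))
            = -1 * (-1 * Equiv.Perm.sign (MulAction.toPermHom G Ω (s : G))) := by simp
          _ = -1 := by rw [h1, mul_one]
  obtain ⟨s, hs⟩ : ∃ s : (S : Subgroup G), s ∉ T := by
    by_contra h
    push Not at h
    rw [(eq_top_iff.2 fun x _ => h x : T = ⊤), Subgroup.index_top] at hidx
    norm_num at hidx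
  set N := f.ker with hN
  have hNidx : N.index = 2 := by
    have hsurj : Function.Surjective f := fun y => by
      rcases Int.units_eq_one_or y with rfl | rfl
      exacts [⟨1, map_one f⟩, ⟨(s : G), hfs s hs⟩]
    rw [hN, Subgroup.index_ker, MonoidHom.range_eq_top.2 hsurj, Subgroup.card_top, Nat.card_eq_fintype_card]
    rfl
  have hodd_n : ¬ 4 ∣ Fintype.card Ω := by
    rw [hk]
    intro h
    obtain ⟨d, hd⟩ := hP4
    rw [hd, show k * (4 * d) = 4 * (k * d) by ring] at h
    omega
  have hGa : stabilizer G α ≤ N := by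
    by_contra hcon
    have hmul : Nat.card (stabilizer G α) * Fintype.card Ω = Nat.card G := by
      rw [← Nat.card_eq_fintype_card, ← index_stabilizer_of_transitive G α]; exact Subgroup.card_mul_index _
    set K := (f.comp (stabilizer G α).subtype).ker
    have hKi : K.index = 2 := by
      have hd : K.index ∣ 2 := by
        rw [Subgroup.index_ker]
        refine (Subgroup.card_subgroup_dvd_card _).trans ?_
        rw [Nat.card_eq_fintype_card]
        rfl
      refine ((Nat.dvd_prime Nat.prime_two).1 hd).resolve_left fun h => hcon fun x hx => ?_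
      have : (⟨x, hx⟩ : stabilizer G α) ∈ K := by rw [Subgroup.index_eq_one.1 h]; trivial
      exact this
    have hTK : Nat.card T ∣ Nat.card K := by
      refine Subgroup.card_dvd_of_injective
        ((((S : Subgroup G).subtype.comp T.subtype).codRestrict (stabilizer G α) fun y => y.2).codRestrict K
          fun y => hfT y.1 y.2) ?_
      intro y y' h
      exact Subtype.ext (Subtype.ext (congrArg (fun q : K => ((q : stabilizer G α) : G)) h))
    have hdvd : P * 2 ∣ Nat.card G := by
      rw [← hmul, ← K.card_mul_index, hKi, ← hTc]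
      refine mul_dvd_mul (mul_dvd_mul hTK dvd_rfl) ?_
      rw [hk]
      exact dvd_add dvd_rfl (dvd_mul_of_dvd_right (Dvd.dvd.trans (by norm_num) hP4) k)
    apply S.not_dvd_index
    rw [← (S : Subgroup G).card_mul_index, ← hP] at hdvd
    exact (Nat.mul_dvd_mul_iff_left (by rw [hP]; exact Nat.card_pos)).1 hdvd
  have hN0 : N.Normal := by rw [hN]; infer_instance
  refine ⟨N, hN0, hNidx, (stabilizer G α).subgroupOf N, ?_⟩
  have hsα : (s : G) • α = α' := ((hmem (s • α)).1 (mem_orbit α s)).resolve_left hs
  set Ω₁ := orbit N α with hΩ₁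
  set Ω₂ := orbit N α' with hΩ₂
  have hdisj : ∀ x, x ∈ Ω₁ → x ∈ Ω₂ → False := by
    intro x h1 h2
    have h3 : α' ∈ Ω₁ := by rw [hΩ₁, ← orbit_eq_iff.2 h1, orbit_eq_iff.2 h2]; exact mem_orbit_self α'
    obtain ⟨g, hg⟩ := h3
    have hmemst : (g : G)⁻¹ * (s : G) ∈ stabilizer G α := by
      rw [mem_stabilizer_iff, mul_smul, hsα, ← hg, inv_smul_eq_iff]
      rfl
    have hsN : (s : G) ∈ N := by
      have := mul_mem g.2 (hGa hmemst)
      rwa [mul_inv_cancel_left] at this
    rw [hN, MonoidHom.mem_ker, hfs s hs] at hsN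
    exact absurd hsN (by decide)
  have hcard1 : ∀ ω : Ω, stabilizer G ω ≤ N → 2 * (orbit N ω).ncard = Fintype.card Ω := by
    intro ω hω
    have h1 := Subgroup.relIndex_mul_index hω
    rw [hNidx, index_stabilizer_of_transitive, Nat.card_eq_fintype_card] at h1
    have h2 : (stabilizer N ω).index = (stabilizer G ω).relIndex N := rfl
    rw [← index_stabilizer, h2]; omega
  have hGa' : stabilizer G α' ≤ N := by
    intro x hx
    have hc : (s : G)⁻¹ * x * s ∈ stabilizer G α := by
      rw [mem_stabilizer_iff, mul_smul, mul_smul, hsα, show x • α' = α' from hx, inv_smul_eq_iff, hsα]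
    have := hN0.conj_mem _ (hGa hc) (s : G)
    rwa [show (s : G) * ((s : G)⁻¹ * x * s) * (s : G)⁻¹ = x by group] at this
  have hM1 := hcard1 α hGa
  have hM2 := hcard1 α' hGa'
  have hodd : Ω₁.ncard % 2 = 1 := by
    rcases Nat.mod_two_eq_zero_or_one Ω₁.ncard with h | h
    · exfalso; apply hodd_n; rw [hΩ₁] at h; rw [← hM1]; omega
    · exact h
  -- prime order elements fix at most one point of the first orbit
  have hone : ∀ x : N, (orderOf x).Prime → ∀ b c : Ω₁, x • b = b → x • c = c → b = c := by
    intro x hx b c hb hc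
    by_contra hbc
    set r := orderOf x
    haveI := Fact.mk hx
    have hR : IsPGroup r (Subgroup.zpowers x) := IsPGroup.of_card (n := 1) (by rw [Nat.card_zpowers, pow_one])
    have hfixmod : ∀ ω : Ω, (orbit N ω).ncard ≡ Nat.card {y : orbit N ω // x • y = y} [MOD r] := by
      intro ω
      have h := hR.card_modEq_card_fixedPoints (orbit N ω)
      rw [Nat.card_coe_set_eq (orbit N ω)] at h
      refine h.trans ?_
      rw [Nat.card_congr (Equiv.subtypeEquivRight (fun y => ?_))]
      constructor
      · intro hy; exact hy ⟨x, Subgroup.mem_zpowers x⟩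
      · intro hy g
        obtain ⟨i, hi⟩ := Subgroup.mem_zpowers_iff.1 g.2
        have : x ^ i ∈ stabilizer N y := zpow_mem hy i
        rw [hi] at this
        exact this
    have e1 := hfixmod α
    have e2 := hfixmod α'
    have hM : (orbit N α).ncard = (orbit N α').ncard := by omega
    have hle : Nat.card {y : orbit N α // x • y = y} + Nat.card {y : orbit N α' // x • y = y} ≤ 2 := by
      rw [← Nat.card_sum]
      refine le_trans (Nat.card_le_card_of_injective
        (Sum.elim (fun y => (⟨y.1.1, congrArg Subtype.val y.2⟩ : fixedBy Ω (x : G)))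
          (fun y => ⟨y.1.1, congrArg Subtype.val y.2⟩)) ?_) (hfix _ fun h => ?_)
      · rintro (y | y) (y' | y') h <;>
          have h' := congrArg (fun q : fixedBy Ω (x : G) => (q : Ω)) h <;> simp only [Sum.elim_inl, Sum.elim_inr] at h'
        · exact congrArg Sum.inl (Subtype.ext (Subtype.ext h'))
        · exact (hdisj _ y.1.2 (h' ▸ y'.1.2)).elim
        · exact (hdisj _ y'.1.2 (h' ▸ y.1.2)).elim
        · exact congrArg Sum.inr (Subtype.ext (Subtype.ext h'))
      · exact hx.ne_one (orderOf_eq_one_iff.2 (Subtype.ext h))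
    have h2 : 2 ≤ Nat.card {y : orbit N α // x • y = y} := by
      haveI := Fintype.ofFinite {y : orbit N α // x • y = y}
      rw [Nat.card_eq_fintype_card]
      exact Fintype.one_lt_card_iff.2 ⟨⟨b, hb⟩, ⟨c, hc⟩, fun e => hbc (congrArg Subtype.val e)⟩
    have hr0 : r ∣ 2 := by
      have h3 : (orbit N α).ncard ≡ 0 [MOD r] := by
        rw [hM]
        have : Nat.card {y : orbit N α' // x • y = y} = 0 := by omega
        rwa [this] at e2
      have h4 : Nat.card {y : orbit N α // x • y = y} = 2 := by omega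
      rw [h4] at e1
      exact Nat.modEq_zero_iff_dvd.1 (e1.symm.trans h3)
    have h5 : r = 2 := (Nat.prime_dvd_prime_iff_eq hx Nat.prime_two).1 hr0
    have h6 := e1
    rw [show Nat.card {y : orbit N α // x • y = y} = 2 by omega, h5, Nat.ModEq] at h6
    rw [hΩ₁] at hodd
    omega
  refine ⟨fun hb => ?_, fun htop => ?_, fun g hg => ?_⟩
  · obtain ⟨t, ht, ht1⟩ := T.bot_or_exists_ne_one.resolve_left hT
    have : (⟨(t : G), hGa ht⟩ : N) ∈ (stabilizer G α).subgroupOf N := ht
    rw [hb, Subgroup.mem_bot] at this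
    exact ht1 (Subtype.ext (congrArg (fun q : N => (q : G)) this))
  · rw [Subgroup.subgroupOf_eq_top] at htop
    have heq : stabilizer G α = N := le_antisymm hGa htop
    have hn2 : Fintype.card Ω = 2 := by
      rw [← Nat.card_eq_fintype_card, ← index_stabilizer_of_transitive G α, heq, hNidx]
    have hinj : Function.Injective (MulAction.toPermHom G Ω) := fun a b h =>
      FaithfulSMul.eq_of_smul_eq_smul (α := Ω) fun ω => Equiv.ext_iff.1 h ω
    have hd := Subgroup.card_dvd_of_injective _ hinj
    rw [Nat.card_perm, Nat.card_eq_fintype_card (α := Ω), hn2] at hd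
    have := Nat.le_of_dvd (by norm_num) ((hP4.trans (Subgroup.card_subgroup_dvd_card _)).trans hd)
    norm_num at this
  · rw [eq_bot_iff]
    intro x hx
    rw [Subgroup.mem_inf] at hx
    obtain ⟨hx1, hx2⟩ := hx
    rw [Subgroup.mem_bot]
    by_contra hxne
    obtain ⟨r, hr, hrd⟩ := Nat.exists_prime_and_dvd (show orderOf x ≠ 1 from fun h => hxne (orderOf_eq_one_iff.1 h))
    have hy : orderOf (x ^ (orderOf x / r)) = r := by
      rw [orderOf_pow' _ (Nat.div_pos (Nat.le_of_dvd (orderOf_pos x) hrd) hr.pos).ne',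
        Nat.gcd_eq_right (Nat.div_dvd_of_dvd hrd), Nat.div_div_self hrd (orderOf_pos x).ne']
    have hxa : x • α = α := hx1
    have hxg : x • (g • α) = g • α := by
      rw [Subgroup.mem_pointwise_smul_iff_inv_smul_mem] at hx2
      have h : (g⁻¹ * x * g) • α = α := by
        have h' : ((MulAut.conj g)⁻¹ • x : N) • α = α := hx2
        simpa [MulAut.smul_def] using h'
      rw [mul_smul, mul_smul, inv_smul_eq_iff] at h
      exact h
    have hy' : ∀ b : Ω, x • b = b → (x ^ (orderOf x / r)) • b = b := fun b hb =>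
      (pow_mem (show x ∈ stabilizer N b from hb) _ : _)
    have := hone (x ^ (orderOf x / r)) (by rw [hy]; exact hr) ⟨α, mem_orbit_self α⟩ ⟨g • α, mem_orbit α g⟩
      (Subtype.ext (hy' α hxa)) (Subtype.ext (hy' _ hxg))
    exact hg (show (g : N) • α = α from (congrArg Subtype.val this).symm)


/-- Let G be a finite group acting faithfully and transitively on a finite set Ω with fixity 2 (every non-identity element fixes at most two points, and some fixes exactly two). Let α ∈ Ω and S a Sylow 2-subgroup of G. Then one of the following holds: the stabilizer S_α of α in S is trivial; S is dihedral or semidihedral and either |S_α| = 2 or |S : S_α| = 2; |S| ≥ 4, S has exactly one orbit of size 2 on Ω, every other S-orbit is regular, and G has a normal subgroup of index 2 or of index |S| which is a Frobenius group; or S ≤ G_α. -/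
theorem result {G : Type*} [Group G] [Finite G] {Ω : Type*} [Fintype Ω] [MulAction G Ω] [FaithfulSMul G Ω] (htr : MulAction.IsPretransitive G Ω)
    (hfix : ∀ g : G, g ≠ 1 → Nat.card (MulAction.fixedBy Ω g) ≤ 2) (hex : ∃ g : G, g ≠ 1 ∧ Nat.card (MulAction.fixedBy Ω g) = 2) (α : Ω) (S : Sylow 2 G) :
    (S : Subgroup G) ⊓ MulAction.stabilizer G α = ⊥ ∨
    (((∃ n : ℕ, Nonempty (↥(S : Subgroup G) ≃* DihedralGroup n)) ∨ Cfsg.IsQuasiDihedral ↥(S : Subgroup G)) ∧
       (Nat.card ↥((S : Subgroup G) ⊓ MulAction.stabilizer G α) = 2 ∨ ((S : Subgroup G) ⊓ MulAction.stabilizer G α).relIndex (S : Subgroup G) = 2)) ∨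
    (4 ≤ Nat.card (S : Subgroup G) ∧
       (∃ ω : Ω, Nat.card (MulAction.orbit ↥(S : Subgroup G) ω) = 2 ∧
          ∀ ω' : Ω, ω' ∉ MulAction.orbit ↥(S : Subgroup G) ω → Nat.card (MulAction.orbit ↥(S : Subgroup G) ω') = Nat.card (S : Subgroup G)) ∧
       ∃ N : Subgroup G, N.Normal ∧ (N.index = 2 ∨ N.index = Nat.card (S : Subgroup G)) ∧ (∃ H : Subgroup ↥N, Cfsg.IsFrobeniusComplement H)) ∨
    (S : Subgroup G) ≤ MulAction.stabilizer G α := by
  classical
  haveI : Fact (Nat.Prime 2) := ⟨Nat.prime_two⟩
  haveI := htr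
  set T := MulAction.stabilizer (S : Subgroup G) α with hTdef
  have hsub : ((S : Subgroup G) ⊓ MulAction.stabilizer G α).subgroupOf (S : Subgroup G) = T := by
    ext x; exact ⟨fun h => h.2, fun h => ⟨x.2, h⟩⟩
  have hcard : Nat.card ↥((S : Subgroup G) ⊓ MulAction.stabilizer G α) = Nat.card T := by
    rw [← hsub, Nat.card_congr (Subgroup.subgroupOfEquivOfLe inf_le_left).toEquiv]
  have hrel : ((S : Subgroup G) ⊓ MulAction.stabilizer G α).relIndex (S : Subgroup G) = T.index := by
    rw [Subgroup.relIndex, hsub]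
  by_cases hT0 : T = ⊥
  · left
    rw [Subgroup.eq_bot_iff_card, hcard, hT0, Subgroup.card_bot]
  by_cases hTtop : T = ⊤
  · right; right; right
    intro x hx
    have : (⟨x, hx⟩ : (S : Subgroup G)) ∈ T := hTtop ▸ Subgroup.mem_top _
    exact this
  have hS2 : IsPGroup 2 (S : Subgroup G) := S.isPGroup'
  obtain ⟨t, -, htc, hto⟩ := Cfsg.Lib.PGroup.exists_mem_center_orderOf_eq (hS2.to_subgroup T)
    (show (⊤ : Subgroup T) ≠ ⊥ from fun h => hT0 (Subgroup.eq_bot_iff_forall _ |>.2 fun x hx => by
      have : (⟨x, hx⟩ : T) ∈ (⊥ : Subgroup T) := h ▸ Subgroup.mem_top _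
      exact congrArg Subtype.val (Subgroup.mem_bot.1 this)))
  have hS1 : (⊤ : Subgroup (S : Subgroup G)) ≠ ⊥ := fun h => hT0 (le_bot_iff.1 (h ▸ le_top))
  obtain ⟨z, -, hzc, hzo⟩ := Cfsg.Lib.PGroup.exists_mem_center_orderOf_eq hS2 hS1
  have ht1 : (t : (S : Subgroup G)) ≠ 1 := fun h => by
    rw [show t = 1 from Subtype.ext h, orderOf_one] at hto; norm_num at hto
  have htα : (t : (S : Subgroup G)) • α = α := t.2
  have hne1 : ∀ x : (S : Subgroup G), x ≠ 1 → (x : G) ≠ 1 := fun x hx h => hx (Subtype.ext h)
  by_cases hidx : T.index = 2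
  · obtain ⟨α', hne, hO⟩ := orbit_two hidx
    have hTn := Subgroup.normal_of_index_eq_two hidx
    have hTfix : ∀ x ∈ T, ∀ w ∈ MulAction.orbit (S : Subgroup G) α, x • w = w := by
      rintro x hx _ ⟨g, rfl⟩
      change x • g • α = g • α
      have h := hTn.conj_mem x hx g⁻¹
      rw [inv_inv] at h
      have h' : (g⁻¹ * x * g) • α = α := h
      rw [mul_smul, mul_smul, inv_smul_eq_iff] at h'
      exact h'
    by_cases hall : ∀ x : (S : Subgroup G), x ≠ 1 → ∀ ω, ω ∉ MulAction.orbit (S : Subgroup G) α → x • ω ≠ ω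
    · right; right; left
      have h2 : 2 ≤ Nat.card T := (Subgroup.one_lt_card_iff_ne_bot T).2 hT0
      have hm := T.card_mul_index
      rw [hidx] at hm
      refine ⟨by omega, ⟨α, ?_, fun ω' hω' => ?_⟩, ?_⟩
      · rw [Nat.card_coe_set_eq, hO, Set.ncard_pair hne.symm]
      · have hb : MulAction.stabilizer (S : Subgroup G) ω' = ⊥ := by
          rw [Subgroup.eq_bot_iff_forall]
          intro g hg
          by_contra hg1
          exact hall g hg1 ω' hω' hg
        rw [Nat.card_coe_set_eq, ← MulAction.index_stabilizer, hb, Subgroup.index_bot]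
      · obtain ⟨N, hN, hNi, hH⟩ := frob htr hfix S α hidx hT0 hall
        exact ⟨N, hN, Or.inl hNi, hH⟩
    · right; left
      push Not at hall
      obtain ⟨x, hx, ω, hω, hxω⟩ := hall
      refine ⟨?_, Or.inr (hrel.trans hidx)⟩
      set U := MulAction.stabilizer (S : Subgroup G) ω
      have hUT : ∀ y ∈ U, y ∈ T → y = 1 := by
        intro y hyU hyT
        refine Subtype.ext (three_fixed hfix (a := α) (b := α') (c := ω) hyT ?_ hyU hne.symm ?_ ?_)
        · exact hTfix y hyT α' (by rw [hO]; simp)
        · rintro rfl; exact hω (MulAction.mem_orbit_self _)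
        · rintro rfl; exact hω (by rw [hO]; simp)
      have hU2 : Nat.card U ≤ 2 := by
        have hinj : Function.Injective (fun y : U => ((y : (S : Subgroup G)) : (S : Subgroup G) ⧸ T)) := by
          intro y y' h
          have h1 := QuotientGroup.eq.1 h
          exact Subtype.ext (inv_mul_eq_one.1 (hUT _ (mul_mem (inv_mem y.2) y'.2) h1))
        have := Nat.card_le_card_of_injective _ hinj
        rwa [← Subgroup.index_eq_card, hidx] at this
      have hxo : orderOf x = 2 := by
        have h1 : orderOf x ∣ Nat.card U := by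
          have h0 := orderOf_dvd_natCard (⟨x, hxω⟩ : U)
          rwa [← Subgroup.orderOf_coe] at h0
        have h2 : orderOf x ≠ 1 := fun h => hx (orderOf_eq_one_iff.1 h)
        have h3 := Nat.le_of_dvd Nat.card_pos h1
        have h4 := orderOf_pos x
        omega
      exact dihedral_or_semidihedral hS2 hxo ((Subgroup.orderOf_coe t).trans hto)
        (fun h => hx (hUT x hxω (h ▸ t.2))) (conj_stab hfix hx hxω hU2)
  -- the central involution moves the point
  right; left
  have hzT : z ∉ T := by
    intro hz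
    apply hidx
    have hz1 : z ≠ 1 := fun h => by rw [h, orderOf_one] at hzo; norm_num at hzo
    have hle : T.index ≤ 2 := by
      rw [MulAction.index_stabilizer, ← Nat.card_coe_set_eq]
      refine le_trans (Nat.card_le_card_of_injective
        (fun w : MulAction.orbit (S : Subgroup G) α => (⟨w.1, ?_⟩ : MulAction.fixedBy Ω (z : G)))
        (fun w w' h => Subtype.ext (congrArg (fun q : MulAction.fixedBy Ω (z : G) => (q : Ω)) h)))
        (hfix _ (hne1 z hz1))
      obtain ⟨g, hg⟩ := w.2
      change z • w.1 = w.1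
      rw [← hg]
      change z • g • α = g • α
      rw [← mul_smul, ← Subgroup.mem_center_iff.1 hzc g, mul_smul, show z • α = α from hz]
    have h1 : T.index ≠ 1 := fun h => hTtop (Subgroup.index_eq_one.1 h)
    have h0 := T.index_ne_zero_of_finite
    omega
  have hzα : z • α ≠ α := hzT
  have hTz : ∀ x ∈ T, x • z • α = z • α := fun x hx => by
    rw [← mul_smul, Subgroup.mem_center_iff.1 hzc x, mul_smul, show x • α = α from hx]
  have honly : ∀ x ∈ T, x ≠ 1 → ∀ w, x • w = w → w = α ∨ w = z • α := by
    intro x hx hx1 w hw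
    by_contra h
    push Not at h
    exact hne1 x hx1 (three_fixed hfix (a := α) (b := z • α) (c := w) hx (hTz x hx) hw hzα.symm (Ne.symm h.1) (Ne.symm h.2))
  set M := Subgroup.centralizer ({(t : (S : Subgroup G))} : Set (S : Subgroup G)) with hMdef
  have hTM : T ≤ M := fun x hx => Subgroup.mem_centralizer_singleton_iff.2
    (congrArg Subtype.val (Subgroup.mem_center_iff.1 htc ⟨x, hx⟩))
  have hzM : z ∈ M := Subgroup.mem_centralizer_singleton_iff.2 (Subgroup.mem_center_iff.1 hzc _).symm
  have hstab : ∀ m : (S : Subgroup G), m • α = α ∨ m • α = z • α → m ∈ M := by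
    intro m hm
    rcases hm with h | h
    · exact hTM h
    · have : z⁻¹ * m ∈ T := by
        change (z⁻¹ * m) • α = α
        rw [mul_smul, h, inv_smul_smul]
      have h' := mul_mem hzM (hTM this)
      rwa [mul_inv_cancel_left] at h'
  have hMpair : ∀ m ∈ M, m • α = α ∨ m • α = z • α := by
    intro m hm
    refine honly t t.2 ht1 _ ?_
    rw [← mul_smul, ← Subgroup.mem_centralizer_singleton_iff.1 hm, mul_smul, htα]
  have hMorb : (MulAction.stabilizer M α).index ≤ 2 := by
    rw [MulAction.index_stabilizer]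
    refine (Set.ncard_le_ncard (t := ({α, z • α} : Set Ω)) ?_).trans (Set.ncard_insert_le _ _ |>.trans (by simp))
    rintro _ ⟨m, rfl⟩
    exact hMpair m.1 m.2
  have hMle : Nat.card M ≤ 2 * Nat.card T := by
    have h1 := (MulAction.stabilizer M α).card_mul_index
    have h2 : Nat.card (MulAction.stabilizer M α) ≤ Nat.card T := Nat.card_le_card_of_injective
      (fun x => (⟨x.1.1, x.2⟩ : T)) (fun x y h => Subtype.ext (Subtype.ext (congrArg (fun q : T => (q : (S : Subgroup G))) h)))
    rw [← h1, mul_comm 2]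
    exact Nat.mul_le_mul h2 hMorb
  have hMne : M ≠ ⊤ := by
    intro h
    apply hidx
    have h1 := T.card_mul_index
    have h2 : Nat.card (⊤ : Subgroup (S : Subgroup G)) ≤ 2 * Nat.card T := h ▸ hMle
    rw [Subgroup.card_top, ← h1, mul_comm 2] at h2
    have h3 := Nat.le_of_mul_le_mul_left h2 Nat.card_pos
    have h4 : T.index ≠ 1 := fun h => hTtop (Subgroup.index_eq_one.1 h)
    have h0 := T.index_ne_zero_of_finite
    omega
  haveI := hS2.isNilpotent
  obtain ⟨s, hsN, hsM⟩ := SetLike.exists_of_lt (Group.normalizerCondition_of_isNilpotent M (lt_top_iff_ne_top.2 hMne))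
  have hT2 : Nat.card T ≤ 2 := by
    let ι : T → T → M := fun x y => ⟨x.1 * (s * y.1 * s⁻¹),
      mul_mem (hTM x.2) ((Subgroup.mem_normalizer_iff.1 hsN _).1 (hTM y.2))⟩
    have hinj : Function.Injective (fun xy : T × T => ι xy.1 xy.2) := by
      rintro ⟨x, y⟩ ⟨x', y'⟩ h
      have h' : x.1 * (s * y.1 * s⁻¹) = x'.1 * (s * y'.1 * s⁻¹) := congrArg (fun q : M => (q : (S : Subgroup G))) h
      have hd : (x'.1)⁻¹ * x.1 = s * (y'.1 * y.1⁻¹) * s⁻¹ := by
        calc (x'.1)⁻¹ * x.1 = (x'.1)⁻¹ * (x.1 * (s * y.1 * s⁻¹)) * (s * y.1 * s⁻¹)⁻¹ := by group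
          _ = _ := by rw [h']; group
      by_cases hx : (x'.1)⁻¹ * x.1 = 1
      · have hxx : x = x' := Subtype.ext (inv_mul_eq_one.1 hx).symm
        rw [hx, eq_comm, conj_eq_one_iff, mul_inv_eq_one] at hd
        exact Prod.ext hxx (Subtype.ext hd.symm)
      · exfalso
        have hdT : (x'.1)⁻¹ * x.1 ∈ T := mul_mem (inv_mem x'.2) x.2
        apply hsM
        refine hstab s (honly _ hdT hx _ ?_)
        rw [hd, mul_smul, mul_smul, inv_smul_smul,
          show (y'.1 * y.1⁻¹) • α = α from mul_mem y'.2 (inv_mem y.2)]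
    have hle := (Nat.card_le_card_of_injective _ hinj).trans hMle
    rw [Nat.card_prod] at hle
    exact Nat.le_of_mul_le_mul_right hle Nat.card_pos
  have hz2 : z ≠ (t : (S : Subgroup G)) := fun h => hzT (h ▸ t.2)
  refine ⟨dihedral_or_semidihedral hS2 ((Subgroup.orderOf_coe t).trans hto) hzo hz2 (hMle.trans (by omega)), Or.inl ?_⟩
  have h2 : 2 ≤ Nat.card T := (Subgroup.one_lt_card_iff_ne_bot T).2 hT0
  omega

end Cfsg.Agent.S3390
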