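import Cfsg.Statements.S0501
import Cfsg.Agent.Lib.MacWilliams.Main

set_option autoImplicit false
open Cfsg

namespace Cfsg.Agent.S0501

/-- A finite 2-group in which every normal elementary abelian subgroup has order at most 4 has sectional rank at most
4: every quotient of every subgroup has no elementary abelian subgroup of order exceeding 16. -/
theorem result {P : Type*} [Group P] [Finite P] (hP : IsPGroup 2 P)
    (h : ∀ A : Subgroup P, A.Normal → IsMulCommutative A → (∀ a ∈ A, a ^ 2 = 1) → Nat.card A ≤ 4) :
    Cfsg.SectionalPRankLE 2 4 P := by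
  intro H N _ E hEc hE2
  haveI := hEc
  let π := QuotientGroup.mk' N
  let L : Subgroup P := (E.comap π).map H.subtype
  let e := (E.comap π).equivMapOfInjective H.subtype H.subtype_injective
  let f : ↥(E.comap π) →* ↥E :=
    { toFun := fun x => ⟨π x.1, x.2⟩
      map_one' := Subtype.ext (map_one π)
      map_mul' := fun a b => Subtype.ext (map_mul π a.1 b.1) }
  have hf : Function.Surjective f := by
    rintro ⟨y, hy⟩
    obtain ⟨x, rfl⟩ := QuotientGroup.mk'_surjective N y
    exact ⟨⟨x, hy⟩, rfl⟩
  let ψ : ↥L →* ↥E := f.comp e.symm.toMonoidHom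
  have hψ : Function.Surjective ψ := hf.comp e.symm.surjective
  have h16 := Cfsg.Lib.MacWilliams.quotient_bound hP h L ψ.ker (fun x => by
    rw [MonoidHom.mem_ker, map_pow]
    exact Subtype.ext (hE2 _ (ψ x).2))
  rw [Subgroup.index_ker, MonoidHom.range_eq_top.2 hψ, Subgroup.card_top] at h16
  exact h16

end Cfsg.Agent.S0501
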