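import Cfsg.Statements.S3903
import Mathlib.GroupTheory.Transfer
import Mathlib.Algebra.Order.BigOperators.Group.Finset
-- import your own Cfsg.Agent.* helpers here

set_option autoImplicit false
open Cfsg

namespace Cfsg.Agent.S3903

theorem pgroup_solvable {H : Type*} [Group H] [Finite H] {p : ℕ} [Fact p.Prime] (h : IsPGroup p H) :
    Group.IsSolvable H := by
  have := h.isNilpotent
  infer_instance

theorem solvable_of_abelian_maximal_sylow {G : Type*} [Group G] [Finite G] {p : ℕ} [Fact p.Prime]
    (P : Sylow p G) (hab : IsMulCommutative ↥(P : Subgroup G)) (hmax : IsCoatom (P : Subgroup G)) :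
    Group.IsSolvable G := by
  have hPs : Group.IsSolvable ↥(P : Subgroup G) := Group.isSolvable_of_comm hab.is_comm.comm
  rcases eq_or_ne (Subgroup.normalizer ((P : Subgroup G) : Set G)) ⊤ with hn | hn
  · have : (P : Subgroup G).Normal := Subgroup.normalizer_eq_top_iff.1 hn
    have hcyc : Group.IsSolvable (G ⧸ (P : Subgroup G)) := by
      by_cases h1 : ∀ a : G ⧸ (P : Subgroup G), a = 1
      · exact Group.isSolvable_of_comm fun a b => by rw [h1 a, h1 b]
      push Not at h1
      obtain ⟨a, ha⟩ := h1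
      have htop : Subgroup.zpowers a = ⊤ := by
        have hle : (P : Subgroup G) ≤ (Subgroup.zpowers a).comap (QuotientGroup.mk' (P : Subgroup G)) :=
          fun g hg => by
            rw [Subgroup.mem_comap, QuotientGroup.mk'_apply, (QuotientGroup.eq_one_iff g).2 hg]
            exact one_mem _
        rcases hmax.le_iff.1 hle with h | h
        · exact (Subgroup.comap_injective (QuotientGroup.mk'_surjective _)) (h.trans (Subgroup.comap_top _).symm)
        · obtain ⟨g, rfl⟩ := QuotientGroup.mk'_surjective (P : Subgroup G) a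
          have : g ∈ (P : Subgroup G) := by rw [← h]; exact Subgroup.mem_zpowers _
          exact absurd ((QuotientGroup.eq_one_iff g).2 this) ha
      have : IsCyclic (G ⧸ (P : Subgroup G)) := isCyclic_iff_exists_zpowers_eq_top.2 ⟨a, htop⟩
      let _ := IsCyclic.commGroup (α := G ⧸ (P : Subgroup G))
      exact Group.isSolvable_of_comm fun a b => mul_comm a b
    exact Group.isSolvable_of_ker_le_range (P : Subgroup G).subtype (QuotientGroup.mk' (P : Subgroup G))
      (by rw [QuotientGroup.ker_mk', Subgroup.range_subtype])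
  · have hN : Subgroup.normalizer ((P : Subgroup G) : Set G) = P :=
      (hmax.le_iff.1 Subgroup.le_normalizer).resolve_left hn
    have hPC : Subgroup.normalizer ((P : Subgroup G) : Set G) ≤ Subgroup.centralizer ((P : Subgroup G) : Set G) := by
      rw [hN]
      intro a ha
      rw [Subgroup.mem_centralizer_iff]
      intro b hb
      exact congrArg Subtype.val (hab.is_comm.comm (⟨b, hb⟩ : (P : Subgroup G)) ⟨a, ha⟩)
    obtain ⟨K, hKn, hc⟩ : ∃ K : Subgroup G, K.Normal ∧ Subgroup.IsComplement' K (P : Subgroup G) :=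
      ⟨_, inferInstance, MonoidHom.ker_transferSylow_isComplement' P hPC⟩
    have hcard : Nat.card ↥K = (P : Subgroup G).index := hc.index_eq_card.symm
    by_cases hK1 : Nat.card ↥K = 1
    · have : (P : Subgroup G) = ⊤ := Subgroup.index_eq_one.1 (hcard ▸ hK1)
      exact absurd this hmax.1
    obtain ⟨q, hq, hqK⟩ := Nat.exists_prime_and_dvd hK1
    have := Fact.mk hq
    let Q : Sylow q ↥K := default
    set R := (Q : Subgroup ↥K).map K.subtype with hR
    have hsup : Subgroup.normalizer (R : Set G) ⊔ K = ⊤ := Sylow.normalizer_sup_eq_top Q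
    have h2 : K.relIndex (Subgroup.normalizer (R : Set G)) = K.index := by
      rw [← Subgroup.relIndex_sup_right (H := Subgroup.normalizer (R : Set G)) (K := K), hsup,
        Subgroup.relIndex_top_right]
    have hPN : Nat.card ↥(P : Subgroup G) ∣ Nat.card ↥(Subgroup.normalizer (R : Set G)) := by
      rw [← hc.symm.index_eq_card, ← h2]
      exact Subgroup.relIndex_dvd_card _ _
    have hidx : (Subgroup.normalizer (R : Set G)).index ∣ (P : Subgroup G).index := by
      have h3 := mul_dvd_mul_right hPN (Subgroup.normalizer (R : Set G)).index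
      rw [Subgroup.card_mul_index, ← (P : Subgroup G).card_mul_index] at h3
      exact (mul_dvd_mul_iff_left Nat.card_pos.ne').1 h3
    have hpN : ¬ p ∣ (Subgroup.normalizer (R : Set G)).index := fun h =>
      P.not_dvd_index (h.trans hidx)
    let S : Sylow p ↥(Subgroup.normalizer (R : Set G)) := default
    have hSp : IsPGroup p ↥((S : Subgroup _).map (Subgroup.normalizer (R : Set G)).subtype) := S.isPGroup'.map _
    obtain ⟨P', hP'⟩ := hSp.exists_le_sylow
    have hP'eq : (P' : Subgroup G) = (S : Subgroup _).map (Subgroup.normalizer (R : Set G)).subtype := by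
      refine (Subgroup.eq_of_le_of_card_ge hP' (le_of_eq ?_)).symm
      rw [Subgroup.card_subtype, P'.card_eq_multiplicity, S.card_eq_multiplicity]
      congr 1
      rw [← Subgroup.card_mul_index (Subgroup.normalizer (R : Set G)),
        Nat.factorization_mul Nat.card_pos.ne' Subgroup.index_ne_zero_of_finite]
      simp [Nat.factorization_eq_zero_of_not_dvd hpN]
    have hP'N : (P' : Subgroup G) ≤ Subgroup.normalizer (R : Set G) := hP'eq ▸ Subgroup.map_subtype_le _
    obtain ⟨g, rfl⟩ := MulAction.exists_smul_eq G P P'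
    have hmax' : IsCoatom ((g • P : Sylow p G) : Subgroup G) := by
      rw [Sylow.coe_subgroup_smul]
      exact ((MulAut.conj g).mapSubgroup.isCoatom_iff _).2 hmax
    have hqp : q ≠ p := fun h => P.not_dvd_index (hcard ▸ h ▸ hqK)
    have hRq : Nat.card ↥R = q ^ (Nat.card ↥K).factorization q := by
      rw [hR, Subgroup.card_subtype, Q.card_eq_multiplicity]
    have hRP : ¬ R ≤ ((g • P : Sylow p G) : Subgroup G) := fun h => by
      have h1 := Subgroup.card_dvd_of_le h
      rw [hRq, (g • P : Sylow p G).card_eq_multiplicity] at h1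
      have h2 : q ∣ q ^ (Nat.card ↥K).factorization q :=
        dvd_pow_self q (hq.factorization_pos_of_dvd Nat.card_pos.ne' hqK).ne'
      exact hqp ((Nat.prime_dvd_prime_iff_eq hq Fact.out).1 (hq.dvd_of_dvd_pow (h2.trans h1)))
    have htop : ((g • P : Sylow p G) : Subgroup G) ⊔ R = ⊤ :=
      hmax'.2 _ (lt_of_le_of_ne le_sup_left fun h => hRP (h ▸ le_sup_right))
    have hRn : R.Normal := Subgroup.normalizer_eq_top_iff.1
      (top_le_iff.1 (htop ▸ sup_le hP'N Subgroup.le_normalizer))
    have hRs : Group.IsSolvable ↥R := pgroup_solvable (p := q) (Q.isPGroup'.map _)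
    have : Group.IsSolvable ↥((g • P : Sylow p G) : Subgroup G) :=
      pgroup_solvable (g • P : Sylow p G).isPGroup'
    have hsurj : Function.Surjective ((QuotientGroup.mk' R).comp ((g • P : Sylow p G) : Subgroup G).subtype) := by
      rw [← MonoidHom.range_eq_top, MonoidHom.range_comp, Subgroup.range_subtype]
      refine Subgroup.comap_injective (QuotientGroup.mk'_surjective R) ?_
      rw [Subgroup.comap_map_eq, QuotientGroup.ker_mk', htop, Subgroup.comap_top]
    have : Group.IsSolvable (G ⧸ R) := Group.isSolvable_of_surjective hsurj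
    exact Group.isSolvable_of_ker_le_range R.subtype (QuotientGroup.mk' R)
      (by rw [QuotientGroup.ker_mk', Subgroup.range_subtype])

theorem isPGroup_centralizer {G : Type*} [Group G] [Finite G] (N : Subgroup G)
    (h : ∀ x : G, x ∉ N → IsPrimePow (orderOf x)) (x : G) (hx : x ∉ N) :
    ∃ p, p.Prime ∧ IsPGroup p ↥(Subgroup.centralizer ({x} : Set G)) := by
  obtain ⟨p, k, hp, hk, hpk⟩ := (isPrimePow_nat_iff _).1 (h x hx)
  refine ⟨p, hp, ?_⟩
  rintro ⟨y, hy⟩
  refine ⟨(orderOf y).primeFactorsList.length, Subtype.ext ?_⟩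
  have key : orderOf y = p ^ (orderOf y).primeFactorsList.length := by
    refine Nat.eq_prime_pow_of_unique_prime_dvd (orderOf_pos y).ne' fun {q} hq hqy => ?_
    by_contra hqp
    set z := y ^ (orderOf y / q) with hz
    have hzo : orderOf z = q := orderOf_pow_orderOf_div (orderOf_pos y).ne' hqy
    have hc : Commute x z := (show Commute x y from (Subgroup.mem_centralizer_iff.1 hy) x rfl).pow_right _
    have hco : Nat.Coprime (orderOf x) (orderOf z) := by
      rw [hzo, ← hpk]; exact ((Nat.coprime_primes hp hq).2 (Ne.symm hqp)).pow_left k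
    have hxz : x * z ∈ N := by
      by_contra hn
      obtain ⟨r, l, hr, hl, hrl⟩ := (isPrimePow_nat_iff _).1 (h _ hn)
      rw [hc.orderOf_mul_eq_mul_orderOf_of_coprime hco, hzo, ← hpk] at hrl
      have h1 : p ∣ r ^ l := hrl ▸ (dvd_pow_self p hk.ne').mul_right q
      have h2 : q ∣ r ^ l := hrl ▸ dvd_mul_left q (p ^ k)
      have e1 := (Nat.prime_dvd_prime_iff_eq hp hr).1 (hp.dvd_of_dvd_pow h1)
      have e2 := (Nat.prime_dvd_prime_iff_eq hq hr).1 (hq.dvd_of_dvd_pow h2)
      exact hqp (e2.trans e1.symm)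
    have hxq : x ^ q ∈ N := by
      have h1 := N.pow_mem hxz q
      have h2 : z ^ q = 1 := hzo ▸ pow_orderOf_eq_one z
      rwa [hc.mul_pow, h2, mul_one] at h1
    obtain ⟨m, hm⟩ := exists_pow_eq_self_of_coprime (x := x) (n := q) (hzo ▸ hco.symm)
    exact hx (hm ▸ N.pow_mem hxq m)
  simp [← key, pow_orderOf_eq_one]

theorem sum_inv_sq_odd (M : ℕ) : ∑ i ∈ Finset.range (M + 1), (1 : ℚ) / (2 * (i : ℚ) + 3) ^ 2 ≤
    1 / 9 + 1 / 8 - 1 / (4 * ((M : ℚ) + 2)) := by
  induction M with
  | zero => norm_num
  | succ n ih =>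
    rw [Finset.sum_range_succ]
    have h : (1 : ℚ) / (2 * ((n + 1 : ℕ) : ℚ) + 3) ^ 2 ≤
        1 / (4 * ((n : ℚ) + 2)) - 1 / (4 * ((n : ℚ) + 3)) := by
      rw [div_sub_div _ _ (by positivity) (by positivity), div_le_div_iff₀ (by positivity) (by positivity)]
      push_cast
      nlinarith [(n.cast_nonneg : (0 : ℚ) ≤ n)]
    push_cast at h ⊢
    have e : (n : ℚ) + 1 + 2 = (n : ℚ) + 3 := by ring
    rw [e]
    linarith

theorem sum_inv_sq_primes (s : Finset ℕ) (hs : ∀ p ∈ s, p.Prime) :
    ∑ p ∈ s, (1 : ℚ) / (p : ℚ) ^ 2 < 1 / 2 := by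
  let M := s.sup id
  have hsub : s ⊆ insert 2 ((Finset.range (M + 1)).image fun i => 2 * i + 3) := by
    intro p hp
    rcases (hs p hp).eq_two_or_odd' with h | ⟨i, hi⟩
    · simp [h]
    · refine Finset.mem_insert_of_mem (Finset.mem_image.2 ⟨i - 1, Finset.mem_range.2 ?_, ?_⟩)
      · have : p ≤ M := Finset.le_sup (f := id) hp
        omega
      · have := (hs p hp).two_le
        omega
  calc ∑ p ∈ s, (1 : ℚ) / (p : ℚ) ^ 2
      ≤ ∑ p ∈ (insert 2 ((Finset.range (M + 1)).image fun i => 2 * i + 3) : Finset ℕ), (1 : ℚ) / (p : ℚ) ^ 2 :=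
        Finset.sum_le_sum_of_subset_of_nonneg hsub fun _ _ _ => by positivity
    _ = 1 / 4 + ∑ i ∈ Finset.range (M + 1), (1 : ℚ) / (2 * (i : ℚ) + 3) ^ 2 := by
        rw [Finset.sum_insert (fun h => by
            obtain ⟨a, -, ha⟩ := Finset.mem_image.1 h
            omega),
          Finset.sum_image (fun a _ b _ (h : 2 * a + 3 = 2 * b + 3) => (by omega : a = b))]
        push_cast
        norm_num
    _ < 1 / 2 := by
        have := sum_inv_sq_odd M
        have : (0 : ℚ) < 1 / (4 * ((M : ℚ) + 2)) := by positivity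
        linarith

theorem card_center_mul_sq_le {H : Type*} [Group H] [Finite H] {p : ℕ} [Fact p.Prime] (hH : IsPGroup p H)
    (hna : ¬ IsMulCommutative H) : Nat.card ↥(Subgroup.center H) * p ^ 2 ≤ Nat.card H := by
  rw [← (Subgroup.center H).card_mul_index]
  refine Nat.mul_le_mul_left _ ?_
  obtain ⟨n, hn⟩ := hH.index (Subgroup.center H)
  rw [hn]
  refine Nat.pow_le_pow_right (Fact.out : p.Prime).pos ?_
  by_contra hlt
  apply hna
  have : IsCyclic (H ⧸ Subgroup.center H) :=
    isCyclic_of_card_dvd_prime (p := p) (by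
      rw [show Nat.card (H ⧸ Subgroup.center H) = p ^ n from hn]
      exact (pow_dvd_pow p (by omega : n ≤ 1)).trans (by rw [pow_one]))
  exact isMulCommutative_of_isCyclic_quotient_center_self H

theorem solvable_main {G : Type*} [Group G] [Finite G] (N : Subgroup G) (hN : N ≠ ⊤)
    (h : ∀ x : G, x ∉ N → IsPrimePow (orderOf x) ∧ IsCoatom (Subgroup.centralizer ({x} : Set G))) :
    Group.IsSolvable G := by
  classical
  have _ := Fintype.ofFinite G
  by_contra hns
  have hsyl : ∀ (p : ℕ) [Fact p.Prime] (x : G), x ∉ N → IsPGroup p ↥(Subgroup.centralizer ({x} : Set G)) →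
      ∃ P : Sylow p G, (P : Subgroup G) = Subgroup.centralizer ({x} : Set G) := by
    intro p _ x hx hp
    obtain ⟨P, hP⟩ := hp.exists_le_sylow
    rcases (h x hx).2.le_iff.1 hP with he | he
    · have : IsPGroup p G := ((he ▸ P.isPGroup' : IsPGroup p ↥(⊤ : Subgroup G))).of_equiv Subgroup.topEquiv
      exact absurd (pgroup_solvable this) hns
    · exact ⟨P, he⟩
  let T : ℕ → Finset G := fun p => Finset.univ.filter fun x => x ∉ N ∧
    IsPGroup p ↥(Subgroup.centralizer ({x} : Set G))
  have hT : ∀ p ∈ (Nat.card G).primeFactors, ((T p).card : ℚ) ≤ (Nat.card G : ℚ) * (1 / (p : ℚ) ^ 2) := by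
    intro p hpm
    have hp := Nat.prime_of_mem_primeFactors hpm
    have := Fact.mk hp
    rw [mul_one_div, le_div_iff₀ (by have := hp.pos; positivity)]
    have key : (T p).card * p ^ 2 ≤ Nat.card G := by
      let U : Finset (Sylow p G) :=
        (Finset.univ : Finset (Sylow p G)).filter fun P => ¬ IsMulCommutative ↥(P : Subgroup G)
      let W : Sylow p G → Finset G := fun P =>
        (Finset.univ : Finset ↥(Subgroup.center ↥(P : Subgroup G))).image fun z => (z.1 : G)
      have hsub : T p ⊆ U.biUnion W := by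
        intro x hx
        obtain ⟨-, hxN, hxp⟩ := Finset.mem_filter.1 hx
        obtain ⟨P, hP⟩ := hsyl p x hxN hxp
        have hxP : x ∈ (P : Subgroup G) := hP ▸ Subgroup.mem_centralizer_iff.2 (by simp)
        refine Finset.mem_biUnion.2 ⟨P, Finset.mem_filter.2 ⟨Finset.mem_univ _, fun hc => hns ?_⟩, ?_⟩
        · exact solvable_of_abelian_maximal_sylow P hc (hP ▸ (h x hxN).2)
        · refine Finset.mem_image.2 ⟨⟨⟨x, hxP⟩, Subgroup.mem_center_iff.2 fun g => Subtype.ext ?_⟩,
            Finset.mem_univ _, rfl⟩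
          exact ((Subgroup.mem_centralizer_iff.1 (hP ▸ g.2 : (g : G) ∈ Subgroup.centralizer ({x} : Set G))) x rfl).symm
      let P₀ : Sylow p G := default
      calc (T p).card * p ^ 2 ≤ (∑ P ∈ U, (W P).card) * p ^ 2 :=
            Nat.mul_le_mul_right _ ((Finset.card_le_card hsub).trans Finset.card_biUnion_le)
        _ = ∑ P ∈ U, (W P).card * p ^ 2 := Finset.sum_mul _ _ _
        _ ≤ ∑ P ∈ U, Nat.card ↥(P₀ : Subgroup G) := by
            refine Finset.sum_le_sum fun P hP => ?_
            have h1 : (W P).card ≤ Nat.card ↥(Subgroup.center ↥(P : Subgroup G)) :=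
              Finset.card_image_le.trans (by rw [Finset.card_univ, Nat.card_eq_fintype_card])
            refine (Nat.mul_le_mul_right _ h1).trans ((card_center_mul_sq_le P.isPGroup'
              (Finset.mem_filter.1 hP).2).trans (le_of_eq ?_))
            rw [P.card_eq_multiplicity, P₀.card_eq_multiplicity]
        _ = U.card * Nat.card ↥(P₀ : Subgroup G) := by rw [Finset.sum_const, smul_eq_mul]
        _ ≤ Nat.card (Sylow p G) * Nat.card ↥(Subgroup.normalizer ((P₀ : Subgroup G) : Set G)) := by
            refine Nat.mul_le_mul ?_ (Nat.le_of_dvd Nat.card_pos (Subgroup.card_dvd_of_le Subgroup.le_normalizer))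
            rw [Nat.card_eq_fintype_card]; exact Finset.card_le_univ _
        _ = Nat.card G := by
            rw [P₀.card_eq_index_normalizer, Sylow.coe_coe]; exact Subgroup.index_mul_card _
    exact_mod_cast key
  have hcover : (Finset.univ.filter fun x : G => x ∉ N) ⊆ (Nat.card G).primeFactors.biUnion T := by
    intro x hx
    have hxN := (Finset.mem_filter.1 hx).2
    obtain ⟨p, hp, hpx⟩ := isPGroup_centralizer N (fun y hy => (h y hy).1) x hxN
    have := Fact.mk hp
    have hx1 : x ≠ 1 := fun h1 => hxN (h1 ▸ N.one_mem)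
    have hdvd : p ∣ Nat.card G := by
      have h2 : Nontrivial ↥(Subgroup.centralizer ({x} : Set G)) :=
        ⟨⟨⟨x, Subgroup.mem_centralizer_iff.2 (by simp)⟩, 1, fun h3 => hx1 (congrArg Subtype.val h3)⟩⟩
      obtain ⟨n, hn, hc⟩ := hpx.nontrivial_iff_card.1 h2
      exact (dvd_pow_self p hn.ne').trans (hc ▸ Subgroup.card_subgroup_dvd_card _)
    exact Finset.mem_biUnion.2 ⟨p, Nat.mem_primeFactors.2 ⟨hp, hdvd, Nat.card_pos.ne'⟩,
      Finset.mem_filter.2 ⟨Finset.mem_univ _, hxN, hpx⟩⟩
  have h1 : 2 * (Finset.univ.filter fun x : G => x ∈ N).card ≤ Nat.card G := by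
    have e : (Finset.univ.filter fun x : G => x ∈ N).card = Nat.card ↥N := by
      rw [Nat.card_eq_fintype_card, Fintype.card_subtype]
    rw [e, ← N.index_mul_card]
    exact Nat.mul_le_mul_right _ (Subgroup.one_lt_index_of_ne_top hN)
  have h2 := Finset.card_filter_add_card_filter_not (s := (Finset.univ : Finset G)) (fun x => x ∈ N)
  rw [Finset.card_univ, ← Nat.card_eq_fintype_card] at h2
  have h3 : (((Finset.univ.filter fun x : G => x ∉ N).card : ℕ) : ℚ) ≤
      ∑ p ∈ (Nat.card G).primeFactors, (Nat.card G : ℚ) * (1 / (p : ℚ) ^ 2) := by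
    refine le_trans ?_ (Finset.sum_le_sum hT)
    exact_mod_cast (Finset.card_le_card hcover).trans Finset.card_biUnion_le
  rw [← Finset.mul_sum] at h3
  have h4 := sum_inv_sq_primes _ (fun p hp => Nat.prime_of_mem_primeFactors (n := Nat.card G) hp)
  have h5 : (0 : ℚ) < Nat.card G := by exact_mod_cast Nat.card_pos
  have h6 : (Nat.card G : ℚ) ≤ 2 * ((Finset.univ.filter fun x : G => x ∉ N).card : ℚ) := by
    exact_mod_cast (by omega : Nat.card G ≤ 2 * (Finset.univ.filter fun x : G => x ∉ N).card)
  nlinarith [mul_lt_mul_of_pos_left h4 h5]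


/-- Let N be a proper normal subgroup of the finite group G such that every element x of G outside N has prime power order and has centralizer C_G(x) a maximal subgroup of G. Then N is solvable. -/
theorem result {G : Type*} [Group G] [Finite G] (N : Subgroup G) [N.Normal] (hN : N ≠ ⊤)
    (h : ∀ x : G, x ∉ N → IsPrimePow (orderOf x) ∧ IsCoatom (Subgroup.centralizer ({x} : Set G))) : Group.IsSolvable ↥N := by
  have := solvable_main N hN h
  infer_instance

end Cfsg.Agent.S3903
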