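import Cfsg.Statements.S3933
import Cfsg.Agent.S0144
import Cfsg.Agent.S3903
-- import your own Cfsg.Agent.* helpers here

set_option autoImplicit false
open Cfsg

namespace Cfsg.Agent.S3933

theorem exists_sylow_le {G : Type*} [Group G] [Finite G] {p : ℕ} [Fact p.Prime] (H : Subgroup G)
    (hH : ¬ p ∣ H.index) : ∃ P : Sylow p G, (P : Subgroup G) ≤ H := by
  let S : Sylow p ↥H := default
  have hS : IsPGroup p ↥((S : Subgroup ↥H).map H.subtype) := S.isPGroup'.map _
  refine ⟨hS.toSylow ?_, Subgroup.map_subtype_le _⟩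
  rw [Subgroup.index_map_subtype]
  exact fun hd => ((Fact.out : p.Prime).dvd_mul.1 hd).elim S.not_dvd_index hH

theorem exists_mul_of_coprime_index {G : Type*} [Group G] [Finite G] (N S : Subgroup G)
    (hco : N.index.Coprime S.index) (g : G) : ∃ n ∈ N, ∃ s ∈ S, g = n * s := by
  have h1 : N.index * S.index ∣ (N ⊓ S).index :=
    hco.mul_dvd_of_dvd_of_dvd (Subgroup.index_dvd_of_le inf_le_left) (Subgroup.index_dvd_of_le inf_le_right)
  have h2 : (N ⊓ S).index = N.index * S.index :=
    le_antisymm Subgroup.index_inf_le (Nat.le_of_dvd (Nat.pos_of_ne_zero Subgroup.index_ne_zero_of_finite) h1)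
  have h3 : N.relIndex S = N.index := by
    have h4 := Subgroup.relIndex_mul_index (inf_le_right : N ⊓ S ≤ S)
    rw [Subgroup.inf_relIndex_right, h2] at h4
    exact Nat.eq_of_mul_eq_mul_right (Nat.pos_of_ne_zero Subgroup.index_ne_zero_of_finite) h4
  let x₀ : G ⧸ N := QuotientGroup.mk 1
  have hst : MulAction.stabilizer ↥S x₀ = N.subgroupOf S := by
    ext s
    rw [MulAction.mem_stabilizer_iff, Subgroup.mem_subgroupOf]
    show (QuotientGroup.mk ((s : G) * 1) : G ⧸ N) = QuotientGroup.mk 1 ↔ _
    rw [mul_one, QuotientGroup.eq, mul_one, inv_mem_iff]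
  have horb : MulAction.orbit ↥S x₀ = Set.univ := by
    refine Set.eq_univ_of_univ_subset ?_
    refine (Set.eq_of_subset_of_ncard_le (Set.subset_univ _) ?_ (Set.toFinite _)).ge
    rw [← MulAction.index_stabilizer, hst, Set.ncard_univ, ← Subgroup.index_eq_card]
    exact h3.ge
  have hmem : (QuotientGroup.mk g⁻¹ : G ⧸ N) ∈ MulAction.orbit ↥S x₀ := by rw [horb]; trivial
  obtain ⟨s, hs⟩ := hmem
  have hs' : (QuotientGroup.mk ((s : G) * 1) : G ⧸ N) = QuotientGroup.mk g⁻¹ := hs
  rw [mul_one, QuotientGroup.eq] at hs'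
  refine ⟨g * (s : G), ?_, (s : G)⁻¹, S.inv_mem s.2, by group⟩
  have := N.inv_mem hs'
  simpa using this

theorem card_sylow_normal_dvd {G : Type*} [Group G] [Finite G] {r : ℕ} [Fact r.Prime] (N : Subgroup G)
    [N.Normal] : Nat.card (Sylow r ↥N) ∣ Nat.card (Sylow r G) := by
  let Q : Sylow r ↥N := default
  set R := (Q : Subgroup ↥N).map N.subtype with hR
  obtain ⟨P, hP⟩ := (Q.isPGroup'.map N.subtype).exists_le_sylow
  have hQ' : (P : Subgroup G).subgroupOf N = Q :=
    Q.3 P.isPGroup'.comap_subtype fun x hx => hP (Subgroup.mem_map_of_mem _ hx)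
  have hRPN : R = (P : Subgroup G) ⊓ N := by
    rw [hR, ← hQ', Subgroup.subgroupOf_map_subtype]
  have hle : Subgroup.normalizer ((P : Subgroup G) : Set G) ≤ Subgroup.normalizer (R : Set G) := by
    intro x hx
    rw [Subgroup.mem_normalizer_iff] at hx ⊢
    intro y
    rw [hRPN, Subgroup.mem_inf, Subgroup.mem_inf, ← hx y,
      (inferInstance : N.Normal).mem_comm_iff, ← mul_assoc, inv_mul_cancel, one_mul]
  have hsup : Subgroup.normalizer (R : Set G) ⊔ N = ⊤ := Sylow.normalizer_sup_eq_top Q
  have h1 : (Subgroup.normalizer (R : Set G)).index = (Subgroup.normalizer (R : Set G)).relIndex N := by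
    have a := Subgroup.relIndex_inf_mul_relIndex (H := Subgroup.normalizer (R : Set G)) (K := N) (L := ⊤)
    simp only [inf_top_eq, Subgroup.relIndex_top_right] at a
    have b := Subgroup.relIndex_inf_mul_relIndex (H := N) (K := Subgroup.normalizer (R : Set G)) (L := ⊤)
    simp only [inf_top_eq, Subgroup.relIndex_top_right] at b
    have c : N.relIndex (Subgroup.normalizer (R : Set G)) = N.index := by
      rw [← Subgroup.relIndex_sup_right (H := Subgroup.normalizer (R : Set G)) (K := N), hsup,
        Subgroup.relIndex_top_right]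
    rw [c, inf_comm N] at b
    rw [← a, mul_comm N.index] at b
    exact Nat.eq_of_mul_eq_mul_right (Nat.pos_of_ne_zero Subgroup.index_ne_zero_of_finite) b
  have h2 : Subgroup.normalizer ((Q : Subgroup ↥N) : Set ↥N) = (Subgroup.normalizer (R : Set G)).subgroupOf N := by
    ext x
    simp only [Subgroup.mem_subgroupOf, Subgroup.mem_normalizer_iff, hR, Subgroup.mem_map]
    constructor
    · intro hx y
      constructor
      · rintro ⟨z, hz, rfl⟩; exact ⟨_, (hx z).1 hz, rfl⟩
      · rintro ⟨z, hz, hzy⟩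
        refine ⟨x⁻¹ * z * x, (hx _).2 (by simpa [mul_assoc] using hz), ?_⟩
        show (x : G)⁻¹ * (z : G) * (x : G) = y
        rw [show (z : G) = (x : G) * y * (x : G)⁻¹ from hzy]; group
    · intro hx z
      constructor
      · intro hz
        obtain ⟨w, hw, e⟩ := (hx z).1 ⟨z, hz, rfl⟩
        rwa [show w = x * z * x⁻¹ from Subtype.ext e] at hw
      · intro hz
        obtain ⟨w, hw, e⟩ := (hx (z : G)).2 ⟨_, hz, rfl⟩
        rwa [show w = z from Subtype.ext e] at hw
  rw [Q.card_eq_index_normalizer, P.card_eq_index_normalizer]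
  erw [h2]
  show (Subgroup.normalizer (R : Set G)).relIndex N ∣ _
  rw [← h1]
  exact Subgroup.index_dvd_of_le hle

theorem card_sylow_quotient_dvd {G : Type*} [Group G] [Finite G] {r : ℕ} [Fact r.Prime] (N : Subgroup G)
    [N.Normal] : Nat.card (Sylow r (G ⧸ N)) ∣ Nat.card (Sylow r G) := by
  let P : Sylow r G := default
  let Q := P.mapSurjective (QuotientGroup.mk'_surjective N)
  rw [Q.card_eq_index_normalizer, P.card_eq_index_normalizer]
  refine (Subgroup.index_dvd_of_le ?_).trans
    (Subgroup.index_map_dvd (Subgroup.normalizer ((P : Subgroup G) : Set G)) (QuotientGroup.mk'_surjective N))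
  exact Subgroup.le_normalizer_map _

theorem one_or_primePow_of_dvd {m n : ℕ} (hmn : m ∣ n) (hn : n = 1 ∨ IsPrimePow n) : m = 1 ∨ IsPrimePow m := by
  rcases hn with h | h
  · exact Or.inl (Nat.dvd_one.1 (h ▸ hmn))
  · exact or_iff_not_imp_left.2 fun hm => h.dvd hmn hm

theorem not_simple {G : Type*} [Group G] [Finite G] [IsSimpleGroup G] (hns : ¬ Group.IsSolvable G)
    (h : ∀ (r : ℕ) [Fact r.Prime], Nat.card (Sylow r G) = 1 ∨ IsPrimePow (Nat.card (Sylow r G))) : False := by
  classical
  have hf : ∀ r ∈ (Nat.card G).primeFactors, ∃ s, s ∈ (Nat.card G).primeFactors ∧ s ≠ r ∧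
      ∀ _ : Fact r.Prime, ∃ a, Nat.card (Sylow r G) = s ^ a := by
    intro r hr
    have hrp := Nat.prime_of_mem_primeFactors hr
    have := Fact.mk hrp
    let P : Sylow r G := default
    rcases h r with h1 | h1
    · have hP : (P : Subgroup G).Normal := by
        have : Subsingleton (Sylow r G) := (Nat.card_eq_one_iff_unique.1 h1).1
        exact Sylow.normal_of_subsingleton P
      rcases hP.eq_bot_or_eq_top with h2 | h2
      · exact absurd h2 (Sylow.ne_bot_of_dvd_card P (Nat.dvd_of_mem_primeFactors hr))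
      · exact absurd (Cfsg.Agent.S3903.pgroup_solvable
          ((h2 ▸ P.isPGroup' : IsPGroup r ↥(⊤ : Subgroup G)).of_equiv Subgroup.topEquiv)) hns
    · obtain ⟨s, a, hs, ha, he⟩ := (isPrimePow_nat_iff _).1 h1
      have hsd : s ∣ Nat.card (Sylow r G) := he ▸ dvd_pow_self s ha.ne'
      refine ⟨s, Nat.mem_primeFactors.2 ⟨hs, hsd.trans ?_, Nat.card_pos.ne'⟩, ?_, fun _ => ⟨a, he.symm⟩⟩
      · rw [P.card_eq_index_normalizer]; exact Subgroup.index_dvd_card _
      · rintro rfl
        exact not_dvd_card_sylow s G hsd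
  choose! f hfm hfne hfe using hf
  -- three primes
  have h3 : ∀ a b : ℕ, ∃ t ∈ (Nat.card G).primeFactors, t ≠ a ∧ t ≠ b := by
    intro a b
    by_contra hall
    push Not at hall
    have hsub : (Nat.card G).primeFactors ⊆ {a, b} := fun t ht => by
      rw [Finset.mem_insert, Finset.mem_singleton]; exact or_iff_not_imp_left.2 (hall t ht)
    apply hns
    have hcard : (Nat.card G).primeFactors.card ≤ 2 := (Finset.card_le_card hsub).trans Finset.card_le_two
    by_cases h1 : ∀ t ∈ (Nat.card G).primeFactors, ∀ u ∈ (Nat.card G).primeFactors, t = u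
    · rcases (Nat.card G).primeFactors.eq_empty_or_nonempty with h0 | ⟨t, ht⟩
      · rcases Nat.primeFactors_eq_empty.1 h0 with h | h
        · exact absurd h Nat.card_pos.ne'
        · have := (Nat.card_eq_one_iff_unique.1 h).1
          infer_instance
      · have := h1 t ht (f t) (hfm t ht)
        exact absurd this.symm (hfne t ht)
    · push Not at h1
      obtain ⟨t, ht, u, hu, htu⟩ := h1
      have hs2 : (Nat.card G).primeFactors = {t, u} := by
        refine (Finset.eq_of_subset_of_card_le ?_ ?_).symm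
        · intro x hx
          rcases Finset.mem_insert.1 hx with rfl | hx
          · exact ht
          · rw [Finset.mem_singleton.1 hx]; exact hu
        · rwa [Finset.card_pair htu]
      refine Cfsg.Agent.S0144.result t u ((Nat.card G).factorization t) ((Nat.card G).factorization u)
        (Nat.prime_of_mem_primeFactors ht) (Nat.prime_of_mem_primeFactors hu) ?_
      conv_lhs => rw [← Nat.prod_factorization_pow_eq_self (Nat.card_pos (α := G)).ne']
      rw [Finsupp.prod, Nat.support_factorization, hs2, Finset.prod_pair htu]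
  -- choose r and t
  obtain ⟨r, hr, t, ht, htr, hts, hfts⟩ : ∃ r ∈ (Nat.card G).primeFactors, ∃ t ∈ (Nat.card G).primeFactors,
      t ≠ r ∧ t ≠ f r ∧ f t ≠ f r := by
    obtain ⟨r, hr, -, -⟩ := h3 0 0
    by_cases hA : ∃ t ∈ (Nat.card G).primeFactors, t ≠ r ∧ t ≠ f r ∧ f t ≠ f r
    · obtain ⟨t, ht, hh⟩ := hA
      exact ⟨r, hr, t, ht, hh⟩
    push Not at hA
    obtain ⟨t, ht, ht1, ht2⟩ := h3 (f r) (f (f r))
    refine ⟨f r, hfm r hr, t, ht, ht1, ht2, ?_⟩
    by_cases htr : t = r
    · subst htr
      exact fun e => hfne (f t) (hfm t hr) e.symm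
    · rw [hA t ht htr ht1]
      exact fun e => hfne (f r) (hfm r hr) e.symm
  have := Fact.mk (Nat.prime_of_mem_primeFactors hr)
  have := Fact.mk (Nat.prime_of_mem_primeFactors ht)
  have := Fact.mk (Nat.prime_of_mem_primeFactors (hfm r hr))
  obtain ⟨a, ha⟩ := hfe r hr inferInstance
  obtain ⟨b, hb⟩ := hfe t ht inferInstance
  let T : Sylow t G := default
  set NT := Subgroup.normalizer ((T : Subgroup G) : Set G) with hNT
  have hsT : ¬ f r ∣ NT.index := by
    intro hd
    erw [← T.card_eq_index_normalizer] at hd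
    rw [hb] at hd
    exact hfts ((Nat.prime_dvd_prime_iff_eq (Nat.prime_of_mem_primeFactors (hfm r hr))
      (Nat.prime_of_mem_primeFactors (hfm t ht))).1
        ((Nat.prime_of_mem_primeFactors (hfm r hr)).dvd_of_dvd_pow hd)).symm
  obtain ⟨S, hS⟩ := exists_sylow_le NT hsT
  let R₀ : Sylow r G := default
  have htR : ¬ t ∣ (Subgroup.normalizer ((R₀ : Subgroup G) : Set G)).index := by
    intro hd
    erw [← R₀.card_eq_index_normalizer] at hd
    rw [ha] at hd
    exact hts ((Nat.prime_dvd_prime_iff_eq (Nat.prime_of_mem_primeFactors ht)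
      (Nat.prime_of_mem_primeFactors (hfm r hr))).1 ((Nat.prime_of_mem_primeFactors ht).dvd_of_dvd_pow hd))
  obtain ⟨T', hT'⟩ := exists_sylow_le _ htR
  obtain ⟨g, rfl⟩ := MulAction.exists_smul_eq G T T'
  let R : Sylow r G := g⁻¹ • R₀
  set NR := Subgroup.normalizer ((R : Subgroup G) : Set G) with hNR
  have hTR : (T : Subgroup G) ≤ NR := by
    intro x hx
    have h1 : g * x * g⁻¹ ∈ Subgroup.normalizer ((R₀ : Subgroup G) : Set G) := by
      refine hT' ?_
      rw [Sylow.coe_subgroup_smul]
      exact Subgroup.smul_mem_pointwise_smul x (MulAut.conj g) _ hx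
    rw [hNR, Subgroup.mem_normalizer_iff]
    intro y
    have e : ∀ w, w ∈ (R : Subgroup G) ↔ g * w * g⁻¹ ∈ (R₀ : Subgroup G) := fun w => by
      show w ∈ ((g⁻¹ • R₀ : Sylow r G) : Subgroup G) ↔ _
      rw [Sylow.coe_subgroup_smul, Subgroup.mem_pointwise_smul_iff_inv_smul_mem]
      simp [MulAut.conj_apply]
    rw [e, e, Subgroup.mem_normalizer_iff.1 h1 (g * y * g⁻¹)]
    simp [mul_assoc]
  have hco : NR.index.Coprime (S : Subgroup G).index := by
    erw [← R.card_eq_index_normalizer]
    rw [ha]
    exact Nat.Coprime.pow_left a ((Nat.prime_of_mem_primeFactors (hfm r hr)).coprime_iff_not_dvd.2 S.not_dvd_index)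
  have hcore : (T : Subgroup G) ≤ NR.normalCore := by
    intro x hx g'
    obtain ⟨n, hn, s, hs, rfl⟩ := exists_mul_of_coprime_index NR (S : Subgroup G) hco g'
    rw [show n * s * x * (n * s)⁻¹ = n * (s * x * s⁻¹) * n⁻¹ by group]
    exact NR.mul_mem (NR.mul_mem hn (hTR ((Subgroup.mem_normalizer_iff.1 (hS hs) x).1 hx))) (NR.inv_mem hn)
  rcases (Subgroup.normalCore_normal NR).eq_bot_or_eq_top with h1 | h1
  · exact Sylow.ne_bot_of_dvd_card T (Nat.dvd_of_mem_primeFactors ht) (le_bot_iff.1 (h1 ▸ hcore))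
  · have h2 : NR = ⊤ := top_le_iff.1 (h1 ▸ NR.normalCore_le)
    have h3 : Nat.card (Sylow r G) = 1 := by
      rw [R.card_eq_index_normalizer]
      erw [← hNR]
      rw [h2, Subgroup.index_top]
    rcases a with _ | a
    · have : Subsingleton (Sylow r G) := (Nat.card_eq_one_iff_unique.1 h3).1
      have hn : (R : Subgroup G).Normal := Sylow.normal_of_subsingleton R
      rcases hn.eq_bot_or_eq_top with h4 | h4
      · exact Sylow.ne_bot_of_dvd_card R (Nat.dvd_of_mem_primeFactors hr) h4
      · exact hns (Cfsg.Agent.S3903.pgroup_solvable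
          ((h4 ▸ R.isPGroup' : IsPGroup r ↥(⊤ : Subgroup G)).of_equiv Subgroup.topEquiv))
    · rw [ha] at h3
      exact (Nat.one_lt_pow (by omega) (Nat.prime_of_mem_primeFactors (hfm r hr)).one_lt).ne' h3

theorem main.{u} : ∀ (n : ℕ) (G : Type u) [Group G] [Finite G], Nat.card G ≤ n →
    (∀ (r : ℕ) [Fact r.Prime], Nat.card (Sylow r G) = 1 ∨ IsPrimePow (Nat.card (Sylow r G))) →
    Group.IsSolvable G := by
  intro n
  induction n with
  | zero => intro G _ _ hn; have := Nat.card_pos (α := G); omega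
  | succ n ih =>
    intro G _ _ hn h
    rcases subsingleton_or_nontrivial G with hs | hs
    · infer_instance
    by_cases hsimp : IsSimpleGroup G
    · by_contra hns; exact not_simple hns h
    obtain ⟨N, hN, hN1, hN2⟩ : ∃ N : Subgroup G, N.Normal ∧ N ≠ ⊥ ∧ N ≠ ⊤ := by
      by_contra hall
      push Not at hall
      exact hsimp ⟨fun H hH => or_iff_not_imp_left.2 (hall H hH)⟩
    have h1 : Group.IsSolvable ↥N := by
      refine ih ↥N ?_ fun r _ => one_or_primePow_of_dvd (card_sylow_normal_dvd N) (h r)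
      have : Nat.card ↥N < Nat.card G := lt_of_le_of_ne N.card_le_card_group fun e =>
        hN2 (Subgroup.eq_top_of_card_eq _ e)
      omega
    have h2 : Group.IsSolvable (G ⧸ N) := by
      refine ih (G ⧸ N) ?_ fun r _ => one_or_primePow_of_dvd (card_sylow_quotient_dvd N) (h r)
      have h3 := N.card_mul_index
      have h4 : 1 < Nat.card ↥N := Finite.one_lt_card_iff_nontrivial.2 ((Subgroup.nontrivial_iff_ne_bot N).2 hN1)
      have h5 : 0 < N.index := Nat.pos_of_ne_zero Subgroup.index_ne_zero_of_finite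
      show N.index ≤ n
      nlinarith
    exact Group.isSolvable_of_ker_le_range N.subtype (QuotientGroup.mk' N)
      (by rw [QuotientGroup.ker_mk', Subgroup.range_subtype])


/-- If for every prime r the number of Sylow r-subgroups of the finite group G is a prime power or 1, then G is solvable. -/
theorem result {G : Type*} [Group G] [Finite G] (h : ∀ (r : ℕ) [Fact r.Prime], Nat.card (Sylow r G) = 1 ∨ IsPrimePow (Nat.card (Sylow r G))) :
    Group.IsSolvable G := by
  exact main _ G le_rfl h

end Cfsg.Agent.S3933
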