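import Cfsg.Statements.S1009

set_option autoImplicit false
open Cfsg

namespace Cfsg.Agent.S1009

/-- Brodkey's Theorem: if a finite group has abelian Sylow p-subgroups, then there are two Sylow p-subgroups whose intersection equals the intersection of all Sylow p-subgroups. -/
theorem result {G : Type*} [Group G] [Finite G] (p : ℕ) [Fact p.Prime] (hab : ∀ P : Sylow p G, IsMulCommutative ↥(P : Subgroup G)) : ∃ P Q : Sylow p G, (P : Subgroup G) ⊓ (Q : Subgroup G) = ⨅ R : Sylow p G, (R : Subgroup G) := by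
  classical
  have := Fintype.ofFinite (Sylow p G)
  obtain ⟨⟨P, Q⟩, -, hmin⟩ := Finset.exists_min_image (Finset.univ : Finset (Sylow p G × Sylow p G))
    (fun x => Nat.card ↥((x.1 : Subgroup G) ⊓ (x.2 : Subgroup G))) Finset.univ_nonempty
  refine ⟨P, Q, le_antisymm (le_iInf fun R => ?_) (le_inf (iInf_le _ P) (iInf_le _ Q))⟩
  set D := (P : Subgroup G) ⊓ (Q : Subgroup G)
  set C := Subgroup.centralizer (D : Set G)
  have hle : ∀ S : Sylow p G, D ≤ (S : Subgroup G) → (S : Subgroup G) ≤ C := fun S hS s hs =>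
    Subgroup.mem_centralizer_iff.mpr fun d hd =>
      congrArg Subtype.val ((hab S).1.comm (⟨d, hS hd⟩ : (S : Subgroup G)) ⟨s, hs⟩)
  have hPC := hle P inf_le_left
  have hQC := hle Q inf_le_right
  obtain ⟨S, hS⟩ := (R.2.comap_of_injective C.subtype C.subtype_injective).exists_le_sylow
  obtain ⟨c, hc⟩ := MulAction.exists_smul_eq C (P.subtype hPC) S
  have hcd : ∀ d ∈ D, (c : G) * d * (c : G)⁻¹ = d := fun d hd => by
    rw [← Subgroup.mem_centralizer_iff.mp c.2 d hd, mul_inv_cancel_right]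
  have hsub : (R : Subgroup G) ⊓ (((c : G) • Q : Sylow p G) : Subgroup G) ≤ D := by
    rintro x ⟨hxR, hxQ⟩
    rw [Sylow.coe_subgroup_smul] at hxQ
    obtain ⟨y, hy, rfl⟩ := hxQ
    have hxC : (MulAut.conj (c : G)) y ∈ C := mul_mem (mul_mem c.2 (hQC hy)) (inv_mem c.2)
    have h1 : (⟨_, hxC⟩ : C) ∈ (S : Subgroup C) := hS (Subgroup.mem_comap.mpr hxR)
    rw [← hc, Sylow.coe_subgroup_smul] at h1
    obtain ⟨u, hu, hue⟩ := h1
    have hue' : (c : G) * (u : G) * (c : G)⁻¹ = (c : G) * y * (c : G)⁻¹ := congrArg Subtype.val hue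
    rw [mul_left_inj, mul_right_inj] at hue'
    have hyP : y ∈ (P : Subgroup G) := hue' ▸ Subgroup.mem_subgroupOf.mp hu
    have hyD : y ∈ D := ⟨hyP, hy⟩
    show (c : G) * y * (c : G)⁻¹ ∈ D
    rw [hcd y hyD]; exact hyD
  have heq := Subgroup.eq_of_le_of_card_ge hsub (hmin (R, (c : G) • Q) (Finset.mem_univ _))
  exact heq.ge.trans inf_le_left

end Cfsg.Agent.S1009
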