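import Cfsg.Statements.S4343
import Cfsg.Agent.S1009

set_option linter.style.haveILetI false

set_option autoImplicit false
open Cfsg

namespace Cfsg.Agent.S4343

theorem index_p_inf {S : Type*} [Group S] [Finite S] (p : ℕ) [Fact p.Prime]
    (hn : Nat.card (Sylow p S) < p ^ 2) (P Q : Sylow p S) (hne : Q ≠ P) :
    ((P : Subgroup S) ⊓ (Q : Subgroup S)).relIndex (P : Subgroup S) = p := by
  have hp : p.Prime := Fact.out
  have hstab : MulAction.stabilizer (P : Subgroup S) Q =
      ((P : Subgroup S) ⊓ (Q : Subgroup S)).subgroupOf (P : Subgroup S) := by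
    ext x
    rw [MulAction.mem_stabilizer_iff, Subgroup.mem_subgroupOf, ← IsPGroup.inf_normalizer_sylow P.2 Q]
    rw [Subgroup.smul_def, Sylow.smul_eq_iff_mem_normalizer, Subgroup.mem_inf]
    simp
  have hidx : (MulAction.stabilizer (P : Subgroup S) Q).index =
      ((P : Subgroup S) ⊓ (Q : Subgroup S)).relIndex (P : Subgroup S) := by
    rw [hstab]; rfl
  obtain ⟨k, hk⟩ := (P.2).index (MulAction.stabilizer (P : Subgroup S) Q)
  have hP : P ∉ MulAction.orbit (P : Subgroup S) Q := by
    rintro ⟨x, hx⟩
    apply hne
    have hx' : (x : S) • Q = P := hx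
    have h1 : Q = (x : S)⁻¹ • P := eq_inv_smul_iff.mpr hx'
    rw [h1]
    exact Sylow.smul_eq_iff_mem_normalizer.mpr
      (Subgroup.le_normalizer ((P : Subgroup S).inv_mem x.2))
  have hlt : (MulAction.stabilizer (P : Subgroup S) Q).index < Nat.card (Sylow p S) := by
    rw [MulAction.index_stabilizer, ← Set.ncard_univ]
    exact Set.ncard_lt_ncard (Set.ssubset_univ_iff.mpr (fun h => hP (h ▸ Set.mem_univ _)))
  have hk2 : k < 2 := by
    by_contra h
    push Not at h
    have : p ^ 2 ≤ p ^ k := Nat.pow_le_pow_right hp.pos h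
    omega
  rcases Nat.lt_or_ge k 1 with h0 | h1
  · exfalso
    have hk0 : k = 0 := by omega
    subst hk0
    rw [pow_zero, hidx, Subgroup.relIndex_eq_one] at hk
    apply hne
    apply Sylow.ext
    exact P.3 Q.2 (hk.trans inf_le_right)
  · have : k = 1 := by omega
    subst this
    rw [pow_one, hidx] at hk
    exact hk

/-- Let S be a finite non-abelian simple group and p a prime dividing its order. If S has fewer than p² Sylow p-subgroups, then its Sylow p-subgroups have order p. -/
theorem result {S : Type*} [Group S] [Finite S]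
    [IsSimpleGroup S] (hS : ¬ IsMulCommutative S) (p : ℕ) [Fact p.Prime] (hp : p ∣ Nat.card S)
    (hn : Nat.card (Sylow p S) < p ^ 2) (P : Sylow p S) : Nat.card P = p := by
  classical
  have hpp : p.Prime := Fact.out
  have hbot : (⨅ R : Sylow p S, (R : Subgroup S)) = ⊥ := by
    have hnor : (⨅ R : Sylow p S, (R : Subgroup S)).Normal := by
      constructor
      intro x hx g
      rw [Subgroup.mem_iInf] at hx ⊢
      intro R
      have := hx (g⁻¹ • R)
      rw [Sylow.coe_subgroup_smul, Subgroup.mem_pointwise_smul_iff_inv_smul_mem] at this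
      simpa using this
    rcases hnor.eq_bot_or_eq_top with h | h
    · exact h
    · exfalso
      have hPtop : (P : Subgroup S) = ⊤ := top_le_iff.mp (h ▸ iInf_le _ P)
      have hpg : IsPGroup p S := by
        have := P.2
        rw [hPtop] at this
        exact this.of_equiv Subgroup.topEquiv
      haveI : Nontrivial S := IsSimpleGroup.toNontrivial
      have hc : Subgroup.center S = ⊤ := by
        rcases (inferInstance : (Subgroup.center S).Normal).eq_bot_or_eq_top with h | h
        · haveI := hpg.center_nontrivial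
          exact absurd h ((Subgroup.nontrivial_iff_ne_bot _).mp inferInstance)
        · exact h
      refine hS ⟨⟨fun a b => ?_⟩⟩
      exact (Subgroup.mem_center_iff.mp (hc ▸ Subgroup.mem_top b) a)
  have hab : ∀ T : Sylow p S, IsMulCommutative ↥(T : Subgroup S) := by
    intro T
    refine ⟨⟨fun a b => ?_⟩⟩
    have key : ∀ R : Sylow p S, (a : S) * b * (a : S)⁻¹ * (b : S)⁻¹ ∈ (R : Subgroup S) := by
      intro R
      rcases eq_or_ne R T with rfl | hne
      · exact mul_mem (mul_mem (mul_mem a.2 b.2) (inv_mem a.2)) (inv_mem b.2)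
      · have hrel := index_p_inf p hn T R hne
        let K : Subgroup (T : Subgroup S) :=
          ((T : Subgroup S) ⊓ (R : Subgroup S)).subgroupOf (T : Subgroup S)
        have hK : K.index = p := hrel
        haveI hKn : K.Normal := by
          apply Subgroup.normal_of_index_eq_minFac_card
          rw [hK]
          obtain ⟨m, hm⟩ := T.2.exists_card_eq
          rw [hm, Nat.pow_minFac]
          · exact hpp.minFac_eq.symm
          · intro h0
            subst h0
            have := K.index_dvd_card
            rw [hm, hK, pow_zero, Nat.dvd_one] at this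
            exact hpp.ne_one this
        haveI : IsCyclic ((T : Subgroup S) ⧸ K) := isCyclic_of_prime_card (p := p)
          (by rw [← Subgroup.index_eq_card, hK])
        letI := IsCyclic.commGroup (α := (T : Subgroup S) ⧸ K)
        have h1 : a * b * a⁻¹ * b⁻¹ ∈ K := by
          rw [← QuotientGroup.eq_one_iff, QuotientGroup.mk_mul, QuotientGroup.mk_mul,
            QuotientGroup.mk_mul, QuotientGroup.mk_inv, QuotientGroup.mk_inv,
            mul_comm (a : (T : Subgroup S) ⧸ K) b]
          group
        exact (Subgroup.mem_inf.mp (Subgroup.mem_subgroupOf.mp h1)).2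
    have h1 : (a : S) * b * (a : S)⁻¹ * (b : S)⁻¹ ∈ (⊥ : Subgroup S) := by
      rw [← hbot, Subgroup.mem_iInf]; exact key
    rw [Subgroup.mem_bot, mul_inv_eq_one, mul_inv_eq_iff_eq_mul] at h1
    exact Subtype.ext h1
  obtain ⟨P', Q', hPQ⟩ := Cfsg.Agent.S1009.result p hab
  rw [hbot] at hPQ
  rcases eq_or_ne Q' P' with rfl | hne
  · rw [inf_idem] at hPQ
    exact absurd hPQ (Sylow.ne_bot_of_dvd_card Q' hp)
  · have := index_p_inf p hn P' Q' hne
    rw [hPQ, Subgroup.relIndex_bot_left] at this
    rw [Nat.card_congr (P.equiv P').toEquiv]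
    exact this

end Cfsg.Agent.S4343
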