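import Cfsg.Statements.S5148
import Cfsg.Agent.Lib.FusionSys.Abelian
import Cfsg.Agent.Lib.FusionSys.CenterFactor
import Cfsg.Agent.Lib.FusionSys.FactorSat
import Cfsg.Agent.Lib.FusionSys.Tate
import Cfsg.Agent.Lib.FusionSys.QdFree

set_option autoImplicit false
open Cfsg

namespace Cfsg.Agent.S5148

/-- A quasisimple fusion system over a finite p-group S (saturated, equal to its p-residual subsystem, with simple — in particular nontrivial — factor system modulo its centre) has S nonabelian. -/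
theorem result {Ω : Type*} [Group Ω] {S : Subgroup Ω} [Finite S] (p : ℕ) [Fact p.Prime] (hS : IsPGroup p S) (F : Cfsg.FusionSystem S) (hq : F.Quasisimple p) : ¬ IsMulCommutative S := by
  intro hcomm
  obtain ⟨hF, hhyp, hsimp⟩ := hq
  have hab : ∀ x ∈ S, ∀ y ∈ S, x * y = y * x := fun x hx y hy =>
    congrArg Subtype.val (hcomm.1.comm ⟨x, hx⟩ ⟨y, hy⟩)
  have hZ := Lib.FusionSys.isCentral_center F
  have hZs : F.StronglyClosed F.center := by
    refine ⟨hZ.1, fun R hR φ hφ x => ?_⟩
    rw [show φ x = (x : Ω) from ((Lib.FusionSys.mem_center_iff' hS hF).1 (hR x.2)).2 R φ hφ x.2]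
    exact hR x.2
  set N := (F.center).subgroupOf S with hN
  set θ : ↥S →* ↥S ⧸ N := QuotientGroup.mk' N with hθ
  have hker : ∀ s : ↥S, θ s = 1 ↔ (s : Ω) ∈ F.center := fun s => QuotientGroup.eq_one_iff s
  have hrange : θ.range = ⊤ := MonoidHom.range_eq_top.2 (QuotientGroup.mk'_surjective _)
  obtain ⟨E, hE⟩ := Lib.FusionSys.exists_factorSystem (F := F) (T := F.center)
    (S' := (⊤ : Subgroup (↥S ⧸ N))) hZs (θ := θ) hker hrange
  obtain ⟨hEs, hne, hnorm⟩ := hsimp E hE
  have hS' : IsPGroup p (⊤ : Subgroup (↥S ⧸ N)) := (hS.to_quotient _).to_subgroup ⊤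
  have hab' : ∀ x ∈ (⊤ : Subgroup (↥S ⧸ N)), ∀ y ∈ (⊤ : Subgroup (↥S ⧸ N)), x * y = y * x := by
    intro x _ y _
    obtain ⟨a, rfl⟩ := QuotientGroup.mk'_surjective N x
    obtain ⟨b, rfl⟩ := QuotientGroup.mk'_surjective N y
    rw [← map_mul, ← map_mul, hcomm.1.comm a b]
  have hinner : ∀ P, (Cfsg.innerFusionSystem (⊤ : Subgroup (↥S ⧸ N))).Hom P = E.Hom P := by
    refine ((hnorm _ _ (Lib.FusionSys.isNormalIn_inner hS' hEs
      (Lib.FusionSys.stronglyClosed_top E) fun P hP φ hφ => ?_)).resolve_left hne).2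
    obtain ⟨α, hα, h⟩ := Lib.FusionSys.exists_aut_of_abelian hS' hEs hab' P φ hφ
    exact ⟨α, hα, h⟩
  have htriv : ∀ α ∈ F.autGroup S, α = 1 := by
    intro α hα
    have hfix : ∀ x : ↥S, (x : Ω) ∈ F.center → α x = x := fun x hx => Subtype.ext
      (((Lib.FusionSys.mem_center_iff' hS hF).1 hx).2 S _
        ((Lib.FusionSys.mem_autGroup le_rfl).1 hα) x.2)
    have hmod : ∀ x : ↥S, (x : Ω)⁻¹ * (α x : Ω) ∈ F.center := by
      intro x
      obtain ⟨hm, -, -⟩ := Lib.FusionSys.isSurjectiveMorphism_of_isFactorSystem hS hF hZs hE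
      obtain ⟨φ', hφ', hind⟩ := hm.2 S _ ((Lib.FusionSys.mem_autGroup le_rfl).1 hα)
      rw [← hinner] at hφ'
      obtain ⟨-, g, -, hg⟩ := hφ'
      have hxim : θ x ∈ Cfsg.FusionSystem.imageAlong θ S :=
        Lib.FusionSys.mem_imageAlong.2 ⟨x, x.2, x.2, rfl⟩
      have h1 := Lib.FusionSys.inducedAlong_apply hind (x := x) (hxS := x.2) (y := ⟨θ x, hxim⟩) rfl
        (hx' := (α x).2)
      rw [hg, hab' g trivial _ trivial, mul_inv_cancel_right] at h1
      refine (hker (x⁻¹ * α x)).1 ?_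
      rw [map_mul, map_inv, inv_mul_eq_one]
      exact h1
    obtain ⟨e, he⟩ := IsPGroup.iff_card.mp hS
    have h3 := Lib.FusionSys.pow_eq_one_of_stabilizes (P := S) (α := α)
      (D := fun i => if i = 0 then ⊥ else if i = 1 then F.center else S) (n := 2) rfl rfl ?_ ?_
    · have h4 : orderOf α ∣ p ^ (e * 2) := orderOf_dvd_of_pow_eq_one (by rwa [he, ← pow_mul] at h3)
      haveI : Finite (MulAut ↥S) := Finite.of_injective (fun a : MulAut ↥S => (a : ↥S → ↥S))
        DFunLike.coe_injective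
      have h5 : orderOf α ∣ Nat.card (F.autGroup S) := by
        rw [show orderOf α = orderOf (⟨α, hα⟩ : F.autGroup S) from (Subgroup.orderOf_mk α hα).symm]
        exact orderOf_dvd_natCard _
      obtain ⟨j, -, hj⟩ := (Nat.dvd_prime_pow Fact.out).1 h4
      rcases j with _ | j
      · exact orderOf_eq_one_iff.1 (by simpa using hj)
      · exact absurd ((dvd_pow_self p (Nat.succ_ne_zero j)).trans (hj ▸ h5))
          (Lib.FusionSys.not_dvd_card_autGroup_of_abelian hS hF hab)
    · intro i _ x hx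
      match i with
      | 0 =>
        have : x = 1 := Subtype.ext (Subgroup.mem_bot.1 hx)
        simp [this]
      | 1 => simpa [hfix x hx] using hx
      | j + 2 => exact (α x).2
    · intro i hi x hx
      match i with
      | 0 => simp [hfix x (by simpa using hx)]
      | 1 => exact hmod x
      | j + 2 => omega
  have hS1 : S = ⊥ := by
    have hFi : F = Cfsg.innerFusionSystem S := Lib.FusionSys.fusionSystem_ext
      (Lib.FusionSys.hom_eq_inner_of_abelian hS hF hab htriv)
    rw [hFi, Lib.FusionSys.hyperfocal_inner hS] at hhyp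
    exact hhyp.symm
  apply hne
  rw [eq_bot_iff]
  intro x _
  obtain ⟨a, rfl⟩ := QuotientGroup.mk'_surjective N x
  rw [Subgroup.mem_bot]
  refine (hker a).2 ?_
  rw [show (a : Ω) = 1 from Subgroup.mem_bot.1 (hS1.le a.2)]
  exact one_mem _

end Cfsg.Agent.S5148
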