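import Cfsg.Statements.S5162
import Cfsg.Agent.Lib.FusionSys.SplitComponent
import Cfsg.Agent.Lib.FusionSys.Product

set_option autoImplicit false
open Cfsg

namespace Cfsg.Agent.S5162

open Cfsg.Lib.FusionSys Cfsg.FusionSystem

/-- A central product is split along its factors, and the factors are the restrictions. -/
theorem split_of_centralProduct {Ω : Type*} [Group Ω] {S S₁ S₂ : Subgroup Ω} [Finite S]
    {F : Cfsg.FusionSystem S} {F₁ : Cfsg.FusionSystem S₁} {F₂ : Cfsg.FusionSystem S₂}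
    (hc : Cfsg.FusionSystem.IsCentralProductOf F₁ F₂ F) :
    ∃ h : IsSplit F S₁ S₂, fullOn F S₁ h.left.1 = F₁ ∧ fullOn F S₂ h.right.1 = F₂ := by
  obtain ⟨D₀, hD₀, Z, θ, hZc, -, -, hθ₁, hθ₂, hfs⟩ := hc
  obtain ⟨hZle, hker, hrange, hiff⟩ := hfs
  have hθ : ∀ (a b : Ω) (hab : ((a, b) : Ω × Ω) ∈ S₁.prod S₂), θ ⟨(a, b), hab⟩ = a * b := by
    intro a b hab
    have ha : ((a, 1) : Ω × Ω) ∈ S₁.prod S₂ := ⟨hab.1, S₂.one_mem⟩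
    have hb : ((1, b) : Ω × Ω) ∈ S₁.prod S₂ := ⟨S₁.one_mem, hab.2⟩
    rw [show (⟨(a, b), hab⟩ : S₁.prod S₂) = ⟨(a, 1), ha⟩ * ⟨(1, b), hb⟩ from
      Subtype.ext (Prod.ext (mul_one a).symm (one_mul b).symm), map_mul, hθ₁ a ha, hθ₂ b hb]
  have h1S : S₁ ≤ S := fun x hx => hrange.le ⟨⟨(x, 1), hx, S₂.one_mem⟩, hθ₁ x _⟩
  have h2S : S₂ ≤ S := fun x hx => hrange.le ⟨⟨(1, x), S₁.one_mem, hx⟩, hθ₂ x _⟩
  haveI := finite_of_le h1S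
  haveI := finite_of_le h2S
  haveI : Finite ↥(S₁.prod S₂) := Finite.of_equiv _ (Subgroup.prodEquiv S₁ S₂).symm.toEquiv
  have hcomm : ∀ a ∈ S₁, ∀ b ∈ S₂, a * b = b * a := fun a ha b hb => by
    have ha' : ((a, 1) : Ω × Ω) ∈ S₁.prod S₂ := ⟨ha, S₂.one_mem⟩
    have hb' : ((1, b) : Ω × Ω) ∈ S₁.prod S₂ := ⟨S₁.one_mem, hb⟩
    rw [← hθ₁ a ha', ← hθ₂ b hb', ← map_mul, ← map_mul]
    exact congrArg θ (Subtype.ext (by simp))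
  have hzfix : ∀ {R : Subgroup (Ω × Ω)} {ψ : R →* Ω × Ω}, ψ ∈ D₀.Hom R →
      ∀ (z : Ω × Ω) (hz : z ∈ R), z ∈ Z → ψ ⟨z, hz⟩ = z := by
    intro R ψ hψ z hz hzZ
    obtain ⟨χ, -, hχe, hχf⟩ := (isCentral_center D₀).2 R ψ hψ
    exact (hχe ⟨z, hz⟩).symm.trans (hχf ⟨z, hZc hzZ⟩)
  have hZs : D₀.StronglyClosed Z := ⟨hZle, fun R hR ψ hψ x => by
    rw [show ψ x = (x : Ω × Ω) from hzfix hψ x x.2 (hR x.2)]; exact hR x.2⟩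
  -- the projections of a preimage
  have hpre : ∀ {P : Subgroup Ω} {w : Ω × Ω}, w ∈ preimageAlong θ P ↔
      ∃ _ : w ∈ S₁.prod S₂, w.1 * w.2 ∈ P := by
    intro P w
    rw [mem_preimageAlong]
    exact ⟨fun ⟨hw, h⟩ => ⟨hw, hθ w.1 w.2 hw ▸ h⟩, fun ⟨hw, h⟩ => ⟨hw, (hθ w.1 w.2 hw).symm ▸ h⟩⟩
  have hp1 : ∀ {P : Subgroup Ω}, proj₁ (preimageAlong θ P) ≤ pr S₁ S₂ P := by
    rintro P _ ⟨w, hw, rfl⟩
    obtain ⟨hwS, hwP⟩ := hpre.1 hw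
    refine ⟨hwS.1, ?_⟩
    show w.1 ∈ P ⊔ S₂
    rw [show w.1 = w.1 * w.2 * w.2⁻¹ by group]
    exact mul_mem (Subgroup.mem_sup_left hwP) (Subgroup.mem_sup_right (inv_mem hwS.2))
  have hp2 : ∀ {P : Subgroup Ω}, proj₂ (preimageAlong θ P) ≤ pr S₂ S₁ P := by
    rintro P _ ⟨w, hw, rfl⟩
    obtain ⟨hwS, hwP⟩ := hpre.1 hw
    refine ⟨hwS.2, ?_⟩
    show w.2 ∈ P ⊔ S₁
    rw [show w.2 = w.1⁻¹ * (w.1 * w.2) by group]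
    exact mul_mem (Subgroup.mem_sup_right (inv_mem hwS.1)) (Subgroup.mem_sup_left hwP)
  have hsup : S₁ ⊔ S₂ = S := le_antisymm (sup_le h1S h2S) fun x hx => by
    obtain ⟨⟨⟨a, b⟩, hab⟩, rfl⟩ := hrange.ge hx
    rw [hθ a b hab]
    exact mul_mem (Subgroup.mem_sup_left hab.1) (Subgroup.mem_sup_right hab.2)
  have hq1 : ∀ {P : Subgroup Ω}, P ≤ S → pr S₁ S₂ P ≤ proj₁ (preimageAlong θ P) := by
    intro P hP a ha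
    obtain ⟨x, hx, b, hb, rfl⟩ := exists_mul_pr hcomm (hP.trans hsup.ge) ha.2
    exact ⟨(x * b, b⁻¹), hpre.2 ⟨⟨ha.1, S₂.inv_mem hb⟩,
      show x * b * b⁻¹ ∈ P by rwa [mul_inv_cancel_right]⟩, rfl⟩
  have hq2 : ∀ {P : Subgroup Ω}, P ≤ S → pr S₂ S₁ P ≤ proj₂ (preimageAlong θ P) := by
    intro P hP a ha
    obtain ⟨x, hx, b, hb, rfl⟩ := exists_mul_pr (fun b hb c hc => (hcomm c hc b hb).symm)
      (hP.trans (sup_comm S₁ S₂ ▸ hsup.ge)) ha.2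
    refine ⟨(b⁻¹, x * b), hpre.2 ⟨⟨S₁.inv_mem hb, ha.1⟩, ?_⟩, rfl⟩
    show b⁻¹ * (x * b) ∈ P
    rw [hcomm _ (inv_mem hb) _ ha.1, mul_inv_cancel_right]
    exact hx
  -- the maps of the product
  have build : ∀ {P Q : Subgroup Ω} {φ : P →* Ω}, φ ∈ F.Hom P → Q ≤ S →
      proj₁ (preimageAlong θ Q) ≤ pr S₁ S₂ P → ∀ {φ₂ : proj₂ (preimageAlong θ Q) →* Ω},
      φ₂ ∈ F₂.Hom (proj₂ (preimageAlong θ Q)) → ∃ φ₁ ∈ F₁.Hom (proj₁ (preimageAlong θ P)),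
      ∃ φ₂' ∈ F₂.Hom (proj₂ (preimageAlong θ P)), ∃ χ ∈ F.Hom Q,
        (∀ (a b : Ω) (_ : a ∈ S₁) (_ : b ∈ S₂) (hP' : a * b ∈ P) (h₁ : a ∈ proj₁ (preimageAlong θ P))
          (h₂ : b ∈ proj₂ (preimageAlong θ P)), φ ⟨a * b, hP'⟩ = φ₁ ⟨a, h₁⟩ * φ₂' ⟨b, h₂⟩) ∧
        ∀ (a b : Ω) (_ : a ∈ S₁) (_ : b ∈ S₂) (hQ' : a * b ∈ Q) (h₁ : a ∈ proj₁ (preimageAlong θ P))
          (h₂ : b ∈ proj₂ (preimageAlong θ Q)), χ ⟨a * b, hQ'⟩ = φ₁ ⟨a, h₁⟩ * φ₂ ⟨b, h₂⟩ := by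
    intro P Q φ hφ hQ hle φ₂ hφ₂
    obtain ⟨hPS, ψ₀, hψ₀, hind⟩ := (hiff P φ).1 hφ
    obtain ⟨-, φ₁, hφ₁, φ₂', hφ₂', he⟩ := (hD₀ _ _).1 hψ₀
    have hr := hle.trans (hq1 hPS)
    have hψ : prodHom (preimageAlong θ Q) (φ₁.comp (Subgroup.inclusion hr)) φ₂ ∈
        D₀.Hom (preimageAlong θ Q) :=
      (hD₀ _ _).2 ⟨preimageAlong_le, _, restrict_mem hφ₁ hr, _, hφ₂, isProdHom_prodHom _ _ _⟩
    obtain ⟨χ, hχ⟩ := exists_induced hZs hker hrange hQ hψ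
    refine ⟨φ₁, hφ₁, φ₂', hφ₂', χ, (hiff Q χ).2 ⟨hQ, _, hψ, hχ⟩, ?_, ?_⟩
    · intro a b ha hb hP' h₁ h₂
      have hw : ((a, b) : Ω × Ω) ∈ preimageAlong θ P := hpre.2 ⟨⟨ha, hb⟩, hP'⟩
      rw [inducedAlong_apply hind (x := ⟨(a, b), hw⟩) (hxS := ⟨ha, hb⟩) (y := ⟨a * b, hP'⟩)
        (hθ a b _).symm (hx' := hom_mem hψ₀ _), ← hθ _ _ ⟨hom_mem hφ₁ ⟨a, h₁⟩, hom_mem hφ₂' ⟨b, h₂⟩⟩]
      exact congrArg θ (Subtype.ext (he ⟨(a, b), hw⟩ h₁ h₂))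
    · intro a b ha hb hQ' h₁ h₂
      have hw : ((a, b) : Ω × Ω) ∈ preimageAlong θ Q := hpre.2 ⟨⟨ha, hb⟩, hQ'⟩
      rw [inducedAlong_apply hχ (x := ⟨(a, b), hw⟩) (hxS := ⟨ha, hb⟩) (y := ⟨a * b, hQ'⟩)
        (hθ a b _).symm (hx' := hom_mem hψ _), ← hθ _ _ ⟨hom_mem hφ₁ ⟨a, h₁⟩, hom_mem hφ₂ ⟨b, h₂⟩⟩]
      exact congrArg θ (Subtype.ext rfl)
  have hleft : ∀ {P : Subgroup Ω}, P ≤ S₁ → ∀ {φ : P →* Ω}, φ ∈ F.Hom P →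
      ∃ φ₁ ∈ F₁.Hom (proj₁ (preimageAlong θ P)), ∃ hle : P ≤ proj₁ (preimageAlong θ P),
        ∀ x : P, φ x = φ₁ (Subgroup.inclusion hle x) := by
    intro P hP φ hφ
    obtain ⟨hPS, ψ₀, hψ₀, hind⟩ := (hiff P φ).1 hφ
    obtain ⟨-, φ₁, hφ₁, φ₂, hφ₂, he⟩ := (hD₀ _ _).1 hψ₀
    have hw : ∀ x : P, (((x : Ω), 1) : Ω × Ω) ∈ preimageAlong θ P := fun x =>
      hpre.2 ⟨⟨hP x.2, S₂.one_mem⟩, show (x : Ω) * 1 ∈ P by rw [mul_one]; exact x.2⟩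
    refine ⟨φ₁, hφ₁, fun x hx => ⟨_, hw ⟨x, hx⟩, rfl⟩, fun x => ?_⟩
    rw [inducedAlong_apply hind (x := ⟨_, hw x⟩) (hxS := ⟨hP x.2, S₂.one_mem⟩) (y := x)
      (hθ₁ _ _).symm (hx' := hom_mem hψ₀ _)]
    have h2 : φ₂ ⟨1, Subgroup.one_mem _⟩ = 1 := map_one φ₂
    refine Eq.trans (congrArg θ (Subtype.ext (he ⟨_, hw x⟩ ⟨_, hw x, rfl⟩ (Subgroup.one_mem _)) : _ =
      (⟨(φ₁ ⟨(x : Ω), ⟨_, hw x, rfl⟩⟩, φ₂ ⟨1, Subgroup.one_mem _⟩), hom_mem hφ₁ _, hom_mem hφ₂ _⟩ :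
        S₁.prod S₂))) ?_
    exact (hθ _ _ ⟨hom_mem hφ₁ _, hom_mem hφ₂ _⟩).trans ((congrArg (_ * ·) h2).trans (mul_one _))
  have hright : ∀ {P : Subgroup Ω}, P ≤ S₂ → ∀ {φ : P →* Ω}, φ ∈ F.Hom P →
      ∃ φ₂ ∈ F₂.Hom (proj₂ (preimageAlong θ P)), ∃ hle : P ≤ proj₂ (preimageAlong θ P),
        ∀ x : P, φ x = φ₂ (Subgroup.inclusion hle x) := by
    intro P hP φ hφ
    obtain ⟨hPS, ψ₀, hψ₀, hind⟩ := (hiff P φ).1 hφ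
    obtain ⟨-, φ₁, hφ₁, φ₂, hφ₂, he⟩ := (hD₀ _ _).1 hψ₀
    have hw : ∀ x : P, ((1, (x : Ω)) : Ω × Ω) ∈ preimageAlong θ P := fun x =>
      hpre.2 ⟨⟨S₁.one_mem, hP x.2⟩, show 1 * (x : Ω) ∈ P by rw [one_mul]; exact x.2⟩
    refine ⟨φ₂, hφ₂, fun x hx => ⟨_, hw ⟨x, hx⟩, rfl⟩, fun x => ?_⟩
    rw [inducedAlong_apply hind (x := ⟨_, hw x⟩) (hxS := ⟨S₁.one_mem, hP x.2⟩) (y := x)
      (hθ₂ _ _).symm (hx' := hom_mem hψ₀ _)]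
    have h1 : φ₁ ⟨1, Subgroup.one_mem _⟩ = 1 := map_one φ₁
    refine Eq.trans (congrArg θ (Subtype.ext (he ⟨_, hw x⟩ (Subgroup.one_mem _) ⟨_, hw x, rfl⟩) : _ =
      (⟨(φ₁ ⟨1, Subgroup.one_mem _⟩, φ₂ ⟨(x : Ω), ⟨_, hw x, rfl⟩⟩), hom_mem hφ₁ _, hom_mem hφ₂ _⟩ :
        S₁.prod S₂))) ?_
    exact (hθ _ _ ⟨hom_mem hφ₁ _, hom_mem hφ₂ _⟩).trans ((congrArg (· * _) h1).trans (one_mul _))
  -- maps of a factor are maps of the product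
  have hin : ∀ {P : Subgroup Ω} {φ : P →* Ω}, (φ ∈ F₁.Hom P ∨ φ ∈ F₂.Hom P) → φ ∈ F.Hom P := by
    intro P φ hor
    have hex : ∃ (R : Subgroup (Ω × Ω)) (ψ : R →* Ω × Ω), ψ ∈ D₀.Hom R ∧ P ≤ S ∧
        (∀ w ∈ R, w ∈ S₁.prod S₂) ∧
        (∀ w ∈ preimageAlong θ P, ∃ r ∈ R, w * r⁻¹ ∈ Z ∨ r⁻¹ * w ∈ Z) ∧
        ∀ (w : Ω × Ω) (hw : w ∈ R) (hP' : w.1 * w.2 ∈ P),
          (ψ ⟨w, hw⟩).1 * (ψ ⟨w, hw⟩).2 = φ ⟨w.1 * w.2, hP'⟩ := by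
      have hzero : ∀ (c : Ω) (h₁ : c ∈ S₁) (h₂ : c ∈ S₂), ((c⁻¹, c) : Ω × Ω) ∈ Z := fun c h₁ h₂ =>
        (hker ⟨(c⁻¹, c), S₁.inv_mem h₁, h₂⟩).1 ((hθ _ _ ⟨S₁.inv_mem h₁, h₂⟩).trans (inv_mul_cancel c))
      rcases hor with h | h
      · have hP := hom_le h
        have hp : proj₁ (P.prod (⊥ : Subgroup Ω)) ≤ P := by rintro _ ⟨x, hx, rfl⟩; exact hx.1
        have hp' : proj₂ (P.prod (⊥ : Subgroup Ω)) ≤ S₂ := by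
          rintro _ ⟨x, hx, rfl⟩
          show x.2 ∈ S₂
          rw [Subgroup.mem_bot.1 hx.2]; exact S₂.one_mem
        refine ⟨P.prod ⊥, prodHom _ (φ.comp (Subgroup.inclusion hp)) (Subgroup.subtype _),
          (hD₀ _ _).2 ⟨fun w hw => ⟨hP hw.1, hp' ⟨w, hw, rfl⟩⟩, _, restrict_mem h hp, _,
            subtype_mem F₂ hp', isProdHom_prodHom _ _ _⟩, hP.trans h1S,
          fun w hw => ⟨hP hw.1, hp' ⟨w, hw, rfl⟩⟩, ?_, ?_⟩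
        · intro w hw
          obtain ⟨hwS, hwP⟩ := hpre.1 hw
          have hb : w.2 ∈ S₁ := by
            have := S₁.mul_mem (S₁.inv_mem hwS.1) (hP hwP)
            rwa [inv_mul_cancel_left] at this
          refine ⟨(w.1 * w.2, 1), ⟨hwP, Subgroup.mem_bot.2 rfl⟩, Or.inr ?_⟩
          rw [show (w.1 * w.2, (1 : Ω))⁻¹ * w = (w.2⁻¹, w.2) from Prod.ext (by simp) (by simp)]
          exact hzero w.2 hb hwS.2
        · intro w hw hP'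
          show φ ⟨w.1, _⟩ * w.2 = _
          have h2 : w.2 = 1 := Subgroup.mem_bot.1 hw.2
          conv_lhs => arg 2; rw [h2]
          rw [mul_one]
          exact congrArg φ (Subtype.ext ((congrArg (w.1 * ·) h2).trans (mul_one _)).symm)
      · have hP := hom_le h
        have hp : proj₂ ((⊥ : Subgroup Ω).prod P) ≤ P := by rintro _ ⟨x, hx, rfl⟩; exact hx.2
        have hp' : proj₁ ((⊥ : Subgroup Ω).prod P) ≤ S₁ := by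
          rintro _ ⟨x, hx, rfl⟩
          show x.1 ∈ S₁
          rw [Subgroup.mem_bot.1 hx.1]; exact S₁.one_mem
        refine ⟨Subgroup.prod ⊥ P, prodHom _ (Subgroup.subtype _) (φ.comp (Subgroup.inclusion hp)),
          (hD₀ _ _).2 ⟨fun w hw => ⟨hp' ⟨w, hw, rfl⟩, hP hw.2⟩, _, subtype_mem F₁ hp', _,
            restrict_mem h hp, isProdHom_prodHom _ _ _⟩, hP.trans h2S,
          fun w hw => ⟨hp' ⟨w, hw, rfl⟩, hP hw.2⟩, ?_, ?_⟩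
        · intro w hw
          obtain ⟨hwS, hwP⟩ := hpre.1 hw
          have hb : w.1 ∈ S₂ := by
            have := S₂.mul_mem (hP hwP) (S₂.inv_mem hwS.2)
            rwa [mul_inv_cancel_right] at this
          refine ⟨(1, w.1 * w.2), ⟨Subgroup.mem_bot.2 rfl, hwP⟩, Or.inl ?_⟩
          rw [show w * ((1 : Ω), w.1 * w.2)⁻¹ = ((w.1⁻¹)⁻¹, w.1⁻¹) from
            Prod.ext (by simp) (by simp [← mul_assoc])]
          exact hzero w.1⁻¹ (inv_mem hwS.1) (inv_mem hb)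
        · intro w hw hP'
          show w.1 * φ ⟨w.2, _⟩ = _
          have h1 : w.1 = 1 := Subgroup.mem_bot.1 hw.1
          conv_lhs => arg 1; rw [h1]
          rw [one_mul]
          exact congrArg φ (Subtype.ext ((congrArg (· * w.2) h1).trans (one_mul _)).symm)
    obtain ⟨R, ψ, hψ, hPS, hRS, hcov, hval⟩ := hex
    obtain ⟨χ, hχ, hχe, hχf⟩ := (isCentral_center D₀).2 R ψ hψ
    have hle : preimageAlong θ P ≤ R ⊔ D₀.center := fun w hw => by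
      obtain ⟨r, hr, hz | hz⟩ := hcov w hw
      · rw [show w = w * r⁻¹ * r by group]
        exact mul_mem (Subgroup.mem_sup_right (hZc hz)) (Subgroup.mem_sup_left hr)
      · rw [show w = r * (r⁻¹ * w) by group]
        exact mul_mem (Subgroup.mem_sup_left hr) (Subgroup.mem_sup_right (hZc hz))
    have hχ' := restrict_mem hχ hle
    refine (hiff P φ).2 ⟨hPS, _, hχ', preimageAlong_le, hom_mem hχ',
      fun w => (mem_preimageAlong.1 w.2).2, fun w => ?_⟩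
    obtain ⟨r, hr, hz⟩ := hcov w w.2
    have hrS := hRS r hr
    have key : θ ⟨(w : Ω × Ω), preimageAlong_le w.2⟩ = θ ⟨r, hrS⟩ ∧
        θ ⟨χ ⟨(w : Ω × Ω), hle w.2⟩, hom_mem hχ _⟩ = θ ⟨ψ ⟨r, hr⟩, hom_mem hψ _⟩ := by
      rcases hz with hz | hz
      · have hz0 : θ ⟨(w : Ω × Ω) * r⁻¹, hZle hz⟩ = 1 := (hker _).2 hz
        constructor
        · rw [show (⟨(w : Ω × Ω), preimageAlong_le w.2⟩ : S₁.prod S₂) =
            ⟨(w : Ω × Ω) * r⁻¹, hZle hz⟩ * ⟨r, hrS⟩ from Subtype.ext (inv_mul_cancel_right _ _).symm,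
            map_mul, hz0, one_mul]
        · have hfz : χ ⟨(w : Ω × Ω) * r⁻¹, Subgroup.mem_sup_right (hZc hz)⟩ = (w : Ω × Ω) * r⁻¹ :=
            hχf ⟨_, hZc hz⟩
          rw [show (⟨χ ⟨(w : Ω × Ω), hle w.2⟩, hom_mem hχ _⟩ : S₁.prod S₂) =
            ⟨(w : Ω × Ω) * r⁻¹, hZle hz⟩ * ⟨ψ ⟨r, hr⟩, hom_mem hψ _⟩ from Subtype.ext (by
              show χ ⟨(w : Ω × Ω), hle w.2⟩ = (w : Ω × Ω) * r⁻¹ * ψ ⟨r, hr⟩
              rw [← hfz, ← hχe, ← map_mul]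
              exact congrArg χ (Subtype.ext (inv_mul_cancel_right _ _).symm)), map_mul, hz0, one_mul]
      · have hz0 : θ ⟨r⁻¹ * (w : Ω × Ω), hZle hz⟩ = 1 := (hker _).2 hz
        constructor
        · rw [show (⟨(w : Ω × Ω), preimageAlong_le w.2⟩ : S₁.prod S₂) =
            ⟨r, hrS⟩ * ⟨r⁻¹ * (w : Ω × Ω), hZle hz⟩ from Subtype.ext (mul_inv_cancel_left _ _).symm,
            map_mul, hz0, mul_one]
        · have hfz : χ ⟨r⁻¹ * (w : Ω × Ω), Subgroup.mem_sup_right (hZc hz)⟩ = r⁻¹ * (w : Ω × Ω) :=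
            hχf ⟨_, hZc hz⟩
          rw [show (⟨χ ⟨(w : Ω × Ω), hle w.2⟩, hom_mem hχ _⟩ : S₁.prod S₂) =
            ⟨ψ ⟨r, hr⟩, hom_mem hψ _⟩ * ⟨r⁻¹ * (w : Ω × Ω), hZle hz⟩ from Subtype.ext (by
              show χ ⟨(w : Ω × Ω), hle w.2⟩ = ψ ⟨r, hr⟩ * (r⁻¹ * (w : Ω × Ω))
              rw [← hfz, ← hχe, ← map_mul]
              exact congrArg χ (Subtype.ext (mul_inv_cancel_left _ _).symm)), map_mul, hz0, mul_one]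
    refine Eq.trans ?_ key.2.symm
    have hrP : r.1 * r.2 ∈ P := by
      rw [← hθ r.1 r.2 hrS]
      exact key.1 ▸ (mem_preimageAlong.1 w.2).2
    refine Eq.trans ?_ ((hθ _ _ (hom_mem hψ ⟨r, hr⟩)).trans (hval r hr hrP)).symm
    exact congrArg φ (Subtype.ext (key.1.trans (hθ r.1 r.2 hrS)))
  have hle1 : ∀ {P : Subgroup Ω} {φ : P →* Ω}, φ ∈ F.Hom P → P ≤ S₁ → φ ∈ F₁.Hom P := by
    intro P φ hφ hP
    obtain ⟨φ₁, hφ₁, hle, he⟩ := hleft hP hφ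
    exact hom_congr (restrict_mem hφ₁ hle) fun x => he x
  have hle2 : ∀ {P : Subgroup Ω} {φ : P →* Ω}, φ ∈ F.Hom P → P ≤ S₂ → φ ∈ F₂.Hom P := by
    intro P φ hφ hP
    obtain ⟨φ₁, hφ₁, hle, he⟩ := hright hP hφ
    exact hom_congr (restrict_mem hφ₁ hle) fun x => he x
  have hext : ∀ {P : Subgroup Ω} {φ : P →* Ω}, φ ∈ F.Hom P →
      ∃ ψ ∈ F.Hom (pr S₁ S₂ P ⊔ pr S₂ S₁ P), ∀ (x : Ω) (hx : x ∈ P)
        (hx' : x ∈ pr S₁ S₂ P ⊔ pr S₂ S₁ P), ψ ⟨x, hx'⟩ = φ ⟨x, hx⟩ := by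
    intro P φ hφ
    obtain ⟨hPS, ψ₀, hψ₀, hind⟩ := (hiff P φ).1 hφ
    obtain ⟨-, φ₁, hφ₁, φ₂, hφ₂, he⟩ := (hD₀ _ _).1 hψ₀
    have hQ : pr S₁ S₂ P ⊔ pr S₂ S₁ P ≤ S := sup_le (inf_le_left.trans h1S) (inf_le_left.trans h2S)
    have hl : proj₁ (preimageAlong θ (pr S₁ S₂ P ⊔ pr S₂ S₁ P)) ≤ pr S₁ S₂ P := hp1.trans
      (inf_le_inf_left _ (sup_le (sup_le inf_le_right (inf_le_left.trans le_sup_right)) le_sup_right))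
    have hr : proj₂ (preimageAlong θ (pr S₁ S₂ P ⊔ pr S₂ S₁ P)) ≤ pr S₂ S₁ P := hp2.trans
      (inf_le_inf_left _ (sup_le (sup_le (inf_le_left.trans le_sup_right) inf_le_right) le_sup_right))
    have hψ : prodHom _ (φ₁.comp (Subgroup.inclusion (hl.trans (hq1 hPS))))
        (φ₂.comp (Subgroup.inclusion (hr.trans (hq2 hPS)))) ∈
          D₀.Hom (preimageAlong θ (pr S₁ S₂ P ⊔ pr S₂ S₁ P)) :=
      (hD₀ _ _).2 ⟨preimageAlong_le, _, restrict_mem hφ₁ _, _, restrict_mem hφ₂ _,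
        isProdHom_prodHom _ _ _⟩
    obtain ⟨χ, hχ⟩ := exists_induced hZs hker hrange hQ hψ
    refine ⟨χ, (hiff _ χ).2 ⟨hQ, _, hψ, hχ⟩, fun x hx hx' => ?_⟩
    obtain ⟨⟨w, hwS⟩, hwe⟩ := hrange.ge (hPS hx)
    have hwP : w ∈ preimageAlong θ P := mem_preimageAlong.2 ⟨hwS, hwe ▸ hx⟩
    have hwQ : w ∈ preimageAlong θ (pr S₁ S₂ P ⊔ pr S₂ S₁ P) :=
      mem_preimageAlong.2 ⟨hwS, hwe ▸ hx'⟩
    rw [inducedAlong_apply hχ (x := ⟨w, hwQ⟩) (hxS := hwS) (y := ⟨x, hx'⟩) hwe.symm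
      (hx' := hom_mem hψ _), inducedAlong_apply hind (x := ⟨w, hwP⟩) (hxS := hwS) (y := ⟨x, hx⟩)
      hwe.symm (hx' := hom_mem hψ₀ _)]
    exact congrArg θ (Subtype.ext (he ⟨w, hwP⟩ ⟨w, hwP, rfl⟩ ⟨w, hwP, rfl⟩).symm)
  have hsc1 : F.StronglyClosed S₁ := ⟨h1S, fun R hR φ hφ x => hom_mem (hle1 hφ hR) x⟩
  have hsc2 : F.StronglyClosed S₂ := ⟨h2S, fun R hR φ hφ x => hom_mem (hle2 hφ hR) x⟩
  have hid1 : ∀ {P : Subgroup Ω}, P ≤ S₁ → ∀ {φ : P →* Ω}, φ ∈ F.Hom P → ∃ ψ ∈ F.Hom (P ⊔ S₂),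
      (∀ (x : Ω) (hx : x ∈ P) (hx' : x ∈ P ⊔ S₂), ψ ⟨x, hx'⟩ = φ ⟨x, hx⟩) ∧
        ∀ (b : Ω) (_ : b ∈ S₂) (hb' : b ∈ P ⊔ S₂), ψ ⟨b, hb'⟩ = b := by
    intro P hP φ hφ
    have hl : proj₁ (preimageAlong θ (P ⊔ S₂)) ≤ pr S₁ S₂ P :=
      hp1.trans (inf_le_inf_left _ (sup_le le_rfl le_sup_right))
    have hQ2 : proj₂ (preimageAlong θ (P ⊔ S₂)) ≤ S₂ := hp2.trans inf_le_left
    obtain ⟨φ₁, hφ₁, φ₂', hφ₂', χ, hχ, hval, hvalQ⟩ := build hφ (sup_le (hP.trans h1S) h2S) hl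
      (subtype_mem F₂ hQ2)
    have hmem : ∀ b ∈ S₂, b ∈ proj₂ (preimageAlong θ (P ⊔ S₂)) := fun b hb =>
      ⟨(1, b), hpre.2 ⟨⟨S₁.one_mem, hb⟩, show 1 * b ∈ P ⊔ S₂ by
        rw [one_mul]; exact Subgroup.mem_sup_right hb⟩, rfl⟩
    refine ⟨χ, hχ, fun x hx hx' => ?_, fun b hb hb' => ?_⟩
    · have h1 : x ∈ proj₁ (preimageAlong θ P) :=
        hq1 (hP.trans h1S) ⟨hP hx, Subgroup.mem_sup_left hx⟩
      have e1 := hvalQ x 1 (hP hx) S₂.one_mem (by rwa [mul_one]) h1 (hmem 1 S₂.one_mem)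
      have e2 := hval x 1 (hP hx) S₂.one_mem (by rwa [mul_one]) h1 (Subgroup.one_mem _)
      rw [show φ₂' ⟨1, Subgroup.one_mem _⟩ = 1 from map_one φ₂'] at e2
      simp only [mul_one, Subgroup.coe_subtype] at e1 e2
      exact e1.trans e2.symm
    · have e1 := hvalQ 1 b S₁.one_mem hb (by rwa [one_mul]) (Subgroup.one_mem _) (hmem b hb)
      rw [show φ₁ ⟨1, Subgroup.one_mem _⟩ = 1 from map_one φ₁] at e1
      simp only [one_mul, Subgroup.coe_subtype] at e1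
      exact e1
  have hid2 : ∀ {P : Subgroup Ω}, P ≤ S₂ → ∀ {φ : P →* Ω}, φ ∈ F.Hom P → ∃ ψ ∈ F.Hom (P ⊔ S₁),
      (∀ (x : Ω) (hx : x ∈ P) (hx' : x ∈ P ⊔ S₁), ψ ⟨x, hx'⟩ = φ ⟨x, hx⟩) ∧
        ∀ (a : Ω) (_ : a ∈ S₁) (ha' : a ∈ P ⊔ S₁), ψ ⟨a, ha'⟩ = a := by
    intro P hP φ hφ
    obtain ⟨φ₂, hφ₂, hle, he⟩ := hright hP hφ
    have hQS : P ⊔ S₁ ≤ S := sup_le (hP.trans h2S) h1S
    have hr : proj₂ (preimageAlong θ (P ⊔ S₁)) ≤ proj₂ (preimageAlong θ P) :=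
      (hp2.trans (inf_le_inf_left _ (sup_le le_rfl le_sup_right))).trans (hq2 (hP.trans h2S))
    have hψ : prodHom (preimageAlong θ (P ⊔ S₁)) (Subgroup.subtype _)
        (φ₂.comp (Subgroup.inclusion hr)) ∈ D₀.Hom (preimageAlong θ (P ⊔ S₁)) :=
      (hD₀ _ _).2 ⟨preimageAlong_le, _, subtype_mem F₁ (hp1.trans inf_le_left), _,
        restrict_mem hφ₂ _, isProdHom_prodHom _ _ _⟩
    obtain ⟨χ, hχ⟩ := exists_induced hZs hker hrange hQS hψ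
    refine ⟨χ, (hiff _ χ).2 ⟨hQS, _, hψ, hχ⟩, fun x hx hx' => ?_, fun a ha ha' => ?_⟩
    · have hw : ((1, x) : Ω × Ω) ∈ preimageAlong θ (P ⊔ S₁) :=
        hpre.2 ⟨⟨S₁.one_mem, hP hx⟩, show 1 * x ∈ P ⊔ S₁ by rwa [one_mul]⟩
      rw [inducedAlong_apply hχ (x := ⟨(1, x), hw⟩) (hxS := ⟨S₁.one_mem, hP hx⟩) (y := ⟨x, hx'⟩)
        (hθ₂ x _).symm (hx' := hom_mem hψ _), he ⟨x, hx⟩]
      exact hθ₂ _ _
    · have hw : ((a, 1) : Ω × Ω) ∈ preimageAlong θ (P ⊔ S₁) :=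
        hpre.2 ⟨⟨ha, S₂.one_mem⟩, show a * 1 ∈ P ⊔ S₁ by rwa [mul_one]⟩
      rw [inducedAlong_apply hχ (x := ⟨(a, 1), hw⟩) (hxS := ⟨ha, S₂.one_mem⟩) (y := ⟨a, ha'⟩)
        (hθ₁ a _).symm (hx' := hom_mem hψ _)]
      exact (hθ a (φ₂ ⟨1, Subgroup.one_mem _⟩) ⟨ha, hom_mem hφ₂ _⟩).trans
        ((congrArg (a * ·) (map_one φ₂)).trans (mul_one a))
  refine ⟨⟨hcomm, hsup, hsc1, hsc2, hext, hid1, hid2⟩, ?_, ?_⟩
  · exact fusionSystem_le_antisymm (fun P φ hφ => hle1 hφ.1 hφ.2.1)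
      fun P φ hφ => ⟨hin (Or.inl hφ), hom_le hφ, hom_mem hφ⟩
  · exact fusionSystem_le_antisymm (fun P φ hφ => hle2 hφ.1 hφ.2.1)
      fun P φ hφ => ⟨hin (Or.inr hφ), hom_le hφ, hom_mem hφ⟩

/-- Let F be a saturated fusion system over a finite p-group S that is a central product of two saturated subsystems F₁ (over S₁) and F₂ (over S₂) inside S. Then every component of F is a component of F₁ or a component of F₂. -/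
theorem result {Ω : Type*} [Group Ω] {S : Subgroup Ω} [Finite S] (p : ℕ) [Fact p.Prime] (hS : IsPGroup p S) (F : Cfsg.FusionSystem S) (hF : F.IsSaturated p) {S₁ S₂ : Subgroup Ω} (F₁ : Cfsg.FusionSystem S₁) (F₂ : Cfsg.FusionSystem S₂) (h₁ : F₁.IsSaturated p) (h₂ : F₂.IsSaturated p) (h₁F : F₁.IsSubsystemOf F) (h₂F : F₂.IsSubsystemOf F) (hc : Cfsg.FusionSystem.IsCentralProductOf F₁ F₂ F) {T : Subgroup Ω} (C : Cfsg.FusionSystem T) (hC : C.IsComponentIn F p) : C.IsComponentIn F₁ p ∨ C.IsComponentIn F₂ p := by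
  obtain ⟨h, e₁, e₂⟩ := split_of_centralProduct hc
  subst e₁ e₂
  obtain ⟨n, hn⟩ := Cfsg.Lib.FusionSys.exists_chainLen hC.1
  have hTS : T ≤ S := hom_le (isSubsystemOf_of_isSubnormalIn hC.1 T (subtype_mem C le_rfl))
  haveI := finite_of_le hTS
  exact component_of_split hC.2 (hS.to_le hTS) n hn inferInstance hS hF h

end Cfsg.Agent.S5162
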