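import Cfsg.Statements.S0839
import Mathlib

set_option autoImplicit false
open Cfsg

namespace Cfsg.Agent.S0839

/-- Every transvection t ∈ SL_(n+2)(F) (rank(t − 1) = 1, (t − 1)² = 0) is conjugate in SL_(n+2)(F) to 1 + v·e_0ᵀ for some column vector v with v_0 = 0 (the group A of matrices that are the identity except in the first column below the diagonal); the dimension is written n + 2 ≥ 2. -/
theorem result {F : Type*} [Field F] (n : ℕ) (t : Matrix.SpecialLinearGroup (Fin (n + 2)) F) (ht : Cfsg.IsTransvection (t : Matrix (Fin (n + 2)) (Fin (n + 2)) F)) : ∃ (g : Matrix.SpecialLinearGroup (Fin (n + 2)) F) (v : Fin (n + 2) → F), v 0 = 0 ∧ ((g⁻¹ * t * g : Matrix.SpecialLinearGroup (Fin (n + 2)) F) : Matrix (Fin (n + 2)) (Fin (n + 2)) F) = 1 + Matrix.vecMulVec v (Pi.single 0 1) := by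
  classical
  obtain ⟨hrk, hsq⟩ := ht
  set T : Matrix (Fin (n + 2)) (Fin (n + 2)) F := (t : Matrix (Fin (n + 2)) (Fin (n + 2)) F) - 1
  obtain ⟨u, hu, hspan⟩ := finrank_eq_one_iff'.mp hrk
  choose a ha using fun j => hspan ⟨T.mulVec (Pi.single j 1), LinearMap.mem_range_self T.mulVecLin _⟩
  have hT : T = Matrix.vecMulVec (u : Fin (n + 2) → F) a := by
    ext i j
    have h := congrFun (congrArg Subtype.val (ha j)) i
    simp only [Matrix.mulVec_single_one, Matrix.col_apply, SetLike.val_smul, Pi.smul_apply,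
      smul_eq_mul] at h
    rw [Matrix.vecMulVec_apply, mul_comm, h]
  obtain ⟨j0, hj0⟩ : ∃ j, a j ≠ 0 := by
    by_contra h
    push Not at h
    have : T = 0 := by ext i j; simp [hT, Matrix.vecMulVec_apply, h]
    rw [this, Matrix.rank_zero] at hrk
    exact zero_ne_one hrk
  have hau : a ⬝ᵥ (u : Fin (n + 2) → F) = 0 := by
    obtain ⟨i0, hi0⟩ := Function.ne_iff.mp (fun h => hu (Subtype.ext h) :
      (u : Fin (n + 2) → F) ≠ 0)
    have h := congrFun (congrFun hsq i0) j0
    rw [hT, Matrix.vecMulVec_mul_vecMulVec] at h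
    simp only [Matrix.vecMulVec_apply, Matrix.smul_apply, Matrix.zero_apply, Pi.smul_apply,
      smul_eq_mul, mul_eq_zero, hj0, or_false, false_or, dotProduct_comm] at h
    rcases h with h | h
    · exact absurd h hi0
    · exact h
  -- a basis adapted to the functional `a`
  let φ : (Fin (n + 2) → F) →ₗ[F] F :=
    { toFun := fun x => a ⬝ᵥ x
      map_add' := dotProduct_add a
      map_smul' := fun c x => dotProduct_smul c a x }
  set w0 : Fin (n + 2) → F := Pi.single j0 (a j0)⁻¹
  have hw0 : φ w0 = 1 := by simp [φ, w0, hj0]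
  have hker : Module.finrank F (LinearMap.ker φ) = n + 1 := by
    have h1 := LinearMap.finrank_range_add_finrank_ker φ
    have h2 : LinearMap.range φ = ⊤ := LinearMap.range_eq_top.mpr fun c => ⟨c • w0, by
      rw [map_smul, hw0, smul_eq_mul, mul_one]⟩
    rw [h2, finrank_top, Module.finrank_self, Module.finrank_fintype_fun_eq_card,
      Fintype.card_fin] at h1
    omega
  let b := Module.finBasisOfFinrankEq F (LinearMap.ker φ) hker
  set col : Fin (n + 2) → Fin (n + 2) → F :=
    Fin.cons w0 (fun i => (b i : Fin (n + 2) → F)) with hcol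
  set M : Matrix (Fin (n + 2)) (Fin (n + 2)) F := Matrix.of fun i j => col j i
  have hφcol : ∀ j, φ (col j) = (Pi.single 0 1 : Fin (n + 2) → F) j := fun j => by
    refine Fin.cases ?_ (fun i => ?_) j
    · simpa [hcol] using hw0
    · simpa [hcol, Fin.succ_ne_zero] using (b i).2
  have hli : LinearIndependent F col := by
    refine linearIndependent_finCons.mpr ⟨?_, fun hm => ?_⟩
    · exact b.linearIndependent.map' (LinearMap.ker φ).subtype (Submodule.ker_subtype _)
    · have : Submodule.span F (Set.range fun i => (b i : Fin (n + 2) → F)) ≤ LinearMap.ker φ :=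
        Submodule.span_le.mpr (by rintro _ ⟨i, rfl⟩; exact (b i).2)
      have := LinearMap.mem_ker.mp (this hm)
      rw [hw0] at this
      exact one_ne_zero this
  have hdM : M.det ≠ 0 := by
    have h := Matrix.linearIndependent_cols_iff_isUnit (A := M)
    exact ((Matrix.isUnit_iff_isUnit_det M).mp (h.mp hli)).ne_zero
  set D : Matrix (Fin (n + 2)) (Fin (n + 2)) F :=
    Matrix.diagonal (Function.update 1 1 M.det⁻¹)
  have hdet : (M * D).det = 1 := by
    rw [Matrix.det_mul, Matrix.det_diagonal,
      Finset.prod_update_of_mem (Finset.mem_univ _)]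
    simp [hdM]
  let g : Matrix.SpecialLinearGroup (Fin (n + 2)) F := ⟨M * D, hdet⟩
  have hag : Matrix.vecMul a (M * D) = Pi.single 0 1 := by
    rw [← Matrix.vecMul_vecMul]
    have h1 : Matrix.vecMul a M = Pi.single 0 1 := funext fun j => hφcol j
    rw [h1]
    funext j
    rw [Matrix.vecMul_diagonal]
    by_cases hj : j = 0
    · subst hj; simp
    · simp [hj]
  refine ⟨g, ((g⁻¹ : Matrix.SpecialLinearGroup (Fin (n + 2)) F) : Matrix _ _ F).mulVec (u : Fin (n + 2) → F), ?_, ?_⟩
  · have h : Matrix.vecMul a (M * D) ⬝ᵥ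
        ((g⁻¹ : Matrix.SpecialLinearGroup (Fin (n + 2)) F) : Matrix _ _ F).mulVec (u : Fin (n + 2) → F) = 0 := by
      rw [← Matrix.dotProduct_mulVec, Matrix.mulVec_mulVec]
      have : (M * D) * ((g⁻¹ : Matrix.SpecialLinearGroup (Fin (n + 2)) F) : Matrix _ _ F) = 1 := by
        rw [show M * D = (g : Matrix _ _ F) from rfl, ← Matrix.SpecialLinearGroup.coe_mul,
          mul_inv_cancel, Matrix.SpecialLinearGroup.coe_one]
      rw [this, Matrix.one_mulVec, hau]
    rw [hag, single_dotProduct, one_mul] at h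
    exact h
  · have hteq : (t : Matrix (Fin (n + 2)) (Fin (n + 2)) F) = 1 + Matrix.vecMulVec u a := by
      rw [← hT]; simp [T]
    rw [Matrix.SpecialLinearGroup.coe_mul, Matrix.SpecialLinearGroup.coe_mul, hteq,
      Matrix.mul_add, Matrix.mul_one, Matrix.add_mul, ← Matrix.SpecialLinearGroup.coe_mul,
      inv_mul_cancel, Matrix.SpecialLinearGroup.coe_one, Matrix.mul_vecMulVec, Matrix.vecMulVec_mul,
      show (g : Matrix _ _ F) = M * D from rfl, hag]

end Cfsg.Agent.S0839
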