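import Cfsg.Statements.S2579
import Cfsg.Agent.S0839

set_option autoImplicit false
open Cfsg
open scoped Matrix

namespace Cfsg.Agent.S2579

open Matrix

variable {F : Type*} [Field F] {k : ℕ}

/-- a transvection moving one vector to an independent one -/
theorem step {v w : Fin (k + 3) → F} (hi : LinearIndependent F ![v, w]) (hv : v 0 = 0) (hw : w 0 = 0) :
    ∃ h : Matrix.SpecialLinearGroup (Fin (k + 3)) F, h.1 *ᵥ v = w ∧
      Matrix.vecMul (Pi.single 0 1) h.1 = Pi.single 0 1 := by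
  obtain ⟨f, hf⟩ : ∃ f : (Fin (k + 3) → F) →ₗ[F] F, f v = 1 ∧ f w = 1 := by
    set W := Submodule.span F (Set.range ![v, w]) with hW
    let b := Module.Basis.span hi
    let f0 : W →ₗ[F] F := b.constr F fun _ => 1
    obtain ⟨f, hf⟩ := LinearMap.exists_extend f0
    refine ⟨f, ?_, ?_⟩
    · have h1 := LinearMap.congr_fun hf (b 0)
      rw [LinearMap.comp_apply, Submodule.subtype_apply, Module.Basis.constr_basis] at h1
      simpa [b, Module.Basis.span_apply] using h1
    · have h1 := LinearMap.congr_fun hf (b 1)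
      rw [LinearMap.comp_apply, Submodule.subtype_apply, Module.Basis.constr_basis] at h1
      simpa [b, Module.Basis.span_apply] using h1
  set a : Fin (k + 3) → F := fun j => f (Pi.single j 1) with ha
  have hdot : ∀ x, a ⬝ᵥ x = f x := by
    intro x
    have hx : x = ∑ j, x j • (Pi.single j (1 : F) : Fin (k + 3) → F) := pi_eq_sum_univ' x
    conv_rhs => rw [hx]
    rw [map_sum]
    refine Finset.sum_congr rfl fun j _ => ?_
    rw [map_smul, smul_eq_mul, mul_comm]
  have h0 : a ⬝ᵥ (w - v) = 0 := by rw [hdot, map_sub, hf.1, hf.2, sub_self]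
  refine ⟨⟨1 + vecMulVec (w - v) a, by
    rw [Matrix.vecMulVec_eq Unit, det_one_add_replicateCol_mul_replicateRow, h0, add_zero]⟩, ?_, ?_⟩
  · show (1 + vecMulVec (w - v) a) *ᵥ v = w
    rw [add_mulVec, one_mulVec, vecMulVec_mulVec, hdot, hf.1]
    simp
  · show Matrix.vecMul (Pi.single 0 1) (1 + vecMulVec (w - v) a) = _
    rw [Matrix.vecMul_add, vecMul_one, vecMul_vecMulVec]
    simp [hv, hw]

theorem move {v w : Fin (k + 3) → F} (hv : v 0 = 0) (hw : w 0 = 0) (hv0 : v ≠ 0) (hw0 : w ≠ 0) :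
    ∃ h : Matrix.SpecialLinearGroup (Fin (k + 3)) F, h.1 *ᵥ v = w ∧
      Matrix.vecMul (Pi.single 0 1) h.1 = Pi.single 0 1 := by
  by_cases hi : LinearIndependent F ![v, w]
  · exact step hi hv hw
  obtain ⟨c, hc⟩ : ∃ c : F, c • v = w := by
    by_contra hne
    push Not at hne
    exact hi ((LinearIndependent.pair_iff' hv0).mpr hne)
  obtain ⟨u, hu0, hu⟩ : ∃ u : Fin (k + 3) → F, u 0 = 0 ∧ ∀ d : F, d • v ≠ u := by
    let e1 : Fin (k + 3) → F := Pi.single 1 1
    let e2 : Fin (k + 3) → F := Pi.single 2 1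
    by_cases h1 : ∀ d : F, d • v ≠ e1
    · exact ⟨e1, by simp [e1], h1⟩
    refine ⟨e2, by simp [e2, Pi.single_apply, Fin.ext_iff, Nat.mod_eq_of_lt (show 2 < k + 3 by omega)], fun d hd => ?_⟩
    push Not at h1
    obtain ⟨d1, hd1⟩ := h1
    have a1 := congrFun hd1 1
    have a2 := congrFun hd1 2
    have b2 := congrFun hd 2
    simp only [e1, e2, Pi.smul_apply, smul_eq_mul, Pi.single_eq_same] at a1 a2 b2
    rw [Pi.single_eq_of_ne (by simp [Fin.ext_iff, Nat.mod_eq_of_lt (show 2 < k + 3 by omega)] : (2 : Fin (k + 3)) ≠ 1)] at a2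
    rcases mul_eq_zero.mp a2 with h | h
    · rw [h, zero_mul] at a1; exact zero_ne_one a1
    · rw [h, mul_zero] at b2; exact zero_ne_one b2
  have hu0' : u ≠ 0 := fun h => hu 0 (by rw [h, zero_smul])
  obtain ⟨g, hg1, hg2⟩ := step ((LinearIndependent.pair_iff' hv0).mpr hu) hv hu0
  obtain ⟨h, hh1, hh2⟩ := step ((LinearIndependent.pair_iff' hu0').mpr fun d hd => by
    have hd0 : d ≠ 0 := fun h0 => hw0 (by rw [← hd, h0, zero_smul])
    apply hu (d⁻¹ * c)
    rw [mul_smul, hc, ← hd, smul_smul, inv_mul_cancel₀ hd0, one_smul]) hu0 hw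
  refine ⟨h * g, ?_, ?_⟩
  · show (h.1 * g.1) *ᵥ v = w
    rw [← mulVec_mulVec, hg1, hh1]
  · show Matrix.vecMul (Pi.single 0 1) (h.1 * g.1) = _
    rw [← vecMul_vecMul, hh2, hg2]

/-- In SL_n(F) with n ≥ 3, over a finite field F, any two transvections (matrices t with t − 1 of rank one and square zero) are conjugate by an element of SL_n(F). -/
theorem result {F : Type*} [Field F] [Finite F] {n : ℕ} (hn : 3 ≤ n) (s t : Matrix.SpecialLinearGroup (Fin n) F) (hs : Cfsg.IsTransvection (s : Matrix (Fin n) (Fin n) F)) (ht : Cfsg.IsTransvection (t : Matrix (Fin n) (Fin n) F)) : IsConj s t := by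
  obtain ⟨k, rfl⟩ : ∃ k, n = k + 3 := ⟨n - 3, by omega⟩
  obtain ⟨g, v, hv, hgv⟩ := Cfsg.Agent.S0839.result (k + 1) s hs
  obtain ⟨g', w, hw, hgw⟩ := Cfsg.Agent.S0839.result (k + 1) t ht
  have hne : ∀ (g s : Matrix.SpecialLinearGroup (Fin (k + 3)) F) (v : Fin (k + 3) → F),
      Cfsg.IsTransvection (s : Matrix (Fin (k + 3)) (Fin (k + 3)) F) →
      (g⁻¹ * s * g).1 = 1 + vecMulVec v (Pi.single 0 1) → v ≠ 0 := by
    intro g s v hs he h0
    rw [h0, Matrix.zero_vecMulVec, add_zero] at he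
    have h1 : g⁻¹ * s * g = 1 := Matrix.SpecialLinearGroup.ext _ _ fun i j => by rw [he]; rfl
    have h2 : s = 1 := by
      calc s = g * (g⁻¹ * s * g) * g⁻¹ := by group
        _ = 1 := by rw [h1]; group
    have h3 := hs.1
    rw [h2, Matrix.SpecialLinearGroup.coe_one, sub_self, Matrix.rank_zero] at h3
    exact zero_ne_one h3
  obtain ⟨h, hh1, hh2⟩ := move hv hw (hne g s v hs hgv) (hne g' t w ht hgw)
  rw [isConj_iff]
  refine ⟨g' * h * g⁻¹, ?_⟩
  have key : h * (g⁻¹ * s * g) = (g'⁻¹ * t * g') * h := by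
    apply Matrix.SpecialLinearGroup.ext
    intro i j
    rw [Matrix.SpecialLinearGroup.coe_mul, Matrix.SpecialLinearGroup.coe_mul (g'⁻¹ * t * g') h,
      hgv, hgw, Matrix.mul_add, Matrix.add_mul, Matrix.mul_one, Matrix.one_mul,
      Matrix.mul_vecMulVec, Matrix.vecMulVec_mul, hh1, hh2]
  calc g' * h * g⁻¹ * s * (g' * h * g⁻¹)⁻¹ = g' * (h * (g⁻¹ * s * g)) * h⁻¹ * g'⁻¹ := by group
    _ = t := by rw [key]; group

end Cfsg.Agent.S2579
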