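import Cfsg.Statements.S5191
import Cfsg.Agent.Lib.FusionSys.OfGroup

set_option autoImplicit false
open Cfsg

namespace Cfsg.Agent.S5191

/-- Fusion in a finite group G and in its quotient by O_{p'}(G) agree. Let S be a Sylow p-subgroup of G, N = O_{p'}(G) and P ≤ S. If an element of G/N conjugates the image of P into the image of S, then some element g of G conjugates P into S and induces the same map on P modulo N. (Together with the injectivity of S → G/N this says that g ↦ gN induces an isomorphism of the fusion system of G on S with that of G/N on SN/N.) -/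
theorem result {G : Type*} [Group G] [Finite G] {p : ℕ} [Fact p.Prime]
    [hN : (Cfsg.pPrimeCore p G).Normal] (S : Sylow p G) (P : Subgroup G) (hP : P ≤ (S : Subgroup G))
    (γ : G ⧸ Cfsg.pPrimeCore p G)
    (hγ : ∀ x ∈ P, γ * QuotientGroup.mk x * γ⁻¹ ∈ ((S : Subgroup G).map (QuotientGroup.mk' (Cfsg.pPrimeCore p G)))) :
    ∃ g : G, ∀ x ∈ P, g * x * g⁻¹ ∈ S ∧
      (QuotientGroup.mk (g * x * g⁻¹) : G ⧸ Cfsg.pPrimeCore p G) = γ * QuotientGroup.mk x * γ⁻¹ := by
  obtain ⟨g, rfl⟩ := QuotientGroup.mk'_surjective (Cfsg.pPrimeCore p G) γ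
  set N := Cfsg.pPrimeCore p G with hNdef
  let H : Subgroup G := (S : Subgroup G) ⊔ N
  have hSH : (S : Subgroup G) ≤ H := le_sup_left
  have hmem : ∀ x ∈ P, g * x * g⁻¹ ∈ H := by
    intro x hx
    obtain ⟨s, hs, he⟩ := hγ x hx
    have h1 : s⁻¹ * (g * x * g⁻¹) ∈ N := QuotientGroup.eq.1 (he.trans rfl)
    exact (mul_inv_cancel_left s (g * x * g⁻¹)).symm ▸
      mul_mem (hSH hs) (Subgroup.mem_sup_right h1)
  let U : Subgroup G := P.map (MulAut.conj g).toMonoidHom
  have hUH : U ≤ H := by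
    rintro _ ⟨x, hx, rfl⟩
    exact hmem x hx
  have hUp : IsPGroup p U := (S.isPGroup'.to_le hP).map _
  obtain ⟨R, hR⟩ := (hUp.of_equiv (Subgroup.subgroupOfEquivOfLe hUH).symm).exists_le_sylow
  obtain ⟨k, hk⟩ := MulAction.exists_smul_eq H R (S.subtype hSH)
  obtain ⟨s, hs, n, hn, hsn⟩ := Subgroup.mem_sup_of_normal_right.1
    (show (k : G) ∈ (S : Subgroup G) ⊔ N from k.2)
  refine ⟨n * g, fun x hx => ⟨?_, ?_⟩⟩
  · have h1 : k * ⟨g * x * g⁻¹, hmem x hx⟩ * k⁻¹ ∈ ((S.subtype hSH : Sylow p H) : Subgroup H) := by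
      rw [← hk, Sylow.coe_subgroup_smul]
      exact Subgroup.smul_mem_pointwise_smul _ (MulAut.conj k) _ (hR ⟨x, hx, rfl⟩)
    rw [Sylow.coe_subtype, Subgroup.mem_subgroupOf] at h1
    have h2 := mul_mem (mul_mem (inv_mem hs) h1) hs
    simp only [Subgroup.coe_mul, Subgroup.coe_inv, ← hsn] at h2
    have h3 : n * g * x * (n * g)⁻¹ = s⁻¹ * (s * n * (g * x * g⁻¹) * (s * n)⁻¹) * s := by group
    rw [h3]
    exact h2
  · have h1 : ((n * g : G) : G ⧸ N) = (g : G ⧸ N) := by
      rw [QuotientGroup.mk_mul, (QuotientGroup.eq_one_iff n).2 hn, one_mul]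
    rw [QuotientGroup.mk_mul, QuotientGroup.mk_mul, QuotientGroup.mk_inv, h1]
    rfl

end Cfsg.Agent.S5191
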