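import Cfsg.Statements.S3781

set_option autoImplicit false
open Cfsg

namespace Cfsg.Agent.S3781

open scoped commutatorElement

theorem commutator_commutator_le_normal {G : Type*} [Group G] (K : Subgroup G) [K.Normal] {A B C : Subgroup G}
    (h1 : ⁅⁅B, C⁆, A⁆ ≤ K) (h2 : ⁅⁅C, A⁆, B⁆ ≤ K) : ⁅⁅A, B⁆, C⁆ ≤ K := by
  have hmap : ∀ {X : Subgroup G}, X ≤ K ↔ X.map (QuotientGroup.mk' K) = ⊥ := by
    intro X
    rw [Subgroup.map_eq_bot_iff, QuotientGroup.ker_mk']
  rw [hmap] at h1 h2 ⊢
  simp only [Subgroup.map_commutator] at h1 h2 ⊢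
  exact Subgroup.commutator_commutator_eq_bot_of_rotate h1 h2

open Subgroup in
/-- Iterated commutators with the whole group absorb lower central terms. -/
theorem commutator_lcs_le {G : Type*} [Group G] {D : ℕ → Subgroup G} (hD : ∀ k, D (k + 1) = ⁅D k, (⊤ : Subgroup G)⁆)
    (hn : ∀ k, (D k).Normal) :
    ∀ b a, ⁅D a, (⊤ : Subgroup G).lowerCentralSeries b⁆ ≤ D (a + b + 1) := by
  intro b
  induction b with
  | zero => intro a; simp [hD]
  | succ b ih =>
    intro a
    rw [Subgroup.lowerCentralSeries_succ, commutator_comm]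
    have := hn (a + (b + 1) + 1)
    refine commutator_commutator_le_normal _ ?_ ?_
    · rw [commutator_comm ⊤ (D a), ← hD]
      exact (ih (a + 1)).trans (le_of_eq (by congr 1; omega))
    · rw [hD]
      exact commutator_mono ((ih a).trans (le_of_eq (by congr 1))) le_rfl

theorem le_of_sup_commutator {G : Type*} [Group G] (hG : Group.IsNilpotent G) {S L : Subgroup G}
    [L.Normal] (h : S ≤ L ⊔ ⁅S, (⊤ : Subgroup G)⁆) : S ≤ L := by
  have hkey : ∀ k, S ≤ L ⊔ (⊤ : Subgroup G).lowerCentralSeries k := by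
    intro k
    induction k with
    | zero => simp
    | succ k ih =>
      refine h.trans (sup_le le_sup_left ?_)
      rw [Subgroup.commutator_le]
      intro x hx g _
      obtain ⟨l, hl, w, hw, rfl⟩ := Subgroup.mem_sup_of_normal_left.mp (ih hx)
      have hid : ⁅l * w, g⁆ = (l * ⁅w, g⁆ * l⁻¹) * ⁅l, g⁆ := by simp [commutatorElement_def, mul_assoc]
      rw [hid]
      have hlg : ⁅l, g⁆ ∈ L := by
        rw [commutatorElement_def, mul_assoc l g, mul_assoc l (g * l⁻¹) g⁻¹]
        exact mul_mem hl (‹L.Normal›.conj_mem _ (inv_mem hl) g)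
      refine mul_mem (mul_mem (mul_mem (Subgroup.mem_sup_left hl) (Subgroup.mem_sup_right ?_))
        (inv_mem (Subgroup.mem_sup_left hl))) (Subgroup.mem_sup_left hlg)
      exact Subgroup.commutator_mem_commutator hw (Subgroup.mem_top g)
  obtain ⟨m, hm⟩ := Subgroup.nilpotent_iff_lowerCentralSeries.mp hG
  simpa [hm] using hkey m


/-- Let G be a finite p-group and n ≥ 1, and write γ_1(G) = G, γ_{k+1}(G) = [γ_k(G), G], and likewise γ_k(N) for a subgroup N. Let N be a normal subgroup of G contained in γ_n(G). If i > 1 and γ_{i+1}(N) ≠ 1, then |γ_i(N) : γ_{i+1}(N)| ≥ p^n. -/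
theorem result {G : Type*} [Group G] [Finite G] {p : ℕ} [Fact p.Prime] (hG : IsPGroup p G) (n : ℕ) (hn : 1 ≤ n) (N : Subgroup G) [N.Normal] (hN : N ≤ (⊤ : Subgroup G).lowerCentralSeries (n - 1)) (i : ℕ) (hi : 1 < i) (hne : N.lowerCentralSeries i ≠ ⊥) : p ^ n ≤ (N.lowerCentralSeries i).relIndex (N.lowerCentralSeries (i - 1)) := by
  classical
  have hnil : Group.IsNilpotent G := hG.isNilpotent
  obtain ⟨j, rfl⟩ : ∃ j, i = j + 1 := ⟨i - 1, by omega⟩
  obtain ⟨m, rfl⟩ : ∃ m, n = m + 1 := ⟨n - 1, by omega⟩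
  simp only [Nat.add_sub_cancel] at hN ⊢
  set L := N.lowerCentralSeries (j + 1) with hL
  set L₀ := N.lowerCentralSeries j with hL₀
  have hLn : L.Normal := hL ▸ inferInstance
  have hL₀n : L₀.Normal := hL₀ ▸ inferInstance
  let D : ℕ → Subgroup G := fun k => Nat.recOn k L₀ fun _ X => ⁅X, (⊤ : Subgroup G)⁆
  have hD : ∀ k, D (k + 1) = ⁅D k, (⊤ : Subgroup G)⁆ := fun k => rfl
  have hDn : ∀ k, (D k).Normal := by
    intro k
    induction k with
    | zero => exact hL₀n
    | succ k ih =>
      exact @Subgroup.commutator_normal _ _ (D k) ⊤ ih inferInstance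
  have hDle : ∀ k, D (k + 1) ≤ D k := fun k => by
    have := hDn k; rw [hD]; exact Subgroup.commutator_le_left (D k) ⊤
  have hLD : L ≤ D (m + 1) := by
    rw [hL, Subgroup.lowerCentralSeries_succ]
    exact (Subgroup.commutator_mono le_rfl hN).trans
      ((commutator_lcs_le hD hDn m 0).trans (le_of_eq (by rw [Nat.zero_add])))
  have hLL₀ : L ≤ L₀ := N.lowerCentralSeries_antitone (Nat.le_succ j)
  by_contra hlt
  have hchain : ∀ k, D k ≤ L ∨ p ^ k * Nat.card (D k ⊔ L : Subgroup G) ≤ Nat.card L₀ := by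
    intro k
    induction k with
    | zero => right; simp [D, sup_of_le_left hLL₀]
    | succ k ih =>
      rcases ih with h | h
      · exact Or.inl ((hDle k).trans h)
      rcases Classical.em (D k ≤ L) with hk | hk
      · exact Or.inl ((hDle k).trans hk)
      right
      have hle : D (k + 1) ⊔ L ≤ D k ⊔ L := sup_le_sup_right (hDle k) L
      have hne : D (k + 1) ⊔ L ≠ D k ⊔ L := fun heq => hk <| le_of_sup_commutator hnil (by
        rw [sup_comm, ← hD, heq]; exact le_sup_left)
      obtain ⟨e, he⟩ := (hG.to_subgroup (D k ⊔ L)).index ((D (k + 1) ⊔ L).subgroupOf (D k ⊔ L))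
      have he0 : e ≠ 0 := by
        rintro rfl
        exact hne (le_antisymm hle (Subgroup.relIndex_eq_one.mp (by simpa [Subgroup.relIndex] using he)))
      have hcard : Nat.card (D (k + 1) ⊔ L : Subgroup G) * p ^ e = Nat.card (D k ⊔ L : Subgroup G) := by
        rw [← he, ← Nat.card_congr (Subgroup.subgroupOfEquivOfLe hle).toEquiv]
        exact Subgroup.card_mul_index _
      calc p ^ (k + 1) * Nat.card (D (k + 1) ⊔ L : Subgroup G)
          = p ^ k * (Nat.card (D (k + 1) ⊔ L : Subgroup G) * p) := by rw [pow_succ]; ring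
        _ ≤ p ^ k * (Nat.card (D (k + 1) ⊔ L : Subgroup G) * p ^ e) := by
          gcongr; exact Nat.le_self_pow he0 p
        _ ≤ Nat.card L₀ := by rw [hcard]; exact h
  have hlast : D m ≤ L := by
    rcases hchain m with h | h
    · exact h
    refine Classical.byContradiction fun hne => ?_
    have hrel : L.relIndex L₀ * Nat.card L = Nat.card L₀ := by
      rw [Subgroup.relIndex, mul_comm, ← Nat.card_congr (Subgroup.subgroupOfEquivOfLe hLL₀).toEquiv]
      exact Subgroup.card_mul_index _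
    obtain ⟨e, he⟩ := (hG.to_subgroup L₀).index (L.subgroupOf L₀)
    change L.relIndex L₀ = p ^ e at he
    have hem : e ≤ m := by
      by_contra hem
      exact hlt (he ▸ Nat.pow_le_pow_right (Fact.out : p.Prime).pos (by omega))
    have h2 : p ^ m * Nat.card (D m ⊔ L : Subgroup G) ≤ p ^ m * Nat.card L := by
      refine h.trans ?_
      rw [← hrel, he]
      gcongr
      exact (Fact.out : p.Prime).one_le
    exact hne (le_sup_left.trans (Subgroup.eq_of_le_of_card_ge (le_sup_right : L ≤ D m ⊔ L)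
      (Nat.le_of_mul_le_mul_left h2 (pow_pos (Fact.out : p.Prime).pos m))).ge)
  have hfix : L ≤ (⊥ : Subgroup G) ⊔ ⁅L, (⊤ : Subgroup G)⁆ := by
    rw [bot_sup_eq]
    exact hLD.trans ((hD m).le.trans (Subgroup.commutator_mono hlast le_rfl))
  exact hne (le_bot_iff.mp (le_of_sup_commutator hnil hfix))

end Cfsg.Agent.S3781
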