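import Cfsg.Statements.S3035
import Cfsg.Agent.Lib.Small.CentralizerD8
import Cfsg.Agent.Lib.Small.Order360
import Cfsg.Agent.Lib.Small.Order168
import Cfsg.Agent.Lib.Small.PSLTwoRecog
import Cfsg.Agent.Lib.Linear.SLBasic
import Cfsg.Agent.Lib.ZStar.Main
import Cfsg.Agent.Lib.Invol.Isolated
import Cfsg.Agent.S1229
import Mathlib.GroupTheory.Frattini
-- import your own Cfsg.Agent.* helpers here

set_option autoImplicit false
open Cfsg

namespace Cfsg.Agent.S3035

open Subgroup Cfsg.Lib.Small.CentralizerD8 DihedralGroup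
open scoped commutatorElement

variable {G : Type*} [Group G] [Finite G] {t : G}

/-- The isolated case. -/
theorem isolated_case (h : IsIsolatedInvolution t) :
    centralizer ({t} : Set G) ⊔ oddCore G = ⊤ := by
  rw [eq_top_iff]
  intro g _
  obtain ⟨k, ⟨⟨hodd, hinv⟩, hgk⟩, -⟩ := Cfsg.Lib.Invol.isolated_coset_unique h g
  have hm : t * k * t⁻¹ * k⁻¹ ∈ oddCore G := Cfsg.Lib.ZStar.zStarHolds G t h k
  rw [hinv, ← mul_inv_rev, inv_mem_iff, ← sq] at hm
  obtain ⟨m, hm2⟩ := hodd
  have hk : k ∈ oddCore G := by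
    have hpow := pow_mem hm (m + 1)
    rwa [← pow_mul, show 2 * (m + 1) = 2 * m + 1 + 1 by ring, pow_succ, ← hm2, pow_orderOf_eq_one,
      one_mul] at hpow
  have := mul_mem (mem_sup_right hk) (mem_sup_left (inv_mem hgk) :
    (g⁻¹ * k)⁻¹ ∈ centralizer ({t} : Set G) ⊔ oddCore G)
  simpa using this

/-- `SL(3, 2)` is simple of order 168. -/
theorem slThree : IsSimpleGroup (Matrix.SpecialLinearGroup (Fin 3) (ZMod 2)) ∧
    Nat.card (Matrix.SpecialLinearGroup (Fin 3) (ZMod 2)) = 168 := by
  haveI : Fact (Nat.Prime 2) := ⟨Nat.prime_two⟩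
  refine ⟨?_, ?_⟩
  · haveI := Cfsg.Lib.Linear.PSL_simple (F := ZMod 2) 3 (by norm_num) (fun h => absurd h (by norm_num))
    have hc : center (Matrix.SpecialLinearGroup (Fin 3) (ZMod 2)) = ⊥ := Subgroup.eq_bot_of_card_eq _ (by
      rw [Cfsg.Lib.Linear.card_center_SL]; simp [ZMod.card])
    have e : Matrix.ProjectiveSpecialLinearGroup (Fin 3) (ZMod 2) ≃*
        Matrix.SpecialLinearGroup (Fin 3) (ZMod 2) :=
      (QuotientGroup.quotientMulEquivOfEq hc).trans QuotientGroup.quotientBot
    exact e.symm.isSimpleGroup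
  · have h := Cfsg.Lib.Linear.card_SL_mul (F := ZMod 2) 3 (by norm_num)
    rw [ZMod.card, Fin.prod_univ_three] at h
    simpa using h

variable (e : centralizer ({t} : Set G) ≃* DihedralGroup 4) (ht : orderOf t = 2)
include e ht

theorem emb_mem (d : DihedralGroup 4) : emb e d ∈ centralizer ({t} : Set G) := (e.symm d).2

theorem mem_involution {x : G} (hx : x * t = t * x) (hxo : orderOf x = 2) (hxt : x ≠ t) :
    ∃ i : ZMod 4, emb e (sr i) = x := by
  obtain ⟨d, hd⟩ := exists_emb e hx
  have hdo : orderOf d = 2 := by rw [← orderOf_injective _ (emb_injective e), hd, hxo]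
  have key : ∀ d : DihedralGroup 4, d * d = 1 → d ≠ 1 → d = r 2 ∨ d = sr 0 ∨ d = sr 1 ∨ d = sr 2 ∨ d = sr 3 := by
    decide
  rcases key d (by rw [← sq, ← hdo, pow_orderOf_eq_one]) (fun h => by rw [h, orderOf_one] at hdo; omega)
    with rfl | rfl | rfl | rfl | rfl
  · exact absurd (hd.symm.trans (emb_r_two e ht)) hxt
  all_goals exact ⟨_, hd⟩

/-- With trivial odd core a normal subgroup is trivial or of even order. -/
theorem exists_involution_mem (hO : oddCore G = ⊥) {N : Subgroup G} (hN : N.Normal) (hN1 : N ≠ ⊥) :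
    ∃ x ∈ N, orderOf x = 2 := by
  haveI : Fact (Nat.Prime 2) := ⟨Nat.prime_two⟩
  have h2 : 2 ∣ Nat.card N := by
    by_contra h
    exact hN1 (le_bot_iff.mp (hO ▸ Cfsg.Lib.ZStar.le_oddCore hN
      (Nat.not_even_iff_odd.mp (fun he => h (even_iff_two_dvd.mp he)))))
  obtain ⟨x, hx⟩ := exists_prime_orderOf_dvd_card' (G := N) 2 h2
  exact ⟨x, x.2, by rw [orderOf_coe, hx]⟩

/-- No normal subgroup of index two: the group is simple. -/
theorem simple_case (hO : oddCore G = ⊥) (h2 : ∀ M : Subgroup G, M.Normal → M.index ≠ 2) :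
    IsSimpleGroup G := by
  haveI : Fact (Nat.Prime 2) := ⟨Nat.prime_two⟩
  haveI : Nontrivial G := ⟨t, 1, Cfsg.Lib.Invol.ne_one ht⟩
  refine ⟨fun N hN => ?_⟩
  by_cases hN1 : N = ⊥
  · exact Or.inl hN1
  right
  haveI := hN
  obtain ⟨x, hxN, hx⟩ := exists_involution_mem e ht hO hN hN1
  have hall : ∀ y : G, orderOf y = 2 → y ∈ N := fun y hy => by
    obtain ⟨g, hg⟩ := isConj_iff.mp ((one_class e ht h2 hx).trans (one_class e ht h2 hy).symm)
    exact hg ▸ hN.conj_mem x hxN g
  obtain ⟨S, hS⟩ := exists_sylow_eq e ht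
  have hSN : (S : Subgroup G) ≤ N := by
    rw [hS]
    intro y hy
    obtain ⟨d, rfl⟩ := exists_emb e (mem_centralizer_singleton_iff.mp hy)
    have hsr : ∀ i : ZMod 4, emb e (sr i) ∈ N := fun i => hall _ (by
      rw [orderOf_injective _ (emb_injective e), DihedralGroup.orderOf_sr])
    rcases d with i | i
    · rw [show (r i : DihedralGroup 4) = sr 0 * sr i by simp, map_mul]
      exact mul_mem (hsr _) (hsr _)
    · exact hsr i
  have hfr := Sylow.normalizer_sup_eq_top' (N := N) S hSN
  have hle : normalizer ((S : Subgroup G) : Set G) ≤ centralizer ({t} : Set G) := by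
    intro g hg
    rw [hS] at hg
    have htS : t ∈ centralizer ({t} : Set G) := mem_centralizer_singleton_iff.mpr rfl
    obtain ⟨d, hd⟩ := exists_emb e (x := g * t * g⁻¹)
      (mem_centralizer_singleton_iff.mp ((mem_normalizer_iff.mp hg t).mp htS))
    have key : ∀ d : DihedralGroup 4, (∀ x, x * d = d * x) → d ≠ 1 → d = r 2 := by decide
    have hc : ∀ x, x * d = d * x := fun x => emb_injective e (by
      rw [map_mul, map_mul, hd]
      have h1 : g⁻¹ * emb e x * g ∈ centralizer ({t} : Set G) := by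
        have := (mem_normalizer_iff.mp (inv_mem hg) (emb e x)).mp (emb_mem e ht x)
        rwa [inv_inv] at this
      have h1' := mem_centralizer_singleton_iff.mp h1
      calc emb e x * (g * t * g⁻¹) = g * ((g⁻¹ * emb e x * g) * t) * g⁻¹ := by group
        _ = g * (t * (g⁻¹ * emb e x * g)) * g⁻¹ := by rw [h1']
        _ = g * t * g⁻¹ * emb e x := by group)
    have hne : d ≠ 1 := fun h => by
      rw [h, map_one] at hd
      exact Cfsg.Lib.Invol.ne_one ht (conj_eq_one_iff.mp hd.symm)
    rw [key d hc hne, emb_r_two e ht] at hd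
    exact mem_centralizer_singleton_iff.mpr (mul_inv_eq_iff_eq_mul.mp hd.symm)
  rw [eq_top_iff, ← hfr]
  exact sup_le ((hle.trans hS.ge).trans hSN) le_rfl

/-- The case of a normal subgroup of index two. -/
theorem index_two_case (hO : oddCore G = ⊥) (hni : ¬ IsIsolatedInvolution t)
    {M : Subgroup G} (hM : M.Normal) (hMi : M.index = 2) :
    Nonempty (G ≃* Equiv.Perm (Fin 4)) ∨ Nonempty (G ≃* Equiv.Perm (Fin 5)) := by
  classical
  haveI : Fact (Nat.Prime 2) := ⟨Nat.prime_two⟩
  haveI := hM
  set C := centralizer ({t} : Set G) with hC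
  have hC8 : Nat.card C = 8 := card_centralizer_t e
  have hsq : ∀ x : G, x * x ∈ M := fun x => mul_self_mem_of_index_two hMi x
  have htM : t ∈ M := by
    rw [← emb_r_two e ht, show (r 2 : DihedralGroup 4) = r 1 * r 1 by decide, map_mul]
    exact hsq _
  obtain ⟨g₀, hg₀c, hg₀⟩ : ∃ g : G, Commute t (g * t * g⁻¹) ∧ g * t * g⁻¹ ≠ t := by
    by_contra hc
    push Not at hc
    exact hni ⟨ht, hc⟩
  set s := g₀ * t * g₀⁻¹ with hsdef
  have hs2 : orderOf s = 2 := by rw [hsdef, Cfsg.Lib.Invol.orderOf_conj_eq, ht]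
  have hsM : s ∈ M := hM.conj_mem t htM g₀
  obtain ⟨i, hi⟩ := mem_involution e ht hg₀c.symm.eq hs2 hg₀
  -- the intersection with the centralizer
  set V := C ⊓ M with hV
  have hCM : ¬ C ≤ M := by
    intro hle
    obtain ⟨S, hS⟩ := exists_sylow_eq e ht
    have h1 := S.not_dvd_index
    rw [hS] at h1
    exact h1 (hMi ▸ index_dvd_of_le hle)
  have hVd : 4 ∣ Nat.card V := by
    have h1 := relIndex_mul_relIndex ⊥ V C bot_le inf_le_left
    rw [relIndex_bot_left, relIndex_bot_left, hC8, show V.relIndex C = M.relIndex C from inf_relIndex_left C M] at h1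
    have h2 : M.relIndex C ∣ 2 := hMi ▸ relIndex_dvd_index_of_normal M C
    have h3 := Nat.le_of_dvd (by norm_num) h2
    interval_cases hm : M.relIndex C <;> omega
  have hVle : Nat.card V ≤ 4 := by
    have h1 : Nat.card V ∣ 8 := hC8 ▸ card_dvd_of_le inf_le_left
    have h2 : Nat.card V ≠ 8 := fun h => hCM ((eq_of_le_of_card_ge inf_le_left (by rw [hC8, h]) :
      V = C) ▸ inf_le_right)
    have := Nat.le_of_dvd (by norm_num) h1
    interval_cases hm : Nat.card V <;> omega
  have hV4 : Nat.card V = 4 := le_antisymm hVle (Nat.le_of_dvd Nat.card_pos hVd)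
  have htV : t ∈ V := ⟨mem_centralizer_singleton_iff.mpr rfl, htM⟩
  have hVelt : ∀ v ∈ V, v = 1 ∨ v = t ∨ v = s ∨ v = t * s := by
    intro v hv
    have hsV : s ∈ V := ⟨mem_centralizer_singleton_iff.mpr hg₀c.symm.eq, hsM⟩
    by_contra hne
    simp only [not_or] at hne
    obtain ⟨h1, h2, h3, h4⟩ := hne
    have e1 : (1 : G) ≠ t := (Cfsg.Lib.Invol.ne_one ht).symm
    have e2 : (1 : G) ≠ s := (Cfsg.Lib.Invol.ne_one hs2).symm
    have e3 : (1 : G) ≠ t * s := fun h => hg₀ (by
      have := eq_inv_of_mul_eq_one_left h.symm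
      rw [Cfsg.Lib.Invol.inv_eq_self hs2] at this
      exact this.symm)
    have e4 : t ≠ s := fun h => hg₀ h.symm
    have e5 : t ≠ t * s := fun h => e2 (mul_left_cancel ((mul_one t).trans h))
    have e6 : s ≠ t * s := fun h => e1 (mul_right_cancel ((one_mul s).trans h))
    have hsub : ({1, t, s, t * s, v} : Finset G) ⊆ (V : Set G).toFinite.toFinset := by
      intro x hx
      simp only [Set.Finite.mem_toFinset, SetLike.mem_coe]
      simp only [Finset.mem_insert, Finset.mem_singleton] at hx
      rcases hx with rfl | rfl | rfl | rfl | rfl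
      exacts [one_mem V, htV, hsV, mul_mem htV hsV, hv]
    have hc := Finset.card_le_card hsub
    rw [← Set.ncard_eq_toFinset_card, ← Nat.card_coe_set_eq] at hc
    simp [e1, e2, e3, e4, e5, e6, Ne.symm h1, Ne.symm h2, Ne.symm h3, Ne.symm h4] at hc
    have : (5 : ℕ) ≤ Nat.card V := hc
    omega
  have hts : t * s = s * t := hg₀c.eq
  have htt := Cfsg.Lib.Invol.inv_mul_self ht
  have hss := Cfsg.Lib.Invol.inv_mul_self hs2
  have hVsq : ∀ v ∈ V, v * v = 1 := by
    intro v hv
    rcases hVelt v hv with rfl | rfl | rfl | rfl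
    · rw [one_mul]
    · exact htt
    · exact hss
    · rw [mul_assoc, ← mul_assoc s, ← hts, mul_assoc t s s, hss, mul_one, htt]
  have hVconj : ∀ v ∈ V, v ≠ 1 → IsConj v t := by
    intro v hv hv1
    have hst : IsConj s t := (isConj_iff.mpr ⟨g₀, rfl⟩ : IsConj t s).symm
    rcases hVelt v hv with rfl | rfl | rfl | rfl
    · exact absurd rfl hv1
    · exact IsConj.refl _
    · exact hst
    · refine IsConj.trans ?_ hst
      have hk := MonoidHom.map_isConj (emb e) (isConj_iff.mpr ⟨r 1, (by decide :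
        ∀ i : ZMod 4, r 1 * (r 2 * sr i) * (r 1)⁻¹ = sr i) i⟩ : IsConj (r 2 * sr i) (sr i))
      rw [map_mul, emb_r_two e ht, hi] at hk
      exact hk
  have hV1 : ∀ v ∈ V, ∀ w ∈ V, v * w = w * v := fun v hv w hw => by
    have := hVsq _ (mul_mem hv hw)
    rw [← inv_eq_of_mul_eq_one_right this, mul_inv_rev,
      inv_eq_of_mul_eq_one_right (hVsq v hv), inv_eq_of_mul_eq_one_right (hVsq w hw)]
  -- a Sylow subgroup of `M`
  obtain ⟨S, hS⟩ := exists_sylow_eq e ht
  have hcG : Nat.card G = 2 * Nat.card M := by rw [← hMi, index_mul_card]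
  have hVM : Nat.card (V.subgroupOf M) = 4 :=
    (Nat.card_congr (subgroupOfEquivOfLe inf_le_right).toEquiv).trans hV4
  have hVodd : ¬ 2 ∣ (V.subgroupOf M).index := by
    intro hd
    have h1 := (V.subgroupOf M).index_mul_card
    rw [hVM] at h1
    have h2 := (S : Subgroup G).index_mul_card
    rw [hS, hC8, hcG, ← h1] at h2
    have h3 := S.not_dvd_index
    rw [hS] at h3
    omega
  let T : Sylow 2 M := (IsPGroup.of_card (n := 2) (by rw [hVM]; rfl) : IsPGroup 2 (V.subgroupOf M)).toSylow hVodd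
  have hTV : (T : Subgroup M) = V.subgroupOf M := rfl
  have hclassM : ∀ x : M, orderOf x = 2 → IsConj (x : G) t := by
    intro x hx
    obtain ⟨Q, hQ⟩ := (IsPGroup.of_card (n := 1) (by rw [Nat.card_zpowers, hx, pow_one]) :
      IsPGroup 2 (zpowers x)).exists_le_sylow
    obtain ⟨g, hg⟩ := MulAction.exists_smul_eq M Q T
    have hmem : g * x * g⁻¹ ∈ (T : Subgroup M) := by
      rw [← hg]
      exact smul_mem_pointwise_smul x (MulAut.conj g) _ (hQ (mem_zpowers x))
    rw [hTV, mem_subgroupOf] at hmem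
    refine (isConj_iff.mpr ⟨(g : G), rfl⟩ : IsConj (x : G) ((g : G) * x * (g : G)⁻¹)).trans
      (hVconj _ hmem fun h => Cfsg.Lib.Invol.ne_one hx (Subtype.ext (conj_eq_one_iff.mp h)))
  have hfix : ∀ g : G, (∀ v ∈ V, g * v * g⁻¹ = v) → g ∈ C := fun g hg =>
    mem_centralizer_singleton_iff.mpr (mul_inv_eq_iff_eq_mul.mp (hg t htV))
  have hcent : ∀ g : G, g ∈ C → (∀ v ∈ V, g * v * g⁻¹ = v) → g ∈ V := by
    intro g hg hgf
    obtain ⟨d, hd⟩ := exists_emb e (mem_centralizer_singleton_iff.mp hg)
    have hh : emb e d * s * (emb e d)⁻¹ = s := by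
      rw [hd]; exact hgf s ⟨mem_centralizer_singleton_iff.mpr hg₀c.symm.eq, hsM⟩
    rw [← hi] at hh
    have hds : d * sr i * d⁻¹ = sr i := emb_injective e (by simpa using hh)
    have key : ∀ i : ZMod 4, ∀ d : DihedralGroup 4, d * sr i * d⁻¹ = sr i →
        d = 1 ∨ d = r 2 ∨ d = sr i ∨ d = r 2 * sr i := by decide
    rw [← hd]
    rcases key i d hds with h | h | h | h <;> rw [h]
    · rw [map_one]; exact one_mem V
    · rw [emb_r_two e ht]; exact htV
    · rw [hi]; exact ⟨mem_centralizer_singleton_iff.mpr hg₀c.symm.eq, hsM⟩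
    · rw [map_mul, emb_r_two e ht, hi]
      exact mul_mem htV ⟨mem_centralizer_singleton_iff.mpr hg₀c.symm.eq, hsM⟩
  have hnc : t ∉ center G := fun h => hg₀ (by
    rw [hsdef, mem_center_iff.mp h g₀, mul_inv_cancel_right])
  have hcentral : ∀ x : G, x ∈ center G → x * x = 1 → x = 1 := by
    intro x hx hxx
    by_contra hx1
    have hxC : x ∈ C := mem_centralizer_singleton_iff.mpr (mem_center_iff.mp hx t).symm
    have hxV : x ∈ V := hcent x hxC fun v _ => by
      rw [← mem_center_iff.mp hx v, mul_inv_cancel_right]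
    obtain ⟨g, hg⟩ := isConj_iff.mp (hVconj x hxV hx1)
    rw [mem_center_iff.mp hx g, mul_inv_cancel_right] at hg
    exact hnc (hg ▸ hx)
  have hCN : C ≤ normalizer (V : Set G) := fun g hg => mem_normalizer_fintype fun x hx => by
    show g * x * g⁻¹ ∈ C ⊓ M
    exact mem_inf.mpr ⟨mul_mem (mul_mem hg (show x ∈ C from hx.1)) (inv_mem hg), hM.conj_mem x hx.2 g⟩
  have hnorm : ∀ g : G, g ∈ normalizer (V : Set G) → ∀ v ∈ V, g * v * g⁻¹ ∈ V := fun g hg v hv =>
    (mem_normalizer_iff.mp hg v).mp hv
  by_cases hTn : (T : Subgroup M).Normal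
  · left
    have hVn : V.Normal := by
      have hmap : (T : Subgroup M).map M.subtype = V := by
        rw [hTV, map_subgroupOf_eq_of_le inf_le_right]
      haveI : (T : Subgroup M).Characteristic := T.characteristic_of_normal hTn
      rw [← hmap]
      infer_instance
    have hN : ∀ g : G, g ∈ normalizer (V : Set G) := fun g =>
      (normalizer_eq_top_iff.mpr hVn) ▸ mem_top g
    have hdvd8 : 8 ∣ Nat.card G := hC8 ▸ card_subgroup_dvd_card C
    let P3 : Finset G := {t, s, t * s}
    let φ : G → P3 → P3 := fun g v => ⟨g * v.1 * g⁻¹, by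
      have hv := v.2
      simp only [P3, Finset.mem_insert, Finset.mem_singleton] at hv ⊢
      have hvV : v.1 ∈ V ∧ v.1 ≠ 1 := by
        rcases hv with h | h | h <;> rw [h]
        · exact ⟨htV, Cfsg.Lib.Invol.ne_one ht⟩
        · exact ⟨⟨mem_centralizer_singleton_iff.mpr hg₀c.symm.eq, hsM⟩, Cfsg.Lib.Invol.ne_one hs2⟩
        · refine ⟨mul_mem htV ⟨mem_centralizer_singleton_iff.mpr hg₀c.symm.eq, hsM⟩, fun h => hg₀ ?_⟩
          have := eq_inv_of_mul_eq_one_left h
          rw [Cfsg.Lib.Invol.inv_eq_self hs2] at this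
          exact this.symm
      rcases hVelt _ (hnorm g (hN g) _ hvV.1) with h | h
      · exact absurd (conj_eq_one_iff.mp h) hvV.2
      · exact h⟩
    let ψ : G →* Equiv.Perm P3 := MonoidHom.mk' (fun g =>
      { toFun := φ g
        invFun := φ g⁻¹
        left_inv := fun v => Subtype.ext (show g⁻¹ * (g * v.1 * g⁻¹) * g⁻¹⁻¹ = v.1 by group)
        right_inv := fun v => Subtype.ext (show g * (g⁻¹ * v.1 * g⁻¹⁻¹) * g⁻¹ = v.1 by group) })
      (fun a b => Equiv.ext fun v => Subtype.ext
        (show a * b * v.1 * (a * b)⁻¹ = a * (b * v.1 * b⁻¹) * a⁻¹ by group))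
    have hker : Nat.card ψ.ker ≤ 4 := by
      refine hV4 ▸ Nat.card_le_card_of_injective (Subgroup.inclusion (?_ : ψ.ker ≤ V))
        (Subgroup.inclusion_injective _)
      intro g hg
      have hf : ∀ v ∈ V, g * v * g⁻¹ = v := by
        intro v hv
        rcases hVelt v hv with h | h
        · rw [h, mul_one, mul_inv_cancel]
        · exact congrArg Subtype.val (Equiv.ext_iff.mp (MonoidHom.mem_ker.mp hg) ⟨v, by
            simp only [P3, Finset.mem_insert, Finset.mem_singleton]; exact h⟩)
      exact hcent g (hfix g hf) hf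
    have hrange : Nat.card ψ.range ≤ 6 := by
      refine (Nat.card_le_card_of_injective _ ψ.range.subtype_injective).trans ?_
      rw [Nat.card_perm, Nat.card_eq_fintype_card, Fintype.card_coe]
      exact (Nat.factorial_le Finset.card_le_three).trans (by norm_num [Nat.factorial])
    have hle24 : Nat.card G ≤ 24 := by
      rw [← ψ.ker.index_mul_card, index_ker]
      exact (Nat.mul_le_mul hrange hker).trans (by norm_num)
    have hG8 : Nat.card G ≠ 8 := fun h8 => hnc (by
      have hCt : C = ⊤ := eq_top_of_card_eq _ (by rw [hC8, h8])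
      exact mem_center_iff.mpr fun g => mem_centralizer_singleton_iff.mp (show g ∈ C by rw [hCt]; trivial))
    have hG24 : Nat.card G = 24 := by
      have : Nat.card G ≠ 16 := fun h16 => by
        have h1 := (S : Subgroup G).index_mul_card
        rw [hS, hC8, h16] at h1
        have := S.not_dvd_index
        rw [hS] at this
        omega
      have := Nat.card_pos (α := G)
      omega
    haveI : Fact (Nat.Prime 3) := ⟨Nat.prime_three⟩
    obtain ⟨P⟩ : Nonempty (Sylow 3 G) := inferInstance
    have hP : Nat.card (P : Subgroup G) = 3 :=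
      Cfsg.Lib.Small.card_sylow (p := 3) 1 8 (by rw [hG24]; norm_num) (by norm_num) P
    obtain ⟨hn1, hn2⟩ := Cfsg.Lib.Small.sylow_facts (G := G) (p := 3) 1 8 (by rw [hG24]; norm_num) (by norm_num)
    have hdisj : ∀ K : Subgroup G, K.Normal → K ⊓ V = ⊥ → K = ⊥ := fun K hK hKV => by
      rw [eq_bot_iff_forall]
      intro k hk
      have hf : ∀ v ∈ V, k * v * k⁻¹ = v := fun v hv => mul_inv_eq_iff_eq_mul.mpr
        (commute_of_normal_of_disjoint K V hK hVn (disjoint_iff.mpr hKV) k v hk hv).eq
      exact (mem_bot.mp (hKV ▸ ⟨hk, hcent k (hfix k hf) hf⟩ : k ∈ (⊥ : Subgroup G)))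
    have hn4 : Nat.card (Sylow 3 G) = 4 := by
      have hne : Nat.card (Sylow 3 G) ≠ 1 := by
        intro h1
        have hPn : normalizer ((P : Subgroup G) : Set G) = ⊤ := by
          rw [← index_eq_one]
          exact P.card_eq_index_normalizer.symm.trans h1
        have hb := hdisj _ (normalizer_eq_top_iff.mp hPn) (disjoint_iff.mp
          (disjoint_of_coprime_natCard (by rw [hP, hV4]; norm_num)))
        rw [hb, card_bot] at hP
        omega
      have := Nat.le_of_dvd (by norm_num) hn1
      generalize Nat.card (Sylow 3 G) = n at *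
      interval_cases n <;> omega
    set N := normalizer ((P : Subgroup G) : Set G)
    have hNi : N.index = 4 := by
      rw [← hn4, P.card_eq_index_normalizer]; rfl
    have hN6 : Nat.card N = 6 := by
      have := N.index_mul_card; rw [hNi, hG24] at this; omega
    have hcore : N.normalCore = ⊥ := by
      refine hdisj _ (normalCore_normal N) ?_
      rw [eq_bot_iff_forall]
      intro x hx
      by_contra hx1
      have hle : N.normalCore ⊓ V ≤ N ⊓ V := inf_le_inf_right _ (normalCore_le N)
      have hd : Nat.card (N.normalCore ⊓ V : Subgroup G) ∣ 2 :=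
        (Nat.dvd_gcd (card_dvd_of_le (hle.trans inf_le_left)) (card_dvd_of_le (hle.trans inf_le_right))).trans
          (by rw [hN6, hV4]; norm_num)
      haveI : (N.normalCore ⊓ V).Normal := @normal_inf_normal _ _ _ _ (normalCore_normal N) hVn
      have hc2 : Nat.card (N.normalCore ⊓ V : Subgroup G) = 2 := by
        rcases (Nat.dvd_prime Nat.prime_two).mp hd with h | h
        · rw [eq_bot_of_card_eq _ h] at hx; exact absurd (mem_bot.mp hx) hx1
        · exact h
      refine hx1 (hcentral x (mem_center_iff.mpr fun g => ?_) (hVsq x hx.2))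
      have hmem : g * x * g⁻¹ ∈ N.normalCore ⊓ V :=
        (inferInstance : (N.normalCore ⊓ V).Normal).conj_mem x hx g
      by_contra hne
      haveI : Fintype (N.normalCore ⊓ V : Subgroup G) := Fintype.ofFinite _
      have h3 : 3 ≤ Nat.card (N.normalCore ⊓ V : Subgroup G) := by
        rw [Nat.card_eq_fintype_card]
        refine le_trans (le_of_eq ?_) (Finset.card_le_univ
          ({1, ⟨x, hx⟩, ⟨g * x * g⁻¹, hmem⟩} : Finset (N.normalCore ⊓ V : Subgroup G)))
        rw [Finset.card_insert_of_notMem, Finset.card_pair]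
        · exact fun h => hne (eq_mul_inv_iff_mul_eq.mp (congrArg Subtype.val h)).symm
        · simp only [Finset.mem_insert, Finset.mem_singleton, not_or]
          exact ⟨fun h => hx1 (congrArg Subtype.val h).symm,
            fun h => hx1 (conj_eq_one_iff.mp (congrArg Subtype.val h).symm)⟩
      omega
    have hinj : Function.Injective (MulAction.toPermHom G (G ⧸ N)) := by
      rw [← MonoidHom.ker_eq_bot_iff, ← normalCore_eq_ker, hcore]
    have hq : Nat.card (G ⧸ N) = 4 := hNi
    have hbij : Function.Bijective (MulAction.toPermHom G (G ⧸ N)) :=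
      (Nat.bijective_iff_injective_and_card _).mpr ⟨hinj, by rw [Nat.card_perm, hq, hG24]; rfl⟩
    exact ⟨(MulEquiv.ofBijective _ hbij).trans
      ((Finite.equivFinOfCardEq hq).permCongrHom)⟩
  · right
    have hcM : ∀ x : M, orderOf x = 2 → IsMulCommutative (centralizer ({x} : Set M)) ∧
        ∀ c ∈ centralizer ({x} : Set M), c ^ 2 = 1 := by
      intro x hx
      obtain ⟨g, hg⟩ := isConj_iff.mp (hclassM x hx)
      have hmem : ∀ c ∈ centralizer ({x} : Set M), g * (c : G) * g⁻¹ ∈ V := fun c hc => by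
        refine ⟨mem_centralizer_singleton_iff.mpr ?_, hM.conj_mem _ c.2 g⟩
        have hc' : (c : G) * x = (x : G) * c := congrArg Subtype.val (mem_centralizer_singleton_iff.mp hc)
        rw [← hg]
        calc g * (c : G) * g⁻¹ * (g * x * g⁻¹) = g * ((c : G) * x) * g⁻¹ := by group
          _ = g * ((x : G) * c) * g⁻¹ := by rw [hc']
          _ = g * x * g⁻¹ * (g * c * g⁻¹) := by group
      refine ⟨⟨⟨fun a b => Subtype.ext (Subtype.ext ?_)⟩⟩, fun c hc => Subtype.ext ?_⟩
      · refine (MulAut.conj g).injective ?_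
        simp only [Subgroup.coe_mul, map_mul, MulAut.conj_apply]
        exact hV1 _ (hmem _ a.2) _ (hmem _ b.2)
      · refine (MulAut.conj g).injective ?_
        simp only [sq, Subgroup.coe_mul, map_mul, MulAut.conj_apply, OneMemClass.coe_one, map_one]
        exact hVsq _ (hmem c hc)
    have hnc' : ¬ IsCyclic (T : Subgroup M) := by
      intro hcy
      obtain ⟨x, hx⟩ := IsCyclic.exists_ofOrder_eq_natCard (α := (T : Subgroup M))
      have h1 : orderOf x ∣ 2 := orderOf_dvd_of_pow_eq_one (Subtype.ext (Subtype.ext (by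
        simpa [sq] using hVsq _ (mem_subgroupOf.mp x.2))))
      rw [hx, show Nat.card (T : Subgroup M) = 4 from hVM] at h1
      norm_num at h1
    obtain ⟨-, hthree, hreg⟩ := Cfsg.Agent.S1229.result T hnc' hTn hcM
    have hH : Cfsg.Lib.Invol.EA.Hyp T := ⟨hnc', hTn, hcM⟩
    set H := normalizer ((T : Subgroup M) : Set M) with hHdef
    have hH12 : Nat.card H = 12 := by
      rw [hHdef, Cfsg.Lib.Invol.EA.card_H hH, show Nat.card T = 4 from hVM]
    obtain ⟨u, huH, -⟩ := Cfsg.Lib.Invol.se_exists_outside (Cfsg.Lib.Invol.EA.se hH)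
    set p₁ : M ⧸ H := QuotientGroup.mk 1 with hp₁
    have hu1 : (QuotientGroup.mk u : M ⧸ H) ≠ p₁ := fun h => huH (by
      simpa using QuotientGroup.eq.mp h.symm)
    have hsmul : ∀ x ∈ (T : Subgroup M), x • p₁ = p₁ := fun x hx => by
      rw [hp₁, Cfsg.Lib.Invol.smul_coset_one_eq]; exact le_normalizer hx
    let f : ↥(T : Subgroup M) → {y : M ⧸ H // y ≠ p₁} := fun x =>
      ⟨(x : M) • QuotientGroup.mk u, fun h => hu1 (MulAction.injective (x : M) (h.trans (hsmul _ x.2).symm))⟩
    have hf : Function.Bijective f := by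
      refine ⟨fun a b hab => ?_, fun y => ?_⟩
      · obtain ⟨x, -, hx⟩ := hreg (QuotientGroup.mk u) (f b).1 hu1 (f b).2
        exact Subtype.ext ((hx a.1 ⟨a.2, congrArg Subtype.val hab⟩).trans (hx b.1 ⟨b.2, rfl⟩).symm)
      · obtain ⟨x, ⟨hx, hxy⟩, -⟩ := hreg (QuotientGroup.mk u) y.1 hu1 y.2
        exact ⟨⟨x, hx⟩, Subtype.ext hxy⟩
    haveI : Fintype (M ⧸ H) := Fintype.ofFinite _
    have h5 : H.index = 5 := by
      have h1 := Nat.card_eq_of_bijective f hf
      rw [Nat.card_eq_fintype_card (α := {y : M ⧸ H // y ≠ p₁}), Fintype.card_subtype_compl,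
        Fintype.card_subtype_eq, ← Nat.card_eq_fintype_card (α := M ⧸ H)] at h1
      have : Nat.card (T : Subgroup M) = 4 := hVM
      change Nat.card (M ⧸ H) = 5
      omega
    have hM60 : Nat.card M = 60 := by rw [← H.index_mul_card, h5, hH12]
    have hG120 : Nat.card G = 120 := by rw [hcG, hM60]
    set N := normalizer (V : Set G) with hNdef
    have hHN : H = N.subgroupOf M := by
      ext x
      rw [hHdef, hNdef, mem_subgroupOf, hTV, mem_normalizer_iff, mem_normalizer_iff]
      constructor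
      · intro h y
        constructor
        · intro hy
          exact (h ⟨y, hy.2⟩).mp hy
        · intro hy
          have hyM : y ∈ M := by
            have := hM.conj_mem _ hy.2 (x : G)⁻¹
            simpa [mul_assoc] using this
          exact (h ⟨y, hyM⟩).mpr hy
      · exact fun h y => h y
    have hN24 : Nat.card N = 24 := by
      have h1 := relIndex_mul_relIndex ⊥ (M ⊓ N) N bot_le inf_le_right
      rw [relIndex_bot_left, relIndex_bot_left, inf_relIndex_right] at h1
      have h2 : M.relIndex N ∣ 2 := hMi ▸ relIndex_dvd_index_of_normal M N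
      have h3 : Nat.card (M ⊓ N : Subgroup G) = 12 := by
        rw [← hH12, hHN, inf_comm, ← inf_subgroupOf_right]
        exact (Nat.card_congr (subgroupOfEquivOfLe inf_le_right).toEquiv).symm
      have h4 : 8 ∣ Nat.card N := hC8 ▸ card_dvd_of_le hCN
      have := Nat.le_of_dvd (by norm_num) h2
      rw [h3] at h1
      interval_cases hm : M.relIndex N <;> omega
    have hNi : N.index = 5 := by
      have := N.index_mul_card; rw [hN24, hG120] at this; omega
    have hcore : N.normalCore = ⊥ := by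
      have hKM : N.normalCore ⊓ M = ⊥ := by
        rw [eq_bot_iff_forall]
        intro x hx
        have hxn : ∀ y : M ⧸ H, (⟨x, hx.2⟩ : M) • y = y := by
          intro y
          obtain ⟨g, rfl⟩ := QuotientGroup.mk_surjective y
          rw [MulAction.Quotient.smul_mk, QuotientGroup.eq, hHN, mem_subgroupOf]
          have := inv_mem (normalCore_le N ((normalCore_normal N).conj_mem x hx.1 ((g : G)⁻¹)))
          simpa [mul_assoc] using inv_mem (inv_mem this)
        obtain ⟨a, b, c, hab, hac, hbc⟩ := Fintype.two_lt_card_iff.mp (show 2 < Fintype.card (M ⧸ H) by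
          rw [← Nat.card_eq_fintype_card]; change 2 < H.index; omega)
        exact congrArg Subtype.val (hthree _ a b c hab hac hbc (hxn a) (hxn b) (hxn c))
      rw [eq_bot_iff_forall]
      intro x hx
      have hxx : x * x = 1 := by
        rw [← mem_bot, ← hKM]; exact ⟨mul_mem hx hx, hsq x⟩
      refine hcentral x (mem_center_iff.mpr fun g => ?_) hxx
      have h1 : g * x * g⁻¹ * x⁻¹ ∈ N.normalCore ⊓ M := by
        refine mem_inf.mpr ⟨mul_mem ((normalCore_normal N).conj_mem x hx g) (inv_mem hx), ?_⟩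
        show g * x * g⁻¹ * x⁻¹ ∈ M
        rw [mul_mem_iff_of_index_two hMi, mul_mem_iff_of_index_two hMi, mul_mem_iff_of_index_two hMi,
          inv_mem_iff, inv_mem_iff]
        tauto
      rw [hKM, mem_bot, mul_inv_eq_one, mul_inv_eq_iff_eq_mul] at h1
      exact h1
    have hinj : Function.Injective (MulAction.toPermHom G (G ⧸ N)) := by
      rw [← MonoidHom.ker_eq_bot_iff, ← normalCore_eq_ker, hcore]
    have hq : Nat.card (G ⧸ N) = 5 := hNi
    have hbij : Function.Bijective (MulAction.toPermHom G (G ⧸ N)) :=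
      (Nat.bijective_iff_injective_and_card _).mpr ⟨hinj, by rw [Nat.card_perm, hq, hG120]; rfl⟩
    exact ⟨(MulEquiv.ofBijective _ hbij).trans
      ((Finite.equivFinOfCardEq hq).permCongrHom)⟩

omit e ht

/-- Let G be a finite group with an involution z whose centralizer is dihedral of order 8. Then G = C_G(z) O(G) with O(G) the largest normal subgroup of odd order, or G is isomorphic to the symmetric group of degree 4, the symmetric group of degree 5, the group SL₃(2), or the alternating group of degree 6. -/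
theorem result {G : Type*} [Group G] [Finite G] (z : G) (hz : orderOf z = 2)
    (hC : Nonempty (↥(Subgroup.centralizer ({z} : Set G)) ≃* DihedralGroup 4)) :
    Subgroup.centralizer ({z} : Set G) ⊔ Cfsg.oddCore G = ⊤ ∨ Nonempty (G ≃* Equiv.Perm (Fin 4)) ∨ Nonempty (G ≃* Equiv.Perm (Fin 5)) ∨
      Nonempty (G ≃* Matrix.SpecialLinearGroup (Fin 3) (ZMod 2)) ∨ Nonempty (G ≃* ↥(alternatingGroup (Fin 6))) := by
  obtain ⟨e⟩ := hC
  by_cases hiso : IsIsolatedInvolution z
  · exact Or.inl (isolated_case hiso)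
  right
  have hO : oddCore G = ⊥ := by
    obtain ⟨g₀, hc, hne⟩ : ∃ g : G, Commute z (g * z * g⁻¹) ∧ g * z * g⁻¹ ≠ z := by
      by_contra hn
      push Not at hn
      exact hiso ⟨hz, hn⟩
    set s := g₀ * z * g₀⁻¹ with hsdef
    have hs2 : orderOf s = 2 := by rw [hsdef, Cfsg.Lib.Invol.orderOf_conj_eq, hz]
    obtain ⟨i, hi⟩ := mem_involution e hz hc.symm.eq hs2 hne
    have hodd : Odd (Nat.card (oddCore G)) := by
      haveI : Fact (Nat.Prime 2) := ⟨Nat.prime_two⟩
      exact Nat.odd_iff.mpr (Nat.two_dvd_ne_zero.mp (Cfsg.Lib.Core.pPrimeCore_not_dvd 2 G))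
    have hfpf : ∀ y : G, IsConj z y → ∀ x ∈ oddCore G, y * x * y⁻¹ = x⁻¹ := by
      intro y hy
      obtain ⟨a, rfl⟩ := isConj_iff.mp hy
      intro x hx
      have hz' : ∀ x ∈ oddCore G, z * x * z⁻¹ = x⁻¹ := by
        intro x hx
        let φ : oddCore G →* oddCore G :=
          { toFun := fun w => ⟨z * w.1 * z⁻¹, (inferInstance : (oddCore G).Normal).conj_mem _ w.2 z⟩
            map_one' := Subtype.ext (by simp)
            map_mul' := fun u v => Subtype.ext (by simp [mul_assoc]) }
        have h2 : Function.Involutive φ := fun w => Subtype.ext (by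
          show z * (z * w.1 * z⁻¹) * z⁻¹ = w.1
          rw [show z * (z * w.1 * z⁻¹) * z⁻¹ = (z * z) * w.1 * (z * z)⁻¹ by group,
            Cfsg.Lib.Invol.inv_mul_self hz, one_mul, inv_one, mul_one])
        have hfix : MonoidHom.FixedPointFree φ := by
          intro w hw
          have hw' : z * w.1 * z⁻¹ = w.1 := congrArg Subtype.val hw
          have hwC : w.1 ∈ centralizer ({z} : Set G) :=
            mem_centralizer_singleton_iff.mpr (mul_inv_eq_iff_eq_mul.mp hw').symm
          refine Subtype.ext (orderOf_eq_one_iff.mp ?_)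
          have h8 : orderOf w.1 ∣ 2 ^ 3 := by
            have := Subgroup.orderOf_dvd_natCard _ hwC
            rwa [card_centralizer_t e] at this
          exact Nat.eq_one_of_dvd_coprimes ((hodd.coprime_two_right.pow_right 3)) (orderOf_dvd_natCard _ w.2) h8
        exact congrArg Subtype.val (congrFun (hfix.coe_eq_inv_of_involutive h2) ⟨x, hx⟩)
      have := hz' (a⁻¹ * x * a) (by
        have := (inferInstance : (oddCore G).Normal).conj_mem x hx a⁻¹
        simpa using this)
      calc a * z * a⁻¹ * x * (a * z * a⁻¹)⁻¹ = a * (z * (a⁻¹ * x * a) * z⁻¹) * a⁻¹ := by group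
        _ = x⁻¹ := by rw [this]; group
    rw [eq_bot_iff_forall]
    intro x hx
    have h1 := hfpf z (IsConj.refl _) x hx
    have h2 := hfpf s (isConj_iff.mpr ⟨g₀, rfl⟩) x hx
    have h3 := hfpf (z * s) ((isConj_iff.mpr ⟨g₀, rfl⟩ : IsConj z s).trans (by
      have hk := MonoidHom.map_isConj (emb e) (isConj_iff.mpr ⟨r 1, (by decide :
        ∀ i : ZMod 4, r 1 * (r 2 * sr i) * (r 1)⁻¹ = sr i) i⟩ : IsConj (r 2 * sr i) (sr i))
      rw [map_mul, emb_r_two e hz, hi] at hk
      exact hk.symm)) x hx
    have h4 : z * s * x * (z * s)⁻¹ = x := by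
      calc z * s * x * (z * s)⁻¹ = z * (s * x * s⁻¹) * z⁻¹ := by group
        _ = (z * x * z⁻¹)⁻¹ := by rw [h2]; group
        _ = x := by rw [h1, inv_inv]
    have h5 : orderOf x ∣ 2 := orderOf_dvd_of_pow_eq_one (by
      rw [sq, ← eq_inv_iff_mul_eq_one]; exact h4.symm.trans h3)
    exact orderOf_eq_one_iff.mp (Nat.eq_one_of_dvd_coprimes hodd.coprime_two_right
      (Subgroup.orderOf_dvd_natCard _ hx) h5)
  by_cases h2 : ∀ M : Subgroup G, M.Normal → M.index ≠ 2
  · haveI := simple_case e hz hO h2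
    have hperf : commutator G = ⊤ := by
      refine ((inferInstance : (commutator G).Normal).eq_bot_or_eq_top).resolve_left ?_
      intro hb
      have hmem : ⁅emb e (r 1), emb e (sr 0)⁆ ∈ commutator G :=
        commutator_mem_commutator (mem_top _) (mem_top _)
      rw [hb, mem_bot, commutatorElement_eq_one_iff_commute] at hmem
      have := emb_injective e (((map_mul _ _ _).trans hmem.eq).trans (map_mul _ _ _).symm)
      exact absurd this (by decide)
    rcases card_eq e hperf hz with h | h
    · refine Or.inr (Or.inr (Or.inl ?_))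
      haveI : Fact (Nat.Prime 7) := ⟨by norm_num⟩
      obtain ⟨a⟩ := Cfsg.Lib.Small.PSLTwoRecog.iso_psl (p := 7) (G := G) (by norm_num) (by rw [h]; norm_num)
        (by rw [Cfsg.Lib.Small.Order168.card_seven h]) (F := ZMod 7) (ZMod.card 7)
      obtain ⟨hs, hc⟩ := slThree
      haveI := hs
      obtain ⟨b⟩ := Cfsg.Lib.Small.PSLTwoRecog.iso_psl (p := 7) (G := Matrix.SpecialLinearGroup (Fin 3) (ZMod 2))
        (by norm_num) (by rw [hc]; norm_num) (by rw [Cfsg.Lib.Small.Order168.card_seven hc]) (F := ZMod 7) (ZMod.card 7)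
      exact ⟨a.trans b.symm⟩
    · exact Or.inr (Or.inr (Or.inr (Cfsg.Lib.Small.Order360.iso_alternating h)))
  · push Not at h2
    obtain ⟨M, hM, hMi⟩ := h2
    rcases index_two_case e hz hO hiso hM hMi with h | h
    · exact Or.inl h
    · exact Or.inr (Or.inl h)

end Cfsg.Agent.S3035
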