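import Cfsg.Statements.S0255
import Cfsg.Agent.Lib.Linear.PSLSmall
import Cfsg.Agent.Lib.Small.PSLTwoRecog
import Cfsg.Agent.Lib.Small.Order168
import Cfsg.Agent.Lib.Linear.SLBasic

set_option linter.style.haveILetI false

set_option autoImplicit false
open Cfsg

namespace Cfsg.Agent.S0255

/-- PSL_2(7) is isomorphic to PSL_3(2). -/
theorem result {F K : Type*} [Field F] [Fintype F] [Field K] [Fintype K] (hF : Fintype.card F = 7) (hK : Fintype.card K = 2) : Nonempty (Matrix.ProjectiveSpecialLinearGroup (Fin 2) F ≃* Matrix.ProjectiveSpecialLinearGroup (Fin 3) K) := by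
  haveI := Cfsg.Lib.Linear.PSL_simple (F := K) 3 (by norm_num) (fun h => absurd h (by norm_num))
  haveI : Fact (Nat.Prime 7) := ⟨by norm_num⟩
  have h := Cfsg.Lib.Linear.card_SL_mul (F := K) 3 (by norm_num)
  rw [hK, Fin.prod_univ_three, Cfsg.Lib.Linear.card_SL_eq_gcd_mul_card_PSL, hK] at h
  have h168 : Nat.card (Matrix.ProjectiveSpecialLinearGroup (Fin 3) K) = 168 := by simpa using h
  obtain ⟨b⟩ := Cfsg.Lib.Small.PSLTwoRecog.iso_psl (p := 7) (G := Matrix.ProjectiveSpecialLinearGroup (Fin 3) K)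
    (by norm_num) (by rw [h168]; norm_num) (by rw [Cfsg.Lib.Small.Order168.card_seven h168]) (F := F) hF
  exact ⟨b.symm⟩

end Cfsg.Agent.S0255
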