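import Cfsg.Statements.S4231
import Mathlib
import Cfsg.Agent.S2119

set_option linter.style.haveILetI false

set_option autoImplicit false
open Cfsg

namespace Cfsg.Agent.S4231

open Equiv Equiv.Perm Cfsg.Agent.S2119

theorem surj (n : ℕ) (hn : 4 ≤ n) (φ : MulAut (alternatingGroup (Fin n)))
    (H : ∀ x : alternatingGroup (Fin n), IsThreeCycle (x : Perm (Fin n)) → IsThreeCycle (φ x : Perm (Fin n))) :
    ∃ σ : Perm (Fin n), MulAut.conjNormal σ = φ := by
  obtain ⟨o, e, u, hoe, hou, heu⟩ : ∃ o e u : Fin n, o ≠ e ∧ o ≠ u ∧ e ≠ u :=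
    ⟨⟨0, by omega⟩, ⟨1, by omega⟩, ⟨2, by omega⟩, by simp, by simp, by simp⟩
  let c : ∀ i : Fin n, alternatingGroup (Fin n) := fun i =>
    if h : i ≠ o ∧ i ≠ e then ⟨cyc o e i, (cyc_three hoe h.1.symm h.2.symm).mem_alternatingGroup⟩ else 1
  have hc : ∀ i, i ≠ o → i ≠ e → (c i : Perm (Fin n)) = cyc o e i := fun i h1 h2 => by simp [c, h1, h2]
  have hd : ∀ i, i ≠ o → i ≠ e → IsThreeCycle (φ (c i) : Perm (Fin n)) := fun i h1 h2 =>
    H _ (by rw [hc i h1 h2]; exact cyc_three hoe h1.symm h2.symm)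
  have hgen : ∀ g : alternatingGroup (Fin n), g ∈ Subgroup.closure (c '' {i | i ≠ o ∧ i ≠ e}) := by
    set K := (Subgroup.closure (c '' {i | i ≠ o ∧ i ≠ e})).map (alternatingGroup (Fin n)).subtype with hK
    have hle : alternatingGroup (Fin n) ≤ K := by
      rw [← closure_three_cycles_eq_alternating, Subgroup.closure_le]
      intro g hg
      obtain ⟨a, b, d, hab, had, hbd, rfl⟩ := exists_cyc hg
      exact cyc_mem K o e hoe (fun i h1 h2 => ⟨c i, Subgroup.subset_closure ⟨i, ⟨h1, h2⟩, rfl⟩, hc i h1 h2⟩)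
        a b d hab had hbd
    intro g
    obtain ⟨g', hg', he'⟩ := hle g.2
    exact (Subtype.ext he' : g' = g) ▸ hg'
  obtain ⟨P, Q, R, hPQ, hPR, hQR, hu⟩ := exists_cyc (hd u hou.symm heu.symm)
  have hrel : ∀ i j, i ≠ o → i ≠ e → j ≠ o → j ≠ e → i ≠ j →
      (φ (c i) : Perm (Fin n)) * φ (c j) * (φ (c i) * φ (c j)) = 1 ∧
      (φ (c i) : Perm (Fin n)) * φ (c j) ≠ 1 ∧ (φ (c j) : Perm (Fin n)) ≠ φ (c i) := by
    intro i j hi1 hi2 hj1 hj2 hij
    have hpt : ∀ z, z = cyc o e i (cyc o e j z) → z ≠ o := by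
      intro z hz ho
      subst ho
      rw [cyc_fst hoe hj1.symm, cyc_snd hi1.symm hi2.symm] at hz
      exact hi1 hz.symm
    have hsq : c i * c j * (c i * c j) = 1 := by
      refine Subtype.ext (Equiv.ext fun z => ?_)
      simp only [Subgroup.coe_mul, hc i hi1 hi2, hc j hj1 hj2, Perm.mul_apply, Subgroup.coe_one, Perm.one_apply]
      by_cases z1 : z = o
      · subst z1
        rw [cyc_fst hoe hj1.symm, cyc_snd hi1.symm hi2.symm, cyc_out hi1 hi2 hij, cyc_thd]
      by_cases z2 : z = e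
      · subst z2
        rw [cyc_snd hj1.symm hj2.symm, cyc_out hj1 hj2 hij.symm, cyc_thd, cyc_fst hoe hi1.symm]
      by_cases z3 : z = i
      · subst z3
        rw [cyc_out hi1 hi2 hij, cyc_thd, cyc_fst hoe hj1.symm, cyc_snd hi1.symm hi2.symm]
      by_cases z4 : z = j
      · subst z4
        rw [cyc_thd, cyc_fst hoe hi1.symm, cyc_snd hj1.symm hj2.symm, cyc_out hj1 hj2 hij.symm]
      rw [cyc_out z1 z2 z4, cyc_out z1 z2 z3, cyc_out z1 z2 z4, cyc_out z1 z2 z3]
    refine ⟨?_, ?_, ?_⟩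
    · have h := congrArg (fun g => (φ g : Perm (Fin n))) hsq
      simpa using h
    · intro h
      have h' : c i * c j = 1 := φ.injective (Subtype.ext (by simpa using h))
      refine hpt o ?_ rfl
      have := congrArg (fun g : alternatingGroup (Fin n) => (g : Perm (Fin n)) o) h'
      simpa [hc i hi1 hi2, hc j hj1 hj2] using this.symm
    · intro h
      have h' : c j = c i := φ.injective (Subtype.ext h)
      have := congrArg (fun g : alternatingGroup (Fin n) => (g : Perm (Fin n)) e) h'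
      simp only [hc i hi1 hi2, hc j hj1 hj2, cyc_snd hi1.symm hi2.symm, cyc_snd hj1.symm hj2.symm] at this
      exact hij this.symm
  have hform : ∀ i, i ≠ o → i ≠ e → i ≠ u → ∃ x, x ≠ P ∧ x ≠ Q ∧ x ≠ R ∧
      ((φ (c i) : Perm (Fin n)) = cyc P Q x ∨ (φ (c i) : Perm (Fin n)) = cyc Q R x ∨
        (φ (c i) : Perm (Fin n)) = cyc R P x) := by
    intro i hi1 hi2 hiu
    obtain ⟨a, b, d, hab, had, hbd, he⟩ := exists_cyc (hd i hi1 hi2)
    obtain ⟨r1, r2, r3⟩ := hrel u i hou.symm heu.symm hi1 hi2 (Ne.symm hiu)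
    rw [hu, he] at r1 r2 r3
    rw [he]
    exact edge hPQ hPR hQR hab had hbd r1 r2 r3
  choose! x hxP hxQ hxR hx using hform
  obtain ⟨A, B, C', hAB, hAC, hBC, hu', hall⟩ : ∃ A B C', A ≠ B ∧ A ≠ C' ∧ B ≠ C' ∧
      (φ (c u) : Perm (Fin n)) = cyc A B C' ∧
      ∀ i, i ≠ o → i ≠ e → i ≠ u → x i ≠ A ∧ x i ≠ B ∧ (φ (c i) : Perm (Fin n)) = cyc A B (x i) := by
    have r1 : cyc P Q R = cyc Q R P := cyc_rot hPQ hPR hQR
    have r2 : cyc P Q R = cyc R P Q := by rw [r1, cyc_rot hQR hPQ.symm hPR.symm]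
    have hdiff : ∀ i j, i ≠ o → i ≠ e → i ≠ u → j ≠ o → j ≠ e → j ≠ u →
        (((φ (c i) : Perm (Fin n)) = cyc P Q (x i) ∧ (φ (c j) : Perm (Fin n)) = cyc Q R (x j)) ∨
        ((φ (c i) : Perm (Fin n)) = cyc Q R (x i) ∧ (φ (c j) : Perm (Fin n)) = cyc R P (x j)) ∨
        ((φ (c i) : Perm (Fin n)) = cyc R P (x i) ∧ (φ (c j) : Perm (Fin n)) = cyc P Q (x j))) → x i = x j := by
      intro i j hi1 hi2 hi3 hj1 hj2 hj3 hh
      by_contra hne
      have hij : i ≠ j := fun e => hne (e ▸ rfl)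
      have hr := (hrel i j hi1 hi2 hj1 hj2 hij).1
      rcases hh with ⟨ei, ej⟩ | ⟨ei, ej⟩ | ⟨ei, ej⟩ <;> rw [ei, ej] at hr
      · exact pair_ne hPQ hPR hQR (hxP i hi1 hi2 hi3) (hxQ i hi1 hi2 hi3) (hxR i hi1 hi2 hi3)
          (hxP j hj1 hj2 hj3) hne hr
      · exact pair_ne hQR hPQ.symm hPR.symm (hxQ i hi1 hi2 hi3) (hxR i hi1 hi2 hi3) (hxP i hi1 hi2 hi3)
          (hxQ j hj1 hj2 hj3) hne hr
      · exact pair_ne hPR.symm hQR.symm hPQ (hxR i hi1 hi2 hi3) (hxP i hi1 hi2 hi3) (hxQ i hi1 hi2 hi3)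
          (hxR j hj1 hj2 hj3) hne hr
    by_cases hw : ∃ y, ∀ i, i ≠ o → i ≠ e → i ≠ u → x i = y
    · obtain ⟨y, hy⟩ := hw
      by_cases hone : ∀ i j, i ≠ o → i ≠ e → i ≠ u → j ≠ o → j ≠ e → j ≠ u → i = j
      · by_cases hex : ∃ i, i ≠ o ∧ i ≠ e ∧ i ≠ u
        · obtain ⟨i, hi1, hi2, hi3⟩ := hex
          rcases hx i hi1 hi2 hi3 with h | h | h
          · exact ⟨P, Q, R, hPQ, hPR, hQR, hu, fun j a b d => by
              obtain rfl := hone j i a b d hi1 hi2 hi3; exact ⟨hxP j a b d, hxQ j a b d, h⟩⟩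
          · exact ⟨Q, R, P, hQR, hPQ.symm, hPR.symm, hu.trans r1, fun j a b d => by
              obtain rfl := hone j i a b d hi1 hi2 hi3; exact ⟨hxQ j a b d, hxR j a b d, h⟩⟩
          · exact ⟨R, P, Q, hPR.symm, hQR.symm, hPQ, hu.trans r2, fun j a b d => by
              obtain rfl := hone j i a b d hi1 hi2 hi3; exact ⟨hxR j a b d, hxP j a b d, h⟩⟩
        · push Not at hex
          exact ⟨P, Q, R, hPQ, hPR, hQR, hu, fun j a b d => absurd (hex j a b) d⟩
      · exfalso
        push Not at hone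
        obtain ⟨i, j, hi1, hi2, hi3, hj1, hj2, hj3, hij⟩ := hone
        have hn5 : 5 ≤ n := by
          have : ({o, e, u, i, j} : Finset (Fin n)).card = 5 := by
            simp [hoe, hou, heu, Ne.symm hi1, Ne.symm hi2, Ne.symm hi3, Ne.symm hj1, Ne.symm hj2, Ne.symm hj3, hij]
          have := Finset.card_le_univ ({o, e, u, i, j} : Finset (Fin n))
          rw [Fintype.card_fin] at this
          omega
        obtain ⟨z, hz⟩ := Finset.card_pos.mp (show 0 < (({P, Q, R, y} : Finset (Fin n))ᶜ).card by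
          rw [Finset.card_compl, Fintype.card_fin]
          have := Finset.card_le_four (a := P) (b := Q) (c := R) (d := y)
          omega)
        simp only [Finset.mem_compl, Finset.mem_insert, Finset.mem_singleton, not_or] at hz
        have hfix : ∀ g : alternatingGroup (Fin n), (φ g : Perm (Fin n)) z = z := by
          intro g
          induction hgen g using Subgroup.closure_induction with
          | mem w hw =>
            obtain ⟨k, ⟨hk1, hk2⟩, rfl⟩ := hw
            by_cases hk3 : k = u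
            · rw [hk3, hu]; exact cyc_out hz.1 hz.2.1 hz.2.2.1
            · have hy' := hy k hk1 hk2 hk3
              rcases hx k hk1 hk2 hk3 with h | h | h <;> rw [h, hy']
              · exact cyc_out hz.1 hz.2.1 hz.2.2.2
              · exact cyc_out hz.2.1 hz.2.2.1 hz.2.2.2
              · exact cyc_out hz.2.2.1 hz.1 hz.2.2.2
          | one => simp
          | mul a b _ _ ha hb => simp [ha, hb]
          | inv a _ ha =>
            rw [map_inv, Subgroup.coe_inv, Perm.inv_eq_iff_eq]; exact ha.symm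
        obtain ⟨g, hg⟩ := φ.surjective ⟨cyc z P Q, (cyc_three hz.1 hz.2.1 hPQ).mem_alternatingGroup⟩
        have := hfix g
        rw [hg] at this
        rw [cyc_fst hz.1 hz.2.1] at this
        exact hz.1 this.symm
    · have key : ∀ i j, i ≠ o → i ≠ e → i ≠ u → j ≠ o → j ≠ e → j ≠ u →
          ((φ (c i) : Perm (Fin n)) = cyc P Q (x i) → (φ (c j) : Perm (Fin n)) = cyc P Q (x j)) ∧
          ((φ (c i) : Perm (Fin n)) = cyc Q R (x i) → (φ (c j) : Perm (Fin n)) = cyc Q R (x j)) ∧
          ((φ (c i) : Perm (Fin n)) = cyc R P (x i) → (φ (c j) : Perm (Fin n)) = cyc R P (x j)) := by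
        intro i j hi1 hi2 hi3 hj1 hj2 hj3
        -- if `i, j` differ then every other image shares the third point
        have gen : x i = x j → ((φ (c i) : Perm (Fin n)) ≠ φ (c j)) → False := by
          intro hxy hne'
          apply hw
          refine ⟨x i, fun k hk1 hk2 hk3 => ?_⟩
          rcases hx i hi1 hi2 hi3 with h | h | h <;> rcases hx j hj1 hj2 hj3 with h' | h' | h' <;>
            rcases hx k hk1 hk2 hk3 with g | g | g <;>
            first
              | (refine absurd ?_ hne'; rw [h, h', hxy]; done)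
              | exact hdiff k i hk1 hk2 hk3 hi1 hi2 hi3 (Or.inl ⟨g, h⟩)
              | exact hdiff k i hk1 hk2 hk3 hi1 hi2 hi3 (Or.inr (Or.inl ⟨g, h⟩))
              | exact hdiff k i hk1 hk2 hk3 hi1 hi2 hi3 (Or.inr (Or.inr ⟨g, h⟩))
              | exact (hdiff i k hi1 hi2 hi3 hk1 hk2 hk3 (Or.inl ⟨h, g⟩)).symm
              | exact (hdiff i k hi1 hi2 hi3 hk1 hk2 hk3 (Or.inr (Or.inl ⟨h, g⟩))).symm
              | exact (hdiff i k hi1 hi2 hi3 hk1 hk2 hk3 (Or.inr (Or.inr ⟨h, g⟩))).symm
              | exact hxy ▸ hdiff k j hk1 hk2 hk3 hj1 hj2 hj3 (Or.inl ⟨g, h'⟩)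
              | exact hxy ▸ hdiff k j hk1 hk2 hk3 hj1 hj2 hj3 (Or.inr (Or.inl ⟨g, h'⟩))
              | exact hxy ▸ hdiff k j hk1 hk2 hk3 hj1 hj2 hj3 (Or.inr (Or.inr ⟨g, h'⟩))
              | exact hxy ▸ (hdiff j k hj1 hj2 hj3 hk1 hk2 hk3 (Or.inl ⟨h', g⟩)).symm
              | exact hxy ▸ (hdiff j k hj1 hj2 hj3 hk1 hk2 hk3 (Or.inr (Or.inl ⟨h', g⟩))).symm
              | exact hxy ▸ (hdiff j k hj1 hj2 hj3 hk1 hk2 hk3 (Or.inr (Or.inr ⟨h', g⟩))).symm
        have hP := hxP i hi1 hi2 hi3
        have hQ := hxQ i hi1 hi2 hi3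
        have hR := hxR i hi1 hi2 hi3
        refine ⟨fun h => ?_, fun h => ?_, fun h => ?_⟩ <;> rcases hx j hj1 hj2 hj3 with h' | h' | h' <;>
          first
            | exact h'
            | (exfalso
               have hh : x i = x j := by
                 first
                   | exact hdiff i j hi1 hi2 hi3 hj1 hj2 hj3 (Or.inl ⟨h, h'⟩)
                   | exact hdiff i j hi1 hi2 hi3 hj1 hj2 hj3 (Or.inr (Or.inl ⟨h, h'⟩))
                   | exact hdiff i j hi1 hi2 hi3 hj1 hj2 hj3 (Or.inr (Or.inr ⟨h, h'⟩))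
                   | exact (hdiff j i hj1 hj2 hj3 hi1 hi2 hi3 (Or.inl ⟨h', h⟩)).symm
                   | exact (hdiff j i hj1 hj2 hj3 hi1 hi2 hi3 (Or.inr (Or.inl ⟨h', h⟩))).symm
                   | exact (hdiff j i hj1 hj2 hj3 hi1 hi2 hi3 (Or.inr (Or.inr ⟨h', h⟩))).symm
               refine gen hh fun heq => ?_
               rw [h, h', ← hh] at heq
               have t1 := congrArg (fun g : Perm (Fin n) => g (x i)) heq
               simp only [cyc_thd] at t1
               first | exact hPQ t1 | exact hPQ t1.symm | exact hQR t1 | exact hQR t1.symm | exact hPR t1 | exact hPR t1.symm)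
      push Not at hw
      obtain ⟨i, hi1, hi2, hi3, -⟩ := hw P
      rcases hx i hi1 hi2 hi3 with h | h | h
      · exact ⟨P, Q, R, hPQ, hPR, hQR, hu, fun j a b d =>
          ⟨hxP j a b d, hxQ j a b d, (key i j hi1 hi2 hi3 a b d).1 h⟩⟩
      · exact ⟨Q, R, P, hQR, hPQ.symm, hPR.symm, hu.trans r1, fun j a b d =>
          ⟨hxQ j a b d, hxR j a b d, (key i j hi1 hi2 hi3 a b d).2.1 h⟩⟩
      · exact ⟨R, P, Q, hPR.symm, hQR.symm, hPQ, hu.trans r2, fun j a b d =>
          ⟨hxR j a b d, hxP j a b d, (key i j hi1 hi2 hi3 a b d).2.2 h⟩⟩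
  let f : Fin n → Fin n := fun i => if i = o then A else if i = e then B else if i = u then C' else x i
  have hfc : ∀ i, i ≠ o → i ≠ e → (φ (c i) : Perm (Fin n)) = cyc A B (f i) ∧ f i ≠ A ∧ f i ≠ B := by
    intro i h1 h2
    by_cases h3 : i = u
    · subst h3; simp only [f, h1, h2, if_false, if_true]
      exact ⟨hu', hAC.symm, hBC.symm⟩
    · obtain ⟨q1, q2, q3⟩ := hall i h1 h2 h3
      simp only [f, h1, h2, h3, if_false]
      exact ⟨q3, q1, q2⟩
  have hfo : f o = A := by simp [f]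
  have hfe : f e = B := by simp [f, hoe.symm]
  have hinj : Function.Injective f := by
    intro i j hij
    by_contra hne
    have hA : ∀ k, k ≠ o → f k ≠ A := fun k hk => by
      by_cases hke : k = e
      · rw [hke, hfe]; exact hAB.symm
      · exact (hfc k hk hke).2.1
    have hB : ∀ k, k ≠ e → f k ≠ B := fun k hk => by
      by_cases hko : k = o
      · rw [hko, hfo]; exact hAB
      · exact (hfc k hko hk).2.2
    by_cases i1 : i = o
    · subst i1; exact hA j (Ne.symm hne) (by rw [← hij, hfo])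
    by_cases j1 : j = o
    · subst j1; exact hA i hne (by rw [hij, hfo])
    by_cases i2 : i = e
    · subst i2; exact hB j (Ne.symm hne) (by rw [← hij, hfe])
    by_cases j2 : j = e
    · subst j2; exact hB i hne (by rw [hij, hfe])
    have := (hrel i j i1 i2 j1 j2 hne).2.2
    rw [(hfc i i1 i2).1, (hfc j j1 j2).1, hij] at this
    exact this rfl
  let σ : Perm (Fin n) := Equiv.ofBijective f (Finite.injective_iff_bijective.mp hinj)
  refine ⟨σ, MulEquiv.ext fun g => ?_⟩
  induction hgen g using Subgroup.closure_induction with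
  | mem w hw =>
    obtain ⟨k, ⟨hk1, hk2⟩, rfl⟩ := hw
    refine Subtype.ext ?_
    rw [MulAut.conjNormal_apply, hc k hk1 hk2, cyc_conj, (hfc k hk1 hk2).1]
    show cyc (f o) (f e) (f k) = _
    rw [hfo, hfe]
  | one => simp
  | mul a b _ _ ha hb => rw [map_mul, map_mul, ha, hb]
  | inv a _ ha => rw [map_inv, map_inv, ha]


theorem conj_inj (n : ℕ) (hn : 4 ≤ n) :
    Function.Injective (MulAut.conjNormal : Perm (Fin n) →* MulAut (alternatingGroup (Fin n))) := by
  intro a b hab
  have h1 : b⁻¹ * a = 1 := eq_one_of_commute n hn _ fun g hg => by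
    have h2 : (MulAut.conjNormal (b⁻¹ * a) : MulAut (alternatingGroup (Fin n))) ⟨g, hg⟩ = ⟨g, hg⟩ := by
      rw [map_mul, map_inv, hab, inv_mul_cancel]; rfl
    exact congrArg Subtype.val h2
  exact (inv_mul_eq_one.1 h1).symm

theorem abelian_of_lt (p n : ℕ) [Fact p.Prime] (hn : n < p ^ 2) (P : Subgroup (Perm (Fin n)))
    (hP : IsPGroup p P) : ∀ a ∈ P, ∀ b ∈ P, a * b = b * a := by
  intro a ha b hb
  refine Equiv.ext fun x => ?_
  set A : P := ⟨a, ha⟩
  set B : P := ⟨b, hb⟩
  have hmem : B⁻¹ * A⁻¹ * B * A ∈ MulAction.stabilizer P x := by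
    obtain ⟨j, hj⟩ := hP.index (MulAction.stabilizer P x)
    rcases j with _ | j
    · rw [pow_zero, Subgroup.index_eq_one] at hj
      rw [hj]; exact Subgroup.mem_top _
    have hle : (MulAction.stabilizer P x).index ≤ n := by
      rw [MulAction.index_stabilizer]
      exact le_trans (Set.ncard_le_ncard (Set.subset_univ _)) (by simp)
    have hj0 : j = 0 := by
      by_contra h0
      have : p ^ 2 ≤ p ^ (j + 1) := Nat.pow_le_pow_right (Fact.out : p.Prime).pos (by omega)
      omega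
    rw [hj0, zero_add, pow_one] at hj
    obtain ⟨k, hk⟩ := hP.exists_card_eq
    have hk0 : k ≠ 0 := by
      intro h0
      have h2 := Subgroup.index_dvd_card (MulAction.stabilizer P x)
      rw [hj, hk, h0, pow_zero, Nat.dvd_one] at h2
      exact (Fact.out : p.Prime).one_lt.ne' h2
    haveI hN : (MulAction.stabilizer P x).Normal := Subgroup.normal_of_index_eq_minFac_card (by
      rw [hj, hk, Nat.Prime.pow_minFac Fact.out hk0])
    haveI : IsCyclic (P ⧸ MulAction.stabilizer P x) := isCyclic_of_prime_card (p := p) (by rw [← Subgroup.index_eq_card]; exact hj)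
    letI : CommGroup (P ⧸ MulAction.stabilizer P x) := IsCyclic.commGroup
    rw [← QuotientGroup.eq_one_iff]
    simp only [QuotientGroup.mk_mul, QuotientGroup.mk_inv]
    rw [mul_assoc, mul_comm (B : P ⧸ MulAction.stabilizer P x)]
    group
  have h3 : b⁻¹ (a⁻¹ (b (a x))) = x := hmem
  rw [Perm.inv_eq_iff_eq, Perm.inv_eq_iff_eq] at h3
  simp only [Perm.mul_apply]
  exact h3.symm

theorem six_sq (φ : MulAut (alternatingGroup (Fin 6))) (x : alternatingGroup (Fin 6))
    (hx : IsThreeCycle (x : Perm (Fin 6))) : IsThreeCycle (φ (φ x) : Perm (Fin 6)) := by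
  classical
  have hord : ∀ (ψ : MulAut (alternatingGroup (Fin 6))) (y : alternatingGroup (Fin 6)),
      orderOf (y : Perm (Fin 6)) = 3 → orderOf (ψ y : Perm (Fin 6)) = 3 := by
    intro ψ y hy
    rw [Subgroup.orderOf_coe, MulEquiv.orderOf_eq, ← Subgroup.orderOf_coe, hy]
  have htype : ∀ g : Perm (Fin 6), orderOf g = 3 → ¬ IsThreeCycle g → g.cycleType = {3, 3} := by
    intro g hg hng
    obtain ⟨k, hk⟩ := cycleType_prime_order (σ := g) (by rw [hg]; exact Nat.prime_three)
    rw [hg] at hk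
    have hs := sum_cycleType_le g
    rw [hk, Multiset.sum_replicate, smul_eq_mul, Fintype.card_fin] at hs
    obtain rfl | rfl : k = 0 ∨ k = 1 := by omega
    · exact absurd hk hng
    · exact hk
  by_cases h1 : IsThreeCycle (φ x : Perm (Fin 6))
  · obtain ⟨g, hg⟩ := isConj_iff.1 (alternatingGroup.isThreeCycle_isConj (by simp) hx h1)
    rw [← hg, map_mul, map_mul, map_inv, Subgroup.coe_mul, Subgroup.coe_mul, Subgroup.coe_inv,
      IsThreeCycle, cycleType_conj]
    exact h1
  have hout : ∀ y : alternatingGroup (Fin 6), IsThreeCycle (y : Perm (Fin 6)) → ¬ IsThreeCycle (φ y : Perm (Fin 6)) := by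
    intro y hy hc
    apply h1
    obtain ⟨g, hg⟩ := isConj_iff.1 (alternatingGroup.isThreeCycle_isConj (by simp) hy hx)
    rw [← hg, map_mul, map_mul, map_inv, Subgroup.coe_mul, Subgroup.coe_mul, Subgroup.coe_inv,
      IsThreeCycle, cycleType_conj]
    exact hc
  by_contra h2
  let T : Finset (Perm (Fin 6)) := {g | g.cycleType = {3}}
  let D : Finset (Perm (Fin 6)) := {g | g.cycleType = {3, 3}}
  have hT : T.card = 40 := by
    rw [show T.card = _ from card_of_cycleType (Fin 6) {3}]; decide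
  have hD : D.card = 40 := by
    rw [show D.card = _ from card_of_cycleType (Fin 6) {3, 3}]; decide
  let f : (g : Perm (Fin 6)) → g ∈ T → Perm (Fin 6) := fun g hg =>
    (φ ⟨g, (show IsThreeCycle g from (Finset.mem_filter.1 hg).2).mem_alternatingGroup⟩ : Perm (Fin 6))
  have hfD : ∀ g hg, f g hg ∈ D := fun g hg => Finset.mem_filter.2 ⟨Finset.mem_univ _,
    htype _ (hord φ _ (IsThreeCycle.orderOf (Finset.mem_filter.1 hg).2)) (hout _ (Finset.mem_filter.1 hg).2)⟩
  have hsurj := Finset.surj_on_of_inj_on_of_card_le f hfD (fun a b ha hb hab =>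
    congrArg Subtype.val (φ.injective (Subtype.ext hab))) (by rw [hT, hD])
  have hx2 : (φ (φ x) : Perm (Fin 6)) ∈ D := Finset.mem_filter.2 ⟨Finset.mem_univ _,
    htype _ (hord φ _ (hord φ x hx.orderOf)) h2⟩
  obtain ⟨g, hg, hge⟩ := hsurj _ hx2
  have h3 : φ x = ⟨g, (show IsThreeCycle g from (Finset.mem_filter.1 hg).2).mem_alternatingGroup⟩ :=
    φ.injective (Subtype.ext hge)
  apply h1
  rw [h3]
  exact (Finset.mem_filter.1 hg).2

theorem mem_range (n : ℕ) (hn : 5 ≤ n) (φ : MulAut (alternatingGroup (Fin n))) (h : n ≠ 6 ∨ Odd (orderOf φ)) :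
    ∃ σ : Perm (Fin n), MulAut.conjNormal σ = φ := by
  by_cases h6 : n = 6
  · subst h6
    refine surj 6 (by norm_num) φ fun x hx => ?_
    obtain ⟨m, hm⟩ := h.resolve_left (fun h => h rfl)
    have hk : ∀ k : ℕ, IsThreeCycle (((φ ^ 2) ^ k) x : Perm (Fin 6)) := by
      intro k
      induction k with
      | zero => simpa using hx
      | succ k ih => rw [pow_succ', MulAut.mul_apply, pow_two, MulAut.mul_apply]; exact six_sq φ _ ih
    have h2 := hk (m + 1)
    rw [← pow_mul, show 2 * (m + 1) = orderOf φ + 1 by omega, pow_succ, pow_orderOf_eq_one, one_mul] at h2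
    exact h2
  · exact surj n (by omega) φ fun x hx => image_three n (by omega) h6 φ x hx

/-- Let n ≥ 5 and let G be a group of automorphisms of the alternating group of degree n containing all inner automorphisms. If p ≠ q are primes and G has no element of order pq, then every Sylow p-subgroup of G is abelian or every Sylow q-subgroup of G is abelian. -/
theorem result (n : ℕ) (hn : 5 ≤ n) (G : Subgroup (MulAut (alternatingGroup (Fin n))))
    (hG : (MulAut.conj : alternatingGroup (Fin n) →* MulAut (alternatingGroup (Fin n))).range ≤ G)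
    (p q : ℕ) [Fact p.Prime] [Fact q.Prime] (hpq : p ≠ q) (h : ∀ g : G, orderOf g ≠ p * q) :
    (∀ P : Sylow p G, IsMulCommutative (P : Subgroup G)) ∨ (∀ Q : Sylow q G, IsMulCommutative (Q : Subgroup G)) := by
  have hp : p.Prime := Fact.out
  have hq : q.Prime := Fact.out
  have hinj := conj_inj n (by omega)
  have main : ∀ r : ℕ, r.Prime → n < r ^ 2 → ∀ R : Subgroup G, IsPGroup r R → IsMulCommutative R := by
    intro r hr hlt R hR
    haveI : Fact r.Prime := ⟨hr⟩
    have hodd : Odd r := hr.odd_of_ne_two (fun e => by subst e; norm_num at hlt; omega)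
    set R' := (R.map G.subtype).comap (MulAut.conjNormal : Perm (Fin n) →* MulAut (alternatingGroup (Fin n)))
    have hR' : IsPGroup r R' := (hR.map G.subtype).comap_of_injective _ hinj
    have hab := abelian_of_lt r n hlt R' hR'
    refine ⟨⟨fun a b => Subtype.ext (Subtype.ext ?_)⟩⟩
    have hr' : ∀ c : R, ∃ σ : Perm (Fin n), MulAut.conjNormal σ = ((c : G) : MulAut (alternatingGroup (Fin n))) := by
      intro c
      refine mem_range n hn _ (Or.inr ?_)
      obtain ⟨j, hj⟩ := IsPGroup.iff_orderOf.1 hR c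
      rw [Subgroup.orderOf_coe, Subgroup.orderOf_coe, hj]
      exact hodd.pow
    obtain ⟨s, hs⟩ := hr' a
    obtain ⟨t, ht⟩ := hr' b
    have hs' : s ∈ R' := ⟨_, a.2, hs.symm⟩
    have ht' : t ∈ R' := ⟨_, b.2, ht.symm⟩
    have := congrArg (MulAut.conjNormal : Perm (Fin n) →* MulAut (alternatingGroup (Fin n))) (hab s hs' t ht')
    rw [map_mul, map_mul, hs, ht] at this
    exact this
  by_cases hpn : n < p ^ 2
  · exact Or.inl fun P => main p hp hpn _ P.isPGroup'
  by_cases hqn : n < q ^ 2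
  · exact Or.inr fun Q => main q hq hqn _ Q.isPGroup'
  exfalso
  push Not at hpn hqn
  have key : ∀ a b : ℕ, a.Prime → b.Prime → a ≠ 2 → b ≠ a → b ^ 2 ≤ n → a ^ 2 ≤ n → ∃ g : G, orderOf g = a * b := by
    intro a b ha hb ha2 hab hbn han
    have ha3 : 3 ≤ a := by have := ha.two_le; omega
    have hb2 := hb.two_le
    have hao : Odd a := ha.odd_of_ne_two ha2
    have hab' : Nat.lcm a b = a * b := ((Nat.coprime_primes ha hb).2 (Ne.symm hab)).lcm_eq_mul
    obtain ⟨σ, hσe, hσo⟩ : ∃ σ : Perm (Fin n), σ ∈ alternatingGroup (Fin n) ∧ orderOf σ = a * b := by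
      by_cases hb' : b = 2
      · subst hb'
        obtain ⟨σ, hσ⟩ := (Equiv.Perm.exists_with_cycleType_iff (α := Fin n) (m := a ::ₘ 2 ::ₘ {2})).2
          ⟨by simp only [Multiset.sum_cons, Multiset.sum_singleton, Fintype.card_fin]; nlinarith,
           by intro c hc; simp at hc; rcases hc with rfl | rfl <;> omega⟩
        refine ⟨σ, ?_, ?_⟩
        · rw [Equiv.Perm.mem_alternatingGroup, sign_of_cycleType, hσ]
          obtain ⟨c, rfl⟩ := hao
          simp only [Multiset.sum_cons, Multiset.sum_singleton, Multiset.card_cons, Multiset.card_singleton]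
          exact Even.neg_one_pow ⟨c + 4, by omega⟩
        · rw [← lcm_cycleType, hσ]
          simp only [Multiset.lcm_cons, Multiset.lcm_singleton, normalize_eq, lcm_eq_nat_lcm, Nat.lcm_self]
          exact hab'
      · have hbo : Odd b := hb.odd_of_ne_two hb'
        obtain ⟨σ, hσ⟩ := (Equiv.Perm.exists_with_cycleType_iff (α := Fin n) (m := a ::ₘ {b})).2
          ⟨by simp only [Multiset.sum_cons, Multiset.sum_singleton, Fintype.card_fin]; nlinarith,
           by intro c hc; simp at hc; rcases hc with rfl | rfl <;> omega⟩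
        refine ⟨σ, ?_, ?_⟩
        · rw [Equiv.Perm.mem_alternatingGroup, sign_of_cycleType, hσ]
          obtain ⟨c, rfl⟩ := hao
          obtain ⟨d, rfl⟩ := hbo
          simp only [Multiset.sum_cons, Multiset.sum_singleton, Multiset.card_cons, Multiset.card_singleton]
          exact Even.neg_one_pow ⟨c + d + 2, by omega⟩
        · rw [← lcm_cycleType, hσ]
          simp only [Multiset.lcm_cons, Multiset.lcm_singleton, normalize_eq, lcm_eq_nat_lcm]
          exact hab'
    refine ⟨⟨MulAut.conjNormal σ, hG ⟨⟨σ, hσe⟩, ?_⟩⟩, ?_⟩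
    · exact MulEquiv.ext fun y => Subtype.ext (by simp [MulAut.conjNormal_apply])
    · rw [← Subgroup.orderOf_coe, orderOf_injective _ hinj, hσo]
  by_cases hp2 : p = 2
  · obtain ⟨g, hg⟩ := key q p hq hp (fun h => hpq (hp2.trans h.symm)) hpq hpn hqn
    exact h g (hg.trans (mul_comm q p))
  · obtain ⟨g, hg⟩ := key p q hp hq hp2 (Ne.symm hpq) hqn hpn
    exact h g hg

end Cfsg.Agent.S4231
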