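import Cfsg.Statements.S3335


set_option autoImplicit false
open Cfsg

namespace Cfsg.Agent.S3335

/-- Moore's relations. -/
def MRel {G : Type*} [Group G] (x : ℕ → G) (m : ℕ) : Prop :=
  (∀ i, i < m → i = 0 → x i ^ 3 = 1) ∧ (∀ i, i < m → 1 ≤ i → x i ^ 2 = 1) ∧
  (∀ i, i + 1 < m → (x i * x (i + 1)) ^ 3 = 1) ∧ ∀ i j, j < m → i + 1 < j → (x i * x j) ^ 2 = 1

/-- Descending product `x_k x_{k-1} ⋯` of `t` factors. -/
def desc {G : Type*} [Group G] (x : ℕ → G) (k : ℕ) : ℕ → G
  | 0 => 1
  | t + 1 => desc x k t * x (k - t)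

section Bound

variable {G : Type*} [Group G]

theorem x0_swap {x : ℕ → G} {m : ℕ} (h : MRel x m) {i : ℕ} (hi : 2 ≤ i) (him : i < m) :
    x 0 * x i = x i * x 0 ^ 2 ∧ x i * x 0 = x 0 ^ 2 * x i := by
  have h1 : x 0 ^ 3 = 1 := h.1 0 (by omega) rfl
  have h2 : x i * x i = 1 := by rw [← pow_two]; exact h.2.1 i him (by omega)
  have h3 : x 0 * x i * (x 0 * x i) = 1 := by rw [← pow_two]; exact h.2.2.2 0 i him (by omega)
  have e0 : x 0 ^ 2 = (x 0)⁻¹ := by rw [eq_inv_iff_mul_eq_one, ← pow_succ]; exact h1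
  have ei : (x i)⁻¹ = x i := inv_eq_of_mul_eq_one_right h2
  have e3 : x 0 * x i = x i * x 0 ^ 2 := by
    rw [mul_eq_one_iff_eq_inv.1 h3, mul_inv_rev, ei, e0]
  refine ⟨e3, ?_⟩
  calc x i * x 0 = (x 0)⁻¹ * (x 0 * x i) * x 0 := by group
    _ = (x 0)⁻¹ * (x i * x 0 ^ 2) * x 0 := by rw [e3]
    _ = (x 0)⁻¹ * x i * x 0 ^ 3 := by rw [pow_succ (x 0) 2]; simp [mul_assoc]
    _ = x 0 ^ 2 * x i := by rw [h1, mul_one, e0]

theorem x_comm {x : ℕ → G} {m : ℕ} (h : MRel x m) {i j : ℕ} (hi : 1 ≤ i) (hij : i + 1 < j) (hj : j < m) :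
    x i * x j = x j * x i := by
  have h2 : x i * x i = 1 := by rw [← pow_two]; exact h.2.1 i (by omega) hi
  have h3 : x j * x j = 1 := by rw [← pow_two]; exact h.2.1 j hj (by omega)
  have h4 : x i * x j * (x i * x j) = 1 := by rw [← pow_two]; exact h.2.2.2 i j hj hij
  rw [mul_eq_one_iff_eq_inv.1 h4, mul_inv_rev, inv_eq_of_mul_eq_one_right h2, inv_eq_of_mul_eq_one_right h3]

theorem braid {x : ℕ → G} {m : ℕ} (h : MRel x m) {i : ℕ} (hi : 1 ≤ i) (him : i + 1 < m) :
    x (i + 1) * x i * x (i + 1) = x i * x (i + 1) * x i := by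
  have h2 : x i * x i = 1 := by rw [← pow_two]; exact h.2.1 i (by omega) hi
  have h3 : x (i + 1) * x (i + 1) = 1 := by rw [← pow_two]; exact h.2.1 _ him (by omega)
  have h4 : x i * x (i + 1) * (x i * x (i + 1)) * (x i * x (i + 1)) = 1 := by
    rw [← h.2.2.1 i him, pow_succ, pow_two]
  symm
  calc x i * x (i + 1) * x i = (x i * x (i + 1) * (x i * x (i + 1)) * (x i * x (i + 1))) *
        ((x (i + 1))⁻¹ * (x i)⁻¹ * (x (i + 1))⁻¹) := by group
    _ = _ := by rw [h4, one_mul, inv_eq_of_mul_eq_one_right h2, inv_eq_of_mul_eq_one_right h3]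

theorem braid0 {x : ℕ → G} {m : ℕ} (h : MRel x m) (hm : 1 < m) :
    x 1 * x 0 * x 1 = x 0 ^ 2 * x 1 * x 0 ^ 2 ∧ x 1 * x 0 ^ 2 * x 1 = x 0 * x 1 * x 0 := by
  have h1 : x 0 ^ 3 = 1 := h.1 0 (by omega) rfl
  have e1 : (x 1)⁻¹ = x 1 := inv_eq_of_mul_eq_one_right (by rw [← pow_two]; exact h.2.1 1 hm le_rfl)
  have e0 : x 0 ^ 2 = (x 0)⁻¹ := by rw [eq_inv_iff_mul_eq_one, ← pow_succ]; exact h1
  have h4 : x 0 * x 1 * (x 0 * x 1) * (x 0 * x 1) = 1 := by
    rw [← h.2.2.1 0 hm, pow_succ, pow_two]
  have h5 : x 1 * x 0 * x 1 = (x 0)⁻¹ * (x 1)⁻¹ * (x 0)⁻¹ := by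
    calc x 1 * x 0 * x 1 = (x 0)⁻¹ * (x 0 * x 1 * (x 0 * x 1) * (x 0 * x 1)) * ((x 1)⁻¹ * (x 0)⁻¹) := by group
      _ = _ := by rw [h4, mul_one, mul_assoc]
  constructor
  · rw [h5, e1, e0]
  · have := congrArg (·⁻¹) h5
    simp only [mul_inv_rev, inv_inv, e1] at this
    rw [e0, ← mul_assoc, ← mul_assoc] at *
    exact this

/-- The subgroup generated by the first `k` generators. -/
def H (x : ℕ → G) (k : ℕ) : Subgroup G := Subgroup.closure (x '' {i | i < k})

theorem mem_H (x : ℕ → G) {k i : ℕ} (hi : i < k) : x i ∈ H x k :=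
  Subgroup.subset_closure ⟨i, hi, rfl⟩

/-- An element with index above the factors passes through. -/
theorem desc_comm {x : ℕ → G} {m : ℕ} (h : MRel x m) {k j : ℕ} (hk : k < m) :
    ∀ t, t ≤ k → j + 1 < k + 1 - t → 1 ≤ j → desc x k t * x j = x j * desc x k t := by
  intro t
  induction t with
  | zero => intro _ _ _; simp [desc]
  | succ t ih =>
    intro ht hj hj1
    rw [desc, mul_assoc, ← x_comm h hj1 (show j + 1 < k - t by omega) (by omega), ← mul_assoc,
      ih (by omega) (by omega) hj1, mul_assoc]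

theorem desc_x0 {x : ℕ → G} {m : ℕ} (h : MRel x m) {k : ℕ} (hk : k < m) :
    ∀ t, t + 2 ≤ k + 1 → ∀ e : ℕ, ∃ e' : ℕ, desc x k t * x 0 ^ e = x 0 ^ e' * desc x k t := by
  intro t
  induction t with
  | zero => intro _ e; exact ⟨e, by simp [desc]⟩
  | succ t ih =>
    intro ht e
    have h1 : ∀ e : ℕ, x (k - t) * x 0 ^ e = x 0 ^ (2 * e) * x (k - t) := by
      intro e
      induction e with
      | zero => simp
      | succ e ihe =>
        rw [pow_succ, ← mul_assoc, ihe, mul_assoc, (x0_swap h (by omega) (by omega)).2, ← mul_assoc,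
          ← pow_add]
        ring_nf
    obtain ⟨e', he'⟩ := ih (by omega) (2 * e)
    exact ⟨e', by rw [desc, mul_assoc, h1, ← mul_assoc, he', mul_assoc]⟩

theorem desc_high {x : ℕ → G} {m : ℕ} (h : MRel x m) {k : ℕ} (hk : k < m) :
    ∀ t, t ≤ k → ∀ j, k + 2 ≤ j + t → j ≤ k → desc x k t * x j = x (j - 1) * desc x k t := by
  intro t
  induction t with
  | zero => intro _ j hj hjk; omega
  | succ t ih =>
    intro ht j hj hjk
    rcases Nat.lt_or_ge (k - t + 1) j with h2 | h2
    · rw [desc, mul_assoc, x_comm h (show 1 ≤ k - t by omega) h2 (by omega), ← mul_assoc,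
        ih (by omega) j (by omega) hjk, mul_assoc]
    · obtain ⟨u, rfl⟩ : ∃ u, t = u + 1 := ⟨t - 1, by omega⟩
      obtain ⟨i, rfl⟩ : ∃ i, j = i + 1 := ⟨j - 1, by omega⟩
      rw [desc, desc, show k - u = i + 1 by omega, show k - (u + 1) = i by omega, Nat.add_sub_cancel]
      calc desc x k u * x (i + 1) * x i * x (i + 1)
          = desc x k u * (x (i + 1) * x i * x (i + 1)) := by simp only [mul_assoc]
        _ = desc x k u * x i * x (i + 1) * x i := by
            rw [braid h (by omega) (by omega)]; simp only [mul_assoc]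
        _ = _ := by
            rw [desc_comm h hk u (by omega) (by omega) (by omega)]; simp only [mul_assoc]

/-- Right multiplication of a coset representative by a generator. -/
theorem desc_mul {x : ℕ → G} {m : ℕ} (h : MRel x m) {k : ℕ} (hk : k < m) (t : ℕ) (ht : t ≤ k)
    (j : ℕ) (hj1 : 1 ≤ j) (hjk : j ≤ k) :
    ∃ s, s ≤ k ∧ ∃ a ∈ H x k, desc x k t * x j = a * desc x k s := by
  rcases lt_trichotomy j (k - t) with hlt | heq | hgt
  · exact ⟨t, ht, x j, mem_H x (by omega), desc_comm h hk t ht (by omega) hj1⟩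
  · exact ⟨t + 1, by omega, 1, one_mem _, by rw [one_mul, desc, heq]⟩
  · rcases Nat.lt_or_ge (k - t + 1) j with h2 | h2
    · exact ⟨t, ht, x (j - 1), mem_H x (by omega), desc_high h hk t ht j (by omega) hjk⟩
    · obtain ⟨u, rfl⟩ : ∃ u, t = u + 1 := ⟨t - 1, by omega⟩
      refine ⟨u, by omega, 1, one_mem _, ?_⟩
      rw [one_mul, desc, show k - u = j by omega, mul_assoc, ← pow_two, h.2.1 _ (by omega) hj1, mul_one]

/-- Coset representatives. -/
def rep (x : ℕ → G) (k : ℕ) (t : Fin (k + 3)) : G :=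
  if t.val ≤ k then desc x k t else desc x k k * x 0 ^ (t.val - k)

theorem rep_mul {x : ℕ → G} {m : ℕ} (h : MRel x m) {k : ℕ} (hk : k < m) (t : Fin (k + 3))
    (j : ℕ) (hj : j ≤ k) : ∃ s, ∃ a ∈ H x k, rep x k t * x j = a * rep x k s := by
  have h1 : x 0 ^ 3 = 1 := h.1 0 (by omega) rfl
  have hw : ∀ s, s ≤ k → ∃ t' : Fin (k + 3), rep x k t' = desc x k s :=
    fun s hs => ⟨⟨s, by omega⟩, by simp [rep, hs]⟩
  have htop : ∀ e, ∃ t' : Fin (k + 3), rep x k t' = desc x k k * x 0 ^ e := by
    intro e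
    have he : x 0 ^ e = x 0 ^ (e % 3) := pow_eq_pow_mod e h1
    rcases Nat.eq_zero_or_pos (e % 3) with h0 | h0
    · obtain ⟨t', ht'⟩ := hw k le_rfl
      exact ⟨t', by rw [ht', he, h0, pow_zero, mul_one]⟩
    · refine ⟨⟨k + e % 3, by omega⟩, ?_⟩
      simp only [rep, show ¬ k + e % 3 ≤ k by omega, if_false, Nat.add_sub_cancel_left, he]
  have h0k : ∀ e, 0 < k → ∃ e', desc x k (k - 1) * x 0 ^ e = x 0 ^ e' * desc x k (k - 1) :=
    fun e hk0 => desc_x0 h hk (k - 1) (by omega) e
  by_cases htk : t.val ≤ k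
  · rw [show rep x k t = desc x k t by simp [rep, htk]]
    rcases Nat.eq_zero_or_pos j with rfl | hj0
    · rcases eq_or_lt_of_le htk with he | hlt
      · obtain ⟨s, hs⟩ := htop 1
        exact ⟨s, 1, one_mem _, by rw [one_mul, hs, he, pow_one]⟩
      · obtain ⟨e', he'⟩ := desc_x0 h hk t (by omega) 1
        obtain ⟨s, hs⟩ := hw t htk
        exact ⟨s, x 0 ^ e', pow_mem (mem_H x (by omega)) _, by rw [hs, ← he', pow_one]⟩
    · obtain ⟨s, hs, a, ha, he⟩ := desc_mul h hk t htk j hj0 hj
      obtain ⟨s', hs'⟩ := hw s hs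
      exact ⟨s', a, ha, by rw [hs', he]⟩
  · rw [show rep x k t = desc x k k * x 0 ^ (t.val - k) by simp [rep, htk]]
    rcases Nat.eq_zero_or_pos j with rfl | hj0
    · obtain ⟨s, hs⟩ := htop (t.val - k + 1)
      exact ⟨s, 1, one_mem _, by rw [one_mul, hs, mul_assoc, ← pow_succ]⟩
    · rcases Nat.lt_or_ge 1 j with hj2 | hj2
      · have hsw : ∀ e : ℕ, x 0 ^ e * x j = x j * x 0 ^ (2 * e) := by
          intro e
          induction e with
          | zero => simp
          | succ e ihe =>
            rw [pow_succ', mul_assoc, ihe, ← mul_assoc, (x0_swap h hj2 (by omega)).1, mul_assoc, ← pow_add]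
            ring_nf
        obtain ⟨s, hs⟩ := htop (2 * (t.val - k))
        refine ⟨s, x (j - 1), mem_H x (by omega), ?_⟩
        rw [hs, mul_assoc, hsw, ← mul_assoc, desc_high h hk k le_rfl j (by omega) hj, mul_assoc]
      · obtain rfl : j = 1 := by omega
        obtain ⟨u, rfl⟩ : ∃ u, k = u + 1 := ⟨k - 1, by omega⟩
        have hd : desc x (u + 1) (u + 1) = desc x (u + 1) u * x 1 := by
          rw [desc, Nat.add_sub_cancel_left]
        have hv : t.val - (u + 1) = 1 ∨ t.val - (u + 1) = 2 := by have := t.isLt; omega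
        have hb := braid0 h (show 1 < m by omega)
        rcases hv with hv | hv <;> rw [hv, hd]
        · obtain ⟨e', he'⟩ := h0k 2 (by omega)
          rw [Nat.add_sub_cancel] at he'
          obtain ⟨s, hs⟩ := htop 2
          refine ⟨s, x 0 ^ e', pow_mem (mem_H x (by omega)) _, ?_⟩
          calc desc x (u + 1) u * x 1 * x 0 ^ 1 * x 1 = desc x (u + 1) u * (x 1 * x 0 * x 1) := by
                rw [pow_one]; simp only [mul_assoc]
            _ = desc x (u + 1) u * x 0 ^ 2 * x 1 * x 0 ^ 2 := by rw [hb.1]; simp only [mul_assoc]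
            _ = _ := by rw [he', hs, hd]; simp only [mul_assoc]
        · obtain ⟨e', he'⟩ := h0k 1 (by omega)
          rw [Nat.add_sub_cancel, pow_one] at he'
          obtain ⟨s, hs⟩ := htop 1
          refine ⟨s, x 0 ^ e', pow_mem (mem_H x (by omega)) _, ?_⟩
          calc desc x (u + 1) u * x 1 * x 0 ^ 2 * x 1 = desc x (u + 1) u * (x 1 * x 0 ^ 2 * x 1) := by
                simp only [mul_assoc]
            _ = desc x (u + 1) u * x 0 * x 1 * x 0 := by rw [hb.2]; simp only [mul_assoc]
            _ = _ := by rw [he', hs, hd, pow_one]; simp only [mul_assoc]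

theorem finite_card_H {x : ℕ → G} {m : ℕ} (h : MRel x m) :
    ∀ k, k ≤ m → Finite (H x k) ∧ 2 * Nat.card (H x k) ≤ (k + 2).factorial := by
  intro k
  induction k with
  | zero =>
    intro _
    have h0 : H x 0 = ⊥ := by simp [H]
    rw [h0]
    exact ⟨inferInstance, by simp⟩
  | succ k ih =>
    intro hk
    obtain ⟨hfin, hcard⟩ := ih (by omega)
    let f : H x k × Fin (k + 3) → G := fun p => (p.1 : G) * rep x k p.2
    have hstep : ∀ g ∈ Set.range f, ∀ j, j ≤ k → g * x j ∈ Set.range f := by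
      rintro _ ⟨⟨a, t⟩, rfl⟩ j hj
      obtain ⟨s, b, hb, he⟩ := rep_mul h (by omega) t j hj
      exact ⟨⟨⟨a * b, mul_mem a.2 hb⟩, s⟩, by simp only [f]; rw [mul_assoc (a : G) (rep x k t), he]; simp [mul_assoc]⟩
    have hinv : ∀ j, j ≤ k → ∃ e : ℕ, (x j)⁻¹ = x j ^ e := by
      intro j hj
      rcases Nat.eq_zero_or_pos j with rfl | hj0
      · exact ⟨2, inv_eq_of_mul_eq_one_right (by rw [← pow_succ', h.1 0 (by omega) rfl])⟩
      · exact ⟨1, inv_eq_of_mul_eq_one_right (by rw [pow_one, ← pow_two]; exact h.2.1 j (by omega) hj0)⟩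
    have hsub : ∀ g ∈ H x (k + 1), g ∈ Set.range f := by
      intro g hg
      induction hg using Subgroup.closure_induction_right with
      | one => exact ⟨⟨1, ⟨0, by omega⟩⟩, by simp [f, rep, desc]⟩
      | mul_right a y ha hy iha =>
        obtain ⟨j, hj, rfl⟩ := hy
        exact hstep a iha j (Nat.lt_succ_iff.1 hj)
      | mul_inv_cancel a y ha hy iha =>
        obtain ⟨j, hj, rfl⟩ := hy
        have hjk : j ≤ k := Nat.lt_succ_iff.1 hj
        obtain ⟨e, he⟩ := hinv j hjk
        rw [he]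
        clear he
        induction e with
        | zero => simpa using iha
        | succ e ihe => rw [pow_succ, ← mul_assoc]; exact hstep _ ihe j hjk
    have hr : (Set.range f).Finite := Set.finite_range f
    have hF : Finite (H x (k + 1)) := (hr.subset hsub).to_subtype
    refine ⟨hF, ?_⟩
    have h1 : Nat.card (H x (k + 1)) ≤ Nat.card (H x k) * (k + 3) := by
      rw [← Nat.card_fin (k + 3), ← Nat.card_prod]
      exact (Nat.card_mono hr hsub).trans (Finite.card_range_le f)
    calc 2 * Nat.card (H x (k + 1)) ≤ (2 * Nat.card (H x k)) * (k + 3) := by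
          rw [mul_assoc]; exact Nat.mul_le_mul_left 2 h1
      _ ≤ (k + 2).factorial * (k + 3) := Nat.mul_le_mul_right _ hcard
      _ = _ := by rw [mul_comm]; exact (Nat.factorial_succ _).symm

end Bound

section Image

open Equiv Equiv.Perm

variable {α : Type*} [DecidableEq α] [Fintype α]

theorem commute_swap {a b c d : α} (h1 : a ≠ c) (h2 : a ≠ d) (h3 : b ≠ c) (h4 : b ≠ d) :
    swap a b * swap c d = swap c d * swap a b := by
  have h := Equiv.swap_apply_apply (swap c d) a b
  rw [swap_apply_of_ne_of_ne h1 h2, swap_apply_of_ne_of_ne h3 h4, swap_inv] at h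
  conv_lhs => rw [h]
  rw [mul_assoc, swap_mul_self, mul_one]

theorem pow_three_swap {a b c : α} (hab : a ≠ b) (hac : a ≠ c) (hbc : b ≠ c) :
    (swap a b * swap b c) ^ 3 = 1 := by
  have h : swap a b * swap b c = swap b a * swap b c := by rw [swap_comm a b]
  rw [h, ← (isThreeCycle_swap_mul_swap_same hab.symm hbc hac).orderOf, pow_orderOf_eq_one]

theorem pow_two_swap {a b c d : α} (h1 : a ≠ c) (h2 : a ≠ d) (h3 : b ≠ c) (h4 : b ≠ d) :
    (swap a b * swap c d) ^ 2 = 1 := by
  rw [pow_two]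
  calc swap a b * swap c d * (swap a b * swap c d)
      = swap a b * (swap c d * swap a b) * swap c d := by simp only [mul_assoc]
    _ = swap a b * (swap a b * swap c d) * swap c d := by rw [commute_swap h1 h2 h3 h4]
    _ = 1 := by rw [← mul_assoc, swap_mul_self, one_mul, swap_mul_self]

end Image

/-- The `k`-th point. -/
def pt (m k : ℕ) : Fin (m + 2) := ⟨min k (m + 1), by omega⟩

theorem pt_ne {m a b : ℕ} (hab : a ≠ b) (ha : a ≤ m + 1) (hb : b ≤ m + 1) : pt m a ≠ pt m b := by
  simp only [pt, ne_eq, Fin.mk.injEq]; omega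

open Equiv in
/-- The images of the generators. -/
def gen (m i : ℕ) : Perm (Fin (m + 2)) := swap (pt m 0) (pt m 1) * swap (pt m (i + 1)) (pt m (i + 2))

theorem gen_rel (m : ℕ) : MRel (gen m) m := by
  open Equiv in
  have hc : ∀ i, 1 ≤ i → i < m → swap (pt m 0) (pt m 1) * swap (pt m (i + 1)) (pt m (i + 2)) =
      swap (pt m (i + 1)) (pt m (i + 2)) * swap (pt m 0) (pt m 1) := fun i hi him =>
    commute_swap (pt_ne (by omega) (by omega) (by omega)) (pt_ne (by omega) (by omega) (by omega))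
      (pt_ne (by omega) (by omega) (by omega)) (pt_ne (by omega) (by omega) (by omega))
  have h0 : ∀ B : Perm (Fin (m + 2)), 1 < m → swap (pt m 0) (pt m 1) * swap (pt m 1) (pt m 2) *
      (swap (pt m 0) (pt m 1) * B) = swap (pt m 0) (pt m 2) * B := by
    intro B hm
    have h := Equiv.swap_apply_apply (swap (pt m 0) (pt m 1)) (pt m 1) (pt m 2)
    rw [swap_apply_right, swap_apply_of_ne_of_ne (pt_ne (by omega) (by omega) (by omega))
      (pt_ne (by omega) (by omega) (by omega)), swap_inv] at h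
    rw [h]; simp only [mul_assoc]
  refine ⟨fun i hi hi0 => ?_, fun i hi hi1 => ?_, fun i hi => ?_, fun i j hj hij => ?_⟩
  · subst hi0
    exact pow_three_swap (pt_ne (by omega) (by omega) (by omega)) (pt_ne (by omega) (by omega) (by omega))
      (pt_ne (by omega) (by omega) (by omega))
  · exact pow_two_swap (pt_ne (by omega) (by omega) (by omega)) (pt_ne (by omega) (by omega) (by omega))
      (pt_ne (by omega) (by omega) (by omega)) (pt_ne (by omega) (by omega) (by omega))
  · have he : gen m i * gen m (i + 1) =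
        swap (if i = 0 then pt m 0 else pt m (i + 1)) (pt m (i + 2)) * swap (pt m (i + 2)) (pt m (i + 3)) := by
      rcases Nat.eq_zero_or_pos i with rfl | hi0
      · simp only [gen, if_true]; exact h0 _ (by omega)
      · simp only [gen, show ¬ i = 0 by omega, if_false]
        rw [hc i hi0 (by omega)]
        rw [mul_assoc, swap_mul_self_mul]
    rw [he]
    split <;> exact pow_three_swap (pt_ne (by omega) (by omega) (by omega))
      (pt_ne (by omega) (by omega) (by omega)) (pt_ne (by omega) (by omega) (by omega))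
  · have he : gen m i * gen m j =
        swap (if i = 0 then pt m 0 else pt m (i + 1)) (pt m (i + 2)) * swap (pt m (j + 1)) (pt m (j + 2)) := by
      rcases Nat.eq_zero_or_pos i with rfl | hi0
      · simp only [gen, if_true]; exact h0 _ (by omega)
      · simp only [gen, show ¬ i = 0 by omega, if_false]
        rw [hc i hi0 (by omega), mul_assoc, swap_mul_self_mul]
    rw [he]
    split <;> exact pow_two_swap (pt_ne (by omega) (by omega) (by omega))
      (pt_ne (by omega) (by omega) (by omega)) (pt_ne (by omega) (by omega) (by omega))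
      (pt_ne (by omega) (by omega) (by omega))

open Equiv in
theorem even_mem (m : ℕ) (hm : 1 ≤ m) (I : Subgroup (Perm (Fin (m + 2)))) (hI : ∀ i < m, gen m i ∈ I)
    (hle : I ≤ alternatingGroup (Fin (m + 2))) : alternatingGroup (Fin (m + 2)) ≤ I := by
  have hgen : ∀ k : Fin (m + 1), swap (pt m 0) (pt m 1) * swap k.castSucc k.succ ∈ I := by
    intro k
    have e1 : k.castSucc = pt m k.val := Fin.ext (by have := k.isLt; simp only [pt, Fin.val_castSucc]; omega)
    have e2 : k.succ = pt m (k.val + 1) := Fin.ext (by have := k.isLt; simp only [pt, Fin.val_succ]; omega)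
    rcases Nat.eq_zero_or_pos k.val with h0 | h0
    · rw [e1, e2, h0, swap_mul_self]; exact one_mem _
    · have := hI (k.val - 1) (by have := k.isLt; omega)
      rw [gen, show k.val - 1 + 1 = k.val by omega, show k.val - 1 + 2 = k.val + 1 by omega] at this
      rwa [e1, e2]
  have hsigned : ∀ k : Fin (m + 1), ∀ p : Perm (Fin (m + 2)), (p ∈ I ∨ p * swap (pt m 0) (pt m 1) ∈ I) →
      (p * swap k.castSucc k.succ ∈ I ∨ p * swap k.castSucc k.succ * swap (pt m 0) (pt m 1) ∈ I) := by
    intro k p hp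
    rcases hp with hp | hp
    · right
      have h1 := inv_mem (hgen k)
      rw [mul_inv_rev, swap_inv, swap_inv] at h1
      rw [mul_assoc]
      exact mul_mem hp h1
    · left
      have h2 := mul_mem hp (hgen k)
      rwa [mul_assoc, swap_mul_self_mul] at h2
  intro g hg
  have hmem : g ∈ Submonoid.closure (Set.range fun i : Fin (m + 1) => swap i.castSucc i.succ) := by
    rw [Perm.mclosure_swap_castSucc_succ]; trivial
  have key : ∀ g ∈ Submonoid.closure (Set.range fun i : Fin (m + 1) => swap i.castSucc i.succ),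
      g ∈ I ∨ g * swap (pt m 0) (pt m 1) ∈ I := by
    intro g hg
    induction hg using Submonoid.closure_induction_right with
    | one => exact Or.inl (one_mem _)
    | mul_right x hx y hy ih =>
      obtain ⟨k, rfl⟩ := hy
      exact hsigned k x ih
  refine (key g hmem).resolve_right fun h => ?_
  have h1 := hle h
  rw [Perm.mem_alternatingGroup, map_mul, Perm.mem_alternatingGroup.1 hg, one_mul,
    Perm.sign_swap (pt_ne (by omega) (by omega) (by omega))] at h1
  exact absurd h1 (by decide)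

theorem gen_mem (m i : ℕ) (hi : i < m) : gen m i ∈ alternatingGroup (Fin (m + 2)) := by
  rw [Equiv.Perm.mem_alternatingGroup, gen, map_mul,
    Equiv.Perm.sign_swap (pt_ne (by omega) (by omega) (by omega)),
    Equiv.Perm.sign_swap (pt_ne (by omega) (by omega) (by omega))]
  rfl

/-- A presentation of the alternating group of degree n ≥ 3 on generators x_1, …, x_{n−2} (indexed here by 0, …, n−3): the first generator cubes to 1, every other generator squares to 1, the product of two consecutive generators has order dividing 3, and the product of two generators at distance at least 2 has order dividing 2. The group so presented is isomorphic to the alternating group of degree n. -/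
theorem result (n : ℕ) (hn : 3 ≤ n) :
    Nonempty (PresentedGroup
      ({g : FreeGroup (Fin (n - 2)) | ∃ i : Fin (n - 2), i.val = 0 ∧ g = FreeGroup.of i ^ 3} ∪
       {g | ∃ i : Fin (n - 2), 1 ≤ i.val ∧ g = FreeGroup.of i ^ 2} ∪
       {g | ∃ i j : Fin (n - 2), j.val = i.val + 1 ∧ g = (FreeGroup.of i * FreeGroup.of j) ^ 3} ∪
       {g | ∃ i j : Fin (n - 2), i.val + 1 < j.val ∧ g = (FreeGroup.of i * FreeGroup.of j) ^ 2})
      ≃* alternatingGroup (Fin n)) := by
  classical
  obtain ⟨m, rfl⟩ : ∃ m, n = m + 2 := ⟨n - 2, by omega⟩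
  set rels : Set (FreeGroup (Fin (m + 2 - 2))) := _
  change Nonempty (PresentedGroup rels ≃* _)
  let y : Fin (m + 2 - 2) → alternatingGroup (Fin (m + 2)) := fun i => ⟨gen m i.val, gen_mem m i.val (by omega)⟩
  have hR := gen_rel m
  let f : FreeGroup (Fin (m + 2 - 2)) →* alternatingGroup (Fin (m + 2)) := FreeGroup.lift y
  have hrels : ∀ r ∈ rels, FreeGroup.lift y r = 1 := by
    intro r hr
    rcases hr with ((⟨i, hi, rfl⟩ | ⟨i, hi, rfl⟩) | ⟨i, j, hj, rfl⟩) | ⟨i, j, hj, rfl⟩ <;>
      apply Subtype.ext <;> simp only [map_pow, map_mul, FreeGroup.lift_apply_of, SubmonoidClass.coe_pow,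
        Subgroup.coe_mul, OneMemClass.coe_one, y]
    · exact hR.1 _ (by omega) hi
    · exact hR.2.1 _ (by omega) hi
    · rw [hj]; exact hR.2.2.1 _ (by omega)
    · exact hR.2.2.2 _ _ (by omega) hj
  let φ := PresentedGroup.toGroup hrels
  let x : ℕ → PresentedGroup rels := fun i => if h : i < m + 2 - 2 then PresentedGroup.of ⟨i, h⟩ else 1
  have hx : MRel x m := by
    refine ⟨fun i hi hi0 => ?_, fun i hi hi1 => ?_, fun i hi => ?_, fun i j hj hij => ?_⟩
    · simp only [x, dif_pos (show i < m + 2 - 2 by omega)]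
      exact PresentedGroup.one_of_mem (Or.inl (Or.inl (Or.inl ⟨_, hi0, rfl⟩)))
    · simp only [x, dif_pos (show i < m + 2 - 2 by omega)]
      exact PresentedGroup.one_of_mem (Or.inl (Or.inl (Or.inr ⟨_, hi1, rfl⟩)))
    · simp only [x, dif_pos (show i < m + 2 - 2 by omega), dif_pos (show i + 1 < m + 2 - 2 by omega)]
      exact PresentedGroup.one_of_mem (Or.inl (Or.inr ⟨_, _, rfl, rfl⟩))
    · simp only [x, dif_pos (show i < m + 2 - 2 by omega), dif_pos (show j < m + 2 - 2 by omega)]
      exact PresentedGroup.one_of_mem (Or.inr ⟨_, _, hij, rfl⟩)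
  obtain ⟨hfin, hcard⟩ := finite_card_H hx m le_rfl
  have htop : H x m = ⊤ := by
    rw [eq_top_iff, ← PresentedGroup.closure_range_of rels, Subgroup.closure_le]
    rintro _ ⟨i, rfl⟩
    have := mem_H x (show i.val < m by omega) (k := m)
    have e : x i.val = PresentedGroup.of i := dif_pos i.isLt
    rw [← e]; exact this
  rw [htop] at hfin hcard
  have hfinP : Finite (PresentedGroup rels) := Finite.of_equiv _ Subgroup.topEquiv.toEquiv
  have hsurj : Function.Surjective φ := by
    intro g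
    have hle : (φ.range.map (alternatingGroup (Fin (m + 2))).subtype) ≤ alternatingGroup (Fin (m + 2)) :=
      Subgroup.map_subtype_le _
    obtain ⟨z, ⟨p, rfl⟩, hz⟩ := even_mem m (by omega) _ (fun i hi => Subgroup.mem_map.2 ⟨y ⟨i, by omega⟩,
      MonoidHom.mem_range.2 ⟨PresentedGroup.of ⟨i, by omega⟩, PresentedGroup.toGroup.of hrels⟩, rfl⟩) hle g.2
    exact ⟨p, Subtype.ext hz⟩
  refine ⟨MulEquiv.ofBijective φ ((Nat.bijective_iff_surjective_and_card _).2 ⟨hsurj, ?_⟩)⟩
  refine le_antisymm ?_ (Nat.card_le_card_of_surjective φ hsurj)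
  have hA : 2 * Nat.card (alternatingGroup (Fin (m + 2))) = (m + 2).factorial := by
    rw [Nat.card_eq_fintype_card, two_mul_card_alternatingGroup, Fintype.card_perm, Fintype.card_fin]
  rw [Subgroup.card_top] at hcard
  omega

end Cfsg.Agent.S3335
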