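import Cfsg.Statements.S3071
import Cfsg.Agent.Lib.FusionSys.LocalZJ

set_option autoImplicit false
open Cfsg

namespace Cfsg.Agent.S3071

/-- Let p be an odd prime and S a Sylow p-subgroup of the finite group G such that, for every subgroup P with Z(S) ≤ P ≤ S, the normalizer N_G(P) has no section isomorphic to SL₂(p). Let J(S) be the subgroup generated by the abelian subgroups of S of largest order. Then two elements of S are conjugate in G if and only if they are conjugate in N_G(Z(J(S))). -/
theorem result {G : Type*} [Group G] [Finite G] {p : ℕ} [Fact p.Prime]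
    (hp : p ≠ 2) (S : Sylow p G)
    (hfree : ∀ P : Subgroup G, (S : Subgroup G) ⊓ Subgroup.centralizer ((S : Subgroup G) : Set G) ≤ P → P ≤ S →
      ¬ ∃ (H K : Subgroup G) (hK : (K.subgroupOf H).Normal), H ≤ Subgroup.normalizer (P : Set G) ∧
        Nonempty ((H ⧸ K.subgroupOf H) ≃* Matrix.SpecialLinearGroup (Fin 2) (ZMod p))) :
    ∀ x ∈ S, ∀ y ∈ S, (∃ g : G, g * x * g⁻¹ = y) ↔
      ∃ n ∈ Subgroup.normalizer (Cfsg.centerThompsonAOf (S : Subgroup G) : Set G), n * x * n⁻¹ = y := by
  intro x hx y hy
  constructor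
  · rintro ⟨g, hg⟩
    obtain ⟨-, h⟩ := Cfsg.Lib.FusionSys.controls_zj_of_locally_SL2_free hp S (fun U h1 h2 hinv => by
      set N := Subgroup.normalizer (U : Set G) with hN
      obtain ⟨K, f, hf⟩ := Cfsg.Lib.FusionSys.involves_iff_exists_hom.1 hinv
      set H := K.map N.subtype
      let e : K ≃* H := K.equivMapOfInjective N.subtype N.subtype_injective
      set L := (f.ker.map e.toMonoidHom).map H.subtype with hL
      have hLH : L.subgroupOf H = f.ker.map e.toMonoidHom := by
        rw [hL, Subgroup.subgroupOf, Subgroup.comap_map_eq_self_of_injective H.subtype_injective]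
      haveI hn : (L.subgroupOf H).Normal := by
        rw [hLH]; exact Subgroup.Normal.map inferInstance _ e.surjective
      exact hfree U h1 h2 ⟨H, L, hn, Subgroup.map_subtype_le K,
        ⟨((QuotientGroup.congr f.ker (L.subgroupOf H) e hLH.symm).symm.trans
          (QuotientGroup.quotientKerEquivOfSurjective f hf))⟩⟩) {x}
      (Set.singleton_subset_iff.2 hx)
    obtain ⟨n, hn, hne⟩ := h g (by rintro _ ⟨a, rfl, rfl⟩; show g * a * g⁻¹ ∈ S; rw [hg]; exact hy)
    exact ⟨n, hn, by rw [← hne x rfl, hg]⟩
  · rintro ⟨n, -, h⟩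
    exact ⟨n, h⟩

end Cfsg.Agent.S3071
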