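import Cfsg.Statements.S1312
import Cfsg.Agent.Lib.Core.Layer
import Cfsg.Agent.Lib.Core.PSolvable
import Cfsg.Agent.Lib.Local.NarrowSolvable
import Cfsg.Agent.Lib.CharTwoIn

set_option autoImplicit false
open Cfsg

namespace Cfsg.Agent.S1312

open Subgroup Cfsg.Lib
open scoped commutatorElement

universe u

variable {G : Type u} [Group G] [Finite G]

/-- `O_r` of a subgroup, seen in the whole group. -/
abbrev Op (r : ℕ) (M : Subgroup G) : Subgroup G := (Cfsg.pCore r ↥M).map M.subtype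

omit [Finite G] in
theorem op_le (r : ℕ) (M : Subgroup G) : Op r M ≤ M := map_subtype_le _

theorem op_isPGroup (r : ℕ) [Fact r.Prime] (M : Subgroup G) : IsPGroup r ↥(Op r M) :=
  (Core.pCore_isPGroup r ↥M).map _

theorem le_normalizer_op (r : ℕ) (M : Subgroup G) : M ≤ normalizer (Op r M : Set G) :=
  le_normalizer.trans (Core.normalizer_le_normalizer_map_char _)

theorem le_op {r : ℕ} {D X : Subgroup G} (hXD : X ≤ D) (hn : D ≤ normalizer (X : Set G))
    (hp : IsPGroup r ↥X) : X ≤ Op r D := by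
  have h := Core.le_pCore' ((normal_subgroupOf_iff_le_normalizer hXD).2 hn)
    (hp.of_equiv (subgroupOfEquivOfLe hXD).symm)
  exact (map_subgroupOf_eq_of_le hXD).symm.le.trans (map_mono h)

theorem op_commute {p r : ℕ} [hp : Fact p.Prime] [hr : Fact r.Prime] (hpr : p ≠ r) (D : Subgroup G)
    {a b : G} (ha : a ∈ Op p D) (hb : b ∈ Op r D) : a * b = b * a := by
  obtain ⟨a, ha, rfl⟩ := ha
  obtain ⟨b, hb, rfl⟩ := hb
  have hd : Disjoint (Cfsg.pCore p ↥D) (Cfsg.pCore r ↥D) :=
    IsPGroup.disjoint_of_ne p r hpr _ _ (Core.pCore_isPGroup p ↥D) (Core.pCore_isPGroup r ↥D)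
  exact congrArg Subtype.val (commute_of_normal_of_disjoint _ _ inferInstance inferInstance hd a b ha hb).eq

theorem normalizer_eq_max [IsSimpleGroup G] {M A : Subgroup G} (hM : IsCoatom M) (hA : A ≠ ⊥) (hAM : A ≤ M)
    (h : M ≤ normalizer (A : Set G)) : normalizer (A : Set G) = M := by
  rcases hM.le_iff.1 h with h | h
  · rcases (normalizer_eq_top_iff.1 h).eq_bot_or_eq_top with h' | h'
    · exact absurd h' hA
    · exact absurd (top_le_iff.1 (h' ▸ hAM)) hM.1
  · exact h

theorem comp_le_or_commute {M D H : Subgroup G} {L : Subgroup ↥M} (hL : Cfsg.IsComponent L) (hDM : D ≤ M)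
    (hLD : L.map M.subtype ≤ D) (hHD : H ≤ D) (hn : D ≤ normalizer (H : Set G)) :
    L.map M.subtype ≤ H ∨ ⁅L.map M.subtype, H⁆ = ⊥ := by
  set D' := D.subgroupOf M with hD'
  set H' := H.subgroupOf M with hH'
  have hLD' : L ≤ D' := map_le_iff_le_comap.1 hLD
  have hHD' : H' ≤ D' := comap_mono hHD
  have hn' : (H'.subgroupOf D').Normal := by
    refine ⟨fun x hx g => ?_⟩
    exact (mem_normalizer_iff.1 (hn g.2) _).1 hx
  have key : L ≤ H' ∨ ⁅L, H'⁆ = ⊥ := by
    rcases Core.component_le_or_commute (Core.IsComponent.subgroupOf hL hLD') hn'.isSubnormal with h | h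
    · left
      have := map_mono (f := D'.subtype) h
      rwa [map_subgroupOf_eq_of_le hLD', map_subgroupOf_eq_of_le hHD'] at this
    · right
      have := congrArg (Subgroup.map D'.subtype) h
      rwa [map_commutator, map_subgroupOf_eq_of_le hLD', map_subgroupOf_eq_of_le hHD',
        Subgroup.map_bot] at this
  rcases key with h | h
  · exact Or.inl ((map_mono h).trans (map_subgroupOf_eq_of_le (hHD.trans hDM)).le)
  · right
    have := congrArg (Subgroup.map M.subtype) h
    rwa [map_commutator, map_subgroupOf_eq_of_le (hHD.trans hDM), Subgroup.map_bot] at this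

theorem layer_le {M N : Subgroup G} (h1 : (Cfsg.generalizedFittingSubgroup ↥M).map M.subtype ≤ N)
    (h2 : (Cfsg.generalizedFittingSubgroup ↥N).map N.subtype ≤ M) :
    (Cfsg.layer ↥M).map M.subtype ≤ (Cfsg.layer ↥N).map N.subtype := by
  refine map_le_iff_le_comap.2 (sSup_le fun L (hL : Cfsg.IsComponent L) => map_le_iff_le_comap.1 ?_)
  have hLN : L.map M.subtype ≤ N :=
    (map_mono ((Core.le_layer hL).trans Core.layer_le_generalizedFitting)).trans h1
  have hLD : L.map M.subtype ≤ M ⊓ N := le_inf (map_subtype_le _) hLN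
  have hE : (Cfsg.layer ↥N).map N.subtype ≤ M ⊓ N :=
    le_inf ((map_mono Core.layer_le_generalizedFitting).trans h2) (map_subtype_le _)
  have hF : (Cfsg.fittingSubgroup ↥N).map N.subtype ≤ M ⊓ N :=
    le_inf ((map_mono Core.fitting_le_generalizedFitting).trans h2) (map_subtype_le _)
  have hnorm : ∀ C : Subgroup ↥N, C.Characteristic → M ⊓ N ≤ normalizer (C.map N.subtype : Set G) :=
    fun C _ => inf_le_right.trans (le_normalizer.trans (Core.normalizer_le_normalizer_map_char C))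
  rcases comp_le_or_commute hL inf_le_left hLD hE (hnorm _ inferInstance) with h | hcE
  · exact h
  exfalso
  have hns : ¬ Group.IsSolvable ↥(L.map M.subtype) := fun h => Core.IsComponent.not_solvable hL
    (haveI := h
     solvable_of_solvable_injective (f := (L.equivMapOfInjective M.subtype M.subtype_injective).toMonoidHom)
      (MulEquiv.injective _))
  rcases comp_le_or_commute hL inf_le_left hLD hF (hnorm _ inferInstance) with h | hcF
  · refine hns (Core.isSolvable_of_le h (Core.isSolvable_map ?_ _))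
    haveI := Core.fittingSubgroup_isNilpotent ↥N
    infer_instance
  have hc : L.map M.subtype ≤
      centralizer ((Cfsg.generalizedFittingSubgroup ↥N).map N.subtype : Set G) := by
    rw [← commutator_eq_bot_iff_le_centralizer, commutator_comm, Cfsg.generalizedFittingSubgroup, Subgroup.map_sup]
    exact Core.commutator_sup_left_eq_bot ((commutator_comm _ _).trans hcE) ((commutator_comm _ _).trans hcF)
  have hle : (L.map M.subtype).subgroupOf N ≤ Cfsg.generalizedFittingSubgroup ↥N := by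
    refine le_trans (fun x hx => mem_centralizer_iff.2 fun y hy => ?_) Core.centralizer_generalizedFitting_le
    exact Subtype.ext (mem_centralizer_iff.1 (hc hx) y (mem_map_of_mem N.subtype hy))
  have hab : ∀ a ∈ L.map M.subtype, ∀ b ∈ L.map M.subtype, a * b = b * a := fun a ha b hb =>
    (mem_centralizer_iff.1 (hc hb) a ⟨⟨a, hLN ha⟩, hle (show (⟨a, hLN ha⟩ : N) ∈ _ from ha), rfl⟩)
  haveI : IsMulCommutative ↥(L.map M.subtype) := ⟨⟨fun a b => Subtype.ext (hab a a.2 b b.2)⟩⟩
  exact hns (Core.isSolvable_of_isMulCommutative _)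

theorem layer_bot [IsSimpleGroup G] {M N : Subgroup G} (hM : IsCoatom M) (hN : IsCoatom N) (hMN : M ≠ N)
    (h1 : (Cfsg.generalizedFittingSubgroup ↥M).map M.subtype ≤ N)
    (h2 : (Cfsg.generalizedFittingSubgroup ↥N).map N.subtype ≤ M) : Cfsg.layer ↥M = ⊥ := by
  by_contra hne
  have hne' : (Cfsg.layer ↥M).map M.subtype ≠ ⊥ := fun h =>
    hne ((Subgroup.map_eq_bot_iff_of_injective _ M.subtype_injective).1 h)
  have e := le_antisymm (layer_le h1 h2) (layer_le h2 h1)
  have hMn := normalizer_eq_max hM hne' (map_subtype_le _)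
    (le_normalizer.trans (Core.normalizer_le_normalizer_map_char _))
  have hNn := normalizer_eq_max hN (e ▸ hne') (map_subtype_le _)
    (le_normalizer.trans (Core.normalizer_le_normalizer_map_char (Cfsg.layer ↥N)))
  exact hMN (hMn.symm.trans (e ▸ hNn))

/-- An element of `M` centralizing every `O_r(M)` lies in `F(M)`. -/
theorem mem_fitting_of_commute {M : Subgroup G} (hl : Cfsg.layer ↥M = ⊥) (z : ↥M)
    (h : ∀ r, Fact r.Prime → ∀ m ∈ Op r M, (z : G) * m = m * z) : z ∈ Cfsg.fittingSubgroup ↥M := by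
  refine Core.centralizer_fitting_le_iff_layer_eq_bot.2 hl (mem_centralizer_iff.2 fun y hy => ?_)
  have hle : Cfsg.fittingSubgroup ↥M ≤ centralizer ({z} : Set ↥M) := by
    rw [Core.fittingSubgroup_eq_iSup_pCore]
    refine iSup_le fun r x hx => mem_centralizer_singleton_iff.2 (Subtype.ext ?_)
    exact (h r ⟨r.2⟩ x (mem_map_of_mem _ hx)).symm
  exact mem_centralizer_singleton_iff.1 (hle hy)

theorem mem_pCore_of_pow {X : Type u} [Group X] [Finite X] {p : ℕ} [hp : Fact p.Prime] {z : X}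
    (hz : z ∈ Cfsg.fittingSubgroup X) {k : ℕ} (h : z ^ p ^ k = 1) : z ∈ Cfsg.pCore p X := by
  obtain ⟨j, -, hj⟩ := (Nat.dvd_prime_pow hp.out).1 (orderOf_dvd_of_pow_eq_one h)
  exact Cfsg.Lib.Local.NarrowAut.mem_pCore_of_fitting hz j hj

theorem op_eq_bot {M N : Subgroup G} (hl : Cfsg.layer ↥M = ⊥) (p : ℕ) [hp : Fact p.Prime]
    (hM : ∀ r, Fact r.Prime → Op r M ≤ M ⊓ N) (hN : Op p N ≤ M ⊓ N)
    (h : Op p M = ⊥) : Op p N = ⊥ := by
  rw [eq_bot_iff]
  intro x hx
  have hxD : x ∈ Op p (M ⊓ N) := le_op hN (inf_le_right.trans (le_normalizer_op p N)) (op_isPGroup p N) hx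
  have hxM : x ∈ M := (hN hx).1
  have hF : (⟨x, hxM⟩ : ↥M) ∈ Cfsg.fittingSubgroup ↥M := by
    refine mem_fitting_of_commute hl _ fun r hr m hm => ?_
    by_cases hpr : p = r
    · subst hpr
      rw [h, mem_bot] at hm
      rw [hm, one_mul, mul_one]
    · exact op_commute hpr (M ⊓ N) hxD
        (le_op (hM r hr) (inf_le_left.trans (le_normalizer_op r M)) (op_isPGroup r M) hm)
  obtain ⟨k, hk⟩ := op_isPGroup p N ⟨x, hx⟩
  have h2 : x ∈ Op p M :=
    ⟨_, mem_pCore_of_pow hF (k := k) (Subtype.ext (by simpa using congrArg Subtype.val hk)), rfl⟩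
  rwa [h] at h2

theorem normalizer_op_le {D : Subgroup G} {p r : ℕ} [Fact p.Prime] [Fact r.Prime] (hpr : p ≠ r)
    (hC : centralizer (Op p D : Set G) ≤ D) :
    normalizer (Op p D : Set G) ≤ normalizer (Op r D : Set G) := by
  set C := centralizer (Op p D : Set G) with hCdef
  have hnC : normalizer (Op p D : Set G) ≤ normalizer (C : Set G) := Cfsg.Lib.CharTwoIn.normalizer_le_normalizer_centralizer' _
  have hCn : (C.subgroupOf D).Normal :=
    (normal_subgroupOf_iff_le_normalizer hC).2 ((le_normalizer_op p D).trans hnC)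
  have hrC : Op r D ≤ C := fun x hx => mem_centralizer_iff.2 fun y hy => op_commute hpr D hy hx
  have e : Op r D = (Cfsg.pCore r ↥C).map C.subtype := by
    refine le_antisymm ?_ (Core.pCore_map_le_of_normal hC hCn)
    exact le_op hrC (hC.trans (le_normalizer_op r D)) (op_isPGroup r D)
  rw [e]
  exact hnC.trans (Core.normalizer_le_normalizer_map_char _)

/-- Bender's argument: `O_q(M ∩ N) = O_q(M)`. -/
theorem op_inf_eq {M N : Subgroup G} (hl : Cfsg.layer ↥M = ⊥) {p q : ℕ} [hp : Fact p.Prime] [Fact q.Prime]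
    (hpq : p ≠ q) (hsub : ∀ r, Fact r.Prime → Op r M ≤ M ⊓ N)
    (hCM : centralizer (Op p M : Set G) ≤ M) (hC : centralizer (Op p (M ⊓ N) : Set G) ≤ M ⊓ N) :
    Op q (M ⊓ N) = Op q M := by
  set D := M ⊓ N with hD
  set L₁ := centralizer (Op p M : Set G) with hL₁
  have hMD : ∀ r, Fact r.Prime → Op r M ≤ Op r D := fun r hr =>
    le_op (hsub r hr) (inf_le_left.trans (le_normalizer_op r M)) (op_isPGroup r M)
  have hL₁n : M ≤ normalizer (L₁ : Set G) :=
    (le_normalizer_op p M).trans (Cfsg.Lib.CharTwoIn.normalizer_le_normalizer_centralizer' _)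
  -- `L₁` normalizes `O_p(D)`
  have hnorm : L₁ ≤ normalizer (Op p D : Set G) := by
    rw [Core.le_normalizer_iff_conj_mem]
    intro l hl' x hx
    have hxM : x ∈ M := (op_le p D hx).1
    have hlM : l ∈ M := hCM hl'
    set z := x * l * x⁻¹ * l⁻¹ with hz
    suffices hzp : z ∈ Op p M by
      have e : l * x⁻¹ * l⁻¹ = x⁻¹ * z := by rw [hz]; group
      have h' : l * x⁻¹ * l⁻¹ ∈ Op p D := e ▸ mul_mem (inv_mem hx) (hMD p hp hzp)
      simpa [mul_assoc] using inv_mem h'
    have hzM : z ∈ M := mul_mem (mul_mem (mul_mem hxM hlM) (inv_mem hxM)) (inv_mem hlM)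
    have hzF : (⟨z, hzM⟩ : ↥M) ∈ Cfsg.fittingSubgroup ↥M := by
      refine mem_fitting_of_commute hl _ fun r hr m hm => ?_
      by_cases hpr : p = r
      · subst hpr
        have h' : z ∈ L₁ := mul_mem ((mem_normalizer_iff.1 (hL₁n hxM) l).1 hl') (inv_mem hl')
        exact (mem_centralizer_iff.1 h' m hm).symm
      · have h1 : ∀ n ∈ Op r M, x * n = n * x := fun n hn => op_commute hpr D hx (hMD r hr hn)
        have hn' : l⁻¹ * m * l ∈ Op r M := (mem_normalizer_iff''.1 (le_normalizer_op r M hlM) m).1 hm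
        calc z * m = x * l * x⁻¹ * (l⁻¹ * m * l) * l⁻¹ := by rw [hz]; group
          _ = x * l * ((l⁻¹ * m * l) * x⁻¹) * l⁻¹ := by
              have : Commute x⁻¹ (l⁻¹ * m * l) := (show Commute x _ from h1 _ hn').inv_left
              rw [← this.eq]; group
          _ = (x * m) * l * x⁻¹ * l⁻¹ := by group
          _ = m * z := by rw [h1 m hm, hz]; group
    set π := QuotientGroup.mk' (Cfsg.pCore p ↥M) with hπ
    have hxz : Commute (π ⟨x, hxM⟩) (π ⟨z, hzM⟩) := by
      have hle : Cfsg.fittingSubgroup ↥M ≤ (centralizer ({π ⟨x, hxM⟩} : Set _)).comap π := by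
        rw [Core.fittingSubgroup_eq_iSup_pCore]
        refine iSup_le fun r y hy => mem_centralizer_singleton_iff.2 ?_
        by_cases hpr : p = (r : ℕ)
        · rw [show π y = 1 from (QuotientGroup.eq_one_iff _).2 (hpr ▸ hy), one_mul, mul_one]
        · haveI : Fact (r : ℕ).Prime := ⟨r.2⟩
          rw [← map_mul, ← map_mul]
          refine congrArg π (Subtype.ext ?_)
          exact (op_commute hpr D hx (hMD r inferInstance (mem_map_of_mem _ hy))).symm
      exact (mem_centralizer_singleton_iff.1 (hle hzF)).symm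
    have hbase : π ⟨x, hxM⟩ * π ⟨l, hlM⟩ * (π ⟨x, hxM⟩)⁻¹ = π ⟨z, hzM⟩ * π ⟨l, hlM⟩ := by
      rw [← map_inv, ← map_mul, ← map_mul, ← map_mul]
      refine congrArg π (Subtype.ext ?_)
      show x * l * x⁻¹ = z * l
      rw [hz]; group
    have hiter : ∀ k : ℕ, π ⟨x, hxM⟩ ^ k * π ⟨l, hlM⟩ * (π ⟨x, hxM⟩ ^ k)⁻¹ =
        π ⟨z, hzM⟩ ^ k * π ⟨l, hlM⟩ := by
      intro k
      induction k with
      | zero => simp
      | succ k ih =>
        rw [pow_succ' (π ⟨x, hxM⟩), pow_succ (π ⟨z, hzM⟩), mul_assoc _ (π ⟨z, hzM⟩), ← hbase]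
        calc π ⟨x, hxM⟩ * π ⟨x, hxM⟩ ^ k * π ⟨l, hlM⟩ * (π ⟨x, hxM⟩ * π ⟨x, hxM⟩ ^ k)⁻¹
            = π ⟨x, hxM⟩ * (π ⟨x, hxM⟩ ^ k * π ⟨l, hlM⟩ * (π ⟨x, hxM⟩ ^ k)⁻¹) * (π ⟨x, hxM⟩)⁻¹ := by group
          _ = (π ⟨x, hxM⟩ * π ⟨z, hzM⟩ ^ k) * π ⟨l, hlM⟩ * (π ⟨x, hxM⟩)⁻¹ := by rw [ih]; group
          _ = _ := by rw [(hxz.pow_right k).eq]; group
    obtain ⟨n, hn⟩ := op_isPGroup p D ⟨x, hx⟩
    have hxn : π ⟨x, hxM⟩ ^ p ^ n = 1 := by
      rw [← map_pow]
      have : (⟨x, hxM⟩ : ↥M) ^ p ^ n = 1 := Subtype.ext (by simpa using congrArg Subtype.val hn)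
      rw [this, map_one]
    have hzn := hiter (p ^ n)
    rw [hxn, one_mul, inv_one, mul_one, eq_comm, mul_eq_right, ← map_pow] at hzn
    obtain ⟨m, hm⟩ := Core.pCore_isPGroup p ↥M ⟨_, (QuotientGroup.eq_one_iff _).1 hzn⟩
    refine ⟨⟨z, hzM⟩, mem_pCore_of_pow hzF (k := n + m) ?_, rfl⟩
    have hm' := congrArg Subtype.val hm
    simp only [SubmonoidClass.coe_pow, OneMemClass.coe_one] at hm'
    rw [pow_add, pow_mul, hm']
  refine le_antisymm ?_ (hMD q inferInstance)
  have hqL : Op q D ≤ L₁ := fun x hx => mem_centralizer_iff.2 fun y hy =>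
    op_commute hpq D (hMD p hp hy) hx
  refine (le_op hqL (hnorm.trans (normalizer_op_le hpq hC)) (op_isPGroup q D)).trans ?_
  exact Core.pCore_map_le_of_normal hCM ((normal_subgroupOf_iff_le_normalizer hCM).2 hL₁n)

theorem core [IsSimpleGroup G] (hna : ¬ IsMulCommutative G) {M N : Subgroup G} (hM : IsCoatom M) (hN : IsCoatom N)
    (hMN : M ≠ N) (h1 : (Cfsg.generalizedFittingSubgroup ↥M).map M.subtype ≤ N)
    (h2 : (Cfsg.generalizedFittingSubgroup ↥N).map N.subtype ≤ M) :
    ∃ p : ℕ, p.Prime ∧ IsPGroup p ↥(Cfsg.generalizedFittingSubgroup ↥M) ∧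
      IsPGroup p ↥(Cfsg.generalizedFittingSubgroup ↥N) := by
  classical
  have hlM := layer_bot hM hN hMN h1 h2
  have hlN := layer_bot hN hM hMN.symm h2 h1
  have hop : ∀ {X : Subgroup G} (r : ℕ), Fact r.Prime →
      Op r X ≤ (Cfsg.generalizedFittingSubgroup ↥X).map X.subtype := fun r hr =>
    map_mono ((Core.pCore_le_fittingSubgroup r _).trans Core.fitting_le_generalizedFitting)
  have hsM : ∀ r, Fact r.Prime → Op r M ≤ M ⊓ N := fun r hr => le_inf (op_le r M) ((hop r hr).trans h1)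
  have hsN : ∀ r, Fact r.Prime → Op r N ≤ M ⊓ N := fun r hr => le_inf ((hop r hr).trans h2) (op_le r N)
  have hbot : ∀ r, Fact r.Prime → (Op r M = ⊥ ↔ Op r N = ⊥) := by
    intro r hr
    refine ⟨op_eq_bot hlM r hsM (hsN r hr), op_eq_bot hlN r (fun s hs => ?_) ?_⟩
    · rw [inf_comm]; exact hsN s hs
    · rw [inf_comm]; exact hsM r hr
  have hMne : M ≠ ⊥ := by
    rintro rfl
    rcases hM.le_iff.1 (bot_le : (⊥ : Subgroup G) ≤ N) with h | h
    · exact hN.1 h
    · exact hMN h.symm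
  haveI : Nontrivial ↥M := nontrivial_iff_ne_bot M |>.2 hMne
  obtain ⟨p, hp, hpM⟩ : ∃ p, Fact p.Prime ∧ Op p M ≠ ⊥ := by
    by_contra h
    push_neg at h
    refine Core.generalizedFitting_ne_bot (G := ↥M) ?_
    rw [Core.generalizedFitting_eq_fitting_of_layer_eq_bot hlM, Core.fittingSubgroup_eq_iSup_pCore, iSup_eq_bot]
    exact fun r => (Subgroup.map_eq_bot_iff_of_injective _ M.subtype_injective).1 (h r ⟨r.2⟩)
  by_cases hq : ∃ q, Fact q.Prime ∧ p ≠ q ∧ Op q M ≠ ⊥
  · exfalso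
    obtain ⟨q, hq, hpq, hqM⟩ := hq
    have hpN : Op p N ≠ ⊥ := fun h => hpM ((hbot p hp).2 h)
    have hqN : Op q N ≠ ⊥ := fun h => hqM ((hbot q hq).2 h)
    have hnM : ∀ {r : ℕ}, Fact r.Prime → Op r M ≠ ⊥ → normalizer (Op r M : Set G) = M := fun {r} _ h =>
      normalizer_eq_max hM h (op_le r M) (le_normalizer_op r M)
    have hnN : ∀ {r : ℕ}, Fact r.Prime → Op r N ≠ ⊥ → normalizer (Op r N : Set G) = N := fun {r} _ h =>
      normalizer_eq_max hN h (op_le r N) (le_normalizer_op r N)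
    have hCM : centralizer (Op p M : Set G) ≤ M :=
      (Set.Subset.trans le_rfl (centralizer_le_normalizer _)).trans (hnM hp hpM).le
    have hCN : centralizer (Op p N : Set G) ≤ N :=
      (centralizer_le_normalizer _).trans (hnN hp hpN).le
    have hC : centralizer (Op p (M ⊓ N) : Set G) ≤ M ⊓ N := le_inf
      ((centralizer_le (le_op (hsM p hp) (inf_le_left.trans (le_normalizer_op p M)) (op_isPGroup p M))).trans hCM)
      ((centralizer_le (le_op (hsN p hp) (inf_le_right.trans (le_normalizer_op p N)) (op_isPGroup p N))).trans hCN)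
    have e1 := op_inf_eq (q := q) hlM hpq hsM hCM hC
    have e2 : Op q (M ⊓ N) = Op q N := by
      rw [inf_comm]
      exact op_inf_eq (q := q) hlN hpq (fun s hs => inf_comm M N ▸ hsN s hs) hCN (inf_comm M N ▸ hC)
    exact hMN ((hnM hq hqM).symm.trans ((congrArg (fun X : Subgroup G => normalizer (X : Set G))
      (e1.symm.trans e2)).trans (hnN hq hqN)))
  · push_neg at hq
    refine ⟨p, hp.out, ?_, ?_⟩
    · refine (Core.pCore_isPGroup p ↥M).to_le ?_
      rw [Core.generalizedFitting_eq_fitting_of_layer_eq_bot hlM, Core.fittingSubgroup_eq_iSup_pCore]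
      refine iSup_le fun r => ?_
      by_cases hr : p = (r : ℕ)
      · exact hr ▸ le_rfl
      · rw [(Subgroup.map_eq_bot_iff_of_injective _ M.subtype_injective).1 (hq r ⟨r.2⟩ hr)]; exact bot_le
    · refine (Core.pCore_isPGroup p ↥N).to_le ?_
      rw [Core.generalizedFitting_eq_fitting_of_layer_eq_bot hlN, Core.fittingSubgroup_eq_iSup_pCore]
      refine iSup_le fun r => ?_
      by_cases hr : p = (r : ℕ)
      · exact hr ▸ le_rfl
      · rw [(Subgroup.map_eq_bot_iff_of_injective _ N.subtype_injective).1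
          ((hbot r ⟨r.2⟩).1 (hq r ⟨r.2⟩ hr))]; exact bot_le

/-- Let G be a non-abelian finite simple group and M ≠ N maximal subgroups of G with F*(M) ≤ N and F*(N) ≤ M. Then there is a prime p such that F*(M) and F*(N) are both p-groups. -/
theorem result {G : Type*} [Group G] [Finite G] [IsSimpleGroup G] (hna : ¬ IsMulCommutative G) (M N : Subgroup G) (hM : IsCoatom M) (hN : IsCoatom N) (hMN : M ≠ N) (h1 : (Cfsg.generalizedFittingSubgroup ↥M).map M.subtype ≤ N) (h2 : (Cfsg.generalizedFittingSubgroup ↥N).map N.subtype ≤ M) : ∃ p : ℕ, p.Prime ∧ IsPGroup p ↥(Cfsg.generalizedFittingSubgroup ↥M) ∧ IsPGroup p ↥(Cfsg.generalizedFittingSubgroup ↥N) := by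
    exact core hna hM hN hMN h1 h2

end Cfsg.Agent.S1312
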