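import Cfsg.Statements.S0445


set_option linter.style.haveILetI false

set_option autoImplicit false
open Cfsg

namespace Cfsg.Agent.S0445

open Matrix

abbrev M5 := Matrix (Fin 5) (Fin 5) (ZMod 2)
abbrev M3 := Matrix (Fin 3) (Fin 3) (ZMod 2)

/-- A matrix commuting with `e₀₁`, from its free entries. -/
def mkC (a : ZMod 2) (b c : Fin 3 → ZMod 2) (A : M3) : M5 :=
  !![1, a, b 0, b 1, b 2;
     0, 1, 0, 0, 0;
     0, c 0, A 0 0, A 0 1, A 0 2;
     0, c 1, A 1 0, A 1 1, A 1 2;
     0, c 2, A 2 0, A 2 1, A 2 2]

theorem det_mkC (a : ZMod 2) (b c : Fin 3 → ZMod 2) (A : M3) : (mkC a b c A).det = A.det := by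
  rw [Matrix.det_succ_column_zero]
  simp [mkC, Fin.sum_univ_succ]
  rw [Matrix.det_succ_row_zero]
  simp [Fin.sum_univ_succ]
  rw [Matrix.det_fin_three, Matrix.det_fin_three]
  simp [Fin.succAbove]

theorem comm_mkC (a : ZMod 2) (b c : Fin 3 → ZMod 2) (A : M3) :
    Matrix.transvection 0 1 1 * mkC a b c A = mkC a b c A * Matrix.transvection 0 1 1 := by
  ext i j
  fin_cases i <;> fin_cases j <;>
    simp [mkC, Matrix.transvection, Matrix.mul_apply, Fin.sum_univ_succ, Matrix.single, Matrix.one_apply, add_comm]

theorem card_det_one : Nat.card {A : M3 // A.det = 1} = 168 := by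
  rw [Nat.card_eq_fintype_card, Fintype.card_subtype]
  have h : (Finset.univ.filter fun q : (Fin 9 → ZMod 2) => q 0 * (q 4 * q 8) - q 0 * (q 5 * q 7) - q 1 * (q 3 * q 8) +
      q 1 * (q 5 * q 6) + q 2 * (q 3 * q 7) - q 2 * (q 4 * q 6) = 1).card = 168 := by decide +kernel
  rw [← h]
  refine Finset.card_bij (fun A _ => ![A 0 0, A 0 1, A 0 2, A 1 0, A 1 1, A 1 2, A 2 0, A 2 1, A 2 2]) ?_ ?_ ?_
  · intro A hA
    simp only [Finset.mem_filter, Finset.mem_univ, true_and] at hA ⊢
    rw [← hA, Matrix.det_fin_three]
    simp [mul_assoc]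
  · intro A _ B _ hAB
    ext i j
    fin_cases i <;> fin_cases j
    exacts [congrFun hAB 0, congrFun hAB 1, congrFun hAB 2, congrFun hAB 3, congrFun hAB 4, congrFun hAB 5,
      congrFun hAB 6, congrFun hAB 7, congrFun hAB 8]
  · intro q hq
    refine ⟨!![q 0, q 1, q 2; q 3, q 4, q 5; q 6, q 7, q 8], ?_, ?_⟩
    · simp only [Finset.mem_filter, Finset.mem_univ, true_and] at hq ⊢
      rw [← hq, Matrix.det_fin_three]
      simp [mul_assoc]
    · funext i
      fin_cases i <;> simp

set_option maxHeartbeats 2000000

/-- In the special linear group of dimension 5 over the field with two elements, the centraliser of a transvection has order 21504 = 2 ^ 7 · 168 (it is an extension of an extraspecial group of order 2 ^ 7 by the simple group of order 168). -/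
theorem result (s : Matrix.SpecialLinearGroup (Fin 5) (ZMod 2)) (hs : (s : Matrix (Fin 5) (Fin 5) (ZMod 2)) = Matrix.transvection 0 1 1) : Nat.card (Subgroup.centralizer ({s} : Set (Matrix.SpecialLinearGroup (Fin 5) (ZMod 2)))) = 21504 := by
  classical
  have hmem : ∀ g : Matrix.SpecialLinearGroup (Fin 5) (ZMod 2),
      g ∈ Subgroup.centralizer ({s} : Set (Matrix.SpecialLinearGroup (Fin 5) (ZMod 2))) ↔
        Matrix.transvection 0 1 1 * (g : M5) = (g : M5) * Matrix.transvection 0 1 1 := by
    intro g
    rw [Subgroup.mem_centralizer_singleton_iff, ← hs]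
    constructor
    · intro h
      have := congrArg (fun x : Matrix.SpecialLinearGroup (Fin 5) (ZMod 2) => (x : M5)) h
      simpa using this.symm
    · intro h
      apply Subtype.ext
      simpa using h.symm
  let T := ZMod 2 × (Fin 3 → ZMod 2) × (Fin 3 → ZMod 2) × {A : M3 // A.det = 1}
  let f : T → Subgroup.centralizer ({s} : Set (Matrix.SpecialLinearGroup (Fin 5) (ZMod 2))) := fun q =>
    ⟨⟨mkC q.1 q.2.1 q.2.2.1 q.2.2.2.1, by rw [det_mkC]; exact q.2.2.2.2⟩, (hmem _).2 (comm_mkC _ _ _ _)⟩
  have hbij : Function.Bijective f := by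
    constructor
    · rintro ⟨a, b, c, A, hA⟩ ⟨a', b', c', A', hA'⟩ h
      have h' : ∀ i j, mkC a b c A i j = mkC a' b' c' A' i j := fun i j =>
        congrFun (congrFun (congrArg (fun x : Subgroup.centralizer _ =>
          ((x : Matrix.SpecialLinearGroup (Fin 5) (ZMod 2)) : M5)) h) i) j
      obtain rfl : a = a' := by simpa [mkC] using h' 0 1
      obtain rfl : b = b' := by
        funext i; fin_cases i
        · simpa [mkC] using h' 0 2
        · simpa [mkC] using h' 0 3
        · simpa [mkC] using h' 0 4
      obtain rfl : c = c' := by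
        funext i; fin_cases i
        · simpa [mkC] using h' 2 1
        · simpa [mkC] using h' 3 1
        · simpa [mkC] using h' 4 1
      obtain rfl : A = A' := by
        ext i j
        fin_cases i <;> fin_cases j
        · simpa [mkC] using h' 2 2
        · simpa [mkC] using h' 2 3
        · simpa [mkC] using h' 2 4
        · simpa [mkC] using h' 3 2
        · simpa [mkC] using h' 3 3
        · simpa [mkC] using h' 3 4
        · simpa [mkC] using h' 4 2
        · simpa [mkC] using h' 4 3
        · simpa [mkC] using h' 4 4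
      rfl
    · rintro ⟨g, hg⟩
      have hc := (hmem g).1 hg
      have e : ∀ i j, (Matrix.transvection 0 1 1 * (g : M5) : M5) i j = ((g : M5) * Matrix.transvection 0 1 1 : M5) i j :=
        fun i j => by rw [hc]
      have hrow : ∀ j, j ≠ 1 → (g : M5) 1 j = 0 := by
        intro j hj
        have := e 0 j
        rw [Matrix.transvection_mul_apply_same, Matrix.mul_transvection_apply_of_ne _ _ _ _ hj] at this
        simpa using this
      have hcol : ∀ i, i ≠ 0 → (g : M5) i 0 = 0 := by
        intro i hi
        have := e i 1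
        rw [Matrix.transvection_mul_apply_of_ne _ _ _ _ hi, Matrix.mul_transvection_apply_same] at this
        simpa using this
      have h01 : (g : M5) 0 0 = (g : M5) 1 1 := by
        have := e 0 1
        rw [Matrix.transvection_mul_apply_same, Matrix.mul_transvection_apply_same] at this
        simpa using this.symm
      have h11 : (g : M5) 1 1 = 1 := by
        have hne : (g : M5) 1 1 ≠ 0 := fun h0 => by
          have : (g : M5).det = 0 := Matrix.det_eq_zero_of_row_eq_zero 1 fun j => by
            by_cases hj : j = 1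
            · rw [hj, h0]
            · exact hrow j hj
          rw [g.2] at this
          exact one_ne_zero this
        revert hne
        generalize (g : M5) 1 1 = x
        revert x; decide
      have hg' : (g : M5) = mkC ((g : M5) 0 1) ![(g : M5) 0 2, (g : M5) 0 3, (g : M5) 0 4]
          ![(g : M5) 2 1, (g : M5) 3 1, (g : M5) 4 1]
          !![(g : M5) 2 2, (g : M5) 2 3, (g : M5) 2 4; (g : M5) 3 2, (g : M5) 3 3, (g : M5) 3 4;
             (g : M5) 4 2, (g : M5) 4 3, (g : M5) 4 4] := by
        ext i j
        fin_cases i <;> fin_cases j <;> simp [mkC, hrow, hcol, h01, h11]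
      have hA := g.2
      rw [hg', det_mkC] at hA
      exact ⟨((g : M5) 0 1, ![(g : M5) 0 2, (g : M5) 0 3, (g : M5) 0 4],
          ![(g : M5) 2 1, (g : M5) 3 1, (g : M5) 4 1], ⟨_, hA⟩), Subtype.ext (Subtype.ext hg'.symm)⟩
  rw [← Nat.card_congr (Equiv.ofBijective f hbij)]
  simp only [T, Nat.card_prod, card_det_one, Nat.card_fun, Nat.card_zmod, Nat.card_eq_fintype_card (α := Fin 3), Fintype.card_fin]
  norm_num

end Cfsg.Agent.S0445
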