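import Cfsg.Statements.S0079
import Cfsg.Agent.Lib.Fusion.Alperin
import Cfsg.Agent.Lib.PGroup.Elements

set_option autoImplicit false
set_option linter.style.haveILetI false
open Cfsg

namespace Cfsg.Agent.S0079

open Subgroup Cfsg.Lib.Fusion in
theorem exists_complement {G : Type*} [Group G] [Finite G] (H : Subgroup G)
    (hHall : Nat.Coprime (Nat.card H) H.index)
    (h : ∀ (p : ℕ) [Fact p.Prime], p ∣ Nat.card H → HasNormalPComplement p G) :
    ∃ N : Subgroup G, N.Normal ∧ N.IsComplement' H := by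
  classical
  set N : Subgroup G := ⨅ p ∈ {p : ℕ | p.Prime ∧ p ∣ Nat.card H}, pResidual p G with hN
  have hle : ∀ p, p.Prime → p ∣ Nat.card H → N ≤ pResidual p G := fun p hp hd => iInf₂_le p ⟨hp, hd⟩
  haveI hn : N.Normal := normal_iInf_normal fun p => normal_iInf_normal fun _ => pResidual_normal p G
  have hdis : Disjoint N H := by
    rw [disjoint_iff, eq_bot_iff]
    intro x hx
    rw [mem_bot, ← orderOf_eq_one_iff]
    by_contra hne
    obtain ⟨r, hr, hrd⟩ := Nat.exists_prime_and_dvd hne
    haveI := Fact.mk hr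
    have hrH : r ∣ Nat.card H := hrd.trans (Subgroup.orderOf_dvd_natCard H hx.2)
    have hc := (mem_pResidual_iff_coprime (h r hrH) x).mp (hle r hr hrH hx.1)
    exact hr.not_dvd_one (hc ▸ Nat.dvd_gcd hrd (dvd_refl r))
  -- every prime divisor of the index of `N` divides `|H|`
  have hidx : ∀ r, r.Prime → r ∣ N.index → r ∣ Nat.card H := by
    intro r hr hrd
    haveI := Fact.mk hr
    by_contra hrH
    obtain ⟨y, hy⟩ := exists_prime_orderOf_dvd_card' (G := G ⧸ N) r hrd
    obtain ⟨g, rfl⟩ := QuotientGroup.mk_surjective y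
    have hg : g ^ Nat.card H ∈ N := by
      rw [hN, mem_iInf]
      intro p
      rw [mem_iInf]
      intro hp
      haveI := Fact.mk hp.1
      let P : Sylow p G := Classical.arbitrary _
      have h1 : (pResidual p G).index ∣ Nat.card H := by
        rw [(isComplement'_pResidual (h p hp.2) P).symm.index_eq_card]
        refine (Nat.Coprime.dvd_of_dvd_mul_right ?_ (H.card_mul_index.symm ▸ card_subgroup_dvd_card (P : Subgroup G)))
        obtain ⟨i, hi⟩ := IsPGroup.iff_card.mp P.2
        rw [hi]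
        exact Nat.Coprime.pow_left i (hHall.coprime_dvd_left hp.2)
      obtain ⟨c, hc⟩ := h1
      rw [hc, pow_mul, ← QuotientGroup.eq_one_iff, QuotientGroup.mk_pow, QuotientGroup.mk_pow,
        show ((g : G ⧸ pResidual p G)) ^ (pResidual p G).index = 1 from pow_card_eq_one', one_pow]
    rw [← QuotientGroup.eq_one_iff, QuotientGroup.mk_pow, ← orderOf_dvd_iff_pow_eq_one, hy] at hg
    exact hrH hg
  have hcop : N.index.Coprime H.index := by
    rw [Nat.coprime_iff_gcd_eq_one]
    by_contra hne
    obtain ⟨r, hr, hrd⟩ := Nat.exists_prime_and_dvd hne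
    exact hr.not_dvd_one (hHall ▸ Nat.dvd_gcd (hidx r hr (hrd.trans (Nat.gcd_dvd_left _ _)))
      (hrd.trans (Nat.gcd_dvd_right _ _)))
  have hdvd : H.index ∣ Nat.card N := by
    refine Nat.Coprime.dvd_of_dvd_mul_right hcop.symm ?_
    rw [N.card_mul_index]; exact H.index_dvd_card
  have hcard : Nat.card N = H.index := by
    refine le_antisymm ?_ (Nat.le_of_dvd Nat.card_pos hdvd)
    have hinj : Function.Injective (fun n : N => ((n : G) : G ⧸ H)) := by
      intro a b hab
      have h1 : (a : G)⁻¹ * b ∈ N ⊓ H :=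
        ⟨N.mul_mem (N.inv_mem a.2) b.2, QuotientGroup.eq.mp hab⟩
      rw [disjoint_iff.mp hdis, mem_bot, inv_mul_eq_one] at h1
      exact Subtype.ext h1
    exact Nat.card_le_card_of_injective _ hinj
  refine ⟨N, hn, isComplement'_of_card_mul_and_disjoint ?_ hdis⟩
  rw [hcard, mul_comm, H.card_mul_index]

/-- A nilpotent Hall subgroup has a normal complement exactly when elements of it that are conjugate in the whole group are already conjugate inside it. -/
theorem result {G : Type*} [Group G] [Finite G] (H : Subgroup G) (hH : Group.IsNilpotent H) (hHall : Nat.Coprime (Nat.card H) H.index) : (∃ N : Subgroup G, N.Normal ∧ N.IsComplement' H) ↔ ∀ x ∈ H, ∀ y ∈ H, (∃ g : G, g * x * g⁻¹ = y) → ∃ h ∈ H, h * x * h⁻¹ = y := by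
  constructor
  · rintro ⟨N, hn, hN⟩ x hx y hy ⟨g, hg⟩
    obtain ⟨⟨⟨n, hnN⟩, ⟨k, hk⟩⟩, he, -⟩ := hN.existsUnique g
    refine ⟨k, hk, ?_⟩
    have hg' : n * (k * x * k⁻¹) * n⁻¹ = y := by
      rw [← hg, show g = n * k from he.symm]; group
    set z := k * x * k⁻¹ with hz
    have hzH : z ∈ H := H.mul_mem (H.mul_mem hk hx) (H.inv_mem hk)
    have h1 : z⁻¹ * y ∈ N ⊓ H := by
      refine ⟨?_, H.mul_mem (H.inv_mem hzH) hy⟩
      rw [← hg', ← mul_assoc, ← mul_assoc]
      exact N.mul_mem (by simpa [mul_assoc] using hn.conj_mem n hnN z⁻¹) (N.inv_mem hnN)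
    rw [disjoint_iff.mp hN.disjoint, Subgroup.mem_bot, inv_mul_eq_one] at h1
    exact h1
  · intro h
    refine exists_complement H hHall fun p hp hpd => ?_
    haveI := hH
    let P₀ : Sylow p H := Classical.arbitrary _
    obtain ⟨i, hi⟩ := IsPGroup.iff_card.mp P₀.2
    have hPc : Nat.card ((P₀ : Subgroup H).map H.subtype) = p ^ (Nat.card G).factorization p := by
      rw [Subgroup.card_map_of_injective H.subtype_injective, P₀.card_eq_multiplicity]
      congr 1
      rw [← H.card_mul_index, Nat.factorization_mul Nat.card_pos.ne' H.index_ne_zero_of_finite,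
        Finsupp.add_apply, Nat.factorization_eq_zero_of_not_dvd (n := H.index) fun hd =>
          hp.out.not_dvd_one (hHall ▸ Nat.dvd_gcd hpd hd), add_zero]
    let P : Sylow p G := Sylow.ofCard _ hPc
    have hPH : ((P₀ : Subgroup H).map H.subtype) ≤ H := Subgroup.map_subtype_le _
    refine Cfsg.Lib.Fusion.hasNormalPComplement_of_controls P fun x hx g hgx => ?_
    obtain ⟨k, hk, he⟩ := h x (hPH hx) _ (hPH hgx) ⟨g, rfl⟩
    obtain ⟨t, ht, m, hm, hkm⟩ := Cfsg.Lib.Fusion.exists_mul_of_sylow P₀ (⟨k, hk⟩ : H)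
    refine ⟨(t : G), ⟨t, ht, rfl⟩, ?_⟩
    have hmc : ∀ z ∈ Cfsg.pResidual p H, ∀ a ∈ (P₀ : Subgroup H), Commute z a := by
      intro z hz
      induction hz using Subgroup.closure_induction with
      | mem z hz =>
        intro a ha
        obtain ⟨j, hj⟩ := IsPGroup.iff_orderOf.mp P₀.2 ⟨a, ha⟩
        rw [Subgroup.orderOf_mk] at hj
        exact Cfsg.Lib.PGroup.commute_of_coprime_orderOf z a (hj ▸ hz.pow_right j)
      | one => exact fun a _ => Commute.one_left a
      | mul u v _ _ hu hv => exact fun a ha => (hu a ha).mul_left (hv a ha)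
      | inv u _ hu => exact fun a ha => (hu a ha).inv_left
    obtain ⟨x', hx', hxx⟩ := hx
    have hxx' : (x' : G) = x := hxx
    have h3 : (m : G) * x = x * m := hxx' ▸ congrArg Subtype.val (hmc m hm x' hx').eq
    rw [← he, show k = (t : G) * m from congrArg Subtype.val hkm]
    rw [mul_inv_rev, mul_assoc (t : G) m x, h3]
    group

end Cfsg.Agent.S0079
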