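import Cfsg.Statements.S0087
import Cfsg.Agent.S0079
import Cfsg.Agent.Lib.Coprime.Conjugacy

set_option autoImplicit false
set_option linter.style.haveILetI false
open Cfsg

namespace Cfsg.Agent.S0087

open Subgroup Cfsg.Lib.Fusion in
theorem pNilpotent {G : Type*} [Group G] [Finite G] (H : Subgroup G)
    (hHall : Nat.Coprime (Nat.card H) H.index)
    (hNC : normalizer (H : Set G) ≤ centralizer (H : Set G)) :
    ∀ (p : ℕ) [Fact p.Prime], p ∣ Nat.card H → HasNormalPComplement p G := by
  induction hm : Nat.card G using Nat.strong_induction_on generalizing G with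
  | _ m ih =>
  subst hm
  intro p hp hpd
  haveI hab : IsMulCommutative H :=
    ⟨⟨fun a b => Subtype.ext ((hNC (le_normalizer b.2)) a a.2)⟩⟩
  haveI : Group.IsSolvable H := Group.isSolvable_of_comm fun a b => hab.is_comm.comm a b
  -- the hypotheses in a proper overgroup
  have sub : ∀ M : Subgroup G, M ≠ ⊤ → H ≤ M →
      ∃ K : Subgroup M, K.Normal ∧ K.IsComplement' (H.subgroupOf M) := by
    intro M hM hHM
    have hc : Nat.card (H.subgroupOf M) = Nat.card H :=
      Nat.card_congr (subgroupOfEquivOfLe hHM).toEquiv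
    have hco : Nat.Coprime (Nat.card (H.subgroupOf M)) (H.subgroupOf M).index := by
      rw [hc]
      exact hHall.coprime_dvd_right (H.relIndex_dvd_index_of_le hHM)
    refine Cfsg.Agent.S0079.exists_complement _ hco ?_
    refine @ih (Nat.card M) ((card_le_card_group M).lt_of_ne fun he => hM (eq_top_of_card_eq _ he))
      M _ _ _ hco (fun n hn y hy => ?_) rfl
    have h1 : (n : G) ∈ normalizer (H : Set G) := le_normalizer_of_conj_mem fun z hz =>
      mem_subgroupOf.mp ((mem_normalizer_iff.mp hn ⟨z, hHM hz⟩).mp (mem_subgroupOf.mpr hz))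
    exact Subtype.ext (hNC h1 y (mem_subgroupOf.mp hy))
  let P₀ : Sylow p H := Classical.arbitrary _
  have hPc : Nat.card ((P₀ : Subgroup H).map H.subtype) = p ^ (Nat.card G).factorization p := by
    rw [Subgroup.card_map_of_injective H.subtype_injective, P₀.card_eq_multiplicity]
    congr 1
    rw [← H.card_mul_index, Nat.factorization_mul Nat.card_pos.ne' H.index_ne_zero_of_finite,
      Finsupp.add_apply, Nat.factorization_eq_zero_of_not_dvd (n := H.index) fun hd =>
        hp.out.not_dvd_one (hHall ▸ Nat.dvd_gcd hpd hd), add_zero]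
  let P : Sylow p G := Sylow.ofCard _ hPc
  set Q : Subgroup G := (P₀ : Subgroup H).map H.subtype with hQ
  have hQH : Q ≤ H := map_subtype_le _
  have hHN : H ≤ normalizer (Q : Set G) := fun k hk => le_normalizer_of_conj_mem fun z hz => by
    rw [show k * z * k⁻¹ = z by rw [hNC (le_normalizer (hQH hz)) k hk, mul_inv_cancel_right]]
    exact hz
  refine hasNormalPComplement_of_normalizer_le_centralizer P ?_
  show normalizer (Q : Set G) ≤ centralizer (Q : Set G)
  have hHC : H ≤ centralizer (Q : Set G) := fun k hk z hz =>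
    hNC (le_normalizer hk) z (hQH hz)
  by_cases hM : normalizer (Q : Set G) = ⊤
  swap
  · obtain ⟨K, hKn, hK⟩ := sub _ hM hHN
    intro g hg z hz
    obtain ⟨⟨⟨n, hn⟩, ⟨k, hk⟩⟩, he, -⟩ := hK.existsUnique ⟨g, hg⟩
    have hzN : z ∈ normalizer (Q : Set G) := le_normalizer hz
    have h1 : n * ⟨z, hzN⟩ * n⁻¹ * ⟨z, hzN⟩⁻¹ ∈ K ⊓ H.subgroupOf (normalizer (Q : Set G)) := by
      refine ⟨?_, ?_⟩
      · rw [mul_assoc, mul_assoc]
        exact mul_mem hn (by simpa [mul_assoc] using hKn.conj_mem _ (inv_mem hn) ⟨z, hzN⟩)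
      · exact mem_subgroupOf.mpr (mul_mem (hQH ((mem_normalizer_iff.mp n.2 z).mp hz)) (inv_mem (hQH hz)))
    rw [disjoint_iff.mp hK.disjoint, mem_bot] at h1
    have h2 : (n : G) * z = z * n := mul_inv_eq_iff_eq_mul.mp (mul_inv_eq_one.mp (congrArg Subtype.val h1))
    have h3 : z * (k : G) = k * z := hHC (mem_subgroupOf.mp hk) z hz
    have he' : (n : G) * k = g := congrArg Subtype.val he
    rw [← he']
    calc z * ((n : G) * k) = (z * n) * k := (mul_assoc _ _ _).symm
      _ = n * (z * k) := by rw [← h2, mul_assoc]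
      _ = n * k * z := by rw [h3, mul_assoc]
  haveI hQn : Q.Normal := normalizer_eq_top_iff.mp hM
  have hCtop : centralizer (Q : Set G) = ⊤ := by
    by_contra hC
    haveI hCn : (centralizer (Q : Set G)).Normal := inferInstance
    set C := centralizer (Q : Set G) with hCdef
    obtain ⟨K, hKn, hK⟩ := sub C hC hHC
    have hKchar : ∀ c : C, c ∈ K ↔ (orderOf c).Coprime (Nat.card H) := by
      intro c
      have hcop : (Nat.card K).Coprime (Nat.card H) := by
        rw [← hK.index_eq_card]
        exact (hHall.coprime_dvd_right (H.relIndex_dvd_index_of_le hHC)).symm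
      refine ⟨fun hc => hcop.coprime_dvd_left (Subgroup.orderOf_dvd_natCard K hc), fun hc => ?_⟩
      rw [← QuotientGroup.eq_one_iff, ← orderOf_eq_one_iff]
      refine Nat.eq_one_of_dvd_coprimes hc (orderOf_map_dvd (QuotientGroup.mk' K) c) ?_
      refine (_root_.orderOf_dvd_natCard _).trans (dvd_of_eq ?_)
      exact hK.symm.index_eq_card.trans (Nat.card_congr (subgroupOfEquivOfLe hHC).toEquiv)
    set K' : Subgroup G := K.map C.subtype with hK'
    haveI hK'n : K'.Normal := ⟨fun y hy g => by
      obtain ⟨c, hc, rfl⟩ := hy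
      refine ⟨⟨g * c * g⁻¹, hCn.conj_mem _ c.2 g⟩, (hKchar _).mpr ?_, rfl⟩
      rw [← Subgroup.orderOf_coe]
      show (orderOf (g * (c : G) * g⁻¹)).Coprime _
      rw [show g * (c : G) * g⁻¹ = MulAut.conj g (c : G) from rfl, MulEquiv.orderOf_eq,
        Subgroup.orderOf_coe]
      exact (hKchar _).mp hc⟩
    have hcopK : (Nat.card H).Coprime (Nat.card K') := by
      rw [hK', Subgroup.card_map_of_injective C.subtype_injective, ← hK.index_eq_card]
      exact hHall.coprime_dvd_right (H.relIndex_dvd_index_of_le hHC)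
    apply hC
    rw [eq_top_iff]
    intro g _
    have hB : H.map (MulAut.conj g).toMonoidHom ≤ K' ⊔ H := by
      rintro _ ⟨k, hk, rfl⟩
      obtain ⟨⟨⟨n, hn⟩, ⟨j, hj⟩⟩, he, -⟩ := hK.existsUnique ⟨g * k * g⁻¹, hCn.conj_mem _ (hHC hk) g⟩
      have he' : (n : G) * j = g * k * g⁻¹ := congrArg Subtype.val he
      show g * k * g⁻¹ ∈ K' ⊔ H
      rw [← he']
      exact mul_mem (mem_sup_left ⟨n, hn, rfl⟩) (mem_sup_right (mem_subgroupOf.mp hj))
    obtain ⟨n, hn, he⟩ := Cfsg.Lib.Coprime.exists_conj_of_coprime K' H _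
      (fun k _ => normalizer_eq_top (H := K') ▸ mem_top k) hcopK (Or.inl inferInstance) hB
      (Subgroup.card_map_of_injective (MulAut.conj g).injective)
    have hng : n⁻¹ * g ∈ normalizer (H : Set G) := le_normalizer_of_conj_mem fun k hk => by
      have hm : MulAut.conj g k ∈ H.map (MulAut.conj n).toMonoidHom := he ▸ ⟨k, hk, rfl⟩
      obtain ⟨j, hj, hje⟩ := hm
      have hje' : n * j * n⁻¹ = g * k * g⁻¹ := hje
      rw [show n⁻¹ * g * k * (n⁻¹ * g)⁻¹ = n⁻¹ * (g * k * g⁻¹) * n by group, ← hje']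
      rwa [show n⁻¹ * (n * j * n⁻¹) * n = j by group]
    have hnC : n ∈ C := by obtain ⟨c, -, rfl⟩ := hn; exact c.2
    have h4 : n⁻¹ * g ∈ C := fun z hz => hNC hng z (hQH hz)
    have := mul_mem hnC h4
    rwa [mul_inv_cancel_left] at this
  rw [hCtop]; exact le_top

/-- A Hall subgroup that is central in its normalizer has a normal complement. -/
theorem result {G : Type*} [Group G] [Finite G] (H : Subgroup G) (hHall : Nat.Coprime (Nat.card H) H.index) (h : Subgroup.normalizer (H : Set G) ≤ Subgroup.centralizer (H : Set G)) : ∃ N : Subgroup G, N.Normal ∧ N.IsComplement' H := by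
  exact Cfsg.Agent.S0079.exists_complement H hHall (pNilpotent H hHall h)

end Cfsg.Agent.S0087
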