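import Cfsg.Statements.S3085
import Cfsg.Agent.Lib.PGroup.Basic

set_option autoImplicit false
open Cfsg

namespace Cfsg.Agent.S3085

variable {Q : Type*} [Group Q] {z : Q}

/-- Commutation behaves additively in an extraspecial two group. -/
structure Pairing (z : Q) : Prop where
  ne : z ≠ 1
  sq : z * z = 1
  central : ∀ x : Q, z * x = x * z
  of_not : ∀ x y : Q, ¬ Commute x y → y * x = x * y * z

theorem Pairing.push (h : Pairing z) (x y : Q) : x * (z * y) = z * (x * y) := by
  rw [← mul_assoc, ← h.central x, mul_assoc]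

theorem Pairing.push' (h : Pairing z) (y : Q) : z * (z * y) = y := by
  rw [← mul_assoc, h.sq, one_mul]

theorem Pairing.parity (h : Pairing z) (a b x : Q) :
    Commute (a * b) x ↔ (Commute a x ↔ Commute b x) := by
  by_cases ha : Commute a x <;> by_cases hb : Commute b x
  · exact iff_of_true (ha.mul_left hb) (iff_of_true ha hb)
  · refine iff_of_false (fun hab => hb ?_) (fun e => hb (e.mp ha))
    simpa using ha.inv_left.mul_left hab
  · refine iff_of_false (fun hab => ha ?_) (fun e => ha (e.mpr hb))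
    simpa using hab.mul_left hb.inv_left
  · refine iff_of_true ?_ (iff_of_false ha hb)
    have h1 := h.of_not a x ha
    have h2 := h.of_not b x hb
    show a * b * x = x * (a * b)
    rw [← mul_assoc x a b, h1, mul_assoc (a * x) z b, h.central b, ← mul_assoc (a * x) b z,
      mul_assoc a x b, h2, ← mul_assoc a (b * x) z, mul_assoc (a * (b * x)) z z, h.sq, mul_one,
      mul_assoc]

omit z in
theorem commute_symm_iff {a b : Q} : Commute a b ↔ Commute b a :=
  ⟨Commute.symm, Commute.symm⟩

theorem Pairing.parity_right (h : Pairing z) (a b x : Q) :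
    Commute x (a * b) ↔ (Commute x a ↔ Commute x b) := by
  rw [commute_symm_iff, h.parity, commute_symm_iff (a := a), commute_symm_iff (a := b)]

open Classical in
/-- The transvection attached to an element `w` with square `z`, as a map. -/
noncomputable def trFun (w : Q) (x : Q) : Q := if Commute w x then x else x * w

variable [Finite Q]

theorem trFun_mul (h : Pairing z) {w : Q} (hw : w * w = z) (x y : Q) :
    trFun w (x * y) = trFun w x * trFun w y := by
  have hp := h.parity_right x y w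
  by_cases hx : Commute w x <;> by_cases hy : Commute w y
  · simp [trFun, hx, hy, hp]
  · simp [trFun, hx, hy, hp, mul_assoc]
  · simp only [trFun, hx, hy, hp, iff_true, if_false, if_true, iff_self]
    rw [mul_assoc x y w, ← hy.eq, mul_assoc]
  · simp only [trFun, hx, hy, hp, iff_self, if_true, if_false]
    have hwl : ∀ t, w * (w * t) = z * t := fun t => by rw [← mul_assoc, hw]
    rw [mul_assoc x w, h.of_not w y hy]
    simp only [mul_assoc, hwl, ← h.central, h.push, h.push']

open Classical in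
/-- The transvection attached to an element `w` with square `z`, as an automorphism. -/
noncomputable def tr (h : Pairing z) {w : Q} (hw : w * w = z) : MulAut Q :=
  MulEquiv.ofBijective (MonoidHom.mk' (trFun w) (trFun_mul h hw))
    (Finite.injective_iff_bijective.mp ((injective_iff_map_eq_one _).mpr (fun x hx => by
      simp only [MonoidHom.mk'_apply, trFun] at hx
      split_ifs at hx with hc
      · exact hx
      · exact absurd ((eq_inv_of_mul_eq_one_left hx) ▸ (Commute.refl w).inv_right) hc)))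

theorem tr_commute (h : Pairing z) {w : Q} (hw : w * w = z) {x : Q} (hx : Commute w x) :
    tr h hw x = x := if_pos hx

theorem tr_not (h : Pairing z) {w : Q} (hw : w * w = z) {x : Q} (hx : ¬ Commute w x) :
    tr h hw x = x * w := if_neg hx

theorem tr_comm (h : Pairing z) {a b : Q} (ha : a * a = z) (hb : b * b = z) (hab : Commute a b) :
    Commute (tr h ha) (tr h hb) := by
  refine MulEquiv.ext fun x => ?_
  show tr h ha (tr h hb x) = tr h hb (tr h ha x)
  have e1 := h.parity_right x b a
  have e2 := h.parity_right x a b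
  simp only [hab, hab.symm, iff_true] at e1 e2
  by_cases hxa : Commute a x <;> by_cases hxb : Commute b x
  · rw [tr_commute h hb hxb, tr_commute h ha hxa, tr_commute h hb hxb]
  · rw [tr_not h hb hxb, tr_commute h ha hxa, tr_commute h ha (e1.mpr hxa), tr_not h hb hxb]
  · rw [tr_commute h hb hxb, tr_not h ha hxa, tr_commute h hb (e2.mpr hxb)]
  · rw [tr_not h hb hxb, tr_not h ha hxa, tr_not h ha (fun c => hxa (e1.mp c)),
      tr_not h hb (fun c => hxb (e2.mp c)), mul_assoc, mul_assoc, hab.eq]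

theorem tr_sq (h : Pairing z) {w : Q} (hw : w * w = z) : tr h hw * tr h hw ∈ Inn Q := by
  refine ⟨w, MulEquiv.ext fun x => ?_⟩
  show w * x * w⁻¹ = tr h hw (tr h hw x)
  by_cases hx : Commute w x
  · rw [tr_commute h hw hx, tr_commute h hw hx, hx.eq, mul_inv_cancel_right]
  · have hxw : ¬ Commute w (x * w) := fun c => hx (((h.parity_right x w w).mp c).mpr (Commute.refl w))
    rw [tr_not h hw hx, tr_not h hw hxw, mul_inv_eq_iff_eq_mul, h.of_not w x hx]
    simp only [mul_assoc, hw, ← h.central, h.push, h.push', h.sq, mul_one]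

omit [Finite Q] in
theorem inn_normal : (Inn Q).Normal := by
  constructor
  rintro _ ⟨p, rfl⟩ φ
  refine ⟨φ p, MulEquiv.ext fun x => ?_⟩
  show φ p * x * (φ p)⁻¹ = φ (p * φ.symm x * p⁻¹)
  simp

theorem main (h : Pairing z) (hcen : ∀ c ∈ Subgroup.center Q, c = 1 ∨ c = z)
    (hcm : ∀ q y : Q, y⁻¹ * (q * y * q⁻¹) ∈ Subgroup.center Q) (hzc : z ∈ Subgroup.center Q)
    {u v w a b₁ b₂ : Q} (hu : u * u = 1) (hv : v * v = 1) (hw : w * w = z) (huv : Commute u v)
    (huw : Commute u w) (hvw : Commute v w) (hau : Commute u a) (hav : Commute v a)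
    (haw : ¬ Commute w a) (h1u : ¬ Commute u b₁) (h1v : Commute v b₁) (h1w : Commute w b₁)
    (h2v : ¬ Commute v b₂) (h2w : Commute w b₂) {L : Subgroup (MulAut Q)}
    (hL : (Inn Q).IsComplement' L) : False := by
  haveI := inn_normal (Q := Q)
  have sqm : ∀ {x y : Q}, Commute x y → x * y * (x * y) = x * x * (y * y) := fun {x y} c =>
    Commute.mul_mul_mul_comm c.symm x y
  have hwu : w * u * (w * u) = z := by rw [sqm huw.symm, hw, hu, mul_one]
  have hwv : w * v * (w * v) = z := by rw [sqm hvw.symm, hw, hv, mul_one]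
  have hwuv : w * u * v * (w * u * v) = z := by
    rw [sqm (hvw.symm.mul_left huv), hwu, hv, mul_one]
  have c1 : Commute (w * u) (w * v) :=
    ((Commute.refl w).mul_right hvw.symm).mul_left (huw.mul_right huv)
  have c2 : Commute (w * u) (w * u * v) := (Commute.refl _).mul_right (hvw.symm.mul_left huv)
  have c3 : Commute (w * v) (w * u * v) :=
    c1.symm.mul_right ((hvw.symm).mul_left (Commute.refl v))
  have c4 : Commute w (w * v) := (Commute.refl w).mul_right hvw.symm
  have p1 : Commute w (w * u * v) := ((Commute.refl w).mul_right huw.symm).mul_right hvw.symm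
  have p2 : Commute u (w * u * v) := (huw.mul_right (Commute.refl u)).mul_right huv
  have p3 : Commute v (w * u * v) := (hvw.mul_right huv.symm).mul_right (Commute.refl v)
  have p4 : Commute w (w * v) := c4
  have p5 : Commute u (w * v) := huw.mul_right huv
  set A := tr h hwu
  set B := tr h hwv
  set C := tr h hwuv
  set D := tr h hw
  have AB : Commute A B := tr_comm h _ _ c1
  have AC : Commute A C := tr_comm h _ _ c2
  have BC : Commute B C := tr_comm h _ _ c3
  have DB : Commute D B := tr_comm h _ _ c4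
  have AD : Commute A D := tr_comm h _ _ (((Commute.refl w).mul_left huw))
  have CD : Commute C D :=
    tr_comm h _ _ (((Commute.refl w).mul_left huw).mul_left hvw)
  have GG : A * B * C * (A * B * C) ∈ Inn Q := by
    rw [Commute.mul_mul_mul_comm (AC.mul_left BC).symm, Commute.mul_mul_mul_comm AB.symm]
    exact mul_mem (mul_mem (tr_sq h _) (tr_sq h _)) (tr_sq h _)
  have HH : D * B * (D * B) ∈ Inn Q := by
    rw [Commute.mul_mul_mul_comm DB.symm]
    exact mul_mem (tr_sq h _) (tr_sq h _)
  have GH : Commute (A * B * C) (D * B) :=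
    ((AD.mul_right AB).mul_left (DB.symm.mul_right (Commute.refl B))).mul_left
      (CD.mul_right BC.symm)
  -- representatives in the complement
  obtain ⟨⟨⟨_, q, rfl⟩, lg⟩, hlg⟩ := hL.2 (A * B * C)
  obtain ⟨⟨⟨_, r, rfl⟩, lh⟩, hlh⟩ := hL.2 (D * B)
  replace hlg : MulAut.conj q * (lg : MulAut Q) = A * B * C := hlg
  replace hlh : MulAut.conj r * (lh : MulAut Q) = D * B := hlh
  have triv : ∀ l ∈ L, l ∈ Inn Q → l = 1 := fun l hl hl' => by
    have := hL.disjoint.le_bot ⟨hl', hl⟩
    simpa using this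
  have inn : ∀ p : Q, ((MulAut.conj p : MulAut Q) : MulAut Q ⧸ Inn Q) = 1 := fun p =>
    (QuotientGroup.eq_one_iff _).mpr ⟨p, rfl⟩
  have eg : ((lg : MulAut Q) : MulAut Q ⧸ Inn Q) = ((A * B * C : MulAut Q) : MulAut Q ⧸ Inn Q) := by
    rw [← hlg, QuotientGroup.mk_mul, inn, one_mul]
  have eh : ((lh : MulAut Q) : MulAut Q ⧸ Inn Q) = ((D * B : MulAut Q) : MulAut Q ⧸ Inn Q) := by
    rw [← hlh, QuotientGroup.mk_mul, inn, one_mul]
  have g2 : (lg : MulAut Q) * lg = 1 := triv _ (mul_mem lg.2 lg.2) (by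
    rw [← QuotientGroup.eq_one_iff, QuotientGroup.mk_mul, eg, ← QuotientGroup.mk_mul,
      QuotientGroup.eq_one_iff]
    exact GG)
  have h2 : (lh : MulAut Q) * lh = 1 := triv _ (mul_mem lh.2 lh.2) (by
    rw [← QuotientGroup.eq_one_iff, QuotientGroup.mk_mul, eh, ← QuotientGroup.mk_mul,
      QuotientGroup.eq_one_iff]
    exact HH)
  have gh : (lg : MulAut Q) * lh = lh * lg := by
    refine mul_inv_eq_one.mp (triv _ (mul_mem (mul_mem lg.2 lh.2) (inv_mem (mul_mem lh.2 lg.2))) ?_)
    rw [← QuotientGroup.eq_one_iff, QuotientGroup.mk_mul, QuotientGroup.mk_inv, mul_inv_eq_one,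
      QuotientGroup.mk_mul, QuotientGroup.mk_mul, eg, eh, ← QuotientGroup.mk_mul,
      ← QuotientGroup.mk_mul, GH.eq]
  -- effect of the representatives up to centre
  have cfix : ∀ (φ : MulAut Q) (c : Q), c ∈ Subgroup.center Q → φ c = c := by
    intro φ c hc
    have hφc : φ c ∈ Subgroup.center Q := by
      rw [Subgroup.mem_center_iff] at hc ⊢
      intro g
      obtain ⟨g, rfl⟩ := φ.surjective g
      rw [← map_mul, ← map_mul, hc g]
    rcases hcen c hc with rfl | rfl
    · exact map_one φ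
    · rcases hcen _ hφc with e | e
      · exact absurd (φ.injective (e.trans (map_one φ).symm)) h.ne
      · exact e
  have cen : ∀ c ∈ Subgroup.center Q, ∀ x : Q, c * x = x * c := fun c hc x =>
    (Subgroup.mem_center_iff.mp hc x).symm
  have csq : ∀ c ∈ Subgroup.center Q, c * c = 1 := fun c hc => by
    rcases hcen c hc with rfl | rfl
    · exact one_mul 1
    · exact h.sq
  have shift : ∀ (p : Q) (l φ : MulAut Q), MulAut.conj p * l = φ → ∀ x : Q,
      ∃ c ∈ Subgroup.center Q, l x = φ x * c := by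
    intro p l φ e x
    refine ⟨(φ x)⁻¹ * l x, ?_, by rw [mul_inv_cancel_left]⟩
    have e' : φ x = p * l x * p⁻¹ := by rw [← e]; rfl
    rw [e', show l x = p⁻¹ * (p * l x * p⁻¹) * p by group]
    simpa [mul_assoc] using hcm p⁻¹ (p * l x * p⁻¹)
  have G := shift q _ _ hlg
  have H := shift r _ _ hlh
  -- values
  have Gv : (A * B * C) v = v := by
    show A (B (C v)) = v
    rw [tr_commute h hwuv ((hvw.symm.mul_left huv).mul_left (Commute.refl v)),
      tr_commute h hwv ((hvw.symm).mul_left (Commute.refl v)),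
      tr_commute h hwu (hvw.symm.mul_left huv)]
  have Gb : (A * B * C) b₁ = b₁ * v * z := by
    show A (B (C b₁)) = _
    have n1 : ¬ Commute (w * u * v) b₁ := by simp [h.parity, h1u, h1v, h1w]
    rw [tr_not h hwuv n1, tr_commute h hwv (by
        rw [h.parity_right]; simp [h.parity, h1v, h1w, p1, p3]),
      tr_not h hwu (by rw [h.parity_right]; simp [h.parity, h1u, h1w, p1, p2]),
      mul_assoc b₁, mul_assoc b₁]
    congr 1
    rw [mul_assoc (w * u) v (w * u), ← (hvw.symm.mul_left huv).eq, ← mul_assoc, hwu, h.central]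
  have Ga : (A * B * C) a = a * w * z := by
    show A (B (C a)) = _
    have n1 : ¬ Commute (w * u * v) a := by simp [h.parity, hau, hav, haw]
    rw [tr_not h hwuv n1, tr_not h hwv (by
        rw [h.parity_right]; simp [h.parity, hav, haw, p1, p3]),
      tr_not h hwu (by
        rw [h.parity_right, h.parity_right]; simp [h.parity, hau, haw, p1, p2, p4, p5]),
      mul_assoc a, mul_assoc a, mul_assoc a]
    congr 1
    rw [mul_assoc (w * u) v (w * v), ← mul_assoc v w v, hvw.eq, mul_assoc w v v, hv, mul_one,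
      mul_assoc (w * u) w (w * u), ← mul_assoc w w u, hw, mul_assoc, h.push, hu, mul_one]
  have Hv : (D * B) v = v := by
    show D (B v) = v
    rw [tr_commute h hwv (hvw.symm.mul_left (Commute.refl v)), tr_commute h hw hvw.symm]
  have Hw : (D * B) w = w := by
    show D (B w) = w
    rw [tr_commute h hwv c4.symm, tr_commute h hw (Commute.refl w)]
  have Ha : (D * B) a = a * v * z := by
    show D (B a) = _
    rw [tr_not h hwv (by simp [h.parity, hav, haw]),
      tr_not h hw (by rw [h.parity_right]; simp [haw, c4]), mul_assoc a, mul_assoc a]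
    congr 1
    rw [← hvw.eq, mul_assoc, hw]
  have Hb : (D * B) b₂ = b₂ * (w * v) := by
    show D (B b₂) = _
    rw [tr_not h hwv (by simp [h.parity, h2v, h2w]),
      tr_commute h hw (by rw [h.parity_right]; simp [h2w, c4])]
  -- the contradiction
  obtain ⟨C₁, hC₁, eC₁⟩ := G b₁
  obtain ⟨Cv, hCv, eCv⟩ := G v
  obtain ⟨C₃, hC₃, eC₃⟩ := G a
  obtain ⟨D₂, hD₂, eD₂⟩ := H b₂
  obtain ⟨Dv, hDv, eDv⟩ := H v
  obtain ⟨Dw, hDw, eDw⟩ := H w
  obtain ⟨D₃, hD₃, eD₃⟩ := H a
  rw [Gb] at eC₁; rw [Gv] at eCv; rw [Ga] at eC₃; rw [Hb] at eD₂; rw [Hv] at eDv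
  rw [Hw] at eDw; rw [Ha] at eD₃
  set l := (lg : MulAut Q)
  set m := (lh : MulAut Q)
  have ll : ∀ x, l (l x) = x := fun x => MulEquiv.congr_fun g2 x
  have mm : ∀ x, m (m x) = x := fun x => MulEquiv.congr_fun h2 x
  have lm : ∀ x, l (m x) = m (l x) := fun x => MulEquiv.congr_fun gh x
  have hzz := h.sq
  -- move central elements to the right
  have cl : ∀ c ∈ Subgroup.center Q, ∀ x y : Q, c * (x * y) = x * (c * y) := fun c hc x y => by
    rw [← mul_assoc, cen c hc x, mul_assoc]
  have Cv1 : Cv = 1 := by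
    have := ll b₁
    rw [eC₁, map_mul, map_mul, map_mul, eC₁, eCv, cfix l z hzc, cfix l C₁ hC₁] at this
    simp only [mul_assoc] at this
    rw [mul_eq_left] at this
    rwa [cl C₁ hC₁ v, cl z hzc v, ← mul_assoc v v, hv, one_mul, cl C₁ hC₁ Cv, cl z hzc Cv,
      cl C₁ hC₁ z, ← mul_assoc z z, hzz, one_mul, csq C₁ hC₁, mul_one] at this
  have Dv1 : Dv = 1 := by
    have := mm a
    rw [eD₃, map_mul, map_mul, map_mul, eD₃, eDv, cfix m z hzc, cfix m D₃ hD₃] at this
    simp only [mul_assoc] at this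
    rw [mul_eq_left] at this
    rwa [cl D₃ hD₃ v, cl z hzc v, ← mul_assoc v v, hv, one_mul, cl D₃ hD₃ Dv, cl z hzc Dv,
      cl D₃ hD₃ z, ← mul_assoc z z, hzz, one_mul, csq D₃ hD₃, mul_one] at this
  subst Cv1 Dv1
  rw [mul_one] at eCv eDv
  have Dwz : Dw = z := by
    have := mm b₂
    rw [eD₂, map_mul, map_mul, map_mul, eD₂, eDv, eDw, cfix m D₂ hD₂] at this
    simp only [mul_assoc] at this
    rw [mul_eq_left] at this
    rw [cl D₂ hD₂ w, cl D₂ hD₂ Dw, cl D₂ hD₂ v, csq D₂ hD₂, mul_one, cen Dw hDw v,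
      ← mul_assoc v w, hvw.eq, mul_assoc w v, ← mul_assoc v v, hv, one_mul, ← mul_assoc, hw] at this
    rw [← mul_one Dw, ← hzz, ← mul_assoc, cen Dw hDw z, this, one_mul]
  have := lm a
  rw [eD₃, eC₃, map_mul, map_mul, map_mul, map_mul, map_mul, map_mul, eC₃, eD₃, eCv, eDw, Dwz,
    cfix l z hzc, cfix l D₃ hD₃, cfix m z hzc, cfix m C₃ hC₃] at this
  simp only [mul_assoc] at this
  rw [mul_left_cancel_iff] at this
  rw [cl C₃ hC₃ v, cl z hzc v, cl D₃ hD₃ w, cl z hzc w, ← mul_assoc v w, hvw.eq, mul_assoc,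
    mul_left_cancel_iff, mul_left_cancel_iff] at this
  simp only [h.push, h.push', cen D₃ hD₃ C₃] at this
  exact h.ne (mul_eq_left.mp (show C₃ * D₃ * z = C₃ * D₃ by
    rw [← h.central, mul_assoc] at *; first | exact this | exact this.symm))

theorem result {Q : Type*} [Group Q] [Finite Q] (n : ℕ) (hn : 3 ≤ n) (hQ : Cfsg.IsExtraspecial 2 Q) (hcard : Nat.card Q = 2 ^ (2 * n + 1)) (hplus : ∃ E : Subgroup Q, Cfsg.IsElementaryAbelian 2 E ∧ Nat.card ↥E = 2 ^ (n + 1)) (L : Subgroup (MulAut Q)) : ¬ (Cfsg.Inn Q).IsComplement' L := by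
  intro hL
  classical
  obtain ⟨⟨hp, hfr, hcomm⟩, hz2⟩ := hQ
  obtain ⟨z', hz'⟩ : ∃ z' : Subgroup.center Q, z' ≠ 1 :=
    Finite.one_lt_card_iff_nontrivial.mp (by omega : 1 < Nat.card (Subgroup.center Q)) |>.exists_pair_ne
      |> fun ⟨a, b, hab⟩ => by
        by_cases ha : a = 1
        · exact ⟨b, fun hb => hab (ha.trans hb.symm)⟩
        · exact ⟨a, ha⟩
  obtain ⟨z, hzc⟩ := z'
  have hz1 : z ≠ 1 := fun h => hz' (Subtype.ext h)
  have hcen : ∀ c ∈ Subgroup.center Q, c = 1 ∨ c = z := by
    intro c hc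
    by_contra hh
    push Not at hh
    have h3 : ({1, ⟨z, hzc⟩, ⟨c, hc⟩} : Finset (Subgroup.center Q)).card = 3 := by
      rw [Finset.card_eq_three]
      exact ⟨1, ⟨z, hzc⟩, ⟨c, hc⟩, Ne.symm hz', fun h => hh.1 (congrArg Subtype.val h).symm,
        fun h => hh.2 (congrArg Subtype.val h).symm, rfl⟩
    haveI := Fintype.ofFinite (Subgroup.center Q)
    have := Finset.card_le_univ ({1, ⟨z, hzc⟩, ⟨c, hc⟩} : Finset (Subgroup.center Q))
    rw [h3, ← Nat.card_eq_fintype_card, hz2] at this
    omega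
  have hcen' : ∀ c ∈ Subgroup.center Q, ∀ x, c * x = x * c := fun c hc x =>
    (Subgroup.mem_center_iff.mp hc x).symm
  have hsqc : ∀ x : Q, x * x = 1 ∨ x * x = z := fun x => hcen _ (by
    rw [← hfr, ← sq]; exact Cfsg.Lib.PGroup.pow_mem_frattini hp x)
  have hzz : z * z = 1 := by
    rcases hcen _ (mul_mem hzc hzc) with h | h
    · exact h
    · exact absurd (mul_eq_left.mp h) hz1
  have hcom : ∀ x y : Q, x⁻¹ * y⁻¹ * x * y ∈ Subgroup.center Q := fun x y => by
    rw [← hcomm]
    simpa [commutator_def, commutatorElement_def] using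
      Subgroup.commutator_mem_commutator (Subgroup.mem_top x⁻¹) (Subgroup.mem_top y⁻¹)
  have h : Pairing z := ⟨hz1, hzz, hcen' z hzc, fun x y hxy => by
    rcases hcen _ (hcom y x) with e | e
    · refine absurd ?_ hxy
      show x * y = y * x
      calc x * y = x * y * 1 := (mul_one _).symm
        _ = y * x := by rw [← e]; group
    · rw [← e]; group⟩
  have hcm : ∀ q y : Q, y⁻¹ * (q * y * q⁻¹) ∈ Subgroup.center Q := fun q y => by
    simpa [mul_assoc] using hcom y q⁻¹
  obtain ⟨E, ⟨hab, hE2⟩, hEc⟩ := hplus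
  have hEc16 : 16 ≤ Nat.card E := by
    rw [hEc]
    calc 16 = 2 ^ 4 := by norm_num
      _ ≤ _ := Nat.pow_le_pow_right (by norm_num) (by omega)
  have pick : ∀ s : Finset Q, s.card ≤ 8 → ∃ x ∈ E, x ∉ s := by
    intro s hs
    by_contra hh
    push Not at hh
    have : Nat.card E ≤ s.card := by
      rw [← Nat.card_eq_finsetCard]
      exact Nat.card_le_card_of_injective (fun e : E => (⟨e.1, hh e.1 e.2⟩ : s))
        (fun a b hab => Subtype.ext (congrArg (fun e : s => (e : Q)) hab))
    omega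
  have Ecomm : ∀ x ∈ E, ∀ y ∈ E, Commute x y := fun x hx y hy =>
    congrArg Subtype.val (hab.is_comm.comm ⟨x, hx⟩ ⟨y, hy⟩)
  have Esq : ∀ x ∈ E, x * x = 1 := fun x hx => by rw [← sq]; exact hE2 x hx
  obtain ⟨u, huE, hu⟩ := pick {1, z} ((Finset.card_le_two).trans (by norm_num))
  obtain ⟨v, hvE, hv⟩ := pick {1, z, u, u * z} ((Finset.card_le_four).trans (by norm_num))
  obtain ⟨e, heE, he⟩ := pick ({1, z, u, u * z} ∪ {v, v * z, u * v, u * v * z})
    ((Finset.card_union_le _ _).trans (Nat.add_le_add Finset.card_le_four Finset.card_le_four))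
  simp only [Finset.mem_insert, Finset.mem_singleton, Finset.mem_union, not_or] at hu hv he
  have ucm := Ecomm u huE
  have vcm := Ecomm v hvE
  have key : ∀ d : Q, (∀ x, Commute d x) → d = 1 ∨ d = z := fun d hd =>
    hcen d (Subgroup.mem_center_iff.mpr fun x => (hd x).symm)
  have undo : ∀ {a d t : Q}, a * a = 1 → d * a = t → d = t * a := fun {a d t} ha hd => by
    rw [← hd, mul_assoc, ha, mul_one]
  have zu : ∀ x, z * x = x * z := hcen' z hzc
  have sep : ∀ a ∈ E, ∀ b : Q, a ≠ 1 → a ≠ z → b ≠ 1 → b ≠ z → b ≠ a → b ≠ a * z →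
      ∃ x, Commute a x ∧ ¬ Commute b x := by
    intro a ha b a1 az b1 bz ba baz
    obtain ⟨xa, hxa⟩ : ∃ x, ¬ Commute a x := by
      by_contra hh
      push Not at hh
      exact (key a hh).elim a1 az
    by_contra hh
    push Not at hh
    by_cases hb : Commute b xa
    · refine (key b fun x => ?_).elim b1 bz
      by_cases hx : Commute a x
      · exact hh x hx
      · have := hh (x * xa) (by rw [h.parity_right]; simp [hx, hxa])
        rw [h.parity_right] at this
        exact this.mpr hb
    · rcases key (b * a) (fun x => by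
        rw [h.parity]
        by_cases hx : Commute a x
        · simp [hx, hh x hx]
        · have := hh (x * xa) (by rw [h.parity_right]; simp [hx, hxa])
          rw [h.parity_right] at this
          simp [hx, this, hb]) with e | e
      · exact ba (by simpa using undo (Esq a ha) e)
      · exact baz (by rw [undo (Esq a ha) e, zu])
  obtain ⟨x₂, h2u, h2v⟩ := sep u huE v hu.1 hu.2 hv.1 hv.2.1 hv.2.2.1 hv.2.2.2
  obtain ⟨x₁, h1v, h1u⟩ := sep v hvE u hv.1 hv.2.1 hu.1 hu.2 (Ne.symm hv.2.2.1) (fun e => hv.2.2.2 (by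
    rw [e, mul_assoc, hzz, mul_one]))
  -- an element separating `e` from `u` and `v`
  obtain ⟨x, hxu, hxv, hxe⟩ : ∃ x, Commute u x ∧ Commute v x ∧ ¬ Commute e x := by
    by_contra hh
    push Not at hh
    obtain ⟨e₁, he₁, f1⟩ : ∃ e₁, (e₁ = e ∨ e₁ = e * u) ∧ Commute e₁ x₁ := by
      by_cases hc : Commute e x₁
      · exact ⟨e, Or.inl rfl, hc⟩
      · exact ⟨_, Or.inr rfl, by rw [h.parity]; simp [hc, h1u]⟩
    obtain ⟨e₂, he₂, f2, f3⟩ : ∃ e₂, (e₂ = e₁ ∨ e₂ = e₁ * v) ∧ Commute e₂ x₁ ∧ Commute e₂ x₂ := by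
      by_cases hc : Commute e₁ x₂
      · exact ⟨e₁, Or.inl rfl, f1, hc⟩
      · exact ⟨_, Or.inr rfl, by rw [h.parity]; simp [f1, h1v],
          by rw [h.parity]; simp [hc, h2v]⟩
    have base : ∀ y, Commute u y → Commute v y → Commute e₂ y := by
      intro y hy hy'
      have := hh y hy hy'
      rcases he₁ with rfl | rfl <;> rcases he₂ with rfl | rfl <;> simp [h.parity, hy, hy', this]
    have all : ∀ y, Commute e₂ y := by
      intro y
      by_cases hy : Commute u y <;> by_cases hy' : Commute v y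
      · exact base y hy hy'
      · have := base (y * x₂) (by rw [h.parity_right]; simp [hy, h2u])
          (by rw [h.parity_right]; simp [hy', h2v])
        rw [h.parity_right] at this
        exact this.mpr f3
      · have := base (y * x₁) (by rw [h.parity_right]; simp [hy, h1u])
          (by rw [h.parity_right]; simp [hy', h1v])
        rw [h.parity_right] at this
        exact this.mpr f2
      · have := base (y * (x₁ * x₂))
          (by rw [h.parity_right, h.parity_right]; simp [hy, h1u, h2u])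
          (by rw [h.parity_right, h.parity_right]; simp [hy', h1v, h2v])
        rw [h.parity_right, h.parity_right] at this
        exact this.mpr (iff_of_true f2 f3)
    rcases he₁ with rfl | rfl <;> rcases he₂ with rfl | rfl <;> rcases key _ all with q | q
    · exact he.1.1 q
    · exact he.1.2.1 q
    · exact he.2.1 (by simpa using undo (Esq v hvE) q)
    · exact he.2.2.1 (by rw [undo (Esq v hvE) q, zu])
    · exact he.1.2.2.1 (by simpa using undo (Esq u huE) q)
    · exact he.1.2.2.2 (by rw [undo (Esq u huE) q, zu])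
    · have := undo (Esq u huE) (undo (Esq v hvE) q)
      exact he.2.2.2.1 (by rw [this, one_mul, (vcm u huE).eq])
    · have := undo (Esq u huE) (undo (Esq v hvE) q)
      exact he.2.2.2.2 (by rw [this, mul_assoc, zu, (vcm u huE).eq])
  obtain ⟨w, hw, hwu, hwv, hwe⟩ :
      ∃ w, w * w = z ∧ Commute u w ∧ Commute v w ∧ ¬ Commute w e := by
    rcases hsqc x with hx | hx
    · refine ⟨x * e, ?_, hxu.mul_right (ucm e heE), hxv.mul_right (vcm e heE), ?_⟩
      · rw [mul_assoc, ← mul_assoc e x e, h.of_not x e (fun c => hxe c.symm), mul_assoc (x * e) z e,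
          zu, ← mul_assoc (x * e) e z, mul_assoc x e e, Esq e heE, mul_one, ← mul_assoc, hx, one_mul]
      · rw [h.parity]; simpa using fun c => hxe (Commute.symm c)
    · exact ⟨x, hx, hxu, hxv, fun c => hxe c.symm⟩
  obtain ⟨b₁, hb1u, hb1v, hb1w⟩ : ∃ b, ¬ Commute u b ∧ Commute v b ∧ Commute w b := by
    by_cases hc : Commute w x₁
    · exact ⟨x₁, h1u, h1v, hc⟩
    · exact ⟨x₁ * e, by rw [h.parity_right]; simp [h1u, ucm e heE],
        h1v.mul_right (vcm e heE), by rw [h.parity_right]; simp [hc, hwe]⟩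
  obtain ⟨b₂, hb2v, hb2w⟩ : ∃ b, ¬ Commute v b ∧ Commute w b := by
    by_cases hc : Commute w x₂
    · exact ⟨x₂, h2v, hc⟩
    · exact ⟨x₂ * e, by rw [h.parity_right]; simp [h2v, vcm e heE],
        by rw [h.parity_right]; simp [hc, hwe]⟩
  exact main h hcen hcm hzc (Esq u huE) (Esq v hvE) hw (ucm v hvE) hwu hwv (ucm e heE)
    (vcm e heE) hwe hb1u hb1v hb1w hb2v hb2w hL

end Cfsg.Agent.S3085
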