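import Cfsg.Statements.S2880
import Cfsg.Agent.Lib.PGroup.Basic
import Cfsg.Agent.S3085
-- import your own Cfsg.Agent.* helpers here

set_option autoImplicit false
open Cfsg

namespace Cfsg.Agent.S2880

/-- Let E be an extraspecial 2-group of order 2^(2m+1) of plus type, that is, containing an elementary abelian subgroup of order 2^(m+1) (equivalently, a central product of m dihedral groups of order 8). Then E has exactly 2^(2m) − 2^m elements of order 4. -/
theorem result {E : Type*} [Group E] [Finite E] (m : ℕ) (hm : 1 ≤ m) (hE : Cfsg.IsExtraspecial 2 E) (hcard : Nat.card E = 2 ^ (2 * m + 1)) (hplus : ∃ A : Subgroup E, Cfsg.IsElementaryAbelian 2 A ∧ Nat.card A = 2 ^ (m + 1)) : Nat.card {x : E // orderOf x = 4} = 2 ^ (2 * m) - 2 ^ m := by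
  classical
  haveI := Fintype.ofFinite E
  obtain ⟨⟨hp, hfr, hcomm⟩, hz2⟩ := hE
  obtain ⟨z, hz⟩ : ∃ z : ↥(Subgroup.center E), z ≠ 1 := by
    haveI : Nontrivial ↥(Subgroup.center E) := Finite.one_lt_card_iff_nontrivial.mp (by omega)
    exact exists_ne 1
  have hcen : ∀ c ∈ Subgroup.center E, c = 1 ∨ c = (z : E) := by
    intro c hc
    have h2 : ∀ a b : ↥(Subgroup.center E), a ≠ 1 → b ≠ 1 → a = b := by
      intro a b ha hb
      by_contra hab
      haveI := Fintype.ofFinite ↥(Subgroup.center E)
      have h3 : ({1, a, b} : Finset ↥(Subgroup.center E)).card = 3 :=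
        Finset.card_eq_three.mpr ⟨1, a, b, Ne.symm ha, Ne.symm hb, hab, rfl⟩
      have := Finset.card_le_univ ({1, a, b} : Finset ↥(Subgroup.center E))
      rw [h3, ← Nat.card_eq_fintype_card, hz2] at this
      omega
    by_cases hc1 : c = 1
    · exact Or.inl hc1
    · exact Or.inr (congrArg Subtype.val (h2 ⟨c, hc⟩ z (fun e => hc1 (congrArg Subtype.val e)) hz))
  have hz1 : (z : E) ≠ 1 := fun e => hz (Subtype.ext e)
  have hzz : (z : E) * z = 1 := by
    rcases hcen _ (mul_mem z.2 z.2) with h | h
    · exact h
    · exact absurd (mul_eq_left.mp h) hz1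
  have hsqc : ∀ x : E, x * x = 1 ∨ x * x = z := fun x => hcen _ (by
    rw [← hfr, ← sq]; exact Cfsg.Lib.PGroup.pow_mem_frattini hp x)
  have hcom : ∀ x y : E, x⁻¹ * y⁻¹ * x * y ∈ Subgroup.center E := fun x y => by
    rw [← hcomm]
    simpa [commutator_def, commutatorElement_def] using
      Subgroup.commutator_mem_commutator (Subgroup.mem_top x⁻¹) (Subgroup.mem_top y⁻¹)
  have hP : Cfsg.Agent.S3085.Pairing (z : E) := ⟨hz1, hzz, fun x => (Subgroup.mem_center_iff.mp z.2 x).symm,
    fun x y hxy => by
      rcases hcen _ (hcom y x) with e | e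
      · refine absurd ?_ hxy
        show x * y = y * x
        calc x * y = x * y * 1 := (mul_one _).symm
          _ = y * x := by rw [← e]; group
      · rw [← e]; group⟩
  obtain ⟨A, ⟨hAc, hA2⟩, hAcard⟩ := hplus
  set SA : Finset E := Finset.univ.filter fun a => a ∈ A with hSA
  have hSAcard : SA.card = 2 ^ (m + 1) := by
    rw [← hAcard, Nat.card_eq_fintype_card, hSA, ← Fintype.card_subtype]
  -- halving
  have half : ∀ (K : Subgroup E) (x : E), (∃ a ∈ K, ¬ Commute a x) →
      2 * ((Finset.univ.filter fun a => a ∈ K).filter fun a => Commute a x).card =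
        (Finset.univ.filter fun a => a ∈ K).card := by
    intro K x ⟨a0, ha0, hna⟩
    set S := (Finset.univ.filter fun a => a ∈ K) with hS
    have h1 : (S.filter fun a => Commute a x).card = (S.filter fun a => ¬ Commute a x).card := by
      refine Finset.card_bij (fun a _ => a * a0) ?_ (fun a _ b _ e => mul_right_cancel e) ?_
      · intro a ha
        simp only [hS, Finset.mem_filter, Finset.mem_univ, true_and] at ha ⊢
        exact ⟨mul_mem ha.1 ha0, by rw [hP.parity]; exact fun e => hna (e.1 ha.2)⟩
      · intro b hb
        simp only [hS, Finset.mem_filter, Finset.mem_univ, true_and] at hb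
        refine ⟨b * a0⁻¹, ?_, by rw [inv_mul_cancel_right]⟩
        simp only [hS, Finset.mem_filter, Finset.mem_univ, true_and]
        refine ⟨mul_mem hb.1 (inv_mem ha0), ?_⟩
        rw [hP.parity]
        exact iff_of_false hb.2 fun h => hna (by simpa using h.inv_left)
    have h2 := Finset.card_filter_add_card_filter_not (s := S) (p := fun a => Commute a x)
    omega
  have hEcard : (Finset.univ : Finset E).card = 2 ^ (2 * m + 1) := by
    rw [Finset.card_univ, ← Nat.card_eq_fintype_card, hcard]
  set C : Finset E := Finset.univ.filter fun x => ∀ a ∈ A, Commute a x with hC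
  set ZA : Finset E := SA.filter fun a => a ∈ Subgroup.center E with hZA
  have hcount : SA.card * C.card = ZA.card * (Finset.univ : Finset E).card := by
    have e1 : ∀ x : E, 2 * (SA.filter fun a => Commute a x).card =
        SA.card + if x ∈ C then SA.card else 0 := by
      intro x
      by_cases hx : x ∈ C
      · rw [if_pos hx, Finset.filter_true_of_mem]
        · ring
        · intro a ha
          simp only [hC, Finset.mem_filter] at hx
          simp only [hSA, Finset.mem_filter] at ha
          exact hx.2 a ha.2
      · rw [if_neg hx, add_zero]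
        simp only [hC, Finset.mem_filter, Finset.mem_univ, true_and, not_forall] at hx
        obtain ⟨a, ha, hax⟩ := hx
        exact half A x ⟨a, ha, hax⟩
    have e2 : ∀ a : E, 2 * ((Finset.univ : Finset E).filter fun x => Commute a x).card =
        (Finset.univ : Finset E).card + if a ∈ Subgroup.center E then (Finset.univ : Finset E).card else 0 := by
      intro a
      by_cases ha : a ∈ Subgroup.center E
      · rw [if_pos ha, Finset.filter_true_of_mem]
        · ring
        · exact fun x _ => ((Subgroup.mem_center_iff.mp ha x).symm : a * x = x * a)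
      · rw [if_neg ha, add_zero]
        have hx : ∃ b ∈ (⊤ : Subgroup E), ¬ Commute b a := by
          by_contra hh
          push Not at hh
          exact ha (Subgroup.mem_center_iff.mpr fun b => hh b trivial)
        have := half ⊤ a hx
        simp only [Subgroup.mem_top, Finset.filter_true] at this
        rw [← this]
        congr 2
        exact Finset.filter_congr fun x _ => Cfsg.Agent.S3085.commute_symm_iff
    have hsum : ∑ x : E, (SA.filter fun a => Commute a x).card =
        ∑ a ∈ SA, ((Finset.univ : Finset E).filter fun x => Commute a x).card := by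
      simp only [Finset.card_filter]
      exact Finset.sum_comm
    have h3 := congrArg (2 * ·) hsum
    simp only [Finset.mul_sum, e1, e2, Finset.sum_add_distrib, Finset.sum_const, smul_eq_mul] at h3
    rw [← Finset.sum_filter, ← Finset.sum_filter, Finset.sum_const, Finset.sum_const, smul_eq_mul,
      smul_eq_mul, Finset.filter_mem_eq_inter, Finset.univ_inter, ← hZA] at h3
    linarith
  have hAC : SA ⊆ C := by
    intro a ha
    simp only [hSA, Finset.mem_filter] at ha
    simp only [hC, Finset.mem_filter, Finset.mem_univ, true_and]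
    exact fun b hb => (congrArg Subtype.val (hAc.is_comm.comm ⟨b, hb⟩ ⟨a, ha.2⟩) :)
  have hZA2 : ZA.card ≤ 2 := by
    refine (Finset.card_le_card (t := {1, (z : E)}) fun c hc => ?_).trans Finset.card_le_two
    simp only [hZA, Finset.mem_filter] at hc
    simpa using hcen c hc.2
  have hCA : C = SA := by
    refine (Finset.eq_of_subset_of_card_le hAC ?_).symm
    rw [hSAcard, hEcard] at hcount
    rw [hSAcard]
    have h4 : 2 ^ (m + 1) * C.card ≤ 2 * 2 ^ (2 * m + 1) := hcount.le.trans (Nat.mul_le_mul_right _ hZA2)
    rw [show 2 * 2 ^ (2 * m + 1) = 2 ^ (m + 1) * 2 ^ (m + 1) by rw [← pow_add, ← pow_succ']; congr 1; omega] at h4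
    exact Nat.le_of_mul_le_mul_left h4 (by positivity)
  set T : Finset E := Finset.univ.filter fun x => x * x = (z : E) with hT
  have hord : ∀ x : E, orderOf x = 4 ↔ x * x = (z : E) := by
    intro x
    constructor
    · intro h
      rcases hsqc x with e | e
      · have h2 := orderOf_dvd_of_pow_eq_one (x := x) (n := 2) (by rw [sq, e])
        rw [h] at h2; omega
      · exact e
    · intro e
      refine orderOf_eq_prime_pow (p := 2) (n := 1) ?_ ?_
      · rw [pow_one, sq, e]; exact hz1
      · rw [show 2 ^ (1 + 1) = 2 * 2 from rfl, pow_mul, sq, sq, e]; exact hzz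
  have hsqmul : ∀ x a : E, a ∈ A → (x * a) * (x * a) = if Commute a x then x * x else x * x * z := by
    intro x a ha
    have haa : a * a = 1 := by rw [← sq]; exact hA2 a ha
    split_ifs with hc
    · rw [mul_assoc x a, ← mul_assoc a x a, hc.eq, mul_assoc x a a, haa, mul_one]
    · have e := hP.of_not x a fun h => hc h.symm
      rw [mul_assoc x a, ← mul_assoc a x a, e, mul_assoc (x * a) (z : E) a, hP.central a,
        ← mul_assoc (x * a) a, mul_assoc x a a, haa, mul_one, ← mul_assoc]
  have hper : ∀ x : E, (SA.filter fun a => x * a ∈ T).card = if x ∈ SA then 0 else 2 ^ m := by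
    intro x
    split_ifs with hx
    · rw [Finset.card_eq_zero, Finset.filter_eq_empty_iff]
      intro a ha hxa
      simp only [hSA, Finset.mem_filter, Finset.mem_univ, true_and] at hx ha
      simp only [hT, Finset.mem_filter, Finset.mem_univ, true_and] at hxa
      rw [← sq, hA2 _ (mul_mem hx ha)] at hxa
      exact hz1 hxa.symm
    · rw [← hCA] at hx
      simp only [hC, Finset.mem_filter, Finset.mem_univ, true_and, not_forall] at hx
      obtain ⟨b, hb, hbx⟩ := hx
      have hh := half A x ⟨b, hb, hbx⟩
      rw [← hSA, hSAcard] at hh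
      have hsplit := Finset.card_filter_add_card_filter_not (s := SA) (p := fun a => Commute a x)
      rw [hSAcard] at hsplit
      have hpow : 2 ^ (m + 1) = 2 * 2 ^ m := by ring
      rcases hsqc x with e | e
      · rw [Finset.filter_congr (q := fun a => ¬ Commute a x) fun a ha => ?_]
        · omega
        simp only [hSA, Finset.mem_filter] at ha
        simp only [hT, Finset.mem_filter, Finset.mem_univ, true_and, hsqmul x a ha.2, e]
        split_ifs with hc <;> simp [hc, hz1.symm]
      · rw [Finset.filter_congr (q := fun a => Commute a x) fun a ha => ?_]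
        · omega
        simp only [hSA, Finset.mem_filter] at ha
        simp only [hT, Finset.mem_filter, Finset.mem_univ, true_and, hsqmul x a ha.2, e]
        split_ifs with hc <;> simp [hc, hzz, hz1.symm]
  have hfib : ∀ a : E, ((Finset.univ : Finset E).filter fun x => x * a ∈ T).card = T.card := by
    intro a
    refine Finset.card_bij (fun x _ => x * a) (fun x hx => (Finset.mem_filter.mp hx).2)
      (fun x _ y _ e => mul_right_cancel e) fun y hy => ⟨y * a⁻¹, ?_, inv_mul_cancel_right y a⟩
    simp [hy]
  have hmain : SA.card * T.card = ((Finset.univ : Finset E).card - SA.card) * 2 ^ m := by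
    have hsum : ∑ x : E, (SA.filter fun a => x * a ∈ T).card =
        ∑ a ∈ SA, ((Finset.univ : Finset E).filter fun x => x * a ∈ T).card := by
      simp only [Finset.card_filter]
      exact Finset.sum_comm
    simp only [hper, hfib, Finset.sum_const, smul_eq_mul] at hsum
    rw [← hsum, Finset.sum_ite, Finset.sum_const_zero, zero_add, Finset.sum_const, smul_eq_mul]
    congr 1
    have h5 := Finset.card_filter_add_card_filter_not (s := (Finset.univ : Finset E)) (p := fun x => x ∈ SA)
    rw [Finset.filter_mem_eq_inter, Finset.univ_inter] at h5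
    omega
  rw [Nat.card_eq_fintype_card, Fintype.card_subtype, show (Finset.univ.filter fun x : E => orderOf x = 4) = T from
    Finset.filter_congr fun x _ => hord x]
  rw [hSAcard, hEcard] at hmain
  have hle : 2 ^ (m + 1) ≤ 2 ^ (2 * m + 1) := Nat.pow_le_pow_right (by norm_num) (by omega)
  have hrhs : (2 ^ (2 * m + 1) - 2 ^ (m + 1)) * 2 ^ m = 2 ^ (m + 1) * (2 ^ (2 * m) - 2 ^ m) := by
    rw [Nat.sub_mul, Nat.mul_sub, ← pow_add, ← pow_add, ← pow_add]
    congr 2; omega
  rw [hrhs] at hmain
  exact Nat.eq_of_mul_eq_mul_left (by positivity) hmain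

end Cfsg.Agent.S2880
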