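import Cfsg.Statements.S0213
import Cfsg.Agent.Lib.Invol.BrauerFowler
-- import your own Cfsg.Agent.* helpers here

set_option autoImplicit false
open Cfsg

namespace Cfsg.Agent.S0213

/-- Thompson Order Formula, two-class case: if every involution of the finite group G is conjugate to exactly one of the non-conjugate involutions x₁, x₂, and nᵢ is the number of pairs (u, v) with u conjugate to x₁, v conjugate to x₂ and xᵢ in the cyclic group generated by uv, then |G| = |C(x₂)| n₁ + |C(x₁)| n₂. -/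
theorem result {G : Type*} [Group G] [Finite G] (x₁ x₂ : G) (h₁ : orderOf x₁ = 2) (h₂ : orderOf x₂ = 2) (hnc : ¬ IsConj x₁ x₂) (hall : ∀ t : G, orderOf t = 2 → IsConj x₁ t ∨ IsConj x₂ t) : Nat.card G = Nat.card (Subgroup.centralizer ({x₂} : Set G)) * Nat.card {p : G × G // IsConj x₁ p.1 ∧ IsConj x₂ p.2 ∧ x₁ ∈ Subgroup.zpowers (p.1 * p.2)} + Nat.card (Subgroup.centralizer ({x₁} : Set G)) * Nat.card {p : G × G // IsConj x₁ p.1 ∧ IsConj x₂ p.2 ∧ x₂ ∈ Subgroup.zpowers (p.1 * p.2)} := by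
  classical
  have := Fintype.ofFinite G
  let P := {p : G × G // IsConj x₁ p.1 ∧ IsConj x₂ p.2}
  have hinv : ∀ (x y : G), orderOf x = 2 → IsConj x y → orderOf y = 2 := by
    intro x y hx hxy
    obtain ⟨g, hg⟩ := isConj_iff.mp hxy
    rw [← hg, Cfsg.Lib.Invol.orderOf_conj_eq, hx]
  have hex : ∀ p : P, ∃ z : G, orderOf z = 2 ∧ z ∈ Subgroup.zpowers (p.1.1 * p.1.2) := by
    intro p
    have he : Even (orderOf (p.1.1 * p.1.2)) := by
      rw [← Nat.not_odd_iff_even]
      intro h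
      exact hnc (p.2.1.trans ((Cfsg.Lib.Invol.isConj_of_odd (hinv _ _ h₁ p.2.1) (hinv _ _ h₂ p.2.2) h).trans p.2.2.symm))
    exact ⟨_, (Cfsg.Lib.Invol.central_involution (hinv _ _ h₁ p.2.1) (hinv _ _ h₂ p.2.2) he).1,
      Subgroup.pow_mem _ (Subgroup.mem_zpowers _) _⟩
  choose z hz2 hzm using hex
  have huniq : ∀ (p : P) (w : G), orderOf w = 2 → w ∈ Subgroup.zpowers (p.1.1 * p.1.2) → z p = w :=
    fun p w hw hwm => Cfsg.Lib.Invol.eq_of_pow_two_group_cyclic inferInstance (hzm p) hwm (hz2 p) hw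
  -- the number of pairs attached to an involution
  let N : G → ℕ := fun w => Nat.card {p : G × G // IsConj x₁ p.1 ∧ IsConj x₂ p.2 ∧ w ∈ Subgroup.zpowers (p.1 * p.2)}
  have hNconj : ∀ a b : G, IsConj a b → N a = N b := by
    intro a b hab
    obtain ⟨g, rfl⟩ := isConj_iff.mp hab
    refine Nat.card_congr (((MulAut.conj g).toEquiv.prodCongr (MulAut.conj g).toEquiv).subtypeEquiv ?_)
    rintro ⟨u, v⟩
    have key : ∀ x y : G, IsConj x y ↔ IsConj x (g * y * g⁻¹) := fun x y =>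
      ⟨fun h => h.trans (isConj_iff.mpr ⟨g, rfl⟩), fun h => h.trans (isConj_iff.mpr ⟨g, rfl⟩ : IsConj y (g * y * g⁻¹)).symm⟩
    simp only [MulEquiv.toEquiv_eq_coe, Equiv.prodCongr_apply, MulEquiv.coe_toEquiv, Prod.map_apply,
      MulAut.conj_apply]
    rw [← key, ← key, show g * u * g⁻¹ * (g * v * g⁻¹) = (MulAut.conj g).toMonoidHom (u * v) by simp [mul_assoc],
      ← MonoidHom.map_zpowers]
    refine and_congr_right fun _ => and_congr_right fun _ => ?_
    rw [show g * a * g⁻¹ = (MulAut.conj g).toMonoidHom a by simp]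
    exact (Subgroup.mem_map_iff_mem (MulAut.conj g).injective).symm
  have hsum : Nat.card P = ∑ w : {w : G // IsConj x₁ w}, N w.1 + ∑ w : {w : G // IsConj x₂ w}, N w.1 := by
    let Q : G → Prop := fun w => IsConj x₁ w ∨ IsConj x₂ w
    have e : P ≃ Σ w : {w : G // IsConj x₁ w} ⊕ {w : G // IsConj x₂ w},
        {p : G × G // IsConj x₁ p.1 ∧ IsConj x₂ p.2 ∧ (w.elim Subtype.val Subtype.val) ∈ Subgroup.zpowers (p.1 * p.2)} := by
      refine (Equiv.ofBijective
        (fun q : (Σ w : {w : G // IsConj x₁ w} ⊕ {w : G // IsConj x₂ w},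
          {p : G × G // IsConj x₁ p.1 ∧ IsConj x₂ p.2 ∧ (w.elim Subtype.val Subtype.val) ∈ Subgroup.zpowers (p.1 * p.2)}) =>
          (⟨q.2.1, q.2.2.1, q.2.2.2.1⟩ : P)) ⟨?_, ?_⟩).symm
      · rintro ⟨a, p, hp⟩ ⟨b, p', hp'⟩ h
        have hpp : p = p' := congrArg Subtype.val h
        subst hpp
        have ha2 : ∀ (w : {w : G // IsConj x₁ w} ⊕ {w : G // IsConj x₂ w}), orderOf (w.elim Subtype.val Subtype.val) = 2 := by
          rintro (w | w)
          exacts [hinv _ _ h₁ w.2, hinv _ _ h₂ w.2]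
        have he := (huniq ⟨p, hp.1, hp.2.1⟩ _ (ha2 a) hp.2.2).symm.trans (huniq ⟨p, hp'.1, hp'.2.1⟩ _ (ha2 b) hp'.2.2)
        have hab : a = b := by
          rcases a with a | a <;> rcases b with b | b <;> simp only [Sum.elim_inl, Sum.elim_inr] at he
          · exact congrArg Sum.inl (Subtype.ext he)
          · exact absurd (a.2.trans (he ▸ b.2.symm)) hnc
          · exact absurd (b.2.trans (he ▸ a.2.symm)) hnc
          · exact congrArg Sum.inr (Subtype.ext he)
        subst hab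
        rfl
      · intro p
        rcases hall (z p) (hz2 p) with h | h
        · exact ⟨⟨Sum.inl ⟨z p, h⟩, p.1, p.2.1, p.2.2, hzm p⟩, rfl⟩
        · exact ⟨⟨Sum.inr ⟨z p, h⟩, p.1, p.2.1, p.2.2, hzm p⟩, rfl⟩
    rw [Nat.card_congr e, Nat.card_sigma, Fintype.sum_sum_type]
    rfl
  have hP : Nat.card P = Nat.card {w : G // IsConj x₁ w} * Nat.card {w : G // IsConj x₂ w} := by
    rw [← Nat.card_prod]
    exact Nat.card_congr ⟨fun p => (⟨p.1.1, p.2.1⟩, ⟨p.1.2, p.2.2⟩), fun p => ⟨(p.1.1, p.2.1), p.1.2, p.2.2⟩,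
      fun p => rfl, fun p => rfl⟩
  have hs1 : ∑ w : {w : G // IsConj x₁ w}, N w.1 = Nat.card {w : G // IsConj x₁ w} * N x₁ := by
    rw [Finset.sum_congr rfl fun w _ => (hNconj x₁ w.1 w.2).symm]
    simp [Nat.card_eq_fintype_card]
  have hs2 : ∑ w : {w : G // IsConj x₂ w}, N w.1 = Nat.card {w : G // IsConj x₂ w} * N x₂ := by
    rw [Finset.sum_congr rfl fun w _ => (hNconj x₂ w.1 w.2).symm]
    simp [Nat.card_eq_fintype_card]
  have o1 := Cfsg.Lib.Invol.card_conj_mul_centralizer x₁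
  have o2 := Cfsg.Lib.Invol.card_conj_mul_centralizer x₂
  rw [hP, hs1, hs2] at hsum
  set A := Nat.card {w : G // IsConj x₁ w}
  set B := Nat.card {w : G // IsConj x₂ w}
  set C1 := Nat.card (Subgroup.centralizer ({x₁} : Set G))
  set C2 := Nat.card (Subgroup.centralizer ({x₂} : Set G))
  show Nat.card G = C2 * N x₁ + C1 * N x₂
  apply Nat.eq_of_mul_eq_mul_left (Nat.card_pos (α := G))
  calc Nat.card G * Nat.card G = (A * C1) * (B * C2) := by rw [o1, o2]
    _ = (A * B) * (C1 * C2) := by ring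
    _ = (A * C1) * (C2 * N x₁) + (B * C2) * (C1 * N x₂) := by rw [hsum]; ring
    _ = Nat.card G * (C2 * N x₁ + C1 * N x₂) := by rw [o1, o2]; ring

end Cfsg.Agent.S0213
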