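import Cfsg.Statements.S5395
import Mathlib

set_option autoImplicit false
open Cfsg

namespace Cfsg.Agent.S5395

/-- For a finite extraspecial 2-group E, an automorphism of E that induces the identity on E modulo its centre is inner (so these automorphisms form exactly the inner automorphism group, an elementary abelian 2-group of order |E|/2). -/
theorem result {E : Type*} [Group E] [Finite E] (hE : Cfsg.IsExtraspecial 2 E) (φ : E ≃* E) (hφ : ∀ x : E, φ x * x⁻¹ ∈ Subgroup.center E) : ∃ g : E, ∀ x : E, φ x = g * x * g⁻¹ := by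
  classical
  obtain ⟨⟨hp, hfr, hcomm⟩, hZ⟩ := hE
  set Z := Subgroup.center E with hZdef
  have zc : ∀ z ∈ Z, ∀ x : E, x * z = z * x := fun z hz x => Subgroup.mem_center_iff.1 hz x
  have cmem : ∀ g x : E, g * x * g⁻¹ * x⁻¹ ∈ Z := by
    intro g x
    rw [← hcomm]
    exact Subgroup.commutator_mem_commutator (Subgroup.mem_top g) (Subgroup.mem_top x)
  let c : E → (E →* Z) := fun g =>
    MonoidHom.mk' (fun x => ⟨g * x * g⁻¹ * x⁻¹, cmem g x⟩) (fun x y => Subtype.ext (by
      show g * (x * y) * g⁻¹ * (x * y)⁻¹ = g * x * g⁻¹ * x⁻¹ * (g * y * g⁻¹ * y⁻¹)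
      have e : x * (g * y * g⁻¹ * y⁻¹) * x⁻¹ = g * y * g⁻¹ * y⁻¹ := by
        rw [zc _ (cmem g y) x, mul_inv_cancel_right]
      conv_rhs => rw [← e]
      group))
  let δ : E →* Z := MonoidHom.mk' (fun x => ⟨φ x * x⁻¹, hφ x⟩) (fun x y => Subtype.ext (by
      show φ (x * y) * (x * y)⁻¹ = φ x * x⁻¹ * (φ y * y⁻¹)
      rw [map_mul]
      calc φ x * φ y * (x * y)⁻¹ = φ x * (φ y * y⁻¹ * x⁻¹) := by group
        _ = φ x * (x⁻¹ * (φ y * y⁻¹)) := by rw [zc _ (hφ y) x⁻¹]
        _ = _ := by group))
  have kill : ∀ (f : E →* Z) (z : E), z ∈ Z → f z = 1 := by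
    intro f z hz
    have hmem : z ∈ f.ker := by
      haveI : Fact (Nat.Prime 2) := ⟨Nat.prime_two⟩
      rw [← SetLike.mem_coe] at hz ⊢
      have hle : commutator E ≤ f.ker := by
        rw [commutator_def, Subgroup.commutator_le]
        intro a _ b _
        rw [MonoidHom.mem_ker, map_commutatorElement]
        apply Subtype.ext
        show (f a : E) * f b * (f a : E)⁻¹ * (f b : E)⁻¹ = 1
        rw [zc _ (f b).2 (f a : E)]; group
      exact hle (hcomm.symm ▸ hz)
    exact hmem
  -- both are homomorphisms of the central quotient into a group of order two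
  haveI : IsMulCommutative Z := inferInstance
  let A := E ⧸ Z
  letI : CommGroup A := { (inferInstance : Group A) with
    mul_comm := fun a b => by
      induction a using QuotientGroup.induction_on with
      | H x => induction b using QuotientGroup.induction_on with
        | H y =>
          rw [← QuotientGroup.mk_mul, ← QuotientGroup.mk_mul, QuotientGroup.eq]
          have := cmem y⁻¹ x⁻¹
          simpa [mul_assoc] using this }
  obtain ⟨z₀, hz₀⟩ : ∃ z₀ : Z, z₀ ≠ 1 := by
    haveI : Nontrivial Z := Finite.one_lt_card_iff_nontrivial.1 (by omega)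
    exact exists_ne 1
  have hzz : ∀ z : Z, z = 1 ∨ z = z₀ := by
    intro z
    obtain ⟨a, b, hab, huniv⟩ := Nat.card_eq_two_iff.1 hZ
    have hmem : ∀ x : Z, x = a ∨ x = b := fun x => by
      have : x ∈ ({a, b} : Set Z) := huniv ▸ Set.mem_univ x
      simpa using this
    rcases hmem z with h1 | h1 <;> rcases hmem z₀ with h2 | h2 <;> rcases hmem 1 with h3 | h3 <;>
      first
      | exact Or.inr (h1.trans h2.symm)
      | exact Or.inl (h1.trans h3.symm)
      | exact absurd (h2.trans h3.symm) hz₀
  have hz₀2 : z₀ * z₀ = 1 := by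
    rcases hzz (z₀ * z₀) with h | h
    · exact h
    · exact absurd (mul_eq_left.1 h) hz₀
  let ι : Z →* ℂˣ :=
    { toFun := fun z => if z = 1 then 1 else -1
      map_one' := by simp
      map_mul' := fun a b => by
        rcases hzz a with rfl | rfl <;> rcases hzz b with rfl | rfl <;> simp [hz₀, hz₀2] }
  have hι : Function.Injective ι := by
    intro a b hab
    rcases hzz a with rfl | rfl <;> rcases hzz b with rfl | rfl <;> simp [ι, hz₀] at hab ⊢ <;>
      exact absurd hab (by simp [Units.ext_iff]; norm_num)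
  let lift : (E →* Z) → (A →* ℂˣ) := fun f => QuotientGroup.lift Z (ι.comp f) (fun z hz => by
    simp [kill f z hz])
  have hlift : ∀ f f', lift f = lift f' → f = f' := by
    intro f f' h
    ext x
    exact congrArg Subtype.val (hι (DFunLike.congr_fun h (QuotientGroup.mk x)))
  haveI : Finite (A →* ℂˣ) := by
    refine Nat.finite_of_card_ne_zero ?_
    rw [CommGroup.card_monoidHom_of_hasEnoughRootsOfUnity A ℂ]
    exact Nat.card_pos.ne'
  let ψ : A → (A →* ℂˣ) := fun a => lift (c a.out)
  have hψ : Function.Injective ψ := by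
    intro a b hab
    have h1 := hlift _ _ hab
    suffices hm : (a.out)⁻¹ * b.out ∈ Z by
      have := QuotientGroup.eq.2 hm
      rwa [QuotientGroup.out_eq', QuotientGroup.out_eq'] at this
    refine Subgroup.mem_center_iff.2 ?_
    intro y
    have h2 : a.out * y * (a.out)⁻¹ * y⁻¹ = b.out * y * (b.out)⁻¹ * y⁻¹ := congrArg Subtype.val (DFunLike.congr_fun h1 y)
    have h3 := mul_right_cancel h2
    have := congrArg (fun u => (a.out)⁻¹ * u * b.out) h3
    simpa [mul_assoc] using this
  have hcard : Nat.card A = Nat.card (A →* ℂˣ) := (CommGroup.card_monoidHom_of_hasEnoughRootsOfUnity A ℂ).symm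
  obtain ⟨a, ha⟩ := (hψ.bijective_of_nat_card_le hcard.ge).2 (lift δ)
  refine ⟨a.out, fun x => ?_⟩
  have h2 : a.out * x * (a.out)⁻¹ * x⁻¹ = φ x * x⁻¹ := congrArg Subtype.val (DFunLike.congr_fun (hlift _ _ ha) x)
  exact (mul_right_cancel h2).symm

end Cfsg.Agent.S5395
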