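import Cfsg.Statements.S4413
import Cfsg.Agent.S3085
import Cfsg.Agent.S5395
import Cfsg.Agent.Lib.PGroup.ExtraspecialClassify
import Mathlib.GroupTheory.Perm.Sign

set_option linter.style.haveILetI false

set_option autoImplicit false
open Cfsg

namespace Cfsg.Agent.S4413


open Subgroup
open scoped commutatorElement
open Cfsg.Agent.S3085 (Pairing tr tr_commute tr_not)
open Cfsg.Lib.Extraspecial (Setting)

variable {P : Type*} [Group P] [Finite P]

/-- The singular points: non-trivial classes of involutions modulo the centre. -/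
def Omega (P : Type*) [Group P] : Set (P ⧸ center P) :=
  {q | q ≠ 1 ∧ ∃ x : P, (x : P ⧸ center P) = q ∧ x ^ 2 = 1}

omit [Finite P] in
theorem phi_center (φ : MulAut P) {x : P} (hx : x ∈ center P) : φ x ∈ center P :=
  mem_center_iff.mpr fun g => by
    obtain ⟨g', rfl⟩ := φ.surjective g
    rw [← map_mul, ← map_mul, mem_center_iff.mp hx g']

omit [Finite P] in
/-- The map induced on the central quotient. -/
noncomputable def qmap (φ : MulAut P) : P ⧸ center P →* P ⧸ center P :=
  QuotientGroup.map (center P) (center P) φ.toMonoidHom fun _ hx => phi_center φ hx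

omit [Finite P] in
theorem qmap_mem (φ : MulAut P) {q : P ⧸ center P} (hq : q ∈ Omega P) : qmap φ q ∈ Omega P := by
  obtain ⟨h1, x, rfl, hx⟩ := hq
  refine ⟨fun h => h1 ?_, φ x, rfl, by rw [← map_pow, hx, map_one]⟩
  rw [QuotientGroup.eq_one_iff]
  have h2 : φ x ∈ center P := (QuotientGroup.eq_one_iff (φ x)).mp h
  have := phi_center φ⁻¹ h2
  rwa [MulAut.inv_apply_self] at this

omit [Finite P] in
theorem qmap_qmap (φ ψ : MulAut P) (q : P ⧸ center P) : qmap φ (qmap ψ q) = qmap (φ * ψ) q := by
  obtain ⟨x, rfl⟩ := QuotientGroup.mk_surjective q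
  rfl

omit [Finite P] in
theorem qmap_one (q : P ⧸ center P) : qmap (1 : MulAut P) q = q := by
  obtain ⟨x, rfl⟩ := QuotientGroup.mk_surjective q
  rfl

/-- The action on the singular points. -/
noncomputable def act : MulAut P →* Equiv.Perm (Omega P) where
  toFun φ :=
    { toFun := fun q => ⟨qmap φ q.1, qmap_mem φ q.2⟩
      invFun := fun q => ⟨qmap φ⁻¹ q.1, qmap_mem φ⁻¹ q.2⟩
      left_inv := fun q => Subtype.ext (by simp only [qmap_qmap, inv_mul_cancel, qmap_one])
      right_inv := fun q => Subtype.ext (by simp only [qmap_qmap, mul_inv_cancel, qmap_one]) }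
  map_one' := Equiv.ext fun q => Subtype.ext (qmap_one q.1)
  map_mul' φ ψ := Equiv.ext fun q => Subtype.ext (qmap_qmap φ ψ q.1).symm

omit [Finite P] in
theorem pairing_of_setting {z : P} (hz : Setting 2 z) : Pairing z := by
  haveI : Fact (Nat.Prime 2) := ⟨Nat.prime_two⟩
  refine ⟨hz.ne_one, hz.sq_z, fun x => (mem_center_iff.mp hz.central x).symm, fun x y hxy => ?_⟩
  obtain ⟨k, hk⟩ := mem_zpowers_iff.mp (hz.comm y x)
  have h01 : z ^ k = 1 ∨ z ^ k = z := by
    rcases Int.even_or_odd k with ⟨j, rfl⟩ | ⟨j, rfl⟩
    · left; rw [← two_mul, zpow_mul, zpow_two, hz.sq_z, one_zpow]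
    · right; rw [zpow_add, zpow_mul, zpow_two, hz.sq_z, one_zpow, one_mul, zpow_one]
  rw [hk] at h01
  rcases h01 with h | h
  · exact absurd ((commutatorElement_eq_one_iff_commute.mp h).symm) hxy
  · have : y * x * y⁻¹ * x⁻¹ = z := h
    calc y * x = (y * x * y⁻¹ * x⁻¹) * (x * y) := by group
      _ = z * (x * y) := by rw [this]
      _ = _ := (mem_center_iff.mp hz.central (x * y)).symm

/-- No two commuting involutions generate, with the centre, a group of order eight. -/
theorem not_commute {z : P} (hz : Setting 2 z) (hzc : zpowers z = center P)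
    (hminus : ∀ A : Subgroup P, Cfsg.IsElementaryAbelian 2 A → Nat.card ↥A ≤ 4) {s t : P}
    (hs : s ^ 2 = 1) (ht : t ^ 2 = 1) (hs' : s ∉ center P) (ht' : t ∉ center P)
    (hst : s * t ∉ center P) : ¬ Commute s t := by
  intro hc
  haveI : Fact (Nat.Prime 2) := ⟨Nat.prime_two⟩
  set gens : Set P := {z, s, t} with hgens
  have hcomm : ∀ a ∈ gens, ∀ b ∈ gens, a * b = b * a := by
    have hzz : ∀ b, z * b = b * z := fun b => (mem_center_iff.mp hz.central b).symm
    intro a ha b hb
    simp only [hgens, Set.mem_insert_iff, Set.mem_singleton_iff] at ha hb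
    rcases ha with rfl | rfl | rfl <;> rcases hb with rfl | rfl | rfl
    all_goals first | rfl | exact hzz _ | exact (hzz _).symm | exact hc.eq | exact hc.eq.symm
  haveI : IsMulCommutative (closure gens) := isMulCommutative_closure hcomm
  set A := closure gens with hA
  have hsqA : ∀ a ∈ A, a ^ 2 = 1 := by
    intro a ha
    induction ha using closure_induction with
    | mem a ha =>
      simp only [hgens, Set.mem_insert_iff, Set.mem_singleton_iff] at ha
      rcases ha with rfl | rfl | rfl
      · exact hz.pow_z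
      · exact hs
      · exact ht
    | one => exact one_pow 2
    | mul a b ha hb iha ihb =>
      rw [(show Commute a b from congrArg Subtype.val
        ((IsMulCommutative.is_comm (M := A)).comm ⟨a, ha⟩ ⟨b, hb⟩)).mul_pow, iha, ihb, one_mul]
    | inv a ha iha => rw [inv_pow, iha, inv_one]
  have hle := hminus A ⟨inferInstance, hsqA⟩
  have hz1 : z ≠ 1 := hz.ne_one
  have hcs : ∀ {w : P}, w ∉ center P → w ≠ 1 ∧ w ≠ z := fun hw =>
    ⟨fun h => hw (h ▸ one_mem _), fun h => hw (h ▸ hz.central)⟩
  obtain ⟨hs1, hsz⟩ := hcs hs'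
  obtain ⟨ht1, htz⟩ := hcs ht'
  have hts : s ≠ t := fun h => hst (by rw [← h, ← sq, hs]; exact one_mem _)
  let f : Fin 5 → A := ![1, ⟨z, subset_closure (by simp [hgens])⟩,
    ⟨s, subset_closure (by simp [hgens])⟩, ⟨t, subset_closure (by simp [hgens])⟩,
    ⟨s * t, mul_mem (subset_closure (by simp [hgens])) (subset_closure (by simp [hgens]))⟩]
  have hst1 : s * t ≠ 1 := fun h => hst (h ▸ one_mem _)
  have hstz : s * t ≠ z := fun h => hst (h ▸ hz.central)
  have hsts : s * t ≠ s := fun h => ht1 (mul_eq_left.mp h)
  have hstt : s * t ≠ t := fun h => hs1 (mul_eq_right.mp h)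
  have hf : Function.Injective f := by
    intro i j hij
    fin_cases i <;> fin_cases j <;>
      simp [f, Subtype.ext_iff, hz1, hz1.symm, hs1, hs1.symm, ht1, ht1.symm, hsz, hsz.symm, htz,
        htz.symm, hts, hts.symm, hst1, hst1.symm, hstz, hstz.symm, hsts, hsts.symm, hstt,
        hstt.symm] at hij ⊢
  have := Nat.card_le_card_of_injective f hf
  rw [Nat.card_fin] at this
  omega

theorem setting_data (hex : Cfsg.IsExtraspecial 2 P) (h32 : Nat.card P = 32)
    (hminus : ∀ A : Subgroup P, Cfsg.IsElementaryAbelian 2 A → Nat.card ↥A ≤ 4) :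
    ∃ z : P, Setting 2 z ∧ zpowers z = center P ∧ Nat.card {x : P // x ^ 2 = 1} = 12 := by
  haveI : Fact (Nat.Prime 2) := ⟨Nat.prime_two⟩
  obtain ⟨z, L, hz, hL, -, hcard, hcase⟩ := Cfsg.Lib.Extraspecial.two_kinds hex
  have hzc : zpowers z = center P := eq_of_le_of_card_ge (zpowers_le.mpr hz.central)
    (by rw [Nat.card_zpowers, hz.ord, hex.2])
  have hlen : L.length = 2 := by
    have h1 : 2 * L.length + 1 = 5 := Nat.pow_right_injective le_rfl (hcard.symm.trans h32)
    omega
  rcases hcase with ⟨hD, -⟩ | ⟨-, hn⟩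
  · exfalso
    match L, hlen, hL, hD with
    | [(a, b), (c, d)], _, hL, hD =>
      obtain ⟨-, -, hab, hL'⟩ := hL.inv_cons
      obtain ⟨hc, -, hcd, -⟩ := hL'.inv_cons
      obtain ⟨-, hca, hcb⟩ := Cfsg.Lib.Extraspecial.mem_perp.mp hc
      have hne : ∀ {u v : P}, ⁅u, v⁆ = z → u ∉ center P := fun {u v} h hu => hz.ne_one (by
        rw [← h, commutatorElement_eq_one_iff_mul_comm]; exact (mem_center_iff.mp hu v).symm)
      refine not_commute hz hzc hminus (hD _ (by simp)).1 (hD (c, d) (by simp)).1 (hne hab) (hne hcd)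
        ?_ hca.symm
      intro hac
      have h1 : Commute (a * c) b := (mem_center_iff.mp hac b).symm
      have h2 : Commute a b := by simpa using h1.mul_left hcb.inv_left
      exact hz.ne_one (hab ▸ commutatorElement_eq_one_iff_commute.mpr h2)
  · exact ⟨z, hz, hzc, by rw [hn, hlen]; norm_num⟩

theorem card_omega {z : P} (hz : Setting 2 z) (hzc : zpowers z = center P)
    (h12 : Nat.card {x : P // x ^ 2 = 1} = 12) (hZ : Nat.card (center P) = 2) :
    Nat.card (Omega P) = 5 := by
  classical
  haveI := Fintype.ofFinite P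
  haveI := Fintype.ofFinite (Omega P)
  have hzsq : ∀ u ∈ center P, u ^ 2 = 1 := fun u hu => by
    rw [← hZ]; exact congrArg Subtype.val (pow_card_eq_one' (x := (⟨u, hu⟩ : center P)))
  have hrep : ∀ x : P, (x : P ⧸ center P) ∈ Omega P → x ^ 2 = 1 ∧ x ∉ center P := by
    rintro x ⟨h1, y, hy, hy2⟩
    refine ⟨?_, fun h => h1 ((QuotientGroup.eq_one_iff x).mpr h)⟩
    have hu := (QuotientGroup.eq).mp hy
    set u := y⁻¹ * x with hudef
    rw [show x = y * u by rw [hudef]; group,
      (show Commute y u from mem_center_iff.mp hu y).mul_pow, hy2, hzsq u hu, one_mul]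
  let f : {x : P // x ^ 2 = 1} → Option (Omega P) := fun x =>
    if h : (x : P) ∈ center P then none
    else some ⟨(x.1 : P ⧸ center P), fun h1 => h ((QuotientGroup.eq_one_iff _).mp h1), x.1, rfl, x.2⟩
  have hfib : ∀ o, Nat.card {x : {x : P // x ^ 2 = 1} // f x = o} = 2 := by
    intro o
    refine Eq.trans ?_ hZ
    cases o with
    | none =>
      refine Nat.card_congr
        { toFun := fun x => ⟨x.1.1, by
            by_contra h
            have := x.2
            simp only [f, dif_neg h] at this
            exact Option.some_ne_none _ this⟩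
          invFun := fun u => ⟨⟨u.1, hzsq u.1 u.2⟩, by simp [f, u.2]⟩
          left_inv := fun x => rfl
          right_inv := fun u => rfl }
    | some q =>
      obtain ⟨y, hy⟩ := QuotientGroup.mk_surjective q.1
      have hy' := hrep y (hy ▸ q.2)
      refine Nat.card_congr
        { toFun := fun x => ⟨y⁻¹ * x.1.1, by
            have h1 := x.2
            by_cases h : (x.1 : P) ∈ center P
            · simp [f, h] at h1
            · simp only [f, dif_neg h, Option.some.injEq] at h1
              exact (QuotientGroup.eq).mp (hy.trans (congrArg Subtype.val h1).symm)⟩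
          invFun := fun u => ⟨⟨y * u.1, by
              rw [(show Commute y u.1 from mem_center_iff.mp u.2 y).mul_pow, hy'.1, hzsq u.1 u.2,
                one_mul]⟩, by
              have h : y * u.1 ∉ center P := fun h => hy'.2 ((mul_mem_cancel_right u.2).mp h)
              simp only [f, dif_neg h, Option.some.injEq]
              exact Subtype.ext ((QuotientGroup.mk_mul_of_mem y u.2).trans hy)⟩
          left_inv := fun x => Subtype.ext (Subtype.ext (by simp))
          right_inv := fun u => Subtype.ext (by simp) }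
  have h := Nat.card_congr (Equiv.sigmaFiberEquiv f)
  rw [Nat.card_sigma, h12, Finset.sum_congr rfl (fun o _ => hfib o), Finset.sum_const, smul_eq_mul,
    Finset.card_univ, Fintype.card_option, ← Nat.card_eq_fintype_card] at h
  omega

/-- The subgroup generated by the singular points is everything. -/
theorem generated {z : P} (hz : Setting 2 z) (hex : Cfsg.IsExtraspecial 2 P) (h32 : Nat.card P = 32)
    (h5 : Nat.card (Omega P) = 5)
    (hnc : ∀ p q : Omega P, p ≠ q → ∀ x y : P, (x : P ⧸ center P) = p → (y : P ⧸ center P) = q →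
      ¬ Commute x y) :
    closure (Omega P) = ⊤ := by
  classical
  have hp := pairing_of_setting hz
  let e : Fin 5 ≃ Omega P := ((finCongr h5.symm).trans (Finite.equivFin _).symm)
  have hx : ∀ i, ∃ x : P, (x : P ⧸ center P) = e i := fun i => QuotientGroup.mk_surjective _
  choose r hr using hx
  let θ : P →* Multiplicative (Fin 5 → ZMod 2) := MonoidHom.mk'
    (fun x => Multiplicative.ofAdd fun i => if Commute x (r i) then 0 else 1)
    fun a b => by
      apply Multiplicative.toAdd.injective
      funext i
      simp only [toAdd_ofAdd, toAdd_mul, Pi.add_apply]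
      have hpar := hp.parity a b (r i)
      by_cases h1 : Commute a (r i) <;> by_cases h2 : Commute b (r i) <;> simp [hpar, h1, h2] <;> rfl
  set M := (closure (Omega P)).comap (QuotientGroup.mk' (center P)) with hM
  have hrM : ∀ i, r i ∈ M := fun i => mem_comap.mpr (by
    rw [QuotientGroup.mk'_apply, hr]; exact subset_closure (e i).2)
  have hpair : ∀ k : Fin 5, k ≠ 4 →
      θ (r k * r 4) = Multiplicative.ofAdd (Pi.single k 1 + Pi.single 4 1) := by
    intro k hk
    apply Multiplicative.toAdd.injective
    funext i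
    simp only [map_mul, θ, MonoidHom.mk'_apply, toAdd_ofAdd, toAdd_mul, Pi.add_apply]
    have hcc : ∀ a b : Fin 5, Commute (r a) (r b) ↔ a = b := fun a b =>
      ⟨fun h => by
        by_contra hab
        exact hnc (e a) (e b) (fun h' => hab (e.injective h')) _ _ (hr a) (hr b) h,
      fun h => h ▸ Commute.refl _⟩
    simp only [hcc, Pi.single_apply]
    by_cases h1 : k = i
    · subst h1
      simp [hk, Ne.symm hk]
    · by_cases h2 : (4 : Fin 5) = i
      · subst h2
        simp [hk, Ne.symm hk]
      · simp only [if_neg h1, if_neg h2, if_neg (Ne.symm h1), if_neg (Ne.symm h2)]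
        decide
  let emb : (Fin 4 → ZMod 2) → (Fin 5 → ZMod 2) :=
    fun a => ∑ k : Fin 4, a k • (Pi.single k.castSucc 1 + Pi.single 4 1)
  have hemb : Function.Injective emb := by
    intro a b hab
    funext j
    have h1 := congrFun hab j.castSucc
    simp only [emb, Finset.sum_apply, Pi.smul_apply, Pi.add_apply, Pi.single_apply, smul_eq_mul] at h1
    have h4 : j.castSucc ≠ (4 : Fin 5) := fun h => by
      have := congrArg Fin.val h
      simp at this
      omega
    simpa [h4, Fin.castSucc_inj] using h1
  have hmem : ∀ a, Multiplicative.ofAdd (emb a) ∈ M.map θ := by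
    intro a
    have hgen : ∀ k : Fin 4, Multiplicative.ofAdd
        (Pi.single k.castSucc (1 : ZMod 2) + Pi.single (4 : Fin 5) 1) ∈ M.map θ := fun k =>
      ⟨r k.castSucc * r 4, mul_mem (hrM _) (hrM _), hpair _ fun h => by
        have := congrArg Fin.val h
        simp at this
        omega⟩
    simp only [emb]
    rw [ofAdd_sum]
    refine prod_mem fun k _ => ?_
    rcases (by decide : ∀ u : ZMod 2, u = 0 ∨ u = 1) (a k) with h | h
    · rw [h, zero_smul, ofAdd_zero]; exact one_mem _
    · rw [h, one_smul]; exact hgen k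
  have hcardM : 16 ≤ Nat.card (M.map θ) := by
    have h1 := Nat.card_le_card_of_injective (fun a => (⟨_, hmem a⟩ : M.map θ)) fun a b h =>
      hemb (Multiplicative.ofAdd.injective (congrArg Subtype.val h))
    simpa using h1
  have hZker : center P ≤ θ.ker ⊓ M := fun u hu => ⟨by
    show θ u = 1
    apply Multiplicative.toAdd.injective
    funext i
    simp only [θ, MonoidHom.mk'_apply, toAdd_ofAdd, toAdd_one, Pi.zero_apply]
    exact if_pos (mem_center_iff.mp hu (r i)).symm, mem_comap.mpr (by
    rw [QuotientGroup.mk'_apply, (QuotientGroup.eq_one_iff u).mpr hu]; exact one_mem _)⟩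
  have h2 : 32 ≤ Nat.card M := by
    have h3 := (θ.comp M.subtype).ker.card_mul_index
    rw [index_ker, MonoidHom.range_comp, Subgroup.range_subtype] at h3
    have h4 : 2 ≤ Nat.card (θ.comp M.subtype).ker := by
      refine hex.2.symm.trans_le ?_
      refine Nat.card_le_card_of_injective (fun u : center P => (⟨⟨u, (hZker u.2).2⟩, by
        rw [MonoidHom.mem_ker, MonoidHom.comp_apply]; exact MonoidHom.mem_ker.mp (hZker u.2).1⟩ : (θ.comp M.subtype).ker))
        fun u v h => Subtype.ext (congrArg (fun w : (θ.comp M.subtype).ker => (w.1 : P)) h)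
    have := Nat.mul_le_mul h4 hcardM
    omega
  have hMtop : M = ⊤ := eq_top_of_le_card M (by rw [h32]; exact h2)
  rw [hM] at hMtop
  rw [← comap_top (QuotientGroup.mk' (center P))] at hMtop
  exact comap_injective (QuotientGroup.mk'_surjective _) hMtop
/-- Let P be an extraspecial 2-group of order 32 with no elementary abelian subgroup of order 8 (the central product of a dihedral and a quaternion group of order 8). Then the inner automorphism group of P has order 16 and the outer automorphism group Aut(P)/Inn(P) is isomorphic to the symmetric group of degree 5; in particular Aut(P) has order 1920. -/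
theorem result {P : Type*} [Group P] [Finite P]
    (hex : Cfsg.IsExtraspecial 2 P) (h32 : Nat.card P = 32)
    (hminus : ∀ A : Subgroup P, Cfsg.IsElementaryAbelian 2 A → Nat.card ↥A ≤ 4)
    [(MulAut.conj : P →* MulAut P).range.Normal] :
    Nat.card ↥(MulAut.conj : P →* MulAut P).range = 16 ∧ Nat.card (MulAut P) = 1920 ∧
      Nonempty ((MulAut P ⧸ (MulAut.conj : P →* MulAut P).range) ≃* Equiv.Perm (Fin 5)) := by

  classical
  haveI : Fact (Nat.Prime 2) := ⟨Nat.prime_two⟩
  obtain ⟨z, hz, hzc, h12⟩ := setting_data hex h32 hminus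
  have hp := pairing_of_setting hz
  have h5 := card_omega hz hzc h12 hex.2
  have hrep : ∀ x : P, (x : P ⧸ Subgroup.center P) ∈ Omega P → x ^ 2 = 1 ∧ x ∉ Subgroup.center P := by
    rintro x ⟨h1, y, hy, hy2⟩
    refine ⟨?_, fun h => h1 ((QuotientGroup.eq_one_iff x).mpr h)⟩
    have hu := (QuotientGroup.eq).mp hy
    set u := y⁻¹ * x with hudef
    have hu2 : u ^ 2 = 1 := by
      rw [← hex.2]
      exact congrArg Subtype.val (pow_card_eq_one' (x := (⟨u, hu⟩ : Subgroup.center P)))
    rw [show x = y * u by rw [hudef]; group,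
      (show Commute y u from Subgroup.mem_center_iff.mp hu y).mul_pow, hy2, hu2, one_mul]
  have hnc : ∀ p q : Omega P, p ≠ q → ∀ x y : P, (x : P ⧸ Subgroup.center P) = p →
      (y : P ⧸ Subgroup.center P) = q → ¬ Commute x y := by
    intro p q hpq x y hx hy
    obtain ⟨hx2, hxZ⟩ := hrep x (hx ▸ p.2)
    obtain ⟨hy2, hyZ⟩ := hrep y (hy ▸ q.2)
    refine not_commute hz hzc hminus hx2 hy2 hxZ hyZ fun h => hpq (Subtype.ext ?_)
    rw [← hx, ← hy]
    refine QuotientGroup.eq.mpr ?_
    have hxinv : x⁻¹ = x := inv_eq_of_mul_eq_one_left (by rw [← sq, hx2])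
    rwa [hxinv]
  have hgen := generated hz hex h32 h5 hnc
  have hker : (act : MulAut P →* Equiv.Perm (Omega P)).ker = (MulAut.conj : P →* MulAut P).range := by
    apply le_antisymm
    · intro φ hφ
      have hall : ∀ q : P ⧸ Subgroup.center P, qmap φ q = q := by
        intro q
        have hq : q ∈ Subgroup.closure (Omega P) := hgen ▸ Subgroup.mem_top q
        refine Subgroup.closure_induction (p := fun q _ => qmap φ q = q) (fun q hq => ?_) (map_one _)
          (fun a b _ _ ha hb => by rw [map_mul, ha, hb]) (fun a _ ha => by rw [map_inv, ha]) hq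
        exact congrArg Subtype.val (DFunLike.congr_fun (MonoidHom.mem_ker.mp hφ) ⟨q, hq⟩)
      obtain ⟨g, hg⟩ := Cfsg.Agent.S5395.result hex φ fun x => by
        have h1 : ((φ x : P) : P ⧸ Subgroup.center P) = (x : P ⧸ Subgroup.center P) := hall x
        rw [← QuotientGroup.eq_one_iff, QuotientGroup.mk_mul, QuotientGroup.mk_inv, h1, mul_inv_cancel]
      exact ⟨g, MulEquiv.ext fun x => (hg x).symm⟩
    · rintro _ ⟨g, rfl⟩
      refine MonoidHom.mem_ker.mpr (Equiv.ext fun q => Subtype.ext ?_)
      obtain ⟨x, hx⟩ := QuotientGroup.mk_surjective q.1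
      show qmap (MulAut.conj g) q.1 = q.1
      rw [← hx]
      show ((g * x * g⁻¹ : P) : P ⧸ Subgroup.center P) = x
      by_cases hc : Commute g x
      · rw [hc.eq, mul_inv_cancel_right]
      · have h1 := hp.of_not x g (fun c => hc c.symm)
        refine QuotientGroup.eq.mpr ?_
        have h2 : (g * x * g⁻¹)⁻¹ * x = z⁻¹ := by
          rw [h1, mul_assoc (x * g) z, hp.central g⁻¹]; group
        rw [h2]
        exact Subgroup.inv_mem _ hz.central
  have hsurj : Function.Surjective (act : MulAut P →* Equiv.Perm (Omega P)) := by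
    rw [← MonoidHom.range_eq_top, eq_top_iff, ← Equiv.Perm.closure_isSwap, Subgroup.closure_le]
    rintro σ ⟨p, q, hpq, rfl⟩
    obtain ⟨s, hs⟩ := QuotientGroup.mk_surjective p.1
    obtain ⟨t, ht⟩ := QuotientGroup.mk_surjective q.1
    obtain ⟨hs2, -⟩ := hrep s (hs ▸ p.2)
    obtain ⟨ht2, -⟩ := hrep t (ht ▸ q.2)
    have hst := hnc p q hpq s t hs ht
    have hss : s * s = 1 := by rw [← sq, hs2]
    have htt : t * t = 1 := by rw [← sq, ht2]
    set w := s * t with hw'
    have hw : w * w = z := by
      have h1 := hp.of_not s t hst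
      calc w * w = s * (t * s) * t := by rw [hw']; group
        _ = s * (s * t * z) * t := by rw [h1]
        _ = (s * s) * t * (z * t) := by group
        _ = (s * s) * (t * t) * z := by rw [hp.central t]; group
        _ = z := by rw [hss, htt, one_mul, one_mul]
    have hws : ¬ Commute w s := by
      rw [hw', hp.parity]; exact fun h => hst ((h.mp (Commute.refl s)).symm)
    have hwt : ¬ Commute w t := by
      rw [hw', hp.parity]; exact fun h => hst (h.mpr (Commute.refl t))
    refine ⟨tr hp hw, Equiv.ext fun u => Subtype.ext ?_⟩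
    obtain ⟨x, hx⟩ := QuotientGroup.mk_surjective u.1
    show qmap (tr hp hw) u.1 = _
    rw [← hx]
    show ((tr hp hw x : P) : P ⧸ Subgroup.center P) = _
    have hsq' : ∀ a : Omega P, a.1 * a.1 = 1 := fun a => by
      obtain ⟨y, hy⟩ := QuotientGroup.mk_surjective a.1
      rw [← hy, ← QuotientGroup.mk_mul, ← sq, (hrep y (hy ▸ a.2)).1, QuotientGroup.mk_one]
    by_cases hup : u = p
    · subst hup
      rw [Equiv.swap_apply_left]
      have : ¬ Commute w x := by
        have h1 : x⁻¹ * s ∈ Subgroup.center P := QuotientGroup.eq.mp (hx.trans hs.symm)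
        intro hc
        refine hws ?_
        rw [show s = x * (x⁻¹ * s) by group]
        exact hc.mul_right (Subgroup.mem_center_iff.mp h1 w)
      rw [tr_not hp hw this, QuotientGroup.mk_mul, hx, hw', QuotientGroup.mk_mul, hs, ← mul_assoc,
        hsq', one_mul, ht]
    by_cases huq : u = q
    · subst huq
      rw [Equiv.swap_apply_right]
      have : ¬ Commute w x := by
        have h1 : x⁻¹ * t ∈ Subgroup.center P := QuotientGroup.eq.mp (hx.trans ht.symm)
        intro hc
        refine hwt ?_
        rw [show t = x * (x⁻¹ * t) by group]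
        exact hc.mul_right (Subgroup.mem_center_iff.mp h1 w)
      have hcomm : (t : P ⧸ Subgroup.center P) * s = s * t := by
        rw [← QuotientGroup.mk_mul, ← QuotientGroup.mk_mul, hp.of_not s t hst, QuotientGroup.mk_mul_of_mem _ hz.central]
      rw [tr_not hp hw this, QuotientGroup.mk_mul, hx, ← ht, hw', QuotientGroup.mk_mul, ← mul_assoc,
        hcomm, mul_assoc, ht, hsq', mul_one, hs]
    rw [Equiv.swap_apply_of_ne_of_ne hup huq]
    have hwx : Commute w x := by
      rw [hw', hp.parity]
      exact iff_of_false (fun h => hnc p u (Ne.symm hup) s x hs hx h)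
        (fun h => hnc q u (Ne.symm huq) t x ht hx h)
    rw [tr_commute hp hw hwx, hx]
  haveI := Fintype.ofFinite (Omega P)
  have hInn : Nat.card ↥(MulAut.conj : P →* MulAut P).range = 16 := by
    rw [← Subgroup.index_ker]
    have hk : (MulAut.conj : P →* MulAut P).ker = Subgroup.center P := by
      ext g
      rw [MonoidHom.mem_ker, Subgroup.mem_center_iff]
      constructor
      · intro h x
        have := DFunLike.congr_fun h x
        simp only [MulAut.conj_apply, MulAut.one_apply] at this
        exact (mul_inv_eq_iff_eq_mul.mp this).symm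
      · intro h
        refine MulEquiv.ext fun x => ?_
        show g * x * g⁻¹ = x
        rw [← h x, mul_inv_cancel_right]
    rw [hk]
    have := (Subgroup.center P).card_mul_index
    rw [hex.2, h32] at this
    omega
  refine ⟨hInn, ?_, ⟨?_⟩⟩
  · have h1 := (act : MulAut P →* Equiv.Perm (Omega P)).ker.card_mul_index
    rw [Subgroup.index_ker, MonoidHom.range_eq_top.mpr hsurj, Subgroup.card_top, Nat.card_perm, h5,
      hker, hInn] at h1
    rw [← h1]
    decide
  · exact (QuotientGroup.quotientMulEquivOfEq hker.symm).trans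
      ((QuotientGroup.quotientKerEquivOfSurjective _ hsurj).trans
        (Finite.equivFinOfCardEq h5).permCongrHom)

end Cfsg.Agent.S4413
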