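import Cfsg.Statements.S5569
import Cfsg.Agent.Lib.JankoFour.Second

set_option autoImplicit false
open Cfsg

namespace Cfsg.Agent.S5569

/-- Let G be a finite non-abelian simple group of Janko-four type (an involution z whose centralizer H has an extraspecial largest normal 2-subgroup E of order 2^13 containing its centralizer in H, a normal subgroup N ≥ E of H with N/E of order 3 and H/N the automorphism group of M₂₂, and a subgroup P ≤ N of order 3 with C_E(P) = ⟨z⟩, N_H(P) ≠ C_H(P) and P ≤ C_H(P)′). Then the centralizer of an involution t of G that is not conjugate to z is a split extension of an elementary abelian normal subgroup of order 2^11 by a complement isomorphic to the automorphism group of M₂₂. -/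
theorem result {G : Type*} [Group G] [Finite G] [IsSimpleGroup G] (hG : ¬ IsMulCommutative G) (z : G) (hJ : Cfsg.IsOfJankoFourTypeAt z) (t : G) (ht : orderOf t = 2) (hnc : ¬ IsConj z t) :
    ∃ V K : Subgroup G, V ≤ Subgroup.centralizer ({t} : Set G) ∧ K ≤ Subgroup.centralizer ({t} : Set G) ∧
    Subgroup.centralizer ({t} : Set G) ≤ Subgroup.normalizer (V : Set G) ∧ Cfsg.IsElementaryAbelian 2 V ∧ Nat.card ↥V = 2 ^ 11 ∧
    K ⊓ V = ⊥ ∧ K ⊔ V = Subgroup.centralizer ({t} : Set G) ∧ Nonempty (↥K ≃* MulAut ↥Cfsg.Spor.M22) := by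
  obtain ⟨F, S, rfl, ⟨C⟩⟩ := Lib.JankoFour.exists_setting hG hJ
  have ht2 : t * t = 1 := by rw [← pow_two, ← ht]; exact pow_orderOf_eq_one t
  have ht1 : t ≠ 1 := fun e => by rw [e, orderOf_one] at ht; exact absurd ht (by norm_num)
  obtain ⟨g, hg⟩ := C.exists_conj_two ht2 ht1 hnc
  obtain ⟨φ, hinj, hle, hbot, hsup⟩ := C.exists_two_complement
  let c : G →* G := (MulAut.conj g⁻¹).toMonoidHom
  have hc : Function.Injective c := (MulAut.conj g⁻¹).injective
  have hmap : (Subgroup.centralizer ({C.el 2} : Set G)).map c = Subgroup.centralizer ({t} : Set G) := by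
    ext x
    constructor
    · rintro ⟨y, hy, rfl⟩
      rw [SetLike.mem_coe, Subgroup.mem_centralizer_singleton_iff] at hy
      refine Subgroup.mem_centralizer_singleton_iff.2 ?_
      rw [show t = c (C.el 2) by show t = g⁻¹ * C.el 2 * g⁻¹⁻¹; rw [← hg]; group, ← map_mul, hy, map_mul]
    · intro hx
      rw [Subgroup.mem_centralizer_singleton_iff] at hx
      refine ⟨g * x * g⁻¹, Subgroup.mem_centralizer_singleton_iff.2 ?_, show g⁻¹ * (g * x * g⁻¹) * g⁻¹⁻¹ = x by group⟩
      rw [← hg]
      calc g * x * g⁻¹ * (g * t * g⁻¹) = g * (x * t) * g⁻¹ := by group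
        _ = g * t * g⁻¹ * (g * x * g⁻¹) := by rw [hx]; group
  refine ⟨S.Vb.map c, φ.range.map c, ?_, ?_, ?_, ?_, ?_, ?_, ?_, ⟨?_⟩⟩
  · rw [← hmap]; exact Subgroup.map_mono (hsup ▸ le_sup_right)
  · rw [← hmap]; exact Subgroup.map_mono hle
  · rw [← hmap]
    refine (Subgroup.map_mono fun x hx => ?_).trans (Subgroup.le_normalizer_map c)
    exact C.centralizer_le_NV (C.el_mem 2) C.el_two_cls.1 C.el_two_cls.2 hx
  · refine ⟨⟨⟨?_⟩⟩, ?_⟩
    · rintro ⟨_, a, ha, rfl⟩ ⟨_, b, hb, rfl⟩
      exact Subtype.ext (((S.Vb_comm ha hb).map c).eq)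
    · rintro _ ⟨a, ha, rfl⟩
      rw [← map_pow, S.isElementary.2 a ha, map_one]
  · rw [Subgroup.card_map_of_injective hc, S.card_Vb]
  · rw [← Subgroup.map_inf _ _ _ hc, hbot, Subgroup.map_bot]
  · rw [← Subgroup.map_sup, hsup, hmap]
  · exact ((φ.range.equivMapOfInjective c hc).symm.trans (MonoidHom.ofInjective hinj).symm).trans
      Lib.JankoFour.pairEquiv

end Cfsg.Agent.S5569
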