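import Cfsg.Statements.S1588
import Mathlib
-- import your own Cfsg.Agent.* helpers here

set_option autoImplicit false
open Matrix
open Cfsg

namespace Cfsg.Agent.S1588

local notation "V" => Fin 24 → ℤ

/-- The first nonzero coordinate is positive. -/
def Pos (v : V) : Prop := ∃ i, 0 < v i ∧ ∀ j < i, v j = 0

theorem not_pos_neg {v : V} (h : Pos v) : ¬ Pos (-v) := by
  obtain ⟨i, hi, hj⟩ := h
  rintro ⟨k, hk, hl⟩
  simp only [Pi.neg_apply] at hk hl
  rcases lt_trichotomy i k with h | h | h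
  · have := hl i h; omega
  · subst h; omega
  · have := hj k h; omega

theorem pos_or {v : V} (h : v ≠ 0) : Pos v ∨ Pos (-v) := by
  classical
  have hne : (Finset.univ.filter fun i => v i ≠ 0).Nonempty := by
    by_contra hc
    exact h (funext fun i => by
      by_contra hi
      exact hc ⟨i, Finset.mem_filter.2 ⟨Finset.mem_univ _, hi⟩⟩)
  set i := (Finset.univ.filter fun i => v i ≠ 0).min' hne
  have hi : v i ≠ 0 := (Finset.mem_filter.1 (Finset.min'_mem _ hne)).2
  have hj : ∀ j < i, v j = 0 := fun j hji => by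
    by_contra hc
    exact absurd (Finset.min'_le _ j (Finset.mem_filter.2 ⟨Finset.mem_univ _, hc⟩)) (not_le.2 hji)
  rcases lt_or_gt_of_ne hi with hl | hl
  · exact Or.inr ⟨i, by simp only [Pi.neg_apply]; omega, fun j hji => by simp [hj j hji]⟩
  · exact Or.inl ⟨i, hl, hj⟩

/-- Reduction modulo two. -/
def red (v : V) : Fin 24 → ZMod 2 := fun i => (v i : ZMod 2)

theorem red_eq_iff (u w : V) : red u = red w ↔ ∀ i, (2 : ℤ) ∣ (u - w) i := by
  rw [funext_iff]
  refine forall_congr' fun i => ?_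
  rw [red, red, ZMod.intCast_eq_intCast_iff_dvd_sub, ← dvd_neg, neg_sub, Pi.sub_apply]
  norm_num

theorem red_neg (v : V) : red (-v) = red v := by
  rw [red_eq_iff]
  intro i
  exact ⟨-(v i), by simp only [Pi.sub_apply, Pi.neg_apply]; ring⟩

section lattice

variable {B : Matrix (Fin 24) (Fin 24) ℤ} (hsymm : B.IsSymm)
  (hpos : ∀ x : Fin 24 → ℤ, x ≠ 0 → 0 < x ⬝ᵥ (B *ᵥ x))
  (heven : ∀ x : Fin 24 → ℤ, (2 : ℤ) ∣ x ⬝ᵥ (B *ᵥ x)) (h2 : ∀ x : Fin 24 → ℤ, x ⬝ᵥ (B *ᵥ x) ≠ 2)

include hpos heven h2 in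
theorem four_le {w : V} (hw : w ≠ 0) : 4 ≤ w ⬝ᵥ (B *ᵥ w) := by
  have a := hpos w hw
  obtain ⟨c, hc⟩ := heven w
  have b := h2 w
  omega

include hsymm in
theorem form_comm (a b : V) : a ⬝ᵥ (B *ᵥ b) = b ⬝ᵥ (B *ᵥ a) := by
  rw [Matrix.dotProduct_mulVec, ← Matrix.mulVec_transpose, hsymm.eq, dotProduct_comm]

include hsymm hpos heven h2 in
theorem sixteen {u w : V} (h : red u = red w) (hne : u ≠ w) :
    16 ≤ u ⬝ᵥ (B *ᵥ u) + w ⬝ᵥ (B *ᵥ w) - 2 * (u ⬝ᵥ (B *ᵥ w)) := by
  rw [red_eq_iff] at h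
  choose z hz using h
  have hxy : u - w = (2 : ℤ) • z := funext fun i => by rw [hz i]; rfl
  have h0 : z ≠ 0 := fun h0 => hne (sub_eq_zero.1 (by rw [hxy, h0, smul_zero]))
  have k := four_le hpos heven h2 h0
  have e : (u - w) ⬝ᵥ (B *ᵥ (u - w)) = 4 * (z ⬝ᵥ (B *ᵥ z)) := by
    rw [hxy, Matrix.mulVec_smul, smul_dotProduct, dotProduct_smul, smul_eq_mul, smul_eq_mul]; ring
  have := form_comm hsymm w u
  rw [Matrix.mulVec_sub, sub_dotProduct, dotProduct_sub, dotProduct_sub] at e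
  linarith

include hsymm hpos heven h2 in
/-- Two vectors of norm at most eight in one class. -/
theorem small_class {u w : V} (h : red u = red w) (hu : u ⬝ᵥ (B *ᵥ u) ≤ 8) (hw : w ⬝ᵥ (B *ᵥ w) ≤ 8)
    (hne : u ≠ w) (hnn : u ≠ -w) : u ⬝ᵥ (B *ᵥ u) = 8 ∧ w ⬝ᵥ (B *ᵥ w) = 8 ∧ u ⬝ᵥ (B *ᵥ w) = 0 := by
  have a := sixteen hsymm hpos heven h2 h hne
  have b := sixteen hsymm hpos heven h2 (u := u) (w := -w) (by rw [red_neg]; exact h) hnn
  simp only [Matrix.mulVec_neg, neg_dotProduct, dotProduct_neg, neg_neg] at b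
  refine ⟨?_, ?_, ?_⟩ <;> linarith

include hsymm hpos heven h2 in
theorem class_le (s : Finset V) (hs : ∀ v ∈ s, v ⬝ᵥ (B *ᵥ v) = 8) (c : Fin 24 → ZMod 2)
    (hc : ∀ v ∈ s, red v = c) : s.card ≤ 48 := by
  classical
  set P := s.filter Pos
  set N := s.filter fun v => Pos (-v)
  have hsplit : s ⊆ P ∪ N := fun v hv => by
    have hv0 : v ≠ 0 := fun h => by have := hs v hv; simp [h] at this
    rcases pos_or hv0 with h | h
    · exact Finset.mem_union_left _ (Finset.mem_filter.2 ⟨hv, h⟩)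
    · exact Finset.mem_union_right _ (Finset.mem_filter.2 ⟨hv, h⟩)
  have key : ∀ T : Finset V, T ⊆ s → (∀ u ∈ T, ∀ w ∈ T, u ≠ -w) → T.card ≤ 24 := by
    intro T hT hneg
    have li : LinearIndependent ℤ (fun v : T => (v : V)) := by
      rw [Fintype.linearIndependent_iff]
      intro g hg j
      have e : (∑ i : T, g i • (i : V)) ⬝ᵥ (B *ᵥ (j : V)) = g j * 8 := by
        rw [sum_dotProduct, Finset.sum_eq_single j]
        · rw [smul_dotProduct, smul_eq_mul, hs _ (hT j.2)]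
        · intro i _ hij
          rw [smul_dotProduct, smul_eq_mul, (small_class hsymm hpos heven h2
            ((hc _ (hT i.2)).trans (hc _ (hT j.2)).symm) (hs _ (hT i.2)).le (hs _ (hT j.2)).le
            (fun h => hij (Subtype.ext h)) (hneg _ i.2 _ j.2)).2.2, mul_zero]
        · simp
      rw [hg, zero_dotProduct] at e
      omega
    have := li.fintype_card_le_finrank
    simpa using this
  have h1 : P.card ≤ 24 := key P (Finset.filter_subset _ _) fun u hu w hw h =>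
    not_pos_neg (Finset.mem_filter.1 hw).2 (h ▸ (Finset.mem_filter.1 hu).2)
  have h3 : N.card ≤ 24 := key N (Finset.filter_subset _ _) fun u hu w hw h => by
    have := (Finset.mem_filter.1 hu).2
    rw [h, neg_neg] at this
    exact not_pos_neg this (Finset.mem_filter.1 hw).2
  have := (Finset.card_le_card hsplit).trans (Finset.card_union_le _ _)
  omega

end lattice

/-- Second step of the characterisation: under the vector counts of the rank-24 lattice, the norm-8 vectors fall into congruence classes of exactly 48 modulo twice the lattice. -/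
theorem result (B : Matrix (Fin 24) (Fin 24) ℤ) (hsymm : B.IsSymm) (hpos : ∀ x : Fin 24 → ℤ, x ≠ 0 → 0 < x ⬝ᵥ (B *ᵥ x)) (heven : ∀ x : Fin 24 → ℤ, (2 : ℤ) ∣ x ⬝ᵥ (B *ᵥ x)) (h2 : ∀ x : Fin 24 → ℤ, x ⬝ᵥ (B *ᵥ x) ≠ 2) (h4 : {x : Fin 24 → ℤ | x ⬝ᵥ (B *ᵥ x) = 4}.ncard = 196560) (h6 : {x : Fin 24 → ℤ | x ⬝ᵥ (B *ᵥ x) = 6}.ncard = 16773120) (h8 : {x : Fin 24 → ℤ | x ⬝ᵥ (B *ᵥ x) = 8}.ncard = 398034000) (x : Fin 24 → ℤ) (hx : x ⬝ᵥ (B *ᵥ x) = 8) : {y : Fin 24 → ℤ | y ⬝ᵥ (B *ᵥ y) = 8 ∧ ∀ i, (2 : ℤ) ∣ (x - y) i}.ncard = 48 := by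
  classical
  set N : ℤ → Set (Fin 24 → ℤ) := fun k => {v | v ⬝ᵥ (B *ᵥ v) = k} with hN
  have f4 : (N 4).Finite := Set.finite_of_ncard_ne_zero (by rw [hN]; simp only; rw [h4]; omega)
  have f6 : (N 6).Finite := Set.finite_of_ncard_ne_zero (by rw [hN]; simp only; rw [h6]; omega)
  have f8 : (N 8).Finite := Set.finite_of_ncard_ne_zero (by rw [hN]; simp only; rw [h8]; omega)
  set A := f4.toFinset with hA
  set C := f6.toFinset with hC
  set D := f8.toFinset with hD
  have mA : ∀ v, v ∈ A ↔ v ⬝ᵥ (B *ᵥ v) = 4 := fun v => f4.mem_toFinset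
  have mC : ∀ v, v ∈ C ↔ v ⬝ᵥ (B *ᵥ v) = 6 := fun v => f6.mem_toFinset
  have mD : ∀ v, v ∈ D ↔ v ⬝ᵥ (B *ᵥ v) = 8 := fun v => f8.mem_toFinset
  have cA : A.card = 196560 := by rw [hA, ← Set.ncard_eq_toFinset_card _ f4]; exact h4
  have cC : C.card = 16773120 := by rw [hC, ← Set.ncard_eq_toFinset_card _ f6]; exact h6
  have cD : D.card = 398034000 := by rw [hD, ← Set.ncard_eq_toFinset_card _ f8]; exact h8
  have sc := fun u w h hu hw hne hnn => small_class hsymm hpos heven h2 (u := u) (w := w) h hu hw hne hnn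
  have bound : ∀ (S : Finset (Fin 24 → ℤ)) (k : ℤ), (∀ v ∈ S, v ⬝ᵥ (B *ᵥ v) = k) → k < 8 →
      S.card ≤ (S.image red).card * 2 := by
    intro S k hS hk
    refine (Finset.card_le_mul_card_image (f := red) S 2 fun c hc => ?_).trans (le_of_eq (mul_comm _ _))
    obtain ⟨u, hu, rfl⟩ := Finset.mem_image.1 hc
    refine le_trans (Finset.card_le_card (t := ({u, -u} : Finset (Fin 24 → ℤ))) fun v hv => ?_) Finset.card_le_two
    rw [Finset.mem_filter] at hv
    rw [Finset.mem_insert, Finset.mem_singleton]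
    by_contra hcon
    rw [not_or] at hcon
    have := (sc v u hv.2 (by rw [hS v hv.1]; omega) (by rw [hS u hu]; omega) hcon.1 hcon.2).1
    rw [hS v hv.1] at this
    omega
  have bA := bound A 4 (fun v hv => (mA v).1 hv) (by norm_num)
  have bC := bound C 6 (fun v hv => (mC v).1 hv) (by norm_num)
  have disj : ∀ (u w : Fin 24 → ℤ) (k l : ℤ), u ⬝ᵥ (B *ᵥ u) = k → w ⬝ᵥ (B *ᵥ w) = l → k ≠ l → k ≤ 8 → l ≤ 8 →
      red u ≠ red w := by
    intro u w k l hu hw hkl hk hl h
    have := sc u w h (by omega) (by omega) (fun e => hkl (by rw [← hu, ← hw, e]))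
      (fun e => hkl (by rw [← hu, ← hw, e]; simp [Matrix.mulVec_neg]))
    omega
  have d1 : Disjoint (A.image red) (C.image red) := by
    rw [Finset.disjoint_left]
    intro c hc hc'
    obtain ⟨u, hu, rfl⟩ := Finset.mem_image.1 hc
    obtain ⟨w, hw, he⟩ := Finset.mem_image.1 hc'
    exact disj w u 6 4 ((mC w).1 hw) ((mA u).1 hu) (by norm_num) (by norm_num) (by norm_num) he
  have d2 : Disjoint (A.image red ∪ C.image red) (D.image red) := by
    rw [Finset.disjoint_left]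
    intro c hc hc'
    obtain ⟨w, hw, rfl⟩ := Finset.mem_image.1 hc'
    rcases Finset.mem_union.1 hc with h | h <;> obtain ⟨u, hu, he⟩ := Finset.mem_image.1 h
    · exact disj u w 4 8 ((mA u).1 hu) ((mD w).1 hw) (by norm_num) (by norm_num) (by norm_num) he
    · exact disj u w 6 8 ((mC u).1 hu) ((mD w).1 hw) (by norm_num) (by norm_num) (by norm_num) he
  have d3 : red 0 ∉ A.image red ∪ C.image red ∪ D.image red := by
    intro h
    obtain ⟨u, hu, hk, he⟩ : ∃ u : Fin 24 → ℤ, u ≠ 0 ∧ u ⬝ᵥ (B *ᵥ u) ≤ 8 ∧ red u = red 0 := by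
      rcases Finset.mem_union.1 h with h | h
      rcases Finset.mem_union.1 h with h | h
      all_goals obtain ⟨u, hu, he⟩ := Finset.mem_image.1 h
      · exact ⟨u, fun e => by subst e; simpa using (mA _).1 hu, by rw [(mA u).1 hu]; norm_num, he⟩
      · exact ⟨u, fun e => by subst e; simpa using (mC _).1 hu, by rw [(mC u).1 hu]; norm_num, he⟩
      · exact ⟨u, fun e => by subst e; simpa using (mD _).1 hu, by rw [(mD u).1 hu], he⟩
    have := (sc u 0 he hk (by simp) hu (by simpa using hu)).2.1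
    simp at this
  have total : (A.image red).card + (C.image red).card + (D.image red).card + 1 ≤ 2 ^ 24 := by
    rw [← Finset.card_union_of_disjoint d1, ← Finset.card_union_of_disjoint d2,
      ← Finset.card_insert_of_notMem d3]
    refine (Finset.card_le_univ _).trans ?_
    rw [Fintype.card_fun, ZMod.card, Fintype.card_fin]
  have eS : {y : Fin 24 → ℤ | y ⬝ᵥ (B *ᵥ y) = 8 ∧ ∀ i, (2 : ℤ) ∣ (x - y) i}
      = ↑(D.filter fun y => red y = red x) := by
    ext y
    simp only [Set.mem_setOf_eq, Finset.coe_filter, mD, ← red_eq_iff, @eq_comm _ (red x)]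
  rw [eS, Set.ncard_coe_finset]
  have le48 : ∀ c, (D.filter fun y => red y = c).card ≤ 48 := fun c =>
    class_le hsymm hpos heven h2 _ (fun v hv => (mD v).1 (Finset.mem_filter.1 hv).1) c
      (fun v hv => (Finset.mem_filter.1 hv).2)
  by_contra hne
  have hlt : (D.filter fun y => red y = red x).card < 48 := lt_of_le_of_ne (le48 _) hne
  have hmem : red x ∈ D.image red := Finset.mem_image_of_mem red ((mD x).2 hx)
  have hsum := Finset.card_eq_sum_card_fiberwise (f := red) (s := D) (t := D.image red)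
    fun v hv => Finset.mem_image_of_mem red hv
  have hlt' : ∑ c ∈ D.image red, (D.filter fun y => red y = c).card < ∑ _c ∈ D.image red, 48 :=
    Finset.sum_lt_sum (fun c _ => le48 c) ⟨red x, hmem, hlt⟩
  rw [← hsum, Finset.sum_const, smul_eq_mul, cD] at hlt'
  omega

end Cfsg.Agent.S1588
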