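import Cfsg.Statements.S1141
import Mathlib
import Cfsg.Agent.Lib.U3Even.Sylow
import Cfsg.Prelude.Def_LieRecognition
-- import your own Cfsg.Agent.* helpers here

set_option autoImplicit false
open Cfsg

namespace Cfsg.Agent.S1141

open Cfsg.Lib.U3Even

variable {F : Type*} [Field F] [Fintype F] {n : ℕ} {T : Type*} [Group T]

theorem suzuki (hn : 2 ≤ n) (hF : Fintype.card F = (2 ^ n) ^ 2) (c : Coords F (2 ^ n) T) :
    Cfsg.IsSuzukiTwoGroup T := by
  classical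
  have hn1 : 1 ≤ n := by omega
  have hq : 4 ≤ 2 ^ n := le_trans (by norm_num) (Nat.pow_le_pow_right two_pos hn)
  have t2 := two_eq_zero hn1 hF
  have hcard := c.card_eq hn1 hF
  haveI : Finite T := Nat.finite_of_card_ne_zero (by rw [hcard]; positivity)
  refine ⟨inferInstance, IsPGroup.of_card (n := n * 3) (by rw [hcard, pow_mul]), ?_, ?_, ?_⟩
  · by_contra hno
    push Not at hno
    have htop : Subgroup.center T = ⊤ :=
      eq_top_iff.2 fun x _ => Subgroup.mem_center_iff.2 fun y => hno y x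
    have h1 := c.card_center hn1 hF
    rw [htop, Subgroup.card_top, hcard] at h1
    have : (2 ^ n) ^ 1 < (2 ^ n) ^ 3 := Nat.pow_lt_pow_right (by omega) (by norm_num)
    rw [pow_one] at this
    omega
  · have hz := c.card_center hn1 hF
    obtain ⟨⟨x, hx⟩, ⟨y, hy⟩, ⟨o, ho⟩, h1, h2, h3⟩ : ∃ x y o : Subgroup.center T,
        x ≠ y ∧ x ≠ o ∧ y ≠ o := by
      haveI := Fintype.ofFinite (Subgroup.center T)
      exact Fintype.two_lt_card_iff.1 (by rw [← Nat.card_eq_fintype_card, hz]; omega)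
    have hinv : ∀ z, z ∈ Subgroup.center T → z * z = 1 := fun z hz =>
      (c.A_eq_zero_iff hn1 hF z).1 ((c.mem_center_iff hn1 hF z).1 hz)
    by_cases hx1 : x = 1
    · refine ⟨y, o, fun e => h3 (Subtype.ext e), ?_, hinv y hy, ?_, hinv o ho⟩
      · exact fun e => h1 (Subtype.ext (hx1.trans e.symm))
      · exact fun e => h2 (Subtype.ext (hx1.trans e.symm))
    · by_cases hy1 : y = 1
      · exact ⟨x, o, fun e => h2 (Subtype.ext e), hx1, hinv x hx,
          fun e => h3 (Subtype.ext (hy1.trans e.symm)), hinv o ho⟩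
      · exact ⟨x, y, fun e => h1 (Subtype.ext e), hx1, hinv x hx, hy1, hinv y hy⟩
  -- the scalars of the subfield act regularly on the involutions
  let M : Subgroup Fˣ :=
    { carrier := {u | (u : F) ^ (2 ^ n) = u}
      one_mem' := by simp
      mul_mem' := fun {a b} (ha : (a : F) ^ (2 ^ n) = a) (hb : (b : F) ^ (2 ^ n) = b) => by
        show ((a * b : Fˣ) : F) ^ (2 ^ n) = ((a * b : Fˣ) : F)
        rw [Units.val_mul, mul_pow, ha, hb]
      inv_mem' := fun {a} (ha : (a : F) ^ (2 ^ n) = a) => by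
        show ((a⁻¹ : Fˣ) : F) ^ (2 ^ n) = ((a⁻¹ : Fˣ) : F)
        rw [Units.val_inv_eq_inv_val, inv_pow, ha] }
  have hM : ∀ (u : M) (g : T), ∃ g', c.A g' = ((u : Fˣ) : F) * c.A g ∧
      c.B g' = ((u : Fˣ) : F) * ((u : Fˣ) : F) * c.B g := fun u g => c.exists_mk _ _ (by
    have hu : ((u : Fˣ) : F) ^ (2 ^ n) = ((u : Fˣ) : F) := u.2
    rw [mul_pow, mul_pow, hu, pow_succ, mul_pow, hu]
    have h := c.cond g
    rw [pow_succ] at h
    linear_combination ((u : Fˣ) : F) * ((u : Fˣ) : F) * h)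
  choose f hfA hfB using hM
  have hf : ∀ (u : M) (g h : T), c.A h = ((u : Fˣ) : F) * c.A g →
      c.B h = ((u : Fˣ) : F) * ((u : Fˣ) : F) * c.B g → f u g = h :=
    fun u g h h1 h2 => c.inj _ _ ((hfA u g).trans h1.symm) ((hfB u g).trans h2.symm)
  have hfcomp : ∀ u v g, f (u * v) g = f u (f v g) := fun u v g =>
    hf _ _ _ (by rw [hfA, hfA, Subgroup.coe_mul, Units.val_mul]; ring)
      (by rw [hfB, hfB, Subgroup.coe_mul, Units.val_mul]; ring)
  have hfone : ∀ g, f 1 g = g := fun g => hf _ _ _ (by simp) (by simp)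
  let Ψ : M →* MulAut T := MonoidHom.mk'
    (fun u =>
      { toFun := f u
        invFun := f u⁻¹
        left_inv := fun g => by rw [← hfcomp, inv_mul_cancel, hfone]
        right_inv := fun g => by rw [← hfcomp, mul_inv_cancel, hfone]
        map_mul' := fun g h => hf _ _ _ (by rw [c.A_mul, c.A_mul, hfA, hfA]; ring) (by
          have hu : ((u : Fˣ) : F) ^ (2 ^ n) = ((u : Fˣ) : F) := u.2
          rw [c.B_mul, c.B_mul, hfA, hfA, hfB, hfB, mul_pow, hu]; ring) })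
    fun u v => MulEquiv.ext fun g => hfcomp u v g
  have hΨ : ∀ u g, Ψ u g = f u g := fun _ _ => rfl
  refine ⟨Ψ.range, isCyclic_of_surjective Ψ.rangeRestrict Ψ.rangeRestrict_surjective, ?_⟩
  intro x y hx1 hx hy1 hy
  have hAx := (c.A_eq_zero_iff hn1 hF x).2 hx
  have hAy := (c.A_eq_zero_iff hn1 hF y).2 hy
  have hBx : c.B x ≠ 0 := fun e =>
    hx1 (c.inj _ _ (by rw [hAx, c.A_one hn1 hF]) (by rw [e, c.B_one hn1 hF]))
  have hBy : c.B y ≠ 0 := fun e =>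
    hy1 (c.inj _ _ (by rw [hAy, c.A_one hn1 hF]) (by rw [e, c.B_one hn1 hF]))
  obtain ⟨r, hr⟩ : ∃ r, r = c.B y / c.B x := ⟨_, rfl⟩
  have hrq : r ^ (2 ^ n) = r := by
    rw [hr, div_pow, c.B_fixed hn1 hF hAx, c.B_fixed hn1 hF hAy]
  have hr0 : r ≠ 0 := by rw [hr]; exact div_ne_zero hBy hBx
  obtain ⟨m, hm⟩ : ∃ m, 2 ^ n = 2 * m := ⟨2 ^ (n - 1), by rw [← pow_succ']; congr 1; omega⟩
  obtain ⟨μ, hμ⟩ : ∃ μ : Fˣ, (μ : F) = r ^ m := ⟨Units.mk0 _ (pow_ne_zero _ hr0), rfl⟩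
  have hμM : (μ : F) ^ (2 ^ n) = μ := by rw [hμ, ← pow_mul, mul_comm, pow_mul, hrq]
  have hμ2 : (μ : F) * μ = r := by rw [hμ, ← pow_add, ← two_mul, ← hm, hrq]
  have hone : ∀ u : M, f u x = y → ((u : Fˣ) : F) = μ := by
    intro u hu
    have e := congrArg c.B hu
    rw [hfB] at e
    have h2 : ((u : Fˣ) : F) * ((u : Fˣ) : F) = (μ : F) * μ := by
      rw [hμ2, hr, eq_div_iff hBx, e]
    have h3 : (((u : Fˣ) : F) - μ) * (((u : Fˣ) : F) - μ) = 0 := by
      linear_combination h2 + (μ : F) * ((μ : F) - ((u : Fˣ) : F)) * t2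
    exact sub_eq_zero.1 (mul_self_eq_zero.1 h3)
  have hgood : f ⟨μ, hμM⟩ x = y := hf _ _ _ (by rw [hAx, hAy, mul_zero]) (by
    show c.B y = (μ : F) * μ * c.B x
    rw [hμ2, hr, div_mul_cancel₀ _ hBx])
  refine ⟨⟨Ψ ⟨μ, hμM⟩, ⟨_, rfl⟩⟩, hgood, ?_⟩
  rintro ⟨_, u, rfl⟩ hu
  exact Subtype.ext (congrArg Ψ (Subtype.ext (Units.ext (hone u hu))))

theorem main {n : ℕ} (hn : 2 ≤ n) (hF : Fintype.card F = (2 ^ n) ^ 2)
    (S : Sylow 2 (Cfsg.PSU 3 F (2 ^ n))) :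
    Nat.card S = (2 ^ n) ^ 3 ∧ Nat.card (Subgroup.center ↥(S : Subgroup (Cfsg.PSU 3 F (2 ^ n)))) = 2 ^ n ∧
      Cfsg.IsSuzukiTwoGroup ↥(S : Subgroup (Cfsg.PSU 3 F (2 ^ n))) := by
  obtain ⟨c⟩ := nonempty_coords_psu (by omega) hF S
  exact ⟨c.card_eq (by omega) hF, c.card_center (by omega) hF, suzuki hn hF c⟩

/-- Let `q = 2^n ≥ 4` and `|F| = q²`. A Sylow 2-subgroup `S` of `PSU₃(q)` has order `q³`, its centre has order `q`, and `S` is a Suzuki 2-group. -/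
theorem result {F : Type*} [Field F] [Fintype F] {n : ℕ} (hn : 2 ≤ n)
    (hF : Fintype.card F = (2 ^ n) ^ 2) (S : Sylow 2 (Cfsg.PSU 3 F (2 ^ n))) :
    Nat.card S = (2 ^ n) ^ 3 ∧ Nat.card (Subgroup.center ↥(S : Subgroup (Cfsg.PSU 3 F (2 ^ n)))) = 2 ^ n ∧
      Cfsg.IsSuzukiTwoGroup ↥(S : Subgroup (Cfsg.PSU 3 F (2 ^ n))) := by
  exact main hn hF S

end Cfsg.Agent.S1141
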