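import Cfsg.Statements.S2872
import Cfsg.Agent.Lib.Local.TwoTransfer
-- import your own Cfsg.Agent.* helpers here

set_option autoImplicit false
open Cfsg

namespace Cfsg.Agent.S2872

/-- Let S be a Sylow 2-subgroup of the finite group G. Then G has a proper normal subgroup of 2-power index (O²(G) ≠ G), or Ω₁(Z(S)) is contained in the Frattini subgroup of S, or N_G(S) acts nontrivially on Ω₁(Z(S)) by conjugation. -/
theorem result {G : Type*} [Group G] [Finite G] (S : Sylow 2 G) : Cfsg.pResidual 2 G ≠ ⊤ ∨ Cfsg.omegaOne 2 ((S : Subgroup G) ⊓ Subgroup.centralizer ((S : Subgroup G) : Set G)) ≤ (frattini ↥(S : Subgroup G)).map (S : Subgroup G).subtype ∨ ∃ g ∈ Subgroup.normalizer ((S : Subgroup G) : Set G), ∃ z ∈ Cfsg.omegaOne 2 ((S : Subgroup G) ⊓ Subgroup.centralizer ((S : Subgroup G) : Set G)), g * z * g⁻¹ ≠ z := by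
  haveI : Fact (Nat.Prime 2) := ⟨Nat.prime_two⟩
  by_contra hcon
  push Not at hcon
  obtain ⟨hres, hfr, hN⟩ := hcon
  rw [Cfsg.omegaOne, Subgroup.closure_le] at hfr
  obtain ⟨z, ⟨hz, hz2⟩, hzF⟩ := Set.not_subset.mp hfr
  obtain ⟨hzS, hzC⟩ := hz
  obtain ⟨M, hM, hzM⟩ : ∃ M : Subgroup ↥(S : Subgroup G), IsCoatom M ∧ (⟨z, hzS⟩ : ↥(S : Subgroup G)) ∉ M := by
    by_contra h
    push Not at h
    refine hzF ⟨⟨z, hzS⟩, ?_, rfl⟩
    exact Subgroup.mem_iInf.mpr fun a => Subgroup.mem_iInf.mpr fun ha => h a ha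
  haveI := Cfsg.Lib.PGroup.normal_of_isCoatom S.isPGroup' hM
  have hidx := Cfsg.Lib.PGroup.index_of_isCoatom S.isPGroup' hM
  obtain ⟨f, hf⟩ := Cfsg.Lib.Local.exists_hom_of_central_involution S hzS hzC (by rw [← pow_two]; exact hz2)
    M hidx hzM (fun n hn => hN n hn z (Subgroup.subset_closure ⟨⟨hzS, hzC⟩, hz2⟩))
  apply hf
  have hle : Cfsg.pResidual 2 G ≤ f.ker := by
    refine (Subgroup.closure_le _).mpr fun g hg => MonoidHom.mem_ker.mpr (orderOf_eq_one_iff.mp ?_)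
    have h2 : orderOf (f g) ∣ 2 := by
      have := orderOf_dvd_natCard (f g)
      rwa [← Subgroup.index_eq_card, hidx] at this
    exact Nat.Coprime.eq_one_of_dvd (Nat.Coprime.coprime_dvd_left (orderOf_map_dvd f g) hg) h2
  rw [hres] at hle
  exact MonoidHom.mem_ker.mp (hle (Subgroup.mem_top z))

end Cfsg.Agent.S2872
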