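import Cfsg.Statements.S5188
import Cfsg.Agent.Lib.FusionSys.EssentialOrderFour

set_option autoImplicit false
universe u
open Cfsg

namespace Cfsg.Agent.S5188

open Cfsg.FusionSystem Cfsg.Lib.FusionSys Cfsg.Lib.FusionSys.RankTwo Cfsg.Lib.FusionSys.OrderFour Cfsg.Lib.PGroup
open scoped commutatorElement

variable {Ω : Type u} [Group Ω] {S : Subgroup Ω} [Finite S] {p : ℕ} [hp : Fact p.Prime]
variable {F : Cfsg.FusionSystem S} {H : Subgroup Ω}

theorem abelian_case (hS : IsPGroup p S) (hF : F.IsSaturated p) (hH : F.IsEssential p H)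
    (hcard : Nat.card H = p ^ 4) (hab : ∀ a b : H, a * b = b * a) :
    Cfsg.IsElementaryAbelian p H ∨
      Nonempty (↥H ≃* Multiplicative (ZMod (p ^ 2) × ZMod p × ZMod p)) ∨
      ((p = 2 ∨ p = 3) ∧ Nonempty (↥H ≃* Multiplicative (ZMod (p ^ 2) × ZMod (p ^ 2)))) := by
  haveI := finite_of_le hH.1.1
  have hHG : IsPGroup p H := IsPGroup.of_card hcard
  rcases le_or_gt (frattini H).index (p ^ 2) with hr | hr
  · rcases abelian_rank_two hS hF hH hab hr with ⟨-, h2⟩ | ⟨h3, k, ⟨e⟩⟩
    · exact absurd (Nat.pow_right_injective hp.out.two_le (hcard.symm.trans h2)) (by norm_num)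
    · have h1 := Nat.card_congr e.toEquiv
      rw [hcard, Nat.card_congr Multiplicative.toAdd, Nat.card_prod, Nat.card_zmod, ← pow_add] at h1
      have h4 := Nat.pow_right_injective hp.out.two_le h1
      obtain rfl : k = 2 := by omega
      refine Or.inr (Or.inr ⟨?_, ⟨e⟩⟩)
      have := hp.out.two_le
      omega
  by_cases hexp : ∀ x : H, x ^ p = 1
  · exact Or.inl ⟨⟨⟨hab⟩⟩, fun a ha => congrArg Subtype.val (hexp ⟨a, ha⟩)⟩
  refine Or.inr (Or.inl ?_)
  push Not at hexp
  obtain ⟨x, hx⟩ := hexp
  let powp : H →* H :=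
    { toFun := fun g => g ^ p
      map_one' := one_pow p
      map_mul' := fun a b => (show Commute a b from hab a b).mul_pow p }
  set W := powp.ker with hWdef
  have hmemW : ∀ g : H, g ∈ W ↔ g ^ p = 1 := fun g => MonoidHom.mem_ker
  have hRc : Nat.card powp.range ≤ p := by
    have h1 : powp.range ≤ frattini H := by
      rintro _ ⟨g, rfl⟩
      exact pow_mem_frattini hHG g
    refine (Subgroup.card_le_of_le h1).trans ?_
    obtain ⟨j, hj⟩ := hHG.index (frattini H)
    obtain ⟨i, hi⟩ := IsPGroup.iff_card.1 (hHG.to_subgroup (frattini H))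
    have h2 := (frattini H).card_mul_index
    rw [hi, hj, hcard, ← pow_add] at h2
    have h3 := Nat.pow_right_injective hp.out.two_le h2
    rw [hj] at hr
    have h4 := (Nat.pow_lt_pow_iff_right hp.out.one_lt).1 hr
    rw [hi]
    calc p ^ i ≤ p ^ 1 := Nat.pow_le_pow_right hp.out.pos (by omega)
      _ = p := pow_one p
  have hrp : ∀ g : H, (g ^ p) ^ p = 1 := by
    intro g
    have h2 : orderOf (⟨powp g, MonoidHom.mem_range.2 ⟨g, rfl⟩⟩ : powp.range) ≤ Nat.card powp.range :=
      Nat.le_of_dvd Nat.card_pos (orderOf_dvd_natCard _)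
    rw [Subgroup.orderOf_mk] at h2
    have h3 : orderOf (powp g) ≤ p := h2.trans hRc
    obtain ⟨i, hi⟩ := IsPGroup.iff_orderOf.1 hHG (powp g)
    rw [hi] at h3
    have hi1 : i ≤ 1 := by
      by_contra hlt
      have := Nat.pow_lt_pow_right hp.out.one_lt (show 1 < i by omega)
      rw [pow_one] at this
      omega
    have h4 := pow_orderOf_eq_one (powp g)
    rw [hi] at h4
    rcases Nat.le_one_iff_eq_zero_or_eq_one.1 hi1 with rfl | rfl
    · rw [pow_zero, pow_one] at h4
      show (powp g) ^ p = 1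
      rw [h4, one_pow]
    · rw [pow_one] at h4; exact h4
  set z := x ^ p with hz
  have hz1 : z ≠ 1 := hx
  have hzo : orderOf z = p := orderOf_eq_prime (hrp x) hz1
  have hxo : orderOf x = p ^ 2 := by
    refine orderOf_eq_prime_pow (n := 1) (by rwa [pow_one]) ?_
    show x ^ p ^ (1 + 1) = 1
    rw [pow_succ, pow_one, pow_mul]
    exact hrp x
  have hWc : p ^ 3 ≤ Nat.card W := by
    have h1 := W.card_mul_index
    rw [Subgroup.index_ker, hcard] at h1
    by_contra h2
    push Not at h2
    have h3 : Nat.card W * Nat.card powp.range < p ^ 3 * p :=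
      Nat.mul_lt_mul_of_lt_of_le h2 hRc hp.out.pos
    rw [h1, ← pow_succ] at h3
    exact lt_irrefl _ h3
  have hpick : ∀ L : Subgroup H, Nat.card L < p ^ 3 → ∃ w ∈ W, w ∉ L := by
    intro L hL
    by_contra h
    push Not at h
    exact absurd ((hWc.trans (Subgroup.card_le_of_le h)).trans_lt hL) (lt_irrefl _)
  have hzW : Subgroup.zpowers z ≤ W := Subgroup.zpowers_le.2 ((hmemW z).2 (hrp x))
  obtain ⟨a, haW, ha⟩ := hpick (Subgroup.zpowers z) (by
    rw [Nat.card_zpowers, hzo]
    calc p = p ^ 1 := (pow_one p).symm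
      _ < p ^ 3 := Nat.pow_lt_pow_right hp.out.one_lt (by norm_num))
  have hap : a ^ p = 1 := (hmemW a).1 haW
  letI : CommGroup H := { (inferInstance : Group H) with mul_comm := hab }
  let φ₂ : ↥(Subgroup.zpowers z) × ↥(Subgroup.zpowers a) →* H :=
    (Subgroup.zpowers z).subtype.coprod (Subgroup.zpowers a).subtype
  have hL2 : Nat.card φ₂.range < p ^ 3 := by
    refine (Nat.card_le_card_of_surjective φ₂.rangeRestrict φ₂.rangeRestrict_surjective).trans_lt ?_
    rw [Nat.card_prod, Nat.card_zpowers, Nat.card_zpowers, hzo]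
    calc p * orderOf a ≤ p * p := Nat.mul_le_mul_left _ (Nat.le_of_dvd hp.out.pos (orderOf_dvd_of_pow_eq_one hap))
      _ = p ^ 2 := (sq p).symm
      _ < p ^ 3 := Nat.pow_lt_pow_right hp.out.one_lt (by norm_num)
  obtain ⟨b, hbW, hb⟩ := hpick φ₂.range hL2
  have hbp : b ^ p = 1 := (hmemW b).1 hbW
  have ha1 : a ≠ 1 := fun h => ha (h ▸ one_mem _)
  have hb1 : b ≠ 1 := fun h => hb (h ▸ one_mem _)
  let φ : ↥(Subgroup.zpowers x) × ↥(Subgroup.zpowers a) × ↥(Subgroup.zpowers b) →* H :=
    (Subgroup.zpowers x).subtype.coprod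
      ((Subgroup.zpowers a).subtype.coprod (Subgroup.zpowers b).subtype)
  have hxr : x ∈ φ.range := ⟨(⟨x, Subgroup.mem_zpowers x⟩, 1, 1), show x * (1 * 1) = x by rw [mul_one, mul_one]⟩
  have har : a ∈ φ.range := ⟨(1, ⟨a, Subgroup.mem_zpowers a⟩, 1), show 1 * (a * 1) = a by rw [mul_one, one_mul]⟩
  have hbr : b ∈ φ.range := ⟨(1, 1, ⟨b, Subgroup.mem_zpowers b⟩), show 1 * (1 * b) = b by rw [one_mul, one_mul]⟩
  have hsurj : Function.Surjective φ := by
    rw [← MonoidHom.range_eq_top]
    apply Subgroup.eq_top_of_le_card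
    have hφ₂ : φ₂.range ≤ φ.range := by
      rintro _ ⟨⟨⟨s, hs⟩, ⟨t, ht⟩⟩, rfl⟩
      exact mul_mem (Subgroup.zpowers_le.2 (hxr) (Subgroup.zpowers_le.2 (pow_mem (Subgroup.mem_zpowers x) p) hs))
        (Subgroup.zpowers_le.2 har ht)
    obtain ⟨i, hi⟩ := IsPGroup.iff_card.1 (hHG.to_subgroup φ.range)
    obtain ⟨i₂, hi₂⟩ := IsPGroup.iff_card.1 (hHG.to_subgroup φ₂.range)
    have hW2 : φ₂.range ≤ W := by
      rintro _ ⟨⟨⟨s, hs⟩, ⟨t, ht⟩⟩, rfl⟩
      exact mul_mem (hzW hs) (Subgroup.zpowers_le.2 haW ht)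
    have h2 : 2 ≤ i₂ := by
      by_contra hlt
      refine ha ?_
      have hzr : Subgroup.zpowers z ≤ φ₂.range := fun s hs => ⟨(⟨s, hs⟩, 1), show s * 1 = s from mul_one s⟩
      rw [Subgroup.eq_of_le_of_card_ge hzr ?_]
      · exact ⟨(1, ⟨a, Subgroup.mem_zpowers a⟩), show 1 * a = a from one_mul a⟩
      · rw [hi₂, Nat.card_zpowers, hzo]
        calc p ^ i₂ ≤ p ^ 1 := Nat.pow_le_pow_right hp.out.pos (by omega)
          _ = p := pow_one p
    have h3 : 3 ≤ i := by
      by_contra hlt
      refine hb ?_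
      rw [Subgroup.eq_of_le_of_card_ge hφ₂ ?_]
      · exact hbr
      · rw [hi, hi₂]; exact Nat.pow_le_pow_right hp.out.pos (by omega)
    rw [hcard, hi]
    refine Nat.pow_le_pow_right hp.out.pos ?_
    by_contra hlt
    -- `x` is not in `W`
    have hle : W ⊓ φ.range = φ.range := by
      refine Subgroup.eq_of_le_of_card_ge inf_le_right ?_
      have hsub : φ₂.range ⊔ Subgroup.zpowers b ≤ W ⊓ φ.range :=
        sup_le (le_inf hW2 hφ₂) (le_inf (Subgroup.zpowers_le.2 hbW) (Subgroup.zpowers_le.2 hbr))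
      obtain ⟨i₃, hi₃⟩ := IsPGroup.iff_card.1 (hHG.to_subgroup (φ₂.range ⊔ Subgroup.zpowers b))
      refine le_trans ?_ (Subgroup.card_le_of_le hsub)
      rw [hi, hi₃]
      refine Nat.pow_le_pow_right hp.out.pos ?_
      by_contra h5
      refine hb ?_
      rw [Subgroup.eq_of_le_of_card_ge (le_sup_left : φ₂.range ≤ φ₂.range ⊔ Subgroup.zpowers b) ?_]
      · exact Subgroup.mem_sup_right (Subgroup.mem_zpowers b)
      · rw [hi₂, hi₃]; exact Nat.pow_le_pow_right hp.out.pos (by omega)
    exact hx ((hmemW x).1 (hle.ge hxr).1)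
  have hbij : Function.Bijective φ := hsurj.bijective_of_nat_card_le (by
    rw [Nat.card_prod, Nat.card_prod, Nat.card_zpowers, Nat.card_zpowers, Nat.card_zpowers, hxo,
      orderOf_eq_prime hap ha1, orderOf_eq_prime hbp hb1, hcard]
    exact le_of_eq (by ring))
  refine ⟨(((MulEquiv.ofBijective φ hbij).symm.trans (MulEquiv.prodCongr
    (zmodCyclicMulEquiv inferInstance).symm (MulEquiv.prodCongr
      (zmodCyclicMulEquiv inferInstance).symm (zmodCyclicMulEquiv inferInstance).symm))).trans ?_)⟩
  rw [Nat.card_zpowers, Nat.card_zpowers, Nat.card_zpowers, hxo, orderOf_eq_prime hap ha1,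
    orderOf_eq_prime hbp hb1]
  exact (MulEquiv.prodCongr (MulEquiv.refl _) (MulEquiv.prodMultiplicative _ _).symm).trans
    (MulEquiv.prodMultiplicative _ _).symm

theorem nonabelian_case (hS : IsPGroup p S) (hF : F.IsSaturated p) (hH : F.IsEssential p H)
    (hcard : Nat.card H = p ^ 4) (hna : ¬ IsMulCommutative ↥H) :
      (Odd p ∧ ∃ (E : Type) (_ : Group E) (_ : Finite E), Cfsg.IsExtraspecial p E ∧ Nat.card E = p ^ 3 ∧
        (∀ x : E, x ^ p = 1) ∧ Nonempty (↥H ≃* E × Multiplicative (ZMod p))) ∨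
      (p = 2 ∧ Nonempty (↥H ≃* QuaternionGroup 2 × Multiplicative (ZMod 2))) ∨
      (¬ IsMulCommutative ↥H ∧ (∀ x ∈ H, x ^ (p ^ 2) = 1) ∧ IsCyclic ↥(Subgroup.center ↥H) ∧
        Nat.card (Subgroup.center ↥H) = p ^ 2) := by
  haveI := finite_of_le hH.1.1
  haveI : Nontrivial H := Finite.one_lt_card_iff_nontrivial.1
    (hcard ▸ Nat.one_lt_pow four_ne_zero hp.out.one_lt)
  have hHG : IsPGroup p H := IsPGroup.of_card hcard
  set Z := Subgroup.center ↥H with hZdef
  obtain ⟨a, b, hab⟩ : ∃ a b : H, a * b ≠ b * a := by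
    by_contra h
    push Not at h
    exact hna ⟨⟨h⟩⟩
  have hncyc : ¬ IsCyclic (↥H ⧸ Z) := fun hcy => hna
    ⟨⟨fun u v => commutative_of_cyclic_center_quotient (QuotientGroup.mk' Z)
      (by rw [QuotientGroup.ker_mk']) u v⟩⟩
  obtain ⟨i, hi⟩ := IsPGroup.iff_card.1 (hHG.to_subgroup Z)
  have hmul := Subgroup.card_eq_card_quotient_mul_card_subgroup Z
  obtain ⟨j, hj⟩ := IsPGroup.iff_card.1 (hHG.to_quotient Z)
  have hij : j + i = 4 := by
    rw [hcard, hj, hi, ← pow_add] at hmul
    exact (Nat.pow_right_injective hp.out.two_le hmul).symm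
  have hi0 : 1 ≤ i := by
    by_contra h0
    have h1 : 1 < Nat.card Z := Finite.one_lt_card_iff_nontrivial.2 hHG.center_nontrivial
    rw [hi, show i = 0 by omega, pow_zero] at h1
    exact lt_irrefl 1 h1
  have hj2 : 2 ≤ j := by
    by_contra h
    apply hncyc
    rcases Nat.le_one_iff_eq_zero_or_eq_one.1 (show j ≤ 1 by omega) with rfl | rfl
    · haveI : Subsingleton (↥H ⧸ Z) := (Nat.card_eq_one_iff_unique.1 (by simpa using hj)).1
      infer_instance
    · exact isCyclic_of_prime_card (by simpa using hj)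
  rcases (show i = 1 ∨ i = 2 by omega) with rfl | rfl
  · -- maximal class
    exfalso
    rw [pow_one] at hi
    obtain rfl : j = 3 := by omega
    by_cases hq : IsMulCommutative (↥H ⧸ Z)
    · have hcomm : ∀ u v : H, ⁅u, v⁆ ∈ Z := fun u v => by
        rw [← QuotientGroup.eq_one_iff, ← QuotientGroup.mk'_apply, map_commutatorElement,
          commutatorElement_eq_one_iff_mul_comm]
        exact hq.is_comm.comm _ _
      set d := ⁅a, b⁆ with hd
      have hd1 : d ≠ 1 := fun h => hab (commutatorElement_eq_one_iff_mul_comm.mp h)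
      have hdp : d ^ p = 1 := by
        have := pow_card_eq_one' (x := (⟨d, hcomm a b⟩ : Z))
        rw [hi] at this
        exact congrArg Subtype.val this
      have hZd : Subgroup.zpowers d = Z := Subgroup.eq_of_le_of_card_ge (Subgroup.zpowers_le.2 (hcomm a b))
        (by rw [hi, Nat.card_zpowers, orderOf_eq_prime hdp hd1])
      let θ : H → Z × Z := fun g => (⟨⁅g, a⁆, hcomm g a⟩, ⟨⁅g, b⁆, hcomm g b⟩)
      set C := Subgroup.centralizer ({a, b} : Set H) with hC
      have hCidx : C.index ≤ Nat.card (Z × Z) := by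
        rw [Subgroup.index]
        refine Nat.card_le_card_of_injective (fun q : ↥H ⧸ C => θ q.out) fun q r hqr => ?_
        rw [← QuotientGroup.out_eq' q, ← QuotientGroup.out_eq' r]
        refine QuotientGroup.eq.2 (Subgroup.mem_centralizer_iff.2 ?_)
        have h1 : ∀ c : H, ⁅q.out, c⁆ = ⁅r.out, c⁆ → c * (q.out⁻¹ * r.out) = q.out⁻¹ * r.out * c := by
          intro c hc
          have h2 : q.out * c * q.out⁻¹ = r.out * c * r.out⁻¹ := mul_right_cancel (b := c⁻¹) hc
          calc c * (q.out⁻¹ * r.out) = q.out⁻¹ * (q.out * c * q.out⁻¹) * r.out := by group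
            _ = q.out⁻¹ * (r.out * c * r.out⁻¹) * r.out := by rw [h2]
            _ = q.out⁻¹ * r.out * c := by group
        rintro c (rfl | rfl)
        · exact h1 _ (congrArg (fun t : Z × Z => (t.1 : H)) hqr)
        · exact h1 _ (congrArg (fun t : Z × Z => (t.2 : H)) hqr)
      rw [Nat.card_prod, hi] at hCidx
      obtain ⟨l, hl⟩ := IsPGroup.iff_card.1 (hHG.to_subgroup C)
      have hl2 : 2 ≤ l := by
        obtain ⟨k, hk⟩ := hHG.index C
        have h1 := C.card_mul_index
        rw [hk, hl, hcard, ← pow_add] at h1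
        have h2 := Nat.pow_right_injective hp.out.two_le h1
        rw [hk, ← sq] at hCidx
        have := (Nat.pow_le_pow_iff_right hp.out.one_lt).1 hCidx
        omega
      have hCa : ∀ c ∈ C, c * a = a * c ∧ c * b = b * c := fun c hc =>
        ⟨(Subgroup.mem_centralizer_iff.1 hc a (Or.inl rfl)).symm,
          (Subgroup.mem_centralizer_iff.1 hc b (Or.inr rfl)).symm⟩
      have haC : a ∉ C := fun h => hab (hCa a h).2
      set M := C ⊔ Subgroup.zpowers a with hM
      have hbM : b ∉ M := by
        intro h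
        have hle : M ≤ Subgroup.centralizer ({a} : Set H) :=
          sup_le (fun c hc => Subgroup.mem_centralizer_singleton_iff.2 (hCa c hc).1)
            (Subgroup.zpowers_le.2 (Subgroup.mem_centralizer_singleton_iff.2 rfl))
        exact hab (Subgroup.mem_centralizer_singleton_iff.1 (hle h)).symm
      obtain ⟨m, hm⟩ := IsPGroup.iff_card.1 (hHG.to_subgroup M)
      have hlm : l < m := by
        by_contra h
        refine haC ?_
        rw [Subgroup.eq_of_le_of_card_ge (le_sup_left : C ≤ M) (by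
          rw [hl, hm]; exact Nat.pow_le_pow_right hp.out.pos (by omega))]
        exact Subgroup.mem_sup_right (Subgroup.mem_zpowers a)
      have hm3 : m ≤ 3 := by
        by_contra h
        refine hbM ?_
        rw [Subgroup.eq_top_of_le_card M (by
          rw [hcard, hm]; exact Nat.pow_le_pow_right hp.out.pos (by omega))]
        exact Subgroup.mem_top b
      have hCc : Nat.card C = p ^ 2 := by rw [hl, show l = 2 by omega]
      have hCcomm : ∀ u v : C, u * v = v * u := fun u v =>
        (IsPGroup.commutative_of_card_eq_prime_sq hCc) u v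
      have htop : M ⊔ Subgroup.zpowers b = ⊤ := by
        obtain ⟨n, hn⟩ := IsPGroup.iff_card.1 (hHG.to_subgroup (M ⊔ Subgroup.zpowers b))
        refine Subgroup.eq_top_of_le_card _ ?_
        rw [hcard, hn]
        refine Nat.pow_le_pow_right hp.out.pos ?_
        by_contra h
        refine hbM ?_
        rw [Subgroup.eq_of_le_of_card_ge (le_sup_left : M ≤ M ⊔ Subgroup.zpowers b) (by
          rw [hm, hn]; exact Nat.pow_le_pow_right hp.out.pos (by omega))]
        exact Subgroup.mem_sup_right (Subgroup.mem_zpowers b)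
      have hCZ : C ≤ Z := by
        intro c hc
        refine Subgroup.mem_center_iff.2 fun g => ?_
        have hle : M ⊔ Subgroup.zpowers b ≤ Subgroup.centralizer ({c} : Set H) := by
          refine sup_le (sup_le (fun v hv => Subgroup.mem_centralizer_singleton_iff.2
            (congrArg Subtype.val (hCcomm ⟨v, hv⟩ ⟨c, hc⟩))) (Subgroup.zpowers_le.2 ?_)) (Subgroup.zpowers_le.2 ?_) <;>
            rw [Subgroup.mem_centralizer_singleton_iff]
          · exact (hCa c hc).1.symm
          · exact (hCa c hc).2.symm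
        exact Subgroup.mem_centralizer_singleton_iff.1 (hle (htop ▸ Subgroup.mem_top g))
      have h1 := Subgroup.card_le_of_le hCZ
      rw [hCc, hi] at h1
      nlinarith [hp.out.two_le]
    · obtain ⟨hZqc, hqq, -⟩ := Plane.cube_center hj hq
      set B := (Subgroup.center (↥H ⧸ Z)).comap (QuotientGroup.mk' Z) with hBdef
      have hZB : Z ≤ B := fun z hz => by
        rw [hBdef, Subgroup.mem_comap, QuotientGroup.mk'_apply, (QuotientGroup.eq_one_iff z).2 hz]
        exact one_mem _
      have hBc : Nat.card B = p ^ 2 := by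
        have h1 := B.card_mul_index
        rw [hBdef, Subgroup.index_comap_of_surjective _ (QuotientGroup.mk'_surjective _), ← hBdef, hcard,
          Subgroup.index, hqq] at h1
        exact Nat.eq_of_mul_eq_mul_right (pow_pos hp.out.pos 2) (h1.trans (by rw [← pow_add]))
      have hBcomm : ∀ u v : B, u * v = v * u := fun u v =>
        (IsPGroup.commutative_of_card_eq_prime_sq hBc) u v
      obtain ⟨w, hwB, hwZ⟩ : ∃ w ∈ B, w ∉ Z := by
        by_contra h
        push Not at h
        have h1 := Subgroup.card_le_of_le h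
        rw [hBc, hi] at h1
        nlinarith [hp.out.two_le]
      set C := Subgroup.centralizer (B : Set H) with hC
      have hBC : B ≤ C := fun u hu => Subgroup.mem_centralizer_iff.2 fun v hv =>
        congrArg Subtype.val (hBcomm ⟨v, hv⟩ ⟨u, hu⟩)
      have hCle : C.index ≤ p := by
        rw [Subgroup.index, ← hi]
        have hmem : ∀ g : H, g * w * g⁻¹ * w⁻¹ ∈ Z := fun g => by
          have h1 : QuotientGroup.mk' Z w ∈ Subgroup.center (↥H ⧸ Z) := hwB
          rw [Subgroup.mem_center_iff] at h1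
          rw [← QuotientGroup.eq_one_iff, ← QuotientGroup.mk'_apply, map_mul, map_mul, map_mul, h1 _,
            map_inv, map_inv, mul_inv_cancel_right, mul_inv_cancel]
        refine Nat.card_le_card_of_injective (fun q : ↥H ⧸ C =>
          (⟨q.out * w * q.out⁻¹ * w⁻¹, hmem _⟩ : Z)) fun q r hqr => ?_
        have h1 : q.out * w * q.out⁻¹ = r.out * w * r.out⁻¹ :=
          mul_right_cancel (congrArg Subtype.val hqr)
        rw [← QuotientGroup.out_eq' q, ← QuotientGroup.out_eq' r]
        refine QuotientGroup.eq.2 (Subgroup.mem_centralizer_iff.2 fun v hv => ?_)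
        have h2 : Z ⊔ Subgroup.zpowers w = B := by
          refine Subgroup.eq_of_le_of_card_ge (sup_le hZB (Subgroup.zpowers_le.2 hwB)) ?_
          have hlt : Nat.card Z < Nat.card (Z ⊔ Subgroup.zpowers w : Subgroup H) := by
            refine lt_of_le_of_ne (Subgroup.card_le_of_le le_sup_left) fun he => hwZ ?_
            rw [Subgroup.eq_of_le_of_card_ge (le_sup_left : Z ≤ Z ⊔ Subgroup.zpowers w) he.ge]
            exact Subgroup.mem_sup_right (Subgroup.mem_zpowers w)
          obtain ⟨k, hk⟩ := IsPGroup.iff_card.1 (hHG.to_subgroup (Z ⊔ Subgroup.zpowers w))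
          rw [hi, hk] at hlt
          rw [hBc, hk]
          refine Nat.pow_le_pow_right hp.out.pos ?_
          by_contra h
          have := Nat.pow_le_pow_right hp.out.pos (show k ≤ 1 by omega)
          rw [pow_one] at this
          omega
        have hle : Z ⊔ Subgroup.zpowers w ≤ Subgroup.centralizer ({q.out⁻¹ * r.out} : Set H) := by
          refine sup_le (fun z hz => Subgroup.mem_centralizer_singleton_iff.2 (Subgroup.mem_center_iff.1 hz _).symm)
            (Subgroup.zpowers_le.2 (Subgroup.mem_centralizer_singleton_iff.2 ?_))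
          calc w * (q.out⁻¹ * r.out) = q.out⁻¹ * (q.out * w * q.out⁻¹) * r.out := by group
            _ = q.out⁻¹ * (r.out * w * r.out⁻¹) * r.out := by rw [h1]
            _ = q.out⁻¹ * r.out * w := by group
        exact Subgroup.mem_centralizer_singleton_iff.1 (hle (h2.ge hv))
      have hCc : Nat.card C = p ^ 3 := by
        obtain ⟨k, hk⟩ := hHG.index C
        obtain ⟨l, hl⟩ := IsPGroup.iff_card.1 (hHG.to_subgroup C)
        have h1 := C.card_mul_index
        rw [hk, hl, hcard, ← pow_add] at h1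
        have h2 := Nat.pow_right_injective hp.out.two_le h1
        have hk1 : k = 1 := by
          refine le_antisymm ?_ ?_
          · by_contra hlt
            rw [hk] at hCle
            have := Nat.pow_lt_pow_right hp.out.one_lt (show 1 < k by omega)
            rw [pow_one] at this
            omega
          · by_contra hlt
            rw [show k = 0 by omega, pow_zero, Subgroup.index_eq_one] at hk
            refine hwZ (Subgroup.mem_center_iff.2 fun g => ?_)
            exact ((Subgroup.mem_centralizer_iff.1 (hk.ge (Subgroup.mem_top g))) w hwB).symm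
        rw [hl, show l = 3 by omega]
      have iZ : ∀ α : MulAut H, ∀ x ∈ Z, α x ∈ Z := fun α x hx => by
        rw [hZdef, ← map_center_eq α]; exact ⟨x, hx, rfl⟩
      have iB : ∀ α : MulAut H, ∀ x ∈ B, α x ∈ B := fun α x hx => by
        have h1 : quotAct α (QuotientGroup.mk' Z x) ∈ Subgroup.center (↥H ⧸ Z) := by
          rw [← map_center_eq (quotAct α)]; exact ⟨_, hx, rfl⟩
        exact h1
      exact not_chain_four hS hF hH hcard Z B C hi hBc hCc hZB hBC iZ iB fun α x hx =>
        Subgroup.mem_centralizer_iff.2 fun v hv => by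
          have h1 := Subgroup.mem_centralizer_iff.1 hx _ (iB α⁻¹ v hv)
          have h2 := congrArg α h1
          simpa using h2
  -- class two
  obtain rfl : j = 2 := by omega
  have hVexp : ∀ v : ↥H ⧸ Z, v ^ p = 1 := by
    intro v
    by_contra h
    obtain ⟨k, hk2, hk⟩ := (Nat.dvd_prime_pow hp.out).mp (hj ▸ orderOf_dvd_natCard v)
    rcases Nat.lt_or_ge k 2 with hlt | hge
    · exact h (orderOf_dvd_iff_pow_eq_one.mp (hk ▸ (pow_dvd_pow p (by omega : k ≤ 1)).trans
        (by rw [pow_one])))
    · exact hncyc (isCyclic_of_orderOf_eq_card v (by rw [hk, hj, show k = 2 by omega]))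
  have hxZ : ∀ x : H, x ^ p ∈ Z := fun x => by rw [← QuotientGroup.eq_one_iff, QuotientGroup.mk_pow, hVexp]
  have hqab : ∀ u v : ↥H ⧸ Z, u * v = v * u := fun u v =>
    (IsPGroup.commutative_of_card_eq_prime_sq hj) u v
  have hcomm : ∀ u v : H, ⁅u, v⁆ ∈ Z := fun u v => by
    rw [← QuotientGroup.eq_one_iff, ← QuotientGroup.mk'_apply, map_commutatorElement,
      commutatorElement_eq_one_iff_mul_comm]
    exact hqab _ _
  set d := ⁅a, b⁆ with hd
  have hd1 : d ≠ 1 := fun h => hab (commutatorElement_eq_one_iff_mul_comm.mp h)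
  have hgen : Subgroup.zpowers a ⊔ Subgroup.zpowers b ⊔ Z = ⊤ := by
    have haZ : a ∉ Z := fun h => hab (Subgroup.mem_center_iff.1 h b).symm
    set M := Subgroup.zpowers a ⊔ Z
    have hbM : b ∉ M := by
      intro h
      have hle : M ≤ Subgroup.centralizer ({a} : Set H) :=
        sup_le (Subgroup.zpowers_le.2 (Subgroup.mem_centralizer_singleton_iff.2 rfl))
          fun z hz => Subgroup.mem_centralizer_singleton_iff.2 (Subgroup.mem_center_iff.1 hz a).symm
      exact hab (Subgroup.mem_centralizer_singleton_iff.1 (hle h)).symm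
    have hMc : p ^ 3 ≤ Nat.card M := by
      obtain ⟨k, hk⟩ := IsPGroup.iff_card.1 (hHG.to_subgroup M)
      rw [hk]
      refine Nat.pow_le_pow_right hp.out.pos ?_
      by_contra h
      refine haZ ?_
      rw [Subgroup.eq_of_le_of_card_ge (le_sup_right : Z ≤ M) (by
        rw [hk, hi]; exact Nat.pow_le_pow_right hp.out.pos (by omega))]
      exact Subgroup.mem_sup_left (Subgroup.mem_zpowers a)
    apply Subgroup.eq_top_of_le_card
    obtain ⟨k, hk⟩ := IsPGroup.iff_card.1 (hHG.to_subgroup (Subgroup.zpowers a ⊔ Subgroup.zpowers b ⊔ Z))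
    rw [hcard, hk]
    refine Nat.pow_le_pow_right hp.out.pos ?_
    by_contra h
    refine hbM ?_
    have he : M = Subgroup.zpowers a ⊔ Subgroup.zpowers b ⊔ Z :=
      Subgroup.eq_of_le_of_card_ge (sup_le (le_sup_left.trans le_sup_left) le_sup_right)
        (le_trans (by rw [hk]; exact Nat.pow_le_pow_right hp.out.pos (by omega)) hMc)
    rw [he]
    exact Subgroup.mem_sup_left (Subgroup.mem_sup_right (Subgroup.mem_zpowers b))
  set D := Subgroup.zpowers d with hD
  have hdp : d ^ p = 1 := by
    have hca : ∀ n : ℕ, ⁅a ^ n, b⁆ = d ^ n := by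
      intro n
      induction n with
      | zero => simp
      | succ n ih =>
        rw [pow_succ, pow_succ]
        have hz := Subgroup.mem_center_iff.1 (hcomm a b) (a ^ n)
        rw [← ih, hd, commutatorElement_def, commutatorElement_def] at *
        calc a ^ n * a * b * (a ^ n * a)⁻¹ * b⁻¹ =
              (a ^ n * (a * b * a⁻¹ * b⁻¹)) * b * (a ^ n)⁻¹ * b⁻¹ := by group
          _ = (a * b * a⁻¹ * b⁻¹) * (a ^ n * b * (a ^ n)⁻¹ * b⁻¹) := by rw [hz]; group
          _ = (a ^ n * b * (a ^ n)⁻¹ * b⁻¹) * (a * b * a⁻¹ * b⁻¹) := by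
            rw [Subgroup.mem_center_iff.1 (show a * b * a⁻¹ * b⁻¹ ∈ Z from hcomm a b)]
    rw [← hca p, commutatorElement_eq_one_iff_mul_comm]
    exact (Subgroup.mem_center_iff.1 (hxZ a) b).symm
  have hdo : orderOf d = p := orderOf_eq_prime hdp hd1
  have hDZ : D ≤ Z := Subgroup.zpowers_le.2 (hcomm a b)
  have hDc : Nat.card D = p := by rw [hD, Nat.card_zpowers, hdo]
  haveI hDn : D.Normal := ⟨fun n hn g => by
    rwa [Subgroup.mem_center_iff.1 (hDZ hn) g, mul_inv_cancel_right]⟩
  have hDcomm : ∀ u v : H, ⁅u, v⁆ ∈ D := by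
    set π := QuotientGroup.mk' D
    have hle : Subgroup.zpowers a ⊔ Subgroup.zpowers b ⊔ Z ≤
        (Subgroup.centralizer ({π a, π b} : Set (↥H ⧸ D))).comap π := by
      have hcab : π a * π b = π b * π a := commutatorElement_eq_one_iff_mul_comm.1 (by
        rw [← map_commutatorElement]; exact (QuotientGroup.eq_one_iff _).2 (Subgroup.mem_zpowers d))
      refine sup_le (sup_le (Subgroup.zpowers_le.2 ?_) (Subgroup.zpowers_le.2 ?_)) fun z hz => ?_ <;>
        rw [Subgroup.mem_comap, Subgroup.mem_centralizer_iff] <;> rintro c (rfl | rfl)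
      · rfl
      · exact hcab.symm
      · exact hcab
      · rfl
      · rw [← map_mul, ← map_mul, Subgroup.mem_center_iff.1 hz a]
      · rw [← map_mul, ← map_mul, Subgroup.mem_center_iff.1 hz b]
    intro u v
    have hu : ∀ u : H, π u * π a = π a * π u ∧ π u * π b = π b * π u := fun u => by
      have := Subgroup.mem_centralizer_iff.1 (hle (hgen ▸ Subgroup.mem_top u))
      exact ⟨(this _ (Or.inl rfl)).symm, (this _ (Or.inr rfl)).symm⟩
    have hle2 : Subgroup.zpowers a ⊔ Subgroup.zpowers b ⊔ Z ≤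
        (Subgroup.centralizer ({π u} : Set (↥H ⧸ D))).comap π := by
      refine sup_le (sup_le (Subgroup.zpowers_le.2 ?_) (Subgroup.zpowers_le.2 ?_)) fun z hz => ?_ <;>
        rw [Subgroup.mem_comap, Subgroup.mem_centralizer_singleton_iff]
      · exact (hu u).1.symm
      · exact (hu u).2.symm
      · rw [← map_mul, ← map_mul, Subgroup.mem_center_iff.1 hz u]
    rw [← QuotientGroup.eq_one_iff, ← QuotientGroup.mk'_apply, map_commutatorElement,
      commutatorElement_eq_one_iff_mul_comm]
    exact (Subgroup.mem_centralizer_singleton_iff.1 (hle2 (hgen ▸ Subgroup.mem_top v))).symm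
  have iD : ∀ α : MulAut H, ∀ x ∈ D, α x ∈ D := fun α x hx => by
    obtain ⟨k, rfl⟩ := hx
    show α (d ^ k) ∈ D
    rw [map_zpow, hd, map_commutatorElement]
    exact zpow_mem (hDcomm _ _) k
  have iZ : ∀ α : MulAut H, ∀ x ∈ Z, α x ∈ Z := fun α x hx => by
    rw [hZdef, ← map_center_eq α]; exact ⟨x, hx, rfl⟩
  have hchain : ∀ C : Subgroup H, Z ≤ C → Nat.card C = p ^ 3 → (∀ α : MulAut H, ∀ x ∈ C, α x ∈ C) → False :=
    fun C hZC hCc iC => not_chain_four hS hF hH hcard D Z C hDc hi hCc hDZ hZC iD iZ iC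
  have hpow : ∀ u v : H, (u * v) ^ p = u ^ p * v ^ p * ⁅v, u⁆ ^ p.choose 2 := fun u v =>
    Huppert.mul_pow_of_central_comm u v (hcomm v u) p
  -- powers lie in `D`
  have hpD : ∀ x : H, x ^ p ∈ D := by
    by_contra hne
    push Not at hne
    obtain ⟨x₀, hx₀⟩ := hne
    let θ : H →* ↥H ⧸ D :=
      { toFun := fun g => ((g ^ p : H) : ↥H ⧸ D)
        map_one' := by rw [one_pow]; rfl
        map_mul' := fun u v => by
          rw [hpow, QuotientGroup.mk_mul, (QuotientGroup.eq_one_iff _).2 (pow_mem (hDcomm v u) _),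
            mul_one, QuotientGroup.mk_mul] }
    have hker : ∀ g : H, g ∈ θ.ker ↔ g ^ p ∈ D := fun g => QuotientGroup.eq_one_iff _
    refine hchain θ.ker ?_ ?_ fun α g hg => ?_
    · intro z hz
      rw [hker]
      have hzp : (z ^ p) ^ p = 1 := by
        have := pow_card_eq_one' (x := (⟨z, hz⟩ : Z))
        rw [hi, pow_two, pow_mul] at this
        exact congrArg Subtype.val this
      by_cases hz1 : z ^ p = 1
      · rw [hz1]; exact one_mem _
      have hcy : IsCyclic Z := by
        refine isCyclic_of_orderOf_eq_card (⟨z, hz⟩ : Z) ?_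
        rw [hi, Subgroup.orderOf_mk]
        exact orderOf_eq_prime_pow (n := 1) (by rwa [pow_one]) (by
          show z ^ p ^ (1 + 1) = 1
          rw [pow_succ, pow_one, pow_mul, hzp])
      classical
      haveI : Fintype Z := Fintype.ofFinite _
      have h1 := IsCyclic.card_pow_eq_one_le (α := Z) hp.out.pos
      by_contra hzD
      have hsub : (Finset.univ.filter fun w : Z => (w : H) ∈ D) ∪ {⟨z ^ p, pow_mem hz p⟩} ⊆
          Finset.univ.filter fun w : Z => w ^ p = 1 := by
        intro w hw
        rw [Finset.mem_union, Finset.mem_filter, Finset.mem_singleton] at hw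
        rw [Finset.mem_filter]
        refine ⟨Finset.mem_univ _, Subtype.ext ?_⟩
        rcases hw with ⟨-, hw⟩ | rfl
        · obtain ⟨k, hk⟩ := hw
          show (w : H) ^ p = 1
          rw [← hk]
          show (d ^ k) ^ p = 1
          rw [← zpow_natCast, ← zpow_mul, mul_comm, zpow_mul, zpow_natCast, hdp, one_zpow]
        · exact hzp
      have h2 := (Finset.card_le_card hsub).trans h1
      rw [Finset.card_union_of_disjoint (by
        rw [Finset.disjoint_singleton_right, Finset.mem_filter]; exact fun h => hzD h.2),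
        Finset.card_singleton] at h2
      have h3 : (Finset.univ.filter fun w : Z => (w : H) ∈ D).card = p := by
        rw [← hDc, ← Nat.card_eq_finsetCard]
        exact Nat.card_congr
          { toFun := fun w => ⟨((w : Z) : H), (Finset.mem_filter.1 w.2).2⟩
            invFun := fun w => ⟨⟨w, hDZ w.2⟩, Finset.mem_filter.2 ⟨Finset.mem_univ _, w.2⟩⟩
            left_inv := fun w => rfl
            right_inv := fun w => rfl }
      omega
    · have h1 := θ.ker.card_mul_index
      rw [Subgroup.index_ker, hcard] at h1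
      have h2 : Nat.card θ.range ≤ p := by
        have hle : θ.range ≤ Z.map (QuotientGroup.mk' D) := by
          rintro _ ⟨g, rfl⟩
          exact ⟨g ^ p, hxZ g, rfl⟩
        refine (Subgroup.card_le_of_le hle).trans ?_
        have h3 := (Z.map (QuotientGroup.mk' D)).card_mul_index
        rw [Subgroup.index_map_eq Z (QuotientGroup.mk'_surjective D)
          (by rwa [QuotientGroup.ker_mk'])] at h3
        have h4 := Z.card_mul_index
        rw [hi, hcard] at h4
        have h5 := Subgroup.card_eq_card_quotient_mul_card_subgroup D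
        rw [hcard, hDc] at h5
        have h6 : Nat.card (Z.map (QuotientGroup.mk' D)) * Z.index * p = p * Z.index * p := by
          rw [h3, ← h5, ← h4, sq]; ring
        exact le_of_eq (Nat.eq_of_mul_eq_mul_right (Nat.pos_of_ne_zero Subgroup.index_ne_zero_of_finite)
          (Nat.eq_of_mul_eq_mul_right hp.out.pos h6))
      obtain ⟨k, hk⟩ := IsPGroup.iff_card.1 (hHG.to_subgroup θ.ker)
      rw [hk] at h1 ⊢
      have hk4 : k ≤ 3 := by
        by_contra h
        refine hx₀ ((hker x₀).1 ?_)
        rw [Subgroup.eq_top_of_le_card θ.ker (by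
          rw [hcard, hk]; exact Nat.pow_le_pow_right hp.out.pos (by omega))]
        exact Subgroup.mem_top x₀
      refine le_antisymm (Nat.pow_le_pow_right hp.out.pos hk4) ?_
      refine Nat.le_of_mul_le_mul_right ?_ hp.out.pos
      rw [← pow_succ, ← h1]
      exact Nat.mul_le_mul_left _ h2
    · rw [hker] at hg ⊢
      rw [← map_pow]
      exact iD α _ hg
  by_cases hcy : IsCyclic Z
  · refine Or.inr (Or.inr ⟨hna, fun x hx => ?_, hcy, hi⟩)
    obtain ⟨k, hk⟩ := hpD ⟨x, hx⟩
    have h1 : (⟨x, hx⟩ : H) ^ p ^ 2 = 1 := by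
      rw [pow_two, pow_mul, ← hk]
      show (d ^ k) ^ p = 1
      rw [← zpow_natCast, ← zpow_mul, mul_comm, zpow_mul, zpow_natCast, hdp, one_zpow]
    exact congrArg Subtype.val h1
  have hZexp : ∀ z ∈ Z, z ^ p = 1 := by
    intro z hz
    by_contra h
    refine hcy (isCyclic_of_orderOf_eq_card (⟨z, hz⟩ : Z) ?_)
    rw [hi, Subgroup.orderOf_mk]
    refine orderOf_eq_prime_pow (n := 1) (by rwa [pow_one]) ?_
    have := pow_card_eq_one' (x := (⟨z, hz⟩ : Z))
    rw [hi] at this
    exact congrArg Subtype.val this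
  obtain ⟨c, hcZ, hcD⟩ : ∃ c ∈ Z, c ∉ D := by
    by_contra h
    push Not at h
    have h1 := Subgroup.card_le_of_le h
    rw [hi, hDc] at h1
    nlinarith [hp.out.two_le]
  have hZeq : D ⊔ Subgroup.zpowers c = Z := by
    refine Subgroup.eq_of_le_of_card_ge (sup_le hDZ (Subgroup.zpowers_le.2 hcZ)) ?_
    have hlt : Nat.card D < Nat.card (D ⊔ Subgroup.zpowers c : Subgroup H) := by
      refine lt_of_le_of_ne (Subgroup.card_le_of_le le_sup_left) fun he => hcD ?_
      rw [Subgroup.eq_of_le_of_card_ge (le_sup_left : D ≤ D ⊔ Subgroup.zpowers c) he.ge]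
      exact Subgroup.mem_sup_right (Subgroup.mem_zpowers c)
    obtain ⟨k, hk⟩ := IsPGroup.iff_card.1 (hHG.to_subgroup (D ⊔ Subgroup.zpowers c))
    rw [hDc, hk] at hlt
    rw [hi, hk]
    refine Nat.pow_le_pow_right hp.out.pos ?_
    by_contra h
    have := Nat.pow_le_pow_right hp.out.pos (show k ≤ 1 by omega)
    rw [pow_one] at this
    omega
  have hc1 : c ≠ 1 := fun h => hcD (h ▸ one_mem _)
  have hco : orderOf c = p := orderOf_eq_prime (hZexp c hcZ) hc1
  have hprod : ∀ E : Subgroup H, a ∈ E → b ∈ E → d ∈ E → Nat.card E ≤ p ^ 3 →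
      Nonempty (↥H ≃* ↥E × Multiplicative (ZMod p)) ∧ Nat.card E = p ^ 3 := by
    intro E ha hb hdE hEc
    have htop : E ⊔ Subgroup.zpowers c = ⊤ := by
      rw [eq_top_iff, ← hgen]
      refine sup_le (sup_le (Subgroup.zpowers_le.2 (Subgroup.mem_sup_left ha))
        (Subgroup.zpowers_le.2 (Subgroup.mem_sup_left hb))) ?_
      rw [← hZeq]
      exact sup_le (Subgroup.zpowers_le.2 (Subgroup.mem_sup_left hdE)) le_sup_right
    obtain ⟨e⟩ := prod_iso E hcZ htop (by
      rw [Nat.card_zpowers, hco, hcard, pow_succ p 3]; exact Nat.mul_le_mul_right p hEc)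
    have h1 := Nat.card_congr e.toEquiv
    rw [Nat.card_prod, Nat.card_zpowers, hco, hcard, pow_succ p 3] at h1
    refine ⟨⟨e.trans (MulEquiv.prodCongr (MulEquiv.refl _) ?_)⟩,
      (Nat.eq_of_mul_eq_mul_right hp.out.pos h1).symm⟩
    have := (zmodCyclicMulEquiv (inferInstance : IsCyclic ↥(Subgroup.zpowers c))).symm
    rwa [Nat.card_zpowers, hco] at this
  rcases hp.out.eq_two_or_odd' with rfl | hodd
  · refine Or.inr (Or.inl ⟨rfl, ?_⟩)
    have hsq : ∀ x : H, x ^ 2 = 1 ∨ x ^ 2 = d := fun x => by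
      obtain ⟨k, hk⟩ := hpD x
      rcases Int.even_or_odd k with ⟨l, rfl⟩ | ⟨l, rfl⟩
      · left; rw [← hk]; show d ^ (l + l) = 1
        rw [← two_mul, zpow_mul, show d ^ (2 : ℤ) = 1 from (zpow_ofNat d 2).trans hdp, one_zpow]
      · right; rw [← hk]; show d ^ (2 * l + 1) = d
        rw [zpow_add, zpow_mul, show d ^ (2 : ℤ) = 1 from (zpow_ofNat d 2).trans hdp, one_zpow, one_mul, zpow_one]
    have hdd : d⁻¹ = d := inv_eq_of_mul_eq_one_right (by rw [← sq]; exact hdp)
    have hsq2 : ∀ u v : H, (u * v) ^ 2 = u ^ 2 * v ^ 2 * ⁅v, u⁆ := fun u v => by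
      rw [hpow]; norm_num
    have hswap : ∀ u v : H, u * v ≠ v * u → ⁅v, u⁆ = d := by
      intro u v huv
      have hne : ⁅v, u⁆ ≠ 1 := fun h => huv (commutatorElement_eq_one_iff_mul_comm.1 h).symm
      obtain ⟨k, hk⟩ := hDcomm v u
      rcases Int.even_or_odd k with ⟨l, rfl⟩ | ⟨l, rfl⟩
      · refine absurd ?_ hne
        rw [← hk]
        show d ^ (l + l) = 1
        rw [← two_mul, zpow_mul, show d ^ (2 : ℤ) = 1 from (zpow_ofNat d 2).trans hdp, one_zpow]
      · rw [← hk]
        show d ^ (2 * l + 1) = d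
        rw [zpow_add, zpow_mul, show d ^ (2 : ℤ) = 1 from (zpow_ofNat d 2).trans hdp, one_zpow, one_mul, zpow_one]
    have key : ∀ u v : H, u * v ≠ v * u → u ^ 2 = 1 → v ^ 2 = 1 → False := by
      intro u v huv hu hv
      set w := u * v with hw
      have hw2 : w ^ 2 = d := by rw [hw, hsq2, hu, hv, one_mul, one_mul, hswap u v huv]
      have hwZ : w ∉ Z := fun h => hd1 (by rw [← hw2]; exact hZexp w h)
      set X := Z ⊔ Subgroup.zpowers w with hX
      haveI : Z.Normal := by rw [hZdef]; infer_instance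
      have hXmem : ∀ x ∈ X, x ∈ Z ∨ ∃ z ∈ Z, x = z * w := by
        intro x hx
        obtain ⟨z, hz, t, ⟨k, hk⟩, rfl⟩ := Subgroup.mem_sup_of_normal_left.1 hx
        replace hk : w ^ k = t := hk
        rcases Int.even_or_odd k with ⟨l, rfl⟩ | ⟨l, rfl⟩
        · left
          rw [← hk, ← two_mul, zpow_mul, zpow_ofNat, hw2]
          exact mul_mem hz (zpow_mem (hcomm a b) l)
        · right
          refine ⟨z * d ^ l, mul_mem hz (zpow_mem (hcomm a b) l), ?_⟩
          rw [← hk, zpow_add, zpow_mul, zpow_ofNat, hw2, zpow_one, mul_assoc]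
      have hXc : Nat.card X = 2 ^ 3 := by
        obtain ⟨k, hk⟩ := IsPGroup.iff_card.1 (hHG.to_subgroup X)
        have hlt : Nat.card Z < Nat.card X := by
          refine lt_of_le_of_ne (Subgroup.card_le_of_le le_sup_left) fun he => hwZ ?_
          rw [Subgroup.eq_of_le_of_card_ge (le_sup_left : Z ≤ X) he.ge]
          exact Subgroup.mem_sup_right (Subgroup.mem_zpowers w)
        rw [hi, hk] at hlt
        have h2 := (Nat.pow_lt_pow_iff_right one_lt_two).1 hlt
        have h3 : k ≠ 4 := by
          intro h4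
          have hu' : u ∈ X := by
            rw [Subgroup.eq_top_of_le_card X (by rw [hcard, hk, h4])]
            exact Subgroup.mem_top u
          rcases hXmem u hu' with h | ⟨z, hz, h⟩
          · exact huv (Subgroup.mem_center_iff.1 h v).symm
          · apply hd1
            rw [← hw2, ← hu, h, (show Commute z w from (Subgroup.mem_center_iff.1 hz w).symm).mul_pow,
              hZexp z hz, one_mul]
        have h4 : k ≤ 4 := by
          have h5 := Subgroup.card_le_card_group X
          rw [hk, hcard] at h5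
          exact (Nat.pow_le_pow_iff_right one_lt_two).1 h5
        rw [hk, show k = 3 by omega]
      have hXidx : X.index = 2 := by
        have h1 := X.card_mul_index
        rw [hXc, hcard] at h1
        exact Nat.eq_of_mul_eq_mul_left (by norm_num : 0 < 2 ^ 3) (h1.trans (by norm_num))
      refine hchain X le_sup_left hXc fun α x hx => ?_
      rcases hXmem x hx with h | ⟨z, hz, rfl⟩
      · exact Subgroup.mem_sup_left (iZ α x h)
      by_contra hout
      have hy : (α (z * w)) ^ 2 = d := by
        refine (hsq _).resolve_left fun h => ?_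
        rw [← map_pow, MulEquiv.map_eq_one_iff,
          (show Commute z w from (Subgroup.mem_center_iff.1 hz w).symm).mul_pow, hZexp z hz, one_mul, hw2] at h
        exact hd1 h
      set y := α (z * w)
      have huX : u ∉ X := by
        intro h
        rcases hXmem u h with h | ⟨z', hz', h⟩
        · exact huv (Subgroup.mem_center_iff.1 h v).symm
        · apply hd1
          rw [← hw2, ← hu, h, (show Commute z' w from (Subgroup.mem_center_iff.1 hz' w).symm).mul_pow,
            hZexp z' hz', one_mul]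
      have hyu : y * u ∈ X := by
        rw [Subgroup.mul_mem_iff_of_index_two hXidx]
        exact iff_of_false hout huX
      have hy' : y = (y * u) * u := by rw [mul_assoc, ← sq, hu, mul_one]
      rcases hXmem _ hyu with h | ⟨z', hz', h⟩
      · apply hd1
        rw [← hy, hy', (show Commute (y * u) u from (Subgroup.mem_center_iff.1 h u).symm).mul_pow,
          hZexp _ h, hu, one_mul]
      · apply hd1
        rw [← hy, hy', h, mul_assoc z',
          (show Commute z' (w * u) from (Subgroup.mem_center_iff.1 hz' _).symm).mul_pow, hZexp z' hz',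
          one_mul, hw, sq]
        calc u * v * u * (u * v * u) = u * v * u ^ 2 * v * u := by rw [sq]; group
          _ = u * v ^ 2 * u := by rw [hu, mul_one, sq]; group
          _ = 1 := by rw [hv, mul_one, ← sq, hu]
    rcases hsq a with ha2 | ha2 <;> rcases hsq b with hb2 | hb2
    · exact (key a b hab ha2 hb2).elim
    · refine (key a (a * b) (fun h => hab ?_) ha2 ?_).elim
      · exact mul_left_cancel (a := a) (by rw [h, mul_assoc])
      · rw [hsq2, ha2, hb2, one_mul, hswap a b hab, ← sq]; exact hdp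
    · refine (key (a * b) b (fun h => hab ?_) ?_ hb2).elim
      · exact mul_right_cancel (b := b) (by rw [h, mul_assoc])
      · rw [hsq2, ha2, hb2, mul_one, hswap a b hab, ← sq]; exact hdp
    have hao : orderOf a = 2 * 2 := by
      refine (orderOf_eq_prime_pow (n := 1) (p := 2) ?_ ?_).trans (by norm_num)
      · rw [pow_one, ha2]; exact hd1
      · rw [show 2 ^ (1 + 1) = 2 * 2 by norm_num, pow_mul, ha2]; exact hdp
    have hinv : b * a * b⁻¹ = a⁻¹ := by
      have h1 : b * a * b⁻¹ * a⁻¹ = d := hswap a b hab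
      have h2 : b * a * b⁻¹ = d * a := by rw [← h1]; group
      rw [h2, ← ha2]
      refine eq_inv_of_mul_eq_one_left ?_
      rw [mul_assoc, ← sq, ha2, ← sq]
      exact hdp
    have hbA : b ∉ Subgroup.zpowers a := by
      rintro ⟨k, rfl⟩
      exact hab ((Commute.refl a).zpow_right k).eq
    obtain ⟨eQ⟩ := Cfsg.Lib.TwoGroup.equiv_quaternion (a := a) (b := b) (m := 2) hao
      (by rw [← sq, hb2, ha2]) hinv hbA
    have hEc : Nat.card (Subgroup.closure ({a, b} : Set H)) ≤ 2 ^ 3 := by
      rw [Nat.card_congr eQ.toEquiv, Nat.card_eq_fintype_card, QuaternionGroup.card]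
      norm_num
    obtain ⟨⟨e⟩, -⟩ := hprod _ (Subgroup.subset_closure (Or.inl rfl)) (Subgroup.subset_closure (Or.inr rfl))
      (by rw [← ha2]; exact pow_mem (Subgroup.subset_closure (show a ∈ ({a, b} : Set H) from Or.inl rfl)) 2) hEc
    exact ⟨e.trans (MulEquiv.prodCongr eQ (MulEquiv.refl _))⟩
  · refine Or.inl ⟨hodd, ?_⟩
    have hchoose : p ∣ p.choose 2 := hp.out.dvd_choose_self two_ne_zero
      (lt_of_le_of_ne hp.out.two_le fun h => absurd hodd (by rw [← h]; decide))
    have hhom : ∀ u v : H, (u * v) ^ p = u ^ p * v ^ p := fun u v => by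
      obtain ⟨s, hs⟩ := hchoose
      obtain ⟨k, hk⟩ := hDcomm v u
      rw [hpow, hs, pow_mul, ← hk]
      show u ^ p * v ^ p * ((d ^ k) ^ p) ^ s = _
      rw [← zpow_natCast (d ^ k), ← zpow_mul d k, mul_comm k, zpow_mul, zpow_natCast, hdp, one_zpow,
        one_pow, mul_one]
    have hexp : ∀ x : H, x ^ p = 1 := by
      by_contra h
      push Not at h
      obtain ⟨x₀, hx₀⟩ := h
      let θ : H →* H := { toFun := fun g => g ^ p, map_one' := one_pow p, map_mul' := hhom }
      refine hchain θ.ker (fun z hz => hZexp z hz) ?_ fun α g hg => ?_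
      · have h1 := θ.ker.card_mul_index
        rw [Subgroup.index_ker, hcard] at h1
        have h2 : θ.range = D := by
          refine Subgroup.eq_of_le_of_card_ge (by rintro _ ⟨g, rfl⟩; exact hpD g) ?_
          obtain ⟨k, hk⟩ := IsPGroup.iff_card.1 (hHG.to_subgroup θ.range)
          rw [hDc, hk]
          refine Nat.le_self_pow (fun h0 => hx₀ ?_) p
          rw [h0, pow_zero, Subgroup.card_eq_one] at hk
          exact (Subgroup.mem_bot.1 (hk ▸ ⟨x₀, rfl⟩ : θ x₀ ∈ (⊥ : Subgroup H)))
        rw [h2, hDc] at h1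
        exact Nat.eq_of_mul_eq_mul_right hp.out.pos (h1.trans (pow_succ p 3))
      · rw [MonoidHom.mem_ker] at hg ⊢
        show (α g) ^ p = 1
        rw [← map_pow, show g ^ p = 1 from hg, map_one]
    set E := Subgroup.zpowers a ⊔ (Subgroup.zpowers b ⊔ D) with hE
    haveI hMn : (Subgroup.zpowers b ⊔ D).Normal := Subgroup.Normal.of_commutator_le _ (by
      rw [commutator_def, Subgroup.commutator_le]
      exact fun u _ v _ => Subgroup.mem_sup_right (hDcomm u v))
    have hEle : Nat.card E ≤ p ^ 3 := by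
      have hord : ∀ w : H, Nat.card (Subgroup.zpowers w) ≤ p := fun w => by
        rw [Nat.card_zpowers]
        exact Nat.le_of_dvd hp.out.pos (orderOf_dvd_of_pow_eq_one (hexp w))
      let f : ↥(Subgroup.zpowers a) × (↥(Subgroup.zpowers b) × ↥D) → E := fun q =>
        ⟨(q.1 : H) * ((q.2.1 : H) * (q.2.2 : H)),
          mul_mem (Subgroup.mem_sup_left q.1.2) (Subgroup.mem_sup_right
            (mul_mem (Subgroup.mem_sup_left q.2.1.2) (Subgroup.mem_sup_right q.2.2.2)))⟩
      have hf : Function.Surjective f := by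
        rintro ⟨w, hw⟩
        obtain ⟨s, hs, m, hm, rfl⟩ := Subgroup.mem_sup_of_normal_right.1 hw
        obtain ⟨t, ht, r, hr, rfl⟩ := Subgroup.mem_sup_of_normal_right.1 hm
        exact ⟨(⟨s, hs⟩, ⟨t, ht⟩, ⟨r, hr⟩), rfl⟩
      refine (Nat.card_le_card_of_surjective f hf).trans ?_
      rw [Nat.card_prod, Nat.card_prod, hDc, pow_succ, pow_two, mul_assoc]
      exact Nat.mul_le_mul (hord a) (Nat.mul_le_mul_right _ (hord b))
    have haE : a ∈ E := Subgroup.mem_sup_left (Subgroup.mem_zpowers a)
    have hbE : b ∈ E := Subgroup.mem_sup_right (Subgroup.mem_sup_left (Subgroup.mem_zpowers b))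
    obtain ⟨⟨e⟩, hEc⟩ := hprod E haE hbE
      (Subgroup.mem_sup_right (Subgroup.mem_sup_right (Subgroup.mem_zpowers d))) hEle
    let ε : {i : Fin (Nat.card E) // True} ≃ ↥E :=
      (Equiv.subtypeUnivEquiv fun _ => trivial).trans (Finite.equivFin ↥E).symm
    letI : Group {i : Fin (Nat.card E) // True} := ε.group
    let εm : {i : Fin (Nat.card E) // True} ≃* ↥E := ε.mulEquiv
    have hE3 : Nat.card {i : Fin (Nat.card E) // True} = p ^ 3 := by
      rw [Nat.card_congr ε, hEc]
    have hEexp : ∀ x : {i : Fin (Nat.card E) // True}, x ^ p = 1 := fun x => εm.injective (by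
      rw [map_pow, map_one]; exact Subtype.ext (hexp _))
    have hEna : ¬ IsMulCommutative {i : Fin (Nat.card E) // True} := fun h => hab (by
      have h1 := congrArg (fun t => (εm t : H)) (h.is_comm.comm (εm.symm ⟨a, haE⟩) (εm.symm ⟨b, hbE⟩))
      simpa using h1)
    exact ⟨{i : Fin (Nat.card E) // True}, inferInstance, inferInstance, isExtraspecial_cube hE3 hEna hEexp, hE3, hEexp,
      ⟨e.trans (MulEquiv.prodCongr εm.symm (MulEquiv.refl _))⟩⟩


/-- Let F be a saturated fusion system over a finite p-group S and H an essential subgroup of order p⁴. Then H is isomorphic to one of: C_p⁴ or C_{p²} × C_p × C_p (any p); C_{p²} × C_{p²} with p ∈ {2, 3}; p^{1+2}_+ × C_p with p odd (the direct product of an extraspecial group of order p³ and exponent p with a group of order p); Q₈ × C₂ (p = 2); or the non-abelian group of order p⁴ of exponent p² whose centre is cyclic of order p² (the central product of an extraspecial group of order p³ with a cyclic group of order p²; for p = 2 this is D₈ ∘ C₄). -/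
theorem result {Ω : Type u} [Group Ω] {S : Subgroup Ω} [Finite S] (p : ℕ) [Fact p.Prime] (hS : IsPGroup p S)
    (F : Cfsg.FusionSystem S) (hF : F.IsSaturated p) (H : Subgroup Ω) (hH : F.IsEssential p H) (hcard : Nat.card H = p ^ 4) :
    Cfsg.IsElementaryAbelian p H ∨
      Nonempty (↥H ≃* Multiplicative (ZMod (p ^ 2) × ZMod p × ZMod p)) ∨
      ((p = 2 ∨ p = 3) ∧ Nonempty (↥H ≃* Multiplicative (ZMod (p ^ 2) × ZMod (p ^ 2)))) ∨
      (Odd p ∧ ∃ (E : Type) (_ : Group E) (_ : Finite E), Cfsg.IsExtraspecial p E ∧ Nat.card E = p ^ 3 ∧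
        (∀ x : E, x ^ p = 1) ∧ Nonempty (↥H ≃* E × Multiplicative (ZMod p))) ∨
      (p = 2 ∧ Nonempty (↥H ≃* QuaternionGroup 2 × Multiplicative (ZMod 2))) ∨
      (¬ IsMulCommutative ↥H ∧ (∀ x ∈ H, x ^ (p ^ 2) = 1) ∧ IsCyclic ↥(Subgroup.center ↥H) ∧
        Nat.card (Subgroup.center ↥H) = p ^ 2) := by
  by_cases hna : IsMulCommutative ↥H
  · rcases abelian_case hS hF hH hcard (fun a b => hna.is_comm.comm a b) with h | h | h
    · exact Or.inl h
    · exact Or.inr (Or.inl h)
    · exact Or.inr (Or.inr (Or.inl h))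
  · exact Or.inr (Or.inr (Or.inr (nonabelian_case hS hF hH hcard hna)))

end Cfsg.Agent.S5188
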