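import Cfsg.Statements.S1016
import Cfsg.Agent.Lib.Small.BlockOrders
import Mathlib.NumberTheory.Divisors
-- import your own Cfsg.Agent.* helpers here

set_option autoImplicit false
open Cfsg

namespace Cfsg.Agent.S1016

open Cfsg.Lib.Small

theorem decide_two : ∀ d ∈ Nat.divisors 288, ∀ f ∈ Nat.divisors 288,
    ((d % 5 = 1 ∧ f = d + 1) ∨ ((d + 1) % 5 = 0 ∧ f + 1 = d)) →
    1 + d ^ 2 + 2 * f ^ 2 ≤ 1440 → d < 10 ∨ f < 10 := by decide +kernel

theorem decide_even : ∀ d ∈ Nat.divisors 288, 10 ≤ d → (d % 5 = 1 ∨ d % 5 = 4) → 2 ∣ d := by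
  decide +kernel

/-- No finite simple group has order 1440 = 2^5 * 3^2 * 5. -/
theorem result {G : Type*} [Group G] [Finite G] [IsSimpleGroup G] : Nat.card G ≠ 1440 := by
  classical
  intro h
  haveI := Fintype.ofFinite G
  haveI : Fact (Nat.Prime 5) := ⟨by norm_num⟩
  have hm : Nat.card G = 5 * 288 := by rw [h]
  have hnc : ¬ IsCyclic G := not_isCyclic_of_card (by rw [h]; norm_num)
  have hsq := block_setup_c (G := G) (p := 5) hm (by norm_num)
  obtain ⟨P, e, c, n, ⟨S⟩, hC, hnec, hn, hn1, he2, hed, -⟩ :=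
    block_setup (G := G) (p := 5) (by norm_num) hm (by norm_num) (by norm_num)
  have hc1 : ∀ χ ∈ S.Z, χ ≠ one' G → charDegree (χ : G → ℂ) < 10 → c = 1 := fun χ hχ hne hlt => by
    have := S.small hnc hsq hχ hne hlt
    rw [hC] at this
    omega
  have he : e = 2 ∨ e = 4 := by
    have := Nat.le_of_dvd (by norm_num) hed
    interval_cases e <;> simp_all
  rcases he with rfl | rfl
  · obtain ⟨χ, hχX, hne, -, -, hθ1, -, -, hdm, hfm, hor, hsum⟩ :=
      S.two_cases hnc hm rfl (by norm_num)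
    have hcc : c = 1 := by
      rcases decide_two _ (Nat.mem_divisors.2 ⟨hdm, by norm_num⟩) _
        (Nat.mem_divisors.2 ⟨hfm, by norm_num⟩) (hor.imp (fun h => ⟨h.2.2.1, h.2.2.2⟩)
          (fun h => ⟨h.2.2.1, h.2.2.2⟩)) (by rw [h] at hsum; exact hsum) with hs | hs
      · exact hc1 χ (S.mem_Z.2 (Or.inr hχX)) hne hs
      · exact hc1 _ (S.mem_Z.2 (Or.inl rfl)) hθ1 hs
    subst hcc
    omega
  · by_cases hsmall : ∃ χ ∈ S.Z, χ ≠ one' G ∧ charDegree (χ : G → ℂ) < 10
    · obtain ⟨χ, hχ, hne, hlt⟩ := hsmall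
      have hcc := hc1 χ hχ hne hlt
      subst hcc
      omega
    · push Not at hsmall
      refine S.not_all_even fun χ hχ hne => ?_
      refine decide_even _ (Nat.mem_divisors.2 ⟨S.deg_dvd hm hχ, by norm_num⟩) (hsmall χ hχ hne) ?_
      have hc5 := S.cong_all rfl hχ
      unfold Int.ModEq at hc5
      rcases S.sign χ hχ with hs | hs <;> rw [hs] at hc5 <;> push_cast at hc5 <;> omega

end Cfsg.Agent.S1016
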