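import Cfsg.Statements.S0759


set_option autoImplicit false
open Cfsg

namespace Cfsg.Agent.S0759

open Module
open scoped Matrix


/-- Type of the orthonormal form: over a finite field of odd order q and for m ≥ 1, the quadratic form Σ_(i<2m) x_i² on F^(2m) admits an m-dimensional subspace on which it vanishes identically if and only if it is not the case that q ≡ 3 (mod 4) and m is odd. -/
theorem result {F : Type*} [Field F] [Fintype F] (h2 : (2 : F) ≠ 0) (m : ℕ) (hm : 1 ≤ m) : (∃ W : Submodule F (Fin (2 * m) → F), Module.finrank F W = m ∧ ∀ w ∈ W, ∑ i, w i ^ 2 = 0) ↔ ¬ (Fintype.card F % 4 = 3 ∧ Odd m) := by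
  classical
  constructor
  · rintro ⟨W, hWd, hW⟩ ⟨hq, hmodd⟩
    have horth : ∀ u ∈ W, ∀ v ∈ W, ∑ i, u i * v i = 0 := fun u hu v hv => by
      have h := hW _ (W.add_mem hu hv)
      simp only [Pi.add_apply, add_sq, Finset.sum_add_distrib, hW u hu, hW v hv, mul_assoc,
        ← Finset.mul_sum, zero_add, add_zero, mul_eq_zero] at h
      exact h.resolve_left h2
    obtain ⟨W', hW'⟩ := Submodule.exists_isCompl W
    have hd' : finrank F W' = m := by
      have := Submodule.finrank_add_eq_of_isCompl hW'
      rw [hWd, finrank_fintype_fun_eq_card, Fintype.card_fin] at this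
      omega
    let b : Basis (Fin m ⊕ Fin m) F (Fin (2 * m) → F) :=
      ((finBasisOfFinrankEq F W hWd).prod (finBasisOfFinrankEq F W' hd')).map
        (Submodule.prodEquivOfIsCompl W W' hW')
    let e : Fin m ⊕ Fin m ≃ Fin (2 * m) := finSumFinEquiv.trans (finCongr (by omega))
    obtain ⟨P, hP⟩ : ∃ P, P = Matrix.of (fun i j => b j (e i)) := ⟨_, rfl⟩
    have hbW : ∀ i, b (Sum.inl i) ∈ W := fun i => by simp [b]
    have hgram : ∀ i j, (Pᵀ * P) i j = ∑ k, b i k * b j k := fun i j => by
      rw [hP, Matrix.mul_apply]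
      exact Fintype.sum_equiv e _ _ fun k => rfl
    have hPdet : P.det ≠ 0 := by
      have hli : LinearIndependent F (fun j => P.col j) := by
        have := b.linearIndependent.map' (LinearEquiv.funCongrLeft F F e).toLinearMap
          (LinearEquiv.ker _)
        rw [hP]
        exact this
      exact ((Matrix.isUnit_iff_isUnit_det _).mp
        (Matrix.linearIndependent_cols_iff_isUnit.mp hli)).ne_zero
    obtain ⟨J, hJ⟩ : ∃ J : Matrix (Fin m ⊕ Fin m) (Fin m ⊕ Fin m) F,
        J = Matrix.fromBlocks 0 1 1 0 := ⟨_, rfl⟩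
    have hJdet : J.det = (-1) ^ m := by
      have h1 : J * Matrix.fromBlocks 1 0 1 1 = Matrix.fromBlocks 1 1 1 0 := by
        rw [hJ, Matrix.fromBlocks_multiply]; simp
      have h2 := congrArg Matrix.det h1
      rw [Matrix.det_mul, Matrix.det_fromBlocks_one₁₁, Matrix.det_fromBlocks_one₁₁] at h2
      simpa [Matrix.det_neg] using h2
    have hblock : Pᵀ * P * J = Matrix.fromBlocks (Pᵀ * P).toBlocks₁₂ 0 (Pᵀ * P).toBlocks₂₂
        (Pᵀ * P).toBlocks₁₂ᵀ := by
      have h11 : (Pᵀ * P).toBlocks₁₁ = 0 := by
        ext i j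
        show (Pᵀ * P) (Sum.inl i) (Sum.inl j) = 0
        rw [hgram]
        exact horth _ (hbW i) _ (hbW j)
      have h21 : (Pᵀ * P).toBlocks₂₁ = (Pᵀ * P).toBlocks₁₂ᵀ := by
        ext i j
        show (Pᵀ * P) (Sum.inr i) (Sum.inl j) = (Pᵀ * P) (Sum.inl j) (Sum.inr i)
        rw [hgram, hgram]
        exact Finset.sum_congr rfl fun k _ => mul_comm _ _
      conv_lhs => rw [← Matrix.fromBlocks_toBlocks (Pᵀ * P), h11, h21]
      rw [hJ, Matrix.fromBlocks_multiply]
      simp
    have h := congrArg Matrix.det hblock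
    rw [Matrix.det_fromBlocks_zero₁₂, Matrix.det_transpose, Matrix.det_mul, Matrix.det_mul,
      Matrix.det_transpose, hJdet, hmodd.neg_one_pow] at h
    have hneg : IsSquare (-1 : F) := ⟨(Pᵀ * P).toBlocks₁₂.det / P.det, by
      field_simp
      linear_combination h⟩
    exact FiniteField.isSquare_neg_one_iff.mp hneg hq
  · intro h
    obtain ⟨L, hL⟩ : ∃ L : (Fin m → F) →ₗ[F] (Fin m → F), ∀ v, ∑ i, L v i ^ 2 = -∑ i, v i ^ 2 := by
      by_cases hq : Fintype.card F % 4 = 3
      · have hmev : Even m := Nat.not_odd_iff_even.mp fun ho => h ⟨hq, ho⟩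
        obtain ⟨k, hk⟩ := hmev
        obtain ⟨α, β, hαβ⟩ := FiniteField.exists_root_sum_quadratic
          (f := (Polynomial.X : Polynomial F) ^ 2) (g := Polynomial.X ^ 2 + Polynomial.C 1)
          (Polynomial.degree_X_pow 2) (Polynomial.degree_X_pow_add_C (by norm_num) 1)
          (by rw [← Nat.odd_iff]; exact Nat.odd_iff.mpr (by omega))
        simp at hαβ
        let e : Fin k ⊕ Fin k ≃ Fin m := finSumFinEquiv.trans (finCongr (by omega))
        refine ⟨{ toFun := fun v j => Sum.elim (fun i => α * v (e (.inl i)) - β * v (e (.inr i)))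
                    (fun i => β * v (e (.inl i)) + α * v (e (.inr i))) (e.symm j)
                  map_add' := fun u v => by
                    funext j; rcases hj : e.symm j with i | i <;> simp [hj] <;> ring
                  map_smul' := fun c v => by
                    funext j; rcases hj : e.symm j with i | i <;> simp [hj] <;> ring },
          fun v => ?_⟩
        rw [← e.sum_comp, ← e.sum_comp (fun i => v i ^ 2)]
        simp only [Fintype.sum_sum_type, LinearMap.coe_mk, AddHom.coe_mk, Equiv.symm_apply_apply,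
          Sum.elim_inl, Sum.elim_inr]
        rw [← Finset.sum_add_distrib, ← Finset.sum_add_distrib, ← Finset.sum_neg_distrib]
        refine Finset.sum_congr rfl fun i _ => ?_
        linear_combination (v (e (.inl i)) ^ 2 + v (e (.inr i)) ^ 2) * hαβ
      · obtain ⟨c, hc⟩ := FiniteField.isSquare_neg_one_iff.mpr hq
        refine ⟨c • LinearMap.id, fun v => ?_⟩
        rw [← Finset.sum_neg_distrib]
        refine Finset.sum_congr rfl fun i _ => ?_
        simp only [LinearMap.smul_apply, LinearMap.id_apply, Pi.smul_apply, smul_eq_mul]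
        linear_combination (-(v i ^ 2)) * hc
    let e : Fin m ⊕ Fin m ≃ Fin (2 * m) := finSumFinEquiv.trans (finCongr (by omega))
    let Φ : (Fin m → F) →ₗ[F] (Fin (2 * m) → F) :=
      { toFun := fun v j => Sum.elim v (L v) (e.symm j)
        map_add' := fun u v => by funext j; rcases hj : e.symm j with i | i <;> simp [hj]
        map_smul' := fun c v => by funext j; rcases hj : e.symm j with i | i <;> simp [hj] }
    refine ⟨LinearMap.range Φ, ?_, ?_⟩
    · rw [LinearMap.finrank_range_of_inj fun u v huv => funext fun i => ?_,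
        finrank_fintype_fun_eq_card, Fintype.card_fin]
      simpa [Φ] using congrFun huv (e (.inl i))
    · rintro _ ⟨v, rfl⟩
      rw [← e.sum_comp]
      simp only [Fintype.sum_sum_type, Φ, LinearMap.coe_mk, AddHom.coe_mk, Equiv.symm_apply_apply,
        Sum.elim_inl, Sum.elim_inr, hL]
      exact add_neg_cancel _

end Cfsg.Agent.S0759
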