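import Cfsg.Statements.S0752


set_option autoImplicit false
open Cfsg

namespace Cfsg.Agent.S0752

open Module in
theorem aux {F V : Type*} [Field F] [AddCommGroup V] [Module F V] [FiniteDimensional F V]
    (B : LinearMap.BilinForm F V) (hA : B.IsAlt) :
    ∀ (d : ℕ) (W : Submodule F V), finrank F ↥W ≤ d → (∀ w ∈ W, (∀ w' ∈ W, B w w' = 0) → w = 0) →
      ∃ (m : ℕ) (e f : Fin m → V), (∀ i, e i ∈ W ∧ f i ∈ W) ∧
        (∀ i j, B (e i) (f j) = if i = j then 1 else 0) ∧ (∀ i j, B (e i) (e j) = 0) ∧
        (∀ i j, B (f i) (f j) = 0) ∧ W ≤ Submodule.span F (Set.range e ∪ Set.range f) := by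
  classical
  intro d
  induction d with
  | zero =>
    intro W hd _
    have hW : W = ⊥ := Submodule.finrank_eq_zero.1 (Nat.le_zero.1 hd)
    exact ⟨0, Fin.elim0, Fin.elim0, fun i => i.elim0, fun i => i.elim0, fun i => i.elim0,
      fun i => i.elim0, by simp [hW]⟩
  | succ d ih =>
    intro W hd hnd
    by_cases h0 : finrank F ↥W ≤ d
    · exact ih W h0 hnd
    have hWne : W ≠ ⊥ := fun h => by rw [h, finrank_bot] at h0; omega
    obtain ⟨u, hu, hu0⟩ := Submodule.exists_mem_ne_zero_of_ne_bot hWne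
    obtain ⟨v₀, hv₀, huv₀⟩ : ∃ v ∈ W, B u v ≠ 0 := by
      by_contra hc
      push_neg at hc
      exact hu0 (hnd u hu hc)
    set v := (B u v₀)⁻¹ • v₀
    have hv : v ∈ W := W.smul_mem _ hv₀
    have huv : B u v = 1 := by simp [v, huv₀]
    have hvu : B v u = -1 := by rw [← LinearMap.IsAlt.neg hA, huv]
    set W' : Submodule F V := W ⊓ (LinearMap.ker (B u) ⊓ LinearMap.ker (B v))
    have hdec : ∀ w ∈ W, w - (B u w) • v - (-(B v w)) • u ∈ W' := fun w hw => by
      refine ⟨W.sub_mem (W.sub_mem hw (W.smul_mem _ hv)) (W.smul_mem _ hu), ?_, ?_⟩ <;>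
        simp [huv, hvu, hA.self_eq_zero]
    have hlt : finrank F ↥W' < finrank F ↥W := by
      refine Submodule.finrank_lt_finrank_of_lt (lt_of_le_of_ne inf_le_left fun h => ?_)
      have h2 : v ∈ W' := by rw [h]; exact hv
      have h3 : B u v = 0 := h2.2.1
      rw [huv] at h3
      exact one_ne_zero h3
    obtain ⟨m, e, f, hmem, hef, hee, hff, hspan⟩ := ih W' (by omega) (fun w hw h => hnd w hw.1 fun w' hw' => by
      have h2 := h _ (hdec w' hw')
      have h3 : B w u = 0 := hA.isRefl _ _ hw.2.1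
      have h4 : B w v = 0 := hA.isRefl _ _ hw.2.2
      simpa [h3, h4] using h2)
    have hu' : ∀ x ∈ W', B u x = 0 ∧ B x u = 0 ∧ B v x = 0 ∧ B x v = 0 := fun x hx =>
      ⟨hx.2.1, hA.isRefl _ _ hx.2.1, hx.2.2, hA.isRefl _ _ hx.2.2⟩
    refine ⟨m + 1, Fin.cons u e, Fin.cons v f, ?_, ?_, ?_, ?_, ?_⟩
    · intro i
      induction i using Fin.cases with
      | zero => simp [hu, hv]
      | succ i => exact ⟨by simpa using (hmem i).1.1, by simpa using (hmem i).2.1⟩
    · intro i j
      induction i using Fin.cases <;> induction j using Fin.cases <;>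
        simp [huv, hef, (hu' _ (hmem _).1).2.2.2, (hu' _ (hmem _).2).1, Fin.succ_ne_zero,
          (Fin.succ_ne_zero _).symm]
    · intro i j
      induction i using Fin.cases <;> induction j using Fin.cases <;>
        simp [hA.self_eq_zero, hee, (hu' _ (hmem _).1).1, (hu' _ (hmem _).1).2.1]
    · intro i j
      induction i using Fin.cases <;> induction j using Fin.cases <;>
        simp [hA.self_eq_zero, hff, (hu' _ (hmem _).2).2.2.1, (hu' _ (hmem _).2).2.2.2]
    · intro w hw
      have h1 : Submodule.span F (Set.range e ∪ Set.range f) ≤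
          Submodule.span F (Set.range (Fin.cons u e : Fin (m + 1) → V) ∪ Set.range (Fin.cons v f : Fin (m + 1) → V)) :=
        Submodule.span_mono (Set.union_subset_union (by rw [Fin.range_cons]; exact Set.subset_insert _ _)
          (by rw [Fin.range_cons]; exact Set.subset_insert _ _))
      have hw' := h1 (hspan (hdec w hw))
      have hum : u ∈ Submodule.span F (Set.range (Fin.cons u e : Fin (m + 1) → V) ∪ Set.range (Fin.cons v f : Fin (m + 1) → V)) :=
        Submodule.subset_span (Or.inl ⟨0, by simp⟩)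
      have hvm : v ∈ Submodule.span F (Set.range (Fin.cons u e : Fin (m + 1) → V) ∪ Set.range (Fin.cons v f : Fin (m + 1) → V)) :=
        Submodule.subset_span (Or.inr ⟨0, by simp⟩)
      have := add_mem hw' (add_mem (Submodule.smul_mem _ (B u w) hvm) (Submodule.smul_mem _ (-(B v w)) hum))
      convert this using 1
      abel

/-- Classification of alternating forms: for an alternating bilinear form B on a finite-dimensional space over any field there is a basis indexed by (Fin m ⊕ Fin m) ⊕ Fin k such that B (e_i, f_j) = δ_ij, the e's are pairwise orthogonal, the f's are pairwise orthogonal, and the last k basis vectors are orthogonal to everything (they span the radical). -/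
theorem result {F V : Type*} [Field F] [AddCommGroup V] [Module F V] [FiniteDimensional F V] (B : LinearMap.BilinForm F V) (hA : B.IsAlt) : ∃ (m k : ℕ) (b : Module.Basis ((Fin m ⊕ Fin m) ⊕ Fin k) F V), (∀ i j : Fin m, B (b (Sum.inl (Sum.inl i))) (b (Sum.inl (Sum.inr j))) = if i = j then 1 else 0) ∧ (∀ i j : Fin m, B (b (Sum.inl (Sum.inl i))) (b (Sum.inl (Sum.inl j))) = 0) ∧ (∀ i j : Fin m, B (b (Sum.inl (Sum.inr i))) (b (Sum.inl (Sum.inr j))) = 0) ∧ (∀ (j : Fin k) (v : V), B (b (Sum.inr j)) v = 0) := by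
  classical
  obtain ⟨W, hW⟩ := exists_isCompl (LinearMap.ker B)
  have hker : ∀ x, x ∈ LinearMap.ker B → ∀ v, B x v = 0 ∧ B v x = 0 := fun x hx v => by
    have h : B x v = 0 := by rw [LinearMap.mem_ker.1 hx]; rfl
    exact ⟨h, hA.isRefl _ _ h⟩
  obtain ⟨m, e, f, hmem, hef, hee, hff, hspan⟩ := aux B hA _ W le_rfl (fun w hw h => by
    have hwk : w ∈ LinearMap.ker B := by
      rw [LinearMap.mem_ker]
      ext v
      obtain ⟨k, hk, w', hw', rfl⟩ := Submodule.mem_sup.1
        (show v ∈ LinearMap.ker B ⊔ W by rw [hW.sup_eq_top]; exact Submodule.mem_top)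
      simp [(hker k hk w).2, h w' hw']
    have : w ∈ LinearMap.ker B ⊓ W := ⟨hwk, hw⟩
    rwa [hW.inf_eq_bot, Submodule.mem_bot] at this)
  let bk := Module.finBasis F ↥(LinearMap.ker B)
  let g : (Fin m ⊕ Fin m) ⊕ Fin (Module.finrank F ↥(LinearMap.ker B)) → V :=
    Sum.elim (Sum.elim e f) (fun i => (bk i : V))
  have hfe : ∀ i j, B (f i) (e j) = if i = j then -1 else 0 := fun i j => by
    rw [← LinearMap.IsAlt.neg hA, hef]
    split_ifs with h1 h2 h2 <;> simp_all
  have hli : LinearIndependent F g := by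
    rw [Fintype.linearIndependent_iff]
    intro c hc
    have he : ∀ j, c (Sum.inl (Sum.inr j)) = 0 := fun j => by
      have h2 := congrArg (B (e j)) hc
      simpa [g, Fintype.sum_sum_type, hef, hee, (hker _ (bk _).2 _).2] using h2
    have hf' : ∀ j, c (Sum.inl (Sum.inl j)) = 0 := fun j => by
      have h2 := congrArg (B (f j)) hc
      simpa [g, Fintype.sum_sum_type, hff, hfe, (hker _ (bk _).2 _).2] using h2
    have hk' : ∀ i, c (Sum.inr i) = 0 := by
      refine Fintype.linearIndependent_iff.1 bk.linearIndependent (fun i => c (Sum.inr i)) (Subtype.ext ?_)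
      simpa [g, Fintype.sum_sum_type, he, hf'] using hc
    rintro ((i | i) | i) <;> simp [he, hf', hk']
  have hsp : ⊤ ≤ Submodule.span F (Set.range g) := by
    rw [← hW.sup_eq_top]
    refine sup_le ?_ (hspan.trans (Submodule.span_mono ?_))
    · intro x hx
      have h2 := congrArg ((LinearMap.ker B).subtype) (bk.sum_repr ⟨x, hx⟩)
      rw [map_sum] at h2
      simp only [map_smul, Submodule.coe_subtype] at h2
      rw [← h2]
      exact Submodule.sum_mem _ fun i _ => Submodule.smul_mem _ _ (Submodule.subset_span ⟨Sum.inr i, rfl⟩)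
    · rintro _ (⟨i, rfl⟩ | ⟨i, rfl⟩)
      · exact ⟨Sum.inl (Sum.inl i), rfl⟩
      · exact ⟨Sum.inl (Sum.inr i), rfl⟩
  refine ⟨m, _, Module.Basis.mk hli hsp, ?_, ?_, ?_, ?_⟩
  · intro i j; simpa [g] using hef i j
  · intro i j; simpa [g] using hee i j
  · intro i j; simpa [g] using hff i j
  · intro j v; simpa [g] using (hker _ (bk j).2 v).1

end Cfsg.Agent.S0752
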