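import Cfsg.Statements.S0304
import Cfsg.Agent.Lib.Linear.SymplecticGroup

set_option autoImplicit false
open Cfsg

namespace Cfsg.Agent.S0304

open scoped Matrix

section

variable {F : Type*} [Field F] [Fintype F] [CharP F 2] {m : ℕ}

omit [Fintype F] [CharP F 2] in
theorem qodd_apply (t : Unit → F) (w : Fin m ⊕ Fin m → F) :
    Cfsg.quadFormOdd m F (Sum.elim t w) = t () ^ 2 + Cfsg.quadFormPlus m F w := by
  simp [Cfsg.quadFormOdd, Cfsg.quadFormPlus]

omit [Fintype F] in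
theorem qplus_add (u w : Fin m ⊕ Fin m → F) : Cfsg.quadFormPlus m F (u + w) =
    Cfsg.quadFormPlus m F u + Cfsg.quadFormPlus m F w + Cfsg.sympForm m F u w := by
  have hs : ∀ a b : Fin m ⊕ Fin m → F, Cfsg.sympForm m F a b =
      ∑ i, (a (.inr i) * b (.inl i) + a (.inl i) * b (.inr i)) := fun a b => by
    rw [Cfsg.sympForm, Cfsg.Lib.Linear.Symp.J_mulVec]
    simp [dotProduct, Fintype.sum_sum_type, Finset.sum_add_distrib, CharTwo.neg_eq]
    ring
  rw [hs, Cfsg.quadFormPlus, Cfsg.quadFormPlus, Cfsg.quadFormPlus, ← Finset.sum_add_distrib,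
    ← Finset.sum_add_distrib]
  exact Finset.sum_congr rfl fun i _ => by simp only [Pi.add_apply]; ring

omit [Fintype F] [CharP F 2] in
theorem sp_form {A : Matrix (Fin m ⊕ Fin m) (Fin m ⊕ Fin m) F}
    (hA : A ∈ Matrix.symplecticGroup (Fin m) F) (u w : Fin m ⊕ Fin m → F) :
    Cfsg.sympForm m F (A *ᵥ u) (A *ᵥ w) = Cfsg.sympForm m F u w := by
  rw [← Cfsg.Lib.Linear.Symp.spB_apply, ← Cfsg.Lib.Linear.Symp.spB_apply]
  exact (Cfsg.Lib.Linear.Symp.mem_symplecticGroup_iff A).mp hA u w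

/-- A lift exists. -/
theorem exists_row (A : Matrix (Fin m ⊕ Fin m) (Fin m ⊕ Fin m) F)
    (hA : A ∈ Matrix.symplecticGroup (Fin m) F) :
    ∃ R : Matrix Unit (Fin m ⊕ Fin m) F, ∀ w, (R *ᵥ w) () ^ 2 + Cfsg.quadFormPlus m F (A *ᵥ w) =
      Cfsg.quadFormPlus m F w := by
  have hex : ∀ x : F, ∃ r : F, r ^ 2 = x := fun x => by
    obtain ⟨r, hr⟩ := FiniteField.isSquare_of_char_two (ringChar.eq F 2) x
    exact ⟨r, by rw [hr, sq]⟩
  choose r hr using fun j => hex (Cfsg.quadFormPlus m F (Pi.single j 1) +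
    Cfsg.quadFormPlus m F (A *ᵥ Pi.single j 1))
  refine ⟨Matrix.of fun _ j => r j, fun w => ?_⟩
  obtain ⟨φ, hφ⟩ : ∃ φ : (Fin m ⊕ Fin m → F) → F, ∀ w, φ w =
      ((Matrix.of fun (_ : Unit) j => r j) *ᵥ w) () ^ 2 + Cfsg.quadFormPlus m F (A *ᵥ w) +
        Cfsg.quadFormPlus m F w := ⟨_, fun w => rfl⟩
  have hadd : ∀ u v, φ (u + v) = φ u + φ v := fun u v => by
    rw [hφ, hφ, hφ, Matrix.mulVec_add, Matrix.mulVec_add, qplus_add, qplus_add, Pi.add_apply,
      add_pow_char, sp_form hA]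
    linear_combination Cfsg.sympForm m F u v * (CharTwo.two_eq_zero : (2 : F) = 0)
  have hsmul : ∀ (c : F) u, φ (c • u) = c ^ 2 * φ u := fun c u => by
    have hQ : ∀ v : Fin m ⊕ Fin m → F,
        Cfsg.quadFormPlus m F (c • v) = c ^ 2 * Cfsg.quadFormPlus m F v := fun v => by
      simp only [Cfsg.quadFormPlus, Pi.smul_apply, smul_eq_mul, Finset.mul_sum]
      exact Finset.sum_congr rfl fun i _ => by ring
    rw [hφ, hφ, Matrix.mulVec_smul, Matrix.mulVec_smul, hQ, hQ, Pi.smul_apply, smul_eq_mul]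
    ring
  have hbase : ∀ j, φ (Pi.single j 1) = 0 := fun j => by
    rw [hφ, Matrix.mulVec_single_one]
    show r j ^ 2 + _ + _ = 0
    rw [hr]
    linear_combination (Cfsg.quadFormPlus m F (Pi.single j 1) +
      Cfsg.quadFormPlus m F (A *ᵥ Pi.single j 1)) * (CharTwo.two_eq_zero : (2 : F) = 0)
  have hzero : φ w = 0 := by
    let ψ : (Fin m ⊕ Fin m → F) →+ F := AddMonoidHom.mk' φ hadd
    have hw : w = ∑ j, w j • (Pi.single j 1 : Fin m ⊕ Fin m → F) := (pi_eq_sum_univ' w)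
    show ψ w = 0
    rw [hw, map_sum]
    refine Finset.sum_eq_zero fun j _ => ?_
    show φ _ = 0
    rw [hsmul, hbase, mul_zero]
  rw [hφ] at hzero
  exact CharTwo.add_eq_zero.mp hzero

theorem odd_equiv_sp (m : ℕ) :
    Nonempty (Cfsg.isometryGroup F (Cfsg.quadFormOdd m F) ≃* Matrix.symplecticGroup (Fin m) F) := by
  classical
  have hQ : ∀ (g : Cfsg.isometryGroup F (Cfsg.quadFormOdd m F)) v,
      Cfsg.quadFormOdd m F ((g : GL (Unit ⊕ (Fin m ⊕ Fin m)) F).val *ᵥ v) =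
        Cfsg.quadFormOdd m F v := fun g v => g.2 v v
  have hsplit : ∀ (G : Matrix (Unit ⊕ (Fin m ⊕ Fin m)) (Unit ⊕ (Fin m ⊕ Fin m)) F) (t : Unit → F) w,
      G *ᵥ Sum.elim t w = Sum.elim (G.toBlocks₁₁ *ᵥ t + G.toBlocks₁₂ *ᵥ w)
        (G.toBlocks₂₁ *ᵥ t + G.toBlocks₂₂ *ᵥ w) := fun G t w => by
    conv_lhs => rw [← Matrix.fromBlocks_toBlocks G]
    rw [Matrix.fromBlocks_mulVec]
    simp
  have h20 : (2 : F) = 0 := CharTwo.two_eq_zero
  -- the radical is fixed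
  have hrad : ∀ g : Cfsg.isometryGroup F (Cfsg.quadFormOdd m F),
      (g : GL (Unit ⊕ (Fin m ⊕ Fin m)) F).val.toBlocks₂₁ = 0 ∧
      (g : GL (Unit ⊕ (Fin m ⊕ Fin m)) F).val.toBlocks₁₁ = 1 := fun g => by
    obtain ⟨c, hc⟩ : ∃ c, c = (g : GL (Unit ⊕ (Fin m ⊕ Fin m)) F).val.toBlocks₂₁ *ᵥ fun _ => (1 : F) :=
      ⟨_, rfl⟩
    obtain ⟨s, hs⟩ : ∃ s, s = (g : GL (Unit ⊕ (Fin m ⊕ Fin m)) F).val.toBlocks₁₁ *ᵥ fun _ => (1 : F) :=
      ⟨_, rfl⟩
    have himg : (g : GL (Unit ⊕ (Fin m ⊕ Fin m)) F).val *ᵥ Sum.elim (fun _ => 1) 0 = Sum.elim s c := by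
      rw [hsplit, Matrix.mulVec_zero, Matrix.mulVec_zero, add_zero, add_zero, hs, hc]
    have hperp : ∀ u, Cfsg.sympForm m F c u = 0 := fun u => by
      obtain ⟨x, hx⟩ : ∃ x, x = ((g⁻¹ : Cfsg.isometryGroup F (Cfsg.quadFormOdd m F)) :
          GL (Unit ⊕ (Fin m ⊕ Fin m)) F).val *ᵥ Sum.elim (0 : Unit → F) u := ⟨_, rfl⟩
      have hgx : (g : GL (Unit ⊕ (Fin m ⊕ Fin m)) F).val *ᵥ x = Sum.elim (0 : Unit → F) u := by
        rw [hx, Matrix.mulVec_mulVec, Subgroup.coe_inv, Units.mul_inv, Matrix.one_mulVec]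
      have hrw : ∀ (a b : Unit → F) (p q : Fin m ⊕ Fin m → F),
          Cfsg.quadFormOdd m F (Sum.elim a p + Sum.elim b q) =
            Cfsg.quadFormOdd m F (Sum.elim a p) + Cfsg.quadFormOdd m F (Sum.elim b q) +
              Cfsg.sympForm m F p q := fun a b p q => by
        rw [← Sum.elim_add_add, qodd_apply, qodd_apply, qodd_apply, qplus_add, Pi.add_apply, add_pow_char]
        ring
      have h := hQ g (Sum.elim (fun _ => 1) 0 + x)
      rw [Matrix.mulVec_add, himg, hgx, hrw, ← himg, hQ, ← hgx, hQ,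
        show x = Sum.elim (x ∘ Sum.inl) (x ∘ Sum.inr) from (Sum.elim_comp_inl_inr x).symm, hrw] at h
      have h0 : Cfsg.sympForm m F 0 (x ∘ Sum.inr) = 0 := by simp [Cfsg.sympForm]
      rw [h0] at h
      linear_combination h
    have hc0 : c = 0 := (Cfsg.Lib.Linear.Symp.spB_nondegenerate m F).1 c fun u => by
      rw [Cfsg.Lib.Linear.Symp.spB_apply]; exact hperp u
    have hq := hQ g (Sum.elim (fun _ => 1) 0)
    rw [himg, qodd_apply, qodd_apply, hc0] at hq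
    have hs1 : s () = 1 := by
      have h' : (s () - 1) ^ 2 = 0 := by linear_combination hq - (s () - 1) * h20
      exact sub_eq_zero.mp (pow_eq_zero_iff two_ne_zero |>.mp h')
    refine ⟨?_, ?_⟩
    · ext i j
      have := congrFun (hc ▸ hc0) i
      simpa [Matrix.mulVec, dotProduct] using this
    · ext i j
      rw [Matrix.one_apply_eq]
      simpa [Matrix.mulVec, dotProduct, hs] using hs1
  have hw : ∀ (g : Cfsg.isometryGroup F (Cfsg.quadFormOdd m F)) t w,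
      (g : GL (Unit ⊕ (Fin m ⊕ Fin m)) F).val *ᵥ Sum.elim t w =
        Sum.elim (t + (g : GL (Unit ⊕ (Fin m ⊕ Fin m)) F).val.toBlocks₁₂ *ᵥ w)
          ((g : GL (Unit ⊕ (Fin m ⊕ Fin m)) F).val.toBlocks₂₂ *ᵥ w) := fun g t w => by
    rw [hsplit, (hrad g).1, (hrad g).2, Matrix.one_mulVec, Matrix.zero_mulVec, zero_add]
  have hq2 : ∀ (g : Cfsg.isometryGroup F (Cfsg.quadFormOdd m F)) w,
      ((g : GL (Unit ⊕ (Fin m ⊕ Fin m)) F).val.toBlocks₁₂ *ᵥ w) () ^ 2 +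
        Cfsg.quadFormPlus m F ((g : GL (Unit ⊕ (Fin m ⊕ Fin m)) F).val.toBlocks₂₂ *ᵥ w) =
        Cfsg.quadFormPlus m F w := fun g w => by
    have h := hQ g (Sum.elim 0 w)
    rw [hw, zero_add, qodd_apply, qodd_apply] at h
    simpa using h
  have hsp : ∀ g : Cfsg.isometryGroup F (Cfsg.quadFormOdd m F),
      (g : GL (Unit ⊕ (Fin m ⊕ Fin m)) F).val.toBlocks₂₂ ∈ Matrix.symplecticGroup (Fin m) F := by
    intro g
    refine (Cfsg.Lib.Linear.Symp.mem_symplecticGroup_iff _).mpr fun u w => ?_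
    rw [Cfsg.Lib.Linear.Symp.spB_apply, Cfsg.Lib.Linear.Symp.spB_apply]
    have h := hq2 g (u + w)
    rw [Matrix.mulVec_add, Matrix.mulVec_add, qplus_add, qplus_add, Pi.add_apply, add_pow_char] at h
    linear_combination h - hq2 g u - hq2 g w
  let Φ : Cfsg.isometryGroup F (Cfsg.quadFormOdd m F) →* Matrix.symplecticGroup (Fin m) F :=
    MonoidHom.mk' (fun g => ⟨_, hsp g⟩) fun g h => Subtype.ext (by
      show ((g : GL (Unit ⊕ (Fin m ⊕ Fin m)) F).val * (h : GL (Unit ⊕ (Fin m ⊕ Fin m)) F).val).toBlocks₂₂ = _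
      conv_lhs => rw [← Matrix.fromBlocks_toBlocks (g : GL (Unit ⊕ (Fin m ⊕ Fin m)) F).val,
        ← Matrix.fromBlocks_toBlocks (h : GL (Unit ⊕ (Fin m ⊕ Fin m)) F).val]
      rw [Matrix.fromBlocks_multiply, Matrix.toBlocks_fromBlocks₂₂, (hrad g).1, Matrix.zero_mul, zero_add]
      rfl)
  have hbij : Function.Bijective Φ := by
    refine ⟨(injective_iff_map_eq_one Φ).mpr fun g hg => ?_, fun A => ?_⟩
    · have hM : (g : GL (Unit ⊕ (Fin m ⊕ Fin m)) F).val.toBlocks₂₂ = 1 := congrArg Subtype.val hg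
      have hR : (g : GL (Unit ⊕ (Fin m ⊕ Fin m)) F).val.toBlocks₁₂ = 0 := by
        ext i j
        have h := hq2 g (Pi.single j 1)
        rw [hM, Matrix.one_mulVec] at h
        simpa [Matrix.mulVec_single_one] using h
      refine Subtype.ext (Units.ext ?_)
      rw [← Matrix.fromBlocks_toBlocks (g : GL (Unit ⊕ (Fin m ⊕ Fin m)) F).val, (hrad g).1,
        (hrad g).2, hM, hR, Matrix.fromBlocks_one]
      rfl
    · obtain ⟨R, hR⟩ := exists_row A.1 A.2
      have hdet : (Matrix.fromBlocks (1 : Matrix Unit Unit F) R 0 A.1).det ≠ 0 := by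
        rw [Matrix.det_fromBlocks_zero₂₁, Matrix.det_one, one_mul, SymplecticGroup.det_eq_one A.2]
        exact one_ne_zero
      refine ⟨⟨Matrix.GeneralLinearGroup.mkOfDetNeZero _ hdet, fun v _ => ?_⟩, Subtype.ext ?_⟩
      · show Cfsg.quadFormOdd m F (Matrix.fromBlocks (1 : Matrix Unit Unit F) R 0 A.1 *ᵥ v) =
          Cfsg.quadFormOdd m F v
        rw [show v = Sum.elim (v ∘ Sum.inl) (v ∘ Sum.inr) from (Sum.elim_comp_inl_inr v).symm,
          Matrix.fromBlocks_mulVec]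
        simp only [Sum.elim_comp_inl, Sum.elim_comp_inr, Matrix.zero_mulVec, zero_add, Matrix.one_mulVec]
        rw [qodd_apply, qodd_apply, Pi.add_apply, add_pow_char]
        linear_combination hR (v ∘ Sum.inr)
      · exact Matrix.toBlocks_fromBlocks₂₂ _ _ _ _
  exact ⟨MulEquiv.ofBijective Φ hbij⟩

end

/-- In characteristic 2, O_{2m+1}(q) is isomorphic to Sp_{2m}(q). -/
theorem result {F : Type*} [Field F] [Fintype F] [CharP F 2] (m : ℕ) : Nonempty (Cfsg.isometryGroup F (Cfsg.quadFormOdd m F) ≃* Matrix.symplecticGroup (Fin m) F) := by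
  classical
  exact odd_equiv_sp m

end Cfsg.Agent.S0304
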