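import Cfsg.Statements.S2587
import Cfsg.Agent.Lib.Linear.HermitianNorm
-- import your own Cfsg.Agent.* helpers here

set_option autoImplicit false
open Cfsg
open scoped Matrix

namespace Cfsg.Agent.S2587

/-- Conjugacy in the finite general unitary group is controlled by the general linear group: two elements of GU_n(q) (the invertible matrices over the field with q² elements preserving the Hermitian form Σ u_i v_i^q) are conjugate in GU_n(q) if and only if they are conjugate in GL_n(q²). -/
theorem result {K : Type*} [Field K] [Fintype K] {q n : ℕ} (hK : Fintype.card K = q ^ 2) (A B : ↥(Cfsg.GU n K q)) : IsConj A B ↔ IsConj (A : GL (Fin n) K) (B : GL (Fin n) K) := by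
  classical
  constructor
  · intro h
    exact (Cfsg.GU n K q).subtype.map_isConj h
  intro hAB
  obtain ⟨T, hT⟩ := isConj_iff.mp hAB
  obtain ⟨p, hpK⟩ := CharP.exists K
  obtain ⟨N, hp, hN⟩ := FiniteField.card K p
  haveI := Fact.mk hp
  obtain ⟨k, -, hk⟩ := (Nat.dvd_prime_pow hp).mp (show q ∣ p ^ (N : ℕ) from hN ▸ hK ▸ dvd_pow_self q two_ne_zero)
  let σ : K →+* K := iterateFrobenius K p k
  have hσ : ∀ x, σ x = x ^ q := fun x => by rw [iterateFrobenius_def, hk]
  have hσσ : ∀ x, σ (σ x) = x := fun x => by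
    rw [hσ, hσ, ← pow_mul, ← pow_two, ← hK, FiniteField.pow_card]
  let dag : Matrix (Fin n) (Fin n) K → Matrix (Fin n) (Fin n) K := fun M => (M.map σ)ᵀ
  have dmul : ∀ M M', dag (M * M') = dag M' * dag M := fun M M' => by
    simp only [dag, Matrix.map_mul, Matrix.transpose_mul]
  have dadd : ∀ M M', dag (M + M') = dag M + dag M' := fun M M' => by
    simp only [dag, Matrix.map_add σ (map_add σ), Matrix.transpose_add]
  have dd : ∀ M, dag (dag M) = M := fun M => by
    ext i j; simp [dag, hσσ]
  have done_ : dag 1 = 1 := by simp [dag]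
  have dsmul : ∀ (c : K) M, dag (c • M) = σ c • dag M := fun c M => by
    ext i j; simp [dag]
  have hform : ∀ u v : Fin n → K, Cfsg.hermForm n K q u v = u ⬝ᵥ (fun i => σ (v i)) := fun u v => by
    simp [Cfsg.hermForm, dotProduct, hσ]
  have hmem : ∀ g : GL (Fin n) K, g ∈ Cfsg.GU n K q ↔ dag (g : Matrix _ _ K) * (g : Matrix _ _ K) = 1 := by
    intro g
    have hmv : ∀ (M : Matrix (Fin n) (Fin n) K) (u v : Fin n → K),
        Cfsg.hermForm n K q (M *ᵥ u) (M *ᵥ v) = u ⬝ᵥ ((Mᵀ * M.map σ) *ᵥ (fun i => σ (v i))) := by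
      intro M u v
      rw [hform, ← Matrix.mulVec_mulVec, Matrix.dotProduct_mulVec u Mᵀ, Matrix.vecMul_transpose]
      congr 1
      funext i
      exact RingHom.map_mulVec σ M v i
    have hd : dag (g : Matrix _ _ K) * (g : Matrix _ _ K) =
        (((g : Matrix (Fin n) (Fin n) K))ᵀ * (g : Matrix (Fin n) (Fin n) K).map σ)ᵀ := by
      rw [Matrix.transpose_mul, Matrix.transpose_transpose]
    rw [hd, ← Matrix.transpose_one, Matrix.transpose_inj]
    constructor
    · intro h
      refine Matrix.ext fun i j => ?_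
      have h' := h (Pi.single i 1) (Pi.single j 1)
      rw [show (Units.coeHom _) g = (g : Matrix (Fin n) (Fin n) K) from rfl, hmv, hform] at h'
      have e : (fun a => σ ((Pi.single j (1 : K) : Fin n → K) a)) = Pi.single j 1 := by
        funext a
        by_cases ha : a = j <;> simp [ha]
      rw [e, single_one_dotProduct, Matrix.mulVec_single_one, single_one_dotProduct] at h'
      rw [show (1 : Matrix (Fin n) (Fin n) K) i j = (Pi.single j 1 : Fin n → K) i by
        simp [Matrix.one_apply, Pi.single_apply]]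
      exact h'
    · intro h u v
      show Cfsg.hermForm n K q ((g : Matrix (Fin n) (Fin n) K) *ᵥ u) ((g : Matrix (Fin n) (Fin n) K) *ᵥ v) = _
      rw [hmv, h, Matrix.one_mulVec, hform]
  set a : Matrix (Fin n) (Fin n) K := ((A : GL (Fin n) K) : Matrix (Fin n) (Fin n) K) with ha
  set b : Matrix (Fin n) (Fin n) K := ((B : GL (Fin n) K) : Matrix (Fin n) (Fin n) K) with hb
  set t : Matrix (Fin n) (Fin n) K := (T : Matrix (Fin n) (Fin n) K) with ht
  set H : Matrix (Fin n) (Fin n) K := dag t * t with hH
  have hta : t * a = b * t := by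
    have h := congrArg (fun g : GL (Fin n) K => (g : Matrix (Fin n) (Fin n) K)) (mul_inv_eq_iff_eq_mul.mp hT)
    exact h
  have ha1 : dag a * a = 1 := (hmem _).mp A.2
  have hb1 : dag b * b = 1 := (hmem _).mp B.2
  have hHa : H * a = a * H := by
    have h1 : dag a * H * a = H := by
      calc dag a * H * a = dag (t * a) * (t * a) := by rw [dmul, hH]; simp only [mul_assoc]
        _ = dag t * (dag b * b) * t := by rw [hta, dmul]; simp only [mul_assoc]
        _ = H := by rw [hb1, mul_one]
    calc H * a = (a * dag a) * (H * a) := by rw [mul_eq_one_comm.mp ha1, one_mul]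
      _ = a * (dag a * H * a) := by simp only [mul_assoc]
      _ = a * H := by rw [h1]
  have hHd : dag H = H := by rw [hH, dmul, dd]
  -- the fixed subring of `K[H]`
  let R : Subalgebra K (Matrix (Fin n) (Fin n) K) := Algebra.adjoin K {H}
  letI : CommRing R := { (inferInstance : Ring R) with
    mul_comm := fun x y => Subtype.ext (Algebra.commute_of_mem_adjoin_singleton_of_commute y.2
      (Algebra.commute_of_mem_adjoin_singleton_of_commute x.2 (Commute.refl H)).symm).eq }
  let R₀ : Subring R :=
    { carrier := {r | dag (r : Matrix (Fin n) (Fin n) K) = r}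
      mul_mem' := fun {x y} hx hy => by
        show dag ((x : Matrix (Fin n) (Fin n) K) * y) = x * y
        rw [dmul, hx, hy]
        exact congrArg Subtype.val (mul_comm y x)
      one_mem' := done_
      add_mem' := fun {x y} hx hy => by
        show dag ((x : Matrix (Fin n) (Fin n) K) + y) = x + y
        rw [dadd, hx, hy]
      zero_mem' := by show dag 0 = 0; simp [dag]
      neg_mem' := fun {x} hx => by
        show dag (-(x : Matrix (Fin n) (Fin n) K)) = -(x : Matrix (Fin n) (Fin n) K)
        have h := dadd (x : Matrix (Fin n) (Fin n) K) (-(x : Matrix (Fin n) (Fin n) K))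
        rw [add_neg_cancel, hx, show dag 0 = 0 by simp [dag]] at h
        exact (neg_eq_of_add_eq_zero_right h.symm).symm }
  obtain ⟨w, hw⟩ : ∃ w : K, σ w ≠ w := by
    by_contra hall
    push Not at hall
    have h1 : 1 < q := by
      have h2 := Fintype.one_lt_card (α := K)
      rw [hK] at h2
      by_contra hcon
      rcases Nat.le_one_iff_eq_zero_or_eq_one.mp (not_lt.mp hcon) with e | e <;> rw [e] at h2 <;> simp at h2
    have hle := Polynomial.card_le_degree_of_subset_roots (p := (Polynomial.X ^ q - Polynomial.X : Polynomial K))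
      (Z := Finset.univ) (fun x _ => (Polynomial.mem_roots (FiniteField.X_pow_card_sub_X_ne_zero K h1)).mpr (by
        simp [← hσ, hall]))
    rw [Finset.card_univ, hK, FiniteField.X_pow_card_sub_X_natDegree_eq K h1, pow_two] at hle
    nlinarith
  have scal : ∀ c : K, σ c = c → algebraMap K R c ∈ R₀ := fun c hc => by
    show dag (algebraMap K (Matrix (Fin n) (Fin n) K) c) = algebraMap K (Matrix (Fin n) (Fin n) K) c
    rw [Algebra.algebraMap_eq_smul_one, dsmul, hc, done_]
  have hts : σ (w + σ w) = w + σ w := by rw [map_add, hσσ, add_comm]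
  have hns : σ (w * σ w) = w * σ w := by rw [map_mul, hσσ, mul_comm]
  let ι : {c : K // σ c = c} → R₀ := fun c => ⟨algebraMap K R c.1, scal c.1 c.2⟩
  have hunit : ∀ c : {c : K // σ c = c}, c.1 ≠ 0 → IsUnit (ι c) := by
    intro c hc
    refine IsUnit.of_mul_eq_one (ι ⟨c.1⁻¹, by rw [map_inv₀, c.2]⟩) (Subtype.ext ?_)
    show algebraMap K R c.1 * algebraMap K R c.1⁻¹ = 1
    rw [← map_mul, mul_inv_cancel₀ hc, map_one]
  have hHu : IsUnit (⟨⟨H, Algebra.self_mem_adjoin_singleton K H⟩, hHd⟩ : R₀) := by
    have hHM : IsUnit H := by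
      have hu : IsUnit t := T.isUnit
      obtain ⟨ti, hti⟩ := hu.exists_left_inv
      refine IsUnit.mul (IsUnit.of_mul_eq_one (dag ti) ?_) hu
      rw [← dmul, hti, done_]
    refine IsUnit.isUnit_iff_mulLeft_bijective.mpr (Finite.injective_iff_bijective.mp fun x y hxy => ?_)
    have h := congrArg (fun r : R₀ => ((r : R) : Matrix (Fin n) (Fin n) K)) hxy
    exact Subtype.ext (Subtype.ext (hHM.mul_left_cancel h))
  obtain ⟨x, y, hxy⟩ := Lib.Linear.HermitianNorm.exists_repr (ι ⟨_, hts⟩) (ι ⟨_, hns⟩) (by
      have e : ι ⟨_, hts⟩ ^ 2 - 4 * ι ⟨_, hns⟩ = ι ⟨(w - σ w) ^ 2, by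
          rw [map_pow, map_sub, hσσ]; ring⟩ := by
        refine Subtype.ext ?_
        show algebraMap K R (w + σ w) ^ 2 - 4 * algebraMap K R (w * σ w) = algebraMap K R ((w - σ w) ^ 2)
        simp only [map_pow, map_sub, map_add, map_mul]
        ring
      rw [e]
      exact hunit _ (pow_ne_zero 2 (sub_ne_zero.mpr (Ne.symm hw))))
    (by
      rcases eq_or_ne (2 : K) 0 with h | h
      · right
        refine Subtype.ext ?_
        show (2 : R) = 0
        rw [← map_ofNat (algebraMap K R) 2, h, map_zero]
      · left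
        have e : (2 : R₀) = ι ⟨2, map_ofNat σ 2⟩ := by
          refine Subtype.ext ?_
          show (2 : R) = algebraMap K R 2
          rw [map_ofNat]
        rw [e]
        exact hunit _ h) hHu
  set X : Matrix (Fin n) (Fin n) K := ((x : R) : Matrix (Fin n) (Fin n) K) with hX
  set Y : Matrix (Fin n) (Fin n) K := ((y : R) : Matrix (Fin n) (Fin n) K) with hY
  have hXY : X * Y = Y * X := congrArg Subtype.val (mul_comm (x : R) (y : R))
  have hval : X ^ 2 + (w + σ w) • (X * Y) + (w * σ w) • Y ^ 2 = H := by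
    have h := congrArg (fun r : R₀ => ((r : R) : Matrix (Fin n) (Fin n) K)) hxy
    simp only [Algebra.smul_def, map_add, map_mul]
    simpa [ι, hX, hY, mul_assoc] using h
  set S : Matrix (Fin n) (Fin n) K := X + w • Y with hS
  have hSS : dag S * S = H := by
    rw [← hval, hS, dadd, dsmul, show dag X = X from x.2, show dag Y = Y from y.2, add_mul, mul_add, mul_add,
      smul_mul_assoc, mul_smul_comm, smul_mul_assoc, mul_smul_comm, smul_smul, ← hXY, add_smul, pow_two, pow_two,
      mul_comm (σ w) w]
    abel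
  have hSu : IsUnit S := by
    have hHM : IsUnit H := by
      have := hHu.map (R.val.toRingHom.comp R₀.subtype)
      exact this
    obtain ⟨Hi, hHi⟩ := hHM.exists_left_inv
    exact IsUnit.of_mul_eq_one_right (Hi * dag S) (by rw [mul_assoc, hSS, hHi])
  obtain ⟨Su, hSu'⟩ := hSu
  have hSa : S * a = a * S := by
    have hc : ∀ r : R, (r : Matrix (Fin n) (Fin n) K) * a = a * r := fun r =>
      (Algebra.commute_of_mem_adjoin_singleton_of_commute r.2 (show Commute a H from hHa.symm)).symm
    rw [hS, add_mul, mul_add, smul_mul_assoc, mul_smul_comm, hc x, hc y]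
  have hUmem : T * Su⁻¹ ∈ Cfsg.GU n K q := by
    rw [hmem]
    show dag (t * _) * (t * _) = 1
    rw [dmul, mul_assoc, ← mul_assoc (dag t), ← hH, ← hSS, ← hSu', mul_assoc, Units.mul_inv, mul_one, ← dmul,
      Units.mul_inv, done_]
  refine isConj_iff.mpr ⟨⟨_, hUmem⟩, Subtype.ext ?_⟩
  show T * Su⁻¹ * (A : GL (Fin n) K) * (T * Su⁻¹)⁻¹ = B
  have hcomm : Commute Su (A : GL (Fin n) K) := Units.ext (by
    show (Su : Matrix _ _ K) * a = a * (Su : Matrix _ _ K)
    rw [hSu', hSa])
  rw [mul_inv_rev, inv_inv, mul_assoc T, hcomm.inv_left.eq, ← mul_assoc T, mul_assoc (T * (A : GL (Fin n) K)),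
    inv_mul_cancel_left, hT]

end Cfsg.Agent.S2587
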