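import Cfsg.Statements.S2385
import Cfsg.Agent.S2389
import Cfsg.Agent.Lib.Linear.TransposeSimilar

/-! Semisimple classes of symplectic groups. -/

set_option autoImplicit false
open Cfsg Polynomial
open scoped Matrix

namespace Cfsg.Agent.S2385

variable {F : Type*} [Field F] {m : ℕ}

/-- A matrix with given characteristic polynomial, self-adjoint for a symmetric form. -/
theorem exists_sym (Q : F[X]) (hQ : Q.Monic) (hd : Q.natDegree = m) :
    ∃ C S : Matrix (Fin m) (Fin m) F, C.charpoly = Q ∧ Sᵀ = S ∧ IsUnit S.det ∧ S * C = Cᵀ * S := by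
  classical
  subst hd
  let pb := AdjoinRoot.powerBasis hQ.ne_zero
  let b : Module.Basis (Fin Q.natDegree) F (AdjoinRoot Q) := pb.basis
  let φ : AdjoinRoot Q →ₗ[F] F := (lcoeff F (Q.natDegree - 1)).comp (AdjoinRoot.modByMonicHom hQ)
  let C : Matrix (Fin Q.natDegree) (Fin Q.natDegree) F := Algebra.leftMulMatrix b (AdjoinRoot.root Q)
  have hC : ∀ j, AdjoinRoot.root Q * b j = ∑ i, C i j • b i := fun j => by
    conv_lhs => rw [← b.sum_repr (AdjoinRoot.root Q * b j)]
    exact Finset.sum_congr rfl fun i _ => by rw [← Algebra.leftMulMatrix_eq_repr_mul]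
  refine ⟨C, Matrix.of fun i j => φ (b i * b j), ?_, ?_, ?_, ?_⟩
  · show (Algebra.leftMulMatrix pb.basis pb.gen).charpoly = Q
    rw [charpoly_leftMulMatrix, show pb.gen = AdjoinRoot.root Q from rfl, AdjoinRoot.minpoly_root hQ.ne_zero,
      hQ.leadingCoeff, inv_one, map_one, mul_one]
  · ext i j
    rw [Matrix.transpose_apply, Matrix.of_apply, Matrix.of_apply, mul_comm]
  · rw [isUnit_iff_ne_zero]
    intro h0
    obtain ⟨w, hw, hSw⟩ := Matrix.exists_mulVec_eq_zero_iff.mpr h0
    set z := ∑ j, w j • b j with hz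
    have h1 : ∀ x, φ (x * z) = 0 := by
      intro x
      rw [← b.sum_repr x, Finset.sum_mul, map_sum]
      refine Finset.sum_eq_zero fun i _ => ?_
      rw [smul_mul_assoc, map_smul, hz, Finset.mul_sum, map_sum]
      have h := congrFun hSw i
      simp only [Matrix.mulVec, dotProduct, Matrix.of_apply, Pi.zero_apply] at h
      rw [show ∑ j, φ (b i * w j • b j) = ∑ j, φ (b i * b j) * w j from
        Finset.sum_congr rfl fun j _ => by rw [mul_smul_comm, map_smul, smul_eq_mul, mul_comm], h, smul_zero]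
    have hz0 : z = 0 := by
      by_contra hne
      obtain ⟨x, hx⟩ := Cfsg.Agent.Lib.Linear.TransposeSimilar.exists_mul_top_coeff_ne_zero hQ z hne
      exact hx (by rw [mul_comm]; exact h1 x)
    exact hw (funext fun j => Fintype.linearIndependent_iff.1 b.linearIndependent w hz0 j)
  · ext i j
    rw [Matrix.mul_apply, Matrix.mul_apply]
    simp only [Matrix.of_apply, Matrix.transpose_apply]
    have h1 : φ (b i * (AdjoinRoot.root Q * b j)) = ∑ k, φ (b i * b k) * C k j := by
      rw [hC, Finset.mul_sum, map_sum]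
      exact Finset.sum_congr rfl fun k _ => by rw [mul_smul_comm, map_smul, smul_eq_mul, mul_comm]
    have h2 : φ ((AdjoinRoot.root Q * b i) * b j) = ∑ k, C k i * φ (b k * b j) := by
      rw [hC, Finset.sum_mul, map_sum]
      exact Finset.sum_congr rfl fun k _ => by rw [smul_mul_assoc, map_smul, smul_eq_mul]
    rw [← h1, ← h2, mul_assoc, mul_left_comm]

theorem det_J : (Matrix.J (Fin m) F).det = 1 := SymplecticGroup.det_eq_one (SymplecticGroup.J_mem _ _)

/-- The symplectic matrix attached to a self-adjoint matrix. -/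
theorem exists_sp (C S : Matrix (Fin m) (Fin m) F) (hS : Sᵀ = S) (hdet : IsUnit S.det) (hSC : S * C = Cᵀ * S) :
    ∃ g : Matrix.symplecticGroup (Fin m) F,
      (g : Matrix (Fin m ⊕ Fin m) (Fin m ⊕ Fin m) F).charpoly =
        ((((X : F[X]) ^ 2 + 1) • (1 : Matrix (Fin m) (Fin m) F[X]) - (X : F[X]) • C.map Polynomial.C)).det := by
  classical
  have hi : S * S⁻¹ = 1 := Matrix.mul_nonsing_inv S hdet
  have hi' : S⁻¹ * S = 1 := Matrix.nonsing_inv_mul S hdet
  have hiT : (S⁻¹)ᵀ = S⁻¹ := by rw [Matrix.transpose_nonsing_inv, hS]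
  set G := Matrix.fromBlocks 0 (-S⁻¹) S (S * C * S⁻¹) with hG
  have hmem : G ∈ Matrix.symplecticGroup (Fin m) F := by
    rw [SymplecticGroup.mem_iff, hG, Matrix.J, Matrix.fromBlocks_transpose, Matrix.fromBlocks_multiply,
      Matrix.fromBlocks_multiply]
    have h22 : -(S * C * S⁻¹ * S) + S * (S * C * S⁻¹)ᵀ = 0 := by
      rw [Matrix.transpose_mul, Matrix.transpose_mul, hiT, hS, mul_assoc (S * C), hi', mul_one, ← mul_assoc,
        hi, one_mul, ← hSC, neg_add_cancel]
    congr 1
    · simp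
    · simp [hS, hi']
    · simp [hiT, hi]
    · have h23 := h22
      simp [hS] at h23 ⊢
      linear_combination (norm := abel) -h23
  refine ⟨⟨G, hmem⟩, ?_⟩
  show G.charpoly = _
  let D : (Matrix (Fin m ⊕ Fin m) (Fin m ⊕ Fin m) F)ˣ :=
    ⟨Matrix.fromBlocks 1 0 0 S, Matrix.fromBlocks 1 0 0 S⁻¹, by simp [Matrix.fromBlocks_multiply, hi],
      by simp [Matrix.fromBlocks_multiply, hi']⟩
  have hconj : D.val * Matrix.fromBlocks 0 (-1) 1 C * D⁻¹.val = G := by
    show Matrix.fromBlocks 1 0 0 S * _ * Matrix.fromBlocks 1 0 0 S⁻¹ = _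
    simp [Matrix.fromBlocks_multiply, hG]
  rw [← hconj, Matrix.coe_units_inv, Matrix.charpoly_units_conj, Matrix.charpoly]
  set A : Matrix (Fin m) (Fin m) F[X] := (X : F[X]) • 1 - C.map Polynomial.C with hA
  set Z := ((X : F[X]) ^ 2 + 1) • (1 : Matrix (Fin m) (Fin m) F[X]) - (X : F[X]) • C.map Polynomial.C with hZ
  have hch : (Matrix.fromBlocks (0 : Matrix (Fin m) (Fin m) F) (-1) 1 C).charmatrix =
      Matrix.fromBlocks ((X : F[X]) • 1) 1 (-1) A := by
    rw [Matrix.charmatrix_fromBlocks]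
    congr 1
    · ext i j; simp [Matrix.charmatrix, Matrix.one_apply, Matrix.diagonal]
    · ext i j; simp [Matrix.map_apply, Matrix.one_apply, apply_ite Polynomial.C]
    · ext i j; simp [Matrix.map_apply, Matrix.one_apply, apply_ite Polynomial.C]
    · ext i j; simp [hA, Matrix.charmatrix, Matrix.one_apply, Matrix.diagonal, Matrix.smul_apply]
  rw [hch]
  have hprod : Matrix.fromBlocks 1 0 (-A) 1 * Matrix.fromBlocks ((X : F[X]) • 1) 1 (-1) A * Matrix.J (Fin m) F[X] =
      Matrix.fromBlocks 1 (-((X : F[X]) • 1)) 0 Z := by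
    rw [Matrix.J, Matrix.fromBlocks_multiply, Matrix.fromBlocks_multiply]
    congr 1
    · simp
    · simp
    · simp
    · simp only [zero_mul, mul_zero, add_zero, mul_neg, mul_one, one_mul, neg_mul, mul_smul_comm, hA, hZ]
      module
  have hdet2 := congrArg Matrix.det hprod
  rw [Matrix.det_mul, Matrix.det_mul, Matrix.det_fromBlocks_zero₁₂, Matrix.det_fromBlocks_zero₂₁, Matrix.det_one,
    SymplecticGroup.det_eq_one (SymplecticGroup.J_mem _ _), one_mul, one_mul, mul_one, one_mul] at hdet2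
  exact hdet2

theorem eval_det {L : Type*} [Field L] [Algebra F L] (C : Matrix (Fin m) (Fin m) F) {x y : L}
    (hxy : x * y = x ^ 2 + 1) :
    Polynomial.aeval x ((((X : F[X]) ^ 2 + 1) • (1 : Matrix (Fin m) (Fin m) F[X]) - (X : F[X]) • C.map Polynomial.C)).det =
      x ^ m * Polynomial.aeval y C.charpoly := by
  classical
  rw [AlgHom.map_det]
  have h2 : Polynomial.aeval y C.charpoly = (y • (1 : Matrix (Fin m) (Fin m) L) - C.map (algebraMap F L)).det := by
    rw [Matrix.charpoly, AlgHom.map_det]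
    congr 1
    ext i j
    simp [Matrix.charmatrix, Matrix.one_apply, Matrix.diagonal, apply_ite (Polynomial.aeval y)]
  rw [h2]
  have h3 : x ^ m * (y • (1 : Matrix (Fin m) (Fin m) L) - C.map (algebraMap F L)).det =
      (x • (y • (1 : Matrix (Fin m) (Fin m) L) - C.map (algebraMap F L))).det := by
    rw [Matrix.det_smul, Fintype.card_fin]
  rw [h3]
  congr 1
  ext i j
  by_cases h : i = j
  · subst h; simp [mul_sub, hxy]; ring
  · simp [Matrix.one_apply_ne h]; ring

theorem exists_semisimple [Fintype F] (p : ℕ) [Fact p.Prime] [CharP F p] (g : Matrix.symplecticGroup (Fin m) F) :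
    ∃ s : Matrix.symplecticGroup (Fin m) F, (orderOf s).Coprime p ∧
      (s : Matrix (Fin m ⊕ Fin m) (Fin m ⊕ Fin m) F).charpoly = (g : Matrix (Fin m ⊕ Fin m) (Fin m ⊕ Fin m) F).charpoly := by
  classical
  obtain ⟨f, hp, hf⟩ := FiniteField.card F p
  set q := Fintype.card F with hq
  obtain ⟨a, k, hk, ho⟩ := Nat.exists_eq_pow_mul_and_not_dvd (orderOf_pos g).ne' p (Fact.out : p.Prime).ne_one
  refine ⟨g ^ (q ^ a), ?_, ?_⟩
  · have hdvd : orderOf (g ^ (q ^ a)) ∣ k := by
      apply orderOf_dvd_of_pow_eq_one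
      rw [← pow_mul, ← orderOf_dvd_iff_pow_eq_one, ho, hf, ← pow_mul]
      refine mul_dvd_mul_right (pow_dvd_pow p ?_) k
      exact Nat.le_mul_of_pos_left a f.pos
    exact (((Fact.out : p.Prime).coprime_iff_not_dvd.2 hk).symm).coprime_dvd_left hdvd
  · rw [SubmonoidClass.coe_pow]
    generalize (g : Matrix (Fin m ⊕ Fin m) (Fin m ⊕ Fin m) F) = M
    clear ho
    induction a generalizing M with
    | zero => simp
    | succ a ih => rw [pow_succ, pow_mul, FiniteField.Matrix.charpoly_pow_card, ih]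

theorem coeff_symm (g : Matrix.symplecticGroup (Fin m) F) {i : ℕ} (hi : i ≤ 2 * m) :
    (g : Matrix (Fin m ⊕ Fin m) (Fin m ⊕ Fin m) F).charpoly.coeff i =
      (g : Matrix (Fin m ⊕ Fin m) (Fin m ⊕ Fin m) F).charpoly.coeff (2 * m - i) := by
  classical
  set A := (g : Matrix (Fin m ⊕ Fin m) (Fin m ⊕ Fin m) F) with hA
  have hdet : A.det = 1 := SymplecticGroup.det_eq_one g.2
  let Ju : (Matrix (Fin m ⊕ Fin m) (Fin m ⊕ Fin m) F)ˣ :=
    ((Matrix.isUnit_iff_isUnit_det (Matrix.J (Fin m) F)).2 (by rw [det_J]; exact isUnit_one)).unit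
  have hu : IsUnit A.det := by rw [hdet]; exact isUnit_one
  have h1 : Ju.val * A⁻¹ * Ju⁻¹.val = Aᵀ := by
    have h := (SymplecticGroup.mem_iff'.1 g.2)
    show Matrix.J (Fin m) F * A⁻¹ * _ = _
    rw [Units.mul_inv_eq_iff_eq_mul]
    show Matrix.J (Fin m) F * A⁻¹ = Aᵀ * Matrix.J (Fin m) F
    conv_lhs => rw [← h]
    rw [mul_assoc, Matrix.mul_nonsing_inv A hu, mul_one]
  have h2 : A⁻¹.charpoly = A.charpoly := by
    rw [← Matrix.charpoly_transpose A, ← h1, Matrix.coe_units_inv, Matrix.charpoly_units_conj]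
  have h3 : A⁻¹.charpoly = A.charpolyRev := by
    rw [Matrix.charpoly, Matrix.charpolyRev]
    have h4 : A⁻¹.charmatrix = (-(A⁻¹.map Polynomial.C)) * (1 - (X : F[X]) • A.map Polynomial.C) := by
      rw [mul_sub, mul_one, mul_smul_comm, neg_mul, ← Matrix.map_mul, Matrix.nonsing_inv_mul A hu]
      rw [Matrix.map_one _ (map_zero _) (map_one _)]
      ext i j
      simp [Matrix.charmatrix, Matrix.one_apply, Matrix.diagonal]
      split_ifs <;> ring
    rw [h4, Matrix.det_mul, Matrix.det_neg, Fintype.card_sum, Fintype.card_fin, ← two_mul, pow_mul, neg_one_sq,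
      one_pow, one_mul]
    have h5 : (A⁻¹.map Polynomial.C).det = 1 := by
      rw [show A⁻¹.map Polynomial.C = (Polynomial.C : F →+* F[X]).mapMatrix A⁻¹ from rfl, ← RingHom.map_det,
        Matrix.det_nonsing_inv, hdet, Ring.inverse_one, map_one]
    rw [h5, one_mul]
  have h6 : A.charpoly.reverse = A.charpoly := by rw [Matrix.reverse_charpoly, ← h3, h2]
  conv_lhs => rw [← h6, Polynomial.coeff_reverse, Matrix.charpoly_natDegree_eq_dim, Fintype.card_sum, Fintype.card_fin,
    Polynomial.revAt_le (by omega)]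
  rw [two_mul]

theorem main [Fintype F] {q : ℕ} (hq : Fintype.card F = q) (p : ℕ) [Fact p.Prime] [CharP F p] (n : ℕ) :
    Nat.card {c : ConjClasses ↥(Matrix.symplecticGroup (Fin n) F) //
      ∃ g : ↥(Matrix.symplecticGroup (Fin n) F), ConjClasses.mk g = c ∧ (orderOf g).Coprime p} = q ^ n := by
  classical
  set S := {c : ConjClasses ↥(Matrix.symplecticGroup (Fin n) F) //
      ∃ g : ↥(Matrix.symplecticGroup (Fin n) F), ConjClasses.mk g = c ∧ (orderOf g).Coprime p}
  have hconj : ∀ g h : ↥(Matrix.symplecticGroup (Fin n) F), IsConj g h →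
      (g : Matrix (Fin n ⊕ Fin n) (Fin n ⊕ Fin n) F).charpoly = (h : Matrix (Fin n ⊕ Fin n) (Fin n ⊕ Fin n) F).charpoly := by
    intro g h hgh
    obtain ⟨c, hc⟩ := isConj_iff.1 hgh
    let cu : (Matrix (Fin n ⊕ Fin n) (Fin n ⊕ Fin n) F)ˣ :=
      ⟨(c : Matrix _ _ F), ((c⁻¹ : Matrix.symplecticGroup (Fin n) F) : Matrix _ _ F),
        by rw [← Submonoid.coe_mul, mul_inv_cancel, Submonoid.coe_one],
        by rw [← Submonoid.coe_mul, inv_mul_cancel, Submonoid.coe_one]⟩
    rw [← hc, Submonoid.coe_mul, Submonoid.coe_mul]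
    show _ = (cu.val * _ * cu⁻¹.val).charpoly
    rw [Matrix.coe_units_inv, Matrix.charpoly_units_conj]
  -- upper bound
  have hle : Nat.card S ≤ q ^ n := by
    let Φ : S → (Fin n → F) := fun c i =>
      (c.2.choose : Matrix (Fin n ⊕ Fin n) (Fin n ⊕ Fin n) F).charpoly.coeff ((i : ℕ) + 1)
    have hΦ : Function.Injective Φ := by
      intro c d hcd
      obtain ⟨hc1, hc2⟩ := c.2.choose_spec
      obtain ⟨hd1, hd2⟩ := d.2.choose_spec
      set g := c.2.choose
      set h := d.2.choose
      apply Subtype.ext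
      rw [← hc1, ← hd1, ConjClasses.mk_eq_mk_iff_isConj]
      refine Cfsg.Agent.S2389.result p n g h hc2 hd2 ?_
      have hlow : ∀ i, i ≤ n → (g : Matrix (Fin n ⊕ Fin n) (Fin n ⊕ Fin n) F).charpoly.coeff i =
          (h : Matrix (Fin n ⊕ Fin n) (Fin n ⊕ Fin n) F).charpoly.coeff i := by
        intro i hi
        rcases Nat.eq_zero_or_pos i with rfl | hpos
        · have hg := SymplecticGroup.det_eq_one g.2
          have hh := SymplecticGroup.det_eq_one h.2
          rw [Matrix.det_eq_sign_charpoly_coeff] at hg hh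
          exact mul_left_cancel₀ (pow_ne_zero _ (neg_ne_zero.2 one_ne_zero)) (hg.trans hh.symm)
        · have := congrFun hcd ⟨i - 1, by omega⟩
          simpa only [Φ, Nat.sub_add_cancel hpos] using this
      ext i
      rcases le_or_gt i n with hi | hi
      · exact hlow i hi
      rcases le_or_gt i (2 * n) with hi2 | hi2
      · rw [coeff_symm g hi2, coeff_symm h hi2, hlow _ (by omega)]
      · rw [Polynomial.coeff_eq_zero_of_natDegree_lt, Polynomial.coeff_eq_zero_of_natDegree_lt] <;>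
          rw [Matrix.charpoly_natDegree_eq_dim, Fintype.card_sum, Fintype.card_fin] <;> omega
    calc Nat.card S ≤ Nat.card (Fin n → F) := Nat.card_le_card_of_injective Φ hΦ
      _ = q ^ n := by rw [Nat.card_fun, Nat.card_fin, Nat.card_eq_fintype_card, hq]
  -- lower bound
  let P := {Q : F[X] // Q.Monic ∧ Q.natDegree = n}
  have hex : ∀ Q : P, ∃ s : Matrix.symplecticGroup (Fin n) F, (orderOf s).Coprime p ∧
      ∃ C : Matrix (Fin n) (Fin n) F, C.charpoly = Q.1 ∧ (s : Matrix (Fin n ⊕ Fin n) (Fin n ⊕ Fin n) F).charpoly =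
        ((((X : F[X]) ^ 2 + 1) • (1 : Matrix (Fin n) (Fin n) F[X]) - (X : F[X]) • C.map Polynomial.C)).det := by
    intro Q
    obtain ⟨C, M, hC, hM, hMd, hMC⟩ := exists_sym Q.1 Q.2.1 Q.2.2
    obtain ⟨g, hg⟩ := exists_sp C M hM hMd hMC
    obtain ⟨s, hs, hsg⟩ := exists_semisimple p g
    exact ⟨s, hs, C, hC, hsg.trans hg⟩
  choose s hs C hC hsC using hex
  let Ψ : P → S := fun Q => ⟨ConjClasses.mk (s Q), s Q, rfl, hs Q⟩
  have hΨ : Function.Injective Ψ := by
    intro Q R h
    have h1 := hconj _ _ (ConjClasses.mk_eq_mk_iff_isConj.1 (congrArg Subtype.val h))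
    rw [hsC, hsC] at h1
    apply Subtype.ext
    apply Polynomial.map_injective (algebraMap F (AlgebraicClosure F)) (RingHom.injective _)
    refine Polynomial.funext fun y => ?_
    obtain ⟨x, hx⟩ := IsAlgClosed.exists_root (X ^ 2 - Polynomial.C y * X + 1 : (AlgebraicClosure F)[X]) (by
      intro h0
      have := congrArg Polynomial.natDegree (show (X ^ 2 - Polynomial.C y * X + 1 : (AlgebraicClosure F)[X]) = X ^ 2 - (Polynomial.C y * X - 1) by ring)
      have h2 : (X ^ 2 - Polynomial.C y * X + 1 : (AlgebraicClosure F)[X]).natDegree = 2 := by compute_degree!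
      rw [Polynomial.natDegree_eq_zero_iff_degree_le_zero.2 h0.le] at h2
      exact absurd h2 (by norm_num))
    have hx' : x ^ 2 - y * x + 1 = 0 := by simpa [Polynomial.IsRoot.def] using hx
    have hx0 : x ≠ 0 := fun h => by rw [h] at hx'; simp at hx'
    have hxy : x * y = x ^ 2 + 1 := by linear_combination -hx'
    have h2 := congrArg (Polynomial.aeval x) h1
    rw [eval_det _ hxy, eval_det _ hxy, hC, hC] at h2
    rw [Polynomial.eval_map_algebraMap, Polynomial.eval_map_algebraMap]
    exact mul_left_cancel₀ (pow_ne_zero _ hx0) h2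
  have hcardP : Nat.card P = q ^ n := by
    rw [Nat.card_congr ((monicEquivDegreeLT n).trans (degreeLTEquiv F n).toEquiv), Nat.card_fun, Nat.card_fin,
      Nat.card_eq_fintype_card, hq]
  exact le_antisymm hle (hcardP.symm.le.trans (Nat.card_le_card_of_injective Ψ hΨ))

/-- In the symplectic group `Sp_{2n}(q)`, `q` a power of the prime `p`, the number of conjugacy classes of elements of order prime to `p` is `q^n`. -/
theorem result {F : Type*} [Field F] [Fintype F] {q : ℕ} (hq : Fintype.card F = q) (p : ℕ) [Fact p.Prime] [CharP F p] (n : ℕ) :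
    Nat.card {c : ConjClasses ↥(Matrix.symplecticGroup (Fin n) F) //
      ∃ g : ↥(Matrix.symplecticGroup (Fin n) F), ConjClasses.mk g = c ∧ (orderOf g).Coprime p} = q ^ n := by
  exact main hq p n

end Cfsg.Agent.S2385
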