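import Cfsg.Statements.S2588
import Cfsg.Agent.Lib.Linear.HermitianFactor
-- import your own Cfsg.Agent.* helpers here

set_option autoImplicit false
open Cfsg
open scoped Matrix

namespace Cfsg.Agent.S2588

/-- Hilbert 90 for a finite commutative ring with a fixed-point-free involution. -/
theorem exists_unit_sum {R : Type*} [CommRing R] [Finite R] (ε : R →+* R) (hεε : ∀ r, ε (ε r) = r) (l U : R)
    (hl : IsUnit (ε l - l)) (hU : IsUnit U) : ∃ c : R, IsUnit (c + U * ε c) := by
  classical
  let τ : MaximalSpectrum R → MaximalSpectrum R := fun I =>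
    ⟨Ideal.comap ε I.asIdeal, Ideal.comap_isMaximal_of_surjective ε (fun r => ⟨ε r, hεε r⟩)⟩
  have hmem : ∀ I r, ε r ∈ I.asIdeal ↔ r ∈ (τ I).asIdeal := fun I r => Iff.rfl
  have hττ : ∀ I, τ (τ I) = I := fun I => MaximalSpectrum.ext (Ideal.ext fun r => by
    show ε (ε r) ∈ I.asIdeal ↔ _
    rw [hεε])
  obtain ⟨N, ⟨e⟩⟩ := Finite.exists_equiv_fin (MaximalSpectrum R)
  let v : MaximalSpectrum R → R := fun I =>
    if τ I = I then (if 1 + U ∈ I.asIdeal then l else 1) else (if e I < e (τ I) then 1 else 0)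
  let ψ := IsArtinianRing.quotNilradicalEquivPi R
  obtain ⟨c, hc⟩ := Ideal.Quotient.mk_surjective (ψ.symm fun I => Ideal.Quotient.mk I.asIdeal (v I))
  have hcI : ∀ I : MaximalSpectrum R, c - v I ∈ I.asIdeal := fun I => by
    have h := congrFun (congrArg ψ hc) I
    rw [AlgEquiv.apply_symm_apply] at h
    exact Ideal.Quotient.eq.mp h
  refine ⟨c, ?_⟩
  by_contra hns
  obtain ⟨J, hJ, hmemJ⟩ := exists_max_ideal_of_mem_nonunits (mem_nonunits_iff.mpr hns)
  let I : MaximalSpectrum R := ⟨J, hJ⟩
  have h1 : v I + U * ε (v (τ I)) ∈ I.asIdeal := by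
    have ha := hcI I
    have hb : ε (c - v (τ I)) ∈ I.asIdeal := (hmem I _).mpr (hcI (τ I))
    have : v I + U * ε (v (τ I)) = (c + U * ε c) - (c - v I) - U * ε (c - v (τ I)) := by rw [map_sub]; ring
    rw [this]
    exact sub_mem (sub_mem hmemJ ha) (Ideal.mul_mem_left _ _ hb)
  have hnot : ∀ u : R, IsUnit u → u ∉ I.asIdeal := fun u hu hmemu =>
    I.isMaximal.ne_top (Ideal.eq_top_of_isUnit_mem _ hmemu hu)
  by_cases hfix : τ I = I
  · rw [hfix] at h1
    simp only [v, if_pos hfix] at h1
    by_cases h2 : 1 + U ∈ I.asIdeal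
    · rw [if_pos h2] at h1
      refine hnot _ (hU.mul hl) ?_
      have := sub_mem h1 (Ideal.mul_mem_left _ l h2)
      convert this using 1
      ring
    · rw [if_neg h2, map_one, mul_one] at h1
      exact h2 h1
  · have hne : e (τ I) ≠ e I := fun h => hfix (e.injective h)
    have hfix' : τ (τ I) ≠ τ I := fun h => hfix (by rw [hττ] at h; exact h.symm)
    simp only [v, if_neg hfix, if_neg hfix', hττ] at h1
    rcases lt_or_gt_of_ne hne with h | h
    · rw [if_neg (not_lt.mpr h.le), if_pos h, map_one, mul_one, zero_add] at h1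
      exact hnot U hU h1
    · rw [if_pos h, if_neg (not_lt.mpr h.le), map_zero, mul_zero, add_zero] at h1
      exact hnot 1 isUnit_one h1

/-- An invertible matrix A over the field with q² elements is conjugate in GL_n(q²) to an element of the general unitary group GU_n(q) (isometries of the Hermitian form Σ u_i v_i^q) if and only if A is similar to the inverse transpose of its entrywise q-th power (A ~ A^(−qT), the image of A under the map sending a matrix to the inverse transpose of its entrywise q-th power — inverse transpose composed with the field automorphism — whose fixed points form GU_n(q)). -/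
theorem result {K : Type*} [Field K] [Fintype K] {q n : ℕ} (hK : Fintype.card K = q ^ 2) (A : GL (Fin n) K) : (∃ B : ↥(Cfsg.GU n K q), IsConj A (B : GL (Fin n) K)) ↔ IsConj (A : Matrix (Fin n) (Fin n) K) (((A : Matrix (Fin n) (Fin n) K).map (fun x : K => x ^ q)).transpose)⁻¹ := by
  classical
  obtain ⟨σ, hσ, hσσ, w, hw⟩ := Lib.Linear.HermitianFactor.exists_involution hK
  let dag : Matrix (Fin n) (Fin n) K → Matrix (Fin n) (Fin n) K := Lib.Linear.HermitianFactor.dagger σ
  have dmul : ∀ M M', dag (M * M') = dag M' * dag M := Lib.Linear.HermitianFactor.dagger_mul σ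
  have dadd : ∀ M M', dag (M + M') = dag M + dag M' := Lib.Linear.HermitianFactor.dagger_add σ
  have dd : ∀ M, dag (dag M) = M := Lib.Linear.HermitianFactor.dagger_dagger hσσ
  have done_ : dag 1 = 1 := Lib.Linear.HermitianFactor.dagger_one σ
  have dsmul : ∀ (c : K) M, dag (c • M) = σ c • dag M := Lib.Linear.HermitianFactor.dagger_smul σ
  have hq : ∀ M : Matrix (Fin n) (Fin n) K, (M.map (fun x : K => x ^ q)).transpose = dag M := fun M => by
    ext i j; simp [dag, Lib.Linear.HermitianFactor.dagger, hσ]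
  rw [hq]
  have hform : ∀ u v : Fin n → K, Cfsg.hermForm n K q u v = u ⬝ᵥ (fun i => σ (v i)) := fun u v => by
    simp [Cfsg.hermForm, dotProduct, hσ]
  have hmem : ∀ g : GL (Fin n) K, g ∈ Cfsg.GU n K q ↔ dag (g : Matrix _ _ K) * (g : Matrix _ _ K) = 1 := by
    intro g
    have hmv : ∀ (M : Matrix (Fin n) (Fin n) K) (u v : Fin n → K),
        Cfsg.hermForm n K q (M *ᵥ u) (M *ᵥ v) = u ⬝ᵥ ((Mᵀ * M.map σ) *ᵥ (fun i => σ (v i))) := by
      intro M u v
      rw [hform, ← Matrix.mulVec_mulVec, Matrix.dotProduct_mulVec u Mᵀ, Matrix.vecMul_transpose]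
      congr 1
      funext i
      exact RingHom.map_mulVec σ M v i
    have hd : dag (g : Matrix _ _ K) * (g : Matrix _ _ K) =
        (((g : Matrix (Fin n) (Fin n) K))ᵀ * (g : Matrix (Fin n) (Fin n) K).map σ)ᵀ := by
      rw [Matrix.transpose_mul, Matrix.transpose_transpose]
      rfl
    rw [hd, ← Matrix.transpose_one, Matrix.transpose_inj]
    constructor
    · intro h
      refine Matrix.ext fun i j => ?_
      have h' := h (Pi.single i 1) (Pi.single j 1)
      rw [show (Units.coeHom _) g = (g : Matrix (Fin n) (Fin n) K) from rfl, hmv, hform] at h'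
      have e : (fun a => σ ((Pi.single j (1 : K) : Fin n → K) a)) = Pi.single j 1 := by
        funext a
        by_cases ha : a = j <;> simp [ha]
      rw [e, single_one_dotProduct, Matrix.mulVec_single_one, single_one_dotProduct] at h'
      rw [show (1 : Matrix (Fin n) (Fin n) K) i j = (Pi.single j 1 : Fin n → K) i by
        simp [Matrix.one_apply, Pi.single_apply]]
      exact h'
    · intro h u v
      show Cfsg.hermForm n K q ((g : Matrix (Fin n) (Fin n) K) *ᵥ u) ((g : Matrix (Fin n) (Fin n) K) *ᵥ v) = _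
      rw [hmv, h, Matrix.one_mulVec, hform]
  set a : Matrix (Fin n) (Fin n) K := (A : Matrix (Fin n) (Fin n) K) with ha
  have hau : IsUnit a := A.isUnit
  have hdau : IsUnit (dag a) := by
    obtain ⟨i, hi⟩ := hau.exists_left_inv
    exact IsUnit.of_mul_eq_one (dag i) (by rw [← dmul, hi, done_])
  constructor
  · rintro ⟨B, hB⟩
    obtain ⟨g, hg⟩ := isConj_iff.mp hB
    have hb : dag ((B : GL (Fin n) K) : Matrix (Fin n) (Fin n) K) * ((B : GL (Fin n) K) : Matrix (Fin n) (Fin n) K) = 1 :=
      (hmem _).mp B.2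
    have hga : (g : Matrix (Fin n) (Fin n) K) * a = ((B : GL (Fin n) K) : Matrix (Fin n) (Fin n) K) * g :=
      congrArg (fun x : GL (Fin n) K => (x : Matrix (Fin n) (Fin n) K)) (mul_inv_eq_iff_eq_mul.mp hg)
    set gm : Matrix (Fin n) (Fin n) K := (g : Matrix (Fin n) (Fin n) K) with hgm
    have key : dag a * (dag gm * gm) * a = dag gm * gm := by
      calc dag a * (dag gm * gm) * a = dag (gm * a) * (gm * a) := by rw [dmul]; simp only [mul_assoc]
        _ = dag gm * (dag ((B : GL (Fin n) K) : Matrix (Fin n) (Fin n) K) *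
            ((B : GL (Fin n) K) : Matrix (Fin n) (Fin n) K)) * gm := by rw [hga, dmul]; simp only [mul_assoc]
        _ = dag gm * gm := by rw [hb, mul_one]
    have hu : IsUnit (dag gm * gm) := by
      obtain ⟨i, hi⟩ := (g.isUnit : IsUnit gm).exists_left_inv
      exact (IsUnit.of_mul_eq_one (dag i) (by rw [← dmul, hi, done_])).mul g.isUnit
    refine ⟨hu.unit, ?_⟩
    show dag gm * gm * a = (dag a)⁻¹ * (dag gm * gm)
    calc dag gm * gm * a = (dag a)⁻¹ * (dag a * (dag gm * gm * a)) := by
          rw [← mul_assoc, Matrix.nonsing_inv_mul _ ((Matrix.isUnit_iff_isUnit_det _).mp hdau), one_mul]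
      _ = (dag a)⁻¹ * (dag gm * gm) := by rw [← mul_assoc (dag a), key]
  rintro ⟨c, hc⟩
  set T : Matrix (Fin n) (Fin n) K := (c : Matrix (Fin n) (Fin n) K) with hT
  have hTA : dag a * T * a = T := by
    have h : T * a = (dag a)⁻¹ * T := hc
    rw [mul_assoc, h, ← mul_assoc, Matrix.mul_nonsing_inv _ ((Matrix.isUnit_iff_isUnit_det _).mp hdau), one_mul]
  have hTA' : dag a * dag T * a = dag T := by
    have h := congrArg dag hTA
    rwa [dmul, dmul, dd, ← mul_assoc] at h
  obtain ⟨Ti, hTi⟩ := (c.isUnit : IsUnit T).exists_left_inv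
  have hTi' : T * Ti = 1 := mul_eq_one_comm.mp hTi
  set U : Matrix (Fin n) (Fin n) K := Ti * dag T with hU
  have hdT : dag Ti * dag T * 1 = 1 ∧ dag T * dag Ti = 1 := by
    constructor
    · rw [mul_one, ← dmul, hTi', done_]
    · rw [← dmul, hTi, done_]
  have hUu : IsUnit U := IsUnit.of_mul_eq_one (dag Ti * T) (by
    rw [hU, mul_assoc, ← mul_assoc (dag T), hdT.2, one_mul, hTi])
  have hUa : Commute a U := by
    have e1 : Ti * dag a = Ti * dag a * T * Ti := by rw [mul_assoc _ T, hTi', mul_one]
    have e2 : Ti * dag a * T * a = 1 := by rw [mul_assoc Ti, mul_assoc Ti, hTA, hTi]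
    show a * U = U * a
    calc a * U = a * (Ti * (dag a * dag T * a)) := by rw [hTA', hU]
      _ = a * ((Ti * dag a * T * Ti) * dag T * a) := by rw [← e1]; simp only [mul_assoc]
      _ = (a * (Ti * dag a * T)) * (U * a) := by rw [hU]; simp only [mul_assoc]
      _ = U * a := by rw [mul_eq_one_comm.mp e2, one_mul]
  let R : Subalgebra K (Matrix (Fin n) (Fin n) K) := Algebra.adjoin K {U}
  letI : CommRing R := { (inferInstance : Ring R) with
    mul_comm := fun x y => Subtype.ext (Algebra.commute_of_mem_adjoin_singleton_of_commute y.2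
      (Algebra.commute_of_mem_adjoin_singleton_of_commute x.2 (Commute.refl U)).symm).eq }
  let UR : R := ⟨U, Algebra.self_mem_adjoin_singleton K U⟩
  have hURu : IsUnit UR := IsUnit.isUnit_iff_mulLeft_bijective.mpr (Finite.injective_iff_bijective.mp fun x y h =>
    Subtype.ext (hUu.mul_left_cancel (congrArg Subtype.val h)))
  obtain ⟨Ui, hUi⟩ := hURu.exists_left_inv
  have hUiv : (Ui : Matrix (Fin n) (Fin n) K) * U = 1 := congrArg Subtype.val hUi
  have hεU : Ti * dag U * T = (Ui : Matrix (Fin n) (Fin n) K) := by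
    have h : (Ti * dag U * T) * U = 1 := by
      rw [hU, dmul, dd, show Ti * (T * dag Ti) * T * (Ti * dag T) = (Ti * T) * dag Ti * (T * Ti) * dag T by
        simp only [mul_assoc], hTi, hTi', one_mul, mul_one, ← dmul, hTi', done_]
    calc Ti * dag U * T = (Ti * dag U * T) * (U * (Ui : Matrix (Fin n) (Fin n) K)) := by
          rw [mul_eq_one_comm.mp hUiv, mul_one]
      _ = _ := by rw [← mul_assoc, h, one_mul]
  have hclosed : ∀ r : R, Ti * dag (r : Matrix (Fin n) (Fin n) K) * T ∈ R := by
    rintro ⟨r, hr⟩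
    show Ti * dag r * T ∈ R
    induction hr using Algebra.adjoin_induction with
    | mem x hx => rw [Set.mem_singleton_iff.mp hx, hεU]; exact Ui.2
    | algebraMap k =>
      rw [Algebra.algebraMap_eq_smul_one, dsmul, done_, mul_smul_comm, mul_one, smul_mul_assoc, hTi,
        ← Algebra.algebraMap_eq_smul_one]
      exact R.algebraMap_mem _
    | add x y _ _ ihx ihy => rw [dadd, mul_add, add_mul]; exact R.add_mem ihx ihy
    | mul x y hx hy ihx ihy =>
      rw [dmul, show Ti * (dag y * dag x) * T = Ti * dag y * T * (Ti * dag x * T) by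
        simp only [mul_assoc]; rw [← mul_assoc T Ti, hTi', one_mul]]
      exact R.mul_mem ihy ihx
  let εf : R → R := fun r => ⟨_, hclosed r⟩
  let ε : R →+* R :=
    { toFun := εf
      map_one' := Subtype.ext (by show Ti * dag 1 * T = 1; rw [done_, mul_one, hTi])
      map_mul' := fun x y => by
        rw [mul_comm (εf x)]
        refine Subtype.ext ?_
        show Ti * dag ((x : Matrix (Fin n) (Fin n) K) * y) * T =
          Ti * dag (y : Matrix (Fin n) (Fin n) K) * T * (Ti * dag (x : Matrix (Fin n) (Fin n) K) * T)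
        rw [dmul]
        simp only [mul_assoc]
        rw [← mul_assoc T Ti, hTi', one_mul]
      map_zero' := Subtype.ext (by
        show Ti * dag 0 * T = 0
        simp [dag, Lib.Linear.HermitianFactor.dagger])
      map_add' := fun x y => Subtype.ext (by
        show Ti * dag ((x : Matrix (Fin n) (Fin n) K) + y) * T = _
        rw [dadd, mul_add, add_mul]; rfl) }
  have hεε : ∀ r, ε (ε r) = r := by
    intro r
    refine Subtype.ext ?_
    show Ti * dag (Ti * dag (r : Matrix (Fin n) (Fin n) K) * T) * T = (r : Matrix (Fin n) (Fin n) K)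
    have hc' : Commute (r : Matrix (Fin n) (Fin n) K) U :=
      (Algebra.commute_of_mem_adjoin_singleton_of_commute r.2 (Commute.refl U)).symm
    calc Ti * dag (Ti * dag (r : Matrix (Fin n) (Fin n) K) * T) * T
        = U * (r : Matrix (Fin n) (Fin n) K) * (dag Ti * T) := by rw [dmul, dmul, dd, hU]; simp only [mul_assoc]
      _ = (r : Matrix (Fin n) (Fin n) K) * (U * (dag Ti * T)) := by rw [← hc'.eq, mul_assoc]
      _ = (r : Matrix (Fin n) (Fin n) K) := by
          rw [hU, mul_assoc, ← mul_assoc (dag T), hdT.2, one_mul, hTi, mul_one]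
  obtain ⟨c₀, hc₀⟩ := exists_unit_sum ε hεε (algebraMap K R w) UR (by
    have e : ε (algebraMap K R w) = algebraMap K R (σ w) := by
      refine Subtype.ext ?_
      show Ti * dag (algebraMap K (Matrix (Fin n) (Fin n) K) w) * T = algebraMap K (Matrix (Fin n) (Fin n) K) (σ w)
      rw [Algebra.algebraMap_eq_smul_one, dsmul, done_, mul_smul_comm, mul_one, smul_mul_assoc, hTi,
        ← Algebra.algebraMap_eq_smul_one]
    rw [e, ← map_sub]
    exact (IsUnit.mk0 _ (sub_ne_zero.mpr hw)).map _) hURu
  set sR := c₀ + UR * ε c₀ with hsR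
  have hεUR : ε UR = Ui := Subtype.ext hεU
  have hs : ε sR * UR = sR := by
    rw [hsR, map_add, map_mul, hεε, hεUR, add_mul, mul_right_comm Ui, hUi, one_mul]
    ring
  set S0 : Matrix (Fin n) (Fin n) K := (sR : Matrix (Fin n) (Fin n) K) with hS0
  have hS0u : IsUnit S0 := hc₀.map R.val.toRingHom
  set H := T * S0 with hH
  have hHd : dag H = H := by
    have h : Ti * dag S0 * T * U = S0 := congrArg Subtype.val hs
    calc dag H = dag S0 * dag T := dmul _ _
      _ = (T * Ti) * dag S0 * (T * Ti) * dag T := by rw [hTi', one_mul, mul_one]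
      _ = T * (Ti * dag S0 * T * U) := by rw [hU]; simp only [mul_assoc]
      _ = H := by rw [h]
  have hHa : dag a * H * a = H := by
    have hc' : Commute a S0 := Algebra.commute_of_mem_adjoin_singleton_of_commute sR.2 hUa
    rw [hH, ← mul_assoc (dag a), mul_assoc _ S0, ← hc'.eq, ← mul_assoc, hTA]
  obtain ⟨S, hSu, hSS, -⟩ := Lib.Linear.HermitianFactor.exists_factor hσσ hw (H := H) hHd
    ((c.isUnit : IsUnit T).mul hS0u)
  obtain ⟨Su, rfl⟩ := hSu
  have hB : Su * A * Su⁻¹ ∈ Cfsg.GU n K q := by
    rw [hmem]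
    show dag ((Su : Matrix (Fin n) (Fin n) K) * a * ((Su⁻¹ : GL (Fin n) K) : Matrix (Fin n) (Fin n) K)) *
      ((Su : Matrix (Fin n) (Fin n) K) * a * ((Su⁻¹ : GL (Fin n) K) : Matrix (Fin n) (Fin n) K)) = 1
    rw [dmul, dmul, show ∀ x y z u v : Matrix (Fin n) (Fin n) K, x * (y * z) * (u * a * v) = x * (y * (z * u) * a) * v
      from fun x y z u v => by simp only [mul_assoc]]
    have hSS' : dag (Su : Matrix (Fin n) (Fin n) K) * (Su : Matrix (Fin n) (Fin n) K) = H := hSS
    rw [hSS', hHa, ← hSS', ← mul_assoc, ← dmul, Units.mul_inv, done_, one_mul, Units.mul_inv]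
  exact ⟨⟨_, hB⟩, isConj_iff.mpr ⟨Su, rfl⟩⟩

end Cfsg.Agent.S2588
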