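import Cfsg.Statements.S4704
import Cfsg.Agent.Lib.Feit.Square
import Cfsg.Agent.Lib.Feit.Count

set_option autoImplicit false
open Cfsg

namespace Cfsg.Agent.S4704

/-- Let G be a finite group with centre Z, p > 7 a prime, and suppose a Sylow p-subgroup of G has order p and is not normal. Let ζ be a faithful irreducible character of G and t the number of conjugacy classes of G consisting of elements of order p. Then one of the following holds: G/Z is isomorphic to PSL(2, p), ζ has degree (p + 1)/2 or (p − 1)/2 and t = 2; or ζ has degree at least p − 1; or ζ has degree at least p + 3/2 − √(p + 5/4) and p ≤ t^2 − 3t + 1. -/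
theorem result {G : Type*} [Group G] [Finite G] (p : ℕ) [Fact p.Prime] (hp : 7 < p) (P : Sylow p G) (hP : Nat.card P = p) (hnn : ¬ (P : Subgroup G).Normal) (ζ : G → ℂ) (hζ : Cfsg.IsIrrCharacter G ζ) (hfaith : ∀ g : G, ζ g = ζ 1 → g = 1) (t : ℕ) (ht : Nat.card {c : ConjClasses G // ∃ g : G, ConjClasses.mk g = c ∧ orderOf g = p} = t) : ((∃ (F : Type) (_ : Field F) (_ : Fintype F), Fintype.card F = p ∧ Nonempty (G ⧸ Subgroup.center G ≃* Matrix.ProjectiveSpecialLinearGroup (Fin 2) F)) ∧ (2 * Cfsg.charDegree ζ = p + 1 ∨ 2 * Cfsg.charDegree ζ = p - 1) ∧ t = 2) ∨ p - 1 ≤ Cfsg.charDegree ζ ∨ ((p : ℝ) + 3 / 2 - Real.sqrt ((p : ℝ) + 5 / 4) ≤ (Cfsg.charDegree ζ : ℝ) ∧ (p : ℤ) ≤ (t : ℤ) ^ 2 - 3 * t + 1) := by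
  haveI : Fintype G := Fintype.ofFinite G
  have hpp : p.Prime := Fact.out
  haveI : NeZero p := ⟨hpp.ne_zero⟩
  by_cases hbig : p - 1 ≤ Cfsg.charDegree ζ
  · exact Or.inr (Or.inl hbig)
  set d := Cfsg.charDegree ζ with hd
  have hdeg : ζ 1 = (d : ℂ) := Cfsg.Lib.Block.apply_one_eq_charDegree ⟨ζ, hζ⟩
  have hfac : (Nat.card G).factorization p = 1 := by
    have h := P.card_eq_multiplicity
    rw [hP] at h
    exact ((Nat.pow_eq_self_iff hpp.one_lt).1 h.symm)
  have hdp : d + 1 < p := by omega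
  have hp11 : 11 ≤ p := by
    by_contra h
    interval_cases p <;> first | omega | (norm_num at hpp)
  have hcount := Cfsg.Lib.Feit.card_classes_mul_index (P := (P : Subgroup G)) hP hfac
  rw [ht] at hcount
  rcases Cfsg.Lib.Feit.structure_small (P := (P : Subgroup G)) (by omega) hP hfac hnn hζ hfaith
    hdeg hdp with ⟨iso, ⟨u, huP, huo, hsq⟩, h2d⟩ | ⟨hS, lam, L, hSP, hde, hLd⟩
  · refine Or.inl ⟨⟨ZMod p, inferInstance, inferInstance, ZMod.card p, iso⟩, Or.inr (by omega), ?_⟩
    have hu1 : u ≠ 1 := fun h => by rw [h, orderOf_one] at huo; omega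
    have hidx : d ≤ (Subgroup.centralizer ((P : Subgroup G) : Set G)).relIndex
        (Subgroup.normalizer ((P : Subgroup G) : Set G)) := by
      refine Cfsg.Lib.Feit.index_ge hP huP hu1
        (fun i : Fin d => ((i : ℕ) + 1) * ((i : ℕ) + 1)) (fun i j e => ?_)
        fun i => hsq _ fun hdv => by
          have := Nat.le_of_dvd (by omega) hdv
          omega
      simp only [Nat.cast_mul] at e
      have hfac' : ((((i : ℕ) + 1 : ℕ) : ZMod p) - (((j : ℕ) + 1 : ℕ) : ZMod p)) *
          ((((i : ℕ) + 1 : ℕ) : ZMod p) + (((j : ℕ) + 1 : ℕ) : ZMod p)) = 0 := by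
        linear_combination e
      rcases mul_eq_zero.1 hfac' with h' | h'
      · have h'' := (ZMod.natCast_eq_natCast_iff' _ _ p).1 (sub_eq_zero.1 h')
        rw [Nat.mod_eq_of_lt (by omega), Nat.mod_eq_of_lt (by omega)] at h''
        exact Fin.ext (by omega)
      · rw [← Nat.cast_add, CharP.cast_eq_zero_iff (ZMod p) p] at h'
        have := Nat.le_of_dvd (by omega) h'
        omega
    have ht1 : t ≠ 0 := by
      rintro rfl
      rw [zero_mul] at hcount
      omega
    have ht3 : t < 3 := by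
      by_contra h3
      have := Nat.mul_le_mul (not_lt.1 h3) hidx
      omega
    by_contra ht2
    obtain rfl : t = 1 := by omega
    obtain ⟨N, σ, hσ, hσχ⟩ := id hζ
    have hN : N = d := by
      have h := hdeg
      rw [← hσχ, Representation.char_one, Module.finrank_fin_fun] at h
      exact_mod_cast h
    have hσu : σ u ≠ 1 := fun h => hu1 (hfaith u (by
      rw [← hσχ]
      show LinearMap.trace ℂ _ (σ u) = LinearMap.trace ℂ _ (σ 1)
      rw [h, map_one σ]))
    have hle := (Cfsg.Lib.HalfDeg.eigen_count p σ (u := u) (by rw [← huo, pow_orderOf_eq_one]) hσu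
      (fun i : Fin (p - 1) => (i : ℕ) + 1) (fun i j h => by
        have h' := (ZMod.natCast_eq_natCast_iff' _ _ p).1 h
        rw [Nat.mod_eq_of_lt (by omega), Nat.mod_eq_of_lt (by omega)] at h'
        exact Fin.ext (by omega))
      (fun i => Cfsg.Lib.Feit.exists_conj_of_one_class hP ht huP hu1 fun h => by
        have := Nat.le_of_dvd (by omega) h
        omega)).1
    rw [Module.finrank_fin_fun] at hle
    omega
  obtain ⟨t', ht', -⟩ := hS.exists_t
  have hnn' : ¬ hS.P.Normal := by rw [hSP]; exact hnn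
  have he0 : 0 < Nat.card hS.E := Nat.card_pos
  obtain rfl : t' = t := by
    have h := hS.relIndex_eq
    rw [hSP] at h
    rw [h] at hcount
    refine Nat.eq_of_mul_eq_mul_left he0 ?_
    rw [mul_comm (Nat.card hS.E) t]
    omega
  have hL : Cfsg.charDegree (L.ψ 1 : G → ℂ) + Nat.card hS.E = p := by rw [hLd]; exact hde
  rcases Nat.lt_or_ge t' 3 with hlt | h3
  · rcases Nat.lt_or_ge t' 2 with h | h
    · exfalso
      rcases Nat.eq_zero_or_pos t' with rfl | ht0
      · omega
      obtain rfl : t' = 1 := by omega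
      have hd1 : d = 1 := by omega
      exact Cfsg.Lib.Feit.degree_ne_one hζ hfaith hnn' (by rw [hdeg, hd1, Nat.cast_one])
    · obtain rfl : t' = 2 := by omega
      obtain ⟨e, h2⟩ := hS.psl_of_two hζ hfaith hdeg hdp hnn' ht' hp11 rfl hde
      exact Or.inl ⟨⟨ZMod p, inferInstance, inferInstance, ZMod.card p, e⟩, Or.inl h2, rfl⟩
  refine Or.inr (Or.inr ?_)
  have hkey : Nat.card hS.E + 3 ≤ t' := by
    rcases Nat.even_or_odd (Nat.card hS.E) with hev | hod
    · have := hS.card_E_even hζ hfaith hdeg hdp hnn' ht' L hL hp h3 hev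
      rw [this] at ht' ⊢
      omega
    · obtain ⟨δ, ⟨F⟩⟩ := hS.exists_family (lam * lam)
      rcases F.sign with rfl | rfl
      · exact Cfsg.Lib.Feit.Fam.card_E_le ht' F (by omega) h3 hod hL
          (hS.family_degree_ne hζ hfaith hdeg hdp hnn' ht' hp h3 F)
      · exfalso
        obtain ⟨δ', ⟨F1⟩⟩ := hS.exists_family 1
        exact L.odd_false ht' (by omega) h3 hL hod (by omega) F F1
          (hS.family_degree_ne hζ hfaith hdeg hdp hnn' ht' hp h3 F1)
  have hp' : (p : ℝ) = (Nat.card hS.E : ℝ) * t' + 1 := by exact_mod_cast ht'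
  have hde' : (d : ℝ) + (Nat.card hS.E : ℝ) = p := by exact_mod_cast hde
  have hkey' : (Nat.card hS.E : ℝ) + 3 ≤ t' := by exact_mod_cast hkey
  refine ⟨?_, ?_⟩
  · have h : (Nat.card hS.E : ℝ) + 3 / 2 ≤ Real.sqrt ((p : ℝ) + 5 / 4) := by
      refine Real.le_sqrt_of_sq_le ?_
      nlinarith [mul_le_mul_of_nonneg_left hkey' (Nat.cast_nonneg (Nat.card hS.E) : (0 : ℝ) ≤ _)]
    linarith
  · have hp'' : (p : ℤ) = (Nat.card hS.E : ℤ) * t' + 1 := by exact_mod_cast ht'
    have hkey'' : (Nat.card hS.E : ℤ) + 3 ≤ t' := by exact_mod_cast hkey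
    nlinarith [mul_le_mul_of_nonneg_right hkey'' (Int.natCast_nonneg t')]

end Cfsg.Agent.S4704
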