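import Cfsg.Statements.S3762
import Cfsg.Agent.Lib.PGroup.CyclicNormal
import Cfsg.Agent.Lib.PGroup.Basic
-- import your own Cfsg.Agent.* helpers here

set_option autoImplicit false
open Cfsg

namespace Cfsg.Agent.S3762

open Subgroup Cfsg.Lib.CyclicNormal Cfsg.Lib.PGroup
open scoped commutatorElement

universe v
variable {G : Type v} [Group G] [Finite G] {p : ℕ} [hp : Fact p.Prime]

omit [Finite G] hp in
theorem comm_mem_of_normal {A : Subgroup G} [A.Normal] {a : G} (ha : a ∈ A) (x : G) : ⁅a, x⁆ ∈ A := by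
  rw [commutatorElement_def, show a * x * a⁻¹ * x⁻¹ = a * (x * a⁻¹ * x⁻¹) by simp [mul_assoc]]
  exact A.mul_mem ha (Normal.conj_mem inferInstance _ (A.inv_mem ha) x)

omit [Finite G] hp in
theorem comm_mul_left (a b x : G) : ⁅a * b, x⁆ = a * ⁅b, x⁆ * a⁻¹ * ⁅a, x⁆ := by
  simp [commutatorElement_def, mul_assoc]

omit [Finite G] hp in
theorem comm_mul_right (x a b : G) : ⁅x, a * b⁆ = ⁅x, a⁆ * (a * ⁅x, b⁆ * a⁻¹) := by
  simp [commutatorElement_def, mul_assoc]

omit [Finite G] hp in
/-- The `p`-th power of a product when the commutator commutes with both factors. -/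
theorem mul_pow_comm {a b : G} (h1 : Commute (a⁻¹ * (b * a * b⁻¹)) a)
    (h2 : Commute (a⁻¹ * (b * a * b⁻¹)) b) (k : ℕ) :
    (a * b) ^ k = a ^ k * (a⁻¹ * (b * a * b⁻¹)) ^ k.choose 2 * b ^ k :=
  mul_pow_formula (by simp [mul_assoc]) h1 h2 k

theorem exists_gens (H Z : Subgroup G) (hZH : Z ≤ H) :
    ∃ s : Finset G, (∀ x ∈ s, x ∈ H) ∧ H ≤ closure (↑s ∪ (Z : Set G)) ∧
      (∀ (q : ℕ), q.Prime → IsPGroup q G → q ^ s.card * Nat.card ↥Z ≤ Nat.card ↥H) := by
  classical
  suffices h : ∀ K : Subgroup G, Z ≤ K → K ≤ H →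
      (∃ s : Finset G, (∀ x ∈ s, x ∈ H) ∧ K ≤ closure (↑s ∪ (Z : Set G)) ∧
        closure (↑s ∪ (Z : Set G)) ≤ K ∧
        (∀ (q : ℕ), q.Prime → IsPGroup q G → q ^ s.card * Nat.card ↥Z ≤ Nat.card ↥K)) →
      ∃ s : Finset G, (∀ x ∈ s, x ∈ H) ∧ H ≤ closure (↑s ∪ (Z : Set G)) ∧
        (∀ (q : ℕ), q.Prime → IsPGroup q G → q ^ s.card * Nat.card ↥Z ≤ Nat.card ↥H) by
    exact h Z le_rfl hZH ⟨∅, by simp, fun x hx => subset_closure (Or.inr hx),
      (closure_le _).2 (by simp), fun q _ _ => by simp⟩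
  intro K
  induction K using WellFoundedGT.induction with
  | _ K ih =>
  intro hZK hKH ⟨s, hs, hs1, hs2, hs3⟩
  rcases eq_or_lt_of_le hKH with rfl | hlt
  · exact ⟨s, hs, hs1, hs3⟩
  obtain ⟨x, hx, hxK⟩ := SetLike.exists_of_lt hlt
  have hKlt : K < closure (↑(insert x s) ∪ (Z : Set G)) := by
    refine lt_of_le_of_ne (hs1.trans (closure_mono (by
      rw [Finset.coe_insert]; exact Set.union_subset_union_left _ (Set.subset_insert _ _))))
      fun e => hxK ?_
    exact e.ge (subset_closure (Or.inl (by simp)))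
  have hle : closure (↑(insert x s) ∪ (Z : Set G)) ≤ H := by
    rw [closure_le, Finset.coe_insert]
    rintro g ((rfl | hg) | hg)
    exacts [hx, hs g hg, hZH hg]
  refine ih _ hKlt (hZK.trans hKlt.le) hle ⟨insert x s, fun g hg => ?_, le_rfl, le_rfl,
    fun q hq hG => ?_⟩
  · rcases Finset.mem_insert.1 hg with rfl | hg
    exacts [hx, hs g hg]
  · haveI : Fact q.Prime := ⟨hq⟩
    have hxs : x ∉ s := fun h => hxK (hs2 (subset_closure (Or.inl h)))
    rw [Finset.card_insert_of_notMem hxs, pow_succ]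
    obtain ⟨a, ha⟩ := IsPGroup.iff_card.1 (hG.to_subgroup K)
    obtain ⟨b, hb⟩ := IsPGroup.iff_card.1 (hG.to_subgroup (closure (↑(insert x s) ∪ (Z : Set G))))
    have h1 := Cfsg.Lib.Fusion.card_lt_card_of_lt hKlt
    rw [ha, hb] at h1
    have h2 := (Nat.pow_lt_pow_iff_right hq.one_lt).1 h1
    calc q ^ s.card * q * Nat.card ↥Z = q * (q ^ s.card * Nat.card ↥Z) := by ring
      _ ≤ q * q ^ a := Nat.mul_le_mul_left q (ha ▸ hs3 q hq hG)
      _ = q ^ (a + 1) := (pow_succ' q a).symm
      _ ≤ _ := hb ▸ Nat.pow_le_pow_right hq.pos h2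

/-- Commutator maps into a subgroup bound the index of a centralizer. -/
theorem card_le (A T : Subgroup G) (s : Finset G) (h : ∀ a ∈ A, ∀ x ∈ s, ⁅a, x⁆ ∈ T) :
    Nat.card ↥A ≤ Nat.card ↥T ^ s.card * Nat.card ↥(A ⊓ centralizer (s : Set G)) := by
  classical
  let f : A → (s → T) := fun a x => ⟨⁅(a : G), (x : G)⁆, h a a.2 x x.2⟩
  have hrep : ∀ v, ∃ a : A, ∀ b : A, f b = v → f a = v := by
    intro v
    by_cases hv : ∃ b, f b = v
    · obtain ⟨b, hb⟩ := hv
      exact ⟨b, fun _ _ => hb⟩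
    · exact ⟨1, fun b hb => absurd ⟨b, hb⟩ hv⟩
  choose r hr using hrep
  let g : A → (s → T) × ↥(A ⊓ centralizer (s : Set G)) := fun a => ⟨f a,
    ⟨(r (f a) : G)⁻¹ * a, A.mul_mem (A.inv_mem (r (f a)).2) a.2, mem_centralizer_iff.2 fun x hx => by
      have h1 : ⁅(r (f a) : G), x⁆ = ⁅(a : G), x⁆ :=
        congrArg Subtype.val (congrFun (hr (f a) a rfl) ⟨x, hx⟩)
      rw [commutatorElement_def, commutatorElement_def] at h1
      have h2 : (r (f a) : G) * x * (r (f a) : G)⁻¹ = a * x * (a : G)⁻¹ := mul_right_cancel h1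
      calc x * ((r (f a) : G)⁻¹ * a)
          = (r (f a) : G)⁻¹ * ((r (f a) : G) * x * (r (f a) : G)⁻¹) * a := by simp [mul_assoc]
        _ = (r (f a) : G)⁻¹ * a * x := by rw [h2]; simp [mul_assoc]⟩⟩
  have hg : Function.Injective g := by
    intro a b hab
    have h1 := congrArg Prod.fst hab
    have h2 := congrArg (fun t => (t.2 : G)) hab
    simp only [g] at h1 h2
    rw [h1] at h2
    exact Subtype.ext (mul_left_cancel h2)
  have := Nat.card_le_card_of_injective g hg
  rwa [Nat.card_prod, Nat.card_pi, Finset.prod_const, Finset.card_univ, Fintype.card_coe] at this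

theorem extraspecial_of {H : Type v} [Group H] [Finite H] (hH : IsPGroup p H) (Zc : Subgroup H)
    (hcard : Nat.card ↥Zc = p) (hcen : center H = Zc) (hc : _root_.commutator H ≤ Zc)
    (hpow : ∀ g : H, g ^ p ∈ Zc) (hne : _root_.commutator H ≠ ⊥) : Cfsg.IsExtraspecial p H := by
  have heq : _root_.commutator H = Zc := by
    refine eq_of_le_of_card_ge hc ?_
    rw [hcard]
    refine ((hp.out.eq_one_or_self_of_dvd _ (hcard ▸ card_dvd_of_le hc)).resolve_left
      fun h1 => hne (card_eq_one.1 h1)).ge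
  refine ⟨⟨hH, le_antisymm ?_ ?_, heq.trans hcen.symm⟩, hcen ▸ hcard⟩
  · rw [hcen]; exact frattini_le_of_commutator_le_of_pow_mem hc hpow
  · rw [hcen, ← heq]; exact commutator_le_frattini hH

/-- The subgroup `C`. -/
def critical (Z : Subgroup G) [Z.Normal] (p : ℕ) : Subgroup G :=
  closure {g | g ∈ centralizer (Z : Set G) ∧ g ^ p ∈ Z ∧ ∀ x, ⁅g, x⁆ ∈ Z}

omit [Finite G] hp in
theorem mem_critical {Z : Subgroup G} [Z.Normal] {g : G} :
    g ∈ critical Z p ↔ g ∈ centralizer (Z : Set G) ∧ g ^ p ∈ Z ∧ ∀ x, ⁅g, x⁆ ∈ Z := by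
  refine ⟨fun hg => ?_, fun hg => subset_closure hg⟩
  induction hg using Subgroup.closure_induction with
  | mem a ha => exact ha
  | one => exact ⟨one_mem _, by simp, fun x => by simp⟩
  | mul a b _ _ iha ihb =>
    refine ⟨mul_mem iha.1 ihb.1, ?_, fun x => ?_⟩
    · have hcZ : a⁻¹ * (b * a * b⁻¹) ∈ Z := by
        have h1 := Z.inv_mem (Normal.conj_mem inferInstance _ (ihb.2.2 a⁻¹) 1)
        have h2 : a⁻¹ * (b * a * b⁻¹) = ⁅a⁻¹, b⁆ := by simp [commutatorElement_def, mul_assoc]
        rw [h2, ← commutatorElement_inv]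
        exact Z.inv_mem (ihb.2.2 a⁻¹)
      rw [mul_pow_comm (mem_centralizer_iff.1 iha.1 _ hcZ) (mem_centralizer_iff.1 ihb.1 _ hcZ)]
      exact Z.mul_mem (Z.mul_mem iha.2.1 (pow_mem hcZ _)) ihb.2.1
    · rw [comm_mul_left]
      exact Z.mul_mem (Normal.conj_mem inferInstance _ (ihb.2.2 x) a) (iha.2.2 x)
  | inv a _ iha =>
    refine ⟨inv_mem iha.1, by rw [inv_pow]; exact Z.inv_mem iha.2.1, fun x => ?_⟩
    have e : ⁅a⁻¹, x⁆ = a⁻¹ * ⁅a, x⁆⁻¹ * a⁻¹⁻¹ := by simp [commutatorElement_def, mul_assoc]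
    rw [e]
    exact Normal.conj_mem inferInstance _ (Z.inv_mem (iha.2.2 x)) _

theorem char_inf {A B : Subgroup G} (hA : A.Characteristic) (hB : B.Characteristic) :
    (A ⊓ B).Characteristic := by
  rw [characteristic_iff_comap_eq] at hA hB ⊢
  intro φ
  rw [comap_inf, hA, hB]

theorem main (hG : IsPGroup p G)
    (hsymp : ∀ A : Subgroup G, A.Characteristic → IsMulCommutative A → IsCyclic A) :
    ∃ E R : Subgroup G, (∀ e ∈ E, ∀ r ∈ R, e * r = r * e) ∧ E ⊔ R = ⊤ ∧
      (E = ⊥ ∨ Cfsg.IsExtraspecial p ↥E) ∧ (IsCyclic R ∨ (p = 2 ∧ 16 ≤ Nat.card R ∧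
        ((∃ m : ℕ, Nonempty (↥R ≃* DihedralGroup m)) ∨
          (∃ m : ℕ, Nonempty (↥R ≃* QuaternionGroup m)) ∨ Cfsg.IsQuasiDihedral ↥R))) := by
  rcases subsingleton_or_nontrivial G with hs | hnt
  · exact ⟨⊥, ⊤, fun e he r _ => Subsingleton.elim _ _, bot_sup_eq _, Or.inl rfl, Or.inl inferInstance⟩
  obtain ⟨Z, -, ⟨hZc, hZab⟩, hZmax⟩ := Finite.exists_le_maximal
    (p := fun A : Subgroup G => A.Characteristic ∧ IsMulCommutative A) (a := ⊥)
    ⟨botCharacteristic, inferInstance⟩
  haveI := hZc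
  have hZcyc := hsymp Z hZc hZab
  have hmax : ∀ A : Subgroup G, A.Characteristic → IsMulCommutative A → Z ≤ A → A ≤ Z :=
    fun A h1 h2 h3 => hZmax ⟨h1, h2⟩ h3
  set C := critical Z p with hCdef
  haveI hCchar : C.Characteristic := by
    refine characteristic_iff_map_le.2 fun φ => ?_
    have hZφ := characteristic_iff_map_eq.1 hZc φ
    rw [hCdef, critical, MonoidHom.map_closure, closure_le]
    rintro _ ⟨g, ⟨hg1, hg2, hg3⟩, rfl⟩
    refine subset_closure ⟨mem_centralizer_iff.2 fun x hx => ?_, ?_, fun x => ?_⟩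
    · rw [SetLike.mem_coe, ← hZφ] at hx
      obtain ⟨y, hy, rfl⟩ := hx
      rw [← map_mul, ← map_mul, mem_centralizer_iff.1 hg1 y hy]
    · rw [← map_pow, ← hZφ]; exact mem_map_of_mem _ hg2
    · rw [← hZφ]
      refine ⟨⁅g, φ.symm x⁆, hg3 _, ?_⟩
      rw [map_commutatorElement]
      simp
  have hZC : Z ≤ C := by
    intro z hz
    refine mem_critical.2 ⟨?_, Z.pow_mem hz p, fun x => comm_mem_of_normal hz x⟩
    exact mem_centralizer_iff.2 fun y hy =>
      congrArg Subtype.val (hZab.is_comm.comm ⟨y, hy⟩ ⟨z, hz⟩)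
  -- `C` contains its centralizer up to `Z`
  have hA2 : ∀ A : Subgroup G, A.Characteristic → A ≤ C →
      C ⊓ centralizer (A : Set G) ⊓ A ≤ Z := by
    intro A hA hAC
    have hB : (C ⊓ centralizer (A : Set G) ⊓ A ⊔ Z).Characteristic := by
      haveI := char_inf (char_inf hCchar (inferInstance : (centralizer (A : Set G)).Characteristic)) hA
      refine characteristic_iff_map_eq.2 fun φ => ?_
      rw [Subgroup.map_sup, characteristic_iff_map_eq.1 hZc φ,
        characteristic_iff_map_eq.1 this φ]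
    refine le_sup_left.trans (hmax _ hB ?_ le_sup_right)
    refine ⟨⟨fun a b => Subtype.ext ?_⟩⟩
    have hgen : C ⊓ centralizer (A : Set G) ⊓ A ⊔ Z ≤
        centralizer ((C ⊓ centralizer (A : Set G) ⊓ A ⊔ Z : Subgroup G) : Set G) := by
      refine sup_le ?_ ?_ <;> rw [le_centralizer_iff] <;> refine sup_le ?_ ?_
      · exact fun x hx => mem_centralizer_iff.2 fun y hy => mem_centralizer_iff.1 hx.1.2 y hy.2
      · exact fun x hx => mem_centralizer_iff.2 fun y hy =>
          (mem_centralizer_iff.1 (mem_critical.1 hy.1.1).1 x hx).symm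
      · exact fun x hx => mem_centralizer_iff.2 fun y hy =>
          mem_centralizer_iff.1 (mem_critical.1 hx.1.1).1 y hy
      · exact fun x hx => mem_centralizer_iff.2 fun y hy =>
          congrArg Subtype.val (hZab.is_comm.comm ⟨y, hy⟩ ⟨x, hx⟩)
    exact (mem_centralizer_iff.1 (hgen b.2) a a.2)
  have hCC : centralizer (C : Set G) ≤ Z := by
    by_contra hnle
    have hQn : (centralizer (C : Set G)).Normal := inferInstance
    have hne : (centralizer (C : Set G)).map (QuotientGroup.mk' Z) ≠ ⊥ := by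
      rw [Ne, Subgroup.map_eq_bot_iff, QuotientGroup.ker_mk']
      exact hnle
    haveI := hQn.map (QuotientGroup.mk' Z) (QuotientGroup.mk'_surjective Z)
    obtain ⟨q, ⟨g, hg, rfl⟩, hqc, hqo⟩ :=
      exists_mem_center_orderOf_eq (hG.to_quotient Z) hne
    have hgC : g ∈ C := by
      refine mem_critical.2 ⟨centralizer_le hZC hg, ?_, fun x => ?_⟩
      · rw [← QuotientGroup.eq_one_iff]
        rw [← hqo]
        exact (map_pow (QuotientGroup.mk' Z) g _).trans (pow_orderOf_eq_one _)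
      · rw [← QuotientGroup.eq_one_iff]
        exact (map_commutatorElement (QuotientGroup.mk' Z) g x).trans
          (commutatorElement_eq_one_iff_mul_comm.2
            (mem_center_iff.1 hqc (QuotientGroup.mk' Z x)).symm)
    have hgZ : g ∈ Z := hA2 C hCchar le_rfl ⟨⟨hgC, hg⟩, hgC⟩
    rw [(QuotientGroup.eq_one_iff g).2 hgZ |> fun h => (show QuotientGroup.mk' Z g = 1 from h),
      orderOf_one] at hqo
    exact hp.out.one_lt.ne hqo
  -- notation for the cyclic group `Z`
  obtain ⟨u, rfl⟩ := (Subgroup.isCyclic_iff_exists_zpowers_eq_top Z).1 hZcyc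
  obtain ⟨n, hn⟩ := IsPGroup.iff_orderOf.1 hG u
  have hn1 : 1 ≤ n := by
    by_contra h0
    have hu1 : u = 1 := orderOf_eq_one_iff.1 (by rw [hn, show n = 0 by omega, pow_zero])
    haveI := hG.center_nontrivial
    obtain ⟨w, hw, hw1⟩ := (center G).bot_or_exists_ne_one.resolve_left
      (nontrivial_iff_ne_bot _ |>.1 inferInstance)
    have := hCC (center_le_centralizer _ hw)
    rw [hu1, zpowers_one_eq_bot] at this
    exact hw1 this
  set z := u ^ ((p : ℤ) ^ (n - 1)) with hzdef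
  set Z1 := zpowers z with hZ1
  have hone : ∀ a : ℤ, u ^ a = 1 ↔ (p : ℤ) ^ n ∣ a := by
    intro a
    rw [← orderOf_dvd_iff_zpow_eq_one, hn, Nat.cast_pow]
  have hzp : z ^ p = 1 := by
    rw [hzdef, ← zpow_natCast, ← zpow_mul, hone, ← pow_succ, show n - 1 + 1 = n by omega]
  have hz1 : z ≠ 1 := by
    rw [hzdef, Ne, hone]
    intro hd
    have := Int.natAbs_dvd_natAbs.2 hd
    simp only [Int.natAbs_pow, Int.natAbs_natCast] at this
    have := (Nat.pow_dvd_pow_iff_le_right hp.out.one_lt).1 this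
    omega
  have hzord : orderOf z = p := orderOf_eq_prime hzp hz1
  have hZ1card : Nat.card ↥Z1 = p := by rw [hZ1, Nat.card_zpowers, hzord]
  have hZ1Z : Z1 ≤ zpowers u := zpowers_le.2 (zpow_mem (mem_zpowers u) _)
  have hsmall : ∀ w ∈ zpowers u, w ^ p = 1 → w ∈ Z1 := by
    rintro _ ⟨i, rfl⟩ hw
    change (u ^ i) ^ p = 1 at hw
    rw [← zpow_natCast, ← zpow_mul, hone, show n = n - 1 + 1 by omega, pow_succ] at hw
    obtain ⟨c, rfl⟩ := Int.dvd_of_mul_dvd_mul_right (Int.natCast_ne_zero.2 hp.out.ne_zero) hw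
    refine ⟨c, ?_⟩
    change z ^ c = _
    rw [hzdef, ← zpow_mul]
  haveI : Z1.Normal := by
    refine ⟨fun x hx g => hsmall _ (Normal.conj_mem inferInstance _ (hZ1Z hx) g) ?_⟩
    obtain ⟨i, rfl⟩ := hx
    rw [conj_pow, ← zpow_natCast, ← zpow_mul, mul_comm, zpow_mul, zpow_natCast, hzp, one_zpow,
      mul_one, mul_inv_cancel]
  have hZ1c : Z1 ≤ center G := le_center_of_card_eq_prime hG hZ1card
  have hcent1 : ∀ w ∈ Z1, ∀ x : G, Commute w x := fun w hw x =>
    (mem_center_iff.1 (hZ1c hw) x).symm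
  have hcu : ∀ c ∈ C, Commute c u := fun c hc =>
    (mem_centralizer_iff.1 (mem_critical.1 hc).1 u (mem_zpowers u)).symm
  have hCCZ1 : ∀ a ∈ C, ∀ b ∈ C, ⁅a, b⁆ ∈ Z1 := by
    intro a ha b hb
    have hcomm : ∀ i : ℕ, ⁅a ^ i, b⁆ = ⁅a, b⁆ ^ i := by
      intro i
      induction i with
      | zero => simp
      | succ i ih =>
        rw [pow_succ', comm_mul_left, ih,
          ← mem_centralizer_iff.1 (mem_critical.1 ha).1 _ (pow_mem ((mem_critical.1 ha).2.2 b) i),
          mul_inv_cancel_right, ← pow_succ]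
    refine hsmall _ ((mem_critical.1 ha).2.2 b) ?_
    rw [← hcomm, commutatorElement_eq_one_iff_mul_comm]
    exact mem_centralizer_iff.1 (mem_critical.1 hb).1 _ (mem_critical.1 ha).2.1
  -- `p`-th powers of elements of `C` are not generators of `Z`
  have hpowC : ∀ x ∈ C, 2 ≤ n → ∃ j : ℤ, x ^ p = u ^ (p * j) := by
    intro x hx hn2
    by_contra hnot
    set K : Subgroup G :=
      { carrier := {c | c ∈ C ∧ c ^ p ∈ zpowers (u ^ p)}
        one_mem' := ⟨one_mem _, by simp⟩
        inv_mem' := fun {c} hc => ⟨inv_mem hc.1, by rw [inv_pow]; exact inv_mem hc.2⟩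
        mul_mem' := by
          intro a b ha hb
          refine ⟨mul_mem ha.1 hb.1, ?_⟩
          have h1 : a⁻¹ * (b * a * b⁻¹) = ⁅a⁻¹, b⁆ := by simp [commutatorElement_def, mul_assoc]
          have h2 := hCCZ1 _ (inv_mem ha.1) _ hb.1
          rw [mul_pow_comm (h1 ▸ hcent1 _ h2 a) (h1 ▸ hcent1 _ h2 b)]
          refine mul_mem (mul_mem ha.2 (pow_mem ?_ _)) hb.2
          rw [h1]
          refine zpowers_le.2 (?_ : z ∈ zpowers (u ^ p)) h2
          refine ⟨(p : ℤ) ^ (n - 2), ?_⟩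
          change (u ^ p) ^ _ = z
          rw [hzdef, ← zpow_natCast, ← zpow_mul, ← pow_succ', show n - 2 + 1 = n - 1 by omega] }
      with hKdef
    have hKC : K ≤ C := fun c hc => hc.1
    have hKchar : K.Characteristic := by
      refine characteristic_iff_map_le.2 fun φ => ?_
      rintro _ ⟨c, hc, rfl⟩
      refine ⟨characteristic_iff_map_le.1 hCchar φ ⟨c, hc.1, rfl⟩, ?_⟩
      obtain ⟨i, hi⟩ := hc.2
      obtain ⟨k, hk⟩ := characteristic_iff_map_le.1 hZc φ ⟨u, mem_zpowers u, rfl⟩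
      refine ⟨k * i, ?_⟩
      rw [← map_pow, ← hi]
      change (u ^ p) ^ (k * i) = φ ((u ^ p) ^ i)
      rw [map_zpow, map_pow, show φ u = u ^ k from hk.symm, ← zpow_natCast, ← zpow_natCast,
        ← zpow_mul, ← zpow_mul, ← zpow_mul]
      congr 1
      ring
    have hZK : zpowers u ≤ K := by
      rintro _ ⟨i, rfl⟩
      refine ⟨hZC (zpow_mem (mem_zpowers u) i), i, ?_⟩
      change (u ^ p) ^ i = (u ^ i) ^ p
      rw [← zpow_natCast, ← zpow_natCast, ← zpow_mul, ← zpow_mul, mul_comm]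
    have hxK : x ∉ K := by
      rintro ⟨-, j, hj⟩
      refine hnot ⟨j, ?_⟩
      rw [← hj]
      change (u ^ p) ^ j = _
      rw [← zpow_natCast, ← zpow_mul]
    have hlt : K < C := lt_of_le_of_ne hKC fun e => hxK (e ▸ hx)
    obtain ⟨s, hs, hgen, hs3⟩ := exists_gens K (zpowers u) hZK
    have h1 := card_le C Z1 s fun a ha x hxs => hCCZ1 a ha x (hKC (hs x hxs))
    rw [hZ1card] at h1
    have h2 : C ⊓ centralizer (s : Set G) ≤ C ⊓ centralizer (K : Set G) := by
      refine le_inf inf_le_left fun g hg => ?_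
      have : K ≤ centralizer ({g} : Set G) := by
        refine hgen.trans ((closure_le _).2 ?_)
        rintro y (hy | hy) <;> simp only [SetLike.mem_coe, mem_centralizer_singleton_iff]
        · exact mem_centralizer_iff.1 hg.2 y hy
        · exact mem_centralizer_iff.1 (mem_critical.1 hg.1).1 y hy
      exact mem_centralizer_iff.2 fun y hy => mem_centralizer_singleton_iff.1 (this hy)
    have h3 : ¬ C ⊓ centralizer (K : Set G) ≤ zpowers u := by
      intro hle
      have h4 := h1.trans (Nat.mul_le_mul_left _ (Subgroup.card_le_of_le (h2.trans hle)))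
      exact (Cfsg.Lib.Fusion.card_lt_card_of_lt hlt).not_ge (h4.trans (hs3 p hp.out hG))
    obtain ⟨a, haD, haZ⟩ := SetLike.not_le_iff_exists.1 h3
    by_cases haK : a ∈ K
    · exact haZ (hA2 K hKchar hKC ⟨haD, haK⟩)
    · -- then `C` is generated by `K` and a central element
      have h5 : C ≤ K ⊔ zpowers a := by
        intro c hc
        obtain ⟨i, hi⟩ : ∃ i : ℤ, u ^ i = a ^ p := mem_zpowers_iff.1 (mem_critical.1 haD.1).2.1
        obtain ⟨j, hj⟩ : ∃ j : ℤ, u ^ j = c ^ p := mem_zpowers_iff.1 (mem_critical.1 hc).2.1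
        have hip : ¬ (p : ℤ) ∣ i := by
          rintro ⟨l, rfl⟩
          exact haK ⟨haD.1, l, by rw [← hi, zpow_mul, zpow_natCast]⟩
        obtain ⟨α, β, hab⟩ :=
          ((Nat.prime_iff_prime_int.1 hp.out).coprime_iff_not_dvd.2 hip)
        have hk : c * a ^ (-(β * j)) ∈ K := by
          refine ⟨C.mul_mem hc (C.zpow_mem haD.1 _), ?_⟩
          have h1 : c⁻¹ * (a ^ (-(β * j)) * c * (a ^ (-(β * j)))⁻¹) =
              ⁅c⁻¹, a ^ (-(β * j))⁆ := by simp [commutatorElement_def, mul_assoc]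
          have h2 := hCCZ1 _ (inv_mem hc) _ (C.zpow_mem haD.1 (-(β * j)))
          rw [mul_pow_comm (h1 ▸ hcent1 _ h2 c) (h1 ▸ hcent1 _ h2 _), h1]
          obtain ⟨l, hl⟩ := pow_mem h2 (p.choose 2)
          refine ⟨α * j + l * (p : ℤ) ^ (n - 2), ?_⟩
          change (u ^ p) ^ _ = _
          rw [← hl, ← hj, ← zpow_natCast, ← zpow_natCast (a ^ _), ← zpow_mul, ← zpow_mul a,
            mul_comm (-(β * j)), zpow_mul a, zpow_natCast a, ← hi, ← zpow_mul]
          change u ^ _ = u ^ j * z ^ l * u ^ _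
          rw [hzdef, ← zpow_mul, ← zpow_add, ← zpow_add,
            show (p : ℤ) ^ (n - 1) = p * (p : ℤ) ^ (n - 2) by
              rw [← pow_succ', show n - 2 + 1 = n - 1 by omega]]
          congr 1
          linear_combination j * hab
        have := mul_mem (mem_sup_left hk) (mem_sup_right (zpow_mem (mem_zpowers a) (β * j)) :
          a ^ (β * j) ∈ K ⊔ zpowers a)
        rwa [mul_assoc, ← zpow_add, neg_add_cancel, zpow_zero, mul_one] at this
      have : a ∈ centralizer (C : Set G) := by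
        refine mem_centralizer_iff.2 fun c hc => mem_centralizer_singleton_iff.1
          ((show C ≤ centralizer ({a} : Set G) from h5.trans (sup_le (fun k hk =>
            mem_centralizer_singleton_iff.2 (mem_centralizer_iff.1 haD.2 k hk))
            (zpowers_le.2 (mem_centralizer_singleton_iff.2 rfl)))) hc)
      exact haZ (hA2 C hCchar le_rfl ⟨⟨haD.1, this⟩, haD.1⟩)
  -- the extraspecial part
  have hS : ∀ a ∈ C, ∀ b ∈ C, a ^ p ∈ Z1 → b ^ p ∈ Z1 → (a * b) ^ p ∈ Z1 := by
    intro a ha b hb ha' hb'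
    have h1 : a⁻¹ * (b * a * b⁻¹) = ⁅a⁻¹, b⁆ := by simp [commutatorElement_def, mul_assoc]
    have h2 := hCCZ1 _ (inv_mem ha) _ hb
    rw [mul_pow_comm (h1 ▸ hcent1 _ h2 a) (h1 ▸ hcent1 _ h2 b), h1]
    exact mul_mem (mul_mem ha' (pow_mem h2 _)) hb'
  obtain ⟨E, hE1, ⟨-, hES, hEZ⟩, hEmax⟩ := Finite.exists_le_maximal
    (p := fun E : Subgroup G => Z1 ≤ E ∧ (∀ x ∈ E, x ∈ C ∧ x ^ p ∈ Z1) ∧ E ⊓ zpowers u ≤ Z1)
    (a := Z1) ⟨le_rfl, fun x hx => ⟨hZC (hZ1Z hx), pow_mem hx p⟩, inf_le_left⟩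
  have hEC : E ≤ C := fun x hx => (hES x hx).1
  have hgenC : C ≤ E ⊔ zpowers u := by
    intro c hc
    obtain ⟨j, hj⟩ : ∃ j : ℤ, (c * u ^ j) ^ p ∈ Z1 := by
      rcases Nat.lt_or_ge n 2 with hn2 | hn2
      · refine ⟨0, ?_⟩
        rw [zpow_zero, mul_one]
        obtain ⟨i, hi⟩ := (mem_critical.1 hc).2.1
        rw [← hi]
        refine ⟨i, ?_⟩
        change z ^ i = u ^ i
        rw [hzdef, show n - 1 = 0 by omega, pow_zero, zpow_one]
      · obtain ⟨j, hj⟩ := hpowC c hc hn2
        refine ⟨-j, ?_⟩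
        rw [((hcu c hc).zpow_right (-j)).mul_pow, hj, ← zpow_natCast, ← zpow_mul, ← zpow_add,
          show (p : ℤ) * j + -j * p = 0 by ring, zpow_zero]
        exact one_mem _
    set x := c * u ^ j
    have hxC : x ∈ C := mul_mem hc (hZC (zpow_mem (mem_zpowers u) j))
    suffices hx : x ∈ E ⊔ zpowers u by
      have := mul_mem hx (mem_sup_right (zpow_mem (mem_zpowers u) (-j)) :
        u ^ (-j) ∈ E ⊔ zpowers u)
      rwa [mul_assoc, ← zpow_add, add_neg_cancel, zpow_zero, mul_one] at this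
    by_contra hx
    have hxn : x ∈ normalizer (E : Set G) := by
      refine Subgroup.mem_normalizer_iff_map_conj_eq.2 (eq_of_le_of_card_ge ?_
        (le_of_eq (card_map_of_injective (MulAut.conj x).injective).symm))
      rintro _ ⟨e, he, rfl⟩
      have h1 : ⁅x, e⁆ * e ∈ E := mul_mem (hE1 (hCCZ1 x hxC e (hEC he))) he
      simpa [commutatorElement_def] using h1
    refine hx (mem_sup_left ((hEmax (y := E ⊔ zpowers x) ⟨hE1.trans le_sup_left, ?_, ?_⟩ le_sup_left)
      (mem_sup_right (mem_zpowers x))))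
    · intro w hw
      rw [← SetLike.mem_coe, coe_mul_of_right_le_normalizer_left _ _ (zpowers_le.2 hxn),
        Set.mem_mul] at hw
      obtain ⟨e, he, b, ⟨i, rfl⟩, rfl⟩ := hw
      refine ⟨mul_mem (hEC he) (zpow_mem hxC i), hS e (hEC he) _ (zpow_mem hxC i) (hES e he).2 ?_⟩
      rw [← zpow_natCast, ← zpow_mul, mul_comm, zpow_mul, zpow_natCast]
      exact zpow_mem hj i
    · intro w hw
      obtain ⟨hw, hwu⟩ := Subgroup.mem_inf.1 hw
      rw [← SetLike.mem_coe,
        coe_mul_of_right_le_normalizer_left _ _ (zpowers_le.2 hxn), Set.mem_mul] at hw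
      obtain ⟨e, he, b, ⟨i, rfl⟩, rfl⟩ := hw
      by_cases hi : (p : ℤ) ∣ i
      · obtain ⟨l, rfl⟩ := hi
        refine hEZ (Subgroup.mem_inf.2 ⟨mul_mem he (hE1 ?_), hwu⟩)
        change x ^ ((p : ℤ) * l) ∈ Z1
        rw [zpow_mul, zpow_natCast]
        exact zpow_mem hj l
      · exfalso
        have hxi : x ^ i ∈ E ⊔ zpowers u := by
          have := mul_mem (mem_sup_left (inv_mem he) : e⁻¹ ∈ E ⊔ zpowers u) (mem_sup_right hwu)
          rwa [inv_mul_cancel_left] at this
        obtain ⟨α, β, hab⟩ := ((Nat.prime_iff_prime_int.1 hp.out).coprime_iff_not_dvd.2 hi)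
        refine hx ?_
        have e1 : x = (x ^ p) ^ α * (x ^ i) ^ β := by
          rw [← zpow_natCast, ← zpow_mul, ← zpow_mul, ← zpow_add,
            show (p : ℤ) * α + i * β = 1 by linarith, zpow_one]
        rw [e1]
        exact mul_mem (zpow_mem (mem_sup_left (hE1 hj)) α) (zpow_mem hxi β)
  haveI hEn : E.Normal := by
    refine ⟨fun e he g => ?_⟩
    have h1 : ⁅g, e⁆ ∈ Z1 := by
      rw [← commutatorElement_inv]
      refine inv_mem (hsmall _ ((mem_critical.1 (hEC he)).2.2 g) ?_)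
      have hcomm : ∀ i : ℕ, ⁅e ^ i, g⁆ = ⁅e, g⁆ ^ i := by
        intro i
        induction i with
        | zero => simp
        | succ i ih =>
          rw [pow_succ', comm_mul_left, ih, ← mem_centralizer_iff.1 (mem_critical.1 (hEC he)).1 _
            (pow_mem ((mem_critical.1 (hEC he)).2.2 g) i), mul_inv_cancel_right, ← pow_succ]
      rw [← hcomm, commutatorElement_eq_one_iff_mul_comm]
      exact (hcent1 _ (hES e he).2 g).eq
    have h2 := mul_mem (hE1 h1) he
    rw [commutatorElement_def, inv_mul_cancel_right] at h2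
    exact h2
  have hGE : ∀ g : G, ∀ e ∈ E, ⁅g, e⁆ ∈ Z1 := by
    intro g e he
    refine hEZ (Subgroup.mem_inf.2 ⟨?_, ?_⟩)
    · rw [← commutatorElement_inv]; exact inv_mem (comm_mem_of_normal he g)
    · rw [← commutatorElement_inv]; exact inv_mem ((mem_critical.1 (hEC he)).2.2 g)
  set R := centralizer (E : Set G) with hR
  have hZR : zpowers u ≤ R := zpowers_le.2 (mem_centralizer_iff.2 fun e he => (hcu e (hEC he)).eq)
  have hRZ : ∀ r ∈ R, r * u = u * r → r ∈ zpowers u := by
    intro r hr hru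
    refine hCC (centralizer_le (show C ≤ E ⊔ zpowers u from hgenC) ?_)
    refine mem_centralizer_iff.2 fun w hw => mem_centralizer_singleton_iff.1
      ((show E ⊔ zpowers u ≤ centralizer ({r} : Set G) from sup_le
        (fun e he => mem_centralizer_singleton_iff.2 (mem_centralizer_iff.1 hr e he))
        (zpowers_le.2 (mem_centralizer_singleton_iff.2 hru.symm))) hw)
  have hER : E ⊔ R = ⊤ := by
    obtain ⟨s, hs, hgen, hs3⟩ := exists_gens E Z1 hE1
    have h1 := card_le ⊤ Z1 s fun a _ x hxs => hGE a x (hs x hxs)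
    rw [hZ1card, Subgroup.card_top, top_inf_eq] at h1
    have h2 : centralizer (s : Set G) ≤ R := by
      intro g hg
      have : E ≤ centralizer ({g} : Set G) := by
        refine hgen.trans ((closure_le _).2 ?_)
        rintro y (hy | hy) <;> simp only [SetLike.mem_coe, mem_centralizer_singleton_iff]
        · exact mem_centralizer_iff.1 hg y hy
        · exact (hcent1 y hy g).eq
      exact mem_centralizer_iff.2 fun y hy => mem_centralizer_singleton_iff.1 (this hy)
    have h4 := h1.trans (Nat.mul_le_mul_left _ (Subgroup.card_le_of_le h2))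
    have h5 : E ⊓ R ≤ Z1 := fun w hw => hEZ ⟨hw.1, hRZ w hw.2 (hcu w (hEC hw.1)).eq⟩
    have h6 : Nat.card ↥E * Nat.card ↥R = Nat.card ↥(E ⊔ R) * Nat.card ↥(E ⊓ R) := by
      have a1 := relIndex_mul_relIndex ⊥ E (E ⊔ R) bot_le le_sup_left
      have a2 := relIndex_mul_relIndex ⊥ (E ⊓ R) R bot_le inf_le_right
      rw [relIndex_bot_left, relIndex_bot_left] at a1 a2
      have a3 : E.relIndex (E ⊔ R) = E.relIndex R := by rw [sup_comm, relIndex_sup_right]
      rw [← a1, ← a2, a3, inf_relIndex_right]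
      ring
    have h7 := Subgroup.card_le_of_le h5
    rw [hZ1card] at h7
    have h8 := hs3 p hp.out hG
    rw [hZ1card] at h8
    refine eq_top_of_le_card _ ?_
    refine Nat.le_of_mul_le_mul_right ?_ hp.out.pos
    calc Nat.card G * p ≤ p ^ s.card * p * Nat.card ↥R := by nlinarith
      _ ≤ Nat.card ↥E * Nat.card ↥R := Nat.mul_le_mul_right _ h8
      _ = _ := h6
      _ ≤ _ := Nat.mul_le_mul_left _ h7
  have hEext : E ≤ zpowers u ∨ Cfsg.IsExtraspecial p ↥E := by
    by_cases hle : E ≤ zpowers u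
    · exact Or.inl hle
    right
    refine extraspecial_of (hG.to_subgroup E) (Z1.subgroupOf E)
      ((Nat.card_congr (subgroupOfEquivOfLe hE1).toEquiv).trans hZ1card) ?_ ?_
      (fun g => mem_subgroupOf.2 (by rw [coe_pow]; exact (hES g g.2).2)) ?_
    · refine le_antisymm (fun e he => mem_subgroupOf.2 ?_) (fun e he => ?_)
      · refine hEZ ⟨e.2, hRZ e (mem_centralizer_iff.2 fun x hx => ?_) (hcu e (hEC e.2)).eq⟩
        exact congrArg Subtype.val (mem_center_iff.1 he ⟨x, hx⟩)
      · exact mem_center_iff.2 fun x => Subtype.ext (hcent1 _ (mem_subgroupOf.1 he) x).eq.symm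
    · rw [_root_.commutator_def, Subgroup.commutator_le]
      exact fun a _ b _ => mem_subgroupOf.2 (hCCZ1 a (hEC a.2) b (hEC b.2))
    · intro hbot
      apply hle
      intro e he
      refine hRZ e (mem_centralizer_iff.2 fun x hx => ?_) (hcu e (hEC he)).eq
      have h1 : (⁅(⟨x, hx⟩ : E), ⟨e, he⟩⁆ : E) ∈ (⊥ : Subgroup E) := by
        rw [← hbot, _root_.commutator_def]
        exact commutator_mem_commutator (mem_top _) (mem_top _)
      exact congrArg Subtype.val (commutatorElement_eq_one_iff_mul_comm.1 (mem_bot.1 h1))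
  have hEc : ∀ e ∈ E, ∀ r ∈ R, e * r = r * e := fun e he r hr => mem_centralizer_iff.1 hr e he
  -- the structure of `R`
  have hdata : Data p n (⟨u, hZR (mem_zpowers u)⟩ : R) := by
    refine ⟨hG.to_subgroup R, by rw [← hn, ← Subgroup.orderOf_coe], fun g => ?_, fun g hg => ?_⟩
    · obtain ⟨i, hi⟩ := mem_zpowers_iff.1
        ((inferInstance : (zpowers u).Normal).conj_mem u (mem_zpowers u) g)
      exact mem_zpowers_iff.2 ⟨i, Subtype.ext (by simpa using hi)⟩
    · obtain ⟨i, hi⟩ := mem_zpowers_iff.1 (hRZ g g.2 (congrArg Subtype.val hg))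
      exact mem_zpowers_iff.2 ⟨i, Subtype.ext (by simpa using hi)⟩
  have hsmallE : E ≤ zpowers u → R = ⊤ := by
    intro hle
    rw [eq_top_iff]
    intro g _
    refine mem_centralizer_iff.2 fun e he => (hcent1 e (hEZ ⟨he, hle he⟩) g).eq
  have finish : (IsCyclic R ∨ (p = 2 ∧ 16 ≤ Nat.card R ∧
        ((∃ m : ℕ, Nonempty (↥R ≃* DihedralGroup m)) ∨
          (∃ m : ℕ, Nonempty (↥R ≃* QuaternionGroup m)) ∨ Cfsg.IsQuasiDihedral ↥R))) →
      ∃ E' R' : Subgroup G, (∀ e ∈ E', ∀ r ∈ R', e * r = r * e) ∧ E' ⊔ R' = ⊤ ∧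
        (E' = ⊥ ∨ Cfsg.IsExtraspecial p ↥E') ∧ (IsCyclic R' ∨ (p = 2 ∧ 16 ≤ Nat.card R' ∧
          ((∃ m : ℕ, Nonempty (↥R' ≃* DihedralGroup m)) ∨
            (∃ m : ℕ, Nonempty (↥R' ≃* QuaternionGroup m)) ∨ Cfsg.IsQuasiDihedral ↥R'))) := by
    intro hcase
    rcases hEext with hle | hext
    · exact ⟨⊥, R, fun e he r _ => by rw [mem_bot.1 he, one_mul, mul_one],
        by rw [bot_sup_eq, hsmallE hle], Or.inl rfl, hcase⟩
    · exact ⟨E, R, hEc, hER, Or.inr hext, hcase⟩
  by_cases hna : IsMulCommutative R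
  · refine finish (Or.inl ?_)
    have hRu : R = zpowers u := le_antisymm (fun r hr => hRZ r hr (congrArg Subtype.val
      (hna.is_comm.comm ⟨r, hr⟩ ⟨u, hZR (mem_zpowers u)⟩))) hZR
    rw [hRu]; infer_instance
  have hn2 := hdata.two_le hna
  by_cases hn3 : 3 ≤ n
  · rcases hdata.alternative hna with ⟨hp2, hcard, hD⟩ | ⟨h3, m, hm, hmc⟩
    · exact finish (Or.inr ⟨hp2, hcard ▸ (show 2 ^ 4 ≤ 2 ^ (n + 1) from
        Nat.pow_le_pow_right two_pos (by omega)), hD⟩)
    -- otherwise there is a non-cyclic characteristic abelian subgroup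
    exfalso
    obtain ⟨y, hyu, hyp, hy⟩ := hdata.exists_y hn2 h3 hm hmc
    set M := centralizer ((zpowers (u ^ p) : Subgroup G) : Set G)
    have hMmem : ∀ g, g ∈ M ↔ Commute g (u ^ p) := by
      intro g
      refine ⟨fun hg => (mem_centralizer_iff.1 hg _ (mem_zpowers _)).symm, fun hg => ?_⟩
      refine mem_centralizer_iff.2 ?_
      rintro _ ⟨i, rfl⟩
      exact (hg.zpow_right i).eq.symm
    have hMchar : M.Characteristic := by
      haveI : (zpowers (u ^ p)).Characteristic := by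
        refine characteristic_iff_map_le.2 fun φ => ?_
        rw [MonoidHom.map_zpowers, zpowers_le]
        obtain ⟨k, hk⟩ := characteristic_iff_map_le.1 hZc φ ⟨u, mem_zpowers u, rfl⟩
        refine ⟨k, ?_⟩
        change (u ^ p) ^ k = φ (u ^ p)
        rw [map_pow, show φ u = u ^ k from hk.symm, ← zpow_natCast, ← zpow_natCast, ← zpow_mul,
          ← zpow_mul, mul_comm]
      exact inferInstance
    set Ω : Subgroup G := closure {g | g ∈ M ∧ g ^ p = 1}
    have hΩ : Ω.Characteristic := by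
      refine characteristic_iff_map_le.2 fun φ => ?_
      rw [MonoidHom.map_closure, closure_le]
      rintro _ ⟨g, ⟨hg, hgp⟩, rfl⟩
      exact subset_closure ⟨characteristic_iff_map_le.1 hMchar φ ⟨g, hg, rfl⟩,
        by rw [← map_pow, hgp, map_one]⟩
    have hcyc := hsymp (Ω ⊓ centralizer (Ω : Set G))
      (char_inf hΩ (inferInstance)) ⟨⟨fun a b => Subtype.ext
        (mem_centralizer_iff.1 b.2.2 a a.2.1)⟩⟩
    have hyM : (y : G) ∈ M := by
      rw [hMmem]
      have h1 := (hdata.card_centralizer hn2 hyu hyp hy).1.ge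
        (mem_sup_left (mem_zpowers y))
      exact congrArg Subtype.val (mem_centralizer_singleton_iff.1 h1)
    have hyΩ : (y : G) ∈ Ω := subset_closure ⟨hyM, by rw [← coe_pow, hyp, coe_one]⟩
    have hzΩ : z ∈ Ω := subset_closure ⟨(hMmem z).2 (hcent1 z (mem_zpowers z) _), hzp⟩
    have hyc : (y : G) ∈ centralizer (Ω : Set G) := by
      rw [centralizer_closure]
      refine mem_centralizer_iff.2 fun g hg => ?_
      obtain ⟨hgM, hgp⟩ := hg
      have hgER : g ∈ ((E ⊔ R : Subgroup G) : Set G) := by rw [hER]; exact mem_top g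
      rw [coe_mul_of_left_le_normalizer_right E R (fun e he => centralizer_le_normalizer _
        (mem_centralizer_iff.2 fun r hr => (hEc e he r hr).symm)), Set.mem_mul] at hgER
      obtain ⟨e, he, r, hr, rfl⟩ := hgER
      have hrM : Commute r (u ^ p) := by
        have h1 : Commute e (u ^ p) := (hcu e (hEC he)).pow_right p
        have h2 := h1.inv_left.mul_left ((hMmem _).1 hgM)
        rwa [inv_mul_cancel_left] at h2
      obtain ⟨i, t, hit⟩ := hdata.exists_coord hn2 hy
        (g := ⟨r, hr⟩) (Subtype.ext hrM.eq)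
      have hrp : r ^ p ∈ Z1 := by
        have h1 : r ^ p = (e ^ p)⁻¹ := by
          rw [eq_inv_iff_mul_eq_one, ← (show Commute r e from (hEc e he r hr).symm).mul_pow,
            ← hEc e he r hr]
          exact hgp
        rw [h1]
        exact inv_mem (hES e he).2
      obtain ⟨l, rfl⟩ : (p : ℤ) ∣ i := by
        refine (dvd_pow_self (p : ℤ) (show n - 1 - 1 ≠ 0 by omega)).trans
          (hdata.dvd_of_pow hn2 h3 hyp hy (i := i) (e := t) (j := 1) (by omega) ?_)
        rw [← hit, pow_one]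
        refine Subtype.ext ?_
        rw [coe_pow, coe_pow, coe_one]
        obtain ⟨c, hc⟩ := hrp
        change z ^ c = _ at hc
        rw [← hc, ← zpow_natCast, ← zpow_mul, mul_comm, zpow_mul, zpow_natCast, hzp, one_zpow]
      have h1 : Commute r (y : G) := by
        have hrr : r = (u ^ ((p : ℤ) * l)) * (y : G) ^ t := by
          have := congrArg Subtype.val hit
          simpa using this
        rw [hrr]
        refine Commute.mul_left ?_ ((Commute.refl _).pow_left t)
        rw [zpow_mul, zpow_natCast]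
        exact (((hMmem _).1 hyM).zpow_right l).symm
      exact ((show Commute e (y : G) from hEc e he _ y.2).mul_left h1).eq
    have hzc : z ∈ centralizer (Ω : Set G) :=
      mem_centralizer_iff.2 fun g _ => (hcent1 z (mem_zpowers z) g).eq.symm
    set Y := Ω ⊓ centralizer (Ω : Set G)
    haveI : Fintype ↥Y := Fintype.ofFinite _
    classical
    have hcount := IsCyclic.card_pow_eq_one_le (α := ↥Y) hp.out.pos
    let f : Option ↥Z1 → ↥(Finset.univ.filter fun a : ↥Y => a ^ p = 1) := fun o => match o with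
      | none => ⟨⟨y, hyΩ, hyc⟩, by simpa using Subtype.ext (by simpa using congrArg Subtype.val hyp)⟩
      | some w => ⟨⟨w, zpowers_le.2 (show z ∈ Y from ⟨hzΩ, hzc⟩) w.2⟩, by
          obtain ⟨c, hc⟩ := w.2
          change z ^ c = _ at hc
          simp only [Finset.mem_filter, Finset.mem_univ, true_and]
          refine Subtype.ext ?_
          rw [coe_pow, coe_one]
          change (w : G) ^ p = 1
          rw [← hc, ← zpow_natCast, ← zpow_mul, mul_comm, zpow_mul, zpow_natCast, hzp, one_zpow]⟩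
    have hynot : (y : G) ∉ Z1 := fun hmem => hyu (by
      obtain ⟨i, hi⟩ := mem_zpowers_iff.1 (hZ1Z hmem)
      exact mem_zpowers_iff.2 ⟨i, Subtype.ext (by simpa using hi)⟩)
    have hf : Function.Injective f := by
      rintro (_ | a) (_ | b) hab
      · rfl
      · exact absurd (show (y : G) ∈ Z1 from
          (congrArg (fun t => ((t.1 : ↥Y) : G)) hab : (y : G) = b) ▸ b.2) hynot
      · exact absurd (show (y : G) ∈ Z1 from
          (congrArg (fun t => ((t.1 : ↥Y) : G)) hab : (a : G) = y) ▸ a.2) hynot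
      · exact congrArg some (Subtype.ext (congrArg (fun t => ((t.1 : ↥Y) : G)) hab))
    haveI : Fintype ↥Z1 := Fintype.ofFinite _
    have := Fintype.card_le_of_injective f hf
    rw [Fintype.card_option, Fintype.card_coe, ← Nat.card_eq_fintype_card, hZ1card] at this
    omega
  -- the small case: the whole group is extraspecial
  obtain rfl : n = 2 := by omega
  have hu2 : u ^ p ∈ Z1 := ⟨1, by simp [hzdef]⟩
  have hRidx : Nat.card R ≤ p * Nat.card ↥(zpowers u) := by
    have h2 := Nat.card_zpowers u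
    rcases hdata.alternative hna with ⟨hp2, hcard, -⟩ | ⟨h3, m, hm, hmc⟩
    · rw [hcard, h2, hn, hp2]; norm_num
    · obtain ⟨y, hyu, hyp, hy⟩ := hdata.exists_y hn2 h3 hm hmc
      have h4 := (hdata.card_centralizer hn2 hyu hyp hy).2
      have htop : centralizer ({(⟨u, hZR (mem_zpowers u)⟩ : R) ^ p} : Set R) = ⊤ := by
        rw [eq_top_iff]
        intro g _
        exact mem_centralizer_singleton_iff.2 (Subtype.ext (by simpa using (hcent1 _ hu2 g).eq.symm))
      rw [htop, Subgroup.card_top, Nat.card_zpowers, hdata.ord] at h4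
      rw [h4, h2, hn]
  obtain ⟨g, hgR, hgu⟩ : ∃ g ∈ R, g ∉ zpowers u := by
    by_contra hall
    push Not at hall
    refine hna ⟨⟨fun a b => Subtype.ext ?_⟩⟩
    obtain ⟨i, hi⟩ := hall a a.2
    obtain ⟨j, hj⟩ := hall b b.2
    change u ^ i = _ at hi
    change u ^ j = _ at hj
    rw [coe_mul, coe_mul, ← hi, ← hj]
    exact zpow_mul_comm u i j
  have hRgen : R = zpowers g ⊔ zpowers u := by
    refine (eq_of_le_of_card_ge (sup_le (zpowers_le.2 hgR) hZR) (hRidx.trans ?_)).symm
    have hlt : zpowers u < zpowers g ⊔ zpowers u :=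
      lt_of_le_of_ne le_sup_right fun e => hgu (e.ge (mem_sup_left (mem_zpowers g)))
    obtain ⟨a, ha⟩ := IsPGroup.iff_card.1 (hG.to_subgroup (zpowers g ⊔ zpowers u))
    have h1 := Cfsg.Lib.Fusion.card_lt_card_of_lt hlt
    rw [Nat.card_zpowers, hn, ha] at h1
    rw [Nat.card_zpowers, hn, ha, ← pow_succ']
    exact Nat.pow_le_pow_right hp.out.pos ((Nat.pow_lt_pow_iff_right hp.out.one_lt).1 h1)
  have hgu' : ⁅g, u⁆ ∈ Z1 := by
    obtain ⟨r, hr⟩ := mem_zpowers_iff.1 (hdata.conj ⟨g, hgR⟩)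
    obtain ⟨b, hb⟩ := hdata.dvd_sub_one (by omega) hr.symm
    have hr' : g * u * g⁻¹ = u ^ r := by simpa using (congrArg Subtype.val hr).symm
    rw [commutatorElement_def, hr', ← zpow_sub_one, hb, zpow_mul, zpow_natCast]
    exact zpow_mem hu2 b
  have hgp : g ^ p ∈ Z1 := by
    obtain ⟨i, hi⟩ : ∃ i : ℤ, u ^ i = g ^ p := by
      refine mem_zpowers_iff.1 (hRZ _ (pow_mem hgR p) ?_)
      have hc : ∀ k : ℕ, ⁅g ^ k, u⁆ = ⁅g, u⁆ ^ k := by
        intro k
        induction k with
        | zero => simp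
        | succ k ih =>
          rw [pow_succ', comm_mul_left, ih, ← (hcent1 _ (pow_mem hgu' k) g).eq,
            mul_inv_cancel_right, ← pow_succ]
      refine commutatorElement_eq_one_iff_mul_comm.1 ?_
      rw [hc]
      obtain ⟨c, hc'⟩ := hgu'
      change z ^ c = _ at hc'
      rw [← hc', ← zpow_natCast, ← zpow_mul, mul_comm, zpow_mul, zpow_natCast, hzp, one_zpow]
    rw [← hi]
    by_cases hip : (p : ℤ) ∣ i
    · obtain ⟨l, rfl⟩ := hip
      rw [zpow_mul, zpow_natCast]
      exact zpow_mem hu2 l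
    · exfalso
      obtain ⟨α, β, hab⟩ := ((Nat.prime_iff_prime_int.1 hp.out).coprime_iff_not_dvd.2 hip)
      refine hgu (hRZ g hgR ?_)
      have e1 : u = (u ^ p) ^ α * (g ^ p) ^ β := by
        rw [← hi, ← zpow_natCast, ← zpow_mul, ← zpow_mul, ← zpow_add,
          show (p : ℤ) * α + i * β = 1 by linarith, zpow_one]
      have hc : Commute g u := by
        rw [e1]
        exact ((hcent1 _ hu2 g).symm.zpow_right α).mul_right
          (((Commute.refl g).pow_right p).zpow_right β)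
      exact hc.eq
  set s : Set G := (E : Set G) ∪ {g, u}
  have htop : closure s = ⊤ := by
    rw [eq_top_iff, ← hER, hRgen]
    refine sup_le (fun e he => subset_closure (Or.inl he)) (sup_le ?_ ?_) <;>
      exact zpowers_le.2 (subset_closure (Or.inr (by simp)))
  have hpow : ∀ x ∈ s, x ^ p ∈ Z1 := by
    rintro x (hx | rfl | rfl)
    exacts [(hES x hx).2, hgp, hu2]
  have hcs : ∀ a ∈ s, ∀ b ∈ s, ⁅a, b⁆ ∈ Z1 := by
    intro a ha b hb
    rcases hb with hb | hb
    · exact hGE a b hb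
    rcases ha with ha | ha
    · rw [← commutatorElement_inv]; exact inv_mem (hGE b a ha)
    rcases ha with rfl | rfl <;> rcases hb with rfl | rfl
    · simp
    · exact hgu'
    · rw [← commutatorElement_inv]; exact inv_mem hgu'
    · simp
  have hall : ∀ a b : G, ⁅a, b⁆ ∈ Z1 := by
    have step : ∀ a : G, (∀ b ∈ s, ⁅a, b⁆ ∈ Z1) → ∀ b : G, ⁅a, b⁆ ∈ Z1 := by
      intro a ha b
      have hb : b ∈ closure s := by rw [htop]; exact mem_top b
      induction hb using Subgroup.closure_induction with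
      | mem x hx => exact ha x hx
      | one => simp
      | mul x w _ _ ix iw =>
        rw [comm_mul_right]
        exact mul_mem ix (Normal.conj_mem inferInstance _ iw x)
      | inv x _ ix =>
        have e : ⁅a, x⁻¹⁆ = x⁻¹ * ⁅a, x⁆⁻¹ * x⁻¹⁻¹ := by simp [commutatorElement_def, mul_assoc]
        rw [e]
        exact Normal.conj_mem inferInstance _ (inv_mem ix) _
    intro a b
    refine step a (fun x hx => ?_) b
    rw [← commutatorElement_inv]
    exact inv_mem (step x (hcs x hx) a)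
  have hpall : ∀ a : G, a ^ p ∈ Z1 := by
    intro a
    have ha : a ∈ closure s := by rw [htop]; exact mem_top a
    induction ha using Subgroup.closure_induction with
    | mem x hx => exact hpow x hx
    | one => simp
    | mul x w _ _ ix iw =>
      have h1 : x⁻¹ * (w * x * w⁻¹) = ⁅x⁻¹, w⁆ := by simp [commutatorElement_def, mul_assoc]
      have h2 := hall x⁻¹ w
      rw [mul_pow_comm (h1 ▸ hcent1 _ h2 x) (h1 ▸ hcent1 _ h2 w), h1]
      exact mul_mem (mul_mem ix (pow_mem h2 _)) iw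
    | inv x _ ix => rw [inv_pow]; exact inv_mem ix
  have hcenter : center G = Z1 := by
    refine le_antisymm (fun w hw => ?_) hZ1c
    obtain ⟨i, hi⟩ := hCC (center_le_centralizer _ hw)
    change u ^ i = w at hi
    subst hi
    by_cases hip : (p : ℤ) ∣ i
    · obtain ⟨l, rfl⟩ := hip
      rw [zpow_mul, zpow_natCast]
      exact zpow_mem hu2 l
    · exfalso
      obtain ⟨α, β, hab⟩ := ((Nat.prime_iff_prime_int.1 hp.out).coprime_iff_not_dvd.2 hip)
      refine hgu (hRZ g hgR ?_)
      have e1 : u = (u ^ p) ^ α * (u ^ i) ^ β := by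
        rw [← zpow_natCast, ← zpow_mul, ← zpow_mul, ← zpow_add,
          show (p : ℤ) * α + i * β = 1 by linarith, zpow_one]
      have hc : Commute g u := by
        rw [e1]
        exact ((hcent1 _ hu2 g).symm.zpow_right α).mul_right
          ((show Commute g (u ^ i) from mem_center_iff.1 hw g).zpow_right β)
      exact hc.eq
  refine ⟨⊤, Z1, fun e _ r hr => (hcent1 r hr e).eq.symm, top_sup_eq _, Or.inr ?_,
    Or.inl inferInstance⟩
  refine extraspecial_of (hG.to_subgroup ⊤) (Z1.subgroupOf ⊤)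
    ((Nat.card_congr (subgroupOfEquivOfLe le_top).toEquiv).trans hZ1card) ?_ ?_
    (fun a => mem_subgroupOf.2 (by rw [coe_pow]; exact hpall a)) ?_
  · rw [← hcenter]
    ext a
    rw [mem_subgroupOf, mem_center_iff, mem_center_iff]
    exact ⟨fun h b => congrArg Subtype.val (h ⟨b, mem_top b⟩), fun h b => Subtype.ext (h b)⟩
  · rw [_root_.commutator_def, Subgroup.commutator_le]
    exact fun a _ b _ => mem_subgroupOf.2 (hall a b)
  · intro hbot
    refine hgu (hRZ g hgR ?_)
    have h1 : (⁅(⟨g, mem_top g⟩ : (⊤ : Subgroup G)), ⟨u, mem_top u⟩⁆ : (⊤ : Subgroup G)) ∈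
        (⊥ : Subgroup (⊤ : Subgroup G)) := by
      rw [← hbot, _root_.commutator_def]
      exact commutator_mem_commutator (mem_top _) (mem_top _)
    exact congrArg Subtype.val (commutatorElement_eq_one_iff_mul_comm.1 (mem_bot.1 h1))


/-- Let G be a finite p-group of symplectic type: every characteristic abelian subgroup of G is cyclic. Then G = E ∗ R is a central product of subgroups E and R (they commute elementwise and generate G) where E is extraspecial or trivial, and R is cyclic, or p = 2 and R is dihedral, semidihedral or generalized quaternion of order at least 16. -/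
theorem result {G : Type*} [Group G] [Finite G] {p : ℕ} [Fact p.Prime] (hG : IsPGroup p G) (hsymp : ∀ A : Subgroup G, A.Characteristic → IsMulCommutative A → IsCyclic A) : ∃ E R : Subgroup G, (∀ e ∈ E, ∀ r ∈ R, e * r = r * e) ∧ E ⊔ R = ⊤ ∧ (E = ⊥ ∨ Cfsg.IsExtraspecial p ↥E) ∧ (IsCyclic R ∨ (p = 2 ∧ 16 ≤ Nat.card R ∧ ((∃ m : ℕ, Nonempty (↥R ≃* DihedralGroup m)) ∨ (∃ m : ℕ, Nonempty (↥R ≃* QuaternionGroup m)) ∨ Cfsg.IsQuasiDihedral ↥R))) := by
  exact main hG hsymp

end Cfsg.Agent.S3762
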