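import Cfsg.Statements.S5961
import Cfsg.Agent.Lib.Linear.PrimeClasses.SympReal
import Cfsg.Agent.Lib.Linear.PrimeClasses.Classes
import Cfsg.Agent.Lib.Linear.SympConjApps
import Cfsg.Agent.Lib.Linear.SympInvolution
-- import your own Cfsg.Agent.* helpers here

set_option autoImplicit false
open scoped MatrixGroups
open Cfsg

namespace Cfsg.Agent.S5961

open Module Polynomial Cfsg.Lib.Linear Cfsg.Agent.Lib.Linear.PrimeClasses
open scoped Matrix

section Geometry

variable {F : Type*} [Field F] {V : Type*} [AddCommGroup V] [Module F V] [FiniteDimensional F V]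
  {B : LinearMap.BilinForm F V} {T : V →ₗ[F] V} {r : ℕ}

/-- Vectors killed by a power of `T - 1` are fixed. -/
theorem fixed_of_pow (hrF : (r : F) ≠ 0) (hTr : T ^ r = 1) :
    ∀ (k : ℕ) (v : V), ((T - 1) ^ k) v = 0 → T v = v := by
  intro k
  induction k with
  | zero =>
    intro v hv
    rw [pow_zero, Module.End.one_apply] at hv
    rw [hv, map_zero]
  | succ k ih =>
    intro v hv
    rw [pow_succ, Module.End.mul_apply] at hv
    have h1 := ih _ hv
    set w := (T - 1) v with hw
    have hpow : ∀ i : ℕ, (T ^ i) w = w := fun i => by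
      induction i with
      | zero => rfl
      | succ i ih2 => rw [pow_succ', Module.End.mul_apply, ih2, h1]
    have h2 : (∑ i ∈ Finset.range r, T ^ i) w = 0 := by
      rw [hw, ← Module.End.mul_apply, geom_sum_mul, hTr, sub_self, LinearMap.zero_apply]
    rw [LinearMap.sum_apply, Finset.sum_congr rfl (fun i _ => hpow i), Finset.sum_const,
      Finset.card_range, ← Nat.cast_smul_eq_nsmul F, smul_eq_zero] at h2
    have h3 := h2.resolve_left hrF
    rwa [hw, LinearMap.sub_apply, Module.End.one_apply, sub_eq_zero] at h3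

/-- The fixed dimension is the multiplicity of the root one. -/
theorem finrank_fix (hrF : (r : F) ≠ 0) (hTr : T ^ r = 1) :
    finrank F (LinearMap.ker (T - 1)) = T.charpoly.rootMultiplicity 1 := by
  rw [← LinearMap.finrank_maxGenEigenspace_eq T 1]
  suffices h : LinearMap.ker (T - 1) = Module.End.maxGenEigenspace T 1 by rw [h]
  ext v
  rw [Module.End.mem_maxGenEigenspace, one_smul, LinearMap.mem_ker]
  refine ⟨fun h => ⟨1, by rw [pow_one]; exact h⟩, fun ⟨k, hk⟩ => ?_⟩
  rw [LinearMap.sub_apply, Module.End.one_apply, fixed_of_pow hrF hTr k v hk, sub_self]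

variable [Fintype F]

/-- The moved part of an invariant subspace has dimension a multiple of the order of `q`. -/
theorem moved {W : Type*} [AddCommGroup W] [Module F W] [Module.Finite F W] {r : ℕ} [Fact r.Prime]
    (hrq : ¬ r ∣ Fintype.card F) (T : W →ₗ[F] W) (hT : ∀ v, (T ^ r) v = v) :
    orderOf (Fintype.card F : ZMod r) ∣ finrank F W - finrank F (LinearMap.ker (T - 1)) := by
  classical
  haveI : Finite W := Module.finite_of_finite F
  let u : (W →ₗ[F] W)ˣ := Units.ofPowEqOne T r (LinearMap.ext hT) (Nat.Prime.ne_zero Fact.out)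
  have hu : u ^ r = 1 := Units.pow_ofPowEqOne _ _
  have hp : IsPGroup r (Subgroup.zpowers u) := by
    rintro ⟨_, k, rfl⟩
    refine ⟨1, Subtype.ext ?_⟩
    show (u ^ k) ^ (r ^ 1) = 1
    rw [pow_one, ← zpow_natCast, ← zpow_mul, mul_comm, zpow_mul, zpow_natCast, hu, one_zpow]
  have h := hp.card_modEq_card_fixedPoints W
  have hfix : MulAction.fixedPoints (Subgroup.zpowers u) W = (LinearMap.ker (T - 1) : Set W) := by
    ext v
    simp only [MulAction.mem_fixedPoints, SetLike.mem_coe, LinearMap.mem_ker, LinearMap.sub_apply,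
      Module.End.one_apply, sub_eq_zero]
    refine ⟨fun h => h ⟨u, Subgroup.mem_zpowers u⟩, fun h g => ?_⟩
    obtain ⟨g, k, rfl⟩ := g
    show (u ^ k) • v = v
    have hle : Subgroup.zpowers u ≤ MulAction.stabilizer ((W →ₗ[F] W)ˣ) v := Subgroup.zpowers_le.2 h
    exact hle ⟨k, rfl⟩
  rw [hfix] at h
  have h3 := Submodule.finrank_le (LinearMap.ker (T - 1))
  have h2 : (Fintype.card F : ZMod r) ^ finrank F W =
      (Fintype.card F : ZMod r) ^ finrank F (LinearMap.ker (T - 1)) := by
    rw [Module.natCard_eq_pow_finrank (K := F) (V := W)] at h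
    change _ ≡ Nat.card ↥(LinearMap.ker (T - 1)) [MOD r] at h
    rw [Module.natCard_eq_pow_finrank (K := F) (V := ↥(LinearMap.ker (T - 1))),
      ← ZMod.natCast_eq_natCast_iff, Nat.card_eq_fintype_card] at h
    exact_mod_cast h
  refine orderOf_dvd_of_pow_eq_one ?_
  have hne : (Fintype.card F : ZMod r) ≠ 0 := fun h => hrq ((ZMod.natCast_eq_zero_iff _ _).1 h)
  rw [← Nat.add_sub_cancel' h3, pow_add] at h2
  exact mul_left_cancel₀ (pow_ne_zero _ hne) (h2.trans (mul_one _).symm)

/-- The moved part of an invariant nondegenerate subspace. -/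
theorem moved_part [Fact r.Prime] (hrF : (r : F) ≠ 0) (hrq : ¬ r ∣ Fintype.card F) (hA : B.IsAlt)
    (hT : ∀ u v, B (T u) (T v) = B u v) (hTr : T ^ r = 1) {X : Submodule F V}
    (hX : Symp.NondegOn B X) (hinv : ∀ x ∈ X, T x ∈ X) {c : ℕ}
    (hc : c = if Even (orderOf (Fintype.card F : ZMod r)) then orderOf (Fintype.card F : ZMod r)
      else 2 * orderOf (Fintype.card F : ZMod r)) :
    c ∣ finrank F X - finrank F ↥(X ⊓ LinearMap.ker (T - 1)) := by
  classical
  have hpow : ∀ i : ℕ, ∀ x ∈ X, (T ^ i) x ∈ X := fun i => by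
    induction i with
    | zero => intro x hx; exact hx
    | succ i ih => intro x hx; rw [pow_succ', Module.End.mul_apply]; exact hinv _ (ih x hx)
  have hnd : Symp.NondegOn B (X ⊓ LinearMap.ker (T - 1)) := by
    intro u hu hu0
    obtain ⟨huX, hufix⟩ := Submodule.mem_inf.1 hu
    rw [LinearMap.mem_ker, LinearMap.sub_apply, Module.End.one_apply, sub_eq_zero] at hufix
    obtain ⟨y, hy, huy⟩ := hX u huX hu0
    refine ⟨(∑ i ∈ Finset.range r, T ^ i) y, Submodule.mem_inf.2 ⟨?_, ?_⟩, ?_⟩
    · rw [LinearMap.sum_apply]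
      exact sum_mem fun i _ => hpow i y hy
    · rw [LinearMap.mem_ker, ← Module.End.mul_apply, mul_geom_sum, hTr, sub_self, LinearMap.zero_apply]
    · have h : ∀ i : ℕ, B u ((T ^ i) y) = B u y := fun i => by
        induction i with
        | zero => rfl
        | succ i ih =>
          rw [pow_succ', Module.End.mul_apply]
          conv_lhs => rw [← hufix]
          rw [hT, ih]
      rw [LinearMap.sum_apply, map_sum, Finset.sum_congr rfl (fun i _ => h i), Finset.sum_const,
        Finset.card_range, ← Nat.cast_smul_eq_nsmul F, smul_eq_mul]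
      exact mul_ne_zero hrF huy
  have e1 := SympInv.even_finrank B _ X le_rfl (fun w _ => hA w) hX
  have e2 := SympInv.even_finrank B _ _ le_rfl (fun w _ => hA w) hnd
  let S : X →ₗ[F] X := T.restrict hinv
  have hS : ∀ (i : ℕ) (v : X), (((S ^ i) v : X) : V) = (T ^ i) v := fun i => by
    induction i with
    | zero => intro v; rfl
    | succ i ih =>
      intro v
      rw [pow_succ', pow_succ', Module.End.mul_apply, Module.End.mul_apply, ← ih]
      rfl
  have hm := moved hrq S (fun v => Subtype.ext (by rw [hS, hTr]; rfl))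
  have hker : finrank F (LinearMap.ker (S - 1)) = finrank F ↥(X ⊓ LinearMap.ker (T - 1)) := by
    have : LinearMap.ker (S - 1) = (X ⊓ LinearMap.ker (T - 1)).comap X.subtype := by
      ext v
      simp only [LinearMap.mem_ker, Submodule.mem_comap, Submodule.mem_inf, Submodule.coe_subtype,
        LinearMap.sub_apply, Module.End.one_apply, SetLike.coe_mem, true_and, sub_eq_zero, Subtype.ext_iff]
      rfl
    rw [this, (Submodule.comapSubtypeEquivOfLe inf_le_left).finrank_eq]
  rw [hker] at hm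
  set i := orderOf (Fintype.card F : ZMod r)
  have hk : Even (finrank F X - finrank F ↥(X ⊓ LinearMap.ker (T - 1))) := by
    obtain ⟨x, hx⟩ := e1
    obtain ⟨y, hy⟩ := e2
    exact ⟨x - y, by omega⟩
  rw [hc]
  split_ifs with he
  · exact hm
  · exact Nat.Coprime.mul_dvd_of_dvd_of_dvd
      ((Nat.Prime.coprime_iff_not_dvd Nat.prime_two).2 fun h => he (even_iff_two_dvd.2 h))
      (even_iff_two_dvd.1 hk) hm

end Geometry

section Orbits

variable {F : Type*} [Field F] {V : Type*} [AddCommGroup V] [Module F V] [FiniteDimensional F V]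
  {B : LinearMap.BilinForm F V} {T : V →ₗ[F] V} {r t : ℕ} {D : Fin t → Submodule F V}
  {σ : Equiv.Perm (Fin t)}

theorem perm_pow (hD : iSupIndep D) (hne : ∀ j, D j ≠ ⊥) (hσ : ∀ j, (D j).map T = D (σ j))
    (hTr : T ^ r = 1) : σ ^ r = 1 := by
  have h : ∀ (k : ℕ) j, (D j).map (T ^ k) = D ((σ ^ k) j) := by
    intro k
    induction k with
    | zero => intro j; simp [Module.End.one_eq_id]
    | succ k ih =>
      intro j
      rw [pow_succ', pow_succ', Module.End.mul_eq_comp, Submodule.map_comp, ih, hσ]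
      rfl
  refine Equiv.ext fun j => ?_
  have h1 := h r j
  rw [hTr, Module.End.one_eq_id, Submodule.map_id] at h1
  exact (hD.injOn (x₁ := j) (hne j) (hne _) h1).symm

variable (O : Symp.OrthDecomp B D) (hσ : ∀ j, (D j).map T = D (σ j))

include O hσ in
theorem pr_apply (v : V) (k : Fin t) : O.pr (σ k) (T v) = T (O.pr k v) := by
  have hx : ∀ l, T (O.pr (σ.symm l) v) ∈ D l := fun l => by
    have := Submodule.mem_map_of_mem (f := T) (O.mem (σ.symm l) v)
    rwa [hσ, Equiv.apply_symm_apply] at this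
  have h := Symp.pr_sum O _ hx (σ k)
  rw [Equiv.sum_comp σ.symm (fun l => T (O.pr l v)), ← map_sum, O.sum, Equiv.symm_apply_apply] at h
  exact h

include O hσ in
theorem pow_mem_part {j : Fin t} {v : V} (hv : v ∈ D j) : ∀ i : ℕ, (T ^ i) v ∈ D ((σ ^ i) j) := by
  intro i
  induction i with
  | zero => exact hv
  | succ i ih =>
    rw [pow_succ', pow_succ', Module.End.mul_apply, Equiv.Perm.mul_apply, ← hσ]
    exact Submodule.mem_map_of_mem ih

include O hσ in
theorem cycle_bounds [hr : Fact r.Prime] (hTr : T ^ r = 1) (hσr : σ ^ r = 1) {j : Fin t} (hj : σ j ≠ j) :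
    finrank F (D j) ≤ finrank F (LinearMap.ker (T - 1)) ∧
      finrank F (LinearMap.ker (T - 1)) + (r - 1) * finrank F (D j) ≤ finrank F V := by
  classical
  have hper : Function.minimalPeriod σ j = r := by
    refine Function.minimalPeriod_eq_prime (p := r) ?_ hj
    show σ^[r] j = j
    rw [← Equiv.Perm.coe_pow, hσr]; rfl
  have hinj : ∀ i k : ℕ, i < r → k < r → (σ ^ i) j = (σ ^ k) j → i = k := by
    intro i k hi hk h
    rw [Equiv.Perm.coe_pow, Equiv.Perm.coe_pow] at h
    exact Function.iterate_injOn_Iio_minimalPeriod (f := σ) (x := j) (by simpa [hper] using hi)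
      (by simpa [hper] using hk) h
  refine ⟨?_, ?_⟩
  · let L : D j →ₗ[F] LinearMap.ker (T - 1) :=
      ((∑ i ∈ Finset.range r, T ^ i).comp (D j).subtype).codRestrict _ fun v => by
        rw [LinearMap.mem_ker, LinearMap.comp_apply, ← Module.End.mul_apply, mul_geom_sum, hTr, sub_self,
          LinearMap.zero_apply]
    refine LinearMap.finrank_le_finrank_of_injective (f := L)
      ((injective_iff_map_eq_zero _).2 fun v hv => Subtype.ext ?_)
    have h1 : O.pr j ((∑ i ∈ Finset.range r, T ^ i) v.1) = 0 := by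
      rw [show (∑ i ∈ Finset.range r, T ^ i) v.1 = 0 from congrArg Subtype.val hv, map_zero]
    rw [LinearMap.sum_apply, map_sum, Finset.sum_eq_single_of_mem 0 (Finset.mem_range.2 hr.out.pos)] at h1
    · rwa [pow_zero, Module.End.one_apply, O.self j _ v.2] at h1
    · intro i hi hi0
      exact O.cross _ _ (fun h => hi0 (hinj i 0 (Finset.mem_range.1 hi) hr.out.pos (by simpa using h.symm)))
        _ (pow_mem_part O hσ v.2 i)
  · let Φ : (LinearMap.ker (T - 1) × (Fin (r - 1) → D j)) →ₗ[F] V :=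
      (LinearMap.ker (T - 1)).subtype.coprod
        (∑ i : Fin (r - 1), ((T ^ ((i : ℕ) + 1)).comp (D j).subtype).comp (LinearMap.proj i))
    have hΦ : Function.Injective Φ := by
      refine (injective_iff_map_eq_zero _).2 fun ⟨v, x⟩ hvx => ?_
      have h0 : (v : V) + ∑ i : Fin (r - 1), (T ^ ((i : ℕ) + 1)) (x i : V) = 0 := by
        simpa [Φ] using hvx
      have hterm : ∀ (l : Fin t) (i : Fin (r - 1)), l ≠ (σ ^ ((i : ℕ) + 1)) j →
          O.pr l ((T ^ ((i : ℕ) + 1)) (x i : V)) = 0 := fun l i hl =>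
        O.cross l _ hl _ (pow_mem_part O hσ (x i).2 _)
      have hfix : T (v : V) = v := by
        have := LinearMap.mem_ker.1 v.2
        rwa [LinearMap.sub_apply, Module.End.one_apply, sub_eq_zero] at this
      have hj0 : O.pr j (v : V) = 0 := by
        have h1 := congrArg (O.pr j) h0
        rw [map_add, map_sum, map_zero, Finset.sum_eq_zero (fun i _ => hterm j i fun h => ?_), add_zero] at h1
        · exact h1
        · have := hinj 0 ((i : ℕ) + 1) hr.out.pos (by have := i.2; omega) (by simpa using h)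
          omega
      have horb : ∀ k : ℕ, O.pr ((σ ^ k) j) (v : V) = 0 := fun k => by
        induction k with
        | zero => exact hj0
        | succ k ih =>
          rw [pow_succ', Equiv.Perm.mul_apply]
          conv_lhs => rw [← hfix]
          rw [pr_apply O hσ, ih, map_zero]
      have hx : ∀ i, (x i : V) = 0 := by
        intro i
        have h1 := congrArg (O.pr ((σ ^ ((i : ℕ) + 1)) j)) h0
        rw [map_add, map_sum, map_zero, horb, zero_add, Finset.sum_eq_single i ?_ (by simp),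
          O.self _ _ (pow_mem_part O hσ (x i).2 _)] at h1
        · have h2 := congrArg (fun y => (T ^ (r - ((i : ℕ) + 1))) y) h1
          simp only [map_zero, ← Module.End.mul_apply, ← pow_add] at h2
          rwa [Nat.sub_add_cancel (by have := i.2; omega), hTr, Module.End.one_apply] at h2
        · intro k _ hk
          refine hterm _ k fun h => hk (Fin.ext ?_)
          have := hinj ((i : ℕ) + 1) ((k : ℕ) + 1) (by have := i.2; omega) (by have := k.2; omega) h
          omega
      refine Prod.ext (Subtype.ext ?_) (funext fun i => Subtype.ext (hx i))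
      show (v : V) = 0
      simpa [hx] using h0
    have h1 := LinearMap.finrank_le_finrank_of_injective hΦ
    rw [Module.finrank_prod, Module.finrank_pi_fintype, Finset.sum_const, Finset.card_univ,
      Fintype.card_fin, smul_eq_mul] at h1
    exact h1

include O in
theorem sum_fix_le (h : ∀ j, ∀ x ∈ D j ⊓ LinearMap.ker (T - 1), x ∈ LinearMap.ker (T - 1)) :
    ∑ j, finrank F ↥(D j ⊓ LinearMap.ker (T - 1)) ≤ finrank F (LinearMap.ker (T - 1)) := by
  classical
  let L : (∀ j, ↥(D j ⊓ LinearMap.ker (T - 1))) →ₗ[F] LinearMap.ker (T - 1) :=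
    ∑ j, (Submodule.inclusion (inf_le_right : D j ⊓ LinearMap.ker (T - 1) ≤ _)).comp (LinearMap.proj j)
  have hL : Function.Injective L := (injective_iff_map_eq_zero _).2 fun w hw => funext fun j => by
    refine Subtype.ext ?_
    have h1 := congrArg (fun y : LinearMap.ker (T - 1) => O.pr j (y : V)) hw
    simp only [L, LinearMap.sum_apply, LinearMap.comp_apply, LinearMap.proj_apply, Submodule.coe_sum,
      Submodule.coe_inclusion, Submodule.coe_zero, map_zero] at h1
    rw [Symp.pr_sum O (fun l => (w l : V)) (fun l => (w l).2.1) j] at h1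
    exact h1
  have h1 := LinearMap.finrank_le_finrank_of_injective hL
  rwa [Module.finrank_pi_fintype] at h1

end Orbits

section Combinatorics

variable {r : ℕ} [Fact r.Prime]

theorem card_orbit (w : (ZMod r)ˣ) {x : ZMod r} (hx : x ≠ 0) : (orbit w x).card = orderOf w := by
  classical
  rw [orbit, Finset.card_image_of_injective, Finset.card_univ, Fintype.card_fin]
  intro a b h
  have h1 : w ^ (a : ℕ) = w ^ (b : ℕ) := by
    refine Units.ext ?_
    rw [Units.val_pow_eq_pow_val, Units.val_pow_eq_pow_val]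
    exact mul_right_cancel₀ hx h
  exact Fin.ext (pow_injOn_Iio_orderOf a.2 b.2 h1)

theorem orbit_indicator (w : (ZMod r)ˣ) (x y : ZMod r) :
    (w : ZMod r) * y ∈ orbit w x ↔ y ∈ orbit w x := by
  constructor
  · intro hy
    obtain ⟨k, hk⟩ := mem_orbit.mp hy
    refine mem_orbit.mpr ⟨k + (orderOf w - 1), ?_⟩
    have h1 : (w : ZMod r) ^ (orderOf w - 1) * (w : ZMod r) = 1 := by
      rw [← pow_succ, Nat.sub_add_cancel (orderOf_pos w), ← Units.val_pow_eq_pow_val, pow_orderOf_eq_one,
        Units.val_one]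
    calc y = (w : ZMod r) ^ (orderOf w - 1) * ((w : ZMod r) * y) := by rw [← mul_assoc, h1, one_mul]
      _ = _ := by rw [hk, ← mul_assoc, ← pow_add, add_comm]
  · intro hy
    obtain ⟨k, rfl⟩ := mem_orbit.mp hy
    exact mem_orbit.mpr ⟨k + 1, by rw [pow_succ', mul_assoc]⟩

theorem sum_split (m : ZMod r → ℕ) :
    ∑ x, m x = m 0 + ∑ x ∈ Finset.univ.erase (0 : ZMod r), m x :=
  (Finset.add_sum_erase _ _ (Finset.mem_univ 0)).symm

/-- Some orbits may be taken out of an invariant function. -/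
theorem exists_sub_orbits (w : (ZMod r)ˣ) {c : ℕ} (hc : orderOf w = c) :
    ∀ (k n : ℕ) (m : ZMod r → ℕ), Inv w n m → k * c + m 0 ≤ n →
      ∃ m' : ZMod r → ℕ, (∀ x, m' x ≤ m x) ∧ m' 0 = 0 ∧ Inv w (k * c) m' := by
  classical
  intro k
  induction k with
  | zero => intro n m _ _; exact ⟨0, fun x => Nat.zero_le _, rfl, by simp, fun x => rfl⟩
  | succ k ih =>
    intro n m hm hle
    obtain ⟨x, hx0, hx⟩ : ∃ x, x ≠ 0 ∧ m x ≠ 0 := by
      by_contra hcon
      push Not at hcon
      have h1 := sum_split m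
      rw [hm.1, Finset.sum_eq_zero fun x hx => hcon x (Finset.ne_of_mem_erase hx), add_zero] at h1
      have : 0 < c := hc ▸ orderOf_pos w
      have : c ≤ (k + 1) * c := Nat.le_mul_of_pos_left _ (Nat.succ_pos k)
      omega
    let ind : ZMod r → ℕ := fun y => if y ∈ orbit w x then 1 else 0
    have hle1 : ∀ y, ind y ≤ m y := fun y => by
      show (if y ∈ orbit w x then 1 else 0) ≤ m y
      split_ifs with hy
      · obtain ⟨l, rfl⟩ := mem_orbit.mp hy
        rw [inv_pow hm]; omega
      · exact Nat.zero_le _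
    have hind0 : ind 0 = 0 := by
      refine if_neg fun h => ?_
      obtain ⟨l, hl⟩ := mem_orbit.mp h
      exact mul_ne_zero (pow_ne_zero _ w.ne_zero) hx0 hl.symm
    have hindw : ∀ y, ind ((w : ZMod r) * y) = ind y := fun y => if_congr (orbit_indicator w x y) rfl rfl
    have hinds : ∑ y, ind y = c := by
      show (∑ y, if y ∈ orbit w x then 1 else 0) = c
      rw [Finset.sum_boole, Finset.filter_mem_eq_inter, Finset.univ_inter, card_orbit w hx0, hc]
      rfl
    have hsum : ∑ y, (m y - ind y) = n - c := by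
      rw [Finset.sum_tsub_distrib _ fun y _ => hle1 y, hinds, hm.1]
    obtain ⟨m', h1, h2, h3⟩ := ih (n - c) (fun y => m y - ind y)
      ⟨hsum, fun y => by show m _ - ind _ = m y - ind y; rw [hm.2, hindw]⟩ (by
        show k * c + (m 0 - ind 0) ≤ n - c
        rw [hind0, Nat.sub_zero, add_one_mul] at *
        omega)
    refine ⟨fun y => ind y + m' y, fun y => ?_, ?_, ?_, fun y => ?_⟩
    · show ind y + m' y ≤ m y
      have : m' y ≤ m y - ind y := h1 y
      have := hle1 y
      omega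
    · show ind 0 + m' 0 = 0
      rw [hind0, h2]
    · rw [Finset.sum_add_distrib, hinds, h3.1, add_one_mul, add_comm]
    · show ind _ + m' _ = ind y + m' y
      rw [hindw, h3.2]

theorem dvd_sum_erase (w : (ZMod r)ˣ) {c : ℕ} (hc : orderOf w = c) :
    ∀ (n : ℕ) (m : ZMod r → ℕ), Inv w n m → c ∣ n - m 0 := by
  classical
  intro n
  induction n using Nat.strong_induction_on with
  | _ n ih =>
    intro m hm
    by_cases h : n - m 0 = 0
    · rw [h]; exact dvd_zero c
    obtain ⟨x, hx0, hx⟩ : ∃ x, x ≠ 0 ∧ m x ≠ 0 := by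
      by_contra hcon
      push Not at hcon
      have h1 := sum_split m
      rw [hm.1, Finset.sum_eq_zero fun x hx => hcon x (Finset.ne_of_mem_erase hx), add_zero] at h1
      omega
    let ind : ZMod r → ℕ := fun y => if y ∈ orbit w x then 1 else 0
    have hle1 : ∀ y, ind y ≤ m y := fun y => by
      show (if y ∈ orbit w x then 1 else 0) ≤ m y
      split_ifs with hy
      · obtain ⟨l, rfl⟩ := mem_orbit.mp hy
        rw [inv_pow hm]; omega
      · exact Nat.zero_le _
    have hind0 : ind 0 = 0 := by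
      refine if_neg fun h => ?_
      obtain ⟨l, hl⟩ := mem_orbit.mp h
      exact mul_ne_zero (pow_ne_zero _ w.ne_zero) hx0 hl.symm
    have hinds : ∑ y, ind y = c := by
      show (∑ y, if y ∈ orbit w x then 1 else 0) = c
      rw [Finset.sum_boole, Finset.filter_mem_eq_inter, Finset.univ_inter, card_orbit w hx0, hc]
      rfl
    have hsum : ∑ y, (m y - ind y) = n - c := by
      rw [Finset.sum_tsub_distrib _ fun y _ => hle1 y, hinds, hm.1]
    have hc0 : 0 < c := hc ▸ orderOf_pos w
    have hle0 : m 0 ≤ ∑ y, (m y - ind y) := by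
      refine le_trans ?_ (Finset.single_le_sum (f := fun y => m y - ind y) (fun y _ => Nat.zero_le _)
        (Finset.mem_univ (0 : ZMod r)))
      rw [hind0, Nat.sub_zero]
    rw [hsum] at hle0
    have hcn : c ≤ n := by rw [← hinds, ← hm.1]; exact Finset.sum_le_sum fun y _ => hle1 y
    have h2 := ih (n - c) (by omega) (fun y => m y - ind y) ⟨hsum, fun y => by
      show m _ - ind _ = m y - ind y
      rw [hm.2, show ind ((w : ZMod r) * y) = ind y from if_congr (orbit_indicator w x y) rfl rfl]⟩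
    simp only [hind0, Nat.sub_zero] at h2
    have h3 := Nat.dvd_add h2 (dvd_refl c)
    rwa [show n - c - m 0 + c = n - m 0 by omega] at h3

/-- Splitting an invariant function into equal parts. -/
theorem exists_parts (w : (ZMod r)ˣ) {c a : ℕ} (hc : orderOf w = c) :
    ∀ (t : ℕ) (m : ZMod r → ℕ), Inv w (t * a) m → t * (a % c) ≤ m 0 →
      ∃ ms : Fin t → ZMod r → ℕ, (∀ j, Inv w a (ms j)) ∧ ∑ j, ms j = m := by
  classical
  have hc0 : 0 < c := hc ▸ orderOf_pos w
  intro t
  induction t with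
  | zero =>
    intro m hm _
    refine ⟨Fin.elim0, fun j => j.elim0, funext fun x => ?_⟩
    have h := hm.1
    rw [zero_mul, Finset.sum_eq_zero_iff] at h
    simp [h x (Finset.mem_univ x)]
  | succ t ih =>
    intro m hm hlt
    obtain ⟨K, hK⟩ := dvd_sum_erase w hc _ m hm
    have hm0 : m 0 ≤ (t + 1) * a := hm.1 ▸ Finset.single_le_sum (fun y _ => Nat.zero_le _) (Finset.mem_univ _)
    have hdm := Nat.div_add_mod a c
    set A := a / c
    set k := min K A with hkdef
    have hKA : K ≤ (t + 1) * A := by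
      refine Nat.le_of_mul_le_mul_left ?_ hc0
      have : (t + 1) * a = c * ((t + 1) * A) + (t + 1) * (a % c) := by
        conv_lhs => rw [← hdm]
        ring
      omega
    have hka : c * k ≤ a := le_trans (Nat.mul_le_mul_left c (min_le_right _ _)) (Nat.mul_div_le a c)
    have hkK : c * k ≤ c * K := Nat.mul_le_mul_left c (min_le_left _ _)
    have hKk : c * (K - k) ≤ c * (t * A) := by
      refine Nat.mul_le_mul_left c ?_
      rw [add_one_mul] at hKA
      omega
    have ht1 : t * a = c * (t * A) + t * (a % c) := by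
      conv_lhs => rw [← hdm]
      ring
    rw [Nat.mul_sub] at hKk
    rw [add_one_mul] at hm0
    obtain ⟨m₁, hle, h0, hinv₁⟩ := exists_sub_orbits w hc k _ m hm (by
      rw [mul_comm k, add_one_mul]; rw [add_one_mul] at hK; omega)
    let first : ZMod r → ℕ := fun y => if y = 0 then a - c * k else m₁ y
    have hfle : ∀ y, first y ≤ m y := fun y => by
      show (if y = 0 then a - c * k else m₁ y) ≤ m y
      split_ifs with hy
      · subst hy
        rw [add_one_mul] at hK
        omega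
      · exact hle y
    have hfinv : Inv w a first := by
      refine ⟨?_, fun y => ?_⟩
      · have h1 := sum_split m₁
        rw [hinv₁.1, h0, zero_add] at h1
        rw [sum_split first, Finset.sum_congr rfl (g := m₁) fun y hy => if_neg (Finset.ne_of_mem_erase hy),
          ← h1, show first 0 = a - c * k from if_pos rfl, mul_comm k]
        omega
      · show (if (w : ZMod r) * y = 0 then a - c * k else m₁ _) = (if y = 0 then a - c * k else m₁ y)
        rw [hinv₁.2]
        exact if_congr (by simp) rfl rfl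
    have hsum : ∑ y, (m y - first y) = t * a := by
      rw [Finset.sum_tsub_distrib _ fun y _ => hfle y, hfinv.1, hm.1, add_one_mul, Nat.add_sub_cancel]
    obtain ⟨ms, hms, hmsum⟩ := ih (fun y => m y - first y)
      ⟨hsum, fun y => by show m _ - first _ = m y - first y; rw [hm.2, hfinv.2]⟩ (by
        show t * (a % c) ≤ m 0 - first 0
        rw [show first 0 = a - c * k from if_pos rfl]
        rw [add_one_mul] at hK hlt
        omega)
    refine ⟨Fin.cons first ms, fun j => ?_, ?_⟩
    · cases j using Fin.cases with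
      | zero => exact hfinv
      | succ j => simpa using hms j
    · rw [Fin.sum_univ_succ]
      simp only [Fin.cons_zero, Fin.cons_succ, hmsum]
      exact funext fun y => Nat.add_sub_cancel' (hfle y)

end Combinatorics

section Realisation

universe u

variable {F : Type u} [Field F] [Fintype F] {L : Type u} [Field L] [Algebra F L] [IsAlgClosed L]
  {r : ℕ} [Fact r.Prime] {ζ : L}

theorem altReal_any (hζ : IsPrimitiveRoot ζ r) {uq : (ZMod r)ˣ}
    (huq : (uq : ZMod r) = (Fintype.card F : ZMod r)) (hr2 : r ≠ 2) (w : (ZMod r)ˣ)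
    (hwq : ∃ k : ℕ, uq = w ^ k) (hwn : ∃ k : ℕ, (-1 : (ZMod r)ˣ) = w ^ k)
    {n : ℕ} {m : ZMod r → ℕ} (hm : Inv w n m) (he : Even (m 0)) :
    ∃ P : F[X], AltReal r P ∧ P.Monic ∧ P.map (algebraMap F L) = Pm ζ m := by
  classical
  obtain ⟨k, hk⟩ := hwq
  let m₁ : ZMod r → ℕ := fun y => if y = 0 then 0 else m y
  have hm₁ : Inv w (∑ y, m₁ y) m₁ := ⟨rfl, fun y => by
    show (if _ then _ else _) = if y = 0 then 0 else m y
    rw [hm.2]; exact if_congr (by simp) rfl rfl⟩
  obtain ⟨P, hPm, hP⟩ := exists_descent (F := F) hζ huq m₁ fun y => by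
    rw [hk, Units.val_pow_eq_pow_val]; exact inv_pow hm₁ k y
  obtain ⟨b, hb⟩ := he
  have h1 : AltReal r P := altReal_of_inv hζ huq hr2 w ⟨k, hk⟩ hwn hm₁ (if_pos rfl) P hP
  have h2 : AltReal r ((X - 1 : F[X]) ^ (b + b)) := AltReal.pow_X_sub_one b
  refine ⟨P * (X - 1) ^ (b + b),
    AltReal.mul h1 h2,
    hPm.mul ((monic_X_sub_C (1 : F)).pow _ |> fun h => by simpa using h), ?_⟩
  rw [Polynomial.map_mul, hP, Polynomial.map_pow, Polynomial.map_sub, map_X, Polynomial.map_one, ← hb,
    ← Pm_single (r := r) ζ (m 0), ← Pm_add]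
  congr 1
  funext y
  by_cases hy : y = 0
  · subst hy; simp [m₁]
  · simp [m₁, hy]

/-- A form, an isometry of order `r` and a colouring of the coordinates into invariant blocks. -/
def DecReal (F : Type u) [Field F] (r a t : ℕ) (P : F[X]) : Prop :=
  ∃ (ι : Type) (_ : Fintype ι) (_ : DecidableEq ι) (J A : Matrix ι ι F) (blk : ι → Fin t),
    (∀ v, v ⬝ᵥ (J *ᵥ v) = 0) ∧ IsUnit J ∧ Aᵀ * J * A = J ∧ A ^ r = 1 ∧ A.charpoly = P ∧
      (∀ i j, blk i ≠ blk j → J i j = 0 ∧ A i j = 0) ∧ ∀ k, Nat.card {i // blk i = k} = a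

theorem decReal_prod {a : ℕ} : ∀ (t : ℕ) (Ps : Fin t → F[X]), (∀ j, AltReal r (Ps j)) →
    (∀ j, (Ps j).natDegree = a) → DecReal F r a t (∏ j, Ps j) := by
  intro t
  induction t with
  | zero =>
    intro Ps _ _
    exact ⟨Fin 0, inferInstance, inferInstance, 1, 1, id, fun v => by simp [dotProduct], isUnit_one,
      Subsingleton.elim _ _, one_pow r, by simp [Matrix.charpoly_isEmpty], fun i => i.elim0, fun k => k.elim0⟩
  | succ t ih =>
    intro Ps hP hdeg
    obtain ⟨κ, _, _, J₁, A₁, hJ₁, hJu₁, hA₁, hAr₁, hAp₁⟩ := hP 0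
    obtain ⟨ι, _, _, J, A, blk, hJ, hJu, hA, hAr, hAp, hoff, hcard⟩ :=
      ih (fun j => Ps j.succ) (fun j => hP _) (fun j => hdeg _)
    refine ⟨κ ⊕ ι, inferInstance, inferInstance, Matrix.fromBlocks J₁ 0 0 J, Matrix.fromBlocks A₁ 0 0 A,
      Sum.elim (fun _ => 0) (fun i => (blk i).succ), fun v => ?_,
      Matrix.isUnit_fromBlocks_zero₁₂.mpr ⟨hJu₁, hJu⟩, ?_, ?_, ?_, ?_, fun k => ?_⟩
    · rw [← Sum.elim_comp_inl_inr v, Matrix.fromBlocks_mulVec, sum_dot]
      simp only [Sum.elim_comp_inl, Sum.elim_comp_inr, Matrix.zero_mulVec, add_zero, zero_add, hJ₁, hJ]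
    · rw [Matrix.fromBlocks_transpose, Matrix.fromBlocks_multiply, Matrix.fromBlocks_multiply]
      simp [hA₁, hA]
    · rw [fromBlocks_pow, hAr₁, hAr, Matrix.fromBlocks_one]
    · rw [Matrix.charpoly_fromBlocks_zero₁₂, hAp₁, hAp, Fin.prod_univ_succ]
    · rintro (i | i) (j | j) h
      · exact absurd rfl h
      · exact ⟨rfl, rfl⟩
      · exact ⟨rfl, rfl⟩
      · exact hoff i j fun e => h (congrArg Fin.succ e)
    · cases k using Fin.cases with
      | zero =>
        rw [← hdeg 0, ← hAp₁, Matrix.charpoly_natDegree_eq_dim, ← Nat.card_eq_fintype_card]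
        exact (Nat.card_congr (Equiv.ofBijective
          (fun i : κ => (⟨Sum.inl i, rfl⟩ :
            {i : κ ⊕ ι // Sum.elim (fun _ => (0 : Fin (t + 1))) (fun i => (blk i).succ) i = 0}))
          ⟨fun i j h => Sum.inl_injective (congrArg Subtype.val h), by
            rintro ⟨i | i, hi⟩
            · exact ⟨i, rfl⟩
            · exact absurd hi (Fin.succ_ne_zero _)⟩)).symm
      | succ k =>
        rw [← hcard k]
        exact (Nat.card_congr (Equiv.ofBijective
          (fun i : {i // blk i = k} => (⟨Sum.inr i.1, congrArg Fin.succ i.2⟩ :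
            {i : κ ⊕ ι // Sum.elim (fun _ => (0 : Fin (t + 1))) (fun i => (blk i).succ) i = k.succ}))
          ⟨fun i j h => Subtype.ext (Sum.inr_injective (congrArg Subtype.val h)), by
            rintro ⟨i | i, hi⟩
            · exact absurd hi (Fin.succ_ne_zero _).symm
            · exact ⟨⟨i, Fin.succ_injective _ hi⟩, rfl⟩⟩)).symm

/-- A block-diagonal isometry inside the standard symplectic group. -/
theorem exists_sp_decomp {a t d : ℕ} {P : F[X]} (h : DecReal F r a t P) (hdeg : P.natDegree = d + d)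
    (ht : 2 ≤ t) (ha : 0 < a) :
    ∃ g : Matrix.symplecticGroup (Fin d) F, g ^ r = 1 ∧
      (g : Matrix (Fin d ⊕ Fin d) (Fin d ⊕ Fin d) F).charpoly = P ∧
      ∃ D : Fin t → Submodule F (Fin d ⊕ Fin d → F), Cfsg.Geo.IsMDecomposition a D ∧
        (∀ j, Symp.NondegOn (Symp.spB d F) (D j)) ∧
        (∀ j j', j ≠ j' → ∀ u ∈ D j, ∀ v ∈ D j', Symp.spB d F u v = 0) ∧
        ∀ j, ∀ u ∈ D j, (g : Matrix (Fin d ⊕ Fin d) (Fin d ⊕ Fin d) F) *ᵥ u ∈ D j := by
  classical
  obtain ⟨ι, _, _, J, A, blk, hJ, hJu, hA, hAr, hAp, hoff, hcard⟩ := h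
  let e : ι ≃ Fin d ⊕ Fin d := Fintype.equivOfCardEq (by
    rw [Fintype.card_sum, Fintype.card_fin, ← hdeg, ← hAp, Matrix.charpoly_natDegree_eq_dim])
  obtain ⟨M, hMu, hM⟩ := exists_congr_sympJ (Matrix.reindexAlgEquiv F F e J) (fun v => by
    have : v = (v ∘ e) ∘ e.symm := by ext; simp
    rw [this]
    show ((v ∘ e) ∘ e.symm) ⬝ᵥ ((Matrix.submatrix J e.symm e.symm) *ᵥ ((v ∘ e) ∘ e.symm)) = 0
    rw [Matrix.submatrix_mulVec_equiv, comp_equiv_symm_dotProduct, Equiv.symm_symm]
    simp only [Function.comp_assoc, Equiv.symm_comp_self, Equiv.self_comp_symm, Function.comp_id]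
    exact hJ _) (hJu.map _)
  obtain ⟨M, rfl⟩ := hMu
  -- coordinates
  let ψ : (Fin d ⊕ Fin d → F) ≃ₗ[F] (ι → F) :=
    (Matrix.toLinearEquiv' (M : Matrix (Fin d ⊕ Fin d) (Fin d ⊕ Fin d) F)
      M.isUnit.invertible).trans (LinearEquiv.funCongrLeft F F e)
  have hψ : ∀ v i, ψ v i = ((M : Matrix (Fin d ⊕ Fin d) (Fin d ⊕ Fin d) F) *ᵥ v) (e i) := fun v i => rfl
  have hB : ∀ u v, Symp.spB d F u v = ψ u ⬝ᵥ (J *ᵥ ψ v) := by
    intro u v
    rw [Symp.spB, Matrix.toBilin'_apply', ← hM, ← Matrix.mulVec_mulVec, ← Matrix.mulVec_mulVec,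
      Matrix.dotProduct_mulVec, Matrix.vecMul_transpose, Matrix.reindexAlgEquiv_apply, Matrix.reindex_apply,
      Matrix.submatrix_mulVec_equiv, Equiv.symm_symm, dotProduct_comp_equiv_symm]
    rfl
  let g₀ : (Fin d ⊕ Fin d → F) →ₗ[F] (Fin d ⊕ Fin d → F) :=
    (ψ.symm : (ι → F) →ₗ[F] _) ∘ₗ Matrix.toLin' A ∘ₗ (ψ : _ →ₗ[F] (ι → F))
  have hg₀ : ∀ v, ψ (g₀ v) = A *ᵥ ψ v := fun v => by simp [g₀]
  have hmem : LinearMap.toMatrix' g₀ ∈ Matrix.symplecticGroup (Fin d) F := by
    rw [Symp.mem_symplecticGroup_iff]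
    intro u v
    rw [LinearMap.toMatrix'_mulVec, LinearMap.toMatrix'_mulVec, hB, hB, hg₀, hg₀]
    conv_rhs => rw [← hA]
    rw [← Matrix.mulVec_mulVec, ← Matrix.mulVec_mulVec, Matrix.dotProduct_mulVec (ψ u),
      Matrix.vecMul_transpose]
  have hpow : ∀ (k : ℕ) v, ψ ((g₀ ^ k) v) = (A ^ k) *ᵥ ψ v := fun k => by
    induction k with
    | zero => intro v; simp
    | succ k ih => intro v; rw [pow_succ', pow_succ', Module.End.mul_apply, hg₀, ih, Matrix.mulVec_mulVec]
  let S : Fin t → Submodule F (Fin d ⊕ Fin d → F) := fun k =>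
    { carrier := {v | ∀ i, blk i ≠ k → ψ v i = 0}
      add_mem' := fun {u v} hu hv i hi => by rw [map_add, Pi.add_apply, hu i hi, hv i hi, add_zero]
      zero_mem' := fun i _ => by rw [map_zero, Pi.zero_apply]
      smul_mem' := fun c v hv i hi => by rw [map_smul, Pi.smul_apply, hv i hi, smul_zero] }
  have hS : ∀ k v, v ∈ S k ↔ ∀ i, blk i ≠ k → ψ v i = 0 := fun _ _ => Iff.rfl
  have hmul : ∀ (N : Matrix ι ι F), (∀ i j, blk i ≠ blk j → N i j = 0) → ∀ k (v : ι → F),
      (∀ i, blk i ≠ k → v i = 0) → ∀ i, blk i ≠ k → (N *ᵥ v) i = 0 := by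
    intro N hN k v hv i hi
    refine Finset.sum_eq_zero fun j _ => ?_
    show N i j * v j = 0
    by_cases hj : blk j = k
    · rw [hN i j (hj ▸ hi), zero_mul]
    · rw [hv j hj, mul_zero]
  refine ⟨⟨_, hmem⟩, Subtype.ext ?_, ?_, S, ⟨ht, ha, fun k => ?_, fun k => ?_, ?_⟩, fun k u hu hu0 => ?_,
    fun j j' hjj u hu v hv => ?_, fun k u hu => ?_⟩
  · show LinearMap.toMatrix' g₀ ^ r = 1
    rw [← LinearMap.toMatrix'_id, ← show g₀ ^ r = LinearMap.id from LinearMap.ext fun v => ψ.injective (by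
      rw [hpow, hAr, Matrix.one_mulVec]; rfl)]
    exact (map_pow LinearMap.toMatrixAlgEquiv' g₀ r).symm
  · show (LinearMap.toMatrix' g₀).charpoly = P
    rw [← hAp, ← LinearMap.charpoly_toMatrix g₀ (Pi.basisFun F _) |>.trans (LinearEquiv.charpoly_conj ψ.symm (Matrix.toLin' A))
      |>.trans (Matrix.charpoly_toLin' A)]
    rfl
  · let E : S k ≃ₗ[F] ({i // blk i = k} → F) :=
      { toFun := fun v i => ψ v.1 i.1
        map_add' := fun u v => funext fun i => by simp
        map_smul' := fun c v => funext fun i => by simp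
        invFun := fun x => ⟨ψ.symm fun i => if h : blk i = k then x ⟨i, h⟩ else 0, fun i hi => by simp [hi]⟩
        left_inv := fun v => Subtype.ext (ψ.injective (funext fun i => by
          simp only [LinearEquiv.apply_symm_apply]
          split_ifs with h
          · rfl
          · exact (v.2 i h).symm))
        right_inv := fun x => funext fun i => by simp [i.2] }
    rw [E.finrank_eq, Module.finrank_pi, ← Nat.card_eq_fintype_card, hcard]
  · rw [Submodule.disjoint_def]
    intro v hv hv'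
    refine ψ.injective (funext fun i => ?_)
    rw [map_zero, Pi.zero_apply]
    by_cases hi : blk i = k
    · let Z : Submodule F (Fin d ⊕ Fin d → F) := LinearMap.ker ((LinearMap.proj i).comp (ψ : _ →ₗ[F] (ι → F)))
      have : (⨆ (j) (_ : j ≠ k), S j) ≤ Z := iSup₂_le fun j hj u hu => hu i (hi ▸ hj.symm)
      exact this hv'
    · exact hv i hi
  · rw [eq_top_iff]
    intro v _
    have : v = ∑ k : Fin t, ψ.symm (fun i => if blk i = k then ψ v i else 0) := by
      refine ψ.injective (funext fun i => ?_)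
      simp [Finset.sum_apply]
    rw [this]
    exact sum_mem fun k _ => Submodule.mem_iSup_of_mem k fun i hi => by simp [hi]
  · obtain ⟨i, hi⟩ : ∃ i, (ψ u ᵥ* J) i ≠ 0 := by
      by_contra hcon
      push Not at hcon
      obtain ⟨Ji, hJi⟩ := hJu.exists_right_inv
      refine hu0 (ψ.injective ?_)
      rw [map_zero, ← Matrix.vecMul_one (ψ u), ← hJi, ← Matrix.vecMul_vecMul,
        show ψ u ᵥ* J = 0 from funext hcon, Matrix.zero_vecMul]
    have hik : blk i = k := by
      by_contra hne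
      refine hi (Finset.sum_eq_zero fun j _ => ?_)
      show ψ u j * J j i = 0
      by_cases hj : blk j = k
      · rw [(hoff j i (hj ▸ Ne.symm hne)).1, mul_zero]
      · rw [hu j hj, zero_mul]
    refine ⟨ψ.symm (Pi.single i 1), fun j hj => ?_, ?_⟩
    · rw [LinearEquiv.apply_symm_apply, Pi.single_eq_of_ne (fun (h : j = i) => hj (by rw [h]; exact hik))]
    · rwa [hB, LinearEquiv.apply_symm_apply, Matrix.dotProduct_mulVec, dotProduct_single, mul_one]
  · rw [hB]
    refine Finset.sum_eq_zero fun i _ => ?_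
    show ψ u i * (J *ᵥ ψ v) i = 0
    by_cases hi : blk i = j
    · rw [hmul J (fun i j h => (hoff i j h).1) j' _ hv i (hi ▸ hjj), mul_zero]
    · rw [hu i hi, zero_mul]
  · show LinearMap.toMatrix' g₀ *ᵥ u ∈ S k
    rw [LinearMap.toMatrix'_mulVec, hS, hg₀]
    exact hmul A (fun i j h => (hoff i j h).2) k _ hu

end Realisation

section Count

variable {F : Type*} [Field F] [Fintype F]

/-- The ordered decompositions counted in the statement. -/
def IsDec (d a : ℕ) {t : ℕ} (D : Fin t → Submodule F (Fin d ⊕ Fin d → F)) : Prop :=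
  Cfsg.Geo.IsMDecomposition a D ∧ (∀ j, ∀ u ∈ D j, u ≠ 0 → ∃ v ∈ D j, Cfsg.sympForm d F u v ≠ 0) ∧
    (∀ j j', j ≠ j' → ∀ u ∈ D j, ∀ v ∈ D j', Cfsg.sympForm d F u v = 0)

theorem IsDec.nondeg {d a t : ℕ} {D : Fin t → Submodule F (Fin d ⊕ Fin d → F)} (h : IsDec d a D) (j : Fin t) :
    Symp.NondegOn (Symp.spB d F) (D j) := fun u hu hu0 => by
  obtain ⟨v, hv, he⟩ := h.2.1 j u hu hu0
  exact ⟨v, hv, by rwa [Symp.spB_apply]⟩

theorem exists_orth {d a t : ℕ} {D : Fin t → Submodule F (Fin d ⊕ Fin d → F)} (h : IsDec d a D) :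
    Nonempty (Symp.OrthDecomp (Symp.spB d F) D) :=
  Symp.exists_orthDecomp (Symp.spB_isAlt d F) h.nondeg
    (fun i j hij x hx y hy => by rw [Symp.spB_apply]; exact h.2.2 i j hij x hx y hy) h.1.iSup_eq_top

theorem map_isDec {d a t : ℕ} {D : Fin t → Submodule F (Fin d ⊕ Fin d → F)} (h : IsDec d a D)
    (A : Matrix.symplecticGroup (Fin d) F) :
    IsDec d a fun j => (D j).map (Matrix.toLin' (A : Matrix (Fin d ⊕ Fin d) (Fin d ⊕ Fin d) F)) := by
  have hform : ∀ u v, Cfsg.sympForm d F (Matrix.toLin' (A : Matrix (Fin d ⊕ Fin d) (Fin d ⊕ Fin d) F) u)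
      (Matrix.toLin' (A : Matrix (Fin d ⊕ Fin d) (Fin d ⊕ Fin d) F) v) = Cfsg.sympForm d F u v := fun u v => by
    rw [← Symp.spB_apply, ← Symp.spB_apply, Matrix.toLin'_apply, Matrix.toLin'_apply]
    exact (Symp.mem_symplecticGroup_iff _).1 A.2 u v
  let e := ((Symp.spEquiv A : Symp.iso (Symp.spB d F)) : (Fin d ⊕ Fin d → F) ≃ₗ[F] (Fin d ⊕ Fin d → F))
  have he : (e : (Fin d ⊕ Fin d → F) →ₗ[F] _) = Matrix.toLin' (A : Matrix (Fin d ⊕ Fin d) (Fin d ⊕ Fin d) F) :=
    LinearMap.ext fun v => rfl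
  refine ⟨⟨h.1.two_le, h.1.pos, fun i => ?_, ?_, ?_⟩, fun j u hu hu0 => ?_, fun j j' hjj u hu v hv => ?_⟩
  · show finrank F ((D i).map _) = a
    rw [← he, LinearEquiv.finrank_map_eq, h.1.finrank_eq]
  · rw [← he]
    exact h.1.indep.map_orderIso (Submodule.orderIsoMapComap e)
  · rw [← Submodule.map_iSup, h.1.iSup_eq_top, Submodule.map_top, ← he]
    exact LinearEquiv.range e
  · obtain ⟨u, hu', rfl⟩ := hu
    obtain ⟨v, hv, huv⟩ := h.2.1 j u hu' fun h0 => hu0 (by rw [h0, map_zero])
    exact ⟨_, Submodule.mem_map_of_mem hv, by rwa [hform]⟩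
  · obtain ⟨u, hu', rfl⟩ := hu
    obtain ⟨v, hv', rfl⟩ := hv
    rw [hform]
    exact h.2.2 j j' hjj u hu' v hv'

/-- A prime dividing the number of decompositions divides the order of the symplectic group. -/
theorem dvd_card_sp {d a t r : ℕ} {D₀ : Fin t → Submodule F (Fin d ⊕ Fin d → F)} (hD₀ : IsDec d a D₀)
    (hΩ : r ∣ Nat.card {D : Fin t → Submodule F (Fin d ⊕ Fin d → F) // IsDec d a D} / Nat.factorial t) :
    r ∣ Nat.card (Matrix.symplecticGroup (Fin d) F) := by
  classical
  let X := {D : Fin t → Submodule F (Fin d ⊕ Fin d → F) // IsDec d a D}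
  have hperm : ∀ (D : Fin t → Submodule F (Fin d ⊕ Fin d → F)) (π : Equiv.Perm (Fin t)), IsDec d a D →
      IsDec d a (D ∘ π) := fun D π h =>
    ⟨⟨h.1.two_le, h.1.pos, fun i => h.1.finrank_eq _, h.1.indep.comp π.injective,
      (π.surjective.iSup_comp D).trans h.1.iSup_eq_top⟩, fun j => h.2.1 _,
      fun j j' hjj => h.2.2 _ _ fun e => hjj (π.injective e)⟩
  letI : MulAction (Equiv.Perm (Fin t)) X :=
    { smul := fun π D => ⟨D.1 ∘ π.symm, hperm _ _ D.2⟩
      one_smul := fun D => Subtype.ext rfl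
      mul_smul := fun π ρ D => Subtype.ext rfl }
  have hfree : ∀ D : X, MulAction.stabilizer (Equiv.Perm (Fin t)) D = ⊥ := by
    intro D
    rw [Subgroup.eq_bot_iff_forall]
    intro π hπ
    refine Equiv.ext fun i => ?_
    have h1 : D.1 (π.symm (π i)) = D.1 (π i) := congrFun (congrArg Subtype.val (MulAction.mem_stabilizer_iff.1 hπ)) (π i)
    rw [Equiv.symm_apply_apply] at h1
    have hne : D.1 i ≠ ⊥ := fun h => by
      have := D.2.1.finrank_eq i
      rw [h, finrank_bot] at this
      exact D.2.1.pos.ne this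
    exact (D.2.1.indep.injOn (x₁ := i) hne (by rwa [Set.mem_setOf_eq, ← h1]) h1).symm
  have hX : r ∣ Nat.card X := by
    have h1 := Nat.card_congr (MulAction.selfEquivOrbitsQuotientProd hfree)
    rw [Nat.card_prod, Nat.card_perm, Nat.card_fin] at h1
    rw [h1, Nat.mul_div_cancel _ (Nat.factorial_pos t)] at hΩ
    exact h1 ▸ hΩ.mul_right _
  letI : MulAction (Matrix.symplecticGroup (Fin d) F) X :=
    { smul := fun A D => ⟨_, map_isDec D.2 A⟩
      one_smul := fun D => Subtype.ext (funext fun j => by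
        show (D.1 j).map (Matrix.toLin' (1 : Matrix (Fin d ⊕ Fin d) (Fin d ⊕ Fin d) F)) = D.1 j
        rw [Matrix.toLin'_one, Submodule.map_id])
      mul_smul := fun A C D => Subtype.ext (funext fun j => by
        show (D.1 j).map (Matrix.toLin' ((A : Matrix (Fin d ⊕ Fin d) (Fin d ⊕ Fin d) F) * (C : Matrix (Fin d ⊕ Fin d) (Fin d ⊕ Fin d) F))) = _
        rw [Matrix.toLin'_mul, Submodule.map_comp]
        rfl) }
  haveI : MulAction.IsPretransitive (Matrix.symplecticGroup (Fin d) F) X := by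
    refine ⟨fun D D' => ?_⟩
    obtain ⟨O⟩ := exists_orth D.2
    obtain ⟨O'⟩ := exists_orth D'.2
    have hA := Symp.spB_isAlt d F
    choose φ hφ hiso using fun j => Symp.exists_isometry_between hA _ (D.1 j) (D'.1 j) le_rfl
      (D.2.nondeg j) (D'.2.nondeg j) (by rw [D.2.1.finrank_eq, D'.2.1.finrank_eq])
    let Φ : (Fin d ⊕ Fin d → F) →ₗ[F] (Fin d ⊕ Fin d → F) :=
      ∑ j, (φ j).comp ((O.pr j).codRestrict (D.1 j) (O.mem j))
    have hΦ : ∀ u v, Symp.spB d F (Φ u) (Φ v) = Symp.spB d F u v := by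
      intro u v
      simp only [Φ, LinearMap.sum_apply, LinearMap.comp_apply]
      rw [Symp.bilin_sum O' _ _ (fun j => hφ j _) (fun j => hφ j _)]
      conv_rhs => rw [← O.sum u, ← O.sum v, Symp.bilin_sum O _ _ (fun j => O.mem j _) (fun j => O.mem j _)]
      exact Finset.sum_congr rfl fun j _ => hiso j _ _
    refine ⟨⟨LinearMap.toMatrix' Φ, (Symp.mem_symplecticGroup_iff _).2 fun u v => by
      rw [LinearMap.toMatrix'_mulVec, LinearMap.toMatrix'_mulVec, hΦ]⟩, Subtype.ext (funext fun j => ?_)⟩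
    show (D.1 j).map (Matrix.toLin' (LinearMap.toMatrix' Φ)) = D'.1 j
    rw [Matrix.toLin'_toMatrix']
    have hinj : Function.Injective Φ := (injective_iff_map_eq_zero _).2 fun u hu =>
      (Symp.spB_nondegenerate d F).1 u fun v => by rw [← hΦ, hu, map_zero, LinearMap.zero_apply]
    refine Submodule.eq_of_le_of_finrank_eq ?_ (by
      rw [← (Submodule.equivMapOfInjective Φ hinj _).finrank_eq, D.2.1.finrank_eq, D'.2.1.finrank_eq])
    rintro _ ⟨u, hu, rfl⟩
    simp only [Φ, LinearMap.sum_apply, LinearMap.comp_apply]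
    refine sum_mem fun l _ => ?_
    by_cases hl : l = j
    · exact hl ▸ hφ l _
    · rw [show (O.pr l).codRestrict (D.1 l) (O.mem l) u = 0 from Subtype.ext (O.cross l j hl u hu), map_zero]
      exact zero_mem _
  refine hX.trans ?_
  rw [← MulAction.index_stabilizer_of_transitive (Matrix.symplecticGroup (Fin d) F) (⟨D₀, hD₀⟩ : X)]
  exact Subgroup.index_dvd_card _

end Count

section Mult

universe u

variable {F : Type u} [Field F] [Fintype F] {L : Type u} [Field L] [Algebra F L] [IsAlgClosed L]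
  {r : ℕ} [Fact r.Prime] {ζ : L}

theorem Pm_sum (ζ : L) {ι : Type*} (S : Finset ι) (f : ι → ZMod r → ℕ) :
    Pm ζ (∑ j ∈ S, f j) = ∏ j ∈ S, Pm ζ (f j) := by
  classical
  induction S using Finset.induction_on with
  | empty => rw [Finset.sum_empty, Finset.prod_empty, Pm_zero]
  | @insert x S hx ih => rw [Finset.sum_insert hx, Finset.prod_insert hx, Pm_add, ih]

/-- The multiplicities of a symplectic matrix of order dividing `r`. -/
theorem exists_mult_sp (hζ : IsPrimitiveRoot ζ r) (hrL : (r : L) ≠ 0) (hrF : (r : F) ≠ 0) {uq : (ZMod r)ˣ}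
    (huq : (uq : ZMod r) = (Fintype.card F : ZMod r)) (w : (ZMod r)ˣ)
    (hw : (w : ZMod r) = (uq : ZMod r) ∨ (w : ZMod r) = -(uq : ZMod r)) {d : ℕ}
    (y : Matrix.symplecticGroup (Fin d) F) (hy : y ^ r = 1) :
    ∃ m : ZMod r → ℕ, (y : Matrix (Fin d ⊕ Fin d) (Fin d ⊕ Fin d) F).charpoly.map (algebraMap F L) = Pm ζ m ∧
      Inv w (d + d) m ∧
      finrank F (LinearMap.ker (Matrix.toLin' (y : Matrix (Fin d ⊕ Fin d) (Fin d ⊕ Fin d) F) - 1)) = m 0 := by
  classical
  let R := Matrix.reindexAlgEquiv F F (finSumFinEquiv : Fin d ⊕ Fin d ≃ Fin (d + d))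
  have hyr : (y : Matrix (Fin d ⊕ Fin d) (Fin d ⊕ Fin d) F) ^ r = 1 := by
    rw [← SubmonoidClass.coe_pow, hy]; rfl
  have hR : R (y : Matrix (Fin d ⊕ Fin d) (Fin d ⊕ Fin d) F) ^ r = 1 := by rw [← map_pow, hyr, map_one]
  obtain ⟨m, hm, hs⟩ := exists_mult (L := L) hζ _ hR
  have hcp : ∀ M : Matrix (Fin d ⊕ Fin d) (Fin d ⊕ Fin d) F, (R M).charpoly = M.charpoly := fun M => by
    rw [Matrix.reindexAlgEquiv_apply, Matrix.charpoly_reindex]
  have hinv : Inv w (d + d) m := inv_of_charpoly hζ hrL huq w hw (R y)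
    (R ((y⁻¹ : Matrix.symplecticGroup (Fin d) F) : Matrix (Fin d ⊕ Fin d) (Fin d ⊕ Fin d) F)) hR
    (by rw [← map_mul, ← Submonoid.coe_mul, mul_inv_cancel, Submonoid.coe_one, map_one])
    (by
      rw [hcp, hcp]
      exact charpoly_inv_of_form (Matrix.J (Fin d) F) _ _ (isUnit_sympJ d) (SymplecticGroup.mem_iff'.mp y.2)
        (by rw [← Submonoid.coe_mul, mul_inv_cancel, Submonoid.coe_one])) hm hs
  rw [hcp] at hm
  refine ⟨m, hm, hinv, ?_⟩
  rw [finrank_fix (r := r) hrF (by rw [← Matrix.toLin'_pow, hyr, Matrix.toLin'_one]; rfl), Matrix.charpoly_toLin',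
    eq_rootMultiplicity_map (algebraMap F L).injective, hm, map_one, ← zp_zero (ζ := ζ) (r := r),
    count_roots_Pm hζ]

end Mult

set_option maxHeartbeats 800000 in
/-- Elements of odd prime order of PSp_n(q) and imprimitive subgroups. Here `T = PSp_n(q)`, `n = 2d ≥ 4`, `(n, q) ≠ (4, 2)`, realised through the symplectic matrices over the field `F` with `q` elements and the standard alternating form; `n = a·t` with `a` even and `t ≥ 2`, and Ω is the (nonempty) set of orthogonal decompositions of `F^n` into `t` nondegenerate subspaces of dimension `a` (unordered; counted as ordered ones divided by `t!`), whose stabilizers are the imprimitive subgroups of type Sp_a(q) ≀ S_t (maximality is not assumed); an element of `T` of prime order `r` (a symplectic matrix `x` with `x^r` scalar, `x` not scalar) fixes a point of Ω when it permutes the summands of some such decomposition. Let `r ≠ p` be an odd prime dividing the number of such decompositions, let `i` be the multiplicative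 order of `q` modulo `r`, `c = i` if `i` is even and `c = 2i` if `i` is odd, and write `k = n mod c`, `ℓ = a mod c`. Then every element of `T` of order `r` stabilizes such a decomposition if and only if `c ≤ a` and `k = t·ℓ`. -/
theorem result {F : Type*} [Field F] [Fintype F] {p : ℕ} [Fact p.Prime] [CharP F p] {q : ℕ} (hq : Fintype.card F = q)
    (d : ℕ) (hd : 2 ≤ d) (hT : (d, q) ≠ (2, 2))
    (a t : ℕ) (hat : 2 * d = a * t) (ha : 2 ≤ a) (hae : Even a) (ht : 2 ≤ t)
    (r : ℕ) [Fact r.Prime] (hr2 : r ≠ 2) (hrp : r ≠ p) (hΩ : r ∣ Nat.card {D : Fin t → Submodule F (Fin d ⊕ Fin d → F) // (Cfsg.Geo.IsMDecomposition a D ∧ (∀ j, ∀ u ∈ D j, u ≠ 0 → ∃ v ∈ D j, Cfsg.sympForm d F u v ≠ 0) ∧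
          (∀ j j', j ≠ j' → ∀ u ∈ D j, ∀ v ∈ D j', Cfsg.sympForm d F u v = 0))} / Nat.factorial t)
    (i c : ℕ) (hi : i = orderOf (q : ZMod r)) (hc : c = if Even i then i else 2 * i) :
    (∀ x : ↥(Matrix.symplecticGroup (Fin d) F),
      (∃ z : F, ((x ^ r : ↥(Matrix.symplecticGroup (Fin d) F)) : Matrix (Fin d ⊕ Fin d) (Fin d ⊕ Fin d) F) = z • (1 : Matrix (Fin d ⊕ Fin d) (Fin d ⊕ Fin d) F)) →
      (∀ z : F, (x : Matrix (Fin d ⊕ Fin d) (Fin d ⊕ Fin d) F) ≠ z • (1 : Matrix (Fin d ⊕ Fin d) (Fin d ⊕ Fin d) F)) →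
      ∃ D : Fin t → Submodule F (Fin d ⊕ Fin d → F), (Cfsg.Geo.IsMDecomposition a D ∧ (∀ j, ∀ u ∈ D j, u ≠ 0 → ∃ v ∈ D j, Cfsg.sympForm d F u v ≠ 0) ∧
          (∀ j j', j ≠ j' → ∀ u ∈ D j, ∀ v ∈ D j', Cfsg.sympForm d F u v = 0)) ∧
        ∃ σ : Equiv.Perm (Fin t), ∀ j, (D j).map (Matrix.toLin' (x : Matrix (Fin d ⊕ Fin d) (Fin d ⊕ Fin d) F)) = D (σ j)) ↔
    (c ≤ a ∧ (2 * d) % c = t * (a % c)) := by
  classical
  subst hq
  obtain ⟨hr⟩ := (inferInstance : Fact r.Prime)
  let L := AlgebraicClosure F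
  haveI : CharP L p := charP_of_injective_algebraMap (algebraMap F L).injective p
  have hrL : (r : L) ≠ 0 := fun h =>
    hrp ((Nat.prime_dvd_prime_iff_eq Fact.out hr).mp ((CharP.cast_eq_zero_iff L p r).mp h)).symm
  have hrF : (r : F) ≠ 0 := fun h => hrL (by rw [← map_natCast (algebraMap F L), h, map_zero])
  haveI : NeZero (r : L) := ⟨hrL⟩
  obtain ⟨ζ, hζ⟩ := HasEnoughRootsOfUnity.exists_primitiveRoot L r
  have hrq : ¬ r ∣ Fintype.card F := fun h => by
    obtain ⟨k, -, hk⟩ := FiniteField.card F p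
    rw [hk] at h
    exact hrp ((Nat.prime_dvd_prime_iff_eq hr Fact.out).mp (hr.dvd_of_dvd_pow h))
  let uq : (ZMod r)ˣ := Units.mk0 _ (fun h => hrq ((ZMod.natCast_eq_zero_iff _ _).1 h) : (Fintype.card F : ZMod r) ≠ 0)
  have huq : (uq : ZMod r) = (Fintype.card F : ZMod r) := rfl
  have hiu : orderOf uq = i := by rw [hi, ← orderOf_units, huq]
  obtain ⟨w, hw, hwq, hwn, hwo⟩ := exists_gen hr2 uq
  rw [hiu] at hwo
  have hwc : orderOf w = c := by
    rw [hwo, hc]
    by_cases he : Even i
    · rw [if_pos he, if_neg (Nat.not_odd_iff_even.mpr he)]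
    · rw [if_neg he, if_pos (Nat.not_even_iff_odd.mp he)]
  have hc0 : 0 < c := hwc ▸ orderOf_pos w
  have hce : 2 ∣ c := by
    rw [hc]
    split_ifs with he
    · exact even_iff_two_dvd.1 he
    · exact dvd_mul_right 2 i
  have hcr : c ∣ r - 1 := by
    rw [← hwc, ← ZMod.card_units r]
    exact orderOf_dvd_card
  have hd2 : d + d = 2 * d := (two_mul d).symm
  have hc' : c = if Even (orderOf (Fintype.card F : ZMod r)) then orderOf (Fintype.card F : ZMod r)
      else 2 * orderOf (Fintype.card F : ZMod r) := by rw [← hi]; exact hc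
  -- every invariant multiplicity function with parts is realised on a decomposition
  have hreal : ∀ ms : Fin t → ZMod r → ℕ, (∀ j, Inv w a (ms j)) →
      ∃ g : Matrix.symplecticGroup (Fin d) F, g ^ r = 1 ∧
        (g : Matrix (Fin d ⊕ Fin d) (Fin d ⊕ Fin d) F).charpoly.map (algebraMap F L) = Pm ζ (∑ j, ms j) ∧
        ∃ D : Fin t → Submodule F (Fin d ⊕ Fin d → F), IsDec d a D ∧
          ∀ j, ∀ u ∈ D j, (g : Matrix (Fin d ⊕ Fin d) (Fin d ⊕ Fin d) F) *ᵥ u ∈ D j := by
    intro ms hms
    have hev : ∀ j, Even (ms j 0) := fun j => by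
      have h1 := dvd_sum_erase w hwc _ _ (hms j)
      have h2 : ms j 0 ≤ a := (hms j).1 ▸ Finset.single_le_sum (fun y _ => Nat.zero_le _) (Finset.mem_univ _)
      obtain ⟨k, hk⟩ := hce.trans h1
      obtain ⟨b, hb⟩ := hae
      exact ⟨b - k, by omega⟩
    choose Ps hA hmon hPs using fun j => altReal_any (F := F) hζ huq hr2 w hwq hwn (hms j) (hev j)
    have hdeg : ∀ j, (Ps j).natDegree = a := fun j => by
      rw [← natDegree_map (algebraMap F L), hPs, Pm_natDegree, (hms j).1]
    obtain ⟨g, hg, hgp, D, hD1, hD2, hD3, hD4⟩ := exists_sp_decomp (d := d) (decReal_prod t Ps hA hdeg) (by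
      rw [natDegree_prod_of_monic _ _ (fun j _ => hmon j), Finset.sum_congr rfl fun j _ => hdeg j,
        Finset.sum_const, Finset.card_univ, Fintype.card_fin, smul_eq_mul, hd2, hat, mul_comm]) ht (by omega)
    refine ⟨g, hg, ?_, D, ⟨hD1, fun j u hu hu0 => ?_, fun j j' h u hu v hv => ?_⟩, hD4⟩
    · rw [hgp, Polynomial.map_prod, Pm_sum]
      exact Finset.prod_congr rfl fun j _ => hPs j
    · obtain ⟨v, hv, hne⟩ := hD2 j u hu hu0
      exact ⟨v, hv, by rwa [← Symp.spB_apply]⟩
    · rw [← Symp.spB_apply]; exact hD3 j j' h u hu v hv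
  have hone : Inv w a (Pi.single (0 : ZMod r) a : ZMod r → ℕ) := ⟨by simp, fun y => by
    by_cases hy : y = 0
    · rw [hy, mul_zero]
    · rw [Pi.single_eq_of_ne (mul_ne_zero w.ne_zero hy), Pi.single_eq_of_ne hy]⟩
  obtain ⟨-, -, -, D₀, hD₀, -⟩ := hreal (fun _ => Pi.single (0 : ZMod r) a) fun _ => hone
  have hcd : c ≤ 2 * d := by
    obtain ⟨g, hg⟩ := exists_prime_orderOf_dvd_card' r (dvd_card_sp hD₀ hΩ)
    obtain ⟨m, hm, hinv, hfix⟩ := exists_mult_sp hζ hrL hrF huq w hw g (hg ▸ pow_orderOf_eq_one g)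
    have h1 := dvd_sum_erase w hwc _ _ hinv
    have hne : m 0 ≠ d + d := fun h => by
      have htop : LinearMap.ker (Matrix.toLin' (g : Matrix (Fin d ⊕ Fin d) (Fin d ⊕ Fin d) F) - 1) = ⊤ :=
        Submodule.eq_top_of_finrank_eq (by rw [hfix, h, Symp.finrank_space, hd2])
      have hg1 : g = 1 := Subtype.ext (Matrix.toLin'.injective (by
        show Matrix.toLin' (g : Matrix (Fin d ⊕ Fin d) (Fin d ⊕ Fin d) F) = Matrix.toLin' 1
        rw [Matrix.toLin'_one]
        exact LinearMap.ext fun v => sub_eq_zero.1 (LinearMap.mem_ker.1 (htop ▸ Submodule.mem_top (x := v)))))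
      rw [hg1, orderOf_one] at hg
      exact hr.one_lt.ne hg
    have h2 : m 0 ≤ d + d := hinv.1 ▸ Finset.single_le_sum (fun y _ => Nat.zero_le _) (Finset.mem_univ _)
    have := Nat.le_of_dvd (by omega) h1
    omega
  constructor
  · intro hall
    -- a test element
    have htest : ∀ K : ℕ, 0 < K → c * K ≤ 2 * d →
        ∃ D : Fin t → Submodule F (Fin d ⊕ Fin d → F), IsDec d a D ∧
        ∃ (T : (Fin d ⊕ Fin d → F) →ₗ[F] (Fin d ⊕ Fin d → F)) (σ : Equiv.Perm (Fin t)),
          T ^ r = 1 ∧ (∀ u v, Symp.spB d F (T u) (T v) = Symp.spB d F u v) ∧ (∀ j, (D j).map T = D (σ j)) ∧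
          finrank F (LinearMap.ker (T - 1)) = 2 * d - c * K := by
      intro K hK hKd
      let m : ZMod r → ℕ := fun y => K * (if y ∈ orbit w 1 then 1 else 0) + if y = 0 then 2 * d - c * K else 0
      have h10 : (0 : ZMod r) ∉ orbit w 1 := fun h => by
        obtain ⟨l, hl⟩ := mem_orbit.mp h
        exact mul_ne_zero (pow_ne_zero _ w.ne_zero) one_ne_zero hl.symm
      have hinv : Inv w (2 * d) m := by
        refine ⟨?_, fun y => ?_⟩
        · rw [Finset.sum_add_distrib, ← Finset.mul_sum, Finset.sum_boole, Finset.filter_mem_eq_inter,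
            Finset.univ_inter, card_orbit w one_ne_zero, hwc, Finset.sum_ite_eq', if_pos (Finset.mem_univ _),
            Nat.cast_id, mul_comm K]
          omega
        · show _ + _ = K * (if y ∈ orbit w 1 then 1 else 0) + if y = 0 then 2 * d - c * K else 0
          exact congrArg₂ (· + ·) (congrArg (K * ·) (if_congr (orbit_indicator w 1 y) rfl rfl))
            (if_congr (by simp) rfl rfl)
      have hm0 : m 0 = 2 * d - c * K := by simp [m, h10]
      obtain ⟨P, hP, -, hPm⟩ := altReal_any (F := F) hζ huq hr2 w hwq hwn hinv (by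
        obtain ⟨e, he⟩ := hce
        rw [hm0, he]
        exact ⟨d - e * K, by rw [mul_assoc]; omega⟩)
      obtain ⟨g, hg, hgp⟩ := exists_sp_of_altReal (m := d) hP (by
        rw [← natDegree_map (algebraMap F L), hPm, Pm_natDegree, hinv.1, hd2])
      obtain ⟨m', hm', -, hfix⟩ := exists_mult_sp hζ hrL hrF huq w hw g hg
      rw [hgp, hPm] at hm'
      rw [← Pm_inj hζ hm', hm0] at hfix
      have hgr : (g : Matrix (Fin d ⊕ Fin d) (Fin d ⊕ Fin d) F) ^ r = 1 := by
        rw [← SubmonoidClass.coe_pow, hg]; rfl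
      obtain ⟨D, hD, σ, hσ⟩ := hall g ⟨1, by rw [hg, one_smul]; rfl⟩ fun z hz => by
        haveI : NeZero d := ⟨by omega⟩
        have h1 : z ^ r = 1 := by
          have h := congrFun (congrFun hgr (Sum.inl 0)) (Sum.inl 0)
          rwa [hz, _root_.smul_pow, one_pow, Matrix.smul_apply, Matrix.one_apply_eq, smul_eq_mul, mul_one] at h
        have h2 : z * z = 1 := by
          have h := SymplecticGroup.mem_iff'.mp g.2
          rw [hz, Matrix.transpose_smul, Matrix.transpose_one, smul_mul_assoc, one_mul, mul_smul_comm, mul_one,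
            smul_smul] at h
          have h' := congrFun (congrFun h (Sum.inr 0)) (Sum.inl 0)
          simpa [Matrix.J] using h'
        have hz1 : z = 1 := by
          obtain ⟨k, hk⟩ := hr.odd_of_ne_two hr2
          rwa [hk, pow_succ, pow_mul, pow_two, h2, one_pow, one_mul] at h1
        rw [hz, hz1, one_smul] at hfix
        rw [Matrix.toLin'_one, ← Module.End.one_eq_id, sub_self, LinearMap.ker_zero, finrank_top, Symp.finrank_space] at hfix
        have : 0 < c * K := Nat.mul_pos hc0 hK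
        omega
      refine ⟨D, hD, Matrix.toLin' (g : Matrix (Fin d ⊕ Fin d) (Fin d ⊕ Fin d) F), σ, ?_, ?_, hσ, hfix⟩
      · rw [← Matrix.toLin'_pow, hgr]
        exact Matrix.toLin'_one
      · intro u v
        rw [Matrix.toLin'_apply, Matrix.toLin'_apply]
        exact (Symp.mem_symplecticGroup_iff _).1 g.2 u v
    -- fixed blocks
    have hfixed : ∀ {D : Fin t → Submodule F (Fin d ⊕ Fin d → F)}, IsDec d a D →
        ∀ (T : (Fin d ⊕ Fin d → F) →ₗ[F] (Fin d ⊕ Fin d → F)), T ^ r = 1 →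
        (∀ u v, Symp.spB d F (T u) (T v) = Symp.spB d F u v) → (∀ j, (D j).map T = D j) →
        t * (a % c) ≤ finrank F (LinearMap.ker (T - 1)) := by
      intro D hD T hTr hT hDT
      obtain ⟨O⟩ := exists_orth hD
      refine le_trans ?_ (sum_fix_le O (T := T) fun j x hx => hx.2)
      have hj : ∀ j, a % c ≤ finrank F ↥(D j ⊓ LinearMap.ker (T - 1)) := fun j => by
        obtain ⟨k, hk⟩ := moved_part hrF hrq (Symp.spB_isAlt d F) hT hTr (hD.nondeg j)
          (fun x hx => hDT j ▸ Submodule.mem_map_of_mem hx) hc'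
        have h1 : finrank F ↥(D j ⊓ LinearMap.ker (T - 1)) ≤ a :=
          (Submodule.finrank_mono inf_le_left).trans (hD.1.finrank_eq j).le
        rw [hD.1.finrank_eq] at hk
        rw [show a = finrank F ↥(D j ⊓ LinearMap.ker (T - 1)) + c * k by omega, Nat.add_mul_mod_self_left]
        exact Nat.mod_le _ _
      calc t * (a % c) = ∑ _j : Fin t, a % c := by simp
        _ ≤ _ := Finset.sum_le_sum fun j _ => hj j
    have hca : c ≤ a := by
      by_contra hlt
      push Not at hlt
      obtain ⟨D, hD, T, σ, hTr, hT, hσ, hfix⟩ := htest 1 one_pos (by omega)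
      by_cases h1 : ∀ j, σ j = j
      · have h2 := hfixed hD T hTr hT fun j => by rw [hσ, h1]
        rw [Nat.mod_eq_of_lt hlt, hfix, mul_comm t, ← hat] at h2
        omega
      · push Not at h1
        obtain ⟨j, hj⟩ := h1
        obtain ⟨O⟩ := exists_orth hD
        have hne : ∀ j, D j ≠ ⊥ := fun j h => by
          have := hD.1.finrank_eq j
          rw [h, finrank_bot] at this
          omega
        obtain ⟨-, h3⟩ := cycle_bounds O hσ hTr (perm_pow hD.1.indep hne hσ hTr) hj
        rw [hfix, hD.1.finrank_eq, Symp.finrank_space] at h3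
        have h4 : (r - 1) * 2 ≤ (r - 1) * a := Nat.mul_le_mul_left _ ha
        have h5 : c ≤ r - 1 := Nat.le_of_dvd (by have := hr.two_le; omega) hcr
        omega
    refine ⟨hca, ?_⟩
    obtain ⟨D, hD, T, σ, hTr, hT, hσ, hfix⟩ := htest (2 * d / c) (Nat.div_pos hcd hc0) (Nat.mul_div_le _ _)
    rw [← Nat.mod_eq_sub_mul_div] at hfix
    have hlt := Nat.mod_lt (2 * d) hc0
    have h1 : ∀ j, σ j = j := fun j => by
      by_contra hj
      obtain ⟨O⟩ := exists_orth hD
      have hne : ∀ j, D j ≠ ⊥ := fun j h => by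
        have := hD.1.finrank_eq j
        rw [h, finrank_bot] at this
        omega
      obtain ⟨h3, -⟩ := cycle_bounds O hσ hTr (perm_pow hD.1.indep hne hσ hTr) hj
      rw [hfix, hD.1.finrank_eq] at h3
      omega
    have h2 := hfixed hD T hTr hT fun j => by rw [hσ, h1]
    rw [hfix] at h2
    conv_lhs => rw [hat, mul_comm a t, Nat.mul_mod]
    rw [Nat.mod_mul_mod, Nat.mod_eq_of_lt (lt_of_le_of_lt h2 hlt)]
  · rintro ⟨-, hmod⟩ x ⟨z, hxz⟩ -
    haveI : NeZero d := ⟨by omega⟩
    rw [SubmonoidClass.coe_pow] at hxz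
    have hz2 : z * z = 1 := by
      have h := SymplecticGroup.mem_iff'.mp ((x ^ r : Matrix.symplecticGroup (Fin d) F)).2
      rw [SubmonoidClass.coe_pow, hxz, Matrix.transpose_smul, Matrix.transpose_one, smul_mul_assoc, one_mul,
        mul_smul_comm, mul_one, smul_smul] at h
      have h' := congrFun (congrFun h (Sum.inr 0)) (Sum.inl 0)
      simpa [Matrix.J] using h'
    have hymem : z • (x : Matrix (Fin d ⊕ Fin d) (Fin d ⊕ Fin d) F) ∈ Matrix.symplecticGroup (Fin d) F := by
      rw [SymplecticGroup.mem_iff', Matrix.transpose_smul, smul_mul_assoc, smul_mul_assoc, mul_smul_comm, smul_smul,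
        SymplecticGroup.mem_iff'.mp x.2, hz2, one_smul]
    let y : Matrix.symplecticGroup (Fin d) F := ⟨_, hymem⟩
    have hy : y ^ r = 1 := by
      refine Subtype.ext ?_
      rw [SubmonoidClass.coe_pow]
      show (z • (x : Matrix (Fin d ⊕ Fin d) (Fin d ⊕ Fin d) F)) ^ r = 1
      obtain ⟨k, hk⟩ := hr.odd_of_ne_two hr2
      rw [_root_.smul_pow, hxz, smul_smul, hk, ← pow_succ, show 2 * k + 1 + 1 = 2 * (k + 1) by omega, pow_mul, pow_two, hz2,
        one_pow, one_smul]
    obtain ⟨m, hm, hinv, -⟩ := exists_mult_sp hζ hrL hrF huq w hw y hy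
    rw [hd2] at hinv
    have hm0 : t * (a % c) ≤ m 0 := by
      obtain ⟨k, hk⟩ := dvd_sum_erase w hwc _ _ hinv
      have h2 : m 0 ≤ 2 * d := hinv.1 ▸ Finset.single_le_sum (fun y _ => Nat.zero_le _) (Finset.mem_univ _)
      rw [← hmod, show 2 * d = m 0 + c * k by omega, Nat.add_mul_mod_self_left]
      exact Nat.mod_le _ _
    rw [hat, mul_comm a t] at hinv
    obtain ⟨ms, hms, hsum⟩ := exists_parts w hwc t m hinv hm0
    obtain ⟨g, hg, hgp, D, hD, hgD⟩ := hreal ms hms
    rw [hsum, ← hm] at hgp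
    have hN : ((orderOf g : ℕ) : F) ≠ 0 := by
      rcases hr.eq_one_or_self_of_dvd _ (orderOf_dvd_of_pow_eq_one hg) with h | h <;> rw [h]
      · exact_mod_cast one_ne_zero
      · exact hrF
    obtain ⟨A, hA⟩ := isConj_iff.1 (SympConj.isConj_sp_of_isConj g y hN (SympConj.isConj_matrix_of_charpoly_eq g y
      hrF hrF hg hy (Polynomial.map_injective _ (algebraMap F L).injective hgp)))
    refine ⟨_, map_isDec hD A, 1, fun j => ?_⟩
    set Am : Matrix (Fin d ⊕ Fin d) (Fin d ⊕ Fin d) F :=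
      (A : Matrix (Fin d ⊕ Fin d) (Fin d ⊕ Fin d) F) with hAm
    have hz : z ≠ 0 := fun h => by simp [h] at hz2
    have hinj : Function.Injective (Matrix.toLin' (g : Matrix (Fin d ⊕ Fin d) (Fin d ⊕ Fin d) F)) := fun u v h => by
      have h' := congrArg (fun v => ((g⁻¹ : Matrix.symplecticGroup (Fin d) F) : Matrix (Fin d ⊕ Fin d) (Fin d ⊕ Fin d) F) *ᵥ v) h
      simpa only [Matrix.toLin'_apply, Matrix.mulVec_mulVec, ← Submonoid.coe_mul, inv_mul_cancel, Submonoid.coe_one,
        Matrix.one_mulVec] using h'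
    have hgDj : (D j).map (Matrix.toLin' (g : Matrix (Fin d ⊕ Fin d) (Fin d ⊕ Fin d) F)) = D j :=
      Submodule.eq_of_le_of_finrank_eq (Submodule.map_le_iff_le_comap.2 fun u hu => hgD j u hu)
        (Submodule.equivMapOfInjective _ hinj _).symm.finrank_eq
    have hAg : (z • (x : Matrix (Fin d ⊕ Fin d) (Fin d ⊕ Fin d) F)) * Am = Am * g :=
      congrArg Subtype.val (show y * A = A * g by rw [← hA]; group)
    show ((D j).map (Matrix.toLin' Am)).map (Matrix.toLin' (x : Matrix (Fin d ⊕ Fin d) (Fin d ⊕ Fin d) F)) = (D j).map (Matrix.toLin' Am)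
    rw [← Submodule.map_comp, ← Submodule.map_smul _ (D j) z hz, ← LinearMap.smul_comp, ← map_smul,
      ← Matrix.toLin'_mul, hAg, Matrix.toLin'_mul, Submodule.map_comp, hgDj]

end Cfsg.Agent.S5961
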