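import Cfsg.Statements.S0775
import Cfsg.Agent.Lib.Linear.SympParabolic

set_option autoImplicit false
open Cfsg

namespace Cfsg.Agent.S0775

open Cfsg.Lib.Linear Cfsg.Lib.Linear.Symp Module
open scoped Matrix

theorem main {F : Type*} [Field F] [Fintype F] {q : ℕ} (hF : Fintype.card F = q) (m k : ℕ) (hk : k ≤ m)
    (W : Submodule F (Fin m ⊕ Fin m → F)) (hWk : Module.finrank F W = k)
    (hW : ∀ u ∈ W, ∀ v ∈ W, Cfsg.sympForm m F u v = 0) :
    Nat.card ↥(Cfsg.stabilizing (Cfsg.spToMat m F) (W : Set (Fin m ⊕ Fin m → F))) =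
      q ^ (k * (k + 1) / 2 + 2 * k * (m - k)) *
        (q ^ ((m - k) ^ 2) * ∏ i ∈ Finset.range (m - k), (q ^ (2 * (i + 1)) - 1)) *
        ∏ i : Fin k, (q ^ k - q ^ (i : ℕ)) := by
  classical
  subst hF
  have hB := spB_nondegenerate m F
  have hA := spB_isAlt m F
  have hWi : ∀ u ∈ W, ∀ v ∈ W, spB m F u v = 0 := fun u hu v hv => by rw [spB_apply]; exact hW u hu v hv
  set H := (Cfsg.stabilizing (Cfsg.spToMat m F) (W : Set (Fin m ⊕ Fin m → F))).map
    ((iso (spB m F)).subtype.comp spEquiv.toMonoidHom) with hHdef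
  have hcard : Nat.card H = Nat.card ↥(Cfsg.stabilizing (Cfsg.spToMat m F) (W : Set (Fin m ⊕ Fin m → F))) :=
    (Nat.card_congr (Subgroup.equivMapOfInjective (Cfsg.stabilizing (Cfsg.spToMat m F) (W : Set (Fin m ⊕ Fin m → F)))
      ((iso (spB m F)).subtype.comp spEquiv.toMonoidHom)
      (fun a b h => spEquiv.injective (Subtype.ext h))).toEquiv).symm
  have hH : ∀ g, g ∈ H ↔ g ∈ iso (spB m F) ∧
      ∃ h : g ∈ StabCard.stabW W, StabCard.resW W ⟨g, h⟩ ∈ (⊤ : Subgroup (W ≃ₗ[F] W)) := by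
    intro g
    constructor
    · rintro ⟨A, hA', rfl⟩
      exact ⟨(spEquiv A).2, fun v => hA' v, trivial⟩
    · rintro ⟨hg, hs, -⟩
      refine ⟨spEquiv.symm ⟨g, hg⟩, fun v => ?_, ?_⟩
      · have := spEquiv_apply (spEquiv.symm ⟨g, hg⟩) v
        rw [MulEquiv.apply_symm_apply] at this
        show v ∈ W ↔ (spEquiv.symm ⟨g, hg⟩ : Matrix _ _ F) *ᵥ v ∈ W
        rw [← this]
        exact hs v
      · simp
  have hs : ∀ σ ∈ (⊤ : Subgroup (W ≃ₗ[F] W)), ∃ g ∈ iso (spB m F), ∀ x : W, g (x : _) = σ x := fun σ _ => by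
    obtain ⟨t, ht, htx⟩ := witt hB hA W (W.subtype ∘ₗ (σ : W →ₗ[F] W))
      (W.injective_subtype.comp σ.injective) fun x y => by
        show spB m F ((σ x : W) : _) ((σ y : W) : _) = _
        rw [hWi _ (σ x).2 _ (σ y).2, hWi _ x.2 _ y.2]
    exact ⟨t, T_le_fixer hA ⊥ ht |>.1, htx⟩
  rw [← hcard, StabCard.card_stab (iso (spB m F)) W (fixer (spB m F) W) (fun g => mem_fixer) ⊤ H hH hs,
    Subgroup.card_top, StabCard.card_aut k hWk, card_fixer_isotropic hB hA finrank_space hk hWk hWi]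

/-- Maximal parabolics of the symplectic group: if W is a k-dimensional subspace of F^(2m) on which the symplectic form vanishes identically, its stabiliser in Sp_2m(q) has order q^(k(k+1)/2 + 2k(m−k)) · |Sp_(2m−2k)(q)| · |GL_k(q)|. -/
theorem result {F : Type*} [Field F] [Fintype F] {q : ℕ} (hF : Fintype.card F = q) (m k : ℕ) (hk : k ≤ m) (W : Submodule F (Fin m ⊕ Fin m → F)) (hWk : Module.finrank F W = k) (hW : ∀ u ∈ W, ∀ v ∈ W, Cfsg.sympForm m F u v = 0) : Nat.card ↥(Cfsg.stabilizing (Cfsg.spToMat m F) (W : Set (Fin m ⊕ Fin m → F))) = q ^ (k * (k + 1) / 2 + 2 * k * (m - k)) * (q ^ ((m - k) ^ 2) * ∏ i ∈ Finset.range (m - k), (q ^ (2 * (i + 1)) - 1)) * ∏ i : Fin k, (q ^ k - q ^ (i : ℕ)) := by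
  exact main hF m k hk W hWk hW

end Cfsg.Agent.S0775
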