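import Cfsg.Statements.S3214
import Mathlib.FieldTheory.Finite.GaloisField
import Cfsg.Agent.Lib.StrongEmb.Reduce
import Cfsg.Agent.Lib.StrongEmb.RankTwo
import Cfsg.Agent.Lib.CIT.Consumers.Inputs
import Cfsg.Agent.Lib.CIT.PSLList
import Cfsg.Agent.Lib.GW.Main
import Cfsg.Agent.S0516
-- import your own Cfsg.Agent.* helpers here

set_option autoImplicit false
set_option linter.style.haveILetI false
open Cfsg

namespace Cfsg.Agent.S3214

/-- Let G be a finite non-abelian simple group in which the centralizer of every involution has a normal 2-complement. Then G is isomorphic to PSL₂(q) for some prime power q > 3, to a Suzuki group Sz(2ⁿ) with n ≥ 3 odd, to the alternating group A₇, or to PSL₃(4). -/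
theorem result {G : Type*} [Group G] [Finite G] [IsSimpleGroup G]
    (hG : ¬ IsMulCommutative G)
    (hI : ∀ t : G, orderOf t = 2 → Cfsg.HasNormalPComplement 2 ↥(Subgroup.centralizer ({t} : Set G))) :
    (∃ (F : Type) (_ : Field F) (_ : Fintype F), 3 < Fintype.card F ∧
        Nonempty (G ≃* Matrix.ProjectiveSpecialLinearGroup (Fin 2) F)) ∨
      Cfsg.Lie.IsoSuzuki G ∨ Nonempty (G ≃* ↥(alternatingGroup (Fin 7))) ∨
      (∃ (F : Type) (_ : Field F) (_ : Fintype F), Fintype.card F = 4 ∧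
        Nonempty (G ≃* Matrix.ProjectiveSpecialLinearGroup (Fin 3) F)) := by
  classical
  haveI : Fact (Nat.Prime 2) := ⟨Nat.prime_two⟩
  open Cfsg.Lib Cfsg.Lib.StrongEmb in
  by_cases hth : ∀ t : G, orderOf t = 2 → Cover.th t = ⊥
  · have hCIT : CIT.IsCIT G := fun t ht => by
      obtain ⟨T⟩ : Nonempty (Sylow 2 (Subgroup.centralizer ({t} : Set G))) := inferInstance
      refine (T.isPGroup'.map (Subgroup.centralizer ({t} : Set G)).subtype).to_le ?_
      have h := (Cover.th_facts hI ht).2.2.2 T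
      rwa [hth t ht, bot_sup_eq] at h
    rcases CIT.citList CIT.tiHolds hG hCIT with ⟨F, i, j, -, ⟨e⟩⟩ | h | h
    · exact Or.inl ⟨F, i, j, CIT.four_le_of_iso hG e, ⟨e⟩⟩
    · exact Or.inr (Or.inr (Or.inr h))
    · exact Or.inr (Or.inl (CIT.suzukiIso G hG hCIT h))
  push Not at hth
  obtain ⟨t, ht, htb⟩ := hth
  have hrank : ∀ S : Sylow 2 G, Cfsg.PRankLE 2 2 (S : Subgroup G) := fun S => by
    by_contra hr
    exact htb (Cfsg.Lib.StrongEmb.Cover.th_eq_bot hG hI S hr ht)
  have h2 : Cfsg.PRankLE 2 2 G := by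
    intro A hA hexp
    obtain ⟨S, hS⟩ := (show IsPGroup 2 A from fun a => ⟨1, Subtype.ext (by
      rw [pow_one, Subgroup.coe_pow]; exact hexp _ a.2)⟩).exists_le_sylow
    rw [← Nat.card_congr (Subgroup.subgroupOfEquivOfLe hS).toEquiv]
    refine hrank S _ ⟨⟨fun x y => Subtype.ext (Subtype.ext (show ((x : (S : Subgroup G)) : G) * (y : (S : Subgroup G)) = (y : (S : Subgroup G)) * (x : (S : Subgroup G)) from congrArg Subtype.val (hA.is_comm.comm (⟨((x : (S : Subgroup G)) : G), x.2⟩ : A) ⟨((y : (S : Subgroup G)) : G), y.2⟩)))⟩⟩ fun a ha => Subtype.ext ?_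
    rw [Subgroup.coe_pow]; exact hexp _ ha
  obtain ⟨S, hS⟩ := (IsPGroup.of_card (p := 2) (n := 1) (by rw [Nat.card_zpowers, ht, pow_one]) :
    IsPGroup 2 (Subgroup.zpowers t)).exists_le_sylow
  haveI := Fintype.ofFinite (GaloisField 2 4)
  have hF : Fintype.card (GaloisField 2 4) = 16 := by
    rw [← Nat.card_eq_fintype_card, GaloisField.card 2 4 (by norm_num)]; norm_num
  obtain ⟨P⟩ : Nonempty (Sylow 2 (Cfsg.PSU 3 (GaloisField 2 4) 4)) := inferInstance
  rcases Cfsg.Agent.S0516.result hG h2 S hF P with ⟨n, hn, e⟩ | h | h | ⟨⟨e⟩⟩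
  · rcases Cfsg.Lib.GW.simpleGW G hG (Cfsg.Lib.GW.sylowDihedral_of_equiv S hn e) with
      ⟨F, i, j, -, h3, h⟩ | h
    · exact Or.inl ⟨F, i, j, h3, h⟩
    · exact Or.inr (Or.inr (Or.inl h))
  · exact absurd (Or.inl h) (Cfsg.Lib.StrongEmb.RankTwo.not_quasiDihedral_or_wreathed hG hI S ht)
  · exact absurd (Or.inr h) (Cfsg.Lib.StrongEmb.RankTwo.not_quasiDihedral_or_wreathed hG hI S ht)
  · exact absurd (Cfsg.Lib.StrongEmb.RankTwo.th_eq_bot_of_u34 hG hI S hF P e (hS (Subgroup.mem_zpowers t)) ht) htb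

end Cfsg.Agent.S3214
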