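import Cfsg.Statements.S5973
import Cfsg.Agent.Lib.Linear.IsotropicFix.OrthTypes
import Cfsg.Agent.Lib.Linear.IsotropicFix.OrthEven
import Cfsg.Agent.Lib.Linear.IsotropicFix.OrthSquare
-- import your own Cfsg.Agent.* helpers here

set_option autoImplicit false
open scoped MatrixGroups
open Cfsg

namespace Cfsg.Agent.S5973

open Module Polynomial Cfsg.Lib.Linear.Orth Cfsg.Lib.Linear.IsoFix Cfsg.Agent.Lib.Linear.PrimeClasses
open scoped Matrix

/-- A totally singular subspace of dimension `d - 1` in plus type extends. -/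
theorem exists_sing_perp {F : Type*} [Field F] [Fintype F] {d : ℕ} {B : LinearMap.BilinForm F (Fin d ⊕ Fin d → F)}
    (C : Space (Cfsg.quadFormPlus d F) B) {W : Submodule F (Fin d ⊕ Fin d → F)} (hWd : finrank F W + 1 = d) :
    ∃ v ∈ B.orthogonal W, v ∉ W ∧ Cfsg.quadFormPlus d F v = 0 := by
  classical
  obtain ⟨B₀, C₀⟩ := exists_space_plus (F := F) 0
  obtain ⟨S, hSd, hS⟩ : ∃ S : Submodule F (Fin d ⊕ Fin d → F), finrank F S = d ∧ ∀ w ∈ S, Cfsg.quadFormPlus d F w = 0 :=
    ⟨_, finrank_stdTS, (plusSplit d 0).stdTS_singular C₀⟩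
  have hnd : B.Nondegenerate := ⟨fun x hx => C.nondeg' hx, fun x hx => C.nondeg _ hx⟩
  by_contra hne
  push Not at hne
  have hle : B.orthogonal W ⊓ S ≤ W ⊓ S := fun v hv => ⟨by
    by_contra h
    exact hne v hv.1 h (hS v hv.2), hv.2⟩
  have hle2 : B.orthogonal W ⊔ S ≤ B.orthogonal (W ⊓ S) := by
    refine sup_le (fun x hx y hy => hx y hy.1) fun x hx y hy => ?_
    exact ts_orth C hS hy.2 hx
  have h1 := Submodule.finrank_mono hle
  have h2 := Submodule.finrank_mono hle2
  have h3 := Submodule.finrank_sup_add_finrank_inf_eq (B.orthogonal W) S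
  have h4 := Submodule.finrank_mono (inf_le_left : W ⊓ S ≤ W)
  rw [LinearMap.BilinForm.finrank_orthogonal hnd, finrank_fintype_fun_eq_card] at h2 h3
  simp only [Fintype.card_sum, Fintype.card_fin] at h2 h3
  omega

/-- A complex structure for even `d`. -/
theorem exists_T {F : Type*} [Field F] {d : ℕ} (hd : Even d) :
    ∃ T : (Fin d ⊕ Fin d → F) →ₗ[F] (Fin d ⊕ Fin d → F), (∀ v, T (T v) = -v) ∧
      ∀ v, Cfsg.quadFormPlus d F (T v) = Cfsg.quadFormPlus d F v := by
  obtain ⟨e, rfl⟩ := hd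
  let E : Fin e ⊕ Fin e ≃ Fin (e + e) := finSumFinEquiv
  let sg : Fin e ⊕ Fin e → F := Sum.elim (fun _ => -1) (fun _ => 1)
  let T : (Fin (e + e) ⊕ Fin (e + e) → F) →ₗ[F] (Fin (e + e) ⊕ Fin (e + e) → F) :=
    { toFun := fun v => Sum.elim (fun j => sg (E.symm j) * v (.inl (E (E.symm j).swap)))
        (fun j => sg (E.symm j) * v (.inr (E (E.symm j).swap)))
      map_add' := fun u v => funext fun j => by rcases j with j | j <;> simp [mul_add]
      map_smul' := fun c v => funext fun j => by rcases j with j | j <;> simp [mul_left_comm] }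
  refine ⟨T, fun v => funext fun j => ?_, fun v => ?_⟩
  · rcases j with j | j <;>
    · obtain ⟨k, rfl⟩ := E.surjective j
      rcases k with k | k <;> simp [T, sg]
  · simp only [Cfsg.quadFormPlus]
    rw [← E.sum_comp, ← E.sum_comp, Fintype.sum_sum_type, Fintype.sum_sum_type]
    simp [T, sg, add_comm]

/-- The case `r = 2`. -/
theorem two_case {F : Type*} [Field F] [Fintype F] (h2 : (2 : F) ≠ 0) {d m : ℕ} (hd : 3 ≤ d) (hmd : m < d) :
    (∀ x : GL (Fin d ⊕ Fin d) F, x ∈ Cfsg.Geo.omegaGL (Cfsg.quadFormPlus d F) →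
      (∃ z : F, ((x ^ 2 : GL (Fin d ⊕ Fin d) F) : Matrix (Fin d ⊕ Fin d) (Fin d ⊕ Fin d) F) = z • (1 : Matrix (Fin d ⊕ Fin d) (Fin d ⊕ Fin d) F)) →
      (∀ z : F, (x : Matrix (Fin d ⊕ Fin d) (Fin d ⊕ Fin d) F) ≠ z • (1 : Matrix (Fin d ⊕ Fin d) (Fin d ⊕ Fin d) F)) →
      FixesQ (Cfsg.quadFormPlus d F) m (x : Matrix (Fin d ⊕ Fin d) (Fin d ⊕ Fin d) F)) ↔
    (Fintype.card F % 4 = 1 ∨ (Fintype.card F % 4 = 3 ∧ m + 2 ≤ d ∧ (Even m ∨ (2 * d) % 4 = 2))) := by
  classical
  obtain ⟨B, C⟩ := exists_space_plus (F := F) d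
  obtain ⟨B₀, C₀⟩ := exists_space_plus (F := F) 0
  have hcard : Fintype.card (Fin d ⊕ Fin d) = 2 * d := by simp; omega
  have hodd : Fintype.card F % 2 = 1 := FiniteField.odd_card_of_char_ne_two fun h => h2 (by
    haveI : CharP F 2 := ringChar.of_eq h
    exact CharTwo.two_eq_zero)
  have hneg : IsSquare (-1 : F) ↔ Fintype.card F % 4 = 1 := by rw [FiniteField.isSquare_neg_one_iff]; omega
  obtain ⟨S, hSd, hS⟩ : ∃ S : Submodule F (Fin d ⊕ Fin d → F), finrank F S = d ∧ ∀ w ∈ S, Cfsg.quadFormPlus d F w = 0 :=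
    ⟨_, finrank_stdTS, (plusSplit d 0).stdTS_singular C₀⟩
  constructor
  · intro hall
    by_contra hcon
    push Not at hcon
    have hns : ¬IsSquare (-1 : F) := fun h => hcon.1 (hneg.1 h)
    have hq3 : Fintype.card F % 4 = 3 := by omega
    by_cases hm2 : m + 2 ≤ d
    · -- a complex structure
      obtain ⟨hm, hd4⟩ := hcon.2 hq3 hm2
      have hde : Even d := by rw [Nat.even_iff]; omega
      obtain ⟨T, hT, hTQ⟩ := exists_T (F := F) hde
      obtain ⟨g, hg, -, hsq⟩ := exists_gl_sq_neg_one (Q := Cfsg.quadFormPlus d F) T hT hTQ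
      have hgΩ := (sq_neg_one C h2 hcard (by omega) hg hsq).2.2 (by
        obtain ⟨e, rfl⟩ := hde
        exact ⟨2 ^ e, by rw [pow_add]⟩)
      obtain ⟨W, hWm, -, hinv⟩ := hall g hgΩ
        ⟨-1, mat_ext fun v => by rw [Units.val_pow_eq_pow_val, pow_two, ← Matrix.mulVec_mulVec, hsq, Matrix.smul_mulVec,
          Matrix.one_mulVec, neg_one_smul]⟩
        (fun z hz => hns ⟨z, by
          obtain ⟨v, hv⟩ := Cfsg.Lib.H3.exists_nonsing_vec C (by omega)
          have h := hsq v
          rw [hz, Matrix.smul_mulVec, Matrix.one_mulVec, Matrix.smul_mulVec, Matrix.one_mulVec, smul_smul] at h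
          have h' : (z * z + 1) • v = 0 := by rw [add_smul, h, one_smul, neg_add_cancel]
          rw [smul_eq_zero, or_iff_left fun h0 => hv (by rw [h0, C.zero])] at h'
          linear_combination -h'⟩)
      have he := even_of_inv hsq hns hinv
      rw [hWm] at he
      exact hm he
    · -- an involution
      let a : Fin d := ⟨0, by omega⟩
      let b : Fin d := ⟨1, by omega⟩
      let u₁ : Fin d ⊕ Fin d → F := Pi.single (Sum.inl a) 1 + Pi.single (Sum.inr a) 1
      let u₂ : Fin d ⊕ Fin d → F := Pi.single (Sum.inl b) 1 + Pi.single (Sum.inr b) 1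
      have hab : a ≠ b := fun h => by simpa [a, b] using congrArg Fin.val h
      have hQ₁ : Cfsg.quadFormPlus d F u₁ = 1 := by simp [u₁, Cfsg.quadFormPlus, Pi.single_apply]
      have hQ₂ : Cfsg.quadFormPlus d F u₂ = 1 := by simp [u₂, Cfsg.quadFormPlus, Pi.single_apply]
      have h12 : B u₁ u₂ = 0 := by
        rw [← C.polar, QuadraticMap.polar, hQ₁, hQ₂]
        have e : Cfsg.quadFormPlus d F (u₁ + u₂) = 2 := by
          simp [u₁, u₂, Cfsg.quadFormPlus, Pi.single_apply]
          rw [Finset.sum_eq_add a b hab (fun x _ hx => by simp [hx.1, hx.2]) (by simp) (by simp)]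
          simp [hab, hab.symm]
          norm_num
        rw [e]; ring
      obtain ⟨g, hg, -, -⟩ := exists_refl_prod C h2 [u₁, u₂] (by simp [hQ₁, hQ₂])
      have hgΩ : g ∈ Omega F (Cfsg.quadFormPlus d F) :=
        (refl_prod_mem_omega_iff C h2 (by omega) [u₁, u₂] (by simp [hQ₁, hQ₂]) g hg).2
          ⟨⟨1, rfl⟩, by simp [hQ₁, hQ₂]⟩
      have hBs : ∀ x y, B x y = B y x := C.symm
      have e11 : B u₁ u₁ = 2 := by rw [C.self, hQ₁, mul_one]
      have e22 : B u₂ u₂ = 2 := by rw [C.self, hQ₂, mul_one]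
      have hgfix : ∀ x, (g : GL (Fin d ⊕ Fin d) F).val *ᵥ x = x - (B u₁ x) • u₁ - (B u₂ x) • u₂ := fun x => by
        rw [hg]
        simp only [List.map_cons, List.map_nil, List.prod_cons, List.prod_nil, mul_one, ← Matrix.mulVec_mulVec]
        rw [← rGL_val C (show Cfsg.quadFormPlus d F u₂ ≠ 0 by rw [hQ₂]; exact one_ne_zero), rGL_act C (by rw [hQ₂]; exact one_ne_zero),
          ← rGL_val C (show Cfsg.quadFormPlus d F u₁ ≠ 0 by rw [hQ₁]; exact one_ne_zero), rGL_act C (by rw [hQ₁]; exact one_ne_zero),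
          hQ₁, hQ₂, inv_one, one_mul, one_mul, map_sub, map_smul, h12, smul_zero, sub_zero]
        abel
      obtain ⟨W, hWm, hW, hinv⟩ := hall _ ⟨g, hgΩ, rfl⟩
        ⟨1, mat_ext fun v => by
          simp only [Subgroup.coe_subtype]
          rw [Units.val_pow_eq_pow_val, pow_two, ← Matrix.mulVec_mulVec, hgfix, hgfix, one_smul, Matrix.one_mulVec]
          simp only [map_sub, map_smul, smul_eq_mul, e11, e22, h12, hBs u₂ u₁, mul_zero, sub_zero]
          module⟩
        (fun z hz => h2 (by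
          let c : Fin d := ⟨2, by omega⟩
          let u₃ : Fin d ⊕ Fin d → F := Pi.single (Sum.inl c) 1
          have e1 := congrArg (· *ᵥ u₁) hz
          have e3 := congrArg (· *ᵥ u₃) hz
          simp only [Subgroup.coe_subtype, hgfix, e11, hBs u₂ u₁, h12, zero_smul, sub_zero, Matrix.smul_mulVec,
            Matrix.one_mulVec] at e1 e3
          have hac : a ≠ c := fun h => by simpa [a, c] using congrArg Fin.val h
          have hbc : b ≠ c := fun h => by simpa [b, c] using congrArg Fin.val h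
          have d1 := congrFun e1 (Sum.inl a)
          have d3 := congrFun e3 (Sum.inl c)
          simp [u₁, u₂, u₃, hab, hac.symm, hbc.symm] at d1 d3
          linear_combination d3 - d1))
      have hBW : ∀ x ∈ W, B u₁ x = 0 ∧ B u₂ x = 0 := by
        intro x hx
        have h3 : x - (g : GL (Fin d ⊕ Fin d) F).val *ᵥ x ∈ W :=
          W.sub_mem hx (hinv ⟨x, hx, Matrix.toLin'_apply _ _⟩)
        have h4 := hW _ h3
        rw [hgfix, show x - (x - (B u₁ x) • u₁ - (B u₂ x) • u₂) = (B u₁ x) • u₁ + (B u₂ x) • u₂ by abel,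
          C.smul_add, hQ₁, hQ₂, h12] at h4
        have h5 : B u₂ x = 0 := by
          by_contra h5
          refine hns ⟨B u₁ x / B u₂ x, ?_⟩
          field_simp
          linear_combination -h4
        refine ⟨?_, h5⟩
        rw [h5] at h4
        simpa using h4
      have hperp : W ⊔ Submodule.span F (Set.range ![u₁, u₂]) ≤ B.orthogonal W := by
        refine sup_le (fun x hx y hy => ?_) (Submodule.span_le.2 ?_)
        · exact ts_orth C hW hy hx
        · rintro _ ⟨j, rfl⟩ y hy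
          show B y _ = 0
          rw [C.symm]
          fin_cases j
          · exact (hBW y hy).1
          · exact (hBW y hy).2
      have hli : LinearIndependent F ![u₁, u₂] := by
        rw [LinearIndependent.pair_iff]
        intro p q hpq
        have k1 := congrArg (B u₁) hpq
        have k2 := congrArg (B u₂) hpq
        simp only [map_add, map_smul, smul_eq_mul, map_zero, e11, e22, h12, hBs u₂ u₁, mul_zero, add_zero, zero_add,
          mul_eq_zero, or_iff_left h2] at k1 k2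
        exact ⟨k1, k2⟩
      have hinf : W ⊓ Submodule.span F (Set.range ![u₁, u₂]) = ⊥ := eq_bot_iff.2 fun x hx => by
        obtain ⟨w, rfl⟩ := (Submodule.mem_span_range_iff_exists_fun F).1 hx.2
        obtain ⟨k1, k2⟩ := hBW _ hx.1
        simp only [Fin.sum_univ_two, Matrix.cons_val_zero, Matrix.cons_val_one, map_add, map_smul, smul_eq_mul, e11, e22,
          h12, hBs u₂ u₁, mul_zero, add_zero, zero_add, mul_eq_zero, or_iff_left h2] at k1 k2
        simp [Fin.sum_univ_two, k1, k2]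
      have h7 := Submodule.finrank_sup_add_finrank_inf_eq W (Submodule.span F (Set.range ![u₁, u₂]))
      rw [hinf, finrank_bot, add_zero, finrank_span_eq_card hli, Fintype.card_fin, hWm] at h7
      have hnd : B.Nondegenerate := ⟨fun x hx => C.nondeg' hx, fun x hx => C.nondeg _ hx⟩
      have heq := Submodule.eq_of_le_of_finrank_le hperp (by
        rw [LinearMap.BilinForm.finrank_orthogonal hnd, finrank_fintype_fun_eq_card, hcard, hWm, h7]; omega)
      obtain ⟨v, hv, hvW, hQv⟩ := exists_sing_perp C (W := W) (by omega)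
      rw [← heq] at hv
      obtain ⟨y, hy, z, hz, rfl⟩ := Submodule.mem_sup.1 hv
      have hByz : B y z = 0 := hperp (Submodule.mem_sup_right hz) y hy
      obtain ⟨w, rfl⟩ := (Submodule.mem_span_range_iff_exists_fun F).1 hz
      simp only [Fin.sum_univ_two, Matrix.cons_val_zero, Matrix.cons_val_one] at hvW hQv hByz
      rw [C.add, hW y hy, C.smul_add, hQ₁, hQ₂, h12, hByz] at hQv
      have h5 : w 1 = 0 := by
        by_contra h5
        refine hns ⟨w 0 / w 1, ?_⟩
        field_simp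
        linear_combination -hQv
      rw [h5] at hQv
      have h6 : w 0 = 0 := by simpa using hQv
      exact hvW (by simpa [h5, h6] using hy)
  · intro hcase x hx ⟨z, hz⟩ _
    obtain ⟨g, hg, rfl⟩ := hx
    rcases sq_scalar C (by omega) g.2 hz with h1 | hsq
    · have hgg : g ^ 2 = 1 := Subtype.ext (by rw [SubmonoidClass.coe_pow]; exact h1)
      obtain ⟨Lp, Lm, hp, hm, hOp, hOm, hlen, ⟨a, ha⟩, hsqm⟩ := exists_lists_omega C h2 (by omega) g hg hgg
      rw [hcard] at hlen
      obtain ⟨b, hb⟩ : ∃ b, Lp.length = 2 * b := ⟨d - a, by omega⟩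
      have hdisc := disc_of_half C h2 hcard (orth_append C h2 g.2 hp hm hOp hOm)
        (by rw [List.length_append]; omega) hSd hS
      rw [List.map_append, List.prod_append] at hdisc
      have hm0 : (Lm.map (Cfsg.quadFormPlus d F)).prod ≠ 0 := List.prod_ne_zero fun h0 => by
        obtain ⟨v, hv, hv0⟩ := List.mem_map.mp h0
        exact hOm.1 v hv hv0
      have hfix : ∀ k l, k + l = m →
          (2 * k < Lp.length ∨ (2 * k = Lp.length ∧ IsSquare ((-1) ^ k * (Lp.map (Cfsg.quadFormPlus d F)).prod))) →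
          (2 * l < Lm.length ∨ (2 * l = Lm.length ∧ IsSquare ((-1) ^ l * (Lm.map (Cfsg.quadFormPlus d F)).prod))) →
          FixesQ (Cfsg.quadFormPlus d F) m (g : GL (Fin d ⊕ Fin d) F).val := fun k l hkl hk hl => hkl ▸
        fixesQ_of_lists C h2 1 (C.B_act g.2) one_ne_zero (one_mul 1) (fun v hv => by rw [one_smul]; exact hp v hv)
          (fun v hv => by rw [neg_one_smul]; exact hm v hv) hOp hOm hk hl
      by_cases ha1 : IsSquare ((-1 : F) ^ a)
      · refine hfix (m - min a m) (min a m) (by omega) ?_ ?_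
        · rcases Nat.eq_zero_or_pos b with h0 | h0
          · refine Or.inr ⟨by omega, ?_⟩
            rw [show m - min a m = 0 by omega, List.length_eq_zero_iff.1 (show Lp.length = 0 by omega)]
            simp
          · exact Or.inl (by omega)
        · by_cases hl : m < a
          · exact Or.inl (by omega)
          · exact Or.inr ⟨by omega, by rw [show min a m = a by omega]; exact ha1.mul hsqm⟩
      · have ha0 : a ≠ 0 := fun h => ha1 (by rw [h, pow_zero]; exact IsSquare.one)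
        have hns : ¬IsSquare (-1 : F) := fun h => ha1 (h.pow a)
        obtain ⟨-, hm2, -⟩ := hcase.resolve_left fun h => hns (hneg.2 h)
        refine hfix (m - min (a - 1) m) (min (a - 1) m) (by omega) ?_ (Or.inl (by omega))
        rcases Nat.eq_zero_or_pos b with h0 | h0
        · refine Or.inr ⟨by omega, ?_⟩
          rw [show m - min (a - 1) m = 0 by omega, List.length_eq_zero_iff.1 (show Lp.length = 0 by omega)]
          simp
        · exact Or.inl (by omega)
    · by_cases hs : IsSquare (-1 : F)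
      · obtain ⟨e, he⟩ := hs
        exact fixesQ_of_sqrt C h2 g.2 hsq he.symm (by omega)
      · obtain ⟨L, hL, hLlen, hLsq⟩ := (sq_neg_one C h2 hcard (by omega) g.2 hsq).1
        have hdisc := disc_of_half C h2 hcard hL hLlen hSd hS
        have hde : Even d := by
          by_contra h
          rw [(Nat.not_even_iff_odd.1 h).neg_one_pow, neg_one_mul] at hdisc
          obtain ⟨s, hs1⟩ := hdisc
          obtain ⟨u, hu⟩ := hLsq
          have hu0 : u ≠ 0 := fun h0 => List.prod_ne_zero (fun h' => by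
            obtain ⟨v, hv, hv0⟩ := List.mem_map.mp h'
            exact hL.1 v hv hv0) (by rw [hu, h0, mul_zero])
          refine hs ⟨s / u, ?_⟩
          rw [div_mul_div_comm, eq_div_iff (mul_ne_zero hu0 hu0), ← hs1, ← hu, neg_one_mul]
        obtain ⟨-, hm2, hme⟩ := hcase.resolve_left fun h => hs (hneg.2 h)
        obtain ⟨j, hj⟩ : Even m := hme.resolve_right (by obtain ⟨e, he⟩ := hde; omega)
        obtain ⟨W, hWd, hW, hinv⟩ := exists_inv_ts C h2 g.2 hsq hs j (by omega)
        refine ⟨W, by omega, hW, ?_⟩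
        rintro _ ⟨y, hy, rfl⟩
        rw [Matrix.toLin'_apply]
        exact hinv y hy

theorem two_dvd_iff {i c : ℕ} (hc : c = if Even i then i else 2 * i) (hi0 : 0 < i) (A J : ℕ) :
    (Odd i ∨ Even ((A + 2 * (i * J)) / c)) ↔ (Odd i ∨ Even (A / c)) := by
  refine or_congr_right' fun h => ?_
  rw [hc, if_pos (Nat.not_odd_iff_even.1 h), show A + 2 * (i * J) = A + i * (2 * J) by ring,
    Nat.add_mul_div_left _ _ hi0, Nat.even_add, iff_true_right (even_two_mul J)]

/-- Elements of prime order of PΩ⁺_n(q), n = 2d ≥ 8, with no fixed totally singular `m`-space, `m < n/2`. Here `T = PΩ⁺_n(q)` is realised through `Ω⁺_n(q)`, the commutator subgroup of the isometry group of the quadratic form `Σ xᵢyᵢ` over the field `F` with `q` elements; an element of `T` of prime order `r` is an element `x` of `Ω⁺_n(q)` with `x^r` scalar and `x` not scalar. Let `1 ≤ m < d` and let `r` be a prime dividing the number of totally singular `m`-spaces. For `r ≠ p` let `i` be the multiplicative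 order of `q` modulo `r`, `c = i` for `i` even and `c = 2i` for `i` odd, and write `k = n mod c`, `ℓ = m mod i`, `n' = ⌊n/i⌋`, `m' = ⌊m/i⌋`, `t = (r−1)/i`. Then every element of `T` of order `r` fixes some totally singular `m`-space if and only if one of: (i) `r = 2 ≠ p` and either `q ≡ 1 (mod 4)`, or `q ≡ 3 (mod 4)`, `m ≤ n/2 − 2` and (`m` even or `n ≡ 2 (mod 4)`); (ii) `r ≠ p` odd, `i` odd, `i ≤ m` and `k ≥ 2ℓ`; (iii) `r ≠ p` odd, `i` even, `i ≤ m`, `n' − 2m' ≥ t`, and one of: `i ≥ 2ℓ`, `k = 0`, `n/i` odd and `n' − 2m' > t`; or `k ≥ 2ℓ` and `n'` even; or `k > 2ℓ` and `n'` odd. -/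
theorem result {F : Type*} [Field F] [Fintype F] {p : ℕ} [Fact p.Prime] [CharP F p] {q : ℕ} (hq : Fintype.card F = q)
    (d m : ℕ) (hd : 4 ≤ d) (hm : 1 ≤ m) (hmd : m < d)
    (r : ℕ) [Fact r.Prime]
    (hrΩ : r ∣ Nat.card {W : Submodule F (Fin d ⊕ Fin d → F) // Module.finrank F ↥W = m ∧ (∀ w ∈ W, Cfsg.quadFormPlus d F w = 0)})
    (i c : ℕ) (hi : i = orderOf (q : ZMod r)) (hc : c = if Even i then i else 2 * i) :
    (∀ x : GL (Fin d ⊕ Fin d) F, x ∈ Cfsg.Geo.omegaGL (Cfsg.quadFormPlus d F) →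
      (∃ z : F, ((x ^ r : GL (Fin d ⊕ Fin d) F) : Matrix (Fin d ⊕ Fin d) (Fin d ⊕ Fin d) F) = z • (1 : Matrix (Fin d ⊕ Fin d) (Fin d ⊕ Fin d) F)) →
      (∀ z : F, (x : Matrix (Fin d ⊕ Fin d) (Fin d ⊕ Fin d) F) ≠ z • (1 : Matrix (Fin d ⊕ Fin d) (Fin d ⊕ Fin d) F)) →
      ∃ W : Submodule F (Fin d ⊕ Fin d → F), Module.finrank F ↥W = m ∧ (∀ w ∈ W, Cfsg.quadFormPlus d F w = 0) ∧
        W.map (Matrix.toLin' (x : Matrix (Fin d ⊕ Fin d) (Fin d ⊕ Fin d) F)) ≤ W) ↔
    ((r = 2 ∧ p ≠ 2 ∧ (q % 4 = 1 ∨ (q % 4 = 3 ∧ m + 2 ≤ d ∧ (Even m ∨ (2 * d) % 4 = 2)))) ∨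
     (r ≠ p ∧ 2 < r ∧ Odd i ∧ i ≤ m ∧ 2 * (m % i) ≤ (2 * d) % c) ∨
     (r ≠ p ∧ 2 < r ∧ Even i ∧ i ≤ m ∧ (r - 1) / i + 2 * (m / i) ≤ (2 * d) / i ∧
       ((2 * (m % i) ≤ i ∧ (2 * d) % c = 0 ∧ Odd ((2 * d) / i) ∧ (r - 1) / i + 2 * (m / i) < (2 * d) / i) ∨
        (2 * (m % i) ≤ (2 * d) % c ∧ Even ((2 * d) / i)) ∨
        (2 * (m % i) < (2 * d) % c ∧ Odd ((2 * d) / i))))) := by
  classical
  subst hq
  obtain ⟨hr⟩ := (inferInstance : Fact r.Prime)
  obtain ⟨B, C⟩ := exists_space_plus (F := F) d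
  -- local counts
  obtain ⟨j, hjm, hrj⟩ := exists_dvd_local C (fun j => (Fintype.card F ^ (d - j) - 1) * (Fintype.card F ^ (d - j - 1) + 1)) m
    (fun j hj W hWj hW => by
      obtain ⟨e, rfl⟩ := Nat.exists_eq_add_of_le (le_of_lt (lt_trans hj hmd))
      obtain ⟨B₀, C₀⟩ := exists_space_plus (F := F) e
      show _ = _ * ((Fintype.card F ^ (j + e - j) - 1) * (Fintype.card F ^ (j + e - j - 1) + 1))
      rw [Nat.add_sub_cancel_left, card_extensions C C₀ (plusSplit j e) hWj hW, count_plus (by omega)]) hr hrΩ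
  have hrp : r ≠ p := by
    rintro rfl
    obtain ⟨k, -, hk⟩ := FiniteField.card F r
    have h1 : ∀ a, 1 ≤ a → r ∣ Fintype.card F ^ a := fun a ha => by
      rw [hk, ← pow_mul]; exact dvd_pow_self r (Nat.mul_ne_zero k.pos.ne' (by omega))
    rcases hr.dvd_mul.1 hrj with h | h
    · have h3 := Nat.dvd_sub (h1 (d - j) (by omega)) h
      rw [Nat.sub_sub_self (Nat.one_le_pow _ _ Fintype.card_pos)] at h3
      exact hr.one_lt.ne' (Nat.dvd_one.1 h3)
    · have h3 := Nat.dvd_sub h (h1 (d - j - 1) (by omega))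
      rw [Nat.add_sub_cancel_left] at h3
      exact hr.one_lt.ne' (Nat.dvd_one.1 h3)
  by_cases hr2 : r = 2
  · subst hr2
    have h2 : (2 : F) ≠ 0 := fun h => hrp.symm (by
      have := (CharP.cast_eq_zero_iff F p 2).1 (by exact_mod_cast h)
      exact (Nat.prime_dvd_prime_iff_eq Fact.out Nat.prime_two).1 this)
    refine (two_case h2 (by omega) hmd).trans ⟨fun h => Or.inl ⟨rfl, hrp.symm, h⟩, ?_⟩
    rintro (⟨-, -, h⟩ | ⟨-, h, -⟩ | ⟨-, h, -⟩)
    · exact h
    · exact absurd h (lt_irrefl 2)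
    · exact absurd h (lt_irrefl 2)
  obtain ⟨e, rfl⟩ := Nat.exists_eq_add_of_le hmd.le
  obtain ⟨B₀, C₀⟩ := exists_space_plus (F := F) e
  have hcard : Fintype.card (Fin (m + e) ⊕ Fin (m + e)) = 2 * (m + e) := by simp; omega
  refine (omega_scalar_iff C C₀ (plusSplit m e) (by omega) (Or.inr (by omega)) hr2).trans ?_
  let L := AlgebraicClosure F
  haveI : CharP L p := charP_of_injective_algebraMap (algebraMap F L).injective p
  have hrL : (r : L) ≠ 0 := fun h =>
    hrp ((Nat.prime_dvd_prime_iff_eq Fact.out hr).mp ((CharP.cast_eq_zero_iff L p r).mp h)).symm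
  have hrF : (r : F) ≠ 0 := fun h => hrL (by rw [← map_natCast (algebraMap F L), h, map_zero])
  haveI : NeZero (r : L) := ⟨hrL⟩
  obtain ⟨ζ, hζ⟩ := HasEnoughRootsOfUnity.exists_primitiveRoot L r
  have hrq : (Fintype.card F : ZMod r) ≠ 0 := fun h => by
    obtain ⟨k, -, hk⟩ := FiniteField.card F p
    rw [ZMod.natCast_eq_zero_iff, hk] at h
    exact hrp ((Nat.prime_dvd_prime_iff_eq hr Fact.out).mp (hr.dvd_of_dvd_pow h))
  let uq : (ZMod r)ˣ := Units.mk0 _ hrq
  have huq : (uq : ZMod r) = (Fintype.card F : ZMod r) := rfl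
  have hiu : orderOf uq = i := by rw [hi, ← orderOf_units, huq]
  obtain ⟨w, hw, hwq, hwn, hwo⟩ := exists_gen hr2 uq
  rw [hiu] at hwo
  have hwc : orderOf w = c := by
    rw [hwo, hc]
    by_cases he : Even i
    · rw [if_pos he, if_neg (Nat.not_odd_iff_even.mpr he)]
    · rw [if_neg he, if_pos (Nat.not_even_iff_odd.mp he)]
  have hi0 : 0 < i := hiu ▸ orderOf_pos uq
  have hir : i ∣ r - 1 := by
    rw [← hiu, ← ZMod.card_units r]
    exact orderOf_dvd_card
  let P : ℕ → Prop := fun K => Odd i ∨ Even K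
  have hPP : ∀ A, P (A / c) ↔ PPlus (orderOf uq) A := fun A => by
    rw [hiu]
    exact or_congr_right' fun h => by rw [hc, if_pos (Nat.not_odd_iff_even.1 h)]
  have hlow : Low (2 * (m + e)) c m P := by
    rcases hr.dvd_mul.1 hrj with h | h
    · obtain ⟨x, hx⟩ := orderOf_dvd_of_sub hi h
      by_cases he : Even i
      · rw [if_pos he] at hc
        refine ⟨j, 2 * x, ?_, hjm.le, fun _ => hjm, fun h => absurd (Or.inr (even_two_mul x)) h⟩
        rw [hc, mul_left_comm, ← hx]
        omega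
      · rw [if_neg he] at hc
        refine ⟨j, x, ?_, hjm.le, fun _ => hjm, fun h => absurd (Or.inl (Nat.not_even_iff_odd.1 he)) h⟩
        rw [hc, mul_assoc, ← hx]
        omega
    · obtain ⟨he, x, hx, hxo⟩ := orderOf_of_add hr2 hi h
      rw [if_pos he] at hc
      refine ⟨j + 1, x, by rw [hc, ← hx]; omega, hjm, fun h => ?_, fun _ => Nat.le_add_left 1 j⟩
      rcases h with h | h
      · exact absurd h (Nat.not_odd_iff_even.2 he)
      · exact absurd h (Nat.not_even_iff_odd.2 hxo)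
  rw [all_fixes_cond C C₀ (plusSplit m e) hζ hrL hrF hr2 huq w hw hwq hwn hiu hwc hc (Nat.div_mul_cancel hir)
    hcard (by omega : 2 * e + 2 * m = 2 * (m + e)) P (fun A J => two_dvd_iff hc hi0 A J)
    (fun f hf => ⟨fun hok => real_plus hζ hr2 huq w hwq hwn _ hf (hok.imp id (hPP _).1), fun ⟨g, hg, hgp⟩ =>
      or_iff_not_imp_left.2 fun h0 => (hPP _).2 (pplus_of_fpf hζ hr2 huq w hwq _ hf (not_not.1 h0) g hg hgp)⟩)
    (fun f hf => ⟨fun hok => real_plus hζ hr2 huq w hwq hwn _ hf (hok.imp id (hPP _).1), fun ⟨g, hg, hgp⟩ =>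
      or_iff_not_imp_left.2 fun h0 => (hPP _).2 (pplus_of_fpf hζ hr2 huq w hwq _ hf (not_not.1 h0) g hg hgp)⟩)]
  have h2r : 2 < r := lt_of_le_of_ne hr.two_le (Ne.symm hr2)
  by_cases he : Even i
  · rw [if_pos he] at hc
    rw [cond_even he hi0 hc (π := 0) (by omega)
      (fun K => by simp only [P, Nat.not_odd_iff_even.2 he, false_or, Nat.even_iff]) hlow (by omega)]
    constructor
    · rintro ⟨h1, h3, h4⟩
      refine Or.inr (Or.inr ⟨hrp, h2r, he, h1, h3, ?_⟩)
      rw [Nat.even_iff, Nat.odd_iff]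
      omega
    · rintro (⟨h, -⟩ | ⟨-, -, h, -⟩ | ⟨-, -, -, h1, h3, h4⟩)
      · exact absurd h hr2
      · exact absurd h (Nat.not_odd_iff_even.2 he)
      · rw [Nat.even_iff, Nat.odd_iff] at h4
        exact ⟨h1, h3, by omega⟩
  · rw [if_neg he] at hc
    rw [cond_odd_true (Nat.not_even_iff_odd.1 he) hc (fun K => Or.inl (Nat.not_even_iff_odd.1 he)) hlow (by omega)]
    constructor
    · exact fun h => Or.inr (Or.inl ⟨hrp, h2r, Nat.not_even_iff_odd.1 he, h⟩)
    · rintro (⟨h, -⟩ | ⟨-, -, -, h⟩ | ⟨-, -, h, -⟩)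
      · exact absurd h hr2
      · exact h
      · exact absurd h he

end Cfsg.Agent.S5973
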