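import Cfsg.Statements.S5987
import Cfsg.Agent.Lib.Linear.IsotropicFix.OrthTypes
import Cfsg.Agent.Lib.Linear.IsotropicFix.OrthEven
import Cfsg.Agent.Lib.Linear.IsotropicFix.OrthSquare
-- import your own Cfsg.Agent.* helpers here

set_option autoImplicit false
open scoped MatrixGroups
open Cfsg

namespace Cfsg.Agent.S5987

open Module Polynomial Cfsg.Lib.Linear.Orth Cfsg.Lib.Linear.IsoFix Cfsg.Agent.Lib.Linear.PrimeClasses
open scoped Matrix

theorem disc_not_square {F : Type*} [Field F] {a b : F}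
    (hab : ∀ x y : F, x ^ 2 + a * x * y + b * y ^ 2 = 0 → x = 0 ∧ y = 0) (h2 : (2 : F) ≠ 0) :
    ¬IsSquare (a ^ 2 - 4 * b) := by
  rintro ⟨s, hs⟩
  refine one_ne_zero (hab ((-a + s) / 2) 1 ?_).2
  field_simp
  linear_combination -hs

/-- A complex structure for odd `n / 2`. -/
theorem exists_T {F : Type*} [Field F] [Fintype F] (h2 : (2 : F) ≠ 0) {D : ℕ} (hD : Even D) {a b : F}
    (hab : ∀ x y : F, x ^ 2 + a * x * y + b * y ^ 2 = 0 → x = 0 ∧ y = 0) (hns : ¬IsSquare (-1 : F)) :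
    ∃ T : ((Fin D ⊕ Fin D) ⊕ Fin 2 → F) →ₗ[F] ((Fin D ⊕ Fin D) ⊕ Fin 2 → F), (∀ v, T (T v) = -v) ∧
      ∀ v, Cfsg.quadFormMinus D F a b (T v) = Cfsg.quadFormMinus D F a b v := by
  obtain ⟨e, rfl⟩ := hD
  obtain ⟨s, hs⟩ := isSquare_mul_of_not h2 hns (disc_not_square hab h2)
  have hs0 : s ≠ 0 := fun h => disc_not_square hab h2 ⟨0, by rw [h] at hs; linear_combination -hs⟩
  let E : Fin e ⊕ Fin e ≃ Fin (e + e) := finSumFinEquiv
  let sg : Fin e ⊕ Fin e → F := Sum.elim (fun _ => -1) (fun _ => 1)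
  let T : ((Fin (e + e) ⊕ Fin (e + e)) ⊕ Fin 2 → F) →ₗ[F] ((Fin (e + e) ⊕ Fin (e + e)) ⊕ Fin 2 → F) :=
    { toFun := fun v => Sum.elim (Sum.elim (fun j => sg (E.symm j) * v (.inl (.inl (E (E.symm j).swap))))
        (fun j => sg (E.symm j) * v (.inl (.inr (E (E.symm j).swap)))))
        ![(-a * v (.inr 0) - 2 * b * v (.inr 1)) / s, (2 * v (.inr 0) + a * v (.inr 1)) / s]
      map_add' := fun u v => funext fun j => by
        rcases j with (j | j) | j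
        · simp [mul_add]
        · simp [mul_add]
        · fin_cases j <;> simp <;> ring
      map_smul' := fun c v => funext fun j => by
        rcases j with (j | j) | j
        · simp [mul_left_comm]
        · simp [mul_left_comm]
        · fin_cases j <;> simp <;> ring }
  refine ⟨T, fun v => funext fun j => ?_, fun v => ?_⟩
  · rcases j with (j | j) | j
    iterate 2
      obtain ⟨k, rfl⟩ := E.surjective j
      rcases k with k | k <;> simp [T, sg]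
    fin_cases j <;> simp [T] <;> field_simp
    · linear_combination -(v (.inr 0)) * hs
    · linear_combination -(v (.inr 1)) * hs
  · simp only [Cfsg.quadFormMinus]
    rw [← E.sum_comp, ← E.sum_comp, Fintype.sum_sum_type, Fintype.sum_sum_type]
    simp [T, sg]
    field_simp
    linear_combination (v (.inr 0) ^ 2 + a * v (.inr 0) * v (.inr 1) + b * v (.inr 1) ^ 2) * hs

theorem sq_two_pow_iff {F : Type*} [Field F] [Fintype F] (h2 : (2 : F) ≠ 0) {d : ℕ} (hd : Odd d)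
    (hq : Fintype.card F % 4 = 3) : IsSquare ((2 : F) ^ d) ↔ Fintype.card F % 8 = 7 := by
  obtain ⟨k, rfl⟩ := hd
  have h : IsSquare ((2 : F) ^ (2 * k + 1)) ↔ IsSquare (2 : F) := by
    constructor
    · rintro ⟨s, hs⟩
      refine ⟨s / 2 ^ k, ?_⟩
      rw [div_mul_div_comm, eq_div_iff (mul_ne_zero (pow_ne_zero _ h2) (pow_ne_zero _ h2)), ← hs]
      ring
    · exact fun h => h.pow _
  rw [h, FiniteField.isSquare_two_iff]
  omega

/-- The case `r = 2`. -/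
theorem two_case {F : Type*} [Field F] [Fintype F] (h2 : (2 : F) ≠ 0) {D m : ℕ} (hD : 2 ≤ D) (hmd : m ≤ D)
    {a₀ b₀ : F} (hab : ∀ x y : F, x ^ 2 + a₀ * x * y + b₀ * y ^ 2 = 0 → x = 0 ∧ y = 0) :
    (∀ x : GL ((Fin D ⊕ Fin D) ⊕ Fin 2) F, x ∈ Cfsg.Geo.omegaGL (Cfsg.quadFormMinus D F a₀ b₀) →
      (∃ z : F, ((x ^ 2 : GL ((Fin D ⊕ Fin D) ⊕ Fin 2) F) : Matrix ((Fin D ⊕ Fin D) ⊕ Fin 2) ((Fin D ⊕ Fin D) ⊕ Fin 2) F) = z • (1 : Matrix ((Fin D ⊕ Fin D) ⊕ Fin 2) ((Fin D ⊕ Fin D) ⊕ Fin 2) F)) →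
      (∀ z : F, (x : Matrix ((Fin D ⊕ Fin D) ⊕ Fin 2) ((Fin D ⊕ Fin D) ⊕ Fin 2) F) ≠ z • (1 : Matrix ((Fin D ⊕ Fin D) ⊕ Fin 2) ((Fin D ⊕ Fin D) ⊕ Fin 2) F)) →
      FixesQ (Cfsg.quadFormMinus D F a₀ b₀) m (x : Matrix ((Fin D ⊕ Fin D) ⊕ Fin 2) ((Fin D ⊕ Fin D) ⊕ Fin 2) F)) ↔
    (Even (D + 1) ∨ Even m ∨ Fintype.card F % 8 ≠ 7) := by
  classical
  obtain ⟨B, C⟩ := exists_space_minus (F := F) D a₀ b₀ hab
  have hcard : Fintype.card ((Fin D ⊕ Fin D) ⊕ Fin 2) = 2 * (D + 1) := by simp; omega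
  have hodd : Fintype.card F % 2 = 1 := FiniteField.odd_card_of_char_ne_two fun h => h2 (by
    haveI : CharP F 2 := ringChar.of_eq h
    exact CharTwo.two_eq_zero)
  have hneg : IsSquare (-1 : F) ↔ Fintype.card F % 4 = 1 := by rw [FiniteField.isSquare_neg_one_iff]; omega
  -- the discriminant
  have hdisc : ∀ L : List ((Fin D ⊕ Fin D) ⊕ Fin 2 → F), OrthList (Cfsg.quadFormMinus D F a₀ b₀) B L →
      L.length = 2 * (D + 1) → ¬IsSquare ((-1) ^ (D + 1) * (L.map (Cfsg.quadFormMinus D F a₀ b₀)).prod) := by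
    intro L hL hlen hsq
    obtain ⟨W, -, hWd, hW⟩ := exists_sing C h2 (D + 1) L hL (Or.inr ⟨hlen.symm, hsq⟩)
    have := Cfsg.Lib.Linear.AutPO.minus_ts_bound hab C hW
    omega
  constructor
  · intro hall
    by_contra hcon
    simp only [not_or, not_not] at hcon
    obtain ⟨hdo, hm, hq7⟩ := hcon
    have hns : ¬IsSquare (-1 : F) := fun h => by have := hneg.1 h; omega
    obtain ⟨T, hT, hTQ⟩ := exists_T h2 (D := D) (by
      rw [Nat.even_iff]; rw [Nat.even_iff] at hdo; omega) hab hns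
    obtain ⟨g, hg, -, hsq⟩ := exists_gl_sq_neg_one (Q := Cfsg.quadFormMinus D F a₀ b₀) T hT hTQ
    have hgΩ := (sq_neg_one C h2 hcard (by omega) hg hsq).2.2
      ((sq_two_pow_iff h2 (Nat.not_even_iff_odd.1 hdo) (by omega)).2 hq7)
    obtain ⟨W, hWm, -, hinv⟩ := hall g hgΩ
      ⟨-1, mat_ext fun v => by rw [Units.val_pow_eq_pow_val, pow_two, ← Matrix.mulVec_mulVec, hsq, Matrix.smul_mulVec,
        Matrix.one_mulVec, neg_one_smul]⟩
      (fun z hz => hns ⟨z, by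
        obtain ⟨v, hv⟩ := Cfsg.Lib.H3.exists_nonsing_vec C (by omega)
        have h := hsq v
        rw [hz, Matrix.smul_mulVec, Matrix.one_mulVec, Matrix.smul_mulVec, Matrix.one_mulVec, smul_smul] at h
        have h' : (z * z + 1) • v = 0 := by rw [add_smul, h, one_smul, neg_add_cancel]
        rw [smul_eq_zero, or_iff_left fun h0 => hv (by rw [h0, C.zero])] at h'
        linear_combination -h'⟩)
    have he := even_of_inv hsq hns hinv
    rw [hWm] at he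
    exact hm he
  · intro hcase x hx ⟨z, hz⟩ _
    obtain ⟨g, hg, rfl⟩ := hx
    rcases sq_scalar C (by omega) g.2 hz with h1 | hsq
    · have hgg : g ^ 2 = 1 := Subtype.ext (by rw [SubmonoidClass.coe_pow]; exact h1)
      obtain ⟨Lp, Lm, hp, hm, hOp, hOm, hlen, ⟨a, ha⟩, hsqm⟩ := exists_lists_omega C h2 (by omega) g hg hgg
      rw [hcard] at hlen
      obtain ⟨b, hb⟩ : ∃ b, Lp.length = 2 * b := ⟨D + 1 - a, by omega⟩
      have hd := hdisc _ (orth_append C h2 g.2 hp hm hOp hOm) (by rw [List.length_append]; omega)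
      rw [List.map_append, List.prod_append] at hd
      have hd' : ¬IsSquare ((-1) ^ (D + 1) * (Lp.map (Cfsg.quadFormMinus D F a₀ b₀)).prod) := fun h =>
        hd (by rw [← mul_assoc]; exact h.mul hsqm)
      have hfix : ∀ k l, k + l = m →
          (2 * k < Lp.length ∨ (2 * k = Lp.length ∧ IsSquare ((-1) ^ k * (Lp.map (Cfsg.quadFormMinus D F a₀ b₀)).prod))) →
          (2 * l < Lm.length ∨ (2 * l = Lm.length ∧ IsSquare ((-1) ^ l * (Lm.map (Cfsg.quadFormMinus D F a₀ b₀)).prod))) →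
          FixesQ (Cfsg.quadFormMinus D F a₀ b₀) m (g : GL ((Fin D ⊕ Fin D) ⊕ Fin 2) F).val := fun k l hkl hk hl => hkl ▸
        fixesQ_of_lists C h2 1 (C.B_act g.2) one_ne_zero (one_mul 1) (fun v hv => by rw [one_smul]; exact hp v hv)
          (fun v hv => by rw [neg_one_smul]; exact hm v hv) hOp hOm hk hl
      by_cases ha1 : IsSquare ((-1 : F) ^ a)
      · have hb0 : b ≠ 0 := fun h0 => hd' (by
          rw [List.length_eq_zero_iff.1 (show Lp.length = 0 by omega), List.map_nil, List.prod_nil, mul_one,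
            show D + 1 = a by omega]
          exact ha1)
        refine hfix (m - min a m) (min a m) (by omega) (Or.inl (by omega)) ?_
        by_cases hl : m < a
        · exact Or.inl (by omega)
        · exact Or.inr ⟨by omega, by rw [show min a m = a by omega]; exact ha1.mul hsqm⟩
      · have ha0 : a ≠ 0 := fun h => ha1 (by rw [h, pow_zero]; exact IsSquare.one)
        refine hfix (m - min (a - 1) m) (min (a - 1) m) (by omega) ?_ (Or.inl (by omega))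
        by_cases hk : m - min (a - 1) m < b
        · exact Or.inl (by omega)
        · refine Or.inr ⟨by omega, ?_⟩
          rw [show m - min (a - 1) m = b by omega]
          have h := isSquare_mul_of_not h2 ha1 hd'
          rw [show D + 1 = a + b by omega, pow_add, ← mul_assoc, ← mul_assoc, ← pow_add, ← two_mul, pow_mul,
            neg_one_sq, one_pow, one_mul] at h
          exact h
    · by_cases hs : IsSquare (-1 : F)
      · obtain ⟨e, he⟩ := hs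
        exact fixesQ_of_sqrt C h2 g.2 hsq he.symm (by omega)
      · obtain ⟨⟨L, hL, hLlen, hLsq⟩, hΩ⟩ := sq_neg_one C h2 hcard (by omega) g.2 hsq
        have hdo : Odd (D + 1) := by
          by_contra h
          refine hdisc L hL hLlen ?_
          rw [(Nat.not_odd_iff_even.1 h).neg_one_pow, one_mul]
          exact hLsq
        have hq3 : Fintype.card F % 4 = 3 := by
          have : Fintype.card F % 4 ≠ 1 := fun h => hs (hneg.2 h)
          omega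
        rcases hcase with h | ⟨j, hj⟩ | h
        · exact absurd h (Nat.not_even_iff_odd.2 hdo)
        · obtain ⟨W, hWd, hW, hinv⟩ := exists_inv_ts C h2 g.2 hsq hs j (by omega)
          refine ⟨W, by omega, hW, ?_⟩
          rintro _ ⟨y, hy, rfl⟩
          rw [Matrix.toLin'_apply]
          exact hinv y hy
        · exact absurd ((sq_two_pow_iff h2 hdo hq3).1 (hΩ.1 ⟨g, hg, rfl⟩)) h

theorem two_dvd_iff {i c : ℕ} (hc : c = if Even i then i else 2 * i) (hi0 : 0 < i) (A J : ℕ) :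
    (Even i ∧ Odd ((A + 2 * (i * J)) / c)) ↔ (Even i ∧ Odd (A / c)) := by
  refine and_congr_right fun h => ?_
  rw [hc, if_pos h, show A + 2 * (i * J) = A + i * (2 * J) by ring,
    Nat.add_mul_div_left _ _ hi0, Nat.odd_add, iff_true_right (even_two_mul J)]

theorem main {F : Type*} [Field F] [Fintype F] {p : ℕ} [Fact p.Prime] [CharP F p] {q : ℕ} (hq : Fintype.card F = q)
    (D d m : ℕ) (hD : d = D + 1) (hd : 4 ≤ d) (hm : 1 ≤ m) (hmd : m + 1 ≤ d) (a b : F) (hab : ∀ x y : F, x ^ 2 + a * x * y + b * y ^ 2 = 0 → x = 0 ∧ y = 0)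
    (r : ℕ) [Fact r.Prime]
    (hrΩ : r ∣ Nat.card {W : Submodule F ((Fin D ⊕ Fin D) ⊕ Fin 2 → F) // Module.finrank F ↥W = m ∧ (∀ w ∈ W, Cfsg.quadFormMinus D F a b w = 0)})
    (i c : ℕ) (hi : i = orderOf (q : ZMod r)) (hc : c = if Even i then i else 2 * i) :
    (∀ x : GL ((Fin D ⊕ Fin D) ⊕ Fin 2) F, x ∈ Cfsg.Geo.omegaGL (Cfsg.quadFormMinus D F a b) →
      (∃ z : F, ((x ^ r : GL ((Fin D ⊕ Fin D) ⊕ Fin 2) F) : Matrix ((Fin D ⊕ Fin D) ⊕ Fin 2) ((Fin D ⊕ Fin D) ⊕ Fin 2) F) = z • (1 : Matrix ((Fin D ⊕ Fin D) ⊕ Fin 2) ((Fin D ⊕ Fin D) ⊕ Fin 2) F)) →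
      (∀ z : F, (x : Matrix ((Fin D ⊕ Fin D) ⊕ Fin 2) ((Fin D ⊕ Fin D) ⊕ Fin 2) F) ≠ z • (1 : Matrix ((Fin D ⊕ Fin D) ⊕ Fin 2) ((Fin D ⊕ Fin D) ⊕ Fin 2) F)) →
      FixesQ (Cfsg.quadFormMinus D F a b) m (x : Matrix ((Fin D ⊕ Fin D) ⊕ Fin 2) ((Fin D ⊕ Fin D) ⊕ Fin 2) F)) ↔
    ((r = 2 ∧ p ≠ 2 ∧ (Even d ∨ Even m ∨ q % 8 ≠ 7)) ∨
     (r ≠ p ∧ 2 < r ∧ Odd i ∧ i ≤ m ∧ ((2 * d) % c = 0 ∨ 2 * (m % i) < (2 * d) % c)) ∨
     (r ≠ p ∧ 2 < r ∧ Even i ∧ i ≤ m ∧ (r - 1) / i + 2 * (m / i) ≤ (2 * d) / i ∧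
       ((2 * (m % i) ≤ i ∧ (2 * d) % c = 0 ∧ Even ((2 * d) / i) ∧ (r - 1) / i + 2 * (m / i) < (2 * d) / i) ∨
        (2 * (m % i) ≤ (2 * d) % c ∧ Odd ((2 * d) / i)) ∨
        (2 * (m % i) < (2 * d) % c ∧ Even ((2 * d) / i))))) := by
  classical
  subst hq hD
  obtain ⟨hr⟩ := (inferInstance : Fact r.Prime)
  obtain ⟨B, C⟩ := exists_space_minus (F := F) D a b hab
  -- local counts
  obtain ⟨j, hjm, hrj⟩ := exists_dvd_local C (fun j => (Fintype.card F ^ (D - j) - 1) * (Fintype.card F ^ (D - j + 1) + 1)) m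
    (fun j hj W hWj hW => by
      obtain ⟨e, rfl⟩ := Nat.exists_eq_add_of_le (show j ≤ D by omega)
      obtain ⟨B₀, C₀⟩ := exists_space_minus (F := F) e a b hab
      show _ = _ * ((Fintype.card F ^ (j + e - j) - 1) * (Fintype.card F ^ (j + e - j + 1) + 1))
      rw [Nat.add_sub_cancel_left, card_extensions C C₀ (minusSplit j e a b) hWj hW, count_minus e hab]) hr hrΩ
  have hrp : r ≠ p := by
    rintro rfl
    obtain ⟨k, -, hk⟩ := FiniteField.card F r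
    have h1 : ∀ a, 1 ≤ a → r ∣ Fintype.card F ^ a := fun a ha => by
      rw [hk, ← pow_mul]; exact dvd_pow_self r (Nat.mul_ne_zero k.pos.ne' (by omega))
    rcases hr.dvd_mul.1 hrj with h | h
    · have h3 := Nat.dvd_sub (h1 (D - j) (by omega)) h
      rw [Nat.sub_sub_self (Nat.one_le_pow _ _ Fintype.card_pos)] at h3
      exact hr.one_lt.ne' (Nat.dvd_one.1 h3)
    · have h3 := Nat.dvd_sub h (h1 (D - j + 1) (by omega))
      rw [Nat.add_sub_cancel_left] at h3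
      exact hr.one_lt.ne' (Nat.dvd_one.1 h3)
  by_cases hr2 : r = 2
  · subst hr2
    have h2 : (2 : F) ≠ 0 := fun h => hrp.symm (by
      have := (CharP.cast_eq_zero_iff F p 2).1 (by exact_mod_cast h)
      exact (Nat.prime_dvd_prime_iff_eq Fact.out Nat.prime_two).1 this)
    refine (two_case h2 (by omega) (by omega) hab).trans ⟨fun h => Or.inl ⟨rfl, hrp.symm, h⟩, ?_⟩
    rintro (⟨-, -, h⟩ | ⟨-, h, -⟩ | ⟨-, h, -⟩)
    · exact h
    · exact absurd h (lt_irrefl 2)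
    · exact absurd h (lt_irrefl 2)
  obtain ⟨e, rfl⟩ := Nat.exists_eq_add_of_le (show m ≤ D by omega)
  obtain ⟨B₀, C₀⟩ := exists_space_minus (F := F) e a b hab
  have hcard : Fintype.card ((Fin (m + e) ⊕ Fin (m + e)) ⊕ Fin 2) = 2 * (m + e) + 2 := by simp; omega
  refine (omega_scalar_iff C C₀ (minusSplit m e a b) (by omega) (Or.inr (by omega)) hr2).trans ?_
  let L := AlgebraicClosure F
  haveI : CharP L p := charP_of_injective_algebraMap (algebraMap F L).injective p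
  have hrL : (r : L) ≠ 0 := fun h =>
    hrp ((Nat.prime_dvd_prime_iff_eq Fact.out hr).mp ((CharP.cast_eq_zero_iff L p r).mp h)).symm
  have hrF : (r : F) ≠ 0 := fun h => hrL (by rw [← map_natCast (algebraMap F L), h, map_zero])
  haveI : NeZero (r : L) := ⟨hrL⟩
  obtain ⟨ζ, hζ⟩ := HasEnoughRootsOfUnity.exists_primitiveRoot L r
  have hrq : (Fintype.card F : ZMod r) ≠ 0 := fun h => by
    obtain ⟨k, -, hk⟩ := FiniteField.card F p
    rw [ZMod.natCast_eq_zero_iff, hk] at h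
    exact hrp ((Nat.prime_dvd_prime_iff_eq hr Fact.out).mp (hr.dvd_of_dvd_pow h))
  let uq : (ZMod r)ˣ := Units.mk0 _ hrq
  have huq : (uq : ZMod r) = (Fintype.card F : ZMod r) := rfl
  have hiu : orderOf uq = i := by rw [hi, ← orderOf_units, huq]
  obtain ⟨w, hw, hwq, hwn, hwo⟩ := exists_gen hr2 uq
  rw [hiu] at hwo
  have hwc : orderOf w = c := by
    rw [hwo, hc]
    by_cases he : Even i
    · rw [if_pos he, if_neg (Nat.not_odd_iff_even.mpr he)]
    · rw [if_neg he, if_pos (Nat.not_even_iff_odd.mp he)]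
  have hi0 : 0 < i := hiu ▸ orderOf_pos uq
  have hir : i ∣ r - 1 := by
    rw [← hiu, ← ZMod.card_units r]
    exact orderOf_dvd_card
  let P : ℕ → Prop := fun K => Even i ∧ Odd K
  have hPP : ∀ A, P (A / c) ↔ PMinus (orderOf uq) A := fun A => by
    rw [hiu]
    exact and_congr_right fun h => by rw [hc, if_pos h]
  have hlow : Low (2 * (m + e) + 2) c m P := by
    rcases hr.dvd_mul.1 hrj with h | h
    · obtain ⟨x, hx⟩ := orderOf_dvd_of_sub hi h
      by_cases he : Even i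
      · rw [if_pos he] at hc
        refine ⟨j + 1, 2 * x, ?_, hjm, fun h => absurd (even_two_mul x) (Nat.not_even_iff_odd.2 h.2),
          fun _ => Nat.le_add_left 1 j⟩
        rw [hc, mul_left_comm, ← hx]
        omega
      · rw [if_neg he] at hc
        refine ⟨j + 1, x, ?_, hjm, fun h => absurd h.1 he, fun _ => Nat.le_add_left 1 j⟩
        rw [hc, mul_assoc, ← hx]
        omega
    · obtain ⟨he, x, hx, hxo⟩ := orderOf_of_add hr2 hi h
      rw [if_pos he] at hc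
      exact ⟨j, x, by rw [hc, ← hx]; omega, hjm.le, fun _ => hjm, fun h => absurd ⟨he, hxo⟩ h⟩
  rw [all_fixes_cond C C₀ (minusSplit m e a b) hζ hrL hrF hr2 huq w hw hwq hwn hiu hwc hc (Nat.div_mul_cancel hir)
    hcard (by omega : 2 * e + 2 + 2 * m = 2 * (m + e) + 2) P (fun A J => two_dvd_iff hc hi0 A J)
    (fun f hf => ⟨fun hok => real_minus hζ hr2 huq w hwq hwn _ hab hf (hok.imp id (hPP _).1), fun ⟨g, hg, hgp⟩ =>
      or_iff_not_imp_left.2 fun h0 => (hPP _).2 (pminus_of_fpf hζ hr2 huq w hwq _ hab hf (not_not.1 h0) g hg hgp)⟩)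
    (fun f hf => ⟨fun hok => real_minus hζ hr2 huq w hwq hwn _ hab hf (hok.imp id (hPP _).1), fun ⟨g, hg, hgp⟩ =>
      or_iff_not_imp_left.2 fun h0 => (hPP _).2 (pminus_of_fpf hζ hr2 huq w hwq _ hab hf (not_not.1 h0) g hg hgp)⟩)]
  have h2r : 2 < r := lt_of_le_of_ne hr.two_le (Ne.symm hr2)
  rw [show 2 * (m + e + 1) = 2 * (m + e) + 2 by ring]
  by_cases he : Even i
  · rw [if_pos he] at hc
    rw [cond_even he hi0 hc (π := 1) (by omega)
      (fun K => by simp only [P, he, true_and, Nat.odd_iff]) hlow (by omega)]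
    constructor
    · rintro ⟨h1, h3, h4⟩
      refine Or.inr (Or.inr ⟨hrp, h2r, he, h1, h3, ?_⟩)
      rw [Nat.even_iff, Nat.odd_iff]
      omega
    · rintro (⟨h, -⟩ | ⟨-, -, h, -⟩ | ⟨-, -, -, h1, h3, h4⟩)
      · exact absurd h hr2
      · exact absurd h (Nat.not_odd_iff_even.2 he)
      · rw [Nat.even_iff, Nat.odd_iff] at h4
        exact ⟨h1, h3, by omega⟩
  · rw [if_neg he] at hc
    rw [cond_odd_false (Nat.not_even_iff_odd.1 he) hc (fun K h => he h.1) hlow (by omega)]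
    constructor
    · exact fun h => Or.inr (Or.inl ⟨hrp, h2r, Nat.not_even_iff_odd.1 he, h⟩)
    · rintro (⟨h, -⟩ | ⟨-, -, -, h⟩ | ⟨-, -, h, -⟩)
      · exact absurd h hr2
      · exact h
      · exact absurd h he

/-- Elements of prime order of PΩ⁻_n(q) with no fixed totally singular `m`-space. Here `T = PΩ⁻_n(F)`, `n = 2d ≥ 8`, realised through `Ω⁻_n(q)`, the commutator subgroup of the isometry group of `Q = Σ_{i<d−1} xᵢyᵢ + z₁² + a z₁z₂ + b z₂²` with `z₁² + a z₁z₂ + b z₂²` anisotropic, over the field `F` with `q` elements; an element of `T` of prime order `r` is an element `x` of `Ω⁻_n(q)` with `x^r` scalar and `x` not scalar. Let `1 ≤ m ≤ d − 1` and let `r` be a prime dividing the number of totally singular `m`-spaces (subspaces of dimension `m` on which `Q` vanishes); for `r ≠ p` let `i` be the multiplicative order of `q` modulo `r`, `c = i` for `i` even and `c = 2i` for `i` odd, and write `k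 = n mod c`, `ℓ = m mod i`, `n' = ⌊n/i⌋`, `m' = ⌊m/i⌋`, `t = (r−1)/i`. Then every element of `T` of order `r` fixes some totally singular `m`-space if and only if one of: (i) `r = 2 ≠ p` and (`n ≡ 0 (mod 4)`, or `m` is even, or `q ≢ 7 (mod 8)`); (ii) `r ≠ p` odd, `i` odd, `i ≤ m` and (`k = 0` or `k > 2ℓ`); (iii) `r ≠ p` odd, `i` even, `i ≤ m`, `n' − 2m' ≥ t`, and one of: (a) `i ≥ 2ℓ`, `k = 0`, `n/i` even and `n' − 2m' > t` (all four); (b) `k ≥ 2ℓ` and `n'` odd; (c) `k > 2ℓ` and `n'` even. -/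
theorem result {F : Type*} [Field F] [Fintype F] {p : ℕ} [Fact p.Prime] [CharP F p] {q : ℕ} (hq : Fintype.card F = q)
    (d m : ℕ) (hd : 4 ≤ d) (hm : 1 ≤ m) (hmd : m + 1 ≤ d) (a b : F) (hab : ∀ x y : F, x ^ 2 + a * x * y + b * y ^ 2 = 0 → x = 0 ∧ y = 0)
    (r : ℕ) [Fact r.Prime]
    (hrΩ : r ∣ Nat.card {W : Submodule F ((Fin (d - 1) ⊕ Fin (d - 1)) ⊕ Fin 2 → F) // Module.finrank F ↥W = m ∧ Cfsg.Geo.IsTotallySingularQuad (Cfsg.quadFormMinus (d - 1) F a b) W})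
    (i c : ℕ) (hi : i = orderOf (q : ZMod r)) (hc : c = if Even i then i else 2 * i) :
    (∀ x : GL ((Fin (d - 1) ⊕ Fin (d - 1)) ⊕ Fin 2) F, x ∈ Cfsg.Geo.omegaGL (Cfsg.quadFormMinus (d - 1) F a b) →
      (∃ z : F, ((x ^ r : GL ((Fin (d - 1) ⊕ Fin (d - 1)) ⊕ Fin 2) F) : Matrix ((Fin (d - 1) ⊕ Fin (d - 1)) ⊕ Fin 2) ((Fin (d - 1) ⊕ Fin (d - 1)) ⊕ Fin 2) F) = z • (1 : Matrix ((Fin (d - 1) ⊕ Fin (d - 1)) ⊕ Fin 2) ((Fin (d - 1) ⊕ Fin (d - 1)) ⊕ Fin 2) F)) →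
      (∀ z : F, (x : Matrix ((Fin (d - 1) ⊕ Fin (d - 1)) ⊕ Fin 2) ((Fin (d - 1) ⊕ Fin (d - 1)) ⊕ Fin 2) F) ≠ z • (1 : Matrix ((Fin (d - 1) ⊕ Fin (d - 1)) ⊕ Fin 2) ((Fin (d - 1) ⊕ Fin (d - 1)) ⊕ Fin 2) F)) →
      ∃ W : Submodule F ((Fin (d - 1) ⊕ Fin (d - 1)) ⊕ Fin 2 → F), (Module.finrank F ↥W = m ∧ Cfsg.Geo.IsTotallySingularQuad (Cfsg.quadFormMinus (d - 1) F a b) W) ∧ W.map (Matrix.toLin' (x : Matrix ((Fin (d - 1) ⊕ Fin (d - 1)) ⊕ Fin 2) ((Fin (d - 1) ⊕ Fin (d - 1)) ⊕ Fin 2) F)) ≤ W) ↔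
    ((r = 2 ∧ p ≠ 2 ∧ (Even d ∨ Even m ∨ q % 8 ≠ 7)) ∨
     (r ≠ p ∧ 2 < r ∧ Odd i ∧ i ≤ m ∧ ((2 * d) % c = 0 ∨ 2 * (m % i) < (2 * d) % c)) ∨
     (r ≠ p ∧ 2 < r ∧ Even i ∧ i ≤ m ∧ (r - 1) / i + 2 * (m / i) ≤ (2 * d) / i ∧
       ((2 * (m % i) ≤ i ∧ (2 * d) % c = 0 ∧ Even ((2 * d) / i) ∧ (r - 1) / i + 2 * (m / i) < (2 * d) / i) ∨
        (2 * (m % i) ≤ (2 * d) % c ∧ Odd ((2 * d) / i)) ∨
        (2 * (m % i) < (2 * d) % c ∧ Even ((2 * d) / i))))) := by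
  refine Iff.trans ⟨fun h x h1 h2 h3 => ?_, fun h x h1 h2 h3 => ?_⟩
    (main hq (d - 1) d m (by omega) hd hm hmd a b hab r hrΩ i c hi hc)
  · obtain ⟨W, ⟨hW1, hW2⟩, hW3⟩ := h x h1 h2 h3
    exact ⟨W, hW1, hW2, hW3⟩
  · obtain ⟨W, hW1, hW2, hW3⟩ := h x h1 h2 h3
    exact ⟨W, ⟨hW1, hW2⟩, hW3⟩

end Cfsg.Agent.S5987
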