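import Cfsg.Statements.S2332
import Cfsg.Agent.Lib.Linear.MinDegree.Induct

set_option autoImplicit false
open Cfsg

namespace Cfsg.Agent.S2332

/-- Smallest degree of a non-linear irreducible complex representation of SL_n over a finite field with q elements, for n ≥ 3 and (n, q) not one of (3, 2), (3, 4), (4, 2), (4, 3): every irreducible complex representation of SL_n(F) of degree at least 2 has degree at least (q^n − q)/(q − 1), and there is an irreducible complex representation of exactly that degree. -/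
theorem result {F : Type*} [Field F] [Fintype F] [DecidableEq F] (n : ℕ) (hn : 3 ≤ n)
    (hex : (n, Fintype.card F) ≠ (3, 2) ∧ (n, Fintype.card F) ≠ (3, 4) ∧ (n, Fintype.card F) ≠ (4, 2) ∧ (n, Fintype.card F) ≠ (4, 3)) :
    (∀ (k : ℕ) (ρ : Representation ℂ (Matrix.SpecialLinearGroup (Fin n) F) (Fin k → ℂ)), ρ.IsIrreducible → 2 ≤ k → (Fintype.card F ^ n - Fintype.card F) / (Fintype.card F - 1) ≤ k) ∧
    (∃ ρ : Representation ℂ (Matrix.SpecialLinearGroup (Fin n) F) (Fin ((Fintype.card F ^ n - Fintype.card F) / (Fintype.card F - 1)) → ℂ), ρ.IsIrreducible) := by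
  have : Fact (3 ≤ n) := ⟨hn⟩
  rw [Cfsg.Lib.Linear.MinDegree.tgt_eq Fintype.one_lt_card (by omega)]
  refine ⟨fun k ρ hρ hk => Cfsg.Lib.Linear.MinDegree.degree_bound' F n hn hex ⟨ρ.character, ⟨k, ρ, hρ, rfl⟩, ?_, ?_⟩, ?_⟩
  · intro e
    have h1 := congrFun e 1
    rw [Representation.char_one, Module.finrank_fin_fun] at h1
    have : k = 1 := by exact_mod_cast h1
    omega
  · rw [Representation.char_one, Module.finrank_fin_fun]
  · obtain ⟨χ, hirr, -, -, hdeg⟩ := Cfsg.Lib.TwoDim.VectorChar.decomposition_degree (F := F) (n := n)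
    obtain ⟨m, ρ, hρ, hc⟩ := hirr 1
    have h1 := hdeg 1
    have hgm := Cfsg.Lib.Linear.MinDegree.geo_mul (Fintype.card F) n Fintype.card_pos
    rw [← hc, Representation.char_one, Module.finrank_fin_fun, if_pos rfl, Cfsg.Lib.Linear.MinDegree.card_NZ,
      show Fintype.card F ^ n - 1 = (Fintype.card F - 1) * Cfsg.Lib.Linear.MinDegree.geo (Fintype.card F) n by omega,
      Nat.cast_mul, mul_div_cancel_left₀ _ Cfsg.Lib.TwoDim.VectorChar.q_sub_one_ne,
      Cfsg.Lib.Linear.MinDegree.geo_eq (by omega), Nat.cast_add, Nat.cast_one, add_sub_cancel_right, Nat.cast_inj] at h1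
    subst h1
    exact ⟨ρ, hρ⟩

end Cfsg.Agent.S2332
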