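import Cfsg.Statements.S5515
import Cfsg.Agent.Lib.Core.Layer
import Cfsg.Agent.Lib.Linear.AutPO.PlusShapes
import Cfsg.Agent.Lib.Linear.OrthSimple
-- import your own Cfsg.Agent.* helpers here

set_option autoImplicit false
open Cfsg

namespace Cfsg.Agent.S5515

theorem sym4_fix : ∀ x y : Equiv.Perm (Fin 4), x * x = 1 → x ≠ 1 → y * y * y = 1 → y ≠ 1 →
    x * y * x = y * y → ∃ i, x i = i ∧ y i = i := by decide +kernel

theorem sym3_closure : Subgroup.closure ({Equiv.swap (0 : Fin 3) 1, finRotate 3} : Set (Equiv.Perm (Fin 3))) = ⊤ := by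
  rw [Subgroup.eq_top_iff']
  intro σ
  have h : ∀ σ : Equiv.Perm (Fin 3), ∃ i : Fin 2, ∃ j : Fin 3,
      σ = Equiv.swap (0 : Fin 3) 1 ^ (i : ℕ) * finRotate 3 ^ (j : ℕ) := by decide +kernel
  obtain ⟨i, j, rfl⟩ := h σ
  exact mul_mem (pow_mem (Subgroup.subset_closure (by simp)) _) (pow_mem (Subgroup.subset_closure (by simp)) _)

/-- An injective image of the symmetric group on three letters in that on four is a point stabiliser. -/
theorem range_eq_stabilizer (f : Equiv.Perm (Fin 3) →* Equiv.Perm (Fin 4)) (hf : Function.Injective f) :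
    ∃ i : Fin 4, f.range = MulAction.stabilizer (Equiv.Perm (Fin 4)) i := by
  set a := Equiv.swap (0 : Fin 3) 1
  set b := finRotate 3
  obtain ⟨i, hx, hy⟩ := sym4_fix (f a) (f b) (by rw [← map_mul, ← map_one f]; congr 1; decide +kernel)
    (fun h => absurd (hf (h.trans (map_one f).symm)) (by decide +kernel))
    (by rw [← map_mul, ← map_mul, ← map_one f]; congr 1; decide +kernel)
    (fun h => absurd (hf (h.trans (map_one f).symm)) (by decide +kernel))
    (by rw [← map_mul, ← map_mul, ← map_mul]; congr 1; decide +kernel)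
  refine ⟨i, Subgroup.eq_of_le_of_card_ge ?_ ?_⟩
  · rw [MonoidHom.range_eq_map, ← sym3_closure, MonoidHom.map_closure, Subgroup.closure_le]
    rintro _ ⟨g, hg, rfl⟩
    rcases hg with rfl | rfl
    · exact hx
    · exact hy
  · rw [← Nat.card_congr (MonoidHom.ofInjective hf).toEquiv]
    have h := Subgroup.card_mul_index (MulAction.stabilizer (Equiv.Perm (Fin 4)) i)
    rw [MulAction.index_stabilizer_of_transitive] at h
    simp only [Nat.card_perm, Nat.card_fin, Nat.factorial] at h ⊢
    omega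

section

variable {G P : Type*} [Group G] [Group P] {L : Subgroup G} [L.Normal] (eL : ↥L ≃* P)

/-- The action of a group on a normal subgroup, transported. -/
noncomputable def act : G →* MulAut P := (MulAut.congr eL).toMonoidHom.comp MulAut.conjNormal

theorem act_coe (l : ↥L) : act eL (l : G) = MulAut.conj (eL l) := by
  refine MulEquiv.ext fun p => ?_
  obtain ⟨m, rfl⟩ := eL.surjective p
  have h : MulAut.conjNormal (l : G) m = l * m * l⁻¹ := Subtype.ext (MulAut.conjNormal_apply _ _)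
  show eL (MulAut.conjNormal (l : G) (eL.symm (eL m))) = _
  rw [MulEquiv.symm_apply_apply, h, MulAut.conj_apply, map_mul, map_mul, map_inv]

theorem inn_le_range : Cfsg.Inn P ≤ (act eL).range := by
  rintro _ ⟨p, rfl⟩
  obtain ⟨l, rfl⟩ := eL.surjective p
  exact ⟨(l : G), act_coe eL l⟩

theorem act_injective (hc : Subgroup.centralizer (L : Set G) ≤ L) (hZ : Subgroup.center P = ⊥) :
    Function.Injective (act eL) := by
  rw [← MonoidHom.ker_eq_bot_iff, eq_bot_iff]
  intro g hg
  have hfix : ∀ m : ↥L, MulAut.conjNormal g m = m := fun m => eL.injective (by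
    have h := DFunLike.congr_fun (MonoidHom.mem_ker.1 hg) (eL m)
    change eL (MulAut.conjNormal g (eL.symm (eL m))) = eL m at h
    rwa [MulEquiv.symm_apply_apply] at h)
  have hgL : g ∈ L := hc (Subgroup.mem_centralizer_iff.2 fun m hm => by
    have h := congrArg Subtype.val (hfix ⟨m, hm⟩)
    rw [MulAut.conjNormal_apply] at h
    exact (mul_inv_eq_iff_eq_mul.1 h).symm)
  have hgc : eL ⟨g, hgL⟩ ∈ Subgroup.center P := Subgroup.mem_center_iff.2 fun p => by
    obtain ⟨m, rfl⟩ := eL.surjective p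
    rw [← map_mul, ← map_mul]
    refine congrArg eL (Subtype.ext ?_)
    have h := congrArg Subtype.val (hfix m)
    rw [MulAut.conjNormal_apply] at h
    exact (mul_inv_eq_iff_eq_mul.1 h).symm
  rw [hZ, Subgroup.mem_bot, ← map_one eL] at hgc
  exact Subgroup.mem_bot.2 (congrArg Subtype.val (eL.injective hgc))

theorem outer_ker (hinj : Function.Injective (act eL)) :
    ((QuotientGroup.mk' (Cfsg.Inn P)).comp (act eL)).ker = L := by
  ext g
  rw [MonoidHom.mem_ker, MonoidHom.comp_apply, QuotientGroup.mk'_apply, QuotientGroup.eq_one_iff]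
  refine ⟨?_, fun hg => ⟨eL ⟨g, hg⟩, (act_coe eL ⟨g, hg⟩).symm⟩⟩
  rintro ⟨p, hp⟩
  obtain ⟨l, rfl⟩ := eL.surjective p
  rw [hinj (hp.symm.trans (act_coe eL l).symm)]
  exact l.2

theorem image_stabilizer (hM : Function.Injective (act eL)) (eqM : G ⧸ L ≃* Equiv.Perm (Fin 3))
    (fst4 : Cfsg.Out P →* Equiv.Perm (Fin 4)) (hfst : Function.Injective fst4) :
    ∃ i : Fin 4, (((QuotientGroup.mk' (Cfsg.Inn P)).comp (act eL)).range.map fst4) =
      MulAction.stabilizer (Equiv.Perm (Fin 4)) i := by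
  set Φ := fst4.comp ((QuotientGroup.mk' (Cfsg.Inn P)).comp (act eL)) with hΦ
  have hker : Φ.ker = L := by
    rw [hΦ, ← MonoidHom.comap_ker, (MonoidHom.ker_eq_bot_iff fst4).2 hfst, MonoidHom.comap_bot, outer_ker eL hM]
  set E := (QuotientGroup.quotientMulEquivOfEq hker).trans eqM with hE
  obtain ⟨i, hi⟩ := range_eq_stabilizer ((QuotientGroup.kerLift Φ).comp E.symm.toMonoidHom)
    ((QuotientGroup.kerLift_injective Φ).comp E.symm.injective)
  refine ⟨i, ?_⟩
  rw [← hi, MonoidHom.map_range, ← hΦ]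
  ext σ
  constructor
  · rintro ⟨x, rfl⟩
    refine ⟨E (QuotientGroup.mk x), ?_⟩
    rw [MonoidHom.comp_apply, MulEquiv.coe_toMonoidHom, MulEquiv.symm_apply_apply]
    exact QuotientGroup.kerLift_mk Φ x
  · rintro ⟨y, rfl⟩
    obtain ⟨x, hx⟩ := QuotientGroup.mk_surjective (E.symm y)
    refine ⟨x, ?_⟩
    show Φ x = QuotientGroup.kerLift Φ (E.symm y)
    rw [← hx]
    exact (QuotientGroup.kerLift_mk Φ x).symm

end

/-- Let G and G′ be finite groups whose generalized Fitting subgroups are isomorphic to PΩ⁺(8, 3) (the commutator subgroup of the isometry group of the hyperbolic quadratic form in dimension 8 over the field with three elements, modulo its centre) with quotients isomorphic to the symmetric group of degree 3. Then G and G′ are isomorphic. -/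
theorem result {G G' : Type*} [Group G] [Finite G] [Group G'] [Finite G'] (hF : Nonempty (↥(Cfsg.generalizedFittingSubgroup G) ≃* Cfsg.POmega (ZMod 3) (Cfsg.quadFormPlus 4 (ZMod 3)))) (hF' : Nonempty (↥(Cfsg.generalizedFittingSubgroup G') ≃* Cfsg.POmega (ZMod 3) (Cfsg.quadFormPlus 4 (ZMod 3)))) [hn : (Cfsg.generalizedFittingSubgroup G).Normal] [hn' : (Cfsg.generalizedFittingSubgroup G').Normal] (hq : Nonempty (G ⧸ Cfsg.generalizedFittingSubgroup G ≃* Equiv.Perm (Fin 3))) (hq' : Nonempty (G' ⧸ Cfsg.generalizedFittingSubgroup G' ≃* Equiv.Perm (Fin 3))) : Nonempty (G ≃* G') := by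
  obtain ⟨eL⟩ := hF
  obtain ⟨eL'⟩ := hF'
  obtain ⟨eq⟩ := hq
  obtain ⟨eq'⟩ := hq'
  haveI : Fact (Nat.Prime 3) := ⟨by norm_num⟩
  obtain ⟨B, Cs⟩ := Cfsg.Lib.Linear.Orth.exists_space_plus (F := ZMod 3) 4
  haveI hsimp : IsSimpleGroup (Cfsg.POmega (ZMod 3) (Cfsg.quadFormPlus 4 (ZMod 3))) :=
    Cfsg.Lib.Linear.Orth.pomega_simple Cs (by simp)
  set P := Cfsg.POmega (ZMod 3) (Cfsg.quadFormPlus 4 (ZMod 3)) with hP
  obtain ⟨e⟩ := (Cfsg.Lib.Linear.AutPO.d4_out_pomega (F := ZMod 3) 3 (f := 1) le_rfl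
    (by rw [ZMod.card, pow_one])).2.1 (by norm_num)
  have hZ : Subgroup.center P = ⊥ := by
    rcases (inferInstance : (Subgroup.center P).Normal).eq_bot_or_eq_top with h | h
    · exact h
    exfalso
    have hc : ∀ a b : P, a * b = b * a := fun a b => Subgroup.mem_center_iff.1 (h ▸ Subgroup.mem_top b) a
    haveI : IsCyclic P := by
      letI : CommGroup P := { (inferInstance : Group P) with mul_comm := hc }
      exact IsSimpleGroup.isCyclic
    obtain ⟨α, hα⟩ := (QuotientGroup.mk'_surjective (Cfsg.Inn P)) (e.symm (Equiv.swap 0 1, 1))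
    obtain ⟨β, hβ⟩ := (QuotientGroup.mk'_surjective (Cfsg.Inn P)) (e.symm (Equiv.swap 1 2, 1))
    have hab : α * β = β * α := MulEquiv.ext fun x => by
      obtain ⟨g, hg⟩ := IsCyclic.exists_generator (α := P)
      obtain ⟨i, hi⟩ := Subgroup.mem_zpowers_iff.1 (hg (α g))
      obtain ⟨j, hj⟩ := Subgroup.mem_zpowers_iff.1 (hg (β g))
      obtain ⟨k, rfl⟩ := Subgroup.mem_zpowers_iff.1 (hg x)
      rw [MulAut.mul_apply, MulAut.mul_apply, map_zpow, map_zpow, map_zpow, map_zpow, ← hi, ← hj, map_zpow,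
        map_zpow, ← hi, ← hj, ← zpow_mul, ← zpow_mul, ← zpow_mul, ← zpow_mul]
      ring_nf
    have h' := congrArg (fun a => (e (QuotientGroup.mk' (Cfsg.Inn P) a)).1) hab
    simp only [map_mul, hα, hβ, MulEquiv.apply_symm_apply, Prod.fst_mul] at h'
    exact absurd h' (by decide +kernel)
  have hinj : Function.Injective fun z : Equiv.Perm (Fin 4) × Multiplicative (ZMod 1) => z.1 :=
    fun a b h => Prod.ext h (Subsingleton.elim _ _)
  let fst4 : Cfsg.Out P →* Equiv.Perm (Fin 4) :=
    (MonoidHom.fst (Equiv.Perm (Fin 4)) (Multiplicative (ZMod 1))).comp e.toMonoidHom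
  have hfst : Function.Injective fst4 := hinj.comp e.injective
  have hi1 : Function.Injective (act eL) :=
    act_injective eL Cfsg.Lib.Core.centralizer_generalizedFitting_le hZ
  have hi2 : Function.Injective (act eL') :=
    act_injective eL' Cfsg.Lib.Core.centralizer_generalizedFitting_le hZ
  obtain ⟨i, hi⟩ := image_stabilizer eL hi1 eq fst4 hfst
  obtain ⟨j, hj⟩ := image_stabilizer eL' hi2 eq' fst4 hfst
  obtain ⟨o, ho⟩ := e.surjective (Equiv.swap i j, 1)
  obtain ⟨α, rfl⟩ := QuotientGroup.mk'_surjective (Cfsg.Inn P) o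
  have hconj : (act eL).range.map (MulAut.conj α).toMonoidHom = (act eL').range := by
    have hk : ∀ {R : Subgroup (MulAut P)}, Cfsg.Inn P ≤ R →
        (R.map (QuotientGroup.mk' (Cfsg.Inn P))).comap (QuotientGroup.mk' (Cfsg.Inn P)) = R := fun hR =>
      Subgroup.comap_map_eq_self (by rwa [QuotientGroup.ker_mk'])
    have hle : Cfsg.Inn P ≤ (act eL).range.map (MulAut.conj α).toMonoidHom := by
      intro β hβ
      refine ⟨α⁻¹ * β * α, inn_le_range eL ?_, by simp [mul_assoc]⟩
      simpa using (Cfsg.innNormal P).conj_mem β hβ α⁻¹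
    rw [← hk hle, ← hk (inn_le_range eL')]
    congr 1
    refine Subgroup.map_injective hfst ?_
    rw [← MonoidHom.map_range, Subgroup.map_map] at hi hj
    rw [Subgroup.map_map, Subgroup.map_map, Subgroup.map_map]
    have hcomm : (fst4.comp (QuotientGroup.mk' (Cfsg.Inn P))).comp (MulAut.conj α).toMonoidHom =
        (MulAut.conj (Equiv.swap i j)).toMonoidHom.comp (fst4.comp (QuotientGroup.mk' (Cfsg.Inn P))) := by
      have hα : fst4 (QuotientGroup.mk' (Cfsg.Inn P) α) = Equiv.swap i j := congrArg Prod.fst ho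
      refine MonoidHom.ext fun β => ?_
      simp only [MonoidHom.comp_apply, MulEquiv.coe_toMonoidHom, MulAut.conj_apply, map_mul, map_inv, hα]
    rw [hcomm, ← Subgroup.map_map (g := (MulAut.conj (Equiv.swap i j)).toMonoidHom), hi, hj]
    ext σ
    rw [Subgroup.mem_map_equiv, MulAction.mem_stabilizer_iff, MulAction.mem_stabilizer_iff, MulAut.conj_symm_apply,
      Equiv.Perm.smul_def, Equiv.Perm.smul_def, Equiv.Perm.mul_apply, Equiv.Perm.mul_apply, Equiv.swap_inv,
      Equiv.swap_apply_left, Equiv.swap_apply_eq_iff, Equiv.swap_apply_left]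
  exact ⟨(MonoidHom.ofInjective hi1).trans (((act eL).range.equivMapOfInjective _ (MulAut.conj α).injective).trans
    ((MulEquiv.subgroupCongr hconj).trans (MonoidHom.ofInjective hi2).symm))⟩

end Cfsg.Agent.S5515
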