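import Cfsg.Statements.S2431
import Cfsg.Agent.Lib.TwoDim.SylowTwo
-- import your own Cfsg.Agent.* helpers here

set_option autoImplicit false
open Cfsg

namespace Cfsg.Agent.S2431

open Cfsg.Lib.TwoDim
open scoped MatrixGroups

theorem conv {F : Type*} [Field F] [Fintype F] {n : ℕ} (S : Sylow 2 SL(2, F)) {P : Prop}
    (h : P ∧ (8 ∣ n → Subgroup.normalizer ((S : Subgroup SL(2, F)) : Set SL(2, F)) = (S : Subgroup SL(2, F))) ∧
      (¬ 8 ∣ n → Nat.card ↥(Subgroup.normalizer ((S : Subgroup SL(2, F)) : Set SL(2, F))) =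
        3 * Nat.card ↥(S : Subgroup SL(2, F))))
    (hn : (Fintype.card F % 4 = 1 ∧ n = Fintype.card F - 1) ∨ (Fintype.card F % 4 = 3 ∧ n = Fintype.card F + 1)) :
    P ∧ ((Fintype.card F % 8 = 1 ∨ Fintype.card F % 8 = 7) →
      Subgroup.normalizer ((S : Subgroup SL(2, F)) : Set SL(2, F)) = (S : Subgroup SL(2, F))) ∧
    ((Fintype.card F % 8 = 3 ∨ Fintype.card F % 8 = 5) →
      Nat.card ↥(Subgroup.normalizer ((S : Subgroup SL(2, F)) : Set SL(2, F))) = 3 * Nat.card ↥(S : Subgroup SL(2, F))) :=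
  ⟨h.1, fun h8 => h.2.1 (by omega), fun h8 => h.2.2 (by omega)⟩

/-- Let F be a finite field with q elements, q odd, and S a Sylow 2-subgroup of SL₂ over F. The centraliser of S is the centre of SL₂ (of order 2); S is its own normaliser when q ≡ ±1 mod 8, and has index 3 in its normaliser when q ≡ ±3 mod 8. -/
theorem result {F : Type*} [Field F] [Fintype F] (hodd : Odd (Fintype.card F)) (S : Sylow 2 (Matrix.SpecialLinearGroup (Fin 2) F)) :
    Subgroup.centralizer ((S : Subgroup (Matrix.SpecialLinearGroup (Fin 2) F)) : Set (Matrix.SpecialLinearGroup (Fin 2) F)) = Subgroup.center (Matrix.SpecialLinearGroup (Fin 2) F) ∧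
    ((Fintype.card F % 8 = 1 ∨ Fintype.card F % 8 = 7) →
      Subgroup.normalizer ((S : Subgroup (Matrix.SpecialLinearGroup (Fin 2) F)) : Set (Matrix.SpecialLinearGroup (Fin 2) F)) = (S : Subgroup (Matrix.SpecialLinearGroup (Fin 2) F))) ∧
    ((Fintype.card F % 8 = 3 ∨ Fintype.card F % 8 = 5) →
      Nat.card (Subgroup.normalizer ((S : Subgroup (Matrix.SpecialLinearGroup (Fin 2) F)) : Set (Matrix.SpecialLinearGroup (Fin 2) F))) = 3 * Nat.card S) := by
  classical
  have hchar : ringChar F ≠ 2 := Cfsg.Lib.TwoDim.ringChar_ne_two hodd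
  have h22 : (2 : F) ≠ 0 := Ring.two_ne_zero hchar
  have hq2 : 2 ≤ Fintype.card F := Fintype.one_lt_card
  have ho := Nat.odd_iff.1 hodd
  rcases (show Fintype.card F % 4 = 1 ∨ Fintype.card F % 4 = 3 by omega) with h4 | h4
  · have hA : Nat.card Fˣ = Fintype.card F - 1 := Cfsg.Lib.TwoDim.card_split
    exact conv S ((Cfsg.Lib.TwoDim.isTorus_split (Cfsg.Lib.TwoDim.exists_reg_units (by omega))).sylow_two h22
      (by omega) (m := Fintype.card F + 1) (by omega) (by rw [hA]) hodd S) (Or.inl ⟨h4, hA⟩)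
  · obtain ⟨w, hw⟩ := Cfsg.Lib.TwoDim.exists_isTorus_nonsplit hodd
    have hA := Cfsg.Lib.TwoDim.card_normOne (F := F)
    exact conv S (hw.sylow_two h22 (by omega) (m := Fintype.card F - 1) (by omega)
      (by rw [hA, mul_comm]) hodd S) (Or.inr ⟨h4, hA⟩)

end Cfsg.Agent.S2431
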