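import Cfsg.Statements.S5658
import Cfsg.Agent.Lib.Linear.SubfieldHermStd

set_option autoImplicit false
open Cfsg

namespace Cfsg.Agent.S5658

open scoped Matrix
open Cfsg.Lib.Linear Cfsg.Lib.Linear.SubU Cfsg.Lib.Linear.Rat0

variable {F : Type*} [Field F] [Fintype F] {n q : ℕ}

theorem exists_rat_conj_ne (hF : Fintype.card F = q ^ 2) {F₀ : Subfield F} {r : ℕ} (hro : Odd r)
    (hcard : Fintype.card F = Nat.card F₀ ^ r) : ∃ x : F₀, (x : F) ^ q ≠ x := by
  obtain ⟨m, rfl⟩ := hro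
  by_contra hc
  push Not at hc
  have : Fintype F₀ := Fintype.ofFinite _
  rw [hF, Nat.card_eq_fintype_card] at hcard
  have hQ1 : 1 < Fintype.card F₀ := Fintype.one_lt_card
  set Q := Fintype.card F₀ with hQ
  have hd : Q ^ m ∣ q := by
    rw [← Nat.pow_dvd_pow_iff (n := 2) (by omega), hcard, ← pow_mul]
    exact pow_dvd_pow _ (by omega)
  obtain ⟨Q0, hq⟩ := hd
  have hQ0 : Q = Q0 ^ 2 := by
    have h : (Q ^ m) ^ 2 * Q = (Q ^ m) ^ 2 * Q0 ^ 2 := by
      rw [← mul_pow, ← hq, hcard]; ring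
    exact Nat.eq_of_mul_eq_mul_left (pow_pos (pow_pos (by omega) m) 2) h
  obtain ⟨g, hg⟩ := IsCyclic.exists_ofOrder_eq_natCard (α := F₀ˣ)
  have h1 : g ^ (Q0 - 1) = 1 := by
    have hpos : 0 < Q0 := Nat.pos_of_ne_zero fun h => by rw [h] at hQ0; omega
    have hfix : ((g : F₀) : F₀) ^ Q0 = (g : F₀) := by
      have h2 : (g : F₀) ^ q = (g : F₀) := Subtype.ext (by
        rw [SubmonoidClass.coe_pow]; exact hc _)
      rwa [hq, pow_mul, hQ, FiniteField.pow_card_pow] at h2
    refine mul_right_cancel (b := g) ?_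
    rw [← pow_succ, Nat.sub_add_cancel hpos, one_mul]
    exact Units.ext (by rw [Units.val_pow_eq_pow_val, hfix])
  have hQQ : Q0 < Q := by
    have hne : Q0 ≠ 1 := fun h => by rw [h] at hQ0; omega
    have hne0 : Q0 ≠ 0 := fun h => by rw [h] at hQ0; omega
    rw [hQ0, pow_two]
    exact lt_mul_left (by omega) (by omega)
  have hne : Q0 ≠ 1 := fun h => by rw [h] at hQ0; omega
  have hne0 : Q0 ≠ 0 := fun h => by rw [h] at hQ0; omega
  have h3 := orderOf_le_of_pow_eq_one (by omega) h1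
  rw [hg, Nat.card_units, Nat.card_eq_fintype_card, ← hQ] at h3
  omega

theorem subHyp (hF : Fintype.card F = q ^ 2) {F₀ : Subfield F} {z : F} {P : GL (Fin n) F}
    (hP : Cfsg.Geo.IsFormRationalStructure (Cfsg.hermForm n F q) F₀ z P) (hz : z + z ^ q = 0)
    (hz0 : z ≠ 0) (hzF : z ∈ F₀) {x₀ : F₀} (hx₀ : (x₀ : F) ^ q ≠ x₀) (hn : 4 ≤ n) :
    SubHyp (Herm.frob hF) F₀ (gram hP) := by
  set σ := Herm.frob hF
  set J := gram hP
  have hmem : ∀ x ∈ F₀, σ x ∈ F₀ := fun x hx => by rw [Herm.frob_apply]; exact F₀.pow_mem hx q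
  have hsk : ∀ u v, frm σ F₀ J v u = -σ (frm σ F₀ J u v) := skew_gram hF hP hz
  have hinv : ∀ x, σ (σ x) = x := Herm.frob_frob hF
  have hz' : σ z = -z := by rw [Herm.frob_apply]; exact eq_neg_of_add_eq_zero_right hz
  let σ₀ : F₀ →+* F₀ := σ.restrict F₀ F₀ hmem
  have hσ₀ : ∀ x : F₀, (σ₀ x : F) = σ x := fun x => rfl
  have hne₀ : σ₀ ≠ RingHom.id F₀ := fun h => hx₀ (by
    have h1 := congrArg Subtype.val (RingHom.congr_fun h x₀)
    rwa [hσ₀, RingHom.id_apply, Herm.frob_apply] at h1)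
  have hinv₀ : ∀ x, σ₀ (σ₀ x) = x := fun x => Subtype.ext (hinv _)
  have hJ := det_gram hF hP hz0
  have hfm : ∀ x y : Fin n → F₀, frm σ F₀ J (rv F₀ x) (rv F₀ y) ∈ F₀ := fun x y => by
    rw [frm, dotProduct]
    refine F₀.sum_mem fun j _ => F₀.mul_mem (x j).2 ?_
    rw [cov, Matrix.mulVec, dotProduct]
    exact F₀.sum_mem fun k _ => F₀.mul_mem (J j k).2 (hmem _ (y k).2)
  let g : (Fin n → F₀) → (Fin n → F₀) → F₀ := fun x y => ⟨_, F₀.mul_mem hzF (hfm y x)⟩
  have hg : ∀ x y, (g x y : F) = z * frm σ F₀ J (rv F₀ y) (rv F₀ x) := fun x y => rfl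
  let B : (Fin n → F₀) →ₛₗ[σ₀] (Fin n → F₀) →ₗ[F₀] F₀ :=
    LinearMap.mk₂'ₛₗ σ₀ (RingHom.id F₀) g
      (fun a b v => Subtype.ext (by simp [hg, rv_add, frm_add_right, mul_add]))
      (fun c a v => Subtype.ext (by simp [hg, hσ₀, rv_smul, frm_smul_right]; ring))
      (fun a u v => Subtype.ext (by simp [hg, rv_add, frm_add_left, mul_add]))
      (fun c a v => Subtype.ext (by simp [hg, rv_smul, frm_smul_left]; ring))
  have hB : ∀ u v, (B u v : F) = z * frm σ F₀ J (rv F₀ v) (rv F₀ u) := fun u v => rfl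
  have hB0 : ∀ u v, B u v = 0 → PerpR σ F₀ J v u := fun u v h =>
    (mul_eq_zero.mp ((hB u v).symm.trans (congrArg Subtype.val h))).resolve_left hz0
  have hS : B.IsSymm := ⟨fun u v => Subtype.ext (by
    rw [hσ₀, hB, hB, map_mul, hz', hsk (rv F₀ v) (rv F₀ u)]
    ring)⟩
  have hBn : B.Nondegenerate := by
    have hright : ∀ v, (∀ u, B u v = 0) → v = 0 := fun v hv => funext fun i => by
      obtain ⟨p, hp⟩ : ∃ p : Fin n → F₀, ∀ w : Fin n → F₀,
          frm σ F₀ J (rv F₀ w) (rv F₀ p) = w i := by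
        refine ⟨fun k => σ₀ ((J⁻¹ *ᵥ Pi.single i 1) k), fun w => ?_⟩
        rw [frm, cov]
        simp only [rv, hσ₀, hinv]
        show rv F₀ w ⬝ᵥ (J.map F₀.subtype *ᵥ rv F₀ (J⁻¹ *ᵥ Pi.single i 1)) = _
        have h1 : J.map F₀.subtype *ᵥ rv F₀ (J⁻¹ *ᵥ Pi.single i 1) =
            rv F₀ (J *ᵥ (J⁻¹ *ᵥ Pi.single i 1)) :=
          funext fun k => (RingHom.map_mulVec F₀.subtype J _ k).symm
        rw [h1, Matrix.mulVec_mulVec, Matrix.mul_nonsing_inv _ (isUnit_iff_ne_zero.mpr hJ),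
          Matrix.one_mulVec, rv_dot, dotProduct_single, mul_one]
      have h := hB0 p v (hv p)
      rw [PerpR, hp] at h
      exact Subtype.ext h
    exact ⟨fun u hu => hright u fun w => hS.isRefl _ _ (hu w), hright⟩
  refine { inv := hinv, ne := Herm.frob_ne_id hF, mem := hmem, det := hJ, skew := hsk,
           htr := fun x => ?_, span1 := ?_, span2 := ?_, iso2 := ?_, card := by rw [Fintype.card_fin]; exact hn }
  · obtain ⟨t, ht⟩ := Herm.exists_trace_eq hne₀ hinv₀ (a := 1) (map_one σ₀)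
    refine ⟨⟨_, hfm x x⟩ * t, ?_⟩
    have h1 : (t : F) + σ t = 1 := congrArg Subtype.val ht
    have hs := hsk (rv F₀ x) (rv F₀ x)
    simp only [MulMemClass.coe_mul, map_mul]
    linear_combination (frm σ F₀ J (rv F₀ x) (rv F₀ x)) * h1 - (σ (t : F)) * hs
  · intro x a ha
    let Φ : (Fin n → F₀) →ₗ[F₀] (Fin 1 → F₀) := LinearMap.pi fun i => B (![a] i)
    have hrange : Module.finrank F₀ (LinearMap.range Φ) ≤ 1 := by
      simpa using Submodule.finrank_le (LinearMap.range Φ)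
    have h1 := LinearMap.finrank_range_add_finrank_ker Φ
    rw [Module.finrank_fin_fun] at h1
    have hperp : ∀ w, w ∈ LinearMap.ker Φ → PerpR σ F₀ J w a := fun w hw => by
      have h := LinearMap.mem_ker.mp hw
      exact hB0 _ _ (congrFun h 0)
    have hB' : ∀ u, PerpR σ F₀ J x u → B u x = 0 := fun u h => Subtype.ext (by
      rw [hB, show frm σ F₀ J (rv F₀ x) (rv F₀ u) = 0 from h, mul_zero]; rfl)
    have hx : x ∈ LinearMap.ker Φ := LinearMap.mem_ker.mpr (funext fun i => by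
      fin_cases i
      exact hB' a ha)
    have hsp := Herm.iso_span hne₀ hinv₀ hS hBn (LinearMap.ker Φ)
      (by rw [Module.finrank_fin_fun]; omega) hx
    have key : ∀ t : F₀, t • x ∈ AddSubgroup.closure {w | IsoR σ F₀ J w ∧ PerpR σ F₀ J w a} := by
      clear h1 hrange hx ha hB'
      induction hsp using Submodule.span_induction with
      | mem w hw =>
        intro t
        have p1 := hperp _ ((LinearMap.ker Φ).smul_mem t hw.1)
        exact AddSubgroup.subset_closure ⟨(hB0 w w hw.2).trans rfl |> IsoR.smul t, p1⟩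
      | zero => intro t; rw [smul_zero]; exact zero_mem _
      | add u v _ _ hu hv => intro t; rw [smul_add]; exact add_mem (hu t) (hv t)
      | smul s u _ hu => intro t; rw [smul_smul]; exact hu _
    simpa using key 1
  · intro hn6 x a b ha hb
    rw [Fintype.card_fin] at hn6
    let Φ : (Fin n → F₀) →ₗ[F₀] (Fin 2 → F₀) := LinearMap.pi fun i => B (![a, b] i)
    have hrange : Module.finrank F₀ (LinearMap.range Φ) ≤ 2 := by
      simpa using Submodule.finrank_le (LinearMap.range Φ)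
    have h1 := LinearMap.finrank_range_add_finrank_ker Φ
    rw [Module.finrank_fin_fun] at h1
    have hperp : ∀ w, w ∈ LinearMap.ker Φ → PerpR σ F₀ J w a ∧ PerpR σ F₀ J w b := fun w hw => by
      have h := LinearMap.mem_ker.mp hw
      exact ⟨hB0 _ _ (congrFun h 0), hB0 _ _ (congrFun h 1)⟩
    have hB' : ∀ u, PerpR σ F₀ J x u → B u x = 0 := fun u h => Subtype.ext (by
      rw [hB, show frm σ F₀ J (rv F₀ x) (rv F₀ u) = 0 from h, mul_zero]; rfl)
    have hx : x ∈ LinearMap.ker Φ := LinearMap.mem_ker.mpr (funext fun i => by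
      fin_cases i
      exacts [hB' a ha, hB' b hb])
    have hsp := Herm.iso_span hne₀ hinv₀ hS hBn (LinearMap.ker Φ)
      (by rw [Module.finrank_fin_fun]; omega) hx
    have key : ∀ t : F₀, t • x ∈ AddSubgroup.closure {w | IsoR σ F₀ J w ∧ PerpR σ F₀ J w a ∧
        PerpR σ F₀ J w b} := by
      clear h1 hrange hx ha hb hB'
      induction hsp using Submodule.span_induction with
      | mem w hw =>
        intro t
        obtain ⟨p1, p2⟩ := hperp _ ((LinearMap.ker Φ).smul_mem t hw.1)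
        exact AddSubgroup.subset_closure ⟨(hB0 w w hw.2).trans rfl |> IsoR.smul t, p1, p2⟩
      | zero => intro t; rw [smul_zero]; exact zero_mem _
      | add u v _ _ hu hv => intro t; rw [smul_add]; exact add_mem (hu t) (hv t)
      | smul s u _ hu => intro t; rw [smul_smul]; exact hu _
    simpa using key 1
  · intro c w hc hw
    have hli : LinearIndependent F₀ ![c, w] :=
      (LinearIndependent.pair_iff' hc).mpr fun t e => hw t e.symm
    have h2 : Module.finrank F₀ (Submodule.span F₀ (Set.range ![c, w])) = 2 := by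
      rw [finrank_span_eq_card hli, Fintype.card_fin]
    obtain ⟨v, hv, hv0, hvv⟩ := Herm.exists_iso_ne_zero hne₀ hinv₀ hS _ h2.ge
    rw [Matrix.range_cons, Matrix.range_cons, Matrix.range_empty, Set.union_empty,
      Set.singleton_union, Submodule.mem_span_pair] at hv
    obtain ⟨s, t, rfl⟩ := hv
    exact ⟨s, t, hv0, hB0 _ _ hvv⟩

/-- The same from dimension twelve on. -/
theorem main {F : Type*} [Field F] [Fintype F] (n q : ℕ) (hF : Fintype.card F = q ^ 2) (hn : 6 ≤ n) (F₀ : Subfield F) (r : ℕ) (hr : r.Prime) (hro : Odd r) (hcard : Fintype.card F = Nat.card F₀ ^ r) (P : Matrix.GeneralLinearGroup (Fin n) F) (hP : Cfsg.Geo.IsFormRationalStructure (Cfsg.hermForm n F q) F₀ 1 P) : Cfsg.Geo.IsMaximalIn (Cfsg.GU n F q ⊓ Cfsg.Geo.specialLinear (Fin n) F) (Cfsg.Geo.subfieldSubgroup F₀ P ⊓ (Cfsg.GU n F q ⊓ Cfsg.Geo.specialLinear (Fin n) F)) := by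
  obtain ⟨x, hx⟩ := exists_rat_conj_ne hF hro hcard
  have hz : ((x : F) - (x : F) ^ q) + ((x : F) - (x : F) ^ q) ^ q = 0 := by
    rw [← Herm.frob_apply hF, ← Herm.frob_apply hF, map_sub, Herm.frob_frob]
    ring
  have hz0 : (x : F) - (x : F) ^ q ≠ 0 := sub_ne_zero.mpr hx.symm
  have hzF : (x : F) - (x : F) ^ q ∈ F₀ := F₀.sub_mem x.2 (F₀.pow_mem x.2 q)
  have hP' : Cfsg.Geo.IsFormRationalStructure (Cfsg.hermForm n F q) F₀
      ((x : F) - (x : F) ^ q) P := fun u v hu hv => by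
    have := hP u v hu hv
    rw [one_mul] at this
    exact F₀.mul_mem hzF this
  exact maximal_std hF hP' hn hz0 (subHyp hF hP' hz hz0 hzF hx (by omega)) hr hcard

/-- Let F be the field with q² elements, n ≥ 13, and F₀ a subfield with |F| = |F₀| ^ r for an odd prime r. Let P be an invertible matrix such that the standard unitary form takes values in F₀ on the F₀-span of the columns of P. Then the elements of SU_n(q) lying in the subfield group of P (the conjugate by P of the product of GL_n(F₀) with the scalars) form a maximal subgroup of SU_n(q). -/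
theorem result {F : Type*} [Field F] [Fintype F] (n q : ℕ) (hF : Fintype.card F = q ^ 2) (hn : 13 ≤ n) (F₀ : Subfield F) (r : ℕ) (hr : r.Prime) (hro : Odd r) (hcard : Fintype.card F = Nat.card F₀ ^ r) (P : Matrix.GeneralLinearGroup (Fin n) F) (hP : Cfsg.Geo.IsFormRationalStructure (Cfsg.hermForm n F q) F₀ 1 P) : Cfsg.Geo.IsMaximalIn (Cfsg.GU n F q ⊓ Cfsg.Geo.specialLinear (Fin n) F) (Cfsg.Geo.subfieldSubgroup F₀ P ⊓ (Cfsg.GU n F q ⊓ Cfsg.Geo.specialLinear (Fin n) F)) := by
  exact main n q hF (by omega) F₀ r hr hro hcard P hP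

end Cfsg.Agent.S5658
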