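import Cfsg.Statements.S2286
import Cfsg.Agent.Lib.Linear.ShortPres.SLTwoMain
-- import your own Cfsg.Agent.* helpers here

set_option autoImplicit false
open Cfsg

namespace Cfsg.Agent.S2286

/-- For every finite field F, SL_2(F) and PSL_2(F) have presentations with 3 generators and at most 9 relations; when F has characteristic 2, PSL_2(F) has a presentation with 3 generators and at most 5 relations. -/
theorem result {F : Type*} [Field F] [Fintype F] :
    (∃ rels : Finset (FreeGroup (Fin 3)), rels.card ≤ 9 ∧ Nonempty (PresentedGroup (↑rels : Set (FreeGroup (Fin 3))) ≃* Matrix.SpecialLinearGroup (Fin 2) F)) ∧ (∃ rels : Finset (FreeGroup (Fin 3)), rels.card ≤ 9 ∧ Nonempty (PresentedGroup (↑rels : Set (FreeGroup (Fin 3))) ≃* Matrix.ProjectiveSpecialLinearGroup (Fin 2) F)) ∧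
    (CharP F 2 → ∃ rels : Finset (FreeGroup (Fin 3)), rels.card ≤ 5 ∧ Nonempty (PresentedGroup (↑rels : Set (FreeGroup (Fin 3))) ≃* Matrix.ProjectiveSpecialLinearGroup (Fin 2) F)) := by
  classical
  obtain ⟨p, hp⟩ := CharP.exists F
  haveI := hp
  haveI : Fact p.Prime := ⟨CharP.char_is_prime F p⟩
  have key : CharP F 2 → ∃ rels : Finset (FreeGroup (Fin 3)), rels.card ≤ 5 ∧
      Nonempty (PresentedGroup (↑rels : Set (FreeGroup (Fin 3))) ≃* Matrix.ProjectiveSpecialLinearGroup (Fin 2) F) := by
    intro h2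
    haveI := h2
    obtain ⟨rels, hc, ⟨e⟩⟩ := Cfsg.Lib.Linear.ShortPres.present_char_two (F := F)
    have hinj : Function.Injective (QuotientGroup.mk' (Subgroup.center (Matrix.SpecialLinearGroup (Fin 2) F))) := by
      refine (MonoidHom.ker_eq_bot_iff _).1 ?_
      rw [QuotientGroup.ker_mk', eq_bot_iff]
      intro x hx
      obtain ⟨r, hr, hrx⟩ := Matrix.SpecialLinearGroup.mem_center_iff.1 hx
      have hr2 : r = 1 := by
        rw [Fintype.card_fin, pow_two] at hr
        rcases mul_self_eq_one_iff.1 hr with h | h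
        · exact h
        · rwa [CharTwo.neg_eq] at h
      rw [hr2, map_one] at hrx
      exact Subgroup.mem_bot.2 (Subtype.ext hrx.symm)
    exact ⟨rels, hc, ⟨e.trans (MulEquiv.ofBijective _ ⟨hinj, QuotientGroup.mk'_surjective _⟩)⟩⟩
  refine ⟨?_, ?_, key⟩
  · rcases eq_or_ne p 2 with rfl | hne
    · obtain ⟨rels, hc, he⟩ := Cfsg.Lib.Linear.ShortPres.present_char_two (F := F)
      exact ⟨rels, hc.trans (by norm_num), he⟩
    · exact Cfsg.Lib.Linear.ShortPres.present_SL_odd (F := F) hne
  · rcases eq_or_ne p 2 with rfl | hne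
    · obtain ⟨rels, hc, he⟩ := key hp
      exact ⟨rels, hc.trans (by norm_num), he⟩
    · exact Cfsg.Lib.Linear.ShortPres.present_PSL_odd (F := F) hne

end Cfsg.Agent.S2286

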