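import Cfsg.Statements.S2278
import Cfsg.Agent.Lib.Linear.MinIndexPSL

set_option linter.style.haveILetI false

set_option autoImplicit false
open Cfsg

namespace Cfsg.Agent.S2278

open Matrix Cfsg.Lib.Linear Cfsg.Lib.Linear.TVec Cfsg.Lib.Linear.AutPSL Cfsg.Lib.Linear.MinIndex
open scoped MatrixGroups

variable {F : Type*} [Field F]

/-- The companion element. -/
def uM (F : Type*) [Field F] : Matrix (Fin 3) (Fin 3) F := !![0, 0, 1; 1, 0, -3; 0, 1, 3]

/-- The conjugating element. -/
def gM (l a c : F) : Matrix (Fin 3) (Fin 3) F := !![1, 0, 0; 0, l, l * a; 0, 0, l * c]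

/-- The product `u⁻¹ (g u g⁻¹)`. -/
def hM (l a c d b : F) : Matrix (Fin 3) (Fin 3) F := !![l, a, 3 * l + b; 0, c, d - 3 * l; 0, 0, l]

theorem two_generated [Fintype F] (l a c d b s : F) (hc : c * (l * l) = 1) (hd : d = 3 - a)
    (hb : b = l * l * (a * d - 3)) (he : l * l * l = 1 ∨ l * l * l = -1) (n : ℕ)
    (hseed : hM l a c d b ^ n = tvMat (s • ![1, 0, 0]) ![0, 0, 1])
    (hgen : ∀ K : Subfield F, l⁻¹ * a * s ∈ K → l⁻¹ * a * (s * s * (s * s)) ∈ K → K = ⊤)
    (hs : s ≠ 0) (ha : a ≠ 0) :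
    ∃ u g : SpecialLinearGroup (Fin 3) F, IsNilpotent ((u : Matrix (Fin 3) (Fin 3) F) - 1) ∧
      ((u : Matrix (Fin 3) (Fin 3) F) - 1) ^ (3 - 1) ≠ 0 ∧
      Subgroup.closure ({u, g * u * g⁻¹} : Set (SpecialLinearGroup (Fin 3) F)) = ⊤ := by
  have hl : l ≠ 0 := fun h => by simp [h] at hc
  let u : SpecialLinearGroup (Fin 3) F := ⟨uM F, by simp [uM, det_fin_three]⟩
  let g : SpecialLinearGroup (Fin 3) F := ⟨gM l a c, by
    simp [gM, det_fin_three]; linear_combination hc⟩
  let h : SpecialLinearGroup (Fin 3) F := ⟨hM l a c d b, by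
    simp [hM, det_fin_three]; linear_combination hc⟩
  refine ⟨u, g, ?_, ?_, ?_⟩
  · refine ⟨3, ?_⟩
    show (uM F - 1) ^ 3 = 0
    rw [pow_succ, pow_succ, pow_one]
    ext i j
    fin_cases i <;> fin_cases j <;> simp [uM, Matrix.mul_apply, Fin.sum_univ_three] <;> ring
  · show (uM F - 1) ^ (3 - 1) ≠ 0
    intro h0
    have := congrFun (congrFun h0 2) 0
    simp [uM, pow_two, Matrix.mul_apply, Fin.sum_univ_three] at this
  set P := Subgroup.closure ({u, g * u * g⁻¹} : Set (SpecialLinearGroup (Fin 3) F))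
  set L := P.map SpecialLinearGroup.toGL
  have huP : u ∈ P := Subgroup.subset_closure (by simp)
  have hvP : g * u * g⁻¹ ∈ P := Subgroup.subset_closure (by simp)
  have hkey : u * h * g = g * u := by
    refine Subtype.ext ?_
    show uM F * hM l a c d b * gM l a c = gM l a c * uM F
    ext i j
    fin_cases i <;> fin_cases j <;>
      simp [uM, hM, gM, Matrix.mul_apply, Fin.sum_univ_three] <;>
      first
        | ring1
        | linear_combination hc
        | (subst hd hb; linear_combination (l * (a * (3 - a) - 3)) * hc)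
        | (subst hd hb; ring1)
        | grind
  have hhP : h ∈ P := by
    have e : h = u⁻¹ * (g * u * g⁻¹) := by rw [← hkey]; group
    rw [e]
    exact P.mul_mem (P.inv_mem huP) hvP
  have conj : ∀ x ∈ P, ∀ {z z' p q : Fin 3 → F}, TVec.InT L z p → x.1 *ᵥ z = z' → q ᵥ* x.1 = p → TVec.InT L z' q := by
    intro x hx z z' p q hT h1 h2
    have h3 := inT_conj (g := SpecialLinearGroup.toGL x) (Subgroup.mem_map_of_mem _ hx) hT
    have e1 : ((SpecialLinearGroup.toGL x : GL (Fin 3) F) : Matrix (Fin 3) (Fin 3) F) = x.1 := rfl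
    rw [e1, h1, ← h2] at h3
    have e2 : q ᵥ* x.1 ᵥ* (((SpecialLinearGroup.toGL x)⁻¹ : GL (Fin 3) F) : Matrix (Fin 3) (Fin 3) F) = q := by
      rw [vecMul_vecMul, ← e1, ← Units.val_mul, mul_inv_cancel, Units.val_one, vecMul_one]
    rwa [e2] at h3
  let Z : F → Prop := fun x => TVec.InT L (x • ![1, 0, 0]) ![0, 0, 1]
  let W : F → Prop := fun x => TVec.InT L (x • ![0, 1, 0]) ![0, 0, 1]
  have hneg : ∀ {z p : Fin 3 → F}, TVec.InT L z p → TVec.InT L (-z) p := by
    intro z p hT
    have h2 := inT_smul_left (c := (-1 : F)) (L := L) (z := z) (a := p) (by rw [neg_smul, one_smul]; exact inT_neg hT)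
    rwa [neg_smul, one_smul] at h2
  have hZu : ∀ {x}, Z x → TVec.InT L (x • ![0, 1, 0]) ![1, 0, 0] := by
    intro x hx
    exact conj u huP hx (by ext i; fin_cases i <;> simp [u, uM, mulVec, dotProduct, Fin.sum_univ_three])
      (by ext i; fin_cases i <;> simp [u, uM, vecMul, dotProduct, Fin.sum_univ_three])
  have hWu : ∀ {x}, W x → TVec.InT L (x • ![0, 0, 1]) ![1, 0, 0] := by
    intro x hx
    exact conj u huP hx (by ext i; fin_cases i <;> simp [u, uM, mulVec, dotProduct, Fin.sum_univ_three])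
      (by ext i; fin_cases i <;> simp [u, uM, vecMul, dotProduct, Fin.sum_univ_three])
  have hZZ : ∀ {x y}, Z x → Z y → W (y * x) := by
    intro x y hx hy
    have h1 := inT_comm (hZu hx) hy (by simp [dotProduct, Fin.sum_univ_three])
    have h2 := inT_smul_left h1
    rw [smul_smul] at h2
    simpa [W, dotProduct, Fin.sum_univ_three] using h2
  have hWW : ∀ {x y}, W x → W y → Z (y * x) := by
    intro x y hx hy
    have h1 := inT_comm hx (hWu hy) (by simp [dotProduct, Fin.sum_univ_three])
    have h2 := inT_smul_left h1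
    rw [smul_smul] at h2
    refine conj u⁻¹ (P.inv_mem huP) h2 ?_ ?_
    · have e : (u⁻¹).1 *ᵥ ((y * x) • ![0, 1, 0] : Fin 3 → F) = (y * x) • ![1, 0, 0] := by
        conv_rhs => rw [← inv_mulVec u ((y * x) • ![1, 0, 0] : Fin 3 → F)]
        congr 1
        ext i; fin_cases i <;> simp [u, uM, mulVec, dotProduct, Fin.sum_univ_three]
      simpa [dotProduct, Fin.sum_univ_three] using e
    · have e : (![1, 0, 0] : Fin 3 → F) ᵥ* u.1 = ![0, 0, 1] := by
        ext i; fin_cases i <;> simp [u, uM, vecMul, dotProduct, Fin.sum_univ_three]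
      rw [← e, vecMul_vecMul]
      have e0 : u.1 * (u⁻¹).1 = 1 := congrArg Subtype.val (mul_inv_cancel u)
      rw [e0, vecMul_one]
  have hWh : ∀ {x}, W x → Z (l⁻¹ * a * x) := by
    intro x hx
    have h1 : TVec.InT L (x • ![a, c, 0]) (l⁻¹ • ![0, 0, 1]) := by
      refine conj h hhP hx ?_ ?_
      · ext i; fin_cases i <;> simp [h, hM, mulVec, dotProduct, Fin.sum_univ_three] <;> ring
      · ext i; fin_cases i <;> simp [h, hM, vecMul, dotProduct, Fin.sum_univ_three, hl]
    have h2 := inT_smul_left h1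
    rw [smul_smul] at h2
    have hlc : l⁻¹ * c = 1 ∨ l⁻¹ * c = -1 := by
      rcases he with e | e
      · left; field_simp; linear_combination hc * l - c * e
      · right; field_simp; linear_combination -hc * l + c * e
    rcases hlc with e | e
    · have h3 := inT_add_left h2 (hneg hx)
      convert h3 using 1
      ext i; fin_cases i <;> simp
      · ring
      · linear_combination -x * e
    · have h3 := inT_add_left h2 hx
      convert h3 using 1
      ext i; fin_cases i <;> simp
      · ring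
      · linear_combination -x * e
  have hs' : Z s := by
    have hperp : (![0, 0, 1] : Fin 3 → F) ⬝ᵥ (s • ![1, 0, 0]) = 0 := by simp [dotProduct, Fin.sum_univ_three]
    refine ⟨hperp, ?_⟩
    have hpow : SpecialLinearGroup.toGL (h ^ n) ∈ L := Subgroup.mem_map_of_mem _ (P.pow_mem hhP n)
    convert hpow using 1
    refine Units.ext ?_
    rw [coe_tv, ← hseed]
    exact (map_pow ({ toFun := fun x => x.1, map_one' := rfl, map_mul' := fun _ _ => rfl } : SpecialLinearGroup (Fin 3) F →* Matrix (Fin 3) (Fin 3) F) h n).symm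
  set m := l⁻¹ * a with hm
  have hm0 : m ≠ 0 := mul_ne_zero (inv_ne_zero hl) ha
  have hZm : ∀ {x y}, Z x → Z y → Z (m * (y * x)) := fun hx hy => hWh (hZZ hx hy)
  have hZadd : ∀ {x y}, Z x → Z y → Z (x + y) := fun {x y} hx hy => by
    have := inT_add_left hx hy
    rwa [← add_smul] at this
  have hZneg : ∀ {x}, Z x → Z (-x) := fun {x} hx => by
    show TVec.InT L _ _
    rw [neg_smul]; exact hneg hx
  have hZ0 : Z 0 := by show TVec.InT L _ _; rw [zero_smul]; exact inT_zero_left _
  have hs4 : Z (s * s * (s * s)) := hWW (hZZ hs' hs') (hZZ hs' hs')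
  -- the multiples form a subfield
  have hone : ∃ y, Z y ∧ (1 : F) = m * y := by
    have hp : ∀ k : ℕ, ∃ y, Z y ∧ (m * s) ^ (k + 1) = m * y := by
      intro k
      induction k with
      | zero => exact ⟨s, hs', by ring⟩
      | succ k ih =>
        obtain ⟨y, hy, e⟩ := ih
        exact ⟨m * (s * y), hZm hy hs', by rw [pow_succ, e]; ring⟩
    obtain ⟨y, hy, e⟩ := hp (Fintype.card F - 2)
    refine ⟨y, hy, ?_⟩
    rw [← e, show Fintype.card F - 2 + 1 = Fintype.card F - 1 by have := Fintype.one_lt_card (α := F); omega,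
      FiniteField.pow_card_sub_one_eq_one _ (mul_ne_zero hm0 hs)]
  let R : Subring F :=
    { carrier := {r | ∃ y, Z y ∧ r = m * y}
      zero_mem' := ⟨0, hZ0, by simp⟩
      one_mem' := hone
      add_mem' := by
        rintro _ _ ⟨x, hx, rfl⟩ ⟨y, hy, rfl⟩
        exact ⟨x + y, hZadd hx hy, by ring⟩
      neg_mem' := by
        rintro _ ⟨x, hx, rfl⟩
        exact ⟨-x, hZneg hx, by ring⟩
      mul_mem' := by
        rintro _ _ ⟨x, hx, rfl⟩ ⟨y, hy, rfl⟩
        exact ⟨m * (x * y), hZm hy hx, by ring⟩ }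
  let K : Subfield F :=
    { R with
      inv_mem' := fun x hx => by
        rcases eq_or_ne x 0 with rfl | hx0
        · rw [_root_.inv_zero]; exact R.zero_mem
        · have e : x⁻¹ = x ^ (Fintype.card F - 2) := by
            refine inv_eq_of_mul_eq_one_right ?_
            rw [← pow_succ', show Fintype.card F - 2 + 1 = Fintype.card F - 1 by
              have := Fintype.one_lt_card (α := F); omega, FiniteField.pow_card_sub_one_eq_one _ hx0]
          rw [e]; exact R.pow_mem hx _ }
  have hK : K = ⊤ := hgen K ⟨s, hs', rfl⟩ ⟨_, hs4, rfl⟩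
  have hallZ : ∀ x, Z x := by
    intro x
    have : m * x ∈ K := by rw [hK]; trivial
    obtain ⟨y, hy, e⟩ := this
    rwa [mul_left_cancel₀ hm0 e]
  have hallW : ∀ x, W x := fun x => by
    have := hZZ (hallZ x) (hallZ 1)
    rwa [one_mul] at this
  have hfull1 : TVec.Full L (![0, 1, 0] : Fin 3 → F) := by
    intro p hp
    have e1 : p 1 = 0 := by simpa [dotProduct, Fin.sum_univ_three] using hp
    have e : p = p 2 • (![0, 0, 1] : Fin 3 → F) + p 0 • ![1, 0, 0] := by
      ext i; fin_cases i <;> simp [e1]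
    rw [e]
    exact inT_add_right (inT_smul_right (hallW (p 2))) (inT_smul_right (hZu (hallZ (p 0))))
  have hW : fullSubmodule L = ⊤ := by
    have hmul : ∀ x ∈ P, ∀ w, w ∈ fullSubmodule L → x.1 *ᵥ w ∈ fullSubmodule L := fun x hx w hw =>
      mem_fullSubmodule.2 (full_mulVec (g := SpecialLinearGroup.toGL x) (Subgroup.mem_map_of_mem _ hx)
        (mem_fullSubmodule.1 hw))
    have m1 : (![0, 1, 0] : Fin 3 → F) ∈ fullSubmodule L := mem_fullSubmodule.2 hfull1
    have m2 : (![0, 0, 1] : Fin 3 → F) ∈ fullSubmodule L := by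
      convert hmul u huP _ m1 using 1
      ext i; fin_cases i <;> simp [u, uM, mulVec, dotProduct, Fin.sum_univ_three]
    have m0 : (![1, 0, 0] : Fin 3 → F) ∈ fullSubmodule L := by
      convert hmul u⁻¹ (P.inv_mem huP) _ m1 using 1
      conv_lhs => rw [← inv_mulVec u (![1, 0, 0] : Fin 3 → F)]
      congr 1
      ext i; fin_cases i <;> simp [u, uM, mulVec, dotProduct, Fin.sum_univ_three]
    refine eq_top_iff.2 fun z _ => ?_
    have e : z = z 0 • (![1, 0, 0] : Fin 3 → F) + z 1 • ![0, 1, 0] + z 2 • ![0, 0, 1] := by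
      ext i; fin_cases i <;> simp
    rw [e]
    exact Submodule.add_mem _ (Submodule.add_mem _ (Submodule.smul_mem _ _ m0) (Submodule.smul_mem _ _ m1))
      (Submodule.smul_mem _ _ m2)
  refine eq_top_iff.2 fun x _ => ?_
  have hx : SpecialLinearGroup.toGL x ∈ L :=
    SL_le_of_full (fun w => mem_fullSubmodule.1 (hW ▸ Submodule.mem_top)) (Units.ext (by simp))
  obtain ⟨y, hy, hxy⟩ := hx
  exact toGL_injective' hxy ▸ hy

theorem card_proper [Fintype F] (K : Subfield F) (hK : K ≠ ⊤) :
    ∃ k : ℕ, 2 ≤ k ∧ k * k ≤ Fintype.card F ∧ (∀ x ∈ K, x ^ k = x) ∧ ∃ d : ℕ, 2 ≤ d ∧ Fintype.card F = k ^ d := by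
  classical
  have hd := Module.card_eq_pow_finrank (K := K) (V := F)
  set k := Fintype.card K with hk
  set d := Module.finrank K F
  have hk2 : 2 ≤ k := Fintype.one_lt_card
  have hkq : k < Fintype.card F := by
    refine lt_of_le_of_ne (Fintype.card_subtype_le _) fun e => hK ?_
    refine eq_top_iff.2 fun x _ => ?_
    by_contra hx
    exact absurd e (Fintype.card_subtype_lt (p := (· ∈ K)) hx).ne
  have hd2 : 2 ≤ d := by
    rcases Nat.lt_or_ge d 2 with h | h
    · interval_cases d <;> simp_all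
    · exact h
  refine ⟨k, hk2, ?_, fun x hx => ?_, d, hd2, hd⟩
  · rw [hd, ← pow_two]
    exact Nat.pow_le_pow_right (by omega) hd2
  · exact congrArg Subtype.val (FiniteField.pow_card (⟨x, hx⟩ : K))

theorem two_generated_neg [Fintype F] (a : F) (ha : a ≠ 0) (hs : a * a + 12 ≠ 0)
    (hgen : ∀ K : Subfield F, a ^ 3 ∈ K → K = ⊤) :
    ∃ u g : SpecialLinearGroup (Fin 3) F, IsNilpotent ((u : Matrix (Fin 3) (Fin 3) F) - 1) ∧
      ((u : Matrix (Fin 3) (Fin 3) F) - 1) ^ (3 - 1) ≠ 0 ∧
      Subgroup.closure ({u, g * u * g⁻¹} : Set (SpecialLinearGroup (Fin 3) F)) = ⊤ := by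
  refine two_generated (-1) a 1 (3 - a) (a * (3 - a) - 3) (a * a + 12) (by ring) rfl (by ring)
    (Or.inr (by ring)) 2 ?_ ?_ hs ha
  · rw [pow_two]
    ext i j
    fin_cases i <;> fin_cases j <;> simp [hM, tvMat, vecMulVec_apply, Matrix.mul_apply, Fin.sum_univ_three] <;> ring
  · intro K h1 h4
    refine hgen K ?_
    set s := a * a + 12
    set m := (-1 : F)⁻¹ * a
    have hm : m = -a := by simp [m]
    have h3 := K.div_mem h4 h1
    have h5 := K.div_mem (K.pow_mem h1 3) h3
    have e : -((m * s) ^ 3 / (m * (s * s * (s * s)) / (m * s))) = a ^ 3 := by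
      rw [hm]
      field_simp
    exact e ▸ K.neg_mem h5

/-- Let F be a finite field. Then SL_3(F) is generated by two conjugate regular unipotent elements: there are u with u − 1 nilpotent and (u − 1)² ≠ 0, and g, such that u and g u g⁻¹ generate SL_3(F). -/
theorem result {F : Type*} [Field F] [Fintype F] :
    ∃ u g : Matrix.SpecialLinearGroup (Fin 3) F, IsNilpotent ((u : Matrix (Fin 3) (Fin 3) F) - 1) ∧ ((u : Matrix (Fin 3) (Fin 3) F) - 1) ^ (3 - 1) ≠ 0 ∧
      Subgroup.closure ({u, g * u * g⁻¹} : Set (Matrix.SpecialLinearGroup (Fin 3) F)) = ⊤ := by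
  classical
  set q := Fintype.card F with hq
  have hq2 : 2 ≤ q := Fintype.one_lt_card
  by_cases h4 : q = 4
  · have h20 : (2 : F) = 0 := by
      have h0 : ((q : ℕ) : F) = 0 := Nat.cast_card_eq_zero F
      rw [h4] at h0
      have : (2 : F) * 2 = 0 := by rw [← h0]; norm_num
      simpa using this
    obtain ⟨w, hw0, hw1⟩ : ∃ w : F, w ≠ 0 ∧ w ≠ 1 := by
      obtain ⟨w, hw, hw'⟩ : ∃ w ∈ (Finset.univ : Finset F), w ∉ ({0, 1} : Finset F) :=
        Finset.exists_mem_notMem_of_card_lt_card (lt_of_le_of_lt Finset.card_le_two (by rw [Finset.card_univ]; omega))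
      exact ⟨w, by rintro rfl; simp at hw', by rintro rfl; simp at hw'⟩
    have hw3 : w ^ 3 = 1 := by
      have := FiniteField.pow_card_sub_one_eq_one w hw0
      rwa [← hq, h4] at this
    have hww : w * w + w + 1 = 0 := by
      have : (w - 1) * (w * w + w + 1) = 0 := by linear_combination hw3
      exact (mul_eq_zero.1 this).resolve_left (sub_ne_zero.2 hw1)
    refine two_generated w 1 w (3 - 1) (w * w * (1 * (3 - 1) - 3)) (w * w) (by linear_combination hw3) rfl rfl
      (Or.inl (by linear_combination hw3)) 6 ?_ ?_ (mul_ne_zero hw0 hw0) one_ne_zero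
    · have e2 : hM w 1 w (3 - 1) (w * w * (1 * (3 - 1) - 3)) ^ 2 =
          (w * w) • tvMat ((w * w) • ![1, 0, 0]) ![0, 0, 1] := by
        rw [pow_two]
        ext i j
        fin_cases i <;> fin_cases j <;>
          simp [hM, tvMat, vecMulVec_apply, Matrix.mul_apply, Fin.sum_univ_three] <;>
          first
            | ring1
            | grind
      rw [show (6 : ℕ) = 2 * 3 from rfl, pow_mul, e2, smul_pow, show (w * w) ^ 3 = 1 by
        rw [mul_pow, hw3, one_mul], one_smul]
      ext i j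
      fin_cases i <;> fin_cases j <;>
        simp [pow_succ, tvMat, vecMulVec_apply, Matrix.mul_apply, Fin.sum_univ_three] <;>
        grind
    · intro K h1 _
      by_contra hK
      obtain ⟨k, hk2, hkk, hfix, -⟩ := card_proper K hK
      have hk : k = 2 := by nlinarith
      have := hfix _ h1
      subst hk
      have e : w⁻¹ * 1 * (w * w) = w := by field_simp
      rw [e, pow_two] at this
      exact hw1 (mul_left_cancel₀ hw0 (by rw [this, mul_one]))
  by_cases hsmall : q - 1 ∣ 4
  · have hq5 : q ≤ 5 := by have := Nat.le_of_dvd (by norm_num) hsmall; omega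
    refine two_generated_neg 1 one_ne_zero ?_ ?_
    · intro h0
      have h13 : ((13 : ℕ) : F) = 0 := by rw [← h0]; norm_num
      obtain ⟨p, hp⟩ := CharP.exists F
      haveI := hp
      have hpp : p.Prime := CharP.char_is_prime F p
      have hpq : p ∣ q := (CharP.cast_eq_zero_iff F p q).1 (Nat.cast_card_eq_zero F)
      have hp13 : p ∣ 13 := (CharP.cast_eq_zero_iff F p 13).1 h13
      have := Nat.le_of_dvd (by omega) hpq
      have hp13' := (Nat.prime_dvd_prime_iff_eq hpp (by norm_num)).1 hp13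
      omega
    · intro K _
      by_contra hK
      obtain ⟨k, hk2, hkk, -, d, hd, he⟩ := card_proper K hK
      have : k = 2 := by nlinarith
      subst this
      have h2d : 2 ^ 2 ≤ 2 ^ d := Nat.pow_le_pow_right (by norm_num) hd
      rcases Nat.lt_or_ge d 3 with h | h
      · have : d = 2 := by omega
        subst this
        omega
      · have : 2 ^ 3 ≤ 2 ^ d := Nat.pow_le_pow_right (by norm_num) h
        omega
  obtain ⟨γ, hγ⟩ := IsCyclic.exists_ofOrder_eq_natCard (α := Fˣ)
  have hord : orderOf γ = q - 1 := by rw [hγ, Nat.card_eq_fintype_card, Fintype.card_units]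
  obtain ⟨a, haord, has⟩ : ∃ a : Fˣ, orderOf a = q - 1 ∧ (a : F) * a + 12 ≠ 0 := by
    by_contra hne
    push Not at hne
    have h1 := hne γ hord
    have h2 := hne γ⁻¹ (by rw [orderOf_inv, hord])
    have : γ * γ = γ⁻¹ * γ⁻¹ := Units.ext (by push_cast at h1 h2 ⊢; linear_combination h1 - h2)
    refine hsmall (hord ▸ orderOf_dvd_of_pow_eq_one ?_)
    calc γ ^ 4 = γ * γ * (γ * γ) := by simp only [pow_succ, pow_zero, one_mul, mul_assoc]
      _ = γ * γ * (γ⁻¹ * γ⁻¹) := by rw [← this]
      _ = 1 := by group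
  refine two_generated_neg (a : F) a.ne_zero has fun K h3 => ?_
  by_contra hK
  obtain ⟨k, hk2, hkk, hfix, d, hd, he⟩ := card_proper K hK
  have h := hfix _ h3
  rw [← pow_mul, show 3 * k = 3 * (k - 1) + 3 by omega, pow_add] at h
  have h' : a ^ (3 * (k - 1)) = 1 := Units.ext (by
    rw [Units.val_pow_eq_pow_val, Units.val_one]
    exact mul_right_cancel₀ (pow_ne_zero 3 a.ne_zero) (h.trans (one_mul _).symm))
  have hdvd : q - 1 ∣ 3 * (k - 1) := haord ▸ orderOf_dvd_of_pow_eq_one h'
  have hle := Nat.le_of_dvd (by omega) hdvd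
  have hk : k = 2 := by
    by_contra hk
    have : 3 * k ≤ k * k := Nat.mul_le_mul_right k (by omega)
    omega
  subst hk
  have : q ≤ 4 := by omega
  omega

end Cfsg.Agent.S2278
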