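import Cfsg.Statements.S2279
import Cfsg.Agent.Lib.Linear.TwoReg.DesignsAny
import Cfsg.Agent.Lib.Linear.TwoReg.DesignsTwo

set_option linter.style.haveILetI false

set_option autoImplicit false
open Cfsg

namespace Cfsg.Agent.S2279

open Matrix Cfsg.Lib.Linear Cfsg.Lib.Linear.TVec Cfsg.Lib.Linear.AutPSL Cfsg.Lib.Linear.MinIndex
open Cfsg.Lib.Linear.RegUnipotentGen Cfsg.Lib.Linear.TwoReg
open scoped MatrixGroups

/-- A regular unipotent element. -/
def Reg {n : ℕ} {F : Type*} [Field F] (x : SpecialLinearGroup (Fin n) F) : Prop :=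
  IsNilpotent ((x : Matrix (Fin n) (Fin n) F) - 1) ∧ ((x : Matrix (Fin n) (Fin n) F) - 1) ^ (n - 1) ≠ 0

variable {n : ℕ} {F : Type*} [Field F] [Fintype F]

theorem reg_cu (hn : 0 < n) : Reg (cu n F) := ⟨⟨n, cm_sub_one_pow⟩, cm_sub_one_pow_ne hn⟩

theorem reg_vS (hn : 0 < n) (D : Datum n F) : Reg D.vS := by
  have e : (D.vS : Matrix (Fin n) (Fin n) F) - 1 = ((D.gl)⁻¹ : GL (Fin n) F).1 * (cm n F - 1) * D.gl.1 := by
    rw [mul_sub, sub_mul, mul_one, Units.inv_mul]
    rfl
  refine ⟨⟨n, ?_⟩, ?_⟩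
  · rw [e, Units.conj_pow', cm_sub_one_pow, mul_zero, zero_mul]
  · rw [e, Units.conj_pow']
    intro h
    apply cm_sub_one_pow_ne (F := F) hn
    have h2 := congrArg (fun M => D.gl.1 * M * ((D.gl)⁻¹ : GL (Fin n) F).1) h
    simpa [← mul_assoc] using h2

theorem conj_of_det_one (D : Datum n F) (hdet : D.gmat.det = 1) (htop : D.grp = ⊤) :
    ∃ g : SpecialLinearGroup (Fin n) F, Subgroup.closure ({cu n F, g * cu n F * g⁻¹} : Set _) = ⊤ := by
  have h1 : D.gl.1.det = 1 := hdet
  let g' : SpecialLinearGroup (Fin n) F := ⟨D.gl.1, h1⟩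
  refine ⟨g'⁻¹, ?_⟩
  have e2 : g'⁻¹ * cu n F * g'⁻¹⁻¹ = D.vS := by
    rw [inv_inv, mul_assoc, inv_mul_eq_iff_eq_mul]
    refine Subtype.ext ?_
    show cm n F * D.gl.1 = D.gl.1 * (((D.gl)⁻¹ : GL (Fin n) F).1 * cm n F * D.gl.1)
    rw [← mul_assoc, ← mul_assoc, Units.mul_inv, one_mul]
  rw [e2]
  exact htop

theorem conj_of_det_neg_odd (hn : Odd n) (D : Datum n F) (hdet : D.gmat.det = -1) (htop : D.grp = ⊤) :
    ∃ g : SpecialLinearGroup (Fin n) F, Subgroup.closure ({cu n F, g * cu n F * g⁻¹} : Set _) = ⊤ := by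
  have hinv : (((D.gl)⁻¹ : GL (Fin n) F).1).det = -1 := by
    have h := congrArg Matrix.det (Units.inv_mul D.gl)
    rw [det_mul, show D.gl.1.det = -1 from hdet, det_one] at h
    linear_combination -h
  let g : SpecialLinearGroup (Fin n) F := ⟨-((D.gl)⁻¹ : GL (Fin n) F).1, by
    rw [det_neg, hinv, Fintype.card_fin, hn.neg_one_pow]; ring⟩
  refine ⟨g, ?_⟩
  have e2 : g * cu n F * g⁻¹ = D.vS := by
    rw [mul_inv_eq_iff_eq_mul]
    refine Subtype.ext ?_
    show -((D.gl)⁻¹ : GL (Fin n) F).1 * cm n F = ((D.gl)⁻¹ : GL (Fin n) F).1 * cm n F * D.gl.1 * -((D.gl)⁻¹ : GL (Fin n) F).1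
    rw [mul_neg, mul_assoc _ D.gl.1, Units.mul_inv, mul_one, neg_mul]
  rw [e2]
  exact htop

/-- The reversal matrix. -/
def rev (n : ℕ) (F : Type*) [Field F] : Matrix (Fin n) (Fin n) F := (Fin.revPerm : Equiv.Perm (Fin n)).permMatrix F

theorem rev_bas {k : ℕ} (hk : k < n) : rev n F *ᵥ bas k = bas (n - 1 - k) := by
  funext i
  rw [mulVec_bas _ hk]
  simp only [rev, Equiv.Perm.permMatrix, PEquiv.toMatrix_apply, Equiv.toPEquiv_apply, Option.mem_some_iff,
    Fin.revPerm_apply, Fin.ext_iff, Fin.val_rev, bas_apply]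
  exact if_congr ⟨fun h => by omega, fun h => by omega⟩ rfl rfl

theorem det_rev (h : n % 4 = 2) : (rev n F).det = -1 := by
  rw [rev, Matrix.det_permutation, Equiv.Perm.sign_of_pow_two_eq_one (by ext i; simp [pow_two])]
  have e : Fintype.card (Function.fixedPoints (Fin.revPerm : Equiv.Perm (Fin n))) = 0 := by
    rw [Fintype.card_eq_zero_iff]
    refine ⟨fun x => ?_⟩
    have := congrArg Fin.val x.2
    simp [Fin.val_rev] at this
    omega
  rw [e, Fintype.card_fin, Nat.sub_zero]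
  have : Odd (n / 2) := Nat.odd_iff.2 (by omega)
  simp [this.neg_one_pow]

theorem rev_cm (hn : 1 < n) (heven : Even n) : cm n F * rev n F * cm n F = rev n F := by
  refine ext_bas fun k hk => ?_
  rw [← mulVec_mulVec, ← mulVec_mulVec]
  by_cases hk' : k + 1 < n
  · rw [cm_bas hk', rev_bas hk', cm_bas (show n - 1 - (k + 1) + 1 < n by omega), rev_bas hk]
    congr 1; omega
  · obtain rfl : k = n - 1 := by omega
    rw [cm_last (by omega), rev_bas hk, Nat.sub_self]
    funext m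
    rw [cm_apply (by omega)]
    have erev : ∀ i : Fin n, (rev n F *ᵥ fun i : Fin n => cc n F i.val) i = cc n F (n - 1 - i.val) := by
      intro i
      rw [rev, Matrix.permMatrix_mulVec]
      simp only [Function.comp, Fin.revPerm_apply, Fin.val_rev]
      congr 1; omega
    rw [erev, show n - 1 - (⟨n - 1, by omega⟩ : Fin n).val = 0 from Nat.sub_self _, cc_zero, heven.neg_one_pow]
    by_cases hm : 0 < m.val
    · rw [dif_pos hm, erev, bas_apply, if_neg (by omega)]
      show cc n F (n - 1 - (m.val - 1)) + -1 * cc n F m.val = 0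
      rw [show n - 1 - (m.val - 1) = n - m.val by omega]
      simp only [cc]
      rw [show n - (n - m.val) = m.val by omega, Nat.choose_symm (show m.val ≤ n by omega)]
      have hp : ((-1 : F)) ^ (n - m.val) = (-1) ^ m.val := by
        obtain ⟨t, ht⟩ := heven
        rcases Nat.even_or_odd m.val with he | ho
        · have h' : Even (n - m.val) := by
            obtain ⟨s, hs⟩ := he; exact ⟨t - s, by omega⟩
          rw [he.neg_one_pow, h'.neg_one_pow]
        · have h' : Odd (n - m.val) := by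
            obtain ⟨s, hs⟩ := ho; exact ⟨t - s - 1, by omega⟩
          rw [ho.neg_one_pow, h'.neg_one_pow]
      rw [hp]; ring
    · rw [dif_neg hm, bas_apply, if_pos (show m.val = 0 by omega), show m.val = 0 by omega, cc_zero,
        heven.neg_one_pow]
      ring

theorem conj_of_det_neg_two (hn : n % 4 = 2) (D : Datum n F) (hdet : D.gmat.det = -1) (htop : D.grp = ⊤) :
    ∃ g : SpecialLinearGroup (Fin n) F, Subgroup.closure ({cu n F, g * cu n F * g⁻¹} : Set _) = ⊤ := by
  have hinv : (((D.gl)⁻¹ : GL (Fin n) F).1).det = -1 := by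
    have h := congrArg Matrix.det (Units.inv_mul D.gl)
    rw [det_mul, show D.gl.1.det = -1 from hdet, det_one] at h
    linear_combination -h
  let g : SpecialLinearGroup (Fin n) F := ⟨((D.gl)⁻¹ : GL (Fin n) F).1 * rev n F, by
    rw [det_mul, hinv, det_rev hn]; ring⟩
  refine ⟨g, ?_⟩
  have e2 : D.vS * (g * cu n F) = g := by
    refine Subtype.ext ?_
    show ((D.gl)⁻¹ : GL (Fin n) F).1 * cm n F * D.gl.1 * (((D.gl)⁻¹ : GL (Fin n) F).1 * rev n F * cm n F) = _
    rw [mul_assoc (((D.gl)⁻¹ : GL (Fin n) F).1 * cm n F), ← mul_assoc D.gl.1, ← mul_assoc D.gl.1, Units.mul_inv,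
      one_mul, mul_assoc ((D.gl)⁻¹ : GL (Fin n) F).1, ← mul_assoc (cm n F),
      rev_cm (by omega) (Nat.even_iff.2 (by omega))]
  have e3 : g * cu n F * g⁻¹ = (D.vS)⁻¹ := by
    apply eq_inv_of_mul_eq_one_right
    rw [← mul_assoc, e2, mul_inv_cancel]
  rw [e3]
  refine top_le_iff.1 (htop ▸ (Subgroup.closure_le _).2 ?_)
  rintro x (rfl | rfl)
  · exact Subgroup.subset_closure (by simp)
  · have : (D.vS)⁻¹ ∈ Subgroup.closure ({cu n F, (D.vS)⁻¹} : Set (SpecialLinearGroup (Fin n) F)) :=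
      Subgroup.subset_closure (by simp)
    simpa using inv_mem this

/-- The companion element over `ZMod 3`. -/
def u3 : SpecialLinearGroup (Fin 4) (ZMod 3) :=
  ⟨!![0, 0, 0, 2; 1, 0, 0, 1; 0, 1, 0, 0; 0, 0, 1, 1], by decide⟩

/-- Its inverse. -/
def u3i : SpecialLinearGroup (Fin 4) (ZMod 3) :=
  ⟨!![1, 1, 0, 0; 0, 0, 1, 0; 1, 0, 0, 1; 2, 0, 0, 0], by decide⟩

/-- The conjugating element. -/
def g3 : SpecialLinearGroup (Fin 4) (ZMod 3) :=
  ⟨!![1, 0, 0, 0; 0, 2, 0, 0; 0, 0, 2, 2; 0, 0, 0, 1], by decide⟩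

/-- The second generator. -/
def v3 : SpecialLinearGroup (Fin 4) (ZMod 3) :=
  ⟨!![0, 0, 0, 2; 2, 0, 0, 2; 0, 1, 1, 0; 0, 0, 2, 0], by decide⟩

/-- Its inverse. -/
def v3i : SpecialLinearGroup (Fin 4) (ZMod 3) :=
  ⟨!![1, 2, 0, 0; 0, 0, 1, 1; 0, 0, 0, 2; 2, 0, 0, 0], by decide⟩

/-- The transvection. -/
def t3 : SpecialLinearGroup (Fin 4) (ZMod 3) :=
  ⟨!![1, 0, 0, 1; 0, 1, 0, 0; 0, 0, 1, 0; 0, 0, 0, 1], by decide⟩

theorem ext_val {a b : SpecialLinearGroup (Fin 4) (ZMod 3)} (h : a.1 = b.1) : a = b := Subtype.ext h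

theorem u3_inv : u3⁻¹ = u3i := inv_eq_of_mul_eq_one_right (ext_val (by decide))

theorem v3_inv : v3⁻¹ = v3i := inv_eq_of_mul_eq_one_right (ext_val (by decide))

theorem g3_inv : g3⁻¹ = g3 := inv_eq_of_mul_eq_one_right (ext_val (by decide))

theorem v3_eq : g3 * u3 * g3⁻¹ = v3 := by rw [g3_inv]; exact ext_val (by decide)

theorem word3 : u3 * v3 * v3 * v3 * u3⁻¹ * v3 * u3 * u3 * u3 * v3⁻¹ = t3 := by
  rw [u3_inv, v3_inv]; exact ext_val (by decide)

theorem three_four (h : Fintype.card F = 3) :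
    ∃ g : SpecialLinearGroup (Fin 4) F, Subgroup.closure ({cu 4 F, g * cu 4 F * g⁻¹} : Set _) = ⊤ := by
  obtain ⟨p, hp⟩ := CharP.exists F
  haveI := hp
  obtain ⟨k, hpp, hcard⟩ := FiniteField.card F p
  have hp3 : p = 3 := by
    have hd : p ∣ 3 := by rw [← h, hcard]; exact dvd_pow_self p k.pos.ne'
    exact (Nat.prime_dvd_prime_iff_eq hpp Nat.prime_three).1 hd
  subst hp3
  set φ := ZMod.castHom (dvd_refl 3) F
  set f := SpecialLinearGroup.map (n := Fin 4) φ
  have hu : f u3 = cu 4 F := by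
    refine Subtype.ext ?_
    have e : u3.1 = cm 4 (ZMod 3) := by
      ext i j; fin_cases i <;> fin_cases j <;> simp [u3, cm, cc, Nat.choose] <;> decide
    show (u3.1).map φ = cm 4 F
    rw [e]
    ext i j
    simp [cm, cc, apply_ite φ]
  refine ⟨f g3, ?_⟩
  rw [← hu, ← map_inv, ← map_mul, ← map_mul, v3_eq]
  set P := Subgroup.closure ({f u3, f v3} : Set (SpecialLinearGroup (Fin 4) F))
  have m1 : f u3 ∈ P := Subgroup.subset_closure (by simp)
  have m2 : f v3 ∈ P := Subgroup.subset_closure (by simp)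
  have mt : f t3 ∈ P := by
    rw [← word3]
    simp only [map_mul, map_inv]
    exact mul_mem (mul_mem (mul_mem (mul_mem (mul_mem (mul_mem (mul_mem (mul_mem (mul_mem m1 m2) m2) m2)
      (inv_mem m1)) m2) m1) m1) m1) (inv_mem m2)
  have hperp : (bas (4 - 1) : Fin 4 → F) ⬝ᵥ ((1 : F) • bas 0) = 0 := by
    rw [dotProduct_smul, last_dot_bas (show 0 + 1 < 4 by omega), smul_zero]
  have hZ : TwoReg.Z P 0 (1 : F) := by
    refine inT_map_toGL.2 ⟨hperp, ?_⟩
    convert mt using 1
    refine Subtype.ext ?_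
    rw [tau_val hperp]
    show _ = (t3.1).map φ
    ext i j
    fin_cases i <;> fin_cases j <;> simp [t3, tvMat, vecMulVec_apply, bas, Matrix.one_apply]
  have hu' : cu 4 F ∈ P := hu ▸ m1
  exact top_of_full (by omega) hu' (Z_all_of_prime (h ▸ Nat.prime_three) one_ne_zero hZ)

theorem prime_case (hq : (Fintype.card F).Prime) (hn : 4 ≤ n) :
    ∃ g : SpecialLinearGroup (Fin n) F, Subgroup.closure ({cu n F, g * cu n F * g⁻¹} : Set _) = ⊤ := by
  classical
  by_cases h2 : (2 : F) = 0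
  · have hcard : Fintype.card F = 2 := by
      have h' : ((Fintype.card F : ℕ) : F) = 0 := Nat.cast_card_eq_zero F
      by_contra hne
      obtain ⟨t, ht⟩ := hq.odd_of_ne_two hne
      rw [ht] at h'
      push_cast at h'
      rw [h2, zero_mul, zero_add] at h'
      exact one_ne_zero h'
    obtain ⟨D, hD⟩ : ∃ D : Datum n F, D.grp = ⊤ := by
      rcases Nat.even_or_odd n with he | ho
      · by_cases h4 : n = 4
        · subst h4; exact two_four hq h2
        · obtain ⟨t, ht⟩ := he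
          exact two_even hq h2 (by omega) ⟨t, ht⟩
      · obtain ⟨t, ht⟩ := ho
        exact two_odd hq h2 (by omega) ⟨t, ht⟩
    refine conj_of_det_one D ?_ hD
    have hdet : D.gmat.det ≠ 0 := by
      rw [Datum.det_gmat]; exact Finset.prod_ne_zero_iff.2 fun i _ => D.hd i.val
    have := FiniteField.pow_card_sub_one_eq_one _ hdet
    rwa [hcard, show (2 : ℕ) - 1 = 1 from rfl, pow_one] at this
  have h4 : n % 2 = 1 ∨ n % 4 = 2 ∨ 4 ∣ n := by omega
  by_cases hpn : (n : F) = 0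
  · have hn5 : 5 ≤ n := by
      by_contra h
      obtain rfl : n = 4 := by omega
      refine h2 ?_
      have : (2 : F) * 2 = 0 := by rw [← hpn]; norm_num
      simpa using this
    rcases h4 with h | h | h
    · obtain ⟨D, hd, hD⟩ := prime_div hq hn5 h2 hpn
      refine conj_of_det_one D ?_ hD
      rw [hd]; exact Even.neg_one_pow (Nat.even_iff.2 (by omega))
    · obtain ⟨D, hd, hD⟩ := prime_div hq hn5 h2 hpn
      refine conj_of_det_neg_two h D ?_ hD
      rw [hd]; exact Odd.neg_one_pow (Nat.odd_iff.2 (by omega))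
    · have hn12 : 12 ≤ n := by
        by_contra h'
        obtain rfl : n = 8 := by omega
        refine h2 ?_
        have : (2 : F) * (2 * 2) = 0 := by rw [← hpn]; norm_num
        simpa using this
      obtain ⟨D, hd, hD⟩ := prime_div_four hq h hn12 h2 hpn
      exact conj_of_det_one D hd hD
  rcases h4 with h | h | h
  · obtain ⟨D, hd, hD⟩ := prime_diag hq hn h2 hpn
    exact conj_of_det_neg_odd (Nat.odd_iff.2 h) D hd hD
  · obtain ⟨D, hd, hD⟩ := prime_diag hq hn h2 hpn
    exact conj_of_det_neg_two h D hd hD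
  by_cases hC : (n.choose 2 : F) = 0
  · by_cases hn4 : n = 4
    · subst hn4
      refine three_four ?_
      have h6 : ((6 : ℕ) : F) = 0 := by rwa [show Nat.choose 4 2 = 6 from rfl] at hC
      have h3 : ((3 : ℕ) : F) = 0 := by
        push_cast at h6 ⊢
        have : (2 : F) * 3 = 0 := by rw [← h6]; norm_num
        exact (mul_eq_zero.1 this).resolve_left h2
      obtain ⟨p, hp⟩ := CharP.exists F
      haveI := hp
      have hd1 : p ∣ 3 := (CharP.cast_eq_zero_iff F p 3).1 h3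
      have hd2 : p ∣ Fintype.card F := (CharP.cast_eq_zero_iff F p _).1 (Nat.cast_card_eq_zero F)
      have hpp : p.Prime := CharP.char_is_prime F p
      have e1 := (Nat.prime_dvd_prime_iff_eq hpp Nat.prime_three).1 hd1
      have e2 := (Nat.prime_dvd_prime_iff_eq hpp hq).1 hd2
      omega
    · obtain ⟨D, hd, hD⟩ := prime_extra hq (by omega) h2 hpn hC
      exact conj_of_det_one D hd hD
  · obtain ⟨D, hd, hD⟩ := prime_alt hq hn h h2 hpn hC
    exact conj_of_det_one D hd hD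

theorem any_case (hn : 4 ≤ n) (hq : ¬ (Fintype.card F).Prime) : ∃ D : Datum n F, D.grp = ⊤ := by
  have hq4 : 4 ≤ Fintype.card F := by
    by_contra h
    have := Fintype.one_lt_card (α := F)
    rcases (show Fintype.card F = 2 ∨ Fintype.card F = 3 by omega) with e | e <;> exact hq (e ▸ by norm_num)
  by_cases hpn : (n : F) = 0
  · by_cases h4 : n = 4
    · subst h4
      refine any_four hq4 ?_
      have : (2 : F) * 2 = 0 := by rw [← hpn]; norm_num
      simpa using this
    · exact any_div (by omega) hq hpn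
  · exact any_diag hn hq4 hpn

/-- Let F be a finite field with q elements and n ≥ 4. Then SL_n(F) is generated by two regular unipotent elements (elements u with u − 1 nilpotent and (u − 1)^(n−1) ≠ 0); if q is prime, the two can be taken conjugate in SL_n(F). -/
theorem result {F : Type*} [Field F] [Fintype F] (n : ℕ) (hn : 4 ≤ n) :
    (∃ u v : Matrix.SpecialLinearGroup (Fin n) F, (IsNilpotent ((u : Matrix (Fin n) (Fin n) F) - 1) ∧ ((u : Matrix (Fin n) (Fin n) F) - 1) ^ (n - 1) ≠ 0) ∧ (IsNilpotent ((v : Matrix (Fin n) (Fin n) F) - 1) ∧ ((v : Matrix (Fin n) (Fin n) F) - 1) ^ (n - 1) ≠ 0) ∧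
      Subgroup.closure ({u, v} : Set (Matrix.SpecialLinearGroup (Fin n) F)) = ⊤) ∧
    ((Fintype.card F).Prime → ∃ u g : Matrix.SpecialLinearGroup (Fin n) F, (IsNilpotent ((u : Matrix (Fin n) (Fin n) F) - 1) ∧ ((u : Matrix (Fin n) (Fin n) F) - 1) ^ (n - 1) ≠ 0) ∧
      Subgroup.closure ({u, g * u * g⁻¹} : Set (Matrix.SpecialLinearGroup (Fin n) F)) = ⊤) := by
  have hn0 : 0 < n := by omega
  refine ⟨?_, fun hq => ?_⟩
  · by_cases hq : (Fintype.card F).Prime
    · obtain ⟨g, hg⟩ := prime_case hq hn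
      refine ⟨cu n F, g * cu n F * g⁻¹, reg_cu hn0, ?_, hg⟩
      have hinv : g.1 * (g⁻¹).1 = 1 := congrArg Subtype.val (mul_inv_cancel g)
      let gu : GL (Fin n) F := Matrix.SpecialLinearGroup.toGL g
      have e : ((g * cu n F * g⁻¹ : Matrix.SpecialLinearGroup (Fin n) F) : Matrix (Fin n) (Fin n) F) - 1 =
          gu.1 * (cm n F - 1) * (gu⁻¹).1 := by
        rw [mul_sub, sub_mul, mul_one, Units.mul_inv]
        congr 1
      obtain ⟨h1, h2⟩ := reg_cu (F := F) hn0
      refine ⟨⟨n, ?_⟩, ?_⟩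
      · rw [e, Units.conj_pow, cm_sub_one_pow, mul_zero, zero_mul]
      · rw [e, Units.conj_pow]
        intro h
        apply cm_sub_one_pow_ne (F := F) hn0
        have h3 := congrArg (fun M => (gu⁻¹).1 * M * gu.1) h
        simpa [← mul_assoc] using h3
    · obtain ⟨D, hD⟩ := any_case hn hq
      exact ⟨cu n F, D.vS, reg_cu hn0, reg_vS hn0 D, hD⟩
  · obtain ⟨g, hg⟩ := prime_case hq hn
    exact ⟨cu n F, g, reg_cu hn0, hg⟩

end Cfsg.Agent.S2279
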