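import Cfsg.Statements.S5962
import Cfsg.Agent.Lib.Linear.SymplecticGroup
-- import your own Cfsg.Agent.* helpers here

set_option autoImplicit false
open scoped MatrixGroups
open Cfsg

namespace Cfsg.Agent.S5962

open Module

/-- Complementary totally isotropic halves of an invariant nondegenerate subspace, permuted by `T`. -/
theorem exists_pair {F V : Type*} [Field F] [AddCommGroup V] [Module F V] [FiniteDimensional F V]
    (h2 : (2 : F) ≠ 0) (B : LinearMap.BilinForm F V) (hA : B.IsAlt) (T : V →ₗ[F] V) {z : F}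
    (hz : z ≠ 0) (hTT : ∀ v, T (T v) = z • v) (hT : ∀ u v, B (T u) (T v) = B u v) :
    ∀ (n : ℕ) (Y : Submodule F V), finrank F Y = n → (∀ y ∈ Y, T y ∈ Y) →
      (∀ y ∈ Y, (∀ y' ∈ Y, B y y' = 0) → y = 0) →
      ∃ U W : Submodule F V, U ⊔ W = Y ∧ U ⊓ W = ⊥ ∧ (∀ u ∈ U, ∀ v ∈ U, B u v = 0) ∧
        (∀ u ∈ W, ∀ v ∈ W, B u v = 0) ∧
        ((∃ c : F, c * c = z) → (∀ u ∈ U, T u ∈ U) ∧ ∀ w ∈ W, T w ∈ W) ∧
        ((¬ ∃ c : F, c * c = z) → (∀ u ∈ U, T u ∈ W) ∧ ∀ w ∈ W, T w ∈ U) := by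
  intro n
  induction n using Nat.strong_induction_on with
  | _ n ih =>
  intro Y hn hTY hnd
  by_cases hY : Y = ⊥
  · refine ⟨⊥, ⊥, by rw [hY, sup_idem], inf_idem _, ?_, ?_, fun _ => ⟨?_, ?_⟩, fun _ => ⟨?_, ?_⟩⟩ <;>
      · intro u hu
        simp [(Submodule.mem_bot F).1 hu]
  have hneg : ∀ a b, B a b = -B b a := fun a b => (LinearMap.IsAlt.neg hA b a).symm
  -- a suitable pair
  obtain ⟨u, v, hu, hv, huv, hcase⟩ : ∃ u v, u ∈ Y ∧ v ∈ Y ∧ B u v ≠ 0 ∧
      (((∃ c : F, c * c = z) ∧ (∃ α, T u = α • u) ∧ ∃ β, T v = β • v) ∨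
        ((¬ ∃ c : F, c * c = z) ∧ T u = v ∧ T v = z • u)) := by
    obtain ⟨y, hy, hy0⟩ := Y.exists_mem_ne_zero_of_ne_bot hY
    by_cases hsq : ∃ c : F, c * c = z
    · obtain ⟨c, hc⟩ := hsq
      have hc0 : c ≠ 0 := fun h => hz (by rw [← hc, h, mul_zero])
      have heig : ∀ x ∈ Y, (T x + c • x ∈ Y ∧ T (T x + c • x) = c • (T x + c • x)) ∧
          (c • x - T x ∈ Y ∧ T (c • x - T x) = (-c) • (c • x - T x)) := fun x hx => by
        refine ⟨⟨add_mem (hTY x hx) (Y.smul_mem c hx), ?_⟩, sub_mem (Y.smul_mem c hx) (hTY x hx), ?_⟩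
        · rw [map_add, map_smul, hTT, ← hc]; module
        · rw [map_sub, map_smul, hTT, ← hc]; module
      have hsum : ∀ x : V, (2 * c) • x = (T x + c • x) + (c • x - T x) := fun x => by module
      obtain ⟨u, huY, hu0, α, hα⟩ : ∃ u ∈ Y, u ≠ 0 ∧ ∃ α, T u = α • u := by
        by_cases h1 : T y + c • y = 0
        · refine ⟨_, (heig y hy).2.1, ?_, _, (heig y hy).2.2⟩
          intro h3
          have := hsum y
          rw [h1, h3, add_zero, smul_eq_zero] at this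
          exact this.elim (mul_ne_zero h2 hc0) hy0
        · exact ⟨_, (heig y hy).1.1, h1, _, (heig y hy).1.2⟩
      obtain ⟨w, hw, huw⟩ : ∃ w ∈ Y, B u w ≠ 0 := by
        by_contra h
        push Not at h
        exact hu0 (hnd u huY h)
      by_cases h1 : B u (T w + c • w) = 0
      · refine ⟨u, c • w - T w, huY, (heig w hw).2.1, ?_, Or.inl ⟨⟨c, hc⟩, ⟨α, hα⟩, _, (heig w hw).2.2⟩⟩
        intro h3
        have := congrArg (B u) (hsum w)
        rw [map_smul, map_add, h1, h3, add_zero, smul_eq_mul] at this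
        exact huw ((mul_eq_zero.1 this).resolve_left (mul_ne_zero h2 hc0))
      · exact ⟨u, _, huY, (heig w hw).1.1, h1, Or.inl ⟨⟨c, hc⟩, ⟨α, hα⟩, _, (heig w hw).1.2⟩⟩
    · obtain ⟨u, hu, huT⟩ : ∃ u ∈ Y, B u (T u) ≠ 0 := by
        by_contra h
        push Not at h
        have hz1 : z = -1 := by
          have hzz : z * z = 1 := by
            by_contra hzz
            refine hy0 (hnd y hy fun y' hy' => ?_)
            have h3 := hT (T y) (T y')
            rw [hTT, hTT, hT] at h3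
            simp only [map_smul, LinearMap.smul_apply, smul_eq_mul] at h3
            have h4 : (z * z - 1) * B y y' = 0 := by linear_combination h3
            exact (mul_eq_zero.1 h4).resolve_left (sub_ne_zero.2 hzz)
          rcases mul_self_eq_one_iff.1 hzz with h1 | h1
          · exact absurd ⟨1, by rw [h1, one_mul]⟩ hsq
          · exact h1
        refine hy0 (hnd y hy fun y' hy' => ?_)
        obtain ⟨w, hw, rfl⟩ : ∃ w ∈ Y, T w = y' :=
          ⟨z⁻¹ • T y', Y.smul_mem _ (hTY _ hy'), by rw [map_smul, hTT, smul_smul, inv_mul_cancel₀ hz, one_smul]⟩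
        have h3 := h (y + w) (add_mem hy hw)
        have h4 : B w (T y) = B y (T w) := by
          rw [← hT w (T y), hTT, hz1, neg_one_smul, map_neg, hneg y (T w)]
        simp only [map_add, LinearMap.add_apply, h y hy, h w hw, h4, zero_add, add_zero] at h3
        rw [← two_mul] at h3
        exact (mul_eq_zero.1 h3).resolve_left h2
      exact ⟨u, T u, hu, hTY u hu, huT, Or.inr ⟨hsq, rfl, hTT u⟩⟩
  -- the orthogonal complement in `Y`
  let Y' : Submodule F V := Y ⊓ LinearMap.ker (B u) ⊓ LinearMap.ker (B v)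
  have hY'u : ∀ y ∈ Y', B u y = 0 := fun y hy => hy.1.2
  have hY'v : ∀ y ∈ Y', B v y = 0 := fun y hy => hy.2
  have hspan : ∀ y ∈ Y', ∀ a b : F, B (a • u + b • v) y = 0 := fun y hy a b => by
    simp [hY'u y hy, hY'v y hy]
  have hTuv : (∃ a b : F, T u = a • u + b • v) ∧ ∃ a b : F, T v = a • u + b • v := by
    rcases hcase with ⟨-, ⟨α, hα⟩, β, hβ⟩ | ⟨-, h1, h3⟩
    · exact ⟨⟨α, 0, by simp [hα]⟩, 0, β, by simp [hβ]⟩
    · exact ⟨⟨0, 1, by simp [h1]⟩, z, 0, by simp [h3]⟩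
  have hTY' : ∀ y ∈ Y', T y ∈ Y' := by
    intro y hy
    have hx : ∀ x : V, (∃ a b : F, T x = a • u + b • v) → B x (T y) = 0 := by
      rintro x ⟨a, b, hab⟩
      have e : x = T (z⁻¹ • T x) := by
        rw [map_smul, hTT, smul_smul, inv_mul_cancel₀ hz, one_smul]
      rw [e, hT, map_smul, LinearMap.smul_apply, hab, hspan y hy, smul_zero]
    exact ⟨⟨hTY y hy.1.1, hx u hTuv.1⟩, hx v hTuv.2⟩
  have hvu : B v u ≠ 0 := fun h => huv (by rw [hneg, h, neg_zero])
  have hdec : ∀ y ∈ Y, ∃ a b : F, y - (a • u + b • v) ∈ Y' := by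
    intro y hy
    refine ⟨B v y / B v u, B u y / B u v, ⟨⟨sub_mem hy (add_mem (Y.smul_mem _ hu) (Y.smul_mem _ hv)), ?_⟩, ?_⟩⟩
    · show B u _ = 0
      simp only [map_sub, map_add, map_smul, smul_eq_mul, hA.self_eq_zero, mul_zero, zero_add]
      rw [div_mul_cancel₀ _ huv, sub_self]
    · show B v _ = 0
      simp only [map_sub, map_add, map_smul, smul_eq_mul, hA.self_eq_zero, mul_zero, add_zero]
      rw [div_mul_cancel₀ _ hvu, sub_self]
  have hlt : finrank F Y' < n := by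
    rw [← hn]
    refine Submodule.finrank_lt_finrank_of_lt (lt_of_le_of_ne (inf_le_left.trans inf_le_left) fun h => ?_)
    exact huv (hY'u v (h ▸ hv))
  have hnd' : ∀ y ∈ Y', (∀ y' ∈ Y', B y y' = 0) → y = 0 := by
    intro y hy h
    refine hnd y hy.1.1 fun y' hy' => ?_
    obtain ⟨a, b, hab⟩ := hdec y' hy'
    have h3 := h _ hab
    rw [map_sub, sub_eq_zero, hneg y (a • u + b • v), hspan y hy, neg_zero] at h3
    exact h3
  obtain ⟨U, W, hUW, hinf, hU, hW, hsame, hswap⟩ := ih _ hlt Y' rfl hTY' hnd'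
  have hUY : ∀ x ∈ U, x ∈ Y' := fun x hx => hUW.le (Submodule.mem_sup_left hx)
  have hWY : ∀ x ∈ W, x ∈ Y' := fun x hx => hUW.le (Submodule.mem_sup_right hx)
  have hiso : ∀ (S : Submodule F V) (w : V), (∀ x ∈ S, B w x = 0) → (∀ x ∈ S, ∀ y ∈ S, B x y = 0) →
      ∀ x ∈ S ⊔ F ∙ w, ∀ y ∈ S ⊔ F ∙ w, B x y = 0 := by
    intro S w hw hS x hx y hy
    obtain ⟨s, hs, _, hx', rfl⟩ := Submodule.mem_sup.1 hx
    obtain ⟨s', hs', _, hy', rfl⟩ := Submodule.mem_sup.1 hy
    obtain ⟨a, rfl⟩ := Submodule.mem_span_singleton.1 hx'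
    obtain ⟨b, rfl⟩ := Submodule.mem_span_singleton.1 hy'
    simp [hS s hs s' hs', hw s' hs', hneg s w, hw s hs, hA.self_eq_zero]
  have hsend : ∀ (S S' : Submodule F V) (w w' : V), (∀ x ∈ S, T x ∈ S') → (∃ a : F, T w = a • w') →
      ∀ x ∈ S ⊔ F ∙ w, T x ∈ S' ⊔ F ∙ w' := by
    intro S S' w w' hS hw x hx
    obtain ⟨s, hs, _, hx', rfl⟩ := Submodule.mem_sup.1 hx
    obtain ⟨b, rfl⟩ := Submodule.mem_span_singleton.1 hx'
    obtain ⟨a, ha⟩ := hw
    rw [map_add, map_smul, ha, smul_smul]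
    exact Submodule.add_mem_sup (hS s hs) (Submodule.smul_mem _ _ (Submodule.mem_span_singleton_self w'))
  refine ⟨U ⊔ F ∙ u, W ⊔ F ∙ v, ?_, ?_, hiso U u (fun x hx => hY'u x (hUY x hx)) hU,
    hiso W v (fun x hx => hY'v x (hWY x hx)) hW, ?_, ?_⟩
  · refine le_antisymm (sup_le (sup_le (fun x hx => (hUY x hx).1.1) ((Submodule.span_singleton_le_iff_mem u Y).2 hu))
      (sup_le (fun x hx => (hWY x hx).1.1) ((Submodule.span_singleton_le_iff_mem v Y).2 hv))) fun y hy => ?_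
    obtain ⟨a, b, hab⟩ := hdec y hy
    rw [← hUW] at hab
    have e : y = (y - (a • u + b • v)) + (a • u + b • v) := (sub_add_cancel _ _).symm
    rw [e]
    refine add_mem ?_ (Submodule.add_mem_sup ?_ ?_)
    · exact (sup_le_sup le_sup_left le_sup_left : U ⊔ W ≤ _) hab
    · exact Submodule.mem_sup_right (Submodule.smul_mem _ _ (Submodule.mem_span_singleton_self u))
    · exact Submodule.mem_sup_right (Submodule.smul_mem _ _ (Submodule.mem_span_singleton_self v))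
  · refine eq_bot_iff.2 fun x hx => ?_
    obtain ⟨s, hs, _, hx', rfl⟩ := Submodule.mem_sup.1 hx.1
    obtain ⟨a, rfl⟩ := Submodule.mem_span_singleton.1 hx'
    obtain ⟨s', hs', _, hy', he⟩ := Submodule.mem_sup.1 hx.2
    obtain ⟨b, rfl⟩ := Submodule.mem_span_singleton.1 hy'
    have hb : b = 0 := by
      have h3 := congrArg (B u) he
      simp only [map_add, map_smul, smul_eq_mul, hY'u s' (hWY s' hs'), hY'u s (hUY s hs), hA.self_eq_zero,
        mul_zero, zero_add] at h3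
      exact (mul_eq_zero.1 h3).resolve_right huv
    have ha : a = 0 := by
      have h3 := congrArg (B v) he
      simp only [map_add, map_smul, smul_eq_mul, hY'v s' (hWY s' hs'), hY'v s (hUY s hs), hA.self_eq_zero,
        mul_zero, zero_add] at h3
      exact (mul_eq_zero.1 h3.symm).resolve_right hvu
    rw [hb, ha, zero_smul, zero_smul, add_zero, add_zero] at he
    have hs0 : s ∈ U ⊓ W := ⟨hs, he ▸ hs'⟩
    rw [hinf, Submodule.mem_bot] at hs0
    simp [hs0, ha]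
  · intro hsq
    rcases hcase with ⟨-, hα, hβ⟩ | ⟨h1, -⟩
    · exact ⟨hsend U U u u (hsame hsq).1 hα, hsend W W v v (hsame hsq).2 hβ⟩
    · exact absurd hsq h1
  · intro hsq
    rcases hcase with ⟨h1, -⟩ | ⟨-, h1, h3⟩
    · exact absurd h1 hsq
    · exact ⟨hsend U W u v (hswap hsq).1 ⟨1, by rw [one_smul, h1]⟩,
        hsend W U v u (hswap hsq).2 ⟨z, h3⟩⟩

/-- Involutions of PSp_n(q), q odd, and the subgroups GL_{n/2}(q).2. Here `T = PSp_n(q)`, `n = 2d ≥ 4`, `q` odd, realised through the symplectic matrices over the field `F` with `q` elements; Ω is the set of unordered pairs `{U, W}` of complementary totally isotropic `d`-spaces (`F^n = U ⊕ W`), whose stabilizers are the subgroups of type GL_d(q).2 (maximal except in some small cases; maximality is not assumed); an element of `T` of prime order `r` (a symplectic matrix `x` with `x^r` scalar, `x` not scalar) fixes such a pair when it fixes or interchanges `U` and `W`. If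 the number of such pairs is even, every involution of `T` fixes one of them (the action is 2-elusive). -/
theorem result {F : Type*} [Field F] [Fintype F] {p : ℕ} [Fact p.Prime] [CharP F p] {q : ℕ} (hq : Fintype.card F = q)
    (d : ℕ) (hd : 2 ≤ d) (hT : (d, q) ≠ (2, 2)) (hodd : Odd q)
    (hΩ : 2 ∣ Nat.card {P : Submodule F (Fin d ⊕ Fin d → F) × Submodule F (Fin d ⊕ Fin d → F) // IsCompl P.1 P.2 ∧ (∀ u ∈ P.1, ∀ v ∈ P.1, Cfsg.sympForm d F u v = 0) ∧ (∀ u ∈ P.2, ∀ v ∈ P.2, Cfsg.sympForm d F u v = 0)} / 2)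
    (x : ↥(Matrix.symplecticGroup (Fin d) F))
    (hx1 : ∃ z : F, ((x ^ 2 : ↥(Matrix.symplecticGroup (Fin d) F)) : Matrix (Fin d ⊕ Fin d) (Fin d ⊕ Fin d) F) = z • (1 : Matrix (Fin d ⊕ Fin d) (Fin d ⊕ Fin d) F))
    (hx2 : ∀ z : F, (x : Matrix (Fin d ⊕ Fin d) (Fin d ⊕ Fin d) F) ≠ z • (1 : Matrix (Fin d ⊕ Fin d) (Fin d ⊕ Fin d) F)) :
    ∃ U W : Submodule F (Fin d ⊕ Fin d → F), IsCompl U W ∧ (∀ u ∈ U, ∀ v ∈ U, Cfsg.sympForm d F u v = 0) ∧ (∀ u ∈ W, ∀ v ∈ W, Cfsg.sympForm d F u v = 0) ∧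
        ((U.map (Matrix.toLin' (x : Matrix (Fin d ⊕ Fin d) (Fin d ⊕ Fin d) F)) = U ∧ W.map (Matrix.toLin' (x : Matrix (Fin d ⊕ Fin d) (Fin d ⊕ Fin d) F)) = W) ∨
         (U.map (Matrix.toLin' (x : Matrix (Fin d ⊕ Fin d) (Fin d ⊕ Fin d) F)) = W ∧ W.map (Matrix.toLin' (x : Matrix (Fin d ⊕ Fin d) (Fin d ⊕ Fin d) F)) = U)) := by
  classical
  obtain ⟨z, hz⟩ := hx1
  set T := Matrix.toLin' (x : Matrix (Fin d ⊕ Fin d) (Fin d ⊕ Fin d) F) with hTdef
  have hTT : ∀ v, T (T v) = z • v := fun v => by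
    rw [hTdef, ← LinearMap.comp_apply, ← Matrix.toLin'_mul, ← pow_two, ← SubmonoidClass.coe_pow, hz]
    simp [Matrix.smul_mulVec]
  have hT : ∀ u v, Cfsg.Lib.Linear.Symp.spB d F (T u) (T v) = Cfsg.Lib.Linear.Symp.spB d F u v := fun u v => by
    simpa [hTdef] using (Cfsg.Lib.Linear.Symp.mem_symplecticGroup_iff _).1 x.2 u v
  have hB := Cfsg.Lib.Linear.Symp.spB_nondegenerate d F
  have hz0 : z ≠ 0 := by
    rintro rfl
    have hnz : ∀ v : Fin d ⊕ Fin d → F, v = 0 := fun v => hB.1 v fun w => by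
      rw [← hT, ← hT, hTT, hTT]; simp
    have h1 := congrFun (hnz fun _ => 1) (Sum.inl ⟨0, by omega⟩)
    simp at h1
  have h2 : (2 : F) ≠ 0 := by
    refine Ring.two_ne_zero fun h => ?_
    have := (FiniteField.even_card_iff_char_two (F := F)).1 h
    rw [hq] at this
    exact absurd (Nat.odd_iff.1 hodd) (by omega)
  obtain ⟨U, W, hUW, hinf, hU, hW, hsame, hswap⟩ := exists_pair h2 _ (Cfsg.Lib.Linear.Symp.spB_isAlt d F) T
    hz0 hTT hT _ ⊤ rfl (fun y _ => Submodule.mem_top)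
    (fun y _ h => hB.1 y fun y' => h y' Submodule.mem_top)
  have heq : ∀ S S' : Submodule F (Fin d ⊕ Fin d → F), (∀ u ∈ S, T u ∈ S') → (∀ u ∈ S', T u ∈ S) → S.map T = S' := by
    intro S S' h1 h3
    refine le_antisymm (Submodule.map_le_iff_le_comap.2 h1) fun w hw => ⟨z⁻¹ • T w, S.smul_mem _ (h3 w hw), ?_⟩
    rw [map_smul, hTT, smul_smul, inv_mul_cancel₀ hz0, one_smul]
  simp only [Cfsg.Lib.Linear.Symp.spB_apply] at hU hW
  refine ⟨U, W, ⟨disjoint_iff.2 hinf, codisjoint_iff.2 hUW⟩, hU, hW, ?_⟩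
  by_cases hsq : ∃ c : F, c * c = z
  · exact Or.inl ⟨heq _ _ (hsame hsq).1 (hsame hsq).1, heq _ _ (hsame hsq).2 (hsame hsq).2⟩
  · exact Or.inr ⟨heq _ _ (hswap hsq).1 (hswap hsq).2, heq _ _ (hswap hsq).2 (hswap hsq).1⟩

end Cfsg.Agent.S5962
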