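import Cfsg.Statements.S5955
import Cfsg.Agent.Lib.Linear.IsotropicFix.Symp
import Cfsg.Agent.S5962
-- import your own Cfsg.Agent.* helpers here

set_option autoImplicit false
open scoped MatrixGroups
open Cfsg

namespace Cfsg.Agent.S5955

open Module Polynomial Cfsg.Lib.Linear Cfsg.Lib.Linear.IsoFix Cfsg.Agent.Lib.Linear.PrimeClasses Cfsg.Agent.S5961
open scoped Matrix

theorem exists_le_finrank {F V : Type*} [Field F] [AddCommGroup V] [Module F V] [FiniteDimensional F V]
    (U : Submodule F V) {k : ℕ} (hk : k ≤ finrank F U) : ∃ W ≤ U, finrank F W = k := by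
  let b := Module.finBasis F U
  refine ⟨(Submodule.span F (Set.range fun i : Fin k => b (Fin.castLE hk i))).map U.subtype,
    Submodule.map_subtype_le _ _, ?_⟩
  rw [Submodule.finrank_map_subtype_eq, finrank_span_eq_card]
  · exact Fintype.card_fin k
  · exact b.linearIndependent.comp _ (Fin.castLE_injective hk)

section Involutions

variable {F V : Type*} [Field F] [AddCommGroup V] [Module F V] [FiniteDimensional F V]
  {B : LinearMap.BilinForm F V} {T : V →ₗ[F] V}

theorem finrank_half (hB : B.Nondegenerate) (hA : B.IsAlt) {U W : Submodule F V} (hsup : U ⊔ W = ⊤)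
    (hU : ∀ u ∈ U, ∀ v ∈ U, B u v = 0) : finrank F U ≤ finrank F W := by
  let L : U →ₗ[F] Module.Dual F W := W.subtype.dualMap.comp (LinearMap.comp B U.subtype)
  have hL : Function.Injective L := (injective_iff_map_eq_zero _).2 fun u hu => by
    refine Subtype.ext (hB.1 (u : V) fun v => ?_)
    obtain ⟨a, ha, b, hb, rfl⟩ := Submodule.mem_sup.1 (hsup.ge (Submodule.mem_top (x := v)))
    rw [map_add, hU _ u.2 a ha, show B (u : V) b = 0 from LinearMap.congr_fun hu ⟨b, hb⟩, add_zero]
  exact (LinearMap.finrank_le_finrank_of_injective hL).trans Subspace.dual_finrank_eq.le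

/-- An element with square a square scalar fixes totally isotropic subspaces of each dimension. -/
theorem exists_of_sq (hB : B.Nondegenerate) (hA : B.IsAlt) (h2 : (2 : F) ≠ 0) {c : F} (hc : c ≠ 0)
    (hTT : ∀ v, T (T v) = (c * c) • v) (hT : ∀ u v, B (T u) (T v) = B u v) {m : ℕ}
    (hm : 2 * m ≤ finrank F V) :
    ∃ W : Submodule F V, finrank F W = m ∧ (∀ u ∈ W, ∀ v ∈ W, B u v = 0) ∧ W.map T ≤ W := by
  obtain ⟨U, U', hsup, hinf, hU, hU', hsame, -⟩ := S5962.exists_pair h2 B hA T (mul_ne_zero hc hc) hTT hT _ ⊤ rfl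
    (fun y _ => Submodule.mem_top) (fun y _ h => hB.1 y fun y' => h y' Submodule.mem_top)
  have hTU := (hsame ⟨c, rfl⟩).1
  have h1 : finrank F U' ≤ finrank F U := finrank_half hB hA (by rw [sup_comm, hsup]) hU'
  have h3 := Submodule.finrank_sup_add_finrank_inf_eq U U'
  rw [hsup, hinf, finrank_bot, finrank_top, add_zero] at h3
  let P := U ⊓ LinearMap.ker (T - c • 1)
  let M := U ⊓ LinearMap.ker (T + c • 1)
  have hPM : finrank F U ≤ finrank F P + finrank F M := by
    refine le_trans ?_ (Submodule.finrank_add_le_finrank_add_finrank P M)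
    refine Submodule.finrank_mono fun u hu => ?_
    have e : u = (2 * c)⁻¹ • (c • u + T u) + (2 * c)⁻¹ • (c • u - T u) := by
      rw [← smul_add, show c • u + T u + (c • u - T u) = (2 * c) • u by module, smul_smul,
        inv_mul_cancel₀ (mul_ne_zero h2 hc), one_smul]
    rw [e]
    refine Submodule.add_mem_sup (Submodule.smul_mem _ _ ⟨add_mem (U.smul_mem c hu) (hTU u hu), ?_⟩)
      (Submodule.smul_mem _ _ ⟨sub_mem (U.smul_mem c hu) (hTU u hu), ?_⟩)
    · show (T - c • 1) _ = 0
      simp only [LinearMap.sub_apply, LinearMap.smul_apply, Module.End.one_apply, map_add, map_smul, hTT]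
      module
    · show (T + c • 1) _ = 0
      simp only [LinearMap.add_apply, LinearMap.smul_apply, Module.End.one_apply, map_sub, map_smul, hTT]
      module
  have hdisj : P ⊓ M = ⊥ := by
    refine eq_bot_iff.2 fun u hu => ?_
    have hP : T u - c • u = 0 := hu.1.2
    have hM : T u + c • u = 0 := hu.2.2
    have : (2 * c) • u = 0 := by
      rw [show (2 * c) • u = (T u + c • u) - (T u - c • u) by module, hP, hM, sub_zero]
    rw [Submodule.mem_bot]
    exact (smul_eq_zero.1 this).resolve_left (mul_ne_zero h2 hc)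
  obtain ⟨A, hA', hAk⟩ := exists_le_finrank P (k := min m (finrank F P)) (min_le_right _ _)
  obtain ⟨C, hC', hCk⟩ := exists_le_finrank M (k := m - min m (finrank F P)) (by omega)
  refine ⟨A ⊔ C, ?_, fun u hu v hv => ?_, ?_⟩
  · have h4 := Submodule.finrank_sup_add_finrank_inf_eq A C
    rw [show A ⊓ C = ⊥ from eq_bot_iff.2 (hdisj ▸ inf_le_inf hA' hC'), finrank_bot, add_zero] at h4
    omega
  · have hle : A ⊔ C ≤ U := sup_le (hA'.trans inf_le_left) (hC'.trans inf_le_left)
    exact hU u (hle hu) v (hle hv)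
  · rw [Submodule.map_sup]
    refine sup_le_sup (Submodule.map_le_iff_le_comap.2 fun a ha => ?_) (Submodule.map_le_iff_le_comap.2 fun a ha => ?_)
    · have : T a - c • a = 0 := (hA' ha).2
      show T a ∈ A
      rw [sub_eq_zero.1 this]
      exact A.smul_mem c ha
    · have : T a + c • a = 0 := (hC' ha).2
      show T a ∈ C
      rw [eq_neg_of_add_eq_zero_left this]
      exact C.neg_mem (C.smul_mem c ha)

/-- For `T * T = -1` without eigenvalues, invariant totally isotropic subspaces of even dimension. -/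
theorem exists_of_neg_one [Fintype F] (hA : B.IsAlt) (h2 : (2 : F) ≠ 0) (hns : ∀ a : F, a * a ≠ -1)
    (hTT : ∀ v, T (T v) = -v) (hT : ∀ u v, B (T u) (T v) = B u v) :
    ∀ (k : ℕ) (Y : Submodule F V), (∀ y ∈ Y, T y ∈ Y) → (∀ y ∈ Y, (∀ y' ∈ Y, B y y' = 0) → y = 0) →
      4 * k ≤ finrank F Y →
      ∃ W ≤ Y, finrank F W = 2 * k ∧ (∀ u ∈ W, ∀ v ∈ W, B u v = 0) ∧ ∀ w ∈ W, T w ∈ W := by
  have hneg : ∀ a b, B a b = -B b a := fun a b => (LinearMap.IsAlt.neg hA b a).symm
  have hadj : ∀ a b, B (T a) b = -B a (T b) := fun a b => by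
    rw [← hT a (T b), hTT, map_neg, neg_neg]
  -- the span of a vector and its image
  have hpair : ∀ u : V, u ≠ 0 → LinearIndependent F ![u, T u] := fun u hu => by
    rw [LinearIndependent.pair_iff]
    intro s t hst
    by_cases ht : t = 0
    · rw [ht, zero_smul, add_zero, smul_eq_zero] at hst
      exact ⟨hst.resolve_right hu, ht⟩
    · refine absurd ?_ (hns (s / t))
      have h1 : T u = (-(s / t)) • u := by
        rw [neg_smul, div_eq_inv_mul, ← smul_smul, eq_neg_of_add_eq_zero_left hst, smul_neg, smul_smul,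
          inv_mul_cancel₀ ht, one_smul, neg_neg]
      have h3 := hTT u
      rw [h1, map_smul, h1, smul_smul, ← neg_one_smul F u] at h3
      have := smul_left_injective F hu h3
      linear_combination this
  intro k
  induction k with
  | zero =>
    intro Y _ _ _
    exact ⟨⊥, bot_le, by simp, fun u hu v _ => by simp [(Submodule.mem_bot F).1 hu],
      fun u hu => by simp [(Submodule.mem_bot F).1 hu]⟩
  | succ k ih =>
    intro Y hTY hnd hdim
    -- split off a vector of non-zero value from a nondegenerate invariant subspace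
    have hsplit : ∀ Y : Submodule F V, (∀ y ∈ Y, T y ∈ Y) → (∀ y ∈ Y, (∀ y' ∈ Y, B y y' = 0) → y = 0) →
        0 < finrank F Y → ∃ u ∈ Y, B u (T u) ≠ 0 := by
      intro Y hTY hnd hpos
      by_contra h
      push Not at h
      obtain ⟨y, hy, hy0⟩ := Y.exists_mem_ne_zero_of_ne_bot (fun hb => by rw [hb, finrank_bot] at hpos; omega)
      refine hy0 (hnd y hy fun y' hy' => ?_)
      obtain ⟨w, hw, rfl⟩ : ∃ w ∈ Y, T w = y' := ⟨-(T y'), Y.neg_mem (hTY _ hy'), by rw [map_neg, hTT, neg_neg]⟩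
      have h3 := h (y + w) (add_mem hy hw)
      have h4 : B w (T y) = B y (T w) := by rw [hneg, hadj, neg_neg]
      simp only [map_add, LinearMap.add_apply, h y hy, h w hw, h4, zero_add, add_zero] at h3
      rw [← two_mul] at h3
      exact (mul_eq_zero.1 h3).resolve_left h2
    -- the complement of the pair of a vector
    have hcompl : ∀ Y : Submodule F V, (∀ y ∈ Y, T y ∈ Y) → (∀ y ∈ Y, (∀ y' ∈ Y, B y y' = 0) → y = 0) →
        ∀ u ∈ Y, B u (T u) ≠ 0 →
        ∃ Z ≤ Y, (∀ y ∈ Z, T y ∈ Z) ∧ (∀ y ∈ Z, (∀ y' ∈ Z, B y y' = 0) → y = 0) ∧ finrank F Y ≤ finrank F Z + 2 ∧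
          ∀ y ∈ Z, B u y = 0 ∧ B (T u) y = 0 := by
      intro Y hTY hnd u hu huT
      let Z := Y ⊓ LinearMap.ker (B u) ⊓ LinearMap.ker (B (T u))
      have hTuu : B (T u) u ≠ 0 := fun h => huT (by rw [hneg, h, neg_zero])
      have hz : ∀ y ∈ Z, B u y = 0 ∧ B (T u) y = 0 := fun y hy => ⟨hy.1.2, hy.2⟩
      refine ⟨Z, inf_le_left.trans inf_le_left, fun y hy => ?_, fun y hy h => ?_, ?_, hz⟩
      · refine ⟨⟨hTY y hy.1.1, ?_⟩, ?_⟩
        · show B u (T y) = 0
          rw [← neg_eq_zero, ← hadj]; exact (hz y hy).2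
        · show B (T u) (T y) = 0
          rw [hT]; exact (hz y hy).1
      · refine hnd y hy.1.1 fun y' hy' => ?_
        have hz' : y' - ((B (T u) y' / B (T u) u) • u + (B u y' / B u (T u)) • T u) ∈ Z := by
          refine ⟨⟨sub_mem hy' (add_mem (Y.smul_mem _ hu) (Y.smul_mem _ (hTY u hu))), ?_⟩, ?_⟩
          · show B u _ = 0
            simp only [map_sub, map_add, map_smul, smul_eq_mul, hA.self_eq_zero, mul_zero, zero_add]
            rw [div_mul_cancel₀ _ huT, sub_self]
          · show B (T u) _ = 0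
            simp only [map_sub, map_add, map_smul, smul_eq_mul, hA.self_eq_zero, mul_zero, add_zero]
            rw [div_mul_cancel₀ _ hTuu, sub_self]
        have h3 := h _ hz'
        rw [map_sub, map_add, map_smul, map_smul, hneg y u, hneg y (T u), (hz y hy).1, (hz y hy).2] at h3
        simpa using h3
      · let L : Y →ₗ[F] F × F := ((B u).comp Y.subtype).prod ((B (T u)).comp Y.subtype)
        have hker : Z.comap Y.subtype = LinearMap.ker L := by
          ext y
          simp [Z, L, Submodule.mem_inf, Prod.ext_iff]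
        have h1 := L.finrank_range_add_finrank_ker
        have h3 := Submodule.finrank_le (LinearMap.range L)
        rw [Module.finrank_prod, Module.finrank_self] at h3
        have h6 : finrank F (Z.comap Y.subtype) = finrank F Z :=
          (Submodule.comapSubtypeEquivOfLe (inf_le_left.trans inf_le_left : Z ≤ Y)).finrank_eq
        rw [← hker, h6] at h1
        omega
    obtain ⟨u₁, hu₁, hu₁T⟩ := hsplit Y hTY hnd (by omega)
    obtain ⟨Z₁, hZ₁, hTZ₁, hndZ₁, hdim₁, hperp₁⟩ := hcompl Y hTY hnd u₁ hu₁ hu₁T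
    obtain ⟨u₂, hu₂, hu₂T⟩ := hsplit Z₁ hTZ₁ hndZ₁ (by omega)
    obtain ⟨Z₂, hZ₂, hTZ₂, hndZ₂, hdim₂, hperp₂⟩ := hcompl Z₁ hTZ₁ hndZ₁ u₂ hu₂ hu₂T
    obtain ⟨W, hWZ, hWk, hWi, hWT⟩ := ih Z₂ hTZ₂ hndZ₂ (by omega)
    obtain ⟨a, b, hab⟩ : ∃ a b : F, a ^ 2 + b ^ 2 = -(B u₁ (T u₁) / B u₂ (T u₂)) := by
      obtain ⟨a, b, hab⟩ := FiniteField.exists_root_sum_quadratic (f := X ^ 2)
        (g := X ^ 2 + C (B u₁ (T u₁) / B u₂ (T u₂))) (degree_X_pow 2) (degree_X_pow_add_C (by norm_num) _)
        (FiniteField.odd_card_of_char_ne_two fun h => h2 (by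
          haveI : CharP F 2 := ringChar.of_eq h
          exact CharTwo.two_eq_zero))
      exact ⟨a, b, by simp at hab; linear_combination hab⟩
    set w := u₁ + (a • u₂ + b • T u₂) with hw
    have hwY : w ∈ Y := add_mem hu₁ (hZ₁ (add_mem (Z₁.smul_mem a hu₂) (Z₁.smul_mem b (hTZ₁ _ hu₂))))
    have hc1 := (hperp₁ u₂ hu₂)
    have hc2 := (hperp₁ (T u₂) (hTZ₁ _ hu₂))
    have hwT : B w (T w) = 0 := by
      have e1 : B u₂ (T u₁) = 0 := by rw [hneg, hc1.2, neg_zero]
      have e2 : B (T u₂) (T u₁) = 0 := by rw [hT, hneg, hc1.1, neg_zero]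
      have e3 : B (T u₂) u₂ = -B u₂ (T u₂) := hadj _ _
      simp only [hw, map_add, map_smul, hTT, LinearMap.add_apply, LinearMap.smul_apply, smul_eq_mul, map_neg,
        hc1.1, hc2.1, e1, e2, e3, hA.self_eq_zero, mul_zero, add_zero, zero_add, neg_zero, neg_neg]
      field_simp at hab
      linear_combination hab
    have hw0 : w ≠ 0 := fun h => hu₁T (by
      have h3 := congrArg (fun v => B v (T u₁)) h
      simp only [hw, map_add, map_smul, LinearMap.add_apply, LinearMap.smul_apply, map_zero, LinearMap.zero_apply] at h3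
      rw [hneg u₂, hc1.2, hT u₂ u₁, hneg u₂ u₁, hc1.1] at h3
      simpa using h3)
    let S := Submodule.span F (Set.range ![w, T w])
    have hS : ∀ v ∈ S, ∃ s t : F, v = s • w + t • T w := fun v hv => by
      obtain ⟨c, rfl⟩ := (Submodule.mem_span_range_iff_exists_fun F).1 hv
      exact ⟨c 0, c 1, by simp [Fin.sum_univ_two]⟩
    have hWperp : ∀ v ∈ W, B w v = 0 ∧ B (T w) v = 0 := fun v hv => by
      obtain ⟨g1, g2⟩ := hperp₁ v (hZ₂ (hWZ hv))
      obtain ⟨g3, g4⟩ := hperp₂ v (hWZ hv)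
      simp [hw, map_add, map_smul, hTT, g1, g2, g3, g4]
    have hdisj : W ⊓ S = ⊥ := by
      refine eq_bot_iff.2 fun v hv => ?_
      obtain ⟨s, t, rfl⟩ := hS v hv.2
      have g1 : B u₁ (s • w + t • T w) = 0 := (hperp₁ _ (hZ₂ (hWZ hv.1))).1
      have g2 : B (T u₁) (s • w + t • T w) = 0 := (hperp₁ _ (hZ₂ (hWZ hv.1))).2
      simp only [hw, map_add, map_smul, hTT, hc1.1, hc1.2, hc2.1, hc2.2, hA.self_eq_zero, smul_eq_mul, map_neg,
        mul_zero, add_zero, zero_add, neg_zero] at g1 g2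
      have hT1 : B (T u₁) u₁ ≠ 0 := fun h => hu₁T (by rw [hneg, h, neg_zero])
      rw [(mul_eq_zero.1 g1).resolve_right hu₁T, (mul_eq_zero.1 g2).resolve_right hT1]
      simp
    refine ⟨W ⊔ S, sup_le (hWZ.trans (hZ₂.trans hZ₁)) (Submodule.span_le.2 ?_), ?_, ?_, ?_⟩
    · rintro _ ⟨i, rfl⟩
      fin_cases i
      · exact hwY
      · exact hTY w hwY
    · have h4 := Submodule.finrank_sup_add_finrank_inf_eq W S
      rw [hdisj, finrank_bot, add_zero, hWk, finrank_span_eq_card (hpair w hw0), Fintype.card_fin] at h4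
      rw [h4]; ring
    · intro x hx y hy
      obtain ⟨x', hx', x'', hx'', rfl⟩ := Submodule.mem_sup.1 hx
      obtain ⟨y', hy', y'', hy'', rfl⟩ := Submodule.mem_sup.1 hy
      obtain ⟨s, t, rfl⟩ := hS x'' hx''
      obtain ⟨s', t', rfl⟩ := hS y'' hy''
      simp only [map_add, map_smul, LinearMap.add_apply, LinearMap.smul_apply, smul_eq_mul, hWi x' hx' y' hy',
        hA.self_eq_zero, hwT, (hWperp y' hy').1, (hWperp y' hy').2, hneg x' w, hneg x' (T w),
        (hWperp x' hx').1, (hWperp x' hx').2, hneg (T w) w, neg_zero, mul_zero, add_zero]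
    · intro x hx
      obtain ⟨x', hx', x'', hx'', rfl⟩ := Submodule.mem_sup.1 hx
      obtain ⟨s, t, rfl⟩ := hS x'' hx''
      rw [map_add, map_add, map_smul, map_smul, hTT]
      refine Submodule.add_mem_sup (hWT x' hx') (add_mem (S.smul_mem _ ?_) (S.smul_mem _ (S.neg_mem ?_)))
      · exact Submodule.subset_span ⟨1, rfl⟩
      · exact Submodule.subset_span ⟨0, rfl⟩

end Involutions

/-- The case `r = 2`. -/
theorem two_case {F : Type*} [Field F] [Fintype F] {d m : ℕ} (hd : 0 < d) (h2 : (2 : F) ≠ 0) (hmd : m ≤ d) :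
    (∀ x : ↥(Matrix.symplecticGroup (Fin d) F),
      (∃ z : F, ((x ^ 2 : ↥(Matrix.symplecticGroup (Fin d) F)) : Matrix (Fin d ⊕ Fin d) (Fin d ⊕ Fin d) F) = z • (1 : Matrix (Fin d ⊕ Fin d) (Fin d ⊕ Fin d) F)) →
      (∀ z : F, (x : Matrix (Fin d ⊕ Fin d) (Fin d ⊕ Fin d) F) ≠ z • (1 : Matrix (Fin d ⊕ Fin d) (Fin d ⊕ Fin d) F)) →
      Fixes m (x : Matrix (Fin d ⊕ Fin d) (Fin d ⊕ Fin d) F)) ↔
    (Even m ∨ Fintype.card F % 4 = 1) := by
  classical
  haveI : NeZero d := ⟨by omega⟩
  have hB := Symp.spB_nondegenerate d F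
  have hA := Symp.spB_isAlt d F
  have hodd : Fintype.card F % 2 = 1 := by
    refine FiniteField.odd_card_of_char_ne_two fun h => h2 ?_
    haveI : CharP F 2 := ringChar.of_eq h
    exact CharTwo.two_eq_zero
  have hneg1 : (∃ c : F, c * c = -1) ↔ Fintype.card F % 4 ≠ 3 := by
    rw [← FiniteField.isSquare_neg_one_iff]
    exact ⟨fun ⟨c, hc⟩ => ⟨c, hc.symm⟩, fun ⟨c, hc⟩ => ⟨c, hc.symm⟩⟩
  constructor
  · intro hall
    by_contra hcon
    push Not at hcon
    obtain ⟨hmo, hq4⟩ := hcon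
    rw [Nat.not_even_iff_odd] at hmo
    let x : Matrix.symplecticGroup (Fin d) F := ⟨Matrix.J (Fin d) F, SymplecticGroup.J_mem _ _⟩
    obtain ⟨W, hWm, -, hWinv⟩ := hall x
      ⟨-1, by rw [SubmonoidClass.coe_pow, pow_two, Matrix.J_squared, neg_one_smul]⟩
      (fun z hz => by
        have h := congrFun (congrFun hz (Sum.inl 0)) (Sum.inr 0)
        simp [x, Matrix.J] at h)
    have hinv : ∀ v ∈ W, Matrix.toLin' (Matrix.J (Fin d) F) v ∈ W := fun v hv => hWinv (Submodule.mem_map_of_mem hv)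
    let S : W →ₗ[F] W := (Matrix.toLin' (Matrix.J (Fin d) F)).restrict hinv
    have hSS : S * S = (-1 : F) • LinearMap.id := LinearMap.ext fun v => Subtype.ext (by
      show Matrix.toLin' (Matrix.J (Fin d) F) (Matrix.toLin' (Matrix.J (Fin d) F) v) = _
      rw [Matrix.toLin'_apply, Matrix.toLin'_apply, Matrix.mulVec_mulVec, Matrix.J_squared, Matrix.neg_mulVec,
        Matrix.one_mulVec]
      simp)
    have hdet : LinearMap.det (S * S) = -1 := by
      rw [hSS, LinearMap.det_smul, hWm, LinearMap.det_id, hmo.neg_one_pow, mul_one]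
    rw [map_mul] at hdet
    have := hneg1.1 ⟨_, hdet⟩
    omega
  · intro hcase x ⟨z, hz⟩ _
    have hz2 : z * z = 1 := by
      have h := SymplecticGroup.mem_iff'.mp ((x ^ 2 : Matrix.symplecticGroup (Fin d) F)).2
      rw [hz, Matrix.transpose_smul, Matrix.transpose_one, smul_mul_assoc, one_mul, mul_smul_comm, mul_one,
        smul_smul] at h
      have h' := congrFun (congrFun h (Sum.inr 0)) (Sum.inl 0)
      simpa [Matrix.J] using h'
    let T := Matrix.toLin' (x : Matrix (Fin d ⊕ Fin d) (Fin d ⊕ Fin d) F)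
    have hTT : ∀ v, T (T v) = z • v := fun v => by
      rw [Matrix.toLin'_apply, Matrix.toLin'_apply, Matrix.mulVec_mulVec, ← pow_two, ← SubmonoidClass.coe_pow, hz]
      simp [Matrix.smul_mulVec]
    have hT : ∀ u v, Symp.spB d F (T u) (T v) = Symp.spB d F u v := fun u v => by
      simpa [T] using (Symp.mem_symplecticGroup_iff _).1 x.2 u v
    have hsq : ∀ c : F, c * c = z → Fixes m (x : Matrix (Fin d ⊕ Fin d) (Fin d ⊕ Fin d) F) := fun c hc => by
      obtain ⟨W, h1, h3, h4⟩ := exists_of_sq hB hA h2 (T := T) (c := c) (fun h => by simp [← hc, h] at hz2)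
        (fun v => by rw [hTT, hc]) hT (m := m) (by rw [Symp.finrank_space]; omega)
      exact ⟨W, h1, fun u hu v hv => by rw [← Symp.spB_apply]; exact h3 u hu v hv, h4⟩
    rcases mul_self_eq_one_iff.1 hz2 with rfl | rfl
    · exact hsq 1 (one_mul 1)
    · by_cases hns : ∃ c : F, c * c = -1
      · exact hsq _ hns.choose_spec
      · rcases hcase with hme | hq4
        · obtain ⟨k, rfl⟩ := hme
          obtain ⟨W, -, h1, h3, h4⟩ := exists_of_neg_one hA h2 (fun a ha => hns ⟨a, ha⟩) (T := T)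
            (fun v => by rw [hTT, neg_one_smul]) hT k ⊤ (fun y _ => Submodule.mem_top)
            (fun y _ h => hB.1 y fun y' => h y' Submodule.mem_top)
            (by rw [finrank_top, Symp.finrank_space]; omega)
          exact ⟨W, by omega, fun u hu v hv => by rw [← Symp.spB_apply]; exact h3 u hu v hv,
            Submodule.map_le_iff_le_comap.2 h4⟩
        · exact absurd (hneg1.2 (by omega)) hns

/-- A multiplicity function with prescribed value at zero. -/
theorem exists_inv_fixed {r : ℕ} [Fact r.Prime] (w : (ZMod r)ˣ) (f K : ℕ) :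
    ∃ m : ZMod r → ℕ, Inv w (f + K * orderOf w) m ∧ m 0 = f ∧ ∀ x, x ≠ 0 → m x = 0 ∨ m x = K := by
  classical
  refine ⟨fun y => (if y = 0 then f else 0) + K * (if y ∈ orbit w 1 then 1 else 0), ⟨?_, fun y => ?_⟩, ?_⟩
  · rw [Finset.sum_add_distrib, Finset.sum_ite_eq', if_pos (Finset.mem_univ _), ← Finset.mul_sum, Finset.sum_boole,
      Finset.filter_mem_eq_inter, Finset.univ_inter, card_orbit w one_ne_zero]
    rfl
  · exact congrArg₂ (· + ·) (if_congr (by simp) rfl rfl) (congrArg (K * ·) (if_congr (orbit_indicator w 1 y) rfl rfl))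
  · have h0 : (0 : ZMod r) ∉ orbit w 1 := fun h => by
      obtain ⟨l, hl⟩ := mem_orbit.mp h
      exact mul_ne_zero (pow_ne_zero _ w.ne_zero) one_ne_zero hl.symm
    refine ⟨by simp [h0], fun x hx => ?_⟩
    by_cases hxo : x ∈ orbit w 1 <;> simp [hx, hxo]

/-- Elements of prime order of PSp_n(q) with no fixed totally isotropic `m`-space. Here `T = PSp_n(q)` with `n = 2d ≥ 4`, `(n, q) ≠ (4, 2)`, realised through the symplectic matrices over the field `F` with `q` elements (preserving the standard alternating form); an element of `T` of prime order `r` is such a matrix `x` with `x^r` scalar and `x` not scalar. For `r ≠ p` let `i` be the multiplicative order of `q` modulo `r`, `c = i` for `i` even and `c = 2i` for `i` odd, and write `k = n mod c`, `ℓ = m mod i`, `ℓ' = m mod c`, `n' = ⌊n/i⌋`, `m' = ⌊m/i⌋`, `t = (r−1)/i`. Let `1 ≤ m ≤ n/2` and let `r` be a prime dividing the number of totally isotropic `m`-spaces. Then every element of `T` of order `r` fixes a totally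 isotropic `m`-space if and only if either (i) `r = 2 ≠ p` and (`m` is even or `q ≡ 1 (mod 4)`); or (ii) `r ≠ p`, `r > 2`, `i ≤ m`, `k ≥ 2ℓ`, and (`i` is odd or `n' − 2m' ≥ t`). -/
theorem result {F : Type*} [Field F] [Fintype F] {p : ℕ} [Fact p.Prime] [CharP F p] {q : ℕ} (hq : Fintype.card F = q)
    (d m : ℕ) (hd : 2 ≤ d) (hT : (d, q) ≠ (2, 2)) (hm : 1 ≤ m) (hmd : m ≤ d)
    (r : ℕ) [Fact r.Prime]
    (hrΩ : r ∣ Nat.card {W : Submodule F (Fin d ⊕ Fin d → F) // Module.finrank F ↥W = m ∧ (∀ u ∈ W, ∀ v ∈ W, Cfsg.sympForm d F u v = 0)})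
    (i c : ℕ) (hi : i = orderOf (q : ZMod r)) (hc : c = if Even i then i else 2 * i) :
    (∀ x : ↥(Matrix.symplecticGroup (Fin d) F),
      (∃ z : F, ((x ^ r : ↥(Matrix.symplecticGroup (Fin d) F)) : Matrix (Fin d ⊕ Fin d) (Fin d ⊕ Fin d) F) = z • (1 : Matrix (Fin d ⊕ Fin d) (Fin d ⊕ Fin d) F)) →
      (∀ z : F, (x : Matrix (Fin d ⊕ Fin d) (Fin d ⊕ Fin d) F) ≠ z • (1 : Matrix (Fin d ⊕ Fin d) (Fin d ⊕ Fin d) F)) →
      ∃ W : Submodule F (Fin d ⊕ Fin d → F), Module.finrank F ↥W = m ∧ (∀ u ∈ W, ∀ v ∈ W, Cfsg.sympForm d F u v = 0) ∧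
        W.map (Matrix.toLin' (x : Matrix (Fin d ⊕ Fin d) (Fin d ⊕ Fin d) F)) ≤ W) ↔
    ((r = 2 ∧ p ≠ 2 ∧ (Even m ∨ q % 4 = 1)) ∨
     (r ≠ p ∧ 2 < r ∧ i ≤ m ∧ 2 * (m % i) ≤ (2 * d) % c ∧ (Odd i ∨ (r - 1) / i + 2 * (m / i) ≤ (2 * d) / i))) := by
  classical
  subst hq
  obtain ⟨hr⟩ := (inferInstance : Fact r.Prime)
  haveI : NeZero d := ⟨by omega⟩
  -- a totally isotropic subspace
  let E : (Fin m → F) →ₗ[F] (Fin d ⊕ Fin d → F) :=
    { toFun := fun a => Sum.elim (fun j => if h : (j : ℕ) < m then a ⟨j, h⟩ else 0) 0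
      map_add' := fun a b => by ext (j | j) <;> simp <;> split_ifs <;> simp
      map_smul' := fun a b => by ext (j | j) <;> simp }
  have hE : Function.Injective E := fun a b h => funext fun j => by
    simpa [E] using congrFun h (Sum.inl (Fin.castLE hmd j))
  have hW₀ : finrank F (LinearMap.range E) = m := by
    rw [LinearMap.finrank_range_of_inj hE, Module.finrank_fin_fun]
  have hW₀i : ∀ u ∈ LinearMap.range E, ∀ v ∈ LinearMap.range E, Cfsg.sympForm d F u v = 0 := by
    rintro _ ⟨a, rfl⟩ _ ⟨b, rfl⟩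
    simp [E, Cfsg.sympForm, Matrix.J, Matrix.fromBlocks_mulVec, dotProduct, Fintype.sum_sum_type]
  obtain ⟨j, hj1, hj2, hrj⟩ := exists_dvd_of_dvd_count hr hmd hW₀ hW₀i hrΩ
  have hrp : r ≠ p := by
    rintro rfl
    obtain ⟨k, -, hk⟩ := FiniteField.card F r
    have h1 : r ∣ Fintype.card F ^ (2 * j) := by
      rw [hk, ← pow_mul]; exact dvd_pow_self r (Nat.mul_ne_zero k.pos.ne' (by omega))
    have h3 := Nat.dvd_sub h1 hrj
    rw [Nat.sub_sub_self (Nat.one_le_pow _ _ Fintype.card_pos)] at h3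
    exact hr.one_lt.ne' (Nat.dvd_one.1 h3)
  let L := AlgebraicClosure F
  haveI : CharP L p := charP_of_injective_algebraMap (algebraMap F L).injective p
  have hrL : (r : L) ≠ 0 := fun h =>
    hrp ((Nat.prime_dvd_prime_iff_eq Fact.out hr).mp ((CharP.cast_eq_zero_iff L p r).mp h)).symm
  have hrF : (r : F) ≠ 0 := fun h => hrL (by rw [← map_natCast (algebraMap F L), h, map_zero])
  by_cases hr2 : r = 2
  · subst hr2
    have h2 : (2 : F) ≠ 0 := by exact_mod_cast hrF
    refine (two_case (by omega) h2 hmd).trans ⟨fun h => Or.inl ⟨rfl, fun e => hrp e.symm, h⟩, ?_⟩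
    rintro (⟨-, -, h⟩ | ⟨-, h, -⟩)
    · exact h
    · exact absurd h (lt_irrefl 2)
  haveI : NeZero (r : L) := ⟨hrL⟩
  obtain ⟨ζ, hζ⟩ := HasEnoughRootsOfUnity.exists_primitiveRoot L r
  have hrq : ¬ r ∣ Fintype.card F := fun h => by
    obtain ⟨k, -, hk⟩ := FiniteField.card F p
    rw [hk] at h
    exact hrp ((Nat.prime_dvd_prime_iff_eq hr Fact.out).mp (hr.dvd_of_dvd_pow h))
  let uq : (ZMod r)ˣ := Units.mk0 _ (fun h => hrq ((ZMod.natCast_eq_zero_iff _ _).1 h) : (Fintype.card F : ZMod r) ≠ 0)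
  have huq : (uq : ZMod r) = (Fintype.card F : ZMod r) := rfl
  have hiu : orderOf uq = i := by rw [hi, ← orderOf_units, huq]
  obtain ⟨w, hw, hwq, hwn, hwo⟩ := exists_gen hr2 uq
  rw [hiu] at hwo
  have hwc : orderOf w = c := by
    rw [hwo, hc]
    by_cases he : Even i
    · rw [if_pos he, if_neg (Nat.not_odd_iff_even.mpr he)]
    · rw [if_neg he, if_pos (Nat.not_even_iff_odd.mp he)]
  have hi0 : 0 < i := hiu ▸ orderOf_pos uq
  have hc0 : 0 < c := hwc ▸ orderOf_pos w
  have hce : 2 ∣ c := by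
    rw [hc]
    split_ifs with he
    · exact even_iff_two_dvd.1 he
    · exact dvd_mul_right 2 i
  have hci : i ∣ c := by
    rw [hc]
    split_ifs with he
    · exact dvd_rfl
    · exact dvd_mul_left i 2
  have hir : i ∣ r - 1 := by
    rw [← hiu, ← ZMod.card_units r]
    exact orderOf_dvd_card
  -- every element of order dividing `r`
  have hdecide : ∀ (y : Matrix.symplecticGroup (Fin d) F), y ^ r = 1 → ∀ my : ZMod r → ℕ,
      (y : Matrix (Fin d ⊕ Fin d) (Fin d ⊕ Fin d) F).charpoly.map (algebraMap F L) = Pm ζ my →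
      Inv w (d + d) my → (Fixes m (y : Matrix (Fin d ⊕ Fin d) (Fin d ⊕ Fin d) F) ↔
        ∃ μ : ZMod r → ℕ, Inv uq m μ ∧ ∀ x, μ x + μ (-x) ≤ my x) := fun y hy my hmy hinv => by
    refine fixes_iff hζ hrL hrF huq hr2 w hw hwq hwn hmd y hy hmy hinv ?_
    obtain ⟨K, hK⟩ := hce.trans (dvd_sum_erase w hwc _ _ hinv)
    have := hinv.1 ▸ Finset.single_le_sum (f := my) (fun y _ => Nat.zero_le _) (Finset.mem_univ (0 : ZMod r))
    exact ⟨d - K, by omega⟩
  -- a condition on multiplicity functions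
  have htrans : (∀ x : ↥(Matrix.symplecticGroup (Fin d) F),
      (∃ z : F, ((x ^ r : ↥(Matrix.symplecticGroup (Fin d) F)) : Matrix (Fin d ⊕ Fin d) (Fin d ⊕ Fin d) F) = z • (1 : Matrix (Fin d ⊕ Fin d) (Fin d ⊕ Fin d) F)) →
      (∀ z : F, (x : Matrix (Fin d ⊕ Fin d) (Fin d ⊕ Fin d) F) ≠ z • (1 : Matrix (Fin d ⊕ Fin d) (Fin d ⊕ Fin d) F)) →
      Fixes m (x : Matrix (Fin d ⊕ Fin d) (Fin d ⊕ Fin d) F)) ↔
      ∀ my : ZMod r → ℕ, Inv w (d + d) my → ∃ μ : ZMod r → ℕ, Inv uq m μ ∧ ∀ x, μ x + μ (-x) ≤ my x := by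
    constructor
    · intro hall my hinv
      have he : Even (my 0) := by
        obtain ⟨K, hK⟩ := hce.trans (dvd_sum_erase w hwc _ _ hinv)
        have := hinv.1 ▸ Finset.single_le_sum (f := my) (fun y _ => Nat.zero_le _) (Finset.mem_univ (0 : ZMod r))
        exact ⟨d - K, by omega⟩
      obtain ⟨P, hP, -, hPm⟩ := altReal_any (F := F) hζ huq hr2 w hwq hwn hinv he
      obtain ⟨g, hg, hgp⟩ := exists_sp_of_altReal (m := d) hP (by
        rw [← natDegree_map (algebraMap F L), hPm, Pm_natDegree, hinv.1])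
      rw [← hgp] at hPm
      rw [← hdecide g hg my hPm hinv]
      by_cases hsc : ∃ z : F, (g : Matrix (Fin d ⊕ Fin d) (Fin d ⊕ Fin d) F) = z • 1
      · obtain ⟨z, hz⟩ := hsc
        refine ⟨_, hW₀, hW₀i, ?_⟩
        rw [hz]
        rintro _ ⟨v, hv, rfl⟩
        rw [Matrix.toLin'_apply, Matrix.smul_mulVec, Matrix.one_mulVec]
        exact Submodule.smul_mem _ _ hv
      · exact hall g ⟨1, by rw [hg, one_smul]; rfl⟩ fun z hz => hsc ⟨z, hz⟩
    · intro hall x ⟨z, hxz⟩ _
      rw [SubmonoidClass.coe_pow] at hxz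
      have hz2 : z * z = 1 := by
        have h := SymplecticGroup.mem_iff'.mp ((x ^ r : Matrix.symplecticGroup (Fin d) F)).2
        rw [SubmonoidClass.coe_pow, hxz, Matrix.transpose_smul, Matrix.transpose_one, smul_mul_assoc, one_mul,
          mul_smul_comm, mul_one, smul_smul] at h
        have h' := congrFun (congrFun h (Sum.inr 0)) (Sum.inl 0)
        simpa [Matrix.J] using h'
      have hymem : z • (x : Matrix (Fin d ⊕ Fin d) (Fin d ⊕ Fin d) F) ∈ Matrix.symplecticGroup (Fin d) F := by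
        rw [SymplecticGroup.mem_iff', Matrix.transpose_smul, smul_mul_assoc, smul_mul_assoc, mul_smul_comm, smul_smul,
          SymplecticGroup.mem_iff'.mp x.2, hz2, one_smul]
      let y : Matrix.symplecticGroup (Fin d) F := ⟨_, hymem⟩
      have hy : y ^ r = 1 := by
        refine Subtype.ext ?_
        rw [SubmonoidClass.coe_pow]
        show (z • (x : Matrix (Fin d ⊕ Fin d) (Fin d ⊕ Fin d) F)) ^ r = 1
        obtain ⟨k, hk⟩ := hr.odd_of_ne_two hr2
        rw [_root_.smul_pow, hxz, smul_smul, hk, ← pow_succ, show 2 * k + 1 + 1 = 2 * (k + 1) by omega, pow_mul, pow_two, hz2,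
          one_pow, one_smul]
      obtain ⟨my, hmy, hinv, -⟩ := exists_mult_sp hζ hrL hrF huq w hw y hy
      obtain ⟨W, h1, h3, h4⟩ := (hdecide y hy my hmy hinv).2 (hall my hinv)
      refine ⟨W, h1, h3, ?_⟩
      have hz : z ≠ 0 := fun h => by simp [h] at hz2
      rw [show ((y : Matrix.symplecticGroup (Fin d) F) : Matrix (Fin d ⊕ Fin d) (Fin d ⊕ Fin d) F) =
        z • (x : Matrix (Fin d ⊕ Fin d) (Fin d ⊕ Fin d) F) from rfl, map_smul, Submodule.map_smul _ W z hz] at h4
      exact h4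
  refine htrans.trans ?_
  have hd2 : d + d = 2 * d := (two_mul d).symm
  have hrgt : 2 < r := lt_of_le_of_ne hr.two_le (Ne.symm hr2)
  have hkdiv := Nat.div_add_mod (2 * d) c
  have hmdiv := Nat.div_add_mod m i
  have hlt : 2 * d % c < c := Nat.mod_lt _ hc0
  have hmlt : m % i < i := Nat.mod_lt _ hi0
  have hcle : c ≤ 2 * i := by rw [hc]; split_ifs <;> omega
  -- the fixed part of a subspace
  have hfixpart : ∀ μ : ZMod r → ℕ, Inv uq m μ → μ 0 ≤ m ∧ i ∣ m - μ 0 := fun μ hμ =>
    ⟨hμ.1 ▸ Finset.single_le_sum (f := μ) (fun y _ => Nat.zero_le _) (Finset.mem_univ (0 : ZMod r)),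
      dvd_sum_erase uq hiu _ _ hμ⟩
  have htwo : ∀ μ : ZMod r → ℕ, Inv uq m μ → ∀ my : ZMod r → ℕ, (∀ x, μ x + μ (-x) ≤ my x) → 2 * μ 0 ≤ my 0 :=
    fun μ _ my h => by
      have := h 0
      rw [neg_zero] at this
      omega
  -- invariant functions from their moved part
  have hbuild : ∀ (μ₀ : ZMod r → ℕ) (J : ℕ) (my : ZMod r → ℕ), Inv uq (J * i) μ₀ → μ₀ 0 = 0 →
      (∀ x, μ₀ x + μ₀ (-x) ≤ my x) → J * i ≤ m → 2 * (m - J * i) ≤ my 0 →
      ∃ μ : ZMod r → ℕ, Inv uq m μ ∧ ∀ x, μ x + μ (-x) ≤ my x := by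
    intro μ₀ J my hμ h0 hle hJ hs
    refine ⟨fun x => μ₀ x + if x = 0 then m - J * i else 0, ⟨?_, fun x => ?_⟩, fun x => ?_⟩
    · rw [Finset.sum_add_distrib, hμ.1, Finset.sum_ite_eq', if_pos (Finset.mem_univ _)]
      omega
    · show μ₀ _ + _ = μ₀ x + if x = 0 then m - J * i else 0
      rw [hμ.2]
      exact congrArg (μ₀ x + ·) (if_congr (by simp) rfl rfl)
    · show μ₀ x + (if x = 0 then m - J * i else 0) + (μ₀ (-x) + if -x = 0 then m - J * i else 0) ≤ my x
      by_cases hx : x = 0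
      · subst hx
        simp only [neg_zero, reduceIte, h0]
        omega
      · rw [if_neg hx, if_neg (neg_ne_zero.2 hx)]
        simpa using hle x
  constructor
  · intro hall
    -- the largest moved part
    obtain ⟨my, hmy, hmy0, -⟩ := exists_inv_fixed w (2 * d % c) (2 * d / c)
    rw [hwc, show 2 * d % c + 2 * d / c * c = d + d by rw [mul_comm (2 * d / c)]; omega] at hmy
    obtain ⟨μ, hμ, hle⟩ := hall my hmy
    obtain ⟨h1, K, hK⟩ := hfixpart μ hμ
    have h3 := htwo μ hμ my hle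
    rw [hmy0] at h3
    -- `c` divides some `2 j`
    have hij : c ∣ 2 * j := by
      have h5 : i ∣ 2 * j := by
        rw [← hiu]
        refine orderOf_dvd_of_pow_eq_one (Units.ext ?_)
        rw [Units.val_pow_eq_pow_val, huq, Units.val_one, ← Nat.cast_pow, eq_comm, ← sub_eq_zero,
          ← neg_sub, neg_eq_zero, ← Nat.cast_one, ← Nat.cast_sub (Nat.one_le_pow _ _ Fintype.card_pos)]
        exact (ZMod.natCast_eq_zero_iff _ _).2 hrj
      rw [hc]
      split_ifs with he
      · exact h5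
      · exact Nat.Coprime.mul_dvd_of_dvd_of_dvd
          ((Nat.Prime.coprime_iff_not_dvd Nat.prime_two).2 fun h => he (even_iff_two_dvd.2 h)) (dvd_mul_right 2 j) h5
    have hklow : 2 * d % c < 2 * m := by
      obtain ⟨e, he⟩ := hij
      have h6 : e ≤ 2 * d / c := (Nat.le_div_iff_mul_le hc0).2 (by rw [mul_comm]; omega)
      have h7 : c * e ≤ c * (2 * d / c) := Nat.mul_le_mul_left c h6
      omega
    have hKle : 0 < K := by
      rcases Nat.eq_zero_or_pos K with h | h
      · subst h; omega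
      · exact h
    have hiK : i ≤ i * K := Nat.le_mul_of_pos_right i hKle
    have hμmod : m % i ≤ μ 0 := by
      rw [show m = μ 0 + i * K by omega, Nat.add_mul_mod_self_left]
      exact Nat.mod_le _ _
    refine Or.inr ⟨hrp, hrgt, by omega, by omega, ?_⟩
    refine (Nat.even_or_odd i).symm.imp id fun hev => ?_
    by_contra hcon
    push Not at hcon
    have hci' : c = i := by rw [hc, if_pos hev]
    subst hci'
    have hneg : ∃ k : ℕ, (-1 : (ZMod r)ˣ) = uq ^ k :=
      ⟨_, neg_one_mem_of_even (by rw [hiu]; exact hev)⟩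
    set t := (r - 1) / c with ht
    have htr : t * c = r - 1 := Nat.div_mul_cancel hir
    set n := 2 * d / c with hn
    have hone : Inv w (r - 1) (fun x : ZMod r => if x = 0 then 0 else 1) := ⟨by
        rw [Finset.sum_ite, Finset.sum_const_zero, zero_add, Finset.sum_const, smul_eq_mul, mul_one,
          Finset.filter_ne', Finset.card_erase_of_mem (Finset.mem_univ _), Finset.card_univ, ZMod.card],
      fun x => if_congr (by simp) rfl rfl⟩
    -- few orbits
    rcases Nat.lt_or_ge t n with htn | hnt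
    swap
    · obtain ⟨my', hle', h0', hinv'⟩ := exists_sub_orbits w hwc n _ _ hone (by
        rw [if_pos rfl, add_zero, ← htr]
        exact Nat.mul_le_mul_right c hnt)
      have hinv2 : Inv w (d + d) (fun x => my' x + if x = 0 then 2 * d % c else 0) := by
        refine ⟨?_, fun x => ?_⟩
        · rw [Finset.sum_add_distrib, hinv'.1, Finset.sum_ite_eq', if_pos (Finset.mem_univ _), mul_comm n]
          omega
        · show my' _ + _ = my' x + if x = 0 then 2 * d % c else 0
          rw [hinv'.2]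
          exact congrArg (my' x + ·) (if_congr (by simp) rfl rfl)
      obtain ⟨ν, hν, hνle⟩ := hall _ hinv2
      have hν0 : ∀ x, x ≠ 0 → ν x = 0 := fun x hx => by
        have h5 := hνle x
        rw [inv_neg hν hneg, if_neg hx] at h5
        have h6 := hle' x
        rw [if_neg hx] at h6
        omega
      have h5 := htwo ν hν _ hνle
      rw [if_pos rfl, h0', zero_add] at h5
      have h6 := hν.1
      rw [sum_split ν, Finset.sum_eq_zero fun x hx => hν0 x (Finset.ne_of_mem_erase hx), add_zero] at h6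
      omega
    -- all orbits with odd multiplicity
    obtain ⟨e, f, hef, hf⟩ : ∃ e f, f + (t + 2 * e) * c = d + d ∧
        f = 2 * d % c + (n - (t + 2 * e)) * c ∧ n - (t + 2 * e) ≤ 1 ∧ t + 2 * e ≤ n := by
      refine ⟨(n - t) / 2, _, ?_, rfl, by omega, by omega⟩
      rw [add_assoc, ← Nat.add_mul, Nat.sub_add_cancel (by omega : t + 2 * ((n - t) / 2) ≤ n), mul_comm n]
      omega
    obtain ⟨hf, hgap, hKn⟩ := hf
    obtain ⟨m₁, hm₁, hm₁0, hm₁e⟩ := exists_inv_fixed w f (2 * e)
    have hinv2 : Inv w (d + d) (fun x => m₁ x + if x = 0 then 0 else 1) := by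
      refine ⟨?_, fun x => by
        show m₁ _ + _ = m₁ x + if x = 0 then 0 else 1
        rw [hm₁.2]
        exact congrArg (m₁ x + ·) (if_congr (by simp) rfl rfl)⟩
      rw [Finset.sum_add_distrib, hm₁.1, hone.1, hwc, ← htr, ← hef, Nat.add_mul]
      ring
    obtain ⟨ν, hν, hνle⟩ := hall _ hinv2
    have h5 := htwo ν hν _ hνle
    rw [if_pos rfl, hm₁0, add_zero] at h5
    obtain ⟨h6, J, hJ⟩ := hfixpart ν hν
    -- at most `e` pairs
    have hbound : m - ν 0 ≤ e * c := by
      have h7 := sum_split ν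
      rw [hν.1] at h7
      have h8 := sum_split m₁
      rw [hm₁.1, hm₁0, hwc] at h8
      have h9 : ∑ x ∈ Finset.univ.erase (0 : ZMod r), 2 * ν x ≤
          ∑ x ∈ Finset.univ.erase (0 : ZMod r), m₁ x := by
        refine Finset.sum_le_sum fun x hx => ?_
        have hxe : Even (m₁ x) := by
          rcases hm₁e x (Finset.ne_of_mem_erase hx) with h | h <;> rw [h]
          · exact ⟨0, rfl⟩
          · exact ⟨e, two_mul e⟩
        have h10 := hνle x
        rw [inv_neg hν hneg, if_neg (Finset.ne_of_mem_erase hx)] at h10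
        obtain ⟨b, hb⟩ := hxe
        omega
      rw [← Finset.mul_sum, ← (Nat.sub_eq_of_eq_add' h7 : m - ν 0 = _)] at h9
      have h11 : 2 * e * c = 2 * (e * c) := mul_assoc _ _ _
      omega
    have hJe : J ≤ e := Nat.le_of_mul_le_mul_left (by rw [mul_comm c e]; omega) hc0
    have hfc : f < 2 * c := by
      have : (n - (t + 2 * e)) * c ≤ c := by
        calc _ ≤ 1 * c := Nat.mul_le_mul_right c hgap
          _ = c := one_mul c
      omega
    -- so the fixed part is as small as possible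
    have hJm : m / c ≤ J := by
      by_contra hJm
      push Not at hJm
      have : c * (J + 1) ≤ c * (m / c) := Nat.mul_le_mul_left c hJm
      rw [Nat.mul_add, mul_one] at this
      omega
    omega
  · rintro (⟨h, -⟩ | ⟨-, -, him, hkl, hcond⟩) my hinv
    · exact absurd h hr2
    have hf0 : my 0 ≤ d + d :=
      hinv.1 ▸ Finset.single_le_sum (f := my) (fun y _ => Nat.zero_le _) (Finset.mem_univ (0 : ZMod r))
    obtain ⟨K, hK⟩ := dvd_sum_erase w hwc _ _ hinv
    have hkf : 2 * d % c ≤ my 0 := by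
      rw [show 2 * d = my 0 + c * K by omega, Nat.add_mul_mod_self_left]
      exact Nat.mod_le _ _
    rcases Nat.even_or_odd i with hev | hodd
    · have hneg : ∃ k : ℕ, (-1 : (ZMod r)ˣ) = uq ^ k := ⟨_, neg_one_mem_of_even (by rw [hiu]; exact hev)⟩
      obtain ⟨J₀, hJ₀, hJ⟩ := exists_half_even uq (inv_of_pow hinv hwq) hneg
      obtain ⟨μ₀, hμ₀, h0, hle⟩ := hJ (min J₀ (m / i)) (min_le_left _ _)
      rw [hiu] at hμ₀ hJ₀
      have hci' : c = i := by rw [hc, if_pos hev]
      subst hci'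
      refine hbuild μ₀ _ my hμ₀ h0 hle ((Nat.mul_le_mul_right c (min_le_right _ _)).trans (Nat.div_mul_le_self m c)) ?_
      rcases le_total (m / c) J₀ with h | h
      · rw [min_eq_right h, mul_comm (m / c)]
        omega
      · rw [min_eq_left h]
        have hcond' := hcond.resolve_left (Nat.not_odd_iff_even.mpr hev)
        have h3 : ((r - 1) / c + 2 * (m / c)) * c ≤ 2 * d / c * c := Nat.mul_le_mul_right c hcond'
        rw [Nat.add_mul, Nat.div_mul_cancel hir, mul_assoc 2, mul_comm (m / c), mul_comm (2 * d / c)] at h3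
        omega
    · have hne : ∀ l : ℕ, (-1 : ZMod r) ≠ (uq : ZMod r) ^ l := fun l hl => by
        have h1 : (-1 : (ZMod r)ˣ) = uq ^ l := Units.ext (by rw [Units.val_neg, Units.val_one, hl, Units.val_pow_eq_pow_val])
        have h3 := congrArg (· ^ i) h1
        beta_reduce at h3
        rw [hodd.neg_pow, one_pow, ← pow_mul, mul_comm l, pow_mul, ← hiu, pow_orderOf_eq_one, one_pow] at h3
        exact neg_ne_self hr2 one_ne_zero (by simpa using congrArg Units.val h3)
      have hc2 : c = 2 * i := by rw [hc, if_neg (Nat.not_even_iff_odd.mpr hodd)]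
      subst hc2
      obtain ⟨μ₀, hμ₀, h0, hle⟩ := exists_half uq hne (min K (m / i)) _ my (inv_of_pow hinv hwq) (inv_neg hinv hwn) (by
        rw [hiu]
        have := Nat.mul_le_mul_right (2 * i) (min_le_left K (m / i))
        rw [mul_comm K] at this
        omega)
      rw [hiu] at hμ₀
      refine hbuild μ₀ _ my hμ₀ h0 hle ((Nat.mul_le_mul_right i (min_le_right _ _)).trans (Nat.div_mul_le_self m i)) ?_
      rcases le_total (m / i) K with h | h
      · rw [min_eq_right h, mul_comm (m / i)]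
        omega
      · rw [min_eq_left h, mul_comm K i]
        rw [mul_assoc] at hK
        omega

end Cfsg.Agent.S5955
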