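import Cfsg.Statements.S2574
import Cfsg.Agent.Lib.Linear.SymplecticGroup

set_option autoImplicit false
open Cfsg Module Cfsg.Lib.Linear

namespace Cfsg.Agent.S2574

theorem finrank_ker_pow_le {F V : Type*} [Field F] [AddCommGroup V] [Module F V] [FiniteDimensional F V]
    (N : V →ₗ[F] V) (h1 : finrank F (LinearMap.ker N) ≤ 1) : ∀ j, finrank F (LinearMap.ker (N ^ j)) ≤ j := by
  intro j
  induction j with
  | zero => rw [pow_zero, Module.End.one_eq_id, LinearMap.ker_id, finrank_bot]
  | succ j ih =>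
    let g : LinearMap.ker (N ^ (j + 1)) →ₗ[F] LinearMap.ker (N ^ j) :=
      N.restrict fun x hx => by
        rw [LinearMap.mem_ker] at hx ⊢
        rwa [pow_succ, Module.End.mul_apply] at hx
    have h2 := LinearMap.finrank_range_add_finrank_ker g
    have h3 : finrank F (LinearMap.range g) ≤ j := (Submodule.finrank_le _).trans ih
    have h4 : finrank F (LinearMap.ker g) ≤ finrank F (LinearMap.ker N) := by
      let i : LinearMap.ker g →ₗ[F] LinearMap.ker N :=
        LinearMap.codRestrict _ ((LinearMap.ker (N ^ (j + 1))).subtype ∘ₗ (LinearMap.ker g).subtype) fun x => by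
          rw [LinearMap.mem_ker]
          exact congrArg Subtype.val (LinearMap.mem_ker.1 x.2)
      refine LinearMap.finrank_le_finrank_of_injective (f := i) fun x y h => ?_
      exact Subtype.ext (Subtype.ext (congrArg (fun z : LinearMap.ker N => (z : V)) h))
    omega

theorem main {F : Type*} [Field F] [Finite F] {m : ℕ} (u : Matrix.symplecticGroup (Fin m) F) (hnil : ((u : Matrix (Fin m ⊕ Fin m) (Fin m ⊕ Fin m) F) - 1) ^ (2 * m) = 0) (hreg : ((u : Matrix (Fin m ⊕ Fin m) (Fin m ⊕ Fin m) F) - 1).rank = 2 * m - 1) (W : Submodule F (Fin m ⊕ Fin m → F)) (hW : ∀ v ∈ W, (u : Matrix (Fin m ⊕ Fin m) (Fin m ⊕ Fin m) F).mulVec v ∈ W) (hdim : 2 * Module.finrank F W ≤ 2 * m) : ∀ v ∈ W, ∀ w ∈ W, Cfsg.sympForm m F v w = 0 := by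
  classical
  set B := Symp.spB m F with hBdef
  set A := (u : Matrix (Fin m ⊕ Fin m) (Fin m ⊕ Fin m) F) with hA
  set A' := ((u⁻¹ : Matrix.symplecticGroup (Fin m) F) : Matrix (Fin m ⊕ Fin m) (Fin m ⊕ Fin m) F) with hA'
  have hAA' : A * A' = 1 := congrArg Subtype.val (mul_inv_cancel u)
  have hA'A : A' * A = 1 := congrArg Subtype.val (inv_mul_cancel u)
  set N : (Fin m ⊕ Fin m → F) →ₗ[F] (Fin m ⊕ Fin m → F) := Matrix.mulVecLin (A - 1) with hN
  set N' : (Fin m ⊕ Fin m → F) →ₗ[F] (Fin m ⊕ Fin m → F) := Matrix.mulVecLin (A' - 1) with hN'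
  have hadj : ∀ x y, B (N x) y = B x (N' y) := by
    intro x y
    have h1 : B (A.mulVec x) y = B x (A'.mulVec y) := by
      have h2 := (Symp.mem_symplecticGroup_iff _).1 u.2 x (A'.mulVec y)
      rwa [← hA, Matrix.mulVec_mulVec, hAA', Matrix.one_mulVec] at h2
    simp only [hN, hN', Matrix.mulVecLin_apply, Matrix.sub_mulVec, Matrix.one_mulVec, map_sub,
      LinearMap.sub_apply, h1]
  have hadjp : ∀ a x y, B ((N ^ a) x) y = B x ((N' ^ a) y) := by
    intro a
    induction a with
    | zero => intro x y; rfl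
    | succ a ih =>
      intro x y
      rw [pow_succ, Module.End.mul_apply, ih, hadj, ← Module.End.mul_apply, ← pow_succ']
  have hN'N : N' = (-Matrix.mulVecLin A') * N := by
    rw [hN, hN', Module.End.mul_eq_comp]
    have h2 : A' - 1 = (-A') * (A - 1) := by rw [neg_mul, Matrix.mul_sub, hA'A, Matrix.mul_one, neg_sub]
    rw [h2, Matrix.mulVecLin_mul]
    refine LinearMap.ext fun x => ?_
    simp [Matrix.neg_mulVec]
  have hcomm : Commute (-Matrix.mulVecLin A') N := by
    show -Matrix.mulVecLin A' * N = N * -Matrix.mulVecLin A'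
    rw [hN, Module.End.mul_eq_comp, Module.End.mul_eq_comp]
    refine LinearMap.ext fun x => ?_
    simp [Matrix.mulVec_mulVec, Matrix.mulVec_sub, Matrix.mulVec_neg, Matrix.neg_mulVec, Matrix.sub_mul, Matrix.mul_sub, hA'A, hAA']
  have hNz : N ^ (2 * m) = 0 := by
    refine LinearMap.ext fun x => ?_
    rw [hN, ← Matrix.toLin'_apply', ← Matrix.toLin'_pow, hnil]
    simp
  have hvan : ∀ a b, 2 * m ≤ a + b → ∀ x y, B ((N ^ a) x) ((N ^ b) y) = 0 := by
    intro a b hab x y
    have h0 : N ^ (a + b) = 0 := by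
      obtain ⟨c, hc⟩ := Nat.exists_eq_add_of_le hab
      rw [hc, pow_add, hNz, zero_mul]
    rw [hadjp, hN'N, hcomm.mul_pow, Module.End.mul_apply,
      show (N ^ a) ((N ^ b) y) = 0 by rw [← Module.End.mul_apply, ← pow_add, h0]; rfl]
    simp
  have hV : finrank F (Fin m ⊕ Fin m → F) = 2 * m := by simp; ring
  have hker1 : finrank F (LinearMap.ker N) ≤ 1 := by
    have h1 := LinearMap.finrank_range_add_finrank_ker N
    rw [show finrank F (LinearMap.range N) = 2 * m - 1 from hreg] at h1
    omega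
  set k := finrank F W with hk
  have hWN : ∀ v ∈ W, N v ∈ W := fun v hv => by
    simp only [hN, Matrix.mulVecLin_apply, Matrix.sub_mulVec, Matrix.one_mulVec]
    exact W.sub_mem (hW v hv) hv
  have hWker : W ≤ LinearMap.ker (N ^ k) := by
    have hnilW : IsNilpotent (N.restrict hWN) := ⟨2 * m, by
      rw [Module.End.pow_restrict]
      refine LinearMap.ext fun x => Subtype.ext ?_
      simp [hNz]⟩
    have h1 : (N.restrict hWN) ^ k = 0 := by
      have h2 := LinearMap.aeval_self_charpoly (N.restrict hWN)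
      rw [hnilW.charpoly_eq_X_pow_finrank, map_pow, Polynomial.aeval_X] at h2
      exact h2
    intro v hv
    rw [Module.End.pow_restrict] at h1
    exact congrArg Subtype.val (LinearMap.congr_fun h1 ⟨v, hv⟩)
  have hker : LinearMap.ker (N ^ k) = LinearMap.range (N ^ (2 * m - k)) := by
    refine (Submodule.eq_of_le_of_finrank_le ?_ ?_).symm
    · rintro _ ⟨x, rfl⟩
      rw [LinearMap.mem_ker, ← Module.End.mul_apply, ← pow_add, show k + (2 * m - k) = 2 * m by omega, hNz]
      rfl
    · have h1 := LinearMap.finrank_range_add_finrank_ker (N ^ (2 * m - k))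
      have h2 := finrank_ker_pow_le N hker1 (2 * m - k)
      have h3 := finrank_ker_pow_le N hker1 k
      omega
  intro v hv w hw
  obtain ⟨x, rfl⟩ := (hker.le (hWker hv))
  obtain ⟨y, rfl⟩ := (hker.le (hWker hw))
  rw [← Symp.spB_apply]
  exact hvan _ _ (by omega) x y

/-- A regular unipotent element of the symplectic group has totally isotropic small invariant subspaces: over a finite field, if u ∈ Sp_2m(F) satisfies (u − 1)^(2m) = 0 and rank(u − 1) = 2m − 1, and W is a u-invariant subspace with 2 dim W ≤ 2m, then the alternating form vanishes identically on W. -/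
theorem result {F : Type*} [Field F] [Finite F] {m : ℕ} (u : Matrix.symplecticGroup (Fin m) F) (hnil : ((u : Matrix (Fin m ⊕ Fin m) (Fin m ⊕ Fin m) F) - 1) ^ (2 * m) = 0) (hreg : ((u : Matrix (Fin m ⊕ Fin m) (Fin m ⊕ Fin m) F) - 1).rank = 2 * m - 1) (W : Submodule F (Fin m ⊕ Fin m → F)) (hW : ∀ v ∈ W, (u : Matrix (Fin m ⊕ Fin m) (Fin m ⊕ Fin m) F).mulVec v ∈ W) (hdim : 2 * Module.finrank F W ≤ 2 * m) : ∀ v ∈ W, ∀ w ∈ W, Cfsg.sympForm m F v w = 0 := by
  exact main u hnil hreg W hW hdim

end Cfsg.Agent.S2574
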