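import Cfsg.Statements.S5945
import Cfsg.Agent.Lib.Linear.SymSix
open scoped Pointwise

set_option autoImplicit false
open Cfsg

namespace Cfsg.Agent.S5945

theorem stabilizer_equiv (a : Fin 6) :
    Nonempty (MulAction.stabilizer (Equiv.Perm (Fin 6)) a ≃* Equiv.Perm (Fin 5)) := by
  let f : Equiv.Perm {x : Fin 6 // x ≠ a} →* Equiv.Perm (Fin 6) := Equiv.Perm.ofSubtype
  have hr : f.range = MulAction.stabilizer (Equiv.Perm (Fin 6)) a := by
    ext g
    rw [Equiv.Perm.mem_range_ofSubtype_iff, MulAction.mem_stabilizer_iff, Equiv.Perm.smul_def]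
    constructor
    · intro h
      by_contra hne
      exact h (Equiv.Perm.mem_support.2 hne) rfl
    · intro h x hx e
      exact Equiv.Perm.mem_support.1 hx (e ▸ h)
  let e : {x : Fin 6 // x ≠ a} ≃ Fin 5 := Fintype.equivFinOfCardEq (by simp [Fintype.card_subtype_compl])
  exact ⟨(MulEquiv.subgroupCongr hr.symm).trans ((MonoidHom.ofInjective (f := f) Equiv.Perm.ofSubtype_injective).symm.trans e.permCongrHom)⟩

/-- The symmetric group S_6 has exactly 12 subgroups of index 6; each of them is isomorphic to S_5, and at least one of them is not the stabilizer of any point. -/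
theorem result : Nat.card {H : Subgroup (Equiv.Perm (Fin 6)) // H.index = 6} = 12 ∧ (∀ H : Subgroup (Equiv.Perm (Fin 6)), H.index = 6 → Nonempty (H ≃* Equiv.Perm (Fin 5))) ∧ ∃ H : Subgroup (Equiv.Perm (Fin 6)), H.index = 6 ∧ ∀ a : Fin 6, H ≠ MulAction.stabilizer (Equiv.Perm (Fin 6)) a := by
  classical
  have h6 : Fintype.card (Fin 6) = 6 := rfl
  obtain ⟨H₂, hH₂, hp₂⟩ := Cfsg.Lib.Linear.SymIdx.exists_transitive_six h6
  obtain ⟨ψ, c, hc, hψ, hψ'⟩ := Cfsg.Lib.Linear.SymIdx.exists_outer h6 H₂ hH₂ hp₂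
  let S : Fin 6 → Subgroup (Equiv.Perm (Fin 6)) := fun d => MulAction.stabilizer (Equiv.Perm (Fin 6)) d
  have hS : Function.Injective S := Cfsg.Lib.Linear.SymIdx.stabilizer_injective (by norm_num)
  let T : Fin 6 → Subgroup (Equiv.Perm (Fin 6)) := fun d => (S d).map ψ.toMonoidHom
  have hT : Function.Injective T := (Subgroup.map_injective ψ.injective).comp hS
  have hS6 : ∀ d, (S d).index = 6 := fun d => Cfsg.Lib.Linear.SymIdx.card_stabilizer_perm d
  have hT6 : ∀ d, (T d).index = 6 := fun d => (Subgroup.index_map_equiv (S d) ψ).trans (hS6 d)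
  have hTp : ∀ d, MulAction.IsPretransitive (T d) (Fin 6) := by
    intro d
    by_contra hnp
    obtain ⟨x, hx⟩ := Cfsg.Lib.Linear.SymIdx.eq_stabilizer_of_not_pretransitive (T d) (hT6 d) hnp
    apply Cfsg.Lib.Linear.SymIdx.not_pretransitive_stabilizer (ψ (Equiv.swap d c) x) (by norm_num)
    have : MulAction.stabilizer (Equiv.Perm (Fin 6)) (ψ (Equiv.swap d c) x) = H₂ := by
      rw [← Equiv.Perm.smul_def, MulAction.stabilizer_smul_eq_stabilizer_map_conj, ← hx, hc]
      exact Cfsg.Lib.Linear.SymIdx.conj_map ψ d c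
    rw [this]; exact hp₂
  have hall : ∀ H : Subgroup (Equiv.Perm (Fin 6)), H.index = 6 → (∃ d, S d = H) ∨ (∃ d, T d = H) := by
    intro H hH
    by_cases hp : MulAction.IsPretransitive H (Fin 6)
    · obtain ⟨d, hd⟩ := Cfsg.Lib.Linear.SymIdx.transitive_classify h6 ψ hψ hψ' H hH hp
      exact Or.inr ⟨d, hd.symm⟩
    · obtain ⟨x, hx⟩ := Cfsg.Lib.Linear.SymIdx.eq_stabilizer_of_not_pretransitive H hH hp
      exact Or.inl ⟨x, hx.symm⟩
  have hne : ∀ a b, S a ≠ T b := fun a b h =>
    Cfsg.Lib.Linear.SymIdx.not_pretransitive_stabilizer a (by norm_num) (by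
      show MulAction.IsPretransitive (S a) (Fin 6)
      rw [h]; exact hTp b)
  refine ⟨?_, ?_, H₂, hH₂, fun a h => ?_⟩
  · let F : Fin 6 ⊕ Fin 6 → {H : Subgroup (Equiv.Perm (Fin 6)) // H.index = 6} :=
      Sum.elim (fun d => ⟨S d, hS6 d⟩) (fun d => ⟨T d, hT6 d⟩)
    have hF : Function.Bijective F := by
      constructor
      · rintro (a | a) (b | b) h <;> have h' := congrArg Subtype.val h
        · exact congrArg Sum.inl (hS h')
        · exact absurd h' (hne a b)
        · exact absurd h'.symm (hne b a)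
        · exact congrArg Sum.inr (hT h')
      · rintro ⟨H, hH⟩
        rcases hall H hH with ⟨d, hd⟩ | ⟨d, hd⟩
        · exact ⟨Sum.inl d, Subtype.ext hd⟩
        · exact ⟨Sum.inr d, Subtype.ext hd⟩
    rw [← Nat.card_congr (Equiv.ofBijective F hF), Nat.card_sum, Nat.card_fin]
  · intro H hH
    rcases hall H hH with ⟨d, rfl⟩ | ⟨d, rfl⟩
    · exact stabilizer_equiv d
    · obtain ⟨e⟩ := stabilizer_equiv d
      exact ⟨(ψ.subgroupMap (S d)).symm.trans e⟩
  · exact Cfsg.Lib.Linear.SymIdx.not_pretransitive_stabilizer a (by norm_num) (h ▸ hp₂)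

end Cfsg.Agent.S5945
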