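import Cfsg.Statements.S0617
import Cfsg.Agent.Lib.Local.FF.Split

set_option autoImplicit false
open Cfsg

namespace Cfsg.Agent.S0617

open Subgroup Cfsg.Lib.Local.FF
open scoped commutatorElement

/-- `[U, ⨆ X i] ≤ W` from the parts. -/
theorem commutator_iSup_le {G : Type*} [Group G] {ι : Sort*} {U W : Subgroup G} {X : ι → Subgroup G}
    (hn : ∀ i, X i ≤ normalizer (W : Set G)) (h : ∀ i, ⁅U, X i⁆ ≤ W) : ⁅U, ⨆ i, X i⁆ ≤ W := by
  refine commutator_le.2 fun u hu g hg => ?_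
  suffices hgen : (⨆ i, X i) ≤
      { carrier := {g : G | g ∈ normalizer (W : Set G) ∧ ∀ u ∈ U, ⁅u, g⁆ ∈ W}
        one_mem' := ⟨one_mem _, fun u _ => by simp⟩
        mul_mem' := fun {x y} hx hy => ⟨mul_mem hx.1 hy.1, fun u hu => by
          have e : ⁅u, x * y⁆ = ⁅u, x⁆ * (x * ⁅u, y⁆ * x⁻¹) := by
            simp only [commutatorElement_def]; group
          rw [e]
          exact W.mul_mem (hx.2 u hu) ((mem_normalizer_iff.1 hx.1 _).1 (hy.2 u hu))⟩
        inv_mem' := fun {x} hx => ⟨inv_mem hx.1, fun u hu => by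
          have e : ⁅u, x⁻¹⁆ = x⁻¹ * ⁅u, x⁆⁻¹ * x⁻¹⁻¹ := by
            simp only [commutatorElement_def]; group
          rw [e]
          exact (mem_normalizer_iff.1 (inv_mem hx.1) _).1 (W.inv_mem (hx.2 u hu))⟩ } from (hgen hg).2 u hu
  exact iSup_le fun i a ha => ⟨hn i ha, fun u hu => h i (commutator_mem_commutator hu ha)⟩

/-- Structure Theorem for failure of factorization: a faithful group generated by best offenders, with self-centralizing p'-core, is a direct product of copies of SL(2, p) (p = 2 or 3), each acting on its own plane in V, which is the direct product of these planes and C_V(H). -/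
theorem result {G : Type*} [Group G] [Finite G] {p : ℕ} [Fact p.Prime] (V H : Subgroup G) (hV : Cfsg.IsElementaryAbelian p V) (hHV : H ≤ Subgroup.normalizer (V : Set G)) (hf : H ⊓ Subgroup.centralizer (V : Set G) = ⊥) (hS1 : Subgroup.centralizer (Cfsg.pPrimeCore p ↥H : Set ↥H) ≤ Cfsg.pPrimeCore p ↥H) (hS3 : H = ⨆ A : {A : Subgroup G // A ≤ H ∧ Cfsg.IsBestOffenderOn p V A}, (A : Subgroup G)) (hH1 : H ≠ ⊥) : (p = 2 ∨ p = 3) ∧ (∀ E : {E : Subgroup G // ∃ A : Subgroup G, A ≤ H ∧ Cfsg.IsBestOffenderOn p V A ∧ ⁅V, A⁆ ≠ ⊥ ∧ (∀ B : Subgroup G, B ≤ A → Cfsg.IsBestOffenderOn p V B → ⁅V, B⁆ ≠ ⊥ → B = A) ∧ E = ⁅((Cfsg.pPrimeCore p ↥H).map H.subtype), A⁆ ⊔ A}, H ≤ Subgroup.normalizer ((E : Subgroup G) : Set G) ∧ Nonempty (↥(E : Subgroup G) ≃* Matrix.SpecialLinearGroup (Fin 2) (ZMod p)) ∧ Nat.card ↥(⁅V, (E : Subgroup G)⁆) = p ^ 2) ∧ iSupIndep (fun E : {E : Subgroup G // ∃ A : Subgroup G, A ≤ H ∧ Cfsg.IsBestOffenderOn p V A ∧ ⁅V,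 A⁆ ≠ ⊥ ∧ (∀ B : Subgroup G, B ≤ A → Cfsg.IsBestOffenderOn p V B → ⁅V, B⁆ ≠ ⊥ → B = A) ∧ E = ⁅((Cfsg.pPrimeCore p ↥H).map H.subtype), A⁆ ⊔ A} => (E : Subgroup G)) ∧ (⨆ E : {E : Subgroup G // ∃ A : Subgroup G, A ≤ H ∧ Cfsg.IsBestOffenderOn p V A ∧ ⁅V, A⁆ ≠ ⊥ ∧ (∀ B : Subgroup G, B ≤ A → Cfsg.IsBestOffenderOn p V B → ⁅V, B⁆ ≠ ⊥ → B = A) ∧ E = ⁅((Cfsg.pPrimeCore p ↥H).map H.subtype), A⁆ ⊔ A}, (E : Subgroup G)) = H ∧ iSupIndep (fun o : Option {E : Subgroup G // ∃ A : Subgroup G, A ≤ H ∧ Cfsg.IsBestOffenderOn p V A ∧ ⁅V, A⁆ ≠ ⊥ ∧ (∀ B : Subgroup G, B ≤ A → Cfsg.IsBestOffenderOn p V B → ⁅V, B⁆ ≠ ⊥ → B = A) ∧ E = ⁅((Cfsg.pPrimeCore p ↥H).map H.subtype), A⁆ ⊔ A} => o.elim (V ⊓ Subgroup.centralizer (H : Set G)) (fun E => ⁅V, (E : Subgroup G)⁆)) ∧ (V ⊓ Subgroup.centralizer (H : Set G)) ⊔ (⨆ E : {E : Subgroup G // ∃ A : Subgroup G, A ≤ H ∧ Cfsg.IsBestOffenderOn p V A ∧ ⁅V, A⁆ ≠ ⊥ ∧ (∀ B : Subgroup G, B ≤ A → Cfsg.IsBestOffenderOn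 p V B → ⁅V, B⁆ ≠ ⊥ → B = A) ∧ E = ⁅((Cfsg.pPrimeCore p ↥H).map H.subtype), A⁆ ⊔ A}, ⁅V, (E : Subgroup G)⁆) = V := by
  classical
  have hs : Setup p V H := ⟨hV, hHV, hf, hS1⟩
  obtain ⟨A₀, hA₀⟩ : ∃ A, IsOne p V H A := by
    by_contra hcon
    push Not at hcon
    exact hH1 (le_bot_iff.1 (hs.le_of_forall hS3 fun B hB => absurd hB (hcon B)))
  have hof : ∀ E : {E : Subgroup G // ∃ A : Subgroup G, A ≤ H ∧ Cfsg.IsBestOffenderOn p V A ∧ ⁅V, A⁆ ≠ ⊥ ∧
      (∀ B : Subgroup G, B ≤ A → Cfsg.IsBestOffenderOn p V B → ⁅V, B⁆ ≠ ⊥ → B = A) ∧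
      E = ⁅((Cfsg.pPrimeCore p ↥H).map H.subtype), A⁆ ⊔ A},
      ∃ A, IsOne p V H A ∧ (E : Subgroup G) = block p H A := by
    rintro ⟨E, A, hAH, hA, hAV, hmin, hE⟩
    exact ⟨A, hs.isOne_of_min hAH hA hAV hmin, hE⟩
  have hto : ∀ A, IsOne p V H A → ∃ E : {E : Subgroup G // ∃ A : Subgroup G, A ≤ H ∧
      Cfsg.IsBestOffenderOn p V A ∧ ⁅V, A⁆ ≠ ⊥ ∧
      (∀ B : Subgroup G, B ≤ A → Cfsg.IsBestOffenderOn p V B → ⁅V, B⁆ ≠ ⊥ → B = A) ∧
      E = ⁅((Cfsg.pPrimeCore p ↥H).map H.subtype), A⁆ ⊔ A}, (E : Subgroup G) = block p H A := fun A hA =>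
    ⟨⟨_, A, hA.1.le, (hA.best hs).1, (hA.best hs).2.1, (hA.best hs).2.2, rfl⟩, rfl⟩
  choose a ha haE using hof
  have hother : ∀ i j, j ≠ i →
      block p H (a j) ≤ H ⊓ centralizer ((⁅V, block p H (a i)⁆ : Subgroup G) : Set G) ∧
      ⁅V, block p H (a j)⁆ ≤ V ⊓ centralizer ((block p H (a i) : Subgroup G) : Set G) := by
    intro i j hji
    rcases dichotomy hs (ha i) (ha j) with h | ⟨h1, h2⟩
    · exact absurd (Subtype.ext (by rw [haE j, haE i, block_eq_of_le hs (ha i) (ha j) h])) hji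
    · exact ⟨le_inf (block_le_H (ha j)) h1, h2⟩
  have hcover : ∀ A, IsOne p V H A → ∃ i, block p H (a i) = block p H A := fun A hA => by
    obtain ⟨i, hi⟩ := hto A hA
    exact ⟨i, by rw [← haE i, hi]⟩
  refine ⟨(block_iso hs hA₀).1, fun E => ?_, ?_, ?_, ?_, ?_⟩
  · obtain ⟨-, hiso, hc⟩ := block_iso hs (ha E)
    rw [haE E]
    exact ⟨(split hs (ha E) hS3).2.2.2, hiso, hc⟩
  · intro i
    rw [disjoint_iff, eq_bot_iff]
    refine le_trans ?_ (plane_facts hs (ha i)).2.2.2.2.1.le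
    refine le_inf (inf_le_left.trans (haE i).le) (inf_le_right.trans (iSup₂_le fun j hj => ?_))
    exact (haE j).le.trans ((hother i j hj).1.trans inf_le_right)
  · refine le_antisymm (iSup_le fun i => (haE i).le.trans (block_le_H (ha i)))
      (hs.le_of_forall hS3 fun B hB => ?_)
    obtain ⟨i, hi⟩ := hcover B hB
    refine le_trans ?_ (le_iSup _ i)
    rw [haE i, hi]
    exact le_sup_right
  · intro o
    rw [disjoint_iff, eq_bot_iff]
    cases o with
    | none =>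
      haveI := hs.hV.1
      set K' := ⨆ i, ⁅core p H, a i⁆ with hK'
      have hKQ : K' ≤ core p H := iSup_le fun i => commutator_core_le (ha i)
      have hKV : K' ≤ normalizer (V : Set G) := (hKQ.trans core_le).trans hs.hHV
      have hcop : (Nat.card K').Coprime (Nat.card V) := by
        obtain ⟨n, hn⟩ := IsPGroup.iff_card.1 (isPGroup_of_hV hs)
        rw [hn]
        exact (Cfsg.Lib.Core.coprime_card_of_le hKQ core_coprime).pow_right n
      refine le_trans ?_ (disjoint_iff.1 (Cfsg.Lib.Coprime.disjoint_commutator_centralizer hKV hcop)).le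
      refine le_inf (inf_le_right.trans (iSup₂_le fun j hj => ?_))
        (inf_le_left.trans (inf_le_right.trans (centralizer_le (hKQ.trans core_le))))
      cases j with
      | none => exact absurd rfl hj
      | some j =>
        show ⁅V, (j : Subgroup G)⁆ ≤ _
        rw [haE j, ← (fixed_block hs (ha j)).1]
        exact commutator_mono le_rfl (le_iSup (fun i => ⁅core p H, a i⁆) j)
    | some i =>
      show ⁅V, (i : Subgroup G)⁆ ⊓ _ ≤ ⊥
      rw [haE i]
      refine le_trans (inf_le_inf_left _ (iSup₂_le fun j hj => ?_)) (plane_facts hs (ha i)).2.2.1.le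
      cases j with
      | none => exact inf_le_inf_left _ (centralizer_le (block_le_H (ha i)))
      | some j =>
        show ⁅V, (j : Subgroup G)⁆ ≤ _
        rw [haE j]
        exact (hother i j fun e => hj (e ▸ rfl)).2
  · haveI := hs.hV.1
    set K' := ⨆ i, ⁅core p H, a i⁆ with hK'
    have hKQ : K' ≤ core p H := iSup_le fun i => commutator_core_le (ha i)
    have hKV : K' ≤ normalizer (V : Set G) := (hKQ.trans core_le).trans hs.hHV
    have hcop : (Nat.card K').Coprime (Nat.card V) := by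
      obtain ⟨n, hn⟩ := IsPGroup.iff_card.1 (isPGroup_of_hV hs)
      rw [hn]
      exact (Cfsg.Lib.Core.coprime_card_of_le hKQ core_coprime).pow_right n
    refine le_antisymm (sup_le inf_le_left (iSup_le fun i => ?_)) ?_
    · rw [haE i]; exact (plane_facts hs (ha i)).1
    refine (Cfsg.Lib.Coprime.commutator_sup_centralizer_eq hKV hcop
      (Or.inr (Group.isSolvable_of_comm fun x y => hs.hV.1.is_comm.comm x y))).ge.trans (sup_le ?_ ?_)
    · refine le_trans (commutator_iSup_le (fun i => ?_) fun i => ?_) le_sup_right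
      · refine (commutator_core_le (ha i)).trans (le_trans ?_ (iInf_normalizer_le_normalizer_iSup _))
        exact le_iInf fun j => by rw [haE j]; exact (core_normalizes hs (ha j)).1
      · refine le_iSup_of_le i ?_
        rw [haE i, (fixed_block hs (ha i)).1]
    · refine le_trans (le_inf inf_le_left ?_) le_sup_left
      rw [le_centralizer_iff]
      refine hs.le_of_forall hS3 fun B hB => ?_
      obtain ⟨i, hi⟩ := hcover B hB
      have h : V ⊓ centralizer (K' : Set G) ≤ centralizer ((block p H B : Subgroup G) : Set G) := by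
        rw [← hi]
        exact ((inf_le_inf_left V (centralizer_le (le_iSup (fun i => ⁅core p H, a i⁆) i))).trans
          (fixed_block hs (ha i)).2.1.le).trans inf_le_right
      exact le_sup_right.trans (le_centralizer_iff.1 h)

end Cfsg.Agent.S0617
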