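import Cfsg.Statements.S2986
import Cfsg.Agent.Lib.Local.BlockPair
import Cfsg.Agent.Lib.Local.BlockLarge

set_option autoImplicit false
open Cfsg

namespace Cfsg.Agent.S2986

/-- Let G be a finite group of characteristic p (C_G(O_p(G)) ≤ O_p(G)). If E and F are subnormal subgroups of G each of which is a B(T)-block of G for some Sylow p-subgroup T of G (possibly different ones), then E = F or [E, F] = 1. -/
theorem result {G : Type*} [Group G] [Finite G] {p : ℕ} [Fact p.Prime] (hG : Subgroup.centralizer (Cfsg.pCore p G : Set G) ≤ Cfsg.pCore p G) (E F : Subgroup G) (hE : ∃ T : Sylow p G, Cfsg.IsBaumannBlock p (T : Subgroup G) E) (hF : ∃ T : Sylow p G, Cfsg.IsBaumannBlock p (T : Subgroup G) F) (hEs : E.IsSubnormal) (hFs : F.IsSubnormal) : E = F ∨ ⁅E, F⁆ = ⊥ := by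
  obtain ⟨T, hE⟩ := hE
  obtain ⟨S, hF⟩ := hF
  rcases Cfsg.Lib.Local.BlockType.small_or_large hE with hsE | hlE
  · rcases Cfsg.Lib.Local.BlockType.small_or_large hF with hsF | hlF
    · rcases Cfsg.Lib.Local.BlockPair.small_pair hG hE hF hsE hsF hEs hFs with h | ⟨h1, h2, h3⟩
      · exact Or.inl h
      · exact Or.inr (Cfsg.Lib.Local.BlockLarge.commute_of_sections hG hF hFs hE.1 h1 h2 h3)
    · rcases Cfsg.Lib.Local.BlockLarge.large_pair hF hE hlF hFs hEs with h | h
      · exact Or.inl h.symm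
      · obtain ⟨h2, h3⟩ := Cfsg.Lib.Local.BlockLarge.large_sections hG hE hEs hF hlF h
        right
        rw [Subgroup.commutator_comm]
        exact Cfsg.Lib.Local.BlockLarge.commute_of_sections hG hE hEs hF.1 h h2 h3
  · rcases Cfsg.Lib.Local.BlockLarge.large_pair hE hF hlE hEs hFs with h | h
    · exact Or.inl h
    · obtain ⟨h2, h3⟩ := Cfsg.Lib.Local.BlockLarge.large_sections hG hF hFs hE hlE h
      exact Or.inr (Cfsg.Lib.Local.BlockLarge.commute_of_sections hG hF hFs hE.1 h h2 h3)

end Cfsg.Agent.S2986
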