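import Mathlib
import Cfsg.Statements.S0892
import Cfsg.Agent.S3335

set_option autoImplicit false
open Cfsg

namespace Cfsg.Agent.S0892

open Cfsg.Agent.S3335 (gen pt pt_ne gen_rel gen_mem MRel finite_card_H x_comm x0_swap)

set_option maxHeartbeats 1000000
open scoped commutatorElement

/-- A central extension of the alternating group with kernel in the derived group. -/
structure Ext {Γ : Type*} [Group Γ] (m : ℕ) (π : Γ →* Equiv.Perm (Fin (m + 2))) : Prop where
  range_eq : π.range = alternatingGroup (Fin (m + 2))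
  le_center : π.ker ≤ Subgroup.center Γ
  le_comm : π.ker ≤ commutator Γ

theorem via_swap {α β : Type*} [DecidableEq α] [DecidableEq β] (ι : α ↪ β) (i j : α) :
    Equiv.swap (ι i) (ι j) = Equiv.Perm.viaEmbeddingHom ι (Equiv.swap i j) := by
  ext x
  rw [Equiv.Perm.viaEmbeddingHom_apply]
  by_cases hx : x ∈ Set.range ι
  · obtain ⟨k, rfl⟩ := hx
    rw [Equiv.Perm.viaEmbedding_apply, ι.injective.swap_apply]
  · rw [Equiv.Perm.viaEmbedding_apply_of_notMem _ _ _ hx,
      Equiv.swap_apply_of_ne_of_ne (fun h => hx ⟨i, h.symm⟩) (fun h => hx ⟨j, h.symm⟩)]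

theorem via_sign {α β : Type*} [DecidableEq α] [DecidableEq β] [Fintype α] [Fintype β] (ι : α ↪ β)
    (p : Equiv.Perm α) : Equiv.Perm.sign (Equiv.Perm.viaEmbeddingHom ι p) = Equiv.Perm.sign p := by
  classical
  rw [Equiv.Perm.viaEmbeddingHom_apply, Equiv.Perm.viaEmbedding]
  convert Equiv.Perm.sign_extendDomain p (Equiv.ofInjective ι ι.injective) <;> rfl

theorem commute_u {m : ℕ} (hm : 2 ≤ m) :
    gen m 1 * (Equiv.swap (pt m 0) (pt m 3) * Equiv.swap (pt m 1) (pt m 2)) =
      Equiv.swap (pt m 0) (pt m 3) * Equiv.swap (pt m 1) (pt m 2) * gen m 1 := by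
  have hinj : Function.Injective (fun k : Fin 4 => pt m k.val) := fun a b hab => by
    by_contra hne
    exact pt_ne (fun e => hne (Fin.ext e)) (by omega) (by omega) hab
  have e : ∀ i j : Fin 4, Equiv.swap (pt m i.val) (pt m j.val) =
      Equiv.Perm.viaEmbeddingHom ⟨_, hinj⟩ (Equiv.swap i j) := fun i j => via_swap ⟨_, hinj⟩ i j
  change Equiv.swap (pt m (0 : Fin 4).val) (pt m (1 : Fin 4).val) * Equiv.swap (pt m (2 : Fin 4).val) (pt m (3 : Fin 4).val) *
      (Equiv.swap (pt m (0 : Fin 4).val) (pt m (3 : Fin 4).val) * Equiv.swap (pt m (1 : Fin 4).val) (pt m (2 : Fin 4).val)) =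
    Equiv.swap (pt m (0 : Fin 4).val) (pt m (3 : Fin 4).val) * Equiv.swap (pt m (1 : Fin 4).val) (pt m (2 : Fin 4).val) *
      (Equiv.swap (pt m (0 : Fin 4).val) (pt m (1 : Fin 4).val) * Equiv.swap (pt m (2 : Fin 4).val) (pt m (3 : Fin 4).val))
  simp only [e, ← map_mul]
  congr 1
  decide

section Basics

variable {Γ : Type*} [Group Γ] {m : ℕ} {π : Γ →* Equiv.Perm (Fin (m + 2))}

theorem central (h : Ext m π) {z : Γ} (hz : π z = 1) (g : Γ) : g * z = z * g :=
  Subgroup.mem_center_iff.1 (h.le_center hz) g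

theorem comm_const (h : Ext m π) {A A' B B' : Γ} (hA : π A = π A') (hB : π B = π B') :
    ⁅A, B⁆ = ⁅A', B'⁆ := by
  obtain ⟨z, hz, rfl⟩ : ∃ z, π z = 1 ∧ A = z * A' :=
    ⟨A * A'⁻¹, by rw [map_mul, map_inv, hA, mul_inv_cancel], by group⟩
  obtain ⟨w, hw, rfl⟩ : ∃ w, π w = 1 ∧ B = w * B' :=
    ⟨B * B'⁻¹, by rw [map_mul, map_inv, hB, mul_inv_cancel], by group⟩
  have hz' := central h hz
  have hw' := central h hw
  have hz2 := central h (show π z⁻¹ = 1 by rw [map_inv, hz, inv_one])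
  have hw2 := central h (show π w⁻¹ = 1 by rw [map_inv, hw, inv_one])
  simp only [commutatorElement_def, mul_inv_rev]
  calc z * A' * (w * B') * (A'⁻¹ * z⁻¹) * (B'⁻¹ * w⁻¹)
      = z * (A' * w) * B' * A'⁻¹ * (z⁻¹ * B'⁻¹) * w⁻¹ := by simp only [mul_assoc]
    _ = z * (w * A') * B' * A'⁻¹ * (B'⁻¹ * z⁻¹) * w⁻¹ := by rw [hw', hz2]
    _ = z * w * (A' * B' * A'⁻¹ * B'⁻¹) * (z⁻¹ * w⁻¹) := by simp only [mul_assoc]
    _ = z * w * ((A' * B' * A'⁻¹ * B'⁻¹) * z⁻¹) * w⁻¹ := by simp only [mul_assoc]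
    _ = z * w * (z⁻¹ * (A' * B' * A'⁻¹ * B'⁻¹)) * w⁻¹ := by rw [hz2]
    _ = z * (w * z⁻¹) * ((A' * B' * A'⁻¹ * B'⁻¹) * w⁻¹) := by simp only [mul_assoc]
    _ = z * (z⁻¹ * w) * (w⁻¹ * (A' * B' * A'⁻¹ * B'⁻¹)) := by rw [hz2, hw2]
    _ = A' * B' * A'⁻¹ * B'⁻¹ := by group

theorem pow_card_ker [Finite Γ] {z : Γ} (hz : π z = 1) : z ^ Nat.card π.ker = 1 := by
  have := pow_card_eq_one' (x := (⟨z, hz⟩ : π.ker))
  exact congrArg Subtype.val this

theorem eq_one_of_pow [Finite Γ] {q : ℕ} (hq : (Nat.card π.ker).Coprime q) {z : Γ} (hz : π z = 1)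
    (h : z ^ q = 1) : z = 1 := by
  have := pow_gcd_eq_one.2 ⟨pow_card_ker hz, h⟩
  rwa [hq, pow_one] at this

theorem exists_root [Finite Γ] {q : ℕ} (hq : (Nat.card π.ker).Coprime q) {z : Γ} (hz : π z = 1) :
    ∃ w, π w = 1 ∧ w ^ q = z := by
  obtain ⟨w, hw⟩ := (powCoprime (G := π.ker) (n := q) hq).surjective ⟨z, hz⟩
  exact ⟨w, w.2, congrArg Subtype.val hw⟩

theorem exists_lift_pow [Finite Γ] (h : Ext m π) {q : ℕ} (hq : (Nat.card π.ker).Coprime q)
    {g : Equiv.Perm (Fin (m + 2))} (hg : g ∈ alternatingGroup (Fin (m + 2))) (hgq : g ^ q = 1) :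
    ∃ X, π X = g ∧ X ^ q = 1 := by
  obtain ⟨Y, rfl⟩ : g ∈ π.range := by rwa [h.range_eq]
  have hY : π (Y ^ q) = 1 := by rw [map_pow, hgq]
  obtain ⟨w, hw, hwq⟩ := exists_root hq (show π (Y ^ q)⁻¹ = 1 by rw [map_inv, hY, inv_one])
  refine ⟨w * Y, by rw [map_mul, hw, one_mul], ?_⟩
  rw [(show Commute w Y from (central h hw Y).symm).mul_pow, hwq, inv_mul_cancel]

theorem lift_unique [Finite Γ] (h : Ext m π) {q : ℕ} (hq : (Nat.card π.ker).Coprime q) {A B : Γ}
    (hAB : π A = π B) (hA : A ^ q = 1) (hB : B ^ q = 1) : A = B := by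
  have hz : π (A * B⁻¹) = 1 := by rw [map_mul, map_inv, hAB, mul_inv_cancel]
  rw [show A = A * B⁻¹ * B by group] at hA
  rw [(show Commute (A * B⁻¹) B from (central h hz B).symm).mul_pow, hB, mul_one] at hA
  exact mul_inv_eq_one.1 (eq_one_of_pow hq hz hA)

/-- If lifts of Moore generators satisfy the relations modulo `C`, the kernel lies in `C`. -/
theorem ker_le [Finite Γ] (h : Ext m π) (hm : 1 ≤ m) (X : ℕ → Γ) (hX : ∀ i, i < m → π (X i) = gen m i)
    (C : Subgroup Γ) [C.Normal] (hC : C ≤ π.ker)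
    (hrel : MRel (fun i => (X i : Γ ⧸ C)) m) : π.ker ≤ C := by
  classical
  obtain ⟨hfin, hcard⟩ := finite_card_H hrel m le_rfl
  set K : Subgroup Γ := Subgroup.closure (X '' {i | i < m}) ⊔ C with hK
  have hKπ : K.map π = alternatingGroup (Fin (m + 2)) := by
    refine le_antisymm ?_ ?_
    · rw [← h.range_eq]; exact Subgroup.map_le_range _ _
    · refine Cfsg.Agent.S3335.even_mem m hm _ (fun i hi => ?_) ?_
      · exact ⟨X i, Subgroup.mem_sup_left (Subgroup.subset_closure ⟨i, hi, rfl⟩), hX i hi⟩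
      · rw [← h.range_eq]; exact Subgroup.map_le_range _ _
  have hsplit : ∀ g : Γ, ∃ k ∈ K, ∃ z, π z = 1 ∧ g = k * z := by
    intro g
    have : π g ∈ K.map π := by rw [hKπ, ← h.range_eq]; exact ⟨g, rfl⟩
    obtain ⟨k, hk, hkg⟩ := this
    exact ⟨k, hk, k⁻¹ * g, by rw [map_mul, map_inv, hkg, inv_mul_cancel], by group⟩
  have hcomm : commutator Γ ≤ K := by
    rw [commutator_def, Subgroup.commutator_le]
    intro a _ b _
    obtain ⟨k, hk, z, hz, rfl⟩ := hsplit a
    obtain ⟨l, hl, w, hw, rfl⟩ := hsplit b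
    rw [comm_const h (A' := k) (B' := l) (by rw [map_mul, hz, mul_one]) (by rw [map_mul, hw, mul_one])]
    exact mul_mem (mul_mem (mul_mem hk hl) (inv_mem hk)) (inv_mem hl)
  have hKtop : K = ⊤ := by
    rw [eq_top_iff]
    intro g _
    obtain ⟨k, hk, z, hz, rfl⟩ := hsplit g
    exact mul_mem hk (hcomm (h.le_comm hz))
  have hH : Cfsg.Agent.S3335.H (fun i => (X i : Γ ⧸ C)) m = ⊤ := by
    have : K.map (QuotientGroup.mk' C) = Cfsg.Agent.S3335.H (fun i => (X i : Γ ⧸ C)) m := by
      rw [hK, Subgroup.map_sup, MonoidHom.map_closure, (Subgroup.map_eq_bot_iff _).2 (by rw [QuotientGroup.ker_mk']),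
        sup_bot_eq, Cfsg.Agent.S3335.H, Set.image_image]
      rfl
    rw [← this, hKtop, Subgroup.map_top_of_surjective _ (QuotientGroup.mk'_surjective C)]
  rw [hH, Subgroup.card_top] at hcard
  have hidx : π.ker.index = Nat.card (alternatingGroup (Fin (m + 2))) := by
    rw [Subgroup.index_ker, h.range_eq]
  have hA : 2 * Nat.card (alternatingGroup (Fin (m + 2))) = (m + 2).factorial := by
    rw [Nat.card_eq_fintype_card, two_mul_card_alternatingGroup, Fintype.card_perm, Fintype.card_fin]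
  have h1 : C.index ≤ π.ker.index := by
    rw [hidx, Subgroup.index_eq_card]; omega
  have h2 := Subgroup.relIndex_mul_index hC
  have hpos : 0 < π.ker.index := Nat.pos_of_ne_zero Subgroup.index_ne_zero_of_finite
  have hposr : 0 < C.relIndex π.ker := Nat.pos_of_ne_zero (by
    intro h0; rw [h0, zero_mul] at h2; exact Subgroup.index_ne_zero_of_finite h2.symm)
  exact Subgroup.relIndex_eq_one.1 (by nlinarith)

/-- In a group, the cube of a product of an element of order three and an involution. -/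
theorem cube_expand (a b : Γ) :
    a * b * (a * b) * (a * b) = (a * b * a⁻¹) * (a ^ 2 * b * (a ^ 2)⁻¹) * (a ^ 3 * b) := by
  simp only [pow_succ, pow_zero, one_mul]; group

theorem gen_u (hm : 2 ≤ m) :
    gen m 0 * gen m 1 * (gen m 0)⁻¹ = Equiv.swap (pt m 0) (pt m 3) * Equiv.swap (pt m 1) (pt m 2) := by
  have hinj : Function.Injective (fun k : Fin 4 => pt m k.val) := fun a b hab => by
    by_contra hne
    exact pt_ne (fun e => hne (Fin.ext e)) (by omega) (by omega) hab
  have e : ∀ i j : Fin 4, Equiv.swap (pt m i.val) (pt m j.val) =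
      Equiv.Perm.viaEmbeddingHom ⟨_, hinj⟩ (Equiv.swap i j) := fun i j => via_swap ⟨_, hinj⟩ i j
  change Equiv.swap (pt m (0 : Fin 4).val) (pt m (1 : Fin 4).val) * Equiv.swap (pt m (1 : Fin 4).val) (pt m (2 : Fin 4).val) *
    (Equiv.swap (pt m (0 : Fin 4).val) (pt m (1 : Fin 4).val) * Equiv.swap (pt m (2 : Fin 4).val) (pt m (3 : Fin 4).val)) *
    (Equiv.swap (pt m (0 : Fin 4).val) (pt m (1 : Fin 4).val) * Equiv.swap (pt m (1 : Fin 4).val) (pt m (2 : Fin 4).val))⁻¹ =
    Equiv.swap (pt m (0 : Fin 4).val) (pt m (3 : Fin 4).val) * Equiv.swap (pt m (1 : Fin 4).val) (pt m (2 : Fin 4).val)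
  simp only [e, ← map_inv, ← map_mul]
  congr 1
  decide

/-- Two commuting double transpositions with a common transposition: the commutator of lifts. -/
theorem comm_pair [Finite Γ] (h : Ext m π) {P Q X1 U : Γ} {i j : ℕ} (hi : 1 ≤ i) (hij : i + 1 < j)
    (hj : j < m) (hP : π P = gen m i) (hQ : π Q = gen m j) (hX1 : π X1 = gen m 1)
    (hU : π U = gen m 0 * gen m 1 * (gen m 0)⁻¹) : ⁅P, Q⁆ = ⁅X1, U⁆ := by
  classical
  have hnat : Function.Injective (fun k : Fin 6 => (![0, 1, i + 1, i + 2, j + 1, j + 2] : Fin 6 → ℕ) k) := by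
    intro a b hab
    fin_cases a <;> fin_cases b <;> simp at hab ⊢ <;> omega
  have hbd : ∀ k : Fin 6, (![0, 1, i + 1, i + 2, j + 1, j + 2] : Fin 6 → ℕ) k ≤ m + 1 := by
    intro k; fin_cases k <;> simp <;> omega
  let ι : Fin 6 ↪ Fin (m + 2) := ⟨fun k => pt m ((![0, 1, i + 1, i + 2, j + 1, j + 2] : Fin 6 → ℕ) k),
    fun a b hab => by
      by_contra hne
      exact pt_ne (fun e => hne (hnat e)) (hbd a) (hbd b) hab⟩
  let φ := Equiv.Perm.viaEmbeddingHom ι
  let pP : Equiv.Perm (Fin 6) := Equiv.swap 0 1 * Equiv.swap 2 3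
  let pS : Equiv.Perm (Fin 6) := Equiv.swap 0 2 * Equiv.swap 1 3
  let pr : Equiv.Perm (Fin 6) := Equiv.swap 0 3 * Equiv.swap 0 1 * Equiv.swap 0 2 * Equiv.swap 4 5
  have hP' : π P = φ pP := by rw [hP, map_mul, ← via_swap, ← via_swap]; rfl
  have hQ' : π Q = φ (Equiv.swap 0 1 * Equiv.swap 4 5) := by rw [hQ, map_mul, ← via_swap, ← via_swap]; rfl
  have hmem : ∀ p : Equiv.Perm (Fin 6), Equiv.Perm.sign p = 1 → φ p ∈ π.range := by
    intro p hp
    rw [h.range_eq, Equiv.Perm.mem_alternatingGroup]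
    rw [via_sign]
    exact hp
  obtain ⟨r, hr⟩ := hmem pr (by decide)
  obtain ⟨S, hS⟩ := hmem pS (by decide)
  have hr2 : π (r * r) = π P := by rw [map_mul, hr, hP', ← map_mul]; exact congrArg φ (by decide)
  have hQ2 : π (r * r * S * r) = π Q := by
    rw [map_mul, map_mul, hr2, hP', hS, hr, hQ', ← map_mul, ← map_mul]; exact congrArg φ (by decide)
  have hSP : π ⁅r * r, S⁆ = 1 := by
    rw [map_commutatorElement, hr2, hP', hS, ← map_commutatorElement, ← map_one φ]; exact congrArg φ (by decide)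
  have step1 : ⁅P, Q⁆ = ⁅r * r, S⁆ := by
    rw [comm_const h hr2.symm hQ2.symm]
    have hc := central h hSP (r * r)
    calc ⁅r * r, r * r * S * r⁆ = r * r * ⁅r * r, S⁆ * (r * r)⁻¹ := by
          simp only [commutatorElement_def]; group
      _ = ⁅r * r, S⁆ := by rw [hc, mul_inv_cancel_right]
  -- a permutation carrying the standard four group to this one
  let f : Fin 4 ↪ Fin (m + 2) := ⟨fun k => pt m k.val, fun a b hab => by
    by_contra hne
    exact pt_ne (fun e => hne (Fin.ext e)) (by omega) (by omega) hab⟩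
  let g : Fin 4 ↪ Fin (m + 2) := (Fin.castLEEmb (show 4 ≤ 6 by omega)).trans ι
  let e : {x // x ∈ Set.range f} ≃ {x // x ∈ Set.range g} :=
    (Equiv.ofInjective f f.injective).symm.trans (Equiv.ofInjective g g.injective)
  have hσ : ∀ k, e.extendSubtype (f k) = g k := by
    intro k
    rw [Equiv.extendSubtype_apply_of_mem e (f k) ⟨k, rfl⟩]
    simp only [e, Equiv.trans_apply]
    rw [show (Equiv.ofInjective f f.injective).symm ⟨f k, ⟨k, rfl⟩⟩ = k from
      Equiv.ofInjective_symm_apply f.injective k]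
    rfl
  set σ0 : Equiv.Perm (Fin (m + 2)) := e.extendSubtype with hσ0
  have key : ∀ (σ : Equiv.Perm (Fin (m + 2))) (T : Equiv.Perm (Fin 6)), Equiv.Perm.sign σ = 1 →
      σ * gen m 1 * σ⁻¹ = φ pP →
      σ * (gen m 0 * gen m 1 * (gen m 0)⁻¹) * σ⁻¹ = φ T → (T = pS ∨ T = pP * pS) →
      ⁅r * r, S⁆ = ⁅X1, U⁆ := by
    intro σ T hs h1 h2 hT
    obtain ⟨W, hW⟩ : σ ∈ π.range := by rw [h.range_eq]; exact Equiv.Perm.mem_alternatingGroup.2 hs
    have hXU : π ⁅X1, U⁆ = 1 := by
      rw [map_commutatorElement, hX1, hU, commutatorElement_eq_one_iff_mul_comm, gen_u (by omega)]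
      exact commute_u (by omega)
    have e1 : ⁅X1, U⁆ = ⁅W * X1 * W⁻¹, W * U * W⁻¹⁆ := by
      rw [show ⁅W * X1 * W⁻¹, W * U * W⁻¹⁆ = W * ⁅X1, U⁆ * W⁻¹ by simp only [commutatorElement_def]; group,
        central h hXU W, mul_inv_cancel_right]
    have hWU : π (W * U * W⁻¹) = φ T := by rw [map_mul, map_mul, map_inv, hW, hU, h2]
    have hWX : π (W * X1 * W⁻¹) = π (r * r) := by rw [map_mul, map_mul, map_inv, hW, hX1, h1, hr2, hP']
    rw [e1]
    rcases hT with rfl | rfl
    · exact comm_const h hWX.symm (by rw [hWU, hS])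
    · rw [comm_const h hWX (show π (W * U * W⁻¹) = π (r * r * S) by
        rw [hWU, map_mul π (r * r), hr2, hP', hS, map_mul])]
      have hc := central h hSP (r * r)
      symm
      calc ⁅r * r, r * r * S⁆ = r * r * ⁅r * r, S⁆ * (r * r)⁻¹ := by
            simp only [commutatorElement_def]; group
        _ = ⁅r * r, S⁆ := by rw [hc, mul_inv_cancel_right]
  have hconj : ∀ (σ : Equiv.Perm (Fin (m + 2))) (a b c d : Fin (m + 2)),
      σ * (Equiv.swap a b * Equiv.swap c d) * σ⁻¹ = Equiv.swap (σ a) (σ b) * Equiv.swap (σ c) (σ d) := by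
    intro σ a b c d
    rw [Equiv.swap_apply_apply, Equiv.swap_apply_apply]; group
  have hg1 : gen m 1 = Equiv.swap (f 0) (f 1) * Equiv.swap (f 2) (f 3) := rfl
  have hu : gen m 0 * gen m 1 * (gen m 0)⁻¹ = Equiv.swap (f 0) (f 3) * Equiv.swap (f 1) (f 2) := gen_u (by omega)
  have hg : ∀ a b : Fin 4, Equiv.swap (g a) (g b) =
      φ (Equiv.swap (Fin.castLE (show 4 ≤ 6 by decide) a) (Fin.castLE (show 4 ≤ 6 by decide) b)) := fun a b => (via_swap ι _ _)
  rw [step1]
  rcases Int.units_eq_one_or (Equiv.Perm.sign σ0) with hs | hs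
  · refine key σ0 (Equiv.swap 0 3 * Equiv.swap 1 2) hs ?_ ?_ (Or.inr (by decide))
    · rw [hg1, hconj, hσ, hσ, hσ, hσ, hg, hg, ← map_mul]; rfl
    · rw [hu, hconj, hσ, hσ, hσ, hσ, hg, hg, ← map_mul]; rfl
  · refine key (φ (Equiv.swap 0 1) * σ0) pS ?_ ?_ ?_ (Or.inl rfl)
    · rw [map_mul, hs, via_sign]
      decide
    · rw [show φ (Equiv.swap 0 1) * σ0 * gen m 1 * (φ (Equiv.swap 0 1) * σ0)⁻¹ =
        φ (Equiv.swap 0 1) * (σ0 * gen m 1 * σ0⁻¹) * (φ (Equiv.swap 0 1))⁻¹ by group,
        hg1, hconj, hσ, hσ, hσ, hσ, hg, hg, ← map_mul, ← map_inv, ← map_mul, ← map_mul]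
      exact congrArg φ (by decide)
    · rw [show φ (Equiv.swap 0 1) * σ0 * (gen m 0 * gen m 1 * (gen m 0)⁻¹) * (φ (Equiv.swap 0 1) * σ0)⁻¹ =
        φ (Equiv.swap 0 1) * (σ0 * (gen m 0 * gen m 1 * (gen m 0)⁻¹) * σ0⁻¹) * (φ (Equiv.swap 0 1))⁻¹ by group,
        hu, hconj, hσ, hσ, hσ, hσ, hg, hg, ← map_mul, ← map_inv, ← map_mul, ← map_mul]
      exact congrArg φ (by decide)

/-- Case of odd kernel. -/
theorem odd_case [Finite Γ] (h : Ext m π) (hm : 2 ≤ m) (h6 : m ≠ 4) (h7 : m ≠ 5)
    (hodd : (Nat.card π.ker).Coprime 2) : π.ker = ⊥ := by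
  classical
  have hR := gen_rel m
  have sq : ∀ {z : Γ}, π z = 1 → z * z = 1 → z = 1 := fun hz hz2 =>
    eq_one_of_pow hodd hz (by rw [pow_two]; exact hz2)
  have hcomm : ∀ {A B : Γ}, A * A = 1 → π A * π B = π B * π A → A * B = B * A := by
    intro A B hA hAB
    have hz : π ⁅A, B⁆ = 1 := by rw [map_commutatorElement, commutatorElement_eq_one_iff_mul_comm, hAB]
    refine commutatorElement_eq_one_iff_mul_comm.1 (sq hz ?_)
    have e1 : A * B * A = ⁅A, B⁆ * B := by
      rw [commutatorElement_def, inv_mul_cancel_right, inv_eq_of_mul_eq_one_right hA]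
    have e2 : B = ⁅A, B⁆ * (A * B * A) := by
      calc B = A * A * B * (A * A) := by rw [hA, one_mul, mul_one]
        _ = A * (A * B * A) * A := by simp only [mul_assoc]
        _ = A * ⁅A, B⁆ * B * A := by rw [e1, ← mul_assoc A]
        _ = ⁅A, B⁆ * (A * B * A) := by rw [central h hz A]; simp only [mul_assoc]
    rw [e1, ← mul_assoc] at e2
    exact mul_eq_right.1 e2.symm
  have hex : ∀ i : ℕ, ∃ X, 1 ≤ i → i < m → π X = gen m i ∧ X * X = 1 := by
    intro i
    by_cases hi : 1 ≤ i ∧ i < m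
    · obtain ⟨X, h1, h2⟩ := exists_lift_pow h hodd (gen_mem m i hi.2) (hR.2.1 i hi.2 hi.1)
      exact ⟨X, fun _ _ => ⟨h1, by rwa [pow_two] at h2⟩⟩
    · exact ⟨1, fun a b => absurd ⟨a, b⟩ hi⟩
  choose X hX using hex
  obtain ⟨Y0, hY0⟩ : gen m 0 ∈ π.range := by rw [h.range_eq]; exact gen_mem m 0 (by omega)
  have hX1 := hX 1 le_rfl (by omega)
  -- the four group over the first two generators
  set U := fun Y : Γ => Y * X 1 * Y⁻¹ with hU
  have hUi : ∀ Y, U Y * U Y = 1 := fun Y => by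
    calc U Y * U Y = Y * (X 1 * X 1) * Y⁻¹ := by simp only [U]; group
      _ = 1 := by rw [hX1.2]; group
  obtain ⟨hrel1, hrel2⟩ : gen m 0 * gen m 1 * (gen m 0)⁻¹ * gen m 1 = gen m 1 * (gen m 0 * gen m 1 * (gen m 0)⁻¹) ∧
      (gen m 0 ^ 2 * gen m 1 * (gen m 0 ^ 2)⁻¹) * gen m 1 =
        gen m 1 * (gen m 0 ^ 2 * gen m 1 * (gen m 0 ^ 2)⁻¹) := by
    have c1 := commute_u (m := m) hm
    rw [← gen_u hm] at c1
    refine ⟨c1.symm, ?_⟩
    have h0 : gen m 0 ^ 3 = 1 := hR.1 0 (by omega) rfl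
    have h2 : gen m 0 ^ 2 = (gen m 0)⁻¹ := by rw [eq_inv_iff_mul_eq_one, ← pow_succ]; exact h0
    rw [h2, inv_inv]
    have := congrArg (fun x => (gen m 0)⁻¹ * x * gen m 0) c1
    calc (gen m 0)⁻¹ * gen m 1 * gen m 0 * gen m 1
        = (gen m 0)⁻¹ * (gen m 1 * (gen m 0 * gen m 1 * (gen m 0)⁻¹)) * gen m 0 := by group
      _ = _ := by rw [this]; group
  have hb0 : ∀ Y, π Y = gen m 0 → X 1 * (Y * X 1 * (Y * X 1) * (Y * X 1)) = X 1 * Y ^ 3 := by
    intro Y hY
    have hY3 : π (Y ^ 3) = 1 := by rw [map_pow, hY]; exact hR.1 0 (by omega) rfl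
    have c1 : X 1 * U Y = U Y * X 1 := hcomm hX1.2 (by
      simp only [U, map_mul, map_inv, hY, hX1.1]; exact hrel1.symm)
    have c2 : X 1 * U (Y ^ 2) = U (Y ^ 2) * X 1 := hcomm hX1.2 (by
      simp only [U, map_mul, map_inv, map_pow, hY, hX1.1]; exact hrel2.symm)
    have c3 : U Y * U (Y ^ 2) = U (Y ^ 2) * U Y := by
      calc U Y * U (Y ^ 2) = Y * (X 1 * U Y) * Y⁻¹ := by simp only [U, pow_two]; group
        _ = Y * (U Y * X 1) * Y⁻¹ := by rw [c1]
        _ = _ := by simp only [U, pow_two]; group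
    set z := U Y * U (Y ^ 2) * X 1 with hz
    have hz1 : π z = 1 := by
      have he := hR.2.2.1 0 (by omega)
      rw [pow_succ, pow_two, cube_expand, hR.1 0 (by omega) rfl, one_mul] at he
      simpa [z, U, hY, hX1.1] using he
    have hz2 : z * z = 1 := by
      calc z * z = U Y * U (Y ^ 2) * (X 1 * U Y) * (U (Y ^ 2) * X 1) := by simp only [z, mul_assoc]
        _ = U Y * U (Y ^ 2) * (U Y * X 1) * (X 1 * U (Y ^ 2)) := by rw [c1, c2]
        _ = U Y * (U (Y ^ 2) * U Y) * (X 1 * X 1) * U (Y ^ 2) := by simp only [mul_assoc]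
        _ = U Y * U Y * (U (Y ^ 2) * U (Y ^ 2)) := by rw [← c3, hX1.2, mul_one]; simp only [mul_assoc]
        _ = 1 := by rw [hUi, hUi, one_mul]
    have hz0 := sq hz1 hz2
    rw [cube_expand]
    calc X 1 * (U Y * U (Y ^ 2) * (Y ^ 3 * X 1)) = X 1 * (U Y * U (Y ^ 2) * (X 1 * Y ^ 3)) := by
          rw [central h hY3 (X 1)]
      _ = X 1 * (z * Y ^ 3) := by simp only [z, mul_assoc]
      _ = _ := by rw [hz0, one_mul]
  -- choose the lift of the three cycle
  obtain ⟨Y, hY, hY3, hYinv⟩ : ∃ Y, π Y = gen m 0 ∧ (3 ≤ m → Y ^ 3 = 1) ∧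
      (3 ≤ m → X 2 * Y * (X 2)⁻¹ = Y⁻¹) := by
    by_cases hm3 : 3 ≤ m
    · have hX2 := hX 2 (by omega) (by omega)
      have he : π (X 2 * Y0 * (X 2)⁻¹ * Y0) = 1 := by
        simp only [map_mul, map_inv, hX2.1, hY0]
        rw [(x0_swap hR (le_refl 2) (by omega)).2, mul_inv_cancel_right, ← pow_succ]
        exact hR.1 0 (by omega) rfl
      set e := X 2 * Y0 * (X 2)⁻¹ * Y0 with hed
      obtain ⟨w, hw, hw2⟩ := exists_root hodd (show π e⁻¹ = 1 by rw [map_inv, he, inv_one])
      have hwc := central h hw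
      have hinv : X 2 * (w * Y0) * (X 2)⁻¹ = (w * Y0)⁻¹ := by
        rw [eq_inv_iff_mul_eq_one]
        calc X 2 * (w * Y0) * (X 2)⁻¹ * (w * Y0) = X 2 * w * Y0 * (X 2)⁻¹ * w * Y0 := by simp only [mul_assoc]
          _ = w * X 2 * Y0 * (X 2)⁻¹ * w * Y0 := by rw [hwc (X 2)]
          _ = w * ((X 2 * Y0 * (X 2)⁻¹) * w) * Y0 := by simp only [mul_assoc]
          _ = w * (w * (X 2 * Y0 * (X 2)⁻¹)) * Y0 := by rw [hwc (X 2 * Y0 * (X 2)⁻¹)]
          _ = w * w * e := by simp only [hed, mul_assoc]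
          _ = 1 := by rw [← pow_two, hw2, inv_mul_cancel]
      refine ⟨w * Y0, by rw [map_mul, hw, one_mul, hY0], fun _ => ?_, fun _ => hinv⟩
      ·
        have h3 : π ((w * Y0) ^ 3) = 1 := by
          rw [map_pow, map_mul, hw, one_mul, hY0]; exact hR.1 0 (by omega) rfl
        refine sq h3 ?_
        have h4 : X 2 * (w * Y0) ^ 3 * (X 2)⁻¹ = ((w * Y0) ^ 3)⁻¹ := by rw [← conj_pow, hinv, inv_pow]
        rw [central h h3 (X 2), mul_inv_cancel_right] at h4
        nth_rewrite 2 [h4]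
        rw [mul_inv_cancel]
    · exact ⟨Y0, hY0, fun h' => absurd h' hm3, fun h' => absurd h' hm3⟩
  let X' : ℕ → Γ := fun i => if i = 0 then Y else X i
  have hX'0 : X' 0 = Y := if_pos rfl
  have hX'i : ∀ i, 1 ≤ i → X' i = X i := fun i hi => if_neg (by omega)
  have hX'π : ∀ i, i < m → π (X' i) = gen m i := by
    intro i hi
    rcases Nat.eq_zero_or_pos i with rfl | hi0
    · rw [hX'0, hY]
    · rw [hX'i i hi0]; exact (hX i hi0 hi).1
  have hb : ∀ C : Subgroup Γ, [C.Normal] → Y ^ 3 ∈ C → MRel (fun i => (X' i : Γ ⧸ C)) m := by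
    intro C _ hC
    refine ⟨fun i hi hi0 => ?_, fun i hi hi1 => ?_, fun i hi => ?_, fun i j hj hij => ?_⟩ <;> beta_reduce
    · subst hi0; rw [hX'0, ← QuotientGroup.mk_pow]; exact (QuotientGroup.eq_one_iff _).2 hC
    · rw [hX'i i hi1, ← QuotientGroup.mk_pow, pow_two, (hX i hi1 (by omega)).2]; rfl
    · simp only [← QuotientGroup.mk_mul, ← QuotientGroup.mk_pow, QuotientGroup.eq_one_iff]
      rcases Nat.eq_zero_or_pos i with rfl | hi0
      · rw [hX'0, zero_add, hX'i 1 le_rfl, pow_succ, pow_two, mul_left_cancel (hb0 Y hY)]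
        exact hC
      · rw [hX'i i hi0, hX'i (i + 1) (by omega)]
        obtain ⟨hP, hP2⟩ := hX i hi0 (by omega)
        obtain ⟨hQ, hQ2⟩ := hX (i + 1) (by omega) hi
        set P := X i
        set Q := X (i + 1)
        have hz : π ((P * Q) ^ 3) = 1 := by rw [map_pow, map_mul, hP, hQ]; exact hR.2.2.1 i hi
        have h2 : (P * Q) ^ 3 = ((P * Q) ^ 3)⁻¹ := by
          conv_lhs => rw [show (P * Q) ^ 3 = P * (P * Q) ^ 3 * P⁻¹ by rw [central h hz P, mul_inv_cancel_right]]
          rw [← conj_pow, ← inv_pow, mul_inv_rev, inv_eq_of_mul_eq_one_right hP2, inv_eq_of_mul_eq_one_right hQ2,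
            ← mul_assoc P P Q, hP2, one_mul]
        have : (P * Q) ^ 3 = 1 := sq hz (by nth_rewrite 2 [h2]; rw [mul_inv_cancel])
        rw [this]; exact one_mem _
    · simp only [← QuotientGroup.mk_mul, ← QuotientGroup.mk_pow, QuotientGroup.eq_one_iff]
      rw [hX'i j (by omega)]
      obtain ⟨hQ, hQ2⟩ := hX j (by omega) hj
      rcases Nat.eq_zero_or_pos i with rfl | hi0
      · rw [hX'0]
        have hm3 : 3 ≤ m := by omega
        have step : ∀ k l, 1 ≤ k → 1 ≤ l → k < m → l < m → X k * X l = X l * X k →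
            gen m 0 * gen m k = gen m k * gen m 0 ^ 2 → gen m 0 * gen m l = gen m l * gen m 0 ^ 2 →
            X k * Y * (X k)⁻¹ = Y⁻¹ → X l * Y * (X l)⁻¹ = Y⁻¹ := by
          intro k l hk1 hl1 hk hl hkl gk gl hinv
          obtain ⟨hXk, hk2⟩ := hX k hk1 hk
          obtain ⟨hXl, hl2⟩ := hX l hl1 hl
          have hT : X k * X l * (X k * X l) = 1 := by
            calc X k * X l * (X k * X l) = X k * (X l * X k) * X l := by simp only [mul_assoc]
              _ = X k * X k * (X l * X l) := by rw [← hkl]; simp only [mul_assoc]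
              _ = 1 := by rw [hk2, hl2, one_mul]
          have g3 : gen m 0 ^ 3 = 1 := hR.1 0 (by omega) rfl
          have hc := hcomm hT (B := Y) (by
            rw [map_mul, hXk, hXl, hY]
            symm
            calc gen m 0 * (gen m k * gen m l) = gen m k * (gen m 0 * (gen m 0 * gen m l)) := by
                  rw [← mul_assoc, gk, pow_two]; simp only [mul_assoc]
              _ = gen m k * (gen m 0 * gen m l * gen m 0 ^ 2) := by
                    nth_rewrite 1 [gl]; simp only [mul_assoc]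
              _ = gen m k * (gen m l * (gen m 0 ^ 2 * gen m 0 ^ 2)) := by rw [gl]; simp only [mul_assoc]
              _ = gen m k * gen m l * gen m 0 := by
                    rw [← pow_add, pow_succ _ 3, g3, one_mul, mul_assoc])
          have hki : (X k)⁻¹ = X k := inv_eq_of_mul_eq_one_right hk2
          rw [← hinv, hki]
          calc X l * Y * (X l)⁻¹ = X k * (X k * X l * Y) * (X l)⁻¹ := by
                rw [mul_assoc (X k) (X l) Y, ← mul_assoc (X k) (X k), hk2, one_mul]
            _ = X k * (Y * (X k * X l)) * (X l)⁻¹ := by rw [hc]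
            _ = _ := by group
        have comm : ∀ k l, 1 ≤ k → k + 1 < l → l < m → X k * X l = X l * X k := fun k l hk hkl hl =>
          hcomm (hX k hk (by omega)).2 (by
            rw [(hX k hk (by omega)).1, (hX l (by omega) hl).1]; exact x_comm hR hk hkl hl)
        have from2 : ∀ l, 4 ≤ l → l < m → X l * Y * (X l)⁻¹ = Y⁻¹ := fun l hl hlm =>
          step 2 l (by omega) (by omega) (by omega) hlm (comm 2 l (by omega) (by omega) hlm)
            (x0_swap hR le_rfl (by omega)).1 (x0_swap hR (by omega) hlm).1 (hYinv hm3)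
        have hinvj : X j * Y * (X j)⁻¹ = Y⁻¹ := by
          rcases (show j = 2 ∨ j = 3 ∨ 4 ≤ j by omega) with rfl | rfl | h4
          · exact hYinv hm3
          · exact step 5 3 (by omega) (by omega) (by omega) hj
              (comm 3 5 (by omega) (by omega) (by omega)).symm (x0_swap hR (by omega) (by omega)).1
              (x0_swap hR (by omega) hj).1 (from2 5 (by omega) (by omega))
          · exact from2 j h4 hj
        rw [inv_eq_of_mul_eq_one_right hQ2] at hinvj
        rw [pow_two, show Y * X j * (Y * X j) = Y * (X j * Y * X j) by simp only [mul_assoc], hinvj,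
          mul_inv_cancel]
        exact one_mem _
      · rw [hX'i i hi0]
        obtain ⟨hP, hP2⟩ := hX i hi0 (by omega)
        have hc : X i * X j = X j * X i := hcomm hP2 (by rw [hP, hQ]; exact x_comm hR hi0 hij hj)
        rw [pow_two, show X i * X j * (X i * X j) = X i * (X j * X i) * X j by simp only [mul_assoc],
          ← hc, ← mul_assoc, hP2, one_mul, hQ2]
        exact one_mem _
  rw [eq_bot_iff]
  by_cases hm3 : 3 ≤ m
  · refine ker_le h (by omega) X' hX'π ⊥ bot_le (hb ⊥ ?_)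
    rw [hY3 hm3]; exact one_mem _
  · obtain rfl : m = 2 := by omega
    have hY3' : π (Y ^ 3) = 1 := by rw [map_pow, hY]; exact hR.1 0 (by omega) rfl
    set C := Subgroup.zpowers (Y ^ 3) with hC
    have hCker : C ≤ π.ker := Subgroup.zpowers_le.2 hY3'
    have hCn : C.Normal := ⟨fun x hx g => by
      rw [central h (hCker hx) g, mul_inv_cancel_right]; exact hx⟩
    have hZC : π.ker ≤ C := ker_le h (by omega) X' hX'π C hCker (hb C (Subgroup.mem_zpowers _))
    set N := Subgroup.closure ({X 1, U Y, U (Y ^ 2)} : Set Γ) with hN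
    have c1 : X 1 * U Y = U Y * X 1 := hcomm hX1.2 (by
      simp only [U, map_mul, map_inv, hY, hX1.1]; exact hrel1.symm)
    have c2 : X 1 * U (Y ^ 2) = U (Y ^ 2) * X 1 := hcomm hX1.2 (by
      simp only [U, map_mul, map_inv, map_pow, hY, hX1.1]; exact hrel2.symm)
    have c3 : U Y * U (Y ^ 2) = U (Y ^ 2) * U Y := by
      calc U Y * U (Y ^ 2) = Y * (X 1 * U Y) * Y⁻¹ := by simp only [U, pow_two]; group
        _ = Y * (U Y * X 1) * Y⁻¹ := by rw [c1]
        _ = _ := by simp only [U, pow_two]; group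
    have hS : ∀ s ∈ ({X 1, U Y, U (Y ^ 2)} : Set Γ), s * s = 1 ∧
        ∀ t ∈ ({X 1, U Y, U (Y ^ 2)} : Set Γ), t * s = s * t := by
      simp only [Set.mem_insert_iff, Set.mem_singleton_iff, forall_eq_or_imp, forall_eq]
      exact ⟨⟨hX1.2, trivial, c1.symm, c2.symm⟩, ⟨hUi Y, c1, trivial, c3.symm⟩, hUi _, c2, c3, trivial⟩
    have hNc : N ≤ Subgroup.centralizer (N : Set Γ) := by
      rw [hN, Subgroup.closure_le]
      intro s hs
      rw [SetLike.mem_coe, Subgroup.mem_centralizer_iff]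
      intro g hg
      have : Subgroup.closure ({X 1, U Y, U (Y ^ 2)} : Set Γ) ≤ Subgroup.centralizer ({s} : Set Γ) := by
        rw [Subgroup.closure_le]
        intro t ht
        exact Subgroup.mem_centralizer_singleton_iff.2 ((hS s hs).2 t ht)
      exact Subgroup.mem_centralizer_singleton_iff.1 (this hg)
    have hN2 : ∀ g ∈ N, g * g = 1 := by
      intro g hg
      induction hg using Subgroup.closure_induction with
      | mem s hs => exact (hS s hs).1
      | one => simp
      | mul a b ha hb iha ihb =>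
        have hab : b * a = a * b := (Subgroup.mem_centralizer_iff.1 (hNc ha) b hb)
        calc a * b * (a * b) = a * (b * a) * b := by simp only [mul_assoc]
          _ = a * a * (b * b) := by rw [hab]; simp only [mul_assoc]
          _ = 1 := by rw [iha, ihb, one_mul]
      | inv a ha iha => rw [← mul_inv_rev, iha, inv_one]
    set K := Subgroup.closure ({Y, X 1} : Set Γ) with hK
    have hKtop : K = ⊤ := by
      rw [eq_top_iff]
      intro g _
      have hZK : π.ker ≤ K := hZC.trans (Subgroup.zpowers_le.2 (pow_mem (Subgroup.subset_closure (show Y ∈ ({Y, X 1} : Set Γ) from Or.inl rfl)) 3))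
      have himg : π g ∈ K.map π := by
        refine Cfsg.Agent.S3335.even_mem 2 (by omega) _ (fun i hi => ?_) ?_ (show π g ∈ alternatingGroup (Fin (2 + 2)) by
          rw [← h.range_eq]; exact ⟨g, rfl⟩)
        · rcases (show i = 0 ∨ i = 1 by omega) with rfl | rfl
          · exact ⟨Y, Subgroup.subset_closure (Or.inl rfl), hY⟩
          · exact ⟨X 1, Subgroup.subset_closure (Or.inr rfl), hX1.1⟩
        · rw [← h.range_eq]; exact Subgroup.map_le_range _ _
      obtain ⟨k, hk, hkg⟩ := himg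
      rw [show g = k * (k⁻¹ * g) by group]
      exact mul_mem hk (hZK (by rw [MonoidHom.mem_ker, map_mul, map_inv, hkg, inv_mul_cancel]))
    have hNn : ∀ g : Γ, g ∈ Subgroup.normalizer (N : Set Γ) := by
      intro g
      have : K ≤ Subgroup.normalizer (N : Set Γ) := by
        rw [hK, Subgroup.closure_le]
        rintro t (rfl | rfl)
        · rw [SetLike.mem_coe, Subgroup.mem_normalizer_iff]
          have hmap : N.map (MulAut.conj t).toMonoidHom ≤ N := by
            rw [hN, MonoidHom.map_closure, Subgroup.closure_le]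
            rintro _ ⟨s, hs, rfl⟩
            simp only [MulEquiv.coe_toMonoidHom, MulAut.conj_apply]
            rcases hs with rfl | rfl | rfl
            · exact Subgroup.subset_closure (Or.inr (Or.inl rfl))
            · refine Subgroup.subset_closure (Or.inr (Or.inr ?_))
              simp only [U, pow_two]; group
              simp
            · refine Subgroup.subset_closure (Or.inl ?_)
              calc t * U (t ^ 2) * t⁻¹ = t ^ 3 * X 1 * (t ^ 3)⁻¹ := by simp only [U, pow_succ, pow_zero, one_mul]; group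
                _ = X 1 := by rw [← central h hY3' (X 1), mul_inv_cancel_right]
          have hmapeq : N.map (MulAut.conj t).toMonoidHom = N :=
            Subgroup.eq_of_le_of_card_ge hmap (by
              rw [Nat.card_congr (N.equivMapOfInjective (MulAut.conj t).toMonoidHom (MulEquiv.injective (MulAut.conj t))).toEquiv])
          intro x
          constructor
          · intro hx; exact hmap ⟨x, hx, rfl⟩
          · intro hx
            rw [← hmapeq] at hx
            obtain ⟨y, hy, hyx⟩ := hx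
            have : y = x := (MulEquiv.injective (MulAut.conj t)) hyx
            rwa [← this]
        · exact Subgroup.le_normalizer (Subgroup.subset_closure (Or.inl rfl))
      exact this (hKtop ▸ Subgroup.mem_top g)
    have hNn' : N.Normal := Subgroup.normalizer_eq_top_iff.1 (eq_top_iff.2 fun g _ => hNn g)
    have hcomN : commutator Γ ≤ N := by
      rw [commutator_def, Subgroup.commutator_le]
      intro a _ b _
      have hgen : ∀ g : Γ, (g : Γ ⧸ N) ∈ Subgroup.zpowers (Y : Γ ⧸ N) := by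
        intro g
        have : K ≤ (Subgroup.zpowers (Y : Γ ⧸ N)).comap (QuotientGroup.mk' N) := by
          rw [hK, Subgroup.closure_le]
          rintro t (rfl | rfl)
          · exact Subgroup.mem_zpowers _
          · have h1 : ((X 1 : Γ) : Γ ⧸ N) = 1 :=
              (QuotientGroup.eq_one_iff _).2 (Subgroup.subset_closure (Or.inl rfl))
            rw [SetLike.mem_coe, Subgroup.mem_comap, QuotientGroup.mk'_apply, h1]
            exact one_mem _
        exact this (hKtop ▸ Subgroup.mem_top g)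
      rw [← QuotientGroup.eq_one_iff]
      obtain ⟨u, hu⟩ := hgen a
      obtain ⟨v, hv⟩ := hgen b
      rw [commutatorElement_def]
      simp only [QuotientGroup.mk_mul, QuotientGroup.mk_inv]
      rw [← hu, ← hv]
      group
    intro z hz
    rw [Subgroup.mem_bot]
    exact sq hz (hN2 z (hcomN (h.le_comm hz)))

/-- Normalised lifts of the Moore generators. -/
theorem two_facts [Finite Γ] (h : Ext m π) (hm : 2 ≤ m) (h3 : (Nat.card π.ker).Coprime 3) :
    ∃ (X : ℕ → Γ) (a : Γ), π a = 1 ∧ a * a = 1 ∧ π.ker ≤ Subgroup.zpowers a ∧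
      (∀ i, i < m → π (X i) = gen m i) ∧ (∀ i, 1 ≤ i → i < m → X i ^ 2 = a) ∧
      ∀ i j, 1 ≤ i → i + 1 < j → j < m → ⁅X j, X i⁆ = a := by
  classical
  have hR := gen_rel m
  have hg3 : ∀ i, i + 1 < m → gen m i * gen m (i + 1) ∈ alternatingGroup (Fin (m + 2)) :=
    fun i hi => mul_mem (gen_mem m i (by omega)) (gen_mem m (i + 1) hi)
  have hW : ∀ i, ∃ W, i + 1 < m → π W = gen m i * gen m (i + 1) ∧ W ^ 3 = 1 := by
    intro i
    by_cases hi : i + 1 < m
    · obtain ⟨W, h1, h4⟩ := exists_lift_pow h h3 (hg3 i hi) (hR.2.2.1 i hi)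
      exact ⟨W, fun _ => ⟨h1, h4⟩⟩
    · exact ⟨1, fun a => absurd a hi⟩
  choose W hW using hW
  obtain ⟨X0, hX0, hX03⟩ := exists_lift_pow h h3 (gen_mem m 0 (by omega)) (hR.1 0 (by omega) rfl)
  let X : ℕ → Γ := fun i => Nat.rec X0 (fun k Xk => Xk⁻¹ * W k) i
  have hXs : ∀ i, X (i + 1) = (X i)⁻¹ * W i := fun i => rfl
  have hXπ : ∀ i, i < m → π (X i) = gen m i := by
    intro i
    induction i with
    | zero => intro _; exact hX0
    | succ i ih =>
      intro hi
      rw [hXs, map_mul, map_inv, ih (by omega), (hW i hi).1, inv_mul_cancel_left]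
  have hb : ∀ i, i + 1 < m → (X i * X (i + 1)) ^ 3 = 1 := fun i hi => by
    rw [hXs, mul_inv_cancel_left]; exact (hW i hi).2
  have ha : ∀ i, 1 ≤ i → i < m → π (X i ^ 2) = 1 := fun i hi hi' => by
    rw [map_pow, hXπ i hi']; exact hR.2.1 i hi' hi
  have hsix : ∀ {z : Γ}, π z = 1 → z ^ 3 = 1 → z = 1 := fun hz hz3 => eq_one_of_pow h3 hz hz3
  -- the first involution
  set U := X 0 * X 1 * (X 0)⁻¹ with hUdef
  set U' := X 0 ^ 2 * X 1 * (X 0 ^ 2)⁻¹ with hU'def
  set a := X 1 ^ 2 with hadef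
  have ha1 : π a = 1 := ha 1 le_rfl (by omega)
  have hUU : U * U' * X 1 = 1 := by
    have := hb 0 (by omega)
    rw [pow_succ, pow_two, cube_expand, show X 0 ^ 3 = 1 from hX03, one_mul] at this
    exact this
  have hUsq : U * U = a := by
    calc U * U = X 0 * (X 1 * X 1) * (X 0)⁻¹ := by rw [hUdef]; group
      _ = a := by rw [← pow_two, ← hadef, central h ha1 (X 0), mul_inv_cancel_right]
  have hU'sq : U' * U' = a := by
    calc U' * U' = X 0 ^ 2 * (X 1 * X 1) * (X 0 ^ 2)⁻¹ := by rw [hU'def]; group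
      _ = a := by rw [← pow_two, ← hadef, central h ha1 (X 0 ^ 2), mul_inv_cancel_right]
  set c := ⁅U, U'⁆ with hcdef
  have hX1eq : X 1 = (U * U')⁻¹ := (inv_eq_of_mul_eq_one_right hUU).symm
  have hcπ : π c = 1 := by
    have hu1 : π U * π U' * π (X 1) = 1 := by rw [← map_mul, ← map_mul, hUU, map_one]
    have hs : π U * π U = 1 := by rw [← map_mul, hUsq, ha1]
    have hs' : π U' * π U' = 1 := by rw [← map_mul, hU'sq, ha1]
    have h11 : π (X 1) * π (X 1) = 1 := by rw [← map_mul, ← pow_two]; exact ha1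
    rw [hcdef, map_commutatorElement, commutatorElement_def, inv_eq_of_mul_eq_one_right hs,
      inv_eq_of_mul_eq_one_right hs']
    have he : π U * π U' = π (X 1) := by
      rw [mul_eq_one_iff_eq_inv.1 hu1, inv_eq_of_mul_eq_one_right h11]
    rw [show π U * π U' * π U * π U' = π U * π U' * (π U * π U') by simp only [mul_assoc], he, h11]
  have hcz := central h hcπ
  have hcU : U * U' = c * (U' * U) := by rw [hcdef, commutatorElement_def]; group
  have hc2 : c * c = 1 := by
    have hkey : U * U' * U⁻¹ = c * U' := by rw [hcU]; group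
    have e : U * (U' * U') * U⁻¹ = c * c * (U' * U') := by
      calc U * (U' * U') * U⁻¹ = U * U' * U⁻¹ * (U * U' * U⁻¹) := by group
        _ = c * (U' * c) * U' := by rw [hkey]; simp only [mul_assoc]
        _ = _ := by rw [hcz U']; simp only [mul_assoc]
    rw [hU'sq, central h ha1 U, mul_inv_cancel_right] at e
    exact mul_eq_right.1 e.symm
  have ha3 : a ^ 3 = c := by
    have e1 : U * U' * (U * U') = a⁻¹ := by rw [← mul_inv_eq_one, inv_inv, hadef, pow_two, hX1eq]; group
    have e2 : U' * U = c * (U * U') := by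
      calc U' * U = (c * c) * (U' * U) := by rw [hc2, one_mul]
        _ = c * (U * U') := by rw [hcU, mul_assoc]
    have e3 : U * U' * (U * U') = c * (a * a) := by
      calc U * U' * (U * U') = U * (U' * U) * U' := by simp only [mul_assoc]
        _ = U * c * (U * U') * U' := by rw [e2]; simp only [mul_assoc]
        _ = c * (U * U * (U' * U')) := by rw [hcz U]; simp only [mul_assoc]
        _ = _ := by rw [hUsq, hU'sq]
    rw [e1] at e3
    have hac : c⁻¹ = c := inv_eq_of_mul_eq_one_right hc2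
    rw [← hac, eq_inv_iff_mul_eq_one]
    calc a ^ 3 * c = a * (a * a * c) := by rw [pow_succ', pow_two, mul_assoc]
      _ = a * (c * (a * a)) := by rw [hcz (a * a)]
      _ = 1 := by rw [← e3, mul_inv_cancel]
  have ha2 : a * a = 1 := by
    rw [← pow_two]
    apply hsix (by rw [map_pow, ha1, one_pow])
    rw [← pow_mul, mul_comm, pow_mul, ha3, pow_two, hc2]
  have hac : a = c := by
    rw [← ha3, pow_succ, pow_two, ha2, one_mul]
  have hcX : ⁅X 1, U⁆ = c := by
    rw [hX1eq, commutatorElement_def]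
    calc (U * U')⁻¹ * U * (U * U')⁻¹⁻¹ * U⁻¹ = U'⁻¹ * (U * U') * U⁻¹ := by group
      _ = U'⁻¹ * c * U' := by rw [hcU]; group
      _ = c := by rw [hcz, mul_assoc, inv_mul_cancel, mul_one]
  have hall : ∀ i, 1 ≤ i → i < m → X i ^ 2 = a := by
    intro i
    induction i with
    | zero => intro h0 _; omega
    | succ i ih =>
      intro _ hi
      rcases Nat.eq_zero_or_pos i with rfl | hi0
      · rfl
      have hp := ih hi0 (by omega)
      have hb' := hb i hi
      have hq1 : π (X (i + 1) ^ 2) = 1 := ha _ (by omega) hi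
      set P := X i
      set Q := X (i + 1)
      set b := Q ^ 2
      have hai : a⁻¹ = a := inv_eq_of_mul_eq_one_right ha2
      have hbz := central h (show π b⁻¹ = 1 by rw [map_inv, hq1, inv_one])
      have haz := central h ha1
      have e1 : P * Q * P * (P * Q)⁻¹ = b⁻¹ * a * Q⁻¹ := by
        calc P * Q * P * (P * Q)⁻¹ = (P * Q) ^ 3 * Q⁻¹ * (P⁻¹ * ((Q ^ 2)⁻¹ * P⁻¹)) := by
              rw [pow_succ, pow_two, pow_two]; group
          _ = Q⁻¹ * (P⁻¹ * (b⁻¹ * P⁻¹)) := by rw [hb', one_mul]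
          _ = Q⁻¹ * (b⁻¹ * (P ^ 2)⁻¹) := by rw [← mul_assoc P⁻¹, hbz]; rw [pow_two]; group
          _ = Q⁻¹ * (b⁻¹ * a) := by rw [hp, hai]
          _ = _ := central h (show π (b⁻¹ * a) = 1 by rw [map_mul, map_inv, hq1, ha1, inv_one, one_mul]) _
      have hza := central h (show π (b⁻¹ * a) = 1 by rw [map_mul, map_inv, hq1, ha1, inv_one, one_mul])
      have e2 : a = b⁻¹ * a * (b⁻¹ * a) * b⁻¹ := by
        calc a = (P * Q * P * (P * Q)⁻¹) * (P * Q * P * (P * Q)⁻¹) := by
              rw [show P * Q * P * (P * Q)⁻¹ * (P * Q * P * (P * Q)⁻¹) = P * Q * (P ^ 2) * (P * Q)⁻¹ by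
                rw [pow_two]; group, hp, haz, mul_inv_cancel_right]
          _ = b⁻¹ * a * (Q⁻¹ * (b⁻¹ * a)) * Q⁻¹ := by rw [e1]; simp only [mul_assoc]
          _ = b⁻¹ * a * (b⁻¹ * a) * (Q ^ 2)⁻¹ := by rw [hza, pow_two]; group
      have e3 : (b * a) ^ 3 = 1 := by
        have hba : Commute b a := (show b * a = a * b from haz b)
        have : b⁻¹ * a * (b⁻¹ * a) * b⁻¹ = (b ^ 3)⁻¹ := by
          rw [(hba.inv_left.eq), show a * b⁻¹ * (a * b⁻¹) * b⁻¹ = a * (b⁻¹ * a) * (b⁻¹ * b⁻¹) by simp only [mul_assoc],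
            hba.inv_left.eq, ← mul_assoc, ← mul_assoc, ha2, pow_succ, pow_two]
          group
        rw [this] at e2
        rw [hba.mul_pow, pow_succ a, pow_two a, ha2, one_mul]
        rw [e2, mul_inv_cancel]
      have h4 := hsix (by rw [map_mul, hq1, ha1, one_mul]) e3
      rw [mul_eq_one_iff_eq_inv.1 h4, hai]
  set C := Subgroup.zpowers a with hC
  have hCker : C ≤ π.ker := Subgroup.zpowers_le.2 ha1
  have hCn : C.Normal := ⟨fun x hx g => by rw [central h (hCker hx) g, mul_inv_cancel_right]; exact hx⟩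
  have haC : a ∈ C := Subgroup.mem_zpowers _
  have hle : π.ker ≤ C := by
    refine ker_le h (by omega) X hXπ C hCker ?_
    refine ⟨fun i hi hi0 => ?_, fun i hi hi1 => ?_, fun i hi => ?_, fun i j hj hij => ?_⟩ <;> beta_reduce <;>
      simp only [← QuotientGroup.mk_mul, ← QuotientGroup.mk_pow, QuotientGroup.eq_one_iff]
    · subst hi0; rw [show X 0 ^ 3 = 1 from hX03]; exact one_mem _
    · rw [hall i hi1 hi]; exact haC
    · rw [hb i hi]; exact one_mem _
    · have hQ2 := hall j (by omega) hj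
      have hq1 : π (X j ^ 2) = 1 := ha j (by omega) hj
      rcases Nat.eq_zero_or_pos i with rfl | hi0
      · have hinv : X j * X 0 * (X j)⁻¹ = (X 0)⁻¹ := by
          have hs := (x0_swap hR (show 2 ≤ j by omega) hj)
          refine lift_unique h h3 ?_ ?_ ?_
          · rw [map_mul, map_mul, map_inv, map_inv, hXπ j hj, hXπ 0 (by omega), hs.2,
              mul_inv_cancel_right, eq_inv_iff_mul_eq_one, ← pow_succ]
            exact hR.1 0 (by omega) rfl
          · rw [conj_pow, show X 0 ^ 3 = 1 from hX03, mul_one, mul_inv_cancel]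
          · rw [inv_pow, show X 0 ^ 3 = 1 from hX03, inv_one]
        rw [pow_two, show X 0 * X j * (X 0 * X j) = X 0 * (X j * X 0 * (X j)⁻¹) * X j ^ 2 by rw [pow_two]; group,
          hinv, mul_inv_cancel, one_mul, hQ2]
        exact haC
      · have hP2 := hall i hi0 (by omega)
        have hcc : ⁅X j, X i⁆ = c := by
          have h5 := comm_pair h hi0 hij hj (hXπ i (by omega)) (hXπ j hj) (hXπ 1 (by omega))
            (U := U) (by rw [hUdef, map_mul, map_mul, map_inv, hXπ 0 (by omega), hXπ 1 (by omega)])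
          rw [hcX] at h5
          rw [← commutatorElement_inv, h5, inv_eq_of_mul_eq_one_right hc2]
        rw [pow_two, show X i * X j * (X i * X j) = X i * ⁅X j, X i⁆ * X i * X j ^ 2 by
          rw [commutatorElement_def, pow_two]; group, hcc, hcz, mul_assoc c, ← pow_two, hP2, hQ2, ← hac]
        exact mul_mem (mul_mem haC haC) haC
  refine ⟨X, a, ha1, ha2, hle, hXπ, hall, fun i j hi hij hj => ?_⟩
  have h5 := comm_pair h hi hij hj (hXπ i (by omega)) (hXπ j hj) (hXπ 1 (by omega))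
    (U := U) (by rw [hUdef, map_mul, map_mul, map_inv, hXπ 0 (by omega), hXπ 1 (by omega)])
  rw [hcX] at h5
  rw [← commutatorElement_inv, h5, inv_eq_of_mul_eq_one_right hc2, hac]

/-- Case of a kernel of order prime to three. -/
theorem two_case [Finite Γ] (h : Ext m π) (hm : 2 ≤ m)
    (h3 : (Nat.card π.ker).Coprime 3) : Nat.card π.ker ≤ 2 := by
  obtain ⟨X, a, -, ha2, hle, -⟩ := two_facts h hm h3
  calc Nat.card π.ker ≤ Nat.card (Subgroup.zpowers a) := Subgroup.card_le_of_le hle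
    _ ≤ 2 := by
      rw [Nat.card_zpowers]
      exact Nat.le_of_dvd (by omega) (orderOf_dvd_of_pow_eq_one (by rw [pow_two, ha2]))

end Basics

/-- Let n ≥ 4 with n ≠ 6 and n ≠ 7, and let Γ be a finite group with a subgroup Z contained in both the centre and the commutator subgroup of Γ such that Γ / Z is isomorphic to the alternating group on n letters. Then Z has order at most 2. -/
theorem result (n : ℕ) (hn : 4 ≤ n) (h6 : n ≠ 6) (h7 : n ≠ 7) {Γ : Type*} [Group Γ] [Finite Γ] (Z : Subgroup Γ) [Z.Normal] (hZc : Z ≤ Subgroup.center Γ) (hZd : Z ≤ commutator Γ) (e : Γ ⧸ Z ≃* alternatingGroup (Fin n)) : Nat.card Z ≤ 2 := by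
  classical
  obtain ⟨m, rfl⟩ : ∃ m, n = m + 2 := ⟨n - 2, by omega⟩
  let π : Γ →* Equiv.Perm (Fin (m + 2)) :=
    ((alternatingGroup (Fin (m + 2))).subtype.comp e.toMonoidHom).comp (QuotientGroup.mk' Z)
  have hker : π.ker = Z := by
    ext x
    rw [MonoidHom.mem_ker, ← QuotientGroup.eq_one_iff]
    exact ⟨fun hx => (MulEquiv.map_eq_one_iff e).1 (Subtype.ext hx), fun hx => by
      change ((e (x : Γ ⧸ Z) : alternatingGroup (Fin (m + 2))) : Equiv.Perm (Fin (m + 2))) = 1
      rw [hx, map_one]; rfl⟩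
  have hext : Ext m π := by
    refine ⟨?_, hker ▸ hZc, hker ▸ hZd⟩
    rw [MonoidHom.range_comp, MonoidHom.range_eq_top.2 (QuotientGroup.mk'_surjective Z), ← MonoidHom.range_eq_map,
      MonoidHom.range_comp, MonoidHom.range_eq_top.2 e.surjective, ← MonoidHom.range_eq_map, Subgroup.range_subtype]
  rw [← hker]
  by_cases h3 : 3 ∣ Nat.card π.ker
  swap
  · exact two_case hext (by omega) ((Nat.prime_three.coprime_iff_not_dvd.2 h3).symm)
  exfalso
  have : Fact (Nat.Prime 2) := ⟨Nat.prime_two⟩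
  obtain ⟨P⟩ : Nonempty (Sylow 2 π.ker) := inferInstance
  set M : Subgroup Γ := (P : Subgroup π.ker).map π.ker.subtype with hM
  have hMker : M ≤ π.ker := Subgroup.map_subtype_le _
  have hMn : M.Normal := ⟨fun x hx g => by
    rw [central hext (hMker hx) g, mul_inv_cancel_right]; exact hx⟩
  let π' : Γ ⧸ M →* Equiv.Perm (Fin (m + 2)) := QuotientGroup.lift M π hMker
  have hmk : π'.ker = π.ker.map (QuotientGroup.mk' M) := by
    ext q
    obtain ⟨g, rfl⟩ := QuotientGroup.mk'_surjective M q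
    constructor
    · intro hg; exact ⟨g, hg, rfl⟩
    · rintro ⟨g', hg', he⟩; rw [← he]; exact hg'
  have hext' : Ext m π' := by
    refine ⟨?_, ?_, ?_⟩
    · rw [← hext.range_eq]
      ext σ
      constructor
      · rintro ⟨q, rfl⟩
        obtain ⟨g, rfl⟩ := QuotientGroup.mk'_surjective M q
        exact ⟨g, rfl⟩
      · rintro ⟨g, rfl⟩; exact ⟨g, rfl⟩
    · rw [hmk, Subgroup.map_le_iff_le_comap]
      intro z hz
      rw [Subgroup.mem_comap, Subgroup.mem_center_iff]
      intro q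
      obtain ⟨g, rfl⟩ := QuotientGroup.mk'_surjective M q
      rw [← map_mul, ← map_mul, central hext hz g]
    · rw [hmk, Subgroup.map_le_iff_le_comap]
      intro z hz
      rw [Subgroup.mem_comap, commutator_def, ← Subgroup.map_top_of_surjective _ (QuotientGroup.mk'_surjective M),
        ← Subgroup.map_commutator]
      exact ⟨z, hext.le_comm hz, rfl⟩
  have hcard : Nat.card π'.ker = (P : Subgroup π.ker).index := by
    rw [hmk, Subgroup.index_eq_card]
    let f : π.ker →* Γ ⧸ M := (QuotientGroup.mk' M).comp π.ker.subtype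
    have hf : f.ker = (P : Subgroup π.ker) := by
      rw [show f.ker = ((QuotientGroup.mk' M).ker).comap π.ker.subtype from rfl, QuotientGroup.ker_mk', hM,
        Subgroup.comap_map_eq_self_of_injective π.ker.subtype_injective]
    have hr : f.range = π.ker.map (QuotientGroup.mk' M) := by
      rw [MonoidHom.range_comp, Subgroup.range_subtype]
    rw [← hr, ← hf]
    exact (Nat.card_congr (QuotientGroup.quotientKerEquivRange f).toEquiv).symm
  have hodd : (Nat.card π'.ker).Coprime 2 := by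
    rw [hcard]
    exact (Nat.prime_two.coprime_iff_not_dvd.2 P.not_dvd_index).symm
  have hb := odd_case hext' (by omega) (by omega) (by omega) hodd
  have h1 : (P : Subgroup π.ker).index = 1 := by rw [← hcard, hb, Subgroup.card_bot]
  have htop : (P : Subgroup π.ker) = ⊤ := Subgroup.index_eq_one.1 h1
  obtain ⟨k, hk⟩ := IsPGroup.iff_card.1 P.isPGroup'
  rw [htop, Subgroup.card_top] at hk
  rw [hk] at h3
  exact absurd (Nat.prime_three.dvd_of_dvd_pow h3) (by norm_num)

end Cfsg.Agent.S0892
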