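import Cfsg.Statements.S3765
import Cfsg.Agent.Lib.Local.PrimeOrderOperator
-- import your own Cfsg.Agent.* helpers here

set_option autoImplicit false
open Cfsg

namespace Cfsg.Agent.S3765

open Subgroup Cfsg.Lib.Local
open scoped commutatorElement

/-- Let p, q, r be distinct primes and let X, Q, V be subgroups of a finite group with X of order r normalizing the q-group Q and acting faithfully on it (X ∩ C(Q) = 1), and V a nontrivial elementary abelian p-group normalized by X and Q on which XQ acts faithfully. If q = 2 and r has the form 2^n + 1, assume in addition that Q is abelian. Then C_V(X) ≠ 1. -/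
theorem result {G : Type*} [Group G] [Finite G] {p q r : ℕ} (hp : p.Prime) (hq : q.Prime) (hr : r.Prime) (hpq : p ≠ q) (hpr : p ≠ r) (hqr : q ≠ r) (X Q V : Subgroup G) (hX : Nat.card X = r) (hQ : IsPGroup q Q) (hXQ : X ≤ Subgroup.normalizer (Q : Set G)) (hXfaith : X ⊓ Subgroup.centralizer (Q : Set G) = ⊥) (hV : Cfsg.IsElementaryAbelian p V) (hV1 : V ≠ ⊥) (hXV : X ≤ Subgroup.normalizer (V : Set G)) (hQV : Q ≤ Subgroup.normalizer (V : Set G)) (hfaith : (X ⊔ Q) ⊓ Subgroup.centralizer (V : Set G) = ⊥) (hexc : q = 2 → (∃ n : ℕ, r = 2 ^ n + 1) → IsMulCommutative Q) : V ⊓ Subgroup.centralizer (X : Set G) ≠ ⊥ := by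
  classical
  haveI : Fact p.Prime := ⟨hp⟩
  haveI : Fact q.Prime := ⟨hq⟩
  haveI : Fact r.Prime := ⟨hr⟩
  intro hCV
  haveI : IsMulCommutative V := hV.1
  letI : CommGroup V := { (inferInstance : Group V) with mul_comm := fun a b => mul_comm' a b }
  obtain ⟨x, hx, hx1⟩ : ∃ x ∈ X, x ≠ 1 := by
    rcases X.bot_or_exists_ne_one with h | h
    · exact absurd hX (by rw [h, card_bot]; exact hr.one_lt.ne)
    · exact h
  have hxr : x ^ r = 1 := by
    have h := pow_card_eq_one' (x := (⟨x, hx⟩ : X))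
    rw [hX] at h
    exact congrArg Subtype.val h
  have hgen : ∀ z ∈ X, z ∈ zpowers x := by
    intro z hz
    obtain ⟨k, hk⟩ := mem_zpowers_iff.1 (mem_zpowers_of_prime_card (g := (⟨x, hx⟩ : X)) (g' := ⟨z, hz⟩) hX
      (fun e => hx1 (congrArg Subtype.val e)))
    exact mem_zpowers_iff.2 ⟨k, congrArg Subtype.val hk⟩
  let xN : normalizer (V : Set G) := ⟨x, hXV hx⟩
  set y := autOf V xN with hy
  have hinj : ∀ g : normalizer (V : Set G), (g : G) ∈ X ⊔ Q → autOf V g = 1 → (g : G) = 1 := fun g hg h =>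
    mem_bot.1 (hfaith ▸ mem_inf.2 ⟨hg, (autOf_eq_one_iff V g).1 h⟩)
  have hyr : y ^ r = 1 := by rw [hy, ← map_pow, show xN ^ r = 1 from Subtype.ext hxr, map_one]
  have hy1 : y ≠ 1 := fun e => hx1 (hinj xN (mem_sup_left hx) e)
  obtain ⟨a, ha, hax⟩ : ∃ a ∈ Q, ⁅x, a⁆ ≠ 1 := by
    by_contra hcon
    push Not at hcon
    exact hx1 (mem_bot.1 (hXfaith ▸ mem_inf.2 ⟨hx, mem_centralizer_iff.2 fun a ha =>
      (commutatorElement_eq_one_iff_mul_comm.1 (hcon a ha)).symm⟩))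
  have hmov : y * autOf V ⟨a, hQV ha⟩ * y⁻¹ ≠ autOf V ⟨a, hQV ha⟩ := fun e => hax (by
    rw [hy, ← map_inv, ← map_mul, ← map_mul] at e
    have hmem : (((xN * ⟨a, hQV ha⟩ * xN⁻¹) * (⟨a, hQV ha⟩ : normalizer (V : Set G))⁻¹ : normalizer (V : Set G)) : G)
        ∈ X ⊔ Q :=
      mul_mem (mul_mem (mul_mem (mem_sup_left hx) (mem_sup_right ha)) (inv_mem (mem_sup_left hx)))
        (inv_mem (mem_sup_right ha))
    exact hinj _ hmem (by rw [map_mul, e, ← map_mul, mul_inv_cancel, map_one]))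
  set QA := (Q.subgroupOf (normalizer (V : Set G))).map (autOf V) with hQA
  have hQAp : IsPGroup q QA := (hQ.of_equiv (subgroupOfEquivOfLe hQV).symm).map _
  obtain ⟨Q0, hQ0, h⟩ := exists_minimalMoved hQAp (X := zpowers y) (y := y) (by
      intro g hg
      obtain ⟨k, rfl⟩ := mem_zpowers_iff.1 hg
      rintro _ ⟨b, hb, rfl⟩
      refine ⟨xN ^ k * b * (xN ^ k)⁻¹, ?_, by rw [map_mul, map_mul, map_inv, map_zpow]⟩
      rw [SetLike.mem_coe, mem_subgroupOf] at hb ⊢
      exact (mem_normalizer_iff.1 (zpow_mem (hXQ hx) k) _).1 hb)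
    ⟨autOf V ⟨a, hQV ha⟩, ⟨_, mem_subgroupOf.2 ha, rfl⟩, hmov⟩ (mem_zpowers y)
    (fun g hg => by
      obtain ⟨k, rfl⟩ := mem_zpowers_iff.1 hg
      exact ((Commute.refl y).zpow_left k).eq)
    (by rw [orderOf_eq_prime hyr hy1]; exact (Nat.coprime_primes hr hq).2 (Ne.symm hqr))
  obtain ⟨hna, hq2, m, -, hrm, -⟩ := prime_exception (W := V) (fun w => Subtype.ext (hV.2 w w.2)) h hyr hpq hpr hqr
    (fun w hw => by
      have h1 : (w : G) ∈ V ⊓ centralizer (X : Set G) := by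
        refine mem_inf.2 ⟨w.2, mem_centralizer_iff.2 fun z hz => ?_⟩
        have e : x * (w : G) * x⁻¹ = w := congrArg Subtype.val hw
        obtain ⟨k, rfl⟩ := mem_zpowers_iff.1 (hgen z hz)
        exact ((show Commute x (w : G) from mul_inv_eq_iff_eq_mul.1 e).zpow_left k).eq
      rw [hCV, mem_bot] at h1
      exact Subtype.ext h1)
  obtain ⟨u, hu, w, hw, huw⟩ := hna
  obtain ⟨u', hu', rfl⟩ := hQ0 hu
  obtain ⟨w', hw', rfl⟩ := hQ0 hw
  haveI := hexc hq2 ⟨m, hrm⟩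
  refine huw ?_
  rw [← map_mul, ← map_mul]
  have e1 := mul_comm' (⟨_, mem_subgroupOf.1 hu'⟩ : Q) ⟨_, mem_subgroupOf.1 hw'⟩
  exact congrArg (autOf V) (Subtype.ext (congrArg (fun z : Q => (z : G)) e1 : ((u' : G) * w' = w' * u')))

end Cfsg.Agent.S3765
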