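import Cfsg.Statements.S0600
import Cfsg.Agent.Lib.Core.Cores

set_option autoImplicit false
set_option linter.style.haveILetI false
open Cfsg

namespace Cfsg.Agent.S0600

/-- A normal elementary abelian p-subgroup generated by the fixed points of the Sylow p-subgroups admits no nontrivial normal p-subgroup of G modulo its centralizer. -/
theorem result {G : Type*} [Group G] [Finite G] {p : ℕ} [Fact p.Prime] (V : Subgroup G) [V.Normal] (hV : Cfsg.IsElementaryAbelian p V) (hgen : V = ⨆ S : Sylow p G, V ⊓ Subgroup.centralizer ((S : Subgroup G) : Set G)) : Cfsg.pCore p (G ⧸ Subgroup.centralizer (V : Set G)) = ⊥ := by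
  classical
  set C := Subgroup.centralizer (V : Set G) with hC
  set q := QuotientGroup.mk' C with hq
  have hsurj : Function.Surjective q := QuotientGroup.mk'_surjective C
  set W := Cfsg.pCore p (G ⧸ C) with hW
  rw [eq_bot_iff]
  intro w hw
  obtain ⟨g, rfl⟩ := hsurj w
  rw [Subgroup.mem_bot, QuotientGroup.mk'_apply, QuotientGroup.eq_one_iff]
  suffices h : V ≤ Subgroup.centralizer ({g} : Set G) by
    show g ∈ Subgroup.centralizer (V : Set G)
    rw [Subgroup.mem_centralizer_iff]
    intro v hv
    have := Subgroup.mem_centralizer_singleton_iff.mp (h hv)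
    first | exact this | exact this.symm
  rw [hgen]
  refine iSup_le fun S v hv => ?_
  have hWS : W ≤ ((S.mapSurjective hsurj : Sylow p (G ⧸ C)) : Subgroup (G ⧸ C)) := by
    set Q := S.mapSurjective hsurj
    have hp' : IsPGroup p ((Q : Subgroup (G ⧸ C)) ⊔ W : Subgroup (G ⧸ C)) :=
      IsPGroup.to_sup_of_normal_right Q.2 (Cfsg.Lib.Core.pCore_isPGroup p (G ⧸ C))
    exact le_sup_right.trans (Q.3 hp' le_sup_left).le
  obtain ⟨s, hs, hse⟩ : ∃ s ∈ (S : Subgroup G), q s = q g := hWS hw
  have hsg : s⁻¹ * g ∈ C := QuotientGroup.eq.mp hse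
  rw [Subgroup.mem_centralizer_singleton_iff]
  have h1 : s * v = v * s := Subgroup.mem_centralizer_iff.mp hv.2 s hs
  have h2 : v * (s⁻¹ * g) = s⁻¹ * g * v := Subgroup.mem_centralizer_iff.mp hsg v hv.1
  have h3 : g * v = v * g := by
    calc g * v = s * (s⁻¹ * g * v) := by group
      _ = s * v * (s⁻¹ * g) := by rw [← h2, mul_assoc]
      _ = v * g := by rw [h1]; group
  first | exact h3 | exact h3.symm

end Cfsg.Agent.S0600
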