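import Cfsg.Statements.S0601
import Cfsg.Agent.Lib.Core.Cores
import Cfsg.Agent.Lib.Thompson.Basic
import Cfsg.Agent.S0600
import Cfsg.Agent.Lib.Core.Smul

set_option autoImplicit false
open Cfsg

namespace Cfsg.Agent.S0601

open Subgroup

variable {G : Type*} [Group G] [Finite G] {p : ℕ} [Fact p.Prime]

theorem map_sylowOmega (S : Sylow p G) (g : G) :
    (Cfsg.omegaOne p ((S : Subgroup G) ⊓ centralizer ((S : Subgroup G) : Set G))).map
        (MulAut.conj g).toMonoidHom =
      Cfsg.omegaOne p (((g • S : Sylow p G) : Subgroup G) ⊓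
        centralizer (((g • S : Sylow p G) : Subgroup G) : Set G)) := by
  set e := (MulAut.conj g).toMonoidHom with he
  have hinj : Function.Injective e := (MulAut.conj g).injective
  have hgS : ((g • S : Sylow p G) : Subgroup G) = (S : Subgroup G).map e := by
    rw [Sylow.coe_subgroup_smul, Cfsg.Lib.Core.conj_smul_eq_map]
  rw [hgS, Cfsg.omegaOne, Cfsg.omegaOne, MonoidHom.map_closure]
  refine congrArg Subgroup.closure ?_
  ext y
  constructor
  · rintro ⟨x, ⟨⟨hxS, hxC⟩, hxp⟩, rfl⟩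
    refine ⟨⟨⟨x, hxS, rfl⟩, mem_centralizer_iff.2 ?_⟩, by rw [← map_pow, hxp, map_one]⟩
    rintro _ ⟨s, hs, rfl⟩
    rw [← map_mul, ← map_mul, mem_centralizer_iff.1 hxC s hs]
  · rintro ⟨⟨⟨x, hx, rfl⟩, hC⟩, hp⟩
    refine ⟨x, ⟨⟨hx, mem_centralizer_iff.2 fun s hs => hinj ?_⟩, hinj (by rw [map_pow, hp, map_one])⟩, rfl⟩
    rw [map_mul, map_mul]
    exact mem_centralizer_iff.1 hC _ ⟨s, hs, rfl⟩

theorem iSup_sylowOmega_normal :
    (⨆ S : Sylow p G, Cfsg.omegaOne p (((S : Subgroup G)) ⊓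
      centralizer ((S : Subgroup G) : Set G))).Normal := by
  refine ⟨fun v hv g => ?_⟩
  have h := mem_map_of_mem (MulAut.conj g).toMonoidHom hv
  rw [Subgroup.map_iSup] at h
  simp only [map_sylowOmega] at h
  exact (iSup_le fun S => le_iSup (fun T : Sylow p G => Cfsg.omegaOne p ((T : Subgroup G) ⊓
    centralizer ((T : Subgroup G) : Set G))) (g • S)) h

theorem sylowOmega_le (S : Sylow p G) :
    Cfsg.omegaOne p ((S : Subgroup G) ⊓ centralizer ((S : Subgroup G) : Set G)) ≤
      (S : Subgroup G) ⊓ centralizer ((S : Subgroup G) : Set G) :=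
  (Subgroup.closure_le _).2 fun _ hx => hx.1

/-- When O_p(G) contains its centralizer, the normal closure of Ω₁(Z(S)) is elementary abelian and G has no nontrivial normal p-subgroup modulo its centralizer. -/
theorem result {G : Type*} [Group G] [Finite G] {p : ℕ} [Fact p.Prime] (hc : Subgroup.centralizer (Cfsg.pCore p G : Set G) ≤ Cfsg.pCore p G) : (⨆ S : Sylow p G, Cfsg.omegaOne p (((S : Subgroup G)) ⊓ Subgroup.centralizer ((S : Subgroup G) : Set G))).Normal ∧ Cfsg.IsElementaryAbelian p (⨆ S : Sylow p G, Cfsg.omegaOne p (((S : Subgroup G)) ⊓ Subgroup.centralizer ((S : Subgroup G) : Set G))) ∧ ∀ D : Subgroup G, D.Normal → Subgroup.centralizer ((⨆ S : Sylow p G, Cfsg.omegaOne p (((S : Subgroup G)) ⊓ Subgroup.centralizer ((S : Subgroup G) : Set G)) : Subgroup G) : Set G) ≤ D → (∃ k : ℕ, (Subgroup.centralizer ((⨆ S : Sylow p G, Cfsg.omegaOne p (((S : Subgroup G)) ⊓ Subgroup.centralizer ((S : Subgroup G) : Set G)) : Subgroup G) : Set G)).relIndex D = p ^ k) → D = Subgroup.centralizer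 ((⨆ S : Sylow p G, Cfsg.omegaOne p (((S : Subgroup G)) ⊓ Subgroup.centralizer ((S : Subgroup G) : Set G)) : Subgroup G) : Set G) := by
  have hn := iSup_sylowOmega_normal (G := G) (p := p)
  set V := ⨆ S : Sylow p G, Cfsg.omegaOne p (((S : Subgroup G)) ⊓
    Subgroup.centralizer ((S : Subgroup G) : Set G)) with hV
  haveI := hn
  have hZ : ∀ S : Sylow p G, Cfsg.omegaOne p ((S : Subgroup G) ⊓
      centralizer ((S : Subgroup G) : Set G)) ≤
      Cfsg.pCore p G ⊓ centralizer (Cfsg.pCore p G : Set G) := fun S => by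
    have h1 : (S : Subgroup G) ⊓ centralizer ((S : Subgroup G) : Set G) ≤
        centralizer (Cfsg.pCore p G : Set G) :=
      inf_le_right.trans (centralizer_le (by exact_mod_cast Cfsg.Lib.Core.pCore_le_sylow S))
    exact (sylowOmega_le S).trans (le_inf (h1.trans hc) h1)
  have hEA : Cfsg.IsElementaryAbelian p V := by
    have e : V = Subgroup.closure (⋃ S : Sylow p G,
        {x : G | x ∈ (S : Subgroup G) ⊓ centralizer ((S : Subgroup G) : Set G) ∧ x ^ p = 1}) := by
      rw [Subgroup.closure_iUnion]; rfl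
    rw [e]
    refine Cfsg.Lib.Thompson.isEA_closure (fun a ha b hb => ?_) fun a ha => ?_
    · obtain ⟨S, haS⟩ := Set.mem_iUnion.1 ha
      obtain ⟨T, hbT⟩ := Set.mem_iUnion.1 hb
      exact mem_centralizer_iff.1 (hZ T (subset_closure hbT)).2 a (hZ S (subset_closure haS)).1
    · obtain ⟨S, haS⟩ := Set.mem_iUnion.1 ha
      exact haS.2
  refine ⟨inferInstance, hEA, fun D hD hCD hk => ?_⟩
  have hgen : V = ⨆ S : Sylow p G, V ⊓ centralizer ((S : Subgroup G) : Set G) :=
    le_antisymm (iSup_le fun S => le_trans (le_inf (le_iSup (fun T : Sylow p G => Cfsg.omegaOne p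
      ((T : Subgroup G) ⊓ centralizer ((T : Subgroup G) : Set G))) S)
        ((sylowOmega_le S).trans inf_le_right))
      (le_iSup (fun T : Sylow p G => V ⊓ centralizer ((T : Subgroup G) : Set G)) S))
      (iSup_le fun S => inf_le_left)
  have hO := Cfsg.Agent.S0600.result V hEA hgen
  set f := QuotientGroup.mk' (centralizer (V : Set G)) with hf
  obtain ⟨k, hk⟩ := hk
  have hp' : IsPGroup p (D.map f) := by
    refine IsPGroup.of_card (n := k) ?_
    rw [← relIndex_ker, hf, QuotientGroup.ker_mk', hk]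
  have hle := Cfsg.Lib.Core.le_pCore' (hD.map f (QuotientGroup.mk'_surjective _)) hp'
  rw [hO, le_bot_iff, Subgroup.map_eq_bot_iff, hf, QuotientGroup.ker_mk'] at hle
  exact le_antisymm hle hCD

end Cfsg.Agent.S0601
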