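import Cfsg.Statements.S0604
import Cfsg.Agent.Lib.Thompson.Basic

set_option autoImplicit false
set_option linter.style.haveILetI false
open Cfsg

namespace Cfsg.Agent.S0604

/-- The Thompson subgroup of G is the join of the Thompson subgroups of its Sylow p-subgroups. -/
theorem result {G : Type*} [Group G] [Finite G] {p : ℕ} [Fact p.Prime] : Cfsg.thompsonSubgroup p G = ⨆ S : Sylow p G, Cfsg.thompsonSubgroupOf p (S : Subgroup G) := by
  have e : ∀ S : Sylow p G, Cfsg.thompsonSubgroupOf p (S : Subgroup G) =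
      sSup {A | A ∈ Cfsg.maxElementaryAbelianSubgroups p G ∧ A ≤ (S : Subgroup G)} := fun S =>
    Cfsg.Lib.Thompson.thompsonSubgroupOf_eq _ (Cfsg.Lib.Thompson.exists_maxEA_le_sylow S)
  refine le_antisymm (sSup_le fun A hA => ?_) (iSup_le fun S => ?_)
  · obtain ⟨S, hS⟩ := Cfsg.Lib.Thompson.exists_sylow_ge_of_isEA hA.1
    exact le_trans (le_of_le_of_eq (le_sSup (s := {A | A ∈ Cfsg.maxElementaryAbelianSubgroups p G ∧ A ≤ (S : Subgroup G)}) ⟨hA, hS⟩) (e S).symm) (le_iSup (fun S : Sylow p G => Cfsg.thompsonSubgroupOf p (S : Subgroup G)) S)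
  · rw [e]
    exact sSup_le fun A hA => le_sSup hA.1

end Cfsg.Agent.S0604
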