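import Cfsg.Statements.S0608
import Cfsg.Agent.S0601
import Cfsg.Agent.S0604
import Cfsg.Agent.Lib.Local.Sylow

set_option autoImplicit false
open Cfsg

namespace Cfsg.Agent.S0608

open Subgroup

/-- With trivial p'-core, Thompson factorizability is equivalent to J(G) centralizing the subgroup generated by all Ω₁(Z(S)), S Sylow. -/
theorem result {G : Type*} [Group G] [Finite G] {p : ℕ} [Fact p.Prime] (hO : Cfsg.pPrimeCore p G = ⊥) : Cfsg.IsThompsonFactorizable p G ↔ Cfsg.thompsonSubgroup p G ≤ Subgroup.centralizer ((⨆ S : Sylow p G, Cfsg.omegaOne p (((S : Subgroup G)) ⊓ Subgroup.centralizer ((S : Subgroup G) : Set G)) : Subgroup G) : Set G) := by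
  set V := ⨆ S : Sylow p G, Cfsg.omegaOne p (((S : Subgroup G)) ⊓
    Subgroup.centralizer ((S : Subgroup G) : Set G)) with hVdef
  haveI : V.Normal := Cfsg.Agent.S0601.iSup_sylowOmega_normal
  constructor
  · intro h
    rw [Cfsg.Agent.S0604.result]
    refine iSup_le fun S => le_centralizer_iff.1 (iSup_le fun T => ?_)
    obtain ⟨g, rfl⟩ := MulAction.exists_smul_eq G S T
    obtain ⟨x, hx, c, hc, n, hn, hg⟩ := h S g⁻¹
    rw [hO, mem_bot] at hx
    rw [hx, one_mul] at hg
    rw [← Cfsg.Agent.S0601.map_sylowOmega S g]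
    rintro _ ⟨z, hz, rfl⟩
    refine mem_centralizer_iff.2 fun j hj => ?_
    have hjS : j ∈ (S : Subgroup G) := map_subtype_le _ hj
    have hnj : n * j * n⁻¹ ∈ Cfsg.thompsonSubgroupOf p (S : Subgroup G) :=
      (mem_normalizer_iff.1 hn j).1 hj
    have hz' : ∀ s ∈ (S : Subgroup G), s * z = z * s := fun s hs =>
      mem_centralizer_iff.1 (Cfsg.Agent.S0601.sylowOmega_le S hz).2 s hs
    have h1 := hz' _ (map_subtype_le _ hnj)
    have h2 := mem_centralizer_iff.1 hc z hz
    have e : g = n⁻¹ * c⁻¹ := by rw [← inv_inv g, hg, mul_inv_rev]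
    have h2' : c⁻¹ * z * c = z := by rw [mul_assoc, h2, inv_mul_cancel_left]
    show j * (g * z * g⁻¹) = g * z * g⁻¹ * j
    have e2 : g * z * g⁻¹ = n⁻¹ * z * n := by
      calc g * z * g⁻¹ = n⁻¹ * (c⁻¹ * z * c) * n := by rw [e]; group
        _ = n⁻¹ * z * n := by rw [h2']
    rw [e2]
    calc j * (n⁻¹ * z * n) = n⁻¹ * (n * j * n⁻¹ * z) * n := by group
      _ = n⁻¹ * z * n * j := by rw [h1]; group
  · intro hJ S g
    refine ⟨1, one_mem _, ?_⟩
    set C := Subgroup.centralizer (V : Set G) with hC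
    haveI : C.Normal := inferInstance
    have hJS : ∀ A, A ∈ Cfsg.maxElementaryAbelianSubgroups p G → A ≤ (S : Subgroup G) →
        A ≤ (S : Subgroup G) ⊓ C := fun A hA hAS => le_inf hAS ((le_sSup hA).trans hJ)
    obtain ⟨A, hA, hAS⟩ := Cfsg.Lib.Thompson.exists_maxEA_le_sylow S
    have e1 := Cfsg.Lib.Thompson.thompsonSubgroupOf_eq (p := p) ((S : Subgroup G) ⊓ C)
      ⟨A, hA, hJS A hA hAS⟩
    have e2 := Cfsg.Lib.Thompson.thompsonSubgroupOf_eq (p := p) (S : Subgroup G) ⟨A, hA, hAS⟩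
    have hset : {B | B ∈ Cfsg.maxElementaryAbelianSubgroups p G ∧ B ≤ (S : Subgroup G)} =
        {B | B ∈ Cfsg.maxElementaryAbelianSubgroups p G ∧ B ≤ (S : Subgroup G) ⊓ C} :=
      Set.ext fun B => ⟨fun h => ⟨h.1, hJS B h.1 h.2⟩, fun h => ⟨h.1, h.2.trans inf_le_left⟩⟩
    rw [e2, hset]
    obtain ⟨T, hT⟩ := Cfsg.Lib.Local.exists_sylow_inf S C
    have hfr := Sylow.normalizer_sup_eq_top T
    have hTm : (T : Subgroup C).map C.subtype = (S : Subgroup G) ⊓ C := by
      rw [hT, subgroupOf_map_subtype]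
    rw [hTm, sup_comm] at hfr
    have hg : g ∈ C ⊔ normalizer (((S : Subgroup G) ⊓ C : Subgroup G) : Set G) := hfr.ge (mem_top g)
    rw [← SetLike.mem_coe, normal_mul] at hg
    obtain ⟨c, hc, n, hn, rfl⟩ := hg
    refine ⟨c, ?_, n, ?_, by rw [one_mul]⟩
    · exact centralizer_le (by exact_mod_cast le_iSup (fun T : Sylow p G => Cfsg.omegaOne p
        ((T : Subgroup G) ⊓ centralizer ((T : Subgroup G) : Set G))) S) hc
    · set U := (S : Subgroup G) ⊓ C with hU
      have hUn : ∀ m ∈ normalizer (U : Set G), U.map (MulAut.conj m).toMonoidHom = U := by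
        intro m hm
        refine le_antisymm ?_ fun u hu => ?_
        · rintro _ ⟨u, hu, rfl⟩; exact (mem_normalizer_iff.1 hm u).1 hu
        · refine ⟨m⁻¹ * u * m, by simpa using (mem_normalizer_iff.1 (inv_mem hm) u).1 hu, ?_⟩
          show m * (m⁻¹ * u * m) * m⁻¹ = u
          group
      refine mem_normalizer_fintype fun y hy => ?_
      have hle : (sSup {B | B ∈ Cfsg.maxElementaryAbelianSubgroups p G ∧ B ≤ U}).map
          (MulAut.conj n).toMonoidHom ≤ sSup {B | B ∈ Cfsg.maxElementaryAbelianSubgroups p G ∧ B ≤ U} := by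
        rw [sSup_eq_iSup, Subgroup.map_iSup]
        refine iSup_le fun B => ?_
        rw [Subgroup.map_iSup]
        refine iSup_le fun hB => ?_
        rw [← sSup_eq_iSup]
        exact le_sSup ⟨Cfsg.Lib.Thompson.map_mem_maxEA (MulAut.conj n) hB.1,
          (map_mono hB.2).trans (hUn n hn).le⟩
      exact hle ⟨y, hy, rfl⟩

end Cfsg.Agent.S0608
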