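import Cfsg.Statements.S2758
import Cfsg.Agent.Lib.FusionSys.NormalizerModel
import Cfsg.Agent.Lib.TwoGroup.Models
-- import your own Cfsg.Agent.* helpers here

set_option autoImplicit false
open Cfsg

namespace Cfsg.Agent.S2758

/-- For an odd prime p and a finite group G the following are equivalent: the dihedral group of order 2p is involved in G; some element of 2-power order normalizes but does not centralize some p-subgroup of G; some element of 2-power order inverts some nonidentity element of p-power order. -/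
theorem result {G : Type*} [Group G] [Finite G] {p : ℕ} [Fact p.Prime] (hp : p ≠ 2) : (Cfsg.Involves (DihedralGroup p) G ↔ ∃ (x : G) (P : Subgroup G), (∃ k : ℕ, orderOf x = 2 ^ k) ∧ IsPGroup p ↥P ∧ x ∈ Subgroup.normalizer (P : Set G) ∧ x ∉ Subgroup.centralizer (P : Set G)) ∧ (Cfsg.Involves (DihedralGroup p) G ↔ ∃ x y : G, (∃ k : ℕ, orderOf x = 2 ^ k) ∧ (∃ k : ℕ, orderOf y = p ^ k) ∧ y ≠ 1 ∧ x * y * x⁻¹ = y⁻¹) := by
  have hpp := (Fact.out : p.Prime)
  have hp3 : 3 ≤ p := by
    have := hpp.two_le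
    omega
  have hodd : Odd p := hpp.odd_of_ne_two hp
  haveI : NeZero p := ⟨hpp.ne_zero⟩
  -- normalizing but not centralizing gives an inverted element
  have h23 : ∀ (x : G) (P : Subgroup G), (∃ k : ℕ, orderOf x = 2 ^ k) → IsPGroup p ↥P →
      x ∈ Subgroup.normalizer (P : Set G) → x ∉ Subgroup.centralizer (P : Set G) →
      ∃ x y : G, (∃ k : ℕ, orderOf x = 2 ^ k) ∧ (∃ k : ℕ, orderOf y = p ^ k) ∧ y ≠ 1 ∧
        x * y * x⁻¹ = y⁻¹ := by
    intro x P ⟨k, hk⟩ hP hxN hxC
    have hex : ∃ i : ℕ, x ^ (2 ^ i) ∈ Subgroup.centralizer (P : Set G) :=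
      ⟨k, by rw [← hk, pow_orderOf_eq_one]; exact one_mem _⟩
    classical
    obtain ⟨i, hi, hmin⟩ : ∃ i, x ^ (2 ^ i) ∈ Subgroup.centralizer (P : Set G) ∧
        ∀ j < i, x ^ (2 ^ j) ∉ Subgroup.centralizer (P : Set G) :=
      ⟨Nat.find hex, Nat.find_spec hex, fun j hj => Nat.find_min hex hj⟩
    obtain ⟨i, rfl⟩ : ∃ i', i = i' + 1 := ⟨i - 1, by
      rcases i with _ | i
      · exact absurd (by simpa using hi) hxC
      · rfl⟩
    set w := x ^ (2 ^ i) with hw
    have hwN : w ∈ Subgroup.normalizer (P : Set G) := pow_mem hxN _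
    obtain ⟨g, hg, hgw⟩ : ∃ g ∈ P, w * g * w⁻¹ ≠ g := by
      by_contra hh
      push Not at hh
      exact hmin i (Nat.lt_succ_self i) (Subgroup.mem_centralizer_iff.mpr fun g hg => by
        have := hh g hg
        rw [mul_inv_eq_iff_eq_mul] at this
        exact this.symm)
    have hw2 : w * (w * g * w⁻¹) * w⁻¹ = g := by
      have h := Subgroup.mem_centralizer_iff.mp hi g hg
      rw [pow_succ, pow_mul, ← hw, pow_two] at h
      calc w * (w * g * w⁻¹) * w⁻¹ = (w * w) * g * (w * w)⁻¹ := by group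
        _ = g := by rw [← h, mul_inv_cancel_right]
    have hyP : g⁻¹ * (w * g * w⁻¹) ∈ P :=
      mul_mem (inv_mem hg) ((Subgroup.mem_normalizer_iff.mp hwN g).mp hg)
    refine ⟨w, g⁻¹ * (w * g * w⁻¹), ?_, ?_, ?_, ?_⟩
    · obtain ⟨j, -, hj⟩ := (Nat.dvd_prime_pow Nat.prime_two).mp (hk ▸ orderOf_pow_dvd (2 ^ i) : orderOf w ∣ 2 ^ k)
      exact ⟨j, hj⟩
    · obtain ⟨j, hj⟩ := IsPGroup.iff_orderOf.mp hP ⟨_, hyP⟩
      exact ⟨j, by rw [← hj, Subgroup.orderOf_mk]⟩
    · exact fun h => hgw (inv_mul_eq_one.mp h).symm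
    · rw [← conj_mul, ← conj_inv, hw2]
      group
  have h31 : (∃ x y : G, (∃ k : ℕ, orderOf x = 2 ^ k) ∧ (∃ k : ℕ, orderOf y = p ^ k) ∧ y ≠ 1 ∧
      x * y * x⁻¹ = y⁻¹) → Cfsg.Involves (DihedralGroup p) G := by
    rintro ⟨x, y, ⟨k, hk⟩, ⟨j, hj⟩, hy1, hxy⟩
    obtain ⟨j, rfl⟩ : ∃ j', j = j' + 1 := ⟨j - 1, by
      rcases j with _ | j
      · exact absurd (orderOf_eq_one_iff.mp (by simpa using hj)) hy1
      · rfl⟩
    set y0 := y ^ (p ^ j) with hy0
    have hoy : orderOf y0 = p := by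
      rw [hy0, orderOf_pow, hj, Nat.gcd_eq_right (pow_dvd_pow p (Nat.le_succ j)), pow_succ,
        Nat.mul_div_cancel_left _ (pow_pos hpp.pos j)]
    have hinv : x * y0 * x⁻¹ = y0⁻¹ := by rw [hy0, ← conj_pow, hxy, inv_pow]
    set K := Subgroup.closure ({y0, x} : Set G) with hK
    have hyK : y0 ∈ K := Cfsg.Lib.TwoGroup.mem_closure_left _ _
    have hxK : x ∈ K := Cfsg.Lib.TwoGroup.mem_closure_right _ _
    set xk : ↥K := ⟨x, hxK⟩ with hxk
    set yk : ↥K := ⟨y0, hyK⟩ with hyk
    have hxx : Commute (xk * xk) yk := Subtype.ext (by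
      show x * x * y0 = y0 * (x * x)
      have h1 : x * x * y0 * (x * x)⁻¹ = y0 := by
        calc x * x * y0 * (x * x)⁻¹ = x * (x * y0 * x⁻¹) * x⁻¹ := by group
          _ = y0 := by rw [hinv, ← conj_inv, hinv, inv_inv]
      exact mul_inv_eq_iff_eq_mul.mp h1)
    set R := Subgroup.zpowers (xk * xk) with hR
    have hgenK : Subgroup.closure ({yk, xk} : Set ↥K) = ⊤ := by
      apply Subgroup.map_injective K.subtype_injective
      rw [MonoidHom.map_closure, Set.image_pair, ← MonoidHom.range_eq_map, Subgroup.range_subtype]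
      exact hK.symm
    have hcen : ∀ g : ↥K, Commute g (xk * xk) := by
      intro g
      have hle : (⊤ : Subgroup ↥K) ≤ Subgroup.centralizer ({xk * xk} : Set ↥K) := by
        rw [← hgenK, Subgroup.closure_le]
        exact Set.insert_subset (Subgroup.mem_centralizer_singleton_iff.mpr hxx.symm.eq)
          (Set.singleton_subset_iff.mpr (Subgroup.mem_centralizer_singleton_iff.mpr (mul_assoc _ _ _).symm))
      exact Subgroup.mem_centralizer_singleton_iff.mp (hle (Subgroup.mem_top g))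
    haveI : R.Normal := ⟨fun n hn g => by
      obtain ⟨i, rfl⟩ := Subgroup.mem_zpowers_iff.mp hn
      rw [((hcen g).zpow_right i).eq, mul_inv_cancel_right]
      exact zpow_mem (Subgroup.mem_zpowers _) i⟩
    let m := QuotientGroup.mk' R
    have hord : orderOf (m yk) = p := by
      rcases (Nat.dvd_prime hpp).mp (hoy ▸ (Subgroup.orderOf_mk y0 hyK) ▸ orderOf_map_dvd m yk :
          orderOf (m yk) ∣ p) with h | h
      · exfalso
        rw [orderOf_eq_one_iff] at h
        have h1 : yk ∈ R := (QuotientGroup.eq_one_iff _).mp h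
        obtain ⟨i, hi⟩ := Subgroup.mem_zpowers_iff.mp h1
        have h2 : orderOf y0 ∣ orderOf x := by
          have : (x * x) ^ i = y0 := congrArg Subtype.val hi
          exact orderOf_dvd_of_mem_zpowers (this ▸ zpow_mem (mul_mem (Subgroup.mem_zpowers x)
            (Subgroup.mem_zpowers x)) i)
        rw [hoy, hk] at h2
        have := (Nat.prime_dvd_prime_iff_eq hpp Nat.prime_two).mp (hpp.dvd_of_dvd_pow h2)
        exact hp this
      · exact h
    have ht : m xk * m xk = 1 := by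
      rw [← map_mul]; exact (QuotientGroup.eq_one_iff _).mpr (Subgroup.mem_zpowers _)
    have hinv' : m xk * m yk * (m xk)⁻¹ = (m yk)⁻¹ := by
      rw [← map_inv, ← map_inv, ← map_mul, ← map_mul]
      exact congrArg m (Subtype.ext hinv)
    have hnot : m xk ∉ Subgroup.zpowers (m yk) := by
      intro h
      obtain ⟨i, hi⟩ := Subgroup.mem_zpowers_iff.mp h
      have h1 : m xk * m yk * (m xk)⁻¹ = m yk := by rw [← hi]; group
      rw [hinv', inv_eq_iff_mul_eq_one, ← pow_two] at h1
      have := Nat.le_of_dvd two_pos (hord ▸ orderOf_dvd_of_pow_eq_one h1)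
      omega
    obtain ⟨e⟩ := Cfsg.Lib.TwoGroup.equiv_dihedral ht hinv' hnot
    rw [hord] at e
    have htop : Subgroup.closure ({m yk, m xk} : Set (↥K ⧸ R)) = ⊤ := by
      rw [← Set.image_pair, ← MonoidHom.map_closure, hgenK,
        Subgroup.map_top_of_surjective m (QuotientGroup.mk'_surjective R)]
    let e' := (Subgroup.topEquiv.symm.trans (MulEquiv.subgroupCongr htop.symm)).trans e
    refine Cfsg.Lib.FusionSys.involves_iff_exists_hom.mpr ⟨K, e'.toMonoidHom.comp m, fun d => ?_⟩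
    obtain ⟨c, hc⟩ := QuotientGroup.mk'_surjective R (e'.symm d)
    refine ⟨c, ?_⟩
    show e' (m c) = d
    rw [show m c = e'.symm d from hc, MulEquiv.apply_symm_apply]
  have h12 : Cfsg.Involves (DihedralGroup p) G → ∃ (x : G) (P : Subgroup G),
      (∃ k : ℕ, orderOf x = 2 ^ k) ∧ IsPGroup p ↥P ∧ x ∈ Subgroup.normalizer (P : Set G) ∧
        x ∉ Subgroup.centralizer (P : Set G) := by
    intro h
    obtain ⟨K, f, hf⟩ := Cfsg.Lib.FusionSys.involves_iff_exists_hom.mp h
    set Rot := Subgroup.zpowers (DihedralGroup.r 1 : DihedralGroup p) with hRot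
    have hRcard : Nat.card ↥Rot = p := by rw [Nat.card_zpowers, DihedralGroup.orderOf_r_one]
    have hRi : Rot.index = 2 := by
      have h := Rot.card_mul_index
      rw [hRcard, DihedralGroup.nat_card, mul_comm 2 p] at h
      exact Nat.eq_of_mul_eq_mul_left hpp.pos h
    haveI : Rot.Normal := Subgroup.normal_of_index_eq_two hRi
    set M := Rot.comap f with hM
    haveI : M.Normal := inferInstance
    let fM := f.subgroupComap Rot
    have hfM : Function.Surjective fM := fun y => by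
      obtain ⟨a, ha⟩ := hf y
      exact ⟨⟨a, by show f a ∈ Rot; rw [ha]; exact y.2⟩, Subtype.ext ha⟩
    let P : Sylow p ↥M := default
    have hPimg : (P : Subgroup ↥M).map fM = ⊤ := by
      have h1 := (P.mapSurjective hfM).card_eq_multiplicity
      rw [hRcard, hpp.factorization_self, pow_one] at h1
      exact Subgroup.eq_top_of_card_eq _ (by rw [← Sylow.coe_mapSurjective hfM P, h1, hRcard])
    have hfront := Sylow.normalizer_sup_eq_top P
    set P' := (P : Subgroup ↥M).map M.subtype with hP'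
    have hrP : ∀ r ∈ Rot, ∃ a ∈ P', f a = r := by
      intro r hr
      obtain ⟨a, ha, hav⟩ := (hPimg.symm ▸ Subgroup.mem_top (⟨r, hr⟩ : ↥Rot) :
        (⟨r, hr⟩ : ↥Rot) ∈ (P : Subgroup ↥M).map fM)
      exact ⟨a, ⟨a, ha, rfl⟩, congrArg Subtype.val hav⟩
    obtain ⟨n, hn, hnR⟩ : ∃ n ∈ Subgroup.normalizer (P' : Set ↥K), f n ∉ Rot := by
      by_contra hh
      push Not at hh
      have : (⊤ : Subgroup ↥K) ≤ M := by
        rw [← hfront]; exact sup_le (fun a ha => hh a ha) le_rfl
      have h2 : Rot = ⊤ := eq_top_iff.mpr fun y _ => by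
        obtain ⟨a, rfl⟩ := hf y; exact this (Subgroup.mem_top a)
      rw [h2, Subgroup.index_top] at hRi
      omega
    obtain ⟨a, m, hm, ham⟩ := Nat.exists_eq_pow_mul_and_not_dvd (orderOf_pos n).ne' 2 (by norm_num)
    obtain ⟨s, hs⟩ : ∃ s, f n = DihedralGroup.sr s := by
      rcases hfn : f n with s | s
      · exact absurd (hfn ▸ Subgroup.mem_zpowers_iff.mpr ⟨(s.cast : ℤ), by
          rw [DihedralGroup.r_one_zpow, ZMod.intCast_zmod_cast]⟩) hnR
      · exact ⟨s, rfl⟩
    obtain ⟨t, rfl⟩ : Odd m := by rw [← Nat.not_even_iff_odd, even_iff_two_dvd]; exact hm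
    set x := n ^ (2 * t + 1) with hx
    have hfx : f x = DihedralGroup.sr s := by
      rw [hx, map_pow, pow_succ, pow_mul, hs, pow_two, DihedralGroup.sr_mul_self, one_pow, one_mul]
    refine ⟨x, P'.map K.subtype, ⟨a, ?_⟩, (P.2.map _).map _, ?_, ?_⟩
    · rw [Subgroup.orderOf_coe, hx, orderOf_pow, ham, Nat.gcd_eq_right (dvd_mul_left _ _),
        Nat.mul_div_cancel _ (by omega)]
    · exact Subgroup.le_normalizer_map K.subtype ⟨x, pow_mem hn _, rfl⟩
    · intro hc
      obtain ⟨b, hb, hfb⟩ := hrP (DihedralGroup.r 1) (Subgroup.mem_zpowers _)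
      have h1 : b * x = x * b := Subtype.ext (Subgroup.mem_centralizer_iff.mp hc b ⟨b, hb, rfl⟩)
      have h2 := congrArg f h1
      rw [map_mul, map_mul, hfx, hfb, DihedralGroup.r_mul_sr, DihedralGroup.sr_mul_r] at h2
      have h3 : ((2 : ℕ) : ZMod p) = 0 := by
        have := DihedralGroup.sr.inj h2
        push_cast
        linear_combination -this
      rw [ZMod.natCast_eq_zero_iff] at h3
      have := Nat.le_of_dvd two_pos h3
      omega
  refine ⟨⟨h12, fun ⟨x, P, a, b, c, d⟩ => h31 (h23 x P a b c d)⟩, ⟨fun h => ?_, h31⟩⟩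
  obtain ⟨x, P, a, b, c, d⟩ := h12 h
  exact h23 x P a b c d

end Cfsg.Agent.S2758
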