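import Cfsg.Statements.S2759
import Cfsg.Agent.Lib.Local.SFour
import Cfsg.Agent.S2758
import Cfsg.Agent.Lib.TwoGroup.Models
-- import your own Cfsg.Agent.* helpers here

set_option autoImplicit false
open Cfsg

namespace Cfsg.Agent.S2759

/-- A lift of a `p`-element through a surjection may be chosen a `p`-element. -/
theorem lift {A B : Type*} [Group A] [Finite A] [Group B] (q : A →* B) (hq : Function.Surjective q)
    {p : ℕ} [hp : Fact p.Prime] {a : B} (ha : ∃ k, orderOf a = p ^ k) :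
    ∃ g : A, q g = a ∧ ∃ k, orderOf g = p ^ k := by
  obtain ⟨k, hk⟩ := ha
  obtain ⟨g, rfl⟩ := hq a
  obtain ⟨i, m, hm, him⟩ := Nat.exists_eq_pow_mul_and_not_dvd (orderOf_pos g).ne' p hp.out.ne_one
  obtain ⟨u, v, huv⟩ : IsCoprime (m : ℤ) ((p ^ k : ℕ) : ℤ) :=
    Nat.isCoprime_iff_coprime.mpr ((Nat.Coprime.pow_left k ((hp.out.coprime_iff_not_dvd).mpr hm)).symm)
  refine ⟨g ^ (u * m), ?_, ?_⟩
  · rw [map_zpow, show u * (m : ℤ) = 1 + ((p ^ k : ℕ) : ℤ) * (-v) by linarith, zpow_add, zpow_one,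
      zpow_mul, zpow_natCast, ← hk, pow_orderOf_eq_one, one_zpow, mul_one]
  · obtain ⟨j, -, hj⟩ := (Nat.dvd_prime_pow hp.out).mp (show orderOf (g ^ (u * m)) ∣ p ^ i by
      refine orderOf_dvd_of_pow_eq_one ?_
      rw [← zpow_natCast, ← zpow_mul, mul_assoc, ← Nat.cast_mul, mul_comm u, zpow_mul, zpow_natCast,
        mul_comm m, ← him, pow_orderOf_eq_one, one_zpow])
    exact ⟨j, hj⟩

/-- The action of `S₄` on the three pairings of four points. -/
def pairingFun (σ : Equiv.Perm (Fin 4)) (k : Fin 3) : Fin 3 :=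
  ![![(0 : Fin 3), 0, 1, 2], ![0, 0, 2, 1], ![1, 2, 0, 0], ![2, 1, 0, 0]] (σ 0)
    (σ ⟨k.1 + 1, by omega⟩)

theorem pairingFun_mul : ∀ σ τ : Equiv.Perm (Fin 4), ∀ k : Fin 3,
    pairingFun (σ * τ) k = pairingFun σ (pairingFun τ k) := by decide +kernel

theorem pairingFun_one : ∀ k : Fin 3, pairingFun 1 k = k := by decide +kernel

/-- The homomorphism `S₄ → S₃`. -/
def pairing : Equiv.Perm (Fin 4) →* Equiv.Perm (Fin 3) :=
  MonoidHom.mk' (fun σ => ⟨pairingFun σ, pairingFun σ⁻¹,
    fun k => by rw [← pairingFun_mul, inv_mul_cancel, pairingFun_one],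
    fun k => by rw [← pairingFun_mul, mul_inv_cancel, pairingFun_one]⟩)
    fun σ τ => Equiv.ext fun k => pairingFun_mul σ τ k

theorem pairing_surjective : Function.Surjective pairing := by
  unfold Function.Surjective; decide +kernel

theorem card_pairing_ker : Nat.card pairing.ker = 4 := by
  have h := Subgroup.card_mul_index pairing.ker
  rw [Subgroup.index_ker, MonoidHom.range_eq_top.mpr pairing_surjective, Subgroup.card_top,
    Nat.card_perm, Nat.card_perm, Nat.card_fin, Nat.card_fin] at h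
  have e3 : Nat.factorial 3 = 6 := rfl
  have e4 : Nat.factorial 4 = 24 := rfl
  rw [e3, e4] at h
  omega

theorem pairing_centralizer' : ∀ σ : Equiv.Perm (Fin 4),
    (∀ v, pairing v = 1 → σ * v = v * σ) → pairing σ = 1 := by decide +kernel

theorem pairing_centralizer (σ : Equiv.Perm (Fin 4)) (h : ∀ v ∈ pairing.ker, σ * v = v * σ) :
    pairing σ = 1 := pairing_centralizer' σ fun v hv => h v hv

theorem dihedral_three : Nonempty (DihedralGroup 3 ≃* Equiv.Perm (Fin 3)) := by
  set r : Equiv.Perm (Fin 3) := Equiv.swap 0 1 * Equiv.swap 1 2 with hr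
  set t : Equiv.Perm (Fin 3) := Equiv.swap 0 1 with ht
  have hr3 : r ^ 3 = 1 ∧ r ≠ 1 ∧ t * t = 1 ∧ t * r * t⁻¹ = r⁻¹ ∧ t ≠ 1 ∧ t ≠ r ∧ t ≠ r ^ 2 := by
    rw [hr, ht]; decide +kernel
  obtain ⟨h1, h2, h3, h4, h5, h6, h7⟩ := hr3
  have ho : orderOf r = 3 := orderOf_eq_prime h1 h2
  have hnot : t ∉ Subgroup.zpowers r := by
    intro h
    rw [mem_zpowers_iff_mem_range_orderOf, ho] at h
    obtain ⟨i, hi, hit⟩ := Finset.mem_image.mp h
    rw [Finset.mem_range] at hi
    interval_cases i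
    · exact h5 (by rw [← hit, pow_zero])
    · exact h6 (by rw [← hit, pow_one])
    · exact h7 hit.symm
  obtain ⟨e⟩ := Cfsg.Lib.TwoGroup.equiv_dihedral h3 h4 hnot
  rw [ho] at e
  have htop : Subgroup.closure ({r, t} : Set (Equiv.Perm (Fin 3))) = ⊤ := by
    refine Subgroup.eq_top_of_card_eq _ ?_
    rw [Nat.card_congr e.toEquiv, DihedralGroup.nat_card, Nat.card_perm, Nat.card_fin]
    rfl
  exact ⟨((Subgroup.topEquiv.symm.trans (MulEquiv.subgroupCongr htop.symm)).trans e).symm⟩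

/-- For a finite group G, the symmetric group of degree 4 is involved in G if and only if there is a 2-subgroup T of G such that the symmetric group of degree 3 is involved in N(T)/C(T). -/
theorem result {G : Type*} [Group G] [Finite G] : Cfsg.Involves (Equiv.Perm (Fin 4)) G ↔ ∃ T : Subgroup G, IsPGroup 2 ↥T ∧ Cfsg.Involves (Equiv.Perm (Fin 3)) (↥(Subgroup.normalizer (T : Set G)) ⧸ (Subgroup.centralizer (T : Set G)).subgroupOf (Subgroup.normalizer (T : Set G))) := by
  haveI : Fact (Nat.Prime 2) := ⟨Nat.prime_two⟩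
  haveI : Fact (Nat.Prime 3) := ⟨Nat.prime_three⟩
  constructor
  · intro h
    obtain ⟨K, f, hf⟩ := Cfsg.Lib.FusionSys.involves_iff_exists_hom.mp h
    set ρf : ↥K →* Equiv.Perm (Fin 3) := pairing.comp f with hρf
    have hρs : Function.Surjective ρf := pairing_surjective.comp hf
    set M := ρf.ker with hM
    let fM : ↥M →* ↥pairing.ker := (f.comp M.subtype).codRestrict pairing.ker fun m => m.2
    have hfM : Function.Surjective fM := by
      rintro ⟨v, hv⟩
      obtain ⟨k, hk⟩ := hf v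
      exact ⟨⟨k, by show pairing (f k) = 1; rw [hk]; exact hv⟩, Subtype.ext hk⟩
    let P : Sylow 2 ↥M := default
    have hPimg : (P : Subgroup ↥M).map fM = ⊤ := by
      refine Subgroup.eq_top_of_card_eq _ ?_
      have h1 := (P.mapSurjective hfM).card_eq_multiplicity
      rw [← Sylow.coe_mapSurjective hfM P, h1, card_pairing_ker, show (4 : ℕ) = 2 ^ 2 from rfl,
        Nat.prime_two.factorization_pow, Finsupp.single_eq_same]
    have hfr := Sylow.normalizer_sup_eq_top P
    set P' := (P : Subgroup ↥M).map M.subtype with hP'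
    set T := P'.map K.subtype with hT
    set L := Subgroup.normalizer (P' : Set ↥K) with hL
    refine ⟨T, (P.2.map _).map _, ?_⟩
    set C := (Subgroup.centralizer (T : Set G)).subgroupOf (Subgroup.normalizer (T : Set G)) with hC
    have hLT : ∀ l ∈ L, (l : G) ∈ Subgroup.normalizer (T : Set G) := fun l hl =>
      Subgroup.le_normalizer_map K.subtype ⟨l, hl, rfl⟩
    let j : ↥L →* ↥(Subgroup.normalizer (T : Set G)) :=
      (K.subtype.comp L.subtype).codRestrict _ fun l => hLT l l.2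
    let q : ↥L →* (↥(Subgroup.normalizer (T : Set G)) ⧸ C) := (QuotientGroup.mk' C).comp j
    let g : ↥L →* Equiv.Perm (Fin 3) := ρf.comp L.subtype
    have hg : Function.Surjective g := fun σ => by
      obtain ⟨k, rfl⟩ := hρs σ
      obtain ⟨l, hl, m, hm, rfl⟩ := Subgroup.mem_sup_of_normal_right.mp
        (hfr.symm ▸ Subgroup.mem_top k : k ∈ L ⊔ M)
      refine ⟨⟨l, hl⟩, ?_⟩
      show ρf l = ρf (l * m)
      rw [map_mul, show ρf m = 1 from hm, mul_one]
    have hker : q.ker ≤ g.ker := by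
      intro l hl
      have hlC : ((l : ↥K) : G) ∈ Subgroup.centralizer (T : Set G) :=
        Subgroup.mem_subgroupOf.mp ((QuotientGroup.eq_one_iff (j l)).mp hl)
      refine pairing_centralizer (f (l : ↥K)) fun v hv => ?_
      obtain ⟨m, hm, hmv⟩ : (⟨v, hv⟩ : ↥pairing.ker) ∈ (P : Subgroup ↥M).map fM :=
        hPimg ▸ Subgroup.mem_top _
      have hv' : f (m : ↥K) = v := congrArg Subtype.val hmv
      rw [← hv', ← map_mul, ← map_mul]
      exact congrArg f (Subtype.ext (Subgroup.mem_centralizer_iff.mp hlC _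
        ⟨_, ⟨m, hm, rfl⟩, rfl⟩).symm)
    refine Cfsg.Lib.FusionSys.involves_iff_exists_hom.mpr ⟨q.range,
      q.rangeRestrict.liftOfSurjective q.rangeRestrict_surjective
        ⟨g, by rw [MonoidHom.ker_rangeRestrict]; exact hker⟩, fun σ => ?_⟩
    obtain ⟨l, rfl⟩ := hg σ
    exact ⟨q.rangeRestrict l,
      MonoidHom.liftOfRightInverse_comp_apply _ _ _ ⟨g, _⟩ l⟩
  · rintro ⟨T, hT, h⟩
    set C := (Subgroup.centralizer (T : Set G)).subgroupOf (Subgroup.normalizer (T : Set G)) with hC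
    obtain ⟨e⟩ := dihedral_three
    obtain ⟨K, f, hf⟩ := Cfsg.Lib.FusionSys.involves_iff_exists_hom.mp h
    have hD : Cfsg.Involves (DihedralGroup 3) (↥(Subgroup.normalizer (T : Set G)) ⧸ C) :=
      Cfsg.Lib.FusionSys.involves_iff_exists_hom.mpr
        ⟨K, e.symm.toMonoidHom.comp f, e.symm.surjective.comp hf⟩
    obtain ⟨a, b, ⟨k, hk⟩, ⟨i, hi⟩, hb1, hab⟩ :=
      ((Cfsg.Agent.S2758.result (p := 3) (by norm_num)).2).mp hD
    obtain ⟨i, rfl⟩ : ∃ i', i = i' + 1 := ⟨i - 1, by
      rcases i with _ | i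
      · exact absurd (orderOf_eq_one_iff.mp (by simpa using hi)) hb1
      · rfl⟩
    set b0 := b ^ (3 ^ i) with hb0
    have hob : orderOf b0 = 3 := by
      rw [hb0, orderOf_pow, hi, Nat.gcd_eq_right (pow_dvd_pow 3 (Nat.le_succ i)), pow_succ,
        Nat.mul_div_cancel_left _ (pow_pos (by norm_num) i)]
    have hab0 : a * b0 * a⁻¹ = b0⁻¹ := by rw [hb0, ← conj_pow, hab, inv_pow]
    obtain ⟨x, hxa, hxo⟩ := lift (QuotientGroup.mk' C) (QuotientGroup.mk'_surjective C) ⟨k, hk⟩
    obtain ⟨y, hyb, hyo⟩ := lift (QuotientGroup.mk' C) (QuotientGroup.mk'_surjective C)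
      (p := 3) (a := b0) ⟨1, by rw [hob, pow_one]⟩
    have hmem : ∀ g : ↥(Subgroup.normalizer (T : Set G)), QuotientGroup.mk' C g = 1 ↔
        (g : G) ∈ Subgroup.centralizer (T : Set G) := fun g =>
      (QuotientGroup.eq_one_iff g).trans Subgroup.mem_subgroupOf
    obtain ⟨k', hk'⟩ := hxo
    obtain ⟨i', hi'⟩ := hyo
    refine Cfsg.Lib.Local.involves_four_of_inverted hT x.2 y.2 ⟨k', (Subgroup.orderOf_coe x).trans hk'⟩
      ⟨i', (Subgroup.orderOf_coe y).trans hi'⟩ ?_ ?_ ?_
    · have := (hmem (y ^ 3)).mp (by rw [map_pow, hyb, ← hob, pow_orderOf_eq_one])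
      simpa using this
    · intro hc
      have := (hmem y).mpr hc
      rw [hyb] at this
      rw [this, orderOf_one] at hob
      omega
    · have := (hmem (x * y * x⁻¹ * y)).mp (by
        rw [map_mul, map_mul, map_mul, map_inv, hxa, hyb, hab0, inv_mul_cancel])
      simpa using this

end Cfsg.Agent.S2759
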