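import Cfsg.Statements.S1996
import Cfsg.Agent.Lib.Sig.SectionControl

set_option autoImplicit false
universe u
open Cfsg

namespace Cfsg.Agent.S1996

/-- Let p be a prime, G a finite group and W₁, W₂ two isomorphism-invariant p-group functors (W assigns to every group Q a subgroup W(Q), nontrivial whenever Q is a nontrivial finite p-group, and every isomorphism from a finite p-group Q onto a group R carries W(Q) onto W(R)). Suppose that G* = N_{G*}(W₁(S*)) N_{G*}(W₂(S*)) whenever G* = K/R is a section of G with C_{G*}(O_p(G*)) ≤ O_p(G*) and S* is a Sylow p-subgroup of G*. Then the pair {W₁, W₂} controls strong fusion in G. -/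
theorem result {G : Type u} [Group G] [Finite G] {p : ℕ} [Fact p.Prime] (W₁ W₂ : ∀ (Q : Type u) [Group Q], Subgroup Q) (hW₁ : Cfsg.IsCharPFunctor.{u} p W₁) (hW₂ : Cfsg.IsCharPFunctor.{u} p W₂) (hfac : ∀ (K R : Subgroup G) [hR : (R.subgroupOf K).Normal], Subgroup.centralizer ((Cfsg.pCore p (↥K ⧸ R.subgroupOf K) : Subgroup (↥K ⧸ R.subgroupOf K)) : Set (↥K ⧸ R.subgroupOf K)) ≤ Cfsg.pCore p (↥K ⧸ R.subgroupOf K) → ∀ T : Sylow p (↥K ⧸ R.subgroupOf K), ∀ x : (↥K ⧸ R.subgroupOf K), ∃ a ∈ Subgroup.normalizer ((Cfsg.inducedFunctor (G := (↥K ⧸ R.subgroupOf K)) W₁ (T : Subgroup (↥K ⧸ R.subgroupOf K)) : Subgroup (↥K ⧸ R.subgroupOf K)) : Set (↥K ⧸ R.subgroupOf K)), ∃ b ∈ Subgroup.normalizer ((Cfsg.inducedFunctor (G := (↥K ⧸ R.subgroupOf K)) W₂ (T : Subgroup (↥K ⧸ R.subgroupOf K)) : Subgroup (↥K ⧸ R.subgroupOf K)) : Set (↥K ⧸ R.subgroupOf K)), x = a * b) : Cfsg.FamilyControlsStrongFusionIn p {Cfsg.inducedFunctor (G :=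 G) W₁, Cfsg.inducedFunctor (G := G) W₂} ⊤ := by
    have h𝓦 : ∀ W ∈ ({W₁, W₂} : Set (∀ (Q : Type u) [Group Q], Subgroup Q)),
        Cfsg.IsCharPFunctor.{u} p W := by
      rintro W (rfl | rfl)
      exacts [hW₁, hW₂]
    have key := Cfsg.Lib.Sig.strongFusion_of_sections {W₁, W₂} h𝓦 (Nat.card G) G le_rfl ?_
    · simpa [Cfsg.Lib.Sig.inducedFamily, Set.image_insert_eq, Set.image_singleton] using key
    refine Cfsg.Lib.Sig.sectionHyp_of_sections ?_ fun K R hR hc => ?_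
    · intro Y Z _ _ _ _ e h
      have := Cfsg.Lib.Sig.familyControlsStrongFusionIn_map _ h𝓦 e.toMonoidHom e.injective h
      rwa [MonoidHom.range_eq_top.2 e.surjective] at this
    set Y := ↥K ⧸ R.subgroupOf K
    obtain ⟨T⟩ : Nonempty (Sylow p Y) := inferInstance
    set N₁ := Subgroup.normalizer ((Cfsg.inducedFunctor (G := Y) W₁ (T : Subgroup Y) : Subgroup Y) : Set Y)
    set N₂ := Subgroup.normalizer ((Cfsg.inducedFunctor (G := Y) W₂ (T : Subgroup Y) : Subgroup Y) : Set Y)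
    have hTN : ∀ W ∈ Cfsg.Lib.Sig.inducedFamily ({W₁, W₂} : Set (∀ (Q : Type u) [Group Q], Subgroup Q)) Y,
        (T : Subgroup Y) ≤ Subgroup.normalizer ((W (T : Subgroup Y) : Subgroup Y) : Set Y) :=
      fun W hW z hz => Cfsg.Lib.Sig.mem_normalizer_of_map_conj (by
        rw [← (Cfsg.Lib.Sig.isConjugacyFunctor_inducedFamily _ h𝓦 Y W hW _ T.2).2.2 z,
          Cfsg.Lib.Sig.map_conj_eq_of_mem_normalizer (Subgroup.le_normalizer hz)])
    have hT1 : (T : Subgroup Y) ≤ N₁ := hTN _ ⟨W₁, Or.inl rfl, rfl⟩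
    have hT2 : (T : Subgroup Y) ≤ N₂ := hTN _ ⟨W₂, Or.inr rfl, rfl⟩
    refine ⟨T, le_top, T.2, by simpa using T.not_dvd_index, fun A x _ hA hA' => ?_⟩
    obtain ⟨a, ha, b, hb, rfl⟩ := hfac K R hc T x
    have hST : (T : Subgroup Y) ≤ N₁ ⊓ N₂ := le_inf hT1 hT2
    obtain ⟨m, hm, hle⟩ := Cfsg.Lib.Sig.exists_conj_le_of_relIndex hST T.2
      (fun h => T.not_dvd_index (h.trans (Subgroup.relIndex_dvd_index_of_le hST)))
      (R := Subgroup.closure ((fun z => b * z * b⁻¹) '' A)) ((Subgroup.closure_le _).2 (by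
        rintro _ ⟨z, hz, rfl⟩
        refine Subgroup.mem_inf.2 ⟨?_, mul_mem (mul_mem hb (hT2 (hA hz))) (inv_mem hb)⟩
        have e : b * z * b⁻¹ = a⁻¹ * (a * b * z * (a * b)⁻¹) * a := by group
        show b * z * b⁻¹ ∈ N₁
        rw [e]
        exact mul_mem (mul_mem (inv_mem ha) (hT1 (hA' ⟨z, hz, rfl⟩))) ha))
      ((T.2.map (MulAut.conj b).toMonoidHom).to_le ((Subgroup.closure_le _).2 (by
        rintro _ ⟨z, hz, rfl⟩; exact Cfsg.Lib.Sig.conj_mem_map_conj (hA hz))))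
    have hmb : ∀ z ∈ A, m * b * z * (m * b)⁻¹ ∈ (T : Subgroup Y) := fun z hz => by
      have := hle (Cfsg.Lib.Sig.conj_mem_map_conj (g := m)
        (Subgroup.subset_closure ⟨z, hz, rfl⟩ : b * z * b⁻¹ ∈ Subgroup.closure ((fun z => b * z * b⁻¹) '' A)))
      have e : m * b * z * (m * b)⁻¹ = m * (b * z * b⁻¹) * m⁻¹ := by group
      rwa [e]
    refine ⟨2, ![1, m * b, a * b], rfl, fun i => ?_, fun i => ?_, fun z _ => rfl⟩
    · fin_cases i
      · refine ⟨_, ⟨W₂, Or.inr rfl, rfl⟩, ?_⟩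
        simpa using mul_mem (Subgroup.mem_inf.1 hm).2 hb
      · refine ⟨_, ⟨W₁, Or.inl rfl, rfl⟩, ?_⟩
        have : a * b * (m * b)⁻¹ = a * m⁻¹ := by group
        simpa [this] using mul_mem ha (inv_mem (Subgroup.mem_inf.1 hm).1)
    · fin_cases i
      · rintro _ ⟨z, hz, rfl⟩
        show 1 * z * 1⁻¹ ∈ (T : Subgroup Y)
        rw [one_mul, inv_one, mul_one]; exact hA hz
      · rintro _ ⟨z, hz, rfl⟩
        exact hmb z hz
      · rintro _ ⟨z, hz, rfl⟩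
        exact hA' ⟨z, hz, rfl⟩

end Cfsg.Agent.S1996
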