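import Cfsg.Statements.S2761
import Mathlib
-- import your own Cfsg.Agent.* helpers here

set_option autoImplicit false
open Cfsg

namespace Cfsg.Agent.S2761

/-- The group Qd(2), the natural semidirect product of an elementary abelian group of order 4 by SL₂(2) (realised as the affine subgroup of SL₃(2)), is isomorphic to the symmetric group of degree 4. -/
theorem result : Nonempty (↥(Cfsg.qd 2) ≃* Equiv.Perm (Fin 4)) := by
  classical
  let p : Fin 4 → (Fin 3 → ZMod 2) := ![![0, 0, 1], ![1, 0, 1], ![0, 1, 1], ![1, 1, 1]]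
  have hp : Function.Injective p := by decide
  have hsurj : ∀ v : Fin 3 → ZMod 2, v 2 = 1 → ∃ i, p i = v := by decide
  have hext : ∀ M N : Matrix (Fin 3) (Fin 3) (ZMod 2),
      (∀ i, M.mulVec (p i) = N.mulVec (p i)) → M = N := by
    intro M N h
    ext r c
    have h0 := congrFun (h 0) r
    have h1 := congrFun (h 1) r
    have h2 := congrFun (h 2) r
    simp [p, Matrix.mulVec, dotProduct, Fin.sum_univ_three] at h0 h1 h2
    fin_cases c
    · simpa [h0] using h1
    · simpa [h0] using h2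
    · exact h0
  let S : Subgroup (Matrix.SpecialLinearGroup (Fin 3) (ZMod 2)) :=
    { carrier := {M | (M : Matrix (Fin 3) (Fin 3) (ZMod 2)) 2 0 = 0 ∧
        (M : Matrix (Fin 3) (Fin 3) (ZMod 2)) 2 1 = 0 ∧ (M : Matrix (Fin 3) (Fin 3) (ZMod 2)) 2 2 = 1}
      one_mem' := by simp
      mul_mem' := by
        rintro A B ⟨a0, a1, a2⟩ ⟨b0, b1, b2⟩
        simp [Matrix.mul_apply, Fin.sum_univ_three, a0, a1, a2, b0, b1, b2]
      inv_mem' := by
        rintro A ⟨a0, a1, a2⟩
        have h : ∀ j, ((A : Matrix (Fin 3) (Fin 3) (ZMod 2)) *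
            ((A⁻¹ : Matrix.SpecialLinearGroup (Fin 3) (ZMod 2)) : Matrix (Fin 3) (Fin 3) (ZMod 2))) 2 j =
            (1 : Matrix (Fin 3) (Fin 3) (ZMod 2)) 2 j := fun j => by
          rw [← Matrix.SpecialLinearGroup.coe_mul, mul_inv_cancel, Matrix.SpecialLinearGroup.coe_one]
        have h0 := h 0
        have h1 := h 1
        have h2 := h 2
        simp [Matrix.mul_apply, Fin.sum_univ_three, a0, a1, a2] at h0 h1 h2
        exact ⟨h0, h1, h2⟩ }
  have hq : Cfsg.qd 2 = S :=
    le_antisymm ((Subgroup.closure_le S).mpr fun M hM => hM) fun M hM => Subgroup.subset_closure hM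
  let Mat : Equiv.Perm (Fin 4) → Matrix (Fin 3) (Fin 3) (ZMod 2) := fun σ =>
    Matrix.of fun r c => ![p (σ 1) r - p (σ 0) r, p (σ 2) r - p (σ 0) r, p (σ 0) r] c
  have hact : ∀ σ : Equiv.Perm (Fin 4), ∀ i, (Mat σ).mulVec (p i) = p (σ i) := by decide +kernel
  have hdet : ∀ σ : Equiv.Perm (Fin 4), (Mat σ).det = 1 := by
    simp only [Matrix.det_fin_three]
    decide +kernel
  let φ : Equiv.Perm (Fin 4) →* Matrix.SpecialLinearGroup (Fin 3) (ZMod 2) :=
    { toFun := fun σ => ⟨Mat σ, hdet σ⟩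
      map_one' := Subtype.ext (hext _ _ fun i => by rw [hact]; simp)
      map_mul' := fun σ τ => Subtype.ext (hext _ _ fun i => by
        show (Mat (σ * τ)).mulVec (p i) = (Mat σ * Mat τ).mulVec (p i)
        rw [hact, ← Matrix.mulVec_mulVec, hact, hact]; rfl) }
  have hφ : Function.Injective φ := by
    intro σ τ h
    refine Equiv.ext fun i => hp ?_
    have h' : Mat σ = Mat τ := congrArg Subtype.val h
    rw [← hact, ← hact, h']
  have hr : φ.range = Cfsg.qd 2 := by
    rw [hq]
    refine le_antisymm ?_ fun M hM => ?_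
    · rintro _ ⟨σ, rfl⟩
      revert σ
      show ∀ σ : Equiv.Perm (Fin 4), Mat σ 2 0 = 0 ∧ Mat σ 2 1 = 0 ∧ Mat σ 2 2 = 1
      decide +kernel
    · obtain ⟨a0, a1, a2⟩ := hM
      have him : ∀ i, ∃ j, p j = (M : Matrix (Fin 3) (Fin 3) (ZMod 2)).mulVec (p i) := fun i =>
        hsurj _ (by
          have : p i 2 = 1 := by fin_cases i <;> rfl
          simp [Matrix.mulVec, dotProduct, Fin.sum_univ_three, a0, a1, a2, this])
      choose τ hτ using him
      have hτi : Function.Injective τ := fun i j h => hp (by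
        have h' := (hτ i).symm.trans ((congrArg p h).trans (hτ j))
        have h'' := congrArg ((M⁻¹ : Matrix.SpecialLinearGroup (Fin 3) (ZMod 2)) : Matrix (Fin 3) (Fin 3) (ZMod 2)).mulVec h'
        simpa only [Matrix.mulVec_mulVec, ← Matrix.SpecialLinearGroup.coe_mul, inv_mul_cancel,
          Matrix.SpecialLinearGroup.coe_one, Matrix.one_mulVec] using h'')
      refine ⟨Equiv.ofBijective τ hτi.bijective_of_finite, Subtype.ext (hext _ _ fun i => ?_)⟩
      exact (hact _ i).trans (hτ i)
  exact ⟨((MulEquiv.subgroupCongr hr).symm.trans (MonoidHom.ofInjective hφ).symm)⟩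

end Cfsg.Agent.S2761
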