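import Cfsg.Statements.S0991
import Cfsg.Agent.Lib.OrderLeHundred

set_option autoImplicit false
open Cfsg

namespace Cfsg.Agent.S0991

open Subgroup

theorem eq_one_of_simple {G : Type*} [Group G] [IsSimpleGroup G] (hG : ¬ IsMulCommutative G)
    {A : Type*} [CommGroup A] (f : G →* A) (g : G) : f g = 1 := by
  rcases (MonoidHom.normal_ker f).eq_bot_or_eq_top with h | h
  · refine absurd ⟨⟨fun a b => ?_⟩⟩ hG
    exact (MonoidHom.ker_eq_bot_iff f).mp h (by rw [map_mul, map_mul, mul_comm])
  · exact MonoidHom.mem_ker.mp (h ▸ mem_top g)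


/-- Embedding Theorem: if a non-abelian finite simple group has a proper subgroup of index n, then it is isomorphic to a subgroup of the alternating group of degree n. -/
theorem result {G : Type*} [Group G] [Finite G] [IsSimpleGroup G] (hG : ¬ IsMulCommutative G) (H : Subgroup G) (hH : H ≠ ⊤) : ∃ f : G →* ↥(alternatingGroup (Fin H.index)), Function.Injective f := by
  classical
  let e : G ⧸ H ≃ Fin H.index := Nat.equivFinOfCardPos (α := G ⧸ H) Nat.card_pos.ne'
  let f : G →* Equiv.Perm (Fin H.index) := (e.permCongrHom : _ →* _).comp (MulAction.toPermHom G (G ⧸ H))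
  have hinj : Function.Injective f :=
    (e.permCongrHom.injective).comp (Cfsg.Lib.OrderLeHundred.card_dvd_factorial_index hH).2
  refine ⟨f.codRestrict _ fun g => Equiv.Perm.mem_alternatingGroup.mpr
    (eq_one_of_simple hG (Equiv.Perm.sign.comp f) g), fun a b h => hinj ?_⟩
  have h' := congrArg Subtype.val h
  exact h'

end Cfsg.Agent.S0991
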