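import Cfsg.Statements.S3012
-- import your own Cfsg.Agent.* helpers here

set_option autoImplicit false
open Cfsg

namespace Cfsg.Agent.S3012

/-- Let G be a finite group, V a nontrivial elementary abelian 2-subgroup of G satisfying the Sidki pair condition (every odd-order element inverted by an element of V commutes with a nontrivial element of V), and K a normal subgroup of G with V ∩ K = 1. Then the image of V in G/K satisfies the Sidki pair condition in G/K. -/
theorem result {G : Type*} [Group G] [Finite G] (V K : Subgroup G) [K.Normal] (hV : Cfsg.IsElementaryAbelian 2 V) (hV1 : V ≠ ⊥) (hS : Cfsg.IsSidkiPair V) (hVK : V ⊓ K = ⊥) : Cfsg.IsSidkiPair (V.map (QuotientGroup.mk' K)) := by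
  rintro c u ⟨v, hv, rfl⟩ hc hinv
  obtain ⟨h, rfl⟩ := QuotientGroup.mk'_surjective K c
  set f := QuotientGroup.mk' K
  have hv2 : v * v = 1 := by simpa [sq] using hV.2 v hv
  have hvi : v⁻¹ = v := inv_eq_of_mul_eq_one_right hv2
  set x := h * v * h⁻¹ * v
  have hxv : v * x * v⁻¹ = x⁻¹ := by
    simp only [x, mul_inv_rev, inv_inv, hvi, mul_assoc, hv2, mul_one]
  obtain ⟨a, b, hb, hab⟩ := Nat.exists_eq_pow_mul_and_not_dvd (orderOf_pos x).ne' 2 (by norm_num)
  have hy : orderOf (x ^ 2 ^ a) = b := by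
    rw [orderOf_pow_of_dvd (by positivity) (hab ▸ dvd_mul_right _ _), hab,
      Nat.mul_div_cancel_left _ (by positivity)]
  obtain ⟨w, hw, hw1, hcomm⟩ := hS (x ^ 2 ^ a) v hv
    (by rw [hy, Nat.odd_iff]; omega) (by rw [← conj_pow, hxv, inv_pow])
  refine ⟨f w, ⟨w, hw, rfl⟩, fun h1 => hw1 ?_, ?_⟩
  · exact Subgroup.mem_bot.mp (hVK ▸ (⟨hw, (QuotientGroup.eq_one_iff w).mp h1⟩ : w ∈ V ⊓ K))
  · have hfx : f x = f h ^ 2 := by
      simp only [x, map_mul, map_inv]
      have h1 : f v * (f h)⁻¹ * (f v)⁻¹ = f h := by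
        rw [← inv_inj]
        simpa [mul_assoc] using hinv
      have h2 : (f v)⁻¹ = f v := by rw [← map_inv, hvi]
      rw [h2] at h1
      calc f h * f v * (f h)⁻¹ * f v = f h * (f v * (f h)⁻¹ * f v) := by group
        _ = f h ^ 2 := by rw [h1, sq]
    have hfy : Commute (f w) (f h ^ (2 * 2 ^ a)) := by
      rw [pow_mul, ← hfx, ← map_pow]
      exact (show Commute w (x ^ 2 ^ a) from hcomm).map f
    have hcop : (2 * 2 ^ a).Coprime (orderOf (f h)) := by
      refine Nat.Coprime.mul_left ?_ (Nat.Coprime.pow_left _ ?_) <;>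
        exact (Nat.prime_two.coprime_iff_not_dvd).mpr (by rw [Nat.odd_iff] at hc; omega)
    obtain ⟨m, hm⟩ := exists_pow_eq_self_of_coprime hcop
    have := hfy.pow_right m
    rw [hm] at this
    exact this.eq

end Cfsg.Agent.S3012
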