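import Cfsg.Statements.S1429
import Cfsg.Agent.Lib.Local.Sigma.KappaStructure

set_option autoImplicit false
open Cfsg

namespace Cfsg.Agent.S1429

open Subgroup Cfsg.Lib Cfsg.Lib.Local Cfsg.Lib.Local.Uniq Cfsg.Lib.Local.Sigma

/-- Let G be a minimal simple group of odd order and M a maximal subgroup such that κ(M) is not the whole of the primes of M outside σ(M) (M is not of type P₁). Let p divide the order of M with p ∉ σ(M) ∪ κ(M), S a Sylow p-subgroup of M, and A the subgroup generated by the elements of S of order dividing p. Then A has order at most p ^ 2, M_σ ∩ C_G(A) = 1, and M_σ is nilpotent. -/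
theorem result {G : Type*} [Group G] [Finite G] (hG : Cfsg.IsMinSimpleOddOrder G)
    (M : Subgroup G) (hM : IsCoatom M) (hP1 : ¬ (∀ q : ℕ, q.Prime → q ∣ Nat.card M → q ∉ Cfsg.sigma M → q ∈ Cfsg.kappa M))
    (p : ℕ) [Fact p.Prime] (hpM : p ∣ Nat.card M) (hp : p ∉ Cfsg.sigma M ∪ Cfsg.kappa M) (S : Sylow p M) :
    Nat.card ↥(Subgroup.closure {x : G | x ∈ (S : Subgroup M).map M.subtype ∧ x ^ p = 1}) ≤ p ^ 2 ∧
      Cfsg.sigmaCore M ⊓ Subgroup.centralizer ((Subgroup.closure {x : G | x ∈ (S : Subgroup M).map M.subtype ∧ x ^ p = 1} : Subgroup G) : Set G) = ⊥ ∧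
      Group.IsNilpotent (Cfsg.sigmaCore M) := by
  have hσ : p ∉ Cfsg.sigma M := fun h => hp (Or.inl h)
  have hκ : p ∉ Cfsg.kappa M := fun h => hp (Or.inr h)
  set SG := (S : Subgroup M).map M.subtype with hSG
  have hSp : IsPGroup p SG := S.isPGroup'.map _
  have hSM : SG ≤ M := map_subtype_le _
  set A := Subgroup.closure {x : G | x ∈ SG ∧ x ^ p = 1}
  have hp2 : p ≠ 2 := Uniq.ne_two hG (hpM.trans M.card_subgroup_dvd_card)
  by_cases hr1 : Cfsg.PRankLE p 1 M
  · haveI := isCyclic_of_rank_one hG hr1 hSp hSM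
    have hS1 : SG ≠ ⊥ := ne_bot_of_sylow hpM S
    obtain ⟨x, hx, hxp, hx1⟩ := exists_orderOf hSp hS1
    have hA : A = zpowers x := by
      refine le_antisymm ((Subgroup.closure_le _).mpr fun y hy => ?_) (zpowers_le.mpr (Subgroup.subset_closure ⟨hx, hxp⟩))
      exact mem_zpowers_of_isCyclic hx hy.1 hxp hx1 hy.2
    have hfree : Cfsg.sigmaCore M ⊓ centralizer ({x} : Set G) = ⊥ :=
      by_contra fun hne => hκ (mem_kappa hG hσ hr1 (hSM hx) hxp hx1 hne)
    refine ⟨?_, ?_, isNilpotent_of_fixedfree (Fact.out) hxp (le_normalizer_sigmaCore M (hSM hx)) hfree⟩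
    · rw [hA, card_zpowers_eq hxp hx1]
      exact Nat.le_self_pow two_ne_zero p
    · rw [hA, CommutatorPLength.centralizer_zpowers, hfree]
  obtain ⟨E, hE⟩ := Compl.exists hG hM
  obtain ⟨A0, -, hA0⟩ := hE.exists_tau_two hG (mem_tau2_of_not_rankLE hG hM hσ hr1)
  obtain ⟨m, hm, hle⟩ := exists_conj_le_of_relIndex (K := SG) (L := M) (by
    rw [hSG, show ((S : Subgroup M).map M.subtype).relIndex M = (S : Subgroup M).index from
      congrArg Subgroup.index (comap_map_eq_self_of_injective M.subtype_injective _)]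
    exact S.not_dvd_index) hA0.isPGroup hA0.le
  have hA1 : Tau2 p M (cj m A0) := ⟨hM, hA0.tau, hle.trans inf_le_right,
    Cfsg.Lib.PGroup.isElementaryAbelian_map hA0.elem _, by rw [Cfsg.Lib.Coprime.card_map_conj, hA0.card]⟩
  have hA : A = cj m A0 := by
    refine le_antisymm ((Subgroup.closure_le _).mpr fun y hy => ?_)
      (fun y hy => Subgroup.subset_closure ⟨(hle hy).1, hA1.elem.2 y hy⟩)
    exact hA1.maximal hG hy.2 (hA1.pGroup_le hG hSp hSM (hle.trans inf_le_left) hy.1)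
  rw [hA]
  exact ⟨hA1.card.le, hA1.fixedfree hG, hA1.isNilpotent_sigmaCore hG⟩

end Cfsg.Agent.S1429
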