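import Cfsg.Statements.S1399
import Cfsg.Agent.Lib.Local.Uniq.Connect

set_option autoImplicit false
open Cfsg

namespace Cfsg.Agent.S1399

open Cfsg.Lib.Local Subgroup

/-- Let G be a minimal simple group of odd order, L a subgroup contained in exactly one maximal subgroup of G, and K a subgroup of C_G(L) having, for some prime p, an elementary abelian subgroup of order p ^ 2. Then K is contained in exactly one maximal subgroup of G. -/
theorem result {G : Type*} [Group G] [Finite G] (hG : Cfsg.IsMinSimpleOddOrder G)
    (L K : Subgroup G) (hL : Cfsg.InUniqueMaximal L) (hK : K ≤ Subgroup.centralizer (L : Set G)) (hKr : ¬ Cfsg.RankLE 1 K) :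
    Cfsg.InUniqueMaximal K := by
  obtain ⟨r, hr, E, hEK, hE, hE2⟩ := OddTransitivity.exists_elementary hKr
  haveI : Fact r.Prime := ⟨hr⟩
  have hU := Uniq.unique_of_centralizes hG hL hE hE2 (hEK.trans hK)
  obtain ⟨M, hM, hLM⟩ := hL.exists
  exact Uniq.unique_of_le hU hEK (ne_top_of_le_ne_top hM.1 (Uniq.mem_of_centralizes hG hL hM hLM hK))

end Cfsg.Agent.S1399
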