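import Cfsg.Statements.S1448
import Cfsg.Agent.Lib.Local.RankTwoCentralProduct

set_option autoImplicit false
open Cfsg

namespace Cfsg.Agent.S1448

open scoped commutatorElement

/-- Let G be a finite group, p an odd prime, R a nontrivial p-subgroup with no elementary abelian subgroup of order p ^ 3, and A a subgroup of odd order coprime to p normalizing R with [R, A] = R. Then 3 < p, and either R is abelian or R is generated by two elementwise-commuting subgroups R₁, R₂ with R₁ non-abelian of order p ^ 3 and exponent p, R₂ cyclic, and the elements of R₂ of order dividing p generating exactly [R₁, R₁]. -/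
theorem result {G : Type*} [Group G] [Finite G] (p : ℕ) [Fact p.Prime] (hp : p ≠ 2) (R A : Subgroup G) (hR : IsPGroup p R) (hR1 : R ≠ ⊥) (hr : Cfsg.PRankLE p 2 R)
    (hA : (A ≤ Subgroup.normalizer (R : Set G))) (hcop : (Nat.card A).Coprime p) (hAodd : Odd (Nat.card A)) (hRA : ⁅R, A⁆ = R) :
    3 < p ∧ (IsMulCommutative R ∨ ∃ R₁ R₂ : Subgroup G, R₁ ⊔ R₂ = R ∧ (∀ a ∈ R₁, ∀ b ∈ R₂, a * b = b * a) ∧
        ¬ IsMulCommutative R₁ ∧ Nat.card R₁ = p ^ 3 ∧ Monoid.exponent R₁ = p ∧ IsCyclic R₂ ∧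
        Subgroup.closure {x : G | x ∈ R₂ ∧ x ^ p = 1} = ⁅R₁, R₁⁆) := by
  classical
  let φ : A →* MulAut R := (Cfsg.Lib.Local.autOf R).comp (Subgroup.inclusion hA)
  have hgen : ∀ N : Subgroup R, N.Normal → (∀ (a : A) (x : R), x⁻¹ * φ a x ∈ N) → N = ⊤ := by
    intro N _ hN
    have hle : ⁅R, A⁆ ≤ N.map R.subtype := by
      rw [Subgroup.commutator_le]
      intro r hr' α hα
      refine ⟨_, hN ⟨α, hα⟩ (⟨r, hr'⟩ : R)⁻¹, ?_⟩
      simp [φ, Cfsg.Lib.Local.autOf, commutatorElement_def, mul_assoc]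
    rw [eq_top_iff]
    intro x _
    obtain ⟨y, hy, e⟩ := hle (hRA.ge x.2)
    exact Subtype.ext (e : (y : G) = x) ▸ hy
  haveI : Nontrivial R := (Subgroup.nontrivial_iff_ne_bot R).mpr hR1
  have h3 := Cfsg.Lib.Local.RankTwoCentralProduct.three_lt hp hR hr φ hcop hAodd hgen
  refine ⟨h3, ?_⟩
  rcases Cfsg.Lib.Local.RankTwoCentralProduct.structure_thm h3 hR hr φ hcop hAodd hgen with
    h | ⟨W, htop, hWnab, hWc, hWe, hDc, hcl⟩
  · exact Or.inl h
  refine Or.inr ⟨W.map R.subtype, (Subgroup.center R).map R.subtype, ?_, ?_, ?_, ?_, ?_, ?_, ?_⟩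
  · rw [← Subgroup.map_sup, htop, ← MonoidHom.range_eq_map, Subgroup.range_subtype]
  · rintro _ ⟨a, -, rfl⟩ _ ⟨b, hb, rfl⟩
    exact congrArg Subtype.val (Subgroup.mem_center_iff.mp hb a)
  · intro h
    exact hWnab ⟨⟨fun a b => Subtype.ext (Subtype.ext
      (congrArg Subtype.val (h.is_comm.comm ⟨_, a, a.2, rfl⟩ ⟨_, b, b.2, rfl⟩) :))⟩⟩
  · rw [Subgroup.card_map_of_injective R.subtype_injective]; exact hWc
  · rw [← Monoid.exponent_eq_of_mulEquiv (W.equivMapOfInjective R.subtype R.subtype_injective)]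
    exact hWe
  · haveI := hDc
    exact isCyclic_of_surjective (R.subtype.subgroupMap (Subgroup.center R))
      (R.subtype.subgroupMap_surjective _)
  · rw [← Subgroup.map_commutator, ← hcl, MonoidHom.map_closure]
    congr 1
    ext x
    constructor
    · rintro ⟨⟨y, hy, rfl⟩, hx⟩
      exact ⟨y, ⟨hy, Subtype.ext hx⟩, rfl⟩
    · rintro ⟨y, ⟨hy, hyp⟩, rfl⟩
      exact ⟨⟨y, hy, rfl⟩, congrArg Subtype.val hyp⟩

end Cfsg.Agent.S1448
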