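import Cfsg.Statements.S1450
import Cfsg.Agent.Lib.Local.RankTwoSolvable
import Cfsg.Agent.Lib.Fusion.Basic

set_option autoImplicit false
open Cfsg

namespace Cfsg.Agent.S1450

/-- Let G be a solvable group of odd order, p a prime dividing its order with G having no elementary abelian subgroup of order p ^ 3. Then every prime dividing the index of O_{p'}(G) is at most p; if p = 3 or p is the smallest prime divisor of #G then G has a normal p-complement; the derived subgroup G' has a normal p-complement; every subgroup of G' of order coprime to p lies in O_{p'}(G'); and G/O_{p',p}(G) is abelian of order coprime to p. -/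
theorem result {G : Type*} [Group G] [Finite G] [Group.IsSolvable G] (hodd : Odd (Nat.card G)) (p : ℕ) [Fact p.Prime] (hpG : p ∣ Nat.card G) (hr : Cfsg.PRankLE p 2 G) :
    (∀ q : ℕ, q.Prime → q ∣ (Cfsg.pPrimeCore p G).index → q ≤ p) ∧
      ((p = 3 ∨ ∀ q : ℕ, q.Prime → q ∣ Nat.card G → p ≤ q) → Cfsg.HasNormalPComplement p G) ∧
      Cfsg.HasNormalPComplement p ↥(commutator G) ∧
      (∀ L : Subgroup ↥(commutator G), (Nat.card L).Coprime p → L ≤ Cfsg.pPrimeCore p ↥(commutator G)) ∧
      commutator G ≤ Cfsg.pPrimePCore p G ∧ ((Cfsg.pPrimePCore p G).index).Coprime p := by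
  have hp2 : p ≠ 2 := by
    rintro rfl
    exact Nat.not_even_iff_odd.mpr hodd (even_iff_two_dvd.mpr hpG)
  obtain ⟨h1, h2, h3⟩ := Cfsg.Lib.Local.RankTwoAut.structure_mod_core hp2 hodd hr
  have hcop := Cfsg.Lib.Core.pPrimeCore_coprime p G
  set O := Cfsg.pPrimeCore p G with hOdef
  let N : Subgroup ↥(commutator G) := O.subgroupOf (commutator G)
  have hNcop : (Nat.card N).Coprime p :=
    hcop.coprime_dvd_left (Subgroup.card_dvd_of_injective
      (((commutator G).subtype.comp N.subtype).codRestrict O fun z => z.2)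
      fun a b hab => Subtype.ext (Subtype.ext (congrArg Subtype.val hab :)))
  have hNq : IsPGroup p (↥(commutator G) ⧸ N) := by
    intro z
    obtain ⟨⟨g, hg⟩, rfl⟩ := QuotientGroup.mk'_surjective N z
    obtain ⟨k, hk⟩ := Cfsg.Lib.Core.pCore_isPGroup p (G ⧸ O) ⟨QuotientGroup.mk' O g, h1 hg⟩
    refine ⟨k, ?_⟩
    rw [← map_pow]
    refine (QuotientGroup.eq_one_iff _).mpr (Subgroup.mem_subgroupOf.mpr ?_)
    rw [Subgroup.coe_pow, ← QuotientGroup.eq_one_iff, QuotientGroup.mk_pow]
    exact congrArg Subtype.val hk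
  refine ⟨h3, fun hcase => ?_, Cfsg.Lib.Fusion.hasNormalPComplement_of_normal N hNcop hNq,
    fun L hL => ?_, h1, h2⟩
  · refine Cfsg.Lib.Fusion.hasNormalPComplement_of_normal O hcop ?_
    rw [IsPGroup.iff_card]
    refine ⟨_, Nat.eq_prime_pow_of_unique_prime_dvd Nat.card_pos.ne' fun {q} hq hdvd => ?_⟩
    have hle : q ≤ p := h3 q hq (by rw [Subgroup.index_eq_card]; exact hdvd)
    have hqG : q ∣ Nat.card G := hdvd.trans (Subgroup.card_quotient_dvd_card O)
    rcases hcase with rfl | hmin
    · have hq2 := hq.two_le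
      have hne : q ≠ 2 := by
        rintro rfl
        exact Nat.not_even_iff_odd.mpr hodd (even_iff_two_dvd.mpr hqG)
      omega
    · exact le_antisymm hle (hmin q hq hqG)
  · refine le_trans ?_ (Cfsg.Lib.Core.le_pPrimeCore hNcop)
    intro l hl
    rw [← QuotientGroup.eq_one_iff]
    exact Cfsg.Lib.Local.RankTwoAut.pow_eq_one_of_coprime (hNq _)
      ((hL.coprime_dvd_left (Subgroup.orderOf_dvd_natCard L hl)).coprime_dvd_left
        (orderOf_map_dvd (QuotientGroup.mk' N) l))

end Cfsg.Agent.S1450
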