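import Cfsg.Statements.S1369
import Cfsg.Agent.Lib.Local.Sigma.DecompHall
-- import your own Cfsg.Agent.* helpers here

set_option autoImplicit false
open Cfsg

namespace Cfsg.Agent.S1369

open Subgroup Cfsg.Lib Cfsg.Lib.Local Cfsg.Lib.Local.Uniq Cfsg.Lib.Local.Sigma

/-- Let G be a minimal simple group of odd order, M a maximal subgroup with standard factorisation M = K U M_σ, K ≠ 1, K* = M_σ ∩ C_G(K), and M* a maximal subgroup with K = M*_σ ∩ C_G(K*) and K* a Hall κ(M*)-subgroup of M*. Then either U ≠ 1 or every K*-invariant complement of K* M*_σ in M* is nontrivial; and every maximal subgroup H of G with κ(H) nonempty is conjugate to M or to M*. -/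
theorem result {G : Type*} [Group G] [Finite G] (hG : Cfsg.IsMinSimpleOddOrder G)
    (M : Subgroup G) (hM : IsCoatom M) (K U : Subgroup G) (hKU : Cfsg.IsSigmaDecomposition M K U) (hK1 : K ≠ ⊥) (Mstar : Subgroup G) (hMstar : IsCoatom Mstar)
    (hKst : K = Cfsg.sigmaCore Mstar ⊓ Subgroup.centralizer ((Cfsg.sigmaCore M ⊓ Subgroup.centralizer (K : Set G)) : Set G))
    (hKstH : Cfsg.IsPiHallOf (Cfsg.kappa Mstar) (Cfsg.sigmaCore M ⊓ Subgroup.centralizer (K : Set G)) Mstar) :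
    (U ≠ ⊥ ∨ ∀ Ustar : Subgroup G, Cfsg.IsSigmaDecomposition Mstar (Cfsg.sigmaCore M ⊓ Subgroup.centralizer (K : Set G)) Ustar → Ustar ≠ ⊥) ∧
      ∀ H : Subgroup G, IsCoatom H → (Cfsg.kappa H).Nonempty →
        ∃ g : G, H = M.map (MulAut.conj g).toMonoidHom ∨ H = Mstar.map (MulAut.conj g).toMonoidHom := by
  have hK := hKU.hall
  have hP : Pair M K Mstar := ⟨hMstar, hKstH, hKst⟩
  obtain ⟨hLm, hLM⟩ := hP.member hG hM hK hK1
  refine ⟨?_, fun H hH hκ => ?_⟩
  · obtain ⟨L, hL, hor, hall⟩ := exists_pair hG hM hK hK1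
    rw [← (hall Mstar hLm).resolve_left hLM] at hor
    rcases hor with h | h
    · exact Or.inl fun hU => h (isP1_of_bot hG hM hKU hU)
    · exact Or.inr fun Us hUs hUb => h (isP1_of_bot hG hMstar hUs hUb)
  obtain ⟨KH, hKH, -⟩ := exists_hall_ge (π := Cfsg.kappa H) (hG.2.2.2 H hH.1) (bot_le : ⊥ ≤ H)
    fun t ht hd => absurd (Subgroup.card_bot (G := G) ▸ hd) ht.not_dvd_one
  obtain ⟨p, hp⟩ := hκ
  have hKH1 : KH ≠ ⊥ := fun e => hKH.2.2 p hp.1 hp (by rw [e, relIndex_bot_left]; exact hp.2.1)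
  obtain ⟨LH, hLH, -, -⟩ := exists_pair hG hH hKH hKH1
  set T := {a : G | ∃ g : G, ∃ z ∈ outer (zgrp M K), a = g * z * g⁻¹}
  set T' := {a : G | ∃ g : G, ∃ z ∈ outer (zgrp H KH), a = g * z * g⁻¹}
  obtain ⟨a, ⟨g, z, hz, rfl⟩, g', z', hz', he⟩ : ∃ a, a ∈ T ∧ a ∈ T' := by
    by_contra hno
    push Not at hno
    have h1 : Set.ncard (T ∪ T') = Set.ncard T + Set.ncard T' :=
      Set.ncard_union_eq (Set.disjoint_left.mpr hno)
    have h2 : Set.ncard (T ∪ T') ≤ Nat.card G := Set.ncard_le_card _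
    have h3 : Nat.card G < 2 * Set.ncard T := (hP.count hG hM hK hK1).2
    have h4 : Nat.card G < 2 * Set.ncard T' := (hLH.count hG hH hKH hKH1).2
    omega
  rw [hLH.outer_eq hG hH hKH hKH1] at hz'
  obtain ⟨u, hu, v, hv, rfl, huv⟩ := mem_zgrp hz'.1
  obtain ⟨q, w, hq, hqd, -, -, -, -⟩ := exists_prime_power (x := v)
    fun e => hz'.2 (Or.inl (by rw [e, mul_one]; exact hu))
  have hqσ : q ∈ Cfsg.sigma H := kstar_sigma hv hq hqd
  have hcop : (orderOf v).Coprime (orderOf u) := Nat.coprime_of_dvd fun t ht h1 h2 =>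
    kappa_not_sigma hKH hu ht h2 (kstar_sigma hv ht h1)
  have hqz : q ∣ orderOf z := by
    rw [← orderOf_conj g z, he, orderOf_conj,
      (show Commute u v from huv).orderOf_mul_eq_mul_orderOf_of_coprime hcop.symm]
    exact hqd.mul_left _
  haveI : Fact q.Prime := ⟨hq⟩
  have hwo : orderOf (z ^ (orderOf z / q)) = q := orderOf_pow_orderOf_div (orderOf_pos z).ne' hqz
  obtain ⟨N, hN, hw⟩ := exists_member hG hLm hq (pow_mem hz.1 (orderOf z / q))
    (orderOf_dvd_iff_pow_eq_one.mp (dvd_of_eq hwo)) fun e => hq.ne_one (by rw [← hwo, e, orderOf_one])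
  obtain ⟨y, hy⟩ := sigma_disjoint hG hN.1 hH (hw.2 q hq (dvd_of_eq hwo.symm)) hqσ
  rcases hP.unique hG hM hK hK1 hN with e | e
  · exact ⟨y, Or.inl (e ▸ hy)⟩
  · exact ⟨y, Or.inr (e ▸ hy)⟩

end Cfsg.Agent.S1369
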