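import Cfsg.Statements.S1396
import Cfsg.Agent.Lib.Local.OddTransitivity
import Cfsg.Agent.Lib.Sig.FixedOmega

set_option autoImplicit false
open Cfsg

namespace Cfsg.Agent.S1396

open Cfsg.Lib.Local.OddTransitivity Subgroup

private theorem of_omega {G : Type*} [Group G] [Finite G] (hG : Cfsg.IsMinSimpleOddOrder G)
    {p : ℕ} [Fact p.Prime] (hp : p ∣ Nat.card G) {A : Subgroup G} (hAp : IsPGroup p A)
    (hAc : IsMulCommutative A) (hA1 : A ≠ ⊥)
    (hΩ : ∀ x ∈ centralizer (A : Set G), orderOf x = p → x ∈ A) : Cfsg.TransitivityHypothesis A := by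
  haveI := hAc
  have hp2 : p ≠ 2 := fun h => Nat.not_even_iff_odd.2 hG.1 (even_iff_two_dvd.2 (h ▸ hp))
  obtain ⟨n, hn⟩ := IsPGroup.iff_card.mp hAp
  have hn0 : n ≠ 0 := fun h => hA1 (eq_bot_of_card_eq _ (by rw [hn, h, pow_zero]))
  refine ⟨hA1, Cfsg.Lib.Local.CN.ne_top_of_isSolvable hG
    (Group.isSolvable_of_comm fun a b => mul_comm' a b), fun X hX hAX => le_antisymm (sSup_le ?_) (le_sSup
      ⟨piCoreOf_le X, piCoreOf_isPiSub X, hAX.trans (le_normalizer_piCoreOf X)⟩)⟩
  rintro Y ⟨hYX, hYπ, hAY⟩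
  haveI : Group.IsSolvable X := hG.2.2.2 X hX
  have hYp : (Nat.card Y).Coprime p := Cfsg.Lib.Core.coprime_iff_not_dvd'.mpr fun hd =>
    (hYπ p Fact.out hd).2 (hn ▸ dvd_pow_self p hn0)
  haveI : IsMulCommutative (A.subgroupOf X) := ⟨⟨fun a b => by
    apply Subtype.ext; apply Subtype.ext
    simpa using congrArg Subtype.val (mul_comm' (⟨a.1.1, a.2⟩ : A) ⟨b.1.1, b.2⟩)⟩⟩
  have h := Cfsg.Lib.Sig.FixedOmega.le_pPrimeCore_of_invariant hp2
    (Cfsg.Lib.Sig.isPConstrained_of_isPSolvable Cfsg.Lib.Core.isPSolvable_of_isSolvable)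
    (A := A.subgroupOf X) (Q := Y.subgroupOf X) (hAp.of_equiv (subgroupOfEquivOfLe hAX).symm)
    (fun x hx hxo => mem_subgroupOf.mpr (hΩ _ (mem_centralizer_iff.mpr fun a ha =>
      congrArg Subtype.val (mem_centralizer_iff.mp hx ⟨a, hAX ha⟩ ha)) (by rw [orderOf_coe, hxo])))
    (by rw [Nat.card_congr (subgroupOfEquivOfLe hYX).toEquiv]; exact hYp)
    (fun a ha => mem_normalizer_iff.mpr fun y => by
      simp only [mem_subgroupOf, Subgroup.coe_mul, Subgroup.coe_inv]
      exact mem_normalizer_iff.mp (hAY ha) y)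
  rw [← map_subgroupOf_eq_of_le hYX]
  refine map_mono (h.trans (Cfsg.Lib.Core.le_piCore' inferInstance fun r hr hd => ⟨hr, fun hrA => ?_⟩))
  rw [hn] at hrA
  have hrp : r = p := (Nat.prime_dvd_prime_iff_eq hr Fact.out).mp (hr.dvd_of_dvd_pow hrA)
  exact Cfsg.Lib.Core.pPrimeCore_not_dvd p X (hrp ▸ hd)

/-- Let G be a minimal simple group of odd order, p a prime dividing the order of G and A an abelian p-subgroup. Suppose either (1) A consists exactly of the elements x of C_G(A) with x^p = 1, and every proper subgroup of G has p-length at most one, or (2) A is normal and self-centralizing in some Sylow p-subgroup of G and has rank at least 2. Then A satisfies the transitivity hypothesis. -/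
theorem result {G : Type*} [Group G] [Finite G] (hG : Cfsg.IsMinSimpleOddOrder G)
    (p : ℕ) [Fact p.Prime] (hp : p ∣ Nat.card G) (A : Subgroup G) (hAp : IsPGroup p A) (hAc : IsMulCommutative A)
    (h : (∀ x ∈ Subgroup.centralizer (A : Set G), x ^ p = 1 ↔ x ∈ A) ∧ (∀ H : Subgroup G, H ≠ ⊤ → Cfsg.PLengthLE p 1 H) ∨
      ∃ P : Sylow p G, Cfsg.IsSCN (P : Subgroup G) A ∧ ¬ Cfsg.PRankLE p 1 A) :
    Cfsg.TransitivityHypothesis A := by
  rcases h with ⟨h, -⟩ | ⟨P, hP, hA2⟩
  · refine of_omega hG hp hAp hAc (fun hA => ?_) fun x hx hxo =>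
      (h x hx).mp (hxo ▸ pow_orderOf_eq_one x)
    obtain ⟨g, hg⟩ := exists_prime_orderOf_dvd_card' p hp
    have := (h g (mem_centralizer_iff.mpr fun a ha => by
      rw [hA] at ha; rw [mem_bot.mp ha, one_mul, mul_one])).mp (hg ▸ pow_orderOf_eq_one g)
    rw [hA, mem_bot] at this
    exact (Fact.out : p.Prime).ne_one (by rw [← hg, this, orderOf_one])
  · refine of_omega hG hp hAp hAc (fun hA => hA2 fun B _ _ => ?_) fun x hx hxo => ?_
    · have hA' : Nat.card A = 1 := by rw [hA, card_bot]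
      exact (B.card_le_card_group.trans hA'.le).trans (Nat.one_le_pow _ _ (Fact.out : p.Prime).pos)
    · set N := normalizer (A : Set G)
      let S : Sylow p N := P.subtype hP.2.1
      have hxN : x ∈ N := centralizer_le_normalizer _ hx
      obtain ⟨T, hT⟩ := (IsPGroup.of_card (n := 1) (by rw [Nat.card_zpowers, Subgroup.orderOf_mk, hxo, pow_one]) :
        IsPGroup p (zpowers (⟨x, hxN⟩ : N))).exists_le_sylow
      obtain ⟨g, hg⟩ := MulAction.exists_smul_eq N T S
      have hgx : (g : G) * x * (g : G)⁻¹ ∈ (P : Subgroup G) := by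
        have h1 : g * ⟨x, hxN⟩ * g⁻¹ ∈ (S : Subgroup N) := by
          rw [← hg, Sylow.coe_subgroup_smul]
          exact ⟨⟨x, hxN⟩, hT (mem_zpowers _), rfl⟩
        simpa [S, mem_subgroupOf] using h1
      have hgA : (g : G) * x * (g : G)⁻¹ ∈ A := hP.2.2 ▸ mem_inf.mpr ⟨hgx, mem_centralizer_iff.mpr fun a ha => by
        have hb : (g : G)⁻¹ * a * g ∈ A := by
          have := (mem_normalizer_iff.mp (inv_mem g.2) a).mp ha
          simpa using this
        have hcx := mem_centralizer_iff.mp hx _ hb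
        calc a * ((g : G) * x * (g : G)⁻¹) = (g : G) * (((g : G)⁻¹ * a * g) * x) * (g : G)⁻¹ := by group
          _ = (g : G) * (x * ((g : G)⁻¹ * a * g)) * (g : G)⁻¹ := by rw [hcx]
          _ = (g : G) * x * (g : G)⁻¹ * a := by group⟩
      exact (mem_normalizer_iff.mp g.2 x).mpr hgA

end Cfsg.Agent.S1396
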