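import Cfsg.Statements.S1394
import Cfsg.Agent.Lib.Local.OddTransitivity

set_option autoImplicit false
open Cfsg

namespace Cfsg.Agent.S1394

open Cfsg.Lib.Local.OddTransitivity Subgroup

/-- Let G be a minimal simple group of odd order, A a subgroup satisfying the transitivity hypothesis whose centre has rank at least 2, K = O_{π(A)'}(C_G(A)), and q a prime dividing the order of C_G(A) but not that of A. Then any two maximal A-invariant q-subgroups of G are conjugate by an element of K. -/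
theorem result {G : Type*} [Group G] [Finite G] (hG : Cfsg.IsMinSimpleOddOrder G)
    (A : Subgroup G) (hA : Cfsg.TransitivityHypothesis A) (hZ : ¬ Cfsg.RankLE 1 ↥(A ⊓ Subgroup.centralizer (A : Set G)))
    (q : ℕ) (hq : q.Prime) (hqA : ¬ q ∣ Nat.card A) (hqC : q ∣ Nat.card (Subgroup.centralizer (A : Set G))) :
    ∀ Q₁ ∈ Cfsg.maxInvSubgroups ⊤ A {q}, ∀ Q₂ ∈ Cfsg.maxInvSubgroups ⊤ A {q}, ∃ k ∈ Cfsg.piCoreOf (Cfsg.primesNotDvd (Nat.card A)) (Subgroup.centralizer (A : Set G)), Q₂ = Q₁.map (MulAut.conj k).toMonoidHom := by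
  haveI : Fact q.Prime := ⟨hq⟩
  obtain ⟨y, hy⟩ := exists_prime_orderOf_dvd_card' q hqC
  have hyA : zpowers (y : G) ≤ centralizer (A : Set G) := zpowers_le.mpr y.2
  have hycard : Nat.card (zpowers (y : G)) = q := by rw [Nat.card_zpowers, orderOf_coe, hy]
  obtain ⟨Q₀, hQ₀, hyQ₀⟩ := exists_max (A := A) (π := {q}) (H := ⊤) (U := zpowers (y : G))
    ⟨le_top, fun r hr hd => by rw [hycard] at hd; exact (Nat.prime_dvd_prime_iff_eq hr hq).mp hd,
      (le_centralizer_iff.mp hyA).trans (centralizer_le_normalizer _)⟩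
  obtain ⟨r, hr, E, hEZ, hEe, hE2⟩ := exists_elementary hZ
  haveI : Fact r.Prime := ⟨hr⟩
  have hEA : E ≤ A := hEZ.trans inf_le_left
  have hrA : r ∣ Nat.card A := by
    obtain ⟨i, hi⟩ := IsPGroup.iff_card.mp (Cfsg.Lib.Sig.isPGroup_of_elementaryAbelian hEe)
    refine dvd_trans ?_ (card_dvd_of_le hEA)
    rw [hi] at hE2 ⊢
    exact dvd_pow_self r (by have := (Nat.pow_le_pow_iff_right hr.one_lt).mp hE2; omega)
  haveI := hEe.1
  have key : ∀ Q ∈ Cfsg.maxInvSubgroups ⊤ A {q}, Rel A Q₀ Q := by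
    intro Q hQ
    have hQne : Q ≠ ⊥ := fun h => by
      have := hQ.2 Q₀ hQ₀.1 (h ▸ bot_le)
      rw [this, h, le_bot_iff] at hyQ₀
      rw [hyQ₀, card_bot] at hycard
      exact hq.one_lt.ne hycard
    have hnd : ¬ r ∣ Nat.card Q := fun hd => hqA ((show r = q from hQ.1.2.1 r hr hd) ▸ hrA)
    obtain ⟨B, hB, hm⟩ : ∃ B ∈ Cfsg.Lib.Coprime.cocyclic E,
        Q ⊓ centralizer (B : Set G) ≠ ⊥ := by
      by_contra! h
      exact hQne (le_bot_iff.mp ((Cfsg.Lib.Coprime.le_iSup_centralizer_cocyclic Q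
        (hEA.trans hQ.1.2.2) (Cfsg.Lib.Sig.coprime_card_elementaryAbelian hEe hnd)).trans
        (iSup₂_le fun B hB => (h B hB).le)))
    have hBcard := Cfsg.Lib.Sig.card_le_mul_of_cocyclic hEe hB
    obtain ⟨b, hb, hb1⟩ := B.bot_or_exists_ne_one.resolve_left (fun e => by
      rw [e, card_bot, mul_one] at hBcard
      have : r * r ≤ r := by rw [← sq]; exact hE2.trans hBcard
      nlinarith [hr.two_le])
    refine rel_of_meet hG hA hq hqA _ Q₀ Q (centralizer ({b} : Set G)) (Nat.lt_succ_self _) hQ₀ hQ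
      (centralizer_ne_top hG hb1) (fun x hx => mem_centralizer_singleton_iff.mpr
        (mem_centralizer_iff.mp (hEZ (hB.1 hb)).2 x hx)) ?_ ?_
    · refine ne_bot_of_le_ne_bot (b := zpowers (y : G)) ?_ (le_inf (zpowers_le.mpr ?_) hyQ₀)
      · intro e
        rw [e, card_bot] at hycard
        exact hq.one_lt.ne hycard
      · exact mem_centralizer_singleton_iff.mpr (mem_centralizer_iff.mp y.2 b (hEA (hB.1 hb))).symm
    · rw [inf_comm]
      exact ne_bot_of_le_ne_bot hm (inf_le_inf_left _ (centralizer_le (Set.singleton_subset_iff.2 hb)))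
  intro Q₁ h₁ Q₂ h₂
  exact (key Q₁ h₁).symm.trans (key Q₂ h₂)

end Cfsg.Agent.S1394
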