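import Cfsg.Statements.S1412
import Cfsg.Agent.Lib.Local.Sigma.Focal
import Cfsg.Agent.S1448

set_option autoImplicit false
open Cfsg

namespace Cfsg.Agent.S1412

open Subgroup

/-- Let G be a minimal simple group of odd order, p a prime and P a Sylow p-subgroup of G with no elementary abelian subgroup of order p ^ 3. Then either P is abelian, or P is generated by two elementwise-commuting subgroups P₁, P₂ with P₁ nonabelian of order p ^ 3 and exponent p, P₂ cyclic, and the elements of P₂ of order dividing p generating exactly the centre of P₁. -/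
theorem result {G : Type*} [Group G] [Finite G] (hG : Cfsg.IsMinSimpleOddOrder G) (p : ℕ) [Fact p.Prime] (P : Sylow p G) (hr : Cfsg.PRankLE p 2 (P : Subgroup G)) :
    IsMulCommutative (P : Subgroup G) ∨ ∃ P₁ P₂ : Subgroup G, P₁ ⊔ P₂ = (P : Subgroup G) ∧ (∀ a ∈ P₁, ∀ b ∈ P₂, a * b = b * a) ∧
        ¬ IsMulCommutative P₁ ∧ Nat.card P₁ = p ^ 3 ∧ Monoid.exponent P₁ = p ∧ IsCyclic P₂ ∧
        Subgroup.closure {x : G | x ∈ P₂ ∧ x ^ p = 1} = P₁ ⊓ Subgroup.centralizer (P₁ : Set G) := by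
  set PG : Subgroup G := (P : Subgroup G) with hPG
  by_cases hP1 : PG = ⊥
  · left
    exact ⟨⟨fun a b => Subtype.ext (by
      rw [Subgroup.coe_mul, Subgroup.coe_mul, mem_bot.mp (hP1.le a.2), mem_bot.mp (hP1.le b.2)])⟩⟩
  set N := normalizer (PG : Set G) with hN
  have hpG : p ∣ Nat.card G := by
    obtain ⟨i, hi⟩ := IsPGroup.iff_card.mp P.isPGroup'
    exact (dvd_pow_self p fun h0 => hP1 (eq_bot_of_card_eq _ (by rw [hi, h0, pow_zero]))).trans
      (hi ▸ card_subgroup_dvd_card _)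
  have hp2 := Cfsg.Lib.Local.Uniq.ne_two hG hpG
  have hidx : ¬ p ∣ PG.relIndex N := fun h => P.not_dvd_index
    (h.trans (relIndex_dvd_index_of_le le_normalizer))
  obtain ⟨i, hi⟩ := IsPGroup.iff_card.mp P.isPGroup'
  have hc0 : (Nat.card PG).Coprime (PG.relIndex N) := by
    rw [hi]
    exact ((Fact.out : p.Prime).coprime_iff_not_dvd.mpr hidx).pow_left i
  obtain ⟨V, hVN, hVc, hVs⟩ := Cfsg.Lib.Coprime.exists_complement_of_coprime le_normalizer le_rfl hc0
  have hcop : (Nat.card V).Coprime p := by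
    rw [hVc]; exact ((Fact.out : p.Prime).coprime_iff_not_dvd.mpr hidx).symm
  have hV : Cfsg.IsComplIn PG V N := by
    refine ⟨le_normalizer, hVN, disjoint_iff.mp (Subgroup.disjoint_of_coprime_natCard (by rw [hVc]; exact hc0)),
      fun m hm => ?_⟩
    exact Cfsg.Lib.Coprime.exists_mul_of_mem_sup hVN (hVs.symm ▸ hm)
  obtain ⟨-, h⟩ := Cfsg.Agent.S1448.result p hp2 PG V P.isPGroup' hP1 hr hVN hcop
    (hG.1.of_dvd_nat V.card_subgroup_dvd_card) (Cfsg.Lib.Local.Sigma.eq_commutator_complement hG P hV).symm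
  rcases h with h | ⟨P₁, P₂, h1, h2, h3, h4, h5, h6, h7⟩
  · exact Or.inl h
  refine Or.inr ⟨P₁, P₂, h1, h2, h3, h4, h5, h6, h7.trans ?_⟩
  have hp : p.Prime := Fact.out
  have hle1 : ⁅P₁, P₁⁆ ≤ P₁ := commutator_le.mpr fun a ha b hb => by
    simp only [commutatorElement_def]; exact mul_mem (mul_mem (mul_mem ha hb) (inv_mem ha)) (inv_mem hb)
  have hle : ⁅P₁, P₁⁆ ≤ P₁ ⊓ centralizer (P₁ : Set G) := by
    refine le_inf hle1 (h7 ▸ (closure_le _).mpr fun x hx => ?_)
    exact mem_centralizer_iff.mpr fun y hy => h2 y hy x hx.1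
  refine eq_of_le_of_card_ge hle ?_
  set Z := P₁ ⊓ centralizer (P₁ : Set G) with hZ
  obtain ⟨j, hj, hj'⟩ := (Nat.dvd_prime_pow hp).mp (h4 ▸ card_dvd_of_le (inf_le_left : Z ≤ P₁))
  obtain ⟨k, -, hk'⟩ := (Nat.dvd_prime_pow hp).mp (h4 ▸ card_dvd_of_le hle1)
  have hk : 1 ≤ k := by
    by_contra h0
    have hb : ⁅P₁, P₁⁆ = ⊥ := eq_bot_of_card_eq _ (by rw [hk', show k = 0 by omega, pow_zero])
    exact h3 ⟨⟨fun a b => Subtype.ext (commutatorElement_eq_one_iff_mul_comm.mp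
      (mem_bot.mp (hb.le (commutator_mem_commutator a.2 b.2))))⟩⟩
  rw [hk', hj']
  refine Nat.pow_le_pow_right hp.pos ?_
  by_contra hlt
  have hne : Z ≠ P₁ := fun e => h3 ⟨⟨fun a b => Subtype.ext (mem_centralizer_iff.mp (e.ge b.2).2 a a.2)⟩⟩
  obtain ⟨y, hy, hyZ⟩ := SetLike.exists_of_lt (lt_of_le_of_ne (inf_le_left : Z ≤ P₁) hne)
  have htop : Z ⊔ zpowers y = P₁ := by
    refine eq_of_le_of_card_ge (sup_le inf_le_left (zpowers_le.mpr hy)) ?_
    have h := Cfsg.Lib.Local.Uniq.mul_card_le_of_lt (q := p)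
      ((IsPGroup.of_card h4).to_le (sup_le inf_le_left (zpowers_le.mpr hy) : Z ⊔ zpowers y ≤ P₁))
      (lt_of_le_of_ne le_sup_left fun e => hyZ (e.ge (mem_sup_right (mem_zpowers y))))
    refine le_trans ?_ h
    rw [h4, hj', ← pow_succ']
    exact Nat.pow_le_pow_right hp.pos (by omega)
  refine hyZ ⟨hy, le_centralizer_iff.mp (htop ▸ sup_le ?_ ?_ : P₁ ≤ centralizer ((zpowers y : Subgroup G) : Set G))
    (mem_zpowers y)⟩
  · exact inf_le_right.trans (centralizer_le (zpowers_le.mpr hy))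
  · exact le_centralizer_iff_isMulCommutative.mpr inferInstance

end Cfsg.Agent.S1412
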