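import Cfsg.Statements.S4066
import Cfsg.Agent.Lib.PGroup.Elements

set_option autoImplicit false
open Cfsg

namespace Cfsg.Agent.S4066

open Subgroup

section

variable {G : Type*} [Group G] [Finite G] {p : ℕ} [Fact p.Prime]

/-- A `p`-subgroup normalizing a Sylow `p`-subgroup lies in it. -/
theorem le_sylow_of_le_normalizer {K : Subgroup G} (hK : IsPGroup p K) (P : Sylow p G)
    (h : K ≤ normalizer ((P : Subgroup G) : Set G)) : K ≤ P := by
  have h1 : IsPGroup p ↥((P : Subgroup G) ⊔ K) := by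
    rw [sup_comm]; exact hK.to_sup_of_normal_right' P.2 h
  exact le_sup_right.trans (P.is_maximal' h1 le_sup_left).le

theorem exists_center_ne_one (P : Sylow p G) (hP : (P : Subgroup G) ≠ ⊥) :
    ∃ z ∈ (P : Subgroup G), z ≠ 1 ∧ ∀ y ∈ (P : Subgroup G), y * z = z * y := by
  have : Nontrivial (P : Subgroup G) := (nontrivial_iff_ne_bot _).mpr hP
  have := P.2.center_nontrivial
  obtain ⟨z, hz⟩ := exists_ne (1 : center (P : Subgroup G))
  refine ⟨(z : (P : Subgroup G)), (z : (P : Subgroup G)).2, fun h => hz (Subtype.ext (Subtype.ext h)),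
    fun y hy => congrArg Subtype.val (mem_center_iff.mp z.2 ⟨y, hy⟩)⟩

variable (hTI : ∀ x : G, Cfsg.IsTISubset (centralizer ({x} : Set G) : Set G))
include hTI

theorem ti_normalizes {y z c : G} (hz : z ≠ 1) (h1 : z * y = y * z)
    (h2 : z * (c * y * c⁻¹) = c * y * c⁻¹ * z) :
    c ∈ normalizer (centralizer ({y} : Set G) : Set G) := by
  by_contra hc
  refine hz ?_
  have h3 : c⁻¹ * z * c ∈ centralizer ({y} : Set G) := by
    rw [mem_centralizer_singleton_iff]
    simpa [mul_assoc] using congrArg (fun w => c⁻¹ * w * c) h2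
  have h4 := hTI y c hc (c⁻¹ * z * c) h3 (by
    simpa [mul_assoc, mem_centralizer_singleton_iff] using h1)
  simpa [mul_assoc] using congrArg (fun w => c * w * c⁻¹) h4

theorem centralizer_le_normalizer_sylow (P : Sylow p G) {z : G} (hz1 : z ≠ 1)
    (hz : ∀ y ∈ (P : Subgroup G), y * z = z * y) :
    centralizer ({z} : Set G) ≤ normalizer ((P : Subgroup G) : Set G) := by
  set C := centralizer ({z} : Set G) with hC
  intro c hc
  rw [mem_normalizer_iff_map_conj_eq]
  refine eq_of_le_of_card_ge ?_ (card_map_of_injective (MulAut.conj c).injective).ge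
  rintro _ ⟨y, hy, rfl⟩
  set S : Set G := {w | ∃ d ∈ C, d * y * d⁻¹ = w}
  have hcent : ∀ d ∈ C, centralizer ({d * y * d⁻¹} : Set G) = centralizer ({y} : Set G) := by
    intro d hd
    have hd' := mem_centralizer_singleton_iff.mp hd
    have h2 : z * (d * y * d⁻¹) = d * y * d⁻¹ * z := by
      calc z * (d * y * d⁻¹) = (z * d) * y * d⁻¹ := by simp [mul_assoc]
        _ = d * (z * y) * d⁻¹ := by rw [← hd']; simp [mul_assoc]
        _ = d * (y * z) * d⁻¹ := by rw [← hz y hy]
        _ = d * y * d⁻¹ * (d * z * d⁻¹) := by simp [mul_assoc]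
        _ = d * y * d⁻¹ * z := by rw [hd', mul_inv_cancel_right]
    have hn := ti_normalizes hTI hz1 (hz y hy).symm h2
    ext w
    have h3 := (mem_normalizer_iff.mp (inv_mem hn) w)
    rw [inv_inv, mem_centralizer_singleton_iff, mem_centralizer_singleton_iff] at h3
    rw [mem_centralizer_singleton_iff, mem_centralizer_singleton_iff, h3]
    constructor <;> intro h
    · simpa [mul_assoc] using congrArg (fun u => d⁻¹ * u * d) h
    · simpa [mul_assoc] using congrArg (fun u => d * u * d⁻¹) h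
  have hK : IsPGroup p (closure S) := by
    refine Cfsg.Lib.PGroup.isPGroup_closure_of_commute ?_ ?_
    · rintro _ ⟨a, ha, rfl⟩ _ ⟨b, hb, rfl⟩
      have h : a * y * a⁻¹ ∈ centralizer ({b * y * b⁻¹} : Set G) := by
        rw [hcent b hb, ← hcent a ha, mem_centralizer_singleton_iff]
      exact mem_centralizer_singleton_iff.mp h
    · rintro _ ⟨a, -, rfl⟩
      obtain ⟨k, hk⟩ := P.2 ⟨y, hy⟩
      exact ⟨k, by rw [conj_pow, show y ^ p ^ k = 1 by simpa using congrArg Subtype.val hk]; simp⟩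
  have hPN : (P : Subgroup G) ≤ normalizer (closure S : Set G) := by
    intro u hu
    have huC : u ∈ C := mem_centralizer_singleton_iff.mpr (hz u hu)
    refine mem_normalizer_iff_map_conj_eq.mpr ?_
    rw [MonoidHom.map_closure]
    congr 1
    ext w
    constructor
    · rintro ⟨_, ⟨d, hd, rfl⟩, rfl⟩
      exact ⟨u * d, mul_mem huC hd, by simp [mul_assoc]⟩
    · rintro ⟨d, hd, rfl⟩
      exact ⟨u⁻¹ * d * y * (u⁻¹ * d)⁻¹, ⟨_, mul_mem (inv_mem huC) hd, rfl⟩, by simp [mul_assoc]⟩
  have hle : closure S ≤ (P : Subgroup G) := by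
    have h1 : IsPGroup p ↥((P : Subgroup G) ⊔ closure S) := by
      exact P.2.to_sup_of_normal_right' hK hPN
    exact le_sup_right.trans (P.is_maximal' h1 le_sup_left).le
  exact hle (subset_closure ⟨c, hc, rfl⟩)

theorem normalizer_centralizer_le (P : Sylow p G) {z r : G} (hz1 : z ≠ 1)
    (hz : ∀ y ∈ (P : Subgroup G), y * z = z * y)
    (hr : r ∈ normalizer (centralizer ({z} : Set G) : Set G)) :
    r ∈ normalizer ((P : Subgroup G) : Set G) := by
  rw [mem_normalizer_iff_map_conj_eq]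
  refine eq_of_le_of_card_ge (le_sylow_of_le_normalizer (P.2.map _) P ?_)
    (card_map_of_injective (MulAut.conj r).injective).ge
  rintro _ ⟨y, hy, rfl⟩
  exact centralizer_le_normalizer_sylow hTI P hz1 hz
    ((mem_normalizer_iff.mp hr y).mp (mem_centralizer_singleton_iff.mpr (hz y hy)))

theorem eq_of_commute (P R : Sylow p G) {z u : G} (hz1 : z ≠ 1) (hu1 : u ≠ 1)
    (hz : ∀ y ∈ (P : Subgroup G), y * z = z * y) (hu : ∀ y ∈ (R : Subgroup G), y * u = u * y)
    (h : u * z = z * u) : P = R := by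
  refine Sylow.ext (Eq.symm (R.is_maximal' P.2 ?_).symm)
  refine le_sylow_of_le_normalizer R.2 P fun r hr => normalizer_centralizer_le hTI P hz1 hz ?_
  refine ti_normalizes hTI hu1 h ?_
  have h1 : u * r = r * u := (hu r hr).symm
  have h2 : u * r⁻¹ = r⁻¹ * u := (hu r⁻¹ (inv_mem hr)).symm
  calc u * (r * z * r⁻¹) = (u * r) * z * r⁻¹ := by simp [mul_assoc]
    _ = r * (u * z) * r⁻¹ := by rw [h1]; simp [mul_assoc]
    _ = r * z * (u * r⁻¹) := by rw [h]; simp [mul_assoc]
    _ = r * z * r⁻¹ * u := by rw [h2]; simp [mul_assoc]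


end

/-- Let G be a finite group in which the centralizer of every element meets each of its conjugates by elements outside its normalizer trivially. Then any two distinct Sylow p-subgroups of G, for any prime p, intersect trivially. -/
theorem result {G : Type*} [Group G] [Finite G] (hTI : ∀ x : G, Cfsg.IsTISubset (Subgroup.centralizer ({x} : Set G) : Set G))
    {p : ℕ} [Fact p.Prime] (P Q : Sylow p G) (hPQ : P ≠ Q) : (P : Subgroup G) ⊓ (Q : Subgroup G) = ⊥ := by
  by_contra hD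
  obtain ⟨⟨x, hxP, hxQ⟩, hx⟩ := Subgroup.ne_bot_iff_exists_ne_one.mp hD
  have hx1 : x ≠ 1 := fun h => hx (Subtype.ext h)
  have hne : ∀ R : Sylow p G, x ∈ (R : Subgroup G) → (R : Subgroup G) ≠ ⊥ := fun R hR h =>
    hx1 (Subgroup.mem_bot.mp (h ▸ hR))
  obtain ⟨z, hzP, hz1, hz⟩ := exists_center_ne_one P (hne P hxP)
  obtain ⟨w, hwQ, hw1, hw⟩ := exists_center_ne_one Q (hne Q hxQ)
  set C := centralizer ({x} : Set G)
  have hzC : z ∈ C := mem_centralizer_singleton_iff.mpr (hz x hxP).symm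
  have hwC : w ∈ C := mem_centralizer_singleton_iff.mpr (hw x hxQ).symm
  have hpel : ∀ (R : Sylow p G) (v : G), v ∈ (R : Subgroup G) → ∀ hv : v ∈ C,
      ∃ S : Sylow p C, (⟨v, hv⟩ : C) ∈ (S : Subgroup C) := by
    intro R v hvR hv
    obtain ⟨S, hS⟩ := (R.2.comap_of_injective C.subtype C.subtype_injective).exists_le_sylow
    exact ⟨S, hS (Subgroup.mem_comap.mpr hvR)⟩
  obtain ⟨S, hzS⟩ := hpel P z hzP hzC
  obtain ⟨T, hwT⟩ := hpel Q w hwQ hwC
  obtain ⟨R, hR⟩ := (S.2.map C.subtype).exists_le_sylow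
  have hzR : z ∈ (R : Subgroup G) := hR ⟨_, hzS, rfl⟩
  obtain ⟨u, huR, hu1, hu⟩ := exists_center_ne_one R (fun h => hz1 (Subgroup.mem_bot.mp (h ▸ hzR)))
  have hRP : P = R := eq_of_commute hTI P R hz1 hu1 hz hu (hu z hzR).symm
  obtain ⟨c, hc⟩ := MulAction.exists_smul_eq C S T
  have hc1 : (c : G) ∈ normalizer ((P : Subgroup G) : Set G) := by
    refine normalizer_centralizer_le hTI P hz1 hz (ti_normalizes hTI hx1 (hz x hxP) ?_)
    have h1 : x * c = c * x := (mem_centralizer_singleton_iff.mp c.2).symm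
    have h2 : x * (c : G)⁻¹ = (c : G)⁻¹ * x := (mem_centralizer_singleton_iff.mp (inv_mem c.2)).symm
    calc x * ((c : G) * z * (c : G)⁻¹) = (x * c) * z * (c : G)⁻¹ := by simp [mul_assoc]
      _ = (c : G) * (x * z) * (c : G)⁻¹ := by rw [h1]; simp [mul_assoc]
      _ = (c : G) * z * (x * (c : G)⁻¹) := by rw [hz x hxP]; simp [mul_assoc]
      _ = (c : G) * z * (c : G)⁻¹ * x := by rw [h2]; simp [mul_assoc]
  have hwP : w ∈ (P : Subgroup G) := by
    rw [← hc, Sylow.coe_subgroup_smul] at hwT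
    obtain ⟨s, hs, hsw⟩ := hwT
    have hsP : (s : G) ∈ (P : Subgroup G) := hRP ▸ hR ⟨s, hs, rfl⟩
    have h4 := (mem_normalizer_iff.mp hc1 (s : G)).mp hsP
    rwa [show (c : G) * s * (c : G)⁻¹ = w from congrArg Subtype.val hsw] at h4
  exact hPQ (eq_of_commute hTI P Q hz1 hw1 hz hw (hz w hwP))

end Cfsg.Agent.S4066
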