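import Cfsg.Statements.S0338
import Cfsg.Agent.Lib.Char.ZassenhausReduce
import Cfsg.Agent.Lib.Char.ZassenhausOdd
-- import your own Cfsg.Agent.* helpers here

set_option autoImplicit false
open Cfsg

namespace Cfsg.Agent.S0338

open Cfsg.Lib.Char

theorem exists_kernel_subgroup {G Ω : Type*} [Group G] [Finite G] [MulAction G Ω] [Fintype Ω]
    (hZ : IsZassenhausGroup G Ω) {a b : Ω} (hab : a ≠ b) :
    ∃ H : Subgroup G, H ≤ MulAction.stabilizer G a ∧ Nat.card H + 1 = Fintype.card Ω ∧
      ∀ u ∈ H, u ≠ 1 → ∀ c : Ω, u • c = c → c = a := by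
  obtain ⟨N, -, -, hc, -, hfix⟩ := zas_exists_kernel hZ hab
  refine ⟨N.map (MulAction.stabilizer G a).subtype, Subgroup.map_subtype_le N, ?_, ?_⟩
  · rw [Subgroup.card_map_of_injective (Subgroup.subtype_injective _)]
    have h1 := hc.card_mul
    rw [Nat.card_congr (Subgroup.subgroupOfEquivOfLe (inf_le_left :
      MulAction.stabilizer G a ⊓ MulAction.stabilizer G b ≤ MulAction.stabilizer G a)).toEquiv,
      (zas_card_group hZ hab).1] at h1
    have h2 := Nat.eq_of_mul_eq_mul_right Nat.card_pos h1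
    have := zas_two_lt_card hZ
    omega
  · rintro _ ⟨x, hx, rfl⟩ hx1 c hc'
    exact hfix x hx (fun e => hx1 (by rw [e]; rfl)) c hc'

theorem main {G Ω : Type*} [Group G] [Finite G] [MulAction G Ω] [Fintype Ω]
    (hZ : IsZassenhausGroup G Ω) (hn : Odd (Fintype.card Ω)) : IsSimpleGroup G := by
  classical
  obtain ⟨-, -, -, ⟨g₀, -, a, b, hab, -, -⟩, -⟩ := id hZ
  haveI := hZ.1
  obtain ⟨H, hHa, hHcard, hHfix⟩ := exists_kernel_subgroup hZ hab
  obtain ⟨N, hNn, hHN, hsimple, hNZ⟩ := zas_exists_simple hZ hab H hHa hHcard hHfix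
  -- two-point stabilizers have odd order
  have hodd : Odd (Nat.card (MulAction.stabilizer G a ⊓ MulAction.stabilizer G b : Subgroup G)) := by
    by_contra hev
    rw [Nat.not_odd_iff_even] at hev
    haveI := Fact.mk Nat.prime_two
    obtain ⟨z, hz⟩ := exists_prime_orderOf_dvd_card' 2 hev.two_dvd
    rw [← Subgroup.orderOf_coe] at hz
    have hp : IsPGroup 2 (Subgroup.zpowers (z : G)) :=
      IsPGroup.of_card (n := 1) (by rw [Nat.card_zpowers, hz, pow_one])
    have h1 := hp.card_modEq_card_fixedPoints (α := Ω)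
    have hz1 : (z : G) ≠ 1 := fun e => by rw [e, orderOf_one] at hz; omega
    have h2 : MulAction.fixedPoints (Subgroup.zpowers (z : G)) Ω = {a, b} := by
      ext c
      constructor
      · intro hc
        by_contra hh
        simp only [Set.mem_insert_iff, Set.mem_singleton_iff] at hh
        push Not at hh
        exact hz1 (hZ.2.2.1 _ a b c hab hh.2.symm hh.1.symm z.2.1 z.2.2
          (hc ⟨(z : G), Subgroup.mem_zpowers _⟩))
      · rintro (rfl | rfl) ⟨w, k, rfl⟩
        · exact Subgroup.zpow_mem (MulAction.stabilizer G c) z.2.1 k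
        · exact Subgroup.zpow_mem (MulAction.stabilizer G c) z.2.2 k
    rw [h2, Nat.card_eq_fintype_card (α := Ω), Nat.card_coe_set_eq, Set.ncard_pair hab] at h1
    obtain ⟨m, hm⟩ := hn
    unfold Nat.ModEq at h1
    omega
  -- an involution of the kernel
  obtain ⟨t, ht, htN, htH⟩ : ∃ t : G, orderOf t = 2 ∧ t ∈ N ∧ t ∈ H := by
    haveI := Fact.mk Nat.prime_two
    obtain ⟨m, hm⟩ := hn
    obtain ⟨u, hu⟩ := exists_prime_orderOf_dvd_card' (G := H) 2 ⟨m, by omega⟩
    rw [← Subgroup.orderOf_coe] at hu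
    exact ⟨u, hu, hHN u.2, u.2⟩
  haveI := hsimple
  haveI := Fintype.ofFinite N
  let jN : (MulAction.stabilizer N a ⊓ MulAction.stabilizer N b : Subgroup N) →
      (MulAction.stabilizer G a ⊓ MulAction.stabilizer G b : Subgroup G) :=
    fun x => ⟨((x : N) : G), x.2.1, x.2.2⟩
  have hjN : Function.Injective jN := fun x y h =>
    Subtype.ext (Subtype.ext (congrArg Subtype.val h :))
  have hoddN : Odd (Nat.card (MulAction.stabilizer N a ⊓ MulAction.stabilizer N b : Subgroup N)) := by
    let φ : (MulAction.stabilizer N a ⊓ MulAction.stabilizer N b : Subgroup N) →*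
        (MulAction.stabilizer G a ⊓ MulAction.stabilizer G b : Subgroup G) :=
      { toFun := jN, map_one' := rfl, map_mul' := fun _ _ => rfl }
    exact hodd.of_dvd_nat (Subgroup.card_dvd_of_injective φ hjN)
  obtain ⟨hh, hhh⟩ : ∃ h, Fintype.card Ω = h + 1 := ⟨_, hHcard.symm⟩
  have hle := zas_invol_at hNZ hab hoddN hhh rfl a
  have hge : Nat.card (MulAction.stabilizer G a ⊓ MulAction.stabilizer G b : Subgroup G) ≤
      (Finset.univ.filter fun x : N => orderOf x = 2 ∧ x • a = a).card := by
    haveI : Fintype (MulAction.stabilizer G a ⊓ MulAction.stabilizer G b : Subgroup G) :=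
      Fintype.ofFinite _
    have hHn := (Cfsg.Agent.S0878.result hZ a H hHa hHcard hHfix).2
    rw [Nat.card_eq_fintype_card, ← Finset.card_univ]
    refine Finset.card_le_card_of_injOn
      (fun d => ⟨(d : G) * t * (d : G)⁻¹, hNn.conj_mem t htN d⟩) (fun d _ => ?_) ?_
    · simp only [Finset.coe_filter, Finset.mem_univ, true_and, Set.mem_ofPred_eq]
      refine ⟨?_, ?_⟩
      · rw [← Subgroup.orderOf_coe]
        exact (MulEquiv.orderOf_eq (MulAut.conj (d : G)) t).trans ht
      · have hd : (d : G) ∈ Subgroup.normalizer (H : Set G) := by rw [hHn]; exact d.2.1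
        exact hHa ((Subgroup.mem_normalizer_iff.mp hd t).mp htH)
    · intro x _ y _ hxy
      have hxy' : (x : G) * t * (x : G)⁻¹ = (y : G) * t * (y : G)⁻¹ := congrArg Subtype.val hxy
      have hc : (y : G)⁻¹ * x ∈ Subgroup.centralizer ({t} : Set G) := by
        rw [Subgroup.mem_centralizer_singleton_iff]
        calc (y : G)⁻¹ * x * t = (y : G)⁻¹ * ((x : G) * t * (x : G)⁻¹) * x := by group
          _ = t * ((y : G)⁻¹ * x) := by rw [hxy']; group
      have hH' := zas_centralizer_le hZ hab H hHa hHcard hHfix htH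
        (fun e => by rw [e, orderOf_one] at ht; omega) hc
      by_contra hne
      refine hab (hHfix _ hH' (fun e => hne (Subtype.ext (inv_mul_eq_one.mp e).symm)) b ?_).symm
      have hy : (y : G)⁻¹ ∈ MulAction.stabilizer G b := inv_mem y.2.2
      exact mul_mem hy x.2.2
  have hD : MulAction.stabilizer G a ⊓ MulAction.stabilizer G b ≤ N := by
    intro d hd
    obtain ⟨x, hx⟩ := (hjN.bijective_of_nat_card_le (hge.trans hle)).surjective ⟨d, hd⟩
    rw [← show ((x : N) : G) = d from congrArg Subtype.val hx]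
    exact (x : N).2
  have hN1 : N ≠ ⊥ := fun e => by
    rw [e, Subgroup.mem_bot] at htN
    rw [htN, orderOf_one] at ht
    omega
  haveI := Cfsg.Lib.Perm.ZasAbelian.normal_transitive hZ.1 hZ.2.1 N hN1
  have htop : N = ⊤ := by
    rw [eq_top_iff]
    intro g _
    obtain ⟨⟨k, hk⟩, hka⟩ := MulAction.exists_smul_eq N (g • a) a
    have hga : (k * g) • a = a := by rw [mul_smul]; exact hka
    have hz : (k * g) • b ≠ a := fun e => hab (MulAction.injective _ (hga.trans e.symm))
    obtain ⟨u, hu, hub⟩ := Cfsg.Lib.Perm.ZasAbelian.kernel_transitive hab H hHa hHcard hHfix hz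
    have hmem : u⁻¹ * (k * g) ∈ N := hD ⟨show (u⁻¹ * (k * g)) • a = a by
        rw [mul_smul, hga, inv_smul_eq_iff]; exact (hHa hu).symm,
      show (u⁻¹ * (k * g)) • b = b by rw [mul_smul, inv_smul_eq_iff, hub]⟩
    exact (mul_mem_cancel_left hk).mp ((mul_mem_cancel_left (inv_mem (hHN hu))).mp hmem)
  subst htop
  exact (MulEquiv.isSimpleGroup Subgroup.topEquiv.symm)

/-- A Zassenhaus group of odd degree is a simple group. -/
theorem result {G Ω : Type*} [Group G] [MulAction G Ω] [Fintype Ω]
    (hZ : Cfsg.IsZassenhausGroup G Ω) (hodd : Odd (Fintype.card Ω)) : IsSimpleGroup G := by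
  haveI := hZ.1
  haveI : Finite G := Finite.of_injective (MulAction.toPermHom G Ω) MulAction.toPerm_injective
  exact main hZ hodd

end Cfsg.Agent.S0338
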