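import Cfsg.Statements.S1393
import Cfsg.Agent.Lib.Local.OddTransitivity

set_option autoImplicit false
open Cfsg

namespace Cfsg.Agent.S1393

open Cfsg.Lib.Local.OddTransitivity Subgroup

/-- Let G be a minimal simple group of odd order, A a subgroup satisfying the transitivity hypothesis whose centre has rank at least 3, K = O_{π(A)'}(C_G(A)), and q a prime not dividing the order of A. Then any two maximal A-invariant q-subgroups of G are conjugate by an element of K. -/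
theorem result {G : Type*} [Group G] [Finite G] (hG : Cfsg.IsMinSimpleOddOrder G)
    (A : Subgroup G) (hA : Cfsg.TransitivityHypothesis A) (hZ : ¬ Cfsg.RankLE 2 ↥(A ⊓ Subgroup.centralizer (A : Set G)))
    (q : ℕ) (hq : q.Prime) (hqA : ¬ q ∣ Nat.card A) :
    ∀ Q₁ ∈ Cfsg.maxInvSubgroups ⊤ A {q}, ∀ Q₂ ∈ Cfsg.maxInvSubgroups ⊤ A {q}, ∃ k ∈ Cfsg.piCoreOf (Cfsg.primesNotDvd (Nat.card A)) (Subgroup.centralizer (A : Set G)), Q₂ = Q₁.map (MulAut.conj k).toMonoidHom := by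
  intro Q₁ h₁ Q₂ h₂
  haveI : Fact q.Prime := ⟨hq⟩
  by_cases hb : Q₁ = ⊥ ∨ Q₂ = ⊥
  · have hall : ∀ R ∈ Cfsg.maxInvSubgroups ⊤ A {q}, R = ⊥ := by
      rcases hb with hb | hb
      · intro R hR; exact (h₁.2 R hR.1 (hb ▸ bot_le)).trans hb
      · intro R hR; exact (h₂.2 R hR.1 (hb ▸ bot_le)).trans hb
    exact ⟨1, one_mem _, by rw [hall _ h₁, hall _ h₂, Subgroup.map_bot]⟩
  push Not at hb
  obtain ⟨r, hr, E, hEZ, hEe, hE3⟩ := exists_elementary hZ
  haveI : Fact r.Prime := ⟨hr⟩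
  have hEA : E ≤ A := hEZ.trans inf_le_left
  have hrA : r ∣ Nat.card A := by
    obtain ⟨i, hi⟩ := IsPGroup.iff_card.mp (Cfsg.Lib.Sig.isPGroup_of_elementaryAbelian hEe)
    refine dvd_trans ?_ (card_dvd_of_le hEA)
    rw [hi] at hE3 ⊢
    exact dvd_pow_self r (by have := (Nat.pow_le_pow_iff_right hr.one_lt).mp hE3; omega)
  have hnd : ∀ Q ∈ Cfsg.maxInvSubgroups ⊤ A {q}, ¬ r ∣ Nat.card Q := fun Q hQ hd =>
    hqA ((show r = q from hQ.1.2.1 r hr hd) ▸ hrA)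
  obtain ⟨a, ha, ha1, hm₁, hm₂⟩ := Cfsg.Lib.Sig.exists_common_centralizer (D := ⊥) hEe hE3
    (hEA.trans h₁.1.2.2) (hEA.trans h₂.1.2.2) (hnd _ h₁) (hnd _ h₂)
    (fun h => hb.1 (le_bot_iff.mp h)) (fun h => hb.2 (le_bot_iff.mp h))
  refine rel_of_meet hG hA hq hqA _ Q₁ Q₂ (centralizer ({a} : Set G)) (Nat.lt_succ_self _) h₁ h₂
    (centralizer_ne_top hG ha1) (fun x hx => mem_centralizer_singleton_iff.mpr
      (mem_centralizer_iff.mp (hEZ ha).2 x hx)) ?_ ?_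
  · exact fun e => hm₁ (by rw [inf_comm, e])
  · exact fun e => hm₂ (by rw [inf_comm, e])

end Cfsg.Agent.S1393
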