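import Cfsg.Statements.S1395
import Cfsg.Agent.Lib.Local.OddTransitivity

set_option autoImplicit false
open Cfsg

namespace Cfsg.Agent.S1395

open Cfsg.Lib.Local.OddTransitivity Subgroup

private theorem conj_max {G : Type*} [Group G] [Finite G] {B : Subgroup G} {π : Set ℕ} {g : G}
    (hg : g ∈ normalizer (B : Set G)) {Q : Subgroup G} (hQ : Q ∈ Cfsg.maxInvSubgroups ⊤ B π) :
    Q.map (MulAut.conj g).toMonoidHom ∈ Cfsg.maxInvSubgroups ⊤ B π := by
  have hinv : ∀ h ∈ normalizer (B : Set G), ∀ R ∈ Cfsg.invSubgroups ⊤ B π,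
      R.map (MulAut.conj h).toMonoidHom ∈ Cfsg.invSubgroups ⊤ B π := by
    intro h hh R hR
    refine ⟨le_top, (show Cfsg.Lib.Core.IsPiSub π R from hR.2.1).map _,
      Cfsg.Lib.Sig.le_normalizer_of_invariant fun b hb u hu => ?_⟩
    obtain ⟨v, hv, rfl⟩ := hu
    have hb' : h⁻¹ * b * h ∈ B := by
      have := (mem_normalizer_iff.mp (inv_mem hh) b).mp hb
      simpa using this
    refine ⟨(h⁻¹ * b * h) * v * (h⁻¹ * b * h)⁻¹,
      Cfsg.Lib.Sig.invariant_of_le_normalizer hR.2.2 _ hb' v hv, ?_⟩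
    simp only [MulEquiv.coe_toMonoidHom, MulAut.conj_apply]
    group
  refine ⟨hinv g hg Q hQ.1, fun R hR hle => ?_⟩
  have hfwd : (Q.map (MulAut.conj g).toMonoidHom).map (MulAut.conj g⁻¹).toMonoidHom = Q := by
    rw [map_conj_conj, inv_mul_cancel, map_one]; exact map_id Q
  have hback : (R.map (MulAut.conj g⁻¹).toMonoidHom).map (MulAut.conj g).toMonoidHom = R := by
    rw [map_conj_conj, mul_inv_cancel, map_one]; exact map_id R
  have h := hQ.2 _ (hinv _ (inv_mem hg) R hR) (hfwd ▸ map_mono hle)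
  rw [← hback, h]

private theorem conj_core {G : Type*} [Group G] [Finite G] {π : Set ℕ} (X : Subgroup G) :
    normalizer (X : Set G) ≤ normalizer (Cfsg.piCoreOf π X : Set G) := by
  refine Cfsg.Lib.Sig.le_normalizer_of_invariant fun g hg u hu => ?_
  refine le_piCoreOf (N := (Cfsg.piCoreOf π X).map (MulAut.conj g).toMonoidHom) ?_
    (Cfsg.Lib.Sig.le_normalizer_of_invariant ?_) ((piCoreOf_isPiSub X).map _) ⟨u, hu, rfl⟩
  · rintro _ ⟨v, hv, rfl⟩
    exact (mem_normalizer_iff.mp hg v).mp (piCoreOf_le X hv)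
  · rintro x hx _ ⟨v, hv, rfl⟩
    have hy : g⁻¹ * x * g ∈ X := by
      have := (mem_normalizer_iff.mp (inv_mem hg) x).mp hx
      simpa using this
    refine ⟨(g⁻¹ * x * g) * v * (g⁻¹ * x * g)⁻¹,
      Cfsg.Lib.Sig.invariant_of_le_normalizer (le_normalizer_piCoreOf X) _ hy v hv, ?_⟩
    simp only [MulEquiv.coe_toMonoidHom, MulAut.conj_apply]
    group

private theorem primes_eq {G : Type*} [Group G] [Finite G] {A B : Subgroup G} (hAB : A ≤ B)
    (h : ∀ r : ℕ, r.Prime → r ∣ Nat.card B → r ∣ Nat.card A) :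
    Cfsg.primesNotDvd (Nat.card A) = Cfsg.primesNotDvd (Nat.card B) :=
  Set.ext fun r => ⟨fun hr => ⟨hr.1, fun hd => hr.2 (h r hr.1 hd)⟩,
    fun hr => ⟨hr.1, fun hd => hr.2 (hd.trans (card_dvd_of_le hAB))⟩⟩

/-- Let G be a minimal simple group of odd order, A a subgroup satisfying the transitivity hypothesis with K = O_{π(A)'}(C_G(A)), q a prime not dividing the order of A, and P a proper subgroup all of whose prime divisors divide the order of A, containing A as a subnormal subgroup, such that any two maximal A-invariant q-subgroups are conjugate under K. Then (a) K ∩ C_G(P) = O_{π(A)'}(C_G(P)); (b) any two maximal P-invariant q-subgroups are conjugate under O_{π(A)'}(C_G(P)); (c) every maximal P-invariant q-subgroup is a maximal A-invariant q-subgroup; (d) for every maximal P-invariant q-subgroup Q, P ∩ N_G(P)' ≤ N_G(Q)' and N_G(P) is generated by O_{π(A)'}(C_G(P)) and N_G(P) ∩ N_G(Q). -/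
theorem result {G : Type*} [Group G] [Finite G] (hG : Cfsg.IsMinSimpleOddOrder G)
    (A : Subgroup G) (hA : Cfsg.TransitivityHypothesis A) (q : ℕ) (hq : q.Prime) (hqA : ¬ q ∣ Nat.card A)
    (P : Subgroup G) (hP : P ≠ ⊤) (hPπ : (∀ r : ℕ, r.Prime → r ∣ Nat.card P → r ∣ Nat.card A)) (hAP : A ≤ P) (hsn : (A.subgroupOf P).IsSubnormal)
    (htr : ∀ Q₁ ∈ Cfsg.maxInvSubgroups ⊤ A {q}, ∀ Q₂ ∈ Cfsg.maxInvSubgroups ⊤ A {q}, ∃ k ∈ Cfsg.piCoreOf (Cfsg.primesNotDvd (Nat.card A)) (Subgroup.centralizer (A : Set G)), Q₂ = Q₁.map (MulAut.conj k).toMonoidHom) :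
    Cfsg.piCoreOf (Cfsg.primesNotDvd (Nat.card A)) (Subgroup.centralizer (A : Set G)) ⊓ Subgroup.centralizer (P : Set G) = Cfsg.piCoreOf (Cfsg.primesNotDvd (Nat.card A)) (Subgroup.centralizer (P : Set G)) ∧
      (∀ Q₁ ∈ Cfsg.maxInvSubgroups ⊤ P {q}, ∀ Q₂ ∈ Cfsg.maxInvSubgroups ⊤ P {q}, ∃ k ∈ Cfsg.piCoreOf (Cfsg.primesNotDvd (Nat.card A)) (Subgroup.centralizer (P : Set G)), Q₂ = Q₁.map (MulAut.conj k).toMonoidHom) ∧
      Cfsg.maxInvSubgroups ⊤ P {q} ⊆ Cfsg.maxInvSubgroups ⊤ A {q} ∧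
      ∀ Q ∈ Cfsg.maxInvSubgroups ⊤ P {q},
        P ⊓ ⁅Subgroup.normalizer (P : Set G), Subgroup.normalizer (P : Set G)⁆ ≤ ⁅Subgroup.normalizer (Q : Set G), Subgroup.normalizer (Q : Set G)⁆ ∧
        Subgroup.normalizer (P : Set G) = Cfsg.piCoreOf (Cfsg.primesNotDvd (Nat.card A)) (Subgroup.centralizer (P : Set G)) ⊔ (Subgroup.normalizer (P : Set G) ⊓ Subgroup.normalizer (Q : Set G)) := by
  classical
  haveI : Fact q.Prime := ⟨hq⟩
  haveI hsP : Group.IsSolvable P := hG.2.2.2 P hP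
  set π := Cfsg.primesNotDvd (Nat.card A) with hπdef
  let KB : Subgroup G → Subgroup G := fun B => Cfsg.piCoreOf π (centralizer (B : Set G))
  -- maximal subgroups invariant under an overgroup
  have hmem : ∀ B : Subgroup G, A ≤ B → B ≤ P →
      (∃ Q ∈ Cfsg.maxInvSubgroups ⊤ A {q}, B ≤ normalizer (Q : Set G)) →
      Cfsg.maxInvSubgroups ⊤ B {q} ⊆ Cfsg.maxInvSubgroups ⊤ A {q} := by
    rintro B hAB hBP ⟨Q₀, hQ₀, hBQ₀⟩ R hR
    have hRA : R ∈ Cfsg.invSubgroups ⊤ A {q} := ⟨le_top, hR.1.2.1, hAB.trans hR.1.2.2⟩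
    by_cases hR0 : R = ⊥
    · have h0 : Q₀ = ⊥ := (hR.2 Q₀ ⟨le_top, hQ₀.1.2.1, hBQ₀⟩ (hR0 ▸ bot_le)).trans hR0
      rw [hR0, ← h0]
      exact hQ₀
    obtain ⟨Q, hQ, hRQ⟩ := exists_max hRA
    rcases eq_or_lt_of_le hRQ with h | h
    · rw [h]; exact hQ
    exfalso
    set X := normalizer (R : Set G)
    have hX : X ≠ ⊤ := Cfsg.Lib.Local.CN.normalizer_ne_top hG hR0
      (Cfsg.Lib.Local.CN.isSolvable_of_nilpotent (isPGroup_of_inv hq hR.1).isNilpotent)
    set O := Cfsg.piCoreOf π X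
    have hBX : B ≤ X := hR.1.2.2
    have hBO : B ≤ normalizer (O : Set G) := hBX.trans (le_normalizer_piCoreOf X)
    have hcop : (Nat.card B).Coprime (Nat.card O) := Nat.coprime_of_dvd fun r hr h1 h2 =>
      (piCoreOf_isPiSub (π := π) X r hr h2).2 (hPπ r hr (h1.trans (card_dvd_of_le hBP)))
    have hsol : Group.IsSolvable B ∨ Group.IsSolvable O :=
      Or.inl (Cfsg.Lib.Core.isSolvable_of_le hBP hsP)
    have hRO : R ≤ O := le_core_of_inv hA hX (hAB.trans hBX) ⟨le_normalizer,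
      piSub_singleton hq hqA hRA, hAB.trans hBX⟩
    obtain ⟨S, hRS, hBS⟩ := Cfsg.Lib.Coprime.exists_invariant_sylow_ge hBO hcop hsol hRO
      (isPGroup_of_inv hq hR.1) hBX
    have hSR : (S : Subgroup O).map O.subtype = R := by
      refine hR.2 _ ⟨le_top, fun r hr hd => ?_, hBS⟩ hRS
      obtain ⟨i, hi⟩ := IsPGroup.iff_card.mp (S.isPGroup'.map O.subtype)
      rw [hi] at hd
      exact (Nat.prime_dvd_prime_iff_eq hr hq).mp (hr.dvd_of_dvd_pow hd)
    have hlt := exists_gt_inf_normalizer (isPGroup_of_inv hq hQ.1) h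
    have hUinv : Q ⊓ X ∈ Cfsg.invSubgroups X A {q} :=
      ⟨inf_le_right, fun r hr hd => hQ.1.2.1 r hr (hd.trans (card_dvd_of_le inf_le_left)),
        (le_inf hQ.1.2.2 ((hAB.trans hBX).trans le_normalizer)).trans inf_normalizer_le_normalizer_inf⟩
    have hUO : Q ⊓ X ≤ O := le_core_of_inv hA hX (hAB.trans hBX)
      ⟨hUinv.1, piSub_singleton hq hqA hUinv, hUinv.2.2⟩
    have hUp : IsPGroup q ((Q ⊓ X).subgroupOf O) :=
      (isPGroup_of_inv hq hUinv).of_equiv (subgroupOfEquivOfLe hUO).symm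
    have hSU : (S : Subgroup O) ≤ (Q ⊓ X).subgroupOf O := fun s hs =>
      mem_subgroupOf.mpr (hlt.le (hSR ▸ mem_map_of_mem _ hs))
    have heq := S.3 hUp hSU
    have h' := map_subgroupOf_eq_of_le hUO
    rw [heq, hSR] at h'
    exact hlt.ne h'
  -- the induction along the subnormal chain
  let Φ : Subgroup G → Prop := fun B =>
    (∃ Q ∈ Cfsg.maxInvSubgroups ⊤ A {q}, B ≤ normalizer (Q : Set G)) ∧
      ∀ Q₁ ∈ Cfsg.maxInvSubgroups ⊤ B {q}, ∀ Q₂ ∈ Cfsg.maxInvSubgroups ⊤ B {q},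
        ∃ k ∈ KB B, Q₂ = Q₁.map (MulAut.conj k).toMonoidHom
  have hstep : ∀ B C : Subgroup G, A ≤ B → B ≤ C → C ≤ P → C ≤ normalizer (B : Set G) → Φ B → Φ C := by
    intro B C hAB hBC hCP hn hΦ
    obtain ⟨⟨Q₀, hQ₀, hBQ₀⟩, htrB⟩ := hΦ
    have hBA := hmem B hAB (hBC.trans hCP) ⟨Q₀, hQ₀, hBQ₀⟩
    have hQ₀B : Q₀ ∈ Cfsg.maxInvSubgroups ⊤ B {q} :=
      ⟨⟨le_top, hQ₀.1.2.1, hBQ₀⟩, fun R hR hle => hQ₀.2 R ⟨le_top, hR.2.1, hAB.trans hR.2.2⟩ hle⟩
    have hCK : C ≤ normalizer (KB B : Set G) :=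
      (hn.trans (Cfsg.Lib.Sig.le_normalizer_of_invariant fun c hc u hu => mem_centralizer_iff.mpr
        fun b hb => by
          have hb' : c⁻¹ * b * c ∈ B := by
            have := (mem_normalizer_iff.mp (inv_mem hc) b).mp hb
            simpa using this
          have hcu := mem_centralizer_iff.mp hu _ hb'
          calc b * (c * u * c⁻¹) = c * ((c⁻¹ * b * c) * u) * c⁻¹ := by group
            _ = c * (u * (c⁻¹ * b * c)) * c⁻¹ := by rw [hcu]
            _ = c * u * c⁻¹ * b := by group)).trans (conj_core _)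
    have hcop : (Nat.card C).Coprime (Nat.card (KB B)) := Nat.coprime_of_dvd fun r hr h1 h2 =>
      (piCoreOf_isPiSub (π := π) _ r hr h2).2 (hPπ r hr (h1.trans (card_dvd_of_le hCP)))
    have hsol : Group.IsSolvable C ∨ Group.IsSolvable (KB B) :=
      Or.inl (Cfsg.Lib.Core.isSolvable_of_le hCP hsP)
    obtain ⟨k, hk, hCk⟩ := Cfsg.Lib.Coprime.exists_conj_invariant hCK hcop hsol Q₀ fun c hc =>
      htrB Q₀ hQ₀B _ (conj_max (hn hc) hQ₀B)
    have hkB : k ∈ normalizer (B : Set G) := centralizer_le_normalizer _ (piCoreOf_le _ hk)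
    have hex : ∃ Q ∈ Cfsg.maxInvSubgroups ⊤ A {q}, C ≤ normalizer (Q : Set G) :=
      ⟨_, hBA (conj_max hkB hQ₀B), hCk⟩
    refine ⟨hex, fun Q₁ h₁ Q₂ h₂ => ?_⟩
    have hCA := hmem C (hAB.trans hBC) hCP hex
    have hmB : ∀ Q ∈ Cfsg.maxInvSubgroups ⊤ C {q}, Q ∈ Cfsg.maxInvSubgroups ⊤ B {q} := fun Q hQ =>
      ⟨⟨le_top, hQ.1.2.1, hBC.trans hQ.1.2.2⟩,
        fun R hR hle => (hCA hQ).2 R ⟨le_top, hR.2.1, hAB.trans hR.2.2⟩ hle⟩
    obtain ⟨g, hg, hgQ⟩ := htrB Q₁ (hmB _ h₁) Q₂ (hmB _ h₂)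
    obtain ⟨c, hc, hcQ⟩ :=
      Cfsg.Lib.Coprime.exists_centralizer_conj hCK hcop hsol h₁.1.2.2 h₂.1.2.2 hg hgQ
    exact ⟨c, le_piCoreOf (N := KB B ⊓ centralizer (C : Set G)) inf_le_right
      ((le_inf ((centralizer_le (by exact_mod_cast hBC)).trans (le_normalizer_piCoreOf _))
        le_normalizer).trans inf_normalizer_le_normalizer_inf)
      ((piCoreOf_isPiSub _).mono inf_le_left) hc, hcQ⟩
  have hchain : ∀ H : Subgroup P, H.IsSubnormal → A ≤ H.map P.subtype → Φ (H.map P.subtype) → Φ P := by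
    intro H hH
    induction hH with
    | top =>
      intro _ h
      rwa [← MonoidHom.range_eq_map, range_subtype] at h
    | step H K hle _ hN ih =>
      intro hAH h
      refine ih (hAH.trans (map_mono hle)) (hstep _ _ hAH (map_mono hle) (map_subtype_le K) ?_ h)
      exact (map_mono ((normal_subgroupOf_iff_le_normalizer hle).mp hN)).trans (le_normalizer_map _)
  obtain ⟨hex, htrP⟩ : Φ P := by
    refine hchain _ hsn (map_subgroupOf_eq_of_le hAP).ge ?_
    rw [map_subgroupOf_eq_of_le hAP]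
    obtain ⟨Q, hQ, -⟩ := exists_max (A := A) (π := {q}) (H := ⊤) (U := ⊥)
      ⟨le_top, fun r hr hd => absurd (by rwa [card_bot] at hd) hr.not_dvd_one,
        fun a _ => mem_normalizer_iff.mpr fun x => by simp⟩
    exact ⟨⟨Q, hQ, hQ.1.2.2⟩, htr⟩
  have hsub := hmem P hAP le_rfl hex
  refine ⟨le_antisymm ?_ (le_inf ?_ (piCoreOf_le _)), htrP, hsub, fun Q hQ => ?_⟩
  · exact le_piCoreOf inf_le_right
      ((le_inf ((centralizer_le (by exact_mod_cast hAP)).trans (le_normalizer_piCoreOf _))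
        le_normalizer).trans inf_normalizer_le_normalizer_inf)
      ((piCoreOf_isPiSub _).mono inf_le_left)
  · exact le_K hG hA ((piCoreOf_le _).trans (centralizer_le (by exact_mod_cast hAP)))
      (piCoreOf_isPiSub _)
  set K := Cfsg.piCoreOf π (centralizer (P : Set G)) with hKdef
  set N := normalizer (P : Set G) with hNdef
  set N₁ := N ⊓ normalizer (Q : Set G) with hN₁def
  have hKC : K ≤ centralizer (P : Set G) := piCoreOf_le _
  have hKN : K ≤ N := hKC.trans (centralizer_le_normalizer _)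
  have hNK : N ≤ normalizer (K : Set G) :=
    (Cfsg.Lib.Sig.le_normalizer_of_invariant fun c hc u hu => mem_centralizer_iff.mpr fun b hb => by
      have hb' : c⁻¹ * b * c ∈ P := by
        have := (mem_normalizer_iff.mp (inv_mem hc) b).mp hb
        simpa using this
      have hcu := mem_centralizer_iff.mp hu _ hb'
      calc b * (c * u * c⁻¹) = c * ((c⁻¹ * b * c) * u) * c⁻¹ := by group
        _ = c * (u * (c⁻¹ * b * c)) * c⁻¹ := by rw [hcu]
        _ = c * u * c⁻¹ * b := by group).trans (conj_core _)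
  have hNeq : N = K ⊔ N₁ := by
    refine le_antisymm (fun g hg => ?_) (sup_le hKN inf_le_left)
    obtain ⟨k, hk, hkQ⟩ := htrP Q hQ _ (conj_max hg hQ)
    have : k⁻¹ * g ∈ N₁ := by
      refine mem_inf.mpr ⟨mul_mem (inv_mem (hKN hk)) hg, mem_normalizer_iff_map_conj_eq.mpr ?_⟩
      change Q.map (MulAut.conj (k⁻¹ * g)).toMonoidHom = Q
      rw [← map_conj_conj, hkQ, map_conj_conj, inv_mul_cancel, map_one]
      exact map_id Q
    rw [← mul_inv_cancel_left k g]
    exact mul_mem_sup hk this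
  refine ⟨fun x hx => ?_, hNeq⟩
  haveI : (K.subgroupOf N).Normal := (normal_subgroupOf_iff_le_normalizer hKN).mpr hNK
  set f := QuotientGroup.mk' (K.subgroupOf N)
  have htop : (N₁.subgroupOf N).map f = (⊤ : Subgroup N).map f := by
    rw [map_eq_map_iff, QuotientGroup.ker_mk', top_sup_eq, eq_top_iff]
    rw [← subgroupOf_sup inf_le_left hKN, sup_comm N₁ K, ← hNeq, subgroupOf_self]
  have hx' : f ⟨x, le_normalizer hx.1⟩ ∈ (⁅N₁.subgroupOf N, N₁.subgroupOf N⁆).map f := by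
    rw [map_commutator, htop, ← map_commutator]
    refine mem_map_of_mem f ?_
    have h2 : x ∈ Subgroup.map N.subtype ⁅(⊤ : Subgroup N), (⊤ : Subgroup N)⁆ := by
      rw [map_commutator, ← MonoidHom.range_eq_map, range_subtype]
      exact hx.2
    obtain ⟨z, hz, hzx⟩ := h2
    rwa [show (⟨x, le_normalizer hx.1⟩ : N) = z from Subtype.ext hzx.symm]
  obtain ⟨y, hy, hxy⟩ := hx'
  have hy1 : (y : G) ∈ ⁅N₁, N₁⁆ := by
    have := mem_map_of_mem N.subtype hy
    rwa [map_commutator, map_subgroupOf_eq_of_le inf_le_left] at this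
  obtain ⟨z, hz, hzx⟩ := (QuotientGroup.mk'_eq_mk' _).mp hxy
  have hzK : (z : G) ∈ K := hz
  have hzx' : x = (y : G) * z := (congrArg Subtype.val hzx).symm
  have hcomm0 : Commute x (z : G) := mem_centralizer_iff.mp (hKC hzK) x hx.1
  have hcomm := hcomm0.inv_right
  have hxm : x ^ Nat.card K ∈ ⁅N₁, N₁⁆ := by
    have hzm : ((z : G)⁻¹) ^ Nat.card K = 1 := by
      rw [inv_pow, inv_eq_one]
      exact congrArg Subtype.val (pow_card_eq_one' (x := (⟨z, hzK⟩ : K)))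
    have : (x * (z : G)⁻¹) ^ Nat.card K = x ^ Nat.card K := by rw [hcomm.mul_pow, hzm, mul_one]
    rw [← this, hzx', mul_inv_cancel_right]
    exact pow_mem hy1 _
  have hcx : (Nat.card K).Coprime (orderOf x) := Nat.coprime_of_dvd fun r hr h1 h2 =>
    (piCoreOf_isPiSub (π := π) _ r hr h1).2 (hPπ r hr (h2.trans (by
      rw [← Subgroup.orderOf_mk x hx.1]; exact orderOf_dvd_natCard _)))
  obtain ⟨m, hm⟩ := exists_pow_eq_self_of_coprime (x := x) (n := Nat.card K) hcx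
  rw [← hm]
  exact commutator_mono inf_le_right inf_le_right (pow_mem hxm m)

end Cfsg.Agent.S1395
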