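import Cfsg.Statements.S1452
import Cfsg.Agent.Lib.PGroup.OddNormalElementary
import Cfsg.Agent.Lib.PGroup.Basic
import Cfsg.Agent.Lib.Core.Basic
import Cfsg.Agent.Lib.Solv.Nilpotent
-- import your own Cfsg.Agent.* helpers here

set_option autoImplicit false
open Cfsg

namespace Cfsg.Agent.S1452

/-- Let p be an odd prime and R a finite p-group containing an elementary abelian subgroup of order p ^ 3. If E is a normal elementary abelian subgroup of R of order p ^ 2, then E ≤ A for some normal subgroup A of R with C_R(A) = A that contains an elementary abelian subgroup of order p ^ 3. -/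
theorem result {R : Type*} [Group R] [Finite R] (p : ℕ) [Fact p.Prime] (hp : p ≠ 2) (hR : IsPGroup p R) (hr : ¬ Cfsg.PRankLE p 2 R)
    (E : Subgroup R) [E.Normal] (hE : Cfsg.IsElementaryAbelian p E) (hE2 : Nat.card E = p ^ 2) :
    ∃ A : Subgroup R, E ≤ A ∧ A.Normal ∧ Subgroup.centralizer (A : Set R) = A ∧ ¬ Cfsg.PRankLE p 2 A := by
  classical
  haveI : Group.IsNilpotent R := hR.isNilpotent
  have hp' : p.Prime := Fact.out
  obtain ⟨W, hW⟩ := Set.Finite.exists_maximal
    (Set.toFinite {K : Subgroup R | K.Normal ∧ Cfsg.IsElementaryAbelian p K ∧ E ≤ K})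
    ⟨E, inferInstance, hE, le_rfl⟩
  obtain ⟨hWn, hWe, hEW⟩ := hW.1
  haveI := hWn
  have hW3 : p ^ 2 < Nat.card W := by
    by_contra hlt
    have hWE : W = E := (Subgroup.eq_of_le_of_card_ge hEW (by rw [hE2]; omega)).symm
    subst hWE
    obtain ⟨B, hBc, hBp, hB⟩ : ∃ B : Subgroup R, IsMulCommutative B ∧ (∀ a ∈ B, a ^ p = 1) ∧
        p ^ 2 < Nat.card B := by
      by_contra hno
      refine hr fun B hc he => not_lt.mp fun hlt => hno ⟨B, hc, he, hlt⟩
    have hmem : ∀ x : R, x ^ p = 1 → x ∈ Subgroup.centralizer (W : Set R) → x ∈ W := fun x hx hxC =>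
      Cfsg.Lib.PGroup.OddNormalElementary.mem_of_centralizes hp hR W hWe
        (fun K hK hKe hle => le_antisymm (hW.2 ⟨hK, hKe, hle⟩ hle) hle) hx hxC
    have hne : W ≠ ⊥ := fun h => by
      rw [h, Subgroup.card_bot] at hE2
      exact absurd hE2 (Nat.ne_of_lt (Nat.one_lt_pow two_ne_zero hp'.one_lt))
    obtain ⟨z, hzW, hzc, hzo⟩ := Cfsg.Lib.PGroup.exists_mem_center_orderOf_eq hR hne
    obtain ⟨e, heW, hez⟩ : ∃ e ∈ W, e ∉ Subgroup.zpowers z := by
      by_contra hc
      simp only [not_exists, not_and, not_not] at hc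
      have := Subgroup.card_le_of_le hc
      rw [hE2, Nat.card_zpowers, hzo] at this
      exact absurd this (not_le.2 (lt_self_pow₀ hp'.one_lt one_lt_two))
    have hC : Subgroup.centralizer ({e} : Set R) ≤ Subgroup.centralizer (W : Set R) := by
      intro g hg
      have hle : W ≤ Subgroup.centralizer ({g} : Set R) := by
        set K := W ⊓ Subgroup.centralizer ({g} : Set R)
        have heK : e ∈ K := ⟨heW, Subgroup.mem_centralizer_singleton_iff.mpr
          (Subgroup.mem_centralizer_singleton_iff.mp hg).symm⟩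
        have hzK : Subgroup.zpowers z < K := lt_of_le_of_ne (Subgroup.zpowers_le.mpr
          ⟨hzW, Subgroup.mem_centralizer_singleton_iff.mpr (Subgroup.mem_center_iff.mp hzc g).symm⟩)
          fun h => hez (h ▸ heK)
        obtain ⟨k, hk, hkc⟩ := (Nat.dvd_prime_pow hp').mp (hE2 ▸ Subgroup.card_dvd_of_le (inf_le_left : K ≤ W))
        have hlt' : p < Nat.card K := by
          rw [← hzo, ← Nat.card_zpowers]
          exact lt_of_le_of_ne (Subgroup.card_le_of_le hzK.le) fun h =>
            hzK.ne (Subgroup.eq_of_le_of_card_ge hzK.le h.ge)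
        have hk2 : k = 2 := by
          rw [hkc] at hlt'
          have := hp'.two_le
          interval_cases k
          · rw [pow_zero] at hlt'; omega
          · rw [pow_one] at hlt'; omega
          · rfl
        exact (Subgroup.eq_of_le_of_card_ge inf_le_left (by rw [hkc, hk2, hE2] : Nat.card W ≤ Nat.card K)).ge.trans
          inf_le_right
      exact Subgroup.mem_centralizer_iff.mpr fun w hw =>
        Subgroup.mem_centralizer_singleton_iff.mp (hle hw)
    -- the index of the centralizer is at most `p`
    have hidx : (Subgroup.centralizer ({e} : Set R)).index ≤ p := by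
      obtain ⟨k, hk⟩ := hR.index (Subgroup.centralizer ({e} : Set R))
      let f : R ⧸ Subgroup.centralizer ({e} : Set R) → W := Quotient.lift
        (fun g : R => (⟨g * e * g⁻¹, hWn.conj_mem e heW g⟩ : W)) (fun a b hab => by
          have h := Subgroup.mem_centralizer_singleton_iff.mp (QuotientGroup.leftRel_apply.mp hab)
          refine Subtype.ext ?_
          show a * e * a⁻¹ = b * e * b⁻¹
          calc a * e * a⁻¹ = a * (a⁻¹ * b * e * (a⁻¹ * b)⁻¹) * a⁻¹ := by rw [h]; group
            _ = b * e * b⁻¹ := by group)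
      have hinj : Function.Injective f := fun x y => by
        induction x using QuotientGroup.induction_on with
        | H a =>
          induction y using QuotientGroup.induction_on with
          | H b =>
            intro hab
            have h : a * e * a⁻¹ = b * e * b⁻¹ := congrArg Subtype.val hab
            rw [QuotientGroup.eq, Subgroup.mem_centralizer_singleton_iff]
            calc a⁻¹ * b * e = a⁻¹ * (b * e * b⁻¹) * b := by group
              _ = e * (a⁻¹ * b) := by rw [← h]; group
      have hnot : ¬ Function.Surjective f := fun hs => by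
        obtain ⟨x, hx⟩ := hs 1
        induction x using QuotientGroup.induction_on with
        | H a =>
          exact hez ((conj_eq_one_iff.mp (congrArg Subtype.val hx : a * e * a⁻¹ = 1)) ▸ one_mem _)
      have hlt : (Subgroup.centralizer ({e} : Set R)).index < Nat.card W :=
        lt_of_le_of_ne (Nat.card_le_card_of_injective f hinj) fun h =>
          hnot (((Nat.bijective_iff_injective_and_card f).mpr ⟨hinj, h⟩).2)
      rw [hk, hE2] at hlt
      rw [hk]
      have := (Nat.pow_lt_pow_iff_right hp'.one_lt).mp hlt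
      calc p ^ k ≤ p ^ 1 := Nat.pow_le_pow_right hp'.pos (by omega)
        _ = p := pow_one p
    set K := B ⊓ Subgroup.centralizer ({e} : Set R)
    have hKW : K ≤ W := fun x hx => hmem x (hBp x hx.1) (hC hx.2)
    have h1 : Nat.card B ≤ Nat.card K * p := by
      rw [← Cfsg.Lib.Core.card_mul_relIndex (H := K) (K := B) inf_le_left]
      refine Nat.mul_le_mul_left _ (le_trans ?_ hidx)
      rw [show K.relIndex B = (Subgroup.centralizer ({e} : Set R)).relIndex B from Subgroup.inf_relIndex_left _ _]
      rw [← Subgroup.relIndex_top_right]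
      exact Subgroup.relIndex_le_of_le_right le_top (by rw [Subgroup.relIndex_top_right]; exact Subgroup.index_ne_zero_of_finite)
    have hKp : p < Nat.card K := by
      by_contra hle
      have h2 := Nat.mul_le_mul_right p (not_lt.mp hle)
      rw [← sq] at h2
      omega
    obtain ⟨k, hk, hkc⟩ := (Nat.dvd_prime_pow hp').mp (hE2 ▸ Subgroup.card_dvd_of_le hKW)
    have hk2 : k = 2 := by
      rw [hkc] at hKp
      have := hp'.two_le
      interval_cases k
      · rw [pow_zero] at hKp; omega
      · rw [pow_one] at hKp; omega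
      · rfl
    have hKeq : K = W := Subgroup.eq_of_le_of_card_ge hKW (by rw [hkc, hk2, hE2])
    have hWB : W ≤ B := hKeq.ge.trans inf_le_left
    have hBW : B ≤ W := fun b hb => hmem b (hBp b hb) (Subgroup.mem_centralizer_iff.mpr fun w hw =>
      congrArg Subtype.val (hBc.is_comm.comm ⟨w, hWB hw⟩ ⟨b, hb⟩))
    have := Subgroup.card_le_of_le hBW
    omega
  obtain ⟨A, hA⟩ := Set.Finite.exists_maximal
    (Set.toFinite {K : Subgroup R | K.Normal ∧ IsMulCommutative K ∧ W ≤ K})
    ⟨W, inferInstance, hWe.1, le_rfl⟩
  obtain ⟨hAn, hAc, hWA⟩ := hA.1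
  haveI := hAn
  haveI := hAc
  refine ⟨A, hEW.trans hWA, hAn, Cfsg.Lib.Solv.centralizer_eq_of_maximal_abelian_normal A
    (fun M hM hMc hle => le_antisymm (hA.2 ⟨hM, hMc, hWA.trans hle⟩ hle) hle), fun h => ?_⟩
  have := h (W.subgroupOf A) inferInstance (fun a ha => Subtype.ext (hWe.2 _ ha))
  rw [Nat.card_congr (Subgroup.subgroupOfEquivOfLe hWA).toEquiv] at this
  omega

end Cfsg.Agent.S1452
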