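import Cfsg.Statements.S1457
import Cfsg.Agent.Lib.Local.OddStability
-- import your own Cfsg.Agent.* helpers here

set_option autoImplicit false
open Cfsg

namespace Cfsg.Agent.S1457

/-- Let G be a solvable group of odd order, p a prime, S a Sylow p-subgroup of G and A an abelian subgroup of S normal in S. Then A ≤ O_{p',p}(G). -/
theorem result {G : Type*} [Group G] [Finite G] [Group.IsSolvable G] (hodd : Odd (Nat.card G)) (p : ℕ) [Fact p.Prime] (S : Sylow p G) (A : Subgroup G) (hA : A ≤ (S : Subgroup G)) (hAc : IsMulCommutative A)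
    (hAn : (S : Subgroup G) ≤ Subgroup.normalizer (A : Set G)) :
    A ≤ Cfsg.pPrimePCore p G := by
  have hAp : IsPGroup p A := S.isPGroup'.to_le hA
  by_cases h2 : p = 2
  · rw [Cfsg.Lib.Local.OddStability.eq_bot_of_two hodd h2 hAp]; exact bot_le
  set M := Cfsg.pPrimeCore p G with hM
  set q := QuotientGroup.mk' M with hq
  have hqs : Function.Surjective q := QuotientGroup.mk'_surjective M
  have hodd' : Odd (Nat.card (G ⧸ M)) := by
    have h := M.index_mul_card
    rw [← h] at hodd
    exact (Nat.odd_mul.mp hodd).1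
  haveI : Group.IsSolvable (G ⧸ M) := Group.isSolvable_of_surjective hqs
  let T := S.mapSurjective hqs
  have hT : (T : Subgroup (G ⧸ M)) = (S : Subgroup G).map q := rfl
  have hcore : Cfsg.pCore p (G ⧸ M) ≤ (T : Subgroup (G ⧸ M)) := by
    exact sSup_le fun N hN => by
      haveI := hN.1
      exact le_sup_right.trans (T.is_maximal' (T.isPGroup'.to_sup_of_normal_right hN.2) le_sup_left).le
  show A ≤ (Cfsg.pCore p (G ⧸ M)).comap q
  rw [← Subgroup.map_le_iff_le_comap]
  refine Cfsg.Lib.Local.OddStability.le_pCore_of_abelian hodd' h2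
    (Cfsg.Lib.Core.pPrimeCore_quotient_eq_bot (p := p) (G := G)) (Cfsg.pCore p (G ⧸ M))
    (Cfsg.Lib.Core.pCore_isPGroup p _) inf_le_left ?_ (hAp.map q) ?_
  · exact Subgroup.map_isMulCommutative A q
  · exact hcore.trans (hT ▸ (Subgroup.map_mono hAn).trans (Subgroup.le_normalizer_map q))

end Cfsg.Agent.S1457
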