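import Cfsg.Statements.S2947
import Cfsg.Agent.Lib.Invol.Embedded
import Cfsg.Agent.Lib.Fusion.Alperin
import Cfsg.Agent.Lib.Local.StronglyEmbedded
import Cfsg.Agent.Lib.Invol.Basic
import Cfsg.Agent.Lib.Thompson.Basic
-- import your own Cfsg.Agent.* helpers here

set_option autoImplicit false
open Cfsg

namespace Cfsg.Agent.S2947

/-- Let G be a finite group of characteristic 2 type in which every 2-local subgroup is solvable and the centralizer of Ω₁(Z(S)) lies in N_G(S) for every Sylow 2-subgroup S; suppose O₂(G) = 1, fix a Sylow 2-subgroup S and a 2-local subgroup M containing N_G(J(S)) (J the Thompson subgroup generated by the elementary abelian 2-subgroups of largest order). Then M is strongly embedded in G (a proper subgroup of even order whose intersection with each conjugate by an element outside M has odd order) if and only if no nontrivial 2-subgroup of M lies in a 2-local subgroup of G not contained in M. -/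
theorem result {G : Type*} [Group G] [Finite G] (hL : Cfsg.IsCharacteristicTwoType G) (hN : ∀ N : Subgroup G, Cfsg.IsTwoLocal N → Group.IsSolvable ↥N)
    (hZ : ∀ S : Sylow 2 G, Subgroup.centralizer (Cfsg.omegaCenterOf (S : Subgroup G) : Set G) ≤ Subgroup.normalizer ((S : Subgroup G) : Set G)) (hO : Cfsg.pCore 2 G = ⊥) (S : Sylow 2 G) (M : Subgroup G) (hM : Cfsg.IsTwoLocal M)
    (hMJ : Subgroup.normalizer (Cfsg.thompsonSubgroupOf 2 (S : Subgroup G) : Set G) ≤ M) :
    Cfsg.IsStronglyEmbedded M ↔ Cfsg.straddlingTwoSubgroups M = ∅ := by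
  haveI : Fact (Nat.Prime 2) := ⟨Nat.prime_two⟩
  constructor
  · intro hSE
    refine Set.eq_empty_iff_forall_notMem.mpr ?_
    rintro T ⟨hTp, hT1, hTM, L, ⟨U, hUp, hU1, rfl⟩, hTL, hLM⟩
    have hnorm : ∀ A : Subgroup G, IsPGroup 2 A → A ≠ ⊥ → A ≤ M → Subgroup.normalizer (A : Set G) ≤ M := by
      intro A hA hA1 hAM g hg
      obtain ⟨t, ht, ht2⟩ := Cfsg.Lib.Local.exists_orderOf_prime_mem hA hA1
      exact Cfsg.Lib.Invol.se_mem hSE (hAM ht) ht2 (hAM ((Subgroup.mem_normalizer_iff.mp hg t).mp ht))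
    obtain ⟨R₀, hR₀⟩ := (hTp.comap_subtype (K := Subgroup.normalizer (U : Set G))).exists_le_sylow
    set R := (R₀ : Subgroup (Subgroup.normalizer (U : Set G))).map (Subgroup.normalizer (U : Set G)).subtype with hR
    have hTR : T ≤ R := fun x hx => ⟨⟨x, hTL hx⟩, hR₀ hx, rfl⟩
    have hRM : R ≤ M := by
      by_contra hc
      have hlt : R ⊓ M < R := lt_of_le_of_ne inf_le_left fun e => hc (e ▸ inf_le_right)
      have h1 := Cfsg.Lib.Fusion.lt_inf_normalizer (R₀.isPGroup'.map _) hlt
      have hne : R ⊓ M ≠ ⊥ := fun e => hT1 (le_bot_iff.mp (e ▸ le_inf hTR hTM))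
      exact h1.not_ge (le_inf inf_le_left (inf_le_right.trans
        (hnorm _ ((R₀.isPGroup'.map _).to_le inf_le_left) hne inf_le_right)))
    have hUR : U ≤ R := by
      intro x hx
      haveI : (U.comap (Subgroup.normalizer (U : Set G)).subtype).Normal :=
        (Subgroup.normal_subgroupOf_iff_le_normalizer Subgroup.le_normalizer).mpr le_rfl
      exact ⟨⟨x, Subgroup.le_normalizer hx⟩,
        IsPGroup.le_sylow_of_normal (hUp.comap_subtype (K := Subgroup.normalizer (U : Set G))) R₀ hx, rfl⟩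
    exact hLM (hnorm U hUp hU1 (hUR.trans hRM))
  · intro h
    have hnorm : ∀ A : Subgroup G, IsPGroup 2 A → A ≠ ⊥ → A ≤ M → Subgroup.normalizer (A : Set G) ≤ M := by
      intro A hA hA1 hAM
      by_contra hc
      have : A ∈ Cfsg.straddlingTwoSubgroups M :=
        ⟨hA, hA1, hAM, _, ⟨A, hA, hA1, rfl⟩, Subgroup.le_normalizer, hc⟩
      rw [h] at this
      exact this
    have hSM : (S : Subgroup G) ≤ M := by
      refine le_trans ?_ hMJ
      intro s hs
      have hJ : (Cfsg.thompsonSubgroup 2 (S : Subgroup G)).Normal := inferInstance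
      refine Subgroup.le_normalizer_map _ ⟨⟨s, hs⟩, ?_, rfl⟩
      rw [Subgroup.normalizer_eq_top (Cfsg.thompsonSubgroup 2 (S : Subgroup G))]
      trivial
    obtain ⟨U, hUp, hU1, hMU⟩ := hM
    have hne : M ≠ ⊤ := by
      intro e
      refine hU1 (le_bot_iff.mp (hO ▸ Cfsg.Lib.Core.le_pCore' ?_ hUp))
      exact Subgroup.normalizer_eq_top_iff.mp (hMU.symm.trans e)
    have heven : Even (Nat.card M) := by
      obtain ⟨t, ht, ht2⟩ := Cfsg.Lib.Local.exists_orderOf_prime_mem hUp hU1
      have htM : t ∈ M := hMU ▸ Subgroup.le_normalizer ht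
      exact even_iff_two_dvd.mpr (ht2 ▸ Subgroup.orderOf_dvd_natCard _ htM)
    refine (Cfsg.Lib.Invol.stronglyEmbedded_iff hne heven).mpr fun t ht ht2 g hg => ?_
    have hz2 : ∀ x : G, orderOf x = 2 → x ∈ M → Subgroup.centralizer ({x} : Set G) ≤ M := fun x hx hxM y hy =>
      hnorm (Subgroup.zpowers x) (Cfsg.Lib.Local.isPGroup_zpowers_of_orderOf hx)
        (Cfsg.Lib.Local.zpowers_ne_bot_of_orderOf hx) (Subgroup.zpowers_le.mpr hxM)
        (Subgroup.centralizer_le_normalizer _ (by
          rw [Subgroup.mem_centralizer_iff]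
          rintro z hz
          obtain ⟨k, rfl⟩ := Subgroup.mem_zpowers_iff.mp hz
          exact ((show Commute x y from (Subgroup.mem_centralizer_singleton_iff.mp hy).symm).zpow_left k).eq))
    -- a Sylow subgroup of `M` at `t`
    obtain ⟨Q, hQ⟩ := ((Cfsg.Lib.Local.isPGroup_zpowers_of_orderOf ht2).comap_subtype
      (K := M)).exists_le_sylow
    obtain ⟨m, hm⟩ := MulAction.exists_smul_eq M (S.subtype hSM) Q
    rw [Sylow.smul_subtype] at hm
    set R := ((m : G) • S : Sylow 2 G) with hR
    have htR : t ∈ (R : Subgroup G) := by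
      have := hQ (show (⟨t, ht⟩ : M) ∈ (Subgroup.zpowers t).comap M.subtype from Subgroup.mem_zpowers t)
      rw [← hm] at this
      exact this
    have hRM : (R : Subgroup G) ≤ M := Sylow.smul_le hSM m
    haveI : Nontrivial (R : Subgroup G) := ⟨⟨t, htR⟩, 1, fun e => by
      rw [show t = 1 from congrArg Subtype.val e, orderOf_one] at ht2
      omega⟩
    haveI := R.isPGroup'.center_nontrivial
    obtain ⟨z₀, hz₀, hz₀2⟩ := Cfsg.Lib.Local.exists_orderOf_prime_mem
      ((R.isPGroup'.to_subgroup (Subgroup.center (R : Subgroup G))))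
      ((Subgroup.nontrivial_iff_ne_bot _).mp inferInstance)
    set z : G := (z₀ : G) with hz
    have hzo : orderOf z = 2 := by rw [hz, Subgroup.orderOf_coe, hz₀2]
    have hzR : ∀ r ∈ (R : Subgroup G), r * z = z * r := fun r hr =>
      congrArg Subtype.val (Subgroup.mem_center_iff.mp hz₀ ⟨r, hr⟩)
    have hgz : g * z * g⁻¹ ∈ M := hz2 _ (by rw [Cfsg.Lib.Invol.orderOf_conj_eq, ht2]) hg
      (Subgroup.mem_centralizer_singleton_iff.mpr (by rw [conj_mul, conj_mul, hzR t htR]))
    have hgR : ((g • R : Sylow 2 G) : Subgroup G) ≤ M := by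
      rintro _ ⟨r, hr, rfl⟩
      refine hz2 _ (by rw [Cfsg.Lib.Invol.orderOf_conj_eq, hzo]) hgz
        (Subgroup.mem_centralizer_singleton_iff.mpr ?_)
      show g * r * g⁻¹ * (g * z * g⁻¹) = g * z * g⁻¹ * (g * r * g⁻¹)
      rw [conj_mul, conj_mul, hzR r hr]
    obtain ⟨k, hk⟩ := MulAction.exists_smul_eq M ((g • R).subtype hgR) (R.subtype hRM)
    rw [Sylow.smul_subtype] at hk
    have hk' := Sylow.subtype_injective hk
    have hkg : (k : G) * g ∈ M := by
      refine hnorm _ R.isPGroup' ((Subgroup.nontrivial_iff_ne_bot _).mp inferInstance) hRM ?_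
      exact Sylow.smul_eq_iff_mem_normalizer.mp ((mul_smul (k : G) g R).trans hk')
    simpa using mul_mem (inv_mem k.2) hkg

end Cfsg.Agent.S2947
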