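import Cfsg.Statements.S0518
import Cfsg.Agent.S2947
import Cfsg.Agent.Lib.Local.ZN.Shape
import Cfsg.Agent.Lib.Local.ZN.Exists
-- import your own Cfsg.Agent.* helpers here

set_option autoImplicit false
open Cfsg

namespace Cfsg.Agent.S0518

/-- Let G be a finite group of characteristic 2 type with trivial 2-core in which every 2-local subgroup is solvable
and, for every Sylow 2-subgroup S, the centralizer of the set of central involutions of S lies in the normalizer of S.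
Then either G has a strongly embedded subgroup, or the subgroup generated by the elements of odd order has two distinct
maximal 2-local subgroups, each isomorphic to the symmetric group of degree 4, whose intersection has order 8. -/
theorem result {G : Type*} [Group G] [Finite G]
    (hL : Cfsg.IsCharacteristicTwoType G) (hO : Cfsg.pCore 2 G = ⊥)
    (hN : ∀ N : Subgroup G, Cfsg.IsTwoLocal N → Group.IsSolvable N)
    (hZ : ∀ S : Sylow 2 G,
      Subgroup.centralizer {z : G | z ∈ (S : Subgroup G) ∧ z ^ 2 = 1 ∧ ∀ s ∈ (S : Subgroup G), s * z = z * s} ≤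
        Subgroup.normalizer ((S : Subgroup G) : Set G))
    (H : Subgroup G) (hH : H = Subgroup.closure {g : G | Odd (orderOf g)}) :
    (∃ K : Subgroup G, Cfsg.IsStronglyEmbedded K) ∨
      ∃ M₁ M₂ : Subgroup H, M₁ ≠ M₂ ∧ Cfsg.IsMaximalTwoLocal M₁ ∧ Cfsg.IsMaximalTwoLocal M₂ ∧
        Nonempty (M₁ ≃* Equiv.Perm (Fin 4)) ∧ Nonempty (M₂ ≃* Equiv.Perm (Fin 4)) ∧ Nat.card ↥(M₁ ⊓ M₂) = 8 := by
  haveI : Fact (Nat.Prime 2) := ⟨Nat.prime_two⟩
  have hN' : ∀ N : Subgroup G, Cfsg.IsTwoLocal N → Group.IsSolvable ↥N := hN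
  have hZ' : ∀ S : Sylow 2 G, Subgroup.centralizer (Cfsg.omegaCenterOf (S : Subgroup G) : Set G) ≤
      Subgroup.normalizer ((S : Subgroup G) : Set G) := fun S x hx => hZ S
    (Subgroup.mem_centralizer_iff.2 fun z hz => Subgroup.mem_centralizer_iff.1 hx z
      (Subgroup.subset_closure ⟨⟨hz.1, Subgroup.mem_centralizer_iff.2 hz.2.2⟩, by simpa using hz.2.1⟩))
  obtain ⟨S⟩ : Nonempty (Sylow 2 G) := inferInstance
  have hS : (S : Subgroup G) ≠ ⊥ := S.ne_bot_of_dvd_card (even_iff_two_dvd.1 hL.1)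
  set M := Subgroup.normalizer (Cfsg.thompsonSubgroupOf 2 (S : Subgroup G) : Set G) with hM
  have hMl : Cfsg.IsTwoLocal M := ⟨_, S.isPGroup'.to_le (Subgroup.map_subtype_le _),
    Cfsg.Lib.Thompson.thompsonSubgroupOf_ne_bot S.isPGroup' hS, hM⟩
  by_cases hemp : Cfsg.straddlingTwoSubgroups M = ∅
  · exact Or.inl ⟨M, (Cfsg.Agent.S2947.result hL hN' hZ' hO S M hMl le_rfl).2 hemp⟩
  obtain ⟨T, hT⟩ := Cfsg.Lib.Local.JComp.exists_maxStraddling hemp
  obtain ⟨K, L, K₂, L₂, k⟩ := Cfsg.Lib.Local.ZN.exists_linked hL hN' hZ' hO S M le_rfl T hT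
  subst hH
  obtain ⟨e₁⟩ := Cfsg.Lib.Local.ZN.inf_iso k
  obtain ⟨e₂⟩ := Cfsg.Lib.Local.ZN.inf_iso k.symm
  refine Or.inr ⟨_, _, ?_, Cfsg.Lib.Local.ZN.inf_maximal k rfl, Cfsg.Lib.Local.ZN.inf_maximal k.symm rfl,
    ⟨(Subgroup.subgroupOfEquivOfLe inf_le_right).trans e₁⟩,
    ⟨(Subgroup.subgroupOfEquivOfLe inf_le_right).trans e₂⟩, ?_⟩
  · intro h
    have h' := congrArg (Subgroup.map (Cfsg.Lib.Local.ZN.oddGen G).subtype) h
    rw [Subgroup.map_subgroupOf_eq_of_le inf_le_right, Subgroup.map_subgroupOf_eq_of_le inf_le_right] at h'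
    exact k.out (((le_inf k.right.le (Cfsg.Lib.Local.ZN.comp_le_oddGen k.right.comp)).trans h'.ge).trans
      inf_le_left)
  · rw [show ∀ A B C : Subgroup G, A.subgroupOf C ⊓ B.subgroupOf C = (A ⊓ B).subgroupOf C from fun _ _ _ => rfl, Nat.card_congr (Subgroup.subgroupOfEquivOfLe
      (inf_le_left.trans inf_le_right)).toEquiv]
    exact Cfsg.Lib.Local.ZN.inf_card k

end Cfsg.Agent.S0518
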