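import Cfsg.Statements.S0404
import Cfsg.Agent.Lib.Concrete.LeechSimpleGroups

set_option autoImplicit false
open Cfsg

namespace Cfsg.Agent.S0404

/-- Joint stabiliser of two minimal vectors with coordinate dot product −8 is simple of order 898128000. -/
theorem result (v w : Cfsg.leechLattice) (hv : Cfsg.sqNorm (v : Cfsg.GolayPt → ℤ) = 32) (hw : Cfsg.sqNorm (w : Cfsg.GolayPt → ℤ) = 32) (hvw : Cfsg.dotInt (v : Cfsg.GolayPt → ℤ) (w : Cfsg.GolayPt → ℤ) = -8) : Cfsg.IsMcL ↥(MulAction.stabilizer Cfsg.Co0 v ⊓ MulAction.stabilizer Cfsg.Co0 w) := by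
  obtain ⟨g, hg⟩ := Cfsg.Lib.Concrete.exists_smul_eq_of_moves
    (Cfsg.Lib.Concrete.moves32 Cfsg.Spor.leechU.2 Cfsg.Lib.Concrete.leechU_norm') (Cfsg.Lib.Concrete.moves32 v.2 hv)
  have hd : Cfsg.dotInt (v : Cfsg.GolayPt → ℤ) ((g • Cfsg.Lib.Concrete.threeL : Cfsg.leechLattice) : Cfsg.GolayPt → ℤ) = -8 := by
    rw [← hg, Cfsg.Lib.Concrete.co0_dot, Cfsg.Lib.Concrete.mcl_dot]
  obtain ⟨k, k1, k2⟩ := Cfsg.Agent.S1575.result v (g • Cfsg.Lib.Concrete.threeL) w hv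
    ((Cfsg.Lib.Concrete.co0_sqNorm g _).trans Cfsg.Lib.Concrete.threeL_norm) hw hd hvw
  obtain ⟨hs, hc⟩ := Cfsg.Lib.Concrete.isMcL_three
  have he := Cfsg.Lib.Concrete.stab_inf_map (k * g) Cfsg.Spor.leechU Cfsg.Lib.Concrete.threeL
  rw [mul_smul, mul_smul, hg, k1, k2] at he
  exact ⟨(MulEquiv.subgroupCongr he).isSimpleGroup_congr.1
      (((MulAction.stabilizer Cfsg.Co0 Cfsg.Spor.leechU ⊓ MulAction.stabilizer Cfsg.Co0 Cfsg.Lib.Concrete.threeL).equivMapOfInjective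
        _ (MulAut.conj (k * g)).injective).isSimpleGroup_congr.1 hs),
    by rw [← he, Subgroup.card_map_of_injective (MulAut.conj (k * g)).injective]; exact hc⟩

end Cfsg.Agent.S0404
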