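import Cfsg.Statements.S2100
import Cfsg.Agent.Lib.Chev.StPairAll
-- import your own Cfsg.Agent.* helpers here

set_option autoImplicit false
open Cfsg

namespace Cfsg.Agent.S2100

/-- Schur multipliers of the Chevalley groups of type G₂: over a field with q ≥ 5 elements the Schur multiplier of G₂(q) is trivial (here the Schur multiplier is described through stem extensions, as in the definitions); the cases q = 3 and q = 4 are exceptional and q = 2 gives a non-simple group. -/
theorem result {F : Type*} [Field F] [Fintype F] (hF : 5 ≤ Fintype.card F) : Cfsg.HasCyclicSchurMultiplier ↥(Cfsg.Lie.chevG2.group F) 1 := by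
  open Cfsg.Lib.Chev Cfsg.Lie in
  exact (by
    have hs := finset_of_card hF
    obtain ⟨v, hv0, hv⟩ := exists_good_v hs
    refine multiplier_trivial_of_family fullCertG2.comm.cert fullCertG2
      (hasNbr_of_chk fullCertG2.comm.cert nbrChk_G2) (M := [[2, 1], [3, 2]]) (by decide +kernel)
      (steinbergCover_perfect (by simp) fun _ => cover_nontrivial_hyp hs) fun X _ P _ => ?_
    exact P.exists_family fullCertG2 hs chkMult_G2
      (fun r hr => pairAt_of_chk fullCertG2.comm.cert chkPairs_G2 r hr r.zero_le (by rw [zero_add]; exact hr)) hv0 hv)

end Cfsg.Agent.S2100
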