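import Cfsg.Statements.S0981
import Cfsg.Agent.Lib.Small.BlockOrders
import Cfsg.Agent.Lib.Block.Defect
import Cfsg.Agent.Lib.Char.Galois
import Cfsg.Agent.Lib.Dickson.PSLTwo
import Cfsg.Agent.Lib.Linear.SLBasic
import Cfsg.Agent.S0727
import Mathlib.NumberTheory.Divisors
-- import your own Cfsg.Agent.* helpers here

set_option autoImplicit false
open Cfsg

namespace Cfsg.Agent.S0981

open Cfsg.Lib.Small
open scoped ComplexConjugate
open Cfsg.Lib

universe u

variable {G : Type u} [Group G] [Fintype G]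

theorem decide_deg : ∀ d ∈ Nat.divisors 240, ∀ f ∈ Nat.divisors 240,
    ((d % 17 = 1 ∧ f = d + 1) ∨ ((d + 1) % 17 = 0 ∧ f + 1 = d)) →
    1 + d ^ 2 + 8 * f ^ 2 ≤ 4080 → 2 ≤ d → d = 16 ∧ f = 15 := by decide +kernel

theorem decide_n : ∀ n ∈ Nat.divisors 240, n % 17 = 1 → n ≠ 1 → n = 120 := by decide +kernel

theorem decide_c : ∀ c ∈ Nat.divisors 4080, 16 ∣ c → ¬ 3 ∣ c → ¬ 5 ∣ c → ¬ 17 ∣ c → c = 16 := by
  decide +kernel

/-- The data read off from the principal block at `17`. -/
theorem steinberg [IsSimpleGroup G] (h : Nat.card G = 4080) :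
    (∀ P : Sylow 17 G, Nat.card (Subgroup.centralizer ((P : Subgroup G) : Set G)) = 17) ∧
    Nat.card (Sylow 17 G) = 120 ∧
    ∃ χ : IrrCharacter G, (χ : G → ℂ) 1 = 16 ∧ (∀ g, 2 ∣ orderOf g → (χ : G → ℂ) g = 0) ∧
      (∀ g, orderOf g = 17 → (χ : G → ℂ) g = -1) := by
  classical
  haveI : Fact (Nat.Prime 17) := ⟨by norm_num⟩
  haveI : Fact (Nat.Prime 2) := ⟨Nat.prime_two⟩
  have hm : Nat.card G = 17 * 240 := by rw [h]
  have hnc : ¬ IsCyclic G := not_isCyclic_of_card (by rw [h]; norm_num)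
  obtain ⟨P, e, c, n, ⟨S⟩, hC, hnec, hn, hn1, he2, hed, hnS⟩ :=
    block_setup (G := G) (p := 17) (by norm_num) hm (by norm_num) (by norm_num)
  have hn120 : n = 120 :=
    decide_n n (Nat.mem_divisors.2 ⟨⟨e * c, by rw [← hnec]; ring⟩, by norm_num⟩) hn hn1
  subst hn120
  have hec : e * c = 2 := by nlinarith
  obtain ⟨rfl, rfl⟩ : e = 2 ∧ c = 1 := by
    have : e ∣ 2 := ⟨c, hec.symm⟩
    have := Nat.le_of_dvd two_pos this
    obtain rfl : e = 2 := by omega
    omega
  rw [mul_one] at hC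
  refine ⟨fun Q => ?_, hnS.symm, ?_⟩
  · obtain ⟨g, rfl⟩ := MulAction.exists_smul_eq G P Q
    refine Eq.trans ?_ hC
    refine Nat.card_congr ((MulAut.conj g).toEquiv.subtypeEquiv fun x => ?_).symm
    rw [Sylow.coe_subgroup_smul]
    simp only [Subgroup.mem_centralizer_iff]
    constructor
    · rintro hx _ ⟨y, hy, rfl⟩
      show MulAut.conj g y * MulAut.conj g x = MulAut.conj g x * MulAut.conj g y
      rw [← map_mul, ← map_mul, hx y hy]
    · intro hx y hy
      have h1 := hx (MulAut.conj g y) ⟨y, hy, rfl⟩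
      change MulAut.conj g y * MulAut.conj g x = MulAut.conj g x * MulAut.conj g y at h1
      rw [← map_mul, ← map_mul] at h1
      exact (MulAut.conj g).injective h1
  obtain ⟨χ, hχX, hne, -, -, hθ1, hd2, -, hdm, hfm, hor, hsum⟩ :=
    S.two_cases hnc hm rfl (by norm_num)
  obtain ⟨hd, hf⟩ := decide_deg _ (Nat.mem_divisors.2 ⟨hdm, by norm_num⟩) _
    (Nat.mem_divisors.2 ⟨hfm, by norm_num⟩) (hor.imp (fun h => ⟨h.2.2.1, h.2.2.2⟩)
      (fun h => ⟨h.2.2.1, h.2.2.2⟩)) (by rw [h] at hsum; exact hsum) hd2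
  have hσ : S.σ χ = -1 := by
    rcases hor with h' | h'
    · exfalso; have := h'.2.2.1; rw [hd] at this; norm_num at this
    · exact h'.1
  refine ⟨χ, by rw [Block.apply_one_eq_charDegree χ, hd]; norm_num, fun g hg => ?_, fun g hg => ?_⟩
  · obtain ⟨M, hM⟩ := Block.exists_isPModular Nat.prime_two
    have hfull : (Nat.card G).factorization 2 ≤ (charDegree (χ : G → ℂ)).factorization 2 := by
      have e1 : (16 : ℕ).factorization 2 = 4 := by
        rw [show (16 : ℕ) = 2 ^ 4 by norm_num, Nat.Prime.factorization_pow Nat.prime_two, Finsupp.single_eq_same]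
      have e2 : (255 : ℕ).factorization 2 = 0 := Nat.factorization_eq_zero_of_not_dvd (by norm_num)
      rw [hd, h, show (4080 : ℕ) = 16 * 255 by norm_num, Nat.factorization_mul (by norm_num) (by norm_num),
        Finsupp.add_apply, e1, e2]
    have hone : ¬ 2 ∣ orderOf (1 : G) := by rw [orderOf_one]; norm_num
    have h4 := Block.sum_block_mul_conj_eq_zero hM
      (Block.vInt_indVec hM (Block.isPBlock_blockOf (M := M) χ)) (g := 1) (h := g)
      (Block.not_isConj_pPt_of_dvd hone hg)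
    rw [Block.blockOf_eq_singleton_of_full hM χ hfull, finsum_mem_singleton, mul_eq_zero] at h4
    simpa using h4.resolve_left χ.2.apply_one_ne_zero
  · obtain ⟨Q, hQ⟩ := exists_sylow_eq_zpowers (p := 17) (fun Q => by
      rw [card_sylow 1 240 (by rw [h]; norm_num) (by norm_num) Q, pow_one]) hg
    obtain ⟨a, rfl⟩ := MulAction.exists_smul_eq G P Q
    have hgQ : g ∈ ((a • P : Sylow 17 G) : Subgroup G) := by
      rw [hQ]; exact Subgroup.mem_zpowers g
    rw [Sylow.coe_subgroup_smul] at hgQ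
    obtain ⟨x, hx, rfl⟩ := hgQ
    have hx1 : x ≠ 1 := fun e => by
      rw [e] at hg; simp at hg
    have h1 := S.val χ hχX x hx hx1 1 (Subgroup.one_mem _) (by rw [orderOf_one]; norm_num)
    rw [mul_one, hσ] at h1
    show (χ : G → ℂ) (a * x * a⁻¹) = -1
    rw [χ.2.isClassFunction x a, h1]
    norm_num

theorem card_seventeen (h : Nat.card G = 4080) (hn : Nat.card (Sylow 17 G) = 120) :
    (Finset.univ.filter fun g : G => orderOf g = 17).card = 1920 := by
  haveI : Fact (Nat.Prime 17) := ⟨by norm_num⟩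
  have := card_orderOf_eq (G := G) (p := 17) (fun Q => by
    rw [card_sylow 1 240 (by rw [h]; norm_num) (by norm_num) Q, pow_one])
  rw [hn] at this
  rw [← Fintype.card_subtype, ← Nat.card_eq_fintype_card]
  exact this

/-- The character of degree sixteen takes only the values `0` and `1` away from `1` and the elements
of order seventeen, and has exactly `255` zeros. -/
theorem zeros [DecidableEq G] (h : Nat.card G = 4080) (h17 : (Finset.univ.filter fun g : G => orderOf g = 17).card = 1920)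
    (χ : IrrCharacter G) (h1 : (χ : G → ℂ) 1 = 16) (hx : ∀ g, orderOf g = 17 → (χ : G → ℂ) g = -1) :
    ∃ T : Finset G, T.card = 2159 ∧ (∀ g, g ∈ T ↔ g ≠ 1 ∧ orderOf g ≠ 17) ∧
      (∀ g ∈ T, (χ : G → ℂ) g = 0 ∨ (χ : G → ℂ) g = 1) ∧
      (∀ g, ∀ k : ℕ, k.Coprime (Nat.card G) → (χ : G → ℂ) (g ^ k) = (χ : G → ℂ) g) ∧
      (T.filter fun g => (χ : G → ℂ) g = 0).card = 255 := by
  classical
  set A := Finset.univ.filter fun g : G => orderOf g = 17 with hA
  have h1A : (1 : G) ∉ A := by simp [hA]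
  set T := Finset.univ \ insert 1 A with hT
  have hTc : T.card = 2159 := by
    rw [hT, Finset.card_sdiff_of_subset (Finset.subset_univ _), Finset.card_univ,
      ← Nat.card_eq_fintype_card, h, Finset.card_insert_of_notMem h1A, h17]
  have hTm : ∀ g, g ∈ T ↔ g ≠ 1 ∧ orderOf g ≠ 17 := fun g => by
    simp [hT, hA, not_or]
  have hsum : ∀ F : G → ℂ, ∑ g, F g = F 1 + ∑ g ∈ A, F g + ∑ g ∈ T, F g := fun F => by
    rw [← Finset.sum_insert h1A, hT, add_comm, Finset.sum_sdiff (Finset.subset_univ _)]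
  -- twisting by powers prime to the order fixes the character
  have htw : ∀ g, ∀ k : ℕ, k.Coprime (Nat.card G) → (χ : G → ℂ) (g ^ k) = (χ : G → ℂ) g := by
    intro g k hk
    by_contra hne
    have hirr := Char.isIrrCharacter_comp_pow hk χ.2
    have h0 := Char.classInner_irr_ne hirr χ.2 (fun e => hne (congrFun e g))
    have hAk : ∀ y ∈ A, (χ : G → ℂ) (y ^ k) = -1 := fun y hy => by
      refine hx _ ?_
      rw [Nat.Coprime.orderOf_pow, (Finset.mem_filter.1 hy).2]
      exact (hk.coprime_dvd_right (orderOf_dvd_natCard y)).symm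
    have hself := Char.classInner_irr_self χ.2
    have hselfk := Char.classInner_irr_self hirr
    simp only [classInner, h, hsum] at h0 hself hselfk
    rw [one_pow, h1, Finset.sum_congr rfl fun y hy => by rw [hAk y hy, hx y (Finset.mem_filter.1 hy).2]] at h0
    rw [h1, Finset.sum_congr rfl fun y hy => by rw [hx y (Finset.mem_filter.1 hy).2]] at hself
    rw [one_pow, h1, Finset.sum_congr rfl fun y hy => by rw [hAk y hy]] at hselfk
    simp only [Finset.sum_const, h17, nsmul_eq_mul, map_neg, map_one, map_ofNat] at h0 hself hselfk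
    norm_num at h0 hself hselfk
    have a1 : ∑ y ∈ T, (χ : G → ℂ) (y ^ k) * conj ((χ : G → ℂ) y) = -2176 := by linear_combination h0
    have a2 : ∑ y ∈ T, (χ : G → ℂ) y * conj ((χ : G → ℂ) y) = 1904 := by linear_combination 4080 * hself
    have a3 : ∑ y ∈ T, (χ : G → ℂ) (y ^ k) * conj ((χ : G → ℂ) (y ^ k)) = 1904 := by
      linear_combination 4080 * hselfk
    have h5 : (0 : ℝ) ≤ ∑ y ∈ T, Complex.normSq ((χ : G → ℂ) (y ^ k) + (χ : G → ℂ) y) :=
      Finset.sum_nonneg fun y _ => Complex.normSq_nonneg _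
    have a4 : ∑ y ∈ T, conj ((χ : G → ℂ) (y ^ k)) * (χ : G → ℂ) y = -2176 := by
      have := congrArg conj a1
      rw [map_sum, map_neg, map_ofNat] at this
      rw [← this]
      exact Finset.sum_congr rfl fun y _ => by rw [map_mul, Complex.conj_conj]
    have h6 : ((∑ y ∈ T, Complex.normSq ((χ : G → ℂ) (y ^ k) + (χ : G → ℂ) y) : ℝ) : ℂ) = -544 := by
      push_cast
      rw [Finset.sum_congr rfl fun y _ => show
        (Complex.normSq ((χ : G → ℂ) (y ^ k) + (χ : G → ℂ) y) : ℂ) =
          (χ : G → ℂ) (y ^ k) * conj ((χ : G → ℂ) (y ^ k)) + (χ : G → ℂ) y * conj ((χ : G → ℂ) y) +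
          ((χ : G → ℂ) (y ^ k) * conj ((χ : G → ℂ) y) + conj ((χ : G → ℂ) (y ^ k)) * (χ : G → ℂ) y) by
        rw [← Complex.mul_conj, map_add]; ring,
        Finset.sum_add_distrib, Finset.sum_add_distrib, Finset.sum_add_distrib, a1, a2, a3, a4]
      norm_num
    have h7 : (∑ y ∈ T, Complex.normSq ((χ : G → ℂ) (y ^ k) + (χ : G → ℂ) y) : ℝ) = -544 := by
      exact_mod_cast h6
    linarith
  choose v hv using fun g => Char.exists_int_of_pow_invariant χ.2.isCharacter g (htw g)
  have hself := Char.classInner_irr_self χ.2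
  have hone : classInner (χ : G → ℂ) (fun _ => 1) = 0 := by
    refine Char.classInner_irr_ne χ.2 (Block.trivChar G).2 fun e => ?_
    have := congrFun e 1
    rw [h1] at this
    simp [Block.trivChar] at this
  rw [Char.classInner_one_right] at hone
  simp only [classInner, h, hsum] at hself hone
  rw [h1, Finset.sum_congr rfl fun y hy => hx y (Finset.mem_filter.1 hy).2] at hone
  rw [h1, Finset.sum_congr rfl fun y hy => by rw [hx y (Finset.mem_filter.1 hy).2]] at hself
  simp only [Finset.sum_const, h17, nsmul_eq_mul, map_neg, map_one, map_ofNat, mul_neg, mul_one, neg_neg] at hself hone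
  norm_num at hself hone
  rw [← hA, h17] at hone
  norm_num at hone
  have b1 : (∑ y ∈ T, v y) = 1904 := by
    have : ((∑ y ∈ T, v y : ℤ) : ℂ) = 1904 := by
      push_cast
      rw [← Finset.sum_congr rfl fun y _ => hv y]
      linear_combination hone
    exact_mod_cast this
  have b2 : (∑ y ∈ T, v y * v y) = 1904 := by
    have : ((∑ y ∈ T, v y * v y : ℤ) : ℂ) = 1904 := by
      push_cast
      rw [Finset.sum_congr rfl fun y _ => show (v y : ℂ) * v y = (χ : G → ℂ) y * conj ((χ : G → ℂ) y) by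
        rw [hv y, map_intCast]]
      linear_combination 4080 * hself
    exact_mod_cast this
  have hval : ∀ g ∈ T, v g = 0 ∨ v g = 1 := by
    have h3 : ∑ y ∈ T, (v y * v y - v y) = 0 := by rw [Finset.sum_sub_distrib, b1, b2, sub_self]
    intro g hg
    have h4 := (Finset.sum_eq_zero_iff_of_nonneg (fun y _ => by
      rcases le_or_gt (v y) 0 with h' | h' <;> nlinarith)).1 h3 g hg
    have : v g * (v g - 1) = 0 := by linarith
    rcases mul_eq_zero.1 this with h' | h' <;> omega
  refine ⟨T, hTc, hTm, fun g hg => ?_, htw, ?_⟩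
  · rcases hval g hg with h' | h' <;> simp [hv g, h']
  · have h3 : ∑ y ∈ T, v y = ((T.filter fun g => ¬ v g = 0).card : ℤ) := by
      rw [← Finset.sum_filter_add_sum_filter_not T (fun g => v g = 0),
        Finset.sum_eq_zero (fun y hy => (Finset.mem_filter.1 hy).2), zero_add,
        Finset.sum_congr rfl (fun y hy => (hval y (Finset.mem_filter.1 hy).1).resolve_left
          (Finset.mem_filter.1 hy).2), Finset.sum_const, nsmul_eq_mul, mul_one]
    rw [b1] at h3
    have h4 := Finset.card_filter_add_card_filter_not (s := T) (fun g => v g = 0)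
    have h5 : (T.filter fun g => (χ : G → ℂ) g = 0) = T.filter fun g => v g = 0 :=
      Finset.filter_congr fun g _ => by rw [hv g, Int.cast_eq_zero]
    rw [h5]; omega

/-- A commuting involution forces an element of odd prime order to have even value. -/
theorem parity (χ : IrrCharacter G) (h1 : (χ : G → ℂ) 1 = 16)
    (hv2 : ∀ g, 2 ∣ orderOf g → (χ : G → ℂ) g = 0) {t u : G} (ht : orderOf t = 2) {p : ℕ}
    (hp : p = 3 ∨ p = 5) (hu : orderOf u = p) (htu : Commute t u) {n : ℤ}
    (hn : n = 0 ∨ n = 1) (hun : ∀ i, ¬ p ∣ i → (χ : G → ℂ) (u ^ i) = (n : ℂ)) : False := by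
  classical
  have hcop : (orderOf t).Coprime (orderOf u) := by
    rw [ht, hu]; rcases hp with rfl | rfl <;> norm_num
  have hg : orderOf (t * u) = 2 * p := by
    rw [htu.orderOf_mul_eq_mul_orderOf_of_coprime hcop, ht, hu]
  have hev : ∀ i, Even i → (t * u) ^ i = u ^ i := fun i ⟨j, hj⟩ => by
    rw [htu.mul_pow, hj, ← two_mul, pow_mul t, ← ht, pow_orderOf_eq_one, one_pow, one_mul]
  have hval : ∀ i < 2 * p, (χ : G → ℂ) ((t * u) ^ i) =
      (if i = 0 then (16 - n : ℂ) else 0) + n * ((1 + (-1) ^ i) / 2) := by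
    intro i hi
    rcases Nat.even_or_odd i with hi' | hi'
    · rw [hev i hi', hi'.neg_one_pow]
      by_cases h0 : i = 0
      · subst h0; rw [if_pos rfl, pow_zero, h1]; ring
      · rw [if_neg h0, hun i fun hd => ?_]
        · ring
        · obtain ⟨j, rfl⟩ := hd
          have : j < 2 := by nlinarith
          interval_cases j
          · exact h0 (mul_zero _)
          · rcases hp with rfl | rfl <;> norm_num [Nat.even_iff] at hi'
    · rw [hv2, hi'.neg_one_pow, if_neg (by rintro rfl; exact absurd hi' (by decide))]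
      · ring
      · rw [orderOf_pow, hg]
        refine Nat.dvd_div_of_mul_dvd ?_
        refine Nat.Coprime.mul_dvd_of_dvd_of_dvd ?_ (Nat.gcd_dvd_left _ _) (dvd_mul_right 2 p)
        exact Nat.Coprime.coprime_dvd_left (Nat.gcd_dvd_right _ _)
          (Nat.coprime_two_right.2 hi')
  obtain ⟨N, μ, hμ, hk⟩ := Char.exists_sum_roots χ.2.isCharacter (t * u)
  rw [hg] at hμ
  set ω : ℂ := Complex.exp (2 * Real.pi * Complex.I / (p : ℂ)) with hω
  have hprim : IsPrimitiveRoot ω p := Complex.isPrimitiveRoot_exp p (by omega)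
  have hω2 : ω ^ (2 * p) = 1 := by rw [mul_comm, pow_mul, hprim.pow_eq_one, one_pow]
  have hne : ∀ c : ℂ, c ^ 2 = 1 → ω⁻¹ * c ≠ 1 := by
    intro c hc he
    have hω0 : ω ≠ 0 := hprim.ne_zero (by omega)
    rw [inv_mul_eq_one₀ hω0] at he
    have : p ∣ 2 := (hprim.pow_eq_one_iff_dvd 2).1 (he ▸ hc)
    have := Nat.le_of_dvd two_pos this
    omega
  have hgeom : ∀ c : ℂ, c ^ 2 = 1 → ∑ i ∈ Finset.range (2 * p), (ω⁻¹ * c) ^ i = 0 := by
    intro c hc
    rw [geom_sum_eq (hne c hc), mul_pow, inv_pow, hω2, pow_mul, hc, one_pow, inv_one, one_mul,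
      sub_self, zero_div]
  have key := sum_pow_inv_mul μ hμ hω2
  rw [Finset.sum_congr rfl fun i hi => show (ω⁻¹) ^ i * ∑ j, μ j ^ i =
      (if i = 0 then (16 - n : ℂ) else 0) + ((n : ℂ) / 2 * (ω⁻¹ * 1) ^ i + (n : ℂ) / 2 * (ω⁻¹ * -1) ^ i) by
    rw [← hk, hval i (Finset.mem_range.1 hi), mul_pow, mul_pow, one_pow]
    split_ifs with h0
    · subst h0; simp
    · ring,
    Finset.sum_add_distrib, Finset.sum_add_distrib, ← Finset.mul_sum, ← Finset.mul_sum,
    hgeom 1 (one_pow _), hgeom (-1) neg_one_sq, Finset.sum_ite_eq' (Finset.range (2 * p)),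
    if_pos (Finset.mem_range.2 (by omega))] at key
  simp only [mul_zero, add_zero] at key
  generalize (Finset.univ.filter fun j => μ j = ω).card = m at key
  have key' : (16 : ℤ) - n = 2 * (p : ℤ) * m := by
    have : (((16 : ℤ) - n : ℤ) : ℂ) = ((2 * (p : ℤ) * m : ℤ) : ℂ) := by
      push_cast at key ⊢; exact key
    exact_mod_cast this
  rcases hn with rfl | rfl <;> rcases hp with rfl | rfl <;> omega

/-- Involutions: all conjugate, every element of even order is one, centralizers of order sixteen. -/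
theorem involutions [IsSimpleGroup G] (h : Nat.card G = 4080) :
    (∀ g : G, 2 ∣ orderOf g → orderOf g = 2) ∧
    (∀ s : G, orderOf s = 2 → Nat.card (Subgroup.centralizer ({s} : Set G)) = 16) ∧
    (Finset.univ.filter fun g : G => orderOf g = 2).card = 255 := by
  classical
  haveI : Fact (Nat.Prime 2) := ⟨Nat.prime_two⟩
  haveI : Fact (Nat.Prime 17) := ⟨by norm_num⟩
  obtain ⟨hC17, hn17, χ, h1, hv2, hx⟩ := steinberg h
  obtain ⟨T, -, hTm, h01, htw, hz⟩ := zeros h (card_seventeen h hn17) χ h1 hx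
  obtain ⟨S⟩ : Nonempty (Sylow 2 G) := inferInstance
  have hS : Nat.card (S : Subgroup G) = 16 := by
    rw [card_sylow 4 255 (by rw [h]; norm_num) (by norm_num) S]; norm_num
  obtain ⟨t, hto, hSt⟩ : ∃ t : G, orderOf t = 2 ∧ (S : Subgroup G) ≤ Subgroup.centralizer ({t} : Set G) := by
    haveI : Nontrivial (S : Subgroup G) := Finite.one_lt_card_iff_nontrivial.mp (by rw [hS]; norm_num)
    haveI := S.isPGroup'.center_nontrivial
    obtain ⟨k, hk⟩ := IsPGroup.iff_card.mp (S.isPGroup'.to_subgroup (Subgroup.center (S : Subgroup G)))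
    have hk0 : k ≠ 0 := by
      rintro rfl
      have := Finite.one_lt_card (α := Subgroup.center (S : Subgroup G))
      rw [pow_zero] at hk; omega
    obtain ⟨⟨⟨t, htS⟩, htc⟩, hto⟩ := exists_prime_orderOf_dvd_card' (G := Subgroup.center (S : Subgroup G)) 2 (hk ▸ dvd_pow_self 2 hk0)
    rw [Subgroup.orderOf_mk, Subgroup.orderOf_mk] at hto
    exact ⟨t, hto, fun s hs => Subgroup.mem_centralizer_singleton_iff.mpr
      (congrArg Subtype.val (Subgroup.mem_center_iff.mp htc ⟨s, hs⟩))⟩
  set C := Subgroup.centralizer ({t} : Set G) with hC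
  have hmemT : ∀ g : G, 2 ∣ orderOf g → g ∈ T := fun g hg => (hTm g).2
    ⟨by rintro rfl; rw [orderOf_one] at hg; norm_num at hg, fun e => by rw [e] at hg; norm_num at hg⟩
  have hno : ∀ p : ℕ, p = 3 ∨ p = 5 ∨ p = 17 → ¬ p ∣ Nat.card C := by
    intro p hp hd
    haveI : Fact p.Prime := ⟨by rcases hp with rfl | rfl | rfl <;> norm_num⟩
    obtain ⟨⟨u, huC⟩, huo⟩ := exists_prime_orderOf_dvd_card' (G := C) p hd
    rw [Subgroup.orderOf_mk] at huo
    have hut : Commute t u := (Subgroup.mem_centralizer_singleton_iff.mp huC).symm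
    by_cases h17 : p = 17
    · subst h17
      obtain ⟨Q, hQ⟩ := exists_sylow_eq_zpowers (p := 17) (fun Q => by
        rw [card_sylow 1 240 (by rw [h]; norm_num) (by norm_num) Q, pow_one]) huo
      have htQ : t ∈ Subgroup.centralizer ((Q : Subgroup G) : Set G) := by
        rw [hQ, centralizer_zpowers]
        exact Subgroup.mem_centralizer_singleton_iff.mpr hut
      have := Subgroup.orderOf_dvd_natCard _ htQ
      rw [hC17, hto] at this
      norm_num at this
    · have hp35 : p = 3 ∨ p = 5 := by omega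
      have huT : u ∈ T := (hTm u).2 ⟨fun e => by rw [e, orderOf_one] at huo; omega, by omega⟩
      obtain ⟨n, hn01, hun⟩ : ∃ n : ℤ, (n = 0 ∨ n = 1) ∧ (χ : G → ℂ) u = (n : ℂ) := by
        rcases h01 u huT with h' | h'
        · exact ⟨0, Or.inl rfl, by rw [h', Int.cast_zero]⟩
        · exact ⟨1, Or.inr rfl, by rw [h', Int.cast_one]⟩
      refine parity χ h1 hv2 hto hp35 huo hut hn01 fun i hi => ?_
      rw [← hun, ← pow_mod_orderOf u i, huo]
      obtain ⟨k, hk, hki⟩ : ∃ k : ℕ, k.Coprime 4080 ∧ k % p = i % p := by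
        have : i % p < p := Nat.mod_lt _ (by omega)
        have : i % p ≠ 0 := fun e => hi (Nat.dvd_of_mod_eq_zero e)
        rcases hp35 with rfl | rfl
        · rcases (show i % 3 = 1 ∨ i % 3 = 2 by omega) with e | e <;> rw [e]
          exacts [⟨1, by norm_num, rfl⟩, ⟨11, by norm_num, rfl⟩]
        · rcases (show i % 5 = 1 ∨ i % 5 = 2 ∨ i % 5 = 3 ∨ i % 5 = 4 by omega) with e | e | e | e <;> rw [e]
          exacts [⟨1, by norm_num, rfl⟩, ⟨7, by norm_num, rfl⟩, ⟨13, by norm_num, rfl⟩, ⟨19, by norm_num, rfl⟩]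
      rw [← hki, show u ^ (k % p) = u ^ k by rw [← huo]; exact pow_mod_orderOf u k]
      exact htw u k (h ▸ hk)
  have hCc : Nat.card C = 16 := decide_c _ (Nat.mem_divisors.2 ⟨h ▸ Subgroup.card_subgroup_dvd_card C, by norm_num⟩)
    (hS ▸ Subgroup.card_dvd_of_le hSt) (hno 3 (Or.inl rfl)) (hno 5 (Or.inr (Or.inl rfl))) (hno 17 (Or.inr (Or.inr rfl)))
  have hcl : (Char.classFinset t).card = 255 := by
    have := C.index_mul_card
    rw [hCc, h] at this
    rw [Char.card_classFinset, ← hC]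
    omega
  have hsub : Char.classFinset t ⊆ T.filter fun g => (χ : G → ℂ) g = 0 := fun g hg => by
    obtain ⟨a, rfl⟩ := isConj_iff.1 (Char.mem_classFinset.1 hg)
    have ho : 2 ∣ orderOf (a * t * a⁻¹) := by
      rw [show a * t * a⁻¹ = MulAut.conj a t from rfl, MulEquiv.orderOf_eq, hto]
    exact Finset.mem_filter.2 ⟨hmemT _ ho, hv2 _ ho⟩
  have heq := Finset.eq_of_subset_of_card_le hsub (by rw [hz, hcl])
  have hall : ∀ g : G, 2 ∣ orderOf g → ∃ a, a * t * a⁻¹ = g := fun g hg => by
    have : g ∈ Char.classFinset t := heq.symm ▸ Finset.mem_filter.2 ⟨hmemT g hg, hv2 g hg⟩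
    exact isConj_iff.1 (Char.mem_classFinset.1 this)
  refine ⟨fun g hg => ?_, fun s hs => ?_, ?_⟩
  · obtain ⟨a, rfl⟩ := hall g hg
    rw [show a * t * a⁻¹ = MulAut.conj a t from rfl, MulEquiv.orderOf_eq, hto]
  · obtain ⟨a, rfl⟩ := hall s (by rw [hs])
    rw [← hCc, hC]
    refine Nat.card_congr ((MulAut.conj a).toEquiv.subtypeEquiv fun x => ?_).symm
    simp only [Subgroup.mem_centralizer_singleton_iff]
    show x * t = t * x ↔ MulAut.conj a x * MulAut.conj a t = MulAut.conj a t * MulAut.conj a x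
    rw [← map_mul, ← map_mul]
    exact (MulAut.conj a).injective.eq_iff.symm
  · rw [← hcl]
    congr 1
    ext g
    rw [Finset.mem_filter, and_iff_right (Finset.mem_univ g), Char.mem_classFinset]
    refine ⟨fun hg => ?_, fun hg => ?_⟩
    · exact isConj_iff.2 (hall g (by rw [hg]))
    · obtain ⟨a, rfl⟩ := isConj_iff.1 hg
      rw [show a * t * a⁻¹ = MulAut.conj a t from rfl, MulEquiv.orderOf_eq, hto]
omit [Fintype G] in
/-- Elements of even order square to one and the Sylow `2`-subgroups are centralizers. -/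
theorem centralizer_eq_sylow [Finite G] [IsSimpleGroup G] (h : Nat.card G = 4080) (S : Sylow 2 G) {s : G}
    (hs : s ∈ (S : Subgroup G)) (hs1 : s ≠ 1) :
    orderOf s = 2 ∧ Subgroup.centralizer ({s} : Set G) = (S : Subgroup G) := by
  haveI := Fintype.ofFinite G
  haveI : Fact (Nat.Prime 2) := ⟨Nat.prime_two⟩
  obtain ⟨hI, hC, -⟩ := involutions h
  have hord : ∀ x ∈ (S : Subgroup G), x ≠ 1 → orderOf x = 2 := fun x hx hx1 => by
    obtain ⟨k, hk⟩ := S.isPGroup' ⟨x, hx⟩
    obtain ⟨j, -, hj⟩ := (Nat.dvd_prime_pow Nat.prime_two).1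
      (orderOf_dvd_of_pow_eq_one (x := x) (n := 2 ^ k) (congrArg Subtype.val hk))
    refine hI x (hj ▸ dvd_pow_self 2 ?_)
    rintro rfl
    exact hx1 (orderOf_eq_one_iff.1 hj)
  have hinv : ∀ x ∈ (S : Subgroup G), x⁻¹ = x := fun x hx => by
    by_cases hx1 : x = 1
    · rw [hx1, inv_one]
    · exact inv_eq_of_mul_eq_one_right (by rw [← pow_two, ← hord x hx hx1, pow_orderOf_eq_one])
  refine ⟨hord s hs hs1, (Subgroup.eq_of_le_of_card_ge (fun x hx => ?_) ?_).symm⟩
  · refine Subgroup.mem_centralizer_singleton_iff.2 ?_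
    calc x * s = (x * s)⁻¹ := (hinv _ ((S : Subgroup G).mul_mem hx hs)).symm
      _ = s * x := by rw [mul_inv_rev, hinv x hx, hinv s hs]
  · rw [hC s (hord s hs hs1), card_sylow 4 255 (by rw [h]; norm_num) (by norm_num) S]
    norm_num

omit [Fintype G] in
theorem card_sylow_two [Finite G] [IsSimpleGroup G] (h : Nat.card G = 4080) : Nat.card (Sylow 2 G) = 17 := by
  classical
  haveI := Fintype.ofFinite G
  haveI : Fact (Nat.Prime 2) := ⟨Nat.prime_two⟩
  haveI := Fintype.ofFinite (Sylow 2 G)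
  obtain ⟨hI, -, hcount⟩ := involutions h
  have hbU : (Finset.univ.filter fun g : G => orderOf g = 2) =
      Finset.univ.biUnion fun S : Sylow 2 G => Finset.univ.filter fun g : G => g ∈ (S : Subgroup G) ∧ g ≠ 1 := by
    ext g
    simp only [Finset.mem_filter, Finset.mem_univ, true_and, Finset.mem_biUnion]
    refine ⟨fun hg => ?_, fun ⟨S, hg, hg1⟩ => (centralizer_eq_sylow h S hg hg1).1⟩
    obtain ⟨S, hS⟩ := (IsPGroup.of_card (n := 1) (by rw [Nat.card_zpowers, hg, pow_one]) :
      IsPGroup 2 (Subgroup.zpowers g)).exists_le_sylow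
    exact ⟨S, hS (Subgroup.mem_zpowers g), fun e => by rw [e, orderOf_one] at hg; norm_num at hg⟩
  rw [hbU, Finset.card_biUnion (fun S _ T _ hne => Finset.disjoint_left.2 fun g hg hg' => by
    simp only [Finset.mem_filter, Finset.mem_univ, true_and] at hg hg'
    exact hne (Sylow.ext ((centralizer_eq_sylow h S hg.1 hg.2).2.symm.trans (centralizer_eq_sylow h T hg'.1 hg'.2).2)))]
    at hcount
  have h15 : ∀ S : Sylow 2 G, (Finset.univ.filter fun g : G => g ∈ (S : Subgroup G) ∧ g ≠ 1).card = 15 := by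
    intro S
    rw [← Finset.filter_filter, Finset.filter_ne', Finset.card_erase_of_mem (by simp), ← Fintype.card_subtype,
      ← Nat.card_eq_fintype_card]
    rw [show Nat.card {x // x ∈ (S : Subgroup G)} = 16 by
      rw [card_sylow 4 255 (by rw [h]; norm_num) (by norm_num) S]; norm_num]
  rw [Finset.sum_congr rfl fun S _ => h15 S, Finset.sum_const, Finset.card_univ, smul_eq_mul,
    ← Nat.card_eq_fintype_card] at hcount
  omega

/-- A simple group of order 4080 is isomorphic to the projective special linear group of dimension 2 over the field with 16 elements. -/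
theorem result {G : Type*} [Group G] [Finite G] [IsSimpleGroup G] (h : Nat.card G = 4080) {F : Type*} [Field F] [Fintype F] (hF : Fintype.card F = 16) : Nonempty (G ≃* Matrix.ProjectiveSpecialLinearGroup (Fin 2) F) := by
  classical
  haveI := Fintype.ofFinite G
  haveI : Fact (Nat.Prime 2) := ⟨Nat.prime_two⟩
  let Ω := Sylow 2 G
  haveI : Fintype Ω := Fintype.ofFinite _
  have hΩ : Nat.card Ω = 17 := card_sylow_two h
  let φ : G →* Equiv.Perm Ω := MulAction.toPermHom G Ω
  have hφi : Function.Injective φ := by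
    rw [← MonoidHom.ker_eq_bot_iff]
    refine (φ.normal_ker.eq_bot_or_eq_top).resolve_right fun ht => ?_
    haveI : Subsingleton Ω := ⟨fun P Q => by
      obtain ⟨g, hg⟩ := MulAction.exists_smul_eq G P Q
      have h1 : φ g = 1 := MonoidHom.mem_ker.mp (ht ▸ Subgroup.mem_top g)
      exact (congrFun (congrArg DFunLike.coe h1) P).symm.trans hg⟩
    have := Finite.card_le_one_iff_subsingleton.mpr (inferInstance : Subsingleton Ω)
    omega
  -- a Sylow subgroup acts regularly on the other points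
  have hfree : ∀ P Q : Ω, P ≠ Q → ∀ s ∈ (P : Subgroup G), s • Q = Q → s = 1 := by
    intro P Q hPQ s hs hsQ
    by_contra hs1
    have hsN : s ∈ Subgroup.normalizer ((Q : Subgroup G) : Set G) := Sylow.smul_eq_iff_mem_normalizer.1 hsQ
    have hP2 : IsPGroup 2 (Subgroup.zpowers s) := P.isPGroup'.to_le (Subgroup.zpowers_le.2 hs)
    have hsup : IsPGroup 2 ((Subgroup.zpowers s) ⊔ (Q : Subgroup G) : Subgroup G) :=
      hP2.to_sup_of_normal_right' Q.isPGroup' (Subgroup.zpowers_le.2 hsN)
    have hsQ' : s ∈ (Q : Subgroup G) :=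
      (Q.is_maximal' hsup le_sup_right) ▸ (le_sup_left : Subgroup.zpowers s ≤ _) (Subgroup.mem_zpowers s)
    exact hPQ (Sylow.ext ((centralizer_eq_sylow h P hs hs1).2.symm.trans (centralizer_eq_sylow h Q hsQ' hs1).2))
  have hsmul : ∀ P : Ω, ∀ s ∈ (P : Subgroup G), s • P = P := fun P s hs =>
    Sylow.smul_eq_iff_mem_normalizer.2 (Subgroup.le_normalizer hs)
  have hreg : ∀ P Q R : Ω, P ≠ Q → R ≠ P → ∃ s ∈ (P : Subgroup G), s • Q = R := by
    intro P Q R hPQ hR
    let f : ↥(P : Subgroup G) → {X : Ω // X ≠ P} := fun s => ⟨(s : G) • Q, fun e => hPQ (by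
      have := congrArg (fun X => (s : G)⁻¹ • X) e
      simp only [inv_smul_smul] at this
      rw [this, hsmul P _ ((P : Subgroup G).inv_mem s.2)])⟩
    have hf : Function.Injective f := fun a b hab => by
      have h1 : ((b : G)⁻¹ * (a : G)) • Q = Q := by
        rw [mul_smul, inv_smul_eq_iff]; exact congrArg Subtype.val hab
      exact Subtype.ext (inv_mul_eq_one.1 (hfree P Q hPQ _ ((P : Subgroup G).mul_mem ((P : Subgroup G).inv_mem b.2) a.2) h1)).symm
    have hbij := (Nat.bijective_iff_injective_and_card f).2 ⟨hf, by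
      rw [Cfsg.Lib.Small.card_sylow 4 255 (by rw [h]; norm_num) (by norm_num) P, Nat.card_eq_fintype_card,
        Fintype.card_subtype_compl, Fintype.card_subtype_eq, ← Nat.card_eq_fintype_card (α := Ω), hΩ]
      norm_num⟩
    obtain ⟨s, hs⟩ := hbij.2 ⟨R, hR⟩
    exact ⟨s, s.2, congrArg Subtype.val hs⟩
  set Γ := φ.range
  have hsharp : ∀ e : Fin 3 ↪ Ω, MulAction.stabilizer Γ e = ⊥ := by
    intro e
    rw [eq_bot_iff]
    rintro ⟨_, g, rfl⟩ hg
    have hg' : ∀ i, g • e i = e i := fun i => congrFun (congrArg DFunLike.coe (MulAction.mem_stabilizer_iff.mp hg)) i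
    rw [Subgroup.mem_bot]
    apply Subtype.ext
    show φ g = 1
    have hne : ∀ i j : Fin 3, i ≠ j → e i ≠ e j := fun i j hij he => hij (e.injective he)
    obtain ⟨s, hs, hsQ⟩ := hreg (e 0) (e 1) (e 2) (hne 0 1 (by decide)) (hne 2 0 (by decide))
    have hgN : g ∈ Subgroup.normalizer ((e 0 : Subgroup G) : Set G) := Sylow.smul_eq_iff_mem_normalizer.1 (hg' 0)
    have hconj : g * s * g⁻¹ ∈ (e 0 : Subgroup G) := (Subgroup.mem_normalizer_iff.1 hgN s).1 hs
    have hmove : (g * s * g⁻¹) • e 1 = e 2 := by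
      rw [mul_smul, mul_smul, inv_smul_eq_iff.2 (hg' 1).symm, hsQ, hg' 2]
    have h1 : s⁻¹ * (g * s * g⁻¹) = 1 := hfree (e 0) (e 1) (hne 0 1 (by decide)) _
      ((e 0 : Subgroup G).mul_mem ((e 0 : Subgroup G).inv_mem hs) hconj)
      (by rw [mul_smul, hmove, inv_smul_eq_iff, hsQ])
    have hs1 : s ≠ 1 := fun e' => hne 1 2 (by decide) (by rw [← hsQ, e', one_smul])
    have hgC : g ∈ Subgroup.centralizer ({s} : Set G) := by
      refine Subgroup.mem_centralizer_singleton_iff.2 ?_
      exact mul_inv_eq_iff_eq_mul.1 (inv_mul_eq_one.1 h1).symm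
    rw [(centralizer_eq_sylow h (e 0) hs hs1).2] at hgC
    rw [hfree (e 0) (e 1) (hne 0 1 (by decide)) g hgC (hg' 1), map_one]
  have h3 : MulAction.IsMultiplyPretransitive Γ Ω 3 := by
    rw [MulAction.isMultiplyPretransitive_iff]
    intro e e'
    have ho : (MulAction.orbit Γ e).ncard = 4080 := by
      have h1 := MulAction.index_stabilizer Γ e
      rw [hsharp e, Subgroup.index_bot, ← Nat.card_congr (MonoidHom.ofInjective hφi).toEquiv, h] at h1
      exact h1.symm
    have hall : MulAction.orbit Γ e = Set.univ := by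
      refine Set.eq_of_subset_of_ncard_le (Set.subset_univ _) ?_ (Set.toFinite _)
      rw [ho, Set.ncard_univ, Nat.card_eq_fintype_card, Fintype.card_embedding_eq, Fintype.card_fin,
        ← Nat.card_eq_fintype_card (α := Ω), hΩ]
      decide
    have : e' ∈ MulAction.orbit Γ e := hall ▸ Set.mem_univ _
    exact this
  obtain ⟨F0, iF, iFF, hF0, ⟨ψ⟩⟩ := Cfsg.Agent.S0727.result (f := 4) (by norm_num)
    (by rw [← Nat.card_eq_fintype_card, hΩ]; norm_num) Γ h3 hsharp
  have hroots : ∀ r : F0ˣ, ∃ k : F0ˣ, k ^ Fintype.card (Fin 2) = r := fun r => ⟨r ^ 8, by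
    have h15 : r ^ 15 = 1 := by
      have : Fintype.card F0ˣ = 15 := by rw [Fintype.card_units, hF0]; norm_num
      rw [← this]; exact pow_card_eq_one
    rw [Fintype.card_fin, ← pow_mul, show 8 * 2 = 15 + 1 by norm_num, pow_succ, h15, one_mul]⟩
  let τ := MulEquiv.ofBijective (Matrix.ProjectiveSpecialLinearGroup.toPGL (n := Fin 2) (R := F0))
    ⟨Matrix.ProjectiveSpecialLinearGroup.toPGL_injective, Matrix.ProjectiveSpecialLinearGroup.toPGL_surj_of_roots hroots⟩
  exact ⟨(((MonoidHom.ofInjective hφi).trans ψ).trans τ.symm).trans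
    (Cfsg.Lib.Dickson.pslEquiv (FiniteField.ringEquivOfCardEq (hF0.trans (by rw [hF]; norm_num))))⟩

end Cfsg.Agent.S0981
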