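import Cfsg.Statements.S1019
import Mathlib.Tactic.Group
import Mathlib.GroupTheory.Sylow
import Cfsg.Agent.Lib.Char.Central
-- import your own Cfsg.Agent.* helpers here

set_option autoImplicit false
open Cfsg

namespace Cfsg.Agent.S1019

open Subgroup

/-- Let H be a subgroup of a finite group G and x an element of H. In the action of G on the left cosets of H, the number of cosets fixed by x, multiplied by the size of the conjugacy class of x, equals the index of H multiplied by the number of conjugates of x that lie in H. -/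
theorem result {G : Type*} [Group G] [Finite G] (H : Subgroup G) (x : G) (hx : x ∈ H) : Nat.card (MulAction.fixedBy (G ⧸ H) x) * Nat.card {g : G // IsConj x g} = H.index * Nat.card {g : G // IsConj x g ∧ g ∈ H} := by
  classical
  let _ : Fintype G := Fintype.ofFinite G
  set C := centralizer ({x} : Set G)
  -- both products are, up to `|H|` and `|C|`, the number of `g` with `g⁻¹ * x * g ∈ H`
  let W := {g : G // g⁻¹ * x * g ∈ H}
  have h1 : Nat.card W = Nat.card (MulAction.fixedBy (G ⧸ H) x) * Nat.card H := by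
    have hiff : ∀ g : G, g⁻¹ * x * g ∈ H ↔ (g : G ⧸ H) ∈ MulAction.fixedBy (G ⧸ H) x := fun g => by
      rw [MulAction.mem_fixedBy]
      show _ ↔ ((x * g : G) : G ⧸ H) = g
      rw [QuotientGroup.eq, ← inv_mem_iff]
      simp [mul_assoc]
    rw [Nat.card_congr (Equiv.subtypeEquivRight hiff),
      ← Nat.card_congr (Equiv.subtypeEquivRight (fun g : G => Iff.rfl)
        : {g : G // (g : G ⧸ H) ∈ MulAction.fixedBy (G ⧸ H) x} ≃ {g : G // (g : G ⧸ H) ∈ MulAction.fixedBy (G ⧸ H) x})]
    rw [show {g : G // (g : G ⧸ H) ∈ MulAction.fixedBy (G ⧸ H) x} =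
      ↥((QuotientGroup.mk : G → G ⧸ H) ⁻¹' MulAction.fixedBy (G ⧸ H) x) from rfl,
      Nat.card_congr (QuotientGroup.preimageMkEquivSubgroupProdSet H _), Nat.card_prod, mul_comm]
  have h2 : Nat.card W = Nat.card C * Nat.card {g : G // IsConj x g ∧ g ∈ H} := by
    let f : W → {g : G // IsConj x g ∧ g ∈ H} := fun g =>
      ⟨g.1⁻¹ * x * g.1, isConj_iff.mpr ⟨g.1⁻¹, by group⟩, g.2⟩
    have hfib : ∀ y, Nat.card {g : W // f g = y} = Nat.card C := fun y => by
      obtain ⟨c, hc⟩ := isConj_iff.mp y.2.1
      refine Nat.card_congr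
        { toFun := fun g => ⟨g.1.1 * c, mem_centralizer_singleton_iff.mpr ?_⟩
          invFun := fun a => ⟨⟨a.1 * c⁻¹, ?_⟩, ?_⟩
          left_inv := fun g => Subtype.ext (Subtype.ext (by simp))
          right_inv := fun a => Subtype.ext (by simp) }
      · have h := congrArg Subtype.val g.2
        simp only [f] at h
        rw [← hc] at h
        calc g.1.1 * c * x = g.1.1 * (c * x * c⁻¹) * c := by group
          _ = g.1.1 * (g.1.1⁻¹ * x * g.1.1) * c := by rw [h]
          _ = x * (g.1.1 * c) := by group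
      · have h := mem_centralizer_singleton_iff.mp a.2
        have e : (a.1 * c⁻¹)⁻¹ * x * (a.1 * c⁻¹) = y.1 := by
          calc (a.1 * c⁻¹)⁻¹ * x * (a.1 * c⁻¹) = c * (a.1⁻¹ * (x * a.1)) * c⁻¹ := by group
            _ = c * (a.1⁻¹ * (a.1 * x)) * c⁻¹ := by rw [h]
            _ = y.1 := by rw [inv_mul_cancel_left, hc]
        rw [e]; exact y.2.2
      · refine Subtype.ext ?_
        have h := mem_centralizer_singleton_iff.mp a.2
        show (a.1 * c⁻¹)⁻¹ * x * (a.1 * c⁻¹) = y.1
        calc (a.1 * c⁻¹)⁻¹ * x * (a.1 * c⁻¹) = c * (a.1⁻¹ * (x * a.1)) * c⁻¹ := by group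
          _ = c * (a.1⁻¹ * (a.1 * x)) * c⁻¹ := by rw [h]
          _ = y.1 := by rw [inv_mul_cancel_left, hc]
    let _ : Fintype {g : G // IsConj x g ∧ g ∈ H} := Fintype.ofFinite _
    rw [← Nat.card_congr (Equiv.sigmaFiberEquiv f), Nat.card_sigma, Finset.sum_congr rfl (fun y _ => hfib y),
      Finset.sum_const, Finset.card_univ, ← Nat.card_eq_fintype_card, smul_eq_mul, mul_comm]
  have h3 : Nat.card {g : G // IsConj x g} * Nat.card C = Nat.card G := by
    rw [← C.index_mul_card]
    congr 1
    rw [← Cfsg.Lib.Char.card_classFinset x, ← Nat.card_eq_finsetCard]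
    exact Nat.card_congr (Equiv.subtypeEquivRight fun g => Cfsg.Lib.Char.mem_classFinset.symm)
  refine Nat.eq_of_mul_eq_mul_right (mul_pos (Nat.card_pos (α := H)) (Nat.card_pos (α := C))) ?_
  calc Nat.card (MulAction.fixedBy (G ⧸ H) x) * Nat.card {g : G // IsConj x g} * (Nat.card H * Nat.card C)
      = (Nat.card (MulAction.fixedBy (G ⧸ H) x) * Nat.card H) * (Nat.card {g : G // IsConj x g} * Nat.card C) := by ring
    _ = (Nat.card C * Nat.card {g : G // IsConj x g ∧ g ∈ H}) * (H.index * Nat.card H) := by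
        rw [← h1, h2, h3, H.index_mul_card]
    _ = H.index * Nat.card {g : G // IsConj x g ∧ g ∈ H} * (Nat.card H * Nat.card C) := by ring

end Cfsg.Agent.S1019
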