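import Cfsg.Statements.S0976
import Cfsg.Agent.Lib.Small.BlockOrders
import Mathlib.NumberTheory.Divisors
-- import your own Cfsg.Agent.* helpers here

set_option autoImplicit false
open Cfsg

namespace Cfsg.Agent.S0976

open Cfsg.Lib.Small

theorem decide_two : ∀ d ∈ Nat.divisors 576, ∀ f ∈ Nat.divisors 576, 2 ≤ d →
    ((d % 7 = 1 ∧ f = d + 1) ∨ ((d + 1) % 7 = 0 ∧ f + 1 = d)) →
    1 + d ^ 2 + 3 * f ^ 2 ≤ 4032 → d = 8 ∧ f = 9 := by decide +kernel

theorem decide_three : ∀ d₁ ∈ Nat.divisors 576, ∀ s₁ ∈ ([1, -1] : List ℤ), (s₁ * d₁ - 1) % 7 = 0 →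
    ∀ d₂ ∈ Nat.divisors 576, ∀ s₂ ∈ ([1, -1] : List ℤ), (s₂ * d₂ - 1) % 7 = 0 →
    ∀ f ∈ Nat.divisors 576, ∀ s ∈ ([1, -1] : List ℤ), (s * f + 3) % 7 = 0 →
    1 + s₁ * d₁ + s₂ * d₂ + s * f = 0 → 1 + d₁ ^ 2 + d₂ ^ 2 + 2 * f ^ 2 ≤ 4032 →
    d₁ < 14 ∨ d₂ < 14 ∨ f < 14 := by decide +kernel

theorem decide_big : ∀ d ∈ Nat.divisors 576, 14 ≤ d → (d % 7 = 1 ∨ d % 7 = 6) → 36 ≤ d := by
  decide +kernel

/-- No finite simple group has order 4032 = 2^6 * 3^2 * 7. -/
theorem result {G : Type*} [Group G] [Finite G] [IsSimpleGroup G] : Nat.card G ≠ 4032 := by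
  classical
  intro h
  haveI := Fintype.ofFinite G
  haveI : Fact (Nat.Prime 7) := ⟨by norm_num⟩
  have hm : Nat.card G = 7 * 576 := by rw [h]
  have hnc : ¬ IsCyclic G := not_isCyclic_of_card (by rw [h]; norm_num)
  have hsq := block_setup_c (G := G) (p := 7) hm (by norm_num)
  obtain ⟨P, e, c, n, ⟨S⟩, hC, hnec, hn, hn1, he2, hed, -⟩ :=
    block_setup (G := G) (p := 7) (by norm_num) hm (by norm_num) (by norm_num)
  have hc1 : ∀ χ ∈ S.Z, χ ≠ one' G → charDegree (χ : G → ℂ) < 14 → c = 1 := fun χ hχ hne hlt => by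
    have := S.small hnc hsq hχ hne hlt
    rw [hC] at this
    omega
  have he : e = 2 ∨ e = 3 ∨ e = 6 := by
    have := Nat.le_of_dvd (by norm_num) hed
    interval_cases e <;> simp_all
  rcases he with rfl | rfl | rfl
  · obtain ⟨χ, hχX, hne, -, hZ, hθ1, hd2, -, hdm, hfm, hor, hsum⟩ :=
      S.two_cases hnc hm rfl (by norm_num)
    obtain ⟨hd, hf⟩ := decide_two _ (Nat.mem_divisors.2 ⟨hdm, by norm_num⟩) _
        (Nat.mem_divisors.2 ⟨hfm, by norm_num⟩) hd2 (hor.imp (fun h => ⟨h.2.2.1, h.2.2.2⟩)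
          (fun h => ⟨h.2.2.1, h.2.2.2⟩)) (by rw [h] at hsum; exact hsum)
    have hs1 : S.σ χ = 1 ∧ S.σ S.θ = -1 := by
      rcases hor with ⟨a, b, -, -⟩ | ⟨-, -, -, h4⟩
      · exact ⟨a, b⟩
      · omega
    have hcc : c = 1 := hc1 χ (S.mem_Z.2 (Or.inr hχX)) hne (by omega)
    subst hcc
    rw [mul_one] at hC
    obtain ⟨t, x, hx, hx1, ht, hinv, hcount, -, -, -⟩ :=
      exists_inverting (p := 7) (by norm_num) P S.card_P hC S.relIndex_eq (dvd_refl 2)
    have htp : ¬ 7 ∣ orderOf t := by rw [ht]; norm_num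
    obtain ⟨L, b, hb, hL, hbL, hpar⟩ := S.linBound (by norm_num) (t := t)
      (by rw [← ht, pow_orderOf_eq_one]) hinv hχX
    rw [hd, hs1.1] at hL
    have hrel := S.rel t htp
    have hform := S.formula_int hC htp htp hx hx1
    have hne3 : S.θ ∉ ({one' G, χ} : Finset (IrrCharacter G)) := by
      simp only [Finset.mem_insert, Finset.mem_singleton, not_or]
      exact ⟨hθ1, fun e => S.θ_notMem (e ▸ hχX)⟩
    rw [hZ, Finset.sum_insert hne3, Finset.sum_insert (by simp [hne.symm]), Finset.sum_singleton,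
      S.sign_one, hs1.1, hs1.2, one'_apply, hb] at hrel
    rw [hZ, Finset.sum_insert hne3, Finset.sum_insert (by simp [hne.symm]), Finset.sum_singleton,
      hcount, S.sign_one, hs1.1, hs1.2, one'_apply, one'_apply, hb,
      Cfsg.Lib.Block.apply_one_eq_charDegree χ, Cfsg.Lib.Block.apply_one_eq_charDegree S.θ, hd, hf,
      h] at hform
    set k := Nat.card (Subgroup.centralizer ({t} : Set G))
    push_cast at hrel hform
    have hθt : (S.θ : G → ℂ) t = 1 + (b : ℂ) := by linear_combination -hrel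
    rw [hθt] at hform
    have key : (7 : ℤ) * 72 * ((k : ℤ) * k) = 4032 * (72 + 9 * b ^ 2 - 8 * (1 + b) ^ 2) := by
      have : (7 : ℂ) * 72 * ((k : ℂ) * k) = 4032 * (72 + 9 * (b : ℂ) ^ 2 - 8 * (1 + (b : ℂ)) ^ 2) := by
        linear_combination 72 * hform
      exact_mod_cast this
    have hL2 : (L : ℤ) = 2 := by push_cast at hL; omega
    have hb3 : b = -2 ∨ b = 0 ∨ b = 2 := by omega
    rcases hb3 with rfl | rfl | rfl <;>
    · have hk : k < 30 := by
        by_contra hk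
        push Not at hk
        have : (30 : ℤ) * 30 ≤ (k : ℤ) * k := by
          have : (30 : ℤ) ≤ k := by exact_mod_cast hk
          nlinarith
        norm_num at key
        omega
      interval_cases k <;> norm_num at key
  · obtain ⟨χ, ψ, d₁, d₂, f, ⟨hχ, hne, hd1⟩, ⟨hψ, hne', hd2⟩, ⟨hθ1, hf⟩, -, -, -, hd1m, hd2m, hfm,
      hsum, s₁, hs₁, s₂, hs₂, s, hs, c1, c2, c3, hrel⟩ := S.three_cases hnc hm rfl (by norm_num)
    have hcc : c = 1 := by
      rcases decide_three d₁ (Nat.mem_divisors.2 ⟨hd1m, by norm_num⟩) s₁ hs₁ c1 d₂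
        (Nat.mem_divisors.2 ⟨hd2m, by norm_num⟩) s₂ hs₂ c2 f
        (Nat.mem_divisors.2 ⟨hfm, by norm_num⟩) s hs c3 hrel (by rw [h] at hsum; exact hsum) with
        hs | hs | hs
      · exact hc1 χ hχ hne (hd1 ▸ hs)
      · exact hc1 ψ hψ hne' (hd2 ▸ hs)
      · exact hc1 _ (S.mem_Z.2 (Or.inl rfl)) hθ1 (hf ▸ hs)
    subst hcc
    omega
  · by_cases hsmall : ∃ χ ∈ S.Z, χ ≠ one' G ∧ charDegree (χ : G → ℂ) < 14
    · obtain ⟨χ, hχ, hne, hlt⟩ := hsmall
      have hcc := hc1 χ hχ hne hlt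
      subst hcc
      omega
    · push Not at hsmall
      have hbig : ∀ χ ∈ S.Z.erase (one' G), 36 ^ 2 ≤ charDegree (χ : G → ℂ) ^ 2 := by
        intro χ hχ'
        obtain ⟨hne, hχ⟩ := Finset.mem_erase.1 hχ'
        refine Nat.pow_le_pow_left (decide_big _ (Nat.mem_divisors.2 ⟨S.deg_dvd hm hχ, by norm_num⟩)
          (hsmall χ hχ hne) ?_) 2
        have hc5 := S.cong_all rfl hχ
        unfold Int.ModEq at hc5
        rcases S.sign χ hχ with hs | hs <;> rw [hs] at hc5 <;> push_cast at hc5 <;> omega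
      have h1 := Finset.card_nsmul_le_sum _ _ _ hbig
      rw [Finset.card_erase_of_mem S.one_mem, S.card_Z, smul_eq_mul] at h1
      have h2 := S.sum_sq
      have h3 : ∑ χ ∈ S.Z.erase (one' G), charDegree (χ : G → ℂ) ^ 2 ≤
          ∑ χ ∈ S.Z, charDegree (χ : G → ℂ) ^ 2 :=
        Finset.sum_le_sum_of_subset (Finset.erase_subset _ _)
      rw [S.Z_eq, Finset.sum_insert S.θ_notMem] at h3
      rw [S.Z_eq] at h1
      rw [h] at h2
      norm_num at h1 h2
      omega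

end Cfsg.Agent.S0976
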