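import Cfsg.Statements.S0977
import Cfsg.Agent.Lib.Small.BlockOrders
import Mathlib.NumberTheory.Divisors
-- import your own Cfsg.Agent.* helpers here

set_option autoImplicit false
open Cfsg

namespace Cfsg.Agent.S0977

open Cfsg.Lib.Small

theorem decide_two : ∀ d ∈ Nat.divisors 864, ∀ f ∈ Nat.divisors 864,
    ((d % 5 = 1 ∧ f = d + 1) ∨ ((d + 1) % 5 = 0 ∧ f + 1 = d)) →
    1 + d ^ 2 + 2 * f ^ 2 ≤ 4320 → d < 10 ∨ f < 10 := by decide +kernel

theorem decide_even : ∀ d ∈ Nat.divisors 864, 10 ≤ d → (d % 5 = 1 ∨ d % 5 = 4) → 2 ∣ d := by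
  decide +kernel

/-- The possible signed degrees. -/
def vals : List ℤ := [-4, 6, -9, 16, -24, 36, -54]

theorem decide_val : ∀ d ∈ Nat.divisors 864, 2 ≤ d → d ^ 2 ≤ 4320 →
    ∀ s ∈ ([1, -1] : List ℤ), (s * d - 1) % 5 = 0 → s * (d : ℤ) ∈ vals := by decide +kernel

/-- The possible values at the involution. -/
def vls (v : ℤ) : List ℤ :=
  if v = -4 then [0] else if v = 6 then [-2, 0, 2] else if v = -9 then [-1, 1] else
  if v = 16 ∨ v = -24 then [-4, -2, 0, 2, 4] else
  if v = 36 then [-8, -6, -4, -2, 0, 2, 4, 6, 8] else [-10, -8, -6, -4, -2, 0, 2, 4, 6, 8, 10]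

theorem decide_vls : ∀ d ∈ ([4, 6, 9, 16, 24, 36, 54] : List ℕ), ∀ s ∈ ([1, -1] : List ℤ), s * d ∈ vals →
    ∀ L ∈ List.range 15, (L : ℤ) * 5 = d + 4 * s → ∀ b' ∈ List.range (2 * L + 1),
      (2 : ℤ) ∣ (L : ℤ) - ((b' : ℤ) - L) → ((b' : ℤ) - L) ∈ vls (s * d) := by decide +kernel

theorem decide_form : ∀ b0 ∈ ([-1, 1] : List ℤ), ∀ v1 ∈ vals, ∀ v2 ∈ vals, ∀ v3 ∈ vals,
    v1 + v2 + v3 = 8 → v1 * v1 + v2 * v2 + v3 * v3 ≤ 4238 →
    ∀ b1 ∈ vls v1, ∀ b2 ∈ vls v2, ∀ b3 ∈ vls v3,
      -b0 + v1.sign * b1 + v2.sign * b2 + v3.sign * b3 = -1 →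
      ∀ k ∈ ([4, 8, 12, 16, 24, 32, 36, 48, 72, 96, 108, 144, 216, 288, 432, 864] : List ℤ),
        5 * (k * k) = 4320 + b0 * b0 * (4320 / -9) + b1 * b1 * (4320 / v1) +
          b2 * b2 * (4320 / v2) + b3 * b3 * (4320 / v3) →
        k < 1 + b0 * b0 + b1 * b1 + b2 * b2 + b3 * b3 := by decide +kernel

theorem decide_k : ∀ k ∈ Nat.divisors 864, 4 ∣ k →
    (k : ℤ) ∈ ([4, 8, 12, 16, 24, 32, 36, 48, 72, 96, 108, 144, 216, 288, 432, 864] : List ℤ) := by
  decide +kernel

theorem decide_div : ∀ v ∈ vals, v * (4320 / v) = 4320 := by decide +kernel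

theorem decide_odd : ∀ v ∈ vals, ¬ (2 : ℤ) ∣ v → v = -9 := by decide +kernel

/-- No finite simple group has order 4320 = 2^5 * 3^3 * 5. -/
theorem result {G : Type*} [Group G] [Finite G] [IsSimpleGroup G] : Nat.card G ≠ 4320 := by
  classical
  intro h
  haveI := Fintype.ofFinite G
  haveI : Fact (Nat.Prime 5) := ⟨by norm_num⟩
  have hm : Nat.card G = 5 * 864 := by rw [h]
  have hnc : ¬ IsCyclic G := not_isCyclic_of_card (by rw [h]; norm_num)
  have hsq := block_setup_c (G := G) (p := 5) hm (by norm_num)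
  obtain ⟨P, e, c, n, ⟨S⟩, hC, hnec, hn, hn1, he2, hed, -⟩ :=
    block_setup (G := G) (p := 5) (by norm_num) hm (by norm_num) (by norm_num)
  have hc1 : ∀ χ ∈ S.Z, χ ≠ one' G → charDegree (χ : G → ℂ) < 10 → c = 1 := fun χ hχ hne hlt => by
    have := S.small hnc hsq hχ hne hlt
    rw [hC] at this
    omega
  have he : e = 2 ∨ e = 4 := by
    have := Nat.le_of_dvd (by norm_num) hed
    interval_cases e <;> simp_all
  rcases he with rfl | rfl
  · obtain ⟨χ, hχX, hne, -, -, hθ1, -, -, hdm, hfm, hor, hsum⟩ :=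
      S.two_cases hnc hm rfl (by norm_num)
    have hcc : c = 1 := by
      rcases decide_two _ (Nat.mem_divisors.2 ⟨hdm, by norm_num⟩) _
        (Nat.mem_divisors.2 ⟨hfm, by norm_num⟩) (hor.imp (fun h => ⟨h.2.2.1, h.2.2.2⟩)
          (fun h => ⟨h.2.2.1, h.2.2.2⟩)) (by rw [h] at hsum; exact hsum) with hs | hs
      · exact hc1 χ (S.mem_Z.2 (Or.inr hχX)) hne hs
      · exact hc1 _ (S.mem_Z.2 (Or.inl rfl)) hθ1 hs
    subst hcc
    omega
  · by_cases hsmall : ∃ χ ∈ S.Z, χ ≠ one' G ∧ charDegree (χ : G → ℂ) < 10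
    swap
    · push Not at hsmall
      refine S.not_all_even fun χ hχ hne => ?_
      refine decide_even _ (Nat.mem_divisors.2 ⟨S.deg_dvd hm hχ, by norm_num⟩) (hsmall χ hχ hne) ?_
      have hc5 := S.cong_all rfl hχ
      unfold Int.ModEq at hc5
      rcases S.sign χ hχ with hs | hs <;> rw [hs] at hc5 <;> push_cast at hc5 <;> omega
    obtain ⟨χ₁, hχ₁, hne₁, hlt⟩ := hsmall
    have hcc := hc1 χ₁ hχ₁ hne₁ hlt
    subst hcc
    rw [mul_one] at hC
    obtain ⟨t, x, hx, hx1, ht, hinv, hcount, -, hCt, h4⟩ :=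
      exists_inverting (p := 5) (by norm_num) P S.card_P hC S.relIndex_eq (by norm_num)
    have htp : ¬ 5 ∣ orderOf t := by rw [ht]; norm_num
    -- the data of each member
    have hsum : ∑ χ ∈ S.Z, charDegree (χ : G → ℂ) ^ 2 ≤ 4320 := by
      have h2 := S.sum_sq
      rw [h] at h2
      rw [S.Z_eq, Finset.sum_insert S.θ_notMem]
      norm_num at h2
      omega
    have hdata : ∀ χ ∈ S.Z.erase (one' G), ∃ v b : ℤ, v ∈ vals ∧ b ∈ vls v ∧
        (charDegree (χ : G → ℂ) : ℤ) ^ 2 = v * v ∧ (S.σ χ : ℤ) * charDegree (χ : G → ℂ) = v ∧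
        (χ : G → ℂ) t = (b : ℂ) ∧ v.sign = S.σ χ := by
      intro χ hχ'
      obtain ⟨hne, hχ⟩ := Finset.mem_erase.1 hχ'
      obtain ⟨L, b, hb, hL, hbL, hpar⟩ := S.linBound' (by norm_num) (t := t)
        (by rw [← ht, pow_orderOf_eq_one]) hinv (χ := χ) (fun y hy hy1 => S.val_all rfl hχ hy hy1)
      have hd2 := two_le_charDegree hnc hne
      have hdsq : charDegree (χ : G → ℂ) ^ 2 ≤ 4320 :=
        (Finset.single_le_sum (f := fun χ : IrrCharacter G => charDegree (χ : G → ℂ) ^ 2)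
          (fun _ _ => Nat.zero_le _) hχ).trans hsum
      have hs : S.σ χ ∈ ([1, -1] : List ℤ) := by rcases S.sign χ hχ with hs | hs <;> simp [hs]
      have hv := decide_val _ (Nat.mem_divisors.2 ⟨S.deg_dvd hm hχ, by norm_num⟩) hd2 hdsq _ hs
        (Int.emod_eq_zero_of_dvd (Int.modEq_iff_dvd.1 (S.cong_all rfl hχ).symm))
      have hsign : (S.σ χ * (charDegree (χ : G → ℂ) : ℤ)).sign = S.σ χ := by
        have hdpos : (0 : ℤ) < (charDegree (χ : G → ℂ) : ℤ) := by exact_mod_cast (by omega : 0 < charDegree (χ : G → ℂ))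
        rcases S.sign χ hχ with hs | hs <;> rw [hs]
        · rw [one_mul, Int.sign_eq_one_of_pos hdpos]
        · rw [neg_one_mul, Int.sign_neg, Int.sign_eq_one_of_pos hdpos]
      refine ⟨_, b, hv, ?_, ?_, rfl, hb, hsign⟩
      · have hd : (charDegree (χ : G → ℂ)) ∈ [4, 6, 9, 16, 24, 36, 54] := by
          rcases S.sign χ hχ with hs' | hs' <;> rw [hs'] at hv <;>
            simp only [vals, List.mem_cons, List.not_mem_nil, or_false] at hv ⊢ <;> omega
        have hL' : L < 15 := by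
          simp only [List.mem_cons, List.not_mem_nil, or_false] at hd
          rcases S.sign χ hχ with hs' | hs' <;> rw [hs'] at hL <;> push_cast at hL <;> omega
        have := decide_vls _ hd _ hs hv L (List.mem_range.2 hL') (by push_cast at hL; omega)
          (b + L).toNat (List.mem_range.2 (by omega)) (by
            rw [Int.toNat_of_nonneg (by omega)]; simpa using hpar)
        rwa [Int.toNat_of_nonneg (by omega), add_sub_cancel_right] at this
      · rcases S.sign χ hχ with hs' | hs' <;> rw [hs'] <;> ring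
    choose! v b hv hb hdsq hvd hbt hvs using hdata
    have hZ : S.Z = insert (one' G) (S.Z.erase (one' G)) := (Finset.insert_erase S.one_mem).symm
    have hcard : (S.Z.erase (one' G)).card = 4 := by
      rw [Finset.card_erase_of_mem S.one_mem, S.card_Z]
    have hrd : ∑ χ ∈ S.Z.erase (one' G), v χ = -1 := by
      have := S.rel_deg
      rw [hZ, Finset.sum_insert (Finset.notMem_erase _ _), S.sign_one, charDegree_one',
        Finset.sum_congr rfl fun χ hχ => hvd χ hχ] at this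
      push_cast at this
      show (S.Z.erase (one' G)).sum v = -1
      omega
    obtain ⟨χ₀, hχ₀, hodd⟩ : ∃ χ ∈ S.Z.erase (one' G), ¬ (2 : ℤ) ∣ v χ := by
      by_contra hno
      push Not at hno
      have := Finset.dvd_sum hno
      rw [hrd] at this
      omega
    have hv0 : v χ₀ = -9 := decide_odd _ (hv χ₀ hχ₀) hodd
    obtain ⟨χa, χb, χc, hab, hac, hbc, hthree⟩ := Finset.card_eq_three.1
      (show ((S.Z.erase (one' G)).erase χ₀).card = 3 by rw [Finset.card_erase_of_mem hχ₀, hcard])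
    have hmem : ∀ χ ∈ ({χa, χb, χc} : Finset (IrrCharacter G)), χ ∈ S.Z.erase (one' G) := fun χ hχ =>
      Finset.mem_of_mem_erase (hthree ▸ hχ)
    have hsum4 : ∀ {A : Type} [AddCommMonoid A] (F : IrrCharacter G → A),
        ∑ χ ∈ S.Z, F χ = F (one' G) + (F χ₀ + (F χa + (F χb + F χc))) := by
      intro A _ F
      rw [hZ, Finset.sum_insert (Finset.notMem_erase _ _), ← Finset.add_sum_erase _ _ hχ₀, hthree,
        Finset.sum_insert (by simp [hab, hac]), Finset.sum_insert (by simp [hbc]),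
        Finset.sum_singleton]
    have ha := hmem χa (by simp)
    have hb' := hmem χb (by simp)
    have hc' := hmem χc (by simp)
    have e1 : v χa + v χb + v χc = 8 := by
      rw [← Finset.add_sum_erase _ _ hχ₀, hthree, Finset.sum_insert (by simp [hab, hac]),
        Finset.sum_insert (by simp [hbc]), Finset.sum_singleton, hv0] at hrd
      omega
    have e2 : v χa * v χa + v χb * v χb + v χc * v χc ≤ 4238 := by
      rw [hsum4, charDegree_one'] at hsum
      have h1 : ((1 ^ 2 + (charDegree (χ₀ : G → ℂ) ^ 2 + (charDegree (χa : G → ℂ) ^ 2 +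
        (charDegree (χb : G → ℂ) ^ 2 + charDegree (χc : G → ℂ) ^ 2))) : ℕ) : ℤ) ≤ 4320 := by
        exact_mod_cast hsum
      push_cast at h1
      rw [hdsq χ₀ hχ₀, hdsq χa ha, hdsq χb hb', hdsq χc hc', hv0] at h1
      omega
    have e3 : -(b χ₀) + (v χa).sign * b χa + (v χb).sign * b χb + (v χc).sign * b χc = -1 := by
      have hrel := S.rel t htp
      rw [hsum4, S.sign_one, one'_apply, hbt χ₀ hχ₀, hbt χa ha, hbt χb hb', hbt χc hc',
        ← hvs χ₀ hχ₀, ← hvs χa ha, ← hvs χb hb', ← hvs χc hc', hv0] at hrel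
      have : (1 : ℤ) * 1 + ((-9 : ℤ).sign * b χ₀ + ((v χa).sign * b χa + ((v χb).sign * b χb +
          (v χc).sign * b χc))) = 0 := by exact_mod_cast hrel
      rw [show (-9 : ℤ).sign = -1 from rfl] at this
      omega
    set k := Nat.card (Subgroup.centralizer ({t} : Set G)) with hkdef
    have hk : (k : ℤ) ∈ ([4, 8, 12, 16, 24, 32, 36, 48, 72, 96, 108, 144, 216, 288, 432, 864] : List ℤ) := by
      refine decide_k k (Nat.mem_divisors.2 ⟨?_, by norm_num⟩) (h4 (by norm_num))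
      have h1 : k ∣ 5 * 864 := hm ▸ Subgroup.card_subgroup_dvd_card _
      exact (((Nat.Prime.coprime_iff_not_dvd (by norm_num)).2 hCt).symm).dvd_of_dvd_mul_left h1
    have e4 : (5 : ℤ) * ((k : ℤ) * k) = 4320 + b χ₀ * b χ₀ * (4320 / -9) +
        b χa * b χa * (4320 / v χa) + b χb * b χb * (4320 / v χb) + b χc * b χc * (4320 / v χc) := by
      have hform := S.formula_int hC htp htp hx hx1
      rw [hsum4, hcount, S.sign_one, one'_apply, one'_apply, h] at hform
      have hterm : ∀ χ ∈ S.Z.erase (one' G),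
          (4320 : ℂ) * ((S.σ χ : ℂ) * ((χ : G → ℂ) t * (χ : G → ℂ) t / (χ : G → ℂ) 1)) =
            ((b χ * b χ * (4320 / v χ) : ℤ) : ℂ) := by
        intro χ hχ
        have h1 := decide_div _ (hv χ hχ)
        have hσ : (S.σ χ : ℂ) * (S.σ χ : ℂ) = 1 := by
          rcases S.sign χ (Finset.mem_of_mem_erase hχ) with hs | hs <;> simp [hs]
        have h1' : (S.σ χ : ℂ) * (charDegree (χ : G → ℂ) : ℂ) * ((4320 / v χ : ℤ) : ℂ) = 4320 := by
          rw [← hvd χ hχ] at h1
          have h1'' : ((S.σ χ * (charDegree (χ : G → ℂ) : ℤ)) *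
            (4320 / (S.σ χ * (charDegree (χ : G → ℂ) : ℤ))) : ℤ) = (4320 : ℤ) := h1
          rw [hvd χ hχ] at h1''
          rw [← hvd χ hχ] at h1''
          have h2 := congrArg (fun z : ℤ => (z : ℂ)) h1''
          rw [hvd χ hχ] at h2
          simp only [Int.cast_mul, Int.cast_ofNat] at h2
          rw [show ((S.σ χ : ℂ) * (charDegree (χ : G → ℂ) : ℂ)) =
            ((v χ : ℤ) : ℂ) by rw [← hvd χ hχ]; push_cast; ring]
          exact h2
        have hd0 : (charDegree (χ : G → ℂ) : ℂ) ≠ 0 :=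
          Nat.cast_ne_zero.2 (Cfsg.Lib.Block.charDegree_pos χ).ne'
        rw [hbt χ hχ, Cfsg.Lib.Block.apply_one_eq_charDegree]
        conv_lhs => rw [← h1']
        field_simp
        push_cast
        linear_combination (((b χ : ℂ) ^ 2) * ((4320 / v χ : ℤ) : ℂ)) * hσ
      simp only [mul_add, Nat.cast_ofNat] at hform
      rw [hterm χ₀ hχ₀, hterm χa ha, hterm χb hb', hterm χc hc', hv0] at hform
      have hform' : ((5 * ((k : ℤ) * k) : ℤ) : ℂ) = ((4320 + (b χ₀ * b χ₀ * (4320 / -9) +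
          (b χa * b χa * (4320 / v χa) + (b χb * b χb * (4320 / v χb) +
            b χc * b χc * (4320 / v χc)))) : ℤ) : ℂ) := by
        simp only [Int.cast_mul, Int.cast_add, Int.cast_natCast, Int.cast_ofNat]
        simp only [Int.cast_mul] at hform
        linear_combination hform
      have := Int.cast_injective (α := ℂ) hform'
      linarith
    have e5 := decide_form _ (by
        have := hb χ₀ hχ₀
        rw [hv0] at this
        exact this) _ (hv χa ha) _ (hv χb hb') _ (hv χc hc') e1 e2 _ (hb χa ha) _ (hb χb hb') _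
      (hb χc hc') e3 _ hk e4
    have h6 := S.orth_le t
    rw [hsum4, one'_apply, hbt χ₀ hχ₀, hbt χa ha, hbt χb hb', hbt χc hc'] at h6
    simp only [norm_one, Complex.norm_intCast, sq_abs, one_pow, ← hkdef] at h6
    have h7 : (1 : ℤ) + ((b χ₀) ^ 2 + ((b χa) ^ 2 + ((b χb) ^ 2 + (b χc) ^ 2))) ≤ (k : ℤ) := by
      exact_mod_cast h6
    nlinarith

end Cfsg.Agent.S0977
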