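import Cfsg.Statements.S0978
import Cfsg.Agent.Lib.Small.BlockOrders
import Mathlib.NumberTheory.Divisors
-- import your own Cfsg.Agent.* helpers here

set_option autoImplicit false
open Cfsg

namespace Cfsg.Agent.S0978

open Cfsg.Lib.Small
open scoped ComplexConjugate
open Cfsg.Lib

universe u

variable {G : Type u} [Group G] [Fintype G]

theorem decide_two : ∀ d ∈ Nat.divisors 720, ∀ f ∈ Nat.divisors 720, 2 ≤ d →
    ((d % 7 = 1 ∧ f = d + 1) ∨ ((d + 1) % 7 = 0 ∧ f + 1 = d)) →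
    1 + d ^ 2 + 3 * f ^ 2 ≤ 5040 → d < 14 ∨ f < 14 ∨ d = 15 ∧ f = 16 := by decide +kernel

theorem decide_three : ∀ d₁ ∈ Nat.divisors 720, ∀ s₁ ∈ ([1, -1] : List ℤ), (s₁ * d₁ - 1) % 7 = 0 →
    ∀ d₂ ∈ Nat.divisors 720, ∀ s₂ ∈ ([1, -1] : List ℤ), (s₂ * d₂ - 1) % 7 = 0 →
    ∀ f ∈ Nat.divisors 720, ∀ s ∈ ([1, -1] : List ℤ), (s * f + 3) % 7 = 0 →
    1 + s₁ * d₁ + s₂ * d₂ + s * f = 0 → 1 + d₁ ^ 2 + d₂ ^ 2 + 2 * f ^ 2 ≤ 5040 →
    d₁ < 14 ∨ d₂ < 14 ∨ f < 14 := by decide +kernel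

/-- The possible signed degrees. -/
def vals : List ℤ := [-6, 8, 15, -20, 36, -48]

theorem decide_val : ∀ d ∈ Nat.divisors 720, 2 ≤ d → d ^ 2 ≤ 5039 →
    ∀ s ∈ ([1, -1] : List ℤ), (s * d - 1) % 7 = 0 → s * (d : ℤ) ∈ vals := by decide +kernel

/-- The determinant at an involution of a perfect group. -/
theorem four_dvd (hperf : commutator G = ⊤) (χ : IrrCharacter G) {t : G} (ht : t ^ 2 = 1) {b : ℤ}
    (hb : (χ : G → ℂ) t = (b : ℂ)) : (4 : ℤ) ∣ (charDegree (χ : G → ℂ) : ℤ) - b := by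
  classical
  obtain ⟨n, ρ, -, hρ⟩ := χ.2
  obtain ⟨e, μ, he, hμ⟩ := Char.exists_eigenbasis ρ t
  have hpm : ∀ i, μ i = 1 ∨ μ i = -1 := fun i => by
    obtain ⟨k, hk⟩ := orderOf_dvd_of_pow_eq_one ht
    refine sq_eq_one_iff.1 ?_
    rw [hk, pow_mul, hμ, one_pow]
  set A := Finset.univ.filter fun i => μ i = -1 with hA
  have hprod := prod_eigen_eq_one hperf ρ t e μ he
  rw [← Finset.prod_filter_mul_prod_filter_not Finset.univ (fun i => μ i = -1), ← hA,
    Finset.prod_congr rfl (fun i hi => (Finset.mem_filter.1 hi).2),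
    Finset.prod_eq_one (fun i hi => (hpm i).resolve_right (Finset.mem_filter.1 hi).2), mul_one,
    Finset.prod_const, neg_one_pow_eq_one_iff_even (by norm_num)] at hprod
  have h1 : (χ : G → ℂ) t = (Fintype.card (Fin (Module.finrank ℂ (Fin n → ℂ))) : ℂ) - 2 * (A.card : ℂ) := by
    rw [← hρ, show ρ.character t = ∑ i, μ i from Char.trace_eq_sum_of_eigenbasis _ e _ he,
      ← Finset.sum_filter_add_sum_filter_not Finset.univ (fun i => μ i = -1), ← hA,
      Finset.sum_congr rfl (fun i hi => (Finset.mem_filter.1 hi).2),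
      Finset.sum_congr rfl (s₂ := Finset.univ.filter fun i => ¬ μ i = -1)
        (fun i hi => (hpm i).resolve_right (Finset.mem_filter.1 hi).2), Finset.sum_const, Finset.sum_const,
      ← Finset.card_univ, ← Finset.card_filter_add_card_filter_not (s := Finset.univ) (fun i => μ i = -1), ← hA]
    simp only [nsmul_eq_mul, Nat.cast_add]
    ring
  have h2 : (χ : G → ℂ) 1 = (Fintype.card (Fin (Module.finrank ℂ (Fin n → ℂ))) : ℂ) := by
    rw [← hρ, Representation.char_one, Fintype.card_fin]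
  rw [Block.apply_one_eq_charDegree] at h2
  rw [hb, ← h2] at h1
  have h3 : b = (charDegree (χ : G → ℂ) : ℤ) - 2 * (A.card : ℤ) := by exact_mod_cast h1
  obtain ⟨k, hk⟩ := hprod
  exact ⟨k, by rw [h3, hk]; push_cast; ring⟩

/-- Multiplicities of the eigenvalues of an element centralizing the Sylow subgroup. -/
theorem mult_dvd {p r : ℕ} [Fact p.Prime] [Fact r.Prime] {P : Sylow p G} {e : ℕ} (S : Shape P e)
    (hrp : r ≠ p) {y' : G} (hy'C : y' ∈ Subgroup.centralizer ((P : Subgroup G) : Set G))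
    (hy' : orderOf y' = r) {χ : IrrCharacter G} (hχ : χ ∈ S.X) {n : ℕ}
    {ρ : Representation ℂ G (Fin n → ℂ)} (hρ' : ρ.character = (χ : G → ℂ))
    {μ : Fin (Module.finrank ℂ (Fin n → ℂ)) → ℂ} (hμ' : ∀ i, μ i ^ orderOf y' = 1)
    (hval' : ∀ i : ℕ, (χ : G → ℂ) (y' ^ i) = ∑ j, μ j ^ i) {lam : ℂ} (hl : lam ^ r = 1) (hl1 : lam ≠ 1) :
    p ∣ (Finset.univ.filter fun j => μ j = lam).card := by
  classical
  have hpp : p.Prime := Fact.out
  have hr : r.Prime := Fact.out
  set C := Subgroup.centralizer ((P : Subgroup G) : Set G)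
  have hy'1 : y' ≠ 1 := fun h => hr.ne_one (by rw [← hy', h, orderOf_one])
  have hcop : p.Coprime r := (Nat.coprime_primes hpp hr).2 (Ne.symm hrp)
  obtain ⟨a, ha⟩ := exists_pow_eq_self_of_coprime (x := y') (n := p) (hy'.symm ▸ hcop)
  set y := y' ^ a with hy
  have hyC : y ∈ C := pow_mem hy'C a
  have hyp : y ^ p = y' := by rw [hy, ← pow_mul, mul_comm, pow_mul]; exact ha
  have hyr : y ^ r = 1 := by rw [hy, ← pow_mul, mul_comm, pow_mul, ← hy', pow_orderOf_eq_one, one_pow]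
  haveI : Nontrivial (P : Subgroup G) := by
    rw [← Finite.one_lt_card_iff_nontrivial, S.card_P]; exact hpp.one_lt
  obtain ⟨⟨x, hx⟩, hx1'⟩ := exists_ne (1 : (P : Subgroup G))
  have hx1 : x ≠ 1 := fun h => hx1' (Subtype.ext h)
  have hxo : orderOf x = p := by
    rw [← Nat.card_zpowers, zpowers_eq_of_prime_card S.card_P hx hx1, S.card_P]
  have hxy : Commute x y := (Subgroup.mem_centralizer_iff.1 hyC x hx)
  set g := x * y with hg
  have hgp : g ^ p = y' := by
    rw [hg, hxy.mul_pow, ← hxo, pow_orderOf_eq_one, one_mul, hxo, hyp]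
  have hgN : g ^ (p * r) = 1 := by rw [pow_mul, hgp, ← hy', pow_orderOf_eq_one]
  -- divisibility of the eigenvalue sums by `r p`
  set W : IrrCharacter G → ℂ → ℂ := fun ψ lam =>
    ∑ k ∈ Finset.range r, (lam⁻¹) ^ k * (ψ : G → ℂ) (y' ^ k) with hW
  have hkey : ∀ ψ ∈ S.X, ∀ lam : ℂ, lam ^ r = 1 → lam ≠ 1 →
      ∃ n : ℤ, W ψ lam = ((r * p : ℕ) : ℂ) * (n : ℂ) := by
    intro ψ hψ lam hl hl1
    obtain ⟨n, ρ, -, hρ⟩ := ψ.2
    obtain ⟨b, μ, hb, hμ⟩ := Char.exists_eigenbasis ρ g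
    have hμN : ∀ j, μ j ^ (p * r) = 1 := fun j => by
      obtain ⟨k, hk⟩ := orderOf_dvd_of_pow_eq_one hgN
      rw [hk, pow_mul, hμ, one_pow]
    set ν := lam ^ a with hν
    have hνr : ν ^ r = 1 := by rw [hν, ← pow_mul, mul_comm, pow_mul, hl, one_pow]
    have hap : a * p % r = 1 % r := by
      have h1 : y' ^ (a * p) = y' ^ 1 := by rw [pow_mul, ← hy, hyp, pow_one]
      rw [pow_eq_pow_iff_modEq, hy'] at h1
      exact h1
    have hνp : ν ^ p = lam := by
      rw [hν, ← pow_mul, ← Nat.div_add_mod (a * p) r, pow_add, pow_mul, hl, one_pow, one_mul, hap,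
        Nat.one_mod_eq_one.2 hr.ne_one, pow_one]
    have hν1 : ν ≠ 1 := fun h => hl1 (by rw [← hνp, h, one_pow])
    have hνN : ν ^ (p * r) = 1 := by rw [mul_comm, pow_mul, hνr, one_pow]
    have hcount := sum_pow_inv_mul μ hμN hνN
    have hval : ∀ i : ℕ, (ψ : G → ℂ) (g ^ i) = ∑ j, μ j ^ i := by
      intro i
      have hp' : ∀ (k : ℕ) j, ρ (g ^ k) (b j) = μ j ^ k • b j := by
        intro k j
        induction k with
        | zero => simp
        | succ k ih => rw [pow_succ, map_mul, Module.End.mul_apply, hb, map_smul, ih, smul_smul, pow_succ']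
      rw [← hρ]
      exact Char.trace_eq_sum_of_eigenbasis _ b _ (hp' i)
    simp only [← hval] at hcount
    have hsplit : ∀ i : ℕ, ¬ p ∣ i → (ψ : G → ℂ) (g ^ i) = (S.σ ψ : ℂ) := by
      intro i hi
      rw [hg, hxy.mul_pow]
      refine S.val ψ hψ _ (pow_mem hx i) (fun h => hi (hxo ▸ orderOf_dvd_of_pow_eq_one h)) _
        (pow_mem hyC i) fun h => ?_
      have h1 : orderOf (y ^ i) ∣ r :=
        orderOf_dvd_of_pow_eq_one (by rw [← pow_mul, mul_comm, pow_mul, hyr, one_pow])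
      exact hrp ((Nat.prime_dvd_prime_iff_eq hpp hr).1 (h.trans h1)).symm
    have hzero : ∑ i ∈ Finset.range (p * r), (ν⁻¹) ^ i = (0 : ℂ) := by
      rw [geom_sum_eq (fun h => hν1 (inv_eq_one.1 h)), inv_pow, hνN, inv_one, sub_self, zero_div]
    have hzero' : ∑ k ∈ Finset.range r, (lam⁻¹) ^ k = (0 : ℂ) := by
      rw [geom_sum_eq (fun h => hl1 (inv_eq_one.1 h)), inv_pow, hl, inv_one, sub_self, zero_div]
    have hset : (Finset.range (p * r)).filter (fun i => p ∣ i) =
        (Finset.range r).image (fun k => p * k) := by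
      ext i
      simp only [Finset.mem_filter, Finset.mem_range, Finset.mem_image]
      constructor
      · rintro ⟨hi, k, rfl⟩
        exact ⟨k, Nat.lt_of_mul_lt_mul_left hi, rfl⟩
      · rintro ⟨k, hk, rfl⟩
        exact ⟨Nat.mul_lt_mul_of_pos_left hk hpp.pos, dvd_mul_right _ _⟩
    have hdiff : ∑ i ∈ Finset.range (p * r), (ν⁻¹) ^ i * ((ψ : G → ℂ) (g ^ i) - (S.σ ψ : ℂ)) =
        W ψ lam := by
      rw [← Finset.sum_subset (Finset.filter_subset (fun i => p ∣ i) _) fun i hi hi' => by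
        rw [hsplit i (fun h => hi' (Finset.mem_filter.2 ⟨hi, h⟩)), sub_self, mul_zero],
        hset, Finset.sum_image fun k _ k' _ h => Nat.eq_of_mul_eq_mul_left hpp.pos h]
      simp only [mul_sub, pow_mul, hgp, inv_pow, hνp]
      rw [Finset.sum_sub_distrib, ← Finset.sum_mul]
      simp only [← inv_pow]
      rw [hzero', zero_mul, sub_zero]
    refine ⟨((Finset.univ.filter fun j => μ j = ν).card : ℤ), ?_⟩
    rw [← hdiff]
    simp only [mul_sub, Finset.sum_sub_distrib, ← Finset.sum_mul, hzero, zero_mul, sub_zero, hcount,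
      Int.cast_natCast, mul_comm r p]
  obtain ⟨k, hk⟩ := hkey χ hχ lam hl hl1
  rw [hy'] at hμ'
  have h1 := sum_pow_inv_mul μ hμ' hl
  simp only [← hval'] at h1
  have hk' : ((r : ℂ)) * ((Finset.univ.filter fun j => μ j = lam).card : ℂ) =
      ((r * p : ℕ) : ℂ) * (k : ℂ) := h1.symm.trans hk
  rw [Nat.cast_mul, mul_assoc] at hk'
  have hk'' := mul_left_cancel₀ (Nat.cast_ne_zero.2 hr.ne_zero) hk'
  have : ((Finset.univ.filter fun j => μ j = lam).card : ℤ) = (p : ℤ) * k := by exact_mod_cast hk''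
  exact Int.natCast_dvd_natCast.1 ⟨k, this⟩

/-- The value of the member of degree fifteen at an element of order two or three centralizing `P`. -/
theorem fifteen_value [IsSimpleGroup G] [Fact (Nat.Prime 7)] {P : Sylow 7 G} {e : ℕ} (S : Shape P e)
    (hnc : ¬ IsCyclic G) {χ : IrrCharacter G} (hχ : χ ∈ S.X) (hne : χ ≠ one' G)
    (hd : charDegree (χ : G → ℂ) = 15) {y : G} (hyC : y ∈ Subgroup.centralizer ((P : Subgroup G) : Set G))
    {r : ℕ} (hr : r = 2 ∨ r = 3) (hy : orderOf y = r) :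
    (χ : G → ℂ) y = if r = 2 then -13 else -6 := by
  classical
  haveI : Fact r.Prime := ⟨by rcases hr with rfl | rfl <;> norm_num⟩
  obtain ⟨n, ρ, -, hρ⟩ := χ.2
  obtain ⟨b, μ, hb, hμ⟩ := Char.exists_eigenbasis ρ y
  have hval : ∀ i : ℕ, (χ : G → ℂ) (y ^ i) = ∑ j, μ j ^ i := by
    intro i
    have hp' : ∀ (k : ℕ) j, ρ (y ^ k) (b j) = μ j ^ k • b j := by
      intro k j
      induction k with
      | zero => simp
      | succ k ih => rw [pow_succ, map_mul, Module.End.mul_apply, hb, map_smul, ih, smul_smul, pow_succ']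
    rw [← hρ]
    exact Char.trace_eq_sum_of_eigenbasis _ b _ (hp' i)
  have hN : Fintype.card (Fin (Module.finrank ℂ (Fin n → ℂ))) = 15 := by
    have h := hval 0
    simp only [pow_zero, Finset.sum_const, Finset.card_univ, nsmul_one, Block.apply_one_eq_charDegree, hd] at h
    exact_mod_cast h.symm
  set ω : ℂ := Complex.exp (2 * Real.pi * Complex.I / (r : ℂ)) with hω
  have hprim : IsPrimitiveRoot ω r := Complex.isPrimitiveRoot_exp r (by omega)
  have hr3 : r ≤ 3 := by omega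
  have hpos : 1 < r := by omega
  set m : ℕ → ℕ := fun i => (Finset.univ.filter fun j => μ j = ω ^ i).card with hm
  have hfib : ∀ {A : Type} [AddCommMonoid A] (F : ℂ → A),
      ∑ j, F (μ j) = ∑ i ∈ Finset.range r, m i • F (ω ^ i) := by
    intro A _ F
    have hmaps : ∀ j ∈ (Finset.univ : Finset (Fin (Module.finrank ℂ (Fin n → ℂ)))),
        μ j ∈ (Finset.range r).image (fun i => ω ^ i) := fun j _ => by
      obtain ⟨i, hi, hij⟩ := hprim.eq_pow_of_pow_eq_one (hy ▸ hμ j)
      exact Finset.mem_image.2 ⟨i, Finset.mem_range.2 hi, hij⟩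
    rw [← Finset.sum_fiberwise_of_maps_to hmaps, Finset.sum_image (fun i hi j hj h =>
      hprim.pow_inj (Finset.mem_range.1 hi) (Finset.mem_range.1 hj) h)]
    refine Finset.sum_congr rfl fun i _ => ?_
    rw [Finset.sum_congr rfl fun j hj => by rw [(Finset.mem_filter.1 hj).2], Finset.sum_const]
  have hdvd : ∀ i < r, i ≠ 0 → 7 ∣ m i := fun i hi hi0 =>
    mult_dvd (r := r) S (by omega) hyC hy hχ hρ hμ hval (by rw [← pow_mul, mul_comm, pow_mul, hprim.pow_eq_one, one_pow])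
      (fun h => by
        have := Nat.le_of_dvd (Nat.pos_of_ne_zero hi0) ((hprim.pow_eq_one_iff_dvd i).1 h)
        omega)
  have hcount : ∑ i ∈ Finset.range r, m i = 15 := by
    have := hfib (fun _ => (1 : ℕ))
    simp only [Finset.sum_const, Finset.card_univ, smul_eq_mul, mul_one, hN] at this
    exact this.symm
  have hone : m 0 ≠ 15 := fun h0 => by
    have hall : ∀ j, μ j = 1 := fun j => by
      have : (Finset.univ.filter fun j => μ j = ω ^ 0) = Finset.univ :=
        Finset.eq_univ_of_card _ (h0.trans hN.symm)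
      have hj := Finset.mem_univ j
      rw [← this, Finset.mem_filter, pow_zero] at hj
      exact hj.2
    have hy1 := eq_one_of_apply_eq hne (g := y) (by
      have h0 := hval 1
      have h1 := hval 0
      rw [pow_one] at h0
      rw [pow_zero] at h1
      rw [h0, h1]
      simp [hall])
    rw [hy1, orderOf_one] at hy
    omega
  have hdet : r ∣ ∑ i ∈ Finset.range r, m i * i := by
    have h := prod_eigen_eq_one (commutator_eq_top hnc) ρ y b μ hb
    have h' := hfib (A := Additive ℂ) (fun z => Additive.ofMul z)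
    rw [← hprim.pow_eq_one_iff_dvd, ← Finset.prod_pow_eq_pow_sum]
    have h2 : Additive.ofMul (∏ j, μ j) = Additive.ofMul (∏ i ∈ Finset.range r, ω ^ (m i * i)) := by
      rw [ofMul_prod, ofMul_prod, h']
      exact Finset.sum_congr rfl fun i _ => by rw [mul_comm, pow_mul, ofMul_pow, ofMul_pow, ofMul_pow]
    rw [← Additive.ofMul.injective h2, h]
  have hv := hval 1
  have hs := hfib (fun z => z)
  simp only [pow_one] at hv
  rw [hv, hs]
  rcases hr with rfl | rfl
  · have h1 := hdvd 1 one_lt_two one_ne_zero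
    simp only [Finset.sum_range_succ, Finset.sum_range_zero, zero_add] at hcount hdet ⊢
    have e1 : m 1 = 14 := by omega
    have e0 : m 0 = 1 := by omega
    rw [e0, e1, pow_zero, pow_one, hprim.eq_neg_one_of_two_right]
    norm_num
  · have h1 := hdvd 1 (by norm_num) one_ne_zero
    have h2 := hdvd 2 (by norm_num) (by norm_num)
    simp only [Finset.sum_range_succ, Finset.sum_range_zero, zero_add] at hcount hdet ⊢
    have e1 : m 1 = 7 := by omega
    have e2 : m 2 = 7 := by omega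
    have e0 : m 0 = 1 := by omega
    have hg := hprim.geom_sum_eq_zero (by norm_num)
    simp only [Finset.sum_range_succ, Finset.sum_range_zero, zero_add] at hg
    rw [e0, e1, e2, if_neg (by norm_num)]
    simp only [nsmul_eq_mul]
    push_cast
    linear_combination 7 * hg

theorem decide_c : ∀ n ∈ Nat.divisors 720, n % 7 = 1 → n ≠ 1 → ∀ c ∈ Nat.divisors 720,
    n * 2 * c = 720 → 2 ∣ c ∨ 3 ∣ c := by decide +kernel

theorem decide_small : ∀ k ∈ Nat.divisors 5040,
    (15 ∣ 5040 / k * 13 ∧ 16 ∣ 5040 / k * 12 → k < 170) ∧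
    (15 ∣ 5040 / k * 6 ∧ 16 ∣ 5040 / k * 5 → k < 112) := by decide +kernel

theorem decide_six : ∀ b15 ∈ ([-1, 3] : List ℤ), ∀ b36 ∈ ([-4, 0, 4] : List ℤ), ∀ b48 ∈ ([-4, 0, 4] : List ℤ),
    1 + b15 + b36 - b48 = 0 → ∀ k ∈ List.range 48,
      7 * ((k : ℤ) * k) ≠ 5040 + 336 * (b15 * b15) + 140 * (b36 * b36) - 105 * (b48 * b48) := by
  decide +kernel

/-- No finite simple group has order 5040 = 2^4 * 3^2 * 5 * 7. -/
theorem result {G : Type*} [Group G] [Finite G] [IsSimpleGroup G] : Nat.card G ≠ 5040 := by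
  classical
  intro h
  haveI := Fintype.ofFinite G
  haveI : Fact (Nat.Prime 7) := ⟨by norm_num⟩
  have hm : Nat.card G = 7 * 720 := by rw [h]
  have hnc : ¬ IsCyclic G := not_isCyclic_of_card (by rw [h]; norm_num)
  have hsq := block_setup_c (G := G) (p := 7) hm (by norm_num)
  obtain ⟨P, e, c, n, ⟨S⟩, hC, hnec, hn, hn1, he2, hed, -⟩ :=
    block_setup (G := G) (p := 7) (by norm_num) hm (by norm_num) (by norm_num)
  have hc1 : ∀ χ ∈ S.Z, χ ≠ one' G → charDegree (χ : G → ℂ) < 14 → c = 1 := fun χ hχ hne hlt => by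
    have := S.small hnc hsq hχ hne hlt
    rw [hC] at this
    omega
  have he : e = 2 ∨ e = 3 ∨ e = 6 := by
    have := Nat.le_of_dvd (by norm_num) hed
    interval_cases e <;> simp_all
  rcases he with rfl | rfl | rfl
  · obtain ⟨χ, hχX, hne, hX, -, hθ1, hd2, -, hdm, hfm, hor, hsum⟩ :=
      S.two_cases hnc hm rfl (by norm_num)
    rcases decide_two _ (Nat.mem_divisors.2 ⟨hdm, by norm_num⟩) _
        (Nat.mem_divisors.2 ⟨hfm, by norm_num⟩) hd2 (hor.imp (fun h => ⟨h.2.2.1, h.2.2.2⟩)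
          (fun h => ⟨h.2.2.1, h.2.2.2⟩)) (by rw [h] at hsum; exact hsum) with hs | hs | ⟨hd, hf⟩
    · have hcc := hc1 χ (S.mem_Z.2 (Or.inr hχX)) hne hs
      subst hcc
      omega
    · have hcc := hc1 _ (S.mem_Z.2 (Or.inl rfl)) hθ1 hs
      subst hcc
      omega
    have hs1 : S.σ χ = 1 ∧ S.σ S.θ = -1 := by
      rcases hor with ⟨a, b, -, -⟩ | ⟨-, -, -, h4⟩
      · exact ⟨a, b⟩
      · omega
    obtain ⟨r, hr, hrc⟩ : ∃ r, (r = 2 ∨ r = 3) ∧ r ∣ c := by
      rcases decide_c n (Nat.mem_divisors.2 ⟨⟨2 * c, by rw [← hnec]; ring⟩, by norm_num⟩) hn hn1 c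
        (Nat.mem_divisors.2 ⟨⟨n * 2, by rw [← hnec]; ring⟩, by norm_num⟩) hnec with h' | h'
      exacts [⟨2, Or.inl rfl, h'⟩, ⟨3, Or.inr rfl, h'⟩]
    haveI : Fact r.Prime := ⟨by rcases hr with rfl | rfl <;> norm_num⟩
    obtain ⟨⟨y, hyC⟩, hyo⟩ := exists_prime_orderOf_dvd_card'
      (G := Subgroup.centralizer ((P : Subgroup G) : Set G)) r (hC ▸ dvd_mul_of_dvd_right hrc 7)
    rw [Subgroup.orderOf_mk] at hyo
    have hy7 : ¬ 7 ∣ orderOf y := by rw [hyo]; rcases hr with rfl | rfl <;> norm_num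
    have hχy := fifteen_value S hnc hχX hne hd hyC hr hyo
    have hrel := S.rel y hy7
    rw [S.Z_eq, Finset.sum_insert S.θ_notMem, hX, Finset.sum_insert (by simp [hne.symm]), Finset.sum_singleton,
      S.sign_one, hs1.1, hs1.2, one'_apply, hχy] at hrel
    set k := Nat.card (Subgroup.centralizer ({y} : Set G)) with hkdef
    have hk : k ∈ Nat.divisors 5040 :=
      Nat.mem_divisors.2 ⟨h ▸ Subgroup.card_subgroup_dvd_card _, by norm_num⟩
    have hint : ∀ ψ : IrrCharacter G, ∀ a : ℕ, (ψ : G → ℂ) y = -(a : ℂ) →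
        charDegree (ψ : G → ℂ) ∣ 5040 / k * a := fun ψ a hψ => by
      have h1 := (ψ.2.isIntegral_class y).neg
      rw [hψ, Block.apply_one_eq_charDegree, mul_neg, neg_div, neg_neg, ← Nat.cast_mul,
        Char.card_classFinset] at h1
      have h2 := Char.natCast_dvd_of_isIntegral (Block.charDegree_pos ψ).ne' h1
      have hidx := (Subgroup.centralizer ({y} : Set G)).index_mul_card
      rw [h, ← hkdef] at hidx
      rwa [show 5040 / k = (Subgroup.centralizer ({y} : Set G)).index from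
        Nat.div_eq_of_eq_mul_left Nat.card_pos hidx.symm]
    have horth : ∑ ψ ∈ S.X ∪ S.Y, ‖(ψ : G → ℂ) y‖ ^ 2 ≤ (k : ℝ) := by
      have h1 := Char.column_orthogonality y y
      rw [if_pos (IsConj.refl y)] at h1
      simp only [Complex.mul_conj, Complex.normSq_eq_norm_sq] at h1
      rw [← Complex.ofReal_sum, ← Complex.ofReal_natCast, Complex.ofReal_inj] at h1
      rw [hkdef, ← h1]
      exact Finset.sum_le_sum_of_subset_of_nonneg (Finset.subset_univ _) fun _ _ _ => by positivity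
    rw [Finset.sum_union S.disj, hX, Finset.sum_insert (by simp [hne.symm]), Finset.sum_singleton, one'_apply,
      norm_one, Finset.sum_congr rfl fun ψ hψ => by rw [S.agree ψ hψ y hy7], Finset.sum_const, S.card_Y,
      nsmul_eq_mul, hχy] at horth
    norm_num at horth
    rcases hr with rfl | rfl
    · rw [if_pos rfl] at hrel hχy horth
      have hθy : (S.θ : G → ℂ) y = -((12 : ℕ) : ℂ) := by push_cast at hrel ⊢; linear_combination -hrel
      have := (decide_small k hk).1 ⟨hd ▸ hint χ 13 (by rw [hχy]; norm_num), hf ▸ hint S.θ 12 hθy⟩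
      rw [hθy] at horth
      norm_num at horth
      have : (602 : ℕ) ≤ k := by exact_mod_cast horth
      omega
    · rw [if_neg (by norm_num)] at hrel hχy horth
      have hθy : (S.θ : G → ℂ) y = -((5 : ℕ) : ℂ) := by push_cast at hrel ⊢; linear_combination -hrel
      have := (decide_small k hk).2 ⟨hd ▸ hint χ 6 (by rw [hχy]; norm_num), hf ▸ hint S.θ 5 hθy⟩
      rw [hθy] at horth
      norm_num at horth
      have : (112 : ℕ) ≤ k := by exact_mod_cast horth
      omega
  · obtain ⟨χ, ψ, d₁, d₂, f, ⟨hχ, hne, hd1⟩, ⟨hψ, hne', hd2⟩, ⟨hθ1, hf⟩, -, -, -, hd1m, hd2m, hfm,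
      hsum, s₁, hs₁, s₂, hs₂, s, hs, c1, c2, c3, hrel⟩ := S.three_cases hnc hm rfl (by norm_num)
    have hcc : c = 1 := by
      rcases decide_three d₁ (Nat.mem_divisors.2 ⟨hd1m, by norm_num⟩) s₁ hs₁ c1 d₂
        (Nat.mem_divisors.2 ⟨hd2m, by norm_num⟩) s₂ hs₂ c2 f
        (Nat.mem_divisors.2 ⟨hfm, by norm_num⟩) s hs c3 hrel (by rw [h] at hsum; exact hsum) with
        hs | hs | hs
      · exact hc1 χ hχ hne (hd1 ▸ hs)
      · exact hc1 ψ hψ hne' (hd2 ▸ hs)
      · exact hc1 _ (S.mem_Z.2 (Or.inl rfl)) hθ1 (hf ▸ hs)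
    subst hcc
    omega
  · have hsum : ∑ χ ∈ S.Z, charDegree (χ : G → ℂ) ^ 2 ≤ 5040 := by
      have h2 := S.sum_sq
      rw [h] at h2
      rw [S.Z_eq, Finset.sum_insert S.θ_notMem]
      norm_num at h2
      omega
    set Z' := S.Z.erase (one' G) with hZ'
    have hZsum : ∀ {A : Type} [AddCommMonoid A] (F : IrrCharacter G → A),
        ∑ χ ∈ S.Z, F χ = F (one' G) + ∑ χ ∈ Z', F χ := fun F => (Finset.add_sum_erase _ _ S.one_mem).symm
    rw [hZsum, charDegree_one'] at hsum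
    set v : IrrCharacter G → ℤ := fun χ => S.σ χ * (charDegree (χ : G → ℂ) : ℤ) with hvdef
    have hvv : ∀ χ ∈ S.Z, v χ ∈ vals ∨ χ = one' G := by
      intro χ hχ
      by_cases hne : χ = one' G
      · exact Or.inr hne
      refine Or.inl (decide_val _ (Nat.mem_divisors.2 ⟨S.deg_dvd hm hχ, by norm_num⟩) (two_le_charDegree hnc hne) ?_ _
        (by rcases S.sign χ hχ with hs | hs <;> simp [hs]) (Int.emod_eq_zero_of_dvd (Int.modEq_iff_dvd.1 (S.cong_all rfl hχ).symm)))
      have := Finset.single_le_sum (s := Z') (f := fun χ : IrrCharacter G => charDegree (χ : G → ℂ) ^ 2)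
        (fun _ _ => Nat.zero_le _) (Finset.mem_erase.2 ⟨hne, hχ⟩)
      omega
    have hv : ∀ χ ∈ Z', v χ ∈ vals := fun χ hχ =>
      (hvv χ (Finset.mem_of_mem_erase hχ)).resolve_right (Finset.ne_of_mem_erase hχ)
    have hmaps : ∀ χ ∈ Z', v χ ∈ ({-6, 8, 15, -20, 36, -48} : Finset ℤ) := fun χ hχ => by
      simpa [vals] using hv χ hχ
    have hsplit : ∀ {A : Type} [AddCommMonoid A] (F : IrrCharacter G → A), ∑ χ ∈ Z', F χ =
        (∑ χ ∈ Z' with v χ = -6, F χ) + ((∑ χ ∈ Z' with v χ = 8, F χ) + ((∑ χ ∈ Z' with v χ = 15, F χ) +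
          ((∑ χ ∈ Z' with v χ = -20, F χ) + ((∑ χ ∈ Z' with v χ = 36, F χ) + (∑ χ ∈ Z' with v χ = -48, F χ))))) := by
      intro A _ F
      rw [← Finset.sum_fiberwise_of_maps_to hmaps]
      simp
    have hconst : ∀ (w : ℤ) {A : Type} [AddCommMonoid A] (F : ℤ → A),
        ∑ χ ∈ Z' with v χ = w, F (v χ) = (Z'.filter fun χ => v χ = w).card • F w := fun w A _ F => by
      rw [Finset.sum_congr rfl fun χ hχ => by rw [(Finset.mem_filter.1 hχ).2], Finset.sum_const]
    have hd2 : ∀ χ ∈ Z', (charDegree (χ : G → ℂ) : ℤ) ^ 2 = v χ * v χ := fun χ hχ => by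
      rcases S.sign χ (Finset.mem_of_mem_erase hχ) with hs | hs <;> simp only [hvdef, hs] <;> ring
    have e6 : ∑ χ ∈ Z', (1 : ℤ) = 6 := by
      rw [Finset.sum_const, hZ', Finset.card_erase_of_mem S.one_mem, S.card_Z]; rfl
    have e1 : ∑ χ ∈ Z', v χ = -1 := by
      have := S.rel_deg
      rw [hZsum, S.sign_one, charDegree_one'] at this
      push_cast at this
      show (∑ χ ∈ Z', S.σ χ * (charDegree (χ : G → ℂ) : ℤ)) = -1
      omega
    have e2 : ∑ χ ∈ Z', v χ * v χ ≤ 5039 := by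
      rw [← Finset.sum_congr rfl hd2]
      have : ((1 ^ 2 + ∑ χ ∈ Z', charDegree (χ : G → ℂ) ^ 2 : ℕ) : ℤ) ≤ 5040 := by exact_mod_cast hsum
      push_cast at this
      linarith
    rw [hsplit, hconst (-6) (fun _ => (1 : ℤ)), hconst 8 (fun _ => (1 : ℤ)), hconst 15 (fun _ => (1 : ℤ)),
      hconst (-20) (fun _ => (1 : ℤ)), hconst 36 (fun _ => (1 : ℤ)), hconst (-48) (fun _ => (1 : ℤ))] at e6
    rw [hsplit, hconst (-6) (fun z => z), hconst 8 (fun z => z), hconst 15 (fun z => z),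
      hconst (-20) (fun z => z), hconst 36 (fun z => z), hconst (-48) (fun z => z)] at e1
    rw [hsplit, hconst (-6) (fun z => z * z), hconst 8 (fun z => z * z), hconst 15 (fun z => z * z),
      hconst (-20) (fun z => z * z), hconst 36 (fun z => z * z), hconst (-48) (fun z => z * z)] at e2
    simp only [nsmul_eq_mul, mul_one] at e6 e1 e2
    obtain ⟨χ₁, hχ₁, hlt⟩ : ∃ χ ∈ Z', charDegree (χ : G → ℂ) < 14 := by
      by_contra hno
      push Not at hno
      have hz : ∀ w : ℤ, w * w < 196 → (Z'.filter fun χ => v χ = w).card = 0 := fun w hw => by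
        rw [Finset.card_eq_zero, Finset.filter_eq_empty_iff]
        intro χ hχ hvw
        have h1 := hd2 χ hχ
        rw [hvw] at h1
        have : (14 : ℤ) ≤ charDegree (χ : G → ℂ) := by exact_mod_cast hno χ hχ
        nlinarith
      rw [hz (-6) (by norm_num), hz 8 (by norm_num)] at e6 e1 e2
      push_cast at e6 e1 e2
      generalize (Z'.filter fun χ => v χ = 36).card = a36 at e6 e1 e2
      generalize (Z'.filter fun χ => v χ = -48).card = a48 at e6 e1 e2
      have : a36 ≤ 3 := by omega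
      have : a48 ≤ 2 := by omega
      interval_cases a36 <;> interval_cases a48 <;> omega
    have hcc := hc1 χ₁ (Finset.mem_of_mem_erase hχ₁) (Finset.ne_of_mem_erase hχ₁) hlt
    subst hcc
    rw [mul_one] at hC
    obtain ⟨t, x, hx, hx1, ht, hinv, hcount, -, -, -⟩ :=
      exists_inverting (p := 7) (by norm_num) P S.card_P hC S.relIndex_eq (by norm_num)
    have htp : ¬ 7 ∣ orderOf t := by rw [ht]; norm_num
    have ht2 : t ^ 2 = 1 := by rw [← ht, pow_orderOf_eq_one]
    have hdata : ∀ χ ∈ Z', ∃ b : ℤ, (χ : G → ℂ) t = (b : ℂ) ∧ v χ ≠ -6 ∧ (v χ = 8 → b = 0) ∧ (v χ = -20 → b = 0) ∧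
        (v χ = 15 → b = -1 ∨ b = 3) ∧ (v χ = 36 → b = -4 ∨ b = 0 ∨ b = 4) ∧ (v χ = -48 → b = -4 ∨ b = 0 ∨ b = 4) := by
      intro χ hχ
      have hχZ := Finset.mem_of_mem_erase hχ
      obtain ⟨L, b, hb, hL, hbL, -⟩ := S.linBound' (by norm_num) (t := t) ht2 hinv (χ := χ)
        (fun y hy hy1 => S.val_all rfl hχZ hy hy1)
      have h4 := four_dvd (commutator_eq_top hnc) χ ht2 hb
      refine ⟨b, hb, ?_⟩
      rcases S.sign χ hχZ with hs | hs <;> simp only [hvdef, hs] at hL ⊢ <;> push_cast at hL <;> omega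
    choose! b hb hn6 hb8 hb20 hb15 hb36 hb48 using hdata
    have hz6 : (Z'.filter fun χ => v χ = -6) = ∅ := Finset.filter_eq_empty_iff.2 fun χ hχ => hn6 χ hχ
    rw [hz6, Finset.card_empty] at e6 e1 e2
    obtain ⟨hc15, hc36, hc48⟩ : (Z'.filter fun χ => v χ = 15).card = 1 ∧
        (Z'.filter fun χ => v χ = 36).card ≤ 1 ∧ (Z'.filter fun χ => v χ = -48).card ≤ 1 := by omega
    set B : ℤ → ℤ := fun w => ∑ χ ∈ Z' with v χ = w, b χ with hB
    have hsq : ∀ w, (Z'.filter fun χ => v χ = w).card ≤ 1 → (∑ χ ∈ Z' with v χ = w, b χ * b χ) = B w * B w := by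
      intro w hw
      rcases Nat.le_one_iff_eq_zero_or_eq_one.1 hw with h0 | h1
      · rw [hB, Finset.card_eq_zero.1 h0]; simp [Finset.card_eq_zero.1 h0]
      · obtain ⟨a, ha⟩ := Finset.card_eq_one.1 h1
        simp [hB, ha]
    have hz0 : ∀ w, w = 8 ∨ w = -20 → ∀ χ ∈ Z'.filter (fun χ => v χ = w), b χ = 0 := by
      intro w hw χ hχ
      obtain ⟨hχ1, hχ2⟩ := Finset.mem_filter.1 hχ
      rcases hw with rfl | rfl
      exacts [hb8 χ hχ1 hχ2, hb20 χ hχ1 hχ2]
    have m15 : B 15 ∈ ([-1, 3] : List ℤ) := by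
      obtain ⟨a, ha⟩ := Finset.card_eq_one.1 hc15
      have hm' : a ∈ Z'.filter (fun χ => v χ = 15) := by rw [ha]; exact Finset.mem_singleton_self a
      simpa [hB, ha] using hb15 a (Finset.mem_filter.1 hm').1 (Finset.mem_filter.1 hm').2
    have hm3 : ∀ w, (Z'.filter fun χ => v χ = w).card ≤ 1 →
        (∀ χ ∈ Z', v χ = w → b χ = -4 ∨ b χ = 0 ∨ b χ = 4) → B w ∈ ([-4, 0, 4] : List ℤ) := by
      intro w hw hbw
      rcases Nat.le_one_iff_eq_zero_or_eq_one.1 hw with h0 | h1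
      · simp [hB, Finset.card_eq_zero.1 h0]
      · obtain ⟨a, ha⟩ := Finset.card_eq_one.1 h1
        have hm' : a ∈ Z'.filter (fun χ => v χ = w) := by rw [ha]; exact Finset.mem_singleton_self a
        simpa [hB, ha] using hbw a (Finset.mem_filter.1 hm').1 (Finset.mem_filter.1 hm').2
    have hrelB : 1 + B 15 + B 36 - B (-48) = 0 := by
      have hrel := S.rel t htp
      have hterm : ∀ χ ∈ Z', (S.σ χ : ℂ) * (χ : G → ℂ) t = (((v χ).sign * b χ : ℤ) : ℂ) := by
        intro χ hχ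
        have hdpos : (0 : ℤ) < (charDegree (χ : G → ℂ) : ℤ) := by exact_mod_cast Block.charDegree_pos χ
        rw [hb χ hχ, Int.cast_mul]
        congr 2
        rcases S.sign χ (Finset.mem_of_mem_erase hχ) with hs | hs <;>
          simp [hvdef, hs, Int.sign_eq_one_of_pos hdpos]
      rw [hZsum, S.sign_one, one'_apply, Finset.sum_congr rfl hterm, ← Int.cast_sum] at hrel
      have hi : (1 : ℤ) + ∑ χ ∈ Z', (v χ).sign * b χ = 0 := by exact_mod_cast hrel
      rw [hsplit, hz6, Finset.sum_empty] at hi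
      have hf : ∀ w s : ℤ, w.sign = s → (∑ χ ∈ Z' with v χ = w, (v χ).sign * b χ) = s * B w := fun w s hs => by
        rw [hB, Finset.mul_sum]
        exact Finset.sum_congr rfl fun χ hχ => by rw [(Finset.mem_filter.1 hχ).2, hs]
      rw [hf 8 1 rfl, hf 15 1 rfl, hf (-20) (-1) rfl, hf 36 1 rfl, hf (-48) (-1) rfl] at hi
      have z8 : B 8 = 0 := Finset.sum_eq_zero (hz0 8 (Or.inl rfl))
      have z20 : B (-20) = 0 := Finset.sum_eq_zero (hz0 _ (Or.inr rfl))
      rw [z8, z20] at hi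
      omega
    set k := Nat.card (Subgroup.centralizer ({t} : Set G)) with hkdef
    have key : 7 * ((k : ℤ) * k) =
        5040 + 336 * (B 15 * B 15) + 140 * (B 36 * B 36) - 105 * (B (-48) * B (-48)) := by
      have hform := S.formula_int hC htp htp hx hx1
      rw [hcount, ← hkdef, hZsum, S.sign_one, one'_apply, one'_apply, h, mul_add, Finset.mul_sum] at hform
      have hterm : ∀ χ ∈ Z', ((5040 : ℕ) : ℂ) * ((S.σ χ : ℂ) * ((χ : G → ℂ) t * (χ : G → ℂ) t / (χ : G → ℂ) 1)) =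
          (5040 : ℂ) / (v χ : ℂ) * ((b χ * b χ : ℤ) : ℂ) := by
        intro χ hχ
        have hd0 : (charDegree (χ : G → ℂ) : ℂ) ≠ 0 :=
          Nat.cast_ne_zero.2 (Block.charDegree_pos χ).ne'
        rw [hb χ hχ, Block.apply_one_eq_charDegree]
        rcases S.sign χ (Finset.mem_of_mem_erase hχ) with hs | hs <;> simp only [hvdef, hs] <;> push_cast <;>
          field_simp
      rw [Finset.sum_congr rfl hterm, hsplit, hz6, Finset.sum_empty] at hform
      have hf : ∀ w : ℤ, (∑ χ ∈ Z' with v χ = w, (5040 : ℂ) / (v χ : ℂ) * ((b χ * b χ : ℤ) : ℂ)) =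
          (5040 : ℂ) / (w : ℂ) * (((∑ χ ∈ Z' with v χ = w, b χ * b χ : ℤ)) : ℂ) := fun w => by
        rw [Int.cast_sum, Finset.mul_sum]
        exact Finset.sum_congr rfl fun χ hχ => by rw [(Finset.mem_filter.1 hχ).2]
      have q8 : ∀ w, w = 8 ∨ w = -20 → (∑ χ ∈ Z' with v χ = w, b χ * b χ) = 0 := fun w hw =>
        Finset.sum_eq_zero fun χ hχ => by rw [hz0 w hw χ hχ, zero_mul]
      rw [hf 8, hf 15, hf (-20), hf 36, hf (-48), q8 8 (Or.inl rfl), q8 _ (Or.inr rfl), hsq 15 hc15.le,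
        hsq 36 hc36, hsq (-48) hc48] at hform
      norm_num at hform
      have : ((7 * ((k : ℤ) * k) : ℤ) : ℂ) =
          ((5040 + 336 * (B 15 * B 15) + 140 * (B 36 * B 36) - 105 * (B (-48) * B (-48)) : ℤ) : ℂ) := by
        push_cast; linear_combination hform
      exact_mod_cast this
    have m36 := hm3 36 hc36 hb36
    have m48 := hm3 (-48) hc48 hb48
    refine decide_six _ m15 _ m36 _ m48 hrelB k (List.mem_range.2 ?_) key
    by_contra hk48
    push Not at hk48
    have hk' : (48 : ℤ) ≤ k := by exact_mod_cast hk48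
    simp only [List.mem_cons, List.not_mem_nil, or_false] at m15 m36
    rcases m15 with e' | e' <;> rcases m36 with e'' | e'' | e'' <;> rw [e', e''] at key <;>
      nlinarith [mul_self_nonneg (B (-48))]

end Cfsg.Agent.S0978
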