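import Cfsg.Statements.S0980
import Cfsg.Agent.Lib.Small.BlockOrders
import Cfsg.Agent.Lib.Block.ClassCount
import Mathlib.NumberTheory.Divisors
-- import your own Cfsg.Agent.* helpers here

set_option autoImplicit false
open Cfsg

namespace Cfsg.Agent.S0980

open Cfsg.Lib.Small

theorem decide_two : ∀ d ∈ Nat.divisors 1152, ∀ f ∈ Nat.divisors 1152, 2 ≤ d →
    ((d % 5 = 1 ∧ f = d + 1) ∨ ((d + 1) % 5 = 0 ∧ f + 1 = d)) →
    1 + d ^ 2 + 2 * f ^ 2 ≤ 5760 → (d = 4 ∧ f = 3) ∨ (d = 9 ∧ f = 8) := by decide +kernel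

theorem decide_even : ∀ d ∈ Nat.divisors 1152, 10 ≤ d → (d % 5 = 1 ∨ d % 5 = 4) → 2 ∣ d := by
  decide +kernel

/-- No finite simple group has order 5760 = 2^7 * 3^2 * 5. -/
theorem result {G : Type*} [Group G] [Finite G] [IsSimpleGroup G] : Nat.card G ≠ 5760 := by
  classical
  intro h
  haveI := Fintype.ofFinite G
  haveI : Fact (Nat.Prime 5) := ⟨by norm_num⟩
  haveI : Fact (Nat.Prime 2) := ⟨by norm_num⟩
  have hm : Nat.card G = 5 * 1152 := by rw [h]
  have hnc : ¬ IsCyclic G := not_isCyclic_of_card (by rw [h]; norm_num)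
  have hsq := block_setup_c (G := G) (p := 5) hm (by norm_num)
  obtain ⟨P, e, c, n, ⟨S⟩, hC, hnec, hn, hn1, he2, hed, -⟩ :=
    block_setup (G := G) (p := 5) (by norm_num) hm (by norm_num) (by norm_num)
  have hc1 : ∀ χ ∈ S.Z, χ ≠ one' G → charDegree (χ : G → ℂ) < 10 → c = 1 := fun χ hχ hne hlt => by
    have := S.small hnc hsq hχ hne hlt
    rw [hC] at this
    omega
  have he : e = 2 ∨ e = 4 := by
    have := Nat.le_of_dvd (by norm_num) hed
    interval_cases e <;> simp_all
  rcases he with rfl | rfl
  · obtain ⟨χ, hχX, hne, -, hZ, hθ1, hd2, -, hdm, hfm, hor, hsum⟩ :=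
      S.two_cases hnc hm rfl (by norm_num)
    have hdf := decide_two _ (Nat.mem_divisors.2 ⟨hdm, by norm_num⟩) _
        (Nat.mem_divisors.2 ⟨hfm, by norm_num⟩) hd2 (hor.imp (fun h => ⟨h.2.2.1, h.2.2.2⟩)
          (fun h => ⟨h.2.2.1, h.2.2.2⟩)) (by rw [h] at hsum; exact hsum)
    have hs1 : S.σ χ = -1 ∧ S.σ S.θ = 1 := by
      rcases hor with ⟨-, -, h3, -⟩ | ⟨a, b, -, -⟩
      · rcases hdf with ⟨h1, -⟩ | ⟨h1, -⟩ <;> omega
      · exact ⟨a, b⟩
    have hcc : c = 1 := hc1 χ (S.mem_Z.2 (Or.inr hχX)) hne (by rcases hdf with ⟨h1, -⟩ | ⟨h1, -⟩ <;> omega)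
    subst hcc
    rw [mul_one] at hC
    obtain ⟨t, x, hx, hx1, ht, hinv, hcount, hzero, hCt, -⟩ :=
      exists_inverting (p := 5) (by norm_num) P S.card_P hC S.relIndex_eq (dvd_refl 2)
    have htp : ¬ 5 ∣ orderOf t := by rw [ht]; norm_num
    obtain ⟨L, b, hb, hL, hbL, hpar⟩ := S.linBound (by norm_num) (t := t)
      (by rw [← ht, pow_orderOf_eq_one]) hinv hχX
    rw [hs1.1] at hL
    have hrel := S.rel t htp
    have hform := S.formula_int hC htp htp hx hx1
    have hne3 : S.θ ∉ ({one' G, χ} : Finset (IrrCharacter G)) := by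
      simp only [Finset.mem_insert, Finset.mem_singleton, not_or]
      exact ⟨hθ1, fun e => S.θ_notMem (e ▸ hχX)⟩
    rw [hZ, Finset.sum_insert hne3, Finset.sum_insert (by simp [hne.symm]), Finset.sum_singleton,
      S.sign_one, hs1.1, hs1.2, one'_apply, hb] at hrel
    rw [hZ, Finset.sum_insert hne3, Finset.sum_insert (by simp [hne.symm]), Finset.sum_singleton,
      hcount, S.sign_one, hs1.1, hs1.2, one'_apply, one'_apply, hb,
      Cfsg.Lib.Block.apply_one_eq_charDegree χ, Cfsg.Lib.Block.apply_one_eq_charDegree S.θ,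
      h] at hform
    set k := Nat.card (Subgroup.centralizer ({t} : Set G)) with hk
    push_cast at hrel hform
    have hθt : (S.θ : G → ℂ) t = (b : ℂ) - 1 := by linear_combination hrel
    rw [hθt] at hform
    rcases hdf with ⟨hd, hf⟩ | ⟨hd, hf⟩
    · rw [hd] at hL hform
      rw [hf] at hform
      have hb0 : b = 0 := by push_cast at hL; omega
      subst hb0
      have key : (k : ℤ) * k = 1536 := by
        have : (k : ℂ) * k = 1536 := by
          push_cast at hform; linear_combination (1 / 5 : ℂ) * hform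
        exact_mod_cast this
      have hk2 : k < 40 := by
        by_contra hk2
        push Not at hk2
        have : (40 : ℤ) ≤ k := by exact_mod_cast hk2
        nlinarith
      interval_cases k <;> norm_num at key
    · rw [hd] at hL hform
      rw [hf] at hform
      have hb2 : b = -1 ∨ b = 1 := by push_cast at hL; omega
      have key : (k : ℤ) * k * 5 * 72 = 5760 * (72 - 8 * b ^ 2 + 9 * (b - 1) ^ 2) := by
        have : (k : ℂ) * k * 5 * 72 = 5760 * (72 - 8 * (b : ℂ) ^ 2 + 9 * ((b : ℂ) - 1) ^ 2) := by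
          push_cast at hform; linear_combination (72 : ℂ) * hform
        exact_mod_cast this
      rcases hb2 with rfl | rfl
      · have h40 : k = 40 := by
          have : (k : ℤ) * k = 1600 := by norm_num at key; omega
          nlinarith
        exact hCt (by rw [h40]; norm_num)
      · have h32 : k = 32 := by
          have : (k : ℤ) * k = 1024 := by norm_num at key; omega
          nlinarith
        -- a central involution of a Sylow `2`-subgroup
        obtain ⟨T⟩ : Nonempty (Sylow 2 G) := inferInstance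
        have hT : Nat.card (T : Subgroup G) = 2 ^ 7 :=
          card_sylow 7 45 (by rw [h]; norm_num) (by norm_num) T
        haveI : Nontrivial (T : Subgroup G) := by
          rw [← Finite.one_lt_card_iff_nontrivial, hT]; norm_num
        haveI := T.2.center_nontrivial
        obtain ⟨⟨u, huz⟩, hu⟩ := exists_prime_orderOf_dvd_card' (G := Subgroup.center (T : Subgroup G)) 2 (by
          obtain ⟨j, hj⟩ := IsPGroup.iff_card.mp (T.2.to_subgroup (Subgroup.center (T : Subgroup G)))
          have h1 : 1 < Nat.card (Subgroup.center (T : Subgroup G)) := Finite.one_lt_card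
          rw [hj] at h1 ⊢
          exact dvd_pow_self 2 (by rintro rfl; simp at h1))
        rw [Subgroup.orderOf_mk, ← Subgroup.orderOf_coe] at hu
        have hu2 : (u : G) ^ 2 = 1 := orderOf_dvd_iff_pow_eq_one.1 hu.dvd
        have hTu : (T : Subgroup G) ≤ Subgroup.centralizer ({(u : G)} : Set G) := fun w hw =>
          Subgroup.mem_centralizer_singleton_iff.2
            (congrArg Subtype.val (Subgroup.mem_center_iff.1 huz ⟨w, hw⟩))
        have hnc2 : ¬ IsConj t (u : G) := by
          intro hc
          have h1 : Cfsg.Lib.Block.cenCard t = Cfsg.Lib.Block.cenCard (u : G) :=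
            Cfsg.Lib.Block.cenCard_eq_of_mk_eq (ConjClasses.mk_eq_mk_iff_isConj.2 hc)
          have h2 : 2 ^ 7 ∣ Nat.card (Subgroup.centralizer ({t} : Set G)) := by
            have := Subgroup.card_dvd_of_le hTu
            rw [hT] at this
            unfold Cfsg.Lib.Block.cenCard at h1
            rw [h1]; exact this
          rw [← hk, h32] at h2
          norm_num at h2
        have hup : ¬ 5 ∣ orderOf (u : G) := by rw [hu]; norm_num
        have hmix := S.formula_int hC htp hup hx hx1
        have hrelu := S.rel (u : G) hup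
        rw [hZ, Finset.sum_insert hne3, Finset.sum_insert (by simp [hne.symm]), Finset.sum_singleton,
          S.sign_one, hs1.1, hs1.2, one'_apply] at hrelu
        rw [hZ, Finset.sum_insert hne3, Finset.sum_insert (by simp [hne.symm]), Finset.sum_singleton,
          hzero _ hu2 hnc2, S.sign_one, hs1.1, hs1.2, one'_apply, one'_apply, hb, hθt,
          Cfsg.Lib.Block.apply_one_eq_charDegree χ, Cfsg.Lib.Block.apply_one_eq_charDegree S.θ,
          hd, hf, h] at hmix
        simp only [one'_apply] at hmix
        push_cast at hmix hrelu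
        have hB : (χ : G → ℂ) (u : G) = (χ : G → ℂ) 1 := by
          rw [Cfsg.Lib.Block.apply_one_eq_charDegree χ, hd]
          push_cast
          linear_combination (9 / 5760 : ℂ) * hmix
        have := eq_one_of_apply_eq hne hB
        rw [this, orderOf_one] at hu
        omega
  · by_cases hsmall : ∃ χ ∈ S.Z, χ ≠ one' G ∧ charDegree (χ : G → ℂ) < 10
    · obtain ⟨χ, hχ, hne, hlt⟩ := hsmall
      have hcc := hc1 χ hχ hne hlt
      subst hcc
      omega
    · push Not at hsmall
      refine S.not_all_even fun χ hχ hne => ?_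
      refine decide_even _ (Nat.mem_divisors.2 ⟨S.deg_dvd hm hχ, by norm_num⟩) (hsmall χ hχ hne) ?_
      have hc5 := S.cong_all rfl hχ
      unfold Int.ModEq at hc5
      rcases S.sign χ hχ with hs | hs <;> rw [hs] at hc5 <;> push_cast at hc5 <;> omega

end Cfsg.Agent.S0980
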