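import Cfsg.Statements.S0983
import Cfsg.Agent.Lib.Small.OrderWitness
import Cfsg.Agent.Lib.Small.Order5400
import Cfsg.Agent.S0976
import Cfsg.Agent.S0977
import Cfsg.Agent.S0978
import Cfsg.Agent.S0980
-- import your own Cfsg.Agent.* helpers here

set_option autoImplicit false
open Cfsg

namespace Cfsg.Agent.S0983

open Cfsg.Lib.Small.OrderFilter

/-- A non-abelian finite simple group of order greater than 3640 and at most 6232 has order 4080, 5616, 6048 or 6072. -/
theorem result {G : Type*} [Group G] [Finite G] [IsSimpleGroup G] (hG : ¬ IsMulCommutative G) (h1 : 3640 < Nat.card G) (h2 : Nat.card G ≤ 6232) : Nat.card G = 4080 ∨ Nat.card G = 5616 ∨ Nat.card G = 6048 ∨ Nat.card G = 6072 := by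
  obtain ⟨w, hw⟩ := exists_witness (n := Nat.card G) (by omega) h2
  have hmem := check_sound hG rfl (by omega) hw
  simp only [special, List.mem_cons, List.not_mem_nil, or_false] at hmem
  rcases hmem with h | h | h | h | h | h | h | h | h
  · exact absurd h Cfsg.Agent.S0976.result
  · exact Or.inl h
  · exact absurd h Cfsg.Agent.S0977.result
  · exact absurd h Cfsg.Agent.S0978.result
  · exact absurd h (Cfsg.Lib.Small.Order5400.not_simple_of_card hG)
  · exact Or.inr (Or.inl h)
  · exact absurd h Cfsg.Agent.S0980.result
  · exact Or.inr (Or.inr (Or.inl h))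
  · exact Or.inr (Or.inr (Or.inr h))

end Cfsg.Agent.S0983
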