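import Cfsg.Statements.S1010
import Cfsg.Agent.Lib.Fusion.SylowCount
import Cfsg.Agent.Lib.Small.SimpleOrder
import Cfsg.Agent.Lib.Invol.Cyclic
import Cfsg.Agent.Lib.Core.Basic
import Cfsg.Agent.Lib.Core.Smul
import Cfsg.Agent.Lib.Coprime.Conjugacy
-- import your own Cfsg.Agent.* helpers here

set_option autoImplicit false
open Cfsg

namespace Cfsg.Agent.S1010

open Subgroup MulAction
open scoped Pointwise

universe u

local instance instFactPrimeFive : Fact (Nat.Prime 5) := ⟨by norm_num⟩

/-- A family of lines such that every line has more points than there are lines through a point is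
trivial. -/
theorem lines_const {α β : Type*} [Finite α] (f : α → α → β) (k : ℕ)
    (hsym : ∀ a b, a ≠ b → f a b = f b a)
    (hline : ∀ a b c, a ≠ b → a ≠ c → b ≠ c → f a b = f a c → f b c = f a b)
    (hfib : ∀ a b, a ≠ b → k ≤ {c | c ≠ a ∧ f a c = f a b}.ncard)
    (hcard : Nat.card α ≤ k * (k + 1)) :
    ∀ a b c, a ≠ b → a ≠ c → f a b = f a c := by
  classical
  have := Fintype.ofFinite α
  intro a b c hab hac
  by_contra hne
  set s := (Finset.univ : Finset α).filter (fun x => x ≠ b) with hs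
  have himg : (s.image (f b)).card ≤ k := by
    have h := Finset.mul_card_image_le_card (f := f b) s k (fun v hv => by
      obtain ⟨x, hx, rfl⟩ := Finset.mem_image.1 hv
      refine (hfib b x (Ne.symm (by simpa [hs] using hx))).trans_eq ?_
      rw [Set.ncard_eq_toFinset_card', hs, Finset.filter_filter]
      congr 1
      ext y
      simp [Set.mem_toFinset])
    have hlt : s.card < Nat.card α := by
      rw [Nat.card_eq_fintype_card, ← Finset.card_univ]
      exact Finset.card_lt_card (Finset.ssubset_iff_subset_ne.2 ⟨Finset.filter_subset _ _, fun e => by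
        have hb : b ∈ s := e ▸ Finset.mem_univ b
        simp [hs] at hb⟩)
    by_contra hk
    push Not at hk
    have := Nat.mul_le_mul_left k (show k + 1 ≤ _ from hk)
    omega
  set L := insert a ((Finset.univ : Finset α).filter (fun x => x ≠ a ∧ f a x = f a c)) with hL
  have hLc : k + 1 ≤ L.card := by
    rw [hL, Finset.card_insert_of_notMem (by simp)]
    refine Nat.succ_le_succ ((hfib a c hac).trans_eq ?_)
    rw [Set.ncard_eq_toFinset_card']
    congr 1
    ext y
    simp [Set.mem_toFinset]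
  have hmem : ∀ x ∈ L, x = a ∨ (x ≠ a ∧ f a x = f a c) := fun x hx => by simpa [hL] using hx
  have hLb : ∀ x ∈ L, x ≠ b := by
    intro x hx e
    rcases hmem x hx with h | ⟨-, h⟩
    · exact hab (h.symm.trans e)
    · exact hne (e ▸ h)
  have key : ∀ x ∈ L, ∀ y ∈ L, x ≠ a → x ≠ y → f b x = f b y → False := by
    intro x hx y hy hxa hxy h
    have hxb := hLb x hx
    have hyb := hLb y hy
    have h1 := ((hmem x hx).resolve_left hxa).2
    have h2 : f x y = f b x := hline b x y hxb.symm hyb.symm hxy h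
    have h3 : f b x = f a x := by
      rcases hmem y hy with e | ⟨hya, h4⟩
      · rw [e] at h2
        rw [← h2, hsym x a hxa]
      · exact h2.symm.trans (hline a x y hxa.symm hya.symm hxy (h1.trans h4.symm))
    have h5 : f x a = f x b := by rw [hsym x a hxa, hsym x b hxb, h3]
    have h6 := hline x a b hxa hxb hab h5
    exact hne (h6.trans ((hsym x a hxa).trans h1))
  have hinj : Set.InjOn (f b) (L : Set α) := by
    intro x hx y hy h
    by_contra hxy
    by_cases hxa : x = a
    · exact key y hy x hx (fun e => hxy (hxa.trans e.symm)) (Ne.symm hxy) h.symm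
    · exact key x hx y hy hxa hxy h
  have := Finset.card_le_card_of_injOn (t := s.image (f b)) (f b)
    (fun x hx => Finset.mem_image_of_mem _ (by simpa [hs] using hLb x hx)) hinj
  omega

/-! ### The action on the Sylow subgroups -/

variable {G : Type u} [Group G] [Finite G]

omit [Finite G] in
theorem eq_of_le_normalizer {p : ℕ} [Fact p.Prime] (P Q : Sylow p G)
    (h : (P : Subgroup G) ≤ normalizer ((Q : Subgroup G) : Set G)) : P = Q := by
  have h1 := IsPGroup.inf_normalizer_sylow (P := (P : Subgroup G)) P.2 Q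
  have h2 : (P : Subgroup G) ⊓ normalizer ((Q : Subgroup G) : Set G) = P := inf_of_le_left h
  have h3 : (P : Subgroup G) ≤ Q := (h2.symm.trans h1).le.trans inf_le_right
  exact Sylow.ext (P.is_maximal' Q.2 h3).symm

omit [Finite G] in
theorem mem_smul_sylow {p : ℕ} {g x : G} {Q : Sylow p G} :
    x ∈ ((g • Q : Sylow p G) : Subgroup G) ↔ g⁻¹ * x * g ∈ (Q : Subgroup G) := by
  rw [Sylow.coe_subgroup_smul]
  exact Cfsg.Lib.Core.mem_conj_smul

theorem relIndex_inf (hn : Nat.card (Sylow 5 G) = 21) {P Q : Sylow 5 G} (hPQ : P ≠ Q) :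
    ((P : Subgroup G) ⊓ Q).relIndex P = 5 ∧
      (MulAction.orbit (P : Subgroup G) Q).ncard = 5 := by
  classical
  have hst : stabilizer (P : Subgroup G) Q = ((P : Subgroup G) ⊓ Q).subgroupOf P := by
    ext x
    rw [mem_stabilizer_iff, mem_subgroupOf]
    show (x : G) • Q = Q ↔ _
    rw [Sylow.smul_eq_iff_mem_normalizer]
    have h1 := IsPGroup.inf_normalizer_sylow (P := (P : Subgroup G)) P.2 Q
    exact ⟨fun h => h1.le ⟨x.2, h⟩, fun h => le_normalizer h.2⟩
  obtain ⟨k, hk⟩ := P.2.index (stabilizer (P : Subgroup G) Q)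
  have hsub : MulAction.orbit (P : Subgroup G) Q ⊆ {P}ᶜ := by
    rintro _ ⟨x, rfl⟩ h
    have h : (x : G) • Q = P := h
    have hx : (x : G) • P = P := Sylow.smul_eq_iff_mem_normalizer.2 (le_normalizer x.2)
    exact hPQ (smul_left_cancel (x : G) (h.trans hx.symm)).symm
  have hle := Set.ncard_le_ncard hsub (Set.toFinite _)
  rw [← MulAction.index_stabilizer, hk] at hle
  rw [Set.ncard_compl, Set.ncard_singleton, hn] at hle
  have hk1 : k = 1 := by
    have h0 : k ≠ 0 := by
      rintro rfl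
      rw [pow_zero, Subgroup.index_eq_one, hst, subgroupOf_eq_top] at hk
      exact hPQ (Sylow.ext (P.is_maximal' Q.2 (hk.trans inf_le_right)).symm)
    have h2 : k < 2 := by
      by_contra h2
      have := Nat.pow_le_pow_right (show 5 > 0 by norm_num) (not_lt.1 h2)
      omega
    omega
  subst hk1
  refine ⟨?_, ?_⟩
  · rw [relIndex, ← hst, hk, pow_one]
  · rw [← MulAction.index_stabilizer, hk, pow_one]

theorem inf_eq_of_mem_orbit (hn : Nat.card (Sylow 5 G) = 21) {P Q R : Sylow 5 G} (hPQ : P ≠ Q)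
    (hR : R ∈ MulAction.orbit (P : Subgroup G) Q) :
    R ≠ P ∧ (P : Subgroup G) ⊓ R = (P : Subgroup G) ⊓ Q := by
  obtain ⟨x, rfl⟩ := hR
  have hx : (x : G) • P = P := Sylow.smul_eq_iff_mem_normalizer.2 (le_normalizer x.2)
  have hne : (x : G) • Q ≠ P := fun h => hPQ (smul_left_cancel (x : G) (h.trans hx.symm)).symm
  refine ⟨hne, ?_⟩
  set D := (P : Subgroup G) ⊓ Q with hD
  have hrel := (relIndex_inf hn hPQ).1
  have hn' : (D.subgroupOf P).Normal := by
    refine normal_of_index_eq_minFac_card ?_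
    obtain ⟨a, ha⟩ := P.2.exists_card_eq
    have ha0 : a ≠ 0 := by
      rintro rfl
      have h1 := Subgroup.card_mul_index (D.subgroupOf (P : Subgroup G))
      rw [show (D.subgroupOf (P : Subgroup G)).index = 5 from hrel, ha, pow_zero] at h1
      exact absurd (Nat.eq_one_of_mul_eq_one_left h1) (by norm_num)
    rw [show (D.subgroupOf (P : Subgroup G)).index = 5 from hrel, ha,
      Nat.Prime.pow_minFac (by norm_num) ha0]
  symm
  refine eq_of_le_of_card_ge (le_inf inf_le_left fun y hy => ?_) ?_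
  · show y ∈ (((x : G) • Q : Sylow 5 G) : Subgroup G)
    rw [mem_smul_sylow]
    have h1 := hn'.conj_mem ⟨y, hy.1⟩ hy x⁻¹
    rw [inv_inv] at h1
    exact (show (x : G)⁻¹ * y * x ∈ D from h1).2
  · have h1 := (relIndex_inf hn (Ne.symm hne)).1
    have h2 := Cfsg.Lib.Core.card_mul_relIndex
      (inf_le_left : (P : Subgroup G) ⊓ ((x : G) • Q : Sylow 5 G) ≤ P)
    have h3 := Cfsg.Lib.Core.card_mul_relIndex (inf_le_left : D ≤ (P : Subgroup G))
    rw [h1] at h2; rw [hrel] at h3
    have : Nat.card ↥((P : Subgroup G) ⊓ ((x : G) • Q : Sylow 5 G)) ≤ Nat.card D := by rw [hD]; omega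
    exact this

/-- The twenty-one Sylow subgroups have a common intersection of index 5 in each of them. -/
theorem exists_common (hn : Nat.card (Sylow 5 G) = 21) :
    ∃ D : Subgroup G, D.Normal ∧ (∀ P : Sylow 5 G, D ≤ P) ∧
      ∀ P Q : Sylow 5 G, P ≠ Q → (P : Subgroup G) ⊓ Q = D := by
  classical
  set f : Sylow 5 G → Sylow 5 G → Subgroup G := fun P Q => (P : Subgroup G) ⊓ Q with hf
  have hconst := lines_const f 5 (fun a b _ => inf_comm _ _) (fun a b c hab hac hbc h => ?_)
    (fun a b hab => ?_) (by rw [hn]; norm_num)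
  · obtain ⟨A, B, hAB⟩ : ∃ A B : Sylow 5 G, A ≠ B := by
      have : Nontrivial (Sylow 5 G) := Finite.one_lt_card_iff_nontrivial.1 (by omega)
      exact exists_pair_ne _
    have hall : ∀ P Q : Sylow 5 G, P ≠ Q → f P Q = f A B := by
      intro P Q hPQ
      by_cases hPA : P = A
      · subst hPA; exact hconst P Q B hPQ hAB
      · rw [hconst P Q A hPQ hPA, hconst A B P hAB (Ne.symm hPA), hf]
        exact inf_comm _ _
    refine ⟨f A B, ⟨fun y hy g => ?_⟩, fun P => ?_, hall⟩
    · have hne : g • A ≠ g • B := fun h => hAB (smul_left_cancel g h)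
      rw [← hall _ _ hne]
      refine ⟨?_, ?_⟩
      · show g * y * g⁻¹ ∈ ((g • A : Sylow 5 G) : Subgroup G)
        rw [mem_smul_sylow]; rw [show g⁻¹ * (g * y * g⁻¹) * g = y by group]; exact hy.1
      · show g * y * g⁻¹ ∈ ((g • B : Sylow 5 G) : Subgroup G)
        rw [mem_smul_sylow]; rw [show g⁻¹ * (g * y * g⁻¹) * g = y by group]; exact hy.2
    · by_cases h : P = A
      · subst h; exact inf_le_left
      · rw [← hall P A h]; exact inf_le_left
  · show (b : Subgroup G) ⊓ c = (a : Subgroup G) ⊓ b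
    have h' : (a : Subgroup G) ⊓ b = (a : Subgroup G) ⊓ c := h
    symm
    refine eq_of_le_of_card_ge (le_inf inf_le_right (h'.le.trans inf_le_right)) ?_
    have h2 := Cfsg.Lib.Core.card_mul_relIndex (inf_le_left : (b : Subgroup G) ⊓ c ≤ b)
    have h3 := Cfsg.Lib.Core.card_mul_relIndex (inf_le_left : (a : Subgroup G) ⊓ b ≤ a)
    rw [(relIndex_inf hn hbc).1] at h2; rw [(relIndex_inf hn hab).1] at h3
    have h4 : Nat.card (a : Subgroup G) = Nat.card (b : Subgroup G) :=
      a.card_eq_multiplicity.trans b.card_eq_multiplicity.symm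
    omega
  · refine (relIndex_inf hn hab).2.symm.le.trans (Set.ncard_le_ncard (fun c hc => ?_) (Set.toFinite _))
    exact inf_eq_of_mem_orbit hn hab hc

/-! ### Reduction to simple groups -/

/-- No smaller group has twenty-one Sylow 5-subgroups. -/
def Minimal (G : Type u) [Group G] : Prop :=
  ∀ (H : Type u) [Group H] [Finite H], Nat.card H < Nat.card G → Nat.card (Sylow 5 H) ≠ 21

theorem card_sylow_five (hmin : Minimal G) (hn : Nat.card (Sylow 5 G) = 21) (P : Sylow 5 G) :
    Nat.card (P : Subgroup G) = 5 := by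
  obtain ⟨D, hDn, hDP, hD⟩ := exists_common hn
  obtain ⟨Q, hQ⟩ : ∃ Q, Q ≠ P := by
    have : Nontrivial (Sylow 5 G) := Finite.one_lt_card_iff_nontrivial.1 (by omega)
    exact exists_ne P
  by_cases hb : D = ⊥
  · have h := (relIndex_inf hn hQ.symm).1
    rw [hD P Q hQ.symm, hb, relIndex_bot_left] at h
    exact h
  exfalso
  refine hmin (G ⧸ D) (Cfsg.Lib.Core.card_quotient_lt hb) ?_
  have hf := QuotientGroup.mk'_surjective D
  have hinj : Function.Injective (Sylow.mapSurjective (p := 5) hf) := by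
    intro R S h
    have h1 : (R : Subgroup G).map (QuotientGroup.mk' D) = (S : Subgroup G).map (QuotientGroup.mk' D) := by
      rw [← Sylow.coe_mapSurjective hf R, ← Sylow.coe_mapSurjective hf S, h]
    rw [map_eq_map_iff, QuotientGroup.ker_mk', sup_eq_left.2 (hDP R), sup_eq_left.2 (hDP S)] at h1
    exact Sylow.ext h1
  rw [← hn]
  exact (Nat.card_eq_of_bijective _ ⟨hinj, Sylow.mapSurjective_surjective hf 5⟩).symm

theorem isSimple_of_minimal (hmin : Minimal G) (hn : Nat.card (Sylow 5 G) = 21) :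
    IsSimpleGroup G := by
  have hc5 := card_sylow_five hmin hn
  have : Nontrivial (Sylow 5 G) := Finite.one_lt_card_iff_nontrivial.1 (by omega)
  obtain ⟨P⟩ : Nonempty (Sylow 5 G) := inferInstance
  have : Nontrivial G := by
    by_contra h
    rw [not_nontrivial_iff_subsingleton] at h
    have := Finite.card_le_one_iff_subsingleton.2 h
    have := Subgroup.card_le_card_group (P : Subgroup G)
    have := hc5 P
    omega
  refine ⟨fun N hN => ?_⟩
  by_contra hcon
  push Not at hcon
  obtain ⟨hNb, hNt⟩ := hcon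
  by_cases h5 : 5 ∣ Nat.card N
  · obtain ⟨z, hz⟩ := exists_prime_orderOf_dvd_card' 5 h5
    obtain ⟨R, hR⟩ := Cfsg.Lib.Small.exists_sylow_eq_zpowers hc5
      (show orderOf (z : G) = 5 by rw [orderOf_coe, hz])
    have hRN : ∀ S : Sylow 5 G, (S : Subgroup G) ≤ N := by
      intro S y hy
      obtain ⟨g, rfl⟩ := MulAction.exists_smul_eq G R S
      rw [mem_smul_sylow, hR] at hy
      have h1 := hN.conj_mem _ ((zpowers_le.2 z.2) hy) g
      simpa [mul_assoc] using h1
    refine hmin N (Cfsg.Lib.Core.lt_card_of_ne_top hNt) ?_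
    have hinj : Function.Injective fun S : Sylow 5 G => S.subtype (hRN S) := fun S T h =>
      Sylow.subtype_injective h
    have hsurj : Function.Surjective fun S : Sylow 5 G => S.subtype (hRN S) := by
      intro S
      obtain ⟨T, hT⟩ := (S.2.map N.subtype).exists_le_sylow
      refine ⟨T, Sylow.ext ?_⟩
      refine S.is_maximal' (T.subtype (hRN T)).2 fun y hy => ?_
      exact hT ⟨y, hy, rfl⟩
    rw [← hn]
    exact (Nat.card_eq_of_bijective _ ⟨hinj, hsurj⟩).symm
  · have hcop : (Nat.card (P : Subgroup G)).Coprime (Nat.card N) := by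
      rw [hc5]; exact (Nat.Prime.coprime_iff_not_dvd (by norm_num)).2 h5
    set NP := normalizer ((P : Subgroup G) : Set G) with hNP
    have hinf : NP ⊓ N = N ⊓ centralizer ((P : Subgroup G) : Set G) := by
      refine le_antisymm (fun x hx => ⟨hx.2, mem_centralizer_iff.2 fun y hy => ?_⟩) fun x hx =>
        ⟨centralizer_le_normalizer _ hx.2, hx.1⟩
      have h1 : x * y * x⁻¹ * y⁻¹ ∈ (P : Subgroup G) ⊓ N := by
        refine ⟨(P : Subgroup G).mul_mem ((mem_normalizer_iff.1 hx.1 y).1 hy) ((P : Subgroup G).inv_mem hy), ?_⟩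
        have := mul_mem hx.2 (hN.conj_mem _ (inv_mem hx.2) y)
        simpa [mul_assoc] using this
      rw [(disjoint_iff.1 (Cfsg.Lib.Coprime.disjoint_of_coprime_card hcop)), mem_bot] at h1
      calc y * x = (x * y * x⁻¹ * y⁻¹) * (y * x) := by rw [h1, one_mul]
        _ = x * y := by group
    set m := (N ⊓ centralizer ((P : Subgroup G) : Set G)).relIndex N with hm
    have hmul : m * Nat.card (Sylow 5 (G ⧸ N)) = 21 := by
      rw [← hn, Cfsg.Agent.S3867.card_quot P N, P.card_eq_index_normalizer]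
      show m * (NP ⊔ N).index = NP.index
      rw [← relIndex_mul_index (le_sup_left : NP ≤ NP ⊔ N),
        Cfsg.Lib.Fusion.SylowCount.relIndex_sup_of_normal, ← inf_relIndex_right NP N, hinf]
    have hmd : m ∣ 21 := Dvd.intro _ hmul
    have hmo : ∀ q : ℕ, q.Prime → q ^ m.factorization q ≡ 1 [MOD 5] := fun q hq =>
      haveI := Fact.mk hq
      Cfsg.Lib.Fusion.SylowCount.ordProj_modEq (p := 5) P.2
        (le_top.trans (normalizer_eq_top_iff.2 hN).ge) hcop h5 q
    have hm0 : m ≠ 0 := fun h => by rw [h, zero_mul] at hmul; norm_num at hmul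
    have hm1 : m = 1 := by
      by_contra hne
      obtain ⟨q, hq, hqd⟩ := Nat.exists_prime_and_dvd hne
      have hq21 := hqd.trans hmd
      have hle : m.factorization q ≤ 1 := by
        have h1 := (Nat.factorization_le_iff_dvd hm0 (by norm_num)).2 hmd q
        have h2 : (21 : ℕ).factorization q ≤ 1 :=
          Squarefree.natFactorization_le_one q (by
            rw [Nat.squarefree_mul_iff (m := 3) (n := 7) |> (fun h => show Squarefree 21 ↔ _ from h)]
            exact ⟨by norm_num, (Nat.prime_iff.1 (by norm_num)).squarefree,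
              (Nat.prime_iff.1 (by norm_num)).squarefree⟩)
        omega
      have hge := hq.factorization_pos_of_dvd hm0 hqd
      have h := hmo q hq
      rw [show m.factorization q = 1 by omega, pow_one] at h
      have hq37 : q = 3 ∨ q = 7 := by
        rcases (hq.dvd_mul.1 (show q ∣ 3 * 7 from hq21)) with h' | h'
        · exact Or.inl ((Nat.prime_dvd_prime_iff_eq hq (by norm_num)).1 h')
        · exact Or.inr ((Nat.prime_dvd_prime_iff_eq hq (by norm_num)).1 h')
      rcases hq37 with rfl | rfl <;> simp [Nat.ModEq] at h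
    rw [hm1, one_mul] at hmul
    exact hmin (G ⧸ N) (Cfsg.Lib.Core.card_quotient_lt hNb) hmul

/-! ### Tools for the simple case -/

/-- The fixed points of an element. -/
def fixSet (z : G) : Set (Sylow 5 G) := {Q | z • Q = Q}

theorem modEq_inv {A : Type*} [Group A] {α : Type*} [Finite α] [MulAction A α] {r : ℕ} [Fact r.Prime]
    {R : Subgroup A} (hR : IsPGroup r R) (S : Set α) (hS : ∀ g ∈ R, ∀ a ∈ S, g • a ∈ S) :
    S.ncard ≡ (S ∩ MulAction.fixedPoints R α).ncard [MOD r] := by
  let T : SubMulAction R α := ⟨S, fun g {a} ha => hS g g.2 a ha⟩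
  have h := hR.card_modEq_card_fixedPoints T
  have h1 : Nat.card T = S.ncard := rfl
  have h2 : Nat.card (MulAction.fixedPoints R T) = (S ∩ MulAction.fixedPoints R α).ncard := by
    rw [← Nat.card_coe_set_eq]
    exact Nat.card_congr
      { toFun := fun x => ⟨(x.1 : α), x.1.2, fun g => congrArg Subtype.val (x.2 g)⟩
        invFun := fun x => ⟨⟨(x : α), x.2.1⟩, fun g => Subtype.ext (x.2.2 g)⟩
        left_inv := fun x => rfl
        right_inv := fun x => rfl }
  rwa [h1, h2] at h

theorem dvd_of_free {A : Type*} [Group A] [Finite A] {α : Type*} [Finite α] [MulAction A α] (R : Subgroup A)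
    (S : Set α) (hS : ∀ g ∈ R, ∀ a ∈ S, g • a ∈ S) (hfree : ∀ g ∈ R, ∀ a ∈ S, g • a = a → g = 1) :
    Nat.card R ∣ S.ncard := by
  classical
  let T : SubMulAction R α := ⟨S, fun g {a} ha => hS g g.2 a ha⟩
  have e := MulAction.selfEquivSigmaOrbitsQuotientStabilizer R T
  have hst : ∀ a : T, MulAction.stabilizer R a = ⊥ := fun a => by
    rw [eq_bot_iff]
    intro g hg
    exact mem_bot.2 (Subtype.ext (hfree g g.2 a a.2 (congrArg Subtype.val hg)))
  have := Fintype.ofFinite (Quotient (MulAction.orbitRel R T))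
  have hc : Nat.card T = ∑ _w : Quotient (MulAction.orbitRel R T), Nat.card R := by
    rw [Nat.card_congr e, Nat.card_sigma]
    refine Finset.sum_congr rfl fun w _ => ?_
    rw [← Subgroup.index_eq_card, hst, Subgroup.index_bot]
  rw [Finset.sum_const, smul_eq_mul] at hc
  exact Dvd.intro_left _ (hc.symm.trans rfl)

theorem fix_zpowers (z : G) (Q : Sylow 5 G) :
    Q ∈ MulAction.fixedPoints (zpowers z) (Sylow 5 G) ↔ Q ∈ fixSet z := by
  refine ⟨fun h => h ⟨z, mem_zpowers z⟩, fun h g => ?_⟩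
  obtain ⟨n, hn⟩ := mem_zpowers_iff.1 g.2
  show (g : G) • Q = Q
  rw [← hn]
  exact (zpow_mem (K := MulAction.stabilizer G Q) h n)

theorem mem_fixSet_smul {x z : G} (hxz : x * z = z * x) {Q : Sylow 5 G} (hQ : Q ∈ fixSet z) :
    x • Q ∈ fixSet z := by
  show z • x • Q = x • Q
  rw [← mul_smul, ← hxz, mul_smul, show z • Q = Q from hQ]

theorem fix_modEq {r : ℕ} [Fact r.Prime] {z : G} (hz : IsPGroup r (zpowers z))
    (hn : Nat.card (Sylow 5 G) = 21) : (fixSet z).ncard ≡ 21 [MOD r] := by
  have h := modEq_inv (α := Sylow 5 G) hz Set.univ (fun g _ a _ => Set.mem_univ _)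
  rw [Set.ncard_univ, hn, Set.univ_inter] at h
  rw [show fixSet z = MulAction.fixedPoints (zpowers z) (Sylow 5 G) from
    Set.ext fun Q => (fix_zpowers z Q).symm]
  exact h.symm

theorem isPGroup_zpowers {r k : ℕ} [Fact r.Prime] {z : G} (hz : orderOf z = r ^ k) :
    IsPGroup r (zpowers z) :=
  IsPGroup.of_card (n := k) (by rw [Nat.card_zpowers, hz])

theorem fix_mod_five {z : G} {P : Sylow 5 G} (hz : z ∈ centralizer ((P : Subgroup G) : Set G)) :
    (fixSet z).ncard % 5 = 1 := by
  have h := modEq_inv (A := G) P.2 (fixSet z) (fun g hg a ha =>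
    mem_fixSet_smul (mem_centralizer_iff.1 hz g hg) ha)
  have h2 : fixSet z ∩ MulAction.fixedPoints (P : Subgroup G) (Sylow 5 G) = {P} := by
    refine Set.eq_singleton_iff_unique_mem.2 ⟨⟨?_, fun g => ?_⟩, fun Q hQ => ?_⟩
    · exact Sylow.smul_eq_iff_mem_normalizer.2 (centralizer_le_normalizer _ hz)
    · exact Sylow.smul_eq_iff_mem_normalizer.2 (le_normalizer g.2)
    · exact (eq_of_le_normalizer P Q fun g hg =>
        Sylow.smul_eq_iff_mem_normalizer.1 (hQ.2 ⟨g, hg⟩)).symm
  rw [h2, Set.ncard_singleton] at h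
  exact h

/-! ### The simple case -/

section Simple

variable [IsSimpleGroup G] (hn : Nat.card (Sylow 5 G) = 21)
  (h5 : ∀ P : Sylow 5 G, Nat.card (P : Subgroup G) = 5)

include hn in
theorem noncyclic : ¬ IsCyclic G := by
  intro hc
  have hcomm := hc.commGroup
  obtain ⟨P⟩ : Nonempty (Sylow 5 G) := inferInstance
  have : IsMulCommutative G := IsCyclic.isMulCommutative
  have hP : (P : Subgroup G).Normal := inferInstance
  have : Unique (Sylow 5 G) := Sylow.unique_of_normal P hP
  rw [Nat.card_unique] at hn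
  norm_num at hn

include hn in
theorem normal_ne_of_le {N : Subgroup G} [N.Normal] {P : Sylow 5 G}
    (hN : N ≤ normalizer ((P : Subgroup G) : Set G)) : N = ⊥ := by
  refine ((inferInstance : N.Normal).eq_bot_or_eq_top).resolve_right fun h => ?_
  have h2 : normalizer ((P : Subgroup G) : Set G) = ⊤ := top_le_iff.1 (h ▸ hN)
  have h1 : Nat.card (Sylow 5 G) = 1 := by
    rw [P.card_eq_index_normalizer]
    show (normalizer ((P : Subgroup G) : Set G)).index = 1
    rw [h2, index_top]
  omega

include hn in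
theorem hom_injective : Function.Injective (MulAction.toPermHom G (Sylow 5 G)) := by
  rw [← MonoidHom.ker_eq_bot_iff]
  obtain ⟨P⟩ : Nonempty (Sylow 5 G) := inferInstance
  exact normal_ne_of_le hn (P := P) fun g hg =>
    Sylow.smul_eq_iff_mem_normalizer.1 (Equiv.congr_fun (MonoidHom.mem_ker.1 hg) P)

include hn in
theorem fix_lt {z : G} (hz : z ≠ 1) : (fixSet z).ncard < 21 := by
  rw [← hn, ← Set.ncard_univ]
  refine Set.ncard_lt_ncard ⟨Set.subset_univ _, fun h => hz ?_⟩ (Set.toFinite _)
  refine hom_injective hn (Equiv.ext fun Q => ?_)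
  rw [map_one]
  exact h (Set.mem_univ Q)

include hn in
theorem invol_fix {z : G} (hz : orderOf z = 2) : (fixSet z).ncard % 4 = 1 := by
  classical
  have := Fintype.ofFinite (Sylow 5 G)
  set φ := MulAction.toPermHom G (Sylow 5 G) with hφ
  have hsign : Equiv.Perm.sign (φ z) = 1 := by
    let σ : G →* ℤˣ := Equiv.Perm.sign.comp φ
    rcases (inferInstance : σ.ker.Normal).eq_bot_or_eq_top with h | h
    · exfalso
      have h1 := Nat.card_le_card_of_injective σ (σ.ker_eq_bot_iff.1 h)
      rw [Nat.card_eq_fintype_card (α := ℤˣ), Fintype.card_units_int] at h1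
      have h2 : Nat.card (Sylow 5 G) ∣ Nat.card G := by
        obtain ⟨P⟩ : Nonempty (Sylow 5 G) := inferInstance
        rw [P.card_eq_index_normalizer]
        exact Subgroup.index_dvd_card _
      have := Nat.le_of_dvd Nat.card_pos h2
      omega
    · exact MonoidHom.mem_ker.1 (h ▸ mem_top z : z ∈ σ.ker)
  set τ := φ z
  have hτ : orderOf τ = 2 := by rw [orderOf_injective φ (hom_injective hn), hz]
  obtain ⟨n, hn'⟩ := Equiv.Perm.cycleType_prime_order (σ := τ) (hτ ▸ Nat.prime_two)
  rw [hτ] at hn'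
  rw [Equiv.Perm.sign_of_cycleType, hn', Multiset.sum_replicate, Multiset.card_replicate,
    smul_eq_mul] at hsign
  have heven : Even ((n + 1) * 2 + (n + 1)) := by
    by_contra hodd
    rw [(Nat.not_even_iff_odd.1 hodd).neg_one_pow] at hsign
    exact absurd hsign (by decide)
  have hsupp : τ.support.card = (n + 1) * 2 := by
    rw [← Equiv.Perm.sum_cycleType, hn', Multiset.sum_replicate, smul_eq_mul]
  have hfix : fixSet z = ((τ.supportᶜ : Finset (Sylow 5 G)) : Set (Sylow 5 G)) := by
    ext Q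
    simp only [Finset.coe_compl, Set.mem_compl_iff, Finset.mem_coe, Equiv.Perm.mem_support, not_not]
    rfl
  rw [hfix, Set.ncard_coe_finset, Finset.card_compl, hsupp, ← Nat.card_eq_fintype_card, hn]
  have hle : (n + 1) * 2 ≤ 21 := by
    rw [← hsupp, ← hn, Nat.card_eq_fintype_card]; exact Finset.card_le_univ _
  obtain ⟨m, hm⟩ := heven
  omega

include hn h5 in
/-- The prime order elements centralising a Sylow 5-subgroup. -/
theorem prime_centralizer {P : Sylow 5 G} {z : G} {r : ℕ} (hr : r.Prime)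
    (hz : z ∈ centralizer ((P : Subgroup G) : Set G)) (hzr : orderOf z = r) (hr5 : r ≠ 5) :
    (r = 2 ∧ (fixSet z).ncard = 1) ∨ (r = 3 ∧ (fixSet z).ncard = 6) := by
  have := Fact.mk hr
  have h1 := fix_mod_five hz
  have hne : z ≠ 1 := fun e => hr.ne_one (by rw [← hzr, e, orderOf_one])
  have h2 := fix_lt hn hne
  have h3 := fix_modEq (z := z) (r := r) (isPGroup_zpowers (k := 1) (by rw [pow_one, hzr])) hn
  obtain ⟨f, hf⟩ : ∃ f, (fixSet z).ncard = f := ⟨_, rfl⟩
  rw [hf] at h1 h2 h3 ⊢
  have hcases : f = 1 ∨ f = 6 ∨ f = 11 ∨ f = 16 := by omega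
  have hd : r ∣ 21 - f := (Nat.modEq_iff_dvd' (by omega)).1 h3
  have hprimes : r = 2 ∨ r = 3 := by
    have : r ∣ 20 ∨ r ∣ 15 ∨ r ∣ 10 ∨ r ∣ 5 := by
      rcases hcases with h | h | h | h <;> subst h <;> simp only [Nat.reduceSub] at hd <;> tauto
    have hle : r ≤ 20 := by
      rcases this with h | h | h | h <;> (have := Nat.le_of_dvd (by norm_num) h; omega)
    interval_cases r <;> first | omega | norm_num at hr
  rcases hprimes with rfl | rfl
  · have h4 := invol_fix hn hzr
    rw [hf] at h4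
    exact Or.inl ⟨rfl, by omega⟩
  · exact Or.inr ⟨rfl, by omega⟩

include h5 in
theorem not_25_dvd : ¬ 5 ^ 2 ∣ Nat.card G := by
  obtain ⟨P⟩ : Nonempty (Sylow 5 G) := inferInstance
  intro h
  have h1 := P.card_eq_multiplicity
  rw [h5 P] at h1
  have h2 := (Nat.Prime.pow_dvd_iff_le_factorization (by norm_num) Nat.card_pos.ne').1 h
  have h3 := Nat.pow_le_pow_right (show 5 > 0 by norm_num) h2
  omega

include h5 in
/-- The elements of order 5 in the centraliser of a Sylow 5-subgroup lie in it. -/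
theorem five_mem {P : Sylow 5 G} {z : G} (hz : z ∈ centralizer ((P : Subgroup G) : Set G))
    (hzr : orderOf z = 5) : (P : Subgroup G) = zpowers z := by
  obtain ⟨Q, hQ⟩ := Cfsg.Lib.Small.exists_sylow_eq_zpowers h5 hzr
  rw [← hQ]
  refine congrArg _ (eq_of_le_normalizer Q P ?_).symm
  rw [hQ, zpowers_le]
  exact centralizer_le_normalizer _ hz

include hn h5 in
theorem two_free {P Q : Sylow 5 G} (hQ : Q ≠ P) {z : G} (hz : z ∈ centralizer ((P : Subgroup G) : Set G))
    (hfix : z • Q = Q) (h2 : ∃ k, orderOf z = 2 ^ k) : z = 1 := by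
  obtain ⟨k, hk⟩ := h2
  by_contra h1
  rcases k with _ | k
  · exact h1 (orderOf_eq_one_iff.1 (by simpa using hk))
  have ho : orderOf (z ^ 2 ^ k) = 2 := by
    rw [orderOf_pow, hk, Nat.gcd_eq_right (pow_dvd_pow 2 (by omega)),
      Nat.pow_div (by omega) two_pos, show k + 1 - k = 1 by omega, pow_one]
  have hm := pow_mem hz (2 ^ k)
  rcases prime_centralizer hn h5 Nat.prime_two hm ho (by norm_num) with ⟨-, h⟩ | ⟨h, -⟩
  · obtain ⟨a, ha⟩ := Set.ncard_eq_one.1 h
    have hQm : Q ∈ fixSet (z ^ 2 ^ k) := pow_mem (mem_stabilizer_iff.2 hfix : _ ∈ MulAction.stabilizer G Q) (2 ^ k)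
    have hPm : P ∈ fixSet (z ^ 2 ^ k) :=
      Sylow.smul_eq_iff_mem_normalizer.2 (centralizer_le_normalizer _ hm)
    rw [ha, Set.mem_singleton_iff] at hQm hPm
    exact hQ (hQm.trans hPm.symm)
  · omega

omit [IsSimpleGroup G] in
theorem ne_smul {P Q : Sylow 5 G} (hQ : Q ≠ P) {g : G} (hg : g ∈ normalizer ((P : Subgroup G) : Set G)) :
    g • Q ≠ P := fun h =>
  hQ (smul_left_cancel g (h.trans (Sylow.smul_eq_iff_mem_normalizer.2 hg).symm))

include hn in
theorem card_compl (P : Sylow 5 G) : ({P}ᶜ : Set (Sylow 5 G)).ncard = 20 := by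
  rw [Set.ncard_compl, Set.ncard_singleton, hn]

include hn h5 in
theorem two_part (P : Sylow 5 G) : ¬ 2 ^ 3 ∣ Nat.card (centralizer ((P : Subgroup G) : Set G)) := by
  intro h
  have := Fact.mk Nat.prime_two
  obtain ⟨S, hS⟩ := Sylow.exists_subgroup_card_pow_prime 2 h
  set R := S.map (centralizer ((P : Subgroup G) : Set G)).subtype with hR
  have hRc : Nat.card R = 2 ^ 3 := by rw [hR, Cfsg.Lib.Core.card_map_subtype, hS]
  have hRle : R ≤ centralizer ((P : Subgroup G) : Set G) := map_subtype_le _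
  have hd := dvd_of_free R ({P}ᶜ : Set (Sylow 5 G))
    (fun g hg a ha => ne_smul ha (centralizer_le_normalizer _ (hRle hg)))
    (fun g hg a ha hfix => two_free hn h5 ha (hRle hg) hfix (by
      obtain ⟨k, -, hk⟩ := (Nat.dvd_prime_pow Nat.prime_two).1 (hRc ▸ Subgroup.orderOf_dvd_natCard R hg)
      exact ⟨k, hk⟩))
  rw [card_compl hn, hRc] at hd
  norm_num at hd

include hn h5 in
theorem three_part (P : Sylow 5 G) : ¬ 3 ^ 2 ∣ Nat.card (centralizer ((P : Subgroup G) : Set G)) := by
  intro h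
  have := Fact.mk Nat.prime_three
  obtain ⟨S, hS⟩ := Sylow.exists_subgroup_card_pow_prime 3 h
  set R := S.map (centralizer ((P : Subgroup G) : Set G)).subtype with hR
  have hRc : Nat.card R = 3 ^ 2 := by rw [hR, Cfsg.Lib.Core.card_map_subtype, hS]
  have hRle : R ≤ centralizer ((P : Subgroup G) : Set G) := map_subtype_le _
  have hRp : IsPGroup 3 R := IsPGroup.of_card hRc
  have hPfix : ∀ g ∈ R, g • P = P := fun g hg =>
    Sylow.smul_eq_iff_mem_normalizer.2 (centralizer_le_normalizer _ (hRle hg))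
  have hthree : ∀ g ∈ R, g ≠ 1 → ∃ m : ℕ, orderOf (g ^ m) = 3 := fun g hg hg1 => by
    obtain ⟨k, hk, hk'⟩ := (Nat.dvd_prime_pow Nat.prime_three).1 (hRc ▸ Subgroup.orderOf_dvd_natCard R hg)
    rcases k with _ | k
    · exact absurd (orderOf_eq_one_iff.1 (by simpa using hk')) hg1
    · refine ⟨3 ^ k, ?_⟩
      rw [orderOf_pow, hk', Nat.gcd_eq_right (pow_dvd_pow 3 (by omega)),
        Nat.pow_div (by omega) (by norm_num), show k + 1 - k = 1 by omega, pow_one]
  -- the points other than P fixed by R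
  set F := ({P}ᶜ : Set (Sylow 5 G)) ∩ MulAction.fixedPoints R (Sylow 5 G) with hF
  have hFmod := modEq_inv hRp ({P}ᶜ : Set (Sylow 5 G))
    (fun g hg a ha => ne_smul ha (centralizer_le_normalizer _ (hRle hg)))
  rw [card_compl hn, ← hF] at hFmod
  have hPF : ∀ g ∈ (P : Subgroup G), ∀ a ∈ F, g • a ∈ F := by
    intro g hg a ha
    refine ⟨ne_smul ha.1 (le_normalizer hg), fun r => ?_⟩
    show (r : G) • g • a = g • a
    rw [← mul_smul, ← mem_centralizer_iff.1 (hRle r.2) g hg, mul_smul]
    exact congrArg (g • ·) (ha.2 r)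
  have hF5 := modEq_inv P.2 F hPF
  have hempty : F ∩ MulAction.fixedPoints (P : Subgroup G) (Sylow 5 G) = ∅ := by
    refine Set.eq_empty_iff_forall_notMem.2 fun a ha => ha.1.1 ?_
    exact (eq_of_le_normalizer P a fun g hg =>
      Sylow.smul_eq_iff_mem_normalizer.1 (ha.2 ⟨g, hg⟩)).symm
  rw [hempty, Set.ncard_empty] at hF5
  obtain ⟨g₀, hg₀, hg₀1⟩ := R.bot_or_exists_ne_one.resolve_left (fun e => by
    rw [e, card_bot] at hRc; norm_num at hRc)
  -- every element of order 3 fixes exactly F and P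
  have hsub : ∀ y ∈ R, orderOf y = 3 → fixSet y = insert P F := by
    intro y hy hy3
    rcases prime_centralizer hn h5 Nat.prime_three (hRle hy) hy3 (by norm_num) with ⟨h, -⟩ | ⟨-, h⟩
    · omega
    have hins : insert P F ⊆ fixSet y := by
      rintro a (rfl | ha)
      · exact hPfix y hy
      · exact ha.2 ⟨y, hy⟩
    have hPF' : P ∉ F := fun hP => hP.1 rfl
    have hc := Set.ncard_le_ncard hins (Set.toFinite _)
    rw [Set.ncard_insert_of_notMem hPF', h] at hc
    refine (Set.eq_of_subset_of_ncard_le hins ?_ (Set.toFinite _)).symm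
    rw [Set.ncard_insert_of_notMem hPF', h]
    have h1 : 20 % 3 = F.ncard % 3 := hFmod
    have h2 : F.ncard % 5 = 0 := hF5
    omega
  have hfree : ∀ g ∈ R, ∀ a ∈ (insert P F)ᶜ, g • a = a → g = 1 := by
    intro g hg a ha hfix
    by_contra hg1
    obtain ⟨m, hm⟩ := hthree g hg hg1
    exact ha (hsub _ (pow_mem hg m) hm ▸
      (pow_mem (mem_stabilizer_iff.2 hfix : _ ∈ MulAction.stabilizer G a) m : a ∈ fixSet (g ^ m)))
  have hd := dvd_of_free R (insert P F)ᶜ (fun g hg a ha hmem => ha ?_) hfree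
  · obtain ⟨m, hm⟩ := hthree g₀ hg₀ hg₀1
    rcases prime_centralizer hn h5 Nat.prime_three (hRle (pow_mem hg₀ m)) hm (by norm_num) with ⟨h, -⟩ | ⟨-, h⟩
    · omega
    rw [hsub _ (pow_mem hg₀ m) hm] at h
    rw [Set.ncard_compl, hn, h, hRc] at hd
    norm_num at hd
  · rcases hmem with h | h
    · exact Or.inl (smul_left_cancel g (h.trans (hPfix g hg).symm))
    · refine Or.inr ⟨?_, fun r => ?_⟩
      · intro e
        rw [Set.mem_singleton_iff] at e
        subst e
        exact h.1 (hPfix g hg)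
      · have hgr : ((⟨g, hg⟩ : R)) • a = g • a := rfl
        have h1 := h.2 (⟨g, hg⟩⁻¹ : R)
        rw [← hgr, inv_smul_smul] at h1
        rw [h1]
        exact h.2 r

include hn h5 in
theorem kappa (P : Sylow 5 G) :
    ∃ κ, Nat.card (centralizer ((P : Subgroup G) : Set G)) = 5 * κ ∧ κ ∣ 12 := by
  set C := centralizer ((P : Subgroup G) : Set G) with hC
  have hPC : (P : Subgroup G) ≤ C := by
    have hcyc := isCyclic_of_prime_card (h5 P)
    have := IsCyclic.isMulCommutative (α := (P : Subgroup G))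
    exact le_centralizer _
  obtain ⟨κ, hκ⟩ := (h5 P) ▸ card_dvd_of_le hPC
  refine ⟨κ, hκ, (Nat.dvd_iff_prime_pow_dvd_dvd 12 κ).2 fun q k hq hd => ?_⟩
  have hd' : q ^ k ∣ Nat.card C := hd.trans ⟨5, by rw [hκ, mul_comm]⟩
  rcases Nat.eq_zero_or_pos k with rfl | hk
  · simp
  by_cases hq5 : q = 5
  · subst hq5
    refine absurd ?_ (not_25_dvd h5)
    refine Dvd.dvd.trans ?_ (C.card_subgroup_dvd_card)
    rw [hκ, pow_two]
    exact mul_dvd_mul_left 5 ((dvd_pow_self 5 hk.ne').trans hd)
  have := Fact.mk hq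
  obtain ⟨z, hz⟩ := exists_prime_orderOf_dvd_card' q ((dvd_pow_self q hk.ne').trans hd')
  rcases prime_centralizer hn h5 hq z.2 (by rw [orderOf_coe, hz]) hq5 with ⟨rfl, -⟩ | ⟨rfl, -⟩
  · have : k ≤ 2 := by
      by_contra h
      exact two_part hn h5 P ((pow_dvd_pow 2 (by omega)).trans hd')
    exact (pow_dvd_pow 2 this).trans (by norm_num)
  · have : k ≤ 1 := by
      by_contra h
      exact three_part hn h5 P ((pow_dvd_pow 3 (by omega)).trans hd')
    exact (pow_dvd_pow 3 this).trans (by norm_num)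

include hn h5 in
theorem kappa_ne_six (P : Sylow 5 G) : Nat.card (centralizer ((P : Subgroup G) : Set G)) ≠ 30 := by
  intro h30
  set C := centralizer ((P : Subgroup G) : Set G) with hC
  have := Fact.mk Nat.prime_two
  have := Fact.mk Nat.prime_three
  have hPC : (P : Subgroup G) ≤ C := by
    have hcyc := isCyclic_of_prime_card (h5 P)
    have := IsCyclic.isMulCommutative (α := (P : Subgroup G))
    exact le_centralizer _
  obtain ⟨k, hk⟩ := exists_prime_orderOf_dvd_card' 3 (show 3 ∣ Nat.card C by rw [h30]; norm_num)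
  obtain ⟨z, hz⟩ := exists_prime_orderOf_dvd_card' 2 (show 2 ∣ Nat.card C by rw [h30]; norm_num)
  obtain ⟨S⟩ : Nonempty (Sylow 3 C) := inferInstance
  have hSc : Nat.card (S : Subgroup C) = 3 :=
    (Cfsg.Lib.Small.card_sylow 1 10 (by rw [h30]; norm_num) (by norm_num) S).trans (pow_one 3)
  have hSn : (S : Subgroup C).Normal := by
    set N := normalizer ((S : Subgroup C) : Set C) with hN
    obtain ⟨y, hy⟩ := exists_prime_orderOf_dvd_card' 5 (show 5 ∣ Nat.card (P : Subgroup G) by rw [h5])
    set yC : C := ⟨y, hPC y.2⟩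
    have hyc : ∀ x : C, x * yC = yC * x := fun x =>
      Subtype.ext (mem_centralizer_iff.1 x.2 _ y.2).symm
    have hyN : yC ∈ N := centralizer_le_normalizer _ (mem_centralizer_iff.2 fun x _ => hyc x)
    have h5N : 5 ∣ Nat.card N := by
      have : orderOf yC = 5 := by rw [← orderOf_coe, orderOf_coe y, hy]
      exact this ▸ Subgroup.orderOf_dvd_natCard _ hyN
    have h3N : 3 ∣ Nat.card N := hSc ▸ card_dvd_of_le le_normalizer
    have h15 : 15 ∣ Nat.card N :=
      Nat.Coprime.mul_dvd_of_dvd_of_dvd (show Nat.Coprime 3 5 by norm_num) h3N h5N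
    have hmul := Cfsg.Lib.Small.card_normalizer_mul S
    rw [h30, ← hN] at hmul
    have hmod : Nat.card (Sylow 3 C) % 3 = 1 := card_sylow_modEq_one 3 C
    obtain ⟨t, ht⟩ := h15
    rw [ht] at hmul
    have h1 : Nat.card (Sylow 3 C) = 1 := by
      have h2 : Nat.card (Sylow 3 C) * t = 2 := by nlinarith
      have : Nat.card (Sylow 3 C) ≤ 2 := Nat.le_of_dvd two_pos (Dvd.intro _ h2)
      omega
    rw [← normalizer_eq_top_iff, ← hN]
    refine Subgroup.eq_top_of_card_eq _ ?_
    rw [ht, h30]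
    rw [h1, one_mul] at hmul
    exact hmul
  have hkS : k ∈ (S : Subgroup C) := by
    have : Unique (Sylow 3 C) := Sylow.unique_of_normal S hSn
    obtain ⟨T, hT⟩ := (isPGroup_zpowers (G := C) (k := 1) (by rw [pow_one, hk])).exists_le_sylow
    exact Subsingleton.elim T S ▸ hT (mem_zpowers k)
  rcases prime_centralizer hn h5 Nat.prime_three k.2 (by rw [orderOf_coe, hk]) (by norm_num) with
    ⟨h, -⟩ | ⟨-, hF⟩
  · omega
  have hzk : ∃ i : ℤ, (z : G)⁻¹ * k * z = (k : G) ^ i := by
    have h1 := hSn.conj_mem k hkS z⁻¹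
    rw [inv_inv, ← Cfsg.Lib.Small.zpowers_eq_of_prime_card hSc hkS (fun e => by
      rw [e, orderOf_one] at hk; norm_num at hk)] at h1
    obtain ⟨i, hi⟩ := mem_zpowers_iff.1 h1
    exact ⟨i, by rw [← Subgroup.coe_zpow, hi]; rfl⟩
  obtain ⟨i, hi⟩ := hzk
  have hPk : P ∈ fixSet (k : G) :=
    Sylow.smul_eq_iff_mem_normalizer.2 (centralizer_le_normalizer _ k.2)
  have hzP : (z : G) • P = P := Sylow.smul_eq_iff_mem_normalizer.2 (centralizer_le_normalizer _ z.2)
  have hinv : ∀ g ∈ zpowers (z : G), ∀ a ∈ fixSet (k : G) \ {P}, g • a ∈ fixSet (k : G) \ {P} := by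
    intro g hg a ha
    refine ⟨?_, ne_smul (show a ≠ P from ha.2) (centralizer_le_normalizer _ ((zpowers_le.2 z.2) hg))⟩
    have hz2 : g = 1 ∨ g = (z : G) := by
      obtain ⟨j, rfl⟩ := mem_zpowers_iff.1 hg
      have h2 : (z : G) ^ 2 = 1 := by rw [← hz, ← orderOf_coe]; exact pow_orderOf_eq_one _
      rcases Int.even_or_odd j with ⟨m, rfl⟩ | ⟨m, rfl⟩
      · left
        rw [← two_mul, zpow_mul, zpow_two, ← pow_two, h2, one_zpow]
      · right
        rw [zpow_add, zpow_mul, zpow_two, ← pow_two, h2, one_zpow, one_mul, zpow_one]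
    rcases hz2 with rfl | rfl
    · rw [one_smul]; exact ha.1
    · show (k : G) • (z : G) • a = (z : G) • a
      rw [← mul_smul, show (k : G) * z = z * ((z : G)⁻¹ * k * z) by group, hi, mul_smul]
      exact congrArg ((z : G) • ·) (zpow_mem (K := MulAction.stabilizer G a) ha.1 i)
  have hm := modEq_inv (isPGroup_zpowers (r := 2) (k := 1) (z := (z : G))
    (by rw [orderOf_coe, hz, pow_one])) (fixSet (k : G) \ {P}) hinv
  have hempty : (fixSet (k : G) \ {P}) ∩ MulAction.fixedPoints (zpowers (z : G)) (Sylow 5 G) = ∅ := by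
    refine Set.eq_empty_iff_forall_notMem.2 fun a ha => ?_
    have := two_free hn h5 (show a ≠ P from ha.1.2) z.2 ((fix_zpowers _ _).1 ha.2)
      ⟨1, by rw [orderOf_coe, hz, pow_one]⟩
    rw [← orderOf_eq_one_iff, orderOf_coe, hz] at this
    norm_num at this
  rw [hempty, Set.ncard_empty, Set.ncard_sdiff (Set.singleton_subset_iff.2 hPk), hF,
    Set.ncard_singleton] at hm
  exact absurd hm (by decide)

include hn h5 in
/-- The stabiliser of a second point in the centraliser of a Sylow subgroup. -/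
theorem stab_card {P Q : Sylow 5 G} (hQ : Q ≠ P) {κ : ℕ}
    (hκ : Nat.card (centralizer ((P : Subgroup G) : Set G)) = 5 * κ) (hκd : κ ∣ 12) :
    5 * κ ≤ 20 * Nat.card ↥(centralizer ((P : Subgroup G) : Set G) ⊓ normalizer ((Q : Subgroup G) : Set G))
    ∧ Nat.card ↥(centralizer ((P : Subgroup G) : Set G) ⊓ normalizer ((Q : Subgroup G) : Set G)) ∣ Nat.gcd κ 3 := by
  set C := centralizer ((P : Subgroup G) : Set G) with hC
  set T := C ⊓ normalizer ((Q : Subgroup G) : Set G) with hT
  have hst : MulAction.stabilizer C Q = T.subgroupOf C := by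
    ext x
    rw [mem_stabilizer_iff, mem_subgroupOf]
    show (x : G) • Q = Q ↔ _
    rw [Sylow.smul_eq_iff_mem_normalizer]
    exact ⟨fun h => ⟨x.2, h⟩, fun h => h.2⟩
  refine ⟨?_, ?_⟩
  · have h1 := (MulAction.stabilizer C Q).card_mul_index
    rw [MulAction.index_stabilizer, hκ, hst, Nat.card_congr (subgroupOfEquivOfLe inf_le_left).toEquiv] at h1
    have h2 : (MulAction.orbit C Q).ncard ≤ 20 := by
      rw [← card_compl hn P]
      refine Set.ncard_le_ncard ?_ (Set.toFinite _)
      rintro _ ⟨x, rfl⟩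
      exact ne_smul hQ (centralizer_le_normalizer _ x.2)
    calc 5 * κ = Nat.card T * (MulAction.orbit C Q).ncard := h1.symm
      _ ≤ Nat.card T * 20 := Nat.mul_le_mul_left _ h2
      _ = 20 * Nat.card T := mul_comm _ _
  · have hdvd : Nat.card T ∣ 5 * κ := hκ ▸ card_dvd_of_le inf_le_left
    have hno : ∀ r : ℕ, r.Prime → r ∣ Nat.card T → r = 3 := by
      intro r hr hd
      have := Fact.mk hr
      obtain ⟨z, hz⟩ := exists_prime_orderOf_dvd_card' r hd
      have hz' : orderOf (z : G) = r := by rw [orderOf_coe, hz]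
      by_cases hr5 : r = 5
      · subst hr5
        exfalso
        refine hQ (eq_of_le_normalizer P Q ?_).symm
        rw [five_mem h5 z.2.1 hz', zpowers_le]
        exact z.2.2
      rcases prime_centralizer hn h5 hr z.2.1 hz' hr5 with ⟨rfl, -⟩ | ⟨rfl, -⟩
      · exfalso
        have := two_free hn h5 hQ z.2.1 (Sylow.smul_eq_iff_mem_normalizer.2 z.2.2) ⟨1, by rw [hz', pow_one]⟩
        rw [this, orderOf_one] at hz'
        norm_num at hz'
      · rfl
    have h9 : ¬ 3 ^ 2 ∣ Nat.card T := fun h =>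
      three_part hn h5 P (h.trans (card_dvd_of_le inf_le_left))
    have h3 : Nat.card T ∣ 3 := by
      refine (Nat.dvd_iff_prime_pow_dvd_dvd 3 _).2 fun q k hq hd => ?_
      rcases Nat.eq_zero_or_pos k with rfl | hk
      · simp
      obtain rfl := hno q hq ((dvd_pow_self q hk.ne').trans hd)
      have : k ≤ 1 := by
        by_contra h
        exact h9 ((pow_dvd_pow 3 (by omega)).trans hd)
      exact (pow_dvd_pow 3 this).trans (by norm_num)
    exact Nat.dvd_gcd ((Nat.Coprime.coprime_dvd_left h3 (show Nat.Coprime 3 5 by norm_num)).dvd_of_dvd_mul_left hdvd) h3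

omit [IsSimpleGroup G] in
include h5 in
theorem mem_centralizer_of_three {Q : Sylow 5 G} {z : G} (hz3 : orderOf z ∣ 3)
    (hz : z ∈ normalizer ((Q : Subgroup G) : Set G)) : z ∈ centralizer ((Q : Subgroup G) : Set G) := by
  set N := normalizer ((Q : Subgroup G) : Set G)
  set C := centralizer ((Q : Subgroup G) : Set G)
  have hCn : (C.subgroupOf N).Normal := by
    rw [← (Q : Subgroup G).normalizerMonoidHom_ker]
    infer_instance
  have h4 := (C.subgroupOf N).pow_index_mem ⟨z, hz⟩
  have hd : (C.subgroupOf N).index ∣ 5 - 1 := Cfsg.Lib.Small.relIndex_centralizer_dvd _ (h5 Q)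
  obtain ⟨j, hj⟩ := hd
  have h4' : (⟨z, hz⟩ : N) ^ 4 ∈ C.subgroupOf N := by
    rw [show (4 : ℕ) = (C.subgroupOf N).index * j from hj, pow_mul]
    exact pow_mem h4 j
  have h3 : z ^ 3 = 1 := orderOf_dvd_iff_pow_eq_one.1 hz3
  have h5' : z ^ 4 ∈ C := h4'
  rwa [pow_succ, h3, one_mul] at h5'

include hn h5 in
theorem kappa_ne_twelve (P₀ : Sylow 5 G) :
    Nat.card (centralizer ((P₀ : Subgroup G) : Set G)) ≠ 60 := by
  intro h0
  classical
  have hall : ∀ P : Sylow 5 G, Nat.card (centralizer ((P : Subgroup G) : Set G)) = 5 * 12 := by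
    intro P
    obtain ⟨g, rfl⟩ := MulAction.exists_smul_eq G P₀ P
    refine Eq.trans ?_ h0
    refine Nat.card_congr (Equiv.subtypeEquiv (MulAut.conj g⁻¹).toEquiv fun x => ?_)
    show x ∈ _ ↔ g⁻¹ * x * g⁻¹⁻¹ ∈ _
    rw [inv_inv]
    simp only [mem_centralizer_iff, SetLike.mem_coe]
    constructor
    · intro h y hy
      have h1 := h (g * y * g⁻¹) (mem_smul_sylow.2 (by simpa [mul_assoc] using hy))
      calc y * (g⁻¹ * x * g) = g⁻¹ * (g * y * g⁻¹ * x) * g := by group
        _ = g⁻¹ * (x * (g * y * g⁻¹)) * g := by rw [h1]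
        _ = _ := by group
    · intro h y hy
      have h1 := h (g⁻¹ * y * g) (mem_smul_sylow.1 hy)
      calc y * x = g * ((g⁻¹ * y * g) * (g⁻¹ * x * g)) * g⁻¹ := by group
        _ = g * ((g⁻¹ * x * g) * (g⁻¹ * y * g)) * g⁻¹ := by rw [h1]
        _ = x * y := by group
  set f : Sylow 5 G → Sylow 5 G → Subgroup G := fun P Q =>
    centralizer ((P : Subgroup G) : Set G) ⊓ centralizer ((Q : Subgroup G) : Set G) with hf
  have hf3 : ∀ P Q : Sylow 5 G, P ≠ Q → Nat.card (f P Q) = 3 := by
    intro P Q hPQ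
    obtain ⟨h1, h2⟩ := stab_card hn h5 hPQ.symm (hall P) dvd_rfl
    have heq : f P Q = centralizer ((P : Subgroup G) : Set G) ⊓ normalizer ((Q : Subgroup G) : Set G) := by
      refine le_antisymm (inf_le_inf_left _ (centralizer_le_normalizer _)) fun z hz => ⟨hz.1, ?_⟩
      refine mem_centralizer_of_three h5 ((Subgroup.orderOf_dvd_natCard _ hz).trans (h2.trans ?_)) hz.2
      norm_num
    rw [heq]
    rcases (Nat.dvd_prime Nat.prime_three).1 (show _ ∣ 3 from h2.trans (by norm_num)) with h | h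
    · rw [h] at h1; norm_num at h1
    · exact h
  have hconst := lines_const f 5 (fun a b _ => inf_comm _ _) (fun a b c hab hac hbc h => ?_)
    (fun a b hab => ?_) (by rw [hn]; norm_num)
  · obtain ⟨B, hB⟩ : ∃ B, B ≠ P₀ := by
      have : Nontrivial (Sylow 5 G) := Finite.one_lt_card_iff_nontrivial.1 (by omega)
      exact exists_ne P₀
    have hall2 : ∀ P Q : Sylow 5 G, P ≠ Q → f P Q = f P₀ B := by
      intro P Q hPQ
      by_cases hPA : P = P₀
      · subst hPA; exact hconst P Q B hPQ hB.symm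
      · rw [hconst P Q P₀ hPQ hPA, hconst P₀ B P hB.symm (Ne.symm hPA), hf]
        exact inf_comm _ _
    have hker : f P₀ B ≤ (MulAction.toPermHom G (Sylow 5 G)).ker := by
      intro z hz
      refine MonoidHom.mem_ker.2 (Equiv.ext fun Q => ?_)
      show z • Q = Q
      refine Sylow.smul_eq_iff_mem_normalizer.2 (centralizer_le_normalizer _ ?_)
      by_cases hQ : Q = P₀
      · subst hQ; exact hz.1
      · exact ((hall2 Q P₀ hQ).ge hz).1
    have hb : f P₀ B = ⊥ := by
      rw [eq_bot_iff]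
      exact hker.trans ((MonoidHom.ker_eq_bot_iff _).2 (hom_injective hn)).le
    have := hf3 P₀ B hB.symm
    rw [hb, card_bot] at this
    norm_num at this
  · symm
    refine eq_of_le_of_card_ge (le_inf inf_le_right (h.le.trans inf_le_right)) ?_
    rw [hf3 a b hab]
    exact (hf3 b c hbc).le
  · have horb := (relIndex_inf hn hab).2
    refine horb.symm.le.trans (Set.ncard_le_ncard ?_ (Set.toFinite _))
    rintro _ ⟨x, rfl⟩
    have hne : (x : G) • b ≠ a := ne_smul hab.symm (le_normalizer x.2)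
    refine ⟨hne, ?_⟩
    show f a ((x : G) • b) = f a b
    symm
    refine eq_of_le_of_card_ge (fun z hz => ⟨hz.1, mem_centralizer_iff.2 fun y hy => ?_⟩)
      (by rw [hf3 _ _ hne.symm, hf3 a b hab])
    have hzx : (x : G) * z = z * x := mem_centralizer_iff.1 hz.1 _ x.2
    have h1 := mem_centralizer_iff.1 hz.2 _ (mem_smul_sylow.1 hy)
    calc y * z = (x : G) * ((x : G)⁻¹ * y * x) * (x : G)⁻¹ * z := by group
      _ = (x : G) * ((x : G)⁻¹ * y * x) * z * (x : G)⁻¹ := by
          rw [mul_assoc _ _ z, mul_assoc _ z]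
          congr 1
          calc (x : G)⁻¹ * z = (x : G)⁻¹ * (z * x) * (x : G)⁻¹ := by group
            _ = z * (x : G)⁻¹ := by rw [← hzx]; group
      _ = (x : G) * (((x : G)⁻¹ * y * x) * z) * (x : G)⁻¹ := by group
      _ = (x : G) * (z * ((x : G)⁻¹ * y * x)) * (x : G)⁻¹ := by rw [h1]
      _ = ((x : G) * z) * ((x : G)⁻¹ * y) := by group
      _ = (z * x) * ((x : G)⁻¹ * y) := by rw [hzx]
      _ = z * y := by group

include hn h5 in
/-- The normaliser of a subgroup of order 7. -/
theorem seven_facts {d : ℕ} (hd : Nat.card G = 105 * d) (hd48 : d ∣ 48)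
    (P₀ : Sylow 5 G) (hH : Nat.card (normalizer ((P₀ : Subgroup G) : Set G)) = 5 * d) :
    ∃ t, 1 < t ∧ t ∣ 18 ∧ Nat.card (Sylow 7 G) * t = 15 * d ∧ Nat.card (Sylow 7 G) % 7 = 1 ∧
      Nat.card {g : G // orderOf g = 7} = 6 * Nat.card (Sylow 7 G) := by
  have h7 : Fact (Nat.Prime 7) := ⟨by norm_num⟩
  have hnd : ¬ 7 ∣ 15 * d := fun h => by
    have := (h.trans (mul_dvd_mul_left 15 hd48))
    norm_num at this
  have hd0 : 0 < d := Nat.pos_of_ne_zero fun e => (Nat.card_pos (α := G)).ne' (by simp [hd, e])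
  have hcard : ∀ S : Sylow 7 G, Nat.card (S : Subgroup G) = 7 := fun S =>
    (Cfsg.Lib.Small.card_sylow 1 (15 * d) (by rw [hd]; ring) hnd S).trans (pow_one 7)
  obtain ⟨S⟩ : Nonempty (Sylow 7 G) := inferInstance
  obtain ⟨x, hxS, hx1⟩ := (S : Subgroup G).bot_or_exists_ne_one.resolve_left (fun e => by
    have := hcard S; rw [e, card_bot] at this; norm_num at this)
  have hSx : zpowers x = (S : Subgroup G) := Cfsg.Lib.Small.zpowers_eq_of_prime_card (hcard S) hxS hx1
  have hx7 : orderOf x = 7 := by rw [← Nat.card_zpowers, hSx, hcard]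
  have hxfree : ∀ Q : Sylow 5 G, x • Q ≠ Q := by
    intro Q h
    have hxQ := Sylow.smul_eq_iff_mem_normalizer.1 h
    have hc : Nat.card (normalizer ((Q : Subgroup G) : Set G)) = 5 * d := by
      have h1 := Cfsg.Lib.Small.card_normalizer_mul Q
      rw [hn, hd] at h1
      omega
    have := hc ▸ (Subgroup.orderOf_dvd_natCard _ hxQ)
    rw [hx7] at this
    exact hnd (((Nat.Coprime.dvd_of_dvd_mul_left (by norm_num) this) : 7 ∣ d).mul_left 15)
  set C := centralizer ({x} : Set G) with hC
  have hfixmod : ∀ z ∈ C, (fixSet z).ncard % 7 = 0 := by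
    intro z hz
    have hxz : x * z = z * x := (mem_centralizer_singleton_iff.1 hz).symm
    have h := modEq_inv (isPGroup_zpowers (r := 7) (k := 1) (z := x) (by rw [hx7, pow_one]))
      (fixSet z) (fun g hg a ha => by
        obtain ⟨i, rfl⟩ := mem_zpowers_iff.1 hg
        exact mem_fixSet_smul ((Commute.zpow_left (show Commute x z from hxz) i).eq) ha)
    have he : fixSet z ∩ MulAction.fixedPoints (zpowers x) (Sylow 5 G) = ∅ :=
      Set.eq_empty_iff_forall_notMem.2 fun a ha => hxfree a ((fix_zpowers x a).1 ha.2)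
    rw [he, Set.ncard_empty] at h
    exact h
  have hC21 : Nat.card C ∣ 21 := by
    refine (Nat.dvd_iff_prime_pow_dvd_dvd 21 _).2 fun q k hq hdk => ?_
    rcases Nat.eq_zero_or_pos k with rfl | hk
    · simp
    have := Fact.mk hq
    obtain ⟨z, hz⟩ := exists_prime_orderOf_dvd_card' q ((dvd_pow_self q hk.ne').trans hdk)
    have hz' : orderOf (z : G) = q := by rw [orderOf_coe, hz]
    have hz1 : (z : G) ≠ 1 := fun e => hq.ne_one (by rw [← hz', e, orderOf_one])
    have hqG : q ^ k ∣ 105 * d := hd ▸ hdk.trans (Subgroup.card_subgroup_dvd_card C)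
    have hq48 : q ∣ 105 * 48 := ((dvd_pow_self q hk.ne').trans hqG).trans (mul_dvd_mul_left 105 hd48)
    have hq4 : q = 2 ∨ q = 3 ∨ q = 5 ∨ q = 7 := by
      have h' : q ∣ 2 ^ 4 * 3 ^ 2 * 5 * 7 := by norm_num at hq48 ⊢; exact hq48
      rcases hq.dvd_mul.1 h' with h' | h'
      · rcases hq.dvd_mul.1 h' with h' | h'
        · rcases hq.dvd_mul.1 h' with h' | h'
          · exact Or.inl ((Nat.prime_dvd_prime_iff_eq hq Nat.prime_two).1 (hq.dvd_of_dvd_pow h'))
          · exact Or.inr (Or.inl ((Nat.prime_dvd_prime_iff_eq hq Nat.prime_three).1 (hq.dvd_of_dvd_pow h')))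
        · exact Or.inr (Or.inr (Or.inl ((Nat.prime_dvd_prime_iff_eq hq (by norm_num)).1 h')))
      · exact Or.inr (Or.inr (Or.inr ((Nat.prime_dvd_prime_iff_eq hq (by norm_num)).1 h')))
    rcases hq4 with rfl | rfl | rfl | rfl
    · exfalso
      have h1 := invol_fix hn hz'
      have h2 := fix_lt hn hz1
      have h3 := hfixmod _ z.2
      omega
    · by_cases h9 : k ≤ 1
      · exact (pow_dvd_pow 3 h9).trans (by norm_num)
      exfalso
      obtain ⟨R₀, hR₀⟩ := Sylow.exists_subgroup_card_pow_prime (G := C) 3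
        ((pow_dvd_pow 3 (show 2 ≤ k by omega)).trans hdk)
      set R := R₀.map C.subtype with hR
      have hRc : Nat.card R = 3 ^ 2 := by rw [hR, Cfsg.Lib.Core.card_map_subtype, hR₀]
      have hd21 := dvd_of_free R (Set.univ : Set (Sylow 5 G)) (fun g _ a _ => Set.mem_univ _)
        (fun g hg a _ hfix => by
          by_contra hg1
          obtain ⟨j, hj, hj'⟩ := (Nat.dvd_prime_pow Nat.prime_three).1
            (hRc ▸ Subgroup.orderOf_dvd_natCard R hg)
          rcases j with _ | j
          · exact hg1 (orderOf_eq_one_iff.1 (by simpa using hj'))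
          have ho : orderOf (g ^ 3 ^ j) = 3 := by
            rw [orderOf_pow, hj', Nat.gcd_eq_right (pow_dvd_pow 3 (by omega)),
              Nat.pow_div (by omega) (by norm_num), show j + 1 - j = 1 by omega, pow_one]
          have hne : g ^ 3 ^ j ≠ 1 := fun e => by rw [e, orderOf_one] at ho; norm_num at ho
          have h1 := fix_modEq (r := 3) (isPGroup_zpowers (k := 1) (by rw [ho, pow_one])) hn
          have h2 := fix_lt hn hne
          have h3 := hfixmod _ ((map_subtype_le R₀) (pow_mem hg (3 ^ j)))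
          have h0 : (fixSet (g ^ 3 ^ j)).ncard = 0 := by
            have h1' : (fixSet (g ^ 3 ^ j)).ncard % 3 = 0 := h1
            omega
          have hmem : a ∈ fixSet (g ^ 3 ^ j) := pow_mem (mem_stabilizer_iff.2 hfix : _ ∈ MulAction.stabilizer G a) _
          rw [(Set.ncard_eq_zero (Set.toFinite _)).1 h0] at hmem
          exact hmem)
      rw [Set.ncard_univ, hn, hRc] at hd21
      norm_num at hd21
    · exfalso
      obtain ⟨Q, hQ⟩ := Cfsg.Lib.Small.exists_sylow_eq_zpowers h5 hz'
      have hxC : x ∈ centralizer ((Q : Subgroup G) : Set G) := by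
        rw [hQ, Cfsg.Lib.Small.centralizer_zpowers]
        exact mem_centralizer_singleton_iff.2 (mem_centralizer_singleton_iff.1 z.2).symm
      rcases prime_centralizer hn h5 (r := 7) (by norm_num) hxC hx7 (by norm_num) with ⟨h, -⟩ | ⟨h, -⟩ <;>
        omega
    · have : k ≤ 1 := by
        by_contra h
        have h49 : 7 ^ 2 ∣ 105 * d := (pow_dvd_pow 7 (by omega)).trans hqG
        apply hnd
        obtain ⟨c, hc⟩ := h49
        exact ⟨c, by omega⟩
      exact (pow_dvd_pow 7 this).trans (by norm_num)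
  set N := normalizer ((S : Subgroup G) : Set G) with hN
  have hCS : C = centralizer ((S : Subgroup G) : Set G) := by
    rw [← hSx, Cfsg.Lib.Small.centralizer_zpowers]
  have he6 : C.relIndex N ∣ 7 - 1 := hCS ▸ Cfsg.Lib.Small.relIndex_centralizer_dvd _ (hcard S)
  have hNC : Nat.card C * C.relIndex N = Nat.card N :=
    Cfsg.Lib.Core.card_mul_relIndex (hCS ▸ centralizer_le_normalizer _)
  obtain ⟨t, ht⟩ := hcard S ▸ card_dvd_of_le (le_normalizer : (S : Subgroup G) ≤ N)
  have hmul := Cfsg.Lib.Small.card_normalizer_mul S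
  rw [← hN, ht, hd] at hmul
  refine ⟨t, ?_, ?_, ?_, card_sylow_modEq_one 7 G, ?_⟩
  · rcases Nat.lt_or_ge 1 t with h | h
    · exact h
    exfalso
    have ht1 : t = 1 := by
      rcases Nat.eq_zero_or_pos t with rfl | h0
      · simp at ht; exact absurd ht Nat.card_pos.ne'
      · omega
    subst ht1
    refine Cfsg.Lib.Small.not_normalizer_le_centralizer (noncyclic hn) S (fun e => ?_) ?_
    · have := hcard S; rw [e, card_bot] at this; norm_num at this
    · rw [← hN]
      have hNS : N = (S : Subgroup G) := (eq_of_le_of_card_ge le_normalizer (by rw [ht, hcard])).symm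
      rw [hNS, ← hCS, ← hSx, zpowers_le]
      exact mem_centralizer_singleton_iff.2 rfl
  · have h1 : 7 * t ∣ 21 * 6 := ht ▸ hNC ▸ mul_dvd_mul hC21 he6
    exact Nat.dvd_of_mul_dvd_mul_left (show 0 < 7 by norm_num) (by norm_num at h1 ⊢; exact h1)
  · have : Nat.card (Sylow 7 G) * t * 7 = 15 * d * 7 := by
      rw [mul_assoc, mul_comm t 7, hmul]; ring
    omega
  · rw [Cfsg.Lib.Small.card_orderOf_eq hcard]; omega

include hn in
theorem sylow_normalizer_card {d : ℕ} (hd : Nat.card G = 105 * d) (Q : Sylow 5 G) :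
    Nat.card (normalizer ((Q : Subgroup G) : Set G)) = 5 * d := by
  have h1 := Cfsg.Lib.Small.card_normalizer_mul Q
  rw [hn, hd] at h1
  omega

include hn h5 in
/-- At most 30 elements of the normaliser fix a second point. -/
theorem many_single (P : Sylow 5 G) (hC : Nat.card (centralizer ((P : Subgroup G) : Set G)) = 20)
    (hH : Nat.card (normalizer ((P : Subgroup G) : Set G)) = 80) :
    49 ≤ {h : G | h ≠ 1 ∧ fixSet h = {P}}.ncard := by
  classical
  have := Fintype.ofFinite G
  have := Fintype.ofFinite (Sylow 5 G)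
  set C := centralizer ((P : Subgroup G) : Set G) with hCdef
  set H := normalizer ((P : Subgroup G) : Set G) with hHdef
  have := Fact.mk Nat.prime_two
  have hCH : C ≤ H := centralizer_le_normalizer _
  -- the centraliser is regular on the other points
  have hCfree : ∀ z ∈ C, ∀ Q ≠ P, z • Q = Q → z = 1 := by
    intro z hz Q hQ h
    have hs := (stab_card hn h5 hQ (κ := 4) (by rw [hC]) (by norm_num)).2
    rw [show Nat.gcd 4 3 = 1 by norm_num, Nat.dvd_one] at hs
    exact mem_bot.1 ((Subgroup.eq_bot_of_card_eq _ hs).le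
      (⟨hz, Sylow.smul_eq_iff_mem_normalizer.1 h⟩ :
        z ∈ C ⊓ normalizer ((Q : Subgroup G) : Set G)))
  -- stabilisers of second points in `H` have order 4
  have hL : ∀ Q : Sylow 5 G, Q ≠ P → Nat.card ↥(H ⊓ normalizer ((Q : Subgroup G) : Set G)) = 4 := by
    intro Q hQ
    have hst : MulAction.stabilizer H Q = (H ⊓ normalizer ((Q : Subgroup G) : Set G)).subgroupOf H := by
      ext x
      rw [mem_stabilizer_iff, mem_subgroupOf]
      show (x : G) • Q = Q ↔ _
      rw [Sylow.smul_eq_iff_mem_normalizer]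
      exact ⟨fun h => ⟨x.2, h⟩, fun h => h.2⟩
    have h1 := (MulAction.stabilizer H Q).card_mul_index
    rw [MulAction.index_stabilizer, hH, hst, Nat.card_congr (subgroupOfEquivOfLe inf_le_left).toEquiv] at h1
    have horb : (MulAction.orbit H Q).ncard = 20 := by
      refine le_antisymm ?_ ?_
      · rw [← card_compl hn P]
        refine Set.ncard_le_ncard ?_ (Set.toFinite _)
        rintro _ ⟨x, rfl⟩
        exact ne_smul hQ x.2
      · rw [← hC, ← Nat.card_coe_set_eq]
        refine Nat.card_le_card_of_injective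
          (fun c : C => (⟨(c : G) • Q, ⟨⟨c, hCH c.2⟩, rfl⟩⟩ : MulAction.orbit H Q)) fun a b h => ?_
        have h' : (a : G) • Q = (b : G) • Q := congrArg Subtype.val h
        refine Subtype.ext (inv_mul_eq_one.1 (hCfree _ (mul_mem (inv_mem b.2) a.2) Q hQ ?_)).symm
        rw [mul_smul, h', inv_smul_smul]
    rw [horb] at h1
    omega
  -- an element fixing a second point fixes a third one
  have htwo : ∀ h ∈ H, ∀ Q ≠ P, h • Q = Q → h ≠ 1 → ∃ R, R ≠ P ∧ R ≠ Q ∧ h • R = R := by
    intro h hh Q hQ hfix hne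
    have h4 : h ^ 4 = 1 := by
      rw [← orderOf_dvd_iff_pow_eq_one, ← hL Q hQ]
      exact Subgroup.orderOf_dvd_natCard _
        (⟨hh, Sylow.smul_eq_iff_mem_normalizer.1 hfix⟩ :
          h ∈ H ⊓ normalizer ((Q : Subgroup G) : Set G))
    obtain ⟨S⟩ : Nonempty (Sylow 2 C) := inferInstance
    have hSc : Nat.card (S : Subgroup C) = 4 :=
      (Cfsg.Lib.Small.card_sylow 2 5 (by rw [hC]; norm_num) (by norm_num) S).trans (by norm_num)
    have hPC : (P : Subgroup G) ≤ C := by
      have hcyc := isCyclic_of_prime_card (h5 P)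
      have := IsCyclic.isMulCommutative (α := (P : Subgroup G))
      exact le_centralizer _
    have hSn : (S : Subgroup C).Normal := by
      rw [← normalizer_eq_top_iff]
      refine Subgroup.eq_top_of_card_eq _ (Nat.dvd_antisymm ((Subgroup.card_subgroup_dvd_card _)) ?_)
      rw [hC]
      obtain ⟨y, hy⟩ := exists_prime_orderOf_dvd_card' 5 (show 5 ∣ Nat.card (P : Subgroup G) by rw [h5])
      set yC : C := ⟨y, hPC y.2⟩
      have hyN : yC ∈ normalizer ((S : Subgroup C) : Set C) :=
        centralizer_le_normalizer _ (mem_centralizer_iff.2 fun x _ =>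
          Subtype.ext (mem_centralizer_iff.1 x.2 _ y.2).symm)
      have h5N : 5 ∣ Nat.card (normalizer ((S : Subgroup C) : Set C)) := by
        have : orderOf yC = 5 := by rw [← orderOf_coe, orderOf_coe y, hy]
        exact this ▸ Subgroup.orderOf_dvd_natCard _ hyN
      have h4N : 4 ∣ Nat.card (normalizer ((S : Subgroup C) : Set C)) := hSc ▸ card_dvd_of_le le_normalizer
      exact Nat.Coprime.mul_dvd_of_dvd_of_dvd (show Nat.Coprime 4 5 by norm_num) h4N h5N
    set K := (S : Subgroup C).map C.subtype with hK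
    have hKc : Nat.card K = 4 := by rw [hK, Cfsg.Lib.Core.card_map_subtype, hSc]
    have hKn : ∀ k ∈ K, h * k * h⁻¹ ∈ K := by
      intro k hk
      obtain ⟨k', hk', rfl⟩ := hk
      have hmem : h * (k' : G) * h⁻¹ ∈ C := by
        refine mem_centralizer_iff.2 fun y hy => ?_
        have h1 := mem_centralizer_iff.1 k'.2 _ ((mem_normalizer_iff'.1 hh (h⁻¹ * y)).2 (by
          rw [mul_inv_cancel_left]; exact hy))
        calc y * (h * k' * h⁻¹) = h * (h⁻¹ * y * h * k') * h⁻¹ := by group
          _ = h * (k' * (h⁻¹ * y * h)) * h⁻¹ := by rw [h1]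
          _ = _ := by group
      refine ⟨⟨_, hmem⟩, ?_, rfl⟩
      have : Unique (Sylow 2 C) := Sylow.unique_of_normal S hSn
      obtain ⟨j, -, hj⟩ := (Nat.dvd_prime_pow Nat.prime_two).1
        (show orderOf (⟨_, hmem⟩ : C) ∣ 2 ^ 2 by
          refine orderOf_dvd_of_pow_eq_one (Subtype.ext ?_)
          rw [SubmonoidClass.coe_pow, conj_pow]
          have : (k' : C) ^ 4 = 1 := orderOf_dvd_iff_pow_eq_one.1 (hSc ▸ Subgroup.orderOf_dvd_natCard _ hk')
          rw [show (2 ^ 2 : ℕ) = 4 by norm_num, ← SubmonoidClass.coe_pow, this]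
          simp)
      obtain ⟨T, hT⟩ := (isPGroup_zpowers (G := C) hj).exists_le_sylow
      exact Subsingleton.elim T S ▸ hT (mem_zpowers _)
    let α := {k : G // k ∈ K ∧ k ≠ 1}
    have hmaps : ∀ k : G, k ∈ K ∧ k ≠ 1 → h * k * h⁻¹ ∈ K ∧ h * k * h⁻¹ ≠ 1 :=
      fun k hk => ⟨hKn k hk.1, fun e => hk.2 (conj_eq_one_iff.1 e)⟩
    let σf : α → α := fun k => ⟨h * k * h⁻¹, hmaps k k.2⟩
    have hσi : Function.Injective σf := fun a b e => Subtype.ext (by
      have := congrArg Subtype.val e
      simpa [σf] using this)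
    let σ : Equiv.Perm α := Equiv.ofBijective σf (Finite.injective_iff_bijective.1 hσi)
    have hσ : σ ^ 2 ^ 2 = 1 := by
      ext k
      show ((σ^[4] k) : G) = k
      simp only [Function.iterate_succ, Function.iterate_zero, Function.comp_apply, id_eq]
      show h * (h * (h * (h * (k : G) * h⁻¹) * h⁻¹) * h⁻¹) * h⁻¹ = k
      calc _ = h ^ 4 * (k : G) * (h ^ 4)⁻¹ := by simp only [pow_succ, pow_zero, one_mul, mul_inv_rev, mul_assoc]
        _ = k := by rw [h4]; simp
    have hα : Nat.card α = 3 := by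
      have h1 : Nat.card α = ((K : Set G) \ {1}).ncard := by
        rw [← Nat.card_coe_set_eq]
        exact Nat.card_congr (Equiv.subtypeEquivRight fun k => by simp)
      rw [h1, Set.ncard_sdiff (Set.singleton_subset_iff.2 (one_mem K)), Set.ncard_singleton,
        ← Nat.card_coe_set_eq]
      show Nat.card K - 1 = 3
      rw [hKc]
    have : Fintype α := Fintype.ofFinite α
    obtain ⟨⟨k, hk, hk1⟩, hkf⟩ := Equiv.Perm.exists_fixed_point_of_prime (p := 2)
      (by rw [← Nat.card_eq_fintype_card, hα]; norm_num) hσ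
    have hkf' : h * k * h⁻¹ = k := congrArg Subtype.val hkf
    obtain ⟨k', hk', rfl⟩ := hk
    refine ⟨(k' : G) • Q, ne_smul hQ (hCH k'.2), fun e => hk1 (hCfree _ k'.2 Q hQ e), ?_⟩
    show h • (k' : G) • Q = (k' : G) • Q
    rw [← mul_smul, (mul_inv_eq_iff_eq_mul.1 hkf' : h * (k' : G) = (k' : G) * h), mul_smul, hfix]
  -- double count
  set U := (Finset.univ : Finset G).filter (fun h => h ≠ 1 ∧ h ∈ H ∧ ∃ Q, Q ≠ P ∧ h • Q = Q) with hU
  set T := (Finset.univ : Finset (Sylow 5 G)).filter (fun Q => Q ≠ P) with hT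
  have hTc : T.card = 20 := by
    rw [hT, Finset.filter_ne', Finset.card_erase_of_mem (Finset.mem_univ _), Finset.card_univ,
      ← Nat.card_eq_fintype_card, hn]
  have hcount := Finset.card_mul_le_card_mul (fun (h : G) (Q : Sylow 5 G) => h • Q = Q)
    (s := U) (t := T) (m := 2) (n := 3) (fun h hh => ?_) (fun Q hQ => ?_)
  rotate_left
  · simp only [hU, Finset.mem_filter, Finset.mem_univ, true_and] at hh
    obtain ⟨h1, hH', Q, hQ, hf⟩ := hh
    obtain ⟨R, hR1, hR2, hR3⟩ := htwo h hH' Q hQ hf h1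
    refine (Finset.card_pair hR2).symm.le.trans (Finset.card_le_card ?_)
    intro a ha
    simp only [Finset.mem_insert, Finset.mem_singleton] at ha
    rcases ha with rfl | rfl <;> simp [Finset.mem_bipartiteAbove, hT, hQ, hR1, hf, hR3]
  · simp only [hT, Finset.mem_filter, Finset.mem_univ, true_and] at hQ
    set L := H ⊓ normalizer ((Q : Subgroup G) : Set G)
    refine (Finset.card_le_card (t := ((L : Set G).toFinset).erase 1) ?_).trans_eq ?_
    · intro g hg
      simp only [Finset.mem_bipartiteBelow, hU, Finset.mem_filter, Finset.mem_univ, true_and] at hg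
      simp only [Finset.mem_erase, Set.mem_toFinset, SetLike.mem_coe]
      exact ⟨hg.1.1, hg.1.2.1, Sylow.smul_eq_iff_mem_normalizer.1 hg.2⟩
    · rw [Finset.card_erase_of_mem (by simp [one_mem]), ← Set.ncard_eq_toFinset_card', ← Nat.card_coe_set_eq]
      show Nat.card L - 1 = 3
      rw [hL Q hQ]
  rw [hTc] at hcount
  have hsub : (((H : Set G).toFinset.erase 1) \ U : Finset G) ⊆
      ({h : G | h ≠ 1 ∧ fixSet h = {P}} : Set G).toFinset := by
    intro h hh
    simp only [Finset.mem_sdiff, Finset.mem_erase, Set.mem_toFinset, SetLike.mem_coe, hU,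
      Finset.mem_filter, Finset.mem_univ, true_and, not_and, not_exists] at hh
    obtain ⟨⟨h1, hH'⟩, hno⟩ := hh
    simp only [Set.mem_toFinset, Set.mem_ofPred_eq]
    refine ⟨h1, Set.eq_singleton_iff_unique_mem.2 ⟨Sylow.smul_eq_iff_mem_normalizer.2 hH', fun Q hQ => ?_⟩⟩
    by_contra hne
    exact hno h1 hH' Q hne hQ
  have h1 := Finset.card_le_card hsub
  have h2 := Finset.le_card_sdiff U ((H : Set G).toFinset.erase 1)
  have h3 : ((H : Set G).toFinset.erase 1).card = 79 := by
    rw [Finset.card_erase_of_mem (by simp [one_mem]), ← Set.ncard_eq_toFinset_card', ← Nat.card_coe_set_eq]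
    show Nat.card H - 1 = 79
    rw [hH]
  rw [← Set.ncard_eq_toFinset_card'] at h1
  omega

include hn h5 in
theorem simple_false : False := by
  classical
  obtain ⟨P⟩ : Nonempty (Sylow 5 G) := inferInstance
  set C := centralizer ((P : Subgroup G) : Set G) with hC
  set H := normalizer ((P : Subgroup G) : Set G) with hH
  obtain ⟨κ, hκ, hκd⟩ := kappa hn h5 P
  obtain ⟨e, he⟩ : ∃ e, C.relIndex H = e := ⟨_, rfl⟩
  have he4 : e ∣ 5 - 1 := he ▸ Cfsg.Lib.Small.relIndex_centralizer_dvd _ (h5 P)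
  have he1 : e ≠ 1 := fun h => by
    refine Cfsg.Lib.Small.not_normalizer_le_centralizer (noncyclic hn) P (fun hb => ?_) (relIndex_eq_one.1 (he.trans h))
    have := h5 P; rw [hb, card_bot] at this; norm_num at this
  have hHc : Nat.card H = 5 * (κ * e) := by
    rw [← Cfsg.Lib.Core.card_mul_relIndex (centralizer_le_normalizer _ : C ≤ H), he, hκ, mul_assoc]
  have hd : Nat.card G = 105 * (κ * e) := by
    rw [← Cfsg.Lib.Small.card_normalizer_mul P, hn, ← hH, hHc]; ring
  have hd48 : κ * e ∣ 48 := mul_dvd_mul hκd (show e ∣ 4 from he4)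
  have hκ12 : κ ≠ 12 := fun h => kappa_ne_twelve hn h5 P (by rw [← hC, hκ, h])
  have hκ6 : κ ≠ 6 := fun h => kappa_ne_six hn h5 P (by rw [← hC, hκ, h])
  have hκcases : κ = 1 ∨ κ = 2 ∨ κ = 3 ∨ κ = 4 := by
    have := Nat.le_of_dvd (by norm_num) hκd
    interval_cases κ <;> omega
  have hecases : e = 2 ∨ e = 4 := by
    have h4 : e ∣ 4 := he4
    have := Nat.le_of_dvd (by norm_num) h4
    interval_cases e <;> omega
  -- twice an odd number
  by_cases hodd : κ * e = 2 ∨ κ * e = 6
  · have := Fact.mk Nat.prime_two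
    obtain ⟨T⟩ : Nonempty (Sylow 2 G) := inferInstance
    have hT : Nat.card (T : Subgroup G) = 2 := by
      rcases hodd with h | h
      · exact (Cfsg.Lib.Small.card_sylow 1 105 (by rw [hd, h]; norm_num) (by norm_num) T).trans (pow_one 2)
      · exact (Cfsg.Lib.Small.card_sylow 1 315 (by rw [hd, h]; norm_num) (by norm_num) T).trans (pow_one 2)
    obtain ⟨N, hN⟩ := Cfsg.Lib.Invol.exists_index_two_of_isCyclic (by
      rw [hd]; rcases hodd with h | h <;> rw [h] <;> decide) T (isCyclic_of_prime_card hT)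
    exact Cfsg.Lib.OrderLeHundred.no_index_two (noncyclic hn) N hN
  obtain ⟨t, ht1, ht18, hnt, hmod, h7c⟩ := seven_facts hn h5 hd hd48 P hHc
  have ht : t ≤ 18 := Nat.le_of_dvd (by norm_num) ht18
  obtain ⟨n7, hn7⟩ : ∃ m, Nat.card (Sylow 7 G) = m := ⟨_, rfl⟩
  rw [hn7] at hnt hmod h7c
  have hkey : κ = 4 ∧ e = 4 ∧ n7 = 120 := by
    rcases hκcases with rfl | rfl | rfl | rfl <;> rcases hecases with rfl | rfl <;>
      first | omega | (simp only [Nat.reduceMul] at hnt; interval_cases t <;> omega)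
  obtain ⟨hκ4, he4', hn120⟩ := hkey
  subst hκ4
  rw [hn120] at h7c
  have hG : Nat.card G = 1680 := by rw [hd, he4']
  have h49 : ∀ Q : Sylow 5 G, 49 ≤ {h : G | h ≠ 1 ∧ fixSet h = {Q}}.ncard := by
    intro Q
    have hHQ := sylow_normalizer_card hn hd Q
    obtain ⟨κ', hκ', hκd'⟩ := kappa hn h5 Q
    have heQ := Cfsg.Lib.Core.card_mul_relIndex
      (centralizer_le_normalizer _ : centralizer ((Q : Subgroup G) : Set G) ≤ normalizer ((Q : Subgroup G) : Set G))
    have he4Q : (centralizer ((Q : Subgroup G) : Set G)).relIndex (normalizer ((Q : Subgroup G) : Set G)) ∣ 4 :=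
      Cfsg.Lib.Small.relIndex_centralizer_dvd _ (h5 Q)
    have h6 : κ' ≠ 6 := fun h => kappa_ne_six hn h5 Q (by rw [hκ', h])
    have h12 : κ' ≠ 12 := fun h => kappa_ne_twelve hn h5 Q (by rw [hκ', h])
    have h16 : Nat.card (normalizer ((Q : Subgroup G) : Set G)) = 80 := by rw [hHQ, he4']
    refine many_single hn h5 Q ?_ h16
    rw [hκ', h16] at heQ
    obtain ⟨eQ, heQ'⟩ : ∃ m, (centralizer ((Q : Subgroup G) : Set G)).relIndex (normalizer ((Q : Subgroup G) : Set G)) = m :=
      ⟨_, rfl⟩
    rw [heQ'] at heQ he4Q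
    rw [hκ']
    have := Nat.le_of_dvd (by norm_num) he4Q
    have := Nat.le_of_dvd (by norm_num) hκd'
    interval_cases eQ <;> interval_cases κ' <;> omega
  have := Fintype.ofFinite G
  have := Fintype.ofFinite (Sylow 5 G)
  set f : Sylow 5 G → Finset G := fun Q => ({h : G | h ≠ 1 ∧ fixSet h = {Q}} : Set G).toFinset with hf
  set A : Finset G := ({g : G | orderOf g = 7} : Set G).toFinset with hA
  have hdisj : (↑(Finset.univ : Finset (Sylow 5 G)) : Set (Sylow 5 G)).PairwiseDisjoint f := by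
    intro a _ b _ hab
    show Disjoint (f a) (f b)
    rw [Finset.disjoint_left]
    intro x hxa hxb
    simp only [hf, Set.mem_toFinset, Set.mem_ofPred_eq] at hxa hxb
    exact hab (Set.singleton_injective (hxa.2.symm.trans hxb.2))
  have hAc : A.card = 720 := by
    rw [hA, ← Set.ncard_eq_toFinset_card', ← Nat.card_coe_set_eq]
    exact h7c
  have hdA : Disjoint A (Finset.univ.biUnion f) := by
    rw [Finset.disjoint_left]
    intro x hxA hxB
    simp only [hA, Set.mem_toFinset, Set.mem_ofPred_eq] at hxA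
    simp only [Finset.mem_biUnion, Finset.mem_univ, true_and, hf, Set.mem_toFinset, Set.mem_ofPred_eq] at hxB
    obtain ⟨Q, -, hQ⟩ := hxB
    have hmem : x • Q = Q := (hQ.ge rfl : Q ∈ fixSet x)
    have hc := Subgroup.orderOf_dvd_natCard _ (Sylow.smul_eq_iff_mem_normalizer.1 hmem : x ∈ normalizer ((Q : Subgroup G) : Set G))
    have h80 := sylow_normalizer_card hn hd Q
    rw [he4'] at h80
    rw [hxA] at hc
    erw [h80] at hc
    norm_num at hc
  have htot := Finset.card_le_univ (A ∪ Finset.univ.biUnion f)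
  rw [Finset.card_union_of_disjoint hdA, Finset.card_biUnion hdisj, hAc, ← Nat.card_eq_fintype_card, hG] at htot
  have hsum : 21 * 49 ≤ ∑ Q : Sylow 5 G, (f Q).card := by
    rw [← hn, Nat.card_eq_fintype_card, ← Finset.card_univ, ← smul_eq_mul]
    refine Finset.card_nsmul_le_sum _ _ _ fun Q _ => ?_
    rw [hf, ← Set.ncard_eq_toFinset_card']
    exact h49 Q
  omega

end Simple

theorem aux : ∀ (n : ℕ) (G : Type u) [Group G] [Finite G], Nat.card G = n → Nat.card (Sylow 5 G) ≠ 21 := by
  intro n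
  induction n using Nat.strong_induction_on with
  | _ n ih =>
  intro G _ _ hcard hn
  have hmin : Minimal G := fun H _ _ hlt => ih _ (hcard ▸ hlt) H rfl
  have := isSimple_of_minimal hmin hn
  exact simple_false hn (card_sylow_five hmin hn)

/-- No finite group has exactly twenty-one Sylow 5-subgroups. -/
theorem result {G : Type*} [Group G] [Finite G] : Nat.card (Sylow 5 G) ≠ 21 := by
  exact aux _ G rfl

end Cfsg.Agent.S1010
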