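import Cfsg.Statements.S3334
-- import your own Cfsg.Agent.* helpers here
import Cfsg.Agent.Lib.MclType.Embed
import Cfsg.Agent.Lib.MclType.Count

set_option autoImplicit false
open Cfsg

namespace Cfsg.Agent.S3334

/-- Let G be a finite group with an involution t whose centralizer is a non-split double cover of the alternating group of degree 8. Then either G = C_G(t) O_{2'}(G), or G is isomorphic to the McLaughlin group. -/
theorem result {G : Type*} [Group G] [Finite G]
    (t : G) (ht : orderOf t = 2)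
    (hcov : Cfsg.IsNonsplitDoubleCover (Subgroup.centralizer ({t} : Set G)) (alternatingGroup (Fin 8))) :
    Subgroup.centralizer ({t} : Set G) ⊔ Cfsg.oddCore G = ⊤ ∨ Nonempty (G ≃* Cfsg.Spor.McL) := by
  classical
  by_cases hiso : IsIsolatedInvolution t
  · exact Or.inl (Cfsg.Lib.MclType.factor_of_isolated hiso)
  obtain ⟨ψ, hψ⟩ := Cfsg.Lib.MclType.exists_psi hcov ht
  obtain ⟨i, H⟩ := Cfsg.Lib.MclType.exists_cfg ht ψ hψ hiso
  obtain ⟨φ, hφ, hle⟩ := H.embed
  have lV : Cfsg.Lib.MclType.dV < 192 := by decide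
  have lT : Cfsg.Lib.MclType.dT < 192 := by decide
  set v := Cfsg.Lib.MclType.dG ψ Cfsg.Lib.MclType.dV with hv
  have htG : Cfsg.Lib.MclType.dG ψ Cfsg.Lib.MclType.dT = t := by
    rw [Cfsg.Lib.MclType.dG, Cfsg.Lib.MclType.dP_T, hψ]
  have hvT : i * t * i = v := by
    rw [← htG, H.act _ lT, Cfsg.Lib.MclType.al_facts.2.1]
  have hv2 : orderOf v = 2 := by
    have hi : i⁻¹ = i := inv_eq_of_mul_eq_one_left H.sq
    rw [← hvT, ← ht]
    calc orderOf (i * t * i) = orderOf (i * t * i⁻¹) := by rw [hi]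
      _ = orderOf t := MulEquiv.orderOf_eq (MulAut.conj i) t
  have hvt : v ≠ t := fun e => by
    have := Cfsg.Lib.MclType.dG_inj ψ lV lT (e.trans htG.symm)
    exact absurd this (by decide)
  have hcv : Commute t v :=
    (Subgroup.mem_centralizer_singleton_iff.1 (Cfsg.Lib.MclType.dG_mem ψ lV)).symm
  have htop := Cfsg.Lib.MclType.top_of_model ht hcov φ hφ hle hv2 hvt hcv
  obtain ⟨⟨e⟩, -⟩ := Cfsg.Lib.PermAut.MclInv.kk_model
  exact Or.inr ⟨(e.trans (MulEquiv.ofBijective φ ⟨hφ, MonoidHom.range_eq_top.1 htop⟩)).symm⟩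

end Cfsg.Agent.S3334
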