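import Cfsg.Statements.S3716
import Cfsg.Agent.Lib.Recog.NineEight.Chars

set_option autoImplicit false
open Cfsg

namespace Cfsg.Agent.S3716

/-- Let G be a finite group with an elementary abelian Sylow 3-subgroup M of order 9 which is self-centralizing (C_G(M) = M), let N = N_G(M), and suppose C_G(g) ≤ N for every nonidentity g ∈ M. If the Sylow 2-subgroups of N are dihedral of order 8, then G is not simple. -/
theorem result {G : Type*} [Group G] [Finite G] (M : Sylow 3 G) (hM9 : Nat.card ↥(M : Subgroup G) = 9)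
    (hMel : ∀ m ∈ (M : Subgroup G), m ^ 3 = 1)
    (hCM : Subgroup.centralizer ((M : Subgroup G) : Set G) = (M : Subgroup G))
    (N : Subgroup G) (hN : N = Subgroup.normalizer ((M : Subgroup G) : Set G))
    (hCg : ∀ g ∈ (M : Subgroup G), g ≠ 1 → Subgroup.centralizer ({g} : Set G) ≤ N)
    (hS : ∀ S : Sylow 2 ↥N, Nonempty (↥(S : Subgroup ↥N) ≃* DihedralGroup 4)) :
    ¬ IsSimpleGroup G := by
  classical
  intro hsimple
  subst hN
  haveI := Fintype.ofFinite G
  haveI : Fact (Nat.Prime 3) := ⟨Nat.prime_three⟩
  let X : Cfsg.Lib.Recog.NineEight.Setting G :=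
    { M := M, card_M := hM9, cube := hMel, cent_M := hCM, cent_le := hCg, dihedral := hS }
  obtain ⟨χ, hne, h1⟩ := X.exists_linear
  obtain ⟨lam, hlam⟩ := Cfsg.Lib.Char.exists_hom_of_degree_one χ.2.isCharacter h1
  rcases Subgroup.Normal.eq_bot_or_eq_top (H := lam.ker) inferInstance with hk | hk
  · have hinj : Function.Injective lam := (MonoidHom.ker_eq_bot_iff lam).mp hk
    have htop : Subgroup.centralizer ((M : Subgroup G) : Set G) = ⊤ :=
      eq_top_iff.mpr fun x _ => Subgroup.mem_centralizer_iff.mpr fun y _ =>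
        hinj (by rw [map_mul, map_mul, mul_comm])
    rw [hCM] at htop
    have hG : Nat.card G = 9 := by rw [← Subgroup.card_top (G := G), ← htop, hM9]
    obtain ⟨g, hg⟩ := exists_prime_orderOf_dvd_card' (G := G) 3 (by rw [hG]; norm_num)
    haveI : (Subgroup.zpowers g).Normal := ⟨fun a ha b => by
      rwa [show b * a * b⁻¹ = a from hinj (by simp [mul_comm])]⟩
    have h3 : Nat.card (Subgroup.zpowers g) = 3 := by rw [Nat.card_zpowers, hg]
    rcases Subgroup.Normal.eq_bot_or_eq_top (H := Subgroup.zpowers g) inferInstance with e | e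
    · rw [e, Subgroup.card_bot] at h3
      omega
    · rw [e, Subgroup.card_top, hG] at h3
      omega
  · refine hne (funext fun g => ?_)
    have hg : lam g = 1 := MonoidHom.mem_ker.mp (by rw [hk]; trivial)
    simp [hlam, hg]

end Cfsg.Agent.S3716
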