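import Cfsg.Statements.S3333
import Cfsg.Agent.Lib.Recog.NineSC.SixMain
import Cfsg.Agent.S3716

set_option autoImplicit false
open Cfsg

namespace Cfsg.Agent.S3333

/-- Let G be a finite group with a Sylow 3-subgroup S of order 9 that is its own centralizer, with N_G(S)/S dihedral of order 8, and such that C_G(x) ≤ N_G(S) for every non-identity x in S. Then S is normal in G or G is isomorphic to the symmetric group of degree 6. -/
theorem result {G : Type*} [Group G] [Finite G]
    (P : Sylow 3 G) (S : Subgroup G) (hSP : S = P) (hcard : Nat.card S = 9)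
    (hC : Subgroup.centralizer (S : Set G) = S)
    (eN : Subgroup.normalizer (S : Set G) ⧸ S.subgroupOf (Subgroup.normalizer (S : Set G)) ≃* DihedralGroup 4)
    (hcent : ∀ x ∈ S, x ≠ 1 → Subgroup.centralizer ({x} : Set G) ≤ Subgroup.normalizer (S : Set G)) :
    S.Normal ∨ Nonempty (G ≃* Equiv.Perm (Fin 6)) := by
  by_cases hnor : S.Normal
  · exact Or.inl hnor
  refine Or.inr ?_
  obtain ⟨X, hX⟩ := Cfsg.Lib.Recog.NineSC.exists_sixHyp P S hSP hcard hC eN hcent
  subst hSP
  haveI : Fact (Nat.Prime 2) := ⟨Nat.prime_two⟩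
  subst hX
  refine X.iso_symmetric hnor fun hsimple => ?_
  refine Cfsg.Agent.S3716.result X.S hcard X.cube hC _ rfl hcent ?_ hsimple
  intro Q
  have hQ : Nat.card ↥(Q : Subgroup ↥(Subgroup.normalizer ((X.S : Subgroup G) : Set G))) = 8 := by
    rw [Sylow.card_eq_multiplicity, X.card_N]
    rw [show (72 : ℕ) = 2 ^ 3 * 3 ^ 2 by norm_num, Nat.factorization_mul (by norm_num) (by norm_num),
      Nat.Prime.factorization_pow Nat.prime_two, Nat.Prime.factorization_pow Nat.prime_three]
    simp
  refine ⟨MulEquiv.ofBijective (eN.toMonoidHom.comp ((QuotientGroup.mk' _).comp (Q : Subgroup _).subtype))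
    ((Function.Injective.bijective_of_nat_card_le ?_ ?_))⟩
  · refine (injective_iff_map_eq_one _).2 fun y hy => ?_
    have h1 : ((y : ↥(Subgroup.normalizer ((X.S : Subgroup G) : Set G))) : G) ∈ (X.S : Subgroup G) := by
      have h2 := (map_eq_one_iff eN eN.injective).1 hy
      exact Subgroup.mem_subgroupOf.1 ((QuotientGroup.eq_one_iff _).1 h2)
    have h3 : orderOf y ∣ 3 := by
      rw [← Subgroup.orderOf_coe, ← Subgroup.orderOf_coe]
      exact orderOf_dvd_of_pow_eq_one (X.cube _ h1)
    have h4 : orderOf y ∣ 8 := hQ ▸ orderOf_dvd_natCard y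
    have := Nat.dvd_gcd h3 h4
    exact orderOf_eq_one_iff.1 (Nat.dvd_one.1 this)
  · rw [hQ, DihedralGroup.nat_card]

end Cfsg.Agent.S3333
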