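import Mathlib
import Cfsg.Statements.S3376
-- import your own Cfsg.Agent.* helpers here

set_option autoImplicit false
open Cfsg

namespace Cfsg.Agent.S3376

/-- The relations of `C₃ ≀ S₃`. -/
structure WRel {G : Type*} [Group G] (e x t : G) : Prop where
  he : e ^ 3 = 1
  hx : x ^ 3 = 1
  ht : t * t = 1
  htx : t * x * t = x⁻¹
  hte : t * e * t = e
  hcomm : e * (x * e * x⁻¹) = x * e * x⁻¹ * e

section Rel

variable {G : Type*} [Group G] {e x t : G}

/-- Normal form in the base. -/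
def base (e x : G) (a : ℕ × ℕ × ℕ) : G :=
  e ^ a.1 * (x * e * x⁻¹) ^ a.2.1 * (x ^ 2 * e * (x ^ 2)⁻¹) ^ a.2.2

/-- Normal form. -/
def nf (e x t : G) (v : ℕ × ℕ × ℕ × ℕ × ℕ) : G :=
  base e x (v.1, v.2.1, v.2.2.1) * x ^ v.2.2.2.1 * t ^ v.2.2.2.2

theorem comm02 (h : WRel e x t) :
    Commute e (x * e * x⁻¹) ∧ Commute (x * e * x⁻¹) (x ^ 2 * e * (x ^ 2)⁻¹) ∧
      Commute e (x ^ 2 * e * (x ^ 2)⁻¹) := by
  have h1 : Commute e (x * e * x⁻¹) := h.hcomm
  have h2 := h1.map (MulAut.conj x).toMonoidHom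
  have h3 := h1.map (MulAut.conj (x ^ 2)).toMonoidHom
  simp only [MulEquiv.coe_toMonoidHom, MulAut.conj_apply] at h2 h3
  have e3 : x ^ 2 * (x * e * x⁻¹) * (x ^ 2)⁻¹ = e := by
    calc _ = x ^ 3 * e * (x ^ 3)⁻¹ := by group
      _ = e := by rw [h.hx, one_mul, inv_one, mul_one]
  have e2 : x * (x * e * x⁻¹) * x⁻¹ = x ^ 2 * e * (x ^ 2)⁻¹ := by rw [pow_two]; group
  rw [e2] at h2
  rw [e3] at h3
  exact ⟨h1, h2, h3.symm⟩

theorem base_mul (h : WRel e x t) (a b : ℕ × ℕ × ℕ) :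
    base e x a * base e x b = base e x (a.1 + b.1, a.2.1 + b.2.1, a.2.2 + b.2.2) := by
  obtain ⟨h01, h12, h02⟩ := comm02 h
  simp only [base, pow_add]
  set f := x * e * x⁻¹
  set g := x ^ 2 * e * (x ^ 2)⁻¹
  calc e ^ a.1 * f ^ a.2.1 * g ^ a.2.2 * (e ^ b.1 * f ^ b.2.1 * g ^ b.2.2)
      = e ^ a.1 * f ^ a.2.1 * (g ^ a.2.2 * e ^ b.1) * f ^ b.2.1 * g ^ b.2.2 := by simp only [mul_assoc]
    _ = e ^ a.1 * (f ^ a.2.1 * e ^ b.1) * (g ^ a.2.2 * f ^ b.2.1) * g ^ b.2.2 := by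
        rw [← (h02.pow_pow _ _).eq]; simp only [mul_assoc]
    _ = e ^ a.1 * (e ^ b.1 * f ^ a.2.1) * (f ^ b.2.1 * g ^ a.2.2) * g ^ b.2.2 := by
        rw [(h01.pow_pow _ _).eq, (h12.pow_pow _ _).eq]
    _ = _ := by simp only [mul_assoc]

theorem base_conj (h : WRel e x t) (a : ℕ × ℕ × ℕ) :
    x * base e x a * x⁻¹ = base e x (a.2.2, a.1, a.2.1) := by
  obtain ⟨h01, h12, h02⟩ := comm02 h
  have e2 : x * (x * e * x⁻¹) * x⁻¹ = x ^ 2 * e * (x ^ 2)⁻¹ := by rw [pow_two]; group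
  have e3 : x * (x ^ 2 * e * (x ^ 2)⁻¹) * x⁻¹ = e := by
    calc _ = x ^ 3 * e * (x ^ 3)⁻¹ := by group
      _ = e := by rw [h.hx, one_mul, inv_one, mul_one]
  calc x * base e x a * x⁻¹
      = (x * e ^ a.1 * x⁻¹) * (x * (x * e * x⁻¹) ^ a.2.1 * x⁻¹) *
          (x * (x ^ 2 * e * (x ^ 2)⁻¹) ^ a.2.2 * x⁻¹) := by simp only [base]; group
    _ = (x * e * x⁻¹) ^ a.1 * (x ^ 2 * e * (x ^ 2)⁻¹) ^ a.2.1 * e ^ a.2.2 := by
        rw [← conj_pow, ← conj_pow, ← conj_pow, e2, e3]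
    _ = e ^ a.2.2 * ((x * e * x⁻¹) ^ a.1 * (x ^ 2 * e * (x ^ 2)⁻¹) ^ a.2.1) :=
        (((h01.pow_pow _ _).mul_right (h02.pow_pow _ _))).symm.eq
    _ = _ := by simp only [base, mul_assoc]

theorem t_pow_x (h : WRel e x t) (d : ℕ) : t * x ^ d = x ^ (2 * d) * t := by
  have h1 : t * x ^ d * t = (x⁻¹) ^ d := by
    induction d with
    | zero => simp [h.ht]
    | succ d ih =>
      rw [pow_succ, pow_succ, ← ih, ← h.htx]
      calc t * (x ^ d * x) * t = t * x ^ d * (1 : G) * x * t := by simp only [mul_assoc, one_mul]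
        _ = t * x ^ d * (t * t) * x * t := by rw [h.ht]
        _ = _ := by simp only [mul_assoc]
  have h2 : x⁻¹ = x ^ 2 := inv_eq_of_mul_eq_one_right (by rw [← pow_succ', h.hx])
  rw [h2, ← pow_mul] at h1
  rw [← h1, mul_assoc (t * x ^ d), h.ht, mul_one]

theorem base_comm_e (h : WRel e x t) (a : ℕ × ℕ × ℕ) (d : ℕ) :
    ∃ b : ℕ × ℕ × ℕ, base e x a * (x ^ d * e) = base e x b * x ^ d := by
  have hd : ∀ d, ∃ b, x ^ d * e = base e x b * x ^ d := by
    intro d
    induction d with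
    | zero => exact ⟨(1, 0, 0), by simp [base]⟩
    | succ d ih =>
      obtain ⟨b, hb⟩ := ih
      refine ⟨(b.2.2, b.1, b.2.1), ?_⟩
      rw [pow_succ', mul_assoc, hb, ← base_conj h]; group
  obtain ⟨b, hb⟩ := hd d
  exact ⟨(a.1 + b.1, a.2.1 + b.2.1, a.2.2 + b.2.2), by rw [hb, ← mul_assoc, base_mul h]⟩

theorem nf_mul_gen (h : WRel e x t) (v : ℕ × ℕ × ℕ × ℕ × ℕ) (s : G) (hs : s = e ∨ s = x ∨ s = t) :
    ∃ w, nf e x t v * s = nf e x t w := by
  have hct : Commute t e := by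
    calc t * e = t * e * (t * t) := by rw [h.ht, mul_one]
      _ = t * e * t * t := by simp only [mul_assoc]
      _ = e * t := by rw [h.hte]
  obtain ⟨a, b, c, d, ε⟩ := v
  rcases hs with rfl | rfl | rfl
  · obtain ⟨w, hw⟩ := base_comm_e h (a, b, c) d
    refine ⟨(w.1, w.2.1, w.2.2, d, ε), ?_⟩
    simp only [nf]
    rw [mul_assoc _ (t ^ ε) s, (hct.pow_left ε).eq]
    calc base s x (a, b, c) * x ^ d * (s * t ^ ε) = base s x (a, b, c) * (x ^ d * s) * t ^ ε := by
          simp only [mul_assoc]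
      _ = _ := by rw [hw]
  · have hte : ∀ ε : ℕ, t ^ ε * s = s ^ (2 ^ ε) * t ^ ε := by
      intro ε
      induction ε with
      | zero => simp
      | succ ε ih =>
        rw [pow_succ', mul_assoc, ih, ← mul_assoc, t_pow_x h, mul_assoc, pow_succ' 2 ε]
    refine ⟨(a, b, c, d + 2 ^ ε, ε), ?_⟩
    simp only [nf]
    rw [mul_assoc _ (t ^ ε) s, hte, ← mul_assoc, mul_assoc (base e s (a, b, c)), ← pow_add]
  · exact ⟨(a, b, c, d, ε + 1), by simp only [nf]; rw [pow_succ, ← mul_assoc]⟩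

theorem nf_mul (h : WRel e x t) (v w : ℕ × ℕ × ℕ × ℕ × ℕ) : ∃ u, nf e x t v * nf e x t w = nf e x t u := by
  have hpow : ∀ s : G, (s = e ∨ s = x ∨ s = t) → ∀ (n : ℕ) v, ∃ u, nf e x t v * s ^ n = nf e x t u := by
    intro s hs n
    induction n with
    | zero => intro v; exact ⟨v, by simp⟩
    | succ n ih =>
      intro v
      obtain ⟨u, hu⟩ := ih v
      obtain ⟨u', hu'⟩ := nf_mul_gen h u s hs
      exact ⟨u', by rw [pow_succ, ← mul_assoc, hu, hu']⟩
  have hxi : x⁻¹ = x ^ 2 := inv_eq_of_mul_eq_one_right (by rw [← pow_succ', h.hx])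
  have hconj : ∀ (k n : ℕ) v, ∃ u, nf e x t v * (x ^ k * e * (x ^ k)⁻¹) ^ n = nf e x t u := by
    intro k n v
    obtain ⟨u1, hu1⟩ := hpow x (Or.inr (Or.inl rfl)) k v
    obtain ⟨u2, hu2⟩ := hpow e (Or.inl rfl) n u1
    obtain ⟨u3, hu3⟩ := hpow x (Or.inr (Or.inl rfl)) (2 * k) u2
    refine ⟨u3, ?_⟩
    rw [conj_pow, ← inv_pow, hxi, ← pow_mul, ← mul_assoc, ← mul_assoc, hu1, hu2, hu3]
  obtain ⟨a, b, c, d, ε⟩ := w
  obtain ⟨u1, h1⟩ := hpow e (Or.inl rfl) a v
  obtain ⟨u2, h2⟩ := hconj 1 b u1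
  obtain ⟨u3, h3⟩ := hconj 2 c u2
  obtain ⟨u4, h4⟩ := hpow x (Or.inr (Or.inl rfl)) d u3
  obtain ⟨u5, h5⟩ := hpow t (Or.inr (Or.inr rfl)) ε u4
  refine ⟨u5, ?_⟩
  rw [pow_one] at h2
  simp only [nf, base] at h1 h2 h3 h4 h5 ⊢
  simp only [← mul_assoc]
  rw [h1, h2, h3, h4, h5]

/-- Normal form on finite exponents. -/
def nfF (e x t : G) (v : Fin 3 × Fin 3 × Fin 3 × Fin 3 × Fin 2) : G :=
  nf e x t (v.1.val, v.2.1.val, v.2.2.1.val, v.2.2.2.1.val, v.2.2.2.2.val)

theorem base_mod (h : WRel e x t) (a b c : ℕ) : base e x (a, b, c) = base e x (a % 3, b % 3, c % 3) := by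
  simp only [base, conj_pow]
  rw [pow_eq_pow_mod a h.he, pow_eq_pow_mod b h.he, pow_eq_pow_mod c h.he]

theorem nf_mod (h : WRel e x t) (v : ℕ × ℕ × ℕ × ℕ × ℕ) : ∃ w, nf e x t v = nfF e x t w := by
  refine ⟨(⟨v.1 % 3, by omega⟩, ⟨v.2.1 % 3, by omega⟩, ⟨v.2.2.1 % 3, by omega⟩, ⟨v.2.2.2.1 % 3, by omega⟩,
    ⟨v.2.2.2.2 % 2, by omega⟩), ?_⟩
  simp only [nfF, nf]
  rw [base_mod h, pow_eq_pow_mod v.2.2.2.1 h.hx,
    pow_eq_pow_mod v.2.2.2.2 (show t ^ 2 = 1 by rw [pow_two]; exact h.ht)]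

theorem nfF_injective (h : WRel e x t) (hN : base e x (1, 1, 1) ≠ 1) : Function.Injective (nfF e x t) := by
  have hNpow : ∀ k : ℕ, base e x (k, k, k) = 1 → k % 3 = 0 := by
    intro k hk
    rw [base_mod h] at hk
    rcases (show k % 3 = 0 ∨ k % 3 = 1 ∨ k % 3 = 2 by omega) with h0 | h1 | h2
    · exact h0
    · rw [h1] at hk; exact absurd hk hN
    · rw [h2] at hk
      have h4 := base_mul h (2, 2, 2) (2, 2, 2)
      rw [hk, one_mul] at h4
      exact absurd ((base_mod h 4 4 4).symm.trans h4.symm) hN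
  have hbase : ∀ a b c : ℕ, base e x (a, b, c) = 1 → a % 3 = 0 ∧ b % 3 = 0 ∧ c % 3 = 0 := by
    intro a b c hr
    have hr1 : base e x (c, a, b) = 1 := by rw [← base_conj h (a, b, c), hr, mul_one, mul_inv_cancel]
    have hr2 : base e x (b, c, a) = 1 := by rw [← base_conj h (c, a, b), hr1, mul_one, mul_inv_cancel]
    have hs : base e x (a + b + c, a + b + c, a + b + c) = 1 := by
      have := base_mul h (a, b, c) (c, a, b)
      rw [hr, hr1, one_mul] at this
      have h2 := base_mul h (a + c, b + a, c + b) (b, c, a)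
      rw [← this, hr2, one_mul] at h2
      rw [show (a + b + c, a + b + c, a + b + c) = (a + c + b, b + a + c, c + b + a) by
        simp only [Prod.mk.injEq]; omega, ← h2]
    have hd : base e x (a + 2 * c, b + 2 * a, c + 2 * b) = 1 := by
      have h1 := base_mul h (c, a, b) (c, a, b)
      rw [hr1, one_mul] at h1
      have h2 := base_mul h (a, b, c) (c + c, a + a, b + b)
      rw [hr, ← h1, one_mul] at h2
      rw [show (a + 2 * c, b + 2 * a, c + 2 * b) = (a + (c + c), b + (a + a), c + (b + b)) by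
        simp only [Prod.mk.injEq]; omega, ← h2]
    have hs0 := hNpow _ hs
    rw [base_mod h, show (b + 2 * a) % 3 = (a + 2 * c) % 3 by omega,
      show (c + 2 * b) % 3 = (a + 2 * c) % 3 by omega] at hd
    have hd0 := hNpow _ hd
    have hab : b % 3 = a % 3 ∧ c % 3 = a % 3 := by omega
    rw [base_mod h, hab.1, hab.2] at hr
    have := hNpow _ hr
    omega
  have hx0 : ∀ (a b c d : ℕ), base e x (a, b, c) * x ^ d = 1 → d % 3 = 0 := by
    intro a b c d hr
    by_contra hd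
    have hxd : x ^ d = base e x (2 * a, 2 * b, 2 * c) := by
      have h2 := base_mul h (a, b, c) (2 * a, 2 * b, 2 * c)
      rw [base_mod h (a + 2 * a), show (a + 2 * a) % 3 = 0 by omega, show (b + 2 * b) % 3 = 0 by omega,
        show (c + 2 * c) % 3 = 0 by omega, show base e x (0, 0, 0) = 1 by simp [base]] at h2
      rw [eq_inv_of_mul_eq_one_right hr, eq_inv_of_mul_eq_one_right h2]
    obtain ⟨k, hk⟩ : ∃ k, x = (x ^ d) ^ k := ⟨d % 3, by
      rw [← pow_mul, pow_eq_pow_mod _ h.hx]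
      rcases (show d % 3 = 1 ∨ d % 3 = 2 by omega) with h1 | h1 <;>
        rw [h1, Nat.mul_mod, h1] <;> simp⟩
    have hce : Commute x e := by
      rw [hk, hxd]
      obtain ⟨h01, h12, h02⟩ := comm02 h
      apply Commute.pow_left
      simp only [base]
      exact (((Commute.refl e).pow_left _).mul_left (h01.symm.pow_left _)).mul_left (h02.symm.pow_left _)
    apply hN
    have ef : x * e * x⁻¹ = e := by rw [hce.eq, mul_inv_cancel_right]
    have eg : x ^ 2 * e * (x ^ 2)⁻¹ = e := by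
      calc x ^ 2 * e * (x ^ 2)⁻¹ = x * (x * e * x⁻¹) * x⁻¹ := by rw [pow_two]; group
        _ = e := by rw [ef, ef]
    simp only [base, pow_one]
    rw [ef, eg, ← pow_two, ← pow_succ, h.he]
  intro v w hvw
  obtain ⟨a, b, c, d, ε⟩ := v
  obtain ⟨a', b', c', d', ε'⟩ := w
  have hxne : x ≠ 1 := fun h1 => by
    have := hx0 0 0 0 1 (by rw [h1]; simp [base])
    omega
  simp only [nfF, nf] at hvw
  have hb3 : ∀ p : G, p ∈ (Set.range fun q : ℕ × ℕ × ℕ × ℕ => base e x (q.1, q.2.1, q.2.2.1) * x ^ q.2.2.2) →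
      p = t → False := by
    rintro p ⟨⟨i, j, k, l⟩, rfl⟩ hp
    have hct : Commute t e := by
      calc t * e = t * e * (t * t) := by rw [h.ht, mul_one]
        _ = t * e * t * t := by simp only [mul_assoc]
        _ = e * t := by rw [h.hte]
    obtain ⟨w, hw⟩ := base_comm_e h (i, j, k) l
    obtain ⟨w', hw'⟩ := base_comm_e h (0, 0, 0) l
    have hbe : ∀ q, Commute (base e x q) e := fun q => by
      obtain ⟨h01, h12, h02⟩ := comm02 h
      simp only [base]
      exact (((Commute.refl e).pow_left _).mul_left (h01.symm.pow_left _)).mul_left (h02.symm.pow_left _)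
    have h1 : x ^ l * e = e * x ^ l := by
      have h2 : base e x (i, j, k) * x ^ l * e = e * (base e x (i, j, k) * x ^ l) := by
        rw [show base e x (i, j, k) * x ^ l = t from hp]; exact hct.eq
      rw [mul_assoc, ← mul_assoc e, ← (hbe _).eq, mul_assoc (base e x (i, j, k)) e] at h2
      exact mul_left_cancel h2
    have hl : l % 3 = 0 := by
      by_contra hl
      obtain ⟨q, hq⟩ : ∃ q, x = (x ^ l) ^ q := ⟨l % 3, by
        rw [← pow_mul, pow_eq_pow_mod _ h.hx]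
        rcases (show l % 3 = 1 ∨ l % 3 = 2 by omega) with h2 | h2 <;>
          rw [h2, Nat.mul_mod, h2] <;> simp⟩
      have hce : Commute x e := by rw [hq]; exact (show Commute (x ^ l) e from h1).pow_left q
      apply hN
      have ef : x * e * x⁻¹ = e := by rw [hce.eq, mul_inv_cancel_right]
      have eg : x ^ 2 * e * (x ^ 2)⁻¹ = e := by
        calc x ^ 2 * e * (x ^ 2)⁻¹ = x * (x * e * x⁻¹) * x⁻¹ := by rw [pow_two]; group
          _ = e := by rw [ef, ef]
      simp only [base, pow_one]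
      rw [ef, eg, ← pow_two, ← pow_succ, h.he]
    have htb : t = base e x (i, j, k) := by
      rw [← hp]; simp only
      rw [pow_eq_pow_mod _ h.hx, hl, pow_zero, mul_one]
    have ht2 := h.ht
    rw [htb, base_mul h] at ht2
    obtain ⟨h1', h2', h3'⟩ := hbase _ _ _ ht2
    simp only at h1' h2' h3'
    have ht1 : t = 1 := by
      rw [htb, base_mod h, show i % 3 = 0 by omega, show j % 3 = 0 by omega, show k % 3 = 0 by omega]
      simp [base]
    have hxi := h.htx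
    rw [ht1, one_mul, mul_one] at hxi
    apply hxne
    have hxx : x * x = 1 := mul_eq_one_iff_eq_inv.2 hxi
    calc x = x ^ 3 * (x * x)⁻¹ := by group
      _ = 1 := by rw [h.hx, hxx, inv_one, one_mul]
  have core : ∀ (a b c d a' b' c' d' : ℕ), base e x (a, b, c) * x ^ d = base e x (a', b', c') * x ^ d' →
      a % 3 = a' % 3 ∧ b % 3 = b' % 3 ∧ c % 3 = c' % 3 ∧ d % 3 = d' % 3 := by
    intro a b c d a' b' c' d' he
    have h1 : base e x (2 * a' + a, 2 * b' + b, 2 * c' + c) * x ^ (d + 2 * d') = 1 := by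
      rw [← base_mul h (2 * a', 2 * b', 2 * c') (a, b, c), pow_add, ← mul_assoc,
        mul_assoc (base e x (2 * a', 2 * b', 2 * c')), he, ← mul_assoc, base_mul h,
        mul_assoc _ (x ^ d'), ← pow_add, base_mod h, show (2 * a' + a') % 3 = 0 by omega,
        show (2 * b' + b') % 3 = 0 by omega, show (2 * c' + c') % 3 = 0 by omega, pow_eq_pow_mod _ h.hx,
        show (d' + 2 * d') % 3 = 0 by omega]
      simp [base]
    have hd := hx0 _ _ _ _ h1
    rw [pow_eq_pow_mod _ h.hx, hd, pow_zero, mul_one] at h1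
    obtain ⟨p1, p2, p3⟩ := hbase _ _ _ h1
    omega
  have hε : ε = ε' := by
    have key : ∀ (p q : G), p ∈ (Set.range fun q : ℕ × ℕ × ℕ × ℕ => base e x (q.1, q.2.1, q.2.2.1) * x ^ q.2.2.2) →
        q ∈ (Set.range fun q : ℕ × ℕ × ℕ × ℕ => base e x (q.1, q.2.1, q.2.2.1) * x ^ q.2.2.2) →
        p = q * t → False := by
      rintro p q ⟨⟨i, j, k, l⟩, rfl⟩ ⟨⟨i', j', k', l'⟩, rfl⟩ hpq
      obtain ⟨w, hw⟩ : ∃ w : ℕ × ℕ × ℕ, x ^ (2 * l') * base e x (2 * i' + i, 2 * j' + j, 2 * k' + k) =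
          base e x w * x ^ (2 * l') := by
        induction (2 * l') with
        | zero => exact ⟨_, by rw [pow_zero, one_mul, mul_one]⟩
        | succ n ih =>
          obtain ⟨w, hw⟩ := ih
          exact ⟨(w.2.2, w.1, w.2.1), by rw [pow_succ', mul_assoc, hw, ← base_conj h]; group⟩
      refine hb3 t ⟨(w.1, w.2.1, w.2.2, 2 * l' + l), ?_⟩ rfl
      simp only
      rw [pow_add, ← mul_assoc, ← hw, ← base_mul h (2 * i', 2 * j', 2 * k') (i, j, k)]
      simp only at hpq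
      rw [mul_assoc (x ^ (2 * l')), mul_assoc (base e x (2 * i', 2 * j', 2 * k')), hpq, ← mul_assoc,
        ← mul_assoc, ← mul_assoc, mul_assoc (x ^ (2 * l')), base_mul h, base_mod h,
        show (2 * i' + i') % 3 = 0 by omega, show (2 * j' + j') % 3 = 0 by omega,
        show (2 * k' + k') % 3 = 0 by omega, show base e x (0, 0, 0) = 1 by simp [base], mul_one, ← pow_add,
        pow_eq_pow_mod _ h.hx, show (2 * l' + l') % 3 = 0 by omega, pow_zero, one_mul]
    fin_cases ε <;> fin_cases ε' <;> first | rfl | (exfalso; simp at hvw)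
    · exact key _ _ ⟨(a.val, b.val, c.val, d.val), rfl⟩ ⟨(a'.val, b'.val, c'.val, d'.val), rfl⟩ hvw
    · exact key _ _ ⟨(a'.val, b'.val, c'.val, d'.val), rfl⟩ ⟨(a.val, b.val, c.val, d.val), rfl⟩ hvw.symm
  subst hε
  obtain ⟨p1, p2, p3, p4⟩ := core _ _ _ _ _ _ _ _ (mul_right_cancel hvw)
  simp only [Prod.mk.injEq]
  refine ⟨Fin.ext ?_, Fin.ext ?_, Fin.ext ?_, Fin.ext ?_, trivial⟩ <;> omega

theorem iso_of_rel {H : Type*} [Group H] {e' x' t' : H} (hG : WRel e x t) (hH : WRel e' x' t')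
    (hNG : base e x (1, 1, 1) ≠ 1) (hNH : base e' x' (1, 1, 1) ≠ 1) (hcG : Nat.card G = 162)
    (hcH : Nat.card H = 162) : Nonempty (G ≃* H) := by
  have : Finite G := Nat.finite_of_card_ne_zero (by omega)
  have : Finite H := Nat.finite_of_card_ne_zero (by omega)
  have hc : Nat.card (Fin 3 × Fin 3 × Fin 3 × Fin 3 × Fin 2) = 162 := by simp
  have bG := (Nat.bijective_iff_injective_and_card _).2 ⟨nfF_injective hG hNG, hc.trans hcG.symm⟩
  have bH := (Nat.bijective_iff_injective_and_card _).2 ⟨nfF_injective hH hNH, hc.trans hcH.symm⟩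
  let ψ : G ≃ H := (Equiv.ofBijective _ bG).symm.trans (Equiv.ofBijective _ bH)
  have hp : WRel ((e, e') : G × H) (x, x') (t, t') :=
    ⟨Prod.ext hG.he hH.he, Prod.ext hG.hx hH.hx, Prod.ext hG.ht hH.ht, Prod.ext hG.htx hH.htx,
      Prod.ext hG.hte hH.hte, Prod.ext hG.hcomm hH.hcomm⟩
  have hψ : ∀ v, ψ (nfF e x t v) = nfF e' x' t' v := fun v =>
    congrArg (nfF e' x' t') ((Equiv.ofBijective _ bG).symm_apply_apply v)
  refine ⟨{ ψ with map_mul' := ?_ }⟩
  intro g g'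
  obtain ⟨v, rfl⟩ := bG.2 g
  obtain ⟨w, rfl⟩ := bG.2 g'
  obtain ⟨u, hu⟩ := nf_mul hp (v.1.val, v.2.1.val, v.2.2.1.val, v.2.2.2.1.val, v.2.2.2.2.val)
    (w.1.val, w.2.1.val, w.2.2.1.val, w.2.2.2.1.val, w.2.2.2.2.val)
  obtain ⟨u', hu'⟩ := nf_mod hp u
  rw [hu'] at hu
  change ψ (nfF e x t v * nfF e x t w) = ψ (nfF e x t v) * ψ (nfF e x t w)
  have h1 : nfF e x t v * nfF e x t w = nfF e x t u' := congrArg Prod.fst hu
  have h2 : nfF e' x' t' v * nfF e' x' t' w = nfF e' x' t' u' := congrArg Prod.snd hu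
  rw [h1, hψ, hψ, hψ, h2]

end Rel

theorem exists_fixed {α : Type*} (s : Finset α) (f : α → α) (hf : ∀ a ∈ s, f a ∈ s) (hff : ∀ a ∈ s, f (f a) = a)
    (hodd : Odd s.card) : ∃ a ∈ s, f a = a := by
  by_contra h
  push Not at h
  have h0 : (∑ _a ∈ s, (1 : ZMod 2)) = 0 :=
    Finset.sum_involution (fun a _ => f a) (fun a _ => by decide) (fun a ha _ => h a ha) hf hff
  rw [Finset.sum_const, nsmul_one, (ZMod.natCast_eq_one_iff_odd).2 hodd] at h0
  exact one_ne_zero h0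

/-- Let G be a group of order 162 = 3⁴·2 with Sylow 3-subgroup S and Sylow 2-subgroup T, having an elementary abelian normal subgroup J of order 27, such that Z = Z(S) has order 3, Z centralizes T, and C_S(T) ≠ S. Then G is isomorphic to the centralizer in Sym(9) of a product of three disjoint 3-cycles. -/
theorem result {G : Type*} [Group G] [Finite G] (hG : Nat.card G = 162)
    (S : Sylow 3 G) (T : Sylow 2 G) (J : Subgroup G) [hJn : J.Normal] (hJcomm : IsMulCommutative J)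
    (hJexp : ∀ a ∈ J, a ^ 3 = 1) (hJcard : Nat.card J = 27)
    (Z : Subgroup G) (hZ : Z = (S : Subgroup G) ⊓ Subgroup.centralizer ((S : Subgroup G) : Set G)) (hZcard : Nat.card Z = 3)
    (hZT : Z ≤ Subgroup.centralizer ((T : Subgroup G) : Set G))
    (hST : (S : Subgroup G) ⊓ Subgroup.centralizer ((T : Subgroup G) : Set G) ≠ S) :
    Nonempty (G ≃* Subgroup.centralizer ({Equiv.swap (0 : Fin 9) 1 * Equiv.swap 1 2 * Equiv.swap 3 4 * Equiv.swap 4 5 * Equiv.swap 6 7 * Equiv.swap 7 8} : Set (Equiv.Perm (Fin 9)))) := by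
  classical
  set c : Equiv.Perm (Fin 9) := Equiv.swap (0 : Fin 9) 1 * Equiv.swap 1 2 * Equiv.swap 3 4 * Equiv.swap 4 5 * Equiv.swap 6 7 * Equiv.swap 7 8 with hcdef
  -- basic facts in G
  have : Fact (Nat.Prime 3) := ⟨Nat.prime_three⟩
  have : Fact (Nat.Prime 2) := ⟨Nat.prime_two⟩
  have hScard : Nat.card (S : Subgroup G) = 81 := by
    rw [S.card_eq_multiplicity, hG, show Nat.factorization 162 3 = 4 by decide +kernel]
    norm_num
  have hTcard : Nat.card (T : Subgroup G) = 2 := by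
    rw [T.card_eq_multiplicity, hG, show Nat.factorization 162 2 = 1 by decide +kernel]
    norm_num
  have hJS : J ≤ (S : Subgroup G) := by
    have hJp : IsPGroup 3 J := IsPGroup.of_card (n := 3) (by rw [hJcard]; norm_num)
    obtain ⟨S', hS'⟩ := hJp.exists_le_sylow
    obtain ⟨g, hg⟩ := MulAction.exists_smul_eq G S' S
    intro j hj
    have : g⁻¹ * j * g ∈ (S' : Subgroup G) := hS' (by simpa using hJn.conj_mem j hj g⁻¹)
    rw [← hg, Sylow.coe_subgroup_smul, Subgroup.mem_pointwise_smul_iff_inv_smul_mem]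
    simpa [MulAut.smul_def, MulAut.conj_apply, mul_assoc] using this
  obtain ⟨t, htT, ht1⟩ : ∃ t ∈ (T : Subgroup G), t ≠ 1 := by
    have : Nontrivial (T : Subgroup G) := Finite.one_lt_card_iff_nontrivial.1 (by rw [hTcard]; norm_num)
    obtain ⟨⟨t, ht⟩, hne⟩ := exists_ne (1 : (T : Subgroup G))
    exact ⟨t, ht, fun h => hne (Subtype.ext h)⟩
  have ht2 : t * t = 1 := by
    have := pow_card_eq_one' (x := (⟨t, htT⟩ : (T : Subgroup G)))
    rw [hTcard, pow_two] at this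
    exact congrArg Subtype.val this
  have hTgen : ∀ u ∈ (T : Subgroup G), u = 1 ∨ u = t := by
    intro u hu
    have hu2 := (Nat.card_eq_two_iff' (1 : (T : Subgroup G))).1 hTcard
    by_cases h1 : u = 1
    · exact Or.inl h1
    · exact Or.inr (congrArg Subtype.val (hu2.unique (y₁ := ⟨u, hu⟩) (y₂ := ⟨t, htT⟩)
        (fun h => h1 (congrArg Subtype.val h)) (fun h => ht1 (congrArg Subtype.val h))))
  have hSn : (S : Subgroup G).Normal := by
    apply Subgroup.normal_of_index_eq_two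
    have := (S : Subgroup G).card_mul_index
    rw [hScard, hG] at this
    omega
  -- an element of order three outside J
  obtain ⟨x0, hx0S, hx0J⟩ : ∃ x ∈ (S : Subgroup G), x ∉ J := by
    by_contra h
    push Not at h
    have := Nat.le_of_dvd Nat.card_pos (Subgroup.card_dvd_of_le (H := (S : Subgroup G)) (K := J) h)
    rw [hJcard, hScard] at this
    omega
  have hZc : ∀ z, z ∈ Z ↔ z ∈ (S : Subgroup G) ∧ ∀ s ∈ (S : Subgroup G), s * z = z * s := fun z => by
    rw [hZ]; rfl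
  have hJJ : ∀ a ∈ J, ∀ b ∈ J, a * b = b * a := fun a ha b hb =>
    congrArg Subtype.val (hJcomm.is_comm.comm ⟨a, ha⟩ ⟨b, hb⟩)
  have hrel : (J.subgroupOf (S : Subgroup G)).index = 3 := by
    have h1 := (J.subgroupOf (S : Subgroup G)).card_mul_index
    rw [Nat.card_congr (Subgroup.subgroupOfEquivOfLe hJS).toEquiv, hJcard, hScard] at h1
    omega
  have hJSn : (J.subgroupOf (S : Subgroup G)).Normal := hJn.subgroupOf _
  have hcube : ∀ s ∈ (S : Subgroup G), s ^ 3 ∈ J := by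
    intro s hs
    have := (J.subgroupOf (S : Subgroup G)).pow_index_mem ⟨s, hs⟩
    rw [hrel] at this
    exact this
  have hSgen : ∀ s ∈ (S : Subgroup G), ∀ y ∈ (S : Subgroup G), y ∉ J → ∃ d, d < 3 ∧ s * y⁻¹ ^ d ∈ J := by
    intro s hs y hy hyJ
    have hp : Nat.card (↥(S : Subgroup G) ⧸ J.subgroupOf (S : Subgroup G)) = 3 := by
      rw [← Subgroup.index_eq_card]; exact hrel
    have hy1 : ((⟨y, hy⟩ : (S : Subgroup G)) : ↥(S : Subgroup G) ⧸ J.subgroupOf (S : Subgroup G)) ≠ 1 := by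
      rw [Ne, QuotientGroup.eq_one_iff]; exact hyJ
    have hmem := mem_zpowers_of_prime_card hp hy1 (g' := ((⟨s, hs⟩ : (S : Subgroup G)) : _))
    rw [← mem_powers_iff_mem_zpowers, Submonoid.mem_powers_iff] at hmem
    obtain ⟨d, hd⟩ := hmem
    refine ⟨d % 3, by omega, ?_⟩
    have hd2 : ((⟨s, hs⟩ * ((⟨y, hy⟩ : (S : Subgroup G))⁻¹) ^ (d % 3) : (S : Subgroup G)) :
        ↥(S : Subgroup G) ⧸ J.subgroupOf (S : Subgroup G)) = 1 := by
      have h3 := pow_card_eq_one' (x := ((⟨y, hy⟩ : (S : Subgroup G)) : ↥(S : Subgroup G) ⧸ J.subgroupOf (S : Subgroup G)))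
      rw [hp] at h3
      rw [QuotientGroup.mk_mul, QuotientGroup.mk_pow, QuotientGroup.mk_inv, ← hd,
        pow_eq_pow_mod d h3, inv_pow, mul_inv_cancel]
    have h5 := (QuotientGroup.eq_one_iff _).1 hd2
    exact h5
  have hcentral : ∀ y ∈ (S : Subgroup G), y ∉ J → ∀ z ∈ J, y * z = z * y → z ∈ Z := by
    intro y hy hyJ z hz hcomm
    refine (hZc z).2 ⟨hJS hz, fun s hs => ?_⟩
    obtain ⟨d, -, hd⟩ := hSgen s hs y hy hyJ
    have hj : Commute (s * y⁻¹ ^ d) z := hJJ _ hd z hz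
    have hyd : Commute ((y⁻¹ ^ d)⁻¹) z := ((show Commute y z from hcomm).inv_left.pow_left d).inv_left
    have := hj.mul_left hyd
    rwa [mul_inv_cancel_right] at this
  have hJ2 : ∀ y ∈ (S : Subgroup G), y ∉ J → ∀ f ∈ J, y * f * y⁻¹ ∈ J := fun y _ _ f hf => hJn.conj_mem f hf y
  -- the norm map of x0
  set nm : G → G → G := fun y f => f * (y * f * y⁻¹) * (y * (y * f * y⁻¹) * y⁻¹) with hnm
  have hnmJ : ∀ y f, f ∈ J → nm y f ∈ J := fun y f hf =>
    mul_mem (mul_mem hf (hJn.conj_mem f hf y)) (hJn.conj_mem _ (hJn.conj_mem f hf y) y)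
  have hnm3 : ∀ y f, nm y f = (f * y) ^ 3 * (y ^ 3)⁻¹ := fun y f => by
    simp only [hnm, pow_succ, pow_zero, one_mul]; group
  have hnmZ : ∀ y ∈ (S : Subgroup G), y ∉ J → ∀ f ∈ J, nm y f ∈ Z := by
    intro y hy hyJ f hf
    refine hcentral y hy hyJ _ (hnmJ y f hf) ?_
    have hy3 : y ^ 3 ∈ J := hcube y hy
    have h1 : y ^ 3 * f * (y ^ 3)⁻¹ = f := by rw [hJJ _ hy3 f hf, mul_inv_cancel_right]
    have a := hJn.conj_mem f hf y
    have b := hJn.conj_mem _ a y
    rw [← mul_inv_eq_iff_eq_mul]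
    calc y * nm y f * y⁻¹ = (y * f * y⁻¹) * (y * (y * f * y⁻¹) * y⁻¹) * (y ^ 3 * f * (y ^ 3)⁻¹) := by
          simp only [hnm, pow_succ, pow_zero, one_mul]; group
      _ = f * ((y * f * y⁻¹) * (y * (y * f * y⁻¹) * y⁻¹)) := by rw [h1]; exact hJJ _ (mul_mem a b) f hf
      _ = _ := by simp only [hnm, mul_assoc]
  -- y^3 lies in Z and the norm map is not trivial
  obtain ⟨f0, hf0, hf0n⟩ : ∃ f ∈ J, nm x0 f ≠ 1 := by
    by_contra h
    push Not at h
    -- all f satisfy nm = 1, so commutators of x0 with J have exponent two steps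
    let φ : J →* J := MonoidHom.mk' (fun f => ⟨(x0 * f * x0⁻¹) * (f : G)⁻¹, mul_mem (hJn.conj_mem f f.2 x0) (inv_mem f.2)⟩)
      (fun f g => Subtype.ext (by
        have a := hJn.conj_mem f f.2 x0
        have b := hJn.conj_mem g g.2 x0
        change x0 * ((f : G) * g) * x0⁻¹ * ((f : G) * g)⁻¹ = x0 * f * x0⁻¹ * (f : G)⁻¹ * (x0 * g * x0⁻¹ * (g : G)⁻¹)
        rw [mul_inv_rev, show x0 * ((f : G) * g) * x0⁻¹ * ((g : G)⁻¹ * (f : G)⁻¹) =
          (x0 * f * x0⁻¹) * ((x0 * g * x0⁻¹ * (g : G)⁻¹) * (f : G)⁻¹) by group,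
          hJJ _ (mul_mem b (inv_mem g.2)) _ (inv_mem f.2), ← mul_assoc]))
    have hk : φ.ker.map J.subtype ≤ Z := by
      rintro _ ⟨f, hf, rfl⟩
      refine hcentral x0 hx0S hx0J _ f.2 ?_
      have := congrArg Subtype.val (show φ f = 1 from hf)
      exact mul_inv_eq_iff_eq_mul.1 (mul_inv_eq_one.1 this)
    have hkc : Nat.card φ.ker ≤ 3 := by
      rw [← Nat.card_congr (φ.ker.equivMapOfInjective J.subtype J.subtype_injective).symm.toEquiv, ← hZcard]
      exact Subgroup.card_le_of_le hk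
    have hr : φ.range ≤ φ.ker := by
      rintro _ ⟨f, rfl⟩
      apply Subtype.ext
      change x0 * (x0 * f * x0⁻¹ * (f : G)⁻¹) * x0⁻¹ * (x0 * f * x0⁻¹ * (f : G)⁻¹)⁻¹ = 1
      have hn := h f f.2
      simp only [hnm] at hn
      have a := hJn.conj_mem f f.2 x0
      have b := hJn.conj_mem _ a x0
      rw [show x0 * (x0 * f * x0⁻¹ * (f : G)⁻¹) * x0⁻¹ * (x0 * f * x0⁻¹ * (f : G)⁻¹)⁻¹ =
        ((x0 * (x0 * f * x0⁻¹) * x0⁻¹) * (x0 * f * x0⁻¹)⁻¹) * ((f : G) * (x0 * f * x0⁻¹)⁻¹) by group]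
      have hf3 := hJexp _ f.2
      have ha3 := hJexp _ a
      set A := x0 * (f : G) * x0⁻¹
      set B := x0 * A * x0⁻¹
      have hB : B = A⁻¹ * (f : G)⁻¹ := by rw [← mul_inv_rev]; exact eq_inv_of_mul_eq_one_right hn
      rw [hB, show A⁻¹ * (f : G)⁻¹ * A⁻¹ * ((f : G) * A⁻¹) = A⁻¹ * ((f : G)⁻¹ * A⁻¹) * ((f : G) * A⁻¹) by group,
        hJJ _ (inv_mem f.2) _ (inv_mem a)]
      calc A⁻¹ * (A⁻¹ * (f : G)⁻¹) * ((f : G) * A⁻¹) = (A ^ 3)⁻¹ := by group
        _ = 1 := by rw [ha3, inv_one]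
    have h1 := φ.ker.card_mul_index
    rw [Subgroup.index_ker, hJcard] at h1
    have h2 := Subgroup.card_le_of_le hr
    nlinarith
  have hZgen : ∀ z ∈ Z, ∃ k : ℕ, z = nm x0 f0 ^ k := by
    intro z hz
    have hmem := mem_zpowers_of_prime_card hZcard (g := (⟨nm x0 f0, hnmZ x0 hx0S hx0J f0 hf0⟩ : Z))
      (g' := ⟨z, hz⟩) (fun h => hf0n (congrArg Subtype.val h))
    rw [← mem_powers_iff_mem_zpowers, Submonoid.mem_powers_iff] at hmem
    obtain ⟨k, hk⟩ := hmem
    exact ⟨k, (congrArg Subtype.val hk).symm⟩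
  have hx03 : x0 ^ 3 ∈ Z := hcentral x0 hx0S hx0J _ (hcube x0 hx0S) ((Commute.refl x0).pow_right 3).eq
  obtain ⟨x1, hx1S, hx1J, hx13⟩ : ∃ x1 ∈ (S : Subgroup G), x1 ∉ J ∧ x1 ^ 3 = 1 := by
    obtain ⟨k, hk⟩ := hZgen _ (inv_mem hx03)
    have hmk : ∀ k : ℕ, nm x0 f0 ^ k = nm x0 (f0 ^ k) := by
      intro k
      simp only [hnm]
      have a := hJn.conj_mem f0 hf0 x0
      have b := hJn.conj_mem _ a x0
      rw [(show Commute (f0 * (x0 * f0 * x0⁻¹)) _ from hJJ _ (mul_mem hf0 a) _ b).mul_pow,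
        (show Commute f0 _ from hJJ _ hf0 _ a).mul_pow]
      simp only [conj_pow]
    rw [hmk] at hk
    refine ⟨f0 ^ k * x0, mul_mem (hJS (pow_mem hf0 _)) hx0S, fun h => hx0J ?_, ?_⟩
    · have := mul_mem (inv_mem (pow_mem hf0 k)) h
      rwa [inv_mul_cancel_left] at this
    · rw [hnm3] at hk
      exact mul_eq_right.1 hk.symm
  -- conjugation on J depends only on the coset
  have hsame : ∀ y, y * x0⁻¹ ∈ J → ∀ f ∈ J, y * f * y⁻¹ = x0 * f * x0⁻¹ := by
    intro y hy f hf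
    calc y * f * y⁻¹ = (y * x0⁻¹) * (x0 * f * x0⁻¹) * (y * x0⁻¹)⁻¹ := by group
      _ = x0 * f * x0⁻¹ := by rw [hJJ _ hy _ (hJn.conj_mem f hf x0), mul_inv_cancel_right]
  have hnmsame : ∀ y, y * x0⁻¹ ∈ J → ∀ f ∈ J, nm y f = nm x0 f := by
    intro y hy f hf
    simp only [hnm, hsame y hy f hf, hsame y hy _ (hJn.conj_mem f hf x0)]
  obtain ⟨d0, -, hd0⟩ := hSgen x1 hx1S x0 hx0S hx0J
  obtain ⟨x, hxS, hxJ, hx3, f1, hf1, hf1n⟩ : ∃ x ∈ (S : Subgroup G), x ∉ J ∧ x ^ 3 = 1 ∧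
      ∃ f ∈ J, nm x f ≠ 1 := by
    by_contra hcon
    push Not at hcon
    -- if the norm map of x1 is trivial, so is that of x0
    obtain ⟨d, hd3, hd⟩ := hSgen x0 hx0S x1 hx1S hx1J
    have hd' : d ≠ 0 := fun h => hx0J (by simpa [h] using hd)
    apply hf0n
    have hx1i : x1⁻¹ = x1 ^ 2 := inv_eq_of_mul_eq_one_right (by rw [← pow_succ', hx13])
    rcases (show d = 1 ∨ d = 2 by omega) with rfl | rfl
    · rw [pow_one] at hd
      have h2 : x1 * x0⁻¹ ∈ J := by simpa using inv_mem hd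
      rw [← hnmsame x1 h2 f0 hf0]
      exact hcon x1 hx1S hx1J hx13 f0 hf0
    · have hx1S' : x1⁻¹ ∈ (S : Subgroup G) := inv_mem hx1S
      have h2 : x1⁻¹ * x0⁻¹ ∈ J := by
        have e1 : x1⁻¹ ^ 2 = x1 := by rw [inv_pow, ← hx1i, inv_inv]
        rw [e1] at hd
        have h3 := hJn.conj_mem _ (inv_mem hd) 1
        simpa [mul_inv_rev] using h3
      rw [← hnmsame x1⁻¹ h2 f0 hf0]
      refine hcon x1⁻¹ hx1S' (fun h => hx1J (by simpa using inv_mem h)) ?_ f0 hf0
      rw [inv_pow, hx13, inv_one]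
  have hxi : x⁻¹ = x ^ 2 := inv_eq_of_mul_eq_one_right (by rw [← pow_succ', hx3])
  have hsameX : ∀ y, y * x⁻¹ ∈ J → ∀ f ∈ J, y * f * y⁻¹ = x * f * x⁻¹ := by
    intro y hy f hf
    calc y * f * y⁻¹ = (y * x⁻¹) * (x * f * x⁻¹) * (y * x⁻¹)⁻¹ := by group
      _ = x * f * x⁻¹ := by rw [hJJ _ hy _ (hJn.conj_mem f hf x), mul_inv_cancel_right]
  have hnmX : ∀ y, y * x⁻¹ ∈ J → ∀ f ∈ J, nm y f = nm x f := by
    intro y hy f hf
    simp only [hnm, hsameX y hy f hf, hsameX y hy _ (hJn.conj_mem f hf x)]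
  -- the norm map of x as a homomorphism
  let ν : J →* G := MonoidHom.mk' (fun f => nm x f) (fun f g => by
    have a := hJn.conj_mem (f : G) f.2 x
    have b := hJn.conj_mem _ a x
    have a' := hJn.conj_mem (g : G) g.2 x
    have b' := hJn.conj_mem _ a' x
    have e1 : x * ((f : G) * g) * x⁻¹ = (x * f * x⁻¹) * (x * g * x⁻¹) := by group
    have e2 : x * ((x * f * x⁻¹) * (x * g * x⁻¹)) * x⁻¹ =
        (x * (x * f * x⁻¹) * x⁻¹) * (x * (x * g * x⁻¹) * x⁻¹) := by group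
    simp only [hnm, Subgroup.coe_mul, e1, e2]
    set A := x * (f : G) * x⁻¹
    set B := x * A * x⁻¹
    set A' := x * (g : G) * x⁻¹
    set B' := x * A' * x⁻¹
    calc (f : G) * g * (A * A') * (B * B') = f * ((g : G) * A) * (A' * B) * B' := by simp only [mul_assoc]
      _ = f * (A * g) * (B * A') * B' := by rw [hJJ _ g.2 _ a, hJJ _ a' _ b]
      _ = f * A * ((g : G) * B) * A' * B' := by simp only [mul_assoc]
      _ = f * A * (B * g) * A' * B' := by rw [hJJ _ g.2 _ b]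
      _ = _ := by simp only [mul_assoc])
  have hνr : Nat.card ν.range = 3 := by
    have h1 : ν.range ≤ Z := by rintro _ ⟨f, rfl⟩; exact hnmZ x hxS hxJ f f.2
    have h2 := Subgroup.card_dvd_of_le h1
    rw [hZcard] at h2
    rcases (Nat.dvd_prime Nat.prime_three).1 h2 with h3 | h3
    · have : (⟨_, ⟨f1, hf1⟩, rfl⟩ : ν.range) = 1 := by
        have := (Nat.card_eq_one_iff_unique.1 h3).1
        exact Subsingleton.elim _ _
      exact absurd (congrArg Subtype.val this) hf1n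
    · exact h3
  have hνk : Nat.card ν.ker = 9 := by
    have := ν.ker.card_mul_index
    rw [Subgroup.index_ker, hνr, hJcard] at this
    omega
  have : Fintype G := Fintype.ofFinite G
  set Y := Finset.univ.filter (fun y : G => y * x⁻¹ ∈ J ∧ y ^ 3 = 1) with hY
  have hYc : Y.card = 9 := by
    rw [← hνk, ← Nat.card_eq_finsetCard]
    refine Nat.card_congr
      { toFun := fun y => ⟨⟨y.1 * x⁻¹, (Finset.mem_filter.1 y.2).2.1⟩, ?_⟩
        invFun := fun f => ⟨(f.1 : G) * x, ?_⟩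
        left_inv := fun y => Subtype.ext (by simp)
        right_inv := fun f => Subtype.ext (Subtype.ext (by simp)) }
    · have h := (Finset.mem_filter.1 y.2).2.2
      change nm x (y.1 * x⁻¹) = 1
      rw [hnm3, inv_mul_cancel_right, h, hx3, inv_one, mul_one]
    · have h : nm x f.1.1 = 1 := f.2
      rw [hnm3, hx3, inv_one, mul_one] at h
      exact Finset.mem_filter.2 ⟨Finset.mem_univ _, by simp, h⟩
  have hti : t⁻¹ = t := inv_eq_of_mul_eq_one_right ht2
  have htc : ∀ a : G, t * (t * a * t) * t = a := fun a => by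
    calc t * (t * a * t) * t = (t * t) * a * (t * t) := by simp only [mul_assoc]
      _ = a := by rw [ht2, one_mul, mul_one]
  have htm : ∀ a b : G, t * (a * b) * t = (t * a * t) * (t * b * t) := fun a b => by
    calc t * (a * b) * t = t * a * (1 : G) * b * t := by rw [mul_one]; simp only [mul_assoc]
      _ = t * a * (t * t) * b * t := by rw [ht2]
      _ = _ := by simp only [mul_assoc]
  have htp : ∀ (a : G) (n : ℕ), (t * a * t) ^ n = t * a ^ n * t := fun a n => by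
    induction n with
    | zero => simp [ht2]
    | succ n ih => rw [pow_succ, ih, pow_succ, htm]
  have htJ : ∀ f ∈ J, t * f * t ∈ J := fun f hf => by simpa [hti] using hJn.conj_mem f hf t
  obtain ⟨d, hd3, hd⟩ := hSgen (t * x * t) (by simpa [hti] using hSn.conj_mem x hxS t) x hxS hxJ
  have hd0' : d ≠ 0 := fun h => hxJ (by
    rw [h, pow_zero, mul_one] at hd
    have := htJ _ hd
    rwa [htc] at this)
  have hZt : ∀ z ∈ Z, t * z * t = z := fun z hz => by
    rw [Subgroup.mem_centralizer_iff.1 (hZT hz) t htT, mul_assoc, ht2, mul_one]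
  set e := f1 * (t * f1 * t) with he
  have heJ : e ∈ J := mul_mem hf1 (htJ _ hf1)
  have het : t * e * t = e := by rw [he, htm, htc]; exact hJJ _ (htJ _ hf1) _ hf1
  have hd12 : d = 1 ∨ d = 2 := by omega
  obtain ⟨y, hy, hyfix⟩ := exists_fixed Y (fun y => if d = 1 then t * y * t else (t * y * t)⁻¹)
    (fun y hy => by
      obtain ⟨-, hyJ, hy3⟩ := Finset.mem_filter.1 hy
      refine Finset.mem_filter.2 ⟨Finset.mem_univ _, ?_, ?_⟩
      · rcases hd12 with rfl | rfl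
        · rw [if_pos rfl]
          rw [pow_one] at hd
          have h := mul_mem (htJ _ hyJ) hd
          rwa [← mul_assoc, ← htm, inv_mul_cancel_right] at h
        · rw [if_neg (by decide)]
          have e1 : x⁻¹ ^ 2 = x := by rw [inv_pow, ← hxi, inv_inv]
          rw [e1] at hd
          have h := inv_mem (mul_mem (htJ _ hyJ) hd)
          rw [← mul_assoc, ← htm, inv_mul_cancel_right, mul_inv_rev] at h
          have h2 := hJn.conj_mem _ h x
          rwa [mul_inv_cancel_left] at h2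
      · split
        · rw [htp, hy3, mul_one, ht2]
        · rw [inv_pow, htp, hy3, mul_one, ht2, inv_one])
    (fun y _ => by
      by_cases h : d = 1
      · simp only [if_pos h]; exact htc y
      · simp only [if_neg h]
        rw [show t * (t * y * t)⁻¹ * t = (t * (t * y * t) * t)⁻¹ by
          simp only [mul_inv_rev, hti, mul_assoc], htc, inv_inv])
    (by rw [hYc]; decide)
  obtain ⟨-, hyJ, hy3⟩ := Finset.mem_filter.1 hy
  have hyS : y ∈ (S : Subgroup G) := by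
    have := mul_mem (hJS hyJ) hxS; rwa [inv_mul_cancel_right] at this
  have hynJ : y ∉ J := fun h => hxJ (by
    have := mul_mem (inv_mem hyJ) h; rwa [mul_inv_rev, inv_inv, inv_mul_cancel_right] at this)
  have hnsym : ∀ f ∈ J, nm y (t * f * t) = t * nm y f * t := by
    intro f hf
    have a := hJn.conj_mem f hf y
    have b := hJn.conj_mem _ a y
    have hy3' : y⁻¹ = y ^ 2 := inv_eq_of_mul_eq_one_right (by rw [← pow_succ', hy3])
    have hyt : t * y * t = y ∨ t * y * t = y⁻¹ := by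
      rcases hd12 with rfl | rfl
      · exact Or.inl (by simpa using hyfix)
      · refine Or.inr ?_
        rw [if_neg (by decide)] at hyfix
        conv_rhs => rw [← hyfix, inv_inv]
    have hconj : ∀ g : G, t * (y * g * y⁻¹) * t = (t * y * t) * (t * g * t) * (t * y⁻¹ * t) := fun g => by
      rw [htm, htm]
    simp only [hnm]
    rw [htm, htm]
    rcases hyt with h | h
    · have h' : t * y⁻¹ * t = y⁻¹ := by
        conv_rhs => rw [← h]
        simp only [mul_inv_rev, hti, mul_assoc]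
      simp only [hconj, h, h']
    · have h' : t * y⁻¹ * t = y := by rw [← h, htc]
      simp only [hconj, h, h', inv_inv]
      set F := t * f * t
      have hF : F ∈ J := htJ f hf
      have A := hJn.conj_mem F hF y
      have B := hJn.conj_mem _ A y
      have e1 : y⁻¹ * F * y = y * (y * F * y⁻¹) * y⁻¹ := by
        calc y⁻¹ * F * y = y ^ 2 * F * (y ^ 2)⁻¹ := by rw [← hy3', inv_inv]
          _ = _ := by rw [pow_two]; group
      have e2 : y⁻¹ * (y⁻¹ * F * y) * y = y * F * y⁻¹ := by rw [e1]; group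
      rw [e2, e1, mul_assoc, hJJ _ A _ B, ← mul_assoc]
  have hne : nm y e ≠ 1 := by
    intro h1
    have hyx : nm y f1 = nm x f1 := hnmX y hyJ f1 hf1
    have he2 : nm y e = nm x f1 * nm x f1 := by
      rw [hnmX y hyJ e heJ, show nm x e = ν (⟨f1, hf1⟩ * ⟨t * f1 * t, htJ _ hf1⟩) from rfl, map_mul]
      change nm x f1 * nm x (t * f1 * t) = _
      rw [← hnmX y hyJ _ (htJ _ hf1), hnsym f1 hf1, hyx, hZt _ (hnmZ x hxS hxJ f1 hf1)]
    rw [he2] at h1
    apply hf1n
    have h3 := hJexp _ (hnmJ x f1 hf1)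
    rwa [pow_succ, pow_two, h1, one_mul] at h3
  have hbase : base e y (1, 1, 1) = nm y e := by simp only [base, hnm, pow_one, pow_two]; group
  rcases hd12 with rfl | rfl
  · -- t would centralise S
    exfalso
    rw [if_pos rfl] at hyfix
    let M : Subgroup G := J ⊓ Subgroup.centralizer ({t} : Set G)
    have hMt : ∀ g, g ∈ M ↔ g ∈ J ∧ t * g * t = g := fun g => by
      simp only [M, Subgroup.mem_inf, Subgroup.mem_centralizer_singleton_iff]
      refine and_congr_right fun _ => ⟨fun h => ?_, fun h => ?_⟩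
      · rw [← h, mul_assoc, ht2, mul_one]
      · calc g * t = t * g * t * t := by rw [h]
          _ = t * g := by rw [mul_assoc, ht2, mul_one]
    have hyi : t * y⁻¹ * t = y⁻¹ := by
      conv_rhs => rw [← hyfix]
      simp only [mul_inv_rev, hti, mul_assoc]
    have hMy : ∀ g ∈ M, y * g * y⁻¹ * g⁻¹ ∈ M := by
      intro g hg
      obtain ⟨hgJ, hgt⟩ := (hMt g).1 hg
      refine mul_mem ((hMt _).2 ⟨hJn.conj_mem g hgJ y, ?_⟩) (inv_mem hg)
      rw [htm, htm, hyfix, hgt, hyi]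
    let ψ : M →* M := MonoidHom.mk' (fun g => ⟨y * g * y⁻¹ * (g : G)⁻¹, hMy g g.2⟩) (fun g g' => Subtype.ext (by
      have a := hJn.conj_mem (g : G) ((hMt g).1 g.2).1 y
      have b := hJn.conj_mem (g' : G) ((hMt g').1 g'.2).1 y
      change y * ((g : G) * g') * y⁻¹ * ((g : G) * g')⁻¹ = y * g * y⁻¹ * (g : G)⁻¹ * (y * g' * y⁻¹ * (g' : G)⁻¹)
      rw [mul_inv_rev, show y * ((g : G) * g') * y⁻¹ * ((g' : G)⁻¹ * (g : G)⁻¹) =
        (y * g * y⁻¹) * ((y * g' * y⁻¹ * (g' : G)⁻¹) * (g : G)⁻¹) by group,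
        hJJ _ (mul_mem b (inv_mem ((hMt g').1 g'.2).1)) _ (inv_mem ((hMt g).1 g.2).1), ← mul_assoc]))
    have heM : e ∈ M := (hMt e).2 ⟨heJ, het⟩
    have hψψ : ((ψ (ψ ⟨e, heM⟩) : M) : G) = nm y e := by
      change y * (y * e * y⁻¹ * e⁻¹) * y⁻¹ * (y * e * y⁻¹ * e⁻¹)⁻¹ = _
      have a := hJn.conj_mem e heJ y
      have b := hJn.conj_mem _ a y
      simp only [hnm]
      rw [show y * (y * e * y⁻¹ * e⁻¹) * y⁻¹ * (y * e * y⁻¹ * e⁻¹)⁻¹ =
        ((y * (y * e * y⁻¹) * y⁻¹) * (y * e * y⁻¹)⁻¹) * (e * (y * e * y⁻¹)⁻¹) by group]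
      have hA3 := hJexp _ a
      set A := y * e * y⁻¹
      set B := y * A * y⁻¹
      have hAA : A⁻¹ * A⁻¹ = A := by
        calc A⁻¹ * A⁻¹ = (A ^ 3)⁻¹ * A := by group
          _ = A := by rw [hA3, inv_one, one_mul]
      calc B * A⁻¹ * (e * A⁻¹) = B * (A⁻¹ * e) * A⁻¹ := by simp only [mul_assoc]
        _ = B * e * (A⁻¹ * A⁻¹) := by rw [hJJ _ (inv_mem a) _ heJ]; simp only [mul_assoc]
        _ = e * B * A := by rw [hAA, hJJ _ b _ heJ]
        _ = _ := by rw [mul_assoc, hJJ _ b _ a, ← mul_assoc]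
    have hMle : Nat.card M ∣ 27 := hJcard ▸ Subgroup.card_dvd_of_le inf_le_left
    have h1 := ψ.ker.card_mul_index
    rw [Subgroup.index_ker] at h1
    -- the kernel is non-trivial and the range is larger
    have hk : 1 < Nat.card ψ.ker := by
      rw [Subgroup.one_lt_card_iff_ne_bot]
      intro hbot
      have hmem : ψ (ψ ⟨e, heM⟩) ∈ ψ.ker := by
        apply Subtype.ext
        change y * ((ψ (ψ ⟨e, heM⟩) : M) : G) * y⁻¹ * ((ψ (ψ ⟨e, heM⟩) : M) : G)⁻¹ = 1
        rw [hψψ, ((hZc _).1 (hnmZ y hyS hynJ e heJ)).2 y hyS, mul_inv_cancel_right, mul_inv_cancel]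
      rw [hbot, Subgroup.mem_bot] at hmem
      exact hne (hψψ.symm.trans (congrArg Subtype.val hmem))
    have hr : ∀ g, ψ g ∈ ψ.range := fun g => ⟨g, rfl⟩
    have hrk : ¬ ψ.range ≤ ψ.ker := fun h => hne (by
      rw [← hψψ, show ψ (ψ ⟨e, heM⟩) = 1 from h (hr _)]; rfl)
    have hrk2 : ψ.range ⊓ ψ.ker ≠ ⊥ := by
      intro hbot
      have hmem : ψ (ψ ⟨e, heM⟩) ∈ ψ.ker := by
        apply Subtype.ext
        change y * ((ψ (ψ ⟨e, heM⟩) : M) : G) * y⁻¹ * ((ψ (ψ ⟨e, heM⟩) : M) : G)⁻¹ = 1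
        rw [hψψ, ((hZc _).1 (hnmZ y hyS hynJ e heJ)).2 y hyS, mul_inv_cancel_right, mul_inv_cancel]
      have hm2 : ψ (ψ ⟨e, heM⟩) ∈ ψ.range ⊓ ψ.ker := ⟨hr _, hmem⟩
      rw [hbot, Subgroup.mem_bot] at hm2
      exact hne (hψψ.symm.trans (congrArg Subtype.val hm2))
    have h2 : 1 < Nat.card ↥(ψ.range ⊓ ψ.ker) := (Subgroup.one_lt_card_iff_ne_bot _).2 hrk2
    have h3 : Nat.card ↥(ψ.range ⊓ ψ.ker) < Nat.card ψ.range := by
      refine lt_of_le_of_ne (Subgroup.card_le_of_le inf_le_left) (fun heq => hrk ?_)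
      exact inf_eq_left.1 (Subgroup.eq_of_le_of_card_ge inf_le_left heq.ge)
    have d1 : Nat.card ↥(ψ.range ⊓ ψ.ker) ∣ Nat.card ψ.range := Subgroup.card_dvd_of_le inf_le_left
    have d2 : Nat.card ψ.ker ∣ 27 := (Dvd.intro _ h1).trans hMle
    have d3 : Nat.card ψ.range ∣ 27 := (Dvd.intro_left _ h1).trans hMle
    have hM27 : Nat.card M = 27 := by
      have l27 : Nat.card M ≤ 27 := Nat.le_of_dvd (by norm_num) hMle
      have hdiv : ∀ n, n ∣ 27 → n = 1 ∨ n = 3 ∨ n = 9 ∨ n = 27 := fun n hn => by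
        have : n ≤ 27 := Nat.le_of_dvd (by norm_num) hn
        interval_cases n <;> omega
      have d4 := hdiv _ (d1.trans d3)
      rcases hdiv _ d2 with a | a | a | a <;> rcases hdiv _ d3 with b | b | b | b <;> rw [a, b] at h1 <;> omega
    have hMJ : M = J := Subgroup.eq_of_le_of_card_ge inf_le_left (by rw [hM27, hJcard])
    apply hST
    refine le_antisymm inf_le_left (le_inf le_rfl fun s hs => ?_)
    rw [Subgroup.mem_centralizer_iff]
    intro u hu
    rcases hTgen u hu with rfl | rfl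
    · simp
    obtain ⟨k, -, hk'⟩ := hSgen s hs y hyS hynJ
    rw [← hMJ] at hk'
    have hts : u * s * u = s := by
      rw [show s = s * y⁻¹ ^ k * (y⁻¹ ^ k)⁻¹ by rw [mul_inv_cancel_right], htm, ((hMt _).1 hk').2]
      congr 1
      rw [← inv_pow, inv_inv, ← htp, hyfix]
    calc u * s = u * s * u * u := by rw [mul_assoc, ht2, mul_one]
      _ = s * u := by rw [hts]
  · rw [if_neg (by decide)] at hyfix
    have hrelG : WRel e y t :=
      ⟨hJexp _ heJ, hy3, ht2, by conv_rhs => rw [← hyfix, inv_inv],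
        het, hJJ _ heJ _ (hJn.conj_mem e heJ y)⟩
    set H := Subgroup.centralizer ({c} : Set (Equiv.Perm (Fin 9)))
    let e' : H := ⟨Equiv.swap 0 1 * Equiv.swap 1 2, Subgroup.mem_centralizer_singleton_iff.2 (by rw [hcdef]; decide +kernel)⟩
    let x' : H := ⟨Equiv.swap 0 3 * Equiv.swap 3 6 * (Equiv.swap 1 4 * Equiv.swap 4 7) * (Equiv.swap 2 5 * Equiv.swap 5 8),
      Subgroup.mem_centralizer_singleton_iff.2 (by rw [hcdef]; decide +kernel)⟩
    let t' : H := ⟨Equiv.swap 3 6 * Equiv.swap 4 7 * Equiv.swap 5 8,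
      Subgroup.mem_centralizer_singleton_iff.2 (by rw [hcdef]; decide +kernel)⟩
    have hrelH : WRel e' x' t' := by
      constructor <;> apply Subtype.ext <;> simp only [e', x', t', SubmonoidClass.coe_pow, Subgroup.coe_mul,
        InvMemClass.coe_inv, OneMemClass.coe_one] <;> decide +kernel
    have hNH : base e' x' (1, 1, 1) ≠ 1 := by
      intro h
      have h2 := congrArg Subtype.val h
      simp only [base, e', x', SubmonoidClass.coe_pow, Subgroup.coe_mul, InvMemClass.coe_inv,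
        OneMemClass.coe_one] at h2
      revert h2
      decide +kernel
    have hcH : Nat.card H = 162 := by
      rw [show H = Subgroup.centralizer ({c} : Set (Equiv.Perm (Fin 9))) from rfl,
        Equiv.Perm.nat_card_centralizer, show c.cycleType = {3, 3, 3} by rw [hcdef]; decide +kernel]
      decide +kernel
    exact iso_of_rel hrelG hrelH (hbase ▸ hne) hNH hG hcH

end Cfsg.Agent.S3376
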