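import Cfsg.Statements.S5428
import Cfsg.Agent.Lib.Extra.Structure

set_option autoImplicit false
open Cfsg
open scoped Pointwise

namespace Cfsg.Agent.S5428

/-- Let z be an involution of the finite group G whose centralizer C has generalized Fitting subgroup Q extraspecial (as a 2-group), let A be a subgroup of C of odd order, and let R be the centralizer of A in Q; suppose R has order at least 32, the largest normal subgroup of odd order of the centralizer of the subgroup generated by A and R lies in A, the order of that centralizer is not divisible by 4, and g is an element of G with g z g⁻¹ in R but outside the centre Z of Q. Let M be the subgroup generated by A and the centralizer of A (A is normal in it). Then: the centralizer in M of the subgroup generated by R and A, joined with A, equals the subgroup generated by A and Z; the image of R in M/A is a large extraspecial 2-subgroup of M/A; and g z g⁻¹ is conjugate to z inside the subgroup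 generated by R and the centralizer of A in g Q g⁻¹. -/
theorem result {G : Type*} [Group G] [Finite G] (z : G) (hz : orderOf z = 2) (Q : Subgroup G) (hQC : Q ≤ Subgroup.centralizer ({z} : Set G)) (hF : (Cfsg.generalizedFittingSubgroup ↥(Subgroup.centralizer ({z} : Set G))).map (Subgroup.centralizer ({z} : Set G)).subtype = Q) (hQ : Cfsg.IsExtraspecial 2 ↥Q) (A : Subgroup G) (hA : A ≤ Subgroup.centralizer ({z} : Set G)) (hAodd : Odd (Nat.card ↥A)) (R : Subgroup G) (hR : R = Q ⊓ Subgroup.centralizer (A : Set G)) (hR32 : 32 ≤ Nat.card ↥R) (hO : (Cfsg.oddCore ↥(Subgroup.centralizer ((A ⊔ R : Subgroup G) : Set G))).map (Subgroup.centralizer ((A ⊔ R : Subgroup G) : Set G)).subtype ≤ A) (h4 : ¬ 4 ∣ Nat.card ↥(Subgroup.centralizer ((A ⊔ R : Subgroup G) : Set G))) (g : G) (hgR : g * z * g⁻¹ ∈ R) (hgZ : g * z * g⁻¹ ∉ ((Subgroup.center ↥Q).map Q.subtype)) (M : Subgroup G) (hM : M = Subgroup.centralizer (A : Set G) ⊔ A) [hn : (A.subgroupOf M).Normal]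 : (M ⊓ Subgroup.centralizer ((R ⊔ A : Subgroup G) : Set G)) ⊔ A = A ⊔ ((Subgroup.center ↥Q).map Q.subtype) ∧ Cfsg.IsLargeExtraspecial ((R.subgroupOf M).map (QuotientGroup.mk' (A.subgroupOf M))) ∧ ∃ x ∈ R ⊔ ((Q).map (MulAut.conj g).toMonoidHom ⊓ Subgroup.centralizer (A : Set G)), x * (g * z * g⁻¹) * x⁻¹ = z := by
  classical
  haveI : Fact (Nat.Prime 2) := ⟨Nat.prime_two⟩
  obtain ⟨hcen, -, -, hX⟩ := Cfsg.Lib.Extra.of_fitting hz hQC hF hQ
  have hR' := hX.conj g
  set x := g * z * g⁻¹ with hxdef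
  set Q' := Q.map (MulAut.conj g).toMonoidHom with hQ'
  rw [hcen] at hgZ ⊢
  have hxz : x ≠ z := fun e => hgZ (e ▸ Subgroup.mem_zpowers z)
  have hmR : ∀ {r : G}, r ∈ R ↔ r ∈ Q ∧ r ∈ Subgroup.centralizer (A : Set G) := fun {r} => by
    rw [hR, Subgroup.mem_inf]
  obtain ⟨hxQ, hxA⟩ := hmR.1 hgR
  have hAz : ∀ a ∈ A, Commute a z := fun a ha => Subgroup.mem_centralizer_singleton_iff.1 (hA ha)
  have hAx : ∀ a ∈ A, Commute a x := fun a ha => Subgroup.mem_centralizer_iff.1 hxA a ha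
  have hzA : z ∈ Subgroup.centralizer (A : Set G) :=
    Subgroup.mem_centralizer_iff.2 fun a ha => (hAz a ha).eq
  have hzR : z ∈ R := hmR.2 ⟨hX.mem, hzA⟩
  have hzQ' : z ∈ Q' := hX.mem_symm hxQ
  obtain ⟨a₀, ha₀, ha₀A, ha₀x⟩ := hX.exists_move_fixed hAodd hAz hxQ hAx hR'.ne_one hxz
  obtain ⟨r₀, hr₀, hr₀A, hr₀z⟩ := hR'.exists_move_fixed hAodd hAx hzQ' hAz hX.ne_one hxz.symm
  have hodd1 : ∀ a ∈ A, a * a = 1 → a = 1 := by
    intro a ha h
    have h1 : orderOf a ∣ 2 := orderOf_dvd_of_pow_eq_one (by rw [pow_two, h])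
    have h2 : orderOf a ∣ Nat.card A := by rw [← Subgroup.orderOf_mk a ha]; exact orderOf_dvd_natCard _
    exact orderOf_eq_one_iff.1 (Nat.eq_one_of_dvd_coprimes (Nat.coprime_two_left.2 hAodd) h1 h2)
  -- the centralizer of `AR`
  set D := Subgroup.centralizer ((A ⊔ R : Subgroup G) : Set G) with hD
  have hmD : ∀ {d : G}, d ∈ Subgroup.centralizer (A : Set G) → (∀ r ∈ R, Commute d r) → d ∈ D := by
    intro d hd hr
    have hle : A ⊔ R ≤ Subgroup.centralizer ({d} : Set G) :=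
      sup_le (fun a ha => Subgroup.mem_centralizer_singleton_iff.2 (Subgroup.mem_centralizer_iff.1 hd a ha))
        fun r hr' => Subgroup.mem_centralizer_singleton_iff.2 (hr r hr').symm.eq
    exact Subgroup.mem_centralizer_iff.2 fun w hw =>
      Subgroup.mem_centralizer_singleton_iff.1 (hle hw)
  have hzD : z ∈ D := hmD hzA fun r hr => hX.central r (hmR.1 hr).1
  have hDdec : ∀ d ∈ D, d ∈ A ⊔ Subgroup.zpowers z := by
    have hzc : ∀ d : ↥D, (⟨z, hzD⟩ : D) * d = d * ⟨z, hzD⟩ := fun d => Subtype.ext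
      (Subgroup.mem_centralizer_iff.1 d.2 z (Subgroup.mem_sup_right hzR))
    set Z : Subgroup D := Subgroup.zpowers ⟨z, hzD⟩ with hZ
    have hZc : ∀ w ∈ Z, ∀ d : D, w * d = d * w := by
      intro w hw d
      obtain ⟨k, rfl⟩ := Subgroup.mem_zpowers_iff.1 hw
      exact ((show Commute (⟨z, hzD⟩ : D) d from hzc d).zpow_left k).eq
    haveI : Z.Normal := ⟨fun w hw d => by rw [← hZc w hw d, mul_inv_cancel_right]; exact hw⟩
    have hZcard : Nat.card Z = 2 := by rw [hZ, Nat.card_zpowers, Subgroup.orderOf_mk, hz]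
    have hidx : ¬ 2 ∣ Z.index := fun h => h4 (by
      rw [← Subgroup.card_mul_index Z, hZcard]; exact mul_dvd_mul_left 2 h)
    obtain ⟨B, hB⟩ := Subgroup.exists_right_complement'_of_coprime
      (N := Z) (hZcard ▸ (Nat.prime_two.coprime_iff_not_dvd.2 hidx))
    haveI : B.Normal := ⟨fun b hb d => by
      have hd : d ∈ (Z : Set D) * (B : Set D) := by rw [hB.mul_eq]; exact Set.mem_univ d
      obtain ⟨w, hw, b', hb', rfl⟩ := hd
      have h1 : w * b' * b * (w * b')⁻¹ = b' * b * b'⁻¹ := by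
        rw [_root_.mul_inv_rev, show w * b' * b * (b'⁻¹ * w⁻¹) = w * (b' * b * b'⁻¹) * w⁻¹ by group,
          hZc w hw, mul_inv_cancel_right]
      rw [h1]; exact mul_mem (mul_mem hb' hb) (B.inv_mem hb')⟩
    have hBcard : Nat.card B = Z.index := by
      have h := hB.card_mul
      rw [← Subgroup.card_mul_index Z] at h
      exact Nat.eq_of_mul_eq_mul_left Nat.card_pos h
    have hBcore : B ≤ Cfsg.oddCore D := Cfsg.Lib.Core.le_pPrimeCore
      (hBcard ▸ (Nat.prime_two.coprime_iff_not_dvd.2 hidx).symm)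
    intro d hd
    have hd' : (⟨d, hd⟩ : D) ∈ (Z : Set D) * (B : Set D) := by rw [hB.mul_eq]; exact Set.mem_univ _
    obtain ⟨w, hw, b, hb, hwb⟩ := hd'
    rw [show d = (w : G) * (b : G) from (congrArg Subtype.val hwb).symm]
    obtain ⟨k, rfl⟩ := Subgroup.mem_zpowers_iff.1 hw
    exact mul_mem (Subgroup.mem_sup_right ⟨k, by simp⟩)
      (Subgroup.mem_sup_left (hO (Subgroup.mem_map_of_mem _ (hBcore hb))))
  have hCM : Subgroup.centralizer (A : Set G) ≤ M := hM ▸ le_sup_left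
  have hAM : A ≤ M := hM ▸ le_sup_right
  refine ⟨?_, ?_, r₀⁻¹ * a₀, ?_, ?_⟩
  · refine le_antisymm (sup_le (fun d hd => hDdec d ?_) le_sup_left) (sup_le le_sup_right ?_)
    · have h2 := hd.2
      rw [sup_comm] at h2
      exact h2
    · refine le_trans ?_ le_sup_left
      rw [Subgroup.zpowers_le]
      refine ⟨hCM hzA, ?_⟩
      rw [sup_comm]
      exact hzD
  · set N := A.subgroupOf M with hN
    set π := QuotientGroup.mk' N with hπ
    have hone : ∀ m : M, π m = 1 ↔ (m : G) ∈ A := fun m => by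
      rw [hπ, QuotientGroup.mk'_apply, QuotientGroup.eq_one_iff, hN, Subgroup.mem_subgroupOf]
    set R' := (R.subgroupOf M).map π with hR'def
    have hRM : R ≤ M := fun r hr => hCM (hmR.1 hr).2
    have hmem : ∀ (r : M), (r : G) ∈ R → π r ∈ R' := fun r hr => ⟨r, hr, rfl⟩
    have hRe : ∀ p ∈ R', ∃ r : M, (r : G) ∈ R ∧ π r = p := by
      rintro _ ⟨r, hr, rfl⟩; exact ⟨r, hr, rfl⟩
    have hlift : ∀ q : M ⧸ N, ∃ c : M, (c : G) ∈ Subgroup.centralizer (A : Set G) ∧ π c = q := by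
      intro q
      obtain ⟨m, rfl⟩ := QuotientGroup.mk'_surjective N q
      have hm : (m : G) ∈ Subgroup.centralizer (A : Set G) ⊔ A := hM ▸ m.2
      have hcomm : ⁅Subgroup.centralizer (A : Set G), A⁆ = ⊥ := by
        rw [Subgroup.commutator_eq_bot_iff_le_centralizer]
      obtain ⟨c, hc, a, ha, hca⟩ := (Cfsg.Lib.Core.mem_sup_of_commute hcomm).1 hm
      refine ⟨⟨c, hCM hc⟩, hc, ?_⟩
      rw [show m = ⟨c, hCM hc⟩ * ⟨a, hAM ha⟩ from Subtype.ext hca.symm]
      exact (by rw [map_mul, (hone ⟨a, hAM ha⟩).2 ha, mul_one] : π ⟨c, hCM hc⟩ = π (⟨c, hCM hc⟩ * ⟨a, hAM ha⟩))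
    have hfix : ∀ (c : M) (w : M), (c : G) ∈ Subgroup.centralizer (A : Set G) →
        (w : G) ∈ Subgroup.centralizer (A : Set G) → (w : G) * w = 1 → Commute (π c) (π w) →
        Commute (c : G) w := by
      intro c w hc hw hw2 h
      have h1 : π (c * w * c⁻¹ * w⁻¹) = 1 := by
        rw [map_mul, map_mul, map_mul, map_inv, map_inv, h.eq]; group
      have ha := (hone _).1 h1
      have hwa : Commute ((c : G) * w * (c : G)⁻¹ * (w : G)⁻¹) (w : G) :=
        Subgroup.mem_centralizer_iff.1 hw _ ha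
      have hwi : (w : G)⁻¹ = w := inv_eq_of_mul_eq_one_right hw2
      refine mul_inv_eq_iff_eq_mul.1 (mul_inv_eq_one.1 (hodd1 _ ha ?_))
      calc (c : G) * w * (c : G)⁻¹ * (w : G)⁻¹ * ((c : G) * w * (c : G)⁻¹ * (w : G)⁻¹)
          = ((c : G) * w * (c : G)⁻¹ * (w : G)⁻¹) * w * (((c : G) * w * (c : G)⁻¹ * (w : G)⁻¹) * w) := by
            rw [hwa.symm.mul_mul_mul_comm, hw2, mul_one]
        _ = (c : G) * ((w : G) * w) * (c : G)⁻¹ := by group
        _ = 1 := by rw [hw2, mul_one, mul_inv_cancel]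
    set zb := π ⟨z, hRM hzR⟩ with hzb
    have hne : ∀ r : M, (r : G) ∈ R → π r = 1 → (r : G) = 1 := by
      intro r hr h
      obtain ⟨k, hk⟩ := hX.two ⟨(r : G), (hmR.1 hr).1⟩
      have h1 : orderOf (r : G) ∣ 2 ^ k := orderOf_dvd_of_pow_eq_one (by simpa using congrArg Subtype.val hk)
      have h2 : orderOf (r : G) ∣ Nat.card A := by
        rw [← Subgroup.orderOf_mk _ ((hone r).1 h)]; exact orderOf_dvd_natCard _
      exact orderOf_eq_one_iff.1
        (Nat.eq_one_of_dvd_coprimes (Nat.Coprime.pow_left k (Nat.coprime_two_left.2 hAodd)) h1 h2)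
    have hCtx : Cfsg.Lib.Extra.Ctx R' zb := by
      refine ⟨hmem _ hzR, fun h => hX.ne_one (hne _ hzR h), ?_, fun p hp => ?_, fun p hp q hq => ?_,
        fun p hp => ?_, fun q hq => ?_, fun q hq => ?_, ?_⟩
      · rw [hzb, ← map_mul]; exact (hone _).2 (by rw [Subgroup.coe_mul, hX.sq_z]; exact one_mem A)
      · obtain ⟨r, hr, rfl⟩ := hRe p hp
        show π _ * π r = π r * π _
        rw [← map_mul, ← map_mul]
        exact congrArg π (Subtype.ext (hX.central r (hmR.1 hr).1).eq)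
      · obtain ⟨a, ha, rfl⟩ := hRe p hp
        obtain ⟨b, hb, rfl⟩ := hRe q hq
        rw [← map_inv, ← map_inv, ← map_mul, ← map_mul, ← map_mul]
        rcases hX.comm a (hmR.1 ha).1 b (hmR.1 hb).1 with e | e
        · exact Or.inl ((hone _).2 (show (a : G) * b * (a : G)⁻¹ * (b : G)⁻¹ ∈ A from e ▸ one_mem A))
        · exact Or.inr (congrArg π (Subtype.ext e))
      · obtain ⟨a, ha, rfl⟩ := hRe p hp
        rw [← map_mul]
        rcases hX.sq a (hmR.1 ha).1 with e | e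
        · exact Or.inl ((hone _).2 (show (a : G) * a ∈ A from e ▸ one_mem A))
        · exact Or.inr (congrArg π (Subtype.ext e))
      · obtain ⟨c, hc, rfl⟩ := hlift q
        have hcz : Commute (c : G) z := hfix c ⟨z, hRM hzR⟩ hc hzA hX.sq_z (hq _ (hmem ⟨z, hRM hzR⟩ hzR))
        have hcR : ∀ r ∈ R, Commute (c : G) r := by
          intro r hr
          have h1 : π (c * ⟨r, hRM hr⟩ * c⁻¹ * ⟨r, hRM hr⟩⁻¹) = 1 := by
            rw [map_mul, map_mul, map_mul, map_inv, map_inv, (hq _ (hmem ⟨r, hRM hr⟩ hr)).eq]; group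
          have hcR' : (c : G) * r * (c : G)⁻¹ * r⁻¹ ∈ R := by
            refine mul_mem (hmR.2 ⟨(Subgroup.mem_normalizer_iff.1 (hX.norm _ hcz) r).1 (hmR.1 hr).1, ?_⟩)
              (R.inv_mem hr)
            exact mul_mem (mul_mem hc (hmR.1 hr).2) (inv_mem hc)
          exact mul_inv_eq_iff_eq_mul.1 (mul_inv_eq_one.1 (hne _ hcR' h1))
        obtain ⟨a, ha, w, hw, haw⟩ := (Cfsg.Lib.Core.mem_sup_of_commute (show ⁅A, Subgroup.zpowers z⁆ = ⊥ by
          rw [Subgroup.commutator_eq_bot_iff_le_centralizer, Subgroup.le_centralizer_iff]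
          exact Subgroup.zpowers_le.2 hzA)).1 (hDdec _ (hmD hc hcR))
        have hwM : w ∈ M := (Subgroup.zpowers_le.2 (hCM hzA)) hw
        rw [show c = ⟨a, hAM ha⟩ * ⟨w, hwM⟩ from Subtype.ext haw.symm, map_mul, (hone _).2 ha, one_mul]
        obtain ⟨k, hk⟩ := Subgroup.mem_zpowers_iff.1 hw
        obtain ⟨m, rfl | rfl⟩ := Int.even_or_odd' k
        · left
          refine (hone _).2 (show w ∈ A from ?_)
          rw [← hk, zpow_mul, zpow_two, hX.sq_z, one_zpow]; exact one_mem A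
        · refine Or.inr (congrArg π (Subtype.ext (show w = z from ?_)))
          rw [← hk, zpow_add_one, zpow_mul, zpow_two, hX.sq_z, one_zpow, one_mul]
      · obtain ⟨c, hc, rfl⟩ := hlift q
        have hcN := hX.norm (c : G) (hfix c ⟨z, hRM hzR⟩ hc hzA hX.sq_z hq)
        refine Subgroup.mem_normalizer_fintype fun p hp => ?_
        obtain ⟨r, hr, rfl⟩ := hp
        rw [← map_inv, ← map_mul, ← map_mul]
        exact hmem _ (hmR.2 ⟨(Subgroup.mem_normalizer_iff.1 hcN _).1 (hmR.1 hr).1,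
          mul_mem (mul_mem hc (hmR.1 hr).2) (inv_mem hc)⟩)
      · refine IsPGroup.map ?_ π
        exact (hX.two.to_le (fun r hr => (hmR.1 hr).1)).of_equiv (Subgroup.subgroupOfEquivOfLe hRM).symm
    refine hCtx.large ⟨π ⟨a₀, hCM ha₀A⟩, hmem _ (hmR.2 ⟨ha₀, ha₀A⟩), π ⟨x, hRM hgR⟩, hmem _ hgR,
      fun h => ?_⟩ fun K hK hQK => ?_
    · have hc := hfix ⟨a₀, hCM ha₀A⟩ ⟨x, hRM hgR⟩ ha₀A hxA hR'.sq_z h
      refine hX.ne_one ?_
      have e : a₀ * x * a₀⁻¹ = x := mul_inv_eq_iff_eq_mul.2 hc.eq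
      rw [ha₀x, mul_eq_right] at e
      exact e
    · set W := ((Q' ⊓ Subgroup.centralizer (A : Set G)).subgroupOf M).map π with hW
      have hW2 : IsPGroup 2 W := by
        refine IsPGroup.map ?_ π
        exact (hR'.two.to_le inf_le_left).of_equiv
          (Subgroup.subgroupOfEquivOfLe (inf_le_right.trans hCM)).symm
      refine hCtx.odd_eq_bot (b := π ⟨x, hRM hgR⟩) (hmem _ hgR) ?_ ?_ ?_ hW2
        ⟨⟨z, hRM hzR⟩, ⟨hzQ', hzA⟩, rfl⟩ ?_ hK hQK
      · rw [← map_mul]; exact (hone _).2 (show x * x ∈ A from hR'.sq_z ▸ one_mem A)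
      · intro h
        have h1 : π (⟨x, hRM hgR⟩ * ⟨z, hRM hzR⟩⁻¹) = 1 := by rw [map_mul, map_inv, h, hzb, mul_inv_cancel]
        exact hxz (mul_inv_eq_one.1 (hne _ (mul_mem hgR (R.inv_mem hzR)) h1))
      · exact fun h => hR'.ne_one (hne _ hgR h)
      · intro q hq
        obtain ⟨c, hc, rfl⟩ := hlift q
        have hcN := hR'.norm (c : G) (hfix c ⟨x, hRM hgR⟩ hc hxA hR'.sq_z hq)
        refine Subgroup.mem_normalizer_fintype fun p hp => ?_
        obtain ⟨d, hd, rfl⟩ := hp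
        rw [← map_inv, ← map_mul, ← map_mul]
        exact ⟨_, ⟨(Subgroup.mem_normalizer_iff.1 hcN _).1 hd.1,
          mul_mem (mul_mem hc hd.2) (inv_mem hc)⟩, rfl⟩
  · exact mul_mem (inv_mem (Subgroup.mem_sup_right ⟨hr₀, hr₀A⟩))
      (Subgroup.mem_sup_left (hmR.2 ⟨ha₀, ha₀A⟩))
  · calc r₀⁻¹ * a₀ * x * (r₀⁻¹ * a₀)⁻¹ = r₀⁻¹ * (a₀ * x * a₀⁻¹) * r₀ := by group
      _ = r₀⁻¹ * (r₀ * z * r₀⁻¹) * r₀ := by rw [ha₀x, hr₀z, (hX.central x hxQ).eq]
      _ = z := by group

end Cfsg.Agent.S5428
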