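import Cfsg.Statements.S3341
import Cfsg.Agent.Lib.Recog.NineSC.Main

set_option autoImplicit false
open Cfsg

namespace Cfsg.Agent.S3341

/-- Let G be a finite simple group whose Sylow 3-subgroup S is elementary abelian of order 9, such that G has more than one conjugacy class of elements of order 3 and C_G(s) = S for every non-identity s in S. Then G is isomorphic to the alternating group of degree 6. -/
theorem result {G : Type*} [Group G] [Finite G] [IsSimpleGroup G]
    (P : Sylow 3 G) (S : Subgroup G) (hSP : S = P) (hcomm : IsMulCommutative S) (hexp : ∀ a ∈ S, a ^ 3 = 1)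
    (hcard : Nat.card S = 9)
    (hclasses : ∃ a b : G, orderOf a = 3 ∧ orderOf b = 3 ∧ ∀ g : G, g * a * g⁻¹ ≠ b)
    (hcent : ∀ s ∈ S, s ≠ 1 → Subgroup.centralizer ({s} : Set G) = S) :
    Nonempty (G ≃* alternatingGroup (Fin 6)) := by
  subst hSP
  let X : Cfsg.Lib.Recog.NineSC.Setup G := ⟨P, hcard, hexp, hcent⟩
  have hne : ¬ IsMulCommutative G := by
    intro hG
    obtain ⟨a, b, ha, -, -⟩ := hclasses
    haveI : (Subgroup.zpowers a).Normal := ⟨fun x hx g => by
      rwa [show g * x * g⁻¹ = x by rw [mul_comm' g x, mul_assoc, mul_inv_cancel, mul_one]]⟩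
    rcases Subgroup.Normal.eq_bot_or_eq_top (H := Subgroup.zpowers a) inferInstance with h | h
    · rw [Subgroup.zpowers_eq_bot] at h
      rw [h, orderOf_one] at ha
      omega
    · have h3 : Nat.card G = 3 := by rw [← Subgroup.card_top, ← h, Nat.card_zpowers, ha]
      have := Subgroup.card_subgroup_dvd_card (P : Subgroup G)
      rw [hcard, h3] at this
      norm_num at this
  exact Cfsg.Lib.Small.Order360.iso_alternating (X.card_eq hne hclasses)

end Cfsg.Agent.S3341
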