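import Cfsg.Statements.S0078
import Cfsg.Agent.Lib.Fusion.Tate

set_option autoImplicit false
set_option linter.style.haveILetI false
open Cfsg

namespace Cfsg.Agent.S0078

open Subgroup in
theorem weaklyClosed_controls {G : Type*} [Group G] [Finite G] {p : ℕ} [Fact p.Prime]
    (P : Sylow p G) (Z : Subgroup G) (hZ : Z ≤ centralizer ((P : Subgroup G) : Set G))
    (hZP : Z ≤ (P : Subgroup G))
    (hw : ∀ g : G, ∀ Q : Sylow p G, Z ≤ (Q : Subgroup G) →
      (∀ z ∈ Z, g * z * g⁻¹ ∈ (Q : Subgroup G)) → g ∈ normalizer (Z : Set G))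
    (x : G) (hx : x ∈ (P : Subgroup G)) (g : G) (hg : g * x * g⁻¹ ∈ (P : Subgroup G)) :
    ∃ h ∈ normalizer (Z : Set G), h * x * h⁻¹ = g * x * g⁻¹ := by
  classical
  set y := g * x * g⁻¹ with hy
  set C := centralizer ({y} : Set G) with hC
  have h1 : Z ≤ C := fun z hz => by
    rw [hC, mem_centralizer_singleton_iff]
    exact (hZ hz y hg).symm
  have h2 : Z.map (MulAut.conj g).toMonoidHom ≤ C := by
    rintro _ ⟨z, hz, rfl⟩
    rw [hC, mem_centralizer_singleton_iff, hy]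
    show g * z * g⁻¹ * (g * x * g⁻¹) = g * x * g⁻¹ * (g * z * g⁻¹)
    have := hZ hz x hx
    calc g * z * g⁻¹ * (g * x * g⁻¹) = g * (z * x) * g⁻¹ := by group
      _ = g * (x * z) * g⁻¹ := by rw [this]
      _ = g * x * g⁻¹ * (g * z * g⁻¹) := by group
  have hp1 : IsPGroup p Z := P.2.to_le hZP
  obtain ⟨A, hA⟩ := (hp1.of_equiv (subgroupOfEquivOfLe h1).symm).exists_le_sylow
  obtain ⟨B, hB⟩ := ((hp1.map (MulAut.conj g).toMonoidHom).of_equiv
    (subgroupOfEquivOfLe h2).symm).exists_le_sylow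
  obtain ⟨c, hc⟩ := MulAction.exists_smul_eq C B A
  obtain ⟨Q, hQ⟩ := (A.2.map C.subtype : IsPGroup p ((A : Subgroup C).map C.subtype)).exists_le_sylow
  refine ⟨c * g, hw _ Q (fun z hz => hQ ⟨⟨z, h1 hz⟩, hA (mem_subgroupOf.mpr hz), rfl⟩) ?_, ?_⟩
  · intro z hz
    have hzB : (⟨g * z * g⁻¹, h2 ⟨z, hz, rfl⟩⟩ : C) ∈ B := hB (mem_subgroupOf.mpr ⟨z, hz, rfl⟩)
    have hzA : c * (⟨g * z * g⁻¹, h2 ⟨z, hz, rfl⟩⟩ : C) * c⁻¹ ∈ (A : Subgroup C) := by
      rw [← hc]
      exact ⟨_, hzB, rfl⟩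
    have := hQ ⟨_, hzA, rfl⟩
    simpa [mul_assoc] using this
  · have := mem_centralizer_singleton_iff.mp c.2
    calc (c : G) * g * x * ((c : G) * g)⁻¹ = c * y * (c : G)⁻¹ := by rw [hy]; group
      _ = y := by rw [this]; group

/-- In a p-normal group, a Sylow p-subgroup P meets O^p(G) exactly where it meets O^p(V), for any subgroup V containing the normalizer of the centre of P. -/
theorem result {G : Type*} [Group G] [Finite G] {p : ℕ} [Fact p.Prime] (P : Sylow p G) (hn : ∀ Q : Sylow p G, (P : Subgroup G) ⊓ Subgroup.centralizer (P : Set G) ≤ (Q : Subgroup G) → (Q : Subgroup G) ⊓ Subgroup.centralizer (Q : Set G) = (P : Subgroup G) ⊓ Subgroup.centralizer (P : Set G)) (V : Subgroup G) (hV : Subgroup.normalizer (((P : Subgroup G) ⊓ Subgroup.centralizer (P : Set G) : Subgroup G) : Set G) ≤ V) : (P : Subgroup G) ⊓ Cfsg.pResidual p G = (P : Subgroup G) ⊓ (Cfsg.pResidual p V).map V.subtype := by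
  set Z := (P : Subgroup G) ⊓ Subgroup.centralizer ((P : Subgroup G) : Set G) with hZ
  have hPV : (P : Subgroup G) ≤ V := le_trans (fun x hx => by
    refine Subgroup.mem_normalizer_iff.mpr fun z => ?_
    have hcomm : ∀ w ∈ Z, x * w * x⁻¹ = w := fun w hw => by
      rw [hw.2 x hx, mul_inv_cancel_right]
    constructor
    · intro hz
      rw [hcomm z hz]; exact hz
    · intro hz
      have h2 : x * z * x⁻¹ = z := by
        calc x * z * x⁻¹ = x⁻¹ * (x * (x * z * x⁻¹) * x⁻¹) * x := by group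
          _ = x⁻¹ * (x * z * x⁻¹) * x := by rw [hcomm _ hz]
          _ = z := by group
      rwa [h2] at hz) hV
  rw [inf_comm, inf_comm (P : Subgroup G)]
  refine Cfsg.Lib.Fusion.tate_of_commutator P V hPV
    (Cfsg.Lib.Fusion.commutator_inf_eq_of_controls P V hPV fun x hx g hg => ?_)
  obtain ⟨h, hh, he⟩ := weaklyClosed_controls P Z inf_le_right inf_le_left
    (fun g Q hZQ hgQ => by
      have e1 := hn Q hZQ
      have hgQ' : Z ≤ (g⁻¹ • Q : Sylow p G) := fun z hz => by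
        refine ⟨g * z * g⁻¹, hgQ z hz, ?_⟩
        show g⁻¹ * (g * z * g⁻¹) * g⁻¹⁻¹ = z
        group
      have e2 := hn _ hgQ'
      refine Subgroup.mem_normalizer_iff.mpr fun z => ?_
      have hmem : ∀ w, w ∈ ((g⁻¹ • Q : Sylow p G) : Subgroup G) ↔ g * w * g⁻¹ ∈ (Q : Subgroup G) := by
        intro w
        constructor
        · rintro ⟨q, hq, rfl⟩
          show g * (g⁻¹ * q * g⁻¹⁻¹) * g⁻¹ ∈ (Q : Subgroup G)
          have : g * (g⁻¹ * q * g⁻¹⁻¹) * g⁻¹ = q := by group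
          rw [this]; exact hq
        · intro hw
          refine ⟨g * w * g⁻¹, hw, ?_⟩
          show g⁻¹ * (g * w * g⁻¹) * g⁻¹⁻¹ = w
          group
      have hm : ∀ w, w ∈ Z ↔ g * w * g⁻¹ ∈ Z := fun w => by
        have f1 : ∀ v, v ∈ Z ↔ v ∈ (Q : Subgroup G) ⊓ Subgroup.centralizer ((Q : Subgroup G) : Set G) :=
          fun v => iff_of_eq (congrArg (v ∈ ·) e1.symm)
        have f2 : ∀ v, v ∈ Z ↔ v ∈ ((g⁻¹ • Q : Sylow p G) : Subgroup G) ⊓
            Subgroup.centralizer (((g⁻¹ • Q : Sylow p G) : Subgroup G) : Set G) :=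
          fun v => iff_of_eq (congrArg (v ∈ ·) e2.symm)
        rw [f2 w, f1 (g * w * g⁻¹)]
        simp only [Subgroup.mem_inf, Subgroup.mem_centralizer_iff]
        refine and_congr (hmem w) ⟨fun h q hq => ?_, fun h r hr => ?_⟩
        · have hq' : g⁻¹ * q * g ∈ ((g⁻¹ • Q : Sylow p G) : Subgroup G) :=
            (hmem _).mpr (by have : g * (g⁻¹ * q * g) * g⁻¹ = q := by group
                             rw [this]; exact hq)
          have := h _ hq'
          calc q * (g * w * g⁻¹) = g * ((g⁻¹ * q * g) * w) * g⁻¹ := by group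
            _ = g * (w * (g⁻¹ * q * g)) * g⁻¹ := by rw [this]
            _ = g * w * g⁻¹ * q := by group
        · have := h _ ((hmem r).mp hr)
          calc r * w = g⁻¹ * ((g * r * g⁻¹) * (g * w * g⁻¹)) * g := by group
            _ = g⁻¹ * ((g * w * g⁻¹) * (g * r * g⁻¹)) * g := by rw [this]
            _ = w * r := by group
      exact hm z) x hx g hg
  exact ⟨h, hV hh, he⟩

end Cfsg.Agent.S0078
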