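import Cfsg.Statements.S5876
import Mathlib.LinearAlgebra.FiniteDimensional.Basic
import Mathlib.GroupTheory.Solvable

set_option autoImplicit false
open Cfsg

namespace Cfsg.Agent.S5876

open scoped Matrix

variable {F : Type*} [Field F] {n : ℕ}

/-- The fixed space of a matrix. -/
noncomputable def fixSp (A : Matrix (Fin n) (Fin n) F) : Submodule F (Fin n → F) :=
  Module.End.eigenspace (Matrix.toLin' A) 1

theorem mem_fixSp {A : Matrix (Fin n) (Fin n) F} {v : Fin n → F} : v ∈ fixSp A ↔ A *ᵥ v = v := by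
  rw [fixSp, Module.End.mem_eigenspace_iff, Matrix.toLin'_apply, one_smul]

theorem exists_idem_pow {M : Type*} [Monoid M] [Finite M] (x : M) :
    ∃ k, 0 < k ∧ x ^ k * x ^ k = x ^ k := by
  obtain ⟨i, j, hne, h⟩ := Finite.exists_ne_map_eq_of_infinite (fun k : ℕ => x ^ k)
  replace h : x ^ i = x ^ j := h
  wlog hij : i < j generalizing i j
  · exact this j i hne.symm h.symm (by omega)
  obtain ⟨d, hd⟩ : ∃ d, j = i + d := ⟨j - i, by omega⟩
  have hper : ∀ m, i ≤ m → ∀ l, x ^ (m + l * d) = x ^ m := by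
    intro m hm l
    induction l with
    | zero => simp
    | succ l ih =>
      obtain ⟨e, rfl⟩ : ∃ e, m = i + e := ⟨m - i, by omega⟩
      rw [show i + e + (l + 1) * d = (i + d) + (e + l * d) by ring, pow_add, ← hd, ← h, ← pow_add,
        show i + (e + l * d) = i + e + l * d by ring, ih]
  have hd0 : 0 < d := by omega
  refine ⟨(i + 1) * d, Nat.mul_pos (by omega) hd0, ?_⟩
  rw [← pow_add, hper _ (by nlinarith) (i + 1)]

theorem common_kernel {S : Finset (Matrix (Fin n) (Fin n) F)} (hn : 0 < n)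
    (hcomm : ∀ a ∈ S, ∀ b ∈ S, a * b = b * a) (hnil : ∀ a ∈ S, IsNilpotent a) :
    ∃ v : Fin n → F, v ≠ 0 ∧ ∀ a ∈ S, a *ᵥ v = 0 := by
  classical
  induction S using Finset.induction with
  | empty =>
    refine ⟨fun _ => 1, fun h => ?_, by simp⟩
    exact one_ne_zero (congrFun h ⟨0, hn⟩)
  | insert a S ha ih =>
    obtain ⟨v, hv, hS⟩ := ih (fun x hx y hy => hcomm x (Finset.mem_insert_of_mem hx) y
      (Finset.mem_insert_of_mem hy)) (fun x hx => hnil x (Finset.mem_insert_of_mem hx))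
    obtain ⟨k, hk⟩ := hnil a (Finset.mem_insert_self a S)
    have hex : ∃ j, a ^ j *ᵥ v = 0 := ⟨k, by rw [hk, Matrix.zero_mulVec]⟩
    have h0 : Nat.find hex ≠ 0 := by
      intro h
      have := Nat.find_spec hex
      rw [h, pow_zero, Matrix.one_mulVec] at this
      exact hv this
    obtain ⟨j, hj⟩ := Nat.exists_eq_succ_of_ne_zero h0
    refine ⟨a ^ j *ᵥ v, Nat.find_min hex (by omega), fun b hb => ?_⟩
    rcases Finset.mem_insert.mp hb with rfl | hb'
    · rw [Matrix.mulVec_mulVec, ← pow_succ', ← Nat.succ_eq_add_one, ← hj]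
      exact Nat.find_spec hex
    · have hc : Commute b a := hcomm b hb a (Finset.mem_insert_self a S)
      rw [Matrix.mulVec_mulVec, (hc.pow_right j).eq, ← Matrix.mulVec_mulVec, hS b hb',
        Matrix.mulVec_zero]

theorem map_le_of_forall {A : Matrix (Fin n) (Fin n) F} {W : Submodule F (Fin n → F)}
    (h : ∀ v ∈ W, A *ᵥ v ∈ W) : W.map (Matrix.toLin' A) ≤ W := by
  rintro _ ⟨v, hv, rfl⟩
  rw [Matrix.toLin'_apply]
  exact h v hv

section Prim

variable (G : Subgroup (GL (Fin n) F))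

local notation "ρ" x:max => ((Subtype.val x : GL (Fin n) F) : Matrix (Fin n) (Fin n) F)

variable [Finite F]

/-- A nilpotent element of a commutative `G`-stable set of matrices is zero. -/
theorem nilp_eq_zero (hn : 0 < n) (hirr : Cfsg.Geo.ActsIrreducibly (Cfsg.Geo.matrixSet G))
    (R : Subalgebra F (Matrix (Fin n) (Fin n) F)) (hR : ∀ a ∈ R, ∀ b ∈ R, a * b = b * a)
    (hconj : ∀ g : G, ∀ a ∈ R, (ρ g) * a * (ρ g⁻¹) ∈ R)
    {x : Matrix (Fin n) (Fin n) F} (hx : x ∈ R) (hnil : IsNilpotent x) : x = 0 := by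
  classical
  have := Fintype.ofFinite F
  let S : Finset (Matrix (Fin n) (Fin n) F) := Finset.univ.filter fun a => a ∈ R ∧ IsNilpotent a
  obtain ⟨v, hv, hS⟩ := common_kernel (S := S) hn
    (fun a ha b hb => hR a (Finset.mem_filter.mp ha).2.1 b (Finset.mem_filter.mp hb).2.1)
    (fun a ha => (Finset.mem_filter.mp ha).2.2)
  let W : Submodule F (Fin n → F) := ⨅ a ∈ S, LinearMap.ker (Matrix.toLin' a)
  have hW : ∀ w, w ∈ W ↔ ∀ a ∈ S, a *ᵥ w = 0 := by
    intro w; simp [W, Submodule.mem_iInf, Matrix.toLin'_apply]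
  have hne : W ≠ ⊥ := fun h => hv ((Submodule.mem_bot F).mp (h ▸ (hW v).mpr hS))
  have htop : W = ⊤ := by
    refine (hirr W ?_).resolve_left hne
    rintro _ ⟨g, hg, rfl⟩
    refine map_le_of_forall fun w hw => (hW _).mpr fun a ha => ?_
    obtain ⟨-, haR, k, hk⟩ := Finset.mem_filter.mp ha
    have hb : (ρ (⟨g, hg⟩ : G)⁻¹) * a * (ρ (⟨g, hg⟩ : G)) ∈ S := by
      refine Finset.mem_filter.mpr ⟨Finset.mem_univ _, ?_, k, ?_⟩
      · have := hconj (⟨g, hg⟩ : G)⁻¹ a haR
        rwa [inv_inv] at this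
      · have hu := Units.conj_pow' g a k
        simp only [Subgroup.coe_inv]
        rw [hu, hk, Matrix.mul_zero, Matrix.zero_mul]
    have := (hW w).mp hw _ hb
    have h2 := congrArg (fun u => (g : Matrix (Fin n) (Fin n) F) *ᵥ u) this
    simp only [Matrix.mulVec_mulVec, Matrix.mulVec_zero, Subgroup.coe_inv, ← mul_assoc,
      Units.mul_inv, Matrix.one_mul] at h2
    rw [Matrix.mulVec_mulVec]
    exact h2
  ext i j
  have := (hW (Pi.single j 1)).mp (htop ▸ Submodule.mem_top) x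
    (Finset.mem_filter.mpr ⟨Finset.mem_univ _, hx, hnil⟩)
  have := congrFun this i
  rw [Matrix.mulVec_single_one] at this
  simpa using this

/-- Primitivity: a commutative `G`-stable algebra of matrices has no non-trivial idempotent. -/
theorem idem_trivial (hirr : Cfsg.Geo.ActsIrreducibly (Cfsg.Geo.matrixSet G))
    (hprim : ∀ (m t : ℕ) (D : Fin t → Submodule F (Fin n → F)), 2 ≤ t →
      Cfsg.Geo.IsMDecomposition m D → ¬ G ≤ Cfsg.Geo.decompositionStabilizer D)
    (R : Subalgebra F (Matrix (Fin n) (Fin n) F)) (hR : ∀ a ∈ R, ∀ b ∈ R, a * b = b * a)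
    (hconj : ∀ g : G, ∀ a ∈ R, (ρ g) * a * (ρ g⁻¹) ∈ R)
    {e' : Matrix (Fin n) (Fin n) F} (he' : e' ∈ R) (hee' : e' * e' = e') (h0' : e' ≠ 0) :
    e' = 1 := by
  classical
  have := Fintype.ofFinite F
  by_contra h1'
  let rk : Matrix (Fin n) (Fin n) F → ℕ := fun a =>
    Module.finrank F (LinearMap.range (Matrix.toLin' a))
  have hrange : ∀ {a : Matrix (Fin n) (Fin n) F}, a * a = a → ∀ {v : Fin n → F},
      v ∈ LinearMap.range (Matrix.toLin' a) → a *ᵥ v = v := by
    rintro a ha v ⟨w, rfl⟩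
    rw [Matrix.toLin'_apply, Matrix.mulVec_mulVec, ha]
  have hext : ∀ {a b : Matrix (Fin n) (Fin n) F}, (∀ v, a *ᵥ v = b *ᵥ v) → a = b :=
    fun h => Matrix.toLin'.injective (LinearMap.ext fun v => by simpa [Matrix.toLin'_apply] using h v)
  have hfull : ∀ {a : Matrix (Fin n) (Fin n) F}, a * a = a →
      LinearMap.range (Matrix.toLin' a) = ⊤ → a = 1 := by
    intro a ha h
    refine hext fun v => ?_
    rw [Matrix.one_mulVec]
    exact hrange ha (h ▸ Submodule.mem_top)
  let E : Finset (Matrix (Fin n) (Fin n) F) :=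
    Finset.univ.filter fun a => a ∈ R ∧ a * a = a ∧ a ≠ 0
  obtain ⟨e, he, hmin⟩ := E.exists_min_image rk ⟨e', by simp [E, he', hee', h0']⟩
  obtain ⟨-, heR, hee, he0⟩ := Finset.mem_filter.mp he
  have he1 : e ≠ 1 := by
    rintro rfl
    have h1 := hmin e' (by simp [E, he', hee', h0'])
    refine h1' (hfull hee' (Submodule.eq_top_of_finrank_eq (le_antisymm (Submodule.finrank_le _) ?_)))
    refine le_trans (le_of_eq ?_) h1
    have h : LinearMap.range (Matrix.toLin' (1 : Matrix (Fin n) (Fin n) F)) = ⊤ :=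
      LinearMap.range_eq_top.mpr fun v => ⟨v, by simp⟩
    show _ = Module.finrank F _
    rw [h, finrank_top]
  have horth : ∀ a b : Matrix (Fin n) (Fin n) F, a ∈ R → b ∈ R → a * a = a → b * b = b →
      rk a = rk e → rk b = rk e → a ≠ b → a * b = 0 := by
    intro a b haR hbR ha hb hra hrb hab
    by_contra hne
    have hab' : (a * b) * (a * b) = a * b := by
      calc (a * b) * (a * b) = a * (b * a) * b := by noncomm_ring
        _ = a * (a * b) * b := by rw [hR b hbR a haR]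
        _ = (a * a) * (b * b) := by noncomm_ring
        _ = a * b := by rw [ha, hb]
    have key : ∀ a b : Matrix (Fin n) (Fin n) F, a * a = a → (a * b) * (a * b) = a * b →
        a * b ∈ R → a * b ≠ 0 → rk a = rk e → a * b * a = a := by
      intro a b ha hab hR' hne' hr
      have hle : LinearMap.range (Matrix.toLin' (a * b)) ≤ LinearMap.range (Matrix.toLin' a) := by
        rw [Matrix.toLin'_mul]; exact LinearMap.range_comp_le_range _ _
      have heq := Submodule.eq_of_le_of_finrank_le hle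
        (by rw [show Module.finrank F _ = rk a from rfl, hr]; exact hmin _ (by simp [E, hR', hab, hne']))
      refine hext fun v => ?_
      rw [← Matrix.mulVec_mulVec]
      exact hrange hab (heq ▸ ⟨v, Matrix.toLin'_apply a v⟩)
    have k1 := key a b ha hab' (R.mul_mem haR hbR) hne hra
    have k2 := key b a hb (by rw [hR b hbR a haR]; exact hab') (R.mul_mem hbR haR)
      (by rw [hR b hbR a haR]; exact hne) hrb
    apply hab
    calc a = a * b * a := k1.symm
      _ = a * (b * a) := mul_assoc _ _ _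
      _ = a * a * b := by rw [hR b hbR a haR, mul_assoc]
      _ = a * b := by rw [ha]
      _ = b * a := hR a haR b hbR
      _ = b * b * a := by rw [hb]
      _ = b * (a * b) := by rw [mul_assoc, hR b hbR a haR]
      _ = b * a * b := (mul_assoc _ _ _).symm
      _ = b := k2
  have hinv : ∀ g : G, (ρ g⁻¹) * (ρ g) = 1 ∧ (ρ g) * (ρ g⁻¹) = 1 := fun g =>
    ⟨by simp [← Units.val_mul], by simp [← Units.val_mul]⟩
  let c : G → Matrix (Fin n) (Fin n) F → Matrix (Fin n) (Fin n) F := fun g a => (ρ g) * a * (ρ g⁻¹)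
  have hcc : ∀ (g h : G) a, c g (c h a) = c (g * h) a := by
    intro g h a
    simp only [c, mul_inv_rev, Subgroup.coe_mul, Units.val_mul, mul_assoc]
  have hc1 : ∀ a, c 1 a = a := fun a => by simp [c]
  have hci : ∀ (g : G) a, c g⁻¹ (c g a) = a := fun g a => by rw [hcc, inv_mul_cancel, hc1]
  have hci' : ∀ (g : G) a, c g (c g⁻¹ a) = a := fun g a => by rw [hcc, mul_inv_cancel, hc1]
  have hcr : ∀ (g : G) a, LinearMap.range (Matrix.toLin' (c g a)) =
      (LinearMap.range (Matrix.toLin' a)).map (Matrix.toLin' (ρ g)) := by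
    intro g a
    have hsurj : LinearMap.range (Matrix.toLin' (ρ g⁻¹)) = ⊤ := by
      rw [LinearMap.range_eq_top]
      intro v
      exact ⟨(ρ g) *ᵥ v, by rw [Matrix.toLin'_apply, Matrix.mulVec_mulVec, (hinv g).1,
        Matrix.one_mulVec]⟩
    rw [show c g a = (ρ g) * a * (ρ g⁻¹) from rfl, Matrix.toLin'_mul,
      LinearMap.range_comp_of_range_eq_top _ hsurj, Matrix.toLin'_mul, LinearMap.range_comp]
  have hcrk : ∀ (g : G) a, rk (c g a) = rk a := by
    intro g a
    show Module.finrank F _ = _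
    rw [hcr]
    refine (Submodule.equivMapOfInjective _ ?_ _).finrank_eq.symm
    intro u v huv
    have := congrArg (fun w => (ρ g⁻¹) *ᵥ w) huv
    simpa only [Matrix.toLin'_apply, Matrix.mulVec_mulVec, (hinv g).1, Matrix.one_mulVec] using this
  let O : Finset (Matrix (Fin n) (Fin n) F) := (Finset.univ : Finset G).image fun g => c g e
  have hO : ∀ a ∈ O, a ∈ R ∧ a * a = a ∧ rk a = rk e := by
    intro a ha
    obtain ⟨g, -, rfl⟩ := Finset.mem_image.mp ha
    refine ⟨hconj g e heR, ?_, hcrk g e⟩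
    calc c g e * c g e = (ρ g) * (e * ((ρ g⁻¹) * (ρ g)) * e) * (ρ g⁻¹) := by
          simp only [c]; noncomm_ring
      _ = c g e := by rw [(hinv g).1, mul_one, hee]
  have hOg : ∀ (g : G), ∀ a ∈ O, c g a ∈ O := by
    intro g a ha
    obtain ⟨h, -, rfl⟩ := Finset.mem_image.mp ha
    exact Finset.mem_image.mpr ⟨g * h, Finset.mem_univ _, (hcc g h e).symm⟩
  have heO : e ∈ O := Finset.mem_image.mpr ⟨1, Finset.mem_univ _, by simp [c]⟩
  have hmulS : ∀ a ∈ O, a * (∑ b ∈ O, b) = a := by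
    intro a ha
    rw [Finset.mul_sum, Finset.sum_eq_single a (fun b hb hba => horth a b (hO a ha).1 (hO b hb).1
      (hO a ha).2.1 (hO b hb).2.1 (hO a ha).2.2 (hO b hb).2.2 (Ne.symm hba)) (fun h => absurd ha h)]
    exact (hO a ha).2.1
  have hSR : (∑ b ∈ O, b) ∈ R := Subalgebra.sum_mem R fun b hb => (hO b hb).1
  have hS1 : (∑ b ∈ O, b) = 1 := by
    set s := ∑ b ∈ O, b with hs
    have hss : s * s = s := by
      nth_rewrite 1 [hs]
      rw [Finset.sum_mul]
      exact Finset.sum_congr rfl fun a ha => hmulS a ha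
    refine hfull hss ((hirr _ ?_).resolve_left ?_)
    · rintro _ ⟨g, hg, rfl⟩
      have hgs : c ⟨g, hg⟩ s = s := by
        rw [hs]
        simp only [c, Finset.mul_sum, Finset.sum_mul]
        refine Finset.sum_nbij' (fun a => c ⟨g, hg⟩ a) (fun a => c (⟨g, hg⟩ : G)⁻¹ a) ?_ ?_ ?_ ?_ ?_
        · exact fun a ha => hOg _ a ha
        · exact fun a ha => hOg _ a ha
        · exact fun a _ => hci _ a
        · exact fun a _ => hci' _ a
        · intro a _; rfl
      show (LinearMap.range (Matrix.toLin' s)).map (Matrix.toLin' (g : Matrix (Fin n) (Fin n) F)) ≤ _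
      have := hcr ⟨g, hg⟩ s
      rw [hgs] at this
      exact this.ge
    · intro h
      rw [LinearMap.range_eq_bot, LinearEquiv.map_eq_zero_iff] at h
      have := hmulS e heO
      rw [h, Matrix.mul_zero] at this
      exact he0 this.symm
  let ε : Fin O.card ≃ {a // a ∈ O} := O.equivFin.symm
  let D : Fin O.card → Submodule F (Fin n → F) := fun i =>
    LinearMap.range (Matrix.toLin' (ε i).1)
  have ht : 2 ≤ O.card := by
    by_contra hlt
    have hO1 : O = {e} := Finset.eq_singleton_iff_unique_mem.mpr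
      ⟨heO, fun a ha => Finset.card_le_one.mp (by omega) a ha e heO⟩
    rw [hO1, Finset.sum_singleton] at hS1
    exact he1 hS1
  refine hprim (rk e) O.card D ht ⟨ht, ?_, fun i => (hO _ (ε i).2).2.2, ?_, ?_⟩ ?_
  · refine Nat.pos_of_ne_zero fun h => he0 ?_
    have h2 := Submodule.finrank_eq_zero.mp h
    rwa [LinearMap.range_eq_bot, LinearEquiv.map_eq_zero_iff] at h2
  · rw [iSupIndep_def]
    intro i
    rw [Submodule.disjoint_def]
    intro v hv hv'
    have hker : (⨆ (j) (_ : j ≠ i), D j) ≤ LinearMap.ker (Matrix.toLin' (ε i).1) := by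
      refine iSup₂_le fun j hj => ?_
      rintro _ ⟨w, rfl⟩
      have hne : (ε i).1 ≠ (ε j).1 := fun h => hj (ε.injective (Subtype.ext h)).symm
      rw [LinearMap.mem_ker, Matrix.toLin'_apply, Matrix.toLin'_apply, Matrix.mulVec_mulVec,
        horth _ _ (hO _ (ε i).2).1 (hO _ (ε j).2).1 (hO _ (ε i).2).2.1 (hO _ (ε j).2).2.1
          (hO _ (ε i).2).2.2 (hO _ (ε j).2).2.2 hne, Matrix.zero_mulVec]
    have h1 := hrange (hO _ (ε i).2).2.1 hv
    have h2 := LinearMap.mem_ker.mp (hker hv')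
    rw [Matrix.toLin'_apply, h1] at h2
    exact h2
  · refine eq_top_iff.mpr fun v _ => ?_
    have hv : v = ∑ b ∈ O, b *ᵥ v := by rw [← Matrix.sum_mulVec, hS1, Matrix.one_mulVec]
    rw [hv]
    refine Submodule.sum_mem _ fun b hb => Submodule.mem_iSup_of_mem (ε.symm ⟨b, hb⟩) ?_
    exact ⟨v, by rw [Equiv.apply_symm_apply, Matrix.toLin'_apply]⟩
  · intro g hg
    let σ : {a // a ∈ O} ≃ {a // a ∈ O} :=
      { toFun := fun a => ⟨c ⟨g, hg⟩ a.1, hOg _ a.1 a.2⟩
        invFun := fun a => ⟨c (⟨g, hg⟩ : G)⁻¹ a.1, hOg _ a.1 a.2⟩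
        left_inv := fun a => Subtype.ext (hci _ a.1)
        right_inv := fun a => Subtype.ext (hci' _ a.1) }
    refine ⟨(ε.trans σ).trans ε.symm, fun i => ?_⟩
    show _ = LinearMap.range (Matrix.toLin' (ε (ε.symm (σ (ε i)))).1)
    rw [Equiv.apply_symm_apply]
    exact (hcr ⟨g, hg⟩ (ε i).1).symm

/-- In an irreducible primitive group, abelian normal subgroups act without fixed vectors. -/
theorem abelian_normal_fpf (hn : 0 < n) (hirr : Cfsg.Geo.ActsIrreducibly (Cfsg.Geo.matrixSet G))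
    (hprim : ∀ (m t : ℕ) (D : Fin t → Submodule F (Fin n → F)), 2 ≤ t →
      Cfsg.Geo.IsMDecomposition m D → ¬ G ≤ Cfsg.Geo.decompositionStabilizer D)
    (A : Subgroup G) [A.Normal] (hA : ∀ a ∈ A, ∀ b ∈ A, a * b = b * a) {a : G} (ha : a ∈ A)
    (ha1 : a ≠ 1) : fixSp (ρ a) = ⊥ := by
  classical
  have := Fintype.ofFinite F
  let R : Subalgebra F (Matrix (Fin n) (Fin n) F) :=
    Algebra.adjoin F ((fun x : G => ρ x) '' (A : Set G))
  have hAR : ∀ x ∈ A, (ρ x) ∈ R := fun x hx => Algebra.subset_adjoin ⟨x, hx, rfl⟩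
  have hR : ∀ x ∈ R, ∀ y ∈ R, x * y = y * x := by
    intro x hx y hy
    refine (Algebra.commute_of_mem_adjoin_of_forall_mem_commute hy fun z hz => ?_).eq
    obtain ⟨z, hz, rfl⟩ := hz
    refine (Algebra.commute_of_mem_adjoin_of_forall_mem_commute hx fun w hw => ?_).symm
    obtain ⟨w, hw, rfl⟩ := hw
    show (ρ z) * (ρ w) = (ρ w) * (ρ z)
    rw [← Units.val_mul, ← Subgroup.coe_mul, hA z hz w hw, Subgroup.coe_mul, Units.val_mul]
  have hconj : ∀ g : G, ∀ x ∈ R, (ρ g) * x * (ρ g⁻¹) ∈ R := by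
    intro g x hx
    induction hx using Algebra.adjoin_induction with
    | mem z hz =>
      obtain ⟨z, hz, rfl⟩ := hz
      have := hAR _ (Subgroup.Normal.conj_mem ‹A.Normal› z hz g)
      simpa only [Subgroup.coe_mul, Units.val_mul] using this
    | algebraMap r =>
      rw [← Algebra.commutes, mul_assoc, ← Units.val_mul, ← Subgroup.coe_mul, mul_inv_cancel,
        Subgroup.coe_one, Units.val_one, mul_one]
      exact R.algebraMap_mem r
    | add u v hu hv ihu ihv => rw [mul_add, add_mul]; exact R.add_mem ihu ihv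
    | mul u v hu hv ihu ihv =>
      have h1 : (ρ g⁻¹) * (ρ g) = 1 := by simp [← Units.val_mul]
      rw [show (ρ g) * (u * v) * (ρ g⁻¹) =
        ((ρ g) * u * (ρ g⁻¹)) * ((ρ g) * v * (ρ g⁻¹)) by
          rw [show ((ρ g) * u * (ρ g⁻¹)) * ((ρ g) * v * (ρ g⁻¹)) =
            (ρ g) * u * ((ρ g⁻¹) * (ρ g)) * v * (ρ g⁻¹) by noncomm_ring, h1]
          noncomm_ring]
      exact R.mul_mem ihu ihv
  by_contra hne
  obtain ⟨v, hv, hv0⟩ := Submodule.exists_mem_ne_zero_of_ne_bot hne
  set x := (ρ a) - 1 with hx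
  have hxR : x ∈ R := R.sub_mem (hAR a ha) R.one_mem
  have hxv : x *ᵥ v = 0 := by
    rw [hx, Matrix.sub_mulVec, Matrix.one_mulVec, mem_fixSp.mp hv, sub_self]
  obtain ⟨k, hk, hkk⟩ := exists_idem_pow x
  by_cases h0 : x ^ k = 0
  · have hx0 := nilp_eq_zero G hn hirr R hR hconj hxR ⟨k, h0⟩
    exact ha1 (Subtype.ext (Units.ext (by rw [hx, sub_eq_zero] at hx0; exact hx0)))
  · have h1 := idem_trivial G hirr hprim R hR hconj (R.pow_mem hxR k) hkk h0
    obtain ⟨j, rfl⟩ := Nat.exists_eq_succ_of_ne_zero hk.ne'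
    have := congrArg (fun M => M *ᵥ v) h1
    simp only [pow_succ, ← Matrix.mulVec_mulVec, hxv, Matrix.mulVec_zero, Matrix.one_mulVec] at this
    exact hv0 this.symm

/-- The fixed space of a commutator contains two translates. -/
theorem fix_commutator (g x : G) :
    2 * Module.finrank F (fixSp (ρ g)) ≤
      n + Module.finrank F (fixSp (ρ (g * x * g⁻¹ * x⁻¹))) := by
  have hinvv : ∀ (y : G) (v : Fin n → F), (ρ y⁻¹) *ᵥ ((ρ y) *ᵥ v) = v := fun y v => by
    rw [Matrix.mulVec_mulVec, ← Units.val_mul, ← Subgroup.coe_mul, inv_mul_cancel,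
      Subgroup.coe_one, Units.val_one, Matrix.one_mulVec]
  set U := fixSp (ρ g)
  set W := U.map (Matrix.toLin' (ρ x))
  have hW : Module.finrank F W = Module.finrank F U := by
    refine (Submodule.equivMapOfInjective _ ?_ _).finrank_eq.symm
    intro u v huv
    simp only [Matrix.toLin'_apply] at huv
    rw [← hinvv x u, huv, hinvv]
  have hle : U ⊓ W ≤ fixSp (ρ (g * x * g⁻¹ * x⁻¹)) := by
    rintro v ⟨hvU, u, hu, rfl⟩
    have hg := mem_fixSp.mp (show u ∈ fixSp (ρ g) from hu)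
    have hgv := mem_fixSp.mp (show _ ∈ fixSp (ρ g) from hvU)
    simp only [Matrix.toLin'_apply] at hgv ⊢
    have hgi : (ρ g⁻¹) *ᵥ u = u := by
      nth_rewrite 1 [← hg]
      exact hinvv g u
    rw [mem_fixSp, Subgroup.coe_mul, Units.val_mul, Subgroup.coe_mul, Units.val_mul,
      Subgroup.coe_mul, Units.val_mul, ← Matrix.mulVec_mulVec, ← Matrix.mulVec_mulVec,
      ← Matrix.mulVec_mulVec, hinvv, hgi, hgv]
  have h1 := Submodule.finrank_sup_add_finrank_inf_eq U W
  have h2 := Submodule.finrank_mono hle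
  have h3 : Module.finrank F ↥(U ⊔ W) ≤ n :=
    le_trans (Submodule.finrank_le _) (by simp)
  omega

end Prim

/-- A finite soluble group has a normal subgroup of class at most 2 containing its centraliser. -/
theorem exists_classTwo (X : Type*) [Group X] [Finite X] [Group.IsSolvable X] :
    ∃ N : Subgroup X, N.Normal ∧
      (∀ x ∈ N, ∀ y ∈ N, x * y * x⁻¹ * y⁻¹ ∈ Subgroup.centralizer (N : Set X)) ∧
      Subgroup.centralizer (N : Set X) ≤ N := by
  classical
  let P : Subgroup X → Prop := fun N => N.Normal ∧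
    ∀ x ∈ N, ∀ y ∈ N, x * y * x⁻¹ * y⁻¹ ∈ Subgroup.centralizer (N : Set X)
  have hbot : P ⊥ := ⟨inferInstance, fun x hx y hy => by
    rw [Subgroup.mem_bot] at hx hy; subst hx; subst hy; simp⟩
  obtain ⟨N, hN⟩ := Set.Finite.exists_maximal (s := {N | P N}) (Set.toFinite _) ⟨⊥, hbot⟩
  obtain ⟨hNn, hN2⟩ := hN.prop
  refine ⟨N, hNn, hN2, ?_⟩
  by_contra hnle
  set C := Subgroup.centralizer (N : Set X) with hC
  have hCn : C.Normal := Subgroup.normal_centralizer
  obtain ⟨l, hl⟩ := (Group.isSolvable_def X).mp inferInstance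
  have hex : ∃ k, C ⊓ derivedSeries X k ≤ N := ⟨l, by rw [hl]; simp⟩
  have hk0 : Nat.find hex ≠ 0 := by
    intro h
    have := Nat.find_spec hex
    rw [h, derivedSeries_zero, inf_top_eq] at this
    exact hnle this
  obtain ⟨k, hk⟩ := Nat.exists_eq_succ_of_ne_zero hk0
  set M := C ⊓ derivedSeries X k with hM
  have hMn : M.Normal := Subgroup.normal_inf_normal _ _
  have hMN : ¬ M ≤ N := Nat.find_min hex (by omega)
  have hMM : ∀ x ∈ M, ∀ y ∈ M, x * y * x⁻¹ * y⁻¹ ∈ C ⊓ N := by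
    intro x hx y hy
    have h1 : x * y * x⁻¹ * y⁻¹ ∈ C :=
      C.mul_mem (C.mul_mem (C.mul_mem hx.1 hy.1) (C.inv_mem hx.1)) (C.inv_mem hy.1)
    refine ⟨h1, ?_⟩
    have h2 := Nat.find_spec hex
    rw [hk] at h2
    refine h2 ⟨h1, ?_⟩
    rw [derivedSeries_succ]
    exact Subgroup.commutator_mem_commutator hx.2 hy.2
  have hcomm : ∀ u ∈ N, ∀ v ∈ C, u * v = v * u := fun u hu v hv =>
    Subgroup.mem_centralizer_iff.mp hv u hu
  have hP : P (N ⊔ M) := by
    refine ⟨Subgroup.sup_normal _ _, fun x hx y hy => ?_⟩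
    obtain ⟨u, hu, m, hm, rfl⟩ := Subgroup.mem_sup_of_normal_right.mp hx
    obtain ⟨u', hu', m', hm', rfl⟩ := Subgroup.mem_sup_of_normal_right.mp hy
    have e1 : u * m * (u' * m') * (u * m)⁻¹ * (u' * m')⁻¹ =
        (u * u' * u⁻¹ * u'⁻¹) * (m * m' * m⁻¹ * m'⁻¹) := by
      have c1 : Commute u' m := hcomm u' hu' m hm.1
      have c2 : Commute u m' := hcomm u hu m' hm'.1
      have c3 : Commute u m := hcomm u hu m hm.1
      have c4 : Commute u' m' := hcomm u' hu' m' hm'.1
      have c5 : Commute u' (m * m' * m⁻¹) :=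
        (c1.mul_right c4).mul_right c1.inv_right
      calc u * m * (u' * m') * (u * m)⁻¹ * (u' * m')⁻¹
          = u * (m * u') * m' * (m⁻¹ * u⁻¹) * (m'⁻¹ * u'⁻¹) := by group
        _ = u * u' * ((m * m' * m⁻¹) * u⁻¹) * (m'⁻¹ * u'⁻¹) := by rw [← c1.eq]; group
        _ = u * u' * u⁻¹ * (m * m' * m⁻¹) * (m'⁻¹ * u'⁻¹) := by
            rw [((c3.mul_right c2).mul_right c3.inv_right).inv_left.eq.symm]; group
        _ = u * u' * u⁻¹ * ((m * m' * m⁻¹ * m'⁻¹) * u'⁻¹) := by group
        _ = u * u' * u⁻¹ * (u'⁻¹ * (m * m' * m⁻¹ * m'⁻¹)) := by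
            rw [(c5.mul_right c4.inv_right).inv_left.eq]
        _ = _ := by group
    rw [e1]
    have hu2 := hN2 u hu u' hu'
    have hm2 := hMM m hm m' hm'
    have huN : u * u' * u⁻¹ * u'⁻¹ ∈ N :=
      N.mul_mem (N.mul_mem (N.mul_mem hu hu') (N.inv_mem hu)) (N.inv_mem hu')
    refine mul_mem ?_ ?_ <;> rw [Subgroup.mem_centralizer_iff] <;> intro z hz <;>
      obtain ⟨z₁, hz₁, z₂, hz₂, rfl⟩ := Subgroup.mem_sup_of_normal_right.mp hz
    · exact ((show Commute z₁ _ from hcomm _ hz₁ _ hu2).mul_left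
        (show Commute z₂ _ from (hcomm _ huN _ hz₂.1).symm)).eq
    · exact ((show Commute z₁ _ from hcomm _ hz₁ _ hm2.1).mul_left
        (show Commute z₂ _ from (hcomm _ hm2.2 _ hz₂.1).symm)).eq
  exact hMN (le_sup_right.trans (hN.le_of_ge hP le_sup_left))

/-- Fixed-point spaces in primitive soluble linear groups. Let F be a finite field and G a soluble subgroup of GL_n(F) that acts irreducibly on F^n and primitively (G preserves no decomposition of F^n into two or more independent subspaces of equal dimension). Then every non-identity element g of G has fixed-point space {v : g v = v} of dimension at most 3n/4. -/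
theorem result {F : Type*} [Field F] [Fintype F] {n : ℕ} (G : Subgroup (Matrix.GeneralLinearGroup (Fin n) F)) (hsol : IsSolvable G) (hirr : Cfsg.Geo.ActsIrreducibly (Cfsg.Geo.matrixSet G)) (hprim : ∀ (m t : ℕ) (D : Fin t → Submodule F (Fin n → F)), 2 ≤ t → Cfsg.Geo.IsMDecomposition m D → ¬ G ≤ Cfsg.Geo.decompositionStabilizer D) (g : Matrix.GeneralLinearGroup (Fin n) F) (hg : g ∈ G) (hg1 : g ≠ 1) :
    4 * Module.finrank F (Module.End.eigenspace (Matrix.toLin' (g : Matrix (Fin n) (Fin n) F)) 1) ≤ 3 * n := by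
  rcases Nat.eq_zero_or_pos n with rfl | hn
  · exact absurd (Units.ext (Subsingleton.elim _ _)) hg1
  haveI : Group.IsSolvable G := hsol
  obtain ⟨N, hN, hN2, hCN⟩ := exists_classTwo G
  set C := Subgroup.centralizer (N : Set G) with hC
  have hZn : C.Normal := Subgroup.normal_centralizer
  have hZab : ∀ a ∈ C, ∀ b ∈ C, a * b = b * a := fun a ha b hb =>
    Subgroup.mem_centralizer_iff.mp hb a (hCN ha)
  have hfpf : ∀ c : G, c ∈ C → c ≠ 1 →
      Module.finrank F (fixSp (((c : GL (Fin n) F)) : Matrix (Fin n) (Fin n) F)) = 0 := by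
    intro c hc hc1
    rw [abelian_normal_fpf G hn hirr hprim C hZab hc hc1, finrank_bot]
  have hNbound : ∀ c : G, c ∈ N → c ≠ 1 →
      2 * Module.finrank F (fixSp (((c : GL (Fin n) F)) : Matrix (Fin n) (Fin n) F)) ≤ n := by
    intro c hc hc1
    by_cases hcC : c ∈ C
    · rw [hfpf c hcC hc1]; omega
    obtain ⟨x, hx, hne⟩ : ∃ x ∈ N, x * c ≠ c * x := by
      rw [hC, Subgroup.mem_centralizer_iff] at hcC
      push Not at hcC
      exact hcC
    have h1 := fix_commutator G c x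
    rw [hfpf _ (hN2 c hc x hx) (fun h => hne ?_)] at h1
    · omega
    · rw [mul_inv_eq_one, mul_inv_eq_iff_eq_mul] at h
      exact h.symm
  show 4 * Module.finrank F (fixSp (g : Matrix (Fin n) (Fin n) F)) ≤ 3 * n
  by_cases hgN : (⟨g, hg⟩ : G) ∈ N
  · have := hNbound ⟨g, hg⟩ hgN (fun h => hg1 (congrArg Subtype.val h))
    simp only at this
    omega
  have hgC : (⟨g, hg⟩ : G) ∉ C := fun h => hgN (hCN h)
  obtain ⟨x, hx, hne⟩ : ∃ x ∈ N, x * (⟨g, hg⟩ : G) ≠ ⟨g, hg⟩ * x := by
    rw [hC, Subgroup.mem_centralizer_iff] at hgC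
    push Not at hgC
    exact hgC
  have h1 := fix_commutator G ⟨g, hg⟩ x
  have h2 := hNbound ((⟨g, hg⟩ : G) * x * (⟨g, hg⟩ : G)⁻¹ * x⁻¹)
    (N.mul_mem (hN.conj_mem x hx _) (N.inv_mem hx)) (fun h => hne ?_)
  · simp only at h1 h2
    omega
  · rw [mul_inv_eq_one, mul_inv_eq_iff_eq_mul] at h
    exact h.symm

end Cfsg.Agent.S5876
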