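import Cfsg.Statements.S0002
import Cfsg.Agent.Lib.Coprime.Conjugacy
import Cfsg.Agent.Lib.Core.Smul

set_option autoImplicit false
open Pointwise
open Cfsg

namespace Cfsg.Agent.S0002

/-- Schur's Theorem, conjugacy part, for an abelian normal subgroup of coprime order and index: any two complements are conjugate by an element of the normal subgroup. -/
theorem result {G : Type*} [Group G] [Finite G] (A : Subgroup G) [A.Normal] [IsMulCommutative A]
    (hA : (Nat.card A).Coprime A.index)
    (H K : Subgroup G) (hH : Subgroup.IsComplement' A H) (hK : Subgroup.IsComplement' A K) :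
    ∃ a ∈ A, MulAut.conj a • H = K := by
  have hHc : Nat.card H = A.index := (hH.symm.index_eq_card).symm
  have hKc : Nat.card K = A.index := (hK.symm.index_eq_card).symm
  have hcop : (Nat.card H).Coprime (Nat.card A) := by rw [hHc]; exact hA.symm
  have hsol : Group.IsSolvable A := Group.isSolvable_of_comm fun a b => mul_comm' a b
  obtain ⟨n, hnA, hn⟩ := Cfsg.Lib.Coprime.exists_conj_of_coprime A H K Subgroup.le_normalizer_of_normal
    hcop (Or.inr hsol) (by rw [hH.sup_eq_top]; exact le_top) (hKc.trans hHc.symm)
  exact ⟨n, hnA, hn.symm⟩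

end Cfsg.Agent.S0002
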