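import Cfsg.Statements.S0018
import Cfsg.Agent.S0017
import Cfsg.Agent.Lib.Core.Cores

set_option autoImplicit false
open Cfsg

namespace Cfsg.Agent.S0018

/-- A finite solvable group whose Sylow p-subgroups are abelian has p-length one: a Sylow p-subgroup together with the largest normal subgroup of order prime to p generates a normal subgroup. -/
theorem result {G : Type*} [Group G] [Finite G] [Group.IsSolvable G]
    (p : ℕ) [Fact p.Prime] (P : Sylow p G) (hP : IsMulCommutative P) :
    ((P : Subgroup G) ⊔ Cfsg.pPrimeCore p G).Normal := by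
  classical
  set K := Cfsg.pPrimeCore p G
  haveI hKn : K.Normal := inferInstanceAs (Cfsg.pPrimeCore p G).Normal
  set f := QuotientGroup.mk' K
  have hf : Function.Surjective f := QuotientGroup.mk'_surjective K
  set P' := P.mapSurjective hf
  have hcomm : ∀ x ∈ (P' : Subgroup (G ⧸ K)), ∀ y ∈ (P' : Subgroup (G ⧸ K)), x * y = y * x := by
    intro x hx y hy
    rw [Sylow.coe_mapSurjective] at hx hy
    obtain ⟨a, ha, rfl⟩ := hx
    obtain ⟨b, hb, rfl⟩ := hy
    rw [← map_mul, ← map_mul]
    exact congrArg f (congrArg Subtype.val (mul_comm' (⟨a, ha⟩ : (P : Subgroup G)) ⟨b, hb⟩))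
  have hcore : Cfsg.pPrimeCore p (G ⧸ K) = ⊥ := Cfsg.Lib.Core.pPrimeCore_quotient_eq_bot
  have hO : Cfsg.pCore p (G ⧸ K) ≤ P' := Cfsg.Lib.Core.pCore_le_sylow P'
  have hle : (P' : Subgroup (G ⧸ K)) ≤ Cfsg.pCore p (G ⧸ K) :=
    le_trans (fun x hx => Subgroup.mem_centralizer_iff.2 fun y hy => hcomm y (hO hy) x hx)
      (Cfsg.Agent.S0017.result p hcore)
  have heq : Cfsg.pCore p (G ⧸ K) = (P : Subgroup G).map f := by
    rw [← Sylow.coe_mapSurjective hf]; exact le_antisymm hO hle
  have hn : (Cfsg.pCore p (G ⧸ K)).Normal := inferInstance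
  rw [heq] at hn
  have := hn.comap f
  rwa [Subgroup.comap_map_eq, QuotientGroup.ker_mk'] at this

end Cfsg.Agent.S0018
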