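import Cfsg.Statements.S0089
import Cfsg.Agent.Lib.Fusion.Abelian

set_option autoImplicit false
set_option linter.style.haveILetI false
open Cfsg

namespace Cfsg.Agent.S0089

/-- When all Sylow subgroups are abelian, the derived subgroup meets the centre trivially. -/
theorem result {G : Type*} [Group G] [Finite G] (h : ∀ p : ℕ, p.Prime → ∀ P : Sylow p G, IsMulCommutative P) : commutator G ⊓ Subgroup.center G = ⊥ := by
  rw [eq_bot_iff]
  intro x hx
  by_contra hne
  obtain ⟨p, hp, hdvd⟩ := Nat.exists_prime_and_dvd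
    (fun h1 => hne (Subgroup.mem_bot.mpr (orderOf_eq_one_iff.mp h1)) : orderOf x ≠ 1)
  haveI := Fact.mk hp
  set y := x ^ (orderOf x / p) with hy
  have hoy : orderOf y = p := by
    rw [hy, orderOf_pow_orderOf_div (orderOf_pos x).ne' hdvd]
  have hyp : IsPGroup p (Subgroup.zpowers y) :=
    IsPGroup.of_card (n := 1) (by rw [Nat.card_zpowers, hoy, pow_one])
  obtain ⟨P, hP⟩ := hyp.exists_le_sylow
  haveI := h p hp P
  have h1 : y ∈ (P : Subgroup G) ⊓ commutator G ⊓ Subgroup.center G :=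
    ⟨⟨hP (Subgroup.mem_zpowers y), pow_mem hx.1 _⟩, pow_mem hx.2 _⟩
  rw [Cfsg.Lib.Fusion.inf_commutator_inf_center_eq_bot_sylow, Subgroup.mem_bot] at h1
  rw [h1, orderOf_one] at hoy
  exact hp.one_lt.ne hoy

end Cfsg.Agent.S0089
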