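import Cfsg.Statements.S1472
import Cfsg.Agent.Lib.Local.AppC.Final
-- import your own Cfsg.Agent.* helpers here

set_option autoImplicit false
open Cfsg

namespace Cfsg.Agent.S1472

open Cfsg.Lib.Local.AppC

/-- Let p, q be primes with (p^q − 1)/(p − 1) coprime to p − 1, G a finite group, F a field with p ^ q elements, and P, U, Q subgroups of G with: f : G → F bijective from P onto F and additive on P; U normalizing P and acting through ψ : G → F, injective and multiplicative on U with ψ(u) ≠ 0 and f(uxu⁻¹) = ψ(u) f(x); #U · (p − 1) = p^q − 1; Q abelian of order coprime to p, normalized by every x ∈ P with f(x) in the prime field; and some y ∈ Q such that y x y⁻¹ normalizes U for every such x. Then p ≤ q. -/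
theorem result {G : Type*} [Group G] [Finite G] (p q : ℕ) [Fact p.Prime] [Fact q.Prime] (hA : Nat.Coprime ((p ^ q - 1) / (p - 1)) (p - 1))
    (F : Type*) [Field F] [Fintype F] (hF : Fintype.card F = p ^ q) (P U Q : Subgroup G) (f ψ : G → F)
    (hf : Set.BijOn f (P : Set G) Set.univ) (hfadd : ∀ x ∈ P, ∀ z ∈ P, f (x * z) = f x + f z)
    (hUP : U ≤ Subgroup.normalizer (P : Set G)) (hψ : ∀ u ∈ U, ψ u ≠ 0 ∧ ∀ x ∈ P, f (u * x * u⁻¹) = ψ u * f x)
    (hψmul : ∀ u ∈ U, ∀ v ∈ U, ψ (u * v) = ψ u * ψ v) (hψinj : Set.InjOn ψ (U : Set G)) (hUcard : Nat.card U * (p - 1) = p ^ q - 1)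
    (hQ : IsMulCommutative Q) (hQp : (Nat.card Q).Coprime p) (hP0Q : ∀ x ∈ P, f x ^ p = f x → x ∈ Subgroup.normalizer (Q : Set G))
    (y : G) (hy : y ∈ Q) (hP0U : ∀ x ∈ P, f x ^ p = f x → y * x * y⁻¹ ∈ Subgroup.normalizer (U : Set G)) :
    p ≤ q := by
  classical
  have hp : p.Prime := Fact.out
  have hq : q.Prime := Fact.out
  by_contra hpq
  push_neg at hpq
  haveI : CharP F p := charP_of_card_eq_prime_pow hF
  have hn := (geomNat_mul p q).resolve_right hp.ne_zero
  have hp1 : 0 < p - 1 := by have := hp.two_le; omega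
  have hdiv : (p ^ q - 1) / (p - 1) = geomNat p q := by
    rw [show p ^ q - 1 = geomNat p q * (p - 1) by omega, Nat.mul_div_cancel _ hp1]
  rw [hdiv] at hA
  have hq2 : q ≠ 2 := by
    rintro rfl
    have h2 : 2 ∣ p - 1 := by
      have := hp.eq_two_or_odd
      omega
    have hg : geomNat p 2 = 1 + p := by simp [geomNat, Finset.sum_range_succ]
    have h2' : 2 ∣ geomNat p 2 := by
      rw [hg]
      have := hp.eq_two_or_odd
      omega
    have := hA ▸ Nat.dvd_gcd h2' h2
    omega
  have h5 : 5 ≤ p := by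
    have := hq.two_le
    have h4 : p ≠ 4 := fun e => by rw [e] at hp; norm_num at hp
    omega
  -- the translations
  have hf1 : f 1 = 0 := by simpa using hfadd 1 P.one_mem 1 P.one_mem
  let e : P ≃* Multiplicative F := MulEquiv.ofBijective
    ({ toFun := fun x => Multiplicative.ofAdd (f (x : G))
       map_one' := by simp [hf1]
       map_mul' := fun x z => by simp [hfadd x x.2 z z.2] } : P →* Multiplicative F)
    ⟨fun x z h => Subtype.ext (hf.injOn x.2 z.2 (Multiplicative.ofAdd.injective h)), fun v => by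
      obtain ⟨x, hx, hxv⟩ := hf.surjOn (Set.mem_univ (Multiplicative.toAdd v))
      exact ⟨⟨x, hx⟩, by simp [hxv]⟩⟩
  set fi : Multiplicative F →* G := P.subtype.comp e.symm.toMonoidHom
  have hfi_mem : ∀ v, fi v ∈ P := fun v => (e.symm v).2
  have hf_fi : ∀ v, f (fi (Multiplicative.ofAdd v)) = v := fun v =>
    Multiplicative.ofAdd.injective (e.apply_symm_apply (Multiplicative.ofAdd v))
  have hfi_eq : ∀ x ∈ P, ∀ v, f x = v → x = fi (Multiplicative.ofAdd v) := fun x hx v hv =>
    hf.injOn hx (hfi_mem _) (by rw [hf_fi, hv])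
  -- the character
  let ψ' : U →* F :=
    { toFun := fun u => ψ (u : G)
      map_one' := by
        have h := hψmul 1 U.one_mem 1 U.one_mem
        rw [mul_one] at h
        exact (mul_eq_left₀ (hψ 1 U.one_mem).1).mp h.symm
      map_mul' := fun u v => hψmul u u.2 v v.2 }
  have hQc : ∀ a ∈ Q, ∀ b ∈ Q, a * b = b * a := fun a ha b hb =>
    congrArg Subtype.val (hQ.is_comm.comm ⟨a, ha⟩ ⟨b, hb⟩)
  set s := fi (Multiplicative.ofAdd 1)
  have hs1 : f s ^ p = f s := by rw [hf_fi, one_pow]
  have hsp : s ^ p = 1 := by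
    rw [← map_pow, ← ofAdd_nsmul, nsmul_eq_mul, mul_one, CharP.cast_eq_zero, ofAdd_zero, map_one]
  obtain ⟨Q', hQ'le, hQ's, hQ'fix, y', hy', hyy'⟩ :=
    exists_fixed_point_free hp Q hQc hQp (hP0Q s (hfi_mem _) hs1) hsp hy
  let c : Cfg p q G F :=
    { fi := fi
      fi_inj := fun v w h => e.symm.injective (Subtype.ext h)
      U := U
      ψ := ψ'
      ψ_inj := fun u v h => Subtype.ext (hψinj u.2 v.2 h)
      conj := fun u v => hfi_eq _ ((Subgroup.mem_normalizer_iff.mp (hUP u.2) _).mp (hfi_mem _)) _ (by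
        rw [(hψ u u.2).2 _ (hfi_mem _), hf_fi]; rfl)
      card_U := by
        refine Nat.eq_of_mul_eq_mul_right hp1 ?_
        rw [hUcard]; omega
      card_F := hF
      cop_n := hA
      five := h5
      hq := hq
      ne := by omega
      Q := Q'
      comm := fun a ha b hb => hQc a (hQ'le ha) b (hQ'le hb)
      cop := Nat.Coprime.coprime_dvd_left (Subgroup.card_dvd_of_le hQ'le) hQp
      nQ := hQ's
      y := y'
      hy := hy'
      nt := by rw [← hyy']; exact hP0U s (hfi_mem _) hs1
      fixed := hQ'fix }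
  have := c.le hq2
  omega

end Cfsg.Agent.S1472
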