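import Cfsg.Statements.S4503
import Cfsg.Agent.Lib.Block.SmallDegreeMain

set_option autoImplicit false
open Cfsg

namespace Cfsg.Agent.S4503

universe u

open Cfsg.Lib Cfsg.Lib.Block in
theorem bound_aux (p : ℕ) (hp : p.Prime) : ∀ (N : ℕ) {G : Type u} [Group G] [Finite G],
    Nat.card G = N → p ∣ Nat.card G → ¬ p ^ 2 ∣ Nat.card G →
    (∀ H : Subgroup G, H.Normal → Nat.card H ≠ p) → ∀ χ : G → ℂ, IsCharacter G χ →
    (∀ g : G, χ g = χ 1 → g = 1) → p ≤ 2 * charDegree χ + 1 := by
  haveI := Fact.mk hp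
  intro N
  induction N using Nat.strong_induction_on with
  | _ N ih =>
  intro G _ _ hN hdiv hsq hnn χ hχ hfaith
  classical
  haveI := Fintype.ofFinite G
  obtain ⟨n, hn1⟩ := hχ.exists_degree
  have hn : charDegree χ = n := charDegree_eq_of_apply_one hn1
  have hfac : (Nat.card G).factorization p = 1 := by
    have h1 := hp.factorization_pos_of_dvd Nat.card_pos.ne' hdiv
    by_contra h
    exact hsq ((Nat.Prime.pow_dvd_iff_le_factorization hp Nat.card_pos.ne').2 (by omega))
  obtain ⟨S⟩ := Sylow.nonempty (p := p) (G := G)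
  have hcard : Nat.card (S : Subgroup G) = p := by
    rw [S.card_eq_multiplicity, hfac, pow_one]
  by_contra hcon
  push Not at hcon
  -- every proper subgroup over the Sylow subgroup normalizes it
  have hmaxi : ∀ H : Subgroup G, H ≠ ⊤ → (S : Subgroup G) ≤ H →
      H ≤ Subgroup.normalizer ((S : Subgroup G) : Set G) := by
    intro H hH hSH
    by_contra hle
    have hlt : Nat.card H < N := by
      rw [← hN]
      exact lt_of_le_of_ne (Nat.le_of_dvd Nat.card_pos H.card_subgroup_dvd_card)
        fun h => hH (H.eq_top_of_card_eq h)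
    have hdivH : p ∣ Nat.card H := hcard ▸ Subgroup.card_dvd_of_le hSH
    have hsqH : ¬ p ^ 2 ∣ Nat.card H := fun h => hsq (h.trans H.card_subgroup_dvd_card)
    have hnnH : ∀ Q : Subgroup H, Q.Normal → Nat.card Q ≠ p := by
      intro Q hQ hQc
      refine hle ?_
      set Q' := Q.map H.subtype with hQ'
      have hcQ : Nat.card Q' = p := by
        rw [hQ', Subgroup.card_map_of_injective H.subtype_injective, hQc]
      have hQp : IsPGroup p Q' := IsPGroup.of_card (n := 1) (by rw [hcQ, pow_one])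
      have hHQ : H ≤ Subgroup.normalizer (Q' : Set G) := fun h hh => by
        refine Subgroup.mem_normalizer_iff.2 fun z => ⟨?_, ?_⟩
        · rintro ⟨w, hw, rfl⟩
          exact ⟨⟨h, hh⟩ * w * ⟨h, hh⟩⁻¹, hQ.conj_mem w hw _, rfl⟩
        · rintro ⟨w, hw, hwz⟩
          refine ⟨⟨h, hh⟩⁻¹ * w * ⟨h, hh⟩⁻¹⁻¹, hQ.conj_mem w hw _, ?_⟩
          simp only [map_mul, map_inv, inv_inv, hwz, Subgroup.coe_subtype]
          group
      have hsup : IsPGroup p ((S : Subgroup G) ⊔ Q' : Subgroup G) :=
        S.2.to_sup_of_normal_right' hQp (hSH.trans hHQ)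
      have he : ((S : Subgroup G) ⊔ Q' : Subgroup G) = S := S.is_maximal' hsup le_sup_left
      have hQS : Q' = (S : Subgroup G) :=
        Subgroup.eq_of_le_of_card_ge (he ▸ le_sup_right) (le_of_eq (by rw [hcQ, hcard]))
      rw [← hQS]
      exact hHQ
    have h := ih _ hlt (G := H) rfl hdivH hsqH hnnH (fun h : H => χ h) (hχ.comp H.subtype)
      fun h hh => Subtype.ext (hfaith h hh)
    rw [charDegree_eq_of_apply_one (χ := fun h : H => χ h) (n := n) hn1] at h
    omega
  have hS : SmallDegSetting p (S : Subgroup G) :=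
    ⟨hcard, hfac, fun h => hnn _ h hcard, hmaxi⟩
  by_cases hlin : ∀ φ : IrrCharacter G, (φ : G → ℂ) 1 = 1 ∨
      ∀ [Fintype G], classInner χ (φ : G → ℂ) = 0
  · -- the group is abelian
    refine hS.notNormal ⟨fun z hz g => ?_⟩
    have h := hfaith _ (hχ.commutator_mem_ker hlin g z)
    rwa [show g * z * g⁻¹ = g * z * g⁻¹ * z⁻¹ * z by group, h, one_mul]
  push Not at hlin
  obtain ⟨φ, hφ1, hF, hφne⟩ := hlin
  obtain ⟨m, hm0, hm⟩ := φ.2.exists_degree
  have hm2 : 2 ≤ m := by
    rcases Nat.lt_or_ge m 2 with h | h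
    · exact absurd (by rw [hm, show m = 1 by omega, Nat.cast_one]) hφ1
    · exact h
  have hle : m ≤ n := by
    have h := Char.degree_le_of_constituent (G := G) φ.2 hχ hφne
    rw [hm, hn1, Complex.natCast_re, Complex.natCast_re] at h
    exact_mod_cast h
  have h := hS.not_small φ (charDegree_eq_of_apply_one hm) hm2
  omega

/-- Let G be a finite group whose order is divisible by the prime p exactly once and which has no normal subgroup of order p. Then every faithful character χ of G has degree at least (p − 1)/2: 2·χ(1) + 1 ≥ p. -/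
theorem result {G : Type*} [Group G] [Finite G] (p : ℕ) (hp : p.Prime) (hdiv : p ∣ Nat.card G) (hsq : ¬ p ^ 2 ∣ Nat.card G) (hnn : ∀ H : Subgroup G, H.Normal → Nat.card H ≠ p) (χ : G → ℂ) (hχ : Cfsg.IsCharacter G χ) (hfaith : ∀ g : G, χ g = χ 1 → g = 1) : p ≤ 2 * Cfsg.charDegree χ + 1 :=
  bound_aux p hp _ rfl hdiv hsq hnn χ hχ hfaith

end Cfsg.Agent.S4503
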