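import Cfsg.Statements.S0899
import Cfsg.Agent.Lib.Char.SmallDegree
import Cfsg.Agent.S0898


set_option autoImplicit false
set_option linter.style.haveILetI false
open Cfsg Cfsg.Lib.Char

namespace Cfsg.Agent.S0899

open scoped Pointwise

universe u

variable {G : Type u} [Group G] [Fintype G]

/-- The degree of a constituent is at most the degree. -/
theorem constituent_le {χ : G → ℂ} (hχ : IsCharacter G χ) {n : ℕ} (hn : χ 1 = (n : ℂ)) (τ : IrrCharacter G)
    (hτ : classInner χ (τ : G → ℂ) ≠ 0) {d : ℕ} (hd : (τ : G → ℂ) 1 = (d : ℂ)) : d ≤ n := by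
  classical
  choose m hm using fun ψ : IrrCharacter G => hχ.exists_nat_classInner ψ.2.isCharacter
  choose e he0 he using fun ψ : IrrCharacter G => ψ.2.exists_degree
  have h1 := congrFun (eq_sum_classInner hχ.isClassFunction) 1
  simp only [Finset.sum_apply, Pi.smul_apply, smul_eq_mul, hm, he, hn] at h1
  have h2 : n = ∑ ψ : IrrCharacter G, m ψ * e ψ := by exact_mod_cast h1
  have hde : d = e τ := by exact_mod_cast hd.symm.trans (he τ)
  have hm0 : m τ ≠ 0 := fun h => hτ (by rw [hm, h, Nat.cast_zero])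
  rw [h2, hde]
  refine le_trans ?_ (Finset.single_le_sum (fun ψ _ => Nat.zero_le _) (Finset.mem_univ τ))
  exact Nat.le_mul_of_pos_left _ (Nat.pos_of_ne_zero hm0)

/-- An element killed by all constituents is killed by the character. -/
theorem eq_degree {χ : G → ℂ} (hχ : IsCharacter G χ) {g : G}
    (h : ∀ τ : IrrCharacter G, classInner χ (τ : G → ℂ) ≠ 0 → (τ : G → ℂ) g = (τ : G → ℂ) 1) : χ g = χ 1 := by
  classical
  have hexp := eq_sum_classInner hχ.isClassFunction
  have e1 := congrFun hexp g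
  have e2 := congrFun hexp 1
  simp only [Finset.sum_apply, Pi.smul_apply, smul_eq_mul] at e1 e2
  refine e1.trans (Eq.trans (Finset.sum_congr rfl fun τ _ => ?_) e2.symm)
  by_cases hτ : classInner χ (τ : G → ℂ) = 0
  · rw [hτ, zero_mul, zero_mul]
  · rw [h τ hτ]

/-- A central `p`-element of the derived subgroup is trivial in degree less than `p`. -/
theorem central_det {χ : G → ℂ} (hχ : IsCharacter G χ) {n : ℕ} (hn : χ 1 = (n : ℂ)) {p : ℕ}
    [Fact p.Prime] (hnp : n < p) {z : G} (hz : z ∈ Subgroup.center G) (hzc : z ∈ commutator G)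
    {k : ℕ} (hzp : z ^ p ^ k = 1) : χ z = χ 1 := by
  classical
  refine eq_degree hχ fun τ hτ => ?_
  obtain ⟨d, hd0, hd⟩ := τ.2.exists_degree
  have hdn := constituent_le hχ hn τ hτ hd
  obtain ⟨D, ρ, hρ, hρe⟩ := τ.2
  haveI := hρ
  have hcl : classFinset z = {z} := by
    ext x
    rw [mem_classFinset, Finset.mem_singleton]
    refine ⟨fun h => ?_, fun h => h ▸ IsConj.refl _⟩
    obtain ⟨k, hk⟩ := isConj_iff.mp h
    rw [← hk, Subgroup.mem_center_iff.mp hz k, mul_inv_cancel_right]
  have h := sum_class_smul ρ z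
  rw [hcl, Finset.sum_singleton, Finset.card_singleton, Nat.cast_one, one_mul] at h
  set w := ρ.character z / (Module.finrank ℂ (Fin D → ℂ) : ℂ)
  have hD : D = d := by
    have := congrFun hρe 1
    rw [Representation.char_one, hd, Module.finrank_fin_fun] at this
    exact_mod_cast this
  have hdet : w ^ d = 1 := by
    have hker : z ∈ (MonoidHom.toHomUnits ((LinearMap.det : ((Fin D → ℂ) →ₗ[ℂ] (Fin D → ℂ)) →* ℂ).comp ρ)).ker :=
      Abelianization.commutator_subset_ker _ hzc
    have h1 : LinearMap.det (ρ z) = 1 := congrArg Units.val (MonoidHom.mem_ker.mp hker)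
    rwa [h, LinearMap.det_smul, LinearMap.det_id, mul_one, Module.finrank_fin_fun, hD] at h1
  have hwp : w ^ p ^ k = 1 := by
    have h1 : (ρ z) ^ p ^ k = 1 := by rw [← map_pow, hzp, map_one]
    rw [h, ← Module.End.one_eq_id, smul_pow, one_pow] at h1
    have h2 := congrArg (LinearMap.trace ℂ (Fin D → ℂ)) h1
    rw [map_smul, smul_eq_mul, LinearMap.trace_one] at h2
    exact mul_right_cancel₀ (Nat.cast_ne_zero.mpr (irreducible_finrank_pos ρ).ne') (h2.trans (one_mul _).symm)
  have hw : w = 1 := by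
    have h3 : orderOf w ∣ Nat.gcd d (p ^ k) :=
      Nat.dvd_gcd (orderOf_dvd_of_pow_eq_one hdet) (orderOf_dvd_of_pow_eq_one hwp)
    rw [Nat.Coprime.gcd_eq_one (Nat.Coprime.pow_right k ((Fact.out (p := p.Prime)).coprime_iff_not_dvd.mpr
      fun hdvd => by have := Nat.le_of_dvd hd0 hdvd; omega).symm)] at h3
    exact orderOf_eq_one_iff.mp (Nat.dvd_one.mp h3)
  rw [← hρe]
  show LinearMap.trace ℂ _ (ρ z) = LinearMap.trace ℂ _ (ρ 1)
  rw [h, hw, one_smul, map_one, Module.End.one_eq_id]

theorem main {n p : ℕ} [Fact p.Prime] (hnp : n + 1 < p) :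
    ∀ (N : ℕ) (G : Type u) [Group G] [Fintype G], Nat.card G = N → ∀ (χ : G → ℂ), IsCharacter G χ →
      (∀ g : G, χ g = χ 1 → g = 1) → χ 1 = (n : ℂ) →
      ((n + 1) ^ 2 ≤ p ∨ ∀ K : Subgroup G, ¬ p ^ 2 ∣ Nat.card K → ∀ Q : Sylow p K, (Q : Subgroup K).Normal) →
      ∀ P : Sylow p G, (P : Subgroup G).Normal := by
  intro N
  induction N using Nat.strong_induction_on with
  | _ N ih =>
    intro G _ _ hN χ hχ hfaith hn hyp P
    classical
    have hp := Fact.out (p := p.Prime)
    by_cases hpG : ¬ p ∣ Nat.card G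
    · obtain ⟨k, hk⟩ := P.2.exists_card_eq
      have h0 : k = 0 := by
        by_contra h0
        exact hpG ((dvd_pow_self p h0).trans (hk ▸ Subgroup.card_subgroup_dvd_card _))
      rw [h0, pow_zero, Subgroup.card_eq_one] at hk
      rw [hk]; infer_instance
    push Not at hpG
    -- the large Sylow subgroup
    by_cases hsmall : (¬ p ^ 2 ∣ Nat.card G) ∧
        ∀ K : Subgroup G, ¬ p ^ 2 ∣ Nat.card K → ∀ Q : Sylow p K, (Q : Subgroup K).Normal
    · haveI := hsmall.2 ⊤ (by rw [Subgroup.card_top]; exact hsmall.1) (P.subtype le_top)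
      refine ⟨fun x hx g => ?_⟩
      have h2 := this.conj_mem ⟨x, Subgroup.mem_top x⟩
        (by rw [Sylow.coe_subtype]; exact Subgroup.mem_subgroupOf.mpr hx) ⟨g, Subgroup.mem_top g⟩
      rw [Sylow.coe_subtype, Subgroup.mem_subgroupOf] at h2
      exact h2
    have hbig : (n + 1) ^ 2 ≤ Nat.card (P : Subgroup G) := by
      have hpP : p ∣ Nat.card (P : Subgroup G) := P.dvd_card_of_dvd_card hpG
      rcases hyp with h1 | h2
      · exact h1.trans (Nat.le_of_dvd Nat.card_pos hpP)
      · have hp2 : p ^ 2 ∣ Nat.card G := by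
          by_contra h
          exact hsmall ⟨h, h2⟩
        refine le_trans ?_ (Nat.le_of_dvd Nat.card_pos (P.pow_dvd_card_of_pow_dvd_card hp2))
        exact Nat.pow_le_pow_left (by omega) 2
    -- proper subgroups
    have hsub : ∀ M : Subgroup G, M ≠ ⊤ → ∀ Q : Sylow p M, (Q : Subgroup M).Normal := by
      intro M hM
      haveI := Fintype.ofFinite M
      refine ih (Nat.card M) (hN ▸ lt_of_le_of_ne (Subgroup.card_le_card_group M)
        fun e => hM (Subgroup.card_eq_iff_eq_top M |>.mp e)) M rfl (fun m => χ m) (hχ.comp M.subtype)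
        (fun g hg => Subtype.ext (hfaith g hg)) (by simpa using hn) ?_
      rcases hyp with h1 | h2
      · exact Or.inl h1
      · refine Or.inr fun K hK Q => ?_
        let e := K.equivMapOfInjective M.subtype M.subtype_injective
        have h3 : ∀ R : Sylow p (K.map M.subtype), (R : Subgroup (K.map M.subtype)).Normal :=
          h2 _ (by rwa [← Nat.card_congr e.toEquiv])
        have h4 := h3 (Q.comapOfInjective e.symm.toMonoidHom e.symm.injective (fun y hy => ⟨e y, e.symm_apply_apply y⟩))
        refine ⟨fun x hx g => ?_⟩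
        have h5 := h4.conj_mem (e x) (show e.symm (e x) ∈ (Q : Subgroup K) by simpa using hx) (e g)
        have h5' : e.symm (e g * e x * (e g)⁻¹) ∈ (Q : Subgroup K) := h5
        simpa using h5'
    have huniq : ∀ M : Subgroup G, M ≠ ⊤ → ∀ P₁ P₂ : Sylow p G, (P₁ : Subgroup G) ≤ M →
        (P₂ : Subgroup G) ≤ M → P₁ = P₂ := by
      intro M hM P₁ P₂ h1 h2
      haveI := hsub M hM (P₁.subtype h1)
      haveI := Sylow.unique_of_normal (P₁.subtype h1) this
      have h3 : P₁.subtype h1 = P₂.subtype h2 := Subsingleton.elim _ _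
      exact Sylow.subtype_injective h3
    -- no proper normal subgroup contains `P`
    have hclos : ∀ M : Subgroup G, M.Normal → (P : Subgroup G) ≤ M → M ≠ ⊤ → (P : Subgroup G).Normal := by
      intro M hM hPM hMt
      refine ⟨fun x hx g => ?_⟩
      have h1 : ((g • P : Sylow p G) : Subgroup G) ≤ M := by
        intro y hy
        rw [Sylow.coe_subgroup_smul] at hy
        obtain ⟨z, hz, rfl⟩ := hy
        exact hM.conj_mem z (hPM hz) g
      have h2 : g • P = P := huniq M hMt _ _ h1 hPM
      rw [← h2, Sylow.coe_subgroup_smul]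
      exact ⟨x, hx, rfl⟩
    -- `P` is abelian
    have hab : ∀ a ∈ (P : Subgroup G), ∀ b ∈ (P : Subgroup G), a * b = b * a := by
      intro a ha b hb
      haveI := Fintype.ofFinite (P : Subgroup G)
      have hχP : IsCharacter (P : Subgroup G) (fun g : (P : Subgroup G) => χ g) := hχ.comp (P : Subgroup G).subtype
      let a' : (P : Subgroup G) := ⟨a, ha⟩
      let b' : (P : Subgroup G) := ⟨b, hb⟩
      have h1 := hfaith (((a' * b' * a'⁻¹ * b'⁻¹ : (P : Subgroup G)) : G)) ?_
      · push_cast at h1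
        rwa [mul_inv_eq_one, mul_inv_eq_iff_eq_mul] at h1
      refine eq_degree hχP fun τ hτ => ?_
      obtain ⟨d, hd0, hd⟩ := τ.2.exists_degree
      have hdn := constituent_le hχP (by simpa using hn) τ hτ hd
      obtain ⟨k, hk⟩ := P.2.exists_card_eq
      obtain ⟨j, -, hj⟩ := (Nat.dvd_prime_pow hp).mp (hk ▸ degree_dvd_card τ.2 hd)
      have hd1 : d = 1 := by
        rcases j.eq_zero_or_pos with rfl | hj0
        · rwa [pow_zero] at hj
        · have := Nat.le_of_dvd hd0 (hj ▸ dvd_pow_self p hj0.ne')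
          omega
      obtain ⟨φ, hφ⟩ := exists_hom_of_degree_one τ.2.isCharacter (by rw [hd, hd1, Nat.cast_one])
      rw [hφ]
      show ((φ _ : ℂˣ) : ℂ) = (φ 1 : ℂ)
      simp only [map_mul, map_inv, map_one, mul_inv_cancel_comm, mul_inv_cancel]
    by_cases hperf : commutator G = ⊤
    swap
    · -- a Sylow subgroup of the derived subgroup is central, hence trivial
      by_contra hnot
      let R : Sylow p (commutator G) := default
      haveI := hsub (commutator G) hperf R
      haveI : (R : Subgroup (commutator G)).Characteristic := R.characteristic_of_normal this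
      let R' : Subgroup G := (R : Subgroup (commutator G)).map (commutator G).subtype
      haveI : R'.Normal := inferInstance
      have hRP : ∀ Q : Sylow p G, R' ≤ Q := fun Q =>
        le_sup_left.trans (Q.3 ((R.2.map (commutator G).subtype).to_sup_of_normal_left Q.2) le_sup_right).le
      have hcent : Subgroup.centralizer (R' : Set G) = ⊤ := by
        by_contra hne
        exact hnot (hclos (Subgroup.centralizer (R' : Set G)) inferInstance (fun x hx r hr => hab r (hRP P hr) x hx) hne)
      have hR1 : R' = ⊥ := by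
        rw [Subgroup.eq_bot_iff_forall]
        intro r hr
        obtain ⟨k, hk⟩ := R.2.map (commutator G).subtype ⟨r, hr⟩
        refine hfaith r (central_det hχ hn (by omega) (Subgroup.mem_center_iff.mpr fun g => ?_)
          (Subgroup.map_subtype_le _ hr) (congrArg Subtype.val hk))
        exact (((hcent.symm ▸ Subgroup.mem_top g : g ∈ Subgroup.centralizer (R' : Set G))) r hr).symm
      have hpc : ¬ p ∣ Nat.card (commutator G) := fun h => by
        have h1 := R.dvd_card_of_dvd_card h
        have h2 : (R : Subgroup (commutator G)) = ⊥ := by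
          refine Subgroup.map_injective (commutator G).subtype_injective ?_
          rw [Subgroup.map_bot]; exact hR1
        rw [h2, Subgroup.card_bot] at h1
        exact hp.ne_one (Nat.dvd_one.mp h1)
      apply hnot
      refine ⟨fun x hx g => ?_⟩
      obtain ⟨k, hk⟩ := P.2 ⟨x, hx⟩
      have hxk : x ^ p ^ k = 1 := congrArg Subtype.val hk
      have hl : g * x * g⁻¹ * x⁻¹ ∈ commutator G :=
        Subgroup.commutator_mem_commutator (Subgroup.mem_top g) (Subgroup.mem_top x)
      have hcomm : Commute (g * x * g⁻¹ * x⁻¹) x :=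
        (small_degree_comm hχ hfaith hn hnp (commutator G) hpc k x hxk _ hl).symm
      have h1 : (g * x * g⁻¹ * x⁻¹) ^ p ^ k = 1 := by
        have h2 := hcomm.mul_pow (p ^ k)
        rw [inv_mul_cancel_right, conj_pow, hxk, mul_one, mul_inv_cancel] at h2
        simpa using h2.symm
      obtain ⟨j, -, hj⟩ := (Nat.dvd_prime_pow hp).mp (orderOf_dvd_of_pow_eq_one h1)
      rcases j.eq_zero_or_pos with rfl | hj0
      · rw [pow_zero, orderOf_eq_one_iff, mul_inv_eq_one] at hj
        rwa [hj]
      · exact absurd (((dvd_pow_self p hj0.ne').trans hj.symm.dvd).trans (Subgroup.orderOf_dvd_natCard _ hl)) hpc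
    -- the perfect case
    by_contra hnot
    have hZ0 : ∀ Q : Sylow p G, ∀ z ∈ (Q : Subgroup G), z ∈ Subgroup.center G → z = 1 := by
      intro Q z hzQ hzc
      obtain ⟨k, hk⟩ := Q.2 ⟨z, hzQ⟩
      exact hfaith z (central_det hχ hn (by omega) hzc (by rw [hperf]; exact Subgroup.mem_top z)
        (congrArg Subtype.val hk))
    have hPZ : (P : Subgroup G) ⊓ Subgroup.center G = ⊥ :=
      (Subgroup.eq_bot_iff_forall _).mpr fun z hz => hZ0 P z hz.1 hz.2
    have habQ : ∀ Q : Sylow p G, ∀ a ∈ (Q : Subgroup G), ∀ b ∈ (Q : Subgroup G), a * b = b * a := by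
      intro Q a ha b hb
      obtain ⟨c, rfl⟩ := MulAction.exists_smul_eq G P Q
      rw [Sylow.coe_subgroup_smul] at ha hb
      obtain ⟨a', ha', rfl⟩ := ha
      obtain ⟨b', hb', rfl⟩ := hb
      show c * a' * c⁻¹ * (c * b' * c⁻¹) = c * b' * c⁻¹ * (c * a' * c⁻¹)
      calc c * a' * c⁻¹ * (c * b' * c⁻¹) = c * (a' * b') * c⁻¹ := by group
        _ = c * b' * c⁻¹ * (c * a' * c⁻¹) := by rw [hab a' ha' b' hb']; group
    have hconj : ∀ c : G, ((c • P : Sylow p G) : Subgroup G) = (P : Subgroup G).map (MulAut.conj c).toMonoidHom := fun c => by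
      rw [Sylow.coe_subgroup_smul]; rfl
    have hmeet : ∀ Q₁ Q₂ : Sylow p G, ∀ x : G, x ∈ (Q₁ : Subgroup G) → x ∈ (Q₂ : Subgroup G) → x ≠ 1 → Q₁ = Q₂ := by
      intro Q₁ Q₂ x h1 h2 hx
      refine huniq (Subgroup.centralizer ({x} : Set G)) (fun htop => hx (hZ0 Q₁ x h1 ?_)) Q₁ Q₂
        (fun y hy => Subgroup.mem_centralizer_singleton_iff.mpr (habQ Q₁ y hy x h1))
        (fun y hy => Subgroup.mem_centralizer_singleton_iff.mpr (habQ Q₂ y hy x h2))
      exact Subgroup.mem_center_iff.mpr fun g =>
        Subgroup.mem_centralizer_singleton_iff.mp (htop ▸ Subgroup.mem_top g)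
    have hone : ∀ g : G, g ∉ Subgroup.center G → ∀ a b : G,
        Subgroup.centralizer ({g} : Set G) ⊓ (P : Subgroup G).map (MulAut.conj a).toMonoidHom ≠ ⊥ →
        Subgroup.centralizer ({g} : Set G) ⊓ (P : Subgroup G).map (MulAut.conj b).toMonoidHom ≠ ⊥ →
        (P : Subgroup G).map (MulAut.conj a).toMonoidHom = (P : Subgroup G).map (MulAut.conj b).toMonoidHom := by
      intro g hg a b ha hb
      have hMt : Subgroup.centralizer ({g} : Set G) ≠ ⊤ := fun htop => hg (Subgroup.mem_center_iff.mpr fun k =>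
        Subgroup.mem_centralizer_singleton_iff.mp (htop ▸ Subgroup.mem_top k))
      let Q : Sylow p (Subgroup.centralizer ({g} : Set G)) := default
      haveI := hsub _ hMt Q
      haveI := Sylow.unique_of_normal Q this
      obtain ⟨P₀, hP₀⟩ := (Q.2.map (Subgroup.centralizer ({g} : Set G)).subtype).exists_le_sylow
      have key : ∀ c : G, Subgroup.centralizer ({g} : Set G) ⊓ (P : Subgroup G).map (MulAut.conj c).toMonoidHom ≠ ⊥ →
          c • P = P₀ := by
        intro c hc
        obtain ⟨⟨x, hxC, hxP⟩, hx1⟩ := Subgroup.ne_bot_iff_exists_ne_one.1 hc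
        rw [← hconj] at hxP
        refine hmeet _ _ x hxP (hP₀ ⟨⟨x, hxC⟩, ?_, rfl⟩) fun h => hx1 (Subtype.ext h)
        obtain ⟨k, hk⟩ := (c • P).2 ⟨x, hxP⟩
        have hz : IsPGroup p (Subgroup.zpowers (⟨x, hxC⟩ : Subgroup.centralizer ({g} : Set G))) := by
          obtain ⟨j, -, hj⟩ := (Nat.dvd_prime_pow hp).mp (orderOf_dvd_of_pow_eq_one
            (show (⟨x, hxC⟩ : Subgroup.centralizer ({g} : Set G)) ^ p ^ k = 1 from Subtype.ext (by
              simpa using congrArg Subtype.val hk)))
          exact IsPGroup.of_card (n := j) (by rw [Nat.card_zpowers, hj])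
        obtain ⟨Q', hQ'⟩ := hz.exists_le_sylow
        rw [show Q' = Q from Subsingleton.elim _ _] at hQ'
        exact hQ' (Subgroup.mem_zpowers _)
      rw [← hconj, ← hconj, key a ha, key b hb]
    have hclosure : ∀ M : Subgroup G, M.Normal → (P : Subgroup G) ≤ M → M = ⊤ := fun M hM hPM => by
      by_contra hne
      exact hnot (hclos M hM hPM hne)
    obtain ⟨h, hh⟩ := exists_prime_orderOf_dvd_card' p (P.dvd_card_of_dvd_card hpG)
    obtain ⟨τ, hτ0, hτh⟩ : ∃ τ : IrrCharacter G, classInner χ (τ : G → ℂ) ≠ 0 ∧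
        (τ : G → ℂ) (h : G) ≠ (τ : G → ℂ) 1 := by
      by_contra hall
      push Not at hall
      have h1 : h = 1 := Subtype.ext (hfaith h (eq_degree hχ fun τ hτ => hall τ hτ))
      rw [h1, orderOf_one] at hh
      exact hp.ne_one hh.symm
    obtain ⟨d, hd0, hd⟩ := τ.2.exists_degree
    have hτ1 : (τ : G → ℂ) 1 ≠ 1 := by
      intro h1
      obtain ⟨φ, hφ⟩ := exists_hom_of_degree_one τ.2.isCharacter h1
      apply hτh
      have hk : (h : G) ∈ φ.ker := Abelianization.commutator_subset_ker φ (by rw [hperf]; exact Subgroup.mem_top _)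
      rw [hφ]
      show ((φ (h : G) : ℂˣ) : ℂ) = (φ 1 : ℂ)
      rw [MonoidHom.mem_ker.mp hk, map_one]
    haveI := Fintype.ofFinite (P : Subgroup G)
    have h2 := (Cfsg.Agent.S0898.result (P : Subgroup G) hab hPZ hone _ τ.2 ⟨h, h.2, hτh⟩).2 hτ1 hclosure
    rw [hd, Complex.natCast_re] at h2
    have h3 : Nat.card (P : Subgroup G) < (1 + d) ^ 2 := by exact_mod_cast h2
    have h4 := Nat.pow_le_pow_left (show 1 + d ≤ n + 1 by have := constituent_le hχ hn τ hτ0 hd; omega) 2
    omega


theorem result {G : Type*} [Group G] [Finite G] (n : ℕ) (ρ : Representation ℂ G (Fin n → ℂ)) (hρ : Function.Injective ρ) (p : ℕ) [Fact p.Prime] (h : (n + 1) ^ 2 ≤ p ∨ (n + 1 < p ∧ ∀ K : Subgroup G, ¬ p ^ 2 ∣ Nat.card K → ∀ Q : Sylow p K, (Q : Subgroup K).Normal)) (P : Sylow p G) : (P : Subgroup G).Normal := by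
  classical
  haveI := Fintype.ofFinite G
  have hχ : IsCharacter G ρ.character := isCharacter_character ρ
  have hfaith : ∀ g : G, ρ.character g = ρ.character 1 → g = 1 := fun g hg => by
    rw [Representation.char_one, character_eq_finrank_iff] at hg
    exact hρ (hg.trans (map_one ρ).symm)
  have hn : ρ.character 1 = (n : ℂ) := by rw [Representation.char_one, Module.finrank_fin_fun]
  by_cases hn0 : n = 0
  · subst hn0
    haveI : Subsingleton G := ⟨fun a b => hρ (LinearMap.ext fun v => Subsingleton.elim _ _)⟩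
    exact ⟨fun x hx g => by rwa [Subsingleton.elim (g * x * g⁻¹) x]⟩
  have hnp : n + 1 < p := by
    rcases h with h | h
    · nlinarith [Nat.pos_of_ne_zero hn0]
    · exact h.1
  exact main hnp _ G rfl ρ.character hχ hfaith hn (h.imp_right And.right) P

end Cfsg.Agent.S0899
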