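import Cfsg.Statements.S1686
import Cfsg.Agent.Lib.CosetEnum.Groups.Fi22Simple
import Cfsg.Agent.Lib.CosetEnum.Fi22U62.Valid
import Cfsg.Agent.Lib.CosetEnum.Fi22O73.Valid
import Cfsg.Agent.Lib.CosetEnum.Restrict
import Cfsg.Agent.Lib.CosetEnum.O73Geom
import Cfsg.Agent.Lib.CosetEnum.Fi22O73Pts.Valid
import Cfsg.Agent.Lib.CosetEnum.Fi22O73Pts.Points
-- import your own Cfsg.Agent.* helpers here

set_option autoImplicit false
open Cfsg

namespace Cfsg.Agent.S1686

open Cfsg.Lib.CosetEnum Cfsg.Spor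
open scoped Matrix

set_option maxRecDepth 100000

/-- The point with a number. -/
noncomputable def pt (j : Fin 351) : O73.I7 → ZMod 3 := O73.vec (Fi22O73Pts.tabV.getP j.1)

theorem pt_distinct (i j : Fin 351) (c : ZMod 3) (hc : c ≠ 0) (h : c • pt i = pt j) : i = j := by
  have hi := (O73.pointsOK_get Fi22O73Pts.points_ok i.1 (Nat.zero_le _) (by omega)).1
  have hj := (O73.pointsOK_get Fi22O73Pts.points_ok j.1 (Nat.zero_le _) (by omega)).1 1 (by decide)
  have h1 := hi c ((show ∀ l : ZMod 3, l ≠ 0 → l ∈ [(1 : ZMod 3), 2] by decide) c hc)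
  have e : O73.smulV (1 : ZMod 3) (O73.vec (Fi22O73Pts.tabV.getP j.1)) =
      O73.smulV c (O73.vec (Fi22O73Pts.tabV.getP i.1)) := by
    funext k
    show (1 : ZMod 3) * _ = c * _
    rw [one_mul]
    exact (congrFun h k).symm
  rw [e] at hj
  exact Fin.ext (h1.symm.trans hj)

theorem perm_induced : ∀ σ ∈ tperm Fi22O73Pts.tabP 8 351 '' {g | g < 8},
    ∃ A, O73.Maps pt A σ := by
  rintro _ ⟨g, hg, rfl⟩
  replace hg : g < 8 := hg
  have hlen : Fi22O73Pts.centres.length = 8 := by decide +kernel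
  have hgl : g < Fi22O73Pts.centres.length := by omega
  have hq : O73.qf (O73.vec (Fi22O73Pts.centres.getD g 0)) = 2 := by
    rw [List.getD_eq_getElem _ _ hgl]
    exact of_decide_eq_true (List.all_eq_true.1 Fi22O73Pts.centres_ok _ (List.getElem_mem hgl))
  refine ⟨O73.reflection _ hq, fun j => ?_⟩
  obtain ⟨l, hl, he⟩ :=
    (O73.pointsOK_get Fi22O73Pts.points_ok j.1 (Nat.zero_le _) (by omega)).2 g hgl
  refine ⟨l, (show ∀ l ∈ [(1 : ZMod 3), 2], l ≠ 0 by decide) l hl, ?_⟩
  show O73.cmat _ *ᵥ pt j = _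
  rw [O73.cmat_mulVec, pt, O73.code_injective he]
  have hi : (tperm Fi22O73Pts.tabP 8 351 g j).1 = img Fi22O73Pts.tabP 8 g j.1 :=
    tperm_apply Fi22O73Pts.perm_ok hg j
  funext k
  show l * _ = l * O73.vec (Fi22O73Pts.tabV.getP (tperm Fi22O73Pts.tabP 8 351 g j).1) k
  rw [hi]

theorem card_points_group :
    4585351680 ≤ Nat.card (Subgroup.closure (tperm Fi22O73Pts.tabP 8 351 '' {g | g < 8})) := by
  have hb : BaseOK Fi22O73Pts.tabP 8 351 [Fi22O73Pts.level0, Fi22O73Pts.level1, Fi22O73Pts.level2,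
      Fi22O73Pts.level3, Fi22O73Pts.level4, Fi22O73Pts.level5] :=
    ⟨Fi22O73Pts.nest0_ok, Fi22O73Pts.orbit0_ok, Fi22O73Pts.nest1_ok, Fi22O73Pts.orbit1_ok,
      Fi22O73Pts.nest2_ok, Fi22O73Pts.orbit2_ok, Fi22O73Pts.nest3_ok, Fi22O73Pts.orbit3_ok,
      Fi22O73Pts.nest4_ok, Fi22O73Pts.orbit4_ok, Fi22O73Pts.nest5_ok, Fi22O73Pts.orbit5_ok, trivial⟩
  have h := base_le (tperm Fi22O73Pts.tabP 8 351) (MonoidHom.id _) Fi22O73Pts.perm_ok (by decide)
    (fun g _ => rfl) hb
  refine le_trans (le_trans (by decide +kernel) h) ?_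
  rw [Subgroup.map_id]
  refine Subgroup.card_le_of_le ((Subgroup.closure_le _).2 ?_)
  rintro _ ⟨u, hu, rfl⟩
  have hlt : ∀ u ∈ Fi22O73Pts.level0.U, ∀ g ∈ u, g < 8 := by decide +kernel
  refine Subgroup.closure_mono ?_ (wordVal_mem _ (S := List.range 8) fun g hg =>
    ⟨List.mem_range.2 (hlt u hu g hg), by have := hlt u hu g hg; simp only [eps]; omega⟩)
  rintro _ ⟨g, hg, rfl⟩
  exact ⟨g, List.mem_range.1 hg, rfl⟩

/-- A group generated by braided involutions with an odd relation is perfect. -/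
theorem commutator_eq_top {M : Type*} [Group M] (u : ℕ → M)
    (hgen : Subgroup.closure (u '' {g | g < 8}) = ⊤) (hu : ∀ g, u g * u g = 1)
    (hadj : ∀ p ∈ [(0, 1), (1, 2), (2, 3), (2, 6), (3, 4), (4, 5), (6, 7)],
      (u p.1 * u p.2) ^ 3 = 1)
    {r : List ℕ} (hr : ∀ g ∈ r, g < 8) (hodd : Odd r.length) (hrel : wordVal u r = 1) :
    commutator M = ⊤ := by
  rw [← top_le_iff, ← hgen, Subgroup.closure_le]
  rintro _ ⟨g, hg, rfl⟩
  rw [SetLike.mem_coe, ← Abelianization.ker_of, MonoidHom.mem_ker]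
  set v : ℕ → Abelianization M := fun g => Abelianization.of (u g) with hv
  have hsq : ∀ g, v g * v g = 1 := fun g => by
    simp only [hv]; rw [← map_mul, hu, map_one]
  have hb : ∀ p ∈ [(0, 1), (1, 2), (2, 3), (2, 6), (3, 4), (4, 5), (6, 7)],
      v p.1 = v p.2 := by
    intro p hp
    have h3 : (v p.1 * v p.2) ^ 3 = 1 := by
      simp only [hv]; rw [← map_mul, ← map_pow, hadj p hp, map_one]
    rw [mul_pow, pow_succ, pow_two, hsq, one_mul, pow_succ, pow_two, hsq, one_mul] at h3
    calc v p.1 = v p.1 * (v p.2 * v p.2) := by rw [hsq, mul_one]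
      _ = v p.2 := by rw [← mul_assoc, h3, one_mul]
  simp only [List.mem_cons, List.not_mem_nil, or_false, forall_eq_or_imp, forall_eq] at hb
  obtain ⟨b1, b2, b3, b4, b5, b6, b7⟩ := hb
  have hall : ∀ g < 8, v g = v 0 := by
    intro g hg
    interval_cases g <;> simp_all
  have hlen : ∀ w : List ℕ, (∀ g ∈ w, g < 8) → wordVal v w = v 0 ^ w.length := by
    intro w
    induction w with
    | nil => intro _; simp [wordVal]
    | cons a w ih =>
      intro h
      have ha : a < 8 := h a (by simp)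
      rw [wordVal, ih fun b hb => h b (by simp [hb]), gen, if_neg (by simp only [eps]; omega),
        hall a ha, List.length_cons, pow_succ]
  have h0 : v 0 = 1 := by
    have h1 : wordVal v r = 1 := by
      rw [hv, ← map_wordVal, hrel, map_one]
    rw [hlen r hr] at h1
    obtain ⟨m, hm⟩ := hodd
    rw [hm, pow_succ, pow_mul, pow_two, hsq, one_pow, one_mul] at h1
    exact h1
  exact (hall g hg).trans h0

/-- In the presented Fischer group Fi₂₂, the subgroup generated by the images of b, …, i is isomorphic to PΩ(7, 3), the commutator subgroup of the isometry group of the quadratic form x₀² + x₁y₁ + x₂y₂ + x₃y₃ over the integers mod 3, modulo its centre. -/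
theorem result : Nonempty ((((Subgroup.closure ({Cfsg.Spor.Fi22.b, Cfsg.Spor.Fi22.c, Cfsg.Spor.Fi22.d, Cfsg.Spor.Fi22.e, Cfsg.Spor.Fi22.f, Cfsg.Spor.Fi22.g, Cfsg.Spor.Fi22.h, Cfsg.Spor.Fi22.i} : Set (FreeGroup Cfsg.Spor.Fi22.Gen))).map (PresentedGroup.mk (Cfsg.Spor.coxRelators Cfsg.Spor.Fi22.edges ∪ {r | r ∈ Cfsg.Spor.Fi22.extra})))) ≃* Cfsg.POmega (ZMod 3) (Cfsg.quadFormOdd 3 (ZMod 3))) := by
  let N := Fi22Pres.numbering
  let x : ℕ → Cfsg.Spor.Fi22 := N.gens Fi22.extra
  have hx : ∀ g, x g * x g = 1 := N.gens_mul_self Fi22.extra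
  have hk : N.k ≤ eps := by decide
  have hgen := N.closure_gens Fi22.extra
  have hR : Fi22O73.cert.R0 = N.pairs ++ Fi22Pres.extra := by decide +kernel
  have hrel : ∀ r ∈ Fi22O73.cert.R0, wordVal x r = 1 := fun r hr =>
    N.wordVal_gens hk (Fi22Pres.map_extra x hx) r (hR ▸ hr)
  obtain ⟨f1, hf1⟩ := N.exists_hom hk Fi22.extra Fi22O73.cert_valid hR rfl
    (Fi22Pres.map_extra _ fun g => tperm_mul_self _ _ _ g)
  have hR2 : Fi22U62.cert.R0 = N.pairs ++ Fi22Pres.extra := by decide +kernel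
  obtain ⟨f, hf⟩ := N.exists_hom hk Fi22.extra Fi22U62.cert_valid hR2 rfl
    (Fi22Pres.map_extra _ fun g => tperm_mul_self _ _ _ g)
  have hK := N.map_closure Fi22.extra
    (Us := [Fi22.b, Fi22.c, Fi22.d, Fi22.e, Fi22.f, Fi22.g, Fi22.h, Fi22.i])
    (U := Fi22O73Pts.subWords)
    (by simp [Fi22O73Pts.subWords, wordVal, gen, eps, N, Fi22Pres.numbering, Fi22Pres.num, pow_succ, mul_assoc])
    (s := {Fi22.b, Fi22.c, Fi22.d, Fi22.e, Fi22.f, Fi22.g, Fi22.h, Fi22.i})
    (by ext w; simp)
  have hsub : Fi22O73.subWords = Fi22O73Pts.subWords := by decide +kernel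
  obtain ⟨hidx, Φ, hΦ, heq, h0⟩ :=
    Fi22O73.cert_valid.index_eq hx hgen hrel f1 hf1 (hK.trans (by rw [show Fi22O73.cert.step.U = Fi22O73.subWords from rfl, hsub]))
  replace hidx : _ = 14080 := hidx
  have hcardG : Nat.card Cfsg.Spor.Fi22 = 64561751654400 := Fi22Pres.isFi22.2
  have : Finite Cfsg.Spor.Fi22 := Nat.finite_of_card_ne_zero (by rw [hcardG]; decide)
  set H := (Subgroup.closure _).map (PresentedGroup.mk _) with hH
  have hcardH : Nat.card H = 4585351680 := by
    have := Subgroup.card_mul_index H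
    rw [hidx, hcardG] at this
    omega
  obtain ⟨ρ, hρgen, hρrange, -⟩ := exists_restrict (k' := 8) x f (k := 9) Fi22U62.cert_valid.perm
    (by decide) hf Fi22O73Pts.orbit_ok Fi22O73Pts.perm_ok Fi22O73Pts.restrict_ok (by decide) hK
  have hmem : ∀ g, wordVal x (Fi22O73Pts.subWords.getD g []) ∈ H := fun g => by
    rw [hK]
    rcases Nat.lt_or_ge g Fi22O73Pts.subWords.length with h | h
    · rw [List.getD_eq_getElem _ _ h]
      exact Subgroup.subset_closure ⟨_, List.getElem_mem h, rfl⟩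
    · rw [List.getD_eq_default _ _ h]
      exact one_mem _
  let M := Subgroup.closure (tperm Fi22O73Pts.tabP 8 351 '' {g | g < 8})
  have hsingle : ∀ g < 8, Fi22O73Pts.subWords.getD g [] = [g + 1] := by decide +kernel
  have hval : ∀ g < 8, wordVal x (Fi22O73Pts.subWords.getD g []) = x (g + 1) := by
    intro g hg
    rw [hsingle g hg]
    simp [wordVal, gen, eps, show g + 1 ≠ 31 by omega]
  have hperf : commutator M = ⊤ := by
    let u : ℕ → M := fun g => if h : g < 8 then
      ⟨tperm Fi22O73Pts.tabP 8 351 g, Subgroup.subset_closure ⟨g, h, rfl⟩⟩ else 1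
    let y : ℕ → H := fun g => ⟨_, hmem g⟩
    have hρM : ∀ a : H, ρ a ∈ M := fun a => hρrange.le ⟨a, rfl⟩
    let ρ' : H →* M := ρ.codRestrict M hρM
    have hu : ∀ g < 8, u g = ρ' (y g) := by
      intro g hg
      apply Subtype.ext
      simp only [u, dif_pos hg, ρ', MonoidHom.codRestrict_apply]
      exact (hρgen g hg (hmem g)).symm
    have hy : ∀ w : List ℕ, (∀ g ∈ w, g < 8) →
        ((wordVal y w : H) : Cfsg.Spor.Fi22) = wordVal x (w.map (· + 1)) := by
      intro w
      induction w with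
      | nil => intro _; rfl
      | cons a w ih =>
        intro h
        have ha : a < 8 := h a (by simp)
        rw [wordVal, List.map_cons, wordVal, Subgroup.coe_mul, ih fun b hb => h b (by simp [hb]),
          gen, gen, if_neg (by simp only [eps]; omega), if_neg (by simp only [eps]; omega)]
        congr 1
        exact hval a ha
    obtain ⟨r, hr, ⟨hlt, hmap⟩, hodd⟩ : ∃ r ∈ [(List.replicate 9 [6, 5, 4, 3, 2, 1, 0]).flatten],
        ((∀ g ∈ r, g < 8) ∧ r.map (· + 1) ∈ Fi22O73.cert.R0) ∧ Odd r.length := by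
      decide +kernel
    refine commutator_eq_top u ?_ ?_ ?_ (r := r) hlt hodd ?_
    · apply Subgroup.map_injective M.subtype_injective
      rw [MonoidHom.map_closure, ← MonoidHom.range_eq_map, Subgroup.range_subtype, ← Set.image_comp]
      congr 1
      ext σ
      constructor
      · rintro ⟨g, hg, rfl⟩
        exact ⟨g, hg, by simp [u, show g < 8 from hg]⟩
      · rintro ⟨g, hg, rfl⟩
        exact ⟨g, hg, by simp [u, show g < 8 from hg]⟩
    · intro g
      simp only [u]
      split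
      · exact Subtype.ext (tperm_mul_self _ _ _ _)
      · exact one_mul 1
    · intro p hp
      have h8 : p.1 < 8 ∧ p.2 < 8 ∧
          (List.replicate 3 [p.2 + 1, p.1 + 1]).flatten ∈ Fi22O73.cert.R0 := by
        revert p
        decide +kernel
      rw [hu _ h8.1, hu _ h8.2.1, ← map_mul, ← map_pow]
      have hh : (y p.1 * y p.2) ^ 3 = 1 := by
        apply Subtype.ext
        rw [SubmonoidClass.coe_pow, Subgroup.coe_mul]
        show (wordVal x _ * wordVal x _) ^ 3 = _
        rw [hval _ h8.1, hval _ h8.2.1]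
        have := hrel _ h8.2.2
        rw [wordVal_replicate x _ _ (by simp only [eps]; omega) (by simp only [eps]; omega)] at this
        exact this
      rw [hh, map_one]
    · have hh : wordVal u r = ρ' (wordVal y r) := by
        rw [map_wordVal]
        clear hmap hodd hr
        revert hlt
        induction r with
        | nil => intro _; rfl
        | cons a w ih =>
          intro h
          have ha : a < 8 := h a (by simp)
          rw [wordVal, wordVal, ih fun b hb => h b (by simp [hb]), gen, gen,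
            if_neg (by simp only [eps]; omega), if_neg (by simp only [eps]; omega), hu a ha]
      have h1 : wordVal y r = 1 := Subtype.ext (by rw [hy r hlt]; exact hrel _ hmap)
      rw [hh, h1, map_one]
  obtain ⟨hM, ⟨e⟩⟩ := O73.equiv_pomega pt_distinct perm_induced hperf card_points_group
  have hbij : Function.Bijective ρ.rangeRestrict :=
    ρ.rangeRestrict_surjective.bijective_of_nat_card_le (by rw [hcardH, hρrange, hM])
  exact ⟨(MulEquiv.ofBijective _ hbij).trans ((MulEquiv.subgroupCongr hρrange).trans e)⟩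

end Cfsg.Agent.S1686
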