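import Cfsg.Statements.S5265
import Cfsg.Agent.Lib.FusionSys.TransvectionPlane
import Cfsg.Agent.Lib.FusionSys.RankTwoEssential
import Cfsg.Agent.Lib.FusionSys.Displacement
import Cfsg.Agent.Lib.FusionSys.Abelian
import Cfsg.Agent.Lib.PGroup.Basic
import Cfsg.Agent.Lib.TwoGroup.Models
-- import your own Cfsg.Agent.* helpers here

set_option autoImplicit false
open Cfsg

namespace Cfsg.Agent.S5265

universe u

open Cfsg.FusionSystem
open Cfsg.Lib.FusionSys
open Cfsg.Lib.PGroup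
open Cfsg.Lib.FusionSys.RankTwo (cA coe_cA basic map_center_eq)
open scoped commutatorElement

variable {p : ℕ} [hp : Fact p.Prime]

/-- A nonabelian `p`-group with centre of index at most `p ^ 2`. -/
theorem center_facts {G : Type u} [Group G] [Finite G] (hG : IsPGroup p G)
    (hidx : (Subgroup.center G).index ≤ p ^ 2) (hna : ¬ IsMulCommutative G) :
    Nat.card (G ⧸ Subgroup.center G) = p ^ 2 ∧ (∀ x : G, x ^ p ∈ Subgroup.center G) ∧
      ∃ s ∈ Subgroup.center G, s ≠ 1 ∧ s ^ p = 1 ∧ ∀ x y : G, ⁅x, y⁆ ∈ Subgroup.zpowers s := by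
  have hnc : ¬ IsCyclic (G ⧸ Subgroup.center G) := fun h =>
    hna ⟨⟨fun a b => commutative_of_cyclic_center_quotient (QuotientGroup.mk' (Subgroup.center G))
      (by rw [QuotientGroup.ker_mk']) a b⟩⟩
  obtain ⟨i, hi⟩ := hG.index (Subgroup.center G)
  have hi2 : i ≤ 2 := (Nat.pow_le_pow_iff_right hp.out.one_lt).mp (hi ▸ hidx)
  have hQ : Nat.card (G ⧸ Subgroup.center G) = p ^ 2 := by
    rw [← Subgroup.index_eq_card, hi]
    rcases (show i = 0 ∨ i = 1 ∨ i = 2 by omega) with rfl | rfl | rfl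
    · haveI : Subsingleton (G ⧸ Subgroup.center G) :=
        (Nat.card_eq_one_iff_unique.mp (by rw [← Subgroup.index_eq_card, hi, pow_zero])).1
      exact absurd isCyclic_of_subsingleton hnc
    · exact absurd (isCyclic_of_prime_card (p := p) (by rw [← Subgroup.index_eq_card, hi, pow_one])) hnc
    · rfl
  have hexp : ∀ v : G ⧸ Subgroup.center G, v ^ p = 1 := by
    intro v
    by_contra h
    refine hnc (isCyclic_of_orderOf_eq_card v ?_)
    obtain ⟨j, hj2, hj⟩ := (Nat.dvd_prime_pow hp.out).mp (hQ ▸ orderOf_dvd_natCard v)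
    rcases Nat.lt_or_ge j 2 with hlt | hge
    · exact absurd (orderOf_dvd_iff_pow_eq_one.mp (hj ▸ (pow_dvd_pow p (by omega : j ≤ 1)).trans
        (by rw [pow_one]))) h
    · rw [hj, hQ, show j = 2 by omega]
  have hxp : ∀ x : G, x ^ p ∈ Subgroup.center G := fun x => by
    rw [← QuotientGroup.eq_one_iff, QuotientGroup.mk_pow, hexp]
  obtain ⟨a, b, hab⟩ : ∃ a b : G, a * b ≠ b * a := by
    by_contra h
    push Not at h
    exact hna ⟨⟨h⟩⟩
  have hcom : ∀ x y : G, ⁅x, y⁆ ∈ Subgroup.center G := fun x y => by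
    rw [← QuotientGroup.eq_one_iff, ← QuotientGroup.mk'_apply, map_commutatorElement,
      commutatorElement_eq_one_iff_mul_comm]
    exact Plane.comm hQ _ _
  refine ⟨hQ, hxp, ⁅a, b⁆, hcom a b, fun h => hab (commutatorElement_eq_one_iff_mul_comm.mp h), ?_, ?_⟩
  · have hc := Subgroup.mem_center_iff.mp (hcom a b)
    have h1 : (a * b * a⁻¹) ^ p = b ^ p := by
      rw [conj_pow, Subgroup.mem_center_iff.mp (hxp b) a, mul_inv_cancel_right]
    rw [show a * b * a⁻¹ = ⁅a, b⁆ * b by group, (show Commute ⁅a, b⁆ b from (hc b).symm).mul_pow,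
      mul_eq_right] at h1
    exact h1
  · haveI : (Subgroup.zpowers ⁅a, b⁆).Normal := ⟨fun x hx g => by
      rw [Subgroup.mem_center_iff.mp (Subgroup.zpowers_le.mpr (hcom a b) hx) g, mul_inv_cancel_right]
      exact hx⟩
    have ha1 : (a : G ⧸ Subgroup.center G) ≠ 1 := fun h =>
      hab (Subgroup.mem_center_iff.mp ((QuotientGroup.eq_one_iff a).mp h) b).symm
    have hb1 : (b : G ⧸ Subgroup.center G) ∉ Subgroup.zpowers (a : G ⧸ Subgroup.center G) := by
      rintro ⟨n, hn⟩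
      have hn' : (a ^ n)⁻¹ * b ∈ Subgroup.center G := QuotientGroup.eq.mp hn
      apply hab
      have h1 : b = a ^ n * ((a ^ n)⁻¹ * b) := (mul_inv_cancel_left _ _).symm
      rw [h1]
      exact (((Commute.refl a).zpow_right n).mul_right (Subgroup.mem_center_iff.mp hn' a)).eq
    set π := QuotientGroup.mk' (Subgroup.zpowers ⁅a, b⁆)
    have hπab : Commute (π a) (π b) := by
      refine commutatorElement_eq_one_iff_mul_comm.mp ?_
      rw [← map_commutatorElement]
      exact (QuotientGroup.eq_one_iff _).mpr (Subgroup.mem_zpowers _)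
    have hdec : ∀ x : G, ∃ i j : ℕ, ∃ z ∈ Subgroup.center G, x = a ^ i * b ^ j * z := by
      intro x
      obtain ⟨i, j, hij⟩ := Plane.exists_coords hQ hexp ha1 hb1 (x : G ⧸ Subgroup.center G)
      exact ⟨i, j, (a ^ i * b ^ j)⁻¹ * x, QuotientGroup.eq.mp hij.symm, (mul_inv_cancel_left _ _).symm⟩
    have hzc : ∀ z ∈ Subgroup.center G, ∀ w, Commute (π z) w := fun z hz w => by
      obtain ⟨w, rfl⟩ := QuotientGroup.mk'_surjective _ w
      exact ((show Commute w z from Subgroup.mem_center_iff.mp hz w).map π).symm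
    intro x y
    rw [← QuotientGroup.eq_one_iff, ← QuotientGroup.mk'_apply, map_commutatorElement,
      commutatorElement_eq_one_iff_mul_comm]
    obtain ⟨i, j, z, hz, rfl⟩ := hdec x
    obtain ⟨i', j', z', hz', rfl⟩ := hdec y
    simp only [map_mul, map_pow]
    have hA : Commute (π a ^ i * π b ^ j) (π a ^ i' * π b ^ j') :=
      ((((Commute.refl _).pow_pow i i').mul_right (hπab.pow_pow i j')).mul_left
        (((hπab.pow_pow i' j).symm).mul_right ((Commute.refl _).pow_pow j j')))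
    exact ((hA.mul_right (hzc z' hz' _).symm).mul_left ((hzc z hz _))).eq

variable {Ω : Type u} [Group Ω] {S : Subgroup Ω} [Finite S] {F : FusionSystem S}

/-- The data attached to one essential subgroup. -/
theorem ess_data (hS : IsPGroup p S) (hF : F.IsSaturated p) {P : Subgroup Ω} (hP : F.IsEssential p P)
    (hQ : Nat.card (↥S ⧸ Subgroup.center ↥S) = p ^ 2) (hxp : ∀ x : S, x ^ p ∈ Subgroup.center S)
    {s : S} (hsZ : s ∈ Subgroup.center S) (hs1 : s ≠ 1) (hsp : s ^ p = 1)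
    (hcomm : ∀ x y : S, ⁅x, y⁆ ∈ Subgroup.zpowers s) :
    ∃ (f : S) (C : Subgroup S),
      (f : Ω) ∈ P ∧ f ^ p = 1 ∧ f ∉ Subgroup.center S ∧
      C ≤ Subgroup.center S ∧ (∀ i : ℕ, s ^ i ∈ C → p ∣ i) ∧
      (∀ z ∈ Subgroup.center S, ∃ i : ℕ, ∃ c ∈ C, z = s ^ i * c) ∧
      (∀ z ∈ Subgroup.center S, (z : Ω) ∈ P) ∧
      (∀ x : S, (x : Ω) ∈ P → ∃ i j : ℕ, ∃ c ∈ C, x = s ^ i * f ^ j * c) ∧
      (∀ α ∈ F.autGroup P, ∀ x : P, ∀ c ∈ C, (x : Ω) = c → ∃ c' ∈ C, ((α x : P) : Ω) = c') ∧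
      (∀ α ∈ F.autGroup P, ∀ x : P, (x : Ω) = f → ∃ i j : ℕ, ((α x : P) : Ω) = ((s ^ i * f ^ j : S) : Ω)) ∧
      (p ≠ 2 → ∃ D ∈ F.autGroup S, D s = s ^ 2 ∧ (∀ c ∈ C, D c = c) ∧
        ∃ g : S, (g : Ω) ∉ P ∧ ((g ^ 4)⁻¹ * D g : S).1 ∈ P ∧ (g ^ p : S).1 ∈ P) ∧
      (p = 2 → ∀ T : Subgroup S, s ∈ T → f ∈ T → (∀ D ∈ F.autGroup S, ∀ x : S, x⁻¹ * D x ∈ T) →
        ∀ α ∈ F.autGroup P, ∀ x : P, (x : Ω)⁻¹ * ((α x : P) : Ω) ∈ T.map S.subtype) := by
  have hPS : P ≤ S := hP.1.1
  haveI := finite_of_le hPS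
  obtain ⟨hlt, -, -, hO, hRp, hRI⟩ := basic hS hF hP
  have hcen : centralizerIn S P ≤ P := hP.1.2 P (isConj_refl F hPS)
  have hZP : ∀ z ∈ Subgroup.center S, (z : Ω) ∈ P := fun z hz => hcen (mem_centralizerIn.2
    ⟨z.2, fun x hx => (congrArg Subtype.val (Subgroup.mem_center_iff.mp hz ⟨x, hPS hx⟩)).symm⟩)
  have hexpQ : ∀ v : ↥S ⧸ Subgroup.center ↥S, v ^ p = 1 := fun v =>
    QuotientGroup.induction_on v fun w => by
      rw [← QuotientGroup.mk_pow, (QuotientGroup.eq_one_iff _).mpr (hxp w)]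
  -- the image of `P` is a line
  set π := QuotientGroup.mk' (Subgroup.center ↥S) with hπ
  set L := (P.subgroupOf S).map π with hL
  have hmemP : ∀ x : S, π x ∈ L → (x : Ω) ∈ P := by
    rintro x ⟨y, hy, hyx⟩
    have h1 : y⁻¹ * x ∈ Subgroup.center ↥S := QuotientGroup.eq.mp hyx
    rw [show (x : Ω) = (y : Ω) * ((y⁻¹ * x : S) : Ω) by simp]
    exact P.mul_mem hy (hZP _ h1)
  have hL0 : L ≠ ⊥ := by
    intro h
    apply hlt.ne
    refine le_antisymm hPS fun x hx => hcen (mem_centralizerIn.2 ⟨hx, fun y hy => ?_⟩)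
    rw [hL, Subgroup.map_eq_bot_iff, QuotientGroup.ker_mk'] at h
    exact congrArg Subtype.val (Subgroup.mem_center_iff.mp (h (show (⟨y, hPS hy⟩ : S) ∈ P.subgroupOf S from hy)) ⟨x, hx⟩)
  have hL1 : L ≠ ⊤ := fun h => hlt.ne (le_antisymm hPS fun x hx =>
    hmemP ⟨x, hx⟩ (h ▸ Subgroup.mem_top _))
  have hLc := Plane.card_of_ne hQ hexpQ hL0 hL1
  obtain ⟨v0, hv0L, hv01⟩ := L.bot_or_exists_ne_one.resolve_left hL0
  obtain ⟨x0, hx0P, hx0⟩ := hv0L
  obtain ⟨g, hgP⟩ : ∃ g : S, (g : Ω) ∉ P := by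
    obtain ⟨x, hx, hxP⟩ := SetLike.exists_of_lt hlt
    exact ⟨⟨x, hx⟩, hxP⟩
  have hgL : π g ∉ Subgroup.zpowers v0 := fun h =>
    hgP (hmemP g ((Plane.eq_zpowers_of_mem hQ hexpQ hLc hv01 ⟨x0, hx0P, hx0⟩) ▸ h))
  have hgen : ∀ n : S, ∃ i : ℕ, ((g ^ i)⁻¹ * n : S).1 ∈ P := by
    intro n
    obtain ⟨i, j, hij⟩ := Plane.exists_coords hQ hexpQ hv01 hgL (π n)
    refine ⟨j, hmemP _ ?_⟩
    rw [map_mul, map_inv, map_pow, hij, Plane.comm hQ (v0 ^ i), inv_mul_cancel_left]
    exact L.pow_mem ⟨x0, hx0P, hx0⟩ i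
  have hnorm : S ≤ normalizerIn S P := by
    intro n hn
    refine ⟨hn, ?_⟩
    show n ∈ Subgroup.normalizer (P : Set Ω)
    refine Subgroup.mem_normalizer_fintype fun x hx => ?_
    have h1 := hmemP (⟨n, hn⟩ * ⟨x, hPS hx⟩ * (⟨n, hn⟩ : S)⁻¹) (by
      rw [map_mul, map_mul, map_inv, Plane.comm hQ (π ⟨n, hn⟩), mul_inv_cancel_right]
      exact ⟨⟨x, hPS hx⟩, hx, rfl⟩)
    simpa using h1
  have hPc : ∀ a b : P, a * b = b * a := by
    have hrep : ∀ a : P, ∃ (i : ℤ) (z : S), z ∈ Subgroup.center S ∧ (⟨(a : Ω), hPS a.2⟩ : S) = x0 ^ i * z := by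
      intro a
      have hmemL : π ⟨(a : Ω), hPS a.2⟩ ∈ L := ⟨⟨(a : Ω), hPS a.2⟩, a.2, rfl⟩
      rw [← Plane.eq_zpowers_of_mem hQ hexpQ hLc hv01 ⟨x0, hx0P, hx0⟩] at hmemL
      obtain ⟨i, hi⟩ := hmemL
      refine ⟨i, (x0 ^ i)⁻¹ * ⟨(a : Ω), hPS a.2⟩, ?_, (mul_inv_cancel_left _ _).symm⟩
      rw [← QuotientGroup.eq_one_iff, ← QuotientGroup.mk'_apply, map_mul, map_inv, map_zpow, hx0,
        (show v0 ^ i = _ from hi), inv_mul_cancel]
    intro a b
    obtain ⟨i, z, hz, hza⟩ := hrep a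
    obtain ⟨j, w, hw, hwb⟩ := hrep b
    have hc : Commute (x0 ^ i * z) (x0 ^ j * w) :=
      (((Commute.refl x0).zpow_zpow i j).mul_right (Subgroup.mem_center_iff.mp hw _)).mul_left
        ((show Commute z (x0 ^ j * w) from (Subgroup.mem_center_iff.mp hz _).symm))
    rw [← hza, ← hwb] at hc
    exact Subtype.ext (congrArg (fun x : S => (x : Ω)) hc.eq :)
  have hInn : ∀ a ∈ Inn P, a = (1 : MulAut P) := by
    rintro _ ⟨y, rfl⟩
    refine MulEquiv.ext fun x => ?_
    rw [MulAut.conj_apply, hPc y x, mul_inv_cancel_right, MulAut.one_apply]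
  -- the transvection
  set gN : ↥(normalizerIn S P) := ⟨g, hnorm g.2⟩ with hgN
  set u := cA F hPS gN with hu
  set e : P := ⟨(s : Ω), hZP s hsZ⟩ with he
  have hue : (u : MulAut P) e = e := Subtype.ext (by
    rw [coe_cA]
    show (g : Ω) * (s : Ω) * (g : Ω)⁻¹ = s
    rw [congrArg Subtype.val (Subgroup.mem_center_iff.mp hsZ g) |> fun h => (show (g : Ω) * s = s * g from h),
      mul_inv_cancel_right])
  have hdisp : ∀ x : P, ∃ i : ℕ, (u : MulAut P) x = x * e ^ i := by
    intro x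
    obtain ⟨i, hi⟩ := mem_powers_iff_mem_zpowers.mpr (hcomm (⟨(x : Ω), hPS x.2⟩ : S)⁻¹ g)
    refine ⟨i, Subtype.ext ?_⟩
    have h1 := congrArg Subtype.val hi
    simp only [SubgroupClass.coe_pow, commutatorElement_def, Subgroup.coe_mul, InvMemClass.coe_inv,
      inv_inv] at h1
    rw [coe_cA, Subgroup.coe_mul, SubgroupClass.coe_pow]
    show (g : Ω) * x * (g : Ω)⁻¹ = x * (s : Ω) ^ i
    rw [h1]; group
  have hu1 : u ≠ 1 := fun h => hgP (mem_of_conjAut_mem_inn hcen hPS g.2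
    (α := (u : MulAut P)) (fun x => coe_cA hPS gN x) (by rw [h]; exact one_mem _))
  have hcAn : ∀ n : ↥(normalizerIn S P), ∃ i : ℕ, cA F hPS n = u ^ i := by
    intro n
    obtain ⟨i, hi⟩ := hgen ⟨(n : Ω), n.2.1⟩
    refine ⟨i, ?_⟩
    have h1 : cA F hPS ((gN ^ i)⁻¹ * n) = 1 := by
      have h2 : ((cA F hPS ((gN ^ i)⁻¹ * n) : F.autGroup P) : MulAut P) ∈ Inn P :=
        ⟨⟨_, hi⟩, MulEquiv.ext fun x => Subtype.ext (by rw [coe_cA]; simp [hgN])⟩
      exact Subtype.ext (hInn _ h2)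
    rw [map_mul, map_inv, map_pow, inv_mul_eq_one] at h1
    rw [hu, h1]
  haveI : Finite ↥(F.autGroup P) := Finite.of_injective
    (fun a : F.autGroup P => ((a : MulAut P) : P → P))
    (DFunLike.coe_injective.comp Subtype.val_injective)
  have hup : u ^ p = 1 := by
    refine Subtype.ext (MulEquiv.ext fun x => ?_)
    obtain ⟨i, hi⟩ := hdisp x
    have hiter : ∀ n : ℕ, ((u ^ n : F.autGroup P) : MulAut P) x = x * e ^ (i * n) := by
      intro n
      induction n with
      | zero => simp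
      | succ n ih =>
        rw [pow_succ', Subgroup.coe_mul, MulAut.mul_apply, ih, map_mul, map_pow, hue, hi, mul_assoc,
          ← pow_add]
        ring_nf
    rw [hiter, mul_comm i p, pow_mul, show e ^ p = 1 from Subtype.ext (congrArg Subtype.val hsp :),
      one_pow, mul_one]
    simp
  have hsmall : ∀ Q : Subgroup ↥(F.autGroup P), IsPGroup p Q → Nat.card Q ≤ p := by
    intro Q hQp
    obtain ⟨-, R₀, hR₀⟩ := (isFullyAutomized_and_fc_of_fn hS hF hP.2.1).2
    obtain ⟨Q₀, hQ₀⟩ := hQp.exists_le_sylow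
    refine ((Subgroup.card_le_of_le hQ₀).trans (sylow_card_eq Q₀ R₀).le).trans ?_
    rw [hR₀, ← orderOf_eq_prime hup hu1, ← Nat.card_zpowers]
    refine Subgroup.card_le_of_le fun a ha => ?_
    obtain ⟨n, hn, hna⟩ := mem_autInducedBy.1 (Subgroup.mem_subgroupOf.mp ha)
    obtain ⟨i, hi⟩ := hcAn ⟨n, hn, mem_normalizer_of_aut hna⟩
    rw [show a = cA F hPS ⟨n, hn, mem_normalizer_of_aut hna⟩ from
      Subtype.ext (MulEquiv.ext fun x => Subtype.ext (hna x)), hi]
    exact Subgroup.pow_mem _ (Subgroup.mem_zpowers u) i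
  have hep : e ^ p = 1 := Subtype.ext (congrArg Subtype.val hsp :)
  have he1 : e ≠ 1 := fun h => hs1 (Subtype.ext (congrArg (fun x : P => (x : Ω)) h :))
  have hmove : ∃ a : ↥(F.autGroup P), (a : MulAut P) e ∉ Subgroup.zpowers e := by
    by_contra hmv
    push Not at hmv
    let N0 : Subgroup ↥(F.autGroup P) :=
      { carrier := {a | (a : MulAut P) e = e ∧ ∀ x, (a : MulAut P) x * x⁻¹ ∈ Subgroup.zpowers e}
        one_mem' := ⟨rfl, fun x => by simp⟩
        mul_mem' := by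
          rintro a b ⟨ha1, ha2⟩ ⟨hb1, hb2⟩
          refine ⟨by rw [Subgroup.coe_mul, MulAut.mul_apply, hb1, ha1], fun x => ?_⟩
          rw [Subgroup.coe_mul, MulAut.mul_apply, show (a : MulAut P) ((b : MulAut P) x) * x⁻¹ =
            ((a : MulAut P) ((b : MulAut P) x) * ((b : MulAut P) x)⁻¹) * ((b : MulAut P) x * x⁻¹) by group]
          exact mul_mem (ha2 _) (hb2 x)
        inv_mem' := by
          rintro a ⟨ha1, ha2⟩
          have key : ∀ v, (a : MulAut P) (((a⁻¹ : F.autGroup P) : MulAut P) v) = v := fun v => by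
            rw [← MulAut.mul_apply, ← Subgroup.coe_mul, mul_inv_cancel, Subgroup.coe_one, MulAut.one_apply]
          refine ⟨(a : MulAut P).injective (by rw [key, ha1]), fun x => ?_⟩
          have h := ha2 (((a⁻¹ : F.autGroup P) : MulAut P) x)
          rw [key] at h
          simpa using inv_mem h }
    have hN0n : N0.Normal := by
      refine ⟨fun n hn b => ?_⟩
      have key : ∀ v, (b : MulAut P) (((b⁻¹ : F.autGroup P) : MulAut P) v) = v := fun v => by
        rw [← MulAut.mul_apply, ← Subgroup.coe_mul, mul_inv_cancel, Subgroup.coe_one, MulAut.one_apply]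
      refine ⟨?_, fun x => ?_⟩
      · obtain ⟨j, hj⟩ := hmv b⁻¹
        rw [Subgroup.coe_mul, Subgroup.coe_mul, MulAut.mul_apply, MulAut.mul_apply,
          ← (show e ^ j = _ from hj), map_zpow, hn.1, (show e ^ j = _ from hj), key]
      · rw [Subgroup.coe_mul, Subgroup.coe_mul, MulAut.mul_apply, MulAut.mul_apply]
        nth_rewrite 2 [← key x]
        rw [← map_inv (b : MulAut P), ← map_mul]
        obtain ⟨j, hj⟩ := hn.2 (((b⁻¹ : F.autGroup P) : MulAut P) x)
        rw [← (show e ^ j = _ from hj), map_zpow]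
        exact zpow_mem (hmv b) j
    have hN0p : IsPGroup p N0 := by
      rintro ⟨a, ha1, ha2⟩
      refine ⟨1, Subtype.ext (Subtype.ext (MulEquiv.ext fun x => ?_))⟩
      obtain ⟨i, hi⟩ := mem_powers_iff_mem_zpowers.mpr (ha2 x)
      have hi' : (a : MulAut P) x = e ^ i * x := eq_mul_of_mul_inv_eq hi.symm
      have hiter : ∀ n : ℕ, ((a ^ n : F.autGroup P) : MulAut P) x = e ^ (i * n) * x := by
        intro n
        induction n with
        | zero => simp
        | succ n ih =>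
          rw [pow_succ', Subgroup.coe_mul, MulAut.mul_apply, ih, map_mul, map_pow, ha1, hi', ← mul_assoc,
            ← pow_add]
          ring_nf
      rw [pow_one]
      show ((a ^ p : F.autGroup P) : MulAut P) x = _
      rw [hiter, mul_comm i p, pow_mul, hep, one_pow, one_mul]
      simp
    have hmem : u ∈ N0 := ⟨hue, fun x => by
      obtain ⟨i, hi⟩ := hdisp x
      rw [hi, hPc x, mul_inv_cancel_right]
      exact Subgroup.pow_mem _ (Subgroup.mem_zpowers e) i⟩
    exact hu1 (Subtype.ext (hInn _ (hO N0 hN0n hN0p hmem)))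
  have hdata : Transvection.Data p (F.autGroup P) u e := ⟨hPc, hep, he1, hue, hdisp, hu1, hsmall, hmove⟩
  obtain ⟨u', fP, C₀, hfp, huf, hu'f, hu'e, hC₀fix, hfixdec, hdec, hmeet, hCinv, hplane⟩ :=
    Transvection.exists_decomp hdata
  -- pass to `S`
  set ι := Subgroup.inclusion hPS with hι
  have hιe : ι e = s := Subtype.ext rfl
  have hfixZ : ∀ x : P, (u : MulAut P) x = x → ι x ∈ Subgroup.center S := by
    intro x hx
    rw [Subgroup.mem_center_iff]
    intro n
    obtain ⟨i, hi⟩ := hgen n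
    have hgx : Commute g (ι x) := Subtype.ext (commute_of_conj_eq (congrArg Subtype.val hx))
    have hPx : Commute (⟨((g ^ i)⁻¹ * n : S).1, hPS hi⟩ : S) (ι x) :=
      Subtype.ext (congrArg (fun y : P => (y : Ω)) (hPc ⟨_, hi⟩ x) :)
    have h2 := (hgx.pow_left i).mul_left hPx
    rw [show g ^ i * (⟨((g ^ i)⁻¹ * n : S).1, hPS hi⟩ : S) = n from mul_inv_cancel_left _ _] at h2
    exact h2.eq
  have hZfix : ∀ z (hz : z ∈ Subgroup.center S), (u : MulAut P) ⟨(z : Ω), hZP z hz⟩ = ⟨(z : Ω), hZP z hz⟩ :=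
    fun z hz => Subtype.ext (by
      rw [coe_cA]
      exact conj_eq_of_commute (congrArg Subtype.val (Subgroup.mem_center_iff.mp hz g)))
  have hC₀Z : ∀ c ∈ C₀, ι c ∈ Subgroup.center S := fun c hc => hfixZ c (hC₀fix c hc).1
  have hZdec : ∀ z ∈ Subgroup.center S, ∃ i : ℕ, ∃ c ∈ C₀.map ι, z = s ^ i * c := by
    intro z hz
    obtain ⟨i, c, hc, hzc⟩ := hfixdec ⟨(z : Ω), hZP z hz⟩ (hZfix z hz)
    exact ⟨i, ι c, ⟨c, hc, rfl⟩, by rw [← hιe, ← map_pow, ← map_mul, ← hzc]; exact Subtype.ext rfl⟩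
  -- automorphisms fixing the centre of the transvection extend to `S`
  have hrec := isReceptive_of_fc hS hF (isFullyAutomized_and_fc_of_fn hS hF hP.2.1).1
  have hext : ∀ β : ↥(F.autGroup P), (β : MulAut P) e ∈ Subgroup.zpowers e →
      ∃ D ∈ F.autGroup S, ∀ x : P, D (ι x) = ι ((β : MulAut P) x) := by
    intro β hβ
    obtain ⟨k, hk⟩ := Transvection.conj_eq_pow hdata β hβ
    obtain ⟨ψ, hψ, hψe⟩ := IsReceptive_ext hrec ((mem_autGroup hPS).1 β.2) (N := S) (by
      intro n hn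
      refine ⟨hn, (hnorm hn).2, ?_⟩
      obtain ⟨i, hi⟩ := hcAn ⟨n, hnorm hn⟩
      refine ⟨((g ^ (k * i) : S) : Ω), (g ^ (k * i) : S).2, fun x z hxz => ?_⟩
      have hz : z = ((u ^ i : F.autGroup P) : MulAut P) x := by
        rw [← hi]
        exact Subtype.ext (hxz.trans (coe_cA (F := F) hPS ⟨n, hnorm hn⟩ x).symm)
      have h1 : β * u ^ i = u ^ (k * i) * β := by
        rw [pow_mul, hk, conj_pow, inv_mul_cancel_right]
      have h2 := congrArg (fun a : F.autGroup P => (((a : MulAut P) x : P) : Ω)) h1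
      simp only [Subgroup.coe_mul, MulAut.mul_apply] at h2
      rw [hz, h2, hu, ← map_pow, coe_cA]
      simp [hgN])
    have hr : ψ.range = S := range_eq_of_card_le hψ le_rfl (hom_mem hψ) le_rfl
    refine ⟨homIso hψ hr, (mem_autGroup le_rfl).2 (isoIn_homIso hψ hr), fun x => Subtype.ext ?_⟩
    rw [coe_homIso]
    exact hψe _ x.2 _
  refine ⟨ι fP, C₀.map ι, fP.2, by rw [← map_pow, hfp, map_one], ?_, ?_, ?_, hZdec, hZP, ?_, ?_, ?_, ?_, ?_⟩
  · intro h
    have h1 : (u : MulAut P) fP = fP := hZfix (ι fP) h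
    rw [huf] at h1
    exact he1 (mul_eq_right.mp h1)
  · rintro _ ⟨c, hc, rfl⟩
    exact hC₀Z c hc
  · rintro i ⟨c, hc, hci⟩
    have h1 : c = e ^ i := Subgroup.inclusion_injective hPS (by rw [map_pow, ← hι, hιe]; exact hci)
    exact (hmeet i 0 (by rw [pow_zero, mul_one, ← h1]; exact hc)).1
  · intro x hx
    obtain ⟨i, j, c, hc, hxc⟩ := hdec ⟨(x : Ω), hx⟩
    exact ⟨i, j, ι c, ⟨c, hc, rfl⟩, by
      rw [← hιe, ← map_pow, ← map_pow, ← map_mul, ← map_mul, ← hxc]; exact Subtype.ext rfl⟩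
  · rintro α hα x _ ⟨c, hc, rfl⟩ hxc
    obtain rfl : x = c := Subtype.ext hxc
    exact ⟨ι (α x), ⟨_, hCinv ⟨α, hα⟩ x hc, rfl⟩, rfl⟩
  · intro α hα x hx
    obtain rfl : x = fP := Subtype.ext hx
    obtain ⟨i, j, hij⟩ := hplane ⟨α, hα⟩ 0 1
    refine ⟨i, j, ?_⟩
    simp only [pow_zero, pow_one, one_mul] at hij
    rw [hij, ← hιe, ← map_pow, ← map_pow, ← map_mul]
    rfl
  · intro hp2
    obtain ⟨k, hk⟩ := hp.out.odd_of_ne_two hp2
    set l := u' ^ k * u * u' with hl
    have hu'pow : ∀ n : ℕ, ((u' ^ n : F.autGroup P) : MulAut P) e = e * fP ^ n ∧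
        ((u' ^ n : F.autGroup P) : MulAut P) fP = fP := by
      intro n
      induction n with
      | zero => simp
      | succ n ih =>
        refine ⟨?_, ?_⟩
        · rw [pow_succ', Subgroup.coe_mul, MulAut.mul_apply, ih.1, map_mul, map_pow, hu'e, hu'f, mul_assoc,
            ← pow_succ']
        · rw [pow_succ', Subgroup.coe_mul, MulAut.mul_apply, ih.2, hu'f]
    have hC : ∀ a b : P, Commute a b := hPc
    have hle : (l : MulAut P) e = e ^ 2 := by
      rw [hl, Subgroup.coe_mul, Subgroup.coe_mul, MulAut.mul_apply, MulAut.mul_apply, hu'e, map_mul, hue,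
        huf, map_mul, map_mul, (hu'pow k).1, (hu'pow k).2, show e * fP ^ k * (e * fP ^ k * fP) =
          (e * fP ^ k) * (e * fP ^ k) * fP by simp only [mul_assoc], ← sq, (hC _ _).mul_pow, mul_assoc,
        ← pow_mul, ← pow_succ, show k * 2 + 1 = p by omega, hfp, mul_one]
    have hlf : (l : MulAut P) fP = e * fP ^ (k + 1) := by
      rw [hl, Subgroup.coe_mul, Subgroup.coe_mul, MulAut.mul_apply, MulAut.mul_apply, hu'f, huf, map_mul,
        (hu'pow k).1, (hu'pow k).2, mul_assoc, ← pow_succ]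
    have hlC : ∀ c ∈ C₀, (l : MulAut P) c = c := by
      intro c hc
      have : ∀ n : ℕ, ((u' ^ n : F.autGroup P) : MulAut P) c = c := by
        intro n
        induction n with
        | zero => simp
        | succ n ih => rw [pow_succ', Subgroup.coe_mul, MulAut.mul_apply, ih, (hC₀fix c hc).2]
      rw [hl, Subgroup.coe_mul, Subgroup.coe_mul, MulAut.mul_apply, MulAut.mul_apply, (hC₀fix c hc).2,
        (hC₀fix c hc).1, this]
    obtain ⟨D, hD, hDl⟩ := hext l (by rw [hle]; exact Subgroup.pow_mem _ (Subgroup.mem_zpowers e) 2)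
    refine ⟨D, hD, by rw [← hιe, hDl, hle, map_pow], ?_, g, hgP, ?_, ?_⟩
    · rintro _ ⟨c, hc, rfl⟩
      rw [hDl, hlC c hc]
    · have hu4 : ∀ x : P, ((u ^ 4 : F.autGroup P) : MulAut P) ((l : MulAut P) x) =
          (l : MulAut P) ((u : MulAut P) x) := by
        intro x
        obtain ⟨i, j, c, hc, rfl⟩ := hdec x
        have hu4f : ((u ^ 4 : F.autGroup P) : MulAut P) fP = fP * e ^ (1 * 4) :=
          Transvection.pow_apply hdata fP (i := 1) (by rw [huf, pow_one, hPc]) 4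
        have hu4e : ((u ^ 4 : F.autGroup P) : MulAut P) e = e := by
          have := Transvection.pow_apply hdata e (i := 0) (by rw [hue, pow_zero, mul_one]) 4
          rwa [zero_mul, pow_zero, mul_one] at this
        have hu4c : ((u ^ 4 : F.autGroup P) : MulAut P) c = c := by
          have := Transvection.pow_apply hdata c (i := 0) (by rw [(hC₀fix c hc).1, pow_zero, mul_one]) 4
          rwa [zero_mul, pow_zero, mul_one] at this
        simp only [map_mul, map_pow, hue, huf, (hC₀fix c hc).1, hle, hlf, hlC c hc, hu4e, hu4c, hu4f]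
        congr 1
        congr 1
        congr 1
        have h4 : (e ^ (1 * 4)) ^ (k + 1) * e = e ^ 3 := by
          rw [← pow_mul, ← pow_succ]
          refine Plane.pow_eq_pow_of_modEq hep ?_
          rw [show 1 * 4 * (k + 1) + 1 = 2 * p + 3 by omega]
          exact ((Nat.modEq_iff_dvd' (by omega)).mpr ⟨2, by omega⟩).symm
        rw [(hC fP _).mul_pow, ← mul_assoc (e ^ 2), show e ^ 2 * e = e ^ 3 from (pow_succ e 2).symm, ← h4]
        exact (hC e _).eq.trans ((mul_assoc _ _ _).trans (hC _ _).eq)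
      have hdiff : ∀ x : P, ((cA F hPS ⟨((g ^ 4)⁻¹ * D g : S), hnorm ((g ^ 4)⁻¹ * D g : S).2⟩ :
          F.autGroup P) : MulAut P) x = x := by
        intro x
        obtain ⟨y, hy⟩ := (l : MulAut P).surjective x
        refine Subtype.ext ?_
        rw [coe_cA]
        have h1 : D g * ι x * (D g)⁻¹ = g ^ 4 * ι x * (g ^ 4)⁻¹ := by
          have hDy : D (ι y) = ι x := by rw [hDl, hy]
          have hgy : g * ι y * g⁻¹ = ι ((u : MulAut P) y) :=
            Subtype.ext (by rw [hu]; exact (coe_cA (F := F) hPS gN y).symm)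
          calc D g * ι x * (D g)⁻¹ = D (g * ι y * g⁻¹) := by rw [map_mul, map_mul, map_inv, hDy]
            _ = ι ((l : MulAut P) ((u : MulAut P) y)) := by rw [hgy, hDl]
            _ = ι (((u ^ 4 : F.autGroup P) : MulAut P) x) := by rw [← hu4, hy]
            _ = g ^ 4 * ι x * (g ^ 4)⁻¹ := by
              refine Subtype.ext ?_
              rw [hu, ← map_pow]
              show (((cA F hPS (gN ^ 4) : F.autGroup P) : MulAut P) x : Ω) = _
              rw [coe_cA]
              simp [hgN, hι]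
        have h2 := congrArg (fun n : S => (n : Ω)) h1
        simp only [Subgroup.coe_mul, InvMemClass.coe_inv, SubgroupClass.coe_pow, hι,
          Subgroup.coe_inclusion] at h2
        show (((g ^ 4)⁻¹ * D g : S) : Ω) * x * (((g ^ 4)⁻¹ * D g : S) : Ω)⁻¹ = x
        simp only [Subgroup.coe_mul, InvMemClass.coe_inv, SubgroupClass.coe_pow, mul_inv_rev, inv_inv]
        rw [show ((g : Ω) ^ 4)⁻¹ * (D g : Ω) * x * ((D g : Ω)⁻¹ * (g : Ω) ^ 4) =
          ((g : Ω) ^ 4)⁻¹ * ((D g : Ω) * x * (D g : Ω)⁻¹) * (g : Ω) ^ 4 by group, h2]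
        group
      exact mem_of_conjAut_mem_inn hcen hPS ((g ^ 4)⁻¹ * D g : S).2 (α := 1)
        (fun x => by rw [MulAut.one_apply]; exact (congrArg Subtype.val (hdiff x)).symm.trans (coe_cA hPS _ x))
        (one_mem _)
    · exact hZP _ (hxp g)
  · intro hp2 T hsT hfT hT α hα
    subst hp2
    set K : Set ↥(F.autGroup P) :=
      {a | ∀ x : P, (ι x)⁻¹ * ι ((a : MulAut P) x) ∈ T} with hK
    have hKmul : ∀ a b, a ∈ K → b ∈ K → a * b ∈ K := by
      intro a b ha hb x
      have h1 := T.mul_mem (hb x) (ha ((b : MulAut P) x))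
      rw [mul_assoc, mul_inv_cancel_left] at h1
      exact h1
    have hCdisp : ∀ a : ↥(F.autGroup P), (∀ c ∈ C₀, (a : MulAut P) c = c) →
        (ι e)⁻¹ * ι ((a : MulAut P) e) ∈ T → (ι fP)⁻¹ * ι ((a : MulAut P) fP) ∈ T → a ∈ K := by
      intro a hac hae haf x
      obtain ⟨i, j, c, hc, rfl⟩ := hdec x
      have hmemT : ι ((a : MulAut P) e) ∈ T ∧ ι ((a : MulAut P) fP) ∈ T := by
        constructor
        · rw [← mul_inv_cancel_left (ι e) (ι ((a : MulAut P) e))]
          exact T.mul_mem (hιe ▸ hsT) hae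
        · rw [← mul_inv_cancel_left (ι fP) (ι ((a : MulAut P) fP))]
          exact T.mul_mem hfT haf
      have h1 : (e ^ i * fP ^ j * c)⁻¹ * (a : MulAut P) (e ^ i * fP ^ j * c) =
          (e ^ i * fP ^ j)⁻¹ * ((a : MulAut P) e ^ i * (a : MulAut P) fP ^ j) := by
        rw [map_mul, hac c hc, map_mul, map_pow, map_pow, mul_inv_rev,
          hPc ((a : MulAut P) e ^ i * (a : MulAut P) fP ^ j) c, mul_assoc, ← mul_assoc _ c,
          hPc (e ^ i * fP ^ j)⁻¹ c, mul_assoc, inv_mul_cancel_left]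
      rw [← map_inv, ← map_mul, h1, map_mul, map_inv, map_mul, map_mul, map_pow, map_pow, map_pow, map_pow]
      exact T.mul_mem (T.inv_mem (T.mul_mem (T.pow_mem (hιe ▸ hsT) i) (T.pow_mem hfT j)))
        (T.mul_mem (T.pow_mem hmemT.1 i) (T.pow_mem hmemT.2 j))
    have huK : u ∈ K := by
      refine hCdisp u (fun c hc => (hC₀fix c hc).1) ?_ ?_
      · rw [hue, inv_mul_cancel]; exact T.one_mem
      · rw [huf, map_mul, ← map_mul, hPc e fP, map_mul, inv_mul_cancel_left]
        exact hιe ▸ hsT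
    have hu'K : u' ∈ K := by
      refine hCdisp u' (fun c hc => (hC₀fix c hc).2) ?_ ?_
      · rw [hu'e, map_mul, inv_mul_cancel_left]; exact hfT
      · rw [hu'f, inv_mul_cancel]; exact T.one_mem
    obtain ⟨l, hlK, hle⟩ : ∃ l, l ∈ K ∧ (l : MulAut P) e = α e := by
      obtain ⟨i, j, hij⟩ := hplane ⟨α, hα⟩ 1 0
      simp only [pow_zero, pow_one, mul_one] at hij
      rw [Plane.pow_eq_pow_of_modEq (hep) (Nat.mod_modEq i 2).symm,
        Plane.pow_eq_pow_of_modEq hfp (Nat.mod_modEq j 2).symm] at hij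
      rcases Nat.mod_two_eq_zero_or_one i with hi | hi <;>
        rcases Nat.mod_two_eq_zero_or_one j with hj | hj <;> rw [hi, hj] at hij
      · exfalso
        rw [pow_zero, pow_zero, one_mul] at hij
        exact he1 (α.map_eq_one_iff.mp hij)
      · refine ⟨u * u', hKmul _ _ huK hu'K, ?_⟩
        rw [hij, pow_zero, one_mul, pow_one, Subgroup.coe_mul, MulAut.mul_apply, hu'e, map_mul, hue, huf,
          ← mul_assoc, ← sq, hep, one_mul]
      · refine ⟨1, fun x => by simp, ?_⟩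
        rw [hij, pow_one, pow_zero, mul_one, Subgroup.coe_one, MulAut.one_apply]
      · refine ⟨u', hu'K, ?_⟩
        rw [hij, pow_one, pow_one, hu'e]
    set n : ↥(F.autGroup P) := l⁻¹ * ⟨α, hα⟩ with hn
    have hne : (n : MulAut P) e = e := by
      rw [hn, Subgroup.coe_mul, MulAut.mul_apply, InvMemClass.coe_inv]
      show (l : MulAut P)⁻¹ (α e) = e
      rw [← hle, Transvection.inv_app]
    obtain ⟨D, hD, hDn⟩ := hext n (by rw [hne]; exact Subgroup.mem_zpowers e)
    have hnK : n ∈ K := fun x => by rw [← hDn]; exact hT D hD _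
    intro x
    refine ⟨(ι x)⁻¹ * ι (α x), ?_, by simp [hι]⟩
    have h1 := hKmul l n hlK hnK x
    rwa [hn, mul_inv_cancel_left] at h1

/-- Let p be a prime, S a nontrivial finite p-group whose centre has index at most p², and F a saturated fusion system over S with no nontrivial normal subgroup and with hyperfocal subgroup equal to S. Then S is extraspecial of order p³; for odd p it has exponent p, and for p = 2 it is dihedral of order 8. -/
theorem result {Ω : Type*} [Group Ω] {S : Subgroup Ω} [Finite S] (p : ℕ) [Fact p.Prime] (hS : IsPGroup p ↥S) (F : Cfsg.FusionSystem S) (hF : F.IsSaturated p) (hS1 : S ≠ ⊥) (hcore : F.core = ⊥) (hhyp : F.hyperfocalSubgroup p = S) (hZ : (Subgroup.center ↥S).index ≤ p ^ 2) : Cfsg.IsExtraspecial p ↥S ∧ Nat.card S = p ^ 3 ∧ (p ≠ 2 → Monoid.exponent ↥S = p) ∧ (p = 2 → Nonempty (↥S ≃* DihedralGroup 4)) := by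
  classical
  have hab : ¬ IsMulCommutative ↥S := by
    intro h
    refine hS1 (le_bot_iff.mp (le_of_le_of_eq (le_sSup ?_) hcore))
    exact isNormal_self_of_abelian hS hF fun x hx y hy =>
      congrArg Subtype.val (h.is_comm.comm (⟨x, hx⟩ : S) ⟨y, hy⟩)
  obtain ⟨hQ, hxp, s, hsZ, hs1, hsp, hcomm⟩ := center_facts hS hZ hab
  have hex : ∃ P, F.IsEssential p P := by
    by_contra h
    push Not at h
    refine hS1 (le_bot_iff.mp (le_of_le_of_eq (le_sSup ?_) hcore))
    refine isNormal_of_forall_essential hS hF fun P hP => ?_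
    rcases hP with rfl | hP
    · refine ⟨le_rfl, fun α _ => ?_⟩
      rw [Subgroup.subgroupOf_self, Subgroup.map_top_of_surjective _ α.surjective]
    · exact absurd hP (h P)
  obtain ⟨P₁, hP₁⟩ := hex
  obtain ⟨f₁, C, hf₁P, hf₁p, hf₁Z, hCZ, hCs, hCdec, hZP₁, hP₁dec, hCinv₁, hpl₁, hodd₁, htwo₁⟩ :=
    ess_data hS hF hP₁ hQ hxp hsZ hs1 hsp hcomm
  haveI : Finite ↥(F.autGroup S) := Finite.of_injective
    (fun a : F.autGroup S => ((a : MulAut S) : S → S))
    (DFunLike.coe_injective.comp Subtype.val_injective)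
  -- an automorphism of `S` has a power of index prime to `p` among the inner ones
  obtain ⟨m, hm, hinnpow⟩ : ∃ m : ℕ, ¬ p ∣ m ∧ ∀ γ ∈ F.autGroup S, γ ^ m ∈ Inn S := by
    obtain ⟨-, R₀, hR₀⟩ := (isFullyAutomized_and_fc_of_fn hS hF (isFullyNormalized_top F)).2
    have heq : (R₀ : Subgroup ↥(F.autGroup S)) = (Inn ↥S).subgroupOf (F.autGroup S) := by
      rw [hR₀]
      refine le_antisymm (fun a ha => ?_) (Subgroup.subgroupOf_mono _ (inn_le_autInducedBy le_rfl))
      obtain ⟨n, hn, hna⟩ := mem_autInducedBy.1 (Subgroup.mem_subgroupOf.mp ha)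
      exact ⟨⟨n, hn⟩, MulEquiv.ext fun x => Subtype.ext (hna x).symm⟩
    haveI := inn_subgroupOf_normal (P := S) (F.autGroup S)
    refine ⟨((Inn ↥S).subgroupOf (F.autGroup S)).index, heq ▸ R₀.not_dvd_index, fun γ hγ => ?_⟩
    exact Subgroup.pow_index_mem ((Inn ↥S).subgroupOf (F.autGroup S)) (⟨γ, hγ⟩ : ↥(F.autGroup S))
  have hautZ : ∀ γ : MulAut S, ∀ z ∈ Subgroup.center S, γ z ∈ Subgroup.center S := fun γ z hz => by
    rw [← map_center_eq γ]; exact ⟨z, hz, rfl⟩
  -- automorphisms close to the identity on the centre are trivial on it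
  have heqZ : ∀ γ ∈ F.autGroup S, γ s = s → ∀ z ∈ Subgroup.center S,
      z⁻¹ * γ z ∈ Subgroup.zpowers s → γ z = z := by
    intro γ hγ hγs z hz hd
    obtain ⟨y, hy⟩ := hinnpow γ hγ
    obtain ⟨i, hi⟩ := mem_powers_iff_mem_zpowers.mpr hd
    have hi' : γ z = z * s ^ i := by rw [show s ^ i = _ from hi, mul_inv_cancel_left]
    have hiter : ∀ n : ℕ, (γ ^ n) z = z * s ^ (i * n) := by
      intro n
      induction n with
      | zero => simp
      | succ n ih =>
        rw [pow_succ', MulAut.mul_apply, ih, map_mul, map_pow, hγs, hi', mul_assoc, ← pow_add]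
        ring_nf
    have h1 := hiter m
    rw [← hy, MulAut.conj_apply, Subgroup.mem_center_iff.mp hz y, mul_inv_cancel_right] at h1
    have h2 : p ∣ i * m := by
      rw [← orderOf_eq_prime hsp hs1]
      exact orderOf_dvd_of_pow_eq_one (mul_eq_left.mp h1.symm)
    obtain ⟨t, rfl⟩ := ((Fact.out : p.Prime).dvd_mul.mp h2).resolve_right hm
    rw [hi', pow_mul, hsp, one_pow, mul_one]
  have hsaut : ∀ γ : MulAut S, γ s ∈ Subgroup.zpowers s := by
    intro γ
    obtain ⟨a, b, hne⟩ : ∃ a b : S, a * b ≠ b * a := by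
      by_contra h
      push Not at h
      exact hab ⟨⟨h⟩⟩
    have h1 : ⁅a, b⁆ ≠ 1 := fun h => hne (commutatorElement_eq_one_iff_mul_comm.mp h)
    obtain ⟨i, hi⟩ := mem_powers_iff_mem_zpowers.mpr (hcomm a b)
    have hi' : s ^ i = ⁅a, b⁆ := hi
    have hpi : ¬ p ∣ i := fun ⟨t, ht⟩ => h1 (by rw [← hi', ht, pow_mul, hsp, one_pow])
    refine Plane.mem_of_pow_mem (k := 1) (m := i) (by rw [pow_one, ← map_pow, hsp, map_one]) hpi ?_
    rw [← map_pow, hi', map_commutatorElement]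
    exact hcomm _ _
  -- it is enough that `C` is trivial
  suffices hCbot : C = ⊥ ∧ ((p ≠ 2 → Monoid.exponent ↥S = p) ∧
      (p = 2 → ∃ f₂ : S, f₂ ^ p = 1 ∧ f₁ * f₂ ≠ f₂ * f₁)) by
    obtain ⟨hCbot, hexp, htwo⟩ := hCbot
    have hZs : Subgroup.center ↥S = Subgroup.zpowers s := by
      refine le_antisymm (fun z hz => ?_) (Subgroup.zpowers_le.mpr hsZ)
      obtain ⟨i, c, hc, rfl⟩ := hCdec z hz
      rw [hCbot, Subgroup.mem_bot] at hc
      rw [hc, mul_one]
      exact Subgroup.pow_mem _ (Subgroup.mem_zpowers s) i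
    have hZc : Nat.card (Subgroup.center ↥S) = p := by
      rw [hZs, Nat.card_zpowers, orderOf_eq_prime hsp hs1]
    have hSc : Nat.card S = p ^ 3 := by
      rw [Subgroup.card_eq_card_quotient_mul_card_subgroup (Subgroup.center ↥S), hQ, hZc, ← pow_succ]
    obtain ⟨a, b, hne⟩ : ∃ a b : S, a * b ≠ b * a := by
      by_contra h
      push Not at h
      exact hab ⟨⟨h⟩⟩
    have hcommeq : commutator ↥S = Subgroup.center ↥S := by
      refine le_antisymm ?_ ?_
      · rw [commutator_def, Subgroup.commutator_le]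
        exact fun u _ v _ => hZs ▸ hcomm u v
      · refine (Subgroup.eq_of_le_of_card_ge (Subgroup.zpowers_le.mpr (?_ : ⁅a, b⁆ ∈ Subgroup.center ↥S))
          ?_).ge.trans (Subgroup.zpowers_le.mpr
            (Subgroup.commutator_mem_commutator (Subgroup.mem_top a) (Subgroup.mem_top b)))
        · exact hZs ▸ hcomm a b
        · rw [hZc, Nat.card_zpowers, orderOf_eq_prime (p := p) ?_ fun h => hne (commutatorElement_eq_one_iff_mul_comm.mp h)]
          obtain ⟨i, hi⟩ := mem_powers_iff_mem_zpowers.mpr (hcomm a b)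
          rw [← (show s ^ i = _ from hi), ← pow_mul, mul_comm, pow_mul, hsp, one_pow]
    refine ⟨⟨⟨hS, ?_, hcommeq⟩, hZc⟩, hSc, hexp, fun hp2 => ?_⟩
    · rw [frattini_eq_sup hS, hcommeq]
      refine le_antisymm (sup_le le_rfl ((Subgroup.closure_le _).mpr ?_)) le_sup_left
      rintro _ ⟨g, rfl⟩
      exact hxp g
    · obtain ⟨f₂, hf₂p, hne2⟩ := htwo hp2
      subst hp2
      have hf1 : f₁ * f₁ = 1 := by rw [← sq]; exact hf₁p
      have hf2 : f₂ * f₂ = 1 := by rw [← sq]; exact hf₂p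
      have hinv : f₁ * (f₁ * f₂) * f₁⁻¹ = (f₁ * f₂)⁻¹ := by
        rw [mul_inv_rev, inv_eq_of_mul_eq_one_right hf2, inv_eq_of_mul_eq_one_right hf1, ← mul_assoc f₁ f₁,
          hf1, one_mul]
      have hsq : (f₁ * f₂) * (f₁ * f₂) ≠ 1 := by
        intro h
        apply hne2
        calc f₁ * f₂ = (f₁ * f₂)⁻¹ := (inv_eq_of_mul_eq_one_right h).symm
          _ = f₂ * f₁ := by
            rw [mul_inv_rev, inv_eq_of_mul_eq_one_right hf1, inv_eq_of_mul_eq_one_right hf2]
      have hord : orderOf (f₁ * f₂) = 4 := by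
        refine (orderOf_eq_prime_pow (p := 2) (n := 1) (by rw [pow_one, sq]; exact hsq) ?_).trans rfl
        have h1 : ((f₁ * f₂) ^ 2) ^ 2 = 1 := by
          obtain ⟨i, hi⟩ := mem_powers_iff_mem_zpowers.mpr (hZs.le (hxp (f₁ * f₂)))
          rw [← (show s ^ i = _ from hi), ← pow_mul, mul_comm, pow_mul, hsp, one_pow]
        rw [pow_succ, pow_one, pow_mul]
        exact h1
      have hnot : f₁ ∉ Subgroup.zpowers (f₁ * f₂) := by
        rintro ⟨i, hi⟩
        apply hne2
        have hc : Commute f₁ (f₁ * f₂) := by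
          have h1 := (Commute.refl (f₁ * f₂)).zpow_left i
          rwa [show (f₁ * f₂) ^ i = f₁ from hi] at h1
        exact mul_left_cancel (hc.eq.trans (mul_assoc _ _ _))
      obtain ⟨e⟩ := Cfsg.Lib.TwoGroup.equiv_dihedral (r := f₁ * f₂) (t := f₁) hf1 hinv hnot
      have htop : Subgroup.closure ({f₁ * f₂, f₁} : Set S) = ⊤ := by
        have hlt : Subgroup.zpowers (f₁ * f₂) < Subgroup.closure ({f₁ * f₂, f₁} : Set S) :=
          lt_of_le_of_ne (Subgroup.zpowers_le.mpr (Subgroup.subset_closure (Or.inl rfl)))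
            fun h => hnot (h.ge (Subgroup.subset_closure (Or.inr rfl)))
        refine Subgroup.eq_top_of_le_card _ ?_
        rw [hSc]
        obtain ⟨j, -, hj⟩ := (Nat.dvd_prime_pow Nat.prime_two).mp
          (hSc ▸ (Subgroup.closure ({f₁ * f₂, f₁} : Set S)).card_subgroup_dvd_card)
        have h1 : Nat.card (Subgroup.zpowers (f₁ * f₂)) < Nat.card (Subgroup.closure ({f₁ * f₂, f₁} : Set S)) :=
          lt_of_le_of_ne (Subgroup.card_le_of_le hlt.le) fun h =>
            hlt.ne (Subgroup.eq_of_le_of_card_ge hlt.le h.ge)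
        rw [Nat.card_zpowers, hord, hj] at h1
        rw [hj]
        refine Nat.pow_le_pow_right two_pos ?_
        have := (Nat.pow_lt_pow_iff_right (a := 2) one_lt_two).mp (show 2 ^ 2 < 2 ^ j from h1)
        omega
      rw [← hord]
      exact ⟨((Subgroup.topEquiv.symm.trans (MulEquiv.subgroupCongr htop.symm)).trans e)⟩
  rcases eq_or_ne p 2 with hp2 | hp2
  · -- the prime two
    subst hp2
    have hse : ∀ γ : MulAut S, γ s = s := by
      intro γ
      obtain ⟨i, hi⟩ := mem_powers_iff_mem_zpowers.mpr (hsaut γ)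
      have hi' : s ^ i = γ s := hi
      rw [Plane.pow_eq_pow_of_modEq hsp (Nat.mod_modEq i 2).symm] at hi'
      rcases Nat.mod_two_eq_zero_or_one i with h | h <;> rw [h] at hi'
      · exact absurd (γ.map_eq_one_iff.mp (hi'.symm.trans (pow_zero s))) hs1
      · rw [← hi', pow_one]
    -- classes of outer involutions
    set π := QuotientGroup.mk' (Subgroup.center ↥S) with hπ
    have hmk : ∀ x : S, π x = 1 ↔ x ∈ Subgroup.center S := fun x => QuotientGroup.eq_one_iff x
    have hnothree : ∀ x y w : S, x ^ 2 = 1 → y ^ 2 = 1 → w ^ 2 = 1 → π x ≠ 1 → π y ≠ 1 → π x ≠ π y →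
        π w ≠ π x * π y := by
      intro x y w hx hy hw hx1 hy1 hxy hwz
      have hexpQ : ∀ v : ↥S ⧸ Subgroup.center ↥S, v ^ 2 = 1 := fun v =>
        QuotientGroup.induction_on v fun w => by
          rw [← QuotientGroup.mk_pow, (QuotientGroup.eq_one_iff _).mpr (hxp w)]
      have hne : x * y ≠ y * x := by
        intro hc
        apply hab
        have hyx : π y ∉ Subgroup.zpowers (π x) := by
          intro h
          obtain ⟨i, hi⟩ := mem_powers_iff_mem_zpowers.mpr h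
          have hi' : π x ^ i = π y := hi
          rw [Plane.pow_eq_pow_of_modEq (hexpQ _) (Nat.mod_modEq i 2).symm] at hi'
          rcases Nat.mod_two_eq_zero_or_one i with h | h <;> rw [h] at hi'
          · exact hy1 (hi'.symm.trans (pow_zero _))
          · exact hxy ((pow_one _).symm.trans hi')
        refine ⟨⟨fun a b => ?_⟩⟩
        obtain ⟨i, j, hij⟩ := Plane.exists_coords hQ hexpQ hx1 hyx (π a)
        obtain ⟨i', j', hij'⟩ := Plane.exists_coords hQ hexpQ hx1 hyx (π b)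
        have hca : (x ^ i * y ^ j)⁻¹ * a ∈ Subgroup.center S := by
          rw [← hmk, map_mul, map_inv, map_mul, map_pow, map_pow, hij, inv_mul_cancel]
        have hcb : (x ^ i' * y ^ j')⁻¹ * b ∈ Subgroup.center S := by
          rw [← hmk, map_mul, map_inv, map_mul, map_pow, map_pow, hij', inv_mul_cancel]
        have hA : Commute (x ^ i * y ^ j) (x ^ i' * y ^ j') :=
          ((((Commute.refl _).pow_pow i i').mul_right ((show Commute x y from hc).pow_pow i j')).mul_left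
            ((((show Commute x y from hc).pow_pow i' j).symm).mul_right ((Commute.refl _).pow_pow j j')))
        have h1 := (hA.mul_right (Subgroup.mem_center_iff.mp hcb _)).mul_left
          ((show Commute ((x ^ i * y ^ j)⁻¹ * a) _ from (Subgroup.mem_center_iff.mp hca _).symm))
        rw [mul_inv_cancel_left, mul_inv_cancel_left] at h1
        exact h1.eq
      set z := (x * y)⁻¹ * w with hzdef
      have hzc : z ∈ Subgroup.center S := by
        rw [← hmk, map_mul, map_inv, map_mul, hwz, inv_mul_cancel]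
      have hz2 : (x * y) ^ 2 * z ^ 2 = 1 := by
        rw [← (show Commute (x * y) z from Subgroup.mem_center_iff.mp hzc _).mul_pow, hzdef,
          mul_inv_cancel_left, hw]
      have hxy2 : (x * y) ^ 2 = ⁅x, y⁆ := by
        have hxi : x⁻¹ = x := inv_eq_of_mul_eq_one_right (by rw [← sq, hx])
        have hyi : y⁻¹ = y := inv_eq_of_mul_eq_one_right (by rw [← sq, hy])
        rw [commutatorElement_def, hxi, hyi, sq, ← mul_assoc]
      obtain ⟨i, hi⟩ := mem_powers_iff_mem_zpowers.mpr (hcomm x y)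
      have hi' : s ^ i = ⁅x, y⁆ := hi
      obtain ⟨j, c, hc, hzc'⟩ := hCdec z hzc
      rw [hxy2, ← hi', hzc', (show Commute (s ^ j) c from Subgroup.mem_center_iff.mp (hCZ hc) _).mul_pow,
        ← pow_mul s, mul_comm j 2, pow_mul s, hsp, one_pow, one_mul] at hz2
      have h2 : s ^ i ∈ C := by
        rw [eq_inv_of_mul_eq_one_left hz2]
        exact inv_mem (pow_mem hc 2)
      obtain ⟨t, ht⟩ := hCs i h2
      exact hne (commutatorElement_eq_one_iff_mul_comm.mp (by rw [← hi', ht, pow_mul, hsp, one_pow]))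
    -- classes of essential involutions are fixed
    have hfixclass : ∀ γ ∈ F.autGroup S, ∀ x : S, x ^ 2 = 1 → π x ≠ 1 → π (γ x) = π x := by
      intro γ hγ x hx hx1
      by_contra hne
      set y := γ x with hy
      have hy2 : y ^ 2 = 1 := by rw [hy, ← map_pow, hx, map_one]
      have hne1 : ∀ w : S, π w ≠ 1 → π (γ w) ≠ 1 := fun w hw h => hw ((hmk w).mpr (by
        have h1 := hautZ γ⁻¹ _ ((hmk _).mp h)
        rwa [Transvection.inv_app] at h1))
      have hy1 : π y ≠ 1 := hne1 x hx1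
      have hcongr : ∀ a b : S, π a = π b → π (γ a) = π (γ b) := fun a b h => by
        have h1 : a⁻¹ * b ∈ Subgroup.center S := by rw [← hmk, map_mul, map_inv, h, inv_mul_cancel]
        have h2 : (γ a)⁻¹ * γ b ∈ Subgroup.center S := by
          rw [← map_inv, ← map_mul]; exact hautZ γ _ h1
        rw [← hmk, map_mul, map_inv, inv_mul_eq_one] at h2
        exact h2
      have hinj : ∀ a b : S, π (γ a) = π (γ b) → π a = π b := fun a b h => by
        have h1 : (γ a)⁻¹ * γ b ∈ Subgroup.center S := by rw [← hmk, map_mul, map_inv, h, inv_mul_cancel]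
        have h2 := hautZ γ⁻¹ _ h1
        rw [map_mul, map_inv, Transvection.inv_app, Transvection.inv_app] at h2
        rw [← hmk, map_mul, map_inv, inv_mul_eq_one] at h2
        exact h2
      have hexpQ : ∀ v : ↥S ⧸ Subgroup.center ↥S, v ^ 2 = 1 := fun v =>
        QuotientGroup.induction_on v fun w => by
          rw [← QuotientGroup.mk_pow, (QuotientGroup.eq_one_iff _).mpr (hxp w)]
      have hyy : π (γ y) = π x := by
        have hyx : π y ∉ Subgroup.zpowers (π x) := by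
          intro h
          obtain ⟨i, hi⟩ := mem_powers_iff_mem_zpowers.mpr h
          have hi' : π x ^ i = π y := hi
          rw [Plane.pow_eq_pow_of_modEq (hexpQ _) (Nat.mod_modEq i 2).symm] at hi'
          rcases Nat.mod_two_eq_zero_or_one i with h | h <;> rw [h] at hi'
          · exact hy1 (hi'.symm.trans (pow_zero _))
          · exact hne ((pow_one _).symm.trans hi').symm
        obtain ⟨i, j, hij⟩ := Plane.exists_coords hQ hexpQ hx1 hyx (π (γ y))
        rw [Plane.pow_eq_pow_of_modEq (hexpQ _) (Nat.mod_modEq i 2).symm,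
          Plane.pow_eq_pow_of_modEq (hexpQ _) (Nat.mod_modEq j 2).symm] at hij
        rcases Nat.mod_two_eq_zero_or_one i with hi | hi <;>
          rcases Nat.mod_two_eq_zero_or_one j with hj | hj <;> rw [hi, hj] at hij
        · rw [pow_zero, pow_zero, one_mul] at hij
          exact absurd hij (hne1 y hy1)
        · rw [pow_zero, one_mul, pow_one] at hij
          exact absurd (hinj y x hij) hne
        · rw [pow_zero, mul_one, pow_one] at hij
          exact hij
        · rw [pow_one, pow_one] at hij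
          exact absurd hij (hnothree x y (γ y) hx hy2 (by rw [← map_pow, hy2, map_one]) hx1 hy1
            (Ne.symm hne))
      have hiter : ∀ n : ℕ, π ((γ ^ (2 * n + 1)) x) = π y := by
        intro n
        induction n with
        | zero => simp [hy]
        | succ n ih =>
          rw [show 2 * (n + 1) + 1 = (2 * n + 1) + 1 + 1 by ring, pow_succ', pow_succ', MulAut.mul_apply,
            MulAut.mul_apply, hcongr _ _ (hcongr _ _ ih), hcongr _ _ hyy]
      obtain ⟨k, hk⟩ : ∃ k, m = 2 * k + 1 := ⟨m / 2, by omega⟩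
      obtain ⟨w, hw⟩ := hinnpow γ hγ
      have h1 := hiter k
      rw [← hk, ← hw, MulAut.conj_apply, map_mul, map_mul, map_inv, Plane.comm hQ (π w),
        mul_inv_cancel_right] at h1
      exact hne h1.symm
    -- the automorphisms of `S` act on each essential subgroup
    have hstab : ∀ {P : Subgroup Ω} {f : S} {CP : Subgroup S}, F.IsEssential 2 P → (f : Ω) ∈ P → f ^ 2 = 1 →
        f ∉ Subgroup.center S → (∀ z ∈ Subgroup.center S, (z : Ω) ∈ P) → CP ≤ Subgroup.center S →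
        (∀ x : S, (x : Ω) ∈ P → ∃ i j : ℕ, ∃ c ∈ CP, x = s ^ i * f ^ j * c) →
        ∀ γ ∈ F.autGroup S, ∃ α ∈ F.autGroup P, ∀ (x : P) (hx : (x : Ω) ∈ S),
          ((α x : P) : Ω) = ((γ ⟨(x : Ω), hx⟩ : S) : Ω) := by
      intro P f CP hP hfP hfp hfZ hZP hCPZ hPdec γ hγ
      have hval : ∀ x : S, (x : Ω) ∈ P → ((γ x : S) : Ω) ∈ P := by
        intro x hx
        obtain ⟨i, j, c, hc, rfl⟩ := hPdec x hx
        have hf' : ((γ f : S) : Ω) ∈ P := by
          have h1 := hfixclass γ hγ f hfp (fun h => hfZ ((hmk f).mp h))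
          have h2 : f⁻¹ * γ f ∈ Subgroup.center S := by rw [← hmk, map_mul, map_inv, h1, inv_mul_cancel]
          rw [← mul_inv_cancel_left f (γ f)]
          exact P.mul_mem hfP (hZP _ h2)
        rw [map_mul, map_mul, map_pow, map_pow, hse γ]
        simp only [Subgroup.coe_mul, SubgroupClass.coe_pow]
        exact P.mul_mem (P.mul_mem (pow_mem (hZP s hsZ) i) (pow_mem hf' j))
          (hZP _ (hautZ γ c (hCPZ hc)))
      have hPS := hP.1.1
      have hmem : ((S.subtype.comp γ.toMonoidHom).comp (Subgroup.inclusion hPS)) ∈ F.Hom P :=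
        restrict_mem ((mem_autGroup le_rfl).1 hγ) hPS
      have hr := range_eq_of_card_le hmem hPS (fun x => hval ⟨(x : Ω), hPS x.2⟩ x.2) le_rfl
      exact ⟨homIso hmem hr, (mem_autGroup hPS).2 (isoIn_homIso hmem hr), fun x hx => by rw [coe_homIso]; rfl⟩
    -- the displacement of the centre
    set E : Subgroup S := Subgroup.closure {d | ∃ γ ∈ F.autGroup S, ∃ z ∈ Subgroup.center S, d = z⁻¹ * γ z}
      with hE
    have hEle : ∀ {P : Subgroup Ω} {f : S} {CP : Subgroup S}, F.IsEssential 2 P → (f : Ω) ∈ P → f ^ 2 = 1 →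
        f ∉ Subgroup.center S → (∀ z ∈ Subgroup.center S, (z : Ω) ∈ P) → CP ≤ Subgroup.center S →
        (∀ x : S, (x : Ω) ∈ P → ∃ i j : ℕ, ∃ c ∈ CP, x = s ^ i * f ^ j * c) →
        (∀ z ∈ Subgroup.center S, ∃ i : ℕ, ∃ c ∈ CP, z = s ^ i * c) →
        (∀ α ∈ F.autGroup P, ∀ x : P, ∀ c ∈ CP, (x : Ω) = c → ∃ c' ∈ CP, ((α x : P) : Ω) = c') →
        E ≤ CP := by
      intro P f CP hP hfP hfp hfZ hZP hCPZ hPdec hZdec hinv
      refine (Subgroup.closure_le _).mpr ?_
      rintro _ ⟨γ, hγ, z, hz, rfl⟩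
      obtain ⟨i, c, hc, rfl⟩ := hZdec z hz
      obtain ⟨α, hα, hαx⟩ := hstab hP hfP hfp hfZ hZP hCPZ hPdec γ hγ
      obtain ⟨c', hc', hc'e⟩ := hinv α hα ⟨(c : Ω), hZP c (hCPZ hc)⟩ c hc rfl
      rw [hαx _ c.2] at hc'e
      have hγc : γ c = c' := Subtype.ext hc'e
      rw [map_mul, map_pow, hse, mul_inv_rev, mul_assoc, inv_mul_cancel_left, hγc]
      exact mul_mem (inv_mem hc) hc'
    -- a second essential subgroup
    obtain ⟨P₂, hP₂, hP₂ne⟩ : ∃ P₂, F.IsEssential 2 P₂ ∧ P₂ ≠ P₁ := by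
      by_contra h
      push Not at h
      have hle : P₁ ≤ F.core := le_sSup (isNormal_of_forall_essential hS hF fun P hP => by
        rcases hP with rfl | hP
        · refine ⟨hP₁.1.1, fun γ hγ => ?_⟩
          haveI : Finite ↥(P₁.subgroupOf P) := inferInstance
          refine Subgroup.eq_of_le_of_card_ge ?_ (Subgroup.card_map_of_injective γ.injective).ge
          rintro _ ⟨x, hx, rfl⟩
          obtain ⟨α, -, hαx⟩ := hstab hP₁ hf₁P hf₁p hf₁Z hZP₁ hCZ hP₁dec γ hγ
          rw [Subgroup.mem_subgroupOf]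
          show ((γ x : _) : Ω) ∈ P₁
          rw [← hαx ⟨(x : Ω), hx⟩ x.2]; exact (α ⟨(x : Ω), hx⟩).2
        · obtain rfl := h P hP
          exact ⟨le_rfl, fun α _ => by
            rw [Subgroup.subgroupOf_self, Subgroup.map_top_of_surjective _ α.surjective]⟩)
      rw [hcore, le_bot_iff] at hle
      exact hs1 (Subtype.ext (Subgroup.mem_bot.mp (hle ▸ hZP₁ s hsZ)))
    obtain ⟨f₂, C₂, hf₂P, hf₂p, hf₂Z, hC₂Z, hC₂s, hC₂dec, hZP₂, hP₂dec, hCinv₂, hpl₂, -, htwo₂⟩ :=
      ess_data hS hF hP₂ hQ hxp hsZ hs1 hsp hcomm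
    have h1ne : π f₁ ≠ 1 := fun h => hf₁Z ((hmk _).mp h)
    have h2ne : π f₂ ≠ 1 := fun h => hf₂Z ((hmk _).mp h)
    have h12 : π f₁ ≠ π f₂ := by
      intro h12
      apply hP₂ne
      have hz : f₁⁻¹ * f₂ ∈ Subgroup.center S := by rw [← hmk, map_mul, map_inv, h12, inv_mul_cancel]
      have hf₂1 : (f₂ : Ω) ∈ P₁ := by
        rw [← mul_inv_cancel_left f₁ f₂]; exact P₁.mul_mem hf₁P (hZP₁ _ hz)
      have hf₁2 : (f₁ : Ω) ∈ P₂ := by
        rw [show f₁ = f₂ * (f₁⁻¹ * f₂)⁻¹ by group]; exact P₂.mul_mem hf₂P (hZP₂ _ (inv_mem hz))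
      refine le_antisymm (fun x hx => ?_) fun x hx => ?_
      · obtain ⟨i, j, c, hc, hxc⟩ := hP₂dec ⟨x, hP₂.1.1 hx⟩ hx
        rw [show x = ((s ^ i * f₂ ^ j * c : S) : Ω) from congrArg Subtype.val hxc]
        simp only [Subgroup.coe_mul, SubgroupClass.coe_pow]
        exact P₁.mul_mem (P₁.mul_mem (pow_mem (hZP₁ s hsZ) i) (pow_mem hf₂1 j)) (hZP₁ c (hC₂Z hc))
      · obtain ⟨i, j, c, hc, hxc⟩ := hP₁dec ⟨x, hP₁.1.1 hx⟩ hx
        rw [show x = ((s ^ i * f₁ ^ j * c : S) : Ω) from congrArg Subtype.val hxc]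
        simp only [Subgroup.coe_mul, SubgroupClass.coe_pow]
        exact P₂.mul_mem (P₂.mul_mem (pow_mem (hZP₂ s hsZ) i) (pow_mem hf₁2 j)) (hZP₂ c (hCZ hc))
    have hexpQ : ∀ v : ↥S ⧸ Subgroup.center ↥S, v ^ 2 = 1 := fun v =>
      QuotientGroup.induction_on v fun w => by
        rw [← QuotientGroup.mk_pow, (QuotientGroup.eq_one_iff _).mpr (hxp w)]
    have hf21 : π f₂ ∉ Subgroup.zpowers (π f₁) := by
      intro h
      obtain ⟨i, hi⟩ := mem_powers_iff_mem_zpowers.mpr h
      have hi' : π f₁ ^ i = π f₂ := hi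
      rw [Plane.pow_eq_pow_of_modEq (hexpQ _) (Nat.mod_modEq i 2).symm] at hi'
      rcases Nat.mod_two_eq_zero_or_one i with h | h <;> rw [h] at hi'
      · exact h2ne (hi'.symm.trans (pow_zero _))
      · exact h12 ((pow_one _).symm.trans hi')
    -- the subgroup carrying all displacements
    set T : Subgroup S := Subgroup.closure ({s, f₁, f₂} ∪
      {d | ∃ γ ∈ F.autGroup S, ∃ z ∈ Subgroup.center S, d = z⁻¹ * γ z} : Set S) with hT
    have hTs : s ∈ T := Subgroup.subset_closure (Or.inl (by simp))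
    have hTf₁ : f₁ ∈ T := Subgroup.subset_closure (Or.inl (by simp))
    have hTf₂ : f₂ ∈ T := Subgroup.subset_closure (Or.inl (by simp))
    have hTE : E ≤ T := Subgroup.closure_mono Set.subset_union_right
    have hTconj : ∀ (g x : S), x ∈ T → g * x * g⁻¹ ∈ T := fun g x hx => by
      rw [show g * x * g⁻¹ = ⁅g, x⁆ * x by group]
      exact T.mul_mem (Subgroup.zpowers_le.mpr hTs (hcomm g x)) hx
    have hTdisp : ∀ γ ∈ F.autGroup S, ∀ x : S, x⁻¹ * γ x ∈ T := by
      intro γ hγ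
      have hplane : ∀ {P : Subgroup Ω} {f : S} {CP : Subgroup S}, F.IsEssential 2 P → (f : Ω) ∈ P →
          f ^ 2 = 1 → f ∉ Subgroup.center S → (∀ z ∈ Subgroup.center S, (z : Ω) ∈ P) →
          CP ≤ Subgroup.center S → f ∈ T →
          (∀ x : S, (x : Ω) ∈ P → ∃ i j : ℕ, ∃ c ∈ CP, x = s ^ i * f ^ j * c) →
          (∀ α ∈ F.autGroup P, ∀ x : P, (x : Ω) = f →
            ∃ i j : ℕ, ((α x : P) : Ω) = ((s ^ i * f ^ j : S) : Ω)) →
          f⁻¹ * γ f ∈ T := by
        intro P f CP hP hfP hfp hfZ hZP hCPZ hfT hPdec hpl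
        obtain ⟨α, hα, hαx⟩ := hstab hP hfP hfp hfZ hZP hCPZ hPdec γ hγ
        obtain ⟨i, j, hij⟩ := hpl α hα ⟨(f : Ω), hfP⟩ rfl
        rw [hαx _ f.2] at hij
        rw [show γ f = s ^ i * f ^ j from Subtype.ext hij]
        exact T.mul_mem (T.inv_mem hfT) (T.mul_mem (T.pow_mem hTs i) (T.pow_mem hfT j))
      have hd1 := hplane hP₁ hf₁P hf₁p hf₁Z hZP₁ hCZ hTf₁ hP₁dec hpl₁
      have hd2 := hplane hP₂ hf₂P hf₂p hf₂Z hZP₂ hC₂Z hTf₂ hP₂dec hpl₂
      let D : Subgroup S :=
        { carrier := {x | x⁻¹ * γ x ∈ T}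
          one_mem' := by simp
          mul_mem' := fun {a b} ha hb => by
            show (a * b)⁻¹ * γ (a * b) ∈ T
            rw [map_mul, show (a * b)⁻¹ * (γ a * γ b) = (b⁻¹ * (a⁻¹ * γ a) * b) * (b⁻¹ * γ b) by group]
            exact T.mul_mem (by simpa using hTconj b⁻¹ _ ha) hb
          inv_mem' := fun {a} ha => by
            show a⁻¹⁻¹ * γ a⁻¹ ∈ T
            rw [map_inv, inv_inv, show a * (γ a)⁻¹ = a * (a⁻¹ * γ a)⁻¹ * a⁻¹ by group]
            exact hTconj a _ (T.inv_mem ha) }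
      intro x
      obtain ⟨i, j, hij⟩ := Plane.exists_coords hQ hexpQ h1ne hf21 (π x)
      have hz : (f₁ ^ i * f₂ ^ j)⁻¹ * x ∈ Subgroup.center S := by
        rw [← hmk, map_mul, map_inv, map_mul, map_pow, map_pow, hij, inv_mul_cancel]
      show x ∈ D
      rw [← mul_inv_cancel_left (f₁ ^ i * f₂ ^ j) x]
      exact D.mul_mem (D.mul_mem (D.pow_mem hd1 i) (D.pow_mem hd2 j))
        (hTE (Subgroup.subset_closure ⟨γ, hγ, _, hz, rfl⟩))
    -- every essential subgroup is one of the two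
    have honly : ∀ P, F.IsEssential 2 P → P = P₁ ∨ P = P₂ := by
      intro P hP
      obtain ⟨f, CP, hfP, hfp, hfZ, hCPZ, -, -, hZP, hPdec, -, -, -, -⟩ :=
        ess_data hS hF hP hQ hxp hsZ hs1 hsp hcomm
      have hsame : ∀ {Q : Subgroup Ω} {g : S} {CQ : Subgroup S}, (g : Ω) ∈ Q → Q ≤ S →
          (∀ z ∈ Subgroup.center S, (z : Ω) ∈ Q) → CQ ≤ Subgroup.center S →
          (∀ x : S, (x : Ω) ∈ Q → ∃ i j : ℕ, ∃ c ∈ CQ, x = s ^ i * g ^ j * c) →
          π f = π g → P = Q := by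
        intro Q g CQ hgQ hQS hZQ hCQZ hQdec hfg
        have hz : f⁻¹ * g ∈ Subgroup.center S := by rw [← hmk, map_mul, map_inv, hfg, inv_mul_cancel]
        have hgP : (g : Ω) ∈ P := by rw [← mul_inv_cancel_left f g]; exact P.mul_mem hfP (hZP _ hz)
        have hfQ : (f : Ω) ∈ Q := by
          rw [show f = g * (f⁻¹ * g)⁻¹ by group]; exact Q.mul_mem hgQ (hZQ _ (inv_mem hz))
        refine le_antisymm (fun x hx => ?_) fun x hx => ?_
        · obtain ⟨i, j, c, hc, hxc⟩ := hPdec ⟨x, hP.1.1 hx⟩ hx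
          rw [show x = ((s ^ i * f ^ j * c : S) : Ω) from congrArg Subtype.val hxc]
          simp only [Subgroup.coe_mul, SubgroupClass.coe_pow]
          exact Q.mul_mem (Q.mul_mem (pow_mem (hZQ s hsZ) i) (pow_mem hfQ j)) (hZQ c (hCPZ hc))
        · obtain ⟨i, j, c, hc, hxc⟩ := hQdec ⟨x, hQS hx⟩ hx
          rw [show x = ((s ^ i * g ^ j * c : S) : Ω) from congrArg Subtype.val hxc]
          simp only [Subgroup.coe_mul, SubgroupClass.coe_pow]
          exact P.mul_mem (P.mul_mem (pow_mem (hZP s hsZ) i) (pow_mem hgP j)) (hZP c (hCQZ hc))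
      obtain ⟨i, j, hij⟩ := Plane.exists_coords hQ hexpQ h1ne hf21 (π f)
      rw [Plane.pow_eq_pow_of_modEq (hexpQ _) (Nat.mod_modEq i 2).symm,
        Plane.pow_eq_pow_of_modEq (hexpQ _) (Nat.mod_modEq j 2).symm] at hij
      rcases Nat.mod_two_eq_zero_or_one i with hi | hi <;>
        rcases Nat.mod_two_eq_zero_or_one j with hj | hj <;> rw [hi, hj] at hij
      · rw [pow_zero, pow_zero, one_mul] at hij
        exact absurd ((hmk f).mp hij) hfZ
      · rw [pow_zero, one_mul, pow_one] at hij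
        exact Or.inr (hsame hf₂P hP₂.1.1 hZP₂ hC₂Z hP₂dec hij)
      · rw [pow_zero, mul_one, pow_one] at hij
        exact Or.inl (hsame hf₁P hP₁.1.1 hZP₁ hCZ hP₁dec hij)
      · rw [pow_one, pow_one] at hij
        exact absurd hij (hnothree f₁ f₂ f hf₁p hf₂p hfp h1ne h2ne h12)
    have hfoc : F.focalSubgroup ≤ T.map S.subtype := by
      refine focal_le_of_displacement hS hF _ (fun g hg x hx => ?_) fun P hP α hα x => ?_
      · refine ⟨⁅(⟨x, hx⟩ : S)⁻¹, ⟨g, hg⟩⁆, Subgroup.zpowers_le.mpr hTs (hcomm _ _), ?_⟩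
        simp [commutatorElement_def, mul_assoc]
      · rcases hP with rfl | hP
        · exact ⟨x⁻¹ * α x, hTdisp α hα x, by simp⟩
        · rcases honly P hP with rfl | rfl
          · exact htwo₁ rfl T hTs hTf₁ hTdisp α hα x
          · exact htwo₂ rfl T hTs hTf₂ hTdisp α hα x
    have hTtop : ∀ x : S, x ∈ T := by
      intro x
      obtain ⟨y, hy, hyx⟩ := hfoc (hyperfocal_le_focal_displacement 2 (hhyp.ge x.2))
      rwa [← Subtype.ext hyx]
    have hEC₁ := hEle hP₁ hf₁P hf₁p hf₁Z hZP₁ hCZ hP₁dec hCdec hCinv₁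
    have hEC₂ := hEle hP₂ hf₂P hf₂p hf₂Z hZP₂ hC₂Z hP₂dec hC₂dec hCinv₂
    have hEZ : E ≤ Subgroup.center S := hEC₁.trans hCZ
    set W : Subgroup S := Subgroup.zpowers s ⊔ E with hWdef
    haveI hWn : W.Normal := ⟨fun x hx g => by
      rw [Subgroup.mem_center_iff.mp ((sup_le (Subgroup.zpowers_le.mpr hsZ) hEZ) hx) g, mul_inv_cancel_right]
      exact hx⟩
    set ρ := QuotientGroup.mk' W with hρ
    have hρs : ρ s = 1 := (QuotientGroup.eq_one_iff _).mpr (Subgroup.mem_sup_left (Subgroup.mem_zpowers s))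
    have hρ12 : Commute (ρ f₁) (ρ f₂) := by
      refine commutatorElement_eq_one_iff_mul_comm.mp ?_
      rw [← map_commutatorElement]
      exact (QuotientGroup.eq_one_iff _).mpr (Subgroup.mem_sup_left (hcomm _ _))
    have hnf : ∀ x ∈ T, ∃ i j : ℕ, ρ x = ρ f₁ ^ i * ρ f₂ ^ j := by
      intro x hx
      refine Subgroup.closure_induction (p := fun x _ => ∃ i j : ℕ, ρ x = ρ f₁ ^ i * ρ f₂ ^ j) ?_
        ⟨0, 0, by simp⟩ ?_ ?_ hx
      · rintro x ((rfl | rfl | rfl) | ⟨γ, hγ, z, hz, rfl⟩)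
        · exact ⟨0, 0, by simp [hρs]⟩
        · exact ⟨1, 0, by simp⟩
        · exact ⟨0, 1, by simp⟩
        · refine ⟨0, 0, ?_⟩
          rw [pow_zero, pow_zero, one_mul]
          exact (QuotientGroup.eq_one_iff _).mpr (Subgroup.mem_sup_right
            (Subgroup.subset_closure ⟨γ, hγ, z, hz, rfl⟩))
      · rintro a b _ _ ⟨i, j, ha⟩ ⟨i', j', hb⟩
        refine ⟨i + i', j + j', ?_⟩
        rw [map_mul, ha, hb, pow_add, pow_add]
        exact (hρ12.symm.pow_pow j i').mul_mul_mul_comm _ _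
      · rintro a _ ⟨i, j, ha⟩
        refine ⟨i, j, ?_⟩
        have h2 : ∀ f : S, f ^ 2 = 1 → (ρ f)⁻¹ = ρ f := fun f hf =>
          inv_eq_of_mul_eq_one_right (by rw [← map_mul, ← sq, hf, map_one])
        rw [map_inv, ha, mul_inv_rev, ← inv_pow, ← inv_pow, h2 f₁ hf₁p, h2 f₂ hf₂p,
          (hρ12.symm.pow_pow j i).eq]
    have hsplit : ∀ z ∈ Subgroup.center S, ∃ k : ℕ, ∃ d ∈ E, z = s ^ k * d := by
      intro z hz
      obtain ⟨i, j, hij⟩ := hnf z (hTtop z)
      have hwz : (f₁ ^ i * f₂ ^ j)⁻¹ * z ∈ W := by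
        rw [← QuotientGroup.eq_one_iff, ← QuotientGroup.mk'_apply, map_mul, map_inv, map_mul, map_pow,
          map_pow, ← hρ, hij, inv_mul_cancel]
      have hπ0 : π f₁ ^ i * π f₂ ^ j = 1 := by
        have h1 := (sup_le (Subgroup.zpowers_le.mpr hsZ) hEZ) hwz
        rw [← hmk, map_mul, map_inv, (hmk z).mpr hz, mul_one, inv_eq_one, map_mul, map_pow, map_pow] at h1
        exact h1
      have hj : 2 ∣ j := by
        by_contra hj
        apply hf21
        refine Plane.mem_of_pow_mem (p := 2) (k := 1) (m := j) (by rw [pow_one, hexpQ]) hj ?_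
        rw [eq_inv_of_mul_eq_one_right hπ0]
        exact inv_mem (Subgroup.pow_mem _ (Subgroup.mem_zpowers _) i)
      obtain ⟨j', rfl⟩ := hj
      rw [pow_mul, hexpQ, one_pow, mul_one] at hπ0
      have hi : 2 ∣ i := orderOf_eq_prime (hexpQ _) h1ne ▸ orderOf_dvd_of_pow_eq_one hπ0
      obtain ⟨i', rfl⟩ := hi
      rw [pow_mul, pow_mul, hf₁p, hf₂p, one_pow, one_pow, one_mul, inv_one, one_mul] at hwz
      obtain ⟨a, ha, d, hd, had⟩ := Subgroup.mem_sup_of_normal_right (t := E)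
        (ht := ⟨fun x hx g => by
          rw [Subgroup.mem_center_iff.mp (hEZ hx) g, mul_inv_cancel_right]; exact hx⟩) |>.mp hwz
      obtain ⟨k, rfl⟩ := mem_powers_iff_mem_zpowers.mpr ha
      exact ⟨k, d, hd, had.symm⟩
    have hCE : C ≤ E := by
      intro c hc
      obtain ⟨k, d, hd, hcd⟩ := hsplit c (hCZ hc)
      obtain ⟨t, ht⟩ := hCs k (by
        rw [show s ^ k = c * d⁻¹ by rw [hcd, mul_inv_cancel_right]]
        exact mul_mem hc (inv_mem (hEC₁ hd)))
      rw [hcd, ht, pow_mul, hsp, one_pow, one_mul]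
      exact hd
    have hC₂E : C₂ ≤ E := by
      intro c hc
      obtain ⟨k, d, hd, hcd⟩ := hsplit c (hC₂Z hc)
      obtain ⟨t, ht⟩ := hC₂s k (by
        rw [show s ^ k = c * d⁻¹ by rw [hcd, mul_inv_cancel_right]]
        exact mul_mem hc (inv_mem (hEC₂ hd)))
      rw [hcd, ht, pow_mul, hsp, one_pow, one_mul]
      exact hd
    refine ⟨?_, fun h => absurd rfl h, fun _ => ⟨f₂, hf₂p, ?_⟩⟩
    · -- `C` is normal in the system
      have hn : F.IsNormal (C.map S.subtype) := isNormal_of_forall_essential hS hF fun P hP => by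
        rcases hP with rfl | hP
        · refine ⟨by rintro _ ⟨c, -, rfl⟩; exact c.2, fun γ hγ => ?_⟩
          refine Subgroup.eq_of_le_of_card_ge ?_ (Subgroup.card_map_of_injective γ.injective).ge
          rintro _ ⟨x, hx, rfl⟩
          rw [Subgroup.mem_subgroupOf]
          obtain ⟨c, hc, hcx⟩ := hx
          obtain rfl : c = x := Subtype.ext hcx
          obtain ⟨α, hα, hαx⟩ := hstab hP₁ hf₁P hf₁p hf₁Z hZP₁ hCZ hP₁dec γ hγ
          obtain ⟨c', hc', hc'e⟩ := hCinv₁ α hα ⟨(c : Ω), hZP₁ c (hCZ hc)⟩ c hc rfl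
          rw [hαx _ c.2] at hc'e
          exact ⟨c', hc', hc'e.symm⟩
        · haveI := finite_of_le hP.1.1
          have hcase : ∃ C' : Subgroup S, C' = C ∧ C' ≤ Subgroup.center S ∧
              (∀ z ∈ Subgroup.center S, (z : Ω) ∈ P) ∧
              ∀ α ∈ F.autGroup P, ∀ x : P, ∀ c ∈ C', (x : Ω) = c → ∃ c' ∈ C', ((α x : P) : Ω) = c' := by
            rcases honly P hP with rfl | rfl
            · exact ⟨C, rfl, hCZ, hZP₁, hCinv₁⟩
            · exact ⟨C₂, le_antisymm (hC₂E.trans hEC₁) (hCE.trans hEC₂), hC₂Z, hZP₂, hCinv₂⟩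
          obtain ⟨C', rfl, hC'Z, hZP, hinv⟩ := hcase
          refine ⟨by rintro _ ⟨c, hc, rfl⟩; exact hZP c (hC'Z hc), fun α hα => ?_⟩
          refine Subgroup.eq_of_le_of_card_ge ?_ (Subgroup.card_map_of_injective α.injective).ge
          rintro _ ⟨x, ⟨c, hc, hcx⟩, rfl⟩
          obtain ⟨c', hc', hc'e⟩ := hinv α hα x c hc hcx.symm
          exact ⟨c', hc', hc'e.symm⟩
      have hle : C.map S.subtype ≤ F.core := le_sSup hn
      rw [hcore, le_bot_iff, Subgroup.map_eq_bot_iff_of_injective _ S.subtype_injective] at hle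
      exact hle
    · intro hcm
      refine hnothree f₁ f₂ (f₁ * f₂) hf₁p hf₂p ?_ h1ne h2ne h12 (map_mul π f₁ f₂)
      rw [(show Commute f₁ f₂ from hcm).mul_pow, hf₁p, hf₂p, one_mul]
  · -- odd primes
    obtain ⟨D, hD, hDs, hDC, g, hgP, hgcoset, hgp⟩ := hodd₁ hp2
    have hp' : p.Prime := Fact.out
    have hDz : ∀ z ∈ Subgroup.center S, D z = z → z ∈ C := by
      intro z hz hfix
      obtain ⟨i, c, hc, rfl⟩ := hCdec z hz
      rw [map_mul, map_pow, hDs, hDC c hc, ← pow_mul, mul_right_cancel_iff] at hfix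
      have h1 := Plane.modEq_of_pow_eq hsp hs1 hfix
      have h2 : p ∣ i := by
        have h3 := (Nat.modEq_iff_dvd' (show i ≤ 2 * i by omega)).mp h1.symm
        rwa [show 2 * i - i = i by omega] at h3
      obtain ⟨t, rfl⟩ := h2
      rw [pow_mul, hsp, one_pow, one_mul]
      exact hc
    -- an automorphism doubling `s` and trivial modulo it agrees with `D` on the centre
    have hagree : ∀ γ ∈ F.autGroup S, γ s = s ^ 2 →
        (∀ z ∈ Subgroup.center S, z⁻¹ * γ z ∈ Subgroup.zpowers s) → ∀ z ∈ Subgroup.center S, γ z = D z := by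
      intro γ hγ hγs hγd z hz
      obtain ⟨i, c, hc, rfl⟩ := hCdec z hz
      rw [map_mul, map_mul, map_pow, map_pow, hγs, hDs, hDC c hc]
      congr 1
      obtain ⟨k, hk⟩ := mem_powers_iff_mem_zpowers.mpr (hγd c (hCZ hc))
      have hk' : γ c = c * s ^ k := by rw [show s ^ k = _ from hk, mul_inv_cancel_left]
      have h1 := heqZ (D⁻¹ * γ) ((F.autGroup S).mul_mem ((F.autGroup S).inv_mem hD) hγ)
        (by rw [MulAut.mul_apply, hγs, ← hDs, Transvection.inv_app]) c (hCZ hc) ?_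
      · rw [MulAut.mul_apply] at h1
        have h2 := congrArg D h1
        rw [← MulAut.mul_apply, mul_inv_cancel, MulAut.one_apply, hDC c hc] at h2
        exact h2
      · rw [MulAut.mul_apply, hk', map_mul, map_pow]
        have hDic : D⁻¹ c = c := by conv_lhs => rw [← hDC c hc]; rw [Transvection.inv_app]
        rw [hDic, inv_mul_cancel_left]
        exact Subgroup.pow_mem _ (hsaut D⁻¹) k
    have hDdisp : ∀ z ∈ Subgroup.center S, z⁻¹ * D z ∈ Subgroup.zpowers s := by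
      intro z hz
      obtain ⟨i, c, hc, rfl⟩ := hCdec z hz
      rw [map_mul, map_pow, hDs, hDC c hc, mul_inv_rev, mul_assoc, ← mul_assoc (s ^ i)⁻¹,
        ← (show Commute ((s ^ i)⁻¹ * (s ^ 2) ^ i) c from Subgroup.mem_center_iff.mp (hCZ hc) _).eq.symm,
        inv_mul_cancel_left]
      exact mul_mem (inv_mem (Subgroup.pow_mem _ (Subgroup.mem_zpowers s) i))
        (Subgroup.pow_mem _ (Subgroup.pow_mem _ (Subgroup.mem_zpowers s) 2) i)
    have hinvS : ∀ γ ∈ F.autGroup S, ∀ c ∈ C, γ c ∈ C := by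
      intro γ hγ c hc
      have hsym : ∀ x : S, γ (γ⁻¹ x) = x := fun x => by
        rw [← MulAut.mul_apply, mul_inv_cancel, MulAut.one_apply]
      refine hDz _ (hautZ γ c (hCZ hc)) ?_
      have h1 := hagree (γ * D * γ⁻¹) ((F.autGroup S).mul_mem ((F.autGroup S).mul_mem hγ hD)
        ((F.autGroup S).inv_mem hγ)) ?_ ?_ (γ c) (hautZ γ c (hCZ hc))
      · rw [MulAut.mul_apply, MulAut.mul_apply, Transvection.inv_app, hDC c hc] at h1
        exact h1.symm
      · obtain ⟨k, hk⟩ := mem_powers_iff_mem_zpowers.mpr (hsaut γ⁻¹)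
        have hk' : s ^ k = γ⁻¹ s := hk
        rw [MulAut.mul_apply, MulAut.mul_apply, ← hk', map_pow, hDs, ← pow_mul, mul_comm 2 k, pow_mul,
          hk', map_pow, hsym]
      · intro z hz
        obtain ⟨k, hk⟩ := hDdisp (γ⁻¹ z) (hautZ γ⁻¹ z hz)
        have h2 : z⁻¹ * (γ * D * γ⁻¹) z = γ ((γ⁻¹ z)⁻¹ * D (γ⁻¹ z)) := by
          rw [map_mul, map_inv, hsym, MulAut.mul_apply, MulAut.mul_apply]
        rw [h2, ← (show s ^ k = _ from hk), map_zpow]
        exact zpow_mem (hsaut γ) k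
    have hsame : ∀ P, F.IsEssential p P → (∀ z ∈ Subgroup.center S, (z : Ω) ∈ P) ∧
        ∀ α ∈ F.autGroup P, ∀ x : P, ∀ c ∈ C, (x : Ω) = c → ∃ c' ∈ C, ((α x : P) : Ω) = c' := by
      intro P hP
      obtain ⟨f, CP, -, -, -, hCPZ, -, hCPdec, hZP, -, hinv, -, hodd, -⟩ :=
        ess_data hS hF hP hQ hxp hsZ hs1 hsp hcomm
      obtain ⟨D', hD', hD's, hD'C, -⟩ := hodd hp2
      have hd' : ∀ z ∈ Subgroup.center S, z⁻¹ * D' z ∈ Subgroup.zpowers s := by
        intro z hz
        obtain ⟨i, c, hc, rfl⟩ := hCPdec z hz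
        rw [map_mul, map_pow, hD's, hD'C c hc, mul_inv_rev, mul_assoc, ← mul_assoc (s ^ i)⁻¹,
          ← (show Commute ((s ^ i)⁻¹ * (s ^ 2) ^ i) c from Subgroup.mem_center_iff.mp (hCPZ hc) _).eq.symm,
          inv_mul_cancel_left]
        exact mul_mem (inv_mem (Subgroup.pow_mem _ (Subgroup.mem_zpowers s) i))
          (Subgroup.pow_mem _ (Subgroup.pow_mem _ (Subgroup.mem_zpowers s) 2) i)
      have heq := hagree D' hD' hD's hd'
      have hCP : CP = C := by
        refine le_antisymm (fun c hc => hDz c (hCPZ hc) (by rw [← heq c (hCPZ hc), hD'C c hc])) fun c hc => ?_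
        obtain ⟨i, c', hc', hcc⟩ := hCPdec c (hCZ hc)
        have h1 : D' c = c := by rw [heq c (hCZ hc), hDC c hc]
        conv_lhs at h1 => rw [hcc, map_mul, map_pow, hD's, hD'C c' hc']
        rw [hcc, ← pow_mul, mul_right_cancel_iff] at h1
        have h2 := (Nat.modEq_iff_dvd' (show i ≤ 2 * i by omega)).mp
          (Plane.modEq_of_pow_eq hsp hs1 h1).symm
        rw [show 2 * i - i = i by omega] at h2
        obtain ⟨t, rfl⟩ := h2
        rw [hcc, pow_mul, hsp, one_pow, one_mul]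
        exact hc'
      exact ⟨hZP, hCP ▸ hinv⟩
    have hCbot : C = ⊥ := by
      have hn : F.IsNormal (C.map S.subtype) := isNormal_of_forall_essential hS hF fun P hP => by
        rcases hP with rfl | hP
        · refine ⟨by rintro _ ⟨c, -, rfl⟩; exact c.2, fun γ hγ => ?_⟩
          refine Subgroup.eq_of_le_of_card_ge ?_ (Subgroup.card_map_of_injective γ.injective).ge
          rintro _ ⟨x, hx, rfl⟩
          obtain ⟨c, hc, hcx⟩ := hx
          obtain rfl : c = x := Subtype.ext hcx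
          exact ⟨γ c, hinvS γ hγ c hc, rfl⟩
        · haveI := finite_of_le hP.1.1
          obtain ⟨hZP, hinv⟩ := hsame P hP
          refine ⟨by rintro _ ⟨c, hc, rfl⟩; exact hZP c (hCZ hc), fun α hα => ?_⟩
          refine Subgroup.eq_of_le_of_card_ge ?_ (Subgroup.card_map_of_injective α.injective).ge
          rintro _ ⟨x, ⟨c, hc, hcx⟩, rfl⟩
          obtain ⟨c', hc', hc'e⟩ := hinv α hα x c hc hcx.symm
          exact ⟨c', hc', hc'e.symm⟩
      have hle : C.map S.subtype ≤ F.core := le_sSup hn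
      rwa [hcore, le_bot_iff, Subgroup.map_eq_bot_iff_of_injective _ S.subtype_injective] at hle
    refine ⟨hCbot, fun _ => ?_, fun h => absurd h hp2⟩
    -- exponent `p`
    have hmulpow : ∀ a b : S, (a * b) ^ p = a ^ p * b ^ p := by
      intro a b
      obtain ⟨t, ht⟩ := hp'.dvd_choose_self two_ne_zero (lt_of_le_of_ne hp'.two_le (Ne.symm hp2))
      obtain ⟨i, hi⟩ := mem_powers_iff_mem_zpowers.mpr (hcomm b a)
      have hc1 : ⁅b, a⁆ ∈ Subgroup.center S := Subgroup.zpowers_le.mpr hsZ (hcomm b a)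
      rw [Huppert.mul_pow_of_central_comm a b hc1, ← (show s ^ i = _ from hi), ht, ← pow_mul, mul_left_comm,
        pow_mul, hsp, one_pow, mul_one]
    have hPexp : ∀ x : S, (x : Ω) ∈ P₁ → x ^ p = 1 := by
      intro x hx
      obtain ⟨i, j, c, hc, rfl⟩ := hP₁dec x hx
      rw [hCbot, Subgroup.mem_bot] at hc
      rw [hc, mul_one, hmulpow, ← pow_mul, ← pow_mul, mul_comm i, mul_comm j, pow_mul, pow_mul, hsp, hf₁p,
        one_pow, one_pow, one_mul]
    have hgp1 : g ^ p = 1 := by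
      obtain ⟨i, c, hc, hgi⟩ := hCdec (g ^ p) (hxp g)
      rw [hCbot, Subgroup.mem_bot] at hc
      rw [hc, mul_one] at hgi
      have h1 : D (g ^ p) = s ^ (4 * i) := by
        rw [map_pow, show D g = g ^ 4 * ((g ^ 4)⁻¹ * D g) from (mul_inv_cancel_left _ _).symm, hmulpow,
          hPexp _ hgcoset, mul_one, ← pow_mul, mul_comm, pow_mul, hgi, ← pow_mul, mul_comm]
      rw [hgi, map_pow, hDs, ← pow_mul] at h1
      have h2 := (Nat.modEq_iff_dvd' (show 2 * i ≤ 4 * i by omega)).mp (Plane.modEq_of_pow_eq hsp hs1 h1)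
      rw [show 4 * i - 2 * i = 2 * i by omega] at h2
      obtain ⟨t, rfl⟩ := (hp'.dvd_mul.mp h2).resolve_left fun h =>
        hp2 ((Nat.prime_dvd_prime_iff_eq hp' Nat.prime_two).mp h)
      rw [hgi, pow_mul, hsp, one_pow]
    have hexpQ : ∀ v : ↥S ⧸ Subgroup.center ↥S, v ^ p = 1 := fun v =>
      QuotientGroup.induction_on v fun w => by
        rw [← QuotientGroup.mk_pow, (QuotientGroup.eq_one_iff _).mpr (hxp w)]
    refine ((Nat.dvd_prime hp').mp (Monoid.exponent_dvd_of_forall_pow_eq_one fun x => ?_)).resolve_left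
      fun h1 => hab ?_
    · have hf1 : (f₁ : ↥S ⧸ Subgroup.center ↥S) ≠ 1 := fun h => hf₁Z ((QuotientGroup.eq_one_iff _).mp h)
      have hgq : (g : ↥S ⧸ Subgroup.center ↥S) ∉ Subgroup.zpowers (f₁ : ↥S ⧸ Subgroup.center ↥S) := by
        rintro ⟨i, hi⟩
        apply hgP
        have h1 : (f₁ ^ i)⁻¹ * g ∈ Subgroup.center S := QuotientGroup.eq.mp hi
        rw [← mul_inv_cancel_left (f₁ ^ i) g]
        exact P₁.mul_mem (by rw [SubgroupClass.coe_zpow]; exact zpow_mem hf₁P i) (hZP₁ _ h1)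
      obtain ⟨i, j, hij⟩ := Plane.exists_coords hQ hexpQ hf1 hgq (x : ↥S ⧸ Subgroup.center ↥S)
      have hz : (f₁ ^ i * g ^ j)⁻¹ * x ∈ Subgroup.center S := QuotientGroup.eq.mp hij.symm
      rw [← mul_inv_cancel_left (f₁ ^ i * g ^ j) x, hmulpow, hmulpow, hPexp _ (hZP₁ _ hz), mul_one,
        ← pow_mul, ← pow_mul, mul_comm i, mul_comm j, pow_mul, pow_mul, hf₁p, hgp1, one_pow, one_pow, one_mul]
    · haveI := Monoid.exp_eq_one_iff.mp h1
      exact ⟨⟨fun a b => Subsingleton.elim _ _⟩⟩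

end Cfsg.Agent.S5265
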