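import Cfsg.Statements.S2751
import Cfsg.Agent.Lib.Local.ThreeThree.Main

set_option autoImplicit false
set_option linter.style.haveILetI false
open Cfsg

namespace Cfsg.Agent.S2751

open Subgroup Cfsg.Lib Cfsg.Lib.Local

/-- Goldschmidt's bound for amalgams of index (3, 3): let M₁ and M₂ be finite subgroups of a group G such that M₁ ⊓ M₂ is a Sylow 2-subgroup of both M₁ and M₂, each quotient Mᵢ / O₂(Mᵢ) is isomorphic to the symmetric group of degree 3, and no nontrivial subgroup of M₁ ⊓ M₂ is normal in both M₁ and M₂. Then M₁ ⊓ M₂ has order at most 2^7. -/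
theorem result {G : Type*} [Group G] (M₁ M₂ : Subgroup G) [Finite M₁] [Finite M₂] (ha₁ : ∃ P : Sylow 2 M₁, (P : Subgroup M₁) = (M₁ ⊓ M₂).subgroupOf M₁) (ha₂ : ∃ P : Sylow 2 M₂, (P : Subgroup M₂) = (M₁ ⊓ M₂).subgroupOf M₂) (hb₁ : Nonempty (M₁ ⧸ Cfsg.pCore 2 M₁ ≃* Equiv.Perm (Fin 3))) (hb₂ : Nonempty (M₂ ⧸ Cfsg.pCore 2 M₂ ≃* Equiv.Perm (Fin 3))) (hc : ∀ N : Subgroup G, N ≤ M₁ ⊓ M₂ → (N.subgroupOf M₁).Normal → (N.subgroupOf M₂).Normal → N = ⊥) : Nat.card ↥(M₁ ⊓ M₂) ≤ 2 ^ 7 := by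
  set H := M₁ ⊔ M₂ with hH
  have h1 : M₁ ≤ H := le_sup_left
  have h2 : M₂ ≤ H := le_sup_right
  have hmap : ∀ M : Subgroup G, M ≤ H → (M.subgroupOf H).map H.subtype = M := fun M hM =>
    map_subgroupOf_eq_of_le hM
  haveI : Finite ↥(M₁.subgroupOf H) := Finite.of_equiv _ (subgroupOfEquivOfLe h1).symm.toEquiv
  haveI : Finite ↥(M₂.subgroupOf H) := Finite.of_equiv _ (subgroupOfEquivOfLe h2).symm.toEquiv
  have hinf : (M₁ ⊓ M₂).subgroupOf H = M₁.subgroupOf H ⊓ M₂.subgroupOf H := comap_inf M₁ M₂ H.subtype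
  have key : ∀ (M : Subgroup G) [Finite M], M ≤ H → M₁ ⊓ M₂ ≤ M →
      (∃ P : Sylow 2 M, (P : Subgroup M) = (M₁ ⊓ M₂).subgroupOf M) →
      Nonempty (M ⧸ Cfsg.pCore 2 M ≃* Equiv.Perm (Fin 3)) →
      (∃ P : Sylow 2 ↥(M.subgroupOf H), (P : Subgroup ↥(M.subgroupOf H)) =
        (M₁.subgroupOf H ⊓ M₂.subgroupOf H).subgroupOf (M.subgroupOf H)) ∧
      Nonempty (↥(M.subgroupOf H) ⧸ Cfsg.pCore 2 ↥(M.subgroupOf H) ≃* Equiv.Perm (Fin 3)) := by
    intro M _ hM hT hS hq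
    haveI : Fact (Nat.Prime 2) := ⟨Nat.prime_two⟩
    let e : ↥(M.subgroupOf H) ≃* M := subgroupOfEquivOfLe hM
    haveI : Finite ↥(M.subgroupOf H) := Finite.of_equiv _ e.symm.toEquiv
    obtain ⟨P, hP⟩ := hS
    refine ⟨⟨P.comapOfInjective e.toMonoidHom e.injective (by
      rw [MonoidHom.range_eq_top.mpr e.surjective]; exact le_top), ?_⟩, ?_⟩
    · show (P : Subgroup M).comap e.toMonoidHom = _
      rw [hP, ← hinf]
      ext x
      exact Iff.rfl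
    · obtain ⟨q⟩ := hq
      exact ⟨(QuotientGroup.congr _ _ e (Core.map_pCore_equiv e)).trans q⟩
  obtain ⟨s₁, t₁⟩ := key M₁ h1 inf_le_left ha₁ hb₁
  obtain ⟨s₂, t₂⟩ := key M₂ h2 inf_le_right ha₂ hb₂
  have hgen : M₁.subgroupOf H ⊔ M₂.subgroupOf H = ⊤ := by
    rw [← subgroupOf_sup h1 h2, subgroupOf_self]
  have hc' : ∀ N : Subgroup H, N ≤ M₁.subgroupOf H ⊓ M₂.subgroupOf H →
      M₁.subgroupOf H ≤ normalizer (N : Set H) → M₂.subgroupOf H ≤ normalizer (N : Set H) → N = ⊥ := by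
    intro N hN n1 n2
    have hle : N.map H.subtype ≤ M₁ ⊓ M₂ := map_le_iff_le_comap.mpr (fun x hx => hN hx)
    have hn : ∀ M : Subgroup G, M ≤ H → N.map H.subtype ≤ M → M.subgroupOf H ≤ normalizer (N : Set H) →
        ((N.map H.subtype).subgroupOf M).Normal := by
      intro M hM hNM hn
      refine (normal_subgroupOf_iff_le_normalizer hNM).mpr (Core.le_normalizer_iff_conj_mem.mpr ?_)
      rintro g hg _ ⟨x, hx, rfl⟩
      exact ⟨⟨g, hM hg⟩ * x * ⟨g, hM hg⟩⁻¹,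
        (mem_normalizer_iff.mp (hn (show (⟨g, hM hg⟩ : H) ∈ M.subgroupOf H from hg)) x).mp hx, rfl⟩
    have := hc _ hle (hn M₁ h1 (hle.trans inf_le_left) n1) (hn M₂ h2 (hle.trans inf_le_right) n2)
    exact (map_eq_bot_iff_of_injective N H.subtype_injective).mp this
  have := ThreeThree.goldschmidt hgen s₁ s₂ t₁ t₂ hc'
  rwa [← hinf, Nat.card_congr (subgroupOfEquivOfLe (inf_le_left.trans h1)).toEquiv] at this

end Cfsg.Agent.S2751
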