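import Cfsg.Statements.S3225
import Mathlib

set_option autoImplicit false
open Cfsg

namespace Cfsg.Agent.S3225

/-- Let G be a finite group of even order with no subgroup of index 2, S a Sylow 2-subgroup of G and M a subgroup of index 2 in S such that, for some n ≥ 1, every element of S outside M has order greater than 2^(n−1). Then every element of S of order 2ⁿ is conjugate in G to an element of M. -/
theorem result {G : Type*} [Group G] [Finite G] (hev : Even (Nat.card G))
    (hG : ∀ H : Subgroup G, H.index ≠ 2) (S : Sylow 2 G) (M : Subgroup G) (hMS : M ≤ (S : Subgroup G)) (hM : M.relIndex (S : Subgroup G) = 2)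
    (n : ℕ) (hn : 1 ≤ n) (hord : ∀ y ∈ (S : Subgroup G), y ∉ M → 2 ^ (n - 1) < orderOf y)
    (x : G) (hx : x ∈ (S : Subgroup G)) (hxn : orderOf x = 2 ^ n) :
    ∃ g : G, g * x * g⁻¹ ∈ M := by
  classical
  have := Fact.mk Nat.prime_two
  by_contra hno
  push Not at hno
  set H : Subgroup G := (S : Subgroup G) with hH
  have hidx : (M.subgroupOf H).index = 2 := hM
  let ϕ : ↥H →* Multiplicative (ZMod 2) :=
    { toFun := fun s => if (s : G) ∈ M then 1 else Multiplicative.ofAdd 1
      map_one' := if_pos M.one_mem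
      map_mul' := fun s t => by
        have h : ((s * t : ↥H) : G) ∈ M ↔ ((s : G) ∈ M ↔ (t : G) ∈ M) :=
          Subgroup.mul_mem_iff_of_index_two hidx
        by_cases hs : (s : G) ∈ M <;> by_cases ht : (t : G) ∈ M
        · rw [if_pos (h.2 (iff_of_true hs ht)), if_pos hs, if_pos ht, one_mul]
        · rw [if_neg (fun h' => ht ((h.1 h').1 hs)), if_pos hs, if_neg ht, one_mul]
        · rw [if_neg (fun h' => hs ((h.1 h').2 ht)), if_neg hs, if_pos ht, mul_one]
        · rw [if_pos (h.2 (iff_of_false hs ht)), if_neg hs, if_neg ht, ← ofAdd_add, show (1 : ZMod 2) + 1 = 0 from rfl, ofAdd_zero] }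
  let Ω := Quotient (MulAction.orbitRel (Subgroup.zpowers x) (G ⧸ H))
  have : Fintype Ω := Fintype.ofFinite Ω
  let per : Ω → ℕ := fun q => Function.minimalPeriod (x • ·) q.out
  -- each orbit length is a power of two
  have hper : ∀ q : Ω, per q = 1 ∨ 2 ∣ per q := by
    intro q
    have h1 : per q ∣ 2 ^ n := by
      refine Function.IsPeriodicPt.minimalPeriod_dvd ?_
      show (x • ·)^[2 ^ n] q.out = q.out
      rw [smul_iterate]
      show (x ^ 2 ^ n) • q.out = q.out
      rw [← hxn, pow_orderOf_eq_one, one_smul]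
    obtain ⟨j, -, hj⟩ := (Nat.dvd_prime_pow Nat.prime_two).1 h1
    rcases j with _ | j
    · exact Or.inl (hj.trans (pow_zero 2))
    · exact Or.inr (hj ▸ dvd_pow_self 2 (Nat.succ_ne_zero j))
  have hterm : ∀ q : Ω, ϕ ⟨q.out.out⁻¹ * x ^ per q * q.out.out,
      QuotientGroup.out_conj_pow_minimalPeriod_mem H x q.out⟩ = Multiplicative.ofAdd ((per q : ZMod 2)) := by
    intro q
    rcases hper q with h1 | h1
    · have hn' : q.out.out⁻¹ * x ^ per q * q.out.out ∉ M := by
        rw [h1, pow_one]
        have := hno q.out.out⁻¹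
        rwa [inv_inv] at this
      show (if _ then _ else _) = _
      rw [if_neg hn', h1, Nat.cast_one]
    · have hmem : q.out.out⁻¹ * x ^ per q * q.out.out ∈ M := by
        by_contra hn'
        have h3 := hord _ (QuotientGroup.out_conj_pow_minimalPeriod_mem H x q.out) hn'
        rw [show q.out.out⁻¹ * x ^ per q * q.out.out = MulAut.conj q.out.out⁻¹ (x ^ per q) by simp,
          MulEquiv.orderOf_eq, orderOf_pow x, hxn] at h3
        have h2n : 2 ^ n = 2 * 2 ^ (n - 1) := by rw [← pow_succ']; congr 1; omega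
        have hg2 : 2 ∣ Nat.gcd (2 ^ n) (per q) := Nat.dvd_gcd ⟨_, h2n⟩ h1
        have h5 : Nat.gcd (2 ^ n) (per q) * (2 ^ n / Nat.gcd (2 ^ n) (per q)) = 2 ^ n :=
          Nat.mul_div_cancel' (Nat.gcd_dvd_left _ _)
        have h6 := Nat.le_of_dvd (Nat.gcd_pos_of_pos_left _ (pow_pos two_pos n)) hg2
        have h7 : 2 * (2 ^ (n - 1) + 1) ≤ Nat.gcd (2 ^ n) (per q) * (2 ^ n / Nat.gcd (2 ^ n) (per q)) :=
          Nat.mul_le_mul h6 h3
        omega
      show (if _ then _ else _) = _
      rw [if_pos hmem, (ZMod.natCast_eq_zero_iff_even).2 (even_iff_two_dvd.2 h1)]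
      rfl
  have hsum : ∑ q : Ω, per q = H.index := by
    let : Fintype (G ⧸ H) := Fintype.ofFinite _
    have : ∀ q : Ω, NeZero (Function.minimalPeriod (x • ·) q.out) := fun q => inferInstance
    rw [Subgroup.index_eq_card, Nat.card_congr (Subgroup.quotientEquivSigmaZMod H x), Nat.card_sigma]
    exact Finset.sum_congr rfl fun q _ => (Nat.card_zmod _).symm
  have htr : MonoidHom.transfer ϕ x = Multiplicative.ofAdd (1 : ZMod 2) := by
    rw [MonoidHom.transfer_eq_prod_quotient_orbitRel_zpowers_quot, Finset.prod_congr rfl (fun q _ => hterm q),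
      ← ofAdd_sum, ← Nat.cast_sum, hsum]
    have hodd : Odd H.index := by
      rw [← Nat.not_even_iff_odd, even_iff_two_dvd]
      exact S.not_dvd_index
    rw [(ZMod.natCast_eq_one_iff_odd).2 hodd]
  have hker : (MonoidHom.transfer ϕ).ker.index = 2 := by
    rw [Subgroup.index_ker]
    have hsurj : (MonoidHom.transfer ϕ).range = ⊤ := by
      rw [Subgroup.eq_top_iff']
      intro y
      have hz : ∀ z : Fin 2, z = 0 ∨ z = 1 := by intro z; omega
      have hy : y = 1 ∨ y = Multiplicative.ofAdd (1 : ZMod 2) := hz y.toAdd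
      rcases hy with rfl | rfl
      · exact one_mem _
      · exact ⟨x, htr⟩
    rw [hsurj, Subgroup.card_top]
    simp
  exact hG _ hker

end Cfsg.Agent.S3225
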