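import Cfsg.Statements.S2265
import Mathlib
-- import your own Cfsg.Agent.* helpers here

set_option autoImplicit false
open Cfsg

namespace Cfsg.Agent.S2265

open Polynomial
open scoped Matrix

section Arith

variable {q : ℕ}

theorem prod_pow_two_pow_succ (hq : 1 ≤ q) : ∀ n : ℕ, (∏ v ∈ Finset.range n, (q ^ 2 ^ v + 1)) * (q - 1) + 1 = q ^ 2 ^ n := by
  intro n
  induction n with
  | zero => simp; omega
  | succ n ih =>
    rw [Finset.prod_range_succ]
    obtain ⟨c, hc⟩ : ∃ c, c = (∏ v ∈ Finset.range n, (q ^ 2 ^ v + 1)) * (q - 1) := ⟨_, rfl⟩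
    rw [show (∏ v ∈ Finset.range n, (q ^ 2 ^ v + 1)) * (q ^ 2 ^ n + 1) * (q - 1) = c * (q ^ 2 ^ n + 1) by rw [hc]; ring,
      show q ^ 2 ^ (n + 1) = q ^ 2 ^ n * q ^ 2 ^ n by rw [← pow_add, pow_succ, mul_two]]
    rw [← hc] at ih
    rw [← ih]; ring

/-- A common multiple of numbers `q ^ d ± 1` of small size. -/
theorem exists_multiple (hq : 2 ≤ q) {ι : Type*} (s : Finset ι) (hne : s.Nonempty) (d : ι → ℕ) (T : ι → ℕ)
    (hd : ∀ i ∈ s, 1 ≤ d i) (hT : ∀ i ∈ s, T i = q ^ d i + 1 ∨ T i + 1 = q ^ d i) :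
    ∃ E, 0 < E ∧ (Odd q → 2 ∣ E) ∧ (∀ i ∈ s, T i ∣ E) ∧ (q - 1) * E ≤ q ^ (∑ i ∈ s, d i + 1) := by
  classical
  have hqd : ∀ i ∈ s, q ≤ q ^ d i := fun i hi => Nat.le_self_pow (by have := hd i hi; omega) q
  have hT0 : ∀ i ∈ s, 0 < T i := fun i hi => by
    have := hqd i hi
    rcases hT i hi with h | h <;> omega
  rcases Nat.even_or_odd q with he | ho
  · -- even `q`
    let a : ι → ℕ := fun i => 2 ^ (d i).factorization 2
    have had : ∀ i ∈ s, ∃ k, d i = a i * k ∧ Odd k := fun i hi => by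
      refine ⟨ordCompl[2] (d i), (Nat.ordProj_mul_ordCompl_eq_self _ 2).symm, ?_⟩
      exact Nat.odd_iff.2 (Nat.two_dvd_ne_zero.1 (Nat.not_dvd_ordCompl Nat.prime_two (by have := hd i hi; omega)))
    have hdvd : ∀ i ∈ s, q ^ a i + 1 ∣ q ^ d i + 1 := fun i hi => by
      obtain ⟨k, hk, hko⟩ := had i hi
      rw [hk, pow_mul]
      simpa using hko.nat_add_dvd_pow_add_pow (q ^ a i) 1
    have hle : ∀ i ∈ s, a i ≤ d i := fun i hi => by
      obtain ⟨k, hk, hko⟩ := had i hi
      rw [hk]; exact Nat.le_mul_of_pos_right _ hko.pos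
    obtain ⟨x, hx⟩ : ∃ x : ι → ℕ, ∀ i, x i = if T i = q ^ d i + 1 then (q ^ d i + 1) / (q ^ a i + 1) else T i :=
      ⟨_, fun _ => rfl⟩
    let sp := s.filter fun i => T i = q ^ d i + 1
    let Vs := sp.image fun i => (d i).factorization 2
    refine ⟨(∏ v ∈ Vs, (q ^ 2 ^ v + 1)) * ∏ i ∈ s, x i, ?_, fun ho => absurd he (Nat.not_even_iff_odd.2 ho), ?_, ?_⟩
    · refine Nat.mul_pos (Finset.prod_pos fun v _ => Nat.succ_pos _) (Finset.prod_pos fun i hi => ?_)
      rw [hx]
      split_ifs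
      · exact Nat.div_pos (Nat.le_of_dvd (Nat.succ_pos _) (hdvd i hi)) (Nat.succ_pos _)
      · exact hT0 i hi
    · intro i hi
      by_cases h : T i = q ^ d i + 1
      · rw [h]
        refine dvd_trans ?_ (mul_dvd_mul (Finset.dvd_prod_of_mem (fun v => q ^ 2 ^ v + 1)
          (Finset.mem_image_of_mem (fun i => (d i).factorization 2) (Finset.mem_filter.2 ⟨hi, h⟩)))
          (Finset.dvd_prod_of_mem x hi))
        rw [hx, if_pos h, Nat.mul_div_cancel' (hdvd i hi)]
      · refine dvd_trans ?_ (dvd_mul_left _ _)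
        refine dvd_trans ?_ (Finset.dvd_prod_of_mem x hi)
        rw [hx, if_neg h]
    · obtain ⟨A, hA⟩ : ∃ A, A = ∑ v ∈ Vs, 2 ^ v := ⟨_, rfl⟩
      have h1 : (∏ i ∈ s, x i) * q ^ A ≤ q ^ ∑ i ∈ s, d i := by
        have hxb : ∀ i ∈ s, x i * (if T i = q ^ d i + 1 then q ^ a i else 1) ≤ q ^ d i := fun i hi => by
          rw [hx]
          split_ifs with h
          · refine Nat.le_of_mul_le_mul_left ?_ (Nat.succ_pos (q ^ a i))
            rw [← mul_assoc, Nat.mul_div_cancel' (hdvd i hi), Nat.succ_eq_add_one, Nat.add_mul, Nat.add_mul, one_mul, one_mul,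
              mul_comm (q ^ d i)]
            exact Nat.add_le_add_left (Nat.pow_le_pow_right (by omega) (hle i hi)) _
          · have := (hT i hi).resolve_left h; omega
        have h2 := Finset.prod_le_prod' hxb
        rw [Finset.prod_mul_distrib, ← Finset.prod_filter, Finset.prod_pow_eq_pow_sum, Finset.prod_pow_eq_pow_sum] at h2
        refine le_trans (Nat.mul_le_mul_left _ (Nat.pow_le_pow_right (by omega) ?_)) h2
        rw [hA]
        exact Finset.sum_image_le_of_nonneg fun _ _ => Nat.zero_le _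
      have h3 : (∏ v ∈ Vs, (q ^ 2 ^ v + 1)) * (q - 1) ≤ q * q ^ A := by
        obtain ⟨n, hn⟩ : ∃ n, Vs ⊆ Finset.range n := ⟨Vs.sup id + 1, fun v hv => Finset.mem_range.2
          (Nat.lt_succ_of_le (Finset.le_sup (f := id) hv))⟩
        have hall := prod_pow_two_pow_succ (q := q) (by omega) n
        rw [← Finset.prod_sdiff hn] at hall
        obtain ⟨B, hB⟩ : ∃ B, B = ∑ v ∈ Finset.range n \ Vs, 2 ^ v := ⟨_, rfl⟩
        have hsum : B + A + 1 = 2 ^ n := by
          have hg : ∀ k : ℕ, ∑ v ∈ Finset.range k, 2 ^ v + 1 = 2 ^ k := fun k => by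
            induction k with
            | zero => simp
            | succ k ih => rw [Finset.sum_range_succ, pow_succ]; omega
          rw [hB, hA, Finset.sum_sdiff hn, hg]
        have h4 : q ^ B ≤ ∏ v ∈ Finset.range n \ Vs, (q ^ 2 ^ v + 1) := by
          rw [hB, ← Finset.prod_pow_eq_pow_sum]
          exact Finset.prod_le_prod' fun v _ => Nat.le_succ _
        refine Nat.le_of_mul_le_mul_left ?_ (pow_pos (show 0 < q by omega) B)
        calc q ^ B * ((∏ v ∈ Vs, (q ^ 2 ^ v + 1)) * (q - 1))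
            ≤ (∏ v ∈ Finset.range n \ Vs, (q ^ 2 ^ v + 1)) * ((∏ v ∈ Vs, (q ^ 2 ^ v + 1)) * (q - 1)) := Nat.mul_le_mul_right _ h4
          _ ≤ q ^ 2 ^ n := by rw [← hall, ← mul_assoc]; exact Nat.le_succ _
          _ = q ^ B * (q * q ^ A) := by rw [← hsum, pow_succ, pow_add]; ring
      refine Nat.le_of_mul_le_mul_left ?_ (pow_pos (show 0 < q by omega) A)
      calc q ^ A * ((q - 1) * ((∏ v ∈ Vs, (q ^ 2 ^ v + 1)) * ∏ i ∈ s, x i))
          = ((∏ v ∈ Vs, (q ^ 2 ^ v + 1)) * (q - 1)) * ((∏ i ∈ s, x i) * q ^ A) := by ring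
        _ ≤ (q * q ^ A) * q ^ ∑ i ∈ s, d i := Nat.mul_le_mul h3 h1
        _ = _ := by rw [pow_succ]; ring
  · -- odd `q`
    have hev : ∀ i ∈ s, 2 ∣ T i := fun i hi => by
      have hodd := Nat.odd_iff.1 (ho.pow (n := d i))
      rcases hT i hi with h | h <;> omega
    refine ⟨2 * ∏ i ∈ s, T i / 2, Nat.mul_pos two_pos (Finset.prod_pos fun i hi => by
      have := hev i hi; have := hT0 i hi; omega), fun _ => dvd_mul_right _ _, fun i hi => ?_, ?_⟩
    · exact dvd_trans (by rw [Nat.mul_div_cancel' (hev i hi)]) (mul_dvd_mul_left 2 (Finset.dvd_prod_of_mem _ hi))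
    · obtain ⟨i, hi⟩ := hne
      rw [← Finset.mul_prod_erase s _ hi, ← Finset.add_sum_erase s _ hi, ← mul_assoc 2, Nat.mul_div_cancel' (hev i hi)]
      have h1 : ∏ j ∈ s.erase i, T j / 2 ≤ q ^ ∑ j ∈ s.erase i, d j := by
        rw [← Finset.prod_pow_eq_pow_sum]
        refine Finset.prod_le_prod' fun j hj => ?_
        have := hqd j (Finset.mem_of_mem_erase hj)
        rcases hT j (Finset.mem_of_mem_erase hj) with h | h <;> omega
      have h2 : (q - 1) * T i ≤ q ^ (d i + 1) := by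
        obtain ⟨c, rfl⟩ : ∃ c, q = c + 1 := ⟨q - 1, by omega⟩
        rw [Nat.add_sub_cancel, pow_succ]
        have h := hqd i hi
        rcases hT i hi with h' | h'
        · rw [h']; nlinarith
        · nlinarith
      calc (q - 1) * (T i * ∏ j ∈ s.erase i, T j / 2) = (q - 1) * T i * ∏ j ∈ s.erase i, T j / 2 := by ring
        _ ≤ q ^ (d i + 1) * q ^ ∑ j ∈ s.erase i, d j := Nat.mul_le_mul h2 h1
        _ = _ := by rw [← pow_add]; ring_nf

end Arith

section Roots

theorem reverse_prod {L : Type*} [Field L] (R : Multiset L) (h : ∀ r ∈ R, r ≠ 0) :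
    ∃ c : L, c ≠ 0 ∧ (R.map fun r => X - C r).prod.reverse =
      C c * ((R.map (·⁻¹)).map fun r => X - C r).prod := by
  induction R using Multiset.induction with
  | empty => exact ⟨1, one_ne_zero, by
      rw [Multiset.map_zero, Multiset.prod_zero, Multiset.map_zero, Multiset.map_zero, Multiset.prod_zero, mul_one,
        ← C_1, reverse_C]⟩
  | cons a R ih =>
    obtain ⟨c, hc, e⟩ := ih fun r hr => h r (Multiset.mem_cons_of_mem hr)
    have ha : a ≠ 0 := h a (Multiset.mem_cons_self a R)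
    refine ⟨-a * c, mul_ne_zero (neg_ne_zero.2 ha) hc, ?_⟩
    rw [Multiset.map_cons, Multiset.prod_cons, reverse_mul_of_domain, e, Multiset.map_cons, Multiset.map_cons,
      Multiset.prod_cons]
    have h1 : (X - C a : L[X]).reverse = C (-a) * (X - C a⁻¹) := by
      have h2 : C a * C a⁻¹ = (1 : L[X]) := by rw [← C_mul, mul_inv_cancel₀ ha, C_1]
      refine Polynomial.ext fun i => ?_
      rw [coeff_reverse, natDegree_X_sub_C]
      rcases i with _ | _ | i
      · simp [revAt_le, ha, coeff_C]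
      · simp [revAt_le, coeff_C]
      · rw [revAt_eq_self_of_lt (by omega : 1 < i + 2)]
        simp [coeff_X, coeff_C]
    rw [h1, C_mul]
    ring

variable {L : Type*} [Field L] [DecidableEq L]

/-- The class of a root under the `q`-th power and inversion. -/
theorem exists_class (φ : L →+* L) {q : ℕ} (hφ : ∀ z, φ z = z ^ q) (S : Finset L) (hS0 : ∀ r ∈ S, r ≠ 0)
    (hSφ : ∀ r ∈ S, φ r ∈ S) {r : L} (hr : r ∈ S) (hr2 : r * r ≠ 1) :
    ∃ (C : Finset L) (d T : ℕ), r ∈ C ∧ 1 ≤ d ∧ C.card = 2 * d ∧ (T = q ^ d + 1 ∨ T + 1 = q ^ d) ∧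
      (∀ x ∈ C, x ^ T = 1) ∧ ∀ x, x ∈ C ↔ ∃ i : ℕ, x = φ^[i] r ∨ x = (φ^[i] r)⁻¹ := by
  classical
  have hq0 : q ≠ 0 := by
    rintro rfl
    exact zero_ne_one (by rw [← map_zero φ, hφ, pow_zero] : (0 : L) = 1)
  have hiter : ∀ (i : ℕ) (z : L), φ^[i] z = z ^ q ^ i := by
    intro i
    induction i with
    | zero => simp
    | succ i ih => intro z; rw [Function.iterate_succ_apply', ih, hφ, ← pow_mul, pow_succ]
  have hmem : ∀ i, φ^[i] r ∈ S := by
    intro i
    induction i with
    | zero => exact hr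
    | succ i ih => rw [Function.iterate_succ_apply']; exact hSφ _ ih
  have hper : r ∈ Function.periodicPts φ := by
    obtain ⟨i, j, hij, he⟩ : ∃ i j, i < j ∧ φ^[i] r = φ^[j] r := by
      obtain ⟨i, -, j, -, hne, he⟩ := Finset.exists_ne_map_eq_of_card_lt_of_maps_to
        (s := Finset.range (S.card + 1)) (t := S) (f := fun i => φ^[i] r) (by simp) (fun i _ => hmem i)
      rcases lt_or_gt_of_ne hne with h | h
      · exact ⟨i, j, h, he⟩
      · exact ⟨j, i, h, he.symm⟩
    refine ⟨j - i, by omega, (φ.injective.iterate i) ?_⟩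
    rw [← Function.iterate_add_apply, Nat.add_sub_cancel' hij.le, he]
  obtain ⟨n, hn⟩ : ∃ n, n = Function.minimalPeriod φ r := ⟨_, rfl⟩
  have hn0 : 0 < n := hn ▸ Function.minimalPeriod_pos_of_mem_periodicPts hper
  have hrn : φ^[n] r = r := hn ▸ Function.iterate_minimalPeriod
  have hinv : ∀ i, φ^[i] r⁻¹ = (φ^[i] r)⁻¹ := fun i => by rw [hiter, hiter, inv_pow]
  have hmod : ∀ i, φ^[i] r = φ^[i % n] r := fun i => by rw [hn, Function.iterate_mod_minimalPeriod_eq]
  have hinj : ∀ i, i < n → ∀ j, j < n → φ^[i] r = φ^[j] r → i = j := fun i hi j hj h =>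
    Function.iterate_injOn_Iio_minimalPeriod (Set.mem_Iio.2 (hn ▸ hi)) (Set.mem_Iio.2 (hn ▸ hj)) h
  have hr0 := hS0 r hr
  let O := (Finset.range n).image fun i => φ^[i] r
  have hOc : O.card = n := by
    rw [Finset.card_image_of_injOn fun i hi j hj h => hinj i (Finset.mem_range.1 hi) j (Finset.mem_range.1 hj) h,
      Finset.card_range]
  by_cases hself : r⁻¹ ∈ O
  · obtain ⟨i, hi, he⟩ := Finset.mem_image.1 hself
    rw [Finset.mem_range] at hi
    have hi0 : i ≠ 0 := by
      rintro rfl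
      rw [Function.iterate_zero, id_eq] at he
      exact hr2 (by nth_rewrite 2 [he]; exact mul_inv_cancel₀ hr0)
    have h2i : φ^[i + i] r = r := by rw [Function.iterate_add_apply, he, hinv, he, inv_inv]
    have hni : n = i + i := by
      obtain ⟨c, hc⟩ : n ∣ i + i := hn ▸ Function.IsPeriodicPt.minimalPeriod_dvd h2i
      rcases c with _ | _ | c
      · omega
      · omega
      · have : n * (c + 1 + 1) = n * c + (n + n) := by ring
        omega
    have hre : r ^ (q ^ i + 1) = 1 := by rw [pow_succ, ← hiter, he, inv_mul_cancel₀ hr0]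
    refine ⟨O, i, q ^ i + 1, Finset.mem_image.2 ⟨0, Finset.mem_range.2 hn0, rfl⟩, by omega, by omega, Or.inl rfl,
      fun x hx => ?_, fun x => ⟨fun hx => ?_, ?_⟩⟩
    · obtain ⟨k, -, rfl⟩ := Finset.mem_image.1 hx
      rw [hiter, ← pow_mul, mul_comm, pow_mul, hre, one_pow]
    · obtain ⟨k, -, rfl⟩ := Finset.mem_image.1 hx
      exact ⟨k, Or.inl rfl⟩
    · rintro ⟨k, rfl | rfl⟩
      · exact Finset.mem_image.2 ⟨k % n, Finset.mem_range.2 (Nat.mod_lt _ hn0), (hmod k).symm⟩
      · refine Finset.mem_image.2 ⟨(k + i) % n, Finset.mem_range.2 (Nat.mod_lt _ hn0), ?_⟩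
        rw [← hmod, Function.iterate_add_apply, he, hinv]
  · have hd : Disjoint O (O.image (·⁻¹)) := Finset.disjoint_left.2 fun x hx hx' => by
      obtain ⟨k, hk, rfl⟩ := Finset.mem_image.1 hx
      obtain ⟨y, hy, he⟩ := Finset.mem_image.1 hx'
      obtain ⟨l, hl, rfl⟩ := Finset.mem_image.1 hy
      rw [Finset.mem_range] at hk hl
      refine hself (Finset.mem_image.2 ⟨(k + (n - l)) % n, Finset.mem_range.2 (Nat.mod_lt _ hn0), ?_⟩)
      rw [← hmod, show k + (n - l) = (n - l) + k by omega, Function.iterate_add_apply, ← he, ← hinv,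
        ← Function.iterate_add_apply, Nat.sub_add_cancel hl.le, hinv, hrn]
    refine ⟨O ∪ O.image (·⁻¹), n, q ^ n - 1, Finset.mem_union_left _ (Finset.mem_image.2 ⟨0, Finset.mem_range.2 hn0, rfl⟩), hn0,
      ?_, Or.inr ?_, fun x hx => ?_, fun x => ?_⟩
    · rw [Finset.card_union_of_disjoint hd, Finset.card_image_of_injective _ inv_injective, hOc]; omega
    · exact Nat.sub_add_cancel (Nat.one_le_pow _ _ (Nat.pos_of_ne_zero hq0))
    · have hre : r ^ (q ^ n - 1) = 1 := by
        refine mul_right_cancel₀ hr0 ?_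
        rw [← pow_succ, Nat.sub_add_cancel (Nat.one_le_pow _ _ (Nat.pos_of_ne_zero hq0)), ← hiter, hrn, one_mul]
      have hO : ∀ y ∈ O, y ^ (q ^ n - 1) = 1 := fun y hy => by
        obtain ⟨k, -, rfl⟩ := Finset.mem_image.1 hy
        rw [hiter, ← pow_mul, mul_comm, pow_mul, hre, one_pow]
      rcases Finset.mem_union.1 hx with h | h
      · exact hO x h
      · obtain ⟨y, hy, rfl⟩ := Finset.mem_image.1 h
        rw [inv_pow, hO y hy, inv_one]
    · constructor
      · intro hx
        rcases Finset.mem_union.1 hx with h | h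
        · obtain ⟨k, -, rfl⟩ := Finset.mem_image.1 h; exact ⟨k, Or.inl rfl⟩
        · obtain ⟨y, hy, rfl⟩ := Finset.mem_image.1 h
          obtain ⟨k, -, rfl⟩ := Finset.mem_image.1 hy; exact ⟨k, Or.inr rfl⟩
      · have h1 : ∀ k, φ^[k] r ∈ O := fun k =>
          Finset.mem_image.2 ⟨k % n, Finset.mem_range.2 (Nat.mod_lt _ hn0), (hmod k).symm⟩
        rintro ⟨k, rfl | rfl⟩
        · exact Finset.mem_union_left _ (h1 k)
        · exact Finset.mem_union_right _ (Finset.mem_image.2 ⟨_, h1 k, rfl⟩)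

end Roots

variable {F : Type*} [Field F]

/-- The charpoly of a matrix preserving a nondegenerate form is self-reciprocal up to a constant. -/
theorem charpoly_reverse {n : Type*} [Fintype n] [DecidableEq n] {J M : Matrix n n F} (hJ : IsUnit J)
    (hM : Mᵀ * J * M = J) :
    M.charpoly.natDegree = Fintype.card n ∧ ∃ a : F, a ≠ 0 ∧ M.charpoly.reverse = Polynomial.C a * M.charpoly := by
  obtain ⟨Ju, rfl⟩ := hJ
  have hdet : M.det ≠ 0 := by
    intro h
    have h1 := congrArg Matrix.det hM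
    rw [Matrix.det_mul, Matrix.det_mul, h, mul_zero] at h1
    exact ((Matrix.isUnit_iff_isUnit_det _).1 Ju.isUnit).ne_zero h1.symm
  have hunit : IsUnit M := (Matrix.isUnit_iff_isUnit_det M).2 (isUnit_iff_ne_zero.2 hdet)
  have h1 := Matrix.charpoly_inv M hunit
  have hl : ((Ju⁻¹ : (Matrix n n F)ˣ) : Matrix n n F) * Mᵀ * (Ju : Matrix n n F) * M = 1 := by
    rw [mul_assoc _ Mᵀ, mul_assoc, hM, Units.inv_mul]
  have h2 : M⁻¹.charpoly = M.charpoly := by
    rw [Matrix.inv_eq_left_inv hl, Matrix.coe_units_inv, Matrix.charpoly_units_conj', Matrix.charpoly_transpose]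
  rw [h2, ← Matrix.reverse_charpoly, Ring.inverse_eq_inv] at h1
  refine ⟨Matrix.charpoly_natDegree_eq_dim M, (-1) ^ Fintype.card n * M.det, mul_ne_zero (pow_ne_zero _ (neg_ne_zero.2 one_ne_zero)) hdet, ?_⟩
  conv_rhs => rw [h1]
  rw [← mul_assoc, Polynomial.C_mul, Polynomial.C_pow, Polynomial.C_neg, Polynomial.C_1]
  calc M.charpoly.reverse = ((-1 : F[X]) ^ Fintype.card n * (-1 : F[X]) ^ Fintype.card n) * (Polynomial.C M.det * Polynomial.C M.det⁻¹) * M.charpoly.reverse := by
        rw [← Polynomial.C_mul, mul_inv_cancel₀ hdet, ← mul_pow, neg_one_mul, neg_neg, one_pow, Polynomial.C_1, one_mul, one_mul]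
    _ = _ := by ring

open scoped Classical in
/-- A power killing the matrix, from the roots. -/
theorem pow_eq_of_roots {l : Type*} [Fintype l] [DecidableEq l] {p : ℕ} [Fact p.Prime] [CharP F p]
    (M : Matrix l l F) (c : F) {N k : ℕ} (hN : 0 < N)
    (h : ∀ r ∈ (M.charpoly.map (algebraMap F (AlgebraicClosure F))).roots, r ^ N = algebraMap F (AlgebraicClosure F) c)
    (hcnt : ∀ r, (M.charpoly.map (algebraMap F (AlgebraicClosure F))).roots.count r ≤ p ^ k) :
    M ^ (N * p ^ k) = c ^ p ^ k • (1 : Matrix l l F) := by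
  classical
  haveI : CharP (AlgebraicClosure F) p := charP_of_injective_algebraMap (algebraMap F (AlgebraicClosure F)).injective p
  have hdvd : M.charpoly ∣ X ^ (N * p ^ k) - Polynomial.C (c ^ p ^ k) := by
    rw [← Polynomial.map_dvd_map' (algebraMap F (AlgebraicClosure F))]
    simp only [Polynomial.map_sub, Polynomial.map_pow, map_X, map_C]
    have hne : ((X : (AlgebraicClosure F)[X]) ^ N - Polynomial.C (algebraMap F _ c)) ≠ 0 :=
      (monic_X_pow_sub_C _ hN.ne').ne_zero
    rw [(IsAlgClosed.splits _).eq_prod_roots_of_monic (M.charpoly_monic.map _), pow_mul, map_pow, map_pow,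
      ← sub_pow_char_pow, Multiset.prod_X_sub_C_dvd_iff_le_roots (pow_ne_zero _ hne), roots_pow, Multiset.le_iff_count]
    intro r
    by_cases hr : r ∈ (M.charpoly.map (algebraMap F (AlgebraicClosure F))).roots
    · rw [Multiset.count_nsmul]
      have h1 : 1 ≤ (X ^ N - Polynomial.C (algebraMap F (AlgebraicClosure F) c)).roots.count r := by
        rw [Multiset.one_le_count_iff_mem, mem_roots hne, IsRoot, eval_sub, eval_pow, eval_X, eval_C, h r hr, sub_self]
      exact (hcnt r).trans (Nat.le_mul_of_pos_right _ h1)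
    · rw [Multiset.count_eq_zero.2 hr]
      exact Nat.zero_le _
  obtain ⟨T, hT⟩ := hdvd
  have h2 := congrArg (aeval M) hT
  rw [map_mul, Matrix.aeval_self_charpoly, zero_mul, map_sub, map_pow, aeval_X, aeval_C, sub_eq_zero] at h2
  rw [h2, Algebra.algebraMap_eq_smul_one]

/-- A small scalar power of a matrix preserving a nondegenerate bilinear form. -/
theorem exists_scalar_pow {F : Type*} [Field F] [Fintype F] {p : ℕ} [Fact p.Prime] [CharP F p] {n : Type*} [Fintype n]
    [DecidableEq n] {q m : ℕ} (hq : q = Fintype.card F) (hm : 2 ≤ m)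
    (hn : Fintype.card n = m + m ∨ (Fintype.card n = m + m + 1 ∧ 3 ≤ p ∧ 3 ≤ m))
    {J M : Matrix n n F} (hJ : IsUnit J) (hM : Mᵀ * J * M = J) :
    ∃ (E : ℕ) (c : F), 0 < E ∧ (q - 1) * E ≤ q ^ (m + 1) ∧ M ^ E = c • (1 : Matrix n n F) := by
  classical
  have hq2 : 2 ≤ q := hq ▸ Fintype.one_lt_card
  have hp2 : 2 ≤ p := (Fact.out : p.Prime).two_le
  have hpq : p ≤ q := by
    obtain ⟨e, -, he⟩ := FiniteField.card F p
    rw [hq, he]; exact Nat.le_self_pow e.pos.ne' p
  obtain ⟨f, hf⟩ : ∃ f, f = algebraMap F (AlgebraicClosure F) := ⟨_, rfl⟩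
  obtain ⟨R, hR⟩ : ∃ R, R = (M.charpoly.map f).roots := ⟨_, rfl⟩
  obtain ⟨hdeg, a, ha, hrev⟩ := charpoly_reverse hJ hM
  have hmonic : (M.charpoly.map f).Monic := M.charpoly_monic.map _
  have hsplit : (M.charpoly.map f).Splits := IsAlgClosed.splits _
  have hsymm : (M.charpoly.map f).reverse = Polynomial.C (f a) * M.charpoly.map f := by
    rw [← Polynomial.map_C f, ← Polynomial.map_mul, ← hrev]
    refine Polynomial.ext fun i => ?_
    rw [Polynomial.coeff_reverse, Polynomial.natDegree_map, Polynomial.coeff_map, Polynomial.coeff_map,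
      ← Polynomial.coeff_reverse]
  have hcard : R.card = Fintype.card n := by rw [hR, ← hsplit.natDegree_eq_card_roots, Polynomial.natDegree_map, hdeg]
  have hfa : f a ≠ 0 := (map_ne_zero f).2 ha
  have h0 : ∀ r ∈ R, r ≠ 0 := by
    rintro r hr rfl
    rw [hR] at hr
    have h := (Polynomial.mem_roots hmonic.ne_zero).1 hr
    rw [Polynomial.IsRoot, ← Polynomial.coeff_zero_eq_eval_zero] at h
    have h' := congrArg (fun P => Polynomial.coeff P 0) hsymm
    rw [Polynomial.coeff_C_mul, h, mul_zero, Polynomial.coeff_reverse,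
      Polynomial.revAt_le (Nat.zero_le _), Nat.sub_zero, hmonic.coeff_natDegree] at h'
    exact one_ne_zero h'
  have hinv : R.map (·⁻¹) = R := by
    obtain ⟨c, hc, e⟩ := reverse_prod R h0
    rw [hR, ← hsplit.eq_prod_roots_of_monic hmonic, hsymm, ← hR] at e
    conv_rhs => rw [hR, ← Polynomial.roots_C_mul _ hfa, e, Polynomial.roots_C_mul _ hc, Polynomial.roots_multiset_prod_X_sub_C]
  obtain ⟨φ, hφdef⟩ : ∃ φ, φ = (FiniteField.frobeniusAlgHom F (AlgebraicClosure F)).toRingHom := ⟨_, rfl⟩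
  have hφx : ∀ z : AlgebraicClosure F, φ z = z ^ q := fun z => by rw [hφdef, hq]; rfl
  have hfrob : R.map φ = R := by
    rw [hR, ← hsplit.roots_map φ, Polynomial.map_map, show φ.comp f = f from RingHom.ext fun x => by
      rw [hf, hφdef]; exact AlgHom.commutes (FiniteField.frobeniusAlgHom F (AlgebraicClosure F)) x]
  obtain ⟨S, hS⟩ : ∃ S, S = R.toFinset := ⟨_, rfl⟩
  have hmS : ∀ r, r ∈ S ↔ r ∈ R := fun r => by rw [hS, Multiset.mem_toFinset]
  have hSφ : ∀ r ∈ S, φ r ∈ S := fun r hr => by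
    rw [hmS] at hr ⊢; rw [← hfrob]; exact Multiset.mem_map_of_mem _ hr
  have hci : ∀ x, R.count x⁻¹ = R.count x := fun x => by
    conv_lhs => rw [← hinv]
    exact Multiset.count_map_eq_count' _ _ inv_injective x
  have hcφ : ∀ x, R.count (φ x) = R.count x := fun x => by
    conv_lhs => rw [← hfrob]
    exact Multiset.count_map_eq_count' _ _ φ.injective x
  obtain ⟨S', hS'⟩ : ∃ S', S' = S.filter fun r => r * r ≠ 1 := ⟨_, rfl⟩
  have hcl : ∀ r ∈ S', ∃ (C : Finset (AlgebraicClosure F)) (d T : ℕ), r ∈ C ∧ 1 ≤ d ∧ C.card = 2 * d ∧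
      (T = q ^ d + 1 ∨ T + 1 = q ^ d) ∧ (∀ x ∈ C, x ^ T = 1) ∧ ∀ x, x ∈ C ↔ ∃ i : ℕ, x = φ^[i] r ∨ x = (φ^[i] r)⁻¹ :=
    fun r hr => by
      rw [hS', Finset.mem_filter] at hr
      exact exists_class φ hφx S (fun x hx => h0 x ((hmS x).1 hx)) hSφ hr.1 hr.2
  choose! Cl d T hrC hd hCc hT hpow hCm using hcl
  have hcC : ∀ r ∈ S', ∀ x ∈ Cl r, R.count x = R.count r := by
    intro r hr x hx
    have hi : ∀ i : ℕ, R.count (φ^[i] r) = R.count r := fun i => by
      induction i with
      | zero => rfl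
      | succ i ih => rw [Function.iterate_succ_apply', hcφ, ih]
    obtain ⟨i, rfl | rfl⟩ := (hCm r hr x).1 hx
    · exact hi i
    · rw [hci, hi]
  have hsub : ∀ r ∈ S', ∀ x ∈ Cl r, x ∈ S' ∧ Cl x = Cl r := by
    intro r hr x hx
    have hr' := hr
    rw [hS', Finset.mem_filter] at hr'
    have hxS : x ∈ S := by
      rw [hmS, ← Multiset.one_le_count_iff_mem, hcC r hr x hx]
      exact Multiset.one_le_count_iff_mem.2 ((hmS r).1 hr'.1)
    have hit : ∀ (i : ℕ) (z : AlgebraicClosure F), φ^[i] z⁻¹ = (φ^[i] z)⁻¹ := fun i => by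
      induction i with
      | zero => simp
      | succ i ih => intro z; rw [Function.iterate_succ_apply', ih, map_inv₀, ← Function.iterate_succ_apply' φ]
    have hx2 : x * x ≠ 1 := by
      intro h
      obtain ⟨i, rfl | rfl⟩ := (hCm r hr x).1 hx
      · rw [← RingHom.coe_pow, ← map_mul, ← map_one (φ ^ i)] at h
        exact hr'.2 ((φ ^ i).injective h)
      · rw [← mul_inv, inv_eq_one, ← RingHom.coe_pow, ← map_mul, ← map_one (φ ^ i)] at h
        exact hr'.2 ((φ ^ i).injective h)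
    have hxS' : x ∈ S' := by rw [hS', Finset.mem_filter]; exact ⟨hxS, hx2⟩
    refine ⟨hxS', Finset.eq_of_subset_of_card_le (fun y hy => ?_) ?_⟩
    · obtain ⟨j, hj⟩ := (hCm x hxS' y).1 hy
      obtain ⟨i, rfl | rfl⟩ := (hCm r hr x).1 hx
      · rw [← Function.iterate_add_apply] at hj
        exact (hCm r hr y).2 ⟨j + i, hj⟩
      · rw [hit, ← Function.iterate_add_apply, inv_inv] at hj
        exact (hCm r hr y).2 ⟨j + i, hj.symm⟩
    · refine Finset.card_le_card fun y hy => ?_
      -- `r` lies in the class of `x`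
      obtain ⟨j, hj⟩ := (hCm r hr y).1 hy
      obtain ⟨i, hi⟩ := (hCm r hr x).1 hx
      obtain ⟨P, hP0, hP⟩ : ∃ P, i ≤ P ∧ φ^[P] r = r := by
        obtain ⟨a, b, hab, he⟩ : ∃ a b, a < b ∧ φ^[a] r = φ^[b] r := by
          have hmem : ∀ i, φ^[i] r ∈ S := fun i => by
            induction i with
            | zero => exact hr'.1
            | succ i ih => rw [Function.iterate_succ_apply']; exact hSφ _ ih
          obtain ⟨a, -, b, -, hne, he⟩ := Finset.exists_ne_map_eq_of_card_lt_of_maps_to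
            (s := Finset.range (S.card + 1)) (t := S) (f := fun i => φ^[i] r) (by simp) (fun i _ => hmem i)
          rcases lt_or_gt_of_ne hne with h | h
          · exact ⟨a, b, h, he⟩
          · exact ⟨b, a, h, he.symm⟩
        have hper : φ^[b - a] r = r := (φ.injective.iterate a) (by
          rw [← Function.iterate_add_apply, Nat.add_sub_cancel' hab.le, he])
        refine ⟨(b - a) * i, Nat.le_mul_of_pos_left _ (by omega), ?_⟩
        exact (Function.IsPeriodicPt.mul_const (show Function.IsPeriodicPt φ (b - a) r from hper) i)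
      have hback : φ^[j + (P - i)] (φ^[i] r) = φ^[j] r := by
        rw [← Function.iterate_add_apply, show j + (P - i) + i = j + P by omega, Function.iterate_add_apply, hP]
      refine (hCm x hxS' y).2 ⟨j + (P - i), ?_⟩
      rcases hi with hi | hi <;> subst hi
      · rw [hback]; exact hj
      · rw [hit, hback, inv_inv]; exact hj.symm
  obtain ⟨𝒞, h𝒞⟩ : ∃ 𝒞, 𝒞 = S'.image Cl := ⟨_, rfl⟩
  have hrep : ∀ C ∈ 𝒞, ∃ r ∈ S', Cl r = C := fun C hC => by rw [h𝒞] at hC; exact Finset.mem_image.1 hC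
  choose! rep hrepS hrepC using hrep
  obtain ⟨s, hs⟩ : ∃ s, s = ∑ C ∈ 𝒞, d (rep C) := ⟨_, rfl⟩
  have hdisj : ∀ C ∈ 𝒞, ∀ D ∈ 𝒞, C ≠ D → Disjoint C D := fun C hC D hD hne => Finset.disjoint_left.2 fun x hx hx' => hne (by
    rw [← hrepC C hC] at hx ⊢
    rw [← hrepC D hD] at hx' ⊢
    rw [← (hsub _ (hrepS C hC) x hx).2, (hsub _ (hrepS D hD) x hx').2])
  obtain ⟨U, hU⟩ : ∃ U, U = 𝒞.biUnion id := ⟨_, rfl⟩
  have hUc : U.card = 2 * s := by
    rw [hU, show 𝒞.biUnion id = 𝒞.biUnion (fun x => x) from rfl, Finset.card_biUnion hdisj, hs, Finset.mul_sum]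
    exact Finset.sum_congr rfl fun C hC => by rw [← hCc _ (hrepS C hC), hrepC C hC]
  have hUS : U = S' := by
    ext x
    rw [hU, Finset.mem_biUnion]
    refine ⟨fun ⟨C, hC, hx⟩ => (hsub _ (hrepS C hC) x ((hrepC C hC).symm ▸ hx)).1, fun hx => ⟨Cl x, ?_, hrC x hx⟩⟩
    rw [h𝒞]; exact Finset.mem_image_of_mem _ hx
  have htot : ∀ V : Finset (AlgebraicClosure F), ∑ x ∈ V, R.count x ≤ Fintype.card n := fun V => by
    rw [← hcard, ← Multiset.toFinset_sum_count_eq R, ← Finset.sum_filter_ne_zero]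
    refine Finset.sum_le_sum_of_subset fun x hx => Multiset.mem_toFinset.2 ?_
    exact Multiset.count_ne_zero.1 (Finset.mem_filter.1 hx).2
  have hone : ∀ x ∈ S', 1 ≤ R.count x := fun x hx => by
    rw [hS', Finset.mem_filter, hmS] at hx; exact Multiset.one_le_count_iff_mem.2 hx.1
  have hsum1 : ∀ r, r ∉ S' → R.count r + 2 * s ≤ Fintype.card n := fun r hr => by
    refine le_trans ?_ (htot (insert r S'))
    rw [Finset.sum_insert hr, ← hUc, hUS]
    refine Nat.add_le_add_left ?_ _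
    rw [Finset.card_eq_sum_ones]
    exact Finset.sum_le_sum hone
  have hsum2 : ∀ r ∈ S', R.count r + s ≤ m + 1 := fun r hr => by
    have h1 := htot S'
    rw [← Finset.sum_sdiff (show Cl r ⊆ S' from fun x hx => (hsub r hr x hx).1),
      Finset.sum_congr rfl (hcC r hr), Finset.sum_const, smul_eq_mul, hCc r hr] at h1
    have h2 : (S' \ Cl r).card ≤ ∑ x ∈ S' \ Cl r, R.count x := by
      rw [Finset.card_eq_sum_ones]
      exact Finset.sum_le_sum fun x hx => hone x (Finset.mem_sdiff.1 hx).1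
    have h3 := Finset.card_sdiff_add_card_eq_card (show Cl r ⊆ S' from fun x hx => (hsub r hr x hx).1)
    rw [hCc r hr, ← hUS, hUc, hUS] at h3
    have hd1 := hd r hr
    have hc1 := hone r hr
    obtain ⟨c, hc⟩ : ∃ c, R.count r = c + 1 := ⟨R.count r - 1, by omega⟩
    rw [hc] at h1 ⊢
    have : c ≤ d r * c := Nat.le_mul_of_pos_left _ hd1
    rw [Nat.mul_add, mul_one, mul_assoc] at h1
    omega
  have hsm : s ≤ m := by
    have h1 := htot S'
    have h2 : S'.card ≤ ∑ x ∈ S', R.count x := by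
      rw [Finset.card_eq_sum_ones]; exact Finset.sum_le_sum hone
    rw [← hUS, hUc] at h2
    rw [← hUS] at h1
    omega
  have hnum : ∀ j : ℕ, j + j ≤ p ^ j ∧ j + 1 ≤ p ^ j ∧ (3 ≤ p → j + j + 1 ≤ p ^ j) := fun j => by
    have h1 : j + j ≤ 2 ^ j := by
      induction j with
      | zero => simp
      | succ j ih =>
        rw [pow_succ]
        rcases Nat.eq_zero_or_pos j with rfl | hj
        · simp
        · omega
    have h2 : j < 2 ^ j := Nat.lt_two_pow_self
    have h3 : 2 ^ j ≤ p ^ j := Nat.pow_le_pow_left hp2 j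
    refine ⟨by omega, by omega, fun hp3 => le_trans ?_ (Nat.pow_le_pow_left hp3 j)⟩
    clear h1 h2 h3
    induction j with
    | zero => simp
    | succ j ih => rw [pow_succ]; omega
  have hpm : ∀ j, p ^ j ≤ q ^ j := fun j => Nat.pow_le_pow_left hpq j
  by_cases h𝒞e : 𝒞.Nonempty
  · obtain ⟨E, hE0, hE2, hEd, hEb⟩ := exists_multiple hq2 𝒞 h𝒞e (fun C => d (rep C)) (fun C => T (rep C))
      (fun C hC => hd _ (hrepS C hC)) (fun C hC => hT _ (hrepS C hC))
    rw [← hs] at hEb
    refine ⟨E * p ^ (m - s), 1, Nat.mul_pos hE0 (pow_pos (by omega) _), ?_, ?_⟩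
    · calc (q - 1) * (E * p ^ (m - s)) = (q - 1) * E * p ^ (m - s) := by ring
        _ ≤ q ^ (s + 1) * q ^ (m - s) := Nat.mul_le_mul hEb (hpm _)
        _ = q ^ (m + 1) := by rw [← pow_add]; congr 1; omega
    · rw [pow_eq_of_roots (p := p) M 1 hE0 (fun r hr => ?_) (k := m - s) (fun r => ?_), one_pow]
      · rw [map_one]
        rw [← hf, ← hR] at hr
        by_cases hr' : r ∈ S'
        · have hC : Cl r ∈ 𝒞 := by rw [h𝒞]; exact Finset.mem_image_of_mem _ hr'
          obtain ⟨e, he⟩ := hEd _ hC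
          rw [he, pow_mul, hpow _ (hrepS _ hC) r (by rw [hrepC _ hC]; exact hrC r hr'), one_pow]
        · rw [hS', Finset.mem_filter, hmS, not_and, not_not] at hr'
          rcases mul_self_eq_one_iff.1 (hr' hr) with h | h
          · rw [h, one_pow]
          · rcases Nat.even_or_odd q with he | ho
            · haveI : CharP F 2 := ringChar.of_eq ((FiniteField.even_card_iff_char_two (F := F)).2 (by
                rw [← hq]; exact Nat.even_iff.1 he))
              haveI : CharP (AlgebraicClosure F) 2 := charP_of_injective_algebraMap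
                (algebraMap F (AlgebraicClosure F)).injective 2
              rw [h, CharTwo.neg_eq, one_pow]
            · rw [h]; exact (even_iff_two_dvd.2 (hE2 ho)).neg_one_pow
      · rw [← hf, ← hR]
        by_cases hr : r ∈ S'
        · have := hsum2 r hr
          have := (hnum (m - s)).2.1
          omega
        · have := hsum1 r hr
          have := (hnum (m - s)).1
          rcases hn with hn | ⟨hn, hp3, -⟩
          · omega
          · have := (hnum (m - s)).2.2 hp3
            omega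
  -- only eigenvalues 1 and -1
  have hS'e : ∀ r, r ∉ S' := fun r hr => h𝒞e ⟨Cl r, by rw [h𝒞]; exact Finset.mem_image_of_mem _ hr⟩
  have hpm1 : ∀ r ∈ R, r = 1 ∨ r = -1 := fun r hr => by
    have h := hS'e r
    rw [hS', Finset.mem_filter, hmS, not_and, not_not] at h
    exact mul_self_eq_one_iff.1 (h hr)
  have hqm : (q - 1) * q ^ m ≤ q ^ (m + 1) := by
    rw [pow_succ, mul_comm (q ^ m)]; exact Nat.mul_le_mul_right _ (Nat.sub_le _ _)
  by_cases hboth : (1 : AlgebraicClosure F) ∈ R ∧ (-1 : AlgebraicClosure F) ∈ R ∧ (1 : AlgebraicClosure F) ≠ -1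
  · obtain ⟨hb1, hb2, hb3⟩ := hboth
    have hp3 : 3 ≤ p := by
      by_contra hlt
      obtain rfl : p = 2 := by omega
      haveI : CharP (AlgebraicClosure F) 2 := charP_of_injective_algebraMap
        (algebraMap F (AlgebraicClosure F)).injective 2
      exact hb3 (CharTwo.neg_eq 1).symm
    refine ⟨2 * p ^ (m - 1), 1, Nat.mul_pos two_pos (pow_pos (by omega) _), ?_, ?_⟩
    · refine le_trans (Nat.mul_le_mul_left _ ?_) hqm
      calc 2 * p ^ (m - 1) ≤ q * q ^ (m - 1) := Nat.mul_le_mul hq2 (hpm _)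
        _ = q ^ m := by rw [← pow_succ']; congr 1; omega
    · rw [pow_eq_of_roots (p := p) M 1 two_pos (fun r hr => ?_) (k := m - 1) (fun r => ?_), one_pow]
      · rw [map_one]
        rw [← hf, ← hR] at hr
        rcases hpm1 r hr with h | h <;> rw [h] <;> simp
      · rw [← hf, ← hR]
        have hle : R.count r + 1 ≤ Fintype.card n := by
          rcases eq_or_ne r 1 with h | h
          · have := htot {r, -1}
            rw [Finset.sum_pair (h ▸ hb3)] at this
            have := Multiset.one_le_count_iff_mem.2 hb2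
            omega
          · have := htot {r, 1}
            rw [Finset.sum_pair h] at this
            have := Multiset.one_le_count_iff_mem.2 hb1
            omega
        obtain ⟨j, rfl⟩ : ∃ j, m = j + 2 := ⟨m - 2, by omega⟩
        have h1 : ∀ j : ℕ, 2 * j + 3 ≤ 3 ^ (j + 1) ∧ (1 ≤ j → 2 * j + 4 ≤ 3 ^ (j + 1)) := fun j => by
          induction j with
          | zero => simp
          | succ j ih => rw [pow_succ]; omega
        have := h1 j
        have : 3 ^ (j + 1) ≤ p ^ (j + 1) := Nat.pow_le_pow_left hp3 _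
        show R.count r ≤ p ^ (j + 1)
        rcases hn with hn | ⟨hn, -, hm3⟩ <;> omega
  · obtain ⟨c, hc⟩ : ∃ c : F, ∀ r ∈ R, r = f c := by
      by_cases h1 : (-1 : AlgebraicClosure F) ∈ R
      · refine ⟨-1, fun r hr => ?_⟩
        rw [map_neg, map_one]
        rcases hpm1 r hr with h | h
        · subst h
          by_contra hne
          exact hboth ⟨hr, h1, hne⟩
        · exact h
      · refine ⟨1, fun r hr => ?_⟩
        rw [map_one]
        exact (hpm1 r hr).resolve_right fun h => h1 (h ▸ hr)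
    refine ⟨1 * p ^ m, c ^ p ^ m, by positivity, ?_, ?_⟩
    · rw [one_mul]; exact le_trans (Nat.mul_le_mul_left _ (hpm m)) hqm
    · refine pow_eq_of_roots (p := p) M c one_pos (fun r hr => ?_) (k := m) fun r => ?_
      · rw [← hf, ← hR] at hr
        rw [pow_one, hc r hr, hf]
      · rw [← hf, ← hR]
        have := R.count_le_card r
        have := (hnum m).1
        rcases hn with hn | ⟨hn, hp3, -⟩
        · omega
        · have := (hnum m).2.2 hp3
          omega

/-- The order of an element of a group of scalar-central isometries. -/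
theorem order_bound {F : Type*} [Field F] [Fintype F] {ι : Type} [Fintype ι] [DecidableEq ι] (Q : (ι → F) → F)
    {m : ℕ} (hm : 2 ≤ m) (hι : Fintype.card ι = m + m ∨ (Fintype.card ι = m + m + 1 ∧ Odd (Fintype.card F) ∧ 3 ≤ m))
    (J : Matrix ι ι F) (hJ : J.det ≠ 0) (hQ : ∀ u v, Q (u + v) - Q u - Q v = u ⬝ᵥ (J *ᵥ v)) (g : Cfsg.POmega F Q) :
    (Fintype.card F - 1) * orderOf g ≤ Fintype.card F ^ (m + 1) := by
  classical
  induction g using QuotientGroup.induction_on with
  | _ A =>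
  obtain ⟨p, hpc⟩ := CharP.exists F
  haveI : Fact p.Prime := ⟨CharP.char_is_prime F p⟩
  haveI := hpc
  obtain ⟨M, hMdef⟩ : ∃ M : Matrix ι ι F, M = ((A.1.1 : GL ι F) : Matrix ι ι F) := ⟨_, rfl⟩
  have hiso : ∀ v, Q (M *ᵥ v) = Q v := fun v => by rw [hMdef]; exact A.1.2 v v
  have hM : Mᵀ * J * M = J := by
    have h : ∀ u v, u ⬝ᵥ ((Mᵀ * J * M) *ᵥ v) = u ⬝ᵥ (J *ᵥ v) := fun u v => by
      rw [← hQ u v, ← hiso (u + v), ← hiso u, ← hiso v, Matrix.mulVec_add, hQ, ← Matrix.mulVec_mulVec,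
        ← Matrix.mulVec_mulVec, Matrix.dotProduct_mulVec, Matrix.vecMul_transpose]
    ext i j
    simpa [Matrix.mulVec_single_one] using h (Pi.single i 1) (Pi.single j 1)
  have hn : Fintype.card ι = m + m ∨ (Fintype.card ι = m + m + 1 ∧ 3 ≤ p ∧ 3 ≤ m) := by
    refine hι.imp_right fun ⟨h1, h2, h3⟩ => ⟨h1, ?_, h3⟩
    by_contra hlt
    have := (Fact.out : p.Prime).two_le
    obtain rfl : p = 2 := by omega
    obtain ⟨e, -, he⟩ := FiniteField.card F 2
    rw [he] at h2
    exact Nat.not_even_iff_odd.2 h2 (Nat.even_pow.2 ⟨even_two, e.pos.ne'⟩)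
  obtain ⟨E, c, hE0, hE, hEA⟩ := exists_scalar_pow (p := p) (q := Fintype.card F) rfl hm hn
    ((Matrix.isUnit_iff_isUnit_det J).2 (isUnit_iff_ne_zero.2 hJ)) hM
  refine le_trans (Nat.mul_le_mul_left _ (orderOf_le_of_pow_eq_one hE0 ?_)) hE
  rw [← QuotientGroup.mk_pow, QuotientGroup.eq_one_iff, Subgroup.mem_center_iff]
  intro B
  refine Subtype.ext (Subtype.ext (Units.ext ?_))
  simp only [Subgroup.coe_mul, SubmonoidClass.coe_pow, Units.val_mul, Units.val_pow_eq_pow_val]
  rw [← hMdef, hEA]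
  simp

/-- Let F be a finite field with q elements. Every element g of PΩ_(2m+1)(F) (m ≥ 3, q odd), of PΩ⁺_2m(F) (m ≥ 4), or of PΩ⁻_2m(F) (m ≥ 4, the form having an anisotropic binary part) satisfies (q − 1)·|g| ≤ q^(m+1), i.e. has order at most q^(m+1)/(q − 1). -/
theorem result {F : Type*} [Field F] [Fintype F] (m : ℕ) :
    (3 ≤ m → Odd (Fintype.card F) → ∀ g : Cfsg.POmega F (Cfsg.quadFormOdd m F),
      (Fintype.card F - 1) * orderOf g ≤ Fintype.card F ^ (m + 1)) ∧
    (4 ≤ m → ∀ g : Cfsg.POmega F (Cfsg.quadFormPlus m F),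
      (Fintype.card F - 1) * orderOf g ≤ Fintype.card F ^ (m + 1)) ∧
    (4 ≤ m → ∀ a b : F, (∀ z₁ z₂ : F, z₁ ^ 2 + a * z₁ * z₂ + b * z₂ ^ 2 = 0 → z₁ = 0 ∧ z₂ = 0) →
      ∀ g : Cfsg.POmega F (Cfsg.quadFormMinus (m - 1) F a b),
      (Fintype.card F - 1) * orderOf g ≤ Fintype.card F ^ (m + 1)) := by
  have hsw : ∀ k : ℕ, (Matrix.fromBlocks 0 1 1 0 : Matrix (Fin k ⊕ Fin k) (Fin k ⊕ Fin k) F).det ≠ 0 := fun k =>
    ((Matrix.isUnit_iff_isUnit_det _).1 (IsUnit.of_mul_eq_one (Matrix.fromBlocks 0 1 1 0) (by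
      rw [Matrix.fromBlocks_multiply]; simp [Matrix.fromBlocks_one]))).ne_zero
  refine ⟨fun hm hodd g => ?_, fun hm g => ?_, fun hm a b han g => ?_⟩
  · have h2 : (2 : F) ≠ 0 := Ring.two_ne_zero fun h => by
      haveI := (ringChar.eq_iff (R := F) (p := 2)).1 h
      obtain ⟨e, -, he⟩ := FiniteField.card F 2
      rw [he] at hodd
      exact Nat.not_even_iff_odd.2 hodd (Nat.even_pow.2 ⟨even_two, e.pos.ne'⟩)
    refine order_bound _ (m := m) (by omega) (Or.inr ⟨by simp; omega, hodd, hm⟩)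
      (Matrix.fromBlocks (Matrix.of fun _ _ => 2) 0 0 (Matrix.fromBlocks 0 1 1 0)) ?_ (fun u v => ?_) g
    · rw [Matrix.det_fromBlocks_zero₂₁, Matrix.det_unique]
      exact mul_ne_zero h2 (hsw m)
    · simp only [Cfsg.quadFormOdd, dotProduct, Matrix.mulVec, Fintype.sum_sum_type, Pi.add_apply]
      simp only [Matrix.fromBlocks_apply₁₁, Matrix.fromBlocks_apply₁₂, Matrix.fromBlocks_apply₂₁, Matrix.fromBlocks_apply₂₂,
        Matrix.zero_apply, Matrix.one_apply, Matrix.of_apply, zero_mul, Finset.sum_const_zero, add_zero, zero_add,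
        ite_mul, one_mul, Finset.sum_ite_eq, Finset.mem_univ, if_true, Fintype.sum_unique]
      simp only [add_mul, mul_add, Finset.sum_add_distrib]
      rw [Finset.sum_congr rfl fun i _ => mul_comm (u (Sum.inr (Sum.inr i))) (v (Sum.inr (Sum.inl i)))]
      ring
  · refine order_bound _ (m := m) (by omega) (Or.inl (by simp)) (Matrix.fromBlocks 0 1 1 0) (hsw m) (fun u v => ?_) g
    simp only [Cfsg.quadFormPlus, dotProduct, Matrix.mulVec, Fintype.sum_sum_type, Pi.add_apply]
    simp only [Matrix.fromBlocks_apply₁₁, Matrix.fromBlocks_apply₁₂, Matrix.fromBlocks_apply₂₁, Matrix.fromBlocks_apply₂₂,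
      Matrix.zero_apply, Matrix.one_apply, zero_mul, Finset.sum_const_zero, add_zero, zero_add,
      ite_mul, one_mul, Finset.sum_ite_eq, Finset.mem_univ, if_true]
    simp only [add_mul, mul_add, Finset.sum_add_distrib]
    rw [Finset.sum_congr rfl fun i _ => mul_comm (u (Sum.inr i)) (v (Sum.inl i))]
    ring
  · refine order_bound _ (m := m) (by omega) (Or.inl (by simp; omega))
      (Matrix.fromBlocks (Matrix.fromBlocks 0 1 1 0) 0 0 !![2, a; a, 2 * b]) ?_ (fun u v => ?_) g
    · rw [Matrix.det_fromBlocks_zero₂₁, Matrix.det_fin_two_of]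
      refine mul_ne_zero (hsw (m - 1)) fun h => ?_
      by_cases h2 : (2 : F) = 0
      · have ha : a = 0 := mul_self_eq_zero.1 (by linear_combination -h + 2 * b * h2)
        haveI : CharP F 2 := (CharP.charP_iff_prime_eq_zero Nat.prime_two).2 (by exact_mod_cast h2)
        obtain ⟨c, hc⟩ := FiniteField.isSquare_of_char_two (ringChar.eq F 2) b
        exact one_ne_zero (han c 1 (by rw [ha, hc]; linear_combination c * c * h2)).2
      · exact h2 (han (-a) 2 (by linear_combination h)).2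
    · simp only [Cfsg.quadFormMinus, dotProduct, Matrix.mulVec, Fintype.sum_sum_type, Pi.add_apply, Fin.sum_univ_two]
      simp only [Matrix.fromBlocks_apply₁₁, Matrix.fromBlocks_apply₁₂, Matrix.fromBlocks_apply₂₁, Matrix.fromBlocks_apply₂₂,
        Matrix.zero_apply, Matrix.one_apply, Matrix.of_apply, Matrix.cons_val_zero, Matrix.cons_val_one, Matrix.cons_val',
        Matrix.cons_val_fin_one, zero_mul, Finset.sum_const_zero, add_zero, zero_add,
        ite_mul, one_mul, Finset.sum_ite_eq, Finset.mem_univ, if_true]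
      simp only [add_mul, mul_add, Finset.sum_add_distrib]
      rw [Finset.sum_congr rfl fun i _ => mul_comm (u (Sum.inl (Sum.inr i))) (v (Sum.inl (Sum.inl i)))]
      ring

end Cfsg.Agent.S2265
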