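import Cfsg.Statements.S2496
import Mathlib
import Cfsg.Agent.S2904
import Cfsg.Agent.S2638
import Cfsg.Agent.Lib.Linear.AbsorbPSUElems

set_option autoImplicit false
open Cfsg

namespace Cfsg.Agent.S2496

open Matrix Polynomial
open Cfsg.Lib.Linear.Herm (frob frob_apply frob_frob)
open Cfsg.Lib.Linear.AbsorbPSU
open scoped Pointwise

/-- The general unitary group as the matrices inverse to their adjoint. -/
theorem mem_GU_iff_ad {F : Type*} [Field F] [Fintype F] {q n : ℕ} (hF : Fintype.card F = q ^ 2) (g : GL (Fin n) F) :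
    g ∈ Cfsg.GU n F q ↔
      ad (frob hF) (g : Matrix (Fin n) (Fin n) F) * (g : Matrix (Fin n) (Fin n) F) = 1 := by
  set M : Matrix (Fin n) (Fin n) F := (g : Matrix (Fin n) (Fin n) F)
  show (∀ u v, Cfsg.hermForm n F q (M *ᵥ u) (M *ᵥ v) = Cfsg.hermForm n F q u v) ↔ _
  have h : ∀ u v, Cfsg.hermForm n F q (M *ᵥ u) (M *ᵥ v) = u ⬝ᵥ ((Mᵀ * M.map (frob hF)) *ᵥ (frob hF ∘ v)) := by
    intro u v
    have e : (fun i => (M *ᵥ v) i ^ q) = M.map (frob hF) *ᵥ (frob hF ∘ v) := funext fun i => by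
      rw [← frob_apply hF, RingHom.map_mulVec]
    show (M *ᵥ u) ⬝ᵥ (fun i => (M *ᵥ v) i ^ q) = _
    rw [e, ← Matrix.mulVec_mulVec, Matrix.dotProduct_mulVec u, Matrix.vecMul_transpose]
  have h0 : ∀ u v, Cfsg.hermForm n F q u v = u ⬝ᵥ (frob hF ∘ v) := fun u v => by
    simp [Cfsg.hermForm, dotProduct, frob_apply]
  have e2 : ad (frob hF) M * M = (Mᵀ * M.map (frob hF))ᵀ := by
    rw [Matrix.transpose_mul, Matrix.transpose_transpose, ad]
  rw [e2, Matrix.transpose_eq_one]
  constructor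
  · intro hh
    ext i j
    have := hh (Pi.single i 1) (Pi.single j 1)
    rw [h, h0, show frob hF ∘ Pi.single j (1 : F) = Pi.single j 1 by
      funext k; rcases eq_or_ne k j with rfl | hk <;> simp [*]] at this
    simpa [Matrix.one_apply, Pi.single_apply, eq_comm] using this
  · intro hh u v
    rw [h, h0, hh, Matrix.one_mulVec]

/-- The numerical facts on the order `q^m + (-1)^m`. -/
theorem arith {q m : ℕ} (hq : 3 ≤ q) (hm : 2 ≤ m) :
    ∃ (e R : ℕ), e = (if Even m then 2 * m else m) ∧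
      (if Even m then q ^ m + 1 else q ^ m - 1) * R = (tau q (2 * m)).natAbs ∧
      (tau q (2 * m)).natAbs * (q + 1) = q ^ (2 * m) - 1 ∧
      (if Even m then q ^ m + 1 else q ^ m - 1) ∣ q ^ (2 * m) - 1 ∧
      R * (q + 1) = (if Even m then q ^ m - 1 else q ^ m + 1) ∧
      (∀ d, d ∣ q + 1 → (d ∣ R ↔ d ∣ m)) := by
  have hqm : 1 ≤ q ^ m := Nat.one_le_pow _ _ (by omega)
  have hT : (tau q (2 * m)).natAbs * (q + 1) = q ^ (2 * m) - 1 := by
    have h := congrArg Int.natAbs (tau_mul q (2 * m))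
    rw [Int.natAbs_mul, (even_two_mul m).neg_pow, show (-(q : ℤ) - 1) = -((q + 1 : ℕ) : ℤ) by push_cast; ring,
      Int.natAbs_neg, Int.natAbs_natCast,
      show ((q : ℤ) ^ (2 * m) - 1) = ((q ^ (2 * m) - 1 : ℕ) : ℤ) by
        rw [Nat.cast_sub (Nat.one_le_pow _ _ (by omega))]; push_cast; ring, Int.natAbs_natCast] at h
    exact h
  have hsq : q ^ (2 * m) - 1 = (q ^ m + 1) * (q ^ m - 1) := by
    rw [pow_mul', ← one_pow (M := ℕ) 2, Nat.sq_sub_sq, one_pow]
  -- the alternating quotient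
  have hd1 : ((tau q m).natAbs * (q + 1) : ℕ) = if Even m then q ^ m - 1 else q ^ m + 1 := by
    have h := congrArg Int.natAbs (tau_mul q m)
    rw [Int.natAbs_mul, show (-(q : ℤ) - 1) = -((q + 1 : ℕ) : ℤ) by push_cast; ring, Int.natAbs_neg,
      Int.natAbs_natCast] at h
    rw [h]
    split
    · next he =>
      rw [he.neg_pow, show ((q : ℤ) ^ m - 1) = ((q ^ m - 1 : ℕ) : ℤ) by rw [Nat.cast_sub hqm]; push_cast; ring,
        Int.natAbs_natCast]
    · next he =>
      rw [(Nat.not_even_iff_odd.1 he).neg_pow, show (-(q : ℤ) ^ m - 1) = -((q ^ m + 1 : ℕ) : ℤ) by push_cast; ring,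
        Int.natAbs_neg, Int.natAbs_natCast]
  refine ⟨_, (tau q m).natAbs, rfl, ?_, hT, ?_, hd1, fun d hd => ?_⟩
  · refine Nat.eq_of_mul_eq_mul_right (show 0 < q + 1 by omega) ?_
    rw [hT, mul_assoc, hd1, hsq]
    split <;> ring
  · rw [hsq]
    split
    · exact dvd_mul_right _ _
    · exact dvd_mul_left _ _
  · rw [← Int.natCast_dvd_natCast, Int.natCast_natAbs, dvd_abs, ← Int.natCast_dvd_natCast (n := m)]
    have h : ((q + 1 : ℕ) : ℤ) ∣ tau q m - (m : ℤ) := by
      have hm' : (m : ℤ) = ∑ _i ∈ Finset.range m, (1 : ℤ) := by simp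
      rw [tau, hm', ← Finset.sum_sub_distrib]
      refine Finset.dvd_sum fun i _ => ?_
      have := sub_dvd_pow_sub_pow (-(q : ℤ)) 1 i
      rw [one_pow] at this
      exact (dvd_neg.2 dvd_rfl).trans (by
        rw [show -((q + 1 : ℕ) : ℤ) = -(q : ℤ) - 1 by push_cast; ring]; exact this)
    have hd' : (d : ℤ) ∣ tau q m - (m : ℤ) := (Int.natCast_dvd_natCast.2 hd).trans h
    exact (dvd_iff_dvd_of_dvd_sub hd')

/-- The two-part condition. -/
theorem gcd_dvd_half {n D : ℕ} (hn : n ≠ 0) (hev : Even n) (hD : D ≠ 0) :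
    Nat.gcd n D ∣ n / 2 ↔ padicValNat 2 D < padicValNat 2 n := by
  haveI : Fact (Nat.Prime 2) := ⟨Nat.prime_two⟩
  obtain ⟨m, rfl⟩ := hev
  have hm : m ≠ 0 := by omega
  rw [show m + m = 2 * m by ring, Nat.mul_div_cancel_left m two_pos]
  have hv : padicValNat 2 (2 * m) = padicValNat 2 m + 1 := by
    rw [padicValNat.mul two_ne_zero hm, padicValNat.self Nat.one_lt_two, add_comm]
  rw [hv]
  have hpd : ∀ a x : ℕ, x ≠ 0 → (2 ^ a ∣ x ↔ a ≤ padicValNat 2 x) := fun a x hx =>
    padicValNat_dvd_iff_le hx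
  constructor
  · intro h
    by_contra hlt
    have h1 : 2 ^ (padicValNat 2 m + 1) ∣ Nat.gcd (2 * m) D :=
      Nat.dvd_gcd ((hpd _ _ (by omega)).2 (by omega)) ((hpd _ _ hD).2 (by omega))
    have := (hpd _ _ hm).1 (h1.trans h)
    omega
  · intro hlt
    set d := Nat.gcd (2 * m) D with hd
    have hd2 : d ∣ 2 * m := Nat.gcd_dvd_left _ _
    obtain ⟨c, hc⟩ := hd2
    rcases Nat.even_or_odd c with ⟨e, he⟩ | ⟨e, he⟩
    · exact ⟨e, by subst he; nlinarith⟩
    · exfalso
      have hd0 : d ≠ 0 := fun h0 => by rw [h0, zero_mul] at hc; omega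
      have hc0 : c ≠ 0 := by omega
      have h1 : padicValNat 2 (2 * m) = padicValNat 2 d := by
        rw [hc, padicValNat.mul hd0 hc0, padicValNat.eq_zero_of_not_dvd (n := c) (by omega), add_zero]
      have h2 : padicValNat 2 d ≤ padicValNat 2 D :=
        (hpd _ _ hD).1 (pow_padicValNat_dvd.trans (Nat.gcd_dvd_right _ _))
      omega

set_option maxHeartbeats 1600000 in
/-- The projective order of an element commuting with a primitive element divides that of the torus. -/
theorem pow_eq_scalar {F : Type*} [Field F] [Fintype F] {p q m n r : ℕ} [Fact p.Prime] [CharP F p]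
    (hF : Fintype.card F = q ^ 2) (hn : n = 2 * m) (hm : 2 ≤ m) (hq : 3 ≤ q) (hr : r.Prime) (hr2 : r ≠ 2)
    (hrp : r ≠ p) (hord : orderOf ((q ^ 2 : ℕ) : ZMod r) = m) (hodd : Odd m → (q : ZMod r) ^ m = 1)
    (hcop : ∀ i, i < n - 1 → ¬ r ∣ (if Even i then q ^ (i + 1) + 1 else q ^ (i + 1) - 1))
    (hlast : r ∣ q ^ n - 1)
    (X Y : Cfsg.SU n F q) (hY : orderOf Y = r) (hc : Commute X Y) :
    ∃ c : F, mat X ^ ((tau q n).natAbs / n.gcd (q + 1)) = Matrix.scalar (Fin n) c := by
  classical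
  haveI : Fact r.Prime := ⟨hr⟩
  set σ := frob hF
  have hσσ : ∀ x, σ (σ x) = x := frob_frob hF
  haveI : NeZero m := ⟨by omega⟩
  let K := FiniteField.Extension F p m
  let β : Module.Basis (Fin m) F K := (Module.finBasis F K).reindex (finCongr (FiniteField.finrank_extension F p m))
  haveI : Finite K := Module.finite_of_finite F
  letI : Fintype K := Fintype.ofFinite _
  have hKc : Nat.card K = q ^ n := by
    rw [FiniteField.natCard_extension, Nat.card_eq_fintype_card, hF, ← pow_mul, hn]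
  let lm : K →ₐ[F] Matrix (Fin m) (Fin m) F := Algebra.leftMulMatrix β
  have hlm : Function.Injective lm := Algebra.leftMulMatrix_injective β
  have hinv : ∀ v : Kˣ, ad σ (lm (v : K)) * ad σ (lm ((v⁻¹ : Kˣ) : K)) = 1 := fun v => by
    rw [← ad_mul, ← map_mul, Units.inv_mul, map_one, ad_one]
  let blk : Kˣ → Matrix (Fin m ⊕ Fin m) (Fin m ⊕ Fin m) F := fun v =>
    fromBlocks (lm (v : K)) 0 0 (ad σ (lm ((v⁻¹ : Kˣ) : K)))
  have hblk : ∀ v w, blk (v * w) = blk v * blk w := fun v w => by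
    simp only [blk, fromBlocks_multiply, zero_mul, mul_zero, add_zero, zero_add, Units.val_mul, map_mul, _root_.mul_inv_rev]
    rw [ad_mul]
  obtain ⟨hH, hHdet, hiso⟩ := perm_form σ (ι := Fin m ⊕ Fin m) (π := Sum.swap) Sum.swap_swap
  obtain ⟨ψ, hψinj, hψdet, hψiso, hψsa⟩ := exists_transport hF (n := n)
    (by rw [Fintype.card_sum, Fintype.card_fin, hn]; ring) hH hHdet
  set H := (1 : Matrix (Fin m ⊕ Fin m) (Fin m ⊕ Fin m) F).submatrix Sum.swap id with hHdef
  have hHb : H = fromBlocks 0 1 1 0 := by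
    ext (i | i) (j | j) <;> simp [H, Matrix.one_apply]
  have hHH : H * H = 1 := by rw [hHb, fromBlocks_multiply]; simp [fromBlocks_one]
  -- the adjoint in the transported form
  have hadj : ∀ Z, ad σ (ψ Z) = ψ (H * ad σ Z * H) := by
    intro Z
    obtain ⟨θ, hθ⟩ : ∃ θ : F, σ θ ≠ θ := by
      by_contra h
      push Not at h
      exact Cfsg.Lib.Linear.Herm.frob_ne_id hF (RingHom.ext h)
    have hs : σ θ - θ ≠ 0 := sub_ne_zero.2 hθ
    set Zs := H * ad σ Z * H with hZs
    have hinv' : H * ad σ Zs * H = Z := by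
      rw [hZs, ad_mul, ad_mul, hH, ad_ad σ hσσ]
      calc H * (H * (Z * H)) * H = (H * H) * Z * (H * H) := by simp only [mul_assoc]
        _ = Z := by rw [hHH, one_mul, mul_one]
    set E2 := (σ θ - θ)⁻¹ • (Zs - Z) with hE2
    set E1 := Z - θ • E2 with hE1
    have hf2 : H * ad σ E2 * H = E2 := by
      rw [hE2, ad_smul, ad_sub, mul_smul_comm, smul_mul_assoc, mul_sub, sub_mul, hinv', ← hZs, map_inv₀, map_sub, hσσ,
        show θ - σ θ = -(σ θ - θ) by ring, inv_neg, neg_smul, ← smul_neg, neg_sub]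
    have hf1 : H * ad σ E1 * H = E1 := by
      rw [hE1, ad_sub, ad_smul, mul_sub, sub_mul, mul_smul_comm, smul_mul_assoc, hf2, ← hZs]
      have e : (σ θ - θ) • E2 = Zs - Z := by rw [hE2, smul_smul, mul_inv_cancel₀ hs, one_smul]
      have e' : σ θ • E2 - θ • E2 = Zs - Z := by rw [← sub_smul, e]
      linear_combination (norm := abel) (-(1 : ℤ)) • e'
    have hsa : ∀ E, H * ad σ E * H = E → ad σ (ψ E) = ψ E := fun E hE => hψsa E (by
      conv_rhs => rw [← hE, ← mul_assoc, ← mul_assoc, hHH, one_mul])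
    have eZ : Z = E1 + θ • E2 := by rw [hE1, sub_add_cancel]
    have eZs : Zs = E1 + σ θ • E2 := by
      rw [hZs]
      conv_lhs => rw [eZ]
      rw [ad_add, ad_smul, mul_add, add_mul, mul_smul_comm, smul_mul_assoc, hf1, hf2]
    conv_lhs => rw [eZ]
    rw [eZs, map_add, map_add, ad_add, map_smul ψ θ, ad_smul, hsa E1 hf1, hsa E2 hf2, map_smul ψ (σ θ)]
  have hstar : ∀ A B C D : Matrix (Fin m) (Fin m) F,
      H * ad σ (fromBlocks A B C D) * H = fromBlocks (ad σ D) (ad σ B) (ad σ C) (ad σ A) := by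
    intro A B C D
    have e : ad σ (fromBlocks A B C D) = fromBlocks (ad σ A) (ad σ C) (ad σ B) (ad σ D) := by
      ext (i | i) (j | j) <;> simp [ad]
    rw [e, hHb, fromBlocks_multiply, fromBlocks_multiply]
    simp
  have hblkiso : ∀ v, ad σ (ψ (blk v)) * ψ (blk v) = 1 := fun v => hψiso _ (hiso _ (by
    have e : (ad σ (blk v)).submatrix Sum.swap Sum.swap =
        fromBlocks (lm ((v⁻¹ : Kˣ) : K)) 0 0 (ad σ (lm (v : K))) := by
      ext (i | i) (j | j) <;> simp [blk, ad, hσσ]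
    rw [e, fromBlocks_multiply, ← map_mul, Units.inv_mul, map_one, hinv]
    simp [fromBlocks_one]))
  let Φm : Kˣ →* Matrix (Fin n) (Fin n) F :=
    { toFun := fun v => ψ (blk v)
      map_one' := by
        show ψ (blk 1) = 1
        rw [show blk 1 = 1 by simp [blk, ad_one, fromBlocks_one], map_one]
      map_mul' := fun v w => by rw [hblk, map_mul] }
  let Φ : Kˣ →* ↥(Cfsg.GU n F q) :=
    Φm.toHomUnits.codRestrict _ fun v => (mem_GU_iff_ad hF _).2 (hblkiso v)
  have hΦval : ∀ v, (((Φ v : ↥(Cfsg.GU n F q)) : GL (Fin n) F) : Matrix (Fin n) (Fin n) F) = ψ (blk v) :=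
    fun v => rfl
  have hΦinj : Function.Injective Φ := fun v w h => by
    have h1 := hψinj (congrArg (fun g : ↥(Cfsg.GU n F q) => ((g : GL (Fin n) F) : Matrix (Fin n) (Fin n) F)) h)
    exact Units.ext (hlm (Matrix.fromBlocks_inj.1 h1).1)
  -- Sylow
  have hvr : (Nat.card ↥(Cfsg.GU n F q)).factorization r = (q ^ n - 1).factorization r := by
    rw [Cfsg.Lib.Linear.Herm.card_GU hF]
    have hqr : ¬ r ∣ q := fun h => by
      have h2 := Nat.dvd_sub (h.trans (dvd_pow_self q (show n ≠ 0 by omega))) hlast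
      rw [Nat.sub_sub_self (Nat.one_le_pow _ _ (by omega))] at h2
      exact hr.ne_one (Nat.dvd_one.1 h2)
    have hne : ∀ i ∈ Finset.range n, (if Even i then q ^ (i + 1) + 1 else q ^ (i + 1) - 1) ≠ 0 := by
      intro i _
      split
      · omega
      · exact Nat.sub_ne_zero_of_lt (Nat.one_lt_pow (by omega) (by omega))
    rw [Nat.factorization_mul (pow_ne_zero _ (by omega)) (Finset.prod_ne_zero_iff.2 hne), Finsupp.add_apply,
      Nat.factorization_eq_zero_of_not_dvd (n := q ^ _) (fun h => hqr (hr.dvd_of_dvd_pow h)), zero_add,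
      Nat.factorization_prod_apply hne, Finset.sum_eq_single_of_mem (n - 1) (Finset.mem_range.2 (by omega))]
    · rw [if_neg (by rw [Nat.not_even_iff_odd]; exact ⟨m - 1, by omega⟩), show n - 1 + 1 = n by omega]
    · intro i hi hne'
      exact Nat.factorization_eq_zero_of_not_dvd (hcop i (by have := Finset.mem_range.1 hi; omega))
  obtain ⟨P₀⟩ := (inferInstance : Nonempty (Sylow r Kˣ))
  have hP₀ : Nat.card ((P₀ : Subgroup Kˣ).map Φ) = r ^ (Nat.card ↥(Cfsg.GU n F q)).factorization r := by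
    rw [Nat.card_congr ((P₀ : Subgroup Kˣ).equivMapOfInjective Φ hΦinj).toEquiv.symm, P₀.card_eq_multiplicity,
      Nat.card_units, hKc, hvr]
  let PE : Sylow r ↥(Cfsg.GU n F q) := Sylow.ofCard _ hP₀
  let toU : Cfsg.SU n F q →* ↥(Cfsg.GU n F q) :=
    (Matrix.SpecialLinearGroup.toGL.comp (Cfsg.SU n F q).subtype).codRestrict _ fun g => g.2
  have htoU : Function.Injective toU := fun a b h =>
    Subtype.ext (Matrix.SpecialLinearGroup.toGL_injective (congrArg Subtype.val h))
  have hyord : orderOf (toU Y) = r := by rw [orderOf_injective _ htoU, hY]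
  obtain ⟨Q, hQ⟩ := (IsPGroup.of_card (n := 1) (show Nat.card (Subgroup.zpowers (toU Y)) = r ^ 1 by
    rw [Nat.card_zpowers, hyord, pow_one])).exists_le_sylow
  obtain ⟨P, hP⟩ := MulAction.exists_smul_eq ↥(Cfsg.GU n F q) Q PE
  have hmem : P * toU Y * P⁻¹ ∈ (PE : Subgroup ↥(Cfsg.GU n F q)) := by
    rw [← hP]
    show P * toU Y * P⁻¹ ∈ MulAut.conj P • (Q : Subgroup ↥(Cfsg.GU n F q))
    exact ⟨toU Y, hQ (Subgroup.mem_zpowers _), rfl⟩
  obtain ⟨u, -, hu⟩ : P * toU Y * P⁻¹ ∈ (P₀ : Subgroup Kˣ).map Φ := hmem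
  have huord : orderOf u = r := by
    rw [← orderOf_injective Φ hΦinj, hu, ← MulAut.conj_apply, MulEquiv.orderOf_eq, hyord]
  -- the conjugate of `X` in block form
  obtain ⟨Z, hZ⟩ : ∃ Z, ψ Z = (((P * toU X * P⁻¹ : ↥(Cfsg.GU n F q)) : GL (Fin n) F) :
      Matrix (Fin n) (Fin n) F) :=
    LinearMap.injective_iff_surjective_of_finrank_eq_finrank (by
      rw [Module.finrank_matrix, Module.finrank_matrix, Fintype.card_sum, Fintype.card_fin, Fintype.card_fin, hn]
      simp [two_mul]) (f := ψ.toLinearMap) |>.1 hψinj _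
  have hcomm : Z * blk u = blk u * Z := hψinj (by
    rw [map_mul, map_mul, hZ, ← hΦval, hu, ← Units.val_mul, ← Units.val_mul, ← Subgroup.coe_mul,
      ← Subgroup.coe_mul]
    have h1 : toU X * toU Y = toU Y * toU X := (hc.map toU).eq
    have h2 : P * toU X * P⁻¹ * (P * toU Y * P⁻¹) = P * toU Y * P⁻¹ * (P * toU X * P⁻¹) := by
      simp only [mul_assoc, inv_mul_cancel_left]
      rw [← mul_assoc (toU X), h1, mul_assoc]
    rw [h2])
  obtain ⟨A, B, C, D, rfl⟩ : ∃ A B C D, Z = fromBlocks A B C D :=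
    ⟨_, _, _, _, (fromBlocks_toBlocks Z).symm⟩
  simp only [blk, fromBlocks_multiply, zero_mul, mul_zero, add_zero, zero_add, fromBlocks_inj] at hcomm
  obtain ⟨hA, hB, hC, -⟩ := hcomm
  -- the two blocks are not similar
  set f := minpoly F (u : K)
  set L := lm (u : K)
  set L' := ad σ (lm ((u⁻¹ : Kˣ) : K))
  have hfL : aeval L f = 0 := by rw [aeval_algHom_apply, minpoly.aeval, map_zero]
  have hfz : aeval ((u⁻¹ : Kˣ) : K) (f.map σ) ≠ 0 := by
    intro h0
    obtain ⟨⟨a, -, hqa⟩, -⟩ := Cfsg.Lib.Spec.UThree.char_facts p hF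
    haveI : CharP K p := charP_of_injective_algebraMap (algebraMap F K).injective p
    let θ : K →+* K := iterateFrobenius K p a
    have hθ : ∀ x, θ x = x ^ q := fun x => by
      show iterateFrobenius K p a x = _
      rw [iterateFrobenius_def, hqa]
    obtain ⟨z, hz⟩ := (Finite.injective_iff_surjective.1 θ.injective) ((u⁻¹ : Kˣ) : K)
    have hz0 : aeval z f = 0 := θ.injective (by
      rw [map_zero, ← h0, ← hz, aeval_def, aeval_def, Polynomial.hom_eval₂, Polynomial.eval₂_map]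
      congr 1
      exact RingHom.ext fun c => by
        rw [RingHom.comp_apply, RingHom.comp_apply, hθ, frob_apply, map_pow])
    obtain ⟨g, hg⟩ := minpoly.exists_algEquiv_of_root' (Algebra.IsAlgebraic.isAlgebraic (u : K)) hz0
    obtain ⟨⟨j, hjlt⟩, hj⟩ := (FiniteField.bijective_frobeniusAlgHom_pow F K).2 g.toAlgHom
    simp only at hj
    have hgu : z = (u : K) ^ ((q ^ 2) ^ j) := by
      rw [← hg, ← AlgEquiv.coe_algHom, show (g : K →ₐ[F] K) = g.toAlgHom from rfl, ← hj, AlgHom.coe_pow,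
        FiniteField.coe_frobeniusAlgHom, pow_iterate, hF]
    have h1 : u ^ ((q ^ 2) ^ j * q + 1) = 1 := Units.ext (by
      rw [pow_succ, Units.val_mul, Units.val_pow_eq_pow_val, pow_mul, ← hgu, ← hθ, hz, Units.inv_mul, Units.val_one])
    have h2 := orderOf_dvd_of_pow_eq_one h1
    rw [huord, ← ZMod.natCast_eq_zero_iff, Nat.cast_add, Nat.cast_one, ← pow_mul, ← pow_succ] at h2
    have h3 : (q : ZMod r) ^ (2 * j + 1) = -1 := by
      rw [eq_neg_iff_add_eq_zero, ← h2]; push_cast; ring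
    have h4 : m ∣ 2 * j + 1 := by
      rw [← hord]
      refine orderOf_dvd_of_pow_eq_one ?_
      rw [Nat.cast_pow, ← pow_mul, mul_comm 2, pow_mul, h3, neg_one_sq]
    have hmodd : Odd m := (odd_two_mul_add_one j).of_dvd_nat h4
    obtain ⟨c, hc'⟩ := h4
    rw [hc', pow_mul, hodd hmodd, one_pow] at h3
    have h5 : (2 : ZMod r) = 0 := by linear_combination h3
    exact hr2 ((Nat.prime_dvd_prime_iff_eq hr Nat.prime_two).1 ((ZMod.natCast_eq_zero_iff 2 r).1 (by exact_mod_cast h5)))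
  have hfL' : IsUnit (aeval L' f) := by
    have e : aeval L' f = ad σ (lm (aeval ((u⁻¹ : Kˣ) : K) (f.map σ))) := by
      rw [← aeval_algHom_apply, ad_aeval, Polynomial.map_map,
        show σ.comp σ = RingHom.id F from RingHom.ext hσσ, Polynomial.map_id]
    rw [e]
    refine IsUnit.of_mul_eq_one (ad σ (lm (aeval ((u⁻¹ : Kˣ) : K) (f.map σ))⁻¹)) ?_
    rw [← ad_mul, ← map_mul, inv_mul_cancel₀ hfz, map_one, ad_one]
  have hint : ∀ {S T W : Matrix (Fin m) (Fin m) F} (g : F[X]), S * W = W * T → aeval S g * W = W * aeval T g := by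
    intro S T W g h
    induction g using Polynomial.induction_on' with
    | add g₁ g₂ h₁ h₂ => simp only [map_add, add_mul, mul_add, h₁, h₂]
    | monomial k c =>
      have hk : ∀ k : ℕ, S ^ k * W = W * T ^ k := by
        intro k
        induction k with
        | zero => simp
        | succ k ih => rw [pow_succ', mul_assoc, ih, ← mul_assoc, h, mul_assoc, ← pow_succ']
      simp only [aeval_monomial]
      rw [mul_assoc, hk, ← mul_assoc, Algebra.commutes, mul_assoc]
  have hB0 : B = 0 := by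
    have h := hint f hB.symm
    rw [hfL, zero_mul] at h
    exact (hfL'.mul_left_eq_zero).1 h.symm
  have hC0 : C = 0 := by
    have h := hint f hC.symm
    rw [hfL, mul_zero] at h
    exact (hfL'.mul_right_eq_zero).1 h
  subst hB0 hC0
  -- the first block is in the field
  have hPX : ad σ (ψ (fromBlocks A 0 0 D)) * ψ (fromBlocks A 0 0 D) = 1 := by
    rw [hZ]; exact (mem_GU_iff_ad hF _).1 (P * toU X * P⁻¹).2
  have hDA : ad σ D * A = 1 := by
    rw [hadj, ← map_mul, ← map_one ψ] at hPX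
    have h := hψinj hPX
    rw [hstar, fromBlocks_multiply, ← fromBlocks_one] at h
    have h' := (Matrix.fromBlocks_inj.1 h).1
    simpa using h'
  have hdetZ : A.det * D.det = 1 := by
    rw [← Matrix.det_fromBlocks_zero₂₁ A 0 D, ← hψdet, hZ, Subgroup.coe_mul, Subgroup.coe_mul, Subgroup.coe_inv,
      Units.val_mul, Units.val_mul, Matrix.det_units_conj]
    exact (X : Matrix.SpecialLinearGroup (Fin n) F).2
  have hAu : IsUnit A := (Matrix.isUnit_iff_isUnit_det A).2 (IsUnit.of_mul_eq_one _ hdetZ)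
  let ψ0 : Kˣ →* GL (Fin m) F := Units.map lm.toRingHom.toMonoidHom
  have hψ0 : Function.Injective ψ0 := fun a b h => Units.ext (hlm (congrArg Units.val h))
  obtain ⟨-, hcard⟩ := Cfsg.Agent.S2638.result (p := p) hF (show 1 ≤ m by omega) hr hrp hord (ψ0 u)
    (by rw [orderOf_injective ψ0 hψ0, huord])
  have heq : ψ0.range = Subgroup.centralizer ({ψ0 u} : Set (GL (Fin m) F)) := by
    refine Subgroup.eq_of_le_of_card_ge ?_ ?_
    · rintro _ ⟨v, rfl⟩
      rw [Subgroup.mem_centralizer_singleton_iff, ← map_mul, ← map_mul, mul_comm]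
    · rw [hcard, Nat.card_congr (MonoidHom.ofInjective hψ0).toEquiv.symm, Nat.card_units, hKc, hn, ← pow_mul]
  obtain ⟨v, hv⟩ : hAu.unit ∈ ψ0.range := by
    rw [heq, Subgroup.mem_centralizer_singleton_iff]
    exact Units.ext hA
  have hAv : A = lm (v : K) := (congrArg Units.val hv).symm
  have hD : D = ad σ (lm ((v⁻¹ : Kˣ) : K)) := by
    have h1 : ad σ A * D = 1 := by
      have h := congrArg (ad σ) hDA
      rwa [ad_mul, ad_ad σ hσσ, ad_one] at h
    calc D = ad σ (lm ((v⁻¹ : Kˣ) : K)) * (ad σ A * D) := by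
          rw [hAv, ← mul_assoc, ← ad_mul, ← map_mul, Units.mul_inv, map_one, ad_one, one_mul]
      _ = _ := by rw [h1, mul_one]
  -- the exponent
  set d := n.gcd (q + 1)
  set T := (tau q n).natAbs with hT
  obtain ⟨e, R, -, -, hTQ, -, -, -⟩ := arith (q := q) hq hm
  rw [← hn, ← hT] at hTQ
  set N₀ := Algebra.norm F (v : K)
  have hN0 : N₀ ≠ 0 := fun h => v.ne_zero (Algebra.norm_eq_zero_iff.1 h)
  have hN : N₀ ^ q = N₀ := by
    rw [hAv, hD, det_ad, ← Algebra.norm_eq_matrix_det, ← Algebra.norm_eq_matrix_det, frob_apply] at hdetZ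
    rw [show Algebra.norm F ((v⁻¹ : Kˣ) : K) = N₀⁻¹ from
      eq_inv_of_mul_eq_one_left (by rw [← map_mul, Units.inv_mul, map_one]), inv_pow,
      mul_inv_eq_one₀ (pow_ne_zero _ hN0)] at hdetZ
    exact hdetZ.symm
  have hN1 : N₀ ^ (q - 1) = 1 := mul_right_cancel₀ hN0 (by
    rw [← pow_succ, Nat.sub_add_cancel (by omega), hN, one_mul])
  have hvT : v ^ T = 1 := by
    have h := congrArg (algebraMap F K) hN1
    rw [map_pow, FiniteField.algebraMap_norm_eq_pow, map_one, ← pow_mul, hKc, Nat.card_eq_fintype_card (α := F),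
      hF] at h
    refine Units.ext ?_
    rw [Units.val_pow_eq_pow_val, Units.val_one, ← h]
    congr 1
    have h2 : q ^ 2 - 1 ∣ q ^ n - 1 := by
      rw [hn, pow_mul]
      exact Nat.sub_one_dvd_pow_sub_one _ _
    obtain ⟨k, hk⟩ := h2
    have h3 : 0 < q ^ 2 - 1 := Nat.sub_pos_of_lt (Nat.one_lt_pow (by norm_num) (by omega))
    rw [hk, Nat.mul_div_cancel_left _ h3]
    refine Nat.eq_of_mul_eq_mul_right (show 0 < q + 1 by omega) ?_
    rw [hTQ, hk, show q ^ 2 - 1 = (q + 1) * (q - 1) by rw [← one_pow (M := ℕ) 2, Nat.sq_sub_sq, one_pow]]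
    ring
  set w := v ^ (T / d) with hw
  have hwq : w ^ (q + 1) = 1 := by
    obtain ⟨k, hk⟩ : d ∣ q + 1 := Nat.gcd_dvd_right _ _
    rw [hw, ← pow_mul, hk, ← mul_assoc, Nat.div_mul_cancel (gcd_dvd_tau n q), pow_mul, hvT, one_pow]
  obtain ⟨c, hc⟩ : ∃ c : Fˣ, Units.map (algebraMap F K).toMonoidHom c = w := by
    have hι : Function.Injective (Units.map (algebraMap F K).toMonoidHom) :=
      Units.map_injective (algebraMap F K).injective
    have hk : 0 < q ^ 2 - 1 := Nat.sub_pos_of_lt (Nat.one_lt_pow (by norm_num) (by omega))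
    have hsub : (Finset.univ.image (Units.map (algebraMap F K).toMonoidHom)) =
        Finset.univ.filter fun x : Kˣ => x ^ (q ^ 2 - 1) = 1 := by
      refine Finset.eq_of_subset_of_card_le (fun x hx => ?_) ?_
      · obtain ⟨c, -, rfl⟩ := Finset.mem_image.1 hx
        refine Finset.mem_filter.2 ⟨Finset.mem_univ _, ?_⟩
        rw [← map_pow, ← hF, ← Fintype.card_units, pow_card_eq_one, map_one]
      · rw [Finset.card_image_of_injective _ hι, Finset.card_univ, Fintype.card_units, hF]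
        exact IsCyclic.card_pow_eq_one_le hk
    obtain ⟨c, -, hc⟩ := Finset.mem_image.1 (hsub.ge (Finset.mem_filter.2 ⟨Finset.mem_univ w, by
      rw [show q ^ 2 - 1 = (q + 1) * (q - 1) by rw [← one_pow (M := ℕ) 2, Nat.sq_sub_sq, one_pow], pow_mul, hwq,
        one_pow]⟩))
    exact ⟨c, hc⟩
  have hcq : (c : F) ^ (q + 1) = 1 := (algebraMap F K).injective (by
    rw [map_pow, map_one, ← Units.val_one (α := K), ← hwq, Units.val_pow_eq_pow_val, ← hc]; rfl)
  have hblkw : blk w = Matrix.scalar (Fin m ⊕ Fin m) (c : F) := by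
    have e1 : lm (w : K) = Matrix.scalar (Fin m) (c : F) := by
      rw [← hc]; exact AlgHom.commutes lm (c : F)
    have e2 : lm ((w⁻¹ : Kˣ) : K) = Matrix.scalar (Fin m) ((c⁻¹ : Fˣ) : F) := by
      rw [← hc, ← map_inv]; exact AlgHom.commutes lm _
    have e3 : σ ((c⁻¹ : Fˣ) : F) = (c : F) := by
      rw [frob_apply, Units.val_inv_eq_inv_val, inv_pow]
      exact inv_eq_of_mul_eq_one_right (by rw [← pow_succ, hcq])
    have e4 : ad σ (Matrix.scalar (Fin m) ((c⁻¹ : Fˣ) : F)) = Matrix.scalar (Fin m) (c : F) := by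
      rw [ad, Matrix.scalar_apply, Matrix.diagonal_map (map_zero σ), Matrix.diagonal_transpose]
      rw [Matrix.scalar_apply]
      exact congrArg Matrix.diagonal (funext fun _ => e3)
    rw [show blk w = fromBlocks (lm (w : K)) 0 0 (ad σ (lm ((w⁻¹ : Kˣ) : K))) from rfl, e1, e2, e4]
    simp only [Matrix.scalar_apply, Matrix.fromBlocks_diagonal]
    congr 1
    funext i
    cases i <;> rfl
  have hZv : fromBlocks A 0 0 D = blk v := by simp only [blk]; rw [← hAv, ← hD]
  have hfin : Φ (v ^ (T / d)) = P * toU (X ^ (T / d)) * P⁻¹ := by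
    have h1 : Φ v = P * toU X * P⁻¹ := Subtype.ext (Units.ext (by rw [hΦval, ← hZv, hZ]))
    rw [map_pow, map_pow, h1, conj_pow]
  have h5 : (((P * toU (X ^ (T / d)) * P⁻¹ : ↥(Cfsg.GU n F q)) : GL (Fin n) F) : Matrix (Fin n) (Fin n) F) =
      Matrix.scalar (Fin n) (c : F) := by
    rw [← hfin, hΦval, ← hw, hblkw]
    exact AlgHom.commutes ψ (c : F)
  refine ⟨(c : F), ?_⟩
  set Pm := ((P : GL (Fin n) F) : Matrix (Fin n) (Fin n) F)
  set Pi := (((P⁻¹ : ↥(Cfsg.GU n F q)) : GL (Fin n) F) : Matrix (Fin n) (Fin n) F)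
  have e6 : Pi * Pm = 1 := by
    show ((((P⁻¹ * P : ↥(Cfsg.GU n F q))) : GL (Fin n) F) : Matrix (Fin n) (Fin n) F) = 1
    rw [inv_mul_cancel]; rfl
  have e7 : mat X ^ (T / d) = mat (X ^ (T / d)) := by simp [mat]
  have h8 : Pm * mat (X ^ (T / d)) * Pi = Matrix.scalar (Fin n) (c : F) := h5
  rw [e7]
  calc mat (X ^ (T / d)) = Pi * (Pm * mat (X ^ (T / d)) * Pi) * Pm := by
        rw [← mul_assoc, ← mul_assoc, e6, one_mul, mul_assoc, e6, mul_one]
    _ = Matrix.scalar (Fin n) (c : F) := by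
        rw [h8, ← (Matrix.scalar_commute (c : F) (Commute.all _) Pi).eq, mul_assoc, e6, mul_one]


/-- Let q be an odd prime power, n ≥ 4 even, and U = PSU(n,q) (realised over the field with q² elements). Then U has an element of order q^(n/2) + (−1)^(n/2) — that is, q^(n/2) + 1 when n/2 is even and q^(n/2) − 1 when n/2 is odd — if and only if the 2-part of n exceeds the 2-part of q + 1. -/
theorem result {F : Type*} [Field F] [Fintype F] {q : ℕ} (hF : Fintype.card F = q ^ 2) (hodd : Odd q)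
    {n : ℕ} (hn : 4 ≤ n) (heven : Even n) :
    (∃ g : Cfsg.PSU n F q, orderOf g = if Even (n / 2) then q ^ (n / 2) + 1 else q ^ (n / 2) - 1) ↔
      padicValNat 2 (q + 1) < padicValNat 2 n := by
  classical
  obtain ⟨p, hcp⟩ := CharP.exists F
  haveI : Fact p.Prime := ⟨CharP.char_is_prime F p⟩
  have hq3 : 3 ≤ q := by
    have h1 := Fintype.one_lt_card (α := F)
    rw [hF] at h1
    obtain ⟨j, hj⟩ := hodd
    rcases Nat.eq_zero_or_pos j with rfl | h
    · simp [hj] at h1
    · omega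
  have hpq : p ∣ q := by
    obtain ⟨k, hp, hk⟩ := FiniteField.card F p
    refine hp.dvd_of_dvd_pow (n := 2) ?_
    rw [← hF, hk]
    exact dvd_pow_self _ k.ne_zero
  rw [← gcd_dvd_half (by omega) heven (D := q + 1) (by omega)]
  set m := n / 2 with hm
  have hn2 : n = 2 * m := by obtain ⟨c, hc⟩ := heven; omega
  obtain ⟨-, R, -, hNR, hTQ, -, -, hdR⟩ := arith (q := q) hq3 (show 2 ≤ m by omega)
  rw [← hn2] at hNR hTQ
  set N := if Even m then q ^ m + 1 else q ^ m - 1 with hN
  set T := (tau q n).natAbs with hT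
  set d := n.gcd (q + 1) with hd
  have hdT : d ∣ T := gcd_dvd_tau n q
  have hd0 : 0 < d := Nat.gcd_pos_of_pos_right _ (by omega)
  have hN0 : 0 < N := by
    rw [hN]
    split
    · omega
    · exact Nat.sub_pos_of_lt (Nat.one_lt_pow (by omega) (by omega))
  rw [← hdR d (Nat.gcd_dvd_right _ _)]
  show (∃ g : Cfsg.PSU n F q, orderOf g = N) ↔ d ∣ R
  constructor
  · rintro ⟨g, hg⟩
    suffices h : g ^ (T / d) = 1 by
      obtain ⟨c, hc⟩ := hg ▸ orderOf_dvd_of_pow_eq_one h
      refine ⟨c, Nat.eq_of_mul_eq_mul_left hN0 ?_⟩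
      rw [hNR, ← Nat.mul_div_cancel' hdT, hc]
      ring
    obtain ⟨X, rfl⟩ := QuotientGroup.mk_surjective g
    -- the primitive prime
    obtain ⟨r, hr, hrN, hord, hodd', hrq⟩ : ∃ r : ℕ, r.Prime ∧ r ∣ N ∧ orderOf ((q ^ 2 : ℕ) : ZMod r) = m ∧
        (Odd m → (q : ZMod r) ^ m = 1) ∧ r ∣ q ^ n - 1 := by
      have hz : ∀ (r : ℕ) k, (q : ZMod r) ^ k = 1 ↔ r ∣ q ^ k - 1 := fun r k => by
        rw [← ZMod.natCast_eq_zero_iff, Nat.cast_sub (Nat.one_le_pow _ _ (by omega)), Nat.cast_pow, Nat.cast_one,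
          sub_eq_zero]
      have hsq : q ^ n - 1 = (q ^ m + 1) * (q ^ m - 1) := by
        rw [hn2, pow_mul', ← one_pow (M := ℕ) 2, Nat.sq_sub_sq, one_pow]
      by_cases he : Even m
      · obtain ⟨r, hr, hrd, hrmin⟩ := Cfsg.Agent.S2904.result q n (by omega) (by omega) (by omega) (by omega)
        haveI : Fact r.Prime := ⟨hr⟩
        refine ⟨r, hr, ?_, ?_, fun h => absurd he (Nat.not_even_iff_odd.2 h), hrd⟩
        · rw [hN, if_pos he]
          rw [hsq] at hrd
          exact (hr.dvd_mul.1 hrd).resolve_right (hrmin m (by omega) (by omega))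
        · refine (orderOf_eq_iff (by omega)).2 ⟨?_, fun k hk hk0 h => hrmin (2 * k) (by omega) (by omega) ?_⟩
          · rw [Nat.cast_pow, ← pow_mul, ← hn2]; exact (hz r n).2 hrd
          · rw [Nat.cast_pow, ← pow_mul] at h; exact (hz r _).1 h
      · obtain ⟨r, hr, hrd, hrmin⟩ := Cfsg.Agent.S2904.result q m (by omega) (by omega) (by omega) (by
          rintro ⟨h, -⟩; exact he ⟨1, h⟩)
        haveI : Fact r.Prime := ⟨hr⟩
        have h1 : orderOf (q : ZMod r) = m :=
          (orderOf_eq_iff (by omega)).2 ⟨(hz r m).2 hrd, fun k hk hk0 h => hrmin k hk0 hk ((hz r k).1 h)⟩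
        refine ⟨r, hr, by rw [hN, if_neg he]; exact hrd, ?_, fun _ => (hz r m).2 hrd,
          by rw [hsq]; exact dvd_mul_of_dvd_right hrd _⟩
        rw [Nat.cast_pow, orderOf_pow' _ two_ne_zero, h1,
          Nat.Coprime.gcd_eq_one ((Nat.coprime_two_right).2 (Nat.not_even_iff_odd.1 he)), Nat.div_one]
    haveI : Fact r.Prime := ⟨hr⟩
    have hrp : r ≠ p := by
      rintro rfl
      have h2 := Nat.dvd_sub (hpq.trans (dvd_pow_self q (show n ≠ 0 by omega))) hrq
      rw [Nat.sub_sub_self (Nat.one_le_pow _ _ (by omega))] at h2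
      exact hr.ne_one (Nat.dvd_one.1 h2)
    have hr2 : r ≠ 2 := by
      rintro rfl
      have h1 : ((q ^ 2 : ℕ) : ZMod 2) = 1 := (ZMod.natCast_eq_one_iff_odd).2 hodd.pow
      rw [h1, orderOf_one] at hord
      omega
    have hrD : ¬ r ∣ q + 1 := fun h => by
      have h1 : ((q ^ 2 : ℕ) : ZMod r) = 1 := by
        have h0 : (q : ZMod r) + 1 = 0 := by exact_mod_cast (ZMod.natCast_eq_zero_iff (q + 1) r).2 h
        rw [Nat.cast_pow]; linear_combination ((q : ZMod r) - 1) * h0
      rw [h1, orderOf_one] at hord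
      omega
    have hcop : ∀ i, i < n - 1 → ¬ r ∣ (if Even i then q ^ (i + 1) + 1 else q ^ (i + 1) - 1) := by
      intro i hi
      split
      · next he =>
        intro h
        have h0 : (q : ZMod r) ^ (i + 1) + 1 = 0 := by exact_mod_cast (ZMod.natCast_eq_zero_iff _ r).2 h
        have h1 : m ∣ i + 1 := by
          rw [← hord]
          refine orderOf_dvd_of_pow_eq_one ?_
          rw [Nat.cast_pow, ← pow_mul, mul_comm 2, pow_mul]
          linear_combination ((q : ZMod r) ^ (i + 1) - 1) * h0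
        have hmo : Odd m := he.add_one.of_dvd_nat h1
        obtain ⟨c, hc⟩ := h1
        rw [hc, pow_mul, hodd' hmo, one_pow] at h0
        exact hr2 ((Nat.prime_dvd_prime_iff_eq hr Nat.prime_two).1 ((ZMod.natCast_eq_zero_iff 2 r).1
          (by push_cast; linear_combination h0)))
      · next he =>
        intro h
        obtain ⟨c, hc⟩ := Nat.not_even_iff_odd.1 he
        have h1 : m ∣ c + 1 := by
          rw [← hord]
          refine orderOf_dvd_of_pow_eq_one ?_
          have h2 : r ∣ (q ^ 2) ^ (c + 1) - 1 := by rw [← pow_mul]; convert h using 3; omega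
          have h3 := (ZMod.natCast_eq_natCast_iff _ 1 r).2
            ((Nat.modEq_iff_dvd' (Nat.one_le_pow _ _ (Nat.pow_pos (by omega)))).2 h2).symm
          exact_mod_cast h3
        have := Nat.le_of_dvd (by omega) h1
        omega
    -- an element of order `r` commuting with `X`
    let Y : Cfsg.SU n F q := X ^ (N / r * (q + 1))
    have hY1 : Y ≠ 1 := fun h => by
      have h' : (QuotientGroup.mk X : Cfsg.PSU n F q) ^ (N / r * (q + 1)) = 1 := by
        rw [← QuotientGroup.mk_pow]; exact (congrArg QuotientGroup.mk h).trans (QuotientGroup.mk_one _)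
      have h2 := orderOf_dvd_of_pow_eq_one h'
      rw [hg] at h2
      have h3 : N / r * r ∣ N / r * (q + 1) := by rwa [Nat.div_mul_cancel hrN]
      exact hrD (Nat.dvd_of_mul_dvd_mul_left (Nat.div_pos (Nat.le_of_dvd hN0 hrN) hr.pos) h3)
    have hYr : Y ^ r = 1 := by
      have h1 : cls X ^ N = 1 := by rw [← hg]; exact pow_orderOf_eq_one _
      obtain ⟨c, hc⟩ := (cls_pow_eq_one_iff hF (by omega) X N).1 h1
      have h2 : c ^ (q + 1) = 1 := by
        have e : mat (X ^ N) = mat X ^ N := by simp [mat]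
        have h3 := ad_mul_self hF (X ^ N)
        rw [e, hc] at h3
        have h4 := congrFun (congrFun h3 ⟨0, by omega⟩) ⟨0, by omega⟩
        simp only [Matrix.scalar_apply, ad, Matrix.diagonal_map (map_zero (frob hF)), Matrix.diagonal_transpose,
          Matrix.diagonal_mul_diagonal, Matrix.diagonal_apply_eq, Matrix.one_apply_eq] at h4
        rwa [frob_apply, ← pow_succ] at h4
      show (X ^ (N / r * (q + 1))) ^ r = 1
      rw [← pow_mul, show N / r * (q + 1) * r = N / r * r * (q + 1) by ring, Nat.div_mul_cancel hrN]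
      refine Subtype.ext (Subtype.ext ?_)
      show mat (X ^ (N * (q + 1))) = 1
      rw [show mat (X ^ (N * (q + 1))) = mat X ^ (N * (q + 1)) by simp [mat], pow_mul, hc, ← map_pow, h2, map_one]
    obtain ⟨c, hc⟩ := pow_eq_scalar (p := p) hF hn2 (show 2 ≤ m by omega) hq3 hr hr2 hrp hord hodd' hcop hrq X Y
      (orderOf_eq_prime hYr hY1) ((Commute.refl X).pow_right _)
    exact (cls_pow_eq_one_iff hF (by omega) X _).2 ⟨c, hc⟩
  · intro hdvd
    obtain ⟨g, hg⟩ := exists_torus (p := p) hF (show 2 ≤ n by omega)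
    have hNT : N ∣ orderOf (cls g) := by
      refine (dvd_trans ?_ hg)
      show N ∣ T / d
      rw [← hNR, Nat.mul_div_assoc _ hdvd]
      exact dvd_mul_right _ _
    exact ⟨cls g ^ (orderOf (cls g) / N), orderOf_pow_orderOf_div (orderOf_pos _).ne' hNT⟩

end Cfsg.Agent.S2496
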