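import Cfsg.Statements.S0130
import Cfsg.Agent.Lib.Fusion.Alperin
import Cfsg.Agent.Lib.PGroup.Basic

set_option autoImplicit false
open Cfsg

namespace Cfsg.Agent.S0130

open Subgroup
open scoped commutatorElement

theorem pow_mul_swap {G : Type*} [Group G] {a b c : G} (hba : b * a = c * a * b)
    (hca : Commute c a) (hcb : Commute c b) (n : ℕ) : b ^ n * a = c ^ n * a * b ^ n := by
  induction n with
  | zero => simp
  | succ n ih =>
    calc b ^ (n + 1) * a = b ^ n * (b * a) := by rw [pow_succ, mul_assoc]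
      _ = b ^ n * c * a * b := by rw [hba]; group
      _ = c * (b ^ n * a) * b := by rw [((hcb.pow_right n).eq).symm]; group
      _ = c * (c ^ n * a * b ^ n) * b := by rw [ih]
      _ = _ := by rw [pow_succ' c, pow_succ b]; group

theorem mul_pow_swap {G : Type*} [Group G] {a b c : G} (hba : b * a = c * a * b)
    (hca : Commute c a) (hcb : Commute c b) (n : ℕ) : (a * b) ^ n = a ^ n * b ^ n * c ^ n.choose 2 := by
  induction n with
  | zero => simp
  | succ n ih =>
    have hca' : ∀ m : ℕ, Commute (c ^ m) (a * b) := fun m => (hca.mul_right hcb).pow_left m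
    calc (a * b) ^ (n + 1) = a ^ n * b ^ n * (c ^ n.choose 2 * (a * b)) := by rw [pow_succ, ih, mul_assoc]
      _ = a ^ n * (b ^ n * a) * b * c ^ n.choose 2 := by rw [(hca' _).eq]; group
      _ = a ^ n * (c ^ n * a) * b ^ n * b * c ^ n.choose 2 := by rw [pow_mul_swap hba hca hcb]; group
      _ = a ^ (n + 1) * (c ^ n * (b ^ n * b)) * c ^ n.choose 2 := by rw [(hca.pow_left n).eq, pow_succ]; group
      _ = a ^ (n + 1) * b ^ (n + 1) * (c ^ n * c ^ n.choose 2) := by
        rw [← pow_succ, ((hcb.pow_right (n + 1)).pow_left n).eq]; group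
      _ = _ := by rw [← pow_add, Nat.choose_succ_succ', Nat.choose_one_right]

/-- The product computation: two elements of the slice whose commutator is in `A`. -/
theorem slice_mul {G : Type*} [Group G] {p N : ℕ} (hpN : p ∣ N.choose 2)
    (A : Subgroup G) {u w : G} (hu : u ∈ centralizer (A : Set G)) (hw : w ∈ centralizer (A : Set G))
    (huN : u ^ N = 1) (hwN : w ^ N = 1) (hup : u ^ p ∈ A) (hwp : w ^ p ∈ A)
    (hc : w * u⁻¹ * w⁻¹ * u ∈ A) :
    (w * u⁻¹) ^ N = 1 ∧ (w * u⁻¹) ^ p ∈ A := by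
  set c := u⁻¹ * w * u * w⁻¹ with hcdef
  have hcA : c ∈ A := by
    have h := inv_mem hc
    have e : (w * u⁻¹ * w⁻¹ * u)⁻¹ = u⁻¹ * w * u * w⁻¹ := by group
    rwa [e] at h
  have hcom : ∀ {x : G}, x ∈ centralizer (A : Set G) → Commute c x := fun hx =>
    mem_centralizer_iff.1 hx c hcA
  have hba : u⁻¹ * w = c * w * u⁻¹ := by rw [hcdef]; group
  have h := mul_pow_swap hba (hcom hw) (hcom (inv_mem hu))
  have hcp : c ^ p = 1 := by
    have h1 := pow_mul_swap hba (hcom hw) (hcom (inv_mem hu)) p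
    have h2 : (u⁻¹) ^ p * w = w * (u⁻¹) ^ p := by
      rw [inv_pow]
      exact (mem_centralizer_iff.1 hw _ (inv_mem hup))
    rw [h2, mul_assoc] at h1
    exact mul_eq_right.1 h1.symm
  constructor
  · rw [h, hwN, inv_pow, huN, inv_one, one_mul, one_mul]
    obtain ⟨k, hk⟩ := hpN
    rw [hk, pow_mul, hcp, one_pow]
  · rw [h]
    refine mul_mem (mul_mem hwp ?_) (pow_mem hcA _)
    rw [inv_pow]; exact inv_mem hup

/-- An inner induction: commutators inside the slice of a minimal normal subgroup lie in `A`. -/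
theorem slice_commutator {G : Type*} [Group G] [Finite G] {p N : ℕ} [Fact p.Prime] (hG : IsPGroup p G)
    (hpN : p ∣ N.choose 2) (A : Subgroup G) [A.Normal]
    (B W : Subgroup G) [B.Normal] (hWB : ⁅B, (⊤ : Subgroup G)⁆ ≤ W) (hBC : B ≤ centralizer (A : Set G))
    (hW : ∀ z ∈ W, z ^ N = 1 → z ^ p ∈ A → z ∈ A) :
    ∀ m : ℕ, ∀ u v : G, Nat.card (closure ({u, v} : Set G)) ≤ m → u ∈ B → v ∈ B → u ^ N = 1 → u ^ p ∈ A →
      v * u * v⁻¹ * u⁻¹ ∈ A := by
  intro m
  induction m with
  | zero => intro u v h; exact absurd h (not_le.2 Nat.card_pos)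
  | succ m ih =>
    intro u v hm hu hv huN hup
    set w := v * u * v⁻¹ with hw
    have hAn : A.Normal := inferInstance
    have hwB : w ∈ B := mul_mem (mul_mem hv hu) (inv_mem hv)
    have hwN : w ^ N = 1 := by
      rw [hw, ← MulAut.conj_apply, ← map_pow, huN, map_one]
    have hwp : w ^ p ∈ A := by
      rw [hw, ← MulAut.conj_apply, ← map_pow, MulAut.conj_apply]
      exact hAn.conj_mem _ hup v
    set T := closure ({u, v} : Set G) with hT
    set T₁ := closure ({u⁻¹, w} : Set G) with hT₁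
    have huT : u ∈ T := subset_closure (by simp)
    have hvT : v ∈ T := subset_closure (by simp)
    have hle : T₁ ≤ T := (closure_le _).2 (by
      rintro z (rfl | rfl)
      · exact inv_mem huT
      · exact mul_mem (mul_mem hvT huT) (inv_mem hvT))
    rcases lt_or_eq_of_le hle with hlt | heq
    · have hcard : Nat.card T₁ ≤ m := by
        have h := Cfsg.Lib.Fusion.card_lt_card_of_lt hlt
        omega
      have hc := ih u⁻¹ w hcard (inv_mem hu) hwB (by rw [inv_pow, huN, inv_one])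
        (by rw [inv_pow]; exact inv_mem hup)
      rw [inv_inv] at hc
      obtain ⟨h1, h2⟩ := slice_mul hpN A (hBC hu) (hBC hwB) huN hwN hup hwp hc
      refine hW _ (hWB ?_) h1 h2
      have e : w * u⁻¹ = ⁅u, v⁆⁻¹ := by rw [hw, commutatorElement_def]; group
      rw [e]
      exact inv_mem (commutator_mem_commutator hu (mem_top v))
    · -- the pair generates a cyclic group
      haveI := (hG.to_subgroup T).isNilpotent
      have hfr := Cfsg.Lib.PGroup.commutator_le_frattini (hG.to_subgroup T)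
      have htop : zpowers (⟨u, huT⟩ : T) ⊔ frattini T = ⊤ := by
        set L := zpowers (⟨u, huT⟩ : T) ⊔ frattini T with hL
        have huL : (⟨u, huT⟩ : T) ∈ L := mem_sup_left (mem_zpowers _)
        have hwL : (⟨w, hle (subset_closure (by simp))⟩ : T) ∈ L := by
          have e : (⟨w, hle (subset_closure (by simp))⟩ : T) = ⁅(⟨v, hvT⟩ : T), ⟨u, huT⟩⁆ * ⟨u, huT⟩ :=
            Subtype.ext (by simp [hw, commutatorElement_def])
          rw [e]
          exact mul_mem (mem_sup_right (hfr (commutator_mem_commutator (mem_top _) (mem_top _)))) huL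
        have hall : T ≤ L.map T.subtype := by
          conv_lhs => rw [← heq]
          refine (closure_le _).2 ?_
          rintro z (rfl | rfl)
          · exact ⟨_, inv_mem huL, rfl⟩
          · exact ⟨_, hwL, rfl⟩
        rw [eq_top_iff]
        rintro t -
        obtain ⟨l, hl, hlt⟩ := hall t.2
        exact (Subtype.ext hlt : l = t) ▸ hl
      have h := frattini_nongenerating htop
      have hmem : (⟨v, hvT⟩ : T) ∈ zpowers (⟨u, huT⟩ : T) := h ▸ mem_top _
      obtain ⟨i, hi⟩ := mem_zpowers_iff.1 hmem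
      have hiv : u ^ i = v := congrArg Subtype.val hi
      rw [show v * u * v⁻¹ * u⁻¹ = 1 by rw [← hiv]; group]
      exact one_mem _


/-- If A is maximal among the normal abelian subgroups of exponent dividing p^n of a p-group (p^n ≠ 2), then A contains every element of order dividing p^n in its centralizer. -/
theorem result {G : Type*} [Group G] [Finite G] {p : ℕ} [Fact p.Prime] (hG : IsPGroup p G) (n : ℕ) (hn : p ^ n ≠ 2) (A : Subgroup G) [A.Normal] (hA : IsMulCommutative A) (hAe : ∀ a ∈ A, a ^ p ^ n = 1) (hmax : ∀ B : Subgroup G, B.Normal → IsMulCommutative B → (∀ b ∈ B, b ^ p ^ n = 1) → A ≤ B → B = A) (x : G) (hx : x ∈ Subgroup.centralizer (A : Set G)) (hxn : x ^ p ^ n = 1) : x ∈ A := by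
  classical
  by_contra hxA
  rcases Nat.eq_zero_or_pos n with rfl | hn0
  · rw [pow_zero, pow_one] at hxn
    exact hxA (hxn ▸ one_mem A)
  have hp := (Fact.out : p.Prime)
  set N := p ^ n with hN
  have hpN : p ∣ N.choose 2 := by
    rcases hp.eq_two_or_odd' with h2 | hodd
    · subst h2
      rw [hN, Nat.choose_two_right]
      obtain ⟨k, rfl⟩ : ∃ k, n = k + 2 := by
        rcases Nat.lt_or_ge n 2 with h | h
        · exact absurd (show (2 : ℕ) ^ n = 2 by rw [show n = 1 by omega, pow_one]) hn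
        · exact ⟨n - 2, by omega⟩
      have e : 2 ^ (k + 2) * (2 ^ (k + 2) - 1) / 2 = 2 * (2 ^ k * (2 ^ (k + 2) - 1)) := by
        rw [show 2 ^ (k + 2) * (2 ^ (k + 2) - 1) = 2 * (2 * (2 ^ k * (2 ^ (k + 2) - 1))) by rw [pow_add]; ring,
          Nat.mul_div_cancel_left _ two_pos]
      rw [e]; exact dvd_mul_right _ _
    · have h2 : Nat.Coprime p 2 := Nat.coprime_two_right.2 hodd
      refine h2.dvd_of_dvd_mul_left ?_
      have e : 2 * N.choose 2 = N * (N - 1) := by
        rw [Nat.choose_two_right, Nat.mul_div_cancel' (Nat.even_mul_pred_self N).two_dvd]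
      rw [e, hN]
      exact (dvd_pow_self p hn0.ne').mul_right _
  set C := centralizer (A : Set G) with hC
  -- a power of x one step outside A
  obtain ⟨y, hyC, hyN, hyp, hyA⟩ : ∃ y ∈ C, y ^ N = 1 ∧ y ^ p ∈ A ∧ y ∉ A := by
    have hex : ∃ j, x ^ p ^ j ∈ A := ⟨n, by rw [← hN, hxn]; exact one_mem A⟩
    obtain ⟨j, hj⟩ : ∃ j, Nat.find hex = j + 1 := by
      refine Nat.exists_eq_add_one_of_ne_zero fun h => hxA ?_
      have := Nat.find_spec hex
      rwa [h, pow_zero, pow_one] at this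
    refine ⟨x ^ p ^ j, pow_mem hx _, ?_, ?_, Nat.find_min hex (by omega)⟩
    · rw [← pow_mul, mul_comm, pow_mul, hxn, one_pow]
    · rw [← pow_mul, ← pow_succ, ← hj]
      exact Nat.find_spec hex
  have hCn : C.Normal := inferInstance
  obtain ⟨B, ⟨hBn, hBC, y, hy, hyN, hyp, hyA⟩, hBmin⟩ :=
    (Set.toFinite {B : Subgroup G | B.Normal ∧ B ≤ C ∧ ∃ y ∈ B, y ^ N = 1 ∧ y ^ p ∈ A ∧ y ∉ A}).exists_minimal
      ⟨C, hCn, le_rfl, y, hyC, hyN, hyp, hyA⟩
  haveI := hBn
  set W := ⁅B, (⊤ : Subgroup G)⁆ with hW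
  have hWlt : W < B := Cfsg.Lib.PGroup.commutator_lt_of_isPGroup (hG.to_subgroup B) (hG.to_subgroup ⊤)
    (by rw [normalizer_eq_top_iff.2 hBn]) (fun h => by
      rw [h, mem_bot] at hy
      exact hyA (hy ▸ one_mem A))
  have hWA : ∀ z ∈ W, z ^ N = 1 → z ^ p ∈ A → z ∈ A := by
    intro z hz h1 h2
    by_contra h3
    exact hWlt.not_ge (hBmin ⟨inferInstance, hWlt.le.trans hBC, z, hz, h1, h2, h3⟩ hWlt.le)
  -- y is central modulo A
  have hcen : ∀ g : G, g * y * g⁻¹ * y⁻¹ ∈ A := by
    intro g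
    set w := g * y * g⁻¹ with hw
    have hwB : w ∈ B := hBn.conj_mem y hy g
    have hwN : w ^ N = 1 := by rw [hw, ← MulAut.conj_apply, ← map_pow, hyN, map_one]
    have hwp : w ^ p ∈ A := by
      rw [hw, ← MulAut.conj_apply, ← map_pow, MulAut.conj_apply]
      exact Subgroup.Normal.conj_mem inferInstance _ hyp g
    have hc := slice_commutator hG hpN A B W le_rfl hBC hWA _ y⁻¹ w le_rfl (inv_mem hy) hwB
      (by rw [inv_pow, hyN, inv_one]) (by rw [inv_pow]; exact inv_mem hyp)
    rw [inv_inv] at hc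
    obtain ⟨h1, h2⟩ := slice_mul hpN A (hBC hy) (hBC hwB) hyN hwN hyp hwp hc
    refine hWA _ ?_ h1 h2
    have e : w * y⁻¹ = ⁅y, g⁆⁻¹ := by rw [hw, commutatorElement_def]; group
    rw [e]
    exact inv_mem (commutator_mem_commutator hy (mem_top g))
  -- enlarge A
  set A' := A ⊔ zpowers y with hA'
  have hdec : ∀ z ∈ A', ∃ a ∈ A, ∃ i : ℤ, z = a * y ^ i := by
    intro z hz
    obtain ⟨a, ha, b, hb, rfl⟩ := (Subgroup.mem_sup_of_normal_left).1 hz
    obtain ⟨i, rfl⟩ := mem_zpowers_iff.1 hb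
    exact ⟨a, ha, i, rfl⟩
  have hA'n : A'.Normal := ⟨fun z hz g => by
    obtain ⟨a, ha, i, rfl⟩ := hdec z hz
    have h1 : g * y * g⁻¹ ∈ A' := by
      have := mul_mem (mem_sup_left (hcen g) : _ ∈ A') (mem_sup_right (mem_zpowers y))
      rwa [inv_mul_cancel_right] at this
    have h2 := mul_mem (mem_sup_left (Subgroup.Normal.conj_mem inferInstance a ha g) : _ ∈ A') (zpow_mem h1 i)
    rw [conj_zpow] at h2
    convert h2 using 1
    group⟩
  have hay : ∀ a ∈ A, Commute a y := fun a ha => mem_centralizer_iff.1 (hBC hy) a ha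
  haveI := hA
  have hcomm : ∀ a ∈ A, ∀ b ∈ A, Commute a b := fun a ha b hb =>
    congrArg Subtype.val (IsMulCommutative.is_comm.comm (⟨a, ha⟩ : A) ⟨b, hb⟩)
  have hA'c : IsMulCommutative A' := ⟨⟨fun z w => by
    obtain ⟨a, ha, i, hi⟩ := hdec z z.2
    obtain ⟨b, hb, j, hj⟩ := hdec w w.2
    refine Subtype.ext ?_
    show (z : G) * w = w * z
    rw [hi, hj]
    exact (((hcomm a ha b hb).mul_right ((hay a ha).zpow_right j)).mul_left
      (((hay b hb).zpow_right i).symm.mul_right (Commute.zpow_zpow (Commute.refl y) i j))).eq⟩⟩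
  have hA'e : ∀ z ∈ A', z ^ N = 1 := by
    intro z hz
    obtain ⟨a, ha, i, rfl⟩ := hdec z hz
    rw [((hay a ha).zpow_right i).mul_pow, hAe a ha, one_mul, ← zpow_natCast, zpow_comm, zpow_natCast, hyN, one_zpow]
  exact hyA ((hmax A' hA'n hA'c hA'e le_sup_left) ▸ mem_sup_right (mem_zpowers y))

end Cfsg.Agent.S0130
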