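import Cfsg.Statements.S4010
import Mathlib
import Cfsg.Agent.Lib.PGroup.Basic
-- import your own Cfsg.Agent.* helpers here

set_option autoImplicit false
open Cfsg

namespace Cfsg.Agent.S4010

open Module

universe u v

section
variable {K : Type u} [Field K] {V : Type v} [AddCommGroup V] [Module K V] [FiniteDimensional K V]
variable {P : Type*} [Group P]

/-- Restriction of a representation to an invariant subspace. -/
noncomputable def res (ρ : P →* (Module.End K V)ˣ) (W : Submodule K V)
    (h : ∀ g : P, ∀ w ∈ W, (ρ g : Module.End K V) w ∈ W) : P →* (Module.End K W)ˣ :=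
  MonoidHom.toHomUnits
    { toFun := fun g => (ρ g : Module.End K V).restrict (h g)
      map_one' := by ext w; simp
      map_mul' := fun a b => by ext w; simp }

theorem res_apply (ρ : P →* (Module.End K V)ˣ) (W : Submodule K V)
    (h : ∀ g : P, ∀ w ∈ W, (ρ g : Module.End K V) w ∈ W) (g : P) (w : W) :
    (((res ρ W h g : (Module.End K W)ˣ) : Module.End K W) w : V) = (ρ g : Module.End K V) w := rfl

/-- The representation on a quotient by an invariant subspace. -/
noncomputable def quo (ρ : P →* (Module.End K V)ˣ) (W : Submodule K V)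
    (h : ∀ g : P, ∀ w ∈ W, (ρ g : Module.End K V) w ∈ W) : P →* (Module.End K (V ⧸ W))ˣ :=
  MonoidHom.toHomUnits
    { toFun := fun g => W.mapQ W (ρ g : Module.End K V) (h g)
      map_one' := by ext v; simp
      map_mul' := fun a b => by ext v; simp }

theorem quo_apply (ρ : P →* (Module.End K V)ˣ) (W : Submodule K V)
    (h : ∀ g : P, ∀ w ∈ W, (ρ g : Module.End K V) w ∈ W) (g : P) (v : V) :
    ((quo ρ W h g : (Module.End K (V ⧸ W))ˣ) : Module.End K (V ⧸ W)) (Submodule.Quotient.mk v) =
      Submodule.Quotient.mk ((ρ g : Module.End K V) v) := rfl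

theorem fixed_inv (ρ : P →* (Module.End K V)ˣ) (g : P) (v : V) (h : (ρ g : Module.End K V) v = v) :
    (ρ g⁻¹ : Module.End K V) v = v := by
  conv_lhs => rw [← h]
  rw [← Module.End.mul_apply, ← Units.val_mul, ← map_mul, inv_mul_cancel, map_one]
  rfl

/-- The common fixed space of a subgroup. -/
def fixSpace (ρ : P →* (Module.End K V)ˣ) (N : Subgroup P) : Submodule K V where
  carrier := {v | ∀ g ∈ N, (ρ g : Module.End K V) v = v}
  add_mem' := fun ha hb g hg => by rw [map_add, ha g hg, hb g hg]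
  zero_mem' := fun g _ => map_zero _
  smul_mem' := fun c v hv g hg => by rw [map_smul, hv g hg]

theorem exists_fixed [Finite P] {p : ℕ} [Fact p.Prime] [CharP K p] (hP : IsPGroup p P)
    (ρ : P →* (Module.End K V)ˣ) [Nontrivial V] :
    ∃ v : V, v ≠ 0 ∧ ∀ g : P, (ρ g : Module.End K V) v = v := by
  classical
  obtain ⟨N, -, ⟨hN, hne⟩, hmax⟩ := (Set.toFinite {N : Subgroup P | N.Normal ∧ fixSpace ρ N ≠ ⊥}).exists_le_maximal
    (a := ⊥) ⟨inferInstance, fun h => by
      obtain ⟨v, hv⟩ := exists_ne (0 : V)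
      exact hv ((Submodule.mem_bot K).1 (h.le fun g hg => by rw [Subgroup.mem_bot.1 hg, map_one]; rfl))⟩
  obtain ⟨v, hv, hv0⟩ := (Submodule.ne_bot_iff _).1 hne
  by_cases htop : N = ⊤
  · exact ⟨v, hv0, fun g => hv g (htop ▸ Subgroup.mem_top g)⟩
  exfalso
  haveI := hN
  haveI : Nontrivial (P ⧸ N) := QuotientGroup.nontrivial_iff.2 htop
  obtain ⟨zb, -, hzc, hzo⟩ := Cfsg.Lib.PGroup.exists_mem_center_orderOf_eq (p := p) (hP.to_quotient N)
    (N := (⊤ : Subgroup (P ⧸ N))) top_ne_bot
  obtain ⟨z, rfl⟩ := QuotientGroup.mk_surjective zb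
  set F := fixSpace ρ N
  have hinvF : ∀ g : P, ∀ w ∈ F, (ρ g : Module.End K V) w ∈ F := by
    intro g w hw n hn
    have h1 := hw (g⁻¹ * n * g) (by simpa using hN.conj_mem n hn g⁻¹)
    calc (ρ n : Module.End K V) ((ρ g : Module.End K V) w)
        = (ρ g : Module.End K V) ((ρ (g⁻¹ * n * g) : Module.End K V) w) := by
          rw [← Module.End.mul_apply, ← Module.End.mul_apply, ← Units.val_mul, ← Units.val_mul, ← map_mul, ← map_mul]
          congr 2; group
      _ = _ := by rw [h1]
  set T : Module.End K F := ((res ρ F hinvF z : (Module.End K F)ˣ) : Module.End K F)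
  have hzp : z ^ p ∈ N := by
    rw [← QuotientGroup.eq_one_iff, QuotientGroup.mk_pow, ← hzo]
    exact pow_orderOf_eq_one _
  have hTp : (T - 1) ^ p = 0 := by
    by_cases hsub : Subsingleton (Module.End K F)
    · exact Subsingleton.elim _ _
    haveI : Nontrivial (Module.End K F) := not_subsingleton_iff_nontrivial.1 hsub
    haveI : CharP (Module.End K F) p := charP_of_injective_algebraMap
      (FaithfulSMul.algebraMap_injective K (Module.End K F)) p
    rw [sub_pow_char_of_commute p (Commute.one_right T), one_pow, sub_eq_zero]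
    apply LinearMap.ext
    intro w
    apply Subtype.ext
    rw [← Units.val_pow_eq_pow_val, ← map_pow, res_apply]
    exact w.2 _ hzp
  have hker : LinearMap.ker (T - 1) ≠ ⊥ := by
    intro h
    have hinj : Function.Injective ⇑(T - 1) := LinearMap.ker_eq_bot.1 h
    have h2 : Function.Injective ⇑((T - 1) ^ p : Module.End K F) := by
      rw [Module.End.coe_pow]; exact hinj.iterate p
    rw [hTp] at h2
    have : (⟨v, hv⟩ : F) = 0 := h2 (by simp)
    exact hv0 (congrArg Subtype.val this)
  obtain ⟨w, hw, hw0⟩ := (Submodule.ne_bot_iff _).1 hker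
  rw [LinearMap.mem_ker, LinearMap.sub_apply, sub_eq_zero, Module.End.one_apply] at hw
  set Z : Subgroup (P ⧸ N) := Subgroup.zpowers (z : P ⧸ N)
  haveI : Z.Normal := ⟨fun a ha g => by
    rw [Subgroup.mem_center_iff.1 (Subgroup.zpowers_le.2 hzc ha) g, mul_inv_cancel_right]; exact ha⟩
  have hNZ : N ≤ Z.comap (QuotientGroup.mk' N) := fun x hx => by
    show (x : P ⧸ N) ∈ Z
    rw [(QuotientGroup.eq_one_iff x).2 hx]; exact one_mem _
  have hzN : z ∉ N := fun h => by
    rw [(QuotientGroup.eq_one_iff z).2 h, orderOf_one] at hzo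
    exact (Fact.out : p.Prime).one_lt.ne hzo
  refine hzN (hmax ⟨inferInstance, ?_⟩ hNZ (Subgroup.mem_zpowers (z : P ⧸ N)))
  rw [Submodule.ne_bot_iff]
  refine ⟨w, fun g hg => ?_, fun h => hw0 (Subtype.ext h)⟩
  obtain ⟨i, hi⟩ := mem_powers_iff_mem_zpowers.2 (show (g : P ⧸ N) ∈ Subgroup.zpowers (z : P ⧸ N) from hg)
  simp only at hi
  rw [← QuotientGroup.mk_pow, QuotientGroup.eq] at hi
  have hzw : ∀ i : ℕ, (ρ (z ^ i) : Module.End K V) (w : V) = w := by
    intro i
    induction i with
    | zero => rw [pow_zero, map_one]; rfl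
    | succ i ih =>
      rw [pow_succ, map_mul, Units.val_mul, Module.End.mul_apply]
      have := congrArg Subtype.val hw
      rw [res_apply] at this
      rw [this, ih]
  have h1 := w.2 _ hi
  rw [show g = z ^ i * ((z ^ i)⁻¹ * g) by group, map_mul, Units.val_mul, Module.End.mul_apply, h1, hzw]

/-- Invariant subspaces of every dimension in characteristic `p`. -/
theorem exists_invariant_finrank {p : ℕ} [Fact p.Prime] [CharP K p] [Finite P] (hP : IsPGroup p P)
    (ρ : P →* (Module.End K V)ˣ) : ∀ d ≤ finrank K V,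
    ∃ W : Submodule K V, (∀ g : P, ∀ w ∈ W, (ρ g : Module.End K V) w ∈ W) ∧ finrank K W = d := by
  intro d
  induction d with
  | zero => exact fun _ => ⟨⊥, fun g w hw => by rw [Submodule.mem_bot] at hw ⊢; rw [hw, map_zero], by simp⟩
  | succ d ih =>
    intro hd
    obtain ⟨W, hW, hWd⟩ := ih (by omega)
    haveI : Nontrivial (V ⧸ W) := Submodule.Quotient.nontrivial_iff.2 fun h => by
      rw [h, finrank_top] at hWd; omega
    obtain ⟨q, hq0, hq⟩ := exists_fixed hP (quo ρ W hW)
    obtain ⟨v, rfl⟩ := Submodule.Quotient.mk_surjective W q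
    have hvW : v ∉ W := fun h => hq0 ((Submodule.Quotient.mk_eq_zero W).2 h)
    refine ⟨W ⊔ K ∙ v, fun g w hw => ?_, ?_⟩
    · obtain ⟨a, ha, _, hb, rfl⟩ := Submodule.mem_sup.1 hw
      obtain ⟨c, rfl⟩ := Submodule.mem_span_singleton.1 hb
      rw [map_add, map_smul]
      refine add_mem (Submodule.mem_sup_left (hW g a ha)) (Submodule.smul_mem _ _ ?_)
      have := hq g
      rw [quo_apply, Submodule.Quotient.eq] at this
      have h2 := add_mem (Submodule.mem_sup_left this) (Submodule.mem_sup_right (Submodule.mem_span_singleton_self v) : v ∈ W ⊔ K ∙ v)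
      rwa [sub_add_cancel] at h2
    · have hv0 : v ≠ 0 := fun h => hvW (h ▸ W.zero_mem)
      have hdis : W ⊓ K ∙ v = ⊥ := by
        rw [Submodule.eq_bot_iff]
        rintro x ⟨hx, hxv⟩
        obtain ⟨c, rfl⟩ := Submodule.mem_span_singleton.1 hxv
        by_contra hne
        have hc : c ≠ 0 := fun h => hne (by rw [h, zero_smul])
        exact hvW (by simpa [hc] using W.smul_mem c⁻¹ hx)
      have := Submodule.finrank_sup_add_finrank_inf_eq W (K ∙ v)
      rw [hdis, finrank_bot, finrank_span_singleton hv0, hWd] at this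
      omega

end

/-- The uniform bound, over an algebraically closed field. -/
theorem main {K : Type u} [Field K] [IsAlgClosed K] {p : ℕ} [Fact p.Prime] :
    ∀ (n : ℕ) {V : Type v} [AddCommGroup V] [Module K V] [FiniteDimensional K V],
    finrank K V = n → ∀ {P : Type v} [Group P] [Finite P], IsPGroup p P → ∀ ρ : P →* (Module.End K V)ˣ,
      derivedSeries P (Nat.log 2 n + 1) ≤ ρ.ker ∧ (CharP K p → 1 ≤ n → derivedSeries P (Nat.clog 2 n) ≤ ρ.ker) := by
  classical
  intro n
  induction n using Nat.strong_induction_on with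
  | _ n ih =>
  intro V _ _ _ hn P _ _ hP ρ
  have hclog : Nat.clog 2 n ≤ Nat.log 2 n + 1 := Nat.clog_le_of_le_pow (Nat.lt_pow_succ_log_self one_lt_two n).le
  by_cases hn2 : n < 2
  · -- in dimension at most one everything commutes
    have hcomm : ∀ a b : P, ρ (a * b) = ρ (b * a) := by
      intro a b
      obtain ⟨c, hc⟩ : ∃ c : K, (ρ a : Module.End K V) = c • 1 := by
        rcases Nat.eq_zero_or_pos n with rfl | h1
        · haveI : Subsingleton V := finrank_zero_iff.1 hn
          exact ⟨0, LinearMap.ext fun x => Subsingleton.elim _ _⟩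
        · obtain ⟨v, hv0, hv⟩ := finrank_eq_one_iff'.1 (show finrank K V = 1 by omega)
          obtain ⟨c, hc⟩ := hv ((ρ a : Module.End K V) v)
          refine ⟨c, LinearMap.ext fun x => ?_⟩
          obtain ⟨d, rfl⟩ := hv x
          simp [map_smul, ← hc, smul_comm d c v]
      apply Units.ext
      rw [map_mul, map_mul, Units.val_mul, Units.val_mul, hc]
      simp
    have hker : commutator P ≤ ρ.ker := by
      rw [_root_.commutator_def, Subgroup.commutator_le]
      intro a _ b _
      rw [MonoidHom.mem_ker, commutatorElement_def, map_mul, map_mul, map_mul, ← map_mul ρ a b, hcomm a b,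
        ← map_mul, ← map_mul]
      simp [mul_assoc]
    refine ⟨(derivedSeries_antitone _ (Nat.le_add_left 1 _)).trans ((derivedSeries_one P).le.trans hker),
      fun hch h1 => ?_⟩
    haveI := hch
    intro g _
    haveI : Nontrivial V := nontrivial_of_finrank_pos (R := K) (by omega)
    obtain ⟨v, hv0, hv⟩ := exists_fixed hP ρ
    apply Units.ext
    refine LinearMap.ext fun x => ?_
    obtain ⟨c, rfl⟩ := exists_smul_eq_of_finrank_eq_one (show finrank K V = 1 by omega) hv0 x
    rw [map_smul, hv g]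
    rfl
  push Not at hn2
  by_cases hchar : CharP K p
  · haveI := hchar
    suffices h : derivedSeries P (Nat.clog 2 n) ≤ ρ.ker from
      ⟨(derivedSeries_antitone _ hclog).trans h, fun _ _ => h⟩
    obtain ⟨W, hW, hWd⟩ := exists_invariant_finrank hP ρ (n / 2) (by omega)
    have hWq : finrank K (V ⧸ W) = n - n / 2 := by
      have := W.finrank_quotient_add_finrank
      omega
    have h1 := (ih (n / 2) (by omega) hWd hP (res ρ W hW)).2 hchar (by omega)
    have h2 := (ih (n - n / 2) (by omega) hWq hP (quo ρ W hW)).2 hchar (by omega)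
    have hd : Nat.clog 2 n = Nat.clog 2 (n - n / 2) + 1 := by
      rw [Nat.clog_of_two_le one_lt_two hn2]
      congr 2
      omega
    rw [hd, derivedSeries_succ, Subgroup.commutator_le]
    intro a ha b hb
    have hmono : Nat.clog 2 (n / 2) ≤ Nat.clog 2 (n - n / 2) := Nat.clog_mono_right 2 (by omega)
    have hN : ∀ g ∈ derivedSeries P (Nat.clog 2 (n - n / 2)),
        (∀ x : V, (ρ g : Module.End K V) x - x ∈ W) ∧ ∀ w ∈ W, (ρ g : Module.End K V) w = w := by
      intro g hg
      constructor
      · intro x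
        have := LinearMap.congr_fun (congrArg Units.val (MonoidHom.mem_ker.1 (h2 hg))) (Submodule.Quotient.mk x)
        rw [quo_apply] at this
        exact (Submodule.Quotient.eq W).1 this
      · intro w hw
        have := congrArg Subtype.val
          (LinearMap.congr_fun (congrArg Units.val (MonoidHom.mem_ker.1 (h1 (derivedSeries_antitone _ hmono hg)))) ⟨w, hw⟩)
        rw [res_apply] at this
        exact this
    obtain ⟨ha1, ha2⟩ := hN a ha
    obtain ⟨hb1, hb2⟩ := hN b hb
    have hcomm : ρ a * ρ b = ρ b * ρ a := by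
      apply Units.ext
      refine LinearMap.ext fun x => ?_
      rw [Units.val_mul, Units.val_mul, Module.End.mul_apply, Module.End.mul_apply]
      have e1 := ha2 _ (hb1 x)
      have e2 := hb2 _ (ha1 x)
      rw [map_sub] at e1 e2
      have e1' := sub_eq_iff_eq_add.1 e1
      have e2' := sub_eq_iff_eq_add.1 e2
      rw [e1', e2']
      abel
    rw [MonoidHom.mem_ker, map_commutatorElement]
    exact commutatorElement_eq_one_iff_mul_comm.2 hcomm
  refine ⟨?_, fun h => absurd h hchar⟩
  -- decompositions into invariant subspaces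
  have hsplit : ∀ (Q : Subgroup P) (m : ℕ) (ι : Type u) (U : ι → Submodule K V),
      (⨆ i, U i) = ⊤ → (∀ i, ∀ g ∈ Q, ∀ w ∈ U i, (ρ g : Module.End K V) w ∈ U i) →
      (∀ i, finrank K (U i) < n ∧ Nat.log 2 (finrank K (U i)) + 1 ≤ m) →
      derivedSeries Q m ≤ (ρ.comp Q.subtype).ker := by
    intro Q m ι U hU hinv hd g hg
    apply Units.ext
    refine LinearMap.ext fun x => ?_
    have hx : x ∈ ⨆ i, U i := hU ▸ Submodule.mem_top
    refine Submodule.iSup_induction U (motive := fun x => ((ρ.comp Q.subtype) g : Module.End K V) x = (1 : Module.End K V) x)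
      hx (fun i w hw => ?_) (by simp) (fun a b ha hb => by rw [map_add, ha, hb, map_add])
    have := (ih _ (hd i).1 rfl (hP.to_subgroup Q) (res (ρ.comp Q.subtype) (U i) (fun g => hinv i g g.2))).1
      (derivedSeries_antitone _ (hd i).2 hg)
    exact congrArg Subtype.val (LinearMap.congr_fun (congrArg Units.val (MonoidHom.mem_ker.1 this)) ⟨w, hw⟩)
  by_cases hab : ∀ a b : P, ρ (a * b) = ρ (b * a)
  · refine (derivedSeries_antitone _ (Nat.le_add_left 1 _)).trans ((derivedSeries_one P).le.trans ?_)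
    rw [_root_.commutator_def, Subgroup.commutator_le]
    intro a _ b _
    rw [MonoidHom.mem_ker, map_commutatorElement, commutatorElement_eq_one_iff_mul_comm, ← map_mul, ← map_mul, hab]
  -- semisimplicity of the elements
  have hdiag : ∀ g : P, (⨆ μ : K, Module.End.eigenspace (ρ g : Module.End K V) μ) = ⊤ := by
    intro g
    obtain ⟨k, hk⟩ := hP g
    have hp0 : (p : K) ≠ 0 := fun h => hchar ((CharP.charP_iff_prime_eq_zero Fact.out).2 h)
    have hsq : Squarefree ((Polynomial.X : Polynomial K) ^ p ^ k - Polynomial.C 1) :=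
      (Polynomial.separable_X_pow_sub_C 1 (by push_cast; exact pow_ne_zero _ hp0) one_ne_zero).squarefree
    have hss : Module.End.IsSemisimple (ρ g : Module.End K V) :=
      Module.End.isSemisimple_of_squarefree_aeval_eq_zero hsq (by
        rw [map_sub, map_pow, Polynomial.aeval_X, Polynomial.aeval_C, map_one, ← Units.val_pow_eq_pow_val,
          ← map_pow, hk, map_one, Units.val_one, sub_self])
    rw [← (Module.End.IsSemisimple.isFinitelySemisimple hss).iSup_maxGenEigenspace_eq_top_iff]
    exact Module.End.iSup_maxGenEigenspace_eq_top _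
  have hlt : ∀ (f : Module.End K V), (∀ c : K, f ≠ c • 1) → ∀ μ, finrank K (f.eigenspace μ) < n := by
    intro f hf μ
    rw [← hn]
    refine Submodule.finrank_lt fun h => hf μ (LinearMap.ext fun x => ?_)
    simpa using Module.End.mem_eigenspace_iff.1 (h ▸ Submodule.mem_top : x ∈ f.eigenspace μ)
  -- central elements
  by_cases hcent : ∃ z : P, (∀ g, ρ (g * z) = ρ (z * g)) ∧ ∀ c : K, (ρ z : Module.End K V) ≠ c • 1
  · obtain ⟨z, hz, hzne⟩ := hcent
    have h := hsplit ⊤ (Nat.log 2 n + 1) K (fun μ => Module.End.eigenspace (ρ z : Module.End K V) μ) (hdiag z)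
      (fun μ g _ w hw => by
        rw [Module.End.mem_eigenspace_iff] at hw ⊢
        have e := congrArg Units.val (hz g)
        rw [map_mul, map_mul, Units.val_mul, Units.val_mul] at e
        rw [← Module.End.mul_apply, ← e, Module.End.mul_apply, hw, map_smul])
      (fun μ => ⟨hlt _ hzne μ, Nat.add_le_add_right (Nat.log_mono_right (hlt _ hzne μ).le) 1⟩)
    intro g hg
    obtain ⟨g', hg', rfl⟩ := derivedSeries_le_map_derivedSeries (f := (⊤ : Subgroup P).subtype)
      (fun x => ⟨⟨x, trivial⟩, rfl⟩) _ hg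
    exact h hg'
  push Not at hcent
  -- an element of the second centre
  set R := ρ.range
  have hR : IsPGroup p R := hP.of_surjective ρ.rangeRestrict ρ.rangeRestrict_surjective
  haveI : Finite R := Finite.of_surjective _ ρ.rangeRestrict_surjective
  haveI : Nontrivial (R ⧸ Subgroup.center R) := by
    refine QuotientGroup.nontrivial_iff.2 fun h => hab fun a b => ?_
    have := congrArg Subtype.val (Subgroup.mem_center_iff.1 (h ▸ Subgroup.mem_top (⟨ρ b, b, rfl⟩ : R)) ⟨ρ a, a, rfl⟩)
    rw [map_mul, map_mul]; exact this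
  obtain ⟨ab, -, habc, habo⟩ := Cfsg.Lib.PGroup.exists_mem_center_orderOf_eq (p := p) (hR.to_quotient (Subgroup.center R))
    (N := (⊤ : Subgroup (R ⧸ Subgroup.center R))) top_ne_bot
  obtain ⟨⟨_, a, rfl⟩, rfl⟩ := QuotientGroup.mk_surjective ab
  have haz : ¬ ∀ g, ρ (g * a) = ρ (a * g) := fun h => by
    have : (⟨ρ a, a, rfl⟩ : R) ∈ Subgroup.center R := Subgroup.mem_center_iff.2 (by
      rintro ⟨_, g, rfl⟩
      apply Subtype.ext
      show ρ g * ρ a = ρ a * ρ g
      rw [← map_mul, ← map_mul, h])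
    rw [(QuotientGroup.eq_one_iff _).2 this, orderOf_one] at habo
    exact (Fact.out : p.Prime).one_lt.ne habo
  have hsc : ∀ g, ∃ c : K, c ≠ 0 ∧ (ρ (g * a) : Module.End K V) = c • (ρ (a * g) : Module.End K V) := by
    intro g
    have h := Subgroup.mem_center_iff.1 habc (QuotientGroup.mk (⟨ρ g, g, rfl⟩ : R))
    rw [← QuotientGroup.mk_mul, ← QuotientGroup.mk_mul, QuotientGroup.eq, Subgroup.mem_center_iff] at h
    obtain ⟨c, hc⟩ := hcent ((g * a)⁻¹ * (a * g)) fun x => by
      have := congrArg Subtype.val (h ⟨ρ x, x, rfl⟩)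
      rw [map_mul, map_mul]
      simpa [map_mul, map_inv, mul_assoc] using this
    have e : (ρ (a * g) : Module.End K V) = c • (ρ (g * a) : Module.End K V) := by
      rw [show a * g = (g * a) * ((g * a)⁻¹ * (a * g)) by group, map_mul ρ (g * a), Units.val_mul, hc,
        mul_smul_comm, mul_one]
    have hc0 : c ≠ 0 := fun h0 => by
      haveI : Nontrivial V := nontrivial_of_finrank_pos (R := K) (by omega)
      rw [h0, zero_smul] at e
      exact (ρ (a * g)).ne_zero e
    exact ⟨c⁻¹, inv_ne_zero hc0, by rw [e, smul_smul, inv_mul_cancel₀ hc0, one_smul]⟩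
  set f : Module.End K V := (ρ a : Module.End K V)
  have hfne : ∀ c : K, f ≠ c • 1 := fun c hc => haz fun g => by
    apply Units.ext
    rw [map_mul, map_mul, Units.val_mul, Units.val_mul, show (ρ a : Module.End K V) = c • 1 from hc]
    simp
  -- `P` permutes the eigenspaces of `f`
  let Sv : Type u := {μ : K // f.eigenspace μ ≠ ⊥}
  have hmove : ∀ (g : P) (μ : K), ∃ c : K, c ≠ 0 ∧ ∀ w ∈ f.eigenspace μ, (ρ g : Module.End K V) w ∈ f.eigenspace (c * μ) := by
    intro g μ
    obtain ⟨c, hc0, hc⟩ := hsc g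
    refine ⟨c⁻¹, inv_ne_zero hc0, fun w hw => ?_⟩
    rw [Module.End.mem_eigenspace_iff] at hw ⊢
    have h1 := LinearMap.congr_fun hc w
    rw [map_mul, map_mul, Units.val_mul, Units.val_mul, LinearMap.smul_apply, Module.End.mul_apply,
      Module.End.mul_apply, hw, map_smul] at h1
    show (ρ a : Module.End K V) _ = _
    rw [mul_smul, h1, inv_smul_smul₀ hc0]
  have huniq : ∀ (v : V) (μ ν : K), v ≠ 0 → v ∈ f.eigenspace μ → v ∈ f.eigenspace ν → μ = ν := by
    intro v μ ν hv h1 h2
    rw [Module.End.mem_eigenspace_iff] at h1 h2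
    rw [h1] at h2
    exact smul_left_injective K hv h2
  have hne0 : ∀ (g : P) (v : V), v ≠ 0 → (ρ g : Module.End K V) v ≠ 0 := by
    intro g v hv h
    apply hv
    have := congrArg (((ρ g)⁻¹ : (Module.End K V)ˣ) : Module.End K V) h
    rwa [← Module.End.mul_apply, ← Units.val_mul, inv_mul_cancel, Units.val_one, map_zero] at this
  have hexv : ∀ μ : Sv, ∃ v ∈ f.eigenspace μ.1, v ≠ 0 := fun μ => (Submodule.ne_bot_iff _).1 μ.2
  choose bas hbas hbas0 using hexv
  let act : P → Sv → Sv := fun g μ => ⟨(hmove g μ.1).choose * μ.1, by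
    rw [Submodule.ne_bot_iff]
    exact ⟨_, (hmove g μ.1).choose_spec.2 _ (hbas μ), hne0 g _ (hbas0 μ)⟩⟩
  have hact : ∀ g (μ : Sv), ∀ w ∈ f.eigenspace μ.1, (ρ g : Module.End K V) w ∈ f.eigenspace (act g μ).1 :=
    fun g μ => (hmove g μ.1).choose_spec.2
  have hactu : ∀ g (μ : Sv) (ν : Sv), (ρ g : Module.End K V) (bas μ) ∈ f.eigenspace ν.1 → act g μ = ν := fun g μ ν h =>
    Subtype.ext (huniq _ _ _ (hne0 g _ (hbas0 μ)) (hact g μ _ (hbas μ)) h)
  letI : MulAction P Sv :=
    { smul := act
      one_smul := fun μ => hactu 1 μ μ (by rw [map_one]; exact hbas μ)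
      mul_smul := fun g h μ => hactu (g * h) μ _ (by
        rw [map_mul, Units.val_mul, Module.End.mul_apply]
        exact hact g _ _ (hact h μ _ (hbas μ))) }
  haveI : Finite Sv := by
    have h := ((Module.End.eigenspaces_iSupIndep f).comp (f := fun μ : Sv => μ.1) Subtype.val_injective)
    haveI : Fintype {μ : Sv // f.eigenspace μ.1 ≠ ⊥} := h.fintypeNeBotOfFiniteDimensional
    exact Finite.of_equiv {μ : Sv // f.eigenspace μ.1 ≠ ⊥} (Equiv.subtypeUnivEquiv fun μ : Sv => μ.2)
  have hdsum : ∀ (A B : Set Sv), Disjoint A B →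
      finrank K ↥(⨆ μ : A, f.eigenspace (μ.1 : Sv).1) + finrank K ↥(⨆ μ : B, f.eigenspace (μ.1 : Sv).1) ≤ n := by
    intro A B hAB
    have hd : Disjoint (⨆ μ : A, f.eigenspace (μ.1 : Sv).1) (⨆ μ : B, f.eigenspace (μ.1 : Sv).1) := by
      have h := ((Module.End.eigenspaces_iSupIndep f).comp (f := fun μ : Sv => μ.1) Subtype.val_injective)
      simpa [iSup_subtype] using h.disjoint_biSup_biSup' hAB (Set.toFinite _)
    rw [← hn, ← Submodule.finrank_sup_add_finrank_inf_eq, hd.eq_bot, finrank_bot, add_zero]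
    exact Submodule.finrank_le _
  have hsumtop : (⨆ μ : Sv, f.eigenspace μ.1) = ⊤ := by
    rw [← top_le_iff, ← hdiag a]
    refine iSup_le fun μ => ?_
    by_cases h : f.eigenspace μ = ⊥
    · exact h.le.trans bot_le
    · exact le_iSup (fun μ : Sv => f.eigenspace μ.1) ⟨μ, h⟩
  have hne1 : ∀ μ : Sv, 0 < finrank K (f.eigenspace μ.1) := fun μ =>
    Submodule.one_le_finrank_iff.2 μ.2
  by_cases htr : ∃ μ ν : Sv, ν ∉ MulAction.orbit P μ
  · obtain ⟨μ, ν, hν⟩ := htr
    let A : Set Sv := MulAction.orbit P μ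
    let U : ULift.{u} Bool → Submodule K V := fun b =>
      if b.down then ⨆ x : A, f.eigenspace (x.1 : Sv).1 else ⨆ x : ↥(Aᶜ), f.eigenspace (x.1 : Sv).1
    have hA : ∀ (C : Set Sv) (g : P), (∀ x ∈ C, g • x ∈ C) → ∀ w ∈ (⨆ x : C, f.eigenspace (x.1 : Sv).1),
        (ρ g : Module.End K V) w ∈ ⨆ x : C, f.eigenspace (x.1 : Sv).1 := by
      intro C g hC w hw
      refine Submodule.iSup_induction (fun x : C => f.eigenspace (x.1 : Sv).1)
        (motive := fun w => (ρ g : Module.End K V) w ∈ ⨆ x : C, f.eigenspace (x.1 : Sv).1) hw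
        (fun x y hy => Submodule.mem_iSup_of_mem (⟨g • x.1, hC _ x.2⟩ : C) (hact g _ _ hy)) (by simp)
        (fun a b ha hb => by rw [map_add]; exact add_mem ha hb)
    have hpos : ∀ (C : Set Sv) (x : Sv), x ∈ C → 0 < finrank K ↥(⨆ x : C, f.eigenspace (x.1 : Sv).1) := fun C x hx =>
      (hne1 x).trans_le (Submodule.finrank_mono (le_iSup (fun x : C => f.eigenspace (x.1 : Sv).1) ⟨x, hx⟩))
    have hsum := hdsum A Aᶜ disjoint_compl_right
    have h := hsplit ⊤ (Nat.log 2 n + 1) _ U ?_ ?_ ?_
    · intro g hg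
      obtain ⟨g', hg', rfl⟩ := derivedSeries_le_map_derivedSeries (f := (⊤ : Subgroup P).subtype)
        (fun x => ⟨⟨x, trivial⟩, rfl⟩) _ hg
      exact h hg'
    · rw [← top_le_iff, ← hsumtop]
      refine iSup_le fun x => ?_
      by_cases hx : x ∈ A
      · exact le_iSup_of_le ⟨true⟩ (le_iSup (fun x : A => f.eigenspace (x.1 : Sv).1) ⟨x, hx⟩)
      · exact le_iSup_of_le ⟨false⟩ (le_iSup (fun x : ↥(Aᶜ) => f.eigenspace (x.1 : Sv).1) ⟨x, hx⟩)
    · rintro ⟨_ | _⟩ g - w hw
      · exact hA Aᶜ g (fun x hx h => hx (by simpa using MulAction.mem_orbit_of_mem_orbit g⁻¹ h)) w hw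
      · exact hA A g (fun x hx => MulAction.mem_orbit_of_mem_orbit g hx) w hw
    · intro b
      have h1 := hpos A μ (MulAction.mem_orbit_self μ)
      have h2 := hpos Aᶜ ν hν
      have : finrank K (U b) < n := by
        rcases b with ⟨_ | _⟩
        · show finrank K ↥(⨆ x : ↥(Aᶜ), f.eigenspace (x.1 : Sv).1) < n
          omega
        · show finrank K ↥(⨆ x : A, f.eigenspace (x.1 : Sv).1) < n
          omega
      exact ⟨this, Nat.add_le_add_right (Nat.log_mono_right this.le) 1⟩
  push Not at htr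
  -- one orbit: a normal subgroup of index `p`
  obtain ⟨μ⟩ : Nonempty Sv := by
    haveI : Nontrivial V := nontrivial_of_finrank_pos (R := K) (M := V) (by omega)
    obtain ⟨μ, hμ⟩ := Module.End.exists_eigenvalue f
    exact ⟨⟨μ, hμ⟩⟩
  have hstab : MulAction.stabilizer P μ ≠ ⊤ := by
    intro h
    refine hfne μ.1 (LinearMap.ext fun x => ?_)
    have hall : (⨆ ν : Sv, f.eigenspace ν.1) ≤ f.eigenspace μ.1 := iSup_le fun ν => by
      obtain ⟨g, rfl⟩ := htr μ ν
      show f.eigenspace (g • μ).1 ≤ _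
      rw [show g • μ = μ from MulAction.mem_stabilizer_iff.1 (h.ge (Subgroup.mem_top g))]
    have := hall (hsumtop.ge (Submodule.mem_top : x ∈ ⊤))
    simpa using Module.End.mem_eigenspace_iff.1 this
  obtain ⟨M, hM, hle⟩ := (eq_top_or_exists_le_coatom (MulAction.stabilizer P μ)).resolve_left hstab
  haveI := Cfsg.Lib.PGroup.normal_of_isCoatom (p := p) hP hM
  let Ug : P → Submodule K V := fun g => ⨆ x : ↥(MulAction.orbit M (g • μ)), f.eigenspace (x.1 : Sv).1
  have hinv : ∀ g : P, ∀ m ∈ M, ∀ w ∈ Ug g, (ρ m : Module.End K V) w ∈ Ug g := by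
    intro g m hm w hw
    refine Submodule.iSup_induction (fun x : ↥(MulAction.orbit M (g • μ)) => f.eigenspace (x.1 : Sv).1)
      (motive := fun w => (ρ m : Module.End K V) w ∈ Ug g) hw
      (fun x y hy => Submodule.mem_iSup_of_mem (⟨m • x.1, ?_⟩ : ↥(MulAction.orbit M (g • μ))) (hact m _ _ hy))
      (by simp) (fun a b ha hb => by rw [map_add]; exact add_mem ha hb)
    exact MulAction.mem_orbit_of_mem_orbit (⟨m, hm⟩ : M) x.2
  have hdim : ∀ g g₁ : P, finrank K (Ug g) ≤ finrank K (Ug g₁) := by
    intro g g₁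
    set h := g₁ * g⁻¹
    have hmap : (Ug g).map (ρ h : Module.End K V) ≤ Ug g₁ := by
      rw [Submodule.map_iSup]
      refine iSup_le fun ⟨x, ⟨m, hm⟩⟩ => ?_
      rintro _ ⟨w, hw, rfl⟩
      refine Submodule.mem_iSup_of_mem (⟨h • x, ⟨⟨h * m * h⁻¹, ‹M.Normal›.conj_mem _ m.2 h⟩, ?_⟩⟩ :
        ↥(MulAction.orbit M (g₁ • μ))) (hact h _ _ hw)
      show (h * m * h⁻¹) • g₁ • μ = h • x
      rw [← hm]
      show _ = h • (m : P) • g • μ
      rw [smul_smul, smul_smul, smul_smul]
      congr 1; simp [h, mul_assoc]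
    refine le_trans (le_of_eq ?_) (Submodule.finrank_mono hmap)
    refine LinearEquiv.finrank_eq (Submodule.equivMapOfInjective _ (fun x y hxy => ?_) _)
    by_contra hne
    exact hne0 h (x - y) (sub_ne_zero.2 hne) (by rw [map_sub, hxy, sub_self])
  obtain ⟨t, ht⟩ : ∃ t : P, t ∉ M := by
    by_contra hall
    push Not at hall
    exact hM.1 (eq_top_iff.2 fun g _ => hall g)
  have hhalf : ∀ g : P, 2 * finrank K (Ug g) ≤ n := by
    intro g
    have hd : Disjoint (MulAction.orbit M ((1 : P) • μ)) (MulAction.orbit M (t • μ)) := by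
      rw [Set.disjoint_left]
      rintro x ⟨m₁, h1⟩ ⟨m₂, h2⟩
      have h1' : (m₁ : P) • (1 : P) • μ = x := h1
      have h2' : (m₂ : P) • t • μ = x := h2
      have h3 : ((m₁ : P)⁻¹ * (m₂ * t)) • μ = μ := by
        rw [mul_smul, mul_smul, h2', ← h1', inv_smul_smul, one_smul]
      exact ht (by simpa [mul_assoc] using mul_mem (inv_mem m₂.2) (mul_mem m₁.2 (hle (MulAction.mem_stabilizer_iff.2 h3))))
    have := hdsum _ _ hd
    have h1 := hdim g 1
    have h2 := hdim g t
    simp only [Ug] at h1 h2 ⊢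
    omega
  have hM' := hsplit M (Nat.log 2 n) (ULift.{u} {A : Set Sv // ∃ g, A = MulAction.orbit M (g • μ)})
    (fun A => Ug A.down.2.choose) ?_ (fun A => hinv _) ?_
  · have hd : derivedSeries P (Nat.log 2 n + 1) ≤ (derivedSeries M (Nat.log 2 n)).map M.subtype := by
      have key : ∀ i, derivedSeries P (i + 1) ≤ (derivedSeries M i).map M.subtype := by
        intro i
        induction i with
        | zero =>
          rw [derivedSeries_one, derivedSeries_zero, ← MonoidHom.range_eq_map, Subgroup.range_subtype]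
          exact Cfsg.Lib.PGroup.commutator_le_of_isCoatom hP hM
        | succ i ih2 =>
          rw [derivedSeries_succ, derivedSeries_succ M, Subgroup.map_commutator]
          exact Subgroup.commutator_mono ih2 ih2
      exact key _
    intro g hg
    obtain ⟨g', hg', rfl⟩ := hd hg
    exact hM' hg'
  · rw [← top_le_iff, ← hsumtop]
    refine iSup_le fun x => ?_
    obtain ⟨g, rfl⟩ := htr μ x
    let A : ULift.{u} {A : Set Sv // ∃ g, A = MulAction.orbit M (g • μ)} := ⟨⟨MulAction.orbit M (g • μ), g, rfl⟩⟩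
    refine le_iSup_of_le A ?_
    have he : MulAction.orbit M (g • μ) = MulAction.orbit M (A.down.2.choose • μ) := A.down.2.choose_spec
    exact le_iSup (fun x : ↥(MulAction.orbit M (A.down.2.choose • μ)) => f.eigenspace (x.1 : Sv).1)
      ⟨g • μ, he ▸ MulAction.mem_orbit_self _⟩
  · intro A
    have h := hhalf A.down.2.choose
    refine ⟨by omega, ?_⟩
    have h1 := Nat.log_mono_right (b := 2) (show finrank K (Ug A.down.2.choose) ≤ n / 2 by omega)
    rw [Nat.log_div_base] at h1
    have h2 : 1 ≤ Nat.log 2 n := Nat.log_pos one_lt_two hn2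
    omega

/-- Let F be a field, n ≥ 1, and P a finite p-group (p a prime) admitting an injective homomorphism into the general linear group of degree n over F. Then the derived length of P is at most ⌊log₂ n⌋ + 1: that term of the derived series of P is trivial. -/
theorem result {P : Type*} [Group P] [Finite P] (p : ℕ) [Fact p.Prime] (hP : IsPGroup p P) (F : Type*) [Field F] (n : ℕ) (hn : 1 ≤ n) (ρ : P →* Matrix.GeneralLinearGroup (Fin n) F) (hρ : Function.Injective ρ) : derivedSeries P (Nat.log 2 n + 1) = ⊥ := by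
  classical
  let K := AlgebraicClosure F
  let σ : P →* (Module.End K (Fin n → K))ˣ :=
    (Matrix.GeneralLinearGroup.toLin : Matrix.GeneralLinearGroup (Fin n) K ≃* _).toMonoidHom.comp
      ((Matrix.GeneralLinearGroup.map (algebraMap F K)).comp ρ)
  have hσ : Function.Injective σ := by
    intro a b h
    have h1 : Matrix.GeneralLinearGroup.map (algebraMap F K) (ρ a) = Matrix.GeneralLinearGroup.map (algebraMap F K) (ρ b) :=
      (Matrix.GeneralLinearGroup.toLin : Matrix.GeneralLinearGroup (Fin n) K ≃* _).injective h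
    apply hρ
    ext i j
    have := congrArg (fun M : Matrix.GeneralLinearGroup (Fin n) K => (M : Matrix (Fin n) (Fin n) K) i j) h1
    exact (algebraMap F K).injective this
  -- transfer to the universe of the module
  haveI : Finite σ.range := Finite.of_surjective _ σ.rangeRestrict_surjective
  have h := (main (p := p) n (K := K) (Module.finrank_fin_fun K) (P := σ.range)
    (hP.of_surjective σ.rangeRestrict σ.rangeRestrict_surjective) σ.range.subtype).1
  rw [Subgroup.ker_subtype, le_bot_iff] at h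
  refine eq_bot_iff.2 fun g hg => Subgroup.mem_bot.2 (hσ ?_)
  have := h.le (map_derivedSeries_le_derivedSeries σ.rangeRestrict _ ⟨g, hg, rfl⟩)
  rw [map_one]
  exact congrArg Subtype.val (Subgroup.mem_bot.1 this)

end Cfsg.Agent.S4010
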