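import Cfsg.Statements.S3370
import Cfsg.Agent.S0016
import Cfsg.Agent.S1217
import Mathlib.LinearAlgebra.Matrix.GeneralLinearGroup.Card
import Mathlib.GroupTheory.PGroup

set_option autoImplicit false
open Cfsg

namespace Cfsg.Agent.S3370

theorem sum_odd_parity {f : ℕ → ℤ} (hf : ∀ i, Odd (f i)) :
    ∀ k, (∑ i ∈ Finset.range k, f i) % 2 = (k : ℤ) % 2
  | 0 => by simp
  | k + 1 => by
    obtain ⟨c, hc⟩ := hf k
    have := sum_odd_parity hf k
    rw [Finset.sum_range_succ, hc]
    push_cast
    omega

theorem two_pow_sub_one {p k n : ℕ} (hp : p.Prime) (hk : 1 ≤ k) (hn : 2 ≤ n) (h : p ^ k + 1 = 2 ^ n) :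
    k = 1 := by
  have hp2 : p ≠ 2 := by
    rintro rfl
    have h1 : 2 ∣ 2 ^ k + 1 := by rw [h]; exact dvd_pow_self 2 (by omega)
    have h2 : 2 ∣ 2 ^ k := dvd_pow_self 2 (by omega)
    omega
  have hodd : Odd p := hp.odd_of_ne_two hp2
  rcases Nat.even_or_odd k with hev | hod
  · obtain ⟨j, rfl⟩ := hev
    exfalso
    obtain ⟨i, hi⟩ := hodd.pow (n := j)
    rw [pow_add, hi] at h
    have h4 : 4 ∣ 2 ^ n := by
      calc 4 = 2 ^ 2 := by norm_num
        _ ∣ 2 ^ n := pow_dvd_pow 2 hn
    rw [← h] at h4
    ring_nf at h4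
    omega
  · set S : ℤ := ∑ i ∈ Finset.range k, (-(p : ℤ)) ^ i with hS
    have hgeom : S * ((p : ℤ) + 1) = 2 ^ n := by
      have h' : ((p : ℤ)) ^ k + 1 = 2 ^ n := by exact_mod_cast h
      have h2 := geom_sum_mul (-(p : ℤ)) k
      rw [hod.neg_pow] at h2
      rw [← h', hS]
      linear_combination -h2
    have hSodd : Odd S := by
      rw [Int.odd_iff, hS, sum_odd_parity (fun i => (hodd.natCast (R := ℤ)).neg.pow)]
      obtain ⟨c, hc⟩ := hod
      omega
    have hSpos : 0 < S := by
      by_contra hcon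
      push Not at hcon
      have : S * ((p : ℤ) + 1) ≤ 0 := mul_nonpos_of_nonpos_of_nonneg hcon (by positivity)
      rw [hgeom] at this
      have : (0 : ℤ) < 2 ^ n := by positivity
      omega
    obtain ⟨s, hs⟩ : ∃ s : ℕ, S = s := ⟨S.toNat, (Int.toNat_of_nonneg hSpos.le).symm⟩
    rw [hs] at hgeom hSodd
    have hdvd : s ∣ 2 ^ n := ⟨p + 1, by exact_mod_cast hgeom.symm⟩
    obtain ⟨i, -, rfl⟩ := (Nat.dvd_prime_pow Nat.prime_two).1 hdvd
    have hi : i = 0 := by
      by_contra hi
      obtain ⟨c, hc⟩ := hSodd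
      have : (2 : ℤ) ∣ ((2 ^ i : ℕ) : ℤ) := by exact_mod_cast dvd_pow_self 2 hi
      omega
    subst hi
    have h1 : p + 1 = 2 ^ n := by
      have : (((p + 1 : ℕ)) : ℤ) = ((2 ^ n : ℕ) : ℤ) := by push_cast; push_cast at hgeom; linarith
      exact_mod_cast this
    exact Nat.pow_right_injective hp.two_le (show p ^ k = p ^ 1 by rw [pow_one]; omega)

theorem odd_base {q n k : ℕ} (hq : q.Prime) (hq2 : q ≠ 2) (hn : 1 ≤ n) (h : q ^ n = 2 ^ k + 1) :
    n = 1 ∨ (q = 3 ∧ n = 2) := by
  have hodd : Odd q := hq.odd_of_ne_two hq2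
  have hq3 : 3 ≤ q := by have := hq.two_le; omega
  rcases Nat.even_or_odd n with hev | hod
  · obtain ⟨m, rfl⟩ := hev
    right
    have hm : 1 ≤ m := by omega
    obtain ⟨a, ha⟩ : ∃ a, q ^ m = a + 1 := ⟨q ^ m - 1, by have := Nat.one_le_pow m q hq.pos; omega⟩
    have hprod : a * (a + 2) = 2 ^ k := by
      rw [pow_add, ha] at h
      ring_nf at h ⊢
      omega
    have h1 : a ∣ 2 ^ k := ⟨_, hprod.symm⟩
    have h2 : a + 2 ∣ 2 ^ k := Dvd.intro_left a hprod
    obtain ⟨i, -, hi⟩ := (Nat.dvd_prime_pow Nat.prime_two).1 h1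
    obtain ⟨j, -, hj⟩ := (Nat.dvd_prime_pow Nat.prime_two).1 h2
    have ha2 : a = 2 := by
      rcases Nat.lt_or_ge i 2 with h' | h'
      · interval_cases i
        · exfalso
          rw [pow_zero] at hi
          subst hi
          obtain ⟨c, hc⟩ := hodd.pow (n := m)
          omega
        · simpa using hi
      · exfalso
        have d1 : 4 ∣ a := hi ▸ (show 4 = 2 ^ 2 by norm_num) ▸ pow_dvd_pow 2 h'
        have d0 : 0 < a := hi ▸ Nat.two_pow_pos i
        have d2 : 4 ∣ a + 2 := by
          rcases Nat.lt_or_ge j 2 with hj' | hj'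
          · interval_cases j <;> simp at hj <;> omega
          · exact hj ▸ (show 4 = 2 ^ 2 by norm_num) ▸ pow_dvd_pow 2 hj'
        omega
    rw [ha2] at ha
    have hm1 : m = 1 := by
      by_contra hm'
      have : q ^ 2 ≤ q ^ m := Nat.pow_le_pow_right hq.pos (by omega)
      nlinarith
    subst hm1
    simp at ha
    exact ⟨ha, rfl⟩
  · left
    by_contra hn1
    set S : ℕ := ∑ i ∈ Finset.range n, q ^ i with hS
    have hgeom : S * (q - 1) = 2 ^ k := by
      have h2 : ((S * (q - 1) : ℕ) : ℤ) = ((2 ^ k : ℕ) : ℤ) := by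
        have h' : ((q : ℤ)) ^ n = 2 ^ k + 1 := by exact_mod_cast h
        rw [hS]
        push_cast [Nat.cast_sub hq.one_le]
        rw [geom_sum_mul, h']
        ring
      exact_mod_cast h2
    have hSodd : Odd S := by
      rw [hS, Finset.odd_sum_iff_odd_card_odd]
      rw [Finset.filter_true_of_mem (fun i _ => hodd.pow), Finset.card_range]
      exact hod
    obtain ⟨i, -, hi⟩ := (Nat.dvd_prime_pow Nat.prime_two).1 ⟨_, hgeom.symm⟩
    have h2n : 2 ≤ n := by omega
    have hS1 : 1 < S := by
      rw [hS]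
      calc 1 < n := h2n
        _ = ∑ i ∈ Finset.range n, 1 := by simp
        _ ≤ ∑ i ∈ Finset.range n, q ^ i := Finset.sum_le_sum fun i _ => Nat.one_le_pow i q hq.pos
    rcases Nat.eq_zero_or_pos i with rfl | hi'
    · simp at hi; omega
    · obtain ⟨c, hc⟩ := hSodd
      have : 2 ∣ 2 ^ i := dvd_pow_self 2 (by omega)
      omega

theorem isQD_of_equiv {S T : Type*} [Group S] [Group T] (e : S ≃* T) (h : Cfsg.IsQuasiDihedral S) :
    Cfsg.IsQuasiDihedral T := by
  obtain ⟨n, hn, hc, x, y, hx, hy, hxy⟩ := h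
  refine ⟨n, hn, by rw [← hc, Nat.card_congr e.toEquiv], e x, e y, ?_, ?_, ?_⟩
  · rw [MulEquiv.orderOf_eq, hx]
  · rw [MulEquiv.orderOf_eq, hy]
  · rw [← map_inv, ← map_mul, ← map_mul, hxy, map_pow]

theorem result (q : ℕ) [Fact q.Prime] {V : Type*} [AddCommGroup V] [Module (ZMod q) V] [Finite V] [Nontrivial V]
    {G : Type*} [Group G] [Finite G] [Nontrivial G] (p : ℕ) [Fact p.Prime] (hG : IsPGroup p G)
    (ρ : G →* (V ≃ₗ[ZMod q] V)) (hρ : Function.Injective ρ)
    (htrans : ∀ v w : V, v ≠ 0 → w ≠ 0 → ∃ g : G, ρ g v = w) :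
    (q = 2 ∧ p = Nat.card V - 1 ∧ Nat.card G = p) ∨
    (p = 2 ∧ Nat.card V = q ∧ (∃ m : ℕ, q = 2 ^ m + 1 ∧ Nat.card G = 2 ^ m) ∧ IsCyclic G) ∨
    (p = 2 ∧ q = 3 ∧ Nat.card V = 9 ∧
      ((IsCyclic G ∧ Nat.card G = 8) ∨ Nonempty (G ≃* QuaternionGroup 2) ∨ (Cfsg.IsQuasiDihedral G ∧ Nat.card G = 16))) := by
  classical
  have hp : p.Prime := Fact.out
  have hq : q.Prime := Fact.out
  haveI : Module.Finite (ZMod q) V := Module.Finite.of_finite
  set n := Module.finrank (ZMod q) V with hn
  have hcardV : Nat.card V = q ^ n := by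
    rw [Module.natCard_eq_pow_finrank (K := ZMod q), Nat.card_zmod]
  have hn1 : 1 ≤ n := Module.finrank_pos
  letI : MulAction G V :=
    { smul := fun g v => ρ g v
      one_smul := fun v => by show ρ 1 v = v; rw [map_one]; rfl
      mul_smul := fun g h v => by show ρ (g * h) v = ρ g (ρ h v); rw [map_mul]; rfl }
  have hone : ∀ g : G, (∀ v, ρ g v = v) → g = 1 := fun g hg =>
    hρ (by rw [map_one]; exact LinearEquiv.ext hg)
  obtain ⟨v₀, hv₀⟩ := exists_ne (0 : V)
  have horb : MulAction.orbit G v₀ = {v | v ≠ 0} := by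
    ext v
    constructor
    · rintro ⟨g, rfl⟩
      exact fun h => hv₀ ((ρ g).map_eq_zero_iff.1 h)
    · intro hv
      exact htrans v₀ v hv₀ hv
  set St := MulAction.stabilizer G v₀ with hSt
  have hidx : St.index = q ^ n - 1 := by
    rw [hSt, MulAction.index_stabilizer, horb, ← hcardV]
    rw [show {v : V | v ≠ 0} = ({0} : Set V)ᶜ from rfl, Set.ncard_compl, Set.ncard_singleton]
  obtain ⟨N, hN⟩ := IsPGroup.iff_card.1 hG
  obtain ⟨k, -, hk⟩ := (Nat.dvd_prime_pow hp).1 (hN ▸ Subgroup.index_dvd_card St)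
  rw [hidx] at hk
  have h1q : 1 ≤ q ^ n := Nat.one_le_pow n q hq.pos
  by_cases hq2 : q = 2
  · left
    have hn2 : 2 ≤ n := by
      by_contra h
      have h1 : n = 1 := by omega
      obtain ⟨g, hg⟩ := exists_ne (1 : G)
      refine hg (hone g fun v => ?_)
      by_cases hv : v = 0
      · rw [hv, map_zero]
      · by_contra hne
        have hne0 : ρ g v ≠ 0 := fun h' => hv ((ρ g).map_eq_zero_iff.1 h')
        have h3 : ({0, v, ρ g v} : Set V).ncard ≤ 2 := by
          refine le_trans (Set.ncard_le_ncard (Set.subset_univ _)) ?_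
          rw [Set.ncard_univ, hcardV, hq2, h1, pow_one]
        rw [Set.ncard_insert_of_notMem (by simp [Ne.symm hv, Ne.symm hne0]),
          Set.ncard_pair (Ne.symm hne)] at h3
        omega
    have hk1 : 1 ≤ k := by
      by_contra h
      have hk0 : k = 0 := by omega
      rw [hk0, pow_zero, hq2] at hk
      have : 2 ^ 2 ≤ 2 ^ n := Nat.pow_le_pow_right (by norm_num) hn2
      omega
    have hkk : k = 1 := two_pow_sub_one hp hk1 hn2 (by rw [← hk, hq2]; rw [hq2] at h1q; omega)
    subst hkk
    rw [pow_one] at hk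
    refine ⟨hq2, by rw [hcardV]; omega, ?_⟩
    have hmin : St.Normal := Subgroup.normal_of_index_eq_minFac_card (by
      rw [hidx, hk, hN]
      rcases Nat.eq_zero_or_pos N with rfl | hN0
      · exfalso
        rw [pow_zero] at hN
        exact absurd hN (Finite.one_lt_card (α := G)).ne'
      · rw [Nat.pow_minFac hN0.ne', hp.minFac_eq])
    have hbot : St = ⊥ := by
      rw [Subgroup.eq_bot_iff_forall]
      intro g hg
      refine hone g fun v => ?_
      by_cases hv : v = 0
      · rw [hv, map_zero]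
      · obtain ⟨x, rfl⟩ := htrans v₀ v hv₀ hv
        have h2 : x⁻¹ * g * x ∈ St := by simpa using hmin.conj_mem g hg x⁻¹
        rw [hSt, MulAction.mem_stabilizer_iff, mul_smul, mul_smul, inv_smul_eq_iff] at h2
        exact h2
    rw [hbot, Subgroup.index_bot] at hidx
    omega
  · right
    have hqodd : Odd q := hq.odd_of_ne_two hq2
    have hp2 : p = 2 := by
      obtain ⟨c, hc⟩ := hqodd.pow (n := n)
      have h2 : 2 ∣ p ^ k := ⟨c, by omega⟩
      exact ((Nat.prime_dvd_prime_iff_eq Nat.prime_two hp).1 (Nat.prime_two.dvd_of_dvd_pow h2)).symm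
    subst hp2
    rcases odd_base hq hq2 hn1 (show q ^ n = 2 ^ k + 1 by omega) with h1 | ⟨h3, h2⟩
    · left
      have hscal : ∀ g : G, ∃ c : ZMod q, ∀ v : V, ρ g v = c • v := by
        intro g
        obtain ⟨c, hc⟩ := (finrank_eq_one_iff_of_nonzero' v₀ hv₀).1 (hn ▸ h1) (ρ g v₀)
        refine ⟨c, fun v => ?_⟩
        obtain ⟨d, rfl⟩ := (finrank_eq_one_iff_of_nonzero' v₀ hv₀).1 (hn ▸ h1) v
        rw [map_smul, ← hc, smul_comm]
      choose c hc using hscal
      let f : G →* ZMod q :=
        { toFun := c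
          map_one' := smul_left_injective (ZMod q) hv₀ (by
            show c 1 • v₀ = (1 : ZMod q) • v₀
            rw [← hc, map_one, one_smul]; rfl)
          map_mul' := fun g h => smul_left_injective (ZMod q) hv₀ (by
            show c (g * h) • v₀ = (c g * c h) • v₀
            rw [← hc, map_mul, mul_smul, ← hc, ← hc]
            rfl) }
      have hf : Function.Injective f := fun g h e => hρ (LinearEquiv.ext fun v => by
        have e' : c g = c h := e
        rw [hc, hc, e'])
      haveI : IsCyclic G := isCyclic_of_subgroup_isDomain f hf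
      have hbot : St = ⊥ := by
        rw [Subgroup.eq_bot_iff_forall]
        intro g hg
        apply hf
        rw [map_one]
        show c g = 1
        apply smul_left_injective (ZMod q) hv₀
        show c g • v₀ = (1 : ZMod q) • v₀
        rw [← hc, one_smul]
        exact hg
      rw [hbot, Subgroup.index_bot, h1, pow_one] at hidx
      rw [h1, pow_one] at hk hcardV
      exact ⟨rfl, hcardV, ⟨k, by have := hq.two_le; omega, by have := hq.two_le; omega⟩, inferInstance⟩
    · right
      subst h3
      rw [h2] at hidx hcardV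
      norm_num at hidx hcardV
      refine ⟨rfl, rfl, hcardV, ?_⟩
      let e : V ≃ₗ[ZMod 3] (Fin 2 → ZMod 3) := (Module.finBasisOfFinrankEq (ZMod 3) V h2).equivFun
      let ψ : G →* GL (Fin 2) (ZMod 3) :=
        ((LinearMap.toMatrixAlgEquiv'.toAlgHom.toRingHom.toMonoidHom).comp
          { toFun := fun g => (e.toLinearMap ∘ₗ (ρ g).toLinearMap) ∘ₗ e.symm.toLinearMap
            map_one' := LinearMap.ext fun v => by
              show e (ρ 1 (e.symm v)) = v
              rw [map_one]; exact e.apply_symm_apply v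
            map_mul' := fun g h => LinearMap.ext fun v => by
              show e (ρ (g * h) (e.symm v)) = e (ρ g (e.symm (e (ρ h (e.symm v)))))
              rw [map_mul, e.symm_apply_apply]; rfl }).toHomUnits
      have hψ : Function.Injective ψ := fun g h e' => hρ (LinearEquiv.ext fun v => by
        have e2 := LinearMap.toMatrixAlgEquiv'.injective (congrArg Units.val e')
        have e3 : e (ρ g (e.symm (e v))) = e (ρ h (e.symm (e v))) := congrArg (fun T => T (e v)) e2
        rw [e.symm_apply_apply] at e3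
        exact e.injective e3)
      have hGL : Nat.card (GL (Fin 2) (ZMod 3)) = 48 := by
        rw [Matrix.card_GL_field, ZMod.card]
        simp [Fin.prod_univ_two]
      have hdvd48 : 2 ^ N ∣ 48 := by
        rw [← hN, ← hGL]; exact Subgroup.card_dvd_of_injective ψ hψ
      have h8 : 8 ∣ 2 ^ N := by rw [← hidx, ← hN]; exact Subgroup.index_dvd_card St
      have hN' : N = 3 ∨ N = 4 := by
        have hlo : 3 ≤ N := by
          by_contra h
          have := Nat.le_of_dvd (by positivity) h8
          have := Nat.pow_le_pow_right (show 1 ≤ 2 by norm_num) (show N ≤ 2 by omega)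
          omega
        have hhi : N ≤ 4 := by
          by_contra h
          have : 2 ^ 5 ∣ 48 := (pow_dvd_pow 2 (by omega)).trans hdvd48
          norm_num at this
        omega
      rcases hN' with rfl | rfl
      · have hSt1 : St = ⊥ := by
          have := St.index_mul_card
          rw [hidx, hN] at this
          exact Subgroup.eq_bot_of_card_eq _ (by omega)
        have hfix : ∀ g : G, g ≠ 1 → ∀ v : V, ρ g v = v → v = 0 := by
          intro g hg v hv
          by_contra hv0
          obtain ⟨x, rfl⟩ := htrans v₀ v hv₀ hv0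
          have h3 : x⁻¹ * g * x ∈ St := by
            rw [hSt, MulAction.mem_stabilizer_iff, mul_smul, mul_smul, inv_smul_eq_iff]
            exact hv
          rw [hSt1, Subgroup.mem_bot] at h3
          exact hg (by simpa [mul_assoc, inv_mul_eq_one, mul_eq_left] using h3)
        have hneg : ∀ g : G, orderOf g = 2 → ∀ v, ρ g v = -v := by
          intro g hg v
          have hg1 : g ≠ 1 := fun h => by simp [h] at hg
          have hgg : g * g = 1 := by rw [← pow_two, ← hg, pow_orderOf_eq_one]
          have := hfix g hg1 (v + ρ g v) (by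
            rw [map_add, show ρ g (ρ g v) = (g * g) • v from (mul_smul g g v).symm, hgg, one_smul,
              add_comm])
          exact eq_neg_of_add_eq_zero_right this
        have huniq : ∀ H K : Subgroup G, Nat.card H = 2 → Nat.card K = 2 → H = K := by
          have key : ∀ H : Subgroup G, Nat.card H = 2 → ∀ x : G, orderOf x = 2 → x ∈ H := by
            intro H hH x hx
            obtain ⟨y, hy⟩ := exists_prime_orderOf_dvd_card' (G := H) 2 (by rw [hH])
            rw [← Subgroup.orderOf_coe] at hy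
            rw [show x = (y : G) from hρ (LinearEquiv.ext fun v => by
              rw [hneg x hx, hneg _ hy])]
            exact y.2
          intro H K hH hK
          refine Subgroup.eq_of_le_of_card_ge (fun x hx => ?_) (by rw [hH, hK])
          rcases eq_or_ne x 1 with rfl | hx1
          · exact one_mem K
          · refine key K hK x (orderOf_eq_prime ?_ hx1)
            have h := pow_card_eq_one' (G := H) (x := ⟨x, hx⟩)
            rw [hH] at h
            exact congrArg Subtype.val h
        rcases Cfsg.Agent.S0016.result 2 hG huniq with h | ⟨-, j, ⟨e'⟩⟩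
        · exact Or.inl ⟨h, by rw [hN]; norm_num⟩
        · refine Or.inr (Or.inl ?_)
          have hc := Nat.card_congr e'.toEquiv
          haveI : NeZero (2 ^ j) := ⟨pow_ne_zero _ (by norm_num)⟩
          rw [hN, Nat.card_eq_fintype_card, QuaternionGroup.card] at hc
          have hj : 2 ^ j = 2 := by norm_num at hc; omega
          exact ⟨hj ▸ e'⟩
      · refine Or.inr (Or.inr ⟨?_, by rw [hN]; norm_num⟩)
        have hcardR : Nat.card ψ.range = 2 ^ (Nat.card (GL (Fin 2) (ZMod 3))).factorization 2 := by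
          rw [← Nat.card_congr (MonoidHom.ofInjective hψ).toEquiv, hN, hGL]
          have : (48 : ℕ).factorization 2 = 4 := by
            rw [show (48 : ℕ) = 2 ^ 4 * 3 by norm_num,
              Nat.factorization_mul (by norm_num) (by norm_num)]
            rw [Finsupp.add_apply, Nat.Prime.factorization_pow Nat.prime_two, Finsupp.single_eq_same,
              Nat.factorization_eq_zero_of_not_dvd (by norm_num : ¬ 2 ∣ 3)]
          rw [this]
        have h := (Cfsg.Agent.S1217.result (Sylow.ofCard ψ.range hcardR)).1 (by rw [ZMod.card])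
        exact isQD_of_equiv (MonoidHom.ofInjective hψ).symm h

end Cfsg.Agent.S3370
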