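import Cfsg.Statements.S2418
import Cfsg.Agent.Lib.Chev.CoxeterCenter
import Cfsg.Agent.Lib.Chev.WeylE6

set_option autoImplicit false
open Cfsg

namespace Cfsg.Agent.S2418

/-- For the Coxeter groups of types B₂, G₂, D₄, F₄, E₇, E₈ the centre has order 2 (the element acting as −1 on the root system) and is generated by a power of the Coxeter element `s₁ s₂ ⋯ s_l`; the Coxeter group of type E₆ has trivial centre. -/
theorem result (c : (Σ n : ℕ, CoxeterMatrix (Fin n)) × ℕ)
    (hc : c ∈ [(⟨2, CoxeterMatrix.B 2⟩, 2), (⟨2, CoxeterMatrix.G₂⟩, 2), (⟨4, Cfsg.Lie.coxeterD4⟩, 2), (⟨4, CoxeterMatrix.F₄⟩, 2),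
      (⟨6, CoxeterMatrix.E₆⟩, 1), (⟨7, CoxeterMatrix.E₇⟩, 2), (⟨8, CoxeterMatrix.E₈⟩, 2)]) :
    Nat.card (Subgroup.center c.1.2.Group) = c.2 ∧
      Subgroup.center c.1.2.Group ≤ Subgroup.zpowers ((List.finRange c.1.1).map c.1.2.simple).prod := by
    simp only [List.mem_cons, List.mem_nil_iff, or_false] at hc
    open Cfsg.Lib.Chev in
    rcases hc with rfl | rfl | rfl | rfl | rfl | rfl | rfl
    · exact center_card_two fullCertB2.comm.cert fullCertB2 chkCox_B2 (by decide +kernel) (h := 2) (by decide +kernel) (by decide +kernel)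
    · exact center_card_two fullCertG2.comm.cert fullCertG2 chkCox_G2 (by decide +kernel) (h := 3) (by decide +kernel) (by decide +kernel)
    · exact center_card_two fullCertD4.comm.cert fullCertD4 chkCox_D4 (by decide +kernel) (h := 3) (by decide +kernel) (by decide +kernel)
    · exact center_card_two fullCertF4.comm.cert fullCertF4 chkCox_F4 (by decide +kernel) (h := 6) (by decide +kernel) (by decide +kernel)
    · have h : Subgroup.center CoxeterMatrix.E₆.Group = ⊥ := center_eq_bot fullCertE6.comm.cert fullCertE6 chkCox_E6 chkWeylE6 (by decide +kernel)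
        (u := (weylE6.reverse.map fun L => ((L.1.getLast?).getD (0, [], [])).2.1).flatten) ?_ (by decide +kernel)
      · exact ⟨(congrArg (fun H : Subgroup _ => Nat.card H) h).trans Subgroup.card_bot, h.trans_le bot_le⟩
      · intro i hi
        have : ((weylE6.reverse.map fun L => ((L.1.getLast?).getD (0, [], [])).2.1).flatten).all (fun i => decide (i < 6)) = true := by
          decide +kernel
        exact of_decide_eq_true (List.all_eq_true.1 this i hi)
    · exact center_card_two fullCertE7.comm.cert fullCertE7 chkCox_E7 (by decide +kernel) (h := 9) (by decide +kernel) (by decide +kernel)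
    · exact center_card_two fullCertE8.comm.cert fullCertE8 chkCox_E8 (by decide +kernel) (h := 15) (by decide +kernel) (by decide +kernel)

end Cfsg.Agent.S2418
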