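import Cfsg.Statements.S0719
import Cfsg.Agent.Lib.Char.Formulas
import Cfsg.Agent.Lib.Char.Orthogonality

set_option autoImplicit false
open Cfsg

namespace Cfsg.Agent.S0719

open Cfsg.Lib.Char
open scoped ComplexConjugate

variable {G : Type*} [Group G] {Ω : Type*} [MulAction G Ω]

/-- the orbital of the pair `(o, b)` -/
def Orb (o b x y : Ω) : Prop := ∃ g : G, g • o = x ∧ g • b = y

theorem orb_smul {o b x y : Ω} (g : G) (h : Orb (G := G) o b x y) :
    Orb (G := G) o b (g • x) (g • y) := by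
  obtain ⟨k, hk1, hk2⟩ := h
  exact ⟨g * k, by rw [mul_smul, hk1], by rw [mul_smul, hk2]⟩

theorem orb_smul_iff {o b x y : Ω} (g : G) :
    Orb (G := G) o b (g • x) (g • y) ↔ Orb (G := G) o b x y :=
  ⟨fun h => by simpa using orb_smul g⁻¹ h, orb_smul g⟩

theorem orb_iff_mem {o b y : Ω} :
    Orb (G := G) o b o y ↔ y ∈ MulAction.orbit (MulAction.stabilizer G o) b := by
  constructor
  · rintro ⟨g, h1, h2⟩
    exact ⟨⟨g, h1⟩, h2⟩
  · rintro ⟨⟨g, hg⟩, h2⟩
    exact ⟨g, hg, h2⟩

/-- a point outside the base point is not fixed by the stabiliser -/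
theorem two_le_orbit [Finite G] [Finite Ω] [MulAction.IsPreprimitive G Ω] (o b : Ω)
    (hb : b ≠ o) (hne : Nat.card (MulAction.orbitRel.Quotient (MulAction.stabilizer G o) Ω) < Nat.card Ω) :
    2 ≤ Nat.card (MulAction.orbit (MulAction.stabilizer G o) b) := by
  haveI : Nontrivial Ω := ⟨⟨b, o, hb⟩⟩
  set K := MulAction.stabilizer G o with hK
  haveI : Nonempty (MulAction.orbit K b) := ⟨⟨b, MulAction.mem_orbit_self b⟩⟩
  have hpos : 0 < Nat.card (MulAction.orbit K b) :=
    Nat.card_pos (α := MulAction.orbit K b)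
  by_contra hlt
  have hsub : Subsingleton (MulAction.orbit K b) :=
    (Nat.card_eq_one_iff_unique.1 (by omega)).1
  have hfix : ∀ g ∈ K, g • b = b := fun g hg => congrArg Subtype.val
    (hsub.elim ⟨g • b, ⟨g, hg⟩, rfl⟩ ⟨b, MulAction.mem_orbit_self b⟩)
  have hmax : IsCoatom K := MulAction.IsPreprimitive.isCoatom_stabilizer_of_isPreprimitive (G := G) o
  obtain ⟨h, hh⟩ := MulAction.exists_smul_eq G o b
  have hle : K ≤ MulAction.stabilizer G b := fun g hg => hfix g hg
  have hnt : MulAction.stabilizer G b ≠ ⊤ := by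
    intro ht
    have : h⁻¹ ∈ MulAction.stabilizer G b := by rw [ht]; trivial
    have h1 : h⁻¹ • b = b := this
    rw [← hh, inv_smul_smul] at h1
    exact hb (hh.symm.trans h1.symm)
  have heq : MulAction.stabilizer G b = K :=
    ((hmax.le_iff.1 hle).resolve_left hnt)
  have hhn : h ∈ Subgroup.normalizer (K : Set G) := by
    rw [Subgroup.mem_normalizer_iff]
    intro g
    constructor
    · intro hg
      rw [← heq]
      show (h * g * h⁻¹) • b = b
      rw [← hh, mul_smul, inv_smul_smul, mul_smul, show g • o = o from hg]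
    · intro hg
      rw [← heq] at hg
      have h1 : (h * g * h⁻¹) • b = b := hg
      rw [← hh, mul_smul, inv_smul_smul, mul_smul] at h1
      show g • o = o
      exact MulAction.injective h h1
  have hhK : h ∉ K := fun hk => hb (hh.symm.trans hk)
  have htop : Subgroup.normalizer (K : Set G) = ⊤ :=
    (hmax.le_iff.1 Subgroup.le_normalizer).resolve_right (fun e => hhK (e ▸ hhn))
  have hall : ∀ g ∈ K, ∀ x : Ω, g • x = x := by
    intro g hg x
    obtain ⟨u, rfl⟩ := MulAction.exists_smul_eq G o x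
    have hu : u⁻¹ ∈ Subgroup.normalizer (K : Set G) := by rw [htop]; trivial
    have h1 := (Subgroup.mem_normalizer_iff.1 hu g).1 hg
    have h2 : (u⁻¹ * g * u⁻¹⁻¹) • o = o := h1
    rw [inv_inv, mul_smul, mul_smul, inv_smul_eq_iff] at h2
    exact h2
  apply hne.ne
  refine (Nat.card_eq_of_bijective (Quotient.mk'' : Ω → MulAction.orbitRel.Quotient K Ω)
    ⟨fun x y hxy => ?_, Quotient.mk''_surjective⟩).symm
  obtain ⟨g, hg⟩ := Quotient.eq''.1 hxy
  rw [← hg]
  exact hall g g.2 y

/-- The arithmetic of one non-trivial symmetric orbital. -/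
theorem key [Fintype G] [Fintype Ω] [MulAction.IsPretransitive G Ω] {m : ℕ}
    (hm : Fintype.card Ω = 2 * m) (hm2 : 2 ≤ m) (o b c : Ω) (hbo : b ≠ o) (hco : c ≠ o)
    (hbc : ¬ Orb (G := G) o b o c)
    (hcov : ∀ y, y = o ∨ Orb (G := G) o b o y ∨ Orb (G := G) o c o y)
    (hsym : ∀ x y, Orb (G := G) o b x y → Orb (G := G) o b y x)
    (χ₁ χ₂ : G → ℂ) (h₁ : Cfsg.IsIrrCharacter G χ₁) (h₂ : Cfsg.IsIrrCharacter G χ₂)
    (hπ : (fun g : G => (Nat.card (MulAction.fixedBy Ω g) : ℂ)) = fun g => 1 + χ₁ g + χ₂ g)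
    (hd₁ : χ₁ 1 = (m : ℂ) - 1) (hd₂ : χ₂ 1 = m) :
    ∃ y : ℤ, 2 * (Nat.card (MulAction.orbit (MulAction.stabilizer G o) b) : ℤ) ^ 2
      + 4 * (Nat.card (MulAction.orbit (MulAction.stabilizer G o) b) : ℤ) * y * ((m : ℤ) - 1)
      + y ^ 2 * ((m : ℤ) - 1) * (2 * (m : ℤ) - 1)
      - 2 * (Nat.card (MulAction.orbit (MulAction.stabilizer G o) b) : ℤ) = 0 := by
  classical
  have hn0 : (Nat.card G : ℂ) ≠ 0 := card_cast_ne_zero
  set k := Nat.card (MulAction.orbit (MulAction.stabilizer G o) b) with hk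
  -- characters
  have hd0 : χ₁ 1 ≠ 0 := by
    rw [hd₁, sub_ne_zero]
    exact_mod_cast (show m ≠ 1 by omega)
  have hne12 : χ₁ ≠ χ₂ := fun h => by
    rw [h, hd₂] at hd₁
    have : (1 : ℂ) = 0 := by linear_combination hd₁
    exact one_ne_zero this
  have h1irr : Cfsg.IsIrrCharacter G (fun _ : G => (1 : ℂ)) := isIrrCharacter_one
  have hburn : classInner (fun g : G => (Nat.card (MulAction.fixedBy Ω g) : ℂ)) (fun _ => 1) = 1 := by
    haveI : Fintype (MulAction.orbitRel.Quotient G Ω) := Fintype.ofFinite _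
    have hq : Fintype.card (MulAction.orbitRel.Quotient G Ω) = 1 := by
      haveI : Subsingleton (MulAction.orbitRel.Quotient G Ω) :=
        MulAction.pretransitive_iff_subsingleton_quotient G Ω |>.1 inferInstance
      haveI : Nonempty (MulAction.orbitRel.Quotient G Ω) := ⟨Quotient.mk'' o⟩
      exact Fintype.card_eq_one_iff_nonempty_unique.2 ⟨uniqueOfSubsingleton (Classical.arbitrary _)⟩
    have h := MulAction.sum_card_fixedBy_eq_card_orbits_mul_card_group G Ω
    rw [hq, one_mul, ← Nat.card_eq_fintype_card] at h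
    have h' : ∑ g : G, (Nat.card (MulAction.fixedBy Ω g) : ℂ) = (Nat.card G : ℂ) := by
      rw [← Nat.cast_sum]
      exact_mod_cast (by simpa [Nat.card_eq_fintype_card] using h :
        ∑ g : G, Nat.card (MulAction.fixedBy Ω g) = Nat.card G)
    rw [classInner_one_right, h', inv_mul_cancel₀ hn0]
  have hsplit : ∀ ψ : G → ℂ, classInner (fun g : G => (Nat.card (MulAction.fixedBy Ω g) : ℂ)) ψ =
      classInner (fun _ => 1) ψ + classInner χ₁ ψ + classInner χ₂ ψ := by
    intro ψ
    rw [hπ, ← classInner_add_left, ← classInner_add_left]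
    rfl
  have hχne : χ₁ ≠ (fun _ => 1) := by
    intro h
    have h2 := hsplit (fun _ => 1)
    rw [hburn, classInner_irr_self h1irr, classInner_irr h₁ h1irr, if_pos h,
      classInner_irr h₂ h1irr] at h2
    split_ifs at h2 <;> norm_num at h2
  have hχ1 : classInner χ₁ (fun _ => 1) = 0 := classInner_irr_ne h₁ h1irr hχne
  have hπχ : classInner (fun g : G => (Nat.card (MulAction.fixedBy Ω g) : ℂ)) χ₁ = 1 := by
    rw [hsplit, classInner_irr_ne h1irr h₁ hχne.symm, classInner_irr_self h₁,
      classInner_irr_ne h₂ h₁ hne12.symm]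
    simp
  have hconj : ∀ g : G, χ₁ g⁻¹ = conj (χ₁ g) := by
    obtain ⟨n, ρ, -, rfl⟩ := h₁
    exact character_inv ρ
  have hclass : ∀ g h : G, χ₁ (h * g * h⁻¹) = χ₁ g := by
    obtain ⟨n, ρ, -, rfl⟩ := h₁
    exact fun g h => ρ.char_conj g h
  -- the matrices
  let A : Matrix Ω Ω ℂ := Matrix.of fun x y => if Orb (G := G) o b x y then 1 else 0
  let J : Matrix Ω Ω ℂ := Matrix.of fun _ _ => 1
  let E : Matrix Ω Ω ℂ := Matrix.of fun x y =>
    χ₁ 1 / (Nat.card G : ℂ) * ∑ g : G, if g • y = x then χ₁ g⁻¹ else 0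
  have hext : ∀ M : Matrix Ω Ω ℂ, (∀ (g : G) x y, M (g • x) (g • y) = M x y) →
      M = (M o o - M o c) • (1 : Matrix Ω Ω ℂ) + (M o b - M o c) • A + M o c • J := by
    intro M hM
    ext x y
    obtain ⟨g, rfl⟩ := MulAction.exists_smul_eq G o x
    obtain ⟨z, rfl⟩ : ∃ z, g • z = y := ⟨g⁻¹ • y, smul_inv_smul _ _⟩
    simp only [hM, Matrix.add_apply, Matrix.smul_apply, Matrix.one_apply, A, J, Matrix.of_apply,
      orb_smul_iff, smul_left_cancel_iff, smul_eq_mul]
    rcases hcov z with rfl | hz | hz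
    · have : ¬ Orb (G := G) z b z z := by
        rintro ⟨h, h1, h2⟩
        exact hbo (MulAction.injective h (h2.trans h1.symm))
      simp [this]
    · have hz' := hz
      obtain ⟨h, h1, h2⟩ := hz
      have hne : o ≠ z := fun e => hbo (MulAction.injective h (h2.trans (e.symm.trans h1.symm)))
      have := hM h o b
      rw [h1, h2] at this
      simp [this, hz', hne]
    · have hnb : ¬ Orb (G := G) o b o z := by
        rintro ⟨u, u1, u2⟩
        obtain ⟨h, h1, h2⟩ := hz
        exact hbc ⟨h⁻¹ * u, by rw [mul_smul, u1]; exact inv_smul_eq_iff.2 h1.symm,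
          by rw [mul_smul, u2]; exact inv_smul_eq_iff.2 h2.symm⟩
      obtain ⟨h, h1, h2⟩ := hz
      have hne : o ≠ z := fun e => hco (MulAction.injective h (h2.trans (e.symm.trans h1.symm)))
      have := hM h o c
      rw [h1, h2] at this
      simp [this, hnb, hne]
  have hAinv : ∀ (g : G) x y, A (g • x) (g • y) = A x y := fun g x y => by
    simp [A, orb_smul_iff]
  have hA2inv : ∀ (g : G) x y, (A * A) (g • x) (g • y) = (A * A) x y := by
    intro g x y
    simp only [Matrix.mul_apply]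
    exact (Fintype.sum_equiv (MulAction.toPerm g) _ _ (fun u => by
      simp [hAinv])).symm
  have hArow : ∀ x, ∑ y, A x y = (k : ℂ) := by
    intro x
    obtain ⟨g, rfl⟩ := MulAction.exists_smul_eq G o x
    rw [← Fintype.sum_equiv (MulAction.toPerm g) (fun y => A o y) (fun y => A (g • o) y)
      (fun u => by simp [hAinv])]
    simp only [A, Matrix.of_apply, Finset.sum_boole, hk, orb_iff_mem]
    rw [Nat.card_eq_fintype_card, ← Set.toFinset_card]
    congr 2
    ext y
    simp
  have hAb : A o b = 1 := by simp [A, show Orb (G := G) o b o b from ⟨1, by simp, by simp⟩]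
  have hAc : A o c = 0 := by simp [A, hbc]
  have hAo : A o o = 0 := by
    have : ¬ Orb (G := G) o b o o := by
      rintro ⟨h, h1, h2⟩
      exact hbo (MulAction.injective h (h2.trans h1.symm))
    simp [A, this]
  -- square of `A`
  have hsq : A * A = ((A * A) o o - (A * A) o c) • (1 : Matrix Ω Ω ℂ) +
      ((A * A) o b - (A * A) o c) • A + (A * A) o c • J := hext _ hA2inv
  have hnat : ∀ z, ∃ n : ℕ, (A * A) o z = n := fun z =>
    ⟨(Finset.univ.filter fun u => Orb (G := G) o b o u ∧ Orb (G := G) o b u z).card, by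
      simp [Matrix.mul_apply, A, ← ite_and, Finset.sum_boole]
      congr 1
      ext u
      simp [and_comm]⟩
  obtain ⟨nb, hnb⟩ := hnat b
  obtain ⟨nc, hnc⟩ := hnat c
  have hoo : (A * A) o o = (k : ℂ) := by
    rw [Matrix.mul_apply, ← hArow o]
    refine Finset.sum_congr rfl fun u _ => ?_
    by_cases h : Orb (G := G) o b o u
    · simp [A, h, hsym o u h]
    · simp [A, h]
  have hAJ : ∀ x y, (A * J) x y = (k : ℂ) := fun x y => by
    simp [Matrix.mul_apply, J, hArow]
  have hrow2 : (k : ℂ) * k = ((k : ℂ) - nc) + ((nb : ℂ) - nc) * k + (nc : ℂ) * (2 * m) := by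
    have h1 : ∑ y, (A * A) o y = (k : ℂ) * k := by
      simp only [Matrix.mul_apply]
      rw [Finset.sum_comm]
      simp only [← Finset.mul_sum, hArow]
      rw [← Finset.sum_mul, hArow]
    have h2 : ∑ y, (A * A) o y = ∑ y, (((A * A) o o - (A * A) o c) • (1 : Matrix Ω Ω ℂ) +
      ((A * A) o b - (A * A) o c) • A + (A * A) o c • J) o y := by rw [← hsq]
    rw [h1, hoo, hnb, hnc] at h2
    simp [Finset.sum_add_distrib, ← Finset.mul_sum, hArow, Matrix.one_apply, J, hm] at h2
    rw [h2]; ring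
  -- the projection `E`
  have hEinv : ∀ (g : G) x y, E (g • x) (g • y) = E x y := by
    intro g x y
    simp only [E, Matrix.of_apply]
    congr 1
    refine Fintype.sum_equiv (MulAut.conj g⁻¹).toEquiv _ _ fun u => ?_
    simp only [MulEquiv.toEquiv_eq_coe, EquivLike.coe_coe, MulAut.conj_apply, inv_inv]
    rw [mul_inv_rev, mul_inv_rev, inv_inv, ← mul_assoc]
    have : χ₁ (g⁻¹ * u⁻¹ * g) = χ₁ u⁻¹ := by simpa using hclass u⁻¹ g⁻¹
    rw [this, mul_smul, mul_smul, inv_smul_eq_iff]
  have hErow : ∀ x, ∑ y, E x y = 0 := by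
    intro x
    simp only [E, Matrix.of_apply, ← Finset.mul_sum]
    rw [Finset.sum_comm]
    have : ∀ g : G, ∑ y : Ω, (if g • y = x then χ₁ g⁻¹ else 0) = χ₁ g⁻¹ := fun g => by
      rw [Finset.sum_eq_single (g⁻¹ • x)]
      · simp
      · intro y _ hy
        rw [if_neg]
        exact fun h => hy (eq_inv_smul_iff.2 h)
      · simp
    rw [Finset.sum_congr rfl fun g _ => this g]
    have h0 : ∑ g : G, χ₁ g⁻¹ = 0 := by
      rw [Fintype.sum_equiv (Equiv.inv G) (fun g => χ₁ g⁻¹) χ₁ (fun _ => rfl)]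
      have := classInner_one_right χ₁
      rw [hχ1] at this
      rcases mul_eq_zero.1 this.symm with h | h
      · exact absurd (inv_eq_zero.1 h) hn0
      · exact h
    rw [h0, mul_zero]
  have hEJ : ∀ x y, (E * J) x y = 0 := fun x y => by
    simp [Matrix.mul_apply, J, hErow]
  have hEtr : ∑ x, E x x = (m : ℂ) - 1 := by
    simp only [E, Matrix.of_apply, ← Finset.mul_sum]
    rw [Finset.sum_comm]
    have : ∀ g : G, ∑ x : Ω, (if g • x = x then χ₁ g⁻¹ else 0) =
        (Nat.card (MulAction.fixedBy Ω g) : ℂ) * conj (χ₁ g) := fun g => by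
      rw [← Finset.sum_filter, Finset.sum_const, nsmul_eq_mul, hconj,
        Nat.card_eq_fintype_card, ← Set.toFinset_card]
      congr 3
      ext y
      simp
    rw [Finset.sum_congr rfl fun g _ => this g, div_mul_eq_mul_div, mul_div_assoc, ← hd₁]
    have h := hπχ
    rw [classInner, mul_comm, ← div_eq_mul_inv] at h
    rw [h, mul_one]
  have hEE : E * E = E := by
    ext x z
    simp only [Matrix.mul_apply, E, Matrix.of_apply]
    calc ∑ y, (χ₁ 1 / (Nat.card G : ℂ) * ∑ g : G, if g • y = x then χ₁ g⁻¹ else 0) *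
          (χ₁ 1 / (Nat.card G : ℂ) * ∑ h : G, if h • z = y then χ₁ h⁻¹ else 0)
        = (χ₁ 1 / (Nat.card G : ℂ)) ^ 2 * ∑ g : G, ∑ h : G,
            (if (g * h) • z = x then χ₁ g⁻¹ * χ₁ h⁻¹ else 0) := by
          rw [Finset.mul_sum]
          simp only [Finset.mul_sum, Finset.sum_mul]
          rw [Finset.sum_comm]
          rw [Finset.sum_comm (s := (Finset.univ : Finset G)) (t := (Finset.univ : Finset G))]
          refine Finset.sum_congr rfl fun h _ => ?_
          rw [Finset.sum_comm]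
          refine Finset.sum_congr rfl fun g _ => ?_
          rw [Finset.sum_eq_single (h • z)]
          · rw [mul_smul, if_pos rfl]
            split_ifs <;> simp <;> ring
          · intro y _ hy
            simp [Ne.symm hy]
          · simp
      _ = (χ₁ 1 / (Nat.card G : ℂ)) ^ 2 * ∑ u : G, (if u • z = x then
            ((Nat.card G : ℂ) * χ₁ u⁻¹ / χ₁ 1) else 0) := by
          congr 1
          calc ∑ g : G, ∑ h : G, (if (g * h) • z = x then χ₁ g⁻¹ * χ₁ h⁻¹ else 0)
              = ∑ g : G, ∑ u : G, (if u • z = x then χ₁ g⁻¹ * χ₁ (g⁻¹ * u)⁻¹ else 0) :=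
                Finset.sum_congr rfl fun g _ => Fintype.sum_equiv (Equiv.mulLeft g) _ _
                  fun h => by simp
            _ = _ := by
              rw [Finset.sum_comm]
              refine Finset.sum_congr rfl fun u _ => ?_
              by_cases hu : u • z = x
              · simp only [if_pos hu]
                rw [← sum_char_mul_char_inv h₁ u⁻¹]
                refine Fintype.sum_equiv (Equiv.inv G) _ _ fun g => ?_
                simp only [Equiv.inv_apply, inv_inv, mul_inv_rev]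
                congr 1
                have := hclass (u⁻¹ * g) g
                simpa [mul_assoc] using this.symm
              · simp [hu]
      _ = _ := by
          rw [Finset.mul_sum, Finset.mul_sum]
          refine Finset.sum_congr rfl fun u _ => ?_
          split_ifs
          · field_simp
          · simp
  -- coefficients
  set a := E o o - E o c with ha
  set β := E o b - E o c with hβ
  set e := E o c with he
  set x := ((k : ℂ) - nc) with hx
  set y := ((nb : ℂ) - nc) with hy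
  have hE : E = a • (1 : Matrix Ω Ω ℂ) + β • A + e • J := hext E hEinv
  have hsq' : A * A = x • (1 : Matrix Ω Ω ℂ) + y • A + (nc : ℂ) • J := by
    rw [hsq, hoo, hnb, hnc]
  have hbo' : o ≠ b := hbo.symm
  have hco' : o ≠ c := hco.symm
  have hEA : ∀ z, (E * A) o z = a * A o z + β * (A * A) o z + e * k := by
    intro z
    rw [hE]
    simp only [add_mul, Matrix.smul_mul, one_mul, Matrix.add_apply, Matrix.smul_apply,
      smul_eq_mul]
    congr 1
    simp only [Matrix.mul_apply, J, Matrix.of_apply, one_mul]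
    obtain ⟨g, rfl⟩ := MulAction.exists_smul_eq G o z
    rw [← Fintype.sum_equiv (MulAction.toPerm g) (fun u => A u o) (fun u => A u (g • o))
      (fun u => by simp [hAinv]), ← hArow o]
    congr 1
    refine Finset.sum_congr rfl fun u _ => ?_
    simp only [A, Matrix.of_apply]
    exact if_congr ⟨hsym u o, hsym o u⟩ rfl rfl
  have hzval : ∀ z, E o z = a * E o z + β * (a * A o z + β * (A * A) o z + e * k) := by
    intro z
    rw [← hEA z]
    conv_lhs => rw [← hEE]
    conv_lhs => arg 2; rw [hE]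
    simp only [mul_add, Matrix.mul_smul, mul_one, Matrix.add_apply, Matrix.smul_apply,
      smul_eq_mul, hEJ]
    ring
  have eo := hzval o
  have eb := hzval b
  have ec := hzval c
  have hEo : E o o = a + e := by simp [ha, he]
  have hEb : E o b = β + e := by simp [hβ, he]
  rw [hAo, hoo, hEo] at eo
  rw [hAb, hnb, hEb] at eb
  rw [hAc, hnc, ← he] at ec
  have q1 : a ^ 2 + β ^ 2 * x = a := by rw [hx]; linear_combination ec - eo
  have q2 : 2 * a * β + β ^ 2 * y = β := by rw [hy]; linear_combination ec - eb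
  have q3 : a + β * k + e * (2 * m) = 0 := by
    have h0 := hErow o
    rw [hE] at h0
    simp [Finset.sum_add_distrib, ← Finset.mul_sum, hArow, Matrix.one_apply, J, hm] at h0
    linear_combination h0
  have q4 : 2 * (m : ℂ) * (a + e) = (m : ℂ) - 1 := by
    rw [← hEtr]
    have : ∀ u, E u u = a + e := fun u => by
      obtain ⟨g, rfl⟩ := MulAction.exists_smul_eq G o u
      rw [hEinv, hEo]
    simp [this, hm]; ring
  have hm0 : (m : ℂ) ≠ 0 := by exact_mod_cast (show m ≠ 0 by omega)
  have hβ0 : β ≠ 0 := by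
    intro h
    rw [h] at q1 q3
    have : a * (a - 1) = 0 := by linear_combination q1
    rcases mul_eq_zero.1 this with h' | h'
    · have : (m : ℂ) = 1 := by linear_combination -q4 + q3 + (2 * (m : ℂ) - 1) * h'
      exact absurd this (by exact_mod_cast (show m ≠ 1 by omega))
    · have : (m : ℂ) = 0 := by linear_combination q4 - q3 - (2 * (m : ℂ) - 1) * h'
      exact hm0 this
  set θ := -(a / β) with hθ
  have hθ1 : θ ^ 2 - y * θ - x = 0 := by
    have h0 : a ^ 2 + y * a * β - x * β ^ 2 = 0 :=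
      mul_left_cancel₀ hβ0 (by linear_combination a * q2 - β * q1)
    have : θ ^ 2 - y * θ - x = (a ^ 2 + y * a * β - x * β ^ 2) / β ^ 2 := by
      rw [hθ]
      field_simp
      ring
    rw [this, h0, zero_div]
  have hθ2 : θ = -(k : ℂ) - ((m : ℂ) - 1) * y := by
    rw [hθ, eq_comm, ← neg_eq_iff_eq_neg, eq_div_iff hβ0]
    have hyβ : β * y = 1 - 2 * a := mul_left_cancel₀ hβ0 (by linear_combination q2)
    linear_combination q3 + ((m : ℂ) - 1) * hyβ - q4
  rw [hθ2] at hθ1
  refine ⟨(nb : ℤ) - nc, ?_⟩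
  rw [← @Int.cast_inj ℂ]
  push_cast
  rw [← hy]
  refine mul_left_cancel₀ hm0 ?_
  rw [mul_zero]
  linear_combination (2 * (m : ℂ) - 1) * hθ1 + hrow2

/-- Groups of Wielandt type: if a primitive group of degree `2m` has rank 3 and permutation character `1 + χ₁ + χ₂` with irreducible `χ₁, χ₂` of degrees `m - 1` and `m`, then `m = 2a² + 2a + 1` for some positive integer `a` and the two non-trivial subdegrees are `a(2a+1)` and `(a+1)(2a+1)`. -/
theorem result {G : Type*} [Group G] [Fintype G] {Ω : Type*} [Fintype Ω] [MulAction G Ω] (hprim : MulAction.IsPreprimitive G Ω) {m : ℕ} (hm : Fintype.card Ω = 2 * m) (a₀ : Ω) (hrank : Nat.card (MulAction.orbitRel.Quotient (MulAction.stabilizer G a₀) Ω) = 3) (χ₁ χ₂ : G → ℂ) (h₁ : Cfsg.IsIrrCharacter G χ₁) (h₂ : Cfsg.IsIrrCharacter G χ₂) (hπ : (fun g : G => (Nat.card (MulAction.fixedBy Ω g) : ℂ)) = fun g => 1 + χ₁ g + χ₂ g) (hd₁ : χ₁ 1 = (m : ℂ) - 1) (hd₂ : χ₂ 1 = m) : ∃ a : ℕ, 0 < a ∧ m = 2 * a ^ 2 + 2 * a + 1 ∧ ∀ b : Ω, b ≠ a₀ → Nat.card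 (MulAction.orbit (MulAction.stabilizer G a₀) b) = a * (2 * a + 1) ∨ Nat.card (MulAction.orbit (MulAction.stabilizer G a₀) b) = (a + 1) * (2 * a + 1) := by
  classical
  haveI := hprim
  haveI : MulAction.IsPretransitive G Ω := hprim.toIsPretransitive
  have hΩ : Nat.card Ω = 2 * m := by rw [Nat.card_eq_fintype_card, hm]
  have hm2 : 2 ≤ m := by
    have : 3 ≤ 2 * m := by
      rw [← hrank, ← hΩ]
      exact Nat.card_le_card_of_surjective Quotient.mk'' Quotient.mk''_surjective
    omega
  have horb : ∀ b, b ≠ a₀ → 2 ≤ Nat.card (MulAction.orbit (MulAction.stabilizer G a₀) b) :=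
    fun b hb => two_le_orbit a₀ b hb (by omega)
  -- for each point a third representative
  have hthird : ∀ b, b ≠ a₀ → ∃ c, c ≠ a₀ ∧ ¬ Orb (G := G) a₀ b a₀ c ∧
      ∀ y, y = a₀ ∨ Orb (G := G) a₀ b a₀ y ∨ Orb (G := G) a₀ c a₀ y := by
    intro b hb
    haveI : Fintype (MulAction.orbitRel.Quotient (MulAction.stabilizer G a₀) Ω) := Fintype.ofFinite _
    let q : Ω → MulAction.orbitRel.Quotient (MulAction.stabilizer G a₀) Ω := Quotient.mk''
    have hq : ∀ x y, q y = q x → Orb (G := G) a₀ x a₀ y := fun x y h =>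
      orb_iff_mem.2 (Quotient.eq''.1 h)
    have hq0 : ∀ y, q y = q a₀ → y = a₀ := fun y h => by
      obtain ⟨g, h1, h2⟩ := hq a₀ y h
      exact h2.symm.trans h1
    have hcard : (Finset.univ : Finset (MulAction.orbitRel.Quotient
        (MulAction.stabilizer G a₀) Ω)).card = 3 := by
      rw [Finset.card_univ, ← Nat.card_eq_fintype_card, hrank]
    obtain ⟨Q, hQ⟩ : ∃ Q, Q ∉ ({q a₀, q b} : Finset _) := by
      by_contra hcon
      push_neg at hcon
      have := Finset.card_le_card (s := Finset.univ) (t := {q a₀, q b}) fun u _ => hcon u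
      have := Finset.card_le_two (a := q a₀) (b := q b)
      omega
    obtain ⟨c, rfl⟩ : ∃ c, q c = Q := Quotient.mk''_surjective Q
    simp only [Finset.mem_insert, Finset.mem_singleton, not_or] at hQ
    refine ⟨c, fun h => hQ.1 (by rw [h]), fun h => hQ.2 (Quotient.eq''.2 (orb_iff_mem.1 h)),
      fun y => ?_⟩
    have hall : ({q a₀, q b, q c} : Finset _) = Finset.univ := by
      refine Finset.eq_univ_of_card _ ?_
      rw [← Finset.card_univ, hcard, Finset.card_eq_three]
      exact ⟨q a₀, q b, q c, fun h => hb (hq0 b h.symm), fun h => hQ.1 h.symm,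
        fun h => hQ.2 h.symm, rfl⟩
    have := Finset.mem_univ (q y)
    rw [← hall] at this
    simp only [Finset.mem_insert, Finset.mem_singleton] at this
    rcases this with h | h | h
    · exact Or.inl (hq0 y h)
    · exact Or.inr (Or.inl (hq b y h))
    · exact Or.inr (Or.inr (hq c y h))
  -- every orbital is symmetric
  obtain ⟨k₀, d, hd, hk1, hk2⟩ : ∃ (g : G) (d : Ω), d ≠ a₀ ∧ g • a₀ = d ∧ g • d = a₀ := by
    let P := (MulAction.toPermHom G Ω).range
    have h2P : 2 ∣ Nat.card P := by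
      haveI : MulAction.IsPretransitive P Ω := ⟨fun x y => by
        obtain ⟨g, hg⟩ := MulAction.exists_smul_eq G x y
        exact ⟨⟨MulAction.toPermHom G Ω g, g, rfl⟩, hg⟩⟩
      have h := MulAction.index_stabilizer_of_transitive P a₀
      have h' := Subgroup.index_dvd_card (MulAction.stabilizer P a₀)
      rw [h, hΩ] at h'
      exact Dvd.dvd.trans (dvd_mul_right 2 m) h'
    obtain ⟨⟨σ, g, rfl⟩, hσ⟩ := exists_prime_orderOf_dvd_card' 2 h2P
    obtain ⟨x, hx⟩ : ∃ x : Ω, g • x ≠ x := by
      by_contra hcon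
      push_neg at hcon
      have : MulAction.toPermHom G Ω g = 1 := Equiv.ext hcon
      simp [this] at hσ
    have hgg : ∀ y : Ω, g • g • y = y := fun y => by
      have h := pow_orderOf_eq_one (⟨MulAction.toPermHom G Ω g, g, rfl⟩ : P)
      rw [hσ] at h
      have h' := congrArg (fun p : P => (p : Equiv.Perm Ω) y) h
      simpa [pow_two] using h'
    obtain ⟨h, rfl⟩ := MulAction.exists_smul_eq G a₀ x
    refine ⟨h⁻¹ * g * h, h⁻¹ • g • h • a₀, fun e => hx (inv_smul_eq_iff.1 e), by
      simp [mul_smul], by simp [mul_smul, hgg]⟩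
  have hsymd : ∀ x y, Orb (G := G) a₀ d x y → Orb (G := G) a₀ d y x := by
    rintro x y ⟨g, h1, h2⟩
    exact ⟨g * k₀, by rw [mul_smul, hk1, h2], by rw [mul_smul, hk2, h1]⟩
  have hsym : ∀ b, b ≠ a₀ → ∀ x y, Orb (G := G) a₀ b x y → Orb (G := G) a₀ b y x := by
    intro b hb x y hxy
    obtain ⟨c, hc, hdc, hcov⟩ := hthird d hd
    have hone : ∀ u v : Ω, u ≠ v → Orb (G := G) a₀ d u v ∨ Orb (G := G) a₀ c u v := by
      intro u v huv
      obtain ⟨g, rfl⟩ := MulAction.exists_smul_eq G a₀ u
      obtain ⟨z, rfl⟩ : ∃ z, g • z = v := ⟨g⁻¹ • v, smul_inv_smul _ _⟩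
      simp only [orb_smul_iff]
      exact (hcov z).resolve_left fun h => huv (by rw [h])
    have hswap : ∀ w u v, Orb (G := G) a₀ b a₀ w → Orb (G := G) a₀ w u v → Orb (G := G) a₀ b u v := by
      rintro w u v ⟨h, h1, h2⟩ ⟨g, g1, g2⟩
      exact ⟨g * h, by rw [mul_smul, h1, g1], by rw [mul_smul, h2, g2]⟩
    have hrev : ∀ w, Orb (G := G) a₀ w a₀ b → Orb (G := G) a₀ b a₀ w := by
      rintro w ⟨h, h1, h2⟩
      exact ⟨h⁻¹, inv_smul_eq_iff.2 h1.symm, inv_smul_eq_iff.2 h2.symm⟩
    rcases (hcov b).resolve_left hb with h | h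
    · obtain ⟨u, u1, u2⟩ := hxy
      obtain ⟨v, v1, v2⟩ := h
      exact hswap d y x (hrev d ⟨v, v1, v2⟩) (hsymd x y ⟨u * v, by
        rw [mul_smul, v1, u1], by rw [mul_smul, v2, u2]⟩)
    · obtain ⟨u, u1, u2⟩ := hxy
      have hne : y ≠ x := by
        rw [← u1, ← u2]
        exact fun e => hb (MulAction.injective u e)
      rcases hone y x hne with h' | h'
      · exfalso
        obtain ⟨v, v1, v2⟩ := h
        obtain ⟨w, w1, w2⟩ := hsymd y x h'
        exact hdc (by
          refine ⟨v⁻¹ * u⁻¹ * w, ?_, ?_⟩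
          · rw [mul_smul, mul_smul, w1, ← u1, inv_smul_smul]
            exact inv_smul_eq_iff.2 v1.symm
          · rw [mul_smul, mul_smul, w2, ← u2, inv_smul_smul]
            exact inv_smul_eq_iff.2 v2.symm)
      · exact hswap c y x (hrev c h) h'
  -- the arithmetic
  have hmain : ∀ b, b ≠ a₀ → (2 * (Nat.card (MulAction.orbit (MulAction.stabilizer G a₀) b) : ℤ)
      - (2 * (m : ℤ) - 1)) ^ 2 = 2 * (m : ℤ) - 1 := by
    intro b hb
    obtain ⟨c, hc, hbc, hcov⟩ := hthird b hb
    obtain ⟨y, hy⟩ := key hm hm2 a₀ b c hb hc hbc hcov (hsym b hb) χ₁ χ₂ h₁ h₂ hπ hd₁ hd₂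
    set k := Nat.card (MulAction.orbit (MulAction.stabilizer G a₀) b) with hk
    have hk2 : 2 ≤ k := horb b hb
    have hc2 := horb c hc
    have hksum : k + Nat.card (MulAction.orbit (MulAction.stabilizer G a₀) c) < 2 * m := by
      rw [← hΩ, hk, Nat.card_eq_fintype_card, Nat.card_eq_fintype_card, Nat.card_eq_fintype_card,
        ← Set.toFinset_card, ← Set.toFinset_card, ← Finset.card_union_of_disjoint,
        ← Finset.card_univ]
      · refine Finset.card_lt_card (Finset.ssubset_univ_iff.2 fun h => ?_)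
        have := Finset.mem_univ a₀
        rw [← h, Finset.mem_union, Set.mem_toFinset, Set.mem_toFinset] at this
        rcases this with ⟨g, hg⟩ | ⟨g, hg⟩
        · exact hb (MulAction.injective (g : G) (hg.trans g.2.symm))
        · exact hc (MulAction.injective (g : G) (hg.trans g.2.symm))
      · rw [Finset.disjoint_left]
        intro z hz hz'
        rw [Set.mem_toFinset] at hz hz'
        apply hbc
        rw [orb_iff_mem, ← MulAction.orbit_eq_iff.2 hz]
        exact (MulAction.orbit_eq_iff.2 hz').symm ▸ MulAction.mem_orbit_self c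
    have hmz : (2 : ℤ) ≤ m := by exact_mod_cast hm2
    have hkz : (2 : ℤ) ≤ k := by exact_mod_cast hk2
    have hkle : (k : ℤ) + 3 ≤ 2 * m := by omega
    rcases lt_trichotomy y (-1) with hlt | heq | hgt
    · exfalso
      rcases Int.le_iff_lt_or_eq.1 (show y ≤ -2 by omega) with h3 | h3
      · nlinarith [sq_nonneg (2 * (k : ℤ) + 2 * y * ((m : ℤ) - 1) - 1),
          mul_nonneg (mul_nonneg (by omega : (0 : ℤ) ≤ -y - 3) (by omega : (0 : ℤ) ≤ -y))
            (by omega : (0 : ℤ) ≤ (m : ℤ) - 2)]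
      · subst h3
        have : ((k : ℤ) - (2 * m - 1)) * ((k : ℤ) - (2 * m - 2)) = 0 := by linarith
        rcases mul_eq_zero.1 this with h | h <;> omega
    · subst heq
      linarith
    · exfalso
      rcases Int.le_iff_lt_or_eq.1 (show 0 ≤ y by omega) with h3 | h3
      · nlinarith [mul_pos (mul_pos (by omega : (0 : ℤ) < k) h3) (by omega : (0 : ℤ) < (m : ℤ) - 1),
          mul_nonneg (mul_nonneg (sq_nonneg y) (by omega : (0 : ℤ) ≤ (m : ℤ) - 1))
            (by omega : (0 : ℤ) ≤ 2 * (m : ℤ) - 1)]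
      · subst h3
        nlinarith
  obtain ⟨b₀, hb₀⟩ : ∃ b₀, b₀ ≠ a₀ := Fintype.exists_ne_of_one_lt_card (by omega) a₀
  have h0 := hmain b₀ hb₀
  set u := 2 * (Nat.card (MulAction.orbit (MulAction.stabilizer G a₀) b₀) : ℤ) - (2 * (m : ℤ) - 1)
    with hu
  have hodd : Odd u.natAbs := Int.natAbs_odd.2 ⟨Nat.card (MulAction.orbit
    (MulAction.stabilizer G a₀) b₀) - (m : ℤ), by rw [hu]; ring⟩
  obtain ⟨a, ha⟩ := hodd
  have hua : (2 * (a : ℤ) + 1) ^ 2 = 2 * (m : ℤ) - 1 := by
    rw [← h0, ← Int.natAbs_sq u, ha]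
    push_cast
    ring
  refine ⟨a, ?_, ?_, fun b hb => ?_⟩
  · rcases Nat.eq_zero_or_pos a with h | h
    · subst h
      norm_num at hua
      omega
    · exact h
  · have : (m : ℤ) = 2 * (a : ℤ) ^ 2 + 2 * a + 1 := by linarith
    exact_mod_cast this
  · have h1 := hmain b hb
    rw [← hua] at h1
    rcases sq_eq_sq_iff_eq_or_eq_neg.1 h1 with h | h
    · right
      have : (Nat.card (MulAction.orbit (MulAction.stabilizer G a₀) b) : ℤ) =
          ((a : ℤ) + 1) * (2 * a + 1) := by linarith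
      exact_mod_cast this
    · left
      have : (Nat.card (MulAction.orbit (MulAction.stabilizer G a₀) b) : ℤ) =
          (a : ℤ) * (2 * a + 1) := by linarith
      exact_mod_cast this

end Cfsg.Agent.S0719
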