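import Cfsg.Statements.S0720
import Cfsg.Agent.Lib.Perm.DegreeTwoP
import Cfsg.Agent.Lib.Fusion.Jordan

set_option autoImplicit false
open Cfsg

namespace Cfsg.Agent.S0720

/-- rank two gives double transitivity -/
theorem two_transitive_of_rank_two {G : Type*} [Group G] {α : Type*} [MulAction G α]
    [MulAction.IsPretransitive G α] (a₀ : α)
    (h : Nat.card (MulAction.orbitRel.Quotient (MulAction.stabilizer G a₀) α) = 2) :
    MulAction.IsMultiplyPretransitive G α 2 := by
  rw [MulAction.is_two_pretransitive_iff]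
  intro a b c d hab hcd
  obtain ⟨g, rfl⟩ := MulAction.exists_smul_eq G a₀ a
  obtain ⟨h', rfl⟩ := MulAction.exists_smul_eq G a₀ c
  have hone : ∀ y z : α, y ≠ a₀ → z ≠ a₀ → ∃ s ∈ MulAction.stabilizer G a₀, s • y = z := by
    intro y z hy hz
    obtain ⟨u, v, -, huv⟩ := Nat.card_eq_two_iff.1 h
    have hcl : ∀ w : α, w ≠ a₀ → (Quotient.mk'' w : MulAction.orbitRel.Quotient (MulAction.stabilizer G a₀) α) ≠ Quotient.mk'' a₀ := by
      intro w hw e
      obtain ⟨t, ht⟩ := Quotient.eq''.1 e
      exact hw (ht.symm.trans t.2)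
    have hyz : (Quotient.mk'' y : MulAction.orbitRel.Quotient (MulAction.stabilizer G a₀) α) = Quotient.mk'' z := by
      have hmem : ∀ q : MulAction.orbitRel.Quotient (MulAction.stabilizer G a₀) α, q = u ∨ q = v :=
        fun q => by
          have := Set.mem_univ q
          rw [← huv] at this
          simpa using this
      have h1 := hcl y hy
      have h2 := hcl z hz
      rcases hmem (Quotient.mk'' a₀) with e | e <;> rcases hmem (Quotient.mk'' y) with e1 | e1 <;>
        rcases hmem (Quotient.mk'' z) with e2 | e2 <;> simp_all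
    obtain ⟨t, ht⟩ := Quotient.eq''.1 hyz.symm
    exact ⟨t, t.2, ht⟩
  obtain ⟨s, hs, hsb⟩ := hone (g⁻¹ • b) (h'⁻¹ • d) (fun e => hab (inv_smul_eq_iff.1 e).symm)
    (fun e => hcd (inv_smul_eq_iff.1 e).symm)
  refine ⟨h' * s * g⁻¹, ?_, ?_⟩
  · rw [mul_smul, mul_smul, inv_smul_smul, show s • a₀ = a₀ from hs]
  · rw [mul_smul, mul_smul, hsb, smul_inv_smul]

/-- Wielandt's Theorem on primitive groups of degree `2p`: such a group is doubly transitive, or it has rank 3, `p = 2a² + 2a + 1`, and subdegrees `a(2a+1)` and `(a+1)(2a+1)`. -/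
theorem result {α : Type*} [Fintype α] [DecidableEq α] {p : ℕ} (hp : p.Prime) (hα : Fintype.card α = 2 * p) (G : Subgroup (Equiv.Perm α)) (hG : MulAction.IsPreprimitive G α) (a₀ : α) : MulAction.IsMultiplyPretransitive G α 2 ∨ (Nat.card (MulAction.orbitRel.Quotient (MulAction.stabilizer G a₀) α) = 3 ∧ ∃ a : ℕ, 0 < a ∧ p = 2 * a ^ 2 + 2 * a + 1 ∧ ∀ b : α, b ≠ a₀ → Nat.card (MulAction.orbit (MulAction.stabilizer G a₀) b) = a * (2 * a + 1) ∨ Nat.card (MulAction.orbit (MulAction.stabilizer G a₀) b) = (a + 1) * (2 * a + 1)) := by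
  classical
  haveI := hG
  haveI := hG.toIsPretransitive
  haveI := Fact.mk hp
  have hne : Nonempty α := ⟨a₀⟩
  rcases eq_or_ne p 2 with rfl | hp2
  · -- four points
    left
    refine two_transitive_of_rank_two a₀ ?_
    haveI : Nontrivial α := Fintype.one_lt_card_iff_nontrivial.1 (by omega)
    set Q := MulAction.orbitRel.Quotient (MulAction.stabilizer G a₀) α
    haveI : Fintype Q := Fintype.ofFinite _
    obtain ⟨b, hb⟩ := exists_ne a₀
    have hQ2 : 2 ≤ Nat.card Q := by
      rw [Nat.card_eq_fintype_card]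
      refine Fintype.one_lt_card_iff.2 ⟨Quotient.mk'' a₀, Quotient.mk'' b, fun e => hb ?_⟩
      obtain ⟨t, ht⟩ := Quotient.eq''.1 e.symm
      exact ht.symm.trans t.2
    by_contra hQ
    obtain ⟨c, hc⟩ : ∃ c : α, (Quotient.mk'' c : Q) ≠ Quotient.mk'' a₀ ∧
        (Quotient.mk'' c : Q) ≠ Quotient.mk'' b := by
      by_contra hcon
      push Not at hcon
      have : (Finset.univ : Finset Q) ⊆ {Quotient.mk'' a₀, Quotient.mk'' b} := by
        intro q _
        induction q using Quotient.inductionOn' with
        | _ y =>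
          simp only [Finset.mem_insert, Finset.mem_singleton]
          by_cases h : (Quotient.mk'' y : Q) = Quotient.mk'' a₀
          · exact Or.inl h
          · exact Or.inr (hcon y h)
      have h3 := (Finset.card_le_card this).trans Finset.card_le_two
      rw [Finset.card_univ, ← Nat.card_eq_fintype_card] at h3
      omega
    have hca : c ≠ a₀ := fun e => hc.1 (by rw [e])
    have hlt : Nat.card Q < Nat.card α := by
      rcases (Nat.card_le_card_of_surjective (Quotient.mk'' : α → Q) Quotient.mk''_surjective).lt_or_eq with h | h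
      · exact h
      · exfalso
        -- the stabiliser fixes every point
        have hinj : Function.Injective (Quotient.mk'' : α → Q) :=
          ((Nat.bijective_iff_surjective_and_card _).2 ⟨Quotient.mk''_surjective, h.symm⟩).1
        have hfix : ∀ s ∈ MulAction.stabilizer G a₀, ∀ y : α, s • y = y := fun s hs y =>
          hinj (Quotient.eq''.2 ⟨⟨s, hs⟩, rfl⟩)
        have hbot : MulAction.stabilizer G a₀ = ⊥ := by
          rw [Subgroup.eq_bot_iff_forall]
          intro s hs
          exact eq_of_smul_eq_smul (α := α) fun y => by rw [hfix s hs y, one_smul]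
        have hco := MulAction.IsPreprimitive.isCoatom_stabilizer_of_isPreprimitive (G := G) a₀
        have hcard := MulAction.index_stabilizer_of_transitive G a₀
        rw [hbot, Subgroup.index_bot, Nat.card_eq_fintype_card (α := α), hα] at hcard
        rw [hbot] at hco
        obtain ⟨x, hx⟩ := exists_prime_orderOf_dvd_card' (G := G) 2 (by rw [hcard]; exact dvd_mul_right 2 2)
        rcases hco.le_iff.1 (bot_le (a := Subgroup.zpowers x)) with e | e
        · have h2 := Nat.card_zpowers x
          rw [e, hx, Subgroup.card_top, hcard] at h2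
          omega
        · have h2 := Nat.card_zpowers x
          rw [e, hx, Subgroup.card_bot] at h2
          omega
    have hb2 := Cfsg.Agent.S0719.two_le_orbit (G := G) a₀ b hb hlt
    have hc2 := Cfsg.Agent.S0719.two_le_orbit (G := G) a₀ c hca hlt
    rw [Nat.card_eq_fintype_card, ← Set.toFinset_card] at hb2 hc2
    have hdisj : Disjoint (MulAction.orbit (MulAction.stabilizer G a₀) b).toFinset
        (MulAction.orbit (MulAction.stabilizer G a₀) c).toFinset := by
      rw [Finset.disjoint_left]
      intro z hz hz'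
      rw [Set.mem_toFinset] at hz hz'
      exact hc.2 ((Quotient.eq''.2 hz').symm.trans (Quotient.eq''.2 hz))
    have hsub : (MulAction.orbit (MulAction.stabilizer G a₀) b).toFinset ∪
        (MulAction.orbit (MulAction.stabilizer G a₀) c).toFinset ⊆ Finset.univ.erase a₀ := by
      intro z hz
      rw [Finset.mem_union, Set.mem_toFinset, Set.mem_toFinset] at hz
      refine Finset.mem_erase.2 ⟨?_, Finset.mem_univ _⟩
      rintro rfl
      rcases hz with ⟨t, ht⟩ | ⟨t, ht⟩
      · exact hb (MulAction.injective (t : G) (ht.trans t.2.symm))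
      · exact hca (MulAction.injective (t : G) (ht.trans t.2.symm))
    have h3 := Finset.card_le_card hsub
    rw [Finset.card_union_of_disjoint hdisj, Finset.card_erase_of_mem (Finset.mem_univ _),
      Finset.card_univ, hα] at h3
    omega
  have hp3 : 3 ≤ p := by have := hp.two_le; omega
  by_cases hfree : ∀ x : G, orderOf x = p → ∀ a : α, x • a ≠ a
  · haveI : Fintype G := Fintype.ofFinite _
    rcases Cfsg.Agent.DegreeTwoP.main hp hp2 hα hfree a₀ with h | ⟨h, χ₁, χ₂, h₁, h₂, hπ, hd₁, hd₂⟩
    · exact Or.inl (two_transitive_of_rank_two a₀ h)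
    · exact Or.inr ⟨h, Cfsg.Agent.S0719.result hG hα a₀ h χ₁ χ₂ h₁ h₂ hπ hd₁ hd₂⟩
  -- an element of order `p` with a fixed point is a cycle
  left
  push Not at hfree
  obtain ⟨x, hx, a, hxa⟩ := hfree
  set σ : Equiv.Perm α := (x : Equiv.Perm α) with hσdef
  have hσ : orderOf σ = p := by rw [hσdef, Subgroup.orderOf_coe, hx]
  obtain ⟨n, hn⟩ := Equiv.Perm.cycleType_prime_order (σ := σ) (by rw [hσ]; exact hp)
  rw [hσ] at hn
  have hsum := Equiv.Perm.sum_cycleType σ
  rw [hn, Multiset.sum_replicate, smul_eq_mul] at hsum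
  have hlt : σ.support.card < 2 * p := by
    rw [← hα]
    refine Finset.card_lt_univ_of_notMem (x := a) ?_
    rw [Equiv.Perm.notMem_support]
    exact hxa
  have hn0 : n = 0 := by
    by_contra h
    have : 2 * p ≤ (n + 1) * p := Nat.mul_le_mul_right p (by omega)
    omega
  subst hn0
  have hcyc : σ.IsCycle := Equiv.Perm.card_cycleType_eq_one.1 (by rw [hn]; simp)
  have hsupp : σ.support.card = p := by omega
  have hA := Cfsg.Lib.Fusion.alternatingGroup_le_of_prime_cycle hG hp (by omega) hcyc hsupp x.2
  have h6 : 4 ≤ Nat.card α := by rw [Nat.card_eq_fintype_card, hα]; omega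
  haveI h2 : MulAction.IsMultiplyPretransitive (alternatingGroup α) α 2 :=
    have := alternatingGroup.isMultiplyPretransitive α
    MulAction.isMultiplyPretransitive_of_le (n := Nat.card α - 2) (G := alternatingGroup α) (α := α)
      (by omega) (Nat.sub_le _ _)
  rw [MulAction.is_two_pretransitive_iff] at h2 ⊢
  intro u v w z huv hwz
  obtain ⟨g, hg1, hg2⟩ := h2 huv hwz
  exact ⟨⟨g, hA g.2⟩, hg1, hg2⟩

end Cfsg.Agent.S0720
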