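import Cfsg.Statements.S0710
import Mathlib
import Cfsg.Agent.Lib.Fusion.DegreeThirteen

set_option autoImplicit false
open Cfsg

namespace Cfsg.Agent.S0710

/-- No transitive permutation group on 13 points has order `13 * 12 * 11 * 10 * 9 * 8`. -/
theorem result {α : Type*} [Fintype α] [DecidableEq α] (hα : Fintype.card α = 13) (G : Subgroup (Equiv.Perm α)) [MulAction.IsPretransitive G α] : Nat.card G ≠ 13 * 12 * 11 * 10 * 9 * 8 := by
  classical
  intro hc
  haveI : Fact (Nat.Prime 11) := ⟨by norm_num⟩
  obtain ⟨g', hg'⟩ := exists_prime_orderOf_dvd_card' (G := G) 11 (by rw [hc]; norm_num)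
  have hg : orderOf (g' : Equiv.Perm α) = 11 := by rw [Subgroup.orderOf_coe, hg']
  obtain ⟨hcy, hsc⟩ := Cfsg.Lib.Fusion.cycle_of_order_eleven hα hg
  have hA : (g' : Equiv.Perm α) ∈ alternatingGroup α := by
    rw [Equiv.Perm.mem_alternatingGroup, hcy.sign, hsc]; decide
  have hGprim : MulAction.IsPreprimitive G α :=
    MulAction.IsPreprimitive.of_prime_card (by rw [Nat.card_eq_fintype_card, hα]; norm_num)
  set N : Subgroup G := (alternatingGroup α).subgroupOf G
  haveI : N.Normal := Subgroup.Normal.subgroupOf inferInstance G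
  have hNne : MulAction.fixedPoints N α ≠ Set.univ := by
    intro h
    have hne : (g' : Equiv.Perm α) ≠ 1 := by intro h1; rw [h1, orderOf_one] at hg; norm_num at hg
    apply hne
    ext x
    exact (Set.eq_univ_iff_forall.1 h x) ⟨g', hA⟩
  haveI hNt : MulAction.IsPretransitive N α :=
    MulAction.IsQuasiPreprimitive.isPretransitive_of_normal hNne
  have hTt : MulAction.IsPretransitive (G ⊓ alternatingGroup α : Subgroup (Equiv.Perm α)) α := by
    constructor
    intro x y
    obtain ⟨n, hn⟩ := MulAction.exists_smul_eq N x y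
    exact ⟨⟨((n : G) : Equiv.Perm α), (n : G).2, n.2⟩, hn⟩
  have hTp : MulAction.IsPreprimitive (G ⊓ alternatingGroup α : Subgroup (Equiv.Perm α)) α :=
    MulAction.IsPreprimitive.of_prime_card (by rw [Nat.card_eq_fintype_card, hα]; norm_num)
  have hle := Cfsg.Lib.Fusion.alternatingGroup_le_of_degree_thirteen hα hTp inf_le_right hcy hsc ⟨g'.2, hA⟩
  haveI : Nontrivial α := Fintype.one_lt_card_iff_nontrivial.1 (by omega)
  have h1 := Subgroup.card_le_of_le (hle.trans inf_le_left)
  rw [hc, nat_card_alternatingGroup, Nat.card_eq_fintype_card, hα] at h1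
  norm_num [Nat.factorial] at h1

end Cfsg.Agent.S0710
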