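import Cfsg.Statements.S0736
import Mathlib

set_option autoImplicit false
open Cfsg
open scoped Pointwise

namespace Cfsg.Agent.S0736

/-- A `k`-homogeneous permutation group of degree `n`, `k ≥ 2`, with `k + q - 1 ≤ n` for every prime power `q` dividing `k`, is `(k-1)`-homogeneous. -/
theorem result {α : Type*} [Fintype α] [DecidableEq α] (G : Subgroup (Equiv.Perm α)) {k : ℕ} (hk : 2 ≤ k) (hG : MulAction.IsPretransitive G (Set.powersetCard α k)) (hq : ∀ q : ℕ, IsPrimePow q → q ∣ k → k + q - 1 ≤ Fintype.card α) : MulAction.IsPretransitive G (Set.powersetCard α (k - 1)) := by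
  classical
  constructor
  intro s₀ s₁
  let O : Finset (Finset α) := Finset.univ.filter fun s => ∃ g : G, g • (s₀ : Finset α) = s
  suffices hall : ∀ s : Finset α, s.card = k - 1 → s ∈ O by
    obtain ⟨g, hg⟩ := (Finset.mem_filter.1 (hall s₁ s₁.2)).2
    exact ⟨g, Subtype.ext hg⟩
  have hOcard : ∀ s ∈ O, s.card = k - 1 := by
    intro s hs
    obtain ⟨g, hg⟩ := (Finset.mem_filter.1 hs).2
    rw [← hg, Finset.card_smul_finset]; exact s₀.2
  have hOinv : ∀ (g : G) (s : Finset α), g • s ∈ O ↔ s ∈ O := by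
    intro g s
    simp only [O, Finset.mem_filter, Finset.mem_univ, true_and]
    constructor
    · rintro ⟨h, hh⟩; exact ⟨g⁻¹ * h, by rw [mul_smul, hh, inv_smul_smul]⟩
    · rintro ⟨h, hh⟩; exact ⟨g * h, by rw [mul_smul, hh]⟩
  have hs₀O : (s₀ : Finset α) ∈ O := Finset.mem_filter.2 ⟨Finset.mem_univ _, 1, one_smul _ _⟩
  have hkn : k ≤ Fintype.card α := by
    have hk1 : k ≠ 1 := by omega
    have := hq k.minFac (Nat.minFac_prime hk1).isPrimePow (Nat.minFac_dvd k)
    have := (Nat.minFac_prime hk1).two_le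
    omega
  obtain ⟨T₀, hT₀⟩ : ∃ T : Finset α, T.card = k := by
    obtain ⟨T, -, hT⟩ := Finset.exists_subset_card_eq (s := (Finset.univ : Finset α)) (n := k) (by simpa using hkn)
    exact ⟨T, hT⟩
  set c := (O.filter fun s => s ⊆ T₀).card with hcdef
  have hc : ∀ T : Finset α, T.card = k → (O.filter fun s => s ⊆ T).card = c := by
    intro T hT
    obtain ⟨g, hg⟩ := hG.exists_smul_eq (⟨T₀, hT₀⟩ : Set.powersetCard α k) ⟨T, hT⟩
    have hg' : g • T₀ = T := congrArg Subtype.val hg
    symm
    refine Finset.card_bij (fun s _ => g • s) ?_ ?_ ?_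
    · intro s hs
      obtain ⟨h1, h2⟩ := Finset.mem_filter.1 hs
      exact Finset.mem_filter.2 ⟨(hOinv g s).2 h1, hg' ▸ Finset.smul_finset_subset_smul_finset h2⟩
    · intro a _ b _ h; exact MulAction.injective g h
    · intro s hs
      obtain ⟨h1, h2⟩ := Finset.mem_filter.1 hs
      refine ⟨g⁻¹ • s, Finset.mem_filter.2 ⟨(hOinv g⁻¹ s).2 h1, ?_⟩, smul_inv_smul g s⟩
      rw [← inv_smul_smul g T₀, hg']
      exact Finset.smul_finset_subset_smul_finset h2
  -- double counting inside a set `u`
  have count : ∀ u : Finset α, (O.filter fun s => s ⊆ u).card * (u.card - (k - 1)) = u.card.choose k * c := by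
    intro u
    have h := Finset.sum_card_bipartiteAbove_eq_sum_card_bipartiteBelow (fun s T : Finset α => s ⊆ T)
      (s := O.filter fun s => s ⊆ u) (t := u.powersetCard k)
    have hl : ∀ s ∈ O.filter (fun s => s ⊆ u),
        ((u.powersetCard k).bipartiteAbove (fun s T : Finset α => s ⊆ T) s).card = u.card - (k - 1) := by
      intro s hs
      obtain ⟨h1, h2⟩ := Finset.mem_filter.1 hs
      have h3 := hOcard s h1
      rw [← h3, ← Finset.card_sdiff_of_subset h2]
      symm
      refine Finset.card_bij (fun x _ => insert x s) ?_ ?_ ?_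
      · intro x hx
        obtain ⟨hxu, hxs⟩ := Finset.mem_sdiff.1 hx
        simp only [Finset.bipartiteAbove, Finset.mem_filter, Finset.mem_powersetCard]
        exact ⟨⟨Finset.insert_subset hxu h2, by rw [Finset.card_insert_of_notMem hxs]; omega⟩, Finset.subset_insert _ _⟩
      · intro a ha b hb h
        exact Finset.insert_inj (Finset.mem_sdiff.1 ha).2 |>.1 h
      · intro T hT
        simp only [Finset.bipartiteAbove, Finset.mem_filter, Finset.mem_powersetCard] at hT
        obtain ⟨⟨hTu, hTc⟩, hsT⟩ := hT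
        have hd : (T \ s).card = 1 := by rw [Finset.card_sdiff_of_subset hsT]; omega
        obtain ⟨x, hx⟩ := Finset.card_eq_one.1 hd
        have hx' : x ∈ T \ s := hx ▸ Finset.mem_singleton_self x
        obtain ⟨hxT, hxs⟩ := Finset.mem_sdiff.1 hx'
        refine ⟨x, Finset.mem_sdiff.2 ⟨hTu hxT, hxs⟩, ?_⟩
        rw [← Finset.union_sdiff_of_subset hsT, hx, Finset.union_comm]
        rfl
    have hr : ∀ T ∈ u.powersetCard k,
        ((O.filter fun s => s ⊆ u).bipartiteBelow (fun s T : Finset α => s ⊆ T) T).card = c := by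
      intro T hT
      obtain ⟨hTu, hTc⟩ := Finset.mem_powersetCard.1 hT
      rw [← hc T hTc]
      congr 1
      ext s
      simp only [Finset.bipartiteBelow, Finset.mem_filter]
      exact ⟨fun h => ⟨h.1.1, h.2⟩, fun h => ⟨⟨h.1, h.2.trans hTu⟩, h.2⟩⟩
    rw [Finset.sum_congr rfl hl, Finset.sum_congr rfl hr, Finset.sum_const, Finset.sum_const,
      Finset.card_powersetCard, smul_eq_mul, smul_eq_mul] at h
    exact h
  have hdvd : k ∣ c := by
    rw [Nat.dvd_iff_prime_pow_dvd_dvd]
    intro p e hp hpe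
    rcases Nat.eq_zero_or_pos e with rfl | he
    · simp
    haveI : Fact p.Prime := ⟨hp⟩
    have hq1 := hq (p ^ e) (hp.isPrimePow.pow he.ne') hpe
    obtain ⟨u, -, hu⟩ := Finset.exists_subset_card_eq (s := (Finset.univ : Finset α)) (n := k + p ^ e - 1) (by simpa using hq1)
    have h1 := count u
    rw [hu, show k + p ^ e - 1 - (k - 1) = p ^ e by have := Nat.one_le_pow e p hp.pos; omega] at h1
    have hlucas : ∀ (e m : ℕ), (m * p ^ e + (p ^ e - 1)).choose (p ^ e - 1) ≡ 1 [MOD p] := by
      intro e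
      induction e with
      | zero => intro m; simp [Nat.ModEq.refl]
      | succ e ih =>
        intro m
        refine (Choose.choose_modEq_choose_mod_mul_choose_div_nat).trans ?_
        have hP : 1 ≤ p ^ e := Nat.one_le_pow e p hp.pos
        have e1 : p ^ (e + 1) - 1 = (p - 1) + p * (p ^ e - 1) := by
          rw [Nat.mul_sub_one, pow_succ, mul_comm (p ^ e) p]
          have : p ≤ p * p ^ e := Nat.le_mul_of_pos_right p hP
          have := hp.pos
          omega
        have e2 : m * p ^ (e + 1) + (p ^ (e + 1) - 1) = (p - 1) + p * (m * p ^ e + (p ^ e - 1)) := by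
          rw [e1]; ring
        rw [e2, e1, Nat.add_mul_mod_self_left, Nat.add_mul_mod_self_left, Nat.mod_eq_of_lt (Nat.sub_lt hp.pos one_pos),
          Nat.choose_self, Nat.add_mul_div_left _ _ hp.pos, Nat.add_mul_div_left _ _ hp.pos,
          Nat.div_eq_of_lt (Nat.sub_lt hp.pos one_pos), zero_add, zero_add, one_mul]
        exact ih m
    obtain ⟨m, hm⟩ := hpe
    have h2 : (k + p ^ e - 1).choose k ≡ 1 [MOD p] := by
      have hsym := Nat.choose_symm (n := k + p ^ e - 1) (k := k) (by have := Nat.one_le_pow e p hp.pos; omega)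
      rw [← hsym, show k + p ^ e - 1 - k = p ^ e - 1 by omega,
        show k + p ^ e - 1 = m * p ^ e + (p ^ e - 1) by rw [hm, mul_comm]; have := Nat.one_le_pow e p hp.pos; omega]
      exact hlucas e m
    have hcop : Nat.Coprime (p ^ e) ((k + p ^ e - 1).choose k) := by
      apply Nat.Coprime.pow_left
      rw [hp.coprime_iff_not_dvd]
      intro h
      have h3 := (Nat.modEq_zero_iff_dvd.2 h).symm.trans h2
      rw [Nat.ModEq, Nat.zero_mod, Nat.one_mod_eq_one.2 hp.one_lt.ne'] at h3
      exact zero_ne_one h3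
    exact hcop.dvd_of_dvd_mul_left ⟨_, h1.symm.trans (mul_comm _ _)⟩
  have ext_k : ∀ s : Finset α, s.card = k - 1 → ∃ T : Finset α, T.card = k ∧ s ⊆ T := by
    intro s hs
    obtain ⟨T, hT1, hT2⟩ := Finset.exists_superset_card_eq (s := s) (n := k) (by omega) hkn
    exact ⟨T, hT2, hT1⟩
  have hle : ∀ T : Finset α, (O.filter fun s => s ⊆ T) ⊆ T.powersetCard (k - 1) := fun T s hs =>
    Finset.mem_powersetCard.2 ⟨(Finset.mem_filter.1 hs).2, hOcard s (Finset.mem_filter.1 hs).1⟩
  have hck : c = k := by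
    have h1 : c ≤ k := by
      have := Finset.card_le_card (hle T₀)
      rw [Finset.card_powersetCard, hT₀, ← Nat.choose_symm (by omega), show k - (k - 1) = 1 by omega, Nat.choose_one_right] at this
      exact this
    have h2 : c ≠ 0 := by
      obtain ⟨T, hT, hsT⟩ := ext_k _ s₀.2
      rw [← hc T hT]
      exact Finset.card_ne_zero.2 ⟨_, Finset.mem_filter.2 ⟨hs₀O, hsT⟩⟩
    exact le_antisymm h1 (Nat.le_of_dvd (by omega) hdvd)
  intro s hs
  obtain ⟨T, hT, hsT⟩ := ext_k s hs
  have he : (O.filter fun s => s ⊆ T) = T.powersetCard (k - 1) := by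
    refine Finset.eq_of_subset_of_card_le (hle T) ?_
    rw [hc T hT, hck, Finset.card_powersetCard, hT, ← Nat.choose_symm (by omega), show k - (k - 1) = 1 by omega, Nat.choose_one_right]
  exact (Finset.mem_filter.1 (he ▸ Finset.mem_powersetCard.2 ⟨hsT, hs⟩ : s ∈ O.filter fun s => s ⊆ T)).1

end Cfsg.Agent.S0736
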