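import Cfsg.Statements.S0695
import Mathlib

set_option autoImplicit false
open Cfsg
open scoped Pointwise

namespace Cfsg.Agent.S0695

/-- A regular normal subgroup of a doubly primitive group of finite degree at least 2 is an elementary abelian 2-group (and the degree is a power of 2), unless the degree is 3. -/
theorem result {G : Type*} [Group G] {X : Type*} [Fintype X] [MulAction G X] (hX : 2 ≤ Fintype.card X) (h2 : MulAction.IsMultiplyPreprimitive G X 2) (N : Subgroup G) [N.Normal] (htrans : MulAction.IsPretransitive N X) (hreg : ∀ x : X, MulAction.stabilizer N x = ⊥) : Fintype.card X = 3 ∨ (IsMulCommutative N ∧ (∀ n ∈ N, n ^ 2 = 1) ∧ ∃ m : ℕ, Fintype.card X = 2 ^ m) := by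
  classical
  haveI := h2.isMultiplyPretransitive
  haveI hGt : MulAction.IsPretransitive G X := MulAction.isPretransitive_of_is_two_pretransitive
  obtain ⟨a⟩ : Nonempty X := Fintype.card_pos_iff.1 (by omega)
  haveI hp1 : MulAction.IsMultiplyPreprimitive (MulAction.stabilizer G a) (SubMulAction.ofStabilizer G a) 1 :=
    @MulAction.isMultiplyPreprimitive_ofStabilizer G X _ _ hGt 1 a h2
  haveI hprim : MulAction.IsPreprimitive (MulAction.stabilizer G a) (SubMulAction.ofStabilizer G a) :=
    (MulAction.is_one_preprimitive_iff _ _).1 hp1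
  let e : N ≃ X := Equiv.ofBijective (fun n => n • a) ⟨fun m n h => by
    have : n⁻¹ * m ∈ MulAction.stabilizer N a := by simp [MulAction.mem_stabilizer_iff, mul_smul, show m • a = n • a from h]
    rw [hreg a, Subgroup.mem_bot, inv_mul_eq_one] at this
    exact this.symm, fun x => htrans.exists_smul_eq a x⟩
  haveI : Finite N := Finite.of_equiv X e.symm
  have hcard : Nat.card N = Fintype.card X := by rw [Nat.card_congr e, Nat.card_eq_fintype_card]
  have hcn : ∀ (g : G) (n : N), g ∈ MulAction.stabilizer G a → g * n * g⁻¹ ∈ N ∧ g • e n = (g * n * g⁻¹) • a := by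
    intro g n hg
    refine ⟨Subgroup.Normal.conj_mem inferInstance _ n.2 g, ?_⟩
    show g • ((n : G) • a) = _
    have hg' : g⁻¹ • a = a := (MulAction.stabilizer G a).inv_mem hg
    rw [mul_smul, mul_smul, hg']
  have hne : ∀ n : N, n ≠ 1 → e n ∈ SubMulAction.ofStabilizer G a := by
    intro n hn h
    exact hn (e.injective (show e n = e 1 from (Set.mem_singleton_iff.1 h).trans (one_smul N a).symm))
  have conjAll : ∀ n m : N, n ≠ 1 → m ≠ 1 → ∃ g : G, g * (n : G) * g⁻¹ = m := by
    intro n m hn hm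
    obtain ⟨g, hg⟩ := hprim.exists_smul_eq ⟨e n, hne n hn⟩ ⟨e m, hne m hm⟩
    refine ⟨g, ?_⟩
    have h1 : (g : G) • e n = e m := congrArg Subtype.val hg
    obtain ⟨h3, h4⟩ := hcn g n g.2
    have : e ⟨(g : G) * n * (g : G)⁻¹, h3⟩ = e m := by rw [← h1, h4]; rfl
    exact congrArg Subtype.val (e.injective this)
  obtain ⟨n₀, hn₀⟩ : ∃ n : N, n ≠ 1 := by
    haveI : Nontrivial N := Finite.one_lt_card_iff_nontrivial.1 (by omega)
    exact exists_ne 1
  obtain ⟨p, hp, hpd⟩ := Nat.exists_prime_and_dvd (n := Nat.card N) (by omega)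
  haveI : Fact p.Prime := ⟨hp⟩
  obtain ⟨y, hy⟩ := exists_prime_orderOf_dvd_card' (G := N) p hpd
  have hy1 : y ≠ 1 := by intro h; rw [h, orderOf_one] at hy; exact hp.one_lt.ne hy
  have hpow : ∀ n : N, n ^ p = 1 := by
    intro n
    by_cases hn : n = 1
    · rw [hn, one_pow]
    obtain ⟨g, hg⟩ := conjAll y n hy1 hn
    apply Subtype.ext
    rw [SubmonoidClass.coe_pow, ← hg, conj_pow, ← SubmonoidClass.coe_pow, ← hy, pow_orderOf_eq_one]
    simp
  have hpg : IsPGroup p N := fun n => ⟨1, by rw [pow_one]; exact hpow n⟩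
  have hab : IsMulCommutative N := by
    haveI : Nontrivial N := ⟨⟨n₀, 1, hn₀⟩⟩
    haveI := hpg.center_nontrivial
    obtain ⟨⟨z, hz⟩, hz1⟩ := exists_ne (1 : Subgroup.center N)
    have hz1' : z ≠ 1 := fun h => hz1 (Subtype.ext h)
    refine ⟨⟨fun m k => ?_⟩⟩
    by_cases hm : m = 1
    · simp [hm]
    obtain ⟨g, hg⟩ := conjAll z m hz1' hm
    have hk : g⁻¹ * (k : G) * g ∈ N := by simpa using Subgroup.Normal.conj_mem inferInstance _ k.2 g⁻¹
    have := congrArg (fun x : N => g * (x : G) * g⁻¹) (Subgroup.mem_center_iff.1 hz ⟨_, hk⟩)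
    apply Subtype.ext
    show (m : G) * k = k * m
    rw [← hg]
    simp only [Subgroup.coe_mul] at this
    simp only [mul_assoc] at this ⊢
    simpa using this.symm
  by_cases hp2 : p = 2
  · subst hp2
    right
    refine ⟨hab, fun n hn => by simpa using congrArg Subtype.val (hpow ⟨n, hn⟩), ?_⟩
    obtain ⟨m, hm⟩ := IsPGroup.iff_card.1 hpg
    exact ⟨m, by rw [← hcard, hm]⟩
  · left
    have hinv : n₀⁻¹ ≠ n₀ := by
      intro h
      have h2' : n₀ ^ 2 = 1 := by rw [pow_two]; nth_rewrite 2 [← h]; exact mul_inv_cancel n₀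
      have := orderOf_eq_prime h2' hn₀
      rw [orderOf_eq_prime (hpow n₀) hn₀] at this
      exact hp2 this
    let B : Set (SubMulAction.ofStabilizer G a) := {x | (x : X) = e n₀ ∨ (x : X) = e n₀⁻¹}
    have hB : MulAction.IsBlock (MulAction.stabilizer G a) B := by
      rw [MulAction.isBlock_iff_smul_eq_of_nonempty]
      rintro ⟨g, hg⟩ ⟨_, ⟨x, hx, rfl⟩, hgx⟩
      obtain ⟨h3, h4⟩ := hcn g n₀ hg
      obtain ⟨h5, h6⟩ := hcn g n₀⁻¹ hg
      have eg : g • e n₀ = e ⟨_, h3⟩ := h4
      have eg' : g • e n₀⁻¹ = e ⟨_, h3⟩⁻¹ := by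
        rw [h6]
        show _ = ((⟨_, h3⟩⁻¹ : N) : G) • a
        congr 1
        simp [mul_assoc]
      have key : g * (n₀ : G) * g⁻¹ = n₀ ∨ g * (n₀ : G) * g⁻¹ = ((n₀⁻¹ : N) : G) := by
        rcases hx with hx | hx <;> rcases hgx with hgx | hgx <;>
          (have hgx' : g • (x : X) = _ := hgx; rw [hx] at hgx')
        · rw [eg] at hgx'; exact Or.inl (congrArg Subtype.val (e.injective hgx'))
        · rw [eg] at hgx'; exact Or.inr (congrArg Subtype.val (e.injective hgx'))
        · rw [eg'] at hgx'; exact Or.inr (congrArg Subtype.val (inv_eq_iff_eq_inv.1 (e.injective hgx')))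
        · rw [eg'] at hgx'; exact Or.inl (congrArg Subtype.val (inv_injective (e.injective hgx')))
      have hpres : ∀ z ∈ B, (⟨g, hg⟩ : MulAction.stabilizer G a) • z ∈ B := by
        intro z hz
        show g • (z : X) = _ ∨ g • (z : X) = _
        rcases key with k | k
        · have : (⟨_, h3⟩ : N) = n₀ := Subtype.ext k
          rcases hz with hz | hz <;> rw [hz]
          · left; rw [eg, this]
          · right; rw [eg', this]
        · have : (⟨_, h3⟩ : N) = n₀⁻¹ := Subtype.ext k
          rcases hz with hz | hz <;> rw [hz]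
          · right; rw [eg, this]
          · left; rw [eg', this, inv_inv]
      exact Set.eq_of_subset_of_ncard_le (Set.image_subset_iff.2 hpres)
        (by rw [Set.ncard_smul_set]) (Set.toFinite _)
    have hn₀' : n₀⁻¹ ≠ 1 := inv_ne_one.2 hn₀
    rcases hB.subsingleton_or_eq_univ with h | h
    · exfalso
      have m1 : (⟨e n₀, hne n₀ hn₀⟩ : SubMulAction.ofStabilizer G a) ∈ B := Or.inl rfl
      have m2 : (⟨e n₀⁻¹, hne _ hn₀'⟩ : SubMulAction.ofStabilizer G a) ∈ B := Or.inr rfl
      exact hinv (e.injective (congrArg Subtype.val (h m2 m1)))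
    · have hu : (Finset.univ : Finset X) ⊆ {a, e n₀, e n₀⁻¹} := by
        intro x _
        by_cases hx : x = a
        · simp [hx]
        have := (Set.eq_univ_iff_forall.1 h) ⟨x, hx⟩
        simp only [Finset.mem_insert, Finset.mem_singleton]
        exact Or.inr this
      have h3 := Finset.card_le_card hu
      rw [Finset.card_univ] at h3
      have h4 : ({a, e n₀, e n₀⁻¹} : Finset X).card ≤ 3 := Finset.card_le_three
      have h5 : 3 ≤ Fintype.card X := by
        rw [← hcard]
        by_contra hlt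
        have h2c : Nat.card N = 2 := by omega
        have := (Nat.prime_dvd_prime_iff_eq hp Nat.prime_two).1 (h2c ▸ hpd)
        exact hp2 this
      omega

end Cfsg.Agent.S0695
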