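import Cfsg.Statements.S0696
import Mathlib
import Cfsg.Agent.S0695

set_option autoImplicit false
open Cfsg
open scoped Pointwise

namespace Cfsg.Agent.S0696

/-- A triply primitive group of degree at least 3 having a regular normal subgroup has degree 3 or 4. -/
theorem result {G : Type*} [Group G] {X : Type*} [Fintype X] [MulAction G X] (hX : 3 ≤ Fintype.card X) (h3 : MulAction.IsMultiplyPreprimitive G X 3) (N : Subgroup G) [N.Normal] (htrans : MulAction.IsPretransitive N X) (hreg : ∀ x : X, MulAction.stabilizer N x = ⊥) : Fintype.card X = 3 ∨ Fintype.card X = 4 := by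
  classical
  haveI := h3.isMultiplyPretransitive
  have hc2 : ((2 : ℕ) : ENat) ≤ ENat.card X := by rw [ENat.card_eq_coe_fintype_card, Nat.cast_le]; omega
  have h2 : MulAction.IsMultiplyPreprimitive G X 2 :=
    MulAction.isMultiplyPreprimitive_of_le G X h3 (by norm_num) (by rw [ENat.card_eq_coe_fintype_card, Nat.cast_le]; omega)
  rcases Cfsg.Agent.S0695.result (by omega) h2 N htrans hreg with h | ⟨hab, hexp, -⟩
  · exact Or.inl h
  by_cases hX3 : Fintype.card X = 3
  · exact Or.inl hX3
  right
  obtain ⟨a⟩ : Nonempty X := Fintype.card_pos_iff.1 (by omega)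
  let e : N ≃ X := Equiv.ofBijective (fun n => n • a) ⟨fun m n h => by
    have : n⁻¹ * m ∈ MulAction.stabilizer N a := by simp [MulAction.mem_stabilizer_iff, mul_smul, show m • a = n • a from h]
    rw [hreg a, Subgroup.mem_bot, inv_mul_eq_one] at this
    exact this.symm, fun x => htrans.exists_smul_eq a x⟩
  have e1 : e 1 = a := one_smul N a
  obtain ⟨b, hb⟩ : ∃ b, b ≠ a := Fintype.exists_ne_of_one_lt_card (by omega) a
  obtain ⟨n, rfl⟩ : ∃ n, e n = b := e.surjective b
  have hn1 : n ≠ 1 := fun h => hb (h ▸ e1)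
  obtain ⟨c, hca, hcb⟩ : ∃ c, c ≠ a ∧ c ≠ e n := by
    by_contra hcon
    have hsub : (Finset.univ : Finset X) ⊆ {a, e n} := fun c _ => by
      by_contra hc'; simp at hc'; exact hcon ⟨c, hc'.1, hc'.2⟩
    have := Finset.card_le_card hsub
    rw [Finset.card_univ, Finset.card_pair (Ne.symm hb)] at this
    omega
  obtain ⟨m, rfl⟩ : ∃ m, e m = c := e.surjective c
  have hm1 : m ≠ 1 := fun h => hca (h ▸ e1)
  have hmn : m ≠ n := fun h => hcb (h ▸ rfl)
  have hsq : ∀ u : N, u * u = 1 := fun u => Subtype.ext (by simpa [pow_two] using hexp u u.2)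
  haveI hprim : MulAction.IsPreprimitive (fixingSubgroup G ({a, e n} : Set X)) (SubMulAction.ofFixingSubgroup G ({a, e n} : Set X)) :=
    MulAction.IsMultiplyPreprimitive.isPreprimitive_ofFixingSubgroup G 3 (by rw [Set.encard_pair (Ne.symm hb)]; rfl)
  have hnm1 : n * m ≠ 1 := fun h => hmn (by rw [eq_inv_of_mul_eq_one_right h]; exact inv_eq_of_mul_eq_one_left (hsq n))
  have mem : ∀ u : N, u ≠ 1 → u ≠ n → e u ∈ SubMulAction.ofFixingSubgroup G ({a, e n} : Set X) := by
    intro u h1 h2 hmem
    rcases hmem with h | h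
    · exact h1 (e.injective (h.trans e1.symm))
    · exact h2 (e.injective h)
  let B : Set (SubMulAction.ofFixingSubgroup G ({a, e n} : Set X)) := {x | (x : X) = e m ∨ (x : X) = e (n * m)}
  have hB : MulAction.IsBlock (fixingSubgroup G ({a, e n} : Set X)) B := by
    rw [MulAction.isBlock_iff_smul_eq_of_nonempty]
    rintro ⟨g, hg⟩ ⟨_, ⟨x, hx, rfl⟩, hgx⟩
    have hga : g • a = a := (mem_fixingSubgroup_iff G).1 hg a (by simp)
    have hgn : g • e n = e n := (mem_fixingSubgroup_iff G).1 hg (e n) (by simp)
    let φ : N → N := fun u => ⟨g * u * g⁻¹, Subgroup.Normal.conj_mem inferInstance _ u.2 g⟩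
    have hge : ∀ u, g • e u = e (φ u) := by
      intro u
      show g • ((u : G) • a) = (g * u * g⁻¹) • a
      rw [mul_smul, mul_smul]
      congr 2
      rw [eq_inv_smul_iff, hga]
    have hφn : φ n = n := e.injective (by rw [← hge, hgn])
    have hφm : ∀ u, φ (n * u) = n * φ u := by
      intro u
      conv_rhs => rw [← hφn]
      apply Subtype.ext
      simp [φ, mul_assoc]
    have key : φ m = m ∨ φ m = n * m := by
      rcases hx with hx | hx <;> rcases hgx with hgx | hgx <;>
        (have hgx' : g • (x : X) = _ := hgx; rw [hx, hge] at hgx')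
      · exact Or.inl (e.injective hgx')
      · exact Or.inr (e.injective hgx')
      · right
        have := congrArg (n * ·) (e.injective hgx')
        simp only [hφm, ← mul_assoc, hsq, one_mul] at this
        exact this
      · left
        have := e.injective hgx'
        rw [hφm] at this
        exact mul_left_cancel this
    have hpres : ∀ z ∈ B, (⟨g, hg⟩ : fixingSubgroup G ({a, e n} : Set X)) • z ∈ B := by
      intro z hz
      show g • (z : X) = _ ∨ g • (z : X) = _
      rcases key with k | k <;> rcases hz with hz | hz <;> rw [hz, hge]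
      · left; rw [k]
      · right; rw [hφm, k]
      · right; rw [k]
      · left; rw [hφm, k, ← mul_assoc, hsq, one_mul]
    exact Set.eq_of_subset_of_ncard_le (Set.image_subset_iff.2 hpres) (by rw [Set.ncard_smul_set]) (Set.toFinite _)
  have hnmn : n * m ≠ n := fun h => hm1 (mul_eq_left.1 h)
  rcases hB.subsingleton_or_eq_univ with h | h
  · exfalso
    have m1 : (⟨e m, mem m hm1 hmn⟩ : SubMulAction.ofFixingSubgroup G ({a, e n} : Set X)) ∈ B := Or.inl rfl
    have m2 : (⟨e (n * m), mem _ hnm1 hnmn⟩ : SubMulAction.ofFixingSubgroup G ({a, e n} : Set X)) ∈ B := Or.inr rfl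
    exact hn1 (mul_eq_right.1 (e.injective (congrArg Subtype.val (h m1 m2))).symm)
  · have hu : (Finset.univ : Finset X) = {a, e n, e m, e (n * m)} := by
      symm
      apply Finset.eq_univ_of_forall
      intro x
      simp only [Finset.mem_insert, Finset.mem_singleton]
      by_cases hxa : x = a
      · exact Or.inl hxa
      by_cases hxb : x = e n
      · exact Or.inr (Or.inl hxb)
      exact Or.inr (Or.inr ((Set.eq_univ_iff_forall.1 h) ⟨x, by rintro (h | h); exacts [hxa h, hxb h]⟩))
    rw [← Finset.card_univ, hu]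
    have i1 : a ≠ e n := Ne.symm hb
    have i2 : a ≠ e m := Ne.symm hca
    have i3 : a ≠ e (n * m) := fun h => hnm1 (e.injective (h.symm.trans e1.symm))
    have i4 : e n ≠ e m := Ne.symm hcb
    have i5 : e n ≠ e (n * m) := fun h => hnmn (e.injective h).symm
    have i6 : e m ≠ e (n * m) := fun h => hn1 (mul_eq_right.1 (e.injective h).symm)
    rw [Finset.card_insert_of_notMem (by simp [i1, i2, i3]), Finset.card_insert_of_notMem (by simp [i4, i5]), Finset.card_pair i6]

end Cfsg.Agent.S0696
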