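import Cfsg.Statements.S0672
import Mathlib

set_option autoImplicit false
open Cfsg

namespace Cfsg.Agent.S0672

/-- Let a finite group act faithfully and doubly transitively with point stabilisers of even order, and let `K` have characteristic `p` dividing the degree. If the heart of the permutation module admits no non-zero equivariant map to the permutation module on unordered pairs (phrased: every intertwining map from the sum-zero functions vanishing on the constants is zero), the action is triply transitive. -/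
theorem result {G : Type*} [Group G] [Finite G] {K : Type*} [Field K] {p : ℕ} [Fact p.Prime] [CharP K p] {Ω : Type*} [Fintype Ω] [DecidableEq Ω] [MulAction G Ω] [FaithfulSMul G Ω] (h2 : MulAction.IsMultiplyPretransitive G Ω 2) (hp : p ∣ Fintype.card Ω) (heven : ∀ a : Ω, Even (Nat.card (MulAction.stabilizer G a))) (h : ∀ f : Representation.IntertwiningMap (Cfsg.permSumZero K G Ω).toRepresentation (Cfsg.permRep K G (Set.powersetCard Ω 2)), (∀ v : (Cfsg.permSumZero K G Ω).toSubmodule, (v : Ω → K) ∈ (Cfsg.permConstants K G Ω).toSubmodule → f v = 0) → f = 0) : MulAction.IsMultiplyPretransitive G Ω 3 := by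
  classical
  have hswap : ∀ a b : Ω, a ≠ b → ∃ g : G, g • a = b ∧ g • b = a := fun a b hab => by
    obtain ⟨g, h1, h2⟩ := (MulAction.is_two_pretransitive_iff.mp h2) hab hab.symm
    exact ⟨g, h1, h2⟩
  -- the setwise stabiliser of a pair is transitive on the other points
  have hset : ∀ a b c d : Ω, a ≠ b → c ≠ a → c ≠ b → d ≠ a → d ≠ b →
      ∃ g : G, ({g • a, g • b} : Finset Ω) = {a, b} ∧ g • c = d := by
    intro a b c d hab hca hcb hda hdb
    by_contra hcon
    push Not at hcon
    let P : Set.powersetCard Ω 2 := ⟨{a, b}, Finset.card_pair hab⟩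
    set m : K := ((Finset.univ.filter fun y => ∃ g : G, g • P = P ∧ g • c = y).card : K) with hm
    obtain ⟨c₁, c₂, hcc, hsum⟩ : ∃ c₁ c₂ : K, (c₁ ≠ 0 ∨ c₂ ≠ 0) ∧ c₁ * m + c₂ * 2 = 0 := by
      by_cases h0 : m = 0
      · exact ⟨1, 0, Or.inl one_ne_zero, by rw [h0]; ring⟩
      · exact ⟨2, -m, Or.inr (neg_ne_zero.mpr h0), by ring⟩
    let w : Set.powersetCard Ω 2 → Ω → K := fun s y =>
      if ∃ g : G, g • P = s ∧ g • c = y then c₁ else if y ∈ (s : Finset Ω) then c₂ else 0
    have hPP : ∀ g : G, g • P = P → ({g • a, g • b} : Finset Ω) = {a, b} := fun g hg => by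
      have := congrArg (fun s : Set.powersetCard Ω 2 => (s : Finset Ω)) hg
      simpa [Set.powersetCard.coe_smul, P, Finset.smul_finset_insert] using this
    have hw : ∀ (g : G) s y, w (g • s) (g • y) = w s y := by
      intro g s y
      simp only [w]
      have e : (∃ k : G, k • P = g • s ∧ k • c = g • y) ↔ ∃ k : G, k • P = s ∧ k • c = y := by
        constructor
        · rintro ⟨k, h1, h2⟩
          exact ⟨g⁻¹ * k, by rw [mul_smul, h1, inv_smul_smul], by rw [mul_smul, h2, inv_smul_smul]⟩
        · rintro ⟨k, h1, h2⟩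
          exact ⟨g * k, by rw [mul_smul, h1], by rw [mul_smul, h2]⟩
      simp only [e, Set.powersetCard.coe_smul, Finset.smul_mem_smul_finset_iff]
    have hdisj : ∀ g : G, g • P = P → g • c ∉ ({a, b} : Finset Ω) := by
      intro g hg hmem
      rw [← hPP g hg] at hmem
      simp only [Finset.mem_insert, Finset.mem_singleton, smul_left_cancel_iff] at hmem
      tauto
    let F : Representation.IntertwiningMap (Cfsg.permSumZero K G Ω).toRepresentation
        (Cfsg.permRep K G (Set.powersetCard Ω 2)) :=
      { toFun := fun v s => ∑ y, w s y * (v : Ω → K) y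
        map_add' := fun u v => by
          funext s; simp only [Submodule.coe_add, Pi.add_apply, mul_add, Finset.sum_add_distrib]
        map_smul' := fun t v => by
          funext s
          simp only [Submodule.coe_smul, Pi.smul_apply, smul_eq_mul, Finset.mul_sum, RingHom.id_apply]
          exact Finset.sum_congr rfl fun y _ => by ring
        isIntertwining' := fun g => by
          ext v s
          show ∑ y, w s y * (v : Ω → K) (g⁻¹ • y) = ∑ y, w (g⁻¹ • s) y * (v : Ω → K) y
          refine Fintype.sum_equiv (MulAction.toPerm g⁻¹) _ _ fun y => ?_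
          rw [MulAction.toPerm_apply, hw] }
    have hF : ∀ v s, F v s = ∑ y, w s y * (v : Ω → K) y := fun v s => rfl
    have hconst : ∀ s, ∑ y, w s y = 0 := by
      intro s
      obtain ⟨x, z, hxz, hs⟩ := Finset.card_eq_two.mp (Set.powersetCard.mem_iff.mp s.2)
      obtain ⟨g, h1, h2'⟩ := (MulAction.is_two_pretransitive_iff.mp h2) hab hxz
      have hgs : g • P = s := Subtype.ext (by
        rw [Set.powersetCard.coe_smul, hs]
        simp [P, Finset.smul_finset_insert, h1, h2'])
      rw [← hgs, Fintype.sum_equiv (MulAction.toPerm g⁻¹) (fun y => w (g • P) y) (fun y => w P y)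
        (fun y => by rw [MulAction.toPerm_apply, ← hw g P (g⁻¹ • y), smul_inv_smul])]
      have e : ∀ y, w P y = (if ∃ k : G, k • P = P ∧ k • c = y then c₁ else 0) +
          (if y ∈ ({a, b} : Finset Ω) then c₂ else 0) := by
        intro y
        simp only [w, P]
        by_cases hy : ∃ k : G, k • P = P ∧ k • c = y
        · obtain ⟨k, hk, rfl⟩ := hy
          rw [if_pos ⟨k, hk, rfl⟩, if_pos ⟨k, hk, rfl⟩, if_neg (hdisj k hk), add_zero]
        · rw [if_neg hy, if_neg hy, zero_add]
      simp only [e, Finset.sum_add_distrib, Finset.sum_ite, Finset.sum_const, nsmul_eq_mul,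
        Finset.filter_mem_eq_inter, Finset.univ_inter, Finset.card_pair hab]
      simp only [mul_zero, add_zero]
      rw [← hsum, hm]; push_cast; ring
    have hF0 := h F (fun v hv => by
      funext s
      rw [hF]
      obtain ⟨t, ht⟩ := Submodule.mem_span_singleton.mp hv
      rw [← ht]
      simp only [Pi.smul_apply, smul_eq_mul, mul_one, ← Finset.sum_mul]
      rw [hconst, zero_mul]; rfl)
    have key : ∀ x y : Ω, w P x = w P y := by
      intro x y
      rcases eq_or_ne x y with rfl | hxy
      · rfl
      have hv : (Pi.single x 1 - Pi.single y 1 : Ω → K) ∈ (Cfsg.permSumZero K G Ω).toSubmodule := by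
        show ∑ z, (Pi.single x 1 - Pi.single y 1 : Ω → K) z = 0
        simp [Finset.sum_sub_distrib]
      have h0 := congrFun (DFunLike.congr_fun hF0 ⟨_, hv⟩) P
      rw [hF] at h0
      simp [mul_sub, Finset.sum_sub_distrib, Pi.single_apply] at h0
      exact sub_eq_zero.mp h0
    have hwd : w P d = 0 := by
      simp only [w, P]
      rw [if_neg (fun ⟨k, hk, hk'⟩ => hcon k (hPP k hk) hk'), if_neg (by simp [hda, hdb])]
    have hwc : w P c = c₁ := by
      simp only [w]; rw [if_pos ⟨1, one_smul _ _, one_smul _ _⟩]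
    have hwa : w P a = c₂ := by
      simp only [w, P]
      rw [if_neg (fun ⟨k, hk, hk'⟩ => hdisj k hk (by rw [hk']; simp)), if_pos (by simp)]
    rcases hcc with h' | h'
    · exact h' (by rw [← hwc, key c d, hwd])
    · exact h' (by rw [← hwa, key a d, hwd])
  -- some element swaps two given points and fixes a third
  have hfix : ∀ x y z : Ω, x ≠ y → z ≠ x → z ≠ y → ∃ g : G, g • x = y ∧ g • y = x ∧ g • z = z := by
    intro x y z hxy hzx hzy
    haveI := Fact.mk Nat.prime_two
    obtain ⟨t, ht⟩ := exists_prime_orderOf_dvd_card' 2 (even_iff_two_dvd.mp (heven z))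
    have ht2 : (t : G) * (t : G) = 1 := by
      rw [← pow_two, ← ht, ← Subgroup.orderOf_coe, pow_orderOf_eq_one]
    have ht1 : (t : G) ≠ 1 := by
      intro h1
      rw [← Subgroup.orderOf_coe, h1, orderOf_one] at ht
      omega
    obtain ⟨u, hu⟩ : ∃ u : Ω, (t : G) • u ≠ u := by
      by_contra hcon
      push Not at hcon
      exact ht1 (eq_of_smul_eq_smul fun u => by rw [hcon, one_smul])
    have htz : (t : G) • z = z := t.2
    have htu : (t : G) • (t : G) • u = u := by rw [← mul_smul, ht2, one_smul]
    have hzu : z ≠ u := fun e => hu (by rw [← e, htz])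
    have hztu : z ≠ (t : G) • u := fun e => hzu (by
      have := congrArg ((t : G) • ·) e
      simpa [htz, htu] using this)
    obtain ⟨g₁, h1, h1'⟩ := (MulAction.is_two_pretransitive_iff.mp h2) (Ne.symm hu) hxy
    have hgz : ∀ k : G, g₁ • z ≠ x ∧ g₁ • z ≠ y := fun _ =>
      ⟨by rw [← h1]; simpa using hzu, by rw [← h1']; simpa using hztu⟩
    obtain ⟨g₂, h3, h4⟩ := hset x y (g₁ • z) z hxy (hgz 1).1 (hgz 1).2 hzx hzy
    have h3x : g₂ • x = x ∨ g₂ • x = y := by
      have := h3 ▸ Finset.mem_insert_self (g₂ • x) {g₂ • y}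
      simpa using this
    have h3y : g₂ • y = x ∨ g₂ • y = y := by
      have := h3 ▸ Finset.mem_insert_of_mem (a := g₂ • y) (b := g₂ • x) (Finset.mem_singleton_self _)
      simpa using this
    have hne : g₂ • x ≠ g₂ • y := fun e => hxy (smul_left_cancel _ e)
    refine ⟨g₂ * g₁ * t * g₁⁻¹ * g₂⁻¹, ?_, ?_, ?_⟩
    all_goals simp only [mul_smul]
    · rcases h3x with e | e <;> rcases h3y with e' | e' <;> try exact absurd (e.trans e'.symm) hne
      · rw [inv_smul_eq_iff.mpr e.symm, inv_smul_eq_iff.mpr h1.symm, h1', e']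
      · rw [inv_smul_eq_iff.mpr e'.symm, inv_smul_eq_iff.mpr h1'.symm, htu, h1, e]
    · rcases h3x with e | e <;> rcases h3y with e' | e' <;> try exact absurd (e.trans e'.symm) hne
      · rw [inv_smul_eq_iff.mpr e'.symm, inv_smul_eq_iff.mpr h1'.symm, htu, h1, e]
      · rw [inv_smul_eq_iff.mpr e.symm, inv_smul_eq_iff.mpr h1.symm, h1', e']
    · rw [inv_smul_eq_iff.mpr h4.symm, inv_smul_smul, htz, h4]
  refine ⟨fun x y => ?_⟩
  obtain ⟨g, h1, h1'⟩ := (MulAction.is_two_pretransitive_iff.mp h2)
    (x.injective.ne (show (0 : Fin 3) ≠ 1 by decide)) (y.injective.ne (show (0 : Fin 3) ≠ 1 by decide))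
  have n20 : g • x 2 ≠ y 0 := by rw [← h1, Ne, smul_left_cancel_iff]; exact x.injective.ne (by decide)
  have n21 : g • x 2 ≠ y 1 := by rw [← h1', Ne, smul_left_cancel_iff]; exact x.injective.ne (by decide)
  have hy01 : y 0 ≠ y 1 := y.injective.ne (by decide)
  have hy20 : y 2 ≠ y 0 := y.injective.ne (by decide)
  have hy21 : y 2 ≠ y 1 := y.injective.ne (by decide)
  obtain ⟨k, h3, h4⟩ := hset (y 0) (y 1) (g • x 2) (y 2) hy01 n20 n21 hy20 hy21
  have h3x : k • y 0 = y 0 ∨ k • y 0 = y 1 := by
    have := h3 ▸ Finset.mem_insert_self (k • y 0) {k • y 1}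
    simpa using this
  have h3y : k • y 1 = y 0 ∨ k • y 1 = y 1 := by
    have := h3 ▸ Finset.mem_insert_of_mem (a := k • y 1) (b := k • y 0) (Finset.mem_singleton_self _)
    simpa using this
  have hne : k • y 0 ≠ k • y 1 := fun e => hy01 (smul_left_cancel _ e)
  rcases h3x with e | e
  · have e' : k • y 1 = y 1 := h3y.resolve_left fun e' => hne (e.trans e'.symm)
    refine ⟨k * g, Function.Embedding.ext fun i => ?_⟩
    fin_cases i <;> simp [mul_smul, h1, h1', h4, e, e']
  · have e' : k • y 1 = y 0 := h3y.resolve_right fun e' => hne (e.trans e'.symm)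
    obtain ⟨t, t1, t2, t3⟩ := hfix (y 0) (y 1) (y 2) hy01 hy20 hy21
    refine ⟨t * (k * g), Function.Embedding.ext fun i => ?_⟩
    fin_cases i <;> simp [mul_smul, h1, h1', h4, e, e', t1, t2, t3]

end Cfsg.Agent.S0672
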