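import Cfsg.Statements.S0676
import Cfsg.Agent.S0672
import Cfsg.Agent.Lib.Perm.PrimeDegreeModule

set_option autoImplicit false
open Cfsg
open scoped Pointwise

namespace Cfsg.Agent.S0676

/-- A non-solvable transitive permutation group of prime degree `p` whose Sylow `p`-normaliser has even order is triply transitive. -/
theorem result {α : Type*} [Fintype α] [DecidableEq α] {p : ℕ} [Fact p.Prime] (hα : Fintype.card α = p) (G : Subgroup (Equiv.Perm α)) [MulAction.IsPretransitive G α] (hG : ¬ Group.IsSolvable G) (P : Sylow p G) (heven : Even (Nat.card (Subgroup.normalizer ((P : Subgroup G) : Set G)))) : MulAction.IsMultiplyPretransitive G α 3 := by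
  classical
  have hp : p.Prime := Fact.out
  have hdvdp : Nat.card G ∣ p.factorial := by
    have h := Subgroup.card_subgroup_dvd_card G
    rwa [Nat.card_eq_fintype_card (α := Equiv.Perm α), Fintype.card_perm, hα] at h
  have hp2 : p ≠ 2 := by
    rintro rfl
    apply hG
    have : IsPGroup 2 G := by
      have h2 : Nat.card G ∣ 2 ^ 1 := by simpa using hdvdp
      obtain ⟨k, -, hk⟩ := (Nat.dvd_prime_pow Nat.prime_two).mp h2
      exact IsPGroup.of_card hk
    haveI := this.isNilpotent
    infer_instance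
  have hpp : ¬ p ^ 2 ∣ Nat.card G := by
    intro h
    have h1 := h.trans hdvdp
    rw [← Nat.mul_factorial_pred hp.ne_zero, pow_two] at h1
    have h2 := Nat.dvd_of_mul_dvd_mul_left hp.pos h1
    exact absurd (hp.dvd_factorial.mp h2) (by have := hp.pos; omega)
  obtain ⟨e, he⟩ := Cfsg.Agent.PrimeDegree.exists_numbering hα G
  obtain ⟨c, hc, hc'⟩ := he 1
  set C : Subgroup G := Subgroup.zpowers ⟨c, hc⟩ with hC
  -- an involution inverting the translations
  have hcpow : ∀ (n : ℕ) (i : ZMod p), (c ^ n) (e i) = e (i + n) := by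
    intro n
    induction n with
    | zero => intro i; simp
    | succ n ih =>
        intro i
        rw [pow_succ', Equiv.Perm.mul_apply, ih, hc']
        congr 1; push_cast; ring
  have hcord : orderOf c = p := by
    refine orderOf_eq_prime ?_ ?_
    · refine Equiv.ext fun x => ?_
      obtain ⟨i, rfl⟩ := e.surjective x
      rw [hcpow]; simp
    · intro h1
      have := hc' 0
      rw [h1] at this
      exact zero_ne_one ((e.injective this).trans (zero_add _))
  obtain ⟨s, hsG, hs⟩ : ∃ s ∈ G, ∀ i : ZMod p, s (e i) = e (-i) := by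
    have hCp : IsPGroup p C := IsPGroup.of_card (n := 1) (by
      rw [hC, Nat.card_zpowers, pow_one, ← Subgroup.orderOf_coe, hcord])
    obtain ⟨Q, hQ⟩ := hCp.exists_le_sylow
    have hQeq : C = (Q : Subgroup G) := by
      refine Subgroup.eq_of_le_of_card_ge hQ ?_
      obtain ⟨k, hk⟩ := Q.2.exists_card_eq
      rw [hk, hC, Nat.card_zpowers, ← Subgroup.orderOf_coe, hcord]
      rcases Nat.lt_or_ge k 2 with h | h
      · calc p ^ k ≤ p ^ 1 := Nat.pow_le_pow_right hp.pos (by omega)
          _ = p := pow_one p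
      · exact absurd ((pow_dvd_pow p h).trans (hk ▸ Subgroup.card_subgroup_dvd_card _)) hpp
    obtain ⟨g, hg⟩ := MulAction.exists_smul_eq G P Q
    have hcard : Nat.card (Subgroup.normalizer (C : Set G)) =
        Nat.card (Subgroup.normalizer ((P : Subgroup G) : Set G)) := by
      have hset : ∀ x : G, x ∈ (Q : Subgroup G) ↔ g⁻¹ * x * g ∈ (P : Subgroup G) := by
        intro x
        rw [← hg, Sylow.coe_subgroup_smul, Subgroup.mem_pointwise_smul_iff_inv_smul_mem]
        simp [MulAut.smul_def]
      rw [hQeq]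
      refine Nat.card_congr ((MulAut.conj g⁻¹).toEquiv.subtypeEquiv fun x => ?_)
      simp only [Subgroup.mem_normalizer_iff, SetLike.mem_coe]
      constructor
      · intro h y
        have h' := h (g * y * g⁻¹)
        rw [hset, hset] at h'
        simp [mul_assoc] at h' ⊢
        exact h'
      · intro h y
        rw [hset, hset]
        have h' := h (g⁻¹ * y * g)
        simp [mul_assoc] at h' ⊢
        exact h'
    haveI := Fact.mk Nat.prime_two
    obtain ⟨s, hs⟩ := exists_prime_orderOf_dvd_card' 2 (hcard ▸ even_iff_two_dvd.mp heven)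
    have hs2 : ((s : G) : Equiv.Perm α) * ((s : G) : Equiv.Perm α) = 1 := by
      rw [← pow_two, ← hs, ← Subgroup.orderOf_coe s, ← Subgroup.orderOf_coe, pow_orderOf_eq_one]
    have hmem : (s : G) * ⟨c, hc⟩ * (s : G)⁻¹ ∈ C :=
      (Subgroup.mem_normalizer_iff.mp s.2 _).mp (Subgroup.mem_zpowers _)
    obtain ⟨k, hk⟩ := mem_powers_iff_mem_zpowers.mpr hmem
    have hk' : ((s : G) : Equiv.Perm α) * c = c ^ k * ((s : G) : Equiv.Perm α) := by
      have h1 := congrArg (fun x : G => (x : Equiv.Perm α)) hk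
      simp only [SubmonoidClass.coe_pow, Subgroup.coe_mul, InvMemClass.coe_inv] at h1
      rw [h1, inv_mul_cancel_right]
    set π : Equiv.Perm (ZMod p) := e.trans (((s : G) : Equiv.Perm α).trans e.symm) with hπ
    have hπapp : ∀ i, ((s : G) : Equiv.Perm α) (e i) = e (π i) := fun i => by simp [hπ]
    have hstep : ∀ i, π (i + 1) = π i + k := by
      intro i
      apply e.injective
      rw [← hπapp, ← hc', ← Equiv.Perm.mul_apply, hk', Equiv.Perm.mul_apply, hπapp, hcpow]
    have hlin : ∀ n : ℕ, π (n : ZMod p) = π 0 + k * n := by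
      intro n
      induction n with
      | zero => simp
      | succ n ih => rw [Nat.cast_succ, hstep, ih]; ring
    have hlin' : ∀ i, π i = π 0 + k * i := fun i => by
      have := hlin i.val; rwa [ZMod.natCast_rightInverse i] at this
    have hinvol : ∀ i, π (π i) = i := by
      intro i
      apply e.injective
      rw [← hπapp, ← hπapp, ← Equiv.Perm.mul_apply, hs2]; rfl
    have h0 : π 0 + k * π 0 = 0 := by rw [← hlin', hinvol]
    have hk2 : (k : ZMod p) * k = 1 := by
      have h1 := hinvol 1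
      rw [hlin' (π 1), hlin' 1] at h1
      linear_combination h1 - h0
    rcases mul_self_eq_one_iff.mp hk2 with h1 | h1
    · exfalso
      have h2 : (2 : ZMod p) * π 0 = 0 := by rw [h1] at h0; linear_combination h0
      have h20 : (2 : ZMod p) ≠ 0 := by
        intro h
        have : ((2 : ℕ) : ZMod p) = 0 := by simpa using h
        rw [CharP.cast_eq_zero_iff (ZMod p) p] at this
        exact hp2 ((Nat.prime_dvd_prime_iff_eq hp Nat.prime_two).mp this)
      have hb : π 0 = 0 := (mul_eq_zero.mp h2).resolve_left h20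
      have hs1 : ((s : G) : Equiv.Perm α) = 1 := Equiv.ext fun x => by
        obtain ⟨i, rfl⟩ := e.surjective x
        rw [hπapp, hlin', hb, h1]; simp
      rw [← Subgroup.orderOf_coe s, ← Subgroup.orderOf_coe, hs1, orderOf_one] at hs
      omega
    · obtain ⟨t, ht, ht'⟩ := he (-π 0)
      refine ⟨t * ((s : G) : Equiv.Perm α), G.mul_mem ht (s : G).2, fun i => ?_⟩
      rw [Equiv.Perm.mul_apply, hπapp, ht', hlin', h1]
      congr 1; ring
  -- double transitivity
  have h2 : MulAction.IsMultiplyPretransitive G α 2 :=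
    (Cfsg.Agent.PrimeDegree.two_transitive_or_affine hα G).resolve_right
      (fun ⟨e', h'⟩ => hG (Cfsg.Agent.PrimeDegree.isSolvable_of_affine G e' h'))
  have hsne : (⟨s, hsG⟩ : G) ^ 2 = 1 ∧ (⟨s, hsG⟩ : G) ≠ 1 := by
    constructor
    · refine Subtype.ext (Equiv.ext fun x => ?_)
      obtain ⟨i, rfl⟩ := e.surjective x
      simp [pow_two, hs]
    · intro h
      have h1 := hs 1
      rw [show s = 1 from congrArg Subtype.val h] at h1
      have h2' : (1 : ZMod p) = -1 := e.injective h1
      have : ((2 : ℕ) : ZMod p) = 0 := by push_cast; linear_combination h2'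
      rw [CharP.cast_eq_zero_iff (ZMod p) p] at this
      exact hp2 ((Nat.prime_dvd_prime_iff_eq hp Nat.prime_two).mp this)
  have hev : ∀ a : α, Even (Nat.card (MulAction.stabilizer G a)) := by
    intro a
    haveI := Fact.mk Nat.prime_two
    have h2G : 2 ∣ Nat.card G := orderOf_eq_prime hsne.1 hsne.2 ▸ orderOf_dvd_natCard _
    rw [← Subgroup.card_mul_index (MulAction.stabilizer G a),
      MulAction.index_stabilizer_of_transitive G a, Nat.card_eq_fintype_card (α := α), hα] at h2G
    rcases Nat.prime_two.dvd_mul.mp h2G with h | h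
    · exact even_iff_two_dvd.mpr h
    · exact absurd ((Nat.prime_dvd_prime_iff_eq Nat.prime_two hp).mp h).symm hp2
  refine Cfsg.Agent.S0672.result (G := G) (Ω := α) (K := ZMod p) (p := p) h2 (hα ▸ dvd_rfl) hev ?_
  intro f hf
  -- the kernel
  let u : α → ZMod p := fun x => e.symm x
  have hu : u ∈ (Cfsg.permSumZero (ZMod p) G α).toSubmodule := by
    show ∑ x, e.symm x = 0
    rw [Equiv.sum_comp e.symm (fun i => i)]
    have := FiniteField.sum_pow_lt_card_sub_one (K := ZMod p) 1 (by
      rw [ZMod.card]; have := hp.two_le; omega)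
    simpa using this
  let ρ := (Cfsg.permSumZero (ZMod p) G α).toRepresentation
  have hconst : (fun _ : α => (1 : ZMod p)) ∈ (Cfsg.permSumZero (ZMod p) G α).toSubmodule := by
    show ∑ _x : α, (1 : ZMod p) = 0
    simp [hα]
  have hfu : f ⟨u, hu⟩ = 0 := by
    funext S
    have htr : ∀ (g : G), ∀ S, f (ρ g ⟨u, hu⟩) S = f ⟨u, hu⟩ (g⁻¹ • S) := fun g S => by
      rw [f.isIntertwining]; rfl
    have hT : ∀ t : ZMod p, ∀ (g : G), (∀ i, (g : Equiv.Perm α) (e i) = e (i + t)) → ∀ S,
        f ⟨u, hu⟩ (g⁻¹ • S) = f ⟨u, hu⟩ S := by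
      intro t g hg S
      rw [← htr]
      have : ρ g ⟨u, hu⟩ = ⟨u, hu⟩ + (-t) • ⟨_, hconst⟩ := by
        refine Subtype.ext (funext fun x => ?_)
        obtain ⟨i, rfl⟩ := e.surjective x
        show e.symm (((g⁻¹ : G) : Equiv.Perm α) (e i)) = e.symm (e i) + (-t) * 1
        have h1 := hg (i - t)
        rw [sub_add_cancel] at h1
        rw [← h1, InvMemClass.coe_inv, Equiv.Perm.inv_def, Equiv.symm_apply_apply, e.symm_apply_apply,
          h1, e.symm_apply_apply]
        ring
      rw [this, map_add, map_smul, hf ⟨_, hconst⟩ (Submodule.mem_span_singleton_self _), smul_zero, add_zero]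
    obtain ⟨x, y, hxy, hS⟩ := Finset.card_eq_two.mp (Set.powersetCard.mem_iff.mp S.2)
    obtain ⟨i, rfl⟩ := e.surjective x
    obtain ⟨j, rfl⟩ := e.surjective y
    obtain ⟨t, ht, ht'⟩ := he (-(i + j))
    have h3 : (⟨t, ht⟩ : G)⁻¹ • ((⟨s, hsG⟩ : G)⁻¹ • S) = S := by
      rw [inv_smul_eq_iff, inv_smul_eq_iff]
      refine Subtype.ext ?_
      show (S : Finset α) = (⟨s, hsG⟩ : G) • ((⟨t, ht⟩ : G) • (S : Finset α))
      rw [hS]
      simp only [Finset.smul_finset_insert, Finset.smul_finset_singleton, Subgroup.mk_smul,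
        Equiv.Perm.smul_def, ht', hs]
      rw [show -(i + -(i + j)) = j by ring, show -(j + -(i + j)) = i by ring, Finset.pair_comm]
    have h4 : f ⟨u, hu⟩ ((⟨s, hsG⟩ : G)⁻¹ • S) = - f ⟨u, hu⟩ S := by
      rw [← htr]
      have : ρ ⟨s, hsG⟩ ⟨u, hu⟩ = -⟨u, hu⟩ := by
        refine Subtype.ext (funext fun x => ?_)
        obtain ⟨i, rfl⟩ := e.surjective x
        show e.symm ((((⟨s, hsG⟩ : G)⁻¹ : G) : Equiv.Perm α) (e i)) = - e.symm (e i)
        have h1 := hs (-i)
        rw [neg_neg] at h1
        rw [← h1, InvMemClass.coe_inv, Equiv.Perm.inv_def, Equiv.symm_apply_apply, h1,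
          e.symm_apply_apply, e.symm_apply_apply]
      rw [this, map_neg]; rfl
    have h5 := hT _ ⟨t, ht⟩ ht' ((⟨s, hsG⟩ : G)⁻¹ • S)
    rw [h3, h4] at h5
    have h6 : (2 : ZMod p) * f ⟨u, hu⟩ S = 0 := by linear_combination h5
    refine (mul_eq_zero.mp h6).resolve_left ?_
    intro h
    have : ((2 : ℕ) : ZMod p) = 0 := by simpa using h
    rw [CharP.cast_eq_zero_iff (ZMod p) p] at this
    exact hp2 ((Nat.prime_dvd_prime_iff_eq hp Nat.prime_two).mp this)
  let W : Subrepresentation (Cfsg.permRep (ZMod p) G α) :=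
    { toSubmodule := (LinearMap.ker f.toLinearMap).map (Cfsg.permSumZero (ZMod p) G α).toSubmodule.subtype
      apply_mem_toSubmodule := by
        intro g v hv
        obtain ⟨w, hw, rfl⟩ := Submodule.mem_map.mp hv
        refine Submodule.mem_map.mpr ⟨ρ g w, ?_, rfl⟩
        rw [LinearMap.mem_ker] at hw ⊢
        show f (ρ g w) = 0
        rw [f.isIntertwining, show f w = 0 from hw, map_zero] }
  rcases Cfsg.Agent.PrimeDegree.heart_irreducible (K := ZMod p) hα G hG W (by
      show Submodule.span _ _ ≤ _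
      rw [Submodule.span_singleton_le_iff_mem]
      exact Submodule.mem_map.mpr ⟨⟨_, hconst⟩, hf _ (Submodule.mem_span_singleton_self _), rfl⟩)
    (fun v hv => by obtain ⟨w, -, rfl⟩ := Submodule.mem_map.mp hv; exact w.2) with hW | hW
  · exfalso
    have h1 : u ∈ W.toSubmodule := Submodule.mem_map.mpr ⟨⟨u, hu⟩, hfu, rfl⟩
    rw [hW] at h1
    obtain ⟨d, hd⟩ := Submodule.mem_span_singleton.mp h1
    have ha := congrFun hd (e 0)
    have hb := congrFun hd (e 1)
    simp [u] at ha hb
    exact zero_ne_one (ha.symm.trans hb)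
  · ext v S
    have h1 : (v : α → ZMod p) ∈ W.toSubmodule := by rw [hW]; exact v.2
    obtain ⟨w, hw, hwv⟩ := Submodule.mem_map.mp h1
    rw [← show w = v from Subtype.ext hwv]
    exact congrFun hw S

end Cfsg.Agent.S0676
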