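import Cfsg.Statements.S0989
import Mathlib.GroupTheory.Perm.Cycle.Type
import Mathlib.GroupTheory.Perm.Centralizer
import Cfsg.Agent.Lib.Small.SimpleOrder
-- import your own Cfsg.Agent.* helpers here

set_option autoImplicit false
open Cfsg

namespace Cfsg.Agent.S0989


/-- In the symmetric group on p or p + 1 letters, p a prime, the normalizer of a Sylow p-subgroup has order p * (p - 1). -/
theorem result {α : Type*} [Fintype α] [DecidableEq α] (p : ℕ) [Fact p.Prime] (hα : Fintype.card α = p ∨ Fintype.card α = p + 1) (P : Sylow p (Equiv.Perm α)) : Nat.card ↥(Subgroup.normalizer ((P : Subgroup (Equiv.Perm α)) : Set (Equiv.Perm α))) = p * (p - 1) := by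
  classical
  have hp := (Fact.out : p.Prime)
  have hlt : Fintype.card α < 2 * p := by have := hp.two_le; omega
  have hle : p ≤ Fintype.card α := by omega
  have hG : Nat.card (Equiv.Perm α) = (Fintype.card α).factorial := by
    rw [Nat.card_perm, Nat.card_eq_fintype_card]
  have hndvd : ∀ n, n < p → ¬ p ∣ n.factorial := fun n hn h => by
    have := hp.dvd_factorial.mp h; omega
  have hPc : Nat.card (P : Subgroup (Equiv.Perm α)) = p := by
    obtain ⟨m, hm, hmd⟩ : ∃ m, (Fintype.card α).factorial = p * m ∧ ¬ p ∣ m := by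
      obtain ⟨q, hq⟩ : ∃ q, p = q + 1 := ⟨p - 1, by have := hp.one_le; omega⟩
      rcases hα with h | h
      · exact ⟨q.factorial, by rw [h, hq, Nat.factorial_succ], hndvd q (by omega)⟩
      · refine ⟨(p + 1) * q.factorial, by rw [h, Nat.factorial_succ, hq, Nat.factorial_succ]; ring, ?_⟩
        intro hd
        rcases hp.dvd_mul.mp hd with h1 | h1
        · exact hp.ne_one (Nat.eq_one_of_dvd_one ((Nat.dvd_add_right dvd_rfl).mp h1))
        · exact hndvd q (by omega) h1
    rw [Cfsg.Lib.Small.card_sylow 1 m (by rw [hG, hm, pow_one]) hmd P, pow_one]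
  have : Fact p.Prime := ⟨hp⟩
  obtain ⟨⟨z, hzP⟩, hz⟩ := exists_prime_orderOf_dvd_card' p
    (by rw [hPc])
  rw [Subgroup.orderOf_mk] at hz
  have hz1 : z ≠ 1 := fun h => by rw [h, orderOf_one] at hz; exact hp.ne_one hz.symm
  have hcyc : ∀ u : Equiv.Perm α, orderOf u = p → u.IsCycle ∧ u.cycleType = {p} := by
    intro u hu
    have hc : u.IsCycle := Equiv.Perm.isCycle_of_prime_order' (by rw [hu]; exact hp) (by rw [hu]; exact hlt)
    exact ⟨hc, by rw [hc.cycleType, ← hc.orderOf, hu]⟩
  have hC : Nat.card ↥(Subgroup.centralizer ({z} : Set (Equiv.Perm α))) = p := by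
    rw [Equiv.Perm.nat_card_centralizer, (hcyc z hz).2]
    rcases hα with h | h <;> simp [h, Multiset.prod_singleton]
  have hgen := Cfsg.Lib.Small.zpowers_eq_of_prime_card hPc hzP hz1
  set N := Subgroup.normalizer ((P : Subgroup (Equiv.Perm α)) : Set (Equiv.Perm α))
  set C := Subgroup.centralizer ({z} : Set (Equiv.Perm α))
  let ψ : N ⧸ C.subgroupOf N → {u : (P : Subgroup (Equiv.Perm α)) // u ≠ 1} :=
    Quotient.lift (fun n : N => ⟨⟨(n : Equiv.Perm α) * z * (n : Equiv.Perm α)⁻¹,
        (Subgroup.mem_normalizer_iff.mp n.2 z).mp hzP⟩, fun h => by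
      have h' : (n : Equiv.Perm α) * z * (n : Equiv.Perm α)⁻¹ = 1 := congrArg Subtype.val h
      rw [mul_inv_eq_one, mul_eq_left] at h'
      exact hz1 h'⟩) (by
      intro a b hab
      have h1 : ((a : Equiv.Perm α))⁻¹ * b ∈ C := by
        have := (QuotientGroup.leftRel_apply (s := C.subgroupOf N)).mp hab
        exact this
      have h2 : z * ((a : Equiv.Perm α)⁻¹ * b) = (a : Equiv.Perm α)⁻¹ * b * z :=
        Subgroup.mem_centralizer_iff.mp h1 z rfl
      refine Subtype.ext (Subtype.ext ?_)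
      change (a : Equiv.Perm α) * z * (a : Equiv.Perm α)⁻¹ = (b : Equiv.Perm α) * z * (b : Equiv.Perm α)⁻¹
      calc (a : Equiv.Perm α) * z * (a : Equiv.Perm α)⁻¹
          = (a : Equiv.Perm α) * (z * ((a : Equiv.Perm α)⁻¹ * b)) * (b : Equiv.Perm α)⁻¹ := by
            simp [mul_assoc]
        _ = _ := by rw [h2]; simp [mul_assoc])
  have hψ : Function.Bijective ψ := by
    constructor
    · intro x y
      refine Quotient.inductionOn₂ x y fun a b h => Quotient.sound ?_
      have h' : (a : Equiv.Perm α) * z * (a : Equiv.Perm α)⁻¹ =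
          (b : Equiv.Perm α) * z * (b : Equiv.Perm α)⁻¹ :=
        congrArg (fun u : {u : (P : Subgroup (Equiv.Perm α)) // u ≠ 1} => (u.1 : Equiv.Perm α)) h
      refine (QuotientGroup.leftRel_apply (s := C.subgroupOf N)).mpr ?_
      change (a : Equiv.Perm α)⁻¹ * b ∈ C
      rw [Subgroup.mem_centralizer_iff]
      simp only [Set.mem_singleton_iff, forall_eq]
      calc z * ((a : Equiv.Perm α)⁻¹ * b)
          = (a : Equiv.Perm α)⁻¹ * ((a : Equiv.Perm α) * z * (a : Equiv.Perm α)⁻¹) * b := by simp [mul_assoc]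
        _ = _ := by rw [h']; simp [mul_assoc]
    · rintro ⟨⟨u, huP⟩, hu⟩
      have hu1 : u ≠ 1 := fun h => hu (Subtype.ext h)
      have hgu := Cfsg.Lib.Small.zpowers_eq_of_prime_card hPc huP hu1
      have huo : orderOf u = p := by rw [← Nat.card_zpowers, hgu, hPc]
      obtain ⟨g, hg⟩ := isConj_iff.mp ((Equiv.Perm.isConj_iff_cycleType_eq (σ := z) (τ := u)).mpr
        ((hcyc z hz).2.trans (hcyc u huo).2.symm))
      refine ⟨Quotient.mk'' ⟨g, ?_⟩, Subtype.ext (Subtype.ext hg)⟩
      rw [Subgroup.mem_normalizer_iff_map_conj_eq]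
      change (P : Subgroup (Equiv.Perm α)).map (MulAut.conj g).toMonoidHom = _
      conv_lhs => rw [← hgen]
      rw [MonoidHom.map_zpowers]
      change Subgroup.zpowers (g * z * g⁻¹) = _
      rw [hg, hgu]
  have hidx : Nat.card (N ⧸ C.subgroupOf N) = p - 1 := by
    rw [Nat.card_eq_of_bijective ψ hψ]
    have := Fintype.ofFinite (P : Subgroup (Equiv.Perm α))
    rw [Nat.card_eq_fintype_card, Fintype.card_subtype_compl, Fintype.card_subtype_eq,
      ← Nat.card_eq_fintype_card, hPc]
  have hCN : C ≤ N := by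
    have := Subgroup.centralizer_le_normalizer ((Subgroup.zpowers z : Subgroup (Equiv.Perm α)) : Set (Equiv.Perm α))
    rwa [Cfsg.Lib.Small.centralizer_zpowers, hgen] at this
  rw [← Subgroup.card_mul_index (C.subgroupOf N), Subgroup.index_eq_card, hidx,
    Nat.card_congr (Subgroup.subgroupOfEquivOfLe hCN).toEquiv, hC]

end Cfsg.Agent.S0989
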