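import Cfsg.Statements.S0728
import Mathlib

set_option linter.style.haveILetI false

set_option autoImplicit false
open Cfsg

namespace Cfsg.Agent.S0728

/-- an embedding of three points -/
def tri {α : Type*} (x y z : α) (hxy : x ≠ y) (hxz : x ≠ z) (hyz : y ≠ z) : Fin 3 ↪ α :=
  ⟨![x, y, z], by intro i j hij; fin_cases i <;> fin_cases j <;> simp_all⟩

theorem tri_apply {α : Type*} (x y z : α) (hxy : x ≠ y) (hxz : x ≠ z) (hyz : y ≠ z) :
    tri x y z hxy hxz hyz 0 = x ∧ tri x y z hxy hxz hyz 1 = y ∧ tri x y z hxy hxz hyz 2 = z :=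
  ⟨rfl, rfl, rfl⟩

open Finset in
/-- In a sharply triply transitive group, at most two elements of order three fix a given pair. -/
theorem card_order_three_fixing_pair {α : Type*} [Fintype α] [DecidableEq α]
    (G : Subgroup (Equiv.Perm α)) (h3 : MulAction.IsMultiplyPretransitive G α 3)
    (hsharp : ∀ x : Fin 3 ↪ α, MulAction.stabilizer G x = ⊥) {a b : α} (hab : a ≠ b)
    (h6 : 6 ≤ Fintype.card α) (y₀ : G) (hy₀ : orderOf y₀ = 3) (ha : y₀ • a = a) (hb : y₀ • b = b) :
    Nat.card {y : G // orderOf y = 3 ∧ y • a = a ∧ y • b = b} = 2 := by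
  classical
  have : Fintype G := Fintype.ofFinite G
  set n := Fintype.card α with hn
  have huniq : ∀ (g g' : G) (e : Fin 3 ↪ α), g • e = g' • e → g = g' := by
    intro g g' e he
    have : g'⁻¹ * g ∈ MulAction.stabilizer G e := by
      rw [MulAction.mem_stabilizer_iff]
      exact (mul_smul g'⁻¹ g e).trans ((congrArg (g'⁻¹ • ·) he).trans (inv_smul_smul g' e))
    rw [hsharp e, Subgroup.mem_bot, inv_mul_eq_one] at this
    exact this.symm
  let F : G → Finset α := fun y => univ.filter fun x => y • x = x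
  have hFle : ∀ y : G, y ≠ 1 → (F y).card ≤ 2 := by
    intro y hy
    by_contra hc
    push Not at hc
    obtain ⟨x1, hx1, x2, hx2, x3, hx3, h12, h13, h23⟩ := Finset.two_lt_card.1 hc
    simp only [F, mem_filter, mem_univ, true_and] at hx1 hx2 hx3
    let e : Fin 3 ↪ α := tri x1 x2 x3 h12 h13 h23
    refine hy (huniq y 1 e (Eq.trans ?_ (one_smul G e).symm))
    ext i
    fin_cases i
    · exact hx1
    · exact hx2
    · exact hx3
  have hmod : ∀ y : G, orderOf y = 3 → (F y).card % 3 = n % 3 := by
    intro y hy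
    have : Fact (Nat.Prime 3) := ⟨Nat.prime_three⟩
    have hp : IsPGroup 3 (Subgroup.zpowers y) :=
      IsPGroup.of_card (n := 1) (by rw [Nat.card_zpowers, hy, pow_one])
    have h := hp.card_modEq_card_fixedPoints (α := α)
    rw [Nat.card_eq_fintype_card, ← hn] at h
    have he : Nat.card (MulAction.fixedPoints (Subgroup.zpowers y) α) = (F y).card := by
      rw [← Nat.card_eq_finsetCard]
      refine Nat.card_congr (Equiv.subtypeEquivRight fun x => ?_)
      simp only [F, mem_filter, mem_univ, true_and, MulAction.mem_fixedPoints]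
      constructor
      · intro hh; exact hh ⟨y, Subgroup.mem_zpowers y⟩
      · rintro hh ⟨g, hg⟩
        obtain ⟨k, rfl⟩ := hg
        exact MulAction.mem_stabilizer_iff.1
          (Subgroup.zpow_mem (MulAction.stabilizer G x) (MulAction.mem_stabilizer_iff.2 hh) k)
    rw [he] at h
    exact h.symm
  have hne1 : ∀ y : G, orderOf y = 3 → y ≠ 1 := by
    intro y hy h1; rw [h1, orderOf_one] at hy; omega
  have hn2 : n % 3 = 2 := by
    have h1 : ({a, b} : Finset α) ⊆ F y₀ := by
      intro x hx; simp only [mem_insert, mem_singleton] at hx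
      rcases hx with rfl | rfl <;> simp [F, ha, hb]
    have h2 := Finset.card_le_card h1
    rw [Finset.card_pair hab] at h2
    have h3' := hFle y₀ (hne1 _ hy₀)
    have := hmod y₀ hy₀
    omega
  have hF2 : ∀ y : G, orderOf y = 3 → (F y).card = 2 := by
    intro y hy
    have := hmod y hy
    have := hFle y (hne1 y hy)
    omega
  let Y : Finset G := univ.filter fun y => orderOf y = 3
  -- first count
  let P : Finset (G × α) := (Y ×ˢ univ).filter fun p => p.1 • p.2 ≠ p.2
  have hP1 : P.card = Y.card * (n - 2) := by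
    have : P.card = ∑ y ∈ Y, (univ.filter fun x : α => y • x ≠ x).card := by
      simp only [P, Finset.card_filter, Finset.sum_product]
    rw [this, Finset.sum_const_nat (m := n - 2)]
    intro y hy
    simp only [Y, mem_filter, mem_univ, true_and] at hy
    have hcompl : (univ.filter fun x : α => y • x ≠ x) = (F y)ᶜ := by
      ext x; simp [F]
    rw [hcompl, Finset.card_compl, hF2 y hy]
  have hP2 : P.card = Fintype.card (Fin 3 ↪ α) := by
    have hmem : ∀ p ∈ P, orderOf p.1 = 3 ∧ p.1 • p.2 ≠ p.2 := by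
      intro p hp; simpa [P, Y] using hp
    have hcube : ∀ y : G, orderOf y = 3 → y * y * y = 1 := by
      intro y hy; rw [← pow_three', ← hy, pow_orderOf_eq_one]
    have hd : ∀ (y : G) (x : α), orderOf y = 3 → y • x ≠ x →
        x ≠ y • x ∧ x ≠ y • y • x ∧ y • x ≠ y • y • x := by
      intro y x hy hx
      refine ⟨fun h => hx h.symm, fun h => hx ?_, fun h => hx ((MulAction.injective y) h.symm)⟩
      have h1 : y • y • y • x = x := by rw [← mul_smul, ← mul_smul, hcube y hy, one_smul]
      rw [← h] at h1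
      exact h1
    rw [← Finset.card_univ]
    refine Finset.card_bij (fun p hp => tri p.2 (p.1 • p.2) (p.1 • p.1 • p.2)
      (hd _ _ (hmem p hp).1 (hmem p hp).2).1 (hd _ _ (hmem p hp).1 (hmem p hp).2).2.1
      (hd _ _ (hmem p hp).1 (hmem p hp).2).2.2) (fun _ _ => mem_univ _) ?_ ?_
    · intro p hp p' hp' heq
      have e0 : p.2 = p'.2 := DFunLike.congr_fun heq (0 : Fin 3)
      have e1 : p.1 • p.2 = p'.1 • p'.2 := DFunLike.congr_fun heq (1 : Fin 3)
      have e2 : p.1 • p.1 • p.2 = p'.1 • p'.1 • p'.2 := DFunLike.congr_fun heq (2 : Fin 3)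
      obtain ⟨hy, hx⟩ := hmem p hp
      obtain ⟨hy', hx'⟩ := hmem p' hp'
      obtain ⟨d1, d2, d3⟩ := hd _ _ hy hx
      refine Prod.ext (huniq p.1 p'.1 (tri p.2 (p.1 • p.2) (p.1 • p.1 • p.2) d1 d2 d3) ?_) e0
      ext i
      have c1 : p.1 • p.1 • p.1 • p.2 = p.2 := by rw [← mul_smul, ← mul_smul, hcube _ hy, one_smul]
      have c2 : p'.1 • p'.1 • p'.1 • p'.2 = p'.2 := by
        rw [← mul_smul, ← mul_smul, hcube _ hy', one_smul]
      have f0 : p.1 • p.2 = p'.1 • p.2 := by rw [e1, e0]
      have f1 : p.1 • p.1 • p.2 = p'.1 • p.1 • p.2 := by rw [e2, e1]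
      have f2 : p.1 • p.1 • p.1 • p.2 = p'.1 • p.1 • p.1 • p.2 := by rw [c1, e2, c2, e0]
      fin_cases i
      · exact f0
      · exact f1
      · exact f2
    · intro e _
      let r : Fin 3 ↪ α := tri (e 1) (e 2) (e 0) (e.injective.ne (by decide))
        (e.injective.ne (by decide)) (e.injective.ne (by decide))
      have := h3
      obtain ⟨g, hg⟩ := MulAction.exists_smul_eq G e r
      have g0 : g • e 0 = e 1 := DFunLike.congr_fun hg (0 : Fin 3)
      have g1 : g • e 1 = e 2 := DFunLike.congr_fun hg (1 : Fin 3)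
      have g2 : g • e 2 = e 0 := DFunLike.congr_fun hg (2 : Fin 3)
      have hg3 : g ^ 3 = 1 := by
        refine huniq _ _ e (Eq.trans ?_ (one_smul G e).symm)
        ext i
        show g ^ 3 • e i = e i
        rw [pow_three, mul_smul, mul_smul]
        fin_cases i
        · show g • g • g • e 0 = e 0
          rw [g0, g1, g2]
        · show g • g • g • e 1 = e 1
          rw [g1, g2, g0]
        · show g • g • g • e 2 = e 2
          rw [g2, g0, g1]
      have hgne : g • e 0 ≠ e 0 := by
        rw [g0]; intro h; exact absurd (e.injective h) (by decide)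
      have hord : orderOf g = 3 := by
        have : Fact (Nat.Prime 3) := ⟨Nat.prime_three⟩
        exact orderOf_eq_prime hg3 (fun h => hgne (by rw [h, one_smul]))
      refine ⟨(g, e 0), ?_, ?_⟩
      · simp [P, Y, hord, hgne]
      · ext i
        fin_cases i
        · rfl
        · exact g0
        · show g • g • e 0 = e 2
          rw [g0, g1]
  have hY : Y.card = n * (n - 1) := by
    rw [Fintype.card_embedding_eq, Fintype.card_fin, ← hn] at hP2
    rw [hP1] at hP2
    simp only [Nat.descFactorial_succ, Nat.descFactorial_zero, mul_one] at hP2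
    rw [Nat.sub_zero] at hP2
    refine mul_right_cancel₀ (show n - 2 ≠ 0 by omega) ?_
    rw [hP2]; ring
  -- second count
  let C : (Fin 2 ↪ α) → Finset G := fun e => Y.filter fun y => y • e 0 = e 0 ∧ y • e 1 = e 1
  have hsum : ∑ e : Fin 2 ↪ α, (C e).card = Y.card * 2 := by
    simp only [C, Finset.card_filter]
    rw [Finset.sum_comm, Finset.sum_const_nat (m := 2)]
    intro y hy
    simp only [Y, mem_filter, mem_univ, true_and] at hy
    rw [← Finset.card_filter]
    have hoff : (F y).offDiag.card = 2 := by rw [Finset.offDiag_card, hF2 y hy]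
    refine Eq.trans ?_ hoff
    refine Finset.card_bij (fun e _ => (e 0, e 1)) ?_ ?_ ?_
    · intro e he
      simp only [mem_filter, mem_univ, true_and] at he
      simp [F, he.1, he.2, e.injective.eq_iff]
    · intro e _ e' _ h
      simp only [Prod.mk.injEq] at h
      ext i; fin_cases i
      · simpa using h.1
      · simpa using h.2
    · intro p hp
      simp only [F, mem_offDiag, mem_filter, mem_univ, true_and] at hp
      obtain ⟨q1, q2, q3⟩ := hp
      exact ⟨⟨![p.1, p.2], by intro i j hij; fin_cases i <;> fin_cases j <;> simp_all⟩,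
        by simp only [mem_filter, mem_univ, true_and]; exact ⟨q1, q2⟩, rfl⟩
  let e₀ : Fin 2 ↪ α := ⟨![a, b], by intro i j hij; fin_cases i <;> fin_cases j <;> simp_all⟩
  have hconst : ∀ e : Fin 2 ↪ α, (C e).card = (C e₀).card := by
    intro e
    have := h3
    have : MulAction.IsMultiplyPretransitive G α 2 :=
      MulAction.isMultiplyPretransitive_of_le (m := 2) (n := 3) (by norm_num)
        (by rw [Nat.card_eq_fintype_card]; omega)
    obtain ⟨g, hg⟩ := MulAction.exists_smul_eq G e e₀
    have g0 : g • e 0 = e₀ 0 := by rw [← hg]; rfl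
    have g1 : g • e 1 = e₀ 1 := by rw [← hg]; rfl
    refine Finset.card_equiv (MulAut.conj g).toEquiv fun y => ?_
    simp only [C, Y, mem_filter, mem_univ, true_and, MulEquiv.coe_toEquiv]
    show _ ↔ orderOf (MulAut.conj g y) = 3 ∧ (MulAut.conj g y) • e₀ 0 = e₀ 0 ∧
      (MulAut.conj g y) • e₀ 1 = e₀ 1
    rw [MulEquiv.orderOf_eq, ← g0, ← g1]
    simp [MulAut.conj_apply, mul_smul]
  have hC : (C e₀).card = 2 := by
    rw [Finset.sum_congr rfl (fun e _ => hconst e), Finset.sum_const, Finset.card_univ,
      Fintype.card_embedding_eq, Fintype.card_fin, ← hn, hY, smul_eq_mul] at hsum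
    simp only [Nat.descFactorial_succ, Nat.descFactorial_zero, mul_one, Nat.sub_zero] at hsum
    refine Nat.eq_of_mul_eq_mul_left (show 0 < n * (n - 1) from Nat.mul_pos (by omega) (by omega)) ?_
    rw [← hsum]; ring
  rw [← hC, ← Nat.card_eq_finsetCard]
  exact Nat.card_congr (Equiv.subtypeEquivRight fun y => by
    simp only [C, Y, mem_filter, mem_univ, true_and]
    exact Iff.rfl)

/-- In a sharply triply transitive group of even degree at least 6 (degree `q + 1`, `q` odd), a two-point stabiliser has at most one subgroup of order 3. -/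
theorem result {α : Type*} [Fintype α] [DecidableEq α] (heven : Even (Fintype.card α)) (h6 : 6 ≤ Fintype.card α) (G : Subgroup (Equiv.Perm α)) (h3 : MulAction.IsMultiplyPretransitive G α 3) (hsharp : ∀ x : Fin 3 ↪ α, MulAction.stabilizer G x = ⊥) {a b : α} (hab : a ≠ b) (A B : Subgroup G) (hA : A ≤ MulAction.stabilizer G a ⊓ MulAction.stabilizer G b) (hB : B ≤ MulAction.stabilizer G a ⊓ MulAction.stabilizer G b) (hA3 : Nat.card A = 3) (hB3 : Nat.card B = 3) : A = B := by
  classical
  have : Fintype G := Fintype.ofFinite G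
  let T : Set G := {y : G | orderOf y = 3 ∧ y • a = a ∧ y • b = b}
  have hsub : ∀ C : Subgroup G, C ≤ MulAction.stabilizer G a ⊓ MulAction.stabilizer G b →
      Nat.card C = 3 → ((C : Set G) \ {1}) ⊆ T ∧ ((C : Set G) \ {1}).ncard = 2 := by
    intro C hC hC3
    constructor
    · rintro y ⟨hy, hy1⟩
      refine ⟨?_, (hC hy).1, (hC hy).2⟩
      have hdvd := Subgroup.orderOf_dvd_natCard C hy
      rw [hC3] at hdvd
      rcases (Nat.dvd_prime Nat.prime_three).1 hdvd with h | h
      · exact absurd (orderOf_eq_one_iff.1 h) hy1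
      · exact h
    · have h : Nat.card ↥(C : Set G) = 3 := hC3
      rw [Nat.card_coe_set_eq] at h
      rw [Set.ncard_sdiff_singleton_of_mem C.one_mem, h]
  obtain ⟨hA1, hA2⟩ := hsub A hA hA3
  obtain ⟨hB1, hB2⟩ := hsub B hB hB3
  obtain ⟨y₀, hy₀⟩ : ((A : Set G) \ {1}).Nonempty := Set.nonempty_of_ncard_ne_zero (by omega)
  obtain ⟨o, oa, ob⟩ := hA1 hy₀
  have hT : T.ncard = 2 := by
    rw [← Nat.card_coe_set_eq]
    exact card_order_three_fixing_pair G h3 hsharp hab h6 y₀ o oa ob
  have eA : ((A : Set G) \ {1}) = T := Set.eq_of_subset_of_ncard_le hA1 (by omega)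
  have eB : ((B : Set G) \ {1}) = T := Set.eq_of_subset_of_ncard_le hB1 (by omega)
  ext x
  by_cases hx : x = 1
  · simp [hx]
  · have := Set.ext_iff.1 (eA.trans eB.symm) x
    simpa [hx] using this

end Cfsg.Agent.S0728
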