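import Cfsg.Statements.S0561
import Cfsg.Agent.Lib.Solv.Hall
import Cfsg.Agent.Lib.Solv.Product
-- import your own Cfsg.Agent.* helpers here

set_option autoImplicit false
open Pointwise
open Cfsg

namespace Cfsg.Agent.S0561

/-- Let the finite solvable group G be the product HK of subgroups, and let A be normal in H and B normal in K, where A and B are Hall subgroups of G (order coprime to index). Then for all x, y the product set of xAx⁻¹ and yBy⁻¹ is a subgroup of G. -/
theorem result {G : Type*} [Group G] [Finite G] [Group.IsSolvable G] (H K A B : Subgroup G) (hHK : ∀ g : G, ∃ h ∈ H, ∃ k ∈ K, g = h * k) (hA : A ≤ H) (hAn : (A.subgroupOf H).Normal) (hB : B ≤ K) (hBn : (B.subgroupOf K).Normal) (hAh : (Nat.card A).Coprime A.index) (hBh : (Nat.card B).Coprime B.index) (x y : G) : ∃ S : Subgroup G, (S : Set G) = ((MulAut.conj x • A : Subgroup G) : Set G) * ((MulAut.conj y • B : Subgroup G) : Set G) := by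
  classical
  let π : Set ℕ := {q | q ∣ Nat.card A ∨ q ∣ Nat.card B}
  obtain ⟨T, hT⟩ := Cfsg.Lib.Solv.exists_isPiHall π G
  obtain ⟨u, hu⟩ := Cfsg.Lib.Solv.le_conj_of_isPiHall hT (K := A) (fun q _ h => Or.inl h)
  obtain ⟨v, hv⟩ := Cfsg.Lib.Solv.le_conj_of_isPiHall hT (K := B) (fun q _ h => Or.inr h)
  set T' := MulAut.conj u • T with hT'
  set B' := MulAut.conj (u * v⁻¹) • B with hB'
  have hB'T : B' ≤ T' := by
    rw [hB', map_mul, mul_smul, hT', Subgroup.pointwise_smul_le_pointwise_smul_iff]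
    calc MulAut.conj v⁻¹ • B ≤ MulAut.conj v⁻¹ • (MulAut.conj v • T) :=
          Subgroup.pointwise_smul_le_pointwise_smul_iff.mpr hv
    _ = T := by rw [← mul_smul, ← map_mul, inv_mul_cancel, map_one, one_smul]
  -- `T'` is the product of `A` and `B'`
  have hset : (T' : Set G) = (A : Set G) * (B' : Set G) := by
    have hsub : (A : Set G) * (B' : Set G) ⊆ (T' : Set G) := by
      rintro _ ⟨a, ha, b, hb, rfl⟩
      exact T'.mul_mem (hu ha) (hB'T hb)
    refine (Set.eq_of_subset_of_ncard_le hsub ?_ (Set.toFinite _)).symm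
    rw [← Nat.card_coe_set_eq, ← Nat.card_coe_set_eq, Cfsg.Lib.Solv.card_mul_set, SetLike.coe_sort_coe]
    have hpos : 0 < Nat.card B' * B'.relIndex A :=
      Nat.mul_pos Nat.card_pos (Nat.pos_of_ne_zero Subgroup.index_ne_zero_of_finite)
    refine Nat.le_of_dvd hpos ?_
    have hAd : Nat.card A ∣ Nat.card B' * B'.relIndex A := by
      rw [← Subgroup.inf_relIndex_right]
      have h1 := Subgroup.card_mul_index ((B' ⊓ A).subgroupOf A)
      rw [Nat.card_congr (Subgroup.subgroupOfEquivOfLe (inf_le_right : B' ⊓ A ≤ A)).toEquiv] at h1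
      rw [← h1]
      exact Nat.mul_dvd_mul (Subgroup.card_dvd_of_le inf_le_left) dvd_rfl
    have hTcard : Nat.card T' = Nat.card T := Subgroup.card_map_of_injective (MulAut.conj u).injective
    have hBcard : Nat.card B' = Nat.card B := Subgroup.card_map_of_injective (MulAut.conj (u * v⁻¹)).injective
    rw [Nat.dvd_iff_prime_pow_dvd_dvd]
    intro q j hq hj
    rcases Nat.eq_zero_or_pos j with rfl | hj0
    · exact one_dvd _
    have hqT : q ∣ Nat.card T := hTcard ▸ (dvd_pow_self q hj0.ne').trans hj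
    have hG : q ^ j ∣ Nat.card G := hj.trans (Subgroup.card_subgroup_dvd_card T')
    rcases hT.1 q hq hqT with h | h
    · refine dvd_trans ?_ hAd
      rw [← A.card_mul_index] at hG
      exact (Nat.Coprime.pow_left j ((Nat.Prime.coprime_iff_not_dvd hq).mpr fun h' => hq.ne_one
        (Nat.eq_one_of_dvd_coprimes hAh h h'))).dvd_of_dvd_mul_right hG
    · refine dvd_trans ?_ (Dvd.intro _ rfl)
      rw [hBcard]
      rw [← B.card_mul_index] at hG
      exact (Nat.Coprime.pow_left j ((Nat.Prime.coprime_iff_not_dvd hq).mpr fun h' => hq.ne_one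
        (Nat.eq_one_of_dvd_coprimes hBh h h'))).dvd_of_dvd_mul_right hG
  have hnorm : ∀ (X Y : Subgroup G), Y ≤ X → (Y.subgroupOf X).Normal → ∀ g ∈ X, MulAut.conj g • Y = Y := by
    intro X Y hYX hYn g hg
    apply Subgroup.eq_of_le_of_card_ge
    · rintro _ ⟨z, hz, rfl⟩
      exact hYn.conj_mem ⟨z, hYX hz⟩ hz ⟨g, hg⟩
    · exact (Subgroup.card_map_of_injective (MulAut.conj g).injective).ge
  -- conjugate the product
  have hconj : ∀ g : G, ∃ h : G, MulAut.conj g • B = MulAut.conj h • B ∧ MulAut.conj h • A = A := fun g => by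
    obtain ⟨h, hh, k, hk, rfl⟩ := hHK g
    exact ⟨h, by rw [map_mul, mul_smul, hnorm K B hB hBn k hk], hnorm H A hA hAn h hh⟩
  have key : ∀ (g : G), ((MulAut.conj g • A : Subgroup G) : Set G) * ((MulAut.conj g • B' : Subgroup G) : Set G) =
      ((MulAut.conj g • T' : Subgroup G) : Set G) := fun g => by
    rw [Subgroup.coe_pointwise_smul, Subgroup.coe_pointwise_smul, Subgroup.coe_pointwise_smul (MulAut.conj g) T',
      hset]
    exact (Set.image_mul (MulDistribMulAction.toMonoidEnd (MulAut G) G (MulAut.conj g))).symm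
  obtain ⟨h₁, hB₁, hA₁⟩ := hconj (u * v⁻¹)
  obtain ⟨h₂, hB₂, hA₂⟩ := hconj (x⁻¹ * y)
  refine ⟨MulAut.conj (x * h₂ * h₁⁻¹) • T', ?_⟩
  rw [← key]
  congr 1
  · rw [map_mul, map_mul, mul_smul, mul_smul]
    have : MulAut.conj h₁⁻¹ • A = A := by
      conv_lhs => rw [← hA₁, ← mul_smul, ← map_mul, inv_mul_cancel, map_one, one_smul]
    rw [this, hA₂]
  · rw [hB', map_mul, map_mul, mul_smul, mul_smul, hB₁, ← mul_smul (MulAut.conj h₁⁻¹), ← map_mul,
      inv_mul_cancel, map_one, one_smul, ← hB₂, ← mul_smul, ← map_mul, mul_inv_cancel_left]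

end Cfsg.Agent.S0561
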