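import Cfsg.Statements.S0563
import Cfsg.Agent.Lib.Solv.KW.Kegel
import Cfsg.Agent.S0561


set_option autoImplicit false
open Pointwise
open Cfsg

namespace Cfsg.Agent.S0563



/-- If a finite group G is the product AB of two nilpotent subgroups of coprime orders, then G is solvable, and for every Sylow p-subgroup P of A and Sylow q-subgroup Q of B the product set PQ is a subgroup. -/
theorem result {G : Type*} [Group G] [Finite G] (A B : Subgroup G) (hA : Group.IsNilpotent A) (hB : Group.IsNilpotent B) (hcop : (Nat.card A).Coprime (Nat.card B)) (hAB : ∀ g : G, ∃ a ∈ A, ∃ b ∈ B, g = a * b) : Group.IsSolvable G ∧ ∀ (p q : ℕ) [Fact p.Prime] [Fact q.Prime] (P : Sylow p A) (Q : Sylow q B), ∃ S : Subgroup G, (S : Set G) = (((P : Subgroup A).map A.subtype : Subgroup G) : Set G) * (((Q : Subgroup B).map B.subtype : Subgroup G) : Set G) := by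
  have hG := Cfsg.Lib.Solv.KW.solvable_of_coprime (Nat.card G) G A B le_rfl hA hB hcop hAB
  refine ⟨hG, fun p q _ _ P Q => ?_⟩
  haveI := hG
  obtain ⟨hcard, hAi⟩ := Cfsg.Lib.Solv.KW.card_prod hcop hAB
  have hBi := (Cfsg.Lib.Solv.KW.card_prod hcop.symm (Cfsg.Lib.Solv.KW.IsProd.symm hAB)).2
  have key : ∀ (C : Subgroup G) (r : ℕ) [Fact r.Prime] (R : Sylow r C), Group.IsNilpotent C →
      (Nat.card C).Coprime C.index →
      (((R : Subgroup C).map C.subtype).subgroupOf C).Normal ∧
        (Nat.card ↥((R : Subgroup C).map C.subtype)).Coprime ((R : Subgroup C).map C.subtype).index := by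
    intro C r _ R hC hcp
    refine ⟨?_, ?_⟩
    · rw [show ((R : Subgroup C).map C.subtype).subgroupOf C = (R : Subgroup C) from
        Subgroup.comap_map_eq_self_of_injective C.subtype_injective _]
      exact (Group.isNilpotent_of_finite_tfae.out 0 3 rfl rfl).mp hC r inferInstance R
    · rw [Cfsg.Lib.Core.card_map_subtype, Subgroup.index_map_subtype]
      exact Nat.Coprime.mul_right R.card_coprime_index
        (hcp.coprime_dvd_left (Subgroup.card_subgroup_dvd_card _))
  obtain ⟨hPn, hPh⟩ := key A p P hA (hAi ▸ hcop)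
  obtain ⟨hQn, hQh⟩ := key B q Q hB (hBi ▸ hcop.symm)
  obtain ⟨S, hS⟩ := Cfsg.Agent.S0561.result A B _ _ hAB (Subgroup.map_subtype_le _) hPn
    (Subgroup.map_subtype_le _) hQn hPh hQh 1 1
  exact ⟨S, by simpa using hS⟩

end Cfsg.Agent.S0563
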