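import Cfsg.Statements.S1602
import Cfsg.Agent.Lib.H3.PermList

set_option linter.style.haveILetI false

set_option autoImplicit false
open scoped Pointwise
open Cfsg

namespace Cfsg.Agent.S1602

open Cfsg.Lib.Concrete Cfsg.Lib.H3.PermList MulAction
open scoped Pointwise

def mPair : ℕ := 96

def pairElems : List ℕ := [964481325360141499162376148679672981, 964483180453118813963845921647641697, 964521217413409880008957238343479445, 964526959544950060733173969391301120, 964603019814219205130456673038676644, 964607416422178875351456939591643152, 964645439725246762766033390261684259, 964648653999014767500418424139073552, 965129689683324220091880666538460836, 965132890362703687347048706681619491, 965335714452847722561140417338951777, 965337583146222786715334567951223296, 965779380387043469612548707031101488, 965793303534513959797946166041817188, 965826295839863409417567763399444501, 965833868352697517263260196984588419, 965901074840809782984710669938607617, 965907385916982579339432993005650965, 965941600110021883855843192979178544, 965947990293438639882091966721279648, 966434728551358957953124459725490848, 966442380241599584825775134538238052, 966631202016206592610386958521217537,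 966645204331400389524303704717537411, 967074859662500243213311136834375332, 967075909635102724101123511655976449, 967115226589282292534948957700754084, 967125566930467827837797122833909856, 967196356225024278453069162683059349, 967197801949136882827258373514218544, 967238366767440739595552740464052737, 967247063505094052949309243151534176, 967723896750750303346194884406053013, 967733841321040401379353232401270787, 967927770813357602996123607055353904, 967936863290464837716372031843485699, 968381609638034055039507877770430576, 968383153056680565508693977198627489, 968418351676619459010314996963525760, 968422451464310411692147733019935856, 968499481312637426651533906982488068, 968504847510554189368300672370886709, 968544145918469516227498182695717379, 968545135321441050978315856755296309, 969027101014286206246996547103475840, 969031913137309517270713130658417313, 969229925104235630585605317752570884, 969233470815866706424252157151725059, 969671000896700263962569964275238947, 969687528576852935090603071720524309, 969715356294350016444249789522096132, 969728093394958624242069787147088560, 969796525502110902514592647599927424, 969809183462818025158727680194032149, 969833299754968556577533861807786081,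 969849748280705549271593301746649776, 970320037984288600168782879150230625, 970323868135614503417543296225561604, 970522901660572979195651018726067235, 970526652653821009327028118815788160, 972275833481458598852501234205082660, 972286191069170453251144826103547555, 972307522248820277851354981425368080, 972326755886905814792874542672006261, 972388651884523380316328689283009024, 972397765384854177308474026368862244, 972429454180578999159698363601964544, 972448212911494391136687030200749731, 972925108019386211863368650405725313, 972934990727742659741835355172652149, 973119056086261306221305245071411216, 973127694658863135870557839165589633, 973568439655359102090690334138479107, 973572837490441047886627551969980545, 973606461760135017242396451293777568, 973609598125861528633223146364882435, 973688185015081941186972921756142240, 973693938323087007671206991496759425, 973728749832957646695091466892528661, 973730698927179241618546995091262576, 974214934030210920812493576199063573, 974221874578333694271901752777361444, 974420894486033145025461214469173360, 974424105047130932858884019686748196, 974866512671077254572612822394588213, 974882351490828592216487644632304784, 974905812330075096650451771569390595,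 974922916308797494142910243005974020, 974988840349535188411370066575117985, 975003412766300104502012246775320068, 975028139999629456825649828017483779, 975028771942586029172415301330416289, 975514284599600221949476431463592032, 975516182983038805443963124241805365, 975717741906047689835244066382595168, 975733579490236701918554763475076240, 981354743985032806935179410752456835, 981358153638089821791472457333394096, 981394913044236810766295528369047652, 981399114210046869427417051423590933, 981480243846570833572970351187609264, 981493791035034042311865010661508128, 981520412910606999201358094076593685, 981534751602158928633077349026481153, 982003385314624093088246235046530179, 982021529418017966324684496639282208, 982206605163404451420972718552009828, 982223957758892789872562941018524673, 983957410820360844524340611597256821, 983960037635964892442820723533203972, 983998054775855841866960928579275427, 984000523326138056996531272854554768, 984081732090227779497770725028825232, 984087998624716432073391471508228097, 984119749230037330354641004768276597, 984128563442642855769045999180853280, 984606447908525963158898729326621347, 984615420445681241930112784386895873, 984811819686368639541601192676264452,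 984818244535754528103549039458486304]

def fiveMask : ℕ := 921604

theorem elems_ok : pairElems.all (okIn [mD, mP, mPair]) = true := by decide +kernel
theorem elems_sep : sepList pairElems = true := by decide +kernel
theorem elems_nodup : pairElems.Nodup ∧ pairElems.length = 120 := by decide +kernel
theorem elems_five : (pairElems.all fun p => Nat.beq (pimg p fiveMask) fiveMask) = true := by decide +kernel
theorem elems_faithful : (pairElems.all fun p =>
    !(bits24.all fun i => !(Nat.testBit fiveMask i) || Nat.beq (pget p i) i) ||
      bits24.all fun i => Nat.beq (pget p i) i) = true := by decide +kernel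
theorem five_card : (mset fiveMask).card = 5 := by decide +kernel
theorem mset_pair : mset mPair = mset mX ∪ mset mY := by decide +kernel

theorem std_pair {d : Finset GolayPt} (hd : d ∈ dodecads) {p x y : GolayPt} (hp : p ∈ d) (hx : x ∉ d) (hy : y ∉ d)
    (hxy : x ≠ y) : Std [d, {p}, {x, y}] [mD, mP, mPair] := by
  obtain ⟨g, hg, he⟩ := std_dod_two_out hd hp hx hy hxy
  simp only [List.map_cons, List.map_nil, List.cons.injEq, and_true] at he
  refine ⟨g, hg, ?_⟩
  simp only [List.map_cons, List.map_nil, List.cons.injEq, and_true]
  refine ⟨he.1, he.2.1, ?_⟩
  rw [mset_pair, ← he.2.2.1, ← he.2.2.2]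
  rw [← Finset.smul_finset_union]
  congr 1

theorem card_pair_stab {d : Finset GolayPt} (hd : d ∈ dodecads) {p x y : GolayPt} (hp : p ∈ d) (hx : x ∉ d)
    (hy : y ∉ d) (hxy : x ≠ y) :
    Nat.card ↥(stabilizer M24 d ⊓ stabilizer M24 p ⊓ stabilizer M24 ({x, y} : Finset GolayPt)) = 120 := by
  classical
  set H := stabilizer M24 d ⊓ stabilizer M24 p
  have horb : orbit H ({x, y} : Finset GolayPt) = ↑(Finset.powersetCard 2 dᶜ) := by
    ext t
    rw [Finset.mem_coe, Finset.mem_powersetCard]
    constructor
    · rintro ⟨g, rfl⟩
      have hgd : g.1.1 • d = d := g.2.1
      refine ⟨fun z hz => ?_, by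
        show (g.1.1 • ({x, y} : Finset GolayPt)).card = 2
        rw [card_smul_points, Finset.card_pair hxy]⟩
      have hz' : z ∈ g.1.1 • ({x, y} : Finset GolayPt) := hz
      rw [Finset.mem_smul_finset] at hz'
      obtain ⟨w, hw, rfl⟩ := hz'
      rw [Finset.mem_compl]
      intro hzd
      rw [← hgd] at hzd
      rw [Finset.smul_mem_smul_finset_iff] at hzd
      simp only [Finset.mem_insert, Finset.mem_singleton] at hw
      rcases hw with rfl | rfl
      · exact hx hzd
      · exact hy hzd
    · rintro ⟨hsub, hcard⟩
      obtain ⟨a, b, hab, rfl⟩ := Finset.card_eq_two.1 hcard
      obtain ⟨r, hr, hr2, hr3⟩ : ∃ r, r ∉ d ∧ r ≠ x ∧ r ≠ y := by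
        have h12 : dᶜ.card = 12 := by rw [Finset.card_compl, hd.2]; rfl
        obtain ⟨r, hr, hrn⟩ := Finset.exists_mem_notMem_of_card_lt_card
          (show ({x, y} : Finset GolayPt).card < dᶜ.card by rw [h12, Finset.card_pair hxy]; norm_num)
        simp only [Finset.mem_insert, Finset.mem_singleton, not_or] at hrn
        exact ⟨r, Finset.mem_compl.1 hr, hrn.1, hrn.2⟩
      obtain ⟨s, hs, hs2, hs3⟩ : ∃ r, r ∉ d ∧ r ≠ a ∧ r ≠ b := by
        have h12 : dᶜ.card = 12 := by rw [Finset.card_compl, hd.2]; rfl
        obtain ⟨r, hr, hrn⟩ := Finset.exists_mem_notMem_of_card_lt_card
          (show ({a, b} : Finset GolayPt).card < dᶜ.card by rw [h12, Finset.card_pair hab]; norm_num)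
        simp only [Finset.mem_insert, Finset.mem_singleton, not_or] at hrn
        exact ⟨r, Finset.mem_compl.1 hr, hrn.1, hrn.2⟩
      have ha : a ∉ d := Finset.mem_compl.1 (hsub (by simp))
      have hb : b ∉ d := Finset.mem_compl.1 (hsub (by simp))
      have r2 := Ne.symm hr2
      have r3 := Ne.symm hr3
      have s2 := Ne.symm hs2
      have s3 := Ne.symm hs3
      have xy := Ne.symm hxy
      have ab := Ne.symm hab
      obtain ⟨g, hg, hgd, hgp, hgi⟩ := m11_three_transitive hd hp
        ⟨![x, y, r], by intro i j e; fin_cases i <;> fin_cases j <;> simp_all⟩
        ⟨![a, b, s], by intro i j e; fin_cases i <;> fin_cases j <;> simp_all⟩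
        (by intro i; fin_cases i; exacts [hx, hy, hr]) (by intro i; fin_cases i; exacts [ha, hb, hs])
      refine ⟨⟨⟨g, hg⟩, hgd, hgp⟩, ?_⟩
      show g • ({x, y} : Finset GolayPt) = {a, b}
      rw [Finset.smul_finset_insert, Finset.smul_finset_singleton, Equiv.Perm.smul_def, Equiv.Perm.smul_def,
        show g x = a from hgi 0, show g y = b from hgi 1]
  have h := Nat.card_congr (MulAction.orbitProdStabilizerEquivGroup H ({x, y} : Finset GolayPt))
  rw [Nat.card_prod, Nat.card_coe_set_eq, horb, Set.ncard_coe_finset, Finset.card_powersetCard, Finset.card_compl,
    hd.2, show Fintype.card GolayPt = 24 from rfl, card_dod_point_stabilizer hd hp,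
    show Nat.choose (24 - 12) 2 = 66 by decide] at h
  have e : ↥(stabilizer H ({x, y} : Finset GolayPt)) ≃
      ↥(stabilizer M24 d ⊓ stabilizer M24 p ⊓ stabilizer M24 ({x, y} : Finset GolayPt)) :=
    { toFun := fun g => ⟨g.1.1, g.1.2, g.2⟩
      invFun := fun g => ⟨⟨g.1, g.2.1⟩, g.2.2⟩
      left_inv := fun g => rfl
      right_inv := fun g => rfl }
  rw [← Nat.card_congr e]
  omega

/-- In the 12-point action of the smallest Mathieu group the setwise stabiliser of a pair is isomorphic to the symmetric group of degree 5. -/
theorem result (d : Finset Cfsg.GolayPt) (hd : d ∈ Cfsg.dodecads) (p q q' : Cfsg.GolayPt) (hp : p ∈ d) (hq : q ∉ d) (hq' : q' ∉ d) (hqq' : q ≠ q') : Nonempty (↥(MulAction.stabilizer Cfsg.M24 d ⊓ MulAction.stabilizer Cfsg.M24 p ⊓ MulAction.stabilizer Cfsg.M24 ({q, q'} : Finset Cfsg.GolayPt)) ≃* Equiv.Perm (Fin 5)) := by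
  classical
  have hH := card_pair_stab hd hp hq hq' hqq'
  obtain ⟨e⟩ := (std_pair hd hp hq hq' hqq').equiv
    (stabilizer M24 d ⊓ stabilizer M24 p ⊓ stabilizer M24 ({q, q'} : Finset GolayPt)) fun x => by
    simp only [List.mem_cons, List.not_mem_nil, or_false, forall_eq_or_imp, forall_eq, Subgroup.mem_inf,
      mem_stabilizer_iff, smul_singleton_perm, Finset.singleton_inj]
    constructor
    · rintro ⟨⟨a, b⟩, c⟩; exact ⟨a, b, c⟩
    · rintro ⟨a, b, c⟩; exact ⟨⟨a, b⟩, c⟩
  have hK : Nat.card (stabMasks [mD, mP, mPair]) = pairElems.length := by
    rw [elems_nodup.2, ← Nat.card_congr e.toEquiv, hH]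
  have hex : ∀ m ∈ pairElems, ∃ g ∈ stabMasks [mD, mP, mPair], Rep g m := fun m hm =>
    exists_in (List.all_eq_true.1 elems_ok m hm)
  have hall := complete hex elems_sep elems_nodup.1 hK
  have hinv : ∀ g : stabMasks [mD, mP, mPair], g.1 • mset fiveMask = mset fiveMask := by
    intro g
    obtain ⟨m, hm, hr⟩ := hall g.1 g.2
    have := List.all_eq_true.1 elems_five m hm
    rw [Nat.beq_eq] at this
    rw [hr.smul_mset, this]
  have hmem : ∀ (g : stabMasks [mD, mP, mPair]) (a : GolayPt), g.1 a ∈ mset fiveMask ↔ a ∈ mset fiveMask := by
    intro g a
    conv_lhs => rw [← hinv g]
    rw [← Equiv.Perm.smul_def, Finset.smul_mem_smul_finset_iff]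
  let ρ : stabMasks [mD, mP, mPair] →* Equiv.Perm ↥(mset fiveMask) :=
    { toFun := fun g => g.1.subtypePerm (hmem g)
      map_one' := Equiv.ext fun _ => rfl
      map_mul' := fun _ _ => Equiv.ext fun _ => rfl }
  have hinj : Function.Injective ρ := by
    rw [injective_iff_map_eq_one]
    intro g hg
    obtain ⟨m, hm, hr⟩ := hall g.1 g.2
    have hchk := List.all_eq_true.1 elems_faithful m hm
    rw [Bool.or_eq_true] at hchk
    rcases hchk with h | h
    · exfalso
      rw [Bool.not_eq_true', ← Bool.not_eq_true, List.all_eq_true] at h
      apply h
      intro i hi
      rw [Bool.or_eq_true, Bool.not_eq_true']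
      cases hb : Nat.testBit fiveMask i
      · exact Or.inl rfl
      · right
        rw [Nat.beq_eq]
        have hmem' : gpt ⟨i, mem_bits24.1 hi⟩ ∈ mset fiveMask := by rw [mem_mset, gidx_gpt]; exact hb
        have := congrArg Subtype.val (Equiv.congr_fun hg ⟨_, hmem'⟩)
        change g.1 (gpt ⟨i, mem_bits24.1 hi⟩) = gpt ⟨i, mem_bits24.1 hi⟩ at this
        have e' := hr.apply ⟨i, mem_bits24.1 hi⟩
        rw [this, gidx_gpt] at e'
        exact e'.symm
    · apply Subtype.ext
      apply hr.ext
      intro a
      rw [List.all_eq_true] at h
      have := h _ (mem_bits24.2 (gidx a).isLt)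
      rw [Nat.beq_eq] at this
      rw [this]; rfl
  have hbij : Function.Bijective ρ := by
    rw [Nat.bijective_iff_injective_and_card]
    refine ⟨hinj, ?_⟩
    rw [hK, elems_nodup.2, Nat.card_perm, Nat.card_eq_fintype_card, Fintype.card_coe, five_card]
    rfl
  exact ⟨(e.trans (MulEquiv.ofBijective ρ hbij)).trans ((mset fiveMask).equivFinOfCardEq five_card).permCongrHom⟩

end Cfsg.Agent.S1602
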