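import Cfsg.Statements.S1008
import Cfsg.Agent.Lib.Small.Order168Max
-- import your own Cfsg.Agent.* helpers here

set_option autoImplicit false
open Cfsg

namespace Cfsg.Agent.S1008

open Cfsg.Lib.Small


/-- In a simple group of order 168 every maximal subgroup is either isomorphic to the symmetric group of degree 4 or non-abelian of order 21; the maximal subgroups of order 21 form one conjugacy class and those isomorphic to the symmetric group of degree 4 form exactly two conjugacy classes. -/
theorem result {G : Type*} [Group G] [Finite G] [IsSimpleGroup G] (h : Nat.card G = 168) : (∀ M : Subgroup G, IsCoatom M → Nonempty (↥M ≃* Equiv.Perm (Fin 4)) ∨ (Nat.card ↥M = 21 ∧ ¬ IsMulCommutative ↥M)) ∧ (∀ M M' : Subgroup G, IsCoatom M → IsCoatom M' → Nat.card ↥M = 21 → Nat.card ↥M' = 21 → ∃ g : G, M' = M.map (MulAut.conj g).toMonoidHom) ∧ ∃ M₁ M₂ : Subgroup G, IsCoatom M₁ ∧ IsCoatom M₂ ∧ Nonempty (↥M₁ ≃* Equiv.Perm (Fin 4)) ∧ Nonempty (↥M₂ ≃* Equiv.Perm (Fin 4)) ∧ (∀ g : G, M₂ ≠ M₁.map (MulAut.conj g).toMonoidHom) ∧ ∀ M : Subgroup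 G, IsCoatom M → Nonempty (↥M ≃* Equiv.Perm (Fin 4)) → ∃ g : G, M = M₁.map (MulAut.conj g).toMonoidHom ∨ M = M₂.map (MulAut.conj g).toMonoidHom := by
  classical
  have := Fact.mk Nat.prime_two
  obtain ⟨T⟩ : Nonempty (Sylow 2 G) := inferInstance
  obtain ⟨U, W, hne, hU, hW, hUk, hWk, hall⟩ := Order168.klein_pair h T
  refine ⟨fun M hM => ?_, fun M M' _ _ h1 h2 => Order168.conj_of_card21 h h1 h2,
    Subgroup.normalizer (U : Set G), Subgroup.normalizer (W : Set G),
    Order168.isCoatom_of_card h (Or.inr (Order168.klein_normalizer_card h hUk)),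
    Order168.isCoatom_of_card h (Or.inr (Order168.klein_normalizer_card h hWk)),
    Order168.iso_perm_four h (Order168.klein_normalizer_card h hUk),
    Order168.iso_perm_four h (Order168.klein_normalizer_card h hWk), ?_, ?_⟩
  · rcases Order168.card_coatom h hM with e | e
    · refine Or.inr ⟨e, fun hc => ?_⟩
      have := Fact.mk (show Nat.Prime 7 by norm_num)
      have := Fact.mk Nat.prime_three
      obtain ⟨⟨x, hx⟩, hxo⟩ := exists_prime_orderOf_dvd_card' 7 (show 7 ∣ Nat.card M by rw [e]; norm_num)
      obtain ⟨⟨y, hy⟩, hyo⟩ := exists_prime_orderOf_dvd_card' 3 (show 3 ∣ Nat.card M by rw [e]; norm_num)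
      rw [Subgroup.orderOf_mk] at hxo hyo
      have := Order168.orderOf_dvd_prime h (Or.inr rfl) hxo
        (show Commute x y from congrArg Subtype.val (hc.is_comm.comm (⟨x, hx⟩ : M) ⟨y, hy⟩))
      rw [hyo] at this
      norm_num at this
    · exact Or.inl (Order168.iso_perm_four h e)
  · intro g he
    set U' := U.map (MulAut.conj g).toMonoidHom with hU'
    have hUk' : IsKleinFour U' := isKleinFour_map U hUk _ (MulAut.conj g).injective
    have hN : Subgroup.normalizer (U' : Set G) = Subgroup.normalizer (W : Set G) := by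
      rw [he]
      exact (Subgroup.eq_of_le_of_card_ge (Subgroup.le_normalizer_map _) (by
        rw [Subgroup.card_map_of_injective (MulAut.conj g).injective,
          Order168.klein_normalizer_card h hUk, Order168.klein_normalizer_card h hUk'])).symm
    -- two distinct normal Klein subgroups would make the Sylow subgroup normal
    have hne' : U' ≠ W := Order168.klein_not_conj h T hU hW hUk hWk hne g
    set N := Subgroup.normalizer (W : Set G)
    have hU'N : U' ≤ N := hN ▸ Subgroup.le_normalizer
    obtain ⟨R, hR⟩ := ((IsPGroup.of_card (p := 2) (n := 2) hUk'.card_four).to_sup_of_normal_right'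
      (IsPGroup.of_card (p := 2) (n := 2) hWk.card_four) hU'N).exists_le_sylow
    have hlt : U' < U' ⊔ W := lt_of_le_of_ne le_sup_left fun heq => hne'
      (Subgroup.eq_of_le_of_card_ge (heq ▸ le_sup_right : W ≤ U') (by
        rw [hUk'.card_four, hWk.card_four])).symm
    have hsupR : U' ⊔ W = (R : Subgroup G) := by
      refine Subgroup.eq_of_le_of_card_ge hR ?_
      rw [Order168.sylow_two_card h R]
      have h1 := Subgroup.card_dvd_of_le hlt.le
      have h2 : Nat.card U' ≠ Nat.card ↥(U' ⊔ W) := fun heq =>
        hlt.ne (Subgroup.eq_of_le_of_card_ge hlt.le heq.ge)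
      rw [hUk'.card_four] at h1 h2
      have := Nat.card_pos (α := ↥(U' ⊔ W))
      obtain ⟨c, hc⟩ := h1
      omega
    have hle : N ≤ Subgroup.normalizer ((U' ⊔ W : Subgroup G) : Set G) := by
      intro x hx
      rw [Subgroup.mem_normalizer_iff_map_conj_eq]
      change Subgroup.map (MulAut.conj x).toMonoidHom _ = _
      have e1 : U'.map (MulAut.conj x).toMonoidHom = U' :=
        Subgroup.mem_normalizer_iff_map_conj_eq.mp (hN.symm ▸ hx : x ∈ Subgroup.normalizer (U' : Set G))
      have e2 : W.map (MulAut.conj x).toMonoidHom = W := Subgroup.mem_normalizer_iff_map_conj_eq.mp hx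
      rw [Subgroup.map_sup, e1, e2]
    rw [hsupR, Order168.normalizer_two h R] at hle
    have := Subgroup.card_le_of_le hle
    rw [Order168.klein_normalizer_card h hWk, Order168.sylow_two_card h R] at this
    omega
  · intro M hM hiso
    obtain ⟨e⟩ := hiso
    have hM24 : Nat.card M = 24 := by
      rw [Nat.card_congr e.toEquiv, Nat.card_perm, Nat.card_fin]; decide
    obtain ⟨V, hVk, rfl⟩ := Order168.eq_klein_normalizer h hM24
    obtain ⟨R, hR⟩ := Order168.exists_sylow_ge_klein hVk
    obtain ⟨g, hg⟩ := MulAction.exists_smul_eq G R T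
    set V' := V.map (MulAut.conj g).toMonoidHom with hV'
    have hV'T : V' ≤ (T : Subgroup G) := by
      rw [← hg]
      rintro _ ⟨x, hx, rfl⟩
      exact Order168.map_conj_mem R g (hR hx)
    have hVk' : IsKleinFour V' := isKleinFour_map V hVk _ (MulAut.conj g).injective
    have hconj : Subgroup.normalizer (V : Set G) =
        (Subgroup.normalizer (V' : Set G)).map (MulAut.conj g⁻¹).toMonoidHom := by
      refine (Subgroup.eq_of_le_of_card_ge ?_ (by
        rw [Subgroup.card_map_of_injective (MulAut.conj g⁻¹).injective,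
          Order168.klein_normalizer_card h hVk, Order168.klein_normalizer_card h hVk'])).symm
      refine (Subgroup.le_normalizer_map _).trans (le_of_eq ?_)
      congr 2
      rw [hV', Cfsg.Lib.Coprime.map_conj_conj, inv_mul_cancel, Cfsg.Lib.Coprime.map_conj_one]
    refine ⟨g⁻¹, ?_⟩
    rcases hall V' hV'T hVk' with e' | e' <;> rw [hconj, e']
    · exact Or.inl rfl
    · exact Or.inr rfl

end Cfsg.Agent.S1008
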