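import Cfsg.Statements.S0326


set_option autoImplicit false
open Cfsg

namespace Cfsg.Agent.S0326

/-- The Suzuki–Tits ovoid over a finite field with `q` elements has `q² + 1` points. -/
theorem result {F : Type*} [Field F] [Fintype F] (m : ℕ) :
    Nat.card (Cfsg.suzukiOvoid F m) = Fintype.card F ^ 2 + 1 := by
  classical
  let P : F × F → Projectivization F (Fin 4 → F) := fun z =>
    Projectivization.mk F ![z.1 * z.2 + z.1 ^ (2 ^ (m + 1) + 2) + z.2 ^ (2 ^ (m + 1)), z.2, z.1, 1]
      (fun h => one_ne_zero (congrFun h 3))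
  let inf : Projectivization F (Fin 4 → F) :=
    Projectivization.mk F ![1, 0, 0, 0] (fun h => one_ne_zero (congrFun h 0))
  let f : Option (F × F) → Cfsg.suzukiOvoid F m := fun o => match o with
    | none => ⟨inf, _, _, rfl, Or.inl rfl⟩
    | some z => ⟨P z, _, _, rfl, Or.inr ⟨z.1, z.2, rfl⟩⟩
  have hbij : Function.Bijective f := by
    refine ⟨fun a b h => ?_, ?_⟩
    · have h' := congrArg Subtype.val h
      rcases a with _ | z <;> rcases b with _ | w
      · rfl
      · obtain ⟨c, hc⟩ := (Projectivization.mk_eq_mk_iff' F _ _ _ _).mp h'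
        have h3 := congrFun hc 3
        have h0 := congrFun hc 0
        simp at h3 h0
        simp [h3] at h0
      · obtain ⟨c, hc⟩ := (Projectivization.mk_eq_mk_iff' F _ _ _ _).mp h'
        have h3 := congrFun hc 3
        simp at h3
      · obtain ⟨c, hc⟩ := (Projectivization.mk_eq_mk_iff' F _ _ _ _).mp h'
        have h3 := congrFun hc 3
        have h2 := congrFun hc 2
        have h1 := congrFun hc 1
        simp at h3 h2 h1
        rw [h3, one_mul] at h1 h2
        exact congrArg some (Prod.ext h2.symm h1.symm)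
    · rintro ⟨p, v, hv, rfl, hv' | ⟨x, y, hv'⟩⟩
      · subst hv'; exact ⟨none, rfl⟩
      · subst hv'; exact ⟨some (x, y), rfl⟩
  rw [← Nat.card_eq_of_bijective f hbij, Nat.card_eq_fintype_card, Fintype.card_option,
    Fintype.card_prod, sq]

end Cfsg.Agent.S0326
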