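import Cfsg.Statements.S3379
import Mathlib.GroupTheory.SpecificGroups.ZGroup

set_option autoImplicit false
open Cfsg

namespace Cfsg.Agent.S3379

/-- Let G be a finite group all of whose Sylow subgroups are cyclic. Then G is generated by two elements x and y of coprime orders n and m with x⁻¹yx = y^r, where gcd(r − 1, m) = 1 and r^n ≡ 1 (mod m). -/
theorem result {G : Type*} [Group G] [Finite G]
    (hZ : ∀ (p : ℕ) [Fact p.Prime] (P : Sylow p G), IsCyclic (P : Subgroup G)) :
    ∃ (x y : G) (n m r : ℕ), Subgroup.closure {x, y} = ⊤ ∧ orderOf x = n ∧ orderOf y = m ∧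
      x⁻¹ * y * x = y ^ r ∧ Nat.Coprime (r - 1) m ∧ Nat.Coprime n m ∧ 1 ≤ r ∧ r ^ n % m = 1 % m := by
  classical
  haveI hz : IsZGroup G := ⟨fun p hp P => @hZ p ⟨hp⟩ P⟩
  set N := commutator G with hN
  haveI : IsCyclic N := IsZGroup.isCyclic_commutator G
  obtain ⟨⟨y, hyN⟩, hy⟩ := IsCyclic.exists_generator (α := N)
  have hzy : Subgroup.zpowers y = N := by
    refine le_antisymm (Subgroup.zpowers_le.2 hyN) fun g hg => ?_
    obtain ⟨k, hk⟩ := Subgroup.mem_zpowers_iff.1 (hy ⟨g, hg⟩)
    exact Subgroup.mem_zpowers_iff.2 ⟨k, by simpa using congrArg Subtype.val hk⟩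
  obtain ⟨H, hH⟩ := Subgroup.exists_right_complement'_of_coprime hz.coprime_commutator_index
  haveI : IsCyclic H := by
    have h1 : Abelianization G ≃* H := hH.symm.QuotientMulEquiv
    exact isCyclic_of_surjective h1.toMonoidHom h1.surjective
  obtain ⟨⟨x, hxH⟩, hx⟩ := IsCyclic.exists_generator (α := H)
  have hzx : Subgroup.zpowers x = H := by
    refine le_antisymm (Subgroup.zpowers_le.2 hxH) fun g hg => ?_
    obtain ⟨k, hk⟩ := Subgroup.mem_zpowers_iff.1 (hx ⟨g, hg⟩)
    exact Subgroup.mem_zpowers_iff.2 ⟨k, by simpa using congrArg Subtype.val hk⟩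
  have hconj : x⁻¹ * y * x ∈ Subgroup.zpowers y := by
    rw [hzy]
    simpa using (inferInstance : N.Normal).conj_mem y hyN x⁻¹
  obtain ⟨r₀, hr₀⟩ := mem_powers_iff_mem_zpowers.2 hconj
  have hr₀ : y ^ r₀ = x⁻¹ * y * x := hr₀
  have hm : 0 < orderOf y := orderOf_pos y
  set r := r₀ + orderOf y with hrdef
  have hr : x⁻¹ * y * x = y ^ r := by rw [hrdef, pow_add, pow_orderOf_eq_one, mul_one, hr₀]
  have htop : Subgroup.closure {x, y} = ⊤ := by
    refine eq_top_iff.2 (hH.sup_eq_top.symm.le.trans (sup_le ?_ ?_))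
    · rw [← hN, ← hzy]
      exact Subgroup.zpowers_le.2 (Subgroup.subset_closure (by simp))
    · rw [← hzx]
      exact Subgroup.zpowers_le.2 (Subgroup.subset_closure (by simp))
  have hn : x ^ orderOf x = 1 := pow_orderOf_eq_one x
  refine ⟨x, y, orderOf x, orderOf y, r, htop, rfl, rfl, hr, ?_, ?_, by omega, ?_⟩
  · -- the commutator is generated by `y ^ (r - 1)`
    set M := Subgroup.zpowers (y ^ (r - 1)) with hM
    have hMn : M.Normal := by
      rw [← Subgroup.normalizer_eq_top_iff, eq_top_iff, ← htop, Subgroup.closure_le]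
      have hstep : ∀ n ∈ M, x⁻¹ * n * x ∈ M := by
        intro n hn
        obtain ⟨k, rfl⟩ := Subgroup.mem_zpowers_iff.1 hn
        have h1 : x⁻¹ * (y ^ (r - 1)) ^ k * x = ((y ^ (r - 1)) ^ r) ^ k := by
          rw [← pow_mul, mul_comm, pow_mul, ← hr,
            show (x⁻¹ * y * x) ^ (r - 1) = x⁻¹ * y ^ (r - 1) * x by
              simpa using conj_pow (i := r - 1) (a := x⁻¹) (b := y),
            show (x⁻¹ * y ^ (r - 1) * x) ^ k = x⁻¹ * (y ^ (r - 1)) ^ k * x by
              simpa using conj_zpow (i := k) (a := x⁻¹) (b := y ^ (r - 1))]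
        rw [h1]
        exact zpow_mem (pow_mem (Subgroup.mem_zpowers _) _) k
      rintro g hg
      simp only [Set.mem_insert_iff, Set.mem_singleton_iff] at hg
      rcases hg with rfl | rfl
      · have := Subgroup.mem_normalizer_fintype (S := (M : Set G)) (x := g⁻¹)
          (fun n hn => by simpa using hstep n hn)
        simpa using inv_mem this
      · refine Subgroup.mem_normalizer_fintype fun n hn => ?_
        obtain ⟨k, rfl⟩ := Subgroup.mem_zpowers_iff.1 hn
        show g * (g ^ (r - 1)) ^ k * g⁻¹ ∈ M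
        rw [((Commute.refl g).pow_right (r - 1) |>.zpow_right k).eq, mul_inv_cancel_right]
        exact zpow_mem (Subgroup.mem_zpowers _) k
    have hcomm : N ≤ M := by
      let π := QuotientGroup.mk' M
      have hgen : Subgroup.closure {π x, π y} = ⊤ := by
        rw [← Set.image_pair, ← MonoidHom.map_closure, htop,
          Subgroup.map_top_of_surjective _ (QuotientGroup.mk'_surjective M)]
      have hxy : π y * π x = π x * π y := by
        have h1 : π (y ^ (r - 1)) = 1 := (QuotientGroup.eq_one_iff _).2 (Subgroup.mem_zpowers _)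
        have h2 : π (x⁻¹ * y * x) = π y := by
          rw [hr, show r = (r - 1) + 1 by omega, pow_add, map_mul, h1, one_mul, pow_one]
        rw [map_mul, map_mul, map_inv, mul_assoc, inv_mul_eq_iff_eq_mul] at h2
        exact h2
      have hc : Subgroup.center (G ⧸ M) = ⊤ := by
        rw [eq_top_iff, ← hgen, Subgroup.closure_le]
        intro g hg
        have hcz : Subgroup.closure {π x, π y} ≤ Subgroup.centralizer ({g} : Set (G ⧸ M)) := by
          rw [Subgroup.closure_le]
          intro h hh
          simp only [Set.mem_insert_iff, Set.mem_singleton_iff] at hg hh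
          rw [SetLike.mem_coe, Subgroup.mem_centralizer_singleton_iff]
          rcases hg with rfl | rfl <;> rcases hh with rfl | rfl <;> first | rfl | exact hxy | exact hxy.symm
        rw [hgen] at hcz
        exact Subgroup.mem_center_iff.2 fun h =>
          Subgroup.mem_centralizer_singleton_iff.1 (hcz (Subgroup.mem_top h))
      rw [hN, commutator_def, Subgroup.commutator_le]
      intro a _ b _
      rw [← QuotientGroup.eq_one_iff]
      show π (a * b * a⁻¹ * b⁻¹) = 1
      rw [map_mul, map_mul, map_mul, map_inv, map_inv, mul_inv_eq_one, mul_inv_eq_iff_eq_mul]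
      exact (Subgroup.mem_center_iff.1 (hc ▸ Subgroup.mem_top (π a)) (π b)).symm
    have hcard := Subgroup.card_le_of_le hcomm
    rw [← hzy, hM, Nat.card_zpowers, Nat.card_zpowers, orderOf_pow] at hcard
    rw [Nat.coprime_comm]
    by_contra hne
    have hg : 1 < (orderOf y).gcd (r - 1) := by
      rcases Nat.lt_or_ge 1 ((orderOf y).gcd (r - 1)) with h | h
      · exact h
      · exfalso
        have := Nat.gcd_pos_of_pos_left (r - 1) hm
        exact hne (show (orderOf y).gcd (r - 1) = 1 by omega)
    exact absurd hcard (not_le.2 (Nat.div_lt_self hm hg))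
  · rw [← Nat.card_zpowers, ← Nat.card_zpowers, hzx, hzy, Nat.coprime_comm]
    have hidx : Nat.card H = N.index := hH.symm.index_eq_card.symm
    rw [hidx]
    exact hz.coprime_commutator_index
  · have h : ∀ k : ℕ, (x⁻¹) ^ k * y * x ^ k = y ^ (r ^ k) := by
      intro k
      induction k with
      | zero => simp
      | succ k ih =>
        rw [pow_succ (r), pow_mul, ← ih, show ((x⁻¹) ^ k * y * x ^ k) ^ r = (x⁻¹) ^ k * y ^ r * x ^ k by
          simpa [inv_pow] using conj_pow (i := r) (a := (x⁻¹) ^ k) (b := y), ← hr, pow_succ, pow_succ']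
        simp [mul_assoc]
    have h1 := h (orderOf x)
    rw [inv_pow, hn, inv_one, one_mul, mul_one] at h1
    have h2 := pow_eq_pow_iff_modEq.1 (show y ^ (r ^ orderOf x) = y ^ 1 by rw [pow_one]; exact h1.symm)
    exact h2

end Cfsg.Agent.S3379
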