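import Cfsg.Statements.S3774
-- import your own Cfsg.Agent.* helpers here

set_option autoImplicit false
open Cfsg

namespace Cfsg.Agent.S3774

theorem dvd_card_sub_one {A X : Type*} [Group A] [MulAction A X] [Finite X] (o : X) (m : ℕ)
    (ho : ∀ a : A, a • o = o) (h : ∀ x : X, x ≠ o → m ∣ (MulAction.orbit A x).ncard) :
    m ∣ Nat.card X - 1 := by
  classical
  haveI := Fintype.ofFinite (MulAction.orbitRel.Quotient A X)
  rw [Nat.card_congr (MulAction.selfEquivSigmaOrbits' A X), Nat.card_sigma]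
  have h1 : Nat.card (MulAction.orbitRel.Quotient.orbit (⟦o⟧ : MulAction.orbitRel.Quotient A X)) = 1 := by
    rw [MulAction.orbitRel.Quotient.orbit_mk]
    have : MulAction.orbit A o = {o} := by
      ext y; simp only [MulAction.mem_orbit_iff, Set.mem_singleton_iff]
      exact ⟨fun ⟨a, ha⟩ => ha ▸ ho a, fun hy => ⟨1, by rw [hy, one_smul]⟩⟩
    rw [this]; simp
  rw [← Finset.add_sum_erase _ _ (Finset.mem_univ (⟦o⟧ : MulAction.orbitRel.Quotient A X)), h1, Nat.add_sub_cancel_left]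
  refine Finset.dvd_sum fun w hw => ?_
  obtain ⟨x, rfl⟩ := Quotient.exists_rep w
  rw [MulAction.orbitRel.Quotient.orbit_mk, Nat.card_coe_set_eq]
  refine h x fun hx => ?_
  rw [hx] at hw
  exact (Finset.mem_erase.mp hw).1 rfl

/-- Let G be a nontrivial finite 2-group whose automorphism group permutes the involutions of G transitively. Then every involution of G is central, so that the involutions together with 1 form the subgroup Ω₁(Z(G)), and if this subgroup has order q then |G| is a power of q. -/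
theorem result {G : Type*} [Group G] [Finite G] [Nontrivial G] (hG : IsPGroup 2 G) (htrans : ∀ x y : G, x ≠ 1 → x ^ 2 = 1 → y ≠ 1 → y ^ 2 = 1 → ∃ a : MulAut G, a x = y) : (∀ x : G, x ^ 2 = 1 → x ∈ Subgroup.center G) ∧ ∃ m : ℕ, Nat.card G = Nat.card {z : G // z ^ 2 = 1} ^ m := by
  classical
  haveI : Fact (Nat.Prime 2) := ⟨Nat.prime_two⟩
  obtain ⟨t, htc, ht2⟩ : ∃ t : G, t ∈ Subgroup.center G ∧ orderOf t = 2 := by
    haveI := hG.center_nontrivial
    obtain ⟨k, hk⟩ := IsPGroup.iff_card.mp (hG.to_subgroup (Subgroup.center G))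
    have hk0 : k ≠ 0 := by
      rintro rfl
      have := Finite.one_lt_card (α := Subgroup.center G)
      rw [pow_zero] at hk; omega
    obtain ⟨z, hz⟩ := exists_prime_orderOf_dvd_card' (G := Subgroup.center G) 2 (hk ▸ dvd_pow_self 2 hk0)
    exact ⟨z, z.2, by rw [← hz, Subgroup.orderOf_coe]⟩
  have ht1 : t ≠ 1 := fun h => by simp [h] at ht2
  have htsq : t ^ 2 = 1 := ht2 ▸ pow_orderOf_eq_one t
  have hcent : ∀ x : G, x ^ 2 = 1 → x ∈ Subgroup.center G := by
    intro x hx
    by_cases h1 : x = 1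
    · exact h1 ▸ one_mem _
    obtain ⟨a, ha⟩ := htrans t x ht1 htsq h1 hx
    rw [Subgroup.mem_center_iff]
    intro g
    rw [← ha, ← a.apply_symm_apply g, ← map_mul, ← map_mul, Subgroup.mem_center_iff.mp htc]
  refine ⟨hcent, ?_⟩
  let E : Subgroup G :=
    { carrier := {z | z ^ 2 = 1}
      one_mem' := one_pow 2
      mul_mem' := fun {x y} hx hy => by
        show (x * y) ^ 2 = 1
        rw [(show Commute x y from Subgroup.mem_center_iff.mp (hcent y hy) x).mul_pow, show x ^ 2 = 1 from hx,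
          show y ^ 2 = 1 from hy, one_mul]
      inv_mem' := fun {x} hx => by
        show x⁻¹ ^ 2 = 1
        rw [inv_pow, show x ^ 2 = 1 from hx, inv_one] }
  obtain ⟨N, hN⟩ := IsPGroup.iff_card.mp hG
  obtain ⟨n, hn⟩ := IsPGroup.iff_card.mp (hG.to_subgroup E)
  change ∃ m, Nat.card G = Nat.card ↥E ^ m
  have hone : ({1}ᶜ ∩ {z : G | z ^ 2 = 1} : Set G).ncard = 2 ^ n - 1 := by
    have h1 : ({1}ᶜ ∩ {z : G | z ^ 2 = 1} : Set G) = (E : Set G) \ {1} := by
      ext z; exact ⟨fun h => ⟨h.2, h.1⟩, fun h => ⟨h.2, h.1⟩⟩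
    rw [h1, Set.ncard_sdiff_singleton_of_mem (show (1 : G) ∈ (E : Set G) from one_mem E), ← Nat.card_coe_set_eq]
    exact congrArg (· - 1) hn
  have hinv : ∀ g : G, g ≠ 1 → ∃ k : ℕ, orderOf (g ^ k) = 2 := by
    intro g hg
    obtain ⟨j, hj⟩ := (IsPGroup.iff_orderOf.mp hG) g
    have hj0 : j ≠ 0 := fun h => hg (orderOf_eq_one_iff.mp (by rw [hj, h, pow_zero]))
    refine ⟨2 ^ (j - 1), ?_⟩
    rw [orderOf_pow' g (by positivity), hj, Nat.gcd_eq_right (pow_dvd_pow 2 (by omega)),
      Nat.pow_div (by omega) (by norm_num), show j - (j - 1) = 1 by omega, pow_one]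
  have hdiv : 2 ^ n - 1 ∣ Nat.card G - 1 := by
    refine dvd_card_sub_one (A := MulAut G) (1 : G) _ (fun a => map_one a) fun g hg => ?_
    obtain ⟨k, hk⟩ := hinv g hg
    have hs1 : g ^ k ≠ 1 := fun h => by simp [h] at hk
    have hs2 : (g ^ k) ^ 2 = 1 := hk ▸ pow_orderOf_eq_one _
    have horb : MulAction.orbit (MulAut G) (g ^ k) = ({1}ᶜ ∩ {z : G | z ^ 2 = 1} : Set G) := by
      ext z
      constructor
      · rintro ⟨a, rfl⟩
        refine ⟨fun h => hs1 (a.injective ?_), ?_⟩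
        · exact (show a (g ^ k) = 1 from h).trans (map_one a).symm
        · show (a (g ^ k)) ^ 2 = 1
          rw [← map_pow, hs2, map_one]
      · rintro ⟨hz1, hz2⟩
        obtain ⟨a, ha⟩ := htrans _ z hs1 hs2 hz1 hz2
        exact ⟨a, ha⟩
    rw [← hone, ← horb, ← MulAction.index_stabilizer, ← MulAction.index_stabilizer]
    refine Subgroup.index_dvd_of_le fun a ha => ?_
    rw [MulAction.mem_stabilizer_iff] at ha ⊢
    show a (g ^ k) = g ^ k
    rw [map_pow, show a g = g from ha]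
  rw [hN] at hdiv
  have hgcd := Nat.pow_sub_one_gcd_pow_sub_one 2 n N
  rw [Nat.gcd_eq_left hdiv] at hgcd
  have hp1 := Nat.one_le_two_pow (n := n)
  have hp2 := Nat.one_le_two_pow (n := Nat.gcd n N)
  have : 2 ^ n = 2 ^ Nat.gcd n N := by omega
  have hnd : n ∣ N := by
    rw [Nat.pow_right_injective le_rfl this]; exact Nat.gcd_dvd_right n N
  obtain ⟨m, rfl⟩ := hnd
  exact ⟨m, by rw [hN, hn, pow_mul]⟩

end Cfsg.Agent.S3774
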