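import Cfsg.Agent.Lib.Char.ZassenhausFocal

set_option autoImplicit false
open Cfsg Cfsg.Lib.Char

namespace Cfsg.Agent.S0739

theorem le_derived {G Ω : Type*} [Group G] [Finite G] [MulAction G Ω] [Fintype Ω] (hZ : Cfsg.IsZassenhausGroup G Ω) {a b : Ω} (hab : a ≠ b) (hodd : Odd (Nat.card ↥(MulAction.stabilizer G a ⊓ MulAction.stabilizer G b))) (hnil : ∀ q : ℕ, q.Prime → q ∣ Nat.card ↥(MulAction.stabilizer G a ⊓ MulAction.stabilizer G b) → ¬ ∃ N : Subgroup G, N.Normal ∧ N.index = q ^ (Nat.card G).factorization q) :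
    (MulAction.stabilizer G a ⊓ MulAction.stabilizer G b : Subgroup G) ≤ commutator G := by
  set D : Subgroup G := MulAction.stabilizer G a ⊓ MulAction.stabilizer G b with hD
  haveI := zas_isZGroup hZ hab hodd
  have hco := zas_D_coprime_index_gen hZ hab hodd
  suffices h : Nat.card D ∣ Nat.card ↥(commutator G ⊓ D) by
    have := Subgroup.eq_of_le_of_card_ge (inf_le_right : commutator G ⊓ D ≤ D)
      (Nat.le_of_dvd Nat.card_pos h)
    exact inf_eq_right.mp this
  refine (Nat.factorization_prime_le_iff_dvd Nat.card_pos.ne' Nat.card_pos.ne').mp fun q hq => ?_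
  by_cases hqd : q ∣ Nat.card D
  swap
  · simp [Nat.factorization_eq_zero_of_not_dvd hqd]
  haveI := Fact.mk hq
  obtain ⟨P⟩ : Nonempty (Sylow q D) := inferInstance
  set Q := (P : Subgroup D).map D.subtype with hQ
  have hcard : Nat.card Q = q ^ (Nat.card G).factorization q := by
    rw [hQ, Subgroup.card_subtype, P.card_eq_multiplicity, ← D.card_mul_index,
      Nat.factorization_mul Nat.card_pos.ne' Subgroup.index_ne_zero_of_finite, Finsupp.add_apply,
      Nat.factorization_eq_zero_of_not_dvd fun h => hq.not_dvd_one (hco ▸ Nat.dvd_gcd hqd h), add_zero]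
  let S : Sylow q G := Sylow.ofCard Q hcard
  haveI : IsCyclic P := IsZGroup.isZGroup q hq P
  haveI : IsCyclic S := isCyclic_of_surjective _
    ((P : Subgroup D).equivMapOfInjective D.subtype Subtype.val_injective).surjective
  rcases Sylow.normalizer_le_centralizer_or_le_commutator S with h | h
  · refine absurd ⟨(MonoidHom.transferSylow S h).ker, inferInstance, ?_⟩ (hnil q hq hqd)
    rw [(MonoidHom.ker_transferSylow_isComplement' S h).symm.index_eq_card]
    exact hcard
  · have hle : Q ≤ commutator G ⊓ D := le_inf h (Subgroup.map_subtype_le _)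
    have := Subgroup.card_dvd_of_le hle
    rw [hQ, Subgroup.card_subtype, P.card_eq_multiplicity] at this
    exact (hq.pow_dvd_iff_le_factorization Nat.card_pos.ne').mp this

/-- In a finite Zassenhaus group whose two-point stabiliser `H = G_{a,b}` has odd order `d`, and which has no normal `q`-complement for any prime `q ∣ d`, `H` is cyclic, `C_G(H) = H`, and every element swapping `a` and `b` inverts each element of `H`. -/
theorem result {G Ω : Type*} [Group G] [Finite G] [MulAction G Ω] [Fintype Ω] (hZ : Cfsg.IsZassenhausGroup G Ω) {a b : Ω} (hab : a ≠ b) (hodd : Odd (Nat.card ↥(MulAction.stabilizer G a ⊓ MulAction.stabilizer G b))) (hnil : ∀ q : ℕ, q.Prime → q ∣ Nat.card ↥(MulAction.stabilizer G a ⊓ MulAction.stabilizer G b) → ¬ ∃ N : Subgroup G, N.Normal ∧ N.index = q ^ (Nat.card G).factorization q) : IsCyclic ↥(MulAction.stabilizer G a ⊓ MulAction.stabilizer G b) ∧ Subgroup.centralizer ((MulAction.stabilizer G a ⊓ MulAction.stabilizer G b : Subgroup G) : Set G) = MulAction.stabilizer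 G a ⊓ MulAction.stabilizer G b ∧ ∀ s : G, s • a = b → s • b = a → ∀ h ∈ MulAction.stabilizer G a ⊓ MulAction.stabilizer G b, s * h * s⁻¹ = h⁻¹ := by
  have hDG := le_derived hZ hab hodd hnil
  set D : Subgroup G := MulAction.stabilizer G a ⊓ MulAction.stabilizer G b with hD
  have hcomm : ∀ x ∈ D, ∀ y ∈ D, x * y = y * x := fun x hx y hy => zas_D_comm_gen hZ hab hodd hDG hx hy
  obtain ⟨t, ht, hta, htb⟩ := (Cfsg.Agent.S0740.result hZ hab).1
  have hinv : ∀ s : G, s • a = b → s • b = a → ∀ h ∈ D, s * h * s⁻¹ = h⁻¹ := by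
    intro s hsa hsb h hh
    have hd : t⁻¹ * s ∈ D := ⟨show (t⁻¹ * s) • a = a by rw [mul_smul, hsa, inv_smul_eq_iff, hta],
      show (t⁻¹ * s) • b = b by rw [mul_smul, hsb, inv_smul_eq_iff, htb]⟩
    calc s * h * s⁻¹ = t * ((t⁻¹ * s) * h * (t⁻¹ * s)⁻¹) * t⁻¹ := by group
      _ = t * h * t⁻¹ := by rw [hcomm _ hd _ hh, mul_inv_cancel_right]
      _ = h⁻¹ := zas_invert_gen hZ hab hodd hDG ht hta htb hh
  haveI := zas_isZGroup hZ hab hodd
  haveI : IsMulCommutative D := ⟨⟨fun x y => Subtype.ext (hcomm _ x.2 _ y.2)⟩⟩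
  haveI : Group.IsNilpotent D := by
    letI : CommGroup D := { (inferInstance : Group D) with mul_comm := fun x y => Subtype.ext (hcomm _ x.2 _ y.2) }
    infer_instance
  refine ⟨inferInstance, le_antisymm (fun g hg => ?_) (fun x hx => ?_), hinv⟩
  · obtain ⟨x, hx, hx1⟩ := (Subgroup.bot_or_exists_ne_one D).resolve_left
      fun h => by have := zas_card_D_gt_one hZ hab; rw [← hD, h, Subgroup.card_bot] at this; omega
    have hgx : g * x * g⁻¹ = x := by
      rw [← Subgroup.mem_centralizer_iff.mp hg x hx, mul_inv_cancel_right]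
    rcases zas_set_stab hZ hab hx hx1 (hgx.symm ▸ hx) with ⟨h1, h2⟩ | ⟨h1, h2⟩
    · exact ⟨h1, h2⟩
    · exfalso
      have h3 : x = x⁻¹ := hgx.symm.trans (hinv g h1 h2 x hx)
      have h4 : orderOf x ∣ 2 := orderOf_dvd_of_pow_eq_one (by
        rw [pow_two]; nth_rewrite 2 [h3]; exact mul_inv_cancel x)
      have h5 : orderOf x ∣ Nat.card D := by
        rw [← Subgroup.orderOf_mk x hx]; exact orderOf_dvd_natCard _
      have h6 : orderOf x ∣ 1 := by
        have := Nat.dvd_gcd h4 h5
        rwa [(Nat.coprime_two_left.mpr hodd)] at this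
      exact hx1 (orderOf_eq_one_iff.mp (Nat.dvd_one.mp h6))
  · exact Subgroup.mem_centralizer_iff.mpr fun y hy => hcomm y hy x hx

end Cfsg.Agent.S0739
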