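import Cfsg.Statements.S0345
import Cfsg.Agent.Lib.Perm.ZasSimpleEven
import Cfsg.Agent.S0739
import Cfsg.Agent.S0740
import Cfsg.Agent.Lib.Perm.ZasAbelian.Main
-- import your own Cfsg.Agent.* helpers here

set_option autoImplicit false
open Cfsg

namespace Cfsg.Agent.S0345

open Cfsg.Lib.Char Cfsg.Lib.Perm.ZasAbelian

/-- No `q`-complement in a simple Zassenhaus group. -/
theorem no_normal_complement {G Ω : Type*} [Group G] [Finite G] [MulAction G Ω] [Fintype Ω]
    (hZ : Cfsg.IsZassenhausGroup G Ω) [IsSimpleGroup G] {q : ℕ} (hq : q.Prime) (hdvd : q ∣ Nat.card G) :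
    ¬ ∃ N : Subgroup G, N.Normal ∧ N.index = q ^ (Nat.card G).factorization q := by
  rintro ⟨N, hN, hi⟩
  have hk := Nat.Prime.factorization_pos_of_dvd hq Nat.card_pos.ne' hdvd
  rcases hN.eq_bot_or_eq_top with rfl | rfl
  · rw [Subgroup.index_bot] at hi
    haveI := Fact.mk hq
    have hp : IsPGroup q G := IsPGroup.of_card hi
    haveI : Nontrivial G := inferInstance
    haveI := hp.center_nontrivial
    have hc : Subgroup.center G = ⊤ :=
      ((inferInstance : (Subgroup.center G).Normal).eq_bot_or_eq_top).resolve_left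
        ((Subgroup.nontrivial_iff_ne_bot _).1 inferInstance)
    obtain ⟨g, hg, a, b, hab, hga, -⟩ := hZ.2.2.2.1
    refine hg (hZ.1.eq_of_smul_eq_smul fun x => ?_)
    haveI := hZ.2.1
    haveI : MulAction.IsPretransitive G Ω := MulAction.isPretransitive_of_is_two_pretransitive
    obtain ⟨k, rfl⟩ := MulAction.exists_smul_eq G a x
    have hk : k * g = g * k := (Subgroup.mem_center_iff.1 (hc ▸ Subgroup.mem_top g : g ∈ Subgroup.center G) k)
    rw [← mul_smul, ← hk, mul_smul, hga, one_smul]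
  · rw [Subgroup.index_top] at hi
    exact absurd (Nat.one_lt_pow hk.ne' hq.one_lt) (by omega)

/-- The two-point stabilizer in the case of two orbits. -/
theorem cyclic_of_two_orbits {G Ω : Type*} [Group G] [Finite G] [MulAction G Ω] [Fintype Ω]
    (hZ : Cfsg.IsZassenhausGroup G Ω) {a b : Ω} (hab : a ≠ b)
    (hd : Fintype.card Ω - 2 = 2 * Nat.card ↥(MulAction.stabilizer G a ⊓ MulAction.stabilizer G b : Subgroup G)) :
    IsCyclic ↥(MulAction.stabilizer G a ⊓ MulAction.stabilizer G b : Subgroup G) ∧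
      ∀ g : G, g • a = b → g • b = a →
        ∀ x ∈ (MulAction.stabilizer G a ⊓ MulAction.stabilizer G b : Subgroup G), g * x * g⁻¹ = x⁻¹ := by
  classical
  obtain ⟨N, hNn, -, hc, -, hfix⟩ := zas_exists_kernel hZ hab
  haveI := hNn
  set F := N.map (MulAction.stabilizer G a).subtype with hF
  have hFle : F ≤ MulAction.stabilizer G a := Subgroup.map_subtype_le _
  have hFn : (F.subgroupOf (MulAction.stabilizer G a)).Normal := by
    rw [hF, Subgroup.subgroupOf, Subgroup.comap_map_eq_self_of_injective Subtype.val_injective]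
    exact hNn
  have hFfix : ∀ u ∈ F, u ≠ 1 → ∀ c : Ω, u • c = c → c = a := by
    rintro _ ⟨u, hu, rfl⟩ hu1 c hcu
    exact hfix u hu (fun e => hu1 (by rw [e]; rfl)) c hcu
  have hFcard : Nat.card F + 1 = Fintype.card Ω := by
    have h1 := hc.card_mul
    obtain ⟨hA1, -⟩ := zas_card_group hZ hab
    rw [Nat.card_congr (Subgroup.subgroupOfEquivOfLe (show (MulAction.stabilizer G a ⊓
      MulAction.stabilizer G b : Subgroup G) ≤ MulAction.stabilizer G a from inf_le_left)).toEquiv, hA1] at h1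
    have := Nat.eq_of_mul_eq_mul_right Nat.card_pos h1
    rw [hF, Subgroup.card_subtype]
    have := zas_two_lt_card hZ
    omega
  have hreg : ∀ y z : Ω, y ≠ a → z ≠ a → ∃! u : F, (u : G) • y = z := by
    intro y z hy hz
    obtain ⟨v, hv, hvz⟩ := kernel_transitive (Ne.symm hy) F hFle hFcard hFfix hz
    refine ⟨⟨v, hv⟩, hvz, fun w hw => Subtype.ext ?_⟩
    by_contra hne
    exact hy (hFfix (v⁻¹ * (w : G)) (F.mul_mem (F.inv_mem hv) w.2)
      (fun e => hne (inv_mul_eq_one.mp e).symm) y (by rw [mul_smul, hw, ← hvz, inv_smul_smul]))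
  obtain ⟨hcomm, p, f, hp, -, hcard⟩ := Cfsg.Agent.S0738.result hZ hab hd.le F hFle hFn hreg
  have hFc : ∀ x ∈ F, ∀ y ∈ F, x * y = y * x := fun x hx y hy =>
    congrArg Subtype.val (hcomm.is_comm.comm (⟨x, hx⟩ : F) ⟨y, hy⟩)
  refine ⟨?_, fun g hga hgb x hx => swap_inverts hZ hab hd F hFle hFcard hFfix hFc hga hgb hx⟩
  have hf : f ≠ 0 := by rintro rfl; rw [pow_zero] at hcard; have := zas_two_lt_card hZ; omega
  haveI := Fact.mk hp
  haveI : Fintype (GaloisField p f) := Fintype.ofFinite _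
  have hK : Fintype.card (GaloisField p f) = Nat.card F := by
    rw [← Nat.card_eq_fintype_card, GaloisField.card p f hf]; omega
  obtain ⟨C⟩ := exists_coord hZ hab hd F hFle hFcard hFfix hFc (GaloisField p f) hK
  set D : Subgroup G := MulAction.stabilizer G a ⊓ MulAction.stabilizer G b with hD
  have hlin : ∀ x : D, ∃ s, ∀ y, (x : G) • C.pt y = C.pt (s * y) := by
    intro x
    obtain ⟨s, w, -, -, h⟩ := C.affine (x : G) x.2.1
    have hw : w = 0 := by
      have h0 := h 0
      rw [mul_zero, zero_add, C.pt_zero, show (x : G) • b = b from x.2.2] at h0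
      replace h0 : C.pt 0 = C.pt w := C.pt_zero.trans h0
      exact (C.pt_inj h0).symm
    exact ⟨s, fun y => by rw [h y, hw, add_zero]⟩
  choose s hs using hlin
  have huniq : ∀ (x : D) t, (x : G) • C.pt 1 = C.pt t → s x = t := fun x t h => by
    rw [hs, mul_one] at h
    exact C.pt_inj h
  let χ : D →* GaloisField p f :=
    { toFun := s
      map_one' := huniq 1 1 (by rw [OneMemClass.coe_one, one_smul])
      map_mul' := fun x y => huniq _ _ (by rw [Subgroup.coe_mul, mul_smul, hs, mul_one, hs]) }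
  refine isCyclic_of_subgroup_isDomain χ ((injective_iff_map_eq_one χ).2 fun x hx => Subtype.ext ?_)
  refine hZ.1.eq_of_smul_eq_smul fun z => ?_
  rw [OneMemClass.coe_one, one_smul]
  by_cases hz : z = a
  · subst hz; exact x.2.1
  · obtain ⟨y, rfl⟩ := C.pt_surj z hz
    rw [hs, show s x = 1 from hx, one_mul]

/-- In a finite simple Zassenhaus group the stabiliser `H` of two points `a ≠ b` is cyclic, and some involution
interchanging `a` and `b` inverts every element of `H`. -/
theorem result {G Ω : Type*} [Group G] [Finite G] [MulAction G Ω] [Finite Ω]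
    (hZ : Cfsg.IsZassenhausGroup G Ω) [IsSimpleGroup G]
    {a b : Ω} (hab : a ≠ b) :
    IsCyclic ↥(MulAction.stabilizer G a ⊓ MulAction.stabilizer G b) ∧
      ∃ v : G, orderOf v = 2 ∧ v • a = b ∧ v • b = a ∧ ∀ h ∈ MulAction.stabilizer G a ⊓ MulAction.stabilizer G b, v * h * v⁻¹ = h⁻¹ := by
  classical
  haveI := Fintype.ofFinite Ω
  obtain ⟨v, hv, hva, hvb⟩ := (Cfsg.Agent.S0740.result hZ hab).1
  rcases Nat.even_or_odd (Nat.card ↥(MulAction.stabilizer G a ⊓ MulAction.stabilizer G b : Subgroup G))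
    with heven | hodd
  · obtain ⟨h1, h2⟩ := cyclic_of_two_orbits hZ hab (Cfsg.Lib.Perm.ZasSimpleEven.card_sub_two_eq hZ hab heven)
    exact ⟨h1, v, hv, hva, hvb, h2 v hva hvb⟩
  · obtain ⟨h1, -, h3⟩ := Cfsg.Agent.S0739.result hZ hab hodd fun q hq hqd =>
      no_normal_complement hZ hq (hqd.trans (Subgroup.card_subgroup_dvd_card _))
    exact ⟨h1, v, hv, hva, hvb, h3 v hva hvb⟩

end Cfsg.Agent.S0345
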