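import Cfsg.Statements.S2149
import Cfsg.Agent.Lib.U35.Cert
import Cfsg.Agent.Lib.Spec.UnitaryThreeLower
import Cfsg.Agent.Lib.FusionSys.SylowTwoPSU
import Cfsg.Agent.S3335
-- import your own Cfsg.Agent.* helpers here

set_option autoImplicit false
open Cfsg

namespace Cfsg.Agent.S2149

open Matrix Cfsg.Lib.U35 Cfsg.Lib.Spec.UThree

variable {F : Type*} [Field F] [Fintype F]

theorem hF2 (hF : Fintype.card F = 25) : Fintype.card F = 5 ^ 2 := by rw [hF]; norm_num

theorem smat_mul (g h : Cfsg.SU 3 F 5) : smat (g * h) = smat g * smat h := rfl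

theorem smat_one : smat (1 : Cfsg.SU 3 F 5) = 1 := rfl

theorem smat_inj {g h : Cfsg.SU 3 F 5} (e : smat g = smat h) : g = h := Subtype.ext (Subtype.ext e)

theorem exists_lift (hF : Fintype.card F = 25) (φ : R →+* F) (hc : ∀ x, φ (cj x) = φ x ^ 5)
    (M : MR) (h : Good M) : ∃ g : Cfsg.SU 3 F 5, smat g = M.map φ := by
  refine exists_of_form (hF2 hF) _ ?_ ?_
  · rw [show M.map φ = φ.mapMatrix M from rfl, ← RingHom.map_det, h.1, map_one]
  · have e : (M.map φ).map (· ^ 5) = (M.map cj).map φ := by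
      ext i j; simp [hc]
    rw [e, ← Matrix.transpose_map, ← Matrix.map_mul, h.2, Matrix.map_one φ (map_zero φ) (map_one φ)]

theorem card_G (hF : Fintype.card F = 25) : Nat.card (Cfsg.PSU 3 F 5) = 126000 := by
  have h := Cfsg.Lib.Linear.Herm.card_SU (hF2 hF) (n := 3) (by norm_num)
  rw [Cfsg.Lib.Linear.Herm.card_GU (hF2 hF) 3] at h
  simp only [Finset.prod_range_succ, Finset.prod_range_zero] at h
  norm_num [Nat.even_iff] at h
  have hz := Cfsg.Lib.Linear.Herm.card_center_SU (hF2 hF) (n := 3) (by norm_num)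
  have hq := Subgroup.card_eq_card_quotient_mul_card_subgroup (Subgroup.center (Cfsg.SU 3 F 5))
  rw [hz] at hq
  norm_num at hq
  change Nat.card (Cfsg.SU 3 F 5 ⧸ Subgroup.center (Cfsg.SU 3 F 5)) = 126000
  omega

theorem center_pow_three (hF : Fintype.card F = 25) {g : Cfsg.SU 3 F 5}
    (hg : g ∈ Subgroup.center (Cfsg.SU 3 F 5)) : g ^ 3 = 1 := by
  have hz := Cfsg.Lib.Linear.Herm.card_center_SU (hF2 hF) (n := 3) (by norm_num)
  norm_num at hz
  have := pow_card_eq_one' (G := Subgroup.center (Cfsg.SU 3 F 5)) (x := ⟨g, hg⟩)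
  rw [hz] at this
  exact congrArg Subtype.val this

/-- The subgroup of order `2520`. -/
theorem exists_alt (hF : Fintype.card F = 25) :
    ∃ H : Subgroup (Cfsg.PSU 3 F 5), H.index = 50 := by
  classical
  obtain ⟨φ, hinj, hc⟩ := exists_hom hF
  choose g hg using fun i => exists_lift hF φ hc (xg i) (xg_good i)
  have hpow : ∀ M : MR, ∀ k : ℕ, (M.map φ) ^ k = (M ^ k).map φ := fun M k =>
    (map_pow φ.mapMatrix M k).symm
  have hmul : ∀ M N : MR, M.map φ * N.map φ = (M * N).map φ := fun M N => Matrix.map_mul.symm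
  let π := QuotientGroup.mk' (Subgroup.center (Cfsg.SU 3 F 5))
  let y : Fin 5 → Cfsg.PSU 3 F 5 := fun i => π (g i)
  have hone : ∀ h : Cfsg.SU 3 F 5, smat h = 1 → π h = 1 := fun h e => by
    rw [smat_inj (h := 1) e, map_one]
  have hscal : ∀ (h : Cfsg.SU 3 F 5) (c : F), smat h = Matrix.scalar (Fin 3) c → π h = 1 := by
    intro h c e
    refine (QuotientGroup.eq_one_iff h).2 (Subgroup.mem_center_iff.2 fun k => smat_inj ?_)
    rw [smat_mul, smat_mul, e]
    exact ((Matrix.scalar_commute c (Commute.all c) (smat k)).eq).symm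
  set rels : Set (FreeGroup (Fin (7 - 2))) :=
      ({g : FreeGroup (Fin (7 - 2)) | ∃ i : Fin (7 - 2), i.val = 0 ∧ g = FreeGroup.of i ^ 3} ∪
       {g | ∃ i : Fin (7 - 2), 1 ≤ i.val ∧ g = FreeGroup.of i ^ 2} ∪
       {g | ∃ i j : Fin (7 - 2), j.val = i.val + 1 ∧ g = (FreeGroup.of i * FreeGroup.of j) ^ 3} ∪
       {g | ∃ i j : Fin (7 - 2), i.val + 1 < j.val ∧ g = (FreeGroup.of i * FreeGroup.of j) ^ 2}) with hrels
  have hr : ∀ r ∈ rels, FreeGroup.lift y r = 1 := by
    intro r hr
    rw [hrels] at hr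
    rcases hr with ((⟨i, hi, rfl⟩ | ⟨i, hi, rfl⟩) | ⟨i, j, hj, rfl⟩) | ⟨i, j, hj, rfl⟩ <;>
      simp only [map_pow, map_mul, FreeGroup.lift_apply_of, y] <;>
      simp only [← map_mul π, ← map_pow π]
    · refine hone _ ?_
      rw [smat_pow, hg, hpow, show i = 0 from Fin.ext hi, xg_zero, Matrix.map_one φ (map_zero φ) (map_one φ)]
    · refine hone _ ?_
      rw [smat_pow, hg, hpow, xg_sq i hi, Matrix.map_one φ (map_zero φ) (map_one φ)]
    · refine hone _ ?_
      rw [smat_pow, smat_mul, hg, hg, hmul, hpow, xg_next i j hj, Matrix.map_one φ (map_zero φ) (map_one φ)]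
    · obtain ⟨c, hc'⟩ := xg_far i j hj
      refine hscal _ (φ c) ?_
      rw [smat_pow, smat_mul, hg, hg, hmul, hpow, hc']
      ext a b; by_cases hab : a = b <;> simp [Matrix.scalar_apply, Matrix.diagonal, hab]
  obtain ⟨e⟩ := Cfsg.Agent.S3335.result 7 (by norm_num)
  let f : alternatingGroup (Fin 7) →* Cfsg.PSU 3 F 5 :=
    (PresentedGroup.toGroup hr).comp e.symm.toMonoidHom
  have hne : y 1 ≠ 1 := by
    intro h
    have h3 := center_pow_three hF ((QuotientGroup.eq_one_iff (g 1)).1 h)
    have h2 : g 1 ^ 2 = 1 := smat_inj (by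
      rw [smat_pow, hg, hpow, xg_sq 1 le_rfl, Matrix.map_one φ (map_zero φ) (map_one φ), smat_one])
    have h1 : g 1 = 1 := by rwa [pow_succ, h2, one_mul] at h3
    have h0 := hg 1
    rw [h1, smat_one, ← Matrix.map_one φ (map_zero φ) (map_one φ)] at h0
    exact xg_one_ne (Matrix.map_injective hinj h0).symm
  haveI : IsSimpleGroup (alternatingGroup (Fin 7)) := alternatingGroup.isSimpleGroup (by simp)
  have hf : Function.Injective f := by
    rw [← MonoidHom.ker_eq_bot_iff]
    refine (f.normal_ker.eq_bot_or_eq_top).resolve_right fun h => hne ?_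
    have : e (PresentedGroup.of 1) ∈ f.ker := h ▸ Subgroup.mem_top _
    simpa [f] using this
  refine ⟨f.range, ?_⟩
  have h1 : Nat.card f.range = 2520 := by
    rw [← Nat.card_congr (MonoidHom.ofInjective hf).toEquiv]
    have h2 : 2 * Nat.card (alternatingGroup (Fin 7)) = Nat.factorial 7 := by
      rw [Nat.card_eq_fintype_card, two_mul_card_alternatingGroup, Fintype.card_perm, Fintype.card_fin]
    rw [show Nat.factorial 7 = 5040 from rfl] at h2
    omega
  have h3 := Subgroup.card_mul_index f.range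
  rw [h1, card_G hF] at h3
  omega

/-- Every proper subgroup has index at least fifty. -/
theorem index_ge (hF : Fintype.card F = 25) (H : Subgroup (Cfsg.PSU 3 F 5)) (hH : H ≠ ⊤) :
    50 ≤ H.index := by
  classical
  haveI : IsSimpleGroup (Cfsg.PSU 3 F 5) :=
    (Cfsg.Lib.FusionSys.Lin.psu_three_simple_perfect (hF2 hF) (by norm_num)).1
  by_contra hlt
  rw [not_le] at hlt
  obtain ⟨φ, hinj, hc⟩ := exists_hom hF
  have hmul : ∀ M N : MR, M.map φ * N.map φ = (M * N).map φ := fun M N => Matrix.map_mul.symm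
  have minj : ∀ M N : MR, M.map φ = N.map φ → M = N := fun M N h => Matrix.map_injective hinj h
  let U : Subgroup (Cfsg.SU 3 F 5) :=
    { carrier := {g | ∃ a b : R, Cond a b ∧ smat g = (uS a b).map φ}
      one_mem' := ⟨0, 0, by simp [Cond, cj_zero], by
        rw [smat_one, uS_zero, Matrix.map_one φ (map_zero φ) (map_one φ)]⟩
      mul_mem' := by
        rintro g h ⟨a, b, hab, hg⟩ ⟨c, d, hcd, hh⟩
        exact ⟨_, _, cond_mul hab hcd, by rw [smat_mul, hg, hh, hmul, uS_mul]⟩
      inv_mem' := by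
        rintro g ⟨a, b, hab, hg⟩
        obtain ⟨h1, h2⟩ := cond_inv hab
        obtain ⟨h, hh⟩ := exists_lift hF φ hc _ (uS_good _ _ h1)
        have : g * h = 1 := smat_inj (by
          rw [smat_mul, hg, hh, hmul, h2, Matrix.map_one φ (map_zero φ) (map_one φ), smat_one])
        rw [inv_eq_of_mul_eq_one_right this]
        exact ⟨_, _, h1, hh⟩ }
  choose A B hAB hgm using fun g : U => g.2
  have huniq : ∀ (g : U) a b, smat (g : Cfsg.SU 3 F 5) = (uS a b).map φ → A g = a ∧ B g = b :=
    fun g a b h => uS_inj (minj _ _ ((hgm g).symm.trans h))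
  have Amul : ∀ g h : U, A (g * h) = A g + A h ∧ B (g * h) = B h - cj (A g) * A h + B g := fun g h =>
    huniq _ _ _ (by rw [Subgroup.coe_mul, smat_mul, hgm, hgm, hmul, uS_mul])
  have A1 : A 1 = 0 ∧ B 1 = 0 := huniq 1 0 0 (by
    rw [OneMemClass.coe_one, smat_one, uS_zero, Matrix.map_one φ (map_zero φ) (map_one φ)])
  have ginj : ∀ g h : U, A g = A h → B g = B h → g = h := fun g h e1 e2 =>
    Subtype.ext (smat_inj (by rw [hgm, hgm, e1, e2]))
  have hsur : ∀ a b, Cond a b → ∃ g : U, A g = a ∧ B g = b := fun a b h => by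
    obtain ⟨g, hg⟩ := exists_lift hF φ hc _ (uS_good a b h)
    exact ⟨⟨g, a, b, h, hg⟩, huniq _ a b hg⟩
  have hcardU : Nat.card U = 125 := by
    rw [← card_cond, ← Nat.card_eq_fintype_card]
    refine Nat.card_congr (Equiv.ofBijective (fun g : U => (⟨(A g, B g), hAB g⟩ : {p : R × R // Cond p.1 p.2})) ⟨?_, ?_⟩)
    · intro g h e
      simp only [Subtype.mk.injEq, Prod.mk.injEq] at e
      exact ginj g h e.1 e.2
    · rintro ⟨⟨a, b⟩, h⟩
      obtain ⟨g, h1, h2⟩ := hsur a b h
      exact ⟨g, by simp [h1, h2]⟩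
  obtain ⟨z, hzA, hzB⟩ := hsur 0 wEl cond_w
  have zpow : ∀ (g : U), A g = 0 → ∀ k : ℕ, A (g ^ k) = 0 ∧ B (g ^ k) = k * B g := by
    intro g hg k
    induction k with
    | zero => simp [A1]
    | succ k ih =>
      rw [pow_succ, (Amul _ _).1, (Amul _ _).2, ih.1, ih.2, hg, cj_zero]
      push_cast
      constructor <;> ring
  let π := QuotientGroup.mk' (Subgroup.center (Cfsg.SU 3 F 5))
  let f : U →* Cfsg.PSU 3 F 5 := π.comp U.subtype
  have hfinj : Function.Injective f := by
    rw [← MonoidHom.ker_eq_bot_iff, Subgroup.eq_bot_iff_forall]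
    intro g hg
    have h3 := center_pow_three hF ((QuotientGroup.eq_one_iff (g : Cfsg.SU 3 F 5)).1 hg)
    have h1 : orderOf g ∣ 3 := orderOf_dvd_of_pow_eq_one (Subtype.ext h3)
    have h2 : orderOf g ∣ 125 := hcardU ▸ orderOf_dvd_natCard g
    exact orderOf_eq_one_iff.1 (Nat.eq_one_of_dvd_coprimes (by norm_num) h1 h2)
  obtain ⟨T, hT⟩ := exists_lift hF φ hc _ tS_good
  have hT8 : T ^ 8 = 1 := smat_inj (by
    rw [smat_pow, hT, show (tS.map φ) ^ 8 = (tS ^ 8).map φ from (map_pow φ.mapMatrix tS 8).symm, tS_pow,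
      Matrix.map_one φ (map_zero φ) (map_one φ), smat_one])
  have hconj : ∀ g : U, ∃ g' : U, A g' = wEl * A g ∧ B g' = 3 * B g ∧
      T * (g : Cfsg.SU 3 F 5) = g' * T := by
    intro g
    have hcond : Cond (wEl * A g) (3 * B g) := by
      have h := hAB g
      unfold Cond at h ⊢
      rw [cj_mul, cj_mul, show cj 3 = 3 by decide +kernel,
        show wEl * A g * (cj wEl * cj (A g)) = wEl * cj wEl * (A g * cj (A g)) by ring,
        show wEl * cj wEl = 3 by decide +kernel]
      linear_combination (3 : R) * h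
    obtain ⟨g', h1, h2⟩ := hsur _ _ hcond
    refine ⟨g', h1, h2, smat_inj ?_⟩
    rw [smat_mul, smat_mul, hT, hgm, hgm, hmul, hmul, h1, h2, tS_mul]
  -- the action on the cosets
  set X := Cfsg.PSU 3 F 5 ⧸ H
  letI : MulAction U X := MulAction.compHom X f
  have hsmul : ∀ (u : U) (x : X), u • x = f u • x := fun _ _ => rfl
  set τ : Cfsg.PSU 3 F 5 := π T with hτ
  have hτu : ∀ g : U, ∃ g' : U, A g' = wEl * A g ∧ B g' = 3 * B g ∧ ∀ x : X, τ • g • x = g' • τ • x := by
    intro g
    obtain ⟨g', h1, h2, h3⟩ := hconj g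
    refine ⟨g', h1, h2, fun x => ?_⟩
    rw [hsmul, hsmul, smul_smul, smul_smul]
    congr 1
    show π T * π (g : Cfsg.SU 3 F 5) = π (g' : Cfsg.SU 3 F 5) * π T
    rw [← map_mul, h3, map_mul]
  have hfix : ∀ (x : X) (g : U), A g = 0 → g ≠ 1 → g • x = x → z • x = x := by
    intro x g hg hne hx
    have hB : B g ≠ 0 := fun h => hne (ginj g 1 (hg.trans A1.1.symm) (h.trans A1.2.symm))
    have hcond := hAB g
    rw [hg] at hcond
    obtain ⟨k, hk⟩ := cond_centre _ hcond hB
    have he : g ^ k.val = z := ginj _ _ (by rw [(zpow g hg _).1, hzA]) (by rw [(zpow g hg _).2, hzB, hk])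
    have hst : g ∈ MulAction.stabilizer U x := hx
    exact he ▸ pow_mem hst k.val
  have hstab_comm : ∀ x : X, z • x ≠ x → ∀ g h : U, g • x = x → h • x = x →
      cj (A g) * A h = cj (A h) * A g := by
    intro x hx g h hg hh
    have hgs : g ∈ MulAction.stabilizer U x := hg
    have hhs : h ∈ MulAction.stabilizer U x := hh
    set w := (h * g)⁻¹ * (g * h)
    have hw : w • x = x := MulAction.mem_stabilizer_iff.1
      (mul_mem (inv_mem (mul_mem hhs hgs)) (mul_mem hgs hhs))
    have e : g * h = h * g * w := by simp only [w, mul_inv_cancel_left]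
    have hAw : A w = 0 := by
      have := congrArg A e
      rw [(Amul _ _).1, (Amul _ _).1, (Amul _ _).1] at this
      linear_combination -this
    by_cases hw1 : w = 1
    · rw [hw1, mul_one] at e
      have := congrArg B e
      rw [(Amul _ _).2, (Amul _ _).2] at this
      linear_combination -this
    · exact absurd (hfix x w hAw hw1 hw) hx
  have hstab : ∀ x : X, z • x ≠ x → Nat.card (MulAction.stabilizer U x) ≤ 5 := by
    intro x hx
    by_cases hex : ∃ g ∈ MulAction.stabilizer U x, A g ≠ 0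
    · obtain ⟨g, hg, hg0⟩ := hex
      refine le_trans ?_ (card_comm (A g) hg0)
      rw [← Nat.card_eq_fintype_card]
      refine Nat.card_le_card_of_injective
        (fun h => (⟨A h.1, hstab_comm x hx g h.1 hg h.2⟩ : {c : R // cj (A g) * c = cj c * A g})) ?_
      intro h1 h2 e
      simp only [Subtype.mk.injEq] at e
      apply Subtype.ext
      by_contra hne
      refine hx (hfix x (h1.1⁻¹ * h2.1) ?_ (fun h => hne (inv_mul_eq_one.1 h)) ?_)
      · have := congrArg A (show h2.1 = h1.1 * (h1.1⁻¹ * h2.1) by simp)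
        rw [(Amul _ _).1] at this
        linear_combination -this - e
      · exact MulAction.mem_stabilizer_iff.1 (mul_mem (inv_mem h1.2) h2.2)
    · push_neg at hex
      have : MulAction.stabilizer U x = ⊥ := (Subgroup.eq_bot_iff_forall _).2 fun g hg =>
        by_contra fun hne => hx (hfix x g (hex g hg) hne hg)
      rw [this, Subgroup.card_bot]
      norm_num
  haveI : Finite (Cfsg.PSU 3 F 5) := Nat.finite_of_card_ne_zero (by rw [card_G hF]; norm_num)
  haveI : Finite U := Nat.finite_of_card_ne_zero (by rw [hcardU]; norm_num)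
  have hXcard : Nat.card X = H.index := rfl
  set Y : Set X := {x | z • x ≠ x}
  have horb : ∀ x ∈ Y, (MulAction.orbit U x).ncard = 25 ∧ MulAction.orbit U x ⊆ Y := by
    intro x hx
    refine ⟨?_, ?_⟩
    · have h1 := Subgroup.card_mul_index (MulAction.stabilizer U x)
      rw [MulAction.index_stabilizer, hcardU] at h1
      have h2 := hstab x hx
      have h3 : (MulAction.orbit U x).ncard ≤ Nat.card X := Set.ncard_le_card _
      have hd : (MulAction.orbit U x).ncard ∣ 5 ^ 3 := ⟨_, ((mul_comm _ _).trans h1).symm⟩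
      obtain ⟨i, hi, he⟩ := (Nat.dvd_prime_pow (by norm_num : Nat.Prime 5)).1 hd
      rw [hXcard] at h3
      rw [he] at h1 h3 ⊢
      interval_cases i <;> omega
    · rintro _ ⟨u, rfl⟩ h
      refine hx ?_
      have hzu : u * z = z * u := ginj _ _ (by rw [(Amul _ _).1, (Amul _ _).1, add_comm])
        (by rw [(Amul _ _).2, (Amul _ _).2, hzA, cj_zero]; ring)
      have : u • z • x = u • x := by rw [smul_smul, hzu, ← smul_smul]; exact h
      exact smul_left_cancel u this
  obtain ⟨x0, hx0⟩ : Y.Nonempty := by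
    by_contra hne
    rw [Set.not_nonempty_iff_eq_empty] at hne
    have hcore : f z ∈ H.normalCore := by
      rw [Subgroup.normalCore_eq_ker, MonoidHom.mem_ker]
      refine Equiv.ext fun x => ?_
      by_contra hx
      exact (Set.eq_empty_iff_forall_notMem.1 hne x) hx
    rcases (Subgroup.normalCore_normal H).eq_bot_or_eq_top with h | h
    · rw [h, Subgroup.mem_bot, map_eq_one_iff _ hfinj] at hcore
      have := hzB
      rw [hcore, A1.2] at this
      exact absurd this (by decide +kernel)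
    · exact hH (top_le_iff.1 (h ▸ Subgroup.normalCore_le H))
  have hYeq : Y = MulAction.orbit U x0 := by
    refine le_antisymm (fun y hy => ?_) (horb x0 hx0).2
    by_contra hny
    have hdisj : Disjoint (MulAction.orbit U x0) (MulAction.orbit U y) := by
      rw [Set.disjoint_left]
      intro t ht ht'
      have e1 := MulAction.orbit_eq_iff.2 ht
      have e2 := MulAction.orbit_eq_iff.2 ht'
      exact hny (e1 ▸ e2.symm ▸ MulAction.mem_orbit_self y)
    have := Set.ncard_union_eq hdisj
    rw [(horb x0 hx0).1, (horb y hy).1] at this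
    have h2 := Set.ncard_le_card (MulAction.orbit U x0 ∪ MulAction.orbit U y)
    rw [this, hXcard] at h2
    omega
  have hτY : ∀ x ∈ Y, τ • x ∈ Y := by
    intro x hx h
    obtain ⟨g, h1, h2, h3⟩ := hτu (z ^ 2)
    rw [(zpow z hzA 2).1, mul_zero] at h1
    rw [(zpow z hzA 2).2, hzB] at h2
    have hg : g = z := ginj _ _ (h1.trans hzA.symm) (h2.trans ((show (3 : R) * (((2 : ℕ) : R) * wEl) = wEl by decide +kernel).trans hzB.symm))
    have h4 := h3 x
    rw [hg] at h4
    have h5 : z ^ 2 • x = x := smul_left_cancel τ (h4.trans h)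
    refine hx (hfix x (z ^ 2) (zpow z hzA 2).1 (fun he => ?_) h5)
    have := (zpow z hzA 2).2
    rw [he, A1.2, hzB] at this
    exact absurd this (by decide +kernel)
  let s : Y → Y := fun x => ⟨τ • x.1, hτY _ x.2⟩
  have hsinj : Function.Injective s := fun a b e =>
    Subtype.ext (smul_left_cancel τ (congrArg Subtype.val e))
  let σ : Equiv.Perm Y := Equiv.ofBijective s (Finite.injective_iff_bijective.1 hsinj)
  have hσk : ∀ (k : ℕ) (x : Y), ((σ ^ k) x).1 = τ ^ k • x.1 := by
    intro k
    induction k with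
    | zero => intro x; simp
    | succ k ih =>
      intro x
      rw [pow_succ', Equiv.Perm.mul_apply, pow_succ', mul_smul, ← ih]
      rfl
  have hσ8 : σ ^ 2 ^ 3 = 1 := Equiv.ext fun x => Subtype.ext (by
    rw [hσk, show (2 : ℕ) ^ 3 = 8 from rfl, hτ, ← map_pow, hT8, map_one, one_smul]; rfl)
  haveI : Fact (Nat.Prime 2) := ⟨Nat.prime_two⟩
  haveI : Fintype Y := Fintype.ofFinite Y
  have hY25 : Fintype.card Y = 25 := by
    rw [← Nat.card_eq_fintype_card, Nat.card_coe_set_eq, hYeq]
    exact (horb x0 hx0).1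
  obtain ⟨⟨x1, hx1⟩, hfix1⟩ := Equiv.Perm.exists_fixed_point_of_prime (p := 2) (n := 3) (by rw [hY25]; norm_num) hσ8
  have hτx : τ • x1 = x1 := congrArg Subtype.val hfix1
  have hS : ∃ g ∈ MulAction.stabilizer U x1, g ≠ (1 : U) := by
    by_contra hall
    push_neg at hall
    have h1 := Subgroup.card_mul_index (MulAction.stabilizer U x1)
    rw [MulAction.index_stabilizer, (horb x1 hx1).1, (Subgroup.eq_bot_iff_forall _).2 hall,
      Subgroup.card_bot, hcardU] at h1
    omega
  obtain ⟨g, hg, hgne⟩ := hS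
  have hgx : g • x1 = x1 := hg
  by_cases hg0 : A g = 0
  · exact hx1 (hfix x1 g hg0 hgne hgx)
  · obtain ⟨g', h1, h2, h3⟩ := hτu g
    have hg' : g' • x1 = x1 := by
      have := h3 x1
      rw [hgx, hτx] at this
      exact this.symm
    have := hstab_comm x1 hx1 g g' hgx hg'
    rw [h1] at this
    exact hg0 (comm_w _ this)

/-- Minimal index of a proper subgroup of PSU₃(5), realised over the field with 25 elements: every proper subgroup has index at least 50, and that index is attained. -/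
theorem result {F : Type*} [Field F] [Fintype F] (hF : Fintype.card F = 25) : (∀ H : Subgroup (Cfsg.PSU 3 F 5), H ≠ ⊤ → 50 ≤ H.index) ∧ (∃ H : Subgroup (Cfsg.PSU 3 F 5), H.index = 50) := by
  exact ⟨fun H hH => index_ge hF H hH, exists_alt hF⟩

end Cfsg.Agent.S2149
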