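import Cfsg.Statements.S0281
import Cfsg.Agent.Lib.Linear.HermitianFactor
import Cfsg.Agent.Lib.Linear.FieldReduce
-- import your own Cfsg.Agent.* helpers here

set_option autoImplicit false
open Cfsg
open scoped Matrix

namespace Cfsg.Agent.S0281

/-- SU_2(q) is isomorphic to SL_2(q). -/
theorem result {F K : Type*} [Field F] [Fintype F] [Field K] [Fintype K] {q : ℕ} (hF : Fintype.card F = q ^ 2) (hK : Fintype.card K = q) : Nonempty (Cfsg.SU 2 F q ≃* Matrix.SpecialLinearGroup (Fin 2) K) := by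
  classical
  obtain ⟨σ, hσ, hσσ, w, hw⟩ := Lib.Linear.HermitianFactor.exists_involution hF
  obtain ⟨_inst, -⟩ := Lib.Linear.FieldReduce.exists_algebra hK hF
  let ι : K →+* F := algebraMap K F
  let dag : Matrix (Fin 2) (Fin 2) F → Matrix (Fin 2) (Fin 2) F := Lib.Linear.HermitianFactor.dagger σ
  have dmul : ∀ M M', dag (M * M') = dag M' * dag M := Lib.Linear.HermitianFactor.dagger_mul σ
  have hform : ∀ u v : Fin 2 → F, Cfsg.hermForm 2 F q u v = u ⬝ᵥ (fun i => σ (v i)) := fun u v => by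
    simp [Cfsg.hermForm, dotProduct, hσ]
  have hmem : ∀ g : Matrix.SpecialLinearGroup (Fin 2) F,
      g ∈ Cfsg.SU 2 F q ↔ dag (g : Matrix _ _ F) * (g : Matrix _ _ F) = 1 := by
    intro g
    have hmv : ∀ (M : Matrix (Fin 2) (Fin 2) F) (u v : Fin 2 → F),
        Cfsg.hermForm 2 F q (M *ᵥ u) (M *ᵥ v) = u ⬝ᵥ ((Mᵀ * M.map σ) *ᵥ (fun i => σ (v i))) := by
      intro M u v
      rw [hform, ← Matrix.mulVec_mulVec, Matrix.dotProduct_mulVec u Mᵀ, Matrix.vecMul_transpose]
      congr 1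
      funext i
      exact RingHom.map_mulVec σ M v i
    have hd : dag (g : Matrix _ _ F) * (g : Matrix _ _ F) =
        (((g : Matrix (Fin 2) (Fin 2) F))ᵀ * (g : Matrix (Fin 2) (Fin 2) F).map σ)ᵀ := by
      rw [Matrix.transpose_mul, Matrix.transpose_transpose]
      rfl
    rw [hd, ← Matrix.transpose_one, Matrix.transpose_inj]
    constructor
    · intro h
      refine Matrix.ext fun i j => ?_
      have h' : Cfsg.hermForm 2 F q ((g : Matrix (Fin 2) (Fin 2) F) *ᵥ Pi.single i 1)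
          ((g : Matrix (Fin 2) (Fin 2) F) *ᵥ Pi.single j 1) = _ := h (Pi.single i 1) (Pi.single j 1)
      rw [hmv, hform] at h'
      have e : (fun a => σ ((Pi.single j (1 : F) : Fin 2 → F) a)) = Pi.single j 1 := by
        funext a
        by_cases ha : a = j <;> simp [ha]
      rw [e, single_one_dotProduct, Matrix.mulVec_single_one, single_one_dotProduct] at h'
      rw [show (1 : Matrix (Fin 2) (Fin 2) F) i j = (Pi.single j 1 : Fin 2 → F) i by
        simp [Matrix.one_apply, Pi.single_apply]]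
      exact h'
    · intro h u v
      show Cfsg.hermForm 2 F q ((g : Matrix (Fin 2) (Fin 2) F) *ᵥ u) ((g : Matrix (Fin 2) (Fin 2) F) *ᵥ v) = _
      rw [hmv, h, Matrix.one_mulVec, hform]
  set δ : F := w - σ w with hδ
  have hδ0 : δ ≠ 0 := sub_ne_zero.mpr (Ne.symm hw)
  have hδσ : σ δ = -δ := by rw [hδ, map_sub, hσσ, neg_sub]
  set H0 : Matrix (Fin 2) (Fin 2) F := !![0, δ; -δ, 0] with hH0
  have hH0d : dag H0 = H0 := by
    refine Matrix.ext fun i j => ?_
    fin_cases i <;> fin_cases j <;> simp [dag, Lib.Linear.HermitianFactor.dagger, hH0, hδσ]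
  have hH0u : IsUnit H0 := by
    rw [Matrix.isUnit_iff_isUnit_det, hH0, Matrix.det_fin_two_of]
    refine isUnit_iff_ne_zero.mpr ?_
    simpa using hδ0
  have hbil : ∀ M : Matrix (Fin 2) (Fin 2) F, Mᵀ * H0 * M = M.det • H0 := by
    intro M
    rw [Matrix.det_fin_two]
    refine Matrix.ext fun i j => ?_
    fin_cases i <;> fin_cases j <;> simp [hH0, Matrix.mul_apply, Fin.sum_univ_two] <;> ring
  obtain ⟨S, hSu, hSS, -⟩ := Lib.Linear.HermitianFactor.exists_factor hσσ hw hH0d hH0u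
  obtain ⟨Su, rfl⟩ := hSu
  set Si : Matrix (Fin 2) (Fin 2) F := ((Su⁻¹ : (Matrix (Fin 2) (Fin 2) F)ˣ) : Matrix (Fin 2) (Fin 2) F)
  have hSi : (Su : Matrix (Fin 2) (Fin 2) F) * Si = 1 := Su.mul_inv
  have hSi' : Si * (Su : Matrix (Fin 2) (Fin 2) F) = 1 := Su.inv_mul
  have hdetS : ∀ M : Matrix (Fin 2) (Fin 2) F, ((Su : Matrix (Fin 2) (Fin 2) F) * M * Si).det = M.det := fun M =>
    Matrix.det_units_conj Su M
  have hfix : ∀ A : Matrix.SpecialLinearGroup (Fin 2) K, dag ((A : Matrix (Fin 2) (Fin 2) K).map ι) =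
      ((A : Matrix (Fin 2) (Fin 2) K).map ι)ᵀ := fun A => by
    refine Matrix.ext fun i j => ?_
    show σ (ι _) = ι _
    rw [hσ, ← map_pow, ← hK, FiniteField.pow_card]
  have hin : ∀ A : Matrix.SpecialLinearGroup (Fin 2) K,
      (⟨(Su : Matrix (Fin 2) (Fin 2) F) * (A : Matrix (Fin 2) (Fin 2) K).map ι * Si,
        by rw [hdetS, ← RingHom.mapMatrix_apply, ← RingHom.map_det, A.2, map_one]⟩ :
          Matrix.SpecialLinearGroup (Fin 2) F) ∈ Cfsg.SU 2 F q := by
    intro A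
    refine (hmem _).mpr ?_
    show dag ((Su : Matrix (Fin 2) (Fin 2) F) * (A : Matrix (Fin 2) (Fin 2) K).map ι * Si) * _ = 1
    rw [dmul, dmul, hfix]
    calc dag Si * (((A : Matrix (Fin 2) (Fin 2) K).map ι)ᵀ * dag (Su : Matrix (Fin 2) (Fin 2) F)) *
          ((Su : Matrix (Fin 2) (Fin 2) F) * (A : Matrix (Fin 2) (Fin 2) K).map ι * Si)
        = dag Si * (((A : Matrix (Fin 2) (Fin 2) K).map ι)ᵀ * (dag (Su : Matrix (Fin 2) (Fin 2) F) *
          (Su : Matrix (Fin 2) (Fin 2) F)) * (A : Matrix (Fin 2) (Fin 2) K).map ι) * Si := by simp only [mul_assoc]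
      _ = dag Si * (dag (Su : Matrix (Fin 2) (Fin 2) F) * (Su : Matrix (Fin 2) (Fin 2) F)) * Si := by
          rw [show dag (Su : Matrix (Fin 2) (Fin 2) F) * (Su : Matrix (Fin 2) (Fin 2) F) = H0 from hSS, hbil,
            ← RingHom.mapMatrix_apply, ← RingHom.map_det, A.2, map_one, one_smul]
      _ = 1 := by rw [← mul_assoc, ← dmul, hSi, show dag 1 = 1 from Lib.Linear.HermitianFactor.dagger_one σ, one_mul, hSi]
  let Φ : Matrix.SpecialLinearGroup (Fin 2) K →* Cfsg.SU 2 F q :=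
    { toFun := fun A => ⟨_, hin A⟩
      map_one' := Subtype.ext (Subtype.ext (by
        show (Su : Matrix (Fin 2) (Fin 2) F) * ((1 : Matrix (Fin 2) (Fin 2) K)).map ι * Si = 1
        rw [Matrix.map_one _ (map_zero ι) (map_one ι), mul_one, hSi]))
      map_mul' := fun A B => Subtype.ext (Subtype.ext (by
        show (Su : Matrix (Fin 2) (Fin 2) F) * ((A : Matrix (Fin 2) (Fin 2) K) * (B : Matrix (Fin 2) (Fin 2) K)).map ι * Si =
          (Su : Matrix (Fin 2) (Fin 2) F) * (A : Matrix (Fin 2) (Fin 2) K).map ι * Si *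
            ((Su : Matrix (Fin 2) (Fin 2) F) * (B : Matrix (Fin 2) (Fin 2) K).map ι * Si)
        rw [Matrix.map_mul]
        simp only [mul_assoc]
        rw [← mul_assoc Si (Su : Matrix (Fin 2) (Fin 2) F), hSi', one_mul])) }
  refine ⟨(MulEquiv.ofBijective Φ ⟨fun A B h => ?_, fun g => ?_⟩).symm⟩
  · have h' : (Su : Matrix (Fin 2) (Fin 2) F) * (A : Matrix (Fin 2) (Fin 2) K).map ι * Si =
        (Su : Matrix (Fin 2) (Fin 2) F) * (B : Matrix (Fin 2) (Fin 2) K).map ι * Si :=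
      congrArg (fun x : Cfsg.SU 2 F q => ((x : Matrix.SpecialLinearGroup (Fin 2) F) : Matrix (Fin 2) (Fin 2) F)) h
    exact Subtype.ext (Matrix.map_injective ι.injective
      (Su.isUnit.mul_left_cancel ((Su⁻¹).isUnit.mul_right_cancel h')))
  set M : Matrix (Fin 2) (Fin 2) F :=
    Si * ((g : Matrix.SpecialLinearGroup (Fin 2) F) : Matrix (Fin 2) (Fin 2) F) * (Su : Matrix (Fin 2) (Fin 2) F) with hM
  have hg := (hmem _).mp g.2
  have hMdet : M.det = 1 := (Matrix.det_units_conj' Su _).trans (g : Matrix.SpecialLinearGroup (Fin 2) F).2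
  have hMH : dag M * H0 * M = H0 := by
    rw [← hSS, hM, dmul, dmul]
    calc dag (Su : Matrix (Fin 2) (Fin 2) F) *
          (dag ((g : Matrix.SpecialLinearGroup (Fin 2) F) : Matrix (Fin 2) (Fin 2) F) * dag Si) *
          (dag (Su : Matrix (Fin 2) (Fin 2) F) * (Su : Matrix (Fin 2) (Fin 2) F)) *
          (Si * ((g : Matrix.SpecialLinearGroup (Fin 2) F) : Matrix (Fin 2) (Fin 2) F) * (Su : Matrix (Fin 2) (Fin 2) F))
        = dag (Su : Matrix (Fin 2) (Fin 2) F) *
          (dag ((g : Matrix.SpecialLinearGroup (Fin 2) F) : Matrix (Fin 2) (Fin 2) F) *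
            (dag Si * dag (Su : Matrix (Fin 2) (Fin 2) F)) * ((Su : Matrix (Fin 2) (Fin 2) F) * Si) *
            ((g : Matrix.SpecialLinearGroup (Fin 2) F) : Matrix (Fin 2) (Fin 2) F)) * (Su : Matrix (Fin 2) (Fin 2) F) := by
          simp only [mul_assoc]
      _ = _ := by
          rw [← dmul, hSi, show dag 1 = 1 from Lib.Linear.HermitianFactor.dagger_one σ, mul_one, mul_one, hg, mul_one]
  clear_value M
  have hMu : IsUnit M := (Matrix.isUnit_iff_isUnit_det _).mpr (by rw [hMdet]; exact isUnit_one)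
  have heq : dag M = Mᵀ := by
    refine (hH0u.mul hMu).mul_right_cancel ?_
    rw [← mul_assoc, ← mul_assoc, hMH, hbil, hMdet, one_smul]
  have hent : ∀ i j, ∃ a : K, ι a = M i j := fun i j => by
    refine Lib.Linear.FieldReduce.mem_range_of_fixed hK hF ?_
    rw [← hσ]
    exact congrFun (congrFun heq j) i
  choose a ha using hent
  have hA : (Matrix.of a).map ι = M := Matrix.ext fun i j => ha i j
  refine ⟨⟨Matrix.of a, ι.injective ?_⟩, Subtype.ext (Subtype.ext ?_)⟩
  · rw [RingHom.map_det, RingHom.mapMatrix_apply, hA, hMdet, map_one]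
  · show (Su : Matrix (Fin 2) (Fin 2) F) * (Matrix.of a).map ι * Si = _
    rw [hA, hM]
    simp only [mul_assoc]
    rw [hSi, mul_one, ← mul_assoc, hSi, one_mul]

end Cfsg.Agent.S0281
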