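import Cfsg.Statements.S0836
import Cfsg.Agent.Lib.Linear.SLBasic

set_option autoImplicit false
open Cfsg
open scoped commutatorElement

namespace Cfsg.Agent.S0836

/-- For i ≠ j and any scalar c, the elementary transvection 1 + c E_ij is a commutator ⁅g, h⁆ of two elements of SL_n(F) provided n ≥ 3, or n = 2 and F contains x ≠ 0 with x² ≠ 1. -/
theorem result {F : Type*} [Field F] (n : ℕ) (hn : 3 ≤ n ∨ (n = 2 ∧ ∃ x : F, x ≠ 0 ∧ x ^ 2 ≠ 1)) (i j : Fin n) (hij : i ≠ j) (c : F) (t : Matrix.SpecialLinearGroup (Fin n) F) (ht : (t : Matrix (Fin n) (Fin n) F) = Matrix.transvection i j c) : t ∈ commutatorSet (Matrix.SpecialLinearGroup (Fin n) F) := by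
  have ht' : t = Matrix.SpecialLinearGroup.transvection hij c := by
    apply Subtype.ext
    rw [ht]
    rfl
  subst ht'
  rcases hn with hn | ⟨rfl, x, hx, hx2⟩
  · obtain ⟨k, hik, hkj⟩ := Cfsg.Lib.Linear.exists_third (i := i) (j := j) (ι := Fin n) (by simpa using hn)
    exact ⟨_, _, (Cfsg.Lib.Linear.transvection_eq_commutator hij hik hkj c).symm⟩
  · have hd : x ^ 2 - 1 ≠ 0 := sub_ne_zero.2 hx2
    refine ⟨Matrix.SpecialLinearGroup.diag2n hij x hx,
      Matrix.SpecialLinearGroup.transvection hij (c / (x ^ 2 - 1)), ?_⟩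
    have e : Matrix.SpecialLinearGroup.transvection hij (c + c / (x ^ 2 - 1)) *
        Matrix.SpecialLinearGroup.diag2n hij x hx =
        Matrix.SpecialLinearGroup.diag2n hij x hx *
        Matrix.SpecialLinearGroup.transvection hij (c / (x ^ 2 - 1)) := by
      apply Matrix.SpecialLinearGroup.ext
      intro r s
      simp [Matrix.SpecialLinearGroup.transvection_coe, Matrix.SpecialLinearGroup.diag2n_coe,
        add_mul, mul_add]
      simp [Matrix.single_apply, Matrix.diagonal_apply]
      fin_cases i <;> fin_cases j <;> first | exact absurd rfl hij | (fin_cases r <;> fin_cases s <;> simp_all)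
      all_goals (field_simp; ring)
    rw [commutatorElement_def, ← eq_mul_inv_of_mul_eq e,
      Matrix.SpecialLinearGroup.transvection_inv, ← Matrix.SpecialLinearGroup.transvection_add,
      add_neg_cancel_right]

end Cfsg.Agent.S0836
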