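import Cfsg.Statements.S0257
import Cfsg.Agent.S0261

set_option autoImplicit false
open Cfsg

namespace Cfsg.Agent.S0257

open scoped Matrix

theorem card_sol : (Finset.univ.filter (fun x : ZMod 3 × ZMod 3 × ZMod 3 =>
    x.1 ^ 2 + x.2.1 * x.2.2 = -1)).card ≤ 6 := by decide

theorem sl23 {F : Type*} [Field F] [Fintype F] (hF : Fintype.card F = 3) :
    (∃ Q : Subgroup (Matrix.SpecialLinearGroup (Fin 2) F), Q.Normal ∧ Q.index = 3 ∧
      Nonempty (Q ≃* QuaternionGroup 2)) ∧
      Nat.card (Subgroup.center (Matrix.SpecialLinearGroup (Fin 2) F)) = 2 := by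
  classical
  haveI : Fact (Nat.Prime 2) := ⟨Nat.prime_two⟩
  haveI : Fact (Nat.Prime 3) := ⟨Nat.prime_three⟩
  have hodd : Odd (Fintype.card F) := by rw [hF]; decide
  have h2 := Cfsg.Agent.S0261.two_ne hodd
  refine ⟨?_, by rw [Cfsg.Lib.Linear.card_center_SL (ι := Fin 2), Fintype.card_fin, hF]; rfl⟩
  obtain ⟨P⟩ : Nonempty (Sylow 2 (Matrix.SpecialLinearGroup (Fin 2) F)) := inferInstance
  obtain ⟨k, hk, ⟨e⟩⟩ := Cfsg.Agent.S0261.result hodd P
  obtain ⟨a, ha⟩ := IsPGroup.iff_card.mp P.2
  have hmul := (P : Subgroup (Matrix.SpecialLinearGroup (Fin 2) F)).card_mul_index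
  rw [Cfsg.Lib.Linear.Two.card_SL_two, hF] at hmul
  have hcard : Nat.card (P : Subgroup (Matrix.SpecialLinearGroup (Fin 2) F)) = 2 ^ 2 * 2 ^ k := by
    rw [Nat.card_congr e.toEquiv, Nat.card_eq_fintype_card, QuaternionGroup.card]
    norm_num
  rw [hcard] at hmul
  have hk1 : k = 1 := by
    rcases Nat.lt_or_ge k 2 with h | h
    · omega
    · exfalso
      obtain ⟨j, rfl⟩ : ∃ j, k = j + 2 := ⟨k - 2, by omega⟩
      obtain ⟨M, hM⟩ : ∃ M, M = 2 ^ j * (P : Subgroup (Matrix.SpecialLinearGroup (Fin 2) F)).index :=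
        ⟨_, rfl⟩
      have : 16 * M = 24 := by rw [hM]; norm_num [pow_add] at hmul ⊢; linarith
      omega
  subst hk1
  -- the elements with g ^ 4 = 1
  obtain ⟨S, hS⟩ : ∃ S : Finset (Matrix.SpecialLinearGroup (Fin 2) F),
      S = Finset.univ.filter (fun g => g ^ 4 = 1) := ⟨_, rfl⟩
  have htr : ∀ g : Matrix.SpecialLinearGroup (Fin 2) F, g ^ 4 = 1 →
      (g : Matrix (Fin 2) (Fin 2) F) = 1 ∨ (g : Matrix (Fin 2) (Fin 2) F) = -1 ∨
        ((g : Matrix (Fin 2) (Fin 2) F) 1 1 = -(g : Matrix (Fin 2) (Fin 2) F) 0 0) := by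
    intro g hg
    have hg2 : (g ^ 2) ^ 2 = 1 := by rw [← pow_mul]; exact hg
    rcases Cfsg.Agent.S0261.sq_one h2 _ hg2 with h | h
    · rcases Cfsg.Agent.S0261.sq_one h2 g (Subtype.ext h) with h' | h'
      · exact Or.inl h'
      · exact Or.inr (Or.inl h')
    · refine Or.inr (Or.inr ?_)
      rw [Matrix.SpecialLinearGroup.coe_pow, sq] at h
      have h00 := congrFun (congrFun h 0) 0
      have h01 := congrFun (congrFun h 0) 1
      have h10 := congrFun (congrFun h 1) 0
      have h11 := congrFun (congrFun h 1) 1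
      have hd := g.2
      rw [Matrix.det_fin_two] at hd
      simp [Matrix.mul_apply, Fin.sum_univ_two] at h00 h01 h10 h11
      obtain ⟨t, ht⟩ : ∃ t, t = (g : Matrix (Fin 2) (Fin 2) F) 0 0 + (g : Matrix (Fin 2) (Fin 2) F) 1 1 :=
        ⟨_, rfl⟩
      refine eq_neg_of_add_eq_zero_right ?_
      rw [← ht]
      by_contra ht0
      have a0 : (g : Matrix (Fin 2) (Fin 2) F) 0 0 = 0 := (mul_eq_zero.mp
        (show t * _ = 0 by rw [ht]; linear_combination h00 + hd)).resolve_left ht0
      have d0 : (g : Matrix (Fin 2) (Fin 2) F) 1 1 = 0 := (mul_eq_zero.mp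
        (show t * _ = 0 by rw [ht]; linear_combination h11 + hd)).resolve_left ht0
      exact ht0 (by rw [ht, a0, d0, add_zero])
  have hcount : S.card ≤ 8 := by
    let φ : F ≃+* ZMod 3 := (ZMod.ringEquivOfPrime F Nat.prime_three hF).symm
    let T : Finset (ZMod 3 × ZMod 3 × ZMod 3) :=
      Finset.univ.filter (fun x => x.1 ^ 2 + x.2.1 * x.2.2 = -1)
    let u : Finset (Matrix.SpecialLinearGroup (Fin 2) F) :=
      S.filter (fun g => (g : Matrix (Fin 2) (Fin 2) F) = 1 ∨ (g : Matrix (Fin 2) (Fin 2) F) = -1)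
    have hu : u.card ≤ 2 := by
      refine le_trans (Finset.card_le_card_of_injOn (fun g => (g : Matrix (Fin 2) (Fin 2) F))
        (t := {1, -1}) (fun g hg => ?_) (fun g _ h _ e => Subtype.ext e)) Finset.card_le_two
      simp [u] at hg
      simp [hg.2]
    have hv : (S.filter fun g : Matrix.SpecialLinearGroup (Fin 2) F => ¬((g : Matrix (Fin 2) (Fin 2) F) = 1 ∨
        (g : Matrix (Fin 2) (Fin 2) F) = -1)).card ≤ T.card := by
      refine Finset.card_le_card_of_injOn (fun g => (φ ((g : Matrix (Fin 2) (Fin 2) F) 0 0),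
        φ ((g : Matrix (Fin 2) (Fin 2) F) 0 1), φ ((g : Matrix (Fin 2) (Fin 2) F) 1 0))) ?_ ?_
      · intro g hg
        simp only [hS, Finset.coe_filter, Finset.mem_filter, Finset.mem_univ, true_and,
          Set.mem_setOf_eq] at hg
        rcases htr g hg.1 with h | h | h
        · exact absurd (Or.inl h) hg.2
        · exact absurd (Or.inr h) hg.2
        · simp only [T, Finset.coe_filter, Finset.mem_univ, true_and, Set.mem_setOf_eq]
          have hd := g.2
          rw [Matrix.det_fin_two, h] at hd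
          rw [← map_pow, ← map_mul, ← map_add, ← map_one φ, ← map_neg φ]
          exact congrArg φ (by linear_combination -hd)
      · intro g hg g' hg' e
        simp only [hS, Finset.coe_filter, Finset.mem_filter, Finset.mem_univ, true_and,
          Set.mem_setOf_eq] at hg hg'
        simp only [Prod.mk.injEq, φ.injective.eq_iff] at e
        have h11 := ((htr g hg.1).resolve_left fun h => hg.2 (Or.inl h)).resolve_left
          fun h => hg.2 (Or.inr h)
        have h11' := ((htr g' hg'.1).resolve_left fun h => hg'.2 (Or.inl h)).resolve_left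
          fun h => hg'.2 (Or.inr h)
        refine Subtype.ext ?_
        ext i j
        fin_cases i <;> fin_cases j <;> simp [e.1, e.2.1, e.2.2, h11, h11']
    have hT : T.card ≤ 6 := card_sol.trans' (le_of_eq (by congr!))
    have := Finset.card_filter_add_card_filter_not (s := S)
      (fun g => (g : Matrix (Fin 2) (Fin 2) F) = 1 ∨ (g : Matrix (Fin 2) (Fin 2) F) = -1)
    simp only [u] at hu
    omega
  have hpow : ∀ {T : Sylow 2 (Matrix.SpecialLinearGroup (Fin 2) F)},
      ((T : Subgroup (Matrix.SpecialLinearGroup (Fin 2) F)) : Set _).toFinset = S := fun {T} => by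
    obtain ⟨j, hj, ⟨f⟩⟩ := Cfsg.Agent.S0261.result hodd T
    have hT8 : Nat.card (T : Subgroup (Matrix.SpecialLinearGroup (Fin 2) F)) = 8 := by
      rw [T.card_eq_multiplicity, ← P.card_eq_multiplicity, hcard]; norm_num
    have hj1 : j = 1 := by
      rw [Nat.card_congr f.toEquiv, Nat.card_eq_fintype_card, QuaternionGroup.card] at hT8
      refine Nat.pow_right_injective le_rfl (?_ : 2 ^ j = 2 ^ 1)
      omega
    subst hj1
    refine Finset.eq_of_subset_of_card_le (fun g hg => ?_) (hcount.trans ?_)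
    · rw [Set.mem_toFinset] at hg
      rw [hS, Finset.mem_filter]
      refine ⟨Finset.mem_univ _, ?_⟩
      have h : ∀ x : QuaternionGroup (2 ^ 1), x ^ 4 = 1 := by decide
      have h' := congrArg f.symm (h (f ⟨g, hg⟩))
      rw [map_pow, MulEquiv.symm_apply_apply, map_one] at h'
      exact congrArg Subtype.val h'
    · rw [Set.toFinset_card, ← Nat.card_eq_fintype_card]
      exact hT8.ge
  haveI : Subsingleton (Sylow 2 (Matrix.SpecialLinearGroup (Fin 2) F)) := ⟨fun T U => by
    refine Sylow.ext (SetLike.coe_injective ?_)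
    exact Set.toFinset_inj.mp (hpow.trans hpow.symm)⟩
  refine ⟨(P : Subgroup _), P.normal_of_subsingleton, ?_, ⟨e⟩⟩
  omega

/-- SL_2(3) has a normal subgroup of index 3 isomorphic to the quaternion group of order 8, and its centre has order 2. -/
theorem result {F : Type*} [Field F] [Fintype F] (hF : Fintype.card F = 3) : (∃ Q : Subgroup (Matrix.SpecialLinearGroup (Fin 2) F), Q.Normal ∧ Q.index = 3 ∧ Nonempty (Q ≃* QuaternionGroup 2)) ∧ Nat.card (Subgroup.center (Matrix.SpecialLinearGroup (Fin 2) F)) = 2 := by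
  classical
  exact sl23 hF

end Cfsg.Agent.S0257
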