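import Cfsg.Statements.S5029
import Cfsg.Agent.Lib.RankOne.CommCase

set_option autoImplicit false
open Cfsg

namespace Cfsg.Agent.S5029

open Cfsg.Agent.Lib.RankOne

/-- Let S be a set of abstract root subgroups of G, A ∈ S having a rank one partner in S, and B ∈ S with C = ⁅A, B⁆ ∈ S. Then the members of S contained in AC are the conjugates of A by elements of B together with C, they partition AC, the members of S inside AC partition AC so that A is a line partner of C, and for every non-identity a ∈ A the map b ↦ a⁻¹ b⁻¹ a b is an isomorphism from B onto C. -/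
theorem result {G : Type*} [Group G] {S : Set (Subgroup G)} (hS : Cfsg.IsRootSubgroupSet S)
    {A B : Subgroup G} (hA : ¬ Cfsg.IsIsolatedIn (Cfsg.FAdj S) S A) (hAS : A ∈ S) (hB : B ∈ S) (hC : ⁅A, B⁆ ∈ S) :
    Cfsg.membersIn S (A ⊔ ⁅A, B⁆) = (fun b : G => Cfsg.conjBy A b) '' (B : Set G) ∪ {⁅A, B⁆} ∧
    Cfsg.IsSubgroupPartition (A ⊔ ⁅A, B⁆) (Cfsg.membersIn S (A ⊔ ⁅A, B⁆)) ∧
    A ∈ Cfsg.linePartners S ⁅A, B⁆ ∧
    ∀ a ∈ A, a ≠ 1 → ∃ φ : ↥B ≃* ↥⁅A, B⁆, ∀ b : ↥B, (φ b : G) = a⁻¹ * (b : G)⁻¹ * a * b := by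
  obtain ⟨D, hDS, hp⟩ := exists_partner hS hA hAS
  have hcc := comm_case_of_mem hS hAS hB hC
  have hC0 := hS.ne_bot _ hC
  set C := ⁅A, B⁆ with hCdef
  have hpair : ∀ b : G, IsRankOnePair (conjBy A b) (conjBy D b) := fun b => pair_conjBy hp b
  have hconj : ∀ b : G, ∀ E ∈ S, conjBy A b ⊓ E = ⊥ ∨ conjBy A b = E := fun b E hE =>
    inf_eq_bot_or_eq hS (hS.conj_mem A hAS b) hE (hS.conj_mem D hDS b) (hpair b)
  have hmem : membersIn S (A ⊔ C) = (fun b : G => conjBy A b) '' (B : Set G) ∪ {C} := by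
    ext E
    constructor
    · rintro ⟨hES, hE⟩
      by_cases hEC : E ≤ C
      · exact Or.inr (eq_commutator_of_le hS hcc hAS hDS hp hES hEC)
      · left
        obtain ⟨x, hx, hxC⟩ := SetLike.not_le_iff_exists.mp hEC
        obtain ⟨b, hb, hxb⟩ := (cover hcc (hE hx)).resolve_left hxC
        refine ⟨b, hb, (hconj b E hES).resolve_left fun e => hxC ?_⟩
        have h1 : x ∈ conjBy A b ⊓ E := ⟨hxb, hx⟩
        rw [e, Subgroup.mem_bot] at h1
        rw [h1]
        exact one_mem _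
    · rintro (⟨b, hb, rfl⟩ | rfl)
      · exact ⟨hS.conj_mem A hAS b, conj_le_sup hcc hb⟩
      · exact ⟨hC, le_sup_right⟩
  have hpart : IsSubgroupPartition (A ⊔ C) (membersIn S (A ⊔ C)) := by
    refine ⟨fun E hE => hE.2, fun x hx _ => ?_, fun E hE F hF hne => ?_⟩
    · rcases cover hcc hx with h | ⟨b, hb, h⟩
      · exact ⟨C, ⟨hC, le_sup_right⟩, h⟩
      · exact ⟨_, ⟨hS.conj_mem A hAS b, conj_le_sup hcc hb⟩, h⟩
    · have hE' := hE
      have hF' := hF
      rw [hmem] at hE' hF'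
      rcases hE' with ⟨b, -, rfl⟩ | rfl
      · exact (hconj b F hF.1).resolve_right hne
      · rcases hF' with ⟨b, -, rfl⟩ | rfl
        · rw [inf_comm]
          exact (hconj b C hC).resolve_right (Ne.symm hne)
        · exact absurd rfl hne
  refine ⟨hmem, hpart, ⟨⟨hAS, left_ne_commutator hcc hC0, ?_⟩, by rwa [sup_comm]⟩, fun a ha ha1 => ?_⟩
  · exact commutator_eq_bot_iff.mpr fun c hc a ha => hcc.2.1 c hc a ((le_sup_left : A ≤ A ⊔ B) ha)
  haveI := hS.commutative B hB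
  let ψ : ↥B →* ↥C :=
    { toFun := fun b => ⟨a⁻¹ * (b : G)⁻¹ * a * b, by
        have h1 := Subgroup.commutator_mem_commutator (inv_mem ha) (inv_mem b.2)
        rwa [commutatorElement_def, inv_inv, inv_inv] at h1⟩
      map_one' := Subtype.ext (by simp)
      map_mul' := fun u v => Subtype.ext (by
        have h1 := comm_map_mul hcc (inv_mem ha) (inv_mem u.2) (inv_mem v.2)
        simp only [inv_inv] at h1
        rw [← mul_inv_rev] at h1
        rw [show ((v : G) * u) = u * v from commute_of_mem hS hB v.2 u.2] at h1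
        simpa [mul_assoc] using h1) }
  refine ⟨MulEquiv.ofBijective ψ ⟨?_, ?_⟩, fun b => rfl⟩
  · rw [injective_iff_map_eq_one]
    intro b hb
    have h1 := comm_eq_one hS hcc hAS hDS hp (inv_mem ha) (inv_ne_one.mpr ha1) (inv_mem b.2)
      (by rw [inv_inv, inv_inv]; exact congrArg Subtype.val hb)
    exact Subtype.ext (inv_eq_one.mp h1)
  · intro c
    obtain ⟨b, hb, e⟩ := comm_surjective hcc (inv_mem ha) (inv_ne_one.mpr ha1) c.2
    refine ⟨⟨b⁻¹, inv_mem hb⟩, Subtype.ext ?_⟩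
    show a⁻¹ * b⁻¹⁻¹ * a * b⁻¹ = _
    rw [← e, inv_inv, inv_inv]

end Cfsg.Agent.S5029
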