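import Cfsg.Statements.S5026
import Cfsg.Agent.Lib.RankOne.RootSets

set_option autoImplicit false
open Cfsg

namespace Cfsg.Agent.S5026

open Cfsg.Agent.Lib.RankOne

/-- Let S be a degenerate set of abstract root subgroups of G (a set of abstract transvection groups) and let a, b be commuting non-identity elements of members of S with a b ≠ 1. Then the members of S centralizing a b are exactly those centralizing both a and b. -/
theorem result {G : Type*} [Group G] {S : Set (Subgroup G)} (hS : Cfsg.IsRootSubgroupSet S) (hdeg : Cfsg.IsDegenerateRootSet S)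
    {a b : G} (ha : a ∈ Cfsg.rootElements S) (hb : b ∈ Cfsg.rootElements S) (hab : a * b = b * a) (hab1 : a * b ≠ 1) :
    Cfsg.centralizingMembers S (Subgroup.zpowers (a * b)) =
      Cfsg.centralizingMembers S (Subgroup.zpowers a) ∩ Cfsg.centralizingMembers S (Subgroup.zpowers b) := by
  obtain ⟨-, A, hA, haA⟩ := id ha
  obtain ⟨-, B, hB, hbB⟩ := id hb
  ext E
  simp only [Cfsg.centralizingMembers, Set.mem_inter_iff, Set.mem_setOf_eq]
  have cz : ∀ {g : G}, E ≤ Subgroup.centralizer (Subgroup.zpowers g : Set G) ↔ ∀ e ∈ E, g * e = e * g := by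
    intro g
    constructor
    · exact fun hh e he => hh he g (Subgroup.mem_zpowers g)
    · intro hh e he x hx
      obtain ⟨k, rfl⟩ := hx
      exact ((show Commute g e from hh e he).zpow_left k).eq
  simp only [cz]
  constructor
  · rintro ⟨hES, hE⟩
    suffices key : ∀ e ∈ E, a * e = e * a by
      refine ⟨⟨hES, key⟩, hES, fun e he => ?_⟩
      have := hE e he
      rw [mul_assoc] at this
      calc b * e = a⁻¹ * (a * (b * e)) := by group
        _ = a⁻¹ * (e * (a * b)) := by rw [this]
        _ = a⁻¹ * (e * a) * b := by group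
        _ = e * b := by rw [← key e he, inv_mul_cancel_left]
    rcases hS.pair A hA E hES with hc | hAE | hcc
    · exact fun e he => commutator_eq_bot_iff.mp hc a haA e he
    swap
    · exact absurd hcc (hdeg A hA E hES)
    exfalso
    have haX : a ∈ A ⊔ E := (le_sup_left : A ≤ A ⊔ E) haA
    have hbE : Cfsg.conjBy E b = Cfsg.conjBy E a⁻¹ := by
      rw [conjBy_eq_iff, inv_inv]
      exact conjBy_eq_self_of_commute fun e he => hE e he
    have hbU : Cfsg.conjBy E b ∈ Cfsg.unipotentSubgroups A E :=
      hbE ▸ conj_mem_unip (inv_mem haX) (mem_unip_right hAE)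
    rcases fix_or_pair hS hB hES hAE (mem_unip_right hAE) hbB hbU with hfix | hBE
    · exact ha.1 (inv_eq_one.mp (eq_one_of_normalizes hAE (inv_mem haA) (hbE.symm.trans hfix)))
    · obtain ⟨e, he, -, eq⟩ := hBE.cond_left b⁻¹ (inv_mem hbB) (inv_ne_one.mpr hb.1)
      rw [inv_inv, hbE] at eq
      have hBU : B ∈ Cfsg.unipotentSubgroups A E := by
        have h3 : B = Cfsg.conjBy (Cfsg.conjBy E a⁻¹) e := by rw [← eq, conjBy_conjBy, mul_inv_cancel, conjBy_one]
        rw [h3]
        exact conj_mem_unip ((le_sup_right : E ≤ A ⊔ E) he) (conj_mem_unip (inv_mem haX) (mem_unip_right hAE))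
      by_cases hBA : B = A
      · subst hBA
        exact hab1 (eq_one_of_normalizes hAE (mul_mem haA hbB) (conjBy_eq_self_of_commute fun e he => hE e he))
      · have hAB : A = B := by
          have hp := pair_of_mem hAE hBU (mem_unip_left A E) hBA
          have h1 : Cfsg.conjBy A b ∈ Cfsg.unipotentSubgroups B A := (mem_unip_iff hp).mpr (Or.inr ⟨b, hbB, rfl⟩)
          by_contra hne
          have hne2 : Cfsg.conjBy A b ≠ A := fun e => hb.1 (eq_one_of_normalizes hp hbB e)
          have hamem : a ∈ Cfsg.conjBy A b := by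
            rw [mem_conjBy, mul_assoc, hab, inv_mul_cancel_left]
            exact haA
          exact ha.1 (eq_one_of_normalizes (pair_of_mem hp (mem_unip_right hp) h1 hne2.symm) haA
            (conjBy_eq_self_of_mem hamem))
        exact hBA hAB.symm
  · rintro ⟨⟨hES, ha'⟩, -, hb'⟩
    refine ⟨hES, fun e he => ?_⟩
    rw [mul_assoc, hb' e he, ← mul_assoc, ha' e he, mul_assoc]

end Cfsg.Agent.S5026
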