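import Cfsg.Statements.S1137

set_option autoImplicit false
open Cfsg

namespace Cfsg.Agent.S1137

open scoped commutatorElement

universe u

/-- An abelian group of automorphisms is transitive on the involutions. -/
def IsTransOn {P : Type u} [Group P] (K : Subgroup (MulAut P)) : Prop :=
  (∀ k ∈ K, ∀ l ∈ K, k * l = l * k) ∧
  ∀ x y : P, x ≠ 1 → x * x = 1 → y ≠ 1 → y * y = 1 → ∃ k ∈ K, k x = y

section
variable {P : Type u} [Group P] [Finite P] {K : Subgroup (MulAut P)}

omit [Finite P] in
theorem auto_center (k : MulAut P) {z : P} (hz : z ∈ Subgroup.center P) : k z ∈ Subgroup.center P := by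
  refine Subgroup.mem_center_iff.2 fun g => ?_
  obtain ⟨g, rfl⟩ := k.surjective g
  rw [← map_mul, ← map_mul, Subgroup.mem_center_iff.1 hz g]

theorem exists_central_involution (hP : IsPGroup 2 P) [Nontrivial P] :
    ∃ z ∈ Subgroup.center P, z ≠ 1 ∧ z * z = 1 := by
  haveI : Fact (Nat.Prime 2) := ⟨Nat.prime_two⟩
  haveI : Nontrivial (Subgroup.center P) := hP.center_nontrivial
  obtain ⟨z, hz⟩ := exists_ne (1 : Subgroup.center P)
  obtain ⟨k, hk⟩ := hP (z : P)
  induction k generalizing z with
  | zero => exact absurd (Subtype.ext (by simpa using hk)) hz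
  | succ k ih =>
    by_cases h : (z : P) * z = 1
    · exact ⟨z, z.2, fun e => hz (Subtype.ext e), h⟩
    · refine ih (z * z) (fun e => h (congrArg Subtype.val e)) ?_
      rw [Subgroup.coe_mul, ← pow_two, ← pow_mul]
      rwa [pow_succ'] at hk

theorem involution_central (hP : IsPGroup 2 P) (hK : IsTransOn K) {x : P} (hx : x * x = 1) :
    x ∈ Subgroup.center P := by
  by_cases h : x = 1
  · exact h ▸ one_mem _
  haveI : Nontrivial P := nontrivial_of_ne x 1 h
  obtain ⟨z, hz, hz1, hz2⟩ := exists_central_involution hP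
  obtain ⟨k, -, hk⟩ := hK.2 z x hz1 hz2 h hx
  exact hk ▸ auto_center k hz

omit [Finite P] in
/-- Two elements of `K` agreeing at one involution agree at all. -/
theorem agree (hK : IsTransOn K) {k l : MulAut P} (hk : k ∈ K) (hl : l ∈ K) {e : P} (he : e ≠ 1)
    (he2 : e * e = 1) (hkl : k e = l e) {x : P} (hx2 : x * x = 1) : k x = l x := by
  by_cases hx : x = 1
  · rw [hx, map_one, map_one]
  obtain ⟨j, hj, rfl⟩ := hK.2 e x he he2 hx hx2
  rw [← MulAut.mul_apply, ← MulAut.mul_apply, hK.1 k hk j hj, hK.1 l hl j hj, MulAut.mul_apply,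
    MulAut.mul_apply, hkl]

/-- A biadditive, alternating, `K`-equivariant form on the involutions vanishes. -/
theorem form_eq_one (hP : IsPGroup 2 P) (hK : IsTransOn K) (β : P → P → P)
    (hval : ∀ a b, a * a = 1 → b * b = 1 → β a b * β a b = 1)
    (hadd : ∀ a b c, a * a = 1 → b * b = 1 → c * c = 1 → β a (b * c) = β a b * β a c)
    (halt : ∀ a, a * a = 1 → β a a = 1)
    (hsymm : ∀ a b, a * a = 1 → b * b = 1 → β a b = β b a)
    (hequ : ∀ k ∈ K, ∀ a b, a * a = 1 → b * b = 1 → β (k a) (k b) = k (β a b))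
    {a b : P} (ha : a * a = 1) (hb : b * b = 1) : β a b = 1 := by
  classical
  have hsq : ∀ {x : P} (k : MulAut P), x * x = 1 → k x * k x = 1 := fun k hx => by
    rw [← map_mul, hx, map_one]
  have hcomm : ∀ {x : P}, x * x = 1 → ∀ y : P, y * x = x * y := fun hx y =>
    Subgroup.mem_center_iff.1 (involution_central hP hK hx) y
  have hmulsq : ∀ {x y : P}, x * x = 1 → y * y = 1 → (x * y) * (x * y) = 1 := fun {x y} hx hy => by
    rw [mul_assoc, ← mul_assoc y x y, hcomm hx y, mul_assoc x y y, hy, mul_one, hx]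
  by_cases ha1 : a = 1
  · subst ha1
    have := hadd b 1 1 hb (one_mul _) (one_mul _)
    rw [one_mul] at this
    rw [hsymm 1 b (one_mul _) hb]
    exact mul_eq_left.1 this.symm
  -- `β a (k (k a)) = 1` for `k ∈ K`
  have key : ∀ k ∈ K, β a (k (k a)) = 1 := by
    intro k hk
    by_cases hka : k a = a
    · rw [hka, hka]; exact halt a ha
    set e := k a with he
    have he2 : e * e = 1 := hsq k ha
    have hea1 : e * a ≠ 1 := fun h => hka (by rw [← mul_one e, ← ha, ← mul_assoc, h, one_mul])
    have hea2 : (e * a) * (e * a) = 1 := hmulsq he2 ha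
    obtain ⟨l, hl, hle⟩ := hK.2 a (e * a) ha1 ha hea1 hea2
    -- `l x * k x = x` on involutions
    have hlk : ∀ x : P, x * x = 1 → l x * k x = x := by
      intro x hx
      by_cases hx1 : x = 1
      · simp [hx1]
      obtain ⟨j, hj, rfl⟩ := hK.2 a x ha1 ha hx1 hx
      show (l * j) a * (k * j) a = j a
      rw [hK.1 l hl j hj, hK.1 k hk j hj]
      show j (l a) * j (k a) = j a
      rw [hle, ← map_mul, ← he, hcomm he2 (e * a), ← mul_assoc, he2, one_mul]
    set u := k⁻¹ a with hu
    set v := l⁻¹ a with hv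
    have hku : k u = a := k.apply_symm_apply a
    have hlv : l v = a := l.apply_symm_apply a
    have hu2 : u * u = 1 := hsq _ ha
    have hv2 : v * v = 1 := hsq _ ha
    have hkl : (k * l) (u * v) = a := by
      rw [map_mul]
      conv_lhs => arg 1; rw [hK.1 k hk l hl]
      rw [MulAut.mul_apply, MulAut.mul_apply, hku, hlv]
      exact hlk a ha
    set w := β e a with hw
    have hw2 : w * w = 1 := hval _ _ he2 ha
    have h1 : (k * l) (β a (u * v)) = β ((k * l) a) a := by
      rw [← hequ _ (mul_mem hk hl) a (u * v) ha (hmulsq hu2 hv2), hkl]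
    have h2 : (k * l) (β a u) = l w := by
      rw [hK.1 k hk l hl, MulAut.mul_apply, ← hequ k hk a u ha hu2, hku]
    have h3 : (k * l) (β a v) = k w := by
      rw [MulAut.mul_apply, ← hequ l hl a v ha hv2, hlv, hle, hsymm _ _ hea2 ha,
        hadd a e a ha he2 ha, halt a ha, mul_one, hsymm a e ha he2]
    rw [hadd a u v ha hu2 hv2, map_mul, h2, h3, hlk w hw2] at h1
    rw [MulAut.mul_apply, hle, map_mul, ← he, hsymm _ _ (hmulsq (hsq k he2) he2) ha,
      hadd a (k e) e ha (hsq k he2) he2, hw, hsymm e a he2 ha] at h1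
    exact mul_eq_right.1 h1.symm
  -- squaring is surjective
  by_cases hb1 : b = 1
  · subst hb1
    have := hadd a 1 1 ha (one_mul _) (one_mul _)
    rw [one_mul] at this
    exact mul_eq_left.1 this.symm
  let E := {x : P // x ≠ 1 ∧ x * x = 1}
  have hch : ∀ x : E, ∃ k ∈ K, k a = x.1 := fun x => hK.2 a x.1 ha1 ha x.2.1 x.2.2
  choose s hs hsx using hch
  let φ : E → E := fun x => ⟨s x x.1, fun h => x.2.1 ((s x).injective (h.trans (map_one _).symm)),
    hsq _ x.2.2⟩
  have hinj : Function.Injective φ := by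
    intro x y hxy
    have h : s x x.1 = s y y.1 := congrArg Subtype.val hxy
    refine Subtype.ext (Classical.byContradiction fun hne => ?_)
    set d := x.1 * y.1 with hd
    have hd1 : d ≠ 1 := fun hd1 => hne (by
      calc x.1 = x.1 * (y.1 * y.1) := by rw [y.2.2, mul_one]
        _ = d * y.1 := by rw [hd, mul_assoc]
        _ = y.1 := by rw [hd1, one_mul])
    -- the quotient `j` of `s x` and `s y` fixes `d`
    set j := (s y)⁻¹ * s x with hj
    have hjK : j ∈ K := mul_mem (inv_mem (hs y)) (hs x)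
    have hjx : j x.1 = y.1 := by
      rw [hj, MulAut.mul_apply, h]; exact (s y).symm_apply_apply _
    have hsxy : s x y.1 = s y x.1 := by
      rw [← hsx x, ← hsx y, ← MulAut.mul_apply, ← MulAut.mul_apply, hK.1 _ (hs x) _ (hs y)]
    have hjy : j y.1 = x.1 := by
      rw [hj, MulAut.mul_apply, hsxy]; exact (s y).symm_apply_apply _
    have hjd : j d = (1 : MulAut P) d := by
      rw [hd, map_mul, hjx, hjy, MulAut.one_apply]
      exact (Subgroup.mem_center_iff.1 (involution_central hP hK x.2.2) y.1)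
    have := agree hK hjK (one_mem _) hd1 (hmulsq x.2.2 y.2.2) hjd x.2.2
    rw [MulAut.one_apply, hjx] at this
    exact hne this.symm
  obtain ⟨x, hx⟩ := Finite.surjective_of_injective hinj ⟨b, hb1, hb⟩
  have hx' : s x (s x a) = b := by rw [hsx x]; exact congrArg Subtype.val hx
  rw [← hx']
  exact key _ (hs x)

end

section
variable {P : Type u} [Group P]

/-- The square roots of one. -/
def invSubgroup (h : ∀ x : P, x * x = 1 → x ∈ Subgroup.center P) : Subgroup P where
  carrier := {x | x * x = 1}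
  one_mem' := one_mul 1
  mul_mem' := fun {x y} hx hy => by
    show (x * y) * (x * y) = 1
    rw [mul_assoc, ← mul_assoc y x y, Subgroup.mem_center_iff.1 (h x hx) y, mul_assoc x y y, hy,
      mul_one, hx]
  inv_mem' := fun {x} hx => by
    show x⁻¹ * x⁻¹ = 1
    rw [← mul_inv_rev, hx, inv_one]

theorem pow_root {v : P} {n : ℕ} (hv : v ^ 2 ^ (n + 1) = 1) : v ^ 2 ^ n * v ^ 2 ^ n = 1 := by
  rw [← pow_add, ← two_mul, ← pow_succ']; exact hv

end

theorem center_sq : ∀ (N : ℕ) (P : Type u) [Group P] [Finite P], Nat.card P ≤ N → IsPGroup 2 P →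
    (∃ x y : P, x * y ≠ y * x) → ∀ K : Subgroup (MulAut P), IsTransOn K →
    ∀ z ∈ Subgroup.center P, z * z = 1 := by
  intro N
  induction N with
  | zero =>
    intro P _ _ hN
    exact absurd hN (by have := Nat.card_pos (α := P); omega)
  | succ N ih =>
    intro P _ _ hN hP hna K hK
    by_contra hcon
    push Not at hcon
    obtain ⟨z0, hz0, hz02⟩ := hcon
    set Z := Subgroup.center P with hZ
    have hinv : ∀ x : P, x * x = 1 → x ∈ Z := fun x hx => involution_central hP hK hx
    set E := invSubgroup hinv with hE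
    have hEmem : ∀ x : P, x ∈ E ↔ x * x = 1 := fun x => Iff.rfl
    haveI hEn : E.Normal := ⟨fun e he g => by
      rw [Subgroup.mem_center_iff.1 (hinv e he) g, mul_inv_cancel_right]; exact he⟩
    have hcomm : ∀ {x : P}, x ∈ Z → ∀ y : P, y * x = x * y := fun hx y => Subgroup.mem_center_iff.1 hx y
    -- a central element whose square is an involution
    obtain ⟨v, hv, hv1, hv2⟩ : ∃ v ∈ Z, v * v ≠ 1 ∧ (v * v) * (v * v) = 1 := by
      obtain ⟨k, hk⟩ := hP z0
      induction k generalizing z0 with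
      | zero => exact absurd (by simp at hk; simp [hk]) hz02
      | succ k ih' =>
        by_cases h : (z0 * z0) * (z0 * z0) = 1
        · exact ⟨z0, hz0, hz02, h⟩
        · refine ih' (z0 * z0) h (mul_mem hz0 hz0) ?_
          rw [← pow_two, ← pow_mul]; rwa [pow_succ'] at hk
    -- every involution is a central square
    have hroot : ∀ e : P, e * e = 1 → ∃ w ∈ Z, w * w = e := by
      intro e he
      by_cases he1 : e = 1
      · exact ⟨1, one_mem _, by rw [he1, one_mul]⟩
      obtain ⟨k, -, hk⟩ := hK.2 _ e hv1 hv2 he1 he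
      exact ⟨k v, auto_center k hv, by rw [← map_mul, hk]⟩
    -- an element with square in `E` is central
    have hU : ∀ x : P, x * x ∈ E → x ∈ Z := by
      intro x hx
      obtain ⟨w, hw, hwx⟩ := hroot _ hx
      have h1 : (x * w⁻¹) * (x * w⁻¹) = 1 := by
        rw [mul_assoc, ← mul_assoc w⁻¹ x, ← hcomm (inv_mem hw) x, mul_assoc x w⁻¹ w⁻¹, ← mul_assoc,
          ← mul_inv_rev, hwx, mul_inv_cancel]
      simpa using mul_mem (hinv _ h1) hw
    -- upper central series
    obtain ⟨y, hyZ, hy⟩ : ∃ y : P, y ∉ Z ∧ ∀ g : P, ⁅y, g⁆ ∈ E := by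
      haveI : Fact (Nat.Prime 2) := ⟨Nat.prime_two⟩
      have hne : Z ≠ ⊤ := fun h => by
        obtain ⟨a, b, hab⟩ := hna
        exact hab (hcomm (h ▸ Subgroup.mem_top b) a)
      haveI : Nontrivial (P ⧸ Z) := QuotientGroup.nontrivial_iff.2 hne
      obtain ⟨q, hq, hq1, hq2⟩ := exists_central_involution (hP.to_quotient Z)
      obtain ⟨y, rfl⟩ := QuotientGroup.mk_surjective q
      have hy2 : y * y ∈ Z := (QuotientGroup.eq_one_iff _).1 hq2
      refine ⟨y, fun h => hq1 ((QuotientGroup.eq_one_iff _).2 h), fun g => (hEmem _).2 ?_⟩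
      have hc : ⁅y, g⁆ ∈ Z := by
        rw [← QuotientGroup.eq_one_iff, ← QuotientGroup.mk'_apply, map_commutatorElement,
          commutatorElement_eq_one_iff_commute]
        exact (Subgroup.mem_center_iff.1 hq _).symm
      have h1 : ⁅y * y, g⁆ = 1 :=
        commutatorElement_eq_one_iff_commute.2 (hcomm hy2 g).symm
      rwa [commutatorElement_mul_left_eq_conj_mul, hcomm hc y, mul_inv_cancel_right] at h1
    by_cases hab : ∀ a b : P, ⁅a, b⁆ ∈ E
    · -- the quotient by `E` is abelian
      have hsq : ∀ x : P, x * x ∈ Z := fun x => by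
        refine Subgroup.mem_center_iff.2 fun g => ?_
        have h1 : ⁅x * x, g⁆ = 1 := by
          rw [commutatorElement_mul_left_eq_conj_mul, hcomm (hinv _ (hab x g)) x, mul_inv_cancel_right]
          exact hab x g
        exact ((commutatorElement_eq_one_iff_commute).1 h1).eq.symm
      have hbil : ∀ a b c : P, ⁅a, b * c⁆ = ⁅a, b⁆ * ⁅a, c⁆ := fun a b c => by
        rw [commutatorElement_mul_right_eq_mul_conj, mul_assoc _ b, hcomm (hinv _ (hab a c)) b,
          ← mul_assoc, mul_inv_cancel_right]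
      have hsqmul : ∀ a b : P, (a * b) * (a * b) = (a * a) * (b * b) * ⁅b, a⁆ := fun a b => by
        have hc := hcomm (hinv _ (hab b a))
        calc (a * b) * (a * b) = a * (⁅b, a⁆ * (a * b)) * b := by rw [commutatorElement_def]; group
          _ = _ := by
            rw [← hc (a * b)]
            simp only [mul_assoc]
            rw [hc b]
      -- the height of the centre
      obtain ⟨T, hT1, hT2⟩ : ∃ T, (∀ z ∈ Z, z ^ 2 ^ (T + 1) = 1) ∧ ¬ ∀ z ∈ Z, z ^ 2 ^ T = 1 := by
        classical
        have hex : ∃ T, ∀ z ∈ Z, z ^ 2 ^ T = 1 := by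
          obtain ⟨T, hT⟩ := IsPGroup.iff_card.1 hP
          exact ⟨T, fun z _ => hT ▸ pow_card_eq_one'⟩
        have hpos : Nat.find hex ≠ 0 := fun h => by
          have := Nat.find_spec hex v hv
          rw [h, pow_zero, pow_one] at this
          exact hv1 (by rw [this, one_mul])
        obtain ⟨T, hT⟩ := Nat.exists_eq_succ_of_ne_zero hpos
        exact ⟨T, by have := Nat.find_spec hex; rwa [hT] at this, Nat.find_min hex (by omega)⟩
      push Not at hT2
      obtain ⟨t, ht, ht1⟩ := hT2
      have hTpos : T ≠ 0 := fun h => hv1 (by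
        have := hT1 v hv
        simpa [h, pow_two] using this)
      let ψ : P → P := fun x => (x * x) ^ 2 ^ T
      have hψE : ∀ x, ψ x * ψ x = 1 := fun x => pow_root (hT1 _ (hsq x))
      have heven : ∀ c : P, c * c = 1 → c ^ 2 ^ T = 1 := fun c hc => by
        obtain ⟨T', rfl⟩ := Nat.exists_eq_succ_of_ne_zero hTpos
        rw [pow_succ', pow_mul, pow_two, hc, one_pow]
      have hψmul : ∀ x w : P, ψ (x * w) = ψ x * ψ w := fun x w => by
        show ((x * w) * (x * w)) ^ 2 ^ T = _
        rw [hsqmul, Commute.mul_pow (hcomm (hinv _ (hab w x)) _), Commute.mul_pow (hcomm (hsq w) _),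
          heven _ (hab w x), mul_one]
      have hψk : ∀ (k : MulAut P) x, ψ (k x) = k (ψ x) := fun k x => by
        show (k x * k x) ^ 2 ^ T = k ((x * x) ^ 2 ^ T)
        rw [← map_mul, map_pow]
      have hwit : ∀ e : P, e * e = 1 → e ≠ 1 → ∃ w ∈ Z, w ^ 2 ^ T = e := fun e he he1 => by
        obtain ⟨k, -, hk⟩ := hK.2 _ e ht1 (pow_root (hT1 t ht)) he1 he
        exact ⟨k t, auto_center k ht, by rw [← map_pow, hk]⟩
      -- kernel of `ψ`
      have hker : ∀ j, j ≤ T → ∀ u ∈ Z, u ^ 2 ^ j = 1 → ∃ w ∈ Z, w * w = u := by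
        intro j
        induction j with
        | zero =>
          intro _ u _ hu
          exact ⟨1, one_mem _, by rw [one_mul]; simpa using hu.symm⟩
        | succ j ihj =>
          intro hj u hu hu1
          by_cases hu0 : u ^ 2 ^ j = 1
          · exact ihj (by omega) u hu hu0
          obtain ⟨w, hw, hwe⟩ := hwit _ (pow_root hu1) hu0
          obtain ⟨d, rfl⟩ := Nat.exists_eq_add_of_le (show j + 1 ≤ T from hj)
          set r := w ^ 2 ^ d with hr
          have hrr : (r * r) ^ 2 ^ j = u ^ 2 ^ j := by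
            rw [hr, ← hwe, ← pow_two, ← pow_mul, ← pow_mul]
            congr 1
            ring
          obtain ⟨w', hw', hw'e⟩ := ihj (by omega) (u * (r * r)⁻¹)
            (mul_mem hu (inv_mem (mul_mem (pow_mem hw _) (pow_mem hw _))))
            (by rw [Commute.mul_pow (hcomm hu _).symm, inv_pow, hrr, mul_inv_cancel])
          refine ⟨w' * r, mul_mem hw' (pow_mem hw _), ?_⟩
          rw [mul_assoc, ← mul_assoc r w' r, hcomm hw' r, mul_assoc w' r r, ← mul_assoc, hw'e,
            inv_mul_cancel_right]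
      have hψker : ∀ x, ψ x = 1 → x ∈ Z := by
        intro x hx
        obtain ⟨w, hw, hwx⟩ := hker T le_rfl _ (hsq x) hx
        refine ?_
        have h1 : (x * w⁻¹) * (x * w⁻¹) = 1 := by
          rw [mul_assoc, ← mul_assoc w⁻¹ x, ← hcomm (inv_mem hw) x, mul_assoc x w⁻¹ w⁻¹, ← mul_assoc,
            ← mul_inv_rev, hwx, mul_inv_cancel]
        simpa using mul_mem (hinv _ h1) hw
      have hlift : ∀ e : P, e * e = 1 → ∃ x, ψ x = e := by
        intro e he
        by_cases he1 : e = 1
        · exact ⟨1, by simp [ψ, he1]⟩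
        obtain ⟨k, -, hk⟩ := hK.2 _ e (fun h => hyZ (hψker y h)) (hψE y) he1 he
        exact ⟨k y, by rw [hψk, hk]⟩
      choose! s hs using hlift
      have hwd : ∀ x x' g : P, ψ x = ψ x' → ⁅x, g⁆ = ⁅x', g⁆ := by
        intro x x' g h
        have hz : x'⁻¹ * x ∈ Z := hψker _ (by
          rw [hψmul, h, ← hψmul, inv_mul_cancel]; simp [ψ])
        conv_lhs => rw [← mul_inv_cancel_left x' x]
        rw [commutatorElement_mul_left_eq_conj_mul,
          commutatorElement_eq_one_iff_commute.2 (hcomm hz g).symm, mul_one, mul_inv_cancel, one_mul]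
      have hsw : ∀ a b : P, ⁅a, b⁆ = ⁅b, a⁆ := fun a b => by
        rw [← commutatorElement_inv b a, inv_eq_iff_mul_eq_one]
        exact hab b a
      have hwd2 : ∀ x x' g g' : P, ψ x = ψ x' → ψ g = ψ g' → ⁅x, g⁆ = ⁅x', g'⁆ := fun x x' g g' h h' => by
        rw [hwd x x' g h, hsw x' g, hwd g g' x' h', hsw g' x']
      let β : P → P → P := fun a b => ⁅s a, s b⁆
      have hβ := fun {a b : P} (ha : a * a = 1) (hb : b * b = 1) =>
        form_eq_one hP hK β (fun a b _ _ => hab _ _)
        (fun a b c ha hb hc => by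
          show ⁅s a, s (b * c)⁆ = ⁅s a, s b⁆ * ⁅s a, s c⁆
          rw [← hbil]
          refine hwd2 _ _ _ _ rfl ?_
          rw [hψmul, hs b hb, hs c hc, hs (b * c) (E.mul_mem hb hc)])
        (fun a _ => commutatorElement_self _)
        (fun a b _ _ => hsw _ _)
        (fun k _ a b ha hb => by
          show ⁅s (k a), s (k b)⁆ = k ⁅s a, s b⁆
          rw [map_commutatorElement k (s a) (s b)]
          refine hwd2 _ _ _ _ ?_ ?_
          · rw [hψk, hs a ha, hs (k a) (by rw [← map_mul, ha, map_one])]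
          · rw [hψk, hs b hb, hs (k b) (by rw [← map_mul, hb, map_one])]) ha hb
      obtain ⟨a, b, hne⟩ := hna
      have h := hβ (hψE a) (hψE b)
      rw [show β (ψ a) (ψ b) = ⁅a, b⁆ from hwd2 _ _ _ _ (hs _ (hψE a)) (hs _ (hψE b))] at h
      exact hne (commutatorElement_eq_one_iff_commute.1 h).eq
    · -- the quotient by `E` has the same shape
      push Not at hab
      obtain ⟨a, b, hab⟩ := hab
      have hstab : ∀ k : MulAut P, E.map (k : P →* P) = E := fun k => by
        refine le_antisymm ?_ fun x hx => ⟨k.symm x, ?_, k.apply_symm_apply x⟩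
        · rintro _ ⟨e, he, rfl⟩
          show k e * k e = 1
          rw [← map_mul, he, map_one]
        · show k.symm x * k.symm x = 1
          rw [← map_mul, hx, map_one]
      let ρ : MulAut P →* MulAut (P ⧸ E) :=
        { toFun := fun k => QuotientGroup.congr E E k (hstab k)
          map_one' := MulEquiv.ext fun q => by
            obtain ⟨x, rfl⟩ := QuotientGroup.mk_surjective q; rfl
          map_mul' := fun k l => MulEquiv.ext fun q => by
            obtain ⟨x, rfl⟩ := QuotientGroup.mk_surjective q; rfl }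
      have hρ : IsTransOn (K.map ρ) := by
        refine ⟨?_, fun q r hq1 hq2 hr1 hr2 => ?_⟩
        · rintro _ ⟨k, hk, rfl⟩ _ ⟨l, hl, rfl⟩
          rw [← map_mul, ← map_mul, hK.1 k hk l hl]
        obtain ⟨x, rfl⟩ := QuotientGroup.mk_surjective q
        obtain ⟨w, rfl⟩ := QuotientGroup.mk_surjective r
        have hx2 : x * x ∈ E := (QuotientGroup.eq_one_iff _).1 hq2
        have hw2 : w * w ∈ E := (QuotientGroup.eq_one_iff _).1 hr2
        have hx1 : x * x ≠ 1 := fun h => hq1 ((QuotientGroup.eq_one_iff _).2 h)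
        have hw1 : w * w ≠ 1 := fun h => hr1 ((QuotientGroup.eq_one_iff _).2 h)
        obtain ⟨k, hk, hkx⟩ := hK.2 _ _ hx1 hx2 hw1 hw2
        refine ⟨ρ k, ⟨k, hk, rfl⟩, ?_⟩
        show ((k x : P) : P ⧸ E) = (w : P ⧸ E)
        rw [QuotientGroup.eq]
        have hkxZ : k x ∈ Z := auto_center k (hU x hx2)
        show ((k x)⁻¹ * w) * ((k x)⁻¹ * w) = 1
        rw [mul_assoc, ← mul_assoc w, hcomm (inv_mem hkxZ) w, mul_assoc _ w w, ← mul_assoc,
          ← mul_inv_rev, ← map_mul, hkx, inv_mul_cancel]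
      have hlt : Nat.card (P ⧸ E) ≤ N := by
        have hcard : Nat.card P = Nat.card (P ⧸ E) * Nat.card E := Subgroup.card_eq_card_quotient_mul_card_subgroup E
        have : 1 < Nat.card E := by
          rw [Subgroup.one_lt_card_iff_ne_bot, Subgroup.ne_bot_iff_exists_ne_one]
          exact ⟨⟨v * v, hv2⟩, fun h => hv1 (congrArg Subtype.val h)⟩
        have : 0 < Nat.card (P ⧸ E) := Nat.card_pos
        nlinarith
      have h := ih (P ⧸ E) hlt (hP.to_quotient E) ⟨a, b, fun h => hab (by
        rw [← QuotientGroup.eq_one_iff, ← QuotientGroup.mk'_apply, map_commutatorElement]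
        exact commutatorElement_eq_one_iff_commute.2 h)⟩ (K.map ρ) hρ (y : P ⧸ E)
        (Subgroup.mem_center_iff.2 fun q => by
          obtain ⟨g, rfl⟩ := QuotientGroup.mk_surjective q
          have := (QuotientGroup.eq_one_iff _).2 (hy g)
          rw [← QuotientGroup.mk'_apply, map_commutatorElement,
            commutatorElement_eq_one_iff_commute] at this
          exact this.eq.symm)
      exact hyZ (hU y ((QuotientGroup.eq_one_iff _).1 h))

theorem isTransOn_of_cyclic {P : Type u} [Group P] {K : Subgroup (MulAut P)} (hK : IsCyclic K)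
    (h : ∀ x y : P, x ≠ 1 → x * x = 1 → y ≠ 1 → y * y = 1 → ∃! k : K, (k : MulAut P) x = y) :
    IsTransOn K := by
  refine ⟨fun k hk l hl => ?_, fun x y a b c d => ?_⟩
  · obtain ⟨g, hg⟩ := hK.exists_generator
    obtain ⟨i, hi⟩ := Subgroup.mem_zpowers_iff.1 (hg ⟨k, hk⟩)
    obtain ⟨j, hj⟩ := Subgroup.mem_zpowers_iff.1 (hg ⟨l, hl⟩)
    exact congrArg Subtype.val (show (⟨k, hk⟩ : K) * ⟨l, hl⟩ = ⟨l, hl⟩ * ⟨k, hk⟩ by
      rw [← hi, ← hj, ← zpow_add, ← zpow_add, add_comm])
  · obtain ⟨k, hk, -⟩ := h x y a b c d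
    exact ⟨k, k.2, hk⟩

theorem main {P : Type*} [Group P] (hP : Cfsg.IsSuzukiTwoGroup P) :
    (∀ x : P, (x ≠ 1 ∧ x * x = 1) ↔ (x ∈ Subgroup.center P ∧ x ≠ 1)) ∧
      ∀ z ∈ Subgroup.center P, z * z = 1 := by
  obtain ⟨hfin, h2, hna, -, K, hKc, hKt⟩ := hP
  have hK := isTransOn_of_cyclic hKc hKt
  have h := center_sq (Nat.card P) P le_rfl h2 hna K hK
  exact ⟨fun x => ⟨fun hx => ⟨involution_central h2 hK hx.2, hx.1⟩,
    fun hx => ⟨hx.2, h x hx.1⟩⟩, h⟩

/-- In a Suzuki 2-group `P` (a finite non-abelian 2-group with more than one involution admitting a cyclic group of automorphisms regular on its involutions) the involutions are exactly the non-identity central elements, and `Z(P)` is elementary abelian. -/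
theorem result {P : Type*} [Group P] (hP : Cfsg.IsSuzukiTwoGroup P) :
    (∀ x : P, (x ≠ 1 ∧ x * x = 1) ↔ (x ∈ Subgroup.center P ∧ x ≠ 1)) ∧
      ∀ z ∈ Subgroup.center P, z * z = 1 := by
  exact main hP

end Cfsg.Agent.S1137
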