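import Cfsg.Statements.S1138
import Cfsg.Agent.Lib.TwoGroup.SuzukiStructure

set_option autoImplicit false
open Cfsg
open scoped commutatorElement

namespace Cfsg.Agent.S1138

/-- Let `P` be a Suzuki 2-group with `|Z(P)| = q`. Then every square lies in `Z(P)` and `P/Z(P)` is abelian (so elementary abelian), `|P| = q²` or `|P| = q³`, and `P` has exponent 4. -/
theorem result {P : Type*} [Group P] (hP : Cfsg.IsSuzukiTwoGroup P) :
    (∀ x : P, x * x ∈ Subgroup.center P) ∧ (∀ x y : P, x⁻¹ * y⁻¹ * x * y ∈ Subgroup.center P) ∧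
      (Nat.card P = Nat.card (Subgroup.center P) ^ 2 ∨ Nat.card P = Nat.card (Subgroup.center P) ^ 3) ∧
      Monoid.exponent P = 4 := by
  classical
  obtain ⟨hZ, hsq, hcomm, hcard⟩ := Cfsg.Lib.Suzuki2.structure_of_suzuki hP
  refine ⟨hsq, fun x y => ?_, hcard, ?_⟩
  · have h := hcomm x⁻¹ y⁻¹
    rwa [commutatorElement_def, inv_inv, inv_inv] at h
  obtain ⟨hfin, -, ⟨a, b, hab⟩, -, -⟩ := hP
  obtain ⟨x, hx⟩ : ∃ x : P, x ∉ Subgroup.center P := by
    by_contra h
    push Not at h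
    exact hab (Subgroup.mem_center_iff.1 (h b) a)
  have hx4 : orderOf x = 4 := by
    have h4 : x ^ (2 ^ (1 + 1)) = 1 := by
      have := (hZ _).1 (hsq x)
      simpa [pow_succ, mul_assoc] using this
    have h2 : ¬ x ^ (2 ^ 1) = 1 := fun h => hx ((hZ x).2 (by rw [← pow_two]; simpa using h))
    haveI : Fact (Nat.Prime 2) := ⟨Nat.prime_two⟩
    exact orderOf_eq_prime_pow h2 h4
  apply Nat.dvd_antisymm
  · refine Monoid.exponent_dvd_of_forall_pow_eq_one fun g => ?_
    have := (hZ _).1 (hsq g)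
    simpa [pow_succ, mul_assoc] using this
  · exact hx4 ▸ Monoid.order_dvd_exponent x

end Cfsg.Agent.S1138
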