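import Cfsg.Statements.S1125
import Cfsg.Agent.Lib.Linear.RankOne

set_option autoImplicit false
open Cfsg

namespace Cfsg.Agent.S1125

/-- In the rank-one set-up (`G` finite and doubly transitive on `Ω`, `t` an involution moving `a`, `Q` normal in `G_a` with `G_a = Q D`, `Q ⊓ D = 1` for the two-point stabiliser `D = G_a ⊓ G_{t • a}`, `|Q|` even, `|D|` odd), let `X ⊆ D` fix at least three points of `Ω`. Then `C_G(X)` is doubly transitive on the fixed-point set of `X`, `|C_Q(X)|` is even, and `C_{G_a}(X) = C_Q(X) C_D(X)`. -/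
theorem result {G Ω : Type*} [Group G] [Finite G] [MulAction G Ω] {a : Ω} {t : G} {Q : Subgroup G}
    (hS : Cfsg.IsRankOneSetup G Ω a t Q)
    (X : Set G) (hX : X ⊆ ((MulAction.stabilizer G a ⊓ MulAction.stabilizer G (t • a)) : Set G))
    (h3 : ∃ b c d : Ω, b ≠ c ∧ b ≠ d ∧ c ≠ d ∧ ∀ x ∈ X, x • b = b ∧ x • c = c ∧ x • d = d) :
    (∀ b₁ b₂ c₁ c₂ : Ω, (∀ x ∈ X, x • b₁ = b₁ ∧ x • b₂ = b₂ ∧ x • c₁ = c₁ ∧ x • c₂ = c₂) →
        b₁ ≠ b₂ → c₁ ≠ c₂ → ∃ g ∈ Subgroup.centralizer X, g • b₁ = c₁ ∧ g • b₂ = c₂) ∧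
      Even (Nat.card ↥(Subgroup.centralizer X ⊓ Q)) ∧
      (Subgroup.centralizer X ⊓ Q) ⊔ (Subgroup.centralizer X ⊓ (MulAction.stabilizer G a ⊓ MulAction.stabilizer G (t • a))) = Subgroup.centralizer X ⊓ MulAction.stabilizer G a := by
  obtain ⟨hXa, hXt⟩ := Cfsg.Lib.Linear.RankOne.fix_a_of_subset hS hX
  have h2 := fun {b₁ b₂ c₁ c₂ : Ω}
      (hfix : ∀ x ∈ X, x • b₁ = b₁ ∧ x • b₂ = b₂ ∧ x • c₁ = c₁ ∧ x • c₂ = c₂) =>
    Cfsg.Lib.Linear.RankOne.centralizer_two_transitive hS h3 hfix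
  have hne := Cfsg.Lib.Linear.RankOne.smul_ne hS
  refine ⟨fun b₁ b₂ c₁ c₂ hfix hb hc => h2 hfix hb hc, ?_, ?_⟩
  · obtain ⟨g, hg, hga, hgt⟩ := h2 (b₁ := a) (b₂ := t • a) (c₁ := t • a) (c₂ := a)
      (fun x hx => ⟨hXa x hx, hXt x hx, hXt x hx, hXa x hx⟩) hne.symm hne
    obtain ⟨w, hw, hw2, hwa, -⟩ := Cfsg.Lib.Linear.RankOne.exists_swap_invol hS hga hgt
    have hwC : w ∈ Subgroup.centralizer X := (Subgroup.zpowers_le.mpr hg) hw
    have hw1 : w ≠ 1 := fun h => hne (by rw [← hwa, h, one_smul])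
    obtain ⟨e, he, heu⟩ := Cfsg.Lib.Linear.RankOne.invol_fix hS hw1 hw2
    have hXe : ∀ x ∈ X, x • e = e := fun x hx =>
      Cfsg.Lib.Linear.RankOne.fix_of_commute hS hw1 hw2
        (Subgroup.mem_centralizer_iff.mp hwC x hx).symm he
    obtain ⟨k, hk, hke⟩ : ∃ k ∈ Subgroup.centralizer X, k • e = a := by
      by_cases hea : e = a
      · exact ⟨1, one_mem _, by rw [one_smul, hea]⟩
      obtain ⟨k, hk, h1, -⟩ := h2 (b₁ := e) (b₂ := a) (c₁ := a) (c₂ := t • a)
        (fun x hx => ⟨hXe x hx, hXa x hx, hXa x hx, hXt x hx⟩) hea hne.symm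
      exact ⟨k, hk, h1⟩
    set u := k * w * k⁻¹ with hu
    have huC : u ∈ Subgroup.centralizer X := mul_mem (mul_mem hk hwC) (inv_mem hk)
    have hu2 : u * u = 1 := by
      rw [hu, show k * w * k⁻¹ * (k * w * k⁻¹) = k * (w * w) * k⁻¹ by group, hw2]; group
    have hu1 : u ≠ 1 := fun h => hw1 (by
      calc w = k⁻¹ * u * k := by rw [hu]; group
        _ = 1 := by rw [h]; group)
    have hua : u ∈ MulAction.stabilizer G a := by
      show u • a = a
      rw [hu, mul_smul, mul_smul, inv_smul_eq_iff.mpr hke.symm, he, hke]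
    have hmem : u ∈ Subgroup.centralizer X ⊓ Q :=
      ⟨huC, Cfsg.Lib.Linear.RankOne.invol_mem hS hua hu2⟩
    rw [even_iff_two_dvd, ← Cfsg.Lib.Invol.orderOf_eq_two_of hu1 hu2]
    exact Subgroup.orderOf_dvd_natCard _ hmem
  · refine le_antisymm (sup_le (le_inf inf_le_left (inf_le_right.trans hS.le))
      (le_inf inf_le_left (inf_le_right.trans inf_le_left))) ?_
    rintro g ⟨hgC, hga⟩
    have hga' : g • a = a := hga
    have hXg : ∀ x ∈ X, x • g • t • a = g • t • a := by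
      intro x hx
      rw [smul_smul, Subgroup.mem_centralizer_iff.mp hgC x hx, mul_smul, hXt x hx]
    have hgne : g • t • a ≠ a := by
      intro h
      exact hne (MulAction.injective g (h.trans hga'.symm))
    obtain ⟨q, hq, hqa, hqb⟩ :=
      Cfsg.Lib.Linear.RankOne.exists_centralizer_map hS hXa hXt hXg hne hgne
    obtain ⟨r, hr, d, hd, hrd⟩ := Cfsg.Lib.Linear.RankOne.decomp hS (show q ∈ _ from hqa)
    -- the `Q`-part of `q` already commutes with `X`
    have hrC : r ∈ Subgroup.centralizer X := by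
      rw [Subgroup.mem_centralizer_iff]
      intro x hx
      have hxr : x * r * x⁻¹ = r := by
        refine Cfsg.Lib.Linear.RankOne.eq_of_smul hS
          (hS.conj_mem x (hXa x hx) r hr) hr hne ?_
        have hr' : r • t • a = g • t • a := by
          rw [← hqb, hrd, mul_smul, show d • t • a = t • a from hd.2]
        rw [mul_smul, mul_smul, inv_smul_eq_iff.mpr (hXt x hx).symm, hr', hXg x hx]
      calc x * r = x * r * x⁻¹ * x := by group
        _ = r * x := by rw [hxr]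
    have hmem : r⁻¹ * g ∈ Subgroup.centralizer X ⊓
        (MulAction.stabilizer G a ⊓ MulAction.stabilizer G (t • a)) := by
      refine Subgroup.mem_inf.mpr ⟨mul_mem (inv_mem hrC) hgC, Subgroup.mem_inf.mpr
        ⟨mul_mem (inv_mem (hS.le hr)) hga, ?_⟩⟩
      show (r⁻¹ * g) • t • a = t • a
      rw [mul_smul, inv_smul_eq_iff, ← hqb, hrd, mul_smul, show d • t • a = t • a from hd.2]
    rw [show g = r * (r⁻¹ * g) by group]
    exact mul_mem (Subgroup.mem_sup_left ⟨hrC, hr⟩) (Subgroup.mem_sup_right hmem)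

end Cfsg.Agent.S1125
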