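import Cfsg.Statements.S1120
import Cfsg.Agent.Lib.Linear.RankOne
import Cfsg.Agent.Lib.Coprime.Generation

set_option autoImplicit false
open Cfsg

namespace Cfsg.Agent.S1120

/-- In the rank-one set-up (`G` finite and doubly transitive on `Ω`, `t` an involution moving `a`, `Q` normal in `G_a` with `G_a = Q D`, `Q ⊓ D = 1` for the two-point stabiliser `D = G_a ⊓ G_{t • a}`, `|Q|` even, `|D|` odd), if `G` has 2-rank at least 2 then `O_{2'}(G)` equals the normal core of `G_a`. -/
theorem result {G Ω : Type*} [Group G] [Finite G] [MulAction G Ω] {a : Ω} {t : G} {Q : Subgroup G}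
    (hS : Cfsg.IsRankOneSetup G Ω a t Q)
    (h2 : ∃ x y : G, x ≠ 1 ∧ y ≠ 1 ∧ x ≠ y ∧ x * x = 1 ∧ y * y = 1 ∧ x * y = y * x) :
    Cfsg.pPrimeCore 2 G = (MulAction.stabilizer G a).normalCore := by
  have := Cfsg.Lib.Linear.RankOne.pretransitive hS
  refine le_antisymm (sSup_le ?_) (le_sSup ⟨Subgroup.normalCore_normal _, ?_⟩)
  · rintro N ⟨hN, hcop⟩
    have hNodd : Odd (Nat.card N) := Nat.Coprime.odd_of_right hcop.symm.symm
    refine Subgroup.normal_le_normalCore.mpr fun n hn => ?_
    by_contra hna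
    replace hna : n • a ≠ a := hna
    -- `N` is transitive
    have htrans : ∀ c : Ω, ∃ m ∈ N, m • a = c := by
      intro c
      by_cases hc : c = a
      · exact ⟨1, N.one_mem, by rw [one_smul, hc]⟩
      obtain ⟨g, hga, hgc⟩ := Cfsg.Lib.Linear.RankOne.exists_pair hS (Ne.symm hna) (Ne.symm hc)
      refine ⟨g * n * g⁻¹, hN.conj_mem n hn g, ?_⟩
      rw [mul_smul, mul_smul, inv_smul_eq_iff.mpr hga.symm, hgc]
    obtain ⟨x, y, hx1, hy1, hxy, hxx, hyy, hcomm⟩ := h2
    obtain ⟨e, hxe, -⟩ := Cfsg.Lib.Linear.RankOne.invol_fix hS hx1 hxx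
    have hye : y • e = e := Cfsg.Lib.Linear.RankOne.fix_of_commute hS hx1 hxx hcomm hxe
    set A := Subgroup.closure ({x, y} : Set G) with hA
    have hcl : ∀ u ∈ ({x, y} : Set G), ∀ v ∈ ({x, y} : Set G), u * v = v * u := by
      rintro u (rfl | rfl) v (rfl | rfl) <;> first | rfl | exact hcomm | exact hcomm.symm
    have hAc : IsMulCommutative A := Subgroup.isMulCommutative_closure hcl
    have hsq : ∀ u ∈ A, u * u = 1 := by
      intro u hu
      induction hu using Subgroup.closure_induction with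
      | mem v hv => rcases hv with rfl | rfl <;> assumption
      | one => simp
      | mul u v hu hv ihu ihv =>
        have hc : u * v = v * u := Subgroup.mul_comm_of_mem_isMulCommutative A hu hv
        calc u * v * (u * v) = u * (v * u) * v := by group
          _ = u * (u * v) * v := by rw [hc]
          _ = (u * u) * (v * v) := by group
          _ = 1 := by rw [ihu, ihv, one_mul]
      | inv u _ ih => rw [← mul_inv_rev, ih, inv_one]
    have hAe : ∀ u ∈ A, u • e = e := fun u hu =>
      (Subgroup.closure_le (MulAction.stabilizer G e)).mpr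
        (by rintro v (rfl | rfl); exacts [hxe, hye]) hu
    have hP : IsPGroup 2 A := fun u => ⟨1, Subtype.ext (by
      simpa [pow_two] using hsq u.1 u.2)⟩
    have hcop' : (Nat.card A).Coprime (Nat.card N) := by
      obtain ⟨k, hk⟩ := hP.exists_card_eq
      rw [hk]
      exact Nat.Coprime.pow_left _ hcop.symm
    have hnc : ¬ IsCyclic A := by
      intro hcyc
      obtain ⟨⟨g, hg⟩, hgen⟩ := hcyc.exists_generator
      have hmem : ∀ u ∈ A, u = 1 ∨ u = g := by
        intro u hu
        obtain ⟨k, hk⟩ := Subgroup.mem_zpowers_iff.mp (hgen ⟨u, hu⟩)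
        have hk' : g ^ k = u := congrArg Subtype.val hk
        rcases Int.even_or_odd k with ⟨j, rfl⟩ | ⟨j, rfl⟩
        · left
          rw [← hk', zpow_add, ← (Commute.refl g).mul_zpow, hsq g hg, one_zpow]
        · right
          rw [← hk', zpow_add_one, two_mul, zpow_add, ← (Commute.refl g).mul_zpow, hsq g hg,
            one_zpow, one_mul]
      have hxA : x ∈ A := Subgroup.subset_closure (by simp)
      have hyA : y ∈ A := Subgroup.subset_closure (by simp)
      exact hxy (((hmem x hxA).resolve_left hx1).trans ((hmem y hyA).resolve_left hy1).symm)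
    have hle : N ≤ MulAction.stabilizer G e := by
      have hAN : A ≤ Subgroup.normalizer (N : Set G) := by
        rw [Subgroup.normalizer_eq_top_iff.mpr hN]; exact le_top
      refine (Cfsg.Lib.Coprime.le_iSup_centralizer_of_not_isCyclic hnc hAN hcop').trans
        (iSup_le ?_)
      rintro ⟨u, huA, hu1⟩ m ⟨-, hm⟩
      exact Cfsg.Lib.Linear.RankOne.fix_of_commute hS hu1 (hsq u huA)
        (Subgroup.mem_centralizer_singleton_iff.mp hm).symm (hAe u huA)
    obtain ⟨m, hm, hme⟩ := htrans e
    obtain ⟨c, hc⟩ := Cfsg.Lib.Linear.RankOne.exists_ne_pt hS e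
    obtain ⟨m', hm', hm'c⟩ := htrans c
    apply hc
    have h1 : (m' * m⁻¹) • e = e := hle (N.mul_mem hm' (N.inv_mem hm))
    rw [mul_smul, ← hme, inv_smul_smul, hm'c, hme] at h1
    exact h1
  · set C := (MulAction.stabilizer G a).normalCore
    rw [Nat.coprime_comm]
    refine Nat.coprime_two_left.mpr (Nat.not_even_iff_odd.mp fun hev => ?_)
    obtain ⟨⟨s, hs⟩, ho⟩ := exists_prime_orderOf_dvd_card' (G := C) 2 hev.two_dvd
    rw [← Subgroup.orderOf_coe] at ho
    have hsa : s ∈ MulAction.stabilizer G a := Subgroup.normalCore_le _ hs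
    have hsQ := Cfsg.Lib.Linear.RankOne.invol_mem hS hsa (Cfsg.Lib.Invol.inv_mul_self ho)
    have hts : t * s * t⁻¹ ∈ C := (Subgroup.normalCore_normal _).conj_mem s hs t
    have hts' : (t * s * t⁻¹) • a = a := Subgroup.normalCore_le _ hts
    apply Cfsg.Lib.Invol.ne_one ho
    refine Cfsg.Lib.Linear.RankOne.eq_one_of_fix_ta hS hsQ ?_
    rw [mul_smul, mul_smul, ← eq_inv_smul_iff, Cfsg.Lib.Linear.RankOne.t_inv hS] at hts'
    exact hts'

end Cfsg.Agent.S1120
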