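import Cfsg.Statements.S0588
import Mathlib.Data.Nat.Prime.Basic
import Mathlib.GroupTheory.Sylow


set_option autoImplicit false
open Cfsg

namespace Cfsg.Agent.S0588

/-- If a subgroup H of a finite group G contains the centralizer of every non-identity element of H, then the order of H is coprime to its index. -/
theorem result {G : Type*} [Group G] [Finite G] (H : Subgroup G) (h : ∀ x ∈ H, x ≠ 1 → Subgroup.centralizer ({x} : Set G) ≤ H) : (Nat.card H).Coprime H.index := by
  refine Nat.coprime_of_dvd' fun p hp h1 h2 => ?_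
  exfalso
  have := Fact.mk hp
  obtain ⟨P⟩ : Nonempty (Sylow p H) := inferInstance
  set P' := (P : Subgroup H).map H.subtype with hP'
  obtain ⟨S, hS⟩ := (P.isPGroup'.map H.subtype).exists_le_sylow
  obtain ⟨⟨x, hx⟩, hord⟩ := exists_prime_orderOf_dvd_card' p (P.dvd_card_of_dvd_card h1)
  have hxS : (x : G) ∈ (S : Subgroup G) := hS (Subgroup.mem_map_of_mem _ hx)
  have hx1 : (x : G) ≠ 1 := by
    intro h
    have : (⟨x, hx⟩ : P) = 1 := Subtype.ext (Subtype.ext h)
    rw [this, orderOf_one] at hord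
    exact hp.ne_one hord.symm
  have hSnt : Nontrivial (S : Subgroup G) :=
    ⟨⟨⟨x, hxS⟩, 1, fun h => hx1 (congrArg Subtype.val h)⟩⟩
  have hz : Nontrivial (Subgroup.center (S : Subgroup G)) := S.isPGroup'.center_nontrivial
  obtain ⟨⟨⟨z, hzS⟩, hzc⟩, hz1⟩ := exists_ne (1 : Subgroup.center (S : Subgroup G))
  have hzne : z ≠ 1 := fun h => hz1 (Subtype.ext (Subtype.ext h))
  have hcomm : ∀ s ∈ (S : Subgroup G), s * z = z * s := fun s hs =>
    congrArg Subtype.val (Subgroup.mem_center_iff.1 hzc ⟨s, hs⟩)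
  have hzH : z ∈ H := h x x.2 hx1 (Subgroup.mem_centralizer_singleton_iff.2 (by
    first | exact (hcomm x hxS) | exact (hcomm x hxS).symm))
  have hSH : (S : Subgroup G) ≤ H := fun s hs => h z hzH hzne (Subgroup.mem_centralizer_singleton_iff.2 (by
    first | exact (hcomm s hs) | exact (hcomm s hs).symm))
  exact S.not_dvd_index (h2.trans (Subgroup.index_dvd_of_le hSH))

end Cfsg.Agent.S0588
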