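import Cfsg.Statements.S3491
import Cfsg.Agent.Lib.Spec.Unbounded
import Cfsg.Agent.Lib.Spec.SLTwo

set_option autoImplicit false
open Cfsg

namespace Cfsg.Agent.S3491

open Cfsg.Lib.Spec Matrix

local instance factFive : Fact (Nat.Prime 5) := ⟨by norm_num⟩

/-- The field with four elements. -/
abbrev F4 := GaloisField 2 2

/-- The split extension of the natural module by `SL(2, 4)`. -/
abbrev G0 := Multiplicative (Fin 2 → F4) ⋊[natAct (F := F4)] Matrix.SpecialLinearGroup (Fin 2) F4

instance finiteG0 : Finite G0 := Finite.of_equiv _ SemidirectProduct.equivProd.symm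

theorem pow_formula (y : G0) : ∀ n, ((y ^ n).right = y.right ^ n) ∧
    Multiplicative.toAdd (y ^ n).left = (∑ i ∈ Finset.range n,
      (y.right : Matrix (Fin 2) (Fin 2) F4) ^ i) *ᵥ Multiplicative.toAdd y.left
  | 0 => ⟨rfl, by simp⟩
  | n + 1 => by
      obtain ⟨h1, h2⟩ := pow_formula y n
      refine ⟨by rw [pow_succ, SemidirectProduct.mul_right, h1, pow_succ], ?_⟩
      rw [pow_succ, SemidirectProduct.mul_left, toAdd_mul, natAct_apply, h2, h1,
        Matrix.SpecialLinearGroup.coe_pow, Finset.sum_range_succ, Matrix.add_mulVec]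

theorem pow_eq_one_iff (y : G0) (n : ℕ) : y ^ n = 1 ↔ y.right ^ n = 1 ∧
    (∑ i ∈ Finset.range n, (y.right : Matrix (Fin 2) (Fin 2) F4) ^ i) *ᵥ
      Multiplicative.toAdd y.left = 0 := by
  obtain ⟨h1, h2⟩ := pow_formula y n
  constructor
  · intro h
    rw [h] at h1 h2
    exact ⟨h1.symm, by simpa using h2.symm⟩
  · rintro ⟨ha, hb⟩
    exact SemidirectProduct.ext (Multiplicative.toAdd.injective (by rw [h2, hb]; rfl))
      (by rw [h1, ha]; rfl)

theorem char_two_facts : (2 : F4) = 0 ∧ ∀ t : F4, t = 0 ∨ t = 1 ∨ t ^ 2 + t + 1 = 0 := by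
  haveI := Fintype.ofFinite F4
  have hq : Fintype.card F4 = 4 := by
    rw [← Nat.card_eq_fintype_card, GaloisField.card 2 2 (by norm_num)]; norm_num
  refine ⟨CharTwo.two_eq_zero, fun t => ?_⟩
  have h4 : t ^ 4 = t := hq ▸ FiniteField.pow_card t
  have h : t * (t - 1) * (t ^ 2 + t + 1) = 0 := by linear_combination h4
  rcases mul_eq_zero.mp h with h | h
  · rcases mul_eq_zero.mp h with h | h
    · exact Or.inl h
    · exact Or.inr (Or.inl (by linear_combination h))
  · exact Or.inr (Or.inr h)

theorem orderOf_mem (y : G0) : orderOf y ∈ ({1, 2, 3, 4, 5} : Set ℕ) := by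
  set g : Matrix (Fin 2) (Fin 2) F4 := (y.right : Matrix (Fin 2) (Fin 2) F4) with hg
  obtain ⟨h2, htr⟩ := char_two_facts
  have h2' : ∀ A : Matrix (Fin 2) (Fin 2) F4, A + A = 0 := fun A => by
    ext i j; simp [CharTwo.add_self_eq_zero]
  have hch : g * g = trc y.right • g - 1 := cayley_hamilton y.right
  have hneg : ∀ A : Matrix (Fin 2) (Fin 2) F4, -A = A := fun A => neg_eq_of_add_eq_zero_left (h2' A)
  have key : y ^ 3 = 1 ∨ y ^ 4 = 1 ∨ y ^ 5 = 1 := by
    rcases htr (trc y.right) with ht | ht | ht
    · right; left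
      have hsq : y.right ^ 2 = 1 := sq_eq_one_of_trace_zero _ ht
      refine (pow_eq_one_iff y 4).mpr ⟨by rw [show 4 = 2 * 2 from rfl, pow_mul, hsq, one_pow], ?_⟩
      have hg2 : g ^ 2 = 1 := by rw [hg, ← Matrix.SpecialLinearGroup.coe_pow, hsq]; rfl
      rw [Finset.sum_range_succ, Finset.sum_range_succ, Finset.sum_range_succ,
        Finset.sum_range_one, pow_succ g 2, hg2, one_mul, pow_zero, pow_one,
        show (1 : Matrix (Fin 2) (Fin 2) F4) + g + 1 + g = (1 + 1) + (g + g) by abel, h2', h2',
        add_zero, Matrix.zero_mulVec]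
    · left
      have hg2 : g ^ 2 = g + 1 := by
        rw [pow_two, hch, ht, one_smul, sub_eq_add_neg, hneg]
      have h3 : y.right ^ 3 = 1 := pow_eq_one_of_coef _ (n := 2) (by simp [chCoef, ht])
        (by simp [chCoef, ht, CharTwo.neg_eq])
      refine (pow_eq_one_iff y 3).mpr ⟨h3, ?_⟩
      rw [Finset.sum_range_succ, Finset.sum_range_succ, Finset.sum_range_one, pow_zero, pow_one,
        hg2, show (1 : Matrix (Fin 2) (Fin 2) F4) + g + (g + 1) = (1 + 1) + (g + g) by abel, h2',
        h2', add_zero, Matrix.zero_mulVec]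
    · right; right
      have h5 : y.right ^ 5 = 1 := by
        refine pow_eq_one_of_coef _ (n := 4) ?_ ?_
        · simp only [chCoef]; linear_combination (trc y.right ^ 2 - trc y.right + 1) * ht - 2 * trc y.right ^ 2 * h2
        · simp only [chCoef]; linear_combination (trc y.right - 1) * ht - (trc y.right - 1) * h2
      refine (pow_eq_one_iff y 5).mpr ⟨h5, ?_⟩
      set t := trc y.right
      have e1 : g * g = t • g + (1 : F4) • (1 : Matrix (Fin 2) (Fin 2) F4) := by
        rw [hch, one_smul, sub_eq_add_neg, hneg]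
      have e2 : g ^ 2 = t • g + (1 : F4) • (1 : Matrix (Fin 2) (Fin 2) F4) := by
        rw [pow_two, e1]
      have e3 : g ^ 3 = (t * t + 1) • g + t • (1 : Matrix (Fin 2) (Fin 2) F4) := by
        rw [pow_succ, e2, add_mul, smul_mul_assoc, smul_mul_assoc, one_mul, e1]; module
      have e4 : g ^ 4 = ((t * t + 1) * t + t) • g + (t * t + 1) • (1 : Matrix (Fin 2) (Fin 2) F4) := by
        rw [pow_succ, e3, add_mul, smul_mul_assoc, smul_mul_assoc, one_mul, e1]; module
      have hsum : ∑ i ∈ Finset.range 5, g ^ i = (1 + t + (t * t + 1) + ((t * t + 1) * t + t)) • g +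
          (1 + 1 + t + (t * t + 1)) • (1 : Matrix (Fin 2) (Fin 2) F4) := by
        rw [Finset.sum_range_succ, Finset.sum_range_succ, Finset.sum_range_succ,
          Finset.sum_range_succ, Finset.sum_range_one, e4, e3, e2, pow_one, pow_zero]; module
      have c1 : 1 + t + (t * t + 1) + ((t * t + 1) * t + t) = 0 := by
        linear_combination t * ht + (t + 1) * h2
      have c2 : 1 + 1 + t + (t * t + 1) = 0 := by linear_combination ht + h2
      rw [hsum, c1, c2, zero_smul, zero_smul, add_zero, Matrix.zero_mulVec]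
  rcases key with h | h | h <;> have hd := orderOf_dvd_of_pow_eq_one h
  · have := Nat.le_of_dvd (by norm_num) hd; have := orderOf_pos y; simp only [Set.mem_insert_iff, Set.mem_singleton_iff]; omega
  · have := Nat.le_of_dvd (by norm_num) hd; have := orderOf_pos y; simp only [Set.mem_insert_iff, Set.mem_singleton_iff]; omega
  · have := Nat.le_of_dvd (by norm_num) hd; have := orderOf_pos y; simp only [Set.mem_insert_iff, Set.mem_singleton_iff]; omega

theorem exists_orders {n : ℕ} (hn : n ∈ ({1, 2, 3, 4, 5} : Set ℕ)) : ∃ y : G0, orderOf y = n := by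
  obtain ⟨h2, htr⟩ := char_two_facts
  have hex : ∃ t : F4, t ^ 2 + t + 1 = 0 := by
    haveI := Fintype.ofFinite F4
    have hq : Fintype.card F4 = 4 := by
      rw [← Nat.card_eq_fintype_card, GaloisField.card 2 2 (by norm_num)]; norm_num
    by_contra hno
    push Not at hno
    classical
    have hsub : (Finset.univ : Finset F4) ⊆ {0, 1} := fun t _ => by
      rcases htr t with h | h | h
      · simp [h]
      · simp [h]
      · exact absurd h (hno t)
    have := (Finset.card_le_card hsub).trans Finset.card_le_two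
    rw [Finset.card_univ, hq] at this
    omega
  obtain ⟨t, ht⟩ := hex
  let u : Matrix.SpecialLinearGroup (Fin 2) F4 := ⟨!![1, 1; 0, 1], by simp [Matrix.det_fin_two_of]⟩
  let c : F4 → Matrix.SpecialLinearGroup (Fin 2) F4 := fun s => ⟨!![s, 1; 1, 0], by
    simp [Matrix.det_fin_two_of, CharTwo.neg_eq]⟩
  have hu : u ^ 2 = 1 := sq_eq_one_of_trace_zero _ (by simp [u, trc, CharTwo.add_self_eq_zero])
  have hu1 : u ≠ 1 := fun h => by
    have := congrFun (congrFun (congrArg Subtype.val h) 0) 1
    simp [u] at this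
  have hc1 : ∀ s, c s ≠ 1 := fun s h => by
    have := congrFun (congrFun (congrArg Subtype.val h) 0) 1
    simp [c] at this
  have hinr : ∀ g : Matrix.SpecialLinearGroup (Fin 2) F4,
      orderOf (SemidirectProduct.inr g : G0) = orderOf g :=
    fun g => orderOf_injective _ SemidirectProduct.inr_injective g
  simp only [Set.mem_insert_iff, Set.mem_singleton_iff] at hn
  rcases hn with rfl | rfl | rfl | rfl | rfl
  · exact ⟨1, orderOf_one⟩
  · exact ⟨SemidirectProduct.inr u, (hinr u).trans (orderOf_eq_prime hu hu1)⟩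
  · refine ⟨SemidirectProduct.inr (c 1), (hinr _).trans (orderOf_eq_prime ?_ (hc1 1))⟩
    exact pow_eq_one_of_coef _ (n := 2) (by simp [c, trc, chCoef])
      (by simp [c, trc, chCoef, CharTwo.neg_eq])
  · let y : G0 := ⟨Multiplicative.ofAdd ![0, 1], u⟩
    refine ⟨y, ?_⟩
    have hd : orderOf y ∣ 4 := by
      refine orderOf_dvd_of_pow_eq_one ((pow_eq_one_iff y 4).mpr
        ⟨by rw [show 4 = 2 * 2 from rfl, pow_mul]; simp [y, hu], ?_⟩)
      simp [y, u, Finset.sum_range_succ, pow_succ, Matrix.one_fin_two, CharTwo.add_self_eq_zero]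
    have hn2 : y ^ 2 ≠ 1 := by
      intro h
      have := congrFun ((pow_eq_one_iff y 2).mp h).2 0
      simp [y, u, Finset.sum_range_succ, Matrix.one_fin_two] at this
    rcases (Nat.dvd_prime_pow Nat.prime_two (m := 2)).mp hd with ⟨k, hk, hk'⟩
    interval_cases k
    · exact absurd (by rw [orderOf_eq_one_iff.mp (hk'.trans (pow_zero 2)), one_pow]) hn2
    · have h1 := pow_orderOf_eq_one y
      rw [hk'] at h1
      simp only [pow_one] at h1
      exact absurd h1 hn2
    · exact hk'
  · refine ⟨SemidirectProduct.inr (c t), (hinr _).trans (orderOf_eq_prime ?_ (hc1 t))⟩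
    have htc : trc (c t) = t := by simp [c, trc]
    refine pow_eq_one_of_coef _ (n := 4) ?_ ?_ <;> rw [htc] <;> simp only [chCoef]
    · linear_combination (t ^ 2 - t + 1) * ht - 2 * t ^ 2 * h2
    · linear_combination (t - 1) * ht - (t - 1) * h2

theorem alt_six_mem (x : alternatingGroup (Fin 6)) : x ^ 3 = 1 ∨ x ^ 4 = 1 ∨ x ^ 5 = 1 := by
  revert x; decide +kernel

/-- The alternating group of degree 6 is not determined by its set of element orders, not even up to finitely many groups: for every bound N there is a finite group of order greater than N with exactly the same set of element orders as the alternating group of degree 6. -/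
theorem result (N : ℕ) : ∃ (H : Type) (_ : Group H) (_ : Fintype H), N < Fintype.card H ∧ Set.range (orderOf : H → ℕ) = Set.range (orderOf : alternatingGroup (Fin 6) → ℕ) := by
  have hA6 : Set.range (orderOf : alternatingGroup (Fin 6) → ℕ) = Set.range (orderOf : G0 → ℕ) := by
    ext n
    constructor
    · rintro ⟨x, rfl⟩
      refine exists_orders ?_
      rcases alt_six_mem x with h | h | h <;> have hd := orderOf_dvd_of_pow_eq_one h <;>
        have := Nat.le_of_dvd (by norm_num) hd <;> have := orderOf_pos x <;> simp only [Set.mem_insert_iff, Set.mem_singleton_iff] <;> omega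
    · rintro ⟨y, rfl⟩
      have h := orderOf_mem y
      simp only [Set.mem_insert_iff, Set.mem_singleton_iff] at h
      rcases h with h | h | h | h | h <;> rw [h]
      · exact ⟨1, orderOf_one⟩
      · exact ⟨⟨Equiv.swap 0 1 * Equiv.swap 2 3, Equiv.Perm.mem_alternatingGroup.mpr (by decide)⟩,
          orderOf_eq_prime (by decide) (by decide)⟩
      · exact ⟨⟨Equiv.swap 0 1 * Equiv.swap 1 2, Equiv.Perm.mem_alternatingGroup.mpr (by decide)⟩,
          orderOf_eq_prime (by decide) (by decide)⟩
      · refine ⟨⟨Equiv.swap 0 1 * Equiv.swap 1 2 * Equiv.swap 2 3 * Equiv.swap 4 5, Equiv.Perm.mem_alternatingGroup.mpr (by decide)⟩, ?_⟩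
        exact orderOf_eq_prime_pow (p := 2) (n := 1) (by decide +kernel) (by decide +kernel)
      · exact ⟨⟨Equiv.swap 0 1 * Equiv.swap 1 2 * Equiv.swap 2 3 * Equiv.swap 3 4, Equiv.Perm.mem_alternatingGroup.mpr (by decide)⟩,
          orderOf_eq_prime (by decide +kernel) (by decide)⟩
  rw [hA6]
  have hn : (SemidirectProduct.rightHom : G0 →* _).ker.Normal := MonoidHom.normal_ker _
  refine exists_isospectral_large (SemidirectProduct.rightHom : G0 →* _).ker ?_ Nat.prime_two
    (fun a ha => ?_) N
  · intro h
    have hm : (SemidirectProduct.inl (Multiplicative.ofAdd ![1, 0]) : G0) ∈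
        (SemidirectProduct.rightHom : G0 →* _).ker := SemidirectProduct.rightHom_inl _
    rw [h, Subgroup.mem_bot] at hm
    have := congrFun (congrArg (fun y : G0 => Multiplicative.toAdd y.left) hm) 0
    simp at this
  · have har : a.right = 1 := ha
    refine SemidirectProduct.ext ?_ (by rw [pow_two, SemidirectProduct.mul_right, har, one_mul]; rfl)
    rw [pow_two, SemidirectProduct.mul_left, har, map_one]
    apply Multiplicative.toAdd.injective
    funext i
    simp [CharTwo.add_self_eq_zero]

end Cfsg.Agent.S3491
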