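import Cfsg.Statements.S1475
import Cfsg.Agent.Lib.Solv.Hall
import Cfsg.Agent.Lib.Solv.FrobeniusConj
import Cfsg.Agent.Lib.Core.PSolvable
import Cfsg.Agent.Lib.Local.Basic
-- import your own Cfsg.Agent.* helpers here

set_option autoImplicit false
open Cfsg

namespace Cfsg.Agent.S1475

/-- Let G be a finite solvable group such that the order of every element is a prime power (1 included). Then at most two distinct primes divide the order of G. -/
theorem result {G : Type*} [Group G] [Finite G] [Group.IsSolvable G] (h : ∀ g : G, IsPrimePow (orderOf g) ∨ g = 1) :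
    (Nat.card G).primeFactors.card ≤ 2 := by
  classical
  by_contra hcon
  push Not at hcon
  haveI : Nontrivial G := by
    rw [← Finite.one_lt_card_iff_nontrivial]
    by_contra hle
    have : Nat.card G = 1 := le_antisymm (not_lt.mp hle) Nat.card_pos
    rw [this] at hcon
    simp at hcon
  obtain ⟨M, hM⟩ := Cfsg.Lib.Core.exists_isMinNormal_univ (G := G)
  obtain ⟨-, p, hp, hMexp, hMp⟩ := Cfsg.Lib.Core.minimal_solvable_elementary hM
    (Cfsg.Lib.Core.isSolvable_of_le (le_top : M ≤ ⊤) inferInstance)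
  -- two further primes
  have h2 : 2 ≤ ((Nat.card G).primeFactors.erase p).card := by
    have := Finset.pred_card_le_card_erase (s := (Nat.card G).primeFactors) (a := p)
    omega
  obtain ⟨q₀, hq₀, r₀, hr₀, hqr₀⟩ := Finset.one_lt_card.mp (lt_of_lt_of_le one_lt_two h2)
  obtain ⟨hqp₀, hq₀'⟩ := Finset.mem_erase.mp hq₀
  obtain ⟨hrp₀, hr₀'⟩ := Finset.mem_erase.mp hr₀
  -- elements of coprime prime orders do not commute
  have hnc : ∀ (a b : G) (s t : ℕ), s.Prime → t.Prime → s ≠ t → s ∣ orderOf a → t ∣ orderOf b →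
      ¬ Commute a b := by
    intro a b s t hs ht hst ha hb hab
    obtain ⟨a', ha'⟩ : ∃ a' ∈ Subgroup.zpowers a, orderOf a' = s :=
      ⟨a ^ (orderOf a / s), Subgroup.pow_mem _ (Subgroup.mem_zpowers a) _,
        orderOf_pow_orderOf_div (orderOf_pos a).ne' ha⟩
    obtain ⟨b', hb'⟩ : ∃ b' ∈ Subgroup.zpowers b, orderOf b' = t :=
      ⟨b ^ (orderOf b / t), Subgroup.pow_mem _ (Subgroup.mem_zpowers b) _,
        orderOf_pow_orderOf_div (orderOf_pos b).ne' hb⟩
    obtain ⟨i, rfl⟩ := Subgroup.mem_zpowers_iff.mp ha'.1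
    obtain ⟨j, rfl⟩ := Subgroup.mem_zpowers_iff.mp hb'.1
    have hc : Commute (a ^ i) (b ^ j) := (hab.zpow_left i).zpow_right j
    have ho : orderOf (a ^ i * b ^ j) = s * t := by
      rw [hc.orderOf_mul_eq_mul_orderOf_of_coprime (by
        rw [ha'.2, hb'.2]; exact (Nat.coprime_primes hs ht).mpr hst), ha'.2, hb'.2]
    rcases h (a ^ i * b ^ j) with hh | hh
    · rw [ho] at hh
      obtain ⟨w, n, hw, -, hwn⟩ := hh
      have hw' : w.Prime := Nat.prime_iff.mpr hw
      have h1 : s = w := (Nat.prime_dvd_prime_iff_eq hs hw').mp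
        (hs.dvd_of_dvd_pow (hwn ▸ dvd_mul_right s t))
      have h3 : t = w := (Nat.prime_dvd_prime_iff_eq ht hw').mp
        (ht.dvd_of_dvd_pow (hwn ▸ dvd_mul_left t s))
      exact hst (h1.trans h3.symm)
    · rw [hh, orderOf_one] at ho
      exact absurd (Nat.eq_one_of_mul_eq_one_right ho.symm) hs.ne_one
  obtain ⟨H, hH⟩ := Cfsg.Lib.Solv.exists_isPiHall ({q₀, r₀} : Set ℕ) G
  have hdvd : ∀ s ∈ ({q₀, r₀} : Set ℕ), s.Prime → s ∣ Nat.card G → s ∣ Nat.card H := by
    intro s hs hsp hsd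
    rw [← H.card_mul_index] at hsd
    exact (hsp.dvd_mul.mp hsd).resolve_right (hH.2 s hsp hs)
  have hq0H := hdvd q₀ (by simp) (Nat.prime_of_mem_primeFactors hq₀') (Nat.dvd_of_mem_primeFactors hq₀')
  haveI : Nontrivial ↥H := by
    rw [← Finite.one_lt_card_iff_nontrivial]
    exact lt_of_lt_of_le (Nat.prime_of_mem_primeFactors hq₀').one_lt (Nat.le_of_dvd Nat.card_pos hq0H)
  obtain ⟨N, hN⟩ := Cfsg.Lib.Core.exists_isMinNormal_univ (G := ↥H)
  obtain ⟨-, q, hq, -, hNq⟩ := Cfsg.Lib.Core.minimal_solvable_elementary hN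
    (Cfsg.Lib.Core.isSolvable_of_le (le_top : N ≤ ⊤) inferInstance)
  haveI := hN.1
  haveI := Fact.mk hq
  obtain ⟨n₀, hn₀, hn₀1⟩ := N.bot_or_exists_ne_one.resolve_left hN.2.1
  have hqH : q ∣ Nat.card H := by
    obtain ⟨k, hk, hc⟩ := hNq.nontrivial_iff_card.mp ((Subgroup.nontrivial_iff_ne_bot N).2 hN.2.1)
    exact (hc ▸ dvd_pow_self q hk.ne').trans (Subgroup.card_subgroup_dvd_card N)
  have hqmem := hH.1 q hq hqH
  obtain ⟨r, hr, hrp, hrH, hqr⟩ : ∃ r, r.Prime ∧ r ≠ p ∧ r ∣ Nat.card H ∧ q ≠ r := by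
    rcases hqmem with rfl | hqm
    · exact ⟨r₀, Nat.prime_of_mem_primeFactors hr₀', hrp₀, hdvd r₀ (by simp)
        (Nat.prime_of_mem_primeFactors hr₀') (Nat.dvd_of_mem_primeFactors hr₀'), hqr₀⟩
    · rw [Set.mem_singleton_iff] at hqm
      exact ⟨q₀, Nat.prime_of_mem_primeFactors hq₀', hqp₀, hq0H, hqm ▸ hqr₀.symm⟩
  have hqp : q ≠ p := by
    rcases hqmem with rfl | hqm
    · exact hqp₀
    · rw [Set.mem_singleton_iff] at hqm
      exact hqm ▸ hrp₀
  haveI := Fact.mk hr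
  obtain ⟨y, hy⟩ := exists_prime_orderOf_dvd_card' (G := ↥H) r hrH
  set B : Subgroup G := (N ⊔ Subgroup.zpowers y).map H.subtype with hB
  have hyB : (y : G) ∈ B := Subgroup.mem_map_of_mem _ (Subgroup.mem_sup_right (Subgroup.mem_zpowers y))
  have hBH : B ≤ H := Subgroup.map_subtype_le _
  have hfpf : ∀ b ∈ B, b ≠ 1 → M ⊓ Subgroup.centralizer {b} = ⊥ := by
    intro b hb hb1
    rw [eq_bot_iff]
    rintro v ⟨hv, hvc⟩
    by_contra hv1
    have hpv : p ∣ orderOf v := by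
      rw [orderOf_eq_prime (hp := Fact.mk hp) (hMexp v hv) hv1]
    obtain ⟨s, hs, hsb⟩ := Nat.exists_prime_and_dvd (fun e => hb1 (orderOf_eq_one_iff.mp e) : orderOf b ≠ 1)
    have hsp : p ≠ s := by
      rcases hH.1 s hs (hsb.trans (Subgroup.orderOf_dvd_natCard H (hBH hb))) with rfl | hsm
      · exact fun e => hqp₀ e.symm
      · rw [Set.mem_singleton_iff] at hsm
        exact fun e => hrp₀ (hsm ▸ e.symm)
    exact hnc v b p s hp hs hsp hpv hsb (Subgroup.mem_centralizer_singleton_iff.mp hvc)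
  haveI := hM.1
  refine Cfsg.Lib.Solv.not_fpf_frobenius hM.2.1 (Cfsg.Lib.Local.le_normalizer_normal B) hfpf
    ((Subgroup.zpowers (y : G)).subgroupOf B) ⟨?_, ?_, ?_⟩
  · intro e
    have h1 : (⟨(y : G), hyB⟩ : ↥B) ∈ (Subgroup.zpowers (y : G)).subgroupOf B := Subgroup.mem_zpowers _
    rw [e, Subgroup.mem_bot] at h1
    have : orderOf y = 1 := by
      rw [orderOf_eq_one_iff]
      have h2 : (y : G) = 1 := congrArg Subtype.val h1
      exact Subtype.ext h2
    exact hr.ne_one (hy ▸ this)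
  · intro e
    have hnB : (n₀ : G) ∈ B := Subgroup.mem_map_of_mem _ (Subgroup.mem_sup_left hn₀)
    have h1 : (n₀ : G) ∈ Subgroup.zpowers (y : G) :=
      Subgroup.mem_subgroupOf.mp (e.ge (Subgroup.mem_top (⟨_, hnB⟩ : ↥B)))
    have h2 : orderOf (n₀ : G) ∣ r := by
      exact (Subgroup.orderOf_dvd_natCard _ h1).trans (by rw [Nat.card_zpowers, Subgroup.orderOf_coe, hy])
    obtain ⟨k, hk⟩ := IsPGroup.iff_orderOf.mp hNq ⟨n₀, hn₀⟩
    rw [Subgroup.orderOf_mk] at hk
    rw [Subgroup.orderOf_coe] at h2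
    refine hn₀1 (orderOf_eq_one_iff.mp (Nat.eq_one_of_dvd_coprimes
      (((Nat.coprime_primes hq hr).mpr hqr).pow_left k) (hk ▸ dvd_rfl) h2))
  · intro g hg
    rw [eq_bot_iff]
    rintro a ⟨ha, hag⟩
    by_contra ha1
    apply hg
    -- write `g = n y^i`
    have hgB := g.2
    obtain ⟨g₀, hg₀, hgg⟩ := hgB
    obtain ⟨n, hn, c, hc, rfl⟩ := Subgroup.mem_sup_of_normal_left.mp hg₀
    obtain ⟨i, rfl⟩ := Subgroup.mem_zpowers_iff.mp hc
    obtain ⟨j, hj⟩ := Subgroup.mem_zpowers_iff.mp (Subgroup.mem_subgroupOf.mp ha)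
    have hag' := Subgroup.mem_pointwise_smul_iff_inv_smul_mem.mp hag
    simp only [MulAut.smul_def, ← map_inv, MulAut.conj_apply, inv_inv] at hag'
    obtain ⟨l, hl⟩ := Subgroup.mem_zpowers_iff.mp (Subgroup.mem_subgroupOf.mp hag')
    -- `n` normalizes `⟨y^j⟩` modulo a trivial intersection
    have hn' : ∀ z ∈ N, z ∈ Subgroup.zpowers y → z = 1 := by
      intro z hz hzy
      obtain ⟨k, hk⟩ := IsPGroup.iff_orderOf.mp hNq ⟨z, hz⟩
      rw [Subgroup.orderOf_mk] at hk
      refine orderOf_eq_one_iff.mp (Nat.eq_one_of_dvd_coprimes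
        (((Nat.coprime_primes hq hr).mpr hqr).pow_left k) (hk ▸ dvd_rfl) ?_)
      exact (Subgroup.orderOf_dvd_natCard _ hzy).trans (by rw [Nat.card_zpowers, hy])
    have e1 : (n * y ^ i)⁻¹ * y ^ j * (n * y ^ i) = y ^ l := by
      apply Subtype.ext
      show ((n * y ^ i : ↥H) : G)⁻¹ * ((y ^ j : ↥H) : G) * ((n * y ^ i : ↥H) : G) = ((y ^ l : ↥H) : G)
      simp only [Subgroup.coe_zpow, hl, hj]
      have hgg' : ((n * y ^ i : ↥H) : G) = (g : G) := hgg
      rw [hgg']
      simp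
    have e2 : n⁻¹ * y ^ j * n = y ^ l := by
      calc n⁻¹ * y ^ j * n = y ^ i * ((n * y ^ i)⁻¹ * y ^ j * (n * y ^ i)) * (y ^ i)⁻¹ := by group
        _ = y ^ l := by rw [e1, ← zpow_neg, ← zpow_add, ← zpow_add]; congr 1; ring
    have e3 : y ^ (j - l) = 1 := by
      refine hn' _ ?_ (Subgroup.zpow_mem_zpowers y _)
      have : y ^ (j - l) = y ^ j * (n⁻¹ * (y ^ j)⁻¹ * n) := by
        calc y ^ (j - l) = y ^ j * (y ^ l)⁻¹ := zpow_sub y j l
          _ = _ := by rw [← e2]; group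
      rw [this]
      have h1 : y ^ j * n⁻¹ * (y ^ j)⁻¹ ∈ N := hN.1.conj_mem _ (inv_mem hn) _
      have := mul_mem h1 hn
      simpa [mul_assoc] using this
    have e4 : y ^ j = y ^ l := by
      rw [← mul_inv_eq_one, ← zpow_sub]; exact e3
    have hcomm : Commute n (y ^ j) := by
      rw [← e4] at e2
      show n * y ^ j = y ^ j * n
      conv_lhs => rw [← e2]
      group
    have hn1 : n = 1 := by
      by_contra hn1
      obtain ⟨k, hk⟩ := IsPGroup.iff_orderOf.mp hNq ⟨n, hn⟩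
      rw [Subgroup.orderOf_mk] at hk
      refine hnc (n : G) ((y ^ j : ↥H) : G) q r hq hr hqr ?_ ?_ (Commute.map hcomm H.subtype)
      · rw [Subgroup.orderOf_coe, hk]
        rcases k with - | k
        · exact absurd (orderOf_eq_one_iff.mp (by rw [hk, pow_zero])) hn1
        · exact dvd_pow_self q k.succ_ne_zero
      · have hj1 : (y ^ j : ↥H) ≠ 1 := fun e => ha1 (Subgroup.mem_bot.mpr (Subtype.ext (by
          rw [← hj, ← Subgroup.coe_zpow, e]; rfl)))
        have hd : orderOf (y ^ j) ∣ r := by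
          exact (Subgroup.orderOf_dvd_natCard _ (Subgroup.zpow_mem_zpowers y j)).trans (by rw [Nat.card_zpowers, hy])
        rw [Subgroup.orderOf_coe]
        rcases (Nat.dvd_prime hr).mp hd with e | e
        · exact absurd (orderOf_eq_one_iff.mp e) hj1
        · rw [e]
    rw [Subgroup.mem_subgroupOf]
    rw [← hgg, hn1, one_mul]
    exact Subgroup.mem_zpowers_iff.mpr ⟨i, by simp⟩

end Cfsg.Agent.S1475
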