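import Cfsg.Statements.S4377

set_option autoImplicit false
set_option linter.style.haveILetI false
open Cfsg

namespace Cfsg.Agent.S4377

theorem key (K : Type*) [Group K] [Finite K] {n : ℕ} (hn : 0 < n) :
    Nat.card {g : K // g ^ n = 1} = ∑ d ∈ n.divisors, Nat.card {g : K // orderOf g = d} := by
  classical
  haveI := Fintype.ofFinite K
  simp only [Nat.card_eq_fintype_card, Fintype.card_subtype]
  exact (sum_card_orderOf_eq_card_pow_eq_one hn.ne').symm

/-- Two finite groups have the same number of elements of each order if and only if, for every n, they have the same number of elements g with gⁿ = 1. -/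
theorem result {G H : Type*} [Group G] [Finite G] [Group H] [Finite H] :
    (∀ n : ℕ, Nat.card {g : G // orderOf g = n} = Nat.card {h : H // orderOf h = n}) ↔
      ∀ n : ℕ, Nat.card {g : G // g ^ n = 1} = Nat.card {h : H // h ^ n = 1} := by
  classical
  haveI := Fintype.ofFinite G
  haveI := Fintype.ofFinite H
  constructor
  · intro h n
    obtain ⟨e, he⟩ : ∃ e : G ≃ H, ∀ g, orderOf (e g) = orderOf g := by
      have e : ∀ d, {g : G // orderOf g = d} ≃ {x : H // orderOf x = d} := fun d =>
        Fintype.equivOfCardEq (by rw [← Nat.card_eq_fintype_card, ← Nat.card_eq_fintype_card]; exact h d)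
      exact ⟨Equiv.ofFiberEquiv e, fun g => Equiv.ofFiberEquiv_map e g⟩
    refine Nat.card_congr (Equiv.subtypeEquiv e fun g => ?_)
    rw [← orderOf_dvd_iff_pow_eq_one, ← orderOf_dvd_iff_pow_eq_one, he]
  · intro h n
    induction n using Nat.strong_induction_on with
    | _ n ih =>
      rcases Nat.eq_zero_or_pos n with rfl | hn
      · have h1 : ∀ g : G, orderOf g ≠ 0 := fun g => (orderOf_pos g).ne'
        have h2 : ∀ g : H, orderOf g ≠ 0 := fun g => (orderOf_pos g).ne'
        simp [h1, h2]
      · have hh := h n
        rw [key G hn, key H hn, ← Nat.cons_self_properDivisors hn.ne', Finset.sum_cons, Finset.sum_cons] at hh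
        have hs : ∑ d ∈ n.properDivisors, Nat.card {g : G // orderOf g = d} =
            ∑ d ∈ n.properDivisors, Nat.card {g : H // orderOf g = d} :=
          Finset.sum_congr rfl fun d hd => ih d (Nat.mem_properDivisors.mp hd).2
        omega

end Cfsg.Agent.S4377
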