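import Cfsg.Statements.S4216
import Cfsg.Agent.Lib.Fusion.Abelian

set_option autoImplicit false
set_option linter.style.haveILetI false
open Cfsg

namespace Cfsg.Agent.S4216

open scoped commutatorElement

open Subgroup MulAction in
theorem orbit_card_dvd {G : Type*} [Group G] [Finite G] {p : ℕ} [Fact p.Prime] (P : Sylow p G)
    {x : G} (hx : x ∈ (P : Subgroup G)) (c : G ⧸ (P : Subgroup G)) :
    x ^ Nat.card (orbit (P : Subgroup G) c) • c = c := by
  have hz : IsPGroup p (zpowers x) := P.2.to_le (zpowers_le.mpr hx)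
  obtain ⟨i, hi⟩ := hz.card_orbit c
  obtain ⟨a, ha⟩ := P.2.card_orbit c
  have hle : Nat.card (orbit (zpowers x) c) ≤ Nat.card (orbit (P : Subgroup G) c) := by
    refine Nat.card_mono (Set.toFinite _) ?_
    rintro _ ⟨⟨y, hy⟩, rfl⟩
    exact ⟨⟨y, zpowers_le.mpr hx hy⟩, rfl⟩
  rw [hi, ha, Nat.pow_le_pow_iff_right (Fact.out : p.Prime).one_lt] at hle
  rw [pow_smul_eq_iff_minimalPeriod_dvd, ha, show Function.minimalPeriod (x • ·) c = p ^ i from
    (Nat.card_zmod _).symm.trans ((Nat.card_congr (orbitZPowersEquiv x c)).symm.trans hi)]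
  exact pow_dvd_pow p hle

open Subgroup MulAction in
theorem focal_le {G : Type*} [Group G] [Finite G] {p : ℕ} [hp : Fact p.Prime] (P : Sylow p G)
    (R : Subgroup G) (hR : R ≤ (P : Subgroup G))
    (hN : (P : Subgroup G) ⊓ ⁅normalizer ((P : Subgroup G) : Set G),
      normalizer ((P : Subgroup G) : Set G)⁆ ≤ R)
    (hC : ∀ z : G, ∀ c ∈ ⁅(P : Subgroup G), (P : Subgroup G)⁆, z * c * z⁻¹ ∈ (P : Subgroup G) →
      z * c * z⁻¹ ∈ R) :
    (P : Subgroup G) ⊓ commutator G ≤ R := by
  classical
  set D : Subgroup G := ⁅(P : Subgroup G), (P : Subgroup G)⁆ with hD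
  have hDP : D ≤ (P : Subgroup G) := commutator_le.mpr fun a ha b hb => by
    rw [commutatorElement_def]
    exact mul_mem (mul_mem (mul_mem ha hb) (inv_mem ha)) (inv_mem hb)
  have hDR : D ≤ R := fun c hc => by
    have := hC 1 c hc (by simpa using hDP hc)
    simpa using this
  haveI hn : (R.subgroupOf (P : Subgroup G)).Normal := ⟨fun y hy u => by
    rw [mem_subgroupOf] at hy ⊢
    show (u : G) * y * (u : G)⁻¹ ∈ R
    have : (u : G) * y * (u : G)⁻¹ = ⁅(u : G), (y : G)⁆ * y := by
      rw [commutatorElement_def]; group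
    rw [this]
    exact mul_mem (hDR (commutator_mem_commutator u.2 y.2)) hy⟩
  letI : CommGroup ((P : Subgroup G) ⧸ R.subgroupOf (P : Subgroup G)) :=
    { (inferInstance : Group ((P : Subgroup G) ⧸ R.subgroupOf (P : Subgroup G))) with
      mul_comm := fun a b => by
        obtain ⟨a, rfl⟩ := QuotientGroup.mk_surjective a
        obtain ⟨b, rfl⟩ := QuotientGroup.mk_surjective b
        refine QuotientGroup.eq.mpr ?_
        rw [mem_subgroupOf]
        refine hDR ?_
        have : (((a * b)⁻¹ * (b * a) : (P : Subgroup G)) : G) = ⁅(b : G)⁻¹, (a : G)⁻¹⁆ := by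
          simp [commutatorElement_def, mul_assoc]
        rw [this]
        exact commutator_mem_commutator (inv_mem b.2) (inv_mem a.2) }
  set φ : (P : Subgroup G) →* (P : Subgroup G) ⧸ R.subgroupOf (P : Subgroup G) :=
    QuotientGroup.mk' _ with hφ
  have hφ1 : ∀ y : (P : Subgroup G), φ y = 1 ↔ (y : G) ∈ R := fun y =>
    (QuotientGroup.eq_one_iff y).trans mem_subgroupOf
  suffices key : ∀ m, ∀ x, x ∈ (P : Subgroup G) ⊓ commutator G → orderOf x = m → x ∈ R from
    fun x hx => key _ x hx rfl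
  intro m
  induction m using Nat.strong_induction_on with
  | _ m ih =>
  intro x hx hxm
  subst hxm
  by_cases hx1 : x = 1
  · rw [hx1]; exact one_mem R
  have hxP : x ∈ (P : Subgroup G) := hx.1
  haveI := Fintype.ofFinite (G ⧸ (P : Subgroup G))
  set Q := orbitRel.Quotient (zpowers x) (G ⧸ (P : Subgroup G))
  set B := orbitRel.Quotient (P : Subgroup G) (G ⧸ (P : Subgroup G))
  haveI : Finite Q := Quotient.finite _
  haveI : Finite B := Quotient.finite _
  haveI := Fintype.ofFinite Q
  haveI := Fintype.ofFinite B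
  let κ : Q → B := fun q => Quotient.mk _ q.out
  let r : Q → ℕ := fun q => Function.minimalPeriod (x • ·) q.out
  let term : Q → (P : Subgroup G) ⧸ R.subgroupOf (P : Subgroup G) := fun q =>
    φ ⟨q.out.out⁻¹ * x ^ r q * q.out.out,
      QuotientGroup.out_conj_pow_minimalPeriod_mem (P : Subgroup G) x q.out⟩
  have htr : MonoidHom.transfer φ x = ∏ b : B, ∏ q ∈ Finset.univ.filter (fun q => κ q = b), term q := by
    rw [Finset.prod_fiberwise]
    exact MonoidHom.transfer_eq_prod_quotient_orbitRel_zpowers_quot φ x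
  have hsum : ∀ b : B, ∑ q ∈ Finset.univ.filter (fun q => κ q = b), r q =
      (Finset.univ.filter fun c : G ⧸ (P : Subgroup G) => (Quotient.mk _ c : B) = b).card := by
    intro b
    rw [Finset.card_eq_sum_card_fiberwise
      (f := fun c : G ⧸ (P : Subgroup G) => (Quotient.mk _ c : Q))
      (t := Finset.univ.filter (fun q => κ q = b)) ?_]
    · refine Finset.sum_congr rfl fun q hq => ?_
      show Function.minimalPeriod (x • ·) q.out = _
      rw [← Nat.card_zmod (Function.minimalPeriod (x • ·) q.out),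
        ← Nat.card_congr (orbitZPowersEquiv x q.out), ← Nat.card_eq_finsetCard]
      refine Nat.card_congr (Equiv.subtypeEquivRight fun c => Iff.symm ?_)
      simp only [Finset.mem_filter, Finset.mem_univ, true_and] at hq ⊢
      refine ⟨fun h => ?_, fun h => ?_⟩
      · exact Quotient.exact (h.2.trans (Quotient.out_eq q).symm)
      · have hq2 : (Quotient.mk _ c : Q) = q := (Quotient.sound h).trans (Quotient.out_eq q)
        refine ⟨?_, hq2⟩
        rw [← hq]
        obtain ⟨y, hy⟩ := h
        exact Quotient.sound ⟨⟨y, zpowers_le.mpr hxP y.2⟩, hy⟩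
    · intro c hc
      simp only [Finset.mem_coe, Finset.mem_filter, Finset.mem_univ, true_and] at hc ⊢
      rw [← hc]
      obtain ⟨y, hy⟩ := Quotient.exact (Quotient.out_eq (Quotient.mk _ c : Q))
      exact Quotient.sound ⟨⟨y, zpowers_le.mpr hxP y.2⟩, hy⟩
  have horb : ∀ b : B, (Finset.univ.filter fun c : G ⧸ (P : Subgroup G) =>
      (Quotient.mk _ c : B) = b).card = Nat.card (orbit (P : Subgroup G) b.out) := by
    intro b
    rw [← Nat.card_eq_finsetCard]
    refine Nat.card_congr (Equiv.subtypeEquivRight fun c => ?_)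
    simp only [Finset.mem_filter, Finset.mem_univ, true_and]
    refine ⟨fun h => ?_, fun h => (Quotient.sound h).trans (Quotient.out_eq b)⟩
    exact Quotient.exact (h.trans (Quotient.out_eq b).symm)
  -- the contribution of one double coset
  have hfib : ∀ b : B, (∏ q ∈ Finset.univ.filter (fun q => κ q = b), term q) =
      if Nat.card (orbit (P : Subgroup G) b.out) = 1 then φ ⟨x, hxP⟩ else 1 := by
    intro b
    set g : G := b.out.out with hg
    have hgc : (g : G ⧸ (P : Subgroup G)) = b.out := QuotientGroup.out_eq' _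
    have hind : ∀ S : Finset Q, S ⊆ Finset.univ.filter (fun q => κ q = b) →
        ∃ c ∈ D, ∃ h : g⁻¹ * (c * x ^ (∑ q ∈ S, r q)) * g ∈ (P : Subgroup G),
          φ ⟨_, h⟩ = ∏ q ∈ S, term q := by
      intro S
      induction S using Finset.induction with
      | empty =>
        intro _
        refine ⟨1, one_mem _, by simp, ?_⟩
        rw [Finset.prod_empty, hφ1]
        simp
      | insert q S hq hSi =>
        intro hsub
        obtain ⟨c, hc, h1, h2⟩ := hSi ((Finset.subset_insert q S).trans hsub)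
        have hqb : κ q = b := (Finset.mem_filter.mp (hsub (Finset.mem_insert_self q S))).2
        obtain ⟨u, hu⟩ : ∃ u : (P : Subgroup G), u • b.out = q.out :=
          Quotient.exact (hqb.trans (Quotient.out_eq b).symm)
        have hs : ((u : G) * g)⁻¹ * q.out.out ∈ (P : Subgroup G) := by
          refine QuotientGroup.eq.mp ?_
          rw [QuotientGroup.out_eq', ← hu, ← hgc]
          rfl
        set h := q.out.out with hh
        set s := ((u : G) * g)⁻¹ * h with hsdef
        have ht := QuotientGroup.out_conj_pow_minimalPeriod_mem (P : Subgroup G) x q.out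
        have hv : g⁻¹ * (⁅(u : G)⁻¹, x ^ r q⁆ * x ^ r q) * g ∈ (P : Subgroup G) ∧
            g⁻¹ * (⁅(u : G)⁻¹, x ^ r q⁆ * x ^ r q) * g = s * (h⁻¹ * x ^ r q * h) * s⁻¹ := by
          have e : g⁻¹ * (⁅(u : G)⁻¹, x ^ r q⁆ * x ^ r q) * g = s * (h⁻¹ * x ^ r q * h) * s⁻¹ := by
            rw [commutatorElement_def, hsdef]; group
          exact ⟨e ▸ mul_mem (mul_mem hs ht) (inv_mem hs), e⟩
        set n := ∑ q ∈ S, r q with hn'
        set d := ⁅(u : G)⁻¹, x ^ r q⁆ with hd
        have hdD : d ∈ D := commutator_mem_commutator (inv_mem u.2) (pow_mem hxP _)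
        have hd' : x ^ n * d * (x ^ n)⁻¹ ∈ D := by
          have : x ^ n * d * (x ^ n)⁻¹ = ⁅x ^ n, d⁆ * d := by rw [commutatorElement_def]; group
          rw [this]
          exact mul_mem (commutator_mem_commutator (pow_mem hxP _) (hDP hdD)) hdD
        have e : g⁻¹ * (c * (x ^ n * d * (x ^ n)⁻¹) * x ^ (∑ q' ∈ insert q S, r q')) * g =
            (g⁻¹ * (c * x ^ n) * g) * (g⁻¹ * (d * x ^ r q) * g) := by
          rw [Finset.sum_insert hq, add_comm (r q), pow_add, show (∑ x ∈ S, r x) = n from rfl]; group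
        refine ⟨_, mul_mem hc hd', e ▸ mul_mem h1 hv.1, ?_⟩
        rw [show (⟨_, e ▸ mul_mem h1 hv.1⟩ : (P : Subgroup G)) = ⟨_, h1⟩ * ⟨_, hv.1⟩ from Subtype.ext e,
          map_mul, h2, Finset.prod_insert hq, mul_comm]
        congr 1
        rw [show (⟨_, hv.1⟩ : (P : Subgroup G)) = ⟨s, hs⟩ * ⟨_, ht⟩ * ⟨s, hs⟩⁻¹ from Subtype.ext hv.2,
          map_mul, map_mul, map_inv, mul_comm (φ ⟨s, hs⟩), mul_inv_cancel_right]
    obtain ⟨c, hc, h1, h2⟩ := hind _ (Finset.Subset.refl _)
    rw [← h2]
    simp only [hsum b, horb b] at h1 ⊢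
    split_ifs with hone
    · simp only [hone, pow_one] at h1 ⊢
      have hfix : ∀ u : (P : Subgroup G), u • b.out = b.out := fun u => by
        have hs := (Nat.card_eq_one_iff_unique.mp hone).1
        exact congrArg Subtype.val (hs.elim (⟨u • b.out, mem_orbit _ u⟩ : orbit (P : Subgroup G) b.out)
          ⟨b.out, mem_orbit_self _⟩)
      have hgN : g⁻¹ ∈ normalizer ((P : Subgroup G) : Set G) := by
        refine Cfsg.Lib.Fusion.le_normalizer_of_conj_mem fun u hu => ?_
        have h3 := hfix ⟨u, hu⟩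
        rw [← hgc] at h3
        have h4 : g⁻¹ * (u * g) ∈ (P : Subgroup G) := QuotientGroup.eq.mp h3.symm
        simpa [mul_assoc] using h4
      rw [← mul_inv_eq_one, ← map_inv, ← map_mul, hφ1]
      show g⁻¹ * (c * x) * g * x⁻¹ ∈ R
      have hcg : g⁻¹ * c * g ∈ (P : Subgroup G) := by
        have := (mem_normalizer_iff.mp hgN c).mp (hDP hc)
        rwa [inv_inv] at this
      have e : g⁻¹ * (c * x) * g * x⁻¹ = (g⁻¹ * c * g) * ⁅g⁻¹, x⁆ := by
        rw [commutatorElement_def]; group
      rw [e]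
      refine mul_mem ?_ (hN ⟨?_, commutator_mem_commutator hgN (le_normalizer hxP)⟩)
      · have := hC g⁻¹ c hc (by rw [inv_inv]; exact hcg)
        rwa [inv_inv] at this
      · rw [commutatorElement_def]
        exact (P : Subgroup G).mul_mem ((mem_normalizer_iff.mp hgN x).mp hxP) ((P : Subgroup G).inv_mem hxP)
    · rw [hφ1]
      show g⁻¹ * (c * x ^ Nat.card (orbit (P : Subgroup G) b.out)) * g ∈ R
      set k := Nat.card (orbit (P : Subgroup G) b.out) with hk
      have hxk : g⁻¹ * (x ^ k * g) ∈ (P : Subgroup G) := by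
        have h3 := orbit_card_dvd P hxP b.out
        rw [← hk, ← hgc] at h3
        exact QuotientGroup.eq.mp h3.symm
      have hxk' : g⁻¹ * x ^ k * g ∈ R := by
        obtain ⟨a, ha⟩ := P.2.card_orbit b.out
        have hlt : orderOf (g⁻¹ * x ^ k * g) < orderOf x := by
          have e : g⁻¹ * x ^ k * g = MulAut.conj g⁻¹ (x ^ k) := by simp [mul_assoc]
          rw [e, MulEquiv.orderOf_eq, hk, ha]
          have hpd : p ∣ orderOf x := by
            obtain ⟨i, hi⟩ := IsPGroup.iff_orderOf.mp P.2 ⟨x, hxP⟩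
            rw [Subgroup.orderOf_mk] at hi
            refine hi ▸ dvd_pow_self p ?_
            rintro rfl
            exact hx1 (orderOf_eq_one_iff.mp (hi.trans (pow_zero p)))
          have ha0 : a ≠ 0 := fun h0 => hone (ha.trans (by rw [h0, pow_zero]))
          rw [orderOf_pow' x (pow_ne_zero _ hp.out.ne_zero)]
          refine Nat.div_lt_self (orderOf_pos x) (lt_of_lt_of_le hp.out.one_lt ?_)
          exact Nat.le_of_dvd (Nat.gcd_pos_of_pos_left _ (orderOf_pos x))
            (Nat.dvd_gcd hpd (dvd_pow_self p ha0))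
        refine ih _ hlt _ ⟨by show g⁻¹ * x ^ k * g ∈ (P : Subgroup G); rw [mul_assoc]; exact hxk, ?_⟩ rfl
        have hmem : x ^ k ∈ commutator G := pow_mem hx.2 k
        simpa using (inferInstance : (commutator G).Normal).conj_mem _ hmem g⁻¹
      have hcg : g⁻¹ * c * g ∈ (P : Subgroup G) := by
        have : g⁻¹ * c * g = g⁻¹ * (c * x ^ k) * g * (g⁻¹ * x ^ k * g)⁻¹ := by group
        rw [this]
        exact mul_mem h1 (inv_mem (hR hxk'))
      have e : g⁻¹ * (c * x ^ k) * g = (g⁻¹ * c * g) * (g⁻¹ * x ^ k * g) := by group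
      rw [e]
      refine mul_mem ?_ hxk'
      have := hC g⁻¹ c hc (by rw [inv_inv]; exact hcg)
      rwa [inv_inv] at this
  have h1 : MonoidHom.transfer φ x = 1 :=
    MonoidHom.mem_ker.mp (Abelianization.commutator_subset_ker _ hx.2)
  rw [htr, Finset.prod_congr rfl (fun b _ => hfib b), ← Finset.prod_filter, Finset.prod_const] at h1
  set n1 := (Finset.univ.filter fun b : B => Nat.card (orbit (P : Subgroup G) b.out) = 1).card with hn1
  have hn1p : ¬ p ∣ n1 := by
    intro hd
    refine P.not_dvd_index ?_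
    rw [← ZMod.natCast_eq_zero_iff] at hd ⊢
    rw [Subgroup.index, Nat.card_eq_fintype_card, ← Finset.card_univ,
      Finset.card_eq_sum_card_fiberwise (f := fun c : G ⧸ (P : Subgroup G) => (Quotient.mk _ c : B))
        (t := Finset.univ) (fun c _ => Finset.mem_coe.mpr (Finset.mem_univ _)), Nat.cast_sum]
    rw [← hd, hn1, Finset.card_filter, Nat.cast_sum]
    refine Finset.sum_congr rfl fun b _ => ?_
    rw [horb b]
    obtain ⟨a, ha⟩ := P.2.card_orbit b.out
    rw [ha]
    split_ifs with hone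
    · rw [hone]
    · have ha0 : a ≠ 0 := fun h0 => hone (by rw [h0, pow_zero])
      rw [Nat.cast_pow, ZMod.natCast_self, zero_pow ha0, Nat.cast_zero]
  obtain ⟨i, hi⟩ := IsPGroup.iff_orderOf.mp P.2 ⟨x, hxP⟩
  have hord : orderOf (φ ⟨x, hxP⟩) ∣ n1 := orderOf_dvd_of_pow_eq_one h1
  have hord2 : orderOf (φ ⟨x, hxP⟩) ∣ p ^ i := hi ▸ orderOf_map_dvd φ _
  have h3 : orderOf (φ ⟨x, hxP⟩) = 1 := Nat.eq_one_of_dvd_coprimes
    (((hp.out.coprime_iff_not_dvd).mpr hn1p).pow_left i) hord2 hord
  exact (hφ1 _).mp (orderOf_eq_one_iff.mp h3)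

/-- Grün's first Theorem: if `P` is a Sylow `p`-subgroup of the finite group `G`, then `P ∩ G'` is the subgroup generated by `P ∩ N_G(P)'` together with the subgroups `P ∩ z P' z⁻¹` for all `z ∈ G`, where `'` denotes the derived subgroup and `N_G(P)` the normalizer of `P`. -/
theorem result {G : Type*} [Group G] [Finite G] {p : ℕ} [Fact p.Prime] (P : Sylow p G) : (P : Subgroup G) ⊓ commutator G = ((P : Subgroup G) ⊓ ⁅Subgroup.normalizer ((P : Subgroup G) : Set G), Subgroup.normalizer ((P : Subgroup G) : Set G)⁆) ⊔ ⨆ z : G, (P : Subgroup G) ⊓ (⁅(P : Subgroup G), (P : Subgroup G)⁆).map (MulAut.conj z).toMonoidHom := by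
  refine le_antisymm (focal_le P _ ?_ le_sup_left ?_) (sup_le ?_ (iSup_le fun z => ?_))
  · exact sup_le inf_le_left (iSup_le fun z => inf_le_left)
  · intro z c hc hz
    refine Subgroup.mem_sup_right (Subgroup.mem_iSup_of_mem z ?_)
    exact ⟨hz, ⟨c, hc, rfl⟩⟩
  · exact inf_le_inf le_rfl (Subgroup.commutator_mono le_top le_top)
  · refine inf_le_inf le_rfl ?_
    rintro _ ⟨c, hc, rfl⟩
    exact (inferInstance : (commutator G).Normal).conj_mem _ (Subgroup.commutator_mono le_top le_top hc) z

end Cfsg.Agent.S4216
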