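import Cfsg.Statements.S3058
import Cfsg.Agent.Lib.Local.Chains
import Cfsg.Agent.Lib.Invol.Quaternion
-- import your own Cfsg.Agent.* helpers here

set_option autoImplicit false
open Cfsg

namespace Cfsg.Agent.S3058

/-- Let p be a prime and G a finite group whose Sylow p-subgroups are not chain-connected through nontrivial intersections (so G has a strongly p-embedded subgroup). If N and M are normal subgroups of G whose orders are both divisible by p, then the order of N ∩ M is divisible by p. Consequently, among the normal subgroups of G whose order is divisible by p there is a smallest one (the intersection of all of them). -/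
theorem result {G : Type*} [Group G] [Finite G]
    (p : ℕ) [Fact p.Prime] (hG : ¬ Cfsg.IsSylowChainConnected p G)
    (N M : Subgroup G) [N.Normal] [M.Normal] (hN : p ∣ Nat.card N) (hM : p ∣ Nat.card M) :
    p ∣ Nat.card ↥(N ⊓ M) := by
  classical
  obtain ⟨H, hH⟩ := Cfsg.Lib.Local.not_sylowChainConnected_iff.mp hG
  obtain ⟨P, hP⟩ := Cfsg.Lib.Local.spe_exists_sylow_le hH
  by_contra hd
  have hp : p.Prime := Fact.out
  have hmem : ∀ (L : Subgroup G) [L.Normal], p ∣ Nat.card L →
      ∃ x ∈ (P : Subgroup G), x ∈ L ∧ orderOf x = p := by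
    intro L _ hL
    obtain ⟨S, hS⟩ := Cfsg.Lib.Local.exists_sylow_inf P L
    obtain ⟨x, hx, hxp⟩ := Cfsg.Lib.Local.exists_orderOf_prime_mem S.isPGroup' (Cfsg.Lib.Local.sylow_ne_bot_of_dvd S hL)
    rw [hS] at hx
    exact ⟨x, hx, x.2, by rw [Subgroup.orderOf_coe, hxp]⟩
  obtain ⟨x, hxP, hxN, hxp⟩ := hmem N hN
  obtain ⟨y, hyP, hyM, hyp⟩ := hmem M hM
  set K := N ⊓ M with hK
  have hKcop : (Nat.card K).Coprime p := (hp.coprime_iff_not_dvd.mpr hd).symm
  have hc : x * y = y * x := by
    have h1 : x * y * x⁻¹ * y⁻¹ ∈ K := by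
      refine ⟨?_, M.mul_mem ((inferInstance : M.Normal).conj_mem y hyM x) (M.inv_mem hyM)⟩
      rw [mul_assoc, mul_assoc, ← mul_assoc y]
      exact N.mul_mem hxN ((inferInstance : N.Normal).conj_mem _ (N.inv_mem hxN) y)
    have h2 := Cfsg.Lib.Local.orderOf_eq_one_of_coprime_mem P.isPGroup'
      ((P : Subgroup G).mul_mem ((P : Subgroup G).mul_mem ((P : Subgroup G).mul_mem hxP hyP)
        ((P : Subgroup G).inv_mem hxP)) ((P : Subgroup G).inv_mem hyP))
      (Nat.Coprime.coprime_dvd_left (Subgroup.orderOf_dvd_natCard K h1) hKcop)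
    exact mul_inv_eq_iff_eq_mul.mp (mul_inv_eq_one.mp h2)
  set A := Subgroup.closure ({x, y} : Set G) with hA
  have hAP : A ≤ (P : Subgroup G) := (Subgroup.closure_le _).mpr (Set.insert_subset hxP (Set.singleton_subset_iff.mpr hyP))
  have : IsMulCommutative A := Subgroup.isMulCommutative_closure (by
    rintro a (rfl | rfl) b (rfl | rfl)
    · rfl
    · exact hc
    · exact hc.symm
    · rfl)
  have hnc : ¬ IsCyclic A := by
    intro hcyc
    have h := Cfsg.Lib.Invol.zpowers_eq_of_cyclic (T := A)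
      (x := ⟨x, Subgroup.subset_closure (Set.mem_insert x _)⟩)
      (y := ⟨y, Subgroup.subset_closure (Set.mem_insert_of_mem x rfl)⟩)
      (by rw [Subgroup.orderOf_mk, Subgroup.orderOf_mk, hxp, hyp])
    have h2 := congrArg (Subgroup.map A.subtype) h
    rw [MonoidHom.map_zpowers, MonoidHom.map_zpowers] at h2
    have hy : y ∈ Subgroup.zpowers x := h2.ge (Subgroup.mem_zpowers y)
    exact hd (Cfsg.Lib.Local.dvd_card_of_orderOf (D := K) ⟨Subgroup.zpowers_le.mpr hxN hy, hyM⟩ hyp)
  have hKH : K ≤ H := Cfsg.Lib.Local.spe_normal_coprime_le hH (hAP.trans hP)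
    (P.isPGroup'.to_le hAP) hnc K hKcop
  refine Cfsg.Lib.Local.spe_not_le hH N hN fun n hn => ?_
  by_contra hnH
  have h1 : n * y * n⁻¹ * y⁻¹ ∈ K := by
    refine ⟨?_, M.mul_mem ((inferInstance : M.Normal).conj_mem y hyM n) (M.inv_mem hyM)⟩
    rw [mul_assoc, mul_assoc, ← mul_assoc y]
    exact N.mul_mem hn ((inferInstance : N.Normal).conj_mem _ (N.inv_mem hn) y)
  have h2 : n * y * n⁻¹ ∈ H := by simpa using H.mul_mem (hKH h1) (hP hyP)
  exact (Cfsg.Lib.Local.spe_iff.mp hH).2.2 n hnH (Cfsg.Lib.Local.dvd_card_of_orderOf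
    (x := n * y * n⁻¹) ⟨h2, y, hP hyP, rfl⟩ (by rw [Cfsg.Lib.Invol.orderOf_conj_eq, hyp]))

end Cfsg.Agent.S3058
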