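import Cfsg.Statements.S1349
import Cfsg.Agent.Lib.Core.Layer
import Cfsg.Agent.Lib.Coprime.Generation
import Cfsg.Agent.Lib.TwoGroup.Models
-- import your own Cfsg.Agent.* helpers here

set_option autoImplicit false
set_option maxHeartbeats 1000000
open Cfsg

namespace Cfsg.Agent.S1349

open Subgroup

/-- an element of `V` inverted by `a'` and fixed or inverted by each element of `A` -/
theorem eigen {G : Type*} [Group G] [Finite G] {V A : Subgroup G} (hV : Odd (Nat.card V))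
    (hA : Cfsg.IsElementaryAbelian 2 A) (hAV : A ≤ normalizer (V : Set G)) {a' : G} (ha' : a' ∈ A)
    (hne : a' ∉ centralizer (V : Set G)) :
    ∃ x ∈ V, x ≠ 1 ∧ a' * x * a'⁻¹ = x⁻¹ ∧ ∀ a ∈ A, a * x * a⁻¹ = x ∨ a * x * a⁻¹ = x⁻¹ := by
  haveI : IsMulCommutative A := hA.1
  have hAcard : (Nat.card A).Coprime (Nat.card V) := by
    have hA2 : IsPGroup 2 A := fun a => ⟨1, Subtype.ext (by simpa using hA.2 a a.2)⟩
    obtain ⟨n, hn⟩ := hA2.exists_card_eq
    rw [hn]
    exact (Nat.coprime_two_left.2 hV).pow_left n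
  by_contra hno
  push Not at hno
  refine hne (le_centralizer_iff.1 ?_ (mem_zpowers a'))
  refine (Cfsg.Lib.Coprime.le_iSup_centralizer_cocyclic V hAV hAcard).trans (iSup₂_le fun B hB => ?_)
  intro v hv
  obtain ⟨hBA, c, hc, hBc⟩ := hB
  have hsq : ∀ a ∈ A, a * a = 1 := fun a ha => by rw [← pow_two]; exact hA.2 a ha
  have hcomm : ∀ a ∈ A, ∀ b ∈ A, a * b = b * a := fun a ha b hb =>
    congrArg Subtype.val (mul_comm' (⟨a, ha⟩ : A) ⟨b, hb⟩)
  set x := v⁻¹ * (a' * v * a'⁻¹) with hx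
  have hxV : x ∈ V := V.mul_mem (V.inv_mem hv.1) ((mem_normalizer_iff.1 (hAV ha') v).1 hv.1)
  suffices x = 1 by
    have h1 : a' * v * a'⁻¹ = v := (inv_mul_eq_one.1 this).symm
    refine mem_centralizer_iff.2 fun z hz => ?_
    obtain ⟨k, rfl⟩ := mem_zpowers_iff.1 hz
    exact ((show Commute a' v from by
      calc a' * v = (a' * v * a'⁻¹) * a' := by group
        _ = v * a' := by rw [h1]).zpow_left k).eq
  by_contra hx1
  have hinv : a' * x * a'⁻¹ = x⁻¹ := by
    have h2 : a'⁻¹ = a' := inv_eq_of_mul_eq_one_right (hsq a' ha')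
    have h3 := hsq a' ha'
    rw [hx, h2]
    calc a' * (v⁻¹ * (a' * v * a')) * a' = a' * v⁻¹ * a' * v * (a' * a') := by group
      _ = (v⁻¹ * (a' * v * a'))⁻¹ := by rw [h3, mul_one, mul_inv_rev, mul_inv_rev, mul_inv_rev, h2, inv_inv]; group
  obtain ⟨a, ha, h4, h5⟩ := hno x hxV hx1 hinv
  -- every element of `A` is in `B` or in `B * a'`
  have hfixB : ∀ b ∈ B, b * x * b⁻¹ = x := fun b hb => by
    have h1 : b * v = v * b := mem_centralizer_iff.1 hv.2 b hb
    have h2 : b * a' = a' * b := hcomm b (hBA hb) a' ha'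
    have hbv : Commute b v := h1
    have hba : Commute b a' := h2
    have : Commute b x := (hbv.inv_right).mul_right ((hba.mul_right hbv).mul_right hba.inv_right)
    rw [this.eq, mul_inv_cancel_right]
  have hdec : ∀ a ∈ A, a ∈ B ∨ a * c⁻¹ ∈ B := by
    intro a ha
    have hcB : zpowers c ≤ normalizer (B : Set G) := by
      refine le_trans ?_ (centralizer_le_normalizer _)
      intro z hz
      exact mem_centralizer_iff.2 fun b hb => hcomm b (hBA hb) z ((zpowers_le.2 hc) hz)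
    rw [← hBc, sup_comm] at ha
    obtain ⟨z, hz, b, hb, rfl⟩ := (Cfsg.Lib.Core.mem_sup_of_le_normalizer hcB).1 ha
    obtain ⟨k, rfl⟩ := mem_zpowers_iff.1 hz
    rcases Int.even_or_odd k with ⟨r, rfl⟩ | ⟨r, rfl⟩
    · left
      rw [zpow_add, ← (Commute.refl c).mul_zpow, hsq c hc, one_zpow, one_mul]; exact hb
    · right
      have h1 : c ^ (2 * r + 1) = c := by
        rw [zpow_add, two_mul, zpow_add, ← (Commute.refl c).mul_zpow, hsq c hc, one_zpow, one_mul, zpow_one]
      rw [h1, hcomm c hc b (hBA hb), mul_inv_cancel_right]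
      exact hb
  have ha'B : a' * c⁻¹ ∈ B := (hdec a' ha').resolve_left fun h => hx1 (by
    have := hfixB a' h
    rw [hinv] at this
    have h2 : x ^ 2 = 1 := by rw [pow_two]; calc x * x = x * x⁻¹ := by rw [this]
                                          _ = 1 := mul_inv_cancel x
    rw [← orderOf_eq_one_iff]
    refine Nat.eq_one_of_dvd_coprimes (Nat.coprime_two_left.2 hV) (orderOf_dvd_of_pow_eq_one h2) ?_
    exact Subgroup.orderOf_dvd_natCard _ hxV)
  rcases hdec a ha with h | h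
  · exact h4 (hfixB a h)
  · refine h5 ?_
    set b := a * c⁻¹ * (a' * c⁻¹)⁻¹ with hb
    have hbB : b ∈ B := B.mul_mem h (B.inv_mem ha'B)
    have hab : a = b * a' := by rw [hb]; group
    rw [hab]
    calc b * a' * x * (b * a')⁻¹ = b * (a' * x * a'⁻¹) * b⁻¹ := by group
      _ = (b * x * b⁻¹)⁻¹ := by rw [hinv]; group
      _ = x⁻¹ := by rw [hfixB b hbB]

open scoped commutatorElement in
theorem dihedral_config {G : Type*} [Group G] [Finite G] : ∀ (d : ℕ) (L A : Subgroup G), Group.IsNilpotent L →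
    Odd (Nat.card L) → Cfsg.IsElementaryAbelian 2 A → Nat.card A = 2 ^ d → A ≤ normalizer (L : Set G) →
    A ⊓ centralizer (L : Set G) = ⊥ →
    ∃ a l : Fin d → G, (∀ i, a i ∈ A ∧ a i ≠ 1 ∧ l i ∈ L ∧ l i ≠ 1 ∧ a i * l i * (a i)⁻¹ = (l i)⁻¹) ∧
      A ≤ (⨆ i, zpowers (a i)) ∧ ∀ i j, i ≠ j → Commute (a i) (l j) ∧ Commute (l i) (l j) := by
  intro d
  induction d with
  | zero =>
    intro L A _ _ _ hc _ _
    refine ⟨Fin.elim0, Fin.elim0, fun i => i.elim0, ?_, fun i => i.elim0⟩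
    rw [eq_bot_of_card_eq A (by simpa using hc)]; exact bot_le
  | succ d ih =>
    intro L A hnil hodd hA hcard hAL hfaith
    have hsq : ∀ a ∈ A, a * a = 1 := fun a ha => by rw [← pow_two]; exact hA.2 a ha
    have hcomm : ∀ a ∈ A, ∀ b ∈ A, a * b = b * a := fun a ha b hb =>
      congrArg Subtype.val (hA.1.is_comm.comm (⟨a, ha⟩ : A) ⟨b, hb⟩)
    have hneq : ∀ x ∈ L, x ≠ 1 → x⁻¹ ≠ x := fun x hx hx1 e => hx1 (by
      rw [← orderOf_eq_one_iff]
      refine Nat.eq_one_of_dvd_coprimes (Nat.coprime_two_left.2 hodd) (orderOf_dvd_of_pow_eq_one ?_) (orderOf_dvd_natCard _ hx)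
      rw [pow_two]; nth_rewrite 1 [← e]; rw [inv_mul_cancel])
    -- the first upper central term not centralised by `A`
    let Z : ℕ → Subgroup G := fun k => (Subgroup.upperCentralSeries L k).map L.subtype
    have hZL : ∀ k, Z k ≤ L := fun k => map_subtype_le _
    have hAZ : ∀ k, A ≤ normalizer (Z k : Set G) := fun k =>
      hAL.trans (Cfsg.Lib.Core.normalizer_le_normalizer_map_char _)
    obtain ⟨k, hk, hk'⟩ : ∃ k, A ≤ centralizer (Z k : Set G) ∧ ¬ A ≤ centralizer (Z (k + 1) : Set G) := by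
      by_contra! h
      have hall : ∀ k, A ≤ centralizer (Z k : Set G) := by
        intro k
        induction k with
        | zero =>
          intro a _
          refine mem_centralizer_iff.2 fun z hz => ?_
          obtain ⟨w, hw, rfl⟩ := hz
          have : w = 1 := hw
          simp [this]
        | succ k ihk => exact h k ihk
      obtain ⟨m, hm⟩ := hnil.nilpotent'
      have h1 := hall m
      simp only [Z, hm, ← MonoidHom.range_eq_map, L.range_subtype] at h1
      have h2 : A = ⊥ := by rw [eq_bot_iff, ← hfaith]; exact le_inf le_rfl h1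
      rw [h2, card_bot] at hcard
      exact absurd hcard (Nat.one_lt_two_pow (Nat.succ_ne_zero d)).ne
    obtain ⟨a', ha', hne'⟩ := SetLike.not_le_iff_exists.1 hk'
    have hZodd : Odd (Nat.card (Z (k + 1))) := hodd.of_dvd_nat (card_dvd_of_le (hZL _))
    obtain ⟨l, hlZ, hl1, hla', hleig⟩ := eigen hZodd hA (hAZ _) ha' hne'
    have hlL : l ∈ L := hZL _ hlZ
    have hlk : ∀ y ∈ L, ∀ a ∈ A, a * (l * y * l⁻¹ * y⁻¹) * a⁻¹ = l * y * l⁻¹ * y⁻¹ := by
      intro y hy a ha
      obtain ⟨w, hw, hwl⟩ := hlZ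
      have h1 : (⁅w, (⟨y, hy⟩ : L)⁆ : L) ∈ Subgroup.upperCentralSeries L k := Subgroup.mem_upperCentralSeries_succ_iff.1 hw _
      have h2 : l * y * l⁻¹ * y⁻¹ ∈ Z k := ⟨_, h1, by rw [← hwl]; simp [commutatorElement_def]⟩
      rw [← mem_centralizer_iff.1 (hk ha) _ h2, mul_inv_cancel_right]
    -- eigen elements
    let E : Set G := {x | x ∈ L ∧ x ≠ 1 ∧ ∀ a ∈ A, a * x * a⁻¹ = x ∨ a * x * a⁻¹ = x⁻¹}
    let K : Set G → Subgroup G := fun S => A ⊓ centralizer S
    obtain ⟨S, hS, hmin⟩ : ∃ S : Set G, (S ⊆ E ∧ ∃ a ∈ K S, a * l * a⁻¹ = l⁻¹) ∧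
        ∀ T : Set G, (T ⊆ E ∧ ∃ a ∈ K T, a * l * a⁻¹ = l⁻¹) → S ⊆ T → T ⊆ S := by
      obtain ⟨S, hS, hmax⟩ := Set.Finite.exists_maximal
        (s := {T : Set G | T ⊆ E ∧ ∃ a ∈ K T, a * l * a⁻¹ = l⁻¹}) (Set.toFinite _)
        ⟨∅, Set.empty_subset _, a', ⟨ha', by simp [centralizer, Set.centralizer]⟩, hla'⟩
      exact ⟨S, hS, fun T hT hle => hmax hT hle⟩
    obtain ⟨hSE, a₁, ⟨ha₁, ha₁S⟩, ha₁l⟩ := hS
    have ha₁1 : a₁ ≠ 1 := fun e => hneq l hlL hl1 (by simpa [e] using ha₁l.symm)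
    set B := A ⊓ centralizer ({l} : Set G) with hB
    have hkey : ∀ b ∈ B, b ≠ 1 → ∃ y ∈ E, Commute a₁ y ∧ b * y * b⁻¹ = y⁻¹ := by
      intro b hb hb1
      obtain ⟨y, hy, hy1, hby, hye⟩ := eigen hodd hA hAL hb.1 (fun h => hb1 (mem_bot.1 (hfaith ▸ ⟨hb.1, h⟩)))
      by_cases hyS : Commute a₁ y
      · exact ⟨y, ⟨hy, hy1, hye⟩, hyS, hby⟩
      by_cases hbS : b ∈ centralizer S
      · exfalso
        have hay : a₁ * y * a₁⁻¹ = y⁻¹ := (hye a₁ ha₁).resolve_left fun e => hyS (by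
          show a₁ * y = y * a₁
          nth_rewrite 2 [← e]; group)
        have hbl : b * l * b⁻¹ = l := by
          rw [mem_centralizer_singleton_iff.1 hb.2, mul_inv_cancel_right]
        have hmem : a₁ * b ∈ K (insert y S) := by
          refine ⟨A.mul_mem ha₁ hb.1, mem_centralizer_iff.2 ?_⟩
          rintro s (rfl | hs)
          · have e : a₁ * b * s * (a₁ * b)⁻¹ = s := by
              calc a₁ * b * s * (a₁ * b)⁻¹ = a₁ * (b * s * b⁻¹) * a₁⁻¹ := by group
                _ = (a₁ * s * a₁⁻¹)⁻¹ := by rw [hby]; group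
                _ = s := by rw [hay, inv_inv]
            nth_rewrite 1 [← e]; group
          · exact mem_centralizer_iff.1 ((centralizer S).mul_mem ha₁S hbS) s hs
        have hsub := hmin (insert y S) ⟨Set.insert_subset ⟨hy, hy1, hye⟩ hSE, a₁ * b, hmem, by
          calc a₁ * b * l * (a₁ * b)⁻¹ = a₁ * (b * l * b⁻¹) * a₁⁻¹ := by group
            _ = l⁻¹ := by rw [hbl, ha₁l]⟩ (Set.subset_insert y S) (Set.mem_insert y S)
        exact hyS (mem_centralizer_iff.1 ha₁S y hsub).symm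
      · rw [mem_centralizer_iff] at hbS
        push Not at hbS
        obtain ⟨z, hz, hbz⟩ := hbS
        refine ⟨z, hSE hz, (mem_centralizer_iff.1 ha₁S z hz).symm, ((hSE hz).2.2 b hb.1).resolve_left fun e => hbz ?_⟩
        nth_rewrite 1 [← e]; group
    have hBcard : Nat.card B = 2 ^ d := by
      have hBA : B ≤ A := inf_le_left
      have h1 : A ≤ B ⊔ zpowers a₁ := by
        intro a ha
        rcases hleig a ha with h | h
        · refine mem_sup_left ⟨ha, mem_centralizer_singleton_iff.2 ?_⟩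
          nth_rewrite 2 [← h]; group
        · have hmem : a * a₁ ∈ B := by
            refine ⟨A.mul_mem ha ha₁, mem_centralizer_singleton_iff.2 ?_⟩
            have h2 : a * a₁ * l * (a * a₁)⁻¹ = l := by
              calc a * a₁ * l * (a * a₁)⁻¹ = a * (a₁ * l * a₁⁻¹) * a⁻¹ := by group
                _ = (a * l * a⁻¹)⁻¹ := by rw [ha₁l]; group
                _ = l := by rw [h, inv_inv]
            nth_rewrite 2 [← h2]; group
          have : a = a * a₁ * a₁⁻¹ := by group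
          rw [this]
          exact mul_mem_sup hmem ((zpowers a₁).inv_mem (mem_zpowers a₁))
      have hdisj : Disjoint B (zpowers a₁) := by
        rw [disjoint_iff, eq_bot_iff]
        rintro z ⟨hzB, hz⟩
        obtain ⟨n, rfl⟩ := mem_zpowers_iff.1 hz
        rcases Int.even_or_odd n with ⟨r, rfl⟩ | ⟨r, rfl⟩
        · rw [mem_bot, zpow_add, ← (Commute.refl a₁).mul_zpow, hsq a₁ ha₁, one_zpow]
        · exfalso
          have h1 : a₁ ^ (2 * r + 1) = a₁ := by
            rw [zpow_add, two_mul, zpow_add, ← (Commute.refl a₁).mul_zpow, hsq a₁ ha₁, one_zpow, one_mul, zpow_one]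
          have h2 : a₁ * l = l * a₁ := mem_centralizer_singleton_iff.1 (h1 ▸ hzB).2
          have h3 : a₁ * l * a₁⁻¹ = l := by rw [h2, mul_inv_cancel_right]
          exact hneq l hlL hl1 (ha₁l.symm.trans h3)
      have hsup : B ⊔ zpowers a₁ = A := le_antisymm (sup_le hBA (zpowers_le.2 ha₁)) h1
      have hc := Cfsg.Lib.Coprime.card_sup_of_disjoint (A := B) (N := zpowers a₁) (by
        refine le_trans ?_ (centralizer_le_normalizer _)
        exact fun b hb => mem_centralizer_iff.2 fun z hz => hcomm z ((zpowers_le.2 ha₁) hz) b hb.1) hdisj.symm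
      rw [sup_comm, hsup, mul_comm, hcard, Nat.card_zpowers, orderOf_eq_prime (p := 2) (by rw [pow_two, hsq a₁ ha₁]) ha₁1, pow_succ] at hc
      exact (Nat.eq_of_mul_eq_mul_right two_pos hc).symm
    set L' := L ⊓ centralizer ({a₁} : Set G) with hL'
    have hBL' : B ≤ normalizer (L' : Set G) := by
      intro b hb
      refine mem_normalizer_fintype fun y hy => ⟨(mem_normalizer_iff.1 (hAL hb.1) y).1 hy.1, ?_⟩
      refine mem_centralizer_singleton_iff.2 ?_
      have h1 : Commute b a₁ := hcomm b hb.1 a₁ ha₁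
      have h2 : Commute y a₁ := mem_centralizer_singleton_iff.1 hy.2
      exact ((h1.mul_left h2).mul_left h1.inv_left).eq
    have hBfaith : B ⊓ centralizer (L' : Set G) = ⊥ := by
      rw [eq_bot_iff]
      rintro b ⟨hb, hbc⟩
      by_contra hb1
      obtain ⟨y, hy, hay, hby⟩ := hkey b hb hb1
      have h1 : y * b = b * y := mem_centralizer_iff.1 hbc y ⟨hy.1, mem_centralizer_singleton_iff.2 hay.eq.symm⟩
      rw [← h1, mul_inv_cancel_right] at hby
      exact hneq y hy.1 hy.2.1 hby.symm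
    have hBel : Cfsg.IsElementaryAbelian 2 B :=
      ⟨⟨⟨fun u v => Subtype.ext (hcomm u u.2.1 v v.2.1)⟩⟩, fun u hu => hA.2 u hu.1⟩
    obtain ⟨a, m, ham, hBsup, hcm⟩ := ih L' B (Cfsg.Lib.Core.isNilpotent_of_le inf_le_left hnil)
      (hodd.of_dvd_nat (card_dvd_of_le inf_le_left)) hBel hBcard hBL' hBfaith
    have hlm : ∀ j, Commute l (m j) := by
      intro j
      obtain ⟨hj, -, hmj, hm1, hjm⟩ := ham j
      set y := m j
      set c := l * y * l⁻¹ * y⁻¹ with hc
      -- `m j` commutes with `a₁`, which inverts `l`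
      have h1 : a₁ * y = y * a₁ := (mem_centralizer_singleton_iff.1 hmj.2).symm
      have h3 : a j * l = l * a j := mem_centralizer_singleton_iff.1 hj.2
      have e1 : a₁ * c * a₁⁻¹ = l⁻¹ * y * l * y⁻¹ := by
        calc a₁ * c * a₁⁻¹ = (a₁ * l * a₁⁻¹) * (a₁ * y * a₁⁻¹) * (a₁ * l * a₁⁻¹)⁻¹ * (a₁ * y * a₁⁻¹)⁻¹ := by rw [hc]; group
          _ = _ := by rw [ha₁l, h1, mul_inv_cancel_right, inv_inv]
      have e2 : a j * c * (a j)⁻¹ = l * y⁻¹ * l⁻¹ * y := by
        calc a j * c * (a j)⁻¹ = (a j * l * (a j)⁻¹) * (a j * y * (a j)⁻¹) * (a j * l * (a j)⁻¹)⁻¹ * (a j * y * (a j)⁻¹)⁻¹ := by rw [hc]; group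
          _ = _ := by rw [hjm, h3, mul_inv_cancel_right, inv_inv]
      rw [hlk y hmj.1 a₁ ha₁] at e1
      rw [hlk y hmj.1 (a j) hj.1] at e2
      -- hence `y` commutes with `l²` and `y²`
      have k1 : l * y * l⁻¹ = l⁻¹ * y * l := by
        calc l * y * l⁻¹ = c * y := by rw [hc]; group
          _ = l⁻¹ * y * l := by rw [hc, e1]; group
      have k2 : Commute (l ^ 2) y := by
        show l ^ 2 * y = y * l ^ 2
        calc l ^ 2 * y = l * (l * y * l⁻¹) * l := by rw [pow_two]; group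
          _ = y * l ^ 2 := by rw [k1, pow_two]; group
      obtain ⟨q, hq⟩ := hodd.of_dvd_nat (Subgroup.orderOf_dvd_natCard _ hlL)
      have hl2 : (l ^ 2) ^ (q + 1) = l := by
        rw [← pow_mul, show 2 * (q + 1) = orderOf l + 1 by omega, pow_succ, pow_orderOf_eq_one, one_mul]
      exact hl2 ▸ k2.pow_left (q + 1)
    refine ⟨Fin.cons a₁ a, Fin.cons l m, ?_, ?_, ?_⟩
    · intro i
      refine Fin.cases ?_ (fun j => ?_) i
      · exact ⟨ha₁, ha₁1, hlL, hl1, ha₁l⟩
      · obtain ⟨h1, h2, h3, h4, h5⟩ := ham j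
        exact ⟨h1.1, h2, h3.1, h4, h5⟩
    · intro b hb
      rcases hleig b hb with h | h
      · have hbB : b ∈ B := ⟨hb, mem_centralizer_singleton_iff.2 (by nth_rewrite 2 [← h]; group)⟩
        refine (hBsup.trans (iSup_le fun j => ?_)) hbB
        exact le_iSup_of_le j.succ (by simp)
      · have hbB : b * a₁ ∈ B := by
          refine ⟨A.mul_mem hb ha₁, mem_centralizer_singleton_iff.2 ?_⟩
          have h2 : b * a₁ * l * (b * a₁)⁻¹ = l := by
            calc b * a₁ * l * (b * a₁)⁻¹ = b * (a₁ * l * a₁⁻¹) * b⁻¹ := by group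
              _ = (b * l * b⁻¹)⁻¹ := by rw [ha₁l]; group
              _ = l := by rw [h, inv_inv]
          nth_rewrite 2 [← h2]; group
        have h6 : b = b * a₁ * a₁⁻¹ := by group
        rw [h6]
        refine mul_mem ((hBsup.trans (iSup_le fun j => le_iSup_of_le j.succ (by simp))) hbB)
          (inv_mem ((le_iSup (fun i : Fin (d + 1) => zpowers ((Fin.cons a₁ a : Fin (d + 1) → G) i)) 0) (by simp)))
    · intro i j
      refine Fin.cases ?_ (fun i' => ?_) i <;> refine Fin.cases ?_ (fun j' => ?_) j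
      · intro h; exact absurd rfl h
      · intro _
        refine ⟨?_, ?_⟩ <;> simp only [Fin.cons_zero, Fin.cons_succ]
        exacts [(mem_centralizer_singleton_iff.1 (ham j').2.2.1.2).symm, hlm j']
      · intro _
        refine ⟨?_, ?_⟩ <;> simp only [Fin.cons_zero, Fin.cons_succ]
        exacts [mem_centralizer_singleton_iff.1 (ham i').1.2, (hlm i').symm]
      · intro h
        simpa using hcm i' j' (fun e => h (by rw [e]))

theorem core {G : Type*} [Group G] [Finite G] (L A : Subgroup G) (hLs : Group.IsSolvable ↥L) (hLodd : Odd (Nat.card ↥L)) (hA : Cfsg.IsElementaryAbelian 2 A) (d : ℕ) (hAd : Nat.card ↥A = 2 ^ d) (hAL : A ≤ Subgroup.normalizer (L : Set G)) (hfaith : A ⊓ Subgroup.centralizer (L : Set G) = ⊥) : ∃ (Ai : Fin d → Subgroup G) (Li : Fin d → Subgroup G) (n : Fin d → ℕ), (∀ i, Ai i ≤ A ∧ Nat.card ↥(Ai i) = 2 ∧ Li i ≤ L ∧ Odd (n i) ∧ 3 ≤ n i ∧ Nonempty (↥(Ai i ⊔ Li i) ≃* DihedralGroup (n i))) ∧ (⨆ i, Ai i) = A ∧ ∀ i j, i ≠ j → ∀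 x ∈ Ai i ⊔ Li i, ∀ y ∈ Ai j ⊔ Li j, x * y = y * x := by
  set F := (Cfsg.fittingSubgroup L).map L.subtype with hF
  have hFL : F ≤ L := map_subtype_le _
  have hFnil : Group.IsNilpotent F := Cfsg.Lib.Core.isNilpotent_map (Cfsg.Lib.Core.fittingSubgroup_isNilpotent L) _
  have hFodd : Odd (Nat.card F) := hLodd.of_dvd_nat (card_dvd_of_le hFL)
  have hAF : A ≤ normalizer (F : Set G) := hAL.trans (Cfsg.Lib.Core.normalizer_le_normalizer_map_char _)
  have hLF : L ≤ normalizer (F : Set G) := le_normalizer.trans (Cfsg.Lib.Core.normalizer_le_normalizer_map_char _)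
  have hfaithF : A ⊓ centralizer (F : Set G) = ⊥ := by
    rw [eq_bot_iff, ← hfaith]
    rintro a ⟨ha, hac⟩
    refine ⟨ha, mem_centralizer_iff.2 fun y hy => ?_⟩
    set c := y⁻¹ * (a * y * a⁻¹) with hc
    have hcL : c ∈ L := L.mul_mem (L.inv_mem hy) ((mem_normalizer_iff.1 (hAL ha) y).1 hy)
    have hcC : ∀ f ∈ F, c * f = f * c := by
      intro f hf
      have hf' : y * f * y⁻¹ ∈ F := (mem_normalizer_iff.1 (hLF hy) f).1 hf
      have h1 : y * f * y⁻¹ * a = a * (y * f * y⁻¹) := mem_centralizer_iff.1 hac _ hf'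
      have h2 : f * a = a * f := mem_centralizer_iff.1 hac f hf
      have h3 : (a * y * a⁻¹) * f * (a * y * a⁻¹)⁻¹ = y * f * y⁻¹ := by
        calc (a * y * a⁻¹) * f * (a * y * a⁻¹)⁻¹ = a * y * (a⁻¹ * (f * a)) * y⁻¹ * a⁻¹ := by group
          _ = a * (y * f * y⁻¹) * a⁻¹ := by rw [h2]; group
          _ = y * f * y⁻¹ := by rw [← h1]; group
      calc c * f = y⁻¹ * ((a * y * a⁻¹) * f * (a * y * a⁻¹)⁻¹) * (a * y * a⁻¹) := by rw [hc]; group
        _ = f * c := by rw [h3, hc]; group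
    have hcF : c ∈ F := by
      haveI := hLs
      have h1 : (⟨c, hcL⟩ : L) ∈ centralizer (Cfsg.fittingSubgroup L : Set L) :=
        mem_centralizer_iff.2 fun f hf => Subtype.ext (hcC f ⟨f, hf, rfl⟩).symm
      exact ⟨_, Cfsg.Lib.Core.centralizer_fitting_le_of_isSolvable h1, rfl⟩
    have h3 : c * a = a * c := mem_centralizer_iff.1 hac c hcF
    have haa : a * a = 1 := by rw [← pow_two]; exact hA.2 a ha
    have hai : a⁻¹ = a := inv_eq_of_mul_eq_one_right haa
    have h4 : a * c * a⁻¹ = c⁻¹ := by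
      calc a * c * a⁻¹ = a * y⁻¹ * a * y * (a⁻¹ * a⁻¹) := by rw [hc]; group
        _ = a * y⁻¹ * a * y := by rw [hai, haa, mul_one]
        _ = c⁻¹ := by rw [hc, mul_inv_rev, mul_inv_rev, mul_inv_rev, inv_inv, inv_inv, hai]; group
    rw [← h3, mul_inv_cancel_right] at h4
    have h5 : c = 1 := by
      rw [← orderOf_eq_one_iff]
      refine Nat.eq_one_of_dvd_coprimes (Nat.coprime_two_left.2 hLodd) (orderOf_dvd_of_pow_eq_one ?_)
        (orderOf_dvd_natCard _ hcL)
      rw [pow_two]; nth_rewrite 2 [h4]; rw [mul_inv_cancel]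
    have h6 : a * y * a⁻¹ = y := (inv_mul_eq_one.1 h5).symm
    nth_rewrite 1 [← h6]; group
  obtain ⟨a, l, hal, hsup, hcm⟩ := dihedral_config d F A hFnil hFodd hA hAd hAF hfaithF
  refine ⟨fun i => zpowers (a i), fun i => zpowers (l i), fun i => orderOf (l i), fun i => ?_, ?_, ?_⟩
  · obtain ⟨ha, ha1, hl, hl1, hinv⟩ := hal i
    have hlo : Odd (orderOf (l i)) := hLodd.of_dvd_nat (Subgroup.orderOf_dvd_natCard _ (hFL hl))
    have hsq : a i * a i = 1 := by rw [← pow_two]; exact hA.2 _ ha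
    refine ⟨zpowers_le.2 ha, ?_, zpowers_le.2 (hFL hl), hlo, ?_, ?_⟩
    · rw [Nat.card_zpowers, orderOf_eq_prime (p := 2) (by rw [pow_two, hsq]) ha1]
    · have h1 : orderOf (l i) ≠ 1 := fun e => hl1 (orderOf_eq_one_iff.1 e)
      obtain ⟨q, hq⟩ := hlo
      show 3 ≤ orderOf (l i)
      omega
    · have hm : a i ∉ zpowers (l i) := fun h => by
        have h2 := hLodd.of_dvd_nat (Subgroup.orderOf_dvd_natCard _ ((zpowers_le.2 (hFL hl)) h))
        rw [orderOf_eq_prime (p := 2) (by rw [pow_two, hsq]) ha1] at h2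
        exact absurd h2 (by decide)
      obtain ⟨e⟩ := Cfsg.Lib.TwoGroup.equiv_dihedral hsq hinv hm
      refine ⟨(MulEquiv.subgroupCongr ?_).trans e⟩
      show zpowers (a i) ⊔ zpowers (l i) = closure {l i, a i}
      rw [sup_comm, zpowers_eq_closure, zpowers_eq_closure, ← Subgroup.closure_union, Set.singleton_union]
  · exact le_antisymm (iSup_le fun i => zpowers_le.2 (hal i).1) hsup
  · intro i j hij x hx y hy
    have haa : Commute (a i) (a j) := congrArg Subtype.val (hA.1.is_comm.comm (⟨a i, (hal i).1⟩ : A) ⟨a j, (hal j).1⟩)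
    have h1 : Commute (a i) (l j) := (hcm i j hij).1
    have h2 : Commute (a j) (l i) := (hcm j i (Ne.symm hij)).1
    have h3 : Commute (l i) (l j) := (hcm i j hij).2
    have hle : zpowers (a i) ⊔ zpowers (l i) ≤ centralizer ((zpowers (a j) ⊔ zpowers (l j) : Subgroup G) : Set G) := by
      rw [le_centralizer_iff]
      refine sup_le (zpowers_le.2 ?_) (zpowers_le.2 ?_) <;>
        · refine mem_centralizer_iff.2 fun w hw => ?_
          refine (mem_centralizer_singleton_iff.1 ((sup_le (zpowers_le.2 ?_) (zpowers_le.2 ?_)) hw))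
          all_goals first
            | exact mem_centralizer_singleton_iff.2 haa.eq
            | exact mem_centralizer_singleton_iff.2 h1.eq
            | exact mem_centralizer_singleton_iff.2 h2.symm.eq
            | exact mem_centralizer_singleton_iff.2 h3.eq
    exact (mem_centralizer_iff.1 (hle hx) y hy).symm


/-- Let G be finite, L ≤ G solvable of odd order, and A an elementary abelian 2-subgroup of order 2^d (d ≥ 1) normalizing L with C_A(L) = 1. Then there are subgroups A_1, …, A_d of A of order 2 generating A and subgroups L_1, …, L_d of L such that each A_i ⊔ L_i is dihedral of order 2 n_i with n_i odd and at least 3, and A_i ⊔ L_i commutes elementwise with A_j ⊔ L_j for i ≠ j. -/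
theorem result {G : Type*} [Group G] [Finite G] (L A : Subgroup G) (hLs : Group.IsSolvable ↥L) (hLodd : Odd (Nat.card ↥L)) (hA : Cfsg.IsElementaryAbelian 2 A) (d : ℕ) (hd : 1 ≤ d) (hAd : Nat.card ↥A = 2 ^ d) (hAL : A ≤ Subgroup.normalizer (L : Set G)) (hfaith : A ⊓ Subgroup.centralizer (L : Set G) = ⊥) : ∃ (Ai : Fin d → Subgroup G) (Li : Fin d → Subgroup G) (n : Fin d → ℕ), (∀ i, Ai i ≤ A ∧ Nat.card ↥(Ai i) = 2 ∧ Li i ≤ L ∧ Odd (n i) ∧ 3 ≤ n i ∧ Nonempty (↥(Ai i ⊔ Li i) ≃* DihedralGroup (n i))) ∧ (⨆ i, Ai i) = A ∧ ∀ i j, i ≠ j → ∀ x ∈ Ai i ⊔ Li i, ∀ y ∈ Ai j ⊔ Li j, x * y = y * x := by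
  exact core L A hLs hLodd hA d hAd hAL hfaith

end Cfsg.Agent.S1349
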