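import Cfsg.Statements.S4304
import Mathlib.GroupTheory.Perm.Cycle.Type
import Mathlib.GroupTheory.GroupAction.Quotient
import Mathlib.GroupTheory.Transfer
import Mathlib.Tactic.IntervalCases
import Mathlib.Tactic.NormNum.GCD
import Mathlib.Tactic.NormNum.Prime

set_option autoImplicit false
set_option linter.style.haveILetI false
open Cfsg

namespace Cfsg.Agent.S4304

open Subgroup
open scoped Pointwise

theorem mem_of_fix {X : Type*} [Group X] {p : ℕ} [Fact p.Prime] {z : X} (hz : ∃ k, orderOf z = p ^ k)
    (Q : Sylow p X) (h : z • Q = Q) : z ∈ (Q : Subgroup X) := by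
  obtain ⟨k, hk⟩ := hz
  have hp : IsPGroup p (zpowers z) := IsPGroup.of_card (n := k) (by rw [Nat.card_zpowers, hk])
  have h1 : zpowers z ⊓ normalizer ((Q : Subgroup X) : Set X) = zpowers z :=
    inf_eq_left.mpr (zpowers_le.mpr (Sylow.smul_eq_iff_mem_normalizer.mp h))
  exact (((hp.inf_normalizer_sylow Q).symm.trans h1).symm.le (mem_zpowers z)).2

theorem fix_of_mem {X : Type*} [Group X] {p : ℕ} {z : X} (Q : Sylow p X)
    (h : z ∈ (Q : Subgroup X)) : z • Q = Q :=
  Sylow.smul_eq_iff_mem_normalizer.mpr (le_normalizer h)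

/-- No group of order `105` or `315` has 15 self-centralizing Sylow 7-subgroups. -/
theorem odd_case {K : Type*} [Group K] [Finite K] (a : ℕ) (ha : a = 1 ∨ a = 2)
    (hK : Nat.card K = 3 ^ a * 35)
    (P : Subgroup K) (hP : Nat.card P = 7) (hC : centralizer (P : Set K) ≤ P) : False := by
  haveI : Fact (Nat.Prime 3) := ⟨by norm_num⟩
  haveI : Fact (Nat.Prime 5) := ⟨by norm_num⟩
  haveI : Fact (Nat.Prime 7) := ⟨by norm_num⟩
  -- `P` fixes no nontrivial element of a normal subgroup whose order is not `1` mod `7`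
  have hfpf : ∀ R : Subgroup K, R.Normal → Nat.card R % 7 ≠ 1 → (Nat.card R).Coprime 7 → False := by
    intro R hR hmod hcop
    haveI := hR
    letI : MulAction P R :=
      { smul := fun g r => ⟨(g : K) * r * (g : K)⁻¹, hR.conj_mem _ r.2 _⟩
        one_smul := fun r => Subtype.ext (by show (1 : K) * r * (1 : K)⁻¹ = r; simp)
        mul_smul := fun g h r => Subtype.ext (by
          show (g : K) * h * r * ((g : K) * h)⁻¹ = g * (h * r * (h : K)⁻¹) * (g : K)⁻¹; group) }
    have hp : IsPGroup 7 P := IsPGroup.of_card (n := 1) (by rw [hP, pow_one])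
    have h1 := hp.card_modEq_card_fixedPoints R
    have hne : (MulAction.fixedPoints P R) ≠ {1} := fun he => by
      rw [he, Nat.card_coe_set_eq {(1 : R)}, Set.ncard_singleton] at h1
      exact hmod h1
    have h1mem : (1 : R) ∈ MulAction.fixedPoints P R := fun g =>
      Subtype.ext (by show (g : K) * 1 * (g : K)⁻¹ = 1; simp)
    obtain ⟨r, hr, hr1⟩ : ∃ r ∈ MulAction.fixedPoints P R, r ≠ 1 := by
      by_contra hcon
      push Not at hcon
      exact hne (Set.eq_singleton_iff_unique_mem.mpr ⟨h1mem, hcon⟩)
    have hrP : (r : K) ∈ P := hC fun g hg => by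
      have h2 : g * r * g⁻¹ = (r : K) := congrArg Subtype.val (hr ⟨g, hg⟩)
      exact mul_inv_eq_iff_eq_mul.mp h2
    have hinf : R ⊓ P = ⊥ := (disjoint_of_coprime_natCard (by rw [hP]; exact hcop)).eq_bot
    have : (r : K) ∈ R ⊓ P := ⟨r.2, hrP⟩
    rw [hinf, mem_bot] at this
    exact hr1 (Subtype.ext this)
  let Q : Sylow 5 K := Classical.arbitrary _
  let R : Sylow 3 K := Classical.arbitrary _
  have hQc : Nat.card (Q : Subgroup K) = 5 := by
    rw [Q.card_eq_multiplicity, hK]
    rcases ha with rfl | rfl <;>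
      · rw [show (35 : ℕ) = 5 * 7 by norm_num, Nat.factorization_mul (by norm_num) (by norm_num),
          Nat.factorization_mul (by norm_num) (by norm_num), Nat.factorization_pow]
        simp [Nat.Prime.factorization, show Nat.Prime 3 by norm_num, show Nat.Prime 5 by norm_num,
          show Nat.Prime 7 by norm_num]
  have hRc : Nat.card (R : Subgroup K) = 3 ^ a := by
    rw [R.card_eq_multiplicity, hK]
    rcases ha with rfl | rfl <;>
      · rw [show (35 : ℕ) = 5 * 7 by norm_num, Nat.factorization_mul (by norm_num) (by norm_num),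
          Nat.factorization_mul (by norm_num) (by norm_num), Nat.factorization_pow]
        simp [Nat.Prime.factorization, show Nat.Prime 3 by norm_num, show Nat.Prime 5 by norm_num,
          show Nat.Prime 7 by norm_num]
  have hiQ : (Q : Subgroup K).index = 3 ^ a * 7 := by
    have := (Q : Subgroup K).card_mul_index
    rw [hQc, hK] at this; omega
  have hiR : (R : Subgroup K).index = 35 := by
    have := (R : Subgroup K).card_mul_index
    rw [hRc, hK] at this
    exact Nat.eq_of_mul_eq_mul_left (pow_pos (by norm_num) a) this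
  have hn5 : Nat.card (Sylow 5 K) = 21 := by
    have h1 : Nat.card (Sylow 5 K) ≡ 1 [MOD 5] := card_sylow_modEq_one 5 K
    have h2 : Nat.card (Sylow 5 K) ∣ 3 ^ a * 7 := hiQ ▸ Q.card_dvd_index
    have h3 : Nat.card (Sylow 5 K) ≠ 1 := fun h => by
      haveI := (Nat.card_eq_one_iff_unique.mp h).1
      exact hfpf _ (Sylow.normal_of_subsingleton Q) (by rw [hQc]; norm_num) (by rw [hQc]; norm_num)
    unfold Nat.ModEq at h1
    rcases ha with rfl | rfl <;>
      · norm_num at h2
        have := Nat.le_of_dvd (by norm_num) h2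
        interval_cases hc : Nat.card (Sylow 5 K) <;> omega
  have hn3 : Nat.card (Sylow 3 K) = 7 := by
    have h1 : Nat.card (Sylow 3 K) ≡ 1 [MOD 3] := card_sylow_modEq_one 3 K
    have h2 : Nat.card (Sylow 3 K) ∣ 35 := hiR ▸ R.card_dvd_index
    have h3 : Nat.card (Sylow 3 K) ≠ 1 := fun h => by
      haveI := (Nat.card_eq_one_iff_unique.mp h).1
      exact hfpf _ (Sylow.normal_of_subsingleton R)
        (by rw [hRc]; rcases ha with rfl | rfl <;> norm_num)
        (by rw [hRc]; rcases ha with rfl | rfl <;> norm_num)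
    unfold Nat.ModEq at h1
    have := Nat.le_of_dvd (by norm_num) h2
    interval_cases hc : Nat.card (Sylow 3 K) <;> omega
  set N := normalizer ((R : Subgroup K) : Set K) with hN
  have hNc : Nat.card N = 3 ^ a * 5 := by
    have := N.card_mul_index
    rw [show N.index = 7 from R.card_eq_index_normalizer.symm.trans hn3, hK] at this; omega
  let S : Sylow 5 N := Classical.arbitrary _
  have hSc : Nat.card (S : Subgroup N) = 5 := by
    rw [S.card_eq_multiplicity, hNc]
    rcases ha with rfl | rfl <;>
      · rw [Nat.factorization_mul (by norm_num) (by norm_num), Nat.factorization_pow]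
        simp [Nat.Prime.factorization, show Nat.Prime 3 by norm_num, show Nat.Prime 5 by norm_num]
  have hS1 : Nat.card (Sylow 5 N) = 1 := by
    have h1 : Nat.card (Sylow 5 N) ≡ 1 [MOD 5] := card_sylow_modEq_one 5 N
    have hiS : (S : Subgroup N).index = 3 ^ a := by
      have := (S : Subgroup N).card_mul_index
      rw [hSc, hNc] at this; omega
    have h2 : Nat.card (Sylow 5 N) ∣ 3 ^ a := hiS ▸ S.card_dvd_index
    unfold Nat.ModEq at h1
    rcases ha with rfl | rfl <;>
      · norm_num at h2
        have := Nat.le_of_dvd (by norm_num) h2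
        interval_cases hc : Nat.card (Sylow 5 N) <;> omega
  haveI := (Nat.card_eq_one_iff_unique.mp hS1).1
  haveI hSn := Sylow.normal_of_subsingleton S
  obtain ⟨Q', hQ'⟩ := (S.2.map N.subtype).exists_le_sylow
  have hQ'c : Nat.card (Q' : Subgroup K) = 5 := by
    rw [Q'.card_eq_multiplicity, ← Q.card_eq_multiplicity, hQc]
  have heq : (S : Subgroup N).map N.subtype = (Q' : Subgroup K) :=
    eq_of_le_of_card_ge hQ' (by rw [hQ'c, card_map_of_injective N.subtype_injective, hSc])
  have hle : N ≤ normalizer ((Q' : Subgroup K) : Set K) := by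
    rw [← heq]
    intro g hg
    rw [mem_normalizer_iff]
    intro x
    constructor
    · rintro ⟨y, hy, rfl⟩
      exact ⟨⟨g, hg⟩ * y * ⟨g, hg⟩⁻¹, hSn.conj_mem y hy _, rfl⟩
    · rintro ⟨y, hy, he⟩
      have he' : (y : K) = g * x * g⁻¹ := he
      refine ⟨⟨g, hg⟩⁻¹ * y * ⟨g, hg⟩, by have := hSn.conj_mem y hy ⟨g, hg⟩⁻¹; rw [inv_inv] at this; exact this, ?_⟩
      show g⁻¹ * (y : K) * g = x
      rw [he']; group
  have h1 := index_dvd_of_le hle
  rw [show (normalizer ((Q' : Subgroup K) : Set K)).index = 21 from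
    Q'.card_eq_index_normalizer.symm.trans hn5,
    show N.index = 7 from R.card_eq_index_normalizer.symm.trans hn3] at h1
  norm_num at h1

/-- A normal complement to a Sylow 2-subgroup of order 2. -/
theorem two_case {A : Type*} [Group A] [Finite A] [Fact (Nat.Prime 7)] {P : Sylow 7 A} {a : ℕ}
    (hA : Nat.card A = 2 * (3 ^ a * 35))
    (fin : ∀ (K : Subgroup A) (a : ℕ), (a = 1 ∨ a = 2) → Nat.card K = 3 ^ a * 35 →
      (P : Subgroup A) ≤ K → False) (ha : a = 1 ∨ a = 2) : False := by
  haveI : Fact (Nat.Prime 2) := ⟨Nat.prime_two⟩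
  let T : Sylow 2 A := Classical.arbitrary _
  have hTc : Nat.card (T : Subgroup A) = 2 := by
    rw [T.card_eq_multiplicity, hA, Nat.factorization_mul (by norm_num) (by positivity),
      Finsupp.add_apply, Nat.Prime.factorization_self Nat.prime_two,
      Nat.factorization_eq_zero_of_not_dvd (p := 2)
        (by rcases ha with rfl | rfl <;> norm_num)]
    norm_num
  haveI : IsCyclic (T : Subgroup A) := isCyclic_of_prime_card (p := 2) hTc
  have hmin : (Nat.card A).minFac = 2 := (Nat.minFac_eq_two_iff _).mpr (hA ▸ dvd_mul_right 2 _)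
  have hK := IsCyclic.isComplement' hmin (P := T) inferInstance
  set K := (MonoidHom.transferSylow T ((inferInstance : IsCyclic (T : Subgroup A)).normalizer_le_centralizer hmin)).ker
  have hKc : Nat.card K = 3 ^ a * 35 := by
    have h := hK.card_mul
    rw [hTc, hA] at h; omega
  refine fin K a ha hKc fun z hz => ?_
  rw [← QuotientGroup.eq_one_iff, ← orderOf_eq_one_iff]
  refine Nat.eq_one_of_dvd_coprimes (a := 7 ^ (Nat.card A).factorization 7) (b := 2)
    (by apply Nat.Coprime.pow_left; norm_num) ?_ ?_
  · rw [← P.card_eq_multiplicity]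
    exact (orderOf_map_dvd (QuotientGroup.mk' K) z).trans
      (Subgroup.orderOf_mk z hz ▸ _root_.orderOf_dvd_natCard _)
  · refine (_root_.orderOf_dvd_natCard _).trans (dvd_of_eq ?_)
    exact (index_eq_card K).symm.trans (hK.symm.index_eq_card.trans hTc)

/-- The faithful case. -/
theorem faithful_case {X : Type*} [Group X] [Finite X] [Fact (Nat.Prime 7)]
    (h15 : Nat.card (Sylow 7 X) = 15)
    (hinj : Function.Injective (MulAction.toPermHom X (Sylow 7 X))) : False := by
  classical
  haveI := Fintype.ofFinite (Sylow 7 X)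
  haveI := Fintype.ofFinite X
  have hS15 : Fintype.card (Sylow 7 X) = 15 := by rw [← Nat.card_eq_fintype_card, h15]
  -- stabilizers inside a Sylow subgroup
  have hstab : ∀ P Q : Sylow 7 X, P ≠ Q →
      Nat.card ((P : Subgroup X) ⊓ (Q : Subgroup X) : Subgroup X) * 7 = Nat.card (P : Subgroup X) := by
    intro P Q hne
    have hs : MulAction.stabilizer (P : Subgroup X) Q = (Q : Subgroup X).subgroupOf (P : Subgroup X) := by
      ext z
      rw [MulAction.mem_stabilizer_iff, mem_subgroupOf]
      exact ⟨fun h => mem_of_fix (by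
        obtain ⟨k, hk⟩ := IsPGroup.iff_orderOf.mp P.2 z
        exact ⟨k, by rw [Subgroup.orderOf_coe, hk]⟩) Q h, fun h => fix_of_mem Q h⟩
    obtain ⟨k, hk⟩ := P.2.card_orbit Q
    have hle : Nat.card (MulAction.orbit (P : Subgroup X) Q) ≤ 15 := h15 ▸ Finite.card_subtype_le _
    have hk1 : k = 1 := by
      rcases Nat.eq_zero_or_pos k with rfl | hkp
      · exfalso
        apply hne
        rw [pow_zero, Nat.card_eq_one_iff_unique] at hk
        have hfix : ∀ z : (P : Subgroup X), z • Q = Q := fun z => congrArg Subtype.val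
          (hk.1.elim (⟨z • Q, MulAction.mem_orbit Q z⟩ : MulAction.orbit (P : Subgroup X) Q)
            ⟨Q, MulAction.mem_orbit_self Q⟩)
        refine (Sylow.ext ?_ : P = Q)
        refine (P.3 Q.2 fun z hz => ?_).symm
        have h := hs ▸ (MulAction.mem_stabilizer_iff.mpr (hfix ⟨z, hz⟩))
        exact mem_subgroupOf.mp h
      · by_contra hk2
        have : 7 ^ 2 ≤ 7 ^ k := Nat.pow_le_pow_right (by norm_num) (by omega)
        omega
    have h2 : ((Q : Subgroup X).subgroupOf (P : Subgroup X)).index = 7 := by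
      rw [← hs, MulAction.index_stabilizer]
      have hk' := hk
      rw [hk1, pow_one, Nat.card_coe_set_eq] at hk'
      exact hk' 
    have h3 := ((Q : Subgroup X).subgroupOf (P : Subgroup X)).card_mul_index
    rw [h2] at h3
    have h4 : Nat.card ((Q : Subgroup X).subgroupOf (P : Subgroup X)) =
        Nat.card ((P : Subgroup X) ⊓ (Q : Subgroup X) : Subgroup X) := by
      rw [← Nat.card_congr (subgroupOfEquivOfLe (H := (P : Subgroup X) ⊓ (Q : Subgroup X))
        (K := (P : Subgroup X)) inf_le_left).toEquiv, inf_subgroupOf_left]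
    rw [← h4]; exact h3
  let P₀ : Sylow 7 X := Classical.arbitrary _
  obtain ⟨k, hk⟩ := IsPGroup.iff_card.mp P₀.2
  have hcardP : ∀ P : Sylow 7 X, Nat.card (P : Subgroup X) = 7 ^ k := fun P => by
    rw [P.card_eq_multiplicity, ← P₀.card_eq_multiplicity, hk]
  have hk2 : k ≤ 2 := by
    by_contra hk3
    have h1 : 7 ^ 3 ∣ Nat.card X :=
      (pow_dvd_pow 7 (by omega : 3 ≤ k)).trans (hk ▸ card_subgroup_dvd_card _)
    have h2 : Nat.card X ∣ Nat.factorial 15 := by
      have := card_dvd_of_injective (MulAction.toPermHom X (Sylow 7 X)) hinj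
      rwa [Nat.card_perm, h15] at this
    have := h1.trans h2
    norm_num [Nat.factorial] at this
  let fix : X → Finset (Sylow 7 X) := fun z => Finset.univ.filter fun Q => z • Q = Q
  have hne8 : k = 1 := by
    have hk0 : k ≠ 0 := by
      rintro rfl
      obtain ⟨Q, hQ⟩ : ∃ Q : Sylow 7 X, Q ≠ P₀ := by
        by_contra hcon
        push Not at hcon
        haveI : Subsingleton (Sylow 7 X) := ⟨fun a b => (hcon a).trans (hcon b).symm⟩
        have := Finite.card_le_one_iff_subsingleton.mpr (inferInstance : Subsingleton (Sylow 7 X))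
        omega
      have := hstab P₀ Q hQ.symm
      rw [hcardP, pow_zero] at this
      omega
    -- nontrivial `7`-elements fix 1 or 8 points
    have hfix : ∀ (P : Sylow 7 X) (z : X), z ∈ (P : Subgroup X) → z ≠ 1 →
        (fix z).card = 1 ∨ (fix z).card = 8 := by
      intro P z hz hz1
      obtain ⟨j, hj⟩ := IsPGroup.iff_orderOf.mp P.2 ⟨z, hz⟩
      rw [Subgroup.orderOf_mk] at hj
      have hpz : IsPGroup 7 (zpowers z) := IsPGroup.of_card (n := j) (by rw [Nat.card_zpowers, hj])
      have h1 := hpz.card_modEq_card_fixedPoints (Sylow 7 X)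
      have h2 : Nat.card (MulAction.fixedPoints (zpowers z) (Sylow 7 X)) = (fix z).card := by
        rw [← Nat.card_eq_finsetCard]
        refine Nat.card_congr (Equiv.subtypeEquivRight fun Q => ?_)
        simp only [fix, Finset.mem_filter, Finset.mem_univ, true_and]
        constructor
        · exact fun h => h ⟨z, mem_zpowers z⟩
        · intro h g
          obtain ⟨i, hi⟩ := mem_zpowers_iff.mp g.2
          show (g : X) • Q = Q
          rw [← hi]
          exact zpow_mem (K := MulAction.stabilizer X Q) (MulAction.mem_stabilizer_iff.mpr h) i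
      rw [h15, h2] at h1
      have h3 : (fix z).card < 15 := by
        refine lt_of_le_of_ne (hS15 ▸ Finset.card_le_univ _) fun he => hz1 (hinj ?_)
        rw [map_one]
        refine Equiv.ext fun Q => ?_
        have : Q ∈ fix z := by
          rw [Finset.eq_univ_of_card (fix z) (he.trans hS15.symm)]; exact Finset.mem_univ Q
        exact (Finset.mem_filter.mp this).2
      have h4 : 1 ≤ (fix z).card := Finset.card_pos.mpr
        ⟨P, Finset.mem_filter.mpr ⟨Finset.mem_univ _, fix_of_mem P hz⟩⟩
      unfold Nat.ModEq at h1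
      omega
    let Z : Finset X := Finset.univ.filter fun z =>
      (∃ j, orderOf z = 7 ^ j) ∧ (fix z).card = 8
    have hsum : ∀ P : Sylow 7 X, 7 * (Z.filter fun z => z ∈ (P : Subgroup X)).card + 14 = 2 * 7 ^ k := by
      intro P
      let E : Finset X := Finset.univ.filter fun z => z ∈ (P : Subgroup X)
      have hE : E.card = 7 ^ k := by
        rw [← hcardP P, ← Nat.card_eq_finsetCard]
        exact Nat.card_congr (Equiv.subtypeEquivRight fun z => by simp [E])
      have h1 : ∑ z ∈ E, (fix z).card = ∑ Q : Sylow 7 X, (E.filter fun z => z • Q = Q).card := by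
        simp only [fix, Finset.card_filter]
        exact Finset.sum_comm
      have h2 : ∀ Q, Q ≠ P → (E.filter fun z => z • Q = Q).card * 7 = 7 ^ k := by
        intro Q hQ
        rw [← hcardP P, ← hstab P Q hQ.symm, ← Nat.card_eq_finsetCard]
        congr 1
        refine Nat.card_congr (Equiv.subtypeEquivRight fun z => ?_)
        simp only [E, Finset.mem_filter, Finset.mem_univ, true_and, mem_inf]
        refine and_congr_right fun hz => ⟨fun h => mem_of_fix ?_ Q h, fix_of_mem Q⟩
        obtain ⟨j, hj⟩ := IsPGroup.iff_orderOf.mp P.2 ⟨z, hz⟩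
        exact ⟨j, by rwa [Subgroup.orderOf_mk] at hj⟩
      have h3 : (E.filter fun z => z • P = P).card = 7 ^ k := by
        rw [Finset.filter_true_of_mem, hE]
        exact fun z hz => fix_of_mem P (Finset.mem_filter.mp hz).2
      have h4 : 7 * ∑ z ∈ E, (fix z).card = 21 * 7 ^ k := by
        rw [h1, ← Finset.add_sum_erase _ _ (Finset.mem_univ P), h3, mul_add, Finset.mul_sum,
          Finset.sum_congr rfl fun Q hQ =>
            (show 7 * (E.filter fun z => z • Q = Q).card = 7 ^ k by
              rw [mul_comm]; exact h2 Q (Finset.ne_of_mem_erase hQ)),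
          Finset.sum_const, Finset.card_erase_of_mem (Finset.mem_univ P), Finset.card_univ, hS15,
          smul_eq_mul]
        ring
      have h5 : ∑ z ∈ E, (fix z).card = 14 + (7 ^ k + 7 * (Z.filter fun z => z ∈ (P : Subgroup X)).card) := by
        have h1E : (1 : X) ∈ E := Finset.mem_filter.mpr ⟨Finset.mem_univ _, one_mem _⟩
        have hf1 : (fix 1).card = 15 := by
          simp [fix, hS15]
        rw [← Finset.add_sum_erase _ _ h1E, hf1]
        have h6 : ∀ z ∈ E.erase 1, (fix z).card = 1 + (if z ∈ Z then 7 else 0) := by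
          intro z hz
          obtain ⟨hz1, hzE⟩ := Finset.mem_erase.mp hz
          have hzP := (Finset.mem_filter.mp hzE).2
          obtain ⟨j, hj⟩ := IsPGroup.iff_orderOf.mp P.2 ⟨z, hzP⟩
          rw [Subgroup.orderOf_mk] at hj
          rcases hfix P z hzP hz1 with h | h
          · rw [if_neg (fun hZ => by have := (Finset.mem_filter.mp hZ).2; omega), h]
          · rw [if_pos (Finset.mem_filter.mpr ⟨Finset.mem_univ _, ⟨j, hj⟩, h⟩), h]
        rw [Finset.sum_congr rfl h6, Finset.sum_add_distrib, Finset.sum_const, smul_eq_mul, mul_one,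
          Finset.card_erase_of_mem h1E, hE, ← Finset.sum_filter, Finset.sum_const, smul_eq_mul]
        have h7 : (E.erase 1).filter (· ∈ Z) = Z.filter fun z => z ∈ (P : Subgroup X) := by
          ext z
          simp only [Finset.mem_filter, Finset.mem_erase, E, Finset.mem_univ, true_and]
          constructor
          · rintro ⟨⟨_, h⟩, h'⟩; exact ⟨h', h⟩
          · rintro ⟨h', h⟩
            refine ⟨⟨?_, h⟩, h'⟩
            rintro rfl
            have := (Finset.mem_filter.mp h').2.2
            omega
        rw [h7]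
        have := Nat.one_le_pow k 7 (by norm_num)
        omega
      omega
    have hdbl : 15 * (2 * 7 ^ k - 14) = 7 * (8 * Z.card) := by
      have h1 : ∑ z ∈ Z, (fix z).card =
          ∑ P : Sylow 7 X, (Z.filter fun z => z ∈ (P : Subgroup X)).card := by
        simp only [fix, Finset.card_filter]
        rw [Finset.sum_comm]
        refine Finset.sum_congr rfl fun P _ => Finset.sum_congr rfl fun z hz => ?_
        congr 1
        exact propext ⟨mem_of_fix (Finset.mem_filter.mp hz).2.1 P, fix_of_mem P⟩
      rw [Finset.sum_congr rfl (fun z hz => (Finset.mem_filter.mp hz).2.2), Finset.sum_const,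
        smul_eq_mul] at h1
      rw [mul_comm 8, h1, Finset.mul_sum,
        Finset.sum_congr rfl (fun (P : Sylow 7 X) _ => show 7 * (Z.filter fun z => z ∈ (P : Subgroup X)).card =
          2 * 7 ^ k - 14 by have := hsum P; omega), Finset.sum_const, Finset.card_univ, hS15,
        smul_eq_mul]
    interval_cases k
    · omega
    · rfl
    · norm_num at hdbl; omega
  subst hne8
  simp only [pow_one] at hcardP
  -- the even permutations
  let sgn : X →* ℤˣ := Equiv.Perm.sign.comp (MulAction.toPermHom X (Sylow 7 X))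
  let A : Subgroup X := sgn.ker
  have hA7 : ∀ P : Sylow 7 X, (P : Subgroup X) ≤ A := fun P z hz => by
    rw [MonoidHom.mem_ker]
    have h1 : z ^ 7 = 1 := by
      have h := pow_card_eq_one' (x := (⟨z, hz⟩ : (P : Subgroup X)))
      rw [hcardP P] at h
      exact congrArg Subtype.val h
    have h2 : sgn z ^ 7 = 1 := by rw [← map_pow, h1, map_one]
    rcases Int.units_eq_one_or (sgn z) with h | h
    · exact h
    · rw [h] at h2; exact absurd h2 (by decide)
  have hC : centralizer ((P₀ : Subgroup X) : Set X) ⊓ A ≤ (P₀ : Subgroup X) := by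
    set C := centralizer ((P₀ : Subgroup X) : Set X) ⊓ A with hCdef
    have hPC : (P₀ : Subgroup X) ≤ C := by
      refine le_inf ?_ (hA7 P₀)
      intro x hx y hy
      haveI : IsCyclic (P₀ : Subgroup X) := isCyclic_of_prime_card (p := 7) (hcardP P₀)
      exact congrArg Subtype.val
        ((IsCyclic.isMulCommutative (α := (P₀ : Subgroup X))).is_comm.comm ⟨y, hy⟩ ⟨x, hx⟩)
    have hCp : IsPGroup 7 C := by
      by_contra hnp
      obtain ⟨r, hr, hrd, hr7⟩ : ∃ r, r.Prime ∧ r ∣ Nat.card C ∧ r ≠ 7 := by
        by_contra hcon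
        push Not at hcon
        refine hnp (IsPGroup.of_card (n := (Nat.card C).factorization 7) ?_)
        exact (Nat.eq_prime_pow_of_unique_prime_dvd Nat.card_pos.ne'
          fun {d} hd hdd => hcon d hd hdd).trans (by
            congr 1
            conv_rhs => rw [Nat.eq_prime_pow_of_unique_prime_dvd (p := 7) Nat.card_pos.ne'
              fun {d} hd hdd => hcon d hd hdd]
            simp [Nat.Prime.factorization_pow (show Nat.Prime 7 by norm_num)])
      haveI := Fact.mk hr
      obtain ⟨c, hc⟩ := exists_prime_orderOf_dvd_card' r hrd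
      have hcx : orderOf (c : X) = r := by rw [Subgroup.orderOf_coe, hc]
      set σ : Equiv.Perm (Sylow 7 X) := MulAction.toPermHom X (Sylow 7 X) (c : X) with hσ
      have hσo : orderOf σ = r := by rw [hσ, orderOf_injective _ hinj, hcx]
      have hrp := Equiv.Perm.cycleType_prime_order (σ := σ) (by rw [hσo]; exact hr)
      obtain ⟨n, hn⟩ := hrp
      rw [hσo] at hn
      have hsupp : σ.support.card = (n + 1) * r := by
        rw [← Equiv.Perm.sum_cycleType, hn, Multiset.sum_replicate, smul_eq_mul]
      -- the fixed set is invariant under `P₀`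
      let F : Finset (Sylow 7 X) := fix (c : X)
      have hFc : F.card + σ.support.card = 15 := by
        rw [← hS15, ← Finset.card_univ,
          ← Finset.card_filter_add_card_filter_not (s := Finset.univ) (fun Q => (c : X) • Q = Q)]
        congr 1
      have hP0F : P₀ ∈ F := by
        refine Finset.mem_filter.mpr ⟨Finset.mem_univ _, Sylow.smul_eq_iff_mem_normalizer.mpr ?_⟩
        exact centralizer_le_normalizer _ c.2.1
      have hFmod : F.card % 7 = 1 := by
        letI : MulAction (P₀ : Subgroup X) {Q : Sylow 7 X // (c : X) • Q = Q} :=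
          { smul := fun g Q => ⟨(g : X) • (Q : Sylow 7 X), by
              rw [← mul_smul, ← c.2.1 g g.2, mul_smul, Q.2]⟩
            one_smul := fun Q => Subtype.ext (one_smul X (Q : Sylow 7 X))
            mul_smul := fun g h Q => Subtype.ext (mul_smul (g : X) (h : X) (Q : Sylow 7 X)) }
        have h1 := P₀.2.card_modEq_card_fixedPoints {Q : Sylow 7 X // (c : X) • Q = Q}
        have h2 : Nat.card (MulAction.fixedPoints (P₀ : Subgroup X) {Q : Sylow 7 X // (c : X) • Q = Q}) = 1 := by
          refine Nat.card_eq_one_iff_unique.mpr ⟨⟨fun a b => ?_⟩, ⟨⟨⟨P₀, (Finset.mem_filter.mp hP0F).2⟩,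
            fun g => Subtype.ext (fix_of_mem P₀ g.2)⟩⟩⟩
          have key : ∀ a : MulAction.fixedPoints (P₀ : Subgroup X) {Q : Sylow 7 X // (c : X) • Q = Q},
              ((a : {Q : Sylow 7 X // (c : X) • Q = Q}) : Sylow 7 X) = P₀ := fun a => by
            refine Sylow.ext (P₀.3 ((a : {Q : Sylow 7 X // (c : X) • Q = Q}) : Sylow 7 X).2 fun z hz =>
              mem_of_fix ?_ _ (congrArg Subtype.val (a.2 ⟨z, hz⟩)))
            obtain ⟨j, hj⟩ := IsPGroup.iff_orderOf.mp P₀.2 ⟨z, hz⟩
            exact ⟨j, by rwa [Subgroup.orderOf_mk] at hj⟩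
          exact Subtype.ext (Subtype.ext ((key a).trans (key b).symm))
        have h3 : Nat.card {Q : Sylow 7 X // (c : X) • Q = Q} = F.card := by
          rw [← Nat.card_eq_finsetCard]
          exact Nat.card_congr (Equiv.subtypeEquivRight fun Q => by simp [F, fix])
        rw [h2, h3] at h1
        exact h1
      have hF : F.card = 1 := by
        have hpos : 0 < (n + 1) * r := Nat.mul_pos n.succ_pos hr.pos
        have h8 : F.card = 1 ∨ F.card = 8 := by omega
        rcases h8 with h | h
        · exact h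
        · exfalso
          have : r ∣ 7 := ⟨n + 1, by rw [mul_comm]; omega⟩
          exact hr7 ((Nat.prime_dvd_prime_iff_eq hr (by norm_num)).mp this)
      have hr2 : r = 2 := by
        have h14 : r ∣ 2 * 7 := ⟨n + 1, by rw [mul_comm r]; omega⟩
        rcases hr.dvd_mul.mp h14 with h | h
        · exact (Nat.prime_dvd_prime_iff_eq hr Nat.prime_two).mp h
        · exact absurd ((Nat.prime_dvd_prime_iff_eq hr (by norm_num)).mp h) hr7
      subst hr2
      have hn6 : n = 6 := by omega
      have hs : Equiv.Perm.sign σ = 1 := c.2.2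
      rw [Equiv.Perm.sign_of_cycleType, hn, hn6] at hs
      exact absurd hs (by decide)
    exact le_of_eq (P₀.3 hCp hPC)
  -- the order of `A`
  let P : Sylow 7 A := P₀.subtype (hA7 P₀)
  have hPc : Nat.card (P : Subgroup A) = 7 := by
    exact (Nat.card_congr (subgroupOfEquivOfLe (hA7 P₀)).toEquiv).trans (hcardP P₀)
  have hnA : Nat.card (Sylow 7 A) = 15 := by
    rw [← h15]
    refine (Nat.card_eq_of_bijective (fun Q : Sylow 7 X => Q.subtype (hA7 Q)) ⟨?_, ?_⟩).symm
    · exact fun Q Q' h => Sylow.subtype_injective h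
    · intro S
      obtain ⟨Q, hQ⟩ := S.exists_comap_subtype_eq
      exact ⟨Q, Sylow.ext hQ⟩
  have hCA : centralizer ((P : Subgroup A) : Set A) ≤ (P : Subgroup A) := fun z hz =>
    mem_subgroupOf.mpr (hC ⟨fun y hy => congrArg Subtype.val (hz ⟨y, hA7 P₀ hy⟩ (mem_subgroupOf.mpr hy)), z.2⟩)
  obtain ⟨e, he6, hAe⟩ : ∃ e, e ∣ 6 ∧ Nat.card A = 15 * 7 * e := by
    set N := normalizer ((P : Subgroup A) : Set A) with hN
    refine ⟨((P : Subgroup A).normalizerMonoidHom.ker).index, ?_, ?_⟩
    · rw [index_ker]
      haveI : IsCyclic (P : Subgroup A) := isCyclic_of_prime_card (p := 7) hPc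
      have h := card_subgroup_dvd_card (P : Subgroup A).normalizerMonoidHom.range
      rwa [IsCyclic.card_mulAut, hPc, Nat.totient_prime (by norm_num)] at h
    · have h1 : Nat.card ((P : Subgroup A).normalizerMonoidHom.ker) = 7 := by
        rw [normalizerMonoidHom_ker]
        refine (Nat.card_congr (subgroupOfEquivOfLe (centralizer_le_normalizer _)).toEquiv).trans
          (Eq.trans ?_ hPc)
        refine congrArg (fun H : Subgroup A => Nat.card H) (le_antisymm hCA ?_)
        intro x hx y hy
        haveI : IsCyclic (P : Subgroup A) := isCyclic_of_prime_card (p := 7) hPc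
        exact congrArg Subtype.val
          ((IsCyclic.isMulCommutative (α := (P : Subgroup A))).is_comm.comm ⟨y, hy⟩ ⟨x, hx⟩)
      have h2 := (P : Subgroup A).normalizerMonoidHom.ker.card_mul_index
      rw [h1] at h2
      rw [mul_assoc, h2, ← hnA, P.card_eq_index_normalizer, mul_comm]
      exact (card_mul_index N).symm
  -- finish
  have fin : ∀ (K : Subgroup A) (a : ℕ), (a = 1 ∨ a = 2) → Nat.card K = 3 ^ a * 35 →
      (P : Subgroup A) ≤ K → False := by
    intro K a ha hK hPK
    refine odd_case a ha hK ((P : Subgroup A).subgroupOf K)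
      ((Nat.card_congr (subgroupOfEquivOfLe hPK).toEquiv).trans hPc) fun z hz => ?_
    exact mem_subgroupOf.mpr (hCA fun y hy =>
      congrArg Subtype.val (hz ⟨y, hPK hy⟩ (mem_subgroupOf.mpr hy)))
  have hcases : e = 1 ∨ e = 2 ∨ e = 3 ∨ e = 6 := by
    have := Nat.le_of_dvd (by norm_num) he6
    interval_cases e <;> first | omega | norm_num at he6
  rcases hcases with rfl | rfl | rfl | rfl
  · exact fin ⊤ 1 (Or.inl rfl) (by rw [card_top]; omega) le_top
  · exact two_case (a := 1) (by omega) fin (Or.inl rfl)
  · exact fin ⊤ 2 (Or.inr rfl) (by rw [card_top]; omega) le_top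
  · exact two_case (a := 2) (by omega) fin (Or.inr rfl)

/-- No finite group has exactly 15 Sylow 7-subgroups. -/
theorem result {G : Type*} [Group G] [Finite G] : Nat.card (Sylow 7 G) ≠ 15 := by
  intro h15
  haveI : Fact (Nat.Prime 7) := ⟨by norm_num⟩
  set K := (MulAction.toPermHom G (Sylow 7 G)).ker with hK
  have hinjS : Function.Injective
      (fun P : Sylow 7 G => P.mapSurjective (QuotientGroup.mk'_surjective K)) := by
    intro P Q h
    have h1 : (P : Subgroup G).map (QuotientGroup.mk' K) = (Q : Subgroup G).map (QuotientGroup.mk' K) :=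
      congrArg (fun S : Sylow 7 (G ⧸ K) => (S : Subgroup (G ⧸ K))) h
    refine Sylow.ext (P.3 Q.2 fun z hz => ?_).symm
    have hzQ : z • Q = Q := by
      obtain ⟨w, hw, he⟩ : QuotientGroup.mk' K z ∈ (Q : Subgroup G).map (QuotientGroup.mk' K) :=
        h1 ▸ Subgroup.mem_map_of_mem _ hz
      have hker : w⁻¹ * z ∈ K := QuotientGroup.eq.mp he
      have h2 : (w⁻¹ * z) • Q = Q := Equiv.ext_iff.mp (MonoidHom.mem_ker.mp hker) Q
      rw [mul_smul] at h2
      rw [← smul_inv_smul w (z • Q), h2, fix_of_mem Q hw]
    obtain ⟨j, hj⟩ := IsPGroup.iff_orderOf.mp P.2 ⟨z, hz⟩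
    exact mem_of_fix ⟨j, by rwa [Subgroup.orderOf_mk] at hj⟩ Q hzQ
  have hbij := And.intro hinjS (Sylow.mapSurjective_surjective (QuotientGroup.mk'_surjective K) 7)
  refine faithful_case (X := G ⧸ K) ((Nat.card_eq_of_bijective _ hbij).symm.trans h15) ?_
  rw [injective_iff_map_eq_one]
  intro x hx
  obtain ⟨g, rfl⟩ := QuotientGroup.mk_surjective x
  refine (QuotientGroup.eq_one_iff g).mpr ?_
  rw [hK, MonoidHom.mem_ker]
  refine Equiv.ext fun P => hinjS ?_
  show (g • P).mapSurjective _ = P.mapSurjective _
  refine Eq.trans ?_ (Equiv.ext_iff.mp hx (P.mapSurjective (QuotientGroup.mk'_surjective K)))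
  apply Sylow.ext
  show ((g • P : Sylow 7 G) : Subgroup G).map (QuotientGroup.mk' K) = _
  rw [Sylow.coe_subgroup_smul]
  show _ = MulAut.conj (g : G ⧸ K) • (P : Subgroup G).map (QuotientGroup.mk' K)
  ext y
  simp [Subgroup.mem_map, Subgroup.mem_smul_pointwise_iff_exists, mul_assoc]

end Cfsg.Agent.S4304
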