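import Cfsg.Statements.S0985

set_option autoImplicit false
open Cfsg

namespace Cfsg.Agent.S0985

open scoped Classical in
theorem card_modEq_one_of_orbits {M α : Type*} [Group M] [MulAction M α] [Finite α] [Finite M] (a : α) (d : ℕ)
    (ha : ∀ m : M, m • a = a) (h : ∀ b : α, b ≠ a → d ∣ (MulAction.stabilizer M b).index) :
    Nat.card α ≡ 1 [MOD d] := by
  have := Fintype.ofFinite α
  rw [Nat.card_eq_fintype_card, ← Finset.card_univ, ← Finset.card_erase_add_one (Finset.mem_univ a)]
  refine (Nat.ModEq.add_right 1 (Nat.modEq_zero_iff_dvd.mpr ?_)).trans (by rw [zero_add])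
  have := Fintype.ofFinite (MulAction.orbitRel.Quotient M α)
  rw [Finset.card_eq_sum_card_fiberwise (f := fun b => (Quotient.mk'' b : MulAction.orbitRel.Quotient M α))
    (t := Finset.univ) (fun b _ => Finset.mem_coe.mpr (Finset.mem_univ _))]
  refine Finset.dvd_sum fun o _ => ?_
  induction o using Quotient.inductionOn' with
  | h b =>
    by_cases hb : b = a
    · subst hb
      rw [Finset.card_eq_zero.mpr (Finset.filter_eq_empty_iff.mpr fun c hc hcb => ?_)]
      · exact dvd_zero d
      · obtain ⟨m, hm⟩ := MulAction.orbitRel_apply.mp (Quotient.eq''.mp hcb)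
        exact (Finset.mem_erase.mp hc).1 (hm.symm.trans (ha m))
    · have hfil : ((Finset.univ.erase a).filter fun c => (Quotient.mk'' c : MulAction.orbitRel.Quotient M α) =
          Quotient.mk'' b) = (MulAction.orbit M b).toFinset := by
        ext c
        simp only [Finset.mem_filter, Finset.mem_erase, Finset.mem_univ, and_true, Set.mem_toFinset,
          Quotient.eq'', MulAction.orbitRel_apply]
        refine ⟨fun h => h.2, fun hc => ⟨?_, hc⟩⟩
        rintro rfl
        obtain ⟨m, hm⟩ := hc
        exact hb (by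
          have h1 : b = m⁻¹ • c := by rw [← hm]; simp
          rw [h1]; exact ha m⁻¹)
      rw [hfil, ← Set.ncard_eq_toFinset_card', ← MulAction.index_stabilizer]
      exact h b hb


/-- If the number of Sylow p-subgroups of a finite group is not congruent to 1 modulo p^k, then there are two distinct Sylow p-subgroups P and R such that the index of P ∩ R in P is at most p^(k-1). -/
theorem result {G : Type*} [Group G] [Finite G] (p k : ℕ) [Fact p.Prime] (h : ¬ Nat.card (Sylow p G) ≡ 1 [MOD p ^ k]) : ∃ P R : Sylow p G, P ≠ R ∧ ((R : Subgroup G).subgroupOf (P : Subgroup G)).index ≤ p ^ (k - 1) := by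
  classical
  by_contra hcon
  push Not at hcon
  obtain ⟨P⟩ : Nonempty (Sylow p G) := inferInstance
  refine h (card_modEq_one_of_orbits (M := (P : Subgroup G)) P (p ^ k) (fun m => ?_) fun R hR => ?_)
  · exact Sylow.smul_eq_iff_mem_normalizer.mpr (Subgroup.le_normalizer m.2)
  · have hst : MulAction.stabilizer (P : Subgroup G) R = (R : Subgroup G).subgroupOf (P : Subgroup G) := by
      ext m
      rw [MulAction.mem_stabilizer_iff, Subgroup.mem_subgroupOf]
      show (m : G) • R = R ↔ _
      rw [Sylow.smul_eq_iff_mem_normalizer]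
      refine ⟨fun hm => ?_, fun hm => Subgroup.le_normalizer hm⟩
      exact (P.2.inf_normalizer_sylow R ▸ ⟨m.2, hm⟩ : (m : G) ∈ (P : Subgroup G) ⊓ (R : Subgroup G)).2
    rw [hst]
    obtain ⟨j, hj⟩ := P.2.index ((R : Subgroup G).subgroupOf (P : Subgroup G))
    rw [hj]
    refine pow_dvd_pow p ?_
    by_contra hlt
    have h1 := hcon P R (Ne.symm hR)
    rw [hj] at h1
    exact absurd (Nat.pow_le_pow_right (Fact.out : p.Prime).pos (by omega : j ≤ k - 1)) (not_le.mpr h1)

end Cfsg.Agent.S0985
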