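import Cfsg.Statements.S3103
import Cfsg.Agent.S0256
import Cfsg.Agent.Lib.PGroup.FrattiniStab
import Cfsg.Agent.Lib.Sig.PConstrained
import Cfsg.Agent.Lib.Core.Cores

set_option autoImplicit false
open Cfsg

namespace Cfsg.Agent.S3103

open Subgroup

variable {X : Type*} [Group X] [Finite X]

theorem unit_two : ∀ z : ZMod 2, IsUnit z → z = 1 := by decide

theorem centralizer_le (hc : Cfsg.IsPConstrained 2 X) (hO : Cfsg.oddCore X = ⊥) :
    centralizer (Cfsg.pCore 2 X : Set X) ≤ Cfsg.pCore 2 X := by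
  haveI : Fact (Nat.Prime 2) := ⟨Nat.prime_two⟩
  have hO' : Cfsg.pPrimeCore 2 X = ⊥ := hO
  have h := Cfsg.Lib.Sig.isPConstrained_iff.1 hc
  let e : X ⧸ Cfsg.pPrimeCore 2 X ≃* X :=
    (QuotientGroup.quotientMulEquivOfEq hO').trans QuotientGroup.quotientBot
  have hm := Cfsg.Lib.Core.map_pCore_equiv (p := 2) e
  intro x hx
  have hx' : e.symm x ∈ centralizer ((Cfsg.pCore 2 (X ⧸ Cfsg.pPrimeCore 2 X) : Subgroup _) :
      Set (X ⧸ Cfsg.pPrimeCore 2 X)) := by
    refine mem_centralizer_iff.2 fun y hy => ?_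
    have hy' : e y ∈ Cfsg.pCore 2 X := hm ▸ mem_map_of_mem _ hy
    apply e.injective
    simpa using mem_centralizer_iff.1 hx (e y) hy'
  have := mem_map_of_mem e.toMonoidHom (h hx')
  rw [hm] at this
  simpa using this

/-- The automorphism group of an elementary abelian group of order at most 16 embeds in `A₈`. -/
theorem exists_hom {Q : Type*} [Group Q] [Finite Q] (hab : ∀ a b : Q, a * b = b * a)
    (he : ∀ a : Q, a ^ 2 = 1) (hcard : Nat.card Q ≤ 2 ^ 4) :
    ∃ f : MulAut Q →* alternatingGroup (Fin 8), Function.Injective f := by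
  classical
  haveI : Fact (Nat.Prime 2) := ⟨Nat.prime_two⟩
  letI : CommGroup Q := { ‹Group Q› with mul_comm := hab }
  letI : Module (ZMod 2) (Additive Q) := AddCommGroup.zmodModule fun a => by
    have := he a.toMul
    rw [← ofMul_toMul a, ← ofMul_pow, this]; rfl
  haveI : Module.Finite (ZMod 2) (Additive Q) := Module.Finite.of_finite
  set r := Module.finrank (ZMod 2) (Additive Q) with hr
  have hr4 : r ≤ 4 := by
    have h1 := Module.natCard_eq_pow_finrank (K := ZMod 2) (V := Additive Q)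
    rw [Nat.card_zmod, ← hr] at h1
    have h2 : Nat.card (Additive Q) = Nat.card Q := Nat.card_congr Additive.toMul
    rw [← h2, h1] at hcard
    exact (Nat.pow_le_pow_iff_right (le_refl 2)).1 hcard
  let V := Additive Q × (Fin (4 - r) → ZMod 2)
  have hV : Module.finrank (ZMod 2) V = 4 := by
    rw [Module.finrank_prod, Module.finrank_fin_fun, ← hr]; omega
  let b : Module.Basis (Fin 4) (ZMod 2) V := Module.finBasisOfFinrankEq _ _ hV
  let L : MulAut Q →* Module.End (ZMod 2) V :=
    { toFun := fun a => ((a.toMonoidHom.toAdditive).toZModLinearMap 2).prodMap LinearMap.id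
      map_one' := LinearMap.ext fun v => by rfl
      map_mul' := fun a c => LinearMap.ext fun v => by rfl }
  have hLi : Function.Injective L := fun a c hac => MulEquiv.ext fun x => by
    have := congrArg (fun l : Module.End (ZMod 2) V => (l (Additive.ofMul x, 0)).1) hac
    exact Additive.ofMul.injective this
  let M : MulAut Q →* Matrix (Fin 4) (Fin 4) (ZMod 2) :=
    (LinearMap.toMatrixAlgEquiv b).toAlgHom.toMonoidHom.comp L
  have hdet : ∀ a, (M a).det = 1 := fun a => by
    have h1 : IsUnit (M a).det := (Matrix.isUnit_iff_isUnit_det _).1 ((Group.isUnit a).map M)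
    exact unit_two _ h1
  let S : MulAut Q →* Matrix.SpecialLinearGroup (Fin 4) (ZMod 2) :=
    { toFun := fun a => ⟨M a, hdet a⟩
      map_one' := Subtype.ext (map_one M)
      map_mul' := fun a c => Subtype.ext (map_mul M a c) }
  have hSi : Function.Injective S := fun a c hac =>
    hLi ((LinearMap.toMatrixAlgEquiv b).injective (congrArg Subtype.val hac))
  obtain ⟨u⟩ := Cfsg.Agent.S0256.result (F := ZMod 2) (by simp)
  have hz : Subgroup.center (Matrix.SpecialLinearGroup (Fin 4) (ZMod 2)) = ⊥ := by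
    refine Subgroup.eq_bot_of_card_eq _ ?_
    rw [Cfsg.Lib.Linear.card_center_SL (ι := Fin 4), Fintype.card_fin, ZMod.card]
    rfl
  refine ⟨(u.toMonoidHom.comp (QuotientGroup.mk' _)).comp S, ?_⟩
  refine u.injective.comp ?_ |>.comp hSi
  rw [← MonoidHom.ker_eq_bot_iff, QuotientGroup.ker_mk', hz]

/-- Let X be a finite 2-constrained group with no nontrivial normal subgroup of odd order such that O₂(X) has sectional 2-rank at most 4. Then X/O₂(X) is isomorphic to a subgroup of the alternating group of degree 8. -/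
theorem result {X : Type*} [Group X] [Finite X] (hc : Cfsg.IsPConstrained 2 X) (hO : Cfsg.oddCore X = ⊥)
    (h4 : Cfsg.SectionalPRankLE 2 4 ↥(Cfsg.pCore 2 X)) :
    ∃ f : X ⧸ Cfsg.pCore 2 X →* ↥(alternatingGroup (Fin 8)), Function.Injective f := by
  classical
  haveI : Fact (Nat.Prime 2) := ⟨Nat.prime_two⟩
  have hC := centralizer_le hc hO
  set P := Cfsg.pCore 2 X with hPdef
  have hP : IsPGroup 2 P := Cfsg.Lib.Core.pCore_isPGroup 2 X
  haveI : P.Normal := inferInstance
  have hel := Cfsg.Lib.PGroup.isElementaryAbelian_quotient_frattini hP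
  have hab : ∀ a c : ↥P ⧸ frattini ↥P, a * c = c * a := fun a c => by
    haveI := hel.1
    exact congrArg Subtype.val (mul_comm' (⟨a, mem_top a⟩ : (⊤ : Subgroup (↥P ⧸ frattini ↥P))) ⟨c, mem_top c⟩)
  have hcard : Nat.card (↥P ⧸ frattini ↥P) ≤ 2 ^ 4 := by
    haveI hn : ((frattini ↥P).subgroupOf ⊤).Normal := inferInstance
    have h := h4 ⊤ ((frattini ↥P).subgroupOf ⊤)
    let e : (↥(⊤ : Subgroup ↥P) ⧸ (frattini ↥P).subgroupOf ⊤) ≃* ↥P ⧸ frattini ↥P :=
      QuotientGroup.congr _ _ Subgroup.topEquiv (by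
        ext x; simp [Subgroup.mem_subgroupOf, Subgroup.mem_map])
    have hcomm : ∀ a c : ↥(⊤ : Subgroup ↥P) ⧸ (frattini ↥P).subgroupOf ⊤, a * c = c * a :=
      fun a c => e.injective (by rw [map_mul, map_mul, hab])
    have := h ⊤ ⟨⟨fun a c => Subtype.ext (hcomm _ _)⟩⟩ (fun a _ => e.injective (by
      rw [map_pow, map_one]; exact hel.2 _ (mem_top _)))
    rwa [Subgroup.card_top, Nat.card_congr e.toEquiv] at this
  obtain ⟨g, hg⟩ := exists_hom hab (fun a => hel.2 a (mem_top a)) hcard
  let ψ : MulAut ↥P →* MulAut (↥P ⧸ frattini ↥P) :=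
    { toFun := fun a => QuotientGroup.congr _ _ a (by
        have hch : (frattini ↥P).Characteristic := inferInstance
        exact (Subgroup.characteristic_iff_map_eq.1 hch) a)
      map_one' := MulEquiv.ext fun x => by
        obtain ⟨x, rfl⟩ := QuotientGroup.mk_surjective x; rfl
      map_mul' := fun a c => MulEquiv.ext fun x => by
        obtain ⟨x, rfl⟩ := QuotientGroup.mk_surjective x; rfl }
  let φ : X →* MulAut ↥P := MulAut.conjNormal
  let ρ : X →* ↥(alternatingGroup (Fin 8)) := g.comp (ψ.comp φ)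
  have hker : ρ.ker = P := by
    apply le_antisymm
    · refine hPdef ▸ le_sSup ⟨MonoidHom.normal_ker ρ, fun x => ?_⟩
      have hx1 : ψ (φ x.1) = 1 := hg (by rw [map_one]; exact x.2)
      have hstab : φ x.1 ∈ Cfsg.Lib.PGroup.frattiniStab ↥P := fun y => by
        have := congrArg (fun a : MulAut (↥P ⧸ frattini ↥P) => a (y : ↥P ⧸ frattini ↥P)) hx1
        exact QuotientGroup.eq.1 this.symm
      obtain ⟨k, hk⟩ := Cfsg.Lib.PGroup.isPGroup_frattiniStab hP ⟨φ x.1, hstab⟩
      have hk' : x.1 ^ 2 ^ k ∈ centralizer (P : Set X) := by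
        refine mem_centralizer_iff.2 fun y hy => ?_
        have := congrArg (fun a : Cfsg.Lib.PGroup.frattiniStab ↥P => ((a.1 ⟨y, hy⟩ : ↥P) : X)) hk
        simp only [SubmonoidClass.coe_pow, ← map_pow, OneMemClass.coe_one, MulAut.one_apply, φ,
          MulAut.conjNormal_apply] at this
        exact (mul_inv_eq_iff_eq_mul.1 this).symm
      obtain ⟨j, hj⟩ := hP ⟨_, hC hk'⟩
      exact ⟨k + j, Subtype.ext (by
        have := congrArg Subtype.val hj
        simpa [pow_add, pow_mul] using this)⟩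
    · intro x hx
      suffices ψ (φ x) = 1 by
        show g (ψ (φ x)) = 1
        rw [this, map_one]
      refine MulEquiv.ext fun y => ?_
      obtain ⟨y, rfl⟩ := QuotientGroup.mk_surjective y
      show ((MulAut.conjNormal x y : ↥P) : ↥P ⧸ frattini ↥P) = (y : ↥P ⧸ frattini ↥P)
      have e : (MulAut.conjNormal x y : ↥P) = (⟨x, hx⟩ : ↥P) * y * (⟨x, hx⟩ : ↥P)⁻¹ :=
        Subtype.ext (by simp [MulAut.conjNormal_apply])
      rw [e, QuotientGroup.mk_mul, QuotientGroup.mk_mul, hab ((⟨x, hx⟩ : ↥P) : ↥P ⧸ frattini ↥P),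
        mul_assoc, QuotientGroup.mk_inv, mul_inv_cancel, mul_one]
  exact ⟨(QuotientGroup.kerLift ρ).comp (QuotientGroup.quotientMulEquivOfEq hker.symm).toMonoidHom,
    (QuotientGroup.kerLift_injective ρ).comp (MulEquiv.injective _)⟩

end Cfsg.Agent.S3103
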