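import Cfsg.Statements.S0997
import Cfsg.Agent.Lib.Small.BrauerTuan
import Cfsg.Agent.Lib.Small.PSLTwoRecog
import Cfsg.Agent.S4705
-- import your own Cfsg.Agent.* helpers here

set_option autoImplicit false
open Cfsg

namespace Cfsg.Agent.S0997

open Cfsg.Lib.Small.BrauerTuan in
theorem main {G : Type*} [Group G] [Fintype G] [IsSimpleGroup G] (hG : ¬ IsCyclic G) (p q B d : ℕ)
    [Fact p.Prime] (hq : q.Prime) (hpq : p ≠ q) (hcard : Nat.card G = p * d * q ^ B) (hqd : ¬ q ∣ d)
    (hdp : d < p - 1) :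
    (∃ (m : ℕ) (F : Type) (_ : Field F) (_ : Fintype F), Fintype.card F = p ∧
        (p = 2 ^ m + 1 ∨ p = 2 ^ m - 1) ∧
        Nonempty (G ≃* Matrix.ProjectiveSpecialLinearGroup (Fin 2) F)) ∨
      (∃ (m : ℕ) (F : Type) (_ : Field F) (_ : Fintype F), Fintype.card F = 2 ^ m ∧ p = 2 ^ m + 1 ∧
        3 < p ∧ Nonempty (G ≃* Matrix.ProjectiveSpecialLinearGroup (Fin 2) F)) := by
  classical
  obtain ⟨c⟩ := exists_config hq hpq hG hcard hqd hdp
  have hp5 := c.five_le
  have hps : ∀ (_ : Odd d) (m : ℕ), q = 2 → Special p d m → ∃ (m : ℕ) (F : Type) (_ : Field F)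
      (_ : Fintype F), Fintype.card F = p ∧ (p = 2 ^ m + 1 ∨ p = 2 ^ m - 1) ∧
        Nonempty (G ≃* Matrix.ProjectiveSpecialLinearGroup (Fin 2) F) := by
    intro hodd m hq2 hm
    subst hq2
    obtain ⟨h1, h2⟩ := finish c hodd hm
    refine ⟨m, ZMod p, inferInstance, inferInstance, ZMod.card p, ?_,
      Cfsg.Lib.Small.PSLTwoRecog.iso_psl hp5 h1 h2 (ZMod.card p)⟩
    rcases hm.2.2 with ⟨h3, -⟩ | ⟨h3, -⟩
    · exact Or.inr (by omega)
    · exact Or.inl h3
  rcases c.alt with ⟨hs, he, hpd, hqd1⟩ | ⟨hs, hde, hqd1⟩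
  · obtain ⟨hq2, hodd, m, hm⟩ := minus_case c hs he hpd hqd1
    exact Or.inl (hps hodd m hq2 hm)
  · obtain ⟨hq2, hodd, ⟨he2, hp6⟩ | ⟨m, hm⟩⟩ := plus_case c hs hde hqd1
    swap
    · exact Or.inl (hps hodd m hq2 hm)
    right
    have hnn : ¬ (c.P : Subgroup G).Normal := by
      intro hN
      rcases hN.eq_bot_or_eq_top with h | h
      · exact (Fact.out : p.Prime).ne_one (by rw [← c.S.card_P, h, Subgroup.card_bot])
      · exact hG (isCyclic_of_prime_card (p := p) (by rw [← c.S.card_P, h, Subgroup.card_top]))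
    obtain ⟨a, F, hF, hFf, hpa, hFcard, ⟨e⟩⟩ := Cfsg.Agent.S4705.result p hp6 c.P c.S.card_P hnn
      (c.S.θ : G → ℂ) c.S.θ.2 (fun g => Cfsg.Lib.Small.eq_one_of_apply_eq c.theta_ne)
      (by rw [c.hθ]; omega)
    have hZ : Subgroup.center G = ⊥ :=
      (inferInstance : (Subgroup.center G).Normal).eq_bot_or_eq_top.resolve_right fun h => hG (by
        let _ : CommGroup G := { (inferInstance : Group G) with
          mul_comm := fun a b => (Subgroup.mem_center_iff.mp (h ▸ Subgroup.mem_top b) a) }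
        exact IsSimpleGroup.isCyclic)
    haveI : Unique (Subgroup.center G) := by
      rw [hZ]
      infer_instance
    let e1 : G ≃* Matrix.SpecialLinearGroup (Fin 2) F := e.trans MulEquiv.prodUnique
    have hZ' : Subgroup.center (Matrix.SpecialLinearGroup (Fin 2) F) = ⊥ := by
      rw [eq_bot_iff]
      intro x hx
      have h1 : e1.symm x ∈ Subgroup.center G := by
        rw [Subgroup.mem_center_iff]
        intro g
        apply e1.injective
        rw [map_mul, map_mul, e1.apply_symm_apply]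
        exact Subgroup.mem_center_iff.1 hx (e1 g)
      rw [hZ, Subgroup.mem_bot] at h1
      rw [Subgroup.mem_bot, ← e1.apply_symm_apply x, h1, map_one]
    exact ⟨a, F, hF, hFf, hFcard, hpa, by omega,
      ⟨e1.trans ((QuotientGroup.quotientBot).symm.trans
        (QuotientGroup.quotientMulEquivOfEq hZ'.symm))⟩⟩

/-- Let G be a non-cyclic finite simple group of order p * q^b * g₀, where p and q are distinct primes and g₀ < p - 1. Then either p has the form 2^m + 1 or 2^m - 1 and G is isomorphic to the projective special linear group of dimension 2 over the field with p elements, or p = 2^m + 1 > 3 and G is isomorphic to that group over the field with 2^m elements. -/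
theorem result {G : Type*} [Group G] [Finite G] [IsSimpleGroup G] (hG : ¬ IsCyclic G) (p q b g₀ : ℕ) (hp : p.Prime) (hq : q.Prime) (hpq : p ≠ q) (hG' : Nat.card G = p * q ^ b * g₀) (hg : g₀ < p - 1) : (∃ (m : ℕ) (F : Type) (_ : Field F) (_ : Fintype F), Fintype.card F = p ∧ (p = 2 ^ m + 1 ∨ p = 2 ^ m - 1) ∧ Nonempty (G ≃* Matrix.ProjectiveSpecialLinearGroup (Fin 2) F)) ∨ (∃ (m : ℕ) (F : Type) (_ : Field F) (_ : Fintype F), Fintype.card F = 2 ^ m ∧ p = 2 ^ m + 1 ∧ 3 < p ∧ Nonempty (G ≃* Matrix.ProjectiveSpecialLinearGroup (Fin 2) F)) := by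
  haveI := Fintype.ofFinite G
  haveI := Fact.mk hp
  have hg0 : g₀ ≠ 0 := by
    intro h
    rw [h, mul_zero] at hG'
    exact Nat.card_pos.ne' hG'
  obtain ⟨i, d, hqd, hgd⟩ := Nat.exists_eq_pow_mul_and_not_dvd hg0 q hq.ne_one
  refine main hG p q (b + i) d hq hpq (by rw [hG', hgd, pow_add]; ring) hqd (lt_of_le_of_lt ?_ hg)
  rw [hgd]
  exact Nat.le_mul_of_pos_left d (pow_pos hq.pos i)

end Cfsg.Agent.S0997
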