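import Cfsg.Statements.S0998
import Cfsg.Agent.Lib.Small.ThreePrime
import Cfsg.Agent.S0495
import Cfsg.Agent.S0494
import Cfsg.Agent.Lib.Dickson.Maximal.Subfield
-- import your own Cfsg.Agent.* helpers here

set_option autoImplicit false
open Cfsg

namespace Cfsg.Agent.S0998

/-- A non-cyclic finite simple group whose order has the form p * r * q^b for distinct primes p, q, r is isomorphic to the projective special linear group of dimension 2 over the field with 5 or with 7 elements. -/
theorem result {G : Type*} [Group G] [Finite G] [IsSimpleGroup G] (hG : ¬ IsCyclic G) (p q r b : ℕ) (hp : p.Prime) (hq : q.Prime) (hr : r.Prime) (hpq : p ≠ q) (hpr : p ≠ r) (hqr : q ≠ r) (hG' : Nat.card G = p * r * q ^ b) : (∃ (F : Type) (_ : Field F) (_ : Fintype F), Fintype.card F = 5 ∧ Nonempty (G ≃* Matrix.ProjectiveSpecialLinearGroup (Fin 2) F)) ∨ (∃ (F : Type) (_ : Field F) (_ : Fintype F), Fintype.card F = 7 ∧ Nonempty (G ≃* Matrix.ProjectiveSpecialLinearGroup (Fin 2) F)) := by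
  classical
  haveI := Fintype.ofFinite G
  have hcases : Nat.card G = 60 ∨ Nat.card G = 168 := by
    rcases lt_or_gt_of_ne hpr with h | h
    · exact Cfsg.Lib.Small.ThreePrime.card_cases hG hp hq hr hpq h hqr hG'
    · exact Cfsg.Lib.Small.ThreePrime.card_cases (b := b) hG hr hq hp hqr.symm h hpq.symm
        (by rw [hG']; ring)
  rcases hcases with h | h
  · left
    haveI : Fact (Nat.Prime 5) := ⟨by norm_num⟩
    refine ⟨ZMod 5, inferInstance, inferInstance, ZMod.card 5, ?_⟩
    haveI := Cfsg.Lib.Dickson.isSimpleGroup_psl_two (F := ZMod 5) (by rw [ZMod.card]; norm_num)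
    have hcard : Nat.card (Matrix.ProjectiveSpecialLinearGroup (Fin 2) (ZMod 5)) = 60 := by
      have h5 := Cfsg.Lib.Linear.Two.card_PSL_two (F := ZMod 5)
      rw [show Fintype.card (ZMod 5) = 5 from ZMod.card 5] at h5
      rw [show Nat.gcd 2 (5 - 1) = 2 by norm_num, show 5 * (5 ^ 2 - 1) = 2 * 60 by norm_num] at h5
      exact Nat.eq_of_mul_eq_mul_left two_pos h5
    obtain ⟨e⟩ := Cfsg.Agent.S0494.result h
    obtain ⟨e'⟩ := Cfsg.Agent.S0494.result hcard
    exact ⟨e.trans e'.symm⟩
  · right
    haveI : Fact (Nat.Prime 7) := ⟨by norm_num⟩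
    exact ⟨ZMod 7, inferInstance, inferInstance, ZMod.card 7,
      Cfsg.Agent.S0495.result h (ZMod.card 7)⟩

end Cfsg.Agent.S0998
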