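import Cfsg.Statements.S0132
import Cfsg.Agent.Lib.Fusion.Alperin
import Cfsg.Agent.Lib.Fusion.Parts
import Cfsg.Agent.Lib.PGroup.Elements
import Mathlib.GroupTheory.Nilpotent
import Mathlib.GroupTheory.NoncommCoprod

set_option autoImplicit false
set_option linter.style.haveILetI false
open Cfsg

namespace Cfsg.Agent.S0132

open Subgroup Cfsg.Lib.Fusion in
theorem shape {G : Type*} [Group G] [Finite G] {p : ℕ} [hp : Fact p.Prime]
    (h1 : ¬ Cfsg.HasNormalPComplement p G)
    (h2 : ∀ H : Subgroup G, H ≠ ⊤ → Cfsg.HasNormalPComplement p H) :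
    ∃ (Q : Subgroup G) (g : G), Q.Normal ∧ IsPGroup p Q ∧ (orderOf g).Coprime p ∧
      Q ⊔ zpowers g = ⊤ ∧ g ∉ centralizer (Q : Set G) := by
  classical
  let P : Sylow p G := Classical.arbitrary _
  have hf := mt (frobenius P).mpr h1
  push Not at hf
  obtain ⟨Q, hQP, g, hg, hco, hnc⟩ := hf
  have hQp : IsPGroup p Q := isPGroup_le_sylow hQP
  set H := Q ⊔ zpowers g with hH
  have hHN : H ≤ normalizer (Q : Set G) := sup_le le_normalizer (zpowers_le.mpr hg)
  have htop : H = ⊤ := by
    by_contra hne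
    apply hnc
    have hgH : g ∈ H := mem_sup_right (mem_zpowers g)
    have := mem_centralizer_of_hasNormalPComplement (h2 H hne)
      (hQp.of_equiv (subgroupOfEquivOfLe (le_sup_left : Q ≤ H)).symm) (g := ⟨g, hgH⟩)
      (le_normalizer_of_conj_mem fun y hy => mem_subgroupOf.mpr
        ((mem_normalizer_iff.mp hg y).mp (mem_subgroupOf.mp hy))) (by rwa [Subgroup.orderOf_mk])
    intro y hy
    exact congrArg Subtype.val (this ⟨y, le_sup_left (b := zpowers g) hy⟩ (mem_subgroupOf.mpr hy))
  exact ⟨Q, g, normalizer_eq_top_iff.mp (top_le_iff.mp (htop ▸ hHN)), hQp, hco, htop, hnc⟩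

/-- A minimal non-p-nilpotent finite group is a minimal non-nilpotent group with a normal Sylow p-subgroup. -/
theorem result {G : Type*} [Group G] [Finite G] {p : ℕ} [Fact p.Prime] (h1 : ¬ Cfsg.HasNormalPComplement p G) (h2 : ∀ H : Subgroup G, H ≠ ⊤ → Cfsg.HasNormalPComplement p H) : (∀ H : Subgroup G, H ≠ ⊤ → Group.IsNilpotent H) ∧ ¬ Group.IsNilpotent G ∧ ∀ P : Sylow p G, (P : Subgroup G).Normal := by
  obtain ⟨Q, g, hQn, hQp, hco, htop, hnc⟩ := shape h1 h2
  -- a prime power part of `g` still does not centralize `Q`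
  obtain ⟨z, q, k, hq, hzo, hzg, hznc⟩ : ∃ (z : G) (q k : ℕ), q.Prime ∧ orderOf z = q ^ k ∧
      z ∈ Subgroup.zpowers g ∧ z ∉ Subgroup.centralizer (Q : Set G) := by
    by_contra hcon
    push Not at hcon
    exact hnc (Cfsg.Lib.Fusion.induction_parts g (Q := fun y => y ∈ Subgroup.centralizer (Q : Set G))
      (fun y hy r k hr hk => hcon y r k hr hk hy) (fun a _ b _ ha hb => mul_mem ha hb))
  have hzco : (orderOf z).Coprime p := by
    obtain ⟨i, rfl⟩ := Subgroup.mem_zpowers_iff.mp hzg
    exact hco.coprime_dvd_left (orderOf_dvd_of_mem_zpowers ⟨i, rfl⟩)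
  -- so `G = Q ⟨z⟩`
  have htop' : Q ⊔ Subgroup.zpowers z = ⊤ := by
    by_contra hne
    apply hznc
    have hzH : z ∈ Q ⊔ Subgroup.zpowers z := Subgroup.mem_sup_right (Subgroup.mem_zpowers z)
    have := Cfsg.Lib.Fusion.mem_centralizer_of_hasNormalPComplement (h2 _ hne)
      (hQp.of_equiv (Subgroup.subgroupOfEquivOfLe (le_sup_left : Q ≤ Q ⊔ Subgroup.zpowers z)).symm)
      (g := ⟨z, hzH⟩)
      (Cfsg.Lib.Fusion.le_normalizer_of_conj_mem fun y hy => Subgroup.mem_subgroupOf.mpr
        (hQn.conj_mem _ (Subgroup.mem_subgroupOf.mp hy) z)) (by rwa [Subgroup.orderOf_mk])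
    intro y hy
    exact congrArg Subtype.val (this ⟨y, le_sup_left (b := Subgroup.zpowers z) hy⟩
      (Subgroup.mem_subgroupOf.mpr hy))
  haveI := hQn
  have hidx : Q.index ∣ orderOf z := by
    rw [← Subgroup.relIndex_top_right, ← htop', sup_comm, Subgroup.relIndex_sup_right,
      ← Nat.card_zpowers]
    exact Subgroup.relIndex_dvd_card Q (Subgroup.zpowers z)
  obtain ⟨a, ha⟩ := IsPGroup.iff_card.mp hQp
  have hQc : Nat.card Q = p ^ (Nat.card G).factorization p := by
    rw [ha]; congr 1
    have hnd : ¬ p ∣ Q.index := fun hd =>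
      (Fact.out : p.Prime).not_dvd_one (hzco ▸ Nat.dvd_gcd (hd.trans hidx) (dvd_refl p))
    rw [← Q.card_mul_index, ha, Nat.factorization_mul (pow_ne_zero _ (Fact.out : p.Prime).ne_zero)
      Q.index_ne_zero_of_finite, (Fact.out : p.Prime).factorization_pow, Finsupp.add_apply,
      Finsupp.single_eq_same, Nat.factorization_eq_zero_of_not_dvd hnd, add_zero]
  let S : Sylow p G := Sylow.ofCard Q hQc
  haveI := Sylow.unique_of_normal S hQn
  refine ⟨fun H hH => ?_, fun hnil => ?_, fun P => ?_⟩
  · -- proper subgroups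
    set QH := Q.subgroupOf H with hQH
    set K := Cfsg.pResidual p H with hK
    have hKc := Cfsg.Lib.Fusion.hasNormalPComplement_iff_coprime.mp (h2 H hH)
    have hdis : Disjoint QH K := by
      apply Subgroup.disjoint_of_coprime_natCard
      obtain ⟨b, hb⟩ := IsPGroup.iff_card.mp ((hQp.comap_subtype : IsPGroup p QH))
      show (Nat.card (Q.subgroupOf H)).Coprime _
      rw [show Nat.card (Q.subgroupOf H) = p ^ b from hb]
      exact (hKc.pow_right b).symm
    have hKcomm : ∀ a b : K, a * b = b * a := by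
      have hinj : Function.Injective (((QuotientGroup.mk' Q).comp H.subtype).comp K.subtype) := by
        rw [injective_iff_map_eq_one]
        intro y hy
        have h3 : (y : H) ∈ QH ⊓ K := ⟨Subgroup.mem_subgroupOf.mpr ((QuotientGroup.eq_one_iff _).mp hy), y.2⟩
        rw [disjoint_iff.mp hdis, Subgroup.mem_bot] at h3
        exact Subtype.ext h3
      have hcyc : ∀ a b : G ⧸ Q, a * b = b * a := by
        have hall : ∀ a : G ⧸ Q, a ∈ Subgroup.zpowers (z : G ⧸ Q) := by
          intro a
          obtain ⟨a, rfl⟩ := QuotientGroup.mk_surjective a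
          have : a ∈ (Subgroup.zpowers (z : G ⧸ Q)).comap (QuotientGroup.mk' Q) := by
            refine (htop'.symm.le.trans (sup_le ?_ ?_)) (Subgroup.mem_top a)
            · intro y hy
              rw [Subgroup.mem_comap]
              show (QuotientGroup.mk y : G ⧸ Q) ∈ _
              rw [(QuotientGroup.eq_one_iff y).mpr hy]; exact one_mem _
            · exact Subgroup.zpowers_le.mpr (Subgroup.mem_zpowers (z : G ⧸ Q))
          exact this
        intro a b
        obtain ⟨i, rfl⟩ := hall a
        obtain ⟨j, rfl⟩ := hall b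
        exact ((Commute.refl _).zpow_zpow i j).eq
      intro a b
      apply hinj
      rw [map_mul, map_mul, hcyc]
    let P₁ : Sylow p H := Classical.arbitrary _
    have hP₁ : (P₁ : Subgroup H) ≤ QH := fun y hy => by
      have hmap : IsPGroup p ((P₁ : Subgroup H).map H.subtype) := P₁.2.map _
      obtain ⟨S', hS'⟩ := hmap.exists_le_sylow
      rw [Subsingleton.elim S' S] at hS'
      exact Subgroup.mem_subgroupOf.mpr (hS' ⟨y, hy, rfl⟩)
    have hQHn : Group.IsNilpotent QH := (hQp.comap_subtype : IsPGroup p QH).isNilpotent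
    haveI := hQHn
    haveI : Group.IsNilpotent K := by
      letI : CommGroup K := { (inferInstance : Group K) with mul_comm := hKcomm }
      infer_instance
    have hcomm : ∀ (a : QH) (b : K), Commute (a : H) b := fun a b =>
      Subgroup.commute_of_normal_of_disjoint QH K inferInstance inferInstance hdis _ _ a.2 b.2
    let f : QH × K →* H := MonoidHom.noncommCoprod QH.subtype K.subtype (fun a b => hcomm a b)
    have hsurj : Function.Surjective f := by
      intro y
      obtain ⟨t, ht, m, hm, he⟩ := Cfsg.Lib.Fusion.exists_mul_of_sylow P₁ y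
      exact ⟨(⟨t, hP₁ ht⟩, ⟨m, hm⟩), he.symm⟩
    exact Group.nilpotent_of_surjective f hsurj
  · haveI := hnil
    apply hznc
    intro y hy
    obtain ⟨j, hj⟩ := IsPGroup.iff_orderOf.mp hQp ⟨y, hy⟩
    rw [Subgroup.orderOf_mk] at hj
    exact (Cfsg.Lib.PGroup.commute_of_coprime_orderOf y z (hj ▸ (hzco.pow_right j).symm)).eq
  · rw [Subsingleton.elim P S]
    exact hQn

end Cfsg.Agent.S0132
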