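import Cfsg.Statements.S0007
-- import your own Cfsg.Agent.* helpers here

set_option autoImplicit false
open Cfsg

namespace Cfsg.Agent.S0007

/-- Subgroups of coprime index: the intersection has index equal to the product of the indices, and every element is a product of an element of the first subgroup and an element of the second. -/
theorem result {G : Type*} [Group G] [Finite G] (H K : Subgroup G)
    (h : H.index.Coprime K.index) :
    (H ⊓ K).index = H.index * K.index ∧ ∀ g : G, ∃ x ∈ H, ∃ y ∈ K, g = x * y := by
  have hd : H.index * K.index ∣ (H ⊓ K).index :=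
    h.mul_dvd_of_dvd_of_dvd (Subgroup.index_dvd_of_le inf_le_left) (Subgroup.index_dvd_of_le inf_le_right)
  have h1 : (H ⊓ K).index = H.index * K.index :=
    le_antisymm Subgroup.index_inf_le (Nat.le_of_dvd (Nat.pos_of_ne_zero Subgroup.index_ne_zero_of_finite) hd)
  refine ⟨h1, fun g => ?_⟩
  -- orbit of the coset `K` under `H` is everything
  have hr : H.index * (H ⊓ K).relIndex H = H.index * K.index := by
    rw [← h1, mul_comm]; exact Subgroup.relIndex_mul_index inf_le_left
  rw [Subgroup.inf_relIndex_left] at hr
  have hrel : K.relIndex H = K.index :=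
    Nat.eq_of_mul_eq_mul_left (Nat.pos_of_ne_zero Subgroup.index_ne_zero_of_finite) hr
  let f : H ⧸ K.subgroupOf H → G ⧸ K := fun q => Quotient.liftOn' q (fun x => ((x : G) : G ⧸ K))
    (fun a b hab => by
      rw [QuotientGroup.leftRel_apply] at hab
      exact QuotientGroup.eq.2 (by simpa [Subgroup.mem_subgroupOf] using hab))
  have finj : Function.Injective f := by
    intro a b
    induction a using Quotient.inductionOn'
    induction b using Quotient.inductionOn'
    intro hab
    exact QuotientGroup.eq.2 (by simpa [Subgroup.mem_subgroupOf] using QuotientGroup.eq.1 hab)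
  have fbij : Function.Bijective f :=
    (Nat.bijective_iff_injective_and_card f).2 ⟨finj, hrel⟩
  obtain ⟨q, hq⟩ := fbij.2 (g : G ⧸ K)
  induction q using Quotient.inductionOn' with
  | h x => exact ⟨x, x.2, _, QuotientGroup.eq.1 hq, by simp⟩

end Cfsg.Agent.S0007
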