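import Cfsg.Statements.S3901
import Cfsg.Agent.S3903
import Cfsg.Agent.S0144
import Cfsg.Agent.Lib.Fusion.Alperin
-- import your own Cfsg.Agent.* helpers here

set_option autoImplicit false
open Cfsg

namespace Cfsg.Agent.S3901

theorem eq_one_of_commute {G : Type*} [Group G] [Finite G] (N : Subgroup G)
    (h : ∀ x : G, x ∉ N → IsPrimePow (orderOf x)) {p k : ℕ} (hp : p.Prime) {x z : G} (hx : x ∉ N)
    (hxo : orderOf x = p ^ k) (hc : Commute x z) (hz : (orderOf z).Coprime p) : z = 1 := by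
  obtain ⟨r, hr, hC⟩ := Cfsg.Agent.S3903.isPGroup_centralizer N h x hx
  have := Fact.mk hr
  have mem : ∀ w : G, Commute x w → ∃ j, orderOf w = r ^ j := fun w hw => by
    obtain ⟨j, hj⟩ := IsPGroup.iff_orderOf.1 hC ⟨w, Subgroup.mem_centralizer_iff.2 (by simpa using hw.eq)⟩
    exact ⟨j, by rw [← hj, Subgroup.orderOf_mk]⟩
  obtain ⟨i, hi⟩ := mem x (Commute.refl x)
  obtain ⟨j, hj⟩ := mem z hc
  have hk : k ≠ 0 := by
    rintro rfl
    rw [pow_zero, orderOf_eq_one_iff] at hxo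
    exact hx (hxo ▸ N.one_mem)
  have hpr : p = r :=
    (Nat.prime_dvd_prime_iff_eq hp hr).1 (hp.dvd_of_dvd_pow (hi ▸ hxo ▸ dvd_pow_self p hk : p ∣ r ^ i))
  subst hpr
  rw [hj] at hz
  rcases j with _ | j
  · exact orderOf_eq_one_iff.1 (by rw [hj, pow_zero])
  · exact absurd ((Nat.coprime_pow_left_iff (by omega) p p).1 hz) (fun h' => hp.one_lt.ne' ((Nat.coprime_self p).1 h'))

theorem eq_one_of_frobenius {V K : Type*} [CommGroup V] [Finite V] [Group K] [Finite K]
    (φ : K →* MulAut V) {p : ℕ} [Fact p.Prime] (S : Subgroup K) (y : K) (hy : orderOf y = p)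
    (hnorm : ∀ s ∈ S, y * s * y⁻¹ ∈ S) (hfix : ∀ s ∈ S, Commute s y → s = 1)
    (hS : ∃ s ∈ S, ∀ v, φ s v = v → v = 1) (hyV : ∀ v, φ y v = v → v = 1)
    (hcop : (Nat.card V).Coprime (Nat.card ↥S)) (v : V) : v = 1 := by
  classical
  have _ := Fintype.ofFinite ↥S
  have hp : p.Prime := Fact.out
  have hw : ∀ s : ↥S, ∏ i ∈ Finset.range p, φ ((s : K) * y ^ i * (s : K)⁻¹) v = 1 := by
    intro s
    set w := ∏ i ∈ Finset.range p, φ ((s : K) * y ^ i * (s : K)⁻¹) v with hwd
    have hstep : φ ((s : K) * y * (s : K)⁻¹) w = w := by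
      have e : ∀ i : ℕ, φ ((s : K) * y * (s : K)⁻¹) (φ ((s : K) * y ^ i * (s : K)⁻¹) v) =
          φ ((s : K) * y ^ (i + 1) * (s : K)⁻¹) v := fun i => by
        rw [← MulAut.mul_apply, ← map_mul]
        congr 2
        rw [pow_succ']; group
      have h2 := (Finset.prod_range_succ' (fun i => φ ((s : K) * y ^ i * (s : K)⁻¹) v) p).symm.trans
        (Finset.prod_range_succ (fun i => φ ((s : K) * y ^ i * (s : K)⁻¹) v) p)
      have hyp : y ^ p = 1 := hy ▸ pow_orderOf_eq_one y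
      simp only [hyp, pow_zero] at h2
      rw [hwd, map_prod]
      simp only [e]
      exact mul_right_cancel h2
    have h2 := hyV (φ (s : K)⁻¹ w) (by
      have h3 := congrArg (φ (s : K)⁻¹) hstep
      rw [← MulAut.mul_apply, ← map_mul] at h3
      rw [← MulAut.mul_apply, ← map_mul]
      simpa [mul_assoc] using h3)
    exact (MulEquiv.map_eq_one_iff _).1 h2
  have hi : ∀ i ∈ Finset.range p, i ≠ 0 → ∏ s : ↥S, φ ((s : K) * y ^ i * (s : K)⁻¹) v = 1 := by
    intro i hip hi0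
    have hpow : ∀ n : ℕ, ∀ s ∈ S, y ^ n * s * (y ^ n)⁻¹ ∈ S := by
      intro n
      induction n with
      | zero => intro s hs; simpa using hs
      | succ n ih => intro s hs; simpa [pow_succ', mul_assoc, mul_inv_rev] using hnorm _ (ih s hs)
    let e : ↥S → ↥S := fun s => ⟨(s : K) * (y ^ i * (s : K)⁻¹ * (y ^ i)⁻¹), S.mul_mem s.2 (hpow i _ (S.inv_mem s.2))⟩
    have hinj : Function.Injective e := by
      intro s t hst
      have h1 : (s : K) * (y ^ i * (s : K)⁻¹ * (y ^ i)⁻¹) = (t : K) * (y ^ i * (t : K)⁻¹ * (y ^ i)⁻¹) :=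
        congrArg Subtype.val hst
      have h2 : Commute ((t : K)⁻¹ * (s : K)) (y ^ i) := by
        show _ * _ = _ * _
        have h3 := congrArg (fun a => (t : K)⁻¹ * a * (y ^ i) * (s : K)) h1
        simpa [mul_assoc] using h3
      have hco : i.Coprime (orderOf y) := by
        rw [hy]
        exact ((hp.coprime_iff_not_dvd).2 fun hd =>
          absurd (Nat.le_of_dvd (Nat.pos_of_ne_zero hi0) hd) (not_le.2 (Finset.mem_range.1 hip))).symm
      obtain ⟨m, hm⟩ := exists_pow_eq_self_of_coprime hco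
      have h4 := hfix _ (S.mul_mem (S.inv_mem t.2) s.2) (hm ▸ h2.pow_right m)
      exact Subtype.ext (inv_mul_eq_one.1 h4).symm
    have hb : Function.Bijective e := Finite.injective_iff_bijective.1 hinj
    have key : ∏ s : ↥S, φ ((s : K) * y ^ i * (s : K)⁻¹) v = ∏ t : ↥S, φ (t : K) (φ (y ^ i) v) := by
      refine Fintype.prod_bijective e hb _ _ fun s => ?_
      rw [← MulAut.mul_apply, ← map_mul]
      congr 2
      show _ = (s : K) * (y ^ i * (s : K)⁻¹ * (y ^ i)⁻¹) * y ^ i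
      group
    rw [key]
    obtain ⟨s₀, hs₀, hs₀V⟩ := hS
    refine hs₀V _ ?_
    rw [map_prod]
    refine Fintype.prod_bijective (fun t => (⟨s₀, hs₀⟩ : ↥S) * t) (Group.mulLeft_bijective _) _ _ fun t => ?_
    rw [← MulAut.mul_apply, ← map_mul]
    rfl
  have h1 : ∏ i ∈ Finset.range p, ∏ s : ↥S, φ ((s : K) * y ^ i * (s : K)⁻¹) v = 1 := by
    rw [Finset.prod_comm]; exact Finset.prod_eq_one fun s _ => hw s
  rw [Finset.prod_eq_single 0 hi (fun h0 => absurd (Finset.mem_range.2 hp.pos) h0)] at h1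
  simp only [pow_zero, mul_one, mul_inv_cancel, map_one, MulAut.one_apply, Finset.prod_const,
    Finset.card_univ, ← Nat.card_eq_fintype_card] at h1
  exact orderOf_eq_one_iff.1 (Nat.eq_one_of_dvd_coprimes hcop (orderOf_dvd_natCard v) (orderOf_dvd_of_pow_eq_one h1))

theorem only_two_primes {G : Type*} [Group G] [Finite G] (N : Subgroup G) [N.Normal]
    (h : ∀ x : G, x ∉ N → IsPrimePow (orderOf x)) {p q r : ℕ} [Fact p.Prime] [Fact q.Prime] [Fact r.Prime]
    (hpq : p ≠ q) (hrp : r ≠ p) (hrq : r ≠ q) (hr : r ∣ Nat.card ↥N)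
    (A : Subgroup (G ⧸ N)) (hA : IsPGroup q ↥A) (hA1 : A ≠ ⊥)
    (b : G ⧸ N) (k : ℕ) (hbo : orderOf b = p ^ k) (hb1 : b ≠ 1)
    (hbA : b ∈ Subgroup.normalizer (A : Set (G ⧸ N))) : False := by
  classical
  have hp : p.Prime := Fact.out
  have hq : q.Prime := Fact.out
  have hr' : r.Prime := Fact.out
  let R₀ : Sylow r ↥N := default
  set R := (R₀ : Subgroup ↥N).map N.subtype with hRdef
  have hRr : IsPGroup r ↥R := R₀.isPGroup'.map _
  have hR1 : 1 < Nat.card ↥R := by
    rw [hRdef, Subgroup.card_subtype, R₀.card_eq_multiplicity]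
    exact Nat.one_lt_pow (hr'.factorization_pos_of_dvd Nat.card_pos.ne' hr).ne' hr'.one_lt
  set H := Subgroup.normalizer (R : Set G) with hH
  have hsup : H ⊔ N = ⊤ := Sylow.normalizer_sup_eq_top R₀
  have hlift : ∀ c : G ⧸ N, ∃ a ∈ H, (QuotientGroup.mk' N) a = c := by
    intro c
    obtain ⟨g, rfl⟩ := QuotientGroup.mk'_surjective N c
    have hg : g ∈ ((H ⊔ N : Subgroup G) : Set G) := by rw [hsup]; trivial
    rw [Subgroup.mul_normal H N, Set.mem_mul] at hg
    obtain ⟨a, ha, n, hn, rfl⟩ := hg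
    refine ⟨a, ha, ?_⟩
    rw [map_mul, show (QuotientGroup.mk' N) n = 1 from (QuotientGroup.eq_one_iff n).2 hn, mul_one]
  let X := H ⊓ (Subgroup.normalizer (A : Set (G ⧸ N))).comap (QuotientGroup.mk' N)
  let f : ↥X →* G ⧸ N := (QuotientGroup.mk' N).comp X.subtype
  let MA : Subgroup ↥X := A.comap f
  have : MA.Normal := ⟨fun m hm x => by
    show f (x * m * x⁻¹) ∈ A
    rw [map_mul, map_mul, map_inv]
    exact (Subgroup.mem_normalizer_iff.1 x.2.2 (f m)).1 hm⟩
  let S₀ : Sylow q ↥MA := default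
  let g : ↥MA →* ↥A := (f.comp MA.subtype).codRestrict A fun m => m.2
  have hg : Function.Surjective g := by
    rintro ⟨c, hc⟩
    obtain ⟨a, ha, rfl⟩ := hlift c
    exact ⟨⟨⟨a, ha, Subgroup.le_normalizer hc⟩, hc⟩, rfl⟩
  have hST : ((S₀.mapSurjective hg : Sylow q ↥A) : Subgroup ↥A) = ⊤ := by
    refine Subgroup.eq_top_of_card_eq _ ?_
    obtain ⟨n, hn⟩ := IsPGroup.iff_card.1 hA
    rw [Sylow.card_eq_multiplicity, hn, hq.factorization_pow]
    simp
  obtain ⟨c, hc, hc1⟩ := Subgroup.ne_bot_iff_exists_ne_one.1 hA1 |>.elim fun c hc => (⟨c.1, c.2, fun e => hc (Subtype.ext e)⟩ : ∃ c, c ∈ A ∧ c ≠ 1)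
  let S : Subgroup G := ((S₀ : Subgroup ↥MA).map MA.subtype).map X.subtype
  have hSq : IsPGroup q ↥S := (S₀.isPGroup'.map _).map _
  have hsS : ∃ s ∈ S, s ∉ N := by
    have : (⟨c, hc⟩ : ↥A) ∈ ((S₀.mapSurjective hg : Sylow q ↥A) : Subgroup ↥A) := by rw [hST]; trivial
    rw [Sylow.coe_mapSurjective, Subgroup.mem_map] at this
    obtain ⟨m, hm, hmc⟩ := this
    refine ⟨((m : ↥X) : G), Subgroup.mem_map_of_mem _ (Subgroup.mem_map_of_mem _ hm), fun hN => hc1 ?_⟩
    have e : (QuotientGroup.mk' N) ((m : ↥X) : G) = c := congrArg Subtype.val hmc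
    rw [← e]; exact (QuotientGroup.eq_one_iff _).2 hN
  obtain ⟨y₀, hy₀H, hy₀S, hy₀⟩ : ∃ y₀ ∈ H, y₀ ∈ Subgroup.normalizer (S : Set G) ∧
      ∃ a ∈ A, (QuotientGroup.mk' N) y₀ = b * a := by
    obtain ⟨a, ha, hab⟩ := hlift b
    let ax : ↥X := ⟨a, ha, show (QuotientGroup.mk' N) a ∈ _ from hab ▸ hbA⟩
    have hax : ax ∈ ((Subgroup.normalizer (((S₀ : Subgroup ↥MA).map MA.subtype) : Set ↥X) ⊔ MA :
        Subgroup ↥X) : Set ↥X) := by
      rw [Sylow.normalizer_sup_eq_top S₀]; trivial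
    rw [Subgroup.mul_normal _ MA, Set.mem_mul] at hax
    obtain ⟨n, hn, m, hm, hnm⟩ := hax
    refine ⟨(n : G), n.2.1, ?_, (f m)⁻¹, A.inv_mem hm, ?_⟩
    · exact Subgroup.le_normalizer_map X.subtype (Subgroup.mem_map_of_mem _ hn)
    · have e : f n * f m = b := by rw [← map_mul, hnm]; exact hab
      show f n = b * (f m)⁻¹
      rw [← e, mul_inv_cancel_right]
  obtain ⟨a, haA, hy₀a⟩ := hy₀
  set y₁ := y₀ ^ (orderOf y₀ / p ^ (orderOf y₀).factorization p) with hy₁
  have hy₁o : orderOf y₁ = p ^ (orderOf y₀).factorization p :=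
    orderOf_pow_orderOf_div (orderOf_pos y₀).ne' (Nat.ordProj_dvd _ _)
  have hy₁N : y₁ ∉ N := by
    intro hN
    set m := orderOf y₀ / p ^ (orderOf y₀).factorization p with hm
    have hpm : ¬ p ∣ m := Nat.not_dvd_ordCompl hp (orderOf_pos y₀).ne'
    have h1 : (b * a) ^ m = 1 := by
      rw [← hy₀a, ← map_pow]; exact (QuotientGroup.eq_one_iff _).2 hN
    set B := Subgroup.normalizer (A : Set (G ⧸ N)) with hB
    have hbB : b ∈ B := hbA
    let bb : ↥B := ⟨b, hbB⟩
    let aa : ↥B := ⟨a, Subgroup.le_normalizer haA⟩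
    have h2 : (QuotientGroup.mk' (A.subgroupOf B)) ((bb * aa) ^ m) = 1 := by
      rw [show ((bb * aa) ^ m : ↥B) = 1 from Subtype.ext h1, map_one]
    rw [map_pow, map_mul, show (QuotientGroup.mk' (A.subgroupOf B)) aa = 1 from
      (QuotientGroup.eq_one_iff aa).2 haA, mul_one] at h2
    have h3 : ((QuotientGroup.mk' (A.subgroupOf B)) bb) ^ p ^ k = 1 := by
      rw [← map_pow, show bb ^ p ^ k = 1 from Subtype.ext (hbo ▸ pow_orderOf_eq_one b), map_one]
    have h4 := pow_gcd_eq_one.2 ⟨h3, h2⟩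
    rw [Nat.Coprime.pow_left k ((hp.coprime_iff_not_dvd).2 hpm), pow_one] at h4
    have h5 : b ∈ A := (QuotientGroup.eq_one_iff bb).1 h4
    obtain ⟨j, hj⟩ := IsPGroup.iff_orderOf.1 hA ⟨b, h5⟩
    rw [Subgroup.orderOf_mk, hbo] at hj
    rcases k with _ | k
    · exact hb1 (orderOf_eq_one_iff.1 (by simpa using hbo))
    · have : p ∣ q ^ j := hj ▸ dvd_pow_self p (by omega)
      exact hpq ((Nat.prime_dvd_prime_iff_eq hp hq).1 (hp.dvd_of_dvd_pow this))
  -- last power of `y₁` outside `N`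
  have hex : ∃ i, y₁ ^ p ^ i ∈ N := ⟨(orderOf y₀).factorization p, by rw [← hy₁o, pow_orderOf_eq_one]; exact N.one_mem⟩
  set i := Nat.find hex with hi
  have hi0 : i ≠ 0 := fun h0 => hy₁N (by have := Nat.find_spec hex; rw [← hi, h0] at this; simpa using this)
  set y := y₁ ^ p ^ (i - 1) with hy
  have hyN : y ∉ N := fun hN => Nat.find_min hex (m := i - 1) (by omega) hN
  have hypN : y ^ p ∈ N := by
    rw [hy, ← pow_mul, ← pow_succ, show i - 1 + 1 = i by omega]; exact Nat.find_spec hex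
  have hyH : y ∈ H := H.pow_mem (H.pow_mem hy₀H _) _
  have hyS : y ∈ Subgroup.normalizer (S : Set G) := Subgroup.pow_mem _ (Subgroup.pow_mem _ hy₀S _) _
  obtain ⟨e, hye⟩ : ∃ e, orderOf y = p ^ e := by
    obtain ⟨e, _, he⟩ := (Nat.dvd_prime_pow hp).1 (hy₁o ▸ orderOf_pow_dvd (x := y₁) (p ^ (i - 1)))
    exact ⟨e, he⟩
  have hqorder : ∀ s ∈ S, ∃ j, orderOf s = q ^ j := fun s hs => by
    obtain ⟨j, hj⟩ := IsPGroup.iff_orderOf.1 hSq ⟨s, hs⟩
    exact ⟨j, by rw [← hj, Subgroup.orderOf_mk]⟩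
  obtain ⟨s₁, hs₁, hs₁N⟩ := hsS
  -- y has order p
  have hyp : y ^ p = 1 := by
    set z := y ^ p with hz
    let φ := S.normalizerMonoidHom
    let zz : ↥(Subgroup.normalizer (S : Set G)) := ⟨z, Subgroup.pow_mem _ hyS _⟩
    let T : Subgroup (MulAut ↥S) := Subgroup.zpowers (φ zz)
    let C : Set ↥S := {s | (s₁ : G)⁻¹ * (s : G) ∈ N}
    have hC : ∀ τ ∈ T, ∀ s ∈ C, τ s ∈ C := by
      intro τ hτ s hs
      obtain ⟨n, rfl⟩ := Subgroup.mem_zpowers_iff.1 hτ
      have hzn : (z ^ n : G) ∈ N := N.zpow_mem hypN n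
      show (s₁ : G)⁻¹ * ((φ zz ^ n) s : ↥S) ∈ N
      rw [← map_zpow]
      show (s₁ : G)⁻¹ * (z ^ n * (s : G) * (z ^ n)⁻¹) ∈ N
      rw [show (s₁ : G)⁻¹ * (z ^ n * (s : G) * (z ^ n)⁻¹) =
        ((s₁ : G)⁻¹ * z ^ n * (s₁ : G)⁻¹⁻¹) * ((s₁ : G)⁻¹ * (s : G)) * (z ^ n)⁻¹ by group]
      exact N.mul_mem (N.mul_mem (Subgroup.Normal.conj_mem inferInstance _ hzn _) hs) (N.inv_mem hzn)
    let act : MulAction ↥T C :=
      { smul := fun τ s => ⟨(τ : MulAut ↥S) s.1, hC τ τ.2 s.1 s.2⟩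
        one_smul := fun s => Subtype.ext rfl
        mul_smul := fun a b s => Subtype.ext rfl }
    have hTp : IsPGroup p ↥T := by
      obtain ⟨j, _, hj⟩ := (Nat.dvd_prime_pow hp).1 ((orderOf_map_dvd φ zz).trans
        (by rw [Subgroup.orderOf_mk, ← hye]; exact orderOf_pow_dvd p))
      exact IsPGroup.of_card (n := j) (by rw [Nat.card_zpowers, hj])
    have hCc : Nat.card C = Nat.card ↥(N.subgroupOf S) :=
      Nat.card_congr
        { toFun := fun s => ⟨⟨s₁, hs₁⟩⁻¹ * s.1, s.2⟩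
          invFun := fun t => ⟨⟨s₁, hs₁⟩ * t.1, by
            show (s₁ : G)⁻¹ * (s₁ * (t.1 : G)) ∈ N
            rw [inv_mul_cancel_left]; exact t.2⟩
          left_inv := fun s => Subtype.ext (mul_inv_cancel_left _ _)
          right_inv := fun t => Subtype.ext (inv_mul_cancel_left _ _) }
    have hnd : ¬ p ∣ Nat.card C := by
      obtain ⟨j, hj⟩ := IsPGroup.iff_card.1 (hSq.to_subgroup (N.subgroupOf S))
      rw [hCc, hj]
      exact fun hd => hpq ((Nat.prime_dvd_prime_iff_eq hp hq).1 (hp.dvd_of_dvd_pow hd))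
    obtain ⟨⟨s, hsC⟩, hs⟩ := hTp.nonempty_fixed_point_of_prime_not_dvd_card C hnd
    have hfix : z * (s : G) * z⁻¹ = s := congrArg (fun w : C => ((w.1 : ↥S) : G)) (hs ⟨_, Subgroup.mem_zpowers (φ zz)⟩)
    have hsN : (s : G) ∉ N := fun hN => hs₁N (by
      have h1 : (s₁ : G)⁻¹ * (s : G) ∈ N := hsC
      exact N.inv_mem_iff.1 ((N.mul_mem_cancel_right hN).1 h1))
    obtain ⟨j, hj⟩ := hqorder s s.2
    refine eq_one_of_commute N h hq hsN hj (mul_inv_eq_iff_eq_mul.1 hfix).symm ?_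
    obtain ⟨l, _, hl⟩ := (Nat.dvd_prime_pow hp).1 (hye ▸ orderOf_pow_dvd (x := y) p)
    rw [hl]
    exact ((Nat.coprime_primes hp hq).2 hpq).pow_left l
  have hyo : orderOf y = p := orderOf_eq_prime hyp fun e => hyN (e ▸ N.one_mem)
  -- the abelian module
  let V : Subgroup G := (Subgroup.center ↥R).map R.subtype
  have hHV : H ≤ Subgroup.normalizer (V : Set G) := by
    intro x hx
    rw [Subgroup.mem_normalizer_iff_map_conj_eq] at hx ⊢
    have e : ((MulAut.conj x).toMonoidHom).comp R.subtype = R.subtype.comp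
        (R.normalizerMonoidHom ⟨x, Subgroup.mem_normalizer_iff_map_conj_eq.2 hx⟩).toMonoidHom := rfl
    show Subgroup.map _ ((Subgroup.center ↥R).map R.subtype) = _
    rw [Subgroup.map_map]
    erw [e]
    rw [← Subgroup.map_map]
    congr 1
    exact Subgroup.characteristic_iff_map_eq.1 inferInstance _
  have hVc : IsMulCommutative ↥V := Subgroup.map_isMulCommutative _ _
  let _ : CommGroup ↥V := { (inferInstance : Group ↥V) with mul_comm := hVc.is_comm.comm }
  have hV1 : 1 < Nat.card ↥V := by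
    have hnt : Nontrivial ↥R := Finite.one_lt_card_iff_nontrivial.1 hR1
    have := hRr.center_nontrivial
    rw [Subgroup.card_subtype]
    exact Finite.one_lt_card
  have hXH : S ≤ H := fun x hx => by
    obtain ⟨w, -, rfl⟩ := Subgroup.mem_map.1 hx
    exact w.2.1
  let K := H
  let φ : ↥K →* MulAut ↥V := V.normalizerMonoidHom.comp (Subgroup.inclusion hHV)
  have hfixV : ∀ (x : ↥K) (v : ↥V) (t : ℕ) (e : ℕ), (x : G) ∉ N → t.Prime → t ≠ r → orderOf (x : G) = t ^ e →
      φ x v = v → v = 1 := by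
    intro x v t e hxN ht htr hxo hv
    have h1 : (x : G) * (v : G) * (x : G)⁻¹ = v := congrArg Subtype.val hv
    obtain ⟨l, hl⟩ := IsPGroup.iff_orderOf.1 hRr ⟨v, (Subgroup.map_subtype_le _) v.2⟩
    rw [Subgroup.orderOf_mk] at hl
    refine Subtype.ext (eq_one_of_commute N h ht hxN hxo (mul_inv_eq_iff_eq_mul.1 h1) ?_)
    rw [hl]
    exact ((Nat.coprime_primes hr' ht).2 (Ne.symm htr)).pow_left l
  have hall : ∀ v : ↥V, v = 1 := by
    refine eq_one_of_frobenius φ (p := p) (S.subgroupOf K) ⟨y, hyH⟩ (by rw [Subgroup.orderOf_mk]; exact hyo) ?_ ?_ ?_ ?_ ?_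
    · intro s hs
      exact (Subgroup.mem_normalizer_iff.1 hyS _).1 hs
    · intro s hs hc
      refine Subtype.ext (eq_one_of_commute N h hp hyN (k := 1) (by rw [hyo, pow_one]) (congrArg Subtype.val hc.symm.eq) ?_)
      obtain ⟨j, hj⟩ := hqorder s hs
      rw [hj]
      exact ((Nat.coprime_primes hq hp).2 (Ne.symm hpq)).pow_left j
    · obtain ⟨j, hj⟩ := hqorder s₁ hs₁
      exact ⟨⟨s₁, hXH hs₁⟩, hs₁, fun v => hfixV _ v q j hs₁N hq (Ne.symm hrq) hj⟩
    · exact fun v => hfixV _ v p 1 hyN hp (Ne.symm hrp) (by rw [pow_one]; exact hyo)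
    · obtain ⟨l, hl⟩ := IsPGroup.iff_card.1 (hRr.to_le (Subgroup.map_subtype_le (Subgroup.center ↥R)) : IsPGroup r ↥V)
      obtain ⟨j, hj⟩ := IsPGroup.iff_card.1 hSq
      rw [hl, Nat.card_congr (Subgroup.subgroupOfEquivOfLe hXH).toEquiv, hj]
      exact (((Nat.coprime_primes hr' hq).2 hrq).pow_left l).pow_right j
  have : Subsingleton ↥V := ⟨fun u v => (hall u).trans (hall v).symm⟩
  rw [Nat.card_of_subsingleton (1 : ↥V)] at hV1
  omega

theorem two_isolated_primes_false {Q : Type*} [Group Q] [Finite Q]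
    (hF : ∀ p q : ℕ, p.Prime → q.Prime → p ≠ q → ∀ A : Subgroup Q, IsPGroup q ↥A → A ≠ ⊥ →
      ∀ b ∈ Subgroup.normalizer (A : Set Q), (∃ k, orderOf b = p ^ k) → b = 1)
    {p q : ℕ} [Fact p.Prime] [Fact q.Prime] (hpq : p ≠ q) (hp : p ∣ Nat.card Q) (hq : q ∣ Nat.card Q) : False := by
  classical
  have _ := Fintype.ofFinite Q
  have key : ∀ (t : ℕ) [Fact t.Prime], t ∣ Nat.card Q →
      Nat.card Q ≤ 2 * (Finset.univ.filter fun x : Q => x ≠ 1 ∧ ∃ k, orderOf x = t ^ k).card := by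
    intro t _ ht
    have htp : t.Prime := Fact.out
    have hN : ∀ A : Subgroup Q, IsPGroup t ↥A → A ≠ ⊥ → IsPGroup t ↥(Subgroup.normalizer (A : Set Q)) := by
      intro A hA hA1
      rw [IsPGroup.iff_orderOf]
      rintro ⟨b, hb⟩
      refine ⟨(orderOf b).primeFactorsList.length, ?_⟩
      rw [Subgroup.orderOf_mk]
      refine Nat.eq_prime_pow_of_unique_prime_dvd (orderOf_pos b).ne' fun {s} hs hsb => ?_
      by_contra hst
      have h1 := hF s t hs htp hst A hA hA1 (b ^ (orderOf b / s)) (Subgroup.pow_mem _ hb _)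
        ⟨1, by rw [pow_one]; exact orderOf_pow_orderOf_div (orderOf_pos b).ne' hsb⟩
      have h2 := orderOf_pow_orderOf_div (orderOf_pos b).ne' hsb
      rw [h1, orderOf_one] at h2
      exact hs.one_lt.ne h2
    have hne : ∀ P : Sylow t Q, (P : Subgroup Q) ≠ ⊥ := fun P => Sylow.ne_bot_of_dvd_card P ht
    have hself : ∀ P : Sylow t Q, Subgroup.normalizer ((P : Subgroup Q) : Set Q) = P := fun P =>
      P.3 (hN _ P.isPGroup' (hne P)) Subgroup.le_normalizer
    have hTI : ∀ n, ∀ P P' : Sylow t Q, Nat.card Q - Nat.card ↥((P : Subgroup Q) ⊓ P') ≤ n → P ≠ P' →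
        (P : Subgroup Q) ⊓ P' = ⊥ := by
      intro n
      induction n with
      | zero =>
        intro P P' hle hne'
        exfalso
        have h1 : (P : Subgroup Q) ⊓ P' = ⊤ :=
          Subgroup.eq_top_of_le_card _ (by omega)
        exact hne' (Sylow.ext ((inf_eq_top_iff.1 h1).1.trans (inf_eq_top_iff.1 h1).2.symm))
      | succ n ih =>
        intro P P' hle hne'
        by_contra hD
        set D := (P : Subgroup Q) ⊓ P' with hDdef
        obtain ⟨R, hR⟩ := (hN D (P.isPGroup'.to_le inf_le_left) hD).exists_le_sylow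
        have big : ∀ P₁ : Sylow t Q, D < P₁ → P₁ = R := by
          intro P₁ hlt
          by_contra hne1
          have h1 : D < (P₁ : Subgroup Q) ⊓ R :=
            lt_of_lt_of_le (Cfsg.Lib.Fusion.lt_inf_normalizer P₁.isPGroup' hlt)
              (le_inf inf_le_left (inf_le_right.trans hR))
          have h2 : Nat.card ↥D < Nat.card ↥((P₁ : Subgroup Q) ⊓ R) :=
            lt_of_le_of_ne (Subgroup.card_le_of_le h1.le) fun e =>
              h1.ne (Subgroup.eq_of_le_of_card_ge h1.le e.ge)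
          have h3 := ih P₁ R (by omega) hne1
          exact hD (le_bot_iff.1 (h3 ▸ h1.le))
        have hlt : ∀ P₁ P₂ : Sylow t Q, P₁ ≠ P₂ → (P₁ : Subgroup Q) ⊓ P₂ < P₁ := fun P₁ P₂ h12 =>
          lt_of_le_of_ne inf_le_left fun e => h12 (Sylow.ext (P₁.3 P₂.isPGroup' (inf_eq_left.1 e)).symm)
        exact hne' ((big P (hlt P P' hne')).trans (big P' (by rw [hDdef, inf_comm]; exact hlt P' P hne'.symm)).symm)
    let W : Sylow t Q → Finset Q := fun P => Finset.univ.filter fun x => x ∈ (P : Subgroup Q) ∧ x ≠ 1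
    have hdis : Set.PairwiseDisjoint ((Finset.univ : Finset (Sylow t Q)) : Set (Sylow t Q)) W := by
      intro P _ P' _ hne'
      rw [Function.onFun, Finset.disjoint_left]
      intro x hx hx'
      simp only [W, Finset.mem_filter, Finset.mem_univ, true_and] at hx hx'
      have : x ∈ (P : Subgroup Q) ⊓ P' := ⟨hx.1, hx'.1⟩
      rw [hTI _ P P' le_rfl hne', Subgroup.mem_bot] at this
      exact hx.2 this
    have hsub : Finset.univ.biUnion W ⊆ Finset.univ.filter fun x : Q => x ≠ 1 ∧ ∃ k, orderOf x = t ^ k := by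
      intro x hx
      simp only [W, Finset.mem_biUnion, Finset.mem_filter, Finset.mem_univ, true_and] at hx ⊢
      obtain ⟨P, hxP, hx1⟩ := hx
      obtain ⟨j, hj⟩ := IsPGroup.iff_orderOf.1 P.isPGroup' ⟨x, hxP⟩
      exact ⟨hx1, j, by rw [← hj, Subgroup.orderOf_mk]⟩
    refine le_trans ?_ (Nat.mul_le_mul_left 2 (Finset.card_le_card hsub))
    rw [Finset.card_biUnion hdis, Finset.mul_sum]
    let P₀ : Sylow t Q := default
    have hW : ∀ P : Sylow t Q, Nat.card ↥(P₀ : Subgroup Q) ≤ 2 * (W P).card := by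
      intro P
      have e : W P = (Finset.univ.filter fun x => x ∈ (P : Subgroup Q)).erase 1 := by
        ext x; simp [W, and_comm]
      have e2 : (Finset.univ.filter fun x => x ∈ (P : Subgroup Q)).card = Nat.card ↥(P : Subgroup Q) := by
        rw [Nat.card_eq_fintype_card, Fintype.card_subtype]
      rw [e, Finset.card_erase_of_mem (by simp), e2, P.card_eq_multiplicity, P₀.card_eq_multiplicity]
      have : 1 < t ^ (Nat.card Q).factorization t :=
        Nat.one_lt_pow (htp.factorization_pos_of_dvd Nat.card_pos.ne' ht).ne' htp.one_lt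
      omega
    refine le_trans ?_ (Finset.sum_le_sum fun P _ => hW P)
    rw [Finset.sum_const, smul_eq_mul, Finset.card_univ, ← Nat.card_eq_fintype_card,
      P₀.card_eq_index_normalizer]
    erw [hself P₀]
    exact (Subgroup.index_mul_card _).ge
  have h1 := key p hp
  have h2 := key q hq
  have hd : Disjoint (Finset.univ.filter fun x : Q => x ≠ 1 ∧ ∃ k, orderOf x = p ^ k)
      (Finset.univ.filter fun x : Q => x ≠ 1 ∧ ∃ k, orderOf x = q ^ k) := by
    rw [Finset.disjoint_left]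
    simp only [Finset.mem_filter, Finset.mem_univ, true_and]
    rintro x ⟨hx1, i, hi⟩ ⟨-, j, hj⟩
    rcases i with _ | i
    · exact hx1 (orderOf_eq_one_iff.1 (by simpa using hi))
    · have : p ∣ q ^ j := by rw [← hj, hi]; exact dvd_pow_self p (by omega)
      exact hpq ((Nat.prime_dvd_prime_iff_eq Fact.out Fact.out).1 ((Fact.out : p.Prime).dvd_of_dvd_pow this))
  have h3 : ((Finset.univ.filter fun x : Q => x ≠ 1 ∧ ∃ k, orderOf x = p ^ k) ∪
      (Finset.univ.filter fun x : Q => x ≠ 1 ∧ ∃ k, orderOf x = q ^ k)).card ≤ Nat.card Q - 1 := by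
    rw [Nat.card_eq_fintype_card, ← Finset.card_univ, ← Finset.card_erase_of_mem (Finset.mem_univ (1 : Q))]
    refine Finset.card_le_card fun x hx => ?_
    simp only [Finset.mem_union, Finset.mem_filter, Finset.mem_univ, true_and] at hx
    simp [hx.elim And.left And.left]
  rw [Finset.card_union_of_disjoint hd] at h3
  have := Nat.card_pos (α := Q)
  omega

theorem quotient_solvable {G : Type*} [Group G] [Finite G] (N : Subgroup G) [N.Normal]
    (hns : ¬ Group.IsSolvable ↥N) (h : ∀ x : G, x ∉ N → IsPrimePow (orderOf x)) :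
    Group.IsSolvable (G ⧸ N) := by
  classical
  have hF : ∀ p q : ℕ, p.Prime → q.Prime → p ≠ q → ∀ A : Subgroup (G ⧸ N), IsPGroup q ↥A → A ≠ ⊥ →
      ∀ b ∈ Subgroup.normalizer (A : Set (G ⧸ N)), (∃ k, orderOf b = p ^ k) → b = 1 := by
    intro p q hp hq hpq A hA hA1 b hb hk
    obtain ⟨k, hbo⟩ := hk
    by_contra hb1
    apply hns
    refine Cfsg.Agent.S0144.result p q ((Nat.card ↥N).factorization p) ((Nat.card ↥N).factorization q) hp hq ?_
    have hsub : ∀ r, r.Prime → r ∣ Nat.card ↥N → r = p ∨ r = q := by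
      intro r hr hrN
      by_contra hne
      push Not at hne
      have := Fact.mk hp; have := Fact.mk hq; have := Fact.mk hr
      exact only_two_primes N h hpq hne.1 hne.2 hrN A hA hA1 b k hbo hb1 hb
    conv_lhs => rw [← Nat.prod_factorization_pow_eq_self (Nat.card_pos (α := ↥N)).ne']
    rw [Finsupp.prod_of_support_subset _ (s := {p, q}) ?_ _ (by simp), Finset.prod_pair hpq]
    intro r hr
    rw [Nat.support_factorization, Nat.mem_primeFactors] at hr
    simpa using hsub r hr.1 hr.2.1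
  by_cases h2 : ∃ p q : ℕ, p.Prime ∧ q.Prime ∧ p ≠ q ∧ p ∣ Nat.card (G ⧸ N) ∧ q ∣ Nat.card (G ⧸ N)
  · obtain ⟨p, q, hp, hq, hpq, hp', hq'⟩ := h2
    have := Fact.mk hp; have := Fact.mk hq
    exact (two_isolated_primes_false hF hpq hp' hq').elim
  · by_cases h1 : Nat.card (G ⧸ N) = 1
    · have := (Nat.card_eq_one_iff_unique.1 h1).1
      infer_instance
    obtain ⟨p, hp, hpd⟩ := Nat.exists_prime_and_dvd h1
    have := Fact.mk hp
    have hpow : Nat.card (G ⧸ N) = p ^ (Nat.card (G ⧸ N)).primeFactorsList.length :=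
      Nat.eq_prime_pow_of_unique_prime_dvd Nat.card_pos.ne' fun {s} hs hsd => by
        by_contra hne
        exact h2 ⟨s, p, hs, hp, hne, hsd, hpd⟩
    exact Cfsg.Agent.S3903.pgroup_solvable (IsPGroup.of_card hpow)


/-- Let N be a non-trivial normal subgroup of the finite group G such that every element of G outside N has prime power order. If N is not solvable, then G/N is solvable. -/
theorem result {G : Type*} [Group G] [Finite G] (N : Subgroup G) [N.Normal] (hN : N ≠ ⊥) (hns : ¬ Group.IsSolvable ↥N)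
    (h : ∀ x : G, x ∉ N → IsPrimePow (orderOf x)) : Group.IsSolvable (G ⧸ N) := by
  exact quotient_solvable N hns h

end Cfsg.Agent.S3901
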