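import Cfsg.Statements.S1679
import Cfsg.Agent.Lib.CosetEnum.Groups.SuzSimple
import Cfsg.Agent.Lib.CosetEnum.SuzG24.Valid
import Cfsg.Agent.Lib.CosetEnum.Restrict
import Cfsg.Agent.Lib.CosetEnum.GFFour
import Cfsg.Agent.Lib.CosetEnum.G2Lines
import Cfsg.Agent.Lib.CosetEnum.SuzG24Pts.Valid
import Cfsg.Agent.Lib.CosetEnum.SuzG24Pts.Checks
import Cfsg.Agent.S1059
-- import your own Cfsg.Agent.* helpers here

set_option autoImplicit false
open Cfsg

namespace Cfsg.Agent.S1679

open Cfsg.Lib.CosetEnum Cfsg.Spor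

set_option maxRecDepth 100000

theorem baseOK_pts : BaseOK SuzG24Pts.tabQ 6 1365
    [SuzG24Pts.level0, SuzG24Pts.level1, SuzG24Pts.level2, SuzG24Pts.level3, SuzG24Pts.level4] :=
  ⟨SuzG24Pts.nest0_ok, SuzG24Pts.orbit0_ok, SuzG24Pts.nest1_ok, SuzG24Pts.orbit1_ok,
    SuzG24Pts.nest2_ok, SuzG24Pts.orbit2_ok, SuzG24Pts.nest3_ok, SuzG24Pts.orbit3_ok,
    SuzG24Pts.nest4_ok, SuzG24Pts.orbit4_ok, trivial⟩

theorem card_points_group :
    251596800 ≤ Nat.card (Subgroup.closure (tperm SuzG24Pts.tabQ 6 1365 '' {g | g < 6})) := by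
  have h := base_le (tperm SuzG24Pts.tabQ 6 1365) (MonoidHom.id _) SuzG24Pts.permQ_ok (by decide)
    (fun g _ => rfl) baseOK_pts
  refine le_trans (le_trans (by decide +kernel) h) ?_
  rw [Subgroup.map_id]
  refine Subgroup.card_le_of_le ((Subgroup.closure_le _).2 ?_)
  rintro _ ⟨u, hu, rfl⟩
  have hlt : ∀ u ∈ SuzG24Pts.level0.U, ∀ g ∈ u, g < 6 := by decide +kernel
  refine Subgroup.closure_mono ?_ (wordVal_mem _ (S := List.range 6) fun g hg =>
    ⟨List.mem_range.2 (hlt u hu g hg), by have := hlt u hu g hg; simp only [eps]; omega⟩)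
  rintro _ ⟨g, hg, rfl⟩
  exact ⟨g, List.mem_range.1 hg, rfl⟩

theorem card_g2 : Nat.card ↥(Cfsg.Lie.chevG2.group GF4) = 251596800 := by
  rw [Cfsg.Agent.S1059.result GF4.card_eq]
  norm_num

/-- In the presented sporadic Suzuki group (generators a, …, g), the subgroup generated by the images of a, …, f is isomorphic to the adjoint Chevalley group of type G₂ over a field with four elements. -/
theorem result : ∃ (K : Type) (_ : Field K) (_ : Fintype K), Fintype.card K = 4 ∧ Nonempty ((((Subgroup.closure ({Cfsg.Spor.Suz.a, Cfsg.Spor.Suz.b, Cfsg.Spor.Suz.c, Cfsg.Spor.Suz.d, Cfsg.Spor.Suz.e, Cfsg.Spor.Suz.f} : Set (FreeGroup Cfsg.Spor.Suz.Gen))).map (PresentedGroup.mk (Cfsg.Spor.coxRelators Cfsg.Spor.Suz.edges ∪ {r | r ∈ Cfsg.Spor.Suz.extra})))) ≃* Cfsg.Lie.chevG2.group K) := by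
  let N := SuzPres.numbering
  let x : ℕ → Cfsg.Spor.Suz := N.gens Suz.extra
  have hx : ∀ g, x g * x g = 1 := N.gens_mul_self Suz.extra
  have hk : N.k ≤ eps := by decide
  have hgen := N.closure_gens Suz.extra
  have hR : SuzG24.cert.R0 = N.pairs ++ SuzPres.extra := by decide +kernel
  have hrel : ∀ r ∈ SuzG24.cert.R0, wordVal x r = 1 := fun r hr =>
    N.wordVal_gens hk (SuzPres.map_extra x hx) r (hR ▸ hr)
  obtain ⟨f, hf⟩ := N.exists_hom hk Suz.extra SuzG24.cert_valid hR rfl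
    (SuzPres.map_extra _ fun g => tperm_mul_self _ _ _ g)
  have hK := N.map_closure Suz.extra
    (Us := [Suz.a, Suz.b, Suz.c, Suz.d, Suz.e, Suz.f])
    (U := SuzG24.subWords)
    (by simp [SuzG24.subWords, wordVal, gen, eps, N, SuzPres.numbering, SuzPres.num, pow_succ, mul_assoc])
    (s := {Suz.a, Suz.b, Suz.c, Suz.d, Suz.e, Suz.f})
    (by ext w; simp)
  obtain ⟨hidx, Φ, hΦ, heq, h0⟩ := SuzG24.cert_valid.index_eq hx hgen hrel f hf hK
  replace hidx : _ = 1782 := hidx
  have hcardG : Nat.card Cfsg.Spor.Suz = 448345497600 := SuzPres.isSuz.2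
  have : Finite Cfsg.Spor.Suz := Nat.finite_of_card_ne_zero (by rw [hcardG]; decide)
  set H := (Subgroup.closure _).map (PresentedGroup.mk _) with hH
  have hcardH : Nat.card H = 251596800 := by
    have := Subgroup.card_mul_index H
    rw [hidx, hcardG] at this
    omega
  obtain ⟨ρ, -, hρrange, -⟩ := exists_restrict (k' := 6) x f (k := 7) SuzG24.cert_valid.perm
    (by decide) hf SuzG24.orb1_ok SuzG24Pts.permQ_ok SuzG24Pts.restrict_ok (by decide) hK
  have hcardR : 251596800 ≤ Nat.card ρ.range := hρrange ▸ card_points_group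
  have hρbij : Function.Bijective ρ.rangeRestrict :=
    ρ.rangeRestrict_surjective.bijective_of_nat_card_le (by rw [hcardH]; exact hcardR)
  obtain ⟨p, hp, hmove⟩ := List.any_eq_true.1 SuzG24Pts.move_ok
  obtain ⟨Ψ, hΨinj, hΨr⟩ := G2Lines.exists_lines (F := GF4) GF4.card_eq SuzG24Pts.permC_ok
    SuzG24Pts.lines_ok SuzG24Pts.basis_ok SuzG24Pts.sort_ok
    ⟨29, by decide, p, List.mem_range.1 hp, fun h => by
      rw [h] at hmove
      simp at hmove⟩
  have hlen : ∀ t < 6, ∀ a ∈ SuzG24Pts.rootWords.getD t [], a < 48 := by decide +kernel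
  have hle : ρ.range ≤ Ψ.range := by
    rw [hρrange, Subgroup.closure_le]
    rintro _ ⟨t, ht, rfl⟩
    have hw : ∀ a ∈ SuzG24Pts.rootWords.getD t [], a < 48 := hlen t ht
    have he : tperm SuzG24Pts.tabQ 6 1365 t =
        wordVal (tperm SuzG24Pts.tabC 48 1365) (SuzG24Pts.rootWords.getD t []) := by
      ext j
      rw [tperm_apply SuzG24Pts.permQ_ok ht]
      have hval : ∀ (w : List ℕ), (∀ a ∈ w, a < 48 ∧ a ≠ eps) → ∀ i : Fin 1365,
          (wordVal (tperm SuzG24Pts.tabC 48 1365) w i).1 = twalk SuzG24Pts.tabC 48 w i.1 := by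
        intro w
        induction w with
        | nil => intro _ i; rfl
        | cons a w ih =>
          intro h i
          rw [twalk_cons, wordVal, Equiv.Perm.mul_apply, ih (fun b hb => h b (by simp [hb])), gen,
            if_neg (h a (by simp)).2, tperm_apply SuzG24Pts.permC_ok (h a (by simp)).1]
      rw [hval _ fun a ha => ⟨hw a ha, (show ∀ t < 6, ∀ a ∈ SuzG24Pts.rootWords.getD t [], a ≠ eps by
        decide +kernel) t ht a ha⟩]
      have := List.all_eq_true.1 SuzG24Pts.words_ok j.1 (List.mem_range.2 j.2)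
      simp only [List.all_eq_true, List.mem_range, Nat.beq_eq] at this
      exact (this t ht).symm
    rw [SetLike.mem_coe, he]
    refine (Subgroup.closure_le _).2 ?_ (wordVal_mem _ (S := List.range 48) fun a ha =>
      ⟨List.mem_range.2 (hw a ha), (show ∀ t < 6, ∀ a ∈ SuzG24Pts.rootWords.getD t [], a ≠ eps by
        decide +kernel) t ht a ha⟩)
    rintro _ ⟨a, ha, rfl⟩
    exact hΨr a (List.mem_range.1 ha)
  have heq' : ρ.range = Ψ.range := by
    refine Subgroup.eq_of_le_of_card_ge hle ?_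
    rw [← Nat.card_congr (MonoidHom.ofInjective hΨinj).toEquiv, card_g2]
    exact hcardR
  exact ⟨GF4, inferInstance, inferInstance, GF4.card_eq,
    ⟨(MulEquiv.ofBijective _ hρbij).trans
      ((MulEquiv.subgroupCongr heq').trans (MonoidHom.ofInjective hΨinj).symm)⟩⟩

end Cfsg.Agent.S1679
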