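import Cfsg.Statements.S5746
import Cfsg.Agent.S1679
import Cfsg.Agent.Lib.GTwoFour416.Main

set_option autoImplicit false
open Cfsg

namespace Cfsg.Agent.S5746

open Cfsg.Lib.CosetEnum Cfsg.Spor

set_option maxRecDepth 100000

theorem restrict_ok : restrictOK SuzG24.tabP SuzG24.orb0 Cfsg.Lib.GTwoFour416.tab 7 6 416
    SuzG24.subWords 416 0 = true := by
  decide +kernel

/-- The Chevalley group acts faithfully as the group on 416 points. -/
theorem nonempty_equiv {F : Type*} [Field F] [Fintype F] (hF : Fintype.card F = 4) :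
    Nonempty (↥(Cfsg.Lie.chevG2.group F) ≃* Cfsg.Lib.GTwoFour416.grp) := by
  have hcardF : Nat.card ↥(Cfsg.Lie.chevG2.group F) = 251596800 := by
    rw [Cfsg.Agent.S1059.result hF]
    norm_num
  let N := SuzPres.numbering
  let x : ℕ → Cfsg.Spor.Suz := N.gens Suz.extra
  have hx : ∀ g, x g * x g = 1 := N.gens_mul_self Suz.extra
  have hk : N.k ≤ eps := by decide
  have hgen := N.closure_gens Suz.extra
  have hR : SuzG24.cert.R0 = N.pairs ++ SuzPres.extra := by decide +kernel
  have hrel : ∀ r ∈ SuzG24.cert.R0, wordVal x r = 1 := fun r hr =>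
    N.wordVal_gens hk (SuzPres.map_extra x hx) r (hR ▸ hr)
  obtain ⟨f, hf⟩ := N.exists_hom hk Suz.extra SuzG24.cert_valid hR rfl
    (SuzPres.map_extra _ fun g => tperm_mul_self _ _ _ g)
  have hK := N.map_closure Suz.extra
    (Us := [Suz.a, Suz.b, Suz.c, Suz.d, Suz.e, Suz.f])
    (U := SuzG24.subWords)
    (by simp [SuzG24.subWords, wordVal, gen, eps, N, SuzPres.numbering, SuzPres.num, pow_succ, mul_assoc])
    (s := {Suz.a, Suz.b, Suz.c, Suz.d, Suz.e, Suz.f})
    (by ext w; simp)
  obtain ⟨hidx, Φ, hΦ, heq, h0⟩ := SuzG24.cert_valid.index_eq hx hgen hrel f hf hK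
  replace hidx : _ = 1782 := hidx
  have hcardG : Nat.card Cfsg.Spor.Suz = 448345497600 := SuzPres.isSuz.2
  have : Finite Cfsg.Spor.Suz := Nat.finite_of_card_ne_zero (by rw [hcardG]; decide)
  set H := (Subgroup.closure _).map (PresentedGroup.mk _) with hH
  have hcardH : Nat.card H = 251596800 := by
    have := Subgroup.card_mul_index H
    rw [hidx, hcardG] at this
    omega
  obtain ⟨ρ, -, hρrange, -⟩ := exists_restrict (k' := 6) x f (k := 7) SuzG24.cert_valid.perm
    (by decide) hf SuzG24.orb1_ok SuzG24Pts.permQ_ok SuzG24Pts.restrict_ok (by decide) hK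
  have hcardR : 251596800 ≤ Nat.card ρ.range := hρrange ▸ S1679.card_points_group
  have hρbij : Function.Bijective ρ.rangeRestrict :=
    ρ.rangeRestrict_surjective.bijective_of_nat_card_le (by rw [hcardH]; exact hcardR)
  obtain ⟨p, hp, hmove⟩ := List.any_eq_true.1 SuzG24Pts.move_ok
  obtain ⟨Ψ, hΨinj, hΨr⟩ := G2Lines.exists_lines (F := F) hF SuzG24Pts.permC_ok
    SuzG24Pts.lines_ok SuzG24Pts.basis_ok SuzG24Pts.sort_ok
    ⟨29, by decide, p, List.mem_range.1 hp, fun h => by
      rw [h] at hmove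
      simp at hmove⟩
  have hlen : ∀ t < 6, ∀ a ∈ SuzG24Pts.rootWords.getD t [], a < 48 := by decide +kernel
  have hle : ρ.range ≤ Ψ.range := by
    rw [hρrange, Subgroup.closure_le]
    rintro _ ⟨t, ht, rfl⟩
    have hw : ∀ a ∈ SuzG24Pts.rootWords.getD t [], a < 48 := hlen t ht
    have he : tperm SuzG24Pts.tabQ 6 1365 t =
        wordVal (tperm SuzG24Pts.tabC 48 1365) (SuzG24Pts.rootWords.getD t []) := by
      ext j
      rw [tperm_apply SuzG24Pts.permQ_ok ht]
      have hval : ∀ (w : List ℕ), (∀ a ∈ w, a < 48 ∧ a ≠ eps) → ∀ i : Fin 1365,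
          (wordVal (tperm SuzG24Pts.tabC 48 1365) w i).1 = twalk SuzG24Pts.tabC 48 w i.1 := by
        intro w
        induction w with
        | nil => intro _ i; rfl
        | cons a w ih =>
          intro h i
          rw [twalk_cons, wordVal, Equiv.Perm.mul_apply, ih (fun b hb => h b (by simp [hb])), gen,
            if_neg (h a (by simp)).2, tperm_apply SuzG24Pts.permC_ok (h a (by simp)).1]
      rw [hval _ fun a ha => ⟨hw a ha, (show ∀ t < 6, ∀ a ∈ SuzG24Pts.rootWords.getD t [], a ≠ eps by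
        decide +kernel) t ht a ha⟩]
      have := List.all_eq_true.1 SuzG24Pts.words_ok j.1 (List.mem_range.2 j.2)
      simp only [List.all_eq_true, List.mem_range, Nat.beq_eq] at this
      exact (this t ht).symm
    rw [SetLike.mem_coe, he]
    refine (Subgroup.closure_le _).2 ?_ (wordVal_mem _ (S := List.range 48) fun a ha =>
      ⟨List.mem_range.2 (hw a ha), (show ∀ t < 6, ∀ a ∈ SuzG24Pts.rootWords.getD t [], a ≠ eps by
        decide +kernel) t ht a ha⟩)
    rintro _ ⟨a, ha, rfl⟩
    exact hΨr a (List.mem_range.1 ha)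
  have heq' : ρ.range = Ψ.range := by
    refine Subgroup.eq_of_le_of_card_ge hle ?_
    rw [← Nat.card_congr (MonoidHom.ofInjective hΨinj).toEquiv, hcardF]
    exact hcardR
  obtain ⟨σ, -, hσrange, -⟩ := exists_restrict (k' := 6) x f (k := 7) SuzG24.cert_valid.perm
    (by decide) hf SuzG24.orb0_ok Cfsg.Lib.GTwoFour416.tab_perm restrict_ok (by decide) hK
  have hσ : Function.Bijective σ.rangeRestrict := by
    refine σ.rangeRestrict_surjective.bijective_of_nat_card_le ?_
    rw [hcardH, hσrange]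
    exact Cfsg.Lib.GTwoFour416.card_grp_ge
  exact ⟨((MonoidHom.ofInjective hΨinj).trans ((MulEquiv.subgroupCongr heq').symm.trans
    (MulEquiv.ofBijective _ hρbij).symm)).trans ((MulEquiv.ofBijective _ hσ).trans
      (MulEquiv.subgroupCongr hσrange))⟩

/-- The Chevalley group G₂(4) (over the field with 4 elements) has a maximal subgroup H isomorphic to the Hall–Janko group J₂ such that for every x outside H the intersection H ∩ xHx⁻¹ is a maximal subgroup of H; that is, the action of G₂(4) on the cosets of H is extremely primitive. -/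
theorem result {F : Type*} [Field F] [Fintype F] (hF : Fintype.card F = 4) :
    ∃ H : Subgroup (Cfsg.Lie.chevG2.group F), IsCoatom H ∧ Cfsg.Spor.IsoJ2 H ∧
      ∀ x : Cfsg.Lie.chevG2.group F, x ∉ H → IsCoatom ((H ⊓ H.map (MulAut.conj x).toMonoidHom).subgroupOf H) := by
  obtain ⟨e⟩ := nonempty_equiv hF
  have hcard : Nat.card Cfsg.Lib.GTwoFour416.grp = 251596800 := by
    rw [← Nat.card_congr e.toEquiv, Cfsg.Agent.S1059.result hF]
    norm_num
  obtain ⟨j⟩ := Cfsg.Lib.GTwoFour416.isoJ2_stab hcard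
  refine ⟨Cfsg.Lib.GTwoFour416.stab.map e.symm.toMonoidHom, ?_, ?_, fun y hy => ?_⟩
  · exact (e.symm.mapSubgroup.isCoatom_iff _).2 (Cfsg.Lib.GTwoFour416.isCoatom_stab hcard)
  · exact ⟨(Cfsg.Lib.GTwoFour416.stab.equivMapOfInjective _ e.symm.injective).symm.trans
      (j.trans Cfsg.Lib.J2.j2Equiv.symm)⟩
  · set K := Cfsg.Lib.GTwoFour416.stab
    have hy' : e y ∉ K := fun h => hy ⟨e y, h, e.symm_apply_apply y⟩
    have h := Cfsg.Lib.GTwoFour416.isCoatom_inter hcard hy'
    let E : K ≃* (K.map e.symm.toMonoidHom : Subgroup _) := K.equivMapOfInjective _ e.symm.injective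
    have hm : ∀ z, z ∈ K.map e.symm.toMonoidHom ↔ e z ∈ K := fun z =>
      Subgroup.mem_map_equiv.trans Iff.rfl
    have hE : ∀ a : K, e (E a : Cfsg.Lie.chevG2.group F) = a := fun a => e.apply_symm_apply a.1
    have hmap : (K ⊓ K.map (MulAut.conj (e y)).toMonoidHom).subgroupOf K =
        ((K.map e.symm.toMonoidHom ⊓ (K.map e.symm.toMonoidHom).map
          (MulAut.conj y).toMonoidHom).subgroupOf (K.map e.symm.toMonoidHom)).comap E.toMonoidHom := by
      ext a
      simp only [Subgroup.mem_subgroupOf, Subgroup.mem_inf, Subgroup.mem_comap,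
        MulEquiv.coe_toMonoidHom, Subgroup.mem_map_equiv, MulAut.conj_symm_apply]
      simp only [hm, map_mul, map_inv, hE, MulEquiv.symm_symm]
    rw [hmap, Subgroup.comap_equiv_eq_map_symm'] at h
    exact (E.symm.mapSubgroup.isCoatom_iff _).1 h

end Cfsg.Agent.S5746
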