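import Cfsg.Statements.S0330
import Cfsg.Agent.Lib.Linear.Suzuki.Sylow

set_option autoImplicit false
open Cfsg

namespace Cfsg.Agent.S0330

open Cfsg.Lib.Linear

/-- A Sylow 2-subgroup `P` of the Suzuki group (field with `q = 2^(2m+1)` elements, `m ≥ 1`) has order `q²` and
exponent `4`; its centre coincides with its commutator subgroup and has order `q`. -/
theorem result {F : Type*} [Field F] [Fintype F] {m : ℕ} (hm : 1 ≤ m)
    (hF : Fintype.card F = 2 ^ (2 * m + 1)) (P : Sylow 2 (Cfsg.Sz F m)) :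
    Nat.card P = (2 ^ (2 * m + 1)) ^ 2 ∧ Monoid.exponent P = 4 ∧
      Subgroup.center P = commutator P ∧ Nat.card (Subgroup.center P) = 2 ^ (2 * m + 1) := by
  classical
  have h : Suz.Params F m := ⟨hm, hF⟩
  obtain ⟨e⟩ := Suz.sylow_two_equiv h P
  obtain ⟨h1, h2, h3⟩ := Suz.US_props h
  have hc : ∀ x, x ∈ Subgroup.center ↥(P : Subgroup ↥(Cfsg.Sz F m)) ↔ e x ∈ Subgroup.center ↥(Suz.US h) := fun x => by
    rw [Subgroup.mem_center_iff, Subgroup.mem_center_iff]
    refine ⟨fun hx g => ?_, fun hx g => e.injective ?_⟩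
    · obtain ⟨y, rfl⟩ := e.surjective g
      rw [← map_mul, ← map_mul, hx y]
    · rw [map_mul, map_mul, hx (e g)]
  refine ⟨?_, ?_, ?_, ?_⟩
  · rw [← Suz.card_US h]; exact Nat.card_congr e.toEquiv
  · exact (Monoid.exponent_eq_of_mulEquiv e).trans h1
  · ext x
    rw [hc, h2]
    constructor
    · intro hx
      have : e.symm (e x) ∈ (commutator ↥(Suz.US h)).map e.symm.toMonoidHom := ⟨_, hx, rfl⟩
      rw [commutator_def, Subgroup.map_commutator] at this
      rw [e.symm_apply_apply] at this
      exact Subgroup.commutator_mono le_top le_top this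
    · intro hx
      have : e x ∈ (commutator ↥(P : Subgroup ↥(Cfsg.Sz F m))).map e.toMonoidHom := ⟨_, hx, rfl⟩
      rw [commutator_def, Subgroup.map_commutator] at this
      exact Subgroup.commutator_mono le_top le_top this
  · rw [← h3]; exact Nat.card_congr (e.toEquiv.subtypeEquiv hc)

end Cfsg.Agent.S0330
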