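import Cfsg.Statements.S3805
import Cfsg.Agent.Lib.Recog.NineSC.KleinMain
import Cfsg.Agent.Lib.Recog.NineSC.SixReduce

set_option autoImplicit false
open Cfsg

namespace Cfsg.Agent.S3805

theorem self_inv {G : Type*} [Group G] {z : G} (h3 : z ^ 3 = 1) (hz : z⁻¹ = z) : z = 1 := by
  have : z * z = 1 := by nth_rewrite 1 [← hz]; exact inv_mul_cancel z
  rwa [pow_succ, pow_two, this, one_mul] at h3


/-- Let G be a finite group whose Sylow 3-subgroup T is elementary abelian of order 9 and self-centralizing, with N_G(T)/T a Klein four-group, and suppose that the centralizer of every nonidentity element of T lies in N_G(T). Then T is normal in G. -/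
theorem result {G : Type*} [Group G] [Finite G]
    (T : Sylow 3 G) (hT : Cfsg.IsElementaryAbelian 3 (T : Subgroup G)) (hcard : Nat.card T = 9)
    (hC : Subgroup.centralizer ((T : Subgroup G) : Set G) = T)
    [hn : ((T : Subgroup G).subgroupOf (Subgroup.normalizer ((T : Subgroup G) : Set G))).Normal]
    (hK : IsKleinFour (↥(Subgroup.normalizer ((T : Subgroup G) : Set G)) ⧸
      (T : Subgroup G).subgroupOf (Subgroup.normalizer ((T : Subgroup G) : Set G))))
    (hloc : ∀ t ∈ (T : Subgroup G), t ≠ 1 →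
      Subgroup.centralizer ({t} : Set G) ≤ Subgroup.normalizer ((T : Subgroup G) : Set G)) :
    Subgroup.normalizer ((T : Subgroup G) : Set G) = ⊤ := by
  classical
  obtain ⟨hab, hcube⟩ := hT
  set N := Subgroup.normalizer ((T : Subgroup G) : Set G) with hN
  let X : Cfsg.Lib.Recog.NineSC.Loose G := ⟨T, hcard, hcube,
    fun {a b} ha hb => congrArg Subtype.val (mul_comm' (⟨a, ha⟩ : ↥(T : Subgroup G)) ⟨b, hb⟩), hloc⟩
  haveI := Fintype.ofFinite G
  let f : N →* N ⧸ (T : Subgroup G).subgroupOf N := QuotientGroup.mk' _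
  have hf : ∀ n : N, f n = 1 ↔ (n : G) ∈ (T : Subgroup G) := fun n => by
    show QuotientGroup.mk n = 1 ↔ _
    rw [QuotientGroup.eq_one_iff, Subgroup.mem_subgroupOf]
  have hconj : ∀ {n s : G}, n ∈ N → s ∈ (T : Subgroup G) → n * s * n⁻¹ ∈ (T : Subgroup G) :=
    fun {n s} hn hs => (Subgroup.mem_normalizer_iff.1 hn s).1 hs
  have hcen : ∀ x : G, (∀ s ∈ (T : Subgroup G), x * s * x⁻¹ = s) → x ∈ (T : Subgroup G) := fun x h => by
    rw [← hC]
    exact Subgroup.mem_centralizer_iff.2 fun s hs => (mul_inv_eq_iff_eq_mul.1 (h s hs)).symm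
  have hexp : ∀ q : N ⧸ (T : Subgroup G).subgroupOf N, q * q = 1 := fun q => by
    haveI := hK
    exact IsKleinFour.mul_self q
  have hsq : ∀ n ∈ N, n * n ∈ (T : Subgroup G) := fun n hn =>
    (hf (⟨n, hn⟩ * ⟨n, hn⟩)).1 (by rw [map_mul]; exact hexp _)
  have hcm : ∀ h ∈ N, ∀ k ∈ N, ∀ s ∈ (T : Subgroup G),
      h * (k * s * k⁻¹) * h⁻¹ = k * (h * s * h⁻¹) * k⁻¹ := by
    intro h hh k hk s hs
    have hc : h * k * h⁻¹ * k⁻¹ ∈ (T : Subgroup G) := (hf (⟨h, hh⟩ * ⟨k, hk⟩ * ⟨h, hh⟩⁻¹ * ⟨k, hk⟩⁻¹)).1 (by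
      rw [map_mul, map_mul, map_mul, map_inv, map_inv,
        show f ⟨h, hh⟩ * f ⟨k, hk⟩ = f ⟨k, hk⟩ * f ⟨h, hh⟩ from by
          haveI := hK
          exact mul_comm_of_exponent_two IsKleinFour.exponent_two _ _]
      group)
    calc h * (k * s * k⁻¹) * h⁻¹
        = (h * k * h⁻¹ * k⁻¹) * (k * (h * s * h⁻¹) * k⁻¹) * (h * k * h⁻¹ * k⁻¹)⁻¹ := by group
      _ = k * (h * s * h⁻¹) * k⁻¹ := mul_inv_eq_iff_eq_mul.2 (X.comm hc (hconj hk (hconj hh hs)))
  -- an element with a fixed point and an inverted point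
  have hsplit : ∀ x ∈ N, ∀ s ∈ (T : Subgroup G), x * (x * s * x⁻¹) * x⁻¹ = s := fun x hx s hs => by
    calc x * (x * s * x⁻¹) * x⁻¹ = (x * x) * s * (x * x)⁻¹ := by group
      _ = s := mul_inv_eq_iff_eq_mul.2 (X.comm (hsq x hx) hs)
  have hcardQ : Nat.card (N ⧸ (T : Subgroup G).subgroupOf N) = 4 := by
    haveI := hK
    exact IsKleinFour.card_four
  obtain ⟨a, r, ha, ha1, hrN, hra, hrT⟩ : ∃ a r : G, a ∈ (T : Subgroup G) ∧ a ≠ 1 ∧ r ∈ N ∧
      r * a * r⁻¹ = a ∧ r ∉ (T : Subgroup G) := by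
    by_contra hc
    push Not at hc
    have inv_of : ∀ x ∈ N, x ∉ (T : Subgroup G) → ∀ s ∈ (T : Subgroup G), x * s * x⁻¹ = s⁻¹ := by
      intro x hx hxT s hs
      refine eq_inv_of_mul_eq_one_left ?_
      by_contra hne1
      refine hxT (hc _ x (mul_mem (hconj hx hs) hs) hne1 hx ?_)
      rw [← conj_mul, hsplit x hx s hs]
      exact X.comm hs (hconj hx hs)
    haveI : Finite (N ⧸ (T : Subgroup G).subgroupOf N) := inferInstance
    haveI := Fintype.ofFinite (N ⧸ (T : Subgroup G).subgroupOf N)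
    obtain ⟨p, hp1⟩ : ∃ p : N ⧸ (T : Subgroup G).subgroupOf N, p ≠ 1 := by
      haveI : Nontrivial (N ⧸ (T : Subgroup G).subgroupOf N) := Finite.one_lt_card_iff_nontrivial.1 (by omega)
      exact exists_ne 1
    obtain ⟨q, hq⟩ : ∃ q, q ∉ ({1, p} : Finset (N ⧸ (T : Subgroup G).subgroupOf N)) := by
      by_contra hq
      push Not at hq
      have h2 := Finset.card_le_card (s := Finset.univ) (fun x _ => hq x)
      rw [Finset.card_univ, ← Nat.card_eq_fintype_card, hcardQ] at h2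
      have := Finset.card_le_two (a := (1 : N ⧸ (T : Subgroup G).subgroupOf N)) (b := p)
      omega
    simp only [Finset.mem_insert, Finset.mem_singleton, not_or] at hq
    obtain ⟨x, rfl⟩ := QuotientGroup.mk_surjective p
    obtain ⟨y, rfl⟩ := QuotientGroup.mk_surjective q
    have hxy : ((x * y : N) : G) ∉ (T : Subgroup G) := fun h => hq.2 (by
      have h1 : f x * f y = 1 := by rw [← map_mul]; exact (hf _).2 h
      exact mul_left_cancel (h1.trans (hexp (f x)).symm))
    refine hxy (hcen _ fun s hs => ?_)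
    rw [show ((x * y : N) : G) * s * ((x * y : N) : G)⁻¹ = x * (y * s * (y : G)⁻¹) * (x : G)⁻¹ by
      rw [Subgroup.coe_mul]; group,
      inv_of y y.2 (fun h => hq.1 ((hf y).2 h)) s hs, inv_of x x.2 (fun h => hp1 ((hf x).2 h)) _ (inv_mem hs), inv_inv]
  obtain ⟨e, he, he1, hre⟩ : ∃ e ∈ (T : Subgroup G), e ≠ 1 ∧ r * e * r⁻¹ = e⁻¹ := by
    by_contra hc
    push Not at hc
    refine hrT (hcen r fun s hs => ?_)
    by_contra hne
    refine hc (s * (r * s * r⁻¹)⁻¹) (mul_mem hs (inv_mem (hconj hrN hs)))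
      (fun h => hne (mul_inv_eq_one.1 h).symm) ?_
    rw [← conj_mul, ← conj_inv, hsplit r hrN s hs, mul_inv_rev, inv_inv]
  have hea : e ∉ Subgroup.zpowers a := fun h => by
    obtain ⟨j, rfl⟩ := Subgroup.mem_zpowers_iff.1 h
    rw [← conj_zpow, hra] at hre
    exact he1 (self_inv (hcube _ he) hre.symm)
  have hdec : ∀ x ∈ (T : Subgroup G), x = 1 ∨ x = a ∨ x = a⁻¹ ∨ x = e ∨ x = e⁻¹ ∨ x = a * e ∨
      x = (a * e)⁻¹ ∨ x = a * e⁻¹ ∨ x = (a * e⁻¹)⁻¹ := by
    intro x hx
    have h : x ∈ Finset.univ.filter fun y => y ∈ (X.S : Subgroup G) := Finset.mem_filter.2 ⟨Finset.mem_univ _, hx⟩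
    rw [(X.listing ha ha1 he hea).1] at h
    simpa only [Finset.mem_insert, Finset.mem_singleton] using h
  have hae1 : a * e ≠ 1 := fun h => hea (by
    rw [eq_inv_of_mul_eq_one_right h]; exact inv_mem (Subgroup.mem_zpowers a))
  have haei : a * e⁻¹ ≠ 1 := fun h => hea (by rw [← mul_inv_eq_one.1 h]; exact Subgroup.mem_zpowers a)
  -- signs
  have hsign : ∀ h ∈ N, (h * a * h⁻¹ = a ∨ h * a * h⁻¹ = a⁻¹) ∧ (h * e * h⁻¹ = e ∨ h * e * h⁻¹ = e⁻¹) := by
    intro h hh
    have h1 := hcm r hrN h hh a ha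
    rw [hra] at h1
    have h2 := hcm r hrN h hh e he
    rw [hre, ← conj_inv] at h2
    have nfix : ∀ x ∈ (T : Subgroup G), r * x * r⁻¹ = x → x ≠ 1 → x = a ∨ x = a⁻¹ := by
      intro x hx hfx hx1
      rcases hdec x hx with k | k | k | k | k | k | k | k | k <;> first | exact absurd k hx1 | exact Or.inl k | exact Or.inr k | skip
      all_goals (exfalso; rw [k] at hfx; simp only [← conj_mul, ← conj_inv, hra, hre, inv_inv, inv_inj, mul_right_inj] at hfx)
      all_goals first
        | exact he1 (self_inv (hcube e he) hfx)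
        | exact he1 (self_inv (hcube e he) hfx.symm)
    have ninv : ∀ x ∈ (T : Subgroup G), r * x * r⁻¹ = x⁻¹ → x ≠ 1 → x = e ∨ x = e⁻¹ := by
      intro x hx hfx hx1
      rcases hdec x hx with k | k | k | k | k | k | k | k | k <;> first | exact absurd k hx1 | exact Or.inl k | exact Or.inr k | skip
      all_goals (exfalso; rw [k] at hfx; simp only [← conj_mul, ← conj_inv, hra, hre, inv_inv, inv_inj] at hfx)
      all_goals try rw [mul_inv_rev] at hfx
      all_goals try rw [inv_inv, X.comm he (inv_mem ha)] at hfx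
      all_goals try rw [X.comm (inv_mem he) (inv_mem ha)] at hfx
      all_goals try rw [mul_left_inj] at hfx
      all_goals first
        | exact ha1 (self_inv (hcube a ha) hfx)
        | exact ha1 (self_inv (hcube a ha) hfx.symm)
    exact ⟨nfix _ (hconj hh ha) h1 (fun k => ha1 (conj_eq_one_iff.1 k)),
      ninv _ (hconj hh he) h2 (fun k => he1 (conj_eq_one_iff.1 k))⟩
  have hboth : ∀ h ∈ N, h * a * h⁻¹ = a → h * e * h⁻¹ = e → h ∈ (T : Subgroup G) := by
    intro h _ h1 h2
    refine hcen h fun s hs => ?_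
    rcases hdec s hs with k | k | k | k | k | k | k | k | k <;> rw [k] <;>
      simp only [← conj_mul, ← conj_inv, h1, h2, mul_one, mul_inv_cancel]
  obtain ⟨r₂, hr₂N, hr₂a, hr₂e⟩ : ∃ t ∈ N, t * a * t⁻¹ = a⁻¹ ∧ t * e * t⁻¹ = e := by
    by_contra hc
    push Not at hc
    have key : ∀ h ∈ N, h * a * h⁻¹ = a := by
      intro h hh
      rcases (hsign h hh).1 with k | k
      · exact k
      rcases (hsign h hh).2 with k' | k'
      · exact absurd k' (hc h hh k)
      · refine absurd ?_ (hc (r * h) (mul_mem hrN hh) ?_)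
        · rw [show r * h * e * (r * h)⁻¹ = r * (h * e * h⁻¹) * r⁻¹ by group, k', ← conj_inv, hre, inv_inv]
        · rw [show r * h * a * (r * h)⁻¹ = r * (h * a * h⁻¹) * r⁻¹ by group, k, ← conj_inv, hra]
    have hle : ∀ n : N, f n = 1 ∨ f n = f ⟨r, hrN⟩ := by
      intro n
      rcases (hsign n n.2).2 with k | k
      · exact Or.inl ((hf n).2 (hboth n n.2 (key n n.2) k))
      · refine Or.inr ((inv_mul_eq_one.1 ?_).symm)
        rw [← map_inv, ← map_mul]
        refine (hf _).2 ?_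
        rw [Subgroup.coe_mul, Subgroup.coe_inv]
        refine hboth _ (mul_mem (inv_mem hrN) n.2) ?_ ?_
        · rw [show r⁻¹ * n * a * (r⁻¹ * n)⁻¹ = r⁻¹ * (n * a * (n : G)⁻¹) * r by group, key n n.2]
          nth_rewrite 1 [← hra]; group
        · rw [show r⁻¹ * n * e * (r⁻¹ * n)⁻¹ = r⁻¹ * (n * e * (n : G)⁻¹) * r by group, k, ← hre]; group
    haveI := Fintype.ofFinite (N ⧸ (T : Subgroup G).subgroupOf N)
    have h2 := Finset.card_le_card (s := (Finset.univ : Finset (N ⧸ (T : Subgroup G).subgroupOf N)))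
      (t := {1, f ⟨r, hrN⟩}) (fun q _ => by
        obtain ⟨n, rfl⟩ := QuotientGroup.mk_surjective q
        simp only [Finset.mem_insert, Finset.mem_singleton]
        exact hle n)
    rw [Finset.card_univ, ← Nat.card_eq_fintype_card, hcardQ] at h2
    have := Finset.card_le_two (a := (1 : N ⧸ (T : Subgroup G).subgroupOf N)) (b := f ⟨r, hrN⟩)
    omega
  have hz : ∀ s ∈ (T : Subgroup G), (r * r₂) * s * (r * r₂)⁻¹ = s⁻¹ := by
    have za : (r * r₂) * a * (r * r₂)⁻¹ = a⁻¹ := by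
      rw [show (r * r₂) * a * (r * r₂)⁻¹ = r * (r₂ * a * r₂⁻¹) * r⁻¹ by group, hr₂a, ← conj_inv, hra]
    have ze : (r * r₂) * e * (r * r₂)⁻¹ = e⁻¹ := by
      rw [show (r * r₂) * e * (r * r₂)⁻¹ = r * (r₂ * e * r₂⁻¹) * r⁻¹ by group, hr₂e, hre]
    intro s hs
    rcases hdec s hs with k | k | k | k | k | k | k | k | k <;> rw [k] <;>
      simp only [← conj_mul, ← conj_inv, za, ze, mul_one, mul_inv_cancel, inv_one, inv_inv]
    all_goals try simp only [mul_inv_rev, inv_inv]
    all_goals first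
      | exact X.comm (inv_mem ha) (inv_mem he)
      | exact X.comm (inv_mem ha) he
      | exact X.comm he ha
      | exact X.comm ha he
      | exact X.comm (inv_mem he) ha
      | exact X.comm ha (inv_mem he)
  have h18 : ∀ {u v t : G}, u ∈ (T : Subgroup G) → u ≠ 1 → v ∈ (T : Subgroup G) → v ≠ 1 → t ∈ N →
      t * u * t⁻¹ = u → t * v * t⁻¹ = v⁻¹ →
      (∀ h ∈ N, h * u * h⁻¹ = u → h * v * h⁻¹ = v → h ∈ (T : Subgroup G)) →
      (∀ h ∈ N, h * v * h⁻¹ = v ∨ h * v * h⁻¹ = v⁻¹) →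
      Nat.card (Subgroup.centralizer ({u} : Set G)) = 18 := by
    intro u v t hu hu1 hv hv1 htN htu htv hb hv2
    have hset : ((Subgroup.centralizer ({u} : Set G) : Subgroup G) : Set G) =
        ((T : Subgroup G) : Set G) ∪ (fun s => t * s) '' ((T : Subgroup G) : Set G) := by
      ext x
      rw [SetLike.mem_coe, Subgroup.mem_centralizer_singleton_iff, Set.mem_union, SetLike.mem_coe]
      constructor
      · intro h
        have hxN : x ∈ N := hloc u hu hu1 (Subgroup.mem_centralizer_singleton_iff.2 h)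
        rcases hv2 x hxN with k | k
        · exact Or.inl (hb x hxN (mul_inv_eq_iff_eq_mul.2 h) k)
        · refine Or.inr ⟨t⁻¹ * x, hb _ (mul_mem (inv_mem htN) hxN) ?_ ?_, mul_inv_cancel_left t x⟩
          · rw [show t⁻¹ * x * u * (t⁻¹ * x)⁻¹ = t⁻¹ * (x * u * x⁻¹) * t by group, mul_inv_eq_iff_eq_mul.2 h]
            nth_rewrite 1 [← htu]; group
          · rw [show t⁻¹ * x * v * (t⁻¹ * x)⁻¹ = t⁻¹ * (x * v * x⁻¹) * t by group, k, ← htv]; group
      · rintro (h | ⟨s, hs, rfl⟩)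
        · exact X.comm h hu
        · show t * s * u = u * (t * s)
          rw [mul_assoc, X.comm hs hu, ← mul_assoc, mul_inv_eq_iff_eq_mul.1 htu, mul_assoc]
    have hdis : Disjoint ((T : Subgroup G) : Set G) ((fun s => t * s) '' ((T : Subgroup G) : Set G)) := by
      rw [Set.disjoint_left]
      rintro _ h ⟨s, hs, rfl⟩
      have hT' := (Subgroup.mul_mem_cancel_right _ hs).1 h
      exact hv1 (self_inv (hcube v hv) (by rw [← htv, mul_inv_eq_iff_eq_mul.2 (X.comm hT' hv)]))
    show Nat.card ↥((Subgroup.centralizer ({u} : Set G) : Subgroup G) : Set G) = 18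
    rw [hset, Nat.card_coe_set_eq, Set.ncard_union_eq hdis (Set.toFinite _) (Set.toFinite _),
      Set.ncard_image_of_injective _ (mul_right_injective t), ← Nat.card_coe_set_eq]
    exact congrArg (fun k => k + k) hcard
  have h9 : Nat.card (Subgroup.centralizer ({a * e} : Set G)) = 9 := by
    rw [show Subgroup.centralizer ({a * e} : Set G) = (T : Subgroup G) from ?_, hcard]
    ext x
    rw [Subgroup.mem_centralizer_singleton_iff]
    refine ⟨fun h => ?_, fun h => X.comm h (mul_mem ha he)⟩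
    have hxN : x ∈ N := hloc _ (mul_mem ha he) hae1 (Subgroup.mem_centralizer_singleton_iff.2 h)
    have hx' : x * a * x⁻¹ * (x * e * x⁻¹) = a * e := by rw [conj_mul]; exact mul_inv_eq_iff_eq_mul.2 h
    obtain ⟨k1, k2⟩ := hsign x hxN
    rcases k1 with k1 | k1 <;> rcases k2 with k2 | k2 <;> rw [k1, k2] at hx'
    · exact hboth x hxN k1 k2
    · exact absurd (self_inv (hcube e he) (mul_left_cancel hx')) he1
    · exact absurd (self_inv (hcube a ha) (mul_right_cancel hx')) ha1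
    · refine absurd (self_inv (hcube _ (mul_mem ha he)) ?_) hae1
      rw [mul_inv_rev, X.comm (inv_mem he) (inv_mem ha)]
      exact hx'
  have h36 := X.card_eq_of_klein (a := a) (e := e) (z := r * r₂) (r₁ := r) (r₂ := r₂) ha ha1 he hea hz hra hre
    hr₂a hr₂e hsign
    (h18 ha ha1 he he1 hrN hra hre hboth fun h hh => (hsign h hh).2)
    (h18 he he1 ha ha1 hr₂N hr₂e hr₂a (fun h hh k1 k2 => hboth h hh k2 k1) fun h hh => (hsign h hh).1) h9
  refine Subgroup.eq_top_of_card_eq _ ?_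
  have h := ((T : Subgroup G).subgroupOf N).card_eq_card_quotient_mul_card_subgroup
  rw [hcardQ, Nat.card_congr (Subgroup.subgroupOfEquivOfLe Subgroup.le_normalizer).toEquiv, hcard] at h
  rw [h36, h]

end Cfsg.Agent.S3805
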