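import Cfsg.Statements.S3371
import Cfsg.Agent.Lib.Recog.HalfTransitive.Main
-- import your own Cfsg.Agent.* helpers here

set_option autoImplicit false
open Cfsg

namespace Cfsg.Agent.S3371

/-- Let q be a prime, V a non-trivial finite vector space over the field with q elements, and G a finite p-group (p prime) acting faithfully and linearly on V such that all G-orbits on the non-zero vectors have the same size. Then one of the following holds: G is cyclic or generalized quaternion and acts semiregularly on the non-zero vectors; or V has q² elements with q = 2^m − 1 and G is dihedral of order 2^(m+1) or semidihedral of order 2^(m+2); or V has q² elements with q = 2^m + 1 and, in suitable coordinates V = F_q², G is exactly the group of maps (x, y) ↦ (a x, ± a⁻¹ y) and (x, y) ↦ (± a⁻¹ y, a x) with a ≠ 0; or V has 81 elements (q = 3) and G is a 2-group. -/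
theorem result (q : ℕ) [Fact q.Prime] {V : Type*} [AddCommGroup V] [Module (ZMod q) V] [Finite V] [Nontrivial V]
    {G : Type*} [Group G] [Finite G] (p : ℕ) [Fact p.Prime] (hG : IsPGroup p G)
    (ρ : G →* (V ≃ₗ[ZMod q] V)) (hρ : Function.Injective ρ)
    (hhalf : ∀ v w : V, v ≠ 0 → w ≠ 0 → Nat.card {u : V | ∃ g : G, ρ g v = u} = Nat.card {u : V | ∃ g : G, ρ g w = u}) :
    ((IsCyclic G ∨ ∃ n : ℕ, Nonempty (G ≃* QuaternionGroup n)) ∧ ∀ v : V, v ≠ 0 → ∀ g : G, ρ g v = v → g = 1) ∨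
    (Nat.card V = q ^ 2 ∧ ∃ m : ℕ, q = 2 ^ m - 1 ∧
      (Nonempty (G ≃* DihedralGroup (2 ^ m)) ∨ (Cfsg.IsQuasiDihedral G ∧ Nat.card G = 2 ^ (m + 2)))) ∨
    (Nat.card V = q ^ 2 ∧ (∃ m : ℕ, q = 2 ^ m + 1) ∧
      ∃ e : V ≃ₗ[ZMod q] (Fin 2 → ZMod q), ∀ f : (Fin 2 → ZMod q) ≃ₗ[ZMod q] (Fin 2 → ZMod q),
        (∃ g : G, f = e.symm.trans ((ρ g).trans e)) ↔
        ∃ a s : ZMod q, a ≠ 0 ∧ (s = 1 ∨ s = -1) ∧
          ((∀ v, f v = ![a * v 0, s * a⁻¹ * v 1]) ∨ (∀ v, f v = ![s * a⁻¹ * v 1, a * v 0]))) ∨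
    (Nat.card V = 81 ∧ q = 3 ∧ p = 2) := by
  classical
  by_cases hpq : p = q
  · subst hpq
    haveI := Cfsg.Lib.Recog.HalfTrans.trivial_of_eq ρ hG hρ hhalf
    exact Or.inl ⟨Or.inl inferInstance, fun v _ g _ => Subsingleton.elim _ _⟩
  by_cases hs : Cfsg.Lib.Recog.HalfTrans.Semiregular ρ
  · exact Or.inl ⟨Cfsg.Lib.Recog.HalfTrans.cyclic_or_quaternion_of_semiregular ρ hG hpq hs, hs⟩
  haveI : Nontrivial G := by
    by_contra hc
    rw [not_nontrivial_iff_subsingleton] at hc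
    exact hs fun v _ g _ => Subsingleton.elim _ _
  obtain ⟨z, -, hzc0, hzo⟩ :=
    Cfsg.Lib.PGroup.exists_mem_center_orderOf_eq hG (N := (⊤ : Subgroup G)) top_ne_bot
  have hzc : ∀ g : G, Commute g z := fun g => Subgroup.mem_center_iff.1 hzc0 g
  have hz1 : z ≠ 1 := fun h => (Fact.out : p.Prime).ne_one (by rw [← hzo, h, orderOf_one])
  have hfree := Cfsg.Lib.Recog.HalfTrans.free_of_center ρ hρ hhalf hG hpq hs hzc hz1
  by_cases hA : ∃ A : Subgroup G, A.Normal ∧ IsMulCommutative A ∧ ¬ IsCyclic A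
  · obtain ⟨A, hAn, hAa, hAc⟩ := hA
    haveI := hAn
    obtain ⟨y, P⟩ := Cfsg.Lib.Recog.HalfTrans.exists_pair ρ hG hzo hzc hfree A hAa hAc
    rcases Cfsg.Lib.Recog.HalfTrans.blocks_case ρ hρ hhalf hG hpq hs P with h | h
    · exact Or.inr (Or.inr (Or.inl h))
    · exact Or.inr (Or.inr (Or.inr h))
  have hn : ∀ A : Subgroup G, A.Normal → IsMulCommutative A → IsCyclic A :=
    fun A h1 h2 => by_contra fun h3 => hA ⟨A, h1, h2, h3⟩
  by_cases hm : ∃ B : Subgroup G, IsMulCommutative B ∧ ¬ IsCyclic B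
  swap
  · have hAC : Cfsg.Lib.PGroup.OrderType.AbelianCyclic G :=
      fun B hB => by_contra fun h => hm ⟨B, hB, h⟩
    exact (Cfsg.Lib.Recog.HalfTrans.no_unique ρ hhalf hG hs hzo hfree fun y hy =>
      Cfsg.Lib.PGroup.OrderType.mem_zpowers_of_eq_orderOf hAC (hzc y).symm.eq (hzo.trans hy.symm)).elim
  obtain ⟨hp2, hQ | ⟨n, hn8, ⟨e⟩⟩ | hQD⟩ := Cfsg.Agent.S0519.result p hG hn hm
  · exact (Cfsg.Lib.Recog.HalfTrans.no_unique ρ hhalf hG hs hzo hfree fun y hy =>
      (Cfsg.Lib.Invol.zpowers_eq_of_cyclic_or_quaternion hG (Or.inr hQ) hy hzo) ▸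
        Subgroup.mem_zpowers y).elim
  · subst hp2
    obtain ⟨k, hk⟩ := IsPGroup.iff_card.1 hG
    rw [Nat.card_congr e.toEquiv, DihedralGroup.nat_card] at hk
    obtain ⟨a, -, rfl⟩ := (Nat.dvd_prime_pow Nat.prime_two).1 (Dvd.intro_left 2 hk)
    have ha : 3 ≤ a := by
      by_contra hc
      have : 2 ^ a ≤ 2 ^ 2 := Nat.pow_le_pow_right (by omega) (by omega)
      omega
    haveI : NeZero (2 ^ a) := ⟨by positivity⟩
    have hx : orderOf (e.symm (DihedralGroup.r 1)) = 2 ^ a := by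
      rw [MulEquiv.orderOf_eq, DihedralGroup.orderOf_r_one]
    have hy : e.symm (DihedralGroup.sr 0) * e.symm (DihedralGroup.sr 0) = 1 := by
      rw [← map_mul, DihedralGroup.sr_mul_self, map_one]
    have hyx : e.symm (DihedralGroup.sr 0) * e.symm (DihedralGroup.r 1) *
        (e.symm (DihedralGroup.sr 0))⁻¹ = e.symm (DihedralGroup.r 1) ^ (2 ^ a - 1) := by
      rw [← map_inv, ← map_mul, ← map_mul, ← map_pow, DihedralGroup.r_one_pow]
      congr 1
      rw [Nat.cast_sub (Nat.one_le_two_pow), ZMod.natCast_self]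
      simp
    have hy' : e.symm (DihedralGroup.sr 0) ∉ Subgroup.zpowers (e.symm (DihedralGroup.r 1)) := by
      intro h
      obtain ⟨j, hj⟩ := Subgroup.mem_zpowers_iff.1 h
      rw [← map_zpow] at hj
      have := e.symm.injective hj
      rw [DihedralGroup.r_one_zpow] at this
      simp at this
    obtain ⟨hV, ⟨-, hq⟩ | ⟨hr, -⟩⟩ := Cfsg.Lib.Recog.HalfTrans.axial_case ρ hρ hhalf hG hpq hs ha
      (Or.inl rfl) hx hy hyx hy' (by rw [Nat.card_congr e.toEquiv, DihedralGroup.nat_card])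
    · exact Or.inr (Or.inl ⟨hV, a, by omega, Or.inl ⟨e⟩⟩)
    · exfalso
      have : 2 ^ (a - 1) < 2 ^ a := Nat.pow_lt_pow_right (by omega) (by omega)
      have : 0 < 2 ^ (a - 1) := by positivity
      omega
  · subst hp2
    obtain ⟨n, hn3, hcard, x, y, hx, hy, hyx⟩ := hQD
    have hy' : y ∉ Subgroup.zpowers x := by
      intro h
      obtain ⟨j, rfl⟩ := Subgroup.mem_zpowers_iff.1 h
      rw [((Commute.refl x).zpow_left j).eq, mul_inv_cancel_right] at hyx
      have hmod := (pow_eq_pow_iff_modEq (x := x) (n := 1) (m := 2 ^ (n - 1) - 1)).1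
        (by rw [pow_one]; exact hyx)
      rw [hx] at hmod
      have h1 : 2 ^ n = 2 * 2 ^ (n - 1) := by
        rw [← pow_succ']; congr 1; omega
      have h2 : 4 ≤ 2 ^ (n - 1) := by
        calc 4 = 2 ^ 2 := by norm_num
          _ ≤ _ := Nat.pow_le_pow_right (by omega) (by omega)
      have h3 := Nat.ModEq.eq_of_lt_of_lt hmod (by omega) (by omega)
      omega
    have hyy : y * y = 1 := by rw [← pow_two, ← hy, pow_orderOf_eq_one]
    obtain ⟨hV, ⟨hr, -⟩ | ⟨-, hq⟩⟩ := Cfsg.Lib.Recog.HalfTrans.axial_case ρ hρ hhalf hG hpq hs hn3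
      (Or.inr rfl) hx hyy hyx hy' (by rw [hcard, pow_succ']) 
    · exfalso
      have : 2 ^ (n - 1) < 2 ^ n := Nat.pow_lt_pow_right (by omega) (by omega)
      have : 0 < 2 ^ (n - 1) := by positivity
      omega
    · refine Or.inr (Or.inl ⟨hV, n - 1, by omega, Or.inr ⟨?_, ?_⟩⟩)
      · exact ⟨n, hn3, hcard, x, y, hx, hy, hyx⟩
      · rw [hcard]; congr 1; omega

end Cfsg.Agent.S3371
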