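import Cfsg.Statements.S0001
import Cfsg.Agent.Lib.Coprime.Conjugacy
import Cfsg.Agent.Lib.Core.Smul

set_option autoImplicit false
open Pointwise
open Cfsg

namespace Cfsg.Agent.S0001

/-- Conjugacy half of the Schur–Zassenhaus Theorem, under a solvability assumption on the normal Hall subgroup or on its quotient. -/
theorem result {G : Type*} [Group G] [Finite G] (N : Subgroup G) [N.Normal]
    (hN : (Nat.card N).Coprime N.index) (hsolv : Group.IsSolvable N ∨ Group.IsSolvable (G ⧸ N))
    (H K : Subgroup G) (hH : Subgroup.IsComplement' N H) (hK : Subgroup.IsComplement' N K) :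
    ∃ g : G, MulAut.conj g • H = K := by
  have hHc : Nat.card H = N.index := (hH.symm.index_eq_card).symm
  have hKc : Nat.card K = N.index := (hK.symm.index_eq_card).symm
  have hcop : (Nat.card H).Coprime (Nat.card N) := by rw [hHc]; exact hN.symm
  have hsol : Group.IsSolvable H ∨ Group.IsSolvable N := by
    rcases hsolv with h | h
    · exact Or.inr h
    · left
      exact Group.isSolvable_of_surjective (f := hH.symm.QuotientMulEquiv.toMonoidHom)
        hH.symm.QuotientMulEquiv.surjective
  obtain ⟨n, -, hn⟩ := Cfsg.Lib.Coprime.exists_conj_of_coprime N H K Subgroup.le_normalizer_of_normal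
    hcop hsol (by rw [hH.sup_eq_top]; exact le_top) (hKc.trans hHc.symm)
  exact ⟨n, hn.symm⟩

end Cfsg.Agent.S0001
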