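import Cfsg.Statements.S0010
import Cfsg.Agent.Lib.Core.Cores

set_option autoImplicit false
open Cfsg

namespace Cfsg.Agent.S0010

/-- The largest normal p-subgroup of a finite group is the intersection of all its Sylow p-subgroups. -/
theorem result {G : Type*} [Group G] [Finite G] (p : ℕ) [Fact p.Prime] :
    Cfsg.pCore p G = ⨅ P : Sylow p G, (P : Subgroup G) := by
  refine le_antisymm (le_iInf fun P => Cfsg.Lib.Core.pCore_le_sylow P) ?_
  refine Cfsg.Lib.Core.le_pCore' ?_ ?_
  · rw [Cfsg.Lib.Core.normal_iff_map_conj]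
    intro g
    refine le_antisymm ?_ ?_
    · refine le_iInf fun P => ?_
      intro x hx
      rw [Cfsg.Lib.Core.mem_map_conj] at hx
      have := Subgroup.mem_iInf.1 hx (g⁻¹ • P)
      rw [Sylow.smul_def] at this
      simpa [Sylow.pointwise_smul_def, Subgroup.mem_pointwise_smul_iff_inv_smul_mem, mul_assoc] using this
    · intro x hx
      rw [Cfsg.Lib.Core.mem_map_conj, Subgroup.mem_iInf]
      intro P
      have := Subgroup.mem_iInf.1 hx (g • P)
      simpa [Sylow.smul_def, Sylow.pointwise_smul_def, Subgroup.mem_pointwise_smul_iff_inv_smul_mem, mul_assoc] using this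
  · obtain ⟨P⟩ : Nonempty (Sylow p G) := inferInstance
    exact P.isPGroup'.to_le (iInf_le _ P)

end Cfsg.Agent.S0010
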