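import Cfsg.Statements.S0014
import Cfsg.Agent.Lib.PGroup.Basic

set_option autoImplicit false
open Cfsg

namespace Cfsg.Agent.S0014

/-- Burnside's basis Theorem: in a finite p-group whose Frattini quotient has order p ^ n, every generating set contains n elements that already generate, and no set with fewer than n elements generates. -/
theorem result {G : Type*} [Group G] [Finite G] (p n : ℕ) [Fact p.Prime]
    (hG : IsPGroup p G) (hn : (frattini G).index = p ^ n) :
    (∀ S : Finset G, Subgroup.closure (S : Set G) = ⊤ → ∃ T : Finset G, T ⊆ S ∧ T.card = n ∧ Subgroup.closure (T : Set G) = ⊤) ∧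
    (∀ T : Finset G, Subgroup.closure (T : Set G) = ⊤ → n ≤ T.card) := by
  classical
  have hp : p.Prime := Fact.out
  set Φ := frattini G with hΦ
  have hc : commutator G ≤ Φ := Cfsg.Lib.PGroup.commutator_le_frattini hG
  have key : ∀ T : Finset G, ∃ T' : Finset G, T' ⊆ T ∧
      Subgroup.closure (T' : Set G) ⊔ Φ = Subgroup.closure (T : Set G) ⊔ Φ ∧
      Nat.card (Subgroup.closure (T : Set G) ⊔ Φ : Subgroup G) = p ^ T'.card * Nat.card Φ := by
    intro T
    induction T using Finset.induction with
    | empty => exact ⟨∅, subset_rfl, rfl, by simp⟩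
    | @insert x T hxT ih =>
      obtain ⟨T', hsub, heq, hcard⟩ := ih
      set K := Subgroup.closure (T : Set G) ⊔ Φ with hK
      have : K.Normal := Subgroup.Normal.of_commutator_le _ (hc.trans le_sup_right)
      have hins : Subgroup.closure ((insert x T : Finset G) : Set G) ⊔ Φ = Subgroup.zpowers x ⊔ K := by
        rw [Finset.coe_insert, Set.insert_eq, Subgroup.closure_union, ← Subgroup.zpowers_eq_closure, sup_assoc]
      by_cases hxK : x ∈ K
      · refine ⟨T', hsub.trans (Finset.subset_insert _ _), ?_, ?_⟩
        · rw [hins, heq]; exact (sup_eq_right.2 (Subgroup.zpowers_le.2 hxK)).symm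
        · rw [hins, sup_eq_right.2 (Subgroup.zpowers_le.2 hxK)]; exact hcard
      · refine ⟨insert x T', Finset.insert_subset_insert _ hsub, ?_, ?_⟩
        · rw [hins, Finset.coe_insert, Set.insert_eq, Subgroup.closure_union, ← Subgroup.zpowers_eq_closure, sup_assoc, heq]
        · have hxT' : x ∉ T' := fun h => hxT (hsub h)
          rw [hins, Finset.card_insert_of_notMem hxT', pow_succ, mul_right_comm, ← hcard]
          have h1 : K.relIndex (Subgroup.zpowers x) = p := by
            rw [← QuotientGroup.ker_mk' K, ← MonoidHom.comap_bot, Subgroup.relIndex_comap,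
              Subgroup.relIndex_bot_left, MonoidHom.map_zpowers, Nat.card_zpowers]
            refine orderOf_eq_prime ?_ fun h => hxK ((QuotientGroup.eq_one_iff x).1 h)
            rw [← map_pow]
            exact (QuotientGroup.eq_one_iff _).2 ((le_sup_right : Φ ≤ K) (Cfsg.Lib.PGroup.pow_mem_frattini hG x))
          have h2 := Subgroup.relIndex_mul_relIndex ⊥ K (Subgroup.zpowers x ⊔ K) bot_le le_sup_right
          rw [Subgroup.relIndex_sup_right, h1] at h2
          simp only [Subgroup.relIndex_bot_left] at h2
          exact h2.symm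
  have hpos : 0 < Nat.card Φ := Nat.card_pos
  have hcG : Nat.card G = p ^ n * Nat.card Φ := by rw [← hn, mul_comm]; exact (Subgroup.card_mul_index Φ).symm
  have main : ∀ S : Finset G, Subgroup.closure (S : Set G) = ⊤ →
      ∃ T : Finset G, T ⊆ S ∧ T.card = n ∧ Subgroup.closure (T : Set G) = ⊤ := by
    intro S hS
    obtain ⟨T', hsub, heq, hcard⟩ := key S
    rw [hS, top_sup_eq] at heq hcard
    rw [Subgroup.card_top, hcG] at hcard
    exact ⟨T', hsub, Nat.pow_right_injective hp.two_le (Nat.eq_of_mul_eq_mul_right hpos hcard).symm,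
      frattini_nongenerating heq⟩
  refine ⟨main, fun T hT => ?_⟩
  obtain ⟨T', hsub, hc', -⟩ := main T hT
  exact hc' ▸ Finset.card_le_card hsub

end Cfsg.Agent.S0014
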