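import Cfsg.Statements.S0029
import Cfsg.Agent.Lib.Coprime.Action

set_option autoImplicit false
open Cfsg

namespace Cfsg.Agent.S0029

/-- An action that is trivial on the Frattini quotient and coprime on the Frattini subgroup is trivial: if A normalises K, the orders of A and of the Frattini subgroup of K are coprime, and every commutator of an element of A with an element of K lies in the Frattini subgroup of K, then A centralises K. -/
theorem result {G : Type*} [Group G] [Finite G] (A K : Subgroup G)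
    (hAK : A ≤ Subgroup.normalizer (K : Set G))
    (hcop : (Nat.card A).Coprime (Nat.card (frattini K)))
    (htriv : ∀ a ∈ A, ∀ k ∈ K, a * k * a⁻¹ * k⁻¹ ∈ (frattini K).map K.subtype) :
    A ≤ Subgroup.centralizer (K : Set G) := by
  set N := (frattini K).map K.subtype with hN
  intro a ha
  have hNK : N ≤ K := Subgroup.map_subtype_le _
  have haK := hAK ha
  have haN : a ∈ Subgroup.normalizer (N : Set G) := by
    refine Subgroup.mem_normalizer_iff.2 fun x => ?_
    have key : ∀ b ∈ A, ∀ y ∈ N, b * y * b⁻¹ ∈ N := by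
      intro b hb y hy
      have h1 := htriv b hb y (hNK hy)
      have h2 := N.mul_mem h1 hy
      simpa [mul_assoc] using h2
    refine ⟨key a ha x, fun h => ?_⟩
    have h1 := key a⁻¹ (A.inv_mem ha) _ h
    simpa [mul_assoc] using h1
  have hcop' : (Nat.card (Subgroup.zpowers a)).Coprime (Nat.card N) := by
    rw [hN, Subgroup.card_map_of_injective K.subtype_injective]
    exact Nat.Coprime.coprime_dvd_left (Subgroup.card_dvd_of_le (Subgroup.zpowers_le.2 ha)) hcop
  have hZN : Subgroup.zpowers a ≤ Subgroup.normalizer (N : Set G) := Subgroup.zpowers_le.2 haN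
  have hfix : ∀ x ∈ K, ∃ n ∈ N, ∃ c ∈ K, c * a = a * c ∧ x = n * c := by
    intro x hx
    have hxa : x * a * x⁻¹ * a⁻¹ ∈ N := by
      have := N.inv_mem (htriv a ha x hx)
      simpa [mul_assoc] using this
    have hB : (Subgroup.zpowers a).map (MulAut.conj x).toMonoidHom ≤ N ⊔ Subgroup.zpowers a := by
      rw [MonoidHom.map_zpowers, Subgroup.zpowers_le]
      have := Subgroup.mul_mem_sup hxa (Subgroup.mem_zpowers a)
      simpa [mul_assoc] using this
    obtain ⟨n, hn, hBn⟩ := Cfsg.Lib.Coprime.exists_conj_of_coprime N (Subgroup.zpowers a) _ hZN hcop'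
      (Or.inl (Group.isSolvable_of_comm fun a b => mul_comm' a b)) hB (Cfsg.Lib.Coprime.card_map_conj _ _)
    refine ⟨n, hn, n⁻¹ * x, K.mul_mem (K.inv_mem (hNK hn)) hx, ?_, by group⟩
    have h1 : x * a * x⁻¹ ∈ (Subgroup.zpowers a).map (MulAut.conj n).toMonoidHom := by
      rw [← hBn]; exact ⟨a, Subgroup.mem_zpowers a, rfl⟩
    rw [Cfsg.Lib.Coprime.mem_map_conj_iff] at h1
    have h2 : n⁻¹ * x * a * (n⁻¹ * x)⁻¹ * a⁻¹ = 1 := by
      refine Subgroup.disjoint_def.1 (Cfsg.Lib.Coprime.disjoint_of_coprime_card hcop') ?_ ?_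
      · refine Subgroup.mul_mem _ ?_ (Subgroup.inv_mem _ (Subgroup.mem_zpowers a))
        simpa [mul_assoc] using h1
      · have h3 := N.mul_mem (N.mul_mem (N.inv_mem hn) hxa) ((Subgroup.mem_normalizer_iff.1 haN n).1 hn)
        simpa [mul_assoc] using h3
    rw [mul_inv_eq_one, mul_inv_eq_iff_eq_mul] at h2
    exact h2
  have htop : (Subgroup.centralizer {a}).subgroupOf K = ⊤ := by
    refine frattini_nongenerating (eq_top_iff.2 fun y _ => ?_)
    obtain ⟨n, ⟨m, hm, rfl⟩, c, hcK, hc, hy⟩ := hfix y y.2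
    have : y = m * ⟨c, hcK⟩ := Subtype.ext hy
    rw [this]
    exact Subgroup.mul_mem _ (Subgroup.mem_sup_right hm)
      (Subgroup.mem_sup_left (Subgroup.mem_centralizer_singleton_iff.2 hc))
  rw [Subgroup.mem_centralizer_iff]
  intro y hy
  exact Subgroup.mem_centralizer_singleton_iff.1 (Subgroup.subgroupOf_eq_top.1 htop hy)

end Cfsg.Agent.S0029
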