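import Cfsg.Statements.S0030
import Cfsg.Agent.Lib.Coprime.Action

set_option autoImplicit false
open Cfsg
open scoped commutatorElement

namespace Cfsg.Agent.S0030

/-- Under coprime action fixed points of a product of two invariant subgroups factor: if K = X Y with X and Y normalised by A then every A-fixed element of K is a product of an A-fixed element of X and an A-fixed element of Y. -/
theorem result {G : Type*} [Group G] [Finite G] (A K : Subgroup G) (hAK : A ≤ Subgroup.normalizer (K : Set G))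
    (hcop : (Nat.card A).Coprime (Nat.card K)) (hsolv : Group.IsSolvable A ∨ Group.IsSolvable K)
    (X Y : Subgroup G) (hX : X ≤ K) (hY : Y ≤ K) (hXA : A ≤ Subgroup.normalizer (X : Set G)) (hYA : A ≤ Subgroup.normalizer (Y : Set G))
    (hXY : ∀ k ∈ K, ∃ x ∈ X, ∃ y ∈ Y, k = x * y) (k : G) (hk : k ∈ K ⊓ Subgroup.centralizer (A : Set G)) :
    ∃ x ∈ X ⊓ Subgroup.centralizer (A : Set G), ∃ y ∈ Y ⊓ Subgroup.centralizer (A : Set G), k = x * y := by
  obtain ⟨hkK, hkC⟩ := hk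
  obtain ⟨x, hx, y, hy, rfl⟩ := hXY k hkK
  have hcomm : ∀ a ∈ A, ⁅x⁻¹, a⁆ ∈ X ⊓ Y := by
    intro a ha
    have h1 : x⁻¹ * (a * x * a⁻¹) ∈ X := X.mul_mem (X.inv_mem hx) ((Subgroup.mem_normalizer_iff.1 (hXA ha) x).1 hx)
    have h2 : y * (a * y * a⁻¹)⁻¹ ∈ Y := Y.mul_mem hy (Y.inv_mem ((Subgroup.mem_normalizer_iff.1 (hYA ha) y).1 hy))
    have hk' : a * (x * y) = (x * y) * a := Subgroup.mem_centralizer_iff.1 hkC a ha
    have heq : x⁻¹ * (a * x * a⁻¹) = y * (a * y * a⁻¹)⁻¹ := by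
      calc x⁻¹ * (a * x * a⁻¹) = x⁻¹ * (a * (x * y)) * y⁻¹ * a⁻¹ := by group
        _ = x⁻¹ * ((x * y) * a) * y⁻¹ * a⁻¹ := by rw [hk']
        _ = _ := by group
    have h3 : ⁅x⁻¹, a⁆ = x⁻¹ * (a * x * a⁻¹) := by rw [commutatorElement_def]; group
    rw [h3]
    exact ⟨h1, heq ▸ h2⟩
  obtain ⟨n, hn, c, ⟨hcK, hcC⟩, hxc⟩ := Cfsg.Lib.Coprime.exists_mul_centralizer_of_commutator_mem hAK hcop hsolv
    (inf_le_left.trans hX : X ⊓ Y ≤ K)
    ((le_inf hXA hYA).trans Subgroup.inf_normalizer_le_normalizer_inf) (K.inv_mem (hX hx)) hcomm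
  have hxeq : x = c⁻¹ * n⁻¹ := by rw [← inv_inv x, hxc, mul_inv_rev]
  have hcX : c ∈ X := by
    have h := X.mul_mem (X.inv_mem hn.1) (X.inv_mem hx)
    rw [hxc, inv_mul_cancel_left] at h
    exact h
  refine ⟨c⁻¹, ⟨X.inv_mem hcX, (Subgroup.centralizer _).inv_mem hcC⟩, n⁻¹ * y,
    ⟨Y.mul_mem (Y.inv_mem hn.2) hy, ?_⟩, by rw [hxeq]; group⟩
  have : n⁻¹ * y = c * (x * y) := by rw [hxeq]; group
  rw [this]
  exact (Subgroup.centralizer _).mul_mem hcC hkC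

end Cfsg.Agent.S0030
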