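import Cfsg.Statements.S0038
import Cfsg.Agent.Lib.Solv.FrobeniusConj

set_option autoImplicit false
open Pointwise
open Cfsg

namespace Cfsg.Agent.S0038

/-- All Frobenius complements of a finite group are conjugate to one another. -/
theorem result {G : Type*} [Group G] [Finite G] (H H₀ : Subgroup G)
    (hH : Cfsg.IsFrobeniusComplement H) (hH₀ : Cfsg.IsFrobeniusComplement H₀) :
    ∃ g : G, MulAut.conj g • H₀ = H := by
  rcases le_total (Nat.card H₀) (Nat.card H) with hle | hle
  · obtain ⟨g, hg⟩ := Cfsg.Lib.Solv.frobenius_complements_conj hH hH₀ hle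
    exact ⟨g⁻¹, by rw [hg, smul_smul, ← map_mul, inv_mul_cancel, map_one, one_smul]⟩
  · obtain ⟨g, hg⟩ := Cfsg.Lib.Solv.frobenius_complements_conj hH₀ hH hle
    exact ⟨g, hg.symm⟩

end Cfsg.Agent.S0038
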