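import Cfsg.Statements.S0041
import Cfsg.Agent.Lib.Solv.FixedPointFree
import Mathlib.GroupTheory.SpecificGroups.Cyclic

set_option autoImplicit false
open Cfsg
open scoped Pointwise

namespace Cfsg.Agent.S0041

/-- A group acting on a nontrivial abelian group so that no nonidentity element has a nonidentity fixed point is cyclic, provided it is abelian or its order is a product of two (possibly equal) primes. -/
theorem result {G : Type*} [Group G] [Finite G] (A V : Subgroup G) [IsMulCommutative V]
    (hV : V ≠ ⊥) (hAV : A ≤ Subgroup.normalizer (V : Set G)) (hfpf : ∀ a ∈ A, a ≠ 1 → V ⊓ Subgroup.centralizer {a} = ⊥)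
    (hA : IsMulCommutative A ∨ ∃ p q : ℕ, p.Prime ∧ q.Prime ∧ Nat.card A = p * q) : IsCyclic A := by
  have habel : IsMulCommutative A → IsCyclic A := fun h => Cfsg.Lib.Solv.isCyclic_of_fpf_abelian hV hAV hfpf
  rcases hA with hA | ⟨p, q, hp, hq, hcard⟩
  · exact habel hA
  have := Fact.mk hp
  have := Fact.mk hq
  rcases eq_or_ne p q with rfl | hpq
  · exact habel (IsPGroup.isMulCommutative_of_card_eq_prime_sq (by rw [hcard, sq]))
  have key : ∀ (r s : ℕ) [Fact r.Prime], r ≠ s → s.Prime → Nat.card A = r * s → ∀ P : Sylow r A,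
      Nat.card (P : Subgroup A) = r ∧ (P : Subgroup A).Normal := by
    intro r s hr hrs hs hc P
    have hP : Nat.card (P : Subgroup A) = r := by
      rw [P.card_eq_multiplicity, hc, Nat.factorization_mul hr.out.ne_zero hs.ne_zero]
      simp [hr.out.factorization, hs.factorization, Ne.symm hrs]
    refine ⟨hP, ?_⟩
    by_contra hn
    have hidx : (P : Subgroup A).index = s := by
      have := (P : Subgroup A).card_mul_index
      rw [hP, hc] at this
      exact Nat.eq_of_mul_eq_mul_left hr.out.pos this
    have hnorm : Subgroup.normalizer ((P : Subgroup A) : Set A) = (P : Subgroup A) := by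
      have hdvd := Subgroup.index_dvd_of_le (Subgroup.le_normalizer (H := (P : Subgroup A)))
      rw [hidx] at hdvd
      rcases (Nat.dvd_prime hs).1 hdvd with h | h
      · exact absurd (Subgroup.normalizer_eq_top_iff.1 (Subgroup.index_eq_one.1 h)) hn
      · have h1 := Subgroup.relIndex_mul_index (Subgroup.le_normalizer (H := (P : Subgroup A)))
        rw [h, hidx, Nat.mul_eq_right hs.ne_zero, Subgroup.relIndex_eq_one] at h1
        exact le_antisymm h1 Subgroup.le_normalizer
    refine Cfsg.Lib.Solv.not_fpf_frobenius_abelian hV hAV hfpf (P : Subgroup A) ⟨?_, ?_, fun g hg => ?_⟩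
    · intro h
      rw [h, Subgroup.card_bot] at hP
      exact hr.out.ne_one hP.symm
    · intro h
      rw [h, Subgroup.index_top] at hidx
      exact hs.ne_one hidx.symm
    · by_contra hne
      have hc' : Nat.card (MulAut.conj g • (P : Subgroup A) : Subgroup A) = r := by
        rw [Cfsg.Lib.Core.conj_smul_eq_map, Subgroup.card_map_of_injective (MulAut.conj g).injective, hP]
      have h1 : ∀ Q : Subgroup A, (P : Subgroup A) ⊓ MulAut.conj g • (P : Subgroup A) ≤ Q →
          Nat.card Q = r → (P : Subgroup A) ⊓ MulAut.conj g • (P : Subgroup A) = Q := fun Q hle hQ => by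
        refine Subgroup.eq_of_le_of_card_ge hle ?_
        rcases (Nat.dvd_prime hr.out).1 (hQ ▸ Subgroup.card_dvd_of_le hle) with h | h
        · exact absurd (Subgroup.card_eq_one.1 h) hne
        · rw [hQ]; exact le_of_eq h.symm
      have heq : MulAut.conj g • (P : Subgroup A) = (P : Subgroup A) :=
        (h1 _ inf_le_right hc').symm.trans (h1 _ inf_le_left hP)
      apply hg
      rw [← hnorm, Cfsg.Lib.Core.mem_normalizer_iff_map_conj, ← Cfsg.Lib.Core.conj_smul_eq_map]
      exact heq
  obtain ⟨P⟩ : Nonempty (Sylow p A) := inferInstance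
  obtain ⟨Q⟩ : Nonempty (Sylow q A) := inferInstance
  obtain ⟨hP, hPn⟩ := key p q hpq hq hcard P
  obtain ⟨hQ, hQn⟩ := key q p (Ne.symm hpq) hp (hcard.trans (mul_comm p q)) Q
  obtain ⟨⟨a, haP⟩, ha⟩ := exists_prime_orderOf_dvd_card' p hP.symm.dvd
  obtain ⟨⟨b, hbQ⟩, hb⟩ := exists_prime_orderOf_dvd_card' q hQ.symm.dvd
  rw [Subgroup.orderOf_mk] at ha hb
  have hcop : (Nat.card (P : Subgroup A)).Coprime (Nat.card (Q : Subgroup A)) := by
    rw [hP, hQ]; exact (Nat.coprime_primes hp hq).2 hpq
  have hdis : Disjoint (P : Subgroup A) (Q : Subgroup A) := disjoint_iff.2 (Subgroup.inf_eq_bot_of_coprime hcop)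
  have hcomm : Commute a b := Subgroup.commute_of_normal_of_disjoint _ _ hPn hQn hdis a b haP hbQ
  refine isCyclic_of_orderOf_eq_card (a * b) ?_
  rw [hcomm.orderOf_mul_eq_mul_orderOf_of_coprime (by rw [ha, hb]; exact (Nat.coprime_primes hp hq).2 hpq),
    ha, hb, hcard]

end Cfsg.Agent.S0041
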