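import Cfsg.Statements.S0048
import Cfsg.Agent.Lib.Core.PSolvable
import Cfsg.Agent.Lib.Core.Basic

set_option autoImplicit false
set_option linter.style.haveILetI false
open Cfsg

namespace Cfsg.Agent.S0048

universe u

open Subgroup Cfsg.Lib.Core in
theorem main : ∀ (n : ℕ) (G : Type u) [Group G] [Finite G] [Group.IsSolvable G], Nat.card G ≤ n →
    ∀ M : Subgroup G, IsCoatom M → IsPrimePow M.index := by
  intro n
  induction n with
  | zero => intro G _ _ _ h; exact absurd h (Nat.card_pos (α := G)).ne'.bot_lt.not_ge
  | succ n ih =>
    intro G _ _ _ hn M hM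
    haveI : Nontrivial G := by
      by_contra hs
      rw [not_nontrivial_iff_subsingleton] at hs
      exact hM.1 (Subsingleton.elim _ _)
    obtain ⟨N, hN⟩ := exists_isMinNormal_univ (G := G)
    haveI := hN.1
    obtain ⟨-, p, hp, -, hNp⟩ := minimal_solvable_elementary hN inferInstance
    haveI := Fact.mk hp
    by_cases hNM : N ≤ M
    · have hlt : Nat.card (G ⧸ N) ≤ n := by
        have h1 := N.card_mul_index
        have h2 : 1 < Nat.card N := (N.one_lt_card_iff_ne_bot).mpr hN.2.1
        have h3 : 0 < N.index := Nat.pos_of_ne_zero N.index_ne_zero_of_finite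
        rw [← index_eq_card]
        nlinarith
      have hker : (QuotientGroup.mk' N).ker ≤ M := (QuotientGroup.ker_mk' N).le.trans hNM
      have hback : (M.map (QuotientGroup.mk' N)).comap (QuotientGroup.mk' N) = M :=
        comap_map_eq_self hker
      have hM' : IsCoatom (M.map (QuotientGroup.mk' N)) := by
        refine ⟨fun h => hM.1 (by rw [← hback, h, comap_top]), fun K hK => ?_⟩
        have h2 : M < K.comap (QuotientGroup.mk' N) := by
          rw [← hback]
          exact (comap_lt_comap_of_surjective (QuotientGroup.mk'_surjective N)).mpr hK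
        have := congrArg (Subgroup.map (QuotientGroup.mk' N)) (hM.2 _ h2)
        rwa [map_comap_eq_self_of_surjective (QuotientGroup.mk'_surjective N),
          map_top_of_surjective _ (QuotientGroup.mk'_surjective N)] at this
      have := ih (G ⧸ N) hlt _ hM'
      rwa [index_map_eq _ (QuotientGroup.mk'_surjective N) hker] at this
    · have htop : M ⊔ N = ⊤ := hM.2 _ (left_lt_sup.mpr hNM)
      have hdvd : M.index ∣ Nat.card N := by
        have h1 : N.relIndex M = N.index := by
          rw [← relIndex_sup_right (H := M) (K := N), htop, relIndex_top_right]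
        have h2 := card_mul_relIndex (H := N ⊓ M) (K := M) inf_le_right
        rw [inf_relIndex_right, h1] at h2
        have h3 := M.card_mul_index
        rw [← N.card_mul_index, ← h2] at h3
        refine ⟨Nat.card (N ⊓ M : Subgroup G), ?_⟩
        have h4 : 0 < N.index := Nat.pos_of_ne_zero N.index_ne_zero_of_finite
        apply Nat.eq_of_mul_eq_mul_right h4
        rw [← h3]
        ring
      obtain ⟨a, ha⟩ := IsPGroup.iff_card.mp hNp
      rw [ha] at hdvd
      obtain ⟨b, -, hb⟩ := (Nat.dvd_prime_pow hp).mp hdvd
      refine hb ▸ hp.isPrimePow.pow ?_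
      intro hb0
      rw [hb0, pow_zero] at hb
      exact hM.1 (index_eq_one.mp hb)

/-- In a finite solvable group every maximal subgroup has index a prime power. -/
theorem result {G : Type*} [Group G] [Finite G] [Group.IsSolvable G]
    (M : Subgroup G) (hM : IsCoatom M) : IsPrimePow M.index := by
  exact main (Nat.card G) G le_rfl M hM

end Cfsg.Agent.S0048
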