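import Cfsg.Statements.S0050
import Cfsg.Agent.Lib.Solv.Hall

set_option autoImplicit false
open Cfsg
open scoped Pointwise

namespace Cfsg.Agent.S0050

/-- Frattini argument for Hall subgroups: if L is a solvable normal subgroup and H a subgroup of L of order coprime to its index in L, then L together with the normaliser of H generates the whole group. -/
theorem result {G : Type*} [Group G] [Finite G] (L : Subgroup G) [L.Normal] (hL : Group.IsSolvable L)
    (H : Subgroup G) (hHL : H ≤ L) (hHall : (Nat.card H).Coprime (H.relIndex L)) :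
    L ⊔ Subgroup.normalizer (H : Set G) = ⊤ := by
  have := hL
  refine eq_top_iff.2 fun g _ => ?_
  set H' := H.map (MulAut.conj g).toMonoidHom
  have hH'L : H' ≤ L := by
    rintro _ ⟨h, hh, rfl⟩
    exact ‹L.Normal›.conj_mem h (hHL hh) g
  have hc : ∀ K : Subgroup G, K ≤ L → Nat.card (K.subgroupOf L) = Nat.card K := fun K hK =>
    Nat.card_congr (Subgroup.subgroupOfEquivOfLe hK).toEquiv
  obtain ⟨l, hl⟩ := Cfsg.Lib.Solv.hall_conj (G := L) (m := Nat.card H) (k := H.relIndex L)
    (Cfsg.Lib.Core.card_mul_relIndex hHL).symm hHall (H := H'.subgroupOf L) (K := H.subgroupOf L)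
    (by rw [hc _ hH'L]; exact Subgroup.card_map_of_injective (MulAut.conj g).injective) (hc _ hHL)
  have hn : (l : G) * g ∈ Subgroup.normalizer (H : Set G) := by
    rw [Cfsg.Lib.Core.mem_normalizer_iff_map_conj]
    refine Subgroup.eq_of_le_of_card_ge ?_ (by rw [Subgroup.card_map_of_injective (MulAut.conj ((l : G) * g)).injective])
    rintro _ ⟨h, hh, rfl⟩
    have hm : g * h * g⁻¹ ∈ H' := ⟨h, hh, rfl⟩
    have h1 : (⟨g * h * g⁻¹, hH'L hm⟩ : L) ∈ H'.subgroupOf L := hm
    have h2 : l * ⟨g * h * g⁻¹, hH'L hm⟩ * l⁻¹ ∈ H.subgroupOf L := by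
      rw [← hl, Cfsg.Lib.Core.mem_conj_smul]
      simpa [mul_assoc] using h1
    rw [Subgroup.mem_subgroupOf] at h2
    simpa [mul_assoc] using h2
  have hg : g = (l : G)⁻¹ * ((l : G) * g) := (inv_mul_cancel_left _ _).symm
  rw [hg]
  exact Subgroup.mul_mem_sup (L.inv_mem l.2) hn

end Cfsg.Agent.S0050
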