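import Cfsg.Statements.S0054
import Cfsg.Agent.Lib.PGroup.Basic

set_option autoImplicit false
open Cfsg

namespace Cfsg.Agent.S0054

/-- A regular normal subgroup of a finite 2-transitive group is elementary abelian: it is commutative and all its elements have order dividing one prime. -/
theorem result {G : Type*} [Group G] [Finite G]
    {X : Type*} [Nonempty X] [MulAction G X] (h2 : MulAction.IsMultiplyPretransitive G X 2)
    (N : Subgroup G) [N.Normal] (htrans : MulAction.IsPretransitive N X) (hreg : ∀ x : X, MulAction.stabilizer N x = ⊥) :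
    IsMulCommutative N ∧ ∃ p : ℕ, p.Prime ∧ ∀ n ∈ N, n ^ p = 1 := by
  obtain ⟨x⟩ := ‹Nonempty X›
  have hinj : ∀ a b : N, a • x = b • x → a = b := fun a b h => by
    have : b⁻¹ * a ∈ MulAction.stabilizer N x := by
      rw [MulAction.mem_stabilizer_iff, mul_smul, h, inv_smul_smul]
    rw [hreg x, Subgroup.mem_bot, inv_mul_eq_one] at this
    exact this.symm
  have hconj : ∀ a b : N, a ≠ 1 → b ≠ 1 → ∃ g : G, g * (a : G) * g⁻¹ = b := by
    intro a b ha hb
    have hax : (a : G) • x ≠ x := fun h => ha (hinj a 1 (by rw [one_smul]; exact h))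
    have hbx : (b : G) • x ≠ x := fun h => hb (hinj b 1 (by rw [one_smul]; exact h))
    obtain ⟨g, hg1, hg2⟩ := MulAction.is_two_pretransitive_iff.1 h2 (Ne.symm hax) (Ne.symm hbx)
    refine ⟨g, ?_⟩
    have hmem : g * (a : G) * g⁻¹ ∈ N := ‹N.Normal›.conj_mem _ a.2 g
    have heq : (⟨_, hmem⟩ : N) = b := hinj _ _ (by
      change (g * (a : G) * g⁻¹) • x = (b : G) • x
      have : g⁻¹ • x = x := by rw [inv_smul_eq_iff]; exact hg1.symm
      rw [mul_smul, mul_smul, this]; exact hg2)
    exact congrArg Subtype.val heq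
  rcases subsingleton_or_nontrivial N with hsub | hnt
  · exact ⟨⟨⟨fun a b => Subsingleton.elim _ _⟩⟩, 2, Nat.prime_two, fun n hn => by
      have h : (⟨n, hn⟩ : N) = 1 := Subsingleton.elim _ _
      have h' : n = 1 := congrArg Subtype.val h
      rw [h', one_pow]⟩
  obtain ⟨p, hp, hpd⟩ := Nat.exists_prime_and_dvd (n := Nat.card N) (Finite.one_lt_card.ne')
  have := Fact.mk hp
  obtain ⟨a, ha⟩ := exists_prime_orderOf_dvd_card' p hpd
  have ha1 : a ≠ 1 := by rintro rfl; rw [orderOf_one] at ha; exact hp.ne_one ha.symm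
  have hpow : ∀ b : N, b ^ p = 1 := by
    intro b
    by_cases hb : b = 1
    · rw [hb, one_pow]
    obtain ⟨g, hg⟩ := hconj a b ha1 hb
    apply Subtype.ext
    push_cast
    have : (a : G) ^ p = 1 := by rw [← SubmonoidClass.coe_pow, ← ha, pow_orderOf_eq_one]; rfl
    rw [← hg, conj_pow, this, mul_one, mul_inv_cancel]
  have hpg : IsPGroup p N := fun b => ⟨1, by rw [pow_one, hpow b]⟩
  have hz : Nontrivial (Subgroup.center N) := hpg.center_nontrivial
  obtain ⟨⟨z, hzc⟩, hz1⟩ := exists_ne (1 : Subgroup.center N)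
  refine ⟨⟨⟨fun b c => ?_⟩⟩, p, hp, fun n hn => congrArg Subtype.val (hpow ⟨n, hn⟩)⟩
  by_cases hb : b = 1
  · rw [hb, one_mul, mul_one]
  obtain ⟨g, hg⟩ := hconj z b (fun h => hz1 (Subtype.ext h)) hb
  let c' : N := ⟨g⁻¹ * c * g, by simpa using ‹N.Normal›.conj_mem _ c.2 g⁻¹⟩
  have hzz : (z : G) * c' = c' * z := congrArg Subtype.val (Subgroup.mem_center_iff.1 hzc c').symm
  apply Subtype.ext
  push_cast
  rw [← hg]
  simp only [c'] at hzz
  calc g * (z : G) * g⁻¹ * c = g * ((z : G) * (g⁻¹ * c * g)) * g⁻¹ := by group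
    _ = _ := by rw [hzz]; group

end Cfsg.Agent.S0054
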