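import Cfsg.Statements.S0056
import Cfsg.Agent.Lib.Coprime.Action

set_option autoImplicit false
open Cfsg

namespace Cfsg.Agent.S0056

/-- A coprime action on an abelian group that fixes all elements of prime order is trivial. -/
theorem result {G : Type*} [Group G] [Finite G] (A V : Subgroup G) [IsMulCommutative V]
    (hAV : A ≤ Subgroup.normalizer (V : Set G)) (hcop : (Nat.card A).Coprime (Nat.card V))
    (hΩ : ∀ v ∈ V, (orderOf v).Prime → ∀ a ∈ A, a * v = v * a) : A ≤ Subgroup.centralizer (V : Set G) := by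
  rw [Subgroup.le_centralizer_iff, ← Subgroup.commutator_eq_bot_iff_le_centralizer]
  by_contra hne
  obtain ⟨p, hp, hpd⟩ := Nat.exists_prime_and_dvd (n := Nat.card (⁅V, A⁆ : Subgroup G))
    (fun h => hne ((Subgroup.card_eq_one).1 h))
  have := Fact.mk hp
  obtain ⟨⟨v, hv⟩, hord⟩ := exists_prime_orderOf_dvd_card' p hpd
  rw [Subgroup.orderOf_mk] at hord
  have hvV : v ∈ V := Cfsg.Lib.Coprime.commutator_le_of_le_normalizer hAV hv
  have hvC : v ∈ Subgroup.centralizer (A : Set G) :=
    Subgroup.mem_centralizer_iff.2 fun a ha => hΩ v hvV (hord.symm ▸ hp) a ha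
  have hbot := (Cfsg.Lib.Coprime.disjoint_commutator_centralizer hAV hcop).le_bot ⟨hv, hvC⟩
  rw [Subgroup.mem_bot] at hbot
  rw [hbot, orderOf_one] at hord
  exact hp.ne_one hord.symm

end Cfsg.Agent.S0056
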