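import Cfsg.Statements.S0057
import Cfsg.Agent.Lib.Coprime.Action
import Cfsg.Agent.Lib.Core.Basic
import Mathlib.GroupTheory.IndexNormal
import Mathlib.GroupTheory.SpecificGroups.Cyclic

set_option autoImplicit false
open Cfsg
open scoped commutatorElement

namespace Cfsg.Agent.S0057

/-- Under coprime action, if the centraliser of A in K has prime index p in K then the commutator subgroup [K, A] has order exactly p. -/
theorem result {G : Type*} [Group G] [Finite G] (A K : Subgroup G) (hAK : A ≤ Subgroup.normalizer (K : Set G))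
    (hcop : (Nat.card A).Coprime (Nat.card K)) (hsolv : Group.IsSolvable A ∨ Group.IsSolvable K)
    (p : ℕ) (hp : p.Prime) (hidx : (K ⊓ Subgroup.centralizer (A : Set G)).relIndex K = p) :
    Nat.card (⁅K, A⁆ : Subgroup G) = p := by
  classical
  have := Fact.mk hp
  set C := K ⊓ Subgroup.centralizer (A : Set G) with hC
  obtain ⟨P, hP⟩ := Cfsg.Lib.Coprime.exists_invariant_sylow hAK hcop hsolv p
  set P' := (P : Subgroup K).map K.subtype with hP'
  have hP'K : P' ≤ K := Subgroup.map_subtype_le _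
  have hcopP := Cfsg.Lib.Coprime.coprime_of_le hP'K hcop
  have hsolP := Cfsg.Lib.Coprime.sol_of_le hP'K hsolv
  set R := ⁅P', A⁆ with hR
  set M := P' ⊓ Subgroup.centralizer (A : Set G) with hM
  have hsup : R ⊔ M = P' := Cfsg.Lib.Coprime.commutator_sup_centralizer_eq hP hcopP hsolP
  have hRP : R ≤ P' := Cfsg.Lib.Coprime.commutator_le_of_le_normalizer hP
  have hAR : A ≤ Subgroup.normalizer (R : Set G) := Subgroup.normalizer_commutator_ge_right P' A
  have hMR : ⁅R, M⁆ = ⊥ := by
    have hsn : P' ≤ Subgroup.normalizer (M : Set G) := by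
      have hidx : (M.subgroupOf P').index ≤ p := by
        calc (M.subgroupOf P').index = C.relIndex P' := by
              change M.relIndex P' = _
              rw [← Subgroup.inf_relIndex_right C P', hC, inf_right_comm, inf_eq_right.2 hP'K]
        _ ≤ C.relIndex K := Subgroup.relIndex_le_of_le_right hP'K (hidx.symm ▸ hp.ne_zero)
        _ = p := hidx
      have hPpg : IsPGroup p P' := P.isPGroup'.map K.subtype
      obtain ⟨n, hn⟩ := IsPGroup.iff_card.1 hPpg
      have hdvd : (M.subgroupOf P').index ∣ p ^ n := hn ▸ Subgroup.index_dvd_card _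
      obtain ⟨j, -, hj⟩ := (Nat.dvd_prime_pow hp).1 hdvd
      have : j ≤ 1 := by
        by_contra hj1
        have := Nat.pow_lt_pow_right hp.one_lt (show 1 < j by omega)
        rw [pow_one, ← hj] at this
        omega
      rw [← Subgroup.normal_subgroupOf_iff_le_normalizer inf_le_left]
      rcases Nat.le_one_iff_eq_zero_or_eq_one.1 this with rfl | rfl
      · rw [pow_zero, Subgroup.index_eq_one] at hj
        rw [hj]; infer_instance
      · refine Subgroup.normal_of_index_eq_minFac_card ?_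
        have hn0 : n ≠ 0 := by
          rintro rfl
          rw [pow_zero, Nat.dvd_one, hj, pow_one] at hdvd
          exact hp.ne_one hdvd
        rw [hj, pow_one, hn, Nat.pow_minFac hn0, hp.minFac_eq]
    have h1 : ⁅⁅A, M⁆, P'⁆ = ⊥ := by
      have : ⁅A, M⁆ = ⊥ := Subgroup.commutator_eq_bot_iff_le_centralizer.2
        (Subgroup.le_centralizer_iff.1 inf_le_right)
      rw [this, Subgroup.commutator_bot_left]
    have h2 : ⁅⁅M, P'⁆, A⁆ = ⊥ := by
      refine Subgroup.commutator_eq_bot_iff_le_centralizer.2 ?_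
      rw [Subgroup.commutator_comm]
      exact (Subgroup.le_normalizer_iff_commutator_le_right.1 hsn).trans inf_le_right
    exact Subgroup.commutator_commutator_eq_bot_of_rotate h1 h2
  have hRR : ⁅R, A⁆ = R := Cfsg.Lib.Coprime.commutator_commutator_eq hP hcopP hsolP
  have hcopR := Cfsg.Lib.Coprime.coprime_of_le hRP hcopP
  have hrel : C.relIndex R ≤ p := by
    rw [← hidx]; exact Subgroup.relIndex_le_of_le_right (hRP.trans hP'K) (hidx.symm ▸ hp.ne_zero)
  have hRpg : IsPGroup p R := (P.isPGroup'.map K.subtype).to_le hRP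
  have hCR : (C.subgroupOf R) ≤ Subgroup.center R := by
    intro x hx
    refine Subgroup.mem_center_iff.2 fun y => Subtype.ext ?_
    exact (Subgroup.mem_centralizer_iff.1 (Subgroup.commutator_eq_bot_iff_le_centralizer.1 hMR y.2) x
      ⟨hRP x.2, hx.2⟩).symm
  have hab : IsMulCommutative R := by
    have hn : (C.subgroupOf R).Normal := ⟨fun n hn g => by rw [Subgroup.mem_center_iff.1 (hCR hn) g, mul_inv_cancel_right]; exact hn⟩
    have hcy : IsCyclic (R ⧸ C.subgroupOf R) := by
      obtain ⟨n, hn⟩ := IsPGroup.iff_card.1 (hRpg.to_quotient (C.subgroupOf R))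
      have hle : p ^ n ≤ p := by rw [← hn]; exact hrel
      have : n ≤ 1 := by
        by_contra h1
        have := Nat.pow_lt_pow_right hp.one_lt (show 1 < n by omega)
        rw [pow_one] at this
        omega
      rcases Nat.le_one_iff_eq_zero_or_eq_one.1 this with rfl | rfl
      · have : Subsingleton (R ⧸ C.subgroupOf R) := (Nat.card_eq_one_iff_unique.1 (by simpa using hn)).1
        infer_instance
      · exact isCyclic_of_prime_card (by simpa using hn)
    exact (QuotientGroup.mk' (C.subgroupOf R)).isMulCommutative_of_isCyclic_of_ker_le_center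
      (by rwa [QuotientGroup.ker_mk'])
  have hd : Disjoint R (Subgroup.centralizer (A : Set G)) := by
    have := Cfsg.Lib.Coprime.disjoint_commutator_centralizer hAR hcopR
    rwa [hRR] at this
  have hRne : R ≠ ⊥ := by
    intro hbot
    have hPC : P' ≤ C := by
      refine le_inf hP'K ?_
      rw [← Subgroup.commutator_eq_bot_iff_le_centralizer]
      exact hbot
    have h := hidx ▸ Subgroup.relIndex_dvd_of_le_left K hPC
    rw [hP', Subgroup.relIndex, Subgroup.subgroupOf,
      Subgroup.comap_map_eq_self_of_injective K.subtype_injective] at h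
    exact P.not_dvd_index h
  have hCdis : Disjoint C R := (hd.symm.mono_left inf_le_right)
  have hRcard : Nat.card R = p := by
    rw [← Subgroup.inf_relIndex_right, disjoint_iff.1 hCdis, Subgroup.relIndex_bot_left] at hrel
    obtain ⟨n, hn⟩ := IsPGroup.iff_card.1 hRpg
    rcases Nat.eq_zero_or_pos n with rfl | hn0
    · exact absurd (Subgroup.card_eq_one.1 (by simpa using hn)) hRne
    · exact le_antisymm hrel (hn.symm ▸ Nat.le_self_pow hn0.ne' p)
  have hdec : ∀ k ∈ K, ∃ r ∈ R, ∃ c ∈ C, k = r * c := by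
    intro k hk
    let f : R × C → K := fun rc => ⟨rc.1 * rc.2, K.mul_mem (hP'K (hRP rc.1.2)) rc.2.2.1⟩
    have hinj : Function.Injective f := fun u v huv => by
      obtain ⟨h1, h2⟩ := Cfsg.Lib.Coprime.eq_of_mul_eq_mul_of_disjoint hCdis.symm u.1.2 v.1.2 u.2.2 v.2.2 (congrArg Subtype.val huv)
      exact Prod.ext (Subtype.ext h1) (Subtype.ext h2)
    have hbij := (Nat.bijective_iff_injective_and_card f).2 ⟨hinj, by
      rw [Nat.card_prod, hRcard, ← Cfsg.Lib.Core.card_mul_relIndex (H := C) (K := K) inf_le_left, hidx, mul_comm]⟩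
    obtain ⟨⟨r, c⟩, h⟩ := hbij.2 ⟨k, hk⟩
    exact ⟨r, r.2, c, c.2, (congrArg Subtype.val h).symm⟩
  obtain ⟨a, ha, r₀, hr₀, hne⟩ : ∃ a ∈ A, ∃ r ∈ R, a * r ≠ r * a := by
    by_contra h
    push Not at h
    exact hRne (eq_bot_iff.2 fun r hr => hd.le_bot ⟨hr, Subgroup.mem_centralizer_iff.2 fun a ha => h a ha r hr⟩)
  let f : R → R := fun r => ⟨⁅(r : G), a⁆,
    Cfsg.Lib.Coprime.commutator_le_of_le_normalizer hAR (Subgroup.commutator_mem_commutator r.2 ha)⟩
  have hfix : ∀ r ∈ R, r * a = a * r → r = 1 := by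
    intro r hr hra
    by_contra h1
    have hz : Subgroup.zpowers r = R := by
      refine Subgroup.eq_of_le_of_card_ge (Subgroup.zpowers_le.2 hr) ?_
      rcases (Nat.dvd_prime hp).1 (hRcard ▸ Subgroup.card_dvd_of_le (Subgroup.zpowers_le.2 hr)) with h | h
      · exact absurd (Subgroup.zpowers_eq_bot.1 (Subgroup.card_eq_one.1 h)) h1
      · rw [h, hRcard]
    rw [← hz] at hr₀
    obtain ⟨i, rfl⟩ := hr₀
    exact hne ((show Commute r a from hra).symm.zpow_right i)
  have hfinj : Function.Injective f := by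
    intro u v huv
    have h : ⁅(u : G), a⁆ = ⁅(v : G), a⁆ := congrArg Subtype.val huv
    simp only [commutatorElement_def, mul_left_inj] at h
    have h2 := hfix ((v : G)⁻¹ * u) (R.mul_mem (R.inv_mem v.2) u.2) (by
      calc (v : G)⁻¹ * u * a = (v : G)⁻¹ * ((u : G) * a * (u : G)⁻¹) * u := by group
        _ = a * ((v : G)⁻¹ * u) := by rw [h]; group)
    exact Subtype.ext (inv_mul_eq_one.1 h2).symm
  have hsurj := Finite.surjective_of_injective hfinj
  have hcen : ∀ c ∈ C, ∀ b ∈ A, c * b = b * c := fun c hc b hb => (Subgroup.mem_centralizer_iff.1 hc.2 b hb).symm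
  have hnorm : ∀ c ∈ C, ∀ s ∈ R, c * s * c⁻¹ ∈ R := by
    intro c hc s hs
    obtain ⟨r, hr⟩ := hsurj ⟨s, hs⟩
    have hr' : ⁅(r : G), a⁆ = s := congrArg Subtype.val hr
    obtain ⟨r', hr'R, c', hc', he⟩ := hdec (c * r * c⁻¹) (K.mul_mem (K.mul_mem hc.1 (hP'K (hRP r.2))) (K.inv_mem hc.1))
    have : c * s * c⁻¹ = ⁅r', a⁆ := by
      have hca : c⁻¹ * a⁻¹ = a⁻¹ * c⁻¹ := by rw [← mul_inv_rev, ← mul_inv_rev, hcen c hc a ha]
      have hca' : c * a = a * c := hcen c hc a ha
      have hc'a : c' * a = a * c' := hcen c' hc' a ha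
      rw [← hr']
      calc c * ⁅(r : G), a⁆ * c⁻¹ = c * r * a * (r : G)⁻¹ * (a⁻¹ * c⁻¹) := by rw [commutatorElement_def]; group
        _ = c * r * (c⁻¹ * (c * a)) * (r : G)⁻¹ * (a⁻¹ * c⁻¹) := by group
        _ = c * r * (c⁻¹ * (a * c)) * (r : G)⁻¹ * (c⁻¹ * a⁻¹) := by rw [hca', hca]
        _ = (c * r * c⁻¹) * a * (c * r * c⁻¹)⁻¹ * a⁻¹ := by group
        _ = (r' * c') * a * (r' * c')⁻¹ * a⁻¹ := by rw [he]
        _ = r' * (c' * a) * c'⁻¹ * r'⁻¹ * a⁻¹ := by group
        _ = ⁅r', a⁆ := by rw [hc'a, commutatorElement_def]; group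
    rw [this]
    exact Cfsg.Lib.Coprime.commutator_le_of_le_normalizer hAR (Subgroup.commutator_mem_commutator hr'R ha)
  have hKA : (⁅K, A⁆ : Subgroup G) = R := by
    refine le_antisymm (Subgroup.commutator_le.2 fun k hk b hb => ?_) (Subgroup.commutator_mono hP'K le_rfl)
    obtain ⟨r, hr, c, hc, rfl⟩ := hdec k hk
    have : ⁅r * c, b⁆ = ⁅r, b⁆ := by
      rw [commutatorElement_def, commutatorElement_def]
      calc r * c * b * (r * c)⁻¹ * b⁻¹ = r * (c * b) * c⁻¹ * r⁻¹ * b⁻¹ := by group
        _ = _ := by rw [hcen c hc b hb]; group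
    rw [this]
    exact Cfsg.Lib.Coprime.commutator_le_of_le_normalizer hAR (Subgroup.commutator_mem_commutator hr hb)
  rw [hKA, hRcard]

end Cfsg.Agent.S0057
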