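import Cfsg.Statements.S0059
import Cfsg.Agent.Lib.Coprime.Action

set_option autoImplicit false
open Cfsg

namespace Cfsg.Agent.S0059

/-- Let a finite group act on a set on which a normal subgroup K of coprime order and index is transitive, with K or the quotient solvable. Then any complement H of K has a fixed point, and any two H-fixed points are interchanged by an element of K centralising H. -/
theorem result {G : Type*} [Group G] [Finite G] {X : Type*} [Nonempty X] [MulAction G X]
    (K H : Subgroup G) [K.Normal] (hc : Subgroup.IsComplement' K H) (hcop : (Nat.card K).Coprime K.index)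
    (hsolv : Group.IsSolvable K ∨ Group.IsSolvable (G ⧸ K)) (htrans : MulAction.IsPretransitive K X) :
    (∃ x : X, ∀ h ∈ H, h • x = x) ∧
    ∀ x y : X, (∀ h ∈ H, h • x = x) → (∀ h ∈ H, h • y = y) → ∃ k ∈ K ⊓ Subgroup.centralizer (H : Set G), k • x = y := by
  classical
  have hHcard : Nat.card H = K.index := (hc.symm.index_eq_card).symm
  have hcopH : (Nat.card H).Coprime (Nat.card K) := by rw [hHcard]; exact hcop.symm
  have hHK : H ≤ Subgroup.normalizer (K : Set G) := by rw [Subgroup.normalizer_eq_top]; exact le_top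
  have hsol : Group.IsSolvable H ∨ Group.IsSolvable K := by
    rcases hsolv with h | h
    · exact Or.inr h
    · left
      haveI := h
      exact Group.isSolvable_of_surjective (f := (hc.symm.QuotientMulEquiv).toMonoidHom)
        (MulEquiv.surjective _)
  constructor
  · obtain ⟨x⟩ := ‹Nonempty X›
    set S := MulAction.stabilizer G x
    have hKS : K ⊔ S = ⊤ := by
      refine top_le_iff.1 fun g _ => ?_
      obtain ⟨k, hk⟩ := htrans.exists_smul_eq x (g • x)
      have h1 : (k : G)⁻¹ * g ∈ S := by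
        rw [MulAction.mem_stabilizer_iff, mul_smul, ← hk]
        exact inv_smul_smul (k : G) x
      have := mul_mem (Subgroup.mem_sup_left (T := S) k.2) (Subgroup.mem_sup_right (S := K) h1)
      rwa [mul_inv_cancel_left] at this
    have hidx : (K ⊓ S).relIndex S = Nat.card H := by
      rw [Subgroup.inf_relIndex_right, ← Subgroup.relIndex_sup_right S K, sup_comm, hKS,
        Subgroup.relIndex_top_right, hHcard]
    obtain ⟨U, hUS, hUc, -⟩ := Cfsg.Lib.Coprime.exists_complement_of_coprime (N := K ⊓ S) (H := S) inf_le_right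
      (le_trans (le_inf (by rw [Subgroup.normalizer_eq_top]; exact le_top) Subgroup.le_normalizer)
        Subgroup.inf_normalizer_le_normalizer_inf)
      (by rw [hidx]; exact hcopH.symm.coprime_dvd_left (Subgroup.card_dvd_of_le inf_le_left))
    obtain ⟨n, hn, hU⟩ := Cfsg.Lib.Coprime.exists_conj_of_coprime K H U hHK hcopH hsol
      (by rw [hc.sup_eq_top]; exact le_top) (hUc.trans hidx)
    refine ⟨n⁻¹ • x, fun h hh => ?_⟩
    have h1 : n * h * n⁻¹ ∈ S := hUS (hU ▸ ⟨h, hh, rfl⟩ : n * h * n⁻¹ ∈ U)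
    rw [MulAction.mem_stabilizer_iff, mul_smul, mul_smul] at h1
    exact eq_inv_smul_iff.2 h1
  · intro x y hx hy
    obtain ⟨k, hk⟩ := htrans.exists_smul_eq x y
    have hk' : (k : G) • x = y := hk
    set S := MulAction.stabilizer G y
    set L := K ⊓ S
    have hHS : H ≤ S := fun h hh => hy h hh
    have hHL : H ≤ Subgroup.normalizer (L : Set G) :=
      le_trans (le_inf hHK (hHS.trans Subgroup.le_normalizer)) Subgroup.inf_normalizer_le_normalizer_inf
    set B := H.map (MulAut.conj (k : G)).toMonoidHom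
    have hBL : B ≤ L ⊔ H := by
      rintro _ ⟨h, hh, rfl⟩
      have h1 : (k : G) * h * (k : G)⁻¹ ∈ S := by
        rw [MulAction.mem_stabilizer_iff, mul_smul, mul_smul, ← hk', inv_smul_smul, hx h hh]
      have h2 : (k : G) * h * (k : G)⁻¹ * h⁻¹ ∈ L := by
        refine ⟨?_, S.mul_mem h1 (S.inv_mem (hHS hh))⟩
        have h3 := mul_mem k.2 (‹K.Normal›.conj_mem _ (inv_mem k.2) h)
        have e : (k : G) * h * (k : G)⁻¹ * h⁻¹ = (k : G) * (h * (k : G)⁻¹ * h⁻¹) := by group
        rw [e]; exact h3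
      have := mul_mem (Subgroup.mem_sup_left (T := H) h2) (Subgroup.mem_sup_right (S := L) hh)
      rwa [inv_mul_cancel_right] at this
    obtain ⟨c, hc', hB⟩ := Cfsg.Lib.Coprime.exists_conj_of_coprime L H B hHL
      (hcopH.coprime_dvd_right (Subgroup.card_dvd_of_le inf_le_left))
      (hsol.imp id fun h => Cfsg.Lib.Coprime.isSolvable_of_le inf_le_left h) hBL
      (Cfsg.Lib.Coprime.card_map_conj H k)
    refine ⟨c⁻¹ * k, ⟨K.mul_mem (K.inv_mem hc'.1) k.2, ?_⟩, ?_⟩
    · refine Subgroup.mem_centralizer_iff.2 fun h hh => ?_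
      have h1 : (k : G) * h * (k : G)⁻¹ ∈ H.map (MulAut.conj c).toMonoidHom := hB ▸ ⟨h, hh, rfl⟩
      obtain ⟨h', hh', he⟩ := h1
      have he' : c * h' * c⁻¹ = (k : G) * h * (k : G)⁻¹ := he
      have h2 : (c⁻¹ * (k : G)) * h * (c⁻¹ * (k : G))⁻¹ * h⁻¹ ∈ K ⊓ H := by
        have e : (c⁻¹ * (k : G)) * h * (c⁻¹ * (k : G))⁻¹ = h' := by
          calc (c⁻¹ * (k : G)) * h * (c⁻¹ * (k : G))⁻¹ = c⁻¹ * ((k : G) * h * (k : G)⁻¹) * c := by group
            _ = h' := by rw [← he']; group
        refine ⟨?_, ?_⟩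
        · have hd : c⁻¹ * (k : G) ∈ K := K.mul_mem (K.inv_mem hc'.1) k.2
          have h3 := mul_mem hd (‹K.Normal›.conj_mem _ (inv_mem hd) h)
          have e' : (c⁻¹ * (k : G)) * h * (c⁻¹ * (k : G))⁻¹ * h⁻¹ = (c⁻¹ * (k : G)) * (h * (c⁻¹ * (k : G))⁻¹ * h⁻¹) := by group
          rw [e']; exact h3
        · rw [e]; exact H.mul_mem hh' (H.inv_mem hh)
      rw [hc.disjoint.eq_bot, Subgroup.mem_bot, mul_inv_eq_one] at h2
      exact (mul_inv_eq_iff_eq_mul.1 h2).symm
    · rw [mul_smul, hk']
      exact inv_smul_eq_iff.2 ((show c • y = y from hc'.2).symm)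

end Cfsg.Agent.S0059
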