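import Cfsg.Statements.S0060
import Cfsg.Agent.Lib.Core.Cores
import Cfsg.Agent.Lib.Core.Smul

set_option autoImplicit false
open Pointwise
open Cfsg

namespace Cfsg.Agent.S0060

/-- Brodkey's Theorem: in a finite group with abelian Sylow p-subgroups and no nontrivial normal p-subgroup, some conjugate of a Sylow p-subgroup meets it trivially. -/
theorem result {G : Type*} [Group G] [Finite G] (p : ℕ) [Fact p.Prime]
    (S : Sylow p G) (hS : IsMulCommutative S) (hOp : Cfsg.pCore p G = ⊥) :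
    ∃ g : G, (S : Subgroup G) ⊓ MulAut.conj g • (S : Subgroup G) = ⊥ := by
  classical
  obtain ⟨⟨A, B⟩, hmin⟩ := Finite.exists_min fun x : Sylow p G × Sylow p G =>
    Nat.card ↥((x.1 : Subgroup G) ⊓ (x.2 : Subgroup G))
  set D := (A : Subgroup G) ⊓ (B : Subgroup G)
  have cS : ∀ (T : Sylow p G), ∀ x ∈ (T : Subgroup G), ∀ y ∈ (T : Subgroup G), x * y = y * x := by
    intro T x hx y hy
    obtain ⟨g, hg⟩ := MulAction.exists_smul_eq G S T
    rw [← hg, Sylow.coe_subgroup_smul] at hx hy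
    obtain ⟨a, ha, rfl⟩ := hx
    obtain ⟨b, hb, rfl⟩ := hy
    haveI := hS
    have hab : a * b = b * a := congrArg Subtype.val (mul_comm' (⟨a, ha⟩ : (S : Subgroup G)) ⟨b, hb⟩)
    show g * a * g⁻¹ * (g * b * g⁻¹) = g * b * g⁻¹ * (g * a * g⁻¹)
    calc g * a * g⁻¹ * (g * b * g⁻¹) = g * (a * b) * g⁻¹ := by group
      _ = _ := by rw [hab]; group
  set C := Subgroup.centralizer (D : Set G)
  have hle : ∀ T : Sylow p G, D ≤ T → (T : Subgroup G) ≤ C := fun T hT x hx =>
    Subgroup.mem_centralizer_iff.2 fun y hy => cS T y (hT hy) x hx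
  have hD : ∀ U : Sylow p G, D ≤ U := by
    intro U
    obtain ⟨W, hW⟩ := (U.2.comap_of_injective C.subtype C.subtype_injective).exists_le_sylow
    obtain ⟨c, hc⟩ := MulAction.exists_smul_eq C (A.subtype (hle A inf_le_left)) W
    -- conjugating by an element of the centralizer fixes `D`
    have hfix : ∀ d ∈ D, (c : G) * d * (c : G)⁻¹ = d := fun d hd => by
      rw [← Subgroup.mem_centralizer_iff.1 c.2 d hd, mul_inv_cancel_right]
    set A' := (c : G) • A
    set B' := (c : G) • B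
    have hA' : ∀ x, x ∈ (U : Subgroup G) → x ∈ C → x ∈ (A' : Subgroup G) := by
      intro x hxU hxC
      have h1 : (⟨x, hxC⟩ : C) ∈ (c • A.subtype (hle A inf_le_left) : Sylow p C) := hc ▸ hW hxU
      obtain ⟨y, hy, hye⟩ := h1
      exact ⟨(y : G), hy, congrArg Subtype.val hye⟩
    have hDB : D ≤ (B' : Subgroup G) := fun d hd => ⟨d, (inf_le_right : D ≤ _) hd, hfix d hd⟩
    have hsub : (U : Subgroup G) ⊓ (B' : Subgroup G) ≤ D := by
      rintro x ⟨hxU, hxB⟩
      have hxC := hle B' hDB hxB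
      obtain ⟨a, ha, rfl⟩ := hA' x hxU hxC
      obtain ⟨b, hb, hbe⟩ := hxB
      have hab : a = b := ((MulAut.conj (c : G)).injective hbe).symm
      have had : a ∈ D := ⟨ha, hab ▸ hb⟩
      show (c : G) * a * (c : G)⁻¹ ∈ D
      rw [hfix a had]; exact had
    have h2 : D ≤ (U : Subgroup G) ⊓ (B' : Subgroup G) :=
      (Subgroup.eq_of_le_of_card_ge hsub (hmin (U, B'))).ge
    exact h2.trans inf_le_left
  have hDn : (⨅ U : Sylow p G, (U : Subgroup G)).Normal := ⟨fun x hx g => by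
    rw [Subgroup.mem_iInf] at hx ⊢
    intro U
    obtain ⟨y, hy, hye⟩ := (⟨x, hx (g⁻¹ • U), rfl⟩ :
      g * x * g⁻¹ ∈ ((g⁻¹ • U : Sylow p G) : Subgroup G).map (MulAut.conj g).toMonoidHom)
    obtain ⟨u, hu, rfl⟩ := hy
    rw [← hye]
    convert hu using 1
    simp [mul_assoc]
    rfl⟩
  have hp : IsPGroup p ↥(⨅ U : Sylow p G, (U : Subgroup G)) := S.2.to_le (iInf_le _ S)
  have hbot : D = ⊥ := le_bot_iff.1 (hOp ▸ (le_iInf hD).trans (Cfsg.Lib.Core.le_pCore' hDn hp))
  obtain ⟨a, ha⟩ := MulAction.exists_smul_eq G A S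
  obtain ⟨g, hg⟩ := MulAction.exists_smul_eq G S (a • B)
  refine ⟨g, ?_⟩
  rw [show MulAut.conj g • (S : Subgroup G) = ((a • B : Sylow p G) : Subgroup G) by rw [← hg]; rfl, ← ha,
    Sylow.coe_subgroup_smul, Sylow.coe_subgroup_smul, ← Subgroup.smul_inf]
  show MulAut.conj a • D = ⊥
  rw [hbot, Subgroup.smul_bot]

end Cfsg.Agent.S0060
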