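import Cfsg.Statements.S0067
import Cfsg.Agent.Lib.Solv.SubnormalJoin
import Cfsg.Agent.Lib.Solv.Nilpotent
import Cfsg.Agent.Lib.Core.Fitting

set_option autoImplicit false
open Pointwise
open Cfsg

namespace Cfsg.Agent.S0067

/-- If the join of a subgroup A with each of its conjugates is nilpotent, then A is subnormal in the finite group and contained in the Fitting subgroup. -/
theorem result {G : Type*} [Group G] [Finite G] (A : Subgroup G)
    (h : ∀ g : G, Group.IsNilpotent (A ⊔ MulAut.conj g • A : Subgroup G)) : A.IsSubnormal ∧ A ≤ Cfsg.fittingSubgroup G := by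
  have hsub : A.IsSubnormal := Cfsg.Lib.SubnormalJoin.criterion A fun g =>
    Cfsg.Lib.Solv.isNilpotent_iff_forall_isSubnormal.1 (h g) _
  exact ⟨hsub, Cfsg.Lib.Core.le_fittingSubgroup_of_isSubnormal hsub
    (Cfsg.Lib.Core.isNilpotent_of_le le_sup_left (h 1))⟩

end Cfsg.Agent.S0067
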