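import Cfsg.Statements.S0068
import Cfsg.Agent.Lib.Solv.ComplementStructure

set_option autoImplicit false
open Cfsg

namespace Cfsg.Agent.S0068

/-- Frobenius complements of even order: if H complements a nontrivial normal subgroup K, each nonidentity element of H has trivial centraliser in K, and H has even order, then H contains a unique involution s, K is abelian, and s inverts every element of K. -/
theorem result {G : Type*} [Group G] [Finite G] (K H : Subgroup G) [K.Normal]
    (hc : Subgroup.IsComplement' K H) (hK : K ≠ ⊥) (hfpf : ∀ h ∈ H, h ≠ 1 → K ⊓ Subgroup.centralizer {h} = ⊥)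
    (heven : 2 ∣ Nat.card H) :
    (∃ s ∈ H, orderOf s = 2 ∧ (∀ t ∈ H, orderOf t = 2 → t = s) ∧ ∀ k ∈ K, s * k * s⁻¹ = k⁻¹) ∧ IsMulCommutative K := by
  haveI : Fact (Nat.Prime 2) := ⟨Nat.prime_two⟩
  obtain ⟨s, hs⟩ := exists_prime_orderOf_dvd_card' 2 heven
  have hs2 : orderOf (s : G) = 2 := by rw [Subgroup.orderOf_coe]; exact hs
  have hinv := Cfsg.Lib.ComplementStructure.involution_inverts hfpf s.2 hs2
  refine ⟨⟨s, s.2, hs2, fun t ht ht2 =>
    Cfsg.Lib.ComplementStructure.unique_involution hK hfpf s.2 hs2 ht ht2, hinv⟩, ⟨⟨fun a b => Subtype.ext ?_⟩⟩⟩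
  have h1 := hinv _ (K.mul_mem a.2 b.2)
  have h2 : (s : G) * ((a : G) * b) * (s : G)⁻¹ = (a : G)⁻¹ * (b : G)⁻¹ := by
    calc (s : G) * ((a : G) * b) * (s : G)⁻¹ = ((s : G) * a * (s : G)⁻¹) * ((s : G) * b * (s : G)⁻¹) := by group
      _ = _ := by rw [hinv _ a.2, hinv _ b.2]
  rw [h2] at h1
  have h3 := congrArg (·⁻¹) h1
  simpa using h3.symm

end Cfsg.Agent.S0068
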