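import Cfsg.Statements.S0070
import Cfsg.Agent.Lib.Solv.Frattini

set_option autoImplicit false
open Cfsg

namespace Cfsg.Agent.S0070

/-- The Fitting subgroup commutes with passing to the Frattini quotient: the Fitting subgroup of G modulo its Frattini subgroup is the image of the Fitting subgroup of G. -/
theorem result {G : Type*} [Group G] [Finite G] :
    Cfsg.fittingSubgroup (G ⧸ frattini G) = (Cfsg.fittingSubgroup G).map (QuotientGroup.mk' (frattini G)) := by
  set f := QuotientGroup.mk' (frattini G)
  have hs := QuotientGroup.mk'_surjective (frattini G)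
  apply le_antisymm
  · have hn : ((Cfsg.fittingSubgroup (G ⧸ frattini G)).comap f).Normal := inferInstance
    have hnil : Group.IsNilpotent ((Cfsg.fittingSubgroup (G ⧸ frattini G)).comap f) := by
      refine Cfsg.Lib.Solv.isNilpotent_of_map_of_le_frattini f hs (by rw [QuotientGroup.ker_mk']) _ ?_
      rw [Subgroup.map_comap_eq_self_of_surjective hs]
      exact Cfsg.Lib.Core.fittingSubgroup_isNilpotent (G ⧸ frattini G)
    refine (Subgroup.map_comap_eq_self_of_surjective hs _).ge.trans (Subgroup.map_mono ?_)
    exact Cfsg.Lib.Core.le_fittingSubgroup' hn hnil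
  · have : ((Cfsg.fittingSubgroup G).map f).Normal := Subgroup.Normal.map inferInstance f hs
    exact Cfsg.Lib.Core.le_fittingSubgroup' this (Cfsg.Lib.Core.isNilpotent_map (Cfsg.Lib.Core.fittingSubgroup_isNilpotent G) f)

end Cfsg.Agent.S0070
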