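import Cfsg.Statements.S0085
import Cfsg.Agent.Lib.Fusion.Abelian
import Cfsg.Agent.Lib.Fusion.Parts
import Mathlib.GroupTheory.Perm.Sign
import Mathlib.GroupTheory.GroupAction.CardCommute

set_option autoImplicit false
open Cfsg

namespace Cfsg.Agent.S0085

open Subgroup

/-- An elementary abelian Sylow 2-subgroup of order at most 8 gives a normal 2-complement when
3 and, for order 8, 7 do not divide the group order. -/
theorem complement_of_small {G : Type*} [Group G] [Finite G] (T : Sylow 2 G)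
    (hc : ∀ a ∈ (T : Subgroup G), ∀ b ∈ (T : Subgroup G), a * b = b * a)
    (hle : Nat.card T ≤ 8) (h3 : ¬ 3 ∣ Nat.card G)
    (h7 : Nat.card T ≤ 4 ∨ ¬ 7 ∣ Nat.card G) : Cfsg.HasNormalPComplement 2 G := by
  classical
  haveI : Fact (Nat.Prime 2) := ⟨Nat.prime_two⟩
  haveI : Fact (Nat.Prime 5) := ⟨by decide⟩
  refine Cfsg.Lib.Fusion.hasNormalPComplement_of_normalizer_le_centralizer T fun n hn => ?_
  refine Cfsg.Lib.Fusion.induction_parts n
    (Q := fun y => y ∈ centralizer ((T : Subgroup G) : Set G)) (fun y hy q k hq hk => ?_)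
    (fun a _ b _ ha hb => mul_mem ha hb)
  have hyN : y ∈ normalizer ((T : Subgroup G) : Set G) := zpowers_le.2 hn hy
  by_cases hq2 : q = 2
  · have hp : IsPGroup 2 (zpowers y) :=
      IsPGroup.of_card (n := k) (by rw [Nat.card_zpowers, hk, hq2])
    have hsup : IsPGroup 2 ↥(zpowers y ⊔ (T : Subgroup G)) :=
      hp.to_sup_of_normal_right' T.2 (zpowers_le.2 hyN)
    have hyT : y ∈ (T : Subgroup G) :=
      (T.is_maximal' hsup le_sup_right) ▸ mem_sup_left (mem_zpowers y)
    exact mem_centralizer_iff.2 fun t ht => hc t ht y hyT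
  have hcop2 : (orderOf y).Coprime 2 := by
    rw [hk]; exact Nat.Coprime.pow_left k ((Nat.coprime_primes hq Nat.prime_two).2 hq2)
  set S := {x : ↥(T : Subgroup G) // x ≠ 1}
  let e : ↥(T : Subgroup G) → ↥(T : Subgroup G) := fun x =>
    ⟨y * x * y⁻¹, (mem_normalizer_iff.1 hyN x).1 x.2⟩
  let σ : MulAut ↥(T : Subgroup G) :=
    { toFun := e
      invFun := fun x => ⟨y⁻¹ * x * y, (mem_normalizer_iff''.1 hyN x).1 x.2⟩
      left_inv := fun x => Subtype.ext (by show y⁻¹ * (y * x * y⁻¹) * y = x; group)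
      right_inv := fun x => Subtype.ext (by show y * (y⁻¹ * x * y) * y⁻¹ = x; group)
      map_mul' := fun a b => Subtype.ext
        (by show y * (a * b : G) * y⁻¹ = (y * a * y⁻¹) * (y * b * y⁻¹); group) }
  have hpow : ∀ (j : ℕ) (x : ↥(T : Subgroup G)), (((σ ^ j) x : ↥(T : Subgroup G)) : G) =
      y ^ j * x * (y ^ j)⁻¹ := by
    intro j
    induction j with
    | zero => intro x; simp
    | succ j ih => intro x; rw [pow_succ', MulAut.mul_apply]
                   show y * (((σ ^ j) x : ↥(T : Subgroup G)) : G) * y⁻¹ = _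
                   rw [ih, pow_succ']; group
  have hord : σ ^ orderOf y = 1 := by
    ext x
    rw [hpow, pow_orderOf_eq_one, one_mul, inv_one, mul_one]; rfl
  let π : Equiv.Perm S := (σ.toEquiv).subtypeEquiv fun x => not_congr (σ.map_eq_one_iff).symm
  have hπ : ∀ (j : ℕ) (x : S), (((π ^ j) x : S) : ↥(T : Subgroup G)) = (σ ^ j) x := by
    intro j
    induction j with
    | zero => intro x; rfl
    | succ j ih => intro x; rw [pow_succ', pow_succ', Equiv.Perm.mul_apply, MulAut.mul_apply, ← ih]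
                   rfl
  have hd1 : orderOf π ∣ orderOf y := orderOf_dvd_of_pow_eq_one (by
    ext x : 2
    rw [hπ, hord]; rfl)
  have hd2 : orderOf π ∣ (Nat.card S).factorial := by
    haveI := Fintype.ofFinite S
    rw [Nat.card_eq_fintype_card, ← Fintype.card_perm, ← Nat.card_eq_fintype_card]
    exact orderOf_dvd_natCard π
  have hS : Nat.card S = Nat.card T - 1 := by
    haveI := Fintype.ofFinite ↥(T : Subgroup G)
    rw [Nat.card_eq_fintype_card, Fintype.card_subtype_compl, Fintype.card_subtype_eq,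
      ← Nat.card_eq_fintype_card]
  have hdy : orderOf y ∣ Nat.card G := orderOf_dvd_natCard y
  have hd5 : orderOf π ∣ 5 := by
    have hc3 : (orderOf π).Coprime 3 := Nat.Coprime.coprime_dvd_left (hd1.trans hdy)
      ((Nat.Prime.coprime_iff_not_dvd Nat.prime_three).2 h3).symm
    have hc2 : (orderOf π).Coprime 2 := Nat.Coprime.coprime_dvd_left hd1 hcop2
    rcases h7 with h4 | h7
    · have : (Nat.card S).factorial ∣ 2 * 3 :=
        (Nat.factorial_dvd_factorial (show Nat.card S ≤ 3 by omega))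
      exact (Nat.eq_one_of_dvd_coprimes (Nat.Coprime.mul_right hc2 hc3) dvd_rfl
        (hd2.trans this)).symm ▸ one_dvd 5
    · have h57 : (Nat.card S).factorial ∣ 5040 :=
        Nat.factorial_dvd_factorial (show Nat.card S ≤ 7 by omega)
      have hc7 : (orderOf π).Coprime 7 := Nat.Coprime.coprime_dvd_left (hd1.trans hdy)
        ((Nat.Prime.coprime_iff_not_dvd (by decide)).2 h7).symm
      have hc : (orderOf π).Coprime ((2 ^ 4 * 3 ^ 2) * 7) :=
        Nat.Coprime.mul_right (Nat.Coprime.mul_right (hc2.pow_right 4) (hc3.pow_right 2)) hc7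
      refine hc.dvd_of_dvd_mul_left ?_
      exact (hd2.trans h57).trans (by norm_num)
  have h5 : σ ^ 5 = 1 := by
    ext x
    by_cases hx : x = 1
    · subst hx; simp
    · have h1 : π ^ 5 = 1 := orderOf_dvd_iff_pow_eq_one.1 hd5
      have h2 : (π ^ 5) ⟨x, hx⟩ = ⟨x, hx⟩ := by rw [h1]; rfl
      have h3 := congrArg Subtype.val h2
      rw [hπ] at h3
      exact congrArg Subtype.val h3
  have hP5 : IsPGroup 5 (zpowers σ) := fun g => ⟨1, by
    obtain ⟨i, hi⟩ := mem_zpowers_iff.1 g.2
    refine Subtype.ext ?_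
    show (g : MulAut ↥(T : Subgroup G)) ^ 5 ^ 1 = 1
    rw [← hi, pow_one, ← zpow_natCast, ← zpow_mul, mul_comm, zpow_mul, zpow_natCast, h5, one_zpow]⟩
  let F : Subgroup ↥(T : Subgroup G) :=
    { carrier := {x | σ x = x}
      one_mem' := map_one σ
      mul_mem' := fun {a b} (ha : σ a = a) (hb : σ b = b) => show σ (a * b) = a * b by rw [map_mul, ha, hb]
      inv_mem' := fun {a} (ha : σ a = a) => show σ a⁻¹ = a⁻¹ by rw [map_inv, ha] }
  have hmod := hP5.card_modEq_card_fixedPoints ↥(T : Subgroup G)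
  have hfix : Nat.card (MulAction.fixedPoints (zpowers σ) ↥(T : Subgroup G)) = Nat.card F := by
    refine Nat.card_congr (Equiv.subtypeEquivRight fun x => ⟨fun h => h ⟨σ, mem_zpowers σ⟩, ?_⟩)
    intro (h : σ x = x) g
    obtain ⟨i, hi⟩ := mem_zpowers_iff.1 g.2
    show (g : MulAut ↥(T : Subgroup G)) • x = x
    rw [← hi]
    exact MulAction.mem_stabilizer_iff.1 (zpow_mem (show σ ∈ MulAction.stabilizer _ x from h) i)
  rw [hfix] at hmod
  have hFd : Nat.card F ∣ Nat.card ↥(T : Subgroup G) := card_subgroup_dvd_card F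
  obtain ⟨a, ha⟩ := IsPGroup.iff_card.1 T.2
  have htop : F = ⊤ := by
    rw [← card_eq_iff_eq_top]
    rw [ha] at hFd hmod ⊢
    obtain ⟨b, hb, hbF⟩ := (Nat.dvd_prime_pow Nat.prime_two).1 hFd
    rw [hbF] at hmod ⊢
    have ha3 : a ≤ 3 := by
      by_contra h
      have h16 : 2 ^ 4 ≤ 2 ^ a := Nat.pow_le_pow_right (by norm_num) (by omega)
      have h8 : Nat.card ↥(T : Subgroup G) ≤ 8 := hle
      omega
    interval_cases a <;> interval_cases b <;> simp_all [Nat.ModEq]
  refine mem_centralizer_iff.2 fun t ht => ?_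
  have hm : (⟨t, ht⟩ : ↥(T : Subgroup G)) ∈ F := htop ▸ mem_top _
  have he : y * t * y⁻¹ = t := congrArg Subtype.val (hm : σ ⟨t, ht⟩ = ⟨t, ht⟩)
  calc t * y = y * t * y⁻¹ * y := by rw [he]
    _ = y * t := by group

/-- A group whose Sylow 2-subgroups are elementary abelian of order 8 and whose order is prime to 3 and to 7 has a normal 2-complement. -/
theorem result {G : Type*} [Group G] [Finite G] (T : Sylow 2 G) (h8 : Nat.card T = 8) (he : ∀ x : T, x * x = 1) (h3 : ¬ 3 ∣ Nat.card G) (h7 : ¬ 7 ∣ Nat.card G) : Cfsg.HasNormalPComplement 2 G := by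
  refine complement_of_small T (fun a ha b hb => ?_) h8.le h3 (Or.inr h7)
  have hinv : ∀ x : T, x⁻¹ = x := fun x => inv_eq_of_mul_eq_one_right (he x)
  have : (⟨a, ha⟩ : T) * ⟨b, hb⟩ = ⟨b, hb⟩ * ⟨a, ha⟩ := by
    rw [← hinv (⟨a, ha⟩ * ⟨b, hb⟩), mul_inv_rev, hinv, hinv]
  exact congrArg Subtype.val this

end Cfsg.Agent.S0085
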