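import Cfsg.Statements.S0073
import Cfsg.Agent.S0085

set_option autoImplicit false
open Cfsg

namespace Cfsg.Agent.S0073

open Subgroup

/-- An automorphism-like element of prime order `r > q` cannot act nontrivially on a group of order `q ^ 2`. -/
theorem arith {q r f : ℕ} (hq : q.Prime) (hr : r.Prime) (hq2 : q ≠ 2) (hrq : q < r)
    (hf : f ∣ q ^ 2) (hmod : q ^ 2 ≡ f [MOD r]) : f = q ^ 2 := by
  obtain ⟨i, hi, rfl⟩ := (Nat.dvd_prime_pow hq).1 hf
  have hq3 := hq.two_le
  interval_cases i
  · exfalso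
    have hd : r ∣ q ^ 2 - 1 := (Nat.modEq_iff_dvd' (Nat.one_le_pow _ _ hq.pos)).1 (by simpa using hmod.symm)
    have e : q ^ 2 - 1 = (q + 1) * (q - 1) := by rw [← Nat.sq_sub_sq, one_pow]
    rw [e] at hd
    rcases hr.dvd_mul.1 hd with h | h
    · have h1 := Nat.le_of_dvd (by omega) h
      have hr' : r = q + 1 := by omega
      have hrodd := hr.odd_of_ne_two (by omega)
      have hqodd := hq.odd_of_ne_two hq2
      rw [hr', Nat.odd_iff] at hrodd
      rw [Nat.odd_iff] at hqodd
      omega
    · have h1 := Nat.le_of_dvd (by omega) h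
      omega
  · exfalso
    have hle : q ^ 1 ≤ q ^ 2 := Nat.pow_le_pow_right hq.pos (by omega)
    have hd : r ∣ q ^ 2 - q ^ 1 := (Nat.modEq_iff_dvd' hle).1 hmod.symm
    rw [show q ^ 2 - q ^ 1 = q * (q - 1) by rw [pow_one, pow_two, Nat.mul_sub, mul_one]] at hd
    rcases hr.dvd_mul.1 hd with h | h
    · have := Nat.le_of_dvd hq.pos h; omega
    · have := Nat.le_of_dvd (by omega) h; omega
  · rfl

/-- For a finite non-abelian simple group, either the cube of the least prime divisor of the order divides the order, or 12 does. -/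
theorem result {G : Type*} [Group G] [Finite G] [IsSimpleGroup G] (hG : ∃ x y : G, x * y ≠ y * x) : (Nat.card G).minFac ^ 3 ∣ Nat.card G ∨ 12 ∣ Nat.card G := by
  classical
  set q := (Nat.card G).minFac with hqdef
  obtain ⟨a, b, hab⟩ := hG
  haveI : Nontrivial G := ⟨⟨a * b, b * a, hab⟩⟩
  have hq : q.Prime := Nat.minFac_prime (ne_of_gt Finite.one_lt_card)
  haveI : Fact q.Prime := ⟨hq⟩
  obtain ⟨P⟩ : Nonempty (Sylow q G) := inferInstance
  refine or_iff_not_imp_left.2 fun h3 => ?_
  have hnocompl : ¬ Cfsg.HasNormalPComplement q G := by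
    rintro ⟨R, K, hK, hKR⟩
    have hR : (R : Subgroup G) ≠ ⊥ := R.ne_bot_of_dvd_card (Nat.minFac_dvd _)
    rcases IsSimpleGroup.eq_bot_or_eq_top_of_normal K hK with h | h
    · have hc := hKR.card_mul
      rw [h, card_bot, one_mul] at hc
      haveI hnil : Group.IsNilpotent G := by
        obtain ⟨j, hj⟩ := IsPGroup.iff_card.1 R.2
        exact (IsPGroup.of_card (G := G) (hc.symm.trans hj)).isNilpotent
      exact hab (IsSimpleGroup.comm_iff_isSolvable.2 inferInstance a b)
    · have hc := hKR.card_mul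
      rw [h, card_top] at hc
      exact hR (card_eq_one.1 (Nat.eq_of_mul_eq_mul_left Nat.card_pos (hc.trans (mul_one _).symm)))
  obtain ⟨j, hj⟩ := IsPGroup.iff_card.1 P.2
  have hncyc : ¬ IsCyclic (P : Subgroup G) := fun hc =>
    hnocompl (Cfsg.Lib.Fusion.hasNormalPComplement_of_normalizer_le_centralizer P
      (hc.normalizer_le_centralizer rfl))
  have hj2 : j = 2 := by
    rcases j with _ | _ | _ | j
    · haveI : Subsingleton (P : Subgroup G) := (Nat.card_eq_one_iff_unique.1 (by rw [hj, pow_zero])).1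
      exact absurd isCyclic_of_subsingleton hncyc
    · exact absurd (isCyclic_of_prime_card (p := q) (by rw [hj, pow_one])) hncyc
    · rfl
    · exact absurd ((pow_dvd_pow q (by omega : 3 ≤ j + 1 + 1 + 1)).trans (hj ▸ card_subgroup_dvd_card _)) h3
  subst hj2
  by_cases hq2 : q = 2
  · have h4 : 4 ∣ Nat.card G := by
      have h := hj ▸ card_subgroup_dvd_card (P : Subgroup G)
      rwa [hq2] at h
    have h3' : 3 ∣ Nat.card G := by
      by_contra h3'
      haveI := IsPGroup.isMulCommutative_of_card_eq_prime_sq hj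
      refine hnocompl ?_
      obtain ⟨T⟩ : Nonempty (Sylow 2 G) := inferInstance
      have hc := T.card_eq_multiplicity
      have hc' := P.card_eq_multiplicity
      rw [hj, hq2] at hc'
      rw [← hc'] at hc
      rw [hq2]
      refine Cfsg.Agent.S0085.complement_of_small T (fun x hx y hy => ?_) (by rw [hc]; norm_num) h3'
        (Or.inl (le_of_eq (by rw [hc]; norm_num)))
      haveI : Fact (Nat.Prime 2) := ⟨Nat.prime_two⟩
      haveI := IsPGroup.isMulCommutative_of_card_eq_prime_sq hc
      exact congrArg Subtype.val (mul_comm' (⟨x, hx⟩ : (T : Subgroup G)) ⟨y, hy⟩)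
    exact (Nat.Coprime.mul_dvd_of_dvd_of_dvd (by norm_num : Nat.Coprime 3 4) h3' h4)
  · exfalso
    haveI := IsPGroup.isMulCommutative_of_card_eq_prime_sq hj
    refine hnocompl (Cfsg.Lib.Fusion.hasNormalPComplement_of_normalizer_le_centralizer P fun n hn => ?_)
    refine Cfsg.Lib.Fusion.induction_parts n
      (Q := fun y => y ∈ centralizer ((P : Subgroup G) : Set G)) (fun y hy r k hr hk => ?_)
      (fun u _ v _ hu hv => mul_mem hu hv)
    have hyN : y ∈ normalizer ((P : Subgroup G) : Set G) := zpowers_le.2 hn hy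
    haveI : Fact r.Prime := ⟨hr⟩
    have hP' : IsPGroup r (zpowers y) := IsPGroup.of_card (n := k) (by rw [Nat.card_zpowers, hk])
    by_cases hrq : r = q
    · subst hrq
      have hsup := hP'.to_sup_of_normal_right' P.2 (zpowers_le.2 hyN)
      have hyP : y ∈ (P : Subgroup G) := (P.is_maximal' hsup le_sup_right) ▸ mem_sup_left (mem_zpowers y)
      exact mem_centralizer_iff.2 fun t ht => congrArg Subtype.val (mul_comm' (⟨t, ht⟩ : (P : Subgroup G)) ⟨y, hyP⟩)
    rcases k with _ | k
    · rw [pow_zero, orderOf_eq_one_iff] at hk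
      rw [hk]; exact one_mem _
    have hlt : q < r := by
      refine lt_of_le_of_ne (Nat.minFac_le_of_dvd hr.two_le ?_) (fun h => hrq h.symm)
      exact (dvd_pow_self r (Nat.succ_ne_zero k)).trans (hk ▸ orderOf_dvd_natCard y)
    let σ : ↥(P : Subgroup G) → ↥(P : Subgroup G) := fun x => ⟨y * x * y⁻¹, (mem_normalizer_iff.1 hyN x).1 x.2⟩
    letI act : MulAction (zpowers y) ↥(P : Subgroup G) :=
      { smul := fun i x => ⟨(i : G) * x * (i : G)⁻¹, (mem_normalizer_iff.1 (zpowers_le.2 hyN i.2) x).1 x.2⟩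
        one_smul := fun x => Subtype.ext (show ((1 : zpowers y) : G) * x * ((1 : zpowers y) : G)⁻¹ = x by simp)
        mul_smul := fun i j x => Subtype.ext (show ((i * j : zpowers y) : G) * x * ((i * j : zpowers y) : G)⁻¹ =
          (i : G) * ((j : G) * x * (j : G)⁻¹) * (i : G)⁻¹ by rw [Subgroup.coe_mul]; group) }
    have hmod := hP'.card_modEq_card_fixedPoints ↥(P : Subgroup G)
    have hfix : Nat.card (MulAction.fixedPoints (zpowers y) ↥(P : Subgroup G)) =
        Nat.card ↥((P : Subgroup G) ⊓ centralizer ({y} : Set G)) := by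
      refine Nat.card_congr
        { toFun := fun x => ⟨(x.1 : G), x.1.2, ?_⟩
          invFun := fun x => ⟨⟨(x : G), x.2.1⟩, ?_⟩
          left_inv := fun x => rfl
          right_inv := fun x => rfl }
      · have h : y * (x.1 : G) * y⁻¹ = x.1 := congrArg Subtype.val (x.2 ⟨y, mem_zpowers y⟩)
        refine mem_centralizer_singleton_iff.2 ?_
        calc (x.1 : G) * y = y * (x.1 : G) * y⁻¹ * y := by rw [h]
          _ = y * x.1 := by group
      · intro i
        obtain ⟨l, hl⟩ := mem_zpowers_iff.1 i.2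
        refine Subtype.ext ?_
        show (i : G) * x * (i : G)⁻¹ = x
        rw [← hl]
        have hc : Commute y (x : G) := (mem_centralizer_singleton_iff.1 x.2.2).symm
        rw [(hc.zpow_left l).eq, mul_inv_cancel_right]
    rw [hfix, hj] at hmod
    have hd : Nat.card ↥((P : Subgroup G) ⊓ centralizer ({y} : Set G)) ∣ q ^ 2 := hj ▸ card_dvd_of_le inf_le_left
    have heq := arith hq hr hq2 hlt hd hmod
    have htop : (P : Subgroup G) ⊓ centralizer ({y} : Set G) = P :=
      eq_of_le_of_card_ge inf_le_left (by rw [heq, hj])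
    refine mem_centralizer_iff.2 fun t ht => ?_
    exact mem_centralizer_singleton_iff.1 ((htop.ge ht).2)

end Cfsg.Agent.S0073
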