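import Cfsg.Statements.S0076

set_option autoImplicit false
set_option linter.style.haveILetI false
open Cfsg

namespace Cfsg.Agent.S0076

theorem burnside_sets {G : Type*} [Group G] [Finite G] {p : ℕ} [Fact p.Prime] (P : Sylow p G)
    (X Y : Set G) (hX : ∀ x ∈ P, (fun y => x * y * x⁻¹) '' X = X)
    (hY : ∀ x ∈ P, (fun y => x * y * x⁻¹) '' Y = Y) (g : G) (hg : (fun y => g * y * g⁻¹) '' X = Y) :
    ∃ n ∈ Subgroup.normalizer (P : Set G), (fun y => n * y * n⁻¹) '' X = Y := by
  have hcomp : ∀ (a b : G) (S : Set G),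
      (fun y => a * b * y * (a * b)⁻¹) '' S = (fun y => a * y * a⁻¹) '' ((fun y => b * y * b⁻¹) '' S) := by
    intro a b S
    rw [Set.image_image]
    congr 1
    funext y
    group
  let N : Subgroup G :=
    { carrier := {c | (fun y => c * y * c⁻¹) '' Y = Y}
      one_mem' := by show _ = Y; simp
      mul_mem' := by
        intro a b ha hb
        show _ = Y
        rw [hcomp, hb, ha]
      inv_mem' := by
        intro a ha
        show _ = Y
        conv_lhs => rw [← ha, ← hcomp]
        simp }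
  have hP1 : (P : Subgroup G) ≤ N := fun x hx => hY x hx
  have hP2 : ((g • P : Sylow p G) : Subgroup G) ≤ N := by
    intro x hx
    rw [Sylow.coe_subgroup_smul] at hx
    have hx' : g⁻¹ * x * g ∈ (P : Subgroup G) := by
      rw [Subgroup.mem_pointwise_smul_iff_inv_smul_mem, MulAut.smul_def, MulAut.conj_inv_apply] at hx
      exact hx
    show _ = Y
    conv_lhs => rw [← hg, ← hcomp, show x * g = g * (g⁻¹ * x * g) by group, hcomp, hX _ hx', hg]
  obtain ⟨⟨c, hc⟩, he⟩ := MulAction.exists_smul_eq N ((g • P).subtype hP2) (P.subtype hP1)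
  have he' : c • g • P = P := by
    apply Sylow.subtype_injective (N := N) (hP := ?_) (hQ := hP1)
    · rw [← he]
      exact (Sylow.smul_subtype (h := ⟨c, hc⟩) hP2).symm
  refine ⟨c * g, ?_, ?_⟩
  · rw [← mul_smul] at he'
    exact Sylow.smul_eq_iff_mem_normalizer.mp he'
  · rw [hcomp, hg]
    exact hc

/-- Two P-invariant subsets of a Sylow p-subgroup P that are conjugate in G are conjugate under the normalizer of P. -/
theorem result {G : Type*} [Group G] [Finite G] {p : ℕ} [Fact p.Prime] (P : Sylow p G) (X Y : Set G) (hXP : X ⊆ P) (hYP : Y ⊆ P) (hX : ∀ x ∈ P, (fun y => x * y * x⁻¹) '' X = X) (hY : ∀ x ∈ P, (fun y => x * y * x⁻¹) '' Y = Y) (g : G) (hg : (fun y => g * y * g⁻¹) '' X = Y) : ∃ n ∈ Subgroup.normalizer (P : Set G), (fun y => n * y * n⁻¹) '' X = Y := by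
  exact burnside_sets P X Y hX hY g hg

end Cfsg.Agent.S0076
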