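import Cfsg.Statements.S0077
import Cfsg.Agent.S0078
import Cfsg.Agent.Lib.Fusion.Abelian

set_option autoImplicit false
set_option linter.style.haveILetI false
open Cfsg

namespace Cfsg.Agent.S0077

/-- If a subgroup Z of the centre of a Sylow p-subgroup P is weakly closed in P, then P meets the derived subgroup of G exactly where it meets the derived subgroup of the normalizer of Z. -/
theorem result {G : Type*} [Group G] [Finite G] {p : ℕ} [Fact p.Prime] (P : Sylow p G) (Z : Subgroup G) (hZ : Z ≤ Subgroup.centralizer (P : Set G)) (hW : Cfsg.IsWeaklyClosed Z P) : commutator G ⊓ (P : Subgroup G) = ⁅Subgroup.normalizer (Z : Set G), Subgroup.normalizer (Z : Set G)⁆ ⊓ (P : Subgroup G) := by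
  have hZP := hW.1
  have hPN : (P : Subgroup G) ≤ Subgroup.normalizer (Z : Set G) := fun x hx => by
    refine Cfsg.Lib.Fusion.le_normalizer_of_conj_mem fun z hz => ?_
    rw [hZ hz x hx, mul_inv_cancel_right]
    exact hz
  refine Cfsg.Lib.Fusion.commutator_inf_eq_of_controls P _ hPN fun x hx g hg =>
    Cfsg.Agent.S0078.weaklyClosed_controls P Z hZ hZP (fun g Q hZQ hgQ => ?_) x hx g hg
  obtain ⟨a, ha⟩ := MulAction.exists_smul_eq G Q P
  have hQP : ∀ w ∈ (Q : Subgroup G), a * w * a⁻¹ ∈ (P : Subgroup G) := fun w hw => by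
    rw [← ha]; exact ⟨w, hw, rfl⟩
  have key : ∀ b : G, (∀ z ∈ Z, b * z * b⁻¹ ∈ (P : Subgroup G)) →
      b ∈ Subgroup.normalizer (Z : Set G) := fun b hb => by
    refine Cfsg.Lib.Fusion.le_normalizer_of_conj_mem fun z hz => ?_
    have := hW.2 b (by rintro _ ⟨z, hz, rfl⟩; exact hb z hz)
    exact this ▸ Subgroup.mem_map_of_mem _ hz
  have ha' := key a fun z hz => hQP z (hZQ hz)
  have hag := key (a * g) fun z hz => by
    have := hQP _ (hgQ z hz)
    simpa [mul_assoc] using this
  simpa using mul_mem (inv_mem ha') hag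

end Cfsg.Agent.S0077
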