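import Cfsg.Statements.S0082
import Cfsg.Agent.Lib.Fusion.Abelian
import Mathlib.GroupTheory.SpecificGroups.ZGroup

set_option autoImplicit false
set_option linter.style.haveILetI false
open Cfsg

namespace Cfsg.Agent.S0082

/-- With a cyclic Sylow p-subgroup, either there is a normal p-complement or the elements of order prime to p generate the whole group. -/
theorem result {G : Type*} [Group G] [Finite G] {p : ℕ} [Fact p.Prime] (P : Sylow p G) (hP : IsCyclic P) : Cfsg.HasNormalPComplement p G ∨ Cfsg.pResidual p G = ⊤ := by
  haveI := hP
  haveI : IsMulCommutative (P : Subgroup G) := IsCyclic.isMulCommutative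
  rcases P.normalizer_le_centralizer_or_le_commutator with h | h
  · exact Or.inl (Cfsg.Lib.Fusion.hasNormalPComplement_of_normalizer_le_centralizer P h)
  · have h1 : (P : Subgroup G) ≤ Cfsg.pResidual p G :=
      h.trans (Cfsg.Lib.Fusion.commutator_le_pResidual_of_abelian P)
    have := Cfsg.Lib.Fusion.sylow_sup_pResidual P
    rw [sup_of_le_right h1] at this
    exact Or.inr this

end Cfsg.Agent.S0082
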