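import Cfsg.Statements.S0083
import Cfsg.Agent.Lib.Fusion.Abelian
import Cfsg.Agent.Lib.Fusion.Alperin

set_option autoImplicit false
set_option linter.style.haveILetI false
open Cfsg

namespace Cfsg.Agent.S0083

/-- For an abelian Sylow p-subgroup P, a normal p-complement exists exactly when the normalizer of P is an internal direct product of P with some subgroup. -/
theorem result {G : Type*} [Group G] [Finite G] {p : ℕ} [Fact p.Prime] (P : Sylow p G) (hP : IsMulCommutative P) : Cfsg.HasNormalPComplement p G ↔ ∃ Q : Subgroup G, Q ≤ Subgroup.centralizer (P : Set G) ∧ Q ⊓ (P : Subgroup G) = ⊥ ∧ Q ⊔ (P : Subgroup G) = Subgroup.normalizer (P : Set G) := by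
  constructor
  · rintro h
    have hco := Cfsg.Lib.Fusion.hasNormalPComplement_iff_coprime.mp h
    set K := Cfsg.pResidual p G
    set N := Subgroup.normalizer ((P : Subgroup G) : Set G) with hNd
    have hPN : (P : Subgroup G) ≤ N := Subgroup.le_normalizer
    have hdis : ∀ y, y ∈ K → y ∈ (P : Subgroup G) → y = 1 := by
      intro y hy hyP
      have : Disjoint K (P : Subgroup G) := by
        apply Subgroup.disjoint_of_coprime_natCard
        obtain ⟨a, ha⟩ := IsPGroup.iff_card.mp P.2
        rw [ha]
        exact hco.pow_right a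
      exact Subgroup.disjoint_def.mp this hy hyP
    refine ⟨N ⊓ K, fun q hq => Subgroup.mem_centralizer_iff.mpr fun x hx => ?_, ?_, ?_⟩
    · have h1 : q * x * q⁻¹ * x⁻¹ = 1 := by
        refine hdis _ ?_ ?_
        · rw [mul_assoc, mul_assoc, ← mul_assoc x]
          exact K.mul_mem hq.2 ((inferInstance : K.Normal).conj_mem _ (K.inv_mem hq.2) x)
        · exact (P : Subgroup G).mul_mem ((Subgroup.mem_normalizer_iff.mp hq.1 x).mp hx) ((P : Subgroup G).inv_mem hx)
      rw [mul_inv_eq_one, mul_inv_eq_iff_eq_mul] at h1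
      exact h1.symm
    · rw [eq_bot_iff]
      exact fun y hy => hdis y hy.1.2 hy.2
    · refine le_antisymm (sup_le inf_le_left hPN) fun n hn => ?_
      obtain ⟨x, hx, m, hm, rfl⟩ := Cfsg.Lib.Fusion.exists_mul_of_sylow P n
      refine Subgroup.mul_mem _ (Subgroup.mem_sup_right hx) (Subgroup.mem_sup_left ⟨?_, hm⟩)
      have := N.mul_mem (N.inv_mem (hPN hx)) hn
      rwa [inv_mul_cancel_left] at this
  · rintro ⟨Q, hQ, -, hsup⟩
    apply Cfsg.Lib.Fusion.hasNormalPComplement_of_normalizer_le_centralizer P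
    refine hsup ▸ sup_le hQ fun x hx => Subgroup.mem_centralizer_iff.mpr fun y hy => ?_
    exact congrArg Subtype.val (hP.is_comm.comm ⟨y, hy⟩ ⟨x, hx⟩)

end Cfsg.Agent.S0083
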