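import Cfsg.Statements.S0084
import Cfsg.Agent.S0085

set_option autoImplicit false
open Cfsg

namespace Cfsg.Agent.S0084

/-- A group whose Sylow 2-subgroups are Klein four-groups and whose order is prime to 3 has a normal 2-complement. -/
theorem result {G : Type*} [Group G] [Finite G] (T : Sylow 2 G) (hT : IsKleinFour T) (h3 : ¬ 3 ∣ Nat.card G) : Cfsg.HasNormalPComplement 2 G := by
  haveI := hT
  refine Cfsg.Agent.S0085.complement_of_small T (fun a ha b hb => ?_)
    (by rw [IsKleinFour.card_four]; norm_num) h3 (Or.inl (le_of_eq IsKleinFour.card_four))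
  have he : ∀ x : T, x * x = 1 := fun x => by
    have h := Monoid.pow_exponent_eq_one x
    rwa [IsKleinFour.exponent_two, pow_two] at h
  have hinv : ∀ x : T, x⁻¹ = x := fun x => inv_eq_of_mul_eq_one_right (he x)
  have : (⟨a, ha⟩ : T) * ⟨b, hb⟩ = ⟨b, hb⟩ * ⟨a, ha⟩ := by
    rw [← hinv (⟨a, ha⟩ * ⟨b, hb⟩), mul_inv_rev, hinv, hinv]
  exact congrArg Subtype.val this

end Cfsg.Agent.S0084
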