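import Cfsg.Statements.S0091
import Cfsg.Agent.Lib.Fusion.Alperin

set_option autoImplicit false
set_option linter.style.haveILetI false
open Cfsg

namespace Cfsg.Agent.S0091

/-- If a nontrivial Sylow p-subgroup controls its own fusion then it is not contained in the derived subgroup. -/
theorem result {G : Type*} [Group G] [Finite G] {p : ℕ} [Fact p.Prime] (P : Sylow p G) (hp : p ∣ Nat.card G) (h : ∀ x ∈ P, ∀ y ∈ P, (∃ g : G, g * x * g⁻¹ = y) → ∃ z ∈ P, z * x * z⁻¹ = y) : ¬ (P : Subgroup G) ≤ commutator G := by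
  intro hle
  have hc := Cfsg.Lib.Fusion.commutator_inf_eq_of_controls P (P : Subgroup G) le_rfl
    fun x hx g hg => h x hx _ hg ⟨g, rfl⟩
  rw [inf_of_le_right hle] at hc
  have hne := P.ne_bot_of_dvd_card hp
  haveI : Group.IsNilpotent (P : Subgroup G) := P.2.isNilpotent
  have h1 : (⊤ : Subgroup (P : Subgroup G)) = commutator (P : Subgroup G) := by
    refine le_antisymm (fun x _ => ?_) le_top
    have hx : (x : G) ∈ (commutator (P : Subgroup G)).map (P : Subgroup G).subtype := by
      rw [Subgroup.map_subtype_commutator]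
      have hx2 : (x : G) ∈ ⁅(P : Subgroup G), (P : Subgroup G)⁆ ⊓ (P : Subgroup G) := hc.le x.2
      exact hx2.1
    obtain ⟨y, hy, he⟩ := hx
    exact Subtype.ext he ▸ hy
  have h2 := Cfsg.Lib.Fusion.eq_bot_of_le_commutator_top
    (show (⊤ : Subgroup (P : Subgroup G)) ≤ ⁅⊤, ⊤⁆ from h1.le)
  refine hne ((Subgroup.eq_bot_iff_forall _).mpr fun x hx => ?_)
  have h3 : (⟨x, hx⟩ : (P : Subgroup G)) ∈ (⊥ : Subgroup (P : Subgroup G)) := h2.le (Subgroup.mem_top _)
  exact congrArg Subtype.val (Subgroup.mem_bot.mp h3)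

end Cfsg.Agent.S0091
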