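import Cfsg.Statements.S0092
import Cfsg.Agent.Lib.Fusion.Abelian
import Cfsg.Agent.Lib.Coprime.Conjugacy

set_option autoImplicit false
set_option linter.style.haveILetI false
open Cfsg

namespace Cfsg.Agent.S0092

open scoped commutatorElement
open Subgroup Cfsg.Lib.Fusion

theorem main {G : Type*} [Group G] [Finite G] {p : ℕ} [hp : Fact p.Prime]
    (h : ∀ Q : Sylow p (Cfsg.pResidual p G), IsMulCommutative Q) :
    ∃ K : Subgroup G, K.IsComplement' (Cfsg.pResidual p G) := by
  classical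
  set M := Cfsg.pResidual p G with hM
  let Q₀ : Sylow p M := Classical.arbitrary _
  haveI := h Q₀
  set Q : Subgroup G := (Q₀ : Subgroup M).map M.subtype with hQ
  set N := normalizer (Q : Set G) with hN
  have hfr : N ⊔ M = ⊤ := Sylow.normalizer_sup_eq_top Q₀
  set X := N ⊓ M with hX
  have hQM : Q ≤ M := map_subtype_le _
  have hQX : Q ≤ X := le_inf le_normalizer hQM
  set Qx := Q.subgroupOf X with hQx
  haveI hQxn : Qx.Normal := ⟨fun y hy g => mem_subgroupOf.mpr
    ((mem_normalizer_iff.mp g.2.1 y).mp (mem_subgroupOf.mp hy))⟩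
  have hQc : Nat.card Qx = Nat.card (Q₀ : Subgroup M) :=
    (Nat.card_congr (subgroupOfEquivOfLe hQX).toEquiv).trans (card_map_of_injective M.subtype_injective)
  obtain ⟨a, ha⟩ := IsPGroup.iff_card.mp Q₀.2
  have hcopi : ¬ p ∣ Qx.index := by
    intro hd
    refine Q₀.not_dvd_index (hd.trans ?_)
    have h1 : Qx.index = Q.relIndex X := rfl
    have h2 : (Q₀ : Subgroup M).index = Q.relIndex M := by
      show _ = ((Q₀ : Subgroup M).map M.subtype |>.subgroupOf M).index
      rw [subgroupOf, comap_map_eq_self_of_injective M.subtype_injective]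
    rw [h1, h2]
    exact Dvd.intro _ (relIndex_mul_relIndex Q X M hQX inf_le_right)
  have hQxS : Nat.card Qx = p ^ (Nat.card X).factorization p := by
    rw [hQc, ha]
    congr 1
    rw [← Qx.card_mul_index, hQc, ha, Nat.factorization_mul (pow_ne_zero _ hp.out.ne_zero)
      Qx.index_ne_zero_of_finite, hp.out.factorization_pow, Finsupp.add_apply, Finsupp.single_eq_same,
      Nat.factorization_eq_zero_of_not_dvd hcopi, add_zero]
  let Sx : Sylow p X := Sylow.ofCard Qx hQxS
  have hQcomm : ∀ u ∈ Q, ∀ v ∈ Q, u * v = v * u := by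
    rintro _ ⟨u, hu, rfl⟩ _ ⟨v, hv, rfl⟩
    exact congrArg Subtype.val (setLike_mul_comm hu hv)
  haveI : IsMulCommutative (Sx : Subgroup X) := ⟨⟨fun u v => Subtype.ext (Subtype.ext
    (hQcomm _ (mem_subgroupOf.mp u.2) _ (mem_subgroupOf.mp v.2)))⟩⟩
  -- `Q ≤ ⁅Q, X⁆`
  have hQle : Qx ≤ _root_.commutator X := by
    intro y hy
    have h1 := pResidual_inf_eq_of_abelian Q₀
    rw [pResidual_pResidual, top_inf_eq] at h1
    obtain ⟨z, hz, hzy⟩ := mem_subgroupOf.mp hy
    rw [h1] at hz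
    have h3 : (y : G) ∈ ((_root_.commutator X).map X.subtype) := by
      rw [← hzy]
      revert hz
      intro hz
      have h4 : (⁅(Q₀ : Subgroup M), normalizer ((Q₀ : Subgroup M) : Set M)⁆).map M.subtype ≤
          (_root_.commutator X).map X.subtype := by
        rw [map_commutator, _root_.commutator_def, map_commutator]
        refine commutator_mono (hQX.trans ?_) ?_
        · intro w hw; exact ⟨⟨w, hw⟩, mem_top _, rfl⟩
        · rintro _ ⟨w, hw, rfl⟩
          refine ⟨⟨(w : G), ⟨?_, w.2⟩⟩, mem_top _, rfl⟩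
          refine le_normalizer_of_conj_mem fun q hq => ?_
          obtain ⟨q', hq', rfl⟩ := hq
          exact ⟨w * q' * w⁻¹, (mem_normalizer_iff.mp hw q').mp hq', rfl⟩
      exact h4 ⟨z, hz, rfl⟩
    obtain ⟨y', hy', hyy⟩ := h3
    rwa [← X.subtype_injective hyy]
  obtain ⟨L₀, hL₀⟩ := exists_right_complement'_of_coprime (N := Qx) (by
    rw [hQc, ha]
    exact Nat.Coprime.pow_left a ((hp.out.coprime_iff_not_dvd).mpr hcopi))
  set L : Subgroup G := L₀.map X.subtype with hL
  have hLX : L ≤ X := map_subtype_le _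
  set T := N ⊓ normalizer (L : Set G) with hT
  have hLcard : (Nat.card L).Coprime p := by
    rw [hL, card_map_of_injective X.subtype_injective, ← hL₀.symm.index_eq_card]
    exact ((hp.out.coprime_iff_not_dvd).mpr hcopi).symm
  -- `M ⊔ T = ⊤`
  have hNsub : N ≤ M ⊔ T := by
    intro g hg
    have hB : L.map (MulAut.conj g).toMonoidHom ≤ Q ⊔ L := by
      rintro _ ⟨w, hw, rfl⟩
      have hwX : g * w * g⁻¹ ∈ X := ⟨N.mul_mem (N.mul_mem hg (hLX hw).1) (N.inv_mem hg),
        (pResidual_normal p G).conj_mem _ (hLX hw).2 g⟩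
      obtain ⟨⟨⟨q, hq⟩, ⟨l, hl⟩⟩, he, -⟩ := hL₀.existsUnique ⟨_, hwX⟩
      have he' : (q : G) * l = g * w * g⁻¹ := congrArg Subtype.val he
      show g * w * g⁻¹ ∈ Q ⊔ L
      rw [← he']
      exact mul_mem (mem_sup_left (mem_subgroupOf.mp hq)) (mem_sup_right ⟨l, hl, rfl⟩)
    obtain ⟨n, hn, he⟩ := Cfsg.Lib.Coprime.exists_conj_of_coprime Q L _
      (hLX.trans inf_le_left) (by
        rw [hQ, card_map_of_injective M.subtype_injective, ha]
        exact hLcard.pow_right a)
      (Or.inr (Group.isSolvable_of_comm fun u v => Subtype.ext (hQcomm u u.2 v v.2))) hB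
      (card_map_of_injective (MulAut.conj g).injective)
    have hnT : n⁻¹ * g ∈ T := by
      refine ⟨N.mul_mem (N.inv_mem (le_normalizer hn)) hg, le_normalizer_of_conj_mem fun k hk => ?_⟩
      obtain ⟨j, hj, hje⟩ : MulAut.conj g k ∈ L.map (MulAut.conj n).toMonoidHom := he ▸ ⟨k, hk, rfl⟩
      have hje' : n * j * n⁻¹ = g * k * g⁻¹ := hje
      rw [show n⁻¹ * g * k * (n⁻¹ * g)⁻¹ = n⁻¹ * (g * k * g⁻¹) * n by group, ← hje']
      rwa [show n⁻¹ * (n * j * n⁻¹) * n = j by group]
    have := mul_mem (mem_sup_left (hQM hn) : n ∈ M ⊔ T) (mem_sup_right hnT)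
    rwa [mul_inv_cancel_left] at this
  have hMT : M ⊔ T = ⊤ := top_le_iff.mp (hfr ▸ sup_le hNsub le_sup_left)
  -- `p`-elements of `M ⊓ T` are trivial
  have hMTp : ∀ y ∈ M ⊓ T, (∃ k, orderOf y = p ^ k) → y = 1 := by
    rintro y ⟨hyM, hyN, hyL⟩ ⟨k, hk⟩
    have hyX : y ∈ X := ⟨hyN, hyM⟩
    have hyp : IsPGroup p (zpowers (⟨y, hyX⟩ : X)) :=
      IsPGroup.of_card (n := k) (by rw [Nat.card_zpowers, Subgroup.orderOf_mk, hk])
    obtain ⟨S, hS⟩ := hyp.exists_le_sylow
    haveI := Sylow.unique_of_normal Sx hQxn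
    rw [Subsingleton.elim S Sx] at hS
    have hyQ : y ∈ Q := mem_subgroupOf.mp (hS (mem_zpowers _))
    have hcen : (⟨y, hyX⟩ : X) ∈ center X := by
      rw [mem_center_iff]
      intro w
      obtain ⟨⟨⟨q, hq⟩, ⟨l, hl⟩⟩, he, -⟩ := hL₀.existsUnique w
      have h1 : y * (l : G) * y⁻¹ * (l : G)⁻¹ ∈ Q ⊓ L := by
        refine ⟨?_, L.mul_mem ((mem_normalizer_iff.mp hyL l).mp ⟨l, hl, rfl⟩) (L.inv_mem ⟨l, hl, rfl⟩)⟩
        rw [mul_assoc, mul_assoc, ← mul_assoc (l : G)]
        exact mul_mem hyQ ((mem_normalizer_iff.mp (hLX ⟨l, hl, rfl⟩).1 _).mp (inv_mem hyQ))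
      have hdis : Q ⊓ L = ⊥ := by
        rw [← disjoint_iff]
        refine disjoint_of_coprime_natCard ?_
        rw [hQ, card_map_of_injective M.subtype_injective, ha]
        exact (hLcard.pow_right a).symm
      rw [hdis, mem_bot] at h1
      have h2 : y * (l : G) = l * y := mul_inv_eq_iff_eq_mul.mp (mul_inv_eq_one.mp h1)
      have h3 : (q : G) * y = y * q := hQcomm _ (mem_subgroupOf.mp hq) _ hyQ
      apply Subtype.ext
      show (w : G) * y = y * w
      rw [← congrArg Subtype.val he]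
      show (q : G) * l * y = y * (q * l)
      rw [mul_assoc, ← h2, ← mul_assoc, h3, mul_assoc]
    have h1 : (⟨y, hyX⟩ : X) ∈ (Sx : Subgroup X) ⊓ _root_.commutator X ⊓ center X :=
      ⟨⟨mem_subgroupOf.mpr hyQ, hQle (mem_subgroupOf.mpr hyQ)⟩, hcen⟩
    rw [inf_commutator_inf_center_eq_bot_sylow Sx, mem_bot] at h1
    exact congrArg Subtype.val h1
  let K₀ : Sylow p T := Classical.arbitrary _
  set K : Subgroup G := (K₀ : Subgroup T).map T.subtype with hK
  have hdisK : Disjoint K M := by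
    rw [disjoint_iff, eq_bot_iff]
    rintro y ⟨⟨z, hz, rfl⟩, hyM⟩
    obtain ⟨k, hk⟩ := IsPGroup.iff_orderOf.mp K₀.2 ⟨z, hz⟩
    rw [Subgroup.orderOf_mk] at hk
    exact hMTp _ ⟨hyM, z.2⟩ ⟨k, by rw [Subgroup.coe_subtype, Subgroup.orderOf_coe, hk]⟩
  refine ⟨K, isComplement'_of_card_mul_and_disjoint ?_ hdisK⟩
  obtain ⟨e, he⟩ := index_pResidual_eq_pow (G := G) (p := p)
  rw [← hM] at he
  have hrel : (M.subgroupOf T).index = p ^ e := by
    rw [← he]
    show M.relIndex T = M.index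
    rw [← relIndex_sup_left, hMT, relIndex_top_right]
  have hcopMT : ¬ p ∣ Nat.card (M.subgroupOf T) := fun hd => by
    obtain ⟨y, hy⟩ := exists_prime_orderOf_dvd_card' p hd
    have := hMTp (((y : T)) : G) ⟨mem_subgroupOf.mp y.2, (y : T).2⟩
      ⟨1, by rw [Subgroup.orderOf_coe, Subgroup.orderOf_coe, hy, pow_one]⟩
    rw [← Subgroup.orderOf_coe, ← Subgroup.orderOf_coe, this, orderOf_one] at hy
    exact hp.out.ne_one hy.symm
  have hKc : Nat.card K = p ^ e := by
    rw [hK, card_map_of_injective T.subtype_injective, K₀.card_eq_multiplicity,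
      ← (M.subgroupOf T).card_mul_index, hrel, Nat.factorization_mul Nat.card_pos.ne'
      (pow_ne_zero _ hp.out.ne_zero), Finsupp.add_apply, hp.out.factorization_pow,
      Finsupp.single_eq_same, Nat.factorization_eq_zero_of_not_dvd hcopMT, zero_add]
  rw [hKc, ← he, mul_comm, M.card_mul_index]

/-- If the Sylow p-subgroups of O^p(G) are abelian then G splits over O^p(G). -/
theorem result {G : Type*} [Group G] [Finite G] {p : ℕ} [Fact p.Prime] (h : ∀ Q : Sylow p (Cfsg.pResidual p G), IsMulCommutative Q) : ∃ K : Subgroup G, K.IsComplement' (Cfsg.pResidual p G) := by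
  exact main h

end Cfsg.Agent.S0092
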