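import Cfsg.Statements.S0094
import Cfsg.Agent.Lib.PGroup.ClassTwo
import Cfsg.Agent.Lib.PGroup.Basic

set_option autoImplicit false
set_option linter.style.haveILetI false
open Cfsg

namespace Cfsg.Agent.S0094

/-- In a special p-group every central element has order dividing p. -/
theorem result {P : Type*} [Group P] [Finite P] {p : ℕ} [Fact p.Prime] (h : Cfsg.IsSpecial p P) (z : P) (hz : z ∈ Subgroup.center P) : z ^ p = 1 := by
  obtain ⟨hP, hF, hG⟩ := h
  rw [← hG, _root_.commutator_eq_closure] at hz
  induction hz using Subgroup.closure_induction with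
  | mem x hx =>
    obtain ⟨a, b, rfl⟩ := hx
    rw [← Cfsg.Lib.PGroup.commutatorElement_pow_left hG.le, commutatorElement_eq_one_iff_commute]
    exact (Subgroup.mem_center_iff.mp (hF ▸ Cfsg.Lib.PGroup.pow_mem_frattini hP a) b).symm
  | one => exact one_pow p
  | mul x y hx hy hx' hy' =>
    rw [← _root_.commutator_eq_closure, hG] at hy
    rw [(show Commute x y from Subgroup.mem_center_iff.mp hy x).mul_pow, hx', hy', one_mul]
  | inv x _ hx' => rw [inv_pow, hx', inv_one]

end Cfsg.Agent.S0094
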