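import Cfsg.Statements.S0095
import Cfsg.Agent.Lib.PGroup.ClassTwo

set_option autoImplicit false
set_option linter.style.haveILetI false
open Cfsg

namespace Cfsg.Agent.S0095

open Subgroup in
open scoped commutatorElement in
theorem symplectic {P : Type*} [Group P] [Finite P] {p : ℕ} [hp : Fact p.Prime]
    (hc : commutator P ≤ center P) (hZ : Nat.card (center P) = p) :
    ∀ Q : Subgroup P, center P ≤ Q → (∀ q ∈ Q, (∀ r ∈ Q, Commute q r) → q ∈ center P) →
      ∃ n : ℕ, Nat.card Q = p ^ (2 * n + 1) := by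
  intro Q
  induction Q using WellFoundedLT.induction with
  | _ Q ih =>
  intro hZQ hQ
  by_cases hQZ : Q = center P
  · exact ⟨0, by rw [hQZ, hZ]; simp⟩
  obtain ⟨x, hx, hxZ⟩ := SetLike.exists_of_lt (lt_of_le_of_ne hZQ (Ne.symm hQZ))
  obtain ⟨y, hy, hxy⟩ : ∃ y ∈ Q, ¬ Commute x y := by
    by_contra h
    push Not at h
    exact hxZ (hQ x hx h)
  have hcm : ∀ a b : P, ⁅a, b⁆ ∈ center P := fun a b => hc (commutator_mem_commutator (mem_top a) (mem_top b))
  let f : Q →* center P × center P := MonoidHom.mk' (fun q => (⟨⁅x, (q : P)⁆, hcm _ _⟩, ⟨⁅y, (q : P)⁆, hcm _ _⟩))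
    (fun a b => Prod.ext (Subtype.ext (Cfsg.Lib.PGroup.commutatorElement_mul_right hc x a b))
      (Subtype.ext (Cfsg.Lib.PGroup.commutatorElement_mul_right hc y a b)))
  have hcne : ⁅x, y⁆ ≠ 1 := fun h => hxy (commutatorElement_eq_one_iff_commute.mp h)
  have hgen : ∀ u : center P, ∀ z : center P, z ≠ 1 → u ∈ zpowers z := by
    intro u z hz
    haveI : Fact (Nat.card (center P)).Prime := ⟨by rw [hZ]; exact hp.out⟩
    rw [zpowers_eq_top_of_prime_card (G := center P) (g := z) rfl hz]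
    trivial
  have hpair : ∀ u v : center P, ∃ a b : ℤ, f ((⟨y, hy⟩ : Q) ^ a * (⟨x, hx⟩ : Q) ^ b) = (u, v) := by
    intro u v
    have h1 : (⟨⁅x, y⁆, hcm _ _⟩ : center P) ≠ 1 := fun h => hcne (congrArg Subtype.val h)
    have h2 : (⟨⁅y, x⁆, hcm _ _⟩ : center P) ≠ 1 := fun h => by
      have h3 : ⁅y, x⁆ = 1 := congrArg Subtype.val h
      exact hxy (commutatorElement_eq_one_iff_commute.mp h3).symm
    obtain ⟨a, ha⟩ := mem_zpowers_iff.mp (hgen u _ h1)
    obtain ⟨b, hb⟩ := mem_zpowers_iff.mp (hgen v _ h2)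
    refine ⟨a, b, ?_⟩
    have e1 : f ⟨y, hy⟩ = (⟨⁅x, y⁆, hcm _ _⟩, 1) :=
      Prod.ext rfl (Subtype.ext (commutatorElement_self y))
    have e2 : f ⟨x, hx⟩ = (1, ⟨⁅y, x⁆, hcm _ _⟩) :=
      Prod.ext (Subtype.ext (commutatorElement_self x)) rfl
    rw [map_mul, map_zpow, map_zpow, e1, e2, Prod.pow_def, Prod.pow_def, Prod.mk_mul_mk, one_zpow, one_zpow,
      mul_one, one_mul, ha, hb]
  have hsurj : Function.Surjective f := fun w => by
    obtain ⟨a, b, h⟩ := hpair w.1 w.2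
    exact ⟨_, h⟩
  set R := f.ker.map Q.subtype with hR
  have hRQ : R ≤ Q := map_subtype_le _
  have hmemR : ∀ r ∈ R, Commute x r ∧ Commute y r := by
    rintro _ ⟨r, hr, rfl⟩
    have h := MonoidHom.mem_ker.mp hr
    exact ⟨commutatorElement_eq_one_iff_commute.mp (congrArg (fun w => ((w.1 : center P) : P)) h),
      commutatorElement_eq_one_iff_commute.mp (congrArg (fun w => ((w.2 : center P) : P)) h)⟩
  have hRlt : R < Q := lt_of_le_of_ne hRQ fun h => hxy (hmemR y (h.ge hy)).1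
  have hZR : center P ≤ R := by
    intro z hz
    refine ⟨⟨z, hZQ hz⟩, MonoidHom.mem_ker.mpr (Prod.ext (Subtype.ext ?_) (Subtype.ext ?_)), rfl⟩
    · exact commutatorElement_eq_one_iff_commute.mpr (mem_center_iff.mp hz x)
    · exact commutatorElement_eq_one_iff_commute.mpr (mem_center_iff.mp hz y)
  obtain ⟨n, hn⟩ := ih R hRlt hZR fun r hr hcr => by
    refine hQ r (hRQ hr) fun q hq => ?_
    obtain ⟨a, b, hab⟩ := hpair (f ⟨q, hq⟩).1 (f ⟨q, hq⟩).2
    set m := (⟨y, hy⟩ : Q) ^ a * (⟨x, hx⟩ : Q) ^ b with hm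
    have hk : m⁻¹ * ⟨q, hq⟩ ∈ f.ker := by
      rw [MonoidHom.mem_ker, map_mul, map_inv, hab]
      simp
    have h1 : Commute r ((m⁻¹ * ⟨q, hq⟩ : Q) : P) := hcr _ ⟨_, hk, rfl⟩
    have h2 : Commute r (m : P) := by
      rw [hm, Subgroup.coe_mul, SubgroupClass.coe_zpow, SubgroupClass.coe_zpow]
      exact ((hmemR r hr).2.symm.zpow_right a).mul_right ((hmemR r hr).1.symm.zpow_right b)
    have h3 := h2.mul_right h1
    simpa using h3
  refine ⟨n + 1, ?_⟩
  rw [← f.ker.card_mul_index, index_ker, MonoidHom.range_eq_top.mpr hsurj, card_top, Nat.card_prod, hZ,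
    ← card_map_of_injective Q.subtype_injective, ← hR, hn]
  ring

/-- The order of an extraspecial p-group is an odd power p^(2n+1) of p with n ≥ 1. -/
theorem result {P : Type*} [Group P] [Finite P] {p : ℕ} [Fact p.Prime] (h : Cfsg.IsExtraspecial p P) : ∃ n : ℕ, 1 ≤ n ∧ Nat.card P = p ^ (2 * n + 1) := by
  obtain ⟨⟨hP, hF, hG⟩, hZ⟩ := h
  obtain ⟨n, hn⟩ := symplectic hG.le hZ ⊤ le_top
    (fun q _ h => Subgroup.mem_center_iff.mpr fun g => (h g (Subgroup.mem_top g)).symm)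
  rw [Subgroup.card_top] at hn
  refine ⟨n, Nat.one_le_iff_ne_zero.mpr fun h0 => ?_, hn⟩
  rw [h0, Nat.mul_zero, Nat.zero_add, pow_one] at hn
  haveI : IsCyclic P := isCyclic_of_prime_card hn
  have h1 : Subgroup.center P = ⊥ := by
    rw [← hG, _root_.commutator_def, eq_bot_iff, Subgroup.commutator_le]
    intro a _ b _
    rw [Subgroup.mem_bot, commutatorElement_eq_one_iff_commute]
    letI := IsCyclic.commGroup (α := P)
    exact Commute.all a b
  rw [h1, Subgroup.card_bot] at hZ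
  exact (Fact.out : p.Prime).one_lt.ne hZ

end Cfsg.Agent.S0095
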