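import Cfsg.Statements.S0097
import Cfsg.Agent.S0096
import Cfsg.Agent.Lib.PGroup.Basic

set_option autoImplicit false
set_option linter.style.haveILetI false
open Cfsg

namespace Cfsg.Agent.S0097

/-- For odd p and E extraspecial, the subgroup generated by the elements of order dividing p has exponent dividing p and index at most p. -/
theorem result {E : Type*} [Group E] [Finite E] {p : ℕ} [Fact p.Prime] (hp : p ≠ 2) (h : Cfsg.IsExtraspecial p E) : (Subgroup.closure {x : E | x ^ p = 1}).index ≤ p ∧ ∀ g ∈ Subgroup.closure {x : E | x ^ p = 1}, g ^ p = 1 := by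
  obtain ⟨⟨hP, hF, hG⟩, hZ⟩ := h
  have hpp := (Fact.out : p.Prime)
  refine ⟨?_, fun g hg => Cfsg.Agent.S0096.pow_closure hpp hp hG.le hg⟩
  have hpc : ∀ x : E, x ^ p ∈ Subgroup.center E := fun x => hF ▸ Cfsg.Lib.PGroup.pow_mem_frattini hP x
  let f : E →* Subgroup.center E := MonoidHom.mk' (fun x => ⟨x ^ p, hpc x⟩) (fun x y => by
    apply Subtype.ext
    obtain ⟨c, hcc⟩ := hpp.dvd_choose_self (k := 2) two_ne_zero (lt_of_le_of_ne hpp.two_le (Ne.symm hp))
    show (x * y) ^ p = x ^ p * y ^ p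
    rw [Cfsg.Lib.PGroup.mul_pow_of_class_two hG.le, hcc, pow_mul,
      ← Cfsg.Lib.PGroup.commutatorElement_pow_left hG.le,
      (commutatorElement_eq_one_iff_commute (g₁ := y ^ p) (g₂ := x)).mpr
        ((Subgroup.mem_center_iff.mp (hpc y) x).symm), one_pow, mul_one])
  have hle : f.ker ≤ Subgroup.closure {x : E | x ^ p = 1} := fun x hx =>
    Subgroup.subset_closure (congrArg Subtype.val (MonoidHom.mem_ker.mp hx))
  calc (Subgroup.closure {x : E | x ^ p = 1}).index ≤ f.ker.index :=
        Nat.le_of_dvd (Nat.pos_of_ne_zero f.ker.index_ne_zero_of_finite) (Subgroup.index_dvd_of_le hle)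
    _ = Nat.card f.range := Subgroup.index_ker f
    _ ≤ p := hZ ▸ Subgroup.card_le_card_group _

end Cfsg.Agent.S0097
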