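import Cfsg.Statements.S0099
import Cfsg.Agent.Lib.PGroup.ExtraspecialClassify

set_option autoImplicit false
open Cfsg

namespace Cfsg.Agent.S0099

/-- Among three extraspecial 2-groups of equal order, some two are isomorphic. -/
theorem result {E₁ : Type*} {E₂ : Type*} {E₃ : Type*} [Group E₁] [Group E₂] [Group E₃] [Finite E₁] [Finite E₂] [Finite E₃] (h₁ : Cfsg.IsExtraspecial 2 E₁) (h₂ : Cfsg.IsExtraspecial 2 E₂) (h₃ : Cfsg.IsExtraspecial 2 E₃) (h12 : Nat.card E₁ = Nat.card E₂) (h23 : Nat.card E₂ = Nat.card E₃) : Nonempty (E₁ ≃* E₂) ∨ Nonempty (E₂ ≃* E₃) ∨ Nonempty (E₁ ≃* E₃) := by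
  haveI : Fact (Nat.Prime 2) := ⟨Nat.prime_two⟩
  obtain ⟨z₁, L₁, s₁, k₁, -, c₁, d₁⟩ := Cfsg.Lib.Extraspecial.two_kinds h₁
  obtain ⟨z₂, L₂, s₂, k₂, -, c₂, d₂⟩ := Cfsg.Lib.Extraspecial.two_kinds h₂
  obtain ⟨z₃, L₃, s₃, k₃, -, c₃, d₃⟩ := Cfsg.Lib.Extraspecial.two_kinds h₃
  have l12 : L₁.length = L₂.length := by
    have := Nat.pow_right_injective (le_refl 2) (c₁.symm.trans (h12.trans c₂)); omega
  have l23 : L₂.length = L₃.length := by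
    have := Nat.pow_right_injective (le_refl 2) (c₂.symm.trans (h23.trans c₃)); omega
  rcases d₁ with d₁ | d₁ <;> rcases d₂ with d₂ | d₂ <;> rcases d₃ with d₃ | d₃
  · exact Or.inl (Cfsg.Lib.Extraspecial.equiv_DD s₁ s₂ k₁ k₂ l12 d₁.1 d₂.1)
  · exact Or.inl (Cfsg.Lib.Extraspecial.equiv_DD s₁ s₂ k₁ k₂ l12 d₁.1 d₂.1)
  · exact Or.inr (Or.inr (Cfsg.Lib.Extraspecial.equiv_DD s₁ s₃ k₁ k₃ (l12.trans l23) d₁.1 d₃.1))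
  · exact Or.inr (Or.inl (Cfsg.Lib.Extraspecial.equiv_QQ s₂ s₃ k₂ k₃ l23 d₂.1 d₃.1))
  · exact Or.inr (Or.inl (Cfsg.Lib.Extraspecial.equiv_DD s₂ s₃ k₂ k₃ l23 d₂.1 d₃.1))
  · exact Or.inr (Or.inr (Cfsg.Lib.Extraspecial.equiv_QQ s₁ s₃ k₁ k₃ (l12.trans l23) d₁.1 d₃.1))
  · exact Or.inl (Cfsg.Lib.Extraspecial.equiv_QQ s₁ s₂ k₁ k₂ l12 d₁.1 d₂.1)
  · exact Or.inl (Cfsg.Lib.Extraspecial.equiv_QQ s₁ s₂ k₁ k₂ l12 d₁.1 d₂.1)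

end Cfsg.Agent.S0099
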