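import Cfsg.Statements.S0100
import Cfsg.Agent.Lib.PGroup.OddNormalElementary
import Cfsg.Agent.Lib.PGroup.NormalStep

set_option autoImplicit false
set_option linter.style.haveILetI false
open Cfsg
open scoped commutatorElement

namespace Cfsg.Agent.S0100

/-- For odd p, a p-group without normal elementary abelian subgroups of order p^3 has p-rank at most 2. -/
theorem result {P : Type*} [Group P] [Finite P] {p : ℕ} [Fact p.Prime] (hp : p ≠ 2) (hP : IsPGroup p P) (h : ∀ A : Subgroup P, A.Normal → IsMulCommutative A → (∀ a ∈ A, a ^ p = 1) → Nat.card A ≠ p ^ 3) (E : Subgroup P) (hE : IsMulCommutative E) (hEe : ∀ e ∈ E, e ^ p = 1) : Nat.card E ≤ p ^ 2 := by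
  classical
  haveI : Finite (Subgroup P) := Finite.of_injective ((↑) : Subgroup P → Set P) SetLike.coe_injective
  obtain ⟨A, ⟨hAn, hA⟩, hmax⟩ := (Set.toFinite {A : Subgroup P | A.Normal ∧ Cfsg.IsElementaryAbelian p A}).exists_maximal
    ⟨⊥, inferInstance, ⟨⟨fun a b => Subsingleton.elim _ _⟩⟩, fun a ha => by rw [Subgroup.mem_bot.1 ha, one_pow]⟩
  haveI := hAn
  have hmax' : ∀ K : Subgroup P, K.Normal → Cfsg.IsElementaryAbelian p K → A ≤ K → K = A := fun K hK hKe hle =>
    le_antisymm (hmax ⟨hK, hKe⟩ hle) hle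
  have hpp : p.Prime := Fact.out
  have hAc : Nat.card A ≤ p ^ 2 := by
    by_contra hlt
    push Not at hlt
    obtain ⟨k, hk⟩ := IsPGroup.iff_card.1 (hP.to_subgroup A)
    have hk3 : 3 ≤ k := by
      by_contra h3
      rw [hk] at hlt
      exact absurd hlt (not_lt.2 (Nat.pow_le_pow_right hpp.pos (by omega)))
    obtain ⟨B, hBn, hBA, hBc⟩ := Cfsg.Lib.PGroup.NormalStep.exists_normal_le hP A 3 (hk ▸ pow_dvd_pow p hk3)
    exact h B hBn ⟨⟨fun a b => Subtype.ext
      (congrArg (Subtype.val : A → P) (hA.1.is_comm.comm ⟨a, hBA a.2⟩ ⟨b, hBA b.2⟩))⟩⟩ (fun a ha => hA.2 a (hBA ha)) hBc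
  have hin : ∀ e ∈ E, e ∈ Subgroup.centralizer (A : Set P) → e ∈ A := fun e he hc =>
    Cfsg.Lib.PGroup.OddNormalElementary.mem_of_centralizes hp hP A hA hmax' (hEe e he) hc
  by_cases hall : E ≤ Subgroup.centralizer (A : Set P)
  · exact (Subgroup.card_le_of_le (fun e he => hin e he (hall he))).trans hAc
  obtain ⟨e₀, he₀, he₀c⟩ := SetLike.not_le_iff_exists.1 hall
  have hAne : A ≠ ⊥ := fun hb => by
    refine he₀c (Subgroup.mem_centralizer_iff.2 fun a ha => ?_)
    rw [Subgroup.mem_bot.1 (hb.le ha), one_mul, mul_one]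
  obtain ⟨z, hzA, hzc, hzo⟩ := Cfsg.Lib.PGroup.exists_mem_center_orderOf_eq hP hAne
  have hZA : Subgroup.zpowers z ≤ A := Subgroup.zpowers_le.2 hzA
  obtain ⟨a, haA, haz⟩ : ∃ a ∈ A, a ∉ Subgroup.zpowers z := by
    by_contra hcon
    push Not at hcon
    refine he₀c (Subgroup.mem_centralizer_iff.2 fun a ha => ?_)
    exact ((Subgroup.mem_center_iff.1 ((Subgroup.zpowers_le.2 hzc) (hcon a ha))) e₀).symm
  haveI : (Subgroup.zpowers z).Normal := ⟨fun x hx g => by
    rw [Subgroup.mem_center_iff.1 (Subgroup.zpowers_le.2 hzc hx) g, mul_inv_cancel_right]; exact hx⟩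
  -- `A` is generated by `z` and `a`
  have hgen : Subgroup.zpowers z ⊔ Subgroup.zpowers a = A := by
    refine Subgroup.eq_of_le_of_card_ge (sup_le hZA (Subgroup.zpowers_le.2 haA)) (hAc.trans ?_)
    obtain ⟨k, hk⟩ := IsPGroup.iff_card.1 (hP.to_subgroup (Subgroup.zpowers z ⊔ Subgroup.zpowers a))
    have h1 : p < Nat.card ↥(Subgroup.zpowers z ⊔ Subgroup.zpowers a) := by
      have hz : Nat.card (Subgroup.zpowers z) = p := by rw [Nat.card_zpowers, hzo]
      refine lt_of_le_of_ne (hz.ge.trans (Subgroup.card_le_of_le le_sup_left)) fun he => haz ?_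
      exact (Subgroup.eq_of_le_of_card_ge le_sup_left (by rw [← he, hz])).ge
        (Subgroup.mem_sup_right (Subgroup.mem_zpowers a))
    rw [hk] at h1 ⊢
    refine Nat.pow_le_pow_right hpp.pos ?_
    by_contra hk2
    exact absurd h1 (not_lt.2 (by simpa using Nat.pow_le_pow_right hpp.pos (show k ≤ 1 by omega)))
  have hcomm : ∀ g : P, ⁅g, a⁆ ∈ Subgroup.zpowers z := by
    intro g
    set π := QuotientGroup.mk' (Subgroup.zpowers z) with hπ
    haveI : (A.map π).Normal := hAn.map π (QuotientGroup.mk'_surjective _)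
    have hAeq : A.map π = Subgroup.zpowers (π a) := by
      rw [← hgen, Subgroup.map_sup, MonoidHom.map_zpowers, MonoidHom.map_zpowers,
        show π z = 1 from (QuotientGroup.eq_one_iff z).2 (Subgroup.mem_zpowers z), Subgroup.zpowers_one_eq_bot, bot_sup_eq]
    have hord : orderOf (π a) = p := orderOf_eq_prime (by rw [← map_pow, hA.2 a haA, map_one])
      fun h1 => haz ((QuotientGroup.eq_one_iff a).1 h1)
    have h4 := Cfsg.Lib.PGroup.le_center_of_card_eq_prime (hP.to_quotient (Subgroup.zpowers z))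
      (show Nat.card (A.map π) = p by rw [hAeq, Nat.card_zpowers, hord]) (Subgroup.mem_map_of_mem π haA)
    rw [← QuotientGroup.eq_one_iff]
    show π ⁅g, a⁆ = 1
    rw [map_commutatorElement, commutatorElement_eq_one_iff_mul_comm]
    exact Subgroup.mem_center_iff.1 h4 (π g)
  let φ : E →* Subgroup.zpowers z :=
    MonoidHom.mk' (fun e => ⟨⁅(e : P), a⁆, hcomm e⟩) fun e f => Subtype.ext (by
      show ⁅((e * f : E) : P), a⁆ = ⁅(e : P), a⁆ * ⁅(f : P), a⁆
      have hz' : ∀ w ∈ Subgroup.zpowers z, ∀ u : P, u * w = w * u := fun w hw u =>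
        Subgroup.mem_center_iff.1 (Subgroup.zpowers_le.2 hzc hw) u
      rw [Subgroup.coe_mul, show ⁅(e : P) * f, a⁆ = (e : P) * ⁅(f : P), a⁆ * (e : P)⁻¹ * ⁅(e : P), a⁆ by
        simp only [commutatorElement_def]; group, hz' _ (hcomm f), mul_inv_cancel_right, ← hz' _ (hcomm f)])
  have hker : ∀ e : E, e ∈ φ.ker → (e : P) ∈ A ⊓ Subgroup.centralizer {e₀} := by
    intro e he
    refine ⟨hin e e.2 (Subgroup.mem_centralizer_iff.2 fun b hb => ?_), Subgroup.mem_centralizer_singleton_iff.2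
      (congrArg Subtype.val (hE.is_comm.comm e ⟨e₀, he₀⟩))⟩
    have h1 : ⁅(e : P), a⁆ = 1 := congrArg Subtype.val (MonoidHom.mem_ker.1 he)
    have hle : Subgroup.zpowers z ⊔ Subgroup.zpowers a ≤ Subgroup.centralizer {(e : P)} :=
      sup_le (Subgroup.zpowers_le.2 (Subgroup.mem_centralizer_singleton_iff.2
          ((Subgroup.mem_center_iff.1 hzc (e : P)).symm)))
        (Subgroup.zpowers_le.2 (Subgroup.mem_centralizer_singleton_iff.2
          (commutatorElement_eq_one_iff_mul_comm.1 h1).symm))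
    exact Subgroup.mem_centralizer_singleton_iff.1 (hle (hgen.ge hb))
  have hlt : Nat.card ↥(A ⊓ Subgroup.centralizer {e₀} : Subgroup P) ≤ p := by
    have hne : (A ⊓ Subgroup.centralizer {e₀} : Subgroup P) ≠ A := fun heq =>
      he₀c (Subgroup.mem_centralizer_iff.2 fun b hb =>
        Subgroup.mem_centralizer_singleton_iff.1 (heq.ge hb).2)
    obtain ⟨k, hk⟩ := IsPGroup.iff_card.1 (hP.to_subgroup (A ⊓ Subgroup.centralizer {e₀}))
    have h1 : Nat.card ↥(A ⊓ Subgroup.centralizer {e₀} : Subgroup P) < p ^ 2 :=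
      lt_of_lt_of_le (lt_of_le_of_ne (Subgroup.card_le_of_le inf_le_left) fun he =>
        hne (Subgroup.eq_of_le_of_card_ge inf_le_left he.ge)) hAc
    rw [hk] at h1 ⊢
    have h2 := (Nat.pow_lt_pow_iff_right hpp.one_lt).1 h1
    calc p ^ k ≤ p ^ 1 := Nat.pow_le_pow_right hpp.pos (by omega)
      _ = p := pow_one p
  have h1 := Subgroup.card_mul_index φ.ker
  rw [Subgroup.index_ker] at h1
  calc Nat.card E = Nat.card φ.ker * Nat.card φ.range := h1.symm
    _ ≤ p * p := Nat.mul_le_mul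
        (((Nat.card_le_card_of_injective (fun e : φ.ker => (⟨((e : E) : P), hker e e.2⟩ :
          (A ⊓ Subgroup.centralizer {e₀} : Subgroup P))) fun e f hef =>
            Subtype.ext (Subtype.ext (congrArg (Subtype.val : (A ⊓ Subgroup.centralizer {e₀} : Subgroup P) → P) hef)))).trans hlt)
        (((Subgroup.card_le_card_group φ.range)).trans (by rw [Nat.card_zpowers, hzo]))
    _ = p ^ 2 := (sq p).symm

end Cfsg.Agent.S0100
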