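import Cfsg.Statements.S0101
import Cfsg.Agent.Lib.PGroup.Basic

set_option autoImplicit false
set_option linter.style.haveILetI false
open Cfsg

namespace Cfsg.Agent.S0101

/-- In a perfect central extension, the kernel meets each Sylow p-subgroup P inside the Frattini subgroup of P. -/
theorem result {H : Type*} {G : Type*} [Group H] [Group G] [Finite H] (σ : H →* G) (hσ : Function.Surjective σ) (hc : σ.ker ≤ Subgroup.center H) (hH : commutator H = ⊤) {p : ℕ} [Fact p.Prime] (P : Sylow p H) : σ.ker ⊓ (P : Subgroup H) ≤ (frattini P).map (P : Subgroup H).subtype := by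
  rintro z ⟨hzk, hzP⟩
  have hzc := hc hzk
  let φ : (P : Subgroup H) →* Abelianization (P : Subgroup H) := Abelianization.of
  have h1 : MonoidHom.transfer φ z = 1 := by
    have : z ∈ (commutator H) := hH ▸ Subgroup.mem_top z
    exact Abelianization.commutator_subset_ker _ this
  rw [MonoidHom.transfer_eq_pow _ z (fun k g₀ _ => by
    rw [mul_assoc, ← Subgroup.mem_center_iff.mp (pow_mem hzc k) g₀, inv_mul_cancel_left])] at h1
  refine ⟨⟨z, hzP⟩, ?_, rfl⟩
  have h2 : (⟨z, hzP⟩ : (P : Subgroup H)) ^ (P : Subgroup H).index ∈ frattini (P : Subgroup H) := by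
    apply Cfsg.Lib.PGroup.commutator_le_frattini P.2
    have h4 := (QuotientGroup.eq_one_iff _).mp h1
    have h5 : (⟨z, hzP⟩ : (P : Subgroup H)) ^ (P : Subgroup H).index =
        (⟨z ^ (P : Subgroup H).index, pow_mem hzP _⟩ : (P : Subgroup H)) := rfl
    rw [h5]
    exact h4
  obtain ⟨k, hk⟩ := IsPGroup.iff_orderOf.mp P.2 ⟨z, hzP⟩
  obtain ⟨m, hm⟩ := exists_pow_eq_self_of_coprime (n := (P : Subgroup H).index) (x := (⟨z, hzP⟩ : (P : Subgroup H)))
    (hk ▸ (((Fact.out : p.Prime).coprime_iff_not_dvd.mpr P.not_dvd_index).symm.pow_right k))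
  rw [← hm]
  exact pow_mem h2 m

end Cfsg.Agent.S0101
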