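import Cfsg.Statements.S0103

set_option autoImplicit false
set_option linter.style.haveILetI false
open Cfsg

namespace Cfsg.Agent.S0103

/-- If a Sylow p-subgroup P intersects every distinct conjugate trivially, then its normalizer controls fusion in P. -/
theorem result {G : Type*} [Group G] [Finite G] {p : ℕ} [Fact p.Prime] (P : Sylow p G) (hTI : ∀ g : G, (P : Subgroup G).map (MulAut.conj g).toMonoidHom ≠ (P : Subgroup G) → (P : Subgroup G) ⊓ (P : Subgroup G).map (MulAut.conj g).toMonoidHom = ⊥) (x y : G) (hx : x ∈ P) (hy : y ∈ P) (hc : ∃ g : G, g * x * g⁻¹ = y) : ∃ n ∈ Subgroup.normalizer (P : Set G), n * x * n⁻¹ = y := by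
  obtain ⟨g, rfl⟩ := hc
  by_cases hne : x = 1
  · exact ⟨1, one_mem _, by simp [hne]⟩
  by_cases h : (P : Subgroup G).map (MulAut.conj g).toMonoidHom = (P : Subgroup G)
  · refine ⟨g, ?_, rfl⟩
    show g ∈ Subgroup.normalizer ((P : Subgroup G) : Set G)
    rw [Subgroup.mem_normalizer_iff]
    intro k
    constructor
    · intro hk
      exact h ▸ Subgroup.mem_map_of_mem _ hk
    · intro hk
      rw [← h] at hk
      obtain ⟨k', hk', e⟩ := hk
      have : k' = k := by simpa using e
      exact this ▸ hk'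
  · exfalso
    have h1 : g * x * g⁻¹ ∈ ((P : Subgroup G) ⊓ (P : Subgroup G).map (MulAut.conj g).toMonoidHom : Subgroup G) :=
      ⟨hy, x, hx, rfl⟩
    rw [hTI g h, Subgroup.mem_bot] at h1
    apply hne
    calc x = g⁻¹ * (g * x * g⁻¹) * g := by group
      _ = 1 := by rw [h1]; group

end Cfsg.Agent.S0103
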