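import Cfsg.Statements.S0104

set_option autoImplicit false
set_option linter.style.haveILetI false
open Cfsg

namespace Cfsg.Agent.S0104

open scoped Pointwise

/-- A subgroup Z of a Sylow p-subgroup P that is normalized by N_G(P) is weakly closed in P exactly when it is normal in every Sylow p-subgroup containing it. -/
theorem result {G : Type*} [Group G] [Finite G] {p : ℕ} [Fact p.Prime] (P : Sylow p G) (Z : Subgroup G) (hZP : Z ≤ (P : Subgroup G)) (hZN : Subgroup.normalizer (P : Set G) ≤ Subgroup.normalizer (Z : Set G)) : Cfsg.IsWeaklyClosed Z P ↔ ∀ R : Sylow p G, Z ≤ (R : Subgroup G) → (R : Subgroup G) ≤ Subgroup.normalizer (Z : Set G) := by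
  set N := Subgroup.normalizer (Z : Set G) with hNd
  have hPN : (P : Subgroup G) ≤ N := Subgroup.le_normalizer.trans hZN
  have hmap : ∀ g : G, g ∈ N ↔ Z.map (MulAut.conj g).toMonoidHom = Z := by
    intro u
    constructor
    · intro h
      ext k
      constructor
      · rintro ⟨k', hk', rfl⟩
        exact (Subgroup.mem_normalizer_iff.mp h k').mp hk'
      · intro hk
        refine ⟨u⁻¹ * k * u, ?_, by simp [mul_assoc]⟩
        apply (Subgroup.mem_normalizer_iff.mp h _).mpr
        simpa [mul_assoc] using hk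
    · intro h
      rw [hNd, Subgroup.mem_normalizer_iff]
      intro k
      constructor
      · intro hk
        exact h ▸ Subgroup.mem_map_of_mem _ hk
      · intro hk
        rw [← h] at hk
        obtain ⟨k', hk', e⟩ := hk
        have : k' = k := by simpa using e
        exact this ▸ hk'
  have hsm : ∀ (g x : G), x ∈ ((g • P : Sylow p G) : Subgroup G) ↔ g⁻¹ * x * g ∈ (P : Subgroup G) := by
    intro g x
    rw [Sylow.coe_subgroup_smul, Subgroup.mem_pointwise_smul_iff_inv_smul_mem, MulAut.smul_def,
      MulAut.conj_inv_apply]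
  constructor
  · rintro ⟨-, hw⟩ R hR
    obtain ⟨g, rfl⟩ := MulAction.exists_smul_eq G P R
    have hg : g⁻¹ ∈ N := by
      rw [hmap]
      apply hw
      rintro _ ⟨k, hk, rfl⟩
      have := (hsm g k).mp (hR hk)
      simpa using this
    intro x hx
    have hgN := inv_inv g ▸ N.inv_mem hg
    have := N.mul_mem (N.mul_mem hgN (hPN ((hsm g x).mp hx))) hg
    rwa [show g * (g⁻¹ * x * g) * g⁻¹ = x by group] at this
  · intro h
    refine ⟨hZP, fun g hg => ?_⟩
    rw [← hmap]
    have hR : Z ≤ ((g⁻¹ • P : Sylow p G) : Subgroup G) := by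
      intro z hz
      rw [hsm, inv_inv]
      exact hg ⟨z, hz, rfl⟩
    obtain ⟨⟨c, hc⟩, he⟩ := MulAction.exists_smul_eq N ((g⁻¹ • P).subtype (h _ hR)) (P.subtype hPN)
    have he' : c • g⁻¹ • P = P := by
      apply Sylow.subtype_injective (N := N) (hP := ?_) (hQ := hPN)
      · rw [← he]
        exact (Sylow.smul_subtype (h := ⟨c, hc⟩) (h _ hR)).symm
    rw [← mul_smul] at he'
    have h1 := hZN (Sylow.smul_eq_iff_mem_normalizer.mp he')
    have h2 := N.mul_mem (N.inv_mem h1) hc
    rwa [mul_inv_rev, inv_inv, inv_mul_cancel_right] at h2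

end Cfsg.Agent.S0104
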