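import Cfsg.Statements.S0105
import Cfsg.Agent.Lib.Fusion.Abelian

set_option autoImplicit false
open Cfsg

namespace Cfsg.Agent.S0105

open Subgroup

/-- With an abelian Sylow p-subgroup P, some quotient of G is isomorphic to the part of P central in N_G(P). -/
theorem result {G : Type*} [Group G] [Finite G] {p : ℕ} [Fact p.Prime] (P : Sylow p G) (hP : IsMulCommutative P) : ∃ (N : Subgroup G) (hN : N.Normal), Nonempty (G ⧸ N ≃* ((P : Subgroup G) ⊓ Subgroup.centralizer (Subgroup.normalizer (P : Set G) : Set G) : Subgroup G)) := by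
  classical
  haveI := hP
  set N := normalizer ((P : Subgroup G) : Set G) with hN
  set Z := (P : Subgroup G) ⊓ centralizer (N : Set G) with hZ
  set A := (P : Subgroup G).subgroupOf N with hA
  haveI : A.Normal := normal_in_normalizer
  haveI : IsMulCommutative A := ⟨⟨fun a b => Subtype.ext (Subtype.ext
    (congrArg Subtype.val (hP.is_comm.comm (⟨((a : N) : G), a.2⟩ : (P : Subgroup G))
      ⟨((b : N) : G), b.2⟩) :))⟩⟩
  have hcop : (Nat.card A).Coprime A.index := (P.subtype le_normalizer).card_coprime_index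
  obtain ⟨h1, h2, h3⟩ := Cfsg.Lib.Fusion.abelian_normal_hall_decomp A hcop
  -- the images in `G`
  have hc : (center ↥N ⊓ A).map N.subtype = Z := by
    ext x
    constructor
    · rintro ⟨y, ⟨hy1, hy2⟩, rfl⟩
      exact ⟨hy2, mem_centralizer_iff.2 fun g hg =>
        congrArg Subtype.val (mem_center_iff.1 hy1 ⟨g, hg⟩)⟩
    · rintro ⟨hx1, hx2⟩
      exact ⟨⟨x, le_normalizer hx1⟩, ⟨mem_center_iff.2 fun g =>
        Subtype.ext (mem_centralizer_iff.1 hx2 g g.2), hx1⟩, rfl⟩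
  have hD : (commutator ↥N ⊓ A).map N.subtype = ⁅(P : Subgroup G), N⁆ := by
    rw [← h1, map_commutator, ← MonoidHom.range_eq_map, range_subtype, hA, subgroupOf_map_subtype,
      inf_eq_left.2 le_normalizer]
  have hsup : ⁅(P : Subgroup G), N⁆ ⊔ Z = P := by
    rw [← hD, ← hc, ← Subgroup.map_sup, h3, hA, subgroupOf_map_subtype, inf_eq_left.2 le_normalizer]
  have hinf : ⁅(P : Subgroup G), N⁆ ⊓ Z = ⊥ := by
    rw [← hD, ← hc, ← Subgroup.map_inf _ _ _ N.subtype_injective, h2, Subgroup.map_bot]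
  set R := Cfsg.pResidual p G with hR
  have hRP : R ⊓ (P : Subgroup G) = ⁅(P : Subgroup G), N⁆ :=
    Cfsg.Lib.Fusion.pResidual_inf_eq_of_abelian P
  refine ⟨R, inferInstance, ⟨(MulEquiv.ofBijective ((QuotientGroup.mk' R).comp Z.subtype) ⟨?_, ?_⟩).symm⟩⟩
  · rw [← MonoidHom.ker_eq_bot_iff, eq_bot_iff]
    intro z hz
    have hzR : (z : G) ∈ R := (QuotientGroup.eq_one_iff _).1 hz
    have : (z : G) ∈ ⁅(P : Subgroup G), N⁆ ⊓ Z := ⟨hRP ▸ ⟨hzR, z.2.1⟩, z.2⟩
    rw [hinf, mem_bot] at this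
    exact mem_bot.2 (Subtype.ext this)
  · intro q
    obtain ⟨g, rfl⟩ := QuotientGroup.mk'_surjective R q
    obtain ⟨x, hx, m, hm, rfl⟩ := Cfsg.Lib.Fusion.exists_mul_of_sylow P g
    have hx' : x ∈ ⁅(P : Subgroup G), N⁆ ⊔ Z := hsup.symm ▸ hx
    have hle : ⁅(P : Subgroup G), N⁆ ⊔ Z ≤ (R : Subgroup G) ⊔ Z :=
      sup_le_sup_right (hRP.ge.trans inf_le_left) Z
    obtain ⟨r, hr, z, hz, hxz⟩ := mem_sup_of_normal_left.1 (hle hx')
    refine ⟨⟨z, hz⟩, ?_⟩
    show ((z : G) : G ⧸ R) = ((x * m : G) : G ⧸ R)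
    rw [← hxz, QuotientGroup.mk_mul, QuotientGroup.mk_mul, (QuotientGroup.eq_one_iff r).2 hr,
      (QuotientGroup.eq_one_iff m).2 hm, one_mul, mul_one]

end Cfsg.Agent.S0105
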