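import Cfsg.Statements.S0618
import Cfsg.Agent.Lib.Local.FF.Model
import Cfsg.Agent.S0608
import Cfsg.Agent.S0601

set_option autoImplicit false
open Cfsg

namespace Cfsg.Agent.S0618

/-- A p-separable group with trivial p'-core in which the Thompson factorization fails has p = 2 or 3, and J(G) induces on the normal closure of Ω₁(Z(S)) a group containing a normal SL(2, p). -/
theorem result {G : Type*} [Group G] [Finite G] {p : ℕ} [Fact p.Prime] (hsep : Cfsg.IsPSolvable p G) (hO : Cfsg.pPrimeCore p G = ⊥) (hnf : ¬ Cfsg.IsThompsonFactorizable p G) : (p = 2 ∨ p = 3) ∧ ∃ E : Subgroup G, Subgroup.centralizer ((⨆ S : Sylow p G, Cfsg.omegaOne p ((S : Subgroup G) ⊓ Subgroup.centralizer ((S : Subgroup G) : Set G))) : Set G) ≤ E ∧ E ≤ Cfsg.thompsonSubgroup p G ⊔ Subgroup.centralizer ((⨆ S : Sylow p G, Cfsg.omegaOne p ((S : Subgroup G) ⊓ Subgroup.centralizer ((S : Subgroup G) : Set G))) : Set G) ∧ Cfsg.thompsonSubgroup p G ⊔ Subgroup.centralizer ((⨆ S : Sylow p G, Cfsg.omegaOne p ((S : Subgroup G) ⊓ Subgroup.centralizer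 ((S : Subgroup G) : Set G))) : Set G) ≤ Subgroup.normalizer (E : Set G) ∧ ∃ hn : ((Subgroup.centralizer ((⨆ S : Sylow p G, Cfsg.omegaOne p ((S : Subgroup G) ⊓ Subgroup.centralizer ((S : Subgroup G) : Set G))) : Set G)).subgroupOf E).Normal, Nonempty ((↥E ⧸ (Subgroup.centralizer ((⨆ S : Sylow p G, Cfsg.omegaOne p ((S : Subgroup G) ⊓ Subgroup.centralizer ((S : Subgroup G) : Set G))) : Set G)).subgroupOf E) ≃* Matrix.SpecialLinearGroup (Fin 2) (ZMod p)) := by
  open Subgroup Cfsg.Lib.Local.FF in
  · have hc := Cfsg.Lib.Core.centralizer_pCore_le_of_isPSolvable hsep hO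
    obtain ⟨hVn, hV, -⟩ := Cfsg.Agent.S0601.result (p := p) hc
    rw [Cfsg.Agent.S0608.result hO] at hnf
    have hCeq : centralizer (⨆ S : Sylow p G, ((Cfsg.omegaOne p ((S : Subgroup G) ⊓
        centralizer ((S : Subgroup G) : Set G)) : Subgroup G) : Set G)) =
        centralizer ((⨆ S : Sylow p G, Cfsg.omegaOne p ((S : Subgroup G) ⊓
        centralizer ((S : Subgroup G) : Set G)) : Subgroup G) : Set G) := by
      rw [Subgroup.iSup_eq_closure, centralizer_closure]
      rfl
    rw [hCeq]
    set V := ⨆ S : Sylow p G, Cfsg.omegaOne p ((S : Subgroup G) ⊓ centralizer ((S : Subgroup G) : Set G)) with hVdef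
    haveI := hVn
    have hgen : V = ⨆ S : Sylow p G, V ⊓ centralizer ((S : Subgroup G) : Set G) :=
      le_antisymm (iSup_le fun S => le_trans (le_inf (le_iSup (fun T : Sylow p G => Cfsg.omegaOne p
        ((T : Subgroup G) ⊓ centralizer ((T : Subgroup G) : Set G))) S)
          ((Cfsg.Agent.S0601.sylowOmega_le S).trans inf_le_right))
        (le_iSup (fun T : Sylow p G => V ⊓ centralizer ((T : Subgroup G) : Set G)) S))
        (iSup_le fun S => inf_le_left)
    haveI : (Cfsg.thompsonSubgroup p G).Normal := inferInstance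
    have hs := setup_model V hsep hV (Cfsg.Agent.S0600.result V hV hgen) (Cfsg.thompsonSubgroup p G)
    have hS3 := thompson_map_eq_iSup (p := p) V hV
    set H := (Cfsg.thompsonSubgroup p G).map (toModel V) with hH
    obtain ⟨A, hA⟩ : ∃ A, IsOne p (modV V) H A := by
      by_contra hcon
      push Not at hcon
      have hbot : H = ⊥ := le_bot_iff.1 (hs.le_of_forall hS3 fun B hB => absurd hB (hcon B))
      rw [hH, Subgroup.map_eq_bot_iff, toModel_ker] at hbot
      exact hnf hbot
    obtain ⟨hp23, ⟨e⟩, -⟩ := block_iso hs hA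
    obtain ⟨-, -, -, hnorm⟩ := split hs hA hS3
    set E₁ := block p H A with hE₁
    have hE₁H : E₁ ≤ H := block_le_H hA
    refine ⟨hp23, E₁.comap (toModel V), (toModel_ker V).ge.trans ((toModel V).ker_le_comap E₁), ?_, ?_, ?_⟩
    · refine (comap_mono hE₁H).trans (le_of_eq ?_)
      rw [hH, comap_map_eq, toModel_ker]
    · refine le_trans ?_ (le_normalizer_comap (toModel V))
      rw [← map_le_iff_le_comap, Subgroup.map_sup, show (centralizer (V : Set G)).map (toModel V) = ⊥ from
        (Subgroup.map_eq_bot_iff _).2 (toModel_ker V).ge, sup_bot_eq]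
      exact hnorm
    · set f : ↥(E₁.comap (toModel V)) →* ↥E₁ := (toModel V).subgroupComap E₁ with hf
      have hfs : Function.Surjective f := by
        rintro ⟨y, hy⟩
        obtain ⟨g, -, rfl⟩ := hE₁H hy
        exact ⟨⟨g, hy⟩, rfl⟩
      have hk : f.ker = (centralizer (V : Set G)).subgroupOf (E₁.comap (toModel V)) := by
        ext x
        rw [MonoidHom.mem_ker, mem_subgroupOf]
        exact ⟨fun h => (toModel_ker V).le (congrArg Subtype.val h : toModel V x = 1),
          fun h => Subtype.ext ((toModel_ker V).ge h : toModel V x = 1)⟩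
      refine ⟨inferInstance, ⟨((QuotientGroup.quotientMulEquivOfEq hk.symm).trans
        (QuotientGroup.quotientKerEquivOfSurjective f hfs)).trans e⟩⟩

end Cfsg.Agent.S0618
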