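import Cfsg.Statements.S0109
import Cfsg.Agent.S0618
import Cfsg.Agent.Lib.Local.SL2Involved

set_option autoImplicit false
open Cfsg

namespace Cfsg.Agent.S0109

/-- The Thompson factorization Theorem for solvable groups states that, with p odd (and abelian Sylow 2-subgroups when p = 3) and no nontrivial normal subgroup of order prime to p, every element of G is a product of an element normalizing J(P) and an element centralizing the elements of order dividing p in the centre of P. -/
theorem result {G : Type*} [Group G] [Finite G] {p : ℕ} [Fact p.Prime] (hp : p ≠ 2) (hs : Group.IsSolvable G) (h3 : p = 3 → ∀ T : Sylow 2 G, IsMulCommutative T) (hF : ∀ N : Subgroup G, N.Normal → Nat.Coprime (Nat.card N) p → N = ⊥) (P : Sylow p G) (g : G) : ∃ a ∈ Subgroup.normalizer (Cfsg.thompsonSubgroupOf p (P : Subgroup G) : Set G), ∃ c ∈ Subgroup.centralizer {x : G | x ∈ (P : Subgroup G) ∧ (∀ y ∈ (P : Subgroup G), x * y = y * x) ∧ x ^ p = 1}, g = a * c := by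
  have hO : Cfsg.pPrimeCore p G = ⊥ :=
    hF _ inferInstance (Cfsg.Lib.Core.pPrimeCore_coprime p G)
  have hfac : Cfsg.IsThompsonFactorizable p G := by
    by_contra hnf
    obtain ⟨hp23, E, -, -, -, hn, ⟨e⟩⟩ :=
      Cfsg.Agent.S0618.result (Cfsg.Lib.Core.isPSolvable_of_isSolvable (G := G) (p := p)) hO hnf
    rcases hp23 with h | h
    · exact hp h
    · exact Cfsg.Lib.Local.SL2Involved.not_involves_SL2_of_abelian_sylow_two (G := G) (p := p) hp (h3 h) ⟨E, _, hn, ⟨e⟩⟩
  obtain ⟨x, hx, c, hc, n, hn, hg⟩ := hfac P g⁻¹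
  rw [hO, Subgroup.mem_bot] at hx
  refine ⟨n⁻¹, inv_mem hn, c⁻¹, inv_mem (Subgroup.centralizer_le ?_ hc), ?_⟩
  · rintro y ⟨hy, hyc, hyp⟩
    exact Subgroup.subset_closure ⟨⟨hy, Subgroup.mem_centralizer_iff.2 fun z hz => (hyc z hz).symm⟩, hyp⟩
  · rw [← inv_inv g, hg, hx, one_mul, mul_inv_rev]

end Cfsg.Agent.S0109
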