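import Cfsg.Statements.S0110
import Cfsg.Agent.Lib.Core.Basic
import Mathlib.GroupTheory.Frattini
import Mathlib.Tactic.Group

set_option autoImplicit false
open Cfsg

namespace Cfsg.Agent.S0110

open Subgroup
open scoped commutatorElement

theorem exists_gen {E : Type*} [Group E] [Finite E] {p : ℕ} (hp : p.Prime) : ∀ (r : ℕ) (K : Subgroup E),
    K.index ∣ p ^ r → ∃ s : Finset E, s.card ≤ r ∧ K ⊔ closure (s : Set E) = ⊤ := by
  classical
  intro r
  induction r with
  | zero => intro K hK; exact ⟨∅, le_rfl, by simpa using index_eq_one.1 (Nat.dvd_one.1 (by simpa using hK))⟩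
  | succ r ih =>
    intro K hK
    by_cases hKt : K = ⊤
    · exact ⟨∅, Nat.zero_le _, by simp [hKt]⟩
    obtain ⟨x, -, hx⟩ := SetLike.exists_of_lt (lt_top_iff_ne_top.2 hKt)
    set K' := K ⊔ zpowers x
    have hlt : K < K' := left_lt_sup.2 fun h => hx (h (mem_zpowers x))
    have h1 := relIndex_mul_index hlt.le
    have hd : K'.index ∣ p ^ r := by
      have h2 : K.relIndex K' ≠ 1 := fun h => hlt.not_ge (relIndex_eq_one.1 h)
      obtain ⟨i, hi, hi'⟩ := (Nat.dvd_prime_pow hp).1 (dvd_trans (Dvd.intro _ h1) hK)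
      rcases i with _ | i
      · exact absurd (by simpa using hi') h2
      · rw [← h1, hi', pow_succ', pow_succ', mul_assoc] at hK
        exact dvd_trans (dvd_mul_left _ _) ((Nat.mul_dvd_mul_iff_left hp.pos).1 hK)
    obtain ⟨s, hs, hgen⟩ := ih K' hd
    refine ⟨insert x s, (Finset.card_insert_le _ _).trans (Nat.succ_le_succ hs), top_le_iff.1 ?_⟩
    rw [← hgen, Finset.coe_insert, Set.insert_eq, Subgroup.closure_union, ← zpowers_eq_closure,
      ← sup_assoc]

/-- In a p-group G, an extraspecial subgroup E with [G, E] ≤ Z(E) satisfies G = E C_G(E). -/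
theorem result {G : Type*} [Group G] [Finite G] {p : ℕ} [Fact p.Prime] (hG : IsPGroup p G) (E : Subgroup G) (hE : Cfsg.IsExtraspecial p E) (h : ⁅(⊤ : Subgroup G), E⁆ ≤ E ⊓ Subgroup.centralizer (E : Set G)) : E ⊔ Subgroup.centralizer (E : Set G) = ⊤ := by
  classical
  have hp : p.Prime := Fact.out
  obtain ⟨⟨-, hΦ, -⟩, hZ⟩ := hE
  set Z := (center ↥E).map E.subtype with hZdef
  have hZle : E ⊓ centralizer (E : Set G) ≤ Z := fun x hx =>
    ⟨⟨x, hx.1⟩, mem_center_iff.2 fun y => Subtype.ext (mem_centralizer_iff.1 hx.2 y y.2), rfl⟩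
  have hZcard : Nat.card Z = p := by
    rw [hZdef, Cfsg.Lib.Core.card_map_subtype, hZ]
  have hcz : ∀ g : G, ∀ e : E, ⁅g, (e : G)⁆ ∈ Z ∧ ∀ y ∈ E, y * ⁅g, (e : G)⁆ = ⁅g, (e : G)⁆ * y := fun g e =>
    ⟨hZle (h (commutator_mem_commutator (mem_top g) e.2)),
      fun y hy => mem_centralizer_iff.1 (h (commutator_mem_commutator (mem_top g) e.2)).2 y hy⟩
  obtain ⟨t, ht⟩ := IsPGroup.iff_card.1 (hG.to_subgroup E)
  have hidx : (frattini ↥E).index ∣ p ^ t := ht ▸ index_dvd_card _
  obtain ⟨r, -, hr⟩ := (Nat.dvd_prime_pow hp).1 hidx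
  obtain ⟨s, hs, hgen⟩ := exists_gen hp r (frattini ↥E) hr.dvd
  have hgen' : closure (s : Set ↥E) = ⊤ := frattini_nongenerating (by rw [sup_comm]; exact hgen)
  let Φ : G → (s → Z) := fun g e => ⟨⁅g, ((e : ↥E) : G)⁆, (hcz g e).1⟩
  -- equal values give a quotient in the centralizer
  have hker : ∀ g g' : G, Φ g = Φ g' → g'⁻¹ * g ∈ centralizer (E : Set G) := by
    intro g g' hgg
    have hall : ∀ e : ↥E, ⁅g, (e : G)⁆ = ⁅g', (e : G)⁆ := by
      intro e
      have he : e ∈ closure (s : Set ↥E) := hgen' ▸ mem_top e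
      induction he using closure_induction with
      | mem y hy => exact congrArg Subtype.val (congrFun hgg ⟨y, hy⟩)
      | one => simp
      | mul a b _ _ ha hb =>
        have e1 : ∀ k : G, ⁅k, ((a * b : ↥E) : G)⁆ = ⁅k, (a : G)⁆ * ⁅k, (b : G)⁆ := fun k => by
          have h1 : ⁅k, ((a * b : ↥E) : G)⁆ = ⁅k, (a : G)⁆ * ((a : G) * ⁅k, (b : G)⁆ * (a : G)⁻¹) := by
            rw [Subgroup.coe_mul, commutatorElement_def, commutatorElement_def, commutatorElement_def]
            group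
          rw [h1, (hcz k b).2 a a.2, mul_inv_cancel_right]
        rw [e1, e1, ha, hb]
      | inv a _ ha =>
        have e1 : ∀ k : G, ⁅k, ((a⁻¹ : ↥E) : G)⁆ = ⁅k, (a : G)⁆⁻¹ := fun k => by
          have h1 : ⁅k, ((a⁻¹ : ↥E) : G)⁆ = (a : G)⁻¹ * ⁅k, (a : G)⁆⁻¹ * a := by
            rw [Subgroup.coe_inv, commutatorElement_def, commutatorElement_def]
            group
          have h2 := (hcz k a).2 a a.2
          rw [h1]
          calc (a : G)⁻¹ * ⁅k, (a : G)⁆⁻¹ * a = (⁅k, (a : G)⁆ * (a : G))⁻¹ * a := by group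
            _ = ((a : G) * ⁅k, (a : G)⁆)⁻¹ * a := by rw [h2]
            _ = ⁅k, (a : G)⁆⁻¹ := by group
        rw [e1, e1, ha]
    refine mem_centralizer_iff.2 fun e he => ?_
    have h2 := hall ⟨e, he⟩
    simp only [commutatorElement_def] at h2
    have h3 : g * e * g⁻¹ = g' * e * g'⁻¹ := mul_right_cancel h2
    calc e * (g'⁻¹ * g) = g'⁻¹ * (g' * e * g'⁻¹) * g := by group
      _ = g'⁻¹ * (g * e * g⁻¹) * g := by rw [h3]
      _ = g'⁻¹ * g * e := by group
  -- the values of `E` exhaust all functions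
  haveI : (center ↥E).Normal := inferInstance
  let ψ : ↥E ⧸ center ↥E → (s → Z) := fun q => Φ (q.out : ↥E)
  have hψ : Function.Injective ψ := by
    intro a b hab
    have h1 := hker _ _ hab
    rw [← QuotientGroup.out_eq' a, ← QuotientGroup.out_eq' b, eq_comm, QuotientGroup.eq]
    refine mem_center_iff.2 fun y => Subtype.ext ?_
    simp only [Subgroup.coe_mul, Subgroup.coe_inv]
    exact mem_centralizer_iff.1 h1 y y.2
  have hsur : Function.Surjective ψ := by
    refine (hψ.bijective_of_nat_card_le ?_).2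
    rw [Nat.card_fun, hZcard, Nat.card_eq_fintype_card, Fintype.card_coe]
    show p ^ s.card ≤ (center ↥E).index
    rw [← hΦ, hr]
    exact Nat.pow_le_pow_right hp.pos hs
  refine top_le_iff.1 fun g _ => ?_
  obtain ⟨q, hq⟩ := hsur (Φ g)
  have h1 := hker g _ hq.symm
  rw [show g = ((q.out : ↥E) : G) * (((q.out : ↥E) : G)⁻¹ * g) by group]
  exact mul_mem_sup (q.out : ↥E).2 h1

end Cfsg.Agent.S0110
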