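import Cfsg.Statements.S0116
import Cfsg.Agent.Lib.Fusion.Alperin

set_option autoImplicit false
set_option linter.style.haveILetI false
open Cfsg

namespace Cfsg.Agent.S0116

open Subgroup Cfsg.Lib.Fusion in
theorem chain_get {G : Type*} [Group G] {p : ℕ} {P : Sylow p G} {l : List (Sylow p G × G)}
    {D : Subgroup G} (h : Chain P l D) (i : Fin l.length) :
    IsTame P l[i].1 ∧
      l[i].2 ∈ normalizer (((P : Subgroup G) ⊓ (l[i].1 : Subgroup G) : Subgroup G) : Set G) ∧
      conjR (((l.map Prod.snd).take i).prod) D ≤ (P : Subgroup G) ⊓ (l[i].1 : Subgroup G) := by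
  induction l generalizing D with
  | nil => exact i.elim0
  | cons a l ih =>
    obtain ⟨h1, h2, h3, h4⟩ := h
    refine Fin.cases ?_ ?_ i
    · exact ⟨h1, h2, by simpa [conjR_one] using h3⟩
    · intro j
      obtain ⟨e1, e2, e3⟩ := ih h4 j
      refine ⟨by simpa using e1, by simpa using e2, ?_⟩
      simpa [conjR_conjR] using e3

/-- The Alperin fusion Theorem states that conjugation between subsets of a Sylow p-subgroup P factors through normalizers of tame intersections P ∩ Q_i with other Sylow p-subgroups, carrying the subset along step by step. -/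
theorem result {G : Type*} [Group G] [Finite G] {p : ℕ} [Fact p.Prime] (P : Sylow p G) (A : Set G) (g : G) (hA : A ⊆ (P : Set G)) (hAg : (fun a => g⁻¹ * a * g) '' A ⊆ (P : Set G)) : ∃ (n : ℕ) (Q : Fin n → Sylow p G) (x : Fin n → G), (List.ofFn x).prod = g ∧ (∀ i : Fin n, x i ∈ Subgroup.normalizer ((((P : Subgroup G) ⊓ (Q i : Subgroup G)) : Subgroup G) : Set G) ∧ ¬ p ∣ ((P : Subgroup G) ⊓ Subgroup.normalizer ((((P : Subgroup G) ⊓ (Q i : Subgroup G)) : Subgroup G) : Set G)).relIndex (Subgroup.normalizer ((((P : Subgroup G) ⊓ (Q i : Subgroup G)) : Subgroup G) : Set G)) ∧ ¬ p ∣ ((Q i : Subgroup G) ⊓ Subgroup.normalizer ((((P : Subgroup G) ⊓ (Q i : Subgroup G)) : Subgroup G) : Set G)).relIndex (Subgroup.normalizer ((((P : Subgroup G) ⊓ (Q i : Subgroup G)) : Subgroup G) : Set G))) ∧ (∀ h : 0 < n, A ⊆ (((P : Subgroup G) ⊓ (Q ⟨0, h⟩ : Subgroup G) : Subgroup G) : Set G)) ∧ ∀ i : Fin n, ∀ h : i.val + 1 < n, (fun a => (((List.ofFn x).take (i.val + 1)).prod)⁻¹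 * a * ((List.ofFn x).take (i.val + 1)).prod) '' A ⊆ (((P : Subgroup G) ⊓ (Q ⟨i.val + 1, h⟩ : Subgroup G) : Subgroup G) : Set G) := by
  obtain ⟨l, hl, hlp⟩ := Cfsg.Lib.Fusion.alperin P (Subgroup.closure A) g
    ((Subgroup.closure_le _).mpr hA) (by
      rw [Cfsg.Lib.Fusion.conjR, MonoidHom.map_closure, Subgroup.closure_le]
      rintro _ ⟨a, ha, rfl⟩
      have := hAg ⟨a, ha, rfl⟩
      simpa [mul_assoc] using this)
  have hofn : (List.ofFn fun i : Fin l.length => l[i].2) = l.map Prod.snd := by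
    apply List.ext_getElem <;> simp
  refine ⟨l.length, fun i => l[i].1, fun i => l[i].2, by rw [hofn]; exact hlp, fun i => ?_, fun h => ?_, fun i h => ?_⟩
  · obtain ⟨e1, e2, -⟩ := chain_get hl i
    exact ⟨e2, e1⟩
  · obtain ⟨-, -, e3⟩ := chain_get hl ⟨0, h⟩
    have h4 : Subgroup.closure A ≤ (P : Subgroup G) ⊓ (l[(⟨0, h⟩ : Fin l.length)].1 : Subgroup G) := by
      simpa [Cfsg.Lib.Fusion.conjR_one] using e3
    exact fun a ha => h4 (Subgroup.subset_closure ha)
  · obtain ⟨-, -, e3⟩ := chain_get hl ⟨i.val + 1, h⟩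
    rintro _ ⟨a, ha, rfl⟩
    rw [hofn]
    exact e3 (Cfsg.Lib.Fusion.conj_mem_conjR (Subgroup.subset_closure ha))

end Cfsg.Agent.S0116
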