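import Cfsg.Statements.S0119
import Cfsg.Agent.Lib.PGroup.Basic
import Cfsg.Agent.Lib.PGroup.ClassTwo
import Cfsg.Agent.Lib.Solv.Nilpotent

set_option autoImplicit false
open Cfsg

namespace Cfsg.Agent.S0119

open Subgroup
open scoped commutatorElement


/-- If a p'-group A of automorphisms of a p-group G satisfies G = [G, A] and acts trivially on every characteristic abelian subgroup, then G is special with centre equal to the fixed points of A. -/
theorem result {G : Type*} [Group G] [Finite G] {p : ℕ} [Fact p.Prime] (hG : IsPGroup p G) (A : Subgroup (MulAut G)) (hA : Nat.Coprime (Nat.card A) p) (hGA : Subgroup.closure {x : G | ∃ g : G, ∃ a ∈ A, x = g⁻¹ * a g} = ⊤) (hchar : ∀ H : Subgroup G, H.Characteristic → IsMulCommutative H → ∀ a ∈ A, ∀ h ∈ H, a h = h) : Cfsg.IsSpecial p G ∧ (∀ g : G, (g ∈ Subgroup.center G ↔ ∀ a ∈ A, a g = g)) := by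
  classical
  have hp := (Fact.out : p.Prime)
  haveI := hG.isNilpotent
  haveI := Fintype.ofFinite A
  -- characteristic abelian subgroups are central
  have hcen : ∀ H : Subgroup G, H.Characteristic → IsMulCommutative H → H ≤ center G := by
    intro H hH hHc h hh
    haveI := hH
    have hle : closure {x : G | ∃ g : G, ∃ a ∈ A, x = g⁻¹ * a g} ≤ centralizer ({h} : Set G) := by
      refine (closure_le _).2 ?_
      rintro _ ⟨g, a, ha, rfl⟩
      rw [SetLike.mem_coe, mem_centralizer_singleton_iff]
      have h1 := hchar H hH hHc a ha _ ((inferInstance : H.Normal).conj_mem h hh g)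
      rw [map_mul, map_mul, map_inv, hchar H hH hHc a ha h hh] at h1
      calc g⁻¹ * a g * h = g⁻¹ * (a g * h * (a g)⁻¹) * a g := by group
        _ = h * (g⁻¹ * a g) := by rw [h1]; group
    rw [hGA] at hle
    rw [mem_center_iff]
    intro g
    exact mem_centralizer_singleton_iff.1 (hle (mem_top g))
  have hZfix : ∀ a ∈ A, ∀ z ∈ center G, a z = z := fun a ha z hz =>
    hchar (center G) inferInstance inferInstance a ha z hz
  -- class two
  haveI hUchar : (Subgroup.upperCentralSeries G 2).Characteristic := inferInstance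
  have h2 : commutator G ≤ center G := by
    by_contra hne
    set π := QuotientGroup.mk' (center G)
    set D := (commutator G).map π with hD
    have hDn : D.Normal := Normal.map inferInstance π (QuotientGroup.mk'_surjective _)
    have hD1 : D ≠ ⊥ := fun h => hne (by
      rw [hD, Subgroup.map_eq_bot_iff, QuotientGroup.ker_mk'] at h; exact h)
    haveI : Group.IsNilpotent (G ⧸ center G) := inferInstance
    obtain ⟨z, hz, hz1⟩ := (D ⊓ center (G ⧸ center G)).bot_or_exists_ne_one.resolve_left
      (Cfsg.Lib.Solv.inf_center_ne_bot_of_isNilpotent hD1)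
    obtain ⟨d, hd, rfl⟩ := hz.1
    have hdZ : ∀ g : G, d * g * d⁻¹ * g⁻¹ ∈ center G := fun g => by
      refine (QuotientGroup.eq_one_iff _).1 ?_
      show π (d * g * d⁻¹ * g⁻¹) = 1
      rw [map_mul, map_mul, map_mul, map_inv, map_inv, ← mem_center_iff.1 hz.2 (π g)]
      group
    set H := commutator G ⊓ Subgroup.upperCentralSeries G 2 with hH
    have hdH : d ∈ H := by
      refine ⟨hd, ?_⟩
      show d ∈ Subgroup.upperCentralSeries G (1 + 1)
      rw [Subgroup.mem_upperCentralSeries_succ_iff]
      intro g
      rw [Subgroup.upperCentralSeries_one]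
      exact hdZ g
    haveI hHchar : H.Characteristic := ⟨fun φ => by
      rw [hH, comap_inf, (inferInstance : (commutator G).Characteristic).fixed φ, hUchar.fixed φ]⟩
    -- second centre commutes with commutators
    have hcomm : ∀ u ∈ Subgroup.upperCentralSeries G 2, ∀ w ∈ commutator G, u * w = w * u := by
      intro u hu
      rw [Subgroup.mem_upperCentralSeries_succ_iff] at hu
      have hu' : ∀ g : G, u * g * u⁻¹ * g⁻¹ ∈ center G := fun g => by
        have := hu g
        rwa [Subgroup.upperCentralSeries_one] at this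
      intro w hw
      have hle : commutator G ≤ centralizer ({u} : Set G) := by
        rw [commutator_eq_closure]
        refine (closure_le _).2 ?_
        rintro _ ⟨g, k, rfl⟩
        rw [SetLike.mem_coe, mem_centralizer_singleton_iff, commutatorElement_def]
        have hg := hu' g
        have hk := hu' k
        set c := u * g * u⁻¹ * g⁻¹ with hc
        set e := u * k * u⁻¹ * k⁻¹ with he
        have hug : u * g * u⁻¹ = c * g := by rw [hc]; group
        have huk : u * k * u⁻¹ = e * k := by rw [he]; group
        have hcm : ∀ t, t * c = c * t := mem_center_iff.1 hg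
        have hem : ∀ t, t * e = e * t := mem_center_iff.1 hk
        have key : u * (g * k * g⁻¹ * k⁻¹) * u⁻¹ = g * k * g⁻¹ * k⁻¹ := by
          calc u * (g * k * g⁻¹ * k⁻¹) * u⁻¹
              = (u * g * u⁻¹) * (u * k * u⁻¹) * (u * g * u⁻¹)⁻¹ * (u * k * u⁻¹)⁻¹ := by group
            _ = c * g * (e * k) * (c * g)⁻¹ * (e * k)⁻¹ := by rw [hug, huk]
            _ = c * (g * e) * k * g⁻¹ * (c⁻¹ * k⁻¹) * e⁻¹ := by group
            _ = c * (e * g) * k * g⁻¹ * (k⁻¹ * c⁻¹) * e⁻¹ := by
              rw [hem g, (Commute.inv_inv (hcm k : Commute k c)).symm.eq]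
            _ = (c * e) * (g * k * g⁻¹ * k⁻¹) * (c⁻¹ * e⁻¹) := by group
            _ = (c * e) * ((c⁻¹ * e⁻¹) * (g * k * g⁻¹ * k⁻¹)) := by
              rw [mul_assoc (c * e)]
              congr 1
              exact ((Commute.inv_right (hcm _ : Commute _ c)).mul_right (Commute.inv_right (hem _ : Commute _ e))).eq
            _ = c * e * c⁻¹ * e⁻¹ * (g * k * g⁻¹ * k⁻¹) := by group
            _ = _ := by rw [hem c]; group
        calc g * k * g⁻¹ * k⁻¹ * u = u * (g * k * g⁻¹ * k⁻¹) * u⁻¹ * u := by rw [key]
          _ = u * (g * k * g⁻¹ * k⁻¹) := by group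
      exact (mem_centralizer_singleton_iff.1 (hle hw)).symm
    have hHc : IsMulCommutative H := ⟨⟨fun x y => Subtype.ext (hcomm x.1 x.2.2 y.1 y.2.1)⟩⟩
    exact hz1 ((QuotientGroup.eq_one_iff d).2 (hcen H hHchar hHc hdH))
  -- the derived group has exponent p
  have hpow : ∀ x : G, x ^ p ∈ center G := by
    obtain ⟨m, hm⟩ := IsPGroup.iff_card.1 hG
    have hex : ∃ e, ∀ x y : G, ⁅x, y⁆ ^ p ^ e = 1 := ⟨m, fun x y => by
      rw [← hm]; exact pow_card_eq_one'⟩
    set e := Nat.find hex with he
    have hspec := Nat.find_spec hex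
    rw [← he] at hspec
    have he1 : e ≤ 1 := by
      by_contra hgt
      push Not at hgt
      set K := closure ({g : G | ∃ x : G, x ^ p ^ (e - 1) = g} ∪ (center G : Set G)) with hK
      have hKchar : K.Characteristic := by
        rw [characteristic_iff_map_le]
        intro φ
        rw [hK, MonoidHom.map_closure, closure_le]
        rintro _ ⟨g, hg | hg, rfl⟩
        · obtain ⟨x, rfl⟩ := hg
          exact subset_closure (Or.inl ⟨φ x, (map_pow φ x _).symm⟩)
        · exact subset_closure (Or.inr (characteristic_iff_map_le.1 centerCharacteristic φ (mem_map_of_mem _ hg)))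
      have hKc : IsMulCommutative K := by
        refine Subgroup.isMulCommutative_closure ?_
        rintro g (⟨x, rfl⟩ | hg) k (⟨y, rfl⟩ | hk)
        · refine commutatorElement_eq_one_iff_mul_comm.1 ?_
          rw [Cfsg.Lib.PGroup.commutatorElement_pow_left h2, Cfsg.Lib.PGroup.commutatorElement_pow_right h2,
            ← pow_mul, ← pow_add]
          obtain ⟨i, hi⟩ : ∃ i, e - 1 + (e - 1) = e + i := ⟨e - 2, by omega⟩
          rw [hi, pow_add, pow_mul, hspec, one_pow]
        · exact mem_center_iff.1 hk _
        · exact (mem_center_iff.1 hg _).symm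
        · exact mem_center_iff.1 hk _
      refine Nat.find_min hex (show e - 1 < e by omega) fun x y => ?_
      rw [← Cfsg.Lib.PGroup.commutatorElement_pow_left h2, commutatorElement_eq_one_iff_mul_comm]
      exact (mem_center_iff.1 (hcen K hKchar hKc (subset_closure (Or.inl ⟨x, rfl⟩))) y).symm
    intro x
    rw [mem_center_iff]
    intro y
    refine ((commutatorElement_eq_one_iff_mul_comm (g₁ := x ^ p) (g₂ := y)).1 ?_).symm
    rw [Cfsg.Lib.PGroup.commutatorElement_pow_left h2]
    have h3 := hspec x y
    interval_cases e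
    · rw [pow_zero, pow_one] at h3; rw [h3, one_pow]
    · rwa [pow_one] at h3
  -- fixed points lie in the derived group
  have hfix : ∀ g : G, (∀ a ∈ A, a g = g) → g ∈ commutator G := by
    intro g hg
    let θ : G →* Abelianization G :=
      { toFun := fun x => ∏ a : A, Abelianization.of ((a : MulAut G) x)
        map_one' := by simp
        map_mul' := fun x y => by simp [Finset.prod_mul_distrib] }
    have hθ : θ g = 1 := by
      have hle : closure {x : G | ∃ g : G, ∃ a ∈ A, x = g⁻¹ * a g} ≤ θ.ker := by
        refine (closure_le _).2 ?_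
        rintro _ ⟨y, b, hb, rfl⟩
        rw [SetLike.mem_coe, MonoidHom.mem_ker, map_mul, map_inv, inv_mul_eq_one]
        exact (Fintype.prod_equiv (Equiv.mulRight (⟨b, hb⟩ : A)) _ _ fun a => by simp).symm
      rw [hGA] at hle
      exact hle (mem_top g)
    have h1 : Abelianization.of g ^ Nat.card A = 1 := by
      rw [← hθ]
      show _ = ∏ a : A, Abelianization.of ((a : MulAut G) g)
      rw [Finset.prod_congr rfl (fun (a : A) _ => by rw [hg a a.2]), Finset.prod_const, Finset.card_univ,
        Nat.card_eq_fintype_card]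
    obtain ⟨m, hm⟩ := hG g
    have h3 : Abelianization.of g ^ p ^ m = 1 := by rw [← map_pow, hm, map_one]
    have h4 := pow_gcd_eq_one.2 ⟨h1, h3⟩
    rw [show Nat.gcd (Nat.card A) (p ^ m) = 1 from hA.pow_right m, pow_one] at h4
    exact (QuotientGroup.eq_one_iff g).1 h4
  have hZD : commutator G = center G := le_antisymm h2 fun z hz => hfix z fun a ha => hZfix a ha z hz
  have hΦ : frattini G = center G := by
    refine le_antisymm (Cfsg.Lib.PGroup.frattini_le_of_commutator_le_of_pow_mem h2 hpow) ?_
    rw [← hZD]
    exact Cfsg.Lib.PGroup.commutator_le_frattini hG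
  refine ⟨⟨hG, hΦ, hZD⟩, fun g => ⟨fun hg a ha => hZfix a ha g hg, fun hg => hZD ▸ hfix g hg⟩⟩

end Cfsg.Agent.S0119
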