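import Cfsg.Statements.S0122
import Cfsg.Agent.Lib.Sig.RankFour
-- import your own Cfsg.Agent.* helpers here

set_option autoImplicit false
open Cfsg

namespace Cfsg.Agent.S0122

open Subgroup Cfsg.Lib Cfsg.Lib.PGroup

theorem exists_normal_card {P : Type*} [Group P] [Finite P] {p : ℕ} [hp : Fact p.Prime] (hP : IsPGroup p P)
    (A : Subgroup P) [A.Normal] : ∀ k : ℕ, p ^ k ≤ Nat.card A →
      ∃ N : Subgroup P, N.Normal ∧ N ≤ A ∧ Nat.card N = p ^ k := by
  intro k
  induction k with
  | zero => exact fun _ => ⟨⊥, inferInstance, bot_le, by simp⟩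
  | succ k ih =>
    intro hk
    have hlt : p ^ k < Nat.card A :=
      lt_of_lt_of_le (Nat.pow_lt_pow_right hp.out.one_lt (Nat.lt_succ_self k)) hk
    obtain ⟨N, hN, hNA, hNc⟩ := ih hlt.le
    haveI := hN
    set π := QuotientGroup.mk' N with hπ
    haveI : (A.map π).Normal := (inferInstance : A.Normal).map π (QuotientGroup.mk'_surjective N)
    have hne : A.map π ≠ ⊥ := by
      rw [ne_eq, Subgroup.map_eq_bot_iff, hπ, QuotientGroup.ker_mk']
      exact fun h => (Subgroup.card_le_of_le h).not_gt (hNc ▸ hlt)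
    obtain ⟨w, hwA, hwc, hwo⟩ := exists_mem_center_orderOf_eq (hP.to_quotient N) (N := A.map π) hne
    have hW : (zpowers w).Normal := ⟨fun x hx g => by
      have hxc : x ∈ center (P ⧸ N) := (zpowers_le.2 hwc) hx
      rwa [mem_center_iff.1 hxc g, mul_inv_cancel_right]⟩
    refine ⟨(zpowers w).comap π, hW.comap π, ?_, ?_⟩
    · refine (comap_mono (zpowers_le.2 hwA)).trans (le_of_eq ?_)
      rw [comap_map_eq, hπ, QuotientGroup.ker_mk', sup_eq_left]
      exact hNA
    · have hker : N ≤ (zpowers w).comap π := by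
        intro x hx
        show π x ∈ zpowers w
        rw [show π x = 1 from (QuotientGroup.eq_one_iff x).2 hx]
        exact one_mem _
      have h1 := Core.card_mul_relIndex hker
      have h2 : N.relIndex ((zpowers w).comap π) = p := by
        have h3 : N = π.ker := (QuotientGroup.ker_mk' N).symm
        refine (congrArg (fun X : Subgroup P => X.relIndex ((zpowers w).comap π)) h3).trans ?_
        rw [relIndex_ker, map_comap_eq_self_of_surjective (QuotientGroup.mk'_surjective N),
          Nat.card_zpowers, hwo]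
      rw [← h1, h2, hNc, pow_succ]


/-- For odd p, a p-group containing an elementary abelian subgroup of order p^4 has a normal elementary abelian subgroup of order p^4. -/
theorem result {G : Type*} [Group G] [Finite G] {p : ℕ} [Fact p.Prime] (hp : p ≠ 2) (hG : IsPGroup p G) (E : Subgroup G) (hE : Cfsg.IsElementaryAbelian p E) (hE4 : Nat.card E = p ^ 4) : ∃ A : Subgroup G, A.Normal ∧ Cfsg.IsElementaryAbelian p A ∧ Nat.card A = p ^ 4 := by
  obtain ⟨A, hAn, hA, hAc⟩ := Cfsg.Lib.Sig.RankFour.exists_normal_four hp hG (fun h => by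
    have := h E hE.1 hE.2
    rw [hE4] at this
    exact absurd ((Nat.pow_le_pow_iff_right (Fact.out : p.Prime).one_lt).1 this) (by omega))
  obtain ⟨N, hN, hNA, hNc⟩ := exists_normal_card hG A 4 hAc
  haveI := hA.1
  exact ⟨N, hN, ⟨⟨⟨fun a b => Subtype.ext (setLike_mul_comm (hNA a.2) (hNA b.2))⟩⟩,
    fun a ha => hA.2 a (hNA ha)⟩, hNc⟩

end Cfsg.Agent.S0122
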