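import Cfsg.Statements.S0123
import Cfsg.Agent.Lib.PGroup.Regular

set_option autoImplicit false
open Cfsg

namespace Cfsg.Agent.S0123


/-- For a p-group of small class relative to p (class ≤ 2 with p odd, or class ≤ 3 with p > 3) whose derived subgroup is generated by elements of order dividing p, the p-th power map is multiplicative. -/
theorem result {R : Type*} [Group R] [Finite R] {p : ℕ} [Fact p.Prime] (hR : IsPGroup p R) (hcl : (p ≠ 2 ∧ ⁅commutator R, (⊤ : Subgroup R)⁆ = ⊥) ∨ (3 < p ∧ ⁅⁅commutator R, (⊤ : Subgroup R)⁆, (⊤ : Subgroup R)⁆ = ⊥)) (hder : commutator R ≤ Subgroup.closure {x : R | x ^ p = 1}) (x y : R) : (x * y) ^ p = x ^ p * y ^ p := by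
  open Cfsg.Lib.PGroup.Regular in
  have hp2 := (Fact.out : p.Prime).two_le
  have hlcs : (⊤ : Subgroup R).lowerCentralSeries (p - 1) = ⊥ := by
    rcases hcl with ⟨hp, h2⟩ | ⟨hp, h3⟩
    · refine eq_bot_iff.mpr (le_trans (Subgroup.lowerCentralSeries_antitone _ (show 2 ≤ p - 1 by omega)) ?_)
      rw [Subgroup.lowerCentralSeries_succ, Subgroup.top_lowerCentralSeries_one, h2]
    · refine eq_bot_iff.mpr (le_trans (Subgroup.lowerCentralSeries_antitone _ (show 3 ≤ p - 1 by omega)) ?_)
      rw [Subgroup.lowerCentralSeries_succ, Subgroup.lowerCentralSeries_succ,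
        Subgroup.top_lowerCentralSeries_one, h3]
  have hlaw := powLaw_of_lcs hlcs
  have hgood := good hR hlaw
  have hO : commutator R ≤ omegaSubgroup hgood :=
    hder.trans ((Subgroup.closure_le _).mpr fun z hz => hz)
  have hex : ∀ z ∈ commutator R, z ^ p ^ 1 = 1 := fun z hz => by
    rw [pow_one]; exact hO hz
  simpa using mul_pow_eq 1 hR hlaw hex x y

end Cfsg.Agent.S0123
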