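import Cfsg.Statements.S0125
import Cfsg.Agent.Lib.Fusion.Abelian
import Cfsg.Agent.Lib.Fusion.Basic

set_option autoImplicit false
set_option linter.style.haveILetI false
open Cfsg

namespace Cfsg.Agent.S0125

/-- The centralizer of a self-centralizing normal subgroup A of a Sylow p-subgroup is the direct product of A with a normal p'-subgroup. -/
theorem result {G : Type*} [Group G] [Finite G] {p : ℕ} [Fact p.Prime] (R : Sylow p G) (A : Subgroup G) (hAR : A ≤ (R : Subgroup G)) (hAn : (R : Subgroup G) ≤ Subgroup.normalizer (A : Set G)) (hC : (R : Subgroup G) ⊓ Subgroup.centralizer (A : Set G) = A) : ∃ H : Subgroup G, H ≤ Subgroup.centralizer (A : Set G) ∧ Nat.Coprime (Nat.card H) p ∧ Subgroup.centralizer (A : Set G) ≤ Subgroup.normalizer (H : Set G) ∧ H ⊓ A = ⊥ ∧ H ⊔ A = Subgroup.centralizer (A : Set G) := by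
  classical
  set C := Subgroup.centralizer (A : Set G) with hCd
  have hAC : A ≤ C := hC.ge.trans inf_le_right
  set A' := A.subgroupOf C
  let S : Sylow p C := Classical.arbitrary _
  set N := Subgroup.normalizer (A : Set G) with hNd
  have hCN : C ≤ N := fun x hx => Cfsg.Lib.Fusion.le_normalizer_of_conj_mem fun k hk => by
    rw [← Subgroup.mem_centralizer_iff.mp hx k hk, mul_inv_cancel_right]
    exact hk
  have hSA : ∀ y ∈ (S : Subgroup C), (y : G) ∈ A := by
    have hSp : IsPGroup p (((S : Subgroup C).map C.subtype).subgroupOf N) := (S.2.map C.subtype).comap_subtype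
    obtain ⟨T, hT⟩ := hSp.exists_le_sylow
    obtain ⟨c, hc⟩ := MulAction.exists_smul_eq N T (R.subtype hAn)
    intro y hy
    have h1 : (⟨(y : G), hCN y.2⟩ : N) ∈ (T : Subgroup N) := hT (Subgroup.mem_subgroupOf.mpr ⟨y, hy, rfl⟩)
    have h2 : c * ⟨(y : G), hCN y.2⟩ * c⁻¹ ∈ ((R.subtype hAn : Sylow p N) : Subgroup N) := by
      rw [← hc, Sylow.coe_subgroup_smul, Subgroup.mem_pointwise_smul_iff_inv_smul_mem, MulAut.smul_def,
        MulAut.conj_inv_apply]
      simpa [mul_assoc] using h1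
    have h3 : (c : G) * y * (c : G)⁻¹ ∈ C := by
      show _ ∈ Subgroup.centralizer (A : Set G)
      rw [Subgroup.mem_centralizer_iff]
      intro a ha
      have h4 : (c : G)⁻¹ * a * c ∈ A := by
        apply (Subgroup.mem_normalizer_iff.mp c.2 _).mpr
        simpa [mul_assoc] using ha
      calc a * ((c : G) * y * (c : G)⁻¹) = c * (((c : G)⁻¹ * a * c) * y) * (c : G)⁻¹ := by group
        _ = c * (y * ((c : G)⁻¹ * a * c)) * (c : G)⁻¹ := by rw [Subgroup.mem_centralizer_iff.mp y.2 _ h4]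
        _ = _ := by group
    have h5 : (c : G) * y * (c : G)⁻¹ ∈ A := hC.le ⟨Subgroup.mem_subgroupOf.mp h2, h3⟩
    exact (Subgroup.mem_normalizer_iff.mp c.2 _).mpr h5
  have hAp : IsPGroup p A' := (R.2.to_le hAR).comap_subtype
  have hSeq : A' = (S : Subgroup C) := S.3 hAp fun y hy => Subgroup.mem_subgroupOf.mpr (hSA y hy)
  have hcen : (S : Subgroup C) ≤ Subgroup.center C := by
    intro y hy
    rw [Subgroup.mem_center_iff]
    intro w
    exact Subtype.ext ((Subgroup.mem_centralizer_iff.mp w.2 _ (hSA y hy)).symm)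
  have hN : Subgroup.normalizer ((S : Subgroup C) : Set C) ≤ Subgroup.centralizer ((S : Subgroup C) : Set C) := by
    intro w _
    rw [Subgroup.mem_centralizer_iff]
    exact fun y hy => (Subgroup.mem_center_iff.mp (hcen hy) w).symm
  obtain ⟨H₀, hn, hcomp⟩ : ∃ H₀ : Subgroup C, H₀.Normal ∧ H₀.IsComplement' (S : Subgroup C) :=
    ⟨_, MonoidHom.normal_ker _, MonoidHom.ker_transferSylow_isComplement' S hN⟩
  refine ⟨H₀.map C.subtype, Subgroup.map_subtype_le _, ?_, ?_, ?_, ?_⟩
  · rw [Subgroup.card_map_of_injective C.subtype_injective]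
    exact Cfsg.Lib.Fusion.coprime_card_of_complement hcomp
  · refine fun w hw => Cfsg.Lib.Fusion.le_normalizer_of_conj_mem fun k hk => ?_
    obtain ⟨k, hk', rfl⟩ := hk
    exact ⟨⟨w, hw⟩ * k * ⟨w, hw⟩⁻¹, hn.conj_mem k hk' _, rfl⟩
  · rw [eq_bot_iff]
    rintro _ ⟨⟨k, hk, rfl⟩, hkA⟩
    have : k ∈ H₀ ⊓ (S : Subgroup C) := ⟨hk, hSeq.le (Subgroup.mem_subgroupOf.mpr hkA)⟩
    rw [disjoint_iff.mp hcomp.disjoint, Subgroup.mem_bot] at this
    simp [this]
  · refine le_antisymm (sup_le (Subgroup.map_subtype_le _) hAC) fun w hw => ?_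
    obtain ⟨⟨⟨k, hk⟩, ⟨s, hs⟩⟩, he, -⟩ := hcomp.existsUnique ⟨w, hw⟩
    have he' : (k : G) * s = w := congrArg Subtype.val he
    rw [← he']
    exact Subgroup.mul_mem _ (Subgroup.mem_sup_left ⟨k, hk, rfl⟩) (Subgroup.mem_sup_right (hSA s hs))

end Cfsg.Agent.S0125
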