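import Cfsg.Statements.S0129
import Cfsg.Agent.Lib.PGroup.Basic
import Cfsg.Agent.Lib.Fusion.Abelian

set_option autoImplicit false
set_option linter.style.haveILetI false
open Cfsg

namespace Cfsg.Agent.S0129

open Subgroup in
open scoped commutatorElement in
theorem index_centralizer_le {G : Type*} [Group G] [Finite G] {p : ℕ} [hp : Fact p.Prime] (hG : IsPGroup p G) :
    ∀ (i : ℕ) (A : Subgroup G), A.Normal → Nat.card A = p ^ i →
      (centralizer (A : Set G)).index ≤ p ^ (i * (i - 1) / 2) := by
  intro i
  induction i with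
  | zero =>
    intro A _ hA
    have hb : A = ⊥ := card_eq_one.mp (by simpa using hA)
    have : centralizer (A : Set G) = ⊤ := by
      rw [eq_top_iff]
      intro g _
      rw [mem_centralizer_iff]
      intro a ha
      rw [hb, SetLike.mem_coe, mem_bot] at ha
      simp [ha]
    simp [this]
  | succ i ih =>
    intro A hAn hA
    haveI := hAn
    have hne : A ≠ ⊥ := fun h => by
      rw [h, card_bot] at hA
      exact (Nat.one_lt_pow (Nat.succ_ne_zero i) hp.out.one_lt).ne hA
    have hlt := Cfsg.Lib.PGroup.commutator_lt_of_isPGroup (P := ⊤) (hG.to_subgroup A) (hG.to_subgroup ⊤)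
      (by rw [normalizer_eq_top_iff.mpr hAn]) hne
    set D := ⁅A, (⊤ : Subgroup G)⁆ with hD
    obtain ⟨d, hd⟩ := IsPGroup.iff_card.mp (hG.to_subgroup (D.subgroupOf A |>.map A.subtype))
    have hDA : D ≤ A := hlt.le
    obtain ⟨d', hd'⟩ := IsPGroup.iff_card.mp (hG.to_subgroup D)
    have hdlt : d' < i + 1 := by
      apply (Nat.pow_lt_pow_iff_right hp.out.one_lt).mp
      rw [← hd', ← hA]
      exact lt_of_le_of_ne (Nat.le_of_dvd Nat.card_pos (card_dvd_of_le hDA)) fun h => hlt.ne (eq_of_le_of_card_ge hDA h.ge)
    obtain ⟨M', hM', hle⟩ := Sylow.exists_subgroup_card_pow_prime_le (G := A) (p := p) (n := d') (m := i)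
      (by rw [hA]; exact pow_dvd_pow p (Nat.le_succ i)) (D.subgroupOf A)
      (by rw [Nat.card_congr (subgroupOfEquivOfLe hDA).toEquiv, hd']) (by omega)
    set M := M'.map A.subtype with hMd
    have hMA : M ≤ A := map_subtype_le _
    have hDM : D ≤ M := fun z hz => ⟨⟨z, hDA hz⟩, hle (mem_subgroupOf.mpr hz), rfl⟩
    have hMn : M.Normal := ⟨fun m hm g => by
      have h1 : ⁅m, g⁆ ∈ D := commutator_mem_commutator (hMA hm) (mem_top g)
      have h2 := M.mul_mem (M.inv_mem (hDM h1)) hm
      rw [commutatorElement_def] at h2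
      simpa [mul_assoc] using h2⟩
    have hMc : Nat.card M = p ^ i := by rw [hMd, card_map_of_injective A.subtype_injective, hM']
    obtain ⟨x, hxA, hxM⟩ : ∃ x ∈ A, x ∉ M := SetLike.exists_of_lt (lt_of_le_of_ne hMA fun h => by
      rw [h, hA] at hMc
      exact absurd (Nat.pow_right_injective hp.out.two_le hMc) (by omega))
    have hgen : ∀ z ∈ A, z ∈ M ⊔ zpowers x := by
      have h1 : M ⊔ zpowers x ≤ A := sup_le hMA (zpowers_le.mpr hxA)
      obtain ⟨s, hs⟩ := IsPGroup.iff_card.mp (hG.to_subgroup (M ⊔ zpowers x))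
      have h2 : Nat.card M < Nat.card (M ⊔ zpowers x : Subgroup G) :=
        lt_of_le_of_ne (Nat.le_of_dvd Nat.card_pos (card_dvd_of_le le_sup_left))
          fun h => hxM ((eq_of_le_of_card_ge (le_sup_left : M ≤ M ⊔ zpowers x) h.ge).ge (mem_sup_right (mem_zpowers x)))
      rw [hMc, hs] at h2
      have h3 := (Nat.pow_lt_pow_iff_right hp.out.one_lt).mp h2
      have h4 : A = M ⊔ zpowers x := (eq_of_le_of_card_ge h1 (by rw [hA, hs]; exact Nat.pow_le_pow_right hp.out.pos h3)).symm
      exact fun z hz => h4 ▸ hz
    set CM := centralizer (M : Set G)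
    set CA := centralizer (A : Set G)
    have hCC : CA ≤ CM := centralizer_le hMA
    have hrel : CA.relIndex CM ≤ Nat.card M := by
      let f : CM ⧸ CA.subgroupOf CM → M := Quotient.lift
        (fun c : CM => (⟨x⁻¹ * ((c : G) * x * (c : G)⁻¹), hDM (by
          have h5 : ⁅x⁻¹, (c : G)⁆ ∈ D := commutator_mem_commutator (A.inv_mem hxA) (mem_top _)
          rw [commutatorElement_def] at h5
          simpa [mul_assoc] using h5)⟩ : M))
        (by
          intro a b hab
          have h := mem_subgroupOf.mp (QuotientGroup.leftRel_apply.mp hab)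
          have h' : x * ((a : G)⁻¹ * b) = (a : G)⁻¹ * b * x := by
            simpa using mem_centralizer_iff.mp h x hxA
          apply Subtype.ext
          show x⁻¹ * ((a : G) * x * (a : G)⁻¹) = x⁻¹ * ((b : G) * x * (b : G)⁻¹)
          congr 1
          calc (a : G) * x * (a : G)⁻¹ = a * (x * ((a : G)⁻¹ * b)) * (b : G)⁻¹ := by group
            _ = b * x * (b : G)⁻¹ := by rw [h']; group)
      have hinj : Function.Injective f := by
        rintro ⟨a⟩ ⟨b⟩ h
        apply QuotientGroup.eq.mpr
        rw [mem_subgroupOf]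
        have h2 := mul_left_cancel (congrArg Subtype.val h)
        have hfix : A ≤ centralizer ({((a⁻¹ * b : CM) : G)} : Set G) := by
          intro z hz
          refine (sup_le (fun m hm => ?_) (zpowers_le.mpr ?_) : M ⊔ zpowers x ≤ _) (hgen z hz)
          · have := mem_centralizer_iff.mp (a⁻¹ * b).2 m hm
            rw [mem_centralizer_singleton_iff]
            first | exact this | exact this.symm
          · have h3 : x * ((a : G)⁻¹ * b) = (a : G)⁻¹ * b * x := by
              calc x * ((a : G)⁻¹ * b) = (a : G)⁻¹ * ((a : G) * x * (a : G)⁻¹) * b := by group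
                _ = (a : G)⁻¹ * ((b : G) * x * (b : G)⁻¹) * b := by rw [h2]
                _ = _ := by group
            rw [mem_centralizer_singleton_iff]
            simpa using (by first | exact h3 | exact h3.symm)
        rw [mem_centralizer_iff]
        intro z hz
        have := mem_centralizer_singleton_iff.mp (hfix hz)
        first | exact this | exact this.symm
      rw [relIndex, index_eq_card]
      exact Nat.card_le_card_of_injective f hinj
    rw [← relIndex_mul_index hCC]
    refine (Nat.mul_le_mul hrel (ih M hMn hMc)).trans (le_of_eq ?_)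
    rw [hMc, ← pow_add]
    congr 1
    rcases i with _ | j
    · simp
    · simp only [Nat.add_sub_cancel]
      rw [show (j + 1 + 1) * (j + 1) = 2 * (j + 1) + (j + 1) * j by ring, Nat.mul_add_div (by norm_num : (2:ℕ) > 0)]

/-- The order of a p-group is bounded by p^(a(a+1)/2) when it has a maximal normal abelian subgroup of order p^a. -/
theorem result {G : Type*} [Group G] [Finite G] {p : ℕ} [Fact p.Prime] (hG : IsPGroup p G) (A : Subgroup G) [A.Normal] (hA : IsMulCommutative A) (hmax : ∀ B : Subgroup G, B.Normal → IsMulCommutative B → A ≤ B → B = A) (a : ℕ) (ha : Nat.card A = p ^ a) : Nat.card G ≤ p ^ (a * (a + 1) / 2) := by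
  classical
  have hCA : Subgroup.centralizer (A : Set G) = A := by
    have hle : A ≤ Subgroup.centralizer (A : Set G) := fun a ha => Subgroup.mem_centralizer_iff.mpr
      fun b hb => congrArg Subtype.val (hA.is_comm.comm ⟨b, hb⟩ ⟨a, ha⟩)
    refine le_antisymm ?_ hle
    by_contra hne
    set q := QuotientGroup.mk' A with hq
    have hmap : (Subgroup.centralizer (A : Set G)).map q ≠ ⊥ := by
      rw [ne_eq, Subgroup.map_eq_bot_iff, hq, QuotientGroup.ker_mk']
      exact hne
    haveI : ((Subgroup.centralizer (A : Set G)).map q).Normal :=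
      Subgroup.Normal.map inferInstance q (QuotientGroup.mk'_surjective A)
    obtain ⟨z, ⟨x, hxC, rfl⟩, hzc, hzo⟩ := Cfsg.Lib.PGroup.exists_mem_center_orderOf_eq
      (hG.to_quotient A) hmap
    set B := A ⊔ Subgroup.zpowers x with hB
    have hBn : B.Normal := by
      refine ⟨fun b hb g => ?_⟩
      have h1 : B.map (MulAut.conj g).toMonoidHom ≤ B := by
        rw [hB, Subgroup.map_sup]
        refine sup_le ?_ ?_
        · rintro _ ⟨a, ha, rfl⟩
          exact Subgroup.mem_sup_left ((inferInstance : A.Normal).conj_mem a ha g)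
        · rw [MonoidHom.map_zpowers, Subgroup.zpowers_le]
          have h2 : g * x * g⁻¹ * x⁻¹ ∈ A := by
            rw [← QuotientGroup.eq_one_iff]
            show q (g * x * g⁻¹ * x⁻¹) = 1
            rw [map_mul, map_mul, map_mul, map_inv, map_inv, Subgroup.mem_center_iff.mp hzc (q g),
              mul_inv_cancel_right, mul_inv_cancel]
          have h3 := B.mul_mem (Subgroup.mem_sup_left h2 : g * x * g⁻¹ * x⁻¹ ∈ B)
            (Subgroup.mem_sup_right (Subgroup.mem_zpowers x))
          simpa using h3
      exact h1 ⟨b, hb, rfl⟩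
    have hBc : IsMulCommutative B := by
      rw [hB, ← Subgroup.closure_eq A, Subgroup.zpowers_eq_closure, ← Subgroup.closure_union]
      refine Subgroup.isMulCommutative_closure ?_
      rintro a (ha | ha) b (hb | hb)
      · exact congrArg Subtype.val (hA.is_comm.comm ⟨a, ha⟩ ⟨b, hb⟩)
      · rw [Set.mem_singleton_iff.mp hb]; exact Subgroup.mem_centralizer_iff.mp hxC a ha
      · rw [Set.mem_singleton_iff.mp ha]; exact (Subgroup.mem_centralizer_iff.mp hxC b hb).symm
      · rw [Set.mem_singleton_iff.mp ha, Set.mem_singleton_iff.mp hb]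
    have hx : x ∈ A := (hmax B hBn hBc le_sup_left).le (Subgroup.mem_sup_right (Subgroup.mem_zpowers x))
    rw [show q x = 1 from (QuotientGroup.eq_one_iff x).mpr hx, orderOf_one] at hzo
    exact (Fact.out : p.Prime).one_lt.ne hzo
  have h := index_centralizer_le hG a A inferInstance ha
  rw [hCA] at h
  rw [← A.card_mul_index, ha]
  refine (Nat.mul_le_mul_left _ h).trans (le_of_eq ?_)
  rw [← pow_add]
  congr 1
  rcases a with _ | j
  · simp
  · simp only [Nat.add_sub_cancel]
    rw [show (j + 1) * (j + 1 + 1) = 2 * (j + 1) + (j + 1) * j by ring, Nat.mul_add_div (by norm_num : (2:ℕ) > 0)]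

end Cfsg.Agent.S0129
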