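import Cfsg.Statements.S0131
import Cfsg.Agent.Lib.Fusion.Tate

set_option autoImplicit false
set_option linter.style.haveILetI false
open Cfsg

namespace Cfsg.Agent.S0131

/-- P/P' has a normal complement in G exactly when the focal subgroup G' ∩ P is as small as possible, namely P'. -/
theorem result {G : Type*} [Group G] [Finite G] {p : ℕ} [Fact p.Prime] (P : Sylow p G) : (∃ N : Subgroup G, N.Normal ∧ N ⊓ (P : Subgroup G) = ⁅(P : Subgroup G), (P : Subgroup G)⁆ ∧ N ⊔ (P : Subgroup G) = ⊤) ↔ commutator G ⊓ (P : Subgroup G) = ⁅(P : Subgroup G), (P : Subgroup G)⁆ := by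
  constructor
  · rintro ⟨N, hN, h1, h2⟩
    refine le_antisymm (le_trans (inf_le_inf_right _ ?_) h1.le)
      (le_inf (Subgroup.commutator_mono le_top le_top) (Subgroup.commutator_le.mpr
        fun a ha b hb => mul_mem (mul_mem (mul_mem ha hb) (inv_mem ha)) (inv_mem hb)))
    refine Subgroup.Normal.quotient_commutative_iff_commutator_le.mp ⟨⟨fun a b => ?_⟩⟩
    obtain ⟨g, rfl⟩ := QuotientGroup.mk_surjective a
    obtain ⟨k, rfl⟩ := QuotientGroup.mk_surjective b
    have hmem : ∀ g : G, ∃ x ∈ (P : Subgroup G), (g : G ⧸ N) = x := fun g => by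
      have hg : g ∈ (P : Subgroup G) ⊔ N := by rw [sup_comm, h2]; trivial
      obtain ⟨x, hx, m, hm, rfl⟩ := Subgroup.mem_sup_of_normal_right.mp hg
      exact ⟨x, hx, by rw [QuotientGroup.mk_mul, (QuotientGroup.eq_one_iff m).mpr hm, mul_one]⟩
    obtain ⟨x, hx, hgx⟩ := hmem g
    obtain ⟨y, hy, hky⟩ := hmem k
    rw [hgx, hky, ← QuotientGroup.mk_mul, ← QuotientGroup.mk_mul]
    refine (QuotientGroup.eq.mpr ?_)
    have h3 : y⁻¹ * x⁻¹ * y⁻¹⁻¹ * x⁻¹⁻¹ ∈ ⁅(P : Subgroup G), (P : Subgroup G)⁆ :=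
      commutatorElement_def (y⁻¹) (x⁻¹) ▸ Subgroup.commutator_mem_commutator (inv_mem hy) (inv_mem hx)
    rw [← h1] at h3
    have h4 := h3.1
    rw [inv_inv, inv_inv] at h4
    rw [mul_inv_rev]
    simpa [mul_assoc] using h4
  · intro h
    refine ⟨(P : Subgroup G).transferFocal.ker, inferInstance, ?_, ?_⟩
    · rw [Subgroup.ker_transferFocal_inf_eq_focalSubgroup, ← Subgroup.commutator_inf_eq_focalSubgroup]
      exact h
    · rw [eq_top_iff]
      intro g _
      obtain ⟨y, hy⟩ := Subgroup.focalSubgroupOf.pow_index_surjective P ((P : Subgroup G).transferFocal g)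
      obtain ⟨x, rfl⟩ := QuotientGroup.mk_surjective y
      have h1 : g * (x : G)⁻¹ ∈ (P : Subgroup G).transferFocal.ker := by
        rw [MonoidHom.mem_ker, map_mul, map_inv, Subgroup.transferFocal_eq_pow]
        exact mul_inv_eq_one.mpr hy.symm
      have := mul_mem (Subgroup.mem_sup_left (T := (P : Subgroup G)) h1)
        (Subgroup.mem_sup_right (S := (P : Subgroup G).transferFocal.ker) x.2)
      rwa [inv_mul_cancel_right] at this

end Cfsg.Agent.S0131
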