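import Cfsg.Statements.S0155
import Cfsg.Agent.Lib.Char.Basic
-- import your own Cfsg.Agent.* helpers here

set_option autoImplicit false
open Cfsg

namespace Cfsg.Agent.S0155

set_option linter.style.haveILetI false
open Cfsg Cfsg.Lib.Char


/-- The character of the left regular representation of a finite group takes the value |G| at the identity and 0 at every other element. -/
theorem result {G : Type*} [Group G] [Fintype G] [DecidableEq G] (g : G) : (Representation.leftRegular ℂ G).character g = if g = 1 then (Nat.card G : ℂ) else 0 := by
  show LinearMap.trace ℂ _ (Representation.ofMulAction ℂ G G g) = _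
  rw [LinearMap.trace_eq_matrix_trace ℂ (MonoidAlgebra.basis G ℂ), Matrix.trace,
    Finset.sum_congr rfl (g := fun x => if g = 1 then (1 : ℂ) else 0) (fun x _ => by
      simp [LinearMap.toMatrix_apply, Matrix.diag, MonoidAlgebra.basis, Finsupp.single_apply])]
  split_ifs with h <;> simp [Nat.card_eq_fintype_card]

end Cfsg.Agent.S0155
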