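import Cfsg.Statements.S0158
import Cfsg.Agent.Lib.Char.Indicator
-- import your own Cfsg.Agent.* helpers here

set_option autoImplicit false
open Cfsg

namespace Cfsg.Agent.S0158

set_option linter.style.haveILetI false
open Cfsg Cfsg.Lib.Char


/-- The Frobenius–Schur indicator of an irreducible complex representation of a finite group — the average over s of the character at s * s — is 0, 1 or −1, and it vanishes exactly when some character value is not real. -/
theorem result {G : Type*} [Group G] [Fintype G] {V : Type*} [AddCommGroup V] [Module ℂ V] [FiniteDimensional ℂ V] (ρ : Representation ℂ G V) [ρ.IsIrreducible] : ((Nat.card G : ℂ)⁻¹ * ∑ s : G, ρ.character (s * s) = 0 ∨ (Nat.card G : ℂ)⁻¹ * ∑ s : G, ρ.character (s * s) = 1 ∨ (Nat.card G : ℂ)⁻¹ * ∑ s : G, ρ.character (s * s) = -1) ∧ ((Nat.card G : ℂ)⁻¹ * ∑ s : G, ρ.character (s * s) = 0 ↔ ∃ s : G, (ρ.character s).im ≠ 0) := by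
  have hirr := isIrrCharacter_character ρ
  have hG := card_cast_ne_zero (G := G)
  rcases indicator_cases hirr with ⟨hr, h⟩ | ⟨hr, h⟩
  · rw [h, mul_zero]
    exact ⟨Or.inl rfl, fun _ => not_forall.mp hr, fun _ => rfl⟩
  · have h' : (Nat.card G : ℂ)⁻¹ * ∑ s, ρ.character (s * s) = 1 ∨
        (Nat.card G : ℂ)⁻¹ * ∑ s, ρ.character (s * s) = -1 := by
      rcases h with h | ⟨h, -⟩
      · left; rw [h, inv_mul_cancel₀ hG]
      · right; rw [h, mul_neg, inv_mul_cancel₀ hG]
    refine ⟨Or.inr h', fun h0 => ?_, fun ⟨s, hs⟩ => absurd (hr s) hs⟩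
    rw [h0] at h'
    simp at h' 

end Cfsg.Agent.S0158
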