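import Cfsg.Statements.S0162
import Cfsg.Agent.Lib.Char.PermLemma
import Cfsg.Agent.Lib.Char.Central
-- import your own Cfsg.Agent.* helpers here

set_option autoImplicit false
open Cfsg

namespace Cfsg.Agent.S0162

set_option linter.style.haveILetI false
open Cfsg Cfsg.Lib.Char
open scoped ComplexConjugate


/-- If a finite group has odd order, its order is congruent to its number of conjugacy classes modulo 16. -/
theorem result {G : Type*} [Group G] [Finite G] (hodd : Odd (Nat.card G)) : Nat.card G ≡ Nat.card (ConjClasses G) [MOD 16] := by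
  classical
  have hodd' := hodd
  haveI := Fintype.ofFinite G
  let e : IrrCharacter G := ⟨fun _ => 1, isIrrCharacter_one⟩
  choose d hd0 hd using fun χ : IrrCharacter G => χ.2.exists_degree
  have hsq : ∑ χ, d χ ^ 2 = Nat.card G := by
    have h := sum_sq_degree (G := G)
    simp only [hd] at h
    exact_mod_cast h
  have hodd_d : ∀ χ, Odd (d χ) := fun χ =>
    Odd.of_dvd_nat hodd (degree_dvd_card χ.2 (hd χ))
  have h8 : ∀ χ, ∃ c, d χ ^ 2 = 1 + 8 * c := by
    intro χ
    obtain ⟨m, hm⟩ := hodd_d χ
    obtain ⟨t, ht⟩ := Nat.even_mul_succ_self m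
    exact ⟨t, by rw [hm]; nlinarith⟩
  choose c hc using h8
  have hinv : ∀ χ : IrrCharacter G, irrConj (irrConj χ) = χ := fun χ =>
    Subtype.ext (funext fun g => Complex.conj_conj _)
  have hcc : ∀ χ, d (irrConj χ) = d χ := by
    intro χ
    have h := hd (irrConj χ)
    change conj ((χ : G → ℂ) 1) = _ at h
    rw [hd χ, Complex.conj_natCast] at h
    exact_mod_cast h.symm
  have heven : Even (∑ χ, c χ) := by
    have h0 : c e = 0 := by
      have h1 : (1 : ℂ) = d e := hd e
      have h2 : d e = 1 := by exact_mod_cast h1.symm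
      have h3 := hc e
      rw [h2, one_pow] at h3
      omega
    rw [← ZMod.natCast_eq_zero_iff_even, Nat.cast_sum]
    refine Finset.sum_involution (fun χ _ => irrConj χ) (fun χ _ => ?_) (fun χ _ hne => ?_)
      (fun χ _ => Finset.mem_univ _) (fun χ _ => hinv χ)
    · have h1 : c (irrConj χ) = c χ := by
        have h2 := hc (irrConj χ)
        rw [hcc, hc χ] at h2
        omega
      rw [h1, ← two_mul]
      have h2 : (2 : ZMod 2) = 0 := by decide
      rw [h2, zero_mul]
    · intro hfix
      apply hne
      rw [irrConj_eq_iff] at hfix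
      rw [show χ = e from Subtype.ext (real_irr_eq_one hodd' χ hfix), h0, Nat.cast_zero]
  obtain ⟨t, ht⟩ := heven
  rw [← hsq, ← card_irr_eq_card_conjClasses, Nat.card_eq_fintype_card]
  have : ∑ χ, d χ ^ 2 = Fintype.card (IrrCharacter G) + 16 * t := by
    simp only [hc, Finset.sum_add_distrib, ← Finset.mul_sum, ht, Finset.sum_const, Finset.card_univ,
      smul_eq_mul, mul_one]
    ring
  rw [this]
  show (_ + 16 * t) % 16 = _ % 16
  omega

end Cfsg.Agent.S0162
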