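import Mathlib
import Cfsg.Statements.S0166
import Cfsg.Agent.Lib.Char.BrauerInduction
import Cfsg.Agent.Lib.Char.Orthogonality

set_option autoImplicit false
open Cfsg

namespace Cfsg.Agent.S0166

universe u

variable {G : Type u} [Group G] {K : IntermediateField ℚ ℂ}

/-- The traces of a matrix representation over `K`. -/
def Realizable (K : IntermediateField ℚ ℂ) (f : G → ℂ) : Prop :=
  ∃ (d : ℕ) (σ : G →* Matrix (Fin d) (Fin d) K), ∀ g, f g = (((σ g).trace : K) : ℂ)

theorem realizable_of_fintype {ι : Type*} [Fintype ι] [DecidableEq ι] (σ : G →* Matrix ι ι K) {f : G → ℂ}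
    (h : ∀ g, f g = (((σ g).trace : K) : ℂ)) : Realizable K f := by
  refine ⟨Fintype.card ι, (Matrix.reindexAlgEquiv K K (Fintype.equivFin ι)).toMonoidHom.comp σ, fun g => ?_⟩
  rw [h g]
  congr 1
  change (σ g).trace = (Matrix.reindex (Fintype.equivFin ι) (Fintype.equivFin ι) (σ g)).trace
  simp only [Matrix.trace, Matrix.diag]
  exact Fintype.sum_equiv (Fintype.equivFin ι) _ _ fun i => by simp

theorem realizable_zero : Realizable K (0 : G → ℂ) := ⟨0, 1, fun g => by simp [Matrix.trace]⟩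

theorem Realizable.add {f f' : G → ℂ} (h : Realizable K f) (h' : Realizable K f') : Realizable K (f + f') := by
  obtain ⟨d, σ, hσ⟩ := h
  obtain ⟨d', σ', hσ'⟩ := h'
  let τ : G →* Matrix (Fin d ⊕ Fin d') (Fin d ⊕ Fin d') K :=
    { toFun := fun g => Matrix.fromBlocks (σ g) 0 0 (σ' g)
      map_one' := by simp [Matrix.fromBlocks_one]
      map_mul' := fun g g' => by simp [Matrix.fromBlocks_multiply] }
  refine realizable_of_fintype τ fun g => ?_
  change f g + f' g = (((Matrix.fromBlocks (σ g) 0 0 (σ' g)).trace : K) : ℂ)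
  rw [hσ, hσ', ← IntermediateField.coe_add]
  simp [Matrix.trace, Fintype.sum_sum_type]

theorem Realizable.nsmul {f : G → ℂ} (h : Realizable K f) : ∀ n : ℕ, Realizable K (n • f)
  | 0 => by rw [zero_nsmul]; exact realizable_zero
  | n + 1 => by rw [succ_nsmul]; exact (h.nsmul n).add h

/-- Differences of realizable functions. -/
def VirtReal (K : IntermediateField ℚ ℂ) (f : G → ℂ) : Prop :=
  ∃ a b : G → ℂ, Realizable K a ∧ Realizable K b ∧ f + b = a

theorem realizable_induced [Fintype G] (H : Subgroup G) (lam : H →* ℂˣ) (hK : ∀ h, ((lam h : ℂˣ) : ℂ) ∈ K) :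
    Realizable K (indFun H fun h => ((lam h : ℂˣ) : ℂ)) := by
  classical
  haveI := Fintype.ofFinite (G ⧸ H)
  have hmem : ∀ (g : G) (b : G ⧸ H), (g • b).out⁻¹ * g * b.out ∈ H := fun g b => by
    rw [mul_assoc, ← QuotientGroup.eq, QuotientGroup.out_eq', ← smul_eq_mul, ← MulAction.Quotient.smul_mk,
      QuotientGroup.out_eq']
  let v : G → G ⧸ H → K := fun g b => ⟨((lam ⟨_, hmem g b⟩ : ℂˣ) : ℂ), hK _⟩
  have hv : ∀ g g' b, v (g * g') b = v g (g' • b) * v g' b := by
    intro g g' b
    apply Subtype.ext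
    change ((lam ⟨_, hmem (g * g') b⟩ : ℂˣ) : ℂ) = (lam ⟨_, hmem g (g' • b)⟩ : ℂˣ) * ((lam ⟨_, hmem g' b⟩ : ℂˣ) : ℂ)
    rw [← Units.val_mul, ← map_mul]
    congr 2
    refine Subtype.ext ?_
    change _ = (g • g' • b).out⁻¹ * g * (g' • b).out * ((g' • b).out⁻¹ * g' * b.out)
    show ((g * g') • b).out⁻¹ * (g * g') * b.out = _
    rw [mul_smul]; group
  have hv1 : ∀ b, v 1 b = 1 := by
    intro b
    apply Subtype.ext
    change ((lam ⟨_, hmem 1 b⟩ : ℂˣ) : ℂ) = 1
    have : (⟨((1 : G) • b).out⁻¹ * 1 * b.out, hmem 1 b⟩ : H) = 1 := Subtype.ext (by simp)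
    rw [this, map_one, Units.val_one]
  let σ : G →* Matrix (G ⧸ H) (G ⧸ H) K :=
    { toFun := fun g => Matrix.of fun a b => if g • b = a then v g b else 0
      map_one' := by
        ext a b
        rw [Matrix.of_apply, one_smul, Matrix.one_apply]
        by_cases h : b = a
        · rw [if_pos h, if_pos h.symm, hv1]
        · rw [if_neg h, if_neg (Ne.symm h)]
      map_mul' := fun g g' => by
        ext a c
        rw [Matrix.mul_apply, Finset.sum_eq_single (g' • c)]
        · rw [Matrix.of_apply, Matrix.of_apply, Matrix.of_apply, if_pos rfl, mul_smul]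
          by_cases h : g • g' • c = a
          · rw [if_pos h, if_pos h, hv]
          · rw [if_neg h, if_neg h, zero_mul]
        · intro b _ hb
          simp [Matrix.of_apply, Ne.symm hb]
        · intro h; exact absurd (Finset.mem_univ _) h }
  refine realizable_of_fintype σ fun g => ?_
  have hdiag : ∀ a : G ⧸ H, (((if g • a = a then v g a else 0 : K)) : ℂ) =
      extendByZero H (fun h => ((lam h : ℂˣ) : ℂ)) (a.out⁻¹ * g * a.out) := by
    intro a
    have hiff : a.out⁻¹ * g * a.out ∈ H ↔ g • a = a := by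
      conv_rhs => rw [← QuotientGroup.out_eq' a, MulAction.Quotient.smul_mk, eq_comm, QuotientGroup.eq, smul_eq_mul]
      rw [mul_assoc]
    by_cases h : g • a = a
    · rw [if_pos h]
      conv_rhs => rw [show a.out⁻¹ * g * a.out = ((⟨_, hmem g a⟩ : H) : G) by simp [h]]
      rw [Cfsg.Lib.Char.extendByZero_coe]
    · rw [if_neg h, IntermediateField.coe_zero, Cfsg.Lib.Char.extendByZero_of_notMem _ _ (fun e => h (hiff.1 e))]
  have hinv : ∀ (k : H) (y : G), extendByZero H (fun h => ((lam h : ℂˣ) : ℂ)) ((k : G)⁻¹ * y * k) =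
      extendByZero H (fun h => ((lam h : ℂˣ) : ℂ)) y := by
    intro k y
    by_cases hy : y ∈ H
    · obtain ⟨y', rfl⟩ : ∃ y' : H, (y' : G) = y := ⟨⟨y, hy⟩, rfl⟩
      rw [show (k : G)⁻¹ * y' * k = ((k⁻¹ * y' * k : H) : G) by simp, Cfsg.Lib.Char.extendByZero_coe,
        Cfsg.Lib.Char.extendByZero_coe]
      rw [map_mul, map_mul, map_inv, mul_comm (lam k)⁻¹, inv_mul_cancel_right]
    · rw [Cfsg.Lib.Char.extendByZero_of_notMem _ _ hy, Cfsg.Lib.Char.extendByZero_of_notMem _ _ (fun h => hy ?_)]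
      have := H.mul_mem (H.mul_mem k.2 h) (H.inv_mem k.2)
      simpa [mul_assoc] using this
  set F := fun y => extendByZero H (fun h => ((lam h : ℂˣ) : ℂ)) y
  have hsum : ∑ x : G, F (x⁻¹ * g * x) = (Nat.card H : ℂ) * ∑ a : G ⧸ H, F (a.out⁻¹ * g * a.out) := by
    rw [← Finset.sum_fiberwise Finset.univ (fun x : G => (x : G ⧸ H)), Finset.mul_sum]
    refine Finset.sum_congr rfl fun a _ => ?_
    rw [Finset.sum_congr rfl (g := fun _ => F (a.out⁻¹ * g * a.out)) (fun x hx => ?_), Finset.sum_const, nsmul_eq_mul]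
    · congr 2
      rw [← Fintype.card_subtype, ← Nat.card_eq_fintype_card]
      refine Nat.card_congr ⟨fun x => ⟨a.out⁻¹ * x.1, ?_⟩, fun k => ⟨a.out * k, ?_⟩, fun x => by simp, fun k => by simp⟩
      · rw [← QuotientGroup.eq, QuotientGroup.out_eq']; exact x.2.symm
      · rw [QuotientGroup.mk_mul_of_mem a.out k.2, QuotientGroup.out_eq']
    · have hx' : (x : G ⧸ H) = a := (Finset.mem_filter.1 hx).2
      have hk : a.out⁻¹ * x ∈ H := by rw [← QuotientGroup.eq, QuotientGroup.out_eq', hx']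
      have := hinv ⟨_, hk⟩ (a.out⁻¹ * g * a.out)
      refine Eq.trans ?_ this
      congr 1; group
  change (Nat.card H : ℂ)⁻¹ * ∑ x : G, F (x⁻¹ * g * x) = _
  rw [hsum, inv_mul_cancel_left₀ (by exact_mod_cast Nat.card_pos.ne')]
  rw [Matrix.trace, IntermediateField.coe_sum]
  exact Finset.sum_congr rfl fun a _ => (hdiag a).symm

theorem virt_mem [Fintype G] (hK : ∀ (H : Subgroup G) (lam : H →* ℂˣ) (h : H), ((lam h : ℂˣ) : ℂ) ∈ K)
    {χ : G → ℂ} (hχ : IsCharacter G χ) : VirtReal K χ := by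
  have h := Cfsg.Lib.Char.char_mem_elemLin hχ
  clear hχ
  induction h using AddSubgroup.closure_induction with
  | mem a ha =>
    obtain ⟨E, -, lam, rfl⟩ := ha
    exact ⟨_, 0, realizable_induced E lam (hK E lam), realizable_zero, add_zero _⟩
  | zero => exact ⟨0, 0, realizable_zero, realizable_zero, add_zero _⟩
  | add x y _ _ hx hy =>
    obtain ⟨a, b, ha, hb, hab⟩ := hx
    obtain ⟨a', b', ha', hb', hab'⟩ := hy
    exact ⟨a + a', b + b', ha.add ha', hb.add hb', by rw [← hab, ← hab']; abel⟩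
  | neg x _ hx =>
    obtain ⟨a, b, ha, hb, hab⟩ := hx
    exact ⟨b, a, hb, ha, by rw [← hab]; abel⟩

/-- The complex representation of a matrix representation over `K`. -/
noncomputable def cRep {d : ℕ} (σ : G →* Matrix (Fin d) (Fin d) K) : Representation ℂ G (Fin d → ℂ) :=
  (Matrix.toLinAlgEquiv' : Matrix (Fin d) (Fin d) ℂ ≃ₐ[ℂ] _).toMonoidHom.comp
    (((algebraMap K ℂ).mapMatrix).toMonoidHom.comp σ)

theorem cRep_toMatrix {d : ℕ} (σ : G →* Matrix (Fin d) (Fin d) K) (g : G) :
    LinearMap.toMatrix' (cRep σ g) = (algebraMap K ℂ).mapMatrix (σ g) :=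
  LinearMap.toMatrix'_toLin' _

theorem cRep_character {d : ℕ} (σ : G →* Matrix (Fin d) (Fin d) K) (g : G) :
    (cRep σ).character g = (((σ g).trace : K) : ℂ) := by
  change LinearMap.trace ℂ _ (cRep σ g) = _
  rw [LinearMap.trace_eq_matrix_trace ℂ (Pi.basisFun ℂ (Fin d)), LinearMap.toMatrix_eq_toMatrix',
    cRep_toMatrix]
  exact (AddMonoidHom.map_trace (algebraMap K ℂ).toAddMonoidHom (σ g)).symm

set_option maxHeartbeats 2000000 in
theorem exists_split [Fintype G] {χ : G → ℂ} (hχ : IsCharacter G χ) {a b : ℕ}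
    (σA : G →* Matrix (Fin a) (Fin a) K) (σB : G →* Matrix (Fin b) (Fin b) K)
    (h : ∀ g, χ g + (((σB g).trace : K) : ℂ) = (((σA g).trace : K) : ℂ)) : Realizable K χ := by
  classical
  obtain ⟨n, ρ, hρ⟩ := hχ
  let RP : Representation ℂ G ((Fin n → ℂ) × (Fin b → ℂ)) :=
    { toFun := fun g => (ρ g).prodMap (cRep σB g)
      map_one' := by simp
      map_mul' := fun g g' => by simp [LinearMap.prodMap_mul] }
  obtain ⟨e⟩ := Cfsg.Lib.Char.nonempty_equiv_of_character_eq RP (cRep σA) (funext fun g => by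
    change LinearMap.trace ℂ _ ((ρ g).prodMap (cRep σB g)) = _
    rw [LinearMap.trace_prodMap', cRep_character]
    have hg := h g
    rw [← hρ, ← cRep_character σB g] at hg
    exact hg)
  set A' : G → Matrix (Fin a) (Fin a) ℂ := fun g => (algebraMap K ℂ).mapMatrix (σA g)
  set B' : G → Matrix (Fin b) (Fin b) ℂ := fun g => (algebraMap K ℂ).mapMatrix (σB g)
  let ml : (Fin b → ℂ) →ₗ[ℂ] (Fin a → ℂ) := e.toLinearEquiv.toLinearMap ∘ₗ LinearMap.inr ℂ _ _
  let ll : (Fin a → ℂ) →ₗ[ℂ] (Fin b → ℂ) := LinearMap.snd ℂ _ _ ∘ₗ e.toLinearEquiv.symm.toLinearMap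
  set M := LinearMap.toMatrix' ml
  set L := LinearMap.toMatrix' ll
  have hLM : L * M = 1 := by
    rw [← LinearMap.toMatrix'_comp, ← LinearMap.toMatrix'_id]
    congr 1
    refine LinearMap.ext fun x => ?_
    change (e.toLinearEquiv.symm (e.toLinearEquiv (0, x))).2 = x
    rw [LinearEquiv.symm_apply_apply]
  have hM : ∀ g, A' g * M = M * B' g := by
    intro g
    simp only [A', B', ← cRep_toMatrix, ← LinearMap.toMatrix'_comp, M]
    congr 1
    refine LinearMap.ext fun x => ?_
    change cRep σA g (e.toLinearEquiv (0, x)) = e.toLinearEquiv (0, cRep σB g x)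
    have := LinearMap.congr_fun (e.toIntertwiningMap.isIntertwining' g) (0, x)
    refine this.symm.trans ?_
    change e.toLinearEquiv ((ρ g) 0, cRep σB g x) = _
    rw [map_zero]
  -- the averaging polynomial
  let X : Matrix (Fin a) (Fin b) (MvPolynomial (Fin a × Fin b) ℂ) := Matrix.of fun i j => MvPolynomial.X (i, j)
  let cst : ℂ →+* MvPolynomial (Fin a × Fin b) ℂ := MvPolynomial.C
  let F : MvPolynomial (Fin a × Fin b) ℂ :=
    (L.map cst * ∑ g : G, (A' g).map cst * X * (B' g⁻¹).map cst).det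
  have hsummap : ∀ {R S : Type} [Semiring R] [Semiring S] (f : R →+* S) (c : G → Matrix (Fin a) (Fin b) R),
      (∑ g, c g).map f = ∑ g, (c g).map f := by
    intro R S _ _ f c
    exact map_sum (f.toAddMonoidHom.mapMatrix) c Finset.univ
  have hF : ∀ x : Fin a × Fin b → ℂ, MvPolynomial.eval x F =
      (L * ∑ g : G, A' g * Matrix.of (fun i j => x (i, j)) * B' g⁻¹).det := by
    intro x
    rw [RingHom.map_det, RingHom.mapMatrix_apply, Matrix.map_mul, Matrix.map_map, hsummap]
    congr 2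
    · ext i j; simp [cst]
    · refine Finset.sum_congr rfl fun g _ => ?_
      rw [Matrix.map_mul, Matrix.map_mul, Matrix.map_map, Matrix.map_map]
      congr 1
      · congr 1
        · ext i j; simp [cst]
        · ext i j; simp [X]
      · ext i j; simp [cst]
  have hF0 : F ≠ 0 := by
    intro h0
    have h1 := hF (fun ij => M ij.1 ij.2)
    have h2 : ∑ g : G, A' g * (Matrix.of fun i j => M i j) * B' g⁻¹ = (Fintype.card G : ℂ) • M := by
      rw [Finset.sum_congr rfl (g := fun _ => M) (fun g _ => ?_), Finset.sum_const, Finset.card_univ,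
        Nat.cast_smul_eq_nsmul]
      change A' g * M * B' g⁻¹ = M
      rw [hM, Matrix.mul_assoc]
      simp only [B', ← map_mul, mul_inv_cancel, map_one, Matrix.mul_one]
    rw [h0, map_zero] at h1
    change (0 : ℂ) = (L * ∑ g : G, A' g * (Matrix.of fun i j => M i j) * B' g⁻¹).det at h1
    rw [h2, Matrix.mul_smul, hLM, Matrix.det_smul, Matrix.det_one, mul_one] at h1
    exact pow_ne_zero _ (by exact_mod_cast Fintype.card_ne_zero) h1.symm
  obtain ⟨x, hx⟩ : ∃ x : Fin a × Fin b → K, MvPolynomial.eval (fun ij => ((x ij : K) : ℂ)) F ≠ 0 := by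
    by_contra hall
    push Not at hall
    apply hF0
    refine MvPolynomial.funext_set (fun _ => Set.range fun k : K => (k : ℂ))
      (fun _ => Set.infinite_range_of_injective Subtype.val_injective) fun y hy => ?_
    have hy' : ∀ ij, ∃ k : K, (k : ℂ) = y ij := fun ij => hy ij (Set.mem_univ _)
    choose k hk using hy'
    rw [map_zero, show y = fun ij => ((k ij : K) : ℂ) from funext fun ij => (hk ij).symm]
    exact hall k
  set X0 : Matrix (Fin a) (Fin b) K := Matrix.of fun i j => x (i, j)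
  set N : Matrix (Fin a) (Fin b) K := ∑ g : G, σA g * X0 * σB g⁻¹ with hN
  have hN' : N.map (algebraMap K ℂ) = ∑ g : G, A' g * Matrix.of (fun i j => ((x (i, j) : K) : ℂ)) * B' g⁻¹ := by
    rw [hN, hsummap]
    refine Finset.sum_congr rfl fun g _ => ?_
    rw [Matrix.map_mul, Matrix.map_mul]
    rfl
  have hker : Function.Injective (Matrix.toLin' N) := by
    rw [← LinearMap.ker_eq_bot, LinearMap.ker_eq_bot']
    intro w hw
    rw [hF] at hx
    rw [← hN'] at hx
    have hz : (L * N.map (algebraMap K ℂ)).mulVec (fun j => ((w j : K) : ℂ)) = 0 := by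
      rw [← Matrix.mulVec_mulVec]
      have : (N.map (algebraMap K ℂ)).mulVec (fun j => ((w j : K) : ℂ)) = 0 := by
        funext i
        have := RingHom.map_mulVec (algebraMap K ℂ) N w i
        rw [show N.mulVec w = 0 from hw] at this
        simpa [Function.comp_def] using this.symm
      rw [this, Matrix.mulVec_zero]
    funext j
    exact Subtype.ext (congrFun (Matrix.eq_zero_of_mulVec_eq_zero hx hz) j)
  obtain ⟨l0, hl0⟩ := LinearMap.exists_leftInverse_of_injective _ (LinearMap.ker_eq_bot.2 hker)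
  set L0 := LinearMap.toMatrix' l0
  have hL0 : L0 * N = 1 := by
    rw [← LinearMap.toMatrix'_toLin' N, ← LinearMap.toMatrix'_comp, hl0, LinearMap.toMatrix'_id]
  have hcomm : ∀ g, σA g * N = N * σB g := by
    intro g
    rw [hN, Matrix.mul_sum, Matrix.sum_mul]
    refine Fintype.sum_equiv (Equiv.mulLeft g) _ _ fun k => ?_
    simp only [Equiv.coe_mulLeft, mul_inv_rev, map_mul, Matrix.mul_assoc]
    rw [← map_mul σB g⁻¹, inv_mul_cancel, map_one, Matrix.mul_one]
  set c : K := (Fintype.card G : K)⁻¹ with hc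
  set L1 : Matrix (Fin b) (Fin a) K := c • ∑ g : G, σB g * L0 * σA g⁻¹ with hL1
  have hcommL : ∀ g, L1 * σA g = σB g * L1 := by
    intro g
    rw [hL1, Matrix.smul_mul, Matrix.mul_smul, Matrix.mul_sum, Matrix.sum_mul]
    congr 1
    symm
    refine Fintype.sum_equiv (Equiv.mulLeft g) _ _ fun k => ?_
    simp only [Equiv.coe_mulLeft, mul_inv_rev, map_mul, Matrix.mul_assoc]
    rw [← map_mul σA g⁻¹, inv_mul_cancel, map_one, Matrix.mul_one]
  have hL1N : L1 * N = 1 := by
    rw [hL1, Matrix.smul_mul, Matrix.sum_mul, Finset.sum_congr rfl (g := fun _ => 1) (fun g _ => ?_),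
      Finset.sum_const, Finset.card_univ, hc, ← Nat.cast_smul_eq_nsmul K, smul_smul,
      inv_mul_cancel₀ (Nat.cast_ne_zero.2 Fintype.card_ne_zero), one_smul]
    rw [Matrix.mul_assoc, hcomm, ← Matrix.mul_assoc, Matrix.mul_assoc (σB g), hL0, Matrix.mul_one,
      ← map_mul, mul_inv_cancel, map_one]
  set P : Matrix (Fin a) (Fin a) K := 1 - N * L1 with hP
  have hPc : ∀ g, P * σA g = σA g * P := by
    intro g
    rw [hP, Matrix.sub_mul, Matrix.mul_sub, Matrix.one_mul, Matrix.mul_one, Matrix.mul_assoc, hcommL,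
      ← Matrix.mul_assoc, ← hcomm, Matrix.mul_assoc]
  have hPP : P * P = P := by
    have h2 : N * L1 * (N * L1) = N * L1 := by
      rw [Matrix.mul_assoc, ← Matrix.mul_assoc L1, hL1N, Matrix.one_mul]
    rw [hP, sub_mul, one_mul, mul_sub, mul_one, h2, sub_self, sub_zero]
  set f := Matrix.toLin' P with hf
  let bR := Module.finBasis K (LinearMap.range f)
  let I := LinearMap.toMatrix bR (Pi.basisFun K (Fin a)) (LinearMap.range f).subtype
  let J := LinearMap.toMatrix (Pi.basisFun K (Fin a)) bR f.rangeRestrict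
  have hIJ : I * J = P := by
    rw [← LinearMap.toMatrix_comp, LinearMap.rangeRestrict, LinearMap.subtype_comp_codRestrict, LinearMap.toMatrix_eq_toMatrix', hf,
      LinearMap.toMatrix'_toLin']
  have hJI : J * I = 1 := by
    rw [← LinearMap.toMatrix_comp, ← LinearMap.toMatrix_id bR]
    congr 1
    refine LinearMap.ext fun w => Subtype.ext ?_
    obtain ⟨w, v, rfl⟩ := w
    change f (f v) = f v
    rw [hf, Matrix.toLin'_apply, Matrix.toLin'_apply, Matrix.mulVec_mulVec, hPP]
  have hPI : P * I = I := by rw [← hIJ, Matrix.mul_assoc, hJI, Matrix.mul_one]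
  let σ0 : G →* Matrix (Fin _) (Fin _) K :=
    { toFun := fun g => J * σA g * I
      map_one' := by rw [map_one, Matrix.mul_one, hJI]
      map_mul' := fun g g' => by
        calc J * σA (g * g') * I = J * (σA g * σA g') * (P * I) := by rw [map_mul, hPI]
          _ = J * σA g * (σA g' * P) * I := by simp only [Matrix.mul_assoc]
          _ = J * σA g * (P * σA g') * I := by rw [hPc]
          _ = J * σA g * I * (J * σA g' * I) := by rw [← hIJ]; simp only [Matrix.mul_assoc] }
  refine realizable_of_fintype σ0 fun g => ?_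
  change χ g = (((J * σA g * I).trace : K) : ℂ)
  have ht : (J * σA g * I).trace = (σA g).trace - (σB g).trace := by
    rw [Matrix.trace_mul_comm, ← Matrix.mul_assoc, hIJ, hPc, hP, Matrix.mul_sub, Matrix.mul_one,
      Matrix.trace_sub]
    congr 1
    rw [← Matrix.mul_assoc, hcomm, Matrix.mul_assoc, Matrix.trace_mul_comm, Matrix.mul_assoc, hL1N, Matrix.mul_one]
  rw [ht, AddSubgroupClass.coe_sub, ← h g, add_sub_cancel_right]


/-- Brauer's splitting field Theorem: a complex representation of a finite group of exponent m is equivalent to a representation by matrices with entries in ℚ adjoined exp(2πi/m). -/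
theorem result {G : Type*} [Group G] [Finite G] (n : ℕ) (ρ : Representation ℂ G (Fin n → ℂ)) : ∃ σ : Representation ℂ G (Fin n → ℂ), Nonempty (ρ.Equiv σ) ∧ ∀ g : G, ∀ i j : Fin n, LinearMap.toMatrix' (σ g) i j ∈ Algebra.adjoin ℚ ({Complex.exp (2 * Real.pi * Complex.I / (Monoid.exponent G : ℂ))} : Set ℂ) := by
  classical
  haveI := Fintype.ofFinite G
  set m := Monoid.exponent G
  have hm : m ≠ 0 := Monoid.exponent_ne_zero_of_finite
  haveI : NeZero m := ⟨hm⟩
  set ζ := Complex.exp (2 * Real.pi * Complex.I / (m : ℂ))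
  have hζ : IsPrimitiveRoot ζ m := Complex.isPrimitiveRoot_exp m hm
  let K := IntermediateField.adjoin ℚ ({ζ} : Set ℂ)
  have hK : ∀ (H : Subgroup G) (lam : H →* ℂˣ) (h : H), ((lam h : ℂˣ) : ℂ) ∈ K := by
    intro H lam h
    have h1 : ((lam h : ℂˣ) : ℂ) ^ m = 1 := by
      rw [← Units.val_pow_eq_pow_val, ← map_pow]
      have : h ^ m = 1 := Subtype.ext (by simpa using Monoid.pow_exponent_eq_one (h : G))
      rw [this, map_one, Units.val_one]
    obtain ⟨i, -, hi⟩ := hζ.eq_pow_of_pow_eq_one h1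
    rw [← hi]
    exact pow_mem (IntermediateField.mem_adjoin_simple_self ℚ ζ) i
  obtain ⟨a, b, ⟨da, σA, hA⟩, ⟨db, σB, hB⟩, hab⟩ := virt_mem hK (χ := ρ.character) ⟨n, ρ, rfl⟩
  obtain ⟨d, σ0, hσ0⟩ := exists_split (K := K) (χ := ρ.character) ⟨n, ρ, rfl⟩ σA σB
    (fun g => by rw [← hA, ← hB]; exact congrFun hab g)
  obtain ⟨e⟩ := Cfsg.Lib.Char.nonempty_equiv_of_character_eq ρ (cRep σ0)
    (funext fun g => by rw [cRep_character, ← hσ0])
  obtain rfl : n = d := by simpa using e.toLinearEquiv.finrank_eq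
  refine ⟨cRep σ0, ⟨e⟩, fun g i j => ?_⟩
  rw [cRep_toMatrix, RingHom.mapMatrix_apply, Matrix.map_apply]
  have hint : IsIntegral ℚ ζ := (hζ.isIntegral (Nat.pos_of_ne_zero hm)).tower_top
  have he : K.toSubalgebra = Algebra.adjoin ℚ {ζ} :=
    IntermediateField.adjoin_simple_toSubalgebra_of_isAlgebraic hint.isAlgebraic
  rw [← he]
  exact (σ0 g i j).2

end Cfsg.Agent.S0166
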