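import Cfsg.Statements.S0167
import Cfsg.Agent.Lib.Char.Formulas
-- import your own Cfsg.Agent.* helpers here

set_option autoImplicit false
open Cfsg

namespace Cfsg.Agent.S0167

set_option linter.style.haveILetI false
open Cfsg Cfsg.Lib.Char
open scoped ComplexConjugate


/-- An element g of a finite group is a commutator if and only if the sum over the irreducible characters χ of χ g / χ 1 is nonzero. -/
theorem result {G : Type*} [Group G] [Finite G] (g : G) : (∃ a b : G, g = a * b * a⁻¹ * b⁻¹) ↔ ∑ᶠ χ : Cfsg.IrrCharacter G, (χ : G → ℂ) g / (χ : G → ℂ) 1 ≠ 0 := by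
  classical
  haveI := Fintype.ofFinite G
  rw [finsum_eq_sum_of_fintype]
  have hdeg : ∀ χ : IrrCharacter G, conj ((χ : G → ℂ) 1) = (χ : G → ℂ) 1 := fun χ => by
    obtain ⟨n, -, hn⟩ := χ.2.exists_degree
    simp [hn]
  have key : ((Finset.univ.filter fun p : G × G => g = p.1 * p.2 * p.1⁻¹ * p.2⁻¹).card : ℂ) =
      (Nat.card G : ℂ) * ∑ χ : IrrCharacter G, (χ : G → ℂ) g⁻¹ / (χ : G → ℂ) 1 := by
    have hreg : ∀ p : G × G,
        (if g = p.1 * p.2 * p.1⁻¹ * p.2⁻¹ then (Nat.card G : ℂ) else 0) =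
          ∑ χ : IrrCharacter G,
            (χ : G → ℂ) 1 * (χ : G → ℂ) (p.2⁻¹ * g⁻¹ * (p.1 * p.2 * p.1⁻¹)) := by
      intro p
      rw [sum_degree_mul]
      refine if_congr ?_ rfl rfl
      constructor
      · intro h; rw [h]; group
      · intro h
        rw [mul_assoc, inv_mul_eq_one, eq_inv_mul_iff_mul_eq] at h
        rw [← h]; group
    have hin : ∀ χ : IrrCharacter G,
        ∑ p : G × G, (χ : G → ℂ) (p.2⁻¹ * g⁻¹ * (p.1 * p.2 * p.1⁻¹)) =
          (Nat.card G : ℂ) * ((Nat.card G : ℂ) * (χ : G → ℂ) g⁻¹ / (χ : G → ℂ) 1) /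
            (χ : G → ℂ) 1 := by
      intro χ
      rw [Fintype.sum_prod_type_right]
      simp only [sum_char_mul_conj χ.2]
      rw [← sum_char_mul_char_inv χ.2, ← Finset.sum_div, Finset.mul_sum]
      congr 1
      exact Finset.sum_congr rfl fun x _ => by ring
    have h2 : (Nat.card G : ℂ) *
        (Finset.univ.filter fun p : G × G => g = p.1 * p.2 * p.1⁻¹ * p.2⁻¹).card =
        ∑ χ : IrrCharacter G, (χ : G → ℂ) 1 *
          ∑ p : G × G, (χ : G → ℂ) (p.2⁻¹ * g⁻¹ * (p.1 * p.2 * p.1⁻¹)) := by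
      simp only [Finset.mul_sum]
      rw [Finset.sum_comm, ← Finset.sum_congr rfl fun p _ => hreg p, Finset.sum_ite,
        Finset.sum_const_zero, add_zero, Finset.sum_const, nsmul_eq_mul, mul_comm]
    have hG := card_cast_ne_zero (G := G)
    apply mul_left_cancel₀ hG
    rw [h2, Finset.mul_sum, Finset.mul_sum]
    refine Finset.sum_congr rfl fun χ _ => ?_
    rw [hin]
    have := χ.2.apply_one_ne_zero
    field_simp
  have hc : ∑ χ : IrrCharacter G, (χ : G → ℂ) g / (χ : G → ℂ) 1 =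
      conj (∑ χ : IrrCharacter G, (χ : G → ℂ) g⁻¹ / (χ : G → ℂ) 1) := by
    rw [map_sum]
    refine Finset.sum_congr rfl fun χ _ => ?_
    rw [map_div₀, hdeg, χ.2.isCharacter.apply_inv, Complex.conj_conj]
  rw [hc, Ne, map_eq_zero]
  have hiff : ∑ χ : IrrCharacter G, (χ : G → ℂ) g⁻¹ / (χ : G → ℂ) 1 = 0 ↔
      (Finset.univ.filter fun p : G × G => g = p.1 * p.2 * p.1⁻¹ * p.2⁻¹).card = 0 := by
    rw [← Nat.cast_eq_zero (R := ℂ), key, mul_eq_zero]
    simp [card_cast_ne_zero]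
  rw [hiff, Finset.card_eq_zero, Finset.filter_eq_empty_iff]
  push Not
  exact ⟨fun ⟨a, b, h⟩ => ⟨(a, b), Finset.mem_univ _, h⟩, fun ⟨p, _, h⟩ => ⟨p.1, p.2, h⟩⟩

end Cfsg.Agent.S0167
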