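import Cfsg.Statements.S0168
import Cfsg.Agent.Lib.Char.Orthogonality
import Mathlib.Algebra.Polynomial.BigOperators
-- import your own Cfsg.Agent.* helpers here

set_option autoImplicit false
open Cfsg

namespace Cfsg.Agent.S0168

set_option linter.style.haveILetI false
open Cfsg Cfsg.Lib.Char


/-- The Burnside–Brauer Theorem. Let χ be the character of a faithful complex representation of a finite group, taking m distinct values. Then every irreducible character has nonzero inner product with χ ^ i for some i < m. -/
theorem result {G : Type*} [Group G] [Fintype G] {V : Type*} [AddCommGroup V] [Module ℂ V] [FiniteDimensional ℂ V] (ρ : Representation ℂ G V) (hfaithful : Function.Injective ρ) (ψ : G → ℂ) (hψ : Cfsg.IsIrrCharacter G ψ) : ∃ i : ℕ, i < Nat.card (Set.range ρ.character) ∧ Cfsg.classInner (fun g => ρ.character g ^ i) ψ ≠ 0 := by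
  classical
  by_contra hcon
  push Not at hcon
  set χ := ρ.character with hχ
  set S : Finset ℂ := Finset.univ.image χ with hS
  set r := Nat.card (Set.range χ)
  have hr : r = S.card := by
    show Nat.card (Set.range χ) = _
    rw [← Nat.card_eq_finsetCard]
    exact Nat.card_congr (Equiv.setCongr (by simp [hS]))
  set d : ℂ := (Module.finrank ℂ V : ℂ)
  have hdS : d ∈ S := Finset.mem_image.mpr ⟨1, Finset.mem_univ _, ρ.char_one⟩
  let P : Polynomial ℂ := ∏ a ∈ S.erase d, (Polynomial.X - Polynomial.C a)
  have hdeg : P.natDegree < r := by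
    have hd' : P.natDegree = (S.erase d).card := Polynomial.natDegree_finsetProd_X_sub_C_eq_card _ id
    rw [hr, hd']
    exact Finset.card_erase_lt_of_mem hdS
  have hsum : classInner (fun g => P.eval (χ g)) ψ = 0 := by
    have h1 : (fun g => P.eval (χ g)) = ∑ i ∈ Finset.range r, P.coeff i • fun g => χ g ^ i := by
      funext g
      rw [Polynomial.eval_eq_sum_range' hdeg]
      simp [Finset.sum_apply]
    rw [h1, classInner_sum_left]
    exact Finset.sum_eq_zero fun i hi => by
      rw [classInner_smul_left, hcon i (Finset.mem_range.mp hi), mul_zero]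
  rw [classInner, Finset.sum_eq_single 1] at hsum
  · simp only [mul_eq_zero, inv_eq_zero, map_eq_zero] at hsum
    rcases hsum with h | h | h
    · exact card_cast_ne_zero h
    · rw [hχ, ρ.char_one, Polynomial.eval_prod, Finset.prod_eq_zero_iff] at h
      obtain ⟨a, ha, he⟩ := h
      rw [Polynomial.eval_sub, Polynomial.eval_X, Polynomial.eval_C, sub_eq_zero] at he
      exact (Finset.mem_erase.mp ha).1 he.symm
    · exact hψ.apply_one_ne_zero h
  · intro g _ hg
    have hne : χ g ≠ d := fun h => hg (hfaithful (by
      rw [(character_eq_finrank_iff ρ g).mp h, map_one]; rfl))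
    rw [Polynomial.eval_prod, Finset.prod_eq_zero
      (Finset.mem_erase.mpr ⟨hne, Finset.mem_image.mpr ⟨g, Finset.mem_univ _, rfl⟩⟩) (by simp),
      zero_mul]
  · simp

end Cfsg.Agent.S0168
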