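import Cfsg.Statements.S0172
import Cfsg.Agent.Lib.Char.FixedChar
import Mathlib.GroupTheory.GroupAction.CardCommute
-- import your own Cfsg.Agent.* helpers here

set_option autoImplicit false
open Cfsg

namespace Cfsg.Agent.S0172

set_option linter.style.haveILetI false
open Cfsg Cfsg.Lib.Char


/-- Class number of a Frobenius group: if G = K H with K normal, K ⊓ H trivial and no non-identity element of H commuting with a non-identity element of K, then |H| * k(G) + 1 = |H| * k(H) + k(K), where k denotes the number of conjugacy classes. -/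
theorem result {G : Type*} [Group G] [Finite G] (K H : Subgroup G) [K.Normal] (hKH : K ⊓ H = ⊥) (hKH' : K ⊔ H = ⊤) (hfpf : ∀ h ∈ H, h ≠ 1 → ∀ k ∈ K, h * k = k * h → k = 1) : Nat.card H * Nat.card (ConjClasses G) + 1 = Nat.card H * Nat.card (ConjClasses H) + Nat.card (ConjClasses K) := by
  classical
  haveI := Fintype.ofFinite G
  haveI := Fintype.ofFinite K
  haveI := Fintype.ofFinite H
  have hcl := centralizer_le_of_fpf_complement hKH' hfpf
  have hcent : ∀ {X : Type _} [Group X] [Finite X] [Fintype X],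
      Nat.card (ConjClasses X) * Nat.card X =
        ∑ g : X, Nat.card (Subgroup.centralizer ({g} : Set X)) := by
    intro X _ _ _
    rw [← card_comm_eq_card_conjClasses_mul_card, ← Nat.card_sigma]
    refine Nat.card_congr ?_
    exact { toFun := fun p => ⟨p.1.1, p.1.2, Subgroup.mem_centralizer_singleton_iff.mpr p.2.symm⟩
            invFun := fun p =>
              ⟨(p.1, p.2.1), (Subgroup.mem_centralizer_singleton_iff.mp p.2.2).symm⟩
            left_inv := fun p => rfl
            right_inv := fun p => rfl }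
  -- inside the kernel
  have hin : ∀ k : K, k ≠ 1 → Nat.card (Subgroup.centralizer ({(k : G)} : Set G)) =
      Nat.card (Subgroup.centralizer ({k} : Set K)) := fun k hk => by
    refine Nat.card_congr
      { toFun := fun c => ⟨⟨c, hcl k k.2 (fun e => hk (Subtype.ext e)) c.2⟩, ?_⟩
        invFun := fun c => ⟨c.1, ?_⟩
        left_inv := fun c => rfl
        right_inv := fun c => rfl }
    · exact Subgroup.mem_centralizer_singleton_iff.mpr
        (Subtype.ext (Subgroup.mem_centralizer_singleton_iff.mp c.2))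
    · exact Subgroup.mem_centralizer_singleton_iff.mpr
        (congrArg Subtype.val (Subgroup.mem_centralizer_singleton_iff.mp c.2))
  -- unique decomposition
  have hdec : Function.Bijective fun p : K × H => (p.1 : G) * p.2 := by
    constructor
    · rintro ⟨k, h⟩ ⟨k', h'⟩ e
      have e' : (k : G) * h = k' * h' := e
      have h1 : (k' : G)⁻¹ * k = h' * (h : G)⁻¹ := by
        rw [inv_mul_eq_iff_eq_mul, ← mul_assoc, ← e', mul_inv_cancel_right]
      have h2 : (k' : G)⁻¹ * k ∈ K ⊓ H :=
        ⟨K.mul_mem (K.inv_mem k'.2) k.2, by rw [h1]; exact H.mul_mem h'.2 (H.inv_mem h.2)⟩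
      rw [hKH, Subgroup.mem_bot] at h2
      have hk : k' = k := Subtype.ext (inv_mul_eq_one.mp h2)
      rw [h2] at h1
      exact Prod.ext hk.symm (Subtype.ext (mul_inv_eq_one.mp h1.symm).symm)
    · intro g
      have hg : g ∈ K ⊔ H := hKH' ▸ Subgroup.mem_top g
      obtain ⟨k, hk, h, hh, e⟩ := Subgroup.mem_sup_of_normal_left.mp hg
      exact ⟨(⟨k, hk⟩, ⟨h, hh⟩), e⟩
  -- outside the kernel
  have hout : ∀ h : H, h ≠ 1 → ∀ k : K, Nat.card (Subgroup.centralizer ({(k : G) * h} : Set G)) =
      Nat.card (Subgroup.centralizer ({h} : Set H)) := by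
    intro h hh k
    have hne : (h : G) ≠ 1 := fun e => hh (Subtype.ext e)
    have hgK : (k : G) * h ∉ K := fun hm => hne (by
      have h2 : (h : G) ∈ K ⊓ H := ⟨(Subgroup.mul_mem_cancel_left K k.2).mp hm, h.2⟩
      rwa [hKH, Subgroup.mem_bot] at h2)
    obtain ⟨c, hc, h', hh', hne', heq⟩ := exists_conj_of_fpf_complement hKH' hfpf hgK
    have hh'eq : h' = h := by
      have hcm : c * (h' * c⁻¹ * h'⁻¹) ∈ K :=
        K.mul_mem hc (Subgroup.Normal.conj_mem inferInstance _ (K.inv_mem hc) h')
      have h3 := hdec.1 (a₁ := (⟨_, hcm⟩, ⟨h', hh'⟩)) (a₂ := (k, h)) (by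
        show c * (h' * c⁻¹ * h'⁻¹) * h' = (k : G) * h
        rw [heq]; group)
      exact congrArg (fun p : K × H => (p.2 : G)) h3
    subst hh'eq
    rw [heq]
    refine Nat.card_congr
      { toFun := fun g => ⟨⟨c⁻¹ * g * c, ?_⟩, ?_⟩
        invFun := fun g => ⟨c * g * c⁻¹, ?_⟩
        left_inv := fun g => Subtype.ext (by simp [mul_assoc])
        right_inv := fun g => Subtype.ext (Subtype.ext (by simp [mul_assoc])) }
    · have hg := Subgroup.mem_centralizer_singleton_iff.mp g.2
      obtain ⟨⟨k', h''⟩, hkh⟩ := hdec.2 (c⁻¹ * g * c)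
      simp only at hkh
      have hcomm : (h : G) * (c⁻¹ * g * c) = c⁻¹ * g * c * h := by
        calc (h : G) * (c⁻¹ * g * c) = c⁻¹ * ((c * h * c⁻¹) * g) * c := by group
          _ = c⁻¹ * (g * (c * h * c⁻¹)) * c := by rw [hg]
          _ = c⁻¹ * g * c * h := by group
      have e1 : (h : G) * k' * (h : G)⁻¹ * (h * h'') = k' * (h'' * h) := by
        calc (h : G) * k' * (h : G)⁻¹ * (h * h'') = h * (k' * h'') := by group
          _ = k' * (h'' * h) := by rw [hkh, hcomm, ← hkh]; group
      have e2 := hdec.1 (a₁ := (⟨_, Subgroup.Normal.conj_mem inferInstance _ k'.2 (h : G)⟩, h * h''))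
        (a₂ := (k', h'' * h)) e1
      have e3 : (h : G) * k' * (h : G)⁻¹ = k' := congrArg (fun p : K × H => (p.1 : G)) e2
      have e4 := hfpf h h.2 hne k' k'.2 (mul_inv_eq_iff_eq_mul.mp e3)
      rw [← hkh, e4, one_mul]
      exact h''.2
    · have hg := Subgroup.mem_centralizer_singleton_iff.mp g.2
      refine Subgroup.mem_centralizer_singleton_iff.mpr (Subtype.ext ?_)
      simp only [Subgroup.coe_mul]
      calc c⁻¹ * g * c * h = c⁻¹ * (g * (c * h * c⁻¹)) * c := by group
        _ = c⁻¹ * ((c * h * c⁻¹) * g) * c := by rw [hg]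
        _ = h * (c⁻¹ * g * c) := by group
    · have hg : ((g : H) : G) * h = h * g :=
        congrArg Subtype.val (Subgroup.mem_centralizer_singleton_iff.mp g.2)
      refine Subgroup.mem_centralizer_singleton_iff.mpr ?_
      calc c * g * c⁻¹ * (c * h * c⁻¹) = c * (g * h) * c⁻¹ := by group
        _ = c * (h * g) * c⁻¹ := by rw [hg]
        _ = c * h * c⁻¹ * (c * g * c⁻¹) := by group
  have hcard : Nat.card G = Nat.card K * Nat.card H := by
    rw [← Nat.card_prod]; exact (Nat.card_congr (Equiv.ofBijective _ hdec)).symm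
  have hsum : ∑ g : G, Nat.card (Subgroup.centralizer ({g} : Set G)) =
      ∑ k : K, ∑ h : H, Nat.card (Subgroup.centralizer ({(k : G) * h} : Set G)) := by
    rw [← Fintype.sum_prod_type']
    exact (Fintype.sum_bijective _ hdec _ _ fun p => rfl).symm
  have hG1 : ∀ {X : Type _} [Group X] [Finite X],
      Nat.card (Subgroup.centralizer ({(1 : X)} : Set X)) = Nat.card X := by
    intro X _ _
    exact Nat.card_congr
      ((Equiv.subtypeUnivEquiv fun g => Subgroup.mem_centralizer_singleton_iff.mpr (by simp)))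
  rw [Finset.sum_comm, ← Finset.add_sum_erase _ _ (Finset.mem_univ (1 : H)),
    Finset.sum_congr rfl (fun h hh => Finset.sum_congr rfl fun k _ =>
      hout h (Finset.mem_erase.mp hh).1 k)] at hsum
  simp only [OneMemClass.coe_one, mul_one, Finset.sum_const, Finset.card_univ, smul_eq_mul,
    ← Finset.mul_sum] at hsum
  rw [← Finset.add_sum_erase _ _ (Finset.mem_univ (1 : K)),
    Finset.sum_congr rfl (fun k hk => hin k (Finset.mem_erase.mp hk).1)] at hsum
  have hsK := hcent (X := K)
  have hsH := hcent (X := H)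
  have hsG := hcent (X := G)
  rw [← Finset.add_sum_erase _ _ (Finset.mem_univ (1 : K)), hG1] at hsK
  rw [← Finset.add_sum_erase _ _ (Finset.mem_univ (1 : H)), hG1] at hsH
  simp only [OneMemClass.coe_one, hG1] at hsum
  rw [hsum, hcard, ← Nat.card_eq_fintype_card] at hsG
  have hKpos : 0 < Nat.card K := Nat.card_pos
  apply Nat.eq_of_mul_eq_mul_right hKpos
  have hsH' := congrArg (fun t => t * Nat.card K) hsH
  simp only [add_mul] at hsH'
  rw [add_mul, add_mul]
  linarith

end Cfsg.Agent.S0172
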