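import Cfsg.Statements.S0178
import Cfsg.Agent.Lib.Char.Constituents
-- import your own Cfsg.Agent.* helpers here

set_option autoImplicit false
open Cfsg

namespace Cfsg.Agent.S0178

set_option linter.style.haveILetI false
open Cfsg Cfsg.Lib.Char
open scoped ComplexConjugate


/-- The degree of an irreducible complex representation of a finite group is at most the index of any abelian subgroup. -/
theorem result {G : Type*} [Group G] [Finite G] {V : Type*} [AddCommGroup V] [Module ℂ V] [FiniteDimensional ℂ V] (ρ : Representation ℂ G V) [ρ.IsIrreducible] (A : Subgroup G) (hA : ∀ a ∈ A, ∀ b ∈ A, a * b = b * a) : Module.finrank ℂ V ≤ A.index := by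
  classical
  haveI := Fintype.ofFinite G
  haveI := Fintype.ofFinite A
  have hirr := isIrrCharacter_character ρ
  have hres : IsCharacter A (fun a : A => ρ.character a) := hirr.isCharacter.comp A.subtype
  obtain ⟨φ, hφ⟩ := exists_constituent hres (by
    show ρ.character (1 : G) ≠ 0
    exact hirr.apply_one_ne_zero)
  have hφ1 : (φ : A → ℂ) 1 = 1 :=
    degree_eq_one_of_comm (fun x y => Subtype.ext (hA x x.2 y y.2)) φ.2
  have hne : classInner (indFun A (φ : A → ℂ)) ρ.character ≠ 0 := by
    rw [classInner_indFun A _ hirr.isClassFunction, ← classInner_conj_symm]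
    exact fun h => hφ ((map_eq_zero _).mp h)
  have h := degree_le_of_constituent hirr (isCharacter_indFun A φ.2.isCharacter) hne
  rw [indFun_apply_one, hφ1, mul_one, ρ.char_one, Complex.natCast_re, Complex.natCast_re,
    Nat.cast_le] at h
  exact h

end Cfsg.Agent.S0178
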