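import Cfsg.Statements.S0179
import Cfsg.Agent.Lib.Char.Ito
-- import your own Cfsg.Agent.* helpers here

set_option autoImplicit false
open Cfsg

namespace Cfsg.Agent.S0179

set_option linter.style.haveILetI false
open Cfsg Cfsg.Lib.Char


/-- The degree of an irreducible complex representation of a finite group divides the index of the centre. -/
theorem result {G : Type*} [Group G] [Finite G] {V : Type*} [AddCommGroup V] [Module ℂ V] [FiniteDimensional ℂ V] (ρ : Representation ℂ G V) [ρ.IsIrreducible] : Module.finrank ℂ V ∣ (Subgroup.center G).index := by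
  haveI := Fintype.ofFinite G
  refine finrank_dvd_index_of_scalar ρ (Subgroup.center G) fun z hz => ?_
  let T : Representation.IntertwiningMap ρ ρ := ⟨ρ z, fun g => by
    show ρ z ∘ₗ ρ g = ρ g ∘ₗ ρ z
    rw [← Module.End.mul_eq_comp, ← Module.End.mul_eq_comp, ← map_mul, ← map_mul,
      Subgroup.mem_center_iff.mp hz g]⟩
  obtain ⟨c, hc⟩ :=
    (Representation.IsIrreducible.algebraMap_intertwiningMap_bijective_of_isAlgClosed
      (ρ := ρ)).2 T
  exact ⟨c, (congrArg Representation.IntertwiningMap.toLinearMap hc).symm⟩

end Cfsg.Agent.S0179
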