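import Cfsg.Statements.S0180
import Cfsg.Agent.Lib.Char.Galois
-- import your own Cfsg.Agent.* helpers here

set_option autoImplicit false
open Cfsg

namespace Cfsg.Agent.S0180

set_option linter.style.haveILetI false
open Cfsg Cfsg.Lib.Char


/-- Every irreducible complex character of a finite group takes only rational values if and only if g is conjugate to g ^ m for every element g and every m coprime to the group order. -/
theorem result {G : Type*} [Group G] [Finite G] : (∀ χ : Cfsg.IrrCharacter G, ∀ g : G, ∃ q : ℚ, (χ : G → ℂ) g = (q : ℂ)) ↔ ∀ m : ℕ, m.Coprime (Nat.card G) → ∀ g : G, IsConj g (g ^ m) := by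
  constructor
  · intro h m hm g
    rw [isConj_iff_forall_irr]
    intro χ
    obtain ⟨q, hq⟩ := h χ g
    exact (pow_invariant_of_rat χ.2.isCharacter g hq hm).symm
  · intro h χ g
    refine exists_rat_of_pow_invariant χ.2.isCharacter g fun k hk => ?_
    exact ((isConj_iff_forall_irr _ _).mp (h k hk g) χ).symm

end Cfsg.Agent.S0180
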