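import Cfsg.Statements.S0181
import Cfsg.Agent.Lib.Char.Clifford
import Cfsg.Agent.Lib.Char.Quotient
-- import your own Cfsg.Agent.* helpers here

set_option autoImplicit false
open Cfsg

namespace Cfsg.Agent.S0181

set_option linter.style.haveILetI false
open Cfsg Cfsg.Lib.Char


/-- Let H be a normal subgroup of a finite group G and ρ an irreducible complex representation whose kernel does not contain H. If g commutes with no non-identity element of H, then the character of ρ vanishes at g. -/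
theorem result {G : Type*} [Group G] [Finite G] {V : Type*} [AddCommGroup V] [Module ℂ V] [FiniteDimensional ℂ V] (ρ : Representation ℂ G V) [ρ.IsIrreducible] (H : Subgroup G) [H.Normal] (hker : ∃ h ∈ H, ρ h ≠ LinearMap.id) (g : G) (hg : ∀ h ∈ H, h * g = g * h → h = 1) : ρ.character g = 0 := by
  classical
  haveI := Fintype.ofFinite G
  have hirr : Cfsg.IsIrrCharacter G ρ.character := isIrrCharacter_character ρ
  let χ₀ : Cfsg.IrrCharacter G := ⟨ρ.character, hirr⟩
  let S := {χ : Cfsg.IrrCharacter G // ∀ n ∈ H, (χ : G → ℂ) n = (χ : G → ℂ) 1}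
  have hχ₀ : ¬ ∀ n ∈ H, (χ₀ : G → ℂ) n = (χ₀ : G → ℂ) 1 := fun h => by
    obtain ⟨n, hn, hne⟩ := hker
    exact hne ((character_eq_finrank_iff ρ n).mp ((h n hn).trans (ρ.char_one)))
  haveI := Fintype.ofFinite (G ⧸ H)
  have hle : Nat.card (Subgroup.centralizer ({g} : Set G)) ≤
      Nat.card (Subgroup.centralizer ({(g : G ⧸ H)} : Set (G ⧸ H))) := by
    refine Nat.card_le_card_of_injective
      (fun c => ⟨((c : G) : G ⧸ H), ?_⟩) ?_
    · refine Subgroup.mem_centralizer_singleton_iff.mpr ?_
      rw [← QuotientGroup.mk_mul, ← QuotientGroup.mk_mul,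
        Subgroup.mem_centralizer_singleton_iff.mp c.2]
    · intro a b hab
      have h1 : (a : G)⁻¹ * b ∈ H := QuotientGroup.eq.mp (congrArg Subtype.val hab)
      have ha := Subgroup.mem_centralizer_singleton_iff.mp a.2
      have hb := Subgroup.mem_centralizer_singleton_iff.mp b.2
      have h2 := hg _ h1 (by
        have hc : (a⁻¹ * b : Subgroup.centralizer ({g} : Set G)).1 * g =
            g * (a⁻¹ * b : Subgroup.centralizer ({g} : Set G)).1 :=
          Subgroup.mem_centralizer_singleton_iff.mp (a⁻¹ * b).2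
        simpa using hc)
      exact Subtype.ext (inv_mul_eq_one.mp h2)
  have hG := column_orthogonality g g
  have hQ := column_orthogonality (G := G ⧸ H) (g : G ⧸ H) (g : G ⧸ H)
  rw [if_pos (IsConj.refl _)] at hG hQ
  simp only [Complex.mul_conj] at hG hQ
  have hG' := congrArg Complex.re hG
  have hQ' := congrArg Complex.re hQ
  simp only [Complex.re_sum, Complex.ofReal_re, Complex.natCast_re] at hG' hQ'
  rw [Fintype.sum_equiv (irrQuotientEquiv H)
    (fun ψ : Cfsg.IrrCharacter (G ⧸ H) => Complex.normSq ((ψ : G ⧸ H → ℂ) g))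
    (fun χ : S => Complex.normSq ((χ.1 : G → ℂ) g)) (fun χ => rfl)] at hQ'
  rw [← Fintype.sum_subtype_add_sum_subtype
    (fun χ : Cfsg.IrrCharacter G => ∀ n ∈ H, (χ : G → ℂ) n = (χ : G → ℂ) 1)] at hG'
  have h0 : ∑ χ : {χ : Cfsg.IrrCharacter G // ¬ ∀ n ∈ H, (χ : G → ℂ) n = (χ : G → ℂ) 1},
      Complex.normSq ((χ.1 : G → ℂ) g) = 0 := by
    refine le_antisymm ?_ (Finset.sum_nonneg fun _ _ => Complex.normSq_nonneg _)
    have : (Nat.card (Subgroup.centralizer ({g} : Set G)) : ℝ) ≤ _ := Nat.cast_le.mpr hle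
    linarith
  exact Complex.normSq_eq_zero.mp
    ((Finset.sum_eq_zero_iff_of_nonneg fun χ _ => Complex.normSq_nonneg _).mp h0 ⟨χ₀, hχ₀⟩
      (Finset.mem_univ _))

end Cfsg.Agent.S0181
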