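import Cfsg.Statements.S0184
import Cfsg.Agent.Lib.Char.Monomial
import Cfsg.Agent.Lib.PGroup.Basic
-- import your own Cfsg.Agent.* helpers here

set_option autoImplicit false
open Cfsg

namespace Cfsg.Agent.S0184

set_option linter.style.haveILetI false
open Cfsg Cfsg.Lib.Char


/-- A finite p-group admits a faithful irreducible complex representation if and only if its centre is cyclic. -/
theorem result {G : Type*} [Group G] [Finite G] (p : ℕ) [Fact p.Prime] (hG : IsPGroup p G) : (∃ (n : ℕ) (ρ : Representation ℂ G (Fin n → ℂ)), ρ.IsIrreducible ∧ Function.Injective ρ) ↔ IsCyclic (Subgroup.center G) := by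
  classical
  haveI := Fintype.ofFinite G
  constructor
  · rintro ⟨n, ρ, hρ, hinj⟩
    have hsc : ∀ z : Subgroup.center G, ∃ c : ℂ, ρ z = c • LinearMap.id := fun z => by
      let T : Representation.IntertwiningMap ρ ρ := ⟨ρ z, fun g => by
        show ρ z ∘ₗ ρ g = ρ g ∘ₗ ρ z
        rw [← Module.End.mul_eq_comp, ← Module.End.mul_eq_comp, ← map_mul, ← map_mul,
          Subgroup.mem_center_iff.mp z.2 g]⟩
      obtain ⟨c, hc⟩ :=
        (Representation.IsIrreducible.algebraMap_intertwiningMap_bijective_of_isAlgClosed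
          (ρ := ρ)).2 T
      exact ⟨c, (congrArg Representation.IntertwiningMap.toLinearMap hc).symm⟩
    choose c hc using hsc
    haveI : Nontrivial (Fin n → ℂ) := ((isIrreducible_iff_submodule ρ).mp hρ).1
    have huniq : ∀ a b : ℂ, a • (LinearMap.id : (Fin n → ℂ) →ₗ[ℂ] (Fin n → ℂ)) =
        b • LinearMap.id → a = b := by
      intro a b h
      obtain ⟨v, hv⟩ := exists_ne (0 : Fin n → ℂ)
      exact smul_left_injective ℂ hv (LinearMap.congr_fun h v)
    let φ : Subgroup.center G →* ℂ :=
      { toFun := c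
        map_one' := huniq _ _ (by rw [← hc, one_smul, OneMemClass.coe_one, map_one]; rfl)
        map_mul' := fun a b => huniq _ _ (by
          rw [← hc, Subgroup.coe_mul, map_mul, hc, hc]
          refine LinearMap.ext fun v => ?_
          simp [Module.End.mul_apply, smul_smul, mul_comm]) }
    exact isCyclic_of_subgroup_isDomain φ fun a b hab => Subtype.ext (hinj (by
      rw [hc a, hc b]; exact congrArg (fun t : ℂ => t • LinearMap.id) hab))
  · intro hcyc
    by_cases hG' : Subsingleton G
    · obtain ⟨n, ρ, hρ, -⟩ := (isIrrCharacter_one : Cfsg.IsIrrCharacter G fun _ => 1)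
      exact ⟨n, ρ, hρ, fun a b _ => Subsingleton.elim a b⟩
    haveI : Nontrivial G := not_subsingleton_iff_nontrivial.mp hG'
    have hZ : Nontrivial (Subgroup.center G) := hG.center_nontrivial
    have hpZ : p ∣ Nat.card (Subgroup.center G) := by
      obtain ⟨k, hk⟩ := (IsPGroup.iff_card.mp (hG.to_subgroup (Subgroup.center G)))
      have := Finite.one_lt_card_iff_nontrivial.mpr hZ
      rw [hk] at this ⊢
      exact dvd_pow_self p fun h => by simp [h] at this
    obtain ⟨z, hz⟩ := exists_prime_orderOf_dvd_card' p hpZ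
    have hz1 : (z : G) ≠ 1 := fun e => by
      have : z = 1 := Subtype.ext e
      rw [this, orderOf_one] at hz
      exact (Fact.out : p.Prime).one_lt.ne hz
    have hex : ∃ χ : Cfsg.IrrCharacter G, (χ : G → ℂ) z ≠ (χ : G → ℂ) 1 := by
      by_contra hcon
      push Not at hcon
      have h := sum_degree_mul (z : G)
      rw [if_neg hz1, Finset.sum_congr rfl fun φ _ => by rw [hcon φ, ← pow_two],
        sum_sq_degree] at h
      exact card_cast_ne_zero h
    obtain ⟨⟨χ, n, ρ, hρ, rfl⟩, hne⟩ := hex
    refine ⟨n, ρ, hρ, ?_⟩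
    rw [← MonoidHom.ker_eq_bot_iff]
    by_contra hker
    haveI := hρ
    haveI : Nontrivial (MonoidHom.ker ρ) := (Subgroup.nontrivial_iff_ne_bot _).mpr hker
    obtain ⟨w, hwk, hwc, hwo⟩ := Cfsg.Lib.PGroup.exists_mem_center_orderOf_eq hG hker
    let W : Subgroup.center G := ⟨w, hwc⟩
    have hWp : W ^ p = 1 := Subtype.ext (by
      show w ^ p = 1
      rw [← hwo, pow_orderOf_eq_one])
    haveI := Fintype.ofFinite (Subgroup.center G)
    have hset : (Finset.range p).image (fun i => z ^ i) =
        Finset.univ.filter (fun x : Subgroup.center G => x ^ p = 1) := by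
      refine Finset.eq_of_subset_of_card_le (fun x hx => ?_) ?_
      · obtain ⟨i, -, rfl⟩ := Finset.mem_image.mp hx
        rw [Finset.mem_filter]
        exact ⟨Finset.mem_univ _, by rw [← pow_mul, mul_comm, pow_mul, ← hz, pow_orderOf_eq_one, one_pow]⟩
      · refine (IsCyclic.card_pow_eq_one_le (Fact.out : p.Prime).pos).trans (le_of_eq ?_)
        rw [Finset.card_image_of_injOn, Finset.card_range]
        intro i hi j hj hij
        simp only [Finset.coe_range, Set.mem_Iio] at hi hj
        exact pow_injOn_Iio_orderOf (by rw [Set.mem_Iio, hz]; exact hi)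
          (by rw [Set.mem_Iio, hz]; exact hj) hij
    have hWm : W ∈ (Finset.range p).image (fun i => z ^ i) := by
      rw [hset, Finset.mem_filter]
      exact ⟨Finset.mem_univ _, hWp⟩
    obtain ⟨i, hi, hiW⟩ := Finset.mem_image.mp hWm
    have hi0 : i ≠ 0 := fun e => (Fact.out : p.Prime).one_lt.ne (by
      rw [← hwo, show w = ((W : Subgroup.center G) : G) from rfl, ← hiW, e, pow_zero,
        OneMemClass.coe_one, orderOf_one])
    have hcop : Nat.Coprime i (orderOf z) := by
      rw [hz]
      exact ((Fact.out : p.Prime).coprime_iff_not_dvd.mpr fun h =>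
        absurd (Nat.le_of_dvd (Nat.pos_of_ne_zero hi0) h) (not_le.mpr (Finset.mem_range.mp hi))).symm
    obtain ⟨j, hj⟩ := exists_pow_eq_self_of_coprime hcop
    apply hne
    have hzk : ρ (z : G) = 1 := by
      rw [← hj, hiW]
      show ρ (w ^ j) = 1
      rw [map_pow, MonoidHom.mem_ker.mp hwk, one_pow]
    show LinearMap.trace ℂ _ (ρ (z : G)) = LinearMap.trace ℂ _ (ρ 1)
    rw [hzk, show ρ 1 = 1 from map_one ρ]

end Cfsg.Agent.S0184
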