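import Cfsg.Statements.S0185
import Cfsg.Agent.Lib.Char.Constituents
import Cfsg.Agent.Lib.Char.Central
-- import your own Cfsg.Agent.* helpers here

set_option autoImplicit false
open Cfsg

namespace Cfsg.Agent.S0185

set_option linter.style.haveILetI false
open Cfsg Cfsg.Lib.Char


/-- If a finite group has a faithful complex representation of degree less than the smallest prime dividing its order, the group is abelian. -/
theorem result {G : Type*} [Group G] [Finite G] {V : Type*} [AddCommGroup V] [Module ℂ V] [FiniteDimensional ℂ V] (ρ : Representation ℂ G V) (hfaithful : Function.Injective ρ) (hdeg : ∀ p : ℕ, p.Prime → p ∣ Nat.card G → Module.finrank ℂ V < p) (a b : G) : a * b = b * a := by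
  haveI := Fintype.ofFinite G
  have hlin : ∀ φ : IrrCharacter G, (φ : G → ℂ) 1 = 1 ∨
      ∀ [Fintype G], classInner ρ.character (φ : G → ℂ) = 0 := by
    intro φ
    by_cases h0 : classInner ρ.character (φ : G → ℂ) = 0
    · right
      intro inst
      rw [show inst = Fintype.ofFinite G from Subsingleton.elim _ _]
      convert h0
    · left
      have hle := degree_le_of_constituent φ.2 (isCharacter_character ρ) h0
      obtain ⟨n, hn0, hn⟩ := φ.2.exists_degree
      rw [hn, ρ.char_one, Complex.natCast_re, Complex.natCast_re, Nat.cast_le] at hle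
      have hdvd := degree_dvd_card φ.2 hn
      have hn1 : n = 1 := by
        by_contra hne
        have hp := Nat.minFac_prime hne
        have h1 := hdeg _ hp ((Nat.minFac_dvd n).trans hdvd)
        have h2 := Nat.le_of_dvd hn0 (Nat.minFac_dvd n)
        omega
      rw [hn, hn1, Nat.cast_one]
  have h := (isCharacter_character ρ).commutator_mem_ker hlin a b
  rw [ρ.char_one, character_eq_finrank_iff] at h
  have h' : a * b * a⁻¹ * b⁻¹ = 1 := hfaithful (by rw [h, map_one]; rfl)
  rwa [mul_inv_eq_one, mul_inv_eq_iff_eq_mul] at h' 

end Cfsg.Agent.S0185
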