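import Cfsg.Statements.S0186
import Cfsg.Agent.Lib.Char.Clifford2
import Cfsg.Agent.Lib.Char.Linear
import Cfsg.Agent.Lib.Char.Central
import Cfsg.Agent.Lib.PGroup.Basic
import Mathlib.GroupTheory.SpecificGroups.Cyclic
-- import your own Cfsg.Agent.* helpers here

set_option autoImplicit false
open Cfsg

namespace Cfsg.Agent.S0186

set_option linter.style.haveILetI false
open Cfsg Cfsg.Lib.Char


/-- Let G be a finite simple group of order n and p a prime dividing n. If G has more than n / p^2 conjugacy classes, then every Sylow p-subgroup of G is abelian. -/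
theorem result {G : Type*} [Group G] [Finite G] [IsSimpleGroup G] (p : ℕ) [Fact p.Prime] (hp : p ∣ Nat.card G) (hmany : Nat.card G < p ^ 2 * Nat.card (ConjClasses G)) (P : Sylow p G) (a b : G) (ha : a ∈ P) (hb : b ∈ P) : a * b = b * a := by
  classical
  by_contra hab
  haveI := Fintype.ofFinite G
  haveI := Fintype.ofFinite (P : Subgroup G)
  have hpp : p.Prime := Fact.out
  -- non-principal irreducible characters are faithful
  have hfaith : ∀ χ : Cfsg.IrrCharacter G, (χ : G → ℂ) ≠ (fun _ => 1) →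
      ∀ g : G, (χ : G → ℂ) g = (χ : G → ℂ) 1 → g = 1 := by
    intro χ hχ g hg
    haveI := charKer_normal χ.2.isCharacter
    rcases (charKer_normal χ.2.isCharacter).eq_bot_or_eq_top with h | h
    · have : g ∈ charKer χ.2.isCharacter := hg
      rwa [h, Subgroup.mem_bot] at this
    · exfalso
      have hall : ∀ x : G, (χ : G → ℂ) x = (χ : G → ℂ) 1 := fun x => by
        have hx : x ∈ charKer χ.2.isCharacter := by rw [h]; exact Subgroup.mem_top x
        exact hx
      have h1 := classInner_irr_ne χ.2 isIrrCharacter_one hχ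
      rw [classInner_one_right, Finset.sum_congr rfl (fun x _ => hall x), Finset.sum_const,
        Finset.card_univ, nsmul_eq_mul, ← mul_assoc, ← Nat.card_eq_fintype_card,
        inv_mul_cancel₀ card_cast_ne_zero, one_mul] at h1
      exact χ.2.apply_one_ne_zero h1
  obtain ⟨k, hk⟩ := IsPGroup.iff_card.mp P.isPGroup'
  have hPdeg : ∀ (ψ : ↥(P : Subgroup G) → ℂ), Cfsg.IsIrrCharacter (P : Subgroup G) ψ → ∀ e : ℕ,
      ψ 1 = e → e ≠ 1 → p ≤ e := by
    intro ψ hψ e he he1
    have h := degree_dvd_card hψ he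
    rw [hk] at h
    obtain ⟨j, -, hj⟩ := (Nat.dvd_prime_pow hpp).mp h
    rcases Nat.eq_zero_or_pos j with h0 | h0
    · exact absurd (by rw [hj, h0, pow_zero]) he1
    · rw [hj]; exact Nat.le_self_pow h0.ne' p
  let A : (P : Subgroup G) := ⟨a, ha⟩
  let B : (P : Subgroup G) := ⟨b, hb⟩
  choose d hd using fun χ : Cfsg.IrrCharacter G => χ.2.isCharacter.exists_degree
  have hdp : ∀ χ : Cfsg.IrrCharacter G, (χ : G → ℂ) ≠ (fun _ => 1) → p ≤ d χ := by
    intro χ hχ
    by_contra hlt
    have hres : Cfsg.IsCharacter (P : Subgroup G) (fun x : (P : Subgroup G) => (χ : G → ℂ) x) :=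
      χ.2.isCharacter.comp (P : Subgroup G).subtype
    have hlin := IsCharacter.commutator_mem_ker hres (fun φ => by
      by_contra hcon
      rw [not_or, not_forall] at hcon
      obtain ⟨hne1, hinst, hne0⟩ := hcon
      obtain ⟨e, he⟩ := φ.2.isCharacter.exists_degree
      have hle := degree_le_of_constituent φ.2 hres hne0
      rw [he] at hle
      change _ ≤ ((χ : G → ℂ) ((1 : (P : Subgroup G)) : G)).re at hle
      rw [OneMemClass.coe_one, hd χ, Complex.natCast_re, Complex.natCast_re, Nat.cast_le] at hle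
      exact absurd (hPdeg φ φ.2 e he fun e1 => hne1 (by rw [he, e1, Nat.cast_one])) (by omega)) A B
    apply hab
    have h1 := hfaith χ hχ (a * b * a⁻¹ * b⁻¹) hlin
    rwa [mul_inv_eq_one, mul_inv_eq_iff_eq_mul] at h1
  -- a central element of order p in the derived subgroup of P
  have hne : commutator (P : Subgroup G) ≠ ⊥ := by
    intro h
    apply hab
    have h1 : A * B * A⁻¹ * B⁻¹ ∈ commutator (P : Subgroup G) := by
      rw [← commutatorElement_def]
      exact Subgroup.commutator_mem_commutator (Subgroup.mem_top _) (Subgroup.mem_top _)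
    rw [h, Subgroup.mem_bot, mul_inv_eq_one, mul_inv_eq_iff_eq_mul] at h1
    exact congrArg Subtype.val h1
  obtain ⟨z, hzc, hzZ, hzo⟩ := Cfsg.Lib.PGroup.exists_mem_center_orderOf_eq P.isPGroup' hne
  let S : (↥(P : Subgroup G) → ℂ) → ℂ := fun f => ∑ j ∈ Finset.range p, f (z ^ j)
  have hbound : ∀ χ : Cfsg.IrrCharacter G, (χ : G → ℂ) ≠ (fun _ => 1) →
      (S (fun x => (χ : G → ℂ) x)).re ≤ (p : ℝ) * ((d χ : ℝ) - p) := by
    intro χ hχ
    have hres : Cfsg.IsCharacter (P : Subgroup G) (fun x : (P : Subgroup G) => (χ : G → ℂ) x) :=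
      χ.2.isCharacter.comp (P : Subgroup G).subtype
    obtain ⟨φ, hφ, hφz⟩ : ∃ φ : Cfsg.IrrCharacter (P : Subgroup G),
        Cfsg.classInner (fun x : (P : Subgroup G) => (χ : G → ℂ) x) φ ≠ 0 ∧
        (φ : ↥(P : Subgroup G) → ℂ) z ≠ (φ : ↥(P : Subgroup G) → ℂ) 1 := by
      by_contra hcon
      push Not at hcon
      have hz1 : (z : G) ≠ 1 := fun e => by
        have : z = 1 := Subtype.ext e
        rw [this, orderOf_one] at hzo
        exact hpp.one_lt.ne hzo
      apply hz1
      apply hfaith χ hχ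
      have h := eq_sum_classInner hres.isClassFunction
      have h1 := congrFun h z
      have h2 := congrFun h 1
      simp only [OneMemClass.coe_one, Finset.sum_apply, Pi.smul_apply] at h1 h2
      rw [h1, h2]
      refine Finset.sum_congr rfl fun ψ _ => ?_
      by_cases h0 : Cfsg.classInner (fun x : (P : Subgroup G) => (χ : G → ℂ) x) ψ = 0
      · simp [h0]
      · rw [hcon ψ h0]
    obtain ⟨e, he⟩ := φ.2.isCharacter.exists_degree
    have he1 : e ≠ 1 := by
      intro e1
      obtain ⟨f, hf⟩ := exists_hom_of_degree_one φ.2.isCharacter (by rw [he, e1, Nat.cast_one])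
      apply hφz
      rw [hf]
      have : f z = 1 := MonoidHom.mem_ker.mp (Abelianization.commutator_subset_ker f hzc)
      simp [this]
    have hpe := hPdeg φ φ.2 e he he1
    have hS0 : S (φ : ↥(P : Subgroup G) → ℂ) = 0 := by
      obtain ⟨⟨φ', m, ρ, hρ, rfl⟩, hφeq⟩ : ∃ φ' : Cfsg.IrrCharacter (P : Subgroup G), φ' = φ :=
        ⟨φ, rfl⟩
      rw [← hφeq] at hφz ⊢
      haveI := hρ
      have hcomm : ∀ g, (∑ j ∈ Finset.range p, ρ (z ^ j)) ∘ₗ ρ g =
          ρ g ∘ₗ ∑ j ∈ Finset.range p, ρ (z ^ j) := fun g => by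
        rw [← Module.End.mul_eq_comp, ← Module.End.mul_eq_comp, Finset.sum_mul, Finset.mul_sum]
        refine Finset.sum_congr rfl fun j _ => ?_
        rw [← map_mul, ← map_mul, Subgroup.mem_center_iff.mp (Subgroup.pow_mem _ hzZ j) g]
      obtain ⟨c, hc⟩ :=
        (Representation.IsIrreducible.algebraMap_intertwiningMap_bijective_of_isAlgClosed
          (ρ := ρ)).2 ⟨∑ j ∈ Finset.range p, ρ (z ^ j), hcomm⟩
      have hT : ∑ j ∈ Finset.range p, ρ (z ^ j) = c • LinearMap.id :=
        (congrArg Representation.IntertwiningMap.toLinearMap hc).symm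
      have htr := congrArg (LinearMap.trace ℂ (Fin m → ℂ)) hT
      rw [map_sum] at htr
      show ∑ j ∈ Finset.range p, LinearMap.trace ℂ _ (ρ (z ^ j)) = 0
      rw [htr]
      by_cases hc0 : c = 0
      · simp [hc0]
      exfalso
      apply hφz
      have hzp : z ^ p = 1 := by have := pow_orderOf_eq_one z; rwa [hzo] at this
      have hshift : (∑ j ∈ Finset.range p, ρ (z ^ j)) * ρ z = ∑ j ∈ Finset.range p, ρ (z ^ j) := by
        rw [Finset.sum_mul]
        simp only [← map_mul, ← pow_succ]
        have h1 := Finset.sum_range_succ' (fun j => ρ (z ^ j)) p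
        have h2 := Finset.sum_range_succ (fun j => ρ (z ^ j)) p
        rw [h1, hzp, ← pow_zero z] at h2
        exact add_right_cancel h2
      rw [hT] at hshift
      have h3 : ρ z = LinearMap.id := LinearMap.ext fun v => by
        have h4 : c • ρ z v = c • v := LinearMap.congr_fun hshift v
        exact smul_right_injective _ hc0 h4
      show LinearMap.trace ℂ _ (ρ z) = LinearMap.trace ℂ _ (ρ 1)
      rw [h3, show ρ 1 = 1 from map_one ρ]
      rfl
    have hrest := isCharacter_sub_constituent hres φ.2 hφ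
    have hsplit : S (fun x => (χ : G → ℂ) x) =
        S ((fun x : (P : Subgroup G) => (χ : G → ℂ) x) - (φ : ↥(P : Subgroup G) → ℂ)) := by
      simp only [S, Pi.sub_apply, Finset.sum_sub_distrib]
      rw [show ∑ j ∈ Finset.range p, (φ : ↥(P : Subgroup G) → ℂ) (z ^ j) = 0 from hS0, sub_zero]
    rw [hsplit, Complex.re_sum]
    refine (Finset.sum_le_card_nsmul _ _ ((d χ : ℝ) - p) fun j _ => ?_).trans ?_
    · refine ((Complex.re_le_norm _).trans (hrest.norm_le _)).trans ?_
      simp only [Pi.sub_apply, OneMemClass.coe_one, hd χ, he, Complex.sub_re, Complex.natCast_re]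
      have : (p : ℝ) ≤ e := Nat.cast_le.mpr hpe
      linarith
    · rw [Finset.card_range, nsmul_eq_mul]
  -- the regular character summed over the powers of z
  have hreg : ∑ χ : Cfsg.IrrCharacter G, (d χ : ℝ) * (S (fun x => (χ : G → ℂ) x)).re =
      (Nat.card G : ℝ) := by
    have h : ∑ χ : Cfsg.IrrCharacter G, (χ : G → ℂ) 1 * S (fun x => (χ : G → ℂ) x) =
        (Nat.card G : ℂ) := by
      simp only [S, Finset.mul_sum]
      rw [Finset.sum_comm, Finset.sum_eq_single 0]
      · simp only [pow_zero, OneMemClass.coe_one, ← pow_two, sum_sq_degree]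
      · intro j hj hj0
        rw [sum_degree_mul, if_neg]
        intro e
        have hd1 : orderOf z ∣ j := orderOf_dvd_of_pow_eq_one (Subtype.ext e)
        rw [hzo] at hd1
        exact absurd (Nat.le_of_dvd (Nat.pos_of_ne_zero hj0) hd1)
          (not_le.mpr (Finset.mem_range.mp hj))
      · intro h; exact absurd (Finset.mem_range.mpr hpp.pos) h
    have h1 := congrArg Complex.re h
    simp only [Complex.re_sum, hd, Complex.natCast_re] at h1
    rw [← h1]
    refine Finset.sum_congr rfl fun χ _ => ?_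
    simp [Complex.mul_re]
  have hsq : ∑ χ : Cfsg.IrrCharacter G, (d χ : ℝ) ^ 2 = (Nat.card G : ℝ) := by
    have h := congrArg Complex.re (sum_sq_degree (G := G))
    simp only [hd, Complex.re_sum, Complex.natCast_re, ← Nat.cast_pow] at h
    rw [← h]
    simp
  let χ₁ : Cfsg.IrrCharacter G := ⟨fun _ => 1, isIrrCharacter_one⟩
  have hd1 : (d χ₁ : ℝ) = 1 := by
    have := hd χ₁
    simp only [χ₁] at this
    exact_mod_cast this.symm
  rw [← Finset.add_sum_erase _ _ (Finset.mem_univ χ₁)] at hreg hsq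
  have hne1 : ∀ χ ∈ Finset.univ.erase χ₁, (χ : G → ℂ) ≠ fun _ => 1 := fun χ hχ e =>
    (Finset.mem_erase.mp hχ).1 (Subtype.ext e)
  have hS1 : (S (fun x => (χ₁ : G → ℂ) x)).re = p := by simp [S, χ₁]
  rw [hd1, hS1, one_mul] at hreg
  rw [hd1, one_pow] at hsq
  have hle : ∑ χ ∈ Finset.univ.erase χ₁, (d χ : ℝ) * (S (fun x => (χ : G → ℂ) x)).re ≤
      ∑ χ ∈ Finset.univ.erase χ₁, (p : ℝ) * ((d χ : ℝ) ^ 2 - (p : ℝ) ^ 2) := by
    refine Finset.sum_le_sum fun χ hχ => ?_
    have hdp' : (p : ℝ) ≤ d χ := Nat.cast_le.mpr (hdp χ (hne1 χ hχ))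
    have hp0 : (0 : ℝ) ≤ p := Nat.cast_nonneg _
    refine (mul_le_mul_of_nonneg_left (hbound χ (hne1 χ hχ)) (Nat.cast_nonneg _)).trans ?_
    nlinarith [mul_nonneg (mul_nonneg hp0 hp0) (sub_nonneg.mpr hdp')]
  rw [← Finset.mul_sum, Finset.sum_sub_distrib, Finset.sum_const, nsmul_eq_mul,
    Finset.card_erase_of_mem (Finset.mem_univ _), Finset.card_univ, ← Nat.card_eq_fintype_card,
    card_irr_eq_card_conjClasses, Nat.cast_sub (Nat.card_pos), Nat.cast_one] at hle
  have hmany' : (Nat.card G : ℝ) < (p : ℝ) ^ 2 * (Nat.card (ConjClasses G) : ℝ) := by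
    exact_mod_cast hmany
  have hP3 : p ^ 3 ≤ Nat.card G := by
    refine le_trans ?_ (Subgroup.card_le_card_group (P : Subgroup G))
    rw [hk]
    refine Nat.pow_le_pow_right hpp.pos ?_
    by_contra hk3
    apply hab
    have hc : ∀ x y : (P : Subgroup G), x * y = y * x := by
      rcases (show k = 0 ∨ k = 1 ∨ k = 2 by omega) with h | h | h
      · haveI := (Nat.card_eq_one_iff_unique.mp (by rw [hk, h, pow_zero])).1
        exact fun x y => Subsingleton.elim _ _
      · haveI := isCyclic_of_prime_card (p := p) (α := (P : Subgroup G)) (by rw [hk, h, pow_one])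
        exact fun x y => mul_comm' x y
      · intro x y
        exact IsPGroup.commutative_of_card_eq_prime_sq (by rw [hk, h]) x y
    exact congrArg Subtype.val (hc A B)
  have hP3' : (p : ℝ) ^ 3 ≤ (Nat.card G : ℝ) := by exact_mod_cast hP3
  have hp1 : (1 : ℝ) ≤ p := by exact_mod_cast hpp.one_lt.le
  nlinarith

end Cfsg.Agent.S0186
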