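import Cfsg.Statements.S0188
import Cfsg.Agent.Lib.Char.Orthogonality
-- import your own Cfsg.Agent.* helpers here

set_option autoImplicit false
open Cfsg

namespace Cfsg.Agent.S0188

set_option linter.style.haveILetI false
open Cfsg Cfsg.Lib.Char


/-- The irreducible complex characters of G × H are precisely the functions (g, h) ↦ φ g * ψ h with φ, ψ irreducible characters of G and H. -/
theorem result {G : Type*} [Group G] [Finite G] {H : Type*} [Group H] [Finite H] (θ : G × H → ℂ) : Cfsg.IsIrrCharacter (G × H) θ ↔ ∃ (φ : G → ℂ) (ψ : H → ℂ), Cfsg.IsIrrCharacter G φ ∧ Cfsg.IsIrrCharacter H ψ ∧ θ = fun x => φ x.1 * ψ x.2 := by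
  classical
  haveI := Fintype.ofFinite G
  haveI := Fintype.ofFinite H
  let mkp : IrrCharacter G × IrrCharacter H → IrrCharacter (G × H) := fun p =>
    ⟨fun x => (p.1 : G → ℂ) x.1 * (p.2 : H → ℂ) x.2, by
      refine isIrrCharacter_of_norm_one ((p.1.2.isCharacter.comp (MonoidHom.fst G H)).mul
        (p.2.2.isCharacter.comp (MonoidHom.snd G H))) ?_
      have h1 := classInner_irr_self p.1.2
      have h2 := classInner_irr_self p.2.2
      simp only [classInner] at h1 h2 ⊢
      have h3 := congrArg₂ (· * ·) h1 h2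
      simp only [mul_one] at h3
      refine Eq.trans ?_ h3
      simp only [Pi.mul_apply, MonoidHom.coe_fst, MonoidHom.coe_snd, Fintype.sum_prod_type,
        Nat.card_prod, Nat.cast_mul, map_mul, mul_inv]
      rw [mul_mul_mul_comm, Finset.sum_mul_sum]
      congr 1
      exact Finset.sum_congr rfl fun a _ => Finset.sum_congr rfl fun b _ => by ring⟩
  have hbij : Function.Bijective mkp := by
    refine (Fintype.bijective_iff_injective_and_card mkp).mpr ⟨?_, ?_⟩
    · rintro ⟨a, b⟩ ⟨a', b'⟩ h
      have h' := congrArg Subtype.val h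
      simp only [mkp] at h'
      have hb1 : (b : H → ℂ) 1 ≠ 0 := b.2.apply_one_ne_zero
      have ha1 : (a : G → ℂ) 1 ≠ 0 := a.2.apply_one_ne_zero
      have hinner : classInner (a : G → ℂ) (a' : G → ℂ) ≠ 0 := by
        intro h0
        have hx : ∀ g, (a : G → ℂ) g * (b : H → ℂ) 1 = (a' : G → ℂ) g * (b' : H → ℂ) 1 :=
          fun g => congrFun h' (g, 1)
        have : classInner ((b : H → ℂ) 1 • (a : G → ℂ)) (a' : G → ℂ) =
            classInner ((b' : H → ℂ) 1 • (a' : G → ℂ)) (a' : G → ℂ) :=
          congrArg (classInner · (a' : G → ℂ)) (funext fun g => by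
            simp only [Pi.smul_apply, smul_eq_mul]; linear_combination hx g)
        rw [classInner_smul_left, classInner_smul_left, classInner_irr_self a'.2, h0, mul_zero,
          mul_one] at this
        exact b'.2.apply_one_ne_zero this.symm
      have haa : a = a' := by
        by_contra hne
        exact hinner (classInner_irr_ne a.2 a'.2 fun h => hne (Subtype.ext h))
      subst haa
      refine Prod.ext rfl (Subtype.ext (funext fun y => ?_))
      exact mul_left_cancel₀ ha1 (congrFun h' (1, y))
    · haveI : Finite (ConjClasses G) := Quotient.finite _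
      haveI : Finite (ConjClasses H) := Quotient.finite _
      haveI : Finite (ConjClasses (G × H)) := Quotient.finite _
      rw [← Nat.card_eq_fintype_card, ← Nat.card_eq_fintype_card, Nat.card_prod,
        card_irr_eq_card_conjClasses, card_irr_eq_card_conjClasses, card_irr_eq_card_conjClasses,
        ← Nat.card_prod]
      refine (Nat.card_eq_of_bijective (fun C : ConjClasses (G × H) =>
        (ConjClasses.map (MonoidHom.fst G H) C, ConjClasses.map (MonoidHom.snd G H) C)) ⟨?_, ?_⟩).symm
      · intro C D h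
        obtain ⟨x, rfl⟩ := C.exists_rep
        obtain ⟨y, rfl⟩ := D.exists_rep
        simp only [Prod.mk.injEq] at h
        obtain ⟨c, hc⟩ := isConj_iff.mp (ConjClasses.mk_eq_mk_iff_isConj.mp h.1)
        obtain ⟨d, hd⟩ := isConj_iff.mp (ConjClasses.mk_eq_mk_iff_isConj.mp h.2)
        exact ConjClasses.mk_eq_mk_iff_isConj.mpr (isConj_iff.mpr ⟨(c, d), Prod.ext hc hd⟩)
      · rintro ⟨C, D⟩
        obtain ⟨x, rfl⟩ := C.exists_rep
        obtain ⟨y, rfl⟩ := D.exists_rep
        exact ⟨ConjClasses.mk (x, y), rfl⟩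
  constructor
  · intro hθ
    obtain ⟨⟨a, b⟩, hab⟩ := hbij.2 ⟨θ, hθ⟩
    exact ⟨a, b, a.2, b.2, (congrArg Subtype.val hab).symm⟩
  · rintro ⟨φ, ψ, hφ, hψ, rfl⟩
    exact (mkp (⟨φ, hφ⟩, ⟨ψ, hψ⟩)).2

end Cfsg.Agent.S0188
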