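import Cfsg.Statements.S0189
import Cfsg.Agent.Lib.Char.Orthogonality
-- import your own Cfsg.Agent.* helpers here

set_option autoImplicit false
open Cfsg

namespace Cfsg.Agent.S0189

set_option linter.style.haveILetI false
open Cfsg Cfsg.Lib.Char


/-- If a complex character of a finite group vanishes at every non-identity element of a Sylow p-subgroup P, then |P| divides its degree. -/
theorem result {G : Type*} [Group G] [Finite G] (p : ℕ) [Fact p.Prime] (P : Sylow p G) (χ : G → ℂ) (hχ : Cfsg.IsCharacter G χ) (hvan : ∀ g : G, g ∈ P → g ≠ 1 → χ g = 0) : ∃ k : ℕ, χ 1 = (Nat.card P : ℂ) * k := by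
  classical
  haveI := Fintype.ofFinite G
  haveI := Fintype.ofFinite P
  have hres := hχ.comp (P : Subgroup G).subtype
  obtain ⟨k, hk⟩ := hres.exists_nat_classInner (isCharacter_one (G := P))
  refine ⟨k, ?_⟩
  rw [classInner_one_right, Finset.sum_eq_single 1] at hk
  · rw [← hk, ← mul_assoc, mul_inv_cancel₀ card_cast_ne_zero, one_mul]
    simp
  · intro g _ hg
    exact hvan g g.2 (fun h => hg (Subtype.ext h))
  · simp

end Cfsg.Agent.S0189
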