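import Cfsg.Statements.S0191
import Cfsg.Agent.Lib.Char.Galois
-- import your own Cfsg.Agent.* helpers here

set_option autoImplicit false
open Cfsg

namespace Cfsg.Agent.S0191

set_option linter.style.haveILetI false
open Cfsg Cfsg.Lib.Char


/-- An irreducible complex representation of a finite group of degree greater than 1 has a character that vanishes somewhere. -/
theorem result {G : Type*} [Group G] [Finite G] {V : Type*} [AddCommGroup V] [Module ℂ V] [FiniteDimensional ℂ V] (ρ : Representation ℂ G V) [ρ.IsIrreducible] (hdeg : 1 < Module.finrank ℂ V) : ∃ g : G, ρ.character g = 0 := by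
  by_contra hcon
  push Not at hcon
  haveI := Fintype.ofFinite G
  haveI : NeZero (Nat.card G) := ⟨Nat.card_pos.ne'⟩
  have hirr := isIrrCharacter_character ρ
  have hfix : ∀ σ : cycField (Nat.card G) →ₐ[ℚ] ℂ,
      σ (∏ g, charVal dvd_rfl hirr.isCharacter g) =
        ((∏ g, charVal dvd_rfl hirr.isCharacter g : cycField (Nat.card G)) : ℂ) := by
    intro σ
    obtain ⟨k, hk, hσ⟩ := exists_actsAsPow σ
    rw [map_prod]
    simp only [galois_charVal dvd_rfl hσ]
    push_cast [charVal]
    exact (powBij_of_coprime hk).prod_comp ρ.character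
  obtain ⟨q, hq⟩ := exists_rat_of_fixed _ hfix
  push_cast [charVal] at hq
  obtain ⟨m, hm⟩ := exists_int_of_isIntegral_rat (q := q)
    (hq ▸ IsIntegral.prod (R := ℤ) (s := Finset.univ) (fun g => ρ.character g) (fun g _ => isIntegral_character ρ g))
  have hm0 : m ≠ 0 := by
    intro h
    rw [hm, h, Int.cast_zero, Rat.cast_zero, Finset.prod_eq_zero_iff] at hq
    obtain ⟨g, -, hg⟩ := hq
    exact hcon g hg
  have hsum : ∑ g, ‖ρ.character g‖ ^ 2 = (Nat.card G : ℝ) := by
    have h1 := classInner_irr_self hirr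
    rw [classInner_self, Complex.ofReal_eq_one] at h1
    have hn : (Nat.card G : ℝ) ≠ 0 := Nat.cast_ne_zero.mpr Nat.card_pos.ne'
    field_simp at h1
    exact h1
  have hd : (1 : ℝ) < ‖ρ.character 1‖ ^ 2 := by
    rw [ρ.char_one, Complex.norm_natCast]
    have : (1 : ℝ) < (Module.finrank ℂ V : ℝ) := by exact_mod_cast hdeg
    nlinarith
  have hlt : ∏ g, ‖ρ.character g‖ ^ 2 < 1 := by
    calc ∏ g, ‖ρ.character g‖ ^ 2 < ∏ g, Real.exp (‖ρ.character g‖ ^ 2 - 1) := by
          refine Finset.prod_lt_prod (fun g _ => ?_) (fun g _ => ?_) ⟨1, Finset.mem_univ _, ?_⟩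
          · exact pow_pos (norm_pos_iff.mpr (hcon g)) 2
          · have := Real.add_one_le_exp (‖ρ.character g‖ ^ 2 - 1)
            linarith
          · have := Real.add_one_lt_exp (x := ‖ρ.character 1‖ ^ 2 - 1) (by linarith [hd])
            linarith
      _ = 1 := by
          rw [← Real.exp_sum, Finset.sum_sub_distrib, hsum]
          simp [Nat.card_eq_fintype_card]
  have hge : (1 : ℝ) ≤ ‖∏ g, ρ.character g‖ := by
    rw [hq, hm]
    have h2 : (1 : ℝ) ≤ |((m : ℤ) : ℝ)| := by exact_mod_cast Int.one_le_abs hm0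
    simpa [Complex.norm_intCast] using h2
  rw [Finset.prod_pow, ← norm_prod] at hlt
  nlinarith [norm_nonneg (∏ g, ρ.character g)]

end Cfsg.Agent.S0191
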