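import Cfsg.Statements.S0192
import Cfsg.Agent.Lib.Char.Orthogonality
-- import your own Cfsg.Agent.* helpers here

set_option autoImplicit false
open Cfsg

namespace Cfsg.Agent.S0192

set_option linter.style.haveILetI false
open Cfsg Cfsg.Lib.Char


/-- Brauer's generation criterion. Let G be a finite simple group, H₁ and H₂ subgroups, and χ a non-principal irreducible character. If the multiplicity of the principal character in χ restricted to H₁ ⊓ H₂ is less than the sum of the corresponding multiplicities for H₁ and H₂, then H₁ and H₂ do not generate G. -/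
theorem result {G : Type*} [Group G] [Fintype G] [IsSimpleGroup G] (H₁ H₂ : Subgroup G) [Fintype H₁] [Fintype H₂] [Fintype ↥(H₁ ⊓ H₂)] (χ : G → ℂ) (hχ : Cfsg.IsIrrCharacter G χ) (hχ1 : χ ≠ fun _ => 1) (hlt : (Cfsg.classInner (fun x : ↥(H₁ ⊓ H₂) => χ x) (fun _ => 1)).re < (Cfsg.classInner (fun x : H₁ => χ x) (fun _ => 1)).re + (Cfsg.classInner (fun x : H₂ => χ x) (fun _ => 1)).re) : H₁ ⊔ H₂ ≠ ⊤ := by
  intro htop
  classical
  obtain ⟨n, ρ, hρ, rfl⟩ := hχ
  have hdim : ∀ (K : Subgroup G) [Fintype K],
      (classInner (fun x : K => ρ.character x) (fun _ => 1)).re =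
        (Module.finrank ℂ (Representation.invariants (ρ.comp K.subtype)) : ℝ) := by
    intro K _
    letI := invertibleOfNonzero (card_cast_ne_zero (G := K))
    have h := Representation.card_inv_mul_sum_char_eq_finrank (ρ.comp K.subtype)
    rw [classInner_one_right]
    exact (congrArg Complex.re h).trans (Complex.natCast_re _)
  rw [hdim, hdim, hdim] at hlt
  norm_cast at hlt
  set A := Representation.invariants (ρ.comp H₁.subtype)
  set B := Representation.invariants (ρ.comp H₂.subtype)
  set C := Representation.invariants (ρ.comp (H₁ ⊓ H₂).subtype)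
  have hle : A ⊔ B ≤ C := by
    refine sup_le ?_ ?_ <;> intro v hv g
    · exact hv ⟨g, g.2.1⟩
    · exact hv ⟨g, g.2.2⟩
  have h1 := Submodule.finrank_sup_add_finrank_inf_eq A B
  have h2 := Submodule.finrank_mono hle
  have hne : A ⊓ B ≠ ⊥ := by
    intro h
    rw [h, finrank_bot] at h1
    omega
  obtain ⟨v, hv, hv0⟩ := Submodule.exists_mem_ne_zero_of_ne_bot hne
  let S : Subgroup G :=
    { carrier := {g | ρ g v = v}
      one_mem' := by simp
      mul_mem' := fun {a b} (ha : ρ a v = v) (hb : ρ b v = v) => by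
        show ρ (a * b) v = v
        rw [map_mul, Module.End.mul_apply, hb, ha]
      inv_mem' := fun {a} (ha : ρ a v = v) => by
        show ρ a⁻¹ v = v
        conv_lhs => rw [← ha]
        exact ρ.inv_self_apply a v }
  have hS : H₁ ⊔ H₂ ≤ S := sup_le (fun g hg => hv.1 ⟨g, hg⟩) (fun g hg => hv.2 ⟨g, hg⟩)
  have hfix : ∀ g, ρ g v = v := fun g => hS (htop ▸ Subgroup.mem_top g)
  apply hχ1
  rcases ((isIrreducible_iff_submodule ρ).mp hρ).2 (ℂ ∙ v) (fun g x hx => by
    obtain ⟨c, rfl⟩ := Submodule.mem_span_singleton.mp hx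
    rw [map_smul, hfix g]
    exact Submodule.mem_span_singleton.mpr ⟨c, rfl⟩) with h | h
  · exact absurd (Submodule.span_singleton_eq_bot.mp h) hv0
  · have hn : Module.finrank ℂ (Fin n → ℂ) = 1 := by
      rw [← finrank_top ℂ (Fin n → ℂ), ← h]
      exact finrank_span_singleton hv0
    funext g
    have hg : ρ g = LinearMap.id := LinearMap.ext fun x => by
      obtain ⟨c, rfl⟩ := Submodule.mem_span_singleton.mp (h ▸ Submodule.mem_top : x ∈ ℂ ∙ v)
      simp [hfix]
    rw [(character_eq_finrank_iff ρ g).mpr hg, hn, Nat.cast_one]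

end Cfsg.Agent.S0192
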