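import Cfsg.Statements.S0194
import Cfsg.Agent.Lib.Char.FixedChar
-- import your own Cfsg.Agent.* helpers here

set_option autoImplicit false
open scoped ComplexConjugate
open Cfsg

namespace Cfsg.Agent.S0194

set_option linter.style.haveILetI false
open Cfsg Cfsg.Lib.Char


/-- Let G have odd order, H be a normal subgroup and θ a non-principal irreducible character of H. Then the function induced from θ is orthogonal to its complex conjugate. -/
theorem result {G : Type*} [Group G] [Fintype G] (hodd : Odd (Nat.card G)) (H : Subgroup G) [H.Normal] (θ : H → ℂ) (hθ : Cfsg.IsIrrCharacter H θ) (hθ1 : θ ≠ fun _ => 1) : Cfsg.classInner (fun g => conj (Cfsg.indFun H θ g)) (Cfsg.indFun H θ) = 0 := by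
  haveI := Fintype.ofFinite H
  have hφ : Cfsg.IsIrrCharacter H (fun h => conj (θ h)) := isIrrCharacter_conjFn hθ
  have hind : (fun g => conj (Cfsg.indFun H θ g)) = Cfsg.indFun H (fun h => conj (θ h)) := by
    funext g
    simp only [Cfsg.indFun, map_mul, map_sum, map_inv₀, Complex.conj_natCast]
    congr 1
    refine Finset.sum_congr rfl fun x _ => ?_
    by_cases hx : x⁻¹ * g * x ∈ H
    · rw [extendByZero_of_mem _ _ hx, extendByZero_of_mem _ _ hx]
    · rw [extendByZero_of_notMem _ _ hx, extendByZero_of_notMem _ _ hx, map_zero]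
  rw [hind]
  refine classInner_indFun_of_notMem H hθ hφ fun hm => hθ1 ?_
  obtain ⟨g, hg⟩ := (mem_twistOrbit H).mp hm
  have hconj : ∀ (φ : H → ℂ) (g : G), conjTwist H (fun h => conj (φ h)) g =
      fun h => conj (conjTwist H φ g h) := fun φ g => rfl
  have hg2 : g ^ 2 ∈ inertia H θ := by
    rw [mem_inertia, pow_two, ← conjTwist_conjTwist, hg, hconj, hg]
    funext h
    exact Complex.conj_conj _
  obtain ⟨k, hk⟩ := hodd
  have hxeq : (g ^ 2) ^ (k + 1) = g := by
    rw [← pow_mul, show 2 * (k + 1) = Nat.card G + 1 by omega, pow_succ, pow_card_eq_one', one_mul]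
  have hgI : g ∈ inertia H θ := hxeq ▸ (inertia H θ).pow_mem hg2 (k + 1)
  rw [mem_inertia] at hgI
  rw [hgI] at hg
  exact real_irr_eq_one (Odd.of_dvd_nat ⟨k, hk⟩ H.card_subgroup_dvd_card) ⟨θ, hθ⟩
    fun h => Complex.conj_eq_iff_im.mp (congrFun hg h).symm

end Cfsg.Agent.S0194
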