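import Cfsg.Statements.S0195
-- import your own Cfsg.Agent.* helpers here

import Mathlib.Tactic.Group

set_option autoImplicit false
open Cfsg

namespace Cfsg.Agent.S0195

set_option linter.style.haveILetI false
open Cfsg


/-- Let A be a subgroup of G that equals the centralizer of each of its non-identity elements. If g lies outside the normalizer of A, then the only element of A conjugated by g into A is the identity (A is a trivial-intersection set). -/
theorem result {G : Type*} [Group G] [Finite G] (A : Subgroup G) (hA : ∀ x ∈ A, x ≠ 1 → Subgroup.centralizer ({x} : Set G) = A) (g : G) (hg : g ∉ Subgroup.normalizer (A : Set G)) (x : G) (hx : x ∈ A) (hgx : g * x * g⁻¹ ∈ A) : x = 1 := by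
  by_contra hx1
  apply hg
  have hy1 : g * x * g⁻¹ ≠ 1 := by
    intro h
    exact hx1 (conj_eq_one_iff.mp h)
  have h1 := hA x hx hx1
  have h2 := hA _ hgx hy1
  rw [Subgroup.mem_normalizer_iff]
  intro a
  have hconj : ∀ z : G, z ∈ Subgroup.centralizer ({x} : Set G) ↔
      g * z * g⁻¹ ∈ Subgroup.centralizer ({g * x * g⁻¹} : Set G) := by
    intro z
    simp only [Subgroup.mem_centralizer_iff, Set.mem_singleton_iff, forall_eq]
    have e1 : g * x * g⁻¹ * (g * z * g⁻¹) = g * (x * z) * g⁻¹ := by group
    have e2 : g * z * g⁻¹ * (g * x * g⁻¹) = g * (z * x) * g⁻¹ := by group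
    rw [e1, e2]
    exact ⟨fun h => by rw [h], fun h => mul_left_cancel (mul_right_cancel h)⟩
  have h3 := hconj a
  rw [h1, h2] at h3
  exact h3

end Cfsg.Agent.S0195
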