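import Cfsg.Statements.S0196
import Mathlib.GroupTheory.GroupAction.Quotient
import Mathlib.Algebra.BigOperators.Ring.Finset
-- import your own Cfsg.Agent.* helpers here

set_option autoImplicit false
open Cfsg

namespace Cfsg.Agent.S0196

set_option linter.style.haveILetI false
open Cfsg


/-- Let A be a subgroup of a finite group G that equals the centralizer of each of its non-identity elements, and let N be its normalizer. Then the index of A in N divides |A| − 1 (N/A permutes the non-identity elements of A in orbits of full length). -/
theorem result {G : Type*} [Group G] [Finite G] (A : Subgroup G) (hA : ∀ x ∈ A, x ≠ 1 → Subgroup.centralizer ({x} : Set G) = A) : (A.subgroupOf (Subgroup.normalizer (A : Set G))).index ∣ Nat.card A - 1 := by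
  classical
  set N := Subgroup.normalizer (A : Set G)
  set A' := A.subgroupOf N
  have hAN : A ≤ N := Subgroup.le_normalizer
  let T := {a : G // a ∈ A ∧ a ≠ 1}
  letI : MulAction N T :=
    { smul := fun n a => ⟨(n : G) * a.1 * (n : G)⁻¹,
        (Subgroup.mem_normalizer_iff.mp n.2 a.1).mp a.2.1,
        fun h => a.2.2 (conj_eq_one_iff.mp h)⟩
      one_smul := fun a => Subtype.ext (by show ((1 : N) : G) * a.1 * _ = _; simp)
      mul_smul := fun m n a => Subtype.ext (by
        show ((m * n : N) : G) * a.1 * _ = (m : G) * ((n : G) * a.1 * _) * _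
        simp [mul_assoc]) }
  have hstab : ∀ a : T, MulAction.stabilizer N a = A' := by
    intro a
    ext n
    rw [MulAction.mem_stabilizer_iff, Subgroup.mem_subgroupOf, ← hA a.1 a.2.1 a.2.2,
      Subgroup.mem_centralizer_iff]
    simp only [Set.mem_singleton_iff, forall_eq]
    constructor
    · intro h
      exact (mul_inv_eq_iff_eq_mul.mp (congrArg Subtype.val h)).symm
    · intro h
      exact Subtype.ext (mul_inv_eq_iff_eq_mul.mpr h.symm)
  haveI := Fintype.ofFinite (Quotient (MulAction.orbitRel N T))
  have hcard : Nat.card T = Nat.card A - 1 := by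
    haveI := Fintype.ofFinite A
    rw [Nat.card_congr (Equiv.subtypeSubtypeEquivSubtypeInter (fun a : G => a ∈ A) (fun a => a ≠ 1)).symm,
      Nat.card_eq_fintype_card, Nat.card_eq_fintype_card]
    rw [show Fintype.card {x : {a : G // a ∈ A} // (x : G) ≠ 1} = Fintype.card {x : A // x ≠ 1} from
      Fintype.card_congr (Equiv.subtypeEquivRight fun x => by
        exact (OneMemClass.coe_eq_one (x := x)).not)]
    simp [Fintype.card_subtype_compl]
  rw [← hcard, Nat.card_congr (MulAction.selfEquivSigmaOrbits N T), Nat.card_sigma]
  refine Finset.dvd_sum fun q _ => dvd_of_eq ?_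
  rw [← hstab q.out, MulAction.index_stabilizer]
  try rfl

end Cfsg.Agent.S0196
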