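import Cfsg.Statements.S0203
import Cfsg.Agent.Lib.Invol.KleinFour
-- import your own Cfsg.Agent.* helpers here

set_option autoImplicit false
open Cfsg

namespace Cfsg.Agent.S0203

/-- If a Sylow 2-subgroup P of a finite group G is a Klein four-group, then G has three classes of involutions if and only if P has a normal complement in G. -/
theorem result {G : Type*} [Group G] [Finite G] (P : Sylow 2 G) (hP : IsKleinFour (P : Subgroup G)) : Nat.card {C : ConjClasses G // ∃ t : G, orderOf t = 2 ∧ ConjClasses.mk t = C} = 3 ↔ ∃ N : Subgroup G, N.Normal ∧ Subgroup.IsComplement' N (P : Subgroup G) := by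
  haveI := hP
  haveI : IsMulCommutative (P : Subgroup G) := IsKleinFour.isMulCommutative
  rw [← Cfsg.Lib.Fusion.hasNormalPComplement_iff_exists P]
  rcases Cfsg.Lib.Invol.klein_class_count P with ⟨hle, h⟩ | ⟨hle, h⟩
  · exact iff_of_true h (Cfsg.Lib.Fusion.hasNormalPComplement_of_normalizer_le_centralizer P hle)
  · rw [h]
    refine iff_of_false (by norm_num) fun hc => hle fun n hn => ?_
    -- with a normal complement the conjugation action on `P` is trivial
    have hb := (Cfsg.Lib.Fusion.hasNormalPComplement_iff_inf P).mp hc
    rw [Cfsg.Lib.Fusion.pResidual_inf_eq_of_abelian P] at hb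
    exact Subgroup.commutator_eq_bot_iff_le_centralizer.mp
      ((Subgroup.commutator_comm _ _).trans hb) hn

end Cfsg.Agent.S0203
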