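import Cfsg.Statements.S0210
import Cfsg.Agent.Lib.Invol.Basic
-- import your own Cfsg.Agent.* helpers here

set_option autoImplicit false
open Cfsg

namespace Cfsg.Agent.S0210

/-- If x, y are involutions whose product has even order, no element of the subgroup generated by x and y conjugates x to y. -/
theorem result {G : Type*} [Group G] [Finite G] (x y : G) (hx : orderOf x = 2) (hy : orderOf y = 2) (heven : Even (orderOf (x * y))) (d : G) (hd : d ∈ Subgroup.closure ({x, y} : Set G)) : d * x * d⁻¹ ≠ y := by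
  intro hc
  obtain ⟨j, hj⟩ := Cfsg.Lib.Invol.conj_of_mem_closure_pair hx hy hd
  rw [hc] at hj
  have h3 : (x * y) ^ (1 : ℤ) = (x * y) ^ (2 * j) := by
    apply mul_left_cancel (a := x)
    rw [zpow_one, ← hj, ← mul_assoc, Cfsg.Lib.Invol.inv_mul_self hx, one_mul]
  rw [zpow_eq_zpow_iff_modEq, Int.modEq_iff_dvd] at h3
  obtain ⟨m, hm⟩ := heven
  rw [hm] at h3
  obtain ⟨c, hc'⟩ := h3
  push_cast at hc'
  have : (m + m : ℤ) * c = 2 * ((m : ℤ) * c) := by ring
  omega

end Cfsg.Agent.S0210
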