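import Cfsg.Statements.S0211
import Cfsg.Agent.Lib.Invol.Basic
-- import your own Cfsg.Agent.* helpers here

set_option autoImplicit false
open Cfsg

namespace Cfsg.Agent.S0211

/-- Let x, y be involutions with xy of even order n and z = (xy)^(n/2). Then xz is conjugate to x by an element of the subgroup generated by x, y if and only if 4 divides n. -/
theorem result {G : Type*} [Group G] [Finite G] (x y : G) (hx : orderOf x = 2) (hy : orderOf y = 2) (heven : Even (orderOf (x * y))) : (∃ d ∈ Subgroup.closure ({x, y} : Set G), d * x * d⁻¹ = x * (x * y) ^ (orderOf (x * y) / 2)) ↔ 4 ∣ orderOf (x * y) := by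
  obtain ⟨m, hm⟩ := heven
  have hdiv : orderOf (x * y) / 2 = m := by omega
  rw [hdiv]
  have hpos : 0 < orderOf (x * y) := orderOf_pos _
  constructor
  · rintro ⟨d, hd, he⟩
    obtain ⟨j, hj⟩ := Cfsg.Lib.Invol.conj_of_mem_closure_pair hx hy hd
    rw [he] at hj
    have h3 := mul_left_cancel hj
    rw [← zpow_natCast, zpow_eq_zpow_iff_modEq, Int.modEq_iff_dvd] at h3
    rw [hm] at h3 ⊢
    obtain ⟨c, hc⟩ := h3
    push_cast at hc
    have : (m + m : ℤ) * c = 2 * ((m : ℤ) * c) := by ring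
    omega
  · intro h4
    obtain ⟨j, hj⟩ : ∃ j, m = 2 * j := ⟨m / 2, by omega⟩
    refine ⟨(x * y) ^ (j : ℤ), (Cfsg.Lib.Invol.mem_closure_pair hx hy).mpr ⟨_, Or.inl rfl⟩, ?_⟩
    rw [Cfsg.Lib.Invol.zpow_mul_of_inverts (Cfsg.Lib.Invol.inv_mul_self hx)
      (Cfsg.Lib.Invol.conj_mul_left hx hy), mul_assoc, ← zpow_neg, ← zpow_add, ← zpow_natCast]
    congr 1
    rw [zpow_eq_zpow_iff_modEq, hm, Int.modEq_iff_dvd]
    exact ⟨1, by push_cast [hj]; ring⟩

end Cfsg.Agent.S0211
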