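import Cfsg.Statements.S0212
import Cfsg.Agent.Lib.Invol.BrauerFowler
-- import your own Cfsg.Agent.* helpers here

set_option autoImplicit false
open Cfsg

namespace Cfsg.Agent.S0212

/-- The Brauer–Fowler bound: if G is a finite simple group and t an involution of G whose centralizer has order n, then |G| ≤ (2n^2)!. -/
theorem result {G : Type*} [Group G] [Finite G] [IsSimpleGroup G] (t : G) (ht : orderOf t = 2) : Nat.card G ≤ Nat.factorial (2 * (Nat.card (Subgroup.centralizer ({t} : Set G))) ^ 2) := by
  set c := Nat.card (Subgroup.centralizer ({t} : Set G)) with hc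
  have hc2 : 2 ≤ c := Nat.le_of_dvd Nat.card_pos
    (ht ▸ Subgroup.orderOf_dvd_natCard _ (Subgroup.mem_centralizer_singleton_iff.mpr rfl))
  rcases Nat.lt_or_ge 2 (Nat.card G) with hgt | hle
  swap
  · refine hle.trans (le_trans ?_ (Nat.self_le_factorial _))
    nlinarith
  have heven : Even (Nat.card G) := even_iff_two_dvd.mpr (ht ▸ orderOf_dvd_natCard t)
  obtain ⟨hno, hidx⟩ := Cfsg.Lib.Invol.simple_even_facts heven hgt
  obtain ⟨H, hH, hbound⟩ := Cfsg.Lib.Invol.index_bound heven hno
  have hbound' := hbound.resolve_left (hidx H)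
  set n := Nat.card {s : G // orderOf s = 2}
  have hGn : Nat.card G ≤ n * c := by
    rw [← Cfsg.Lib.Invol.card_conj_mul_centralizer t]
    refine Nat.mul_le_mul_right _ ?_
    refine Nat.card_le_card_of_injective (fun y => ⟨y.1, ?_⟩) (fun a b hab => Subtype.ext (congrArg Subtype.val hab :))
    obtain ⟨g, hg⟩ := isConj_iff.mp y.2
    rw [← hg, Cfsg.Lib.Invol.orderOf_conj_eq, ht]
  have hnG : n ≤ Nat.card G := Nat.card_le_card_of_injective Subtype.val Subtype.val_injective
  have h1 : H.index * (n * n) < n * n * (c * c) := by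
    have h2 : Nat.card G * (Nat.card G + n) ≤ 2 * (n * n * (c * c)) := by
      calc Nat.card G * (Nat.card G + n) ≤ Nat.card G * (2 * Nat.card G) := Nat.mul_le_mul_left _ (by omega)
        _ ≤ (n * c) * (2 * (n * c)) := Nat.mul_le_mul hGn (Nat.mul_le_mul_left _ hGn)
        _ = 2 * (n * n * (c * c)) := by ring
    have e : 2 * H.index * n ^ 2 = 2 * (H.index * (n * n)) := by ring
    omega
  have hi : H.index < c * c := by
    rw [mul_comm (n * n)] at h1
    exact Nat.lt_of_mul_lt_mul_right h1
  refine (Nat.le_of_dvd (Nat.factorial_pos _) (Cfsg.Lib.Invol.card_dvd_factorial_of_simple hH)).trans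
    (Nat.factorial_le ?_)
  rw [pow_two]; omega

end Cfsg.Agent.S0212
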