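import Cfsg.Statements.S0214
import Cfsg.Agent.Lib.Local.RankCore
-- import your own Cfsg.Agent.* helpers here

set_option autoImplicit false
open Cfsg

namespace Cfsg.Agent.S0214

/-- Let H be a proper subgroup of the finite group G and P a nontrivial Sylow 2-subgroup of H. Then H is strongly embedded in G if and only if N_G(X) ≤ H for every nontrivial subgroup X of P. -/
theorem result {G : Type*} [Group G] [Finite G] (H : Subgroup G) (hH : H ≠ ⊤) (P : Sylow 2 ↥H) (hP : (P : Subgroup ↥H) ≠ ⊥) : Cfsg.IsStronglyEmbedded H ↔ (∀ X : Subgroup ↥H, X ≤ (P : Subgroup ↥H) → X ≠ ⊥ → Subgroup.normalizer ((X.map H.subtype : Subgroup G) : Set G) ≤ H) := by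
  haveI : Fact (Nat.Prime 2) := ⟨Nat.prime_two⟩
  constructor
  · intro h X hX hne g hg
    by_contra hgH
    obtain ⟨x, hx, hxp⟩ := Cfsg.Lib.Local.exists_orderOf_prime_mem
      ((P.isPGroup'.to_le hX).map H.subtype)
      (fun e => hne ((Subgroup.map_eq_bot_iff_of_injective _ H.subtype_injective).1 e))
    refine Nat.not_even_iff_odd.mpr (h.2.2 g hgH) ?_
    have hle : X.map H.subtype ≤ H ⊓ H.map (MulAut.conj g).toMonoidHom :=
      le_inf (Subgroup.map_subtype_le _)
        (by rw [← Cfsg.Lib.Core.map_conj_eq_of_mem_normalizer hg]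
            exact Subgroup.map_mono (Subgroup.map_subtype_le _))
    rw [even_iff_two_dvd, ← hxp]
    exact Subgroup.orderOf_dvd_natCard _ (hle hx)
  · intro h
    obtain ⟨x, hx, hxp⟩ := Cfsg.Lib.Local.exists_orderOf_prime_mem P.isPGroup' hP
    refine ⟨hH, even_iff_two_dvd.mpr (hxp ▸ orderOf_dvd_natCard x), fun g hg => ?_⟩
    rw [← Nat.not_even_iff_odd]
    intro he
    refine Cfsg.Lib.Local.not_dvd_inter_of_normalizers_le (p := 2)
      (hxp ▸ orderOf_dvd_natCard x) (fun A hAH hA hne => ?_) hg (even_iff_two_dvd.mp he)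
    refine Cfsg.Lib.Local.family_normalizers_of_sylow (Fam := fun A => A ≠ ⊥) P
      (fun B u hB e => hB ((Subgroup.map_eq_bot_iff_of_injective _ (MulAut.conj u).injective).1 e))
      (fun B hB hB0 => ?_) hAH hA hne
    have hBH : B ≤ H := hB.trans (Subgroup.map_subtype_le _)
    rw [← Subgroup.map_subgroupOf_eq_of_le hBH]
    refine h _ (fun b hb => ?_) (fun e => hB0 ?_)
    · obtain ⟨c, hc, hcb⟩ := hB hb
      exact (Subtype.ext hcb : c = b) ▸ hc
    · rw [← Subgroup.map_subgroupOf_eq_of_le hBH, e, Subgroup.map_bot]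

end Cfsg.Agent.S0214
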