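import Cfsg.Statements.S0216
import Cfsg.Agent.Lib.Invol.Isolated
-- import your own Cfsg.Agent.* helpers here

set_option autoImplicit false
open Cfsg

namespace Cfsg.Agent.S0216

/-- For an involution u in a Sylow 2-subgroup P of a finite group G, the following are equivalent: no G-conjugate of u other than u lies in P; every commutator of u with an element of G has odd order. -/
theorem result {G : Type*} [Group G] [Finite G] (P : Sylow 2 G) (u : G) (hu : orderOf u = 2) (huP : u ∈ P) : (∀ g : G, g * u * g⁻¹ ∈ P → g * u * g⁻¹ = u) ↔ (∀ g : G, Odd (orderOf (u * g * u⁻¹ * g⁻¹))) := by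
  constructor
  · intro h g
    have := Cfsg.Lib.Invol.isolated_odd_product (Cfsg.Lib.Invol.isolated_of_sylow P hu h) g
    have e : u * g * u⁻¹ * g⁻¹ = u * (g * u * g⁻¹) := by
      rw [Cfsg.Lib.Invol.inv_eq_self hu]; group
    rwa [e]
  · intro h g hg
    have e : u * g * u⁻¹ * g⁻¹ = u * (g * u * g⁻¹) := by
      rw [Cfsg.Lib.Invol.inv_eq_self hu]; group
    have hodd := h g
    rw [e] at hodd
    obtain ⟨k, hk⟩ := P.2 ⟨_, (P : Subgroup G).mul_mem huP hg⟩
    have h1 : orderOf (u * (g * u * g⁻¹)) ∣ 2 ^ k := by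
      apply orderOf_dvd_of_pow_eq_one
      simpa using congrArg Subtype.val hk
    have h2 : u * (g * u * g⁻¹) = 1 := orderOf_eq_one_iff.mp <|
      Nat.eq_one_of_dvd_coprimes (Nat.Coprime.pow_left k (Nat.coprime_two_left.mpr hodd)) h1 dvd_rfl
    have h3 := eq_inv_of_mul_eq_one_right h2
    rwa [Cfsg.Lib.Invol.inv_eq_self hu] at h3

end Cfsg.Agent.S0216
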