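import Cfsg.Statements.S0221
import Cfsg.Agent.Lib.Sig.RankThree
import Cfsg.Agent.S0111
import Cfsg.Agent.Lib.Invol.Basic
-- import your own Cfsg.Agent.* helpers here

set_option autoImplicit false
open Cfsg

namespace Cfsg.Agent.S0221

open Subgroup

/-- Let G be a finite group with no subgroup of index 2 whose 2-rank is at least 3 (it contains an elementary abelian subgroup of order 8). Then the centralizer of every involution of G also contains an elementary abelian subgroup of order 8. -/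
theorem result {G : Type*} [Group G] [Finite G] (hno : ∀ H : Subgroup G, H.index ≠ 2) (hrank : ∃ E : Subgroup G, Nat.card E = 8 ∧ ∀ e ∈ E, e ^ 2 = 1) (x : G) (hx : orderOf x = 2) : ∃ E : Subgroup G, E ≤ Subgroup.centralizer ({x} : Set G) ∧ Nat.card E = 8 ∧ ∀ e ∈ E, e ^ 2 = 1 := by
  classical
  haveI : Fact (Nat.Prime 2) := ⟨Nat.prime_two⟩
  obtain ⟨E, hEc, hE2⟩ := hrank
  have hEp : IsPGroup 2 E := IsPGroup.of_card (n := 3) (by rw [hEc]; norm_num)
  obtain ⟨S, hES⟩ := hEp.exists_le_sylow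
  have hxp : IsPGroup 2 (zpowers x) := IsPGroup.of_card (n := 1) (by rw [Nat.card_zpowers, hx]; norm_num)
  obtain ⟨T, hT⟩ := hxp.exists_le_sylow
  obtain ⟨g, hg⟩ := MulAction.exists_smul_eq G T S
  have hyS : g * x * g⁻¹ ∈ (S : Subgroup G) := by
    rw [← hg, Sylow.coe_subgroup_smul]
    exact ⟨x, hT (mem_zpowers x), rfl⟩
  set E' : Subgroup (S : Subgroup G) := E.subgroupOf S with hE'
  have hE'c : Nat.card E' = 8 := by rw [hE', Nat.card_congr (subgroupOfEquivOfLe hES).toEquiv, hEc]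
  have hE'e : Cfsg.IsElementaryAbelian 2 E' := by
    refine ⟨⟨⟨fun a b => Subtype.ext (Subtype.ext ?_)⟩⟩, fun a ha => Subtype.ext (hE2 _ (mem_subgroupOf.1 ha))⟩
    have inv : ∀ c ∈ E, c⁻¹ = c := fun c hc => inv_eq_of_mul_eq_one_left (by rw [← pow_two]; exact hE2 c hc)
    have ha := mem_subgroupOf.1 a.2
    have hb := mem_subgroupOf.1 b.2
    have h := inv _ (mul_mem ha hb)
    rw [mul_inv_rev, inv _ ha, inv _ hb] at h
    exact h.symm
  have hrk : ¬ Cfsg.PRankLE 2 2 ↥(S : Subgroup G) := fun h => by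
    have := h E' hE'e.1 hE'e.2
    omega
  obtain ⟨U, hUn, hUe, hUc⟩ := Cfsg.Lib.Sig.RankThree.exists_normal_four S.isPGroup' hrk
  haveI := hUn
  set C : Subgroup (S : Subgroup G) := centralizer (U : Set (S : Subgroup G)) with hC
  have hidx : C.index ≤ 2 := Cfsg.Lib.Sig.RankThree.index_centralizer_le S.isPGroup' hUc
  have hcomm : ∀ {a b : (S : Subgroup G)}, a ∈ U → b ∈ U → a * b = b * a := fun ha hb =>
    Cfsg.Lib.Sig.RankThree.commute_of_mem hUe ha hb
  -- a conjugate of `x` in `C(U)`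
  obtain ⟨w, k, hwC, hwk⟩ : ∃ (w : (S : Subgroup G)) (k : G), w ∈ C ∧ (w : G) = k * x * k⁻¹ := by
    by_cases hy : (⟨g * x * g⁻¹, hyS⟩ : (S : Subgroup G)) ∈ C
    · exact ⟨_, g, hy, rfl⟩
    have h2 : C.index = 2 := by
      have h1 : C.index ≠ 1 := fun h => hy (by rw [index_eq_one.1 h]; exact mem_top _)
      have h0 : C.index ≠ 0 := index_ne_zero_of_finite
      omega
    have hrel : (C.map (S : Subgroup G).subtype).relIndex (S : Subgroup G) = 2 := by
      rw [relIndex, subgroupOf, comap_map_eq_self_of_injective (S : Subgroup G).subtype_injective, h2]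
    have hnot : g * x * g⁻¹ ∉ C.map (S : Subgroup G).subtype := by
      rintro ⟨c, hc, hce⟩
      exact hy ((Subtype.ext hce : c = ⟨_, hyS⟩) ▸ hc)
    have ho : orderOf (g * x * g⁻¹) = 2 := by rw [Cfsg.Lib.Invol.orderOf_conj_eq]; exact hx
    rcases Cfsg.Agent.S0111.result S _ (map_subtype_le C) hrel _ ho hyS hnot with ⟨M, -, hM, -⟩ | ⟨k, c, hc, hck⟩
    · exact absurd hM (hno M)
    · exact ⟨c, k * g, hc, by rw [show (c : G) = k * (g * x * g⁻¹) * k⁻¹ from hck]; group⟩
  have hw2 : w ^ 2 = 1 := Subtype.ext (by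
    have hx2 : x ^ 2 = 1 := by rw [← hx]; exact pow_orderOf_eq_one x
    rw [SubmonoidClass.coe_pow, hwk, conj_pow, hx2]; simp)
  -- an elementary abelian subgroup of order eight commuting with `w`
  obtain ⟨A, hA, hAc, hAw⟩ : ∃ A : Subgroup (S : Subgroup G), Cfsg.IsElementaryAbelian 2 A ∧
      2 ^ 3 ≤ Nat.card A ∧ ∀ a ∈ A, a * w = w * a := by
    have build : ∀ V : Subgroup (S : Subgroup G), Cfsg.IsElementaryAbelian 2 V →
        (∀ a ∈ U, ∀ b ∈ V, a * b = b * a) → (∀ b ∈ V, b * w = w * b) → ¬ V ≤ U →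
        ∃ A : Subgroup (S : Subgroup G), Cfsg.IsElementaryAbelian 2 A ∧ 2 ^ 3 ≤ Nat.card A ∧
          ∀ a ∈ A, a * w = w * a := by
      intro V hV hc hVw hne
      refine ⟨U ⊔ V, Cfsg.Lib.Sig.RankThree.elementary_sup hUe hV hc, ?_, ?_⟩
      · obtain ⟨j, hj⟩ := IsPGroup.iff_card.1 (S.isPGroup'.to_subgroup (U ⊔ V))
        rw [hj]
        refine Nat.pow_le_pow_right (by norm_num) ?_
        by_contra hlt
        refine hne ((le_sup_right).trans (eq_of_le_of_card_ge le_sup_left ?_).ge)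
        rw [hUc, hj]
        exact Nat.pow_le_pow_right (by norm_num) (by omega)
      · intro a ha
        have hle : U ⊔ V ≤ centralizer ({w} : Set (S : Subgroup G)) := sup_le
          (fun u hu => mem_centralizer_singleton_iff.2 (mem_centralizer_iff.1 hwC u hu))
          (fun v hv => mem_centralizer_singleton_iff.2 (hVw v hv))
        exact mem_centralizer_singleton_iff.1 (hle ha)
    by_cases hwU : w ∈ U
    · refine build (E' ⊓ C) ⟨⟨⟨fun a b => Subtype.ext
          (Cfsg.Lib.Sig.RankThree.commute_of_mem hE'e a.2.1 b.2.1)⟩⟩, fun a ha => hE'e.2 a ha.1⟩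
        (fun a ha b hb => mem_centralizer_iff.1 hb.2 a ha)
        (fun b hb => (mem_centralizer_iff.1 hb.2 w hwU).symm) ?_
      intro hle
      have h1 := Cfsg.Lib.Sig.RankThree.card_le_card_inf_mul_index E' C
      have h3 : Nat.card ↥(E' ⊓ C : Subgroup (S : Subgroup G)) ≤ Nat.card U := card_le_of_le hle
      rw [hE'c] at h1
      have h4 : 8 ≤ 2 ^ 2 * 2 := by norm_num
      have hC4 : Nat.card U ≤ Nat.card ↥(E' ⊓ C : Subgroup (S : Subgroup G)) := by
        rw [hUc]
        by_contra hlt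
        have := h1.trans (Nat.mul_le_mul (Nat.le_of_lt_succ (Nat.lt_succ_of_le (Nat.le_sub_one_of_lt (not_le.1 hlt)))) hidx)
        omega
      have heq := eq_of_le_of_card_ge hle hC4
      have hE'C : E' ≤ C := fun a ha => mem_centralizer_iff.2 fun u hu => by
        have hu' : u ∈ E' ⊓ C := heq ▸ hu
        exact Cfsg.Lib.Sig.RankThree.commute_of_mem hE'e hu'.1 ha
      rw [inf_eq_left.2 hE'C] at h3
      omega
    · refine build (zpowers w) ⟨⟨⟨fun a b => ?_⟩⟩, ?_⟩ ?_ ?_ (fun h => hwU (h (mem_zpowers w)))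
      · obtain ⟨i, hi⟩ := mem_zpowers_iff.1 a.2
        obtain ⟨j, hj⟩ := mem_zpowers_iff.1 b.2
        exact Subtype.ext (show (a : (S : Subgroup G)) * b = b * a by rw [← hi, ← hj, ← zpow_add, add_comm, zpow_add])
      · intro a ha
        obtain ⟨i, rfl⟩ := mem_zpowers_iff.1 ha
        rw [← zpow_natCast, ← zpow_mul, mul_comm, zpow_mul, zpow_natCast, hw2, one_zpow]
      · intro a ha b hb
        obtain ⟨i, rfl⟩ := mem_zpowers_iff.1 hb
        exact (Commute.zpow_right (show Commute a w from mem_centralizer_iff.1 hwC a ha) i).eq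
      · intro b hb
        obtain ⟨i, rfl⟩ := mem_zpowers_iff.1 hb
        exact (Commute.zpow_left (Commute.refl w) i).eq
  obtain ⟨j, hj⟩ := IsPGroup.iff_card.1 (S.isPGroup'.to_subgroup A)
  obtain ⟨A8, hA8c, hA8⟩ := Sylow.exists_subgroup_card_pow_prime_le 2
    (show 2 ^ 3 ∣ Nat.card A by
      rw [hj]; exact pow_dvd_pow 2 ((Nat.pow_le_pow_iff_right (by norm_num)).1 (hj ▸ hAc))) ⊥
    (show Nat.card (⊥ : Subgroup A) = 2 ^ 0 by simp) (Nat.zero_le 3)
  refine ⟨((A8.map A.subtype).map (S : Subgroup G).subtype).map (MulAut.conj k⁻¹).toMonoidHom, ?_, ?_, ?_⟩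
  · rintro _ ⟨_, ⟨_, ⟨a, _, rfl⟩, rfl⟩, rfl⟩
    rw [mem_centralizer_singleton_iff]
    have h1 : ((a : (S : Subgroup G)) : G) * (w : G) = (w : G) * ((a : (S : Subgroup G)) : G) :=
      congrArg Subtype.val (hAw _ a.2)
    rw [hwk] at h1
    simp only [MulEquiv.toMonoidHom_eq_coe, MonoidHom.coe_coe, MulAut.conj_apply, inv_inv, Subgroup.coe_subtype]
    calc k⁻¹ * ((a : (S : Subgroup G)) : G) * k * x
        = k⁻¹ * (((a : (S : Subgroup G)) : G) * (k * x * k⁻¹)) * k := by group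
      _ = k⁻¹ * (k * x * k⁻¹ * ((a : (S : Subgroup G)) : G)) * k := by rw [h1]
      _ = x * (k⁻¹ * ((a : (S : Subgroup G)) : G) * k) := by group
  · rw [card_map_of_injective (MulAut.conj k⁻¹).injective,
      card_map_of_injective (S : Subgroup G).subtype_injective, card_map_of_injective A.subtype_injective, hA8c]
    norm_num
  · rintro _ ⟨_, ⟨_, ⟨a, _, rfl⟩, rfl⟩, rfl⟩
    rw [← map_pow, ← map_pow, ← map_pow, show a ^ 2 = 1 from Subtype.ext (hA.2 a a.2)]
    simp

end Cfsg.Agent.S0221
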