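import Cfsg.Statements.S0224
import Cfsg.Agent.Lib.Invol.Embedded
-- import your own Cfsg.Agent.* helpers here

set_option autoImplicit false
open Cfsg

namespace Cfsg.Agent.S0224

/-- Let H be a proper subgroup of even order of the finite group G. Then H is strongly embedded if and only if each involution of H fixes exactly one point (namely the coset H) in the action of G on the cosets of H. -/
theorem result {G : Type*} [Group G] [Finite G] (H : Subgroup G) (hH : H ≠ ⊤) (heven : Even (Nat.card H)) : Cfsg.IsStronglyEmbedded H ↔ ∀ t ∈ H, orderOf t = 2 → Nat.card {c : G ⧸ H // t • c = c} = 1 := by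
  rw [Cfsg.Lib.Invol.stronglyEmbedded_iff hH heven]
  constructor
  · intro h t ht ht2
    rw [Nat.card_eq_one_iff_unique]
    refine ⟨⟨?_⟩, ⟨⟨QuotientGroup.mk 1, Cfsg.Lib.Invol.smul_coset_one_eq.mpr ht⟩⟩⟩
    have key : ∀ c : G ⧸ H, t • c = c → c = QuotientGroup.mk 1 := by
      intro c
      induction c using QuotientGroup.induction_on with
      | H a =>
        intro ha
        rw [Cfsg.Lib.Invol.smul_coset_eq_iff] at ha
        rw [QuotientGroup.eq, mul_one]
        exact H.inv_mem (by simpa using H.inv_mem (h t ht ht2 a⁻¹ (by simpa using ha)))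
    rintro ⟨a, ha⟩ ⟨b, hb⟩
    exact Subtype.ext ((key a ha).trans (key b hb).symm)
  · intro h t ht ht2 c hc
    have h1 := h t ht ht2
    rw [Nat.card_eq_one_iff_unique] at h1
    have h2 := congrArg Subtype.val (h1.1.elim
      ⟨QuotientGroup.mk c⁻¹, Cfsg.Lib.Invol.smul_coset_eq_iff.mpr (by rwa [inv_inv])⟩
      ⟨QuotientGroup.mk 1, Cfsg.Lib.Invol.smul_coset_one_eq.mpr ht⟩)
    simpa [QuotientGroup.eq] using h2

end Cfsg.Agent.S0224
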