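import Cfsg.Statements.S0229
import Cfsg.Agent.Lib.Invol.Isolated
-- import your own Cfsg.Agent.* helpers here

set_option autoImplicit false
open Cfsg

namespace Cfsg.Agent.S0229

/-- Let t be an involution of a Sylow 2-subgroup S of a finite group G, conjugate in G to no other element of S, and let s be an involution of G not conjugate to t. Then the order of st is twice an odd number. -/
theorem result {G : Type*} [Group G] [Finite G] (S : Sylow 2 G) (t : G) (ht : orderOf t = 2) (htS : t ∈ S) (hiso : ∀ g : G, g * t * g⁻¹ ∈ S → g * t * g⁻¹ = t) (s : G) (hs : orderOf s = 2) (hns : ¬ IsConj s t) : orderOf (s * t) % 4 = 2 := by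
  have hz := Cfsg.Lib.Invol.isolated_of_sylow S ht hiso
  have hne : ¬ Odd (orderOf (t * s)) := fun h => hns (Cfsg.Lib.Invol.isConj_of_odd ht hs h).symm
  rw [Nat.not_odd_iff_even] at hne
  obtain ⟨m, hm⟩ := hne
  have hst : orderOf (s * t) = orderOf (t * s) := by
    rw [← orderOf_inv, mul_inv_rev, Cfsg.Lib.Invol.inv_eq_self hs, Cfsg.Lib.Invol.inv_eq_self ht]
  rw [hst, hm]
  have hpos : 0 < orderOf (t * s) := orderOf_pos _
  rcases Nat.even_or_odd m with ⟨j, hj⟩ | ⟨j, hj⟩
  · exfalso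
    obtain ⟨hw, hwt, -⟩ := Cfsg.Lib.Invol.central_involution ht hs ⟨m, hm⟩
    have hdiv : orderOf (t * s) / 2 = m := by omega
    rw [hdiv] at hw hwt
    have h1 : (t * s) ^ (j : ℤ) * t * ((t * s) ^ (j : ℤ))⁻¹ = t * (t * s) ^ m := by
      rw [Cfsg.Lib.Invol.zpow_mul_of_inverts (Cfsg.Lib.Invol.inv_mul_self ht)
        (Cfsg.Lib.Invol.conj_mul_left ht hs), mul_assoc, ← zpow_neg, ← zpow_add, ← zpow_natCast]
      congr 1
      rw [zpow_eq_zpow_iff_modEq, hm, Int.modEq_iff_dvd]
      exact ⟨1, by push_cast [hj]; ring⟩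
    have h2 := hz.2 _ (h1.symm ▸ (Commute.refl t).mul_right hwt.symm)
    rw [h1] at h2
    exact Cfsg.Lib.Invol.ne_one hw (mul_eq_left.mp h2)
  · omega

end Cfsg.Agent.S0229
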