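import Cfsg.Statements.S0230
import Cfsg.Agent.Lib.Invol.BrauerFowler
-- import your own Cfsg.Agent.* helpers here

set_option autoImplicit false
open Cfsg

namespace Cfsg.Agent.S0230

/-- Let G be a finite group with two non-conjugate involutions, and let t be an involution whose centralizer has maximal order among centralizers of involutions. Then |G| < |C_G(t)|^3. -/
theorem result {G : Type*} [Group G] [Finite G] (s t : G) (hs : orderOf s = 2) (ht : orderOf t = 2) (hnc : ¬ IsConj s t) (hmax : ∀ u : G, orderOf u = 2 → Nat.card (Subgroup.centralizer ({u} : Set G)) ≤ Nat.card (Subgroup.centralizer ({t} : Set G))) : Nat.card G < Nat.card (Subgroup.centralizer ({t} : Set G)) ^ 3 := by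
  classical
  set c := Nat.card (Subgroup.centralizer ({t} : Set G)) with hc
  set K := {y : G // IsConj t y} with hK
  have hKmem : ∀ y : K, orderOf y.1 = 2 := fun y => by
    obtain ⟨g, hg⟩ := isConj_iff.mp y.2
    rw [← hg, Cfsg.Lib.Invol.orderOf_conj_eq, ht]
  -- each conjugate of `t` commutes with an involution commuting with `s`
  have hcom : ∀ y : K, ∃ z : G, orderOf z = 2 ∧ Commute z s ∧ Commute z y.1 := by
    intro y
    have hne : ¬ Odd (orderOf (s * y.1)) := fun h =>
      hnc ((Cfsg.Lib.Invol.isConj_of_odd hs (hKmem y) h).trans y.2.symm)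
    rw [Nat.not_odd_iff_even] at hne
    exact ⟨_, Cfsg.Lib.Invol.central_involution hs (hKmem y) hne⟩
  choose z hz2 hzs hzy using hcom
  let I := {w : G // orderOf w = 2 ∧ Commute w s}
  let f : K → Σ w : I, {v : G // orderOf v = 2 ∧ Commute w.1 v} :=
    fun y => ⟨⟨z y, hz2 y, hzs y⟩, ⟨y.1, hKmem y, hzy y⟩⟩
  have hf : Function.Injective f := by
    intro a b hab
    exact Subtype.ext (congrArg (fun p : Σ w : I, {v : G // orderOf v = 2 ∧ Commute w.1 v} => p.2.1) hab :)
  have hsmall : ∀ x : G, orderOf x = 2 → Nat.card {v : G // orderOf v = 2 ∧ Commute x v} + 1 ≤ c := by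
    intro x hx
    refine le_trans ?_ (hmax x hx)
    rw [← Finite.card_option]
    refine Nat.card_le_card_of_injective (fun o => o.elim ⟨1, one_mem _⟩
      (fun t => ⟨t.1, Subgroup.mem_centralizer_singleton_iff.mpr t.2.2.eq.symm⟩)) ?_
    rintro (_ | ⟨a, ha⟩) (_ | ⟨b, hb⟩) he <;> simp at he ⊢
    · exact absurd he.symm (Cfsg.Lib.Invol.ne_one hb.1)
    · exact absurd he (Cfsg.Lib.Invol.ne_one ha.1)
    · exact he
  have hI : Nat.card I + 1 ≤ c := by
    have h := hsmall s hs
    have e : Nat.card {v : G // orderOf v = 2 ∧ Commute s v} = Nat.card I :=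
      Nat.card_congr (Equiv.subtypeEquivRight fun v => and_congr_right fun _ => ⟨Commute.symm, Commute.symm⟩)
    rwa [e] at h
  have := Fintype.ofFinite I
  have h1 := Nat.card_le_card_of_injective f hf
  rw [Nat.card_sigma] at h1
  have h2 : ∑ w : I, Nat.card {v : G // orderOf v = 2 ∧ Commute w.1 v} ≤ ∑ _w : I, (c - 1) :=
    Finset.sum_le_sum fun w _ => by have := hsmall w.1 w.2.1; omega
  rw [Finset.sum_const, smul_eq_mul, Finset.card_univ, ← Nat.card_eq_fintype_card] at h2
  have horb := Cfsg.Lib.Invol.card_conj_mul_centralizer t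
  rw [← hc] at horb
  have h3 : Nat.card K < c * c := by
    obtain ⟨d, hd⟩ : ∃ d, c = d + 1 := ⟨c - 1, by omega⟩
    rw [hd] at h2 hI ⊢
    simp only [Nat.add_sub_cancel] at h2
    nlinarith
  rw [← horb]
  calc Nat.card K * c < c * c * c := Nat.mul_lt_mul_of_pos_right h3 (by omega)
    _ = c ^ 3 := by ring

end Cfsg.Agent.S0230
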