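import Cfsg.Statements.S0231
import Cfsg.Agent.Lib.Invol.SylowTools
import Cfsg.Agent.Lib.Invol.Embedded
-- import your own Cfsg.Agent.* helpers here

set_option autoImplicit false
open scoped Pointwise
open Cfsg

namespace Cfsg.Agent.S0231

/-- Let T be a Sylow 2-subgroup of the finite group G which is not normal and which intersects every other Sylow 2-subgroup trivially. Then G has a single conjugacy class of involutions. -/
theorem result {G : Type*} [Group G] [Finite G] (T : Sylow 2 G) (hnn : ¬ (T : Subgroup G).Normal) (hTI : ∀ g : G, MulAut.conj g • (T : Subgroup G) ≠ T → MulAut.conj g • (T : Subgroup G) ⊓ T = ⊥) (s t : G) (hs : orderOf s = 2) (ht : orderOf t = 2) : IsConj s t := by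
  have : Fact (Nat.Prime 2) := ⟨Nat.prime_two⟩
  have hex : ∀ h : G, orderOf h = 2 → ∀ k : G, orderOf k = 2 → h * k = k * h →
      ∃ c : G, c * h * c⁻¹ ∈ (T : Subgroup G) ∧ c * k * c⁻¹ ∈ (T : Subgroup G) := by
    intro h hh k hk hc
    have hK : IsPGroup 2 (Subgroup.closure ({h, k} : Set G)) := by
      intro x
      refine ⟨1, Subtype.ext ?_⟩
      rw [pow_one, SubmonoidClass.coe_pow, Subgroup.coe_one, pow_two]
      obtain ⟨j, hj | hj⟩ := (Cfsg.Lib.Invol.mem_closure_pair hh hk).mp x.2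
      · rw [hj, ← zpow_add, ← two_mul, zpow_mul, zpow_two, Commute.mul_mul_mul_comm (Commute.symm hc),
          Cfsg.Lib.Invol.inv_mul_self hh, Cfsg.Lib.Invol.inv_mul_self hk, one_mul, one_zpow]
      · rw [hj]; exact Cfsg.Lib.Invol.mul_zpow_sq (Cfsg.Lib.Invol.inv_mul_self hh)
          (Cfsg.Lib.Invol.conj_mul_left hh hk) j
    obtain ⟨c, hc'⟩ := Cfsg.Lib.Invol.exists_conj_mem_sylow T hK
    exact ⟨c, hc' _ (Subgroup.subset_closure (by simp)), hc' _ (Subgroup.subset_closure (by simp))⟩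
  have hsame : ∀ h k : G, orderOf h = 2 → orderOf k = 2 → h * k = k * h →
      h ∈ (T : Subgroup G) → k ∈ (T : Subgroup G) := by
    intro h k hh hk hc hhT
    obtain ⟨c, hch, hck⟩ := hex h hh k hk hc
    by_contra hkT
    have hne : MulAut.conj c⁻¹ • (T : Subgroup G) ≠ T := by
      intro he
      apply hkT
      rw [← he, Subgroup.mem_pointwise_smul_iff_inv_smul_mem]
      simpa [MulAut.smul_def] using hck
    have hmem : h ∈ MulAut.conj c⁻¹ • (T : Subgroup G) ⊓ (T : Subgroup G) := by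
      refine Subgroup.mem_inf.mpr ⟨?_, hhT⟩
      rw [Subgroup.mem_pointwise_smul_iff_inv_smul_mem]
      simpa [MulAut.smul_def] using hch
    rw [hTI _ hne] at hmem
    exact Cfsg.Lib.Invol.ne_one hh hmem
  have hcross : ∀ h k : G, orderOf h = 2 → orderOf k = 2 → h ∈ (T : Subgroup G) → k ∉ (T : Subgroup G) →
      IsConj h k := by
    intro h k hh hk hhT hkT
    apply Cfsg.Lib.Invol.isConj_of_odd hh hk
    rw [← Nat.not_even_iff_odd]
    intro he
    obtain ⟨hw, hwh, hwk⟩ := Cfsg.Lib.Invol.central_involution hh hk he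
    exact hkT (hsame _ k hw hk hwk.eq (hsame h _ hh hw hwh.symm.eq hhT))
  -- an involution inside and one outside
  obtain ⟨c, hcne⟩ : ∃ c : G, MulAut.conj c • (T : Subgroup G) ≠ T := by
    by_contra hcon
    push Not at hcon
    apply hnn
    refine ⟨fun x hx c => ?_⟩
    rw [← hcon c]
    exact Subgroup.smul_mem_pointwise_smul x (MulAut.conj c) _ hx
  obtain ⟨t0, ht0⟩ : ∃ t0 : G, orderOf t0 = 2 ∧ t0 ∈ (T : Subgroup G) := by
    obtain ⟨d, hd⟩ := Cfsg.Lib.Invol.exists_conj_mem_sylow T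
      (IsPGroup.of_card (G := Subgroup.zpowers s) (n := 1) (by rw [Nat.card_zpowers, hs, pow_one]))
    exact ⟨_, by rw [Cfsg.Lib.Invol.orderOf_conj_eq, hs], hd s (Subgroup.mem_zpowers s)⟩
  have hout : ∃ v : G, orderOf v = 2 ∧ v ∉ (T : Subgroup G) := by
    refine ⟨c * t0 * c⁻¹, by rw [Cfsg.Lib.Invol.orderOf_conj_eq, ht0.1], fun hv => ?_⟩
    have hm : c * t0 * c⁻¹ ∈ MulAut.conj c • (T : Subgroup G) ⊓ (T : Subgroup G) :=
      ⟨Subgroup.smul_mem_pointwise_smul t0 (MulAut.conj c) _ ht0.2, hv⟩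
    rw [hTI c hcne] at hm
    exact Cfsg.Lib.Invol.ne_one (by rw [Cfsg.Lib.Invol.orderOf_conj_eq, ht0.1]) (Subgroup.mem_bot.mp hm)
  obtain ⟨v, hv, hvT⟩ := hout
  have key : ∀ h : G, orderOf h = 2 → IsConj h t0 := by
    intro h hh
    by_cases hhT : h ∈ (T : Subgroup G)
    · exact (hcross h v hh hv hhT hvT).trans (hcross t0 v ht0.1 hv ht0.2 hvT).symm
    · exact (hcross t0 h ht0.1 hh ht0.2 hhT).symm
  exact (key s hs).trans (key t ht).symm

end Cfsg.Agent.S0231
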