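import Cfsg.Statements.S0234
import Cfsg.Agent.Lib.Invol.BrauerFowler
import Mathlib.GroupTheory.SpecificGroups.Alternating
-- import your own Cfsg.Agent.* helpers here

set_option autoImplicit false
open Cfsg

namespace Cfsg.Agent.S0234

/-- In a finite simple group G of even order greater than 2, the number n of involutions satisfies 3n < |G|. -/
theorem result {G : Type*} [Group G] [Finite G] [IsSimpleGroup G] (heven : Even (Nat.card G)) (hgt : 2 < Nat.card G) : 3 * Nat.card {t : G // orderOf t = 2} < Nat.card G := by
  classical
  obtain ⟨hz, hidx⟩ := Cfsg.Lib.Invol.simple_even_facts heven hgt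
  by_contra hcon
  push Not at hcon
  obtain ⟨H, hH, hmax⟩ := Cfsg.Lib.Invol.exists_max_proper (G := G)
  have hb := Cfsg.Lib.Invol.involution_bound hz hidx hmax
  have hci := Subgroup.card_mul_index H
  have hh : 0 < Nat.card H := Nat.card_pos
  set n := Nat.card {t : G // orderOf t = 2} with hn
  have h2 : n < 2 * Nat.card H := by
    by_contra hc
    push Not at hc
    nlinarith
  have hi : H.index ≤ 5 := by
    by_contra hc
    push Not at hc
    nlinarith
  -- `G` embeds in the alternating group on the cosets of `H`
  let f := MulAction.toPermHom G (G ⧸ H)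
  have hf : Function.Injective f := Cfsg.Lib.Invol.toPermHom_injective_of_simple hH
  have : Fintype (G ⧸ H) := Fintype.ofFinite _
  have hsign : ∀ g, Equiv.Perm.sign (f g) = 1 := by
    rcases IsSimpleGroup.eq_bot_or_eq_top_of_normal (Equiv.Perm.sign.comp f).ker inferInstance with h | h
    · have hinj := (MonoidHom.ker_eq_bot_iff _).mp h
      have := Nat.card_le_card_of_injective _ hinj
      rw [Nat.card_eq_fintype_card (α := ℤˣ), Fintype.card_units_int] at this
      omega
    · intro g
      have : g ∈ (Equiv.Perm.sign.comp f).ker := h ▸ Subgroup.mem_top g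
      exact this
  let f' : G →* alternatingGroup (G ⧸ H) :=
    f.codRestrict _ fun g => Equiv.Perm.mem_alternatingGroup.mpr (hsign g)
  have hf' : Function.Injective f' := fun a b hab => hf (congrArg Subtype.val hab :)
  have hdvd := Subgroup.card_dvd_of_injective f' hf'
  have hnt : Nontrivial (G ⧸ H) := by
    rw [← Finite.one_lt_card_iff_nontrivial, ← Subgroup.index_eq_card]
    have := H.index_ne_zero_of_finite
    have := mt Subgroup.index_eq_one.mp hH
    omega
  rw [nat_card_alternatingGroup, ← Subgroup.index_eq_card] at hdvd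
  have : Fact (Nat.Prime 2) := ⟨Nat.prime_two⟩
  have hi3 : 3 ≤ H.index := by
    have := H.index_ne_zero_of_finite
    have := mt Subgroup.index_eq_one.mp hH
    have := hidx H
    omega
  have h4 : Nat.card G ∣ 60 := by
    refine hdvd.trans ?_
    clear_value n
    generalize H.index = i at hi hi3
    interval_cases i <;> decide
  -- no subgroup of prime power order has small index
  have hsmall : ∀ p k : ℕ, p.Prime → ∀ m, Nat.card G = p ^ k * m → 2 ≤ m →
      m ≠ 2 ∧ Nat.card G ∣ m.factorial := by
    intro p k hp m hm hm2
    have := Fact.mk hp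
    obtain ⟨K, hK⟩ := Sylow.exists_subgroup_card_pow_prime p (G := G) (n := k) ⟨m, hm⟩
    have hKi := Subgroup.card_mul_index K
    rw [hK, hm] at hKi
    have hKm := Nat.eq_of_mul_eq_mul_left (pow_pos hp.pos k) hKi
    refine ⟨hKm ▸ hidx K, hKm ▸ Cfsg.Lib.Invol.card_dvd_factorial_of_simple (H := K) fun h => ?_⟩
    rw [h, Subgroup.index_top] at hKm
    omega
  -- twice an odd number is impossible
  have h2mod : Nat.card G % 4 ≠ 2 := by
    intro h
    obtain ⟨P⟩ : Nonempty (Sylow 2 G) := inferInstance
    obtain ⟨k, hk⟩ := P.2.exists_card_eq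
    have hPd : Nat.card (P : Subgroup G) ∣ Nat.card G := Subgroup.card_subgroup_dvd_card _
    have hk1 : k ≤ 1 := by
      by_contra hc
      push Not at hc
      have : 2 ^ 2 ∣ Nat.card G := ((pow_dvd_pow 2 hc).trans (hk ▸ dvd_rfl)).trans hPd
      omega
    obtain ⟨K, hK⟩ := Cfsg.Lib.Invol.exists_index_two_of_isCyclic heven P (by
      interval_cases k
      · have := (Nat.card_eq_one_iff_unique.mp (hk.trans (pow_zero 2))).1
        exact isCyclic_of_subsingleton
      · exact isCyclic_of_prime_card (hk.trans (pow_one 2)))
    exact hidx K hK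
  have hmem : Nat.card G ∈ Nat.divisors 60 := Nat.mem_divisors.mpr ⟨h4, by norm_num⟩
  have hdiv : Nat.divisors 60 = {1, 2, 3, 4, 5, 6, 10, 12, 15, 20, 30, 60} := by decide
  have h60 : Nat.card G = 60 := by
    rw [hdiv] at hmem
    simp only [Finset.mem_insert, Finset.mem_singleton] at hmem
    have hev := Nat.even_iff.mp heven
    rcases hmem with h | h | h | h | h | h | h | h | h | h | h | h <;> try omega
    · exact absurd rfl (hsmall 2 1 Nat.prime_two 2 (h.trans (by norm_num)) le_rfl).1
    · have := (hsmall 2 2 Nat.prime_two 3 (h.trans (by norm_num)) (by norm_num)).2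
      rw [h] at this; exfalso; revert this; decide
    · have := (hsmall 5 1 (by decide) 4 (h.trans (by norm_num)) (by norm_num)).2
      rw [h] at this; exfalso; revert this; decide
  -- so `G` is `A₅`, which has 15 involutions
  have hiH : H.index = 5 := by
    generalize H.index = i at hi hi3 hdvd
    interval_cases i <;> first | rfl | (rw [h60] at hdvd; exfalso; revert hdvd; decide)
  have hbij : Function.Bijective f' := (Nat.bijective_iff_injective_and_card f').mpr ⟨hf', by
    rw [h60, nat_card_alternatingGroup, ← Subgroup.index_eq_card, hiH]; rfl⟩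
  have hcard5 : Fintype.card (G ⧸ H) = 5 := by
    rw [← Nat.card_eq_fintype_card, ← Subgroup.index_eq_card, hiH]
  let e := (MulEquiv.ofBijective f' hbij).trans (Fintype.equivFinOfCardEq hcard5).altCongrHom
  have hn15 : n = Nat.card {x : alternatingGroup (Fin 5) // orderOf x = 2} :=
    Nat.card_congr (e.toEquiv.subtypeEquiv fun a => by simp)
  have h15 : Nat.card {x : alternatingGroup (Fin 5) // orderOf x = 2} = 15 := by
    rw [Nat.card_congr (Equiv.subtypeEquivRight (fun x => orderOf_eq_prime_iff)),
      Nat.card_eq_fintype_card, Fintype.card_subtype]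
    decide
  omega

end Cfsg.Agent.S0234
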