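import Cfsg.Statements.S0240
import Cfsg.Agent.Lib.Invol.Counting
-- import your own Cfsg.Agent.* helpers here

set_option autoImplicit false
open Cfsg

namespace Cfsg.Agent.S0240

/-- Let G be a finite group with n involutions and H a subgroup with |H|·(n+1) > |G|. Then some nontrivial h ∈ H is strongly real in G: an involution t of G satisfies t h t⁻¹ = h⁻¹. -/
theorem result {G : Type*} [Group G] [Finite G] (H : Subgroup G) (hH : Nat.card G < Nat.card H * (Nat.card {t : G // orderOf t = 2} + 1)) : ∃ h : G, h ∈ H ∧ h ≠ 1 ∧ ∃ t : G, orderOf t = 2 ∧ t * h * t⁻¹ = h⁻¹ := by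
  classical
  let f : Option {t : G // orderOf t = 2} × ↥H → G := fun p => (p.1.elim 1 Subtype.val) * (p.2 : G)
  have hf : ¬ Function.Injective f := by
    intro hinj
    have := Nat.card_le_card_of_injective f hinj
    rw [Nat.card_prod, Finite.card_option] at this
    linarith [mul_comm (Nat.card H) (Nat.card {t : G // orderOf t = 2} + 1)]
  simp only [Function.Injective, not_forall, f] at hf
  obtain ⟨⟨a, h⟩, ⟨b, k⟩, heq, hne⟩ := hf
  have hab : a ≠ b := by
    rintro rfl
    exact hne (Prod.ext rfl (Subtype.ext (mul_left_cancel heq)))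
  rcases a with _ | ⟨t, ht⟩ <;> rcases b with _ | ⟨s, hs⟩
  · exact absurd rfl hab
  · simp only [Option.elim_none, Option.elim_some, one_mul] at heq
    refine ⟨s, ?_, Cfsg.Lib.Invol.ne_one hs, s, hs, by simp [Cfsg.Lib.Invol.inv_eq_self hs, mul_assoc, Cfsg.Lib.Invol.inv_mul_self hs]⟩
    rw [eq_mul_inv_of_mul_eq heq.symm]
    exact H.mul_mem h.2 (H.inv_mem k.2)
  · simp only [Option.elim_none, Option.elim_some, one_mul] at heq
    refine ⟨t, ?_, Cfsg.Lib.Invol.ne_one ht, t, ht, by simp [Cfsg.Lib.Invol.inv_eq_self ht, mul_assoc, Cfsg.Lib.Invol.inv_mul_self ht]⟩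
    rw [eq_mul_inv_of_mul_eq heq]
    exact H.mul_mem k.2 (H.inv_mem h.2)
  · simp only [Option.elim_some] at heq
    refine ⟨t * s, ?_, ?_, t, ht, Cfsg.Lib.Invol.conj_mul_left ht hs⟩
    · have : t * s = (h : G) * (k : G)⁻¹ := by
        rw [eq_mul_inv_iff_mul_eq, mul_assoc, ← heq, ← mul_assoc, Cfsg.Lib.Invol.inv_mul_self ht, one_mul]
      rw [this]
      exact H.mul_mem h.2 (H.inv_mem k.2)
    · intro h1
      apply hab
      have := eq_inv_of_mul_eq_one_right h1
      rw [Cfsg.Lib.Invol.inv_eq_self ht] at this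
      subst this; rfl

end Cfsg.Agent.S0240
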