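import Cfsg.Statements.S0247
import Cfsg.Agent.Lib.Linear.PermOrth
import Cfsg.Agent.S0245

set_option autoImplicit false
open Cfsg

namespace Cfsg.Agent.S0247

/-- Sp_4(2) is isomorphic to the symmetric group S_6. -/
theorem result {F : Type*} [Field F] [Fintype F] (hF : Fintype.card F = 2) : Nonempty (Matrix.symplecticGroup (Fin 2) F ≃* Equiv.Perm (Fin 6)) := by
  classical
  obtain ⟨e⟩ := Cfsg.Lib.Linear.PermModule.symp_equiv
    (ZMod.ringEquivOfPrime F Nat.prime_two hF).symm 2
  have hG := Cfsg.Lib.Linear.PermModule.good_std 2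
  let σ : Fin 6 ≃ (Fin 2 × Fin 2) ⊕ Fin 2 := Fintype.equivOfCardEq (by simp)
  obtain ⟨u⟩ := Cfsg.Lib.Linear.PermModule.equiv_of_card (hG.spHom.comp σ.permCongrHom.toMonoidHom)
    ((hG.spHom_injective (by simp)).comp σ.permCongrHom.injective) (by
      rw [Nat.card_perm, Nat.card_fin, Cfsg.Agent.S0245.result (F := ZMod 2) (q := 2) (by simp) 2]
      simp [Finset.prod_range_succ, Nat.factorial])
  exact ⟨e.trans u⟩

end Cfsg.Agent.S0247
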