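import Cfsg.Statements.S0258
import Cfsg.Agent.Lib.Linear.GLTwo

set_option autoImplicit false
open Cfsg

namespace Cfsg.Agent.S0258

/-- GL_2(q), q a power of the prime p, has exactly q + 1 Sylow p-subgroups. -/
theorem result {F : Type*} [Field F] [Fintype F] {q : ℕ} (hF : Fintype.card F = q) (p : ℕ) [Fact p.Prime] [CharP F p] : Nat.card (Sylow p (Matrix.GeneralLinearGroup (Fin 2) F)) = q + 1 := by
  have P : Sylow p (Matrix.GeneralLinearGroup (Fin 2) F) := Classical.arbitrary _
  rw [Sylow.card_eq_index_normalizer P]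
  show (Subgroup.normalizer ((P : Subgroup (Matrix.GeneralLinearGroup (Fin 2) F)) : Set (Matrix.GeneralLinearGroup (Fin 2) F))).index = _
  have h := Subgroup.card_mul_index (Subgroup.normalizer
    ((P : Subgroup (Matrix.GeneralLinearGroup (Fin 2) F)) : Set (Matrix.GeneralLinearGroup (Fin 2) F)))
  rw [Cfsg.Lib.Linear.Two.card_normalizer_sylow p P, Cfsg.Lib.Linear.card_GL_eq_mul_card_SL,
    Cfsg.Lib.Linear.Two.card_SL_two, hF] at h
  have hq : 2 ≤ q := hF ▸ Fintype.one_lt_card
  apply Nat.eq_of_mul_eq_mul_left (show 0 < q * (q - 1) ^ 2 from Nat.mul_pos (by omega) (pow_pos (by omega) 2))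
  rw [h]
  zify [(show 1 ≤ q ^ 2 from Nat.one_le_pow _ _ (by omega)), (show 1 ≤ q by omega)]
  ring

end Cfsg.Agent.S0258
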