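import Cfsg.Statements.S0259
import Cfsg.Agent.Lib.Linear.GLTwo
open scoped Pointwise

set_option autoImplicit false
open Cfsg

namespace Cfsg.Agent.S0259

/-- Distinct Sylow p-subgroups of GL_2(q), p the characteristic, intersect trivially. -/
theorem result {F : Type*} [Field F] [Fintype F] (p : ℕ) [Fact p.Prime] [CharP F p] (P Q : Sylow p (Matrix.GeneralLinearGroup (Fin 2) F)) (h : P ≠ Q) : (P : Subgroup (Matrix.GeneralLinearGroup (Fin 2) F)) ⊓ (Q : Subgroup (Matrix.GeneralLinearGroup (Fin 2) F)) = ⊥ := by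
  rw [eq_bot_iff]
  rintro x ⟨hxP, hxQ⟩
  by_contra hx
  obtain ⟨g, hg⟩ := Cfsg.Lib.Linear.Two.exists_conj_UG p P
  obtain ⟨g', hg'⟩ := Cfsg.Lib.Linear.Two.exists_conj_UG p Q
  have hxP' : x ∈ (P : Subgroup (Matrix.GeneralLinearGroup (Fin 2) F)) := hxP
  have hxQ' : x ∈ (Q : Subgroup (Matrix.GeneralLinearGroup (Fin 2) F)) := hxQ
  rw [hg, Subgroup.mem_smul_pointwise_iff_exists] at hxP'
  rw [hg', Subgroup.mem_smul_pointwise_iff_exists] at hxQ'
  obtain ⟨k, hk, rfl⟩ := hxP'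
  obtain ⟨l, hl, he⟩ := hxQ'
  simp only [MulAut.smul_def, MulAut.conj_apply] at he hx
  have hkne : k ≠ 1 := fun e => hx (by simp [e])
  have hlow : (g⁻¹ * g').val 1 0 = 0 := by
    refine Cfsg.Lib.Linear.Two.low_eq_zero_of_conj hl hk hkne ?_
    calc k * (g⁻¹ * g') = g⁻¹ * (g * k * g⁻¹) * g' := by group
      _ = g⁻¹ * g' * l := by rw [← he]; group
  apply h
  apply Sylow.ext
  rw [hg, hg']
  have hn := Cfsg.Lib.Linear.Two.normalizer_UG.2 hlow
  have : MulAut.conj (g⁻¹ * g') • Cfsg.Lib.Linear.Two.UG F = Cfsg.Lib.Linear.Two.UG F := by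
    refine Subgroup.ext fun y => ?_
    rw [Subgroup.mem_pointwise_smul_iff_inv_smul_mem, MulAut.smul_def, MulAut.inv_apply, MulAut.conj_symm_apply]
    refine (Subgroup.mem_normalizer_iff.1 hn _).trans (iff_of_eq ?_)
    congr 1
    group
  conv_lhs => rw [← this]
  rw [smul_smul, ← map_mul, mul_inv_cancel_left]

end Cfsg.Agent.S0259
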