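import Cfsg.Statements.S0260
import Cfsg.Agent.Lib.Linear.GLTwo
open scoped Pointwise

set_option autoImplicit false
open Cfsg

namespace Cfsg.Agent.S0260

open Cfsg.Lib.Linear in
theorem sup_conj {F : Type*} [Field F] (g : Matrix.SpecialLinearGroup (Fin 2) F) (hc : g.val 1 0 ≠ 0) :
    Two.UT F ⊔ MulAut.conj g • Two.UT F = ⊤ := by
  have hdet : g.val 0 0 * g.val 1 1 - g.val 0 1 * g.val 1 0 = 1 := by rw [← Matrix.det_fin_two]; exact g.2
  rw [eq_top_iff, ← closure_transvection_eq_top, Subgroup.closure_le]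
  rintro _ ⟨i, j, hij, t, rfl⟩
  by_cases hi : i = 0
  · obtain rfl : j = 1 := by omega
    subst hi
    exact Subgroup.mem_sup_left (Two.mem_UT.2 (by simp [Matrix.SpecialLinearGroup.transvection_coe, Matrix.transvection]))
  · obtain rfl : i = 1 := by omega
    obtain rfl : j = 0 := by omega
    have key : Matrix.SpecialLinearGroup.transvection hij t =
        Two.ut (Multiplicative.ofAdd (-(g.val 0 0 / g.val 1 0))) *
          (g * Two.ut (Multiplicative.ofAdd (-(t / g.val 1 0 ^ 2))) * g⁻¹) *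
            Two.ut (Multiplicative.ofAdd (g.val 0 0 / g.val 1 0)) := by
      refine Matrix.SpecialLinearGroup.ext _ _ fun a b => ?_
      simp only [Matrix.SpecialLinearGroup.coe_mul, Two.ut_coe, Matrix.SpecialLinearGroup.coe_inv,
        Matrix.adjugate_fin_two, Matrix.SpecialLinearGroup.transvection_coe]
      fin_cases a <;> fin_cases b <;> simp [Matrix.mul_apply, Fin.sum_univ_two, Matrix.transvection, Matrix.vecMul, dotProduct] <;> field_simp
      all_goals first
        | ring1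
        | grind
    rw [key]
    exact mul_mem (mul_mem (Subgroup.mem_sup_left ⟨_, rfl⟩)
      (Subgroup.mem_sup_right (Subgroup.mem_smul_pointwise_iff_exists _ _ _ |>.2 ⟨_, ⟨_, rfl⟩, rfl⟩)))
      (Subgroup.mem_sup_left ⟨_, rfl⟩)

/-- Any two distinct Sylow p-subgroups of SL_2(q), p the characteristic, generate SL_2(q). -/
theorem result {F : Type*} [Field F] [Fintype F] (p : ℕ) [Fact p.Prime] [CharP F p] (P Q : Sylow p (Matrix.SpecialLinearGroup (Fin 2) F)) (h : P ≠ Q) : (P : Subgroup (Matrix.SpecialLinearGroup (Fin 2) F)) ⊔ (Q : Subgroup (Matrix.SpecialLinearGroup (Fin 2) F)) = ⊤ := by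
  obtain ⟨g, hg⟩ := Cfsg.Lib.Linear.Two.exists_conj_UT p P
  obtain ⟨g', hg'⟩ := Cfsg.Lib.Linear.Two.exists_conj_UT p Q
  have hQ : (Q : Subgroup (Matrix.SpecialLinearGroup (Fin 2) F)) =
      MulAut.conj g • (MulAut.conj (g⁻¹ * g') • Cfsg.Lib.Linear.Two.UT F) := by
    rw [hg', smul_smul, ← map_mul, mul_inv_cancel_left]
  have hc : (g⁻¹ * g').val 1 0 ≠ 0 := by
    intro hc
    apply h
    apply Sylow.ext
    rw [hg, hQ]
    congr 1
    symm
    refine Subgroup.ext fun y => ?_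
    rw [Subgroup.mem_pointwise_smul_iff_inv_smul_mem, MulAut.smul_def, MulAut.inv_apply, MulAut.conj_symm_apply]
    have hn := Subgroup.mem_normalizer_iff.1 ((Cfsg.Lib.Linear.Two.normalizer_UG (g := Matrix.SpecialLinearGroup.toGL (g⁻¹ * g'))).2 hc)
      (Matrix.SpecialLinearGroup.toGL ((g⁻¹ * g')⁻¹ * y * (g⁻¹ * g')))
    simp only [← map_inv, ← map_mul, Cfsg.Lib.Linear.Two.UG,
      Subgroup.mem_map_iff_mem (Cfsg.Lib.Linear.toGL_injective' (ι := Fin 2) (F := F))] at hn
    rwa [show g⁻¹ * g' * ((g⁻¹ * g')⁻¹ * y * (g⁻¹ * g')) * (g⁻¹ * g')⁻¹ = y by group] at hn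
  rw [hg, hQ, ← Subgroup.smul_sup, sup_conj _ hc]
  exact Subgroup.Normal.conj_smul_eq_self g ⊤

end Cfsg.Agent.S0260
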