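import Cfsg.Statements.S0263
import Cfsg.Agent.Lib.Linear.SLBasic

set_option autoImplicit false
open Cfsg
open scoped commutatorElement

namespace Cfsg.Agent.S0263

/-- A Sylow p-subgroup of GL_n(q), p the characteristic, has order q^(n(n-1)/2). -/
theorem result {F : Type*} [Field F] [Fintype F] {q : ℕ} (hF : Fintype.card F = q) (p : ℕ) [Fact p.Prime] [CharP F p] (n : ℕ) (P : Sylow p (Matrix.GeneralLinearGroup (Fin n) F)) : Nat.card P = q ^ (n * (n - 1) / 2) := by
  subst hF
  rw [Sylow.card_eq_multiplicity, Matrix.card_GL_field]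
  obtain ⟨f, hp, hcard⟩ := FiniteField.card F p
  have key : ∀ k : ℕ, 1 ≤ k → ¬ p ∣ Fintype.card F ^ k - 1 := by
    intro k hk h
    have h2 : p ∣ Fintype.card F ^ k :=
      dvd_pow (by rw [hcard]; exact dvd_pow_self p f.pos.ne') (by omega)
    have h3 := Nat.dvd_sub h2 h
    rw [Nat.sub_sub_self (Nat.one_le_pow _ _ Fintype.card_pos)] at h3
    exact (Fact.out : p.Prime).one_lt.ne' (Nat.dvd_one.1 h3)
  have hsplit : ∀ i : Fin n, Fintype.card F ^ n - Fintype.card F ^ (i : ℕ) =
      Fintype.card F ^ (i : ℕ) * (Fintype.card F ^ (n - i) - 1) := by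
    intro i
    rw [Nat.mul_sub_one, ← pow_add, Nat.add_sub_cancel' i.2.le]
  simp only [hsplit, Finset.prod_mul_distrib]
  have hs : (∑ i : Fin n, (i : ℕ)) = n * (n - 1) / 2 := by
    rw [Fin.sum_univ_eq_sum_range (fun i => i), Finset.sum_range_id]
  rw [Finset.prod_pow_eq_pow_sum, hs, hcard, ← pow_mul]
  have hne : ∀ i : Fin n, (p ^ (f : ℕ)) ^ (n - (i : ℕ)) - 1 ≠ 0 := fun i h0 =>
    key (n - i) (by omega) (by rw [hcard, h0]; exact dvd_zero _)
  rw [Nat.factorization_mul (pow_ne_zero _ (Fact.out : p.Prime).ne_zero)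
    (Finset.prod_ne_zero_iff.2 fun i _ => hne i), Nat.factorization_pow,
    Finsupp.add_apply, Finsupp.smul_apply, (Fact.out : p.Prime).factorization_self]
  rw [Nat.factorization_eq_zero_of_not_dvd (n := ∏ i : Fin n, _) ?_]
  · simp
  · rw [Prime.dvd_finsetProd_iff (Fact.out : p.Prime).prime]
    rintro ⟨i, _, hi⟩
    exact key (n - i) (by omega) (by rwa [hcard])

end Cfsg.Agent.S0263
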