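import Cfsg.Statements.S0264
import Cfsg.Agent.Lib.Linear.SLBasic

set_option autoImplicit false
open Cfsg
open scoped commutatorElement

namespace Cfsg.Agent.S0264

open Matrix in
/-- For `n = 2` each transvection is a commutator of a diagonal matrix and a transvection in `GL`. -/
theorem sl2_case {F : Type*} [Field F] (h : ∃ a : F, a ≠ 0 ∧ a ≠ 1) :
    (Matrix.GeneralLinearGroup.det : Matrix.GeneralLinearGroup (Fin 2) F →* Fˣ).ker ≤
      commutator (Matrix.GeneralLinearGroup (Fin 2) F) := by
  obtain ⟨a, ha, ha1⟩ := h
  rw [← Cfsg.Lib.Linear.range_toGL, MonoidHom.range_eq_map,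
    ← Cfsg.Lib.Linear.closure_transvection_eq_top, MonoidHom.map_closure, Subgroup.closure_le]
  rintro _ ⟨_, ⟨i, j, hij, c, rfl⟩, rfl⟩
  let d : GL (Fin 2) F := GeneralLinearGroup.mkOfDetNeZero
    (Matrix.diagonal (fun k => if k = i then a else 1)) (by
      rw [Matrix.det_diagonal, Finset.prod_ne_zero_iff]
      intro k _
      split_ifs <;> simp [ha])
  let b := c / (a - 1)
  have e : Matrix.SpecialLinearGroup.toGL (Matrix.SpecialLinearGroup.transvection hij c) =
      ⁅d, Matrix.SpecialLinearGroup.toGL (Matrix.SpecialLinearGroup.transvection hij b)⁆ := by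
    have hb : a * b = c + b := by
      have : a - 1 ≠ 0 := sub_ne_zero.2 ha1
      simp only [b]
      field_simp
      ring
    have : Matrix.SpecialLinearGroup.toGL (Matrix.SpecialLinearGroup.transvection hij (c + b)) * d =
        d * Matrix.SpecialLinearGroup.toGL (Matrix.SpecialLinearGroup.transvection hij b) := by
      apply Units.ext
      simp [d, Matrix.SpecialLinearGroup.transvection_coe, add_mul, mul_add, hb.symm,
        Matrix.single_mul_mul_single]
      apply Matrix.ext
      intro r s
      simp [Matrix.diagonal_apply, Matrix.single_apply]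
      grind
    rw [commutatorElement_def, ← eq_mul_inv_of_mul_eq this, ← map_inv, ← map_mul,
      Matrix.SpecialLinearGroup.transvection_inv, ← Matrix.SpecialLinearGroup.transvection_add,
      add_neg_cancel_right]
  rw [SetLike.mem_coe, e]
  exact Subgroup.commutator_mem_commutator (Subgroup.mem_top _) (Subgroup.mem_top _)


/-- GL_n(F)' = SL_n(F) (as the kernel of det), for every field F and every n, except n = 2 over the field of two elements. -/
theorem result {F : Type*} [Field F] (n : ℕ) (h : n = 2 → ∃ a : F, a ≠ 0 ∧ a ≠ 1) : commutator (Matrix.GeneralLinearGroup (Fin n) F) = (Matrix.GeneralLinearGroup.det : Matrix.GeneralLinearGroup (Fin n) F →* Fˣ).ker := by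
  refine le_antisymm ?_ ?_
  · rw [commutator_def, Subgroup.commutator_le]
    intro a _ b _
    rw [MonoidHom.mem_ker, map_commutatorElement]
    exact commutatorElement_eq_one_iff_commute.2 (Commute.all _ _)
  · have key : ∀ (hSL : commutator (Matrix.SpecialLinearGroup (Fin n) F) = ⊤),
        (Matrix.GeneralLinearGroup.det : Matrix.GeneralLinearGroup (Fin n) F →* Fˣ).ker ≤
          commutator (Matrix.GeneralLinearGroup (Fin n) F) := by
      intro hSL
      rw [← Cfsg.Lib.Linear.range_toGL, MonoidHom.range_eq_map, ← hSL, commutator_def,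
        Subgroup.map_commutator, commutator_def]
      exact Subgroup.commutator_mono le_top le_top
    rcases Nat.lt_or_ge n 3 with hn | hn
    · rcases Nat.lt_or_ge n 2 with hn' | hn'
      · have : Subsingleton (Fin n) := Fin.subsingleton_iff_le_one.2 (by omega)
        exact key (Subsingleton.elim _ _)
      · obtain rfl : n = 2 := by omega
        exact sl2_case (h rfl)
    · exact key (Cfsg.Lib.Linear.commutator_SL_eq_top (by simpa using hn))

end Cfsg.Agent.S0264
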