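import Cfsg.Statements.S0267
import Mathlib
import Cfsg.Agent.S0266
open scoped LinearAlgebra.Projectivization

set_option autoImplicit false
open Cfsg

namespace Cfsg.Agent.S0267

theorem sl_smul {F : Type*} [Field F] (g : Matrix.SpecialLinearGroup (Fin 2) F) {w : Fin 2 → F} (hw : w ≠ 0) :
    g • Projectivization.mk F w hw = Projectivization.mk F (g • w) ((smul_ne_zero_iff_ne g).2 hw) := rfl

theorem sl_smul_vec {F : Type*} [Field F] (g : Matrix.SpecialLinearGroup (Fin 2) F) (w : Fin 2 → F) (i : Fin 2) :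
    (g • w) i = g.val i 0 * w 0 + g.val i 1 * w 1 := by
  show (g.val • w) i = _
  simp [Matrix.smul_eq_mulVec, Matrix.mulVec, dotProduct, Fin.sum_univ_two]

/-- SL_2(q) is 3-transitive on the q+1 points of the projective line if and only if q is even. -/
theorem result {F : Type*} [Field F] [Fintype F] : MulAction.IsMultiplyPretransitive (Matrix.SpecialLinearGroup (Fin 2) F) (Projectivization F (Fin 2 → F)) 3 ↔ ringChar F = 2 := by
  have hP : (![1, 0] : Fin 2 → F) ≠ 0 := fun h => one_ne_zero (congrFun h 0)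
  have hQ : (![0, 1] : Fin 2 → F) ≠ 0 := fun h => one_ne_zero (congrFun h 1)
  have hR : (![1, 1] : Fin 2 → F) ≠ 0 := fun h => one_ne_zero (congrFun h 0)
  constructor
  · intro h
    by_contra h2
    obtain ⟨t, ht⟩ := FiniteField.exists_nonsquare h2
    have ht0 : t ≠ 0 := fun e => ht (e ▸ IsSquare.zero)
    have hT : (![1, t] : Fin 2 → F) ≠ 0 := fun e => one_ne_zero (congrFun e 0)
    have hdist : ∀ (s : F) (hs : (![1, s] : Fin 2 → F) ≠ 0), s ≠ 0 →
        Function.Injective ![Projectivization.mk F _ hP, Projectivization.mk F _ hQ, Projectivization.mk F _ hs] := by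
      intro s hs hs0 i j hij
      fin_cases i <;> fin_cases j <;> simp [Projectivization.mk_eq_mk_iff', funext_iff, Fin.forall_fin_two] at hij ⊢ <;> simp_all
    have hex := h.exists_smul_eq ⟨_, hdist 1 hR one_ne_zero⟩ ⟨_, hdist t hT ht0⟩
    obtain ⟨g, hg⟩ := hex
    have e0 := congrArg (fun e : Fin 3 ↪ ℙ F (Fin 2 → F) => e 0) hg
    have e1 := congrArg (fun e : Fin 3 ↪ ℙ F (Fin 2 → F) => e 1) hg
    have e2 := congrArg (fun e : Fin 3 ↪ ℙ F (Fin 2 → F) => e 2) hg
    simp only [Function.Embedding.smul_apply, Function.Embedding.coeFn_mk, Matrix.cons_val_zero, Matrix.cons_val_one,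
      Matrix.cons_val, sl_smul, Projectivization.mk_eq_mk_iff', funext_iff, Fin.forall_fin_two, sl_smul_vec,
      Pi.smul_apply, smul_eq_mul, mul_zero, mul_one, add_zero, zero_add] at e0 e1 e2
    obtain ⟨x, -, hx⟩ := e0
    obtain ⟨y, hy, -⟩ := e1
    obtain ⟨z, hz, hz'⟩ := e2
    have hdet : g.val 0 0 * g.val 1 1 - g.val 0 1 * g.val 1 0 = 1 := by rw [← Matrix.det_fin_two]; exact g.2
    rw [← hy, ← hx] at hdet
    rw [← hy] at hz
    rw [← hx] at hz'
    have hsq : t * z ^ 2 = 1 := by linear_combination hdet + z * hz' + g.val 1 1 * hz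
    exact ht ⟨z⁻¹, by
      have hz0 : z ≠ 0 := fun e => by rw [e] at hsq; simp at hsq
      field_simp; linear_combination hsq⟩
  · intro h
    have key : ∀ a : Fin 3 ↪ ℙ F (Fin 2 → F), ∃ g : Matrix.SpecialLinearGroup (Fin 2) F,
        g • Projectivization.mk F _ hP = a 0 ∧ g • Projectivization.mk F _ hQ = a 1 ∧ g • Projectivization.mk F _ hR = a 2 := by
      intro a
      obtain ⟨g, u, v, hu, hv, huv, e0, e1, e2, hg⟩ := Cfsg.Agent.S0266.decomp (a 0) (a 1) (a 2)
        (a.injective.ne (by decide)) (a.injective.ne (by decide)) (a.injective.ne (by decide))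
      have hd0 : g.val.det ≠ 0 := g.det.ne_zero
      obtain ⟨r, hr⟩ := FiniteField.isSquare_of_char_two h g.val.det
      have hr0 : r ≠ 0 := fun e => hd0 (by rw [hr, e, mul_zero])
      obtain ⟨s, hs⟩ : ∃ s : Matrix.SpecialLinearGroup (Fin 2) F, s.val = r⁻¹ • g.val :=
        ⟨⟨r⁻¹ • g.val, by rw [Matrix.det_smul, Fintype.card_fin, hr]; field_simp⟩, rfl⟩
      refine ⟨s, ?_, ?_, ?_⟩
      · rw [sl_smul, ← e0, Projectivization.mk_eq_mk_iff']
        exact ⟨r⁻¹, funext fun i => by rw [sl_smul_vec, hs, hg]; fin_cases i <;> simp⟩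
      · rw [sl_smul, ← e1, Projectivization.mk_eq_mk_iff']
        exact ⟨r⁻¹, funext fun i => by rw [sl_smul_vec, hs, hg]; fin_cases i <;> simp⟩
      · rw [sl_smul, ← e2, Projectivization.mk_eq_mk_iff']
        exact ⟨r⁻¹, funext fun i => by rw [sl_smul_vec, hs, hg]; fin_cases i <;> simp <;> ring⟩
    refine ⟨fun a b => ?_⟩
    obtain ⟨g, g0, g1, g2⟩ := key a
    obtain ⟨s, k0, k1, k2⟩ := key b
    refine ⟨s * g⁻¹, Function.Embedding.ext fun i => ?_⟩
    rw [Function.Embedding.smul_apply, mul_smul]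
    fin_cases i
    · show s • g⁻¹ • a 0 = b 0
      rw [← g0, inv_smul_smul, k0]
    · show s • g⁻¹ • a 1 = b 1
      rw [← g1, inv_smul_smul, k1]
    · show s • g⁻¹ • a 2 = b 2
      rw [← g2, inv_smul_smul, k2]

end Cfsg.Agent.S0267
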