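import Cfsg.Statements.S0268
import Mathlib

set_option autoImplicit false
open Cfsg

namespace Cfsg.Agent.S0268

/-- For q odd, -1 is the unique involution of SL_2(q). -/
theorem result {F : Type*} [Field F] [Fintype F] (hF : Odd (Fintype.card F)) (g : Matrix.SpecialLinearGroup (Fin 2) F) (h1 : g ≠ 1) (h2 : g * g = 1) : (g : Matrix (Fin 2) (Fin 2) F) = -1 := by
  have hdet : g.val 0 0 * g.val 1 1 - g.val 0 1 * g.val 1 0 = 1 := by rw [← Matrix.det_fin_two]; exact g.2
  have hinv : g⁻¹ = g := inv_eq_of_mul_eq_one_left h2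
  have e := congrArg (fun x : Matrix.SpecialLinearGroup (Fin 2) F => x.val) hinv
  simp only [Matrix.SpecialLinearGroup.coe_inv, Matrix.adjugate_fin_two] at e
  have e0 := congrFun (congrFun e 0) 0
  have e1 := congrFun (congrFun e 0) 1
  have e2 := congrFun (congrFun e 1) 0
  simp at e0 e1 e2
  have h20 : (2 : F) ≠ 0 := by
    intro h
    have : CharP F 2 := CharTwo.of_one_ne_zero_of_two_eq_zero one_ne_zero h
    have := FiniteField.even_card_of_char_two ((ringChar.eq F 2))
    rw [Nat.odd_iff] at hF
    omega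
  have hb : g.val 0 1 = 0 := (mul_eq_zero.1 (show (2 : F) * g.val 0 1 = 0 by linear_combination -e1)).resolve_left h20
  have hc : g.val 1 0 = 0 := (mul_eq_zero.1 (show (2 : F) * g.val 1 0 = 0 by linear_combination -e2)).resolve_left h20
  rw [e0, hb, zero_mul, sub_zero, mul_self_eq_one_iff] at hdet
  rcases hdet with hd | hd
  · exact absurd (Matrix.SpecialLinearGroup.ext _ _ fun i j => by
      fin_cases i <;> fin_cases j <;> simp [hb, hc, hd, e0]) h1
  · ext i j
    fin_cases i <;> fin_cases j <;> simp [hb, hc, hd, e0]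

end Cfsg.Agent.S0268
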