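import Cfsg.Statements.S0273
import Cfsg.Agent.Lib.Linear.GLTwo
open scoped Pointwise

set_option autoImplicit false
open Cfsg

namespace Cfsg.Agent.S0273

open Cfsg.Lib.Linear in
theorem card_centralizer_of_mem {F : Type*} [Field F] [Fintype F] (k : GL (Fin 2) F) (hk : k ∈ Two.UG F) (hne : k ≠ 1) :
    Nat.card (Subgroup.centralizer ({k} : Set (GL (Fin 2) F))) = Fintype.card F * (Fintype.card F - 1) := by
  obtain ⟨h0, h1, h2⟩ := Two.mem_UG.1 hk
  have ht : k.val 0 1 ≠ 0 := fun e => hne (Units.ext (by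
    ext i j; fin_cases i <;> fin_cases j <;> simp [h0, h1, h2, e]))
  have hiff : ∀ g : GL (Fin 2) F, g ∈ Subgroup.centralizer ({k} : Set (GL (Fin 2) F)) ↔ g.val 1 0 = 0 ∧ g.val 0 0 = g.val 1 1 := by
    intro g
    rw [Subgroup.mem_centralizer_singleton_iff]
    constructor
    · intro h
      have e := congrFun (congrFun (congrArg (fun x : GL (Fin 2) F => x.val) h) 0) 0
      have e' := congrFun (congrFun (congrArg (fun x : GL (Fin 2) F => x.val) h) 0) 1
      simp only [Units.val_mul, Matrix.mul_apply, Fin.sum_univ_two, h0, h1, h2, one_mul, mul_one, mul_zero, add_zero] at e e'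
      refine ⟨?_, ?_⟩
      · have : k.val 0 1 * g.val 1 0 = 0 := by linear_combination -e
        exact (mul_eq_zero.1 this).resolve_left ht
      · exact mul_right_cancel₀ ht (by linear_combination e')
    · rintro ⟨hg, hd⟩
      refine Units.ext ?_
      ext i j
      fin_cases i <;> fin_cases j <;> simp [Matrix.mul_apply, Fin.sum_univ_two, h0, h1, h2, hg, hd]
      ring
  have hne0 : ∀ g : GL (Fin 2) F, g.val 1 0 = 0 ∧ g.val 0 0 = g.val 1 1 → g.val 0 0 ≠ 0 := by
    rintro g ⟨hg, hd⟩ e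
    apply g.det.ne_zero
    rw [Matrix.GeneralLinearGroup.val_det_apply, Matrix.det_fin_two, hg, e]; ring
  rw [← Cfsg.Lib.Linear.card_units_eq, ← Nat.card_eq_fintype_card (α := F), ← Nat.card_prod F Fˣ]
  refine (Nat.card_congr (Equiv.subtypeEquivRight hiff)).trans (Nat.card_congr
    { toFun := fun g => (g.1.val 0 1, Units.mk0 _ (hne0 _ g.2))
      invFun := fun x => ⟨(Two.exists_GL (x.2 : F) x.1 x.2 (mul_ne_zero x.2.ne_zero x.2.ne_zero)).choose, by
        rw [(Two.exists_GL (x.2 : F) x.1 x.2 (mul_ne_zero x.2.ne_zero x.2.ne_zero)).choose_spec]; exact ⟨rfl, rfl⟩⟩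
      left_inv := fun g => ?_
      right_inv := fun x => ?_ })
  · refine Subtype.ext (Units.ext ?_)
    simp only [Units.val_mk0]
    rw [(Two.exists_GL (g.1.val 0 0) (g.1.val 0 1) (g.1.val 0 0) (mul_ne_zero (hne0 _ g.2) (hne0 _ g.2))).choose_spec]
    ext i j; fin_cases i <;> fin_cases j <;> simp [g.2.1, g.2.2]
  · have hs := (Two.exists_GL (x.2 : F) x.1 x.2 (mul_ne_zero x.2.ne_zero x.2.ne_zero)).choose_spec
    refine Prod.ext ?_ (Units.ext ?_) <;> simp [hs]

/-- In GL_2(q) the centraliser of a non-trivial element of a Sylow p-subgroup (p the characteristic) has order q (q-1): the Sylow subgroup times the scalars. -/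
theorem result {F : Type*} [Field F] [Fintype F] {q : ℕ} (hF : Fintype.card F = q) (p : ℕ) [Fact p.Prime] [CharP F p] (P : Sylow p (Matrix.GeneralLinearGroup (Fin 2) F)) (a : Matrix.GeneralLinearGroup (Fin 2) F) (ha : a ∈ P) (ha1 : a ≠ 1) : Nat.card (Subgroup.centralizer ({a} : Set (Matrix.GeneralLinearGroup (Fin 2) F))) = q * (q - 1) := by
  obtain ⟨g, hg⟩ := Cfsg.Lib.Linear.Two.exists_conj_UG p P
  have ha' : a ∈ (P : Subgroup (Matrix.GeneralLinearGroup (Fin 2) F)) := ha
  rw [hg, Subgroup.mem_smul_pointwise_iff_exists] at ha'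
  obtain ⟨k, hk, rfl⟩ := ha'
  rw [← hF, ← card_centralizer_of_mem k hk (fun e => ha1 (by simp [e]))]
  refine (Nat.card_congr ((MulAut.conj g).toEquiv.subtypeEquiv fun x => ?_)).symm
  simp only [Subgroup.mem_centralizer_singleton_iff]
  show _ ↔ g * x * g⁻¹ * (g * k * g⁻¹) = g * k * g⁻¹ * (g * x * g⁻¹)
  rw [show g * x * g⁻¹ * (g * k * g⁻¹) = g * (x * k) * g⁻¹ by group,
    show g * k * g⁻¹ * (g * x * g⁻¹) = g * (k * x) * g⁻¹ by group, mul_left_inj, mul_right_inj]

end Cfsg.Agent.S0273
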