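import Cfsg.Statements.S0274
import Cfsg.Agent.Lib.Linear.DicksonTwo

set_option autoImplicit false
open Cfsg

namespace Cfsg.Agent.S0274

/-- Dickson's Theorem for SL_2: if p is odd and H is a subgroup of SL_2(q), q a power of p, with more than one Sylow p-subgroup, then H contains a copy of SL_2(p). -/
theorem result {F : Type*} [Field F] [Fintype F] (p : ℕ) [Fact p.Prime] [CharP F p] (hp : p ≠ 2) (H : Subgroup (Matrix.SpecialLinearGroup (Fin 2) F)) (hH : 1 < Nat.card (Sylow p H)) : ∃ K : Subgroup (Matrix.SpecialLinearGroup (Fin 2) F), K ≤ H ∧ Nonempty (K ≃* Matrix.SpecialLinearGroup (Fin 2) (ZMod p)) := by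
  classical
  haveI : Finite H := inferInstance
  haveI : Nontrivial (Sylow p H) := Finite.one_lt_card_iff_nontrivial.1 hH
  obtain ⟨P, Q, hPQ⟩ := exists_pair_ne (Sylow p H)
  obtain ⟨u, hu, w, hw, hne⟩ : ∃ u ∈ (P : Subgroup H), ∃ w ∈ (Q : Subgroup H),
      ¬ Commute (u : Matrix.SpecialLinearGroup (Fin 2) F) (w : Matrix.SpecialLinearGroup (Fin 2) F) := by
    by_contra hcon
    push Not at hcon
    have hle : (P : Subgroup H) ≤ Subgroup.normalizer ((Q : Subgroup H) : Set H) := by
      intro a ha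
      refine Subgroup.mem_normalizer_fintype fun b hb => ?_
      have h : Commute a b := Subtype.ext (hcon a ha b hb).eq
      show a * b * a⁻¹ ∈ (Q : Subgroup H)
      rw [h.eq, mul_inv_cancel_right]
      exact hb
    have hsup := P.isPGroup'.to_sup_of_normal_right' Q.isPGroup' hle
    exact hPQ (Sylow.ext ((P.is_maximal' hsup le_sup_left).symm.trans (Q.is_maximal' hsup le_sup_right)))
  obtain ⟨i, hi⟩ := P.isPGroup' ⟨u, hu⟩
  obtain ⟨j, hj⟩ := Q.isPGroup' ⟨w, hw⟩
  have hi' : (u : Matrix.SpecialLinearGroup (Fin 2) F) ^ p ^ i = 1 :=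
    congrArg Subtype.val (congrArg Subtype.val hi)
  have hj' : (w : Matrix.SpecialLinearGroup (Fin 2) F) ^ p ^ j = 1 :=
    congrArg Subtype.val (congrArg Subtype.val hj)
  obtain ⟨g, hg⟩ := Cfsg.Lib.Linear.Dickson.exists_SL2_map_le hp H u.2 w.2 hi' hj' hne
  let φ := (Cfsg.Lib.Linear.Dickson.conjGL g).comp
    (Matrix.SpecialLinearGroup.map (n := Fin 2) (ZMod.castHom (dvd_refl p) F))
  have hφ : Function.Injective φ := by
    refine (Cfsg.Lib.Linear.Dickson.conjGL_injective g).comp fun a b hab => ?_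
    refine Cfsg.Lib.Linear.Dickson.ext_two ?_ ?_ ?_ ?_ <;>
      exact (ZMod.castHom (dvd_refl p) F).injective
        (congrArg (fun x : Matrix.SpecialLinearGroup (Fin 2) F => x _ _) hab)
  exact ⟨φ.range, by rintro _ ⟨A, rfl⟩; exact hg A, ⟨(MonoidHom.ofInjective hφ).symm⟩⟩

end Cfsg.Agent.S0274
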