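import Cfsg.Statements.S0275
import Cfsg.Agent.Lib.Linear.DicksonTwo
import Cfsg.Agent.Lib.PGroup.SameOrderIso
-- import your own Cfsg.Agent.* helpers here

set_option autoImplicit false
open Cfsg

namespace Cfsg.Agent.S0275

open Cfsg.Lib.Linear.Dickson
open scoped MatrixGroups

theorem main {F : Type*} [Field F] [Fintype F] (p : ℕ) [Fact p.Prime] [CharP F p] (hp : p ≠ 2)
    (H : Subgroup SL(2, F)) (hH : 1 < Nat.card (Sylow p H)) (S : Sylow 2 H) :
    ∃ k : ℕ, 1 ≤ k ∧ Nonempty ((S : Subgroup H) ≃* QuaternionGroup (2 ^ k)) := by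
  classical
  haveI : Fact (Nat.Prime 2) := ⟨Nat.prime_two⟩
  -- two noncommuting `p`-elements
  obtain ⟨u, w, i, j, hu, hw, hne⟩ : ∃ (u w : H) (i j : ℕ),
      u ^ p ^ i = 1 ∧ w ^ p ^ j = 1 ∧ ¬ Commute u w := by
    by_contra! hall
    obtain ⟨P, Q, hPQ⟩ := (Finite.one_lt_card_iff_nontrivial.1 hH).exists_pair_ne
    have hc : (P : Subgroup H) ≤ Subgroup.centralizer ((Q : Subgroup H) : Set H) := by
      intro x hx
      rw [Subgroup.mem_centralizer_iff]
      intro y hy
      obtain ⟨i, hi⟩ := P.2 ⟨x, hx⟩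
      obtain ⟨j, hj⟩ := Q.2 ⟨y, hy⟩
      exact (hall y x j i (congrArg Subtype.val hj) (congrArg Subtype.val hi)).eq
    have hsup := IsPGroup.to_sup_of_normal_right' P.2 Q.2
      (hc.trans (Subgroup.centralizer_le_normalizer _))
    exact hPQ (Sylow.ext ((P.3 hsup le_sup_left).symm.trans (Q.3 hsup le_sup_right)))
  obtain ⟨g, hg⟩ := exists_SL2_map_le (p := p) hp H u.2 w.2
    (by simpa using congrArg Subtype.val hu) (by simpa using congrArg Subtype.val hw)
    (fun h => hne (Subtype.ext h.eq))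
  have two : (2 : F) ≠ 0 := two_ne_zero' (p := p) hp
  -- a quaternion pair over the prime field
  obtain ⟨a, b, hab⟩ := ZMod.sq_add_sq p (-1 : ZMod p)
  let I₀ : SL(2, ZMod p) := ⟨!![0, 1; -1, 0], by simp [Matrix.det_fin_two]⟩
  let J₀ : SL(2, ZMod p) := ⟨!![a, b; b, -a], by
    simp [Matrix.det_fin_two]; linear_combination -hab⟩
  have hI4 : I₀ ^ 4 = 1 := by
    apply Subtype.ext
    rw [Matrix.SpecialLinearGroup.coe_pow]
    ext r s
    fin_cases r <;> fin_cases s <;> simp [I₀, pow_succ, Matrix.mul_apply, Fin.sum_univ_two]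
  have hJ4 : J₀ ^ 4 = 1 := by
    apply Subtype.ext
    rw [Matrix.SpecialLinearGroup.coe_pow]
    ext r s
    fin_cases r <;> fin_cases s <;> simp [J₀, pow_succ, Matrix.mul_apply, Fin.sum_univ_two] <;>
      grind
  have hconj : J₀ * I₀ = I₀⁻¹ * J₀ := by
    apply Subtype.ext
    rw [Matrix.SpecialLinearGroup.coe_mul, Matrix.SpecialLinearGroup.coe_mul,
      Matrix.SpecialLinearGroup.coe_inv, Matrix.adjugate_fin_two]
    ext r s
    fin_cases r <;> fin_cases s <;> simp [I₀, J₀, Matrix.mul_apply, Fin.sum_univ_two]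
  let φ : SL(2, ZMod p) →* H :=
    { toFun := fun A => ⟨conjGL g (Matrix.SpecialLinearGroup.map (ZMod.castHom (dvd_refl p) F) A), hg A⟩
      map_one' := Subtype.ext (by simp)
      map_mul' := fun A B => Subtype.ext (by simp) }
  have hφ : Function.Injective φ := by
    intro A B h
    have h1 := conjGL_injective g (congrArg Subtype.val h)
    apply Subtype.ext
    ext r s
    have h2 := congrArg (fun X : SL(2, F) => (X : Matrix (Fin 2) (Fin 2) F) r s) h1
    simp [Matrix.SpecialLinearGroup.map] at h2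
    exact (ZMod.castHom (dvd_refl p) F).injective h2
  have hncomm : ¬ Commute (φ I₀) (φ J₀) := by
    intro h
    have h1 : I₀ * J₀ = J₀ * I₀ := hφ (by rw [map_mul, map_mul]; exact h.eq)
    have e00 := congrArg (fun X : SL(2, ZMod p) => (X : Matrix (Fin 2) (Fin 2) (ZMod p)) 0 0) h1
    have e01 := congrArg (fun X : SL(2, ZMod p) => (X : Matrix (Fin 2) (Fin 2) (ZMod p)) 0 1) h1
    simp only [Matrix.SpecialLinearGroup.coe_mul] at e00 e01
    simp [I₀, J₀, Matrix.mul_apply, Fin.sum_univ_two] at e00 e01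
    have h2 : (2 : ZMod p) ≠ 0 := two_ne_zero' (F := ZMod p) (p := p) hp
    have hb : b = 0 := by
      have : (2 : ZMod p) * b = 0 := by
        first
          | linear_combination e00
          | linear_combination -e00
      simpa [h2] using this
    have ha : a = 0 := by
      have : (2 : ZMod p) * a = 0 := by
        first
          | linear_combination e01
          | linear_combination -e01
      simpa [h2] using this
    simp [ha, hb] at hab
  have hncyc : ¬ IsCyclic (S : Subgroup H) := by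
    intro hc
    have hp4 : ∀ x : H, x ^ 4 = 1 → IsPGroup 2 (Subgroup.zpowers x) := by
      intro x hx y
      obtain ⟨k, hk⟩ := Subgroup.mem_zpowers_iff.mp y.2
      refine ⟨2, Subtype.ext ?_⟩
      push_cast
      rw [← hk, ← zpow_natCast, ← zpow_mul, mul_comm, zpow_mul]
      norm_num
      rw [hx, one_zpow]
    have hnorm : Subgroup.zpowers (φ J₀) ≤ Subgroup.normalizer ((Subgroup.zpowers (φ I₀)) : Set H) := by
      rw [Subgroup.zpowers_le, Subgroup.mem_normalizer_iff_map_conj_eq, MonoidHom.map_zpowers]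
      have : MulAut.conj (φ J₀) (φ I₀) = (φ I₀)⁻¹ := by
        rw [MulAut.conj_apply, ← map_mul, hconj, map_mul, map_inv, mul_inv_cancel_right]
      rw [show ((MulAut.conj (φ J₀) : H →* H)) (φ I₀) = (φ I₀)⁻¹ from this, Subgroup.zpowers_inv]
    have hR := IsPGroup.to_sup_of_normal_right'
      (hp4 _ (by rw [← map_pow, hJ4, map_one])) (hp4 _ (by rw [← map_pow, hI4, map_one])) hnorm
    obtain ⟨T, hT⟩ := hR.exists_le_sylow
    haveI : IsCyclic (T : Subgroup H) := isCyclic_of_surjective _ (Sylow.equiv S T).surjective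
    letI := IsCyclic.commGroup (α := (T : Subgroup H))
    exact hncomm (congrArg Subtype.val (mul_comm
      (⟨φ I₀, hT (Subgroup.mem_sup_right (Subgroup.mem_zpowers _))⟩ : (T : Subgroup H))
      ⟨φ J₀, hT (Subgroup.mem_sup_left (Subgroup.mem_zpowers _))⟩))
  have huniq : ∀ A B : Subgroup (S : Subgroup H), Nat.card A = 2 → Nat.card B = 2 → A = B := by
    have key : ∀ A : Subgroup (S : Subgroup H), Nat.card A = 2 → ∃ z : (S : Subgroup H),
        A = Subgroup.zpowers z ∧ (((z : H) : SL(2, F)) : Matrix (Fin 2) (Fin 2) F) = -1 := by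
      intro A hA
      obtain ⟨z, hz⟩ := exists_prime_orderOf_dvd_card' (G := A) 2 (by rw [hA])
      rw [← Subgroup.orderOf_coe] at hz
      refine ⟨z, (Subgroup.eq_of_le_of_card_ge (Subgroup.zpowers_le.2 z.2)
        (by rw [Nat.card_zpowers, hz, hA])).symm, ?_⟩
      have h1 : (((z : (S : Subgroup H)) : H) : SL(2, F)) * (((z : (S : Subgroup H)) : H) : SL(2, F)) = 1 := by
        have := pow_orderOf_eq_one (z : (S : Subgroup H))
        rw [hz, sq] at this
        simpa using congrArg (fun x : (S : Subgroup H) => ((x : H) : SL(2, F))) this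
      have hne1 : (((z : (S : Subgroup H)) : H) : SL(2, F)) ≠ 1 := by
        intro e
        have : (z : (S : Subgroup H)) = 1 := Subtype.ext (Subtype.ext e)
        rw [this, orderOf_one] at hz
        omega
      obtain ⟨r, hr2, hr⟩ :=
        Matrix.SpecialLinearGroup.mem_center_iff.mp (mem_center_of_sq_eq_one two h1)
      rw [Fintype.card_fin, sq] at hr2
      rcases mul_self_eq_one_iff.mp hr2 with e | e <;> rw [e] at hr
      · exact absurd (Subtype.ext (by rw [← hr, map_one]; rfl)) hne1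
      · rw [← hr, map_neg, map_one]
    intro A B hA hB
    obtain ⟨x, rfl, hx⟩ := key A hA
    obtain ⟨y, rfl, hy⟩ := key B hB
    rw [show x = y from Subtype.ext (Subtype.ext (Subtype.ext (hx.trans hy.symm)))]
  rcases Cfsg.Agent.S0016.result 2 S.2 huniq with h | ⟨-, k, ⟨e⟩⟩
  · exact absurd h hncyc
  · refine ⟨k, Nat.one_le_iff_ne_zero.mpr ?_, ⟨e⟩⟩
    rintro rfl
    haveI := Cfsg.Lib.PGroup.SameOrder.quaternion_card_four_cyclic
    exact hncyc (isCyclic_of_surjective _ e.symm.surjective)

/-- If p is odd and H is a subgroup of SL_2(q), q a power of p, with more than one Sylow p-subgroup, then the Sylow 2-subgroups of H are generalised quaternion. -/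
theorem result {F : Type*} [Field F] [Fintype F] (p : ℕ) [Fact p.Prime] [CharP F p] (hp : p ≠ 2) (H : Subgroup (Matrix.SpecialLinearGroup (Fin 2) F)) (hH : 1 < Nat.card (Sylow p H)) (S : Sylow 2 H) : ∃ k : ℕ, 1 ≤ k ∧ Nonempty ((S : Subgroup H) ≃* QuaternionGroup (2 ^ k)) := by
  exact main p hp H hH S

end Cfsg.Agent.S0275
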