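import Cfsg.Statements.S0282
import Cfsg.Agent.Lib.H3.UnitaryThreeTwo
import Mathlib.GroupTheory.Nilpotent

set_option linter.style.haveILetI false

set_option autoImplicit false
open Cfsg

namespace Cfsg.Agent.S0282

/-- PSU_3(2) is a solvable group of order 72. -/
theorem result {F : Type*} [Field F] [Fintype F] (hF : Fintype.card F = 4) : Nat.card (Cfsg.PSU 3 F 2) = 72 ∧ Group.IsSolvable (Cfsg.PSU 3 F 2) := by
  obtain ⟨hcard, f, hf, hc, h3⟩ := Cfsg.Lib.H3.UnitaryThreeTwo.exists_hom hF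
  refine ⟨hcard, ?_⟩
  haveI : Fact (Nat.Prime 3) := ⟨by norm_num⟩
  haveI : Fact (Nat.Prime 2) := ⟨Nat.prime_two⟩
  haveI : Finite (Cfsg.PSU 3 F 2) := Nat.finite_of_card_ne_zero (by rw [hcard]; norm_num)
  haveI : Group.IsNilpotent f.ker := (IsPGroup.of_card (p := 3) (n := 2) (by rw [hc]; norm_num)).isNilpotent
  haveI : Group.IsNilpotent (QuaternionGroup 2) := (IsPGroup.of_card (p := 2) (n := 3) (by
    rw [Nat.card_eq_fintype_card, QuaternionGroup.card]; norm_num)).isNilpotent
  exact solvable_of_ker_le_range f.ker.subtype f (le_of_eq f.ker.range_subtype.symm)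

end Cfsg.Agent.S0282
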