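import Cfsg.Statements.S0285
import Cfsg.Agent.Lib.Linear.HermStandard

set_option autoImplicit false
open Cfsg

namespace Cfsg.Agent.S0285

/-- The standard Hermitian form on F^n, |F| = q^2, has exactly (q^n - (-1)^n)(q^(n-1) + (-1)^n) non-zero isotropic vectors; counting the zero vector too: -/
theorem result {F : Type*} [Field F] [Fintype F] {q : ℕ} (hF : Fintype.card F = q ^ 2) (n : ℕ) : Nat.card {v : Fin n → F // Cfsg.hermForm n F q v v = 0} = (if Even n then (q ^ n - 1) * (q ^ (n - 1) + 1) else (q ^ n + 1) * (q ^ (n - 1) - 1)) + 1 := by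
  have hN : Nat.card {v : Fin n → F // Cfsg.hermForm n F q v v = 0} = Cfsg.Lib.Linear.Herm.N F q n 0 := by
    simp only [Cfsg.Lib.Linear.Herm.hermForm_self]; rfl
  have hq := Cfsg.Lib.Linear.Herm.two_le_q hF
  have h := (Cfsg.Lib.Linear.Herm.N_formula hF n).1
  rw [hN]
  rcases n with _ | i
  · simp at h ⊢
    have h0 : (q : ℤ) * (Cfsg.Lib.Linear.Herm.N F q 0 (0 : F) : ℤ) = (q : ℤ) * 1 := by rw [mul_one, h]
    exact_mod_cast mul_left_cancel₀ (by exact_mod_cast (show q ≠ 0 by omega)) h0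
  · have h1 : 1 ≤ q ^ (i + 1) := Nat.one_le_pow _ _ (by omega)
    have h2 : 1 ≤ q ^ i := Nat.one_le_pow _ _ (by omega)
    rw [Nat.add_sub_cancel]
    apply Nat.eq_of_mul_eq_mul_left (show 0 < q by omega)
    zify
    rw [h]
    by_cases he : Even (i + 1)
    · rw [if_pos he, Even.neg_one_pow he]; push_cast [Nat.cast_sub h1]; ring
    · rw [if_neg he, Odd.neg_one_pow (Nat.not_even_iff_odd.1 he)]; push_cast [Nat.cast_sub h2]; ring

end Cfsg.Agent.S0285
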