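import Cfsg.Statements.S0289
import Cfsg.Agent.Lib.Linear.OrthOrderStd

set_option autoImplicit false
open Cfsg

namespace Cfsg.Agent.S0289

open Module Cfsg.Lib.Linear.Orth
open scoped Matrix

theorem cast_pow_sub {q : ℕ} (hq : 1 ≤ q) (k : ℕ) : ((q ^ k - 1 : ℕ) : ℤ) = (q : ℤ) ^ k - 1 := by
  rw [Nat.cast_sub (Nat.one_le_pow k q hq)]; push_cast; ring

theorem two_ne {F : Type*} [Field F] [Fintype F] (hodd : Odd (Fintype.card F)) : (2 : F) ≠ 0 :=
  two_ne_zero_of_odd_card hodd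


/-- The hyperbolic quadratic form on F^(2m), m at least 1, has q^(2m-1) + q^m - q^(m-1) zeros (that is, (q^m - 1)(q^(m-1) + 1) non-zero isotropic vectors). -/
theorem result {F : Type*} [Field F] [Fintype F] {q : ℕ} (hF : Fintype.card F = q) (m : ℕ) (hm : 1 ≤ m) : Nat.card {v : Fin m ⊕ Fin m → F // Cfsg.quadFormPlus m F v = 0} = q ^ (2 * m - 1) + q ^ m - q ^ (m - 1) := by
  subst hF
  have hq : 1 ≤ Fintype.card F := Fintype.card_pos
  rw [← Nat.card_eq_fintype_card] at *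
  obtain ⟨k, rfl⟩ : ∃ k, m = k + 1 := ⟨m - 1, by omega⟩
  have h := (counts_plus (F := F) (k + 1)).1 (Nat.succ_ne_zero k)
  rw [show 0 + (k + 1) - 1 = k by omega] at h
  rw [show 2 * (k + 1) - 1 = 2 * k + 1 by omega, Nat.add_sub_cancel]
  apply Int.natCast_inj.mp
  rw [h, Nat.cast_sub (le_add_left (Nat.pow_le_pow_right hq (by omega : k ≤ k + 1)))]
  push_cast
  ring

end Cfsg.Agent.S0289
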