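import Cfsg.Statements.S0290
import Cfsg.Agent.Lib.Linear.OrthOrderStd

set_option autoImplicit false
open Cfsg

namespace Cfsg.Agent.S0290

open Module Cfsg.Lib.Linear.Orth
open scoped Matrix

theorem cast_pow_sub {q : ℕ} (hq : 1 ≤ q) (k : ℕ) : ((q ^ k - 1 : ℕ) : ℤ) = (q : ℤ) ^ k - 1 := by
  rw [Nat.cast_sub (Nat.one_le_pow k q hq)]; push_cast; ring

theorem two_ne {F : Type*} [Field F] [Fintype F] (hodd : Odd (Fintype.card F)) : (2 : F) ≠ 0 :=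
  two_ne_zero_of_odd_card hodd


/-- The minus-type quadratic form on F^(2m), m at least 1, has q^(2m-1) + q^(m-1) - q^m zeros (that is, (q^m + 1)(q^(m-1) - 1) non-zero isotropic vectors). -/
theorem result {F : Type*} [Field F] [Fintype F] {q : ℕ} (hF : Fintype.card F = q) (m : ℕ) (hm : 1 ≤ m) (a b : F) (hab : ∀ z₁ z₂ : F, z₁ ^ 2 + a * z₁ * z₂ + b * z₂ ^ 2 = 0 → z₁ = 0 ∧ z₂ = 0) : Nat.card {v : (Fin (m - 1) ⊕ Fin (m - 1)) ⊕ Fin 2 → F // Cfsg.quadFormMinus (m - 1) F a b v = 0} = q ^ (2 * m - 1) + q ^ (m - 1) - q ^ m := by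
  subst hF
  have hq : 1 ≤ Fintype.card F := Fintype.card_pos
  rw [← Nat.card_eq_fintype_card] at *
  obtain ⟨k, rfl⟩ : ∃ k, m = k + 1 := ⟨m - 1, by omega⟩
  obtain ⟨h1, h0, -⟩ := counts_minus (F := F) k hab
  rw [show 2 * (k + 1) - 1 = 2 * k + 1 by omega, Nat.add_sub_cancel]
  apply Int.natCast_inj.mp
  show (Nat.card {v // Cfsg.quadFormMinus k F a b v = 0} : ℤ) = _
  rw [Nat.cast_sub ((Nat.pow_le_pow_right hq (by omega : k + 1 ≤ 2 * k + 1)).trans (Nat.le_add_right _ _))]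
  push_cast
  rcases eq_or_ne k 0 with rfl | hk
  · rw [h0 rfl]; simp
  · rw [h1 hk, show 2 + k - 1 = k + 1 by omega]; ring

end Cfsg.Agent.S0290
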