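import Cfsg.Statements.S0298
import Cfsg.Agent.Lib.Linear.OrthSmallIso
import Cfsg.Agent.Lib.Linear.OrthOrderStd
import Cfsg.Agent.Lib.Linear.GLTwo

set_option autoImplicit false
open Cfsg

namespace Cfsg.Agent.S0298

open scoped Matrix
open Cfsg.Lib.Linear

theorem space_odd {F : Type*} [Field F] (h2 : (2 : F) ≠ 0) (m : ℕ) :
    ∃ B, Orth.Space (Cfsg.quadFormOdd m F) B := by
  exact Cfsg.Lib.Linear.Orth.exists_space (Cfsg.Lib.Linear.Orth.isQuad_odd (F := F) m h2)

section

variable {F : Type*} [Field F]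

/-- The trace zero matrix with given coordinates. -/
def adX : (Unit ⊕ (Fin 1 ⊕ Fin 1) → F) →ₗ[F] Matrix (Fin 2) (Fin 2) F where
  toFun v := !![v (.inl ()), v (.inr (.inl 0)); v (.inr (.inr 0)), -v (.inl ())]
  map_add' u v := by
    ext i j
    fin_cases i <;> fin_cases j <;> simp <;> ring
  map_smul' c v := by
    ext i j
    fin_cases i <;> fin_cases j <;> simp

/-- The coordinates of a trace zero matrix. -/
def adCo : Matrix (Fin 2) (Fin 2) F →ₗ[F] (Unit ⊕ (Fin 1 ⊕ Fin 1) → F) where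
  toFun N := Sum.elim (fun _ => N 0 0) (Sum.elim (fun _ => N 0 1) (fun _ => N 1 0))
  map_add' M N := by funext j; rcases j with j | j | j <;> simp
  map_smul' c M := by funext j; rcases j with j | j | j <;> simp

theorem co_X (v : Unit ⊕ (Fin 1 ⊕ Fin 1) → F) : adCo (adX v) = v := by
  funext j
  rcases j with j | j | j
  · simp [adCo, adX]
  · fin_cases j; simp [adCo, adX]
  · fin_cases j; simp [adCo, adX]

theorem closed (A : Matrix (Fin 2) (Fin 2) F) (v : Unit ⊕ (Fin 1 ⊕ Fin 1) → F) :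
    adX (adCo (A * adX v * A.adjugate)) = A * adX v * A.adjugate := by
  ext i j
  fin_cases i <;> fin_cases j <;>
    simp [adCo, adX, Matrix.adjugate_fin_two, Matrix.mul_apply, Fin.sum_univ_two] <;> ring

theorem norm_ad (A : Matrix (Fin 2) (Fin 2) F) (v : Unit ⊕ (Fin 1 ⊕ Fin 1) → F) :
    Cfsg.quadFormOdd 1 F (adCo (A * adX v * A.adjugate)) = A.det ^ 2 * Cfsg.quadFormOdd 1 F v := by
  simp [Cfsg.quadFormOdd, adCo, adX, Matrix.adjugate_fin_two, Matrix.mul_apply, Fin.sum_univ_two,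
    Matrix.det_fin_two]
  ring

/-- The adjoint representation. -/
theorem exists_ad (F : Type*) [Field F] :
    ∃ φ : Matrix.SpecialLinearGroup (Fin 2) F →* GL (Unit ⊕ (Fin 1 ⊕ Fin 1)) F,
      (∀ g, φ g ∈ Cfsg.isometryGroup F (Cfsg.quadFormOdd 1 F)) ∧
      ∀ z, φ z = 1 → ∃ c : F, c * c = 1 ∧ z.val = c • 1 := by
  obtain ⟨φ, hφ⟩ := SmallIso.exists_hom (G := Matrix.SpecialLinearGroup (Fin 2) F) adX adCo co_X
    (fun g => (LinearMap.mulLeft F g.val).comp (LinearMap.mulRight F g.val.adjugate))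
    (fun M => by simp)
    (fun g h M => by simp [Matrix.mul_assoc, Matrix.adjugate_mul_distrib])
    (fun g v => by
      have := closed g.val v
      simpa [Matrix.mul_assoc] using this)
  have hφ' : ∀ g v, adX ((φ g).val *ᵥ v) = g.val * adX v * g.val.adjugate := fun g v => by
    rw [hφ]; simp [Matrix.mul_assoc]
  refine ⟨φ, fun g v _ => ?_, fun z hz => ?_⟩
  · show Cfsg.quadFormOdd 1 F ((φ g).val *ᵥ v) = Cfsg.quadFormOdd 1 F v
    have h := congrArg adCo (hφ' g v)
    rw [co_X] at h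
    rw [h, norm_ad, g.2, one_pow, one_mul]
  · have hX : ∀ v, z.val * adX v = adX v * z.val := fun v => by
      have h : z.val * adX v * z.val.adjugate = adX v := by
        rw [← hφ', hz, Units.val_one, Matrix.one_mulVec]
      conv_rhs => rw [← h, Matrix.mul_assoc, Matrix.adjugate_mul, z.2, one_smul, Matrix.mul_one]
    have h1 := hX (Pi.single (.inr (.inl 0)) 1)
    have h2 := hX (Pi.single (.inr (.inr 0)) 1)
    have e1 := congrFun (congrFun h1 0) 1
    have e2 := congrFun (congrFun h1 1) 1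
    have e3 := congrFun (congrFun h2 0) 0
    simp [adX, Pi.single_apply, Matrix.mul_apply, Fin.sum_univ_two] at e1 e2 e3
    have hd := z.2
    rw [Matrix.det_fin_two, e2, e3, ← e1] at hd
    refine ⟨z.val 0 0, by linear_combination hd, ?_⟩
    ext i j
    fin_cases i <;> fin_cases j <;> simp [e1, e2, e3]

theorem omega_three [Fintype F] (hodd : Odd (Fintype.card F)) :
    Nonempty (Cfsg.POmega F (Cfsg.quadFormOdd 1 F) ≃* Matrix.ProjectiveSpecialLinearGroup (Fin 2) F) := by
  classical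
  have h2 : (2 : F) ≠ 0 := fun h => by
    haveI : CharP F 2 := CharTwo.of_one_ne_zero_of_two_eq_zero one_ne_zero h
    have h1 := FiniteField.even_card_of_char_two (ringChar.eq F 2)
    rw [Nat.odd_iff] at hodd
    omega
  obtain ⟨B, C⟩ := space_odd h2 1
  have hn : 2 ≤ Fintype.card (Unit ⊕ (Fin 1 ⊕ Fin 1)) := by simp
  obtain ⟨-, -, hi4⟩ := SmallIso.omega_facts C hn (Or.inl h2)
  obtain ⟨φ, hφ, hker⟩ := exists_ad F
  have hr : ∀ z, z ∈ φ.ker → ∃ c : F, c * c = 1 ∧ z.val = c • 1 := hker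
  obtain ⟨hk2, -⟩ := SmallIso.card_le_roots φ.ker (fun z => z.val 0 0) (fun x hx y hy e => by
    obtain ⟨c, -, hc⟩ := hr x hx
    obtain ⟨d, -, hd⟩ := hr y hy
    refine Subtype.ext ?_
    rw [hc, hd] at e
    rw [hc, hd]
    simp at e
    rw [e]) (fun x hx => by
    obtain ⟨c, hc1, hc⟩ := hr x hx
    rw [hc]
    simpa using hc1)
  refine SmallIso.pomega_equiv C hn (Or.inl h2) (SmallIso.squares_SL (Or.inl h2)) φ hφ
    (fun z hz => by obtain ⟨c, h1, h2⟩ := hker z hz; exact SmallIso.scalar_central h1 h2)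
    2 two_pos hk2 ?_
  have hO := (Orth.counts_odd (F := F) h2 1).2.2
  rw [Nat.card_eq_fintype_card (α := F)] at hO
  rw [hi4 h2, Two.card_SL_two]
  have h1 := Fintype.one_lt_card (α := F)
  zify [Nat.one_le_pow 2 (Fintype.card F) (by omega)]
  rw [hO]
  simp
  nlinarith

end

/-- PΩ_3(q) is isomorphic to PSL_2(q) for q odd. -/
theorem result {F : Type*} [Field F] [Fintype F] (hodd : Odd (Fintype.card F)) : Nonempty (Cfsg.POmega F (Cfsg.quadFormOdd 1 F) ≃* Matrix.ProjectiveSpecialLinearGroup (Fin 2) F) := by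
  classical
  exact omega_three hodd

end Cfsg.Agent.S0298
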