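import Cfsg.Statements.S0299
import Cfsg.Agent.Lib.Linear.OrthSmallIso
import Cfsg.Agent.Lib.Linear.OrthOrderStd
import Cfsg.Agent.Lib.Linear.GLTwo

set_option autoImplicit false
open Cfsg

namespace Cfsg.Agent.S0299

open scoped Matrix
open Cfsg.Lib.Linear

section

variable {F : Type*} [Field F]

/-- The matrix with given coordinates. -/
def tenX : (Fin 2 ⊕ Fin 2 → F) →ₗ[F] Matrix (Fin 2) (Fin 2) F where
  toFun v := !![v (.inl 0), v (.inl 1); -v (.inr 1), v (.inr 0)]
  map_add' u v := by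
    ext i j
    fin_cases i <;> fin_cases j <;> simp
    ring
  map_smul' c v := by
    ext i j
    fin_cases i <;> fin_cases j <;> simp

/-- The coordinates of a matrix. -/
def tenCo : Matrix (Fin 2) (Fin 2) F →ₗ[F] (Fin 2 ⊕ Fin 2 → F) where
  toFun N := Sum.elim ![N 0 0, N 0 1] ![N 1 1, -N 1 0]
  map_add' M N := by
    funext j
    rcases j with j | j <;> fin_cases j <;> simp
    ring
  map_smul' c M := by
    funext j
    rcases j with j | j <;> fin_cases j <;> simp

theorem co_X (v : Fin 2 ⊕ Fin 2 → F) : tenCo (tenX v) = v := by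
  funext j
  rcases j with j | j <;> fin_cases j <;> simp [tenCo, tenX]

theorem X_co (N : Matrix (Fin 2) (Fin 2) F) : tenX (tenCo N) = N := by
  ext i j
  fin_cases i <;> fin_cases j <;> simp [tenCo, tenX]

theorem form_eq (N : Matrix (Fin 2) (Fin 2) F) : Cfsg.quadFormPlus 2 F (tenCo N) = N.det := by
  simp [Cfsg.quadFormPlus, tenCo, Matrix.det_fin_two, Fin.sum_univ_two]
  ring

/-- The tensor product of two natural representations. -/
theorem exists_ten (F : Type*) [Field F] :
    ∃ φ : Matrix.SpecialLinearGroup (Fin 2) F × Matrix.SpecialLinearGroup (Fin 2) F →* GL (Fin 2 ⊕ Fin 2) F,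
      (∀ g, φ g ∈ Cfsg.isometryGroup F (Cfsg.quadFormPlus 2 F)) ∧
      ∀ z, φ z = 1 → ∃ c : F, c * c = 1 ∧ z.1.val = c • 1 ∧ z.2.val = c • 1 := by
  obtain ⟨φ, hφ⟩ := SmallIso.exists_hom
    (G := Matrix.SpecialLinearGroup (Fin 2) F × Matrix.SpecialLinearGroup (Fin 2) F) tenX tenCo co_X
    (fun g => (LinearMap.mulLeft F g.1.val).comp (LinearMap.mulRight F g.2.val.adjugate))
    (fun M => by simp)
    (fun g h M => by simp [Matrix.mul_assoc, Matrix.adjugate_mul_distrib])
    (fun g v => X_co _)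
  have hφ' : ∀ g v, tenX ((φ g).val *ᵥ v) = g.1.val * tenX v * g.2.val.adjugate := fun g v => by
    rw [hφ]; simp [Matrix.mul_assoc]
  refine ⟨φ, fun g v _ => ?_, fun z hz => ?_⟩
  · show Cfsg.quadFormPlus 2 F ((φ g).val *ᵥ v) = Cfsg.quadFormPlus 2 F v
    conv_lhs => rw [← co_X ((φ g).val *ᵥ v)]
    conv_rhs => rw [← co_X v]
    rw [form_eq, form_eq, hφ', Matrix.det_mul, Matrix.det_mul, Matrix.det_adjugate, g.1.2, g.2.2]
    simp
  · have hX : ∀ M : Matrix (Fin 2) (Fin 2) F, z.1.val * M = M * z.2.val := fun M => by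
      have h : z.1.val * M * z.2.val.adjugate = M := by
        have h := hφ' z (tenCo M)
        rw [hz, Units.val_one, Matrix.one_mulVec, X_co] at h
        exact h.symm
      conv_rhs => rw [← h, Matrix.mul_assoc, Matrix.adjugate_mul, z.2.2, one_smul, Matrix.mul_one]
    have h0 : z.2.val = z.1.val := by simpa using (hX 1).symm
    have e1 := congrFun (congrFun (hX !![0, 1; 0, 0]) 0) 1
    have e2 := congrFun (congrFun (hX !![0, 1; 0, 0]) 0) 0
    have e3 := congrFun (congrFun (hX !![0, 0; 1, 0]) 0) 0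
    simp [h0, Matrix.mul_apply, Fin.sum_univ_two] at e1 e2 e3
    have hd := z.1.2
    rw [Matrix.det_fin_two] at hd
    have hz1 : z.1.val = z.1.val 0 0 • 1 := by
      ext i j
      fin_cases i <;> fin_cases j <;> simp [e1, ← e2, e3]
    refine ⟨z.1.val 0 0, ?_, hz1, h0.trans hz1⟩
    rw [e3] at hd
    linear_combination hd + (z.1.val 0 0) * e1

theorem equiv_quotient_center (G : Type*) [Group G] :
    Nonempty ((G × G) ⧸ Subgroup.center (G × G) ≃* (G ⧸ Subgroup.center G) × (G ⧸ Subgroup.center G)) := by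
  let π := (QuotientGroup.mk' (Subgroup.center G)).prodMap (QuotientGroup.mk' (Subgroup.center G))
  have hπ : π.ker = Subgroup.center (G × G) := by
    ext x
    rw [MonoidHom.mem_ker, Subgroup.mem_center_iff]
    simp only [π, MonoidHom.coe_prodMap, Prod.map_apply', Prod.ext_iff, Prod.fst_one, Prod.snd_one,
      QuotientGroup.mk'_apply, QuotientGroup.eq_one_iff, Subgroup.mem_center_iff, Prod.fst_mul,
      Prod.snd_mul, Prod.forall]
    exact ⟨fun h a b => ⟨h.1 a, h.2 b⟩, fun h => ⟨fun a => (h a a).1, fun b => (h b b).2⟩⟩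
  exact ⟨(QuotientGroup.quotientMulEquivOfEq hπ.symm).trans (QuotientGroup.quotientKerEquivOfSurjective π
    ((QuotientGroup.mk'_surjective _).prodMap (QuotientGroup.mk'_surjective _)))⟩

theorem plus_four_equiv [Fintype F] (hF : 3 ≤ Fintype.card F) :
    Nonempty (Cfsg.POmega F (Cfsg.quadFormPlus 2 F) ≃*
      Matrix.ProjectiveSpecialLinearGroup (Fin 2) F × Matrix.ProjectiveSpecialLinearGroup (Fin 2) F) := by
  classical
  obtain ⟨B, C⟩ := Orth.exists_space_plus (F := F) 2
  have h4 : 2 ≤ Fintype.card (Fin 2 ⊕ Fin 2) := by simp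
  have h' : (2 : F) ≠ 0 ∨ Fintype.card F ≠ 2 ∨ Fintype.card (Fin 2 ⊕ Fin 2) ≠ 4 :=
    Or.inr (Or.inl (by omega))
  obtain ⟨-, hi2, hi4⟩ := SmallIso.omega_facts C h4 h'
  obtain ⟨φ, hφ, hker⟩ := exists_ten F
  have hr : ∀ z, z ∈ φ.ker → ∃ c : F, c * c = 1 ∧ z.1.val = c • 1 ∧ z.2.val = c • 1 := hker
  obtain ⟨hk2, hk1⟩ := SmallIso.card_le_roots φ.ker (fun z => z.1.val 0 0) (fun x hx y hy e => by
    obtain ⟨c, -, hc, hc'⟩ := hr x hx
    obtain ⟨d, -, hd, hd'⟩ := hr y hy
    rw [hc, hd] at e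
    simp at e
    refine Prod.ext (Subtype.ext ?_) (Subtype.ext ?_)
    · rw [hc, hd, e]
    · rw [hc', hd', e]) (fun x hx => by
    obtain ⟨c, hc1, hc, -⟩ := hr x hx
    rw [hc]
    simpa using hc1)
  have hsq1 : SmallIso.squares (Matrix.SpecialLinearGroup (Fin 2) F) = ⊤ := by
    refine SmallIso.squares_SL ?_
    by_cases h2 : (2 : F) = 0
    · obtain ⟨a, ha⟩ : ∃ a : F, a ∉ ({0, 1} : Finset F) := by
        by_contra hc
        push Not at hc
        have : (Finset.univ : Finset F) ⊆ {0, 1} := fun a _ => hc a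
        have := (Finset.card_le_card this).trans Finset.card_le_two
        rw [Finset.card_univ] at this
        omega
      simp only [Finset.mem_insert, Finset.mem_singleton, not_or] at ha
      refine Or.inr (Or.inr ⟨a, ha.1, fun e => ha.2 ?_⟩)
      rcases mul_self_eq_one_iff.mp e with e | e
      · exact e
      · linear_combination e - h2
    · exact Or.inl h2
  have hcent : ∀ z, φ z = 1 → z ∈ Subgroup.center _ ∧ z * z = 1 := fun z hz => by
    obtain ⟨c, h1, h2, h3⟩ := hker z hz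
    obtain ⟨a1, a2⟩ := SmallIso.scalar_central h1 h2
    obtain ⟨b1, b2⟩ := SmallIso.scalar_central h1 h3
    exact ⟨Subgroup.mem_center_iff.mpr fun x => Prod.ext (Subgroup.mem_center_iff.mp a1 _)
      (Subgroup.mem_center_iff.mp b1 _), Prod.ext a2 b2⟩
  have hO := (Orth.counts_plus (F := F) 2).2
  rw [Nat.card_eq_fintype_card (α := F)] at hO
  have h1 := Fintype.one_lt_card (α := F)
  have hcard : (Nat.card ↥(Cfsg.isometryGroup F (Cfsg.quadFormPlus 2 F)) : ℤ) =
      2 * Nat.card (Matrix.SpecialLinearGroup (Fin 2) F × Matrix.SpecialLinearGroup (Fin 2) F) := by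
    rw [hO, Nat.card_prod, Two.card_SL_two]
    push_cast [Nat.cast_sub (Nat.one_le_pow 2 (Fintype.card F) (by omega))]
    simp [Finset.prod_range_succ]
    ring
  have hcard' : Nat.card ↥(Cfsg.isometryGroup F (Cfsg.quadFormPlus 2 F)) =
      2 * Nat.card (Matrix.SpecialLinearGroup (Fin 2) F × Matrix.SpecialLinearGroup (Fin 2) F) := by
    exact_mod_cast hcard
  obtain ⟨e'⟩ := equiv_quotient_center (Matrix.SpecialLinearGroup (Fin 2) F)
  by_cases h2 : (2 : F) = 0
  · obtain ⟨e⟩ := SmallIso.pomega_equiv C h4 h' (SmallIso.squares_prod hsq1 hsq1) φ hφ hcent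
      1 one_pos (hk1 h2) (by rw [hi2 h2, hcard']; omega)
    exact ⟨e.trans e'⟩
  · obtain ⟨e⟩ := SmallIso.pomega_equiv C h4 h' (SmallIso.squares_prod hsq1 hsq1) φ hφ hcent
      2 two_pos hk2 (by rw [hi4 h2, hcard']; omega)
    exact ⟨e.trans e'⟩

end


/-- PΩ^+_4(q) is isomorphic to PSL_2(q) x PSL_2(q) for q at least 3. -/
theorem result {F : Type*} [Field F] [Fintype F] (hF : 3 ≤ Fintype.card F) : Nonempty (Cfsg.POmega F (Cfsg.quadFormPlus 2 F) ≃* Matrix.ProjectiveSpecialLinearGroup (Fin 2) F × Matrix.ProjectiveSpecialLinearGroup (Fin 2) F) := by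
  classical
  exact plus_four_equiv hF

end Cfsg.Agent.S0299
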