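import Cfsg.Statements.S0300
import Cfsg.Agent.Lib.Linear.OrthSmallIso
import Cfsg.Agent.Lib.Linear.OrthOrderStd
import Cfsg.Agent.Lib.Linear.OrthForms
import Cfsg.Agent.Lib.Linear.GLTwo

set_option autoImplicit false
open Cfsg

namespace Cfsg.Agent.S0300

open scoped Matrix
open Cfsg.Lib.Linear

section

variable {F : Type*} [Field F]

/-- The hermitian matrix with given coordinates. -/
def herX (a b : F) : ((Fin 1 ⊕ Fin 1) ⊕ Fin 2 → F) →ₗ[F] Matrix (Fin 2) (Fin 2) (QuadraticAlgebra F (-b) a) where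
  toFun v := !![⟨v (.inl (.inl 0)), 0⟩, ⟨v (.inr 0), v (.inr 1)⟩;
    ⟨v (.inr 0) + a * v (.inr 1), -v (.inr 1)⟩, ⟨-v (.inl (.inr 0)), 0⟩]
  map_add' u v := by
    ext i j
    all_goals fin_cases i <;> fin_cases j <;> simp
    all_goals ring
  map_smul' c v := by
    ext i j
    all_goals fin_cases i <;> fin_cases j <;> simp
    all_goals ring

/-- The coordinates of a hermitian matrix. -/
def herCo (a b : F) : Matrix (Fin 2) (Fin 2) (QuadraticAlgebra F (-b) a) →ₗ[F] ((Fin 1 ⊕ Fin 1) ⊕ Fin 2 → F) where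
  toFun N := Sum.elim (Sum.elim (fun _ => (N 0 0).re) (fun _ => -(N 1 1).re)) ![(N 0 1).re, (N 0 1).im]
  map_add' M N := by
    funext j
    rcases j with (j | j) | j
    · simp
    · simp; ring
    · fin_cases j <;> simp
  map_smul' c M := by
    funext j
    rcases j with (j | j) | j
    · simp
    · simp
    · fin_cases j <;> simp

variable {a b : F}

theorem co_X (v : (Fin 1 ⊕ Fin 1) ⊕ Fin 2 → F) : herCo a b (herX a b v) = v := by
  funext j
  rcases j with (j | j) | j
  · fin_cases j; simp [herCo, herX]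
  · fin_cases j; simp [herCo, herX]
  · fin_cases j <;> simp [herCo, herX]

set_option maxHeartbeats 1000000 in
theorem closed (A : Matrix (Fin 2) (Fin 2) (QuadraticAlgebra F (-b) a)) (v : (Fin 1 ⊕ Fin 1) ⊕ Fin 2 → F) :
    herX a b (herCo a b (A * herX a b v * Aᴴ)) = A * herX a b v * Aᴴ := by
  ext i j
  all_goals fin_cases i <;> fin_cases j <;>
    simp [herCo, herX, Matrix.mul_apply, Fin.sum_univ_two, Matrix.conjTranspose_apply]
  all_goals ring

theorem form_det (v : (Fin 1 ⊕ Fin 1) ⊕ Fin 2 → F) :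
    (herX a b v).det = ⟨-Cfsg.quadFormMinus 1 F a b v, 0⟩ := by
  ext <;> simp [herX, Matrix.det_fin_two, Cfsg.quadFormMinus] <;> ring

theorem exists_rep (a b : F) :
    ∃ φ : Matrix.SpecialLinearGroup (Fin 2) (QuadraticAlgebra F (-b) a) →* GL ((Fin 1 ⊕ Fin 1) ⊕ Fin 2) F,
      (∀ g, φ g ∈ Cfsg.isometryGroup F (Cfsg.quadFormMinus 1 F a b)) ∧
      ∀ z, φ z = 1 → ∃ c : QuadraticAlgebra F (-b) a, c * c = 1 ∧ z.val = c • 1 := by
  obtain ⟨φ, hφ⟩ := SmallIso.exists_hom (G := Matrix.SpecialLinearGroup (Fin 2) (QuadraticAlgebra F (-b) a))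
    (herX a b) (herCo a b) co_X
    (fun g => (LinearMap.mulLeft F g.val).comp (LinearMap.mulRight F g.valᴴ))
    (fun M => by simp)
    (fun g h M => by simp [Matrix.mul_assoc])
    (fun g v => by
      have := closed g.val v
      simpa [Matrix.mul_assoc] using this)
  have hφ' : ∀ g v, herX a b ((φ g).val *ᵥ v) = g.val * herX a b v * g.valᴴ := fun g v => by
    rw [hφ]; simp [Matrix.mul_assoc]
  refine ⟨φ, fun g v _ => ?_, fun z hz => ?_⟩
  · show Cfsg.quadFormMinus 1 F a b ((φ g).val *ᵥ v) = Cfsg.quadFormMinus 1 F a b v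
    have h := congrArg Matrix.det (hφ' g v)
    rw [Matrix.det_mul, Matrix.det_mul, Matrix.det_conjTranspose, g.2, star_one, one_mul, mul_one,
      form_det, form_det] at h
    simpa using congrArg QuadraticAlgebra.re h
  · have hX : ∀ v, z.val * herX a b v * z.valᴴ = herX a b v := fun v => by
      rw [← hφ', hz, Units.val_one, Matrix.one_mulVec]
    have h1 : z.val * z.valᴴ = 1 := by
      have e : herX a b (Sum.elim (Sum.elim (fun _ => 1) (fun _ => -1)) ![0, 0]) = 1 := by
        ext i j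
        all_goals fin_cases i <;> fin_cases j <;> simp [herX] <;> rfl
      have := hX (Sum.elim (Sum.elim (fun _ => 1) (fun _ => -1)) ![0, 0])
      rwa [e, Matrix.mul_one] at this
    have h1' : z.valᴴ * z.val = 1 := mul_eq_one_comm.mp h1
    have hc : ∀ v, z.val * herX a b v = herX a b v * z.val := fun v => by
      conv_rhs => rw [← hX v, Matrix.mul_assoc, h1', Matrix.mul_one]
    have e1 : herX a b (Pi.single (.inl (.inl 0)) 1) = !![1, 0; 0, 0] := by
      ext i j
      all_goals fin_cases i <;> fin_cases j <;> simp [herX, Pi.single_apply] <;> rfl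
    have e2 : herX a b (Pi.single (.inr 0) 1) = !![0, 1; 1, 0] := by
      ext i j
      all_goals fin_cases i <;> fin_cases j <;> simp [herX, Pi.single_apply] <;> rfl
    have f1 := hc (Pi.single (.inl (.inl 0)) 1)
    rw [e1] at f1
    have f2 := hc (Pi.single (.inr 0) 1)
    rw [e2] at f2
    have g1 := congrFun (congrFun f1 0) 1
    have g2 := congrFun (congrFun f1 1) 0
    have g3 := congrFun (congrFun f2 0) 1
    simp [Matrix.mul_apply, Fin.sum_univ_two] at g1 g2 g3
    have hd := z.2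
    rw [Matrix.det_fin_two, ← g1, g2, ← g3] at hd
    refine ⟨z.val 0 0, by linear_combination hd, ?_⟩
    ext i j : 1
    fin_cases i <;> fin_cases j <;> simp [← g1, g2, ← g3]

/-- Exchange of the two singular basis vectors. -/
theorem exists_odd [Fintype F] (hF : Fintype.card F = 2)
    (hab : ∀ z₁ z₂ : F, z₁ ^ 2 + a * z₁ * z₂ + b * z₂ ^ 2 = 0 → z₁ = 0 ∧ z₂ = 0) :
    (Cfsg.Omega F (Cfsg.quadFormMinus 1 F a b)).index ≠ 1 := by
  classical
  have hel : ∀ x : F, x = 0 ∨ x = 1 := fun x => by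
    by_contra hc
    have h3 : ({0, 1, x} : Finset F).card = 3 := by
      rw [Finset.card_eq_three]
      exact ⟨0, 1, x, zero_ne_one, fun e => hc (Or.inl e.symm), fun e => hc (Or.inr e.symm), rfl⟩
    have := Finset.card_le_univ ({0, 1, x} : Finset F)
    omega
  obtain ⟨σ, hσ⟩ : ∃ σ : Equiv.Perm ((Fin 1 ⊕ Fin 1) ⊕ Fin 2),
      σ = Equiv.swap (.inl (.inl 0)) (.inl (.inr 0)) := ⟨_, rfl⟩
  obtain ⟨M, hM⟩ : ∃ M : Matrix ((Fin 1 ⊕ Fin 1) ⊕ Fin 2) ((Fin 1 ⊕ Fin 1) ⊕ Fin 2) F,
      ∀ v, M *ᵥ v = v ∘ σ := by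
    refine ⟨Matrix.of fun i j => if σ i = j then 1 else 0, fun v => funext fun i => ?_⟩
    simp [Matrix.mulVec, dotProduct]
  have hMM : M * M = 1 := Matrix.toLin'.injective (LinearMap.ext fun v => by
    rw [Matrix.toLin'_apply, Matrix.toLin'_one, LinearMap.id_apply, ← Matrix.mulVec_mulVec, hM, hM]
    funext i
    simp [hσ])
  have hg : (⟨M, M, hMM, hMM⟩ : GL ((Fin 1 ⊕ Fin 1) ⊕ Fin 2) F) ∈
      Cfsg.isometryGroup F (Cfsg.quadFormMinus 1 F a b) := fun v _ => by
    show Cfsg.quadFormMinus 1 F a b (M *ᵥ v) = _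
    rw [hM]
    simp [Cfsg.quadFormMinus, hσ, Equiv.swap_apply_def, mul_comm]
  obtain ⟨g, hgv⟩ : ∃ g : ↥(Cfsg.isometryGroup F (Cfsg.quadFormMinus 1 F a b)),
      ∀ v, (g : GL ((Fin 1 ⊕ Fin 1) ⊕ Fin 2) F).val *ᵥ v = v ∘ σ := ⟨⟨_, hg⟩, hM⟩
  obtain ⟨x0, hx0⟩ : ∃ x : {x // Cfsg.quadFormMinus 1 F a b x = 0}, x.1 = Pi.single (.inl (.inl 0)) 1 :=
    ⟨⟨Pi.single (.inl (.inl 0)) 1, by simp [Cfsg.quadFormMinus, Pi.single_apply]⟩, rfl⟩
  obtain ⟨x1, hx1⟩ : ∃ x : {x // Cfsg.quadFormMinus 1 F a b x = 0}, x.1 = Pi.single (.inl (.inr 0)) 1 :=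
    ⟨⟨Pi.single (.inl (.inr 0)) 1, by simp [Cfsg.quadFormMinus, Pi.single_apply]⟩, rfl⟩
  have hne : x0 ≠ x1 := fun e => by
    have := congrArg (fun x : {x // Cfsg.quadFormMinus 1 F a b x = 0} => x.1 (.inl (.inl 0))) e
    simp [hx0, hx1, Pi.single_apply] at this
  have key : Orth.levelPerm (Cfsg.quadFormMinus 1 F a b) 0 g = Equiv.swap x0 x1 := by
    refine Equiv.ext fun x => Subtype.ext ?_
    show (g : GL ((Fin 1 ⊕ Fin 1) ⊕ Fin 2) F).val *ᵥ x.1 = _
    rw [hgv]
    by_cases h : x.1 (.inl (.inl 0)) = x.1 (.inl (.inr 0))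
    · have h0 : x ≠ x0 := fun e => by rw [e, hx0] at h; simp [Pi.single_apply] at h
      have h1 : x ≠ x1 := fun e => by rw [e, hx1] at h; simp [Pi.single_apply] at h
      rw [Equiv.swap_apply_of_ne_of_ne h0 h1]
      funext j
      rcases j with (j | j) | j
      · fin_cases j; simp [hσ, h]
      · fin_cases j; simp [hσ, h]
      · simp [hσ, Equiv.swap_apply_def]
    · have hx := x.2
      simp only [Cfsg.quadFormMinus, Fin.sum_univ_one] at hx
      rcases hel (x.1 (.inl (.inl 0))) with p | p <;> rcases hel (x.1 (.inl (.inr 0))) with r | r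
      · exact absurd (p.trans r.symm) h
      · rw [p, zero_mul, zero_add] at hx
        obtain ⟨z1, z2⟩ := hab _ _ hx
        have e : x = x1 := by
          refine Subtype.ext (funext fun j => ?_)
          rw [hx1]
          rcases j with (j | j) | j <;> fin_cases j <;> simp [Pi.single_apply, p, r, z1, z2]
        rw [e, Equiv.swap_apply_right, hx0, hx1]
        funext j
        simp [hσ, Pi.single_apply, Equiv.swap_apply_eq_iff]
      · rw [r, mul_zero, zero_add] at hx
        obtain ⟨z1, z2⟩ := hab _ _ hx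
        have e : x = x0 := by
          refine Subtype.ext (funext fun j => ?_)
          rw [hx0]
          rcases j with (j | j) | j <;> fin_cases j <;> simp [Pi.single_apply, p, r, z1, z2]
        rw [e, Equiv.swap_apply_left, hx0, hx1]
        funext j
        simp [hσ, Pi.single_apply, Equiv.swap_apply_eq_iff]
      · exact absurd (p.trans r.symm) h
  intro h
  let s := Equiv.Perm.sign.comp (Orth.levelPerm (Cfsg.quadFormMinus 1 F a b) 0)
  have hle : Cfsg.Omega F (Cfsg.quadFormMinus 1 F a b) ≤ s.ker := Abelianization.commutator_subset_ker s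
  rw [Subgroup.index_eq_one.mp h] at hle
  have := hle (show g ∈ (⊤ : Subgroup _) from trivial)
  rw [MonoidHom.mem_ker] at this
  simp [s, key, Equiv.Perm.sign_swap hne] at this

theorem minus_four_equiv [Fintype F] [Fact (∀ r : F, r ^ 2 ≠ -b + a * r)]
    [Fintype (QuadraticAlgebra F (-b) a)]
    (hab : ∀ z₁ z₂ : F, z₁ ^ 2 + a * z₁ * z₂ + b * z₂ ^ 2 = 0 → z₁ = 0 ∧ z₂ = 0)
    (hK : Fintype.card (QuadraticAlgebra F (-b) a) = Fintype.card F ^ 2) :
    Nonempty (Cfsg.POmega F (Cfsg.quadFormMinus 1 F a b) ≃*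
      Matrix.ProjectiveSpecialLinearGroup (Fin 2) (QuadraticAlgebra F (-b) a)) := by
  classical
  obtain ⟨B, C⟩ := Orth.exists_space_minus (F := F) 1 a b hab
  have h4 : 2 ≤ Fintype.card ((Fin 1 ⊕ Fin 1) ⊕ Fin 2) := by simp
  obtain ⟨φ, hφ, hker⟩ := exists_rep (F := F) a b
  have hr : ∀ z, z ∈ φ.ker → ∃ c : QuadraticAlgebra F (-b) a, c * c = 1 ∧ z.val = c • 1 := hker
  obtain ⟨hk2, hk1⟩ := SmallIso.card_le_roots φ.ker (fun z => z.val 0 0) (fun x hx y hy e => by
    obtain ⟨c, -, hc⟩ := hr x hx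
    obtain ⟨d, -, hd⟩ := hr y hy
    refine Subtype.ext ?_
    rw [hc, hd] at e
    rw [hc, hd]
    simp [Matrix.smul_apply, Matrix.one_apply] at e
    rw [e]) (fun x hx => by
    obtain ⟨c, hc1, hc⟩ := hr x hx
    rw [hc]
    simpa [Matrix.smul_apply, Matrix.one_apply] using hc1)
  have h1 := Fintype.one_lt_card (α := F)
  have hKbig : 3 < Fintype.card (QuadraticAlgebra F (-b) a) := by
    rw [hK]; nlinarith
  have hsq : SmallIso.squares (Matrix.SpecialLinearGroup (Fin 2) (QuadraticAlgebra F (-b) a)) = ⊤ := by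
    refine SmallIso.squares_SL (Or.inr (Or.inr ?_))
    obtain ⟨x, hx⟩ : ∃ x : QuadraticAlgebra F (-b) a, x ∉ ({0, 1, -1} : Finset _) := by
      by_contra hc
      push Not at hc
      have := Finset.card_le_card (fun x (_ : x ∈ (Finset.univ : Finset _)) => hc x)
      rw [Finset.card_univ] at this
      have := this.trans Finset.card_le_three
      omega
    simp only [Finset.mem_insert, Finset.mem_singleton, not_or] at hx
    exact ⟨x, hx.1, fun e => (mul_self_eq_one_iff.mp e).elim hx.2.1 hx.2.2⟩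
  have hcent : ∀ z, φ z = 1 → z ∈ Subgroup.center _ ∧ z * z = 1 := fun z hz => by
    obtain ⟨c, h1, h2⟩ := hker z hz
    exact SmallIso.scalar_central h1 h2
  have hO := (Orth.counts_minus (F := F) (a := a) (b := b) 1 hab).2.2
  rw [Nat.card_eq_fintype_card (α := F)] at hO
  have hcard : (Nat.card ↥(Cfsg.isometryGroup F (Cfsg.quadFormMinus 1 F a b)) : ℤ) =
      2 * Nat.card (Matrix.SpecialLinearGroup (Fin 2) (QuadraticAlgebra F (-b) a)) := by
    rw [hO, Two.card_SL_two, hK]
    push_cast [Nat.cast_sub (Nat.one_le_pow 2 (Fintype.card F ^ 2) (by positivity))]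
    simp [Finset.prod_range_succ]
    ring
  have hcard' : Nat.card ↥(Cfsg.isometryGroup F (Cfsg.quadFormMinus 1 F a b)) =
      2 * Nat.card (Matrix.SpecialLinearGroup (Fin 2) (QuadraticAlgebra F (-b) a)) := by exact_mod_cast hcard
  have hiff : (2 : QuadraticAlgebra F (-b) a) = 0 ↔ (2 : F) = 0 := by
    rw [← map_ofNat (algebraMap F (QuadraticAlgebra F (-b) a)) 2]
    exact map_eq_zero _
  by_cases hq : Fintype.card F = 2
  · have h2 : (2 : F) = 0 := by
      have := FiniteField.cast_card_eq_zero F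
      rw [hq] at this
      exact_mod_cast this
    have hperf : ∀ g : Matrix.SpecialLinearGroup (Fin 2) (QuadraticAlgebra F (-b) a), g ∈ commutator _ :=
      fun g => by
      obtain ⟨x, hx0, hx1⟩ : ∃ x : QuadraticAlgebra F (-b) a, x ≠ 0 ∧ x ^ 2 ≠ 1 := by
        obtain ⟨x, hx⟩ : ∃ x : QuadraticAlgebra F (-b) a, x ∉ ({0, 1, -1} : Finset _) := by
          by_contra hc
          push Not at hc
          have := Finset.card_le_card (fun x (_ : x ∈ (Finset.univ : Finset _)) => hc x)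
          rw [Finset.card_univ] at this
          have := this.trans Finset.card_le_three
          omega
        simp only [Finset.mem_insert, Finset.mem_singleton, not_or] at hx
        exact ⟨x, hx.1, fun e => (sq_eq_one_iff.mp e).elim hx.2.1 hx.2.2⟩
      rw [Matrix.SL2.commutator_eq_top hx0 hx1]
      trivial
    have hne := exists_odd hq hab
    have hpos : (Cfsg.Omega F (Cfsg.quadFormMinus 1 F a b)).index ≠ 0 := Subgroup.index_ne_zero_of_finite
    refine SmallIso.pomega_equiv_of_le hsq φ hφ hcent ?_ 1 one_pos (hk1 (hiff.mpr h2)) ?_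
    · rintro _ ⟨g, rfl⟩
      have hm : (commutator (Matrix.SpecialLinearGroup (Fin 2) (QuadraticAlgebra F (-b) a))).map
          (φ.codRestrict _ hφ) ≤ commutator _ := by
        rw [commutator_def, Subgroup.map_commutator]
        exact Subgroup.commutator_mono le_top le_top
      exact hm ⟨g, hperf g, rfl⟩
    · rw [hcard', mul_one, mul_comm]
      exact Nat.mul_le_mul_left _ (by omega)
  · have h' : (2 : F) ≠ 0 ∨ Fintype.card F ≠ 2 ∨ Fintype.card ((Fin 1 ⊕ Fin 1) ⊕ Fin 2) ≠ 4 :=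
      Or.inr (Or.inl hq)
    obtain ⟨-, hi2, hi4⟩ := SmallIso.omega_facts C h4 h'
    by_cases h2 : (2 : F) = 0
    · exact SmallIso.pomega_equiv C h4 h' hsq φ hφ hcent 1 one_pos (hk1 (hiff.mpr h2))
        (by rw [hi2 h2, hcard']; omega)
    · exact SmallIso.pomega_equiv C h4 h' hsq φ hφ hcent 2 two_pos hk2
        (by rw [hi4 h2, hcard']; omega)

theorem psl_congr {R S : Type*} [CommRing R] [CommRing S] (e : R ≃+* S) :
    Nonempty (Matrix.ProjectiveSpecialLinearGroup (Fin 2) R ≃* Matrix.ProjectiveSpecialLinearGroup (Fin 2) S) := by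
  let u : Matrix.SpecialLinearGroup (Fin 2) R ≃* Matrix.SpecialLinearGroup (Fin 2) S :=
    { toFun := Matrix.SpecialLinearGroup.map e.toRingHom
      invFun := Matrix.SpecialLinearGroup.map e.symm.toRingHom
      left_inv := fun g => by ext i j; simp
      right_inv := fun g => by ext i j; simp
      map_mul' := map_mul _ }
  exact ⟨QuotientGroup.congr _ _ u (by
    ext x
    simp only [Subgroup.mem_map, Subgroup.mem_center_iff, MonoidHom.coe_coe]
    constructor
    · rintro ⟨y, hy, rfl⟩ z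
      obtain ⟨w, rfl⟩ := u.surjective z
      rw [← map_mul, ← map_mul, hy]
    · intro hx
      refine ⟨u.symm x, fun z => u.injective ?_, u.apply_symm_apply x⟩
      rw [map_mul, map_mul, u.apply_symm_apply, hx])⟩

end


/-- PΩ^-_4(q) is isomorphic to PSL_2(q^2). -/
theorem result {F K : Type*} [Field F] [Fintype F] [Field K] [Fintype K] {q : ℕ} (hF : Fintype.card F = q) (hK : Fintype.card K = q ^ 2) (a b : F) (hab : ∀ z₁ z₂ : F, z₁ ^ 2 + a * z₁ * z₂ + b * z₂ ^ 2 = 0 → z₁ = 0 ∧ z₂ = 0) : Nonempty (Cfsg.POmega F (Cfsg.quadFormMinus 1 F a b) ≃* Matrix.ProjectiveSpecialLinearGroup (Fin 2) K) := by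
  classical
  haveI : Fact (∀ r : F, r ^ 2 ≠ -b + a * r) := ⟨fun r hr => by
    have := (hab r (-1) (by linear_combination hr)).2
    simp at this⟩
  letI : Fintype (QuadraticAlgebra F (-b) a) := Fintype.ofEquiv _ (QuadraticAlgebra.equivProd (-b) a).symm
  have hc : Fintype.card (QuadraticAlgebra F (-b) a) = Fintype.card F ^ 2 := by
    rw [Fintype.card_congr (QuadraticAlgebra.equivProd (-b) a), Fintype.card_prod, sq]
  obtain ⟨e⟩ := minus_four_equiv (a := a) (b := b) hab hc
  obtain ⟨e'⟩ := psl_congr (FiniteField.ringEquivOfCardEq (K := QuadraticAlgebra F (-b) a) (K' := K)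
    (by rw [hc, hF, hK]))
  exact ⟨e.trans e'⟩

end Cfsg.Agent.S0300
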