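import Cfsg.Statements.S0305
import Cfsg.Agent.Lib.Linear.OrthBasic

set_option autoImplicit false
open Cfsg

namespace Cfsg.Agent.S0305

open Cfsg.Lib.Linear.Orth
open scoped Matrix

/-- Recognition of a dihedral group. -/
theorem dihedral_of {G C : Type*} [Group G] [CommGroup C] [Finite C] [IsCyclic C] (φ : C →* G)
    (s : G) (hφ : Function.Injective φ) (hs : s * s = 1) (hsφ : ∀ c, s * φ c * s = (φ c)⁻¹)
    (hns : ∀ c, φ c ≠ s) (hall : ∀ g, ∃ c, g = φ c ∨ g = s * φ c) {n : ℕ} (hn : Nat.card C = n) :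
    Nonempty (G ≃* DihedralGroup n) := by
  subst hn
  let e : Multiplicative (ZMod (Nat.card C)) ≃* C := zmodCyclicMulEquiv inferInstance
  let p : ZMod (Nat.card C) → G := fun i => φ (e (Multiplicative.ofAdd i))
  have padd : ∀ i j, p (i + j) = p i * p j := fun i j => by
    show φ (e _) = _
    rw [ofAdd_add, map_mul, map_mul]
  have psub : ∀ i j, p (j - i) = (p i)⁻¹ * p j := fun i j => by
    rw [eq_inv_mul_iff_mul_eq, ← padd, add_sub_cancel]
  have pinj : Function.Injective p := fun i j h => by simpa using e.injective (hφ h)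
  have hs' : ∀ i, p i * s = s * (p i)⁻¹ := fun i => by
    show φ _ * s = s * (φ _)⁻¹
    rw [← hsφ, ← mul_assoc, ← mul_assoc, hs, one_mul]
  let f : DihedralGroup (Nat.card C) →* G := MonoidHom.mk'
    (fun d => match d with
      | .r i => p i
      | .sr i => s * p i)
    (by
      rintro (i | i) (j | j)
      · rw [DihedralGroup.r_mul_r]; exact padd i j
      · rw [DihedralGroup.r_mul_sr]
        show s * p (j - i) = p i * (s * p j)
        rw [psub, ← mul_assoc (p i), hs' i, mul_assoc]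
      · rw [DihedralGroup.sr_mul_r]
        show s * p (i + j) = s * p i * p j
        rw [padd, mul_assoc]
      · rw [DihedralGroup.sr_mul_sr]
        show p (j - i) = s * p i * (s * p j)
        rw [psub, mul_assoc s, ← mul_assoc (p i), hs' i, ← mul_assoc, ← mul_assoc, hs, one_mul])
  have hbij : Function.Bijective f := by
    refine ⟨fun x y h => ?_, fun g => ?_⟩
    · rcases x with i | i <;> rcases y with j | j
      · exact congrArg DihedralGroup.r (pinj h)
      · exfalso
        have h' : p i = s * p j := h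
        exact hns (e (Multiplicative.ofAdd i) * (e (Multiplicative.ofAdd j))⁻¹) (by
          rw [map_mul, map_inv]; exact mul_inv_eq_of_eq_mul h')
      · exfalso
        have h' : p j = s * p i := h.symm
        exact hns (e (Multiplicative.ofAdd j) * (e (Multiplicative.ofAdd i))⁻¹) (by
          rw [map_mul, map_inv]; exact mul_inv_eq_of_eq_mul h')
      · exact congrArg DihedralGroup.sr (pinj (mul_left_cancel (h : s * p i = s * p j)))
    · obtain ⟨c, hc | hc⟩ := hall g
      · exact ⟨.r (Multiplicative.toAdd (e.symm c)), by rw [hc]; show φ _ = _; simp⟩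
      · exact ⟨.sr (Multiplicative.toAdd (e.symm c)), by rw [hc]; show s * φ _ = _; simp⟩
  exact ⟨(MulEquiv.ofBijective f hbij).symm⟩

/-- GO^+_2(q) is dihedral of order 2(q-1). -/
theorem result {F : Type*} [Field F] [Fintype F] {q : ℕ} (hF : Fintype.card F = q) : Nonempty (Cfsg.isometryGroup F (Cfsg.quadFormPlus 1 F) ≃* DihedralGroup (q - 1)) := by
  classical
  obtain ⟨rot, hrot⟩ : ∃ rot : Fˣ →* ↥(Cfsg.isometryGroup F (Cfsg.quadFormPlus 1 F)),
      ∀ t (v : Fin 1 ⊕ Fin 1 → F), (rot t : GL (Fin 1 ⊕ Fin 1) F).val *ᵥ v =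
        Sum.elim (fun i => (t : F) * v (.inl i)) (fun i => ((t⁻¹ : Fˣ) : F) * v (.inr i)) := by
    let M : Fˣ → Matrix (Fin 1 ⊕ Fin 1) (Fin 1 ⊕ Fin 1) F := fun t =>
      Matrix.diagonal (Sum.elim (fun _ => (t : F)) (fun _ => ((t⁻¹ : Fˣ) : F)))
    have hM : ∀ t u, M t * M u = M (t * u) := fun t u => by
      simp only [M, Matrix.diagonal_mul_diagonal]
      congr 1; ext (i | i) <;> simp [mul_comm]
    have hact : ∀ t (v : Fin 1 ⊕ Fin 1 → F), M t *ᵥ v = Sum.elim (fun i => (t : F) * v (.inl i))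
        (fun i => ((t⁻¹ : Fˣ) : F) * v (.inr i)) := fun t v => by
      funext j; rcases j with i | i <;> simp [M, Matrix.mulVec_diagonal]
    have h1 : M 1 = 1 := by
      simp only [M]; rw [← Matrix.diagonal_one]; congr 1; ext (i | i) <;> simp
    let g : Fˣ → GL (Fin 1 ⊕ Fin 1) F := fun t => toGL (M t)
    have hg : ∀ t, (g t).val = M t := fun t => toGL_val (M' := M t⁻¹) (by rw [hM, mul_inv_cancel, h1])
    refine ⟨MonoidHom.mk' (fun t => ⟨g t, mem_iso.mpr fun v => ?_⟩) (fun t u => Subtype.ext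
      (Units.ext ?_)), fun t v => ?_⟩
    · rw [hg, hact]
      simp [Cfsg.quadFormPlus]
      field_simp
    · show (g (t * u)).val = (g t * g u).val
      rw [Units.val_mul, hg, hg, hg, hM]
    · show (g t).val *ᵥ v = _
      rw [hg, hact]
  obtain ⟨s, hs⟩ : ∃ s : ↥(Cfsg.isometryGroup F (Cfsg.quadFormPlus 1 F)),
      ∀ v : Fin 1 ⊕ Fin 1 → F, (s : GL (Fin 1 ⊕ Fin 1) F).val *ᵥ v = v ∘ Sum.swap := by
    let S : Matrix (Fin 1 ⊕ Fin 1) (Fin 1 ⊕ Fin 1) F := Matrix.of fun i j => if j = i.swap then 1 else 0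
    have hact : ∀ v, S *ᵥ v = v ∘ Sum.swap := fun v => by
      funext i
      show ∑ j, (if j = i.swap then (1 : F) else 0) * v j = _
      simp [ite_mul]
    have hv : (toGL S).val = S := toGL_val (M' := S) (mat_ext fun x => by
      rw [← Matrix.mulVec_mulVec, hact, hact, Matrix.one_mulVec]
      funext i; simp)
    refine ⟨⟨toGL S, mem_iso.mpr fun v => ?_⟩, fun v => ?_⟩
    · rw [hv, hact]; simp [Cfsg.quadFormPlus, mul_comm]
    · show (toGL S).val *ᵥ v = _
      rw [hv, hact]
  have ext' : ∀ g h : ↥(Cfsg.isometryGroup F (Cfsg.quadFormPlus 1 F)),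
      (∀ v, (g : GL (Fin 1 ⊕ Fin 1) F).val *ᵥ v = (h : GL (Fin 1 ⊕ Fin 1) F).val *ᵥ v) → g = h :=
    fun g h H => Subtype.ext (gl_ext H)
  refine dihedral_of rot s (fun t u h => ?_) (ext' _ _ fun v => ?_) (fun t => ?_) (fun t h => ?_)
    (fun g => ?_) (by rw [Nat.card_units, Nat.card_eq_fintype_card, hF])
  · have := hrot t (Pi.single (.inl 0) 1)
    rw [h, hrot] at this
    exact Units.ext (by simpa [Pi.single_apply] using (congrFun this (.inl 0)).symm)
  · show ((s : GL (Fin 1 ⊕ Fin 1) F) * (s : GL (Fin 1 ⊕ Fin 1) F)).val *ᵥ v = _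
    rw [mul_act, hs, hs]
    simp [Function.comp_assoc]
  · rw [← map_inv]
    refine ext' _ _ fun v => ?_
    show (((s : GL (Fin 1 ⊕ Fin 1) F) * rot t) * (s : GL (Fin 1 ⊕ Fin 1) F)).val *ᵥ v = _
    rw [mul_act, mul_act, hs, hs, hrot, hrot]
    funext j; rcases j with i | i <;> simp
  · have h1 := hrot t (Pi.single (.inl 0) 1)
    rw [h, hs] at h1
    simpa [Pi.single_apply] using congrFun h1 (.inr 0)
  · have hq : ∀ v, Cfsg.quadFormPlus 1 F ((g : GL (Fin 1 ⊕ Fin 1) F).val *ᵥ v) =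
        Cfsg.quadFormPlus 1 F v := mem_iso.mp g.2
    obtain ⟨p, hp⟩ : ∃ p, p = (g : GL (Fin 1 ⊕ Fin 1) F).val *ᵥ Pi.single (.inl 0) 1 := ⟨_, rfl⟩
    obtain ⟨r, hr⟩ : ∃ r, r = (g : GL (Fin 1 ⊕ Fin 1) F).val *ᵥ Pi.single (.inr 0) 1 := ⟨_, rfl⟩
    have e1 : p (.inl 0) * p (.inr 0) = 0 := by
      have := hq (Pi.single (.inl 0) 1)
      rw [← hp] at this
      simpa [Cfsg.quadFormPlus, Pi.single_apply] using this
    have e2 : r (.inl 0) * r (.inr 0) = 0 := by
      have := hq (Pi.single (.inr 0) 1)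
      rw [← hr] at this
      simpa [Cfsg.quadFormPlus, Pi.single_apply] using this
    have e3 : (p (.inl 0) + r (.inl 0)) * (p (.inr 0) + r (.inr 0)) = 1 := by
      have := hq (Pi.single (.inl 0) 1 + Pi.single (.inr 0) 1)
      rw [Matrix.mulVec_add, ← hp, ← hr] at this
      simpa [Cfsg.quadFormPlus, Pi.single_apply] using this
    have hlin : ∀ v, (g : GL (Fin 1 ⊕ Fin 1) F).val *ᵥ v = v (.inl 0) • p + v (.inr 0) • r := fun v => by
      conv_lhs => rw [show v = v (.inl 0) • Pi.single (.inl 0) 1 + v (.inr 0) • Pi.single (.inr 0) 1 by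
        funext j; rcases j with i | i <;> fin_cases i <;> simp [Pi.single_apply]]
      rw [Matrix.mulVec_add, Matrix.mulVec_smul, Matrix.mulVec_smul, ← hp, ← hr]
    rcases mul_eq_zero.mp e1 with hx | hy
    · -- the swapped case
      rw [hx, zero_add] at e3
      have hu : r (.inl 0) ≠ 0 := left_ne_zero_of_mul_eq_one e3
      have hv : r (.inr 0) = 0 := (mul_eq_zero.mp e2).resolve_left hu
      rw [hv, add_zero] at e3
      refine ⟨Units.mk0 (p (.inr 0)) (right_ne_zero_of_mul_eq_one e3), Or.inr (ext' _ _ fun v => ?_)⟩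
      show _ = ((s : GL (Fin 1 ⊕ Fin 1) F) * rot _).val *ᵥ v
      rw [mul_act, hs, hrot, hlin]
      funext j
      rcases j with i | i <;> fin_cases i
      · simp [hx, eq_inv_of_mul_eq_one_left e3]; ring
      · simp [hv]; ring
    · rw [hy, zero_add] at e3
      have hv : r (.inr 0) ≠ 0 := right_ne_zero_of_mul_eq_one e3
      have hu : r (.inl 0) = 0 := (mul_eq_zero.mp e2).resolve_right hv
      rw [hu, add_zero] at e3
      refine ⟨Units.mk0 (p (.inl 0)) (left_ne_zero_of_mul_eq_one e3), Or.inl (ext' _ _ fun v => ?_)⟩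
      rw [hrot, hlin]
      funext j
      rcases j with i | i <;> fin_cases i
      · simp [hu]; ring
      · simp [hy, eq_inv_of_mul_eq_one_right e3]; ring

end Cfsg.Agent.S0305
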