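import Cfsg.Statements.S0306
import Cfsg.Agent.Lib.Linear.OrthBasic
import Cfsg.Agent.Lib.Linear.OrthOrderStd
import Mathlib.Algebra.QuadraticAlgebra.Basic

set_option autoImplicit false
open Cfsg

namespace Cfsg.Agent.S0306

open Cfsg.Lib.Linear.Orth
open scoped Matrix

/-- Recognition of a dihedral group. -/
theorem dihedral_of {G C : Type*} [Group G] [CommGroup C] [Finite C] [IsCyclic C] (φ : C →* G)
    (s : G) (hφ : Function.Injective φ) (hs : s * s = 1) (hsφ : ∀ c, s * φ c * s = (φ c)⁻¹)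
    (hns : ∀ c, φ c ≠ s) (hall : ∀ g, ∃ c, g = φ c ∨ g = s * φ c) {n : ℕ} (hn : Nat.card C = n) :
    Nonempty (G ≃* DihedralGroup n) := by
  subst hn
  let e : Multiplicative (ZMod (Nat.card C)) ≃* C := zmodCyclicMulEquiv inferInstance
  let p : ZMod (Nat.card C) → G := fun i => φ (e (Multiplicative.ofAdd i))
  have padd : ∀ i j, p (i + j) = p i * p j := fun i j => by
    show φ (e _) = _
    rw [ofAdd_add, map_mul, map_mul]
  have psub : ∀ i j, p (j - i) = (p i)⁻¹ * p j := fun i j => by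
    rw [eq_inv_mul_iff_mul_eq, ← padd, add_sub_cancel]
  have pinj : Function.Injective p := fun i j h => by simpa using e.injective (hφ h)
  have hs' : ∀ i, p i * s = s * (p i)⁻¹ := fun i => by
    show φ _ * s = s * (φ _)⁻¹
    rw [← hsφ, ← mul_assoc, ← mul_assoc, hs, one_mul]
  let f : DihedralGroup (Nat.card C) →* G := MonoidHom.mk'
    (fun d => match d with
      | .r i => p i
      | .sr i => s * p i)
    (by
      rintro (i | i) (j | j)
      · rw [DihedralGroup.r_mul_r]; exact padd i j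
      · rw [DihedralGroup.r_mul_sr]
        show s * p (j - i) = p i * (s * p j)
        rw [psub, ← mul_assoc (p i), hs' i, mul_assoc]
      · rw [DihedralGroup.sr_mul_r]
        show s * p (i + j) = s * p i * p j
        rw [padd, mul_assoc]
      · rw [DihedralGroup.sr_mul_sr]
        show p (j - i) = s * p i * (s * p j)
        rw [psub, mul_assoc s, ← mul_assoc (p i), hs' i, ← mul_assoc, ← mul_assoc, hs, one_mul])
  have hbij : Function.Bijective f := by
    refine ⟨fun x y h => ?_, fun g => ?_⟩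
    · rcases x with i | i <;> rcases y with j | j
      · exact congrArg DihedralGroup.r (pinj h)
      · exfalso
        have h' : p i = s * p j := h
        exact hns (e (Multiplicative.ofAdd i) * (e (Multiplicative.ofAdd j))⁻¹) (by
          rw [map_mul, map_inv]; exact mul_inv_eq_of_eq_mul h')
      · exfalso
        have h' : p j = s * p i := h.symm
        exact hns (e (Multiplicative.ofAdd j) * (e (Multiplicative.ofAdd i))⁻¹) (by
          rw [map_mul, map_inv]; exact mul_inv_eq_of_eq_mul h')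
      · exact congrArg DihedralGroup.sr (pinj (mul_left_cancel (h : s * p i = s * p j)))
    · obtain ⟨c, hc | hc⟩ := hall g
      · exact ⟨.r (Multiplicative.toAdd (e.symm c)), by rw [hc]; show φ _ = _; simp⟩
      · exact ⟨.sr (Multiplicative.toAdd (e.symm c)), by rw [hc]; show s * φ _ = _; simp⟩
  exact ⟨(MulEquiv.ofBijective f hbij).symm⟩

/-- The isometry group of an anisotropic plane. -/
theorem minus_dihedral {F : Type*} [Field F] [Fintype F] {q : ℕ} (hF : Fintype.card F = q) {a b : F}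
    [Fact (∀ r : F, r ^ 2 ≠ -b + a * r)] [Finite (QuadraticAlgebra F (-b) a)]
    (hab : ∀ z₁ z₂ : F, z₁ ^ 2 + a * z₁ * z₂ + b * z₂ ^ 2 = 0 → z₁ = 0 ∧ z₂ = 0) :
    Nonempty (Cfsg.isometryGroup F (Cfsg.quadFormMinus 0 F a b) ≃* DihedralGroup (q + 1)) := by
  classical
  have hQ : ∀ v : (Fin 0 ⊕ Fin 0) ⊕ Fin 2 → F, Cfsg.quadFormMinus 0 F a b v =
      v (.inr 0) ^ 2 + a * v (.inr 0) * v (.inr 1) + b * v (.inr 1) ^ 2 := fun v => by
    simp [Cfsg.quadFormMinus]
  have vext : ∀ v w : (Fin 0 ⊕ Fin 0) ⊕ Fin 2 → F, v (.inr 0) = w (.inr 0) →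
      v (.inr 1) = w (.inr 1) → v = w := fun v w h0 h1 => by
    funext j
    rcases j with (i | i) | i
    · exact i.elim0
    · exact i.elim0
    · fin_cases i
      · exact h0
      · exact h1
  let P : (Fin 0 ⊕ Fin 0) ⊕ Fin 2 → Fin 2 := Sum.elim (fun _ => 0) id
  have eval : ∀ (A : Matrix (Fin 2) (Fin 2) F) (v : (Fin 0 ⊕ Fin 0) ⊕ Fin 2 → F) (i : Fin 2),
      (Matrix.of (fun i j => A (P i) (P j)) *ᵥ v) (.inr i) =
        A i 0 * v (.inr 0) + A i 1 * v (.inr 1) := fun A v i => by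
    simp [Matrix.mulVec, dotProduct, P, Fintype.sum_sum_type, Fin.sum_univ_two]
  let M : QuadraticAlgebra F (-b) a → Matrix ((Fin 0 ⊕ Fin 0) ⊕ Fin 2) ((Fin 0 ⊕ Fin 0) ⊕ Fin 2) F :=
    fun z => Matrix.of fun i j => !![z.re, -b * z.im; z.im, z.re + a * z.im] (P i) (P j)
  have hM : ∀ z v, (M z *ᵥ v) (.inr 0) = z.re * v (.inr 0) - b * z.im * v (.inr 1) ∧
      (M z *ᵥ v) (.inr 1) = z.im * v (.inr 0) + (z.re + a * z.im) * v (.inr 1) := fun z v => by
    constructor <;> rw [eval] <;> simp <;> ring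
  have hmul : ∀ z w, M z * M w = M (z * w) := fun z w => mat_ext fun v => by
    rw [← Matrix.mulVec_mulVec]
    apply vext
    · rw [(hM z _).1, (hM w v).1, (hM w v).2, (hM (z * w) v).1, QuadraticAlgebra.re_mul,
        QuadraticAlgebra.im_mul]
      ring
    · rw [(hM z _).2, (hM w v).1, (hM w v).2, (hM (z * w) v).2, QuadraticAlgebra.re_mul,
        QuadraticAlgebra.im_mul]
      ring
  have hone : M 1 = 1 := mat_ext fun v => by
    rw [Matrix.one_mulVec]
    apply vext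
    · rw [(hM 1 v).1, QuadraticAlgebra.re_one, QuadraticAlgebra.im_one]; ring
    · rw [(hM 1 v).2, QuadraticAlgebra.re_one, QuadraticAlgebra.im_one]; ring
  let N : (QuadraticAlgebra F (-b) a)ˣ →* Fˣ := Units.map
    { toFun := fun z => z.re ^ 2 + a * z.re * z.im + b * z.im ^ 2
      map_one' := by simp only [QuadraticAlgebra.re_one, QuadraticAlgebra.im_one]; ring
      map_mul' := fun z w => by
        rw [QuadraticAlgebra.re_mul, QuadraticAlgebra.im_mul]; ring }
  let R := N.ker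
  have hR : ∀ z : (QuadraticAlgebra F (-b) a)ˣ, z ∈ R ↔
      (z : QuadraticAlgebra F (-b) a).re ^ 2 +
        a * (z : QuadraticAlgebra F (-b) a).re * (z : QuadraticAlgebra F (-b) a).im +
        b * (z : QuadraticAlgebra F (-b) a).im ^ 2 = 1 := fun z => by
    show N z = 1 ↔ _
    exact Units.ext_iff
  let g : (QuadraticAlgebra F (-b) a)ˣ → GL ((Fin 0 ⊕ Fin 0) ⊕ Fin 2) F := fun z => toGL (M z.val)
  have hg : ∀ z, (g z).val = M z.val := fun z => toGL_val (M' := M (z⁻¹).val)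
    (by rw [hmul, Units.mul_inv, hone])
  have hiso : ∀ z ∈ R, g z ∈ Cfsg.isometryGroup F (Cfsg.quadFormMinus 0 F a b) := fun z hz =>
    mem_iso.mpr fun v => by
      rw [hg, hQ, hQ, (hM _ v).1, (hM _ v).2]
      linear_combination (v (.inr 0) ^ 2 + a * v (.inr 0) * v (.inr 1) + b * v (.inr 1) ^ 2) *
        (hR z).mp hz
  let rot : R →* ↥(Cfsg.isometryGroup F (Cfsg.quadFormMinus 0 F a b)) := MonoidHom.mk'
    (fun z => ⟨g z.1, hiso z.1 z.2⟩) (fun z w => Subtype.ext (Units.ext (by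
      show (g (z.1 * w.1)).val = (g z.1 * g w.1).val
      rw [Units.val_mul, hg, hg, hg, Units.val_mul, hmul])))
  let S : Matrix ((Fin 0 ⊕ Fin 0) ⊕ Fin 2) ((Fin 0 ⊕ Fin 0) ⊕ Fin 2) F :=
    Matrix.of fun i j => !![1, a; 0, -1] (P i) (P j)
  have hS : ∀ v, (S *ᵥ v) (.inr 0) = v (.inr 0) + a * v (.inr 1) ∧
      (S *ᵥ v) (.inr 1) = -v (.inr 1) := fun v => by
    constructor <;> rw [eval] <;> simp
  have hSv : (toGL S).val = S := toGL_val (M' := S) (mat_ext fun v => by
    rw [← Matrix.mulVec_mulVec, Matrix.one_mulVec]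
    apply vext
    · rw [(hS _).1, (hS v).1, (hS v).2]; ring
    · rw [(hS _).2, (hS v).2]; ring)
  let s : ↥(Cfsg.isometryGroup F (Cfsg.quadFormMinus 0 F a b)) := ⟨toGL S, mem_iso.mpr fun v => by
    rw [hSv, hQ, hQ, (hS v).1, (hS v).2]; ring⟩
  have ext' : ∀ k h : ↥(Cfsg.isometryGroup F (Cfsg.quadFormMinus 0 F a b)),
      (∀ v, (k : GL ((Fin 0 ⊕ Fin 0) ⊕ Fin 2) F).val *ᵥ v = (h : GL ((Fin 0 ⊕ Fin 0) ⊕ Fin 2) F).val *ᵥ v) → k = h := fun k h H =>
    Subtype.ext (gl_ext H)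
  let e0 : (Fin 0 ⊕ Fin 0) ⊕ Fin 2 → F := Pi.single (.inr 0) 1
  let e1 : (Fin 0 ⊕ Fin 0) ⊕ Fin 2 → F := Pi.single (.inr 1) 1
  have he : e0 (.inr 0) = 1 ∧ e0 (.inr 1) = 0 ∧ e1 (.inr 0) = 0 ∧ e1 (.inr 1) = 1 := by
    simp [e0, e1, Pi.single_apply]
  have h2a : (2 : F) = 0 → a ≠ 0 := fun h2 ha => by
    haveI : CharP F 2 := CharTwo.of_one_ne_zero_of_two_eq_zero one_ne_zero h2
    obtain ⟨r, hr⟩ := FiniteField.isSquare_of_char_two (ringChar.eq F 2) b
    exact one_ne_zero (hab r 1 (by rw [ha, hr]; linear_combination (r * r) * h2)).2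
  have hcard : Nat.card R = q + 1 := by
    have h1 : Nat.card R =
        Nat.card {z : F × F // z.1 ^ 2 + a * z.1 * z.2 + b * z.2 ^ 2 = 1} := by
      refine Nat.card_congr
        { toFun := fun z => ⟨(z.1.val.re, z.1.val.im), (hR z.1).mp z.2⟩
          invFun := fun z => ⟨Units.mk0 ⟨z.1.1, z.1.2⟩ (fun h => by
              have hz := z.2
              have e1 := congrArg QuadraticAlgebra.re h
              have e2 := congrArg QuadraticAlgebra.im h
              simp only [QuadraticAlgebra.re_zero, QuadraticAlgebra.im_zero] at e1 e2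
              rw [e1, e2] at hz
              simp at hz), (hR _).mpr z.2⟩
          left_inv := fun z => Subtype.ext (Units.ext rfl)
          right_inv := fun z => Subtype.ext rfl }
    have h2 := binary_fibre (a := a) (b := b) hab
    rw [← h1, Nat.card_eq_fintype_card (α := F), hF] at h2
    exact_mod_cast h2
  refine dihedral_of rot s (fun z w h => ?_) (ext' _ _ fun v => ?_) (fun z => ?_) (fun z h => ?_)
    (fun k => ?_) hcard
  · have h' : ∀ v, M z.1.val *ᵥ v = M w.1.val *ᵥ v := fun v => by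
      have := congrArg (fun t : ↥(Cfsg.isometryGroup F (Cfsg.quadFormMinus 0 F a b)) =>
        (t : GL ((Fin 0 ⊕ Fin 0) ⊕ Fin 2) F).val *ᵥ v) h
      change (g z.1).val *ᵥ v = (g w.1).val *ᵥ v at this
      rwa [hg, hg] at this
    have a0 := congrFun (h' e0) (.inr 0)
    have a1 := congrFun (h' e0) (.inr 1)
    rw [(hM _ e0).1, (hM _ e0).1, he.1, he.2.1] at a0
    rw [(hM _ e0).2, (hM _ e0).2, he.1, he.2.1] at a1
    exact Subtype.ext (Units.ext (QuadraticAlgebra.ext (by simpa using a0) (by simpa using a1)))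
  · show (toGL S * toGL S).val *ᵥ v = _
    rw [mul_act, hSv]
    apply vext
    · rw [(hS _).1, (hS v).1, (hS v).2]; simp
    · rw [(hS _).2, (hS v).2]; simp
  · refine eq_inv_of_mul_eq_one_left (ext' _ _ fun v => ?_)
    show (toGL S * g z.1 * toGL S * g z.1).val *ᵥ v = (1 : GL ((Fin 0 ⊕ Fin 0) ⊕ Fin 2) F).val *ᵥ v
    rw [mul_act, mul_act, mul_act, hSv, hg, Units.val_one, Matrix.one_mulVec]
    have hz := (hR z.1).mp z.2
    apply vext
    · rw [(hS _).1, (hM _ _).1, (hM _ _).2, (hS _).1, (hS _).2, (hM _ v).1, (hM _ v).2]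
      linear_combination v (.inr 0) * hz
    · rw [(hS _).2, (hM _ _).2, (hS _).1, (hS _).2, (hM _ v).1, (hM _ v).2]
      linear_combination v (.inr 1) * hz
  · have h' : ∀ v, M z.1.val *ᵥ v = S *ᵥ v := fun v => by
      have := congrArg (fun t : ↥(Cfsg.isometryGroup F (Cfsg.quadFormMinus 0 F a b)) =>
        (t : GL ((Fin 0 ⊕ Fin 0) ⊕ Fin 2) F).val *ᵥ v) h
      change (g z.1).val *ᵥ v = (toGL S).val *ᵥ v at this
      rwa [hg, hSv] at this
    have a0 := congrFun (h' e0) (.inr 1)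
    rw [(hM _ e0).2, (hS e0).2, he.1, he.2.1] at a0
    have a2 := congrFun (h' e0) (.inr 0)
    rw [(hM _ e0).1, (hS e0).1, he.1, he.2.1] at a2
    have a1 := congrFun (h' e1) (.inr 1)
    rw [(hM _ e1).2, (hS e1).2, he.2.2.1, he.2.2.2] at a1
    have a3 := congrFun (h' e1) (.inr 0)
    rw [(hM _ e1).1, (hS e1).1, he.2.2.1, he.2.2.2] at a3
    exact h2a (by linear_combination a1 - a2 - a * a0) (by linear_combination -a3 - b * a0)
  · have hk : ∀ v, Cfsg.quadFormMinus 0 F a b ((k : GL ((Fin 0 ⊕ Fin 0) ⊕ Fin 2) F).val *ᵥ v) =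
        Cfsg.quadFormMinus 0 F a b v := mem_iso.mp k.2
    obtain ⟨p, hp⟩ : ∃ p, p = (k : GL ((Fin 0 ⊕ Fin 0) ⊕ Fin 2) F).val *ᵥ e0 := ⟨_, rfl⟩
    have hpn : p (.inr 0) ^ 2 + a * p (.inr 0) * p (.inr 1) + b * p (.inr 1) ^ 2 = 1 := by
      rw [← hQ, hp, hk, hQ, he.1, he.2.1]; ring
    have hzne : (⟨p (.inr 0), p (.inr 1)⟩ : QuadraticAlgebra F (-b) a) ≠ 0 := fun h => by
      have e1 := congrArg QuadraticAlgebra.re h
      have e2 := congrArg QuadraticAlgebra.im h
      simp only [QuadraticAlgebra.re_zero, QuadraticAlgebra.im_zero] at e1 e2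
      rw [e1, e2] at hpn
      simp at hpn
    obtain ⟨z, hz⟩ : ∃ z : R, z.1.val = ⟨p (.inr 0), p (.inr 1)⟩ :=
      ⟨⟨Units.mk0 _ hzne, (hR _).mpr hpn⟩, rfl⟩
    obtain ⟨h, hh⟩ : ∃ h, h = (rot z)⁻¹ * k := ⟨_, rfl⟩
    have hkh : k = rot z * h := by rw [hh, mul_inv_cancel_left]
    have hQh : ∀ v, Cfsg.quadFormMinus 0 F a b ((h : GL ((Fin 0 ⊕ Fin 0) ⊕ Fin 2) F).val *ᵥ v) =
        Cfsg.quadFormMinus 0 F a b v := mem_iso.mp h.2
    have hfix : (h : GL ((Fin 0 ⊕ Fin 0) ⊕ Fin 2) F).val *ᵥ e0 = e0 := by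
      have hrot : (rot z : GL ((Fin 0 ⊕ Fin 0) ⊕ Fin 2) F).val *ᵥ e0 = p := by
        show (g z.1).val *ᵥ e0 = p
        rw [hg]
        apply vext
        · rw [(hM _ e0).1, hz, he.1, he.2.1]; simp
        · rw [(hM _ e0).2, hz, he.1, he.2.1]; simp
      rw [hh]
      show ((rot z : GL ((Fin 0 ⊕ Fin 0) ⊕ Fin 2) F)⁻¹ * (k : GL ((Fin 0 ⊕ Fin 0) ⊕ Fin 2) F)).val *ᵥ e0 = e0
      rw [mul_act, ← hp, ← hrot, inv_act]
    obtain ⟨r, hr⟩ : ∃ r, r = (h : GL ((Fin 0 ⊕ Fin 0) ⊕ Fin 2) F).val *ᵥ e1 := ⟨_, rfl⟩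
    have q1 : r (.inr 0) ^ 2 + a * r (.inr 0) * r (.inr 1) + b * r (.inr 1) ^ 2 = b := by
      rw [← hQ, hr, hQh, hQ, he.2.2.1, he.2.2.2]; ring
    have q2 : 2 * r (.inr 0) + a * r (.inr 1) = a := by
      have h1 := hQh (e0 + e1)
      rw [Matrix.mulVec_add, hfix, ← hr, hQ, hQ] at h1
      simp only [Pi.add_apply, he.1, he.2.1, he.2.2.1, he.2.2.2] at h1
      linear_combination h1 - q1
    have hlin : ∀ v, (h : GL ((Fin 0 ⊕ Fin 0) ⊕ Fin 2) F).val *ᵥ v = v (.inr 0) • e0 + v (.inr 1) • r := fun v => by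
      conv_lhs => rw [show v = v (.inr 0) • e0 + v (.inr 1) • e1 from
        vext _ _ (by simp [he.1, he.2.2.1]) (by simp [he.2.1, he.2.2.2])]
      rw [Matrix.mulVec_add, Matrix.mulVec_smul, Matrix.mulVec_smul, hfix, ← hr]
    have hcases : (r (.inr 0) = 0 ∧ r (.inr 1) = 1) ∨ (r (.inr 0) = a ∧ r (.inr 1) = -1) := by
      by_cases h2 : (2 : F) = 0
      · have hy : r (.inr 1) = 1 := mul_left_cancel₀ (h2a h2)
          (by linear_combination q2 - r (.inr 0) * h2)
        have hx : r (.inr 0) * (r (.inr 0) + a) = 0 := by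
          rw [hy] at q1; linear_combination q1
        rcases mul_eq_zero.mp hx with hx | hx
        · exact Or.inl ⟨hx, hy⟩
        · exact Or.inr ⟨by linear_combination hx - a * h2, by linear_combination hy + h2⟩
      · have hdisc : 4 * b - a ^ 2 ≠ 0 := fun hd =>
          h2 (hab (-a) 2 (by linear_combination hd)).2
        have hy : (r (.inr 1) - 1) * (r (.inr 1) + 1) = 0 := by
          refine mul_left_cancel₀ hdisc ?_
          linear_combination 4 * q1 - (2 * r (.inr 0) + a * r (.inr 1) + a) * q2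
        rcases mul_eq_zero.mp hy with hy | hy
        · have hy' : r (.inr 1) = 1 := sub_eq_zero.mp hy
          exact Or.inl ⟨mul_left_cancel₀ h2 (by rw [hy'] at q2; linear_combination q2), hy'⟩
        · have hy' : r (.inr 1) = -1 := eq_neg_of_add_eq_zero_left hy
          exact Or.inr ⟨mul_left_cancel₀ h2 (by rw [hy'] at q2; linear_combination q2), hy'⟩
    rcases hcases with ⟨hx, hy⟩ | ⟨hx, hy⟩
    · refine ⟨z, Or.inl ?_⟩
      rw [hkh, show h = 1 from ext' _ _ fun v => by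
        rw [hlin]
        apply vext <;> simp [hx, hy, he.1, he.2.1], mul_one]
    · refine ⟨z⁻¹, Or.inr ?_⟩
      have hhs : h = s := ext' _ _ fun v => by
        rw [hlin]
        show _ = (toGL S).val *ᵥ v
        rw [hSv]
        apply vext
        · rw [(hS v).1]; simp [hx, he.1, mul_comm]
        · rw [(hS v).2]; simp [hy, he.2.1]
      rw [hkh, hhs]
      have hinv : s * rot z * s = (rot z)⁻¹ := by
        refine eq_inv_of_mul_eq_one_left (ext' _ _ fun v => ?_)
        show (toGL S * g z.1 * toGL S * g z.1).val *ᵥ v =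
          (1 : GL ((Fin 0 ⊕ Fin 0) ⊕ Fin 2) F).val *ᵥ v
        rw [mul_act, mul_act, mul_act, hSv, hg, Units.val_one, Matrix.one_mulVec]
        have hz' := (hR z.1).mp z.2
        apply vext
        · rw [(hS _).1, (hM _ _).1, (hM _ _).2, (hS _).1, (hS _).2, (hM _ v).1, (hM _ v).2]
          linear_combination v (.inr 0) * hz'
        · rw [(hS _).2, (hM _ _).2, (hS _).1, (hS _).2, (hM _ v).1, (hM _ v).2]
          linear_combination v (.inr 1) * hz'
      have hss : s * s = 1 := ext' _ _ fun v => by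
        show (toGL S * toGL S).val *ᵥ v = _
        rw [mul_act, hSv]
        apply vext
        · rw [(hS _).1, (hS v).1, (hS v).2]; simp
        · rw [(hS _).2, (hS v).2]; simp
      rw [map_inv, ← hinv, ← mul_assoc, ← mul_assoc, hss, one_mul]

/-- GO^-_2(q) is dihedral of order 2(q+1). -/
theorem result {F : Type*} [Field F] [Fintype F] {q : ℕ} (hF : Fintype.card F = q) (a b : F) (hab : ∀ z₁ z₂ : F, z₁ ^ 2 + a * z₁ * z₂ + b * z₂ ^ 2 = 0 → z₁ = 0 ∧ z₂ = 0) : Nonempty (Cfsg.isometryGroup F (Cfsg.quadFormMinus 0 F a b) ≃* DihedralGroup (q + 1)) := by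
  classical
  haveI : Fact (∀ r : F, r ^ 2 ≠ -b + a * r) := ⟨fun r h => one_ne_zero
    (hab (-r) 1 (by linear_combination h)).2⟩
  haveI : Finite (QuadraticAlgebra F (-b) a) := Finite.of_equiv _ (QuadraticAlgebra.equivProd _ _).symm
  exact minus_dihedral hF hab

end Cfsg.Agent.S0306
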