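import Cfsg.Statements.S0307
import Cfsg.Agent.Lib.Linear.SLBasic

set_option autoImplicit false
open Cfsg
open scoped commutatorElement

namespace Cfsg.Agent.S0307

/-- PSL_n(q) is normal in PGL_n(q) with cyclic quotient of order gcd(n, q-1): the image of the natural map PSL_n → PGL_n is the kernel of a surjective homomorphism onto the cyclic group of that order. -/
theorem result {F : Type*} [Field F] [Fintype F] {q : ℕ} (hF : Fintype.card F = q) (n : ℕ) (hn : 1 ≤ n) : ∃ g : Matrix.ProjGenLinGroup (Fin n) F →* Multiplicative (ZMod (Nat.gcd n (q - 1))), Function.Surjective g ∧ g.ker = (Matrix.ProjectiveSpecialLinearGroup.toPGL : Matrix.ProjectiveSpecialLinearGroup (Fin n) F →* Matrix.ProjGenLinGroup (Fin n) F).range := by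
  subst hF
  set d := Nat.gcd n (Fintype.card F - 1) with hd
  have : Nonempty (Fin n) := ⟨⟨0, hn⟩⟩
  have : IsCyclic Fˣ := inferInstance
  -- a surjection of the cyclic group `Fˣ` onto `ZMod d` with kernel the `n`-th powers
  let N : Subgroup Fˣ := (powMonoidHom n : Fˣ →* Fˣ).range
  have hN : N.index = d := by
    rw [IsCyclic.index_powMonoidHom_range, Cfsg.Lib.Linear.card_units_eq, hd, Nat.gcd_comm]
  have hQc : IsCyclic (Fˣ ⧸ N) := isCyclic_of_surjective _ (QuotientGroup.mk'_surjective N)
  have hcard : Nat.card (Fˣ ⧸ N) = d := by rw [← hN]; rfl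
  let e : Fˣ ⧸ N ≃* Multiplicative (ZMod d) :=
    mulEquivOfCyclicCardEq (by rw [hcard, Nat.card_congr Multiplicative.toAdd, Nat.card_zmod])
  let g₀ : GL (Fin n) F →* Multiplicative (ZMod d) :=
    (e.toMonoidHom.comp (QuotientGroup.mk' N)).comp Matrix.GeneralLinearGroup.det
  have hker : ∀ x : GL (Fin n) F, g₀ x = 1 ↔ ∃ u : Fˣ, u ^ n = Matrix.GeneralLinearGroup.det x := by
    intro x
    simp [g₀, N, MonoidHom.mem_range]
  have hsc : ∀ u : Fˣ,
      Matrix.GeneralLinearGroup.det (Matrix.GeneralLinearGroup.scalar (Fin n) u) = u ^ n := by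
    intro u
    ext
    simp
  have hc : Subgroup.center (GL (Fin n) F) ≤ g₀.ker := by
    rw [Matrix.GeneralLinearGroup.center_eq_range_scalar]
    rintro _ ⟨u, rfl⟩
    exact (hker _).2 ⟨u, (hsc u).symm⟩
  refine ⟨QuotientGroup.lift _ g₀ hc, ?_, ?_⟩
  · refine QuotientGroup.lift_surjective_of_surjective _ _ ?_ hc
    exact (e.surjective.comp (QuotientGroup.mk'_surjective N)).comp
      Matrix.GeneralLinearGroup.det_surjective
  · ext y
    induction y using Matrix.ProjGenLinGroup.induction_on with
    | mk x =>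
      constructor
      · intro hy
        obtain ⟨u, hu⟩ := (hker x).1 hy
        have hdet : Matrix.GeneralLinearGroup.det
            (x * (Matrix.GeneralLinearGroup.scalar (Fin n) u)⁻¹) = 1 := by
          rw [map_mul, map_inv, hsc, hu, mul_inv_cancel]
        have hm : x * (Matrix.GeneralLinearGroup.scalar (Fin n) u)⁻¹ ∈
            (Matrix.GeneralLinearGroup.det : GL (Fin n) F →* Fˣ).ker := hdet
        rw [← Cfsg.Lib.Linear.range_toGL] at hm
        obtain ⟨A, hA⟩ := hm
        refine ⟨(A : Matrix.ProjectiveSpecialLinearGroup (Fin n) F), ?_⟩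
        rw [Matrix.ProjectiveSpecialLinearGroup.toPGL_mk, Matrix.ProjGenLinGroup.mk_eq_mk_iff]
        exact ⟨u, by rw [hA, inv_mul_cancel_right]⟩
      · rintro ⟨z, hz⟩
        induction z using QuotientGroup.induction_on with
        | H A =>
          rw [Matrix.ProjectiveSpecialLinearGroup.toPGL_mk, Matrix.ProjGenLinGroup.mk_eq_mk_iff] at hz
          obtain ⟨u, hu⟩ := hz
          refine (hker x).2 ⟨u, ?_⟩
          rw [← hu, map_mul, hsc]
          have : Matrix.GeneralLinearGroup.det (Matrix.SpecialLinearGroup.toGL A) = 1 := by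
            ext; simp
          rw [this, one_mul]

end Cfsg.Agent.S0307
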