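import Cfsg.Statements.S0316
import Cfsg.Agent.Lib.Linear.BNPair

set_option autoImplicit false
open Cfsg
open Cfsg.Lib.Linear

namespace Cfsg.Agent.S0316

/-- The map `J ↦ P_J` is a lattice isomorphism from the power set of the set of distinguished generators onto the
subgroups containing `B`. -/
theorem result {G : Type*} [Group G] (P : Cfsg.BNPair G) :
    ∃ e : Set P.S ≃o {M : Subgroup G // P.B ≤ M},
      ∀ J : Set P.S, ((e J : {M : Subgroup G // P.B ≤ M}) : Subgroup G) = P.parabolic (Subtype.val '' J) := by
  refine ⟨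
    { toFun := fun J => ⟨P.parabolic (Subtype.val '' J), BN.B_le_parabolic _⟩
      invFun := fun M => Subtype.val ⁻¹' ((M : Subgroup G) : Set G)
      left_inv := ?_
      right_inv := ?_
      map_rel_iff' := ?_ }, fun J => rfl⟩
  · intro J
    ext s
    have h := BN.S_inter_parabolic (P := P) (J := Subtype.val '' J) (Subtype.coe_image_subset _ _)
    constructor
    · intro hs
      have h2 : (s : G) ∈ Subtype.val '' J := by rw [← h]; exact ⟨s.2, hs⟩
      obtain ⟨t, ht, hts⟩ := h2
      exact (Subtype.ext hts) ▸ ht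
    · intro hs
      exact BN.subset_parabolic _ ⟨s, hs, rfl⟩
  · rintro ⟨M, hM⟩
    apply Subtype.ext
    show P.parabolic (Subtype.val '' (Subtype.val ⁻¹' (M : Set G))) = M
    rw [Subtype.image_preimage_coe]
    exact (BN.eq_parabolic hM).symm
  · intro J K
    show P.parabolic (Subtype.val '' J) ≤ P.parabolic (Subtype.val '' K) ↔ J ⊆ K
    constructor
    · intro h s hs
      have h2 : (s : G) ∈ Subtype.val '' K := by
        rw [← BN.S_inter_parabolic (P := P) (J := Subtype.val '' K) (Subtype.coe_image_subset _ _)]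
        exact ⟨s.2, h (BN.subset_parabolic _ ⟨s, hs, rfl⟩)⟩
      obtain ⟨t, ht, hts⟩ := h2
      exact (Subtype.ext hts) ▸ ht
    · intro h
      exact BN.parabolic_mono (Set.image_mono h)

end Cfsg.Agent.S0316
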