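import Cfsg.Statements.S0321
import Cfsg.Agent.Lib.Linear.BNPair

set_option autoImplicit false
open Cfsg
open Cfsg.Lib.Linear

namespace Cfsg.Agent.S0321

/-- For `n ∈ N` not in `B`, the union `B ∪ B n B` is (the underlying set of) a subgroup exactly when `n` agrees
modulo `B ⊓ N` with one of the distinguished representatives; thus the distinguished involutions are
determined by `B` and `N`. -/
theorem result {G : Type*} [Group G] (P : Cfsg.BNPair G) {n : G}
    (hn : n ∈ P.N) (hnB : n ∉ P.B) :
    (∃ H : Subgroup G, (H : Set G) = (P.B : Set G) ∪ DoubleCoset.doubleCoset n (P.B : Set G) P.B) ↔ ∃ s ∈ P.S, s⁻¹ * n ∈ P.B := by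
  constructor
  · rintro ⟨H, hH⟩
    have hBH : P.B ≤ H := fun x hx => by
      rw [← SetLike.mem_coe, hH]; exact Or.inl hx
    have hpar := BN.eq_parabolic (P := P) (M := H) hBH
    obtain ⟨s, hs, hsH⟩ : (P.S ∩ (H : Set G)).Nonempty := by
      rw [Set.nonempty_iff_ne_empty]
      intro h0
      rw [h0] at hpar
      have h1 : n ∈ H := by
        rw [← SetLike.mem_coe, hH]; exact Or.inr (DoubleCoset.mem_doubleCoset_self ..)
      have h2 : H ≤ P.B := by
        rw [hpar]
        exact sup_le le_rfl (by rw [Subgroup.closure_empty]; exact bot_le)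
      exact hnB (h2 h1)
    rw [hH] at hsH
    rcases hsH with h | h
    · exact absurd h (BN.not_mem_B hs)
    · exact ⟨s, hs, (BN.same_of_mem_cell (P.subset hs) hn (BN.self_mem_cell s) h).1⟩
  · rintro ⟨s, hs, hsn⟩
    have hsame : BN.Same P s n :=
      Subgroup.mem_inf.2 ⟨hsn, mul_mem (inv_mem (show s ∈ P.N from P.subset hs)) hn⟩
    refine ⟨P.parabolic {s}, ?_⟩
    have hJ : ({s} : Set G) ⊆ P.S := Set.singleton_subset_iff.2 hs
    ext g
    constructor
    · intro hg
      obtain ⟨m, hm, hgm⟩ := BN.parabolic_cells hJ hg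
      obtain ⟨l, hl, hlm⟩ := BN.exists_word hJ (Subgroup.mem_sup_left hm)
      obtain ⟨l', hl', h1, h2⟩ := BN.exists_reduced_in hJ l hl
      have h3 : BN.Same P l'.prod m := h1.trans hlm
      match l', hl', h2, h3 with
      | [], _, _, h3 =>
        left
        simp only [List.prod_nil] at h3
        rw [← h3.cell_eq] at hgm
        obtain ⟨b, hb, c, hc, rfl⟩ := BN.mem_cell.1 hgm
        exact mul_mem (mul_mem hb (one_mem _)) hc
      | [r], hl', _, h3 =>
        right
        obtain rfl : r = s := hl' r (List.mem_singleton_self r)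
        simp only [List.prod_cons, List.prod_nil, mul_one] at h3
        rw [← h3.cell_eq, hsame.cell_eq] at hgm
        exact hgm
      | r :: r' :: l'', hl', h2, _ =>
        exfalso
        obtain rfl : r = s := hl' r (List.mem_cons_self ..)
        obtain rfl : r' = r := hl' r' (by simp)
        have hS : ∀ x ∈ l'', x ∈ P.S := fun x hx => hJ (hl' x (by simp [hx]))
        have h4 : BN.len P (r' :: r' :: l'').prod ≤ l''.length := by
          refine BN.len_le hS ?_
          simp only [List.prod_cons]
          exact BN.same_sq_mul hs (BN.prod_mem_N hS)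
        rw [BN.len_congr h1, ← h2] at h4
        simp at h4
    · rintro (hg | hg)
      · exact BN.B_le_parabolic _ hg
      · obtain ⟨b, hb, c, hc, rfl⟩ := DoubleCoset.mem_doubleCoset.1 hg
        have h1 : n ∈ P.parabolic {s} := by
          simpa using mul_mem (BN.subset_parabolic {s} (Set.mem_singleton s)) (BN.B_le_parabolic {s} hsn)
        exact mul_mem (mul_mem (BN.B_le_parabolic _ hb) h1) (BN.B_le_parabolic _ hc)

end Cfsg.Agent.S0321
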