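import Cfsg.Statements.S0322
import Cfsg.Agent.Lib.Linear.BNPair

set_option autoImplicit false
open Cfsg
open Cfsg.Lib.Linear

namespace Cfsg.Agent.S0322

/-- A group with a (B,N)-pair of rank one acts doubly transitively on the left cosets of `B`. -/
theorem result {G : Type*} [Group G] (P : Cfsg.BNPair G) (h : P.rank = 1) : MulAction.IsMultiplyPretransitive G (G ⧸ P.B) 2 := by
  obtain ⟨s, hs⟩ : ∃ s, P.S = {s} := by
    unfold Cfsg.BNPair.rank at h
    rw [Nat.card_eq_one_iff_unique] at h
    obtain ⟨h1, ⟨s, hs⟩⟩ := h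
    exact ⟨s, Set.eq_singleton_iff_unique_mem.2 ⟨hs, fun x hx =>
      congrArg Subtype.val (Subsingleton.elim (⟨x, hx⟩ : P.S) ⟨s, hs⟩)⟩⟩
  have hsS : s ∈ P.S := by rw [hs]; exact rfl
  -- two cells only
  have hcell : ∀ g : G, g ∈ P.B ∨ g ∈ BN.cell P s := by
    intro g
    obtain ⟨n, hn, hg⟩ := BN.bruhat (P := P) g
    obtain ⟨l, hl, hS, hsame⟩ := BN.exists_reduced hn
    match l, hl, hS, hsame with
    | [], _, _, hsame =>
      left
      rw [← hsame.cell_eq] at hg
      obtain ⟨b, hb, c, hc, rfl⟩ := BN.mem_cell.1 hg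
      simp only [List.prod_nil, mul_one]
      exact mul_mem hb hc
    | [r], _, hS, hsame =>
      right
      have hr : r = s := by simpa [hs] using hS r (List.mem_singleton_self r)
      rw [← hsame.cell_eq, List.prod_singleton, hr] at hg
      exact hg
    | r :: r' :: l', hl, hS, hsame =>
      exfalso
      have hS' : ∀ x ∈ l', x ∈ P.S := fun x hx => hS x (by simp [hx])
      have hr : r = s := by simpa [hs] using hS r (List.mem_cons_self ..)
      have hr' : r' = s := by simpa [hs] using hS r' (by simp)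
      rw [hr, hr'] at hsame
      have h4 : BN.len P n ≤ l'.length := by
        refine BN.len_le hS' (BN.Same.trans ?_ hsame)
        simp only [List.prod_cons]
        exact BN.same_sq_mul hsS (BN.prod_mem_N hS')
      rw [← hl] at h4
      simp at h4
  rw [MulAction.is_two_pretransitive_iff]
  intro a b c d hab hcd
  -- move any two points to the base pair
  have key : ∀ a b : G ⧸ P.B, a ≠ b → ∃ g : G, g • a = ((1 : G) : G ⧸ P.B) ∧ g • b = ((s : G) : G ⧸ P.B) := by
    intro a b hab
    obtain ⟨x, rfl⟩ := QuotientGroup.mk_surjective a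
    obtain ⟨y, rfl⟩ := QuotientGroup.mk_surjective b
    have hxy : x⁻¹ * y ∈ BN.cell P s := (hcell _).resolve_left fun h' => hab (QuotientGroup.eq.2 h')
    obtain ⟨u, hu, v, hv, he⟩ := BN.mem_cell.1 hxy
    refine ⟨u⁻¹ * x⁻¹, ?_, ?_⟩
    · rw [MulAction.Quotient.smul_mk, QuotientGroup.eq]
      simpa [mul_assoc] using hu
    · rw [MulAction.Quotient.smul_mk, QuotientGroup.eq, smul_eq_mul, mul_assoc, he]
      simpa [mul_assoc] using inv_mem hv
  obtain ⟨g, hga, hgb⟩ := key a b hab
  obtain ⟨g', hgc, hgd⟩ := key c d hcd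
  exact ⟨g'⁻¹ * g, by rw [mul_smul, hga, ← hgc, inv_smul_smul], by rw [mul_smul, hgb, ← hgd, inv_smul_smul]⟩

end Cfsg.Agent.S0322
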