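import Cfsg.Statements.S0323
import Cfsg.Agent.Lib.Linear.BNPair

set_option autoImplicit false
open scoped Pointwise
open Cfsg
open Cfsg.Lib.Linear

namespace Cfsg.Agent.S0323

/-- A doubly transitive action on a set with at least three points yields a (B,N)-pair of rank one:
`B` is the stabiliser of a point `x`, `N` the setwise stabiliser of a pair `{x, y}`. -/
theorem result {G Ω : Type*} [Group G] [MulAction G Ω]
    (h2 : MulAction.IsMultiplyPretransitive G Ω 2) {x y z : Ω} (hxy : x ≠ y) (hyz : y ≠ z) (hxz : x ≠ z) :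
    ∃ P : Cfsg.BNPair G, P.B = MulAction.stabilizer G x ∧
      P.N = MulAction.stabilizer G ({x, y} : Set Ω) ∧ P.rank = 1 := by
  have h1 : ∀ {a b c d : Ω}, a ≠ b → c ≠ d → ∃ g : G, g • a = c ∧ g • b = d :=
    MulAction.is_two_pretransitive_iff.1 h2
  obtain ⟨s, hsx, hsy⟩ := h1 hxy hxy.symm
  have hB : ∀ {u v : Ω}, u ≠ x → v ≠ x → ∃ b ∈ MulAction.stabilizer G x, b • u = v := by
    intro u v hu hv
    obtain ⟨b, hb1, hb2⟩ := h1 hu.symm hv.symm
    exact ⟨b, hb1, hb2⟩
  have hN : ∀ g : G, g ∈ MulAction.stabilizer G ({x, y} : Set Ω) ↔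
      (g • x = x ∧ g • y = y) ∨ (g • x = y ∧ g • y = x) := by
    intro g
    rw [MulAction.mem_stabilizer_iff, Set.smul_set_insert, Set.smul_set_singleton,
      Set.pair_eq_pair_iff]
  have hcov : ∀ g : G, g ∈ MulAction.stabilizer G x ∨
      g ∈ DoubleCoset.doubleCoset s (MulAction.stabilizer G x : Set G) (MulAction.stabilizer G x) := by
    intro g
    by_cases hg : g • x = x
    · exact Or.inl hg
    · obtain ⟨b, hb, hbg⟩ := hB hxy.symm hg
      refine Or.inr (DoubleCoset.mem_doubleCoset.2 ⟨b, hb, (b * s)⁻¹ * g, ?_, by group⟩)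
      show ((b * s)⁻¹ * g) • x = x
      rw [mul_smul, inv_smul_eq_iff, mul_smul, hsx, hbg]
  have hsB : s ∉ MulAction.stabilizer G x := fun h => hxy (((MulAction.mem_stabilizer_iff.1 h).symm).trans hsx)
  refine ⟨
    { B := MulAction.stabilizer G x
      N := MulAction.stabilizer G ({x, y} : Set Ω)
      S := {s}
      sup_eq_top := ?_
      conj_mem := ?_
      subset := ?_
      sq_mem := ?_
      inj := ?_
      closure_sup := ?_
      mul_mem_union := ?_
      conj_ne := ?_ }, rfl, rfl, ?_⟩
  · rw [eq_top_iff]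
    intro g _
    rcases hcov g with h | h
    · exact Subgroup.mem_sup_left h
    · obtain ⟨b, hb, c, hc, rfl⟩ := DoubleCoset.mem_doubleCoset.1 h
      exact mul_mem (mul_mem (Subgroup.mem_sup_left hb) (Subgroup.mem_sup_right ((hN s).2 (Or.inr ⟨hsx, hsy⟩))))
        (Subgroup.mem_sup_left hc)
  · rintro n hn t ⟨ht1, ht2⟩
    have ht1' : t • x = x := ht1
    have ht3 : t • y = y := by
      rcases (hN t).1 ht2 with ⟨_, h⟩ | ⟨h, _⟩
      · exact h
      · exact absurd (ht1'.symm.trans h) hxy
    show (n * t * n⁻¹) • x = x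
    rcases (hN n).1 hn with ⟨h, _⟩ | ⟨_, h⟩
    · have h' : n⁻¹ • x = x := inv_smul_eq_iff.2 h.symm
      rw [mul_smul, mul_smul, h', ht1', h]
    · have h' : n⁻¹ • x = y := inv_smul_eq_iff.2 h.symm
      rw [mul_smul, mul_smul, h', ht3, h]
  · intro t ht
    obtain rfl : s = t := ht.symm
    exact (hN s).2 (Or.inr ⟨hsx, hsy⟩)
  · intro t ht
    obtain rfl : s = t := ht.symm
    show (s * s) • x = x
    rw [mul_smul, hsx, hsy]
  · rintro _ rfl _ rfl _
    rfl
  · refine le_antisymm (sup_le ?_ inf_le_right) ?_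
    · rw [Subgroup.closure_le, Set.singleton_subset_iff]
      exact (hN s).2 (Or.inr ⟨hsx, hsy⟩)
    · intro n hn
      rcases (hN n).1 hn with ⟨h, _⟩ | ⟨h, h'⟩
      · exact Subgroup.mem_sup_right ⟨h, hn⟩
      · have e : n = s * (s⁻¹ * n) := by group
        rw [e]
        refine mul_mem (Subgroup.mem_sup_left (Subgroup.subset_closure rfl)) (Subgroup.mem_sup_right ?_)
        refine Subgroup.mem_inf.2 ⟨?_, mul_mem (inv_mem ((hN s).2 (Or.inr ⟨hsx, hsy⟩))) hn⟩
        show (s⁻¹ * n) • x = x
        rw [mul_smul, h, inv_smul_eq_iff, hsx]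
  · intro t ht n hn b hb
    obtain rfl : s = t := ht.symm
    -- one of the two cosets is `B` and the other is `B s B`
    have hnn : ∀ g : G, g ∈ MulAction.stabilizer G x →
        DoubleCoset.doubleCoset g (MulAction.stabilizer G x : Set G) (MulAction.stabilizer G x) =
          DoubleCoset.doubleCoset 1 (MulAction.stabilizer G x : Set G) (MulAction.stabilizer G x) := fun g hg =>
      DoubleCoset.doubleCoset_eq_of_mem (DoubleCoset.mem_doubleCoset.2 ⟨g, hg, 1, one_mem _, by group⟩)
    have hmem1 : ∀ g : G, g ∈ MulAction.stabilizer G x → g ∈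
        DoubleCoset.doubleCoset 1 (MulAction.stabilizer G x : Set G) (MulAction.stabilizer G x) := fun g hg =>
      DoubleCoset.mem_doubleCoset.2 ⟨g, hg, 1, one_mem _, by group⟩
    have hdne : ∀ g : G, g ∉ MulAction.stabilizer G x →
        DoubleCoset.doubleCoset g (MulAction.stabilizer G x : Set G) (MulAction.stabilizer G x) =
          DoubleCoset.doubleCoset s (MulAction.stabilizer G x : Set G) (MulAction.stabilizer G x) := fun g hg =>
      DoubleCoset.doubleCoset_eq_of_mem ((hcov g).resolve_left hg)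
    have hsn : n ∈ MulAction.stabilizer G x ↔ s * n ∉ MulAction.stabilizer G x := by
      simp only [MulAction.mem_stabilizer_iff, mul_smul]
      rcases (hN n).1 hn with ⟨h, _⟩ | ⟨h, _⟩ <;> rw [h] <;> simp [hsx, hsy, hxy.symm]
    by_cases hnB : n ∈ MulAction.stabilizer G x
    · rw [hdne _ (hsn.1 hnB), hnn n hnB]
      rcases hcov (s * b * n) with h | h
      · exact Or.inr (hmem1 _ h)
      · exact Or.inl h
    · have h' : s * n ∈ MulAction.stabilizer G x := by
        by_contra h'
        exact hnB (hsn.2 h')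
      rw [hdne _ hnB, hnn _ h']
      rcases hcov (s * b * n) with h | h
      · exact Or.inl (hmem1 _ h)
      · exact Or.inr h
  · intro t ht h
    obtain rfl : s = t := ht.symm
    obtain ⟨b, hb, hby⟩ := hB hxy.symm hxz.symm
    have : s * b * s ∈ (MulAction.stabilizer G x : Set G) := by rw [← h]; exact ⟨b, hb, rfl⟩
    have h' : (s * b * s) • x = x := this
    rw [mul_smul, mul_smul, hsx, hby] at h'
    exact hyz (MulAction.injective s (hsy.trans h'.symm))
  · show Nat.card ({s} : Set G) = 1
    simp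

end Cfsg.Agent.S0323
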