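import Cfsg.Statements.S0335
import Cfsg.Agent.Lib.Linear.Suzuki.Sylow

set_option autoImplicit false
open Cfsg

namespace Cfsg.Agent.S0335

open Cfsg.Lib.Linear

/-- The Suzuki–Tits point set is an ovoid: any three distinct points of it are projectively independent
(no line of projective 3-space meets it in more than two points). -/
theorem result {F : Type*} [Field F] [Fintype F] {m : ℕ} (hm : 1 ≤ m)
    (hF : Fintype.card F = 2 ^ (2 * m + 1)) (p : Fin 3 ↪ Cfsg.suzukiOvoid F m) :
    Projectivization.Independent (fun i => (p i : Projectivization F (Fin 4 → F))) := by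
  classical
  have h : Suz.Params F m := ⟨hm, hF⟩
  obtain ⟨g, hg0, hg1⟩ := Suz.to_inf_zero h (p 0).2 (p 1).2
    (fun e => absurd (p.injective (Subtype.ext e)) (by decide))
  obtain ⟨x, y, hg2⟩ := (Suz.mem_ovoid_iff.mp (Suz.mem_Sz_iff.mp g.2 _ (p 2).2)).resolve_left fun e =>
    absurd (p.injective (Subtype.ext (MulAction.injective g.1 (hg0.trans e.symm)))) (by decide)
  have hxy : ¬ (x = 0 ∧ y = 0) := by
    rintro ⟨rfl, rfl⟩
    exact absurd (p.injective (Subtype.ext (MulAction.injective g.1 (hg1.trans hg2.symm)))) (by decide)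
  rw [Projectivization.independent_iff, Fintype.linearIndependent_iff]
  intro c hc
  simp only [Function.comp_apply, Fin.sum_univ_three] at hc
  have hv : ∀ (i : Fin 3) (w : Fin 4 → F) (hw : w ≠ 0), g.1 • (p i).1 = Projectivization.mk F w hw →
      ∃ a : F, a ≠ 0 ∧ g.1.val.mulVec (p i).1.rep = a • w := fun i w hw e => by
    refine Suz.exists_of_smul_eq g.1 (hv := Projectivization.rep_nonzero _) (hw := hw) ?_
    rw [Projectivization.mk_rep]
    exact e
  obtain ⟨a0, ha0, e0⟩ := hv 0 ![1, 0, 0, 0] (by simp) hg0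
  obtain ⟨a1, ha1, e1⟩ := hv 1 (Suz.pv m 0 0) (Suz.pv_ne _ _ _) hg1
  obtain ⟨a2, ha2, e2⟩ := hv 2 (Suz.pv m x y) (Suz.pv_ne _ _ _) hg2
  have hc' := congrArg (fun v => g.1.val.mulVec v) hc
  simp only [Matrix.mulVec_add, Matrix.mulVec_smul, e0, e1, e2, Matrix.mulVec_zero] at hc'
  have f0 := congrFun hc' 0
  have f1 := congrFun hc' 1
  have f2 := congrFun hc' 2
  have f3 := congrFun hc' 3
  simp [Suz.pv, Suz.zc, Suz.th_zero h] at f0 f1 f2 f3
  have hc2 : c 2 = 0 := by
    rcases f1 with f | f | f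
    · exact f
    · exact absurd f ha2
    · rcases f2 with f' | f' | f'
      · exact f'
      · exact absurd f' ha2
      · exact absurd ⟨f', f⟩ hxy
  intro i
  fin_cases i
  · simpa [hc2, ha0] using f0
  · simpa [hc2, ha1] using f3
  · exact hc2

end Cfsg.Agent.S0335
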