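import Cfsg.Statements.S0341
import Cfsg.Agent.S1545
import Cfsg.Agent.Lib.Solv.FrobeniusBasic
import Cfsg.Agent.Lib.Core.Cores
import Cfsg.Agent.Lib.Core.Fitting

set_option autoImplicit false
open Cfsg

namespace Cfsg.Agent.S0341

/-- If a finite group acts faithfully and doubly transitively, no non-identity element fixes three points, some
non-identity element fixes two points, and some normal subgroup acts regularly, then the number of points
is `2^p` with `p` prime. -/
theorem result {G Ω : Type*} [Group G]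
    [MulAction G Ω] [Fintype Ω] [FaithfulSMul G Ω] (h2 : MulAction.IsMultiplyPretransitive G Ω 2)
    (h3 : ∀ g : G, ∀ a b c : Ω, a ≠ b → b ≠ c → a ≠ c → g • a = a → g • b = b → g • c = c → g = 1)
    (hfix : ∃ g : G, g ≠ 1 ∧ ∃ a b : Ω, a ≠ b ∧ g • a = a ∧ g • b = b)
    (N : Subgroup G) [N.Normal] (hNt : MulAction.IsPretransitive N Ω)
    (hNr : ∀ a : Ω, MulAction.stabilizer N a = ⊥) :
    ∃ p : ℕ, p.Prime ∧ Fintype.card Ω = 2 ^ p := by
  classical
  haveI : Finite G := Finite.of_injective (fun g : G => (fun o : Ω => g • o))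
    fun g g' h => FaithfulSMul.eq_of_smul_eq_smul (fun o => congrFun h o)
  haveI := h2
  obtain ⟨g, hg1, a, b, hab, hga, hgb⟩ := hfix
  -- the regular normal subgroup
  have hreg : ∀ n ∈ N, ∀ m ∈ N, n • a = m • a → n = m := by
    intro n hn m hm h
    have h1 : (⟨m⁻¹ * n, N.mul_mem (N.inv_mem hm) hn⟩ : N) ∈ MulAction.stabilizer N a := by
      show (m⁻¹ * n) • a = a
      rw [mul_smul, h, inv_smul_smul]
    rw [hNr, Subgroup.mem_bot] at h1
    exact (inv_mul_eq_one.mp (congrArg Subtype.val h1)).symm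
  have hbij : ∀ c : Ω, ∃ n ∈ N, n • a = c := fun c => by
    obtain ⟨⟨n, hn⟩, hnc⟩ := MulAction.exists_smul_eq N a c
    exact ⟨n, hn, hnc⟩
  have hcardN : Nat.card N = Fintype.card Ω := by
    rw [← Nat.card_eq_fintype_card]
    exact Nat.card_eq_of_bijective (fun n : N => (n : G) • a)
      ⟨fun n m h => Subtype.ext (hreg _ n.2 _ m.2 h), fun c => by
        obtain ⟨n, hn, hnc⟩ := hbij c; exact ⟨⟨n, hn⟩, hnc⟩⟩
  have hsmul : ∀ h : G, h • a = a → ∀ n : G, (h * n * h⁻¹) • a = h • n • a := by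
    intro h hh n
    have h1 : h⁻¹ • a = a := by rw [inv_smul_eq_iff, hh]
    rw [mul_smul, mul_smul, h1]
  obtain ⟨x0, hx0, hx0b⟩ := hbij b
  have hx01 : x0 ≠ 1 := fun h => hab (by rw [← hx0b, h, one_smul])
  -- the fixed points of a nontrivial element of the two-point stabilizer
  have hfixd : ∀ d : G, d • a = a → d • b = b → d ≠ 1 → ∀ n ∈ N,
      (d * n * d⁻¹ = n ↔ (n = 1 ∨ n = x0)) := by
    intro d hda hdb hd1 n hn
    constructor
    · intro h
      by_contra hcon
      push Not at hcon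
      refine hd1 (h3 d a b (n • a) hab (fun e => hcon.2 (hreg _ hn _ hx0 (e.symm.trans hx0b.symm)))
        (fun e => hcon.1 (hreg _ hn _ N.one_mem (e.symm.trans (one_smul G a).symm))) hda hdb ?_)
      rw [← hsmul d hda, h]
    · rintro (rfl | rfl)
      · simp
      · refine hreg _ (Subgroup.Normal.conj_mem inferInstance _ hn d) _ hn ?_
        rw [hsmul d hda, hx0b, hdb]
  have hx0sq : x0 * x0 = 1 := by
    have h1 := ((hfixd g hga hgb hg1 x0 hx0).mpr (Or.inr rfl))
    have h2' : g * (x0 * x0) * g⁻¹ = x0 * x0 := by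
      calc g * (x0 * x0) * g⁻¹ = (g * x0 * g⁻¹) * (g * x0 * g⁻¹) := by group
        _ = x0 * x0 := by rw [h1]
    rcases (hfixd g hga hgb hg1 _ (N.mul_mem hx0 hx0)).mp h2' with h | h
    · exact h
    · exact absurd (mul_eq_left.mp h) hx01
  have htrans : ∀ c c' : Ω, c ≠ a → c' ≠ a → ∃ h : G, h • a = a ∧ h • c = c' := fun c c' hc hc' => by
    obtain ⟨h, h1, h2'⟩ := (MulAction.is_two_pretransitive_iff.mp h2) (Ne.symm hc) (Ne.symm hc')
    exact ⟨h, h1, h2'⟩
  have hinv : ∀ n ∈ N, n * n = 1 := by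
    intro n hn
    by_cases hn1 : n = 1
    · rw [hn1, one_mul]
    have hna : n • a ≠ a := fun e => hn1 (hreg _ hn _ N.one_mem (e.trans (one_smul G a).symm))
    obtain ⟨h, hha, hhb⟩ := htrans b (n • a) hab.symm hna
    have h1 : h * x0 * h⁻¹ = n := hreg _ (Subgroup.Normal.conj_mem inferInstance _ hx0 h) _ hn (by
      rw [hsmul h hha, hx0b, hhb])
    rw [← h1, show h * x0 * h⁻¹ * (h * x0 * h⁻¹) = h * (x0 * x0) * h⁻¹ by group, hx0sq, mul_one, mul_inv_cancel]
  have hcomm : ∀ n ∈ N, ∀ m ∈ N, n * m = m * n := by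
    intro n hn m hm
    calc n * m = n * m * ((m * n) * (m * n)) := by rw [hinv _ (N.mul_mem hm hn), mul_one]
      _ = n * (m * m) * (n * m * n) := by simp only [mul_assoc]
      _ = n * n * (m * n) := by rw [hinv m hm, mul_one]; simp only [mul_assoc]
      _ = m * n := by rw [hinv n hn, one_mul]
  haveI : Fact (Nat.Prime 2) := ⟨Nat.prime_two⟩
  obtain ⟨m, hm⟩ := IsPGroup.iff_card.mp (show IsPGroup 2 N from fun n => ⟨1, Subtype.ext (by
    rw [pow_one, Subgroup.coe_pow, pow_two, hinv _ n.2]; rfl)⟩)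
  have h2m : 3 ≤ Fintype.card Ω := by
    by_contra hlt
    push Not at hlt
    refine hg1 (FaithfulSMul.eq_of_smul_eq_smul (α := Ω) fun c => ?_)
    rw [one_smul]
    have h1 : ({a, b} : Finset Ω) = Finset.univ := Finset.eq_univ_of_card _ (by
      rw [Finset.card_pair hab]
      have := Finset.card_le_univ ({a, b} : Finset Ω)
      rw [Finset.card_pair hab] at this
      omega)
    have hc : c ∈ ({a, b} : Finset Ω) := h1 ▸ Finset.mem_univ c
    simp only [Finset.mem_insert, Finset.mem_singleton] at hc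
    rcases hc with rfl | rfl
    · exact hga
    · exact hgb
  -- an element of prime order fixing two points
  let Dab : Subgroup G := MulAction.stabilizer G a ⊓ MulAction.stabilizer G b
  have hDne : Nat.card Dab ≠ 1 := by
    rw [Subgroup.card_eq_one.ne]
    exact fun h => hg1 ((Subgroup.eq_bot_iff_forall _).mp h g ⟨hga, hgb⟩)
  obtain ⟨r, hr, hrd⟩ := Nat.exists_prime_and_dvd hDne
  haveI := Fact.mk hr
  obtain ⟨d₀, hd⟩ := exists_prime_orderOf_dvd_card' (G := Dab) r hrd
  obtain ⟨d, hda, hdb, hd⟩ : ∃ d : G, d ∈ MulAction.stabilizer G a ∧ d ∈ MulAction.stabilizer G b ∧ orderOf d = r :=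
    ⟨d₀, d₀.2.1, d₀.2.2, by rw [Subgroup.orderOf_coe, hd]⟩
  have hd1 : d ≠ 1 := fun h => by rw [h, orderOf_one] at hd; exact hr.one_lt.ne hd
  have hda' : d • a = a := hda
  have hdb' : d • b = b := hdb
  have hC2 : Nat.card ↥(N ⊓ Subgroup.centralizer (Subgroup.zpowers d : Set G)) = 2 := by
    have hset : ((N ⊓ Subgroup.centralizer (Subgroup.zpowers d : Set G) : Subgroup G) : Set G) = {1, x0} := by
      ext n
      simp only [SetLike.mem_coe, Subgroup.mem_inf, Set.mem_insert_iff, Set.mem_singleton_iff]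
      constructor
      · rintro ⟨hn, hc⟩
        refine (hfixd d hda' hdb' hd1 n hn).mp ?_
        rw [Subgroup.mem_centralizer_iff.mp hc d (Subgroup.mem_zpowers d), mul_inv_cancel_right]
      · intro h
        have hn : n ∈ N := by rcases h with rfl | rfl; exacts [N.one_mem, hx0]
        refine ⟨hn, Subgroup.mem_centralizer_iff.mpr ?_⟩
        rintro _ ⟨k, rfl⟩
        have h1 : Commute d n := mul_inv_eq_iff_eq_mul.mp ((hfixd d hda' hdb' hd1 n hn).mpr h)
        exact h1.zpow_left k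
    rw [← SetLike.coe_sort_coe, hset, Nat.card_coe_set_eq, Set.ncard_pair hx01.symm]
  rcases hr.eq_two_or_odd' with hr2 | hrodd
  · -- an involution fixing two points
    subst hr2
    have hdd : d * d = 1 := by rw [← pow_two, ← hd, pow_orderOf_eq_one]
    let f : N →* G :=
      { toFun := fun n => (n : G) * (d * n * d⁻¹)
        map_one' := by simp
        map_mul' := fun n k => by
          have h1 := hcomm _ k.2 _ (Subgroup.Normal.conj_mem inferInstance _ n.2 d)
          calc ((n * k : N) : G) * (d * (n * k : N) * d⁻¹)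
              = n * (k * (d * n * d⁻¹)) * (d * k * d⁻¹) := by rw [Subgroup.coe_mul]; group
            _ = n * (d * n * d⁻¹) * (k * (d * k * d⁻¹)) := by rw [h1]; group }
    have hker : f.ker.map N.subtype ≤ N ⊓ Subgroup.centralizer (Subgroup.zpowers d : Set G) := by
      rintro _ ⟨n, hn, rfl⟩
      refine ⟨n.2, Subgroup.mem_centralizer_iff.mpr ?_⟩
      rintro _ ⟨k, rfl⟩
      have h1 : (n : G) * (d * n * d⁻¹) = 1 := hn
      have h2' : d * n * d⁻¹ = n := (eq_inv_of_mul_eq_one_right h1).trans (inv_eq_of_mul_eq_one_right (hinv _ n.2))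
      exact (show Commute d n from mul_inv_eq_iff_eq_mul.mp h2').zpow_left k
    have hrange : f.range ≤ N ⊓ Subgroup.centralizer (Subgroup.zpowers d : Set G) := by
      rintro _ ⟨n, rfl⟩
      have hc := Subgroup.Normal.conj_mem (H := N) inferInstance _ n.2 d
      refine ⟨N.mul_mem n.2 hc, Subgroup.mem_centralizer_iff.mpr ?_⟩
      rintro _ ⟨k, rfl⟩
      refine (show Commute d ((n : G) * (d * n * d⁻¹)) from mul_inv_eq_iff_eq_mul.mp ?_).zpow_left k
      calc d * ((n : G) * (d * n * d⁻¹)) * d⁻¹ = (d * n * d⁻¹) * ((d * d) * n * (d * d)⁻¹) := by group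
        _ = (n : G) * (d * n * d⁻¹) := by rw [hdd, one_mul, inv_one, mul_one, hcomm _ hc _ n.2]
    have h1 := f.ker.card_mul_index
    rw [Subgroup.index_ker, hm] at h1
    have h4 : Nat.card f.ker ≤ 2 := by
      rw [← Subgroup.card_map_of_injective N.subtype_injective, ← hC2]
      exact Subgroup.card_le_of_le hker
    have h5 : Nat.card f.range ≤ 2 := hC2 ▸ Subgroup.card_le_of_le hrange
    have h6 : 2 ^ m ≤ 2 ^ 2 := by rw [← h1]; exact le_trans (Nat.mul_le_mul h4 h5) (by norm_num)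
    refine ⟨2, Nat.prime_two, ?_⟩
    rw [← hcardN, hm] at h2m ⊢
    have h7 : m ≤ 2 := (Nat.pow_le_pow_iff_right (by norm_num)).mp h6
    interval_cases m <;> omega
  -- Frobenius structure of the point stabilizer
  set H := MulAction.stabilizer G a with hH
  set D := (MulAction.stabilizer G b).subgroupOf H with hD
  have hF : Cfsg.IsFrobeniusComplement D := by
    refine ⟨fun h => hg1 ?_, fun h => ?_, fun h hh => eq_bot_iff.mpr ?_⟩
    · have h1 : (⟨g, hga⟩ : H) ∈ D := hgb
      rw [h, Subgroup.mem_bot] at h1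
      exact congrArg Subtype.val h1
    · obtain ⟨c, hc⟩ : ∃ c : Ω, c ∉ ({a, b} : Finset Ω) := by
        by_contra hall
        push Not at hall
        have := Finset.card_le_card (fun x _ => hall x : (Finset.univ : Finset Ω) ⊆ {a, b})
        rw [Finset.card_univ, Finset.card_pair hab] at this
        omega
      simp only [Finset.mem_insert, Finset.mem_singleton, not_or] at hc
      obtain ⟨k, hka, hkb⟩ := htrans b c hab.symm hc.1
      have h1 : (⟨k, hka⟩ : H) ∈ D := h ▸ Subgroup.mem_top _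
      exact hc.2 (hkb.symm.trans h1)
    · rintro x ⟨hx, y, hy, rfl⟩
      rw [Subgroup.mem_bot]
      refine Subtype.ext (h3 _ a b ((h : G) • b) hab (fun e => hh e.symm) (fun e => hab ?_) ?_ hx ?_)
      · have h1 : (h : G) • a = a := h.2
        exact smul_left_cancel (h : G) (h1.trans e)
      · exact ((MulAut.conj h : H ≃* H) y).2
      · show ((h : G) * y * (h : G)⁻¹) • ((h : G) • b) = (h : G) • b
        rw [mul_smul, mul_smul, inv_smul_smul, show (y : G) • b = b from hy]
  obtain ⟨K, -, hKn, hKD⟩ := Cfsg.Lib.Solv.frobenius_theorem hF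
  let U : Subgroup G := K.map H.subtype
  let d' : H := ⟨d, hda⟩
  have hd'D : d' ∈ D := hdb
  have hK1 : K ≠ ⊥ := by
    intro h
    subst h
    exact hF.2.1 (Subgroup.isComplement'_bot_left.mp hKD)
  have hHN : ∀ x ∈ H, ∀ n ∈ N, x * n * x⁻¹ ∈ N := fun x _ n hn => Subgroup.Normal.conj_mem inferInstance n hn x
  have hUEH : U ⊔ Subgroup.zpowers d ≤ H := sup_le (Subgroup.map_subtype_le K) (Subgroup.zpowers_le.mpr hda)
  have hCU : N ⊓ Subgroup.centralizer (U : Set G) = ⊥ := by
    rw [eq_bot_iff]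
    rintro n ⟨hn, hc⟩
    rw [Subgroup.mem_bot]
    by_contra hn1
    have hna : n • a ≠ a := fun e => hn1 (hreg _ hn _ N.one_mem (e.trans (one_smul G a).symm))
    refine hK1 ((Subgroup.eq_bot_iff_forall _).mpr fun k hk => Subtype.ext ?_)
    refine FaithfulSMul.eq_of_smul_eq_smul (α := Ω) fun c => ?_
    rw [Subgroup.coe_one, one_smul]
    by_cases hca : c = a
    · rw [hca]; exact k.2
    obtain ⟨h, hha, hhc⟩ := htrans (n • a) c hna hca
    have hk' : (⟨h, hha⟩ : H)⁻¹ * k * (⟨h, hha⟩ : H) ∈ K := by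
      simpa using hKn.conj_mem k hk (⟨h, hha⟩ : H)⁻¹
    have h1 : ((⟨h, hha⟩ : H)⁻¹ * k * (⟨h, hha⟩ : H) : H).1 * n =
        n * ((⟨h, hha⟩ : H)⁻¹ * k * (⟨h, hha⟩ : H) : H).1 :=
      Subgroup.mem_centralizer_iff.mp hc _ ⟨_, hk', rfl⟩
    have h4 : (h⁻¹ * k * h) • (n • a) = n • a := by
      have h5 : (h⁻¹ * (k : G) * h) • a = a := ((⟨h, hha⟩ : H)⁻¹ * k * (⟨h, hha⟩ : H)).2
      rw [← mul_smul, show h⁻¹ * (k : G) * h * n = n * (h⁻¹ * k * h) from h1, mul_smul, h5]
    rw [← hhc]
    rw [mul_smul, mul_smul, inv_smul_eq_iff] at h4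
    exact h4
  have hcopU : (Nat.card K).Coprime 2 := by
    have h1 := hKD.card_mul
    have h2' : D.index = Fintype.card Ω - 1 := by
      have h4 := (MulAction.index_stabilizer (G := H) b)
      have h5 : MulAction.stabilizer H b = D := rfl
      rw [h5] at h4
      rw [h4, show MulAction.orbit H b = ({a}ᶜ : Set Ω) from Set.ext fun c => ⟨fun ⟨k, hk⟩ => by
          simp only [Set.mem_compl_iff, Set.mem_singleton_iff]
          intro hca
          have h6 : (k : G) • a = a := k.2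
          exact hab (smul_left_cancel (k : G) (h6.trans (hk.trans hca).symm)),
        fun hc => by
          obtain ⟨k, hka, hkb⟩ := htrans b c hab.symm hc
          exact ⟨⟨k, hka⟩, hkb⟩⟩, Set.ncard_compl, Set.ncard_singleton, Nat.card_eq_fintype_card]
    have h4 := D.card_mul_index
    rw [← h1, h2', mul_comm (Nat.card K)] at h4
    rw [← Nat.eq_of_mul_eq_mul_left Nat.card_pos h4, ← hcardN, hm]
    rw [Nat.coprime_two_right]
    rcases m with _ | m
    · rw [hm] at hcardN; omega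
    · exact ⟨2 ^ m - 1, by rw [pow_succ]; have := Nat.one_le_two_pow (n := m); omega⟩
  have hcop : Nat.Coprime (Nat.card N) (Nat.card ↥(U ⊔ Subgroup.zpowers d)) := by
    have h1 : U ⊔ Subgroup.zpowers d = (Subgroup.zpowers d' ⊔ K).map H.subtype := by
      rw [Subgroup.map_sup, MonoidHom.map_zpowers, sup_comm]; rfl
    rw [hm, h1, Subgroup.card_map_of_injective H.subtype_injective]
    refine Nat.Coprime.pow_left m (Cfsg.Lib.Core.coprime_card_sup ?_ hcopU).symm
    rw [Nat.card_zpowers, show orderOf d' = r from (Subgroup.orderOf_mk d hda).trans hd]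
    exact Nat.coprime_two_right.mpr hrodd
  have hE1 : Subgroup.zpowers d ≠ ⊥ := by rwa [Subgroup.zpowers_ne_bot]
  have hU1 : U ≠ ⊥ := fun h => hK1 ((Subgroup.map_eq_bot_iff_of_injective _ H.subtype_injective).mp h)
  have hUE : U ⊓ Subgroup.zpowers d = ⊥ := by
    rw [eq_bot_iff]
    rintro _ ⟨⟨k, hk, rfl⟩, ⟨j, hj⟩⟩
    have h1 : k ∈ D := by
      have : k = d' ^ j := Subtype.ext (by rw [SubgroupClass.coe_zpow]; exact hj.symm)
      rw [this]; exact D.zpow_mem hd'D j
    rw [Subgroup.mem_bot]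
    exact congrArg Subtype.val (Subgroup.mem_bot.mp (hKD.disjoint.le_bot ⟨hk, h1⟩))
  have hUn : ∀ e ∈ Subgroup.zpowers d, ∀ u ∈ U, e * u * e⁻¹ ∈ U := by
    rintro _ ⟨j, rfl⟩ _ ⟨k, hk, rfl⟩
    exact ⟨d' ^ j * k * (d' ^ j)⁻¹, hKn.conj_mem k hk _, by simp [d']⟩
  have hfpf : ∀ e ∈ Subgroup.zpowers d, e ≠ 1 → ∀ u ∈ U, e * u = u * e → u = 1 := by
    rintro _ ⟨j, rfl⟩ he _ ⟨k, hk, rfl⟩ hc
    have h1 : k = 1 := Cfsg.Lib.Solv.fpf_of_frobenius hF hKD.disjoint (h := d' ^ j) (D.zpow_mem hd'D j)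
      (fun h => he (by simpa [d'] using congrArg Subtype.val h)) hk (Subtype.ext (by
        simpa [d'] using hc.symm))
    rw [h1, map_one]
  have hdisj : N ⊓ (U ⊔ Subgroup.zpowers d) = ⊥ := by
    rw [eq_bot_iff]
    rintro n ⟨hn, hn'⟩
    exact Subgroup.mem_bot.mpr (hreg _ hn _ N.one_mem ((hUEH hn' : n • a = a).trans (one_smul G a).symm))
  haveI : IsMulCommutative N := ⟨⟨fun n k => Subtype.ext (hcomm _ n.2 _ k.2)⟩⟩
  have key := Cfsg.Agent.S1545.result U (Subgroup.zpowers d) N hU1 hE1 hUE hUn hfpf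
    (fun x _ n hn => Subgroup.Normal.conj_mem inferInstance n hn x) hdisj
    (Cfsg.Lib.Core.isSolvable_of_isMulCommutative N) hcop
  have hCUE : N ⊓ Subgroup.centralizer ((U ⊔ Subgroup.zpowers d : Subgroup G) : Set G) = ⊥ :=
    eq_bot_iff.mpr (hCU ▸ inf_le_inf_left N (Subgroup.centralizer_le (by exact_mod_cast le_sup_left)))
  rw [hCUE, hCU, Subgroup.card_bot, one_pow, one_mul, mul_one, hC2, Nat.card_zpowers, hd, hcardN] at key
  exact ⟨r, hr, key⟩

end Cfsg.Agent.S0341
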