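import Cfsg.Statements.S0351
import Cfsg.Agent.Lib.Concrete.Steiner

set_option autoImplicit false
open Cfsg Cfsg.Lib.Concrete

namespace Cfsg.Agent.S0351

/-- Derived design: removing a point p from the blocks through p of an S(t+1, k+1, v) yields an S(t, k, v-1) on the points other than p. -/
theorem result {α : Type*} [Fintype α] [DecidableEq α] {t k : ℕ} {B : Set (Finset α)} (hB : Cfsg.IsSteinerSystem (t + 1) (k + 1) B) (p : α) : Cfsg.IsSteinerSystem t k {b' : Finset {a : α // a ≠ p} | ∃ b ∈ B, p ∈ b ∧ b' = Finset.subtype (fun a => a ≠ p) b} := by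
  classical
  refine ⟨?_, fun s hs => ?_⟩
  · rintro _ ⟨b, hb, hp, rfl⟩
    rw [Finset.card_subtype, Finset.filter_ne', Finset.card_erase_of_mem hp, hB.1 b hb]
    rfl
  · set s' : Finset α := insert p (s.map (Function.Embedding.subtype _)) with hs'
    have hps : p ∉ s.map (Function.Embedding.subtype _) := fun h => by
      obtain ⟨a, -, e⟩ := Finset.mem_map.1 h
      exact a.2 e
    obtain ⟨b, ⟨hb, hsb⟩, huniq⟩ := hB.2 s'
      (by rw [hs', Finset.card_insert_of_notMem hps, Finset.card_map, hs])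
    refine ⟨_, ⟨⟨b, hb, hsb (Finset.mem_insert_self _ _), rfl⟩,
      fun a ha => Finset.mem_subtype.2 (hsb (Finset.mem_insert_of_mem
        (Finset.mem_map_of_mem _ ha)))⟩, ?_⟩
    rintro _ ⟨⟨c, hc, hpc, rfl⟩, hsc⟩
    rw [huniq c ⟨hc, fun y hy => ?_⟩]
    rcases Finset.mem_insert.1 hy with rfl | hy
    · exact hpc
    · obtain ⟨a, ha, rfl⟩ := Finset.mem_map.1 hy
      exact Finset.mem_subtype.1 (hsc ha)

end Cfsg.Agent.S0351
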