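import Cfsg.Statements.S0354
import Cfsg.Agent.Lib.Concrete.Steiner

set_option autoImplicit false
open Cfsg Cfsg.Lib.Concrete

namespace Cfsg.Agent.S0354

/-- In an S(5, 8, 24), each block is disjoint from exactly 30 blocks. -/
theorem result {α : Type*} [Fintype α] [DecidableEq α] (hα : Fintype.card α = 24) {B : Set (Finset α)} (hB : Cfsg.IsSteinerSystem 5 8 B) {b : Finset α} (hb : b ∈ B) : {c : Finset α | c ∈ B ∧ Disjoint b c}.ncard = 30 := by
  have h := steiner_inter_count hB (fun j => [30, 0, 16, 0, 4].getD j 0)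
    (fun i => [759, 253, 77, 21, 5].getD i 0) (by rw [hα]; decide) (by decide) (by decide) hb
    (s := ∅) (Finset.empty_subset _)
  simp only [Finset.card_empty, List.getD_cons_zero] at h
  rw [← h]
  congr 1
  ext c
  simp only [Set.mem_ofPred_eq, Finset.disjoint_iff_inter_eq_empty]
  refine ⟨fun ⟨hc, hd⟩ => ⟨hc, ?_, hd⟩, fun ⟨hc, _, hd⟩ => ⟨hc, hd⟩⟩
  rintro rfl
  rw [Finset.inter_self] at hd
  have := hB.1 _ hc
  rw [hd] at this
  simp at this

end Cfsg.Agent.S0354
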