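import Cfsg.Statements.S0357
import Cfsg.Agent.Lib.Concrete.Steiner

set_option autoImplicit false
open Cfsg Cfsg.Lib.Concrete

namespace Cfsg.Agent.S0357

/-- In a Steiner system S(5, 6, 12), the complement of every block is again a block. -/
theorem result {α : Type*} [Fintype α] [DecidableEq α] (hα : Fintype.card α = 12) {B : Set (Finset α)} (hB : Cfsg.IsSteinerSystem 5 6 B) {b : Finset α} (hb : b ∈ B) : bᶜ ∈ B := by
  have h := steiner_inter_count hB (fun j => [1, 0, 3, 2, 3].getD j 0)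
    (fun i => [132, 66, 30, 12, 4].getD i 0) (by rw [hα]; decide) (by decide) (by decide) hb
    (s := ∅) (Finset.empty_subset _)
  simp only [Finset.card_empty, List.getD_cons_zero] at h
  obtain ⟨c, hc⟩ := Set.ncard_eq_one.1 h
  obtain ⟨hcB, -, hd⟩ : c ∈ {c : Finset α | c ∈ B ∧ c ≠ b ∧ b ∩ c = ∅} := hc ▸ rfl
  have hbc : bᶜ = c := by
    refine (Finset.eq_of_subset_of_card_le ?_ ?_).symm
    · exact Finset.subset_compl_iff_disjoint_left.2 (Finset.disjoint_iff_inter_eq_empty.2 hd) 
    · rw [Finset.card_compl, hα, hB.1 b hb, hB.1 c hcB]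
  rwa [hbc]

end Cfsg.Agent.S0357
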