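import Cfsg.Statements.S0362
import Cfsg.Agent.Lib.Concrete.Mathieu

set_option autoImplicit false
open Cfsg Cfsg.Lib.Concrete

namespace Cfsg.Agent.S0362

/-- The length-24 code is self-orthogonal: the dot product over ZMod 2 of any two of its words vanishes (with dimension 12 this makes it self-dual). -/
theorem result (v w : Cfsg.GolayPt → ZMod 2) (hv : v ∈ Cfsg.golayCode) (hw : w ∈ Cfsg.golayCode) : ∑ i, v i * w i = 0 := by
  -- weights divisible by four make the code self-orthogonal; checked on the echelon basis
  have key : ∀ i < 12, ∀ w ∈ golayCode, ∑ p, word (combo (2 ^ i)) p * w p = 0 := by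
    intro i hi w hw
    obtain ⟨c, hc, rfl⟩ := mem_golayCode_iff.1 hw
    have hsum : ∀ a b : ℕ, ∑ p, word a p * word b p = (((mset (a &&& b)).card : ℕ) : ZMod 2) := by
      intro a b
      rw [Finset.card_eq_sum_ones, Nat.cast_sum]
      simp only [mset, Finset.sum_filter]
      refine Finset.sum_congr rfl fun p _ => ?_
      simp only [word, Nat.testBit_and]
      cases a.testBit (gidx p).val <;> cases b.testBit (gidx p).val <;> simp
    have hchk : ((List.range 12).all fun i => codeList.all fun m =>
        Nat.beq (pcnt (combo (2 ^ i) &&& m) % 2) 0) = true := by decide +kernel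
    have := List.all_eq_true.1 (List.all_eq_true.1 hchk i (List.mem_range.2 hi)) (combo c)
      (codeList_eq ▸ List.mem_map.2 ⟨c, List.mem_range.2 hc, rfl⟩)
    rw [Nat.beq_eq] at this
    rw [hsum, mset_card, mcnt_eq_pcnt, ← ZMod.natCast_mod, this, Nat.cast_zero]
  obtain ⟨c, hc, rfl⟩ := mem_golayCode_iff.1 hv
  clear hv
  suffices h : ∀ (L : List ℕ), (∀ b ∈ L, ∑ p, word b p * w p = 0) →
      ∀ c, ∑ p, word (comboAux L c) p * w p = 0 by
    refine h basisMasks (fun b hb => ?_) c
    have hb' : ∀ b ∈ basisMasks, ∃ i < 12, combo (2 ^ i) = b := by decide +kernel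
    obtain ⟨i, hi, rfl⟩ := hb' b hb
    exact key i hi w hw
  intro L
  induction L with
  | nil => intro _ c; exact Finset.sum_eq_zero fun p _ => by simp [comboAux, word]
  | cons b bs ih =>
    intro h c
    simp only [comboAux, word_xor, Pi.add_apply, add_mul, Finset.sum_add_distrib,
      ih (fun x hx => h x (List.mem_cons_of_mem _ hx)), add_zero]
    cases (c % 2 == 1)
    · exact Finset.sum_eq_zero fun p _ => by simp [word]
    · exact h b (List.mem_cons_self ..)

end Cfsg.Agent.S0362
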