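import Cfsg.Statements.S0369
import Cfsg.Agent.Lib.Concrete.Octad

set_option autoImplicit false
open Cfsg Cfsg.Lib.Concrete
open scoped Pointwise

namespace Cfsg.Agent.S0369

/-- The group of the length-24 code coincides with the automorphism group of its octad system. -/
theorem result : Cfsg.M24 = Cfsg.setSystemAut Cfsg.octads := by
  apply le_antisymm
  · intro g hg
    rw [MulAction.mem_stabilizer_iff]
    refine Set.eq_of_subset_of_ncard_le ?_ ?_ (Set.toFinite _)
    · rintro _ ⟨o, ho, rfl⟩
      exact smul_octad_mem hg ho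
    · exact (Set.ncard_smul_set _ _).ge
  · intro g hg
    have hg' : ∀ o ∈ octads, g • o ∈ octads := fun o ho => by
      rw [← MulAction.mem_stabilizer_iff.1 hg]
      exact Set.smul_mem_smul_set ho
    have hb : ∀ b ∈ basisMasks, b ∈ octList := by decide +kernel
    rw [mem_M24_iff]
    intro s hs
    obtain ⟨m, hm, rfl⟩ := mem_supports_iff.1 hs
    obtain ⟨c, -, rfl⟩ := List.mem_map.1 (codeList_eq ▸ hm)
    exact smul_mset_comboAux_mem g _
      (fun b h => (hg' _ ((mset_mem_octads_iff (octList_lt (hb b h))).2 (hb b h))).1) c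

end Cfsg.Agent.S0369
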