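import Cfsg.Statements.S0371
import Cfsg.Agent.Lib.Concrete.Mathieu

set_option autoImplicit false
open Cfsg Cfsg.Lib.Concrete

namespace Cfsg.Agent.S0371

/-- Multiplication by a nonzero square residue modulo 23, fixing the extra point, lies in the group of the length-24 code. -/
theorem result (u : (ZMod 23)ˣ) (hu : IsSquare u) : Equiv.optionCongr (Units.mulLeft u) ∈ Cfsg.M24 := by
  obtain ⟨r, rfl⟩ := hu
  have hrep : ∀ r : (ZMod 23)ˣ, Cfsg.Lib.Concrete.Rep (Equiv.optionCongr (Units.mulLeft (r * r)))
      (((List.range 23).foldr (fun i acc => acc +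
        (((r : ZMod 23).val * (r : ZMod 23).val * i) % 23) <<< (5 * i)) 0) + 23 <<< 115) := by
    unfold Cfsg.Lib.Concrete.Rep; decide +kernel
  have hc : ∀ r : ZMod 23, r ≠ 0 → basisMasks.all (fun b =>
      isCode (pimg (((List.range 23).foldr (fun i acc => acc +
        ((r.val * r.val * i) % 23) <<< (5 * i)) 0) + 23 <<< 115) b) &&
      decide (pimg (((List.range 23).foldr (fun i acc => acc +
        ((r.val * r.val * i) % 23) <<< (5 * i)) 0) + 23 <<< 115) b < 16777216)) = true := by
    decide +kernel
  have := Fact.mk (show Nat.Prime 23 by norm_num)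
  exact rep_mem_M24 (hrep r) (hc _ r.ne_zero)

end Cfsg.Agent.S0371
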