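import Cfsg.Statements.S0381
import Cfsg.Agent.Lib.Concrete.Octad

set_option autoImplicit false
open Cfsg Cfsg.Lib.Concrete
open scoped Pointwise

namespace Cfsg.Agent.S0381

/-- The pointwise stabiliser of an octad in the group of the length-24 code has order 16 and every element of it squares to the identity. -/
theorem result (o : Finset Cfsg.GolayPt) (ho : o ∈ Cfsg.octads) : Nat.card ↥(Cfsg.M24 ⊓ fixingSubgroup (Equiv.Perm Cfsg.GolayPt) (o : Set Cfsg.GolayPt)) = 16 ∧ ∀ g ∈ Cfsg.M24 ⊓ fixingSubgroup (Equiv.Perm Cfsg.GolayPt) (o : Set Cfsg.GolayPt), g * g = 1 := by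
  obtain ⟨c, hc, rfl⟩ := exists_octad_std ho
  have hfix : ∀ g : Equiv.Perm GolayPt,
      g ∈ M24 ⊓ fixingSubgroup (Equiv.Perm GolayPt) ((c • baseOctad : Finset GolayPt) : Set GolayPt) ↔
      c⁻¹ * g * c ∈ M24 ∧ ∀ x ∈ baseOctad, (c⁻¹ * g * c) x = x := by
    intro g
    rw [Subgroup.mem_inf, mem_fixingSubgroup_iff]
    constructor
    · rintro ⟨hg, hx⟩
      refine ⟨mul_mem (mul_mem (inv_mem hc) hg) hc, fun x hxb => ?_⟩
      have := hx (c x) (Finset.mem_coe.2 (Finset.smul_mem_smul_finset hxb))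
      rw [Equiv.Perm.mul_apply, Equiv.Perm.mul_apply, show g (c x) = c x from this]
      exact c.symm_apply_apply x
    · rintro ⟨hg, hx⟩
      refine ⟨?_, fun y hy => ?_⟩
      · have := mul_mem (mul_mem hc hg) (inv_mem hc)
        simpa [mul_assoc] using this
      · obtain ⟨x, hxb, rfl⟩ := Finset.mem_smul_finset.1 (Finset.mem_coe.1 hy)
        have h := hx x hxb
        rw [Equiv.Perm.mul_apply, Equiv.Perm.mul_apply, Equiv.Perm.inv_def, Equiv.symm_apply_eq] at h
        exact h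
  have hmem : ∀ g ∈ fixB 5, g (bp 6) = bp 6 → ∀ x ∈ baseOctad, g x = x := by
    intro g hg h6 x hx
    obtain ⟨pq, hpq, -, hap⟩ := fixB_five_decomp hg
    have hk : ∀ pq ∈ fix5Pairs, pget pq.1 (pget pq.2 5) = 5 → ∀ x ∈ baseOctad,
        pget pq.1 (pget pq.2 (gidx x).val) = (gidx x).val := by decide +kernel
    have hbp : (gidx (bp 6)).val = 5 := by decide
    have := hap (bp 6)
    rw [h6, hbp] at this
    exact gidx_injective (Fin.ext ((hap x).trans (hk pq hpq this.symm x hx)))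
  let e : ↥(M24 ⊓ fixingSubgroup (Equiv.Perm GolayPt)
      ((c • baseOctad : Finset GolayPt) : Set GolayPt)) ≃ {g // g ∈ fixB 5 ∧ g (bp 6) = bp 6} :=
    { toFun := fun g => ⟨c⁻¹ * g.1 * c, ⟨((hfix g.1).1 g.2).1,
        fun j hj => ((hfix g.1).1 g.2).2 _ (bp_mem_baseOctad j hj)⟩,
        ((hfix g.1).1 g.2).2 _ bp_six_mem⟩
      invFun := fun h => ⟨c * h.1 * c⁻¹, (hfix _).2 (by
        have e' : c⁻¹ * (c * h.1 * c⁻¹) * c = h.1 := by simp [mul_assoc]
        rw [e']; exact ⟨h.2.1.1, hmem _ h.2.1 h.2.2⟩)⟩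
      left_inv := fun g => Subtype.ext (by simp [mul_assoc])
      right_inv := fun g => Subtype.ext (by simp [mul_assoc]) }
  have hsq : ∀ g ∈ fixB 5, g (bp 6) = bp 6 → g * g = 1 := by
    intro g hg h6
    obtain ⟨pq, hpq, -, hap⟩ := fixB_five_decomp hg
    have hk : ∀ pq ∈ fix5Pairs, pget pq.1 (pget pq.2 5) = 5 → ∀ i < 24,
        pget pq.1 (pget pq.2 (pget pq.1 (pget pq.2 i))) = i := by decide +kernel
    have hbp : (gidx (bp 6)).val = 5 := by decide
    have := hap (bp 6)
    rw [h6, hbp] at this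
    ext x : 1
    refine gidx_injective (Fin.ext ?_)
    rw [Equiv.Perm.mul_apply, hap, hap, hk pq hpq this.symm _ (gidx x).isLt]
    rfl
  refine ⟨?_, fun g hg => ?_⟩
  · rw [Nat.card_congr e]
    have h5 := card_fixB_eq (k := 5) (by norm_num)
    have h6' : ∀ g ∈ fixB 5, g (bp 6) ∈ trPts 6 := by
      intro g hg
      refine mem_trPts_six _ ?_ fun j hj h => bp_six_ne j hj (g.injective (h.trans (hg.2 j hj).symm))
      have := smul_octad_eq_of_five hg.1 baseOctad_mem base_card.ge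
        (fun y hy => by
          obtain ⟨j, hj, rfl⟩ := Finset.mem_image.1 hy
          exact bp_mem_baseOctad j (Finset.mem_range.1 hj))
        (fun y hy => by
          obtain ⟨j, hj, rfl⟩ := Finset.mem_image.1 hy
          exact hg.2 j (Finset.mem_range.1 hj))
      exact this ▸ Finset.smul_mem_smul_finset bp_six_mem
    -- `fixB 5` is transitive on three points, so a point stabiliser has order 48 / 3
    classical
    have hrep : ∀ x ∈ trPts 6, ∃ r ∈ fixB 5, r (bp 6) = x := by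
      intro x hx
      obtain ⟨r, -, hr, hb⟩ := exists_rep_trPts (k := 6) (by norm_num) hx
      exact ⟨r, ⟨hr.1, fun j hj => hr.2 j (by omega)⟩, hb⟩
    choose r hr hrb using hrep
    let f : fixB 5 ≃ trPts 6 × {g // g ∈ fixB 5 ∧ g (bp 6) = bp 6} :=
      { toFun := fun g => (⟨_, h6' g.1 g.2⟩, ⟨(r _ (h6' g.1 g.2))⁻¹ * g.1,
          mul_mem (inv_mem (hr _ _)) g.2, by
            rw [Equiv.Perm.mul_apply, Equiv.Perm.inv_def, Equiv.symm_apply_eq, hrb]⟩)
        invFun := fun p => ⟨r p.1.1 p.1.2 * p.2.1, mul_mem (hr _ _) p.2.2.1⟩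
        left_inv := fun g => Subtype.ext (mul_inv_cancel_left _ _)
        right_inv := fun p => by
          have hp : (r p.1.1 p.1.2 * p.2.1) (bp 6) = p.1.1 := by
            rw [Equiv.Perm.mul_apply, p.2.2.2, hrb]
          refine Prod.ext (Subtype.ext hp) (Subtype.ext ?_)
          simp only [hp, inv_mul_cancel_left] }
    rw [Nat.card_congr f, Nat.card_prod, Nat.card_eq_finsetCard, trPts_card 6 (by norm_num)] at h5
    simp at h5
    rw [Nat.card_eq_fintype_card]; omega
  · have hh := (hfix g).1 hg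
    have := hsq _ ⟨hh.1, fun j hj => hh.2 _ (bp_mem_baseOctad j hj)⟩ (hh.2 _ bp_six_mem)
    calc g * g = c * ((c⁻¹ * g * c) * (c⁻¹ * g * c)) * c⁻¹ := by simp [mul_assoc]
      _ = 1 := by rw [this, mul_one, mul_inv_cancel]

end Cfsg.Agent.S0381
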