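import Cfsg.Statements.S0384
import Cfsg.Agent.Lib.Concrete.Octad

set_option autoImplicit false
open scoped Pointwise
open Cfsg Cfsg.Lib.Concrete
open scoped Pointwise

namespace Cfsg.Agent.S0384

/-- A dodecad stabiliser is sharply 5-transitive on the dodecad. -/
theorem result (d : Finset Cfsg.GolayPt) (hd : d ∈ Cfsg.dodecads) (x y : Fin 5 ↪ Cfsg.GolayPt) (hx : ∀ i, x i ∈ d) (hy : ∀ i, y i ∈ d) : ∃! g : MulAction.stabilizer Cfsg.M24 d, ∀ i, ((g : Cfsg.M24) : Equiv.Perm Cfsg.GolayPt) (x i) = y i := by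
  obtain ⟨g, hg, hgd, hgx⟩ := exists_dodecad_map hd x hx
  obtain ⟨h, hh, hhd, hhy⟩ := exists_dodecad_map hd y hy
  have hk : (h * g⁻¹) • d = d := by
    conv_lhs => rw [← hgd]
    rw [mul_smul, inv_smul_smul, hhd]
  refine ⟨⟨⟨h * g⁻¹, mul_mem hh (inv_mem hg)⟩, hk⟩, fun i => ?_, ?_⟩
  · show (h * g⁻¹) (x i) = y i
    rw [← hgx i, Equiv.Perm.mul_apply, ← hhy i]
    congr 1
    exact g.symm_apply_apply _
  · rintro ⟨⟨k, hk24⟩, hkd⟩ hkxy
    refine Subtype.ext (Subtype.ext ?_)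
    have hk1 : h⁻¹ * k * g = 1 := by
      refine eq_one_of_fix_dodecad ⟨mul_mem (mul_mem (inv_mem hh) hk24) hg, fun j hj => ?_⟩ ?_
      · have e1 : g (bp j) = x ⟨j, hj⟩ := hgx ⟨j, hj⟩
        have e2 : k (x ⟨j, hj⟩) = y ⟨j, hj⟩ := hkxy ⟨j, hj⟩
        rw [Equiv.Perm.mul_apply, Equiv.Perm.mul_apply, e1, e2, ← hhy ⟨j, hj⟩]
        exact h.symm_apply_apply _
      · rw [mul_smul, mul_smul, hgd, show k • d = d from hkd, ← hhd, inv_smul_smul]
    show k = h * g⁻¹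
    calc k = h * (h⁻¹ * k * g) * g⁻¹ := by simp [mul_assoc]
      _ = _ := by rw [hk1, mul_one]

end Cfsg.Agent.S0384
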