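import Cfsg.Statements.S0385
import Cfsg.Agent.Lib.Concrete.Octad

set_option autoImplicit false
open Cfsg Cfsg.Lib.Concrete
open scoped Pointwise

namespace Cfsg.Agent.S0385

/-- The 6-point intersections of octads with a fixed dodecad form a Steiner system S(5, 6, 12) on the dodecad. -/
theorem result (d : Finset Cfsg.GolayPt) (hd : d ∈ Cfsg.dodecads) : Cfsg.IsSteinerSystem 5 6 {h : Finset {p : Cfsg.GolayPt // p ∈ d} | ∃ o ∈ Cfsg.octads, (o ∩ d).card = 6 ∧ h = Finset.subtype (fun p => p ∈ d) o} := by
  refine ⟨?_, ?_⟩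
  · rintro _ ⟨o, -, h6, rfl⟩
    rw [Finset.card_subtype, Finset.filter_mem_eq_inter, h6]
  · intro s hs
    classical
    let x : Fin 5 ↪ GolayPt := ((s.equivFinOfCardEq hs).symm.toEmbedding.trans
      (Function.Embedding.subtype _)).trans (Function.Embedding.subtype _)
    obtain ⟨g, hg, hgd, hgx⟩ := exists_dodecad_map hd x fun i => Subtype.prop _
    set o := g • baseOctad with ho
    have hoct : o ∈ octads := smul_octad_mem hg baseOctad_mem
    have hmem : ∀ p ∈ s, (p : GolayPt) ∈ o := by
      intro p hp
      have := hgx (s.equivFinOfCardEq hs ⟨p, hp⟩)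
      simp only [x, Function.Embedding.trans_apply, Equiv.coe_toEmbedding, Equiv.symm_apply_apply,
        Function.Embedding.subtype_apply] at this
      rw [← this]
      exact Finset.smul_mem_smul_finset (bp_mem_baseOctad _ (Fin.isLt _))
    have h6 : (o ∩ d).card = 6 := by
      rw [ho, ← hgd, ← Finset.smul_finset_inter, card_smul_points, baseOctad, baseDodecad,
        card_mset_inter]
      decide +kernel
    refine ⟨_, ⟨⟨o, hoct, h6, rfl⟩, fun p hp => Finset.mem_subtype.2 (hmem p hp)⟩, ?_⟩
    rintro _ ⟨⟨o', ho', -, rfl⟩, hso⟩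
    have hoo : o' = o := octads_eq_of_five ho' hoct (s := s.map (Function.Embedding.subtype _))
      (by rw [Finset.card_map, hs])
      (fun y hy => by
        obtain ⟨p, hp, rfl⟩ := Finset.mem_map.1 hy
        exact Finset.mem_subtype.1 (hso hp))
      (fun y hy => by
        obtain ⟨p, hp, rfl⟩ := Finset.mem_map.1 hy
        exact hmem p hp)
    rw [hoo]

end Cfsg.Agent.S0385
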