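import Cfsg.Statements.S0386
import Cfsg.Agent.Lib.Concrete.Octad

set_option autoImplicit false
open Cfsg Cfsg.Lib.Concrete
open scoped Pointwise

namespace Cfsg.Agent.S0386

/-- For a fixed dodecad, 132 octads meet it in 6 points, 132 in 2 points and 495 in 4 points. -/
theorem result (d : Finset Cfsg.GolayPt) (hd : d ∈ Cfsg.dodecads) : {o : Finset Cfsg.GolayPt | o ∈ Cfsg.octads ∧ (o ∩ d).card = 6}.ncard = 132 ∧ {o : Finset Cfsg.GolayPt | o ∈ Cfsg.octads ∧ (o ∩ d).card = 2}.ncard = 132 ∧ {o : Finset Cfsg.GolayPt | o ∈ Cfsg.octads ∧ (o ∩ d).card = 4}.ncard = 495 := by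
  obtain ⟨g, hg, rfl⟩ := exists_dodecad_std hd
  have key : ∀ n : ℕ, {o : Finset GolayPt | o ∈ octads ∧ (o ∩ g • baseDodecad).card = n}.ncard =
      (octList.filter fun m => Nat.beq (pcnt (Nat.land m 11472927)) n).length := by
    intro n
    rw [ncard_eq_of_smul (T := {o | o ∈ octads ∧ (o ∩ baseDodecad).card = n}) g fun o => by
      rw [Set.mem_setOf_eq, Set.mem_setOf_eq, smul_mem_octads_iff hg, ← Finset.smul_finset_inter,
        card_smul_points]]
    exact ncard_octads _ _ fun m _ => by rw [baseDodecad, card_mset_inter, Nat.beq_eq]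
  rw [key, key, key]
  decide +kernel

end Cfsg.Agent.S0386
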