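import Cfsg.Statements.S0405
import Cfsg.Agent.Lib.Concrete.LeechSimpleGroups

set_option autoImplicit false
open Cfsg

namespace Cfsg.Agent.S0405

/-- Joint stabiliser of two vectors of sum of squares 48 with coordinate dot product −32 is simple of order 44352000. -/
theorem result (v w : Cfsg.leechLattice) (hv : Cfsg.sqNorm (v : Cfsg.GolayPt → ℤ) = 48) (hw : Cfsg.sqNorm (w : Cfsg.GolayPt → ℤ) = 48) (hvw : Cfsg.dotInt (v : Cfsg.GolayPt → ℤ) (w : Cfsg.GolayPt → ℤ) = -32) : Cfsg.IsHS ↥(MulAction.stabilizer Cfsg.Co0 v ⊓ MulAction.stabilizer Cfsg.Co0 w) := by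
  obtain ⟨hz, hzv⟩ := Cfsg.Lib.Concrete.neg_sum_facts hv hw hvw
  obtain ⟨hz0, hzv0⟩ := Cfsg.Lib.Concrete.neg_sum_facts Cfsg.Lib.Concrete.fiveL_norm
    Cfsg.Lib.Concrete.fiveNegL_norm Cfsg.Lib.Concrete.five_dot
  set z0 : Cfsg.leechLattice := -(Cfsg.Lib.Concrete.fiveL + Cfsg.Lib.Concrete.fiveNegL) with hz0def
  obtain ⟨g, hg⟩ := Cfsg.Lib.Concrete.exists_smul_eq_of_moves
    (Cfsg.Lib.Concrete.moves32 z0.2 hz0) (Cfsg.Lib.Concrete.moves32 (-(v + w)).2 hz)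
  have hd : Cfsg.dotInt ((-(v + w) : Cfsg.leechLattice) : Cfsg.GolayPt → ℤ)
      ((g • Cfsg.Lib.Concrete.fiveL : Cfsg.leechLattice) : Cfsg.GolayPt → ℤ) = -16 := by
    rw [← hg, Cfsg.Lib.Concrete.co0_dot, hzv0]
  obtain ⟨k, k1, k2⟩ := Cfsg.Lib.Concrete.exists_fix_fortyEight hz
    ((Cfsg.Lib.Concrete.co0_sqNorm g _).trans Cfsg.Lib.Concrete.fiveL_norm) hv hd hzv
  have kz : (k * g) • z0 = -(v + w) := by rw [mul_smul, hg, k1]
  have kv : (k * g) • Cfsg.Lib.Concrete.fiveL = v := by rw [mul_smul, k2]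
  have kw : (k * g) • Cfsg.Lib.Concrete.fiveNegL = w := by
    have h3 : Cfsg.Lib.Concrete.co0Hom (k * g) z0 = -(v + w) := kz
    rw [hz0def, map_neg, map_add, neg_inj, show Cfsg.Lib.Concrete.co0Hom (k * g) Cfsg.Lib.Concrete.fiveL = v from kv] at h3
    exact add_left_cancel h3
  obtain ⟨hs, hc⟩ := Cfsg.Lib.Concrete.isHS_five
  have he := Cfsg.Lib.Concrete.stab_inf_map (k * g) Cfsg.Lib.Concrete.fiveL Cfsg.Lib.Concrete.fiveNegL
  rw [kv, kw] at he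
  exact ⟨(MulEquiv.subgroupCongr he).isSimpleGroup_congr.1
      (((MulAction.stabilizer Cfsg.Co0 Cfsg.Lib.Concrete.fiveL ⊓ MulAction.stabilizer Cfsg.Co0 Cfsg.Lib.Concrete.fiveNegL).equivMapOfInjective
        _ (MulAut.conj (k * g)).injective).isSimpleGroup_congr.1 hs),
    by rw [← he, Subgroup.card_map_of_injective (MulAut.conj (k * g)).injective]; exact hc⟩

end Cfsg.Agent.S0405
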