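import Cfsg.Statements.S0422
import Cfsg.Agent.Lib.MTwentyFour.Six.TwentyFour
import Cfsg.Agent.Lib.MTwentyFour.Local.Assembly

set_option autoImplicit false
open Cfsg

namespace Cfsg.Agent.S0422

/-- Simple groups of order 244823040 are all isomorphic to the concrete largest Mathieu group. -/
theorem result {G : Type*} [Group G] [Finite G] (hG : Cfsg.IsM24 G) : Nonempty (G ≃* Cfsg.M24) := by
  classical
  cases nonempty_fintype G
  haveI := hG.1
  haveI : Fact (Nat.Prime 5) := ⟨by norm_num⟩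
  haveI : Fact (Nat.Prime 7) := ⟨by norm_num⟩
  obtain ⟨X⟩ := Cfsg.Lib.MTwentyFour.Eleven.exists_ctx (G := G) hG.2
  rcases Cfsg.Lib.MTwentyFour.Local.fams_or_six X with ⟨⟨F⟩⟩ | h
  · exact Cfsg.Lib.MTwentyFour.Local.iso_of_fams X F
  · obtain ⟨P⟩ : Nonempty (Sylow 7 G) := inferInstance
    exact (Cfsg.Lib.MTwentyFour.Six.not_six X P (h P)).elim

end Cfsg.Agent.S0422
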