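import Cfsg.Statements.S0436


set_option autoImplicit false
open Cfsg

namespace Cfsg.Agent.S0436

/-- For distinct commuting members a, b of a set of 3-transpositions E, a member e of E centralises the product a * b if and only if it centralises both a and b. -/
theorem result {G : Type*} [Group G] {E : Set G} (hE : Cfsg.IsThreeTranspositionSet E) {a b e : G} (ha : a ∈ E) (hb : b ∈ E) (he : e ∈ E) (hab : a ≠ b) (hcomm : Commute a b) : Commute e (a * b) ↔ (Commute e a ∧ Commute e b) := by
  refine ⟨fun h => ?_, fun ⟨h₁, h₂⟩ => h₁.mul_right h₂⟩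
  have key : ∀ a b : G, a ∈ E → b ∈ E → a ≠ b → Commute a b → Commute e (a * b) → Commute e a := by
    intro a b ha hb hab hcomm h
    by_contra hea
    have hinv : ∀ d ∈ E, d * d = 1 := fun d hd => by
      rw [← pow_two, ← hE.1 d hd, pow_orderOf_eq_one]
    have heb : ¬ Commute e b := fun hb' => hea (by
      have := h.mul_right hb'
      rwa [mul_assoc, hinv b hb, mul_one] at this)
    have key3 : ∀ x y : G, x ∈ E → y ∈ E → ¬ Commute x y → x * y * x = y * x * y := by
      intro x y hx hy hxy
      have hi : ∀ d ∈ E, d⁻¹ = d := fun d hd => inv_eq_of_mul_eq_one_right (hinv d hd)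
      have hp : (x * y) ^ 3 = 1 := (hE.2 x hx y hy).resolve_left fun h2 => hxy (by
        rw [pow_two, ← eq_inv_iff_mul_eq_one, mul_inv_rev, hi x hx, hi y hy] at h2
        exact h2)
      have h3 : (x * y * x) * (y * x * y) = 1 := by
        rw [pow_succ, pow_two] at hp
        simpa [mul_assoc] using hp
      rw [eq_inv_iff_mul_eq_one.2 h3]
      simp [mul_inv_rev, hi x hx, hi y hy, mul_assoc]
    have h1 := key3 e a he ha hea
    have h2 := key3 e b he hb heb
    apply hab
    have hc : e * (a * b) * e = a * b := by rw [h.eq, mul_assoc, hinv e he, mul_one]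
    have hc2 : (e * a * e) * (e * b * e) = a * b := by
      calc (e * a * e) * (e * b * e) = e * a * (e * e) * b * e := by simp only [mul_assoc]
        _ = e * (a * b) * e := by rw [hinv e he, mul_one]; simp only [mul_assoc]
        _ = _ := hc
    rw [h1, h2] at hc2
    -- `(a e a) (b e b) = a b` gives `e a b e = 1`
    have h4 : e * (a * b) * e = 1 := by
      calc e * (a * b) * e = (a * a) * (e * (a * b) * e) * (b * b) := by
            rw [hinv a ha, hinv b hb, one_mul, mul_one]
        _ = a * ((a * e * a) * (b * e * b)) * b := by simp only [mul_assoc]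
        _ = (a * a) * (b * b) := by rw [hc2]; simp only [mul_assoc]
        _ = 1 := by rw [hinv a ha, hinv b hb, mul_one]
    rw [hc] at h4
    exact (eq_inv_of_mul_eq_one_left h4).trans (inv_eq_of_mul_eq_one_right (hinv b hb))
  exact ⟨key a b ha hb hab hcomm h, key b a hb ha hab.symm hcomm.symm (hcomm.eq ▸ h)⟩

end Cfsg.Agent.S0436
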