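import Cfsg.Statements.S0437
import Cfsg.Agent.S0436

set_option autoImplicit false
open Cfsg

namespace Cfsg.Agent.S0437

/-- For three distinct, pairwise commuting members a, b, c of a set of 3-transpositions E, a member e of E centralises a * b * c if and only if it centralises each of a, b and c. -/
theorem result {G : Type*} [Group G] {E : Set G} (hE : Cfsg.IsThreeTranspositionSet E) {a b c e : G} (ha : a ∈ E) (hb : b ∈ E) (hc : c ∈ E) (he : e ∈ E) (hab : a ≠ b) (hac : a ≠ c) (hbc : b ≠ c) (h₁ : Commute a b) (h₂ : Commute a c) (h₃ : Commute b c) : Commute e (a * b * c) ↔ (Commute e a ∧ Commute e b ∧ Commute e c) := by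
  refine ⟨fun h => ?_, fun ⟨x, y, z⟩ => (x.mul_right y).mul_right z⟩
  have hinv : ∀ d ∈ E, d * d = 1 := fun d hd => by rw [← pow_two, ← hE.1 d hd, pow_orderOf_eq_one]
  have hi : ∀ d ∈ E, d⁻¹ = d := fun d hd => inv_eq_of_mul_eq_one_right (hinv d hd)
  have key3 : ∀ x y : G, x ∈ E → y ∈ E → ¬ Commute x y → x * y * x = y * x * y := by
    intro x y hx hy hxy
    have hp : (x * y) ^ 3 = 1 := (hE.2 x hx y hy).resolve_left fun h2 => hxy (by
      rw [pow_two, ← eq_inv_iff_mul_eq_one, mul_inv_rev, hi x hx, hi y hy] at h2
      exact h2)
    have h3 : (x * y * x) * (y * x * y) = 1 := by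
      rw [pow_succ, pow_two] at hp
      simpa [mul_assoc] using hp
    rw [eq_inv_iff_mul_eq_one.2 h3]
    simp [mul_inv_rev, hi x hx, hi y hy, mul_assoc]
  have two : ∀ x y : G, x ∈ E → y ∈ E → x ≠ y → Commute x y → Commute e (x * y) →
      Commute e x ∧ Commute e y := fun x y hx hy hxy hc hec =>
    (Cfsg.Agent.S0436.result hE hx hy he hxy hc).1 hec
  by_cases hea : Commute e a
  · have hbc' : Commute e (b * c) := by
      have := hea.inv_right.mul_right h
      rwa [mul_assoc, inv_mul_cancel_left] at this
    exact ⟨hea, two b c hb hc hbc h₃ hbc'⟩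
  by_cases hec : Commute e c
  · have hab' : Commute e (a * b) := by
      have := h.mul_right hec.inv_right
      rwa [mul_inv_cancel_right] at this
    exact absurd (two a b ha hb hab h₁ hab').1 hea
  by_cases heb : Commute e b
  · have hac' : Commute e (a * c) := by
      have hb' : a * b * c = b * (a * c) := by rw [h₁.eq, mul_assoc]
      rw [hb'] at h
      have := heb.inv_right.mul_right h
      rwa [inv_mul_cancel_left] at this
    exact absurd (two a c ha hc hac h₂ hac').1 hea
  exfalso
  -- all three fail to commute with `e`: then `c = e b e`, which does not commute with `b`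
  have ka := key3 e a he ha hea
  have kb := key3 e b he hb heb
  have kc := key3 e c he hc hec
  have hce : c * e * c = b * (a * e * a) * b := by
    calc c * e * c = (b * a) * (a * b) * (c * e * c) := by
          rw [show (b * a) * (a * b) = 1 by rw [mul_assoc, ← mul_assoc a, hinv a ha, one_mul, hinv b hb],
            one_mul]
      _ = (b * a) * ((a * b * c) * e) * c := by simp only [mul_assoc]
      _ = (b * a) * (e * (a * b * c)) * c := by rw [h.eq]
      _ = b * a * e * a * b * (c * c) := by simp only [mul_assoc]
      _ = _ := by rw [hinv c hc, mul_one]; simp only [mul_assoc]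
  have hcx : c = a * (b * e * b) * a := by
    calc c = e * (e * c * e) * e := by
          rw [show e * (e * c * e) * e = (e * e) * c * (e * e) by simp only [mul_assoc], hinv e he,
            one_mul, mul_one]
      _ = e * (c * e * c) * e := by rw [kc]
      _ = e * (b * (e * a * e) * b) * e := by rw [hce, ka]
      _ = (e * b * e) * a * (e * b * e) := by simp only [mul_assoc]
      _ = (b * e * b) * a * (b * e * b) := by rw [kb]
      _ = b * e * (b * a * b) * e * b := by simp only [mul_assoc]
      _ = b * (e * a * e) * b := by
        rw [← h₁.eq, mul_assoc a, hinv b hb, mul_one]; simp only [mul_assoc]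
      _ = (b * a) * e * (a * b) := by rw [ka]; simp only [mul_assoc]
      _ = (a * b) * e * (b * a) := by rw [h₁.eq]
      _ = _ := by simp only [mul_assoc]
  have hx : Commute a (b * e * b) := by
    have h' : a * c = c * a := h₂.eq
    rw [hcx] at h'
    have l : a * (a * (b * e * b) * a) = (b * e * b) * a := by
      rw [← mul_assoc, ← mul_assoc, hinv a ha, one_mul]
    have r : a * (b * e * b) * a * a = a * (b * e * b) := by rw [mul_assoc _ a a, hinv a ha, mul_one]
    rw [l, r] at h'
    exact h'.symm
  have hc' : c = b * e * b := by rw [hcx, hx.eq, mul_assoc, hinv a ha, mul_one]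
  apply heb
  have h' : b * c = c * b := h₃.eq
  rw [hc', show b * (b * e * b) = e * b by rw [← mul_assoc, ← mul_assoc, hinv b hb, one_mul],
    show b * e * b * b = b * e by rw [mul_assoc _ b b, hinv b hb, mul_one]] at h'
  exact h'

end Cfsg.Agent.S0437
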