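import Cfsg.Statements.S0438


set_option autoImplicit false
open Cfsg

namespace Cfsg.Agent.S0438

/-- Let E be a set of 3-transpositions closed under conjugation, and x an involutory automorphism of the group mapping E to itself. If some a in E fails to commute with its image x a, then x fixes an element of E. -/
theorem result {G : Type*} [Group G] {E : Set G} (hE : Cfsg.IsThreeTranspositionSet E) (hconj : ∀ g : G, ∀ d ∈ E, g * d * g⁻¹ ∈ E) (x : G ≃* G) (hx : ∀ g : G, x (x g) = g) (hxE : ∀ d ∈ E, x d ∈ E) {a : G} (ha : a ∈ E) (h : ¬ Commute a (x a)) : ∃ d ∈ E, x d = d := by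
  have hinv : ∀ d ∈ E, d * d = 1 := fun d hd => by rw [← pow_two, ← hE.1 d hd, pow_orderOf_eq_one]
  have hi : ∀ d ∈ E, d⁻¹ = d := fun d hd => inv_eq_of_mul_eq_one_right (hinv d hd)
  have hb := hxE a ha
  have hp : (a * x a) ^ 3 = 1 := (hE.2 a ha _ hb).resolve_left fun h2 => h (by
    rw [pow_two, ← eq_inv_iff_mul_eq_one, mul_inv_rev, hi a ha, hi _ hb] at h2
    exact h2)
  have h3 : (a * x a * a) * (x a * a * x a) = 1 := by
    rw [pow_succ, pow_two] at hp
    simpa [mul_assoc] using hp
  have heq : a * x a * a = x a * a * x a := by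
    rw [eq_inv_iff_mul_eq_one.2 h3]
    simp [mul_inv_rev, hi a ha, hi _ hb, mul_assoc]
  refine ⟨a * x a * a, ?_, ?_⟩
  · have := hconj a (x a) hb
    rwa [hi a ha] at this
  · rw [map_mul, map_mul, hx a, heq]

end Cfsg.Agent.S0438
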