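import Cfsg.Statements.S0439


set_option autoImplicit false
open Cfsg

namespace Cfsg.Agent.S0439

/-- In the symmetric group of degree n ≥ 2, the set of transpositions is a conjugacy class of 3-transpositions which generates the group. -/
theorem result (n : ℕ) (hn : 2 ≤ n) : Cfsg.IsThreeTranspositionClass {σ : Equiv.Perm (Fin n) | σ.IsSwap} := by
  refine ⟨⟨fun d hd => hd.orderOf, ?_⟩, ?_, Equiv.Perm.closure_isSwap⟩
  · rintro d ⟨a, b, hab, rfl⟩ e ⟨c, d, hcd, rfl⟩
    have conj := @Equiv.mul_swap_eq_swap_mul (Fin n) _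
    have hsq : ∀ x y : Fin n, Equiv.swap x y * Equiv.swap x y = 1 := fun x y => Equiv.swap_mul_self x y
    have h3 : ∀ x y z : Fin n, x ≠ y → x ≠ z → y ≠ z →
        (Equiv.swap x y * Equiv.swap x z) ^ 3 = 1 := by
      intro x y z hxy hxz hyz
      rw [← orderOf_dvd_iff_pow_eq_one,
        (Equiv.Perm.isThreeCycle_swap_mul_swap_same hxy hxz hyz).orderOf]
    by_cases hc : c = a ∨ c = b ∨ d = a ∨ d = b
    · by_cases hsame : Equiv.swap a b = Equiv.swap c d
      · left; rw [hsame, hsq, one_pow]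
      right
      rcases hc with rfl | rfl | rfl | rfl
      · refine h3 _ _ _ hab hcd fun e => hsame (by rw [e])
      · rw [Equiv.swap_comm a c]
        refine h3 _ _ _ hab.symm hcd fun e => hsame (by rw [e, Equiv.swap_comm])
      · rw [Equiv.swap_comm c d]
        refine h3 _ _ _ hab hcd.symm fun e => hsame (by rw [e, Equiv.swap_comm])
      · rw [Equiv.swap_comm a d, Equiv.swap_comm c d]
        refine h3 _ _ _ hab.symm hcd.symm fun e => hsame (by rw [e])
    · push Not at hc
      left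
      have hcom : Equiv.swap a b * Equiv.swap c d = Equiv.swap c d * Equiv.swap a b := by
        rw [conj, Equiv.swap_apply_of_ne_of_ne hc.1 hc.2.1,
          Equiv.swap_apply_of_ne_of_ne hc.2.2.1 hc.2.2.2]
      rw [pow_two, mul_assoc, ← mul_assoc (Equiv.swap c d), ← hcom, mul_assoc, hsq, mul_one, hsq]
  · have h0 : (⟨0, by omega⟩ : Fin n) ≠ ⟨1, by omega⟩ := by simp [Fin.ext_iff]
    refine ⟨_, ⟨_, _, h0, rfl⟩, ?_⟩
    ext σ
    simp only [conjugatesOf, Set.mem_ofPred_eq]
    exact ⟨fun ⟨a, b, hab, e⟩ => e ▸ Equiv.Perm.isConj_swap h0 hab,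
      fun h => by
        obtain ⟨c, hc⟩ := isConj_iff.1 h
        rw [← hc, Equiv.mul_swap_eq_swap_mul, mul_inv_cancel_right]
        exact ⟨_, _, fun e => h0 (c.injective e), rfl⟩⟩

end Cfsg.Agent.S0439
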