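import Cfsg.Statements.S0441
import Cfsg.Agent.Lib.Fischer.RankThree
-- import your own Cfsg.Agent.* helpers here

set_option autoImplicit false
open Cfsg

namespace Cfsg.Agent.S0441

/-- Fischer's rank-three property. Let a finite group be generated by a conjugacy class D of 3-transpositions, with non-abelian simple commutator subgroup. Then for a in D there are members of D other than a commuting with a and members not commuting with a, and the centraliser of a acts transitively on each of these two sets. -/
theorem result {G : Type*} [Group G] [Finite G] {D : Set G} (hD : Cfsg.IsThreeTranspositionClass D) (hsimple : IsSimpleGroup (commutator G)) (hnonab : ∃ x y : commutator G, x * y ≠ y * x) {a : G} (ha : a ∈ D) : (∃ b ∈ D, b ≠ a ∧ Commute a b) ∧ (∃ c ∈ D, ¬ Commute a c) ∧ (∀ b ∈ D, ∀ b' ∈ D, b ≠ a → b' ≠ a → Commute a b → Commute a b' → ∃ g : G, Commute g a ∧ g * b * g⁻¹ = b') ∧ (∀ c ∈ D, ∀ c' ∈ D, ¬ Commute a c → ¬ Commute a c' → ∃ g : G, Commute g a ∧ g * c * g⁻¹ = c') := by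
  classical
  have hT := Cfsg.Lib.Fischer.trans_of_class hD
  obtain ⟨u, v, huv⟩ := hnonab
  let π : G →* MulAut (commutator G) := MulAut.conjNormal
  have hker : ∀ g : G, π g = 1 ↔ ∀ t ∈ commutator G, g * t = t * g := by
    intro g
    constructor
    · intro h t ht
      have h1 := congrArg (fun φ : MulAut (commutator G) => ((φ ⟨t, ht⟩ : commutator G) : G)) h
      simp only [π, MulAut.conjNormal_apply, MulAut.one_apply] at h1
      exact mul_inv_eq_iff_eq_mul.1 h1
    · intro h
      ext t
      simp only [π, MulAut.conjNormal_apply, MulAut.one_apply]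
      exact mul_inv_eq_iff_eq_mul.2 (h t t.2)
  have hnc : ∀ g, g ∈ commutator G → π g = 1 → g = 1 := by
    intro g hg h
    rcases hsimple.eq_bot_or_eq_top_of_normal _
      (inferInstance : ((π.ker).subgroupOf (commutator G)).Normal) with h' | h'
    · have : (⟨g, hg⟩ : commutator G) ∈ (π.ker).subgroupOf (commutator G) := h
      rw [h', Subgroup.mem_bot] at this
      exact congrArg Subtype.val this
    · exfalso
      have : u ∈ (π.ker).subgroupOf (commutator G) := h' ▸ Subgroup.mem_top u
      exact huv (Subtype.ext ((hker u).1 this v v.2))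
  have hcomm : ∀ g h : G, Commute (π g) (π h) → Commute g h := by
    intro g h hc
    have h1 : g * h * g⁻¹ * h⁻¹ = 1 := hnc _ (by
      have := Subgroup.commutator_mem_commutator (Subgroup.mem_top g) (Subgroup.mem_top h)
      rw [commutatorElement_def, ← commutator_def] at this
      exact this) (by
      simp only [map_mul, map_inv]
      rw [hc.eq, mul_inv_cancel_right, mul_inv_cancel])
    exact mul_inv_eq_iff_eq_mul.1 (mul_inv_eq_one.1 h1)
  let ρ : G →* π.range := π.rangeRestrict
  have hρ : ∀ g h : G, Commute (ρ g) (ρ h) ↔ Commute g h := fun g h =>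
    ⟨fun hc => hcomm g h (congrArg Subtype.val hc.eq), fun hc => hc.map ρ⟩
  have hsurj : Function.Surjective ρ := π.rangeRestrict_surjective
  have hinj : ∀ x ∈ D, ∀ y ∈ D, ρ x = ρ y → x = y := by
    intro x hx y hy he
    have hxy : Commute x y := (hρ x y).1 (he ▸ Commute.refl _)
    by_contra hne
    obtain ⟨c, hc, hxc⟩ : ∃ c ∈ D, ¬ Commute x c := by
      by_contra h
      push Not at h
      obtain ⟨gy, hgy⟩ := hT.trans x hx y hy
      apply hne
      rw [← hgy]
      have hg : gy ∈ Subgroup.centralizer {x} := by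
        have : Subgroup.closure D ≤ Subgroup.centralizer {x} := by
          rw [Subgroup.closure_le]
          intro d hd
          rw [SetLike.mem_coe, Subgroup.mem_centralizer_singleton_iff]
          exact (h d hd).eq.symm
        exact this (hT.gen ▸ Subgroup.mem_top gy)
      rw [Subgroup.mem_centralizer_singleton_iff.1 hg, mul_inv_cancel_right]
    have hyc : ¬ Commute y c := fun h => hxc ((hρ x c).1 (he ▸ h.map ρ))
    have hz : Commute (x * y) c := (hρ _ _).1 (by
      rw [map_mul, he, ← map_mul, Cfsg.Lib.Fischer.mul_self hT hy, map_one]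
      exact Commute.one_left _)
    -- `x y` centralizes `c`, so `(x c)(y c)` is its own inverse product
    have h2 : (x * y) * (x * y) = 1 := by
      rw [hxy.symm.mul_mul_mul_comm, Cfsg.Lib.Fischer.mul_self hT hx, Cfsg.Lib.Fischer.mul_self hT hy, mul_one]
    have h3x := Cfsg.Lib.Fischer.orderOf_mul hT x c hx hc hxc
    have h3y := Cfsg.Lib.Fischer.orderOf_mul hT y c hy hc hyc
    have hyx : y = (x * y) * x := by
      rw [hxy.eq, mul_assoc, Cfsg.Lib.Fischer.mul_self hT hx, mul_one]
    have hzc : Commute (x * y) (x * c) :=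
      ((Commute.refl x).mul_left hxy.symm).mul_right hz
    rw [hyx, mul_assoc, hzc.mul_pow, h3x, mul_one, pow_succ, pow_two, h2, one_mul] at h3y
    exact hne (by rw [hyx, h3y, one_mul])
  have hF : Cfsg.Lib.Fischer.IsFischer (ρ '' D) := by
    refine ⟨⟨⟨?_, ?_⟩, ?_, ?_, ?_, hT.ne.image ρ⟩, ?_, ?_⟩
    · rintro _ ⟨d, hd, rfl⟩
      refine orderOf_eq_prime ?_ fun h => ?_
      · rw [← map_pow, pow_two, Cfsg.Lib.Fischer.mul_self hT hd, map_one]
      · obtain ⟨e, he⟩ : ∃ e, ¬ Commute d e := by
          by_contra hall
          push Not at hall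
          refine huv (Subtype.ext ?_)
          have hcen : ∀ g : G, g * d * g⁻¹ = d := fun g => by rw [← (hall g).eq, mul_inv_cancel_right]
          have hD1 : ∀ e ∈ D, e = d := by
            intro e he
            obtain ⟨g, rfl⟩ := hT.trans d hd e he
            exact hcen g
          have hle : Subgroup.closure D ≤ Subgroup.zpowers d := by
            rw [Subgroup.closure_le]
            intro e he
            rw [hD1 e he]
            exact Subgroup.mem_zpowers d
          obtain ⟨i, hi⟩ := hle (hT.gen ▸ Subgroup.mem_top (u : G))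
          obtain ⟨j, hj⟩ := hle (hT.gen ▸ Subgroup.mem_top (v : G))
          rw [Subgroup.coe_mul, Subgroup.coe_mul, ← hi, ← hj]
          exact (Commute.refl d).zpow_zpow i j
        exact he ((hρ d e).1 (h ▸ Commute.one_left _))
    · rintro _ ⟨d, hd, rfl⟩ _ ⟨e, he, rfl⟩
      exact (hT.set.2 d hd e he).imp (fun h => by rw [← map_mul, ← map_pow, h, map_one])
        (fun h => by rw [← map_mul, ← map_pow, h, map_one])
    · rintro g _ ⟨d, hd, rfl⟩
      obtain ⟨g, rfl⟩ := hsurj g
      exact ⟨_, hT.conj g d hd, by simp⟩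
    · rintro _ ⟨d, hd, rfl⟩ _ ⟨e, he, rfl⟩
      obtain ⟨g, rfl⟩ := hT.trans d hd e he
      exact ⟨ρ g, by simp⟩
    · rw [← MonoidHom.map_closure, hT.gen, Subgroup.map_top_of_surjective _ hsurj]
    · intro N hN hNs
      haveI := hN
      haveI := hNs
      let M := N.comap ρ
      -- `M` meets the commutator subgroup trivially
      rcases hsimple.eq_bot_or_eq_top_of_normal _ (inferInstance : (M.subgroupOf (commutator G)).Normal) with h | h
      · rw [eq_bot_iff]
        intro n hn
        obtain ⟨m, rfl⟩ := hsurj n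
        rw [Subgroup.mem_bot]
        refine Subtype.ext ((hker m).2 fun t ht => ?_)
        have hc : (⟨m * t * m⁻¹ * t⁻¹, by
            have := Subgroup.commutator_mem_commutator (Subgroup.mem_top m) (Subgroup.mem_top t)
            rwa [commutatorElement_def, ← commutator_def] at this⟩ : commutator G) ∈ M.subgroupOf (commutator G) := by
          show m * t * m⁻¹ * t⁻¹ ∈ M
          rw [show m * t * m⁻¹ * t⁻¹ = m * (t * m⁻¹ * t⁻¹) by group]
          exact mul_mem hn ((inferInstance : M.Normal).conj_mem _ (inv_mem hn) t)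
        rw [h, Subgroup.mem_bot] at hc
        exact mul_inv_eq_iff_eq_mul.1 (mul_inv_eq_one.1 (congrArg Subtype.val hc))
      · exfalso
        -- the commutator subgroup embeds in the solvable group `N`
        let f : commutator G →* N := (ρ.comp (commutator G).subtype).codRestrict N fun t => by
          have : t ∈ M.subgroupOf (commutator G) := h ▸ Subgroup.mem_top t
          exact this
        have hf : Function.Injective f := by
          rw [← MonoidHom.ker_eq_bot_iff, Subgroup.eq_bot_iff_forall]
          intro t ht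
          exact Subtype.ext (hnc t t.2 (congrArg (fun z : N => ((z : π.range) : MulAut (commutator G))) ht))
        haveI : Group.IsSolvable (commutator G) := Group.isSolvable_of_isSolvable_injective hf
        exact huv (IsSimpleGroup.comm_iff_isSolvable.2 inferInstance u v)
    · have hmap : (commutator G).map ρ = commutator π.range := by
        show Subgroup.map ρ ⁅(⊤ : Subgroup G), ⊤⁆ = ⁅(⊤ : Subgroup π.range), ⊤⁆
        rw [Subgroup.map_commutator, Subgroup.map_top_of_surjective _ hsurj]
      have hperf : ⁅commutator G, commutator G⁆ = commutator G := by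
        rcases hsimple.eq_bot_or_eq_top_of_normal _
          (inferInstance : (commutator (commutator G)).Normal) with h | h
        · exfalso
          apply huv
          have h1 := Subgroup.commutator_mem_commutator (Subgroup.mem_top u) (Subgroup.mem_top v)
          rw [← commutator_def, h, Subgroup.mem_bot] at h1
          exact (commutatorElement_eq_one_iff_mul_comm.1 h1)
        · have h1 := congrArg (Subgroup.map (commutator G).subtype) h
          rw [Subgroup.map_subtype_commutator, ← MonoidHom.range_eq_map, Subgroup.range_subtype] at h1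
          exact h1
      rw [← hmap, ← Subgroup.map_commutator, hperf]
  obtain ⟨⟨b, ⟨b, hb, rfl⟩, hbne, hbc⟩, ⟨c, ⟨c, hc, rfl⟩, hcc⟩, h1, h2⟩ :=
    Cfsg.Lib.Fischer.rank_three hF ⟨a, ha, rfl⟩
  refine ⟨⟨b, hb, fun h => hbne (by rw [h]), (hρ a b).1 hbc⟩, ⟨c, hc, fun h => hcc (h.map ρ)⟩, ?_, ?_⟩
  · intro x hx y hy hxa hya hax hay
    obtain ⟨g, hg, e⟩ := h1 _ ⟨x, hx, rfl⟩ _ ⟨y, hy, rfl⟩ (fun h => hxa (hinj x hx a ha h))
      (fun h => hya (hinj y hy a ha h)) (hax.map ρ) (hay.map ρ)
    obtain ⟨g, rfl⟩ := hsurj g
    exact ⟨g, (hρ g a).1 hg, hinj _ (hT.conj g x hx) y hy (by simpa using e)⟩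
  · intro x hx y hy hax hay
    obtain ⟨g, hg, e⟩ := h2 _ ⟨x, hx, rfl⟩ _ ⟨y, hy, rfl⟩ (fun h => hax ((hρ a x).1 h))
      (fun h => hay ((hρ a y).1 h))
    obtain ⟨g, rfl⟩ := hsurj g
    exact ⟨g, (hρ g a).1 hg, hinj _ (hT.conj g x hx) y hy (by simpa using e)⟩

end Cfsg.Agent.S0441
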