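import Cfsg.Statements.S0442


set_option autoImplicit false
open Cfsg

namespace Cfsg.Agent.S0442

/-- A standard trick for producing elements of an involution centraliser: for an involution a and an element g, let b be the conjugate g⁻¹ * a * g. If a * b has odd order 2m + 1 then g * (a * b) ^ m commutes with a; if a * b has even order 2m then (a * b) ^ m and (a * (g * a * g⁻¹)) ^ m commute with a. -/
theorem result {G : Type*} [Group G] (a g : G) (ha : orderOf a = 2) : (∀ m : ℕ, orderOf (a * (g⁻¹ * a * g)) = 2 * m + 1 → Commute (g * (a * (g⁻¹ * a * g)) ^ m) a) ∧ (∀ m : ℕ, orderOf (a * (g⁻¹ * a * g)) = 2 * m → Commute ((a * (g⁻¹ * a * g)) ^ m) a ∧ Commute ((a * (g * a * g⁻¹)) ^ m) a) := by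
  have haa : a * a = 1 := by rw [← pow_two, ← ha, pow_orderOf_eq_one]
  have hai : a⁻¹ = a := inv_eq_of_mul_eq_one_right haa
  -- in a dihedral group: the reflection `y` inverts `x * y`
  have flip : ∀ x y : G, x * x = 1 → y * y = 1 → ∀ m : ℕ,
      x * (x * y) ^ m = ((x * y) ^ m)⁻¹ * x ∧ y * (x * y) ^ m = ((x * y) ^ m)⁻¹ * y := by
    intro x y hx hy m
    have hxi : x⁻¹ = x := inv_eq_of_mul_eq_one_right hx
    have hyi : y⁻¹ = y := inv_eq_of_mul_eq_one_right hy
    have h1 : SemiconjBy x (x * y) (x * y)⁻¹ := by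
      show x * (x * y) = (x * y)⁻¹ * x
      rw [mul_inv_rev, hxi, hyi, mul_assoc y x x, hx, ← mul_assoc, hx, one_mul, mul_one]
    have h2 : SemiconjBy y (x * y) (x * y)⁻¹ := by
      show y * (x * y) = (x * y)⁻¹ * y
      rw [mul_inv_rev, hxi, hyi, mul_assoc]
    exact ⟨by rw [← inv_pow]; exact (h1.pow_right m).eq, by rw [← inv_pow]; exact (h2.pow_right m).eq⟩
  have hbb : (g⁻¹ * a * g) * (g⁻¹ * a * g) = 1 := by simp [mul_assoc, ← mul_assoc a a, haa]
  refine ⟨fun m hm => ?_, fun m hm => ?_⟩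
  · set b := g⁻¹ * a * g with hb
    set c := a * b with hc
    have key : b * c ^ m = c ^ m * a := by
      rw [(flip a b haa hbb m).2]
      have hpow : c ^ m * c ^ m * c = 1 := by
        rw [← pow_add, ← pow_succ, show m + m + 1 = 2 * m + 1 by omega, ← hm, pow_orderOf_eq_one]
      rw [inv_mul_eq_iff_eq_mul]
      calc b = (c ^ m * c ^ m * c) * b := by rw [hpow, one_mul]
        _ = c ^ m * c ^ m * (a * (b * b)) := by rw [hc]; simp only [mul_assoc]
        _ = _ := by rw [hbb, mul_one, mul_assoc]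
    show g * c ^ m * a = a * (g * c ^ m)
    rw [mul_assoc, ← key, hb]
    simp [mul_assoc]
  · have half : ∀ y : G, y * y = 1 → orderOf (a * y) = 2 * m → Commute ((a * y) ^ m) a := by
      intro y hy ho
      have hpow : (a * y) ^ m * (a * y) ^ m = 1 := by
        rw [← pow_add, ← two_mul, ← ho, pow_orderOf_eq_one]
      show (a * y) ^ m * a = a * (a * y) ^ m
      rw [(flip a y haa hy m).1, inv_eq_of_mul_eq_one_right hpow]
    refine ⟨half _ hbb hm, half _ (by simp [mul_assoc, ← mul_assoc a a, haa]) ?_⟩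
    rw [← hm, ← orderOf_inv (a * (g⁻¹ * a * g))]
    have e : MulAut.conj g⁻¹ (a * (g * a * g⁻¹)) = (a * (g⁻¹ * a * g))⁻¹ := by
      simp [mul_inv_rev, hai, mul_assoc]
    rw [← e]
    exact (orderOf_injective (MulAut.conj g⁻¹).toMonoidHom (MulAut.conj g⁻¹).injective _).symm

end Cfsg.Agent.S0442
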