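import Cfsg.Statements.S0443


set_option autoImplicit false
open Cfsg

namespace Cfsg.Agent.S0443

/-- Two definitions of a 2-central involution agree: an element t of order 2 of a finite group lies in the centre of some Sylow 2-subgroup if and only if its centraliser contains some Sylow 2-subgroup. -/
theorem result {G : Type*} [Group G] [Finite G] (t : G) (ht : orderOf t = 2) : Cfsg.IsTwoCentralInvolution t ↔ ∃ P : Sylow 2 G, (P : Subgroup G) ≤ Subgroup.centralizer ({t} : Set G) := by
  constructor
  · rintro ⟨-, P, -, hc⟩
    exact ⟨P, fun x hx => Subgroup.mem_centralizer_singleton_iff.2 (hc x hx)⟩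
  · rintro ⟨P, hP⟩
    have hc : ∀ x ∈ P, x * t = t * x := fun x hx => Subgroup.mem_centralizer_singleton_iff.1 (hP hx)
    refine ⟨ht, P, ?_, hc⟩
    have hz : Subgroup.zpowers t ≤ Subgroup.normalizer ((P : Subgroup G) : Set G) := by
      rw [Subgroup.zpowers_le, Subgroup.mem_normalizer_iff]
      intro h
      constructor
      · intro hh; rw [← hc h hh, mul_inv_cancel_right]; exact hh
      · intro hh
        have h' := hc _ hh
        rw [inv_mul_cancel_right, mul_assoc t h t⁻¹] at h'
        have h'' : h = t * h * t⁻¹ := by rw [mul_assoc]; exact mul_left_cancel h'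
        rw [h'']
        exact hh
    have hp : IsPGroup 2 ↥(Subgroup.zpowers t) :=
      IsPGroup.of_card (n := 1) (by rw [Nat.card_zpowers, ht, pow_one])
    have := P.3 (hp.to_sup_of_normal_right' P.2 hz) le_sup_right
    exact this.le (Subgroup.mem_sup_left (Subgroup.mem_zpowers t))

end Cfsg.Agent.S0443
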