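import Cfsg.Statements.S0444


set_option autoImplicit false
open Cfsg

namespace Cfsg.Agent.S0444

/-- Two members of a set of 3-transpositions which do not commute generate a subgroup isomorphic to the symmetric group on three letters. -/
theorem result {G : Type*} [Group G] {E : Set G} (hE : Cfsg.IsThreeTranspositionSet E) {d e : G} (hd : d ∈ E) (he : e ∈ E) (h : ¬ Commute d e) : Nonempty (Subgroup.closure ({d, e} : Set G) ≃* Equiv.Perm (Fin 3)) := by
  have hinv : ∀ x ∈ E, x * x = 1 := fun x hx => by rw [← pow_two, ← hE.1 x hx, pow_orderOf_eq_one]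
  have hdi : d⁻¹ = d := inv_eq_of_mul_eq_one_right (hinv d hd)
  have hei : e⁻¹ = e := inv_eq_of_mul_eq_one_right (hinv e he)
  set r := d * e with hr
  have hne2 : r ^ 2 ≠ 1 := fun h2 => h (by
    rw [pow_two, hr, ← eq_inv_iff_mul_eq_one, mul_inv_rev, hdi, hei] at h2
    exact h2)
  have h3 : r ^ 3 = 1 := (hE.2 d hd e he).resolve_left hne2
  have hflip : ∀ k : ℕ, r ^ k * d = d * (r ^ k)⁻¹ := by
    intro k
    have h1 : SemiconjBy d r⁻¹ r := by
      show d * r⁻¹ = r * d
      rw [hr, mul_inv_rev, hdi, hei, mul_assoc]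
    have := (h1.pow_right k).eq
    rw [inv_pow] at this
    exact this.symm
  let f : DihedralGroup 3 → G := fun x => match x with
    | .r i => r ^ i.val
    | .sr i => d * r ^ i.val
  have hmod : ∀ k, r ^ k = r ^ (k % 3) := fun k => by
    conv_lhs => rw [← Nat.div_add_mod k 3, pow_add, pow_mul, h3, one_pow, one_mul]
  have hadd : ∀ i j : ZMod 3, r ^ (i + j).val = r ^ i.val * r ^ j.val := fun i j => by
    rw [ZMod.val_add, ← hmod, pow_add]
  have hsub : ∀ i j : ZMod 3, r ^ (j - i).val = (r ^ i.val)⁻¹ * r ^ j.val := fun i j => by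
    rw [eq_inv_mul_iff_mul_eq, ← hadd, add_sub_cancel]
  have hmul : ∀ x y, f (x * y) = f x * f y := by
    rintro (i | i) (j | j)
    · show r ^ (i + j).val = _; exact hadd i j
    · show d * r ^ (j - i).val = r ^ i.val * (d * r ^ j.val)
      rw [hsub, ← mul_assoc, ← mul_assoc, hflip]
    · show d * r ^ (i + j).val = d * r ^ i.val * r ^ j.val
      rw [hadd, mul_assoc]
    · show r ^ (j - i).val = d * r ^ i.val * (d * r ^ j.val)
      rw [hsub, ← mul_assoc, mul_assoc d, hflip, ← mul_assoc d d, hinv d hd, one_mul]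
  let F : DihedralGroup 3 →* G := MonoidHom.mk' f hmul
  have hinj : Function.Injective F := by
    rw [← MonoidHom.ker_eq_bot_iff, Subgroup.eq_bot_iff_forall]
    intro x hx
    rw [MonoidHom.mem_ker] at hx
    have hd1 : d ≠ 1 := fun e1 => by simpa [e1] using hE.1 d hd
    rcases x with i | i <;> fin_cases i
    · rfl
    all_goals exfalso
    · have h1 : r ^ 1 = 1 := hx
      exact hne2 (by rw [pow_two, ← pow_one r, h1, mul_one])
    · exact hne2 hx
    · have h1 : d * r ^ 0 = 1 := hx
      exact hd1 (by simpa using h1)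
    · have h1 : d * r ^ 1 = 1 := hx
      rw [pow_one, hr, ← mul_assoc, hinv d hd, one_mul] at h1
      exact absurd (hE.1 e he) (by rw [h1, orderOf_one]; norm_num)
    · have h1 : d * r ^ 2 = 1 := hx
      have h2 : r ^ 2 = d := by rw [← hdi]; exact eq_inv_of_mul_eq_one_right h1
      have h4 : r * r ^ 2 = 1 := by rw [← pow_succ', h3]
      rw [h2, ← eq_inv_iff_mul_eq_one, hdi] at h4
      exact hne2 (by rw [h4, pow_two, hinv d hd])
  have hrange : F.range = Subgroup.closure ({d, e} : Set G) := by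
    apply le_antisymm
    · rintro _ ⟨x, rfl⟩
      have hdm : d ∈ Subgroup.closure ({d, e} : Set G) := Subgroup.subset_closure (Or.inl rfl)
      have hem : e ∈ Subgroup.closure ({d, e} : Set G) := Subgroup.subset_closure (Or.inr rfl)
      rcases x with i | i
      · exact pow_mem (mul_mem hdm hem) _
      · exact mul_mem hdm (pow_mem (mul_mem hdm hem) _)
    · rw [Subgroup.closure_le]
      rintro x (rfl | rfl)
      · exact ⟨.sr 0, show x * r ^ 0 = x by rw [pow_zero, mul_one]⟩
      · exact ⟨.sr 1, show d * r ^ 1 = x by rw [pow_one, hr, ← mul_assoc, hinv d hd, one_mul]⟩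
  let gR : Equiv.Perm (Fin 3) := finRotate 3
  let gS : Equiv.Perm (Fin 3) := Equiv.swap 0 1
  let g : DihedralGroup 3 → Equiv.Perm (Fin 3) := fun x => match x with
    | .r i => gR ^ i.val
    | .sr i => gS * gR ^ i.val
  have hg : ∀ x y, g (x * y) = g x * g y := by
    rintro (i | i) (j | j) <;> revert i j <;> decide
  have hgb : Function.Bijective g := by
    constructor
    · rintro (i | i) (j | j) <;> revert i j <;> decide
    · intro p
      have : p ∈ [gR ^ 0, gR ^ 1, gR ^ 2, gS * gR ^ 0, gS * gR ^ 1, gS * gR ^ 2] := by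
        revert p; decide
      simp only [List.mem_cons, List.not_mem_nil, or_false] at this
      rcases this with rfl | rfl | rfl | rfl | rfl | rfl
      exacts [⟨.r 0, rfl⟩, ⟨.r 1, rfl⟩, ⟨.r 2, rfl⟩, ⟨.sr 0, rfl⟩, ⟨.sr 1, rfl⟩, ⟨.sr 2, rfl⟩]
  exact ⟨((MulEquiv.subgroupCongr hrange.symm).trans (MonoidHom.ofInjective hinj).symm).trans
    (MulEquiv.ofBijective (MonoidHom.mk' g hg) hgb)⟩

end Cfsg.Agent.S0444
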