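import Cfsg.Statements.S0446


set_option autoImplicit false
open Cfsg

namespace Cfsg.Agent.S0446

/-- Every finite group of even order contains a 2-central involution, i.e. an element of order 2 in the centre of some Sylow 2-subgroup. -/
theorem result {G : Type*} [Group G] [Finite G] (h : Even (Nat.card G)) : ∃ t : G, Cfsg.IsTwoCentralInvolution t := by
  obtain ⟨P⟩ : Nonempty (Sylow 2 G) := inferInstance
  have hnt : Nontrivial (P : Subgroup G) := by
    refine Finite.one_lt_card_iff_nontrivial.1 ?_
    have := Nat.le_of_dvd Nat.card_pos (P.dvd_card_of_dvd_card (even_iff_two_dvd.1 h))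
    omega
  have := P.2.center_nontrivial
  have hd : 2 ∣ Nat.card (Subgroup.center (P : Subgroup G)) := by
    have hp := P.2.to_subgroup (Subgroup.center (P : Subgroup G))
    obtain ⟨n, hn, h2⟩ := hp.nontrivial_iff_card.1 this
    rw [h2]
    exact dvd_pow_self 2 hn.ne'
  obtain ⟨z, hz⟩ := exists_prime_orderOf_dvd_card' 2 hd
  refine ⟨(z : (P : Subgroup G)), ?_, P, (z : (P : Subgroup G)).2, fun x hx => ?_⟩
  · rw [Subgroup.orderOf_coe, Subgroup.orderOf_coe, hz]
  · exact congrArg Subtype.val (Subgroup.mem_center_iff.1 z.2 ⟨x, hx⟩)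

end Cfsg.Agent.S0446
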