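import Mathlib
import Cfsg.Statements.S0891
-- import your own Cfsg.Agent.* helpers here

set_option autoImplicit false
open Cfsg

namespace Cfsg.Agent.S0891

open Equiv
open scoped commutatorElement

section Spin

variable {n : ℕ}

local notation "K" => ZMod 3

/-- Subsets of `Fin n`. -/
abbrev Idx (n : ℕ) := Fin n → Bool

/-- The space of the regular Clifford module. -/
abbrev Op (n : ℕ) := Module.End K (Idx n → K)

/-- Toggle a coordinate. -/
def flip (i : Fin n) (s : Idx n) : Idx n := Function.update s i (!s i)

/-- A sign. -/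
def sg : Bool → K := fun b => if b then -1 else 1

/-- Sign of left multiplication. -/
def epsL (i : Fin n) (s : Idx n) : K := ∏ j ∈ Finset.Iio i, sg (s j)

/-- Sign of right multiplication. -/
def epsR (i : Fin n) (s : Idx n) : K := ∏ j ∈ Finset.Ioi i, sg (s j)

/-- Parity. -/
def par (s : Idx n) : K := ∏ j, sg (s j)

/-- Left multiplication by a generator. -/
def L (i : Fin n) : Op n where
  toFun v := fun t => epsL i t * v (flip i t)
  map_add' v w := by ext t; simp [mul_add]
  map_smul' c v := by ext t; simp [mul_left_comm]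

/-- Right multiplication by a generator. -/
def R (i : Fin n) : Op n where
  toFun v := fun t => epsR i t * v (flip i t)
  map_add' v w := by ext t; simp [mul_add]
  map_smul' c v := by ext t; simp [mul_left_comm]

/-- The parity operator. -/
def E : Op n where
  toFun v := fun t => par t * v t
  map_add' v w := by ext t; simp [mul_add]
  map_smul' c v := by ext t; simp [mul_left_comm]

theorem sg_mul_self (b : Bool) : sg b * sg b = 1 := by cases b <;> decide

theorem sg_not (b : Bool) : sg (!b) = -sg b := by cases b <;> decide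

theorem flip_same (i : Fin n) (s : Idx n) : flip i s i = !s i := by simp [flip]

theorem flip_ne {i j : Fin n} (h : j ≠ i) (s : Idx n) : flip i s j = s j := by simp [flip, h]

theorem flip_flip (i : Fin n) (s : Idx n) : flip i (flip i s) = s := by
  ext j
  rcases eq_or_ne j i with rfl | h
  · simp [flip_same]
  · simp [flip_ne h]

theorem flip_comm (i j : Fin n) (s : Idx n) : flip i (flip j s) = flip j (flip i s) := by
  ext k
  rcases eq_or_ne i j with rfl | hij
  · rfl
  rcases eq_or_ne k i with rfl | h
  · simp [flip_same, flip_ne hij]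
  · rcases eq_or_ne k j with rfl | h'
    · simp [flip_same, flip_ne hij.symm]
    · simp [flip_ne h, flip_ne h']

theorem prod_flip (S : Finset (Fin n)) (i : Fin n) (s : Idx n) :
    ∏ j ∈ S, sg (flip i s j) = (if i ∈ S then -1 else 1) * ∏ j ∈ S, sg (s j) := by
  by_cases h : i ∈ S
  · rw [if_pos h, ← Finset.mul_prod_erase _ _ h, ← Finset.mul_prod_erase _ (fun j => sg (s j)) h,
      flip_same, sg_not, Finset.prod_congr rfl (fun j hj => by rw [flip_ne (Finset.ne_of_mem_erase hj)])]
    ring
  · rw [if_neg h, one_mul]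
    exact Finset.prod_congr rfl fun j hj => by rw [flip_ne (by rintro rfl; exact h hj)]

theorem nmul (x y : Op n) : -x * y = -(x * y) := LinearMap.neg_comp y x

theorem muln (x y : Op n) : x * -y = -(x * y) := LinearMap.ext fun v => map_neg x (y v)

theorem nneg (x y : Op n) : -x * -y = x * y := by rw [nmul, muln, neg_neg]

theorem none_mul (x : Op n) : (-1 : Op n) * x = -x := by rw [nmul, one_mul]

theorem L_sq (i : Fin n) : L i * L i = (1 : Op n) := by
  refine LinearMap.ext fun v => funext fun t => ?_
  change epsL i t * (epsL i (flip i t) * v (flip i (flip i t))) = v t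
  rw [flip_flip, epsL, epsL, prod_flip, if_neg (by simp), one_mul, ← mul_assoc,
    ← Finset.prod_mul_distrib]
  simp [sg_mul_self]

theorem L_anti {i j : Fin n} (h : i ≠ j) : L i * L j = -(L j * L i : Op n) := by
  refine LinearMap.ext fun v => funext fun t => ?_
  change epsL i t * (epsL j (flip i t) * v (flip j (flip i t))) =
    -(epsL j t * (epsL i (flip j t) * v (flip i (flip j t))))
  rw [flip_comm j i]
  simp only [epsL, prod_flip, Finset.mem_Iio]
  rcases lt_or_gt_of_ne h with h' | h'
  · rw [if_pos h', if_neg (not_lt.2 h'.le)]; ring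
  · rw [if_neg (not_lt.2 h'.le), if_pos h']; ring

theorem L_R (i j : Fin n) : L i * R j = (R j * L i : Op n) := by
  refine LinearMap.ext fun v => funext fun t => ?_
  change epsL i t * (epsR j (flip i t) * v (flip j (flip i t))) =
    epsR j t * (epsL i (flip j t) * v (flip i (flip j t)))
  rw [flip_comm j i]
  simp only [epsL, epsR, prod_flip, Finset.mem_Iio, Finset.mem_Ioi]
  by_cases h' : j < i
  · rw [if_pos h']; ring
  · rw [if_neg h']; ring

theorem L_E (i : Fin n) : L i * E = (-(E * L i) : Op n) := by
  refine LinearMap.ext fun v => funext fun t => ?_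
  change epsL i t * (par (flip i t) * v (flip i t)) = -(par t * (epsL i t * v (flip i t)))
  rw [par, prod_flip, if_pos (Finset.mem_univ _), par]; ring

/-- The empty set. -/
def e0 : Idx n := fun _ => false

theorem L_inj {i j : Fin n} (h : (L i : Op n) = L j) : i = j := by
  by_contra hne
  have h1 := congrFun (LinearMap.congr_fun h (Pi.single e0 1)) (flip i e0)
  change epsL i (flip i e0) * (Pi.single e0 1 : Idx n → K) (flip i (flip i e0)) =
    epsL j (flip i e0) * (Pi.single e0 1 : Idx n → K) (flip j (flip i e0)) at h1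
  rw [flip_flip, Pi.single_eq_same, Pi.single_eq_of_ne, mul_zero, mul_one, epsL, prod_flip,
    if_neg (by simp), one_mul] at h1
  · simp [e0, sg] at h1
  · intro h2
    have := congrFun h2 i
    rw [flip_ne hne, flip_same] at this
    simp [e0] at this

/-- Even elements commuting with left and right multiplications are scalars. -/
theorem scalar_of_commute (x : Op n) (hL : ∀ i, x * L i = L i * x) (hR : ∀ i, x * R i = R i * x)
    (hE : x * E = E * x) : ∃ c : K, x = c • 1 := by
  set v := x (Pi.single e0 1) with hv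
  refine ⟨v e0, ?_⟩
  have hpar0 : par (e0 : Idx n) = 1 := by simp [par, e0, sg]
  have hEv : ∀ s, par s * v s = v s := by
    intro s
    have h1 := congrFun (LinearMap.congr_fun hE (Pi.single e0 1)) s
    have h2 : E (Pi.single e0 1 : Idx n → K) = Pi.single e0 1 := by
      funext t
      change par t * (Pi.single e0 1 : Idx n → K) t = _
      rcases eq_or_ne t e0 with rfl | ht
      · simp [hpar0]
      · simp [ht]
    rw [Module.End.mul_apply, Module.End.mul_apply, h2] at h1
    exact h1.symm
  have hLR : ∀ (i : Fin n) (s : Idx n), epsL i s * v (flip i s) = epsR i s * v (flip i s) := by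
    intro i s
    have h2 : L i (Pi.single e0 1 : Idx n → K) = R i (Pi.single e0 1) := by
      funext t
      change epsL i t * (Pi.single e0 1 : Idx n → K) (flip i t) = epsR i t * (Pi.single e0 1 : Idx n → K) (flip i t)
      rcases eq_or_ne (flip i t) e0 with ht | ht
      · have ht' : t = flip i e0 := by rw [← ht, flip_flip]
        rw [ht', epsL, epsR, prod_flip, prod_flip, if_neg (by simp), if_neg (by simp)]
        simp [e0, sg]
      · simp [ht]
    have h1 := congrFun (LinearMap.congr_fun (hL i) (Pi.single e0 1)) s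
    have h3 := congrFun (LinearMap.congr_fun (hR i) (Pi.single e0 1)) s
    rw [Module.End.mul_apply, Module.End.mul_apply] at h1 h3
    rw [h2] at h1
    exact h1.symm.trans h3
  have hv0 : ∀ s, s ≠ e0 → v s = 0 := by
    intro s hs
    obtain ⟨i, hi⟩ : ∃ i, s i = true := by
      by_contra h
      exact hs (funext fun i => by simpa [e0] using fun h' => h ⟨i, h'⟩)
    by_contra hne
    have hp : par s = 1 := mul_right_cancel₀ hne ((hEv s).trans (one_mul _).symm)
    have h1 := hLR i (flip i s)
    rw [flip_flip] at h1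
    have h2 := mul_right_cancel₀ hne h1
    rw [epsL, epsR, prod_flip, prod_flip, if_neg (by simp), if_neg (by simp), one_mul, one_mul] at h2
    have h3 : par s = sg (s i) * ((∏ j ∈ Finset.Iio i, sg (s j)) * ∏ j ∈ Finset.Ioi i, sg (s j)) := by
      have e1 : (Finset.univ : Finset (Fin n)).erase i = Finset.Iio i ∪ Finset.Ioi i := by
        ext j; simp [lt_or_lt_iff_ne]
      have e2 : Disjoint (Finset.Iio i) (Finset.Ioi i) := by
        simp only [Finset.disjoint_left, Finset.mem_Iio, Finset.mem_Ioi]
        exact fun j h1 h2 => lt_asymm h1 h2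
      rw [par, ← Finset.mul_prod_erase _ _ (Finset.mem_univ i), e1, Finset.prod_union e2]
    rw [hp, h2, hi, ← Finset.prod_mul_distrib] at h3
    simp only [sg_mul_self, Finset.prod_const_one, mul_one] at h3
    exact absurd h3 (by simp [sg]; decide)
  have hmain : ∀ (S : Finset (Fin n)) (s : Idx n), (∀ i, i ∉ S → s i = false) →
      x (Pi.single s 1) = v e0 • (Pi.single s 1 : Idx n → K) := by
    intro S
    induction S using Finset.induction_on with
    | empty =>
      intro s hs
      have : s = e0 := funext fun i => hs i (Finset.notMem_empty i)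
      subst this
      funext t
      rcases eq_or_ne t e0 with rfl | ht
      · simp [hv]
      · rw [← hv]; simp [ht, hv0 t ht]
    | @insert a S ha ih =>
      intro s hs
      rcases Bool.eq_false_or_eq_true (s a) with hsa | hsa
      · have hs' : ∀ i, i ∉ S → flip a s i = false := by
          intro i hi
          rcases eq_or_ne i a with rfl | hia
          · rw [flip_same, hsa]; rfl
          · rw [flip_ne hia]; exact hs i (by simp [hia, hi])
        have hRs : R a (Pi.single (flip a s) 1 : Idx n → K) = epsR a s • Pi.single s 1 := by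
          funext t
          change epsR a t * (Pi.single (flip a s) 1 : Idx n → K) (flip a t) = _
          rcases eq_or_ne t s with rfl | ht
          · simp
          · have : flip a t ≠ flip a s := fun h => ht (by rw [← flip_flip a t, h, flip_flip])
            simp [ht, this]
        have h1 := LinearMap.congr_fun (hR a) (Pi.single (flip a s) 1)
        rw [Module.End.mul_apply, Module.End.mul_apply, hRs, map_smul, ih _ hs', map_smul, hRs,
          smul_comm] at h1
        have hne : epsR a s ≠ 0 := by
          rw [epsR, Finset.prod_ne_zero_iff]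
          intro j _ h0
          have := sg_mul_self (s j)
          rw [h0, mul_zero] at this
          exact zero_ne_one this
        exact smul_right_injective _ hne h1
      · exact ih s fun i hi => by
          rcases eq_or_ne i a with rfl | hia
          · exact hsa
          · exact hs i (by simp [hia, hi])
  apply LinearMap.pi_ext'
  intro s
  ext
  simpa using congrFun (hmain Finset.univ s (fun i hi => absurd (Finset.mem_univ i) hi)) _

/-- `e_a - e_b`. -/
def vv (a b : Fin n) : Op n := L a - L b

theorem three_zero (x : Op n) : x + x + x = 0 := by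
  have : ((3 : ℕ) : K) • x = 0 := by rw [show ((3 : ℕ) : K) = 0 from by decide, zero_smul]
  rw [Nat.cast_smul_eq_nsmul] at this
  rwa [show x + x + x = 3 • x by abel]

theorem vv_sq {a b : Fin n} (h : a ≠ b) : vv a b * vv a b = (-1 : Op n) := by
  rw [vv, sub_mul, mul_sub, mul_sub, L_sq, L_sq, L_anti h, ← sub_eq_zero]
  refine Eq.trans ?_ (three_zero 1)
  abel

theorem vv_conj {a b : Fin n} (h : a ≠ b) (i : Fin n) :
    vv a b * L i * vv a b = L (swap a b i) := by
  have h3 : ∀ x : Op n, x + x + x = 0 := three_zero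
  rcases eq_or_ne i a with rfl | hia
  · rw [swap_apply_left, vv]
    simp only [sub_mul, mul_sub, L_sq, one_mul, mul_assoc]
    rw [← mul_assoc (L b) (L i) (L b), L_anti h.symm, nmul, mul_assoc, L_sq, mul_one, mul_one]
    rw [← sub_eq_zero, ← neg_eq_zero]
    refine Eq.trans ?_ (h3 (L b))
    abel
  rcases eq_or_ne i b with rfl | hib
  · rw [swap_apply_right, vv]
    simp only [sub_mul, mul_sub, L_sq, one_mul, mul_assoc]
    rw [← mul_assoc (L a) (L i) (L a), L_anti h, nmul, mul_assoc, L_sq, mul_one, mul_one]
    rw [← sub_eq_zero, ← neg_eq_zero]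
    refine Eq.trans ?_ (h3 (L a))
    abel
  · rw [swap_apply_of_ne_of_ne hia hib, mul_assoc]
    have h1 : L i * vv a b = -(vv a b * L i) := by
      rw [vv, mul_sub, sub_mul, L_anti hia, L_anti hib]; abel
    rw [h1, muln, ← mul_assoc, vv_sq h, nmul, one_mul, neg_neg]

theorem vv_R (a b j : Fin n) : vv a b * R j = (R j * vv a b : Op n) := by
  rw [vv, sub_mul, mul_sub, L_R, L_R]

theorem vv_E (a b : Fin n) : vv a b * E = (-(E * vv a b) : Op n) := by
  rw [vv, sub_mul, mul_sub, L_E, L_E]; abel

/-- Spin elements. -/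
def tt {a b c d : Fin n} (hab : a ≠ b) (hcd : c ≠ d) : (Op n)ˣ where
  val := -(vv a b * vv c d)
  inv := -(vv c d * vv a b)
  val_inv := by
    rw [nneg, mul_assoc, ← mul_assoc (vv c d), vv_sq hcd, nmul, one_mul, muln, vv_sq hab, neg_neg]
  inv_val := by
    rw [nneg, mul_assoc, ← mul_assoc (vv a b), vv_sq hab, nmul, one_mul, muln, vv_sq hcd, neg_neg]

/-- The good elements. -/
def good (n : ℕ) : Subgroup ((Op n)ˣ × Perm (Fin n)) where
  carrier := {p | (∀ i, (p.1 : Op n) * L i = L (p.2 i) * (p.1 : Op n)) ∧ (∀ i, (p.1 : Op n) * R i = R i * (p.1 : Op n)) ∧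
    (p.1 : Op n) * E = E * (p.1 : Op n) ∧ p.2 ∈ alternatingGroup (Fin n)}
  one_mem' := ⟨by simp, by simp, by simp, one_mem _⟩
  mul_mem' := fun {p q} hp hq => by
    refine ⟨fun i => ?_, fun i => ?_, ?_, mul_mem hp.2.2.2 hq.2.2.2⟩
    · rw [Prod.fst_mul, Units.val_mul, mul_assoc, hq.1, ← mul_assoc, hp.1, mul_assoc]; rfl
    · rw [Prod.fst_mul, Units.val_mul, mul_assoc, hq.2.1, ← mul_assoc, hp.2.1, mul_assoc]
    · rw [Prod.fst_mul, Units.val_mul, mul_assoc, hq.2.2.1, ← mul_assoc, hp.2.2.1, mul_assoc]
  inv_mem' := fun {p} hp => by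
    refine ⟨fun i => ?_, fun i => ?_, ?_, inv_mem hp.2.2.2⟩
    · have := hp.1 (p.2⁻¹ i)
      rw [Perm.coe_inv, Equiv.apply_symm_apply] at this
      rw [Prod.fst_inv, Units.inv_mul_eq_iff_eq_mul, ← mul_assoc, Units.eq_mul_inv_iff_mul_eq, Prod.snd_inv,
        Perm.coe_inv, this]
    · rw [Prod.fst_inv, Units.inv_mul_eq_iff_eq_mul, ← mul_assoc, Units.eq_mul_inv_iff_mul_eq, hp.2.1]
    · rw [Prod.fst_inv, Units.inv_mul_eq_iff_eq_mul, ← mul_assoc, Units.eq_mul_inv_iff_mul_eq, hp.2.2.1]

theorem tt_good {a b c d : Fin n} (hab : a ≠ b) (hcd : c ≠ d) :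
    (tt hab hcd, swap a b * swap c d) ∈ good n := by
  refine ⟨fun i => ?_, fun i => ?_, ?_, ?_⟩
  · change -(vv a b * vv c d) * L i = L (swap a b (swap c d i)) * -(vv a b * vv c d)
    have h1 : vv c d * L i = -(L (swap c d i) * vv c d) := by
      rw [← vv_conj hcd i, mul_assoc (vv c d * L i), vv_sq hcd, muln, mul_one, neg_neg]
    have h2 : vv a b * L (swap c d i) = -(L (swap a b (swap c d i)) * vv a b) := by
      rw [← vv_conj hab (swap c d i), mul_assoc (vv a b * L (swap c d i)), vv_sq hab, muln, mul_one, neg_neg]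
    rw [nmul, mul_assoc, h1, muln, neg_neg, ← mul_assoc, h2, nmul, muln, mul_assoc]
  · change -(vv a b * vv c d) * R i = R i * -(vv a b * vv c d)
    rw [nmul, mul_assoc, vv_R, ← mul_assoc, vv_R, mul_assoc, muln]
  · change -(vv a b * vv c d) * E = E * -(vv a b * vv c d)
    rw [nmul, mul_assoc, vv_E, muln, ← mul_assoc, vv_E, nmul, neg_neg, muln, mul_assoc]
  · rw [Perm.mem_alternatingGroup, map_mul, Perm.sign_swap hab, Perm.sign_swap hcd]; rfl

end Spin

/-- For every n ≥ 4 there are a finite group Γ and a central element z of Γ of order 2 lying in the commutator subgroup of Γ such that the quotient of Γ by the (normal) subgroup generated by z is isomorphic to the alternating group on n letters. -/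
theorem result (n : ℕ) (hn : 4 ≤ n) : ∃ (Γ : Type) (_ : Group Γ) (_ : Finite Γ) (z : Γ) (hz : z ∈ Subgroup.center Γ), orderOf z = 2 ∧ z ∈ commutator Γ ∧ ∃ _ : (Subgroup.zpowers z).Normal, Nonempty (Γ ⧸ Subgroup.zpowers z ≃* alternatingGroup (Fin n)) := by
  classical
  obtain ⟨Γ, hΓ⟩ : ∃ G : Subgroup ((Op n)ˣ × Perm (Fin n)), G = good n := ⟨_, rfl⟩
  subst hΓ
  have hfin : Finite (Op n) := Finite.of_injective _ (DFunLike.coe_injective (F := Op n))
  let π : good n →* alternatingGroup (Fin n) :=
    ((MonoidHom.snd _ _).comp (good n).subtype).codRestrict _ (fun p => p.2.2.2.2)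
  have h3 : (-1 : Op n) ≠ 1 := by
    intro h
    have := congrFun (LinearMap.congr_fun h (Pi.single e0 1)) e0
    simp at this
    exact (show (-1 : ZMod 3) ≠ 1 by decide) this
  have hker : ∀ p : good n, π p = 1 → (p : (Op n)ˣ × Perm (Fin n)).1.val = 1 ∨
      (p : (Op n)ˣ × Perm (Fin n)).1.val = -1 := by
    intro p hp
    have hp2 : (p : (Op n)ˣ × Perm (Fin n)).2 = 1 := congrArg Subtype.val hp
    obtain ⟨h1, h2, h4, -⟩ := p.2
    obtain ⟨c, hc⟩ := scalar_of_commute _ (fun i => by simpa [hp2] using h1 i) h2 h4
    have hc0 : c ≠ 0 := by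
      intro h0
      have hu := (p : (Op n)ˣ × Perm (Fin n)).1.mul_inv
      rw [hc, h0, zero_smul, zero_mul] at hu
      exact h3 (eq_of_zero_eq_one hu _ _)
    rcases (show ∀ c : ZMod 3, c ≠ 0 → c = 1 ∨ c = -1 by decide) c hc0 with rfl | rfl
    · exact Or.inl (by rw [hc, one_smul])
    · refine Or.inr (hc.trans (LinearMap.ext fun w => ?_))
      change (-1 : ZMod 3) • w = -w
      rw [neg_one_smul]
  let v : Fin 4 → Fin n := fun i => ⟨i.val, by omega⟩
  have hv : ∀ {i j : Fin 4}, i ≠ j → v i ≠ v j := fun {i j} h he => h (Fin.ext (by simpa [v] using he))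
  let T : good n := ⟨_, tt_good (hv (show (0 : Fin 4) ≠ 1 by decide)) (hv (show (2 : Fin 4) ≠ 3 by decide))⟩
  let S : good n := ⟨_, tt_good (hv (show (0 : Fin 4) ≠ 2 by decide)) (hv (show (1 : Fin 4) ≠ 3 by decide))⟩
  have hperm : ∀ i j k l : Fin n, i ≠ k → i ≠ l → j ≠ k → j ≠ l →
      swap i j * swap k l = swap k l * swap i j := by
    intro i j k l h1 h2 h3 h4
    have h := Equiv.swap_apply_apply (swap k l) i j
    rw [swap_apply_of_ne_of_ne h1 h2, swap_apply_of_ne_of_ne h3 h4, swap_inv] at h
    conv_lhs => rw [h]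
    rw [mul_assoc, swap_mul_self, mul_one]
  have hz : (((-1 : (Op n)ˣ)), (1 : Perm (Fin n))) ∈ good n :=
    ⟨fun i => by simp, fun i => by simp, by simp, one_mem _⟩
  let z : good n := ⟨_, hz⟩
  have hzc : z ∈ Subgroup.center (good n) := by
    rw [Subgroup.mem_center_iff]
    intro g
    ext1
    refine Prod.ext (Units.ext ?_) (by simp [z])
    change (g : (Op n)ˣ × Perm (Fin n)).1.val * (-1 : Op n) = (-1 : Op n) * (g : (Op n)ˣ × Perm (Fin n)).1.val
    rw [muln, mul_one, none_mul]
  have hz2 : orderOf z = 2 := by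
    rw [orderOf_eq_prime_iff]
    refine ⟨Subtype.ext (Prod.ext (Units.ext ?_) (by simp [z])), fun h => h3 ?_⟩
    · change ((-1 : (Op n)ˣ) ^ 2 : (Op n)ˣ).val = (1 : Op n)
      rw [pow_two]
      change (-1 : Op n) * (-1 : Op n) = 1
      rw [none_mul, neg_neg]
    have := congrArg (fun g : good n => (g : (Op n)ˣ × Perm (Fin n)).1.val) h
    simpa [z] using this
  have hzcomm : z ∈ commutator (good n) := by
    have he : S * T * S⁻¹ = z * T := by
      rw [mul_inv_eq_iff_eq_mul]
      refine Subtype.ext (Prod.ext (Units.ext ?_) ?_)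
      · obtain ⟨hS, -, -, -⟩ := S.2
        change (S : (Op n)ˣ × Perm (Fin n)).1.val * -(vv (v 0) (v 1) * vv (v 2) (v 3)) =
          ((-1 : (Op n)ˣ) : Op n) * -(vv (v 0) (v 1) * vv (v 2) (v 3)) * (S : (Op n)ˣ × Perm (Fin n)).1.val
        have hs : ∀ i, (S : (Op n)ˣ × Perm (Fin n)).1.val * L i =
            L ((swap (v 0) (v 2) * swap (v 1) (v 3)) i) * (S : (Op n)ˣ × Perm (Fin n)).1.val := hS
        have i0 : (swap (v 0) (v 2) * swap (v 1) (v 3)) (v 0) = v 2 := by
          rw [Perm.mul_apply, swap_apply_of_ne_of_ne (hv (by decide)) (hv (by decide)), swap_apply_left]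
        have i1 : (swap (v 0) (v 2) * swap (v 1) (v 3)) (v 1) = v 3 := by
          rw [Perm.mul_apply, swap_apply_left, swap_apply_of_ne_of_ne (hv (by decide)) (hv (by decide))]
        have i2 : (swap (v 0) (v 2) * swap (v 1) (v 3)) (v 2) = v 0 := by
          rw [Perm.mul_apply, swap_apply_of_ne_of_ne (hv (by decide)) (hv (by decide)), swap_apply_right]
        have i3 : (swap (v 0) (v 2) * swap (v 1) (v 3)) (v 3) = v 1 := by
          rw [Perm.mul_apply, swap_apply_right, swap_apply_of_ne_of_ne (hv (by decide)) (hv (by decide))]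
        set s := (S : (Op n)ˣ × Perm (Fin n)).1.val with hsdef
        have a1 : s * vv (v 0) (v 1) = vv (v 2) (v 3) * s := by
          rw [vv, vv, mul_sub, sub_mul, hs, hs, i0, i1]
        have a2 : s * vv (v 2) (v 3) = vv (v 0) (v 1) * s := by
          rw [vv, vv, mul_sub, sub_mul, hs, hs, i2, i3]
        have a3 : vv (v 2) (v 3) * vv (v 0) (v 1) = -(vv (v 0) (v 1) * vv (v 2) (v 3)) := by
          simp only [vv, sub_mul, mul_sub]
          rw [L_anti (hv (show (2 : Fin 4) ≠ 0 by decide)), L_anti (hv (show (2 : Fin 4) ≠ 1 by decide)),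
            L_anti (hv (show (3 : Fin 4) ≠ 0 by decide)), L_anti (hv (show (3 : Fin 4) ≠ 1 by decide))]
          abel
        rw [Units.val_neg, Units.val_one, muln, none_mul, neg_neg, ← mul_assoc, a1, mul_assoc, a2,
          ← mul_assoc, a3, nmul, neg_neg]
      · change swap (v 0) (v 2) * swap (v 1) (v 3) * (swap (v 0) (v 1) * swap (v 2) (v 3)) =
          1 * (swap (v 0) (v 1) * swap (v 2) (v 3)) * (swap (v 0) (v 2) * swap (v 1) (v 3))
        have hinj : Function.Injective v := fun i j h => by
          by_contra hne; exact hv hne h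
        have e : ∀ i j : Fin 4, swap (v i) (v j) = Perm.viaEmbeddingHom ⟨v, hinj⟩ (swap i j) := by
          intro i j
          ext x
          by_cases hx : x ∈ Set.range v
          · obtain ⟨k, rfl⟩ := hx
            rw [Perm.viaEmbeddingHom_apply]
            have := Perm.viaEmbedding_apply (swap i j) (⟨v, hinj⟩ : Fin 4 ↪ Fin n) k
            simp only [Function.Embedding.coeFn_mk] at this
            rw [this, hinj.swap_apply]
          · rw [Perm.viaEmbeddingHom_apply, Perm.viaEmbedding_apply_of_notMem _ _ _ (by simpa using hx),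
              swap_apply_of_ne_of_ne (fun h => hx ⟨i, h.symm⟩) (fun h => hx ⟨j, h.symm⟩)]
        rw [one_mul, e, e, e, e]
        simp only [← map_mul]
        congr 1
        decide
    have : ⁅S, T⁆ = z := by
      rw [commutatorElement_def, he, mul_inv_cancel_right]
    rw [← this, commutator_def]
    exact Subgroup.commutator_mem_commutator (Subgroup.mem_top _) (Subgroup.mem_top _)
  have hsurj : Function.Surjective π := by
    intro g
    have hmain : ∀ (l : List (Perm (Fin n))), (∀ s ∈ l, s.IsSwap) → Even l.length →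
        ∃ p : good n, (p : (Op n)ˣ × Perm (Fin n)).2 = l.prod := by
      intro l
      induction l using List.twoStepInduction with
      | nil => intro _ _; exact ⟨1, rfl⟩
      | singleton x => intro _ he; exact absurd he (by simp)
      | cons_cons x y l ih _ =>
        intro hl he
        obtain ⟨a, b, hab, hx⟩ := hl x (by simp)
        obtain ⟨c, d, hcd, hy⟩ := hl y (by simp)
        obtain ⟨p, hp⟩ := ih (fun s hs => hl s (by simp [hs]))
          (by rwa [List.length_cons, List.length_cons, Nat.even_add_one, Nat.even_add_one, not_not] at he)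
        refine ⟨⟨_, tt_good hab hcd⟩ * p, ?_⟩
        rw [List.prod_cons, List.prod_cons, ← hp, hx, hy, ← mul_assoc]; rfl
    obtain ⟨l, hl, hsw⟩ : ∃ l : List (Perm (Fin n)), l.prod = g.1 ∧ ∀ s ∈ l, s.IsSwap :=
      let r := (Perm.truncSwapFactors g.1).out
      ⟨r.1, r.2⟩
    have he : Even l.length := by
      have hs := Perm.mem_alternatingGroup.1 g.2
      rw [← hl, Perm.sign_prod_list_swap hsw] at hs
      rcases Nat.even_or_odd l.length with h | h
      · exact h
      · rw [h.neg_one_pow] at hs; exact absurd hs (by decide)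
    obtain ⟨p, hp⟩ := hmain l hsw he
    exact ⟨p, Subtype.ext (hp.trans hl)⟩
  have hk : π.ker = Subgroup.zpowers z := by
    refine le_antisymm (fun p hp => ?_) (Subgroup.zpowers_le.2 (Subtype.ext rfl))
    have hp2 : (p : (Op n)ˣ × Perm (Fin n)).2 = 1 := congrArg Subtype.val hp
    rcases hker p hp with h | h
    · have : p = 1 := Subtype.ext (Prod.ext (Units.ext h) hp2)
      rw [this]; exact one_mem _
    · have : p = z := Subtype.ext (Prod.ext (Units.ext (h.trans rfl)) hp2)
      rw [this]; exact Subgroup.mem_zpowers _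
  have hzn : (Subgroup.zpowers z).Normal := hk ▸ π.normal_ker
  refine ⟨good n, inferInstance, inferInstance, z, hzc, hz2, hzcomm, hzn, ⟨?_⟩⟩
  exact (QuotientGroup.quotientMulEquivOfEq hk.symm).trans (QuotientGroup.quotientKerEquivOfSurjective π hsurj)

end Cfsg.Agent.S0891
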