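import Mathlib
import Cfsg.Statements.S0447
import Cfsg.Agent.S0892
import Cfsg.Agent.S0891

set_option autoImplicit false
open Cfsg

namespace Cfsg.Agent.S0447

open Cfsg.Agent.S3335 (gen pt pt_ne gen_mem)
open Cfsg.Agent.S0892 (Ext two_facts central)
open scoped commutatorElement

theorem cube_mem_commutator {n : ℕ} (g : alternatingGroup (Fin n)) :
    g ^ 3 ∈ commutator (alternatingGroup (Fin n)) := by
  rw [← Abelianization.ker_of, MonoidHom.mem_ker, map_pow]
  obtain ⟨g, hg⟩ := g
  have hg' : g ∈ Subgroup.closure {σ : Equiv.Perm (Fin n) | Equiv.Perm.IsThreeCycle σ} := by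
    rw [Equiv.Perm.closure_three_cycles_eq_alternating]; exact hg
  revert hg
  induction hg' using Subgroup.closure_induction with
  | mem σ hσ =>
    intro hg
    rw [← map_pow, show (⟨σ, hg⟩ : alternatingGroup (Fin n)) ^ 3 = 1 from Subtype.ext (by
      rw [SubmonoidClass.coe_pow, ← (show σ.IsThreeCycle from hσ).orderOf, pow_orderOf_eq_one]; rfl), map_one]
  | one => intro hg; rw [show (⟨1, hg⟩ : alternatingGroup (Fin n)) = 1 from rfl, map_one, one_pow]
  | mul a b ha hb iha ihb =>
    intro hg
    have ha' : a ∈ alternatingGroup (Fin n) := by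
      rw [← Equiv.Perm.closure_three_cycles_eq_alternating]; exact ha
    have hb' : b ∈ alternatingGroup (Fin n) := by
      rw [← Equiv.Perm.closure_three_cycles_eq_alternating]; exact hb
    rw [show (⟨a * b, hg⟩ : alternatingGroup (Fin n)) = ⟨a, ha'⟩ * ⟨b, hb'⟩ from rfl, map_mul, mul_pow,
      iha ha', ihb hb', one_mul]
  | inv a ha iha =>
    intro hg
    have ha' : a ∈ alternatingGroup (Fin n) := by
      rw [← Equiv.Perm.closure_three_cycles_eq_alternating]; exact ha
    rw [show (⟨a⁻¹, hg⟩ : alternatingGroup (Fin n)) = (⟨a, ha'⟩ : alternatingGroup (Fin n))⁻¹ from rfl,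
      map_inv, inv_pow, iha ha', inv_one]

/-- In a non-split double cover of an alternating group the centre lies in the derived subgroup. -/
theorem center_le {n : ℕ} {H : Type} [Group H] [Finite H]
    (hH : Cfsg.IsNonsplitDoubleCover H (alternatingGroup (Fin n))) :
    Subgroup.center H ≤ commutator H := by
  obtain ⟨hc, ⟨e⟩, hns⟩ := hH
  by_contra hle
  obtain ⟨z, hz, hzne⟩ := SetLike.not_le_iff_exists.1 hle
  have hz1 : z ≠ 1 := fun h => hzne (h ▸ one_mem _)
  have hz2 : z ^ 2 = 1 := by
    have := pow_card_eq_one' (x := (⟨z, hz⟩ : Subgroup.center H))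
    rw [hc] at this
    exact congrArg Subtype.val this
  have hall : ∀ w ∈ Subgroup.center H, w = 1 ∨ w = z := by
    intro w hw
    have huniv : ∀ (a b c : Subgroup.center H), a ≠ b → c = a ∨ c = b := by
      intro a b c hab
      have hu := (Nat.card_eq_two_iff' a).1 hc
      by_cases hca : c = a
      · exact Or.inl hca
      · exact Or.inr (hu.unique hca hab.symm)
    rcases huniv 1 ⟨z, hz⟩ ⟨w, hw⟩ (fun h => hz1 (congrArg Subtype.val h).symm) with h | h
    · exact Or.inl (congrArg Subtype.val h)
    · exact Or.inr (congrArg Subtype.val h)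
  let L : Subgroup H := ((powMonoidHom 3 : Abelianization H →* Abelianization H).comp Abelianization.of).ker
  have hL : ∀ h, h ∈ L ↔ h ^ 3 ∈ commutator H := fun h => by
    rw [← Abelianization.ker_of, MonoidHom.mem_ker, MonoidHom.mem_ker, map_pow]; rfl
  apply hns L
  have hd : Disjoint (Subgroup.center H) L := by
    rw [Subgroup.disjoint_def]
    intro w hw hwL
    rcases hall w hw with rfl | rfl
    · rfl
    · exfalso
      apply hzne
      have := (hL _).1 hwL
      rwa [pow_succ, hz2, one_mul] at this
  apply Subgroup.isComplement'_of_disjoint_and_mul_eq_univ hd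
  rw [← Subgroup.normal_mul, ← Subgroup.coe_top]
  congr 1
  rw [eq_top_iff]
  intro g _
  let f : H →* alternatingGroup (Fin n) := e.toMonoidHom.comp (QuotientGroup.mk' _)
  have hf : Function.Surjective f := e.surjective.comp (QuotientGroup.mk'_surjective _)
  have hg : f (g ^ 3) ∈ (commutator H).map f := by
    rw [commutator_def, Subgroup.map_commutator, Subgroup.map_top_of_surjective f hf, ← commutator_def, map_pow]
    exact cube_mem_commutator _
  obtain ⟨d, hd', hde⟩ := hg
  have hk : d⁻¹ * g ^ 3 ∈ Subgroup.center H := by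
    rw [← QuotientGroup.eq]
    exact e.injective hde
  rcases hall _ hk with h1 | h1
  · exact Subgroup.mem_sup_right ((hL g).2 (by rw [← inv_mul_eq_one.1 h1]; exact hd'))
  · rw [show g = z⁻¹ * (z * g) by group]
    refine mul_mem (Subgroup.mem_sup_left (inv_mem hz)) (Subgroup.mem_sup_right ((hL _).2 ?_))
    have hcm : Commute z g := (Subgroup.mem_center_iff.1 hz g).symm
    have hg3 : g ^ 3 = d * z := by rw [← h1]; group
    rw [hcm.mul_pow, hg3, pow_succ z, hz2, one_mul, ← mul_assoc, Subgroup.mem_center_iff.1 hz d |>.symm,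
      mul_assoc, ← pow_two, hz2, mul_one]
    exact hd'

theorem make_ext {m : ℕ} {H : Type} [Group H] [Finite H]
    (hH : Cfsg.IsNonsplitDoubleCover H (alternatingGroup (Fin (m + 2)))) :
    ∃ π : H →* Equiv.Perm (Fin (m + 2)), Ext m π ∧ π.ker = Subgroup.center H ∧ Nat.card π.ker = 2 := by
  have hle := center_le hH
  obtain ⟨hc, ⟨e⟩, -⟩ := hH
  let π : H →* Equiv.Perm (Fin (m + 2)) :=
    ((alternatingGroup (Fin (m + 2))).subtype.comp e.toMonoidHom).comp (QuotientGroup.mk' _)
  have hker : π.ker = Subgroup.center H := by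
    ext x
    rw [MonoidHom.mem_ker, ← QuotientGroup.eq_one_iff]
    exact ⟨fun hx => (MulEquiv.map_eq_one_iff e).1 (Subtype.ext hx), fun hx => by
      change ((e (x : H ⧸ Subgroup.center H) : alternatingGroup (Fin (m + 2))) : Equiv.Perm (Fin (m + 2))) = 1
      rw [hx, map_one]; rfl⟩
  refine ⟨π, ⟨?_, hker.le, hker ▸ hle⟩, hker, hker ▸ hc⟩
  rw [MonoidHom.range_comp, MonoidHom.range_eq_top.2 (QuotientGroup.mk'_surjective _), ← MonoidHom.range_eq_map,
    MonoidHom.range_comp, MonoidHom.range_eq_top.2 e.surjective, ← MonoidHom.range_eq_map, Subgroup.range_subtype]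

/-- Even involutions of degree at most seven are conjugate to a double transposition. -/
theorem involution_conj {m : ℕ} (hm : 2 ≤ m) (hm5 : m ≤ 5) {p : Equiv.Perm (Fin (m + 2))}
    (hp : p ∈ alternatingGroup (Fin (m + 2))) (hp2 : p * p = 1) (hp1 : p ≠ 1) :
    ∃ σ ∈ alternatingGroup (Fin (m + 2)), σ * gen m 1 * σ⁻¹ = p := by
  have h2 : orderOf p = 2 := orderOf_eq_prime (by rw [pow_two]; exact hp2) hp1
  obtain ⟨k, hk⟩ := Equiv.Perm.cycleType_prime_order (show (orderOf p).Prime by rw [h2]; exact Nat.prime_two)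
  rw [h2] at hk
  have hsum := Equiv.Perm.sum_cycleType p
  have hb : p.support.card ≤ m + 2 := by simpa using Finset.card_le_univ p.support
  rw [hk, Multiset.sum_replicate, smul_eq_mul] at hsum
  have hsign := Equiv.Perm.mem_alternatingGroup.1 hp
  rw [Equiv.Perm.sign_of_cycleType, hk, Multiset.sum_replicate, smul_eq_mul, Multiset.card_replicate] at hsign
  have hk1 : k = 1 := by
    rcases Nat.even_or_odd ((k + 1) * 2 + (k + 1)) with he | he
    · have : k ≤ 2 := by omega
      rcases (show k = 0 ∨ k = 1 ∨ k = 2 by omega) with rfl | rfl | rfl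
      · exact absurd he (by decide)
      · rfl
      · exact absurd he (by decide)
    · rw [he.neg_one_pow] at hsign; exact absurd hsign (by decide)
  subst hk1
  have hne : ∀ a b : ℕ, a ≠ b → a ≤ 3 → b ≤ 3 → pt m a ≠ pt m b := fun a b h ha hb =>
    pt_ne h (by omega) (by omega)
  have hg : (gen m 1).cycleType = p.cycleType := by
    rw [hk, gen, Equiv.Perm.Disjoint.cycleType_mul, Equiv.Perm.IsSwap.isCycle ⟨_, _, hne 0 1 (by omega) (by omega) (by omega), rfl⟩ |>.cycleType,
      Equiv.Perm.IsSwap.isCycle ⟨_, _, hne 2 3 (by omega) (by omega) (by omega), rfl⟩ |>.cycleType,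
      Equiv.Perm.card_support_swap (hne 0 1 (by omega) (by omega) (by omega)),
      Equiv.Perm.card_support_swap (hne 2 3 (by omega) (by omega) (by omega))]
    · rfl
    · rw [Equiv.Perm.disjoint_iff_disjoint_support,
        Equiv.Perm.support_swap (hne 0 1 (by omega) (by omega) (by omega)),
        Equiv.Perm.support_swap (hne 2 3 (by omega) (by omega) (by omega))]
      simp [hne 0 2, hne 0 3, hne 1 2, hne 1 3, (hne 0 2 (by omega) (by omega) (by omega)).symm,
        (hne 0 3 (by omega) (by omega) (by omega)).symm, (hne 1 2 (by omega) (by omega) (by omega)).symm,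
        (hne 1 3 (by omega) (by omega) (by omega)).symm]
  obtain ⟨σ, hσ⟩ := isConj_iff.1 (Equiv.Perm.isConj_iff_cycleType_eq.2 hg)
  rcases Int.units_eq_one_or (Equiv.Perm.sign σ) with hs | hs
  · exact ⟨σ, Equiv.Perm.mem_alternatingGroup.2 hs, hσ⟩
  · refine ⟨σ * Equiv.swap (pt m 0) (pt m 1), ?_, ?_⟩
    · rw [Equiv.Perm.mem_alternatingGroup, map_mul, hs,
        Equiv.Perm.sign_swap (hne 0 1 (by omega) (by omega) (by omega))]
      rfl
    · rw [← hσ]
      have e : Equiv.swap (pt m 0) (pt m 1) * gen m 1 = gen m 1 * Equiv.swap (pt m 0) (pt m 1) := by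
        have hc := Cfsg.Agent.S3335.commute_swap (hne 0 2 (by omega) (by omega) (by omega))
          (hne 0 3 (by omega) (by omega) (by omega)) (hne 1 2 (by omega) (by omega) (by omega))
          (hne 1 3 (by omega) (by omega) (by omega))
        rw [gen, mul_assoc (Equiv.swap (pt m 0) (pt m 1)) (Equiv.swap (pt m 2) (pt m 3)), ← hc]
      calc σ * Equiv.swap (pt m 0) (pt m 1) * gen m 1 * (σ * Equiv.swap (pt m 0) (pt m 1))⁻¹
          = σ * (Equiv.swap (pt m 0) (pt m 1) * gen m 1) * (Equiv.swap (pt m 0) (pt m 1))⁻¹ * σ⁻¹ := by group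
        _ = σ * gen m 1 * σ⁻¹ := by rw [e]; group

/-- Involutions in double covers of alternating groups: for n ≤ 7, a finite non-split double cover of the alternating group of degree n has exactly one element of order 2 (the central one); for degree 8 there is a non-split double cover with two distinct involutions. -/
theorem result : (∀ (n : ℕ) (H : Type) (_ : Group H) (_ : Finite H), n ≤ 7 → Cfsg.IsNonsplitDoubleCover H (alternatingGroup (Fin n)) → ∀ x y : H, orderOf x = 2 → orderOf y = 2 → x = y) ∧ ∃ (H : Type) (_ : Group H) (_ : Finite H), Cfsg.IsNonsplitDoubleCover H (alternatingGroup (Fin 8)) ∧ ∃ x y : H, x ≠ y ∧ orderOf x = 2 ∧ orderOf y = 2 := by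
  classical
  refine ⟨?_, ?_⟩
  · intro n H _ _ hn hH x y hx hy
    have hcl := center_le hH
    by_cases hn4 : 4 ≤ n
    swap
    · exfalso
      obtain ⟨hc, ⟨e⟩, -⟩ := hH
      have hcomm : ∀ a b : H, a * b = b * a := by
        have hA : ∀ a b : alternatingGroup (Fin n), a * b = b * a := by
          interval_cases n <;> decide
        intro a b
        have hab : ∀ u v : H, ⁅u, v⁆ ∈ Subgroup.center H := fun u v => by
          rw [← QuotientGroup.eq_one_iff]
          apply e.injective
          change e ((QuotientGroup.mk' (Subgroup.center H)) ⁅u, v⁆) = e 1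
          rw [map_commutatorElement, map_commutatorElement, map_one, commutatorElement_eq_one_iff_mul_comm, hA]
        have hQcyc : IsCyclic (H ⧸ Subgroup.center H) := by
          have : IsCyclic (alternatingGroup (Fin n)) := by
            interval_cases n
            · exact isCyclic_of_subsingleton
            · exact isCyclic_of_subsingleton
            · have : Subsingleton (alternatingGroup (Fin 2)) := ⟨by decide⟩; exact isCyclic_of_subsingleton
            · have : Fact (Nat.Prime 3) := ⟨Nat.prime_three⟩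
              exact isCyclic_of_prime_card (p := 3) (by rw [Nat.card_eq_fintype_card]; decide)
          exact isCyclic_of_surjective e.symm.toMonoidHom e.symm.surjective
        exact commutative_of_cyclic_center_quotient (QuotientGroup.mk' (Subgroup.center H))
          (by rw [QuotientGroup.ker_mk']) a b
      have h0 : commutator H = ⊥ := by
        rw [commutator_def, Subgroup.commutator_eq_bot_iff_le_centralizer]
        intro a _
        rw [Subgroup.mem_centralizer_iff]
        exact fun b _ => hcomm b a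
      rw [h0, le_bot_iff] at hcl
      rw [hcl, Subgroup.card_bot] at hc
      omega
    obtain ⟨m, rfl⟩ : ∃ m, n = m + 2 := ⟨n - 2, by omega⟩
    obtain ⟨π, hext, hker, hc⟩ := make_ext hH
    obtain ⟨X, a, ha, ha2, hle, hX, hall, -⟩ := two_facts hext (by omega) (by rw [hc]; decide)
    have ha1 : a ≠ 1 := by
      intro h
      rw [h, Subgroup.zpowers_one_eq_bot, le_bot_iff] at hle
      rw [hle, Subgroup.card_bot] at hc
      omega
    have key : ∀ u : H, orderOf u = 2 → π u = 1 := by
      intro u hu
      have hu2 : u * u = 1 := by rw [← pow_two, ← hu, pow_orderOf_eq_one]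
      by_contra hne
      obtain ⟨σ, hσ, hσe⟩ := involution_conj (by omega) (by omega)
        (show π u ∈ alternatingGroup (Fin (m + 2)) by rw [← hext.range_eq]; exact ⟨u, rfl⟩)
        (by rw [← map_mul, hu2, map_one]) hne
      obtain ⟨W, rfl⟩ : σ ∈ π.range := by rw [hext.range_eq]; exact hσ
      set d := W * X 1 * W⁻¹ with hd
      have hdπ : π (u * d⁻¹) = 1 := by
        rw [map_mul, map_inv, hd, map_mul, map_mul, map_inv, hX 1 (by omega), hσe, mul_inv_cancel]
      have hz2 : (u * d⁻¹) ^ 2 = 1 := by
        have := Cfsg.Agent.S0892.pow_card_ker (π := π) hdπ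
        rwa [hc] at this
      apply ha1
      have hcm : Commute (u * d⁻¹) d := (central hext hdπ d).symm
      have h1 : u ^ 2 = (u * d⁻¹) ^ 2 * d ^ 2 := by rw [← hcm.mul_pow, inv_mul_cancel_right]
      rw [pow_two u, hu2, hz2, one_mul, hd, conj_pow, hall 1 le_rfl (by omega), central hext ha W,
        mul_inv_cancel_right] at h1
      exact h1.symm
    have hxy : ∀ u : H, π u = 1 → u ≠ 1 → u = a := by
      intro u hu hu1
      obtain ⟨i, rfl⟩ := hle hu
      rcases Int.even_or_odd i with ⟨k, rfl⟩ | ⟨k, rfl⟩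
      · exact absurd (by change a ^ (k + k) = 1; rw [← two_mul, zpow_mul, zpow_two, ha2, one_zpow]) hu1
      · change a ^ (2 * k + 1) = a
        rw [zpow_add, zpow_mul, zpow_two, ha2, one_zpow, one_mul, zpow_one]
    have ne1 : ∀ u : H, orderOf u = 2 → u ≠ 1 := fun u hu h => by rw [h, orderOf_one] at hu; omega
    rw [hxy x (key x hx) (ne1 x hx), hxy y (key y hy) (ne1 y hy)]
  · obtain ⟨Γ, _, _, z, hz, hz2, hzc, hzn, ⟨e⟩⟩ := Cfsg.Agent.S0891.result 8 (by omega)
    have hcenter : Subgroup.center Γ = Subgroup.zpowers z := by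
      refine le_antisymm ?_ (Subgroup.zpowers_le.2 hz)
      intro g hg
      rw [← QuotientGroup.eq_one_iff]
      have h1 : e (g : Γ ⧸ Subgroup.zpowers z) ∈ Subgroup.center (alternatingGroup (Fin 8)) := by
        rw [Subgroup.mem_center_iff]
        intro q
        obtain ⟨q, rfl⟩ := e.surjective q
        obtain ⟨q, rfl⟩ := QuotientGroup.mk_surjective q
        rw [← map_mul, ← map_mul, ← QuotientGroup.mk_mul, ← QuotientGroup.mk_mul, Subgroup.mem_center_iff.1 hg]
      rw [alternatingGroup.center_eq_bot (by simp), Subgroup.mem_bot] at h1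
      exact (MulEquiv.map_eq_one_iff e).1 h1
    have hcard : Nat.card (Subgroup.center Γ) = 2 := by rw [hcenter, Nat.card_zpowers, hz2]
    have hH : Cfsg.IsNonsplitDoubleCover Γ (alternatingGroup (Fin 8)) := by
      refine ⟨hcard, ⟨(QuotientGroup.quotientMulEquivOfEq hcenter).trans e⟩, fun L hL => ?_⟩
      have hzL : z ∈ L := by
        have hc : ∀ a b : Γ, ⁅a, b⁆ ∈ L := by
          intro a b
          obtain ⟨⟨u, k⟩, rfl⟩ := hL.2 a
          obtain ⟨⟨v, l⟩, rfl⟩ := hL.2 b
          have hu : Commute (u : Γ) (v * l : Γ) := (Subgroup.mem_center_iff.1 u.2 _).symm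
          have hv : Commute (v : Γ) (k : Γ) := (Subgroup.mem_center_iff.1 v.2 _).symm
          have : ⁅(u : Γ) * k, (v : Γ) * l⁆ = ⁅(k : Γ), (l : Γ)⁆ := by
            calc ⁅(u : Γ) * k, (v : Γ) * l⁆ = u * ⁅(k : Γ), (v : Γ) * l⁆ * (u : Γ)⁻¹ * ⁅(u : Γ), (v : Γ) * l⁆ := by
                  simp only [commutatorElement_def]; group
              _ = ⁅(k : Γ), (v : Γ) * l⁆ := by
                  rw [commutatorElement_eq_one_iff_mul_comm.2 hu.eq, mul_one,
                    ← Subgroup.mem_center_iff.1 u.2, mul_inv_cancel_right]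
              _ = ⁅(k : Γ), (v : Γ)⁆ * (v * ⁅(k : Γ), (l : Γ)⁆ * (v : Γ)⁻¹) := by
                  simp only [commutatorElement_def]; group
              _ = _ := by
                  rw [commutatorElement_eq_one_iff_mul_comm.2 hv.symm.eq, one_mul,
                    ← Subgroup.mem_center_iff.1 v.2, mul_inv_cancel_right]
          rw [this]
          exact mul_mem (mul_mem (mul_mem k.2 l.2) (inv_mem k.2)) (inv_mem l.2)
        have : commutator Γ ≤ L := by
          rw [commutator_def, Subgroup.commutator_le]; exact fun a _ b _ => hc a b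
        exact this hzc
      have := Subgroup.disjoint_def.1 hL.disjoint hz hzL
      rw [this, orderOf_one] at hz2
      omega
    obtain ⟨π, hext, hker, hc⟩ := make_ext (m := 6) hH
    obtain ⟨X, a, ha, ha2, hle, hX, hall, hcom⟩ := two_facts hext (by omega) (by rw [hc]; decide)
    have haz := central hext ha
    have hc13 := hcom 1 3 le_rfl (by omega) (by omega)
    have hc15 := hcom 1 5 le_rfl (by omega) (by omega)
    have hc35 := hcom 3 5 (by omega) (by omega) (by omega)
    have hsq : ∀ i, 1 ≤ i → i < 6 → X i * X i = a := fun i h1 h2 => by rw [← pow_two]; exact hall i h1 h2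
    have sw : ∀ {P Q : Γ}, ⁅Q, P⁆ = a → Q * P = a * (P * Q) := fun {P Q} h => by
      rw [← h, commutatorElement_def]; group
    set w := X 1 * X 3 * X 5 with hw
    have hw2 : w * w = 1 := by
      calc w * w = X 1 * X 3 * (X 5 * X 1) * (X 3 * X 5) := by simp only [hw, mul_assoc]
        _ = X 1 * X 3 * a * (X 1 * X 5) * (X 3 * X 5) := by rw [sw hc15]; simp only [mul_assoc]
        _ = a * (X 1 * (X 3 * X 1) * (X 5 * X 3) * X 5) := by rw [haz (X 1 * X 3)]; simp only [mul_assoc]
        _ = a * (X 1 * (a * (X 1 * X 3)) * (a * (X 3 * X 5)) * X 5) := by rw [sw hc13, sw hc35]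
        _ = a * (a * a) * ((X 1 * X 1) * (X 3 * X 3) * (X 5 * X 5)) := by
            rw [← mul_assoc (X 1) a, haz (X 1),
              show a * X 1 * (X 1 * X 3) * (a * (X 3 * X 5)) * X 5 =
                a * ((X 1 * (X 1 * X 3)) * a) * ((X 3 * X 5) * X 5) by simp only [mul_assoc],
              haz (X 1 * (X 1 * X 3))]
            simp only [mul_assoc]
        _ = 1 := by
            rw [hsq 1 le_rfl (by omega), hsq 3 (by omega) (by omega), hsq 5 (by omega) (by omega), ha2, one_mul,
              mul_one, ha2]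
    have hwπ : π w ≠ 1 := by
      rw [hw, map_mul, map_mul, hX 1 (by omega), hX 3 (by omega), hX 5 (by omega)]
      decide
    refine ⟨Γ, inferInstance, inferInstance, hH, z, w, fun h => hwπ ?_, hz2,
      orderOf_eq_prime (by rw [pow_two, hw2]) (fun h => hwπ (by rw [h, map_one]))⟩
    rw [← h, ← MonoidHom.mem_ker, hker]
    exact hz

end Cfsg.Agent.S0447
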