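import Cfsg.Statements.S0459
import Cfsg.Agent.Lib.Ru4060.Simple

set_option autoImplicit false
open Cfsg

namespace Cfsg.Agent.S0459

open Cfsg.Lib.Ru4060 MulAction in
/-- The Rudvalis group exists as a transitive permutation group of degree 4060: simple of order 145926144000, with point stabiliser of order 35942400 containing a simple subgroup of order 17971200 (the order of the Tits group). -/
theorem result : ∃ H : Subgroup (Equiv.Perm (Fin 4060)), Cfsg.IsRu H ∧ MulAction.IsPretransitive H (Fin 4060) ∧ Nat.card (MulAction.stabilizer H (0 : Fin 4060)) = 35942400 ∧ ∃ T : Subgroup (MulAction.stabilizer H (0 : Fin 4060)), Cfsg.IsTits T := by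
  have h0 : bpt 0 = (0 : Fin 4060) := Fin.ext rfl
  refine ⟨grp, ⟨grp_simple, card_grp⟩, grp_trans, ?_, ?_⟩
  · rw [← h0]
    exact card_point_stab
  · let f : tits →* stabilizer grp (0 : Fin 4060) :=
      { toFun := fun x => ⟨⟨x.1, (tits_le_stab x.2).1⟩, by
          show x.1 (0 : Fin 4060) = 0
          rw [← h0]
          exact (tits_le_stab x.2).2 0 Nat.one_pos⟩
        map_one' := rfl
        map_mul' := fun _ _ => rfl }
    have hf : Function.Injective f := fun x y h =>
      Subtype.ext (congrArg (fun z => z.1.1) h)
    let e := MonoidHom.ofInjective hf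
    refine ⟨f.range, ?_, ?_⟩
    · exact e.isSimpleGroup_congr.mp tits_simple
    · rw [← Nat.card_congr e.toEquiv]
      exact card_tits

end Cfsg.Agent.S0459
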