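import Cfsg.Statements.S1682
import Cfsg.Agent.Lib.CosetEnum.Groups.HeSimple
import Cfsg.Agent.Lib.CosetEnum.HeS44.Valid
import Cfsg.Agent.Lib.CosetEnum.Restrict
import Cfsg.Agent.Lib.CosetEnum.Blocks
import Cfsg.Agent.Lib.CosetEnum.SpGeom
import Cfsg.Agent.Lib.CosetEnum.HeS44Pts.Checks
import Cfsg.Agent.Lib.CosetEnum.HeS44Pts.Bases
-- import your own Cfsg.Agent.* helpers here

set_option autoImplicit false
open Cfsg

namespace Cfsg.Agent.S1682

open Cfsg.Lib.CosetEnum Cfsg.Spor
open scoped Matrix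

set_option maxRecDepth 100000

/-- The point with a number. -/
noncomputable def pt (j : Fin 85) : SpGeom.I4 → GF4 := SpGeom.vec (HeS44Pts.tabV.getP j.1)

theorem pt_distinct (i j : Fin 85) (c : GF4) (hc : c ≠ 0) (h : c • pt i = pt j) : i = j := by
  have hi := (SpGeom.pointsOK_get HeS44Pts.points_ok i.1 (Nat.zero_le _) (by omega)).1
  have hj := (SpGeom.pointsOK_get HeS44Pts.points_ok j.1 (Nat.zero_le _) (by omega)).1 1 (by decide)
  have h1 := hi c ((show ∀ l : GF4, l ≠ 0 → l ∈ [GF4.i, GF4.w, GF4.v] by decide) c hc)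
  have e : SpGeom.smulV (1 : GF4) (SpGeom.vec (HeS44Pts.tabV.getP j.1)) =
      SpGeom.smulV c (SpGeom.vec (HeS44Pts.tabV.getP i.1)) := by
    funext k
    show (1 : GF4) * _ = c * _
    rw [one_mul]
    exact (congrFun h k).symm
  rw [e] at hj
  exact Fin.ext (h1.symm.trans hj)

/-- The linear permutations. -/
def linPerms : Set (Equiv.Perm (Fin 85)) :=
  tperm HeS44Pts.tabP 13 85 '' {g | g ∈ HeS44Pts.linear}

theorem perm_induced : ∀ σ ∈ linPerms, ∃ A, SpGeom.Maps pt A σ := by
  rintro _ ⟨g, hg, rfl⟩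
  replace hg : g ∈ HeS44Pts.linear := hg
  obtain ⟨t, ht, rfl⟩ := List.mem_iff_getElem.1 hg
  have hlen : HeS44Pts.mats.length = HeS44Pts.linear.length := by decide +kernel
  have hgk : HeS44Pts.linear[t] < 13 :=
    (show ∀ g ∈ HeS44Pts.linear, g < 13 by decide +kernel) _ (List.getElem_mem ht)
  have hm : SpGeom.matOf (HeS44Pts.mats.getD t []) * Matrix.J (Fin 2) GF4 *
      (SpGeom.matOf (HeS44Pts.mats.getD t [])).transpose = Matrix.J (Fin 2) GF4 := by
    rw [List.getD_eq_getElem _ _ (hlen ▸ ht)]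
    exact of_decide_eq_true (List.all_eq_true.1 HeS44Pts.mats_ok _ (List.getElem_mem _))
  refine ⟨⟨_, SymplecticGroup.mem_iff.2 hm⟩, fun j => ?_⟩
  obtain ⟨l, hl, he⟩ :=
    (SpGeom.pointsOK_get HeS44Pts.points_ok j.1 (Nat.zero_le _) (by omega)).2 t ht
  refine ⟨l, (show ∀ l ∈ [GF4.i, GF4.w, GF4.v], l ≠ 0 by decide) l hl, ?_⟩
  show SpGeom.matOf _ *ᵥ pt j = _
  rw [pt, SpGeom.code_injective he]
  have hi : (tperm HeS44Pts.tabP 13 85 HeS44Pts.linear[t] j).1 =
      img HeS44Pts.tabP 13 (HeS44Pts.linear.getD t 0) j.1 := by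
    rw [List.getD_eq_getElem _ _ ht]
    exact tperm_apply HeS44Pts.permP_ok hgk j
  funext k
  show l * _ = l * SpGeom.vec (HeS44Pts.tabV.getP (tperm HeS44Pts.tabP 13 85 HeS44Pts.linear[t] j).1) k
  rw [hi]

theorem baseOK_lin : BaseOK HeS44Pts.tabP 13 85
    [HeS44Pts.linLevel0, HeS44Pts.linLevel1, HeS44Pts.linLevel2, HeS44Pts.linLevel3] :=
  ⟨HeS44Pts.linNest0_ok, HeS44Pts.linOrbit0_ok, HeS44Pts.linNest1_ok, HeS44Pts.linOrbit1_ok,
    HeS44Pts.linNest2_ok, HeS44Pts.linOrbit2_ok, HeS44Pts.linNest3_ok, HeS44Pts.linOrbit3_ok,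
    trivial⟩

theorem baseOK_full : BaseOK HeS44Pts.tabP 13 85
    [HeS44Pts.fullLevel0, HeS44Pts.fullLevel1, HeS44Pts.fullLevel2, HeS44Pts.fullLevel3,
      HeS44Pts.fullLevel4] :=
  ⟨HeS44Pts.fullNest0_ok, HeS44Pts.fullOrbit0_ok, HeS44Pts.fullNest1_ok, HeS44Pts.fullOrbit1_ok,
    HeS44Pts.fullNest2_ok, HeS44Pts.fullOrbit2_ok, HeS44Pts.fullNest3_ok, HeS44Pts.fullOrbit3_ok,
    HeS44Pts.fullNest4_ok, HeS44Pts.fullOrbit4_ok, trivial⟩

theorem card_of_base {Ls : List BaseLevel} (hb : BaseOK HeS44Pts.tabP 13 85 Ls) (S : List ℕ)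
    (hS : inLetters ((Ls.head?.map BaseLevel.U).getD []) S = true) :
    baseSize Ls ≤ Nat.card (Subgroup.closure (tperm HeS44Pts.tabP 13 85 '' {g | g ∈ S})) := by
  have h := base_le (tperm HeS44Pts.tabP 13 85) (MonoidHom.id _) HeS44Pts.permP_ok (by decide)
    (fun g _ => rfl) hb
  rw [Subgroup.map_id] at h
  refine h.trans (Subgroup.card_le_of_le ((Subgroup.closure_le _).2 ?_))
  rintro _ ⟨u, hu, rfl⟩
  exact inLetters_mem _ hS u hu

/-- In the presented Held group, the subgroup H generated by the images of a, c, d, e, f, (ab)^2 and (bcde)^7 has a normal subgroup of index 2 isomorphic to the 4-dimensional symplectic group over a field with four elements. -/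
theorem result : ∃ (N : Subgroup (((Subgroup.closure ({Cfsg.Spor.He.a, Cfsg.Spor.He.c, Cfsg.Spor.He.d, Cfsg.Spor.He.e, Cfsg.Spor.He.f, (Cfsg.Spor.He.a * Cfsg.Spor.He.b) ^ 2, (Cfsg.Spor.He.b * Cfsg.Spor.He.c * Cfsg.Spor.He.d * Cfsg.Spor.He.e) ^ 7} : Set (FreeGroup Cfsg.Spor.He.Gen))).map (PresentedGroup.mk (Cfsg.Spor.coxRelators Cfsg.Spor.He.edges ∪ {r | r ∈ Cfsg.Spor.He.extra}))))) (K : Type) (_ : Field K) (_ : Fintype K), N.Normal ∧ N.index = 2 ∧ Fintype.card K = 4 ∧ Nonempty (N ≃* Matrix.symplecticGroup (Fin 2) K) := by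
  let N := HePres.numbering
  let x : ℕ → Cfsg.Spor.He := N.gens He.extra
  have hx : ∀ g, x g * x g = 1 := N.gens_mul_self He.extra
  have hk : N.k ≤ eps := by decide
  have hgen := N.closure_gens He.extra
  have hR : HeS44.cert.R0 = N.pairs ++ HePres.extra := by decide +kernel
  have hrel : ∀ r ∈ HeS44.cert.R0, wordVal x r = 1 := fun r hr =>
    N.wordVal_gens hk (HePres.map_extra x hx) r (hR ▸ hr)
  obtain ⟨f, hf⟩ := N.exists_hom hk He.extra HeS44.cert_valid hR rfl
    (HePres.map_extra _ fun g => tperm_mul_self _ _ _ g)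
  have hK := N.map_closure He.extra
    (Us := [He.a, He.c, He.d, He.e, He.f, (He.a * He.b) ^ 2, (He.b * He.c * He.d * He.e) ^ 7])
    (U := HeS44.subWords)
    (by simp [HeS44.subWords, wordVal, gen, eps, N, HePres.numbering, HePres.num, pow_succ, mul_assoc])
    (s := {He.a, He.c, He.d, He.e, He.f, (He.a * He.b) ^ 2, (He.b * He.c * He.d * He.e) ^ 7})
    (by ext w; simp)
  obtain ⟨hidx, Φ, hΦ, heq, h0⟩ := HeS44.cert_valid.index_eq hx hgen hrel f hf hK
  replace hidx : _ = 2058 := hidx
  have : IsSimpleGroup Cfsg.Spor.He := HePres.isHe.1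
  have hcardG : Nat.card Cfsg.Spor.He = 4030387200 := HePres.isHe.2
  have : Finite Cfsg.Spor.He := Nat.finite_of_card_ne_zero (by rw [hcardG]; decide)
  have hinj : Function.Injective f := by
    rw [← MonoidHom.ker_eq_bot_iff]
    refine (f.normal_ker.eq_bot_or_eq_top).resolve_right fun h => ?_
    have h1 : f (x 1) = 1 := f.mem_ker.1 (h ▸ Subgroup.mem_top _)
    rw [show f (x 1) = tperm HeS44.cert.step.P HeS44.cert.step.k HeS44.cert.step.n 1 from
      hf 1 (by decide)] at h1
    have h2 := congrArg Fin.val (congrArg (fun σ : Equiv.Perm _ => σ (⟨0, by decide⟩ : Fin HeS44.cert.step.n)) h1)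
    rw [tperm_apply HeS44.cert_valid.perm (by decide)] at h2
    exact absurd h2 (show img HeS44.tabP 7 1 0 ≠ 0 by decide +kernel)
  set H := (Subgroup.closure _).map (PresentedGroup.mk _) with hH
  -- the involution words generate the same subgroup
  have hcube : wordVal x (HeS44Pts.cubeWord.map fun g => HeS44Pts.invWords.getD g []).flatten =
      wordVal x (HeS44.subWords.getD 6 []) := by
    apply hinj
    ext p
    rw [map_wordVal_tperm x f (k := HeS44.cert.step.k) (by decide) hf (by decide +kernel),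
      map_wordVal_tperm x f (k := HeS44.cert.step.k) (by decide) hf (by decide +kernel),
      wordVal_tperm HeS44.cert_valid.perm (by decide) _ (by decide +kernel),
      wordVal_tperm HeS44.cert_valid.perm (by decide) _ (by decide +kernel)]
    exact Nat.eq_of_beq_eq_true (List.all_eq_true.1 HeS44Pts.cube_ok p.1 (List.mem_range.2 p.2))
  have hinvlen : HeS44Pts.invWords.length = 7 := by decide +kernel
  have hflat : ∀ (l : List ℕ) (L : List (List ℕ)) (A : Subgroup Cfsg.Spor.He),
      (∀ g ∈ l, wordVal x (L.getD g []) ∈ A) →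
        wordVal x (l.map fun g => L.getD g []).flatten ∈ A := by
    intro l L A
    induction l with
    | nil => intro _; exact one_mem _
    | cons a l ih =>
      intro h
      rw [List.map_cons, List.flatten_cons, wordVal_append]
      exact mul_mem (ih fun b hb => h b (by simp [hb])) (h a (by simp))
  have hK2 : H = Subgroup.closure (wordVal x '' {u | u ∈ HeS44Pts.invWords}) := by
    rw [hK]
    refine le_antisymm ((Subgroup.closure_le _).2 ?_) ((Subgroup.closure_le _).2 ?_)
    · rintro _ ⟨u, hu, rfl⟩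
      rcases (show ∀ u ∈ HeS44.subWords, u ∈ HeS44Pts.invWords ∨ u = HeS44.subWords.getD 6 [] by
        decide +kernel) u hu with h | h
      · exact Subgroup.subset_closure ⟨u, h, rfl⟩
      · rw [h, SetLike.mem_coe, ← hcube]
        refine hflat _ _ _ fun g hg => ?_
        have hg7 : g < HeS44Pts.invWords.length :=
          (show ∀ g ∈ HeS44Pts.cubeWord, g < HeS44Pts.invWords.length by decide +kernel) g hg
        rw [List.getD_eq_getElem _ _ hg7]
        exact Subgroup.subset_closure ⟨_, List.getElem_mem hg7, rfl⟩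
    · rintro _ ⟨u, hu, rfl⟩
      rcases (show ∀ u ∈ HeS44Pts.invWords, u ∈ HeS44.subWords ∨
          u = (HeS44.subWords.getD 6 []).reverse ++ [0] ++ HeS44.subWords.getD 6 [] by
        decide +kernel) u hu with h | h
      · exact Subgroup.subset_closure ⟨u, h, rfl⟩
      · have hm6 : wordVal x (HeS44.subWords.getD 6 []) ∈
            Subgroup.closure (wordVal x '' {u | u ∈ HeS44.subWords}) :=
          Subgroup.subset_closure ⟨_, (show HeS44.subWords.getD 6 [] ∈ HeS44.subWords by decide +kernel), rfl⟩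
        have hm0 : wordVal x [0] ∈ Subgroup.closure (wordVal x '' {u | u ∈ HeS44.subWords}) :=
          Subgroup.subset_closure ⟨_, (show [0] ∈ HeS44.subWords by decide +kernel), rfl⟩
        have hrev : wordVal x (HeS44.subWords.getD 6 []).reverse =
            (wordVal x (HeS44.subWords.getD 6 []))⁻¹ := by
          generalize HeS44.subWords.getD 6 [] = w
          induction w with
          | nil => simp [wordVal]
          | cons a w ih =>
            rw [List.reverse_cons, wordVal_append, ih]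
            have hga : ∀ a, gen x a = (gen x a)⁻¹ := fun a => by
              unfold gen
              split
              · simp
              · exact (inv_eq_of_mul_eq_one_left (hx a)).symm
            simp only [wordVal, one_mul, mul_inv_rev]
            rw [← hga a]
        rw [h, SetLike.mem_coe, wordVal_append, wordVal_append, hrev]
        exact mul_mem hm6 (mul_mem hm0 (inv_mem hm6))
  obtain ⟨ρ, hρgen, hρrange, -⟩ := exists_restrict (k' := 7) x f (k := 7) HeS44.cert_valid.perm
    (by decide) hf HeS44Pts.bigOrbit_ok HeS44Pts.permQ_ok HeS44Pts.restrict_ok hinvlen hK2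
  have hmem : ∀ g, wordVal x (HeS44Pts.invWords.getD g []) ∈ H := fun g => by
    rw [hK2]
    rcases Nat.lt_or_ge g HeS44Pts.invWords.length with h | h
    · rw [List.getD_eq_getElem _ _ h]
      exact Subgroup.subset_closure ⟨_, List.getElem_mem h, rfl⟩
    · rw [List.getD_eq_default _ _ h]
      exact one_mem _
  let y : ℕ → H := fun g => ⟨_, hmem g⟩
  have hygen : Subgroup.closure (y '' {g | g < 7}) = ⊤ := by
    apply Subgroup.map_injective H.subtype_injective
    rw [MonoidHom.map_closure, ← MonoidHom.range_eq_map, Subgroup.range_subtype, ← Set.image_comp]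
    refine Eq.trans ?_ hK2.symm
    congr 1
    ext w
    constructor
    · rintro ⟨g, hg, rfl⟩
      refine ⟨HeS44Pts.invWords.getD g [], ?_, rfl⟩
      show _ ∈ HeS44Pts.invWords
      rw [List.getD_eq_getElem _ _ (hinvlen ▸ hg)]
      exact List.getElem_mem _
    · rintro ⟨u, hu, rfl⟩
      obtain ⟨g, hg, rfl⟩ := List.mem_iff_getElem.1 hu
      refine ⟨g, hinvlen ▸ hg, ?_⟩
      show wordVal x (HeS44Pts.invWords.getD g []) = _
      rw [List.getD_eq_getElem _ _ hg]
  have hB := fun j (hj : j < 425) => List.all_eq_true.1 HeS44Pts.blocks_ok j (List.mem_range.2 hj)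
  simp only [Bool.and_eq_true, Nat.blt_eq, List.all_eq_true, List.mem_range, Nat.beq_eq] at hB
  let b : Fin 425 → Fin 85 := fun j => ⟨HeS44Pts.tabB.getP j.1, (hB j.1 j.2).1⟩
  have hb : Function.Surjective b := by
    intro p
    have := List.all_eq_true.1 HeS44Pts.section_ok p.1 (List.mem_range.2 p.2)
    simp only [Bool.and_eq_true, Nat.blt_eq, Nat.beq_eq] at this
    exact ⟨⟨_, this.1⟩, Fin.ext this.2⟩
  have hbgen : ∀ g < 7, ∀ j, b (ρ (y g) j) = tperm HeS44Pts.tabP 13 85 g (b j) := by
    intro g hg j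
    rw [hρgen g hg (hmem g)]
    refine Fin.ext ?_
    rw [tperm_apply HeS44Pts.permP_ok (by omega)]
    show HeS44Pts.tabB.getP (tperm HeS44Pts.tabQ 7 425 g j).1 = _
    rw [tperm_apply HeS44Pts.permQ_ok hg]
    exact (hB j.1 j.2).2 g hg
  obtain ⟨π, hπ⟩ := exists_block_action ρ b hb hygen (by
    rintro _ ⟨g, hg, rfl⟩
    exact ⟨_, hbgen g hg⟩)
  have hπgen : ∀ g < 7, π (y g) = tperm HeS44Pts.tabP 13 85 g := fun g hg => Equiv.ext fun p => by
    obtain ⟨j, rfl⟩ := hb p
    rw [← hπ, hbgen g hg]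
  have hπall : ∀ g ∈ List.range 7, tperm HeS44Pts.tabP 13 85 g ∈ π.range := fun g hg =>
    ⟨y g, hπgen g (List.mem_range.1 hg)⟩
  have hcardH : Nat.card H = 1958400 := by
    have := Subgroup.card_mul_index H
    rw [hidx, hcardG] at this
    omega
  have hπinj : Function.Injective π := by
    have h1 := card_of_base baseOK_full (List.range 7) (by decide +kernel)
    have h2 : Subgroup.closure (tperm HeS44Pts.tabP 13 85 '' {g | g ∈ List.range 7}) ≤ π.range := by
      rw [Subgroup.closure_le]
      rintro _ ⟨g, hg, rfl⟩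
      exact hπall g hg
    have h3 : 1958400 ≤ Nat.card π.range :=
      le_trans (le_trans (by decide +kernel) h1) (Subgroup.card_le_of_le h2)
    have h4 := π.rangeRestrict_surjective.bijective_of_nat_card_le (by rw [hcardH]; exact h3)
    intro a c h
    exact h4.1 (Subtype.ext h)
  obtain ⟨hM, ⟨e⟩⟩ := SpGeom.equiv_sp pt_distinct perm_induced
    (le_trans (by decide +kernel) (card_of_base baseOK_lin HeS44Pts.linear (by decide +kernel)))
  have hMr : Subgroup.closure linPerms ≤ π.range := by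
    rw [Subgroup.closure_le]
    rintro _ ⟨g, hg, rfl⟩
    rcases Nat.lt_or_ge g 7 with h7 | h7
    · exact hπall g (List.mem_range.2 h7)
    · obtain ⟨t, ht, rfl⟩ : ∃ t < 6, 7 + t = g :=
        ⟨g - 7, by have := (show ∀ g ∈ HeS44Pts.linear, g < 13 by decide +kernel) g hg; omega, by omega⟩
      have hw : ∀ a ∈ HeS44Pts.extraWords.getD t [], a < 7 :=
        (show ∀ t < 6, ∀ a ∈ HeS44Pts.extraWords.getD t [], a < 7 by decide +kernel) t ht
      have he : tperm HeS44Pts.tabP 13 85 (7 + t) =
          wordVal (tperm HeS44Pts.tabP 13 85) (HeS44Pts.extraWords.getD t []) := by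
        ext p
        rw [tperm_apply HeS44Pts.permP_ok (by omega), wordVal_tperm HeS44Pts.permP_ok (by decide) _
          (fun a ha => by have := hw a ha; omega)]
        have := List.all_eq_true.1 HeS44Pts.extra_ok p.1 (List.mem_range.2 p.2)
        simp only [List.all_eq_true, List.mem_range, Nat.beq_eq] at this
        exact (this t ht).symm
      rw [SetLike.mem_coe, he]
      refine (Subgroup.closure_le _).2 ?_ (wordVal_mem _ (S := List.range 7) fun a ha =>
        ⟨List.mem_range.2 (hw a ha), by have := hw a ha; simp only [eps]; omega⟩)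
      rintro _ ⟨a, ha, rfl⟩
      exact hπall a ha
  let K0 : Subgroup H := (Subgroup.closure linPerms).comap π
  have hmap : K0.map π = Subgroup.closure linPerms := Subgroup.map_comap_eq_self hMr
  let e1 : K0 ≃* Subgroup.closure linPerms :=
    (K0.equivMapOfInjective π hπinj).trans (MulEquiv.subgroupCongr hmap)
  have hK0 : Nat.card K0 = 979200 := (Nat.card_congr e1.toEquiv).trans hM
  have hidx0 : K0.index = 2 := by
    have := Subgroup.card_mul_index K0
    rw [hK0, hcardH] at this
    omega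
  exact ⟨K0, GF4, inferInstance, inferInstance, Subgroup.normal_of_index_eq_two hidx0, hidx0,
    GF4.card_eq, ⟨e1.trans e⟩⟩

end Cfsg.Agent.S1682
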