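import Cfsg.Statements.S0471
import Cfsg.Agent.S1684
import Cfsg.Agent.S1687
import Cfsg.Agent.Lib.CosetEnum.ThreeTrans
import Cfsg.Agent.Lib.CosetEnum.Fi22Trans.Comm
-- import your own Cfsg.Agent.* helpers here

set_option autoImplicit false
open Cfsg

namespace Cfsg.Agent.S0471

open Cfsg.Lib.CosetEnum Cfsg.Spor

set_option maxRecDepth 100000

/-- The Fischer group of order 64561751654400 exists as a 3-transposition group: a simple group of that order generated by a conjugacy class of 3510 3-transpositions, the centraliser of each being a non-split double cover of PSU(6, 2). -/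
theorem result : ∃ (G : Type) (_ : Group G) (_ : Finite G), Cfsg.IsFi22 G ∧ ∃ D : Set G, Cfsg.IsThreeTranspositionClass D ∧ Nat.card D = 3510 ∧ ∀ d ∈ D, ∃ (F : Type) (_ : Field F) (_ : Fintype F), Fintype.card F = 4 ∧ Cfsg.IsNonsplitDoubleCover (Subgroup.centralizer ({d} : Set G)) (Cfsg.PSU 6 F 2) := by
  let N := Fi22Pres.numbering
  let x : ℕ → Cfsg.Spor.Fi22 := N.gens Fi22.extra
  have hx : ∀ g, x g * x g = 1 := N.gens_mul_self Fi22.extra
  have hk : N.k ≤ eps := by decide
  have hR : Fi22U62.cert.R0 = N.pairs ++ Fi22Pres.extra := by decide +kernel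
  have hrel : ∀ r ∈ Fi22U62.cert.R0, wordVal x r = 1 := fun r hr =>
    N.wordVal_gens hk (Fi22Pres.map_extra x hx) r (hR ▸ hr)
  obtain ⟨f, hf⟩ := N.exists_hom hk Fi22.extra Fi22U62.cert_valid hR rfl
    (Fi22Pres.map_extra _ fun g => tperm_mul_self _ _ _ g)
  have hK := N.map_closure Fi22.extra (Us := [Fi22.a, Fi22.c, Fi22.d, Fi22.e, Fi22.f, Fi22.g, Fi22.h, Fi22.i,
      (Fi22.a * Fi22.b * Fi22.c * Fi22.d * Fi22.e * Fi22.h) ^ 5])
    (U := Fi22U62.subWords)
    (by simp [Fi22U62.subWords, wordVal, gen, eps, N, Fi22Pres.numbering, Fi22Pres.num, pow_succ, mul_assoc])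
    (s := {Fi22.a, Fi22.c, Fi22.d, Fi22.e, Fi22.f, Fi22.g, Fi22.h, Fi22.i,
      (Fi22.a * Fi22.b * Fi22.c * Fi22.d * Fi22.e * Fi22.h) ^ 5})
    (by ext w; simp)
  obtain ⟨F, hF1, hF2, hF4, hcover⟩ := Cfsg.Agent.S1684.result
  obtain ⟨hidx, q₁, q₂, hq₁, hq₂⟩ := Cfsg.Agent.S1687.result
  have hFi : Cfsg.IsFi22 Cfsg.Spor.Fi22 := Fi22Pres.isFi22
  have hsimple : IsSimpleGroup Cfsg.Spor.Fi22 := hFi.1
  have hfin : Finite Cfsg.Spor.Fi22 := Nat.finite_of_card_ne_zero (by rw [hFi.2]; decide)
  have hperm := Fi22U62.cert_valid.perm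
  -- a generator moves a point, so the action is faithful
  have hval : ∀ g < 9, ∀ i : Fin 3510, (f (x g) i).1 = img Fi22U62.tabP 9 g i.1 := fun g hg i => by
    rw [show f (x g) = tperm Fi22U62.cert.step.P Fi22U62.cert.step.k Fi22U62.cert.step.n g from
      hf g hg]
    exact tperm_apply hperm hg i
  have hinj : Function.Injective f := by
    rw [← MonoidHom.ker_eq_bot_iff]
    refine (f.normal_ker.eq_bot_or_eq_top).resolve_right fun h => ?_
    have h1 : f (x 1) = 1 := f.mem_ker.1 (h ▸ Subgroup.mem_top _)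
    have h2 := hval 1 (by decide) ⟨0, by decide⟩
    rw [h1] at h2
    exact absurd h2.symm (show img Fi22U62.tabP 9 1 0 ≠ 0 by decide +kernel)
  have hdist : ∀ g < 3, g ≠ 0 → x g ≠ x 0 := by
    intro g hg hg0 he
    obtain ⟨p, hp, hne⟩ : ∃ p < 3510, img Fi22U62.tabP 9 g p ≠ img Fi22U62.tabP 9 0 p := by
      interval_cases g
      · exact absurd rfl hg0
      · exact ⟨0, by decide, by decide +kernel⟩
      · exact ⟨1, by decide, by decide +kernel⟩
    refine hne ?_
    rw [← hval g (by omega) ⟨p, hp⟩, ← hval 0 (by decide) ⟨p, hp⟩, he]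
  set H := (Subgroup.closure _).map (PresentedGroup.mk _) with hH
  have hd1 : x 0 ≠ 1 := fun h => by
    have h1 : (x 0 * x 1) ^ 3 = 1 := by
      have hr : (List.replicate 3 [1, 0]).flatten ∈ Fi22U62.cert.R0 := by decide +kernel
      have := hrel _ hr
      rwa [wordVal_replicate x _ _ (by decide) (by decide)] at this
    rw [h, one_mul, pow_succ, pow_two, hx, one_mul] at h1
    exact hdist 1 (by decide) (by decide) (h1.trans h.symm)
  have hcomm : ∀ k ∈ H, k * x 0 = x 0 * k := by
    intro k hk'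
    rw [hK] at hk'
    refine Subgroup.mem_centralizer_singleton_iff.1 ((Subgroup.closure_le
      (K := Subgroup.centralizer ({x 0} : Set Cfsg.Spor.Fi22))).2 ?_ hk')
    rintro _ ⟨u, hu, rfl⟩
    rw [SetLike.mem_coe, Subgroup.mem_centralizer_singleton_iff]
    simp only [Fi22U62.subWords, Set.mem_ofPred_eq, List.mem_cons, List.not_mem_nil, or_false] at hu
    have hshort : ∀ g, g < 9 → g ≠ 1 → g ≠ 0 → wordVal x [g] * x 0 = x 0 * wordVal x [g] := by
      intro g hg hg1 hg0
      have hr : (List.replicate 2 [g, 0]).flatten ∈ Fi22U62.cert.R0 := by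
        interval_cases g
        all_goals first | omega | decide +kernel
      have h2 := hrel _ hr
      rw [wordVal_replicate x _ _ (by decide) (by simp only [eps]; omega)] at h2
      have e : ∀ a, wordVal x [a] = gen x a := fun a => one_mul _
      rw [e, gen, if_neg (by simp only [eps]; omega)]
      calc x g * x 0 = (x 0 * x g)⁻¹ := by
            rw [mul_inv_rev, inv_eq_of_mul_eq_one_left (hx g), inv_eq_of_mul_eq_one_left (hx 0)]
        _ = x 0 * x g := by rw [inv_eq_iff_mul_eq_one, ← pow_two, h2]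
    rcases hu with rfl | rfl | rfl | rfl | rfl | rfl | rfl | rfl | rfl
    · simp [wordVal, gen, eps, x]
    · exact hshort 2 (by decide) (by decide) (by decide)
    · exact hshort 3 (by decide) (by decide) (by decide)
    · exact hshort 4 (by decide) (by decide) (by decide)
    · exact hshort 5 (by decide) (by decide) (by decide)
    · exact hshort 6 (by decide) (by decide) (by decide)
    · exact hshort 7 (by decide) (by decide) (by decide)
    · exact hshort 8 (by decide) (by decide) (by decide)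
    have h1 : f (wordVal x Fi22Trans.commWord) = f 1 := by
      rw [map_one, map_wordVal_tperm x f (k := 9) (by decide) hf (by decide +kernel)]
      exact wordVal_tperm_eq_one Fi22Trans.comm_ok (by decide) (List.mem_singleton_self _)
    replace h1 := hinj h1
    set w : List ℕ := [7, 4, 3, 2, 1, 0, 7, 4, 3, 2, 1, 0, 7, 4, 3, 2, 1, 0, 7, 4, 3, 2, 1, 0, 7, 4, 3, 2, 1, 0]
    rw [show Fi22Trans.commWord = [0] ++ w ++ [0] ++ w.reverse by decide +kernel] at h1
    rw [wordVal_append, wordVal_append, wordVal_append, wordVal_reverse hx] at h1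
    simp only [wordVal, gen, eps, one_mul] at h1
    have h3 : x 0 * (wordVal x w * x 0) = wordVal x w := eq_of_inv_mul_eq_one h1 |>.symm
    calc wordVal x w * x 0 = x 0 * x 0 * (wordVal x w * x 0) := by rw [hx, one_mul]
      _ = x 0 * wordVal x w := by rw [mul_assoc, h3]
  have hna : ¬ ∀ a b : Cfsg.Spor.Fi22, a * b = b * a := fun h => by
    let : CommGroup Cfsg.Spor.Fi22 := { (inferInstance : Group Cfsg.Spor.Fi22) with mul_comm := h }
    have := IsSimpleGroup.prime_card (α := Cfsg.Spor.Fi22)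
    rw [hFi.2] at this
    exact Nat.not_prime_mul (a := 2) (b := 32280875827200) (by decide) (by decide) this
  have hC := centralizer_eq (d := x 0) (K := H) hd1 hna hcomm hq₁ hq₂ (by decide) (by decide)
    (by decide) (by rw [hidx]) (by rw [hidx]; decide) (by rw [hidx]; decide)
  have hbraid : ∀ p ∈ [(0, 1), (1, 2)], (x p.1 * x p.2) ^ 3 = 1 ∧ IsConj (x p.1) (x p.2) := by
    intro p hp
    have hw : (List.replicate 3 [p.2, p.1]).flatten ∈ Fi22U62.cert.R0 ∧ p.1 ≠ eps ∧ p.2 ≠ eps := by
      revert p; decide +kernel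
    have h1 := hrel _ hw.1
    rw [wordVal_replicate x _ _ hw.2.1 hw.2.2] at h1
    refine ⟨h1, isConj_iff.2 ⟨x p.1 * x p.2, ?_⟩⟩
    rw [mul_inv_eq_iff_eq_mul]
    have : x p.1 * x p.2 * x p.1 = x p.2 * (x p.1 * x p.2) := by
      calc x p.1 * x p.2 * x p.1
          = (x p.1 * x p.2) ^ 3 * ((x p.1 * x p.2)⁻¹ * (x p.1 * x p.2)⁻¹ * x p.1) := by rw [pow_succ, pow_two]; group
        _ = x p.2 * (x p.1 * x p.2) := by
          rw [h1, one_mul, mul_inv_rev, inv_eq_of_mul_eq_one_left (hx p.1),
            inv_eq_of_mul_eq_one_left (hx p.2)]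
          simp only [mul_assoc, hx, mul_one]
    exact this
  obtain ⟨h01, c01⟩ := hbraid (0, 1) (by simp)
  obtain ⟨-, c12⟩ := hbraid (1, 2) (by simp)
  have h02 : (x 0 * x 2) ^ 2 = 1 := by
    have hr : (List.replicate 2 [2, 0]).flatten ∈ Fi22U62.cert.R0 := by decide +kernel
    have := hrel _ hr
    rwa [wordVal_replicate x _ _ (by decide) (by decide)] at this
  obtain ⟨hclass, hcardD, hcent⟩ := isThreeTranspositionClass_of_rank_three (d := x 0) (K := H) hd1
    (hx 0) hC hq₁ hq₂ (by decide) (by decide) (by decide) (by rw [hidx]) c01 (c01.trans c12)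
    (hdist 1 (by decide) (by decide)) (hdist 2 (by decide) (by decide)) h01 h02
  refine ⟨Cfsg.Spor.Fi22, inferInstance, hfin, hFi, conjugatesOf (x 0), hclass,
    hcardD.trans hidx, fun d hd => ⟨F, hF1, hF2, hF4, ?_⟩⟩
  obtain ⟨e⟩ := hcent d hd
  exact isNonsplitDoubleCover_congr e hcover

end Cfsg.Agent.S0471
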