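import Cfsg.Statements.S1688
import Cfsg.Agent.Lib.CosetEnum.Groups.Fi23Simple
import Cfsg.Agent.Lib.CosetEnum.Groups.Fi22Simple
import Cfsg.Agent.Lib.CosetEnum.Central
import Cfsg.Agent.Lib.CosetEnum.Fi23Centre.Valid
-- import your own Cfsg.Agent.* helpers here

set_option autoImplicit false
open Cfsg

namespace Cfsg.Agent.S1688

open Cfsg.Lib.CosetEnum Cfsg.Spor

set_option maxRecDepth 100000

/-- A generator of Fi22 as a generator of Fi23. -/
def sig (g : ℕ) : ℕ := Fi23Centre.letters.getD g eps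

theorem sig_cover : (List.range 9).all (fun g => Fi23Centre.letters.contains (sig g)) = true := by
  decide +kernel

theorem relators_map : ((Fi22Pres.numbering.pairs ++ Fi22Pres.extra).all fun r =>
    r.all (fun g => Nat.blt g 9) &&
      ((Fi23Pres.numbering.pairs ++ Fi23Pres.extra).contains (r.map sig) ||
        decide (r.map sig = Fi23Centre.centreWord))) = true := by
  decide +kernel

theorem card_fi22 : Nat.card Cfsg.Spor.Fi22 = 64561751654400 := Fi22Pres.isFi22.2

theorem center_fi22 : Subgroup.center Cfsg.Spor.Fi22 = ⊥ := by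
  have : IsSimpleGroup Cfsg.Spor.Fi22 := Fi22Pres.isFi22.1
  have : Finite Cfsg.Spor.Fi22 := Nat.finite_of_card_ne_zero (by rw [card_fi22]; decide)
  refine ((Subgroup.center Cfsg.Spor.Fi22).normal_of_characteristic.eq_bot_or_eq_top).resolve_right
    fun h => ?_
  let : CommGroup Cfsg.Spor.Fi22 := Group.commGroupOfCenterEqTop h
  have := IsSimpleGroup.prime_card (α := Cfsg.Spor.Fi22)
  rw [card_fi22] at this
  exact Nat.not_prime_mul (a := 2) (b := 32280875827200) (by decide) (by decide) this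

/-- A group with a central involution whose quotient is Fi22, presented by lifting the generators,
is a non-split double cover once an odd relation holds among conjugate generators. -/
theorem double_cover {H : Type*} [Group H] [Finite H] (u : ℕ → H) (z : H)
    (hcard : Nat.card H = 129123503308800) (hz1 : z ≠ 1) (hz2 : z * z = 1)
    (hcomm : ∀ h, h * z = z * h) (hu : ∀ g, u g * u g = 1) (hgen : Subgroup.closure (u '' {g | g < 9}) = ⊤)
    (hrel : ∀ r ∈ Fi22Pres.numbering.pairs ++ Fi22Pres.extra,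
      wordVal u r = 1 ∨ wordVal u r = z)
    (hadj : ∀ p ∈ [(0, 1), (1, 2), (2, 3), (3, 4), (4, 5), (5, 6), (3, 7), (7, 8)],
      (u p.1 * u p.2) ^ 3 = 1)
    (hodd : ∃ r : List ℕ, (∀ g ∈ r, g < 9) ∧ Odd r.length ∧ wordVal u r = 1) :
    Cfsg.IsNonsplitDoubleCover H Cfsg.Spor.Fi22 := by
  set Z := Subgroup.zpowers z with hZ
  have hZc : Z ≤ Subgroup.center H := by
    rw [hZ, Subgroup.zpowers_le]
    exact Subgroup.mem_center_iff.2 hcomm
  have : Z.Normal := ⟨fun a ha g => by
    rw [Subgroup.mem_center_iff.1 (hZc ha) g]; simpa using ha⟩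
  have hZcard : Nat.card Z = 2 := by
    rw [hZ, Nat.card_zpowers]
    exact orderOf_eq_prime (by rw [pow_two, hz2]) hz1
  have hq : Nat.card (H ⧸ Z) = 64561751654400 := by
    have := Subgroup.card_eq_card_quotient_mul_card_subgroup Z
    rw [hcard, hZcard] at this
    omega
  let N := Fi22Pres.numbering
  have hk : N.k ≤ eps := by decide
  let y : ℕ → H ⧸ Z := fun g => QuotientGroup.mk' Z (u g)
  have hy : ∀ g, y g * y g = 1 := fun g => by
    show QuotientGroup.mk' Z (u g) * QuotientGroup.mk' Z (u g) = 1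
    rw [← map_mul, hu, map_one]
  have hyrel : ∀ r ∈ N.pairs ++ Fi22Pres.extra, wordVal y r = 1 := by
    intro r hr
    rw [show wordVal y r = QuotientGroup.mk' Z (wordVal u r) from (map_wordVal _ _ _).symm]
    rcases hrel r hr with h | h
    · rw [h, map_one]
    · rw [h, QuotientGroup.mk'_apply, QuotientGroup.eq_one_iff]
      exact Subgroup.mem_zpowers z
  let φ : Cfsg.Spor.Fi22 →* H ⧸ Z :=
    PresentedGroup.toGroup (N.lift_eq_one hk y (Fi22Pres.map_extra y hy) hyrel)
  have hφ : ∀ a, φ (PresentedGroup.of a) = y (N.num a) := fun a => PresentedGroup.toGroup.of _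
  have hsurj : Function.Surjective φ := by
    rw [← MonoidHom.range_eq_top, ← top_le_iff,
      ← Subgroup.map_top_of_surjective _ (QuotientGroup.mk'_surjective Z), ← hgen,
      MonoidHom.map_closure, Subgroup.closure_le]
    rintro _ ⟨_, ⟨g, hg, rfl⟩, rfl⟩
    exact ⟨PresentedGroup.of (N.letter g), by rw [hφ, N.num_letter g hg]⟩
  have : Finite Cfsg.Spor.Fi22 := Nat.finite_of_card_ne_zero (by rw [card_fi22]; decide)
  let e : Cfsg.Spor.Fi22 ≃* H ⧸ Z := MulEquiv.ofBijective φ
    (hsurj.bijective_of_nat_card_le (by rw [card_fi22, hq]))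
  have hcen : Subgroup.center H = Z := by
    refine le_antisymm (fun c hc => ?_) hZc
    have h1 : e.symm (QuotientGroup.mk' Z c) ∈ Subgroup.center Cfsg.Spor.Fi22 := by
      rw [Subgroup.mem_center_iff]
      intro a
      obtain ⟨b, hb⟩ := QuotientGroup.mk'_surjective Z (e a)
      apply e.injective
      rw [map_mul, map_mul, MulEquiv.apply_symm_apply, ← hb, ← map_mul, ← map_mul,
        Subgroup.mem_center_iff.1 hc b]
    rw [center_fi22, Subgroup.mem_bot, ← map_one e.symm, e.symm.injective.eq_iff,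
      QuotientGroup.mk'_apply, QuotientGroup.eq_one_iff] at h1
    exact h1
  refine ⟨by rw [hcen, hZcard], ⟨(QuotientGroup.quotientMulEquivOfEq hcen).trans e.symm⟩, ?_⟩
  intro L hL
  have hidx : L.index = 2 := by rw [hL.index_eq_card, hcen, hZcard]
  have hb : ∀ p ∈ [(0, 1), (1, 2), (2, 3), (3, 4), (4, 5), (5, 6), (3, 7), (7, 8)],
      (u p.1 ∈ L ↔ u p.2 ∈ L) := fun p hp => mem_iff_of_braid hidx (hadj p hp)
  simp only [List.mem_cons, List.not_mem_nil, or_false, forall_eq_or_imp, forall_eq] at hb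
  obtain ⟨b1, b2, b3, b4, b5, b6, b7, b8⟩ := hb
  have hall : ∀ g < 9, (u g ∈ L ↔ u 0 ∈ L) := by
    intro g hg
    interval_cases g
    exacts [Iff.rfl, b1.symm, (b1.trans b2).symm, ((b1.trans b2).trans b3).symm,
      (((b1.trans b2).trans b3).trans b4).symm, ((((b1.trans b2).trans b3).trans b4).trans b5).symm,
      (((((b1.trans b2).trans b3).trans b4).trans b5).trans b6).symm,
      (((b1.trans b2).trans b3).trans b7).symm, ((((b1.trans b2).trans b3).trans b7).trans b8).symm]
  by_cases h0 : u 0 ∈ L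
  · have : L = ⊤ := top_le_iff.1 <| hgen ▸ by
      rw [Subgroup.closure_le]
      rintro _ ⟨g, hg, rfl⟩
      exact (hall g hg).2 h0
    rw [this, Subgroup.index_top] at hidx
    omega
  · obtain ⟨r, hr, hlen, h1⟩ := hodd
    have hmem := (wordVal_mem_iff_even hidx u (w := r) fun g hg => by
      have := hr g hg
      exact ⟨by simp only [eps]; omega, fun h => h0 ((hall g this).1 h)⟩).1 (h1 ▸ one_mem L)
    exact Nat.not_even_iff_odd.2 hlen hmem

/-- In the presented Fischer group Fi₂₃, the subgroup generated by the images of a, …, i is a non-split double cover of the presented Fischer group Fi₂₂. -/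
theorem result : Cfsg.IsNonsplitDoubleCover (((Subgroup.closure ({Cfsg.Spor.Fi23.a, Cfsg.Spor.Fi23.b, Cfsg.Spor.Fi23.c, Cfsg.Spor.Fi23.d, Cfsg.Spor.Fi23.e, Cfsg.Spor.Fi23.f, Cfsg.Spor.Fi23.g, Cfsg.Spor.Fi23.h, Cfsg.Spor.Fi23.i} : Set (FreeGroup Cfsg.Spor.Fi23.Gen))).map (PresentedGroup.mk (Cfsg.Spor.coxRelators Cfsg.Spor.Fi23.edges ∪ {r | r ∈ Cfsg.Spor.Fi23.extra})))) Cfsg.Spor.Fi22 := by
  let N := Fi23Pres.numbering
  let x : ℕ → Cfsg.Spor.Fi23 := N.gens Fi23.extra
  have hx : ∀ g, x g * x g = 1 := N.gens_mul_self Fi23.extra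
  have hk : N.k ≤ eps := by decide
  have hR : Fi23Fi22.cert.R0 = N.pairs ++ Fi23Pres.extra := by decide +kernel
  have hrel : ∀ r ∈ Fi23Fi22.cert.R0, wordVal x r = 1 := fun r hr =>
    N.wordVal_gens hk (Fi23Pres.map_extra x hx) r (hR ▸ hr)
  obtain ⟨f, hf⟩ := N.exists_hom hk Fi23.extra Fi23Fi22.cert_valid hR rfl
    (Fi23Pres.map_extra _ fun g => tperm_mul_self _ _ _ g)
  have hgen := N.closure_gens Fi23.extra
  have hK := N.map_closure Fi23.extra (Us := [Fi23.a, Fi23.b, Fi23.c, Fi23.d, Fi23.e, Fi23.f, Fi23.g, Fi23.h, Fi23.i])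
    (U := Fi23Fi22.subWords)
    (by simp [Fi23Fi22.subWords, wordVal, gen, eps, N, Fi23Pres.numbering, Fi23Pres.num, pow_succ, mul_assoc])
    (s := {Fi23.a, Fi23.b, Fi23.c, Fi23.d, Fi23.e, Fi23.f, Fi23.g, Fi23.h, Fi23.i})
    (by ext w; simp)
  obtain ⟨hidx, Φ, hΦ, heq, h0⟩ := Fi23Fi22.cert_valid.index_eq hx hgen hrel f hf hK
  replace hidx : _ = 31671 := hidx
  have : IsSimpleGroup Cfsg.Spor.Fi23 := Fi23Pres.isFi23.1
  have hcardG : Nat.card Cfsg.Spor.Fi23 = 4089470473293004800 := Fi23Pres.isFi23.2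
  have : Finite Cfsg.Spor.Fi23 := Nat.finite_of_card_ne_zero (by rw [hcardG]; decide)
  have hinj : Function.Injective f := by
    rw [← MonoidHom.ker_eq_bot_iff]
    refine (f.normal_ker.eq_bot_or_eq_top).resolve_right fun h => ?_
    have h7 : f (x 7) = 1 := f.mem_ker.1 (h ▸ Subgroup.mem_top _)
    have := congrArg (fun σ : Equiv.Perm (Fin 31671) => (σ ⟨0, by decide⟩).1) h7
    replace this : (f (x 7) ⟨0, by decide⟩).1 = 0 := this
    rw [show f (x 7) = tperm Fi23Fi22.cert.step.P Fi23Fi22.cert.step.k Fi23Fi22.cert.step.n 7 from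
      hf 7 (by decide)] at this
    rw [tperm_apply Fi23Fi22.cert_valid.perm (by decide)] at this
    exact absurd this (show img Fi23Fi22.tabP 10 7 0 ≠ 0 by decide +kernel)
  obtain ⟨hz2, hcomm, hzne⟩ := centre_word x f hinj (k := 10) Fi23Fi22.cert_valid.perm (by decide) hf
    Fi23Centre.centre_ok (by decide +kernel) (by decide +kernel)
  have hz1 : wordVal x Fi23Centre.centreWord ≠ 1 := hzne 1 (by decide) (by decide +kernel)
  set H := (Subgroup.closure _).map (PresentedGroup.mk _) with hH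
  have hHgen : H = Subgroup.closure ((fun g => x (sig g)) '' {g | g < 9}) := by
    rw [hK]
    congr 1
    ext w
    constructor
    · rintro ⟨u, hu, rfl⟩
      obtain ⟨g, hg, hu'⟩ : ∃ g < 9, [sig g] = u :=
        (show ∀ u ∈ Fi23Fi22.subWords, ∃ g < 9, [sig g] = u by decide +kernel) u hu
      subst hu'
      refine ⟨g, hg, ?_⟩
      have : sig g ≠ eps := (show ∀ g < 9, sig g ≠ eps by decide +kernel) g hg
      simp [wordVal, gen, this, x]
    · rintro ⟨g, hg, rfl⟩
      refine ⟨[sig g], (show ∀ g < 9, [sig g] ∈ Fi23Fi22.subWords by decide +kernel) g hg, ?_⟩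
      have : sig g ≠ eps := (show ∀ g < 9, sig g ≠ eps by decide +kernel) g hg
      simp [wordVal, gen, this, x]
  have hmem : ∀ g, x (sig g) ∈ H := by
    intro g
    rw [hHgen]
    by_cases hg : g < 9
    · exact Subgroup.subset_closure ⟨g, hg, rfl⟩
    · have : sig g = eps := List.getD_eq_default _ _ (by
        simp only [Fi23Centre.letters, List.length_cons, List.length_nil]; omega)
      rw [this, show x eps = 1 from if_neg (by decide)]
      exact one_mem _
  let u : ℕ → H := fun g => ⟨x (sig g), hmem g⟩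
  have hval : ∀ r : List ℕ, (∀ g ∈ r, g < 9) →
      ((wordVal u r : H) : Cfsg.Spor.Fi23) = wordVal x (r.map sig) := by
    intro r
    induction r with
    | nil => intro _; rfl
    | cons g r ih =>
      intro h
      have hg : g < 9 := h g (by simp)
      have hne : sig g ≠ eps := (show ∀ g < 9, sig g ≠ eps by decide +kernel) g hg
      rw [wordVal, List.map_cons, wordVal, Subgroup.coe_mul, ih fun a ha => h a (by simp [ha]),
        gen, gen, if_neg (by simp only [eps]; omega), if_neg hne]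
  have hzH : wordVal x Fi23Centre.centreWord ∈ H := by
    obtain ⟨r, hr, hr'⟩ : ∃ r ∈ Fi22Pres.extra, (∀ g ∈ r, g < 9) ∧ r.map sig = Fi23Centre.centreWord := by
      decide +kernel
    rw [← hr'.2, ← hval r hr'.1]
    exact SetLike.coe_mem _
  have hcommH : ∀ h : H, h * ⟨_, hzH⟩ = ⟨_, hzH⟩ * h := by
    intro h
    have hle : H ≤ Subgroup.centralizer {wordVal x Fi23Centre.centreWord} := by
      rw [hHgen, Subgroup.closure_le]
      rintro _ ⟨g, hg, rfl⟩
      rw [SetLike.mem_coe, Subgroup.mem_centralizer_singleton_iff]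
      exact hcomm (sig g) ((show ∀ g < 9, sig g ∈ Fi23Centre.letters by decide +kernel) g hg)
    exact Subtype.ext (Subgroup.mem_centralizer_singleton_iff.1 (hle h.2))
  refine double_cover u ⟨_, hzH⟩ ?_ (fun h => hz1 (congrArg Subtype.val h)) (Subtype.ext hz2) hcommH
    (fun g => Subtype.ext (hx _)) ?_ ?_ ?_ ?_
  · have := Subgroup.card_mul_index H
    rw [hidx, hcardG] at this
    omega
  · apply Subgroup.map_injective H.subtype_injective
    rw [MonoidHom.map_closure, ← MonoidHom.range_eq_map, Subgroup.range_subtype, ← Set.image_comp]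
    exact hHgen.symm
  · intro r hr
    have h1 := List.all_eq_true.1 relators_map r hr
    simp only [Bool.and_eq_true, Bool.or_eq_true, List.all_eq_true, Nat.blt_eq, decide_eq_true_eq,
      List.contains_eq_mem] at h1
    rcases h1.2 with h | h
    · left
      apply Subtype.ext
      rw [hval r h1.1, OneMemClass.coe_one]
      exact hrel _ (hR ▸ h)
    · right
      apply Subtype.ext
      rw [hval r h1.1, h]
  · intro p hp
    have hw : (List.replicate 3 [sig p.2, sig p.1]).flatten ∈ Fi23Fi22.cert.R0 ∧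
        sig p.1 ≠ eps ∧ sig p.2 ≠ eps := by
      revert p
      decide +kernel
    apply Subtype.ext
    have := hrel _ hw.1
    rw [wordVal_replicate x _ _ hw.2.1 hw.2.2] at this
    exact this
  · obtain ⟨r, hr, hlt, hodd⟩ : ∃ r ∈ Fi22Pres.extra,
        ((∀ g ∈ r, g < 9) ∧ r.map sig ∈ Fi23Fi22.cert.R0) ∧ Odd r.length := by
      decide +kernel
    refine ⟨r, hlt.1, hodd, Subtype.ext ?_⟩
    rw [hval r hlt.1]
    exact hrel _ hlt.2

end Cfsg.Agent.S1688
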