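import Cfsg.Statements.S1689
import Cfsg.Agent.Lib.CosetEnum.Groups.Fi23
import Cfsg.Agent.Lib.CosetEnum.Fi23Fi22.Valid
-- import your own Cfsg.Agent.* helpers here

set_option autoImplicit false
open Cfsg

namespace Cfsg.Agent.S1689

open Cfsg.Lib.CosetEnum Cfsg.Spor

/-- In the presented Fischer group Fi₂₃, let H be the subgroup generated by the images of a, …, i. Then H has index 31671, H has orbits of sizes 3510 and 28160 on the cosets of H other than H itself. -/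
theorem result : (((Subgroup.closure ({Cfsg.Spor.Fi23.a, Cfsg.Spor.Fi23.b, Cfsg.Spor.Fi23.c, Cfsg.Spor.Fi23.d, Cfsg.Spor.Fi23.e, Cfsg.Spor.Fi23.f, Cfsg.Spor.Fi23.g, Cfsg.Spor.Fi23.h, Cfsg.Spor.Fi23.i} : Set (FreeGroup Cfsg.Spor.Fi23.Gen))).map (PresentedGroup.mk (Cfsg.Spor.coxRelators Cfsg.Spor.Fi23.edges ∪ {r | r ∈ Cfsg.Spor.Fi23.extra})))).index = 31671 ∧ ∃ q₁ q₂ : Cfsg.Spor.Fi23 ⧸ (((Subgroup.closure ({Cfsg.Spor.Fi23.a, Cfsg.Spor.Fi23.b, Cfsg.Spor.Fi23.c, Cfsg.Spor.Fi23.d, Cfsg.Spor.Fi23.e, Cfsg.Spor.Fi23.f, Cfsg.Spor.Fi23.g, Cfsg.Spor.Fi23.h, Cfsg.Spor.Fi23.i} : Set (FreeGroup Cfsg.Spor.Fi23.Gen))).map (PresentedGroup.mk (Cfsg.Spor.coxRelators Cfsg.Spor.Fi23.edges ∪ {r | r ∈ Cfsg.Spor.Fi23.extra})))), (MulAction.orbit (((Subgroup.closure ({Cfsg.Spor.Fi23.a, Cfsg.Spor.Fi23.b, Cfsg.Spor.Fi23.c, Cfsg.Spor.Fi23.d, Cfsg.Spor.Fi23.e,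 Cfsg.Spor.Fi23.f, Cfsg.Spor.Fi23.g, Cfsg.Spor.Fi23.h, Cfsg.Spor.Fi23.i} : Set (FreeGroup Cfsg.Spor.Fi23.Gen))).map (PresentedGroup.mk (Cfsg.Spor.coxRelators Cfsg.Spor.Fi23.edges ∪ {r | r ∈ Cfsg.Spor.Fi23.extra})))) q₁).ncard = 3510 ∧ (MulAction.orbit (((Subgroup.closure ({Cfsg.Spor.Fi23.a, Cfsg.Spor.Fi23.b, Cfsg.Spor.Fi23.c, Cfsg.Spor.Fi23.d, Cfsg.Spor.Fi23.e, Cfsg.Spor.Fi23.f, Cfsg.Spor.Fi23.g, Cfsg.Spor.Fi23.h, Cfsg.Spor.Fi23.i} : Set (FreeGroup Cfsg.Spor.Fi23.Gen))).map (PresentedGroup.mk (Cfsg.Spor.coxRelators Cfsg.Spor.Fi23.edges ∪ {r | r ∈ Cfsg.Spor.Fi23.extra})))) q₂).ncard = 28160 := by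
  let N := Fi23Pres.numbering
  have hx := N.gens_mul_self Fi23.extra
  have hk : N.k ≤ eps := by decide
  have hR : Fi23Fi22.cert.R0 = N.pairs ++ Fi23Pres.extra := by decide +kernel
  obtain ⟨f, hf⟩ := N.exists_hom hk Fi23.extra Fi23Fi22.cert_valid hR rfl
    (Fi23Pres.map_extra _ fun g => tperm_mul_self _ _ _ g)
  have hrel := N.wordVal_gens hk (Fi23Pres.map_extra (N.gens Fi23.extra) hx)
  have hK := N.map_closure Fi23.extra (Us := [Fi23.a, Fi23.b, Fi23.c, Fi23.d, Fi23.e, Fi23.f, Fi23.g, Fi23.h, Fi23.i])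
    (U := Fi23Fi22.subWords)
    (by simp [Fi23Fi22.subWords, wordVal, gen, eps, N, Fi23Pres.numbering, Fi23Pres.num, pow_succ, mul_assoc])
    (s := {Fi23.a, Fi23.b, Fi23.c, Fi23.d, Fi23.e, Fi23.f, Fi23.g, Fi23.h, Fi23.i})
    (by ext w; simp)
  obtain ⟨hidx, Φ, hΦ, heq, -⟩ := Fi23Fi22.cert_valid.index_eq hx (N.closure_gens Fi23.extra)
    (fun r hr => hrel r (hR ▸ hr)) f hf hK
  obtain ⟨q0, h0, -, -⟩ :=
    exists_orbit_ncard Fi23Fi22.cert_valid.perm (by decide) Fi23Fi22.orb0_ok (by decide) f hf hK hΦ heq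
  obtain ⟨q1, h1, -, -⟩ :=
    exists_orbit_ncard Fi23Fi22.cert_valid.perm (by decide) Fi23Fi22.orb1_ok (by decide) f hf hK hΦ heq
  exact ⟨hidx, q0, q1, h0, h1⟩

end Cfsg.Agent.S1689
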