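import Cfsg.Statements.S0472
import Cfsg.Agent.S1688
import Cfsg.Agent.S1689
import Cfsg.Agent.Lib.CosetEnum.ThreeTrans
import Cfsg.Agent.Lib.CosetEnum.Fi23Trans.Valid
-- import your own Cfsg.Agent.* helpers here

set_option autoImplicit false
open Cfsg

namespace Cfsg.Agent.S0472

open Cfsg.Lib.CosetEnum Cfsg.Spor

set_option maxRecDepth 100000

/-- The Fischer group of order 4089470473293004800 exists as a 3-transposition group: a simple group of that order generated by a conjugacy class of 31671 3-transpositions, the centraliser of each being a non-split double cover of a simple group of order 64561751654400. -/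
theorem result : ∃ (G : Type) (_ : Group G) (_ : Finite G), Cfsg.IsFi23 G ∧ ∃ D : Set G, Cfsg.IsThreeTranspositionClass D ∧ Nat.card D = 31671 ∧ ∀ d ∈ D, ∃ (K : Type) (_ : Group K), Cfsg.IsFi22 K ∧ Cfsg.IsNonsplitDoubleCover (Subgroup.centralizer ({d} : Set G)) K := by
  let N := Fi23Pres.numbering
  let x : ℕ → Cfsg.Spor.Fi23 := N.gens Fi23.extra
  have hx : ∀ g, x g * x g = 1 := N.gens_mul_self Fi23.extra
  have hk : N.k ≤ eps := by decide
  have hR : Fi23Fi22.cert.R0 = N.pairs ++ Fi23Pres.extra := by decide +kernel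
  have hrel : ∀ r ∈ Fi23Fi22.cert.R0, wordVal x r = 1 := fun r hr =>
    N.wordVal_gens hk (Fi23Pres.map_extra x hx) r (hR ▸ hr)
  obtain ⟨f, hf⟩ := N.exists_hom hk Fi23.extra Fi23Fi22.cert_valid hR rfl
    (Fi23Pres.map_extra _ fun g => tperm_mul_self _ _ _ g)
  have hK := N.map_closure Fi23.extra (Us := [Fi23.a, Fi23.b, Fi23.c, Fi23.d, Fi23.e, Fi23.f, Fi23.g, Fi23.h, Fi23.i])
    (U := Fi23Fi22.subWords)
    (by simp [Fi23Fi22.subWords, wordVal, gen, eps, N, Fi23Pres.numbering, Fi23Pres.num, pow_succ, mul_assoc])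
    (s := {Fi23.a, Fi23.b, Fi23.c, Fi23.d, Fi23.e, Fi23.f, Fi23.g, Fi23.h, Fi23.i})
    (by ext w; simp)
  have hcover := Cfsg.Agent.S1688.result
  obtain ⟨hidx, q₁, q₂, hq₁, hq₂⟩ := Cfsg.Agent.S1689.result
  have hFi : Cfsg.IsFi23 Cfsg.Spor.Fi23 := Fi23Pres.isFi23
  have hsimple : IsSimpleGroup Cfsg.Spor.Fi23 := hFi.1
  have hfin : Finite Cfsg.Spor.Fi23 := Nat.finite_of_card_ne_zero (by rw [hFi.2]; decide)
  have hperm := Fi23Fi22.cert_valid.perm
  have hval : ∀ g < 10, ∀ i : Fin 31671, (f (x g) i).1 = img Fi23Fi22.tabP 10 g i.1 := fun g hg i => by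
    rw [show f (x g) = tperm Fi23Fi22.cert.step.P Fi23Fi22.cert.step.k Fi23Fi22.cert.step.n g from
      hf g hg]
    exact tperm_apply hperm hg i
  have hinj : Function.Injective f := by
    rw [← MonoidHom.ker_eq_bot_iff]
    refine (f.normal_ker.eq_bot_or_eq_top).resolve_right fun h => ?_
    have h1 : f (x 7) = 1 := f.mem_ker.1 (h ▸ Subgroup.mem_top _)
    have h2 := hval 7 (by decide) ⟨0, by decide⟩
    rw [h1] at h2
    exact absurd h2.symm (show img Fi23Fi22.tabP 10 7 0 ≠ 0 by decide +kernel)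
  obtain ⟨hz2, hzcomm, hzne⟩ := centre_word x f hinj (k := 10) hperm (by decide) hf
    Fi23Centre.centre_ok (by decide +kernel) (by decide +kernel)
  set z := wordVal x Fi23Centre.centreWord
  have hz1 : z ≠ 1 := hzne 1 (by decide) (by decide +kernel)
  set H := (Subgroup.closure _).map (PresentedGroup.mk _) with hH
  have hcomm : ∀ k ∈ H, k * z = z * k := by
    intro k hk'
    rw [hK] at hk'
    refine Subgroup.mem_centralizer_singleton_iff.1 ((Subgroup.closure_le
      (K := Subgroup.centralizer ({z} : Set Cfsg.Spor.Fi23))).2 ?_ hk')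
    rintro _ ⟨u, hu, rfl⟩
    rw [SetLike.mem_coe, Subgroup.mem_centralizer_singleton_iff]
    obtain ⟨g, hg, rfl, hge⟩ : ∃ g ∈ Fi23Centre.letters, [g] = u ∧ g ≠ eps :=
      (show ∀ u ∈ Fi23Fi22.subWords, ∃ g ∈ Fi23Centre.letters, [g] = u ∧ g ≠ eps by decide +kernel) u hu
    rw [show wordVal x [g] = x g by simp [wordVal, gen, hge]]
    exact hzcomm g hg
  have hna : ¬ ∀ a b : Cfsg.Spor.Fi23, a * b = b * a := fun h => by
    let : CommGroup Cfsg.Spor.Fi23 := { (inferInstance : Group Cfsg.Spor.Fi23) with mul_comm := h }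
    have := IsSimpleGroup.prime_card (α := Cfsg.Spor.Fi23)
    rw [hFi.2] at this
    exact Nat.not_prime_mul (a := 2) (b := 2044735236646502400) (by decide) (by decide) this
  have hC := centralizer_eq (d := z) (K := H) hz1 hna hcomm hq₁ hq₂ (by decide) (by decide)
    (by decide) (by rw [hidx]) (by rw [hidx]; decide) (by rw [hidx]; decide)
  -- the central involution is conjugate to the first generator
  set W := wordVal x Fi23Trans.word with hWdef
  have hW : W * z * W⁻¹ = x 0 :=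
    conj_eq_of_table x f hinj (k := 10) hperm (by decide) hf Fi23Centre.centre_ok
      (by decide +kernel) (by decide +kernel) (by decide) Fi23Trans.conj_get
  have hdist : ∀ g < 3, g ≠ 0 → x g ≠ x 0 := by
    intro g hg hg0 he
    obtain ⟨p, hp, hne⟩ : ∃ p < 31671, img Fi23Fi22.tabP 10 g p ≠ img Fi23Fi22.tabP 10 0 p := by
      interval_cases g
      · exact absurd rfl hg0
      · exact ⟨6, by decide, by decide +kernel⟩
      · exact ⟨5, by decide, by decide +kernel⟩
    refine hne ?_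
    rw [← hval g (by omega) ⟨p, hp⟩, ← hval 0 (by decide) ⟨p, hp⟩, he]
  have hbraid : ∀ p ∈ [(0, 1), (1, 2)], (x p.1 * x p.2) ^ 3 = 1 ∧ IsConj (x p.1) (x p.2) := by
    intro p hp
    have hw : (List.replicate 3 [p.2, p.1]).flatten ∈ Fi23Fi22.cert.R0 ∧ p.1 ≠ eps ∧ p.2 ≠ eps := by
      revert p; decide +kernel
    have h1 := hrel _ hw.1
    rw [wordVal_replicate x _ _ hw.2.1 hw.2.2] at h1
    refine ⟨h1, isConj_iff.2 ⟨x p.1 * x p.2, ?_⟩⟩
    rw [mul_inv_eq_iff_eq_mul]
    calc x p.1 * x p.2 * x p.1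
        = (x p.1 * x p.2) ^ 3 * ((x p.1 * x p.2)⁻¹ * (x p.1 * x p.2)⁻¹ * x p.1) := by
          rw [pow_succ, pow_two]; group
      _ = x p.2 * (x p.1 * x p.2) := by
        rw [h1, one_mul, mul_inv_rev, inv_eq_of_mul_eq_one_left (hx p.1),
          inv_eq_of_mul_eq_one_left (hx p.2)]
        simp only [mul_assoc, hx, mul_one]
  obtain ⟨h01, c01⟩ := hbraid (0, 1) (by simp)
  obtain ⟨-, c12⟩ := hbraid (1, 2) (by simp)
  have h02 : (x 0 * x 2) ^ 2 = 1 := by
    have hr : (List.replicate 2 [2, 0]).flatten ∈ Fi23Fi22.cert.R0 := by decide +kernel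
    have := hrel _ hr
    rwa [wordVal_replicate x _ _ (by decide) (by decide)] at this
  have hz0 : W⁻¹ * x 0 * W = z := by rw [← hW]; group
  have hback : ∀ g, IsConj (x 0) (x g) → IsConj z (W⁻¹ * x g * W) := fun g hg =>
    ((isConj_iff.2 ⟨W, hW⟩).trans hg).trans (isConj_iff.2 ⟨W⁻¹, by rw [inv_inv]⟩)
  have hne : ∀ g < 3, g ≠ 0 → W⁻¹ * x g * W ≠ z := fun g hg hg0 he => hdist g hg hg0 (by
    rw [← hW, ← he]; group)
  have hprod : ∀ g m, (x 0 * x g) ^ m = 1 → (z * (W⁻¹ * x g * W)) ^ m = 1 := by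
    intro g m h
    have : z * (W⁻¹ * x g * W) = W⁻¹ * (x 0 * x g) * W⁻¹⁻¹ := by rw [← hz0]; group
    rw [this, conj_pow, h, mul_one, mul_inv_cancel]
  obtain ⟨hclass, hcardD, hcent⟩ := isThreeTranspositionClass_of_rank_three (d := z) (K := H) hz1
    hz2 hC hq₁ hq₂ (by decide) (by decide) (by decide) (by rw [hidx]) (hback 1 c01)
    (hback 2 (c01.trans c12)) (hne 1 (by decide) (by decide)) (hne 2 (by decide) (by decide))
    (hprod 1 3 h01) (hprod 2 2 h02)
  refine ⟨Cfsg.Spor.Fi23, inferInstance, hfin, hFi, conjugatesOf z, hclass,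
    hcardD.trans hidx, fun d hd => ⟨Cfsg.Spor.Fi22, inferInstance, Fi22Pres.isFi22, ?_⟩⟩
  obtain ⟨e⟩ := hcent d hd
  exact isNonsplitDoubleCover_congr e hcover

end Cfsg.Agent.S0472
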