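import Cfsg.Statements.S0476
import Cfsg.Agent.Lib.J4Real.CentQ
import Cfsg.Agent.Lib.Extra.Structure
-- import your own Cfsg.Agent.* helpers here

set_option autoImplicit false
open Cfsg

namespace Cfsg.Agent.S0476

/-- In some simple group of the order of Janko's fourth group there is an involution whose centraliser C has a normal extraspecial subgroup Q of order 2 ^ 13, a normal subgroup N of order 3 · 2 ^ 13 containing Q, and a subgroup M of index 2 containing N as a normal subgroup with M / N simple of order 443520. -/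
theorem result : ∃ (G : Type) (_ : Group G) (_ : Finite G), Cfsg.IsJ4 G ∧ ∃ z : G, orderOf z = 2 ∧ ∃ (Q N M : Subgroup (Subgroup.centralizer ({z} : Set G))), Q.Normal ∧ N.Normal ∧ Q ≤ N ∧ N ≤ M ∧ Nat.card Q = 2 ^ 13 ∧ Cfsg.IsExtraspecial 2 Q ∧ Nat.card N = 3 * 2 ^ 13 ∧ M.index = 2 ∧ ∃ (_ : (N.subgroupOf M).Normal), Cfsg.IsM22 (M ⧸ N.subgroupOf M) := by
  refine ⟨↥Lib.J4Real.Gsub, inferInstance, inferInstance,
    ⟨Lib.J4Real.isSimple_Gsub, Lib.J4Real.card_Gsub⟩,
    ⟨Lib.J4Real.zEl, Lib.J4Real.M_le_G Lib.J4Real.zEl_mem⟩, ?_, ?_⟩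
  · rw [orderOf_eq_prime_iff]
    refine ⟨?_, fun h => Lib.J4Real.qz_ne (Subtype.ext (congrArg Subtype.val h :))⟩
    rw [pow_two]
    exact Subtype.ext (Lib.J4Real.eW_sq _)
  let e : Subgroup.centralizer ({(⟨Lib.J4Real.zEl, Lib.J4Real.M_le_G Lib.J4Real.zEl_mem⟩ :
      Lib.J4Real.Gsub)} : Set Lib.J4Real.Gsub) ≃* Lib.J4Real.Cz :=
    { toFun := fun c => ⟨c.1.1, c.1.2, Subgroup.mem_centralizer_singleton_iff.2
        (congrArg Subtype.val (Subgroup.mem_centralizer_singleton_iff.1 c.2) :)⟩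
      invFun := fun c => ⟨⟨c.1, c.2.1⟩, Subgroup.mem_centralizer_singleton_iff.2
        (Subtype.ext (Subgroup.mem_centralizer_singleton_iff.1 c.2.2))⟩
      left_inv := fun _ => rfl
      right_inv := fun _ => rfl
      map_mul' := fun _ _ => rfl }
  have hcard : ∀ H : Subgroup Lib.J4Real.Cz, Nat.card (H.comap e.toMonoidHom) = Nat.card H :=
    fun H => Nat.card_congr (Equiv.subtypeEquiv e.toEquiv fun _ => Iff.rfl)
  have eqv : ∀ H : Subgroup Lib.J4Real.Cz, Nonempty (H ≃* H.comap e.toMonoidHom) := fun H =>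
    ⟨{ toFun := fun h => ⟨e.symm h.1, by simp⟩
       invFun := fun h => ⟨e h.1, h.2⟩
       left_inv := fun h => Subtype.ext (by simp)
       right_inv := fun h => Subtype.ext (by simp)
       map_mul' := fun a b => Subtype.ext (map_mul e.symm a.1 b.1) }⟩
  haveI := Lib.J4Real.qData_normal
  haveI : Fact (Nat.Prime 2) := ⟨Nat.prime_two⟩
  refine ⟨Lib.J4Real.qData.sub.comap e.toMonoidHom, Lib.J4Real.rho.ker.comap e.toMonoidHom,
    Lib.J4Real.Mtwo.comap e.toMonoidHom, inferInstance, inferInstance,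
    Subgroup.comap_mono Lib.J4Real.qData_le_ker, Subgroup.comap_mono Lib.J4Real.ker_le_Mtwo,
    (hcard _).trans Lib.J4Real.card_qData,
    (eqv _).elim fun f => Lib.Extra.isExtraspecial_congr f Lib.J4Real.qData.extraspecial,
    (hcard _).trans Lib.J4Real.card_ker_rho,
    (Subgroup.index_comap_of_surjective _ e.surjective).trans Lib.J4Real.index_Mtwo, inferInstance, ?_⟩
  let f : Lib.J4Real.Mtwo.comap e.toMonoidHom →* Lib.J4Real.Mtwo :=
    { toFun := fun c => ⟨e c.1, c.2⟩
      map_one' := Subtype.ext (map_one e)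
      map_mul' := fun a b => Subtype.ext (map_mul e a.1 b.1) }
  have hf : Function.Surjective f := fun c =>
    ⟨⟨e.symm c.1, by simp⟩, Subtype.ext (e.apply_symm_apply c.1)⟩
  have hker : (Lib.J4Real.phiTwo.comp f).ker = (Lib.J4Real.rho.ker.comap e.toMonoidHom).subgroupOf
      (Lib.J4Real.Mtwo.comap e.toMonoidHom) := by
    rw [← MonoidHom.comap_ker, Lib.J4Real.phiTwo_ker]
    rfl
  let q := (QuotientGroup.quotientMulEquivOfEq hker.symm).trans
    (QuotientGroup.quotientKerEquivOfSurjective (Lib.J4Real.phiTwo.comp f)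
      (Lib.J4Real.phiTwo_surjective.comp hf))
  exact ⟨q.isSimpleGroup_congr.2 Lib.Concrete.isSimple_sporM22,
    (Nat.card_congr q.toEquiv).trans Lib.Concrete.card_sporM22⟩

end Cfsg.Agent.S0476
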