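import Cfsg.Statements.S0478
import Cfsg.Agent.Lib.JThree.Realize
-- import your own Cfsg.Agent.* helpers here

set_option autoImplicit false
open Cfsg

namespace Cfsg.Agent.S0478

/-- A triple cover of Janko's third group inside a unitary group: for a field F with four elements, the special unitary group of dimension 9 (with respect to the form with q = 2) has a subgroup whose centre has order 3 and whose quotient by its centre is simple of order 50232960. -/
theorem result : ∃ (F : Type) (_ : Field F) (_ : Fintype F), Fintype.card F = 4 ∧ ∃ H : Subgroup (Cfsg.SU 9 F 2), Nat.card (Subgroup.center H) = 3 ∧ Cfsg.IsJ3 (H ⧸ Subgroup.center H) := by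
  haveI : Fact (Nat.Prime 2) := ⟨Nat.prime_two⟩
  classical
  let F := GaloisField 2 2
  letI : Fintype F := Fintype.ofFinite F
  have hF : Fintype.card F = 4 := by
    rw [← Nat.card_eq_fintype_card, GaloisField.card 2 2 (by norm_num)]; norm_num
  haveI : Nontrivial Fˣ := Fintype.one_lt_card_iff_nontrivial.1 (by rw [Fintype.card_units, hF]; norm_num)
  obtain ⟨u, hu⟩ := exists_ne (1 : Fˣ)
  have hω : (u : F) ^ 2 + (u : F) + 1 = 0 := by
    have h3 : (u : F) ^ 3 = 1 := by
      have := FiniteField.pow_card_sub_one_eq_one (u : F) u.ne_zero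
      rwa [hF] at this
    have hne : (u : F) - 1 ≠ 0 := sub_ne_zero.2 fun e => hu (Units.ext e)
    refine (mul_eq_zero.1 (show ((u : F) - 1) * ((u : F) ^ 2 + (u : F) + 1) = 0 by linear_combination h3)).resolve_left hne
  exact ⟨F, inferInstance, inferInstance, hF,
    Cfsg.Lib.JThree.unitary_realization hF (Cfsg.Lib.JThree.Hyp.of_card hF hω)⟩

end Cfsg.Agent.S0478
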