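import Cfsg.Statements.S0481
import Mathlib

set_option autoImplicit false
open Cfsg

namespace Cfsg.Agent.S0481

/-- Large extraspecial subgroups: let z be an involution of a finite group G whose centraliser C contains a normal 2-subgroup Q with centre of order 2 and all squares central, such that every element of G centralising Q lies in Q. Then C contains a Sylow 2-subgroup of G, and any involution of G whose centraliser contains a Sylow 2-subgroup of G is conjugate to z. -/
theorem result {G : Type*} [Group G] [Finite G] (z : G) (hz : orderOf z = 2) (Q : Subgroup G) (hQC : Q ≤ Subgroup.centralizer ({z} : Set G)) (hQn : ∀ g ∈ Subgroup.centralizer ({z} : Set G), ∀ q ∈ Q, g * q * g⁻¹ ∈ Q) (hQ2 : IsPGroup 2 Q) (hZ : Nat.card (Subgroup.center Q) = 2) (hsq : ∀ x : Q, x ^ 2 ∈ Subgroup.center Q) (hlarge : Subgroup.centralizer (Q : Set G) ≤ Q) : (∃ P : Sylow 2 G, (P : Subgroup G) ≤ Subgroup.centralizer ({z} : Set G)) ∧ ∀ u : G, orderOf u = 2 → (∃ P : Sylow 2 G,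 (P : Subgroup G) ≤ Subgroup.centralizer ({u} : Set G)) → IsConj z u := by
  classical
  haveI : Fact (Nat.Prime 2) := ⟨Nat.prime_two⟩
  set C := Subgroup.centralizer ({z} : Set G) with hC
  have hzQ : z ∈ Q := hlarge (Subgroup.mem_centralizer_iff.mpr fun q hq =>
    ((Subgroup.mem_centralizer_iff.mp (hQC hq)) z rfl).symm)
  have hz1 : z ≠ 1 := fun h => by rw [h, orderOf_one] at hz; omega
  have hzc : (⟨z, hzQ⟩ : Q) ∈ Subgroup.center Q :=
    Subgroup.mem_center_iff.mpr fun q => Subtype.ext ((Subgroup.mem_centralizer_iff.mp (hQC q.2)) z rfl).symm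
  have hCQ : ∀ c : G, (∀ q ∈ Q, q * c = c * q) → c = 1 ∨ c = z := by
    intro c hc
    have hcQ : c ∈ Q := hlarge (Subgroup.mem_centralizer_iff.mpr hc)
    have hcc : (⟨c, hcQ⟩ : Q) ∈ Subgroup.center Q :=
      Subgroup.mem_center_iff.mpr fun q => Subtype.ext (hc q q.2)
    by_cases h1 : c = 1
    · exact Or.inl h1
    right
    have huniq := (Nat.card_eq_two_iff' (1 : Subgroup.center Q)).mp hZ
    have e := huniq.unique (y₁ := ⟨⟨c, hcQ⟩, hcc⟩) (y₂ := ⟨⟨z, hzQ⟩, hzc⟩)
      (fun e => h1 (congrArg (fun w : Subgroup.center Q => ((w : Q) : G)) e))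
      (fun e => hz1 (congrArg (fun w : Subgroup.center Q => ((w : Q) : G)) e))
    exact congrArg (fun w : Subgroup.center Q => ((w : Q) : G)) e
  obtain ⟨T₀, hT₀⟩ := (hQ2.comap_of_injective C.subtype C.subtype_injective :
    IsPGroup 2 (Q.subgroupOf C)).exists_le_sylow
  set T : Subgroup G := (T₀ : Subgroup C).map C.subtype with hT
  have hQT : Q ≤ T := fun q hq => ⟨⟨q, hQC hq⟩, hT₀ hq, rfl⟩
  have hTC : T ≤ C := Subgroup.map_subtype_le _
  obtain ⟨P, hP⟩ := (T₀.isPGroup'.map C.subtype : IsPGroup 2 T).exists_le_sylow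
  -- `Z(P)` is `{1, z}`
  have hPC : (P : Subgroup G) ≤ C := by
    haveI : Nontrivial (P : Subgroup G) :=
      ⟨⟨⟨z, hP (hQT hzQ)⟩, 1, fun e => hz1 (congrArg Subtype.val e)⟩⟩
    haveI := P.isPGroup'.center_nontrivial
    obtain ⟨⟨w, hw⟩, hw1⟩ := exists_ne (1 : Subgroup.center (P : Subgroup G))
    have hwc : ∀ q ∈ Q, q * (w : G) = w * q := fun q hq =>
      congrArg Subtype.val (Subgroup.mem_center_iff.mp hw ⟨q, hP (hQT hq)⟩)
    rcases hCQ _ hwc with h | h
    · exact absurd (Subtype.ext (Subtype.ext h) : (⟨w, hw⟩ : Subgroup.center (P : Subgroup G)) = 1) hw1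
    · intro g hg
      refine Subgroup.mem_centralizer_iff.mpr fun y hy => ?_
      rw [Set.mem_singleton_iff.mp hy, ← h]
      exact (congrArg Subtype.val (Subgroup.mem_center_iff.mp hw ⟨g, hg⟩)).symm
  refine ⟨⟨P, hPC⟩, fun u hu ⟨R, hR⟩ => ?_⟩
  obtain ⟨c, hc⟩ := MulAction.exists_smul_eq G R P
  have hu' : c * u * c⁻¹ = z := by
    have hcomm : ∀ q ∈ Q, q * (c * u * c⁻¹) = c * u * c⁻¹ * q := by
      intro q hq
      have hqP : q ∈ ((c • R : Sylow 2 G) : Subgroup G) := hc ▸ hP (hQT hq)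
      rw [Sylow.coe_subgroup_smul, Subgroup.mem_pointwise_smul_iff_inv_smul_mem] at hqP
      have hq' : c⁻¹ * q * c ∈ (R : Subgroup G) := by simpa [MulAut.smul_def] using hqP
      have huu : u * (c⁻¹ * q * c) = c⁻¹ * q * c * u := Subgroup.mem_centralizer_iff.mp (hR hq') u rfl
      calc q * (c * u * c⁻¹) = c * (c⁻¹ * q * c * u) * c⁻¹ := by group
        _ = c * (u * (c⁻¹ * q * c)) * c⁻¹ := by rw [huu]
        _ = _ := by group
    rcases hCQ _ hcomm with h | h
    · exfalso
      have hu1 : u = 1 := by simpa using h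
      rw [hu1, orderOf_one] at hu; omega
    · exact h
  exact (isConj_iff.mpr ⟨c, hu'⟩).symm

end Cfsg.Agent.S0481
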