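import Cfsg.Statements.S0486
import Cfsg.Agent.Lib.U34Type.Simple

set_option autoImplicit false
open Cfsg

namespace Cfsg.Agent.S0486

/-- A finite simple group whose Sylow 2-subgroups are isomorphic to a Sylow 2-subgroup of the projective special
unitary group of dimension 3 over the field with 16 elements is isomorphic to that unitary group. -/
theorem result {G : Type*} [Group G] [Finite G] [IsSimpleGroup G]
    {F : Type*} [Field F] [Fintype F] (hF : Fintype.card F = 16) (S : Sylow 2 G) (P : Sylow 2 (Cfsg.PSU 3 F 4))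
    (hS : Nonempty ((S : Subgroup G) ≃* (P : Subgroup (Cfsg.PSU 3 F 4)))) :
    Nonempty (G ≃* Cfsg.PSU 3 F 4) := by
  classical
  obtain ⟨e⟩ := hS
  refine Cfsg.Lib.U34Type.iso_of_simple (fun hc => ?_) S hF P e
  obtain ⟨hcard, hK, -, -⟩ := Cfsg.Agent.S1248.result hF P
  have hall : ∀ x : (P : Subgroup (Cfsg.PSU 3 F 4)), x ∈ Subgroup.center (P : Subgroup (Cfsg.PSU 3 F 4)) := by
    refine fun x => Subgroup.mem_center_iff.2 fun y => ?_
    obtain ⟨x, rfl⟩ := e.surjective x
    obtain ⟨y, rfl⟩ := e.surjective y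
    rw [← map_mul, ← map_mul]
    exact congrArg e (Subtype.ext (hc.is_comm.comm _ _))
  have h4 := hK.card_four
  rw [Subgroup.eq_top_iff' _ |>.2 hall, Subgroup.card_top, hcard] at h4
  omega

end Cfsg.Agent.S0486
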