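import Cfsg.Statements.S0499
import Cfsg.Agent.Lib.Invol.Cyclic
import Cfsg.Agent.Lib.Fusion.Alperin

set_option autoImplicit false
open Cfsg

namespace Cfsg.Agent.S0499

/-- A non-abelian finite simple group of even order has order divisible by 12, 16 or 56. -/
theorem result {G : Type*} [Group G] [Finite G] [IsSimpleGroup G]
    (hG : ¬ IsMulCommutative G) (h2 : Even (Nat.card G)) :
    12 ∣ Nat.card G ∨ 16 ∣ Nat.card G ∨ 56 ∣ Nat.card G := by
  classical
  have hp2 := Fact.mk Nat.prime_two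
  have hnc : ¬ IsCyclic G := fun h => hG (by
    let _ := h.commGroup
    exact ⟨⟨fun a b => mul_comm a b⟩⟩)
  obtain ⟨P⟩ : Nonempty (Sylow 2 G) := inferInstance
  obtain ⟨k, hk⟩ := IsPGroup.iff_card.1 P.isPGroup'
  have hdvd : 2 ^ k ∣ Nat.card G := hk ▸ Subgroup.card_subgroup_dvd_card _
  by_cases hk4 : 4 ≤ k
  · exact Or.inr (Or.inl (dvd_trans (pow_dvd_pow 2 hk4 : (16 : ℕ) ∣ 2 ^ k) hdvd))
  have hk2 : 2 ≤ k := by
    by_contra hlt
    have hcyc : IsCyclic ↥(P : Subgroup G) := by
      rcases (show k = 0 ∨ k = 1 by omega) with rfl | rfl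
      · have : Subsingleton ↥(P : Subgroup G) := (Nat.card_eq_one_iff_unique.1 (by simpa using hk)).1
        infer_instance
      · exact isCyclic_of_prime_card (p := 2) (by simpa using hk)
    obtain ⟨H, hH⟩ := Cfsg.Lib.Invol.exists_index_two_of_isCyclic h2 P hcyc
    have hn : H.Normal := Subgroup.normal_of_index_eq_two hH
    rcases hn.eq_bot_or_eq_top with rfl | rfl
    · rw [Subgroup.index_bot] at hH
      exact hnc (isCyclic_of_prime_card hH)
    · simp at hH
  -- some subgroup of the Sylow subgroup has an automorphism of odd order induced in `G`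
  have hno : ¬ Cfsg.HasNormalPComplement 2 G := by
    rintro ⟨R, N, hN, hNR⟩
    rcases hN.eq_bot_or_eq_top with rfl | rfl
    · have hR : (R : Subgroup G) = ⊤ := Subgroup.isComplement'_bot_left.1 hNR
      have hp : IsPGroup 2 G := fun g => by
        obtain ⟨j, hj⟩ := R.isPGroup' ⟨g, hR ▸ Subgroup.mem_top g⟩
        exact ⟨j, congrArg Subtype.val hj⟩
      have := hp.isNilpotent
      exact hG ⟨⟨IsSimpleGroup.comm_iff_isSolvable.2 inferInstance⟩⟩
    · have hR : (R : Subgroup G) = ⊥ := Subgroup.isComplement'_top_left.1 hNR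
      exact R.ne_bot_of_dvd_card (even_iff_two_dvd.1 h2) hR
  rw [Cfsg.Lib.Fusion.frobenius P] at hno
  push Not at hno
  obtain ⟨Q, hQP, g, hg, hco, hgQ⟩ := hno
  let σ : MulAut ↥Q := Subgroup.normalizerMonoidHom Q ⟨g, hg⟩
  have hσne : σ ≠ 1 := fun h => hgQ (Subgroup.mem_centralizer_iff.2 fun q hq => by
    have h1 : g * q * g⁻¹ = q := congrArg Subtype.val (DFunLike.congr_fun h (⟨q, hq⟩ : ↥Q))
    exact (mul_inv_eq_iff_eq_mul.1 h1).symm)
  have hd : orderOf σ ∣ orderOf g := by
    rw [← Subgroup.orderOf_mk g hg]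
    exact orderOf_map_dvd _ _
  obtain ⟨r, hr, hrd⟩ := Nat.exists_prime_and_dvd (show orderOf σ ≠ 1 from fun h => hσne (orderOf_eq_one_iff.1 h))
  have hrG : r ∣ Nat.card G := (hrd.trans hd).trans (orderOf_dvd_natCard g)
  have hr2 : r ≠ 2 := by
    rintro rfl
    exact absurd ((hrd.trans hd)) (fun h => by
      have := Nat.eq_one_of_dvd_coprimes hco h dvd_rfl
      omega)
  have hσ0 : orderOf σ ≠ 0 := fun h => by
    rw [h, Nat.zero_dvd] at hd
    exact (orderOf_pos g).ne' hd
  set τ := σ ^ (orderOf σ / r) with hτ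
  have hτo : orderOf τ = r := orderOf_pow_orderOf_div hσ0 hrd
  have := Fact.mk hr
  have hrp : IsPGroup r ↥(Subgroup.zpowers τ) :=
    IsPGroup.of_card (n := 1) (by rw [Nat.card_zpowers, hτo, pow_one])
  have hcount := hrp.card_modEq_card_fixedPoints ↥Q
  -- the fixed points form a proper subgroup
  let F : Subgroup ↥Q :=
    { carrier := {q | τ q = q}
      one_mem' := map_one τ
      mul_mem' := fun {a b} (ha : τ a = a) (hb : τ b = b) => show τ (a * b) = a * b by rw [map_mul, ha, hb]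
      inv_mem' := fun {a} (ha : τ a = a) => show τ a⁻¹ = a⁻¹ by rw [map_inv, ha] }
  have hfix : Nat.card (MulAction.fixedPoints ↥(Subgroup.zpowers τ) ↥Q) = Nat.card ↥F := by
    refine Nat.card_congr (Equiv.subtypeEquivRight fun q => ⟨fun h => h ⟨τ, Subgroup.mem_zpowers τ⟩, fun h => ?_⟩)
    rintro ⟨_, i, rfl⟩
    show (τ ^ i) • q = q
    have h1 : τ ∈ MulAction.stabilizer (MulAut ↥Q) q := h
    exact zpow_mem h1 i
  rw [hfix] at hcount
  have hFtop : F ≠ ⊤ := fun h => by
    have h1 : τ = 1 := MulEquiv.ext fun q => (h ▸ Subgroup.mem_top q : q ∈ F)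
    rw [h1, orderOf_one] at hτo
    exact hr.one_lt.ne hτo
  obtain ⟨j, hj⟩ := IsPGroup.iff_card.1 (P.isPGroup'.to_le hQP)
  have hjk : j ≤ k := by
    have := Subgroup.card_dvd_of_le hQP
    rw [hj, hk] at this
    exact (Nat.pow_dvd_pow_iff_le_right (by norm_num)).1 this
  obtain ⟨i, hi⟩ := IsPGroup.iff_card.1 ((P.isPGroup'.to_le hQP).to_subgroup F)
  have hij : i < j := by
    have h1 := Subgroup.card_mul_index F
    have h2 : F.index ≠ 1 := fun h => hFtop (Subgroup.index_eq_one.1 h)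
    have h3 : F.index ≠ 0 := Subgroup.index_ne_zero_of_finite
    rw [hi, hj] at h1
    by_contra hle
    have h4 : 2 ^ j ≤ 2 ^ i := Nat.pow_le_pow_right two_pos (by omega)
    have h5 : 2 ^ i * 2 ≤ 2 ^ i * F.index := Nat.mul_le_mul_left _ (by omega)
    have h6 := pow_pos (show 0 < 2 by norm_num) i
    omega
  rw [hi, hj] at hcount
  have hdiff : r ∣ 2 ^ j - 2 ^ i :=
    (Nat.modEq_iff_dvd' (Nat.pow_le_pow_right two_pos hij.le)).1 hcount.symm
  have hcase : (r = 3) ∨ (r = 7 ∧ k = 3) := by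
    have hjle : j ≤ 3 := by omega
    have hlt : 2 ^ i < 2 ^ j := Nat.pow_lt_pow_right (by norm_num) hij
    have hj8 : 2 ^ j ≤ 2 ^ 3 := Nat.pow_le_pow_right two_pos hjle
    have h2i := Nat.one_le_two_pow (n := i)
    have hr7 : r ≤ 7 := le_trans (Nat.le_of_dvd (by omega) hdiff) (by omega)
    have hr2' := hr.two_le
    interval_cases r <;> first
      | omega
      | (exfalso; revert hr; norm_num; done)
      | (exfalso; interval_cases j <;> interval_cases i <;> (revert hdiff; norm_num; done))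
      | (refine Or.inr ⟨rfl, ?_⟩; by_contra hk3
         have hj2 : j ≤ 2 := by omega
         interval_cases j <;> interval_cases i <;> (revert hdiff; norm_num; done))
  rcases hcase with rfl | ⟨rfl, rfl⟩
  · left
    have h4 : 4 ∣ Nat.card G := dvd_trans (pow_dvd_pow 2 hk2) hdvd
    exact Nat.Coprime.mul_dvd_of_dvd_of_dvd (by norm_num) h4 hrG
  · right; right
    exact Nat.Coprime.mul_dvd_of_dvd_of_dvd (by norm_num : Nat.Coprime 8 7) hdvd hrG

end Cfsg.Agent.S0499
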