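import Cfsg.Statements.S0502
import Mathlib

set_option autoImplicit false
open Cfsg

namespace Cfsg.Agent.S0502

/-- If a finite 2-group has a normal elementary abelian subgroup of order at least 8, then any two of its Klein
four-subgroups are joined by a chain of Klein four-subgroups with consecutive members commuting elementwise. -/
theorem result {P : Type*} [Group P] [Finite P] (hP : IsPGroup 2 P)
    (E : Subgroup P) [E.Normal] (hE : IsMulCommutative E) (hE2 : ∀ e ∈ E, e ^ 2 = 1) (hE8 : 8 ≤ Nat.card E) :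
    Cfsg.IsFourConnected P := by
  haveI : Fact (Nat.Prime 2) := ⟨Nat.prime_two⟩
  haveI := hE
  have hEc : ∀ a ∈ E, ∀ b ∈ E, a * b = b * a := fun a ha b hb =>
    congrArg Subtype.val (mul_comm' (⟨a, ha⟩ : E) ⟨b, hb⟩)
  -- a central involution in `E`
  obtain ⟨z, hzE, hzZ, hz1⟩ : ∃ z ∈ E, z ∈ Subgroup.center P ∧ z ≠ 1 := by
    have hnb : (⊥ : Subgroup P) < E := bot_lt_iff_ne_bot.2 fun h => by
      rw [h, Subgroup.card_bot] at hE8; omega
    by_contra hcon
    push Not at hcon
    have hfix : (⟨1, E.one_mem⟩ : E) ∈ MulAction.fixedPoints (ConjAct P) E := by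
      intro g; exact Subtype.ext (show (g • (1 : P)) = 1 from smul_one g)
    have hdvd : 2 ∣ Nat.card E := by
      obtain ⟨k, hk⟩ := (hP.to_subgroup E).exists_card_eq
      rw [hk]; refine dvd_pow_self 2 ?_
      rintro rfl; omega
    obtain ⟨e, he, hne⟩ := IsPGroup.exists_fixed_point_of_prime_dvd_card_of_fixed_point
      (hP.of_equiv ConjAct.toConjAct) E hdvd hfix
    refine hne (Subtype.ext (hcon e e.2 ?_)).symm
    rw [Subgroup.mem_center_iff]
    intro g
    have h : g * (e : P) * g⁻¹ = e := by
      exact congrArg Subtype.val (he (ConjAct.toConjAct g))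
    exact mul_inv_eq_iff_eq_mul.1 h
  have hz2 : z * z = 1 := by rw [← pow_two]; exact hE2 z hzE
  -- four-groups from two commuting involutions
  have four : ∀ a b : P, a * a = 1 → b * b = 1 → a * b = b * a → a ≠ 1 → b ≠ 1 → a ≠ b →
      IsKleinFour (Subgroup.closure ({a, b} : Set P)) ∧
        ∀ x ∈ Subgroup.closure ({a, b} : Set P), ∀ c : P, c * a = a * c → c * b = b * c → c * x = x * c := by
    intro a b ha hb hab ha1 hb1 hne
    have hiv : ∀ w : P, w * w = 1 → w⁻¹ = w := fun w hw => inv_eq_of_mul_eq_one_right hw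
    let S : Subgroup P :=
      { carrier := {1, a, b, a * b}
        one_mem' := Or.inl rfl
        mul_mem' := by
          intro x y hx hy
          have h1 : a * (a * b) = b := by rw [← mul_assoc, ha, one_mul]
          have h2 : b * (a * b) = a := by rw [hab, ← mul_assoc, hb, one_mul]
          have h3 : a * b * a = b := by rw [hab, mul_assoc, ha, mul_one]
          have h4 : a * b * b = a := by rw [mul_assoc, hb, mul_one]
          have h5 : a * b * (a * b) = 1 := by rw [mul_assoc, h2, ha]
          simp only [Set.mem_insert_iff, Set.mem_singleton_iff] at hx hy ⊢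
          rcases hx with rfl | rfl | rfl | rfl <;> rcases hy with rfl | rfl | rfl | rfl <;>
            simp_all
        inv_mem' := by
          intro x hx
          simp only [Set.mem_insert_iff, Set.mem_singleton_iff] at hx ⊢
          have h5 : (a * b)⁻¹ = a * b := by rw [mul_inv_rev, hiv a ha, hiv b hb, hab]
          rcases hx with rfl | rfl | rfl | rfl <;> simp [hiv, ha, hb, h5] }
    have hS : Subgroup.closure ({a, b} : Set P) = S := by
      refine le_antisymm ((Subgroup.closure_le _).2 ?_) ?_
      · rintro x (rfl | rfl)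
        · exact Or.inr (Or.inl rfl)
        · exact Or.inr (Or.inr (Or.inl rfl))
      · intro x hx
        have h1 : a ∈ Subgroup.closure ({a, b} : Set P) := Subgroup.subset_closure (Or.inl rfl)
        have h2 : b ∈ Subgroup.closure ({a, b} : Set P) := Subgroup.subset_closure (Or.inr rfl)
        rcases hx with rfl | rfl | rfl | rfl
        exacts [one_mem _, h1, h2, mul_mem h1 h2]
    rw [hS]
    refine ⟨⟨?_, ?_⟩, ?_⟩
    · have hab1 : a * b ≠ 1 := fun h => hne (by rw [← hiv b hb]; exact eq_inv_of_mul_eq_one_left h)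
      rw [← SetLike.coe_sort_coe, Nat.card_coe_set_eq]
      show ({1, a, b, a * b} : Set P).ncard = 4
      rw [Set.ncard_insert_of_notMem ?_ (Set.toFinite _), Set.ncard_eq_three.2 ⟨a, b, a * b, hne, fun h => hb1 (left_eq_mul.1 h), fun h => ha1 (right_eq_mul.1 h), rfl⟩]
      simp [Ne.symm ha1, Ne.symm hb1, Ne.symm hab1]
    · apply Nat.dvd_antisymm
      · refine Monoid.exponent_dvd_of_forall_pow_eq_one fun x => Subtype.ext ?_
        have h5 : a * b * (a * b) = 1 := by
          rw [mul_assoc, ← mul_assoc b a b, ← hab, mul_assoc a b b, hb, mul_one, ha]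
        rcases x with ⟨x, rfl | rfl | rfl | rfl⟩ <;> simp [pow_two, ha, hb, h5]
      · have : orderOf (⟨a, Or.inr (Or.inl rfl)⟩ : S) = 2 :=
          orderOf_eq_prime (Subtype.ext (by simp [pow_two, ha])) (fun h => ha1 (congrArg Subtype.val h))
        rw [← this]; exact Monoid.order_dvd_exponent _
    · intro x hx c hca hcb
      rcases hx with rfl | rfl | rfl | rfl
      · simp
      · exact hca
      · exact hcb
      · rw [← mul_assoc, hca, mul_assoc, hcb, mul_assoc]
  have hzc : ∀ g : P, g * z = z * g := Subgroup.mem_center_iff.1 hzZ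
  -- centralizer in `E` of an involution has another element than `1, z`
  have hcent : ∀ v : P, v * v = 1 → ∃ e ∈ E, e ≠ 1 ∧ e ≠ z ∧ v * e = e * v := by
    intro v hv
    by_contra hcon
    push Not at hcon
    have hc : ∀ e ∈ E, v * e = e * v → e = 1 ∨ e = z := fun e he h => by
      by_contra hh; push Not at hh; exact hcon e he hh.1 hh.2 h
    have hvi : v⁻¹ = v := inv_eq_of_mul_eq_one_right hv
    have hvE : ∀ e ∈ E, v * e * v ∈ E := fun e he => by
      simpa [hvi] using (‹E.Normal›.conj_mem e he v)
    -- the map `e ↦ e * (v e v)` from `E` into `{1, z}` has fibres of size at most two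
    have hf : ∀ e ∈ E, e * (v * e * v) = 1 ∨ e * (v * e * v) = z := by
      intro e he
      refine hc _ (E.mul_mem he (hvE e he)) ?_
      calc v * (e * (v * e * v)) = (v * e * v) * (e * v) := by simp [mul_assoc]
        _ = ((v * e * v) * e) * v := by simp [mul_assoc]
        _ = (e * (v * e * v)) * v := by rw [hEc _ (hvE e he) e he]
    have key : ∀ e₁ ∈ E, ∀ e₂ ∈ E, e₁ * (v * e₁ * v) = e₂ * (v * e₂ * v) → e₂ = e₁ ∨ e₂ = e₁ * z := by
      intro e₁ h₁ e₂ h₂ heq
      have hi : ∀ e ∈ E, e * e = 1 := fun e he => by rw [← pow_two]; exact hE2 e he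
      have hfx : v * (e₁ * e₂) * v = e₁ * e₂ := by
        have : v * (e₁ * e₂) * v = (v * e₁ * v) * (v * e₂ * v) := by
          simp only [mul_assoc]; rw [← mul_assoc v v, hv, one_mul]
        rw [this]
        calc (v * e₁ * v) * (v * e₂ * v) = e₁ * (e₁ * (v * e₁ * v)) * (v * e₂ * v) := by
              rw [← mul_assoc e₁ e₁, hi e₁ h₁, one_mul]
          _ = e₁ * e₂ * ((v * e₂ * v) * (v * e₂ * v)) := by rw [heq]; simp [mul_assoc]
          _ = e₁ * e₂ := by rw [hi _ (hvE e₂ h₂), mul_one]
      have hcm : v * (e₁ * e₂) = (e₁ * e₂) * v := by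
        calc v * (e₁ * e₂) = v * (e₁ * e₂) * (v * v) := by rw [hv, mul_one]
          _ = v * (e₁ * e₂) * v * v := (mul_assoc _ _ _).symm
          _ = e₁ * e₂ * v := by rw [hfx]
      have h1e : e₁⁻¹ = e₁ := inv_eq_of_mul_eq_one_right (hi e₁ h₁)
      rcases hc _ (E.mul_mem h₁ h₂) hcm with h | h
      · left; rw [eq_inv_of_mul_eq_one_right h, h1e]
      · right; rw [eq_inv_mul_of_mul_eq h, h1e]
    classical
    let f : E → Bool := fun e => decide ((e : P) * (v * e * v) = 1)
    let gmap : E → Bool × Bool := fun e =>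
      (f e, decide (∀ e' : E, f e' = f e → (Fintype.ofFinite E).elems.toList.idxOf e ≤
        (Fintype.ofFinite E).elems.toList.idxOf e'))
    have hinj : Function.Injective gmap := by
      intro e₁ e₂ h
      simp only [gmap, Prod.mk.injEq] at h
      by_contra hne
      have hmem : ∀ x : E, x ∈ (Fintype.ofFinite E).elems.toList := fun x =>
        Finset.mem_toList.2 ((Fintype.ofFinite E).complete x)
      have hii : ∀ x y : E, (Fintype.ofFinite E).elems.toList.idxOf x = (Fintype.ofFinite E).elems.toList.idxOf y → x = y :=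
        fun x y hxy => (List.idxOf_inj (hmem x)).1 hxy
      -- a fibre has at most two elements
      have hfib : ∀ x y : E, f x = f y → (y : P) = x ∨ (y : P) = x * z := by
        intro x y hxy
        refine key x x.2 y y.2 ?_
        rcases hf x x.2 with hx | hx <;> rcases hf y y.2 with hy | hy
        · rw [hx, hy]
        · simp [f, hx, hy, hz1] at hxy
        · simp [f, hx, hy, hz1] at hxy
        · rw [hx, hy]
      have h2 : (e₂ : P) = e₁ * z := (hfib e₁ e₂ h.1).resolve_left fun hh => hne (Subtype.ext hh.symm)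
      have hd := h.2
      simp only [decide_eq_decide] at hd
      have : (∀ e' : E, f e' = f e₁ → (Fintype.ofFinite E).elems.toList.idxOf e₁ ≤
          (Fintype.ofFinite E).elems.toList.idxOf e') := by
        by_contra hnot
        push Not at hnot
        obtain ⟨e', hf', hlt⟩ := hnot
        have he' : e' = e₂ := by
          rcases hfib e₁ e' hf'.symm with hh | hh
          · rw [Subtype.ext hh] at hlt; omega
          · exact Subtype.ext (hh.trans h2.symm)
        subst he'
        refine (not_le.2 hlt) ((hd.2 fun e'' hf'' => ?_) e' hf')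
        rcases hfib e₁ e'' (hf''.trans h.1.symm).symm with hh | hh
        · rw [Subtype.ext hh]; omega
        · rw [Subtype.ext (hh.trans h2.symm)]
      exact hne (hii _ _ (le_antisymm (this e₂ h.1.symm) (hd.1 this e₁ h.1)))
    have := Nat.card_le_card_of_injective _ hinj
    simp at this
    omega
  -- every four-group is connected to a four-group of `E` through `⟨v, z⟩`
  have hrel : ∀ V : Subgroup P, IsKleinFour V → ∃ W : Subgroup P, IsKleinFour W ∧ W ≤ E ∧
      Relation.ReflTransGen (fun A B : Subgroup P => IsKleinFour A ∧ IsKleinFour B ∧ ∀ a ∈ A, ∀ b ∈ B, a * b = b * a) V W ∧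
      Relation.ReflTransGen (fun A B : Subgroup P => IsKleinFour A ∧ IsKleinFour B ∧ ∀ a ∈ A, ∀ b ∈ B, a * b = b * a) W V := by
    intro V hV
    have hV2 : ∀ x ∈ V, x * x = 1 := fun x hx => by
      simpa using congrArg Subtype.val (IsKleinFour.mul_self (⟨x, hx⟩ : V))
    have hVc : ∀ x ∈ V, ∀ y ∈ V, x * y = y * x := fun x hx y hy => by
      rw [← inv_eq_of_mul_eq_one_right (hV2 _ (V.mul_mem hx hy)), mul_inv_rev,
        inv_eq_of_mul_eq_one_right (hV2 x hx), inv_eq_of_mul_eq_one_right (hV2 y hy)]
    obtain ⟨v, hv, hv1, hvz⟩ : ∃ v ∈ V, v ≠ 1 ∧ v ≠ z := by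
      by_contra hcon
      push Not at hcon
      have hsub : (V : Set P) ⊆ {1, z} := fun x hx => by
        by_cases h : x = 1
        · exact Or.inl h
        · exact Or.inr (hcon x hx h)
      have := Set.ncard_le_ncard hsub
      rw [← Nat.card_coe_set_eq, SetLike.coe_sort_coe, IsKleinFour.card_four, Set.ncard_pair (Ne.symm hz1)] at this
      omega
    obtain ⟨e, heE, he1, hez, hve⟩ := hcent v (hV2 v hv)
    have he2 : e * e = 1 := by rw [← pow_two]; exact hE2 e heE
    obtain ⟨hA, hAc⟩ := four v z (hV2 v hv) hz2 (hzc v) hv1 hz1 hvz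
    obtain ⟨hW, hWc⟩ := four e z he2 hz2 (hzc e) he1 hz1 hez
    have r1 : ∀ a ∈ V, ∀ b ∈ Subgroup.closure ({v, z} : Set P), a * b = b * a := fun a ha b hb =>
      hAc b hb a (hVc a ha v hv) (hzc a)
    have r2 : ∀ a ∈ Subgroup.closure ({v, z} : Set P), ∀ b ∈ Subgroup.closure ({e, z} : Set P), a * b = b * a :=
      fun a ha b hb => hWc b hb a (hAc a ha e hve.symm (hzc e)).symm (hzc a)
    refine ⟨_, hW, (Subgroup.closure_le _).2 (by rintro x (rfl | rfl) <;> assumption), ?_, ?_⟩
    · exact (Relation.ReflTransGen.single ⟨hV, hA, r1⟩).tail ⟨hA, hW, r2⟩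
    · exact (Relation.ReflTransGen.single ⟨hW, hA, fun a ha b hb => (r2 b hb a ha).symm⟩).tail
        ⟨hA, hV, fun a ha b hb => (r1 b hb a ha).symm⟩
  intro U V hU hV
  obtain ⟨W, hW, hWE, hUW, -⟩ := hrel U hU
  obtain ⟨W', hW', hWE', -, hW'V⟩ := hrel V hV
  exact (hUW.tail ⟨hW, hW', fun a ha b hb => hEc a (hWE ha) b (hWE' hb)⟩).trans hW'V

end Cfsg.Agent.S0502
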