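import Cfsg.Statements.S0520
import Mathlib

set_option autoImplicit false
open Cfsg

namespace Cfsg.Agent.S0520

theorem not_prankLE_one_iff {G : Type*} [Group G] [Finite G] (h : ¬ Cfsg.PRankLE 2 1 G) :
    ∃ V : Subgroup G, IsKleinFour V := by
  classical
  simp only [Cfsg.PRankLE, not_forall, not_le, pow_one] at h
  obtain ⟨A, hA, hA2, hlt⟩ := h
  haveI := Fintype.ofFinite A
  have hone : 1 < (Finset.univ.erase (1 : A)).card := by
    rw [Finset.card_erase_of_mem (Finset.mem_univ _), Finset.card_univ, ← Nat.card_eq_fintype_card]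
    omega
  obtain ⟨a, ha, b, hb, hab⟩ := Finset.one_lt_card.1 hone
  simp only [Finset.mem_erase, Finset.mem_univ, and_true] at ha hb
  have hsq : ∀ x : A, x * x = 1 := fun x => Subtype.ext (by simpa [pow_two] using hA2 x x.2)
  have hiv : ∀ x : A, x⁻¹ = x := fun x => inv_eq_of_mul_eq_one_right (hsq x)
  let V : Subgroup A :=
    { carrier := {1, a, b, a * b}
      one_mem' := Or.inl rfl
      mul_mem' := by
        intro x y hx hy
        have h1 : a * (a * b) = b := by rw [← mul_assoc, hsq, one_mul]
        have h2 : b * (a * b) = a := by rw [mul_comm' a b, ← mul_assoc, hsq, one_mul]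
        have h3 : a * b * a = b := by rw [mul_comm' a b, mul_assoc, hsq, mul_one]
        have h4 : a * b * b = a := by rw [mul_assoc, hsq, mul_one]
        have h5 : b * a = a * b := mul_comm' _ _
        simp only [Set.mem_insert_iff, Set.mem_singleton_iff] at hx hy ⊢
        rcases hx with rfl | rfl | rfl | rfl <;> rcases hy with rfl | rfl | rfl | rfl <;> simp [hsq, h1, h2, h3, h4, h5]
      inv_mem' := fun {x} hx => by rwa [hiv] }
  refine ⟨V.map A.subtype, ?_⟩
  have hab1 : a * b ≠ 1 := fun h => hab ((eq_inv_of_mul_eq_one_left h).trans (hiv b))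
  have hc : Nat.card V = 4 := by
    rw [← SetLike.coe_sort_coe, Nat.card_coe_set_eq]
    show ({1, a, b, a * b} : Set A).ncard = 4
    rw [Set.ncard_insert_of_notMem ?_ (Set.toFinite _), Set.ncard_eq_three.2 ⟨a, b, a * b, hab,
      fun h => hb (left_eq_mul.1 h), fun h => ha (right_eq_mul.1 h), rfl⟩]
    simp [Ne.symm ha, Ne.symm hb, Ne.symm hab1]
  refine ⟨by rw [Subgroup.card_map_of_injective A.subtype_injective, hc], ?_⟩
  apply Nat.dvd_antisymm
  · refine Monoid.exponent_dvd_of_forall_pow_eq_one ?_
    rintro ⟨_, x, hx, rfl⟩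
    exact Subtype.ext (by simpa using hA2 x x.2)
  · have : orderOf (⟨(a : G), a, Or.inr (Or.inl rfl), rfl⟩ : V.map A.subtype) = 2 :=
      orderOf_eq_prime (Subtype.ext (by simpa using hA2 a a.2))
        (fun h => ha (Subtype.val_injective (by simpa using congrArg (fun z : V.map A.subtype => (z : G)) h)))
    rw [← this]; exact Monoid.order_dvd_exponent _

theorem isPGroup_of_four {G : Type*} [Group G] {V : Subgroup G} (hV : IsKleinFour V) : IsPGroup 2 V :=
  fun x => ⟨1, by simpa [pow_two] using hV.mul_self x⟩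

theorem not_prankLE_one_of_le {G : Type*} [Group G] [Finite G] {V W : Subgroup G} (hV : IsKleinFour V) (hVW : V ≤ W) :
    ¬ Cfsg.PRankLE 2 1 W := by
  intro h
  have h4 := h (V.subgroupOf W) ⟨⟨fun x y => Subtype.ext (Subtype.ext (by
    have hh : ∀ u v : V, u * v = v * u := fun u v => by
      rw [← inv_eq_of_mul_eq_one_right (hV.mul_self (u * v)), mul_inv_rev,
        inv_eq_of_mul_eq_one_right (hV.mul_self u), inv_eq_of_mul_eq_one_right (hV.mul_self v)]
    simpa using congrArg Subtype.val (hh ⟨_, x.2⟩ ⟨_, y.2⟩)))⟩⟩ (fun a ha => Subtype.ext (by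
      simpa [pow_two] using congrArg Subtype.val (hV.mul_self ⟨_, ha⟩)))
  rw [Nat.card_congr (Subgroup.subgroupOfEquivOfLe hVW).toEquiv, hV.card_four] at h4
  omega

/-- Let G be a finite group of 2-rank at least 2 and S a Sylow 2-subgroup whose commuting graph of Klein four-subgroups is
connected. Then the commuting graph of Klein four-subgroups of G is disconnected if and only if the 2-generated core — the
subgroup generated by the normalizers N_G(Q) of the subgroups Q of S that contain a Klein four-group — is a proper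
subgroup of G. -/
theorem result {G : Type*} [Group G] [Finite G] (h2 : ¬ Cfsg.PRankLE 2 1 G)
    (S : Sylow 2 G) (hS : Cfsg.IsFourConnected (S : Subgroup G)) :
    ¬ Cfsg.IsFourConnected G ↔
      (⨆ Q : {Q : Subgroup G // Q ≤ (S : Subgroup G) ∧ ¬ Cfsg.PRankLE 2 1 Q},
          Subgroup.normalizer ((Q : Subgroup G) : Set G)) ≠ ⊤ := by
  haveI : Fact (Nat.Prime 2) := ⟨Nat.prime_two⟩
  set Γ : Subgroup G := ⨆ Q : {Q : Subgroup G // Q ≤ (S : Subgroup G) ∧ ¬ Cfsg.PRankLE 2 1 Q},
      Subgroup.normalizer ((Q : Subgroup G) : Set G) with hΓ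
  let R : Subgroup G → Subgroup G → Prop := fun A B =>
    IsKleinFour A ∧ IsKleinFour B ∧ ∀ a ∈ A, ∀ b ∈ B, a * b = b * a
  let c : G → Subgroup G → Subgroup G := fun g A => A.map (MulAut.conj g).toMonoidHom
  have cc : ∀ g h A, c g (c h A) = c (g * h) A := fun g h A => by
    simp only [c, Subgroup.map_map]; congr 1; ext z; simp [mul_assoc]
  have c1 : ∀ A, c 1 A = A := fun A => by
    simp only [c]; ext z; simp
  have mem_c : ∀ g A x, x ∈ c g A ↔ g⁻¹ * x * g ∈ A := fun g A x => by
    constructor
    · rintro ⟨y, hy, rfl⟩; simpa [mul_assoc] using hy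
    · intro h; exact ⟨_, h, by simp [mul_assoc]⟩
  have cmono : ∀ g A B, A ≤ B → c g A ≤ c g B := fun g A B h => Subgroup.map_mono h
  have cfour : ∀ (g : G) (A : Subgroup G), IsKleinFour A → IsKleinFour (c g A) := fun g A hA => by
    refine ⟨?_, ?_⟩
    · show Nat.card (A.map (MulAut.conj g).toMonoidHom) = 4
      rw [Subgroup.card_map_of_injective (MulAut.conj g).injective, hA.card_four]
    · rw [← Monoid.exponent_eq_of_mulEquiv (A.equivMapOfInjective _ (MulAut.conj g).injective), hA.exponent_two]
  have cN : ∀ g A, c g A = A → g ∈ Subgroup.normalizer (A : Set G) := fun g A h => by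
    rw [Subgroup.mem_normalizer_iff]
    intro x
    conv_rhs => rw [← h]
    rw [mem_c]; simp [mul_assoc]
  -- normalizers of rank two subgroups of `S`
  have hN : ∀ V Q : Subgroup G, IsKleinFour V → V ≤ Q → Q ≤ (S : Subgroup G) →
      Subgroup.normalizer (Q : Set G) ≤ Γ := fun V Q hV hVQ hQ =>
    le_iSup (fun Q : {Q : Subgroup G // Q ≤ (S : Subgroup G) ∧ ¬ Cfsg.PRankLE 2 1 Q} =>
      Subgroup.normalizer ((Q : Subgroup G) : Set G)) ⟨Q, hQ, not_prankLE_one_of_le hV hVQ⟩
  -- a four-group inside every Sylow subgroup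
  have hsylc : ∀ T : Sylow 2 G, ∃ g : G, (T : Subgroup G) = c g (S : Subgroup G) := fun T => by
    obtain ⟨g, hg⟩ := MulAction.exists_smul_eq G S T
    exact ⟨g, by rw [← hg]; rfl⟩
  obtain ⟨V₀, hV₀⟩ := not_prankLE_one_iff h2
  obtain ⟨T₀, hT₀⟩ := (isPGroup_of_four hV₀).exists_le_sylow
  obtain ⟨g₀, hg₀⟩ := hsylc T₀
  set V := c g₀⁻¹ V₀ with hVdef
  have hV : IsKleinFour V := cfour _ _ hV₀
  have hVS : V ≤ (S : Subgroup G) := by
    have := cmono g₀⁻¹ _ _ (hg₀ ▸ hT₀)
    rwa [cc, inv_mul_cancel, c1] at this
  refine ⟨fun hcon htop => hcon ?_, fun hne hcon => hne ?_⟩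
  · -- `Γ = ⊤` gives connectivity
    have hRsymm : ∀ {A B}, Relation.ReflTransGen R A B → Relation.ReflTransGen R B A := by
      intro A B h
      induction h with
      | refl => exact .refl
      | tail _ h' ih => exact (Relation.ReflTransGen.single ⟨h'.2.1, h'.1, fun a ha b hb => (h'.2.2 b hb a ha).symm⟩).trans ih
    have hRc : ∀ g {A B}, Relation.ReflTransGen R A B → Relation.ReflTransGen R (c g A) (c g B) := by
      intro g A B h
      induction h with
      | refl => exact .refl
      | tail _ h' ih =>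
        refine ih.tail ⟨cfour g _ h'.1, cfour g _ h'.2.1, fun a ha b hb => ?_⟩
        rw [mem_c] at ha hb
        have := h'.2.2 _ ha _ hb
        calc a * b = g * ((g⁻¹ * a * g) * (g⁻¹ * b * g)) * g⁻¹ := by group
          _ = g * ((g⁻¹ * b * g) * (g⁻¹ * a * g)) * g⁻¹ := by rw [this]
          _ = b * a := by group
    have hinS : ∀ A B : Subgroup G, IsKleinFour A → IsKleinFour B → A ≤ (S : Subgroup G) → B ≤ (S : Subgroup G) →
        Relation.ReflTransGen R A B := by
      intro A B hA hB hAS hBS
      have e : ∀ C : Subgroup G, IsKleinFour C → C ≤ (S : Subgroup G) → IsKleinFour (C.subgroupOf (S : Subgroup G)) :=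
        fun C hC hCS => ⟨by rw [Nat.card_congr (Subgroup.subgroupOfEquivOfLe hCS).toEquiv, hC.card_four],
          by rw [Monoid.exponent_eq_of_mulEquiv (Subgroup.subgroupOfEquivOfLe hCS), hC.exponent_two]⟩
      have key : ∀ C D, Relation.ReflTransGen (fun A B : Subgroup (S : Subgroup G) =>
          IsKleinFour A ∧ IsKleinFour B ∧ ∀ a ∈ A, ∀ b ∈ B, a * b = b * a) C D →
          Relation.ReflTransGen R (C.map (S : Subgroup G).subtype) (D.map (S : Subgroup G).subtype) := by
        intro C D h
        induction h with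
        | refl => exact .refl
        | tail _ h' ih =>
          refine ih.tail ⟨?_, ?_, ?_⟩
          · exact ⟨by rw [Subgroup.card_map_of_injective (Subgroup.subtype_injective _), h'.1.card_four],
              by rw [← Monoid.exponent_eq_of_mulEquiv (Subgroup.equivMapOfInjective _ _ (Subgroup.subtype_injective _)), h'.1.exponent_two]⟩
          · exact ⟨by rw [Subgroup.card_map_of_injective (Subgroup.subtype_injective _), h'.2.1.card_four],
              by rw [← Monoid.exponent_eq_of_mulEquiv (Subgroup.equivMapOfInjective _ _ (Subgroup.subtype_injective _)), h'.2.1.exponent_two]⟩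
          · rintro _ ⟨a, ha, rfl⟩ _ ⟨b, hb, rfl⟩
            exact congrArg Subtype.val (h'.2.2 a ha b hb)
      have := key _ _ (hS _ _ (e A hA hAS) (e B hB hBS))
      rwa [Subgroup.map_subgroupOf_eq_of_le hAS, Subgroup.map_subgroupOf_eq_of_le hBS] at this
    -- the stabilizer of the component of `V`
    let H : Subgroup G :=
      { carrier := {g | Relation.ReflTransGen R V (c g V)}
        one_mem' := by show Relation.ReflTransGen R V (c 1 V); rw [c1]
        mul_mem' := fun {g h} hg hh => by
          show Relation.ReflTransGen R V (c (g * h) V)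
          rw [← cc]; exact Relation.ReflTransGen.trans hg (hRc g hh)
        inv_mem' := fun {g} hg => by
          show Relation.ReflTransGen R V (c g⁻¹ V)
          have := hRc g⁻¹ (hRsymm hg)
          rwa [cc, inv_mul_cancel, c1] at this }
    have hΓH : Γ ≤ H := by
      refine iSup_le fun Q => ?_
      intro g hg
      obtain ⟨W, hW⟩ := not_prankLE_one_iff Q.2.2
      set W' := W.map (Q : Subgroup G).subtype
      have hW' : IsKleinFour W' :=
        ⟨by rw [Subgroup.card_map_of_injective (Subgroup.subtype_injective _), hW.card_four],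
          by rw [← Monoid.exponent_eq_of_mulEquiv (Subgroup.equivMapOfInjective _ _ (Subgroup.subtype_injective _)), hW.exponent_two]⟩
      have hWQ : W' ≤ (Q : Subgroup G) := Subgroup.map_subtype_le W
      have hgW : c g W' ≤ (Q : Subgroup G) := by
        intro x hx
        rw [mem_c] at hx
        have := (Subgroup.mem_normalizer_iff.1 hg (g⁻¹ * x * g)).1 (hWQ hx)
        simpa [mul_assoc] using this
      show Relation.ReflTransGen R V (c g V)
      exact (hinS V _ hV (cfour g _ hW') hVS (hgW.trans Q.2.1)).trans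
        (hRc g (hinS W' V hW' hV (hWQ.trans Q.2.1) hVS))
    intro A B hA hB
    have hall : ∀ C : Subgroup G, IsKleinFour C → Relation.ReflTransGen R V C := by
      intro C hC
      obtain ⟨T, hT⟩ := (isPGroup_of_four hC).exists_le_sylow
      obtain ⟨g, hg⟩ := hsylc T
      have hgH : g ∈ H := hΓH (by rw [htop]; trivial)
      have hC' : c g⁻¹ C ≤ (S : Subgroup G) := by
        have := cmono g⁻¹ _ _ (hg ▸ hT)
        rwa [cc, inv_mul_cancel, c1] at this
      have := hRc g (hinS V _ hV (cfour g⁻¹ _ hC) hVS hC')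
      rw [cc g g⁻¹ C, mul_inv_cancel, c1] at this
      exact Relation.ReflTransGen.trans hgH this
    exact (hRsymm (hall A hA)).trans (hall B hB)
  · -- connectivity gives `Γ = ⊤`
    let Good : Sylow 2 G → Prop := fun T => ∃ γ ∈ Γ, (T : Subgroup G) = c γ (S : Subgroup G)
    -- all Sylow subgroups containing a four-group of a good one are good
    have key : ∀ n, ∀ (T T' : Sylow 2 G) (U : Subgroup G), Good T → IsKleinFour U →
        U ≤ (T : Subgroup G) ⊓ (T' : Subgroup G) →
        Nat.card G - Nat.card ↥((T : Subgroup G) ⊓ (T' : Subgroup G)) = n → Good T' := by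
      intro n
      induction n using Nat.strong_induction_on with
      | _ n ih =>
        intro T T' U hT hU hUD hn
        set D := (T : Subgroup G) ⊓ (T' : Subgroup G) with hD
        by_cases hDT : D = (T : Subgroup G)
        · have : (T : Subgroup G) ≤ (T' : Subgroup G) := hDT ▸ inf_le_right
          rwa [show T' = T from Sylow.ext (T.3 T'.2 this)]
        by_cases hDT' : D = (T' : Subgroup G)
        · have : (T' : Subgroup G) ≤ (T : Subgroup G) := hDT' ▸ inf_le_left
          rwa [show T' = T from Sylow.ext (T'.3 T.2 this).symm]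
        obtain ⟨γ, hγ, hTγ⟩ := hT
        have hgrow : ∀ P : Sylow 2 G, D ≤ (P : Subgroup G) → D ≠ (P : Subgroup G) →
            D < (P : Subgroup G) ⊓ Subgroup.normalizer (D : Set G) := by
          intro P hle hne'
          haveI := P.2.isNilpotent
          have hlt' : D.subgroupOf (P : Subgroup G) < ⊤ := by
            rw [lt_top_iff_ne_top, Ne, Subgroup.subgroupOf_eq_top]
            exact fun h => hne' (le_antisymm hle h)
          obtain ⟨x, hx, hx'⟩ := SetLike.exists_of_lt
            (Group.normalizerCondition_of_isNilpotent _ hlt')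
          refine lt_of_le_of_ne (le_inf hle Subgroup.le_normalizer) fun h => hx' ?_
          show (x : G) ∈ D
          rw [h]
          refine ⟨x.2, ?_⟩
          show (x : G) ∈ Subgroup.normalizer (D : Set G)
          rw [Subgroup.mem_normalizer_iff]
          intro y
          by_cases hy : y ∈ (P : Subgroup G)
          · simpa [Subgroup.mem_subgroupOf] using Subgroup.mem_normalizer_iff.1 hx ⟨y, hy⟩
          · refine ⟨fun h => absurd (hle h) hy, fun h => absurd ?_ hy⟩
            have := mul_mem (mul_mem (inv_mem x.2) (hle h)) x.2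
            simpa [mul_assoc] using this
        have hA := hgrow T inf_le_left hDT
        have hB := hgrow T' inf_le_right hDT'
        set N := Subgroup.normalizer (D : Set G) with hNdef
        obtain ⟨R₀, hR₀⟩ := ((T.2.to_le inf_le_left).comap_subtype (H := (T : Subgroup G) ⊓ N) (K := N)).exists_le_sylow
        obtain ⟨R₁, hR₁⟩ := ((T'.2.to_le inf_le_left).comap_subtype (H := (T' : Subgroup G) ⊓ N) (K := N)).exists_le_sylow
        obtain ⟨T₁, hT₁⟩ := (R₀.2.map N.subtype).exists_le_sylow
        have hAT₁ : (T : Subgroup G) ⊓ N ≤ (T₁ : Subgroup G) := fun x hx =>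
          hT₁ ⟨⟨x, hx.2⟩, hR₀ (show (⟨x, hx.2⟩ : N) ∈ ((T : Subgroup G) ⊓ N).comap N.subtype from hx), rfl⟩
        have hUD' : U ≤ D := hUD
        have hT₁good : Good T₁ := by
          refine ih _ ?_ T T₁ U ⟨γ, hγ, hTγ⟩ hU (fun x hx => ⟨(hUD hx).1, hAT₁ (hA.le (hUD' hx))⟩) rfl
          rw [← hn]
          have hlt : D < (T : Subgroup G) ⊓ (T₁ : Subgroup G) :=
            lt_of_lt_of_le hA (le_inf inf_le_left hAT₁)
          have hc1 := Set.ncard_lt_ncard (SetLike.coe_ssubset_coe.2 hlt)
          rw [← Nat.card_coe_set_eq, ← Nat.card_coe_set_eq] at hc1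
          have hc2 := Subgroup.card_le_card_group ((T : Subgroup G) ⊓ (T₁ : Subgroup G))
          simp only [SetLike.coe_sort_coe] at hc1
          omega
        obtain ⟨m, hm⟩ := MulAction.exists_smul_eq N R₁ R₀
        obtain ⟨T₂, hT₂eq⟩ : ∃ T₂ : Sylow 2 G, T₂ = (m : G) • T' := ⟨_, rfl⟩
        have hT₂ : (T₂ : Subgroup G) = c (m : G) (T' : Subgroup G) := by rw [hT₂eq]; rfl
        have hBT : c (m : G) ((T' : Subgroup G) ⊓ N) ≤ (T₁ : Subgroup G) := by
          rintro _ ⟨x, hx, rfl⟩
          refine hT₁ ⟨m * ⟨x, hx.2⟩ * m⁻¹, ?_, rfl⟩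
          rw [← hm, Sylow.smul_def]
          exact ⟨_, hR₁ (show (⟨x, hx.2⟩ : N) ∈ ((T' : Subgroup G) ⊓ N).comap N.subtype from hx), rfl⟩
        have hUm : U ≤ c (m : G) D := by
          intro x hx
          rw [mem_c]
          have := (Subgroup.mem_normalizer_iff.1 (N.inv_mem m.2) x).1 (hUD' hx)
          simpa using this
        have hT₂good : Good T₂ := by
          refine ih _ ?_ T₁ T₂ U hT₁good hU
            (le_inf ((hUm.trans (cmono _ _ _ hB.le)).trans hBT)
              ((hUm.trans (cmono _ _ _ inf_le_right)).trans hT₂.ge)) rfl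
          rw [← hn]
          have hcD : Nat.card D = Nat.card ↥(c (m : G) D) :=
            (Subgroup.card_map_of_injective (MulAut.conj (m : G)).injective).symm
          have hlt : c (m : G) D < (T₁ : Subgroup G) ⊓ (T₂ : Subgroup G) := by
            refine lt_of_lt_of_le ((Subgroup.map_lt_map_iff_of_injective (MulAut.conj (m : G)).injective).2 hB) ?_
            exact le_inf hBT (by rw [hT₂]; exact cmono _ _ _ inf_le_left)
          have hc1 := Set.ncard_lt_ncard (SetLike.coe_ssubset_coe.2 hlt)
          rw [← Nat.card_coe_set_eq, ← Nat.card_coe_set_eq] at hc1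
          have hc2 := Subgroup.card_le_card_group ((T₁ : Subgroup G) ⊓ (T₂ : Subgroup G))
          simp only [SetLike.coe_sort_coe] at hc1
          omega
        -- `m ∈ Γ`
        have hmΓ : (m : G) ∈ Γ := by
          have hD' : c γ⁻¹ D ≤ (S : Subgroup G) := by
            refine (cmono γ⁻¹ _ _ (inf_le_left : D ≤ (T : Subgroup G))).trans ?_
            rw [hTγ, cc, inv_mul_cancel, c1]
          have hfix : c (γ⁻¹ * m * γ) (c γ⁻¹ D) = c γ⁻¹ D := by
            have hmD : c (m : G) D = D := by
              ext x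
              rw [mem_c]
              simpa using (Subgroup.mem_normalizer_iff.1 (N.inv_mem m.2) x).symm
            rw [cc, mul_inv_cancel_right, ← cc, hmD]
          have := hN _ _ (cfour γ⁻¹ _ hU) (cmono _ _ _ hUD') hD' (cN _ _ hfix)
          have := Γ.mul_mem (Γ.mul_mem hγ this) (Γ.inv_mem hγ)
          simpa [mul_assoc] using this
        obtain ⟨δ, hδ, hδ'⟩ := hT₂good
        refine ⟨(m : G)⁻¹ * δ, Γ.mul_mem (Γ.inv_mem hmΓ) hδ, ?_⟩
        rw [← cc, ← hδ', hT₂, cc, inv_mul_cancel, c1]
    have hall : ∀ C : Subgroup G, Relation.ReflTransGen R V C →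
        ∀ T : Sylow 2 G, C ≤ (T : Subgroup G) → Good T := by
      intro C h
      induction h with
      | refl => exact fun T hT => key _ S T V ⟨1, Γ.one_mem, (c1 _).symm⟩ hV (le_inf hVS hT) rfl
      | @tail B C _ h' ih =>
        intro T hT
        have hle : C ≤ Subgroup.normalizer (B : Set G) := fun x hx => by
          rw [Subgroup.mem_normalizer_iff]
          intro b
          constructor
          · intro hb; rw [← h'.2.2 b hb x hx]; simpa using hb
          · intro hb
            have e := h'.2.2 _ hb x hx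
            have : x * b * x⁻¹ = b := by
              calc x * b * x⁻¹ = x⁻¹ * ((x * b * x⁻¹) * x) := by rw [e]; group
                _ = b := by group
            rwa [← this]
        obtain ⟨T₁, hT₁⟩ := ((isPGroup_of_four h'.1).to_sup_of_normal_left'
          (isPGroup_of_four h'.2.1) hle).exists_le_sylow
        exact key _ T₁ T C (ih T₁ (le_sup_left.trans hT₁)) h'.2.1 (le_inf (le_sup_right.trans hT₁) hT) rfl
    rw [eq_top_iff]
    intro g _
    obtain ⟨γ, hγ, hγ'⟩ := hall (c g V) (hcon V _ hV (cfour g V hV)) (g • S) (cmono g _ _ hVS)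
    have hfix : c (γ⁻¹ * g) (S : Subgroup G) = (S : Subgroup G) := by
      rw [← cc, show c g (S : Subgroup G) = c γ (S : Subgroup G) from hγ', cc, inv_mul_cancel, c1]
    simpa using Γ.mul_mem hγ (hN V (S : Subgroup G) hV hVS le_rfl (cN _ _ hfix))

end Cfsg.Agent.S0520
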