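import Cfsg.Statements.S0521
import Mathlib
import Cfsg.Agent.Lib.Core.Layer
import Cfsg.Agent.Lib.Core.PSolvable
import Cfsg.Agent.Lib.Coprime.Action
import Cfsg.Agent.Lib.PGroup.Basic

set_option autoImplicit false
open Cfsg

namespace Cfsg.Agent.S0521

open Subgroup
open scoped commutatorElement

/-- Two transvection-like automorphisms of `p`-power order generating a group of odd order differ by an element
which cannot have order prime to `p` unless it is trivial. -/
theorem transvection_pair {M : Type*} [CommGroup M] [Finite M] {p : ℕ} [hp : Fact p.Prime] (hp2 : p ≠ 2)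
    (hM : ∀ v : M, v ^ p = 1) (s t : MulAut M) {n m : ℕ} (hs : s ^ p ^ n = 1) (ht : t ^ p ^ m = 1)
    (hodd : ∀ w ∈ closure ({s, t} : Set (MulAut M)), Odd (orderOf w))
    {L L' : Subgroup M} (hL : Nat.card L = p) (hL' : Nat.card L' = p)
    (htL : ∀ v, t v * v⁻¹ ∈ L) (hsL : ∀ v, s v * v⁻¹ ∈ L') (hu : (orderOf (s * t⁻¹)).Coprime p) : s * t⁻¹ = 1 := by
  -- a fixed line is centralized
  have hfix : ∀ (g : MulAut M) (k : ℕ) (N : Subgroup M), g ^ p ^ k = 1 → Nat.card N = p → (∀ v, g v * v⁻¹ ∈ N) →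
      ∀ l ∈ N, g l = l := by
    intro g k N hg hN hgN l hl
    have hmem : g l ∈ N := by
      have := mul_mem (hgN l) hl
      rwa [inv_mul_cancel_right] at this
    by_cases hl1 : l = 1
    · rw [hl1, map_one]
    have hgen : N = zpowers l := (eq_of_le_of_card_ge (zpowers_le.2 hl) (by
      rw [hN, Nat.card_zpowers, orderOf_eq_prime (hM l) hl1])).symm
    rw [hgen, ← mem_powers_iff_mem_zpowers, Submonoid.mem_powers_iff] at hmem
    obtain ⟨e, he⟩ := hmem
    have hpow : ∀ j : ℕ, (g ^ j) l = l ^ e ^ j := by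
      intro j
      induction j with
      | zero => simp
      | succ j ih => rw [pow_succ', MulAut.mul_apply, ih, map_pow, ← he, ← pow_mul, ← pow_succ']
    have h1 : l ^ e ^ p ^ k = l ^ 1 := by rw [pow_one, ← hpow, hg, MulAut.one_apply]
    rw [pow_inj_mod, orderOf_eq_prime (hM l) hl1] at h1
    have h2 : ∀ k, ((e : ZMod p)) ^ p ^ k = e := by
      intro k
      induction k with
      | zero => simp
      | succ k ih => rw [pow_succ, pow_mul, ih, ZMod.pow_card]
    have h3 : (e : ZMod p) = 1 := by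
      rw [← h2 k]
      have := (ZMod.natCast_eq_natCast_iff' _ _ _).2 h1
      push_cast at this; exact this
    rw [← he]
    conv_rhs => rw [← pow_one l]
    rw [pow_inj_mod, orderOf_eq_prime (hM l) hl1, ← ZMod.natCast_eq_natCast_iff', h3, Nat.cast_one]
  set u := s * t⁻¹ with hu'
  have hu1 : u ^ p = 1 → u = 1 := fun h => orderOf_eq_one_iff.1
    (Nat.eq_one_of_dvd_coprimes hu dvd_rfl (orderOf_dvd_of_pow_eq_one h))
  have hs' : ∀ v ∈ L', s v = v := hfix s n L' hs hL' hsL
  have ht' : ∀ v ∈ L, t v = v := hfix t m L ht hL htL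
  have hti : ∀ v, t v = v → t⁻¹ v = v := fun v h => by
    conv_lhs => rw [← h]
    rw [← MulAut.mul_apply, inv_mul_cancel, MulAut.one_apply]
  have hti' : ∀ v, t⁻¹ v * v⁻¹ ∈ L := fun v => by
    have h := inv_mem (htL (t⁻¹ v))
    rw [← MulAut.mul_apply, mul_inv_cancel, MulAut.one_apply, mul_inv_rev, inv_inv] at h
    exact h
  -- if both lines are fixed by `u`, then `u` is trivial
  have hend : (∀ l ∈ L, u l = l) → (∀ l ∈ L', u l = l) → u = 1 := by
    intro hL1 hL2
    refine hu1 (MulEquiv.ext fun v => ?_)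
    have hd : u v * v⁻¹ ∈ L ⊔ L' := by
      have : u v * v⁻¹ = (s (t⁻¹ v) * (t⁻¹ v)⁻¹) * (t⁻¹ v * v⁻¹) := by rw [hu', MulAut.mul_apply]; group
      rw [this]
      exact mul_mem (Subgroup.mem_sup_right (hsL _)) (Subgroup.mem_sup_left (hti' v))
    have hfixd : u (u v * v⁻¹) = u v * v⁻¹ := by
      obtain ⟨x, hx, y, hy, hxy⟩ := Subgroup.mem_sup.1 hd
      rw [← hxy, map_mul, hL1 x hx, hL2 y hy]
    have hpow : ∀ j : ℕ, (u ^ j) v = v * (u v * v⁻¹) ^ j := by
      intro j
      induction j with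
      | zero => simp
      | succ j ih =>
        rw [pow_succ', MulAut.mul_apply, ih, map_mul, map_pow, hfixd, pow_succ']
        rw [← mul_assoc, ← mul_assoc, mul_comm v (u v), mul_inv_cancel_right]
    rw [hpow, hM, mul_one, MulAut.one_apply]
  obtain ⟨l, hl, hl1⟩ : ∃ l ∈ L, l ≠ 1 := L.bot_or_exists_ne_one.resolve_left fun h => by
    rw [h, Subgroup.card_bot] at hL; exact hp.out.one_lt.ne hL
  obtain ⟨l', hl', hl'1⟩ : ∃ l ∈ L', l ≠ 1 := L'.bot_or_exists_ne_one.resolve_left fun h => by
    rw [h, Subgroup.card_bot] at hL'; exact hp.out.one_lt.ne hL'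
  have hgenL : ∀ x ∈ L, ∃ i : ℕ, l ^ i = x := fun x hx => by
    rw [← Submonoid.mem_powers_iff, mem_powers_iff_mem_zpowers,
      eq_of_le_of_card_ge (zpowers_le.2 hl) (by rw [hL, Nat.card_zpowers, orderOf_eq_prime (hM l) hl1])]
    exact hx
  have hgenL' : ∀ x ∈ L', ∃ i : ℕ, l' ^ i = x := fun x hx => by
    rw [← Submonoid.mem_powers_iff, mem_powers_iff_mem_zpowers,
      eq_of_le_of_card_ge (zpowers_le.2 hl') (by rw [hL', Nat.card_zpowers, orderOf_eq_prime (hM l') hl'1])]
    exact hx
  obtain ⟨a, ha⟩ := hgenL _ (htL l')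
  obtain ⟨b, hb⟩ := hgenL' _ (hsL l)
  have htl' : t l' = l' * l ^ a := by rw [ha, mul_comm, inv_mul_cancel_right]
  have hsl : s l = l * l' ^ b := by rw [hb, mul_comm, inv_mul_cancel_right]
  have hul : u l = l * l' ^ b := by rw [hu', MulAut.mul_apply, hti l (ht' l hl), hsl]
  have hfull : u l = l → u l' = l' → u = 1 := fun h1 h2 => hend
    (fun x hx => by obtain ⟨i, rfl⟩ := hgenL x hx; rw [map_pow, h1])
    (fun x hx => by obtain ⟨i, rfl⟩ := hgenL' x hx; rw [map_pow, h2])
  -- iterating a step of order dividing `p`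
  have hstep : ∀ (x y : M), u x = x * y → u y = y → y = 1 := by
    intro x y hx hy
    have hpw : ∀ j : ℕ, (u ^ j) x = x * y ^ j := by
      intro j
      induction j with
      | zero => simp
      | succ j ih => rw [pow_succ', MulAut.mul_apply, ih, map_mul, map_pow, hx, hy, pow_succ', mul_assoc]
    have h1 : y ^ orderOf u = 1 := by
      have := hpw (orderOf u)
      rwa [pow_orderOf_eq_one, MulAut.one_apply, left_eq_mul] at this
    exact orderOf_eq_one_iff.1 (Nat.eq_one_of_dvd_coprimes hu (orderOf_dvd_of_pow_eq_one h1) (orderOf_dvd_of_pow_eq_one (hM y)))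
  by_cases hab : l ^ a = 1
  · have hul' : u l' = l' := by
      rw [hu', MulAut.mul_apply, hti l' (by rw [htl', hab, mul_one]), hs' l' hl']
    have : l' ^ b = 1 := hstep l _ hul (by rw [map_pow, hul'])
    exact hfull (by rw [hul, this, mul_one]) hul'
  by_cases hbb : l' ^ b = 1
  · have hul1 : u l = l := by rw [hul, hbb, mul_one]
    have hti2 : t⁻¹ l' = l' * (l ^ a)⁻¹ := by
      apply t.injective
      rw [← MulAut.mul_apply, mul_inv_cancel, MulAut.one_apply, map_mul, map_inv, map_pow, ht' l hl, htl', mul_inv_cancel_right]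
    have hul2 : u l' = l' * (l ^ a)⁻¹ := by
      rw [hu', MulAut.mul_apply, hti2, map_mul, map_inv, map_pow, hs' l' hl', hsl, hbb, mul_one]
    have : (l ^ a)⁻¹ = 1 := hstep l' _ hul2 (by rw [map_inv, map_pow, hul1])
    exact absurd (inv_eq_one.1 this) hab
  exfalso
  have hinv : ∀ (x : M) (c : ℕ) (d : ℤ), x ≠ 1 → x ^ c ≠ 1 → ∃ i : ℕ, x ^ (c * i : ℕ) = x ^ d := by
    intro x c d hx hc
    have ho := orderOf_eq_prime (hM x) hx
    have hc0 : (c : ZMod p) ≠ 0 := fun h => hc (by
      rw [← orderOf_dvd_iff_pow_eq_one, ho]; exact (ZMod.natCast_eq_zero_iff _ _).1 h)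
    refine ⟨((c : ZMod p)⁻¹ * (d : ZMod p)).val, ?_⟩
    rw [← zpow_natCast, zpow_eq_zpow_iff_modEq, ho, ← ZMod.intCast_eq_intCast_iff]
    push_cast
    rw [ZMod.natCast_val, ZMod.cast_id', id, mul_inv_cancel_left₀ hc0]
  have htpow : ∀ i : ℕ, (t ^ i) l' = l' * l ^ (a * i) ∧ (t ^ i) l = l := by
    intro i
    induction i with
    | zero => simp
    | succ i ih =>
      refine ⟨?_, by rw [pow_succ', MulAut.mul_apply, ih.2, ht' l hl]⟩
      rw [pow_succ', MulAut.mul_apply, ih.1, map_mul, map_pow, htl', ht' l hl, mul_assoc, ← pow_add]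
      congr 2; ring
  have hspow : ∀ i : ℕ, (s ^ i) l = l * l' ^ (b * i) ∧ (s ^ i) l' = l' := by
    intro i
    induction i with
    | zero => simp
    | succ i ih =>
      refine ⟨?_, by rw [pow_succ', MulAut.mul_apply, ih.2, hs' l' hl']⟩
      rw [pow_succ', MulAut.mul_apply, ih.1, map_mul, map_pow, hsl, hs' l' hl', mul_assoc, ← pow_add]
      congr 2; ring
  obtain ⟨i, hi⟩ := hinv l a 1 hl1 hab
  obtain ⟨j, hj⟩ := hinv l' b (-1) hl'1 hbb
  obtain ⟨e1, e2⟩ := htpow i
  obtain ⟨f1, f2⟩ := hspow j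
  rw [hi, zpow_one] at e1
  rw [hj, zpow_neg_one] at f1
  set w := t ^ i * s ^ j * t ^ i with hw
  have hwl : w l = l'⁻¹ := by
    rw [hw, MulAut.mul_apply, MulAut.mul_apply, e2, f1, map_mul, e2, map_inv, e1, mul_inv_rev, ← mul_assoc,
      mul_inv_cancel, one_mul]
  have hwl' : w l' = l := by
    rw [hw, MulAut.mul_apply, MulAut.mul_apply, e1, map_mul, f2, f1, map_mul, map_mul, e1, e2, map_inv, e1, mul_inv_rev]
    simp [mul_comm, mul_left_comm, mul_assoc]
  have hw2 : (w ^ 2) l = l⁻¹ := by rw [pow_two, MulAut.mul_apply, hwl, map_inv, hwl']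
  obtain ⟨q, hq⟩ := hodd w (by
    rw [hw]
    exact mul_mem (mul_mem (pow_mem (Subgroup.subset_closure (show t ∈ ({s, t} : Set (MulAut M)) from Or.inr rfl)) i) (pow_mem (Subgroup.subset_closure (show s ∈ ({s, t} : Set (MulAut M)) from Or.inl rfl)) j))
      (pow_mem (Subgroup.subset_closure (show t ∈ ({s, t} : Set (MulAut M)) from Or.inr rfl)) i))
  have hw4 : ∀ k : ℕ, (w ^ (4 * k)) l = l := by
    intro k
    induction k with
    | zero => simp
    | succ k ih =>
      rw [show 4 * (k + 1) = 4 * k + 2 + 2 by ring, pow_add, pow_add, MulAut.mul_apply, MulAut.mul_apply, hw2, map_inv, hw2,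
        inv_inv, ih]
  have h2 : l⁻¹ = l := by
    rw [← hw2]
    conv_rhs => rw [← hw4 (q + 1)]
    rw [show 4 * (q + 1) = 2 * orderOf w + 2 by rw [hq]; ring, pow_add, pow_mul', pow_orderOf_eq_one, one_pow, one_mul]
  have : l ^ 2 = 1 := by rw [pow_two]; nth_rewrite 1 [← h2]; exact inv_mul_cancel l
  exact hp2 ((Nat.prime_dvd_prime_iff_eq hp.out Nat.prime_two).1
    (orderOf_eq_prime (hM l) hl1 ▸ orderOf_dvd_of_pow_eq_one this))

set_option maxHeartbeats 1000000 in
/-- An odd-order solvable group with trivial `O_{p'}` and cyclic derived Sylow `p`-subgroup is `p`-closed. -/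
theorem sylow_eq_pCore {X : Type*} [Group X] [Finite X] [Group.IsSolvable X] (hX : Odd (Nat.card X)) (p : ℕ)
    [hp : Fact p.Prime] (hO : Cfsg.pPrimeCore p X = ⊥) (S : Sylow p X) (hS : IsCyclic (commutator (S : Subgroup X))) :
    (S : Subgroup X) = Cfsg.pCore p X := by
  by_cases hp2 : p = 2
  · subst hp2
    have hbot : (S : Subgroup X) = ⊥ := by
      apply eq_bot_of_card_eq
      obtain ⟨k, hk⟩ := IsPGroup.iff_card.1 S.2
      rcases Nat.eq_zero_or_pos k with rfl | hk'
      · rw [hk, pow_zero]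
      · exact absurd (((dvd_pow_self 2 hk'.ne').trans (hk ▸ (S : Subgroup X).card_subgroup_dvd_card))) hX.not_two_dvd_nat
    exact le_antisymm (hbot ▸ bot_le) (Cfsg.Lib.Core.pCore_le_sylow S)
  refine le_antisymm ?_ (Cfsg.Lib.Core.pCore_le_sylow S)
  set P := Cfsg.pCore p X with hP
  have hPp : IsPGroup p P := Cfsg.Lib.Core.pCore_isPGroup p X
  haveI hPn : P.Normal := inferInstance
  set F0 := frattini P with hF0
  have hF0n : (F0.map P.subtype).Normal := Cfsg.Lib.Core.normal_map_char_of_normal F0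
  let act : X →* MulAut P := MulAut.conjNormal
  have hinvF : ∀ g : X, F0.map (act g).toMonoidHom = F0 := fun g => Subgroup.characteristic_iff_map_eq.1 inferInstance _
  let φ : X →* MulAut (P ⧸ F0) :=
    { toFun := fun g => QuotientGroup.congr F0 F0 (act g) (hinvF g)
      map_one' := MulEquiv.ext fun q => QuotientGroup.induction_on q fun x => by simp
      map_mul' := fun g h => MulEquiv.ext fun q => QuotientGroup.induction_on q fun x => by
        show QuotientGroup.mk (act (g * h) x) = (QuotientGroup.mk (act g (act h x)) : P ⧸ F0)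
        rw [map_mul, MulAut.mul_apply] }
  have hφ : ∀ g (x : P), φ g (QuotientGroup.mk x) = QuotientGroup.mk (act g x) := fun g x => rfl
  obtain ⟨hab, hexp⟩ := Cfsg.Lib.PGroup.isElementaryAbelian_quotient_frattini hPp
  letI : CommGroup (P ⧸ F0) :=
    { (inferInstance : Group (P ⧸ F0)) with
      mul_comm := fun a b => congrArg Subtype.val (hab.is_comm.comm ⟨a, mem_top a⟩ ⟨b, mem_top b⟩) }
  have hpow : ∀ v : P ⧸ F0, v ^ p = 1 := fun v => hexp v (mem_top v)
  -- the kernel is contained in `P`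
  have hker : φ.ker ≤ P := by
    refine Cfsg.Lib.Core.le_pCore' inferInstance fun g => ?_
    have hg : φ (g : X) = 1 := g.2
    obtain ⟨k, hk⟩ : ∃ k, ordCompl[p] (orderOf (g : X)) = k := ⟨_, rfl⟩
    refine ⟨(orderOf (g : X)).factorization p, Subtype.ext ?_⟩
    rw [coe_pow, coe_one]
    set y := (g : X) ^ p ^ (orderOf (g : X)).factorization p with hy
    have hyo : (orderOf y).Coprime p := by
      rw [hy, orderOf_pow, Nat.gcd_eq_right (Nat.ordProj_dvd _ _), Nat.coprime_comm, hp.out.coprime_iff_not_dvd]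
      exact Nat.not_dvd_ordCompl hp.out (orderOf_pos _).ne'
    have hyk : φ y = 1 := by rw [hy, map_pow, hg, one_pow]
    have hcop : (Nat.card (zpowers y)).Coprime (Nat.card P) := by
      obtain ⟨e, he⟩ := IsPGroup.iff_card.1 hPp
      rw [Nat.card_zpowers, he]; exact hyo.pow_right e
    have hcc : zpowers y ≤ centralizer (P : Set X) := by
      refine Cfsg.Lib.Coprime.le_centralizer_of_commutator_le_frattini ?_ hcop (Or.inl inferInstance) ?_
      · rw [Subgroup.normalizer_eq_top]; exact le_top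
      · rw [Subgroup.commutator_le]
        intro v hv w hw
        have hwk : φ w = 1 := (zpowers_le.2 (show y ∈ φ.ker from hyk)) hw
        refine ⟨⟨v, hv⟩ * (act w ⟨v, hv⟩)⁻¹, ?_, ?_⟩
        · rw [SetLike.mem_coe, ← QuotientGroup.eq_one_iff, QuotientGroup.mk_mul, QuotientGroup.mk_inv, ← hφ, hwk,
            MulAut.one_apply, mul_inv_cancel]
        · simp [act, commutatorElement_def, MulAut.conjNormal_apply, mul_assoc]
    have hyP := (Cfsg.Lib.Core.centralizer_pCore_le_of_isPSolvable Cfsg.Lib.Core.isPSolvable_of_isSolvable hO)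
      (hcc (mem_zpowers y))
    obtain ⟨e, he⟩ := IsPGroup.iff_orderOf.1 hPp ⟨y, hyP⟩
    rw [orderOf_mk] at he
    rcases Nat.eq_zero_or_pos e with rfl | he'
    · rw [pow_zero, orderOf_eq_one_iff] at he; exact he
    · rw [he] at hyo
      exact absurd ((Nat.coprime_pow_left_iff he' _ _).1 hyo) (by rw [Nat.coprime_self]; exact hp.out.ne_one)
  set Y := φ.range with hY
  haveI : Group.IsSolvable Y := Group.isSolvable_of_surjective φ.rangeRestrict_surjective
  have hYodd : ∀ w : Y, Odd (orderOf (w : MulAut (P ⧸ F0))) := fun w => by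
    obtain ⟨g, hg⟩ := w.2
    rw [← hg]
    exact Odd.of_dvd_nat hX ((orderOf_map_dvd φ g).trans (orderOf_dvd_natCard g))
  have hOY : Cfsg.pCore p Y = ⊥ := by
    set N := (Cfsg.pCore p Y).comap φ.rangeRestrict with hN
    have hle : N ≤ P := by
      refine Cfsg.Lib.Core.le_pCore' inferInstance ?_
      exact IsPGroup.comap_of_ker_isPGroup (Cfsg.Lib.Core.pCore_isPGroup p Y) _ (by
        rw [MonoidHom.ker_rangeRestrict]; exact hPp.to_le hker)
    rw [eq_bot_iff]
    intro w hw
    obtain ⟨g, rfl⟩ := φ.rangeRestrict_surjective w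
    have hgP : g ∈ P := hle hw
    rw [mem_bot]
    refine Subtype.ext (MulEquiv.ext fun q => ?_)
    refine QuotientGroup.induction_on q fun x => ?_
    show φ g (QuotientGroup.mk x) = QuotientGroup.mk x
    rw [hφ]
    have : act g x = ⟨g, hgP⟩ * x * (⟨g, hgP⟩ : P)⁻¹ := Subtype.ext (by simp [act, MulAut.conjNormal_apply])
    rw [this, QuotientGroup.mk_mul, QuotientGroup.mk_mul, QuotientGroup.mk_inv]
    rw [mul_comm (QuotientGroup.mk (⟨g, hgP⟩ : P) : P ⧸ F0), mul_inv_cancel_right]
  -- each element of `S` moves everything along a single line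
  obtain ⟨L, hLcard, hL⟩ : ∃ L : Subgroup (P ⧸ F0), Nat.card L ≤ p ∧ ∀ s ∈ (S : Subgroup X), ∀ v, φ s v * v⁻¹ ∈ L := by
    set D := ((commutator (S : Subgroup X)).map (S : Subgroup X).subtype).subgroupOf P with hD
    refine ⟨D.map (QuotientGroup.mk' F0), ?_, fun s hs v => ?_⟩
    · haveI : IsCyclic D := by
        haveI : IsCyclic ((commutator (S : Subgroup X)).map (S : Subgroup X).subtype) :=
          isCyclic_of_surjective _ ((Subgroup.equivMapOfInjective _ _ (Subgroup.subtype_injective _)).surjective)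
        exact isCyclic_of_injective (f := (P.subtype.comp D.subtype).codRestrict
          ((commutator (S : Subgroup X)).map (S : Subgroup X).subtype) fun u => u.2) (fun u v h => by
          have h' := congrArg Subtype.val h
          exact Subtype.ext (Subtype.ext h'))
      haveI : IsCyclic (D.map (QuotientGroup.mk' F0)) :=
        isCyclic_of_surjective _ (MonoidHom.subgroupMap_surjective (QuotientGroup.mk' F0) D)
      obtain ⟨c, hc⟩ := IsCyclic.exists_generator (α := D.map (QuotientGroup.mk' F0))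
      rw [← Subgroup.card_top, show (⊤ : Subgroup (D.map (QuotientGroup.mk' F0))) = zpowers c from (eq_top_iff.2 fun x _ => hc x).symm,
        Nat.card_zpowers]
      exact Nat.le_of_dvd hp.out.pos (orderOf_dvd_of_pow_eq_one (Subtype.ext (by rw [coe_pow, hpow, coe_one])))
    · refine QuotientGroup.induction_on v fun x => ?_
      rw [hφ, ← QuotientGroup.mk_inv, ← QuotientGroup.mk_mul]
      refine mem_map_of_mem _ ?_
      rw [hD, mem_subgroupOf]
      have hxS : (x : X) ∈ (S : Subgroup X) := Cfsg.Lib.Core.pCore_le_sylow S x.2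
      refine ⟨⁅(⟨s, hs⟩ : (S : Subgroup X)), ⟨x, hxS⟩⁆, ?_, ?_⟩
      · rw [_root_.commutator_def]; exact Subgroup.commutator_mem_commutator (mem_top _) (mem_top _)
      · simp [act, commutatorElement_def, MulAut.conjNormal_apply, mul_assoc]
  intro s hs
  apply hker
  rw [MonoidHom.mem_ker]
  by_contra hne
  set t : Y := φ.rangeRestrict s with ht
  have hpS : ∀ g : Y, (∃ e, g ^ p ^ e = 1) → ∀ h : Y, ∃ e, (h * g * h⁻¹) ^ p ^ e = 1 := fun g ⟨e, he⟩ h =>
    ⟨e, by rw [conj_pow, he, mul_one, mul_inv_cancel]⟩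
  obtain ⟨e, he⟩ := IsPGroup.iff_orderOf.1 S.2 ⟨s, hs⟩
  rw [orderOf_mk] at he
  have htp : t ^ p ^ e = 1 := by rw [ht, ← map_pow, ← he, pow_orderOf_eq_one, map_one]
  have hLp : Nat.card L = p := by
    refine le_antisymm hLcard ?_
    have hne' : L ≠ ⊥ := fun h => hne (MulEquiv.ext fun v => by
      have := hL s hs v
      rw [h, mem_bot, mul_inv_eq_one] at this
      exact this)
    obtain ⟨v, hv, hv1⟩ := L.bot_or_exists_ne_one.resolve_left hne'
    rw [← orderOf_eq_prime (hpow v) hv1]
    exact Nat.le_of_dvd Nat.card_pos (L.orderOf_dvd_natCard hv)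
  -- `t` centralizes the Fitting subgroup
  have htF : t ∈ centralizer (Cfsg.fittingSubgroup Y : Set Y) := by
    rw [mem_centralizer_iff]
    intro f hf
    set u := f * t * f⁻¹ * t⁻¹ with hu
    have huF : u ∈ Cfsg.fittingSubgroup Y := by
      haveI := Cfsg.Lib.Core.fittingSubgroup_normal' Y
      rw [hu, show f * t * f⁻¹ * t⁻¹ = f * (t * f⁻¹ * t⁻¹) by group]
      exact mul_mem hf (Subgroup.Normal.conj_mem inferInstance _ (inv_mem hf) t)
    have hucop : (orderOf u).Coprime p := by
      rw [Nat.coprime_comm, hp.out.coprime_iff_not_dvd]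
      intro hd
      obtain ⟨w, hw⟩ := exists_prime_orderOf_dvd_card' (G := zpowers u) p (by rwa [Nat.card_zpowers])
      rw [← orderOf_submonoid] at hw
      have hwF : (w : Y) ∈ Cfsg.fittingSubgroup Y := (zpowers_le.2 huF) w.2
      haveI := Cfsg.Lib.Core.fittingSubgroup_isNilpotent Y
      obtain ⟨Q⟩ : Nonempty (Sylow p (Cfsg.fittingSubgroup Y)) := inferInstance
      haveI hQn : (Q : Subgroup (Cfsg.fittingSubgroup Y)).Normal := (Group.isNilpotent_of_finite_tfae.out 0 3 rfl rfl).mp inferInstance p inferInstance Q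
      haveI : (Q : Subgroup (Cfsg.fittingSubgroup Y)).Characteristic := Sylow.characteristic_of_normal Q hQn
      have hQO : (Q : Subgroup (Cfsg.fittingSubgroup Y)).map (Cfsg.fittingSubgroup Y).subtype ≤ Cfsg.pCore p Y :=
        Cfsg.Lib.Core.le_pCore' (Cfsg.Lib.Core.normal_map_char_of_normal _) (Q.2.map _)
      have hwQ : (⟨(w : Y), hwF⟩ : Cfsg.fittingSubgroup Y) ∈ (Q : Subgroup (Cfsg.fittingSubgroup Y)) := by
        have hzp : IsPGroup p (zpowers (⟨(w : Y), hwF⟩ : Cfsg.fittingSubgroup Y)) :=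
          IsPGroup.of_card (n := 1) (by rw [Nat.card_zpowers, orderOf_mk, hw, pow_one])
        exact (Q.3 (hzp.to_sup_of_normal_right Q.2) le_sup_right) ▸ Subgroup.mem_sup_left (mem_zpowers _)
      have := hQO (mem_map_of_mem _ hwQ)
      rw [hOY, mem_bot] at this
      rw [show (w : Y) = 1 from this, orderOf_one] at hw
      exact hp.out.ne_one hw.symm
    set s2 : MulAut (P ⧸ F0) := ((f * t * f⁻¹ : Y) : MulAut (P ⧸ F0)) with hs2
    have hu1 : (u : MulAut (P ⧸ F0)) = 1 := by
      rw [hu, Subgroup.coe_mul, Subgroup.coe_inv]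
      refine transvection_pair (p := p) hp2 hpow s2 (t : MulAut (P ⧸ F0)) (n := e) (m := e) ?_ ?_ ?_
        (L := L) (L' := L.map ((f : MulAut (P ⧸ F0))).toMonoidHom) hLp ?_ (fun v => hL s hs v) ?_ ?_
      · rw [hs2, ← Subgroup.coe_pow, conj_pow, htp, mul_one, mul_inv_cancel, Subgroup.coe_one]
      · rw [← Subgroup.coe_pow, htp, Subgroup.coe_one]
      · intro w hw
        refine hYodd ⟨w, ?_⟩
        exact (closure_le _).2 (by rintro x (rfl | rfl) <;> exact Subtype.mem _) hw
      · rw [card_map_of_injective (MulEquiv.injective _), hLp]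
      · intro v
        refine ⟨φ s ((f : MulAut (P ⧸ F0))⁻¹ v) * ((f : MulAut (P ⧸ F0))⁻¹ v)⁻¹, hL s hs _, ?_⟩
        rw [MulEquiv.coe_toMonoidHom, map_mul, map_inv,
          show (f : MulAut (P ⧸ F0)) ((f : MulAut (P ⧸ F0))⁻¹ v) = v from MulEquiv.apply_symm_apply _ _]
        rfl
      · have h := hucop
        rw [← orderOf_submonoid, hu, Subgroup.coe_mul, Subgroup.coe_inv] at h
        exact h
    have h2 : u = 1 := Subtype.ext hu1
    rw [hu, mul_inv_eq_one, mul_inv_eq_iff_eq_mul] at h2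
    exact h2
  have htF' := Cfsg.Lib.Core.centralizer_fitting_le_of_isSolvable htF
  haveI := Cfsg.Lib.Core.fittingSubgroup_isNilpotent Y
  obtain ⟨Q⟩ : Nonempty (Sylow p (Cfsg.fittingSubgroup Y)) := inferInstance
  haveI hQn : (Q : Subgroup (Cfsg.fittingSubgroup Y)).Normal := (Group.isNilpotent_of_finite_tfae.out 0 3 rfl rfl).mp inferInstance p inferInstance Q
  haveI : (Q : Subgroup (Cfsg.fittingSubgroup Y)).Characteristic := Sylow.characteristic_of_normal Q hQn
  have hQO : (Q : Subgroup (Cfsg.fittingSubgroup Y)).map (Cfsg.fittingSubgroup Y).subtype ≤ Cfsg.pCore p Y :=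
    Cfsg.Lib.Core.le_pCore' (Cfsg.Lib.Core.normal_map_char_of_normal _) (Q.2.map _)
  have htQ : (⟨t, htF'⟩ : Cfsg.fittingSubgroup Y) ∈ (Q : Subgroup (Cfsg.fittingSubgroup Y)) := by
    have hzp : IsPGroup p (zpowers (⟨t, htF'⟩ : Cfsg.fittingSubgroup Y)) := by
      rw [IsPGroup.iff_card, Nat.card_zpowers, orderOf_mk]
      obtain ⟨d, -, hd⟩ := (Nat.dvd_prime_pow hp.out).1 (orderOf_dvd_of_pow_eq_one htp)
      exact ⟨d, hd⟩
    exact (Q.3 (hzp.to_sup_of_normal_right Q.2) le_sup_right) ▸ Subgroup.mem_sup_left (mem_zpowers _)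
  have := hQO (mem_map_of_mem _ htQ)
  rw [hOY, mem_bot] at this
  exact hne (congrArg Subtype.val (show t = 1 from this))



/-- Let X be a finite solvable group of odd order, p a prime and S a Sylow p-subgroup of X whose commutator subgroup is
cyclic. Then the product of the largest normal subgroup of X of order prime to p with S is a normal subgroup of X. -/
theorem result {X : Type*} [Group X] [Finite X] [Group.IsSolvable X]
    (hX : Odd (Nat.card X)) (p : ℕ) [Fact p.Prime] (S : Sylow p X) (hS : IsCyclic (commutator (S : Subgroup X))) :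
    (Cfsg.pPrimeCore p X ⊔ (S : Subgroup X)).Normal := by
  classical
  set N := Cfsg.pPrimeCore p X with hN
  haveI : N.Normal := inferInstance
  have hsurj := QuotientGroup.mk'_surjective N
  have hXN : Odd (Nat.card (X ⧸ N)) := Odd.of_dvd_nat hX (Subgroup.card_quotient_dvd_card N)
  set f := QuotientGroup.mk' N with hf
  let S' : Sylow p (X ⧸ N) := S.mapSurjective hsurj
  have hS' : IsCyclic (commutator (S' : Subgroup (X ⧸ N))) := by
    let g : (S : Subgroup X) →* (S' : Subgroup (X ⧸ N)) := (f.comp (S : Subgroup X).subtype).codRestrict _ fun x =>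
      Subgroup.mem_map_of_mem f x.2
    have hg : Function.Surjective g := by
      rintro ⟨_, x, hx, rfl⟩
      exact ⟨⟨x, hx⟩, rfl⟩
    have e : (commutator (S : Subgroup X)).map g = commutator (S' : Subgroup (X ⧸ N)) := by
      rw [commutator_def, commutator_def, Subgroup.map_commutator, Subgroup.map_top_of_surjective g hg]
    rw [← e]
    exact isCyclic_of_surjective _ (MonoidHom.subgroupMap_surjective g _)
  have h := sylow_eq_pCore hXN p Cfsg.Lib.Core.pPrimeCore_quotient_eq_bot S' hS'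
  have hn : ((S' : Subgroup (X ⧸ N)).comap f).Normal := by rw [h]; infer_instance
  have e : N ⊔ (S : Subgroup X) = ((S' : Subgroup (X ⧸ N)).comap f) := by
    show _ = ((S : Subgroup X).map f).comap f
    rw [Subgroup.comap_map_eq, hf, QuotientGroup.ker_mk', sup_comm]
  rw [e]
  exact hn

end Cfsg.Agent.S0521
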