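import Cfsg.Statements.S1480
import Mathlib
import Cfsg.Agent.Lib.Transit.Main
import Cfsg.Agent.Lib.Transit.Lemma

set_option autoImplicit false
open Cfsg

namespace Cfsg.Agent.S1480

open scoped commutatorElement

/-- An element of order dividing `p ^ k` has a cyclic `p`-group. -/
theorem zpowers_pGroup {G : Type*} [Group G] [Finite G] {p : ℕ} [Fact p.Prime] {x : G} (hx : x ^ p = 1) :
    IsPGroup p (Subgroup.zpowers x) := by
  obtain ⟨j, -, hj⟩ := (Nat.dvd_prime_pow (Fact.out : p.Prime)).1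
    ((orderOf_dvd_of_pow_eq_one hx).trans (dvd_of_eq (pow_one p).symm))
  exact IsPGroup.of_card (n := j) (by rw [Nat.card_zpowers, hj])



/-- Let G be a finite group and p a prime such that the normalizer of every nontrivial p-subgroup of G is p-constrained; if p = 2 assume also that the Sylow 2-subgroups of G have nilpotency class at most 2. Let E be an abelian p-subgroup containing an elementary abelian subgroup of order p ^ 3 and containing every element of p-power order of C_G(E). Then for every prime q ≠ p, any two maximal E-invariant q-subgroups of G are conjugate by an element of O_{p'}(C_G(E)). -/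
theorem result {G : Type*} [Group G] [Finite G] (p : ℕ) [Fact p.Prime]
    (hloc : ∀ T : Subgroup G, IsPGroup p T → T ≠ ⊥ → Cfsg.IsPConstrained p ↥(Subgroup.normalizer (T : Set G)))
    (h2 : p = 2 → ∀ S : Sylow p G, Group.IsNilpotent (S : Subgroup G) ∧ Group.nilpotencyClass (S : Subgroup G) ≤ 2)
    (E : Subgroup G) (hEp : IsPGroup p E) (hEc : IsMulCommutative E) (hE3 : ¬ Cfsg.PRankLE p 2 E)
    (hEfull : ∀ x ∈ Subgroup.centralizer (E : Set G), IsPGroup p (Subgroup.zpowers x) → x ∈ E)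
    (q : ℕ) [Fact q.Prime] (hqp : q ≠ p) :
    ∀ Q₁ ∈ Cfsg.maxInvSubgroups ⊤ E {q}, ∀ Q₂ ∈ Cfsg.maxInvSubgroups ⊤ E {q},
        ∃ k ∈ Cfsg.piCoreOf (Cfsg.primesNotDvd p) (Subgroup.centralizer (E : Set G)), Q₂ = Q₁.map (MulAut.conj k).toMonoidHom := by
  classical
  obtain ⟨E₀, hE₀E, hE₀p, hE₀3⟩ : ∃ E₀ : Subgroup G, E₀ ≤ E ∧ (∀ e ∈ E₀, e ^ p = 1) ∧ p ^ 3 ≤ Nat.card E₀ := by
    by_contra hne
    apply hE3
    intro A _ hAe
    by_contra hlt
    refine hne ⟨A.map E.subtype, Subgroup.map_subtype_le _, ?_, ?_⟩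
    · rintro _ ⟨a, ha, rfl⟩
      rw [← map_pow, hAe a ha, map_one]
    · rw [Cfsg.Lib.Core.card_map_subtype]
      obtain ⟨n, hn⟩ := IsPGroup.iff_card.1 (hEp.to_subgroup A)
      rw [hn] at hlt ⊢
      refine Nat.pow_le_pow_right (Fact.out : p.Prime).pos ?_
      by_contra h3
      exact hlt (Nat.pow_le_pow_right (Fact.out : p.Prime).pos (by omega))
  have hcl : ∀ (H : Subgroup G), p ≠ 2 ∨ ∀ (S : Sylow p H), ∀ x ∈ (S : Subgroup H), ∀ y ∈ (S : Subgroup H),
      ∀ z ∈ (S : Subgroup H), ⁅x, y⁆ * z = z * ⁅x, y⁆ := by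
    intro H
    rcases ne_or_eq p 2 with h | h
    · exact Or.inl h
    refine Or.inr fun S x hx y hy z hz => ?_
    obtain ⟨T, hT⟩ := (S.2.map H.subtype).exists_le_sylow
    haveI := (h2 h T).1
    have hc := Cfsg.Lib.PGroup.commutator_le_center_of_nilpotencyClass_le (h2 h T).2
    have := Cfsg.Lib.PGroup.commutatorElement_comm_of_central hc ⟨(x : G), hT (Subgroup.mem_map_of_mem _ hx)⟩
      ⟨(y : G), hT (Subgroup.mem_map_of_mem _ hy)⟩ ⟨(z : G), hT (Subgroup.mem_map_of_mem _ hz)⟩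
    exact Subtype.ext (congrArg Subtype.val this).symm
  -- invariant p'-subgroups of centralizers lie in their cores
  have key : ∀ a ∈ E₀, a ≠ 1 → ∀ R : Subgroup G, (Nat.card R).Coprime p → E ≤ Subgroup.normalizer (R : Set G) →
      R ≤ Subgroup.centralizer ({a} : Set G) → R ≤ Cfsg.centralizerPPrimeCore p a := by
    intro a ha ha1 R hR hER hRC
    set H := Subgroup.normalizer ((Subgroup.zpowers a : Subgroup G) : Set G) with hH
    have hne : Subgroup.zpowers a ≠ ⊥ := by rw [ne_eq, Subgroup.zpowers_eq_bot]; exact ha1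
    have hCH : Subgroup.centralizer ({a} : Set G) ≤ H := by
      refine le_trans ?_ (Subgroup.centralizer_le_normalizer _)
      rw [Subgroup.zpowers_eq_closure, Subgroup.centralizer_closure]
    have hEH : E ≤ H := le_trans (fun e he => Subgroup.mem_centralizer_singleton_iff.2
      (congrArg Subtype.val (hEc.is_comm.comm ⟨e, he⟩ ⟨a, hE₀E ha⟩))) hCH
    have hRH : R ≤ H := hRC.trans hCH
    have h := Cfsg.Lib.Transit.le_pPrimeCore_of_invariant (hloc _ (zpowers_pGroup (hE₀p a ha)) hne)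
      (B := E.subgroupOf H) (R := R.subgroupOf H) (hEp.of_equiv (Subgroup.subgroupOfEquivOfLe hEH).symm) inferInstance
      (fun x hx hxp => hEfull x (Subgroup.mem_centralizer_iff.2 fun e he =>
        congrArg Subtype.val (Subgroup.mem_centralizer_iff.1 hx ⟨e, hEH he⟩ he))
        (by
          obtain ⟨k, hk⟩ := IsPGroup.iff_card.1 hxp
          exact IsPGroup.of_card (n := k) (by rw [Nat.card_zpowers] at hk ⊢; rw [Subgroup.orderOf_coe, hk])))
      (by rwa [Nat.card_congr (Subgroup.subgroupOfEquivOfLe hRH).toEquiv])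
      (fun e he => Subgroup.mem_normalizer_iff.2 fun r => by
        simp only [Subgroup.mem_subgroupOf]
        exact Subgroup.mem_normalizer_iff.1 (hER he) (r : G))
      (hcl H)
    intro r hr
    have hr' : (⟨r, hRH hr⟩ : H) ∈ Cfsg.pPrimeCore p H ⊓ (Subgroup.centralizer ({a} : Set G)).subgroupOf H :=
      ⟨h hr, hRC hr⟩
    obtain ⟨w, hw, hwe⟩ := Cfsg.Lib.Core.inf_pPrimeCore_le _ hr'
    refine ⟨(Subgroup.subgroupOfEquivOfLe hCH) w,
      Cfsg.Lib.Core.map_pPrimeCore_equiv (Subgroup.subgroupOfEquivOfLe hCH) ▸ Subgroup.mem_map_of_mem _ hw, ?_⟩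
    exact congrArg Subtype.val hwe
  have hθC : ∀ e ∈ E₀, e ≠ 1 → Cfsg.centralizerPPrimeCore p e ≤ Subgroup.centralizer ({e} : Set G) :=
    fun e _ _ => Subgroup.map_subtype_le _
  have hθcop : ∀ e : G, (Nat.card (Cfsg.centralizerPPrimeCore p e)).Coprime p := fun e => by
    rw [Cfsg.centralizerPPrimeCore, Cfsg.Lib.Core.card_map_subtype]
    exact Cfsg.Lib.Core.pPrimeCore_coprime p _
  have hθn : ∀ e ∈ E₀, e ≠ 1 →
      Subgroup.centralizer ({e} : Set G) ≤ Subgroup.normalizer (Cfsg.centralizerPPrimeCore p e : Set G) := fun e _ _ g hg => by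
    have h0 : (⟨g, hg⟩ : ↥(Subgroup.centralizer ({e} : Set G))) ∈
        Subgroup.normalizer (Cfsg.pPrimeCore p ↥(Subgroup.centralizer ({e} : Set G)) : Set _) := by
      rw [Subgroup.normalizer_eq_top_iff.2 inferInstance]; trivial
    exact Subgroup.le_normalizer_map _ (Subgroup.mem_map_of_mem _ h0)
  have hEe : ∀ e ∈ E₀, E ≤ Subgroup.centralizer ({e} : Set G) := fun e he w hw => Subgroup.mem_centralizer_singleton_iff.2
    (congrArg Subtype.val (hEc.is_comm.comm ⟨w, hw⟩ ⟨e, hE₀E he⟩))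
  intro Q₁ hQ₁ Q₂ hQ₂
  have hfam : ∀ R, R ∈ Cfsg.invSubgroups ⊤ E {q} ↔
      R ∈ Cfsg.Lib.Transit.Fam q E E₀ (fun e => Cfsg.centralizerPPrimeCore p e) := by
    intro R
    constructor
    · rintro ⟨-, hR, hER⟩
      have hRq : IsPGroup q R := IsPGroup.of_card (Nat.eq_prime_pow_of_unique_prime_dvd Nat.card_pos.ne' fun {d} hd hdd => hR d hd hdd)
      refine ⟨hRq, hER, fun e he he1 => key e he he1 _ ?_ ?_ inf_le_right⟩
      · obtain ⟨n, hn⟩ := IsPGroup.iff_card.1 (hRq.to_le (inf_le_left : R ⊓ Subgroup.centralizer ({e} : Set G) ≤ R))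
        rw [hn]; exact ((Nat.coprime_primes Fact.out Fact.out).2 hqp).pow_left n
      · exact (le_inf hER ((hEe e he).trans Subgroup.le_normalizer)).trans Subgroup.inf_normalizer_le_normalizer_inf
    · rintro ⟨hRq, hER, -⟩
      refine ⟨le_top, fun d hd hdd => ?_, hER⟩
      obtain ⟨n, hn⟩ := IsPGroup.iff_card.1 hRq
      rw [hn] at hdd
      exact (Nat.prime_dvd_prime_iff_eq hd Fact.out).1 (hd.dvd_of_dvd_pow hdd)
  obtain ⟨c, hcθ, hcE, hc⟩ := Cfsg.Lib.Transit.transitivity (q := q) (θ := fun e => Cfsg.centralizerPPrimeCore p e) hEp hEc hE₀E hE₀p hE₀3 hqp hθC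
    (fun e _ _ => (Fact.out : p.Prime).coprime_iff_not_dvd.1 (hθcop e).symm)
    (fun e he he1 => (hEe e he).trans (hθn e he he1))
    (fun a ha ha1 b hb hb1 => key b hb hb1 _ ((hθcop a).coprime_dvd_left (Subgroup.card_dvd_of_le inf_le_left))
      ((le_inf ((hEe a ha).trans (hθn a ha ha1)) ((hEe b hb).trans Subgroup.le_normalizer)).trans
        Subgroup.inf_normalizer_le_normalizer_inf) inf_le_right)
    (Q₁ := Q₁) (Q₂ := Q₂)
    ⟨(hfam _).1 hQ₁.1, fun R hR hle => (hQ₁.2 R ((hfam R).2 hR) hle).le⟩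
    ⟨(hfam _).1 hQ₂.1, fun R hR hle => (hQ₂.2 R ((hfam R).2 hR) hle).le⟩
  refine ⟨c, ?_, hc⟩
  obtain ⟨a, ha, ha1⟩ := E₀.bot_or_exists_ne_one.resolve_left fun h => by
    rw [h, Subgroup.card_bot] at hE₀3
    have := Nat.one_lt_pow (show 3 ≠ 0 by norm_num) (Fact.out : p.Prime).one_lt
    omega
  set C := Subgroup.centralizer (E : Set G) with hC
  set Z := (⨅ e : {e : G // e ∈ E₀ ∧ e ≠ 1}, Cfsg.centralizerPPrimeCore p (e : G)) ⊓ C with hZ
  have hCn : C ≤ Subgroup.normalizer (Z : Set G) := by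
    refine (le_inf ?_ Subgroup.le_normalizer).trans Subgroup.inf_normalizer_le_normalizer_inf
    refine le_trans (le_iInf fun e => ?_) (Subgroup.iInf_normalizer_le_normalizer_iInf _)
    refine le_trans ?_ (hθn e.1 e.2.1 e.2.2)
    exact Subgroup.centralizer_le (Set.singleton_subset_iff.2 (hE₀E e.2.1))
  have hZn : (Z.subgroupOf C).Normal := (Subgroup.normal_subgroupOf_iff_le_normalizer inf_le_right).2 hCn
  have hmem : c ∈ Z := ⟨Subgroup.mem_iInf.2 fun e => hcθ e.1 e.2.1 e.2.2, hcE⟩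
  refine ⟨⟨c, hcE⟩, ?_, rfl⟩
  refine Cfsg.Lib.Core.le_piCore' (π := Cfsg.primesNotDvd p) hZn (fun r hr hrd => ⟨hr, fun hrp => ?_⟩) hmem
  rw [(Nat.prime_dvd_prime_iff_eq hr Fact.out).1 hrp] at hrd
  rw [Nat.card_congr (Subgroup.subgroupOfEquivOfLe inf_le_right).toEquiv] at hrd
  exact (Fact.out : p.Prime).coprime_iff_not_dvd.1 (hθcop a).symm
    (hrd.trans (Subgroup.card_dvd_of_le (inf_le_left.trans (iInf_le (fun e : {e : G // e ∈ E₀ ∧ e ≠ 1} => Cfsg.centralizerPPrimeCore p (e : G)) ⟨a, ha, ha1⟩))))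

end Cfsg.Agent.S1480
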