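import Cfsg.Statements.S0522
import Mathlib
import Cfsg.Agent.S1480
import Cfsg.Agent.Lib.Solv.Nilpotent
import Cfsg.Agent.Lib.Sig.PComponent

set_option autoImplicit false
open Cfsg

namespace Cfsg.Agent.S0522

/-- Transitivity Theorem (odd-order setting). Let X be a finite group of odd order in which the normalizer of every
nontrivial p-subgroup is solvable, P a Sylow p-subgroup, and B an abelian subgroup of P, normalized by P, with
C_P(B) = B and containing an elementary abelian subgroup of order p^3. Then for every prime q ≠ p, any two q-subgroups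
that are maximal among the q-subgroups normalized by B are conjugate by an element of the centralizer of B. -/
theorem result {X : Type*} [Group X] [Finite X] (hX : Odd (Nat.card X)) (p : ℕ)
    [Fact p.Prime] (hloc : ∀ T : Subgroup X, IsPGroup p T → T ≠ ⊥ → Group.IsSolvable (Subgroup.normalizer (T : Set X)))
    (P : Sylow p X) (B : Subgroup X) (hBP : B ≤ (P : Subgroup X))
    (hBn : ∀ x ∈ (P : Subgroup X), ∀ b ∈ B, x * b * x⁻¹ ∈ B) (hBa : IsMulCommutative B)
    (hBc : (P : Subgroup X) ⊓ Subgroup.centralizer (B : Set X) = B)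
    (hB3 : ∃ E : Subgroup X, E ≤ B ∧ (∀ e ∈ E, e ^ p = 1) ∧ p ^ 3 ≤ Nat.card E)
    (q : ℕ) [Fact q.Prime] (hqp : q ≠ p) (Q₁ Q₂ : Subgroup X)
    (h₁ : IsPGroup q Q₁ ∧ B ≤ Subgroup.normalizer (Q₁ : Set X) ∧
      ∀ R : Subgroup X, IsPGroup q R → B ≤ Subgroup.normalizer (R : Set X) → Q₁ ≤ R → R = Q₁)
    (h₂ : IsPGroup q Q₂ ∧ B ≤ Subgroup.normalizer (Q₂ : Set X) ∧
      ∀ R : Subgroup X, IsPGroup q R → B ≤ Subgroup.normalizer (R : Set X) → Q₂ ≤ R → R = Q₂) :
    ∃ c ∈ Subgroup.centralizer (B : Set X), Q₂ = Q₁.map (MulAut.conj c).toMonoidHom := by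
  classical
  have hp2 : p ≠ 2 := by
    rintro rfl
    obtain ⟨E, -, hEe, hE3⟩ := hB3
    obtain ⟨e, he, he1⟩ := E.bot_or_exists_ne_one.resolve_left fun h => by
      rw [h, Subgroup.card_bot] at hE3; norm_num at hE3
    have h2 : 2 ∣ Nat.card X := (orderOf_eq_prime (hEe e he) he1).symm.dvd.trans (orderOf_dvd_natCard e)
    exact hX.not_two_dvd_nat h2
  have hBp : IsPGroup p B := P.2.to_le hBP
  set C := Subgroup.centralizer (B : Set X) with hC
  set N := Subgroup.normalizer (B : Set X) with hN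
  have hCN : C ≤ N := Subgroup.centralizer_le_normalizer _
  have hPN : (P : Subgroup X) ≤ N := Subgroup.le_normalizer_iff.mpr hBn
  have hBC : B ≤ C := fun b hb => hBc.symm ▸ hb |>.2
  have hfull : ∀ x ∈ C, IsPGroup p (Subgroup.zpowers x) → x ∈ B := by
    intro x hx hxp
    obtain ⟨k, hk⟩ := IsPGroup.iff_card.1 hxp
    rw [Nat.card_zpowers] at hk
    refine Cfsg.Lib.Sig.mem_of_isSubnormal_of_relIndex hBC (Subgroup.Normal.isSubnormal
      ((Subgroup.normal_subgroupOf_iff_le_normalizer hBC).2 hCN)) ?_ hx hk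
    intro hd
    haveI : (C.subgroupOf N).Normal := (Subgroup.normal_subgroupOf_iff_le_normalizer hCN).2 fun g hg =>
      Subgroup.le_normalizer_iff.mpr (fun w hw c hc => Subgroup.mem_centralizer_iff.2 fun b hb => by
        have hb' : w⁻¹ * b * w ∈ B := by simpa using (Subgroup.mem_normalizer_iff.1 (inv_mem hw) b).1 hb
        have := Subgroup.mem_centralizer_iff.1 hc _ hb'
        calc b * (w * c * w⁻¹) = w * ((w⁻¹ * b * w) * c) * w⁻¹ := by group
          _ = w * (c * (w⁻¹ * b * w)) * w⁻¹ := by rw [this]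
          _ = w * c * w⁻¹ * b := by group) hg
    refine Cfsg.Lib.Solv.not_dvd_relIndex_of_isSubnormal (H := C.subgroupOf N) (P.subtype hPN) (Subgroup.Normal.isSubnormal inferInstance) ?_
    have e : B.relIndex C = (P : Subgroup X).relIndex C := by rw [← Subgroup.inf_relIndex_right (P : Subgroup X) C, hBc]
    show p ∣ ((P : Subgroup X).subgroupOf N).relIndex (C.subgroupOf N)
    rw [Subgroup.relIndex_subgroupOf hCN, ← e]
    exact hd
  have hm₁ : Q₁ ∈ Cfsg.maxInvSubgroups ⊤ B {q} := by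
    exact ⟨⟨le_top, fun d hd hdd => by
        obtain ⟨n, hn⟩ := IsPGroup.iff_card.1 h₁.1
        rw [hn] at hdd
        exact (Nat.prime_dvd_prime_iff_eq hd Fact.out).1 (hd.dvd_of_dvd_pow hdd), h₁.2.1⟩,
      fun R hR hle => h₁.2.2 R (IsPGroup.of_card (Nat.eq_prime_pow_of_unique_prime_dvd Nat.card_pos.ne'
        fun {d} hd hdd => hR.2.1 d hd hdd)) hR.2.2 hle⟩
  have hm₂ : Q₂ ∈ Cfsg.maxInvSubgroups ⊤ B {q} := by
    exact ⟨⟨le_top, fun d hd hdd => by
        obtain ⟨n, hn⟩ := IsPGroup.iff_card.1 h₂.1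
        rw [hn] at hdd
        exact (Nat.prime_dvd_prime_iff_eq hd Fact.out).1 (hd.dvd_of_dvd_pow hdd), h₂.2.1⟩,
      fun R hR hle => h₂.2.2 R (IsPGroup.of_card (Nat.eq_prime_pow_of_unique_prime_dvd Nat.card_pos.ne'
        fun {d} hd hdd => hR.2.1 d hd hdd)) hR.2.2 hle⟩
  obtain ⟨c, hc, hcQ⟩ := Cfsg.Agent.S1480.result p
    (fun T hT hTne => by
      haveI := hloc T hT hTne
      exact Cfsg.Lib.Sig.isPConstrained_of_isPSolvable Cfsg.Lib.Core.isPSolvable_of_isSolvable)
    (fun h => absurd h hp2) B hBp hBa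
    (by
      obtain ⟨E, hEB, hEe, hE3⟩ := hB3
      intro h
      have := h (E.subgroupOf B) ⟨⟨fun a b => Subtype.ext (hBa.is_comm.comm (a : B) (b : B))⟩⟩
        (fun a ha => Subtype.ext (hEe _ ha))
      rw [Nat.card_congr (Subgroup.subgroupOfEquivOfLe hEB).toEquiv] at this
      have h2 : p ^ 2 < p ^ 3 := Nat.pow_lt_pow_right (Fact.out : p.Prime).one_lt (by norm_num)
      omega)
    hfull q hqp Q₁ hm₁ Q₂ hm₂
  exact ⟨c, Subgroup.map_subtype_le _ hc, hcQ⟩

end Cfsg.Agent.S0522
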