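import Cfsg.Statements.S0525
import Cfsg.Agent.Lib.Solv.Supersolvable

set_option autoImplicit false
open Cfsg

namespace Cfsg.Agent.S0525

/-- A direct product of two finite supersolvable groups is supersolvable. -/
theorem result {G H : Type*} [Group G] [Group H] [Finite G] [Finite H] (hG : Cfsg.IsSupersolvable G) (hH : Cfsg.IsSupersolvable H) : Cfsg.IsSupersolvable (G × H) := by
  revert hG
  revert G
  intro G _ _ hG
  refine Cfsg.Lib.Supersolvable.induction' (P := fun G _ => Cfsg.IsSupersolvable (G × H)) ?_ ?_ G hG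
  · intro G _ _ _
    exact Cfsg.Lib.Supersolvable.of_injective hH (MonoidHom.snd G H)
      fun a b hab => Prod.ext (Subsingleton.elim _ _) hab
  intro G _ _ Q _ hQ _ ih
  let f : G × H →* (G ⧸ Q) × H := (QuotientGroup.mk' Q).prodMap (MonoidHom.id H)
  have hf : Function.Surjective f := by
    rintro ⟨a, b⟩
    obtain ⟨a, rfl⟩ := QuotientGroup.mk'_surjective Q a
    exact ⟨(a, b), rfl⟩
  refine Cfsg.Lib.Supersolvable.of_normal_prime f.ker ?_
    (Cfsg.Lib.Supersolvable.of_mulEquiv ih (QuotientGroup.quotientKerEquivOfSurjective f hf).symm)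
  have hker : f.ker = Q.prod ⊥ := by
    ext ⟨a, b⟩
    simp [f, Subgroup.mem_prod]
  rw [hker, Nat.card_congr (Subgroup.prodEquiv Q ⊥).toEquiv, Nat.card_prod, Subgroup.card_bot,
    mul_one]
  exact hQ

end Cfsg.Agent.S0525
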