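import Cfsg.Statements.S0526
import Cfsg.Agent.Lib.Solv.Supersolvable

set_option autoImplicit false
open Cfsg

namespace Cfsg.Agent.S0526

/-- In a finite supersolvable group the commutator subgroup is nilpotent. -/
theorem result {G : Type*} [Group G] [Finite G] (hG : Cfsg.IsSupersolvable G) : Group.IsNilpotent (commutator G) := by
  refine Cfsg.Lib.Supersolvable.induction' (P := fun G _ => Group.IsNilpotent (commutator G))
    ?_ ?_ G hG
  · intro G _ _ _
    infer_instance
  intro G _ _ Q _ hQ _ ih
  haveI := ih
  let f : commutator G →* commutator (G ⧸ Q) :=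
    ((QuotientGroup.mk' Q).comp (commutator G).subtype).codRestrict _ fun x => by
      rw [_root_.commutator_def, ← Subgroup.map_top_of_surjective _ (QuotientGroup.mk'_surjective Q),
        ← Subgroup.map_commutator, ← _root_.commutator_def]
      exact Subgroup.mem_map_of_mem _ x.2
  refine Subgroup.isNilpotent_of_ker_le_center f ?_
  intro x hx
  have hxQ : (x : G) ∈ Q := (QuotientGroup.eq_one_iff _).1 (congrArg Subtype.val hx)
  have hcen : commutator G ≤ Subgroup.centralizer (Q : Set G) := by
    haveI : Fact (Nat.card Q).Prime := ⟨hQ⟩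
    haveI : IsCyclic Q := isCyclic_of_prime_card (hp := ⟨hQ⟩) rfl
    letI : CommGroup (MulAut Q) :=
      { (inferInstance : Group (MulAut Q)) with
        mul_comm := fun a b => (IsCyclic.mulAutMulEquiv Q).injective (by
          rw [map_mul, map_mul, mul_comm]) }
    refine (Abelianization.commutator_subset_ker (MulAut.conjNormal : G →* MulAut Q)).trans ?_
    intro g hg
    rw [Subgroup.mem_centralizer_iff]
    intro q hq
    have h2 := congrArg Subtype.val (DFunLike.congr_fun (MonoidHom.mem_ker.1 hg) (⟨q, hq⟩ : Q))
    have h3 : g * q * g⁻¹ = q := h2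
    rw [mul_inv_eq_iff_eq_mul] at h3
    exact h3.symm
  rw [Subgroup.mem_center_iff]
  intro y
  exact Subtype.ext (Subgroup.mem_centralizer_iff.1 (hcen y.2) x hxQ).symm

end Cfsg.Agent.S0526
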