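import Cfsg.Statements.S0529
import Cfsg.Agent.Lib.Solv.Supersolvable
import Cfsg.Agent.Lib.Solv.Huppert
import Cfsg.Agent.Lib.Core.PSolvable

set_option autoImplicit false
open Cfsg

namespace Cfsg.Agent.S0529

universe u

theorem minNormal_prime {G : Type u} [Group G] [Finite G] (h : Cfsg.IsSupersolvable G) :
    ∀ N : Subgroup G, Cfsg.Lib.Core.IsMinNormal N → (Nat.card N).Prime := by
  refine Cfsg.Lib.Supersolvable.induction'
    (P := fun G _ => ∀ N : Subgroup G, Cfsg.Lib.Core.IsMinNormal N → (Nat.card N).Prime) ?_ ?_ G h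
  · intro G _ _ _ N hN
    exact absurd (Subsingleton.elim N ⊥) hN.2.1
  intro G _ _ Q _ hQ _ ih N hN
  haveI := hN.1
  set f := QuotientGroup.mk' Q
  rcases hN.inf_eq_bot_or_le Q with hd | hle
  · have hinj : Function.Injective (f.subgroupMap N) := by
      rw [injective_iff_map_eq_one]
      intro x hx
      have h1 : (x : G) ∈ N ⊓ Q := ⟨x.2, (QuotientGroup.eq_one_iff _).1 (congrArg Subtype.val hx)⟩
      rw [hd, Subgroup.mem_bot] at h1
      exact Subtype.ext h1
    rw [Nat.card_congr (MulEquiv.ofBijective (f.subgroupMap N) ⟨hinj, f.subgroupMap_surjective N⟩).toEquiv]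
    refine ih _ ⟨hN.1.map f (QuotientGroup.mk'_surjective Q), fun hb => hN.2.1 ?_, fun K hK hKN => ?_⟩
    · rw [Subgroup.map_eq_bot_iff, QuotientGroup.ker_mk'] at hb
      exact le_bot_iff.1 (hd ▸ le_inf le_rfl hb)
    · rcases hN.2.2 (N ⊓ K.comap f) inferInstance inf_le_left with h1 | h1
      · left
        refine le_bot_iff.1 fun z hz => ?_
        obtain ⟨g, hg, rfl⟩ := hKN hz
        have : g ∈ N ⊓ K.comap f := ⟨hg, hz⟩
        rw [h1, Subgroup.mem_bot] at this
        rw [this, map_one]; exact one_mem _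
      · right
        refine le_antisymm hKN ?_
        rintro _ ⟨g, hg, rfl⟩
        exact (inf_eq_left.1 h1 hg : g ∈ K.comap f)
  · rcases (Nat.dvd_prime hQ).1 (Subgroup.card_dvd_of_le hle) with h1 | h1
    · exact absurd (Subgroup.card_eq_one.1 h1) hN.2.1
    · rw [h1]; exact hQ

theorem aux : ∀ (m : ℕ) (G : Type u) [Group G] [Finite G], Nat.card G ≤ m → Cfsg.IsSupersolvable G →
    ∃ (n : ℕ) (H : Fin (n + 1) → Subgroup G), H 0 = ⊥ ∧ H (Fin.last n) = ⊤ ∧ (∀ i, (H i).Normal) ∧
      (∀ i : Fin n, H i.castSucc ≤ H i.succ ∧ ((H i.castSucc).relIndex (H i.succ)).Prime) ∧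
      ∀ i j : Fin n, i ≤ j → (H j.castSucc).relIndex (H j.succ) ≤ (H i.castSucc).relIndex (H i.succ) := by
  intro m
  induction m with
  | zero => intro G _ _ h; exact absurd h (Nat.not_le.2 Nat.card_pos)
  | succ m ih =>
    intro G _ _ hm hG
    rcases subsingleton_or_nontrivial G with hs | hs
    · exact ⟨0, fun _ => ⊥, rfl, Subsingleton.elim _ _, fun _ => inferInstance, fun i => i.elim0, fun i => i.elim0⟩
    obtain ⟨p, hp, hpd, hmax⟩ := Cfsg.Lib.Huppert.exists_max_prime (G := G)
    haveI : Fact p.Prime := ⟨hp⟩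
    let P : Sylow p G := default
    have hPn := Cfsg.Lib.Huppert.sylow_normal (Cfsg.Lib.Supersolvable.maximal_index_prime hG) hmax P
    obtain ⟨N, hN, hNP⟩ := Cfsg.Lib.Core.exists_isMinNormal hPn (P.ne_bot_of_dvd_card hpd)
    haveI := hN.1
    have hNp : Nat.card N = p := by
      obtain ⟨k, hk⟩ := IsPGroup.iff_card.1 (P.2.to_le hNP)
      have hpr := minNormal_prime hG N hN
      rw [hk] at hpr ⊢
      rw [hpr.eq_one_of_pow, pow_one]
    set f := QuotientGroup.mk' N
    have hf : Function.Surjective f := QuotientGroup.mk'_surjective N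
    obtain ⟨n, H, h0, h1, hnorm, hstep, hmono⟩ := ih (G ⧸ N)
      (by have := Cfsg.Lib.Core.card_quotient_lt hN.2.1; omega) (Cfsg.Lib.Supersolvable.quotient hG N)
    let H' : Fin (n + 2) → Subgroup G := Fin.cons ⊥ fun i => (H i).comap f
    have hrel : ∀ i : Fin n, (H' i.succ.castSucc).relIndex (H' i.succ.succ) = (H i.castSucc).relIndex (H i.succ) := by
      intro i
      rw [← Fin.succ_castSucc]
      simp only [H', Fin.cons_succ]
      rw [Subgroup.relIndex_comap, Subgroup.map_comap_eq_self_of_surjective hf]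
    have hrel0 : (H' (0 : Fin (n + 1)).castSucc).relIndex (H' (0 : Fin (n + 1)).succ) = p := by
      simp only [H', Fin.castSucc_zero, Fin.cons_zero, Fin.cons_succ, h0]
      rw [Subgroup.relIndex_bot_left, MonoidHom.comap_bot, QuotientGroup.ker_mk', hNp]
    refine ⟨n + 1, H', by simp [H'], ?_, ?_, ?_, ?_⟩
    · rw [← Fin.succ_last]
      simp only [H', Fin.cons_succ, h1, Subgroup.comap_top]
    · intro i
      obtain rfl | ⟨i, rfl⟩ := i.eq_zero_or_eq_succ
      · simp only [H', Fin.cons_zero]; infer_instance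
      · simp only [H', Fin.cons_succ]; exact (hnorm i).comap f
    · intro i
      obtain rfl | ⟨i, rfl⟩ := i.eq_zero_or_eq_succ
      · refine ⟨by simp [H'], ?_⟩
        rw [hrel0]; exact hp
      · refine ⟨?_, by rw [hrel]; exact (hstep i).2⟩
        rw [← Fin.succ_castSucc]
        simp only [H', Fin.cons_succ]
        exact Subgroup.comap_mono (hstep i).1
    · intro i j hij
      obtain rfl | ⟨i, rfl⟩ := i.eq_zero_or_eq_succ
      · rw [hrel0]
        obtain rfl | ⟨j, rfl⟩ := j.eq_zero_or_eq_succ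
        · rw [hrel0]
        · rw [hrel]
          refine hmax _ (hstep j).2 ?_
          exact ((Subgroup.relIndex_dvd_card _ _).trans (Subgroup.card_subgroup_dvd_card _)).trans
            (Subgroup.card_quotient_dvd_card N)
      · obtain rfl | ⟨j, rfl⟩ := j.eq_zero_or_eq_succ
        · exact absurd hij (by simp [Fin.le_def])
        · rw [hrel, hrel]
          exact hmono i j (Fin.succ_le_succ_iff.1 hij)


/-- A finite supersolvable group has a chain of normal subgroups, from the trivial subgroup to the whole group, in which every step has prime index and the primes occurring are non-increasing as one goes up the chain. -/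
theorem result {G : Type*} [Group G] [Finite G] (hG : Cfsg.IsSupersolvable G) : ∃ (n : ℕ) (H : Fin (n + 1) → Subgroup G), H 0 = ⊥ ∧ H (Fin.last n) = ⊤ ∧ (∀ i, (H i).Normal) ∧ (∀ i : Fin n, H i.castSucc ≤ H i.succ ∧ ((H i.castSucc).relIndex (H i.succ)).Prime) ∧ ∀ i j : Fin n, i ≤ j → (H j.castSucc).relIndex (H j.succ) ≤ (H i.castSucc).relIndex (H i.succ) := by
  exact aux _ G le_rfl hG

end Cfsg.Agent.S0529
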