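import Cfsg.Statements.S0530
import Cfsg.Agent.Lib.Solv.Supersolvable

set_option autoImplicit false
open Cfsg

namespace Cfsg.Agent.S0530

/-- A finite group whose order is twice a prime power is supersolvable. -/
theorem result {G : Type*} [Group G] [Finite G] (p n : ℕ) (hp : p.Prime) (hG : Nat.card G = 2 * p ^ n) : Cfsg.IsSupersolvable G := by
  induction n generalizing G with
  | zero =>
    rw [pow_zero, mul_one] at hG
    haveI : Fact (Nat.Prime 2) := ⟨Nat.prime_two⟩
    exact Cfsg.Lib.Supersolvable.isPGroup (IsPGroup.of_card (n := 1) (by rw [hG, pow_one]))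
  | succ n ih =>
    haveI : Fact p.Prime := ⟨hp⟩
    by_cases hp2 : p = 2
    · subst hp2
      exact Cfsg.Lib.Supersolvable.isPGroup (IsPGroup.of_card (n := n + 1 + 1) (by rw [hG, pow_succ' 2 (n+1)]))
    obtain ⟨P⟩ : Nonempty (Sylow p G) := inferInstance
    have hPc : Nat.card (P : Subgroup G) = p ^ (n + 1) := by
      rw [P.card_eq_multiplicity, hG, Nat.factorization_mul (by norm_num) (pow_ne_zero _ hp.ne_zero),
        Nat.prime_two.factorization, hp.factorization_pow]
      simp [Ne.symm hp2]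
    have hidx : (P : Subgroup G).index = 2 := by
      have h := (P : Subgroup G).card_mul_index
      rw [hPc, hG, mul_comm] at h
      exact Nat.eq_of_mul_eq_mul_right (pow_pos hp.pos _) h
    haveI hPn : (P : Subgroup G).Normal := Subgroup.normal_of_index_eq_two hidx
    haveI : Nontrivial (P : Subgroup G) := Finite.one_lt_card_iff_nontrivial.1 (by
      rw [hPc]; exact Nat.one_lt_pow n.succ_ne_zero hp.one_lt)
    haveI := P.2.center_nontrivial
    obtain ⟨⟨⟨z, hzP⟩, hzc⟩, hzo⟩ := exists_prime_orderOf_dvd_card'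
      (G := Subgroup.center (P : Subgroup G)) p (by
        obtain ⟨k, hk0, hk⟩ := (P.2.to_subgroup (Subgroup.center (P : Subgroup G))).nontrivial_iff_card.1 inferInstance
        rw [hk]; exact dvd_pow_self p (Nat.pos_iff_ne_zero.1 hk0))
    rw [Subgroup.orderOf_mk, Subgroup.orderOf_mk] at hzo
    have hzc' : ∀ u ∈ (P : Subgroup G), u * z = z * u := fun u hu =>
      congrArg Subtype.val (Subgroup.mem_center_iff.1 hzc ⟨u, hu⟩)
    obtain ⟨t, ht⟩ := exists_prime_orderOf_dvd_card' (G := G) 2 ⟨p ^ (n + 1), hG⟩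
    have htP : t ∉ (P : Subgroup G) := fun h => by
      have h2 := Subgroup.orderOf_dvd_natCard _ h
      rw [hPc, ht] at h2
      exact hp2 ((Nat.prime_dvd_prime_iff_eq Nat.prime_two hp).1 (Nat.prime_two.dvd_of_dvd_pow h2)).symm
    have htt : t * t = 1 := by rw [← pow_two, ← ht, pow_orderOf_eq_one]
    have hgen : ∀ w : G, orderOf w = p → (∀ u ∈ (P : Subgroup G), u * w = w * u) →
        t * w * t⁻¹ ∈ Subgroup.zpowers w → ∃ Z : Subgroup G, Z.Normal ∧ Nat.card Z = p := by
      intro w hwo hwc hwt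
      refine ⟨Subgroup.zpowers w, ⟨fun x hx g => ?_⟩, by rw [Nat.card_zpowers, hwo]⟩
      obtain ⟨k, rfl⟩ := Subgroup.mem_zpowers_iff.1 hx
      rw [← conj_zpow]
      refine zpow_mem ?_ k
      by_cases hg : g ∈ (P : Subgroup G)
      · rw [hwc g hg, mul_inv_cancel_right]; exact Subgroup.mem_zpowers w
      · obtain ⟨u, hu, rfl⟩ : ∃ u ∈ (P : Subgroup G), g = u * t :=
          ⟨g * t⁻¹, (Subgroup.mul_mem_iff_of_index_two hidx).2 (by simp [hg, htP]), by group⟩
        obtain ⟨l, hl⟩ := Subgroup.mem_zpowers_iff.1 hwt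
        have h1 : u * t * w * (u * t)⁻¹ = u * (t * w * t⁻¹) * u⁻¹ := by group
        rw [h1, ← hl, ← conj_zpow, hwc u hu, mul_inv_cancel_right]
        exact zpow_mem (Subgroup.mem_zpowers w) l
    have hex : ∃ Z : Subgroup G, Z.Normal ∧ Nat.card Z = p := by
      set z' := t * z * t⁻¹ with hz'
      have hz'P : z' ∈ (P : Subgroup G) := hPn.conj_mem z hzP t
      have hz'c : ∀ u ∈ (P : Subgroup G), u * z' = z' * u := by
        intro u hu
        have h1 := hzc' (t⁻¹ * u * t) (by
          have := hPn.conj_mem u hu t⁻¹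
          rwa [inv_inv] at this)
        calc u * z' = t * ((t⁻¹ * u * t) * z) * t⁻¹ := by rw [hz']; group
          _ = t * (z * (t⁻¹ * u * t)) * t⁻¹ := by rw [h1]
          _ = z' * u := by rw [hz']; group
      have hcom : Commute z z' := (hzc' z' hz'P).symm
      have htinv : t⁻¹ = t := inv_eq_of_mul_eq_one_right htt
      have hswap : t * z' * t⁻¹ = z := by
        rw [hz', htinv]
        calc t * (t * z * t) * t = (t * t) * z * (t * t) := by group
          _ = z := by rw [htt, one_mul, mul_one]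
      by_cases h1 : z * z' = 1
      · refine hgen z hzo hzc' ?_
        rw [← hz', ← inv_eq_of_mul_eq_one_right h1]
        exact inv_mem (Subgroup.mem_zpowers z)
      · refine hgen (z * z') ?_ (fun u hu => ?_) ?_
        · refine orderOf_eq_prime ?_ h1
          have : z' ^ p = 1 := by
            rw [hz', conj_pow, ← hzo, pow_orderOf_eq_one, mul_one, mul_inv_cancel]
          rw [hcom.mul_pow, this, ← hzo, pow_orderOf_eq_one, mul_one]
        · rw [← mul_assoc, hzc' u hu, mul_assoc, hz'c u hu, ← mul_assoc]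
        · rw [← conj_mul, ← hz', hswap, ← hcom.eq]
          exact Subgroup.mem_zpowers _
    obtain ⟨Z, hZn, hZc⟩ := hex
    refine Cfsg.Lib.Supersolvable.of_normal_prime Z (hZc.symm ▸ hp) (ih ?_)
    have h := Subgroup.card_eq_card_quotient_mul_card_subgroup Z
    rw [hG, hZc, pow_succ, ← mul_assoc] at h
    exact (Nat.eq_of_mul_eq_mul_right hp.pos h).symm

end Cfsg.Agent.S0530
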