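import Cfsg.Statements.S0531
import Cfsg.Agent.Lib.Solv.Supersolvable

set_option autoImplicit false
open Cfsg

namespace Cfsg.Agent.S0531

/-- A finite supersolvable group has a subgroup of each order dividing its order. -/
theorem result {G : Type*} [Group G] [Finite G] (hG : Cfsg.IsSupersolvable G) : Cfsg.HasSubgroupOfEveryOrder G := by
  induction hn : Nat.card G using Nat.strong_induction_on generalizing G with
  | _ n ih =>
    subst hn
    intro d hd
    cases subsingleton_or_nontrivial G
    · refine ⟨⊥, ?_⟩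
      rw [Nat.card_unique, Nat.dvd_one] at hd
      rw [hd, Subgroup.card_bot]
    obtain ⟨Q, hQn, hQ⟩ := Cfsg.Lib.Supersolvable.exists_normal_prime hG
    have hlt : Nat.card (G ⧸ Q) < Nat.card G :=
      Cfsg.Lib.Core.card_quotient_lt fun hb => hQ.ne_one (by rw [hb, Subgroup.card_bot])
    have hcard := Subgroup.card_eq_card_quotient_mul_card_subgroup Q
    have hcomap : ∀ (K : Subgroup (G ⧸ Q)),
        Nat.card (K.comap (QuotientGroup.mk' Q)) = Nat.card K * Nat.card Q := by
      intro K
      have h1 := (K.comap (QuotientGroup.mk' Q)).card_mul_index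
      have h2 := K.card_mul_index
      rw [Subgroup.index_comap_of_surjective _ (QuotientGroup.mk'_surjective Q), hcard, ← h2] at h1
      refine Nat.eq_of_mul_eq_mul_right (Nat.pos_of_ne_zero (Subgroup.index_ne_zero_of_finite (H := K))) ?_
      rw [h1]; ring
    by_cases hqd : Nat.card Q ∣ d
    · obtain ⟨e, rfl⟩ := hqd
      obtain ⟨K, hK⟩ := ih _ hlt (Cfsg.Lib.Supersolvable.quotient hG Q) rfl e (by
        rw [hcard, mul_comm (Nat.card (G ⧸ Q))] at hd
        exact Nat.dvd_of_mul_dvd_mul_left hQ.pos hd)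
      exact ⟨_, (hcomap K).trans (by rw [hK, mul_comm])⟩
    · have hcop : d.Coprime (Nat.card Q) := ((hQ.coprime_iff_not_dvd).2 hqd).symm
      have hdq : d ∣ Nat.card (G ⧸ Q) := hcop.dvd_of_dvd_mul_right (hcard ▸ hd)
      obtain ⟨K, hK⟩ := ih _ hlt (Cfsg.Lib.Supersolvable.quotient hG Q) rfl d hdq
      set L := K.comap (QuotientGroup.mk' Q)
      have hL : Nat.card L = d * Nat.card Q := by rw [hcomap K, hK]
      by_cases hLt : L = ⊤
      · obtain ⟨H, hH⟩ := Subgroup.exists_right_complement'_of_coprime (N := Q) (by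
          have h1 := Q.card_mul_index
          rw [← Subgroup.card_top (G := G), ← hLt, hL, mul_comm d] at h1
          rw [Nat.eq_of_mul_eq_mul_left hQ.pos h1]
          exact hcop.symm)
        refine ⟨H, ?_⟩
        have h1 := hH.card_mul
        rw [← Subgroup.card_top (G := G), ← hLt, hL, mul_comm d] at h1
        exact Nat.eq_of_mul_eq_mul_left hQ.pos h1
      · obtain ⟨H, hH⟩ := ih _ (Cfsg.Lib.Core.lt_card_of_ne_top hLt)
          (Cfsg.Lib.Supersolvable.subgroup hG L) rfl d (hL ▸ dvd_mul_right _ _)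
        exact ⟨H.map L.subtype, by rw [Subgroup.card_subtype, hH]⟩

end Cfsg.Agent.S0531
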