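import Cfsg.Statements.S0532
import Cfsg.Agent.Lib.Solv.Huppert

set_option autoImplicit false
open Cfsg

namespace Cfsg.Agent.S0532

theorem hasSubgroup_congr {G H : Type*} [Group G] [Group H] (e : G ≃* H)
    (h : Cfsg.HasSubgroupOfEveryOrder G) : Cfsg.HasSubgroupOfEveryOrder H := by
  intro d hd
  obtain ⟨K, hK⟩ := h d (by rwa [Nat.card_congr e.toEquiv])
  exact ⟨K.map e.toMonoidHom, by
    rw [Subgroup.card_map_of_injective e.injective, hK]⟩

theorem hereditary_subgroup {G : Type*} [Group G]
    (h : ∀ H : Subgroup G, Cfsg.HasSubgroupOfEveryOrder H) (H : Subgroup G) (K : Subgroup H) :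
    Cfsg.HasSubgroupOfEveryOrder K :=
  hasSubgroup_congr (K.equivMapOfInjective H.subtype H.subtype_injective).symm (h _)

universe u

theorem sylow_normal_of_hereditary {G : Type u} [Group G] [Finite G]
    (h : ∀ H : Subgroup G, Cfsg.HasSubgroupOfEveryOrder H) {p : ℕ} [Fact p.Prime]
    (hmax : ∀ q : ℕ, q.Prime → q ∣ Nat.card G → q ≤ p) (P : Sylow p G) :
    (P : Subgroup G).Normal := by
  induction hn : Nat.card G using Nat.strong_induction_on generalizing G with
  | _ n ih =>
  subst hn
  by_cases h1 : Nat.card G = 1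
  · haveI := (Nat.card_eq_one_iff_unique.1 h1).1
    rw [Subsingleton.elim (P : Subgroup G) ⊤]; infer_instance
  set q := (Nat.card G).minFac with hq
  have hqp : q.Prime := Nat.minFac_prime h1
  haveI : Fact q.Prime := ⟨hqp⟩
  obtain ⟨H', hH'⟩ := h ⊤ (Nat.card G / q) (by
    rw [Subgroup.card_top]; exact Nat.div_dvd_of_dvd (Nat.minFac_dvd _))
  set H := H'.map (⊤ : Subgroup G).subtype
  have hHc : Nat.card H = Nat.card G / q := by rw [Subgroup.card_subtype, hH']
  have hHi : H.index = q := by
    have h2 := H.card_mul_index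
    rw [hHc] at h2
    conv_rhs at h2 => rw [← Nat.div_mul_cancel (Nat.minFac_dvd (Nat.card G))]
    exact Nat.eq_of_mul_eq_mul_left (Nat.div_pos (Nat.minFac_le Nat.card_pos) hqp.pos) h2
  haveI hHn : H.Normal := Subgroup.normal_of_index_eq_minFac_card hHi
  by_cases hpq : p = q
  · subst hpq
    have hG : IsPGroup q G := by
      refine IsPGroup.iff_card.2 ⟨(Nat.card G).primeFactorsList.length,
        Nat.eq_prime_pow_of_unique_prime_dvd Nat.card_pos.ne' fun {r} hr hrd => ?_⟩
      exact le_antisymm (hmax r hr hrd) (Nat.minFac_le_of_dvd hr.two_le hrd)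
    rw [P.is_maximal' (hG.to_subgroup ⊤) le_top |>.symm]
    infer_instance
  · have hPH : (P : Subgroup G) ≤ H := by
      have h2 : (P : Subgroup G).map (QuotientGroup.mk' H) = ⊥ := by
        rw [← Subgroup.card_eq_one]
        have hd : Nat.card ((P : Subgroup G).map (QuotientGroup.mk' H)) ∣ q := by
          rw [← hHi]
          exact Subgroup.card_subgroup_dvd_card _
        obtain ⟨k, hk⟩ := IsPGroup.iff_card.1 (P.2.map (QuotientGroup.mk' H))
        rw [hk] at hd ⊢
        rcases Nat.eq_zero_or_pos k with rfl | hk0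
        · rfl
        · exact absurd ((Nat.prime_dvd_prime_iff_eq Fact.out hqp).1 ((dvd_pow_self p hk0.ne').trans hd)) hpq
      rw [Subgroup.map_eq_bot_iff, QuotientGroup.ker_mk'] at h2
      exact h2
    haveI := ih _ (Cfsg.Lib.Core.lt_card_of_ne_top fun ht => hqp.ne_one (by rw [← hHi, ht, Subgroup.index_top]))
      (hereditary_subgroup h H) (fun r hr hd => hmax r hr (hd.trans H.card_subgroup_dvd_card))
      (P.subtype hPH) rfl
    haveI : ((P.subtype hPH : Sylow p H) : Subgroup H).Characteristic :=
      Sylow.characteristic_of_normal _ inferInstance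
    have h3 := Cfsg.Lib.Core.normal_map_char_of_normal ((P.subtype hPH : Sylow p H) : Subgroup H)
    rwa [Sylow.coe_subtype, Subgroup.map_subgroupOf_eq_of_le hPH] at h3

/-- If each subgroup of a finite group satisfies the converse of Lagrange's theorem, then a Sylow subgroup for the largest prime dividing the group order is normal. -/
theorem result {G : Type*} [Group G] [Finite G] (h : ∀ H : Subgroup G, Cfsg.HasSubgroupOfEveryOrder H) (p : ℕ) [Fact p.Prime] (hdvd : p ∣ Nat.card G) (hmax : ∀ q : ℕ, q.Prime → q ∣ Nat.card G → q ≤ p) (P : Sylow p G) : (P : Subgroup G).Normal := by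
  exact sylow_normal_of_hereditary h hmax P

end Cfsg.Agent.S0532
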