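import Cfsg.Statements.S0533
import Cfsg.Agent.Lib.Solv.Huppert
import Cfsg.Agent.S0532

set_option autoImplicit false
open Cfsg

namespace Cfsg.Agent.S0533

open Subgroup

universe u

theorem maxPrime_of_hereditary {G : Type u} [Group G] [Finite G]
    (h : ∀ H : Subgroup G, Cfsg.HasSubgroupOfEveryOrder H) : Cfsg.Lib.Huppert.MaxPrime G := by
  induction hn : Nat.card G using Nat.strong_induction_on generalizing G with
  | _ n ih =>
  subst hn
  intro M hM
  haveI : Nontrivial G := by
    by_contra hs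
    rw [not_nontrivial_iff_subsingleton] at hs
    exact hM.1 (Subsingleton.elim _ _)
  obtain ⟨p, hp, hd, hmax⟩ := Cfsg.Lib.Huppert.exists_max_prime (G := G)
  haveI : Fact p.Prime := ⟨hp⟩
  obtain ⟨P⟩ : Nonempty (Sylow p G) := inferInstance
  haveI hPn := Cfsg.Agent.S0532.sylow_normal_of_hereditary h hmax P
  have hPne : (P : Subgroup G) ≠ ⊥ := fun hb => by
    have := P.dvd_card_of_dvd_card hd
    rw [hb, card_bot, Nat.dvd_one] at this
    exact hp.ne_one this
  obtain ⟨H, hH⟩ := exists_right_complement'_of_coprime (N := (P : Subgroup G)) P.card_coprime_index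
  have hHt : H ≠ ⊤ := fun ht => hPne (by
    have := hH.disjoint.eq_bot; rwa [ht, inf_top_eq] at this)
  have hHss : Cfsg.IsSupersolvable H := Cfsg.Lib.Huppert.isSupersolvable
    (ih _ (Cfsg.Lib.Core.lt_card_of_ne_top hHt) (Cfsg.Agent.S0532.hereditary_subgroup h H) rfl)
  have hsurj : Function.Surjective ((QuotientGroup.mk' (P : Subgroup G)).comp H.subtype) := by
    intro x
    obtain ⟨g, rfl⟩ := QuotientGroup.mk'_surjective _ x
    obtain ⟨⟨a, b⟩, hab⟩ := hH.2 g
    refine ⟨b, ?_⟩
    have hab' : (a : G) * b = g := hab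
    show QuotientGroup.mk' (P : Subgroup G) (b : G) = _
    rw [← hab', map_mul, show QuotientGroup.mk' (P : Subgroup G) (a : G) = 1 from
      (QuotientGroup.eq_one_iff _).2 a.2, one_mul]
  by_cases hPM : (P : Subgroup G) ≤ M
  · have hker : (QuotientGroup.mk' (P : Subgroup G)).ker ≤ M := by rwa [QuotientGroup.ker_mk']
    have hq := Cfsg.Lib.Supersolvable.of_surjective hHss _ hsurj
    have h2 := Cfsg.Lib.Supersolvable.maximal_index_prime hq (M.map (QuotientGroup.mk' _))
      ⟨fun ht => hM.1 ?_, fun K hK => ?_⟩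
    · rwa [index_map_eq M (QuotientGroup.mk'_surjective _) hker] at h2
    · have := congrArg (Subgroup.comap (QuotientGroup.mk' (P : Subgroup G))) ht
      rwa [comap_map_eq_self hker, comap_top] at this
    · have h3 : M < K.comap (QuotientGroup.mk' (P : Subgroup G)) := by
        refine lt_of_le_of_ne (map_le_iff_le_comap.1 hK.le) fun he => hK.ne ?_
        rw [he, map_comap_eq_self_of_surjective (QuotientGroup.mk'_surjective _)]
      have := congrArg (Subgroup.map (QuotientGroup.mk' (P : Subgroup G))) (hM.2 _ h3)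
      rwa [map_comap_eq_self_of_surjective (QuotientGroup.mk'_surjective _),
        map_top_of_surjective _ (QuotientGroup.mk'_surjective _)] at this
  have htop : M ⊔ (P : Subgroup G) = ⊤ := hM.2 _ (left_lt_sup.2 hPM)
  set W := (P : Subgroup G) ⊓ M
  have hWP : W ≤ (P : Subgroup G) := inf_le_left
  have hrel : ∀ {A B : Subgroup G}, B.Normal → A.relIndex B * B.index = B.relIndex A * A.index :=
    fun {A B} _ => by
      have h5 := relIndex_mul_index (inf_le_left : A ⊓ B ≤ A)
      have h6 := relIndex_mul_index (inf_le_right : A ⊓ B ≤ B)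
      rw [inf_relIndex_left] at h5
      rw [inf_relIndex_right] at h6
      omega
  have hMi : W.relIndex (P : Subgroup G) = M.index := by
    rw [inf_relIndex_left]
    have h4 := hrel (A := M) hPn
    rw [show (P : Subgroup G).relIndex M = (P : Subgroup G).index by
      rw [← relIndex_sup_right (H := M) (K := (P : Subgroup G)), htop, relIndex_top_right],
      mul_comm _ M.index] at h4
    exact Nat.eq_of_mul_eq_mul_right
      (Nat.pos_of_ne_zero (index_ne_zero_of_finite (H := (P : Subgroup G)))) h4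
  obtain ⟨X, ⟨hXP, hXH, hXW⟩, hXmin⟩ := Set.Finite.exists_minimal
    (s := {X : Subgroup G | X ≤ (P : Subgroup G) ∧ H ≤ normalizer (X : Set G) ∧ X ⊔ W = (P : Subgroup G)})
    (Set.toFinite _) ⟨P, le_rfl, le_normalizer_of_normal, sup_eq_left.2 hWP⟩
  have hXne : X ≠ ⊥ := fun hb => by
    rw [hb, bot_sup_eq] at hXW
    exact hPM (hXW.symm.le.trans inf_le_right)
  set G1 := X ⊔ H
  have hG1 : Nat.card G1 = Nat.card X * Nat.card H := by
    have hd : X ⊓ H = ⊥ := eq_bot_iff.2 fun x hx =>
      hH.disjoint.eq_bot.le ⟨hXP hx.1, hx.2⟩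
    have h5 : X.relIndex (H ⊔ X) = X.relIndex H := by
      rw [Subgroup.relIndex, Subgroup.relIndex, Subgroup.index, Subgroup.index]
      refine (Nat.card_eq_of_bijective (Quotient.map' (fun a : H => (⟨a, mem_sup_left a.2⟩ : ↥(H ⊔ X)))
        fun a b hab => by rw [QuotientGroup.leftRel_apply] at hab ⊢; exact hab) ⟨?_, ?_⟩).symm
      · rintro ⟨a⟩ ⟨b⟩ hab
        have h1 : (Quotient.mk'' (⟨a, mem_sup_left a.2⟩ : ↥(H ⊔ X)) : ↥(H ⊔ X) ⧸ X.subgroupOf (H ⊔ X)) =
            Quotient.mk'' ⟨b, mem_sup_left b.2⟩ := hab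
        exact Quotient.sound' (QuotientGroup.leftRel_apply.2
          (QuotientGroup.leftRel_apply.1 (Quotient.exact' h1) :))
      · rintro ⟨⟨g, hg⟩⟩
        obtain ⟨a, ha, b, hb, rfl⟩ := (Cfsg.Lib.Core.mem_sup_of_le_normalizer hXH).1 hg
        refine ⟨Quotient.mk'' ⟨a, ha⟩, Quotient.sound' (QuotientGroup.leftRel_apply.2 ?_)⟩
        show (a : G)⁻¹ * (a * b) ∈ X
        rwa [inv_mul_cancel_left]
    have h6 := Cfsg.Lib.Core.card_mul_relIndex (le_sup_right : X ≤ H ⊔ X)
    rw [h5, ← inf_relIndex_right, hd, relIndex_bot_left] at h6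
    show Nat.card ↥(X ⊔ H) = _
    rw [sup_comm, ← h6]
  have hXp : p ∣ Nat.card X := by
    haveI : Nontrivial X := (nontrivial_iff_ne_bot X).2 hXne
    obtain ⟨k, hk0, hk⟩ := (P.2.to_le hXP).nontrivial_iff_card.1 inferInstance
    rw [hk]; exact dvd_pow_self p (by omega)
  obtain ⟨c, hc⟩ := hXp
  obtain ⟨L', hL'⟩ := h G1 (c * Nat.card H) (by rw [hG1, hc, mul_assoc]; exact dvd_mul_left _ _)
  set L := L'.map G1.subtype
  have hLG1 : L ≤ G1 := map_subtype_le _
  have hLc : Nat.card L = c * Nat.card H := by rw [card_subtype, hL']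
  have hLX : (L ⊓ X).relIndex X ∣ p := by
    rw [inf_relIndex_right]
    have h7 : L.relIndex G1 = p := by
      have h8 := Cfsg.Lib.Core.card_mul_relIndex hLG1
      rw [hLc, hG1, hc] at h8
      have hpos : 0 < c * Nat.card H := hLc ▸ Nat.card_pos
      apply Nat.eq_of_mul_eq_mul_left hpos
      rw [h8]; ring
    have h9 : L.relIndex X ≤ p := h7 ▸ relIndex_le_of_le_right le_sup_left
      (by rw [h7]; exact hp.ne_zero)
    obtain ⟨k, hk⟩ := IsPGroup.iff_card.1 (P.2.to_le hXP)
    obtain ⟨i, -, hi⟩ := (Nat.dvd_prime_pow hp).1 (hk ▸ relIndex_dvd_card L X)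
    rw [hi] at h9 ⊢
    have hi1 : i ≤ 1 := (Nat.pow_le_pow_iff_right hp.one_lt).1 (by rwa [pow_one])
    exact (pow_dvd_pow p hi1).trans (by rw [pow_one])
  have hLXne : L ⊓ X ≠ X := fun he => by
    have hle : X ≤ L := inf_eq_right.1 he
    have h10 := card_dvd_of_le hle
    rw [hLc, hc] at h10
    have hcop : (p * c).Coprime (Nat.card H) := by
      rw [← hc]
      have h11 := P.card_coprime_index
      rw [hH.symm.index_eq_card] at h11
      exact h11.coprime_dvd_left (card_dvd_of_le hXP)
    have h12 : p * c ∣ c := hcop.dvd_of_dvd_mul_right h10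
    have hcpos : 0 < c := Nat.pos_of_ne_zero fun h0 => by
      rw [h0, mul_zero] at hc; exact Nat.card_pos.ne' hc
    have h13 := Nat.le_of_dvd hcpos h12
    nlinarith [hp.two_le]
  set Y := L ⊓ X
  -- `Y` is normalized by `X` and by `H`
  have hYX : X ≤ normalizer (Y : Set G) := by
    haveI : Group.IsNilpotent X := (P.2.to_le hXP).isNilpotent
    refine (normal_subgroupOf_iff_le_normalizer inf_le_right).1
      (NormalizerCondition.normal_of_coatom _ Group.normalizerCondition_of_isNilpotent ⟨?_, ?_⟩)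
    · exact fun ht => hLXne (le_antisymm inf_le_right (subgroupOf_eq_top.1 ht))
    · intro K hK
      have h14 := (index_dvd_of_le hK.le).trans hLX
      rcases (Nat.dvd_prime hp).1 h14 with h15 | h15
      · exact index_eq_one.1 h15
      · exfalso
        refine hK.ne (le_antisymm hK.le (relIndex_eq_one.1 ?_))
        have h16 := relIndex_mul_index hK.le
        rw [h15] at h16
        have h17 : (Y.subgroupOf X).index ∣ p := hLX
        rw [← h16] at h17
        exact Nat.dvd_one.1 (Nat.dvd_of_mul_dvd_mul_right hp.pos (by rwa [one_mul]))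
  have hYH : H ≤ normalizer (Y : Set G) := by
    have hXG1 : G1 ≤ normalizer (X : Set G) := sup_le le_normalizer hXH
    have hYL : L ≤ normalizer (Y : Set G) :=
      Cfsg.Lib.Core.le_normalizer_iff_conj_mem.2 fun l hl y hy => mem_inf.2
        ⟨L.mul_mem (L.mul_mem hl hy.1) (L.inv_mem hl), (mem_normalizer_iff.1 (hXG1 (hLG1 hl)) y).1 hy.2⟩
    have hLXtop : X ⊔ L = G1 := by
      refine eq_of_le_of_card_ge (sup_le le_sup_left hLG1) ?_
      refine Nat.le_of_dvd Nat.card_pos ?_
      rw [hG1]
      have hcop : (Nat.card X).Coprime (Nat.card H) := by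
        have h11 := P.card_coprime_index
        rw [hH.symm.index_eq_card] at h11
        exact h11.coprime_dvd_left (card_dvd_of_le hXP)
      exact hcop.mul_dvd_of_dvd_of_dvd (card_dvd_of_le le_sup_left)
        ((dvd_mul_left _ c).trans (hLc ▸ card_dvd_of_le le_sup_right))
    exact (le_sup_right : H ≤ G1).trans (hLXtop.symm.le.trans (sup_le hYX hYL))
  set J := Y ⊔ W
  have hWn : W.Normal := by
    rw [← normalizer_eq_top_iff, eq_top_iff, ← htop]
    refine sup_le ?_ ?_
    · exact Cfsg.Lib.Core.le_normalizer_iff_conj_mem.2 fun m hm x hx => mem_inf.2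
        ⟨hPn.conj_mem x hx.1 m, M.mul_mem (M.mul_mem hm hx.2) (M.inv_mem hm)⟩
    · have hWm : M ≤ normalizer (W : Set G) :=
        Cfsg.Lib.Core.le_normalizer_iff_conj_mem.2 fun m hm x hx => mem_inf.2
          ⟨hPn.conj_mem x hx.1 m, M.mul_mem (M.mul_mem hm hx.2) (M.inv_mem hm)⟩
      set R := normalizer (W : Set G) ⊓ (P : Subgroup G)
      haveI : Group.IsNilpotent (P : Subgroup G) := P.2.isNilpotent
      have hWR : ¬ R ≤ M := fun hle => by
        have hlt : W.subgroupOf (P : Subgroup G) < ⊤ := lt_top_iff_ne_top.2 fun ht =>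
          hPM ((subgroupOf_eq_top.1 ht).trans inf_le_right)
        obtain ⟨x, hx, hxW⟩ := SetLike.exists_of_lt (Group.normalizerCondition_of_isNilpotent _ hlt)
        refine hxW ?_
        have hxN : (x : G) ∈ normalizer (W : Set G) := by
          rw [mem_normalizer_iff]
          intro y
          constructor
          · intro hy
            exact (mem_normalizer_iff.1 hx ⟨y, hWP hy⟩).1 hy
          · intro hy
            have hyP : y ∈ (P : Subgroup G) := by
              have := mul_mem (mul_mem (inv_mem x.2) (hWP hy)) x.2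
              simpa [mul_assoc] using this
            exact (mem_normalizer_iff.1 hx ⟨y, hyP⟩).2 hy
        exact mem_inf.2 ⟨x.2, hle ⟨hxN, x.2⟩⟩
      have hRM : M ⊔ R = ⊤ := hM.2 _ (left_lt_sup.2 hWR)
      have hMR : M ≤ normalizer (R : Set G) := Cfsg.Lib.Core.le_normalizer_iff_conj_mem.2
        fun m hm x hx => mem_inf.2 ⟨mul_mem (mul_mem (hWm hm) hx.1) (inv_mem (hWm hm)),
          hPn.conj_mem x hx.2 m⟩
      intro x hx
      have hxt : x ∈ M ⊔ R := hRM ▸ mem_top x
      obtain ⟨m, hm, r, hr, rfl⟩ := (Cfsg.Lib.Core.mem_sup_of_le_normalizer hMR).1 hxt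
      exact mul_mem (hWm hm) hr.1
  have hJP : J ≠ (P : Subgroup G) := fun he =>
    hLXne (le_antisymm inf_le_right (hXmin ⟨inf_le_right.trans hXP, hYH, he⟩ inf_le_right))
  haveI := hWn
  have hJn : J.Normal := by
    rw [← normalizer_eq_top_iff, eq_top_iff, ← hH.sup_eq_top, ← hXW]
    have hN : ∀ g, g ∈ normalizer (Y : Set G) → g ∈ normalizer (J : Set G) := by
      intro g hg
      rw [Cfsg.Lib.Core.mem_normalizer_iff_map_conj, Subgroup.map_sup,
        Cfsg.Lib.Core.map_conj_eq_of_mem_normalizer hg,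
        Cfsg.Lib.Core.map_conj_eq_of_mem_normalizer (le_normalizer_of_normal (mem_top g))]
    refine sup_le (sup_le (fun g hg => hN g (hYX hg)) ?_) (fun g hg => hN g (hYH hg))
    exact le_sup_right.trans le_normalizer
  haveI := hJn
  have hJM : J ≤ M := by
    by_contra hn
    apply hJP
    refine le_antisymm (sup_le (inf_le_right.trans hXP) hWP) fun x hx => ?_
    have hxt : x ∈ J ⊔ M := by rw [sup_comm, hM.2 _ (left_lt_sup.2 hn)]; trivial
    obtain ⟨j, hj, m, hm, rfl⟩ := mem_sup_of_normal_left.1 hxt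
    refine mul_mem hj (mem_sup_right (mem_inf.2 ⟨?_, hm⟩))
    exact (Subgroup.mul_mem_cancel_left _ ((sup_le (inf_le_right.trans hXP) hWP : J ≤ _) hj)).1 hx
  have hYW : Y ≤ W := le_inf (inf_le_right.trans hXP) (le_sup_left.trans hJM)
  have hd2 : M.index ∣ p := by
    rw [← hMi, ← hXW, relIndex_sup_right]
    exact (relIndex_dvd_of_le_left X hYW).trans hLX
  rcases (Nat.dvd_prime hp).1 hd2 with h1 | h1
  · exact absurd (index_eq_one.1 h1) hM.1
  · rw [h1]; exact hp

/-- If every subgroup of a finite group has subgroups of all orders dividing its order, then the group is supersolvable. -/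
theorem result {G : Type*} [Group G] [Finite G] (h : ∀ H : Subgroup G, Cfsg.HasSubgroupOfEveryOrder H) : Cfsg.IsSupersolvable G := by
  exact Cfsg.Lib.Huppert.isSupersolvable (maxPrime_of_hereditary h)

end Cfsg.Agent.S0533
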