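import Cfsg.Statements.S0534
import Cfsg.Agent.Lib.Solv.Hall

set_option autoImplicit false
open Cfsg

namespace Cfsg.Agent.S0534

universe w

/-- Abelian groups have subgroups of every order. -/
theorem exists_card_eq_of_dvd : ∀ (n : ℕ) (A : Type w) [CommGroup A] [Finite A], Nat.card A ≤ n →
    ∀ d : ℕ, d ∣ Nat.card A → ∃ U : Subgroup A, Nat.card U = d := by
  intro n
  induction n with
  | zero => intro A _ _ h; exact absurd h (Nat.not_le.2 Nat.card_pos)
  | succ n ih =>
    intro A _ _ hn d hd
    by_cases hd1 : d = 1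
    · exact ⟨⊥, by rw [Subgroup.card_bot, hd1]⟩
    obtain ⟨q, hq, hqd⟩ := Nat.exists_prime_and_dvd hd1
    haveI : Fact q.Prime := ⟨hq⟩
    obtain ⟨z, hz⟩ := exists_prime_orderOf_dvd_card' q (hqd.trans hd)
    set Z := Subgroup.zpowers z
    have hZ : Nat.card Z = q := by rw [Nat.card_zpowers, hz]
    obtain ⟨e, rfl⟩ := hqd
    have hcard := Z.card_eq_card_quotient_mul_card_subgroup
    rw [hZ] at hcard
    have he : e ∣ Nat.card (A ⧸ Z) := by
      rw [hcard, mul_comm (Nat.card (A ⧸ Z)) q] at hd
      exact (Nat.mul_dvd_mul_iff_left hq.pos).1 hd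
    have hpos : 0 < Nat.card (A ⧸ Z) := Nat.card_pos
    have h2 := hq.two_le
    obtain ⟨U, hU⟩ := ih (A ⧸ Z) (by nlinarith) e he
    refine ⟨U.comap (QuotientGroup.mk' Z), ?_⟩
    have h1 := (U.comap (QuotientGroup.mk' Z)).card_mul_index
    rw [Subgroup.index_comap_of_surjective _ (QuotientGroup.mk'_surjective Z), hcard, ← U.card_mul_index, hU] at h1
    refine Nat.eq_of_mul_eq_mul_right (Nat.pos_of_ne_zero (Subgroup.index_ne_zero_of_finite (H := U))) ?_
    rw [h1]; ring


/-- Let G be a finite solvable group and A a finite abelian group such that every prime dividing the order of A divides the order of G and, for each prime p dividing the order of G, the exponent of p in the order of A is one less than its exponent in the order of G. Then G × A has a subgroup of every order dividing its order. -/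
theorem result {G A : Type*} [Group G] [CommGroup A] [Finite G] [Finite A] [Group.IsSolvable G] (hA : ∀ p : ℕ, p.Prime → p ∣ Nat.card A → p ∣ Nat.card G) (hexp : ∀ p : ℕ, p.Prime → p ∣ Nat.card G → (Nat.card A).factorization p + 1 = (Nat.card G).factorization p) : Cfsg.HasSubgroupOfEveryOrder (G × A) := by
  classical
  intro d hd
  set N := Nat.card G
  have hN : N ≠ 0 := Nat.card_pos.ne'
  have hA0 : Nat.card A ≠ 0 := Nat.card_pos.ne'
  rw [Nat.card_prod] at hd
  have hd0 : d ≠ 0 := fun h => by rw [h, zero_dvd_iff, mul_eq_zero] at hd; omega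
  have hdl : ∀ r, d.factorization r ≤ N.factorization r + (Nat.card A).factorization r := by
    intro r
    have := (Nat.factorization_le_iff_dvd hd0 (mul_ne_zero hN hA0)).2 hd r
    rwa [Nat.factorization_mul hN hA0] at this
  -- the primes supplied by `G`
  set P : ℕ → Prop := fun r => N.factorization r ≤ d.factorization r
  have hsupp : ∀ Q : ℕ → Prop, ∀ r ∈ (N.factorization.filter Q).support, r.Prime := by
    intro Q r hr
    have h1 : r ∈ N.factorization.support := by
      rw [Finsupp.support_filter] at hr
      exact (Finset.mem_filter.1 hr).1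
    rw [Nat.support_factorization] at h1
    exact Nat.prime_of_mem_primeFactors h1
  have hex : ∀ Q : ℕ → Prop, ∃ m : ℕ, m ≠ 0 ∧ m.factorization = N.factorization.filter Q := fun Q =>
    ⟨_, (Finset.prod_pos fun r hr => pow_pos (hsupp Q r hr).pos _).ne',
      Nat.prod_pow_factorization_eq_self (hsupp Q)⟩
  obtain ⟨m, hm0, hm⟩ := hex P
  obtain ⟨k, hk0, hk⟩ := hex fun r => ¬ P r
  have hNmk : N = m * k := by
    refine Nat.eq_of_factorization_eq hN (mul_ne_zero hm0 hk0) fun r => ?_
    rw [Nat.factorization_mul hm0 hk0, hm, hk, Finsupp.add_apply, Finsupp.filter_apply, Finsupp.filter_apply]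
    by_cases h : P r
    · rw [if_pos h, if_neg (not_not.2 h), add_zero]
    · rw [if_neg h, if_pos h, zero_add]
  have hcop : m.Coprime k := by
    refine Nat.coprime_of_dvd fun r hr h1 h2 => ?_
    have e1 := hr.factorization_pos_of_dvd hm0 h1
    have e2 := hr.factorization_pos_of_dvd hk0 h2
    rw [hm, Finsupp.filter_apply] at e1
    rw [hk, Finsupp.filter_apply] at e2
    by_cases h : P r
    · rw [if_neg (not_not.2 h)] at e2; omega
    · rw [if_neg h] at e1; omega
  have hmd : m ∣ d := by
    refine (Nat.factorization_le_iff_dvd hm0 hd0).1 fun r => ?_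
    rw [hm, Finsupp.filter_apply]
    by_cases h : P r
    · rw [if_pos h]; exact h
    · rw [if_neg h]; exact Nat.zero_le _
  obtain ⟨j, hj⟩ := hmd
  have hj0 : j ≠ 0 := fun h => hd0 (by rw [hj, h, mul_zero])
  have hjA : j ∣ Nat.card A := by
    refine (Nat.factorization_le_iff_dvd hj0 hA0).1 fun r => ?_
    have h1 : d.factorization r = m.factorization r + j.factorization r := by
      rw [hj, Nat.factorization_mul hm0 hj0, Finsupp.add_apply]
    rw [hm, Finsupp.filter_apply] at h1
    have h2 := hdl r
    by_cases hrG : r.Prime ∧ r ∣ N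
    · have h3 := hexp r hrG.1 hrG.2
      by_cases h : P r
      · rw [if_pos h] at h1
        omega
      · rw [if_neg h] at h1
        simp only [P, not_le] at h
        omega
    · have h4 : N.factorization r = 0 := by
        by_cases hr : r.Prime
        · exact Nat.factorization_eq_zero_of_not_dvd fun h => hrG ⟨hr, h⟩
        · exact Nat.factorization_eq_zero_of_not_prime _ hr
      split_ifs at h1 <;> omega
  obtain ⟨H, hH⟩ := Cfsg.Lib.Solv.hall_exists (G := G) hNmk hcop
  obtain ⟨U, hU⟩ := exists_card_eq_of_dvd _ A le_rfl j hjA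
  refine ⟨H.prod U, ?_⟩
  rw [Nat.card_congr (H.prodEquiv U).toEquiv, Nat.card_prod, hH, hU, hj]

end Cfsg.Agent.S0534
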