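import Cfsg.Statements.S0535
import Cfsg.Agent.Lib.Solv.SylowSystem

set_option autoImplicit false
open Cfsg

namespace Cfsg.Agent.S0535

universe u

theorem aux : ∀ (n : ℕ) (G : Type u) [Group G] [Finite G], Nat.card G ≤ n →
    (∀ H : Subgroup G, H ≠ ⊥ → ∀ p : ℕ, p.Prime → p ∣ Nat.card H →
      ∃ K : Subgroup H, K ≠ ⊤ ∧ ∃ k : ℕ, K.index = p ^ k) → Group.IsSolvable G := by
  intro n
  induction n with
  | zero => intro G _ _ h; exact absurd h (Nat.not_le.2 Nat.card_pos)
  | succ n ih =>
    intro G _ _ hn h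
    by_cases h2 : (Nat.card G).primeFactors.card ≤ 2
    · exact Cfsg.Lib.ThreeSolvable.of_card_primeFactors_le_two h2
    obtain ⟨p, q, r, hp, hq, hr, hpq, hpr, hqr⟩ :
        ∃ p q r, p ∈ (Nat.card G).primeFactors ∧ q ∈ (Nat.card G).primeFactors ∧
          r ∈ (Nat.card G).primeFactors ∧ p ≠ q ∧ p ≠ r ∧ q ≠ r :=
      Finset.two_lt_card_iff.1 (by omega)
    have hne : (⊤ : Subgroup G) ≠ ⊥ := fun hb => by
      have h1 : Nat.card G = 1 := by rw [← Subgroup.card_top (G := G), hb, Subgroup.card_bot]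
      rw [h1] at hp
      simp at hp
    have key : ∀ p ∈ (Nat.card G).primeFactors, ∃ H : Subgroup G,
        Group.IsSolvable H ∧ ∃ k : ℕ, H.index = p ^ k := by
      intro p hp
      obtain ⟨K, hK, k, hk⟩ := h ⊤ hne p (Nat.prime_of_mem_primeFactors hp)
        (by rw [Subgroup.card_top]; exact Nat.dvd_of_mem_primeFactors hp)
      have hi : (K.map (Subgroup.topEquiv : (⊤ : Subgroup G) ≃* G).toMonoidHom).index = p ^ k :=
        (Subgroup.index_map_equiv K Subgroup.topEquiv).trans hk
      refine ⟨K.map (Subgroup.topEquiv : (⊤ : Subgroup G) ≃* G).toMonoidHom, ih _ ?_ ?_, k, hi⟩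
      · have hne' : K.map (Subgroup.topEquiv : (⊤ : Subgroup G) ≃* G).toMonoidHom ≠ ⊤ := fun ht => hK (by
          rw [← Subgroup.index_eq_one] at ht ⊢
          rw [hk, ← hi]; exact ht)
        have := Cfsg.Lib.Core.lt_card_of_ne_top hne'
        omega
      · intro H hH l hl hd
        set f := (K.map (Subgroup.topEquiv : (⊤ : Subgroup G) ≃* G).toMonoidHom).subtype
        let e := Subgroup.equivMapOfInjective H f (Subgroup.subtype_injective _)
        obtain ⟨L, hL, j, hj⟩ := h (H.map f) (fun hb => hH (by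
            rwa [Subgroup.map_eq_bot_iff, Subgroup.ker_subtype, le_bot_iff] at hb)) l hl
          (by rwa [← Nat.card_congr e.toEquiv])
        have hji : (L.map e.symm.toMonoidHom).index = l ^ j :=
          (Subgroup.index_map_equiv L e.symm).trans hj
        refine ⟨L.map e.symm.toMonoidHom, fun ht => hL ?_, j, hji⟩
        rw [← Subgroup.index_eq_one] at ht ⊢
        rw [hj, ← hji]; exact ht
    obtain ⟨Hp, hsp, i, hip⟩ := key p hp
    obtain ⟨Hq, hsq, j, hjq⟩ := key q hq
    obtain ⟨Hr, hsr, k, hkr⟩ := key r hr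
    have hc : ∀ {a b i j : ℕ}, a ∈ (Nat.card G).primeFactors → b ∈ (Nat.card G).primeFactors → a ≠ b →
        (a ^ i).Coprime (b ^ j) :=
      fun ha hb hab => ((Nat.coprime_primes (Nat.prime_of_mem_primeFactors ha)
        (Nat.prime_of_mem_primeFactors hb)).2 hab).pow _ _
    exact Cfsg.Lib.ThreeSolvable.of_coprime_indices Hp Hq Hr hsp hsq hsr
      (by rw [hip, hjq]; exact hc hp hq hpq) (by rw [hip, hkr]; exact hc hp hr hpr)
      (by rw [hjq, hkr]; exact hc hq hr hqr)


/-- Suppose that for every nontrivial subgroup H of a finite group and every prime p dividing the order of H there is a proper subgroup of H whose index in H is a power of p. Then the group is solvable. -/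
theorem result {G : Type*} [Group G] [Finite G] (h : ∀ H : Subgroup G, H ≠ ⊥ → ∀ p : ℕ, p.Prime → p ∣ Nat.card H → ∃ K : Subgroup H, K ≠ ⊤ ∧ ∃ k : ℕ, K.index = p ^ k) : Group.IsSolvable G := by
  exact aux _ G le_rfl h

end Cfsg.Agent.S0535
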