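import Cfsg.Statements.S0537
import Cfsg.Agent.Lib.Solv.Schmidt

set_option autoImplicit false
open Cfsg

namespace Cfsg.Agent.S0537

/-- A finite non-abelian group in which every proper subgroup is abelian is either of prime-power order, or is generated by a cyclic Sylow p-subgroup and a normal Sylow q-subgroup that is elementary abelian, for distinct primes p and q. -/
theorem result {G : Type*} [Group G] [Finite G] (hna : ¬ IsMulCommutative G) (h : ∀ H : Subgroup G, H ≠ ⊤ → IsMulCommutative H) : (∃ p : ℕ, p.Prime ∧ IsPGroup p G) ∨ ∃ p q : ℕ, p.Prime ∧ q.Prime ∧ p ≠ q ∧ ∃ (P : Sylow p G) (Q : Sylow q G), IsCyclic P ∧ (Q : Subgroup G).Normal ∧ Cfsg.IsElementaryAbelian q (Q : Subgroup G) ∧ (P : Subgroup G) ⊔ Q = ⊤ := by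
  classical
  have hn' : ∀ H : Subgroup G, H ≠ ⊤ → Group.IsNilpotent H := fun H hH =>
    haveI := h H hH
    Cfsg.Lib.Core.isNilpotent_of_isMulCommutative H
  have hab : ∀ H : Subgroup G, H ≠ ⊤ → ∀ a ∈ H, ∀ b ∈ H, a * b = b * a := fun H hH a ha b hb =>
    haveI := h H hH
    congrArg Subtype.val (mul_comm' (⟨a, ha⟩ : H) ⟨b, hb⟩)
  by_cases hnil : Group.IsNilpotent G
  · left
    by_contra hnp
    apply hna
    have hS : ∀ p : ℕ, ∀ hp : p.Prime, ∀ P : Sylow p G, (P : Subgroup G) ≠ ⊤ := fun p hp P ht =>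
      hnp ⟨p, hp, (P.2.of_equiv ((MulEquiv.subgroupCongr ht).trans Subgroup.topEquiv))⟩
    have hn := ((Group.isNilpotent_of_finite_tfae (G := G)).out 0 3 rfl rfl).mp hnil
    have hcp : ∀ p : ℕ, ∀ hp : p.Prime, ∀ P : Sylow p G, (P : Subgroup G) ≤ Subgroup.center G := by
      intro p hp P x hx
      have hall : ∀ q : ℕ, ∀ hq : q.Prime, ∀ Q : Sylow q G, (Q : Subgroup G) ≤ Subgroup.centralizer {x} := by
        intro q hq Q y hy
        refine Subgroup.mem_centralizer_iff.2 fun z hz => ?_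
        rw [Set.mem_singleton_iff.1 hz]
        by_cases hpq : p = q
        · subst hpq
          haveI : Fact p.Prime := ⟨hp⟩
          haveI := Sylow.unique_of_normal P (hn p ⟨hp⟩ P)
          rw [Subsingleton.elim Q P] at hy
          exact hab _ (hS p hp P) x hx y hy
        · haveI : Fact p.Prime := ⟨hp⟩
          haveI : Fact q.Prime := ⟨hq⟩
          exact Subgroup.commute_of_normal_of_disjoint _ _ (hn p ⟨hp⟩ P) (hn q ⟨hq⟩ Q)
            (IsPGroup.disjoint_of_ne p q hpq _ _ P.2 Q.2) x y hx hy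
      have htop : Subgroup.centralizer ({x} : Set G) = ⊤ := by
        by_contra hne
        obtain ⟨q, hq, hd⟩ := Nat.exists_prime_and_dvd (fun h1 => hne (Subgroup.index_eq_one.1 h1) :
          (Subgroup.centralizer ({x} : Set G)).index ≠ 1)
        haveI : Fact q.Prime := ⟨hq⟩
        exact (default : Sylow q G).not_dvd_index (hd.trans (Subgroup.index_dvd_of_le (hall q hq default)))
      refine Subgroup.mem_center_iff.2 fun g => ?_
      exact (Subgroup.mem_centralizer_iff.1 (htop ▸ Subgroup.mem_top g : g ∈ Subgroup.centralizer ({x} : Set G)) x rfl).symm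
    have hc : Subgroup.center G = ⊤ := by
      by_contra hne
      obtain ⟨q, hq, hd⟩ := Nat.exists_prime_and_dvd (fun h1 => hne (Subgroup.index_eq_one.1 h1) :
        (Subgroup.center G).index ≠ 1)
      haveI : Fact q.Prime := ⟨hq⟩
      exact (default : Sylow q G).not_dvd_index (hd.trans (Subgroup.index_dvd_of_le (hcp q hq default)))
    exact ⟨⟨fun a b => (Subgroup.mem_center_iff.1 (hc ▸ Subgroup.mem_top b) a)⟩⟩
  right
  obtain ⟨p, q, hp, hq, hpq, P, Q, x, hP, hQn, htop⟩ := Cfsg.Lib.Schmidt.structure_thm hnil hn'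
  haveI : Fact p.Prime := ⟨hp⟩
  haveI : Fact q.Prime := ⟨hq⟩
  refine ⟨p, q, hp, hq, hpq, P, Q, by show IsCyclic (P : Subgroup G); rw [hP]; infer_instance, hQn, ?_, htop⟩
  have hQne : (Q : Subgroup G) ≠ ⊤ := fun ht => hnil (by
    have hQp : IsPGroup q G := Q.2.of_equiv ((MulEquiv.subgroupCongr ht).trans Subgroup.topEquiv)
    exact hQp.isNilpotent)
  have hQab := hab _ hQne
  refine ⟨h _ hQne, fun a ha => ?_⟩
  -- a subgroup of `Q` normalised by `x` and different from `Q` is centralised by `x`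
  have hsmall : ∀ W : Subgroup G, W ≤ Q → W ≠ Q → (∀ w ∈ W, x * w * x⁻¹ ∈ W) →
      ∀ w ∈ W, x * w * x⁻¹ = w := by
    intro W hWQ hWne hWx w hw
    have hxW : Subgroup.zpowers x ≤ Subgroup.normalizer (W : Set G) := by
      rw [Subgroup.zpowers_le, Cfsg.Lib.Core.mem_normalizer_iff_map_conj]
      refine Subgroup.eq_of_le_of_card_ge ?_ ?_
      · rintro _ ⟨u, hu, rfl⟩; exact hWx u hu
      · exact (Nat.card_congr (W.equivMapOfInjective _ (MulAut.conj x).injective).toEquiv).le
    have hne : Subgroup.zpowers x ⊔ W ≠ ⊤ := by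
      intro ht
      refine hWne (le_antisymm hWQ fun y hy => ?_)
      obtain ⟨u, hu, v, hv, rfl⟩ := (Cfsg.Lib.Core.mem_sup_of_le_normalizer hxW).1
        (ht.symm ▸ Subgroup.mem_top y : y ∈ Subgroup.zpowers x ⊔ W)
      have hu' : u ∈ (P : Subgroup G) ⊓ Q := by
        refine ⟨hP.symm ▸ hu, ?_⟩
        have := mul_mem hy (inv_mem (hWQ hv))
        rwa [mul_inv_cancel_right] at this
      rw [(IsPGroup.disjoint_of_ne p q hpq _ _ P.2 Q.2).eq_bot, Subgroup.mem_bot] at hu'
      rwa [hu', one_mul]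
    rw [hab _ hne x (Subgroup.mem_sup_left (Subgroup.mem_zpowers x)) w (Subgroup.mem_sup_right hw),
      mul_inv_cancel_right]
  -- the subgroup of elements of order dividing `q`
  let W : Subgroup G :=
    { carrier := {w | w ∈ (Q : Subgroup G) ∧ w ^ q = 1}
      one_mem' := ⟨one_mem _, one_pow _⟩
      mul_mem' := fun {u v} hu hv => ⟨mul_mem hu.1 hv.1, by
        rw [(show Commute u v from hQab u hu.1 v hv.1).mul_pow, hu.2, hv.2, one_mul]⟩
      inv_mem' := fun {u} hu => ⟨inv_mem hu.1, by rw [inv_pow, hu.2, inv_one]⟩ }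
  by_contra haq
  have hWne : W ≠ (Q : Subgroup G) := fun he => haq ((he.symm ▸ ha : a ∈ W).2)
  have hWfix := hsmall W (fun w hw => hw.1) hWne fun w hw =>
    ⟨hQn.conj_mem w hw.1 x, by rw [conj_pow, hw.2, mul_one, mul_inv_cancel]⟩
  -- the subgroup of `q`-th powers
  let V : Subgroup G :=
    { carrier := {w | ∃ u ∈ (Q : Subgroup G), u ^ q = w}
      one_mem' := ⟨1, one_mem _, one_pow _⟩
      mul_mem' := by
        rintro _ _ ⟨u, hu, rfl⟩ ⟨v, hv, rfl⟩
        exact ⟨u * v, mul_mem hu hv, (show Commute u v from hQab u hu v hv).mul_pow q⟩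
      inv_mem' := by
        rintro _ ⟨u, hu, rfl⟩
        exact ⟨u⁻¹, inv_mem hu, inv_pow u q⟩ }
  have hVQ : V ≤ (Q : Subgroup G) := by
    rintro _ ⟨u, hu, rfl⟩
    exact pow_mem hu q
  have hVne : V ≠ (Q : Subgroup G) := by
    intro he
    have hsurj : Function.Surjective fun u : (Q : Subgroup G) => u ^ q := fun w => by
      obtain ⟨u, hu, hue⟩ := (he.symm ▸ w.2 : (w : G) ∈ V)
      exact ⟨⟨u, hu⟩, Subtype.ext hue⟩
    have hinj := Finite.injective_iff_surjective.2 hsurj
    have hQ1 : (Q : Subgroup G) ≠ ⊥ := fun hb => haq (by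
      rw [hb, Subgroup.mem_bot] at ha
      rw [ha, one_pow])
    obtain ⟨k, hk⟩ := IsPGroup.iff_card.1 Q.2
    have hk0 : k ≠ 0 := fun h0 => hQ1 (Subgroup.card_eq_one.1 (by rw [hk, h0, pow_zero]))
    obtain ⟨z, hz⟩ := exists_prime_orderOf_dvd_card' (G := (Q : Subgroup G)) q (hk ▸ dvd_pow_self q hk0)
    have h1 : z ^ q = (1 : (Q : Subgroup G)) ^ q := by rw [one_pow]; exact orderOf_dvd_iff_pow_eq_one.1 hz.dvd
    have := hinj h1
    rw [this, orderOf_one] at hz
    exact hq.ne_one hz.symm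
  have hVfix := hsmall V hVQ hVne (by
    rintro _ ⟨u, hu, rfl⟩
    exact ⟨x * u * x⁻¹, hQn.conj_mem u hu x, conj_pow⟩)
  -- hence `x` centralises `Q`
  have hfix : ∀ y ∈ (Q : Subgroup G), x * y * x⁻¹ = y := by
    intro y hy
    set z := y⁻¹ * (x * y * x⁻¹) with hzdef
    have hzQ : z ∈ (Q : Subgroup G) := mul_mem (inv_mem hy) (hQn.conj_mem y hy x)
    have hzW : z ∈ W := by
      refine ⟨hzQ, ?_⟩
      rw [hzdef, (show Commute y⁻¹ (x * y * x⁻¹) from hQab _ (inv_mem hy) _ (hQn.conj_mem y hy x)).mul_pow,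
        conj_pow, hVfix _ ⟨y, hy, rfl⟩, inv_pow, inv_mul_cancel]
    have hzx : x * z * x⁻¹ = z := hWfix z hzW
    have hxy : x * y * x⁻¹ = y * z := by rw [hzdef, mul_inv_cancel_left]
    have hiter : ∀ n : ℕ, x ^ n * y * (x ^ n)⁻¹ = y * z ^ n := by
      intro n
      induction n with
      | zero => simp
      | succ n ihn =>
        have e : x ^ (n + 1) * y * (x ^ (n + 1))⁻¹ = x * (x ^ n * y * (x ^ n)⁻¹) * x⁻¹ := by
          rw [pow_succ']; simp [mul_assoc]
        rw [e, ihn, pow_succ', ← mul_assoc y z]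
        calc x * (y * z ^ n) * x⁻¹ = (x * y * x⁻¹) * (x * z ^ n * x⁻¹) := by group
          _ = y * z * z ^ n := by rw [hxy, ← conj_pow, hzx]
    have hzn : z ^ orderOf x = 1 := by
      have := hiter (orderOf x)
      rwa [pow_orderOf_eq_one, inv_one, one_mul, mul_one, left_eq_mul] at this
    have hzq : z ^ q = 1 := hzW.2
    obtain ⟨i, hi⟩ := IsPGroup.iff_card.1 P.2
    have hord : orderOf x = p ^ i := by rw [← Nat.card_zpowers, ← hP]; exact hi
    have hz1 : z = 1 := by
      rw [← orderOf_eq_one_iff]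
      refine Nat.eq_one_of_dvd_coprimes (((Nat.coprime_primes hp hq).2 hpq).pow_left i) ?_
        (orderOf_dvd_of_pow_eq_one hzq)
      rw [← hord]
      exact orderOf_dvd_of_pow_eq_one hzn
    rw [hxy, hz1, mul_one]
  apply hna
  have hsupc : ∀ g ∈ (P : Subgroup G) ⊔ Q, ∀ k ∈ (P : Subgroup G) ⊔ Q, g * k = k * g := by
    have hgen : ((P : Subgroup G) ⊔ Q) ≤ Subgroup.centralizer (((P : Subgroup G) ⊔ Q : Subgroup G) : Set G) := by
      have h1 : ∀ u ∈ (P : Subgroup G), ∀ v ∈ (Q : Subgroup G), Commute u v := by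
        intro u hu v hv
        rw [hP] at hu
        obtain ⟨i, rfl⟩ := Subgroup.mem_zpowers_iff.1 hu
        refine Commute.zpow_left ?_ i
        have := hfix v hv
        exact mul_inv_eq_iff_eq_mul.1 this
      rw [← Subgroup.commutator_eq_bot_iff_le_centralizer]
      have hPP : ⁅(P : Subgroup G), (P : Subgroup G)⁆ = ⊥ := by
        rw [Cfsg.Lib.Core.commutator_eq_bot_iff_forall]
        intro u hu v hv
        rw [hP] at hu hv
        obtain ⟨i, rfl⟩ := Subgroup.mem_zpowers_iff.1 hu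
        obtain ⟨j, rfl⟩ := Subgroup.mem_zpowers_iff.1 hv
        exact ((Commute.refl x).zpow_zpow i j)
      have hPQ : ⁅(P : Subgroup G), (Q : Subgroup G)⁆ = ⊥ :=
        Cfsg.Lib.Core.commutator_eq_bot_iff_forall.2 h1
      have hQQ : ⁅(Q : Subgroup G), (Q : Subgroup G)⁆ = ⊥ :=
        Cfsg.Lib.Core.commutator_eq_bot_iff_forall.2 hQab
      have hQP : ⁅(Q : Subgroup G), (P : Subgroup G)⁆ = ⊥ := by rw [Subgroup.commutator_comm]; exact hPQ
      refine Cfsg.Lib.Core.commutator_sup_left_eq_bot ?_ ?_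
      · rw [Subgroup.commutator_comm]; exact Cfsg.Lib.Core.commutator_sup_left_eq_bot hPP hQP
      · rw [Subgroup.commutator_comm]; exact Cfsg.Lib.Core.commutator_sup_left_eq_bot hPQ hQQ
    intro g hg k hk
    exact (Subgroup.mem_centralizer_iff.1 (hgen hk) g hg)
  exact ⟨⟨fun a b => hsupc a (htop ▸ Subgroup.mem_top a) b (htop ▸ Subgroup.mem_top b)⟩⟩

end Cfsg.Agent.S0537
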