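import Cfsg.Statements.S0539
import Cfsg.Agent.Lib.Solv.SubnormalJoin
import Cfsg.Agent.Lib.Core.Basic
import Cfsg.Agent.Lib.Core.Smul

set_option autoImplicit false
open Pointwise
open Cfsg

namespace Cfsg.Agent.S0539

open scoped Pointwise

universe u

theorem exists_conj_le_normalizer {G : Type u} [Group G] {T : Subgroup G} (hT : T.IsSubnormal)
    (hn : ¬ T.Normal) : ∃ g : G, T.map (MulAut.conj g).toMonoidHom ≠ T ∧
      T.map (MulAut.conj g).toMonoidHom ≤ Subgroup.normalizer (T : Set G) := by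
  classical
  obtain ⟨n, f, hmono, hnorm, h0, hn'⟩ := Subgroup.IsSubnormal.isSubnormal_iff.1 hT
  have hex : ∃ i, ¬ f i ≤ Subgroup.normalizer (T : Set G) :=
    ⟨n, fun h => hn (Subgroup.normalizer_eq_top_iff.1 (top_le_iff.1 (hn' ▸ h)))⟩
  obtain ⟨j, hj⟩ : ∃ j, Nat.find hex = j + 1 := by
    refine Nat.exists_eq_succ_of_ne_zero fun h => ?_
    have h1 := Nat.find_spec hex
    rw [h, h0] at h1
    exact h1 Subgroup.le_normalizer
  have hjN : f j ≤ Subgroup.normalizer (T : Set G) := by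
    by_contra h
    have := Nat.find_min' hex h
    omega
  obtain ⟨g, hg, hgN⟩ := SetLike.not_le_iff_exists.1 (hj ▸ Nat.find_spec hex)
  refine ⟨g, fun h => hgN (Cfsg.Lib.Core.mem_normalizer_iff_map_conj.2 h), le_trans ?_ hjN⟩
  rintro _ ⟨t, ht, rfl⟩
  have hgn : g ∈ Subgroup.normalizer (f j : Set G) :=
    (Subgroup.normal_subgroupOf_iff_le_normalizer (hmono (Nat.le_succ j))).1 (hnorm j) hg
  exact (Subgroup.mem_normalizer_iff.1 hgn t).1 ((h0 ▸ hmono (Nat.zero_le j) : T ≤ f j) ht)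

/-- The normalizer lemma, relative to an ambient subgroup. -/
theorem exists_normalizing {G : Type u} [Group G] [Finite G] (V : Subgroup G) (S S₀ : Set (Subgroup G))
    (hS : ∀ U ∈ S, U ≤ V ∧ (U.subgroupOf V).IsSubnormal)
    (hconj : ∀ U ∈ S, ∀ g ∈ V, MulAut.conj g • U ∈ S) (h₀ : S₀ ⊂ S) :
    ∃ X ∈ S, X ∉ S₀ ∧ X ≤ Subgroup.normalizer ((sSup S₀ : Subgroup G) : Set G) := by
  classical
  set T := sSup S₀
  set N := Subgroup.normalizer (T : Set G)
  by_cases hVN : V ≤ N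
  · obtain ⟨X, hX, hX0⟩ := Set.exists_of_ssubset h₀
    exact ⟨X, hX, hX0, (hS X hX).1.trans hVN⟩
  have hT : T ∈ {H : Subgroup G | H ≤ V ∧ (H.subgroupOf V).IsSubnormal} := by
    rw [show T = ⨆ U : S₀, (U : Subgroup G) from sSup_eq_iSup' S₀]
    refine Cfsg.Lib.Core.iSup_mem_of_sup_mem (S := {H : Subgroup G | H ≤ V ∧ (H.subgroupOf V).IsSubnormal})
      ⟨bot_le, by simp⟩ (fun a ha b hb => ⟨sup_le ha.1 hb.1, ?_⟩) _
      fun U => hS U (h₀.1 U.2)
    rw [Subgroup.subgroupOf_sup ha.1 hb.1]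
    exact Cfsg.Lib.SubnormalJoin.isSubnormal_join ha.2 hb.2
  have hn : ¬ (T.subgroupOf V).Normal := fun h => hVN ((Subgroup.normal_subgroupOf_iff_le_normalizer hT.1).1 h)
  obtain ⟨g, hne, hle⟩ := exists_conj_le_normalizer hT.2 hn
  have hmap : ∀ U : Subgroup G, U.map (MulAut.conj (g : G)).toMonoidHom = MulAut.conj (g : G) • U :=
    fun U => (Cfsg.Lib.Core.conj_smul_eq_map U _).symm
  have hle' : MulAut.conj (g : G) • T ≤ N := by
    rw [← hmap]
    rintro _ ⟨t, ht, rfl⟩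
    have h1 : g * (⟨t, hT.1 ht⟩ : V) * g⁻¹ ∈ Subgroup.normalizer (T.subgroupOf V : Set V) :=
      hle ⟨⟨t, hT.1 ht⟩, ht, rfl⟩
    rw [Cfsg.Lib.Core.mem_normalizer_iff_map_conj] at h1 ⊢
    have h2 := congrArg (Subgroup.map V.subtype) h1
    rw [Subgroup.map_map, show V.subtype.comp (MulAut.conj (g * (⟨t, hT.1 ht⟩ : V) * g⁻¹)).toMonoidHom =
        (MulAut.conj ((g : G) * t * (g : G)⁻¹)).toMonoidHom.comp V.subtype from MonoidHom.ext fun _ => rfl,
      ← Subgroup.map_map, Subgroup.map_subgroupOf_eq_of_le hT.1] at h2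
    exact h2
  by_contra hno
  push Not at hno
  have hsub : MulAut.conj (g : G) • T ≤ T := by
    rw [← hmap, Subgroup.map_le_iff_le_comap]
    refine sSup_le fun U hU => Subgroup.map_le_iff_le_comap.1 ?_
    rw [hmap]
    have hUS := hconj U (h₀.1 hU) g g.2
    by_cases h : MulAut.conj (g : G) • U ∈ S₀
    · exact le_sSup h
    · refine absurd (le_trans ?_ hle') (hno _ hUS h)
      rw [← hmap, ← hmap]
      exact Subgroup.map_mono (le_sSup hU)
  refine hne (Subgroup.eq_of_le_of_card_ge ?_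
    (Nat.card_congr ((T.subgroupOf V).equivMapOfInjective _ (MulAut.conj g).injective).toEquiv).le)
  rintro _ ⟨t, ht, rfl⟩
  rw [← hmap] at hsub
  exact Subgroup.mem_subgroupOf.2 (hsub ⟨(t : G), ht, rfl⟩)


/-- Let S be a family of subnormal subgroups of a finite group that is closed under conjugation, and S₀ a proper subfamily. Then some member of S not in S₀ normalizes the join of S₀. -/
theorem result {G : Type*} [Group G] [Finite G] (S S₀ : Set (Subgroup G)) (hS : ∀ U ∈ S, U.IsSubnormal) (hconj : ∀ U ∈ S, ∀ g : G, MulAut.conj g • U ∈ S) (h₀ : S₀ ⊂ S) : ∃ X ∈ S, X ∉ S₀ ∧ X ≤ Subgroup.normalizer ((sSup S₀ : Subgroup G) : Set G) := by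
  exact exists_normalizing ⊤ S S₀ (fun U hU => ⟨le_top, (hS U hU).subgroupOf⟩)
    (fun U hU g _ => hconj U hU g) h₀

end Cfsg.Agent.S0539
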