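import Cfsg.Statements.S0540
import Cfsg.Agent.S0539
import Cfsg.Agent.Lib.Core.Smul

set_option autoImplicit false
open Pointwise
open Cfsg

namespace Cfsg.Agent.S0540

/-- A uniqueness lemma of zipper type. Let A be a subgroup of a finite group G and U a nonempty family of subgroups. For V in U write S(V) for the set of conjugates of A that lie in V and are subnormal in V. Assume: A belongs to S(V) for every V in U; a member of some S(W) that lies in V belongs to S(V); and for all V, W in U the normalizer of the join of S(V) ∩ S(W) lies in some member of U. Then U has a greatest element. -/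
theorem result {G : Type*} [Group G] [Finite G] (A : Subgroup G) (U : Set (Subgroup G)) (hU : U.Nonempty) (S : Subgroup G → Set (Subgroup G)) (hS : ∀ V B : Subgroup G, B ∈ S V ↔ (∃ g : G, B = MulAut.conj g • A) ∧ B ≤ V ∧ (B.subgroupOf V).IsSubnormal) (h1 : ∀ V ∈ U, A ∈ S V) (h2 : ∀ V ∈ U, ∀ W ∈ U, ∀ B ∈ S W, B ≤ V → B ∈ S V) (h3 : ∀ V ∈ U, ∀ W ∈ U, ∃ X ∈ U, Subgroup.normalizer ((sSup (S V ∩ S W) : Subgroup G) : Set G) ≤ X) : ∃ M ∈ U, ∀ V ∈ U, V ≤ M := by
  classical
  have hmem : ∀ V B, B ∈ S V → B ≤ V := fun V B hB => ((hS V B).1 hB).2.1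
  have hconj : ∀ V, ∀ B ∈ S V, ∀ g ∈ V, MulAut.conj g • B ∈ S V := by
    intro V B hB g hg
    obtain ⟨⟨k, rfl⟩, hle, hsn⟩ := (hS V B).1 hB
    refine (hS V _).2 ⟨⟨g * k, by rw [map_mul, mul_smul]⟩, ?_, ?_⟩
    · rw [Cfsg.Lib.Core.conj_smul_eq_map]
      rintro _ ⟨z, hz, rfl⟩
      exact mul_mem (mul_mem hg (hle hz)) (inv_mem hg)
    · have h1 := hsn.map (f := (MulAut.conj (⟨g, hg⟩ : V)).toMonoidHom) (MulAut.conj (⟨g, hg⟩ : V)).surjective
      convert h1 using 1
      ext z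
      simp only [Subgroup.mem_subgroupOf, Cfsg.Lib.Core.conj_smul_eq_map, Subgroup.mem_map]
      constructor
      · rintro ⟨w, hw, hwe⟩
        refine ⟨⟨w, hle ?_⟩, ?_, Subtype.ext hwe⟩
        · exact hw
        · exact hw
      · rintro ⟨w, hw, rfl⟩
        exact ⟨(w : G), hw, rfl⟩
  obtain ⟨M, hM⟩ := (Set.toFinite U).exists_maximal hU
  refine ⟨M, hM.1, ?_⟩
  by_contra hno
  push Not at hno
  obtain ⟨V₀, hV₀, hV₀M⟩ := hno
  obtain ⟨V', hVV', hV'⟩ := Finite.exists_le_maximal (p := (· ∈ U)) hV₀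
  -- two maximal members with the largest common family
  obtain ⟨⟨V, W⟩, ⟨hV, hW, hVW⟩, hmax⟩ := Set.Finite.exists_maximalFor
    (fun x : Subgroup G × Subgroup G => (S x.1 ∩ S x.2).ncard)
    {x : Subgroup G × Subgroup G | Maximal (· ∈ U) x.1 ∧ Maximal (· ∈ U) x.2 ∧ x.1 ≠ x.2}
    (Set.toFinite _) ⟨(M, V'), hM, hV', fun h => hV₀M (hVV'.trans h.ge)⟩
  change Maximal (· ∈ U) V at hV
  change Maximal (· ∈ U) W at hW
  change V ≠ W at hVW
  set S₀ := S V ∩ S W
  set T := sSup S₀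
  obtain ⟨X, hX, hTX⟩ := h3 V hV.1 W hW.1
  obtain ⟨X', hXX', hX'⟩ := Finite.exists_le_maximal (p := (· ∈ U)) hX
  have hNX' : Subgroup.normalizer (T : Set G) ≤ X' := hTX.trans hXX'
  -- each of `V` and `W` must equal `X'`
  have key : ∀ Y Y' : Subgroup G, Maximal (· ∈ U) Y → (∀ Z : Subgroup G, Maximal (· ∈ U) Z → Z ≠ Y → (S Y ∩ S Z).ncard ≤ S₀.ncard) →
      S₀ = S Y ∩ S Y' → X' = Y := by
    intro Y Y' hY hbound hS0
    by_contra hne
    have hsub : S₀ ⊆ S Y := hS0 ▸ Set.inter_subset_left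
    rcases hsub.eq_or_ssubset with heq | hss
    · -- `Y` normalises the join
      have hle : Y ≤ X' := by
        refine le_trans (fun y hy => ?_) hNX'
        rw [Cfsg.Lib.Core.mem_normalizer_iff_map_conj]
        refine Subgroup.eq_of_le_of_card_ge ?_ (Nat.card_congr (T.equivMapOfInjective _ (MulAut.conj y).injective).toEquiv).le
        rw [Subgroup.map_le_iff_le_comap]
        refine sSup_le fun B hB => Subgroup.map_le_iff_le_comap.1 ?_
        rw [← Cfsg.Lib.Core.conj_smul_eq_map]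
        exact le_sSup (heq.symm ▸ hconj Y B (heq ▸ hB) y hy)
      exact hne (le_antisymm (hY.2 hX'.1 hle) hle)
    · obtain ⟨B, hB, hB0, hBN⟩ := Cfsg.Agent.S0539.exists_normalizing Y (S Y) S₀
        (fun B hB => ((hS Y B).1 hB).2) (hconj Y) hss
      have h1 : insert B S₀ ⊆ S Y ∩ S X' := by
        refine Set.insert_subset ⟨hB, h2 X' hX'.1 Y hY.1 B hB (hBN.trans hNX')⟩ fun C hC => ⟨hsub hC, ?_⟩
        exact h2 X' hX'.1 Y hY.1 C (hsub hC) ((le_sSup hC).trans (Subgroup.le_normalizer.trans hNX'))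
      have h4 := Set.ncard_le_ncard h1 (Set.toFinite _)
      rw [Set.ncard_insert_of_notMem hB0 (Set.toFinite _)] at h4
      have := hbound X' hX' hne
      omega
  have hbound : ∀ Y : Subgroup G, Maximal (· ∈ U) Y → ∀ Z : Subgroup G, Maximal (· ∈ U) Z → Z ≠ Y →
      (S Y ∩ S Z).ncard ≤ S₀.ncard := by
    intro Y hY Z hZ hne
    by_contra hlt
    have h1 : S₀.ncard ≤ (S Y ∩ S Z).ncard := by omega
    exact hlt (hmax (j := (Y, Z)) ⟨hY, hZ, hne.symm⟩ h1)
  exact hVW ((key V W hV (hbound V hV) rfl).symm.trans (key W V hW (hbound W hW) (Set.inter_comm _ _)))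

end Cfsg.Agent.S0540
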