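import Cfsg.Statements.S0541
import Cfsg.Agent.S0539
import Cfsg.Agent.Lib.Solv.Nilpotent
import Cfsg.Agent.Lib.Core.Smul

set_option autoImplicit false
open Pointwise
open Cfsg

namespace Cfsg.Agent.S0541

/-- Let Z and Y be subgroups of a finite group G and p a prime. Suppose that for every g in G the subgroup generated by the conjugates of g Z g⁻¹ under Y is a p-group. Then there is a Sylow p-subgroup P of G such that Y normalizes the subgroup generated by all conjugates of Z contained in P. -/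
theorem result {G : Type*} [Group G] [Finite G] (p : ℕ) [Fact p.Prime] (Z Y : Subgroup G) (h : ∀ g : G, IsPGroup p ↥(⨆ y ∈ Y, MulAut.conj (y * g) • Z)) : ∃ P : Sylow p G, Y ≤ Subgroup.normalizer ((⨆ g ∈ {g : G | MulAut.conj g • Z ≤ (P : Subgroup G)}, MulAut.conj g • Z : Subgroup G) : Set G) := by
  classical
  let C : Subgroup G → Set (Subgroup G) := fun X => {U | U ≤ X ∧ ∃ g : G, U = MulAut.conj g • Z}
  obtain ⟨X, hX⟩ := (Set.toFinite {X : Subgroup G | IsPGroup p X ∧ Y ≤ Subgroup.normalizer (X : Set G) ∧ X ≤ sSup (C X)}).exists_maximal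
    ⟨⊥, IsPGroup.of_bot, by rw [Subgroup.normalizer_eq_top]; exact le_top, bot_le⟩
  obtain ⟨hXp, hYX, hXgen⟩ := hX.1
  obtain ⟨P, hXP⟩ := hXp.exists_le_sylow
  refine ⟨P, ?_⟩
  suffices heq : (⨆ g ∈ {g : G | MulAut.conj g • Z ≤ (P : Subgroup G)}, MulAut.conj g • Z) = X by rw [heq]; exact hYX
  refine le_antisymm (iSup₂_le fun g hg => ?_) (hXgen.trans (sSup_le ?_))
  swap
  · rintro U ⟨hUX, k, rfl⟩
    exact le_iSup₂ (f := fun g _ => MulAut.conj g • Z) k (show MulAut.conj k • Z ≤ (P : Subgroup G) from hUX.trans hXP)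
  by_contra hgX
  have hss : C X ⊂ C (P : Subgroup G) :=
    ⟨fun U hU => ⟨hU.1.trans hXP, hU.2⟩, fun h' => hgX (h' ⟨hg, g, rfl⟩).1⟩
  obtain ⟨U, hU, hUX, hUN⟩ := Cfsg.Agent.S0539.exists_normalizing (P : Subgroup G) (C (P : Subgroup G)) (C X)
    (fun U hU => ⟨hU.1, by
      haveI := (P.2 : IsPGroup p (P : Subgroup G)).isNilpotent
      exact (Cfsg.Lib.Solv.isNilpotent_iff_forall_isSubnormal.1 inferInstance) _⟩)
    (fun U hU k hk => by
      obtain ⟨hUP, j, rfl⟩ := hU
      refine ⟨?_, k * j, by rw [map_mul, mul_smul]⟩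
      rw [Cfsg.Lib.Core.conj_smul_eq_map]
      rintro _ ⟨z, hz, rfl⟩
      exact mul_mem (mul_mem hk (hUP hz)) (inv_mem hk)) hss
  have hXe : sSup (C X) = X := le_antisymm (sSup_le fun U hU => hU.1) hXgen
  rw [hXe] at hUN
  obtain ⟨hUP, g₀, rfl⟩ := hU
  set W := ⨆ y ∈ Y, MulAut.conj (y * g₀) • Z
  have hmap : ∀ (y : G) (V : Subgroup G), MulAut.conj y • V = V.map (MulAut.conj y).toMonoidHom :=
    fun y V => Cfsg.Lib.Core.conj_smul_eq_map V y
  have hWN : W ≤ Subgroup.normalizer (X : Set G) := iSup₂_le fun y hy => by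
    rw [map_mul, mul_smul, hmap y]
    refine le_trans (Subgroup.map_mono hUN) ((Subgroup.le_normalizer_map _).trans ?_)
    rw [Cfsg.Lib.Core.map_conj_eq_of_mem_normalizer (hYX hy)]
  have hYW : Y ≤ Subgroup.normalizer (W : Set G) := by
    intro y hy
    rw [Cfsg.Lib.Core.mem_normalizer_iff_map_conj]
    refine Subgroup.eq_of_le_of_card_ge ?_
      (Nat.card_congr (W.equivMapOfInjective _ (MulAut.conj y).injective).toEquiv).le
    rw [Subgroup.map_le_iff_le_comap]
    refine iSup₂_le fun y' hy' => Subgroup.map_le_iff_le_comap.1 ?_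
    rw [← hmap, ← mul_smul, ← map_mul, ← mul_assoc]
    exact le_iSup₂ (f := fun z _ => MulAut.conj (z * g₀) • Z) (y * y') (mul_mem hy hy')
  set X' := X ⊔ W
  have hX' : X' ∈ {X : Subgroup G | IsPGroup p X ∧ Y ≤ Subgroup.normalizer (X : Set G) ∧ X ≤ sSup (C X)} := by
    refine ⟨hXp.to_sup_of_normal_left' (h g₀) hWN, ?_, sup_le (hXgen.trans (sSup_le_sSup fun U hU => ⟨hU.1.trans le_sup_left, hU.2⟩)) ?_⟩
    · intro y hy
      rw [Cfsg.Lib.Core.mem_normalizer_iff_map_conj, Subgroup.map_sup,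
        Cfsg.Lib.Core.map_conj_eq_of_mem_normalizer (hYX hy), Cfsg.Lib.Core.map_conj_eq_of_mem_normalizer (hYW hy)]
    · exact iSup₂_le fun y hy => le_sSup
        ⟨(le_iSup₂ (f := fun z _ => MulAut.conj (z * g₀) • Z) y hy).trans le_sup_right, y * g₀, rfl⟩
  have hle := hX.2 hX' le_sup_left
  refine hUX ⟨?_, g₀, rfl⟩
  have h1 := le_iSup₂ (f := fun z _ => MulAut.conj (z * g₀) • Z) 1 Y.one_mem
  simp only [one_mul] at h1
  exact h1.trans ((le_sup_right : W ≤ X').trans hle)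

end Cfsg.Agent.S0541
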