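import Cfsg.Statements.S0544
import Cfsg.Agent.Lib.Solv.SylowSystem

set_option autoImplicit false
open Cfsg

namespace Cfsg.Agent.S0544

/-- In a finite solvable group the intersection of the normalizers of the members of a Hall complement system is a nilpotent subgroup. -/
theorem result {G : Type*} [Group G] [Finite G] [Group.IsSolvable G] (K : Nat.Primes → Subgroup G) (hK : Cfsg.IsComplementSystem K) : Group.IsNilpotent (Cfsg.systemNormalizer K) := by
  classical
  set D := systemNormalizer K with hD
  refine (Group.isNilpotent_of_finite_tfae.out 0 3).mpr fun p hp P => ?_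
  let r : Nat.Primes := ⟨p, hp.out⟩
  set T := ⨅ q : {q : Nat.Primes // q ≠ r}, K q
  have hDK : ∀ q : Nat.Primes, ∀ d ∈ D, ∀ x : G, x ∈ K q ↔ d * x * d⁻¹ ∈ K q := fun q d hd x =>
    Subgroup.mem_normalizer_iff.1 ((Subgroup.mem_iInf.1 hd) q) x
  have hTn : (T.subgroupOf D).Normal := by
    refine ⟨fun x hx d => ?_⟩
    rw [Subgroup.mem_subgroupOf] at hx ⊢
    rw [Subgroup.mem_iInf] at hx ⊢
    intro q
    push_cast
    exact (hDK q d d.2 x).1 (hx q)
  have hTp : IsPGroup p (T.subgroupOf D) := by
    have h1 : IsPGroup p T := IsPGroup.of_card (n := (Nat.card G).factorization p)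
      (Cfsg.Lib.SylowSystem.card_iInf_ne hK r)
    exact h1.comap_of_injective D.subtype D.subtype_injective
  have hle : (P : Subgroup D) ≤ T.subgroupOf D := by
    intro x hx
    rw [Subgroup.mem_subgroupOf, Subgroup.mem_iInf]
    rintro ⟨q, hq⟩
    set M := Subgroup.normalizer (K q : Set G)
    have hxM : (x : G) ∈ M := (Subgroup.mem_iInf.1 x.2) q
    let x' : M := ⟨x, hxM⟩
    have h1 : orderOf (QuotientGroup.mk' ((K q).subgroupOf M) x') ∣ (q : ℕ) ^ (Nat.card G).factorization q := by
      refine (orderOf_dvd_natCard _).trans ?_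
      rw [← hK q]
      exact Subgroup.relIndex_dvd_index_of_le Subgroup.le_normalizer
    obtain ⟨k, hk⟩ := P.2 ⟨x, hx⟩
    have h2 : orderOf (QuotientGroup.mk' ((K q).subgroupOf M) x') ∣ p ^ k := by
      refine orderOf_dvd_of_pow_eq_one ?_
      have hk1 : (x : D) ^ (p ^ k) = 1 := congrArg Subtype.val hk
      have hk2 : x' ^ (p ^ k) = 1 := Subtype.ext (by
        rw [SubmonoidClass.coe_pow]
        have h5 := congrArg Subtype.val hk1
        rw [SubmonoidClass.coe_pow] at h5
        exact h5)
      rw [← map_pow, hk2, map_one]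
    have h3 : ((q : ℕ) ^ (Nat.card G).factorization q).Coprime (p ^ k) :=
      ((Nat.coprime_primes q.2 hp.out).2 fun h => hq (Subtype.ext h)).pow _ _
    have h4 := Nat.eq_one_of_dvd_coprimes h3 h1 h2
    rw [orderOf_eq_one_iff, QuotientGroup.mk'_apply, QuotientGroup.eq_one_iff, Subgroup.mem_subgroupOf] at h4
    exact h4
  have h6 := P.3 hTp hle
  rwa [← h6]

end Cfsg.Agent.S0544
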