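import Cfsg.Statements.S0546
import Cfsg.Agent.Lib.Solv.SystemQuotient
open scoped commutatorElement

set_option autoImplicit false
open Cfsg

namespace Cfsg.Agent.S0546

/-- The normal closure of a system normalizer of a finite solvable group is the whole group. -/
theorem result {G : Type*} [Group G] [Finite G] [Group.IsSolvable G] (K : Nat.Primes → Subgroup G) (hK : Cfsg.IsComplementSystem K) : Subgroup.normalClosure ((Cfsg.systemNormalizer K : Subgroup G) : Set G) = ⊤ := by
  classical
  by_contra hne
  set M₀ := Subgroup.normalClosure ((Cfsg.systemNormalizer K : Subgroup G) : Set G)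
  haveI : M₀.Normal := Subgroup.normalClosure_normal
  haveI : Nontrivial (G ⧸ M₀) := QuotientGroup.nontrivial_iff.2 hne
  have hlt := (Group.IsSolvable.commutator_lt_top_of_nontrivial (G ⧸ M₀)).ne
  set M := M₀ ⊔ commutator G
  have hM : M ≠ ⊤ := fun ht => hlt (by
    have h1 := congrArg (Subgroup.map (QuotientGroup.mk' M₀)) ht
    rw [Subgroup.map_sup, Subgroup.map_top_of_surjective _ (QuotientGroup.mk'_surjective M₀),
      (Subgroup.map_eq_bot_iff _).2 (QuotientGroup.ker_mk' M₀).ge, bot_sup_eq] at h1
    rw [commutator_def, Subgroup.map_commutator,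
      Subgroup.map_top_of_surjective _ (QuotientGroup.mk'_surjective M₀)] at h1
    exact h1)
  have hf := QuotientGroup.mk'_surjective M
  have hcomm : ∀ a b : G ⧸ M, a * b = b * a := by
    intro a b
    obtain ⟨x, rfl⟩ := hf a
    obtain ⟨y, rfl⟩ := hf b
    rw [← map_mul, ← map_mul, QuotientGroup.mk'_eq_mk']
    refine ⟨⁅y⁻¹, x⁻¹⁆, Subgroup.mem_sup_right (Subgroup.commutator_mem_commutator
      (Subgroup.mem_top _) (Subgroup.mem_top _)), ?_⟩
    rw [commutatorElement_def]; group
  refine hM (top_le_iff.1 fun g _ => ?_)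
  have h1 : QuotientGroup.mk' M g ∈ Cfsg.systemNormalizer (fun p => (K p).map (QuotientGroup.mk' M)) :=
    Subgroup.mem_iInf.2 fun p => Subgroup.centralizer_le_normalizer _
      (Subgroup.mem_centralizer_iff.2 fun x _ => hcomm x _)
  rw [Cfsg.Lib.SylowSystem.systemNormalizer_map hK M] at h1
  obtain ⟨d, hd, hde⟩ := h1
  have h2 : QuotientGroup.mk' M g = 1 := by
    rw [← hde]
    exact (QuotientGroup.eq_one_iff d).2 (Subgroup.mem_sup_left (Subgroup.subset_normalClosure hd))
  exact (QuotientGroup.eq_one_iff g).1 h2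

end Cfsg.Agent.S0546
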