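import Cfsg.Statements.S0547
import Cfsg.Agent.Lib.Solv.Primitive

set_option autoImplicit false
open Cfsg

namespace Cfsg.Agent.S0547

/-- Let a finite solvable group G act faithfully and primitively on a set, and let M be a minimal normal subgroup of G. Then M is transitive with trivial point stabilizers, and the number of points equals the order of M, which is a prime power p ^ d with d ≥ 1. -/
theorem result {G : Type*} [Group G] [Finite G] [Group.IsSolvable G] {Ω : Type*} [Nonempty Ω] [MulAction G Ω] [FaithfulSMul G Ω] (hprim : MulAction.IsPreprimitive G Ω) (M : Subgroup G) [M.Normal] (hM : M ≠ ⊥) (hmin : ∀ K : Subgroup G, K.Normal → K ≤ M → K = ⊥ ∨ K = M) : MulAction.IsPretransitive M Ω ∧ (∀ ω : Ω, MulAction.stabilizer M ω = ⊥) ∧ ∃ p d : ℕ, p.Prime ∧ 0 < d ∧ Nat.card Ω = p ^ d ∧ Nat.card M = p ^ d := by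
  obtain ⟨hab, htr, hreg, -⟩ := Cfsg.Lib.Solv.primitive_regular hprim hM hmin
  obtain ⟨-, p, hp, -, hpg⟩ := Cfsg.Lib.Core.minimal_solvable_elementary ⟨‹M.Normal›, hM, hmin⟩ inferInstance
  have := Fact.mk hp
  obtain ⟨d, hd⟩ := IsPGroup.iff_card.1 hpg
  obtain ⟨ω⟩ := ‹Nonempty Ω›
  have hbij : Function.Bijective (fun m : M => m • ω) := by
    refine ⟨fun a b h => ?_, fun α => MulAction.exists_smul_eq M ω α⟩
    have h' : b⁻¹ * a ∈ MulAction.stabilizer M ω := by
      rw [MulAction.mem_stabilizer_iff, mul_smul, inv_smul_eq_iff]; exact h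
    rw [hreg ω, Subgroup.mem_bot, inv_mul_eq_one] at h'
    exact h'.symm
  refine ⟨htr, hreg, p, d, hp, ?_, ?_, hd⟩
  · rcases Nat.eq_zero_or_pos d with rfl | h
    · exact absurd (Subgroup.card_eq_one.1 (by simpa using hd)) hM
    · exact h
  · rw [← Nat.card_congr (Equiv.ofBijective _ hbij), hd]

end Cfsg.Agent.S0547
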