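import Cfsg.Statements.S0548
import Cfsg.Agent.Lib.Solv.Primitive

set_option autoImplicit false
open Cfsg

namespace Cfsg.Agent.S0548

/-- Let a finite solvable group G act faithfully and primitively on a set, let M be a minimal normal subgroup and H the stabilizer of a point. Then H is a complement to M, no non-identity element of H centralizes M, and the only subgroups of M normalized by H are the trivial subgroup and M. -/
theorem result {G : Type*} [Group G] [Finite G] [Group.IsSolvable G] {Ω : Type*} [MulAction G Ω] [FaithfulSMul G Ω] (hprim : MulAction.IsPreprimitive G Ω) (M : Subgroup G) [M.Normal] (hM : M ≠ ⊥) (hmin : ∀ K : Subgroup G, K.Normal → K ≤ M → K = ⊥ ∨ K = M) (ω : Ω) : Subgroup.IsComplement' M (MulAction.stabilizer G ω) ∧ MulAction.stabilizer G ω ⊓ Subgroup.centralizer (M : Set G) = ⊥ ∧ ∀ K : Subgroup G, K ≤ M → MulAction.stabilizer G ω ≤ Subgroup.normalizer (K : Set G) → K = ⊥ ∨ K = M := by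
  obtain ⟨hab, htr, hreg, hco⟩ := Cfsg.Lib.Solv.primitive_regular hprim hM hmin
  set H := MulAction.stabilizer G ω
  have hdisj : Disjoint M H := by
    rw [disjoint_iff, eq_bot_iff]
    intro x hx
    have : (⟨x, hx.1⟩ : M) ∈ MulAction.stabilizer M ω := hx.2
    rw [hreg ω, Subgroup.mem_bot] at this
    exact Subgroup.mem_bot.2 (congrArg Subtype.val this)
  have htop : M ⊔ H = ⊤ := (hco ω).2 _ (right_lt_sup.2 fun hle =>
    hM (eq_bot_iff.2 fun x hx => hdisj.le_bot ⟨hx, hle hx⟩))
  refine ⟨Subgroup.isComplement'_of_disjoint_and_mul_eq_univ hdisj ?_, ?_, fun K hK hH => ?_⟩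
  · rw [← Subgroup.normal_mul, htop, Subgroup.coe_top]
  · refine eq_bot_iff.2 fun h hh => Subgroup.mem_bot.2 (eq_of_smul_eq_smul fun α : Ω => ?_)
    obtain ⟨n, rfl⟩ := MulAction.exists_smul_eq M ω α
    rw [one_smul]
    change h • ((n : G) • ω) = (n : G) • ω
    rw [smul_smul, ← Subgroup.mem_centralizer_iff.1 hh.2 n n.2, mul_smul, MulAction.mem_stabilizer_iff.1 hh.1]
  · refine hmin K ?_ hK
    rw [← Subgroup.normalizer_eq_top_iff, eq_top_iff, ← htop]
    refine sup_le ?_ hH
    intro m hm
    refine Subgroup.centralizer_le_normalizer _ (Subgroup.mem_centralizer_iff.2 fun x hx => ?_)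
    exact congrArg Subtype.val (mul_comm' (⟨x, hK hx⟩ : M) ⟨m, hm⟩)

end Cfsg.Agent.S0548
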