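import Cfsg.Statements.S0550
import Cfsg.Agent.Lib.Solv.Primitive
import Mathlib.GroupTheory.Complement

set_option autoImplicit false
open Cfsg

namespace Cfsg.Agent.S0550

/-- Let U be a maximal subgroup with trivial normal core in a finite group G, and A ≠ B two minimal normal subgroups. Then A is the centralizer of B and B that of A, U complements each of them, A and B are non-abelian, and A, B and (A ⊔ B) ∩ U are pairwise isomorphic. -/
theorem result {G : Type*} [Group G] [Finite G] (U : Subgroup G) (hU : IsCoatom U) (hcore : U.normalCore = ⊥) (A B : Subgroup G) [A.Normal] [B.Normal] (hA : A ≠ ⊥) (hB : B ≠ ⊥) (hAmin : ∀ K : Subgroup G, K.Normal → K ≤ A → K = ⊥ ∨ K = A) (hBmin : ∀ K : Subgroup G, K.Normal → K ≤ B → K = ⊥ ∨ K = B) (hAB : A ≠ B) : Subgroup.centralizer (B : Set G) = A ∧ Subgroup.centralizer (A : Set G) = B ∧ Subgroup.IsComplement' A U ∧ Subgroup.IsComplement' B U ∧ ¬ IsMulCommutative A ∧ Nonempty (A ≃* B) ∧ Nonempty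 (A ≃* ↥((A ⊔ B) ⊓ U)) := by
  classical
  have hd : A ⊓ B = ⊥ := by
    rcases hAmin (A ⊓ B) inferInstance inf_le_left with h | h
    · exact h
    · rcases hBmin A inferInstance (h ▸ inf_le_right) with h' | h'
      · exact absurd h' hA
      · exact absurd h' hAB
  have hcomm : ∀ a ∈ A, ∀ b ∈ B, a * b = b * a := fun a ha b hb =>
    Subgroup.commute_of_normal_of_disjoint A B inferInstance inferInstance (disjoint_iff.2 hd) a b ha hb
  have hBA : B ≤ Subgroup.centralizer (A : Set G) := fun b hb =>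
    Subgroup.mem_centralizer_iff.2 fun a ha => hcomm a ha b hb
  have hAB' : A ≤ Subgroup.centralizer (B : Set G) := fun a ha =>
    Subgroup.mem_centralizer_iff.2 fun b hb => (hcomm a ha b hb).symm
  have hCB : Subgroup.centralizer (B : Set G) = A :=
    (Cfsg.Lib.Solv.eq_centralizer_of_normal_le hU hcore hB ‹A.Normal› hA hAB').symm
  have hCA : Subgroup.centralizer (A : Set G) = B :=
    (Cfsg.Lib.Solv.eq_centralizer_of_normal_le hU hcore hA ‹B.Normal› hB hBA).symm
  have hAU : A ⊓ U = ⊥ := by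
    rw [← hCB]; exact Cfsg.Lib.Solv.centralizer_inf_eq_bot hU hcore hB
  have hBU : B ⊓ U = ⊥ := by
    rw [← hCA]; exact Cfsg.Lib.Solv.centralizer_inf_eq_bot hU hcore hA
  have hAc : Subgroup.IsComplement' A U := Subgroup.isComplement'_of_disjoint_and_mul_eq_univ (disjoint_iff.2 hAU)
    (by rw [← Subgroup.coe_mul_of_right_le_normalizer_left A U Subgroup.le_normalizer_of_normal,
      Cfsg.Lib.Solv.sup_eq_top_of_corefree hU hcore hA, Subgroup.coe_top])
  have hBc : Subgroup.IsComplement' B U := Subgroup.isComplement'_of_disjoint_and_mul_eq_univ (disjoint_iff.2 hBU)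
    (by rw [← Subgroup.coe_mul_of_right_le_normalizer_left B U Subgroup.le_normalizer_of_normal,
      Cfsg.Lib.Solv.sup_eq_top_of_corefree hU hcore hB, Subgroup.coe_top])
  set W := (A ⊔ B) ⊓ U
  set H := A ⊔ B
  -- both `A` and `W` complement `B` inside `A ⊔ B`, and symmetrically
  have key : ∀ X X₂ Y : Subgroup G, Y.Normal → X ≤ H → X₂ ≤ H → Y ≤ H → X ⊓ Y = ⊥ → H ≤ X ⊔ Y →
      X₂ ⊓ Y = ⊥ → H ≤ X₂ ⊔ Y → Nonempty (X ≃* X₂) := by
    intro X₀ X₂ Y hY hX₀ hX₂ hYH hdis hgen hdis₂ hgen₂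
    haveI := hY
    have hc : ∀ X : Subgroup G, X ≤ H → X ⊓ Y = ⊥ → H ≤ X ⊔ Y → (X.subgroupOf H).IsComplement' (Y.subgroupOf H) := by
      intro X hX hdis hgen
      refine Subgroup.isComplement'_of_disjoint_and_mul_eq_univ ?_ ?_
      · rw [disjoint_iff, eq_bot_iff]
        intro z hz
        have : (z : G) ∈ X ⊓ Y := ⟨hz.1, hz.2⟩
        rw [hdis, Subgroup.mem_bot] at this
        exact Subgroup.mem_bot.2 (Subtype.ext this)
      · refine Set.eq_univ_of_forall fun z => ?_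
        obtain ⟨a, ha, b, hb, he⟩ := Subgroup.mem_sup_of_normal_right.1 (hgen z.2)
        exact ⟨⟨a, hX ha⟩, ha, ⟨b, hYH hb⟩, hb, Subtype.ext he⟩
    haveI : (Y.subgroupOf H).Normal := Subgroup.normal_subgroupOf
    exact ⟨((Subgroup.subgroupOfEquivOfLe hX₀).symm.trans ((hc X₀ hX₀ hdis hgen).QuotientMulEquiv.symm.trans
      (hc X₂ hX₂ hdis₂ hgen₂).QuotientMulEquiv)).trans (Subgroup.subgroupOfEquivOfLe hX₂)⟩
  have hWgen : ∀ Y : Subgroup G, Y.Normal → Y ≤ H → Y ≠ ⊥ → H ≤ W ⊔ Y := by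
    intro Y hY hYH hYb z hz
    haveI := hY
    obtain ⟨b, hb, u, hu, rfl⟩ := Subgroup.mem_sup_of_normal_left.1
      ((Cfsg.Lib.Solv.sup_eq_top_of_corefree hU hcore hYb).symm ▸ Subgroup.mem_top z : z ∈ Y ⊔ U)
    exact mul_mem (Subgroup.mem_sup_right hb) (Subgroup.mem_sup_left ⟨by simpa using mul_mem (inv_mem (hYH hb)) hz, hu⟩)
  obtain ⟨e1⟩ := key A W B inferInstance le_sup_left inf_le_left le_sup_right hd le_rfl
    (eq_bot_iff.2 fun z hz => hBU.le ⟨hz.2, hz.1.2⟩) (hWgen B inferInstance le_sup_right hB)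
  obtain ⟨e3⟩ := key B W A inferInstance le_sup_right inf_le_left le_sup_left (by rw [inf_comm]; exact hd)
    (le_of_eq (sup_comm _ _))
    (eq_bot_iff.2 fun z hz => hAU.le ⟨hz.2, hz.1.2⟩) (hWgen A inferInstance le_sup_left hA)
  refine ⟨hCB, hCA, hAc, hBc, fun hab => ?_, ⟨e1.trans e3.symm⟩, ⟨e1⟩⟩
  have hAA : A ≤ B := hCA ▸ fun a ha => Subgroup.mem_centralizer_iff.2 fun c hc =>
    congrArg Subtype.val (hab.is_comm.comm (⟨c, hc⟩ : A) ⟨a, ha⟩)
  exact hA (le_bot_iff.1 (hd ▸ le_inf le_rfl hAA))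

end Cfsg.Agent.S0550
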