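import Cfsg.Statements.S0551
import Cfsg.Agent.Lib.Solv.Primitive
import Cfsg.Agent.Lib.Solv.Nilpotent
import Cfsg.Agent.Lib.Core.PSolvable
import Cfsg.Agent.Lib.Core.Smul

set_option autoImplicit false
open Pointwise
open Cfsg

namespace Cfsg.Agent.S0551

/-- In a finite solvable group all core-free maximal subgroups are conjugate. -/
theorem result {G : Type*} [Group G] [Finite G] [Group.IsSolvable G] (U V : Subgroup G) (hU : IsCoatom U) (hV : IsCoatom V) (hUc : U.normalCore = ⊥) (hVc : V.normalCore = ⊥) : ∃ g : G, MulAut.conj g • U = V := by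
  classical
  by_cases hUV : U ≤ V
  · refine ⟨1, ?_⟩
    rw [map_one, one_smul]
    rcases hUV.eq_or_lt with h | h
    · exact h
    · exact absurd (hU.2 V h) hV.1
  haveI : Nontrivial G := by
    by_contra h
    rw [not_nontrivial_iff_subsingleton] at h
    exact hU.1 (Subsingleton.elim _ _)
  obtain ⟨A, hA⟩ := Cfsg.Lib.Core.exists_isMinNormal_univ (G := G)
  haveI := hA.1
  obtain ⟨hAc, p, hp, -, hAp⟩ := Cfsg.Lib.Core.minimal_solvable_elementary hA inferInstance
  haveI : Fact p.Prime := ⟨hp⟩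
  have hAC : A ≤ Subgroup.centralizer (A : Set G) := by
    haveI := hAc
    intro a ha
    exact Subgroup.mem_centralizer_iff.2 fun b hb => congrArg Subtype.val (mul_comm' (⟨b, hb⟩ : A) ⟨a, ha⟩)
  have hCA : A = Subgroup.centralizer (A : Set G) :=
    Cfsg.Lib.Solv.eq_centralizer_of_normal_le hU hUc hA.2.1 hA.1 hA.2.1 hAC
  have hnt : Nontrivial (G ⧸ A) := by
    refine QuotientGroup.nontrivial_iff.2 fun h => hUV ?_
    have := Cfsg.Lib.Solv.centralizer_inf_eq_bot hU hUc hA.2.1
    rw [← hCA, h, top_inf_eq] at this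
    rw [this]; exact bot_le
  set f := QuotientGroup.mk' A
  have hf : Function.Surjective f := QuotientGroup.mk'_surjective A
  obtain ⟨B, hB⟩ := Cfsg.Lib.Core.exists_isMinNormal_univ (G := G ⧸ A)
  obtain ⟨-, q, hq, -, hBq⟩ := Cfsg.Lib.Core.minimal_solvable_elementary hB inferInstance
  haveI : Fact q.Prime := ⟨hq⟩
  set M := B.comap f
  haveI hMn : M.Normal := hB.1.comap f
  have hAM : A ≤ M := fun a ha => by
    show f a ∈ B
    rw [show f a = 1 from (QuotientGroup.eq_one_iff a).2 ha]; exact one_mem B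
  have hMA : ¬ M ≤ A := fun h => hB.2.1 (le_bot_iff.1 fun b hb => by
    obtain ⟨g, rfl⟩ := hf b
    exact (QuotientGroup.eq_one_iff g).2 (h hb))
  have hpq : q ≠ p := by
    rintro rfl
    have hMp : IsPGroup q M := by
      refine hBq.comap_of_ker_isPGroup f ?_
      rw [QuotientGroup.ker_mk']; exact hAp
    haveI : Group.IsNilpotent M := hMp.isNilpotent
    haveI : (A.subgroupOf M).Normal := Subgroup.normal_subgroupOf
    have hne := Cfsg.Lib.Solv.inf_center_ne_bot_of_isNilpotent (N := A.subgroupOf M) (fun h => hA.2.1 (by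
      have := congrArg (Subgroup.map M.subtype) h
      rwa [Subgroup.map_subgroupOf_eq_of_le hAM, Subgroup.map_bot] at this))
    have hsub : (A.subgroupOf M ⊓ Subgroup.center M).map M.subtype =
        A ⊓ (Subgroup.center M).map M.subtype := by
      rw [Subgroup.map_inf _ _ _ M.subtype_injective, Subgroup.map_subgroupOf_eq_of_le hAM]
    have hne' : A ⊓ (Subgroup.center M).map M.subtype ≠ ⊥ := by
      rw [← hsub]
      exact fun h => hne ((Subgroup.map_eq_bot_iff_of_injective _ M.subtype_injective).1 h)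
    haveI := Cfsg.Lib.Core.normal_map_char_of_normal (Subgroup.center M)
    rcases hA.2.2 _ inferInstance (inf_le_left : A ⊓ (Subgroup.center M).map M.subtype ≤ A) with h | h
    · exact hne' h
    · refine hMA fun m hm => ?_
      rw [hCA]
      refine Subgroup.mem_centralizer_iff.2 fun a ha => ?_
      obtain ⟨z, hz, rfl⟩ := (h.symm.le ha).2
      exact congrArg Subtype.val (Subgroup.mem_center_iff.1 hz ⟨m, hm⟩).symm
  have key : ∀ W : Subgroup G, IsCoatom W → W.normalCore = ⊥ →
      ∃ S : Sylow q M, ((S : Subgroup M).map M.subtype) = M ⊓ W ∧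
        Subgroup.normalizer ((M ⊓ W : Subgroup G) : Set G) = W := by
    intro W hW hWc
    have hdis : A ⊓ W = ⊥ := by
      have := Cfsg.Lib.Solv.centralizer_inf_eq_bot hW hWc hA.2.1
      rwa [← hCA] at this
    have hgen : ∀ m ∈ M, ∃ a ∈ A, ∃ w ∈ M ⊓ W, a * w = m := by
      intro m hm
      obtain ⟨a, ha, w, hw, rfl⟩ := Subgroup.mem_sup_of_normal_left.1
        ((Cfsg.Lib.Solv.sup_eq_top_of_corefree hW hWc hA.2.1).symm ▸ Subgroup.mem_top m)
      exact ⟨a, ha, w, ⟨by simpa using mul_mem (M.inv_mem (hAM ha)) hm, hw⟩, rfl⟩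
    set Q := (M ⊓ W).subgroupOf M
    have hQq : IsPGroup q Q := by
      refine hBq.of_injective ((f.subgroupComap B).comp Q.subtype) ?_
      rw [injective_iff_map_eq_one]
      intro x hx
      have h1 : f ((x : M) : G) = 1 := congrArg Subtype.val hx
      have h2 : ((x : M) : G) ∈ A ⊓ W := ⟨(QuotientGroup.eq_one_iff _).1 h1, (Subgroup.mem_subgroupOf.1 x.2).2⟩
      rw [hdis, Subgroup.mem_bot] at h2
      exact Subtype.ext (Subtype.ext h2)
    have hQi : ¬ q ∣ Q.index := by
      have hc : Subgroup.IsComplement' (A.subgroupOf M) Q := by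
        haveI : (A.subgroupOf M).Normal := Subgroup.normal_subgroupOf
        refine Subgroup.isComplement'_of_disjoint_and_mul_eq_univ ?_ ?_
        · rw [disjoint_iff, eq_bot_iff]
          intro x hx
          have h2 : (x : G) ∈ A ⊓ W := ⟨hx.1, (Subgroup.mem_subgroupOf.1 hx.2).2⟩
          rw [hdis, Subgroup.mem_bot] at h2
          exact Subgroup.mem_bot.2 (Subtype.ext h2)
        · refine Set.eq_univ_of_forall fun x => ?_
          obtain ⟨a, ha, w, hw, hx⟩ := hgen x x.2
          exact ⟨⟨a, hAM ha⟩, ha, ⟨w, hw.1⟩, hw, Subtype.ext hx⟩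
      rw [hc.index_eq_card]
      intro hd
      obtain ⟨k, hk⟩ := IsPGroup.iff_card.1 (hAp.comap_of_injective M.subtype M.subtype_injective)
      exact hpq ((Nat.prime_dvd_prime_iff_eq hq hp).1 (hq.dvd_of_dvd_pow (hk ▸ hd)))
    refine ⟨hQq.toSylow hQi, Subgroup.map_subgroupOf_eq_of_le inf_le_left, ?_⟩
    have hle : W ≤ Subgroup.normalizer ((M ⊓ W : Subgroup G) : Set G) :=
      Cfsg.Lib.Core.le_normalizer_iff_conj_mem.2 fun w hw x hx =>
        ⟨hMn.conj_mem x hx.1 w, mul_mem (mul_mem hw hx.2) (W.inv_mem hw)⟩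
    rcases hle.eq_or_lt with h | h
    · exact h.symm
    · exfalso
      have htop := hW.2 _ h
      have hn : (M ⊓ W).Normal := Subgroup.normalizer_eq_top_iff.1 htop
      have h0 : M ⊓ W = ⊥ := le_bot_iff.1 (hWc ▸ Subgroup.normal_le_normalCore.2 inf_le_right)
      refine hMA fun m hm => ?_
      obtain ⟨a, ha, w, hw, rfl⟩ := hgen m hm
      rw [h0, Subgroup.mem_bot] at hw
      rwa [hw, mul_one]
  obtain ⟨S, hS, hNU⟩ := key U hU hUc
  obtain ⟨T, hT, hNV⟩ := key V hV hVc
  obtain ⟨m, hm⟩ := MulAction.exists_smul_eq M S T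
  refine ⟨(m : G), ?_⟩
  rw [Cfsg.Lib.Core.conj_smul_eq_map]
  have h1 : (S : Subgroup M).map (MulAut.conj m).toMonoidHom = T := by
    rw [← Cfsg.Lib.Core.conj_smul_eq_map, ← hm]; rfl
  have h2 : (M ⊓ U).map (MulAut.conj (m : G)).toMonoidHom = M ⊓ V := by
    rw [← hS, ← hT, ← h1, Subgroup.map_map, Subgroup.map_map]
    rfl
  rw [← hNU, Subgroup.map_equiv_normalizer_eq, h2, hNV]

end Cfsg.Agent.S0551
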