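import Cfsg.Statements.S0552
import Cfsg.Agent.Lib.Core.Layer

set_option autoImplicit false
open Cfsg

namespace Cfsg.Agent.S0552

/-- Let σ be an automorphism of a finite solvable group G fixing every element of the Fitting subgroup. If σ is not the identity then the order of σ and the order of G have a common prime factor. -/
theorem result {G : Type*} [Group G] [Finite G] [Group.IsSolvable G] (σ : G ≃* G) (hσ : ∀ x ∈ Cfsg.fittingSubgroup G, σ x = x) (hne : σ ≠ MulEquiv.refl G) : ¬ (orderOf σ).Coprime (Nat.card G) := by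
  intro hcop
  apply hne
  ext x
  set F := Cfsg.fittingSubgroup G
  have hz : x⁻¹ * σ x ∈ Subgroup.centralizer (F : Set G) := by
    refine Subgroup.mem_centralizer_iff.2 fun f hf => ?_
    have hFn : F.Normal := Cfsg.Lib.Core.fittingSubgroup_normal' G
    have h2 : σ x * f * (σ x)⁻¹ = x * f * x⁻¹ := by
      rw [← hσ f hf, ← map_inv, ← map_mul, ← map_mul, hσ _ (hFn.conj_mem f hf x)]
      rw [hσ f hf]
    calc f * (x⁻¹ * σ x) = x⁻¹ * (x * f * x⁻¹) * σ x := by group
      _ = x⁻¹ * (σ x * f * (σ x)⁻¹) * σ x := by rw [h2]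
      _ = x⁻¹ * σ x * f := by group
  set z := x⁻¹ * σ x with hzdef
  have hzF : z ∈ F := Cfsg.Lib.Core.centralizer_fitting_le_of_isSolvable hz
  have hxz : σ x = x * z := by rw [hzdef, mul_inv_cancel_left]
  have hpow : ∀ n : ℕ, (σ ^ n) x = x * z ^ n := by
    intro n
    induction n with
    | zero => simp
    | succ n ih =>
      rw [pow_succ', MulAut.mul_apply, ih, map_mul, map_pow, hxz, hσ z hzF, mul_assoc, ← pow_succ']
  have h1 := hpow (orderOf σ)
  rw [pow_orderOf_eq_one, MulAut.one_apply, eq_comm, mul_eq_left] at h1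
  have hd : orderOf z ∣ Nat.gcd (orderOf σ) (Nat.card G) := Nat.dvd_gcd (orderOf_dvd_of_pow_eq_one h1) (orderOf_dvd_natCard z)
  rw [hcop, Nat.dvd_one, orderOf_eq_one_iff] at hd
  rw [MulEquiv.refl_apply, hxz, hd, mul_one]

end Cfsg.Agent.S0552
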