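import Cfsg.Statements.S0553
import Cfsg.Agent.Lib.Core.PSolvable
import Cfsg.Agent.Lib.Core.Fitting

set_option autoImplicit false
open Cfsg

namespace Cfsg.Agent.S0553

universe u

theorem aux : ∀ (n : ℕ) (G : Type u) [Group G] [Finite G] [Group.IsSolvable G] [Nontrivial G],
    Nat.card G ≤ n → (∀ M : Subgroup G, IsCoatom M → (Nat.card M).Coprime M.index) →
    ∃ p : ℕ, p.Prime ∧ p ∣ Nat.card G ∧ ∀ P : Sylow p G, (P : Subgroup G).Normal := by
  intro n
  induction n with
  | zero => intro G _ _ _ _ h; exact absurd h (Nat.not_le.2 Nat.card_pos)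
  | succ n ih =>
    intro G _ _ _ _ hn h
    obtain ⟨N, hN⟩ := Cfsg.Lib.Core.exists_isMinNormal_univ (G := G)
    haveI := hN.1
    obtain ⟨hNc, p, hp, -, hNp⟩ := Cfsg.Lib.Core.minimal_solvable_elementary hN inferInstance
    haveI : Fact p.Prime := ⟨hp⟩
    obtain ⟨k, hk⟩ := IsPGroup.iff_card.1 hNp
    have hk0 : k ≠ 0 := fun h0 => hN.2.1 (Subgroup.card_eq_one.1 (by rw [hk, h0, pow_zero]))
    have hpG : p ∣ Nat.card G := (dvd_pow_self p hk0).trans (hk ▸ Subgroup.card_subgroup_dvd_card N)
    -- a normal Sylow subgroup is the only one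
    have huniq : ∀ {r : ℕ} [Fact r.Prime] (S : Sylow r G), (S : Subgroup G).Normal →
        ∀ T : Sylow r G, (T : Subgroup G).Normal := fun S hS T => by
      haveI := Sylow.unique_of_normal S hS
      rwa [Subsingleton.elim T S]
    by_cases hNtop : N = ⊤
    · refine ⟨p, hp, hpG, fun P => ?_⟩
      haveI := hNc
      subst hNtop
      exact ⟨fun x hx g => by
        have := congrArg Subtype.val (mul_comm' (⟨g, Subgroup.mem_top g⟩ : (⊤ : Subgroup G)) ⟨x, Subgroup.mem_top x⟩)
        rw [show g * x = x * g from this, mul_inv_cancel_right]; exact hx⟩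
    haveI : Nontrivial (G ⧸ N) := QuotientGroup.nontrivial_iff.2 hNtop
    set f := QuotientGroup.mk' N
    have hf : Function.Surjective f := QuotientGroup.mk'_surjective N
    obtain ⟨r, hr, hrd, hrn⟩ := ih (G ⧸ N) (by have := Cfsg.Lib.Core.card_quotient_lt hN.2.1; omega) (by
      intro M hM
      have hc : IsCoatom (M.comap f) := by
        refine ⟨fun ht => hM.1 ?_, fun X hX => ?_⟩
        · rw [← Subgroup.map_comap_eq_self_of_surjective hf M, ht, Subgroup.map_top_of_surjective _ hf]
        · have hker : f.ker ≤ X := (Subgroup.ker_le_comap _ _).trans hX.le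
          rw [← Subgroup.comap_map_eq_self hker]
          rw [hM.2 (X.map f) ?_, Subgroup.comap_top]
          rw [← Subgroup.map_comap_eq_self_of_surjective hf M]
          refine lt_of_le_of_ne (Subgroup.map_mono hX.le) fun he => hX.ne ?_
          have := congrArg (Subgroup.comap f) he
          rwa [Subgroup.comap_map_eq_self hker, Subgroup.comap_map_eq_self (Subgroup.ker_le_comap _ _)] at this
      have h1 := h _ hc
      rw [Subgroup.index_comap_of_surjective _ hf] at h1
      exact h1.coprime_dvd_left (Subgroup.card_dvd_of_surjective (f.subgroupComap M)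
        (MonoidHom.subgroupComap_surjective_of_surjective f M hf)))
    haveI : Fact r.Prime := ⟨hr⟩
    obtain ⟨R⟩ : Nonempty (Sylow r G) := inferInstance
    have hRN : ((R : Subgroup G) ⊔ N).Normal := by
      have h1 := hrn (R.mapSurjective hf)
      rw [Sylow.coe_mapSurjective] at h1
      have h2 := h1.comap f
      rwa [Subgroup.comap_map_eq, QuotientGroup.ker_mk'] at h2
    have hrG : r ∣ Nat.card G := hrd.trans (Subgroup.card_quotient_dvd_card N)
    by_cases hR : (R : Subgroup G).Normal
    · exact ⟨r, hr, hrG, huniq R hR⟩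
    have hne : Subgroup.normalizer ((R : Subgroup G) : Set G) ≠ ⊤ :=
      fun ht => hR (Subgroup.normalizer_eq_top_iff.1 ht)
    obtain ⟨M, hM, hle⟩ := (IsCoatomic.eq_top_or_exists_le_coatom _).resolve_left hne
    have htop : N ⊔ M = ⊤ := by
      refine top_le_iff.1 ?_
      rw [← Sylow.normalizer_sup_eq_top (R.subtype (le_sup_left : (R : Subgroup G) ≤ (R : Subgroup G) ⊔ N)),
        Sylow.coe_subtype, Subgroup.map_subgroupOf_eq_of_le le_sup_left]
      refine sup_le (le_sup_of_le_right hle) (sup_le ?_ le_sup_left)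
      exact le_sup_of_le_right (Subgroup.le_normalizer.trans hle)
    have hdis : N ⊓ M = ⊥ := by
      have hn : (N ⊓ M).Normal := by
        rw [← Subgroup.normalizer_eq_top_iff, eq_top_iff, ← htop]
        refine sup_le ?_ (Cfsg.Lib.Core.le_normalizer_iff_conj_mem.2 fun m hm x hx =>
          ⟨hN.1.conj_mem x hx.1 m, mul_mem (mul_mem hm hx.2) (M.inv_mem hm)⟩)
        refine le_trans (fun a ha => ?_) (Subgroup.centralizer_le_normalizer _)
        haveI := hNc
        exact Subgroup.mem_centralizer_iff.2 fun x hx =>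
          congrArg Subtype.val (mul_comm' (⟨x, hx.1⟩ : N) ⟨a, ha⟩)
      rcases hN.2.2 _ hn inf_le_left with h' | h'
      · exact h'
      · exact absurd (top_le_iff.1 (htop ▸ sup_le (inf_eq_left.1 h') le_rfl)) hM.1
    have hc : Subgroup.IsComplement' N M :=
      Subgroup.isComplement'_of_disjoint_and_mul_eq_univ (disjoint_iff.2 hdis)
        (by rw [← Subgroup.coe_mul_of_right_le_normalizer_left N M Subgroup.le_normalizer_of_normal,
          htop, Subgroup.coe_top])
    have hMi : M.index = p ^ k := by rw [hc.index_eq_card, hk]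
    have hcop : ¬ p ∣ N.index := by
      intro hd
      rw [hc.symm.index_eq_card] at hd
      refine hp.ne_one (Nat.eq_one_of_dvd_coprimes (h M hM) hd ?_)
      rw [hMi]; exact dvd_pow_self p hk0
    exact ⟨p, hp, hpG, huniq (hNp.toSylow hcop) hN.1⟩


/-- Let G be a nontrivial finite solvable group in which every maximal subgroup has order coprime to its index. Then for some prime p dividing the order of G the Sylow p-subgroups of G are normal. -/
theorem result {G : Type*} [Group G] [Finite G] [Group.IsSolvable G] [Nontrivial G] (h : ∀ M : Subgroup G, IsCoatom M → (Nat.card M).Coprime M.index) : ∃ p : ℕ, p.Prime ∧ p ∣ Nat.card G ∧ ∀ P : Sylow p G, (P : Subgroup G).Normal := by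
  exact aux _ G le_rfl h

end Cfsg.Agent.S0553
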