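import Cfsg.Statements.S0554
import Cfsg.Agent.Lib.Solv.SylowSystem

set_option autoImplicit false
open Cfsg

namespace Cfsg.Agent.S0554

universe u

theorem absorb {G : Type u} [Group G] (N : Subgroup G) [N.Normal] : ∀ (t : ℕ) (S : Fin t → Subgroup G)
    (i : Fin t), N ≤ S i → ∀ (s : Fin t → G), (∀ j, s j ∈ S j) → ∀ n ∈ N,
    ∃ s' : Fin t → G, (∀ j, s' j ∈ S j) ∧ (List.ofFn s').prod = (List.ofFn s).prod * n := by
  intro t
  induction t with
  | zero => intro S i; exact i.elim0
  | succ t ih =>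
    intro S i hi s hs n hn
    rw [List.ofFn_succ, List.prod_cons]
    obtain rfl | ⟨j, rfl⟩ := i.eq_zero_or_eq_succ
    · set T := (List.ofFn fun k : Fin t => s k.succ).prod
      refine ⟨Fin.cons (s 0 * (T * n * T⁻¹)) fun k => s k.succ, ?_, ?_⟩
      · intro k
        obtain rfl | ⟨k, rfl⟩ := k.eq_zero_or_eq_succ
        · rw [Fin.cons_zero]
          exact mul_mem (hs 0) (hi (‹N.Normal›.conj_mem n hn T))
        · rw [Fin.cons_succ]; exact hs _
      · rw [List.ofFn_succ, List.prod_cons]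
        simp only [Fin.cons_zero, Fin.cons_succ]
        show s 0 * (T * n * T⁻¹) * T = s 0 * T * n
        group
    · obtain ⟨s', h1, h2⟩ := ih (fun k => S k.succ) j hi (fun k => s k.succ) (fun k => hs _) n hn
      refine ⟨Fin.cons (s 0) s', ?_, ?_⟩
      · intro k
        obtain rfl | ⟨k, rfl⟩ := k.eq_zero_or_eq_succ
        · rw [Fin.cons_zero]; exact hs 0
        · rw [Fin.cons_succ]; exact h1 k
      · rw [List.ofFn_succ, List.prod_cons]
        simp only [Fin.cons_zero, Fin.cons_succ]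
        rw [h2, mul_assoc]

theorem aux : ∀ (n : ℕ) (G : Type u) [Group G] [Finite G] [Group.IsSolvable G], Nat.card G ≤ n →
    ∀ (t : ℕ) (p : Fin t → ℕ), (∀ i, (p i).Prime) → Function.Injective p →
    (∀ q : ℕ, q.Prime → q ∣ Nat.card G → ∃ i, p i = q) → ∀ (S : (i : Fin t) → Sylow (p i) G),
    ∀ g : G, ∃ s : (i : Fin t) → G, (∀ i, s i ∈ (S i : Subgroup G)) ∧ g = (List.ofFn s).prod := by
  intro n
  induction n with
  | zero => intro G _ _ _ h; exact absurd h (Nat.not_le.2 Nat.card_pos)
  | succ n ih =>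
    intro G _ _ _ hn t p hp hinj hall S g
    rcases subsingleton_or_nontrivial G with hG | hG
    · exact ⟨fun _ => 1, fun i => one_mem _, Subsingleton.elim _ _⟩
    obtain ⟨N, hN⟩ := Cfsg.Lib.Core.exists_isMinNormal_univ (G := G)
    obtain ⟨-, q, hq, -, hNp⟩ := Cfsg.Lib.Core.minimal_solvable_elementary hN inferInstance
    haveI := hN.1
    haveI : Fact q.Prime := ⟨hq⟩
    obtain ⟨k, hk⟩ := IsPGroup.iff_card.1 hNp
    have hk0 : k ≠ 0 := fun h => hN.2.1 (Subgroup.card_eq_one.1 (by rw [hk, h, pow_zero]))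
    obtain ⟨i, hi⟩ := hall q hq ((dvd_pow_self q hk0).trans (hk ▸ Subgroup.card_subgroup_dvd_card N))
    haveI : ∀ j, Fact (p j).Prime := fun j => ⟨hp j⟩
    have hNS : N ≤ (S i : Subgroup G) := by
      subst hi
      exact sup_eq_right.1 ((S i).3 (hNp.to_sup_of_normal_left (S i).2) le_sup_right)
    have hf := QuotientGroup.mk'_surjective N
    obtain ⟨s, hs, hg⟩ := ih (G ⧸ N) (by have := Cfsg.Lib.Core.card_quotient_lt hN.2.1; omega) t p hp hinj
      (fun l hl hd => hall l hl (hd.trans (Subgroup.card_quotient_dvd_card N)))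
      (fun j => (S j).mapSurjective hf) (QuotientGroup.mk' N g)
    choose s₀ hs₀ hs₀' using fun j => Subgroup.mem_map.1 (hs j)
    have h1 : ((List.ofFn s₀).prod)⁻¹ * g ∈ N := by
      rw [← QuotientGroup.eq_one_iff, ← QuotientGroup.mk'_apply, map_mul, map_inv, map_list_prod,
        List.map_ofFn, hg, show (QuotientGroup.mk' N) ∘ s₀ = s from funext hs₀', inv_mul_cancel]
    obtain ⟨s', h2, h3⟩ := absorb N t (fun j => (S j : Subgroup G)) i hNS s₀ hs₀ _ h1
    exact ⟨s', h2, by rw [h3, mul_inv_cancel_left]⟩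


/-- Let G be a finite solvable group and let S assign to each of t distinct primes, including every prime divisor of the order of G, a Sylow subgroup of G. Then every element of G is a product s_0 s_1 ⋯ s_(t-1) with s_i in S i, the factors taken in the given order. -/
theorem result {G : Type*} [Group G] [Finite G] [Group.IsSolvable G] (t : ℕ) (p : Fin t → ℕ) (hp : ∀ i, (p i).Prime) (hinj : Function.Injective p) (hall : ∀ q : ℕ, q.Prime → q ∣ Nat.card G → ∃ i, p i = q) (S : (i : Fin t) → Sylow (p i) G) : ∀ g : G, ∃ s : (i : Fin t) → G, (∀ i, s i ∈ (S i : Subgroup G)) ∧ g = (List.ofFn s).prod := by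
  exact aux _ G le_rfl t p hp hinj hall S

end Cfsg.Agent.S0554
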