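import Cfsg.Statements.S0555
import Cfsg.Agent.Lib.Core.Basic
import Mathlib.GroupTheory.SpecificGroups.Cyclic
import Mathlib.GroupTheory.Solvable

set_option autoImplicit false
open Cfsg
open scoped commutatorElement

namespace Cfsg.Agent.S0555

/-- Let i ≥ 1. If in the derived series of a group the quotient of the i-th term by the (i+1)-st and the quotient of the (i+1)-st by the (i+2)-nd are both cyclic, then the (i+1)-st and (i+2)-nd terms coincide. -/
theorem result {G : Type*} [Group G] (i : ℕ) (hi : 1 ≤ i) (h₁ : IsCyclic (↥(derivedSeries G i) ⧸ (derivedSeries G (i + 1)).subgroupOf (derivedSeries G i))) (h₂ : IsCyclic (↥(derivedSeries G (i + 1)) ⧸ (derivedSeries G (i + 2)).subgroupOf (derivedSeries G (i + 1)))) : derivedSeries G (i + 1) = derivedSeries G (i + 2) := by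
  set B := derivedSeries G (i + 1) with hBdef
  set D := derivedSeries G (i + 2) with hDdef
  set A := derivedSeries G i with hAdef
  set f := QuotientGroup.mk' D
  have hs : Function.Surjective f := QuotientGroup.mk'_surjective D
  set C := B.map f with hC
  have hDB : D ≤ B := derivedSeries_antitone G (Nat.le_succ _)
  have hBA : B ≤ A := derivedSeries_antitone G (Nat.le_succ _)
  obtain ⟨b, hb⟩ := h₂.exists_generator
  obtain ⟨b, rfl⟩ := QuotientGroup.mk_surjective b
  obtain ⟨a, ha⟩ := h₁.exists_generator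
  obtain ⟨a, rfl⟩ := QuotientGroup.mk_surjective a
  have hCgen : C ≤ Subgroup.zpowers (f b) := by
    rintro _ ⟨x, hx, rfl⟩
    obtain ⟨n, hn⟩ := Subgroup.mem_zpowers_iff.1 (hb (QuotientGroup.mk ⟨x, hx⟩))
    rw [← QuotientGroup.mk_zpow, QuotientGroup.eq] at hn
    refine Subgroup.mem_zpowers_iff.2 ⟨n, ?_⟩
    rw [← map_zpow]
    exact QuotientGroup.eq.2 (by rw [Subgroup.mem_subgroupOf] at hn; push_cast at hn; exact hn)
  have hAgen : A.map f ≤ Subgroup.zpowers (f a) ⊔ C := by
    rintro _ ⟨x, hx, rfl⟩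
    obtain ⟨n, hn⟩ := Subgroup.mem_zpowers_iff.1 (ha (QuotientGroup.mk ⟨x, hx⟩))
    rw [← QuotientGroup.mk_zpow, QuotientGroup.eq] at hn
    have hn' : ((a : G) ^ n)⁻¹ * x ∈ B := by rw [Subgroup.mem_subgroupOf] at hn; push_cast at hn; exact hn
    have : f x = f a ^ n * f (((a : G) ^ n)⁻¹ * x) := by rw [← map_zpow, ← map_mul, mul_inv_cancel_left]
    rw [this]
    exact Subgroup.mul_mem_sup (Subgroup.zpow_mem_zpowers _ _) ⟨_, hn', rfl⟩
  have hCn : C.Normal := Subgroup.Normal.map inferInstance f hs
  have hCcyc : IsCyclic C := by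
    have : IsCyclic (Subgroup.zpowers (f b)) := inferInstance
    exact isCyclic_of_injective (Subgroup.inclusion hCgen) (Subgroup.inclusion_injective hCgen)
  have hcomm : commutator (G ⧸ D) ≤ (MulAut.conjNormal (H := C) : G ⧸ D →* MulAut C).ker := by
    rw [_root_.commutator_def, Subgroup.commutator_le]
    intro g _ h _
    rw [MonoidHom.mem_ker, map_commutatorElement, commutatorElement_eq_one_iff_mul_comm]
    exact (IsCyclic.mulAutMulEquiv C).injective (by rw [map_mul, map_mul, mul_comm])
  have hA1 : A.map f ≤ commutator (G ⧸ D) := by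
    rw [← derivedSeries_one]
    refine (Subgroup.map_mono (derivedSeries_antitone G hi)).trans ?_
    exact map_derivedSeries_le_derivedSeries f 1
  have hcent : C ≤ Subgroup.centralizer ((A.map f : Subgroup (G ⧸ D)) : Set (G ⧸ D)) := by
    intro c hc
    refine Subgroup.mem_centralizer_iff.2 fun x hx => ?_
    have h1 : MulAut.conjNormal (H := C) x = 1 := hcomm (hA1 hx)
    have h2 : x * c * x⁻¹ = c := by
      have := congrArg Subtype.val (DFunLike.congr_fun h1 ⟨c, hc⟩)
      simpa using this
    exact mul_inv_eq_iff_eq_mul.1 h2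
  have hab : A.map f ≤ Subgroup.centralizer ((A.map f : Subgroup (G ⧸ D)) : Set (G ⧸ D)) := by
    refine hAgen.trans (sup_le (Subgroup.zpowers_le.2 ?_) hcent)
    refine Subgroup.mem_centralizer_iff.2 fun x hx => ?_
    obtain ⟨u, hu, c, hc, rfl⟩ := Subgroup.mem_sup_of_normal_right.1 (hAgen hx)
    obtain ⟨n, rfl⟩ := hu
    have h1 : f a * c = c * f a := (Subgroup.mem_centralizer_iff.1 (hcent hc) (f a) ⟨a, a.2, rfl⟩)
    exact ((Commute.refl (f (a : G))).zpow_left n).mul_left h1.symm
  have hCbot : C = ⊥ := by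
    rw [hC, hBdef, derivedSeries_succ, Subgroup.map_commutator]
    exact Subgroup.commutator_eq_bot_iff_le_centralizer.2 hab
  refine le_antisymm ?_ hDB
  rw [hC, Subgroup.map_eq_bot_iff, QuotientGroup.ker_mk'] at hCbot
  exact hCbot

end Cfsg.Agent.S0555
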