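import Cfsg.Statements.S0556
import Cfsg.Agent.Lib.Solv.FrobeniusBasic
import Mathlib.GroupTheory.SchurZassenhaus
import Cfsg.Agent.Lib.Core.Smul
import Cfsg.Agent.Lib.Core.Basic
open scoped commutatorElement Pointwise

set_option autoImplicit false
open Cfsg

namespace Cfsg.Agent.S0556

/-- If a finite group has a maximal subgroup that is abelian, then the third term of its derived series is trivial (so the group is solvable of derived length at most three). -/
theorem result {G : Type*} [Group G] [Finite G] (A : Subgroup G) (hA : IsCoatom A) [IsMulCommutative A] : derivedSeries G 3 = ⊥ := by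
  classical
  have cA : ∀ x ∈ A, ∀ y ∈ A, x * y = y * x := fun x hx y hy =>
    congrArg Subtype.val (mul_comm' (⟨x, hx⟩ : A) ⟨y, hy⟩)
  suffices h : ⁅derivedSeries G 1, derivedSeries G 1⁆ ≤ A by
    show ⁅derivedSeries G 2, derivedSeries G 2⁆ = ⊥
    rw [Cfsg.Lib.Core.commutator_eq_bot_iff_forall]
    exact fun x hx y hy => cA x (h hx) y (h hy)
  rw [derivedSeries_one]
  by_cases hn : A.Normal
  · -- the quotient has prime order
    have hle : commutator G ≤ A := by
      obtain ⟨x, -, hx⟩ := SetLike.exists_of_lt (show A < ⊤ from hA.1.lt_top)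
      exact Subgroup.Normal.commutator_le_of_self_sup_commutative_eq_top (H := Subgroup.zpowers x)
        (hA.2 _ (left_lt_sup.2 fun h => hx (h (Subgroup.mem_zpowers x)))) inferInstance
    exact (Subgroup.commutator_mono hle hle).trans (Subgroup.commutator_le.2 fun x hx y hy =>
      mul_mem (mul_mem (mul_mem hx hy) (inv_mem hx)) (inv_mem hy))
  have hNA : Subgroup.normalizer (A : Set G) = A := by
    rcases (Subgroup.le_normalizer (H := A)).eq_or_lt with h | h
    · exact h.symm
    · exact absurd (Subgroup.normalizer_eq_top_iff.1 (hA.2 _ h)) hn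
  set C := A.normalCore
  have hCA : C ≤ A := Subgroup.normalCore_le A
  set f := QuotientGroup.mk' C
  have hf : Function.Surjective f := QuotientGroup.mk'_surjective C
  have hcm : (A.map f).comap f = A := by
    rw [Subgroup.comap_map_eq, QuotientGroup.ker_mk', sup_eq_left.2 hCA]
  suffices h : ⁅commutator (G ⧸ C), commutator (G ⧸ C)⁆ = ⊥ by
    refine le_trans ?_ hCA
    have h1 : (⁅commutator G, commutator G⁆).map f = ⊥ := by
      rw [Subgroup.map_commutator, commutator_def, Subgroup.map_commutator,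
        Subgroup.map_top_of_surjective _ hf, ← commutator_def]
      exact h
    rw [Subgroup.map_eq_bot_iff, QuotientGroup.ker_mk'] at h1
    exact h1
  have hfrob : Cfsg.IsFrobeniusComplement (A.map f) := by
    refine ⟨fun hb => ?_, fun ht => hA.1 ?_, ?_⟩
    · rw [Subgroup.map_eq_bot_iff, QuotientGroup.ker_mk'] at hb
      exact hn (le_antisymm hCA hb ▸ (inferInstance : C.Normal))
    · rw [← hcm, ht, Subgroup.comap_top]
    · intro z hz
      obtain ⟨g, rfl⟩ := hf z
      have hg : g ∉ A := fun h => hz (Subgroup.mem_map_of_mem f h)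
      refine eq_bot_iff.2 fun y hy => ?_
      obtain ⟨⟨x, hx, rfl⟩, hy2⟩ := hy
      replace hy2 : f x ∈ MulAut.conj (f g) • A.map f := hy2
      rw [Cfsg.Lib.Core.mem_conj_smul] at hy2
      have hxg : g⁻¹ * x * g ∈ A := by
        rw [← hcm, Subgroup.mem_comap]
        simpa using hy2
      rw [Subgroup.mem_bot, QuotientGroup.mk'_apply, QuotientGroup.eq_one_iff]
      have htop : Subgroup.centralizer ({x} : Set G) = ⊤ := by
        set B := A.map (MulAut.conj g).toMonoidHom
        have hAB : A ≤ Subgroup.centralizer ({x} : Set G) := fun a ha =>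
          Subgroup.mem_centralizer_iff.2 fun w hw => by rw [Set.mem_singleton_iff.1 hw]; exact cA x hx a ha
        have hBc : B ≤ Subgroup.centralizer ({x} : Set G) := by
          rintro _ ⟨a, ha, rfl⟩
          refine Subgroup.mem_centralizer_iff.2 fun w hw => ?_
          rw [Set.mem_singleton_iff.1 hw]
          show x * (g * a * g⁻¹) = g * a * g⁻¹ * x
          have := cA _ hxg a ha
          calc x * (g * a * g⁻¹) = g * ((g⁻¹ * x * g) * a) * g⁻¹ := by group
            _ = _ := by rw [this]; group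
        refine hA.2 _ (lt_of_le_of_ne hAB fun he => hg ?_)
        rw [← hNA, Cfsg.Lib.Core.mem_normalizer_iff_map_conj]
        exact Subgroup.eq_of_le_of_card_ge (hBc.trans he.ge)
          (Nat.card_congr (A.equivMapOfInjective _ (MulAut.conj g).injective).toEquiv).le
      have hxc : x ∈ Subgroup.center G := Subgroup.mem_center_iff.2 fun w =>
        ((Subgroup.mem_centralizer_iff.1 (htop.symm ▸ Subgroup.mem_top w :
          w ∈ Subgroup.centralizer ({x} : Set G))) x rfl).symm
      have hzn : (Subgroup.zpowers x).Normal := ⟨fun w hw k => by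
        rw [Subgroup.mem_center_iff.1 (Subgroup.zpowers_le.2 hxc hw) k, mul_inv_cancel_right]; exact hw⟩
      exact (Subgroup.normal_le_normalCore (hN := hzn)).2 (Subgroup.zpowers_le.2 hx) (Subgroup.mem_zpowers x)
  set H := A.map f
  have hHc : IsCoatom H := by
    refine ⟨hfrob.2.1, fun X hX => ?_⟩
    have hlt : A < X.comap f :=
      lt_of_le_of_ne (hcm.symm.le.trans (Subgroup.comap_mono hX.le)) fun he =>
        hX.ne (Subgroup.comap_injective hf (hcm.trans he))
    rw [← Subgroup.map_comap_eq_self_of_surjective hf X, hA.2 _ hlt, Subgroup.map_top_of_surjective _ hf]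
  have cH : ∀ x ∈ H, ∀ y ∈ H, x * y = y * x := by
    rintro _ ⟨x, hx, rfl⟩ _ ⟨y, hy, rfl⟩
    rw [← map_mul, ← map_mul, cA x hx y hy]
  obtain ⟨K, hKset, hKn, hKc⟩ := Cfsg.Lib.Solv.frobenius_theorem hfrob
  haveI := hKn
  have hKne : K ≠ ⊥ := fun hb => hfrob.2.1 (by
    have := hKc.sup_eq_top
    rwa [hb, bot_sup_eq] at this)
  -- no proper nontrivial subgroup of the kernel is normalised by the complement
  have hmin : ∀ W : Subgroup (G ⧸ C), W ≤ K → H ≤ Subgroup.normalizer (W : Set (G ⧸ C)) → W = ⊥ ∨ W = K := by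
    intro W hWK hHW
    rcases (le_sup_left : H ≤ H ⊔ W).eq_or_lt with h | h
    · left
      exact le_bot_iff.1 (le_trans (le_inf hWK (h ▸ le_sup_right)) hKc.disjoint.le_bot)
    · right
      refine le_antisymm hWK fun k hk => ?_
      obtain ⟨a, ha, w, hw, rfl⟩ := (Cfsg.Lib.Core.mem_sup_of_le_normalizer hHW).1
        (hHc.2 _ h ▸ Subgroup.mem_top k : k ∈ H ⊔ W)
      have ha' : a ∈ K ⊓ H := ⟨by simpa using mul_mem hk (inv_mem (hWK hw)), ha⟩
      rw [hKc.disjoint.eq_bot, Subgroup.mem_bot] at ha'
      rwa [ha', one_mul]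
  -- the kernel is a group of prime power order
  haveI : Nontrivial K := (Subgroup.nontrivial_iff_ne_bot K).2 hKne
  obtain ⟨p, hp, hpd⟩ := Nat.exists_prime_and_dvd (Finite.one_lt_card (α := K)).ne'
  haveI : Fact p.Prime := ⟨hp⟩
  obtain ⟨P⟩ : Nonempty (Sylow p K) := inferInstance
  set P' := (P : Subgroup K).map K.subtype with hP'
  set NP := Subgroup.normalizer (P' : Set (G ⧸ C))
  have hsup : NP ⊔ K = ⊤ := by simpa [NP, hP'] using Sylow.normalizer_sup_eq_top P
  have hcardK : Nat.card K = H.index := by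
    rw [← Cfsg.Lib.Solv.card_frobeniusKernel hfrob]
    exact Nat.card_congr (Equiv.setCongr hKset)
  have hidx : (K.subgroupOf NP).index = Nat.card H := by
    show K.relIndex NP = _
    rw [← Subgroup.relIndex_sup_right NP K, hsup, Subgroup.relIndex_top_right, hKc.symm.index_eq_card]
  obtain ⟨U, hU⟩ := Subgroup.exists_right_complement'_of_coprime (N := K.subgroupOf NP) (by
    rw [hidx]
    refine Nat.Coprime.coprime_dvd_left ?_ (hcardK ▸ (Cfsg.Lib.Solv.frob_coprime hfrob).symm)
    exact Subgroup.card_comap_dvd_of_injective K NP.subtype NP.subtype_injective)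
  have hUc : Nat.card (U.map NP.subtype) = Nat.card H := by
    rw [Cfsg.Lib.Core.card_map_subtype, ← hU.symm.index_eq_card, hidx]
  obtain ⟨g, hg⟩ := Cfsg.Lib.Solv.le_conj_of_card_dvd hfrob (L := U.map NP.subtype) hUc.dvd
  have hHN : MulAut.conj g • H ≤ NP := by
    have : U.map NP.subtype = MulAut.conj g • H := Subgroup.eq_of_le_of_card_ge hg (by
      rw [hUc, Cfsg.Lib.Core.conj_smul_eq_map]
      exact (Nat.card_congr (H.equivMapOfInjective _ (MulAut.conj g).injective).toEquiv).ge)
    rw [← this]
    exact Subgroup.map_subtype_le U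
  set W := P'.map (MulAut.conj g⁻¹).toMonoidHom
  have hWK : W ≤ K := by
    rintro _ ⟨x, hx, rfl⟩
    exact hKn.conj_mem x (Subgroup.map_subtype_le _ hx) g⁻¹
  have hHW : H ≤ Subgroup.normalizer (W : Set (G ⧸ C)) := by
    intro h hh
    have h1 : g * h * g⁻¹ ∈ NP := hHN (Cfsg.Lib.Core.mem_conj_smul.2 (by simpa [mul_assoc] using hh))
    have h2 := Subgroup.le_normalizer_map (MulAut.conj g⁻¹).toMonoidHom ⟨_, h1, rfl⟩
    rwa [show (MulAut.conj g⁻¹).toMonoidHom (g * h * g⁻¹) = h by simp [mul_assoc]] at h2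
  have hWp : IsPGroup p W := (P.2.map K.subtype).map _
  have hWne : W ≠ ⊥ := by
    intro hb
    rw [Subgroup.map_eq_bot_iff_of_injective _ (MulAut.conj g⁻¹).injective,
      Subgroup.map_eq_bot_iff_of_injective _ K.subtype_injective] at hb
    exact P.ne_bot_of_dvd_card hpd hb
  have hKp : IsPGroup p K := ((hmin W hWK hHW).resolve_left hWne) ▸ hWp
  -- hence abelian
  have hZne : (Subgroup.center K).map K.subtype ≠ ⊥ := by
    rw [Ne, Subgroup.map_eq_bot_iff_of_injective _ K.subtype_injective]
    haveI := hKp.center_nontrivial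
    exact (Subgroup.nontrivial_iff_ne_bot _).1 inferInstance
  haveI := Cfsg.Lib.Core.normal_map_char_of_normal (Subgroup.center K)
  have hZK := (hmin _ (Subgroup.map_subtype_le (Subgroup.center K))
    (by rw [Subgroup.normalizer_eq_top]; exact le_top)).resolve_left hZne
  rw [Cfsg.Lib.Core.commutator_eq_bot_iff_forall]
  have hGK : commutator (G ⧸ C) ≤ K :=
    Subgroup.Normal.commutator_le_of_self_sup_commutative_eq_top (H := H) hKc.sup_eq_top
      ⟨⟨fun a b => Subtype.ext (cH a a.2 b b.2)⟩⟩
  intro x hx y hy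
  obtain ⟨u, hu, rfl⟩ := (hZK.symm.le (hGK hx) : x ∈ (Subgroup.center K).map K.subtype)
  exact (congrArg Subtype.val (Subgroup.mem_center_iff.1 hu ⟨y, hGK hy⟩)).symm

end Cfsg.Agent.S0556
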