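import Cfsg.Statements.S0557
import Mathlib

set_option autoImplicit false
open Cfsg

namespace Cfsg.Agent.S0557

open Subgroup in
theorem focal_map_le {G K : Type*} [Group G] [Group K] (f : K →* G) (A : Subgroup K) :
    (focalSubgroup A).map f ≤ focalSubgroup (A.map f) := by
  rw [focalSubgroup_def, MonoidHom.map_closure, focalSubgroup_def]
  refine closure_mono ?_
  rintro _ ⟨g, ⟨hg, x, hx, u, rfl⟩, rfl⟩
  exact ⟨mem_map_of_mem f hg, f x, mem_map_of_mem f hx, f u, map_commutatorElement f x u⟩

open Subgroup in
theorem focal_mono {G : Type*} [Group G] {A B : Subgroup G} (h : A ≤ B) :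
    focalSubgroup A ≤ focalSubgroup B := by
  rw [focalSubgroup_def, focalSubgroup_def]
  refine closure_mono ?_
  rintro g ⟨hg, x, hx, u, rfl⟩
  exact ⟨h hg, x, h hx, u, rfl⟩

theorem aux.{v} (n : ℕ) : ∀ (G : Type v) [Group G] [Finite G] (H : Subgroup G),
    (Nat.card H).Coprime H.index → (fun K : Subgroup G => Subgroup.focalSubgroup K)^[n] H = ⊥ →
    ∃ N : Subgroup G, N.Normal ∧ Subgroup.IsComplement' N H := by
  induction n with
  | zero =>
    intro G _ _ H _ hfoc
    simp only [Function.iterate_zero, id] at hfoc
    exact ⟨⊤, inferInstance, by rw [hfoc]; exact Subgroup.isComplement'_top_bot⟩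
  | succ n ih =>
    intro G _ _ H hH hfoc
    rw [Function.iterate_succ_apply] at hfoc
    set D := H.focalSubgroupOf with hD
    have hcopD : (Nat.card (H ⧸ D)).Coprime H.index :=
      Nat.Coprime.coprime_dvd_left (Subgroup.card_quotient_dvd_card D) hH
    have hsurj : Function.Surjective (H.transferFocal.domRestrict H) := by
      intro x
      obtain ⟨y, hy⟩ := (powCoprime hcopD).surjective x
      obtain ⟨z, rfl⟩ := QuotientGroup.mk_surjective y
      exact ⟨z, (H.transferFocal_eq_pow z).trans hy⟩
    have hker : H.transferFocal.ker ⊓ H = H.focalSubgroup := by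
      rw [← Subgroup.subgroupOf_map_subtype, ← MonoidHom.ker_domRestrict, ← Subgroup.map_focalSubgroupOf]
      refine congrArg _ ?_
      ext z
      rw [MonoidHom.mem_ker, MonoidHom.domRestrict_apply, Subgroup.transferFocal_eq_pow]
      have h := (powCoprime hcopD).injective.eq_iff (a := (z : H ⧸ D)) (b := 1)
      rw [powCoprime_one hcopD] at h
      exact h.trans (QuotientGroup.eq_one_iff z)
    set G₁ := H.transferFocal.ker with hG₁
    have hsurjV : Function.Surjective H.transferFocal := fun x => by
      obtain ⟨z, hz⟩ := hsurj x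
      exact ⟨z, hz⟩
    have hG₁i : G₁.index = Nat.card (H ⧸ D) := by
      rw [hG₁, Subgroup.index_ker, MonoidHom.range_eq_top.2 hsurjV, Subgroup.card_top]
    set H₁ := H.focalSubgroup.subgroupOf G₁ with hH₁
    have hle : H.focalSubgroup ≤ G₁ := hker ▸ inf_le_left
    have hcardH : Nat.card H = Nat.card H.focalSubgroup * Nat.card (H ⧸ D) := by
      rw [Subgroup.card_eq_card_quotient_mul_card_subgroup D, mul_comm]
      congr 1
      exact Nat.card_congr (Subgroup.subgroupOfEquivOfLe H.focalSubgroup_le).toEquiv
    have hcardH₁ : Nat.card H₁ = Nat.card H.focalSubgroup :=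
      Nat.card_congr (Subgroup.subgroupOfEquivOfLe hle).toEquiv
    have hidx : H₁.index = H.index := by
      have h1 := G₁.index_mul_card
      have h2 := H₁.index_mul_card
      have h3 := H.index_mul_card
      rw [hG₁i, ← h2, hcardH₁, ← h3, hcardH] at h1
      have hpos : 0 < Nat.card (H ⧸ D) * Nat.card H.focalSubgroup := Nat.mul_pos Nat.card_pos Nat.card_pos
      exact Nat.eq_of_mul_eq_mul_right hpos (by linarith)
    have hcop₁ : (Nat.card H₁).Coprime H₁.index := by
      rw [hidx, hcardH₁]
      exact hH.coprime_dvd_left (Subgroup.card_dvd_of_le H.focalSubgroup_le)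
    have hiter : ∀ k, ((fun K : Subgroup G₁ => Subgroup.focalSubgroup K)^[k] H₁).map G₁.subtype ≤
        (fun K : Subgroup G => Subgroup.focalSubgroup K)^[k] H.focalSubgroup := by
      intro k
      induction k with
      | zero => simp [hH₁]
      | succ k ihk =>
        rw [Function.iterate_succ_apply', Function.iterate_succ_apply']
        exact (focal_map_le _ _).trans (focal_mono ihk)
    obtain ⟨N₁, hN₁, hc₁⟩ := ih G₁ H₁ hcop₁ (by
      have h := (hiter n).trans_eq hfoc
      rwa [le_bot_iff, Subgroup.map_eq_bot_iff_of_injective _ G₁.subtype_injective] at h)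
    have hN₁card : Nat.card N₁ = H.index := by rw [← hidx, hc₁.index_eq_card]
    refine ⟨N₁.map G₁.subtype, ⟨?_⟩, ?_⟩
    · rintro _ ⟨x, hx, rfl⟩ g
      haveI : G₁.Normal := by rw [hG₁]; infer_instance
      let y : G₁ := ⟨g * x * g⁻¹, Subgroup.Normal.conj_mem inferInstance _ x.2 g⟩
      refine ⟨y, ?_, rfl⟩
      have hy : y ^ H.index = 1 := by
        apply Subtype.ext
        show (g * (x : G) * g⁻¹) ^ H.index = 1
        rw [conj_pow, ← SubgroupClass.coe_pow, ← hN₁card]
        have : x ^ Nat.card N₁ = 1 := by
          exact congrArg Subtype.val (pow_card_eq_one' (x := (⟨x, hx⟩ : N₁)))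
        rw [this]
        simp
      rw [SetLike.mem_coe, ← QuotientGroup.eq_one_iff]
      have ho1 : orderOf (y : G₁ ⧸ N₁) ∣ H.index := orderOf_dvd_of_pow_eq_one (by rw [← QuotientGroup.mk_pow, hy]; rfl)
      have ho2 : orderOf (y : G₁ ⧸ N₁) ∣ Nat.card H₁ := by
        rw [← hc₁.symm.index_eq_card]
        exact orderOf_dvd_natCard _
      rw [← hidx] at ho1
      exact orderOf_eq_one_iff.1 (Nat.dvd_one.1 (hcop₁ ▸ Nat.dvd_gcd ho2 ho1))
    · refine Subgroup.isComplement'_of_coprime ?_ ?_
      · rw [Subgroup.card_map_of_injective G₁.subtype_injective, hN₁card, H.index_mul_card]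
      · rw [Subgroup.card_map_of_injective G₁.subtype_injective, hN₁card]
        exact hH.symm


/-- Let H be a subgroup of a finite group G with order coprime to its index. If iterating the focal-subgroup construction starting from H reaches the trivial subgroup after finitely many steps, then H has a normal complement in G. -/
theorem result {G : Type*} [Group G] [Finite G] (H : Subgroup G) (hHall : (Nat.card H).Coprime H.index) (n : ℕ) (hfoc : (fun K : Subgroup G => Subgroup.focalSubgroup K)^[n] H = ⊥) : ∃ N : Subgroup G, N.Normal ∧ Subgroup.IsComplement' N H := by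
  exact Cfsg.Agent.S0557.aux n G H hHall hfoc

end Cfsg.Agent.S0557
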