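import Cfsg.Statements.S0558
import Mathlib
import Cfsg.Agent.Lib.Fusion.Alperin

set_option autoImplicit false
open Cfsg

namespace Cfsg.Agent.S0558

/-- Let H be a subgroup of a finite group G that is not a Sylow subgroup of G for any prime, and suppose that for every prime p dividing the order of H and every Sylow p-subgroup P of H the normalizer of P in G is exactly H. Then some normal subgroup of G is a complement to H. -/
theorem result {G : Type*} [Group G] [Finite G] (H : Subgroup G) (hnot : ∀ p : ℕ, p.Prime → ∀ P : Sylow p G, (P : Subgroup G) ≠ H) (hnorm : ∀ p : ℕ, p.Prime → p ∣ Nat.card H → ∀ P : Sylow p H, Subgroup.normalizer (((P : Subgroup H).map H.subtype : Subgroup G) : Set G) = H) : ∃ N : Subgroup G, N.Normal ∧ Subgroup.IsComplement' N H := by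
  classical
  -- data attached to each prime divisor of `H`
  have hdata : ∀ p : ℕ, p.Prime → p ∣ Nat.card H → ∀ P₀ : Sylow p H,
      (P₀ : Subgroup H).Normal ∧ ∃ P : Sylow p G, (P : Subgroup G) = (P₀ : Subgroup H).map H.subtype := by
    intro p hp hpH P₀
    haveI := Fact.mk hp
    set P' := (P₀ : Subgroup H).map H.subtype with hP'
    have hN := hnorm p hp hpH P₀
    constructor
    · refine ⟨fun a ha h => ?_⟩
      have hh : (h : G) ∈ Subgroup.normalizer (P' : Set G) := hN.symm ▸ h.2
      obtain ⟨b, hb, hb'⟩ := (Subgroup.mem_normalizer_iff.mp hh a).mp (show (a : G) ∈ P' from ⟨a, ha, rfl⟩)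
      have e : b = h * a * h⁻¹ := Subtype.ext (by simpa using hb')
      exact e ▸ hb
    · obtain ⟨P, hP⟩ := (P₀.isPGroup'.map H.subtype : IsPGroup p P').exists_le_sylow
      refine ⟨P, le_antisymm ?_ hP⟩
      by_contra hle
      haveI : Group.IsNilpotent (P : Subgroup G) := P.isPGroup'.isNilpotent
      have hlt : P'.subgroupOf P < ⊤ := lt_top_iff_ne_top.mpr fun e => hle (Subgroup.subgroupOf_eq_top.mp e)
      obtain ⟨⟨g, hgP⟩, hgN, hgn⟩ := SetLike.exists_of_lt (Group.normalizerCondition_of_isNilpotent _ hlt)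
      apply hgn
      have hgH : g ∈ H := by
        rw [← hN, Subgroup.mem_normalizer_iff]
        intro z
        constructor
        · intro hz
          exact (Subgroup.mem_normalizer_iff.mp hgN ⟨z, hP hz⟩).mp hz
        · intro hz
          have hzP : z ∈ (P : Subgroup G) := by
            have := (P : Subgroup G).mul_mem ((P : Subgroup G).mul_mem ((P : Subgroup G).inv_mem hgP) (hP hz)) hgP
            simpa [mul_assoc] using this
          exact (Subgroup.mem_normalizer_iff.mp hgN ⟨z, hzP⟩).mpr hz
      have hp2 : IsPGroup p ((P : Subgroup G).subgroupOf H) :=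
        P.isPGroup'.comap_of_injective H.subtype H.subtype_injective
      have e := P₀.is_maximal' hp2 (fun a ha => hP ⟨a, ha, rfl⟩)
      refine ⟨⟨g, hgH⟩, ?_, rfl⟩
      exact e ▸ (show (⟨g, hgH⟩ : H) ∈ (P : Subgroup G).subgroupOf H from hgP)
  -- normal complements for each prime
  have hcompl : ∀ p : ℕ, p.Prime → p ∣ Nat.card H → Cfsg.HasNormalPComplement p G := by
    intro p hp hpH
    haveI := Fact.mk hp
    obtain ⟨hn, P, hP⟩ := hdata p hp hpH default
    obtain ⟨q, hq, hqH, hqp⟩ : ∃ q : ℕ, q.Prime ∧ q ∣ Nat.card H ∧ q ≠ p := by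
      by_contra! hall
      refine hnot p hp P ?_
      rw [hP]
      have hH : IsPGroup p H := by
        refine IsPGroup.of_card (n := (Nat.card H).primeFactorsList.length) (Nat.eq_prime_pow_of_unique_prime_dvd Nat.card_pos.ne' ?_)
        intro d hd hdd
        exact hall d hd hdd
      have htop : ((default : Sylow p H) : Subgroup H) = ⊤ :=
        ((default : Sylow p H).is_maximal' (hH.to_subgroup ⊤) le_top).symm
      rw [htop, ← MonoidHom.range_eq_map, Subgroup.range_subtype]
    haveI := Fact.mk hq
    obtain ⟨hnq, Q, hQ⟩ := hdata q hq hqH default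
    have hdis : Disjoint ((default : Sylow p H) : Subgroup H) ((default : Sylow q H) : Subgroup H) :=
      IsPGroup.disjoint_of_ne p q hqp.symm _ _ (default : Sylow p H).isPGroup' (default : Sylow q H).isPGroup'
    have hcomm : ∀ x ∈ (P : Subgroup G), ∀ y ∈ (Q : Subgroup G), x * y = y * x := by
      intro x hx y hy
      rw [hP] at hx
      rw [hQ] at hy
      obtain ⟨a, ha, rfl⟩ := hx
      obtain ⟨b, hb, rfl⟩ := hy
      exact congrArg H.subtype (Subgroup.commute_of_normal_of_disjoint _ _ hn hnq hdis a b ha hb)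
    refine Cfsg.Lib.Fusion.hasNormalPComplement_of_controls P fun x hx g hg => ?_
    -- move `g` into `H`
    set y := g * x * g⁻¹ with hy
    have hQC : (Q : Subgroup G) ≤ Subgroup.centralizer ({y} : Set G) := fun w hw =>
      Subgroup.mem_centralizer_singleton_iff.mpr (hcomm y hg w hw).symm
    have hQC' : ((g • Q : Sylow q G) : Subgroup G) ≤ Subgroup.centralizer ({y} : Set G) := by
      intro w hw
      rw [Sylow.coe_subgroup_smul, Subgroup.mem_pointwise_smul_iff_inv_smul_mem] at hw
      have hw' : g⁻¹ * w * g ∈ (Q : Subgroup G) := by simpa [MulAut.smul_def] using hw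
      have := hcomm x hx _ hw'
      refine Subgroup.mem_centralizer_singleton_iff.mpr ?_
      rw [hy]
      calc w * (g * x * g⁻¹) = g * (g⁻¹ * w * g * x) * g⁻¹ := by group
        _ = g * (x * (g⁻¹ * w * g)) * g⁻¹ := by rw [this]
        _ = _ := by group
    set C := Subgroup.centralizer ({y} : Set G) with hC
    obtain ⟨c, hc⟩ := MulAction.exists_smul_eq C ((g • Q).subtype hQC') (Q.subtype hQC)
    have hcg : ((c : G) * g) • Q = Q := by
      rw [mul_smul]
      refine Sylow.ext (SetLike.ext' (Set.ext fun w => ?_))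
      rw [Sylow.coe_subgroup_smul]
      simp only [SetLike.mem_coe, Subgroup.mem_pointwise_smul_iff_inv_smul_mem, MulAut.smul_def]
      constructor
      · intro hw
        have hwC : w ∈ C := by
          have h1 := hQC' hw
          have h2 := C.mul_mem (C.mul_mem c.2 h1) (C.inv_mem c.2)
          simpa [mul_assoc] using h2
        have h3 : (⟨w, hwC⟩ : C) ∈ ((Q.subtype hQC : Sylow q C) : Subgroup C) := by
          rw [← hc, Sylow.coe_subgroup_smul, Subgroup.mem_pointwise_smul_iff_inv_smul_mem]
          simpa [MulAut.smul_def, Sylow.coe_subtype, Subgroup.mem_subgroupOf] using hw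
        exact Subgroup.mem_subgroupOf.mp h3
      · intro hw
        have h3 : (⟨w, hQC hw⟩ : C) ∈ ((Q.subtype hQC : Sylow q C) : Subgroup C) :=
          Subgroup.mem_subgroupOf.mpr hw
        rw [← hc, Sylow.coe_subgroup_smul, Subgroup.mem_pointwise_smul_iff_inv_smul_mem] at h3
        simpa [MulAut.smul_def, Sylow.coe_subtype, Subgroup.mem_subgroupOf] using h3
    have hcgH : (c : G) * g ∈ H := by
      rw [← hnorm q hq hqH default, ← hQ]
      exact Sylow.smul_eq_iff_mem_normalizer.mp hcg
    have hconj : (c : G) * g * x * ((c : G) * g)⁻¹ = y := by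
      have := Subgroup.mem_centralizer_singleton_iff.mp c.2
      calc (c : G) * g * x * ((c : G) * g)⁻¹ = c * y * (c : G)⁻¹ := by rw [hy]; group
        _ = y := by rw [this, mul_inv_cancel_right]
    -- split off the `p'`-part
    haveI := hn
    set P₀ : Subgroup H := ((default : Sylow p H) : Subgroup H) with hP₀
    have htop : P₀ ⊔ Subgroup.centralizer (P₀ : Set H) = ⊤ := by
      rw [← Subgroup.index_eq_one]
      by_contra hne
      obtain ⟨r, hr, hrd⟩ := Nat.exists_prime_and_dvd hne
      haveI := Fact.mk hr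
      by_cases hrp : r = p
      · subst hrp
        exact (default : Sylow r H).not_dvd_index (hrd.trans (Subgroup.index_dvd_of_le le_sup_left))
      · have hrH : r ∣ Nat.card H := hrd.trans (Subgroup.index_dvd_card _)
        obtain ⟨hnr, -⟩ := hdata r hr hrH default
        refine (default : Sylow r H).not_dvd_index (hrd.trans (Subgroup.index_dvd_of_le (le_trans ?_ le_sup_right)))
        intro w hw
        refine Subgroup.mem_centralizer_iff.mpr fun z hz => ?_
        exact Subgroup.commute_of_normal_of_disjoint _ _ hn hnr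
          (IsPGroup.disjoint_of_ne p r (Ne.symm hrp) _ _ (default : Sylow p H).isPGroup' (default : Sylow r H).isPGroup')
          z w hz hw
    obtain ⟨u, hu, k, hk, hku⟩ : ∃ u ∈ P₀, ∃ k ∈ Subgroup.centralizer (P₀ : Set H), u * k = ⟨(c : G) * g, hcgH⟩ := by
      have h1 : (⟨(c : G) * g, hcgH⟩ : H) ∈ ((P₀ ⊔ Subgroup.centralizer (P₀ : Set H) : Subgroup H) : Set H) := by
        rw [htop]; trivial
      rw [Subgroup.normal_mul] at h1
      exact h1
    refine ⟨(u : G), hP.symm ▸ ⟨u, hu, rfl⟩, ?_⟩
    show _ = y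
    rw [hP] at hx
    obtain ⟨z, hz, rfl⟩ := hx
    have hkz := congrArg (fun w : H => (w : G)) (Subgroup.mem_centralizer_iff.mp hk z hz)
    simp only [Subgroup.coe_mul] at hkz
    have e : (c : G) * g = (u : G) * (k : G) := congrArg (fun w : H => (w : G)) hku.symm
    rw [← hconj, e]
    show (u : G) * (z : G) * (u : G)⁻¹ = (u : G) * k * z * ((u : G) * k)⁻¹
    rw [mul_assoc (u : G) (k : G), ← hkz]
    group
  -- intersect
  refine ⟨⨅ (p : {p : ℕ // p.Prime ∧ p ∣ Nat.card H}), Cfsg.pResidual p.1 G, ?_, ?_⟩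
  · exact Subgroup.normal_iInf_normal fun p => Cfsg.Lib.Fusion.pResidual_normal _ _
  · set N := ⨅ (p : {p : ℕ // p.Prime ∧ p ∣ Nat.card H}), Cfsg.pResidual p.1 G with hN
    haveI hNn : N.Normal := Subgroup.normal_iInf_normal fun p => Cfsg.Lib.Fusion.pResidual_normal _ _
    have hN1 : ∀ p, p.Prime → p ∣ Nat.card H → ¬ p ∣ Nat.card N := by
      intro p hp hpH hd
      haveI := Fact.mk hp
      have h1 := Cfsg.Lib.Fusion.hasNormalPComplement_iff_coprime.mp (hcompl p hp hpH)
      have h2 : N ≤ Cfsg.pResidual p G := iInf_le (fun q : {p : ℕ // p.Prime ∧ p ∣ Nat.card H} => Cfsg.pResidual q.1 G) ⟨p, hp, hpH⟩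
      exact (Nat.Prime.coprime_iff_not_dvd hp).mp h1.symm (hd.trans (Subgroup.card_dvd_of_le h2))
    have hco : (Nat.card N).Coprime (Nat.card H) :=
      Nat.coprime_of_dvd fun r hr h1 h2 => hN1 r hr h2 h1
    refine Subgroup.isComplement'_of_disjoint_and_mul_eq_univ
      (disjoint_iff.mpr (Subgroup.inf_eq_bot_of_coprime hco)) ?_
    rw [← Subgroup.normal_mul, ← Subgroup.coe_top, SetLike.coe_set_eq, eq_top_iff]
    -- the index of `N ⊔ H` has no prime divisor
    rw [top_le_iff, ← Subgroup.index_eq_one]
    by_contra hne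
    obtain ⟨r, hr, hrd⟩ := Nat.exists_prime_and_dvd hne
    haveI := Fact.mk hr
    by_cases hrH : r ∣ Nat.card H
    · obtain ⟨-, P, hP⟩ := hdata r hr hrH default
      exact P.not_dvd_index (hrd.trans (Subgroup.index_dvd_of_le
        ((hP ▸ Subgroup.map_subtype_le _ : (P : Subgroup G) ≤ H).trans le_sup_right)))
    · obtain ⟨R⟩ := (inferInstance : Nonempty (Sylow r G))
      refine R.not_dvd_index (hrd.trans (Subgroup.index_dvd_of_le (le_trans ?_ le_sup_left)))
      refine le_iInf fun p => ?_
      intro w hw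
      refine Cfsg.Lib.Fusion.mem_pResidual_of_coprime ?_
      obtain ⟨m, hm⟩ := (IsPGroup.iff_orderOf.mp R.isPGroup' ⟨w, hw⟩)
      rw [Subgroup.orderOf_mk] at hm
      rw [hm]
      exact Nat.Coprime.pow_left _ ((Nat.coprime_primes hr p.2.1).mpr fun e => hrH (e ▸ p.2.2))

end Cfsg.Agent.S0558
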