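import Cfsg.Statements.S0562
import Cfsg.Agent.Lib.Core.Basic

set_option autoImplicit false
open Cfsg

namespace Cfsg.Agent.S0562

/-- Let the finite group G be the product HK of subgroups, A normal in H, B normal in K, and L the normalizer of the subgroup generated by A and B. Then every element of L is a product of an element of L ∩ H and an element of L ∩ K. -/
theorem result {G : Type*} [Group G] [Finite G] (H K A B : Subgroup G) (hHK : ∀ g : G, ∃ h ∈ H, ∃ k ∈ K, g = h * k) (hA : A ≤ H) (hAn : (A.subgroupOf H).Normal) (hB : B ≤ K) (hBn : (B.subgroupOf K).Normal) : ∀ g ∈ Subgroup.normalizer ((A ⊔ B : Subgroup G) : Set G), ∃ h ∈ Subgroup.normalizer ((A ⊔ B : Subgroup G) : Set G) ⊓ H, ∃ k ∈ Subgroup.normalizer ((A ⊔ B : Subgroup G) : Set G) ⊓ K, g = h * k := by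
  intro g hg
  obtain ⟨h, hh, k, hk, rfl⟩ := hHK g
  set J := A ⊔ B
  have hhA : h ∈ Subgroup.normalizer (A : Set G) := (Subgroup.normal_subgroupOf_iff_le_normalizer hA).1 hAn hh
  have hkB : k ∈ Subgroup.normalizer (B : Set G) := (Subgroup.normal_subgroupOf_iff_le_normalizer hB).1 hBn hk
  have hmap : J.map (MulAut.conj k).toMonoidHom = J.map (MulAut.conj h⁻¹).toMonoidHom := by
    have hhg := Cfsg.Lib.Core.map_conj_eq_of_mem_normalizer hg
    calc J.map (MulAut.conj k).toMonoidHom = (J.map (MulAut.conj (h * k)).toMonoidHom).map (MulAut.conj h⁻¹).toMonoidHom := by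
          rw [Subgroup.map_map]; congr 1; ext; simp [mul_assoc]
      _ = _ := by rw [hhg]
  have hge : J ≤ J.map (MulAut.conj k).toMonoidHom := by
    refine sup_le ?_ ?_
    · rw [hmap]
      calc A = A.map (MulAut.conj h⁻¹).toMonoidHom :=
            (Cfsg.Lib.Core.map_conj_eq_of_mem_normalizer (Subgroup.inv_mem _ hhA)).symm
        _ ≤ _ := Subgroup.map_mono le_sup_left
    · calc B = B.map (MulAut.conj k).toMonoidHom :=
            (Cfsg.Lib.Core.map_conj_eq_of_mem_normalizer hkB).symm
        _ ≤ _ := Subgroup.map_mono le_sup_right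
  have heq : J.map (MulAut.conj k).toMonoidHom = J := by
    refine (Subgroup.eq_of_le_of_card_ge hge ?_).symm
    rw [Subgroup.card_map_of_injective (MulAut.conj k).injective]
  have hkN : k ∈ Subgroup.normalizer (J : Set G) := Cfsg.Lib.Core.mem_normalizer_iff_map_conj.2 heq
  have hhN : h ∈ Subgroup.normalizer (J : Set G) := by
    have := Subgroup.mul_mem _ hg (Subgroup.inv_mem _ hkN)
    rwa [mul_inv_cancel_right] at this
  exact ⟨h, ⟨hhN, hh⟩, k, ⟨hkN, hk⟩, rfl⟩

end Cfsg.Agent.S0562
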