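import Cfsg.Statements.S0566
import Cfsg.Agent.Lib.Core.Smul
import Cfsg.Agent.Lib.Solv.SylowSystem
open scoped Pointwise

set_option autoImplicit false
open Pointwise
open Cfsg

namespace Cfsg.Agent.S0566

/-- Let A and B be nontrivial subgroups of a finite group G such that for every x the product set of A and xBx⁻¹ is a proper subgroup of G. Then there is a proper normal subgroup of G containing A or containing B. -/
theorem result {G : Type*} [Group G] [Finite G] (A B : Subgroup G) (hA : A ≠ ⊥) (hB : B ≠ ⊥) (h : ∀ x : G, ∃ S : Subgroup G, S ≠ ⊤ ∧ (S : Set G) = (A : Set G) * ((MulAut.conj x • B : Subgroup G) : Set G)) : ∃ N : Subgroup G, N.Normal ∧ N ≠ ⊤ ∧ (A ≤ N ∨ B ≤ N) := by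
  classical
  obtain ⟨X, hAX, hX⟩ := Finite.exists_le_maximal (p := fun X : Subgroup G =>
    ∀ x : G, ∃ S : Subgroup G, S ≠ ⊤ ∧ (S : Set G) = (X : Set G) * ((MulAut.conj x • B : Subgroup G) : Set G)) h
  have hperm : ∀ z : G, ∀ Y : Subgroup G,
      (∃ S : Subgroup G, (S : Set G) = (Y : Set G) * ((MulAut.conj z • B : Subgroup G) : Set G)) →
      (Y : Set G) * ((MulAut.conj z • B : Subgroup G) : Set G) = ((MulAut.conj z • B : Subgroup G) : Set G) * Y := by
    rintro z Y ⟨S, hS⟩
    have h1 := congrArg (·⁻¹) hS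
    simp only [inv_coe_set, mul_inv_rev] at h1
    exact hS.symm.trans h1
  -- every conjugate of `B` normalises `X`
  have hn : ∀ x : G, MulAut.conj x • B ≤ Subgroup.normalizer (X : Set G) := by
    intro x y hy
    obtain ⟨M, hM, hMe⟩ := hX.prop x
    have hXM : X ≤ M := fun a ha => by
      show a ∈ (M : Set G)
      rw [hMe]; exact ⟨a, ha, 1, one_mem _, mul_one a⟩
    have hBM : MulAut.conj x • B ≤ M := fun b hb => by
      show b ∈ (M : Set G)
      rw [hMe]; exact ⟨1, one_mem _, b, hb, one_mul b⟩
    set X₁ := X.map (MulAut.conj y).toMonoidHom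
    set J := X ⊔ X₁
    have hJM : J ≤ M := sup_le hXM (by
      rintro _ ⟨a, ha, rfl⟩
      exact mul_mem (mul_mem (hBM hy) (hXM ha)) (inv_mem (hBM hy)))
    have hJ : ∀ z : G, ∃ S : Subgroup G, S ≠ ⊤ ∧ (S : Set G) = (J : Set G) * ((MulAut.conj z • B : Subgroup G) : Set G) := by
      intro z
      set W := MulAut.conj z • B
      have hXp : (X : Set G) * (W : Set G) = (W : Set G) * X := hperm z X ((hX.prop z).imp fun S hS => hS.2)
      have hX₁p : (X₁ : Set G) * (W : Set G) = (W : Set G) * X₁ := by
        refine hperm z _ ?_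
        obtain ⟨S, -, hS⟩ := hX.prop (y⁻¹ * z)
        refine ⟨S.map (MulAut.conj y).toMonoidHom, ?_⟩
        have hu : MulAut.conj z • B = (MulAut.conj (y⁻¹ * z) • B).map (MulAut.conj y).toMonoidHom := by
          rw [← Cfsg.Lib.Core.conj_smul_eq_map, ← mul_smul, ← map_mul, mul_inv_cancel_left]
        rw [hu, Subgroup.coe_map, Subgroup.coe_map, Subgroup.coe_map, hS, Set.image_mul]
      have hswap : ∀ w ∈ J, ∀ b ∈ W, b * w ∈ (J : Set G) * (W : Set G) := by
        let P : Submonoid G :=
          { carrier := {w | ∀ b ∈ W, b * w ∈ (J : Set G) * (W : Set G)}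
            one_mem' := fun b hb => ⟨1, one_mem _, b, hb, by simp⟩
            mul_mem' := by
              intro u v hu hv b hb
              obtain ⟨j, hj, b', hb', he⟩ := hu b hb
              obtain ⟨j', hj', b'', hb'', he'⟩ := hv b' hb'
              exact ⟨j * j', mul_mem hj hj', b'', hb'', by
                simp only at he he' ⊢
                rw [mul_assoc, he', ← mul_assoc, he, mul_assoc]⟩ }
        let P' : Subgroup G :=
          { P with
            inv_mem' := fun {u} hu => by
              rw [show u⁻¹ = u ^ (orderOf u - 1) from inv_eq_of_mul_eq_one_right (by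
                rw [← pow_succ', Nat.sub_add_cancel (orderOf_pos u), pow_orderOf_eq_one])]
              exact P.pow_mem hu _ }
        have hle : J ≤ P' := by
          refine sup_le (fun w hw b hb => ?_) (fun w hw b hb => ?_)
          · have h1 : b * w ∈ (W : Set G) * X := ⟨b, hb, w, hw, rfl⟩
            rw [← hXp] at h1
            exact Set.mul_subset_mul_right (SetLike.coe_subset_coe.2 (le_sup_left : X ≤ J)) h1
          · have h1 : b * w ∈ (W : Set G) * X₁ := ⟨b, hb, w, hw, rfl⟩
            rw [← hX₁p] at h1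
            exact Set.mul_subset_mul_right (SetLike.coe_subset_coe.2 (le_sup_right : X₁ ≤ J)) h1
        exact fun w hw => hle hw
      have hJW : (J : Set G) * (W : Set G) = (W : Set G) * J := by
        refine Set.Subset.antisymm ?_ ?_
        · rintro _ ⟨j, hj, w, hw, rfl⟩
          obtain ⟨j', hj', w', hw', he⟩ := hswap j⁻¹ (inv_mem hj) w⁻¹ (inv_mem hw)
          refine ⟨w'⁻¹, inv_mem hw', j'⁻¹, inv_mem hj', ?_⟩
          have h2 := congrArg (·⁻¹) he
          simpa using h2
        · rintro _ ⟨w, hw, j, hj, rfl⟩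
          exact hswap j hj w hw
      refine ⟨J ⊔ W, fun ht => hM ?_, Cfsg.Lib.SylowSystem.coe_sup_of_perm hJW⟩
      have hz : x * z⁻¹ ∈ (J : Set G) * (W : Set G) := by
        rw [← Cfsg.Lib.SylowSystem.coe_sup_of_perm hJW, ht]; trivial
      obtain ⟨m, hm, w, hw, hmw⟩ := hz
      simp only at hmw
      have hall : ∀ b ∈ W, w * b * w⁻¹ ∈ M := by
        intro b hb
        have h1 : m * (w * b * w⁻¹) * m⁻¹ ∈ MulAut.conj x • B := by
          rw [Cfsg.Lib.Core.mem_conj_smul] at hb ⊢
          have hx : x = m * w * z := by rw [hmw, inv_mul_cancel_right]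
          rw [hx]
          simpa [mul_assoc] using hb
        have h2 := mul_mem (mul_mem (inv_mem (hJM hm)) (hBM h1)) (hJM hm)
        simpa [mul_assoc] using h2
      have hWM : W ≤ M := fun b hb => by
        have h1 := hall (w⁻¹ * b * w) (mul_mem (mul_mem (inv_mem hw) hb) hw)
        simpa [mul_assoc] using h1
      exact top_le_iff.1 (ht ▸ sup_le hJM hWM)
    rw [Cfsg.Lib.Core.mem_normalizer_iff_map_conj]
    have hJX : J = X := le_antisymm (hX.2 hJ le_sup_left) le_sup_left
    exact Subgroup.eq_of_le_of_card_ge ((le_sup_right : X₁ ≤ J).trans hJX.le)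
      (Nat.card_congr (X.equivMapOfInjective _ (MulAut.conj y).injective).toEquiv).le
  set N := Subgroup.normalClosure (B : Set G)
  by_cases hN : N = ⊤
  · have hle : N ≤ Subgroup.normalizer (X : Set G) := by
      refine (Subgroup.closure_le _).2 ?_
      intro z hz
      obtain ⟨b, hb, hc⟩ := Group.mem_conjugatesOfSet_iff.1 hz
      obtain ⟨g, rfl⟩ := isConj_iff.1 hc
      exact hn g (by rw [Cfsg.Lib.Core.mem_conj_smul]; simpa [mul_assoc] using hb)
    refine ⟨X, Subgroup.normalizer_eq_top_iff.1 (top_le_iff.1 (hN ▸ hle)), ?_, Or.inl hAX⟩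
    rintro rfl
    obtain ⟨S, hS, hSe⟩ := hX.prop 1
    refine hS (top_le_iff.1 fun g _ => ?_)
    show g ∈ (S : Set G)
    rw [hSe]; exact ⟨g, Subgroup.mem_top g, 1, one_mem _, mul_one g⟩
  · exact ⟨N, Subgroup.normalClosure_normal, hN, Or.inr Subgroup.le_normalClosure⟩

end Cfsg.Agent.S0566
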