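import Cfsg.Statements.S0567
import Cfsg.Agent.Lib.Core.Basic

set_option autoImplicit false
open Cfsg
open scoped commutatorElement

namespace Cfsg.Agent.S0567

/-- A subgroup H of a group G is subnormal exactly when, for some m, the subgroup obtained from G by taking the commutator with H m times in succession is contained in H. -/
theorem result {G : Type*} [Group G] (H : Subgroup G) : H.IsSubnormal ↔ ∃ m : ℕ, (fun K : Subgroup G => ⁅K, H⁆)^[m] ⊤ ≤ H := by
  set f := fun K : Subgroup G => ⁅K, H⁆ with hf
  constructor
  · intro hs
    have key : ∀ K : Subgroup G, K.IsSubnormal → H ≤ K → ∃ m, f^[m] ⊤ ≤ K := by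
      intro K hK
      induction hK with
      | top => exact fun _ => ⟨0, le_top⟩
      | step A B hle hB hN ih =>
        intro hHA
        obtain ⟨m, hm⟩ := ih (hHA.trans hle)
        refine ⟨m + 1, ?_⟩
        rw [Function.iterate_succ_apply']
        exact (Subgroup.commutator_mono hm hHA).trans
          (Subgroup.le_normalizer_iff_commutator_le_right.1 ((Subgroup.normal_subgroupOf_iff_le_normalizer hle).1 hN))
    exact key H hs le_rfl
  · rintro ⟨m, hm⟩
    have hnorm : ∀ j, H ≤ Subgroup.normalizer ((f^[j] ⊤ : Subgroup G) : Set G) := by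
      intro j
      induction j with
      | zero => rw [Function.iterate_zero_apply]; exact le_top.trans Subgroup.le_normalizer
      | succ j ih =>
        rw [Function.iterate_succ_apply']
        exact Subgroup.normalizer_commutator_ge_right _ _
    have hle : ∀ j, f^[j + 1] ⊤ ≤ f^[j] ⊤ := fun j => by
      rw [Function.iterate_succ_apply']
      exact Subgroup.le_normalizer_iff_commutator_le_left.1 (hnorm j)
    have hsub : ∀ j, (H ⊔ f^[j] ⊤).IsSubnormal := by
      intro j
      induction j with
      | zero => rw [Function.iterate_zero_apply, sup_top_eq]; exact Subgroup.IsSubnormal.top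
      | succ j ih =>
        refine Subgroup.IsSubnormal.step _ _ (sup_le_sup_left (hle j) H) ih
          ((Subgroup.normal_subgroupOf_iff_le_normalizer (sup_le_sup_left (hle j) H)).2
            (sup_le (le_sup_left.trans Subgroup.le_normalizer) ?_))
        intro x hx
        have hx' : ∀ y ∈ f^[j] ⊤, ∀ z ∈ H ⊔ f^[j + 1] ⊤, y * z * y⁻¹ ∈ H ⊔ f^[j + 1] ⊤ := by
          intro y hy
          have hsub : H ⊔ f^[j + 1] ⊤ ≤ (H ⊔ f^[j + 1] ⊤).comap (MulAut.conj y).toMonoidHom := by
            refine sup_le (fun z hz => ?_) fun z hz => ?_
            · have h1 : ⁅y, z⁆ ∈ f^[j + 1] ⊤ := by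
                rw [Function.iterate_succ_apply']; exact Subgroup.commutator_mem_commutator hy hz
              have h2 := Subgroup.mul_mem (H ⊔ f^[j + 1] ⊤) (Subgroup.mem_sup_right h1) (Subgroup.mem_sup_left hz)
              simpa [commutatorElement_def, mul_assoc] using h2
            · rw [Function.iterate_succ_apply'] at hz ⊢
              have hyn := Subgroup.normalizer_commutator_ge_left (f^[j] ⊤) H hy
              exact Subgroup.mem_sup_right ((Subgroup.mem_normalizer_iff.1 hyn z).1 hz)
          exact fun z hz => hsub hz
        refine Subgroup.mem_normalizer_iff.2 fun z => ⟨hx' x hx z, fun h => ?_⟩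
        have h3 := hx' x⁻¹ (Subgroup.inv_mem _ hx) _ h
        simpa [mul_assoc] using h3
    have := hsub m
    rwa [sup_eq_left.2 hm] at this

end Cfsg.Agent.S0567
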