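import Cfsg.Statements.S0568
import Cfsg.Agent.Lib.Solv.SystemQuotient
open scoped commutatorElement

set_option autoImplicit false
open Cfsg

namespace Cfsg.Agent.S0568

/-- Let D be the system normalizer of a Hall complement system of a finite solvable group G, and let A < B be normal subgroups with no normal subgroup of G strictly between them (a chief factor). If G centralizes B modulo A then B ≤ A ⊔ D (D covers the factor); otherwise B ∩ D ≤ A (D avoids it). -/
theorem result {G : Type*} [Group G] [Finite G] [Group.IsSolvable G] (K : Nat.Primes → Subgroup G) (hK : Cfsg.IsComplementSystem K) (A B : Subgroup G) [A.Normal] [B.Normal] (hAB : A < B) (hchief : ∀ N : Subgroup G, N.Normal → A ≤ N → N ≤ B → N = A ∨ N = B) : (⁅B, (⊤ : Subgroup G)⁆ ≤ A → B ≤ A ⊔ Cfsg.systemNormalizer K) ∧ (¬ ⁅B, (⊤ : Subgroup G)⁆ ≤ A → B ⊓ Cfsg.systemNormalizer K ≤ A) := by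
  classical
  have hf := QuotientGroup.mk'_surjective A
  set f := QuotientGroup.mk' A
  have hker : f.ker = A := QuotientGroup.ker_mk' A
  set K' : Nat.Primes → Subgroup (G ⧸ A) := fun p => (K p).map f
  have hK' : Cfsg.IsComplementSystem K' := Cfsg.Lib.SylowSystem.isComplementSystem_map hK A
  have hD' : Cfsg.systemNormalizer K' = (Cfsg.systemNormalizer K).map f :=
    Cfsg.Lib.SylowSystem.systemNormalizer_map hK A
  set B' := B.map f
  have hB'n : B'.Normal := ‹B.Normal›.map f hf
  haveI := hB'n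
  have hB'c : B'.comap f = B := by rw [Subgroup.comap_map_eq, hker, sup_eq_left.2 hAB.le]
  constructor
  · intro hc b hb
    have hcen : f b ∈ Cfsg.systemNormalizer K' := by
      refine Subgroup.mem_iInf.2 fun p => Subgroup.centralizer_le_normalizer _ (Subgroup.mem_centralizer_iff.2 fun z hz => ?_)
      obtain ⟨g, rfl⟩ := hf z
      have h1 : f ⁅b, g⁆ = 1 := (QuotientGroup.eq_one_iff _).2 (hc (Subgroup.commutator_mem_commutator hb (Subgroup.mem_top g)))
      rw [map_commutatorElement, commutatorElement_eq_one_iff_mul_comm] at h1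
      exact h1.symm
    rw [hD'] at hcen
    obtain ⟨d, hd, hde⟩ := hcen
    have h2 : b * d⁻¹ ∈ A := by
      rw [← hker, MonoidHom.mem_ker, map_mul, map_inv, hde, mul_inv_cancel]
    have := mul_mem (Subgroup.mem_sup_left (T := Cfsg.systemNormalizer K) h2) (Subgroup.mem_sup_right hd)
    rwa [inv_mul_cancel_right] at this
  · intro hc
    have hB'min : Cfsg.Lib.Core.IsMinNormal B' := by
      refine ⟨hB'n, fun hb => hAB.not_ge ?_, fun N hN hNB => ?_⟩
      · refine hB'c.ge.trans ?_
        rw [hb, MonoidHom.comap_bot]; exact hker.le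
      · have h1 : A ≤ N.comap f := hker.ge.trans (Subgroup.ker_le_comap _ _)
        rcases hchief (N.comap f) (hN.comap f) h1 (hB'c ▸ Subgroup.comap_mono hNB) with h | h
        · left
          rw [← Subgroup.map_comap_eq_self_of_surjective hf N, h, Subgroup.map_eq_bot_iff, hker]
        · right
          rw [← Subgroup.map_comap_eq_self_of_surjective hf N, h]
    have hfix : ∀ v ∈ B', ∀ p : Nat.Primes, IsPGroup (p : ℕ) B' → (∀ k ∈ K' p, v * k = k * v) → v = 1 := by
      intro v hv p hBp hvk
      by_contra hv1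
      haveI : Fact (p : ℕ).Prime := ⟨p.2⟩
      set C := Subgroup.centralizer (B' : Set (G ⧸ A))
      haveI : C.Normal := inferInstance
      have hCne : C ≠ ⊤ := fun ht => hc (Subgroup.commutator_le.2 fun b hb g _ => by
        rw [← hker, MonoidHom.mem_ker, map_commutatorElement, commutatorElement_eq_one_iff_mul_comm]
        exact Subgroup.mem_centralizer_iff.1 (ht.symm ▸ Subgroup.mem_top (f g) : f g ∈ C) (f b) (Subgroup.mem_map_of_mem f hb))
      haveI : Nontrivial ((G ⧸ A) ⧸ C) := QuotientGroup.nontrivial_iff.2 hCne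
      obtain ⟨R, hR⟩ := Cfsg.Lib.Core.exists_isMinNormal_univ (G := (G ⧸ A) ⧸ C)
      obtain ⟨-, q, hq, -, hRq⟩ := Cfsg.Lib.Core.minimal_solvable_elementary hR inferInstance
      haveI : Fact q.Prime := ⟨hq⟩
      set R₁ := R.comap (QuotientGroup.mk' C)
      haveI : R₁.Normal := hR.1.comap _
      -- fixed points of `R₁`
      set F := B' ⊓ Subgroup.centralizer (R₁ : Set (G ⧸ A))
      have hFne : F ≠ B' := by
        intro he
        refine hR.2.1 (le_bot_iff.1 fun z hz => ?_)
        obtain ⟨r, rfl⟩ := QuotientGroup.mk'_surjective C z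
        refine (QuotientGroup.eq_one_iff r).2 (Subgroup.mem_centralizer_iff.2 fun w hw => ?_)
        exact (Subgroup.mem_centralizer_iff.1 ((he.symm ▸ hw : w ∈ F).2) r hz).symm
      have hFbot : F = ⊥ := (hB'min.2.2 F inferInstance inf_le_left).resolve_right hFne
      by_cases hqp : q = (p : ℕ)
      · subst hqp
        haveI : Nontrivial B' := (Subgroup.nontrivial_iff_ne_bot _).2 hB'min.2.1
        -- `R₁` acts on `B'` through a `p`-group
        let φ : G ⧸ A →* MulAut B' := MulAut.conjNormal
        have hker' : C ≤ φ.ker := fun c hc => MonoidHom.mem_ker.2 (MulEquiv.ext fun w => Subtype.ext (by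
          show c * (w : G ⧸ A) * c⁻¹ = w
          rw [← Subgroup.mem_centralizer_iff.1 hc w w.2, mul_inv_cancel_right]))
        let ψ : (G ⧸ A) ⧸ C →* MulAut B' := QuotientGroup.lift C φ hker'
        have hP : IsPGroup (p : ℕ) (R.map ψ) := hRq.map ψ
        letI : MulAction (R.map ψ) B' := MulAction.compHom B' (R.map ψ).subtype
        have hdvd : (p : ℕ) ∣ Nat.card B' := by
          obtain ⟨k, hk⟩ := IsPGroup.iff_card.1 hBp
          have : 1 < Nat.card B' := Finite.one_lt_card
          rw [hk] at this ⊢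
          exact dvd_pow_self _ (by rintro rfl; simp at this)
        obtain ⟨w, hw, hw1⟩ := hP.exists_fixed_point_of_prime_dvd_card_of_fixed_point B' hdvd
          (a := 1) (fun r => map_one (r : MulAut B'))
        have hwF : (w : G ⧸ A) ∈ F := ⟨w.2, Subgroup.mem_centralizer_iff.2 fun r hr => by
          have h1 : φ r w = w := hw ⟨ψ (QuotientGroup.mk' C r), Subgroup.mem_map_of_mem ψ hr⟩
          have h2 : r * (w : G ⧸ A) * r⁻¹ = w := congrArg Subtype.val h1
          exact mul_inv_eq_iff_eq_mul.1 h2⟩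
        rw [hFbot, Subgroup.mem_bot] at hwF
        exact hw1 (Subtype.ext hwF.symm)
      · have hvC : ∀ r ∈ R₁, r * v = v * r := by
          intro r hr
          set L := (K' p).map (QuotientGroup.mk' C)
          obtain ⟨i, hi⟩ : ∃ i, L.index = (p : ℕ) ^ i := by
            obtain ⟨i, -, hi⟩ := (Nat.dvd_prime_pow p.2).1
              (hK' p ▸ Subgroup.index_map_dvd (K' p) (QuotientGroup.mk'_surjective C))
            exact ⟨i, hi⟩
          haveI := hR.1
          have hd1 := Cfsg.Lib.ThreeSolvable.relIndex_normal_dvd_index R L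
          obtain ⟨j, hj⟩ := IsPGroup.iff_card.1 hRq
          have h1 : L.relIndex R = 1 :=
            Nat.eq_one_of_dvd_coprimes (((Nat.coprime_primes hq p.2).2 hqp).pow j i)
              (hj ▸ Subgroup.relIndex_dvd_card L R) (hi ▸ hd1)
          obtain ⟨k, hk, hke⟩ := Subgroup.relIndex_eq_one.1 h1 (hr : QuotientGroup.mk' C r ∈ R)
          have hkc : k⁻¹ * r ∈ C := by
            rw [← QuotientGroup.eq_one_iff, ← QuotientGroup.mk'_apply, map_mul, map_inv, hke, inv_mul_cancel]
          have h2 := Subgroup.mem_centralizer_iff.1 hkc v hv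
          calc r * v = k * ((k⁻¹ * r) * v) := by group
            _ = (k * v) * (k⁻¹ * r) := by rw [← h2, mul_assoc]
            _ = (v * k) * (k⁻¹ * r) := by rw [hvk k hk]
            _ = v * r := by group
        have hvF : v ∈ F := ⟨hv, Subgroup.mem_centralizer_iff.2 hvC⟩
        rw [hFbot, Subgroup.mem_bot] at hvF
        exact hv1 hvF
    rintro b ⟨hb, hbD⟩
    rw [← hker, MonoidHom.mem_ker]
    obtain ⟨-, p, hp, -, hBp⟩ := Cfsg.Lib.Core.minimal_solvable_elementary hB'min inferInstance
    haveI : Fact p.Prime := ⟨hp⟩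
    refine hfix _ (Subgroup.mem_map_of_mem f hb) ⟨p, hp⟩ hBp fun k hk => ?_
    have hn : f b ∈ Subgroup.normalizer (K' ⟨p, hp⟩ : Set (G ⧸ A)) :=
      (Subgroup.mem_iInf.1 (hD'.symm ▸ Subgroup.mem_map_of_mem f hbD : f b ∈ Cfsg.systemNormalizer K')) _
    have h1 : ⁅f b, k⁆ ∈ B' ⊓ K' ⟨p, hp⟩ := ⟨by
      rw [commutatorElement_def]
      have hbB : f b ∈ B' := Subgroup.mem_map_of_mem f hb
      have e : f b * k * (f b)⁻¹ * k⁻¹ = f b * (k * (f b)⁻¹ * k⁻¹) := by group
      rw [e]
      exact B'.mul_mem hbB (hB'n.conj_mem _ (B'.inv_mem hbB) k), by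
      rw [commutatorElement_def]
      exact (K' ⟨p, hp⟩).mul_mem ((Subgroup.mem_normalizer_iff.1 hn k).1 hk) ((K' ⟨p, hp⟩).inv_mem hk)⟩
    have hcop : (Nat.card B').Coprime (Nat.card (K' ⟨p, hp⟩)) := by
      obtain ⟨k', hk'⟩ := IsPGroup.iff_card.1 hBp
      rw [hk']
      refine Nat.Coprime.pow_left _ ((hp.coprime_iff_not_dvd).2 fun hd => ?_)
      have h2 := Cfsg.Lib.SylowSystem.coprime_card_index hK' ⟨p, hp⟩
      rw [hK' ⟨p, hp⟩] at h2
      have h3 : p ∣ Nat.card (G ⧸ A) := hd.trans (K' ⟨p, hp⟩).card_subgroup_dvd_card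
      exact hp.ne_one (Nat.eq_one_of_dvd_coprimes h2 hd
        (dvd_pow_self p (hp.factorization_pos_of_dvd Nat.card_pos.ne' h3).ne'))
    rw [Subgroup.inf_eq_bot_of_coprime hcop, Subgroup.mem_bot, commutatorElement_eq_one_iff_mul_comm] at h1
    exact h1

end Cfsg.Agent.S0568
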