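import Cfsg.Statements.S0570
import Cfsg.Agent.Lib.Solv.Carter

set_option autoImplicit false
open Cfsg

namespace Cfsg.Agent.S0570

/-- Let G be a finite group with a nilpotent normal subgroup F such that G modulo F is nilpotent (nilpotent length at most two). Then a subgroup of G is a Carter subgroup if and only if it is the system normalizer of some Hall complement system. -/
theorem result {G : Type*} [Group G] [Finite G] (F : Subgroup G) [F.Normal] (hF : Group.IsNilpotent F) (hGF : Group.IsNilpotent (G ⧸ F)) (C : Subgroup G) : Cfsg.IsCarterSubgroup C ↔ ∃ K : Nat.Primes → Subgroup G, Cfsg.IsComplementSystem K ∧ C = Cfsg.systemNormalizer K := by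
  haveI : Group.IsSolvable F := inferInstance
  haveI : Group.IsSolvable (G ⧸ F) := inferInstance
  haveI : Group.IsSolvable G := Group.isSolvable_of_ker_le_range F.subtype (QuotientGroup.mk' F)
    (by rw [QuotientGroup.ker_mk', Subgroup.range_subtype])
  have key : ∀ C : Subgroup G, Cfsg.IsCarterSubgroup C → ∀ K : Nat.Primes → Subgroup G,
      Cfsg.IsComplementSystem K → Cfsg.Lib.Carter.Reduces K C → Cfsg.systemNormalizer K = C := fun C hC K hK hR =>
    le_antisymm (Cfsg.Lib.Carter.systemNormalizer_le hK hC hR)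
      (Cfsg.Lib.Carter.carter_le_systemNormalizer F hF hGF hK hC hR)
  constructor
  · intro hC
    obtain ⟨K, hK, hR⟩ := Cfsg.Lib.Carter.exists_reduces C
    exact ⟨K, hK, (key C hC K hK hR).symm⟩
  · rintro ⟨K, hK, rfl⟩
    obtain ⟨C₀, hC₀⟩ := Cfsg.Lib.Carter.exists_carter (G := G)
    obtain ⟨K', hK', hR⟩ := Cfsg.Lib.Carter.exists_reduces C₀
    obtain ⟨g, hg⟩ := Cfsg.Lib.SylowSystem.complementSystems_conj hK' hK
    rw [← Cfsg.Lib.Carter.systemNormalizer_conj g hg, key C₀ hC₀ K' hK' hR]
    exact Cfsg.Lib.Carter.carter_conj hC₀ g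

end Cfsg.Agent.S0570
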