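import Cfsg.Statements.S0573
import Cfsg.Agent.Lib.Solv.Product
import Cfsg.Agent.Lib.Core.PSolvable

set_option autoImplicit false
open Cfsg

namespace Cfsg.Agent.S0573

open scoped commutatorElement

universe u

variable {G : Type u} [Group G]

/-- One of the two factors cannot move a normal subgroup centralized by the derived group: orbit bound. -/
theorem orbit_lt [Finite G] (A B : Subgroup G) [IsMulCommutative A] [IsMulCommutative B]
    (hAB : ∀ g : G, ∃ a ∈ A, ∃ b ∈ B, g = a * b) (N : Subgroup G) [N.Normal]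
    (hstab : ∀ g : G, ∀ x ∈ N, ∀ y ∈ N, x ≠ 1 → y ≠ 1 → g * x = x * g → g * y = y * g)
    {n : G} (hn : n ∈ N) (hn1 : n ≠ 1) {a₁ : G} (ha₁ : a₁ ∈ A) (hmove : a₁ * n ≠ n * a₁) :
    ((fun b : G => b * n * b⁻¹) '' (B : Set G)).ncard <
      ((fun a : G => a * n * a⁻¹) '' (A : Set G)).ncard := by
  classical
  obtain ⟨a₀, ha₀, b₀, hb₀, hnab⟩ := hAB n
  have cA : ∀ x ∈ A, ∀ y ∈ A, x * y = y * x := fun x hx y hy =>
    congrArg Subtype.val (mul_comm' (⟨x, hx⟩ : A) ⟨y, hy⟩)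
  have cB : ∀ x ∈ B, ∀ y ∈ B, x * y = y * x := fun x hx y hy =>
    congrArg Subtype.val (mul_comm' (⟨x, hx⟩ : B) ⟨y, hy⟩)
  set v := n⁻¹ * (a₁ * n * a₁⁻¹) with hv
  have hvN : v ∈ N := mul_mem (inv_mem hn) (‹N.Normal›.conj_mem n hn a₁)
  have hv1 : v ≠ 1 := fun he => hmove (by
    rw [hv, inv_mul_eq_one] at he
    exact mul_inv_eq_iff_eq_mul.1 he.symm)
  -- every `n * v ^ b` lies in the `A`-orbit of `n`
  have key : ∀ b ∈ B, n * (b * v * b⁻¹) ∈ (fun a : G => a * n * a⁻¹) '' (A : Set G) := by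
    intro b hb
    obtain ⟨a', ha', b', hb', h⟩ := hAB (b * a₁)
    refine ⟨a', ha', ?_⟩
    have e1 : (b * a₁) * a₀ * (b * a₁)⁻¹ = b * n * b⁻¹ * b₀⁻¹ := by
      calc (b * a₁) * a₀ * (b * a₁)⁻¹ = b * (a₁ * a₀ * a₁⁻¹) * b⁻¹ := by group
        _ = b * (n * b₀⁻¹) * b⁻¹ := by
          rw [cA a₁ ha₁ a₀ ha₀, mul_inv_cancel_right, hnab, mul_inv_cancel_right]
        _ = b * n * (b₀⁻¹ * b⁻¹) := by group
        _ = _ := by rw [cB _ (inv_mem hb₀) _ (inv_mem hb)]; group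
    have e2 : (a' * b') * a₀ * (a' * b')⁻¹ =
        (a' * b') * n * (a' * b')⁻¹ * (a' * n⁻¹ * a'⁻¹) * a₀ := by
      have hb0 : b₀⁻¹ = n⁻¹ * a₀ := by rw [hnab]; group
      calc (a' * b') * a₀ * (a' * b')⁻¹ = a' * (b' * n * (b₀⁻¹ * b'⁻¹)) * a'⁻¹ := by
            rw [hnab]; group
        _ = a' * (b' * n * (b'⁻¹ * b₀⁻¹)) * a'⁻¹ := by rw [cB _ (inv_mem hb₀) _ (inv_mem hb')]
        _ = a' * (b' * n * (b'⁻¹ * (n⁻¹ * a₀))) * a'⁻¹ := by rw [hb0]
        _ = (a' * b') * n * (a' * b')⁻¹ * (a' * n⁻¹ * a'⁻¹) * (a' * a₀ * a'⁻¹) := by group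
        _ = _ := by rw [cA a' ha' a₀ ha₀, mul_inv_cancel_right]
    have e3 : b * n * b⁻¹ * n⁻¹ = (a' * b') * n * (a' * b')⁻¹ * (a' * n⁻¹ * a'⁻¹) := by
      rw [← h] at e2
      have h3 := e1.symm.trans e2
      have hb0 : b₀⁻¹ = n⁻¹ * a₀ := by rw [hnab]; group
      rw [hb0, ← mul_assoc] at h3
      rw [h]at h3
      exact mul_right_cancel h3
    have hc : ∀ x ∈ N, ∀ y ∈ N, x * y = y * x := by
      intro x hx y hy
      by_cases hx1 : x = 1
      · simp [hx1]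
      by_cases hy1 : y = 1
      · simp [hy1]
      exact hstab x x hx y hy hx1 hy1 rfl
    show a' * n * a'⁻¹ = n * (b * v * b⁻¹)
    have hu := ‹N.Normal›.conj_mem n hn b
    have hw := ‹N.Normal›.conj_mem n hn (b * a₁)
    calc a' * n * a'⁻¹ = (b * n * b⁻¹ * n⁻¹)⁻¹ * ((a' * b') * n * (a' * b')⁻¹) := by rw [e3]; group
      _ = n * (b * n * b⁻¹)⁻¹ * ((b * a₁) * n * (b * a₁)⁻¹) := by rw [← h]; group
      _ = _ := by rw [hv]; group
  choose! φ hφ hφe using fun w (hw : w ∈ (fun b : G => b * n * b⁻¹) '' (B : Set G)) => hw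
  calc ((fun b : G => b * n * b⁻¹) '' (B : Set G)).ncard
      ≤ (((fun a : G => a * n * a⁻¹) '' (A : Set G)) \ {n}).ncard := by
        refine Set.ncard_le_ncard_of_injOn (fun w => n * (φ w * v * (φ w)⁻¹)) (fun w hw => ⟨key _ (hφ w hw), ?_⟩) ?_ (Set.toFinite _)
        · simp only [Set.mem_singleton_iff, mul_eq_left]
          intro he
          exact hv1 (by simpa [mul_inv_eq_one] using he)
        · intro w hw w' hw' he
          have he' := mul_left_cancel he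
          rw [← hφe w hw, ← hφe w' hw']
          show φ w * n * (φ w)⁻¹ = φ w' * n * (φ w')⁻¹
          set b := φ w; set b' := φ w'
          have h1 : (b'⁻¹ * b) * v = v * (b'⁻¹ * b) := by
            calc (b'⁻¹ * b) * v = b'⁻¹ * (b * v * b⁻¹) * b := by group
              _ = _ := by rw [he']; group
          have h2 := hstab _ v hvN n hn hv1 hn1 h1
          calc b * n * b⁻¹ = b' * ((b'⁻¹ * b) * n) * b⁻¹ := by group
            _ = _ := by rw [h2]; group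
    _ < _ := by
      refine Set.ncard_lt_ncard ⟨Set.sdiff_subset, fun hsub => ?_⟩ (Set.toFinite _)
      exact (hsub ⟨1, A.one_mem, by simp⟩).2 rfl

theorem aux [Finite G] [Nontrivial G] (A B : Subgroup G) [hAc : IsMulCommutative A]
    [hBc : IsMulCommutative B] (hAB : ∀ g : G, ∃ a ∈ A, ∃ b ∈ B, g = a * b) :
    ∃ N : Subgroup G, N.Normal ∧ N ≠ ⊥ ∧ (N ≤ A ∨ N ≤ B) := by
  classical
  have cA : ∀ x ∈ A, ∀ y ∈ A, x * y = y * x := fun x hx y hy =>
    congrArg Subtype.val (mul_comm' (⟨x, hx⟩ : A) ⟨y, hy⟩)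
  have cB : ∀ x ∈ B, ∀ y ∈ B, x * y = y * x := fun x hx y hy =>
    congrArg Subtype.val (mul_comm' (⟨x, hx⟩ : B) ⟨y, hy⟩)
  have hBA : ∀ g : G, ∃ b ∈ B, ∃ a ∈ A, g = b * a := fun g => by
    obtain ⟨a, ha, b, hb, h⟩ := hAB g⁻¹
    exact ⟨b⁻¹, B.inv_mem hb, a⁻¹, A.inv_mem ha, by rw [← inv_inv g, h, mul_inv_rev]⟩
  have hcen : ∀ x : G, (∀ a ∈ A, a * x = x * a) → (∀ b ∈ B, b * x = x * b) → x ∈ Subgroup.center G := by
    intro x h1 h2
    refine Subgroup.mem_center_iff.2 fun g => ?_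
    obtain ⟨a, ha, b, hb, rfl⟩ := hAB g
    rw [mul_assoc, h2 b hb, ← mul_assoc, h1 a ha, mul_assoc]
  by_cases hZ : Subgroup.center G = ⊥
  swap
  · obtain ⟨z, hz, hz1⟩ := (Subgroup.center G).bot_or_exists_ne_one.resolve_left hZ
    obtain ⟨a, ha, b, hb, rfl⟩ := hAB z
    have hzc := Subgroup.mem_center_iff.1 hz
    have haZ : a ∈ Subgroup.center G := hcen a (fun c hc => cA c hc a ha) fun c hc => by
      have h1 : a = a * b * b⁻¹ := by group
      rw [h1]
      calc c * (a * b * b⁻¹) = (c * (a * b)) * b⁻¹ := by group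
        _ = (a * b) * (c * b⁻¹) := by rw [hzc c]; group
        _ = _ := by rw [cB c hc _ (inv_mem hb)]; group
    by_cases ha1 : a = 1
    · subst ha1
      rw [one_mul] at hz hz1
      exact ⟨Subgroup.zpowers b, ⟨fun x hx g => by
        rw [Subgroup.mem_center_iff.1 (Subgroup.zpowers_le.2 hz hx) g, mul_inv_cancel_right]; exact hx⟩,
        Subgroup.zpowers_eq_bot.not.2 hz1, Or.inr (Subgroup.zpowers_le.2 hb)⟩
    · exact ⟨Subgroup.zpowers a, ⟨fun x hx g => by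
        rw [Subgroup.mem_center_iff.1 (Subgroup.zpowers_le.2 haZ hx) g, mul_inv_cancel_right]; exact hx⟩,
        Subgroup.zpowers_eq_bot.not.2 ha1, Or.inl (Subgroup.zpowers_le.2 ha)⟩
  obtain ⟨N, hN⟩ := Cfsg.Lib.Core.exists_isMinNormal_univ (G := G)
  haveI := hN.1
  have hmeta := Cfsg.Lib.Solv.derivedSeries_two_eq_bot_of_product A B hAB
  rw [show derivedSeries G 2 = ⁅derivedSeries G 1, derivedSeries G 1⁆ from rfl, derivedSeries_one,
    Cfsg.Lib.Core.commutator_eq_bot_iff_forall] at hmeta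
  have hcm : ∀ x y : G, ⁅x, y⁆ ∈ commutator G := fun x y =>
    Subgroup.commutator_mem_commutator (Subgroup.mem_top x) (Subgroup.mem_top y)
  have hNG : N ≤ commutator G := by
    rcases hN.inf_eq_bot_or_le (commutator G) with h | h
    · have hle : N ≤ Subgroup.center G := fun x hx => ?_
      · exact absurd (le_bot_iff.1 (hZ ▸ hle)) hN.2.1
      refine Subgroup.mem_center_iff.2 fun g => ?_
      have h1 : ⁅g, x⁆ ∈ N ⊓ commutator G := ⟨by
        rw [commutatorElement_def]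
        exact N.mul_mem (hN.1.conj_mem x hx g) (N.inv_mem hx), hcm g x⟩
      rw [h, Subgroup.mem_bot] at h1
      exact commutatorElement_eq_one_iff_mul_comm.1 h1
    · exact h
  have hfix : ∀ g h x : G, x ∈ N → g * x = x * g → g * (h * x * h⁻¹) = (h * x * h⁻¹) * g := by
    intro g h x hx hgx
    have hc : ⁅g⁻¹, h⁻¹⁆ ∈ commutator G := hcm _ _
    have hcx := hmeta _ hc x (hNG hx)
    calc g * (h * x * h⁻¹) = h * (g * (⁅g⁻¹, h⁻¹⁆ * x)) * h⁻¹ := by
          simp only [commutatorElement_def]; group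
      _ = h * ((g * x) * ⁅g⁻¹, h⁻¹⁆) * h⁻¹ := by rw [hcx, ← mul_assoc g]
      _ = _ := by rw [hgx]; simp only [commutatorElement_def]; group
  have hall : ∀ g : G, ∀ x ∈ N, x ≠ 1 → g * x = x * g → ∀ y ∈ N, g * y = y * g := by
    intro g x hx hx1 hgx
    have hT : (N ⊓ Subgroup.centralizer ({g} : Set G)).Normal := ⟨fun y hy h => ⟨hN.1.conj_mem y hy.1 h, by
      refine Subgroup.mem_centralizer_iff.2 fun z hz => ?_
      rw [Set.mem_singleton_iff.1 hz]
      exact hfix g h y hy.1 (Subgroup.mem_centralizer_iff.1 hy.2 g rfl)⟩⟩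
    rcases hN.2.2 _ hT inf_le_left with h | h
    · exact absurd (Subgroup.mem_bot.1 (h ▸ ⟨hx, Subgroup.mem_centralizer_iff.2 fun z hz => by
        rw [Set.mem_singleton_iff.1 hz]; exact hgx⟩ : x ∈ (⊥ : Subgroup G))) hx1
    · intro y hy
      exact Subgroup.mem_centralizer_iff.1 ((inf_eq_left.1 h) hy) g rfl
  have hstab : ∀ g : G, ∀ x ∈ N, ∀ y ∈ N, x ≠ 1 → y ≠ 1 → g * x = x * g → g * y = y * g :=
    fun g x hx y hy hx1 _ hgx => hall g x hx hx1 hgx y hy
  obtain ⟨n, hn, hn1⟩ := N.bot_or_exists_ne_one.resolve_left hN.2.1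
  by_cases hA : ∀ a ∈ A, a * n = n * a
  · refine ⟨N, hN.1, hN.2.1, Or.inl fun x hx => ?_⟩
    obtain ⟨a, ha, b, hb, rfl⟩ := hAB x
    have hbZ : b ∈ Subgroup.center G := hcen b (fun c hc => by
      have hcx := hall c n hn hn1 (hA c hc) (a * b) hx
      have hb' : b = a⁻¹ * (a * b) := by group
      rw [hb']
      calc c * (a⁻¹ * (a * b)) = (c * a⁻¹) * (a * b) := by group
        _ = a⁻¹ * (c * (a * b)) := by rw [cA c hc _ (inv_mem ha)]; group
        _ = _ := by rw [hcx]; group) fun c hc => cB c hc b hb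
    rw [hZ, Subgroup.mem_bot] at hbZ
    rw [hbZ, mul_one]; exact ha
  by_cases hB : ∀ b ∈ B, b * n = n * b
  · refine ⟨N, hN.1, hN.2.1, Or.inr fun x hx => ?_⟩
    obtain ⟨a, ha, b, hb, rfl⟩ := hAB x
    have haZ : a ∈ Subgroup.center G := hcen a (fun c hc => cA c hc a ha) fun c hc => by
      have hcx := hall c n hn hn1 (hB c hc) (a * b) hx
      have ha' : a = (a * b) * b⁻¹ := by group
      rw [ha']
      calc c * (a * b * b⁻¹) = (c * (a * b)) * b⁻¹ := by group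
        _ = (a * b) * (c * b⁻¹) := by rw [hcx]; group
        _ = _ := by rw [cB c hc _ (inv_mem hb)]; group
    rw [hZ, Subgroup.mem_bot] at haZ
    rw [haZ, one_mul]; exact hb
  push Not at hA hB
  obtain ⟨a₁, ha₁, hm₁⟩ := hA
  obtain ⟨b₁, hb₁, hm₂⟩ := hB
  exact absurd (orbit_lt B A hBA N hstab hn hn1 hb₁ hm₂)
    (not_lt.2 (orbit_lt A B hAB N hstab hn hn1 ha₁ hm₁).le)


/-- If a nontrivial finite group G is the product AB of abelian subgroups A and B, then some nontrivial normal subgroup of G is contained in A or in B. -/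
theorem result {G : Type*} [Group G] [Finite G] [Nontrivial G] (A B : Subgroup G) [IsMulCommutative A] [IsMulCommutative B] (hAB : ∀ g : G, ∃ a ∈ A, ∃ b ∈ B, g = a * b) : ∃ N : Subgroup G, N.Normal ∧ N ≠ ⊥ ∧ (N ≤ A ∨ N ≤ B) := by
  exact aux A B hAB

end Cfsg.Agent.S0573
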