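import Cfsg.Statements.S0571
import Cfsg.Agent.S0573
import Cfsg.Agent.Lib.Solv.Supersolvable

set_option autoImplicit false
open Cfsg

namespace Cfsg.Agent.S0571

universe u

theorem aux : ∀ (n : ℕ) (G : Type u) [Group G] [Finite G], Nat.card G ≤ n → ∀ A B : Subgroup G,
    IsCyclic A → IsCyclic B → (∀ g : G, ∃ a ∈ A, ∃ b ∈ B, g = a * b) → Cfsg.IsSupersolvable G := by
  intro n
  induction n with
  | zero => intro G _ _ h; exact absurd h (Nat.not_le.2 Nat.card_pos)
  | succ n ih =>
    intro G _ _ hn A B hA hB hAB
    rcases subsingleton_or_nontrivial G with hG | hG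
    · exact Cfsg.Lib.Supersolvable.of_subsingleton
    haveI : IsMulCommutative A := IsCyclic.isMulCommutative
    haveI : IsMulCommutative B := IsCyclic.isMulCommutative
    obtain ⟨N, hNn, hNb, hle⟩ := Cfsg.Agent.S0573.result A B hAB
    haveI := hNn
    haveI : IsCyclic N := by
      rcases hle with h | h
      · exact isCyclic_of_injective (Subgroup.inclusion h) (Subgroup.inclusion_injective h)
      · exact isCyclic_of_injective (Subgroup.inclusion h) (Subgroup.inclusion_injective h)
    haveI : Nontrivial N := (Subgroup.nontrivial_iff_ne_bot N).2 hNb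
    refine Cfsg.Lib.Supersolvable.of_quotient N ?_
    have hf := QuotientGroup.mk'_surjective N
    refine ih (G ⧸ N) (by have := Cfsg.Lib.Core.card_quotient_lt hNb; omega)
      (A.map (QuotientGroup.mk' N)) (B.map (QuotientGroup.mk' N))
      (isCyclic_of_surjective _ (MonoidHom.subgroupMap_surjective (QuotientGroup.mk' N) A))
      (isCyclic_of_surjective _ (MonoidHom.subgroupMap_surjective (QuotientGroup.mk' N) B)) ?_
    intro z
    obtain ⟨g, rfl⟩ := hf z
    obtain ⟨a, ha, b, hb, rfl⟩ := hAB g
    exact ⟨_, Subgroup.mem_map_of_mem _ ha, _, Subgroup.mem_map_of_mem _ hb, map_mul _ _ _⟩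


/-- If a finite group G is the product AB of two cyclic subgroups (every element is a product ab), then G is supersolvable. -/
theorem result {G : Type*} [Group G] [Finite G] (A B : Subgroup G) [IsCyclic A] [IsCyclic B] (hAB : ∀ g : G, ∃ a ∈ A, ∃ b ∈ B, g = a * b) : Cfsg.IsSupersolvable G := by
  exact aux _ G le_rfl A B inferInstance inferInstance hAB

end Cfsg.Agent.S0571
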