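import Cfsg.Statements.S0574
import Cfsg.Agent.Lib.Solv.Product
import Cfsg.Agent.Lib.Solv.KW.Kegel
import Cfsg.Agent.Lib.Core.PSolvable
import Cfsg.Agent.Lib.Core.Smul
-- import your own Cfsg.Agent.* helpers here

set_option autoImplicit false
open Cfsg

namespace Cfsg.Agent.S0574

open scoped Pointwise commutatorElement
open Subgroup

universe u

section

variable {G : Type u} [Group G] [Finite G]

/-- Sylow subgroups of the factors multiply to a Sylow subgroup. -/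
theorem exists_sylow_prod {p : ℕ} [Fact p.Prime] (A B : Subgroup G) [IsMulCommutative A]
    (hB : Group.IsNilpotent B) (hAB : ∀ g : G, ∃ a ∈ A, ∃ b ∈ B, g = a * b) :
    ∃ (A₀ B₀ : Subgroup G) (P : Sylow p G), A₀ ≤ A ∧ B₀ ≤ B ∧ IsPGroup p B₀ ∧
      (∀ b ∈ B, ∀ x ∈ B₀, b * x * b⁻¹ ∈ B₀) ∧
      (∀ x ∈ (P : Subgroup G), ∃ a ∈ A₀, ∃ b ∈ B₀, x = a * b) := by
  obtain ⟨SA⟩ : Nonempty (Sylow p A) := inferInstance
  obtain ⟨SB⟩ : Nonempty (Sylow p B) := inferInstance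
  obtain ⟨A₀, hA₀⟩ : ∃ A₀, A₀ = (SA : Subgroup A).map A.subtype := ⟨_, rfl⟩
  obtain ⟨B₀, hB₀⟩ : ∃ B₀, B₀ = (SB : Subgroup B).map B.subtype := ⟨_, rfl⟩
  have hAle : A₀ ≤ A := hA₀ ▸ Subgroup.map_subtype_le _
  have hBle : B₀ ≤ B := hB₀ ▸ Subgroup.map_subtype_le _
  have hAp : IsPGroup p A₀ := hA₀ ▸ SA.isPGroup'.map _
  have hBp : IsPGroup p B₀ := hB₀ ▸ SB.isPGroup'.map _
  have hBn : ∀ b ∈ B, ∀ x ∈ B₀, b * x * b⁻¹ ∈ B₀ := by
    intro b hb x hx
    have hn : (SB : Subgroup B).Normal := (Group.isNilpotent_of_finite_tfae.out 0 3 rfl rfl).mp hB p inferInstance SB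
    subst hB₀
    obtain ⟨y, hy, rfl⟩ := hx
    exact ⟨⟨b, hb⟩ * y * ⟨b, hb⟩⁻¹, hn.conj_mem y hy _, rfl⟩
  obtain ⟨PA, hPA⟩ := hAp.exists_le_sylow
  obtain ⟨PB, hPB⟩ := hBp.exists_le_sylow
  obtain ⟨g, hg⟩ := MulAction.exists_smul_eq G PA PB
  obtain ⟨a, ha, b, hb, hgab⟩ := hAB g⁻¹
  have hg' : g = b⁻¹ * a⁻¹ := by rw [← inv_inv g, hgab, mul_inv_rev]
  obtain ⟨P, hP⟩ : ∃ P : Sylow p G, P = a⁻¹ • PA := ⟨_, rfl⟩
  have hAP : A₀ ≤ (P : Subgroup G) := fun x hx => by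
    rw [hP, Sylow.coe_subgroup_smul, Cfsg.Lib.Core.mem_conj_smul]
    have hc : a * x = x * a := congrArg Subtype.val (mul_comm' (⟨a, ha⟩ : A) ⟨x, hAle hx⟩)
    rw [inv_inv, hc, mul_inv_cancel_right]
    exact hPA hx
  have hBP : B₀ ≤ (P : Subgroup G) := fun x hx => by
    have h1 := hPB (hBn b⁻¹ (inv_mem hb) x hx)
    rw [← hg, hg', mul_smul, ← hP, Sylow.coe_subgroup_smul, Cfsg.Lib.Core.mem_conj_smul] at h1
    simpa [mul_assoc] using h1
  refine ⟨A₀, B₀, P, hAle, hBle, hBp, hBn, ?_⟩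
  have hsub : (A₀ : Set G) * (B₀ : Set G) ⊆ ((P : Subgroup G) : Set G) := by
    rintro _ ⟨u, hu, v, hv, rfl⟩
    exact mul_mem (hAP hu) (hBP hv)
  have hAmul : Nat.card A * Nat.card B = Nat.card G * Nat.card ↥(B ⊓ A) := by
    have h1 := Cfsg.Lib.Solv.card_mul_set A B
    have huniv : (A : Set G) * (B : Set G) = Set.univ := Set.eq_univ_of_forall fun x => by
      obtain ⟨u, hu, v, hv, rfl⟩ := hAB x
      exact ⟨u, hu, v, hv, rfl⟩
    rw [huniv, Nat.card_univ] at h1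
    have h2 := Cfsg.Lib.Core.card_mul_relIndex (inf_le_right : B ⊓ A ≤ A)
    rw [Subgroup.inf_relIndex_right] at h2
    rw [h1, ← h2]
    ring
  have h3 := Cfsg.Lib.Solv.card_mul_set A₀ B₀
  have h4 := Cfsg.Lib.Core.card_mul_relIndex (inf_le_right : B₀ ⊓ A₀ ≤ A₀)
  rw [Subgroup.inf_relIndex_right] at h4
  have cA : Nat.card A₀ = p ^ (Nat.card A).factorization p := by
    rw [hA₀, Subgroup.card_map_of_injective A.subtype_injective]; exact SA.card_eq_multiplicity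
  have cB : Nat.card B₀ = p ^ (Nat.card B).factorization p := by
    rw [hB₀, Subgroup.card_map_of_injective B.subtype_injective]; exact SB.card_eq_multiplicity
  obtain ⟨j, hj⟩ := (IsPGroup.iff_card (p := p)).1 (hBp.to_le (inf_le_left : B₀ ⊓ A₀ ≤ B₀))
  have hj' : j ≤ (Nat.card ↥(B ⊓ A)).factorization p := by
    rw [← (Fact.out : p.Prime).pow_dvd_iff_le_factorization Nat.card_pos.ne', ← hj]
    exact Subgroup.card_dvd_of_le (inf_le_inf hBle hAle)
  have hfac := congrArg (fun k => k.factorization p) hAmul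
  simp only [Nat.factorization_mul Nat.card_pos.ne' Nat.card_pos.ne', Finsupp.add_apply] at hfac
  have hcard : Nat.card (P : Subgroup G) ≤ Nat.card ((A₀ : Set G) * (B₀ : Set G) : Set G) := by
    rw [h3, P.card_eq_multiplicity]
    refine Nat.le_of_mul_le_mul_left ?_ (pow_pos (Fact.out : p.Prime).pos j)
    rw [show p ^ j * (Nat.card B₀ * B₀.relIndex A₀) = Nat.card B₀ * (p ^ j * B₀.relIndex A₀) by ring, ← hj, h4, cA,
      cB, hj, ← pow_add, ← pow_add]
    exact Nat.pow_le_pow_right (Fact.out : p.Prime).pos (by omega)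
  have heq := Set.eq_of_subset_of_ncard_le hsub (by rw [← Nat.card_coe_set_eq, ← Nat.card_coe_set_eq]; exact hcard) (Set.toFinite _)
  intro x hx
  have hx' : x ∈ (A₀ : Set G) * (B₀ : Set G) := heq.symm ▸ hx
  obtain ⟨u, hu, v, hv, rfl⟩ := hx'
  exact ⟨u, hu, v, hv, rfl⟩

/-- A nontrivial soluble product has a factorised abelian normal subgroup. -/
theorem exists_factorised [Nontrivial G] [Group.IsSolvable G] (A B : Subgroup G) [IsMulCommutative A]
    (hBnil : Group.IsNilpotent B) (hcl : ∀ u ∈ B, ∀ v ∈ B, ∀ w ∈ B, ⁅u, v⁆ * w = w * ⁅u, v⁆)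
    (hAB : ∀ g : G, ∃ a ∈ A, ∃ b ∈ B, g = a * b) :
    ∃ Y : Subgroup G, Y.Normal ∧ Y ≠ ⊥ ∧ IsMulCommutative Y ∧
      ∀ y ∈ Y, ∃ a ∈ A, ∃ b ∈ B, a ∈ Y ∧ b ∈ Y ∧ y = a * b := by
  classical
  obtain ⟨M, hM⟩ := Cfsg.Lib.Core.exists_isMinNormal_univ (G := G)
  obtain ⟨hMc, p, hp, -, hMp⟩ := Cfsg.Lib.Core.minimal_solvable_elementary hM inferInstance
  haveI : Fact p.Prime := ⟨hp⟩
  haveI := hM.1
  obtain ⟨A₀, B₀, P, hA₀, hB₀, hB₀p, hB₀n, hP⟩ := exists_sylow_prod (p := p) A B hBnil hAB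
  have cA : ∀ x ∈ A, ∀ y ∈ A, x * y = y * x := fun x hx y hy =>
    congrArg Subtype.val (mul_comm' (⟨x, hx⟩ : A) ⟨y, hy⟩)
  have cM : ∀ x ∈ M, ∀ y ∈ M, x * y = y * x := fun x hx y hy =>
    congrArg Subtype.val (mul_comm' (⟨x, hx⟩ : M) ⟨y, hy⟩)
  obtain ⟨C, hC⟩ : ∃ C, C = Subgroup.centralizer (M : Set G) := ⟨_, rfl⟩
  haveI hCn : C.Normal := hC ▸ inferInstance
  have hMC : M ≤ C := hC ▸ fun x hx => Subgroup.mem_centralizer_iff.2 fun y hy => cM y hy x hx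
  have hCmem : ∀ {x}, x ∈ C → ∀ m ∈ M, x * m = m * x := fun hx m hm =>
    (Subgroup.mem_centralizer_iff.1 (hC ▸ hx) m hm).symm
  have hMP : M ≤ (P : Subgroup G) := by
    obtain ⟨Q, hQ⟩ := hMp.exists_le_sylow
    obtain ⟨g, hg⟩ := MulAction.exists_smul_eq G Q P
    intro x hx
    rw [← hg, Sylow.coe_subgroup_smul, Cfsg.Lib.Core.mem_conj_smul]
    exact hQ (by simpa using hM.1.conj_mem x hx g⁻¹)
  have hdecM : ∀ m ∈ M, ∃ a ∈ A, ∃ b ∈ B, a ∈ C ∧ b ∈ C ∧ m = a * b := by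
    intro m hm
    obtain ⟨a, ha, b, hb, hab⟩ := hP m (hMP hm)
    suffices haC : a ∈ C by
      refine ⟨a, hA₀ ha, b, hB₀ hb, haC, ?_, hab⟩
      rw [show b = a⁻¹ * m by rw [hab, inv_mul_cancel_left]]
      exact C.mul_mem (C.inv_mem haC) (hMC hm)
    obtain ⟨R, hR⟩ : ∃ R, R = Subgroup.normalClosure ({a} : Set G) := ⟨_, rfl⟩
    haveI : R.Normal := hR ▸ Subgroup.normalClosure_normal
    have haR : a ∈ R := hR ▸ Subgroup.subset_normalClosure rfl
    have hRle : R ≤ B₀ ⊔ C := by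
      rw [hR]
      refine (Subgroup.closure_le _).2 ?_
      intro y hy
      obtain ⟨x, hx, hxy⟩ := Group.mem_conjugatesOfSet_iff.1 hy
      rw [Set.mem_singleton_iff] at hx
      subst hx
      obtain ⟨g, rfl⟩ := isConj_iff.1 hxy
      obtain ⟨u, hu, v, hv, huv⟩ := hAB g⁻¹
      have hg : g = v⁻¹ * u⁻¹ := by rw [← inv_inv g, huv, mul_inv_rev]
      have hfix : u⁻¹ * x * u = x := by rw [mul_assoc, ← cA u hu x (hA₀ ha), inv_mul_cancel_left]
      have hx' : x = m * b⁻¹ := by rw [hab, mul_inv_cancel_right]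
      have e : g * x * g⁻¹ = v⁻¹ * m * v * (v⁻¹ * b⁻¹ * v) := by
        calc g * x * g⁻¹ = v⁻¹ * (u⁻¹ * x * u) * v := by rw [hg]; group
          _ = v⁻¹ * x * v := by rw [hfix]
          _ = _ := by rw [hx']; group
      rw [SetLike.mem_coe, e]
      exact mul_mem (Subgroup.mem_sup_right (hMC (by simpa using hM.1.conj_mem m hm v⁻¹)))
        (Subgroup.mem_sup_left (by simpa using hB₀n v⁻¹ (inv_mem hv) b⁻¹ (inv_mem hb)))
    -- the fixed points of `B₀` in `M`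
    letI : MulAction B₀ M :=
      { smul := fun q x => ⟨q * x * (q : G)⁻¹, hM.1.conj_mem x x.2 q⟩
        one_smul := fun x => Subtype.ext (show ((1 : B₀) : G) * (x : G) * ((1 : B₀) : G)⁻¹ = x by simp)
        mul_smul := fun q q' x => Subtype.ext (show ((q * q' : B₀) : G) * (x : G) * ((q * q' : B₀) : G)⁻¹ =
          (q : G) * ((q' : G) * (x : G) * (q' : G)⁻¹) * (q : G)⁻¹ by simp [mul_assoc]) }
    haveI : Nontrivial M := (Subgroup.nontrivial_iff_ne_bot M).2 hM.2.1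
    have hd : p ∣ Nat.card M := by
      obtain ⟨i, hi⟩ := (IsPGroup.iff_card (p := p)).1 hMp
      have h1 : 1 < Nat.card M := Finite.one_lt_card
      rcases i with _ | i
      · rw [hi, pow_zero] at h1; omega
      · exact hi ▸ dvd_pow_self p i.succ_ne_zero
    obtain ⟨c, hc, hc1⟩ := hB₀p.exists_fixed_point_of_prime_dvd_card_of_fixed_point M hd (a := (1 : M))
      (fun q => Subtype.ext (show (q : G) * ((1 : M) : G) * (q : G)⁻¹ = 1 by simp))
    have hcR : (c : G) ∈ Subgroup.centralizer (R : Set G) := by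
      refine Subgroup.mem_centralizer_iff.2 fun r hr => ?_
      have hle : B₀ ⊔ C ≤ Subgroup.centralizer ({(c : G)} : Set G) := sup_le
        (fun q hq => Subgroup.mem_centralizer_singleton_iff.2
          ((mul_inv_eq_iff_eq_mul.1 (congrArg Subtype.val (hc ⟨q, hq⟩) : q * (c : G) * q⁻¹ = c))))
        (fun q hq => Subgroup.mem_centralizer_singleton_iff.2 (hCmem hq c c.2))
      exact Subgroup.mem_centralizer_singleton_iff.1 (hle (hRle hr))
    rcases hM.2.2 (M ⊓ Subgroup.centralizer (R : Set G)) inferInstance inf_le_left with h | h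
    · exfalso
      have : (c : G) ∈ M ⊓ Subgroup.centralizer (R : Set G) := Subgroup.mem_inf.2 ⟨c.2, hcR⟩
      rw [h, Subgroup.mem_bot] at this
      exact hc1 (Subtype.ext this.symm)
    · rw [hC, Subgroup.mem_centralizer_iff]
      intro x hx
      exact (Subgroup.mem_centralizer_iff.1 (inf_eq_left.1 h hx) a haR).symm
  -- the two projections
  obtain ⟨SA, hSA⟩ : ∃ S : Set G, S = {a | a ∈ A ∧ a ∈ C ∧ ∃ b ∈ B, b ∈ C ∧ a * b ∈ M} := ⟨_, rfl⟩
  obtain ⟨SB, hSB⟩ : ∃ S : Set G, S = {b | b ∈ B ∧ b ∈ C ∧ ∃ a ∈ A, a ∈ C ∧ a * b ∈ M} := ⟨_, rfl⟩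
  obtain ⟨SC, hSC⟩ : ∃ S : Set G, S = {c | ∃ b ∈ SB, ∃ y ∈ B, c = ⁅b, y⁆} := ⟨_, rfl⟩
  have hSC' : ∀ c ∈ SC, c ∈ B ∧ c ∈ C ∧ ∀ w ∈ B, c * w = w * c := by
    intro c hc
    rw [hSC] at hc
    obtain ⟨b, hb, y, hy, rfl⟩ := hc
    rw [hSB] at hb
    refine ⟨?_, ?_, hcl b hb.1 y hy⟩
    · rw [commutatorElement_def]; exact mul_mem (mul_mem (mul_mem hb.1 hy) (inv_mem hb.1)) (inv_mem hy)
    · rw [commutatorElement_def, mul_assoc (b * y), mul_assoc b, ← mul_assoc y]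
      exact C.mul_mem hb.2.1 (hCn.conj_mem _ (C.inv_mem hb.2.1) y)
  have hab' : ∀ a ∈ SA, ∀ b ∈ SB, a * b = b * a := by
    intro a ha b hb
    rw [hSA] at ha; rw [hSB] at hb
    obtain ⟨u, hu, -, hum⟩ := hb.2.2
    obtain ⟨m, hm⟩ : ∃ m, m = u * b := ⟨_, rfl⟩
    have e : b = u⁻¹ * m := by rw [hm, inv_mul_cancel_left]
    rw [e, ← mul_assoc, cA a ha.1 u⁻¹ (inv_mem hu), mul_assoc, hCmem ha.2.1 m (hm ▸ hum), ← mul_assoc]
  have hbb : ∀ b ∈ SB, ∀ b' ∈ SB, b * b' = b' * b := by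
    intro b hb b' hb'
    have hb0 := hb; have hb0' := hb'
    rw [hSB] at hb'
    obtain ⟨u, hu, huC, hum⟩ := hb'.2.2
    obtain ⟨m, hm⟩ : ∃ m, m = u * b' := ⟨_, rfl⟩
    have e : b' = u⁻¹ * m := by rw [hm, inv_mul_cancel_left]
    have huS : u ∈ SA := by rw [hSA]; exact ⟨hu, huC, b', hb'.1, hb'.2.1, hum⟩
    have hbC : b ∈ C := by rw [hSB] at hb0; exact hb0.2.1
    have h1 : Commute b u⁻¹ := (show Commute b u from (hab' u huS b hb).symm).inv_right
    exact e ▸ (h1.mul_right (hCmem hbC m (hm ▸ hum))).eq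
  have hac : ∀ a ∈ SA, ∀ c ∈ SC, a * c = c * a := by
    intro a ha c hc
    rw [hSA] at ha
    obtain ⟨v, hv, -, hvm⟩ := ha.2.2
    obtain ⟨m, hm⟩ : ∃ m, m = a * v := ⟨_, rfl⟩
    have e : a = m * v⁻¹ := by rw [hm, mul_inv_cancel_right]
    have h1 : Commute c m := hCmem (hSC' c hc).2.1 m (hm ▸ hvm)
    have h2 : Commute c v⁻¹ := (show Commute c v from (hSC' c hc).2.2 v hv).inv_right
    exact e ▸ (h1.mul_right h2).eq.symm
  obtain ⟨YA, hYA⟩ : ∃ Y, Y = Subgroup.closure SA := ⟨_, rfl⟩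
  obtain ⟨YB, hYB⟩ : ∃ Y, Y = Subgroup.closure (SB ∪ SC) := ⟨_, rfl⟩
  obtain ⟨Y, hY⟩ : ∃ Y, Y = Subgroup.closure (SA ∪ (SB ∪ SC)) := ⟨_, rfl⟩
  have hYc : IsMulCommutative Y := by
    rw [hY]
    refine Subgroup.isMulCommutative_closure fun x hx y hy => ?_
    have hbc : ∀ b ∈ SB, ∀ c ∈ SC, c * b = b * c := fun b hb c hc => (hSC' c hc).2.2 b (hSB ▸ hb).1
    rcases hx with hx | hx | hx <;> rcases hy with hy | hy | hy
    · rw [hSA] at hx hy; exact cA x hx.1 y hy.1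
    · exact hab' x hx y hy
    · exact hac x hx y hy
    · exact (hab' y hy x hx).symm
    · exact hbb x hx y hy
    · exact (hbc x hx y hy).symm
    · exact (hac y hy x hx).symm
    · exact hbc y hy x hx
    · exact (hSC' x hx).2.2 y (hSC' y hy).1
  have hMY : M ≤ Y := fun m hm => by
    obtain ⟨a, ha, b, hb, haC, hbC, rfl⟩ := hdecM m hm
    rw [hY]
    exact mul_mem (Subgroup.subset_closure (Or.inl (by rw [hSA]; exact ⟨ha, haC, b, hb, hbC, hm⟩)))
      (Subgroup.subset_closure (Or.inr (Or.inl (by rw [hSB]; exact ⟨hb, hbC, a, ha, haC, hm⟩))))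
  have hSY : ∀ x, x ∈ SA ∨ x ∈ SB ∨ x ∈ SC → x ∈ Y := fun x hx => hY ▸ Subgroup.subset_closure hx
  have conjA : ∀ x ∈ A, ∀ b ∈ SB, x * b * x⁻¹ * b⁻¹ ∈ M := by
    intro x hx b hb
    have hb0 := hb
    rw [hSB] at hb
    obtain ⟨u, hu, -, hum⟩ := hb.2.2
    obtain ⟨m, hm⟩ : ∃ m, m = u * b := ⟨_, rfl⟩
    have e : b = u⁻¹ * m := by rw [hm, inv_mul_cancel_left]
    have e2 : x * b * x⁻¹ * b⁻¹ = u⁻¹ * (x * m * x⁻¹ * m⁻¹) * u := by
      rw [e, ← mul_assoc x, cA x hx u⁻¹ (inv_mem hu)]; group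
    rw [e2]
    have hmM : m ∈ M := hm ▸ hum
    simpa using hM.1.conj_mem _ (mul_mem (hM.1.conj_mem m hmM x) (inv_mem hmM)) u⁻¹
  have hconj : ∀ g : G, (g ∈ A ∨ g ∈ B) → ∀ y ∈ Y, g * y * g⁻¹ ∈ Y := by
    intro g hg
    have hgen : ∀ y, y ∈ SA ∨ y ∈ SB ∨ y ∈ SC → g * y * g⁻¹ ∈ Y := by
      rintro y (hy | hy | hy)
      · rcases hg with hg | hg
        · have : y ∈ A := (hSA ▸ hy).1
          rw [cA g hg y this, mul_inv_cancel_right]; exact hSY y (Or.inl hy)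
        · have hy' := hy
          rw [hSA] at hy'
          obtain ⟨hyA, hyC, v, hv, hvC, hvm⟩ := hy'
          have hvS : v ∈ SB := by rw [hSB]; exact ⟨hv, hvC, y, hyA, hyC, hvm⟩
          have hk : ⁅v, g⁆ ∈ Y := hSY _ (Or.inr (Or.inr (by rw [hSC]; exact ⟨v, hvS, g, hg, rfl⟩)))
          have e : g * y * g⁻¹ = g * (y * v) * g⁻¹ * (v⁻¹ * ⁅v, g⁆) := by
            rw [commutatorElement_def]; group
          rw [e]
          exact mul_mem (hMY (hM.1.conj_mem _ hvm g)) (mul_mem (inv_mem (hSY v (Or.inr (Or.inl hvS)))) hk)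
      · rcases hg with hg | hg
        · rw [show g * y * g⁻¹ = g * y * g⁻¹ * y⁻¹ * y by group]
          exact mul_mem (hMY (conjA g hg y hy)) (hSY y (Or.inr (Or.inl hy)))
        · have hk : ⁅y, g⁆ ∈ Y := hSY _ (Or.inr (Or.inr (by rw [hSC]; exact ⟨y, hy, g, hg, rfl⟩)))
          rw [show g * y * g⁻¹ = ⁅y, g⁆⁻¹ * y by rw [commutatorElement_def]; group]
          exact mul_mem (inv_mem hk) (hSY y (Or.inr (Or.inl hy)))
      · rcases hg with hg | hg
        · have hy' := hy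
          rw [hSC] at hy'
          obtain ⟨b, hb, w, hw, rfl⟩ := hy'
          obtain ⟨s, hs, t, ht, hst⟩ := hAB (g * w * g⁻¹)⁻¹
          obtain ⟨μ, hμ⟩ : ∃ μ, μ = b⁻¹ * (g * b * g⁻¹) := ⟨_, rfl⟩
          have hμM : μ ∈ M := by
            have := hM.1.conj_mem _ (conjA g hg b hb) b⁻¹
            rw [hμ]; simpa [mul_assoc] using this
          have e : g * ⁅b, w⁆ * g⁻¹ = ⁅b * μ, t⁻¹ * s⁻¹⁆ := by
            rw [← mul_inv_rev, ← hst, inv_inv, hμ]; simp only [commutatorElement_def]; group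
          have e2 : ⁅b * μ, t⁻¹ * s⁻¹⁆ =
              (b * (μ * (t⁻¹ * μ⁻¹ * t)) * b⁻¹) * ⁅b, t⁻¹⁆ *
                (t⁻¹ * (b * (μ * (s⁻¹ * μ⁻¹ * s)) * b⁻¹ * (s⁻¹ * b * s * b⁻¹)⁻¹) * t) := by
            simp only [commutatorElement_def]; group
          have hinner : ∀ v, μ * (v⁻¹ * μ⁻¹ * v) ∈ M := fun v =>
            mul_mem hμM (by simpa using hM.1.conj_mem μ⁻¹ (inv_mem hμM) v⁻¹)
          rw [e, e2]
          refine mul_mem (mul_mem (hMY (hM.1.conj_mem _ (hinner t) b))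
            (hSY _ (Or.inr (Or.inr (by rw [hSC]; exact ⟨b, hb, t⁻¹, inv_mem ht, rfl⟩))))) (hMY ?_)
          have h1 : s⁻¹ * b * s * b⁻¹ ∈ M := by simpa using conjA s⁻¹ (inv_mem hs) b hb
          simpa using hM.1.conj_mem _ (mul_mem (hM.1.conj_mem _ (hinner s) b) (inv_mem h1)) t⁻¹
        · rw [← (hSC' y hy).2.2 g hg, mul_inv_cancel_right]; exact hSY y (Or.inr (Or.inr hy))
    intro y hy
    rw [hY] at hy
    induction hy using Subgroup.closure_induction with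
    | mem x hx => exact hgen x hx
    | one => simp
    | mul u v _ _ hu hv => rw [show g * (u * v) * g⁻¹ = g * u * g⁻¹ * (g * v * g⁻¹) by group]; exact mul_mem hu hv
    | inv u _ hu => rw [show g * u⁻¹ * g⁻¹ = (g * u * g⁻¹)⁻¹ by group]; exact inv_mem hu
  refine ⟨Y, ⟨fun y hy g => ?_⟩, fun h => hM.2.1 (le_bot_iff.1 (h ▸ hMY)), hYc, fun y hy => ?_⟩
  · obtain ⟨u, hu, v, hv, rfl⟩ := hAB g
    rw [show u * v * y * (u * v)⁻¹ = u * (v * y * v⁻¹) * u⁻¹ by group]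
    exact hconj u (Or.inl hu) _ (hconj v (Or.inr hv) y hy)
  · have hA' : YA ≤ A := hYA ▸ (Subgroup.closure_le _).2 fun x hx => (hSA ▸ hx).1
    have hB' : YB ≤ B := hYB ▸ (Subgroup.closure_le _).2 fun x hx => hx.elim (fun h => (hSB ▸ h).1) fun h => (hSC' x h).1
    have hYA' : YA ≤ Y := hYA ▸ hY ▸ Subgroup.closure_mono Set.subset_union_left
    have hYB' : YB ≤ Y := hYB ▸ hY ▸ Subgroup.closure_mono Set.subset_union_right
    have hn : YA ≤ Subgroup.normalizer (YB : Set G) := fun a ha => Subgroup.mem_normalizer_iff.2 fun x => by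
      have key : ∀ z ∈ YB, a * z * a⁻¹ = z := fun z hz => by
        have := congrArg Subtype.val (mul_comm' (⟨a, hYA' ha⟩ : Y) ⟨z, hYB' hz⟩)
        simp only [Subgroup.coe_mul] at this
        rw [this, mul_inv_cancel_right]
      refine ⟨fun hx => (key x hx).symm ▸ hx, fun hx => ?_⟩
      have hxY : x ∈ Y := by
        have := mul_mem (mul_mem (inv_mem (hYA' ha)) (hYB' hx)) (hYA' ha)
        simpa [mul_assoc] using this
      have := congrArg Subtype.val (mul_comm' (⟨a, hYA' ha⟩ : Y) ⟨x, hxY⟩)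
      simp only [Subgroup.coe_mul] at this
      rwa [this, mul_inv_cancel_right] at hx
    have hy' : y ∈ YA ⊔ YB := by rwa [hYA, hYB, ← Subgroup.closure_union, ← hY]
    rw [← SetLike.mem_coe, Subgroup.coe_mul_of_left_le_normalizer_right YA YB hn] at hy'
    obtain ⟨u, hu, v, hv, rfl⟩ := hy'
    exact ⟨u, hA' hu, v, hB' hv, hYA' hu, hYB' hv, rfl⟩

/-- The derived group of the second factor meets a metabelian normal subgroup. -/
theorem exists_metabelian (A B : Subgroup G) [IsMulCommutative A] (hBnil : Group.IsNilpotent B)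
    (hcl : ∀ u ∈ B, ∀ v ∈ B, ∀ w ∈ B, ⁅u, v⁆ * w = w * ⁅u, v⁆)
    (hAB : ∀ g : G, ∃ a ∈ A, ∃ b ∈ B, g = a * b) (hne : ⁅B, B⁆ ≠ ⊥) :
    ∃ N : Subgroup G, N.Normal ∧ ⁅⁅N, N⁆, ⁅N, N⁆⁆ = ⊥ ∧ ∃ c ∈ ⁅B, B⁆, c ≠ 1 ∧ c ∈ N := by
  let Good : Subgroup G → Prop := fun L => L.Normal ∧ (∀ l ∈ L, ∃ a ∈ A, ∃ b ∈ B, a ∈ L ∧ b ∈ L ∧ l = a * b) ∧
    ∀ u ∈ B, ∀ v ∈ B, u ∈ L → v ∈ L → u * v = v * u
  have hbot : Good ⊥ := ⟨inferInstance, fun l hl => ⟨1, one_mem _, 1, one_mem _, one_mem _, one_mem _, by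
    rw [Subgroup.mem_bot.1 hl, mul_one]⟩, fun u _ v _ hu hv => by
    rw [Subgroup.mem_bot.1 hu, Subgroup.mem_bot.1 hv]⟩
  obtain ⟨L, -, hL⟩ := Finite.exists_le_maximal (p := Good) hbot
  obtain ⟨hLn, hLd, hLc⟩ := hL.prop
  haveI := hLn
  by_cases hc : ∃ c ∈ ⁅B, B⁆, c ≠ 1 ∧ c ∈ L
  · refine ⟨L, hLn, ?_, hc⟩
    haveI : IsMulCommutative (A.subgroupOf L) := ⟨⟨fun x y => Subtype.ext (Subtype.ext
      (show x.1.1 * y.1.1 = y.1.1 * x.1.1 from congrArg Subtype.val (mul_comm' (⟨x.1.1, x.2⟩ : A) ⟨y.1.1, y.2⟩)))⟩⟩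
    haveI : IsMulCommutative (B.subgroupOf L) := ⟨⟨fun x y => Subtype.ext (Subtype.ext
      (hLc _ x.2 _ y.2 x.1.2 y.1.2))⟩⟩
    have h := Cfsg.Lib.Solv.derivedSeries_two_eq_bot_of_product (A.subgroupOf L) (B.subgroupOf L) fun l => by
      obtain ⟨a, ha, b, hb, haL, hbL, e⟩ := hLd l l.2
      exact ⟨⟨a, haL⟩, ha, ⟨b, hbL⟩, hb, Subtype.ext e⟩
    have h' := congrArg (Subgroup.map L.subtype) h
    simp only [derivedSeries_succ, derivedSeries_zero, Subgroup.map_commutator, Subgroup.map_bot] at h'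
    rw [← MonoidHom.range_eq_map, Subgroup.range_subtype] at h'
    exact h'
  exfalso
  push Not at hc
  by_cases hLt : L = ⊤
  · apply hne
    rw [eq_bot_iff, Subgroup.commutator_le]
    intro u hu v hv
    rw [Subgroup.mem_bot, commutatorElement_eq_one_iff_mul_comm]
    exact hLc u hu v hv (hLt ▸ Subgroup.mem_top u) (hLt ▸ Subgroup.mem_top v)
  haveI : Nontrivial (G ⧸ L) := by
    obtain ⟨g, hg⟩ : ∃ g, g ∉ L := by
      by_contra h
      push Not at h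
      exact hLt (eq_top_iff.2 fun g _ => h g)
    exact nontrivial_of_ne (g : G ⧸ L) 1 fun h => hg ((QuotientGroup.eq_one_iff g).1 h)
  haveI : Group.IsNilpotent A :=
    letI : CommGroup A := { (inferInstance : Group A) with mul_comm := mul_comm' }
    CommGroup.isNilpotent
  haveI : Group.IsSolvable G :=
    Cfsg.Lib.Solv.KW.solvable_of_nilpotent_product (Nat.card G) G A B le_rfl inferInstance hBnil hAB
  haveI : IsMulCommutative (A.map (QuotientGroup.mk' L)) := Subgroup.map_isMulCommutative _ _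
  obtain ⟨Y, hYn, hY0, hYc, hYd⟩ := exists_factorised (A.map (QuotientGroup.mk' L)) (B.map (QuotientGroup.mk' L))
    (Group.nilpotent_of_surjective _ (MonoidHom.subgroupMap_surjective (QuotientGroup.mk' L) B))
    (by
      rintro _ ⟨u, hu, rfl⟩ _ ⟨v, hv, rfl⟩ _ ⟨w, hw, rfl⟩
      rw [← map_commutatorElement, ← map_mul, ← map_mul, hcl u hu v hv w hw])
    (fun g => by
      obtain ⟨x, rfl⟩ := QuotientGroup.mk'_surjective L g
      obtain ⟨a, ha, b, hb, rfl⟩ := hAB x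
      exact ⟨_, ⟨a, ha, rfl⟩, _, ⟨b, hb, rfl⟩, map_mul _ a b⟩)
  obtain ⟨K, hK⟩ : ∃ K, K = Y.comap (QuotientGroup.mk' L) := ⟨_, rfl⟩
  have hLK : L ≤ K := fun x hx => by
    rw [hK, Subgroup.mem_comap, QuotientGroup.mk'_apply, (QuotientGroup.eq_one_iff x).2 hx]; exact one_mem _
  have hKgood : Good K := by
    refine ⟨hK ▸ hYn.comap _, fun x hx => ?_, fun u hu v hv hu' hv' => ?_⟩
    · rw [hK] at hx
      obtain ⟨_, ⟨a, ha, rfl⟩, _, ⟨b, hb, rfl⟩, haY, hbY, e⟩ := hYd _ hx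
      rw [← map_mul] at e
      have hl : (a * b)⁻¹ * x ∈ L := by
        rw [← QuotientGroup.eq]; exact e.symm
      obtain ⟨a', ha', b', hb', haL, hbL, e'⟩ := hLd _ (hLn.conj_mem _ hl b)
      refine ⟨a * a', A.mul_mem ha ha', b' * b, B.mul_mem hb' hb, K.mul_mem (hK ▸ haY) (hLK haL),
        K.mul_mem (hLK hbL) (hK ▸ hbY), ?_⟩
      calc x = a * (b * ((a * b)⁻¹ * x) * b⁻¹) * b := by group
        _ = _ := by rw [e']; group
    · rw [hK] at hu' hv'
      have e : QuotientGroup.mk' L ⁅u, v⁆ = 1 := by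
        rw [map_commutatorElement, commutatorElement_eq_one_iff_mul_comm]
        exact congrArg Subtype.val (mul_comm' (⟨_, hu'⟩ : Y) ⟨_, hv'⟩)
      rw [← commutatorElement_eq_one_iff_mul_comm]
      by_contra h
      exact hc _ (Subgroup.commutator_mem_commutator hu hv) h ((QuotientGroup.eq_one_iff _).1 e)
  have hKL : K ≤ L := hL.le_of_ge hKgood hLK
  apply hY0
  rw [eq_bot_iff]
  intro y hy
  obtain ⟨x, rfl⟩ := QuotientGroup.mk'_surjective L y
  rw [Subgroup.mem_bot, QuotientGroup.mk'_apply, QuotientGroup.eq_one_iff]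
  exact hKL (hK ▸ hy)

end

theorem main : ∀ (k : ℕ) (G : Type u) [Group G] [Finite G] (A B : Subgroup G), IsMulCommutative A →
    (∀ u ∈ B, ∀ v ∈ B, ∀ w ∈ B, ⁅u, v⁆ * w = w * ⁅u, v⁆) → Group.IsNilpotent B →
    (∀ g : G, ∃ a ∈ A, ∃ b ∈ B, g = a * b) →
    (Nat.card ↥⁅B, B⁆).primeFactorsList.length ≤ k → derivedSeries G (2 * (1 + k)) = ⊥ := by
  intro k
  induction k using Nat.strong_induction_on with
  | _ k ih =>
    intro G _ _ A B hA hcl hBnil hAB hk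
    by_cases hB : ⁅B, B⁆ = ⊥
    · haveI : IsMulCommutative B := (Subgroup.commutator_self_eq_bot_iff (H := B)).1 hB
      have h2 := Cfsg.Lib.Solv.derivedSeries_two_eq_bot_of_product A B hAB
      exact le_bot_iff.1 (h2 ▸ derivedSeries_antitone G (by omega))
    obtain ⟨N, hN, hN2, c, hc, hc1, hcN⟩ := exists_metabelian A B hBnil hcl hAB hB
    haveI := hN
    obtain ⟨f, hf⟩ : ∃ f, f = QuotientGroup.mk' N := ⟨_, rfl⟩
    have hsurj : Function.Surjective f := hf ▸ QuotientGroup.mk'_surjective N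
    obtain ⟨D, hD⟩ : ∃ D, D = ⁅B.map f, B.map f⁆ := ⟨_, rfl⟩
    have hlt : (Nat.card D).primeFactorsList.length < (Nat.card ↥⁅B, B⁆).primeFactorsList.length := by
      have e : D = (⁅B, B⁆).map f := by rw [hD, Subgroup.map_commutator]
      have hcard := Subgroup.card_eq_card_quotient_mul_card_subgroup (MonoidHom.ker (f.subgroupMap ⁅B, B⁆))
      rw [(Nat.card_congr (QuotientGroup.quotientKerEquivOfSurjective _
        (MonoidHom.subgroupMap_surjective f ⁅B, B⁆)).toEquiv).trans (show Nat.card ↥(Subgroup.map f (⁅B, B⁆ : Subgroup G)) = Nat.card ↥D by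
          rw [e])] at hcard
      have hker : 1 < Nat.card (MonoidHom.ker (f.subgroupMap ⁅B, B⁆)) := by
        haveI : Nontrivial (MonoidHom.ker (f.subgroupMap ⁅B, B⁆)) := by
          refine nontrivial_of_ne ⟨⟨c, hc⟩, ?_⟩ 1 fun h => hc1 (congrArg (fun z : ↥(MonoidHom.ker (f.subgroupMap ⁅B, B⁆)) => ((z.1 : ↥(⁅B, B⁆ : Subgroup G)) : G)) h)
          exact Subtype.ext (show f c = 1 by rw [hf]; exact (QuotientGroup.eq_one_iff c).2 hcN)
        exact Finite.one_lt_card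
      rw [hcard, (Nat.perm_primeFactorsList_mul Nat.card_pos.ne' Nat.card_pos.ne').length_eq, List.length_append]
      have : 0 < (Nat.card (MonoidHom.ker (f.subgroupMap ⁅B, B⁆))).primeFactorsList.length :=
        List.length_pos_of_ne_nil ((Nat.primeFactorsList_ne_nil (n := _)).2 hker)
      omega
    have h1 := ih (k - 1) (by omega) (G ⧸ N) (A.map f) (B.map f) (Subgroup.map_isMulCommutative _ _)
      (by
        rintro _ ⟨u, hu, rfl⟩ _ ⟨v, hv, rfl⟩ _ ⟨w, hw, rfl⟩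
        rw [← map_commutatorElement, ← map_mul, ← map_mul, hcl u hu v hv w hw])
      (Group.nilpotent_of_surjective _ (MonoidHom.subgroupMap_surjective f B))
      (fun g => by
        obtain ⟨x, rfl⟩ := hsurj g
        obtain ⟨a, ha, b, hb, rfl⟩ := hAB x
        exact ⟨_, ⟨a, ha, rfl⟩, _, ⟨b, hb, rfl⟩, map_mul _ a b⟩)
      (by rw [← hD]; omega)
    rw [← map_derivedSeries_eq hsurj, Subgroup.map_eq_bot_iff, hf, QuotientGroup.ker_mk'] at h1
    rw [show 2 * (1 + k) = 2 * (1 + (k - 1)) + 1 + 1 by omega, derivedSeries_succ, derivedSeries_succ, ← le_bot_iff,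
      ← hN2]
    exact Subgroup.commutator_mono (Subgroup.commutator_mono h1 h1) (Subgroup.commutator_mono h1 h1)

/-- Let the finite group G be the product AB of an abelian subgroup A and a subgroup B of nilpotency class at most two, and let Ω be the number of prime factors, with multiplicity, of the order of the commutator subgroup of B. Then the term of index 2(1 + Ω) of the derived series of G is trivial. -/
theorem result {G : Type*} [Group G] [Finite G] (A B : Subgroup G) [IsMulCommutative A] (hB : commutator ↥B ≤ Subgroup.center ↥B) (hAB : ∀ g : G, ∃ a ∈ A, ∃ b ∈ B, g = a * b) : derivedSeries G (2 * (1 + (Nat.card ↥(commutator ↥B)).primeFactorsList.length)) = ⊥ := by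
  have hcl : ∀ u ∈ B, ∀ v ∈ B, ∀ w ∈ B, ⁅u, v⁆ * w = w * ⁅u, v⁆ := fun u hu v hv w hw =>
    congrArg Subtype.val (Subgroup.mem_center_iff.1 (hB (Subgroup.commutator_mem_commutator
      (Subgroup.mem_top (⟨u, hu⟩ : B)) (Subgroup.mem_top (⟨v, hv⟩ : B)))) ⟨w, hw⟩).symm
  have hnil : Group.IsNilpotent B := by
    refine Subgroup.nilpotent_iff_lowerCentralSeries.2 ⟨1 + 1, Subgroup.lowerCentralSeries_succ_eq_bot _ ?_⟩
    rw [Subgroup.top_lowerCentralSeries_one]; exact hB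
  have e : Nat.card ↥(commutator ↥B) = Nat.card ↥⁅B, B⁆ := by
    rw [← Subgroup.card_map_of_injective B.subtype_injective, _root_.commutator_def, Subgroup.map_commutator,
      ← MonoidHom.range_eq_map, Subgroup.range_subtype]
  rw [e]
  exact main _ G A B inferInstance hcl hnil hAB le_rfl

end Cfsg.Agent.S0574
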