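import Cfsg.Statements.S0576
import Cfsg.Agent.Lib.Solv.Frattini

set_option autoImplicit false
open Cfsg

namespace Cfsg.Agent.S0576

/-- Let H be a normal subgroup of a finite group G with H contained in the Frattini subgroup of G. Then the group of inner automorphisms of H is contained in the Frattini subgroup of the automorphism group of H. -/
theorem result {G : Type*} [Group G] [Finite G] (H : Subgroup G) [H.Normal] (hH : H ≤ frattini G) : (MulAut.conj : ↥H →* MulAut ↥H).range ≤ frattini (MulAut ↥H) := by
  classical
  set θ : G →* MulAut H := MulAut.conjNormal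
  have h1 : H.map θ = (MulAut.conj : H →* MulAut H).range := by
    ext σ
    constructor
    · rintro ⟨g, hg, rfl⟩
      exact ⟨⟨g, hg⟩, MulEquiv.ext fun x => Subtype.ext (by simp [θ, MulAut.conjNormal_apply])⟩
    · rintro ⟨g, rfl⟩
      exact ⟨g, g.2, MulEquiv.ext fun x => Subtype.ext (by simp [θ, MulAut.conjNormal_apply])⟩
  have h2 : (frattini G).map θ ≤ (frattini θ.range).map θ.range.subtype := by
    rintro _ ⟨g, hg, rfl⟩
    refine ⟨θ.rangeRestrict g, ?_, rfl⟩
    show θ.rangeRestrict g ∈ frattini θ.range
    simp only [frattini, Order.radical, Subgroup.mem_iInf]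
    intro M hM
    have hs := MonoidHom.rangeRestrict_surjective θ
    have hc : IsCoatom (M.comap θ.rangeRestrict) := by
      refine ⟨fun ht => hM.1 ?_, fun X hX => ?_⟩
      · rw [← Subgroup.map_comap_eq_self_of_surjective hs M, ht, Subgroup.map_top_of_surjective _ hs]
      · have hker : θ.rangeRestrict.ker ≤ X := (Subgroup.ker_le_comap _ _).trans hX.le
        rw [← Subgroup.comap_map_eq_self hker, hM.2 (X.map θ.rangeRestrict) ?_, Subgroup.comap_top]
        rw [← Subgroup.map_comap_eq_self_of_surjective hs M]
        refine lt_of_le_of_ne (Subgroup.map_mono hX.le) fun he => hX.ne ?_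
        have := congrArg (Subgroup.comap θ.rangeRestrict) he
        rwa [Subgroup.comap_map_eq_self hker, Subgroup.comap_map_eq_self (Subgroup.ker_le_comap _ _)] at this
    exact (frattini_le_coatom hc) hg
  have hn : (MulAut.conj : H →* MulAut H).range.Normal := by
    refine ⟨?_⟩
    rintro _ ⟨g, rfl⟩ σ
    exact ⟨σ g, MulEquiv.ext fun x => by simp [MulAut.conj_apply]⟩
  haveI := hn
  refine Cfsg.Lib.Solv.le_frattini_of_le_map_frattini (H := θ.range) ?_
  rw [← h1]
  exact (Subgroup.map_mono hH).trans h2

end Cfsg.Agent.S0576
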