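import Cfsg.Statements.S0577
import Cfsg.Agent.Lib.Solv.Schmidt
import Cfsg.Agent.Lib.Solv.Frattini
import Cfsg.Agent.Lib.PGroup.Basic
open scoped commutatorElement

set_option autoImplicit false
open Cfsg

namespace Cfsg.Agent.S0577

/-- Let G be a finite minimal non-nilpotent group and Q a normal Sylow q-subgroup of G, and let D be the commutator subgroup of Q regarded in G (a normal subgroup). Then G modulo D is non-abelian and all its proper subgroups are abelian. -/
theorem result {G : Type*} [Group G] [Finite G] (hG : Cfsg.IsMinimalNonNilpotent G) (q : ℕ) [Fact q.Prime] (hq : q ∣ Nat.card G) (Q : Sylow q G) (hQ : (Q : Subgroup G).Normal) (D : Subgroup G) [D.Normal] (hD : D = (commutator ↥(Q : Subgroup G)).map (Q : Subgroup G).subtype) : ¬ IsMulCommutative (G ⧸ D) ∧ ∀ K : Subgroup (G ⧸ D), K ≠ ⊤ → IsMulCommutative K := by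
  classical
  subst hD
  set D := (commutator ↥(Q : Subgroup G)).map (Q : Subgroup G).subtype
  haveI := hQ
  obtain ⟨p, q', hp, hq', hpq, P, Q', x, hP, hQ', htop⟩ := Cfsg.Lib.Schmidt.structure_thm hG.1 hG.2
  haveI : Fact p.Prime := ⟨hp⟩
  haveI : Fact q'.Prime := ⟨hq'⟩
  -- only two primes divide the order, and `Q = Q'`
  have hcard : ∀ l : ℕ, l.Prime → l ∣ Nat.card G → l = p ∨ l = q' := by
    intro l hl hd
    have h1 := Cfsg.Lib.Core.card_sup_dvd_mul (P : Subgroup G) (Q' : Subgroup G)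
    rw [htop, Subgroup.card_top, P.card_eq_multiplicity, Q'.card_eq_multiplicity] at h1
    rcases hl.dvd_mul.1 (hd.trans h1) with h | h
    · exact Or.inl ((Nat.prime_dvd_prime_iff_eq hl hp).1 (hl.dvd_of_dvd_pow h))
    · exact Or.inr ((Nat.prime_dvd_prime_iff_eq hl hq').1 (hl.dvd_of_dvd_pow h))
  have hqq : q = q' := by
    rcases hcard q Fact.out hq with rfl | h
    · exfalso
      refine hG.1 (((Group.isNilpotent_of_finite_tfae (G := G)).out 0 3 rfl rfl).mpr fun l hl S => ?_)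
      haveI := Sylow.unique_of_normal Q hQ
      haveI := Sylow.unique_of_normal Q' hQ'
      by_cases hd : l ∣ Nat.card G
      · rcases hcard l hl.out hd with rfl | rfl
        · rw [Subsingleton.elim S Q]; exact hQ
        · rw [Subsingleton.elim S Q']; exact hQ'
      · have : (S : Subgroup G) = ⊥ := by
          rw [← Subgroup.card_eq_one, S.card_eq_multiplicity, Nat.factorization_eq_zero_of_not_dvd hd, pow_zero]
        rw [this]; infer_instance
    · exact h
  subst hqq
  haveI := Sylow.unique_of_normal Q hQ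
  rw [Subsingleton.elim Q' Q] at htop
  have hDQ : D ≤ (Q : Subgroup G) := Subgroup.map_subtype_le _
  have hDfr : D ≤ frattini G :=
    (Subgroup.map_mono (Cfsg.Lib.PGroup.commutator_le_frattini Q.2)).trans (Cfsg.Lib.Solv.frattini_map_le_of_normal _)
  have hPne : (Q : Subgroup G) ≠ ⊤ := fun ht => hG.1
    (Q.2.of_equiv ((MulEquiv.subgroupCongr ht).trans Subgroup.topEquiv)).isNilpotent
  constructor
  · intro hab
    refine hG.1 (Cfsg.Lib.Solv.isNilpotent_of_quotient_frattini ?_)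
    haveI := hab
    haveI : IsMulCommutative (G ⧸ frattini G) := ⟨⟨fun a b => by
      obtain ⟨u, rfl⟩ := QuotientGroup.mk'_surjective _ a
      obtain ⟨v, rfl⟩ := QuotientGroup.mk'_surjective _ b
      rw [← map_mul, ← map_mul, QuotientGroup.mk'_eq_mk']
      obtain ⟨z, hz, hze⟩ := QuotientGroup.mk'_eq_mk' D |>.1
        (show QuotientGroup.mk' D (u * v) = QuotientGroup.mk' D (v * u) by rw [map_mul, map_mul]; exact mul_comm' _ _)
      exact ⟨z, hDfr hz, hze⟩⟩⟩
    exact Cfsg.Lib.Core.isNilpotent_of_isMulCommutative _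
  intro K hK
  set f := QuotientGroup.mk' D
  have hf : Function.Surjective f := QuotientGroup.mk'_surjective D
  set L := K.comap f
  have hL : L ≠ ⊤ := fun ht => hK (by
    rw [← Subgroup.map_comap_eq_self_of_surjective hf K]
    show L.map f = ⊤
    rw [ht, Subgroup.map_top_of_surjective _ hf])
  have hLn := hG.2 L hL
  obtain ⟨S⟩ : Nonempty (Sylow p L) := inferInstance
  set S' := (S : Subgroup L).map L.subtype
  set Q₀ := L ⊓ (Q : Subgroup G)
  have hS'p : IsPGroup p S' := S.2.map _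
  have hgen : S' ⊔ Q₀ = L := by
    refine le_antisymm (sup_le (Subgroup.map_subtype_le _) inf_le_left) ?_
    rw [← Subgroup.subgroupOf_eq_top, ← Subgroup.index_eq_one]
    by_contra hne
    obtain ⟨l, hl, hd⟩ := Nat.exists_prime_and_dvd hne
    have hlG : l ∣ Nat.card G := hd.trans ((Subgroup.index_dvd_card _).trans L.card_subgroup_dvd_card)
    rcases hcard l hl hlG with rfl | rfl
    · refine S.not_dvd_index (hd.trans (Subgroup.index_dvd_of_le fun z hz => Subgroup.mem_sup_left ?_))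
      exact ⟨z, hz, rfl⟩
    · have h1 : ((Q : Subgroup G).subgroupOf L).index ∣ (Q : Subgroup G).index :=
        Subgroup.relIndex_dvd_index_of_normal _ _
      refine Q.not_dvd_index ((hd.trans (Subgroup.index_dvd_of_le fun z hz => Subgroup.mem_sup_right ?_)).trans h1)
      exact ⟨z.2, hz⟩
  have hcS : ∀ a ∈ S', ∀ b ∈ S', a * b = b * a := by
    obtain ⟨T, hT⟩ := hS'p.exists_le_sylow
    obtain ⟨g, hg⟩ := MulAction.exists_smul_eq G P T
    intro a ha b hb
    have hcT : ∀ u ∈ (T : Subgroup G), ∃ i : ℤ, u = (g * x * g⁻¹) ^ i := by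
      intro u hu
      rw [← hg, Sylow.coe_subgroup_smul] at hu
      obtain ⟨w, hw, rfl⟩ := hu
      rw [SetLike.mem_coe, hP] at hw
      obtain ⟨i, rfl⟩ := Subgroup.mem_zpowers_iff.1 hw
      refine ⟨i, ?_⟩
      rw [conj_zpow]; rfl
    obtain ⟨i, rfl⟩ := hcT a (hT ha)
    obtain ⟨j, rfl⟩ := hcT b (hT hb)
    rw [← zpow_add, ← zpow_add, add_comm]
  have hmapc : ∀ a ∈ S', ∀ b ∈ Q₀, a * b = b * a := by
    intro a ha b hb
    exact Cfsg.Lib.Schmidt.commute_of_nilpotent hLn hpq (Subgroup.map_subtype_le _ ha) hb.1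
      (Cfsg.Lib.Schmidt.isPGroup_zpowers_of_mem hS'p ha) (Cfsg.Lib.Schmidt.isPGroup_zpowers_of_mem Q.2 hb.2)
  have hcQ : ∀ a ∈ Q₀, ∀ b ∈ Q₀, f (a * b) = f (b * a) := by
    intro a ha b hb
    rw [QuotientGroup.mk'_eq_mk']
    refine ⟨⁅b⁻¹, a⁻¹⁆, ⟨⁅(⟨b, hb.2⟩ : (Q : Subgroup G))⁻¹, (⟨a, ha.2⟩ : (Q : Subgroup G))⁻¹⁆, ?_, rfl⟩, ?_⟩
    · exact Subgroup.commutator_mem_commutator (Subgroup.mem_top _) (Subgroup.mem_top _)
    · simp only [commutatorElement_def]; group
  have hKc : ⁅K, K⁆ = ⊥ := by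
    rw [← Subgroup.map_comap_eq_self_of_surjective hf K]
    show ⁅L.map f, L.map f⁆ = ⊥
    rw [← hgen, Subgroup.map_sup]
    have e : ∀ {X Y : Subgroup G}, (∀ a ∈ X, ∀ b ∈ Y, f (a * b) = f (b * a)) → ⁅X.map f, Y.map f⁆ = ⊥ := by
      intro X Y h
      rw [Cfsg.Lib.Core.commutator_eq_bot_iff_forall]
      rintro _ ⟨a, ha, rfl⟩ _ ⟨b, hb, rfl⟩
      rw [← map_mul, ← map_mul, h a ha b hb]
    refine Cfsg.Lib.Core.commutator_sup_left_eq_bot ?_ ?_
    · rw [Subgroup.commutator_comm]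
      exact Cfsg.Lib.Core.commutator_sup_left_eq_bot (e fun a ha b hb => by rw [hcS a ha b hb])
        (e fun a ha b hb => by rw [hmapc b hb a ha])
    · rw [Subgroup.commutator_comm]
      exact Cfsg.Lib.Core.commutator_sup_left_eq_bot (e fun a ha b hb => by rw [hmapc a ha b hb]) (e hcQ)
  rw [Cfsg.Lib.Core.commutator_eq_bot_iff_forall] at hKc
  exact ⟨⟨fun a b => Subtype.ext (hKc a a.2 b b.2)⟩⟩

end Cfsg.Agent.S0577
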