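import Cfsg.Statements.S0582
import Cfsg.Agent.Lib.Solv.Supersolvable
import Cfsg.Agent.Lib.Solv.Huppert
import Cfsg.Agent.Lib.Core.Smul

set_option autoImplicit false
open Pointwise
open Cfsg

namespace Cfsg.Agent.S0582

universe u

theorem normalized {G : Type u} [Group G] [Finite G] {p : ℕ} [Fact p.Prime] (H : Subgroup G)
    (hH : Cfsg.IsSupersolvable H) (hmax : ∀ q : ℕ, q.Prime → q ∣ Nat.card H → q ≤ p) (hpd : p ∣ Nat.card H)
    (hHall : (Nat.card H).Coprime H.index) :
    ∃ P : Sylow p G, (P : Subgroup G) ≤ H ∧ H ≤ Subgroup.normalizer ((P : Subgroup G) : Set G) := by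
  let P₀ : Sylow p H := default
  have hn := Cfsg.Lib.Huppert.sylow_normal (Cfsg.Lib.Supersolvable.maximal_index_prime hH) hmax P₀
  have hidx : ¬ p ∣ ((P₀ : Subgroup H).map H.subtype).index := by
    rw [Subgroup.index_map_subtype]
    intro hd
    rcases (Fact.out : p.Prime).dvd_mul.1 hd with h | h
    · exact P₀.not_dvd_index h
    · exact (Fact.out : p.Prime).ne_one (Nat.eq_one_of_dvd_coprimes hHall hpd h)
  refine ⟨(P₀.2.map H.subtype).toSylow hidx, Subgroup.map_subtype_le _, ?_⟩
  refine Cfsg.Lib.Core.le_normalizer_iff_conj_mem.2 ?_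
  rintro a ha _ ⟨z, hz, rfl⟩
  exact ⟨(⟨a, ha⟩ : H) * z * (⟨a, ha⟩ : H)⁻¹, hn.conj_mem z hz _, rfl⟩

theorem aux : ∀ (n : ℕ) (G : Type u) [Group G] [Finite G], Nat.card G ≤ n → ∀ H K : Subgroup G,
    Cfsg.IsSupersolvable H → Cfsg.IsSupersolvable K → Nat.card H = Nat.card K →
    (Nat.card H).Coprime H.index → ∃ x : G, MulAut.conj x • H = K := by
  intro n
  induction n with
  | zero => intro G _ _ h; exact absurd h (Nat.not_le.2 Nat.card_pos)
  | succ n ih =>
    intro G _ _ hn H K hH hK hcard hHall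
    by_cases hb : H = ⊥
    · refine ⟨1, ?_⟩
      have hKb : K = ⊥ := Subgroup.card_eq_one.1 (by rw [← hcard, hb, Subgroup.card_bot])
      rw [map_one, one_smul, hb, hKb]
    haveI : Nontrivial H := (Subgroup.nontrivial_iff_ne_bot H).2 hb
    obtain ⟨p, hp, hpd, hmax⟩ := Cfsg.Lib.Huppert.exists_max_prime (G := H)
    haveI : Fact p.Prime := ⟨hp⟩
    have hKi : K.index = H.index := by
      have e1 := K.card_mul_index
      have e2 := H.card_mul_index
      rw [← hcard, ← e2] at e1
      exact Nat.eq_of_mul_eq_mul_left Nat.card_pos e1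
    obtain ⟨P, hPH, hHN⟩ := normalized H hH hmax hpd hHall
    obtain ⟨Q, hQK, hKN⟩ := normalized K hK (by rw [← hcard]; exact hmax) (hcard ▸ hpd)
      (by rw [← hcard, hKi]; exact hHall)
    obtain ⟨g, hg⟩ := MulAction.exists_smul_eq G Q P
    set K' := K.map (MulAut.conj g).toMonoidHom
    have hPK' : (P : Subgroup G) ≤ K' := by
      rw [← hg, Sylow.coe_subgroup_smul]
      rintro _ ⟨z, hz, rfl⟩
      exact ⟨z, hQK hz, rfl⟩
    set N := Subgroup.normalizer ((P : Subgroup G) : Set G)
    have hK'N : K' ≤ N := by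
      rintro _ ⟨z, hz, rfl⟩
      have h1 := Subgroup.le_normalizer_map (MulAut.conj g).toMonoidHom ⟨z, hKN hz, rfl⟩
      have h2 : (P : Subgroup G) = (Q : Subgroup G).map (MulAut.conj g).toMonoidHom := by
        rw [← hg, Sylow.coe_subgroup_smul]; rfl
      show _ ∈ Subgroup.normalizer ((P : Subgroup G) : Set G)
      rw [h2]; exact h1
    have hK'c : Nat.card K' = Nat.card H := by
      rw [hcard]; exact (Nat.card_congr (K.equivMapOfInjective _ (MulAut.conj g).injective).toEquiv).symm
    set P₁ := (P : Subgroup G).subgroupOf N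
    haveI : P₁.Normal := Subgroup.normal_in_normalizer
    have hP₁ : P₁ ≠ ⊥ := fun h => P.ne_bot_of_dvd_card (hpd.trans (Subgroup.card_subgroup_dvd_card H)) (by
      have := congrArg (Subgroup.map N.subtype) h
      rwa [Subgroup.map_subgroupOf_eq_of_le Subgroup.le_normalizer, Subgroup.map_bot] at this)
    set f := QuotientGroup.mk' P₁
    have hcardq : Nat.card (N ⧸ P₁) ≤ n := by
      have h1 := Cfsg.Lib.Core.card_quotient_lt hP₁
      have h2 := N.card_le_card_group
      omega
    have himg : ∀ X : Subgroup G, (P : Subgroup G) ≤ X → X ≤ N →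
        P₁ ≤ X.subgroupOf N ∧ ((X.subgroupOf N).map f).comap f = X.subgroupOf N := by
      intro X hPX hXN
      have h1 : P₁ ≤ X.subgroupOf N := Subgroup.comap_mono hPX
      refine ⟨h1, ?_⟩
      rw [Subgroup.comap_map_eq, QuotientGroup.ker_mk', sup_eq_left.2 h1]
    have hsc : Nat.card (H.subgroupOf N) = Nat.card H := Nat.card_congr (Subgroup.subgroupOfEquivOfLe hHN).toEquiv
    have hsc' : Nat.card (K'.subgroupOf N) = Nat.card K' := Nat.card_congr (Subgroup.subgroupOfEquivOfLe hK'N).toEquiv
    have hK's : Cfsg.IsSupersolvable K' :=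
      Cfsg.Lib.Supersolvable.of_mulEquiv hK (K.equivMapOfInjective _ (MulAut.conj g).injective)
    have hcardimg : ∀ X : Subgroup N, P₁ ≤ X → Nat.card (X.map f) * Nat.card P₁ = Nat.card X := by
      intro X hX
      have h1 := Subgroup.card_mul_index X
      have h2 := (X.map f).card_mul_index
      rw [Subgroup.index_map_eq X (QuotientGroup.mk'_surjective P₁) (by rwa [QuotientGroup.ker_mk'])] at h2
      have h3 := P₁.card_eq_card_quotient_mul_card_subgroup
      refine Nat.eq_of_mul_eq_mul_right (Nat.pos_of_ne_zero (Subgroup.index_ne_zero_of_finite (H := X))) ?_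
      rw [h1, h3, ← h2]; ring
    obtain ⟨z, hz⟩ := ih (N ⧸ P₁) hcardq ((H.subgroupOf N).map f) ((K'.subgroupOf N).map f)
      (Cfsg.Lib.Supersolvable.of_surjective (Cfsg.Lib.Supersolvable.of_mulEquiv hH (Subgroup.subgroupOfEquivOfLe hHN).symm)
        (f.subgroupMap _) (f.subgroupMap_surjective _))
      (Cfsg.Lib.Supersolvable.of_surjective (Cfsg.Lib.Supersolvable.of_mulEquiv hK's (Subgroup.subgroupOfEquivOfLe hK'N).symm)
        (f.subgroupMap _) (f.subgroupMap_surjective _))
      (by
        refine Nat.eq_of_mul_eq_mul_right (Nat.card_pos (α := P₁)) ?_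
        rw [hcardimg _ (himg H hPH hHN).1, hcardimg _ (himg K' hPK' hK'N).1, hsc, hsc', hK'c])
      (by
        rw [Subgroup.index_map_eq _ (QuotientGroup.mk'_surjective P₁) (by rw [QuotientGroup.ker_mk']; exact (himg H hPH hHN).1)]
        refine (hHall.coprime_dvd_right (Subgroup.relIndex_dvd_index_of_le hHN)).coprime_dvd_left ?_
        rw [← hsc, ← hcardimg _ (himg H hPH hHN).1]
        exact dvd_mul_right _ _)
    obtain ⟨x, rfl⟩ := QuotientGroup.mk'_surjective P₁ z
    refine ⟨g⁻¹ * (x : G), ?_⟩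
    have hxe : (H.subgroupOf N).map (MulAut.conj x).toMonoidHom = K'.subgroupOf N := by
      have hsup : P₁ ≤ (H.subgroupOf N).map (MulAut.conj x).toMonoidHom := fun w hw =>
        ⟨x⁻¹ * w * x⁻¹⁻¹, (himg H hPH hHN).1 (‹P₁.Normal›.conj_mem w hw _), by simp [mul_assoc]⟩
      rw [← (himg K' hPK' hK'N).2, ← hz, Cfsg.Lib.Core.conj_smul_eq_map, Subgroup.map_map,
        show (MulAut.conj (f x)).toMonoidHom.comp f = f.comp (MulAut.conj x).toMonoidHom from
          MonoidHom.ext fun w => by simp, ← Subgroup.map_map, Subgroup.comap_map_eq,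
        QuotientGroup.ker_mk', sup_eq_left.2 hsup]
    have hxe' : H.map (MulAut.conj (x : G)).toMonoidHom = K' := by
      have h1 := congrArg (Subgroup.map N.subtype) hxe
      rw [Subgroup.map_subgroupOf_eq_of_le hK'N, Subgroup.map_map,
        show N.subtype.comp (MulAut.conj x).toMonoidHom = (MulAut.conj (x : G)).toMonoidHom.comp N.subtype from
          MonoidHom.ext fun _ => rfl, ← Subgroup.map_map, Subgroup.map_subgroupOf_eq_of_le hHN] at h1
      exact h1
    rw [map_mul, mul_smul, Cfsg.Lib.Core.conj_smul_eq_map _ (x : G), hxe',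
      show K' = MulAut.conj g • K from (Cfsg.Lib.Core.conj_smul_eq_map K g).symm, map_inv, inv_smul_smul]


/-- Let H and K be supersolvable subgroups of a finite group G of the same order, that order being coprime to their index. Then H and K are conjugate in G. -/
theorem result {G : Type*} [Group G] [Finite G] (H K : Subgroup G) (hH : Cfsg.IsSupersolvable H) (hK : Cfsg.IsSupersolvable K) (hcard : Nat.card H = Nat.card K) (hHall : (Nat.card H).Coprime H.index) : ∃ x : G, MulAut.conj x • H = K := by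
  exact aux _ G le_rfl H K hH hK hcard hHall

end Cfsg.Agent.S0582
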