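import Cfsg.Statements.S0583
import Cfsg.Agent.Lib.Core.Fitting

set_option autoImplicit false
open Cfsg

namespace Cfsg.Agent.S0583

/-- In a finite group the Fitting subgroup is contained in the centralizer of each minimal normal subgroup. -/
theorem result {G : Type*} [Group G] [Finite G] (M : Subgroup G) [M.Normal] (hM : M ≠ ⊥) (hmin : ∀ K : Subgroup G, K.Normal → K ≤ M → K = ⊥ ∨ K = M) : Cfsg.fittingSubgroup G ≤ Subgroup.centralizer (M : Set G) := by
  rw [← Subgroup.commutator_eq_bot_iff_le_centralizer]
  have hF := Cfsg.Lib.Core.fittingSubgroup_normal' G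
  rcases hmin ⁅Cfsg.fittingSubgroup G, M⁆ inferInstance (Subgroup.commutator_le_right _ _) with h | h
  · exact h
  exfalso
  have hMF : M ≤ Cfsg.fittingSubgroup G := h ▸ Subgroup.commutator_le_left _ _
  obtain ⟨n, hn⟩ : ∃ n, (Cfsg.fittingSubgroup G).lowerCentralSeries n = ⊥ := by
    have := Cfsg.Lib.Core.fittingSubgroup_isNilpotent G
    exact (Subgroup.isNilpotent_iff_lowerCentralSeries _).1 this
  have key : ∀ k, M ≤ (Cfsg.fittingSubgroup G).lowerCentralSeries k := by
    intro k
    induction k with
    | zero => simpa using hMF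
    | succ k ih =>
      rw [Subgroup.lowerCentralSeries_succ]
      calc M = ⁅M, Cfsg.fittingSubgroup G⁆ := by rw [Subgroup.commutator_comm, h]
        _ ≤ _ := Subgroup.commutator_mono ih le_rfl
  exact hM (le_bot_iff.1 (hn ▸ key n))

end Cfsg.Agent.S0583
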