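import Cfsg.Statements.S0584
import Cfsg.Agent.Lib.Solv.Frattini

set_option autoImplicit false
open Cfsg

namespace Cfsg.Agent.S0584

/-- Let B ≤ A be normal subgroups of a finite group G with B contained in the Frattini subgroup of G. If A modulo B is nilpotent then A is nilpotent. -/
theorem result {G : Type*} [Group G] [Finite G] (A B : Subgroup G) [A.Normal] [B.Normal] (hBA : B ≤ A) (hB : B ≤ frattini G) (h : Group.IsNilpotent (↥A ⧸ B.subgroupOf A)) : Group.IsNilpotent A := by
  have h1 : Group.IsNilpotent (A.map (QuotientGroup.mk' B)) := by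
    have hker : ((QuotientGroup.mk' B).subgroupMap A).ker = B.subgroupOf A := by
      ext x
      simp [MonoidHom.mem_ker, Subtype.ext_iff, Subgroup.mem_subgroupOf]
    have e := ((QuotientGroup.quotientMulEquivOfEq hker.symm).trans
      (QuotientGroup.quotientKerEquivOfSurjective _ ((QuotientGroup.mk' B).subgroupMap_surjective A)))
    exact Group.nilpotent_of_surjective (h := h) e.toMonoidHom e.surjective
  exact Cfsg.Lib.Solv.isNilpotent_of_map_of_le_frattini _ (QuotientGroup.mk'_surjective B) (by rwa [QuotientGroup.ker_mk']) A h1

end Cfsg.Agent.S0584
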