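import Cfsg.Statements.S0586
import Cfsg.Agent.Lib.Solv.Frattini
import Cfsg.Agent.Lib.Core.PSolvable
import Cfsg.Agent.Lib.Core.Fitting

set_option autoImplicit false
open Cfsg

namespace Cfsg.Agent.S0586

/-- If the Frattini subgroup of a finite group G is trivial, then the Fitting subgroup of G equals the join of all abelian minimal normal subgroups of G. -/
theorem result {G : Type*} [Group G] [Finite G] (hΦ : frattini G = ⊥) : Cfsg.fittingSubgroup G = sSup {N : Subgroup G | N.Normal ∧ N ≠ ⊥ ∧ IsMulCommutative N ∧ ∀ K : Subgroup G, K.Normal → K ≤ N → K = ⊥ ∨ K = N} := by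
  classical
  set F := Cfsg.fittingSubgroup G
  haveI hFn : F.Normal := Cfsg.Lib.Core.fittingSubgroup_normal' G
  have hnil : Group.IsNilpotent F := Cfsg.Lib.Core.fittingSubgroup_isNilpotent G
  have hc : commutator F ≤ frattini F := by
    refine le_iInf₂ fun M hM => ?_
    haveI : M.Normal := (((Group.isNilpotent_of_finite_tfae (G := F)).out 0 2 rfl rfl).mp hnil) M hM
    obtain ⟨x, -, hx⟩ := SetLike.exists_of_lt (show M < ⊤ from hM.1.lt_top)
    exact Subgroup.Normal.commutator_le_of_self_sup_commutative_eq_top (H := Subgroup.zpowers x)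
      (hM.2 _ (left_lt_sup.2 fun h => hx (h (Subgroup.mem_zpowers x)))) inferInstance
  have hcomm : ∀ a ∈ F, ∀ b ∈ F, a * b = b * a := by
    have h1 : commutator F = ⊥ := by
      refine le_bot_iff.1 (hc.trans ?_)
      rw [← Subgroup.map_le_map_iff_of_injective F.subtype_injective, Subgroup.map_bot, ← hΦ]
      exact Cfsg.Lib.Solv.frattini_map_le_of_normal F
    intro a ha b hb
    have := (commutator_eq_bot_iff (G := F)).1 h1
    exact congrArg Subtype.val (this.is_comm.comm (⟨a, ha⟩ : F) ⟨b, hb⟩)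
  set S := {N : Subgroup G | N.Normal ∧ N ≠ ⊥ ∧ IsMulCommutative N ∧
    ∀ K : Subgroup G, K.Normal → K ≤ N → K = ⊥ ∨ K = N}
  set A := sSup S
  have hAF : A ≤ F := sSup_le fun N hN => Cfsg.Lib.Core.le_fittingSubgroup' hN.1
    (haveI := hN.2.2.1; Cfsg.Lib.Core.isNilpotent_of_isMulCommutative N)
  haveI hAc : IsMulCommutative A := ⟨⟨fun a b => Subtype.ext (hcomm a (hAF a.2) b (hAF b.2))⟩⟩
  haveI hAn : A.Normal := Subgroup.normalizer_eq_top_iff.1 (eq_top_iff.2 fun g _ => by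
    rw [Cfsg.Lib.Core.mem_normalizer_iff_map_conj]
    show (sSup S).map _ = sSup S
    rw [sSup_eq_iSup, Subgroup.map_iSup]
    refine iSup_congr fun N => ?_
    rw [Subgroup.map_iSup]
    refine iSup_congr fun hN => ?_
    haveI := hN.1
    exact Cfsg.Lib.Core.map_conj_eq_of_mem_normalizer (by rw [Subgroup.normalizer_eq_top]; exact Subgroup.mem_top g))
  obtain ⟨H, hH⟩ := Cfsg.Lib.Solv.exists_complement_of_abelian A (by rw [hΦ, inf_bot_eq])
  refine le_antisymm (fun f hf => ?_) hAF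
  by_contra hfA
  have hXn : (F ⊓ H).Normal := by
    rw [← Subgroup.normalizer_eq_top_iff, eq_top_iff, ← hH.sup_eq_top]
    refine sup_le ?_ (Cfsg.Lib.Core.le_normalizer_iff_conj_mem.2 fun h hh x hx =>
        ⟨hFn.conj_mem x hx.1 h, mul_mem (mul_mem hh hx.2) (H.inv_mem hh)⟩)
    refine le_trans (fun a ha => ?_) (Subgroup.centralizer_le_normalizer _)
    exact Subgroup.mem_centralizer_iff.2 fun x hx => hcomm x hx.1 a (hAF ha)
  obtain ⟨a, ha, h, hh, rfl⟩ : ∃ a ∈ A, ∃ h ∈ H, a * h = f :=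
    Subgroup.mem_sup_of_normal_left.1 (hH.sup_eq_top ▸ Subgroup.mem_top f)
  have hne : F ⊓ H ≠ ⊥ := fun hb => hfA (by
    have : h ∈ F ⊓ H := ⟨by simpa using mul_mem (F.inv_mem (hAF ha)) hf, hh⟩
    rw [hb, Subgroup.mem_bot] at this
    rw [this, mul_one]; exact ha)
  obtain ⟨K, hK, hKX⟩ := Cfsg.Lib.Core.exists_isMinNormal hXn hne
  have hKA : K ≤ A := le_sSup ⟨hK.1, hK.2.1,
    ⟨⟨fun x y => Subtype.ext (hcomm x (hKX x.2).1 y (hKX y.2).1)⟩⟩, hK.2.2⟩
  exact hK.2.1 (le_bot_iff.1 (le_trans (le_inf hKA (hKX.trans inf_le_right)) hH.disjoint.le_bot))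

end Cfsg.Agent.S0586
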