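import Cfsg.Statements.S0587
import Cfsg.Agent.Lib.Solv.Primitive
import Cfsg.Agent.Lib.Solv.FixedPointFree

set_option autoImplicit false
open Cfsg

namespace Cfsg.Agent.S0587

/-- Let G be a finite group whose largest normal p-subgroup L is nontrivial, and M a maximal subgroup of G with trivial normal core. Then L is elementary abelian, M is a complement to L, L is a minimal normal subgroup of G, the centralizer of L is L, and for every prime q such that the largest normal q-subgroup of M is nontrivial, the order of L is congruent to 1 modulo q and q ≠ p. -/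
theorem result {G : Type*} [Group G] [Finite G] (p : ℕ) [Fact p.Prime] (hL : Cfsg.pCore p G ≠ ⊥) (M : Subgroup G) (hM : IsCoatom M) (hcore : M.normalCore = ⊥) : Cfsg.IsElementaryAbelian p (Cfsg.pCore p G) ∧ Subgroup.IsComplement' (Cfsg.pCore p G) M ∧ (∀ K : Subgroup G, K.Normal → K ≤ Cfsg.pCore p G → K = ⊥ ∨ K = Cfsg.pCore p G) ∧ Subgroup.centralizer ((Cfsg.pCore p G : Subgroup G) : Set G) = Cfsg.pCore p G ∧ ∀ (q : ℕ) [Fact q.Prime], Cfsg.pCore q ↥M ≠ ⊥ → Nat.card (Cfsg.pCore p G) % q = 1 % q ∧ q ≠ p := by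
  classical
  set L := Cfsg.pCore p G
  have hLpg : IsPGroup p L := Cfsg.Lib.Core.pCore_isPGroup p G
  obtain ⟨M₀, hM₀, hM₀L⟩ := Cfsg.Lib.Core.exists_isMinNormal (N := L) inferInstance hL
  have hM₀n := hM₀.1
  have hM₀sol : Group.IsSolvable M₀ := by
    have : Group.IsNilpotent M₀ := (hLpg.to_le hM₀L).isNilpotent
    infer_instance
  obtain ⟨hab, r, hr, hexp, hrpg⟩ := Cfsg.Lib.Core.minimal_solvable_elementary hM₀ hM₀sol
  have hrp : r = p := by
    obtain ⟨x, hx, hx1⟩ := M₀.bot_or_exists_ne_one.resolve_left hM₀.2.1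
    have h1 : orderOf x = r := have := Fact.mk hr; orderOf_eq_prime (hexp x hx) hx1
    obtain ⟨k, hk⟩ := hLpg ⟨x, hM₀L hx⟩
    have hk' : x ^ p ^ k = 1 := congrArg Subtype.val hk
    exact (Nat.prime_dvd_prime_iff_eq hr Fact.out).1 (hr.dvd_of_dvd_pow (h1 ▸ orderOf_dvd_of_pow_eq_one hk'))
  subst hrp
  have hMC : M₀ = Subgroup.centralizer (M₀ : Set G) :=
    Cfsg.Lib.Solv.eq_centralizer_of_normal_le hM hcore hM₀.2.1 hM₀n hM₀.2.1 (Subgroup.le_centralizer M₀)
  have hLle : L ≤ M₀ := by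
    rw [hMC, Subgroup.le_centralizer_iff]
    have hnt : Nontrivial L := (Subgroup.nontrivial_iff_ne_bot L).2 hL
    have hcl : ((Subgroup.center L).map L.subtype).Normal := Cfsg.Lib.Core.normal_map_char_of_normal _
    rcases hM₀.inf_eq_bot_or_le ((Subgroup.center L).map L.subtype) with h | h
    · exfalso
      have hN : M₀.subgroupOf L ≠ ⊥ := by
        rw [Ne, Subgroup.subgroupOf_eq_bot, disjoint_iff, inf_of_le_left hM₀L]; exact hM₀.2.1
      have : Group.IsNilpotent L := hLpg.isNilpotent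
      refine hN (eq_bot_iff.2 ?_)
      by_contra hne
      have hne' : M₀.subgroupOf L ⊓ Subgroup.center L ≠ ⊥ := by
        intro hbot
        have hZ : ∀ k, M₀.subgroupOf L ⊓ Subgroup.upperCentralSeries L k = ⊥ := by
          intro k
          induction k with
          | zero => simp
          | succ k ih =>
            refine eq_bot_iff.2 fun x hx => ?_
            rw [← hbot]
            refine ⟨hx.1, Subgroup.mem_center_iff.2 fun g => ?_⟩
            have h2 : x * g * x⁻¹ * g⁻¹ ∈ M₀.subgroupOf L := by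
              have := Subgroup.mul_mem _ hx.1 ((inferInstance : (M₀.subgroupOf L).Normal).conj_mem _ (Subgroup.inv_mem _ hx.1) g)
              simpa [mul_assoc] using this
            have h3 := ih ▸ (show x * g * x⁻¹ * g⁻¹ ∈ M₀.subgroupOf L ⊓ Subgroup.upperCentralSeries L k from
              ⟨h2, Subgroup.mem_upperCentralSeries_succ_iff.1 hx.2 g⟩)
            rw [Subgroup.mem_bot, mul_inv_eq_one, mul_inv_eq_iff_eq_mul] at h3
            exact h3.symm
        obtain ⟨n, hn⟩ := (inferInstance : Group.IsNilpotent L).nilpotent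
        exact hN (by simpa [hn] using hZ n)
      apply hne'
      refine eq_bot_iff.2 fun x hx => ?_
      have : (x : G) ∈ M₀ ⊓ (Subgroup.center L).map L.subtype := ⟨hx.1, Subgroup.mem_map_of_mem _ hx.2⟩
      rw [h, Subgroup.mem_bot] at this
      exact Subgroup.mem_bot.2 (Subtype.ext this)
    · refine h.trans ?_
      rintro _ ⟨z, hz, rfl⟩
      exact Subgroup.mem_centralizer_iff.2 fun y hy => congrArg Subtype.val (Subgroup.mem_center_iff.1 hz ⟨y, hy⟩)
  have hLM : L = M₀ := le_antisymm hLle hM₀L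
  rw [hLM]
  have hdisj : Disjoint M₀ M := by
    rw [disjoint_iff, hMC]; exact Cfsg.Lib.Solv.centralizer_inf_eq_bot hM hcore hM₀.2.1
  have htop : M₀ ⊔ M = ⊤ := Cfsg.Lib.Solv.sup_eq_top_of_corefree hM hcore hM₀.2.1
  refine ⟨⟨hab, hexp⟩, Subgroup.isComplement'_of_disjoint_and_mul_eq_univ hdisj (by rw [← Subgroup.normal_mul, htop, Subgroup.coe_top]), hM₀.2.2, hMC.symm, ?_⟩
  intro q hq hQ
  set Q := (Cfsg.pCore q M).map M.subtype with hQdef
  have hQM : Q ≤ M := Subgroup.map_subtype_le _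
  have hQne : Q ≠ ⊥ := by rwa [hQdef, Ne, Subgroup.map_eq_bot_iff_of_injective _ M.subtype_injective]
  have hQpg : IsPGroup q Q := (Cfsg.Lib.Core.pCore_isPGroup q M).map _
  have hMQ : M ≤ Subgroup.normalizer (Q : Set G) :=
    Subgroup.le_normalizer.trans (Cfsg.Lib.Core.normalizer_le_normalizer_map_char (Cfsg.pCore q M))
  have hQN : Q ≤ Subgroup.normalizer (M₀ : Set G) := by
    rw [Subgroup.normalizer_eq_top (H := M₀)]; exact le_top
  have hqp : q ≠ r := by
    rintro rfl
    have hn : (M₀ ⊔ Q).Normal := by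
      rw [← Subgroup.normalizer_eq_top_iff, eq_top_iff, ← htop]
      refine sup_le (le_sup_left.trans Subgroup.le_normalizer) ?_
      intro m hm
      rw [Cfsg.Lib.Core.mem_normalizer_iff_map_conj, Subgroup.map_sup]
      rw [Cfsg.Lib.Core.map_conj_eq_of_mem_normalizer (hMQ hm),
        Cfsg.Lib.Core.map_conj_eq_of_mem_normalizer (by rw [Subgroup.normalizer_eq_top (H := M₀)]; trivial)]
    have hpg : IsPGroup q (M₀ ⊔ Q : Subgroup G) := IsPGroup.to_sup_of_normal_left (hLM ▸ hLpg) hQpg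
    have := Cfsg.Lib.Core.le_pCore' hn hpg
    exact hQne (eq_bot_iff.2 fun x hx => hdisj.le_bot ⟨hLle (this (Subgroup.mem_sup_right hx)), hQM hx⟩)
  refine ⟨?_, hqp⟩
  have hCn : (M₀ ⊓ Subgroup.centralizer (Q : Set G)).Normal := by
    rw [← Subgroup.normalizer_eq_top_iff, eq_top_iff, ← htop]
    refine sup_le ?_ ?_
    · intro m hm
      refine Subgroup.centralizer_le_normalizer _ (Subgroup.mem_centralizer_iff.2 fun x hx => ?_)
      exact congrArg Subtype.val (mul_comm' (⟨x, hx.1⟩ : M₀) ⟨m, hm⟩)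
    · intro m hm
      refine Subgroup.inf_normalizer_le_normalizer_inf ⟨by rw [Subgroup.normalizer_eq_top (H := M₀)]; trivial, ?_⟩
      exact (Subgroup.normal_subgroupOf_iff_le_normalizer (Subgroup.centralizer_le_normalizer _)).1 inferInstance (hMQ hm)
  have hF : M₀ ⊓ Subgroup.centralizer (Q : Set G) = ⊥ := by
    rcases hM₀.2.2 (M₀ ⊓ Subgroup.centralizer (Q : Set G)) hCn inf_le_left with h | h
    · exact h
    · exfalso
      refine hQne (eq_bot_iff.2 fun x hx => ?_)
      have hxC : x ∈ Subgroup.centralizer (M₀ : Set G) := Subgroup.le_centralizer_iff.1 (inf_eq_left.1 h) hx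
      exact (Cfsg.Lib.Solv.centralizer_inf_eq_bot hM hcore hM₀.2.1).le ⟨hxC, hQM hx⟩
  let φ := Cfsg.Lib.Solv.conjAut hQN
  letI : MulAction Q M₀ := MulAction.compHom M₀ φ
  have hfix : Nat.card (MulAction.fixedPoints Q M₀) = 1 := by
    rw [Nat.card_eq_one_iff_unique]
    refine ⟨⟨fun x y => ?_⟩, ⟨⟨1, fun c => map_one (φ c)⟩⟩⟩
    have h1 : ∀ v : MulAction.fixedPoints Q M₀, (v.1 : G) = 1 := by
      intro v
      rw [← Subgroup.mem_bot, ← hF]
      refine ⟨v.1.2, Subgroup.mem_centralizer_iff.2 fun c hc => ?_⟩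
      have hv : φ ⟨c, hc⟩ v.1 = v.1 := v.2 ⟨c, hc⟩
      exact mul_inv_eq_iff_eq_mul.1 (congrArg Subtype.val hv)
    exact Subtype.ext (Subtype.ext ((h1 x).trans (h1 y).symm))
  have := hQpg.card_modEq_card_fixedPoints M₀
  rwa [hfix] at this

end Cfsg.Agent.S0587
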