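import Cfsg.Statements.S0590
import Cfsg.Agent.Lib.Coprime.Action

set_option autoImplicit false
set_option linter.style.haveILetI false
open Cfsg

namespace Cfsg.Agent.S0590

open scoped commutatorElement

theorem pow_conj {G : Type*} [Group G] (V : Subgroup G) (a v : G)
    (hc : Commute a ⁅a, v⁆) (n : ℕ) : a ^ n * v * (a ^ n)⁻¹ = ⁅a, v⁆ ^ n * v := by
  induction n with
  | zero => simp
  | succ n ih =>
    calc a ^ (n + 1) * v * (a ^ (n + 1))⁻¹ = a * (a ^ n * v * (a ^ n)⁻¹) * a⁻¹ := by rw [pow_succ']; group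
      _ = a * ⁅a, v⁆ ^ n * (v * a⁻¹) := by rw [ih]; group
      _ = ⁅a, v⁆ ^ n * a * (v * a⁻¹) := by rw [(hc.pow_right n).eq]
      _ = ⁅a, v⁆ ^ n * ((a * v * a⁻¹ * v⁻¹) * v) := by group
      _ = _ := by rw [← commutatorElement_def, ← mul_assoc, ← pow_succ]

/-- Quadratic action on an elementary abelian p-group forces the acting group modulo the kernel of the action to be elementary abelian. -/
theorem result {G : Type*} [Group G] [Finite G] {p : ℕ} [Fact p.Prime] (V H : Subgroup G) (hV : Cfsg.IsElementaryAbelian p V) (hHV : H ≤ Subgroup.normalizer (V : Set G)) (hq : ⁅⁅V, H⁆, H⁆ = ⊥) : ⁅H, H⁆ ≤ Subgroup.centralizer (V : Set G) ∧ ∀ a ∈ H, a ^ p ∈ Subgroup.centralizer (V : Set G) := by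
  obtain ⟨hVc, hVp⟩ := hV
  have hq' : ⁅⁅H, V⁆, H⁆ = ⊥ := by rwa [Subgroup.commutator_comm H V]
  have hle : ⁅V, H⁆ ≤ V := Cfsg.Lib.Coprime.commutator_le_of_le_normalizer hHV
  refine ⟨?_, fun a ha => Subgroup.mem_centralizer_iff.mpr fun v hv => ?_⟩
  · exact Subgroup.commutator_eq_bot_iff_le_centralizer.mp
      (Subgroup.commutator_commutator_eq_bot_of_rotate hq' hq)
  · have hw : ⁅a, v⁆ ∈ ⁅V, H⁆ := Subgroup.commutator_comm H V ▸ Subgroup.commutator_mem_commutator ha hv
    have h1 : Commute a ⁅a, v⁆ := by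
      have := Subgroup.commutator_eq_bot_iff_le_centralizer.mp hq hw
      exact Subgroup.mem_centralizer_iff.mp this a ha
    have h2 := pow_conj V a v h1 p
    rw [hVp _ (hle hw), one_mul, mul_inv_eq_iff_eq_mul] at h2
    exact h2.symm

end Cfsg.Agent.S0590
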