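import Cfsg.Statements.S0591

set_option autoImplicit false
set_option linter.style.haveILetI false
open Cfsg

namespace Cfsg.Agent.S0591

open scoped commutatorElement

/-- For a quadratically acting element a on an elementary abelian p-group V, the fixed points C_V(a) have order at least the square root of the order of V. -/
theorem result {G : Type*} [Group G] [Finite G] {p : ℕ} [Fact p.Prime] (V : Subgroup G) (hV : Cfsg.IsElementaryAbelian p V) (a : G) (ha : a ∈ Subgroup.normalizer (V : Set G)) (hq : ⁅⁅V, Subgroup.zpowers a⁆, Subgroup.zpowers a⁆ = ⊥) : Nat.card V ≤ Nat.card ↥(V ⊓ Subgroup.centralizer (Subgroup.zpowers a : Set G)) ^ 2 := by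
  classical
  have hVc := hV.1
  have hconj : ∀ v ∈ V, a * v * a⁻¹ ∈ V := fun v hv => (Subgroup.mem_normalizer_iff.mp ha v).mp hv
  have hcm : ∀ x ∈ V, ∀ y ∈ V, x * y = y * x := fun x hx y hy =>
    congrArg Subtype.val (hVc.is_comm.comm ⟨x, hx⟩ ⟨y, hy⟩)
  let f : V →* V := MonoidHom.mk' (fun v => ⟨⁅a, (v : G)⁆, by
      rw [commutatorElement_def]; exact V.mul_mem (hconj v v.2) (V.inv_mem v.2)⟩) (fun u v => by
    apply Subtype.ext
    show ⁅a, (u : G) * v⁆ = ⁅a, (u : G)⁆ * ⁅a, (v : G)⁆
    rw [commutatorElement_mul_right_eq_mul_conj, mul_assoc ⁅a, (u : G)⁆, mul_assoc ⁅a, (u : G)⁆,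
      hcm _ u.2 ⁅a, (v : G)⁆ (by rw [commutatorElement_def]; exact V.mul_mem (hconj v v.2) (V.inv_mem v.2)),
      mul_inv_cancel_right])
  set C := V ⊓ Subgroup.centralizer (Subgroup.zpowers a : Set G) with hC
  have hker : Nat.card f.ker ≤ Nat.card C := by
    refine Nat.card_le_card_of_injective (fun x => (⟨((x : V) : G), ⟨(x : V).2, ?_⟩⟩ : C)) ?_
    · have h : Commute a ((x : V) : G) :=
        commutatorElement_eq_one_iff_commute.mp (congrArg Subtype.val (MonoidHom.mem_ker.mp x.2))
      show _ ∈ Subgroup.centralizer _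
      rw [Subgroup.mem_centralizer_iff]
      rintro _ ⟨i, rfl⟩
      exact (h.zpow_left i).eq
    · exact fun x y h => Subtype.ext (Subtype.ext (congrArg (fun c : C => (c : G)) h))
  have hran : Nat.card f.range ≤ Nat.card C := by
    refine Nat.card_le_card_of_injective (fun x => (⟨((x : V) : G), ⟨(x : V).2, ?_⟩⟩ : C)) ?_
    · show _ ∈ Subgroup.centralizer _
      apply Subgroup.commutator_eq_bot_iff_le_centralizer.mp hq
      obtain ⟨v, hv⟩ := x.2
      rw [← hv, Subgroup.commutator_comm]
      exact Subgroup.commutator_mem_commutator (Subgroup.mem_zpowers a) v.2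
    · exact fun x y h => Subtype.ext (Subtype.ext (congrArg (fun c : C => (c : G)) h))
  calc Nat.card V = Nat.card f.ker * Nat.card f.range := by
        rw [← f.ker.card_mul_index, Subgroup.index_ker]
    _ ≤ Nat.card C * Nat.card C := Nat.mul_le_mul hker hran
    _ = _ := (pow_two _).symm

end Cfsg.Agent.S0591
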