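import Cfsg.Statements.S0592
import Mathlib

set_option linter.style.haveILetI false

set_option autoImplicit false
open Cfsg

namespace Cfsg.Agent.S0592

variable {K : Type*} [Field K] {W : Type*} [AddCommGroup W] [Module K W]

/-- iterated images under two endomorphisms -/
def flagSeq (A B : Module.End K W) : ℕ → Submodule K W
  | 0 => ⊤
  | n + 1 => (flagSeq A B n).map A ⊔ (flagSeq A B n).map B

theorem flagSeq_two {A B : Module.End K W} (hA : A * A = 0) (hB : B * B = 0) (n : ℕ) :
    flagSeq A B (n + 2) = (flagSeq A B n).map (A * B) ⊔ (flagSeq A B n).map (B * A) := by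
  show (flagSeq A B (n + 1)).map A ⊔ (flagSeq A B (n + 1)).map B = _
  show (((flagSeq A B n).map A ⊔ (flagSeq A B n).map B)).map A ⊔
    (((flagSeq A B n).map A ⊔ (flagSeq A B n).map B)).map B = _
  simp only [Submodule.map_sup, ← Submodule.map_comp, ← Module.End.mul_eq_comp, hA, hB,
    Submodule.map_zero, bot_sup_eq, sup_bot_eq]

theorem flagSeq_le {A B : Module.End K W} (hA : A * A = 0) (hB : B * B = 0) (n : ℕ) :
    flagSeq A B (2 * n + 2) ≤ LinearMap.range ((A * B + B * A) ^ n) := by
  have key : ∀ n, flagSeq A B (2 * n + 2) ≤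
      (LinearMap.range (A * B) ⊔ LinearMap.range (B * A)).map ((A * B + B * A) ^ n) := by
    intro n
    induction n with
    | zero =>
      rw [pow_zero]
      show flagSeq A B (0 + 2) ≤ _
      rw [flagSeq_two hA hB]
      show _ ≤ (_ : Submodule K W).map LinearMap.id
      rw [Submodule.map_id]
      exact sup_le_sup LinearMap.map_le_range LinearMap.map_le_range
    | succ n ih =>
      rw [show 2 * (n + 1) + 2 = (2 * n + 2) + 2 from rfl, flagSeq_two hA hB]
      set T := A * B + B * A with hT
      have hcA : Commute T A := by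
        rw [Commute, SemiconjBy, hT, add_mul, mul_add, mul_assoc B A A, hA, ← mul_assoc A A B, hA]
        simp [mul_assoc]
      have hcB : Commute T B := by
        rw [Commute, SemiconjBy, hT, add_mul, mul_add, mul_assoc A B B, hB, ← mul_assoc B B A, hB]
        simp [mul_assoc]
      have e1 : Commute (T ^ n) (A * B) := (hcA.mul_right hcB).pow_left n
      have e2 : Commute (T ^ n) (B * A) := (hcB.mul_right hcA).pow_left n
      have hh : ∀ X : Module.End K W, Commute (T ^ n) X → X * (A * B) ∈ ({0, T * (A * B)} : Set _) →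
          X * (B * A) ∈ ({0, T * (B * A)} : Set _) →
          ((LinearMap.range (A * B) ⊔ LinearMap.range (B * A)).map (T ^ n)).map X ≤
            (LinearMap.range (A * B) ⊔ LinearMap.range (B * A)).map (T ^ (n + 1)) := by
        intro X hX h1 h2
        have hmul : ∀ (U V : Module.End K W) (S : Submodule K W),
            S.map (U * V) = (S.map V).map U := fun U V S => Submodule.map_comp V U S
        rw [← hmul, ← hX.eq, pow_succ, hmul, hmul]
        refine Submodule.map_mono ?_
        rw [Submodule.map_sup, Submodule.map_sup]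
        refine sup_le_sup ?_ ?_
        · rw [← LinearMap.range_comp, ← LinearMap.range_comp, ← Module.End.mul_eq_comp,
            ← Module.End.mul_eq_comp]
          rcases h1 with h | h <;> rw [h]
          simp
        · rw [← LinearMap.range_comp, ← LinearMap.range_comp, ← Module.End.mul_eq_comp,
            ← Module.End.mul_eq_comp]
          rcases h2 with h | h <;> rw [h]
          simp
      refine sup_le ((Submodule.map_mono ih).trans (hh _ e1 ?_ ?_))
        ((Submodule.map_mono ih).trans (hh _ e2 ?_ ?_))
      · right; rw [Set.mem_singleton_iff, hT, add_mul, mul_assoc B A (A * B), ← mul_assoc A A B, hA]; simp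
      · left; rw [mul_assoc, ← mul_assoc B B A, hB]; simp
      · left; rw [mul_assoc, ← mul_assoc A A B, hA]; simp
      · right; rw [Set.mem_singleton_iff, hT, add_mul, mul_assoc A B (B * A), ← mul_assoc B B A, hB]; simp
  exact (key n).trans LinearMap.map_le_range

/-- Two quadratically acting generators of a linear group that is not a p-group, with the p'-part of the order of their product dividing q - 1, give a homomorphism onto a subgroup of SL(2, q) that is not a p-group. -/
theorem result {K : Type*} [Field K] [Fintype K] {p : ℕ} [Fact p.Prime] [CharP K p] {W : Type*} [AddCommGroup W] [Module K W] [FiniteDimensional K W] [Finite W] [Nontrivial W] (H : Subgroup (W ≃ₗ[K] W)) (a b : W ≃ₗ[K] W) (hH : H = Subgroup.closure {a, b}) (ha : ∀ w : W, a (a w - w) = a w - w) (hb : ∀ w : W, b (b w - w) = b w - w) (hnp : ¬ IsPGroup p H) (hk : ∃ e k : ℕ, orderOf (a * b) = p ^ e * k ∧ k ∣ Fintype.card K - 1) : ∃ φ : H →* Matrix.SpecialLinearGroup (Fin 2) K, ¬ IsPGroup p φ.range := by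
  classical
  have : CharP (Module.End K W) p := charP_of_injective_algebraMap (FaithfulSMul.algebraMap_injective K _) p
  let ι := LinearEquiv.automorphismGroup.toLinearMapMonoidHom (R := K) (M := W)
  set A : Module.End K W := ι a - 1 with hAdef
  set B : Module.End K W := ι b - 1 with hBdef
  have hA : A * A = 0 := by
    ext w
    show a (a w - w) - (a w - w) = 0
    rw [ha w, sub_self]
  have hB : B * B = 0 := by
    ext w
    show b (b w - w) - (b w - w) = 0
    rw [hb w, sub_self]
  set T : Module.End K W := A * B + B * A with hT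
  obtain ⟨e, k, hord, hk⟩ := hk
  obtain ⟨m, hpp, hq⟩ := FiniteField.card K p
  set q := Fintype.card K with hqdef
  -- `T` is not nilpotent
  have hTnil : ∀ n, T ^ n ≠ 0 := by
    intro n hn
    refine hnp fun h => ?_
    have hV : flagSeq A B (2 * n + 2) = ⊥ := by
      rw [eq_bot_iff]
      refine (flagSeq_le hA hB n).trans ?_
      rw [← hT, hn]; simp
    have hmem : ∀ x : W ≃ₗ[K] W, x ∈ Subgroup.closure {a, b} →
        ∀ i, ∀ w ∈ flagSeq A B i, x w - w ∈ flagSeq A B (i + 1) := by
      intro x hx
      have : Finite (W ≃ₗ[K] W) := Finite.of_injective (fun f => (f : W → W)) DFunLike.coe_injective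
      rw [← Subgroup.mem_toSubmonoid, Subgroup.closure_toSubmonoid_of_finite] at hx
      induction hx using Submonoid.closure_induction with
      | mem y hy =>
        intro i w hw
        rcases hy with rfl | rfl
        · exact Submodule.mem_sup_left ⟨w, hw, rfl⟩
        · exact Submodule.mem_sup_right ⟨w, hw, rfl⟩
      | one => intro i w _; simp
      | mul y z _ _ hy hz =>
        intro i w hw
        have h1 := hz i w hw
        have hanti : ∀ j, flagSeq A B (j + 1) ≤ flagSeq A B j := by
          intro j
          induction j with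
          | zero => exact le_top
          | succ j ih => exact sup_le_sup (Submodule.map_mono ih) (Submodule.map_mono ih)
        have h2 : y (z w - w) - (z w - w) ∈ flagSeq A B (i + 1) :=
          hanti _ (hy _ _ h1)
        have h3 := hy i w hw
        have : (y * z) w - w = (y (z w - w) - (z w - w)) + (z w - w) + (y w - w) := by
          show y (z w) - w = _
          rw [map_sub]; abel
        rw [this]
        exact add_mem (add_mem h2 h1) h3
    set D : Module.End K W := ι (h : W ≃ₗ[K] W) - 1 with hD
    have hDpow : ∀ (i : ℕ) (w : W), (D ^ i) w ∈ flagSeq A B i := by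
      intro i
      induction i with
      | zero => intro w; exact Submodule.mem_top
      | succ i ih =>
        intro w
        rw [pow_succ', Module.End.mul_apply]
        exact hmem h (hH ▸ h.2) i _ (ih w)
    have hD0 : D ^ (2 * n + 2) = 0 := by
      ext w
      have := hDpow (2 * n + 2) w
      rw [hV, Submodule.mem_bot] at this
      exact this
    obtain ⟨N, hN⟩ : ∃ N, 2 * n + 2 ≤ p ^ N :=
      ⟨2 * n + 2, (Nat.lt_pow_self hpp.one_lt).le⟩
    refine ⟨N, Subtype.ext ?_⟩
    rw [SubmonoidClass.coe_pow, OneMemClass.coe_one]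
    apply LinearEquiv.toLinearMap_injective
    have h1 : ι (h : W ≃ₗ[K] W) ^ (p ^ N) = 1 := by
      have h2 : D ^ (p ^ N) = 0 := pow_eq_zero_of_le hN hD0
      rw [hD, sub_pow_char_pow_of_commute (p := p) (n := N) (Commute.one_right _), one_pow,
        sub_eq_zero] at h2
      exact h2
    rw [← map_pow] at h1
    exact h1
  -- Frobenius power of `T`
  set f : Module.End K W := ι (a * b) with hf
  set f' : Module.End K W := ι (a * b)⁻¹ with hf'
  have hff : f' * f = 1 := by rw [hf, hf', ← map_mul, inv_mul_cancel, map_one]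
  have hff2 : f * f' = 1 := by rw [hf, hf', ← map_mul, mul_inv_cancel, map_one]
  have hf1 : f = (1 + A) * (1 + B) := by
    rw [hf, map_mul, hAdef, hBdef]; simp
  have hinvA : (1 - A) * (1 + A) = 1 := by
    rw [sub_mul, one_mul, mul_add, mul_one, hA, add_zero]; abel
  have hinvB : (1 - B) * (1 + B) = 1 := by
    rw [sub_mul, one_mul, mul_add, mul_one, hB, add_zero]; abel
  have hf'2 : f' = (1 - B) * (1 - A) := by
    have h0 : (1 - B) * (1 - A) * f = 1 := by
      rw [hf1, mul_assoc, ← mul_assoc (1 - A), hinvA, one_mul, hinvB]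
    calc f' = (1 - B) * (1 - A) * f * f' := by rw [h0, one_mul]
      _ = _ := by rw [mul_assoc, hff2, mul_one]
  have hcomm : Commute f' (f - 1) := by
    rw [Commute, SemiconjBy, mul_sub, sub_mul, hff, hff2, mul_one, one_mul]
  have hTf : T = f' * (f - 1) * (f - 1) := by
    have h0 : f' * (f - 1) * (f - 1) = (f' * f) * f - (f' * f) - (f' * f) + f' := by noncomm_ring
    rw [h0, hff, one_mul, hT, hf1, hf'2]
    noncomm_ring
  set Q := q ^ (e + 1) with hQ
  have hQp : Q = p ^ ((m : ℕ) * (e + 1)) := by rw [hQ, hq, ← pow_mul]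
  set g := f ^ Q with hg
  set g' := f' ^ Q with hg'
  have hTQ : T ^ Q = g' * (g - 1) * (g - 1) := by
    rw [hTf, (hcomm.mul_left (Commute.refl _)).mul_pow, hcomm.mul_pow, hQp,
      sub_pow_char_pow_of_commute (p := p) (n := (m : ℕ) * (e + 1)) (Commute.one_right f), one_pow,
      ← hQp]
  have hgg : g' * g = 1 := by
    rw [hg, hg', ← (show Commute f' f by rw [Commute, SemiconjBy, hff, hff2]).mul_pow, hff, one_pow]
  have hgk : g ^ k = 1 := by
    have he : p ^ e * k ∣ Q * k :=
      mul_dvd_mul_right (by rw [hQp]; exact pow_dvd_pow p (by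
        calc e ≤ e + 1 := Nat.le_succ e
          _ ≤ _ := Nat.le_mul_of_pos_left _ m.pos)) k
    rw [hg, ← pow_mul, hf, ← map_pow, orderOf_dvd_iff_pow_eq_one.1 (hord ▸ he), map_one]
  have hgq : g ^ q = g := by
    obtain ⟨c, hc⟩ := hk
    have h1 : q = k * c + 1 := by
      have : 1 ≤ q := Fintype.card_pos
      omega
    rw [h1, pow_succ, pow_mul, hgk, one_pow, one_mul]
  -- eigenvalue
  have hg1 : g - 1 ≠ 0 := fun h => hTnil Q (by rw [hTQ, h, mul_zero])
  obtain ⟨l, hl1, y, hy0, hy⟩ : ∃ l : K, l ≠ 1 ∧ ∃ y : W, y ≠ 0 ∧ g y = l • y := by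
    by_contra hcon
    push Not at hcon
    have hinj : ∀ s : Finset K, (1 : K) ∉ s → ∀ y : W,
        Polynomial.aeval g (∏ c ∈ s, (Polynomial.X - Polynomial.C c)) y = 0 → y = 0 := by
      intro s
      induction s using Finset.induction_on with
      | empty => intro _ y h; simpa using h
      | insert c s hc ih =>
        intro h1 y h
        rw [Finset.mem_insert, not_or] at h1
        rw [Finset.prod_insert hc, map_mul, Module.End.mul_apply] at h
        refine ih h1.2 y ?_
        by_contra hz
        refine hcon c (Ne.symm h1.1) _ hz ?_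
        rw [map_sub, Polynomial.aeval_X, Polynomial.aeval_C, LinearMap.sub_apply,
          Module.algebraMap_end_apply, sub_eq_zero] at h
        exact h
    apply hg1
    ext w
    refine hinj (Finset.univ.erase 1) (Finset.notMem_erase _ _) _ ?_
    have hprod : (∏ c ∈ (Finset.univ.erase (1 : K)), (Polynomial.X - Polynomial.C c)) *
        (Polynomial.X - Polynomial.C 1) = Polynomial.X ^ q - Polynomial.X := by
      rw [Finset.prod_erase_mul _ _ (Finset.mem_univ _), hqdef]
      have hr : (Polynomial.X ^ Fintype.card K - Polynomial.X : Polynomial K).roots = Finset.univ.val :=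
        FiniteField.roots_X_pow_card_sub_X K
      have hdeg := FiniteField.X_pow_card_sub_X_natDegree_eq K (Fintype.one_lt_card : 1 < Fintype.card K)
      have hmon : (Polynomial.X ^ Fintype.card K - Polynomial.X : Polynomial K).Monic :=
        Polynomial.monic_X_pow_sub (by
          rw [Polynomial.degree_X]; exact_mod_cast Fintype.one_lt_card)
      have := Polynomial.prod_multiset_X_sub_C_of_monic_of_roots_card_eq hmon
        (by rw [hr, hdeg]; rfl)
      rw [hr] at this
      exact this
    have := congrArg (fun P => Polynomial.aeval g P w) hprod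
    simp only [map_mul, map_sub, Polynomial.aeval_X, Polynomial.aeval_C, map_one, map_pow, hgq,
      sub_self, LinearMap.zero_apply, Module.End.mul_apply] at this
    exact this
  have hl0 : l ≠ 0 := by
    intro h0
    rw [h0, zero_smul] at hy
    have := congrArg g' hy
    rw [← Module.End.mul_apply, hgg, map_zero] at this
    exact hy0 this
  set μ : K := l⁻¹ * (l - 1) * (l - 1) with hμ
  have hμ0 : μ ≠ 0 := by
    have := sub_ne_zero.2 hl1
    positivity
  have hyT : (T ^ Q) y = μ • y := by
    have hg'y : g' y = l⁻¹ • y := by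
      have := congrArg g' hy
      rw [← Module.End.mul_apply, hgg, map_smul] at this
      rw [eq_inv_smul_iff₀ hl0]
      exact this.symm
    have h1 : (g - 1) y = (l - 1) • y := by
      rw [LinearMap.sub_apply, hy, Module.End.one_apply, sub_smul, one_smul]
    rw [hTQ, Module.End.mul_apply, Module.End.mul_apply, h1, map_smul, h1, smul_smul, map_smul, hg'y,
      smul_smul, hμ]
    congr 1; ring
  obtain ⟨u, hu0, hu⟩ : ∃ u : W, u ≠ 0 ∧ T u = μ • u := by
    by_contra hcon
    push Not at hcon
    have hinj : ∀ i : ℕ, ∀ z : W, ((T - algebraMap K _ μ) ^ i) z = 0 → z = 0 := by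
      intro i
      induction i with
      | zero => intro z h; simpa using h
      | succ i ih =>
        intro z h
        rw [pow_succ', Module.End.mul_apply] at h
        refine ih z ?_
        by_contra hz
        refine hcon _ hz ?_
        rw [LinearMap.sub_apply, Module.algebraMap_end_apply, sub_eq_zero] at h
        exact h
    apply hy0
    refine hinj Q y ?_
    rw [hQp, sub_pow_char_pow_of_commute (p := p) (n := (m : ℕ) * (e + 1))
      (Algebra.commutes μ T).symm, ← map_pow, ← hQp, LinearMap.sub_apply, hyT,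
      Module.algebraMap_end_apply, hQ, FiniteField.pow_card_pow, sub_self]
  obtain ⟨v, hv0, hAv, hABv⟩ : ∃ v : W, v ≠ 0 ∧ A v = 0 ∧ A (B v) = μ • v := by
    have hTu : A (B u) + B (A u) = μ • u := by rw [← hu, hT]; rfl
    have hAA : ∀ z, A (A z) = 0 := fun z => by rw [← Module.End.mul_apply, hA]; rfl
    by_cases hAu : A u = 0
    · refine ⟨u, hu0, hAu, ?_⟩
      rwa [hAu, map_zero, add_zero] at hTu
    · refine ⟨A u, hAu, hAA u, ?_⟩
      have := congrArg A hTu
      rwa [map_add, hAA, zero_add, map_smul] at this
  have hBB : B (B v) = 0 := by rw [← Module.End.mul_apply, hB]; rfl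
  -- the two dimensional representation
  let L : (Fin 2 → K) →ₗ[K] W := Fintype.linearCombination K ![v, B v]
  have hL : ∀ c : Fin 2 → K, L c = c 0 • v + c 1 • B v := by
    intro c; simp [L, Fintype.linearCombination_apply]
  have hLinj : Function.Injective L := by
    rw [injective_iff_map_eq_zero]
    intro c hc
    rw [hL] at hc
    have h1 := congrArg A hc
    rw [map_add, map_smul, map_smul, hAv, hABv, smul_zero, zero_add, map_zero, smul_smul] at h1
    have hc1 : c 1 = 0 := by
      rcases smul_eq_zero.1 h1 with h | h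
      · exact (mul_eq_zero.1 h).resolve_right hμ0
      · exact absurd h hv0
    rw [hc1, zero_smul, add_zero] at hc
    have hc0 : c 0 = 0 := (smul_eq_zero.1 hc).resolve_right hv0
    funext i; fin_cases i <;> simp [hc0, hc1]
  have hmatEq : ∀ M N : Matrix (Fin 2) (Fin 2) K,
      (∀ c, L (M.mulVec c) = L (N.mulVec c)) → M = N :=
    fun M N h => Matrix.ext_of_mulVec_single fun j => hLinj (h _)
  let Ma : Matrix.SpecialLinearGroup (Fin 2) K := ⟨!![1, μ; 0, 1], by simp [Matrix.det_fin_two]⟩
  let Mb : Matrix.SpecialLinearGroup (Fin 2) K := ⟨!![1, 0; 1, 1], by simp [Matrix.det_fin_two]⟩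
  have hMa : ∀ c, L (Ma.1.mulVec c) = a (L c) := by
    intro c
    have : a (L c) = L c + A (L c) := by
      show _ = L c + (a (L c) - L c)
      abel
    rw [this, hL, hL]
    simp only [Ma, map_add, map_smul, hAv, hABv, Matrix.mulVec, dotProduct, Fin.sum_univ_two]
    simp [Matrix.vecHead, Matrix.vecTail, smul_smul, add_smul, mul_comm]
    abel
  have hMb : ∀ c, L (Mb.1.mulVec c) = b (L c) := by
    intro c
    have : b (L c) = L c + B (L c) := by
      show _ = L c + (b (L c) - L c)
      abel
    rw [this, hL, hL]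
    simp only [Mb, map_add, map_smul, hBB, Matrix.mulVec, dotProduct, Fin.sum_univ_two]
    simp [Matrix.vecHead, Matrix.vecTail, add_smul]
    abel
  let Γ : Subgroup ((W ≃ₗ[K] W) × Matrix.SpecialLinearGroup (Fin 2) K) := Subgroup.closure {(a, Ma), (b, Mb)}
  have hΓ : ∀ z ∈ Γ, ∀ c, L (z.2.1.mulVec c) = z.1 (L c) := by
    intro z hz
    induction hz using Subgroup.closure_induction with
    | mem y hy =>
      rcases hy with rfl | rfl
      · exact hMa
      · exact hMb
    | one => intro c; simp
    | mul y z _ _ hy hz =>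
      intro c
      rw [Prod.fst_mul, Prod.snd_mul, Matrix.SpecialLinearGroup.coe_mul, ← Matrix.mulVec_mulVec, hy, hz]
      rfl
    | inv y _ hy =>
      intro c
      have := hy (y.2⁻¹.1.mulVec c)
      rw [Matrix.mulVec_mulVec, ← Matrix.SpecialLinearGroup.coe_mul, mul_inv_cancel,
        Matrix.SpecialLinearGroup.coe_one, Matrix.one_mulVec] at this
      apply y.1.injective
      rw [Prod.snd_inv, ← this, Prod.fst_inv]
      show _ = y.1 (y.1.symm (L c))
      rw [LinearEquiv.apply_symm_apply]
  have hex : ∀ h : H, ∃ z ∈ Γ, z.1 = (h : W ≃ₗ[K] W) := by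
    intro h
    have hh : (h : W ≃ₗ[K] W) ∈ Γ.map (MonoidHom.fst _ _) := by
      rw [MonoidHom.map_closure, Set.image_pair]
      simpa [← hH] using h.2
    obtain ⟨z, hz, hz1⟩ := hh
    exact ⟨z, hz, hz1⟩
  choose z hzΓ hz using hex
  let φ : H →* Matrix.SpecialLinearGroup (Fin 2) K :=
    MonoidHom.mk' (fun h => (z h).2) (fun h h' => Subtype.ext (hmatEq _ _ fun c => by
      rw [Matrix.SpecialLinearGroup.coe_mul, ← Matrix.mulVec_mulVec, hΓ _ (hzΓ _), hΓ _ (hzΓ _),
        hΓ _ (hzΓ _), hz, hz, hz]
      rfl))
  refine ⟨φ, fun hpG => ?_⟩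
  have haH : a ∈ H := hH ▸ Subgroup.subset_closure (by simp)
  have hbH : b ∈ H := hH ▸ Subgroup.subset_closure (by simp)
  set x : H := ⟨a, haH⟩ * ⟨b, hbH⟩ with hx
  have hM : φ x = Ma * Mb := by
    refine Subtype.ext (hmatEq _ _ fun c => ?_)
    show L ((z x).2.1.mulVec c) = _
    rw [hΓ _ (hzΓ _), hz, Matrix.SpecialLinearGroup.coe_mul, ← Matrix.mulVec_mulVec, hMa, hMb]
    rfl
  obtain ⟨j, hj⟩ := hpG ⟨φ x, MonoidHom.mem_range.2 ⟨x, rfl⟩⟩
  have hj' : (Ma.1 * Mb.1) ^ (p ^ j) = 1 := by
    have := congrArg (fun y : φ.range => ((y : Matrix.SpecialLinearGroup (Fin 2) K) : Matrix (Fin 2) (Fin 2) K)) hj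
    simpa [hM] using this
  have hnil : IsNilpotent (Ma.1 * Mb.1 - 1) := ⟨p ^ j, by
    rw [sub_pow_char_pow_of_commute (p := p) (n := j) (Commute.one_right _), hj', one_pow, sub_self]⟩
  have htr := (Matrix.isNilpotent_trace_of_isNilpotent hnil).eq_zero
  apply hμ0
  simp [Ma, Mb, Matrix.trace_fin_two, Matrix.mul_apply] at htr
  linear_combination htr

end Cfsg.Agent.S0592
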