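import Cfsg.Statements.S0594
import Cfsg.Agent.Lib.Local.SL2Involved
-- import your own Cfsg.Agent.* helpers here

set_option autoImplicit false
open Cfsg

namespace Cfsg.Agent.S0594

open Subgroup

theorem not_mem_pCore {G : Type*} [Group G] {p : ℕ} [Fact p.Prime] [Finite G] (H Q : Subgroup G) (hQH : Q ≤ H)
    (hQn : H ≤ Subgroup.normalizer (Q : Set G)) (hQ : (Nat.card Q).Coprime p) (a : G) (haH : a ∈ H)
    (hQa : ⁅Q, Subgroup.zpowers a⁆ ≠ ⊥) : a ∉ (Cfsg.pCore p H).map H.subtype := by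
  intro h
  refine hQa ((Subgroup.commutator_eq_bot_iff_le_centralizer).2 fun q hq => ?_)
  refine Subgroup.mem_centralizer_iff.2 fun y hy => ?_
  have hyH : y ∈ H := Subgroup.zpowers_le.2 haH hy
  obtain ⟨a', ha', rfl⟩ := h
  set O := (Cfsg.pCore p H).map H.subtype with hO
  have hyO : y ∈ O := Subgroup.zpowers_le.2 (Subgroup.mem_map_of_mem _ ha') hy
  have hOn : H ≤ Subgroup.normalizer (O : Set G) := by
    refine le_trans (le_of_eq ?_) (Subgroup.le_normalizer_map H.subtype)
    rw [Subgroup.normalizer_eq_top_iff.2 inferInstance, ← MonoidHom.range_eq_map, Subgroup.range_subtype]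
  have hc : y * q * y⁻¹ * q⁻¹ ∈ Q ⊓ O := by
    refine Subgroup.mem_inf.2 ⟨mul_mem ((Subgroup.mem_normalizer_iff.1 (hQn hyH) q).1 hq) (inv_mem hq), ?_⟩
    rw [show y * q * y⁻¹ * q⁻¹ = y * (q * y⁻¹ * q⁻¹) by group]
    exact mul_mem hyO ((Subgroup.mem_normalizer_iff.1 (hOn (hQH hq)) _).1 (inv_mem hyO))
  have hbot : Q ⊓ O = ⊥ := by
    have hp : IsPGroup p O := (Cfsg.Lib.Core.pCore_isPGroup p H).map _
    obtain ⟨k, hk⟩ := IsPGroup.iff_card.1 hp
    exact Subgroup.inf_eq_bot_of_coprime (hk ▸ hQ.pow_right k)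
  rw [hbot, Subgroup.mem_bot] at hc
  exact mul_inv_eq_iff_eq_mul.1 (mul_inv_eq_one.1 hc)

/-- For odd p, two quadratic generators of a faithful group that is not a p-group, one of which acts nontrivially on a normal subgroup of order prime to p, force p = 3 and a section isomorphic to SL(2,3). -/
theorem result {G : Type*} [Group G] [Finite G] {p : ℕ} [Fact p.Prime] (hp : p ≠ 2) (V H : Subgroup G) (hV : Cfsg.IsElementaryAbelian p V) (hHV : H ≤ Subgroup.normalizer (V : Set G)) (hf : H ⊓ Subgroup.centralizer (V : Set G) = ⊥) (a b : G) (hab : H = Subgroup.closure {a, b}) (ha : ⁅⁅V, Subgroup.zpowers a⁆, Subgroup.zpowers a⁆ = ⊥) (hb : ⁅⁅V, Subgroup.zpowers b⁆, Subgroup.zpowers b⁆ = ⊥) (hnp : ¬ IsPGroup p H) (Q : Subgroup G) (hQH : Q ≤ H) (hQn : H ≤ Subgroup.normalizer (Q : Set G)) (hQ : (Nat.card Q).Coprime p) (hQa : ⁅Q, Subgroup.zpowers a⁆ ≠ ⊥) : p = 3 ∧ ∃ (K L : Subgroup G) (hL : (L.subgroupOf K).Normal), K ≤ H ∧ Nonempty ((K ⧸ L.subgroupOf K) ≃* Matrix.SpecialLinearGroup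 (Fin 2) (ZMod 3)) := by
  have hpp : p.Prime := Fact.out
  have haH : a ∈ H := hab ▸ Subgroup.subset_closure (by simp)
  set H' := Q ⊔ Subgroup.zpowers a with hH'
  have hle : H' ≤ H := sup_le hQH (Subgroup.zpowers_le.2 haH)
  have haH' : a ∈ H' := Subgroup.mem_sup_right (Subgroup.mem_zpowers a)
  have hi := Cfsg.Lib.Local.SL2Involved.involves_SL2_of_action hp V H'
    (fun v => ⟨1, Subtype.ext (by rw [pow_one]; exact hV.2 _ v.2)⟩) hV.1 (hle.trans hHV)
    (le_bot_iff.1 (hf ▸ inf_le_inf_right _ hle)) a haH' ha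
    (not_mem_pCore H' Q le_sup_left (hle.trans hQn) hQ a haH' hQa)
  haveI : (Q.subgroupOf H').Normal := (Subgroup.normal_subgroupOf_iff_le_normalizer le_sup_left).2 (hle.trans hQn)
  have hsol : Cfsg.IsPSolvable p H' := by
    refine Cfsg.Lib.Core.HasFactorChain.extension (P := Cfsg.Lib.Core.PFactor p) (Q.subgroupOf H') (Or.inr ?_) ?_
    · rw [Nat.card_congr (Subgroup.subgroupOfEquivOfLe (show Q ≤ H' from le_sup_left)).toEquiv]
      exact hQ
    · have hsurj : Function.Surjective ((QuotientGroup.mk' (Q.subgroupOf H')).comp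
          (Subgroup.inclusion (le_sup_right : Subgroup.zpowers a ≤ H'))) := by
        rw [← MonoidHom.range_eq_top, MonoidHom.range_comp, Subgroup.inclusion_range,
          ← Subgroup.map_top_of_surjective _ (QuotientGroup.mk'_surjective (Q.subgroupOf H')),
          ← Subgroup.subgroupOf_self (H := H')]
        conv_rhs => arg 2; arg 1; rw [hH']
        rw [Subgroup.subgroupOf_sup (show Q ≤ H' from le_sup_left) (show Subgroup.zpowers a ≤ H' from le_sup_right),
          Subgroup.map_sup, (Subgroup.map_eq_bot_iff _).2 (QuotientGroup.ker_mk' _).ge, bot_sup_eq]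
      haveI : IsMulCommutative (Subgroup.zpowers a) := inferInstance
      haveI : Group.IsSolvable (Subgroup.zpowers a) := Group.isSolvable_of_comm fun x y => mul_comm' x y
      haveI := Group.isSolvable_of_surjective hsurj
      exact Cfsg.Lib.Core.isPSolvable_of_isSolvable
  have hp3 : p = 3 := by
    by_contra h3
    exact Cfsg.Lib.Local.SL2Involved.not_involves_SL2_of_isPSolvable
      (hpp.five_le_of_ne_two_of_ne_three hp h3) hsol hi
  subst hp3
  obtain ⟨K, L, hL, hK, he⟩ := Cfsg.Lib.Local.SL2Involved.exists_section_le hi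
  exact ⟨rfl, K, L, hL, hK.trans hle, he⟩

end Cfsg.Agent.S0594
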