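import Cfsg.Statements.S0596
import Cfsg.Agent.Lib.Local.SL2Involved
-- import your own Cfsg.Agent.* helpers here

set_option autoImplicit false
open Cfsg

namespace Cfsg.Agent.S0596


/-- For odd p, a p-separable group with a faithful action on an elementary abelian p-group that is not p-stable has p = 3 and involves SL(2,3). -/
theorem result {G : Type*} [Group G] [Finite G] {p : ℕ} [Fact p.Prime] (hp : p ≠ 2) (V H : Subgroup G) (hV : Cfsg.IsElementaryAbelian p V) (hHV : H ≤ Subgroup.normalizer (V : Set G)) (hf : H ⊓ Subgroup.centralizer (V : Set G) = ⊥) (hsep : Cfsg.IsPSolvable p H) (a : G) (haH : a ∈ H) (hq : ⁅⁅V, Subgroup.zpowers a⁆, Subgroup.zpowers a⁆ = ⊥) (hna : a ∉ (Cfsg.pCore p H).map H.subtype) : p = 3 ∧ ∃ (K L : Subgroup G) (hL : (L.subgroupOf K).Normal), K ≤ H ∧ Nonempty ((K ⧸ L.subgroupOf K) ≃* Matrix.SpecialLinearGroup (Fin 2) (ZMod 3)) := by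
  obtain ⟨hi, h5⟩ := And.intro (Cfsg.Lib.Local.SL2Involved.involves_SL2_of_action hp V H (fun v => ⟨1, Subtype.ext (by rw [pow_one]; exact hV.2 _ v.2)⟩) hV.1 hHV hf a haH hq hna)
    (fun h => Cfsg.Lib.Local.SL2Involved.not_involves_SL2_of_isPSolvable (p := p) (G := H) h hsep)
  have hp3 : p = 3 := by
    have hpp : p.Prime := Fact.out
    by_contra h3
    exact h5 (hpp.five_le_of_ne_two_of_ne_three hp h3) hi
  subst hp3
  obtain ⟨K, L, hL, hK, he⟩ := Cfsg.Lib.Local.SL2Involved.exists_section_le hi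
  exact ⟨rfl, K, L, hL, hK, he⟩

end Cfsg.Agent.S0596
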