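import Cfsg.Statements.S0597
import Cfsg.Agent.Lib.Coprime.Action
import Cfsg.Agent.Lib.Solv.SubnormalJoin
import Cfsg.Agent.Lib.Core.Cores

set_option autoImplicit false
open Cfsg
open scoped commutatorElement

namespace Cfsg.Agent.S0597

/-- If two subnormal subgroups of a faithful group on an elementary abelian p-group satisfy [V, E₁, E₂] = 1, then their commutator lies in the largest normal p-subgroup. -/
theorem result {G : Type*} [Group G] [Finite G] {p : ℕ} [Fact p.Prime] (V H : Subgroup G) (hV : Cfsg.IsElementaryAbelian p V) (hHV : H ≤ Subgroup.normalizer (V : Set G)) (hf : H ⊓ Subgroup.centralizer (V : Set G) = ⊥) (E₁ E₂ : Subgroup G) (h₁ : E₁ ≤ H) (h₂ : E₂ ≤ H) (hs₁ : (E₁.subgroupOf H).IsSubnormal) (hs₂ : (E₂.subgroupOf H).IsSubnormal) (hc : ⁅⁅V, E₁⁆, E₂⁆ = ⊥) : ⁅E₁, E₂⁆ ≤ (Cfsg.pCore p H).map H.subtype := by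
  classical
  set W := ⁅V, E₁⁆ with hW
  have hWV : W ≤ V := Cfsg.Lib.Coprime.commutator_le_of_le_normalizer (h₁.trans hHV)
  have hVab : ∀ x ∈ V, ∀ y ∈ V, x * y = y * x := fun x hx y hy =>
    congrArg Subtype.val (hV.1.is_comm.comm ⟨x, hx⟩ ⟨y, hy⟩)
  have hE₂W : E₂ ≤ Subgroup.centralizer (W : Set G) := by
    rw [Subgroup.le_centralizer_iff]
    exact Subgroup.commutator_eq_bot_iff_le_centralizer.1 hc
  have hWn : ∀ e ∈ E₁, ∀ w ∈ W, e * w * e⁻¹ ∈ W := fun e he w hw =>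
    (Subgroup.mem_normalizer_iff.1 (Subgroup.normalizer_commutator_ge_right V E₁ he) w).1 hw
  set D := ⁅E₁, E₂⁆ with hD
  set M := E₁ ⊔ E₂ with hM
  have hDM : D ≤ M := by
    rw [hD, Subgroup.commutator_le]
    exact fun a ha b hb => mul_mem (mul_mem (mul_mem (Subgroup.mem_sup_left ha) (Subgroup.mem_sup_right hb))
      (inv_mem (Subgroup.mem_sup_left ha))) (inv_mem (Subgroup.mem_sup_right hb))
  have hMH : M ≤ H := sup_le h₁ h₂
  -- `D` stabilises the chain `V ≥ W ≥ 1`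
  have hDW : D ≤ Subgroup.centralizer (W : Set G) := by
    rw [hD, Subgroup.commutator_le]
    intro a ha b hb
    refine Subgroup.mem_centralizer_iff.2 fun w hw => ?_
    have h3 : ∀ u ∈ W, b * u * b⁻¹ = u := fun u hu => by
      rw [← Subgroup.mem_centralizer_iff.1 (hE₂W hb) u hu, mul_inv_cancel_right]
    have h4 : b⁻¹ * w * b = w := by
      conv_lhs => rw [← h3 w hw]
      group
    symm
    rw [commutatorElement_def, ← mul_inv_eq_iff_eq_mul]
    calc a * b * a⁻¹ * b⁻¹ * w * (a * b * a⁻¹ * b⁻¹)⁻¹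
        = a * (b * (a⁻¹ * (b⁻¹ * w * b) * a) * b⁻¹) * a⁻¹ := by group
      _ = a * (a⁻¹ * w * a) * a⁻¹ := by rw [h4, h3 _ (by simpa using hWn a⁻¹ (inv_mem ha) w hw)]
      _ = w := by group
  have hDV : ∀ d ∈ D, ∀ v ∈ V, d * v * d⁻¹ * v⁻¹ ∈ W := by
    let S : Subgroup G :=
      { carrier := {g | g ∈ M ∧ ∀ v ∈ V, g * v * g⁻¹ * v⁻¹ ∈ W}
        one_mem' := ⟨one_mem _, fun v hv => by simp⟩
        mul_mem' := fun {g g'} hg hg' => ⟨mul_mem hg.1 hg'.1, fun v hv => by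
          have hv' : g' * v * g'⁻¹ ∈ V := (Subgroup.mem_normalizer_iff.1 (hHV (hMH hg'.1)) v).1 hv
          rw [show g * g' * v * (g * g')⁻¹ * v⁻¹ = (g * (g' * v * g'⁻¹) * g⁻¹ * (g' * v * g'⁻¹)⁻¹) *
            (g' * v * g'⁻¹ * v⁻¹) by group]
          exact mul_mem (hg.2 _ hv') (hg'.2 v hv)⟩
        inv_mem' := fun {g} hg => ⟨inv_mem hg.1, fun v hv => by
          have hv' : g⁻¹ * v * g ∈ V := by
            simpa using (Subgroup.mem_normalizer_iff.1 (hHV (hMH (inv_mem hg.1))) v).1 hv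
          have := inv_mem (hg.2 _ hv')
          rw [show g⁻¹ * v * g⁻¹⁻¹ * v⁻¹ = (g * (g⁻¹ * v * g) * g⁻¹ * (g⁻¹ * v * g)⁻¹)⁻¹ by group]
          exact this⟩ }
    have hMW : ∀ g ∈ M, ∀ w ∈ W, g * w * g⁻¹ ∈ W := by
      have hle : M ≤ Subgroup.normalizer (W : Set G) := sup_le (Subgroup.normalizer_commutator_ge_right V E₁)
        (hE₂W.trans (Subgroup.centralizer_le_normalizer (W : Set G)))
      exact fun g hg w hw => (Subgroup.mem_normalizer_iff.1 (hle hg) w).1 hw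
    have hE₁S : E₁ ≤ S := fun e he => ⟨Subgroup.mem_sup_left he, fun v hv => by
      have h5 := inv_mem (Subgroup.commutator_mem_commutator hv he : ⁅v, e⁆ ∈ W)
      rwa [commutatorElement_inv, commutatorElement_def] at h5⟩
    have hSnorm : ∀ g ∈ M, ∀ x ∈ S, g * x * g⁻¹ ∈ S := fun g hg x hx =>
      ⟨mul_mem (mul_mem hg hx.1) (inv_mem hg), fun v hv => by
        have hv' : g⁻¹ * v * g ∈ V := by
          simpa using (Subgroup.mem_normalizer_iff.1 (hHV (hMH (inv_mem hg))) v).1 hv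
        have := hMW g hg _ (hx.2 _ hv')
        rw [show g * x * g⁻¹ * v * (g * x * g⁻¹)⁻¹ * v⁻¹ = g * (x * (g⁻¹ * v * g) * x⁻¹ * (g⁻¹ * v * g)⁻¹) * g⁻¹ by
          group]
        exact this⟩
    have hDS : D ≤ S := by
      rw [hD, Subgroup.commutator_le]
      intro a ha b hb
      rw [commutatorElement_def, show a * b * a⁻¹ * b⁻¹ = a * (b * a⁻¹ * b⁻¹) by group]
      exact mul_mem (hE₁S ha) (hSnorm b (Subgroup.mem_sup_right hb) _ (inv_mem (hE₁S ha)))
    exact fun d hd => (hDS hd).2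
  have hexp : ∀ d ∈ D, d ^ p = 1 := by
    intro d hd
    refine Subgroup.mem_bot.1 (hf.le ⟨pow_mem (hMH (hDM hd)) p, Subgroup.mem_centralizer_iff.2 fun v hv => ?_⟩)
    set w := d * v * d⁻¹ * v⁻¹ with hw
    have hwW : w ∈ W := hDV d hd v hv
    have hdw : d * w * d⁻¹ = w := by
      rw [← Subgroup.mem_centralizer_iff.1 (hDW hd) w hwW, mul_inv_cancel_right]
    have hpow : ∀ n : ℕ, d ^ n * v * (d ^ n)⁻¹ = w ^ n * v := by
      intro n
      induction n with
      | zero => simp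
      | succ n ih =>
        calc d ^ (n + 1) * v * (d ^ (n + 1))⁻¹ = d * (d ^ n * v * (d ^ n)⁻¹) * d⁻¹ := by rw [pow_succ']; group
          _ = (d * w ^ n * d⁻¹) * (d * v * d⁻¹) := by rw [ih]; group
          _ = w ^ n * (w * v) := by rw [← conj_pow, hdw, hw, inv_mul_cancel_right]
          _ = w ^ (n + 1) * v := by rw [← mul_assoc, ← pow_succ]
    have h6 := hpow p
    rw [hV.2 w (hWV hwW), one_mul, mul_inv_eq_iff_eq_mul] at h6
    exact h6.symm
  have hDp : IsPGroup p D := fun d => ⟨1, Subtype.ext (by simpa using hexp d d.2)⟩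
  have hle : M ≤ Subgroup.normalizer (D : Set G) :=
    sup_le (Subgroup.normalizer_commutator_ge_left _ _) (Subgroup.normalizer_commutator_ge_right _ _)
  have hMsub : (M.subgroupOf H).IsSubnormal := by
    rw [hM, Subgroup.subgroupOf_sup h₁ h₂]
    exact Cfsg.Lib.SubnormalJoin.isSubnormal_join hs₁ hs₂
  have hnorm : ((D.subgroupOf H).subgroupOf (M.subgroupOf H)).Normal := by
    refine ⟨fun x hx g => ?_⟩
    simp only [Subgroup.mem_subgroupOf] at hx ⊢
    push_cast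
    exact (Subgroup.mem_normalizer_iff.1 (hle (Subgroup.mem_subgroupOf.1 g.2)) _).1 hx
  have hDsub := Cfsg.Lib.Core.isSubnormal_of_normal_subgroupOf
    (show D.subgroupOf H ≤ M.subgroupOf H from fun x hx => hDM hx) hMsub hnorm
  have h7 := Cfsg.Lib.Core.le_pCore_of_isSubnormal hDsub (hDp.of_equiv (Subgroup.subgroupOfEquivOfLe (hDM.trans hMH)).symm)
  intro d hd
  exact ⟨⟨d, hMH (hDM hd)⟩, h7 hd, rfl⟩

end Cfsg.Agent.S0597
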