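import Cfsg.Statements.S0599
import Cfsg.Agent.Lib.Local.TimmesfeldReplacement
import Cfsg.Agent.Lib.PGroup.Basic

set_option autoImplicit false
open Cfsg

namespace Cfsg.Agent.S0599

open Subgroup
open scoped commutatorElement

/-- The Timmesfeld replacement Theorem: replacing a best offender A by C_A([U, A]) gives a best offender with fixed points [U, A]C_V(A), still nontrivial on V if A was. -/
theorem result {G : Type*} [Group G] [Finite G] {p : ℕ} [Fact p.Prime] (V A : Subgroup G) (hV : Cfsg.IsElementaryAbelian p V) (hAV : A ≤ Subgroup.normalizer (V : Set G)) (hA : Cfsg.IsBestOffenderOn p V A) (U : Subgroup G) (hU : U ≤ V) : Cfsg.IsBestOffenderOn p V (A ⊓ Subgroup.centralizer ((⁅U, A⁆ : Subgroup G) : Set G)) ∧ V ⊓ Subgroup.centralizer ((A ⊓ Subgroup.centralizer ((⁅U, A⁆ : Subgroup G) : Set G) : Subgroup G) : Set G) = ⁅U, A⁆ ⊔ (V ⊓ Subgroup.centralizer (A : Set G)) ∧ (⁅V, A⁆ ≠ ⊥ → ⁅V, A ⊓ Subgroup.centralizer ((⁅U, A⁆ : Subgroup G) : Set G)⁆ ≠ ⊥) := by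
  haveI := hV.1
  obtain ⟨hmax, hab, hpow⟩ := hA
  obtain ⟨hfix, hcard⟩ := Cfsg.Lib.Local.Timmesfeld.replacement V A hAV hab hmax hU
  set X := ⁅U, A⁆ with hX
  set B := A ⊓ centralizer (X : Set G) with hB
  refine ⟨⟨fun C hC => (hmax C (hC.trans inf_le_left)).trans hcard.le,
    (commutator_mono inf_le_left inf_le_left).trans hab, fun a ha => hpow a ha.1⟩, hfix,
    fun hne h0 => hne ?_⟩
  have hVC : V ≤ centralizer (B : Set G) := commutator_eq_bot_iff_le_centralizer.1 h0
  set F := V ⊓ centralizer (A : Set G) with hF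
  have hVeq : V = X ⊔ F := by rw [← hfix, inf_eq_left.2 hVC]
  set Y := ⁅V, A⁆ with hY
  have hYV : Y ≤ V := Subgroup.le_normalizer_iff_commutator_le_left.1 hAV
  by_contra hYne
  -- `A = S C_A(V)` for a Sylow `p`-subgroup `S` of `A`
  obtain ⟨S⟩ : Nonempty (Sylow p A) := inferInstance
  set S' := (S : Subgroup A).map A.subtype with hS'
  set C := A ⊓ centralizer (V : Set G) with hC
  have hAS : A ≤ S' ⊔ C := by
    let C' := C.subgroupOf A
    haveI : C'.Normal := ⟨fun c hc a => by
      rw [mem_subgroupOf] at hc ⊢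
      refine ⟨(a * c * a⁻¹).2, ?_⟩
      refine mem_centralizer_iff.2 fun v hv => ?_
      have h1 : (a : G)⁻¹ * v * a ∈ V := by
        simpa using (mem_normalizer_iff.1 (hAV (A.inv_mem a.2)) v).1 hv
      have h2 := mem_centralizer_iff.1 hc.2 _ h1
      show v * ((a : G) * c * (a : G)⁻¹) = (a : G) * c * (a : G)⁻¹ * v
      calc v * ((a : G) * c * (a : G)⁻¹) = a * ((a : G)⁻¹ * v * a * c) * (a : G)⁻¹ := by group
        _ = (a : G) * c * (a : G)⁻¹ * v := by rw [h2]; group⟩
    have hq : IsPGroup p (A ⧸ C') := by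
      intro q
      obtain ⟨a, rfl⟩ := QuotientGroup.mk_surjective q
      refine ⟨1, ?_⟩
      rw [pow_one, ← QuotientGroup.mk_pow, QuotientGroup.eq_one_iff]
      exact mem_subgroupOf.2 ⟨(a ^ p).2, by simpa using hpow a a.2⟩
    obtain ⟨k, hk⟩ := IsPGroup.iff_card.1 hq
    have htop : (S : Subgroup A) ⊔ C' = ⊤ := by
      refine index_eq_one.1 (Nat.eq_one_of_dvd_coprimes ?_ (index_dvd_of_le le_sup_left)
        ((index_dvd_of_le le_sup_right).trans (dvd_of_eq hk)))
      exact Nat.Coprime.pow_right _ (Nat.Coprime.symm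
        ((Nat.Prime.coprime_iff_not_dvd Fact.out).2 S.not_dvd_index))
    have := congrArg (Subgroup.map A.subtype) htop
    rw [Subgroup.map_sup, ← MonoidHom.range_eq_map, range_subtype,
      map_subgroupOf_eq_of_le inf_le_left] at this
    exact this.ge
  have hS'p : IsPGroup p S' := S.2.map _
  have hS'A : S' ≤ A := map_subtype_le _
  have cV : ∀ {x y : G}, x ∈ V → y ∈ V → x * y = y * x := fun hx hy =>
    congrArg Subtype.val (hV.1.is_comm.comm ⟨_, hx⟩ ⟨_, hy⟩)
  have hmove : ∀ u ∈ Y, ∀ a ∈ A, a * u * a⁻¹ ∈ Y := by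
    intro u hu a ha
    have e : a * u * a⁻¹ = u * ⁅u⁻¹, a⁆ := by simp only [commutatorElement_def]; group
    rw [e]
    exact mul_mem hu (commutator_mem_commutator (inv_mem (hYV hu)) ha)
  have hYS : Y ≤ ⁅Y, S'⁆ := by
    conv_lhs => rw [hY]
    refine commutator_le.2 fun v hv a ha => ?_
    rw [hVeq, ← SetLike.mem_coe, coe_mul_of_right_le_normalizer_left] at hv
    · obtain ⟨x, hx, f, hf, rfl⟩ := hv
      have hxY : x ∈ Y := commutator_mono hU le_rfl hx
      have h2 : f * a = a * f := (mem_centralizer_iff.1 hf.2 a ha).symm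
      have h4 : ⁅x * f, a⁆ = ⁅x, a⁆ := by
        simp only [commutatorElement_def]
        calc x * f * a * (x * f)⁻¹ * a⁻¹ = x * (f * a) * f⁻¹ * x⁻¹ * a⁻¹ := by group
          _ = x * a * x⁻¹ * a⁻¹ := by rw [h2]; group
      rw [h4]
      have ha' := hAS ha
      rw [← SetLike.mem_coe, coe_mul_of_left_le_normalizer_right] at ha'
      · obtain ⟨s, hs, c, hc, rfl⟩ := ha'
        have h5 : ⁅x, s * c⁆ = ⁅x, s⁆ := by
          have h6 := mem_centralizer_iff.1 hc.2 _ (inv_mem (hYV hxY))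
          simp only [commutatorElement_def]
          calc x * (s * c) * x⁻¹ * (s * c)⁻¹ = x * s * (c * x⁻¹) * c⁻¹ * s⁻¹ := by group
            _ = x * s * x⁻¹ * s⁻¹ := by rw [← h6]; group
        rw [h5]
        exact commutator_mem_commutator hxY hs
      · intro s hs
        refine mem_normalizer_fintype fun c hc =>
          ⟨A.mul_mem (A.mul_mem (hS'A hs) hc.1) (A.inv_mem (hS'A hs)), ?_⟩
        refine mem_centralizer_iff.2 fun w hw => ?_
        have h1 : s⁻¹ * w * s ∈ V := by
          simpa using (mem_normalizer_iff.1 (hAV (A.inv_mem (hS'A hs))) w).1 hw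
        have h2 := mem_centralizer_iff.1 hc.2 _ h1
        calc w * (s * c * s⁻¹) = s * (s⁻¹ * w * s * c) * s⁻¹ := by group
          _ = s * c * s⁻¹ * w := by rw [h2]; group
    · intro f hf
      refine mem_normalizer_fintype fun x hx => ?_
      have : f * x = x * f := cV hf.1 ((commutator_mono hU le_rfl).trans hYV hx)
      rw [this, mul_inv_cancel_right]; exact hx
  exact (Cfsg.Lib.PGroup.commutator_lt_of_isPGroup
    (Cfsg.Lib.PGroup.isPGroup_of_isElementaryAbelian
      (Cfsg.Lib.PGroup.isElementaryAbelian_of_le hV hYV))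
    hS'p (fun s hs => mem_normalizer_fintype fun u hu => hmove u hu s (hS'A hs)) hYne).not_ge hYS

end Cfsg.Agent.S0599
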