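import Cfsg.Statements.S0607
import Cfsg.Agent.Lib.Local.TimmesfeldReplacement
import Cfsg.Agent.Lib.PGroup.Basic

set_option autoImplicit false
open Cfsg

namespace Cfsg.Agent.S0607

open Subgroup
open scoped commutatorElement

theorem isEA_sup {G : Type*} [Group G] {p : ℕ} {B W : Subgroup G}
    (hB : Cfsg.IsElementaryAbelian p B) (hW : Cfsg.IsElementaryAbelian p W)
    (h : W ≤ centralizer (B : Set G)) : Cfsg.IsElementaryAbelian p (B ⊔ W) := by
  have hc : IsMulCommutative (B ⊔ W : Subgroup G) := by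
    rw [Subgroup.sup_eq_closure]
    refine Subgroup.isMulCommutative_closure ?_
    rintro x (hx | hx) y (hy | hy)
    · exact congrArg Subtype.val (hB.1.is_comm.comm ⟨x, hx⟩ ⟨y, hy⟩)
    · exact mem_centralizer_iff.1 (h hy) x hx
    · exact (mem_centralizer_iff.1 (h hx) y hy).symm
    · exact congrArg Subtype.val (hW.1.is_comm.comm ⟨x, hx⟩ ⟨y, hy⟩)
  refine ⟨hc, fun x hx => ?_⟩
  rw [Subgroup.sup_eq_closure] at hx
  have key : x ∈ B ⊔ W ∧ x ^ p = 1 := by
    induction hx using Subgroup.closure_induction with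
    | mem y hy =>
      rcases hy with hy | hy
      · exact ⟨mem_sup_left hy, hB.2 y hy⟩
      · exact ⟨mem_sup_right hy, hW.2 y hy⟩
    | one => exact ⟨one_mem _, one_pow _⟩
    | mul y z _ _ hy hz =>
      refine ⟨mul_mem hy.1 hz.1, ?_⟩
      have : Commute y z := congrArg Subtype.val (hc.is_comm.comm ⟨y, hy.1⟩ ⟨z, hz.1⟩)
      rw [this.mul_pow, hy.2, hz.2, one_mul]
    | inv y _ hy => exact ⟨inv_mem hy.1, by rw [inv_pow, hy.2, inv_one]⟩
  exact key.2

/-- The replacement Theorem for the Thompson subgroup: from A of maximal order among elementary abelian p-subgroups one obtains A₀ = [V, A] C_A([V, A]) of the same kind, quadratic on V and nontrivial on V when A is. -/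
theorem result {G : Type*} [Group G] [Finite G] {p : ℕ} [Fact p.Prime] (V : Subgroup G) [V.Normal] (hV : Cfsg.IsElementaryAbelian p V) (A : Subgroup G) (hA : A ∈ Cfsg.maxElementaryAbelianSubgroups p G) : (⁅V, A⁆ ⊔ (A ⊓ Subgroup.centralizer ((⁅V, A⁆ : Subgroup G) : Set G))) ∈ Cfsg.maxElementaryAbelianSubgroups p G ∧ ⁅⁅V, ⁅V, A⁆ ⊔ (A ⊓ Subgroup.centralizer ((⁅V, A⁆ : Subgroup G) : Set G))⁆, ⁅V, A⁆ ⊔ (A ⊓ Subgroup.centralizer ((⁅V, A⁆ : Subgroup G) : Set G))⁆ = ⊥ ∧ (⁅V, A⁆ ≠ ⊥ → ⁅V, ⁅V, A⁆ ⊔ (A ⊓ Subgroup.centralizer ((⁅V, A⁆ : Subgroup G) : Set G))⁆ ≠ ⊥) := by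
  haveI := hV.1
  obtain ⟨hAe, hAmax⟩ := hA
  have hAV : A ≤ normalizer (V : Set G) := by rw [normalizer_eq_top_iff.2 ‹V.Normal›]; exact le_top
  have hab : ⁅A, A⁆ ≤ centralizer (V : Set G) := by
    have : ⁅A, A⁆ = ⊥ := commutator_eq_bot_iff_le_centralizer.2 fun a ha =>
      mem_centralizer_iff.2 fun b hb => congrArg Subtype.val (hAe.1.is_comm.comm ⟨b, hb⟩ ⟨a, ha⟩)
    rw [this]; exact bot_le
  set F := V ⊓ centralizer (A : Set G) with hF
  -- elementary abelian subgroups `B C_V(B)`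
  have hea : ∀ B ≤ A, Cfsg.IsElementaryAbelian p (B ⊔ (V ⊓ centralizer (B : Set G))) := fun B hB =>
    isEA_sup (Cfsg.Lib.PGroup.isElementaryAbelian_of_le hAe hB)
      (Cfsg.Lib.PGroup.isElementaryAbelian_of_le hV inf_le_left) inf_le_right
  have hFA : F ≤ A := by
    have h := Subgroup.eq_of_le_of_card_ge (le_sup_left : A ≤ A ⊔ F) (hAmax _ (hea A le_rfl))
    exact (le_sup_right : F ≤ A ⊔ F).trans h.ge
  have hinf : ∀ B ≤ A, B ⊓ (V ⊓ centralizer (B : Set G)) ≤ F := by
    intro B hB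
    refine le_inf (inf_le_right.trans inf_le_left) ?_
    intro x hx
    exact mem_centralizer_iff.2 fun a ha =>
      congrArg Subtype.val (hAe.1.is_comm.comm ⟨a, ha⟩ ⟨x, hB hx.1⟩)
  have hmax : ∀ B ≤ A, Nat.card B * Nat.card (V ⊓ centralizer (B : Set G) : Subgroup G) ≤
      Nat.card A * Nat.card F := by
    intro B hB
    refine (Cfsg.Lib.Local.Timmesfeld.card_mul_card_le _ _).trans ?_
    rw [mul_comm (Nat.card A)]
    exact Nat.mul_le_mul (Subgroup.card_le_of_le (hinf B hB)) (hAmax _ (hea B hB))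
  obtain ⟨hfix, hcard⟩ := Cfsg.Lib.Local.Timmesfeld.replacement V A hAV hab hmax (le_refl V)
  set X := ⁅V, A⁆ with hX
  set B := A ⊓ centralizer (X : Set G) with hB
  have hXV : X ≤ V := commutator_le_left V A
  have hFB : F ≤ B := le_inf hFA fun f hf => mem_centralizer_iff.2 fun x hx =>
    congrArg Subtype.val (hV.1.is_comm.comm ⟨x, hXV hx⟩ ⟨f, hf.1⟩)
  have hA0 : X ⊔ B = B ⊔ (V ⊓ centralizer (B : Set G)) := by
    rw [hfix, sup_left_comm, sup_eq_left.2 hFB]
  have hEA0 : Cfsg.IsElementaryAbelian p (X ⊔ B) := hA0 ▸ hea B inf_le_left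
  have hge : Nat.card A ≤ Nat.card (X ⊔ B : Subgroup G) := by
    have h1 := Cfsg.Lib.Local.Timmesfeld.card_mul_card_le B (V ⊓ centralizer (B : Set G))
    rw [← hcard, ← hA0, mul_comm (Nat.card A)] at h1
    exact Nat.le_of_mul_le_mul_left
      (h1.trans (Nat.mul_le_mul_right _ (Subgroup.card_le_of_le (hinf B inf_le_left)))) Nat.card_pos
  refine ⟨⟨hEA0, fun C hC => (hAmax C hC).trans hge⟩, ?_, fun hne h0 => hne ?_⟩
  · rw [commutator_eq_bot_iff_le_centralizer]
    have hle : ⁅V, X ⊔ B⁆ ≤ X ⊔ B := by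
      refine le_trans ?_ (le_sup_left : X ≤ X ⊔ B)
      refine commutator_le.2 fun v hv y hy => ?_
      rw [← SetLike.mem_coe, coe_mul_of_right_le_normalizer_left] at hy
      · obtain ⟨x, hx, b, hb, rfl⟩ := hy
        have h1 : ⁅v, b⁆ ∈ X := commutator_mem_commutator hv hb.1
        have h2 : x * v = v * x := congrArg Subtype.val (hV.1.is_comm.comm ⟨x, hXV hx⟩ ⟨v, hv⟩)
        have h3 : x * ⁅v, b⁆ = ⁅v, b⁆ * x :=
          congrArg Subtype.val (hV.1.is_comm.comm ⟨x, hXV hx⟩ ⟨⁅v, b⁆, hXV h1⟩)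
        have h4 : ⁅v, x * b⁆ = ⁅v, b⁆ := by
          simp only [commutatorElement_def] at h3 ⊢
          calc v * (x * b) * v⁻¹ * (x * b)⁻¹ = (v * x) * b * v⁻¹ * b⁻¹ * x⁻¹ := by group
            _ = x * (v * b * v⁻¹ * b⁻¹) * x⁻¹ := by rw [← h2]; group
            _ = v * b * v⁻¹ * b⁻¹ := by rw [h3, mul_inv_cancel_right]
        rw [h4]
        exact h1
      · exact fun b hb => by
          refine mem_normalizer_fintype fun x hx => ?_
          have := mem_centralizer_iff.1 hb.2 x hx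
          rw [← this, mul_inv_cancel_right]; exact hx
    exact hle.trans fun x hx => mem_centralizer_iff.2 fun y hy =>
      congrArg Subtype.val (hEA0.1.is_comm.comm ⟨y, hy⟩ ⟨x, hx⟩)
  · by_contra hXne
    have hVC : V ≤ centralizer (B : Set G) :=
      (commutator_eq_bot_iff_le_centralizer.1 h0).trans
        (centralizer_le (by exact_mod_cast (le_sup_right : B ≤ X ⊔ B)))
    have hVeq : V = X ⊔ F := by rw [← hfix, inf_eq_left.2 hVC]
    have hXA : X ≤ ⁅X, A⁆ := by
      conv_lhs => rw [hX]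
      refine commutator_le.2 fun v hv a ha => ?_
      rw [hVeq, ← SetLike.mem_coe, coe_mul_of_right_le_normalizer_left] at hv
      · obtain ⟨x, hx, f, hf, rfl⟩ := hv
        have h2 : f * a = a * f := (mem_centralizer_iff.1 hf.2 a ha).symm
        have h4 : ⁅x * f, a⁆ = ⁅x, a⁆ := by
          simp only [commutatorElement_def]
          calc x * f * a * (x * f)⁻¹ * a⁻¹ = x * (f * a) * f⁻¹ * x⁻¹ * a⁻¹ := by group
            _ = x * a * x⁻¹ * a⁻¹ := by rw [h2]; group
        rw [h4]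
        exact commutator_mem_commutator hx ha
      · intro f hf
        refine mem_normalizer_fintype fun x hx => ?_
        have : f * x = x * f := congrArg Subtype.val (hV.1.is_comm.comm ⟨f, hf.1⟩ ⟨x, hXV hx⟩)
        rw [this, mul_inv_cancel_right]; exact hx
    have hXn : A ≤ normalizer (X : Set G) := by
      intro a ha
      refine mem_normalizer_fintype fun x hx => ?_
      have h1 : ⁅x, a⁆ ∈ X := commutator_mem_commutator (hXV hx) ha
      have e : a * x * a⁻¹ = x * ⁅x⁻¹, a⁆ := by simp only [commutatorElement_def]; group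
      rw [e]
      exact mul_mem hx (commutator_mem_commutator (inv_mem (hXV hx)) ha)
    exact (Cfsg.Lib.PGroup.commutator_lt_of_isPGroup
      (Cfsg.Lib.PGroup.isPGroup_of_isElementaryAbelian (Cfsg.Lib.PGroup.isElementaryAbelian_of_le hV hXV))
      (Cfsg.Lib.PGroup.isPGroup_of_isElementaryAbelian hAe) hXn hXne).not_ge hXA

end Cfsg.Agent.S0607
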