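import Cfsg.Statements.S0606
import Cfsg.Agent.S0607

set_option autoImplicit false
open Cfsg

namespace Cfsg.Agent.S0606

open Subgroup

/-- Elementary abelian p-subgroups of maximal order are best offenders on any normal elementary abelian p-subgroup. -/
theorem result {G : Type*} [Group G] [Finite G] {p : ℕ} [Fact p.Prime] (V : Subgroup G) [V.Normal] (hV : Cfsg.IsElementaryAbelian p V) (A : Subgroup G) (hA : A ∈ Cfsg.maxElementaryAbelianSubgroups p G) : Cfsg.IsBestOffenderOn p V A := by
  haveI := hV.1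
  obtain ⟨hAe, hAmax⟩ := hA
  have hcA : ∀ a ∈ A, ∀ x ∈ A, a * x = x * a := fun a ha x hx =>
    congrArg Subtype.val (hAe.1.is_comm.comm ⟨a, ha⟩ ⟨x, hx⟩)
  refine ⟨fun B hB => ?_, ?_, fun a ha => by rw [hAe.2 a ha]; exact one_mem _⟩
  · have hea := Cfsg.Agent.S0607.isEA_sup (Cfsg.Lib.PGroup.isElementaryAbelian_of_le hAe hB)
      (Cfsg.Lib.PGroup.isElementaryAbelian_of_le hV (inf_le_left : V ⊓ centralizer (B : Set G) ≤ V))
      inf_le_right
    refine (Cfsg.Lib.Local.Timmesfeld.card_mul_card_le _ _).trans ?_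
    rw [mul_comm (Nat.card A)]
    refine Nat.mul_le_mul (Subgroup.card_le_of_le (le_inf (inf_le_right.trans inf_le_left) ?_))
      (hAmax _ hea)
    exact fun x hx => mem_centralizer_iff.2 fun a ha => hcA a ha x (hB hx.1)
  · have : ⁅A, A⁆ = ⊥ := commutator_eq_bot_iff_le_centralizer.2 fun a ha =>
      mem_centralizer_iff.2 fun b hb => hcA b hb a ha
    rw [this]; exact bot_le

end Cfsg.Agent.S0606
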