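import Cfsg.Statements.S0609
import Cfsg.Agent.Lib.Thompson.Transport
import Cfsg.Agent.Lib.Sig.PConstrained

set_option autoImplicit false
open Cfsg

namespace Cfsg.Agent.S0609

open Subgroup

theorem lift_normalizer {G : Type*} [Group G] [Finite G] {p : ℕ} [Fact p.Prime] (N : Subgroup G)
    [N.Normal] (hN : (Nat.card N).Coprime p) {K : Subgroup G} (hK : IsPGroup p K)
    {y : G ⧸ N} (hy : y ∈ normalizer ((K.map (QuotientGroup.mk' N) : Subgroup (G ⧸ N)) : Set (G ⧸ N))) :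
    ∃ x ∈ normalizer (K : Set G), QuotientGroup.mk' N x = y := by
  obtain ⟨x, rfl⟩ := QuotientGroup.mk'_surjective N y
  set f := QuotientGroup.mk' N with hf
  have hker : f.ker = N := QuotientGroup.ker_mk' N
  have hB : K.map (MulAut.conj x).toMonoidHom ≤ N ⊔ K := by
    rw [sup_comm, ← hker, ← Subgroup.comap_map_eq, ← map_le_iff_le_comap]
    rintro _ ⟨_, ⟨k, hk, rfl⟩, rfl⟩
    have := (mem_normalizer_iff.mp hy (f k)).mp ⟨k, hk, rfl⟩
    simpa using this
  obtain ⟨j, hj⟩ := IsPGroup.iff_card.mp hK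
  have hKsol : Group.IsSolvable K := by
    have := hK.isNilpotent
    infer_instance
  obtain ⟨n, hn, hKn⟩ := Cfsg.Lib.Coprime.exists_conj_of_coprime N K _
    (by rw [normalizer_eq_top]; exact le_top)
    (by rw [hj]; exact (hN.pow_right j).symm) (Or.inl hKsol) hB
    (Cfsg.Lib.Coprime.card_map_conj K x)
  refine ⟨n⁻¹ * x, Subgroup.mem_normalizer_iff_map_conj_eq.mpr ?_, by
    rw [map_mul, map_inv, (hker.ge hn : n ∈ f.ker) |> f.mem_ker.mp, inv_one, one_mul]⟩
  show K.map (MulAut.conj (n⁻¹ * x)).toMonoidHom = K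
  rw [← Cfsg.Lib.Coprime.map_conj_conj, hKn, Cfsg.Lib.Coprime.map_conj_conj, inv_mul_cancel,
    Cfsg.Lib.Coprime.map_conj_one]

/-- Thompson factorizability passes to and from the quotient by the largest normal subgroup of order prime to p. -/
theorem result {G : Type*} [Group G] [Finite G] {p : ℕ} [Fact p.Prime] : Cfsg.IsThompsonFactorizable p G ↔ Cfsg.IsThompsonFactorizable p (G ⧸ Cfsg.pPrimeCore p G) := by
  set N := Cfsg.pPrimeCore p G with hN
  set f := QuotientGroup.mk' N with hf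
  have hcop : (Nat.card N).Coprime p := Cfsg.Lib.Core.pPrimeCore_coprime p G
  have hsurj : Function.Surjective f := QuotientGroup.mk'_surjective N
  have hinj : ∀ S : Sylow p G, Set.InjOn f (S : Subgroup G) := fun S x hx y hy h => by
    have h1 : x * y⁻¹ ∈ (S : Subgroup G) ⊓ N := mem_inf.2 ⟨Subgroup.mul_mem _ hx (Subgroup.inv_mem _ hy), by
      rw [← QuotientGroup.eq_one_iff, QuotientGroup.mk_mul, QuotientGroup.mk_inv]
      exact mul_inv_eq_one.2 h⟩
    rw [Cfsg.Lib.Sig.disjoint_of_isPGroup_coprime S.2 hcop, mem_bot, mul_inv_eq_one] at h1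
    exact h1
  have hJ : ∀ S : Sylow p G, (Cfsg.thompsonSubgroupOf p (S : Subgroup G)).map f =
      Cfsg.thompsonSubgroupOf p ((S : Subgroup G).map f) := fun S =>
    Cfsg.Lib.Thompson.map_thompsonSubgroupOf f _ (hinj S)
  have hΩ : ∀ S : Sylow p G,
      (Cfsg.omegaOne p ((S : Subgroup G) ⊓ centralizer ((S : Subgroup G) : Set G))).map f =
        Cfsg.omegaOne p ((S : Subgroup G).map f ⊓
          centralizer (((S : Subgroup G).map f : Subgroup (G ⧸ N)) : Set (G ⧸ N))) := fun S => by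
    have hz : ((S : Subgroup G) ⊓ centralizer ((S : Subgroup G) : Set G)).map f =
        (S : Subgroup G).map f ⊓
          centralizer (((S : Subgroup G).map f : Subgroup (G ⧸ N)) : Set (G ⧸ N)) :=
      Cfsg.Lib.Thompson.map_zenter f _ (hinj S)
    rw [Cfsg.omegaOne, Cfsg.omegaOne, MonoidHom.map_closure]
    refine congrArg Subgroup.closure ?_
    ext y
    constructor
    · rintro ⟨x, ⟨hx, hxp⟩, rfl⟩
      exact ⟨hz.le ⟨x, hx, rfl⟩, by rw [← map_pow, hxp, map_one]⟩
    · rintro ⟨hy, hyp⟩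
      obtain ⟨x, hx, rfl⟩ := hz.ge hy
      exact ⟨x, ⟨hx, hinj S (pow_mem hx.1 p) (one_mem _) (by rw [map_pow, hyp, map_one])⟩, rfl⟩
  have hbot : Cfsg.pPrimeCore p (G ⧸ N) = ⊥ := Cfsg.Lib.Core.pPrimeCore_quotient_eq_bot
  have hΩp : ∀ S : Sylow p G,
      IsPGroup p (Cfsg.omegaOne p ((S : Subgroup G) ⊓ centralizer ((S : Subgroup G) : Set G))) :=
    fun S => S.2.to_le ((Subgroup.closure_le _).2 fun x hx => hx.1.1)
  constructor
  · intro h S' g'
    obtain ⟨S, rfl⟩ := Sylow.mapSurjective_surjective hsurj p S'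
    obtain ⟨g, rfl⟩ := hsurj g'
    obtain ⟨x, hx, c, hc, n, hn, rfl⟩ := h S g
    refine ⟨1, one_mem _, f c, ?_, f n, ?_, ?_⟩
    · rw [Sylow.coe_mapSurjective, ← hΩ S, mem_centralizer_iff]
      rintro _ ⟨z, hz, rfl⟩
      rw [← map_mul, ← map_mul, mem_centralizer_iff.1 hc z hz]
    · rw [Sylow.coe_mapSurjective, ← hJ S]
      exact le_normalizer_map f ⟨n, hn, rfl⟩
    · rw [map_mul, map_mul, (QuotientGroup.eq_one_iff x).2 hx |> (fun e => (e : f x = 1))]
  · intro h S g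
    obtain ⟨x', hx', c', hc', n', hn', hg⟩ := h (S.mapSurjective hsurj) (f g)
    rw [hbot, mem_bot] at hx'
    rw [Sylow.coe_mapSurjective, ← hΩ S, Cfsg.Lib.Sig.centralizer_map_mk' N hcop (hΩp S)] at hc'
    rw [Sylow.coe_mapSurjective, ← hJ S] at hn'
    obtain ⟨c, hc, rfl⟩ := hc'
    obtain ⟨n, hn, rfl⟩ := lift_normalizer N hcop
      (S.2.to_le (Cfsg.Lib.Thompson.thompsonSubgroupOf_le _)) hn'
    refine ⟨g * (c * n)⁻¹, ?_, c, hc, n, hn, by group⟩
    rw [← QuotientGroup.eq_one_iff, QuotientGroup.mk_mul, QuotientGroup.mk_inv, QuotientGroup.mk_mul,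
      mul_inv_eq_one]
    rw [hx', one_mul] at hg
    exact hg

end Cfsg.Agent.S0609
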