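import Cfsg.Statements.S0615
import Cfsg.Agent.Lib.Local.FF.Block
import Cfsg.Agent.Lib.Solv.SubnormalJoin

set_option autoImplicit false
open Cfsg

namespace Cfsg.Agent.S0615

open Subgroup
open scoped commutatorElement

universe u

variable {G : Type u} [Group G] [Finite G] {p : ℕ}

omit [Finite G] in
theorem vcomm {V : Subgroup G} (hV : Cfsg.IsElementaryAbelian p V) {a b : G} (ha : a ∈ V) (hb : b ∈ V) :
    a * b = b * a := (Cfsg.Lib.Thompson.isEA_commute hV ha hb).eq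

/-- A faithful group acting trivially on the factors of a series of length two is a `p`-group. -/
theorem isPGroup_of_stab [Fact p.Prime] {V U D : Subgroup G} (hV : Cfsg.IsElementaryAbelian p V)
    (hUV : U ≤ V) (hfaith : D ⊓ centralizer (V : Set G) = ⊥) (h1 : ∀ d ∈ D, ∀ v ∈ V, ⁅v, d⁆ ∈ U)
    (h2 : ∀ d ∈ D, ∀ u ∈ U, d * u * d⁻¹ = u) : IsPGroup p D := by
  intro d
  refine ⟨1, Subtype.ext (mem_bot.1 (hfaith.le ⟨(d ^ p ^ 1).2, mem_centralizer_iff.2 fun v hv => ?_⟩))⟩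
  simp only [pow_one, SubmonoidClass.coe_pow]
  have key : ∀ n : ℕ, (d : G) ^ n * v⁻¹ * ((d : G) ^ n)⁻¹ = v⁻¹ * ⁅v, (d : G)⁆ ^ n := by
    intro n
    induction n with
    | zero => simp
    | succ n ih =>
      have hc := h2 d d.2 _ (h1 d d.2 v hv)
      calc (d : G) ^ (n + 1) * v⁻¹ * ((d : G) ^ (n + 1))⁻¹
          = (d : G) * ((d : G) ^ n * v⁻¹ * ((d : G) ^ n)⁻¹) * (d : G)⁻¹ := by rw [pow_succ']; group
        _ = (d : G) * v⁻¹ * (d : G)⁻¹ * ((d : G) * ⁅v, (d : G)⁆ ^ n * (d : G)⁻¹) := by rw [ih]; group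
        _ = (d : G) * v⁻¹ * (d : G)⁻¹ * ⁅v, (d : G)⁆ ^ n := by rw [← conj_pow, hc]
        _ = v⁻¹ * (⁅v, (d : G)⁆ * ⁅v, (d : G)⁆ ^ n) := by
          rw [← mul_assoc v⁻¹, show v⁻¹ * ⁅v, (d : G)⁆ = (d : G) * v⁻¹ * (d : G)⁻¹ by
            simp only [commutatorElement_def]; group]
        _ = _ := by rw [pow_succ']
  have h := key p
  rw [hV.2 _ (hUV (h1 d d.2 v hv)), mul_one] at h
  have h' : (d : G) ^ p * v * ((d : G) ^ p)⁻¹ = v := by
    have := congrArg (·⁻¹) h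
    simpa [mul_assoc] using this
  exact (mul_inv_eq_iff_eq_mul.1 h').symm

/-- No nontrivial subnormal `p`-subgroup. -/
def NoP (p : ℕ) (E : Subgroup G) : Prop :=
  ∀ D : Subgroup G, D ≤ E → (D.subgroupOf E).IsSubnormal → IsPGroup p D → D = ⊥

omit [Finite G] in
theorem subnormal_of_le {D E' E : Subgroup G} (hD : D ≤ E') (hE : E' ≤ E)
    (h : (D.subgroupOf E).IsSubnormal) : (D.subgroupOf E').IsSubnormal := by
  have := h.comap (inclusion hE)
  convert this using 1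
  ext ⟨y, hy⟩; rfl

omit [Finite G] in
theorem subnormal_trans {D E' E : Subgroup G} (hD : D ≤ E') (hE : E' ≤ E)
    (h1 : (D.subgroupOf E').IsSubnormal) (h2 : (E'.subgroupOf E).IsSubnormal) :
    (D.subgroupOf E).IsSubnormal := by
  refine Subgroup.IsSubnormal.trans (comap_mono hD) ?_ h2
  have := h1.comap (subgroupOfEquivOfLe hE).toMonoidHom
  exact this

/-- The conclusions. -/
def Concl (V E₁ E₂ : Subgroup G) : Prop :=
  ⁅E₁, E₂⁆ = ⊥ ∧ E₁ ⊓ E₂ = ⊥ ∧ ⁅V, E₁⁆ ⊓ ⁅V, E₂⁆ = ⊥ ∧ ⁅V, E₁ ⊔ E₂⁆ = ⁅V, E₁⁆ ⊔ ⁅V, E₂⁆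

theorem Concl.symm {V E₁ E₂ : Subgroup G} (h : Concl V E₂ E₁) : Concl V E₁ E₂ :=
  ⟨by rw [commutator_comm]; exact h.1, by rw [inf_comm]; exact h.2.1, by rw [inf_comm]; exact h.2.2.1,
    by rw [sup_comm, sup_comm ⁅V, E₁⁆]; exact h.2.2.2⟩

theorem of_invariant [Fact p.Prime] {V E₁ E₂ : Subgroup G} (hV : Cfsg.IsElementaryAbelian p V)
    (hEV : E₁ ⊔ E₂ ≤ normalizer (V : Set G)) (hf : (E₁ ⊔ E₂) ⊓ centralizer (V : Set G) = ⊥)
    (hs₁ : (E₁.subgroupOf (E₁ ⊔ E₂)).IsSubnormal) (hs₂ : (E₂.subgroupOf (E₁ ⊔ E₂)).IsSubnormal)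
    (hP : NoP p (E₁ ⊔ E₂))
    (hirr₂ : ∀ U : Subgroup G, U ≤ ⁅V, E₂⁆ → E₂ ≤ normalizer (U : Set G) → U = ⊥ ∨ U = ⁅V, E₂⁆)
    (h21 : ¬ ⁅V, E₂⁆ ≤ ⁅V, E₁⁆) (hinv : E₂ ≤ normalizer ((⁅V, E₁⁆ : Subgroup G) : Set G)) :
    Concl V E₁ E₂ := by
  have h1V : ⁅V, E₁⁆ ≤ V := Cfsg.Lib.Coprime.commutator_le_of_le_normalizer (le_sup_left.trans hEV)
  have h2V : ⁅V, E₂⁆ ≤ V := Cfsg.Lib.Coprime.commutator_le_of_le_normalizer (le_sup_right.trans hEV)
  have hdis : ⁅V, E₁⁆ ⊓ ⁅V, E₂⁆ = ⊥ := by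
    refine (hirr₂ _ inf_le_right ?_).resolve_right fun h => h21 (h.ge.trans inf_le_left)
    exact le_normalizer_iff.mpr fun e he u hu => ⟨(mem_normalizer_iff.1 (hinv he) u).1 hu.1,
      (mem_normalizer_iff.1 (normalizer_commutator_ge_right V E₂ he) u).1 hu.2⟩
  have hcent : ∀ f ∈ E₂, ∀ w ∈ ⁅V, E₁⁆, f * w * f⁻¹ = w := by
    intro f hf' w hw
    have h : ⁅w, f⁆ ∈ ⁅V, E₁⁆ ⊓ ⁅V, E₂⁆ := ⟨by
      rw [commutatorElement_def, show w * f * w⁻¹ * f⁻¹ = w * (f * w⁻¹ * f⁻¹) by group]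
      exact mul_mem hw ((mem_normalizer_iff.1 (hinv hf') _).1 (inv_mem hw)),
      commutator_mem_commutator (h1V hw) hf'⟩
    rw [hdis, mem_bot, commutatorElement_eq_one_iff_mul_comm] at h
    rw [← h, mul_inv_cancel_right]
  have hn1 : E₁ ≤ normalizer ((⁅V, E₁⁆ : Subgroup G) : Set G) := normalizer_commutator_ge_right V E₁
  refine ⟨?_, ?_, hdis, ?_⟩
  · have hD : ⁅E₁, E₂⁆ ≤ E₁ ⊔ E₂ := (commutator_le.2 fun a ha b hb =>
      mul_mem (mul_mem (mul_mem (mem_sup_left ha) (mem_sup_right hb)) (inv_mem (mem_sup_left ha)))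
        (inv_mem (mem_sup_right hb)))
    haveI : ((⁅E₁, E₂⁆ : Subgroup G).subgroupOf (E₁ ⊔ E₂)).Normal :=
      (normal_subgroupOf_iff_le_normalizer hD).2
        (sup_le (normalizer_commutator_ge_left _ _) (normalizer_commutator_ge_right _ _))
    refine hP _ hD (Subgroup.Normal.isSubnormal inferInstance) ?_
    let K : Subgroup G :=
      { carrier := {g : G | g ∈ normalizer ((⁅V, E₁⁆ : Subgroup G) : Set G) ⊓ normalizer (V : Set G) ∧
          (∀ v ∈ V, ⁅v, g⁆ ∈ ⁅V, E₁⁆) ∧ ∀ u ∈ ⁅V, E₁⁆, g * u * g⁻¹ = u}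
        one_mem' := ⟨one_mem _, fun v _ => by simp, fun u _ => by simp⟩
        mul_mem' := fun {x y} hx hy => ⟨mul_mem hx.1 hy.1, fun v hv => by
          rw [show ⁅v, x * y⁆ = ⁅v, x⁆ * (x * ⁅v, y⁆ * x⁻¹) by simp only [commutatorElement_def]; group]
          exact mul_mem (hx.2.1 v hv) ((mem_normalizer_iff.1 hx.1.1 _).1 (hy.2.1 v hv)), fun u hu => by
          rw [show x * y * u * (x * y)⁻¹ = x * (y * u * y⁻¹) * x⁻¹ by group, hy.2.2 u hu, hx.2.2 u hu]⟩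
        inv_mem' := fun {x} hx => ⟨inv_mem hx.1, fun v hv => by
          rw [show ⁅v, x⁻¹⁆ = x⁻¹ * ⁅v, x⁆⁻¹ * x⁻¹⁻¹ by simp only [commutatorElement_def]; group]
          exact (mem_normalizer_iff.1 (inv_mem hx.1.1) _).1 (inv_mem (hx.2.1 v hv)), fun u hu => by
          conv_lhs => rw [← hx.2.2 u hu]
          group⟩ }
    have hK : ⁅E₁, E₂⁆ ≤ K := by
      refine commutator_le.2 fun e he f hf' => ⟨?_, fun v hv => ?_, fun u hu => ?_⟩
      · exact mem_inf.2 ⟨mul_mem (mul_mem (mul_mem (hn1 he) (hinv hf')) (inv_mem (hn1 he))) (inv_mem (hinv hf')),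
          hEV (hD (commutator_mem_commutator he hf'))⟩
      · have hconj : f * e⁻¹ * f⁻¹ ∈ normalizer ((⁅V, E₁⁆ : Subgroup G) : Set G) :=
          mul_mem (mul_mem (hinv hf') (inv_mem (hn1 he))) (inv_mem (hinv hf'))
        have hv' : f⁻¹ * v * f ∈ V := by
          simpa using (mem_normalizer_iff.1 (inv_mem (hEV (mem_sup_right hf'))) v).1 hv
        have h1 : ⁅v, f * e⁻¹ * f⁻¹⁆ ∈ ⁅V, E₁⁆ := by
          rw [show ⁅v, f * e⁻¹ * f⁻¹⁆ = f * ⁅f⁻¹ * v * f, e⁻¹⁆ * f⁻¹ by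
            simp only [commutatorElement_def]; group]
          exact (mem_normalizer_iff.1 (hinv hf') _).1 (commutator_mem_commutator hv' (inv_mem he))
        rw [show ⁅e, f⁆ = e * (f * e⁻¹ * f⁻¹) by simp only [commutatorElement_def]; group,
          show ⁅v, e * (f * e⁻¹ * f⁻¹)⁆ = ⁅v, e⁆ * (e * ⁅v, f * e⁻¹ * f⁻¹⁆ * e⁻¹) by
            simp only [commutatorElement_def]; group]
        exact mul_mem (commutator_mem_commutator hv he) ((mem_normalizer_iff.1 (hn1 he) _).1 h1)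
      · have hu' : e⁻¹ * u * e ∈ ⁅V, E₁⁆ := by
          simpa using (mem_normalizer_iff.1 (inv_mem (hn1 he)) u).1 hu
        have h1 : f⁻¹ * u * f = u := by
          conv_lhs => rw [← hcent f hf' u hu]
          group
        calc ⁅e, f⁆ * u * ⁅e, f⁆⁻¹ = e * (f * (e⁻¹ * (f⁻¹ * u * f) * e) * f⁻¹) * e⁻¹ := by
              simp only [commutatorElement_def]; group
          _ = u := by rw [h1, hcent f hf' _ hu']; group
    exact isPGroup_of_stab hV h1V (le_bot_iff.1 ((inf_le_inf_right _ hD).trans hf.le))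
      (fun d hd v hv => (hK hd).2.1 v hv) fun d hd u hu => (hK hd).2.2 u hu
  · refine hP _ (inf_le_left.trans le_sup_left) ?_ ?_
    · rw [show (E₁ ⊓ E₂).subgroupOf (E₁ ⊔ E₂) = E₁.subgroupOf _ ⊓ E₂.subgroupOf _ from comap_inf _ _ _]
      exact hs₁.inf hs₂
    · exact isPGroup_of_stab hV h1V
        (le_bot_iff.1 ((inf_le_inf_right _ (inf_le_left.trans le_sup_left)).trans hf.le))
        (fun d hd v hv => commutator_mem_commutator hv hd.1) fun d hd u hu => hcent d hd.2 u hu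
  · have hn : ∀ X, ⁅V, X⁆ ≤ ⁅V, E₁⁆ ⊔ ⁅V, E₂⁆ → X ≤ normalizer ((⁅V, E₁⁆ ⊔ ⁅V, E₂⁆ : Subgroup G) : Set G) :=
      fun X hX => Cfsg.Lib.Local.FF.le_normalizer_of_commutator_le
        ((commutator_mono (sup_le h1V h2V) le_rfl).trans hX)
    exact le_antisymm
      (Cfsg.Lib.Local.FF.commutator_sup_le (hn E₁ le_sup_left) (hn E₂ le_sup_right) le_sup_left le_sup_right)
      (sup_le (commutator_mono le_rfl le_sup_left) (commutator_mono le_rfl le_sup_right))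

theorem main [Fact p.Prime] {V : Subgroup G} (hV : Cfsg.IsElementaryAbelian p V) :
    ∀ (n : ℕ) (E₁ E₂ : Subgroup G), Nat.card ↥(E₁ ⊔ E₂) ≤ n →
      E₁ ⊔ E₂ ≤ normalizer (V : Set G) → (E₁ ⊔ E₂) ⊓ centralizer (V : Set G) = ⊥ →
      (E₁.subgroupOf (E₁ ⊔ E₂)).IsSubnormal → (E₂.subgroupOf (E₁ ⊔ E₂)).IsSubnormal → NoP p (E₁ ⊔ E₂) →
      (∀ U : Subgroup G, U ≤ ⁅V, E₁⁆ → E₁ ≤ normalizer (U : Set G) → U = ⊥ ∨ U = ⁅V, E₁⁆) →
      (∀ U : Subgroup G, U ≤ ⁅V, E₂⁆ → E₂ ≤ normalizer (U : Set G) → U = ⊥ ∨ U = ⁅V, E₂⁆) →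
      ¬ ⁅V, E₁⁆ ≤ ⁅V, E₂⁆ → ¬ ⁅V, E₂⁆ ≤ ⁅V, E₁⁆ → 2 < Nat.card E₁ → 2 < Nat.card E₂ → Concl V E₁ E₂ := by
  classical
  intro n
  induction n with
  | zero => intro E₁ E₂ h; have : 0 < Nat.card ↥(E₁ ⊔ E₂) := Nat.card_pos; omega
  | succ n ih =>
    intro E₁ E₂ hn hEV hf hs₁ hs₂ hP hi₁ hi₂ h12 h21 hc₁ hc₂
    by_cases ha : E₂ ≤ normalizer ((⁅V, E₁⁆ : Subgroup G) : Set G)
    · exact of_invariant hV hEV hf hs₁ hs₂ hP hi₂ h21 ha
    by_cases hb : E₁ ≤ normalizer ((⁅V, E₂⁆ : Subgroup G) : Set G)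
    · refine (of_invariant hV ?_ ?_ ?_ ?_ ?_ hi₁ h12 hb).symm <;> rw [sup_comm] <;> assumption
    exfalso
    -- the facts about a pair of distinct conjugates
    have pair : ∀ (A B : Subgroup G), A ⊔ B = E₁ ⊔ E₂ →
        (A.subgroupOf (E₁ ⊔ E₂)).IsSubnormal →
        (∀ U : Subgroup G, U ≤ ⁅V, A⁆ → A ≤ normalizer (U : Set G) → U = ⊥ ∨ U = ⁅V, A⁆) →
        2 < Nat.card A → ¬ B ≤ normalizer ((⁅V, A⁆ : Subgroup G) : Set G) →
        ∀ x ∈ B, (⁅V, A⁆).map (MulAut.conj x).toMonoidHom ≠ ⁅V, A⁆ →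
          ⁅A, A.map (MulAut.conj x).toMonoidHom⁆ = ⊥ ∧
            ⁅V, A⁆ ⊓ (⁅V, A⁆).map (MulAut.conj x).toMonoidHom = ⊥ := by
      intro A B hAB hsA hiA hcA hBn x hx hne
      have hAle : A ≤ E₁ ⊔ E₂ := hAB ▸ le_sup_left
      have hxE : x ∈ E₁ ⊔ E₂ := hAB ▸ mem_sup_right hx
      set c := (MulAut.conj x).toMonoidHom with hc
      have hVx : V.map c = V := Cfsg.Lib.Core.map_conj_eq_of_mem_normalizer (hEV hxE)
      have hVA : ⁅V, A.map c⁆ = (⁅V, A⁆).map c := by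
        conv_lhs => rw [← hVx]
        rw [map_commutator]
      have hA'le : A.map c ≤ E₁ ⊔ E₂ := by
        rintro _ ⟨a, ha', rfl⟩
        exact mul_mem (mul_mem hxE (hAle ha')) (inv_mem hxE)
      set E := E₁ ⊔ E₂ with hEdef
      have hle : A ⊔ A.map c ≤ E := sup_le hAle hA'le
      have hsA' : ((A.map c).subgroupOf E).IsSubnormal := by
        have := hsA.map (f := (MulAut.conj (⟨x, hxE⟩ : E)).toMonoidHom) (MulEquiv.surjective _)
        convert this using 1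
        ext ⟨y, hy⟩
        constructor
        · rintro ⟨a, ha', hay⟩
          exact ⟨⟨a, hAle ha'⟩, ha', Subtype.ext hay⟩
        · rintro ⟨⟨a, _⟩, ha', hay⟩
          exact ⟨a, ha', congrArg Subtype.val hay⟩
      have hsub : ((A ⊔ A.map c).subgroupOf E).IsSubnormal := by
        rw [subgroupOf_sup hAle hA'le]
        exact Cfsg.Lib.SubnormalJoin.isSubnormal_join hsA hsA'
      have hlt : Nat.card ↥(A ⊔ A.map c) ≤ n := by
        rcases hsA.lt_normal with h | ⟨K, hK, hAK, hKlt⟩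
        · exfalso
          apply hBn
          refine le_trans ?_ (normalizer_commutator_ge_right V A)
          rw [subgroupOf_eq_top] at h
          exact le_trans (hAB ▸ le_sup_right) h
        · have hlt' : K.map E.subtype < E := by
            refine lt_of_le_of_ne (map_subtype_le _) fun e => hKlt.ne ?_
            rw [eq_top_iff]
            intro y _
            obtain ⟨z, hz, hzy⟩ := e.ge y.2
            rwa [← show z = y from Subtype.ext hzy]
          have hAKm : A ⊔ A.map c ≤ K.map E.subtype := by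
            refine sup_le (fun a ha' => ⟨⟨a, hAle ha'⟩, hAK ha', rfl⟩) ?_
            rintro _ ⟨a, ha', rfl⟩
            exact ⟨_, hK.conj_mem _ (hAK (show (⟨a, hAle ha'⟩ : E) ∈ A.subgroupOf E from ha')) ⟨x, hxE⟩, rfl⟩
          have h1 : Nat.card ↥(A ⊔ A.map c) < Nat.card E := by
            by_contra hge
            exact (hAKm.trans_lt hlt').ne (eq_of_le_of_card_ge hle (not_lt.1 hge))
          omega
      have hcard' : Nat.card (A.map c) = Nat.card A := card_map_of_injective (MulAut.conj x).injective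
      have heqc : Nat.card ↥((⁅V, A⁆).map c) = Nat.card ↥⁅V, A⁆ :=
        card_map_of_injective (MulAut.conj x).injective
      have res := ih A (A.map c) hlt (hle.trans hEV)
        (le_bot_iff.1 ((inf_le_inf_right _ hle).trans hf.le))
        (subnormal_of_le le_sup_left hle hsA) (subnormal_of_le le_sup_right hle hsA')
        (fun D hD hDs hDp => hP D (hD.trans hle) (subnormal_trans hD hle hDs hsub) hDp) hiA
        (fun U hU hUn => ?_) ?_ ?_ hcA (hcard' ▸ hcA)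
      · exact ⟨res.1, hVA ▸ res.2.2.1⟩
      · rw [hVA] at hU ⊢
        set U' := U.comap c with hU'
        have hUU : U'.map c = U := map_comap_eq_self_of_surjective (MulAut.conj x).surjective U
        rcases hiA U' (fun y hy => by
          obtain ⟨z, hz, hzy⟩ := hU hy
          rwa [← show z = y from (MulAut.conj x).injective hzy]) (fun a ha' => by
          refine mem_normalizer_fintype fun y hy => ?_
          show c (a * y * a⁻¹) ∈ U
          rw [map_mul, map_mul, map_inv]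
          exact (mem_normalizer_iff.1 (hUn (mem_map_of_mem c ha')) _).1 hy) with h | h
        · left; rw [← hUU, h, Subgroup.map_bot]
        · right; rw [← hUU, h]
      · rw [hVA]; exact fun h => hne (eq_of_le_of_card_ge h heqc.le).symm
      · rw [hVA]; exact fun h => hne (eq_of_le_of_card_ge h heqc.ge)
    -- consequences of a moving element
    have move : ∀ (A B : Subgroup G), A ⊔ B = E₁ ⊔ E₂ →
        (A.subgroupOf (E₁ ⊔ E₂)).IsSubnormal →
        (∀ U : Subgroup G, U ≤ ⁅V, A⁆ → A ≤ normalizer (U : Set G) → U = ⊥ ∨ U = ⁅V, A⁆) →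
        2 < Nat.card A → ¬ B ≤ normalizer ((⁅V, A⁆ : Subgroup G) : Set G) →
        Nat.card ↥⁅V, A⁆ ≤ Nat.card ↥⁅V, B⁆ := by
      intro A B hAB hsA hiA hcA hBn
      obtain ⟨x, hx, hxn⟩ := SetLike.not_le_iff_exists.1 hBn
      obtain ⟨-, hdis⟩ := pair A B hAB hsA hiA hcA hBn x hx
        fun h => hxn (mem_normalizer_iff_map_conj_eq.2 h)
      have hA1 : ⁅V, A⁆ ≤ V := Cfsg.Lib.Coprime.commutator_le_of_le_normalizer
        ((le_sup_left.trans hAB.le).trans hEV)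
      refine Nat.card_le_card_of_injective
        (fun v : ↥⁅V, A⁆ => (⟨⁅(v : G), x⁆, commutator_mem_commutator (hA1 v.2) hx⟩ : ↥⁅V, B⁆)) fun v w hvw => ?_
      have h1 : ⁅(v : G), x⁆ = ⁅(w : G), x⁆ := congrArg Subtype.val hvw
      have h2 : (w : G)⁻¹ * v = x * ((w : G)⁻¹ * v) * x⁻¹ := by
        have h3 : (v : G) * (x * (v : G)⁻¹ * x⁻¹) = (w : G) * (x * (w : G)⁻¹ * x⁻¹) := by
          simpa [commutatorElement_def, mul_assoc] using h1
        calc (w : G)⁻¹ * v = (w : G)⁻¹ * ((v : G) * (x * (v : G)⁻¹ * x⁻¹)) * (x * v * x⁻¹) := by group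
          _ = (w : G)⁻¹ * ((w : G) * (x * (w : G)⁻¹ * x⁻¹)) * (x * v * x⁻¹) := by rw [h3]
          _ = x * ((w : G)⁻¹ * v) * x⁻¹ := by group
      have h4 : (w : G)⁻¹ * v ∈ ⁅V, A⁆ ⊓ (⁅V, A⁆).map (MulAut.conj x).toMonoidHom :=
        mem_inf.2 ⟨mul_mem (inv_mem w.2) v.2, ⟨_, Subgroup.mul_mem _ (Subgroup.inv_mem _ w.2) v.2, h2.symm⟩⟩
      rw [hdis, mem_bot, inv_mul_eq_one] at h4
      exact Subtype.ext h4.symm
    have hcard : Nat.card ↥⁅V, E₁⁆ = Nat.card ↥⁅V, E₂⁆ := le_antisymm (move E₁ E₂ rfl hs₁ hi₁ hc₁ ha)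
      (move E₂ E₁ (sup_comm _ _) hs₂ hi₂ hc₂ hb)
    set V₁ := ⁅V, E₁⁆ with hV₁
    set V₂ := ⁅V, E₂⁆ with hV₂
    have h1V : V₁ ≤ V := Cfsg.Lib.Coprime.commutator_le_of_le_normalizer (le_sup_left.trans hEV)
    have h2V : V₂ ≤ V := Cfsg.Lib.Coprime.commutator_le_of_le_normalizer (le_sup_right.trans hEV)
    let cx : G → Subgroup G := fun x => V₁.map (MulAut.conj x).toMonoidHom
    have hcx_mul : ∀ x y, cx (x * y) = (cx y).map (MulAut.conj x).toMonoidHom := fun x y => by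
      show V₁.map _ = (V₁.map _).map _
      rw [Subgroup.map_map]
      congr 1
      ext z
      simp [mul_assoc]
    have hcx_one : cx 1 = V₁ := by
      show V₁.map _ = _
      rw [map_one]
      exact Subgroup.map_id V₁
    have hcxN : ∀ x, cx x = V₁ ↔ x ∈ normalizer (V₁ : Set G) := fun x => mem_normalizer_iff_map_conj_eq.symm
    have hcxV : ∀ x ∈ E₂, cx x ≤ V := fun x hx => (map_mono h1V).trans
      (Cfsg.Lib.Core.map_conj_eq_of_mem_normalizer (hEV (mem_sup_right hx))).le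
    have hdisj : ∀ x ∈ E₂, cx x ≠ V₁ → V₁ ⊓ cx x = ⊥ := fun x hx hne =>
      (pair E₁ E₂ rfl hs₁ hi₁ hc₁ ha x hx hne).2
    have hsurj : ∀ x ∈ E₂, cx x ≠ V₁ → ∀ z ∈ V₂, ∃ v ∈ V₁, ⁅v, x⁆ = z := by
      intro x hx hne z hz
      let g : V₁ → V₂ := fun v => ⟨⁅(v : G), x⁆, commutator_mem_commutator (h1V v.2) hx⟩
      have hg : Function.Injective g := by
        intro v w hvw
        have h1 : ⁅(v : G), x⁆ = ⁅(w : G), x⁆ := congrArg Subtype.val hvw
        have h2 : (w : G)⁻¹ * v = x * ((w : G)⁻¹ * v) * x⁻¹ := by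
          have h3 : (v : G) * (x * (v : G)⁻¹ * x⁻¹) = (w : G) * (x * (w : G)⁻¹ * x⁻¹) := by
            simpa [commutatorElement_def, mul_assoc] using h1
          calc (w : G)⁻¹ * v = (w : G)⁻¹ * ((v : G) * (x * (v : G)⁻¹ * x⁻¹)) * (x * v * x⁻¹) := by group
            _ = (w : G)⁻¹ * ((w : G) * (x * (w : G)⁻¹ * x⁻¹)) * (x * v * x⁻¹) := by rw [h3]
            _ = x * ((w : G)⁻¹ * v) * x⁻¹ := by group
        have h4 : (w : G)⁻¹ * v ∈ V₁ ⊓ cx x := mem_inf.2 ⟨mul_mem (inv_mem w.2) v.2, ⟨_, Subgroup.mul_mem _ (Subgroup.inv_mem _ w.2) v.2, h2.symm⟩⟩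
        rw [hdisj x hx hne, mem_bot, inv_mul_eq_one] at h4
        exact Subtype.ext h4.symm
      obtain ⟨v, hv⟩ := ((Nat.bijective_iff_injective_and_card g).2 ⟨hg, hcard⟩).2 ⟨z, hz⟩
      exact ⟨v, v.2, congrArg Subtype.val hv⟩
    have hdec : ∀ x ∈ E₂, ∀ v ∈ V₁, ⁅v, x⁆ = v * (x * v⁻¹ * x⁻¹) ∧ x * v⁻¹ * x⁻¹ ∈ cx x := fun x _ v hv =>
      ⟨by simp [commutatorElement_def, mul_assoc], ⟨v⁻¹, inv_mem hv, rfl⟩⟩
    have hUle : ∀ x ∈ E₂, cx x ≠ V₁ → V₁ ⊔ V₂ = V₁ ⊔ cx x := by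
      intro x hx hne
      refine le_antisymm (sup_le le_sup_left fun z hz => ?_) (sup_le le_sup_left ?_)
      · obtain ⟨v, hv, rfl⟩ := hsurj x hx hne z hz
        rw [(hdec x hx v hv).1]
        exact mul_mem_sup hv (hdec x hx v hv).2
      · rintro _ ⟨v, hv, rfl⟩
        show x * v * x⁻¹ ∈ _
        rw [show x * v * x⁻¹ = v * ⁅v⁻¹, x⁆ by simp [commutatorElement_def, mul_assoc]]
        exact mul_mem_sup hv (commutator_mem_commutator (inv_mem (h1V hv)) hx)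
    -- all moving elements give the same translate
    have hsame : ∀ x ∈ E₂, ∀ y ∈ E₂, cx x ≠ V₁ → cx y ≠ V₁ → cx x = cx y := by
      intro x hx y hy hxn hyn
      by_contra hxy
      have hz : cx (x⁻¹ * y) ≠ V₁ := fun e => hxy (by
        have := congrArg (Subgroup.map (MulAut.conj x).toMonoidHom) e
        rw [← hcx_mul, mul_inv_cancel_left] at this
        exact this.symm)
      have hd : cx x ⊓ cx y = ⊥ := by
        have := congrArg (Subgroup.map (MulAut.conj x).toMonoidHom) (hdisj _ (mul_mem (inv_mem hx) hy) hz)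
        rwa [Subgroup.map_inf _ _ _ (MulAut.conj x).injective, ← hcx_mul, mul_inv_cancel_left,
          Subgroup.map_bot] at this
      have hfix : ∀ w ∈ E₂, cx w ≠ V₁ → ∀ u ∈ cx w, ∀ e ∈ E₁, e * u * e⁻¹ = u := by
        intro w hw hwn u hu e he
        obtain ⟨hcomm, hdis⟩ := pair E₁ E₂ rfl hs₁ hi₁ hc₁ ha w hw hwn
        have hcxeq : cx w = ⁅V, E₁.map (MulAut.conj w).toMonoidHom⁆ := by
          show V₁.map _ = _
          rw [hV₁, map_commutator, Cfsg.Lib.Core.map_conj_eq_of_mem_normalizer (hEV (mem_sup_right hw))]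
        have hen : E₁ ≤ normalizer ((cx w : Subgroup G) : Set G) := by
          rw [hcxeq]
          exact Cfsg.Lib.Local.FF.le_normalizer_commutator (le_sup_left.trans hEV)
            ((commutator_eq_bot_iff_le_centralizer.1 hcomm).trans (centralizer_le_normalizer _))
        have h : ⁅u, e⁆ ∈ V₁ ⊓ cx w := ⟨commutator_mem_commutator (hcxV w hw hu) he, by
          rw [commutatorElement_def, show u * e * u⁻¹ * e⁻¹ = u * (e * u⁻¹ * e⁻¹) by group]
          exact mul_mem hu ((mem_normalizer_iff.1 (hen he) _).1 (inv_mem hu))⟩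
        rw [hdis, mem_bot, commutatorElement_eq_one_iff_mul_comm] at h
        rw [← h, mul_inv_cancel_right]
      have hn' : ∀ (X Y : Subgroup G), X ≤ V → Y ≤ V → Y ≤ normalizer (X : Set G) := fun X Y hX hY z hz =>
        centralizer_le_normalizer _ (mem_centralizer_iff.2 fun t ht => vcomm hV (hX ht) (hY hz))
      have hU : V₁ ≤ cx x ⊔ cx y := by
        refine le_trans le_sup_left (eq_of_le_of_card_ge
          (sup_le ((le_sup_right).trans (hUle x hx hxn).ge) ((le_sup_right).trans (hUle y hy hyn).ge)) ?_).ge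
        rw [Cfsg.Lib.Coprime.card_sup_of_disjoint (hn' _ _ (hcxV x hx) (hcxV y hy)) (disjoint_iff.2 hd),
          hUle x hx hxn, Cfsg.Lib.Coprime.card_sup_of_disjoint (hn' _ _ h1V (hcxV x hx))
            (disjoint_iff.2 (hdisj x hx hxn)),
          show Nat.card ↥(cx x) = Nat.card V₁ from card_map_of_injective (MulAut.conj x).injective,
          show Nat.card ↥(cx y) = Nat.card V₁ from card_map_of_injective (MulAut.conj y).injective]
      refine h12 ?_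
      have hE₁ : E₁ = ⊥ := by
        refine hP E₁ le_sup_left hs₁ (isPGroup_of_stab hV h1V
          (le_bot_iff.1 ((inf_le_inf_right _ le_sup_left).trans hf.le))
          (fun d hd' v hv => commutator_mem_commutator hv hd') fun d hd' u hu => ?_)
        obtain ⟨u₁, hu₁, u₂, hu₂, rfl⟩ := Cfsg.Lib.Coprime.exists_mul_of_mem_sup
          (hn' _ _ (hcxV x hx) (hcxV y hy)) (hU hu)
        calc d * (u₁ * u₂) * d⁻¹ = (d * u₁ * d⁻¹) * (d * u₂ * d⁻¹) := by group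
          _ = u₁ * u₂ := by rw [hfix x hx hxn u₁ hu₁ d hd', hfix y hy hyn u₂ hu₂ d hd']
      rw [hV₁, hE₁, commutator_bot_right]
      exact bot_le
    -- the stabilizer of `V₁` in `E₂` is trivial
    set N₂ := E₂ ⊓ normalizer (V₁ : Set G) with hN₂
    obtain ⟨x, hx, hxn⟩ := SetLike.not_le_iff_exists.1 ha
    have hxne : cx x ≠ V₁ := fun e => hxn ((hcxN x).1 e)
    have h12' : V₁ ⊓ V₂ = ⊥ := by
      rw [eq_bot_iff]
      rintro z ⟨hz1, hz2⟩
      obtain ⟨v, hv, rfl⟩ := hsurj x hx hxne z hz2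
      obtain ⟨he, hm⟩ := hdec x hx v hv
      have : x * v⁻¹ * x⁻¹ ∈ V₁ ⊓ cx x := ⟨by
        have := mul_mem (inv_mem hv) (he ▸ hz1); simpa [mul_assoc] using this, hm⟩
      rw [hdisj x hx hxne, mem_bot] at this
      have hv1 : v = 1 := by simpa using this
      simp [hv1]
    have hx2' : cx x ⊓ V₂ = ⊥ := by
      rw [eq_bot_iff]
      rintro z ⟨hz1, hz2⟩
      obtain ⟨v, hv, rfl⟩ := hsurj x hx hxne z hz2
      obtain ⟨he, hm⟩ := hdec x hx v hv
      have : v ∈ V₁ ⊓ cx x := ⟨hv, by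
        have := mul_mem (he ▸ hz1 : v * (x * v⁻¹ * x⁻¹) ∈ cx x) (inv_mem hm); simpa [mul_assoc] using this⟩
      rw [hdisj x hx hxne, mem_bot] at this
      simp [this]
    have hNx : ∀ m ∈ N₂, (cx x).map (MulAut.conj m).toMonoidHom = cx x := by
      intro m hm
      rw [← hcx_mul]
      refine hsame _ (mul_mem hm.1 hx) x hx (fun e => hxn ?_) hxne
      have : x = m⁻¹ * (m * x) := by group
      rw [this]
      exact mul_mem (inv_mem hm.2) ((hcxN _).1 e)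
    have hfixN : ∀ m ∈ N₂, ∀ U : Subgroup G, U ≤ V → U.map (MulAut.conj m).toMonoidHom = U →
        U ⊓ V₂ = ⊥ → ∀ u ∈ U, m * u * m⁻¹ = u := by
      intro m hm U hUV hUm hU2 u hu
      have h : ⁅u, m⁆ ∈ U ⊓ V₂ := ⟨by
        rw [commutatorElement_def, show u * m * u⁻¹ * m⁻¹ = u * (m * u⁻¹ * m⁻¹) by group]
        exact mul_mem hu (hUm.le ⟨u⁻¹, inv_mem hu, rfl⟩), commutator_mem_commutator (hUV hu) hm.1⟩
      rw [hU2, mem_bot, commutatorElement_eq_one_iff_mul_comm] at h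
      rw [← h, mul_inv_cancel_right]
    have hN₂bot : N₂ = ⊥ := by
      have hN2le : N₂ ≤ E₁ ⊔ E₂ := inf_le_left.trans le_sup_right
      refine hP _ hN2le ?_ ?_
      · refine subnormal_trans inf_le_left le_sup_right ?_ hs₂
        refine Subgroup.Normal.isSubnormal ((normal_subgroupOf_iff_le_normalizer inf_le_left).2
          (le_normalizer_iff.mpr fun e he m hm => mem_inf.2 ⟨mul_mem (mul_mem he hm.1) (inv_mem he), ?_⟩))
        rw [← hcxN]
        by_cases hen : cx e = V₁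
        · rw [hcxN] at hen ⊢
          exact mul_mem (mul_mem hen hm.2) (inv_mem hen)
        · have hei : cx e⁻¹ ≠ V₁ := fun h => hen (by
            rw [hcxN] at h ⊢; simpa using inv_mem h)
          rw [mul_assoc, hcx_mul, hcx_mul, hsame e⁻¹ (inv_mem he) x hx hei hxne, hNx m hm,
            ← hsame e⁻¹ (inv_mem he) x hx hei hxne, ← hcx_mul, mul_inv_cancel, hcx_one]
      · refine isPGroup_of_stab hV h2V (le_bot_iff.1 ((inf_le_inf_right _ hN2le).trans hf.le))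
          (fun d hd v hv => commutator_mem_commutator hv hd.1) fun d hd u hu => ?_
        have hu' : u ∈ V₁ ⊔ cx x := hUle x hx hxne ▸ mem_sup_right hu
        obtain ⟨u₁, hu₁, u₂, hu₂, rfl⟩ := Cfsg.Lib.Coprime.exists_mul_of_mem_sup
          (show cx x ≤ normalizer (V₁ : Set G) from fun z hz => centralizer_le_normalizer _
            (mem_centralizer_iff.2 fun t ht => vcomm hV (h1V ht) (hcxV x hx hz))) hu'
        calc d * (u₁ * u₂) * d⁻¹ = (d * u₁ * d⁻¹) * (d * u₂ * d⁻¹) := by group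
          _ = u₁ * u₂ := by
            rw [hfixN d hd V₁ h1V ((hcxN d).2 hd.2) h12' u₁ hu₁,
              hfixN d hd (cx x) (hcxV x hx) (hNx d hd) hx2' u₂ hu₂]
    have hle2 : Nat.card E₂ ≤ 2 := by
      refine le_trans (Nat.card_le_card_of_injective (fun e : E₂ => decide (cx e = V₁)) fun e e' h => ?_)
        (by simp)
      have key : ∀ a b : E₂, cx a = cx b → a = b := fun a b hab => by
        have h1 : cx ((a : G)⁻¹ * b) = V₁ := by
          rw [hcx_mul, ← hab, ← hcx_mul, inv_mul_cancel, hcx_one]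
        have h2 : (a : G)⁻¹ * b ∈ N₂ := mem_inf.2 ⟨mul_mem (inv_mem a.2) b.2, (hcxN _).1 h1⟩
        rw [hN₂bot, mem_bot, inv_mul_eq_one] at h2
        exact Subtype.ext h2
      refine key e e' ?_
      by_cases he : cx (e : G) = V₁
      · rw [he, of_decide_eq_true (by simpa [he] using h.symm : decide (cx (e' : G) = V₁) = true)]
      · exact hsame _ e.2 _ e'.2 he (of_decide_eq_false (by simpa [he] using h.symm : decide (cx (e' : G) = V₁) = false))
    omega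

/-- Two subnormal subgroups acting irreducibly on their incomparable commutator modules, in a faithful group with trivial largest normal p-subgroup, generate their direct product, and the commutator module splits accordingly. -/
theorem result {G : Type*} [Group G] [Finite G] {p : ℕ} [Fact p.Prime] (V E E₁ E₂ : Subgroup G) (hV : Cfsg.IsElementaryAbelian p V) (hEV : E ≤ Subgroup.normalizer (V : Set G)) (hf : E ⊓ Subgroup.centralizer (V : Set G) = ⊥) (hgen : E = E₁ ⊔ E₂) (hs₁ : (E₁.subgroupOf E).IsSubnormal) (hs₂ : (E₂.subgroupOf E).IsSubnormal) (hOp : Cfsg.pCore p ↥E = ⊥) (hirr₁ : (∀ U : Subgroup G, U ≤ ⁅V, E₁⁆ → E₁ ≤ Subgroup.normalizer (U : Set G) → U = ⊥ ∨ U = ⁅V, E₁⁆)) (hirr₂ : (∀ U : Subgroup G, U ≤ ⁅V, E₂⁆ → E₂ ≤ Subgroup.normalizer (U : Set G) → U = ⊥ ∨ U = ⁅V, E₂⁆)) (h12 : ¬ ⁅V, E₁⁆ ≤ ⁅V, E₂⁆) (h21 : ¬ ⁅V, E₂⁆ ≤ ⁅V, E₁⁆) (hc₁ : 2 < Nat.card E₁) (hc₂ : 2 < Nat.card E₂) : ⁅E₁, E₂⁆ = ⊥ ∧ E₁ ⊓ E₂ = ⊥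 ∧ ⁅V, E₁⁆ ⊓ ⁅V, E₂⁆ = ⊥ ∧ ⁅V, E⁆ = ⁅V, E₁⁆ ⊔ ⁅V, E₂⁆ := by
  classical
  subst hgen
  refine main hV _ E₁ E₂ le_rfl hEV hf hs₁ hs₂ (fun D hD hDs hDp => ?_) hirr₁ hirr₂ h12 h21 hc₁ hc₂
  have h := Cfsg.Lib.Core.le_pCore_of_isSubnormal (p := p) hDs
    (hDp.of_equiv (subgroupOfEquivOfLe hD).symm)
  rw [hOp, le_bot_iff, subgroupOf_eq_bot, disjoint_iff, inf_eq_left.2 hD] at h
  exact h

end Cfsg.Agent.S0615
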