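import Cfsg.Statements.S0619
import Cfsg.Agent.Lib.Local.FF.Model

set_option autoImplicit false
open Cfsg

namespace Cfsg.Agent.S0619

/-- For a p-separable group and a normal elementary abelian p-subgroup V with no nontrivial normal p-subgroup modulo its centralizer C, the Thompson subgroup J(G) moves Ω₁(Z(J(C))) only inside V. -/
theorem result {G : Type*} [Group G] [Finite G] {p : ℕ} [Fact p.Prime] (hsep : Cfsg.IsPSolvable p G) (V : Subgroup G) [V.Normal] (hV : Cfsg.IsElementaryAbelian p V) (hO : Cfsg.pCore p (G ⧸ Subgroup.centralizer (V : Set G)) = ⊥) : ⁅Cfsg.omegaOne p (Cfsg.centerThompsonOf p (Subgroup.centralizer (V : Set G))), Cfsg.thompsonSubgroup p G⁆ ≤ V := by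
  open Subgroup Cfsg.Lib.Local.FF in
  open scoped commutatorElement in
  · set C := centralizer (V : Set G) with hC
    set X := Cfsg.omegaOne p (Cfsg.centerThompsonOf p C) with hX
    have hs := setup_model V hsep hV hO ⊤
    rw [commutator_comm, Cfsg.thompsonSubgroup]
    rw [commutator_le]
    suffices h : sSup (Cfsg.maxElementaryAbelianSubgroups p G) ≤
        { carrier := {g : G | ∀ x ∈ X, ⁅g, x⁆ ∈ V}
          one_mem' := fun x _ => by simp
          mul_mem' := fun {a b} ha hb x hx => by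
            rw [show ⁅a * b, x⁆ = a * ⁅b, x⁆ * a⁻¹ * ⁅a, x⁆ by simp only [commutatorElement_def]; group]
            exact V.mul_mem ((inferInstance : V.Normal).conj_mem _ (hb x hx) a) (ha x hx)
          inv_mem' := fun {a} ha x hx => by
            rw [show ⁅a⁻¹, x⁆ = a⁻¹ * ⁅a, x⁆⁻¹ * a⁻¹⁻¹ by simp only [commutatorElement_def]; group]
            exact (inferInstance : V.Normal).conj_mem _ (V.inv_mem (ha x hx)) a⁻¹ } from
      fun a ha x hx => h ha x hx
    refine sSup_le fun A hA a ha x hx => ?_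
    have hb := (hs.isOff_of_best (map_mono le_top) (best_of_maxEA V hV hA)).card
    rw [card_fixed, card_modV] at hb
    set A₀ := (A ⊓ C) ⊔ V with hA₀
    have hVC : V ≤ C := fun v hv => mem_centralizer_iff.2 fun w hw => (Cfsg.Lib.Thompson.isEA_commute hV hw hv).eq
    have hea : Cfsg.IsElementaryAbelian p A₀ := by
      rw [hA₀, ← closure_eq (A ⊓ C), ← closure_eq V, ← Subgroup.closure_union]
      refine Cfsg.Lib.Thompson.isEA_closure ?_ ?_
      · rintro y (hy | hy) z (hz | hz)
        · exact Cfsg.Lib.Thompson.isEA_commute hA.1 hy.1 hz.1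
        · exact (mem_centralizer_iff.1 hy.2 z hz).symm
        · exact mem_centralizer_iff.1 hz.2 y hy
        · exact Cfsg.Lib.Thompson.isEA_commute hV hy hz
      · rintro y (hy | hy)
        · exact hA.1.2 y hy.1
        · exact hV.2 y hy
    have hcard : Nat.card A ≤ Nat.card A₀ := by
      have h1 := Cfsg.Lib.Local.Timmesfeld.card_mul_card_le (A ⊓ C) V
      have h2 : (A ⊓ C) ⊓ V ≤ V ⊓ centralizer (A : Set G) := fun y hy => ⟨hy.2,
        mem_centralizer_iff.2 fun b hb => (Cfsg.Lib.Thompson.isEA_commute hA.1 hb hy.1.1).eq⟩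
      have h3 := h1.trans (Nat.mul_le_mul_right _ (Subgroup.card_le_of_le h2))
      have h4 := Cfsg.Lib.Core.card_mul_relIndex (inf_le_left : A ⊓ C ≤ A)
      have h5 : C.relIndex A = Nat.card (A.map (toModel V)) := by rw [← relIndex_ker, toModel_ker]
      rw [inf_relIndex_left, h5] at h4
      rw [← hb, ← mul_assoc, h4, mul_comm (Nat.card A)] at h3
      exact Nat.le_of_mul_le_mul_left h3 Nat.card_pos
    have hA₀C : A₀ ≤ C := sup_le inf_le_right hVC
    have hA₀max : A₀ ∈ Cfsg.maxElementaryAbelianSubgroups p G := ⟨hea, fun B hB => (hA.2 B hB).trans hcard⟩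
    have hJ : A₀ ≤ Cfsg.thompsonSubgroupOf p C := by
      rw [Cfsg.Lib.Thompson.thompsonSubgroupOf_eq C ⟨A₀, hA₀max, hA₀C⟩]
      exact le_sSup ⟨hA₀max, hA₀C⟩
    have hxA : x ∈ A₀ := by
      refine (closure_le A₀).2 (fun y hy => ?_) hx
      exact Cfsg.Lib.Thompson.mem_of_commute hA₀max hy.2 fun b hb' =>
        (mem_centralizer_iff.1 hy.1.2 b (hJ hb')).symm
    rw [hA₀, ← SetLike.mem_coe, mul_normal] at hxA
    obtain ⟨b, hbm, v, hv, rfl⟩ := hxA
    have hab : ⁅a, b⁆ = 1 := commutatorElement_eq_one_iff_mul_comm.2 (Cfsg.Lib.Thompson.isEA_commute hA.1 ha hbm.1).eq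
    show ⁅a, b * v⁆ ∈ V
    rw [show ⁅a, b * v⁆ = ⁅a, b⁆ * (b * ⁅a, v⁆ * b⁻¹) by simp only [commutatorElement_def]; group, hab, one_mul]
    refine (inferInstance : V.Normal).conj_mem _ ?_ b
    rw [commutatorElement_def]
    exact V.mul_mem ((inferInstance : V.Normal).conj_mem v hv a) (V.inv_mem hv)

end Cfsg.Agent.S0619
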