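import Cfsg.Statements.S0620
import Cfsg.Agent.Lib.Local.FF.OperatorModel

set_option autoImplicit false
open Cfsg

namespace Cfsg.Agent.S0620

/-- Under coprime action of an elementary abelian q-group X on a p-separable group K with trivial p'-core, K is generated by the normalizer of J(S), the centralizer of Ω₁(Z(S)) and the fixed points of X. -/
theorem result {G : Type*} [Group G] [Finite G] {p : ℕ} [Fact p.Prime] {q : ℕ} [Fact q.Prime] (K X : Subgroup G) (hXK : X ≤ Subgroup.normalizer (K : Set G)) (hX : Cfsg.IsElementaryAbelian q X) (hq : ¬ q ∣ Nat.card K) (hsep : Cfsg.IsPSolvable p ↥K) (hO : Cfsg.pPrimeCore p ↥K = ⊥) (S : Sylow p ↥K) : (Subgroup.normalizer (Cfsg.thompsonSubgroupOf p (S : Subgroup ↥K) : Set ↥K) ⊔ Subgroup.centralizer (Cfsg.omegaOne p ((S : Subgroup ↥K) ⊓ Subgroup.centralizer ((S : Subgroup ↥K) : Set ↥K)) : Set ↥K) ⊔ (Subgroup.centralizer (X : Set G)).subgroupOf K) = ⊤ := by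
  set N := Subgroup.normalizer (K : Set G) with hN
  have hle : K ≤ N := Subgroup.le_normalizer
  have hjn : (Subgroup.inclusion hle).range.Normal := by
    rw [Subgroup.inclusion_range]
    exact Subgroup.normal_in_normalizer
  have hXq : ∀ x ∈ X.subgroupOf N, x ^ q = 1 := fun x hx => Subtype.ext (hX.2 x (Subgroup.mem_subgroupOf.1 hx))
  have hXc : IsMulCommutative (X.subgroupOf N) := (Cfsg.Lib.Thompson.isEA_subgroupOf hX N).1
  have h := Cfsg.Lib.Local.FF.generation_of_operator (Subgroup.inclusion hle) (Subgroup.inclusion_injective hle)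
    hjn (X.subgroupOf N) Fact.out hXq hXc hq hsep hO S
  convert h using 2
  ext k
  rw [Subgroup.mem_subgroupOf, Subgroup.mem_comap, Subgroup.mem_centralizer_iff, Subgroup.mem_centralizer_iff]
  constructor
  · intro hk y hy
    exact Subtype.ext (hk y (Subgroup.mem_subgroupOf.1 hy))
  · intro hk y hy
    exact congrArg Subtype.val (hk ⟨y, hXK hy⟩ (Subgroup.mem_subgroupOf.2 hy))

end Cfsg.Agent.S0620
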