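import Cfsg.Statements.S0621
import Cfsg.Agent.Lib.Local.FF.OperatorModel

set_option autoImplicit false
open Cfsg

namespace Cfsg.Agent.S0621

/-- Let K be p-separable with O_p'(K) = 1, normalized by an elementary abelian q-group X for a prime q not dividing the order of K. If the Thompson factorization fails in K, then p is 2 or 3 and the fixed points of X contain a plane W of order p² and a subgroup inducing SL(2, p) on it. -/
theorem result {G : Type*} [Group G] [Finite G] {p : ℕ} [Fact p.Prime] {q : ℕ} [Fact q.Prime] (K X : Subgroup G) (hXK : X ≤ Subgroup.normalizer (K : Set G)) (hX : Cfsg.IsElementaryAbelian q X) (hq : ¬ q ∣ Nat.card K) (hsep : Cfsg.IsPSolvable p ↥K) (hO : Cfsg.pPrimeCore p ↥K = ⊥) (hnf : ¬ Cfsg.IsThompsonFactorizable p ↥K) : (p = 2 ∨ p = 3) ∧ ∃ W D : Subgroup G, W ≤ K ⊓ Subgroup.centralizer (X : Set G) ∧ D ≤ K ⊓ Subgroup.centralizer (X : Set G) ∧ Cfsg.IsElementaryAbelian p W ∧ Nat.card W = p ^ 2 ∧ D ≤ Subgroup.normalizer (W : Set G) ∧ ∃ hn : ((Subgroup.centralizer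 (W : Set G)).subgroupOf D).Normal, Nonempty ((↥D ⧸ (Subgroup.centralizer (W : Set G)).subgroupOf D) ≃* Matrix.SpecialLinearGroup (Fin 2) (ZMod p)) := by
  set N := Subgroup.normalizer (K : Set G) with hN
  have hle : K ≤ N := Subgroup.le_normalizer
  have hjn : (Subgroup.inclusion hle).range.Normal := by
    rw [Subgroup.inclusion_range]
    exact Subgroup.normal_in_normalizer
  have hXq : ∀ x ∈ X.subgroupOf N, x ^ q = 1 := fun x hx => Subtype.ext (hX.2 x (Subgroup.mem_subgroupOf.1 hx))
  have hXc : IsMulCommutative (X.subgroupOf N) := (Cfsg.Lib.Thompson.isEA_subgroupOf hX N).1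
  obtain ⟨hp, W, D, hW, hD, hWe, hWc, hDW, φ, hφ, hker⟩ :=
    Cfsg.Lib.Local.FF.plane_of_operator (Subgroup.inclusion hle) (Subgroup.inclusion_injective hle)
      hjn (X.subgroupOf N) Fact.out hXq hXc hq hsep hO hnf
  have hmap : ∀ z : ↥N, z ∈ (Subgroup.inclusion hle).range ⊓
      Subgroup.centralizer (X.subgroupOf N : Set ↥N) → (z : G) ∈ K ⊓ Subgroup.centralizer (X : Set G) := by
    rintro z ⟨⟨k, rfl⟩, hz⟩
    refine ⟨k.2, Subgroup.mem_centralizer_iff.2 fun y hy => ?_⟩
    exact congrArg Subtype.val (Subgroup.mem_centralizer_iff.1 hz ⟨y, hXK hy⟩ (Subgroup.mem_subgroupOf.2 hy))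
  let e := D.equivMapOfInjective N.subtype N.subtype_injective
  set ψ := φ.comp e.symm.toMonoidHom with hψ
  have hψs : Function.Surjective ψ := hφ.comp e.symm.surjective
  have hk : ψ.ker = (Subgroup.centralizer ((W.map N.subtype : Subgroup G) : Set G)).subgroupOf
      (D.map N.subtype) := by
    ext z
    have he : ((e.symm z : ↥N) : G) = z := by
      conv_rhs => rw [← e.apply_symm_apply z]
      rfl
    rw [MonoidHom.mem_ker, hψ, MonoidHom.comp_apply, ← MonoidHom.mem_ker, hker, Subgroup.mem_subgroupOf,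
      Subgroup.mem_subgroupOf, Subgroup.mem_centralizer_iff, Subgroup.mem_centralizer_iff]
    constructor
    · rintro h _ ⟨w, hw, rfl⟩
      have h1 := congrArg Subtype.val (h w hw)
      simp only [Subgroup.coe_mul, MulEquiv.coe_toMonoidHom, he] at h1
      exact h1
    · intro h w hw
      refine Subtype.ext ?_
      simp only [Subgroup.coe_mul, MulEquiv.coe_toMonoidHom, he]
      exact h w ⟨w, hw, rfl⟩
  refine ⟨hp, W.map N.subtype, D.map N.subtype, ?_, ?_, Cfsg.Lib.Thompson.isEA_map N.subtype hWe,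
    by rw [Subgroup.card_map_of_injective N.subtype_injective, hWc],
    (Subgroup.map_mono hDW).trans (Subgroup.le_normalizer_map N.subtype), hk ▸ inferInstance, ?_⟩
  · rintro _ ⟨w, hw, rfl⟩
    exact hmap w (hW hw)
  · rintro _ ⟨d, hd, rfl⟩
    exact hmap d (hD hd)
  · haveI := (hk ▸ inferInstance : ((Subgroup.centralizer ((W.map N.subtype : Subgroup G) : Set G)).subgroupOf
      (D.map N.subtype)).Normal)
    exact ⟨(QuotientGroup.quotientMulEquivOfEq hk.symm).trans
      (QuotientGroup.quotientKerEquivOfSurjective ψ hψs)⟩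

end Cfsg.Agent.S0621
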