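import Cfsg.Statements.S0627
import Cfsg.Agent.Lib.Local.StableClosureNormal
import Cfsg.Agent.Lib.Local.SL2Involved
import Cfsg.Agent.Lib.Sig.SectionControl
import Cfsg.Agent.Lib.Sig.PConstrained

set_option autoImplicit false
open Cfsg

namespace Cfsg.Agent.S0627

/-- In a p-separable group with p at least 5, the normalizer of W(S) supplements the largest normal subgroup of order prime to p. -/
theorem result {G : Type*} [Group G] [Finite G] {p : ℕ} [Fact p.Prime] (hp : 5 ≤ p) (hsep : Cfsg.IsPSolvable p G) (S : Sylow p G) : Cfsg.pPrimeCore p G ⊔ Subgroup.normalizer (((Cfsg.stableNormalClosure p ↥(S : Subgroup G)).map (S : Subgroup G).subtype) : Set G) = ⊤ := by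
  set M := Cfsg.pPrimeCore p G with hM
  have hcop : (Nat.card M).Coprime p := Cfsg.Lib.Core.pPrimeCore_coprime p G
  set f := QuotientGroup.mk' M with hf
  have hfs : Function.Surjective f := QuotientGroup.mk'_surjective M
  set S' := S.mapSurjective hfs with hS'
  have hsol := Cfsg.Lib.Core.isPSolvable_quotient hsep M
  have hn := Cfsg.Lib.Local.StableClosure.wOf_normal
    (Cfsg.Lib.Local.SL2Involved.isActionPStable_of_not_involves_SL2 (by omega : p ≠ 2)
      (Cfsg.Lib.Local.SL2Involved.not_involves_SL2_of_isPSolvable hp hsol))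
    (Cfsg.Lib.Core.centralizer_pCore_le_of_isPSolvable hsol Cfsg.Lib.Core.pPrimeCore_quotient_eq_bot) S'
  have hinj : Function.Injective (f.subgroupMap (S : Subgroup G)) := by
    intro x y h
    have h1 : (x : G)⁻¹ * y ∈ M := QuotientGroup.eq.1 (congrArg Subtype.val h)
    have h2 : (x : G)⁻¹ * y ∈ (S : Subgroup G) ⊓ M := ⟨(S : Subgroup G).mul_mem ((S : Subgroup G).inv_mem x.2) y.2, h1⟩
    rw [Cfsg.Lib.Sig.disjoint_of_isPGroup_coprime S.2 hcop, Subgroup.mem_bot, inv_mul_eq_one] at h2
    exact Subtype.ext h2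
  let e : ↥(S : Subgroup G) ≃* ↥(S' : Subgroup (G ⧸ M)) :=
    (MulEquiv.ofBijective (f.subgroupMap (S : Subgroup G)) ⟨hinj, f.subgroupMap_surjective _⟩).trans
      (MulEquiv.subgroupCongr (Sylow.coe_mapSurjective hfs S).symm)
  have hmap : ((Cfsg.stableNormalClosure p ↥(S : Subgroup G)).map (S : Subgroup G).subtype).map f =
      Cfsg.Lib.Local.StableClosure.wOf p (S' : Subgroup (G ⧸ M)) := by
    rw [Cfsg.Lib.Local.StableClosure.wOf, ← Cfsg.Lib.Local.StableClosure.map_eq e, Subgroup.map_map,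
      Subgroup.map_map]
    rfl
  rw [eq_top_iff]
  intro x _
  have hWp : IsPGroup p ((Cfsg.stableNormalClosure p ↥(S : Subgroup G)).map (S : Subgroup G).subtype) :=
    S.2.to_le (Subgroup.map_subtype_le _)
  obtain ⟨m, hm, hmx⟩ := Cfsg.Lib.Sig.exists_mul_mem_normalizer M hcop hWp (x := x) (by
    rw [hmap, Subgroup.normalizer_eq_top_iff.2 hn]
    exact Subgroup.mem_top _)
  rw [show x = m⁻¹ * (m * x) by group]
  exact Subgroup.mul_mem_sup (M.inv_mem hm) hmx

end Cfsg.Agent.S0627
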