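import Cfsg.Statements.S0628
import Cfsg.Agent.Lib.Local.GlaubermanComplement
import Cfsg.Agent.Lib.Local.StableClosureNormal
import Cfsg.Agent.Lib.Local.SL2Involved

set_option autoImplicit false
open Cfsg

namespace Cfsg.Agent.S0628

open Subgroup Cfsg.Lib.Local

universe u

theorem mapCompat_wOf (p : ℕ) :
    GlaubermanZJ.MapCompat.{u} (fun _ _ S => StableClosure.wOf p S) := by
  intro G H _ _ _ f S hf
  let g : S →* H := f.comp S.subtype
  have hg : Function.Injective g := fun x y h => Subtype.ext (hf x.2 y.2 h)
  have hr : g.range = S.map f := by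
    show (f.comp S.subtype).range = S.map f
    rw [MonoidHom.range_comp, range_subtype]
  haveI : Finite ↥(S.map f) := by
    rw [← hr]; exact Finite.of_equiv S (MonoidHom.ofInjective hg).toEquiv
  let e : S ≃* ↥(S.map f) := (MonoidHom.ofInjective hg).trans (MulEquiv.subgroupCongr hr)
  show ((Cfsg.stableNormalClosure p ↥S).map S.subtype).map f =
    (Cfsg.stableNormalClosure p ↥(S.map f)).map (S.map f).subtype
  rw [← StableClosure.map_eq e, Subgroup.map_map, Subgroup.map_map]
  rfl

/-- The normal p-complement Theorem of Thompson in the form with W(S): for odd p, G has a normal p-complement as soon as the normalizer of the characteristic subgroup W(S) of a Sylow p-subgroup S has one. -/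
theorem result {G : Type*} [Group G] [Finite G] {p : ℕ} [Fact p.Prime] (hp : p ≠ 2) (S : Sylow p G) (hN : Cfsg.HasNormalPComplement p ↥(Subgroup.normalizer (((Cfsg.stableNormalClosure p ↥(S : Subgroup G)).map (S : Subgroup G).subtype) : Set G))) : Cfsg.HasNormalPComplement p G := by
  refine GlaubermanZJ.complement_of_functorInAb (W := fun _ _ S => StableClosure.wOf p S) (c := False)
    hp (mapCompat_wOf p) (fun G _ S => map_subtype_le _) ?_ ?_ S (D := (S : Subgroup G)) (Or.inr rfl)
    ⟨le_rfl, fun x _ g hg => hg⟩ hN
  · intro A _ _ Q hQ hne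
    haveI : Nontrivial Q := (nontrivial_iff_ne_bot Q).mpr hne
    rw [ne_eq, Subgroup.map_eq_bot_iff_of_injective _ Q.subtype_injective]
    exact StableClosure.ne_bot hQ
  · intro A _ _ Q D hD _ hc _ _ hT
    obtain h | rfl := hD
    · exact h.elim
    · exact StableClosure.wOf_normal
        (SL2Involved.isActionPStable_of_not_involves_SL2 hp
          (SL2Involved.not_involves_SL2_of_abelian_sylow_two hp hT)) hc Q

end Cfsg.Agent.S0628
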