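import Cfsg.Statements.S0629
import Cfsg.Agent.Lib.Sig.PConstrained
import Cfsg.Agent.Lib.Core.PSolvable

set_option autoImplicit false
open Cfsg

namespace Cfsg.Agent.S0629

open Subgroup

/-- With `O_{p'}(Q) = 1`, a `p`-soluble centraliser of `O_p(Q)` lies in `O_p(Q)`. -/
theorem centralizer_le {Q : Type*} [Group Q] [Finite Q] {p : ℕ} [Fact p.Prime]
    (hO : Cfsg.pPrimeCore p Q = ⊥)
    (h : Cfsg.IsPSolvable p ↥(centralizer (Cfsg.pCore p Q : Set Q))) :
    centralizer (Cfsg.pCore p Q : Set Q) ≤ Cfsg.pCore p Q := by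
  set C := centralizer (Cfsg.pCore p Q : Set Q) with hC
  haveI hCn : C.Normal := inferInstance
  have hp : Cfsg.pPrimeCore p ↥C = ⊥ := by
    have h1 := Cfsg.Lib.Core.pPrimeCore_map_le_of_isSubnormal (p := p) hCn.isSubnormal
    rw [hO, le_bot_iff, Subgroup.map_eq_bot_iff, ker_subtype, le_bot_iff] at h1
    exact h1
  have h2 : (Cfsg.pCore p ↥C).map C.subtype ≤ Cfsg.pCore p Q :=
    Cfsg.Lib.Core.pCore_map_le_of_isSubnormal hCn.isSubnormal
  have h3 : (⊤ : Subgroup ↥C) ≤ centralizer (Cfsg.pCore p ↥C : Set ↥C) := by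
    intro c _
    rw [mem_centralizer_iff]
    intro z hz
    exact Subtype.ext (mem_centralizer_iff.1 c.2 _ (h2 ⟨z, hz, rfl⟩))
  have h4 := h3.trans (Cfsg.Lib.Core.centralizer_pCore_le_of_isPSolvable h hp)
  intro c hc
  exact h2 ⟨⟨c, hc⟩, h4 (mem_top _), rfl⟩

/-- A group in which the centralizer of a Sylow p-subgroup of O_{p',p}(G) is p-solvable is p-constrained. -/
theorem result {G : Type*} [Group G] [Finite G] {p : ℕ} [Fact p.Prime] (P : Sylow p ↥(Cfsg.pPrimePCore p G)) (hsol : Cfsg.IsPSolvable p ↥(Subgroup.centralizer (((P : Subgroup ↥(Cfsg.pPrimePCore p G)).map (Cfsg.pPrimePCore p G).subtype : Subgroup G) : Set G))) : Cfsg.IsPConstrained p G := by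
  rw [Cfsg.Lib.Sig.isPConstrained_iff]
  set N := Cfsg.pPrimeCore p G with hN
  refine centralizer_le Cfsg.Lib.Core.pPrimeCore_quotient_eq_bot ?_
  set P' := (P : Subgroup ↥(Cfsg.pPrimePCore p G)).map (Cfsg.pPrimePCore p G).subtype with hP'
  have himg : P'.map (QuotientGroup.mk' N) = Cfsg.pCore p (G ⧸ N) := by
    apply le_antisymm ((map_mono (map_subtype_le _)).trans (map_comap_le _ _))
    intro y hy
    let O := Cfsg.pPrimePCore p G
    let f : ↥O →* G ⧸ N := (QuotientGroup.mk' N).comp O.subtype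
    have hr : f.range = Cfsg.pCore p (G ⧸ N) := by
      rw [MonoidHom.range_comp, range_subtype]
      exact map_comap_eq_self_of_surjective (QuotientGroup.mk'_surjective N) _
    let Q := P.mapSurjective f.rangeRestrict_surjective
    have htop : (Q : Subgroup f.range) = ⊤ := by
      have hg : IsPGroup p f.range := by rw [hr]; exact Cfsg.Lib.Core.pCore_isPGroup p _
      exact (Q.is_maximal' (hg.to_subgroup ⊤) le_top).symm
    have hy' : (⟨y, hr ▸ hy⟩ : f.range) ∈ (Q : Subgroup f.range) := by rw [htop]; trivial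
    obtain ⟨x, hx, hxy⟩ := hy'
    exact ⟨x, ⟨x, hx, rfl⟩, congrArg Subtype.val hxy⟩
  have hP'p : IsPGroup p P' := P.2.map _
  rw [← himg, Cfsg.Lib.Sig.centralizer_map_mk' N (Cfsg.Lib.Core.pPrimeCore_coprime p G) hP'p]
  exact Cfsg.Lib.Core.isPSolvable_of_surjective _
    (MonoidHom.subgroupMap_surjective (QuotientGroup.mk' N) (centralizer (P' : Set G))) hsol

end Cfsg.Agent.S0629
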