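import Cfsg.Statements.S0630
import Cfsg.Agent.Lib.Sig.PConstrained

set_option autoImplicit false
open Cfsg

namespace Cfsg.Agent.S0630

open Subgroup

theorem iff_equiv {Q R : Type*} [Group Q] [Finite Q] [Group R] [Finite R] {p : ℕ} (e : Q ≃* R) :
    centralizer (Cfsg.pCore p Q : Set Q) ≤ Cfsg.pCore p Q ↔
      centralizer (Cfsg.pCore p R : Set R) ≤ Cfsg.pCore p R := by
  have hmem : ∀ x, e x ∈ Cfsg.pCore p R ↔ x ∈ Cfsg.pCore p Q := fun x => by
    rw [← Cfsg.Lib.Core.map_pCore_equiv e]
    exact mem_map_iff_mem e.injective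
  constructor
  · intro h y hy
    obtain ⟨x, rfl⟩ := e.surjective y
    refine (hmem x).2 (h (mem_centralizer_iff.2 fun z hz => e.injective ?_))
    rw [map_mul, map_mul]
    exact mem_centralizer_iff.1 hy _ ((hmem z).2 hz)
  · intro h x hx
    refine (hmem x).1 (h (mem_centralizer_iff.2 fun y hy => ?_))
    obtain ⟨z, rfl⟩ := e.surjective y
    rw [← map_mul, ← map_mul, mem_centralizer_iff.1 hx z ((hmem z).1 hy)]

/-- p-constraint passes to and from the quotient by the largest normal subgroup of order prime to p. -/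
theorem result {G : Type*} [Group G] [Finite G] {p : ℕ} [Fact p.Prime] : Cfsg.IsPConstrained p G ↔ Cfsg.IsPConstrained p (G ⧸ Cfsg.pPrimeCore p G) := by
  rw [Cfsg.Lib.Sig.isPConstrained_iff, Cfsg.Lib.Sig.isPConstrained_iff]
  exact iff_equiv ((QuotientGroup.quotientMulEquivOfEq
    Cfsg.Lib.Core.pPrimeCore_quotient_eq_bot).trans QuotientGroup.quotientBot).symm

end Cfsg.Agent.S0630
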