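import Cfsg.Statements.S0631
import Cfsg.Agent.Lib.Sig.PLocal
import Cfsg.Agent.Lib.Coprime.Action
import Cfsg.Agent.S0630

set_option autoImplicit false
open Cfsg

namespace Cfsg.Agent.S0631

open Subgroup
open scoped commutatorElement

variable {X : Type*} [Group X] [Finite X] {p : ℕ} [Fact p.Prime]

theorem centralizer_pCore_le_normal
    (hC : centralizer (Cfsg.pCore p X : Set X) ≤ Cfsg.pCore p X) (K : Subgroup X) [K.Normal] :
    centralizer (Cfsg.pCore p K : Set K) ≤ Cfsg.pCore p K := by
  set O := Cfsg.pCore p X with hO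
  have hOp : IsPGroup p O := Cfsg.Lib.Core.pCore_isPGroup p X
  have hOK : ∀ x : K, (x : X) ∈ O → x ∈ Cfsg.pCore p K := fun x hx =>
    Cfsg.Lib.Core.le_pCore' (N := O.subgroupOf K) inferInstance
      (hOp.comap_of_injective K.subtype K.subtype_injective) hx
  refine Cfsg.Lib.Core.le_pCore' inferInstance ?_
  obtain ⟨k, hk⟩ : ∃ k, Nat.card ↥(centralizer (Cfsg.pCore p K : Set K)) = p ^ k := by
    refine ⟨_, Nat.eq_prime_pow_of_unique_prime_dvd Nat.card_pos.ne' fun {q} hq hqd => ?_⟩
    by_contra hqp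
    haveI : Fact q.Prime := ⟨hq⟩
    obtain ⟨c, hc⟩ := exists_prime_orderOf_dvd_card' q hqd
    set Q := zpowers (((c : K) : X)) with hQ
    have hQcard : Nat.card Q = q := by
      rw [hQ, Nat.card_zpowers, Subgroup.orderOf_coe, Subgroup.orderOf_coe, hc]
    have hQO : Q ≤ normalizer (O : Set X) := by
      rw [normalizer_eq_top_iff.2 inferInstance]; exact le_top
    have hcop : (Nat.card Q).Coprime (Nat.card O) := by
      obtain ⟨j, hj⟩ := IsPGroup.iff_card.1 hOp
      rw [hQcard, hj]
      exact ((Nat.coprime_primes hq Fact.out).2 hqp).pow_right j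
    have hQK : Q ≤ K := zpowers_le.2 (c : K).2
    have h2 : ⁅⁅O, Q⁆, Q⁆ = ⊥ := by
      rw [commutator_eq_bot_iff_le_centralizer]
      intro x hx
      have hxO : x ∈ O := Cfsg.Lib.Coprime.commutator_le_of_le_normalizer hQO hx
      have hxK : x ∈ K := ((commutator_mono le_rfl hQK).trans (commutator_le_right O K)) hx
      refine mem_centralizer_iff.2 fun y hy => ?_
      obtain ⟨i, rfl⟩ := hy
      have := mem_centralizer_iff.1 c.2 ⟨x, hxK⟩ (hOK ⟨x, hxK⟩ hxO)
      exact ((Commute.zpow_right (congrArg Subtype.val this : x * ((c : K) : X) = ((c : K) : X) * x) i).eq).symm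
    have h1 := Cfsg.Lib.Coprime.commutator_eq_bot_of_commutator_commutator_eq_bot hQO hcop
      (Or.inl (by haveI : IsMulCommutative Q := inferInstance; infer_instance)) h2
    have h3 : Q ≤ O := (le_centralizer_iff.1 (commutator_eq_bot_iff_le_centralizer.1 h1)).trans hC
    have h4 : Q = ⊥ := by
      rw [← inf_eq_left.2 h3]
      exact inf_eq_bot_of_coprime hcop
    rw [h4, card_bot] at hQcard
    exact hq.ne_one hQcard.symm
  exact IsPGroup.of_card hk

/-- `p`-constraint passes to normal subgroups. -/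
theorem isPConstrained_normal (h : Cfsg.IsPConstrained p X) (K : Subgroup X) [K.Normal] :
    Cfsg.IsPConstrained p K := by
  rw [Cfsg.Lib.Sig.isPConstrained_iff] at h ⊢
  set f := QuotientGroup.mk' (Cfsg.pPrimeCore p X) with hf
  haveI : (K.map f).Normal := Subgroup.Normal.map ‹K.Normal› f (QuotientGroup.mk'_surjective _)
  set φ := f.subgroupMap K with hφ
  have hker : φ.ker = Cfsg.pPrimeCore p K := by
    refine le_antisymm ?_ fun x hx => ?_
    · refine Cfsg.Lib.Core.le_pPrimeCore' inferInstance ?_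
      refine Nat.Coprime.coprime_dvd_left ?_ (Cfsg.Lib.Core.pPrimeCore_coprime p X)
      rw [← card_map_of_injective (K := φ.ker) K.subtype_injective]
      refine card_dvd_of_le ?_
      rintro _ ⟨x, hx, rfl⟩
      exact (QuotientGroup.eq_one_iff _).1 (congrArg Subtype.val hx)
    · exact Subtype.ext ((QuotientGroup.eq_one_iff _).2
        (Cfsg.Lib.Core.pPrimeCore_map_le_of_isSubnormal ‹K.Normal›.isSubnormal ⟨x, hx, rfl⟩))
  let e : ↥K ⧸ Cfsg.pPrimeCore p K ≃* ↥(K.map f) :=
    (QuotientGroup.quotientMulEquivOfEq hker.symm).trans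
      (QuotientGroup.quotientKerEquivOfSurjective φ (f.subgroupMap_surjective K))
  exact (Cfsg.Agent.S0630.iff_equiv e).2 (centralizer_pCore_le_normal h (K.map f))

/-- In a p-constrained group the normalizer and the centralizer of any p-subgroup are again p-constrained. -/
theorem result {G : Type*} [Group G] [Finite G] {p : ℕ} [Fact p.Prime] (hG : Cfsg.IsPConstrained p G) (P : Subgroup G) (hP : IsPGroup p P) : Cfsg.IsPConstrained p ↥(Subgroup.normalizer (P : Set G)) ∧ Cfsg.IsPConstrained p ↥(Subgroup.centralizer (P : Set G)) := by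
  have hN := Cfsg.Lib.Sig.isPConstrained_normalizer hG hP
  refine ⟨hN, ?_⟩
  set N := normalizer (P : Set G) with hNd
  set C := centralizer (P : Set G) with hCd
  have hCN : C ≤ N := centralizer_le_normalizer _
  haveI : (C.subgroupOf N).Normal := by
    refine ⟨fun c hc n => ?_⟩
    rw [mem_subgroupOf] at hc ⊢
    refine mem_centralizer_iff.2 fun y hy => ?_
    have h1 : (n : G)⁻¹ * y * n ∈ P := by
      simpa using (mem_normalizer_iff.1 (inv_mem n.2) y).1 hy
    have h2 := mem_centralizer_iff.1 hc _ h1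
    show y * ((n : G) * c * (n : G)⁻¹) = (n : G) * c * (n : G)⁻¹ * y
    calc y * ((n : G) * c * (n : G)⁻¹) = (n : G) * ((n : G)⁻¹ * y * n * c) * (n : G)⁻¹ := by group
      _ = (n : G) * c * (n : G)⁻¹ * y := by rw [h2]; group
  have h := Cfsg.Lib.Sig.isPConstrained_iff.1 (isPConstrained_normal hN (C.subgroupOf N))
  set e := subgroupOfEquivOfLe hCN
  have hmap : (Cfsg.pPrimeCore p ↥(C.subgroupOf N)).map e.toMonoidHom = Cfsg.pPrimeCore p C :=
    Cfsg.Lib.Core.map_pPrimeCore_equiv e
  exact Cfsg.Lib.Sig.isPConstrained_iff.2 ((Cfsg.Agent.S0630.iff_equiv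
    (QuotientGroup.congr (Cfsg.pPrimeCore p ↥(C.subgroupOf N)) (Cfsg.pPrimeCore p C) e hmap)).1 h)

end Cfsg.Agent.S0631
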