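import Cfsg.Statements.S0632
import Cfsg.Agent.Lib.Local.StableQuotient

set_option autoImplicit false
open Cfsg

namespace Cfsg.Agent.S0632

open Subgroup
open Cfsg.Lib.Local
open scoped commutatorElement

/-- A `p`-stable action on the image of `P` gives the stability condition for `P`. -/
theorem cond_of_stableOn {G X : Type*} [Group G] [Finite G] [Group X] [Finite X] {p : ℕ}
    [Fact p.Prime] (f : G →* X) (hfs : Function.Surjective f)
    (hcop : (Nat.card f.ker).Coprime p) (A P : Subgroup G) (hP : IsPGroup p P)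
    (hn : (P.map f).Normal) (hst : @IsPStableOn X _ p (P.map f) hn) (hq : ⁅⁅P, A⁆, A⁆ = ⊥) :
    (A.subgroupOf (normalizer (P : Set G))).map
      (QuotientGroup.mk' ((centralizer (P : Set G)).subgroupOf (normalizer (P : Set G)))) ≤
        pCore p _ := by
  classical
  haveI := hn
  set M := normalizer (P : Set G) with hM
  set C := centralizer ((P.map f : Subgroup X) : Set X) with hC
  have hdisj : P ⊓ f.ker = ⊥ := by
    obtain ⟨j, hj⟩ := IsPGroup.iff_card.1 hP
    exact inf_eq_bot_of_coprime (hj ▸ Nat.Coprime.pow_left j hcop.symm)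
  let ψ : ↥M ⧸ (centralizer (P : Set G)).subgroupOf M →* X ⧸ C :=
    QuotientGroup.lift _ ((QuotientGroup.mk' C).comp (f.comp M.subtype)) fun z hz => by
      refine (QuotientGroup.eq_one_iff _).2 (mem_centralizer_iff.2 ?_)
      rintro _ ⟨y, hy, rfl⟩
      show f y * f (z : G) = f (z : G) * f y
      rw [← map_mul, ← map_mul]
      exact congrArg f (mem_centralizer_iff.1 hz y hy)
  have hψ : Function.Bijective ψ := by
    refine ⟨(MonoidHom.ker_eq_bot_iff ψ).1 ?_, fun q => ?_⟩
    · rw [eq_bot_iff]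
      intro q hq'
      obtain ⟨z, rfl⟩ := QuotientGroup.mk_surjective q
      refine mem_bot.2 ((QuotientGroup.eq_one_iff z).2 (mem_subgroupOf.2
        (mem_centralizer_iff.2 fun y hy => ?_)))
      have h1 : f (z : G) ∈ C := (QuotientGroup.eq_one_iff _).1 hq'
      have h2 : f y * f (z : G) = f (z : G) * f y :=
        mem_centralizer_iff.1 h1 _ (mem_map_of_mem f hy)
      have h3 : y⁻¹ * ((z : G) * y * (z : G)⁻¹) ∈ P ⊓ f.ker := by
        refine Subgroup.mem_inf.2
          ⟨P.mul_mem (P.inv_mem hy) ((mem_normalizer_iff.1 z.2 y).1 hy), MonoidHom.mem_ker.2 ?_⟩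
        rw [map_mul, map_mul, map_mul, map_inv, map_inv, ← h2]
        group
      rw [hdisj, mem_bot, inv_mul_eq_one] at h3
      calc y * (z : G) = (z : G) * y * (z : G)⁻¹ * (z : G) := by rw [← h3]
        _ = (z : G) * y := by group
    · obtain ⟨w, rfl⟩ := QuotientGroup.mk'_surjective C q
      obtain ⟨z, hz, rfl⟩ := GlaubermanZJ.exists_normalizer_lift f hfs hcop hP w
        (by rw [normalizer_eq_top_iff.2 hn]; trivial)
      exact ⟨QuotientGroup.mk ⟨z, hz⟩, rfl⟩
  rintro _ ⟨⟨a, haM⟩, haA, rfl⟩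
  have ha : a ∈ A := haA
  have hq' : ⁅⁅P, zpowers a⁆, zpowers a⁆ = ⊥ := le_bot_iff.1 (hq ▸
    commutator_mono (commutator_mono le_rfl (zpowers_le.2 ha)) (zpowers_le.2 ha))
  have h1 := hst (f a) (by
    rw [← MonoidHom.map_zpowers, ← map_commutator, ← map_commutator, hq', Subgroup.map_bot])
  let e := MulEquiv.ofBijective ψ hψ
  rw [← Cfsg.Lib.Core.map_pCore_equiv e] at h1
  obtain ⟨y, hy, hye⟩ := h1
  exact (e.injective (hye.trans (rfl : _ = e (QuotientGroup.mk' _ ⟨a, haM⟩)))) ▸ hy

/-- For a group with a nontrivial normal p-subgroup, p-stability passes to and from the quotient by the largest normal subgroup of order prime to p. -/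
theorem result {G : Type*} [Group G] [Finite G] {p : ℕ} [Fact p.Prime] (hO : Cfsg.pCore p G ≠ ⊥) : Cfsg.IsPStable p G ↔ Cfsg.IsPStable p (G ⧸ Cfsg.pPrimeCore p G) := by
  set N := pPrimeCore p G with hN
  set f := QuotientGroup.mk' N with hf
  have hfs : Function.Surjective f := QuotientGroup.mk'_surjective N
  have hker : f.ker = N := QuotientGroup.ker_mk' N
  have hcop : (Nat.card f.ker).Coprime p := by
    rw [hker]; exact Cfsg.Lib.Core.pPrimeCore_coprime p G
  have hN' : pPrimeCore p (G ⧸ N) = ⊥ := Cfsg.Lib.Core.pPrimeCore_quotient_eq_bot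
  constructor
  · intro hs
    refine ⟨hs.1, fun h => hO (le_bot_iff.1 ?_), ?_⟩
    · have h1 : pCore p G ≤ N := by
        rw [← hker, ← Subgroup.map_eq_bot_iff, ← le_bot_iff, ← h]
        exact Cfsg.Lib.Core.map_pCore_le f hfs
      exact (le_inf le_rfl h1).trans (Cfsg.Lib.Sig.disjoint_of_isPGroup_coprime
        (Cfsg.Lib.Core.pCore_isPGroup p G) (Cfsg.Lib.Core.pPrimeCore_coprime p G)).le
    · intro A P _ hP _ _ hn hq
      rw [hN', bot_sup_eq] at hn
      haveI := hn
      have hid : (P.map (MonoidHom.id (G ⧸ N))) = P := Subgroup.map_id P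
      refine cond_of_stableOn (MonoidHom.id (G ⧸ N)) (fun x => ⟨x, rfl⟩)
        (by rw [MonoidHom.ker_id, card_bot]
            exact Nat.coprime_one_left p)
        A P hP (hid.symm ▸ hn) ?_ hq
      have h := StableQuotient.isPStableOn_quotient hs P hP
      convert h using 2
  · intro hs
    refine ⟨hs.1, hO, ?_⟩
    intro A P _ hP _ _ hn hq
    have hmap : (N ⊔ P).map f = P.map f := by
      rw [Subgroup.map_sup, (Subgroup.map_eq_bot_iff N).2 hker.ge, bot_sup_eq]
    have hn' : (P.map f).Normal := hmap ▸ hn.map f hfs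
    haveI := hn'
    exact cond_of_stableOn f hfs hcop A P hP hn'
      (StableQuotient.isPStableOn_of_pPrimeCore_eq_bot hs hN' (P.map f) (hP.map f)) hq

end Cfsg.Agent.S0632
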