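import Cfsg.Statements.S0633
import Cfsg.Agent.Lib.Local.TopModule
import Cfsg.Agent.Lib.Local.HallHigmanTheoremB
import Mathlib.FieldTheory.Minpoly.Field
-- import your own Cfsg.Agent.* helpers here

set_option autoImplicit false
open Cfsg

namespace Cfsg.Agent.S0633

open Subgroup Cfsg.Lib.Local Polynomial

theorem not_isMulCommutative_sylow {K : Type*} [Group K] [Finite K] {q : ℕ} [Fact q.Prime] (Q0 : Subgroup K)
    (hQ0 : IsPGroup q Q0) (hna : ∃ a ∈ Q0, ∃ b ∈ Q0, a * b ≠ b * a) (Q : Sylow q K) : ¬ IsMulCommutative Q := by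
  intro hc
  obtain ⟨a, ha, b, hb, hab⟩ := hna
  obtain ⟨S, hS⟩ := hQ0.exists_le_sylow
  let e := Sylow.equiv S Q
  refine hab (congrArg Subtype.val (e.injective (?_ : e (⟨a, hS ha⟩ * ⟨b, hS hb⟩) = e (⟨b, hS hb⟩ * ⟨a, hS ha⟩))))
  rw [map_mul, map_mul]
  exact hc.is_comm.comm _ _

theorem critical_arith {A P k : ℕ} (hA : 2 ≤ A) (hk : k < P) (hdvd : P ∣ A + 1 ∨ P ∣ A - 1)
    (hle : A * A * P ≤ k * (P - 1 + A * A)) : P = A + 1 ∧ A ≤ k := by
  obtain ⟨B, rfl⟩ : ∃ B, P = B + 1 := ⟨P - 1, by omega⟩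
  rw [Nat.add_sub_cancel] at hle
  have h1 : A * A * (B + 1) ≤ B * (B + A * A) := hle.trans (Nat.mul_le_mul_right _ (by omega))
  have hAB : A ≤ B := Nat.mul_self_le_mul_self_iff.1 (by nlinarith)
  have hP : B + 1 = A + 1 := by
    rcases hdvd with h | h
    · have := Nat.le_of_dvd (by omega) h; omega
    · have := Nat.le_of_dvd (by omega) h; omega
  obtain rfl : B = A := by omega
  refine ⟨rfl, Nat.le_of_mul_le_mul_right ?_ (show 0 < B + B * B by nlinarith)⟩
  nlinarith

/-- Theorem B of Hall and Higman on the minimal polynomial of a p-element of order p^n in a p-solvable linear group on a nonzero vector space in characteristic p with no nontrivial normal p-subgroup: its degree is p^n, except when some p^n₀ - 1 (n₀ ≤ n) is a power of a prime q for which the Sylow q-subgroups are non-abelian, in which case the degree is at least p^(n-n₀)(p^n₀ - 1). -/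
theorem result {F : Type*} [Field F] {p : ℕ} [Fact p.Prime] [CharP F p] {V : Type*} [AddCommGroup V] [Module F V] [FiniteDimensional F V] [Nontrivial V] (H : Subgroup (V ≃ₗ[F] V)) [Finite H] (hsol : Cfsg.IsPSolvable p H) (hOp : Cfsg.pCore p H = ⊥) (x : V ≃ₗ[F] V) (hx : x ∈ H) (n : ℕ) (hn : orderOf x = p ^ n) (r : ℕ) (hr : minpoly F (x : Module.End F V) = (Polynomial.X - 1) ^ r) : r = p ^ n ∨ ∃ n₀ q m : ℕ, 1 ≤ n₀ ∧ n₀ ≤ n ∧ q.Prime ∧ 1 ≤ m ∧ p ^ n₀ - 1 = q ^ m ∧ (∀ Q : Sylow q H, ¬ IsMulCommutative Q) ∧ p ^ (n - n₀) * (p ^ n₀ - 1) ≤ r := by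
  classical
  let ρ : H →* Module.End F V :=
    { toFun := fun g => ((g : V ≃ₗ[F] V) : Module.End F V)
      map_one' := rfl
      map_mul' := fun _ _ => rfl }
  have hρ : Function.Injective ρ := fun g g' e => Subtype.ext (LinearEquiv.toLinearMap_injective e)
  set x' : H := ⟨x, hx⟩ with hx'
  have hord : orderOf x' = p ^ n := by rw [hx', Subgroup.orderOf_mk, hn]
  set f : Module.End F V := ρ x' with hf
  have hr' : minpoly F f = (X - 1) ^ r := hr
  have hfr : (f - 1) ^ r = 0 := by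
    have h1 := minpoly.aeval F f
    rw [hr'] at h1
    simpa using h1
  have hpow : f ^ p ^ n = 1 := by rw [hf, ← map_pow, ← hord, pow_orderOf_eq_one, map_one]
  have hle : r ≤ p ^ n := by
    have h1 : minpoly F f ∣ (X - 1) ^ p ^ n := minpoly.dvd F f (by
      have h2 := pow_sub_one_eq F (p := p) f n
      rw [hpow, sub_self] at h2
      simpa using h2)
    have hne : ((X : F[X]) - 1) ^ p ^ n ≠ 0 := pow_ne_zero _ (by
      rw [show ((X : F[X]) - 1) = X - C 1 by simp]; exact X_sub_C_ne_zero 1)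
    have h3 := natDegree_le_of_dvd h1 hne
    rw [hr', show ((X : F[X]) - 1) = X - C 1 by simp, natDegree_pow, natDegree_pow, natDegree_X_sub_C, mul_one,
      mul_one] at h3
    exact h3
  rcases hle.eq_or_lt with h | hlt
  · exact Or.inl h
  right
  have hr0 : 0 < r := by
    rcases Nat.eq_zero_or_pos r with h0 | h0
    · exfalso
      rw [h0, pow_zero] at hfr
      exact one_ne_zero hfr
    · exact h0
  rcases Nat.eq_zero_or_pos n with hn0 | hn0
  · subst hn0; rw [pow_zero] at hlt; omega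
  obtain ⟨N, rfl⟩ : ∃ N, n = N + 1 := ⟨n - 1, by omega⟩
  set y := x' ^ p ^ N with hy
  have hy1 : y ≠ 1 := fun e => absurd (Nat.le_of_dvd (pow_pos (Fact.out : p.Prime).pos _)
    (hord ▸ orderOf_dvd_of_pow_eq_one e)) (Nat.pow_lt_pow_right (Fact.out : p.Prime).one_lt (Nat.lt_succ_self N)).not_ge
  have hX : IsPGroup p (zpowers x') := IsPGroup.of_card (by rw [Nat.card_zpowers, hord])
  obtain ⟨q, hq, hqp, Q0, hQ0, -, hQX, hne⟩ :=
    exists_moved_qGroup hsol hOp hX (pow_mem (mem_zpowers x') _ : y ∈ zpowers x') hy1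
  have : Fact q.Prime := ⟨hq⟩
  have hyp : y ^ p = 1 := by rw [hy, ← pow_mul, ← pow_succ, ← hord, pow_orderOf_eq_one]
  obtain ⟨Q, -, h⟩ := exists_minimalMoved hQ0 hQX hne (pow_mem (mem_zpowers x') _)
    (fun g hg => by
      obtain ⟨k, rfl⟩ := mem_zpowers_iff.1 hg
      exact (((Commute.refl x').zpow_left k).pow_right _).eq)
    (by rw [orderOf_eq_prime hyp hy1]; exact (Nat.coprime_primes Fact.out hq).2 (Ne.symm hqp))
  obtain ⟨hna, j, hj, m, hm, ⟨-, hdvd⟩, hb⟩ := theoremB hρ h hqp (mem_zpowers x') (n := N) hy.symm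
    (by rw [← hord, pow_orderOf_eq_one]) hlt hfr
  rw [show q ^ (2 * m) = q ^ m * q ^ m by rw [← pow_add, two_mul]] at hb
  have hk : r / p ^ j < p ^ (N + 1 - j) := Nat.div_lt_of_lt_mul (by
    rw [← pow_add, Nat.add_sub_cancel' (by omega)]; exact hlt)
  obtain ⟨hP, hAk⟩ := critical_arith
    (Nat.one_lt_pow hm.ne' hq.one_lt) hk hdvd hb
  refine ⟨N + 1 - j, q, m, by omega, by omega, hq, hm, by omega, not_isMulCommutative_sylow Q h.isP hna, ?_⟩
  rw [show N + 1 - (N + 1 - j) = j by omega, hP, Nat.add_sub_cancel]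
  exact (Nat.mul_le_mul_left _ hAk).trans (Nat.mul_div_le r _)

end Cfsg.Agent.S0633
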