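import Cfsg.Statements.S0634
import Cfsg.Agent.Lib.Core.PSolvable
import Cfsg.Agent.Lib.Core.Cores

set_option autoImplicit false
open Cfsg

namespace Cfsg.Agent.S0634

open Subgroup

theorem pPrimeCore_quotient {G : Type*} [Group G] [Finite G] {p : ℕ} [Fact p.Prime]
    (N M : Subgroup G) [N.Normal] [M.Normal]
    (hM : M = (Cfsg.pPrimeCore p (G ⧸ N)).comap (QuotientGroup.mk' N)) :
    Cfsg.pPrimeCore p (G ⧸ M) = ⊥ := by
  have hNM : N ≤ M := by
    rw [hM]
    exact (QuotientGroup.ker_mk' N).symm.trans_le (ker_le_comap _ _)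
  have hmap : M.map (QuotientGroup.mk' N) = Cfsg.pPrimeCore p (G ⧸ N) := by
    rw [hM]; exact map_comap_eq_self_of_surjective (QuotientGroup.mk'_surjective N) _
  haveI : (M.map (QuotientGroup.mk' N)).Normal :=
    Normal.map inferInstance _ (QuotientGroup.mk'_surjective N)
  let e : (G ⧸ N) ⧸ Cfsg.pPrimeCore p (G ⧸ N) ≃* G ⧸ M :=
    (QuotientGroup.quotientMulEquivOfEq hmap.symm).trans
      (QuotientGroup.quotientQuotientEquivQuotient N M hNM)
  rw [← Cfsg.Lib.Core.map_pPrimeCore_equiv e, Cfsg.Lib.Core.pPrimeCore_quotient_eq_bot, Subgroup.map_bot]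

/-- In a p-soluble group each p-factor of the upper p-series contains its own centralizer in the corresponding quotient. -/
theorem result {G : Type*} [Group G] [Finite G] {p : ℕ} [Fact p.Prime] (hsol : Cfsg.IsPSolvable p G) (k : ℕ) : Subgroup.centralizer ((((Cfsg.upperPSeries p G (2 * k + 2)).1.map (QuotientGroup.mk' (Cfsg.upperPSeries p G (2 * k + 1)).1)) : Subgroup (G ⧸ (Cfsg.upperPSeries p G (2 * k + 1)).1)) : Set (G ⧸ (Cfsg.upperPSeries p G (2 * k + 1)).1)) ≤ (Cfsg.upperPSeries p G (2 * k + 2)).1.map (QuotientGroup.mk' (Cfsg.upperPSeries p G (2 * k + 1)).1) := by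
  have h1 : (Cfsg.upperPSeries p G (2 * k + 1)).1 =
      (Cfsg.pPrimeCore p (G ⧸ (Cfsg.upperPSeries p G (2 * k)).1)).comap (QuotientGroup.mk' _) := by
    rw [Cfsg.upperPSeries]
    simp
  have h2 : (Cfsg.upperPSeries p G (2 * k + 2)).1.map
      (QuotientGroup.mk' (Cfsg.upperPSeries p G (2 * k + 1)).1) =
        Cfsg.pCore p (G ⧸ (Cfsg.upperPSeries p G (2 * k + 1)).1) := by
    have h3 : (Cfsg.upperPSeries p G (2 * k + 2)).1 =
        (Cfsg.pCore p (G ⧸ (Cfsg.upperPSeries p G (2 * k + 1)).1)).comap (QuotientGroup.mk' _) := by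
      show (Cfsg.upperPSeries p G (2 * k + 1 + 1)).1 = _
      conv_lhs => rw [Cfsg.upperPSeries]
      simp
    rw [h3]
    exact Subgroup.map_comap_eq_self_of_surjective (QuotientGroup.mk'_surjective _) _
  rw [h2]
  exact Cfsg.Lib.Core.centralizer_pCore_le_of_isPSolvable
    (Cfsg.Lib.Core.isPSolvable_quotient hsol _) (pPrimeCore_quotient _ _ h1)

end Cfsg.Agent.S0634
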