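import Cfsg.Statements.S0635
import Cfsg.Agent.Lib.Local.PLengthChain
import Mathlib.GroupTheory.Nilpotent
-- import your own Cfsg.Agent.* helpers here

set_option autoImplicit false
open Cfsg

namespace Cfsg.Agent.S0635

open Subgroup Cfsg.Lib.Local

universe u

theorem pChain_of_class {p : ℕ} [hp : Fact p.Prime] : ∀ (c : ℕ) {G : Type u} [Group G] [Finite G],
    Cfsg.IsPSolvable p G → ∀ S : Sylow p G, Group.nilpotencyClass (S : Subgroup G) ≤ c → PChain p c G := by
  intro c
  induction c with
  | zero =>
    intro G _ _ _ S hS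
    refine pChain_of_coprime ((hp.out.coprime_iff_not_dvd.2 fun hd => ?_).symm) 0
    haveI := S.isPGroup'.isNilpotent
    have : Subsingleton (S : Subgroup G) := Group.nilpotencyClass_zero_iff_subsingleton.1 (Nat.le_zero.1 hS)
    have h1 : Nat.card (S : Subgroup G) = 1 := Nat.card_of_subsingleton (1 : (S : Subgroup G))
    refine S.not_dvd_index ?_
    rw [← one_mul (S : Subgroup G).index, ← h1, card_mul_index]
    exact hd
  | succ c ih =>
    intro G _ _ hsol S hS
    refine PChain.reduce ?_
    set π := QuotientGroup.mk' (Cfsg.pPrimeCore p G)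
    have hK := Lib.Core.isPSolvable_quotient hsol (Cfsg.pPrimeCore p G)
    set π' := QuotientGroup.mk' (Cfsg.pCore p (G ⧸ Cfsg.pPrimeCore p G))
    have hf : Function.Surjective (π'.comp π) :=
      (QuotientGroup.mk'_surjective _).comp (QuotientGroup.mk'_surjective _)
    set S2 := S.mapSurjective hf
    refine ih (Lib.Core.isPSolvable_quotient hK _) S2 ?_
    haveI := S.isPGroup'.isNilpotent
    haveI := S2.isPGroup'.isNilpotent
    have hmem : ∀ s : (S : Subgroup G), π' (π s) ∈ (S2 : Subgroup _) := fun s => ⟨s, s.2, rfl⟩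
    let ψ : (S : Subgroup G) →* (S2 : Subgroup _) :=
      ((π'.comp π).comp (S : Subgroup G).subtype).codRestrict _ hmem
    have hker : center (S : Subgroup G) ≤ ψ.ker := by
      intro z hz
      refine MonoidHom.mem_ker.2 (Subtype.ext ((QuotientGroup.eq_one_iff _).2 ?_))
      refine Lib.Core.centralizer_pCore_le_of_isPSolvable hK Lib.Core.pPrimeCore_quotient_eq_bot
        (mem_centralizer_iff.2 fun w hw => ?_)
      obtain ⟨s, hs, rfl⟩ := Lib.Core.pCore_le_sylow (S.mapSurjective (QuotientGroup.mk'_surjective _)) hw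
      show π s * π (z : G) = π (z : G) * π s
      rw [← map_mul, ← map_mul]
      exact congrArg π (congrArg Subtype.val (mem_center_iff.1 hz ⟨s, hs⟩))
    let χ := QuotientGroup.lift _ ψ hker
    have hχ : Function.Surjective χ := by
      rintro ⟨_, s, hs, rfl⟩
      exact ⟨QuotientGroup.mk ⟨s, hs⟩, Subtype.ext rfl⟩
    refine (Group.nilpotencyClass_le_of_surjective χ hχ).trans ?_
    rw [Group.nilpotencyClass_quotient_center]
    omega

/-- The p-length of a p-soluble group is at most the nilpotency class of its Sylow p-subgroups. -/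
theorem result {G : Type*} [Group G] [Finite G] {p : ℕ} [Fact p.Prime] (hsol : Cfsg.IsPSolvable p G) (S : Sylow p G) : Cfsg.PLengthLE p (Group.nilpotencyClass ↥(S : Subgroup G)) G := by
  exact (Cfsg.Lib.Local.pLengthLE_iff _).2 (pChain_of_class _ hsol S le_rfl)

end Cfsg.Agent.S0635
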