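import Cfsg.Statements.S0645
import Cfsg.Agent.Lib.PGroup.Noncyclic
import Cfsg.Agent.Lib.PGroup.Metacyclic

set_option autoImplicit false
open Cfsg

namespace Cfsg.Agent.S0645

open Subgroup
open Cfsg.Lib.PGroup

/-- Classification of p-groups with a cyclic maximal subgroup, odd p: a non-abelian one of order p^n has generators a of order p^(n-1) and b of order p, b outside the cyclic subgroup generated by a, with b a b⁻¹ = a^(1 + p^(n-2)). -/
theorem result {G : Type*} [Group G] [Finite G] {p : ℕ} [Fact p.Prime] (hp : p ≠ 2) (n : ℕ) (hn : 3 ≤ n) (hG : Nat.card G = p ^ n) (C : Subgroup G) (hC : IsCyclic C) (hCi : C.index = p) (hna : ∃ x y : G, x * y ≠ y * x) : ∃ a b : G, orderOf a = p ^ (n - 1) ∧ orderOf b = p ∧ b ∉ Subgroup.zpowers a ∧ b * a * b⁻¹ = a ^ (1 + p ^ (n - 2)) := by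
  have hp' : p.Prime := Fact.out
  have hR : IsPGroup p G := IsPGroup.of_card hG
  have hncT : ¬ IsCyclic (⊤ : Subgroup G) := fun h => by
    haveI := Subgroup.topEquiv.isCyclic.1 h
    obtain ⟨x, y, hxy⟩ := hna
    exact hxy (IsCyclic.commGroup.mul_comm x y)
  obtain ⟨E, -, hE, hEc⟩ := Noncyclic.exists_elemAb_sq hp hR ⊤ hncT
  obtain ⟨b, hbE, hbC⟩ : ∃ b ∈ E, b ∉ C := by
    by_contra h
    push Not at h
    exact Noncyclic.not_isCyclic_of_elemAb hE hEc
      (Subgroup.isCyclic_of_le h)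
  have hb : orderOf b = p := orderOf_of_mem_isElementaryAbelian hE hbE (fun e => hbC (e ▸ C.one_mem))
  obtain ⟨g, hg⟩ := hC.exists_generator
  have hzC : zpowers (g : G) = C := by
    refine le_antisymm (zpowers_le.2 g.2) fun x hx => ?_
    obtain ⟨i, hi⟩ := hg ⟨x, hx⟩
    exact ⟨i, congrArg Subtype.val hi⟩
  set a := (g : G) with ha'
  have hcard : orderOf a = p ^ (n - 1) := by
    rw [← Nat.card_zpowers, hzC]
    have h := C.card_mul_index
    rw [hG, hCi, show n = n - 1 + 1 by omega, pow_succ] at h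
    exact Nat.eq_of_mul_eq_mul_right hp'.pos h
  haveI hCn : C.Normal := by
    refine normal_of_isCoatom hR ⟨fun h => ?_, fun D hD => ?_⟩
    · rw [h, index_top] at hCi; exact hp'.ne_one hCi.symm
    · have h1 := index_strictAnti hD
      obtain ⟨k, hk⟩ := hR.index D
      rw [hCi, hk] at h1
      have : k = 0 := by
        rcases Nat.eq_zero_or_pos k with h | h
        · exact h
        · exact absurd h1 (not_lt.2 (Nat.le_self_pow h.ne' p))
      exact index_eq_one.1 (by rw [hk, this, pow_zero])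
  have hcon : b * a * b⁻¹ ∈ zpowers a := hzC.symm ▸ hCn.conj_mem a g.2 b
  obtain ⟨r, hr⟩ := (isOfFinOrder_of_finite a).mem_powers_iff_mem_zpowers.2 hcon
  replace hr : b * a * b⁻¹ = a ^ r := hr.symm
  have hbp : b ^ p = 1 := hE.2 b hbE
  have hiter : ∀ i : ℕ, b ^ i * a * (b ^ i)⁻¹ = a ^ (r ^ i) := by
    intro i
    induction i with
    | zero => simp
    | succ i ih =>
      rw [pow_succ', show b * b ^ i * a * (b * b ^ i)⁻¹ = b * (b ^ i * a * (b ^ i)⁻¹) * b⁻¹ by group,
        ih, ← conj_pow, hr, ← pow_mul, pow_succ' r]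
  have hrp : r ^ p ≡ 1 [MOD p ^ (n - 1)] := by
    rw [← hcard]
    refine pow_eq_pow_iff_modEq.1 ?_
    rw [← hiter p, hbp]; simp
  obtain ⟨m, hm⟩ : ∃ m, n = m + 2 := ⟨n - 2, by omega⟩
  subst hm
  rw [show m + 2 - 1 = m + 1 by omega] at hrp hcard
  have hr1 : r ≡ 1 [MOD p] := by
    have h1 : r ^ p ≡ r [MOD p] := by
      rw [← ZMod.natCast_eq_natCast_iff]
      push_cast
      exact ZMod.pow_card _
    exact h1.symm.trans (hrp.of_dvd (dvd_pow_self p (Nat.succ_ne_zero m)))
  have hrpos : 1 ≤ r := by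
    rcases Nat.eq_zero_or_pos r with h | h
    · rw [h] at hr1
      exact absurd ((Nat.modEq_zero_iff_dvd).1 hr1.symm) hp'.not_dvd_one
    · exact h
  obtain ⟨u, hu, hgu⟩ := Metacyclic.geom_prime hp hr1
  have hdiv : p ^ m ∣ r - 1 := by
    have h1 : p ^ (m + 1) ∣ (r - 1) * Metacyclic.geom r p := by
      have h2 := Metacyclic.mul_geom r p hrpos
      have h3 : p ^ (m + 1) ∣ r ^ p - 1 := (Nat.modEq_iff_dvd' (Nat.one_le_pow _ _ hrpos)).1 hrp.symm
      rwa [← h2, Nat.add_sub_cancel] at h3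
    rw [hgu, pow_succ', mul_left_comm] at h1
    exact (Nat.Coprime.pow_left m ((Nat.Prime.coprime_iff_not_dvd hp').2 hu)).dvd_of_dvd_mul_right
      (Nat.dvd_of_mul_dvd_mul_left hp'.pos h1)
  obtain ⟨k, hk⟩ := hdiv
  have hr' : r = 1 + p ^ m * k := by omega
  have hpm : a ^ (p ^ (m + 1)) = 1 := by rw [← hcard]; exact pow_orderOf_eq_one a
  have hkp : ¬ p ∣ k := by
    rintro ⟨c, hc⟩
    have hcomm : b * a = a * b := by
      have : b * a * b⁻¹ = a := by
        rw [hr, hr', hc, pow_add, pow_one, ← mul_assoc, ← pow_succ, pow_mul, hpm, one_pow, mul_one]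
      exact (mul_inv_eq_iff_eq_mul.1 this)
    obtain ⟨x, y, hxy⟩ := hna
    have htop : closure ({a, b} : Set G) = ⊤ := by
      have hle : C ≤ closure ({a, b} : Set G) := by
        rw [← hzC, zpowers_le]; exact subset_closure (by simp)
      have hlt : C < closure ({a, b} : Set G) :=
        lt_of_le_of_ne hle fun e => hbC (e ▸ subset_closure (by simp))
      have h1 := index_strictAnti hlt
      obtain ⟨i, hi⟩ := hR.index (closure ({a, b} : Set G))
      rw [hCi, hi] at h1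
      have : i = 0 := by
        rcases Nat.eq_zero_or_pos i with h | h
        · exact h
        · exact absurd h1 (not_lt.2 (Nat.le_self_pow h.ne' p))
      exact index_eq_one.1 (by rw [hi, this, pow_zero])
    have hK : IsMulCommutative (closure ({a, b} : Set G)) := by
      refine isMulCommutative_closure ?_
      rintro s (rfl | rfl) t (rfl | rfl)
      exacts [rfl, hcomm.symm, hcomm, rfl]
    exact hxy (congrArg Subtype.val (hK.is_comm.comm ⟨x, htop ▸ mem_top x⟩ ⟨y, htop ▸ mem_top y⟩))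
  obtain ⟨j, hj⟩ : ∃ j : ℕ, k * j ≡ 1 [MOD p] := by
    have hk0 : (k : ZMod p) ≠ 0 := by rwa [ne_eq, ZMod.natCast_eq_zero_iff]
    refine ⟨((k : ZMod p)⁻¹).val, (ZMod.natCast_eq_natCast_iff _ _ _).1 ?_⟩
    push_cast
    rw [ZMod.natCast_zmod_val]
    exact mul_inv_cancel₀ hk0
  have hjp : ¬ p ∣ j := fun h => hp'.not_dvd_one (hj.dvd_iff dvd_rfl |>.1 (h.mul_left k))
  have hm1 : 1 ≤ m := by omega
  refine ⟨a, b ^ j, by rw [show m + 2 - 1 = m + 1 by omega, hcard], ?_, ?_, ?_⟩
  · rw [orderOf_pow, hb, Nat.Coprime.gcd_eq_one ((Nat.Prime.coprime_iff_not_dvd hp').2 hjp),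
      Nat.div_one]
  · intro h
    rw [hzC] at h
    obtain ⟨i, hi⟩ : ∃ i : ℕ, (b ^ j) ^ i = b := by
      refine exists_pow_eq_self_of_coprime ?_
      rw [hb]
      exact ((Nat.Prime.coprime_iff_not_dvd hp').2 hjp).symm
    exact hbC (hi ▸ pow_mem h i)
  · rw [hiter j, show m + 2 - 2 = m by omega]
    refine pow_eq_pow_iff_modEq.2 ?_
    rw [hcard]
    refine (ZMod.natCast_eq_natCast_iff _ _ _).1 ?_
    have hsq : ((p ^ m * k : ℕ) : ZMod (p ^ (m + 1))) * ((p ^ m * k : ℕ) : ZMod (p ^ (m + 1))) = 0 := by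
      rw [← Nat.cast_mul, ZMod.natCast_eq_zero_iff]
      refine Dvd.dvd.trans (pow_dvd_pow p (show m + 1 ≤ m + m by omega)) ⟨k * k, ?_⟩
      ring
    have hpw : ∀ i : ℕ, (r : ZMod (p ^ (m + 1))) ^ i = 1 + i * ((p ^ m * k : ℕ) : ZMod (p ^ (m + 1))) := by
      intro i
      induction i with
      | zero => simp
      | succ i ih =>
        rw [pow_succ (r : ZMod (p ^ (m + 1))) i, ih, hr']
        push_cast at hsq ⊢
        linear_combination (i : ZMod (p ^ (m + 1))) * hsq
    push_cast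
    rw [hpw]
    congr 1
    obtain ⟨c, hc⟩ := (Nat.modEq_iff_dvd).1 hj.symm
    have hz : ((p : ZMod (p ^ (m + 1)))) ^ (m + 1) = 0 := by
      rw [← Nat.cast_pow]; exact ZMod.natCast_self _
    have hc' := congrArg (Int.cast : ℤ → ZMod (p ^ (m + 1))) hc
    push_cast at hc' ⊢
    linear_combination ((p : ZMod (p ^ (m + 1))) ^ m) * hc' + (c : ZMod (p ^ (m + 1))) * hz

end Cfsg.Agent.S0645
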