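import Cfsg.Statements.S0636
import Cfsg.Agent.Lib.PGroup.Noncyclic
import Cfsg.Agent.S0645

set_option autoImplicit false
open Cfsg

namespace Cfsg.Agent.S0636

open Subgroup
open scoped commutatorElement

/-- In a nonabelian group of order `p ^ (m + 1)`, `p` odd, with a cyclic maximal subgroup the
elements of order dividing `p` form a subgroup of order `p ^ 2`. -/
theorem omega_of_cyclic_maximal {K : Type*} [Group K] [Finite K] {p : ℕ} [Fact p.Prime]
    (hp : p ≠ 2) (m : ℕ) (hm : 2 ≤ m) (hK : Nat.card K = p ^ (m + 1)) (C : Subgroup K)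
    (hC : IsCyclic C) (hCi : C.index = p) (hna : ∃ x y : K, x * y ≠ y * x) :
    ∃ Ω : Subgroup K, (∀ k, k ∈ Ω ↔ k ^ p = 1) ∧ Nat.card Ω = p ^ 2 := by
  have hp' : p.Prime := Fact.out
  obtain ⟨a, b, ha, hb, hba, hconj⟩ :=
    Cfsg.Agent.S0645.result hp (m + 1) (by omega) hK C hC hCi hna
  rw [show m + 1 - 1 = m by omega] at ha
  rw [show m + 1 - 2 = m - 1 by omega] at hconj
  set c := a ^ p ^ (m - 1) with hc
  have hapm : a ^ p ^ m = 1 := by rw [← ha]; exact pow_orderOf_eq_one a
  have hcp : c ^ p = 1 := by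
    rw [hc, ← pow_mul, ← pow_succ, show m - 1 + 1 = m by omega, hapm]
  have hba' : b * a = c * (a * b) := by
    calc b * a = b * a * b⁻¹ * b := by group
      _ = c * (a * b) := by
        rw [hconj, hc, pow_add, pow_one, ← mul_assoc, ← (Commute.pow_self a _).eq]
  have hbc : b * c = c * b := by
    rw [← mul_inv_eq_iff_eq_mul, hc, ← conj_pow, hconj, ← pow_mul, add_mul, one_mul, ← pow_add,
      pow_add a (p ^ (m - 1)), show m - 1 + (m - 1) = m + (m - 2) by omega, pow_add p m, pow_mul,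
      hapm, one_pow, mul_one]
  have hlt : zpowers a < closure ({a, b} : Set K) := by
    refine lt_of_le_of_ne (zpowers_le.2 (subset_closure (by simp))) fun e => hba ?_
    rw [e]; exact subset_closure (by simp)
  have hia : (zpowers a).index = p := by
    have h := (zpowers a).card_mul_index
    rw [Nat.card_zpowers, ha, hK, pow_succ] at h
    exact Nat.eq_of_mul_eq_mul_left (pow_pos hp'.pos m) h
  have htop : closure ({a, b} : Set K) = ⊤ := by
    have h1 := index_strictAnti hlt
    have h2 : (closure ({a, b} : Set K)).index ∣ p := hia ▸ index_dvd_of_le hlt.le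
    rcases (Nat.dvd_prime hp').1 h2 with h | h
    · exact index_eq_one.1 h
    · rw [hia, h] at h1; exact absurd h1 (lt_irrefl _)
  have hcc : c ∈ center K := by
    have hle : (⊤ : Subgroup K) ≤ centralizer ({c} : Set K) := by
      rw [← htop, closure_le]
      rintro x (rfl | rfl)
      · exact mem_centralizer_singleton_iff.2 (Commute.self_pow _ _).eq
      · exact mem_centralizer_singleton_iff.2 hbc
    exact mem_center_iff.2 fun g => mem_centralizer_singleton_iff.1 (hle (mem_top g))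
  haveI : (zpowers c).Normal := ⟨fun x hx g => by
    rw [mem_center_iff.1 (zpowers_le.2 hcc hx) g, mul_inv_cancel_right]; exact hx⟩
  have hcomm : IsMulCommutative (K ⧸ zpowers c) := by
    refine ⟨⟨fun x y => ?_⟩⟩
    have hab : (a : K ⧸ zpowers c) * b = b * a := by
      rw [← QuotientGroup.mk_mul, ← QuotientGroup.mk_mul, QuotientGroup.eq, hba',
        ← mem_center_iff.1 hcc (a * b), inv_mul_cancel_left]
      exact mem_zpowers c
    have hcl : IsMulCommutative (closure ({(a : K ⧸ zpowers c), (b : K ⧸ zpowers c)} : Set _)) := by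
      refine isMulCommutative_closure ?_
      rintro s (rfl | rfl) t (rfl | rfl)
      exacts [rfl, hab, hab.symm, rfl]
    have hall : ∀ z : K ⧸ zpowers c,
        z ∈ closure ({(a : K ⧸ zpowers c), (b : K ⧸ zpowers c)} : Set _) := by
      intro z
      obtain ⟨k, rfl⟩ := QuotientGroup.mk'_surjective (zpowers c) z
      have := mem_map_of_mem (QuotientGroup.mk' (zpowers c)) (htop.ge (mem_top k))
      rw [MonoidHom.map_closure, Set.image_pair] at this
      exact this
    exact congrArg Subtype.val (hcl.is_comm.comm ⟨x, hall x⟩ ⟨y, hall y⟩)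
  have hder : commutator K ≤ zpowers c :=
    Subgroup.Normal.quotient_commutative_iff_commutator_le.1 hcomm
  have hcl : commutator K ≤ center K := hder.trans (zpowers_le.2 hcc)
  let f : K →* K := MonoidHom.mk' (fun g => g ^ p) fun x y => by
    show (x * y) ^ p = x ^ p * y ^ p
    rw [Cfsg.Lib.PGroup.mul_pow_of_class_two hcl]
    obtain ⟨u, hu⟩ := Nat.Prime.dvd_choose_self hp' two_ne_zero
      (lt_of_le_of_ne hp'.two_le (Ne.symm hp))
    have h1 : ⁅y, x⁆ ^ p = 1 := by
      obtain ⟨i, hi⟩ := hder (commutator_mem_commutator (mem_top y) (mem_top x))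
      rw [← hi]
      show (c ^ i) ^ p = 1
      rw [← zpow_natCast, ← zpow_mul, mul_comm, zpow_mul, zpow_natCast, hcp, one_zpow]
    rw [hu, pow_mul, h1, one_pow, mul_one]
  refine ⟨f.ker, fun k => Iff.rfl, ?_⟩
  obtain ⟨e, he⟩ := IsPGroup.iff_card.1 ((IsPGroup.of_card hK).to_subgroup f.ker)
  have hbk : b ∈ f.ker := by
    show b ^ p = 1
    rw [← hb]; exact pow_orderOf_eq_one b
  have hlow : zpowers b < f.ker := by
    refine lt_of_le_of_ne (zpowers_le.2 hbk) fun e => ?_
    have hcb : c ∈ zpowers b := e.symm ▸ (show c ^ p = 1 from hcp)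
    have hbne : c ≠ 1 := by
      intro h1
      have := orderOf_dvd_of_pow_eq_one h1
      rw [ha] at this
      have := (Nat.pow_dvd_pow_iff_le_right hp'.one_lt).1 this
      omega
    have hoc : orderOf c = p := orderOf_eq_prime hcp hbne
    have heq : zpowers c = zpowers b := Subgroup.eq_of_le_of_card_ge (zpowers_le.2 hcb)
      (by rw [Nat.card_zpowers, Nat.card_zpowers, hb, hoc])
    refine hba ?_
    have : b ∈ zpowers c := heq ▸ mem_zpowers b
    exact zpowers_le.2 (pow_mem (mem_zpowers a) _) this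
  have h1 : p < Nat.card f.ker := by
    have := Set.Finite.card_lt_card (Set.toFinite (f.ker : Set K)) (show (zpowers b : Set K) ⊂ f.ker from hlow)
    rwa [SetLike.coe_sort_coe, SetLike.coe_sort_coe, Nat.card_zpowers, hb] at this
  have h2 : Nat.card (f.ker ⊓ zpowers a : Subgroup K) ≤ p := by
    haveI : IsCyclic (f.ker ⊓ zpowers a : Subgroup K) := Subgroup.isCyclic_of_le inf_le_right
    obtain ⟨g, hg⟩ := IsCyclic.exists_generator (α := (f.ker ⊓ zpowers a : Subgroup K))
    rw [← orderOf_eq_card_of_forall_mem_zpowers hg]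
    refine Nat.le_of_dvd hp'.pos (orderOf_dvd_of_pow_eq_one (Subtype.ext ?_))
    rw [SubmonoidClass.coe_pow]
    exact g.2.1
  have h3 := (Nat.card_le_card_of_injective
    (fun q : f.ker ⧸ (zpowers a).subgroupOf f.ker => ((q.out : f.ker) : K ⧸ zpowers a))
    (fun q q' h => by
      rw [← QuotientGroup.out_eq' q, ← QuotientGroup.out_eq' q', QuotientGroup.eq]
      exact mem_subgroupOf.2 (QuotientGroup.eq.1 h)))
  have h4 := ((zpowers a).subgroupOf f.ker).card_mul_index
  have h5 : Nat.card ((zpowers a).subgroupOf f.ker) = Nat.card (f.ker ⊓ zpowers a : Subgroup K) := by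
    rw [← inf_subgroupOf_left (zpowers a) f.ker,
      Nat.card_congr (subgroupOfEquivOfLe inf_le_left).toEquiv]
  rw [h5, he] at h4
  rw [he] at h1 ⊢
  have h6 : p ^ e ≤ p ^ 2 := by
    rw [← h4, sq]
    exact Nat.mul_le_mul h2 (h3.trans (le_of_eq hia))
  have h7 : 1 < e := (Nat.pow_lt_pow_iff_right hp'.one_lt).1 (by simpa using h1)
  have h8 : e ≤ 2 := (Nat.pow_le_pow_iff_right hp'.one_lt).1 h6
  rw [show e = 2 by omega]

/-- For odd p, every non-cyclic normal subgroup of a p-group contains a normal elementary abelian subgroup of the whole group of order p². -/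
theorem result {R : Type*} [Group R] [Finite R] {p : ℕ} [Fact p.Prime] (hp : p ≠ 2) (hR : IsPGroup p R) (S : Subgroup R) [S.Normal] (hS : ¬ IsCyclic S) : ∃ A : Subgroup R, A ≤ S ∧ A.Normal ∧ Cfsg.IsElementaryAbelian p A ∧ Nat.card A = p ^ 2 := by
  have hp' : p.Prime := Fact.out
  obtain ⟨A, -, ⟨hAn, hAc, hAS⟩, hmax⟩ :=
    (Set.toFinite {A : Subgroup R | A.Normal ∧ IsMulCommutative A ∧ A ≤ S}).exists_le_maximal
      (a := ⊥) ⟨inferInstance, ⟨⟨fun x y => Subtype.ext
        (by simp [Subgroup.mem_bot.1 x.2, Subgroup.mem_bot.1 y.2])⟩⟩, bot_le⟩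
  haveI := hAn
  haveI := hAc
  by_cases hAcyc : IsCyclic A
  swap
  · obtain ⟨E, hEA, hEn, hE, hEc⟩ :=
      Cfsg.Lib.PGroup.Noncyclic.exists_normal_elemAb_sq_of_abelian hp hR A hAcyc
    exact ⟨E, hEA.trans hAS, hEn, hE, hEc⟩
  set f := QuotientGroup.mk' A with hf
  have hfker : f.ker = A := QuotientGroup.ker_mk' A
  have hAs : ∀ {x : R}, x ∈ A → ∀ {y : R}, y ∈ A → x * y = y * x := fun {x} hx {y} hy =>
    congrArg Subtype.val (hAc.is_comm.comm ⟨x, hx⟩ ⟨y, hy⟩)
  -- a central element of order `p` of `R / A` inside the image of a normal subgroup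
  have hlift : ∀ T : Subgroup R, T.Normal → ¬ T ≤ A → ∃ x ∈ T, x ∉ A ∧
      (A ⊔ zpowers x).Normal ∧ (A.subgroupOf (A ⊔ zpowers x)).index = p := by
    intro T hT hTA
    haveI : (T.map f).Normal := hT.map f (QuotientGroup.mk'_surjective A)
    have hne : T.map f ≠ ⊥ := fun h => hTA (by rwa [Subgroup.map_eq_bot_iff, hfker] at h)
    obtain ⟨z, hzT, hzc, hz⟩ :=
      Cfsg.Lib.PGroup.exists_mem_center_orderOf_eq (hR.to_quotient A) hne
    obtain ⟨x, hx, rfl⟩ := hzT
    have heq : (zpowers (f x)).comap f = A ⊔ zpowers x := by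
      rw [← MonoidHom.map_zpowers, comap_map_eq, hfker, sup_comm]
    refine ⟨x, hx, fun hxA => ?_, ?_, ?_⟩
    · rw [hf, QuotientGroup.mk'_apply, (QuotientGroup.eq_one_iff x).2 hxA, orderOf_one] at hz
      exact hp'.one_lt.ne hz
    · rw [← heq]
      haveI : (zpowers (f x)).Normal := ⟨fun a ha g => by
        rw [Subgroup.mem_center_iff.1 (zpowers_le.2 hzc ha) g, mul_inv_cancel_right]; exact ha⟩
      infer_instance
    · rw [← heq]
      have h := (A.subgroupOf ((zpowers (f x)).comap f)).card_mul_index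
      rw [Nat.card_congr (subgroupOfEquivOfLe (le_trans hfker.ge (ker_le_comap f _))).toEquiv,
        Cfsg.Lib.Core.card_comap_eq f (QuotientGroup.mk'_surjective A), hfker, Nat.card_zpowers, hz] at h
      exact Nat.eq_of_mul_eq_mul_left Nat.card_pos h
  have hC : S ⊓ centralizer (A : Set R) ≤ A := by
    by_contra hle
    obtain ⟨x, hx, hxA, hn, -⟩ := hlift (S ⊓ centralizer (A : Set R)) inferInstance hle
    refine hxA ((hmax ⟨hn, ?_, sup_le hAS (zpowers_le.2 hx.1)⟩ le_sup_left)
      (mem_sup_right (mem_zpowers x)))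
    rw [sup_eq_closure]
    refine isMulCommutative_closure ?_
    rintro s (hs | ⟨i, rfl⟩) t (ht | ⟨j, rfl⟩)
    · exact hAs hs ht
    · exact mem_centralizer_iff.1 (Subgroup.zpow_mem _ (Subgroup.mem_inf.1 hx).2 j) s hs
    · exact (mem_centralizer_iff.1 (Subgroup.zpow_mem _ (Subgroup.mem_inf.1 hx).2 i) t ht).symm
    · exact (Commute.zpow_zpow_self x i j).eq
  have hSA : ¬ S ≤ A := fun h => hS (Subgroup.isCyclic_of_le h)
  obtain ⟨x, hxS, hxA, hKn, hKi⟩ := hlift S inferInstance hSA
  set K := A ⊔ zpowers x with hK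
  have hKS : K ≤ S := sup_le hAS (zpowers_le.2 hxS)
  obtain ⟨m, hm⟩ := IsPGroup.iff_card.1 (hR.to_subgroup A)
  have hm2 : 2 ≤ m := by
    by_contra hcon
    apply hSA
    have hAc' : A ≤ center R := by
      rcases Nat.eq_zero_or_pos m with h | h
      · rw [h, pow_zero] at hm
        rw [Subgroup.eq_bot_of_card_eq A hm]; exact bot_le
      · exact Cfsg.Lib.PGroup.le_center_of_card_eq_prime hR (by rw [hm, show m = 1 by omega, pow_one])
    exact (le_inf le_rfl fun s _ => mem_centralizer_iff.2 fun a ha =>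
      (Subgroup.mem_center_iff.1 (hAc' ha) s).symm).trans hC
  have hKcard : Nat.card K = p ^ (m + 1) := by
    rw [← (A.subgroupOf K).card_mul_index, hKi,
      Nat.card_congr (subgroupOfEquivOfLe le_sup_left).toEquiv, hm, pow_succ]
  have hna : ∃ u v : K, u * v ≠ v * u := by
    by_contra hcon
    push Not at hcon
    exact hxA (hC ⟨hxS, mem_centralizer_iff.2 fun a ha => congrArg Subtype.val
      (hcon ⟨a, mem_sup_left ha⟩ ⟨x, mem_sup_right (mem_zpowers x)⟩)⟩)
  obtain ⟨Ω, hΩ, hΩc⟩ := omega_of_cyclic_maximal hp m hm2 hKcard (A.subgroupOf K)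
    ((subgroupOfEquivOfLe (le_sup_left : A ≤ K)).isCyclic.2 hAcyc) hKi hna
  have hmem : ∀ g : R, g ∈ Ω.map K.subtype ↔ g ∈ K ∧ g ^ p = 1 := by
    intro g
    constructor
    · rintro ⟨k, hk, rfl⟩
      exact ⟨k.2, by have := congrArg Subtype.val ((hΩ k).1 hk); simpa using this⟩
    · rintro ⟨hg, hgp⟩
      exact ⟨⟨g, hg⟩, (hΩ _).2 (Subtype.ext hgp), rfl⟩
  have hc : Nat.card (Ω.map K.subtype) = p ^ 2 := by
    rw [card_map_of_injective K.subtype_injective, hΩc]
  refine ⟨Ω.map K.subtype, (map_subtype_le Ω).trans hKS, ⟨fun g hg r => ?_⟩,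
    ⟨IsPGroup.isMulCommutative_of_card_eq_prime_sq hc, fun g hg => ((hmem g).1 hg).2⟩, hc⟩
  rw [hmem] at hg ⊢
  exact ⟨hKn.conj_mem g hg.1 r, by rw [conj_pow, hg.2, mul_one, mul_inv_cancel]⟩

end Cfsg.Agent.S0636
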