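import Cfsg.Statements.S0642
import Cfsg.Agent.Lib.PGroup.Basic
import Cfsg.Agent.Lib.Core.Basic
import Cfsg.Agent.Lib.Fusion.Abelian

set_option autoImplicit false
open Cfsg

namespace Cfsg.Agent.S0642

open Subgroup
open scoped commutatorElement

/-- Among finite 2-groups the regular ones are exactly the abelian ones. -/
theorem result {G : Type*} [Group G] [Finite G] (hG : IsPGroup 2 G) : Cfsg.IsRegularPGroup 2 G ↔ ∀ a b : G, a * b = b * a := by
  classical
  haveI : Fact (Nat.Prime 2) := ⟨Nat.prime_two⟩
  constructor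
  · intro hreg a b
    set H := closure ({a, b} : Set G) with hH
    set D := ⁅H, H⁆ with hD
    set R := (frattini ↥D).map D.subtype with hR
    have hDH : D ≤ H := commutator_le.2 fun x hx y hy => by
      rw [commutatorElement_def]
      exact H.mul_mem (H.mul_mem (H.mul_mem hx hy) (H.inv_mem hx)) (H.inv_mem hy)
    haveI := (hG.to_subgroup D).isNilpotent
    have hpow : powerClosure 2 1 D ≤ R := by
      refine (closure_le _).2 ?_
      rintro _ ⟨x, hx, rfl⟩
      refine ⟨⟨x ^ 2 ^ 1, pow_mem hx _⟩, ?_, rfl⟩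
      have h2 := Cfsg.Lib.PGroup.pow_mem_frattini (hG.to_subgroup D) (⟨x, hx⟩ : ↥D)
      rw [pow_one]
      exact h2
    obtain ⟨c, hc, he⟩ := hreg.2 a b 1
    rw [pow_one] at he
    have haH : a ∈ H := subset_closure (by simp)
    have hbH : b ∈ H := subset_closure (by simp)
    have hRn : ∀ y ∈ H, ∀ x ∈ R, y * x * y⁻¹ ∈ R := by
      intro y hy x hx
      have hyD : y ∈ normalizer (D : Set G) := by
        refine Cfsg.Lib.Fusion.le_normalizer_of_conj_mem fun z hz => ?_
        have := commutator_mem_commutator hy (hDH hz)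
        have h2 := D.mul_mem this hz
        simpa [commutatorElement_def, mul_assoc] using h2
      exact (mem_normalizer_iff.1 (Cfsg.Lib.Core.normalizer_le_normalizer_map_char (frattini ↥D) hyD) x).1 hx
    have hba : ⁅b, a⁆ ∈ R := by
      have e : (a * b) ^ 2 = a ^ 2 * b ^ 2 * c := he
      have h2 : b * a * b = a * b ^ 2 * c := by
        have : a * (b * a * b) = a * (a * b ^ 2 * c) := by
          calc a * (b * a * b) = (a * b) ^ 2 := by simp only [sq, mul_assoc]
            _ = a ^ 2 * b ^ 2 * c := e
            _ = a * (a * b ^ 2 * c) := by simp only [sq, mul_assoc]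
        exact mul_left_cancel this
      have h3 : ⁅b, a⁆ = a * (b * (b * c * b⁻¹) * b⁻¹) * a⁻¹ := by
        calc ⁅b, a⁆ = (b * a * b) * b⁻¹ * b⁻¹ * a⁻¹ := by rw [commutatorElement_def]; group
          _ = a * b ^ 2 * c * b⁻¹ * b⁻¹ * a⁻¹ := by rw [h2]
          _ = _ := by simp only [sq, mul_assoc, mul_inv_rev, inv_inv]
      rw [h3]
      exact hRn a haH _ (hRn b hbH _ (hRn b hbH _ (hpow hc)))
    have hDR : D ≤ R := by
      let RH := R.subgroupOf H
      haveI : RH.Normal := ⟨fun x hx y => hRn y y.2 x hx⟩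
      let f := QuotientGroup.mk' RH
      have hcomm : Commute (f ⟨b, hbH⟩) (f ⟨a, haH⟩) := by
        rw [← commutatorElement_eq_one_iff_commute, ← map_commutatorElement]
        exact (QuotientGroup.eq_one_iff _).2 hba
      have htop : closure ({⟨a, haH⟩, ⟨b, hbH⟩} : Set ↥H) = ⊤ := by
        have : ({⟨a, haH⟩, ⟨b, hbH⟩} : Set ↥H) = H.subtype ⁻¹' ({a, b} : Set G) := by
          ext z; simp [Subtype.ext_iff]
        rw [this]
        exact closure_closure_coe_preimage
      have hall : ∀ x y : ↥H, Commute (f x) (f y) := by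
        have hgen : ∀ x : ↥H, Commute (f ⟨a, haH⟩) (f x) ∧ Commute (f ⟨b, hbH⟩) (f x) := by
          intro x
          have hx : x ∈ closure ({⟨a, haH⟩, ⟨b, hbH⟩} : Set ↥H) := htop ▸ mem_top x
          induction hx using closure_induction with
          | mem z hz =>
            rcases hz with rfl | rfl
            · exact ⟨Commute.refl _, hcomm⟩
            · exact ⟨hcomm.symm, Commute.refl _⟩
          | one => simp
          | mul u v _ _ hu hv => exact ⟨map_mul f u v ▸ hu.1.mul_right hv.1, map_mul f u v ▸ hu.2.mul_right hv.2⟩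
          | inv u _ hu => exact ⟨map_inv f u ▸ hu.1.inv_right, map_inv f u ▸ hu.2.inv_right⟩
        intro x y
        have hx : x ∈ closure ({⟨a, haH⟩, ⟨b, hbH⟩} : Set ↥H) := htop ▸ mem_top x
        induction hx using closure_induction with
        | mem z hz =>
          rcases hz with rfl | rfl
          · exact (hgen y).1
          · exact (hgen y).2
        | one => simp
        | mul u v _ _ hu hv => exact map_mul f u v ▸ hu.mul_left hv
        | inv u _ hu => exact map_inv f u ▸ hu.inv_left
      refine commutator_le.2 fun x hx y hy => ?_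
      have h1 : f ⁅(⟨x, hx⟩ : ↥H), ⟨y, hy⟩⁆ = 1 := by
        rw [map_commutatorElement, commutatorElement_eq_one_iff_commute]; exact hall _ _
      exact mem_subgroupOf.1 ((QuotientGroup.eq_one_iff _).1 h1)
    have hfr : frattini ↥D = ⊤ := by
      rw [eq_top_iff]
      intro z _
      obtain ⟨w, hw, hwz⟩ := hDR z.2
      rwa [Subtype.ext hwz] at hw
    have hDb : D = ⊥ := by
      by_contra hne
      haveI : Nontrivial D := (nontrivial_iff_ne_bot D).2 hne
      obtain ⟨M, hM, -⟩ := (eq_top_or_exists_le_coatom (⊥ : Subgroup ↥D)).resolve_left bot_ne_top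
      exact hM.1 (top_le_iff.1 (hfr.ge.trans (frattini_le_coatom hM)))
    have : ⁅a, b⁆ = 1 := (mem_bot).1 (hDb ▸ commutator_mem_commutator haH hbH)
    exact commutatorElement_eq_one_iff_mul_comm.1 this
  · intro hc
    refine ⟨hG, fun a b n => ⟨1, one_mem _, ?_⟩⟩
    rw [mul_one, (show Commute a b from hc a b).mul_pow]

end Cfsg.Agent.S0642
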