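import Cfsg.Statements.S0647

set_option autoImplicit false
set_option linter.style.haveILetI false
open Cfsg

namespace Cfsg.Agent.S0647

/-- For a nonempty family of maximal abelian subgroups of a finite group, the intersection of the family is the centre of the subgroup it generates, which is also the full centralizer of that subgroup. -/
theorem result {S : Type*} [Group S] [Finite S] (𝒜 : Set (Subgroup S)) (hne : 𝒜.Nonempty) (hab : ∀ A ∈ 𝒜, IsMulCommutative A) (hmax : ∀ A ∈ 𝒜, ∀ B : Subgroup S, IsMulCommutative B → A ≤ B → B = A) : sInf 𝒜 = sSup 𝒜 ⊓ Subgroup.centralizer ((sSup 𝒜 : Subgroup S) : Set S) ∧ sInf 𝒜 = Subgroup.centralizer ((sSup 𝒜 : Subgroup S) : Set S) := by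
  have hcen : ∀ A ∈ 𝒜, Subgroup.centralizer (A : Set S) ≤ A := by
    intro A hA x hx
    have hcomm : ∀ a ∈ ((A : Set S) ∪ {x}), ∀ b ∈ ((A : Set S) ∪ {x}), a * b = b * a := by
      rintro a (ha | rfl) b (hb | rfl)
      · exact congrArg Subtype.val ((hab A hA).is_comm.comm ⟨a, ha⟩ ⟨b, hb⟩)
      · exact Subgroup.mem_centralizer_iff.mp hx a ha
      · exact (Subgroup.mem_centralizer_iff.mp hx b hb).symm
      · rfl
    have := hmax A hA (Subgroup.closure ((A : Set S) ∪ {x})) (Subgroup.isMulCommutative_closure hcomm)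
      (fun a ha => Subgroup.subset_closure (Or.inl ha))
    exact this.le (Subgroup.subset_closure (Or.inr rfl))
  have h1 : sInf 𝒜 = Subgroup.centralizer ((sSup 𝒜 : Subgroup S) : Set S) := by
    refine le_antisymm ?_ (le_sInf fun A hA => (Subgroup.centralizer_le (le_sSup hA : A ≤ sSup 𝒜)).trans (hcen A hA))
    refine Subgroup.le_centralizer_iff.mp (sSup_le fun A hA a ha => Subgroup.mem_centralizer_iff.mpr fun z hz => ?_)
    have hzA : z ∈ A := Subgroup.mem_sInf.mp hz A hA
    exact congrArg Subtype.val ((hab A hA).is_comm.comm ⟨z, hzA⟩ ⟨a, ha⟩)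
  refine ⟨?_, h1⟩
  obtain ⟨A, hA⟩ := hne
  rw [← h1, inf_eq_right.mpr ((sInf_le hA).trans (le_sSup hA))]

end Cfsg.Agent.S0647
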