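import Cfsg.Statements.S0648
-- import your own Cfsg.Agent.* helpers here

set_option autoImplicit false
open Cfsg

namespace Cfsg.Agent.S0648

open Subgroup
open scoped commutatorElement

set_option linter.style.haveILetI false

/-- The other commutator `x⁻¹y⁻¹xy`. -/
theorem cm_mul_left {G : Type*} [Group G] (x y z : G) :
    (x * y)⁻¹ * z⁻¹ * (x * y) * z = y⁻¹ * (x⁻¹ * z⁻¹ * x * z) * y * (y⁻¹ * z⁻¹ * y * z) := by group

theorem cm_mul_right {G : Type*} [Group G] (x y z : G) :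
    x⁻¹ * (y * z)⁻¹ * x * (y * z) = (x⁻¹ * z⁻¹ * x * z) * (z⁻¹ * (x⁻¹ * y⁻¹ * x * y) * z) := by group

/-- If A acts on B centralizing [B, B], then [B, A] has derived subgroup central in B, and for abelian A and b ∈ B with [[b, A], A, A] = 1 the derived subgroup of the subgroup [b, A] generated by the commutators of b with A has exponent dividing 2. -/
theorem result {G : Type*} [Group G] [Finite G] (A B : Subgroup G) (hAB : A ≤ Subgroup.normalizer (B : Set G)) (hc : ⁅⁅B, B⁆, A⁆ = ⊥) : ⁅⁅B, A⁆, ⁅B, A⁆⁆ ≤ B ⊓ Subgroup.centralizer (B : Set G) ∧ (IsMulCommutative A → ∀ b ∈ B, ⁅⁅(Subgroup.closure {g : G | ∃ a ∈ A, g = b⁻¹ * a * b * a⁻¹}), A⁆, A⁆ = ⊥ → ∀ w ∈ ⁅(Subgroup.closure {g : G | ∃ a ∈ A, g = b⁻¹ * a * b * a⁻¹}), (Subgroup.closure {g : G | ∃ a ∈ A, g = b⁻¹ * a * b * a⁻¹})⁆, w ^ 2 = 1) := by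
  set C := ⁅B, B⁆ with hCdef
  set K := ⁅B, A⁆ with hKdef
  have hCB : C ≤ B := commutator_le.mpr fun x hx y hy => by
    rw [commutatorElement_def]; exact mul_mem (mul_mem (mul_mem hx hy) (inv_mem hx)) (inv_mem hy)
  have hKB : K ≤ B := commutator_le.mpr fun x hx a ha => by
    rw [commutatorElement_def, mul_assoc, mul_assoc, ← mul_assoc a]
    exact mul_mem hx ((mem_normalizer_iff.mp (hAB ha) x⁻¹).mp (inv_mem hx))
  have hCA : ∀ c ∈ C, ∀ a ∈ A, a * c = c * a := fun c hc' a ha =>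
    mem_centralizer_iff.mp ((commutator_eq_bot_iff_le_centralizer.mp hc) hc') a ha
  have hCn : ∀ c ∈ C, ∀ b ∈ B, b * c * b⁻¹ ∈ C := fun c hc' b hb => by
    have h : ⁅b, c⁆ ∈ C := commutator_mem_commutator hb (hCB hc')
    have := mul_mem h hc'
    rwa [commutatorElement_def, inv_mul_cancel_right] at this
  have hKC : ∀ k ∈ K, ∀ c ∈ C, c * k = k * c := by
    intro k hk
    have h : K ≤ centralizer (C : Set G) := commutator_le.mpr fun b hb a ha => by
      refine mem_centralizer_iff.mpr fun c hc' => ?_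
      have h1 : a * (b⁻¹ * c * b) = b⁻¹ * c * b * a := by
        refine hCA _ ?_ a ha
        simpa using hCn c hc' b⁻¹ (inv_mem hb)
      have h2 : a * c = c * a := hCA c hc' a ha
      rw [commutatorElement_def]
      calc c * (b * a * b⁻¹ * a⁻¹) = b * (b⁻¹ * c * b * a) * b⁻¹ * a⁻¹ := by group
        _ = b * (a * (b⁻¹ * c * b)) * b⁻¹ * a⁻¹ := by rw [h1]
        _ = b * a * b⁻¹ * (c * a⁻¹) := by group
        _ = b * a * b⁻¹ * (a⁻¹ * (a * c) * a⁻¹) := by group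
        _ = b * a * b⁻¹ * (a⁻¹ * (c * a) * a⁻¹) := by rw [h2]
        _ = b * a * b⁻¹ * a⁻¹ * c := by group
    exact fun c hc' => mem_centralizer_iff.mp (h hk) c hc'
  have hKKB : ⁅⁅K, K⁆, B⁆ = ⊥ := by
    have h : ⁅⁅K, B⁆, K⁆ = ⊥ := commutator_eq_bot_iff_le_centralizer.mpr fun x hx =>
      mem_centralizer_iff.mpr fun k hk => (hKC k hk x (commutator_mono hKB le_rfl hx)).symm
    refine commutator_commutator_eq_bot_of_rotate h ?_
    rw [commutator_comm B K]
    exact h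
  have hKK : ⁅K, K⁆ ≤ B ⊓ centralizer (B : Set G) :=
    le_inf ((commutator_le_self K).trans hKB) (commutator_eq_bot_iff_le_centralizer.mp hKKB)
  refine ⟨hKK, fun hA b hb hquad w hw => ?_⟩
  set S := {g : G | ∃ a ∈ A, g = b⁻¹ * a * b * a⁻¹} with hS
  set L := closure S with hL
  have hSK : ∀ g ∈ S, g ∈ K := by
    rintro g ⟨a, ha, rfl⟩
    have : ⁅b⁻¹, a⁆ ∈ K := commutator_mem_commutator (inv_mem hb) ha
    rwa [commutatorElement_def, inv_inv] at this
  have hLK : L ≤ K := (closure_le K).mpr hSK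
  -- elements of `[L, A]` are fixed by `A`
  have hfix : ∀ x ∈ L, ∀ a ∈ A, ∀ a' ∈ A, a' * (x⁻¹ * a * x * a⁻¹) = (x⁻¹ * a * x * a⁻¹) * a' := by
    intro x hx a ha a' ha'
    have h : ⁅x⁻¹, a⁆ ∈ ⁅L, A⁆ := commutator_mem_commutator (inv_mem hx) ha
    rw [commutatorElement_def, inv_inv] at h
    exact mem_centralizer_iff.mp (commutator_eq_bot_iff_le_centralizer.mp hquad h) a' ha'
  have hcm : ∀ x ∈ B, ∀ y ∈ B, x⁻¹ * y⁻¹ * x * y ∈ C := fun x hx y hy => by
    have h : ⁅x⁻¹, y⁻¹⁆ ∈ C := commutator_mem_commutator (inv_mem hx) (inv_mem hy)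
    rwa [commutatorElement_def, inv_inv, inv_inv] at h
  have hcent : ∀ x ∈ K, ∀ y ∈ K, ∀ z ∈ B, z * (x⁻¹ * y⁻¹ * x * y) = x⁻¹ * y⁻¹ * x * y * z := by
    intro x hx y hy z hz
    have h : ⁅x⁻¹, y⁻¹⁆ ∈ ⁅K, K⁆ := commutator_mem_commutator (inv_mem hx) (inv_mem hy)
    rw [commutatorElement_def, inv_inv, inv_inv] at h
    exact mem_centralizer_iff.mp (hKK h).2 z hz
  -- the generators
  have hgen : ∀ d ∈ S, ∀ d' ∈ S, (d⁻¹ * d'⁻¹ * d * d') ^ 2 = 1 := by
    rintro d ⟨a, ha, hd⟩ d' ⟨a', ha', hd'⟩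
    have hdK : d ∈ K := hSK d ⟨a, ha, hd⟩
    have hd'K : d' ∈ K := hSK d' ⟨a', ha', hd'⟩
    -- `e` stands for `[d', a]`
    have key : ∀ u v : G, u ∈ A → v ∈ A → ∀ du dv : G, du = b⁻¹ * u * b * u⁻¹ →
        dv = b⁻¹ * v * b * v⁻¹ →
        (b⁻¹ * (dv⁻¹ * u * dv * u⁻¹)⁻¹ * b * (dv⁻¹ * u * dv * u⁻¹)) *
          (du⁻¹ * dv⁻¹ * du * dv) = 1 := by
      intro u v hu hv du dv hdu hdv
      have hduK : du ∈ K := hSK du ⟨u, hu, hdu⟩
      have hdvK : dv ∈ K := hSK dv ⟨v, hv, hdv⟩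
      set e := dv⁻¹ * u * dv * u⁻¹ with he
      have heB : e ∈ B := by
        rw [he, mul_assoc dv⁻¹, mul_assoc dv⁻¹]
        exact mul_mem (inv_mem (hKB hdvK)) ((mem_normalizer_iff.mp (hAB hu) dv).mp (hKB hdvK))
      have heu : u * e * u⁻¹ = e := by
        rw [hfix dv (subset_closure ⟨v, hv, hdv⟩) u hu u hu, mul_inv_cancel_right]
      have hub : u * b * u⁻¹ = b * du := by rw [hdu]; group
      have hudv : u * dv * u⁻¹ = dv * e := by rw [he]; group
      have hαC : ∀ c ∈ C, u * c * u⁻¹ = c := fun c hc' => by rw [hCA c hc' u hu, mul_inv_cancel_right]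
      have heC : ∀ c ∈ C, c * e = e * c := fun c hc' => by
        have h1 : c * (dv * e) = dv * e * c := by
          rw [← hudv]
          have h : u * (c * dv) * u⁻¹ = u * (dv * c) * u⁻¹ := by rw [hKC dv hdvK c hc']
          calc c * (u * dv * u⁻¹) = (u * c * u⁻¹) * (u * dv * u⁻¹) := by rw [hαC c hc']
            _ = u * (c * dv) * u⁻¹ := by group
            _ = u * (dv * c) * u⁻¹ := h
            _ = (u * dv * u⁻¹) * (u * c * u⁻¹) := by group
            _ = u * dv * u⁻¹ * c := by rw [hαC c hc']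
        rw [← mul_assoc, hKC dv hdvK c hc', mul_assoc, mul_assoc] at h1
        exact mul_left_cancel h1
      have hconj : ∀ c ∈ C, ∀ k : G, c * k = k * c → k⁻¹ * c * k = c := fun c _ k hk => by
        rw [mul_assoc, hk, inv_mul_cancel_left]
      -- `du` commutes with `e`
      have hde : du⁻¹ * e⁻¹ * du * e = 1 := by
        have h := (hαC _ (hcm b hb e heB))
        rw [show u * (b⁻¹ * e⁻¹ * b * e) * u⁻¹ =
          (u * b * u⁻¹)⁻¹ * (u * e * u⁻¹)⁻¹ * (u * b * u⁻¹) * (u * e * u⁻¹) by group, heu, hub,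
          cm_mul_left, hconj _ (hcm b hb e heB) du (hKC du hduK _ (hcm b hb e heB))] at h
        exact mul_eq_left.mp h
      have h := hαC _ (hcm b hb dv (hKB hdvK))
      rw [show u * (b⁻¹ * dv⁻¹ * b * dv) * u⁻¹ =
          (u * b * u⁻¹)⁻¹ * (u * dv * u⁻¹)⁻¹ * (u * b * u⁻¹) * (u * dv * u⁻¹) by group, hudv, hub,
          cm_mul_left, hconj _ (hcm b hb _ (mul_mem (hKB hdvK) heB)) du
            (hKC du hduK _ (hcm b hb _ (mul_mem (hKB hdvK) heB))),
          cm_mul_right, cm_mul_right du dv e, hde, one_mul,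
          hconj _ (hcm b hb dv (hKB hdvK)) e (heC _ (hcm b hb dv (hKB hdvK))),
          hconj _ (hcm du (hKB hduK) dv (hKB hdvK)) e
            (heC _ (hcm du (hKB hduK) dv (hKB hdvK))), mul_assoc,
          hcent du hduK dv hdvK _ (hCB (hcm b hb dv (hKB hdvK))), ← mul_assoc] at h
      exact mul_eq_right.mp h
    have h1 := key a a' ha ha' d d' hd hd'
    have h2 := key a' a ha' ha d' d hd' hd
    set c := d⁻¹ * d'⁻¹ * d * d' with hcdef
    have hcinv : d'⁻¹ * d⁻¹ * d' * d = c⁻¹ := by rw [hcdef]; group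
    rw [hcinv, mul_inv_eq_one] at h2
    have haa : a * a' = a' * a :=
      congrArg Subtype.val (hA.is_comm.comm (⟨a, ha⟩ : A) ⟨a', ha'⟩)
    set e := d'⁻¹ * a * d' * a⁻¹ with he
    set e' := d⁻¹ * a' * d * a'⁻¹ with he'
    have hee : e' = c * e := by
      have h3 : d * d' * e = d' * d * e' := by
        calc d * d' * e = b⁻¹ * (a * a') * b * (a * a')⁻¹ := by rw [he, hd, hd']; group
          _ = b⁻¹ * (a' * a) * b * (a' * a)⁻¹ := by rw [haa]
          _ = d' * d * e' := by rw [he', hd, hd']; group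
      rw [show d * d' = d' * d * c by rw [hcdef]; group, mul_assoc] at h3
      exact (mul_left_cancel h3).symm
    have hbc : b⁻¹ * c⁻¹ * b * c = 1 := by
      have h := hcent d hdK d' hd'K b hb
      rw [← hcdef] at h
      calc b⁻¹ * c⁻¹ * b * c = b⁻¹ * c⁻¹ * (b * c) := by group
        _ = 1 := by rw [h]; group
    rw [hee, cm_mul_right, hbc, mul_one, inv_mul_cancel, mul_one] at h2
    rw [h2, ← sq] at h1
    exact h1
  let Z : Subgroup G :=
    { carrier := {g | g ∈ B ∧ g ∈ centralizer (B : Set G) ∧ g ^ 2 = 1}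
      one_mem' := ⟨one_mem _, one_mem _, one_pow 2⟩
      mul_mem' := fun {x y} hx hy => ⟨mul_mem hx.1 hy.1, mul_mem hx.2.1 hy.2.1, by
        rw [(show Commute x y from mem_centralizer_iff.mp hy.2.1 x hx.1).mul_pow, hx.2.2, hy.2.2,
          one_mul]⟩
      inv_mem' := fun {x} hx => ⟨inv_mem hx.1, inv_mem hx.2.1, by rw [inv_pow, hx.2.2, inv_one]⟩ }
  suffices hZ : ⁅L, L⁆ ≤ Z from (hZ hw).2.2
  have hcz : ∀ x ∈ L, ∀ y ∈ L, ∀ z ∈ L, z * ⁅x, y⁆ * z⁻¹ = ⁅x, y⁆ := fun x hx y hy z hz => by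
    rw [mem_centralizer_iff.mp (hKK (commutator_mem_commutator (hLK hx) (hLK hy))).2 z
      (hKB (hLK hz)), mul_inv_cancel_right]
  have hgenZ : ∀ x ∈ S, ∀ y ∈ S, ⁅x, y⁆ ∈ Z := by
    intro x hx y hy
    have hxK := hSK x hx
    have hyK := hSK y hy
    have h : ⁅x, y⁆ = x⁻¹ * y⁻¹ * x * y := by
      rw [commutatorElement_def]
      calc x * y * x⁻¹ * y⁻¹ = x * y * (x⁻¹ * y⁻¹ * x * y) * (x * y)⁻¹ := by group
        _ = x⁻¹ * y⁻¹ * x * y := by
          rw [hcent x hxK y hyK (x * y) (mul_mem (hKB hxK) (hKB hyK)), mul_inv_cancel_right]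
    have hm := hKK (commutator_mem_commutator hxK hyK)
    exact ⟨hm.1, hm.2, by rw [h]; exact hgen x hx y hy⟩
  refine commutator_le.mpr fun x hx y hy => ?_
  induction hy using closure_induction with
  | mem y hy =>
    induction hx using closure_induction with
    | mem x hx => exact hgenZ x hx y hy
    | one => rw [commutatorElement_one_left]; exact one_mem _
    | mul x x' hx hx' ih ih' =>
      rw [show ⁅x * x', y⁆ = x * ⁅x', y⁆ * x⁻¹ * ⁅x, y⁆ by
        simp only [commutatorElement_def]; group, hcz x' hx' y (subset_closure hy) x hx]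
      exact mul_mem ih' ih
    | inv x hx ih =>
      rw [show ⁅x⁻¹, y⁆ = x⁻¹ * ⁅x, y⁆⁻¹ * x⁻¹⁻¹ by simp only [commutatorElement_def]; group,
        show x⁻¹ * ⁅x, y⁆⁻¹ * x⁻¹⁻¹ = (x⁻¹ * ⁅x, y⁆ * x⁻¹⁻¹)⁻¹ by group,
        hcz x hx y (subset_closure hy) x⁻¹ (inv_mem hx)]
      exact inv_mem ih
  | one => rw [commutatorElement_one_right]; exact one_mem _
  | mul y y' hy hy' ih ih' =>
    rw [show ⁅x, y * y'⁆ = ⁅x, y⁆ * (y * ⁅x, y'⁆ * y⁻¹) by simp only [commutatorElement_def]; group,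
      hcz x hx y' hy' y hy]
    exact mul_mem ih ih'
  | inv y hy ih =>
    rw [show ⁅x, y⁻¹⁆ = (y⁻¹ * ⁅x, y⁆ * y⁻¹⁻¹)⁻¹ by simp only [commutatorElement_def]; group,
      hcz x hx y hy y⁻¹ (inv_mem hy)]
    exact inv_mem ih

end Cfsg.Agent.S0648
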