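import Cfsg.Statements.S0649

set_option autoImplicit false
set_option linter.style.haveILetI false
open Cfsg

namespace Cfsg.Agent.S0649

/-- In the Glauberman replacement situation, if B does not normalize A then some element of B normalizes N_S(A) without normalizing A. -/
theorem result {S : Type*} [Group S] [Finite S] {p : ℕ} [Fact p.Prime] (hS : IsPGroup p S) (B : Subgroup S) [B.Normal] (hB2 : p = 2 → IsMulCommutative B) (A : Subgroup S) (hA : IsMulCommutative A) (hBA : ⁅B, B⁆ ≤ A) (hnot : ¬ B ≤ Subgroup.normalizer (A : Set S)) : ∃ b ∈ B, b ∈ Subgroup.normalizer ((Subgroup.normalizer (A : Set S)) : Set S) ∧ b ∉ Subgroup.normalizer (A : Set S) := by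
  set N := Subgroup.normalizer (A : Set S) with hN
  set M := B ⊔ N with hM
  haveI := hS.isNilpotent
  obtain ⟨g, ⟨hgN, hgM⟩, hgn⟩ := SetLike.exists_of_lt (show N < Subgroup.normalizer (N : Set S) ⊓ M by
    have hsub : (N.subgroupOf M) < Subgroup.normalizer ((N.subgroupOf M : Subgroup M) : Set M) := by
      haveI := (hS.to_subgroup M).isNilpotent
      refine Group.normalizerCondition_of_isNilpotent _ (lt_top_iff_ne_top.mpr fun h => hnot ?_)
      exact le_sup_left.trans (Subgroup.subgroupOf_eq_top.mp h)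
    refine lt_of_le_of_ne (le_inf Subgroup.le_normalizer le_sup_right) fun he => ?_
    obtain ⟨⟨x, hxM⟩, hx, hxn⟩ := SetLike.exists_of_lt hsub
    apply hxn
    rw [Subgroup.mem_subgroupOf]
    apply he.ge
    refine ⟨?_, hxM⟩
    show x ∈ Subgroup.normalizer (N : Set S)
    rw [Subgroup.mem_normalizer_iff]
    intro k
    constructor
    · intro hk
      have := (Subgroup.mem_normalizer_iff.mp hx ⟨k, le_sup_right (a := B) hk⟩).mp (Subgroup.mem_subgroupOf.mpr hk)
      exact Subgroup.mem_subgroupOf.mp this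
    · intro hk
      have hkM : k ∈ M := by
        have := M.mul_mem (M.mul_mem (M.inv_mem hxM) (le_sup_right (a := B) hk)) hxM
        rwa [show x⁻¹ * (x * k * x⁻¹) * x = k by group] at this
      exact Subgroup.mem_subgroupOf.mp
        ((Subgroup.mem_normalizer_iff.mp hx ⟨k, hkM⟩).mpr (Subgroup.mem_subgroupOf.mpr hk)))
  have h3 : g ∈ ((B ⊔ N : Subgroup S) : Set S) := hgM
  rw [Subgroup.normal_mul B N] at h3
  obtain ⟨b, hb, n, hn, rfl⟩ := h3
  refine ⟨b, hb, ?_, fun h => hgn (N.mul_mem h hn)⟩
  have := (Subgroup.normalizer (N : Set S)).mul_mem hgN ((Subgroup.normalizer (N : Set S)).inv_mem (Subgroup.le_normalizer hn))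
  simpa [mul_assoc] using this

end Cfsg.Agent.S0649
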