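import Cfsg.Statements.S0650
import Cfsg.Agent.Lib.Local.GlaubermanZJ

set_option autoImplicit false
open Cfsg

namespace Cfsg.Agent.S0650

/-- The Glauberman replacement Theorem: from an abelian A ⊇ [B, B] not normalized by the normal subgroup B and a suitable b ∈ B one gets the abelian subgroup A* = (A ∩ b⁻¹Ab)[A, b] of the same order, containing [B, B], meeting B strictly more than A does but not containing B, mutually normalizing with A, with strictly larger normalizer containing b, and (p odd) of no larger exponent. -/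
theorem result {S : Type*} [Group S] [Finite S] {p : ℕ} [Fact p.Prime] (hS : IsPGroup p S) (B : Subgroup S) [B.Normal] (hB2 : p = 2 → IsMulCommutative B) (A : Subgroup S) (hA : IsMulCommutative A) (hBA : ⁅B, B⁆ ≤ A) (hnot : ¬ B ≤ Subgroup.normalizer (A : Set S)) (b : S) (hb : b ∈ B) (hbN : b ∈ Subgroup.normalizer ((Subgroup.normalizer (A : Set S)) : Set S)) (hbA : b ∉ Subgroup.normalizer (A : Set S)) : Nat.card ↥((A ⊓ A.map (MulAut.conj (b⁻¹)).toMonoidHom) ⊔ Subgroup.closure {g : S | ∃ a ∈ A, g = a * b⁻¹ * a⁻¹ * b}) = Nat.card A ∧ IsMulCommutative ↥((A ⊓ A.map (MulAut.conj (b⁻¹)).toMonoidHom) ⊔ Subgroup.closure {g : S | ∃ a ∈ A, g = a * b⁻¹ * a⁻¹ * b}) ∧ ⁅B, B⁆ ≤ ((A ⊓ A.map (MulAut.conj (b⁻¹)).toMonoidHom) ⊔ Subgroup.closure {g : S | ∃ a ∈ A, g = a * b⁻¹ * a⁻¹ * b}) ∧ A ⊓ B < ((A ⊓ A.map (MulAut.conj (b⁻¹)).toMonoidHom) ⊔ Subgroup.closure {g : S | ∃ a ∈ A, g = a * b⁻¹ * a⁻¹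 * b}) ⊓ B ∧ ((A ⊓ A.map (MulAut.conj (b⁻¹)).toMonoidHom) ⊔ Subgroup.closure {g : S | ∃ a ∈ A, g = a * b⁻¹ * a⁻¹ * b}) ⊓ B < B ∧ A ≤ Subgroup.normalizer (((A ⊓ A.map (MulAut.conj (b⁻¹)).toMonoidHom) ⊔ Subgroup.closure {g : S | ∃ a ∈ A, g = a * b⁻¹ * a⁻¹ * b} : Subgroup S) : Set S) ∧ ((A ⊓ A.map (MulAut.conj (b⁻¹)).toMonoidHom) ⊔ Subgroup.closure {g : S | ∃ a ∈ A, g = a * b⁻¹ * a⁻¹ * b}) ≤ Subgroup.normalizer (A : Set S) ∧ b ∈ Subgroup.normalizer (((A ⊓ A.map (MulAut.conj (b⁻¹)).toMonoidHom) ⊔ Subgroup.closure {g : S | ∃ a ∈ A, g = a * b⁻¹ * a⁻¹ * b} : Subgroup S) : Set S) ∧ Subgroup.normalizer (A : Set S) < Subgroup.normalizer (((A ⊓ A.map (MulAut.conj (b⁻¹)).toMonoidHom) ⊔ Subgroup.closure {g : S | ∃ a ∈ A, g = a * b⁻¹ * a⁻¹ * b} : Subgroup S) : Set S) ∧ (p ≠ 2 → Monoid.exponent ↥((A ⊓ A.map (MulAut.conj (b⁻¹)).toMonoidHom) ⊔ Subgroup.closure {g : S | ∃ a ∈ A, g = a * b⁻¹ *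 a⁻¹ * b}) ∣ Monoid.exponent A) := by
  classical
  set β := b⁻¹ with hβ
  have hβB : β ∈ B := inv_mem hb
  have hrepl : ((A ⊓ A.map (MulAut.conj β).toMonoidHom) ⊔ Subgroup.closure {g : S | ∃ a ∈ A, g = a * β * a⁻¹ * b}) =
      Cfsg.Lib.Local.GlaubermanZJ.repl A β := by
    rw [Cfsg.Lib.Local.GlaubermanZJ.repl]
    congr 1
    apply le_antisymm <;> rw [Subgroup.closure_le] <;> rintro _ ⟨a, ha, rfl⟩
    · rw [show a * β * a⁻¹ * b = (β * a * β⁻¹ * a⁻¹)⁻¹ by rw [hβ]; group]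
      exact inv_mem (Subgroup.subset_closure ⟨a, ha, rfl⟩)
    · rw [show β * a * β⁻¹ * a⁻¹ = (a * β * a⁻¹ * b)⁻¹ by rw [hβ]; group]
      exact inv_mem (Subgroup.subset_closure ⟨a, ha, rfl⟩)
  rw [hrepl]
  set N := Subgroup.normalizer (A : Set S) with hN
  have hAN : A ≤ N := Subgroup.le_normalizer
  have hβN : β ∈ Subgroup.normalizer (N : Set S) := inv_mem hbN
  have hβA : β ∉ Subgroup.normalizer (A : Set S) := fun h => hbA (by simpa [hβ] using inv_mem h)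
  set A₁ := A.map (MulAut.conj β).toMonoidHom with hA₁
  have h1 : A₁ ≤ N := by
    rintro _ ⟨a, ha, rfl⟩
    exact (Subgroup.mem_normalizer_iff.1 hβN a).1 (hAN ha)
  have hNA₁ : N ≤ Subgroup.normalizer (A₁ : Set S) := fun n hn => by
    have h3 : β⁻¹ * n * β ∈ N := by
      simpa using (Subgroup.mem_normalizer_iff.1 (inv_mem hβN) n).1 hn
    refine Subgroup.mem_normalizer_fintype fun x hx => ?_
    obtain ⟨y, hy, rfl⟩ := hx
    exact ⟨_, (Subgroup.mem_normalizer_iff.1 h3 y).1 hy, by simp [mul_assoc]⟩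
  have hBB : ∀ x ∈ ⁅B, B⁆, x ∈ B := fun x hx => Subgroup.commutator_le_left B B hx
  have hodd : ∀ x ∈ ⁅B, B⁆, β * x * β⁻¹ = x⁻¹ → x = 1 := by
    intro x hx h
    by_cases hp : p = 2
    · haveI := hB2 hp
      have : ⁅B, B⁆ = ⊥ := Subgroup.commutator_eq_bot_iff_le_centralizer.2 (Subgroup.le_centralizer B)
      rw [this] at hx
      simpa using hx
    · exact Cfsg.Lib.Local.GlaubermanZJ.eq_one_of_conj_eq_inv hp (hS.to_subgroup ⊤)
        (Subgroup.mem_top β) (Subgroup.mem_top x) h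
  obtain ⟨r1, r2, r3, r4, r5, r6⟩ := Cfsg.Lib.Local.GlaubermanZJ.repl_spec hA hBA hodd hβB h1
    (hAN.trans hNA₁) hβA
  set R := Cfsg.Lib.Local.GlaubermanZJ.repl A β with hR
  set D := A ⊓ A₁ with hD
  have hDR : D ≤ R := le_sup_left
  have hXR : ∀ a ∈ A, β * a * β⁻¹ * a⁻¹ ∈ R := fun a ha =>
    Subgroup.mem_sup_right (Subgroup.subset_closure ⟨a, ha, rfl⟩)
  have hABi : ∀ y ∈ A ⊓ B, β * y * β⁻¹ ∈ A ⊓ B := by
    intro y hy
    rw [show β * y * β⁻¹ = β * y * β⁻¹ * y⁻¹ * y by group]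
    exact mul_mem (show β * y * β⁻¹ * y⁻¹ ∈ A ⊓ B from ⟨hBA (Subgroup.commutator_mem_commutator hβB hy.2),
      hBB _ (Subgroup.commutator_mem_commutator hβB hy.2)⟩) hy
  have hABD : A ⊓ B ≤ D := by
    have hle : (A ⊓ B).map (MulAut.conj β).toMonoidHom ≤ A ⊓ B := by
      rintro _ ⟨y, hy, rfl⟩
      exact hABi y hy
    have he := Subgroup.eq_of_le_of_card_ge hle (le_of_eq
      (Nat.card_congr ((A ⊓ B).equivMapOfInjective _ (MulAut.conj β).injective).toEquiv))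
    rw [← he]
    exact le_inf (hle.trans inf_le_left) (Subgroup.map_mono inf_le_left)
  have hgenB : ∀ a, β * a * β⁻¹ * a⁻¹ ∈ B := Cfsg.Lib.Local.GlaubermanZJ.repl_gen_mem hβB
  have hDx : ∀ a ∈ D, β * a * β⁻¹ * a⁻¹ ∈ A ⊓ B := by
    rintro a ⟨ha, c, hc, rfl⟩
    have hac : β * c * β⁻¹ * c⁻¹ ∈ A ⊓ B := ⟨A.mul_mem ha (A.inv_mem hc), hgenB c⟩
    have := hABi _ hac
    simpa [mul_assoc] using this
  have hDinv : ∀ a ∈ D, β * a * β⁻¹ ∈ D := fun a ha => by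
    simpa using mul_mem (hABD (hDx a ha)) ha
  have hsub : ∀ {g : S}, (∀ d ∈ D, g * d * g⁻¹ ∈ R) →
      (∀ a ∈ A, g * (β * a * β⁻¹ * a⁻¹) * g⁻¹ ∈ R) → g ∈ Subgroup.normalizer (R : Set S) := by
    intro g hg1 hg2
    refine Subgroup.mem_normalizer_fintype fun x hx => ?_
    have h : R.map (MulAut.conj g).toMonoidHom ≤ R := by
      rw [hR, Cfsg.Lib.Local.GlaubermanZJ.repl, Subgroup.map_sup, sup_le_iff,
        Subgroup.map_le_iff_le_comap, Subgroup.map_le_iff_le_comap, Subgroup.closure_le]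
      refine ⟨fun d hd => hg1 d hd, ?_⟩
      rintro _ ⟨a, ha, rfl⟩
      exact hg2 a ha
    exact h ⟨x, hx, rfl⟩
  have hβR : β ∈ Subgroup.normalizer (R : Set S) := by
    refine hsub (fun d hd => hDR (hDinv d hd)) fun a ha => ?_
    rw [show β * (β * a * β⁻¹ * a⁻¹) * β⁻¹ = β * (β * a * β⁻¹ * a⁻¹) * β⁻¹ * (β * a * β⁻¹ * a⁻¹)⁻¹ *
      (β * a * β⁻¹ * a⁻¹) by group]
    exact mul_mem (r3 (Subgroup.commutator_mem_commutator hβB (hgenB a))) (hXR a ha)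
  have hNR : N ≤ Subgroup.normalizer (R : Set S) := fun n hn => by
    refine hsub (fun d hd => hDR ⟨(Subgroup.mem_normalizer_iff.1 hn d).1 hd.1,
      (Subgroup.mem_normalizer_iff.1 (hNA₁ hn) d).1 hd.2⟩) fun a ha => ?_
    set c := n * a * n⁻¹ with hc'
    have hc : c ∈ A := (Subgroup.mem_normalizer_iff.1 hn a).1 ha
    set m := β⁻¹ * (n * β * n⁻¹) with hm
    have hmB : m ∈ B := mul_mem (inv_mem hβB) (‹B.Normal›.conj_mem β hβB n)
    have hmN : m ∈ N := by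
      rw [hm, show β⁻¹ * (n * β * n⁻¹) = (β⁻¹ * n * β⁻¹⁻¹) * n⁻¹ by group]
      exact mul_mem ((Subgroup.mem_normalizer_iff.1 (inv_mem hβN) n).1 hn) (inv_mem hn)
    have hmc : m * c * m⁻¹ * c⁻¹ ∈ A ⊓ B := ⟨A.mul_mem ((Subgroup.mem_normalizer_iff.1 hmN c).1 hc) (A.inv_mem hc), by
      rw [mul_assoc m, mul_assoc m]
      exact mul_mem hmB (‹B.Normal›.conj_mem _ (inv_mem hmB) c)⟩
    rw [show n * (β * a * β⁻¹ * a⁻¹) * n⁻¹ = β * (m * c * m⁻¹ * c⁻¹) * β⁻¹ * (β * c * β⁻¹ * c⁻¹) by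
      rw [hm, hc']; group]
    exact mul_mem (hDR (hABD (hABi _ hmc))) (hXR c hc)
  refine ⟨le_antisymm ?_ r2, r1, r3, r4, ?_, r6, r5, ?_, ?_, ?_⟩
  · -- the order of `R`
    have hq : ∀ x ∈ R, ∃ a ∈ A, (β * a * β⁻¹ * a⁻¹)⁻¹ * x ∈ D := by
      have hmul : ∀ a ∈ A, ∀ c ∈ A, (β * (a * c) * β⁻¹ * (a * c)⁻¹)⁻¹ *
          ((β * a * β⁻¹ * a⁻¹) * (β * c * β⁻¹ * c⁻¹)) ∈ D := by
        intro a ha c hc
        have e : (β * (a * c) * β⁻¹ * (a * c)⁻¹)⁻¹ * ((β * a * β⁻¹ * a⁻¹) * (β * c * β⁻¹ * c⁻¹)) =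
            a * (β * c * β⁻¹ * c⁻¹)⁻¹ * a⁻¹ * (β * c * β⁻¹ * c⁻¹) := by group
        rw [e]
        have hx : (β * c * β⁻¹ * c⁻¹)⁻¹ = c * (β * c⁻¹ * β⁻¹) := by group
        have h3 : β * c * β⁻¹ ∈ A₁ := ⟨c, hc, rfl⟩
        refine ⟨?_, ?_⟩
        · have h4 := (Subgroup.mem_normalizer_iff.1 (h1 (inv_mem h3)) a⁻¹).1 (inv_mem ha)
          have hac := congrArg Subtype.val (hA.is_comm.comm ⟨a, ha⟩ ⟨c, hc⟩)
          have e' : a * (β * c * β⁻¹ * c⁻¹)⁻¹ * a⁻¹ * (β * c * β⁻¹ * c⁻¹) =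
              c * (a * ((β * c * β⁻¹)⁻¹ * a⁻¹ * (β * c * β⁻¹)⁻¹⁻¹)) * c⁻¹ := by
            calc _ = (a * c) * ((β * c * β⁻¹)⁻¹ * a⁻¹ * (β * c * β⁻¹)⁻¹⁻¹) * c⁻¹ := by group
              _ = (c * a) * ((β * c * β⁻¹)⁻¹ * a⁻¹ * (β * c * β⁻¹)⁻¹⁻¹) * c⁻¹ := by rw [show a * c = c * a from hac]
              _ = _ := by group
          rw [e']
          exact A.mul_mem (A.mul_mem hc (A.mul_mem ha h4)) (A.inv_mem hc)
        · have hac := congrArg Subtype.val (hA.is_comm.comm ⟨a, ha⟩ ⟨c, hc⟩)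
          have e' : a * (β * c * β⁻¹ * c⁻¹)⁻¹ * a⁻¹ * (β * c * β⁻¹ * c⁻¹) =
              c * ((a * (β * c * β⁻¹)⁻¹ * a⁻¹) * (β * c * β⁻¹)) * c⁻¹ := by
            calc _ = (a * c) * ((β * c * β⁻¹)⁻¹ * a⁻¹ * (β * c * β⁻¹)) * c⁻¹ := by group
              _ = (c * a) * ((β * c * β⁻¹)⁻¹ * a⁻¹ * (β * c * β⁻¹)) * c⁻¹ := by rw [show a * c = c * a from hac]
              _ = _ := by group
          rw [e']
          exact (Subgroup.mem_normalizer_iff.1 (hNA₁ (hAN hc)) _).1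
            (mul_mem ((Subgroup.mem_normalizer_iff.1 (hNA₁ (hAN ha)) _).1 (inv_mem h3)) h3)
      haveI := r1
      have hcomm : ∀ x ∈ R, ∀ y ∈ R, x * y = y * x := fun x hx y hy =>
        congrArg Subtype.val (r1.is_comm.comm ⟨x, hx⟩ ⟨y, hy⟩)
      intro x hx
      let T : Subgroup S :=
        { carrier := {x | x ∈ R ∧ ∃ a ∈ A, (β * a * β⁻¹ * a⁻¹)⁻¹ * x ∈ D}
          one_mem' := ⟨one_mem R, 1, one_mem A, by simp [D.one_mem]⟩
          mul_mem' := by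
            rintro x y ⟨hx, a, ha, hxa⟩ ⟨hy, c, hc, hyc⟩
            refine ⟨mul_mem hx hy, a * c, mul_mem ha hc, ?_⟩
            have e : (β * (a * c) * β⁻¹ * (a * c)⁻¹)⁻¹ * (x * y) =
                (β * (a * c) * β⁻¹ * (a * c)⁻¹)⁻¹ * ((β * a * β⁻¹ * a⁻¹) * (β * c * β⁻¹ * c⁻¹)) *
                  (((β * a * β⁻¹ * a⁻¹)⁻¹ * x) * ((β * c * β⁻¹ * c⁻¹)⁻¹ * y)) := by
              rw [← mul_assoc ((β * a * β⁻¹ * a⁻¹)⁻¹ * x), hcomm _ (hDR hxa) _ (inv_mem (hXR c hc))]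
              group
            rw [e]
            exact mul_mem (hmul a ha c hc) (mul_mem hxa hyc)
          inv_mem' := by
            rintro x ⟨hx, a, ha, hxa⟩
            refine ⟨inv_mem hx, a⁻¹, inv_mem ha, ?_⟩
            have h3 := hmul a ha a⁻¹ (inv_mem ha)
            rw [mul_inv_cancel a] at h3
            simp only [mul_one, inv_one, mul_inv_cancel, one_mul] at h3
            have e : (β * a⁻¹ * β⁻¹ * a⁻¹⁻¹)⁻¹ * x⁻¹ = ((β * a * β⁻¹ * a⁻¹) * (β * a⁻¹ * β⁻¹ * a⁻¹⁻¹))⁻¹ *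
                ((β * a * β⁻¹ * a⁻¹) * x⁻¹) := by group
            rw [e, hcomm _ (hXR a ha) _ (inv_mem hx)]
            refine mul_mem (inv_mem h3) ?_
            rw [show x⁻¹ * (β * a * β⁻¹ * a⁻¹) = ((β * a * β⁻¹ * a⁻¹)⁻¹ * x)⁻¹ by group]
            exact inv_mem hxa }
      have hT : R ≤ T := by
        refine sup_le (fun d hd => ⟨hDR hd, 1, one_mem A, by simp only [mul_one, inv_one, mul_inv_cancel, one_mul]; exact hd⟩) ((Subgroup.closure_le _).2 ?_)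
        rintro _ ⟨a, ha, rfl⟩
        exact ⟨hXR a ha, a, ha, by rw [inv_mul_cancel]; exact one_mem D⟩
      exact (hT hx).2
    let q : ↥A → ↥R ⧸ D.subgroupOf R := fun a => QuotientGroup.mk ⟨_, hXR a a.2⟩
    have hqs : Function.Surjective q := fun y => by
      induction y using QuotientGroup.induction_on with
      | H x =>
        obtain ⟨a, ha, hxa⟩ := hq x x.2
        exact ⟨⟨a, ha⟩, QuotientGroup.eq.2 hxa⟩
    -- the fibres
    have hfib : ∀ a c : ↥A, a⁻¹ * c ∈ D.subgroupOf A → q a = q c := by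
      intro a c hac
      have hd : (a : S)⁻¹ * c ∈ D := hac
      refine QuotientGroup.eq.2 ?_
      show (β * a * β⁻¹ * (a : S)⁻¹)⁻¹ * (β * c * β⁻¹ * (c : S)⁻¹) ∈ D
      have e : (β * a * β⁻¹ * (a : S)⁻¹)⁻¹ * (β * c * β⁻¹ * (c : S)⁻¹) =
          (a : S) * ((β * ((a : S)⁻¹ * c) * β⁻¹) * ((a : S)⁻¹ * c)⁻¹) * (a : S)⁻¹ := by group
      rw [e]
      have h3 := mul_mem (hDinv _ hd) (inv_mem hd)
      refine ⟨A.mul_mem (A.mul_mem a.2 h3.1) (A.inv_mem a.2), ?_⟩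
      exact (Subgroup.mem_normalizer_iff.1 (hNA₁ (hAN a.2)) _).1 h3.2
    let q' : ↥A ⧸ D.subgroupOf A → ↥R ⧸ D.subgroupOf R :=
      Quotient.lift q fun a c h => hfib a c (QuotientGroup.leftRel_apply.1 h)
    have hq' : Function.Surjective q' := fun y => by
      obtain ⟨a, ha⟩ := hqs y
      exact ⟨QuotientGroup.mk a, ha⟩
    rw [Subgroup.card_eq_card_quotient_mul_card_subgroup (D.subgroupOf R),
      Subgroup.card_eq_card_quotient_mul_card_subgroup (D.subgroupOf A),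
      Nat.card_congr (Subgroup.subgroupOfEquivOfLe hDR).toEquiv,
      Nat.card_congr (Subgroup.subgroupOfEquivOfLe (inf_le_left : D ≤ A)).toEquiv]
    exact Nat.mul_le_mul_right _ (Nat.card_le_card_of_surjective q' hq')
  · exact lt_of_le_not_ge inf_le_right fun h => hnot ((h.trans inf_le_left).trans r5)
  · simpa [hβ] using inv_mem hβR
  · exact lt_of_le_not_ge hNR fun h => hβA (h hβR)
  · intro hp
    refine Monoid.exponent_dvd_of_forall_pow_eq_one fun x => Subtype.ext ?_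
    refine Cfsg.Lib.Local.GlaubermanZJ.repl_pow_eq_one hA r1 h1 (hAN.trans hNA₁) ?_ ?_ x x.2
    · obtain ⟨k, hk⟩ := (hS.to_subgroup A).exists_card_eq
      obtain ⟨j, -, hj⟩ := (Nat.dvd_prime_pow (Fact.out : p.Prime)).1
        ((Group.exponent_dvd_nat_card (G := ↥A)).trans (dvd_of_eq hk))
      rw [hj]
      exact ((Fact.out : p.Prime).odd_of_ne_two hp).pow
    · exact fun a ha => congrArg Subtype.val (Monoid.pow_exponent_eq_one (⟨a, ha⟩ : ↥A))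

end Cfsg.Agent.S0650
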