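import Cfsg.Statements.S0651
import Cfsg.Agent.Lib.Local.ReplacementInNormal

set_option autoImplicit false
open Cfsg

namespace Cfsg.Agent.S0651

/-- For odd p and D normal in the p-group S, the abelian subgroups of D of largest order satisfy the replacement property: a class-2 normal subgroup B of S with a member containing [B, B] but not B normalizes some such member. -/
theorem result {S : Type*} [Group S] [Finite S] {p : ℕ} [Fact p.Prime] (hS : IsPGroup p S) (hp : p ≠ 2) (D : Subgroup S) [D.Normal] : ∀ (B : Subgroup S) [B.Normal], ⁅⁅B, B⁆, B⁆ = ⊥ → (∃ U ∈ (Set.image (fun A : Subgroup ↥D => A.map D.subtype) (Cfsg.maxAbelianSubgroups ↥D)), ⁅B, B⁆ ≤ U ∧ ¬ B ≤ U) → ∃ A ∈ (Set.image (fun A : Subgroup ↥D => A.map D.subtype) (Cfsg.maxAbelianSubgroups ↥D)), ⁅B, B⁆ ≤ A ∧ ¬ B ≤ A ∧ B ≤ Subgroup.normalizer (A : Set S) := by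
  intro B _ hcl hex
  have hiff : ∀ A : Subgroup S,
      A ∈ Set.image (fun A : Subgroup ↥D => A.map D.subtype) (Cfsg.maxAbelianSubgroups ↥D) ↔
        Cfsg.Lib.Local.GlaubermanZJ.IsMaxAbIn D A := by
    intro A
    rw [Cfsg.Lib.Local.GlaubermanZJ.isMaxAbIn_iff]
    refine ⟨?_, fun h => ⟨_, h.2, Subgroup.map_subgroupOf_eq_of_le h.1⟩⟩
    rintro ⟨A', hA', rfl⟩
    refine ⟨Subgroup.map_subtype_le A', ?_⟩
    rwa [Subgroup.subgroupOf, Subgroup.comap_map_eq_self_of_injective D.subtype_injective]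
  simp only [hiff] at hex ⊢
  exact Cfsg.Lib.Local.exists_normalized_member hS hp D B hcl {A | Cfsg.Lib.Local.GlaubermanZJ.IsMaxAbIn D A}
    (fun A hA => ⟨hA.1, hA.2.1⟩)
    (fun A hA b _ _ _ h3 h4 h5 => ⟨h3, h4, fun C hC hCc => (hA.2.2 C hC hCc).trans h5⟩) hex

end Cfsg.Agent.S0651
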