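import Cfsg.Statements.S0652
import Cfsg.Agent.Lib.Local.ReplacementInNormal

set_option autoImplicit false
open Cfsg

namespace Cfsg.Agent.S0652

/-- For odd p and D normal in the p-group S, the elementary abelian subgroups of D of largest order satisfy the replacement property for class-2 normal subgroups of S. -/
theorem result {S : Type*} [Group S] [Finite S] {p : ℕ} [Fact p.Prime] (hS : IsPGroup p S) (hp : p ≠ 2) (D : Subgroup S) [D.Normal] : ∀ (B : Subgroup S) [B.Normal], ⁅⁅B, B⁆, B⁆ = ⊥ → (∃ U ∈ (Set.image (fun A : Subgroup ↥D => A.map D.subtype) (Cfsg.maxElementaryAbelianSubgroups p ↥D)), ⁅B, B⁆ ≤ U ∧ ¬ B ≤ U) → ∃ A ∈ (Set.image (fun A : Subgroup ↥D => A.map D.subtype) (Cfsg.maxElementaryAbelianSubgroups p ↥D)), ⁅B, B⁆ ≤ A ∧ ¬ B ≤ A ∧ B ≤ Subgroup.normalizer (A : Set S) := by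
  intro B _ hcl hex
  have hp' : Odd p := (Fact.out : p.Prime).odd_of_ne_two hp
  let IsMax : Subgroup S → Prop := fun A => A ≤ D ∧ Cfsg.IsElementaryAbelian p A ∧
    ∀ C ≤ D, Cfsg.IsElementaryAbelian p C → Nat.card C ≤ Nat.card A
  have hback : ∀ C : Subgroup S, C ≤ D → Cfsg.IsElementaryAbelian p C →
      Cfsg.IsElementaryAbelian p (C.subgroupOf D) := by
    intro C hC h
    refine ⟨⟨⟨fun x y => Subtype.ext (Subtype.ext ?_)⟩⟩, fun x hx => Subtype.ext ?_⟩
    · simpa using congrArg Subtype.val (h.1.is_comm.comm ⟨_, Subgroup.mem_subgroupOf.1 x.2⟩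
        ⟨_, Subgroup.mem_subgroupOf.1 y.2⟩)
    · simpa using h.2 _ (Subgroup.mem_subgroupOf.1 hx)
  have hfwd : ∀ C : Subgroup ↥D, Cfsg.IsElementaryAbelian p C →
      Cfsg.IsElementaryAbelian p (C.map D.subtype) := by
    intro C h
    haveI := h.1
    refine ⟨inferInstance, ?_⟩
    rintro _ ⟨x, hx, rfl⟩
    rw [← map_pow, h.2 x hx, map_one]
  have hiff : ∀ A : Subgroup S,
      A ∈ Set.image (fun A : Subgroup ↥D => A.map D.subtype)
        (Cfsg.maxElementaryAbelianSubgroups p ↥D) ↔ IsMax A := by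
    intro A
    constructor
    · rintro ⟨A', ⟨h1, h2⟩, rfl⟩
      refine ⟨Subgroup.map_subtype_le A', hfwd A' h1, fun C hC hCe => ?_⟩
      rw [Subgroup.card_map_of_injective D.subtype_injective,
        ← Nat.card_congr (Subgroup.subgroupOfEquivOfLe hC).toEquiv]
      exact h2 _ (hback C hC hCe)
    · rintro ⟨hAD, hAe, hmax⟩
      refine ⟨A.subgroupOf D, ⟨hback A hAD hAe, fun C hC => ?_⟩,
        Subgroup.map_subgroupOf_eq_of_le hAD⟩
      rw [Nat.card_congr (Subgroup.subgroupOfEquivOfLe hAD).toEquiv,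
        ← Subgroup.card_map_of_injective D.subtype_injective]
      exact hmax _ (Subgroup.map_subtype_le C) (hfwd C hC)
  simp only [hiff] at hex ⊢
  exact Cfsg.Lib.Local.exists_normalized_member hS hp D B hcl {A | IsMax A}
    (fun A hA => ⟨hA.1, hA.2.1.1⟩)
    (fun A hA b _ h1 h2 h3 h4 h5 => ⟨h3,
      ⟨h4, Cfsg.Lib.Local.GlaubermanZJ.repl_pow_eq_one hA.2.1.1 h4 h1 h2 hp' hA.2.1.2⟩,
      fun C hC hCe => (hA.2.2 C hC hCe).trans h5⟩) hex

end Cfsg.Agent.S0652
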