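import Cfsg.Statements.S0657
import Cfsg.Agent.Lib.Local.SL2Involved

set_option autoImplicit false
open Cfsg

namespace Cfsg.Agent.S0657

/-- For odd p, a group that fails to be p-stable modulo its largest normal subgroup of order prime to p, and whose upper p-series does not stop there, has a section isomorphic to SL(2, p). -/
theorem result {G : Type*} [Group G] [Finite G] {p : ℕ} [Fact p.Prime] (hp : p ≠ 2) (hO : Cfsg.pPrimeCore p G < Cfsg.pPrimePCore p G) (hns : ¬ Cfsg.IsPStable p (G ⧸ Cfsg.pPrimeCore p G)) : ∃ (K L : Subgroup G) (hL : (L.subgroupOf K).Normal), K ≤ ⊤ ∧ Nonempty ((K ⧸ L.subgroupOf K) ≃* Matrix.SpecialLinearGroup (Fin 2) (ZMod p)) := by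
  by_contra hno
  have hsl : ¬ Cfsg.Involves (Matrix.SpecialLinearGroup (Fin 2) (ZMod p)) G := by
    rintro ⟨K, L, hL, hi⟩
    exact hno ⟨K, L, hL, le_top, hi⟩
  have hqd : ¬ Cfsg.Involves ↥(Cfsg.qd p) (G ⧸ Cfsg.pPrimeCore p G) := fun h =>
    hsl (Cfsg.Lib.Local.SL2Involved.involves_SL2_of_qd
      (Cfsg.Lib.FusionSys.involves_of_surjective (QuotientGroup.mk'_surjective (Cfsg.pPrimeCore p G)) h))
  refine hns ⟨(Fact.out : p.Prime).odd_of_ne_two hp, fun h0 => hO.ne' ?_, fun A P _ hP _ _ _ hq => ?_⟩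
  · rw [Cfsg.pPrimePCore, h0, MonoidHom.comap_bot, QuotientGroup.ker_mk']
  · exact Cfsg.Lib.Local.SL2Involved.map_le_pCore
      (Cfsg.Lib.Local.QdInvolved.isNormalizerPStable_of_not_involves_qd hp hqd) P A hP hq

end Cfsg.Agent.S0657
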