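import Cfsg.Statements.S0658
import Cfsg.Agent.Lib.Local.StableQuotient
import Cfsg.Agent.Lib.Sig.Small
import Cfsg.Agent.S0630

set_option autoImplicit false
open Cfsg

namespace Cfsg.Agent.S0658

open Subgroup

/-- In a group of characteristic p type all of whose p-locals are p-stable (p odd), the normalizer of Z(J(P)) contains the normalizer of every nontrivial subgroup of the Sylow p-subgroup P. -/
theorem result {G : Type*} [Group G] [Finite G] {p : ℕ} [Fact p.Prime] (hp : p ≠ 2) (hloc : ∀ Q : Subgroup G, IsPGroup p Q → Q ≠ ⊥ → Cfsg.pPrimeCore p ↥(Subgroup.normalizer (Q : Set G)) = ⊥ ∧ Cfsg.IsPConstrained p ↥(Subgroup.normalizer (Q : Set G)) ∧ Cfsg.IsPStable p ↥(Subgroup.normalizer (Q : Set G))) (P : Sylow p G) (Q : Subgroup G) (hQP : Q ≤ (P : Subgroup G)) (hQ1 : Q ≠ ⊥) : Subgroup.normalizer (Q : Set G) ≤ Subgroup.normalizer (Cfsg.centerThompsonAOf ((P : Subgroup G)) : Set G) := by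
  classical
  -- in a local subgroup the centre of `J` of a Sylow subgroup is normal
  have hzj : ∀ Q : Subgroup G, IsPGroup p Q → Q ≠ ⊥ →
      ∀ T : Sylow p ↥(normalizer (Q : Set G)), normalizer (Q : Set G) ≤ normalizer
        (Cfsg.centerThompsonAOf ((T : Subgroup ↥(normalizer (Q : Set G))).map
          (normalizer (Q : Set G)).subtype) : Set G) := by
    intro Q hQ hQ1' T
    obtain ⟨hO, hcon, hst⟩ := hloc Q hQ hQ1'
    have hcc : centralizer (Cfsg.pCore p ↥(normalizer (Q : Set G)) : Set ↥(normalizer (Q : Set G))) ≤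
        Cfsg.pCore p ↥(normalizer (Q : Set G)) := (Cfsg.Agent.S0630.iff_equiv
          ((QuotientGroup.quotientMulEquivOfEq hO).trans QuotientGroup.quotientBot)).1
            (Cfsg.Lib.Sig.isPConstrained_iff.1 hcon)
    have hn := Cfsg.Lib.Local.GlaubermanZJ.centerThompsonA_normal hp hcc
      (fun V _ hV => Cfsg.Lib.Local.StableQuotient.isPStableOn_of_pPrimeCore_eq_bot hst hO V hV) T
    rw [← Cfsg.Lib.Local.GlaubermanZJ.map_centerThompsonAOf' _ _
      (normalizer (Q : Set G)).subtype_injective.injOn]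
    intro g hg
    refine mem_normalizer_fintype ?_
    rintro _ ⟨z, hz, rfl⟩
    exact ⟨⟨g, hg⟩ * z * ⟨g, hg⟩⁻¹, hn.conj_mem z hz _, rfl⟩
  set M := normalizer (Cfsg.centerThompsonAOf (P : Subgroup G) : Set G) with hM
  have hPM : (P : Subgroup G) ≤ M := by
    have h := Cfsg.Lib.Local.GlaubermanZJ.normalizer_le_normalizer_centerThompsonAOf (P : Subgroup G)
    exact le_normalizer.trans h
  have hPidx : ¬ p ∣ (P : Subgroup G).relIndex M := fun hd =>
    P.not_dvd_index (hd.trans (relIndex_dvd_index_of_le hPM))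
  suffices key : ∀ d : ℕ, ∀ Q : Subgroup G, Q ≤ (P : Subgroup G) → Q ≠ ⊥ →
      Nat.card (P : Subgroup G) - Nat.card ((P : Subgroup G) ⊓ normalizer (Q : Set G) : Subgroup G) = d →
      normalizer (Q : Set G) ≤ M from key _ Q hQP hQ1 rfl
  intro d
  induction d using Nat.strong_induction_on with
  | _ d ih =>
    intro Q hQP hQ1 hd
    have hQp : IsPGroup p Q := P.2.to_le hQP
    set H := normalizer (Q : Set G) with hH
    set R := (P : Subgroup G) ⊓ H with hR
    have hRp : IsPGroup p R := P.2.to_le inf_le_left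
    by_cases hRP : R = (P : Subgroup G)
    · have hPH : (P : Subgroup G) ≤ H := hRP.ge.trans inf_le_right
      have h := hzj Q hQp hQ1 (P.subtype hPH)
      rwa [Sylow.coe_subtype, subgroupOf_map_subtype, inf_eq_left.2 hPH] at h
    have hlt : R < (P : Subgroup G) := lt_of_le_of_ne inf_le_left hRP
    have hstep : ∀ (Q' U : Subgroup G), Q' ≤ (P : Subgroup G) → Q' ≠ ⊥ →
        U ≤ (P : Subgroup G) ⊓ normalizer (Q' : Set G) → Nat.card R < Nat.card U →
        normalizer (Q' : Set G) ≤ M := fun Q' U h1 h2 h3 h4 => by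
      refine ih _ ?_ Q' h1 h2 rfl
      have h5 := card_le_of_le h3
      have h6 := card_le_of_le (inf_le_left : (P : Subgroup G) ⊓ normalizer (Q' : Set G) ≤ _)
      omega
    have hcl : ∀ {A B : Subgroup G}, A < B → Nat.card A < Nat.card B := fun hAB =>
      Cfsg.Lib.Fusion.card_lt_card_of_lt hAB
    have hQR : Q ≤ R := le_inf hQP le_normalizer
    have hR1 : R ≠ ⊥ := fun h => hQ1 (le_bot_iff.1 (h ▸ hQR))
    have hR2 := Cfsg.Lib.Fusion.lt_inf_normalizer P.2 hlt
    have hNR : normalizer (R : Set G) ≤ M := hstep R _ inf_le_left hR1 le_rfl (hcl hR2)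
    obtain ⟨T, hT⟩ := (hRp.comap_of_injective H.subtype H.subtype_injective :
      IsPGroup p (R.subgroupOf H)).exists_le_sylow
    set T0 := (T : Subgroup ↥H).map H.subtype with hT0
    have hRT : R ≤ T0 := by
      rw [← map_subgroupOf_eq_of_le (show R ≤ H from inf_le_right)]
      exact map_mono hT
    have hT0p : IsPGroup p T0 := T.2.map _
    rcases eq_or_lt_of_le hRT with hRT' | hRT'
    · have h := hzj Q hQp hQ1 T
      rw [← hT0, ← hRT'] at h
      have hZR : Cfsg.centerThompsonAOf R ≤ R := inf_le_left.trans (map_subtype_le _)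
      refine h.trans (hstep _ _ (hZR.trans inf_le_left)
        (Cfsg.Lib.Local.GlaubermanZJ.centerThompsonAOf_ne_bot hRp hR1)
        (le_inf inf_le_left (inf_le_right.trans
          (Cfsg.Lib.Local.GlaubermanZJ.normalizer_le_normalizer_centerThompsonAOf R))) (hcl hR2))
    · have hU := Cfsg.Lib.Fusion.lt_inf_normalizer hT0p hRT'
      set U := T0 ⊓ normalizer (R : Set G) with hUdef
      obtain ⟨c, hc, hle⟩ := Cfsg.Lib.Sig.exists_conj_le_of_relIndex hPM P.2 hPidx
        (inf_le_right.trans hNR : U ≤ M) (hT0p.to_le inf_le_left)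
      set e := (MulAut.conj c).toMonoidHom with he
      have hQ' : normalizer ((Q.map e : Subgroup G) : Set G) ≤ M := by
        refine hstep (Q.map e) (U.map e) ((map_mono (hQR.trans hU.le)).trans hle) ?_ (le_inf hle ?_) ?_
        · exact fun h => hQ1 ((Subgroup.map_eq_bot_iff_of_injective _ (MulAut.conj c).injective).1 h)
        · exact (map_mono ((inf_le_left : U ≤ T0).trans (map_subtype_le _))).trans (le_normalizer_map e)
        · rw [card_map_of_injective (MulAut.conj c).injective]
          exact hcl hU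
      intro g hg
      have h1 : e g ∈ M := hQ' (le_normalizer_map e ⟨g, hg, rfl⟩)
      have h2 : c⁻¹ * e g * c ∈ M := mul_mem (mul_mem (inv_mem hc) h1) hc
      rwa [show c⁻¹ * e g * c = g from by simp [he, MulAut.conj_apply, mul_assoc]] at h2

end Cfsg.Agent.S0658
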