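import Cfsg.Statements.S0660
import Cfsg.Agent.Lib.Fusion.Abelian

set_option autoImplicit false
set_option linter.style.haveILetI false
open Cfsg

namespace Cfsg.Agent.S0660

/-- Under a coprime action on an abelian group, an invariant subgroup that is complemented admits an invariant complement. -/
theorem result {G : Type*} [Group G] [Finite G] (V A U : Subgroup G) (hVab : IsMulCommutative V) (hAV : A ≤ Subgroup.normalizer (V : Set G)) (hcop : (Nat.card A).Coprime (Nat.card V)) (hUV : U ≤ V) (hAU : A ≤ Subgroup.normalizer (U : Set G)) (W : Subgroup G) (hWV : W ≤ V) (hUW : U ⊓ W = ⊥) (hUWV : U ⊔ W = V) : ∃ W' : Subgroup G, W' ≤ V ∧ A ≤ Subgroup.normalizer (W' : Set G) ∧ U ⊓ W' = ⊥ ∧ U ⊔ W' = V := by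
  classical
  letI : CommGroup V :=
    { (inferInstance : Group V) with mul_comm := fun a b => hVab.is_comm.comm a b }
  haveI := Fintype.ofFinite A
  let f : U × W →* V :=
    (Subgroup.inclusion hUV).coprod (Subgroup.inclusion hWV)
  have hf : Function.Bijective f := by
    constructor
    · rw [injective_iff_map_eq_one]
      rintro ⟨u, w⟩ h
      have h' : (u : G) * w = 1 := congrArg Subtype.val h
      have hu : (u : G) ∈ U ⊓ W := ⟨u.2, by rw [eq_inv_of_mul_eq_one_left h']; exact W.inv_mem w.2⟩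
      rw [hUW, Subgroup.mem_bot] at hu
      rw [hu, one_mul] at h'
      exact Prod.ext (Subtype.ext hu) (Subtype.ext h')
    · intro v
      have hV : V ≤ f.range.map V.subtype := by
        conv_lhs => rw [← hUWV]
        refine sup_le (fun u hu => ?_) (fun w hw => ?_)
        · exact ⟨_, ⟨(⟨u, hu⟩, 1), rfl⟩, by simp [f]⟩
        · exact ⟨_, ⟨(1, ⟨w, hw⟩), rfl⟩, by simp [f]⟩
      obtain ⟨_, ⟨x, rfl⟩, hy⟩ := hV v.2
      exact ⟨x, Subtype.ext hy⟩
  let e := MulEquiv.ofBijective f hf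
  let π : V →* V := ((Subgroup.inclusion hUV).comp (MonoidHom.fst U W)).comp e.symm.toMonoidHom
  have hπU : ∀ v : V, (π v : G) ∈ U := fun v => ((e.symm v).1).2
  have hπid : ∀ v : V, (v : G) ∈ U → π v = v := by
    intro v hv
    have h1 : e (⟨v, hv⟩, 1) = v := Subtype.ext (by simp [e, f])
    have h2 : e.symm v = (⟨v, hv⟩, 1) := e.injective (by rw [e.apply_symm_apply, h1])
    show Subgroup.inclusion hUV (e.symm v).1 = v
    rw [h2]
    rfl
  let c : A → (V →* V) := fun a => MonoidHom.mk'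
    (fun v => ⟨(a : G) * v * (a : G)⁻¹, (Subgroup.mem_normalizer_iff.mp (hAV a.2) v).mp v.2⟩)
    (fun u v => Subtype.ext (by simp [mul_assoc]))
  have hc : ∀ a b : A, ∀ v, c a (c b v) = c (a * b) v := fun a b v => Subtype.ext (by simp [c, mul_assoc])
  have hcU : ∀ a : A, ∀ v : V, (v : G) ∈ U → (c a v : G) ∈ U := fun a v hv =>
    (Subgroup.mem_normalizer_iff.mp (hAU a.2) (v : G)).mp hv
  let ψ : V →* V := ∏ a : A, (c a).comp (π.comp (c a⁻¹))
  have hψ : ∀ v, ψ v = ∏ a : A, c a (π (c a⁻¹ v)) := fun v => MonoidHom.finsetProd_apply _ _ _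
  have hψU : ∀ v, (ψ v : G) ∈ U := by
    intro v
    rw [hψ]
    have h : ∏ a : A, c a (π (c a⁻¹ v)) ∈ U.subgroupOf V :=
      Subgroup.prod_mem _ fun a _ => Subgroup.mem_subgroupOf.mpr (hcU _ _ (hπU _))
    exact Subgroup.mem_subgroupOf.mp h
  have hψid : ∀ v : V, (v : G) ∈ U → ψ v = v ^ Nat.card A := by
    intro v hv
    rw [hψ, Finset.prod_eq_pow_card (b := v) (fun a _ => ?_), Finset.card_univ, Nat.card_eq_fintype_card]
    rw [hπid _ (hcU _ _ hv), hc, mul_inv_cancel]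
    exact Subtype.ext (by simp [c])
  have hψc : ∀ b : A, ∀ v, ψ (c b v) = c b (ψ v) := by
    intro b v
    rw [hψ, hψ, map_prod]
    refine Fintype.prod_equiv (Equiv.mulLeft b⁻¹) _ _ fun a => ?_
    rw [hc, Equiv.coe_mulLeft, hc]
    simp [mul_inv_rev]
  refine ⟨ψ.ker.map V.subtype, Subgroup.map_subtype_le _, fun a ha => ?_, ?_, ?_⟩
  · refine Cfsg.Lib.Fusion.le_normalizer_of_conj_mem fun k hk => ?_
    obtain ⟨v, hv, rfl⟩ := hk
    exact ⟨c ⟨a, ha⟩ v, MonoidHom.mem_ker.mpr (by rw [hψc, MonoidHom.mem_ker.mp hv, map_one]), rfl⟩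
  · rw [eq_bot_iff]
    rintro _ ⟨hu, v, hv, rfl⟩
    have h1 : v ^ Nat.card A = 1 := by rw [← hψid v hu]; exact MonoidHom.mem_ker.mp hv
    have h2 : v = 1 := orderOf_eq_one_iff.mp
      (Nat.eq_one_of_dvd_coprimes hcop (orderOf_dvd_of_pow_eq_one h1) (orderOf_dvd_natCard v))
    simp [h2]
  · refine le_antisymm (sup_le hUV (Subgroup.map_subtype_le _)) fun v hv => ?_
    obtain ⟨m, hm⟩ := exists_pow_eq_self_of_coprime (n := Nat.card A) (x := ψ ⟨v, hv⟩)
      (hcop.coprime_dvd_right (orderOf_dvd_natCard _))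
    set u0 : V := ψ ⟨v, hv⟩ ^ m with hu0
    have hu0U : (u0 : G) ∈ U := by
      rw [hu0, SubgroupClass.coe_pow]
      exact U.pow_mem (hψU _) m
    have hk : u0⁻¹ * ⟨v, hv⟩ ∈ ψ.ker := by
      rw [MonoidHom.mem_ker, map_mul, map_inv, hψid u0 hu0U, hu0, ← pow_mul, mul_comm m, pow_mul, hm,
        inv_mul_cancel]
    have := Subgroup.mul_mem (U ⊔ ψ.ker.map V.subtype) (Subgroup.mem_sup_left hu0U)
      (Subgroup.mem_sup_right (Subgroup.mem_map_of_mem V.subtype hk))
    simpa using this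

end Cfsg.Agent.S0660
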