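import Cfsg.Statements.S0661
import Cfsg.Agent.Lib.Core.Cores
import Cfsg.Agent.Lib.Coprime.PGroupAction
import Cfsg.Agent.Lib.Coprime.Conjugacy

set_option autoImplicit false
set_option linter.style.haveILetI false
open Cfsg

namespace Cfsg.Agent.S0661

open Subgroup in
theorem disjoint_of_pGroup_coprime {G : Type*} [Group G] [Finite G] {p : ℕ} [Fact p.Prime] {A B : Subgroup G}
    (hA : IsPGroup p A) (hB : (Nat.card B).Coprime p) {x : G} (ha : x ∈ A) (hb : x ∈ B) : x = 1 := by
  obtain ⟨k, hk⟩ := IsPGroup.iff_card.mp hA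
  exact disjoint_def.mp (disjoint_of_coprime_natCard (by rw [hk]; exact (hB.pow_right k).symm)) ha hb

/-- If, modulo the largest normal subgroup of order prime to p, the largest normal p-subgroup contains its centralizer, then for every p-subgroup P the p'-core of N_G(P) is just O_p'(G) ∩ N_G(P). -/
theorem result {G : Type*} [Group G] [Finite G] {p : ℕ} [Fact p.Prime] (hc : Subgroup.centralizer (Cfsg.pCore p (G ⧸ Cfsg.pPrimeCore p G) : Set (G ⧸ Cfsg.pPrimeCore p G)) ≤ Cfsg.pCore p (G ⧸ Cfsg.pPrimeCore p G)) (P : Subgroup G) (hP : IsPGroup p P) : (Cfsg.pPrimeCore p ↥(Subgroup.normalizer (P : Set G))).map (Subgroup.normalizer (P : Set G)).subtype = Cfsg.pPrimeCore p G ⊓ Subgroup.normalizer (P : Set G) := by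
  classical
  set N := Subgroup.normalizer (P : Set G) with hNd
  set O := Cfsg.pPrimeCore p G with hOd
  set X := (Cfsg.pPrimeCore p N).map N.subtype with hXd
  have hXN : X ≤ N := Subgroup.map_subtype_le _
  have hPN : P ≤ N := Subgroup.le_normalizer
  have hXc : (Nat.card X).Coprime p := by
    rw [hXd, Subgroup.card_map_of_injective N.subtype_injective]
    exact Cfsg.Lib.Core.pPrimeCore_coprime p N
  have hOc : (Nat.card O).Coprime p := Cfsg.Lib.Core.pPrimeCore_coprime p G
  haveI : O.Normal := inferInstance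
  haveI hXn : (Cfsg.pPrimeCore p N).Normal := inferInstance
  have hXconj : ∀ n ∈ N, ∀ x ∈ X, n * x * n⁻¹ ∈ X := by
    rintro n hn _ ⟨x, hx, rfl⟩
    exact ⟨⟨n, hn⟩ * x * ⟨n, hn⟩⁻¹, hXn.conj_mem x hx _, rfl⟩
  have hPX : ∀ a ∈ P, ∀ x ∈ X, a * x = x * a := by
    intro a ha x hx
    have h1 : a * x * a⁻¹ * x⁻¹ = 1 := by
      refine disjoint_of_pGroup_coprime hP hXc ?_ (X.mul_mem (hXconj a (hPN ha) x hx) (X.inv_mem hx))
      rw [mul_assoc, mul_assoc, ← mul_assoc x]
      exact P.mul_mem ha ((Subgroup.mem_normalizer_iff.mp (hXN hx) _).mp (P.inv_mem ha))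
    exact mul_inv_eq_iff_eq_mul.mp (mul_inv_eq_one.mp h1)
  refine le_antisymm (le_inf ?_ hXN) ?_
  · set f := QuotientGroup.mk' O with hfd
    set Q := Cfsg.pCore p (G ⧸ O) with hQd
    have hQn : Q.Normal := inferInstance
    have hQN : ∀ H : Subgroup (G ⧸ O), H ≤ Subgroup.normalizer (Q : Set (G ⧸ O)) := fun H => by
      rw [Subgroup.normalizer_eq_top_iff.mpr hQn]; exact le_top
    have hQP : IsPGroup p Q := Cfsg.Lib.Core.pCore_isPGroup p _
    have hXc' : (Nat.card (X.map f)).Coprime p := hXc.coprime_dvd_left (Subgroup.card_map_dvd _ _)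
    have hcomm : ⁅Q, X.map f⁆ = ⊥ := by
      refine Cfsg.Lib.Coprime.commutator_eq_bot_of_AxB Q (P.map f) (X.map f) hQP (hP.map f) hXc'
        (hQN _) (hQN _) ?_ ?_
      · rintro _ ⟨x, hx, rfl⟩
        rw [Subgroup.mem_centralizer_iff]
        rintro _ ⟨a, ha, rfl⟩
        rw [← map_mul, ← map_mul, hPX a ha x hx]
      · rintro q ⟨hq, hqP⟩
        obtain ⟨g, rfl⟩ := QuotientGroup.mk'_surjective O q
        have hB : P.map (MulAut.conj g).toMonoidHom ≤ O ⊔ P := by
          rintro _ ⟨a, ha, rfl⟩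
          have h2 : (MulAut.conj g).toMonoidHom a ∈ (P.map f).comap f := by
            refine ⟨a, ha, ?_⟩
            show f a = f (g * a * g⁻¹)
            rw [map_mul, map_mul, map_inv, ← Subgroup.mem_centralizer_iff.mp hqP (f a) ⟨a, ha, rfl⟩,
              mul_inv_cancel_right]
          rw [Subgroup.comap_map_eq, hfd, QuotientGroup.ker_mk', sup_comm] at h2
          exact h2
        obtain ⟨n, hn, he⟩ := Cfsg.Lib.Coprime.exists_conj_of_coprime O P _
          (by rw [Subgroup.normalizer_eq_top_iff.mpr ‹O.Normal›]; exact le_top)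
          (by obtain ⟨k, hk⟩ := IsPGroup.iff_card.mp hP; rw [hk]; exact (hOc.pow_right k).symm)
          (Or.inl (by haveI := hP.isNilpotent; infer_instance)) hB
          (Subgroup.card_map_of_injective (MulAut.conj g).injective)
        have hm : n⁻¹ * g ∈ N := by
          rw [hNd, Subgroup.mem_normalizer_iff]
          intro a
          constructor
          · intro ha
            obtain ⟨b, hb, hbe⟩ : (MulAut.conj g).toMonoidHom a ∈ P.map (MulAut.conj n).toMonoidHom :=
              he ▸ Subgroup.mem_map_of_mem _ ha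
            have hbe' : n * b * n⁻¹ = g * a * g⁻¹ := hbe
            rw [show n⁻¹ * g * a * (n⁻¹ * g)⁻¹ = n⁻¹ * (g * a * g⁻¹) * n by group, ← hbe']
            rwa [show n⁻¹ * (n * b * n⁻¹) * n = b by group]
          · intro ha
            obtain ⟨b, hb, hbe⟩ : (MulAut.conj n).toMonoidHom (n⁻¹ * g * a * (n⁻¹ * g)⁻¹) ∈
                P.map (MulAut.conj g).toMonoidHom := he ▸ Subgroup.mem_map_of_mem _ ha
            have hbe' : g * b * g⁻¹ = n * (n⁻¹ * g * a * (n⁻¹ * g)⁻¹) * n⁻¹ := hbe
            have : b = a := by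
              rw [show n * (n⁻¹ * g * a * (n⁻¹ * g)⁻¹) * n⁻¹ = g * a * g⁻¹ by group] at hbe'
              exact mul_left_cancel (mul_right_cancel hbe')
            exact this ▸ hb
        have hfm : f (n⁻¹ * g) = f g := by
          rw [map_mul, show f n⁻¹ = 1 from (QuotientGroup.eq_one_iff _).mpr (O.inv_mem hn), one_mul]
        rw [Subgroup.mem_centralizer_iff]
        rintro _ ⟨x, hx, rfl⟩
        have h1 : f g * f x * (f g)⁻¹ * (f x)⁻¹ = 1 := by
          refine disjoint_of_pGroup_coprime hQP hXc' ?_ ?_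
          · rw [mul_assoc, mul_assoc, ← mul_assoc (f x)]
            exact Q.mul_mem hq (hQn.conj_mem _ (Q.inv_mem hq) _)
          · refine ⟨(n⁻¹ * g) * x * (n⁻¹ * g)⁻¹ * x⁻¹, X.mul_mem (hXconj _ hm x hx) (X.inv_mem hx), ?_⟩
            rw [map_mul, map_mul, map_mul, map_inv, map_inv, hfm]
        rw [mul_inv_eq_one, mul_inv_eq_iff_eq_mul] at h1
        exact h1.symm
    have hle : X.map f ≤ Q := by
      refine le_trans ?_ hc
      exact Subgroup.commutator_eq_bot_iff_le_centralizer.mp (Subgroup.commutator_comm Q (X.map f) ▸ hcomm)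
    intro x hx
    have hfx : f x = 1 := disjoint_of_pGroup_coprime hQP hXc' (hle ⟨x, hx, rfl⟩) ⟨x, hx, rfl⟩
    exact (QuotientGroup.eq_one_iff x).mp hfx
  · rintro y ⟨hyO, hyN⟩
    refine ⟨⟨y, hyN⟩, ?_, rfl⟩
    refine Cfsg.Lib.Core.le_pPrimeCore' (N := O.subgroupOf N) inferInstance ?_ (Subgroup.mem_subgroupOf.mpr hyO)
    exact hOc.coprime_dvd_left
      (Subgroup.card_comap_dvd_of_injective O N.subtype N.subtype_injective)

end Cfsg.Agent.S0661
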