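import Cfsg.Statements.S0662
import Cfsg.Agent.Lib.PGroup.MaximalClass
import Cfsg.Agent.Lib.FusionSys.PlaneAction
-- import your own Cfsg.Agent.* helpers here

set_option autoImplicit false
open Cfsg

namespace Cfsg.Agent.S0662


open Subgroup
open Cfsg.Lib.PGroup.MaxClass

/-- The lines of a plane. -/
theorem card_lines {V : Type*} [Group V] [Finite V] {p : ℕ} [hp : Fact p.Prime] (hc : Nat.card V = p ^ 2)
    (hexp : ∀ v : V, v ^ p = 1) : Nat.card {U : Subgroup V // Nat.card U = p} = p + 1 := by
  classical
  haveI : Fintype {U : Subgroup V // Nat.card U = p} := Fintype.ofFinite _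
  let e : {v : V // v ≠ 1} ≃ (U : {U : Subgroup V // Nat.card U = p}) × {u : U.1 // u ≠ 1} :=
    { toFun := fun v => ⟨⟨zpowers v.1, Cfsg.Lib.FusionSys.Plane.card_zpowers_eq hc hexp v.2⟩,
        ⟨⟨v.1, mem_zpowers _⟩, fun h => v.2 (congrArg Subtype.val h)⟩⟩
      invFun := fun x => ⟨x.2.1.1, fun h => x.2.2 (Subtype.ext h)⟩
      left_inv := fun v => rfl
      right_inv := by
        rintro ⟨⟨U, hU⟩, ⟨⟨u, hu⟩, hu1⟩⟩
        have h1 : zpowers u = U := Cfsg.Lib.FusionSys.Plane.eq_zpowers_of_mem hc hexp hU
          (fun h => hu1 (Subtype.ext h)) hu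
        subst h1
        rfl }
  have h2 := Nat.card_congr e
  have hU : ∀ U : {U : Subgroup V // Nat.card U = p}, Nat.card {u : U.1 // u ≠ 1} = p - 1 := fun U => by
    haveI := Fintype.ofFinite U.1
    rw [Nat.card_eq_fintype_card, Fintype.card_subtype_compl, Fintype.card_subtype_eq,
      ← Nat.card_eq_fintype_card, U.2]
  rw [Nat.card_sigma] at h2
  simp only [hU, Finset.sum_const, Finset.card_univ, smul_eq_mul, ← Nat.card_eq_fintype_card] at h2
  have h3 : Nat.card {v : V // v ≠ 1} = p ^ 2 - 1 := by
    haveI := Fintype.ofFinite V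
    rw [Nat.card_eq_fintype_card, Fintype.card_subtype_compl, Fintype.card_subtype_eq,
      ← Nat.card_eq_fintype_card, hc]
  rw [h3] at h2
  have hp1 : 0 < p - 1 := by have := hp.out.two_le; omega
  refine Nat.eq_of_mul_eq_mul_right hp1 ?_
  rw [← h2, ← one_pow 2, Nat.sq_sub_sq, one_pow]

/-- In a p-group of maximal class of order at least p³ the normal subgroups of index at least p² are exactly the terms of the lower central series, and there are exactly p + 1 normal subgroups of index p. -/
theorem result {G : Type*} [Group G] [Finite G] {p : ℕ} [Fact p.Prime] (n : ℕ) (hG : Nat.card G = p ^ n) (hcl : Group.nilpotencyClass G = n - 1) (hn : 3 ≤ n) : (∀ (N : Subgroup G) [N.Normal] (r : ℕ), 2 ≤ r → N.index = p ^ r → N = (⊤ : Subgroup G).lowerCentralSeries (r - 1)) ∧ Nat.card {N : Subgroup G // N.Normal ∧ N.index = p} = p + 1 := by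
  classical
  have hp := (Fact.out : p.Prime)
  have h := isMax_of_class (p := p) hn hG hcl
  refine ⟨fun N _ r hr hidx => ?_, ?_⟩
  · set L := fun k => (⊤ : Subgroup G).lowerCentralSeries k with hL
    have hN1 : N ≤ L 1 := by
      by_contra hNle
      obtain ⟨a, haN, ha⟩ := SetLike.not_le_iff_exists.1 hNle
      have htop : ¬ (N ⊔ L 1).index ≤ p → False := by
        intro hbad
        apply hbad
        obtain ⟨i, hi⟩ := (isPGroup h).index (N ⊔ L 1)
        have hlt : L 1 < N ⊔ L 1 := lt_of_le_of_ne le_sup_right fun hh => ha (hh ▸ mem_sup_left haN)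
        have h1 := index_strictAnti hlt
        have h2 : (L 1).index = p ^ 2 := by
          have h3 := (L 1).card_mul_index
          rw [card_gamma h 1 le_rfl (by omega), hG, show p ^ n = p ^ (n - 1 - 1) * p ^ 2 by
            rw [← pow_add]; congr 1; omega] at h3
          exact Nat.eq_of_mul_eq_mul_left (pow_pos hp.pos _) h3
        rw [hi, h2] at h1
        rw [hi]
        have := (Nat.pow_lt_pow_iff_right hp.one_lt).1 h1
        exact (Nat.pow_le_pow_right hp.pos (show i ≤ 1 by omega)).trans (pow_one p).le
      have hle : (N ⊔ L 1).index ≤ p := by_contra htop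
      have key : ∀ j, L 1 ≤ N ⊔ L (2 + j) := by
        intro j
        induction j with
        | zero =>
          haveI : (N ⊔ L 2).Normal := inferInstance
          obtain ⟨s, hs⟩ : ∃ s : G, N ⊔ L 1 ⊔ zpowers s = ⊤ := by
            by_cases htop' : N ⊔ L 1 = ⊤
            · exact ⟨1, by rw [htop', top_sup_eq]⟩
            obtain ⟨s, -, hs⟩ := SetLike.exists_of_lt (lt_top_iff_ne_top.2 htop')
            refine ⟨s, Cfsg.Lib.PGroup.sup_zpowers_eq_top_of_index (p := p) ?_ hs⟩
            obtain ⟨i, hi⟩ := (isPGroup h).index (N ⊔ L 1)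
            rw [hi] at hle ⊢
            have h1 : i ≤ 1 := (Nat.pow_le_pow_iff_right hp.one_lt).1 (hle.trans (pow_one p).ge)
            have h2 : i ≠ 0 := fun h0 => htop' (index_eq_one.1 (by rw [hi, h0, pow_zero]))
            rw [show i = 1 by omega, pow_one]
          show L 1 ≤ N ⊔ L 2
          rw [show L 1 = ⁅(⊤ : Subgroup G), ⊤⁆ by
            show (⊤ : Subgroup G).lowerCentralSeries (0 + 1) = _
            rw [Subgroup.lowerCentralSeries_succ, Subgroup.lowerCentralSeries_zero]]
          conv_lhs => arg 1; rw [← hs]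
          have hA : ⁅N ⊔ L 1, (⊤ : Subgroup G)⁆ ≤ N ⊔ L 2 :=
            commutator_sup_le ((commutator_le_left N ⊤).trans le_sup_left)
              (le_trans (le_of_eq (Subgroup.lowerCentralSeries_succ _ 1).symm) le_sup_right)
          refine commutator_sup_le hA ?_
          rw [← hs, commutator_comm]
          refine commutator_sup_le ((commutator_mono le_rfl le_top).trans hA) ?_
          rw [commutator_le]
          rintro _ ⟨i, rfl⟩ _ ⟨j, rfl⟩
          rw [commutatorElement_eq_one_iff_mul_comm.2 ((Commute.refl s).zpow_zpow i j).eq]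
          exact one_mem _
        | succ j ih =>
          haveI : (N ⊔ L (2 + (j + 1))).Normal := inferInstance
          have h2 : L 2 ≤ N ⊔ L (2 + (j + 1)) := by
            show (⊤ : Subgroup G).lowerCentralSeries (1 + 1) ≤ _
            rw [Subgroup.lowerCentralSeries_succ]
            refine (commutator_mono ih le_rfl).trans
              (commutator_sup_le ((commutator_le_left N ⊤).trans le_sup_left) (le_trans (le_of_eq ?_) le_sup_right))
            show _ = (⊤ : Subgroup G).lowerCentralSeries (2 + j + 1)
            rw [Subgroup.lowerCentralSeries_succ]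
          have h0 : L 1 ≤ N ⊔ L 2 := by
            refine ih.trans (sup_le le_sup_left ?_)
            exact le_sup_of_le_right (Subgroup.lowerCentralSeries_antitone _ (by omega))
          exact h0.trans (sup_le le_sup_left h2)
      have h1 : L 1 ≤ N := (key (n - 1)).trans (sup_le le_rfl ((gamma_eq_bot h (by omega)).le.trans bot_le))
      rw [sup_eq_left.2 h1, hidx] at hle
      have := (Nat.pow_le_pow_iff_right hp.one_lt).1 (hle.trans (pow_one p).ge)
      omega
    have hcase : ∃ k, 1 ≤ k ∧ k ≤ n - 1 ∧ N = L k := by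
      by_cases hbot : N = ⊥
      · exact ⟨n - 1, by omega, le_rfl, by rw [hbot]; exact (gamma_eq_bot h le_rfl).symm⟩
      have hex : ∃ k, ¬ N ≤ L (k + 1) := ⟨n - 1, fun hle => hbot (le_bot_iff.1
        (hle.trans (gamma_eq_bot h (by omega)).le))⟩
      set k := Nat.find hex with hk
      have hk' : ¬ N ≤ L (k + 1) := Nat.find_spec hex
      have hk1 : 1 ≤ k := by
        by_contra hc
        exact hk' (by rw [show k = 0 by omega]; exact hN1)
      have hNk : N ≤ L k := by
        have h1 := Nat.find_min hex (show k - 1 < Nat.find hex by omega)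
        rw [not_not, show k - 1 + 1 = k by omega] at h1
        exact h1
      refine ⟨k, hk1, ?_, eq_gamma_of_normal h hk1 hNk hk'⟩
      by_contra hc
      exact hbot (le_bot_iff.1 (hNk.trans (gamma_eq_bot h (by omega)).le))
    obtain ⟨k, hk1, hkn, hNk⟩ := hcase
    have h3 := N.card_mul_index
    rw [hidx, hNk, show Nat.card ↥(L k) = p ^ (n - 1 - k) from card_gamma h k hk1 hkn, hG, ← pow_add] at h3
    have := Nat.pow_right_injective hp.two_le h3
    rw [hNk, show r - 1 = k by omega]
  · set Φ := (⊤ : Subgroup G).lowerCentralSeries 1 with hΦ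
    set π := QuotientGroup.mk' Φ with hπ
    have hcard : Nat.card (G ⧸ Φ) = p ^ 2 := by
      have h3 := Φ.card_eq_card_quotient_mul_card_subgroup
      rw [hΦ, card_gamma h 1 le_rfl (by omega), hG, show p ^ n = p ^ 2 * p ^ (n - 1 - 1) by
        rw [← pow_add]; congr 1; omega] at h3
      exact (Nat.eq_of_mul_eq_mul_right (pow_pos hp.pos _) h3).symm
    have hexp : ∀ v : G ⧸ Φ, v ^ p = 1 := by
      intro v
      obtain ⟨g, rfl⟩ := QuotientGroup.mk'_surjective Φ v
      rw [← map_pow]
      exact (QuotientGroup.eq_one_iff _).2 (pow_mem_gamma_succ h (k := 0) (mem_top g))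
    rw [← card_lines hcard hexp]
    refine Nat.card_congr
      { toFun := fun N => ⟨N.1.map π, ?_⟩
        invFun := fun U => ⟨U.1.comap π, ?_, ?_⟩
        left_inv := fun N => Subtype.ext ?_
        right_inv := fun U => Subtype.ext (map_comap_eq_self_of_surjective (QuotientGroup.mk'_surjective Φ) _) }
    · haveI := N.2.1
      have hle : Φ ≤ N.1 := by
        rw [hΦ, ← frattini_eq h]
        exact frattini_le_coatom (Cfsg.Lib.PGroup.isCoatom_of_index_prime N.2.2)
      have h1 : (N.1.map π).index = p := by
        rw [index_map, hπ, QuotientGroup.ker_mk', sup_eq_left.2 hle,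
          MonoidHom.range_eq_top.2 (QuotientGroup.mk'_surjective Φ), index_top, mul_one]
        exact N.2.2
      have h2 := (N.1.map π).card_mul_index
      rw [h1, hcard, sq] at h2
      exact Nat.eq_of_mul_eq_mul_right hp.pos h2
    · haveI : U.1.Normal := ⟨fun a ha b => by
        rw [Cfsg.Lib.FusionSys.Plane.comm hcard b a, mul_inv_cancel_right]; exact ha⟩
      infer_instance
    · rw [index_comap_of_surjective _ (QuotientGroup.mk'_surjective Φ)]
      have h2 := U.1.card_mul_index
      rw [U.2, hcard, sq] at h2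
      exact Nat.eq_of_mul_eq_mul_left hp.pos h2
    · show (N.1.map π).comap π = N.1
      rw [comap_map_eq, hπ, QuotientGroup.ker_mk', sup_eq_left, hΦ, ← frattini_eq h]
      exact frattini_le_coatom (Cfsg.Lib.PGroup.isCoatom_of_index_prime N.2.2)

end Cfsg.Agent.S0662
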