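import Cfsg.Statements.S0663
import Cfsg.Agent.Lib.PGroup.Basic
import Cfsg.Agent.Lib.PGroup.AbelianIndexP
import Cfsg.Agent.Lib.Coprime.Action
import Cfsg.Agent.Lib.Core.Basic

set_option autoImplicit false
open Cfsg
open scoped commutatorElement

namespace Cfsg.Agent.S0663

open Subgroup

variable {L : Type*} [Group L] [Finite L] {p : ℕ} [hp : Fact p.Prime] {N G : Subgroup L}

theorem chain_normalized (hGN : G ≤ normalizer (N : Set L)) :
    ∀ i, G ≤ normalizer ((Cfsg.iterCommutator N G i : Subgroup L) : Set L)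
  | 0 => hGN
  | _ + 1 => normalizer_commutator_ge_right _ G

omit [Finite L] in
theorem chain_le_succ (hGN : G ≤ normalizer (N : Set L)) :
    ∀ i, Cfsg.iterCommutator N G (i + 1) ≤ Cfsg.iterCommutator N G i
  | 0 => Cfsg.Lib.Coprime.commutator_le_of_le_normalizer hGN
  | _ + 1 => Cfsg.Lib.Coprime.commutator_le_of_le_normalizer (normalizer_commutator_ge_right _ G)

theorem chain_le (hGN : G ≤ normalizer (N : Set L)) {i j : ℕ} (h : i ≤ j) :
    Cfsg.iterCommutator N G j ≤ Cfsg.iterCommutator N G i :=
  antitone_nat_of_succ_le (chain_le_succ hGN) h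

/-- In a chain of maximal length the orders are forced. -/
theorem card_chain (hN : IsPGroup p N) (hG : IsPGroup p G) (hGN : G ≤ normalizer (N : Set L)) {n : ℕ}
    (hn : Nat.card N = p ^ n) (hne : ∀ i < n, Cfsg.iterCommutator N G i ≠ ⊥) :
    ∀ i ≤ n, Nat.card (Cfsg.iterCommutator N G i) = p ^ (n - i) := by
  have hP : ∀ i, IsPGroup p (Cfsg.iterCommutator N G i) := fun i =>
    hN.to_le (chain_le hGN (Nat.zero_le i))
  choose e he using fun i => IsPGroup.iff_card.1 (hP i)
  have he0 : e 0 = n := Nat.pow_right_injective hp.out.two_le ((he 0).symm.trans hn)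
  have hstep : ∀ i < n, e (i + 1) < e i := by
    intro i hi
    have hlt : Cfsg.iterCommutator N G (i + 1) < Cfsg.iterCommutator N G i :=
      Cfsg.Lib.PGroup.commutator_lt_of_isPGroup (hP i) hG (chain_normalized hGN i) (hne i hi)
    by_contra hcon
    push Not at hcon
    exact hlt.ne (eq_of_le_of_card_ge hlt.le (by rw [he, he]; exact Nat.pow_le_pow_right hp.out.pos hcon))
  have hup : ∀ i ≤ n, e i + i ≤ n := by
    intro i
    induction i with
    | zero => intro _; omega
    | succ i ih => intro hi; have := hstep i (by omega); have := ih (by omega); omega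
  have hdown : ∀ k i, i + k = n → k ≤ e i := by
    intro k
    induction k with
    | zero => intro i _; exact Nat.zero_le _
    | succ k ih => intro i hi; have := hstep i (by omega); have := ih (i + 1) (by omega); omega
  intro i hi
  have h1 := hup i hi
  have h2 := hdown (n - i) i (by omega)
  rw [he i, show e i = n - i by omega]

/-- All invariant subgroups occur in the chain, and each term normalizes the later ones. -/
theorem invariant_eq (hN : IsPGroup p N) (hG : IsPGroup p G) (hGN : G ≤ normalizer (N : Set L)) {n : ℕ}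
    (hn : Nat.card N = p ^ n) (hne : ∀ i < n, Cfsg.iterCommutator N G i ≠ ⊥) :
    ∀ d i, i + d = n →
      (∀ H : Subgroup L, H ≤ Cfsg.iterCommutator N G i → G ≤ normalizer (H : Set L) →
        ∃ j, i ≤ j ∧ j ≤ n ∧ H = Cfsg.iterCommutator N G j) ∧
      ∀ j, i ≤ j → j ≤ n → Cfsg.iterCommutator N G i ≤
        normalizer ((Cfsg.iterCommutator N G j : Subgroup L) : Set L) := by
  have hc := card_chain hN hG hGN hn hne
  intro d
  induction d with
  | zero =>
    intro i hi
    have hbot : Cfsg.iterCommutator N G i = ⊥ := card_eq_one.1 (by rw [hc i (by omega), show n - i = 0 by omega, pow_zero])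
    refine ⟨fun H hH _ => ⟨i, le_rfl, by omega, le_antisymm hH (hbot ▸ bot_le)⟩, fun j _ _ => hbot ▸ bot_le⟩
  | succ d ih =>
    intro i hi
    obtain ⟨hall, hnorm⟩ := ih (i + 1) (by omega)
    set A := Cfsg.iterCommutator N G i with hA
    set B := Cfsg.iterCommutator N G (i + 1) with hB
    have hBA : B ≤ A := chain_le_succ hGN i
    have hcA : Nat.card A = p * Nat.card B := by
      rw [hc i (by omega), hc (i + 1) (by omega), ← pow_succ']
      congr 1
      omega
    have hidx : (B.subgroupOf A).index = p := by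
      have h1 := card_mul_index (B.subgroupOf A)
      rw [Nat.card_congr (subgroupOfEquivOfLe hBA).toEquiv, hcA, mul_comm p] at h1
      exact Nat.eq_of_mul_eq_mul_left Nat.card_pos h1
    have hBn : A ≤ normalizer (B : Set L) :=
      (normal_subgroupOf_iff_le_normalizer hBA).1
        (Cfsg.Lib.PGroup.normal_of_index_eq (hN.to_le (chain_le hGN (Nat.zero_le i))) hidx)
    have hnormA : ∀ j, i ≤ j → j ≤ n → A ≤ normalizer ((Cfsg.iterCommutator N G j : Subgroup L) : Set L) := by
      intro j hij hjn a ha
      rcases Nat.eq_or_lt_of_le hij with rfl | hlt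
      · exact le_normalizer ha
      set C := Cfsg.iterCommutator N G j with hC
      have hCB : C ≤ B := chain_le hGN hlt
      -- the conjugate of `C` is again invariant
      have hCle : C.map (MulAut.conj a).toMonoidHom ≤ B := by
        rintro _ ⟨c, hc', rfl⟩
        exact (mem_normalizer_iff.1 (hBn ha) c).1 (hCB hc')
      have hinv : G ≤ normalizer ((C.map (MulAut.conj a).toMonoidHom : Subgroup L) : Set L) := by
        intro g hg
        rw [Cfsg.Lib.Core.mem_normalizer_iff_map_conj, ← Cfsg.Lib.Core.map_conj_mul]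
        have hb : a⁻¹ * g * a * g⁻¹ ∈ B := by
          have h1 := commutator_mem_commutator (H₁ := A) (H₂ := G) (inv_mem ha) hg
          rwa [commutatorElement_def, inv_inv] at h1
        have h2 : C.map (MulAut.conj (a⁻¹ * g * a * g⁻¹ * g)).toMonoidHom = C :=
          Cfsg.Lib.Core.mem_normalizer_iff_map_conj.1
            (mul_mem (hnorm j hlt hjn hb) (chain_normalized hGN j hg))
        calc C.map (MulAut.conj (g * a)).toMonoidHom
            = C.map (MulAut.conj (a * (a⁻¹ * g * a * g⁻¹ * g))).toMonoidHom := by congr 3; group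
          _ = (C.map (MulAut.conj (a⁻¹ * g * a * g⁻¹ * g)).toMonoidHom).map (MulAut.conj a).toMonoidHom :=
            Cfsg.Lib.Core.map_conj_mul C a _
          _ = C.map (MulAut.conj a).toMonoidHom := by rw [h2]
      obtain ⟨k, hk1, hkn, hk⟩ := hall _ hCle hinv
      have hcard := hc k hkn
      rw [← hk, card_map_of_injective (MulAut.conj a).injective, hc j hjn] at hcard
      have hjk : j = k := by
        have := Nat.pow_right_injective hp.out.two_le hcard
        omega
      rw [Cfsg.Lib.Core.mem_normalizer_iff_map_conj]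
      exact hk.trans (by rw [← hjk])
    refine ⟨fun H hH hHG => ?_, hnormA⟩
    by_cases hHB : H ≤ B
    · obtain ⟨j, hj1, hjn, hj⟩ := hall H hHB hHG
      exact ⟨j, by omega, hjn, hj⟩
    obtain ⟨h₀, hh₀, hh₀B⟩ := SetLike.not_le_iff_exists.1 hHB
    have hsup : H ⊔ B = A := by
      refine eq_of_le_of_card_ge (sup_le hH hBA) ?_
      obtain ⟨e, he⟩ := IsPGroup.iff_card.1 (hN.to_le ((sup_le hH hBA).trans (chain_le hGN (Nat.zero_le i))) :
        IsPGroup p ↥(H ⊔ B))
      have hlt : Nat.card B < Nat.card ↥(H ⊔ B) := lt_of_le_of_ne (card_le_of_le le_sup_right) fun heq =>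
        hh₀B ((eq_of_le_of_card_ge le_sup_right heq.ge).ge (mem_sup_left hh₀))
      rw [hc (i + 1) (by omega), he] at hlt
      rw [hc i (by omega), he]
      have := (Nat.pow_lt_pow_iff_right hp.out.one_lt).1 hlt
      exact Nat.pow_le_pow_right hp.out.pos (by omega)
    obtain ⟨j, hj1, hjn, hj⟩ := hall (H ⊓ B) inf_le_right
      ((le_inf hHG (chain_normalized hGN (i + 1))).trans inf_normalizer_le_normalizer_inf)
    rcases Nat.eq_or_lt_of_le hj1 with h | h
    · refine ⟨i, le_rfl, by omega, ?_⟩
      show H = A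
      rw [← hsup, eq_comm, sup_eq_left]
      exact (hj.trans (by rw [← h])).ge.trans inf_le_left
    · exfalso
      have hi2 : i + 2 ≤ n := by omega
      set C := Cfsg.iterCommutator N G (i + 2) with hC
      have hHC : ∀ x ∈ H, ∀ g ∈ G, ⁅x, g⁆ ∈ C := fun x hx g hg => by
        have h1 : ⁅x, g⁆ ∈ H := Cfsg.Lib.Coprime.commutator_le_of_le_normalizer hHG (commutator_mem_commutator hx hg)
        have h2 : ⁅x, g⁆ ∈ B := commutator_mem_commutator (H₁ := A) (hH hx) hg
        exact chain_le hGN (show i + 2 ≤ j by omega) (hj.le ⟨h1, h2⟩)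
      have hBC : B ≤ C := by
        refine commutator_le.2 fun x hx g hg => ?_
        obtain ⟨u, hu, v, hv, rfl⟩ : ∃ u ∈ H, ∃ v ∈ B, u * v = x := by
          obtain ⟨v, hv, u, hu, rfl⟩ := Cfsg.Lib.Coprime.exists_mul_of_mem_sup (N := B) (A := H)
            (hH.trans hBn) (sup_comm H B ▸ hsup.ge hx)
          exact ⟨u, hu, u⁻¹ * v * u, by
            have := (mem_normalizer_iff.1 (hBn (inv_mem (hH hu))) v).1 hv
            simpa using this, by group⟩
        rw [show ⁅u * v, g⁆ = u * ⁅v, g⁆ * u⁻¹ * ⁅u, g⁆ by simp only [commutatorElement_def]; group]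
        exact mul_mem ((mem_normalizer_iff.1 (hnormA (i + 2) (by omega) hi2 (hH hu)) _).1
          (commutator_mem_commutator hv hg)) (hHC u hu g hg)
      have h5 := card_le_of_le hBC
      rw [hc (i + 1) (by omega), hc (i + 2) hi2] at h5
      have := (Nat.pow_le_pow_iff_right hp.out.one_lt).1 h5
      omega

/-- A p-group acts uniserially on a p-group N of order p^n exactly when the iterated commutator chain from N has length n; in that case the chain terms are all the invariant subgroups of N and they are normal in N. -/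
theorem result {L : Type*} [Group L] [Finite L] {p : ℕ} [Fact p.Prime] (N G : Subgroup L) (hN : IsPGroup p N) (hG : IsPGroup p G) (hGN : G ≤ Subgroup.normalizer (N : Set L)) (n : ℕ) (hn : Nat.card N = p ^ n) : ((∀ H : Subgroup L, H ≤ N → G ≤ Subgroup.normalizer (H : Set L) → H ≠ ⊥ → (⁅H, G⁆).relIndex H = p) ↔ Cfsg.iterCommutator N G (n - 1) ≠ ⊥ ∨ n = 0) ∧ ((∀ H : Subgroup L, H ≤ N → G ≤ Subgroup.normalizer (H : Set L) → H ≠ ⊥ → (⁅H, G⁆).relIndex H = p) → ∀ H : Subgroup L, H ≤ N → G ≤ Subgroup.normalizer (H : Set L) → (∃ i ≤ n, H = Cfsg.iterCommutator N G i) ∧ N ≤ Subgroup.normalizer (H : Set L)) := by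
  classical
  have hmono : ∀ i ≤ n - 1, Cfsg.iterCommutator N G (n - 1) ≤ Cfsg.iterCommutator N G i := fun i hi =>
    chain_le hGN hi
  have hfwd : (∀ H : Subgroup L, H ≤ N → G ≤ Subgroup.normalizer (H : Set L) → H ≠ ⊥ → (⁅H, G⁆).relIndex H = p) →
      ∀ i < n, Cfsg.iterCommutator N G i ≠ ⊥ := by
    intro hyp
    have hc : ∀ i, i ≤ n → Nat.card (Cfsg.iterCommutator N G i) = p ^ (n - i) := by
      intro i
      induction i with
      | zero => intro _; exact hn
      | succ i ih =>
        intro hi
        have h1 := ih (by omega)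
        have hne : Cfsg.iterCommutator N G i ≠ ⊥ := fun hb => by
          rw [hb, Subgroup.card_bot] at h1
          exact absurd h1.symm (Nat.one_lt_pow (by omega) (Fact.out : p.Prime).one_lt).ne'
        have h2 := Cfsg.Lib.Core.card_mul_relIndex (chain_le_succ hGN i)
        have h3 : (Cfsg.iterCommutator N G (i + 1)).relIndex (Cfsg.iterCommutator N G i) = p :=
          hyp _ (chain_le hGN (Nat.zero_le i)) (chain_normalized hGN i) hne
        rw [h3, h1, show n - i = n - (i + 1) + 1 by omega, pow_succ] at h2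
        exact Nat.eq_of_mul_eq_mul_right (Fact.out : p.Prime).pos h2
    intro i hi hb
    have h1 := hc i hi.le
    rw [hb, Subgroup.card_bot] at h1
    exact absurd h1.symm (Nat.one_lt_pow (by omega) (Fact.out : p.Prime).one_lt).ne'
  refine ⟨⟨fun hyp => ?_, fun hlong => ?_⟩, fun hyp H hHN hHG => ?_⟩
  · rcases Nat.eq_zero_or_pos n with h | h
    · exact Or.inr h
    · exact Or.inl (hfwd hyp (n - 1) (by omega))
  · intro H hHN hHG hH
    have hne : ∀ i < n, Cfsg.iterCommutator N G i ≠ ⊥ := by
      intro i hi hb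
      rcases hlong with hl | hl
      · exact hl (le_bot_iff.1 (hb ▸ hmono i (by omega)))
      · omega
    have hc := card_chain hN hG hGN hn hne
    obtain ⟨j, -, hjn, rfl⟩ := (invariant_eq hN hG hGN hn hne n 0 (Nat.zero_add n)).1 H hHN hHG
    have hjlt : j < n := lt_of_le_of_ne hjn fun h => hH (Subgroup.card_eq_one.1 (by
      rw [hc j hjn, h, Nat.sub_self, pow_zero]))
    have h2 := Cfsg.Lib.Core.card_mul_relIndex (chain_le_succ hGN j)
    rw [hc j hjn, hc (j + 1) hjlt, show n - j = n - (j + 1) + 1 by omega, pow_succ] at h2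
    exact Nat.eq_of_mul_eq_mul_left (pow_pos (Fact.out : p.Prime).pos _) h2
  · obtain ⟨hall, hnorm⟩ := invariant_eq hN hG hGN hn (hfwd hyp) n 0 (Nat.zero_add n)
    obtain ⟨j, -, hjn, rfl⟩ := hall H hHN hHG
    exact ⟨⟨j, hjn, rfl⟩, hnorm j (Nat.zero_le j) hjn⟩

end Cfsg.Agent.S0663
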