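import Cfsg.Statements.S0666
import Mathlib
import Cfsg.Agent.Lib.Solv.Frobenius

set_option autoImplicit false
open Cfsg

namespace Cfsg.Agent.S0666

open Cfsg in
theorem frob {G : Type*} [Group G] [Finite G] {H : Subgroup G} (hH : IsFrobeniusComplement H) :
    ∃ K : Subgroup G, (K : Set G) = frobeniusKernel H ∧ K.Normal ∧ K.IsComplement' H :=
  Cfsg.Lib.Solv.frobenius_theorem hH

open Cfsg in
theorem eq_one {G : Type*} [Group G] {H : Subgroup G} (hH : IsFrobeniusComplement H) {g x : G} (hg : g ∉ H)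
    (hx : x ∈ H) (hgx : g * x * g⁻¹ ∈ H) : x = 1 :=
  Cfsg.Lib.Solv.frob_eq_one hH hg hx hgx


/-- A Frobenius group acting on a nontrivial abelian group of order prime to that of its kernel, with the kernel acting without nontrivial fixed points, has a complement with a nontrivial fixed point. -/
theorem result {G : Type*} [Group G] [Finite G] (V F : Subgroup G) (hVab : IsMulCommutative V) (hV1 : V ≠ ⊥) (hFV : F ≤ Subgroup.normalizer (V : Set G)) (H : Subgroup ↥F) (hH : Cfsg.IsFrobeniusComplement H) (hcop : (Nat.card V).Coprime (Nat.card (Cfsg.frobeniusKernel H))) (hCK : V ⊓ Subgroup.centralizer (Subtype.val '' Cfsg.frobeniusKernel H : Set G) = ⊥) : V ⊓ Subgroup.centralizer ((H.map F.subtype : Subgroup G) : Set G) ≠ ⊥ := by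
  classical
  have hVF : ∀ f : F, ∀ v ∈ V, (f : G) * v * (f : G)⁻¹ ∈ V := fun f v hv =>
    (Subgroup.mem_normalizer_iff.1 (hFV f.2) v).1 hv
  letI : Fintype F := Fintype.ofFinite F
  letI : CommGroup V :=
    { (inferInstance : Group V) with mul_comm := fun a b => hVab.is_comm.comm a b }
  let φ : F → V →* V := fun f =>
    MonoidHom.mk' (fun v => ⟨(f : G) * v * (f : G)⁻¹, hVF f v v.2⟩) fun v w => by
      apply Subtype.ext
      show (f : G) * (v * w) * (f : G)⁻¹ = (f : G) * v * (f : G)⁻¹ * ((f : G) * w * (f : G)⁻¹)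
      group
  have hφm : ∀ f f' : F, ∀ v, φ (f * f') v = φ f (φ f' v) := fun f f' v => by
    apply Subtype.ext
    show ((f * f' : F) : G) * v * ((f * f' : F) : G)⁻¹ = (f : G) * ((f' : G) * v * (f' : G)⁻¹) * (f : G)⁻¹
    rw [Subgroup.coe_mul]
    group
  obtain ⟨K, hK, hKn, hKc⟩ := Cfsg.Agent.S0666.frob hH
  intro hbot
  have hKfix : ∀ w : V, (∀ k ∈ K, φ k w = w) → w = 1 := by
    intro w hw
    apply Subtype.ext
    rw [Subgroup.coe_one, ← Subgroup.mem_bot, ← hCK]
    refine Subgroup.mem_inf.2 ⟨w.2, Subgroup.mem_centralizer_iff.2 ?_⟩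
    rintro _ ⟨f, hf, rfl⟩
    rw [← hK] at hf
    exact mul_inv_eq_iff_eq_mul.1 (congrArg Subtype.val (hw f hf))
  have hHfix : ∀ w : V, (∀ k ∈ H, φ k w = w) → w = 1 := by
    intro w hw
    apply Subtype.ext
    rw [Subgroup.coe_one, ← Subgroup.mem_bot, ← hbot]
    refine Subgroup.mem_inf.2 ⟨w.2, Subgroup.mem_centralizer_iff.2 ?_⟩
    rintro _ ⟨f, hf, rfl⟩
    exact mul_inv_eq_iff_eq_mul.1 (congrArg Subtype.val (hw f hf))
  have hsub : ∀ (S : Subgroup F) (v : V), ∀ s ∈ S, φ s (∏ x : S, φ x v) = ∏ x : S, φ x v := by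
    intro S v s hs
    rw [map_prod]
    refine Fintype.prod_equiv (Equiv.mulLeft (⟨s, hs⟩ : S)) _ _ fun x => ?_
    rw [Equiv.coe_mulLeft, Subgroup.coe_mul, hφm]
  have htot : ∀ v : V, ∏ x : F, φ x v = 1 := fun v => hKfix _ fun k hk => by
    rw [map_prod]
    refine Fintype.prod_equiv (Equiv.mulLeft k) _ _ fun x => ?_
    rw [Equiv.coe_mulLeft, hφm]
  have hKtot : ∀ v : V, ∏ x : K, φ x v = 1 := fun v => hKfix _ (hsub K v)
  have hHtot : ∀ v : V, ∏ x : H, φ x v = 1 := fun v => hHfix _ (hsub H v)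
  -- the non-identity elements of the conjugates of `H` are the elements outside `K`
  let Φ : K × {h : H // h ≠ 1} → {f : F // f ∉ K} := fun q =>
    ⟨(q.1 : F) * ((q.2.1 : H) : F) * (q.1 : F)⁻¹, fun hmem => q.2.2 (by
      have h1 : ((q.2.1 : H) : F) ∈ K := by
        have := K.mul_mem (K.mul_mem (K.inv_mem q.1.2) hmem) q.1.2
        simpa [mul_assoc] using this
      exact Subtype.ext (Subgroup.mem_bot.1 (hKc.disjoint.le_bot ⟨h1, q.2.1.2⟩)))⟩
  have hΦ : Function.Bijective Φ := by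
    rw [Fintype.bijective_iff_injective_and_card]
    constructor
    · rintro ⟨k, h, hh⟩ ⟨k', h', hh'⟩ heq
      have e1 : (k : F) * (h : F) * (k : F)⁻¹ = (k' : F) * (h' : F) * (k' : F)⁻¹ := congrArg Subtype.val heq
      have e2 : ((k' : F)⁻¹ * (k : F)) * (h : F) * ((k' : F)⁻¹ * (k : F))⁻¹ = (h' : F) := by
        calc ((k' : F)⁻¹ * (k : F)) * (h : F) * ((k' : F)⁻¹ * (k : F))⁻¹ = (k' : F)⁻¹ * ((k : F) * (h : F) * (k : F)⁻¹) * k' := by group
          _ = (h' : F) := by rw [e1]; group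
      have hk : ((k' : F)⁻¹ * (k : F)) ∈ H := by
        by_contra hn
        exact hh (Subtype.ext (Cfsg.Agent.S0666.eq_one hH hn h.2 (e2 ▸ h'.2)))
      have hk1 : ((k' : F)⁻¹ * (k : F)) = 1 := Subgroup.mem_bot.1 (hKc.disjoint.le_bot
        ⟨K.mul_mem (K.inv_mem k'.2) k.2, hk⟩)
      have hkk : k = k' := Subtype.ext (inv_mul_eq_one.1 hk1).symm
      subst hkk
      have : h = h' := Subtype.ext (mul_left_cancel (mul_right_cancel e1))
      subst this
      rfl
    · rw [Fintype.card_prod, Fintype.card_subtype_compl, Fintype.card_subtype_compl, Fintype.card_subtype_eq,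
        Nat.mul_sub, mul_one]
      have hm := hKc.card_mul
      simp only [Nat.card_eq_fintype_card] at hm
      rw [hm]
  have hmain : ∀ v : V, v ^ Nat.card K = 1 := by
    intro v
    have h1 : (∏ f : {f : F // f ∉ K}, φ f v) = 1 := by
      have := Fintype.prod_subtype_mul_prod_subtype (fun f : F => f ∈ K) (fun f => φ f v)
      rw [htot v] at this
      rw [show (∏ i : {x // x ∈ K}, φ i v) = 1 from hKtot v, one_mul] at this
      exact this
    have hrow : ∀ k : K, ∏ h : H, φ ((k : F) * h * (k : F)⁻¹) v = 1 := fun k => by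
      simp only [hφm]
      rw [← map_prod, hHtot, map_one]
    have h2 : ∏ q : K × {h : H // h ≠ 1}, φ ((q.1 : F) * (q.2.1 : F) * (q.1 : F)⁻¹) v = 1 := by
      rw [Fintype.prod_equiv (Equiv.ofBijective Φ hΦ) (fun q => φ (Φ q : F) v) (fun f => φ (f : F) v) fun q => rfl]
      exact h1
    have h3 : ∏ k : K, ∏ h : H, φ ((k : F) * h * (k : F)⁻¹) v = v ^ Nat.card K := by
      have hsplit : ∀ k : K, ∏ h : H, φ ((k : F) * h * (k : F)⁻¹) v =
          v * ∏ h : {h : H // h ≠ 1}, φ ((k : F) * (h.1 : F) * (k : F)⁻¹) v := fun k => by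
        rw [← Finset.mul_prod_erase Finset.univ _ (Finset.mem_univ (1 : H))]
        congr 1
        · rw [Subgroup.coe_one, mul_one, mul_inv_cancel]
          apply Subtype.ext
          show ((1 : F) : G) * v * ((1 : F) : G)⁻¹ = v
          simp
        · exact Finset.prod_subtype (p := fun h : H => h ≠ 1) _ (fun x => by simp) _
      simp only [hsplit, Finset.prod_mul_distrib, Finset.prod_const, Finset.card_univ]
      rw [← Fintype.prod_prod_type', h2, mul_one, Nat.card_eq_fintype_card]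
    rw [← h3]
    exact Finset.prod_eq_one fun k _ => hrow k
  apply hV1
  rw [Subgroup.eq_bot_iff_forall]
  intro v hv
  have hc : Nat.card K = Nat.card (frobeniusKernel H) := by rw [← hK]; rfl
  have h1 := hmain ⟨v, hv⟩
  have h2 : (powCoprime (hc.symm ▸ hcop : (Nat.card V).Coprime (Nat.card K))) ⟨v, hv⟩ = 1 := h1
  have h3 := (powCoprime (hc.symm ▸ hcop : (Nat.card V).Coprime (Nat.card K))).injective
    (h2.trans (powCoprime_one _).symm)
  exact congrArg Subtype.val h3

end Cfsg.Agent.S0666
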