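import Cfsg.Statements.S0667
import Cfsg.Agent.Lib.Local.StableQuotient

set_option autoImplicit false
open Cfsg

namespace Cfsg.Agent.S0667

open Subgroup

/-- Glauberman's Theorem in the p-constrained, p-stable vocabulary: for odd p such a group is the product of its largest normal subgroup of order prime to p with the normalizer of Z(J(P)), and Z(J(P)) is normal when that p'-subgroup is trivial. -/
theorem result {G : Type*} [Group G] [Finite G] {p : ℕ} [Fact p.Prime] (hp : p ≠ 2) (hc : Cfsg.IsPConstrained p G) (hs : Cfsg.IsPStable p G) (P : Sylow p G) : Cfsg.pPrimeCore p G ⊔ Subgroup.normalizer (Cfsg.centerThompsonAOf ((P : Subgroup G)) : Set G) = ⊤ ∧ (Cfsg.pPrimeCore p G = ⊥ → (Cfsg.centerThompsonAOf ((P : Subgroup G))).Normal) := by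
  set N := Cfsg.pPrimeCore p G with hN
  set f := QuotientGroup.mk' N with hf
  have hfs : Function.Surjective f := QuotientGroup.mk'_surjective N
  have hker : f.ker = N := QuotientGroup.ker_mk' N
  have hcop : (Nat.card N).Coprime p := Cfsg.Lib.Core.pPrimeCore_coprime p G
  set Z := Cfsg.centerThompsonAOf (P : Subgroup G) with hZ
  have hZP : Z ≤ (P : Subgroup G) := inf_le_left.trans (map_subtype_le _)
  have hinj : Set.InjOn f (P : Subgroup G) := fun x hx y hy h => by
    have h1 : x * y⁻¹ ∈ (P : Subgroup G) ⊓ N := mem_inf.2 ⟨Subgroup.mul_mem _ hx (Subgroup.inv_mem _ hy), by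
      rw [← QuotientGroup.eq_one_iff, QuotientGroup.mk_mul, QuotientGroup.mk_inv]
      exact mul_inv_eq_one.2 h⟩
    rw [Cfsg.Lib.Sig.disjoint_of_isPGroup_coprime P.2 hcop, mem_bot, mul_inv_eq_one] at h1
    exact h1
  have hn : (Z.map f).Normal := by
    rw [hZ, Cfsg.Lib.Local.GlaubermanZJ.map_centerThompsonAOf' f _ hinj]
    exact Cfsg.Lib.Local.StableQuotient.centerThompsonA_normal_quotient hp hc hs (P.mapSurjective hfs)
  have hfirst : N ⊔ normalizer (Z : Set G) = ⊤ := by
    refine eq_top_iff.2 fun g _ => ?_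
    obtain ⟨x, hx, hxg⟩ := Cfsg.Lib.Local.GlaubermanZJ.exists_normalizer_lift f hfs
      (by rw [hker]; exact hcop) (P.2.to_le hZP) (f g)
      (by rw [normalizer_eq_top_iff.2 hn]; trivial)
    have h1 : g * x⁻¹ ∈ N := by
      rw [← hker, MonoidHom.mem_ker, map_mul, map_inv, hxg, mul_inv_cancel]
    rw [show g = g * x⁻¹ * x by group]
    exact mul_mem_sup h1 hx
  refine ⟨hfirst, fun h0 => ?_⟩
  have h0' : N = ⊥ := h0
  rw [h0', bot_sup_eq] at hfirst
  exact normalizer_eq_top_iff.1 hfirst

end Cfsg.Agent.S0667
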