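import Cfsg.Statements.S0668
import Mathlib

set_option autoImplicit false
open Cfsg

namespace Cfsg.Agent.S0668

/-- The equivariant linear maps between the permutation modules of two finite `G`-sets form a space whose dimension is the number of `G`-orbits on the product of the two sets. -/
theorem result {G : Type*} [Group G] {K : Type*} [Field K] {Ω₁ Ω₂ : Type*} [Fintype Ω₁] [Fintype Ω₂] [MulAction G Ω₁] [MulAction G Ω₂] : Module.finrank K ((Cfsg.permRep K G Ω₁).linHom (Cfsg.permRep K G Ω₂)).invariants = Nat.card (MulAction.orbitRel.Quotient G (Ω₁ × Ω₂)) := by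
  classical
  set ρ := (Cfsg.permRep K G Ω₁).linHom (Cfsg.permRep K G Ω₂) with hρ
  let Q := MulAction.orbitRel.Quotient G (Ω₁ × Ω₂)
  let toM : (Ω₁ × Ω₂ → K) →ₗ[K] ((Ω₁ → K) →ₗ[K] (Ω₂ → K)) :=
    { toFun := fun M =>
        { toFun := fun v y => ∑ x, M (x, y) * v x
          map_add' := fun v w => by ext y; simp [mul_add, Finset.sum_add_distrib]
          map_smul' := fun c v => by ext y; simp [Finset.mul_sum, mul_left_comm] }
      map_add' := fun M M' => by ext v y; simp [add_mul, Finset.sum_add_distrib]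
      map_smul' := fun c M => by ext v y; simp [Finset.mul_sum, mul_assoc] }
  let entry : ((Ω₁ → K) →ₗ[K] (Ω₂ → K)) → Ω₁ × Ω₂ → K := fun T q => T (Pi.single q.1 1) q.2
  have expand : ∀ T : (Ω₁ → K) →ₗ[K] (Ω₂ → K), toM (entry T) = T := by
    intro T
    apply LinearMap.ext
    intro v
    funext y
    have hv : v = ∑ x, v x • (Pi.single x (1 : K) : Ω₁ → K) := by
      funext z
      simp [Finset.sum_apply, Pi.single_apply, mul_ite]
    conv_rhs => rw [hv]
    show ∑ x, entry T (x, y) * v x = _
    rw [map_sum, Finset.sum_apply]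
    refine Finset.sum_congr rfl fun x _ => ?_
    rw [map_smul, Pi.smul_apply, smul_eq_mul, mul_comm]
  have hsingle : ∀ (g : G) (x : Ω₁), Cfsg.permRep K G Ω₁ g (Pi.single x 1) = Pi.single (g • x) 1 := by
    intro g x
    funext z
    show (Pi.single x (1 : K) : Ω₁ → K) (g⁻¹ • z) = _
    simp [Pi.single_apply, inv_smul_eq_iff]
  have hinv : ∀ T ∈ ρ.invariants, ∀ (g : G) (q : Ω₁ × Ω₂), entry T (g • q) = entry T q := by
    intro T hT g q
    have h := congrArg (fun S : (Ω₁ → K) →ₗ[K] (Ω₂ → K) => S (Pi.single (g • q.1) 1) (g • q.2)) (hT g)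
    simp only [hρ, Representation.linHom_apply, LinearMap.comp_apply] at h
    rw [hsingle, inv_smul_smul] at h
    show T (Pi.single (g • q.1) 1) (g • q.2) = T (Pi.single q.1 1) q.2
    rw [← h]
    show T (Pi.single q.1 1) (g⁻¹ • g • q.2) = _
    rw [inv_smul_smul]
  have hinv' : ∀ f : Q → K, toM (fun q => f (Quotient.mk _ q)) ∈ ρ.invariants := by
    intro f g
    rw [hρ, Representation.linHom_apply]
    apply LinearMap.ext
    intro v
    funext y
    show ∑ x, f (Quotient.mk _ (x, g⁻¹ • y)) * v ((g⁻¹)⁻¹ • x) = ∑ x, f (Quotient.mk _ (x, y)) * v x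
    refine Fintype.sum_equiv (MulAction.toPerm g) _ _ fun x => ?_
    rw [inv_inv]
    show f _ * v (g • x) = f (Quotient.mk _ (g • x, y)) * v (g • x)
    congr 2
    exact Quotient.sound ⟨g⁻¹, Prod.ext (inv_smul_smul g x) rfl⟩
  let e : ρ.invariants ≃ₗ[K] (Q → K) :=
    { toFun := fun T => Quotient.lift (entry T.1) (by
        rintro a b ⟨g, rfl⟩
        exact hinv T.1 T.2 g b)
      map_add' := fun T T' => by ext ⟨q⟩; rfl
      map_smul' := fun c T => by ext ⟨q⟩; rfl
      invFun := fun f => ⟨toM (fun q => f (Quotient.mk _ q)), hinv' f⟩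
      left_inv := fun T => Subtype.ext (expand T.1)
      right_inv := fun f => by
        funext q
        induction q using Quotient.inductionOn with
        | _ q =>
          show ∑ x, f (Quotient.mk _ (x, q.2)) * (Pi.single q.1 (1 : K) : Ω₁ → K) x = _
          simp [Pi.single_apply] }
  haveI : Fintype Q := Quotient.fintype _
  rw [LinearEquiv.finrank_eq e, Module.finrank_pi, Nat.card_eq_fintype_card]

end Cfsg.Agent.S0668
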