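import Cfsg.Statements.S0670
import Mathlib

set_option autoImplicit false
open Cfsg

namespace Cfsg.Agent.S0670

/-- In characteristic `p`, the permutation module of a transitive action of degree `p ^ f` has the line of constant functions as its only irreducible submodule: every non-zero subrepresentation contains it. -/
theorem result {G : Type*} [Group G] [Finite G] {K : Type*} [Field K] {p f : ℕ} [Fact p.Prime] [CharP K p] {Ω : Type*} [Fintype Ω] [MulAction G Ω] [MulAction.IsPretransitive G Ω] (hf : 1 ≤ f) (hcard : Fintype.card Ω = p ^ f) (W : Subrepresentation (Cfsg.permRep K G Ω)) (hW : W.toSubmodule ≠ ⊥) : (Cfsg.permConstants K G Ω).toSubmodule ≤ W.toSubmodule := by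
  classical
  haveI : Finite G := inferInstance
  obtain ⟨P⟩ := (inferInstance : Nonempty (Sylow p G))
  haveI : Nonempty Ω := Fintype.card_pos_iff.1 (by rw [hcard]; exact pow_pos (Fact.out (p := p.Prime)).pos f)
  have hPt : ∀ x y : Ω, ∃ g ∈ (P : Subgroup G), g • x = y := by
    intro x y
    have hidx : (MulAction.stabilizer G x).index = p ^ f := by
      rw [MulAction.index_stabilizer_of_transitive, Nat.card_eq_fintype_card, hcard]
    obtain ⟨e, he⟩ := IsPGroup.iff_card.1 P.2
    obtain ⟨d, hd⟩ := IsPGroup.iff_card.1 (P.2.to_subgroup (MulAction.stabilizer (P : Subgroup G) x))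
    have h1 : Nat.card (MulAction.stabilizer (P : Subgroup G) x) ∣ Nat.card (MulAction.stabilizer G x) := by
      let φ : MulAction.stabilizer (P : Subgroup G) x →* MulAction.stabilizer G x :=
        { toFun := fun g => ⟨g.1.1, g.2⟩, map_one' := rfl, map_mul' := fun _ _ => rfl }
      exact Subgroup.card_dvd_of_injective φ (fun a b h => Subtype.ext (Subtype.ext (congrArg (fun u : MulAction.stabilizer G x => (u : G)) h)))
    have hG : p ^ (d + f) ∣ Nat.card G := by
      rw [← Subgroup.card_mul_index (MulAction.stabilizer G x), hidx, pow_add, ← hd]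
      exact mul_dvd_mul_right h1 _
    have hde : d + f ≤ e := by
      have h2 : p ^ (d + f) ∣ Nat.card (P : Subgroup G) := P.pow_dvd_card_of_pow_dvd_card hG
      rw [he, Nat.pow_dvd_pow_iff_le_right (Fact.out (p := p.Prime)).one_lt] at h2
      exact h2
    have hsurj : MulAction.orbit (P : Subgroup G) x = Set.univ := by
      apply Set.eq_of_subset_of_ncard_le (Set.subset_univ _) _ (Set.toFinite _)
      rw [Set.ncard_univ, Nat.card_eq_fintype_card, hcard, ← MulAction.index_stabilizer]
      have hm := Subgroup.card_mul_index (MulAction.stabilizer (P : Subgroup G) x)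
      rw [hd, he] at hm
      by_contra hlt
      rw [not_le] at hlt
      have h3 : p ^ d * (MulAction.stabilizer (P : Subgroup G) x).index < p ^ d * p ^ f :=
        Nat.mul_lt_mul_of_pos_left hlt (pow_pos (Fact.out (p := p.Prime)).pos d)
      rw [hm, ← pow_add] at h3
      exact absurd (Nat.pow_le_pow_right (Fact.out (p := p.Prime)).pos hde) (not_le.2 h3)
    obtain ⟨g, hg⟩ := (hsurj ▸ Set.mem_univ y : y ∈ MulAction.orbit (P : Subgroup G) x)
    exact ⟨g, g.2, hg⟩
  obtain ⟨w, hw, hw0⟩ := W.toSubmodule.ne_bot_iff.1 hW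
  letI : Fintype (P : Subgroup G) := Fintype.ofFinite _
  let ρ := Cfsg.permRep K G Ω
  let φ : (↥(P : Subgroup G) → ZMod p) →+ (Ω → K) :=
    { toFun := fun c => ∑ g : (P : Subgroup G), (ZMod.castHom (dvd_refl p) K (c g)) • ρ (g : G) w
      map_zero' := by simp
      map_add' := fun c d => by simp only [Pi.add_apply, map_add, add_smul, Finset.sum_add_distrib] }
  let T := φ.range
  haveI : Finite T := Finite.of_surjective _ φ.rangeRestrict_surjective
  have hTW : ∀ v ∈ T, v ∈ W.toSubmodule := by
    rintro v ⟨c, rfl⟩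
    exact Submodule.sum_mem _ fun g _ => Submodule.smul_mem _ _ (W.apply_mem_toSubmodule _ hw)
  have hTinv : ∀ h : (P : Subgroup G), ∀ v ∈ T, ρ (h : G) v ∈ T := by
    rintro h v ⟨c, rfl⟩
    refine ⟨fun g => c (h⁻¹ * g), ?_⟩
    show ∑ g : (P : Subgroup G), _ = ρ (h : G) (∑ g : (P : Subgroup G), _)
    rw [map_sum]
    refine Fintype.sum_equiv (Equiv.mulLeft h⁻¹) _ _ fun g => ?_
    simp only [map_smul, Equiv.coe_mulLeft]
    rw [← LinearMap.comp_apply, ← Module.End.mul_eq_comp, ← map_mul, ← Subgroup.coe_mul, mul_inv_cancel_left]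
  have hwT : w ∈ T := by
    refine ⟨Pi.single 1 1, ?_⟩
    show ∑ g : (P : Subgroup G), _ = w
    rw [Finset.sum_eq_single 1]
    · simp
    · intro g _ hg; simp [Pi.single_eq_of_ne hg]
    · simp
  letI : MulAction (P : Subgroup G) T :=
    { smul := fun h v => ⟨ρ (h : G) v.1, hTinv h v.1 v.2⟩
      one_smul := fun v => Subtype.ext (by show ρ ((1 : (P : Subgroup G)) : G) v.1 = v.1; simp)
      mul_smul := fun g h v => Subtype.ext (by show ρ ((g * h : (P : Subgroup G)) : G) v.1 = ρ (g : G) (ρ (h : G) v.1); simp) }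
  have hpT : p ∣ Nat.card T := by
    have h1 : addOrderOf (⟨w, hwT⟩ : T) = p := by
      refine addOrderOf_eq_prime ?_ (fun h => hw0 (congrArg Subtype.val h))
      apply Subtype.ext
      ext z
      simp [CharP.cast_eq_zero]
    exact h1 ▸ addOrderOf_dvd_natCard _
  have hfix : (0 : T) ∈ MulAction.fixedPoints (P : Subgroup G) T := fun h => Subtype.ext (by show ρ (h : G) (0 : Ω → K) = 0; simp)
  obtain ⟨v, hv, hv0⟩ := P.2.exists_fixed_point_of_prime_dvd_card_of_fixed_point (α := T) hpT hfix
  obtain ⟨x₀⟩ := (inferInstance : Nonempty Ω)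
  have hconst : ∀ y, (v : Ω → K) y = (v : Ω → K) x₀ := by
    intro y
    obtain ⟨g, hg, rfl⟩ := hPt x₀ y
    have := congrArg (fun u : T => (u : Ω → K) (g • x₀)) (hv ⟨g, hg⟩)
    change (ρ g v.1) (g • x₀) = v.1 (g • x₀) at this
    rw [← this]
    show v.1 (g⁻¹ • g • x₀) = _
    rw [inv_smul_smul]
  have hc : (v : Ω → K) x₀ ≠ 0 := fun h => hv0 (Subtype.ext (funext fun y => by rw [hconst y, h]; rfl)).symm
  show Submodule.span K {fun _ => (1 : K)} ≤ W.toSubmodule
  rw [Submodule.span_singleton_le_iff_mem]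
  have := W.toSubmodule.smul_mem ((v : Ω → K) x₀)⁻¹ (hTW _ v.2)
  convert this using 1
  funext y
  simp [hconst y, hc]

end Cfsg.Agent.S0670
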