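import Cfsg.Statements.S0671
import Mathlib
import Cfsg.Agent.S0670

set_option autoImplicit false
open Cfsg

namespace Cfsg.Agent.S0671

/-- If the heart of the permutation module in characteristic `p` of a transitive action of degree `p ^ f` has no trivial composition factor, the action is doubly transitive. The hypothesis is phrased without composition series: no invariant subspaces `W < W'` between the constants and the sum-zero functions with trivial action on the quotient. -/
theorem result {G : Type*} [Group G] [Finite G] {K : Type*} [Field K] {p f : ℕ} [Fact p.Prime] [CharP K p] {Ω : Type*} [Fintype Ω] [MulAction G Ω] [MulAction.IsPretransitive G Ω] (hf : 1 ≤ f) (hcard : Fintype.card Ω = p ^ f) (h : ∀ W W' : Subrepresentation (Cfsg.permRep K G Ω), (Cfsg.permConstants K G Ω).toSubmodule ≤ W.toSubmodule → W.toSubmodule < W'.toSubmodule → W'.toSubmodule ≤ (Cfsg.permSumZero K G Ω).toSubmodule → ∃ g : G, ∃ v ∈ W'.toSubmodule, Cfsg.permRep K G Ω g v - v ∉ W.toSubmodule) : MulAction.IsMultiplyPretransitive G Ω 2 := by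
  classical
  have hp : p.Prime := Fact.out
  rw [MulAction.is_two_pretransitive_iff]
  intro a b c d hab hcd
  suffices key : ∀ a b c : Ω, a ≠ b → a ≠ c → ∃ g : G, g • a = a ∧ g • b = c by
    obtain ⟨g, hg⟩ := MulAction.exists_smul_eq G a c
    have hne : c ≠ g • b := by rw [← hg]; simpa using hab
    obtain ⟨k, h1, h2⟩ := key c (g • b) d hne hcd
    exact ⟨k * g, by rw [mul_smul, hg, h1], by rw [mul_smul, h2]⟩
  clear a b c d hab hcd
  intro a b c hab hac
  by_contra hcon
  push Not at hcon
  let R : Ω → Ω → Prop := fun x y => ∃ g : G, g • a = x ∧ g • b = y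
  have hR : ∀ (g : G) x y, R (g • x) (g • y) ↔ R x y := by
    intro g x y
    constructor
    · rintro ⟨k, h1, h2⟩
      exact ⟨g⁻¹ * k, by rw [mul_smul, h1, inv_smul_smul], by rw [mul_smul, h2, inv_smul_smul]⟩
    · rintro ⟨k, h1, h2⟩
      exact ⟨g * k, by rw [mul_smul, h1], by rw [mul_smul, h2]⟩
  set k : ℕ := (Finset.univ.filter fun y => R a y).card with hk
  have hrow : ∀ x, (Finset.univ.filter fun y => R x y).card = k := by
    intro x
    obtain ⟨g, rfl⟩ := MulAction.exists_smul_eq G a x
    exact (Finset.card_equiv (MulAction.toPerm g) (fun y => by simp [hR])).symm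
  have hcol : ∀ y, (Finset.univ.filter fun x => R x y).card = k := by
    intro y
    have hconst : ∀ z, (Finset.univ.filter fun x => R x z).card = (Finset.univ.filter fun x => R x y).card := by
      intro z
      obtain ⟨g, rfl⟩ := MulAction.exists_smul_eq G y z
      exact (Finset.card_equiv (MulAction.toPerm g) (fun x => by simp [hR])).symm
    have h1 : ∑ x : Ω, (Finset.univ.filter fun z => R x z).card =
        ∑ z : Ω, (Finset.univ.filter fun x => R x z).card := by
      simp only [Finset.card_filter]
      exact Finset.sum_comm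
    simp only [hrow, hconst, Finset.sum_const, Finset.card_univ, smul_eq_mul, hcard] at h1
    exact (Nat.eq_of_mul_eq_mul_left (pow_pos hp.pos f) h1).symm
  let B : (Ω → K) →ₗ[K] (Ω → K) :=
    { toFun := fun v x => (∑ y, if R x y then v y else 0) - (k : K) * v x
      map_add' := fun u v => by
        funext x; simp only [Pi.add_apply, ite_add_zero, Finset.sum_add_distrib]; ring
      map_smul' := fun t v => by
        funext x
        simp only [Pi.smul_apply, smul_eq_mul, RingHom.id_apply, mul_sub, Finset.mul_sum, mul_ite, mul_zero]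
        ring }
  have hB : ∀ v x, B v x = (∑ y, if R x y then v y else 0) - (k : K) * v x := fun v x => rfl
  have hBeq : ∀ (g : G) v, B (Cfsg.permRep K G Ω g v) = Cfsg.permRep K G Ω g (B v) := by
    intro g v
    funext x
    show (∑ y, if R x y then v (g⁻¹ • y) else 0) - (k : K) * v (g⁻¹ • x) =
      (∑ y, if R (g⁻¹ • x) y then v y else 0) - (k : K) * v (g⁻¹ • x)
    congr 1
    refine Fintype.sum_equiv (MulAction.toPerm g⁻¹) _ _ fun y => ?_
    rw [MulAction.toPerm_apply]
    simp only [hR]
  set S0 := (Cfsg.permSumZero K G Ω).toSubmodule with hS0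
  have hBS : ∀ v, B v ∈ S0 := by
    intro v
    show ∑ x, B v x = 0
    simp only [hB, Finset.sum_sub_distrib]
    rw [Finset.sum_comm, sub_eq_zero, ← Finset.mul_sum, Finset.mul_sum]
    refine Finset.sum_congr rfl fun y _ => ?_
    rw [Finset.sum_ite, Finset.sum_const_zero, add_zero, Finset.sum_const, nsmul_eq_mul, hcol]
  let W : Subrepresentation (Cfsg.permRep K G Ω) :=
    { toSubmodule := S0.map B
      apply_mem_toSubmodule := by
        intro g v hv
        obtain ⟨u, hu, rfl⟩ := Submodule.mem_map.mp hv
        exact Submodule.mem_map.mpr ⟨Cfsg.permRep K G Ω g u,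
          (Cfsg.permSumZero K G Ω).apply_mem_toSubmodule g hu, hBeq g u⟩ }
  let W' : Subrepresentation (Cfsg.permRep K G Ω) :=
    { toSubmodule := LinearMap.range B
      apply_mem_toSubmodule := by
        intro g v hv
        obtain ⟨u, rfl⟩ := LinearMap.mem_range.mp hv
        exact LinearMap.mem_range.mpr ⟨Cfsg.permRep K G Ω g u, hBeq g u⟩ }
  have htriv : ∀ (g : G) v, Cfsg.permRep K G Ω g (B v) - B v ∈ W.toSubmodule := by
    intro g v
    refine Submodule.mem_map.mpr ⟨Cfsg.permRep K G Ω g v - v, ?_, by rw [map_sub, hBeq]⟩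
    show ∑ x, (v (g⁻¹ • x) - v x) = 0
    rw [Finset.sum_sub_distrib, sub_eq_zero]
    exact Fintype.sum_equiv (MulAction.toPerm g⁻¹) _ _ fun x => rfl
  have hne : B (Pi.single b 1) ≠ B (Pi.single c 1) := by
    intro he
    have h1 := congrFun he a
    have hRab : R a b := ⟨1, one_smul _ _, one_smul _ _⟩
    have hRac : ¬ R a c := fun ⟨g, h1, h2⟩ => hcon g h1 h2
    simp only [hB, Pi.single_apply, if_neg hab, if_neg hac, mul_zero, sub_zero] at h1
    rw [Finset.sum_eq_single b (fun x _ hx => by simp [hx]) (by simp),
      Finset.sum_eq_single c (fun x _ hx => by simp [hx]) (by simp)] at h1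
    simp [hRab, hRac] at h1
  have hWne : W.toSubmodule ≠ ⊥ := by
    intro h0
    apply hne
    have hmem : (Pi.single b 1 - Pi.single c 1 : Ω → K) ∈ S0 := by
      show ∑ x, (Pi.single b 1 - Pi.single c 1 : Ω → K) x = 0
      simp [Finset.sum_sub_distrib]
    have : B (Pi.single b 1 - Pi.single c 1) ∈ W.toSubmodule := Submodule.mem_map.mpr ⟨_, hmem, rfl⟩
    rw [h0, Submodule.mem_bot, map_sub] at this
    exact sub_eq_zero.mp this
  have hC : (Cfsg.permConstants K G Ω).toSubmodule ≤ W.toSubmodule :=
    Cfsg.Agent.S0670.result hf hcard W hWne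
  have hlt : W.toSubmodule < W'.toSubmodule := by
    refine lt_of_le_of_ne (Submodule.map_le_iff_le_comap.mpr fun v _ => LinearMap.mem_range_self B v) ?_
    intro he
    have ha : B (Pi.single a 1) ∈ W.toSubmodule := by rw [he]; exact LinearMap.mem_range_self B _
    obtain ⟨s, hs, hsa⟩ := Submodule.mem_map.mp ha
    set u : Ω → K := Pi.single a 1 - s with hu
    have huB : u ∈ LinearMap.ker B := by rw [LinearMap.mem_ker, hu, map_sub, hsa, sub_self]
    have husum : ∑ x, u x = 1 := by
      have hs0 : ∑ x, s x = 0 := hs
      simp [hu, Finset.sum_sub_distrib, hs0]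
    have hker : LinearMap.ker B = ⊤ := by
      by_contra hK
      obtain ⟨φ, hφ, hφK⟩ := Submodule.exists_dual_map_eq_bot_of_lt_top (lt_top_iff_ne_top.mpr hK) inferInstance
      let D : Subrepresentation (Cfsg.permRep K G Ω) :=
        { toSubmodule :=
            { carrier := {w | ∀ v ∈ LinearMap.ker B, ∑ x, w x * v x = 0}
              add_mem' := fun {u w} hu hw v hv => by
                simp only [Pi.add_apply, add_mul, Finset.sum_add_distrib, hu v hv, hw v hv, add_zero]
              zero_mem' := fun v _ => by simp
              smul_mem' := fun t w hw v hv => by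
                simp only [Pi.smul_apply, smul_eq_mul, mul_assoc, ← Finset.mul_sum, hw v hv, mul_zero] }
          apply_mem_toSubmodule := by
            intro g w hw v hv
            have hv' : Cfsg.permRep K G Ω g⁻¹ v ∈ LinearMap.ker B := by
              rw [LinearMap.mem_ker] at hv ⊢
              rw [hBeq, hv, map_zero]
            rw [← hw _ hv']
            refine Fintype.sum_equiv (MulAction.toPerm g⁻¹) _ _ fun x => ?_
            show w (g⁻¹ • x) * v x = w (g⁻¹ • x) * v (g⁻¹⁻¹ • g⁻¹ • x)
            rw [inv_inv, smul_inv_smul] }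
      have hD : (fun x => φ (Pi.single x 1)) ∈ D.toSubmodule := by
        intro v hv
        have : φ v = 0 := by
          have := Submodule.mem_map_of_mem (f := φ) hv
          rwa [hφK, Submodule.mem_bot] at this
        rw [← this]
        conv_rhs => rw [pi_eq_sum_univ' v]
        simp [map_sum, mul_comm]
      have hD0 : D.toSubmodule ≠ ⊥ := by
        intro h0
        rw [h0, Submodule.mem_bot] at hD
        apply hφ
        refine LinearMap.pi_ext' fun x => LinearMap.ext_ring ?_
        simpa using congrFun hD x
      have h1 := Cfsg.Agent.S0670.result hf hcard D hD0 (Submodule.mem_span_singleton_self _) u huB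
      simp [husum] at h1
    exact hne (by
      rw [show B = 0 from LinearMap.ker_eq_top.mp hker]
      rfl)
  obtain ⟨g, v, hv, hgv⟩ := h W W' hC hlt (fun v hv => by
    obtain ⟨w, rfl⟩ := LinearMap.mem_range.mp hv; exact hBS w)
  obtain ⟨w, rfl⟩ := LinearMap.mem_range.mp hv
  exact hgv (htriv g w)

end Cfsg.Agent.S0671
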