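import Cfsg.Statements.S0677
import Cfsg.Agent.S0676
import Cfsg.Agent.Lib.Perm.PrimeDegreeIndex

set_option autoImplicit false
open Cfsg

namespace Cfsg.Agent.S0677

/-- In a transitive permutation group of prime degree `p` whose Sylow `p`-normaliser has even order, the point stabilisers are the only subgroups of index `p`. -/
theorem result {α : Type*} [Fintype α] [DecidableEq α] {p : ℕ} [Fact p.Prime] (hα : Fintype.card α = p) (G : Subgroup (Equiv.Perm α)) [MulAction.IsPretransitive G α] (P : Sylow p G) (heven : Even (Nat.card (Subgroup.normalizer ((P : Subgroup G) : Set G)))) (H : Subgroup G) (hH : H.index = p) : ∃ a : α, H = MulAction.stabilizer G a := by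
  classical
  have hp : p.Prime := Fact.out
  -- it suffices that `H` fix a point
  suffices hfix : ∃ a : α, ∀ h ∈ H, h • a = a by
    obtain ⟨a, ha⟩ := hfix
    refine ⟨a, Subgroup.eq_of_le_of_card_ge (fun h hh => MulAction.mem_stabilizer_iff.mpr (ha h hh)) (le_of_eq ?_)⟩
    have h1 := Subgroup.card_mul_index H
    rw [hH, ← Subgroup.card_mul_index (MulAction.stabilizer G a),
      MulAction.index_stabilizer_of_transitive G a, Nat.card_eq_fintype_card (α := α), hα] at h1
    exact (Nat.eq_of_mul_eq_mul_right hp.pos h1).symm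
  by_cases hsolv : Group.IsSolvable G
  · -- the affine case
    have haff : ∃ e : ZMod p ≃ α, ∀ g ∈ G, ∀ i : ZMod p,
        e.symm (g (e i)) = (e.symm (g (e 1)) - e.symm (g (e 0))) * i + e.symm (g (e 0)) :=
      Cfsg.Agent.PrimeDegree.affine_of_isSolvable hα G hsolv
    obtain ⟨e, he⟩ := haff
    exact Cfsg.Agent.PrimeDegree.fixed_point_of_not_dvd G e he H
      (Cfsg.Agent.PrimeDegree.not_dvd_card_of_index hα G H hH)
  · exact Cfsg.Agent.PrimeDegree.fixed_point_of_three_transitive hα G
      (Cfsg.Agent.S0676.result hα G hsolv P heven) H hH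

end Cfsg.Agent.S0677
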