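import Cfsg.Statements.S0678
import Mathlib
import Cfsg.Agent.Lib.Small.SimpleOrder

set_option autoImplicit false
open Cfsg

namespace Cfsg.Agent.S0678

section

variable {α : Type*} [Fintype α] [DecidableEq α]

theorem card_centralizer_of_prime (hα : Fintype.card α = 7) {y : Equiv.Perm α}
    (hy : orderOf y = 5 ∨ orderOf y = 7) :
    Nat.card (Subgroup.centralizer ({y} : Set (Equiv.Perm α))) = if orderOf y = 5 then 10 else 7 := by
  have hp : (orderOf y).Prime := by rcases hy with h | h <;> rw [h] <;> norm_num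
  obtain ⟨n, hn⟩ := Equiv.Perm.cycleType_prime_order hp
  have hs := y.sum_cycleType_le
  rw [hn, Multiset.sum_replicate, hα, smul_eq_mul] at hs
  have hn0 : n = 0 := by rcases hy with h | h <;> rw [h] at hs <;> omega
  subst hn0
  rw [Equiv.Perm.nat_card_centralizer, hn, hα]
  rcases hy with h | h <;> rw [h] <;> rfl

/-- An element of order 3 does not commute with one of order 5 or 7 on seven points. -/
theorem not_commute (hα : Fintype.card α = 7) {x y : Equiv.Perm α} (hx : orderOf x = 3)
    (hy : orderOf y = 5 ∨ orderOf y = 7) : ¬ Commute x y := by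
  intro h
  have hmem : x ∈ Subgroup.centralizer ({y} : Set (Equiv.Perm α)) :=
    Subgroup.mem_centralizer_singleton_iff.2 h
  have h1 : 3 ∣ Nat.card (Subgroup.centralizer ({y} : Set (Equiv.Perm α))) := by
    rw [← hx]
    exact Subgroup.orderOf_dvd_natCard _ hmem
  rw [card_centralizer_of_prime hα hy] at h1
  rcases hy with h2 | h2 <;> rw [h2] at h1 <;> norm_num at h1

/-- A `q`-element normalising a group of order `p` centralises it when `q` does not divide `p - 1`. -/
theorem mem_centralizer_of_normalizes {G : Type*} [Group G] [Finite G] {p q : ℕ} [Fact p.Prime] {P : Subgroup G}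
    (hP : Nat.card P = p) {x : G} (hx : x ∈ Subgroup.normalizer (P : Set G)) (hxq : orderOf x = q)
    (hq : Nat.Coprime q (p - 1)) : x ∈ Subgroup.centralizer (P : Set G) := by
  set C := (Subgroup.centralizer (P : Set G)).subgroupOf (Subgroup.normalizer (P : Set G)) with hC
  have hCn : C.Normal := by
    rw [hC, ← Subgroup.normalizerMonoidHom_ker]
    infer_instance
  let x' : Subgroup.normalizer (P : Set G) := ⟨x, hx⟩
  have h1 : orderOf (x' : _ ⧸ C) ∣ q := orderOf_dvd_of_pow_eq_one (by
    rw [← QuotientGroup.mk_pow, ← hxq, show x' ^ orderOf x = 1 from Subtype.ext (pow_orderOf_eq_one x)]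
    rfl)
  have h2 : orderOf (x' : _ ⧸ C) ∣ p - 1 :=
    (orderOf_dvd_natCard _).trans (Cfsg.Lib.Small.relIndex_centralizer_dvd P hP)
  have h3 := orderOf_eq_one_iff.1 (Nat.dvd_one.1 (hq ▸ Nat.dvd_gcd h1 h2))
  exact Subgroup.mem_subgroupOf.1 ((QuotientGroup.eq_one_iff x').1 h3)

theorem dvd_card_of_transitive {G : Type*} [Group G] [MulAction G α] [Finite G] [MulAction.IsPretransitive G α] (a : α) :
    Fintype.card α ∣ Nat.card G := by
  have := (MulAction.stabilizer G a).index_dvd_card
  rwa [MulAction.index_stabilizer_of_transitive, Nat.card_eq_fintype_card] at this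

/-- A non-trivial normal subgroup of a transitive group on 7 points has order divisible by 7. -/
theorem seven_dvd (hα : Fintype.card α = 7) (H : Subgroup (Equiv.Perm α)) [MulAction.IsPretransitive H α]
    (K : Subgroup H) [K.Normal] (hK : K ≠ ⊥) : 7 ∣ Nat.card K := by
  haveI : MulAction.IsPreprimitive H α := MulAction.IsPreprimitive.of_prime_card (by
    rw [Nat.card_eq_fintype_card, hα]; norm_num)
  haveI : MulAction.IsPretransitive K α := by
    refine MulAction.IsQuasiPreprimitive.isPretransitive_of_normal fun h => hK ?_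
    rw [Subgroup.eq_bot_iff_forall]
    intro k hk
    ext z
    exact (Set.eq_univ_iff_forall.1 h z) ⟨k, hk⟩
  obtain ⟨a⟩ : Nonempty α := Fintype.card_pos_iff.1 (by omega)
  rw [← hα]
  exact dvd_card_of_transitive a

/-- The transitive insoluble proper subgroups of the alternating group of degree 7. -/
theorem arith (n N : ℕ) (h1 : n % 7 = 1) (hn : n ≠ 1) (hd : n * N ∣ 2520) (hle : n * N ≤ 360) (h42 : N ∣ 42)
    (h7 : 7 ∣ N) (hN : N ≠ 7) : (n = 15 ∧ N = 14) ∨ (n = 8 ∧ N = 21) ∨ (n = 15 ∧ N = 21) := by
  obtain ⟨c, rfl⟩ := h7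
  have hc : c ≤ 6 := by have := Nat.le_of_dvd (by norm_num) h42; omega
  obtain ⟨j, rfl⟩ : ∃ j, n = 7 * j + 1 := ⟨n / 7, by omega⟩
  have hj : j ≤ 3 := by
    by_contra h
    interval_cases c <;> first | omega | norm_num at h42 hd
  interval_cases j <;> interval_cases c <;> simp_all (config := { decide := true })

set_option maxHeartbeats 1000000 in
theorem inner (hα : Fintype.card α = 7) (H : Subgroup (Equiv.Perm α)) [MulAction.IsPretransitive H α]
    (hns : ¬ Group.IsSolvable H) (hle : H ≤ alternatingGroup α) (hne : H ≠ alternatingGroup α) :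
    Nat.card H = 168 ∧ ∀ K : Subgroup H, K.Normal → K = ⊥ ∨ 7 ∣ Nat.card K ∧ ¬ IsMulCommutative K := by
  haveI : Fact (Nat.Prime 7) := ⟨by norm_num⟩
  haveI : Fact (Nat.Prime 5) := ⟨by norm_num⟩
  haveI : Fact (Nat.Prime 3) := ⟨by norm_num⟩
  haveI : Nontrivial α := Fintype.one_lt_card_iff_nontrivial.1 (by omega)
  haveI : IsSimpleGroup (alternatingGroup α) := alternatingGroup.isSimpleGroup (by
    rw [Nat.card_eq_fintype_card, hα]; norm_num)
  have hA : Nat.card (alternatingGroup α) = 2520 := by
    rw [nat_card_alternatingGroup, Nat.card_eq_fintype_card, hα]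
    rfl
  have hdvd : Nat.card H ∣ 2520 := hA ▸ Subgroup.card_dvd_of_le hle
  have hsmall : Nat.card H ≤ 360 := by
    have hne' : H.subgroupOf (alternatingGroup α) ≠ ⊤ := fun h =>
      hne (le_antisymm hle (Subgroup.subgroupOf_eq_top.1 h))
    have h1 := Subgroup.card_mul_index (H.subgroupOf (alternatingGroup α))
    rw [Nat.card_congr (Subgroup.subgroupOfEquivOfLe hle).toEquiv, hA] at h1
    by_contra hlt
    have h6 : (H.subgroupOf (alternatingGroup α)).index ≤ 6 := by
      by_contra h7
      nlinarith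
    have := Cfsg.Lib.Small.index_dvd_factorial_le hne' h6
    rw [hA] at this
    norm_num [Nat.factorial] at this
  obtain ⟨a⟩ : Nonempty α := Fintype.card_pos_iff.1 (by omega)
  have h7 : 7 ∣ Nat.card H := hα ▸ dvd_card_of_transitive a
  have hsyl : ∀ P : Sylow 7 H, Nat.card (P : Subgroup H) = 7 := fun P => by
    obtain ⟨k, hk⟩ := IsPGroup.iff_card.1 P.2
    have h1 : 7 ∣ Nat.card (P : Subgroup H) := P.dvd_card_of_dvd_card h7
    have h2 : (7 : ℕ) ^ k ∣ 2520 := hk ▸ (Subgroup.card_subgroup_dvd_card _).trans hdvd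
    rw [hk] at h1 ⊢
    rcases k with _ | _ | k
    · norm_num at h1
    · norm_num
    · exact absurd ((pow_dvd_pow 7 (show 2 ≤ k + 2 by omega)).trans h2) (by norm_num)
  obtain ⟨P⟩ : Nonempty (Sylow 7 H) := inferInstance
  have hN := Cfsg.Lib.Small.card_normalizer_mul P
  set n := Nat.card (Sylow 7 H) with hn
  set N := Nat.card (Subgroup.normalizer ((P : Subgroup H) : Set H)) with hNdef
  have hC : Subgroup.centralizer ((P : Subgroup H) : Set H) = (P : Subgroup H) := by
    haveI : IsMulCommutative (P : Subgroup H) := by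
      haveI := isCyclic_of_prime_card (hsyl P); infer_instance
    refine (Subgroup.eq_of_le_of_card_ge (Subgroup.le_centralizer _) ?_).symm
    rw [hsyl]
    obtain ⟨y, hy⟩ := exists_prime_orderOf_dvd_card' (G := (P : Subgroup H)) 7 (by rw [hsyl P])
    have hy7 : orderOf ((y : H) : Equiv.Perm α) = 7 := by rw [Subgroup.orderOf_coe, Subgroup.orderOf_coe, hy]
    have hle7 : ((Subgroup.centralizer ((P : Subgroup H) : Set H)).map H.subtype) ≤
        Subgroup.centralizer ({((y : H) : Equiv.Perm α)} : Set (Equiv.Perm α)) := by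
      rintro _ ⟨z, hz, rfl⟩
      rw [Subgroup.mem_centralizer_singleton_iff]
      exact (congrArg Subtype.val (Subgroup.mem_centralizer_iff.1 hz (y : H) y.2)).symm
    have h1 := Subgroup.card_le_of_le hle7
    rw [Subgroup.card_map_of_injective H.subtype_injective, card_centralizer_of_prime hα (Or.inr hy7), hy7] at h1
    simpa using h1
  have hNd : N ∣ 42 ∧ 7 ∣ N := by
    have h1 := Cfsg.Lib.Small.relIndex_centralizer_dvd (P : Subgroup H) (hsyl P)
    rw [hC] at h1
    have h2 := (Subgroup.subgroupOf (P : Subgroup H) (Subgroup.normalizer ((P : Subgroup H) : Set H))).card_mul_index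
    rw [Nat.card_congr (Subgroup.subgroupOfEquivOfLe Subgroup.le_normalizer).toEquiv, hsyl P] at h2
    refine ⟨?_, hsyl P ▸ Subgroup.card_dvd_of_le Subgroup.le_normalizer⟩
    rw [hNdef, ← h2, show (42 : ℕ) = 7 * 6 by norm_num]
    exact Nat.mul_dvd_mul_left 7 h1
  -- the Sylow subgroup is not normal
  have hPn : ¬ (P : Subgroup H).Normal := by
    intro hnorm
    apply hns
    have hker : ((P : Subgroup H).normalizerMonoidHom.comp
        (MonoidHom.id H |>.codRestrict _ fun h => by
          rw [Subgroup.normalizer_eq_top_iff.2 hnorm]; exact Subgroup.mem_top _)).ker ≤ (P : Subgroup H) := by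
      intro h hh
      rw [← hC]
      rw [MonoidHom.mem_ker, MonoidHom.comp_apply, ← MonoidHom.mem_ker, Subgroup.normalizerMonoidHom_ker] at hh
      exact hh
    haveI : IsCyclic (P : Subgroup H) := isCyclic_of_prime_card (hsyl P)
    let φ := ((IsCyclic.mulAutMulEquiv (P : Subgroup H)).toMonoidHom.comp
      ((P : Subgroup H).normalizerMonoidHom.comp
        (MonoidHom.id H |>.codRestrict _ fun h => by
          rw [Subgroup.normalizer_eq_top_iff.2 hnorm]; exact Subgroup.mem_top _)))
    haveI : Group.IsSolvable (P : Subgroup H) := by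
      let _ := IsCyclic.commGroup (α := (P : Subgroup H)); infer_instance
    refine Group.isSolvable_of_ker_le_range (P : Subgroup H).subtype φ ?_
    rw [Subgroup.range_subtype]
    intro h hh
    apply hker
    rw [MonoidHom.mem_ker] at hh ⊢
    exact (MulEquiv.map_eq_one_iff (IsCyclic.mulAutMulEquiv (P : Subgroup H))).1 hh
  have hn1 : n ≠ 1 := fun h => hPn (by
    rw [← Subgroup.normalizer_eq_top_iff, ← Subgroup.card_eq_iff_eq_top, ← hNdef]
    rw [h, one_mul] at hN
    exact hN)
  have hnmod : n ≡ 1 [MOD 7] := card_sylow_modEq_one 7 H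
  have hnormal : ∀ K : Subgroup H, K.Normal → K = ⊥ ∨ 7 ∣ Nat.card K ∧ ¬ IsMulCommutative K := by
    intro K hKn
    by_cases hK : K = ⊥
    · exact Or.inl hK
    refine Or.inr ⟨seven_dvd hα H K hK, fun hKc => ?_⟩
    obtain ⟨y, hy⟩ := exists_prime_orderOf_dvd_card' 7 (seven_dvd hα H K hK)
    have hy7 : orderOf ((y : H) : Equiv.Perm α) = 7 := by rw [Subgroup.orderOf_coe, Subgroup.orderOf_coe, hy]
    have hle7 : K.map H.subtype ≤ Subgroup.centralizer ({((y : H) : Equiv.Perm α)} : Set (Equiv.Perm α)) := by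
      rintro _ ⟨z, hz, rfl⟩
      rw [Subgroup.mem_centralizer_singleton_iff]
      exact congrArg (fun k : K => ((k : H) : Equiv.Perm α)) (hKc.is_comm.comm ⟨z, hz⟩ y)
    have h1 := Subgroup.card_le_of_le hle7
    rw [Subgroup.card_map_of_injective H.subtype_injective, card_centralizer_of_prime hα (Or.inr hy7), hy7] at h1
    have h1' : Nat.card K ≤ 7 := by simpa using h1
    have hK7 : Nat.card K = 7 := le_antisymm h1' (Nat.le_of_dvd Nat.card_pos (seven_dvd hα H K hK))
    have hKp : IsPGroup 7 K := IsPGroup.of_card (n := 1) (by rw [hK7, pow_one])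
    obtain ⟨Q, hQ⟩ := hKp.exists_le_sylow
    have hQK : (Q : Subgroup H) = K := (Subgroup.eq_of_le_of_card_ge hQ (by rw [hsyl, hK7])).symm
    obtain ⟨g, hg⟩ := MulAction.exists_smul_eq H Q P
    apply hPn
    have hQn : (Q : Subgroup H).Normal := hQK ▸ hKn
    rwa [← hg, Sylow.smul_eq_of_normal]
  refine ⟨?_, hnormal⟩
  -- Burnside's complement theorem
  have hN7 : N ≠ 7 := by
    intro h
    have hle' : Subgroup.normalizer ((P : Subgroup H) : Set H) ≤ Subgroup.centralizer ((P : Subgroup H) : Set H) := by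
      rw [hC]
      exact (Subgroup.eq_of_le_of_card_ge Subgroup.le_normalizer (by rw [hsyl, ← hNdef, h])).ge
    have hc := MonoidHom.ker_transferSylow_isComplement' P hle'
    have hcard := hc.card_mul
    rw [hsyl, ← hN, h] at hcard
    have hK : Nat.card (MonoidHom.transferSylow P hle').ker = n := by omega
    rcases hnormal _ (MonoidHom.normal_ker (MonoidHom.transferSylow P hle')) with hb | ⟨hd, -⟩
    · rw [hb, Subgroup.card_bot] at hK
      exact hn1 hK.symm
    · rw [hK] at hd
      rw [Nat.ModEq, Nat.mod_eq_zero_of_dvd hd] at hnmod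
      norm_num at hnmod
  obtain ⟨hN42, hN7d⟩ := hNd
  have hnN : (n = 15 ∧ N = 14) ∨ (n = 8 ∧ N = 21) ∨ (n = 15 ∧ N = 21) := by
    rw [← hN] at hdvd hsmall
    exact Cfsg.Agent.S0678.arith n N hnmod hn1 hdvd hsmall hN42 hN7d hN7
  -- Sylow subgroups for 3 and 5 are not normal
  have hnosmall : ∀ (p : ℕ) [Fact p.Prime], p ≠ 7 → p ∣ Nat.card H → ∀ Q : Sylow p H, ¬ (Q : Subgroup H).Normal := by
    intro p hp hp7 hpd Q hQn
    rcases hnormal _ hQn with hb | ⟨hd, -⟩
    · have := Q.dvd_card_of_dvd_card hpd
      rw [hb, Subgroup.card_bot, Nat.dvd_one] at this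
      exact hp.out.ne_one this
    · obtain ⟨k, hk⟩ := IsPGroup.iff_card.1 Q.2
      rw [hk] at hd
      exact hp7 ((Nat.prime_dvd_prime_iff_eq (by norm_num) hp.out).1
        ((show Nat.Prime 7 by norm_num).dvd_of_dvd_pow hd)).symm
  rcases hnN with ⟨e1, e2⟩ | ⟨e1, e2⟩ | ⟨e1, e2⟩
  · -- order 210
    exfalso
    have hH : Nat.card H = 3 ^ 1 * 70 := by rw [← hN, e1, e2]; norm_num
    obtain ⟨Q⟩ : Nonempty (Sylow 3 H) := inferInstance
    have hQc : Nat.card (Q : Subgroup H) = 3 := by
      simpa using Cfsg.Lib.Small.card_sylow 1 70 hH (by norm_num) Q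
    have hm := Cfsg.Lib.Small.card_normalizer_mul Q
    have hmod : Nat.card (Sylow 3 H) % 3 = 1 := card_sylow_modEq_one 3 H
    have h3N : 3 ∣ Nat.card (Subgroup.normalizer ((Q : Subgroup H) : Set H)) :=
      (dvd_of_eq hQc.symm).trans (Subgroup.card_dvd_of_le Subgroup.le_normalizer)
    have hsmallprime : ∀ q : ℕ, q = 5 ∨ q = 7 → ¬ q ∣ Nat.card (Subgroup.normalizer ((Q : Subgroup H) : Set H)) := by
      intro q hq hd
      haveI : Fact q.Prime := ⟨by rcases hq with rfl | rfl <;> norm_num⟩
      obtain ⟨x, hx⟩ := exists_prime_orderOf_dvd_card' q hd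
      have hxC := mem_centralizer_of_normalizes hQc x.2 (by rw [Subgroup.orderOf_coe, hx])
        (by rcases hq with rfl | rfl <;> norm_num)
      obtain ⟨y, hy⟩ := exists_prime_orderOf_dvd_card' (G := (Q : Subgroup H)) 3 (by rw [hQc])
      refine not_commute hα (x := ((y : H) : Equiv.Perm α)) (y := ((x : H) : Equiv.Perm α))
        (by rw [Subgroup.orderOf_coe, Subgroup.orderOf_coe, hy])
        (by rw [Subgroup.orderOf_coe, Subgroup.orderOf_coe, hx]; exact hq) ?_
      exact congrArg Subtype.val (Subgroup.mem_centralizer_iff.1 hxC y y.2)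
    set m := Nat.card (Sylow 3 H)
    set M := Nat.card (Subgroup.normalizer ((Q : Subgroup H) : Set H)) with hMdef
    have hm1 : m ≠ 1 := fun h => hnosmall 3 (by norm_num) (Dvd.intro _ hH.symm) Q (by
      rw [← Subgroup.normalizer_eq_top_iff, ← Subgroup.card_eq_iff_eq_top, ← hMdef]
      rw [h, one_mul] at hm
      exact hm)
    have hM3 : M = 3 := by
      have h5 := hsmallprime 5 (Or.inl rfl)
      have h7' := hsmallprime 7 (Or.inr rfl)
      have hMd : M ∣ 210 := ⟨m, by rw [mul_comm M m, hm, hH]; norm_num⟩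
      have hM6 : M ∣ 6 := by
        have h35 : Nat.Coprime M 35 := by
          rw [show (35 : ℕ) = 5 * 7 by norm_num, Nat.coprime_mul_iff_right]
          exact ⟨((Nat.Prime.coprime_iff_not_dvd (by norm_num)).2 h5).symm,
            ((Nat.Prime.coprime_iff_not_dvd (by norm_num)).2 h7').symm⟩
        exact h35.dvd_of_dvd_mul_right (show M ∣ 6 * 35 by norm_num; exact hMd)
      have : M ≤ 6 := Nat.le_of_dvd (by norm_num) hM6
      interval_cases M <;> omega
    have hle' : Subgroup.normalizer ((Q : Subgroup H) : Set H) ≤ Subgroup.centralizer ((Q : Subgroup H) : Set H) := by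
      rw [← Subgroup.eq_of_le_of_card_ge Subgroup.le_normalizer (by rw [hQc, ← hMdef, hM3])]
      haveI := isCyclic_of_prime_card hQc
      haveI : IsMulCommutative (Q : Subgroup H) := by infer_instance
      exact Subgroup.le_centralizer _
    have hc := MonoidHom.ker_transferSylow_isComplement' Q hle'
    set K := (MonoidHom.transferSylow Q hle').ker with hKdef
    have hKc : Nat.card K = 70 := by
      have := hc.card_mul
      rw [hQc, hH] at this
      omega
    haveI : K.Normal := MonoidHom.normal_ker _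
    obtain ⟨R⟩ : Nonempty (Sylow 7 K) := inferInstance
    have hRn : (R : Subgroup K).Normal := by
      have h1 := Cfsg.Lib.Small.card_normalizer_mul R
      have h2 : Nat.card (R : Subgroup K) = 7 := by
        simpa using Cfsg.Lib.Small.card_sylow 1 10 (by rw [hKc]; norm_num) (by norm_num) R
      have h3 : Nat.card (Sylow 7 K) % 7 = 1 := card_sylow_modEq_one 7 K
      obtain ⟨c, hc'⟩ : 7 ∣ Nat.card (Subgroup.normalizer ((R : Subgroup K) : Set K)) :=
        (dvd_of_eq h2.symm).trans (Subgroup.card_dvd_of_le Subgroup.le_normalizer)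
      rw [hKc, hc'] at h1
      have h5 : Nat.card (Sylow 7 K) = 1 := by
        have h6 : Nat.card (Sylow 7 K) ∣ 10 := ⟨c, by nlinarith⟩
        have := Nat.le_of_dvd (by norm_num) h6
        interval_cases Nat.card (Sylow 7 K) <;> omega
      rw [← Subgroup.normalizer_eq_top_iff, ← Subgroup.card_eq_iff_eq_top, hc', hKc]
      rw [h5, one_mul] at h1
      exact h1
    haveI := R.characteristic_of_normal hRn
    have hR' : ((R : Subgroup K).map K.subtype).Normal := inferInstance
    rcases hnormal _ hR' with hb | ⟨-, hnc⟩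
    · have h2 : Nat.card (R : Subgroup K) = 7 := by
        simpa using Cfsg.Lib.Small.card_sylow 1 10 (by rw [hKc]; norm_num) (by norm_num) R
      rw [← Subgroup.card_map_of_injective K.subtype_injective, hb, Subgroup.card_bot] at h2
      norm_num at h2
    · apply hnc
      have h2 : Nat.card ((R : Subgroup K).map K.subtype) = 7 := by
        rw [Subgroup.card_map_of_injective K.subtype_injective]
        simpa using Cfsg.Lib.Small.card_sylow 1 10 (by rw [hKc]; norm_num) (by norm_num) R
      haveI := isCyclic_of_prime_card h2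
      infer_instance
  · rw [← hN, e1, e2]
  · -- order 315
    exfalso
    have hH : Nat.card H = 5 ^ 1 * 63 := by rw [← hN, e1, e2]; norm_num
    obtain ⟨Q⟩ : Nonempty (Sylow 5 H) := inferInstance
    have hQc : Nat.card (Q : Subgroup H) = 5 := by
      simpa using Cfsg.Lib.Small.card_sylow 1 63 hH (by norm_num) Q
    have hm := Cfsg.Lib.Small.card_normalizer_mul Q
    have hmod : Nat.card (Sylow 5 H) % 5 = 1 := card_sylow_modEq_one 5 H
    set m := Nat.card (Sylow 5 H)
    set M := Nat.card (Subgroup.normalizer ((Q : Subgroup H) : Set H)) with hMdef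
    have hm1 : m ≠ 1 := fun h => hnosmall 5 (by norm_num) (Dvd.intro _ hH.symm) Q (by
      rw [← Subgroup.normalizer_eq_top_iff, ← Subgroup.card_eq_iff_eq_top, ← hMdef]
      rw [h, one_mul] at hm
      exact hm)
    obtain ⟨c, hc⟩ : 5 ∣ M := hQc ▸ Subgroup.card_dvd_of_le Subgroup.le_normalizer
    rw [hc, hH] at hm
    have h6 : m ∣ 63 := ⟨c, by nlinarith⟩
    have hle := Nat.le_of_dvd (by norm_num) h6
    have h21 : m = 21 := by interval_cases m <;> omega
    have h15 : 3 ∣ M := by rw [hc]; rw [h21] at hm; exact ⟨5 * (c / 3), by omega⟩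
    obtain ⟨x, hx⟩ := exists_prime_orderOf_dvd_card' 3 h15
    have hxC := mem_centralizer_of_normalizes hQc x.2 (by rw [Subgroup.orderOf_coe, hx]) (by norm_num)
    obtain ⟨y, hy⟩ := exists_prime_orderOf_dvd_card' (G := (Q : Subgroup H)) 5 (by rw [hQc])
    refine not_commute hα (x := ((x : H) : Equiv.Perm α)) (y := ((y : H) : Equiv.Perm α))
      (by rw [Subgroup.orderOf_coe, Subgroup.orderOf_coe, hx])
      (by rw [Subgroup.orderOf_coe, Subgroup.orderOf_coe, hy]; exact Or.inl rfl) ?_
    exact (congrArg Subtype.val (Subgroup.mem_centralizer_iff.1 hxC y y.2)).symm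

open Classical in
theorem proper_normal (hα : Fintype.card α = 7) (H : Subgroup (Equiv.Perm α)) [MulAction.IsPretransitive H α]
    (hle : H ≤ alternatingGroup α)
    (hnorm : ∀ K : Subgroup H, K.Normal → K = ⊥ ∨ 7 ∣ Nat.card K ∧ ¬ IsMulCommutative K)
    (hc : Nat.card H = 168) (L : Subgroup H) (hLn : L.Normal) (hLb : L ≠ ⊥) : L = ⊤ := by
  by_cases hs : Group.IsSolvable L
  · exfalso
    obtain ⟨n, hn⟩ := hs.solvable
    have hex : ∃ n, derivedSeries L n = ⊥ := ⟨n, hn⟩
    set m := Nat.find hex with hm
    have hm0 : m ≠ 0 := fun h => by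
      have h1 := Nat.find_spec hex
      rw [← hm, h, derivedSeries_zero] at h1
      apply hLb
      rw [Subgroup.eq_bot_iff_forall]
      intro x hx
      have h2 : (⟨x, hx⟩ : L) ∈ (⊥ : Subgroup L) := h1 ▸ Subgroup.mem_top _
      exact congrArg Subtype.val (Subgroup.mem_bot.1 h2)
    obtain ⟨k, hk⟩ : ∃ k, m = k + 1 := ⟨m - 1, by omega⟩
    have hA0 : derivedSeries L k ≠ ⊥ := Nat.find_min hex (by omega)
    rcases hnorm ((derivedSeries L k).map L.subtype) inferInstance with h | ⟨-, h⟩
    · exact hA0 ((Subgroup.map_eq_bot_iff_of_injective _ L.subtype_injective).1 h)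
    · apply h
      have h1 := Nat.find_spec hex
      rw [← hm, hk, derivedSeries_succ, Subgroup.commutator_eq_bot_iff_le_centralizer] at h1
      refine ⟨⟨?_⟩⟩
      rintro ⟨_, a, ha, rfl⟩ ⟨_, b, hb, rfl⟩
      apply Subtype.ext
      exact congrArg (fun z : L => (z : H)) (Subgroup.mem_centralizer_iff.1 (h1 hb) a ha)
  · haveI := hLn
    haveI : MulAction.IsPretransitive (L.map H.subtype) α := by
      haveI : MulAction.IsPreprimitive H α := MulAction.IsPreprimitive.of_prime_card (by
        rw [Nat.card_eq_fintype_card, hα]; norm_num)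
      haveI : MulAction.IsPretransitive L α := by
        refine MulAction.IsQuasiPreprimitive.isPretransitive_of_normal fun h => hLb ?_
        rw [Subgroup.eq_bot_iff_forall]
        intro k hk
        ext z
        exact (Set.eq_univ_iff_forall.1 h z) ⟨k, hk⟩
      exact ⟨fun x y => by
        obtain ⟨k, hk⟩ := MulAction.exists_smul_eq L x y
        exact ⟨⟨_, Subgroup.mem_map_of_mem H.subtype k.2⟩, hk⟩⟩
    let e : L ≃* L.map H.subtype := L.equivMapOfInjective H.subtype H.subtype_injective
    have hne : L.map H.subtype ≠ alternatingGroup α := fun h => by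
      have h1 : Nat.card (L.map H.subtype) = Nat.card (alternatingGroup α) := by rw [h]
      have h2 : Nat.card (L.map H.subtype) ≤ Nat.card H := Subgroup.card_le_of_le (Subgroup.map_subtype_le L)
      haveI : Nontrivial α := Fintype.one_lt_card_iff_nontrivial.1 (by omega)
      have h3 : Nat.card (alternatingGroup α) = 2520 := by
        rw [nat_card_alternatingGroup, Nat.card_eq_fintype_card, hα]
        rfl
      omega
    obtain ⟨h168, -⟩ := inner hα (L.map H.subtype)
      (fun h => hs (Group.isSolvable_of_isSolvable_injective (f := e.toMonoidHom) e.injective))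
      ((Subgroup.map_subtype_le L).trans hle) hne
    rw [← Nat.card_congr e.toEquiv] at h168
    exact Subgroup.eq_top_of_card_eq L (by rw [h168, hc])

theorem main (hα : Fintype.card α = 7) (G : Subgroup (Equiv.Perm α)) [MulAction.IsPretransitive G α]
    (hG : ¬ Group.IsSolvable G) (hA : ¬ alternatingGroup α ≤ G) : Nat.card G = 168 ∧ IsSimpleGroup G := by
  haveI : Fact (Nat.Prime 2) := ⟨by norm_num⟩
  haveI : Nontrivial α := Fintype.one_lt_card_iff_nontrivial.1 (by omega)
  let σ : G →* ℤˣ := Equiv.Perm.sign.comp G.subtype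
  set K := σ.ker with hK
  set H : Subgroup (Equiv.Perm α) := K.map G.subtype with hH
  have hle : H ≤ alternatingGroup α := by
    rintro _ ⟨g, hg, rfl⟩
    exact Equiv.Perm.mem_alternatingGroup.2 hg
  have hne : H ≠ alternatingGroup α := fun h => hA (h ▸ Subgroup.map_subtype_le K)
  let e : K ≃* H := K.equivMapOfInjective G.subtype G.subtype_injective
  have hKns : ¬ Group.IsSolvable K := fun h => hG (Group.isSolvable_of_ker_le_range K.subtype σ (by
    rw [Subgroup.range_subtype]))
  haveI : MulAction.IsPretransitive K α := by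
    haveI : MulAction.IsPreprimitive G α := MulAction.IsPreprimitive.of_prime_card (by
      rw [Nat.card_eq_fintype_card, hα]; norm_num)
    refine MulAction.IsQuasiPreprimitive.isPretransitive_of_normal fun h => hKns ?_
    haveI : Subsingleton K := ⟨fun a b => by
      apply Subtype.ext; apply Subtype.ext; ext z
      exact ((Set.eq_univ_iff_forall.1 h z) a).trans ((Set.eq_univ_iff_forall.1 h z) b).symm⟩
    infer_instance
  haveI : MulAction.IsPretransitive H α := ⟨fun x y => by
    obtain ⟨k, hk⟩ := MulAction.exists_smul_eq K x y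
    exact ⟨e k, hk⟩⟩
  have hHns : ¬ Group.IsSolvable H := fun h =>
    hKns (Group.isSolvable_of_isSolvable_injective (f := e.toMonoidHom) e.injective)
  obtain ⟨hc, hnorm⟩ := inner hα H hHns hle hne
  have hKc : Nat.card K = 168 := (Nat.card_congr e.toEquiv).trans hc
  have hidx : K.index ∣ 2 := by
    rw [hK, Subgroup.index_ker]
    refine (Subgroup.card_subgroup_dvd_card _).trans (dvd_of_eq ?_)
    simp
  have hGc : Nat.card G = 168 := by
    rcases (Nat.dvd_prime Nat.prime_two).1 hidx with h | h
    · rw [← K.card_mul_index, hKc, h]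
    · exfalso
      have hG336 : Nat.card G = 336 := by rw [← K.card_mul_index, hKc, h]
      obtain ⟨R⟩ : Nonempty (Sylow 2 G) := inferInstance
      have hR : Nat.card (R : Subgroup G) = 2 ^ 4 :=
        Cfsg.Lib.Small.card_sylow 4 21 (by rw [hG336]; norm_num) (by norm_num) R
      set R₁ := (R : Subgroup G).map G.subtype with hR₁
      have hS7 : Nat.card (Equiv.Perm α) = 2 ^ 4 * 315 := by
        rw [Nat.card_perm, Nat.card_eq_fintype_card, hα]
        rfl
      have hR₁c : Nat.card R₁ = 2 ^ 4 := by rw [hR₁, Subgroup.card_map_of_injective G.subtype_injective, hR]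
      obtain ⟨x, y, hxy⟩ := exists_pair_ne α
      have hswap : Equiv.Perm.IsSwap (Equiv.swap x y) := ⟨x, y, hxy, rfl⟩
      have hp : IsPGroup 2 (Subgroup.zpowers (Equiv.swap x y)) := IsPGroup.of_card (n := 1) (by
        rw [Nat.card_zpowers, pow_one, hswap.orderOf])
      obtain ⟨S, hS⟩ := hp.exists_le_sylow
      have hR1p : IsPGroup 2 R₁ := IsPGroup.of_card hR₁c
      obtain ⟨T, hT⟩ := hR1p.exists_le_sylow
      have hTeq : (T : Subgroup (Equiv.Perm α)) = R₁ := (Subgroup.eq_of_le_of_card_ge hT (by
        rw [Cfsg.Lib.Small.card_sylow 4 315 hS7 (by norm_num) T, hR₁c])).symm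
      obtain ⟨g, hg⟩ := MulAction.exists_smul_eq (Equiv.Perm α) S T
      have hmem : g * Equiv.swap x y * g⁻¹ ∈ G := by
        have h1 : g * Equiv.swap x y * g⁻¹ ∈ (T : Subgroup (Equiv.Perm α)) := by
          rw [← hg, Sylow.coe_subgroup_smul]
          exact ⟨_, hS (Subgroup.mem_zpowers _), rfl⟩
        rw [hTeq] at h1
        exact Subgroup.map_subtype_le _ h1
      letI : DecidablePred (· ∈ G) := Classical.decPred _
      have htop : G = ⊤ := Equiv.Perm.subgroup_eq_top_of_swap_mem (by rw [hα]; norm_num)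
        (by rw [← Nat.card_eq_fintype_card (α := G), hG336, hα]; norm_num) hmem
        ⟨g x, g y, g.injective.ne hxy, by rw [← Equiv.swap_apply_apply]⟩
      exact hA (htop ▸ le_top)
  refine ⟨hGc, ?_⟩
  have hKtop : K = ⊤ := Subgroup.eq_top_of_card_eq K (by rw [hKc, hGc])
  have hGH : G = H := by rw [hH, hKtop, ← MonoidHom.range_eq_map, Subgroup.range_subtype]
  have hleG : G ≤ alternatingGroup α := hGH.le.trans hle
  have hnormG : ∀ L : Subgroup G, L.Normal → L = ⊥ ∨ 7 ∣ Nat.card L ∧ ¬ IsMulCommutative L :=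
    (inner hα G hG hleG (fun h => hA h.ge)).2
  haveI : Nontrivial G := Finite.one_lt_card_iff_nontrivial.1 (by rw [hGc]; norm_num)
  refine ⟨fun L hL => ?_⟩
  by_cases hb : L = ⊥
  · exact Or.inl hb
  · exact Or.inr (proper_normal hα G hleG hnormG hGc L hL hb)

end


/-- A non-solvable transitive permutation group on 7 points that does not contain the alternating group is a simple group of order 168. -/
theorem result {α : Type*} [Fintype α] [DecidableEq α] (hα : Fintype.card α = 7) (G : Subgroup (Equiv.Perm α)) [MulAction.IsPretransitive G α] (hG : ¬ Group.IsSolvable G) (hA : ¬ alternatingGroup α ≤ G) : Nat.card G = 168 ∧ IsSimpleGroup G := by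
  classical
  exact Cfsg.Agent.S0678.main hα G hG hA

end Cfsg.Agent.S0678
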