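import Cfsg.Statements.S0680
import Mathlib
import Cfsg.Agent.Lib.Perm.SharpTwo

set_option autoImplicit false
open Cfsg

namespace Cfsg.Agent.S0680

/-- A finite sharply doubly transitive permutation group has degree a prime power `p ^ j`; a Sylow `p`-subgroup is normal, elementary abelian and regular, and consists of the identity together with the elements without fixed points. (Frobenius' Theorem is not needed.) -/
theorem result {α : Type*} [Fintype α] [DecidableEq α] (G : Subgroup (Equiv.Perm α)) [MulAction.IsMultiplyPretransitive G α 2] (hsharp : ∀ x : Fin 2 ↪ α, MulAction.stabilizer G x = ⊥) (h2 : 2 ≤ Fintype.card α) : ∃ p j : ℕ, p.Prime ∧ 1 ≤ j ∧ Fintype.card α = p ^ j ∧ ∀ (hp : Fact p.Prime) (P : Sylow p G), (P : Subgroup G).Normal ∧ IsMulCommutative (P : Subgroup G) ∧ (∀ x ∈ (P : Subgroup G), x ^ p = 1) ∧ MulAction.IsPretransitive (P : Subgroup G) α ∧ (∀ a : α, MulAction.stabilizer (P : Subgroup G) a = ⊥) ∧ ∀ g : G, g ∈ (P : Subgroup G) ↔ g = 1 ∨ ∀ a : α, g • a ≠ a :=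 by
  obtain ⟨p, j, hp, hj, hcard, T, hTn, hTc, hG, hab, hexp, htr, hstab, hmem⟩ :=
    Cfsg.Agent.Perm.sharpTwo_kernel G hsharp h2
  refine ⟨p, j, hp, hj, hcard, fun hp' P => ?_⟩
  have hTp : IsPGroup p T := IsPGroup.of_card hTc
  have hP : (P : Subgroup G) = T := by
    obtain ⟨Q, hQ⟩ := hTp.exists_le_sylow
    have hQc : Nat.card (Q : Subgroup G) = p ^ j := by
      rw [Sylow.card_eq_multiplicity, hG]
      have h1 : p ^ j - 1 ≠ 0 := by
        have := Nat.one_lt_pow (show j ≠ 0 by omega) hp.one_lt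
        omega
      have h2' : ¬ p ∣ p ^ j - 1 := by
        intro h
        have h3 : p ∣ p ^ j - (p ^ j - 1) := Nat.dvd_sub (dvd_pow_self p (by omega)) h
        rw [show p ^ j - (p ^ j - 1) = 1 by have := Nat.one_le_pow j p hp.pos; omega] at h3
        exact hp.not_dvd_one h3
      rw [Nat.factorization_mul (pow_ne_zero j hp.ne_zero) h1, Finsupp.add_apply, Nat.Prime.factorization_pow hp,
        Finsupp.single_eq_same, Nat.factorization_eq_zero_of_not_dvd h2', add_zero]
    have hQT : T = (Q : Subgroup G) := Subgroup.eq_of_le_of_card_ge hQ (by rw [hQc, hTc])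
    haveI : Finite (Sylow p G) := inferInstance
    haveI := Sylow.unique_of_normal Q (hQT ▸ hTn)
    rw [Subsingleton.elim P Q, ← hQT]
  rw [hP]
  exact ⟨hTn, ⟨⟨fun x y => Subtype.ext (hab x x.2 y y.2)⟩⟩, hexp, htr, hstab, hmem⟩

end Cfsg.Agent.S0680
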