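import Cfsg.Statements.S0681
import Mathlib

set_option autoImplicit false
open Cfsg

namespace Cfsg.Agent.S0681

/-- The affine maps `x ↦ x * a + b`, `a ≠ 0`, of a near-field form a sharply doubly transitive permutation group. -/
theorem result {F : Type*} [Cfsg.NearField F] : ∃ H : Subgroup (Equiv.Perm F), (∀ σ : Equiv.Perm F, σ ∈ H ↔ ∃ a b : F, a ≠ 0 ∧ ∀ x : F, σ x = x * a + b) ∧ MulAction.IsMultiplyPretransitive H F 2 ∧ ∀ x : Fin 2 ↪ F, MulAction.stabilizer H x = ⊥ := by
  have zero_mul' : ∀ x : F, 0 * x = 0 := by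
    intro x
    have h := Cfsg.NearField.right_distrib (0 : F) 0 x
    rw [add_zero] at h
    exact left_eq_add.1 h
  have neg_mul' : ∀ x y : F, (-x) * y = -(x * y) := by
    intro x y
    apply eq_neg_of_add_eq_zero_left
    rw [← Cfsg.NearField.right_distrib, neg_add_cancel, zero_mul']
  have mul_ne : ∀ x y : F, x ≠ 0 → y ≠ 0 → x * y ≠ 0 := by
    intro x y hx hy h
    obtain ⟨x', -, hx'⟩ := Cfsg.NearField.exists_inv x hx
    apply hy
    rw [← one_mul y, ← hx', mul_assoc, h, Cfsg.NearField.mul_zero]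
  let H : Subgroup (Equiv.Perm F) :=
    { carrier := {σ | ∃ a b : F, a ≠ 0 ∧ ∀ x : F, σ x = x * a + b}
      one_mem' := ⟨1, 0, Cfsg.NearField.zero_ne_one.symm, fun x => by simp⟩
      mul_mem' := by
        rintro s t ⟨a, b, ha, hs⟩ ⟨c, d, hc, ht⟩
        refine ⟨c * a, d * a + b, mul_ne c a hc ha, fun x => ?_⟩
        rw [Equiv.Perm.mul_apply, ht, hs, Cfsg.NearField.right_distrib, mul_assoc, add_assoc]
      inv_mem' := by
        rintro s ⟨a, b, ha, hs⟩
        obtain ⟨a', h1, h2⟩ := Cfsg.NearField.exists_inv a ha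
        have ha' : a' ≠ 0 := by
          intro h; rw [h, Cfsg.NearField.mul_zero] at h1; exact Cfsg.NearField.zero_ne_one h1
        refine ⟨a', (-b) * a', ha', fun y => ?_⟩
        show s.symm y = _
        rw [Equiv.symm_apply_eq, hs, ← Cfsg.NearField.right_distrib, mul_assoc, h2, mul_one, neg_add_cancel_right] }
  have key : ∀ x₁ x₂ y₁ y₂ : F, x₁ ≠ x₂ → y₁ ≠ y₂ → ∃ σ ∈ H, σ x₁ = y₁ ∧ σ x₂ = y₂ := by
    intro x₁ x₂ y₁ y₂ hx hy
    have hd : x₂ + -x₁ ≠ 0 := fun h => hx (by rw [← neg_neg x₁]; exact (eq_neg_of_add_eq_zero_left h).symm)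
    have he : y₂ + -y₁ ≠ 0 := fun h => hy (by rw [← neg_neg y₁]; exact (eq_neg_of_add_eq_zero_left h).symm)
    obtain ⟨d', hd1, hd2⟩ := Cfsg.NearField.exists_inv _ hd
    have hd' : d' ≠ 0 := by
      intro h; rw [h, Cfsg.NearField.mul_zero] at hd1; exact Cfsg.NearField.zero_ne_one hd1
    set a := d' * (y₂ + -y₁)
    have ha : a ≠ 0 := mul_ne _ _ hd' he
    obtain ⟨a', h1, h2⟩ := Cfsg.NearField.exists_inv a ha
    let σ : Equiv.Perm F :=
      { toFun := fun x => (x + -x₁) * a + y₁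
        invFun := fun y => (y + -y₁) * a' + x₁
        left_inv := fun x => by simp [mul_assoc, h1]
        right_inv := fun y => by simp [mul_assoc, h2] }
    refine ⟨σ, ⟨a, (-x₁) * a + y₁, ha, fun x => ?_⟩, ?_, ?_⟩
    · show (x + -x₁) * a + y₁ = _
      rw [Cfsg.NearField.right_distrib, add_assoc]
    · show (x₁ + -x₁) * a + y₁ = _
      rw [add_neg_cancel, zero_mul', zero_add]
    · show (x₂ + -x₁) * a + y₁ = _
      rw [show (x₂ + -x₁) * a = y₂ + -y₁ by rw [← mul_assoc, hd1, one_mul], neg_add_cancel_right]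
  refine ⟨H, fun σ => Iff.rfl, ?_, ?_⟩
  · rw [MulAction.is_two_pretransitive_iff]
    intro a b c d hab hcd
    obtain ⟨σ, hσ, h1, h2⟩ := key a b c d hab hcd
    exact ⟨⟨σ, hσ⟩, h1, h2⟩
  · intro x
    rw [Subgroup.eq_bot_iff_forall]
    rintro ⟨σ, a, b, ha, hσ⟩ hs
    have e : ∀ i, σ (x i) = x i := fun i => DFunLike.congr_fun (MulAction.mem_stabilizer_iff.1 hs) i
    have hne : x 0 ≠ x 1 := fun h => absurd (x.injective h) (by decide)
    have e0 : x 0 * a + b = x 0 := by rw [← hσ]; exact e 0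
    have e1 : x 1 * a + b = x 1 := by rw [← hσ]; exact e 1
    have ha1 : a = 1 := by
      have hd : x 1 + -x 0 ≠ 0 := fun h => hne (by rw [← neg_neg (x 0)]; exact (eq_neg_of_add_eq_zero_left h).symm)
      have h : (x 1 + -x 0) * a = x 1 + -x 0 := by
        rw [Cfsg.NearField.right_distrib, neg_mul', eq_add_neg_of_add_eq e1, eq_add_neg_of_add_eq e0]
        simp [add_assoc]
      obtain ⟨d', hd1, hd2⟩ := Cfsg.NearField.exists_inv _ hd
      have := congrArg (d' * ·) h
      simpa [← mul_assoc, hd2] using this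
    subst ha1
    rw [mul_one] at e0
    have hb : b = 0 := add_eq_left.1 e0
    apply Subtype.ext
    ext y
    show σ y = y
    rw [hσ, hb, mul_one, add_zero]

end Cfsg.Agent.S0681
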