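import Cfsg.Statements.S0682
import Mathlib

set_option autoImplicit false
open Cfsg

namespace Cfsg.Agent.S0682

/-- A finite near-field has prime-power order; its additive group is commutative of prime exponent. -/
theorem result {F : Type*} [Cfsg.NearField F] [Finite F] : ∃ p j : ℕ, p.Prime ∧ 1 ≤ j ∧ Nat.card F = p ^ j ∧ (∀ x y : F, x + y = y + x) ∧ ∀ x : F, p • x = 0 := by
  have zero_mul' : ∀ x : F, 0 * x = 0 := by
    intro x
    have h := Cfsg.NearField.right_distrib (0 : F) 0 x
    rw [add_zero] at h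
    exact left_eq_add.1 h
  have hne : (1 : F) ≠ 0 := Cfsg.NearField.zero_ne_one.symm
  have conjAll : ∀ x y : F, x ≠ 0 → ∃ c : F, x * c = y := by
    intro x y hx
    obtain ⟨x', h1, -⟩ := Cfsg.NearField.exists_inv x hx
    exact ⟨x' * y, by rw [← mul_assoc, h1, one_mul]⟩
  let R : F → (F →+ F) := fun c => AddMonoidHom.mk' (fun x => x * c) (fun x y => Cfsg.NearField.right_distrib x y c)
  haveI : Nontrivial F := ⟨⟨1, 0, hne⟩⟩
  obtain ⟨p, hp, hpd⟩ := Nat.exists_prime_and_dvd (n := Nat.card F) (by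
    have := Finite.one_lt_card (α := F); omega)
  haveI : Fact p.Prime := ⟨hp⟩
  obtain ⟨y, hy⟩ := exists_prime_addOrderOf_dvd_card' (G := F) p hpd
  have hy0 : y ≠ 0 := by intro h; rw [h, addOrderOf_zero] at hy; exact hp.one_lt.ne hy
  have hpx : ∀ x : F, p • x = 0 := by
    intro x
    obtain ⟨c, rfl⟩ := conjAll y x hy0
    show p • (R c y) = 0
    rw [← map_nsmul, ← hy, addOrderOf_nsmul_eq_zero, map_zero]
  have hpg : IsPGroup p (Multiplicative F) := fun x => ⟨1, by rw [pow_one]; exact hpx x.toAdd⟩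
  haveI := hpg.center_nontrivial
  obtain ⟨⟨z, hz⟩, hz1⟩ := exists_ne (1 : Subgroup.center (Multiplicative F))
  have hz0 : z.toAdd ≠ 0 := fun h => hz1 (Subtype.ext h)
  have hcomm : ∀ x w : F, x + w = w + x := by
    intro x w
    by_cases hx : x = 0
    · simp [hx]
    obtain ⟨c, hc⟩ := conjAll z.toAdd x hz0
    have hc0 : c ≠ 0 := by intro h; rw [h, Cfsg.NearField.mul_zero] at hc; exact hx hc.symm
    obtain ⟨c', -, h2⟩ := Cfsg.NearField.exists_inv c hc0
    have h3 : w = (w * c') * c := by rw [mul_assoc, h2, mul_one]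
    rw [← hc, h3, ← Cfsg.NearField.right_distrib, ← Cfsg.NearField.right_distrib]
    congr 1
    exact (congrArg Multiplicative.toAdd (Subgroup.mem_center_iff.1 hz (Multiplicative.ofAdd (w * c')))).symm
  obtain ⟨j, hj⟩ := IsPGroup.iff_card.1 hpg
  rw [Nat.card_congr Multiplicative.toAdd] at hj
  refine ⟨p, j, hp, ?_, hj, hcomm, hpx⟩
  rcases Nat.eq_zero_or_pos j with h | h
  · have := Finite.one_lt_card (α := F)
    rw [hj, h, pow_zero] at this; omega
  · exact h

end Cfsg.Agent.S0682
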