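import Cfsg.Statements.S0683
import Mathlib
import Cfsg.Agent.Lib.Perm.SharpTwo

set_option autoImplicit false
open Cfsg

namespace Cfsg.Agent.S0683

/-- A finite sharply doubly transitive permutation group is the affine group of a near-field: the permuted set carries a near-field structure for which the group consists exactly of the maps `x ↦ x * a + b` with `a ≠ 0`. -/
theorem result {α : Type*} [Fintype α] [DecidableEq α] (H : Subgroup (Equiv.Perm α)) [MulAction.IsMultiplyPretransitive H α 2] (hsharp : ∀ x : Fin 2 ↪ α, MulAction.stabilizer H x = ⊥) (h2 : 2 ≤ Fintype.card α) : ∃ _ : Cfsg.NearField α, ∀ σ : Equiv.Perm α, σ ∈ H ↔ ∃ a b : α, a ≠ 0 ∧ ∀ x : α, σ x = x * a + b := by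
  classical
  obtain ⟨p, j, hp, hj, hcard, T, hTn, hTc, hG, hab, hexp, htr, hstab, -⟩ :=
    Cfsg.Agent.Perm.sharpTwo_kernel H hsharp h2
  haveI : Nontrivial α := Fintype.one_lt_card_iff_nontrivial.1 (by omega)
  obtain ⟨o0, o1, hoo⟩ := exists_pair_ne α
  choose tr htrT using fun x : α => htr.exists_smul_eq o0 x
  have htru : ∀ (u : T) (x : α), u • o0 = x → tr x = u := by
    intro u x hu
    have : u⁻¹ * tr x ∈ MulAction.stabilizer T o0 := by
      simp [MulAction.mem_stabilizer_iff, mul_smul, htrT, ← hu]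
    rw [hstab, Subgroup.mem_bot, inv_mul_eq_one] at this
    exact this.symm
  have hex : ∀ y : α, y ≠ o0 → ∃ h : H, h • o0 = o0 ∧ h • o1 = y := fun y hy =>
    MulAction.is_two_pretransitive_iff.1 ‹MulAction.IsMultiplyPretransitive H α 2› hoo (Ne.symm hy)
  choose sc hsc0 hsc1 using hex
  have hscu : ∀ (h : H) (y : α) (hy : y ≠ o0), h • o0 = o0 → h • o1 = y → sc y hy = h := fun h y hy a b =>
    Cfsg.Agent.Perm.sharpTwo_unique H hsharp hoo ((hsc0 y hy).trans a.symm) ((hsc1 y hy).trans b.symm)
  let mul : α → α → α := fun x y => if hy : y = o0 then o0 else sc y hy • x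
  let add : α → α → α := fun x y => tr y • x
  let neg : α → α := fun x => (tr x)⁻¹ • o0
  have mulv : ∀ x y (hy : y ≠ o0), mul x y = sc y hy • x := fun x y hy => dif_neg hy
  have tr0 : tr o0 = 1 := htru 1 o0 (one_smul _ _)
  have tradd : ∀ x y, tr (add x y) = tr y * tr x := fun x y => htru _ _ (by rw [mul_smul, htrT])
  have tcomm : ∀ u v : T, u * v = v * u := fun u v => Subtype.ext (hab u u.2 v v.2)
  have mul0 : ∀ x, mul x o0 = o0 := fun x => dif_pos rfl
  have zmul : ∀ y, mul o0 y = o0 := by
    intro y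
    by_cases hy : y = o0
    · rw [hy]; exact mul0 _
    · rw [mulv _ _ hy]; exact hsc0 y hy
  have mne : ∀ x y, x ≠ o0 → y ≠ o0 → mul x y ≠ o0 := by
    intro x y hx hy h
    rw [mulv _ _ hy] at h
    exact hx (MulAction.injective (sc y hy) (h.trans (hsc0 y hy).symm))
  have one_mul' : ∀ y, mul o1 y = y := by
    intro y
    by_cases hy : y = o0
    · rw [hy]; exact mul0 _
    · rw [mulv _ _ hy]; exact hsc1 y hy
  have mul_one' : ∀ x, mul x o1 = x := by
    intro x
    rw [mulv _ _ (Ne.symm hoo), hscu 1 o1 (Ne.symm hoo) (one_smul _ _) (one_smul _ _), one_smul]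
  have massoc : ∀ x y z, mul (mul x y) z = mul x (mul y z) := by
    intro x y z
    by_cases hz : z = o0
    · rw [hz, mul0, mul0, mul0]
    by_cases hy : y = o0
    · rw [hy, mul0, zmul, mul0]
    rw [mulv _ _ hy, mulv _ _ hz, mulv x (mul y z) (mne y z hy hz)]
    rw [hscu (sc z hz * sc y hy) (mul y z) (mne y z hy hz) (by rw [mul_smul, hsc0, hsc0])
      (by rw [mul_smul, hsc1, mulv _ _ hz]), mul_smul]
  have rdistrib : ∀ x y z, mul (add x y) z = add (mul x z) (mul y z) := by
    intro x y z
    by_cases hz : z = o0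
    · rw [hz, mul0, mul0, mul0]
      show o0 = tr o0 • o0
      rw [tr0, one_smul]
    rw [mulv _ _ hz, mulv _ _ hz, mulv _ _ hz]
    set h := sc z hz
    let u : T := ⟨h * (tr y : H) * h⁻¹, hTn.conj_mem _ (tr y).2 h⟩
    have : tr (h • y) = u := htru u _ (by
      show (h * (tr y : H) * h⁻¹) • o0 = h • y
      rw [mul_smul, mul_smul, inv_smul_eq_iff.2 (hsc0 z hz).symm]
      exact congrArg (h • ·) (htrT y))
    show h • (tr y • x) = tr (h • y) • (h • x)
    rw [this]
    show h • ((tr y : H) • x) = (h * (tr y : H) * h⁻¹) • (h • x)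
    rw [mul_smul, mul_smul, inv_smul_smul]
  letI iz : Zero α := ⟨o0⟩
  letI ia : Add α := ⟨add⟩
  letI ineg : Neg α := ⟨neg⟩
  let N : Cfsg.NearField α :=
    { add := add, zero := o0, neg := neg
      add_assoc := fun x y z => by
        show tr z • (tr y • x) = tr (add y z) • x
        rw [tradd, mul_smul]
      zero_add := fun x => htrT x
      add_zero := fun x => by show tr o0 • x = x; rw [tr0, one_smul]
      neg_add_cancel := fun x => by
        show tr x • ((tr x)⁻¹ • o0) = o0
        rw [smul_inv_smul]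
      nsmul := nsmulRec
      zsmul := zsmulRec nsmulRec
      mul := mul, one := o1
      mul_assoc := massoc
      one_mul := one_mul'
      mul_one := mul_one'
      right_distrib := rdistrib
      mul_zero := mul0
      zero_ne_one := hoo
      exists_inv := fun a ha => by
        set h := sc a ha
        have hb : h⁻¹ • o1 ≠ o0 := fun e => hoo (by
          rw [inv_smul_eq_iff] at e
          rw [e]; exact (hsc0 a ha).symm)
        refine ⟨h⁻¹ • o1, ?_, ?_⟩
        · show mul a (h⁻¹ • o1) = o1
          rw [mulv _ _ hb, hscu h⁻¹ _ hb (inv_smul_eq_iff.2 (hsc0 a ha).symm) rfl, inv_smul_eq_iff]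
          exact (hsc1 a ha).symm
        · show mul (h⁻¹ • o1) a = o1
          rw [mulv _ _ ha, smul_inv_smul] }
  refine ⟨N, fun σ => ⟨fun hσ => ?_, ?_⟩⟩
  · let s : H := ⟨σ, hσ⟩
    set b := σ o0 with hb
    let h : H := (tr b : H)⁻¹ * s
    have h0 : h • o0 = o0 := by
      rw [mul_smul, inv_smul_eq_iff]
      exact (htrT b).symm
    have hne : h • o1 ≠ o0 := fun e => hoo (MulAction.injective h (h0.trans e.symm))
    refine ⟨h • o1, b, hne, fun x => ?_⟩
    show σ x = tr b • mul x (h • o1)
    rw [mulv _ _ hne, hscu h _ hne h0 rfl]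
    show σ x = (tr b : H) • (((tr b : H)⁻¹ * s) • x)
    rw [← mul_smul, mul_inv_cancel_left]
    rfl
  · rintro ⟨a, b, ha, hab'⟩
    have ha' : a ≠ o0 := ha
    have : σ = (((tr b : H) * sc a ha' : H) : Equiv.Perm α) := by
      ext x
      rw [hab']
      show tr b • mul x a = ((tr b : H) * sc a ha') • x
      rw [mulv _ _ ha', mul_smul]
      rfl
    rw [this]
    exact Subtype.coe_prop _

end Cfsg.Agent.S0683
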