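import Cfsg.Statements.S0685
import Cfsg.Agent.Lib.Perm.NearFieldAbelian

set_option autoImplicit false
open Cfsg

namespace Cfsg.Agent.S0685

/-- In a linear group over the prime field that is regular on non-zero vectors and has no irreducible cyclic normal subgroup, a maximal normal abelian subgroup is properly contained in its centraliser, which is non-abelian. -/
theorem result {p : ℕ} [Fact p.Prime] {V : Type*} [AddCommGroup V] [Module (ZMod p) V] [Finite V] (H : Subgroup (V ≃ₗ[ZMod p] V)) (hreg : ∀ v w : V, v ≠ 0 → w ≠ 0 → ∃! h : H, (h : V ≃ₗ[ZMod p] V) v = w) (hI : ∀ A : Subgroup H, A.Normal → IsCyclic A → ∃ W : Submodule (ZMod p) V, W ≠ ⊥ ∧ W ≠ ⊤ ∧ ∀ a ∈ A, ∀ v ∈ W, ((a : H) : V ≃ₗ[ZMod p] V) v ∈ W) (A : Subgroup H) (hAn : A.Normal) (hAc : IsMulCommutative A) (hAmax : ∀ B : Subgroup H, B.Normal → IsMulCommutative B → A ≤ B → B = A) : A < Subgroup.centralizer (A : Set H) ∧ ¬ IsMulCommutative (Subgroup.centralizer (A : Set H)) := by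
  classical
  obtain ⟨hcyc, W, hW, hWt, hinv, hmin, hdvd⟩ := Cfsg.Lib.Perm.NearFieldAb.exists_minimal hreg hI A hAn hAc
  have hle : A ≤ Subgroup.centralizer (A : Set H) := fun x hx => Subgroup.mem_centralizer_iff.mpr fun y hy =>
    congrArg Subtype.val (hAc.is_comm.comm (⟨y, hy⟩ : A) ⟨x, hx⟩)
  haveI := hAn
  haveI : Finite (V ≃ₗ[ZMod p] V) := Finite.of_injective _ DFunLike.coe_injective
  haveI : Finite (MulAut A) := Finite.of_injective _ DFunLike.coe_injective
  have hne : Subgroup.centralizer (A : Set H) ≠ A := by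
    intro hC
    haveI := hcyc
    -- the group embeds in the holomorph of `A`
    have hker : (MulAut.conjNormal (H := A) : H →* MulAut A).ker ≤ A := by
      refine fun x hx => hC.le (Subgroup.mem_centralizer_iff.mpr fun y hy => ?_)
      have h1 := congrArg Subtype.val (DFunLike.congr_fun (MonoidHom.mem_ker.mp hx) ⟨y, hy⟩)
      rw [MulAut.conjNormal_apply] at h1
      exact (mul_inv_eq_iff_eq_mul.mp h1).symm
    have h1 : Nat.card H ≤ Nat.card A * Nat.card A := by
      rw [← (MulAut.conjNormal (H := A) : H →* MulAut A).ker.card_mul_index, Subgroup.index_ker]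
      refine Nat.mul_le_mul (Subgroup.card_le_of_le hker) ((Subgroup.card_le_card_group _).trans ?_)
      rw [IsCyclic.card_mulAut]; exact Nat.totient_le _
    have hW2 : 2 ≤ Nat.card W :=
      Finite.one_lt_card_iff_nontrivial.mpr ((Submodule.nontrivial_iff_ne_bot).mpr hW)
    have hAle : Nat.card A ≤ Nat.card W - 1 := Nat.le_of_dvd (by omega) hdvd
    obtain ⟨v₀, hv₀W, hv₀⟩ := Submodule.exists_mem_ne_zero_of_ne_bot hW
    have hH : Nat.card H + 1 = Nat.card V := by
      have hbij : Function.Bijective (fun h : H =>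
          (⟨(h : V ≃ₗ[ZMod p] V) v₀, by simpa using hv₀⟩ : {v : V // v ≠ 0})) := by
        refine ⟨fun g h e => ?_, fun v => ?_⟩
        · obtain ⟨w, -, hw⟩ := hreg v₀ ((h : V ≃ₗ[ZMod p] V) v₀) hv₀ (by simpa using hv₀)
          exact (hw g (congrArg Subtype.val e)).trans (hw h rfl).symm
        · obtain ⟨h, hh, -⟩ := hreg v₀ v.1 hv₀ v.2
          exact ⟨h, Subtype.ext hh⟩
      haveI := Fintype.ofFinite V
      rw [Nat.card_congr (Equiv.ofBijective _ hbij), Nat.card_eq_fintype_card, Fintype.card_subtype_compl,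
        Fintype.card_subtype_eq, Nat.card_eq_fintype_card]
      have : 0 < Fintype.card V := Fintype.card_pos
      omega
    -- a translate of `W` meets it trivially
    obtain ⟨v, -, hv⟩ := SetLike.exists_of_lt (lt_top_iff_ne_top.mpr hWt)
    obtain ⟨h, hh, -⟩ := hreg v₀ v hv₀ (fun e => hv (e ▸ W.zero_mem))
    let W' := W.map ((h : V ≃ₗ[ZMod p] V) : V →ₗ[ZMod p] V)
    have hdisj : W ⊓ W' = ⊥ := by
      refine (hmin _ inf_le_left fun a ha u hu => ?_).resolve_right fun e => hv ?_
      · refine ⟨hinv a ha u hu.1, ?_⟩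
        obtain ⟨w, hw, rfl⟩ := hu.2
        exact ⟨((h⁻¹ * a * h : H) : V ≃ₗ[ZMod p] V) w, hinv _ (by simpa using hAn.conj_mem a ha h⁻¹) w hw, by
          show (h : V ≃ₗ[ZMod p] V) (((h : V ≃ₗ[ZMod p] V)⁻¹ * (a : V ≃ₗ[ZMod p] V) * (h : V ≃ₗ[ZMod p] V)) w) = _
          rw [mul_assoc, ← LinearEquiv.mul_apply, mul_inv_cancel_left]
          rfl⟩
      · have hWW : W ≤ W' := inf_eq_left.mp e
        have hcard : Nat.card W' = Nat.card W :=
          (Nat.card_congr (Submodule.equivMapOfInjective _ (h : V ≃ₗ[ZMod p] V).injective W).toEquiv).symm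
        rw [show W = W' from SetLike.coe_injective (Set.eq_of_subset_of_ncard_le hWW (by
          rw [← Nat.card_coe_set_eq, ← Nat.card_coe_set_eq]; exact hcard.le) (Set.toFinite _))]
        exact ⟨v₀, hv₀W, hh⟩
    have h2 : Nat.card W * Nat.card W ≤ Nat.card V := by
      have hinj : Function.Injective (fun x : W × W => (x.1 : V) + (h : V ≃ₗ[ZMod p] V) x.2) := by
        rintro ⟨x, y⟩ ⟨x', y'⟩ e
        have e' : (x : V) + (h : V ≃ₗ[ZMod p] V) y = x' + (h : V ≃ₗ[ZMod p] V) y' := e
        have hmem : (x : V) - x' ∈ W ⊓ W' :=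
          ⟨W.sub_mem x.2 x'.2, ⟨(y' : V) - y, W.sub_mem y'.2 y.2, by
            show (h : V ≃ₗ[ZMod p] V) _ = _
            rw [map_sub, sub_eq_sub_iff_add_eq_add, add_comm, ← e', add_comm]⟩⟩
        rw [hdisj, Submodule.mem_bot, sub_eq_zero] at hmem
        refine Prod.ext (Subtype.ext hmem) (Subtype.ext ((h : V ≃ₗ[ZMod p] V).injective ?_))
        rw [hmem] at e'
        exact add_left_cancel e'
      simpa using Nat.card_le_card_of_injective _ hinj
    obtain ⟨w, hw⟩ : ∃ w, Nat.card W = w + 1 := ⟨Nat.card W - 1, by omega⟩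
    have h3 : Nat.card A * Nat.card A ≤ w * w := Nat.mul_le_mul (by omega) (by omega)
    rw [hw] at h2
    nlinarith
  refine ⟨lt_of_le_of_ne hle (Ne.symm hne), fun hc => hne (hAmax _ inferInstance hc hle)⟩

end Cfsg.Agent.S0685
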