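import Cfsg.Statements.S0687
import Cfsg.Agent.Lib.Perm.Zas25.MinimalNonabelian
-- import your own Cfsg.Agent.* helpers here

set_option autoImplicit false
open Cfsg

namespace Cfsg.Agent.S0687

/-- In a linear group over the prime field that is regular on non-zero vectors and has no irreducible cyclic normal subgroup, a normal subgroup `N` minimal among the non-abelian normal subgroups centralising a maximal normal abelian subgroup `A` is irreducible on `V`, and its centraliser is `A`. -/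
theorem result {p : ℕ} [Fact p.Prime] {V : Type*} [AddCommGroup V] [Module (ZMod p) V] [Finite V] (H : Subgroup (V ≃ₗ[ZMod p] V)) (hreg : ∀ v w : V, v ≠ 0 → w ≠ 0 → ∃! h : H, (h : V ≃ₗ[ZMod p] V) v = w) (hI : ∀ A : Subgroup H, A.Normal → IsCyclic A → ∃ W : Submodule (ZMod p) V, W ≠ ⊥ ∧ W ≠ ⊤ ∧ ∀ a ∈ A, ∀ v ∈ W, ((a : H) : V ≃ₗ[ZMod p] V) v ∈ W) (A : Subgroup H) (hAn : A.Normal) (hAc : IsMulCommutative A) (hAmax : ∀ B : Subgroup H, B.Normal → IsMulCommutative B → A ≤ B → B = A) (N : Subgroup H) (hNn : N.Normal) (hNle : N ≤ Subgroup.centralizer (A : Set H)) (hNna : ¬ IsMulCommutative N) (hNmin : ∀ M : Subgroup H, M.Normal → M ≤ N → ¬ IsMulCommutative M → M = N) : (∀ W : Submodule (ZMod p) V, (∀ n ∈ N, ∀ v ∈ W, ((n : H) : V ≃ₗ[ZMod p] V) v ∈ W) → W = ⊥ ∨ W = ⊤) ∧ Subgroup.centralizer (N : Set H) = A := by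
  classical
  haveI := hAn
  haveI := hNn
  have hp := (Fact.out : p.Prime)
  have hV : Nat.card V = p ^ 2 := by
    by_cases hs : Group.IsSolvable H
    · obtain ⟨q, hq, hVq⟩ : ∃ q, q.Prime ∧ Nat.card V = q ^ 2 := by
        rcases Cfsg.Lib.Perm.NearFieldAb.exceptional_degree hreg hI hs with h | h | h | h
        · exact ⟨5, by norm_num, h⟩
        · exact ⟨7, by norm_num, h⟩
        · exact ⟨11, by norm_num, h⟩
        · exact ⟨23, by norm_num, h⟩
      have hd : p ∣ q ^ 2 := by
        haveI := Cfsg.Lib.Perm.Zas25.nontrivial_of_noncomm hNna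
        rw [← hVq, Module.natCard_eq_pow_finrank (K := ZMod p) (V := V), Nat.card_zmod]
        exact dvd_pow_self p (Module.finrank_pos (R := ZMod p) (M := V)).ne'
      rwa [(Nat.prime_dvd_prime_iff_eq hp hq).mp (hp.dvd_of_dvd_pow hd)]
    · obtain ⟨a, M, -, h, -⟩ := Cfsg.Lib.Perm.Zas25.type_three hreg hs
      exact h
  exact Cfsg.Lib.Perm.Zas25.minimal_nonabelian_irreducible hreg hV A hAc hAmax N hNle hNna

end Cfsg.Agent.S0687
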