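import Cfsg.Statements.S0691
import Cfsg.Agent.Lib.Perm.NearfieldMat

set_option autoImplicit false
open Cfsg

namespace Cfsg.Agent.S0691

def tbl : Fin 24 → Matrix (Fin 2) (Fin 2) (ZMod 5) := ![
  !![1, 0; 0, 1],
  !![2, 0; 0, 3],
  !![3, 0; 0, 2],
  !![4, 0; 0, 4],
  !![0, 4; 1, 0],
  !![1, 2; 1, 3],
  !![2, 2; 1, 4],
  !![3, 2; 1, 1],
  !![4, 2; 1, 2],
  !![0, 2; 2, 0],
  !![1, 1; 2, 3],
  !![2, 1; 2, 4],
  !![3, 1; 2, 1],
  !![4, 1; 2, 2],
  !![0, 3; 3, 0],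
  !![1, 4; 3, 3],
  !![2, 4; 3, 4],
  !![3, 4; 3, 1],
  !![4, 4; 3, 2],
  !![0, 1; 4, 0],
  !![1, 3; 4, 3],
  !![2, 3; 4, 4],
  !![3, 3; 4, 1],
  !![4, 3; 4, 2]]

def words : Fin 24 → List (Fin 3) := ![
  [],
  [0],
  [0, 0, 0],
  [0, 0],
  [1],
  [2],
  [2, 2, 0, 0],
  [2, 2, 1],
  [1, 2],
  [1, 0],
  [2, 1, 2],
  [2, 0],
  [1, 2, 0],
  [2, 0, 1, 2],
  [0, 1],
  [2, 2, 0],
  [2, 1],
  [0, 1, 2],
  [2, 2, 0, 1],
  [1, 0, 0],
  [2, 0, 1],
  [2, 1, 2, 0],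
  [2, 2],
  [2, 0, 0]]

def step : Fin 3 → Fin 24 → Fin 24 := ![
  ![1, 3, 0, 2, 14, 16, 18, 15, 17, 4, 6, 8, 5, 7, 19, 21, 23, 20, 22, 9, 11, 13, 10, 12],
  ![4, 9, 14, 19, 3, 8, 13, 18, 23, 2, 7, 12, 17, 22, 1, 6, 11, 16, 21, 0, 5, 10, 15, 20],
  ![5, 11, 17, 23, 16, 22, 3, 4, 10, 8, 9, 15, 21, 2, 20, 1, 7, 13, 14, 12, 18, 19, 0, 6]]

def gens : Fin 3 → Matrix (Fin 2) (Fin 2) (ZMod 5) := ![
  !![2, 0; 0, 3], !![0, 4; 1, 0], !![1, 2; 1, 3]]

set_option maxRecDepth 100000 in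
set_option maxHeartbeats 4000000 in
theorem table_words : ∀ i, ((words i).map gens).prod = tbl i := by decide +kernel

set_option maxRecDepth 100000 in
set_option maxHeartbeats 4000000 in
theorem table_step : ∀ j i, gens j * tbl i = tbl (step j i) := by decide +kernel

set_option maxRecDepth 100000 in
theorem table_det : ∀ i, i ≠ 0 → (tbl i 0 0 - 1) * (tbl i 1 1 - 1) - tbl i 0 1 * tbl i 1 0 ≠ 0 := by
  decide +kernel

theorem table_one : tbl 0 = 1 := by decide +kernel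

set_option maxRecDepth 100000 in
theorem table_enc : ∀ i : Fin 24, (tbl i 0 0).val + 5 * (tbl i 1 0).val = i.val + 1 := by
  decide +kernel


/-- An exceptional sharply doubly transitive group of degree 5^2: the listed matrices generate a subgroup of GL(2,5) of order 24 acting regularly on the non-zero vectors. -/
theorem result (A : Matrix.GeneralLinearGroup (Fin 2) (ZMod 5)) (B : Matrix.GeneralLinearGroup (Fin 2) (ZMod 5)) (C : Matrix.GeneralLinearGroup (Fin 2) (ZMod 5)) (hA : (A : Matrix (Fin 2) (Fin 2) (ZMod 5)) = !![2, 0; 0, -2]) (hB : (B : Matrix (Fin 2) (Fin 2) (ZMod 5)) = !![0, -1; 1, 0]) (hC : (C : Matrix (Fin 2) (Fin 2) (ZMod 5)) = !![1, 2; 1, -2]) : Nat.card (Subgroup.closure ({A, B, C} : Set (Matrix.GeneralLinearGroup (Fin 2) (ZMod 5)))) = 24 ∧ ∀ v w : Fin 2 → ZMod 5, v ≠ 0 → w ≠ 0 → ∃! h : Subgroup.closure ({A, B, C} : Set (Matrix.GeneralLinearGroup (Fin 2) (ZMod 5))), Matrix.mulVec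 ((h : Matrix.GeneralLinearGroup (Fin 2) (ZMod 5)) : Matrix (Fin 2) (Fin 2) (ZMod 5)) v = w := by
  haveI : Fact (Nat.Prime 5) := ⟨by norm_num⟩
  have hset : ({A, B, C} : Set (Matrix.GeneralLinearGroup (Fin 2) (ZMod 5)))
      = Set.range ![A, B, C] := by
    ext x
    simp [or_comm, or_left_comm, or_assoc]
  rw [hset]
  refine Cfsg.Agent.NearfieldMat.regular_of_table ![A, B, C] gens ?_ (n := 24) (by norm_num) tbl words step 0
    table_words table_step table_one table_det table_enc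
  intro j
  fin_cases j
  · exact hA.trans (by decide +kernel)
  · exact hB.trans (by decide +kernel)
  · exact hC.trans (by decide +kernel)

end Cfsg.Agent.S0691
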