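import Cfsg.Statements.S0692
import Cfsg.Agent.Lib.Perm.NearfieldMat

set_option autoImplicit false
open Cfsg

namespace Cfsg.Agent.S0692

def tbl : Fin 120 → Matrix (Fin 2) (Fin 2) (ZMod 11) := ![
  !![1, 0; 0, 1],
  !![2, 7; 0, 6],
  !![3, 10; 0, 4],
  !![4, 1; 0, 3],
  !![5, 7; 0, 9],
  !![6, 4; 0, 2],
  !![7, 10; 0, 8],
  !![8, 1; 0, 7],
  !![9, 4; 0, 5],
  !![10, 0; 0, 10],
  !![0, 10; 1, 0],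
  !![1, 1; 1, 2],
  !![2, 4; 1, 8],
  !![3, 4; 1, 9],
  !![4, 0; 1, 3],
  !![5, 2; 1, 5],
  !![6, 2; 1, 6],
  !![7, 5; 1, 4],
  !![8, 0; 1, 7],
  !![9, 1; 1, 10],
  !![10, 9; 1, 1],
  !![0, 5; 2, 7],
  !![1, 10; 2, 10],
  !![2, 2; 2, 8],
  !![3, 2; 2, 9],
  !![4, 5; 2, 0],
  !![5, 1; 2, 5],
  !![6, 1; 2, 6],
  !![7, 3; 2, 1],
  !![8, 6; 2, 3],
  !![9, 3; 2, 2],
  !![10, 3; 2, 4],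
  !![0, 7; 3, 10],
  !![1, 7; 3, 0],
  !![2, 3; 3, 5],
  !![3, 3; 3, 7],
  !![4, 3; 3, 8],
  !![5, 6; 3, 6],
  !![6, 3; 3, 9],
  !![7, 2; 3, 1],
  !![8, 4; 3, 3],
  !![9, 2; 3, 2],
  !![10, 2; 3, 4],
  !![0, 8; 4, 1],
  !![1, 4; 4, 6],
  !![2, 1; 4, 8],
  !![3, 1; 4, 9],
  !![4, 4; 4, 7],
  !![5, 4; 4, 10],
  !![6, 0; 4, 2],
  !![7, 4; 4, 4],
  !![8, 3; 4, 3],
  !![9, 0; 4, 5],
  !![10, 8; 4, 0],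
  !![0, 2; 5, 7],
  !![1, 6; 5, 9],
  !![2, 6; 5, 10],
  !![3, 9; 5, 8],
  !![4, 2; 5, 0],
  !![5, 5; 5, 3],
  !![6, 8; 5, 5],
  !![7, 1; 5, 4],
  !![8, 5; 5, 6],
  !![9, 6; 5, 1],
  !![10, 6; 5, 2],
  !![0, 9; 6, 4],
  !![1, 5; 6, 9],
  !![2, 5; 6, 10],
  !![3, 6; 6, 5],
  !![4, 10; 6, 7],
  !![5, 3; 6, 6],
  !![6, 6; 6, 8],
  !![7, 9; 6, 0],
  !![8, 2; 6, 3],
  !![9, 5; 6, 1],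
  !![10, 5; 6, 2],
  !![0, 3; 7, 10],
  !![1, 3; 7, 0],
  !![2, 0; 7, 6],
  !![3, 8; 7, 8],
  !![4, 7; 7, 7],
  !![5, 0; 7, 9],
  !![6, 7; 7, 1],
  !![7, 7; 7, 4],
  !![8, 10; 7, 2],
  !![9, 10; 7, 3],
  !![10, 7; 7, 5],
  !![0, 4; 8, 1],
  !![1, 9; 8, 7],
  !![2, 9; 8, 9],
  !![3, 7; 8, 8],
  !![4, 9; 8, 10],
  !![5, 8; 8, 2],
  !![6, 5; 8, 5],
  !![7, 8; 8, 3],
  !![8, 8; 8, 4],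
  !![9, 8; 8, 6],
  !![10, 4; 8, 0],
  !![0, 6; 9, 4],
  !![1, 8; 9, 7],
  !![2, 8; 9, 9],
  !![3, 5; 9, 8],
  !![4, 8; 9, 10],
  !![5, 10; 9, 5],
  !![6, 10; 9, 6],
  !![7, 6; 9, 0],
  !![8, 9; 9, 2],
  !![9, 9; 9, 3],
  !![10, 1; 9, 1],
  !![0, 1; 10, 0],
  !![1, 2; 10, 10],
  !![2, 10; 10, 1],
  !![3, 0; 10, 4],
  !![4, 6; 10, 7],
  !![5, 9; 10, 5],
  !![6, 9; 10, 6],
  !![7, 0; 10, 8],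
  !![8, 7; 10, 2],
  !![9, 7; 10, 3],
  !![10, 10; 10, 9]]

def words : Fin 120 → List (Fin 2) := ![
  [],
  [0, 1, 0, 1, 0, 0, 0],
  [1, 0, 1, 0, 1, 1, 0, 1, 0, 1],
  [0, 1, 0, 1, 1, 0, 1, 0, 0, 0],
  [1, 0, 1, 0, 1],
  [1, 0, 1, 0, 1, 0, 0],
  [0, 1, 0, 1, 1, 0, 1, 0],
  [0, 1, 1, 0, 1, 0, 1, 1, 0],
  [0, 1, 0, 1, 0],
  [0, 0],
  [0],
  [0, 1, 0, 1, 1],
  [1],
  [1, 1, 0, 0],
  [1, 1, 0, 1, 0, 1, 1],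
  [0, 1, 1, 0, 1, 0, 1, 0, 0],
  [1, 1, 0, 1, 1, 0, 1, 0, 0, 0],
  [0, 1, 1, 0, 1, 0, 1, 1, 0, 1, 0],
  [1, 0, 1, 1, 0, 1, 0, 0],
  [1, 0, 1, 1, 0, 0, 0],
  [1, 0, 1, 1, 0, 0],
  [1, 0, 1, 0],
  [0, 1, 0, 1, 1, 0],
  [0, 1, 0, 1, 1, 0, 1, 0, 1, 0, 0, 0],
  [1, 0, 1, 1, 0, 1, 0, 1, 0, 0],
  [1, 0, 1, 0, 1, 0, 0, 0],
  [1, 0, 1, 0, 1, 1, 0, 0],
  [1, 1, 0, 1, 0, 1, 0],
  [1, 1, 0],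
  [1, 0, 1, 1, 0, 1, 0, 1, 1, 0, 0],
  [1, 0, 1, 1, 0, 1, 0, 1, 0],
  [0, 1],
  [1, 1, 0, 1, 0, 1, 1, 0],
  [0, 1, 0, 1, 1, 0, 1],
  [0, 1, 0, 1, 1, 0, 1, 0, 1, 1],
  [1, 0, 1, 0, 1, 1, 0, 1],
  [1, 1, 0, 1, 1, 0, 1, 0, 1, 0],
  [0, 1, 1, 0, 1, 0, 0, 0],
  [1, 1, 0, 1, 0, 1, 1, 0, 1, 0, 1],
  [1, 0, 0, 0],
  [1, 1, 0, 1, 1, 0, 1, 0, 1],
  [0, 1, 0, 1, 1, 0, 1, 0, 1, 0, 0],
  [0, 1, 1, 0, 0],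
  [1, 0, 1, 1, 0, 1, 0],
  [1, 1, 0, 1, 0, 1, 1, 0, 1, 0],
  [0, 1, 1, 0, 0, 0],
  [0, 1, 0],
  [1, 1, 0, 1, 0, 1, 1, 0, 1, 0, 1, 1],
  [1, 0, 1, 0, 1, 1, 0, 1, 0, 1, 1],
  [1, 0, 1],
  [1, 0, 1, 1, 0, 1, 0, 1, 1, 0, 1, 0],
  [1, 0, 1, 0, 1, 1, 0, 1, 0, 0, 0],
  [1, 1, 0, 1, 1],
  [0, 1, 1, 0, 1, 0, 1, 1],
  [1, 1, 0, 1, 1, 0],
  [1, 0, 1, 0, 1, 1, 0, 0, 0],
  [0, 1, 1, 0, 1, 0, 1, 0, 0, 0],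
  [0, 1, 0, 1, 1, 0, 1, 0, 1, 1, 0],
  [0, 1, 0, 1, 0, 0],
  [0, 1, 1, 0, 1, 0, 0],
  [1, 1, 0, 1],
  [1, 1, 0, 1, 0, 1, 1, 0, 1],
  [1, 1, 0, 1, 0],
  [1, 1, 0, 1, 1, 0, 1, 0, 0],
  [1, 1, 0, 1, 0, 1],
  [1, 1, 0, 1, 1, 0, 0, 0],
  [1, 1, 0, 1, 0, 1, 0, 0],
  [1, 1, 0, 1, 1, 0, 1],
  [1, 1, 0, 1, 0, 0, 0],
  [1, 1, 0, 1, 0, 1, 1, 0, 1, 0, 0],
  [1, 1, 0, 1, 0, 0],
  [0, 1, 1, 0, 1],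
  [0, 1, 0, 1],
  [0, 1, 1, 0, 1, 0, 1, 1, 0, 1, 0, 1],
  [0, 1, 1, 0, 1, 0, 1, 0],
  [1, 0, 1, 0, 1, 1, 0],
  [1, 0, 1, 1, 0, 1, 0, 0, 0],
  [0, 1, 1, 0, 1, 0, 1, 1, 0, 0],
  [1, 1, 0, 1, 1, 0, 0],
  [1, 0, 1, 0, 1, 1, 0, 1, 0],
  [0, 1, 0, 1, 1, 0, 1, 0, 1, 1, 0, 1],
  [1, 0, 1, 0, 0],
  [0, 1, 1, 0, 1, 0, 1, 1, 0, 1],
  [1, 0, 1, 1, 0, 1, 0, 1, 1, 0, 1],
  [0, 1, 0, 0, 0],
  [0, 1, 1, 0],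
  [1, 1, 0, 1, 0, 1, 1, 0, 1, 0, 0, 0],
  [1, 1, 0, 1, 0, 1, 1, 0, 0, 0],
  [0, 1, 1],
  [0, 1, 0, 1, 1, 0, 1, 0, 1],
  [1, 1, 0, 1, 1, 0, 1, 0, 1, 0, 0],
  [1, 0],
  [1, 0, 1, 1, 0, 1, 0, 1, 1, 0],
  [0, 1, 1, 0, 1, 0],
  [1, 1, 0, 1, 1, 0, 1, 0, 1, 0, 0, 0],
  [1, 0, 1, 0, 1, 1, 0, 1, 0, 0],
  [0, 1, 0, 1, 1, 0, 1, 0, 1, 1, 0, 0],
  [0, 1, 0, 1, 1, 0, 1, 0, 0],
  [1, 0, 1, 0, 0, 0],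
  [0, 1, 0, 0],
  [1, 0, 1, 1, 0, 1, 0, 1, 0, 0, 0],
  [1, 0, 1, 1, 0, 1, 0, 1, 1],
  [1, 1, 0, 0, 0],
  [1, 1, 0, 1, 0, 1, 0, 0, 0],
  [1, 0, 1, 0, 1, 1],
  [1, 0, 1, 0, 1, 0],
  [1, 0, 1, 1, 0, 1, 0, 1],
  [0, 1, 0, 1, 1, 0, 1, 0, 1, 0],
  [0, 1, 0, 1, 1, 0, 0, 0],
  [0, 0, 0],
  [1, 0, 1, 1],
  [1, 0, 1, 1, 0],
  [1, 0, 1, 1, 0, 1],
  [1, 0, 1, 0, 1, 1, 0, 1, 0, 1, 1, 0],
  [1, 1, 0, 1, 1, 0, 1, 0],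
  [0, 1, 1, 0, 1, 0, 1],
  [1, 1, 0, 1, 0, 1, 1, 0, 0],
  [1, 1],
  [1, 0, 0],
  [0, 1, 0, 1, 1, 0, 0]]

def step : Fin 2 → Fin 120 → Fin 120 := ![
  ![10, 21, 32, 43, 54, 65, 76, 87, 98, 109, 9, 20, 31, 42, 53, 64, 75, 86, 97, 108, 119, 8, 19, 30, 41, 52, 63, 74, 85, 96, 107, 118, 7, 18, 29, 40, 51, 62, 73, 84, 95, 106, 117, 6, 17, 28, 39, 50, 61, 72, 83, 94, 105, 116, 5, 16, 27, 38, 49, 60, 71, 82, 93, 104, 115, 4, 15, 26, 37, 48, 59, 70, 81, 92, 103, 114, 3, 14, 25, 36, 47, 58, 69, 80, 91, 102, 113, 2, 13, 24, 35, 46, 57, 68, 79, 90, 101, 112, 1, 12, 23, 34, 45, 56, 67, 78, 89, 100, 111, 0, 11, 22, 33, 44, 55, 66, 77, 88, 99, 110],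
  ![12, 25, 38, 51, 64, 66, 79, 92, 105, 118, 91, 104, 117, 9, 11, 24, 37, 50, 63, 65, 78, 62, 75, 77, 90, 103, 116, 8, 10, 23, 36, 49, 22, 35, 48, 61, 74, 76, 89, 102, 115, 7, 20, 114, 6, 19, 21, 34, 47, 60, 73, 86, 88, 101, 85, 87, 100, 113, 5, 18, 31, 33, 46, 59, 72, 45, 58, 71, 84, 97, 99, 112, 4, 17, 30, 32, 16, 29, 42, 44, 57, 70, 83, 96, 98, 111, 3, 108, 110, 2, 15, 28, 41, 43, 56, 69, 82, 95, 68, 81, 94, 107, 109, 1, 14, 27, 40, 53, 55, 39, 52, 54, 67, 80, 93, 106, 119, 0, 13, 26]]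

def gens : Fin 2 → Matrix (Fin 2) (Fin 2) (ZMod 11) := ![
  !![0, 10; 1, 0], !![2, 4; 1, 8]]

set_option maxRecDepth 100000 in
set_option maxHeartbeats 4000000 in
theorem table_words : ∀ i, ((words i).map gens).prod = tbl i := by decide +kernel

set_option maxRecDepth 100000 in
set_option maxHeartbeats 4000000 in
theorem table_step : ∀ j i, gens j * tbl i = tbl (step j i) := by decide +kernel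

set_option maxRecDepth 100000 in
theorem table_det : ∀ i, i ≠ 0 → (tbl i 0 0 - 1) * (tbl i 1 1 - 1) - tbl i 0 1 * tbl i 1 0 ≠ 0 := by
  decide +kernel

theorem table_one : tbl 0 = 1 := by decide +kernel

set_option maxRecDepth 100000 in
theorem table_enc : ∀ i : Fin 120, (tbl i 0 0).val + 11 * (tbl i 1 0).val = i.val + 1 := by
  decide +kernel


/-- An exceptional sharply doubly transitive group of degree 11^2: the listed matrices generate a subgroup of GL(2,11) of order 120 acting regularly on the non-zero vectors. -/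
theorem result (A : Matrix.GeneralLinearGroup (Fin 2) (ZMod 11)) (B : Matrix.GeneralLinearGroup (Fin 2) (ZMod 11)) (hA : (A : Matrix (Fin 2) (Fin 2) (ZMod 11)) = !![0, -1; 1, 0]) (hB : (B : Matrix (Fin 2) (Fin 2) (ZMod 11)) = !![2, 4; 1, -3]) : Nat.card (Subgroup.closure ({A, B} : Set (Matrix.GeneralLinearGroup (Fin 2) (ZMod 11)))) = 120 ∧ ∀ v w : Fin 2 → ZMod 11, v ≠ 0 → w ≠ 0 → ∃! h : Subgroup.closure ({A, B} : Set (Matrix.GeneralLinearGroup (Fin 2) (ZMod 11))), Matrix.mulVec ((h : Matrix.GeneralLinearGroup (Fin 2) (ZMod 11)) : Matrix (Fin 2) (Fin 2) (ZMod 11)) v = w := by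
  haveI : Fact (Nat.Prime 11) := ⟨by norm_num⟩
  have hset : ({A, B} : Set (Matrix.GeneralLinearGroup (Fin 2) (ZMod 11)))
      = Set.range ![A, B] := by
    ext x
    simp [or_comm, or_left_comm, or_assoc]
  rw [hset]
  refine Cfsg.Agent.NearfieldMat.regular_of_table ![A, B] gens ?_ (n := 120) (by norm_num) tbl words step 0
    table_words table_step table_one table_det table_enc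
  intro j
  fin_cases j
  · exact hA.trans (by decide +kernel)
  · exact hB.trans (by decide +kernel)

end Cfsg.Agent.S0692
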