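import Cfsg.Statements.S0693
import Mathlib

set_option autoImplicit false
open Cfsg

namespace Cfsg.Agent.S0693

open Matrix

variable {p : ℕ} [Fact p.Prime] {k n : ℕ}

theorem regular_of_family
    (G : Fin k → Matrix.GeneralLinearGroup (Fin 2) (ZMod p))
    (g : Fin k → Matrix (Fin 2) (Fin 2) (ZMod p))
    (hG : ∀ j, (G j : Matrix (Fin 2) (Fin 2) (ZMod p)) = g j)
    {ι : Type} [Fintype ι] (hι : Fintype.card ι = n) (hn : n + 1 = p * p)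
    (M : ι → Matrix (Fin 2) (Fin 2) (ZMod p))
    (W : ι → List (Fin k)) (T : Fin k → ι → ι) (o : ι)
    (hW : ∀ i, ((W i).map g).prod = M i)
    (hT : ∀ j i, g j * M i = M (T j i))
    (ho : M o = 1)
    (hdet : ∀ i, i ≠ o → (M i 0 0 - 1) * (M i 1 1 - 1) - M i 0 1 * M i 1 0 ≠ 0)
    (henc : Function.Injective M) :
    Nat.card (Subgroup.closure (Set.range G)) = n ∧
      ∀ v w : Fin 2 → ZMod p, v ≠ 0 → w ≠ 0 → ∃! h : Subgroup.closure (Set.range G),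
        Matrix.mulVec ((h : Matrix.GeneralLinearGroup (Fin 2) (ZMod p)) :
          Matrix (Fin 2) (Fin 2) (ZMod p)) v = w := by
  classical
  set H := Subgroup.closure (Set.range G) with hH
  have hlist : ∀ l : List (Fin k), ∃ h : H,
      ((h : Matrix.GeneralLinearGroup (Fin 2) (ZMod p)) : Matrix (Fin 2) (Fin 2) (ZMod p))
        = (l.map g).prod := by
    intro l
    induction l with
    | nil => exact ⟨1, by simp⟩
    | cons a l ih =>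
        obtain ⟨h, hh⟩ := ih
        refine ⟨⟨G a, Subgroup.subset_closure ⟨a, rfl⟩⟩ * h, ?_⟩
        simp [hG, hh]
  choose e he using fun i => hlist (W i)
  have he' : ∀ i, ((e i : Matrix.GeneralLinearGroup (Fin 2) (ZMod p)) :
      Matrix (Fin 2) (Fin 2) (ZMod p)) = M i := fun i => (he i).trans (hW i)
  have einj : Function.Injective e := by
    intro i j hij
    have h1 : M i = M j := by rw [← he' i, ← he' j, hij]
    exact henc h1
  let S : Set (Matrix.GeneralLinearGroup (Fin 2) (ZMod p)) := Set.range fun i => (e i).1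
  have hstep : ∀ h ∈ H, ∀ x ∈ S, h * x ∈ S := by
    intro h hh
    refine Subgroup.closure_induction_left (p := fun h _ => ∀ x ∈ S, h * x ∈ S)
      ?_ ?_ ?_ hh
    · intro x hx; simpa using hx
    · rintro _ ⟨j, rfl⟩ y _ ih x hx
      obtain ⟨i, hi⟩ := ih x hx
      refine ⟨T j i, ?_⟩
      apply Units.ext
      have hi' : (e i).1 = y * x := hi
      rw [mul_assoc, ← hi', Units.val_mul, hG, he', he', hT]
    · rintro _ ⟨j, rfl⟩ y _ ih x hx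
      have hinj : Set.InjOn (fun z => G j * z) S := fun a _ b _ hab => mul_left_cancel hab
      have hmaps : Set.MapsTo (fun z => G j * z) S S := by
        rintro _ ⟨i, rfl⟩
        refine ⟨T j i, ?_⟩
        apply Units.ext
        simp only [Units.val_mul]
        rw [hG, he', he', hT]
      have hsurj := ((Set.finite_range _).injOn_iff_bijOn_of_mapsTo hmaps).mp hinj
      obtain ⟨z, hz, hzx⟩ := hsurj.surjOn (ih x hx)
      have : (G j)⁻¹ * y * x = z := by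
        rw [mul_assoc, ← hzx, ← mul_assoc, inv_mul_cancel, one_mul]
      rw [this]; exact hz
  have esurj : Function.Surjective e := by
    intro h
    have h1 : (e o).1 = 1 := Units.ext (by rw [he', ho]; rfl)
    obtain ⟨i, hi⟩ := hstep h h.2 (e o).1 ⟨o, rfl⟩
    refine ⟨i, Subtype.ext ?_⟩
    rw [h1, mul_one] at hi
    exact hi
  let E : ι ≃ H := Equiv.ofBijective e ⟨einj, esurj⟩
  have hcard : Nat.card H = n := by rw [← Nat.card_congr E, Nat.card_eq_fintype_card, hι]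
  refine ⟨hcard, fun v w hv hw => ?_⟩
  let act : H → {u : Fin 2 → ZMod p // u ≠ 0} := fun h =>
    ⟨Matrix.mulVec ((h : Matrix.GeneralLinearGroup (Fin 2) (ZMod p)) :
        Matrix (Fin 2) (Fin 2) (ZMod p)) v, by
      intro h0
      apply hv
      have := congrArg (Matrix.mulVec (((h : Matrix.GeneralLinearGroup (Fin 2) (ZMod p))⁻¹ :
        Matrix.GeneralLinearGroup (Fin 2) (ZMod p)) : Matrix (Fin 2) (Fin 2) (ZMod p))) h0
      rwa [Matrix.mulVec_mulVec, ← Units.val_mul, inv_mul_cancel, Units.val_one,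
        Matrix.one_mulVec, Matrix.mulVec_zero] at this⟩
  have ainj : Function.Injective act := by
    intro a b hab
    have hab' := congrArg Subtype.val hab
    obtain ⟨i, hi⟩ := esurj (a⁻¹ * b)
    by_cases hio : i = o
    · subst hio
      have : ((a⁻¹ * b : H) : Matrix.GeneralLinearGroup (Fin 2) (ZMod p)) = 1 := by
        rw [← hi]; exact Units.ext (by rw [he', ho]; rfl)
      exact (inv_mul_eq_one.mp (Subtype.ext this))
    · exfalso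
      have hfix : Matrix.mulVec (M i) v = v := by
        rw [← he', hi]
        simp only [act] at hab'
        rw [Subgroup.coe_mul, Units.val_mul, ← Matrix.mulVec_mulVec, ← hab',
          Matrix.mulVec_mulVec, ← Units.val_mul, Subgroup.coe_inv, inv_mul_cancel,
          Units.val_one, Matrix.one_mulVec]
      apply hv
      apply Matrix.eq_zero_of_mulVec_eq_zero (M := M i - 1)
      · rw [Matrix.det_fin_two]
        simpa using hdet i hio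
      · rw [Matrix.sub_mulVec, hfix, Matrix.one_mulVec, sub_self]
  haveI : Finite H := Finite.of_equiv _ E
  haveI := Fintype.ofFinite H
  have hbij : Function.Bijective act := by
    rw [Fintype.bijective_iff_injective_and_card]
    refine ⟨ainj, ?_⟩
    have : Fintype.card {u : Fin 2 → ZMod p // u ≠ 0} = n := by
      rw [Fintype.card_subtype_compl, Fintype.card_subtype_eq]
      simp [ZMod.card, pow_two]
      omega
    rw [this, ← Nat.card_eq_fintype_card, hcard]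
  obtain ⟨h, hh⟩ := hbij.2 ⟨w, hw⟩
  refine ⟨h, congrArg Subtype.val hh, fun h' hh' => hbij.1 ?_⟩
  rw [hh]
  exact Subtype.ext hh'


def tbl : Fin 120 → Matrix (Fin 2) (Fin 2) (ZMod 59) := ![
  !![1, 0; 0, 1],
  !![0, 58; 1, 0],
  !![9, 15; 49, 49],
  !![58, 0; 0, 58],
  !![15, 50; 49, 10],
  !![10, 10; 9, 15],
  !![49, 44; 10, 9],
  !![0, 1; 58, 0],
  !![50, 44; 10, 10],
  !![10, 49; 15, 50],
  !![44, 10; 9, 49],
  !![48, 20; 46, 45],
  !![49, 50; 49, 44],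
  !![44, 9; 10, 49],
  !![49, 49; 50, 44],
  !![10, 15; 49, 50],
  !![20, 11; 45, 13],
  !![50, 10; 44, 10],
  !![13, 14; 48, 20],
  !![1, 29; 4, 58],
  !![55, 48; 23, 4],
  !![49, 10; 44, 9],
  !![15, 49; 50, 10],
  !![11, 39; 13, 14],
  !![10, 9; 10, 15],
  !![14, 46; 20, 11],
  !![29, 58; 58, 55],
  !![48, 4; 4, 36],
  !![11, 13; 39, 14],
  !![55, 1; 1, 29],
  !![36, 55; 55, 48],
  !![14, 20; 46, 11],
  !![39, 48; 14, 46],
  !![9, 49; 15, 49],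
  !![46, 45; 11, 39],
  !![58, 30; 55, 1],
  !![4, 11; 36, 55],
  !![13, 48; 14, 20],
  !![1, 4; 29, 58],
  !![55, 23; 48, 4],
  !![20, 45; 11, 13],
  !![35, 32; 31, 25],
  !![38, 31; 30, 54],
  !![28, 35; 34, 32],
  !![45, 13; 39, 48],
  !![30, 1; 1, 4],
  !![11, 55; 55, 23],
  !![48, 46; 20, 45],
  !![4, 58; 58, 30],
  !![23, 4; 4, 11],
  !![45, 39; 13, 48],
  !![32, 24; 25, 28],
  !![31, 21; 54, 29],
  !![35, 31; 32, 25],
  !![28, 34; 35, 32],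
  !![29, 5; 38, 31],
  !![25, 27; 28, 35],
  !![54, 28; 29, 38],
  !![46, 11; 45, 39],
  !![58, 55; 30, 1],
  !![4, 36; 11, 55],
  !![39, 14; 48, 46],
  !![24, 27; 28, 34],
  !![21, 28; 29, 5],
  !![31, 24; 25, 27],
  !![34, 31; 32, 24],
  !![5, 30; 31, 21],
  !![27, 34; 35, 31],
  !![28, 5; 38, 30],
  !![10, 19; 19, 48],
  !![5, 38; 38, 53],
  !![30, 21; 54, 28],
  !![27, 35; 34, 31],
  !![28, 38; 5, 30],
  !![24, 28; 27, 34],
  !![31, 25; 24, 27],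
  !![30, 54; 21, 28],
  !![34, 32; 31, 24],
  !![5, 31; 30, 21],
  !![19, 49; 48, 40],
  !![38, 54; 53, 21],
  !![21, 29; 28, 5],
  !![40, 11; 10, 19],
  !![21, 6; 5, 38],
  !![25, 16; 42, 34],
  !![18, 19; 45, 41],
  !![25, 28; 27, 35],
  !![54, 29; 28, 38],
  !![32, 25; 24, 28],
  !![31, 54; 21, 29],
  !![49, 40; 40, 11],
  !![54, 21; 21, 6],
  !![29, 38; 5, 31],
  !![11, 19; 19, 49],
  !![6, 38; 38, 54],
  !![16, 34; 34, 17],
  !![19, 41; 41, 14],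
  !![38, 30; 31, 54],
  !![17, 25; 25, 16],
  !![14, 18; 18, 19],
  !![40, 10; 11, 19],
  !![21, 5; 6, 38],
  !![19, 48; 49, 40],
  !![38, 53; 54, 21],
  !![34, 43; 17, 25],
  !![41, 40; 14, 18],
  !![25, 42; 16, 34],
  !![18, 45; 19, 41],
  !![40, 18; 18, 45],
  !![56, 52; 52, 3],
  !![42, 34; 34, 43],
  !![48, 40; 40, 10],
  !![53, 21; 21, 5],
  !![43, 25; 25, 42],
  !![45, 41; 41, 40],
  !![52, 3; 3, 7],
  !![34, 17; 43, 25],
  !![41, 14; 40, 18],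
  !![7, 56; 56, 52],
  !![3, 7; 7, 56]]

def words : Fin 120 → List (Fin 2) := ![
  [],
  [0],
  [1],
  [0, 0],
  [1, 0],
  [0, 1],
  [1, 1],
  [0, 0, 0],
  [1, 0, 0],
  [0, 1, 0],
  [1, 1, 0],
  [1, 0, 1],
  [0, 1, 1],
  [1, 0, 0, 0],
  [0, 1, 0, 0],
  [1, 1, 0, 0],
  [1, 0, 1, 0],
  [0, 1, 1, 0],
  [0, 1, 0, 1],
  [1, 1, 0, 1],
  [1, 0, 1, 1],
  [0, 1, 0, 0, 0],
  [1, 1, 0, 0, 0],
  [1, 0, 1, 0, 0],
  [0, 1, 1, 0, 0],
  [0, 1, 0, 1, 0],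
  [1, 1, 0, 1, 0],
  [1, 0, 1, 1, 0],
  [1, 0, 1, 0, 1],
  [0, 1, 1, 0, 1],
  [0, 1, 0, 1, 1],
  [1, 1, 0, 1, 1],
  [1, 0, 1, 0, 0, 0],
  [0, 1, 1, 0, 0, 0],
  [0, 1, 0, 1, 0, 0],
  [1, 1, 0, 1, 0, 0],
  [1, 0, 1, 1, 0, 0],
  [1, 0, 1, 0, 1, 0],
  [0, 1, 1, 0, 1, 0],
  [0, 1, 0, 1, 1, 0],
  [1, 1, 0, 1, 1, 0],
  [1, 1, 0, 1, 0, 1],
  [1, 0, 1, 1, 0, 1],
  [1, 0, 1, 0, 1, 1],
  [0, 1, 0, 1, 0, 0, 0],
  [1, 1, 0, 1, 0, 0, 0],
  [1, 0, 1, 1, 0, 0, 0],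
  [1, 0, 1, 0, 1, 0, 0],
  [0, 1, 1, 0, 1, 0, 0],
  [0, 1, 0, 1, 1, 0, 0],
  [1, 1, 0, 1, 1, 0, 0],
  [1, 1, 0, 1, 0, 1, 0],
  [1, 0, 1, 1, 0, 1, 0],
  [1, 0, 1, 0, 1, 1, 0],
  [0, 1, 1, 0, 1, 0, 1],
  [0, 1, 0, 1, 1, 0, 1],
  [1, 1, 0, 1, 1, 0, 1],
  [1, 1, 0, 1, 0, 1, 1],
  [1, 0, 1, 0, 1, 0, 0, 0],
  [0, 1, 1, 0, 1, 0, 0, 0],
  [0, 1, 0, 1, 1, 0, 0, 0],
  [1, 1, 0, 1, 1, 0, 0, 0],
  [1, 1, 0, 1, 0, 1, 0, 0],
  [1, 0, 1, 1, 0, 1, 0, 0],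
  [1, 0, 1, 0, 1, 1, 0, 0],
  [0, 1, 1, 0, 1, 0, 1, 0],
  [0, 1, 0, 1, 1, 0, 1, 0],
  [1, 1, 0, 1, 1, 0, 1, 0],
  [1, 1, 0, 1, 0, 1, 1, 0],
  [1, 0, 1, 1, 0, 1, 0, 1],
  [1, 0, 1, 0, 1, 1, 0, 1],
  [0, 1, 1, 0, 1, 0, 1, 1],
  [1, 1, 0, 1, 0, 1, 0, 0, 0],
  [1, 0, 1, 1, 0, 1, 0, 0, 0],
  [1, 0, 1, 0, 1, 1, 0, 0, 0],
  [0, 1, 1, 0, 1, 0, 1, 0, 0],
  [0, 1, 0, 1, 1, 0, 1, 0, 0],
  [1, 1, 0, 1, 1, 0, 1, 0, 0],
  [1, 1, 0, 1, 0, 1, 1, 0, 0],
  [1, 0, 1, 1, 0, 1, 0, 1, 0],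
  [1, 0, 1, 0, 1, 1, 0, 1, 0],
  [0, 1, 1, 0, 1, 0, 1, 1, 0],
  [0, 1, 0, 1, 1, 0, 1, 0, 1],
  [1, 1, 0, 1, 1, 0, 1, 0, 1],
  [1, 1, 0, 1, 0, 1, 1, 0, 1],
  [1, 0, 1, 1, 0, 1, 0, 1, 1],
  [0, 1, 1, 0, 1, 0, 1, 0, 0, 0],
  [0, 1, 0, 1, 1, 0, 1, 0, 0, 0],
  [1, 1, 0, 1, 1, 0, 1, 0, 0, 0],
  [1, 1, 0, 1, 0, 1, 1, 0, 0, 0],
  [1, 0, 1, 1, 0, 1, 0, 1, 0, 0],
  [1, 0, 1, 0, 1, 1, 0, 1, 0, 0],
  [0, 1, 1, 0, 1, 0, 1, 1, 0, 0],
  [0, 1, 0, 1, 1, 0, 1, 0, 1, 0],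
  [1, 1, 0, 1, 1, 0, 1, 0, 1, 0],
  [1, 1, 0, 1, 0, 1, 1, 0, 1, 0],
  [1, 0, 1, 1, 0, 1, 0, 1, 1, 0],
  [1, 0, 1, 0, 1, 1, 0, 1, 0, 1],
  [0, 1, 1, 0, 1, 0, 1, 1, 0, 1],
  [0, 1, 0, 1, 1, 0, 1, 0, 1, 1],
  [1, 0, 1, 1, 0, 1, 0, 1, 0, 0, 0],
  [1, 0, 1, 0, 1, 1, 0, 1, 0, 0, 0],
  [0, 1, 0, 1, 1, 0, 1, 0, 1, 0, 0],
  [1, 1, 0, 1, 1, 0, 1, 0, 1, 0, 0],
  [1, 1, 0, 1, 0, 1, 1, 0, 1, 0, 0],
  [1, 0, 1, 1, 0, 1, 0, 1, 1, 0, 0],
  [0, 1, 1, 0, 1, 0, 1, 1, 0, 1, 0],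
  [0, 1, 0, 1, 1, 0, 1, 0, 1, 1, 0],
  [1, 1, 0, 1, 0, 1, 1, 0, 1, 0, 1],
  [1, 0, 1, 1, 0, 1, 0, 1, 1, 0, 1],
  [1, 0, 1, 0, 1, 1, 0, 1, 0, 1, 1],
  [0, 1, 0, 1, 1, 0, 1, 0, 1, 0, 0, 0],
  [1, 1, 0, 1, 1, 0, 1, 0, 1, 0, 0, 0],
  [1, 1, 0, 1, 0, 1, 1, 0, 1, 0, 0, 0],
  [0, 1, 0, 1, 1, 0, 1, 0, 1, 1, 0, 0],
  [1, 0, 1, 1, 0, 1, 0, 1, 1, 0, 1, 0],
  [1, 0, 1, 0, 1, 1, 0, 1, 0, 1, 1, 0],
  [0, 1, 1, 0, 1, 0, 1, 1, 0, 1, 0, 1],
  [0, 1, 0, 1, 1, 0, 1, 0, 1, 1, 0, 1],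
  [1, 1, 0, 1, 0, 1, 1, 0, 1, 0, 1, 1]]

def step : Fin 2 → Fin 120 → Fin 120 := ![
  ![1, 3, 5, 7, 9, 8, 12, 0, 14, 13, 17, 18, 15, 21, 2, 24, 25, 22, 23, 29, 30, 4, 33, 34, 6, 32, 38, 39, 40, 35, 36, 37, 44, 10, 11, 48, 49, 50, 45, 46, 47, 54, 55, 56, 16, 59, 60, 61, 19, 20, 58, 65, 66, 67, 62, 63, 64, 71, 31, 26, 27, 28, 75, 76, 77, 72, 73, 74, 81, 82, 83, 78, 86, 87, 88, 41, 42, 43, 92, 93, 94, 89, 90, 91, 98, 99, 51, 52, 53, 97, 102, 103, 57, 100, 101, 106, 107, 68, 104, 105, 111, 112, 69, 70, 110, 114, 113, 108, 117, 118, 84, 79, 80, 116, 85, 109, 95, 96, 119, 115],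
  ![2, 4, 6, 8, 10, 11, 0, 13, 15, 16, 1, 19, 20, 22, 23, 3, 26, 27, 28, 5, 31, 32, 7, 35, 36, 37, 9, 40, 41, 42, 43, 12, 45, 46, 47, 14, 50, 51, 52, 53, 17, 18, 56, 57, 58, 21, 61, 62, 63, 64, 24, 25, 67, 68, 69, 70, 29, 30, 72, 73, 74, 33, 34, 77, 78, 79, 80, 38, 39, 83, 84, 85, 44, 88, 89, 90, 91, 48, 49, 94, 95, 96, 97, 54, 55, 93, 100, 101, 59, 60, 103, 104, 105, 71, 65, 66, 102, 108, 109, 110, 112, 113, 81, 75, 76, 111, 115, 116, 82, 114, 119, 92, 86, 87, 98, 117, 118, 106, 107, 99]]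

/-- the powers of 4 modulo 59 -/
def pw (a : Fin 29) : ZMod 59 := 4 ^ a.val

def fam (x : Fin 29 × Fin 120) : Matrix (Fin 2) (Fin 2) (ZMod 59) := pw x.1 • tbl x.2

def famW (x : Fin 29 × Fin 120) : List (Fin 3) :=
  List.replicate x.1.val 2 ++ (words x.2).map Fin.castSucc

def famT (j : Fin 3) (x : Fin 29 × Fin 120) : Fin 29 × Fin 120 :=
  if h : j.val < 2 then (x.1, step ⟨j.val, h⟩ x.2) else (x.1 + 1, x.2)

def gens : Fin 2 → Matrix (Fin 2) (Fin 2) (ZMod 59) := ![!![0, 58; 1, 0], !![9, 15; 49, 49]]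

def gens3 : Fin 3 → Matrix (Fin 2) (Fin 2) (ZMod 59) :=
  ![!![0, 58; 1, 0], !![9, 15; 49, 49], (4 : ZMod 59) • (1 : Matrix (Fin 2) (Fin 2) (ZMod 59))]

set_option maxRecDepth 100000 in
set_option maxHeartbeats 4000000 in
theorem table_words : ∀ i, ((words i).map gens).prod = tbl i := by decide +kernel

set_option maxRecDepth 100000 in
set_option maxHeartbeats 4000000 in
theorem table_step : ∀ j i, gens j * tbl i = tbl (step j i) := by decide +kernel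

set_option maxRecDepth 100000 in
theorem table_det : ∀ i, tbl i 0 0 * tbl i 1 1 - tbl i 0 1 * tbl i 1 0 = 1 := by decide +kernel

set_option maxRecDepth 100000 in
set_option maxHeartbeats 4000000 in
theorem table_inj : ∀ i j, tbl i = tbl j → i = j := by decide +kernel

set_option maxRecDepth 100000 in
set_option maxHeartbeats 4000000 in
theorem table_eig : ∀ i a, (a, i) ≠ ((0 : Fin 29), (0 : Fin 120)) →
    pw a * pw a - pw a * (tbl i 0 0 + tbl i 1 1) + 1 ≠ 0 := by decide +kernel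

theorem table_one : tbl 0 = 1 := by decide +kernel

theorem pw_sq_inj : ∀ a b : Fin 29, pw a * pw a = pw b * pw b → a = b := by decide +kernel

theorem pw_succ : ∀ a : Fin 29, pw (a + 1) = 4 * pw a := by decide +kernel

theorem pw_ne : ∀ a : Fin 29, pw a ≠ 0 := by decide +kernel

theorem gens3_cast (j : Fin 2) : gens3 j.castSucc = gens j := by
  fin_cases j <;> rfl

theorem fam_inj : Function.Injective fam := by
  haveI : Fact (Nat.Prime 59) := ⟨by norm_num⟩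
  rintro ⟨a, i⟩ ⟨b, j⟩ h
  have e : ∀ r s, pw a * tbl i r s = pw b * tbl j r s := by
    intro r s
    have := congrFun (congrFun h r) s
    simpa [fam, Matrix.smul_apply] using this
  have hd : pw a * pw a = pw b * pw b := by
    have hi := table_det i
    have hj := table_det j
    linear_combination (tbl i 1 1 * pw a) * e 0 0 + (pw b * tbl j 0 0) * e 1 1
      - (tbl i 1 0 * pw a) * e 0 1 - (pw b * tbl j 0 1) * e 1 0
      - (pw a * pw a) * hi + (pw b * pw b) * hj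
  have hab := pw_sq_inj a b hd
  subst hab
  have : tbl i = tbl j := by
    ext r s
    exact mul_left_cancel₀ (pw_ne a) (e r s)
  rw [table_inj i j this]

theorem fam_words (x : Fin 29 × Fin 120) : ((famW x).map gens3).prod = fam x := by
  obtain ⟨a, i⟩ := x
  unfold famW fam
  have h2 : gens3 2 = (4 : ZMod 59) • (1 : Matrix (Fin 2) (Fin 2) (ZMod 59)) := rfl
  have hc : gens3 ∘ Fin.castSucc = gens := funext gens3_cast
  rw [List.map_append, List.prod_append, List.map_replicate, List.prod_replicate, List.map_map,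
    hc, table_words, h2, smul_pow, one_pow, Matrix.smul_mul, Matrix.one_mul]
  rfl

theorem fam_step (j : Fin 3) (x : Fin 29 × Fin 120) : gens3 j * fam x = fam (famT j x) := by
  obtain ⟨a, i⟩ := x
  unfold famT fam
  by_cases h : j.val < 2
  · rw [dif_pos h]
    have hj : j = (⟨j.val, h⟩ : Fin 2).castSucc := Fin.ext rfl
    conv_lhs => rw [hj, gens3_cast]
    rw [Matrix.mul_smul, table_step]
  · rw [dif_neg h]
    have hj : j = 2 := Fin.ext (by have := j.isLt; simp only [Fin.val_two]; omega)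
    subst hj
    have h2 : gens3 2 = (4 : ZMod 59) • (1 : Matrix (Fin 2) (Fin 2) (ZMod 59)) := rfl
    rw [h2, Matrix.smul_mul, Matrix.one_mul, smul_smul, pw_succ]

/-- An exceptional sharply doubly transitive group of degree 59^2: the listed matrices generate a subgroup of GL(2,59) of order 3480 acting regularly on the non-zero vectors. -/
theorem result (A : Matrix.GeneralLinearGroup (Fin 2) (ZMod 59)) (B : Matrix.GeneralLinearGroup (Fin 2) (ZMod 59)) (C : Matrix.GeneralLinearGroup (Fin 2) (ZMod 59)) (hA : (A : Matrix (Fin 2) (Fin 2) (ZMod 59)) = !![0, -1; 1, 0]) (hB : (B : Matrix (Fin 2) (Fin 2) (ZMod 59)) = !![9, 15; -10, -10]) (hC : (C : Matrix (Fin 2) (Fin 2) (ZMod 59)) = !![4, 0; 0, 4]) : Nat.card (Subgroup.closure ({A, B, C} : Set (Matrix.GeneralLinearGroup (Fin 2) (ZMod 59)))) = 3480 ∧ ∀ v w : Fin 2 → ZMod 59, v ≠ 0 → w ≠ 0 → ∃! h : Subgroup.closure ({A, B, C} :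 Set (Matrix.GeneralLinearGroup (Fin 2) (ZMod 59))), Matrix.mulVec ((h : Matrix.GeneralLinearGroup (Fin 2) (ZMod 59)) : Matrix (Fin 2) (Fin 2) (ZMod 59)) v = w := by
  haveI : Fact (Nat.Prime 59) := ⟨by norm_num⟩
  have hset : ({A, B, C} : Set (Matrix.GeneralLinearGroup (Fin 2) (ZMod 59)))
      = Set.range ![A, B, C] := by
    ext x
    simp [or_comm, or_left_comm, or_assoc]
  rw [hset]
  refine regular_of_family ![A, B, C] gens3 ?_ (n := 3480) (ι := Fin 29 × Fin 120) (by simp)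
    (by norm_num) fam famW famT (0, 0) fam_words fam_step ?_ ?_ fam_inj
  · intro j
    fin_cases j
    · exact hA.trans (by decide +kernel)
    · exact hB.trans (by decide +kernel)
    · exact hC.trans (by decide +kernel)
  · simp [fam, pw, table_one]
  · rintro ⟨a, i⟩ hne
    have h := table_eig i a hne
    have hd := table_det i
    simp only [fam, Matrix.smul_apply, smul_eq_mul]
    intro h0
    apply h
    linear_combination h0 - (pw a * pw a) * hd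

end Cfsg.Agent.S0693
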