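import Cfsg.Statements.S0694
import Mathlib

set_option autoImplicit false
open Cfsg

namespace Cfsg.Agent.S0694

/-- `1 + x + ... + x^(i-1)`. -/
def S (x i : ℕ) : ℕ := ∑ j ∈ Finset.range i, x ^ j

theorem S_mul_index (x a b : ℕ) : S x (a * b) = S x a * S (x ^ a) b := by
  induction b with
  | zero => simp [S]
  | succ b ih =>
      rw [Nat.mul_succ]
      unfold S at *
      rw [Finset.sum_range_add, ih, Finset.sum_range_succ, mul_add, ← pow_mul,
        add_right_inj, Finset.sum_mul]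
      refine Finset.sum_congr rfl fun j _ => ?_
      rw [← pow_add, add_comm]

theorem S_modEq (x i s : ℕ) (h : x ≡ 1 [MOD s]) : S x i ≡ i [MOD s] := by
  rw [← ZMod.natCast_eq_natCast_iff] at h ⊢
  simp only [S, Nat.cast_sum, Nat.cast_pow, h, Nat.cast_one, one_pow, Finset.sum_const,
    Finset.card_range, nsmul_eq_mul, mul_one]

theorem S_prime_sq (x r : ℕ) (hr : r.Prime) (hr2 : r ≠ 2) (h : x ≡ 1 [MOD r]) :
    ¬ r ^ 2 ∣ S x r := by
  intro hd
  have hR : ((r : ZMod (r ^ 2)) ^ 2) = 0 := by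
    rw [← Nat.cast_pow, ZMod.natCast_self]
  obtain ⟨k, hk⟩ : ∃ k : ℤ, (x : ℤ) = 1 + r * k := by
    obtain ⟨k, hk⟩ := (Nat.modEq_iff_dvd.mp h.symm)
    exact ⟨k, by push_cast at hk; linarith⟩
  have hx : (x : ZMod (r ^ 2)) = 1 + r * (k : ZMod (r ^ 2)) := by
    have := congrArg (fun z : ℤ => (z : ZMod (r ^ 2))) hk
    simpa using this
  have hpow : ∀ j : ℕ, (x : ZMod (r ^ 2)) ^ j = 1 + (j : ZMod (r ^ 2)) * (r * k) := by
    intro j
    induction j with
    | zero => simp
    | succ j ih =>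
        rw [pow_succ (x : ZMod (r ^ 2)) j, ih, hx]
        push_cast
        linear_combination ((j : ZMod (r ^ 2)) * (k : ZMod (r ^ 2)) ^ 2) * hR
  have hS : (S x r : ZMod (r ^ 2)) = 0 := (ZMod.natCast_eq_zero_iff _ _).mpr hd
  obtain ⟨t, ht⟩ : ∃ t : ℕ, (∑ j ∈ Finset.range r, j) = r * t := by
    obtain ⟨u, hu⟩ := hr.odd_of_ne_two hr2
    refine ⟨u, ?_⟩
    have := Finset.sum_range_id_mul_two r
    rw [show r - 1 = 2 * u by omega] at this
    linarith
  have : (r : ZMod (r ^ 2)) = 0 := by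
    have e : (S x r : ZMod (r ^ 2)) = r + ((∑ j ∈ Finset.range r, j : ℕ) : ZMod (r ^ 2)) * (r * k) := by
      simp only [S, Nat.cast_sum, Nat.cast_pow, hpow, Finset.sum_add_distrib, Finset.sum_const,
        Finset.card_range, nsmul_eq_mul, mul_one, Finset.sum_mul]
    rw [hS, ht, Nat.cast_mul] at e
    linear_combination -e - ((t : ZMod (r ^ 2)) * k) * hR
  rw [ZMod.natCast_eq_zero_iff] at this
  have h1 := Nat.le_of_dvd hr.pos this
  have h2 := hr.two_le
  nlinarith

theorem modEq_one_of_prime_dvd (x r i : ℕ) (hx : 1 ≤ x) (h : r ∣ x - 1) :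
    x ^ i ≡ 1 [MOD r] := by
  have := ((Nat.modEq_iff_dvd' hx).mpr h).symm.pow i
  simpa using this

theorem dvd_pow_sub_one (x r i : ℕ) (h : r ∣ x - 1) : r ∣ x ^ i - 1 :=
  h.trans (Nat.sub_one_dvd_pow_sub_one x i)

theorem dvd_S_self : ∀ n x : ℕ, 1 ≤ x → (∀ r : ℕ, r.Prime → r ∣ n → r ∣ x - 1) → n ∣ S x n := by
  intro n
  induction n using Nat.strong_induction_on with
  | _ n ih =>
      intro x hx hpr
      rcases eq_or_ne n 1 with rfl | hn1
      · simp
      rcases eq_or_ne n 0 with rfl | hn0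
      · simp [S]
      obtain ⟨r, hr, ⟨m, rfl⟩⟩ := Nat.exists_prime_and_dvd hn1
      have hm : m < r * m := by
        have := hr.two_le
        have : 0 < m := Nat.pos_of_ne_zero (by rintro rfl; simp at hn0)
        nlinarith
      have h1 := ih m hm x hx fun s hs hsm => hpr s hs (hsm.mul_left r)
      have h2 : r ∣ S (x ^ m) r := by
        have := S_modEq (x ^ m) r r (modEq_one_of_prime_dvd x r m hx (hpr r hr (dvd_mul_right _ _)))
        exact (Nat.modEq_zero_iff_dvd).mp (this.trans (Nat.modEq_zero_iff_dvd.mpr dvd_rfl))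
      rw [mul_comm r m, S_mul_index]
      exact mul_dvd_mul h1 h2

theorem dvd_of_dvd_S : ∀ n x i : ℕ, 1 ≤ x → (∀ r : ℕ, r.Prime → r ∣ n → r ∣ x - 1) →
    (4 ∣ n → 4 ∣ x - 1) → 0 < n → n ∣ S x i → n ∣ i := by
  intro n
  induction n using Nat.strong_induction_on with
  | _ n ih =>
      intro x i hx hpr h4 hn hd
      rcases eq_or_ne n 1 with rfl | hn1
      · simp
      obtain ⟨r, hr, ⟨m, rfl⟩⟩ := Nat.exists_prime_and_dvd hn1
      have hrx : x ≡ 1 [MOD r] := by
        simpa using modEq_one_of_prime_dvd x r 1 hx (hpr r hr (dvd_mul_right _ _))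
      have hm0 : 0 < m := Nat.pos_of_mul_pos_left hn
      have hm : m < r * m := by have := hr.two_le; nlinarith
      obtain ⟨j, rfl⟩ : r ∣ i := by
        have h := S_modEq x i r hrx
        exact Nat.modEq_zero_iff_dvd.mp
          (h.symm.trans (Nat.modEq_zero_iff_dvd.mpr ((dvd_mul_right r m).trans hd)))
      obtain ⟨c, hc⟩ : r ∣ S x r :=
        Nat.modEq_zero_iff_dvd.mp ((S_modEq x r r hrx).trans (Nat.modEq_zero_iff_dvd.mpr dvd_rfl))
      have hcop : Nat.Coprime m c := by
        refine Nat.coprime_of_dvd fun s hs hsm hsc => ?_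
        have hsx : x ≡ 1 [MOD s] := by
          simpa using modEq_one_of_prime_dvd x s 1 hx (hpr s hs (hsm.mul_left r))
        have hsS : s ∣ r := Nat.modEq_zero_iff_dvd.mp
          ((S_modEq x r s hsx).symm.trans
            (Nat.modEq_zero_iff_dvd.mpr (hc ▸ hsc.mul_left r)))
        have hsr : s = r := (Nat.prime_dvd_prime_iff_eq hs hr).mp hsS
        subst hsr
        have hsq : s ^ 2 ∣ S x s := by rw [hc, pow_two]; exact mul_dvd_mul_left s hsc
        by_cases hs2 : s = 2
        · subst hs2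
          have h4' := h4 (mul_dvd_mul_left 2 hsm)
          have : S x 2 = 1 + x := by simp [S, Finset.sum_range_succ]
          rw [this] at hsq
          omega
        · exact S_prime_sq x s hs hs2 hsx hsq
      rw [S_mul_index, hc, mul_assoc] at hd
      have hd' : m ∣ S (x ^ r) j :=
        hcop.dvd_of_dvd_mul_left (Nat.dvd_of_mul_dvd_mul_left hr.pos hd)
      refine mul_dvd_mul_left r (ih m hm (x ^ r) j (Nat.one_le_pow _ _ hx)
        (fun s hs hsm => dvd_pow_sub_one x s r (hpr s hs (hsm.mul_left r)))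
        (fun h => dvd_pow_sub_one x 4 r (h4 (h.mul_left r))) hm0 hd')

theorem modEq_iff_dvd_S (q n i : ℕ) (hq : 2 ≤ q) :
    q ^ i ≡ 1 [MOD n * (q - 1)] ↔ n ∣ S q i := by
  have hS : q ^ i - 1 = S q i * (q - 1) := (geom_sum_mul_of_one_le (by omega) i).symm
  rw [Nat.ModEq.comm, Nat.modEq_iff_dvd' (Nat.one_le_pow _ _ (by omega)), hS]
  exact mul_dvd_mul_iff_right (by omega)

theorem split_part (d : ℕ) : ∀ n : ℕ, 0 < n → ∃ a b : ℕ, n = a * b ∧
    (∀ r : ℕ, r.Prime → r ∣ a → r ∣ d) ∧ Nat.Coprime b d := by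
  intro n
  induction n using Nat.strong_induction_on with
  | _ n ih =>
      intro hn
      by_cases hc : Nat.Coprime n d
      · exact ⟨1, n, by simp, fun r hr h => absurd (Nat.dvd_one.mp h) hr.ne_one, hc⟩
      obtain ⟨r, hr, ⟨m, rfl⟩, hrd⟩ := Nat.Prime.not_coprime_iff_dvd.mp hc
      have hm0 : 0 < m := Nat.pos_of_mul_pos_left hn
      have hm : m < r * m := by have := hr.two_le; nlinarith
      obtain ⟨a, b, rfl, ha, hb⟩ := ih m hm hm0
      refine ⟨r * a, b, by ring, fun s hs hsa => ?_, hb⟩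
      rcases hs.dvd_mul.mp hsa with h | h
      · rwa [(Nat.prime_dvd_prime_iff_eq hs hr).mp h]
      · exact ha s hs h


/-- The Dickson pair condition: for a prime power `q` and `n > 1`, (every prime factor of `n` divides `q - 1`, and `4 ∣ n → 4 ∣ q - 1`) holds exactly when `q ^ n ≡ 1` modulo `n * (q - 1)` but `q ^ i` is not, for `0 < i < n`. -/
theorem result (q n : ℕ) (hq : IsPrimePow q) (hn : 1 < n) : ((∀ r : ℕ, r.Prime → r ∣ n → r ∣ q - 1) ∧ (4 ∣ n → 4 ∣ q - 1)) ↔ (q ^ n ≡ 1 [MOD n * (q - 1)] ∧ ∀ i : ℕ, 0 < i → i < n → ¬ q ^ i ≡ 1 [MOD n * (q - 1)]) := by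
  have hq2 : 2 ≤ q := hq.two_le
  constructor
  · rintro ⟨hpr, h4⟩
    refine ⟨(modEq_iff_dvd_S q n n hq2).mpr (dvd_S_self n q (by omega) hpr), fun i hi hin h => ?_⟩
    have := dvd_of_dvd_S n q i (by omega) hpr h4 (by omega) ((modEq_iff_dvd_S q n i hq2).mp h)
    have := Nat.le_of_dvd hi this
    omega
  · rintro ⟨hn1, hmin⟩
    have hord : ∀ e : ℕ, q ^ e ≡ 1 [MOD n * (q - 1)] → n ∣ e := by
      intro e he
      by_contra hne
      refine hmin (e % n) (Nat.pos_of_ne_zero fun h => hne (Nat.dvd_of_mod_eq_zero h))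
        (Nat.mod_lt _ (by omega)) ?_
      have h2 : q ^ e ≡ q ^ (e % n) [MOD n * (q - 1)] := by
        conv_lhs => rw [← Nat.mod_add_div e n, pow_add, pow_mul]
        simpa using (Nat.ModEq.refl (q ^ (e % n))).mul (hn1.pow (e / n))
      exact h2.symm.trans he
    have hpr : ∀ r : ℕ, r.Prime → r ∣ n → r ∣ q - 1 := by
      obtain ⟨a, b, hab, ha, hb⟩ := split_part (q - 1) n (by omega)
      have hb1 : b = 1 := by
        by_contra hb1
        have hb0 : 0 < b := Nat.pos_of_ne_zero (by rintro rfl; simp at hab; omega)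
        have hqn : Nat.Coprime q n := by
          refine Nat.coprime_of_dvd fun s hs hsq hsn => ?_
          have h1 : q ^ n ≡ 1 [MOD s] := hn1.of_dvd (hsn.mul_right _)
          have h0 : q ^ n ≡ 0 [MOD s] :=
            Nat.modEq_zero_iff_dvd.mpr (dvd_pow hsq (by omega))
          exact hs.ne_one (Nat.dvd_one.mp (Nat.modEq_zero_iff_dvd.mp (h1.symm.trans h0)))
        have hcopab : Nat.Coprime (a * (q - 1)) b := by
          refine Nat.Coprime.mul_left ?_ hb.symm
          refine Nat.coprime_of_dvd fun s hs hsa hsb => ?_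
          exact hs.ne_one (Nat.dvd_one.mp (hb ▸ Nat.dvd_gcd hsb (ha s hs hsa)))
        have hmod : q ^ (a * Nat.totient b) ≡ 1 [MOD n * (q - 1)] := by
          have h1 : q ^ a ≡ 1 [MOD a * (q - 1)] :=
            (modEq_iff_dvd_S q a a hq2).mpr (dvd_S_self a q (by omega) ha)
          have h2 : q ^ Nat.totient b ≡ 1 [MOD b] :=
            Nat.ModEq.pow_totient (hqn.coprime_dvd_right (hab ▸ dvd_mul_left b a))
          have h1' := h1.pow (Nat.totient b)
          have h2' := h2.pow a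
          rw [← pow_mul, one_pow] at h1' h2'
          rw [mul_comm (Nat.totient b) a] at h2'
          rw [show n * (q - 1) = a * (q - 1) * b by rw [hab]; ring]
          exact (Nat.modEq_and_modEq_iff_modEq_mul hcopab).mp ⟨h1', h2'⟩
        have h3 : b ∣ Nat.totient b := by
          have h4 := hord _ hmod
          rw [hab] at h4
          exact Nat.dvd_of_mul_dvd_mul_left (Nat.pos_of_ne_zero (by rintro rfl; simp at hab; omega)) h4
        exact absurd (Nat.le_of_dvd (Nat.totient_pos.mpr hb0) h3)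
          (not_le.mpr (Nat.totient_lt b (by omega)))
      subst hb1
      rw [mul_one] at hab
      subst hab
      exact ha
    refine ⟨hpr, fun h4 => ?_⟩
    by_contra hne
    obtain ⟨k, rfl⟩ := h4
    have hodd : 4 ∣ q + 1 := by
      have : 2 ∣ q - 1 := hpr 2 Nat.prime_two ⟨2 * k, by ring⟩
      omega
    refine hmin (2 * k) (by omega) (by omega) ((modEq_iff_dvd_S q (4 * k) (2 * k) hq2).mpr ?_)
    rw [S_mul_index, show S q 2 = q + 1 by simp [S, Finset.sum_range_succ, add_comm]]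
    exact mul_dvd_mul hodd (dvd_S_self k (q ^ 2) (Nat.one_le_pow _ _ (by omega))
      fun r hr hrk => dvd_pow_sub_one q r 2 (hpr r hr (hrk.mul_left 4)))

end Cfsg.Agent.S0694
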