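import Cfsg.Statements.S0698
import Mathlib
import Cfsg.Agent.Lib.Perm.NormalTransitive

set_option autoImplicit false
open Cfsg

namespace Cfsg.Agent.S0698

/-- Jordan's Theorem on normal subgroups of multiply transitive groups: if `G` is `k`-transitive (`k > 1`) of degree greater than `k`, a non-trivial normal subgroup is `(k-1)`-transitive, except possibly for `k = 3` when it may be an elementary abelian 2-group. -/
theorem result {α : Type*} [Fintype α] [DecidableEq α] (G : Subgroup (Equiv.Perm α)) {k : ℕ} (hk : 1 < k) (hdeg : k < Fintype.card α) (hG : MulAction.IsMultiplyPretransitive G α k) (N : Subgroup G) [N.Normal] (hN : N ≠ ⊥) : MulAction.IsMultiplyPretransitive N α (k - 1) ∨ (k = 3 ∧ IsMulCommutative N ∧ ∀ n ∈ N, n ^ 2 = 1) := by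
  classical
  obtain ⟨j, rfl⟩ : ∃ j, k = j + 1 := ⟨k - 1, by omega⟩
  rw [Nat.add_sub_cancel]
  haveI := hG
  have hpp : MulAction.IsMultiplyPreprimitive G α j :=
    MulAction.isMultiplyPreprimitive_of_isMultiplyPretransitive_succ G α
      (by rw [ENat.card_eq_coe_fintype_card, Nat.cast_le]; omega)
  have hp1 : MulAction.IsPreprimitive G α := (MulAction.is_one_preprimitive_iff G α).1
    (MulAction.isMultiplyPreprimitive_of_le G α hpp (by omega) (by rw [ENat.card_eq_coe_fintype_card, Nat.cast_le]; omega))
  have hNt : MulAction.IsPretransitive N α := by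
    haveI := hp1
    apply MulAction.IsQuasiPreprimitive.isPretransitive_of_normal
    intro h
    apply hN
    rw [Subgroup.eq_bot_iff_forall]
    intro x hx
    apply Subtype.ext
    ext y
    exact (Set.eq_univ_iff_forall.1 h y) ⟨x, hx⟩
  by_cases hnr : ∃ a : α, MulAction.stabilizer N a ≠ ⊥
  · left
    by_cases hsmall : j ≤ 2
    · exact Cfsg.Agent.Perm.normal_transitive (by omega) hpp N inferInstance hN hnr (Or.inl hsmall)
    by_cases htop : G = ⊤
    swap
    · refine Cfsg.Agent.Perm.normal_transitive (by omega) hpp N inferInstance hN hnr (Or.inr fun hs => htop ?_)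
      rw [eq_top_iff]
      intro σ _
      obtain ⟨g, hg⟩ := hs σ
      rw [← hg]
      exact g.2
    -- the symmetric group itself
    set N' := N.map G.subtype
    have hcard5 : 5 ≤ Nat.card α := by rw [Nat.card_eq_fintype_card]; omega
    haveI hN' : N'.Normal := by
      constructor
      rintro _ ⟨x, hx, rfl⟩ g
      exact ⟨⟨g, htop ▸ Subgroup.mem_top g⟩ * x * ⟨g, htop ▸ Subgroup.mem_top g⟩⁻¹,
        Subgroup.Normal.conj_mem inferInstance x hx _, rfl⟩
    have hA : alternatingGroup α ≤ N' := by
      haveI := alternatingGroup.isSimpleGroup (α := α) hcard5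
      rcases (Subgroup.Normal.subgroupOf hN' (alternatingGroup α)).eq_bot_or_eq_top with h | h
      · exfalso
        apply hN
        rw [Subgroup.eq_bot_iff_forall]
        intro x hx
        apply Subtype.ext
        have hx' : (x : Equiv.Perm α) ∈ N' := ⟨x, hx, rfl⟩
        ext p
        by_contra hne
        obtain ⟨z, hz1, hz2⟩ : ∃ z, z ≠ p ∧ z ≠ (x : Equiv.Perm α) p := by
          by_contra hcon
          have hsub : (Finset.univ : Finset α) ⊆ {p, (x : Equiv.Perm α) p} := fun z _ => by
            by_contra hz; simp at hz; exact hcon ⟨z, hz.1, hz.2⟩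
          have := Finset.card_le_card hsub
          rw [Finset.card_univ] at this
          have := Finset.card_le_two (a := p) (b := (x : Equiv.Perm α) p)
          omega
        set σ := Equiv.swap ((x : Equiv.Perm α) p) z
        set c : Equiv.Perm α := σ * (x : Equiv.Perm α) * σ⁻¹ * (x : Equiv.Perm α)⁻¹
        have hcA : c ∈ alternatingGroup α := by
          rw [Equiv.Perm.mem_alternatingGroup]
          simp only [c, map_mul, map_inv]
          rcases Int.units_eq_one_or (Equiv.Perm.sign σ) with e1 | e1 <;>
            rcases Int.units_eq_one_or (Equiv.Perm.sign (x : Equiv.Perm α)) with e2 | e2 <;> simp [e1, e2]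
        have hc1 : c = 1 := by
          have hmem : (⟨c, hcA⟩ : alternatingGroup α) ∈ N'.subgroupOf (alternatingGroup α) :=
            N'.mul_mem (hN'.conj_mem _ hx' σ) (N'.inv_mem hx')
          rw [h, Subgroup.mem_bot] at hmem
          exact congrArg Subtype.val hmem
        have h1 : σ * (x : Equiv.Perm α) * σ⁻¹ = (x : Equiv.Perm α) := mul_inv_eq_one.1 hc1
        have h2 := congrArg (fun τ : Equiv.Perm α => τ p) h1
        have h3 : p ≠ (x : Equiv.Perm α) p := fun e => hne (by simpa using e.symm)
        simp [σ, Equiv.swap_apply_of_ne_of_ne h3 (Ne.symm hz1)] at h2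
        exact hz2 h2
      · exact Subgroup.subgroupOf_eq_top.1 h
    have hAt : MulAction.IsMultiplyPretransitive (alternatingGroup α) α j := by
      haveI := alternatingGroup.isMultiplyPretransitive α
      exact MulAction.isMultiplyPretransitive_of_le (n := Nat.card α - 2) (by rw [Nat.card_eq_fintype_card]; omega) (by omega)
    constructor
    intro x y
    obtain ⟨a, ha⟩ := hAt.exists_smul_eq x y
    obtain ⟨n, hn, hna⟩ := hA a.2
    refine ⟨⟨n, hn⟩, ?_⟩
    ext i
    have : (a : Equiv.Perm α) (x i) = y i := DFunLike.congr_fun ha i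
    show (n : Equiv.Perm α) (x i) = y i
    rw [show (n : Equiv.Perm α) = a from hna, this]
  · push Not at hnr
    rcases Nat.lt_or_ge j 2 with hj | hj
    · obtain rfl : j = 1 := by omega
      exact Or.inl (MulAction.is_one_pretransitive_iff.2 hNt)
    have hp2 : MulAction.IsMultiplyPreprimitive G α 2 := MulAction.isMultiplyPreprimitive_of_le G α hpp hj
      (by rw [ENat.card_eq_coe_fintype_card, Nat.cast_le]; omega)
    rcases Cfsg.Agent.S0695.result (by omega) hp2 N hNt hnr with h | ⟨hab, hexp, -⟩
    · omega
    rcases Nat.eq_or_lt_of_le hj with h2j | h2j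
    · exact Or.inr ⟨by omega, hab, hexp⟩
    have hp3 : MulAction.IsMultiplyPreprimitive G α 3 := MulAction.isMultiplyPreprimitive_of_le G α hpp h2j
      (by rw [ENat.card_eq_coe_fintype_card, Nat.cast_le]; omega)
    rcases Cfsg.Agent.S0696.result (by omega) hp3 N hNt hnr with h | h <;> omega

end Cfsg.Agent.S0698
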