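import Cfsg.Statements.S0699
import Cfsg.Agent.S0698

set_option autoImplicit false
open Cfsg

namespace Cfsg.Agent.S0699

/-- Three points as an embedding. -/
def emb3 {α : Type*} {a b c : α} (h1 : a ≠ b) (h2 : a ≠ c) (h3 : b ≠ c) : Fin 3 ↪ α :=
  ⟨![a, b, c], by
    intro i j h
    fin_cases i <;> fin_cases j <;> first | rfl | exact absurd h h1 | exact absurd h h2 | exact absurd h h3 | exact absurd h h1.symm | exact absurd h h2.symm | exact absurd h h3.symm⟩

/-- The combinatorial core. -/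
theorem wagner {α : Type*} [Fintype α] [DecidableEq α] (G : Subgroup (Equiv.Perm α)) (hodd : Odd (Fintype.card α))
    (hG : MulAction.IsMultiplyPretransitive G α 3) (N : Subgroup G) [N.Normal]
    (h2 : MulAction.IsMultiplyPretransitive N α 2) : MulAction.IsMultiplyPretransitive N α 3 := by
  classical
  have htwo : ∀ {a b c d : α}, a ≠ b → c ≠ d → ∃ n : G, n ∈ N ∧ n • a = c ∧ n • b = d := by
    intro a b c d hab hcd
    obtain ⟨n, h1, h1'⟩ := MulAction.is_two_pretransitive_iff.mp h2 hab hcd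
    exact ⟨n, n.2, h1, h1'⟩
  have three : ∀ {a b c d : α}, a ≠ b → a ≠ c → b ≠ c → a ≠ d → b ≠ d → ∃ n : G, n ∈ N ∧ n • a = a ∧ n • b = b ∧ n • c = d := by
    intro a b c d hab hac hbc had hbd
    by_contra hno
    set S : Subgroup G := N ⊓ MulAction.stabilizer G a ⊓ MulAction.stabilizer G b with hS
    let K : Subgroup G :=
      { carrier := {n | n ∈ N ∧ ((n • a = a ∧ n • b = b) ∨ (n • a = b ∧ n • b = a))}
        one_mem' := ⟨one_mem N, Or.inl ⟨one_smul _ a, one_smul _ b⟩⟩
        mul_mem' := by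
          rintro x y ⟨hx, hx'⟩ ⟨hy, hy'⟩
          refine ⟨mul_mem hx hy, ?_⟩
          rcases hx' with ⟨p, q⟩ | ⟨p, q⟩ <;> rcases hy' with ⟨u, v⟩ | ⟨u, v⟩ <;>
            simp only [mul_smul, u, v, p, q] <;> simp
        inv_mem' := by
          rintro x ⟨hx, hx'⟩
          refine ⟨inv_mem hx, ?_⟩
          rcases hx' with ⟨p, q⟩ | ⟨p, q⟩
          · exact Or.inl ⟨inv_smul_eq_iff.mpr p.symm, inv_smul_eq_iff.mpr q.symm⟩
          · exact Or.inr ⟨inv_smul_eq_iff.mpr q.symm, inv_smul_eq_iff.mpr p.symm⟩ }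
    have hSmem : ∀ {x : G}, x ∈ S ↔ x ∈ N ∧ x • a = a ∧ x • b = b := by
      intro x; simp [hS, and_assoc]
    have hSK : S ≤ K := fun x hx => ⟨(hSmem.mp hx).1, Or.inl (hSmem.mp hx).2⟩
    -- a swap of 2-power order
    obtain ⟨t₁, ht₁, e1, e2⟩ := htwo hab hab.symm
    have hfix : ∀ (x : G), x • a = a → x • b = b → ∀ (y : G), y ∈ S → x * y * x⁻¹ ∈ S := by
      intro x xa xb y hy
      obtain ⟨hy, ya, yb⟩ := hSmem.mp hy
      refine hSmem.mpr ⟨‹N.Normal›.conj_mem y hy x, ?_, ?_⟩
      · rw [mul_smul, mul_smul, inv_smul_eq_iff.mpr xa.symm, ya, xa]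
      · rw [mul_smul, mul_smul, inv_smul_eq_iff.mpr xb.symm, yb, xb]
    obtain ⟨P⟩ : Nonempty (Sylow 2 S) := inferInstance
    -- a Sylow subgroup of the setwise stabiliser moves `a`
    obtain ⟨T⟩ : Nonempty (Sylow 2 K) := inferInstance
    have hKcard : Nat.card K = 2 * Nat.card S := by
      have hind : (S.subgroupOf K).index = 2 := by
        rw [Subgroup.index_eq_two_iff]
        refine ⟨⟨t₁, ht₁, Or.inr ⟨e1, e2⟩⟩, fun x => ?_⟩
        obtain ⟨hx, hx'⟩ := x.2
        simp only [Subgroup.mem_subgroupOf, hSmem, Subgroup.coe_mul]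
        rcases hx' with ⟨p, q⟩ | ⟨p, q⟩
        · refine Or.inr ⟨⟨hx, p, q⟩, fun h => hab ?_⟩
          have h' := h.2.1
          rw [mul_smul, e1, q] at h'
          exact h'.symm
        · refine Or.inl ⟨⟨mul_mem hx ht₁, by rw [mul_smul, e1, q], by rw [mul_smul, e2, p]⟩, fun h => hab ?_⟩
          exact h.2.1.symm.trans p
      rw [← (S.subgroupOf K).card_mul_index, hind, Nat.card_congr (Subgroup.subgroupOfEquivOfLe hSK).toEquiv]
      ring
    let T' : Subgroup G := (T : Subgroup K).map K.subtype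
    have hTK : T' ≤ K := Subgroup.map_subtype_le _
    have hT : IsPGroup 2 T' := T.2.map _
    have hTcard : ¬ (∃ g : G, ∀ x ∈ T', g * x * g⁻¹ ∈ S) := by
      rintro ⟨g, hg⟩
      have h1 : Nat.card T' = 2 ^ (Nat.card K).factorization 2 := by
        rw [Subgroup.card_map_of_injective K.subtype_injective, T.card_eq_multiplicity]
      have h2 : Nat.card T' ∣ Nat.card S := by
        have : T'.map (MulAut.conj g).toMonoidHom ≤ S := by rintro _ ⟨x, hx, rfl⟩; exact hg x hx
        have := Subgroup.card_dvd_of_le this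
        rwa [Subgroup.card_map_of_injective (f := (MulAut.conj g).toMonoidHom) (MulAut.conj g).injective] at this
      rw [h1, hKcard, Nat.factorization_mul (by norm_num) Nat.card_pos.ne', Finsupp.add_apply,
        Nat.Prime.factorization_self Nat.prime_two, Nat.Prime.pow_dvd_iff_le_factorization Nat.prime_two
          Nat.card_pos.ne'] at h2
      omega
    have hodd' : ¬ 2 ∣ Nat.card α := by
      rw [Nat.card_eq_fintype_card]; exact fun h => (Nat.not_even_iff_odd.mpr hodd) (even_iff_two_dvd.mpr h)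
    obtain ⟨c₀, hc₀⟩ := hT.nonempty_fixed_point_of_prime_not_dvd_card α hodd'
    have hc₀' : ∀ x ∈ T', x • c₀ = c₀ := fun x hx => hc₀ ⟨x, hx⟩
    obtain ⟨t, htT, hta, htb⟩ : ∃ t ∈ T', t • a = b ∧ t • b = a := by
      by_contra h
      refine hTcard ⟨1, fun x hx => ?_⟩
      rcases hTK hx with ⟨hx', h' | h'⟩
      · simpa using hSmem.mpr ⟨hx', h'⟩
      · exact absurd ⟨x, hx, h'.1, h'.2⟩ h
    have hc₀a : c₀ ≠ a := fun e => hab (by rw [← hta, ← e, hc₀' t htT])
    have hc₀b : c₀ ≠ b := fun e => hab (by rw [← htb, ← e, hc₀' t htT])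
    -- every orbit is invariant under the swap and of odd length
    have hsame : ∀ x : α, x ≠ a → x ≠ b → (∀ k ∈ K, ∃ s ∈ S, s • x = k • x) ∧ Odd (Nat.card (MulAction.orbit S x)) := by
      intro x hxa hxb
      obtain ⟨g, ga, gb, gc⟩ : ∃ g : G, g • a = a ∧ g • b = b ∧ g • c₀ = x := by
        obtain ⟨g, hg⟩ := MulAction.isMultiplyPretransitive_iff.mp hG
          (emb3 hab hc₀a.symm hc₀b.symm)
          (emb3 hab hxa.symm hxb.symm)
        exact ⟨g, DFunLike.congr_fun hg 0, DFunLike.congr_fun hg 1, DFunLike.congr_fun hg 2⟩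
      constructor
      · intro k hk
        rcases hk with ⟨hk, hk' | hk'⟩
        · exact ⟨k, hSmem.mpr ⟨hk, hk'⟩, rfl⟩
        refine ⟨k * (g * t * g⁻¹)⁻¹, hSmem.mpr ⟨mul_mem hk (inv_mem (‹N.Normal›.conj_mem t (hTK htT).1 g)), ?_, ?_⟩, ?_⟩
        · rw [mul_smul, inv_smul_eq_iff.mpr (show a = (g * t * g⁻¹) • b by
            rw [mul_smul, mul_smul, inv_smul_eq_iff.mpr gb.symm, htb, ga]), hk'.2]
        · rw [mul_smul, inv_smul_eq_iff.mpr (show b = (g * t * g⁻¹) • a by
            rw [mul_smul, mul_smul, inv_smul_eq_iff.mpr ga.symm, hta, gb]), hk'.1]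
        · rw [mul_smul, inv_smul_eq_iff.mpr (show x = (g * t * g⁻¹) • x by
            rw [mul_smul, mul_smul, inv_smul_eq_iff.mpr gc.symm, hc₀' t htT, gc])]
      · -- a Sylow subgroup of `S` fixes a third point
        obtain ⟨d₀, hd₀a, hd₀b, hd₀⟩ : ∃ d₀, d₀ ≠ a ∧ d₀ ≠ b ∧ ∀ y : P, ((y : S) : G) • d₀ = d₀ := by
          by_contra h
          push Not at h
          let f : P →* G := S.subtype.comp (P : Subgroup S).subtype
          let : MulAction P α := MulAction.compHom α f
          have hcard := P.2.card_modEq_card_fixedPoints α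
          have : MulAction.fixedPoints P α = {a, b} := by
            ext z
            constructor
            · intro hz
              by_contra hz'
              simp only [Set.mem_insert_iff, Set.mem_singleton_iff, not_or] at hz'
              obtain ⟨y, hy⟩ := h z hz'.1 hz'.2
              exact hy (hz y)
            · rintro (rfl | rfl) y
              exacts [(hSmem.mp (y : S).2).2.1, (hSmem.mp (y : S).2).2.2]
          rw [this, Nat.card_coe_set_eq, Set.ncard_pair hab] at hcard
          exact hodd' ((Nat.ModEq.dvd_iff hcard (dvd_refl 2)).mpr (dvd_refl 2))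
        obtain ⟨g, ga, gb, gc⟩ : ∃ g : G, g • a = a ∧ g • b = b ∧ g • d₀ = x := by
          obtain ⟨g, hg⟩ := MulAction.isMultiplyPretransitive_iff.mp hG
            (emb3 hab hd₀a.symm hd₀b.symm)
            (emb3 hab hxa.symm hxb.symm)
          exact ⟨g, DFunLike.congr_fun hg 0, DFunLike.congr_fun hg 1, DFunLike.congr_fun hg 2⟩
        rw [Nat.card_congr (MulAction.orbitEquivQuotientStabilizer S x), ← Subgroup.index_eq_card,
          ← Nat.not_even_iff_odd, even_iff_two_dvd]
        intro hdvd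
        let c : S →* S :=
          { toFun := fun y => ⟨g * y * g⁻¹, hfix g ga gb y y.2⟩
            map_one' := Subtype.ext (by simp)
            map_mul' := fun u v => Subtype.ext (by simp [mul_assoc]) }
        have hcinj : Function.Injective c := fun u v e => Subtype.ext (by simpa [c] using congrArg Subtype.val e)
        have hle : (P : Subgroup S).map c ≤ MulAction.stabilizer S x := by
          rintro _ ⟨y, hy, rfl⟩
          show (g * (y : G) * g⁻¹) • x = x
          rw [mul_smul, mul_smul, inv_smul_eq_iff.mpr gc.symm, hd₀ ⟨y, hy⟩, gc]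
        have h5 := Subgroup.card_dvd_of_le hle
        rw [Subgroup.card_map_of_injective hcinj, P.card_eq_multiplicity] at h5
        have h6 := Nat.mul_dvd_mul h5 hdvd
        rw [Subgroup.card_mul_index, ← pow_succ] at h6
        exact absurd (Nat.Prime.pow_dvd_iff_le_factorization Nat.prime_two Nat.card_pos.ne' |>.mp h6) (by omega)
    -- `T'` fixes a point in the orbit of `c` and in that of `d`
    have hpt : ∀ x : α, x ≠ a → x ≠ b → ∃ s ∈ S, ∀ y ∈ T', y • (s • x) = s • x := by
      intro x hxa hxb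
      obtain ⟨h1, h2⟩ := hsame x hxa hxb
      let O : SubMulAction T' α :=
        { carrier := MulAction.orbit S x
          smul_mem' := by
            rintro ⟨y, hy⟩ _ ⟨s, rfl⟩
            obtain ⟨s', hs', e⟩ := h1 (y * s) (mul_mem (hTK hy) (hSK s.2))
            exact ⟨⟨s', hs'⟩, e.trans (mul_smul _ _ _)⟩ }
      obtain ⟨⟨_, s, rfl⟩, hz⟩ := hT.nonempty_fixed_point_of_prime_not_dvd_card O (by
        intro h; exact (Nat.not_even_iff_odd.mpr h2) (even_iff_two_dvd.mpr h))
      exact ⟨s, s.2, fun y hy => congrArg Subtype.val (hz ⟨y, hy⟩)⟩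
    obtain ⟨s₁, hs₁, hf₁⟩ := hpt c hac.symm hbc.symm
    obtain ⟨s₂, hs₂, hf₂⟩ := hpt d had.symm hbd.symm
    have hne : s₁ • c ≠ s₂ • d := fun e => hno ⟨s₂⁻¹ * s₁, mul_mem (inv_mem (hSmem.mp hs₂).1) (hSmem.mp hs₁).1,
      by rw [mul_smul, (hSmem.mp hs₁).2.1, inv_smul_eq_iff, (hSmem.mp hs₂).2.1],
      by rw [mul_smul, (hSmem.mp hs₁).2.2, inv_smul_eq_iff, (hSmem.mp hs₂).2.2],
      by rw [mul_smul, e, inv_smul_smul]⟩
    obtain ⟨g, -, ga, gb⟩ := htwo hne hab
    refine hTcard ⟨g, fun y hy => hSmem.mpr ⟨‹N.Normal›.conj_mem y (hTK hy).1 g, ?_, ?_⟩⟩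
    · rw [mul_smul, mul_smul, inv_smul_eq_iff.mpr ga.symm, hf₁ y hy, ga]
    · rw [mul_smul, mul_smul, inv_smul_eq_iff.mpr gb.symm, hf₂ y hy, gb]
  refine MulAction.isMultiplyPretransitive_iff.mpr fun x y => ?_
  have hx : ∀ i j : Fin 3, i ≠ j → x i ≠ x j := fun i j h e => h (x.injective e)
  have hy : ∀ i j : Fin 3, i ≠ j → y i ≠ y j := fun i j h e => h (y.injective e)
  obtain ⟨n₁, hn₁, e0, e1⟩ := htwo (hx 0 1 (by decide)) (hy 0 1 (by decide))
  obtain ⟨n₂, hn₂, f0, f1, f2⟩ := three (hy 0 1 (by decide))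
    (show y 0 ≠ n₁ • x 2 from fun e => hx 0 2 (by decide) (MulAction.injective n₁ (e0.trans e)))
    (show y 1 ≠ n₁ • x 2 from fun e => hx 1 2 (by decide) (MulAction.injective n₁ (e1.trans e)))
    (hy 0 2 (by decide)) (hy 1 2 (by decide))
  refine ⟨⟨n₂ * n₁, mul_mem hn₂ hn₁⟩, Function.Embedding.ext fun i => ?_⟩
  show (n₂ * n₁) • x i = y i
  fin_cases i
  · exact (mul_smul _ _ _).trans ((congrArg (n₂ • ·) e0).trans f0)
  · exact (mul_smul _ _ _).trans ((congrArg (n₂ • ·) e1).trans f1)
  · exact (mul_smul _ _ _).trans f2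


/-- Wagner's Theorem: a non-trivial normal subgroup of a triply transitive permutation group of odd degree at least 5 is triply transitive. -/
theorem result {α : Type*} [Fintype α] [DecidableEq α] (G : Subgroup (Equiv.Perm α)) (hodd : Odd (Fintype.card α)) (h5 : 5 ≤ Fintype.card α) (hG : MulAction.IsMultiplyPretransitive G α 3) (N : Subgroup G) [N.Normal] (hN : N ≠ ⊥) : MulAction.IsMultiplyPretransitive N α 3 := by
  classical
  haveI := hG
  have h3 : (3 : ℕ) < Fintype.card α := by omega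
  rcases Cfsg.Agent.S0698.result G (k := 3) (by norm_num) h3 hG N hN with h2 | ⟨-, -, hsq⟩
  swap
  · exfalso
    have hp : IsPGroup 2 N := fun n => ⟨1, Subtype.ext (by simpa using hsq n n.2)⟩
    obtain ⟨x, hx⟩ := hp.nonempty_fixed_point_of_prime_not_dvd_card α (by
      rw [Nat.card_eq_fintype_card]; exact fun h => (Nat.not_even_iff_odd.mpr hodd) (even_iff_two_dvd.mpr h))
    have ht : MulAction.IsPretransitive G α :=
      MulAction.is_one_pretransitive_iff.mp (MulAction.isMultiplyPretransitive_of_le (n := 3) (by norm_num)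
        (by rw [Nat.card_eq_fintype_card]; omega))
    refine hN ((Subgroup.eq_bot_iff_forall _).mpr fun n hn => Subtype.ext (Equiv.ext fun y => ?_))
    obtain ⟨g, rfl⟩ := ht.exists_smul_eq x y
    have := hx ⟨g⁻¹ * n * g, by simpa [mul_assoc] using ‹N.Normal›.conj_mem n hn g⁻¹⟩
    have h' : (g⁻¹ * n * g) • x = x := this
    rw [mul_assoc, mul_smul, inv_smul_eq_iff, mul_smul] at h'
    exact h'
  exact wagner G hodd hG N h2

end Cfsg.Agent.S0699
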