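import Cfsg.Statements.S0700
import Mathlib
import Cfsg.Agent.Lib.Solv.Frobenius
import Cfsg.Agent.S0144

set_option autoImplicit false
open Cfsg
open scoped Pointwise

namespace Cfsg.Agent.S0700

/-- Burnside's Theorem on doubly transitive groups: a minimal normal subgroup of a finite doubly transitive permutation group is elementary abelian and regular, or simple and primitive. -/
theorem result {α : Type*} [Fintype α] [DecidableEq α] (G : Subgroup (Equiv.Perm α)) (hG : MulAction.IsMultiplyPretransitive G α 2) (N : Subgroup G) [N.Normal] (hN : N ≠ ⊥) (hmin : ∀ M : Subgroup G, M.Normal → M ≤ N → M = ⊥ ∨ M = N) : (IsMulCommutative N ∧ (∃ p : ℕ, p.Prime ∧ ∀ n ∈ N, n ^ p = 1) ∧ ∀ a : α, MulAction.stabilizer N a = ⊥) ∨ (IsSimpleGroup N ∧ MulAction.IsPreprimitive N α) := by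
  classical
  haveI := hG
  haveI : MulAction.IsPreprimitive G α := MulAction.isPreprimitive_of_is_two_pretransitive hG
  have hmin' : ∀ M : Subgroup N, (∀ (g : G) (x : N), x ∈ M → MulAut.conjNormal g x ∈ M) → M = ⊥ ∨ M = ⊤ := by
    intro M hM
    have hn : (M.map N.subtype).Normal := ⟨fun x hx g => by
      obtain ⟨y, hy, rfl⟩ := Subgroup.mem_map.mp hx
      exact Subgroup.mem_map.mpr ⟨_, hM g y hy, MulAut.conjNormal_apply g y⟩⟩
    rcases hmin _ hn (Subgroup.map_subtype_le M) with h | h
    · exact Or.inl ((Subgroup.map_eq_bot_iff_of_injective M N.subtype_injective).mp h)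
    · refine Or.inr (Subgroup.map_injective N.subtype_injective ?_)
      rw [h, ← MonoidHom.range_eq_map, Subgroup.range_subtype]
  have hsmul : ∀ (n : N) (x : α), n • x = (n : G) • x := fun n x => rfl
  have hfaith : ∀ n : N, (∀ x : α, n • x = x) → n = 1 := fun n h =>
    Subtype.ext (Subtype.ext (Equiv.ext fun x => h x))
  obtain ⟨n₀, hn₀, hn₀1⟩ := (Subgroup.bot_or_exists_ne_one N).resolve_left hN
  have hfix : MulAction.fixedPoints N α ≠ Set.univ := by
    intro h
    apply hn₀1
    have h' : ∀ x : α, x ∈ MulAction.fixedPoints N α := fun x => h ▸ Set.mem_univ x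
    exact congrArg Subtype.val (hfaith ⟨n₀, hn₀⟩ fun x => h' x ⟨n₀, hn₀⟩)
  haveI hNt : MulAction.IsPretransitive N α :=
    MulAction.IsQuasiPreprimitive.isPretransitive_of_normal (G := G) (X := α) hfix
  haveI : Nontrivial N := ⟨⟨n₀, hn₀⟩, 1, fun h => hn₀1 (congrArg Subtype.val h)⟩
  obtain ⟨b₀, hb₀⟩ : ∃ b : α, ∃ n : N, n • b ≠ b := by
    by_contra hcon
    push Not at hcon
    exact hn₀1 (congrArg Subtype.val (hfaith ⟨n₀, hn₀⟩ fun x => hcon x ⟨n₀, hn₀⟩))
  obtain ⟨n₁, hn₁⟩ := hb₀
  have h2 : ∀ a b c d : α, a ≠ b → c ≠ d → ∃ g : G, g • a = c ∧ g • b = d := fun a b c d h h' =>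
    MulAction.is_two_pretransitive_iff.mp hG h h'
  -- the regular case
  by_cases hreg : ∀ a : α, MulAction.stabilizer N a = ⊥
  · left
    have hinj : ∀ (a : α) (x y : N), x • a = y • a → x = y := by
      intro a x y h
      have : y⁻¹ * x ∈ MulAction.stabilizer N a :=
        MulAction.mem_stabilizer_iff.mpr (by rw [mul_smul, h, inv_smul_smul])
      rw [hreg a, Subgroup.mem_bot] at this
      exact (inv_mul_eq_one.mp this).symm
    have hord : ∀ x y : N, x ≠ 1 → y ≠ 1 → orderOf x = orderOf y := by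
      intro x y hx hy
      have hne : ∀ z : N, z ≠ 1 → b₀ ≠ z • b₀ := fun z hz h =>
        hz (hinj b₀ z 1 (by rw [one_smul]; exact h.symm))
      obtain ⟨g, hg1, hg2⟩ := h2 b₀ (x • b₀) b₀ (y • b₀) (hne x hx) (hne y hy)
      have : MulAut.conjNormal g x = y := hinj b₀ _ _ (by
        rw [hsmul, MulAut.conjNormal_apply, mul_smul, mul_smul, inv_smul_eq_iff.mpr hg1.symm]
        exact hg2)
      rw [← this, MulEquiv.orderOf_eq]
    obtain ⟨p, hp, hpd⟩ := Nat.exists_prime_and_dvd (n := Nat.card N) (Finite.one_lt_card (α := N)).ne'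
    haveI := Fact.mk hp
    obtain ⟨z, hz⟩ := exists_prime_orderOf_dvd_card' p hpd
    have hz1 : z ≠ 1 := by
      rintro rfl; rw [orderOf_one] at hz; exact hp.ne_one hz.symm
    have hpow : ∀ x : N, x ^ p = 1 := by
      intro x
      rcases eq_or_ne x 1 with rfl | hx
      · exact one_pow _
      · rw [← hz, hord z x hz1 hx, pow_orderOf_eq_one]
    have hpg : IsPGroup p N := fun x => ⟨1, by rw [pow_one]; exact hpow x⟩
    have hcen : Subgroup.center N = ⊤ := by
      refine (hmin' _ fun g x hx => ?_).resolve_left fun h => ?_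
      · rw [Subgroup.mem_center_iff] at hx ⊢
        intro y
        have := congrArg (MulAut.conjNormal g) (hx ((MulAut.conjNormal g).symm y))
        simpa using this
      · have := hpg.center_nontrivial
        exact not_subsingleton (Subgroup.center N) (by rw [h]; infer_instance)
    refine ⟨⟨⟨fun x y => ?_⟩⟩, ⟨p, hp, fun n hn => congrArg Subtype.val (hpow ⟨n, hn⟩)⟩, hreg⟩
    have hy : y ∈ Subgroup.center N := hcen ▸ Subgroup.mem_top y
    exact Subgroup.mem_center_iff.mp hy x
  push Not at hreg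
  obtain ⟨a, ha⟩ := hreg
  right
  have hnab : ¬ ∀ x y : N, x * y = y * x := by
    intro hab
    apply ha
    rw [Subgroup.eq_bot_iff_forall]
    intro n hn
    refine hfaith n fun x => ?_
    obtain ⟨m, rfl⟩ := MulAction.exists_smul_eq N a x
    rw [← mul_smul, hab, mul_smul, MulAction.mem_stabilizer_iff.mp hn]
  -- primitivity
  have hprim : MulAction.IsPreprimitive N α := by
    by_contra hnp
    obtain ⟨B₀, hB₀, hB₀'⟩ : ∃ B : Set α, MulAction.IsBlock N B ∧ ¬ MulAction.IsTrivialBlock B := by
      by_contra hcon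
      push Not at hcon
      exact hnp ⟨fun {B} hB => hcon B hB⟩
    have hex : ∃ k, ∃ B : Set α, MulAction.IsBlock N B ∧ ¬ MulAction.IsTrivialBlock B ∧ B.ncard = k :=
      ⟨_, B₀, hB₀, hB₀', rfl⟩
    obtain ⟨B, hB, hBt, hBk⟩ := Nat.find_spec hex
    have hBnt : B.Nontrivial := Set.not_subsingleton_iff.mp fun h => hBt (Or.inl h)
    have hBu : B ≠ Set.univ := fun h => hBt (Or.inr h)
    obtain ⟨b1, hb1, b2, hb2, hb12⟩ := hBnt
    have hLblock : ∀ g : G, MulAction.IsBlock N (g • B) := by
      intro g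
      rw [MulAction.isBlock_iff_smul_eq_of_nonempty]
      intro n hn
      have e : n • (g • B) = g • ((MulAut.conjNormal g⁻¹ n : N) • B) := by
        show (n : G) • g • B = g • ((MulAut.conjNormal g⁻¹ n : N) : G) • B
        rw [MulAut.conjNormal_apply, ← mul_smul, ← mul_smul]
        congr 1
        group
      rw [e] at hn ⊢
      rw [← Set.smul_set_inter, Set.smul_set_nonempty] at hn
      rw [hB.smul_eq_of_nonempty hn]
    have huniq : ∀ (g h : G) (x y : α), x ≠ y → x ∈ g • B → y ∈ g • B → x ∈ h • B → y ∈ h • B →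
        g • B = h • B := by
      intro g h x y hxy xg yg xh yh
      have hI := (hLblock g).inter (hLblock h)
      have hgc : (g • B).ncard = B.ncard := Set.ncard_smul_set g B
      have hhc : (h • B).ncard = B.ncard := Set.ncard_smul_set h B
      have hlt : B.ncard < Nat.card α := by
        rw [← Set.ncard_univ]
        exact Set.ncard_lt_ncard (Set.ssubset_univ_iff.mpr hBu)
      have hIt : ¬ MulAction.IsTrivialBlock (g • B ∩ h • B) := by
        rintro (hs | hu)
        · exact hxy (hs ⟨xg, xh⟩ ⟨yg, yh⟩)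
        · have : (Set.univ : Set α) ⊆ g • B := hu ▸ Set.inter_subset_left
          have := Set.ncard_le_ncard this
          rw [Set.ncard_univ, hgc] at this
          omega
      have hle : B.ncard ≤ (g • B ∩ h • B).ncard := by
        rw [hBk]; exact Nat.find_min' hex ⟨_, hI, hIt, rfl⟩
      have e1 := Set.eq_of_subset_of_ncard_le (Set.inter_subset_left : g • B ∩ h • B ⊆ g • B) (by rw [hgc]; exact hle)
      have e2 := Set.eq_of_subset_of_ncard_le (Set.inter_subset_right : g • B ∩ h • B ⊆ h • B) (by rw [hhc]; exact hle)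
      rw [← e1, e2]
    have hline : ∀ x y : α, x ≠ y → ∃ g : G, x ∈ g • B ∧ y ∈ g • B := by
      intro x y hxy
      obtain ⟨g, h1, h2'⟩ := h2 b1 b2 x y hb12 hxy
      exact ⟨g, ⟨b1, hb1, h1⟩, ⟨b2, hb2, h2'⟩⟩
    have hpt : ∀ (n : N) (g : G) (x : α), n • x = x → x ∈ g • B → n • (g • B) = g • B := by
      intro n g x hx hxg
      exact (hLblock g).smul_eq_of_mem hxg (by rw [hx]; exact hxg)
    -- a point off the line through two fixed points is fixed
    have hoff : ∀ (n : N) (x y c : α), n • x = x → n • y = y → x ≠ y →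
        (∀ g : G, x ∈ g • B → y ∈ g • B → c ∉ g • B) → n • c = c := by
      intro n x y c hx hy hxy hc
      have hcx : c ≠ x := fun h => by
        obtain ⟨g, g1, g2⟩ := hline x y hxy
        exact hc g g1 g2 (h ▸ g1)
      have hcy : c ≠ y := fun h => by
        obtain ⟨g, g1, g2⟩ := hline x y hxy
        exact hc g g1 g2 (h ▸ g2)
      obtain ⟨g, gc, gx⟩ := hline c x hcx
      obtain ⟨h, hc', hy'⟩ := hline c y hcy
      have h1 : n • c ∈ g • B := by rw [← hpt n g x hx gx]; exact Set.smul_mem_smul_set gc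
      have h2' : n • c ∈ h • B := by rw [← hpt n h y hy hy']; exact Set.smul_mem_smul_set hc'
      by_contra hne
      have := huniq g h _ _ hne h1 gc h2' hc'
      exact hc g gx (this ▸ hy') gc
    have htwo : ∀ (n : N) (x y : α), n • x = x → n • y = y → x ≠ y → n = 1 := by
      intro n x y hx hy hxy
      refine hfaith n fun c => ?_
      by_cases hc : ∀ g : G, x ∈ g • B → y ∈ g • B → c ∉ g • B
      · exact hoff n x y c hx hy hxy hc
      push Not at hc
      obtain ⟨g, gx, gy, gc⟩ := hc
      rcases eq_or_ne c x with rfl | hcx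
      · exact hx
      obtain ⟨d, hd⟩ : ∃ d, d ∉ g • B := by
        by_contra hcon
        push Not at hcon
        apply hBu
        refine Set.eq_univ_of_forall fun z => ?_
        obtain ⟨w, hw, hwz⟩ := hcon (g • z)
        rwa [← smul_left_cancel g hwz]
      have hdfix : n • d = d := hoff n x y d hx hy hxy fun g' g1 g2 g3 =>
        hd (huniq g' g x y hxy g1 g2 gx gy ▸ g3)
      have hdx : x ≠ d := fun h => hd (h ▸ gx)
      refine hoff n x d c hx hdfix hdx fun g' g1 g2 g3 => hd ?_
      rwa [← huniq g' g x c hcx.symm g1 g3 gx gc]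
    -- Frobenius
    set H := MulAction.stabilizer N a with hH
    have hFr : Cfsg.IsFrobeniusComplement H := by
      refine ⟨ha, ?_, ?_⟩
      · intro htop
        obtain ⟨m, hm⟩ := MulAction.exists_smul_eq N a b₀
        have hall : ∀ m : N, m • a = a := fun m => by
          have h' : m ∈ H := by rw [htop]; exact Subgroup.mem_top m
          exact MulAction.mem_stabilizer_iff.mp h'
        apply hn₁
        rw [← hm, hall m, hall n₁]
      · intro g hg
        rw [eq_bot_iff]
        intro x hx
        obtain ⟨hx1, hx2⟩ := Subgroup.mem_inf.mp hx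
        rw [Subgroup.mem_pointwise_smul_iff_inv_smul_mem, MulAut.smul_def] at hx2
        simp only [map_inv, MulAut.conj_inv_apply, hH, MulAction.mem_stabilizer_iff, mul_smul] at hx2
        refine Subgroup.mem_bot.mpr (htwo x a (g • a) (MulAction.mem_stabilizer_iff.mp hx1) ?_ ?_)
        · exact inv_smul_eq_iff.mp hx2
        · exact fun h => hg (MulAction.mem_stabilizer_iff.mpr h.symm)
    obtain ⟨K, hK, -, hKc⟩ := Cfsg.Lib.Solv.frobenius_theorem hFr
    have hmemK : ∀ x : N, x ∈ K ↔ x = 1 ∨ ∀ c : α, x • c ≠ c := by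
      intro x
      rw [← SetLike.mem_coe, hK, Cfsg.Lib.Solv.mem_frobeniusKernel_iff]
      refine or_congr Iff.rfl ⟨fun h c hc => ?_, fun h g hg => ?_⟩
      · obtain ⟨m, rfl⟩ := MulAction.exists_smul_eq N a c
        exact h m (MulAction.mem_stabilizer_iff.mpr (by rw [mul_smul, mul_smul, hc, inv_smul_smul]))
      · have := MulAction.mem_stabilizer_iff.mp hg
        rw [mul_smul, mul_smul, inv_smul_eq_iff] at this
        exact h _ this
    rcases hmin' K (fun g x hx => by
      rw [hmemK] at hx ⊢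
      rcases hx with rfl | hx
      · exact Or.inl (map_one _)
      · refine Or.inr fun c hc => hx (g⁻¹ • c) ?_
        rw [hsmul] at hc ⊢
        rw [MulAut.conjNormal_apply, mul_smul, mul_smul, ← eq_inv_smul_iff] at hc
        exact hc) with h | h
    · rw [h] at hKc
      have : H = ⊤ := by simpa using hKc
      exact hFr.2.1 this
    · rw [h] at hKc
      have : H = ⊥ := by simpa using hKc
      exact hFr.1 this
  refine ⟨?_, hprim⟩
  -- simplicity: take a minimal normal subgroup of `N`
  have hexT : ∃ k, ∃ T : Subgroup N, T.Normal ∧ T ≠ ⊥ ∧ Nat.card T = k := ⟨_, ⊤, inferInstance, top_ne_bot, rfl⟩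
  obtain ⟨T, hTn, hT1, hTk⟩ := Nat.find_spec hexT
  have hTmin : ∀ M : Subgroup N, M.Normal → M ≤ T → M = ⊥ ∨ M = T := fun M hMn hMT => by
    refine or_iff_not_imp_left.mpr fun hM => Subgroup.eq_of_le_of_card_ge hMT ?_
    rw [hTk]; exact Nat.find_min' hexT ⟨M, hMn, hM, rfl⟩
  by_cases hTtop : T = ⊤
  · exact { eq_bot_or_eq_top_of_normal := fun M hMn => hTtop ▸ hTmin M hMn (hTtop ▸ le_top) }
  exfalso
  let Tg : G → Subgroup N := fun g => T.map ((MulAut.conjNormal g : MulAut N).toMonoidHom)
  have hTgmem : ∀ g x, x ∈ Tg g ↔ ∃ t ∈ T, MulAut.conjNormal g t = x := fun g x => Subgroup.mem_map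
  have hTgn : ∀ g, (Tg g).Normal := fun g => hTn.map _ (MulAut.conjNormal g : MulAut N).surjective
  have hTgc : ∀ g, Nat.card (Tg g) = Nat.card T := fun g =>
    (Nat.card_congr (T.equivMapOfInjective _ (MulAut.conjNormal g : MulAut N).injective).toEquiv).symm
  set C := Subgroup.centralizer (T : Set N) with hC
  have hTne : ∀ M : Subgroup N, M.Normal → M ≠ ⊥ → MulAction.IsPretransitive M α := by
    intro M hMn hM
    haveI := hprim
    refine MulAction.IsQuasiPreprimitive.isPretransitive_of_normal (G := N) (X := α) fun h => hM ?_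
    rw [Subgroup.eq_bot_iff_forall]
    intro m hm
    have h' : ∀ x : α, x ∈ MulAction.fixedPoints M α := fun x => h ▸ Set.mem_univ x
    exact hfaith m fun x => h' x ⟨m, hm⟩
  haveI hTt : MulAction.IsPretransitive T α := hTne T hTn hT1
  have hCfree : ∀ c ∈ C, ∀ x : α, c • x = x → c = 1 := by
    intro c hc x hx
    refine hfaith c fun y => ?_
    obtain ⟨⟨t, ht⟩, rfl⟩ := MulAction.exists_smul_eq T x y
    show c • t • x = t • x
    rw [← mul_smul, ← Subgroup.mem_centralizer_iff.mp hc t ht, mul_smul, hx]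
  have hCcard : Nat.card C ≤ Nat.card α := by
    refine Nat.card_le_card_of_injective (fun c : C => (c : N) • a) fun c d h => ?_
    have := hCfree ((d : N)⁻¹ * c) (C.mul_mem (C.inv_mem d.2) c.2) a (by
      rw [mul_smul]; exact inv_smul_eq_iff.mpr h)
    exact Subtype.ext (inv_mul_eq_one.mp this).symm
  have hTgC : ∀ g, Tg g ≠ T → Tg g ≤ C := by
    intro g hg x hx
    rw [hC, Subgroup.mem_centralizer_iff]
    intro t ht
    haveI := hTgn g
    haveI := hTn
    have hdisj : T ⊓ Tg g = ⊥ := by
      refine (hTmin _ inferInstance inf_le_left).resolve_right fun h => hg ?_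
      exact (Subgroup.eq_of_le_of_card_ge (inf_eq_left.mp h) (hTgc g).le).symm
    exact Subgroup.commute_of_normal_of_disjoint T (Tg g) hTn (hTgn g) (disjoint_iff.mpr hdisj) t x ht hx
  obtain ⟨g₀, hg₀⟩ : ∃ g, Tg g ≠ T := by
    by_contra hcon
    push Not at hcon
    rcases hmin' T (fun g x hx => by rw [← hcon g]; exact (hTgmem _ _).mpr ⟨x, hx, rfl⟩) with h | h
    · exact hT1 h
    · exact hTtop h
  have hg0ne : Tg g₀ ≠ ⊥ := by
    intro h
    have := hTgc g₀
    rw [h, Subgroup.card_bot] at this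
    exact hT1 (Subgroup.eq_bot_of_card_eq T this.symm)
  haveI hg0t : MulAction.IsPretransitive (Tg g₀) α := hTne _ (hTgn g₀) hg0ne
  have hTfree : ∀ t ∈ T, ∀ x : α, t • x = x → t = 1 := by
    intro t ht x hx
    refine hfaith t fun y => ?_
    obtain ⟨⟨u, hu⟩, rfl⟩ := MulAction.exists_smul_eq (Tg g₀) x y
    show t • u • x = u • x
    rw [← mul_smul, Subgroup.mem_centralizer_iff.mp (hTgC g₀ hg₀ hu) t ht, mul_smul, hx]
  have hTn' : Nat.card α ≤ Nat.card T :=
    Nat.card_le_card_of_surjective (fun t : T => (t : N) • a) fun y => by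
      obtain ⟨t, ht⟩ := MulAction.exists_smul_eq T a y
      exact ⟨t, ht⟩
  have hTgeq : ∀ g, Tg g ≠ T → Tg g = C := fun g hg =>
    Subgroup.eq_of_le_of_card_ge (hTgC g hg) ((hTgc g).symm ▸ hCcard.trans hTn')
  -- orders of the elements of `T`
  have hord : ∀ x y : T, x ≠ 1 → y ≠ 1 → ∀ g : G, g • a = a → g • ((x : N) • a) = (y : N) • a →
      Tg g = T → orderOf x = orderOf y := by
    intro x y hx hy g hga hgx hg
    have hmem : MulAut.conjNormal g (x : N) ∈ T := by
      have h := (hTgmem g (MulAut.conjNormal g (x : N))).mpr ⟨x, x.2, rfl⟩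
      rwa [hg] at h
    have he : MulAut.conjNormal g (x : N) = (y : N) := by
      have := hTfree ((y : N)⁻¹ * MulAut.conjNormal g (x : N)) (T.mul_mem (T.inv_mem y.2) hmem) a (by
        rw [mul_smul, inv_smul_eq_iff, hsmul, MulAut.conjNormal_apply, mul_smul, mul_smul,
          inv_smul_eq_iff.mpr hga.symm]
        exact hgx)
      exact (inv_mul_eq_one.mp this).symm
    rw [← Subgroup.orderOf_coe x, ← Subgroup.orderOf_coe y, ← he, MulEquiv.orderOf_eq]
  have hcomp : ∀ g h, Tg (g * h) = (Tg h).map ((MulAut.conjNormal g : MulAut N).toMonoidHom) := by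
    intro g h
    show T.map _ = (T.map _).map _
    rw [Subgroup.map_map, map_mul]
    rfl
  have hone : T = Tg 1 := by
    ext x
    rw [hTgmem, map_one]
    simp
  have hne : ∀ x : T, x ≠ 1 → (x : N) • a ≠ a := fun x hx h =>
    hx (Subtype.ext (hTfree x x.2 a h))
  have hthree : ∀ x y z : T, x ≠ 1 → y ≠ 1 → z ≠ 1 → orderOf x = orderOf y ∨ orderOf x = orderOf z ∨ orderOf y = orderOf z := by
    intro x y z hx hy hz
    obtain ⟨g₁, a1, b1'⟩ := h2 a ((x : N) • a) a ((y : N) • a) (hne x hx).symm (hne y hy).symm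
    obtain ⟨g₂, a2, b2'⟩ := h2 a ((x : N) • a) a ((z : N) • a) (hne x hx).symm (hne z hz).symm
    by_cases h1 : Tg g₁ = T
    · exact Or.inl (hord x y hx hy g₁ a1 b1' h1)
    by_cases h2' : Tg g₂ = T
    · exact Or.inr (Or.inl (hord x z hx hz g₂ a2 b2' h2'))
    refine Or.inr (Or.inr (hord y z hy hz (g₂ * g₁⁻¹) ?_ ?_ ?_))
    · rw [mul_smul, inv_smul_eq_iff.mpr a1.symm, a2]
    · rw [mul_smul, inv_smul_eq_iff.mpr b1'.symm, b2']
    · by_contra hne'
      have h3 : Tg g₂ = Tg (g₂ * g₁⁻¹) := by rw [hTgeq g₂ h2', hTgeq _ hne']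
      rw [hcomp] at h3
      have h4 : Tg g₁⁻¹ = T := (Subgroup.map_injective (MulAut.conjNormal g₂ : MulAut N).injective h3).symm
      apply h1
      have h5 := hcomp g₁ g₁⁻¹
      rw [mul_inv_cancel, h4, ← hone] at h5
      exact h5.symm
  have hab : ∀ x ∈ T, ∀ y ∈ T, x * y = y * x := by
    have hcard : (Nat.card T).primeFactors.card ≤ 2 := by
      by_contra hcon
      obtain ⟨p, hp, q, hq, r, hr, hpq, hpr, hqr⟩ := Finset.two_lt_card.mp (Nat.lt_of_not_le hcon)
      rw [Nat.mem_primeFactors] at hp hq hr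
      haveI := Fact.mk hp.1; haveI := Fact.mk hq.1; haveI := Fact.mk hr.1
      obtain ⟨x, hx⟩ := exists_prime_orderOf_dvd_card' p hp.2.1
      obtain ⟨y, hy⟩ := exists_prime_orderOf_dvd_card' q hq.2.1
      obtain ⟨z, hz⟩ := exists_prime_orderOf_dvd_card' r hr.2.1
      have h1 : ∀ {w : T} {l : ℕ}, l.Prime → orderOf w = l → w ≠ 1 := fun {w l} hl hw h => by
        rw [h, orderOf_one] at hw; exact hl.ne_one hw.symm
      rcases hthree x y z (h1 hp.1 hx) (h1 hq.1 hy) (h1 hr.1 hz) with h | h | h <;> rw [hx, hy] at * <;> omega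
    have hsol : Group.IsSolvable T := by
      have hprod := Nat.prod_factorization_pow_eq_self (n := Nat.card T) Nat.card_pos.ne'
      rw [Finsupp.prod, Nat.support_factorization] at hprod
      rcases (Nat.card T).primeFactors.eq_empty_or_nonempty with he | ⟨p, hp⟩
      · rw [he, Finset.prod_empty] at hprod
        exact absurd (Subgroup.eq_bot_of_card_eq T hprod.symm) hT1
      have hpp := (Nat.mem_primeFactors.mp hp).1
      rcases ((Nat.card T).primeFactors.erase p).eq_empty_or_nonempty with he | ⟨q, hq⟩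
      · refine Cfsg.Agent.S0144.result p p ((Nat.card T).factorization p) 0 hpp hpp ?_
        rw [← Finset.insert_erase hp, he, insert_empty_eq, Finset.prod_singleton] at hprod
        rw [pow_zero, mul_one]; exact hprod.symm
      · obtain ⟨hqp, hq⟩ := Finset.mem_erase.mp hq
        refine Cfsg.Agent.S0144.result p q ((Nat.card T).factorization p) ((Nat.card T).factorization q) hpp (Nat.mem_primeFactors.mp hq).1 ?_
        have : (Nat.card T).primeFactors = {p, q} := (Finset.eq_of_subset_of_card_le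
          (Finset.insert_subset hp (Finset.singleton_subset_iff.mpr hq))
          (by rw [Finset.card_pair hqp.symm]; exact hcard)).symm
        rw [this, Finset.prod_pair hqp.symm] at hprod
        exact hprod.symm
    haveI := hsol
    haveI : Nontrivial T := T.nontrivial_iff_ne_bot.mpr hT1
    haveI := hTn
    have hlt := Group.IsSolvable.commutator_lt_top_of_nontrivial T
    have hD : ⁅T, T⁆ = ⊥ := by
      refine (hTmin _ (Subgroup.commutator_normal T T) (Subgroup.commutator_le_self T)).resolve_right fun h => ?_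
      rw [← Subgroup.map_subtype_commutator] at h
      exact hlt.ne (Subgroup.map_injective T.subtype_injective (by
        rw [h, ← MonoidHom.range_eq_map, Subgroup.range_subtype]))
    intro x hx y hy
    have := Subgroup.commutator_mem_commutator hx hy
    rw [hD, Subgroup.mem_bot] at this
    exact commutatorElement_eq_one_iff_mul_comm.mp this
  have hCab : ∀ x ∈ C, ∀ y ∈ C, x * y = y * x := by
    intro x hx y hy
    rw [← hTgeq g₀ hg₀, hTgmem] at hx hy
    obtain ⟨u, hu, rfl⟩ := hx
    obtain ⟨v, hv, rfl⟩ := hy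
    rw [← map_mul, ← map_mul, hab u hu v hv]
  have htop : T ⊔ C = ⊤ := by
    refine (hmin' (T ⊔ C) fun g x hx => ?_).resolve_left fun h => hT1 ?_
    · have h1 : (T ⊔ C).map ((MulAut.conjNormal g : MulAut N).toMonoidHom) ≤ T ⊔ C := by
        rw [Subgroup.map_sup]
        have h2 : ∀ k, Tg k ≤ T ⊔ C := fun k => by
          by_cases hk : Tg k = T
          · rw [hk]; exact le_sup_left
          · rw [hTgeq k hk]; exact le_sup_right
        refine sup_le (h2 g) ?_
        rw [← hTgeq g₀ hg₀, ← hcomp]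
        exact (h2 _).trans (by rw [hTgeq g₀ hg₀])
      exact h1 (Subgroup.mem_map_of_mem _ hx)
    · exact (sup_eq_bot_iff.mp h).1
  apply hnab
  have hTcen : ∀ t ∈ T, ∀ y : N, t * y = y * t := by
    intro t ht y
    have : T ⊔ C ≤ Subgroup.centralizer {t} := sup_le
      (fun u hu => Subgroup.mem_centralizer_singleton_iff.mpr (hab u hu t ht))
      (fun u hu => Subgroup.mem_centralizer_singleton_iff.mpr (Subgroup.mem_centralizer_iff.mp hu t ht).symm)
    exact (Subgroup.mem_centralizer_singleton_iff.mp (this (htop ▸ Subgroup.mem_top y))).symm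
  have hCcen : ∀ c ∈ C, ∀ y : N, c * y = y * c := by
    intro c hc y
    have : T ⊔ C ≤ Subgroup.centralizer {c} := sup_le
      (fun u hu => Subgroup.mem_centralizer_singleton_iff.mpr (hTcen u hu c))
      (fun u hu => Subgroup.mem_centralizer_singleton_iff.mpr (hCab u hu c hc))
    exact (Subgroup.mem_centralizer_singleton_iff.mp (this (htop ▸ Subgroup.mem_top y))).symm
  intro x y
  have : T ⊔ C ≤ Subgroup.centralizer {x} := sup_le
    (fun u hu => Subgroup.mem_centralizer_singleton_iff.mpr (hTcen u hu x))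
    (fun u hu => Subgroup.mem_centralizer_singleton_iff.mpr (hCcen u hu x))
  exact (Subgroup.mem_centralizer_singleton_iff.mp (this (htop ▸ Subgroup.mem_top y))).symm

end Cfsg.Agent.S0700
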