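import Cfsg.Statements.S0701
import Mathlib

set_option autoImplicit false
open Cfsg

namespace Cfsg.Agent.S0701

/-- The centraliser in the full symmetric group of a transitive permutation group `G` is semiregular, and it is transitive if and only if `G` is regular. -/
theorem result {α : Type*} (G : Subgroup (Equiv.Perm α)) [MulAction.IsPretransitive G α] : (∀ c ∈ Subgroup.centralizer (G : Set (Equiv.Perm α)), ∀ a : α, c a = a → c = 1) ∧ (MulAction.IsPretransitive (Subgroup.centralizer (G : Set (Equiv.Perm α))) α ↔ ∀ a : α, MulAction.stabilizer G a = ⊥) := by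
  have comm : ∀ c ∈ Subgroup.centralizer (G : Set (Equiv.Perm α)), ∀ g : G, ∀ x : α, c (g • x) = g • c x := by
    intro c hc g x
    exact (congrArg (fun σ : Equiv.Perm α => σ x) (hc g.1 g.2)).symm
  refine ⟨?_, ?_, ?_⟩
  · intro c hc a hca
    ext x
    obtain ⟨g, rfl⟩ := MulAction.exists_smul_eq G a x
    rw [comm c hc g a, hca]; rfl
  · intro h a
    rw [Subgroup.eq_bot_iff_forall]
    intro g hg
    apply Subtype.ext
    ext x
    obtain ⟨c, hc⟩ := MulAction.exists_smul_eq (Subgroup.centralizer (G : Set (Equiv.Perm α))) a x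
    have hc' : (c : Equiv.Perm α) a = x := hc
    show g • x = x
    rw [← hc', ← comm c c.2 g a, MulAction.mem_stabilizer_iff.1 hg]
  · intro h
    constructor
    intro a b
    have inj : ∀ d : α, Function.Bijective (fun g : G => g • d) := by
      intro d
      refine ⟨fun g k hgk => ?_, fun x => MulAction.exists_smul_eq G d x⟩
      have : k⁻¹ * g ∈ MulAction.stabilizer G d := by
        simp [MulAction.mem_stabilizer_iff, mul_smul, hgk]
      rw [h d, Subgroup.mem_bot, inv_mul_eq_one] at this
      exact this.symm
    let A := Equiv.ofBijective _ (inj a)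
    let B := Equiv.ofBijective _ (inj b)
    have hA : ∀ g : G, A.symm (g • a) = g := fun g => A.symm_apply_apply g
    refine ⟨⟨A.symm.trans B, ?_⟩, ?_⟩
    · intro σ hσ
      ext x
      obtain ⟨g, rfl⟩ := MulAction.exists_smul_eq G a x
      show σ (B (A.symm (g • a))) = B (A.symm (((⟨σ, hσ⟩ : G) * g) • a))
      rw [hA, hA]
      show σ (g • b) = ((⟨σ, hσ⟩ : G) * g) • b
      rw [mul_smul]; rfl
    · show B (A.symm a) = b
      have := hA 1
      rw [one_smul] at this
      rw [this]; exact one_smul G b

end Cfsg.Agent.S0701
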