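import Cfsg.Statements.S0702
import Mathlib

set_option autoImplicit false
open Cfsg

namespace Cfsg.Agent.S0702

/-- For a transitive permutation group `G` on a finite set, the centraliser of `G` in the symmetric group is isomorphic to `N_G(G_ω)/G_ω`, and its orbit of `ω` is the set of fixed points of `G_ω`. -/
theorem result {α : Type*} [Finite α] (G : Subgroup (Equiv.Perm α)) [MulAction.IsPretransitive G α] (a : α) : Nonempty (Subgroup.centralizer (G : Set (Equiv.Perm α)) ≃* Subgroup.normalizer ((MulAction.stabilizer G a : Subgroup G) : Set G) ⧸ (MulAction.stabilizer G a).subgroupOf (Subgroup.normalizer ((MulAction.stabilizer G a : Subgroup G) : Set G))) ∧ MulAction.orbit (Subgroup.centralizer (G : Set (Equiv.Perm α))) a = MulAction.fixedPoints (MulAction.stabilizer G a) α := by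
  classical
  set S := MulAction.stabilizer G a with hS
  set C := Subgroup.centralizer (G : Set (Equiv.Perm α)) with hC
  set N := Subgroup.normalizer (S : Set G) with hN
  have comm : ∀ c ∈ C, ∀ g : G, ∀ x : α, c (g • x) = g • c x := by
    intro c hc g x
    exact (congrArg (fun σ : Equiv.Perm α => σ x) (hc g.1 g.2)).symm
  have pick : ∀ x : α, ∃ g : G, g • a = x := fun x => MulAction.exists_smul_eq G a x
  choose sec hsec using pick
  have wd : ∀ n : N, ∀ g g' : G, g • a = g' • a → (g * (n : G)⁻¹) • a = (g' * (n : G)⁻¹) • a := by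
    intro n g g' h
    have h1 : g'⁻¹ * g ∈ S := by simp [hS, MulAction.mem_stabilizer_iff, mul_smul, h]
    have h2 : (n : G) * (g'⁻¹ * g) * (n : G)⁻¹ ∈ S := (Subgroup.mem_normalizer_iff.1 n.2 _).1 h1
    rw [hS, MulAction.mem_stabilizer_iff] at h2
    rw [show g * (n : G)⁻¹ = g' * (n : G)⁻¹ * ((n : G) * (g'⁻¹ * g) * (n : G)⁻¹) by group, mul_smul _ ((n : G) * _ * _), h2]
  let f : N → α → α := fun n x => (sec x * (n : G)⁻¹) • a
  have fapp : ∀ (n : N) (g : G), f n (g • a) = (g * (n : G)⁻¹) • a := fun n g => wd n _ _ (hsec _)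
  have fmul : ∀ (n m : N) (x : α), f n (f m x) = f (n * m) x := by
    intro n m x
    obtain ⟨g, rfl⟩ := MulAction.exists_smul_eq G a x
    rw [fapp m g, fapp n (g * (m : G)⁻¹), fapp (n * m) g]; simp [mul_assoc]
  have fone : ∀ x : α, f 1 x = x := fun x => by simp [f, hsec]
  let φ : N →* C :=
    { toFun := fun n => ⟨⟨f n, f n⁻¹, fun x => by rw [fmul, inv_mul_cancel, fone], fun x => by rw [fmul, mul_inv_cancel, fone]⟩, by
        intro σ hσ
        ext x
        obtain ⟨g, rfl⟩ := MulAction.exists_smul_eq G a x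
        show σ (f n (g • a)) = f n (((⟨σ, hσ⟩ : G) * g) • a)
        rw [fapp, fapp, mul_assoc (⟨σ, hσ⟩ : G), mul_smul]; rfl⟩
      map_one' := Subtype.ext (Equiv.ext fun x => fone x)
      map_mul' := fun n m => Subtype.ext (Equiv.ext fun x => (fmul n m x).symm) }
  have norm : ∀ c ∈ C, ∀ h : G, h • a = c a → h⁻¹ ∈ N := by
    intro c hc h hh
    have hle : ∀ g ∈ S, h⁻¹ * g * h ∈ S := by
      intro g hg
      rw [hS, MulAction.mem_stabilizer_iff] at hg ⊢
      rw [mul_smul, mul_smul, hh, ← comm c hc g, hg, ← hh, inv_smul_smul]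
    rw [hN, Subgroup.mem_normalizer_iff]
    intro g
    refine ⟨fun hg => by simpa using hle g hg, fun hg => ?_⟩
    let t : S → S := fun x => ⟨h⁻¹ * x * h, hle x x.2⟩
    have ht : Function.Injective t := fun x y e => Subtype.ext (by simpa [t] using congrArg Subtype.val e)
    obtain ⟨x, hx⟩ := (Finite.injective_iff_surjective.1 ht) ⟨h⁻¹ * g * h, by simpa using hg⟩
    have : (x : G) = g := by simpa [t] using congrArg Subtype.val hx
    exact this ▸ x.2
  refine ⟨⟨?_⟩, ?_⟩
  · have hker : φ.ker = S.subgroupOf N := by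
      ext n
      rw [MonoidHom.mem_ker, Subgroup.mem_subgroupOf]
      constructor
      · intro h
        have := congrArg (fun c : C => (c : Equiv.Perm α) ((1 : G) • a)) h
        change f n ((1 : G) • a) = (1 : G) • a at this
        rw [fapp, one_mul, one_smul] at this
        simpa using S.inv_mem (show (n : G)⁻¹ ∈ S from this)
      · intro h
        apply Subtype.ext
        refine Equiv.ext fun x => ?_
        show f n x = x
        have : (n : G)⁻¹ • a = a := S.inv_mem h
        show (sec x * (n : G)⁻¹) • a = x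
        rw [mul_smul, this, hsec]
    have hsurj : Function.Surjective φ := by
      rintro ⟨c, hc⟩
      obtain ⟨h, hh⟩ := MulAction.exists_smul_eq G a (c a)
      refine ⟨⟨h⁻¹, norm c hc h hh⟩, Subtype.ext (Equiv.ext fun x => ?_)⟩
      obtain ⟨g, rfl⟩ := MulAction.exists_smul_eq G a x
      show f _ (g • a) = c (g • a)
      rw [fapp, comm c hc g, ← hh, ← mul_smul]
      simp
    exact ((QuotientGroup.quotientMulEquivOfEq hker).symm.trans (QuotientGroup.quotientKerEquivOfSurjective φ hsurj)).symm
  · ext x
    constructor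
    · rintro ⟨c, rfl⟩ ⟨g, hg⟩
      show g • ((c : Equiv.Perm α) a) = (c : Equiv.Perm α) a
      rw [← comm c c.2 g, show g • a = a from hg]
    · intro hx
      obtain ⟨h, rfl⟩ := MulAction.exists_smul_eq G a x
      have hle : ∀ g ∈ S, h⁻¹ * g * h ∈ S := by
        intro g hg
        have := hx ⟨g, hg⟩
        rw [hS, MulAction.mem_stabilizer_iff, mul_smul, mul_smul]
        rw [show g • h • a = h • a from this, inv_smul_smul]
      have hn : h⁻¹ ∈ N := by
        rw [hN, Subgroup.mem_normalizer_iff]
        intro g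
        refine ⟨fun hg => by simpa using hle g hg, fun hg => ?_⟩
        let t : S → S := fun x => ⟨h⁻¹ * x * h, hle x x.2⟩
        have ht : Function.Injective t := fun x y e => Subtype.ext (by simpa [t] using congrArg Subtype.val e)
        obtain ⟨x, hx⟩ := (Finite.injective_iff_surjective.1 ht) ⟨h⁻¹ * g * h, by simpa using hg⟩
        have : (x : G) = g := by simpa [t] using congrArg Subtype.val hx
        exact this ▸ x.2
      refine ⟨φ ⟨h⁻¹, hn⟩, ?_⟩
      show f _ a = h • a
      have := fapp ⟨h⁻¹, hn⟩ 1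
      rw [one_smul, one_mul] at this
      rw [this]; simp

end Cfsg.Agent.S0702
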