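import Cfsg.Statements.S0703
import Mathlib

set_option autoImplicit false
open Cfsg

namespace Cfsg.Agent.S0703

/-- An abelian transitive minimal normal subgroup `M` of a permutation group on a finite set is self-centralising in the symmetric group, regular, elementary abelian, and is the unique minimal normal subgroup. -/
theorem result {α : Type*} [Finite α] (G : Subgroup (Equiv.Perm α)) (M : Subgroup G) [M.Normal] (hM : M ≠ ⊥) (hmin : ∀ L : Subgroup G, L.Normal → L ≤ M → L = ⊥ ∨ L = M) (hab : IsMulCommutative M) (htrans : MulAction.IsPretransitive M α) : Subgroup.centralizer ((M.map G.subtype : Subgroup (Equiv.Perm α)) : Set (Equiv.Perm α)) = M.map G.subtype ∧ (∀ a : α, MulAction.stabilizer M a = ⊥) ∧ (∃ p : ℕ, p.Prime ∧ ∀ m ∈ M, m ^ p = 1) ∧ ∀ L : Subgroup G, L.Normal → L ≠ ⊥ → (∀ L' : Subgroup G, L'.Normal → L' ≤ L → L' = ⊥ ∨ L' = L) → L = M := by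
  haveI := htrans
  have hab' : ∀ m k : M, m * k = k * m := fun m k => hab.1.comm m k
  have hstab : ∀ a : α, MulAction.stabilizer M a = ⊥ := by
    intro a
    rw [Subgroup.eq_bot_iff_forall]
    intro m hm
    apply Subtype.ext; apply Subtype.ext
    ext x
    obtain ⟨k, rfl⟩ := MulAction.exists_smul_eq M a x
    show m • k • a = k • a
    rw [← mul_smul, hab', mul_smul, MulAction.mem_stabilizer_iff.1 hm]
  have hC : Subgroup.centralizer ((M.map G.subtype : Subgroup (Equiv.Perm α)) : Set (Equiv.Perm α)) = M.map G.subtype := by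
    apply le_antisymm
    · intro c hc
      by_cases hα : IsEmpty α
      · exact ⟨1, M.one_mem, Equiv.ext fun x => hα.elim x⟩
      rw [not_isEmpty_iff] at hα
      obtain ⟨a⟩ := hα
      obtain ⟨m, hm⟩ := MulAction.exists_smul_eq M a (c a)
      refine ⟨m, m.2, Equiv.ext fun x => ?_⟩
      obtain ⟨k, rfl⟩ := MulAction.exists_smul_eq M a x
      show m • k • a = c (k • a)
      have h1 : ((k : G) : Equiv.Perm α) * c = c * ((k : G) : Equiv.Perm α) := hc _ ⟨k, k.2, rfl⟩
      have h2 := congrArg (fun σ : Equiv.Perm α => σ a) h1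
      rw [← mul_smul, hab', mul_smul, hm]
      exact h2
    · rintro _ ⟨m, hm, rfl⟩ _ ⟨k, hk, rfl⟩
      exact congrArg (fun u : M => ((u : G) : Equiv.Perm α)) (hab' ⟨k, hk⟩ ⟨m, hm⟩)
  refine ⟨hC, hstab, ?_, ?_⟩
  · haveI : Nontrivial M := by rwa [Subgroup.nontrivial_iff_ne_bot]
    haveI : Finite M := inferInstance
    obtain ⟨p, hp, hpd⟩ := Nat.exists_prime_and_dvd (n := Nat.card M) (by
      have := Finite.one_lt_card (α := M); omega)
    haveI : Fact p.Prime := ⟨hp⟩
    obtain ⟨y, hy⟩ := exists_prime_orderOf_dvd_card' (G := M) p hpd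
    let L : Subgroup G :=
      { carrier := {g | g ∈ M ∧ g ^ p = 1}
        one_mem' := ⟨M.one_mem, one_pow _⟩
        mul_mem' := fun {a b} ha hb => ⟨M.mul_mem ha.1 hb.1, by
          rw [(show Commute a b from congrArg Subtype.val (hab' ⟨a, ha.1⟩ ⟨b, hb.1⟩)).mul_pow, ha.2, hb.2, one_mul]⟩
        inv_mem' := fun {a} ha => ⟨M.inv_mem ha.1, by rw [inv_pow, ha.2, inv_one]⟩ }
    have hLn : L.Normal := ⟨fun l hl g => ⟨Subgroup.Normal.conj_mem inferInstance l hl.1 g, by rw [conj_pow, hl.2]; simp⟩⟩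
    rcases hmin L hLn (fun g hg => hg.1) with h | h
    · have : (y : G) ∈ L := ⟨y.2, by rw [← SubmonoidClass.coe_pow, ← hy, pow_orderOf_eq_one]; rfl⟩
      rw [h, Subgroup.mem_bot] at this
      have : y = 1 := Subtype.ext this
      rw [this, orderOf_one] at hy
      exact absurd hy hp.one_lt.ne
    · exact ⟨p, hp, fun m hm => (h.symm ▸ hm : m ∈ L).2⟩
  · intro L hLn hL hLmin
    have key : L ⊓ M = ⊥ ∨ L ⊓ M = M := hmin _ (Subgroup.normal_inf_normal L M) inf_le_right
    rcases key with h | h
    · exfalso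
      apply hL
      rw [← le_bot_iff]
      intro l hl
      have hlM : l ∈ M := by
        have : ((l : G) : Equiv.Perm α) ∈ M.map G.subtype := by
          rw [← hC]
          rintro _ ⟨m, hm, rfl⟩
          exact congrArg Subtype.val (Subgroup.commute_of_normal_of_disjoint M L inferInstance hLn (disjoint_iff.2 (by rw [inf_comm]; exact h)) m l hm hl).eq
        obtain ⟨m, hm, hml⟩ := this
        exact (Subtype.ext hml : m = l) ▸ hm
      exact h ▸ ⟨hl, hlM⟩
    · have hle : M ≤ L := inf_eq_right.1 h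
      exact ((hLmin M inferInstance hle).resolve_left hM).symm

end Cfsg.Agent.S0703
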