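import Cfsg.Statements.S0704
import Mathlib

set_option autoImplicit false
open Cfsg

namespace Cfsg.Agent.S0704

/-- Two distinct transitive minimal normal subgroups `M`, `N` of a permutation group are regular, non-abelian, isomorphic, each other's centraliser in the symmetric group, and the only minimal normal subgroups. -/
theorem result {α : Type*} (G : Subgroup (Equiv.Perm α)) (M N : Subgroup G) [M.Normal] [N.Normal] (hM : M ≠ ⊥) (hN : N ≠ ⊥) (hMmin : ∀ L : Subgroup G, L.Normal → L ≤ M → L = ⊥ ∨ L = M) (hNmin : ∀ L : Subgroup G, L.Normal → L ≤ N → L = ⊥ ∨ L = N) (hMN : M ≠ N) (hMt : MulAction.IsPretransitive M α) (hNt : MulAction.IsPretransitive N α) : (∀ a : α, MulAction.stabilizer M a = ⊥) ∧ (∀ a : α, MulAction.stabilizer N a = ⊥) ∧ ¬ IsMulCommutative M ∧ Nonempty (M ≃* N) ∧ Subgroup.centralizer ((M.map G.subtype : Subgroup (Equiv.Perm α)) : Set (Equiv.Perm α)) = N.map G.subtype ∧ Subgroup.centralizer ((N.map G.subtype : Subgroup (Equiv.Perm α)) : Set (Equiv.Perm α)) =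 M.map G.subtype ∧ ∀ L : Subgroup G, L.Normal → L ≠ ⊥ → (∀ L' : Subgroup G, L'.Normal → L' ≤ L → L' = ⊥ ∨ L' = L) → L = M ∨ L = N := by
  haveI := hMt
  haveI := hNt
  have hdis : M ⊓ N = ⊥ := by
    rcases hMmin _ (Subgroup.normal_inf_normal M N) inf_le_left with h | h
    · exact h
    · exact absurd ((hNmin M inferInstance (inf_eq_left.1 h)).resolve_left hM) hMN
  have hcom : ∀ m ∈ M, ∀ n ∈ N, m * n = n * m := fun m hm n hn =>
    (Subgroup.commute_of_normal_of_disjoint M N inferInstance inferInstance (disjoint_iff.2 hdis) m n hm hn).eq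
  have free : ∀ (M N : Subgroup G), MulAction.IsPretransitive N α → (∀ m ∈ M, ∀ n ∈ N, m * n = n * m) →
      ∀ a : α, MulAction.stabilizer M a = ⊥ := by
    intro M N hNt hcom a
    rw [Subgroup.eq_bot_iff_forall]
    intro m hm
    apply Subtype.ext; apply Subtype.ext
    ext x
    obtain ⟨n, rfl⟩ := hNt.exists_smul_eq a x
    show (m : G) • ((n : G) • a) = (n : G) • a
    rw [← mul_smul, hcom m m.2 n n.2, mul_smul]
    exact congrArg ((n : G) • ·) hm
  have cent : ∀ (M N : Subgroup G), MulAction.IsPretransitive M α → MulAction.IsPretransitive N α →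
      (∀ m ∈ M, ∀ n ∈ N, m * n = n * m) →
      Subgroup.centralizer ((M.map G.subtype : Subgroup (Equiv.Perm α)) : Set (Equiv.Perm α)) = N.map G.subtype := by
    intro M N hMt hNt hcom
    apply le_antisymm
    · intro c hc
      by_cases hα : IsEmpty α
      · exact ⟨1, N.one_mem, Equiv.ext fun x => hα.elim x⟩
      rw [not_isEmpty_iff] at hα
      obtain ⟨a⟩ := hα
      obtain ⟨n, hn⟩ := hNt.exists_smul_eq a (c a)
      refine ⟨n, n.2, Equiv.ext fun x => ?_⟩
      obtain ⟨m, rfl⟩ := hMt.exists_smul_eq a x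
      show (n : G) • ((m : G) • a) = c ((m : G) • a)
      have h1 : ((m : G) : Equiv.Perm α) * c = c * ((m : G) : Equiv.Perm α) := hc _ ⟨m, m.2, rfl⟩
      have h2 := congrArg (fun σ : Equiv.Perm α => σ a) h1
      rw [← mul_smul, ← hcom m m.2 n n.2, mul_smul, show (n : G) • a = c a from hn]
      exact h2
    · rintro _ ⟨n, hn, rfl⟩ _ ⟨m, hm, rfl⟩
      exact congrArg Subtype.val (hcom m hm n hn)
  have hcom' : ∀ n ∈ N, ∀ m ∈ M, n * m = m * n := fun n hn m hm => (hcom m hm n hn).symm
  have hCM := cent M N hMt hNt hcom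
  have hCN := cent N M hNt hMt hcom'
  have hsM := free M N hNt hcom
  have hsN := free N M hMt hcom'
  refine ⟨hsM, hsN, ?_, ?_, hCM, hCN, ?_⟩
  · intro hab
    apply hM
    rw [← le_bot_iff, ← hdis]
    intro m hm
    refine ⟨hm, ?_⟩
    have : ((m : G) : Equiv.Perm α) ∈ N.map G.subtype := by
      rw [← hCM]
      rintro _ ⟨k, hk, rfl⟩
      exact congrArg (fun u : M => ((u : G) : Equiv.Perm α)) (mul_comm' (⟨k, hk⟩ : M) ⟨m, hm⟩)
    obtain ⟨n, hn, hnm⟩ := this
    exact (Subtype.ext hnm : n = m) ▸ hn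
  · by_cases hα : IsEmpty α
    · exfalso
      apply hM
      rw [Subgroup.eq_bot_iff_forall]
      intro m _
      exact Subtype.ext (Equiv.ext fun x => hα.elim x)
    rw [not_isEmpty_iff] at hα
    obtain ⟨a⟩ := hα
    choose f hf using fun m : M => hNt.exists_smul_eq a (m⁻¹ • a)
    have huniq : ∀ (n n' : N), n • a = n' • a → n = n' := by
      intro n n' h
      have : n'⁻¹ * n ∈ MulAction.stabilizer N a := by simp [MulAction.mem_stabilizer_iff, mul_smul, h]
      rw [hsN a, Subgroup.mem_bot, inv_mul_eq_one] at this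
      exact this.symm
    have hmul : ∀ m k : M, f (m * k) = f m * f k := by
      intro m k
      apply huniq
      rw [hf, mul_smul, hf k, mul_inv_rev, mul_smul]
      show ((k⁻¹ : M) : G) • ((m⁻¹ : M) : G) • a = (f m : G) • ((k⁻¹ : M) : G) • a
      rw [← mul_smul (f m : G), ← hcom ((k⁻¹ : M) : G) (k⁻¹).2 (f m : G) (f m).2, mul_smul]
      exact congrArg (((k⁻¹ : M) : G) • ·) (hf m).symm
    refine ⟨MulEquiv.ofBijective (MonoidHom.mk' f hmul) ⟨?_, ?_⟩⟩
    · intro m k h
      have h' : f m = f k := h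
      have h2 : m⁻¹ • a = k⁻¹ • a := by rw [← hf, ← hf, h']
      have : k * m⁻¹ ∈ MulAction.stabilizer M a := by simp [MulAction.mem_stabilizer_iff, mul_smul, h2]
      rw [hsM a, Subgroup.mem_bot, mul_inv_eq_one] at this
      exact this.symm
    · intro n
      obtain ⟨m, hm⟩ := hMt.exists_smul_eq a (n • a)
      exact ⟨m⁻¹, huniq _ _ (by show f m⁻¹ • a = n • a; rw [hf, inv_inv, hm])⟩
  · intro L hLn hL hLmin
    by_contra hcon
    push Not at hcon
    have h1 : ∀ (M : Subgroup G), M.Normal → (∀ K : Subgroup G, K.Normal → K ≤ M → K = ⊥ ∨ K = M) → M ≠ ⊥ → L ≠ M → L ⊓ M = ⊥ := by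
      intro M hMn hmin hMne hne
      rcases hmin _ (Subgroup.normal_inf_normal L M) inf_le_right with h | h
      · exact h
      · exact absurd ((hLmin M hMn (inf_eq_right.1 h)).resolve_left hMne).symm hne
    have hLM := h1 M inferInstance hMmin hM hcon.1
    have hLN := h1 N inferInstance hNmin hN hcon.2
    apply hL
    rw [← le_bot_iff, ← hLN]
    intro l hl
    refine ⟨hl, ?_⟩
    have : ((l : G) : Equiv.Perm α) ∈ N.map G.subtype := by
      rw [← hCM]
      rintro _ ⟨m, hm, rfl⟩
      exact congrArg Subtype.val (Subgroup.commute_of_normal_of_disjoint M L inferInstance hLn (disjoint_iff.2 (by rw [inf_comm]; exact hLM)) m l hm hl).eq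
    obtain ⟨n, hn, hnl⟩ := this
    exact (Subtype.ext hnl : n = l) ▸ hn

end Cfsg.Agent.S0704
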