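import Cfsg.Statements.S0705
import Mathlib
import Cfsg.Agent.Lib.Perm.Step

set_option autoImplicit false
open scoped Pointwise
open Cfsg

namespace Cfsg.Agent.S0705

/-- A generously `k`-transitive permutation group (every `(k+1)`-subset has its full symmetric group induced by the setwise stabiliser) of degree greater than `k` is `k`-transitive, and for a `k`-subset the setwise and pointwise stabilisers have the same orbits outside it. -/
theorem result {α : Type*} [Fintype α] [DecidableEq α] (G : Subgroup (Equiv.Perm α)) {k : ℕ} (hk : k < Fintype.card α) (hgen : ∀ s : Finset α, s.card = k + 1 → ∀ σ : Equiv.Perm ↥s, ∃ g ∈ G, ∀ x : ↥s, g (x : α) = σ x) : MulAction.IsMultiplyPretransitive G α k ∧ ∀ s : Finset α, s.card = k → ∀ a b : α, a ∉ s → b ∉ s → (∃ g ∈ G, g • s = s ∧ g a = b) → ∃ g ∈ G, (∀ x ∈ s, g x = x) ∧ g a = b := by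
  classical
  have key : ∀ s : Finset α, s.card = k + 1 → ∀ a ∈ s, ∀ b ∈ s, ∃ g ∈ G, g a = b ∧ ∀ z ∈ s, z ≠ a → z ≠ b → g z = z := by
    intro s hs a ha b hb
    obtain ⟨g, hg, hgx⟩ := hgen s hs (Equiv.swap ⟨a, ha⟩ ⟨b, hb⟩)
    refine ⟨g, hg, ?_, fun z hz hza hzb => ?_⟩
    · rw [hgx ⟨a, ha⟩, Equiv.swap_apply_left]
    · rw [hgx ⟨z, hz⟩, Equiv.swap_apply_of_ne_of_ne (by simpa using hza) (by simpa using hzb)]
  refine ⟨Cfsg.Agent.Perm.isMultiplyPretransitive_of_step ?_, ?_⟩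
  · intro u hu x y hx hy
    obtain ⟨s, hs1, hs2⟩ := Finset.exists_superset_card_eq (s := insert x (insert y u)) (n := k + 1)
      (le_trans (Finset.card_insert_le _ _) (by have := Finset.card_insert_le y u; omega)) (by omega)
    obtain ⟨g, hg, hab, hfix⟩ := key s hs2 x (hs1 (by simp)) y (hs1 (by simp))
    exact ⟨⟨g, hg⟩, fun z hz => hfix z (hs1 (by simp [hz])) (fun h => hx (h ▸ hz)) (fun h => hy (h ▸ hz)), hab⟩
  · rintro s hs a b ha hb ⟨g, hg, hgs, hgab⟩
    have hmem : ∀ z ∈ s, g z ∈ s := by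
      intro z hz
      rw [← hgs]
      exact Finset.smul_mem_smul_finset hz
    let π : Equiv.Perm ↥s := Equiv.ofBijective (fun z => ⟨g z.1, hmem z.1 z.2⟩)
      (Finite.injective_iff_bijective.1 fun z w h => Subtype.ext (g.injective (congrArg Subtype.val h)))
    have hcard : (insert b s).card = k + 1 := by rw [Finset.card_insert_of_notMem hb, hs]
    let emb : ↥s ↪ ↥(insert b s) := ⟨fun z => ⟨z.1, Finset.mem_insert_of_mem z.2⟩, fun z w h => Subtype.ext (by simpa using h)⟩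
    obtain ⟨h, hh, hhx⟩ := hgen (insert b s) hcard (π⁻¹.extendDomain
      (p := fun z : ↥(insert b s) => z.1 ∈ s)
      { toFun := fun z => ⟨emb z, z.2⟩, invFun := fun z => ⟨z.1.1, z.2⟩, left_inv := fun _ => rfl, right_inv := fun _ => rfl })
    refine ⟨h * g, G.mul_mem hh hg, fun z hz => ?_, ?_⟩
    · rw [Equiv.Perm.mul_apply, hhx ⟨g z, Finset.mem_insert_of_mem (hmem z hz)⟩]
      erw [Equiv.Perm.extendDomain_apply_subtype _ _ (b := (⟨g z, Finset.mem_insert_of_mem (hmem z hz)⟩ : ↥(insert b s))) (hmem z hz)]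
      show ((π⁻¹ ⟨g z, hmem z hz⟩ : ↥s) : α) = z
      rw [show (⟨g z, hmem z hz⟩ : ↥s) = π ⟨z, hz⟩ from rfl, Equiv.Perm.inv_def, Equiv.symm_apply_apply]
    · rw [Equiv.Perm.mul_apply, hgab, hhx ⟨b, Finset.mem_insert_self b s⟩,
        Equiv.Perm.extendDomain_apply_not_subtype _ _ (by exact hb)]

end Cfsg.Agent.S0705
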