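import Cfsg.Statements.S0706
import Mathlib

set_option autoImplicit false
open Cfsg

namespace Cfsg.Agent.S0706

open scoped Pointwise

open scoped Classical in
/-- A generously transitive group is transitive on `k`-sets. -/
theorem exists_image_eq {α : Type*} [Fintype α] (G : Subgroup (Equiv.Perm α)) {k : ℕ} (hk : k < Fintype.card α)
    (hgen : ∀ s : Finset α, s.card = k + 1 → ∀ σ : Equiv.Perm ↥s, ∃ g ∈ G, ∀ x : ↥s, g (x : α) = σ x)
    (A B : Finset α) (hA : A.card = k) (hB : B.card = k) : ∃ w : G, A.image (fun z => w • z) = B := by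
  induction hn : (A \ B).card generalizing A with
  | zero =>
    refine ⟨1, ?_⟩
    rw [Finset.card_eq_zero, Finset.sdiff_eq_empty_iff_subset] at hn
    rw [Finset.eq_of_subset_of_card_le hn (by omega)]
    simp
  | succ n ih =>
    obtain ⟨a, ha⟩ := Finset.card_pos.1 (show 0 < (A \ B).card by omega)
    obtain ⟨haA, haB⟩ := Finset.mem_sdiff.1 ha
    have hBA : (B \ A).card = (A \ B).card := Finset.card_sdiff_comm (hB.trans hA.symm)
    obtain ⟨b, hb⟩ := Finset.card_pos.1 (show 0 < (B \ A).card by omega)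
    obtain ⟨hbB, hbA⟩ := Finset.mem_sdiff.1 hb
    obtain ⟨g, hg, hgv⟩ := hgen (insert b A) (by rw [Finset.card_insert_of_notMem hbA, hA])
      (Equiv.swap ⟨a, Finset.mem_insert_of_mem haA⟩ ⟨b, Finset.mem_insert_self _ _⟩)
    have hga : g a = b := by simpa using hgv ⟨a, Finset.mem_insert_of_mem haA⟩
    have hgz : ∀ z ∈ A, z ≠ a → g z = z := fun z hz hza => by
      have := hgv ⟨z, Finset.mem_insert_of_mem hz⟩
      rwa [Equiv.swap_apply_of_ne_of_ne (by simpa [Subtype.ext_iff] using hza)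
        (by simpa [Subtype.ext_iff] using fun h : z = b => hbA (h ▸ hz))] at this
    have hAg : A.image (fun z => g z) = insert b (A.erase a) := by
      conv_lhs => rw [← Finset.insert_erase haA]
      rw [Finset.image_insert, hga]
      congr 1
      refine (Finset.image_congr fun z hz => ?_).trans Finset.image_id
      obtain ⟨h1, h2⟩ := Finset.mem_erase.1 (Finset.mem_coe.1 hz)
      exact hgz z h2 h1
    obtain ⟨w, hw⟩ := ih (insert b (A.erase a))
      (by rw [← hAg, Finset.card_image_of_injective _ g.injective, hA]) (by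
        rw [Finset.insert_sdiff_of_mem _ hbB, show A.erase a \ B = (A \ B).erase a by ext; simp; tauto,
          Finset.card_erase_of_mem ha]
        omega)
    refine ⟨w * ⟨g, hg⟩, ?_⟩
    rw [← hw, ← hAg, Finset.image_image]
    rfl


/-- In a generously `k`-transitive permutation group, for a prime `p ≤ k` and a `k`-set `Γ`, there are no `p` points outside `Γ` lying in distinct orbits of the pointwise stabiliser of `Γ` all of length prime to `p` (at most `p - 1` such orbits). -/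
theorem result {α : Type*} [Fintype α] [DecidableEq α] (G : Subgroup (Equiv.Perm α)) {k : ℕ} (hk : k < Fintype.card α) (hgen : ∀ s : Finset α, s.card = k + 1 → ∀ σ : Equiv.Perm ↥s, ∃ g ∈ G, ∀ x : ↥s, g (x : α) = σ x) {p : ℕ} (hp : p.Prime) (hpk : p ≤ k) (Γ : Finset α) (hΓ : Γ.card = k) (f : Fin p → α) (hf : ∀ i, f i ∉ Γ) (hdist : ∀ i j, i ≠ j → f j ∉ MulAction.orbit (fixingSubgroup G (Γ : Set α)) (f i)) : ∃ i, p ∣ Nat.card (MulAction.orbit (fixingSubgroup G (Γ : Set α)) (f i)) := by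
  classical
  haveI := Fact.mk hp
  by_contra hno
  push Not at hno
  set F := fixingSubgroup G (Γ : Set α) with hF
  obtain ⟨Δ, hΔΓ, hΔ⟩ := Finset.exists_subset_card_eq (hpk.trans_eq hΓ.symm)
  -- a cyclic permutation of order `p` of the points of `Δ`
  obtain ⟨τ, hτ⟩ := exists_prime_orderOf_dvd_card p (show p ∣ Fintype.card (Equiv.Perm ↥Δ) by
    rw [Fintype.card_perm, Fintype.card_coe, hΔ]
    exact Nat.dvd_factorial hp.pos le_rfl)
  have hmemF : ∀ g : G, g ∈ F ↔ ∀ z ∈ Γ, (g : Equiv.Perm α) z = z := fun g => by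
    simp only [hF, mem_fixingSubgroup_iff, Finset.mem_coe]
    rfl
  set σ : Equiv.Perm α := Equiv.Perm.ofSubtype τ with hσ
  have hσout : ∀ z, z ∉ Δ → σ z = z := fun z hz => Equiv.Perm.ofSubtype_apply_of_not_mem τ hz
  have hσΓ : ∀ z, z ∈ Γ → σ z ∈ Γ := fun z hz => by
    by_cases hzΔ : z ∈ Δ
    · rw [hσ, Equiv.Perm.ofSubtype_apply_of_mem τ hzΔ]
      exact hΔΓ (τ ⟨z, hzΔ⟩).2
    · rwa [hσout z hzΔ]
  have hσp : σ ^ p = 1 := by rw [hσ, ← map_pow, ← hτ, pow_orderOf_eq_one, map_one]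
  -- for each `i` an element fixing `f i` and inducing `σ` on `Γ`
  have hgi : ∀ i, ∃ g : G, (g : Equiv.Perm α) (f i) = f i ∧ ∀ z ∈ Γ, (g : Equiv.Perm α) z = σ z := by
    intro i
    have hs : (insert (f i) Γ).card = k + 1 := by rw [Finset.card_insert_of_notMem (hf i), hΓ]
    have hfiΔ : f i ∉ Δ := fun h => hf i (hΔΓ h)
    have hst : ∀ z, σ z ∈ insert (f i) Γ ↔ z ∈ insert (f i) Γ := by
      have h1 : ∀ z ∈ insert (f i) Γ, σ z ∈ insert (f i) Γ := fun z hz => by
        rcases Finset.mem_insert.1 hz with rfl | hz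
        · rw [hσout _ hfiΔ]; exact Finset.mem_insert_self _ _
        · exact Finset.mem_insert_of_mem (hσΓ z hz)
      intro z
      refine ⟨fun hz => ?_, h1 z⟩
      by_contra hzn
      have hzΔ : z ∉ Δ := fun h => hzn (Finset.mem_insert_of_mem (hΔΓ h))
      rw [hσout z hzΔ] at hz
      exact hzn hz
    obtain ⟨g, hg, hgv⟩ := hgen _ hs (σ.subtypePerm hst)
    refine ⟨⟨g, hg⟩, ?_, fun z hz => ?_⟩
    · have := hgv ⟨f i, Finset.mem_insert_self _ _⟩
      simpa [hσout _ hfiΔ] using this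
    · simpa using hgv ⟨z, Finset.mem_insert_of_mem hz⟩
  choose g hgf hgΓ using hgi
  let i₀ : Fin p := ⟨0, hp.pos⟩
  set g₀ := g i₀ with hg₀
  have hσsurj : ∀ z ∈ Γ, ∃ z' ∈ Γ, σ z' = z := fun z hz => by
    obtain ⟨z', hz', h⟩ := Finset.surj_on_of_inj_on_of_card_le (fun a (_ : a ∈ Γ) => σ a) hσΓ
      (fun a b _ _ h => σ.injective h) le_rfl z hz
    exact ⟨z', hz', h.symm⟩
  have hconjF : ∀ x : G, (∀ z ∈ Γ, (x : Equiv.Perm α) z = σ z) → ∀ h : G, h ∈ F →
      x * h * x⁻¹ ∈ F ∧ x⁻¹ * h * x ∈ F := by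
    intro x hx h hh
    constructor
    · rw [hmemF]
      intro z hz
      obtain ⟨z', hz', rfl⟩ := hσsurj z hz
      rw [← hx z' hz']
      simp [Equiv.Perm.mul_apply, (hmemF h).1 hh z' hz']
    · rw [hmemF]
      intro z hz
      have h1 : (h : Equiv.Perm α) ((x : Equiv.Perm α) z) = (x : Equiv.Perm α) z := by
        rw [hx z hz]
        exact (hmemF h).1 hh _ (hσΓ z hz)
      simp [Equiv.Perm.mul_apply, h1]
  -- the subgroup generated by `F` and `g₀`
  set E : Subgroup G := Subgroup.closure (insert g₀ (F : Set G)) with hE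
  have hFE : F ≤ E := fun x hx => Subgroup.subset_closure (Set.mem_insert_of_mem _ hx)
  have hg₀E : g₀ ∈ E := Subgroup.subset_closure (Set.mem_insert _ _)
  have hEn : E ≤ Subgroup.normalizer (F : Set G) := by
    rw [hE, Subgroup.closure_le]
    rintro x (rfl | hx)
    · rw [SetLike.mem_coe, Subgroup.mem_normalizer_iff]
      intro h
      refine ⟨fun hh => (hconjF g₀ (hgΓ i₀) h hh).1, fun hh => ?_⟩
      have := (hconjF g₀ (hgΓ i₀) _ hh).2
      simpa [mul_assoc] using this
    · exact Subgroup.le_normalizer hx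
  haveI : (F.subgroupOf E).Normal := Subgroup.normal_subgroupOf_of_le_normalizer hEn
  have hg₀F : g₀ ∉ F := fun h => by
    have : τ = 1 := by
      ext z
      have h1 := (hmemF g₀).1 h z (hΔΓ z.2)
      rw [hgΓ i₀ z (hΔΓ z.2), hσ, Equiv.Perm.ofSubtype_apply_coe] at h1
      simpa using h1
    rw [this, orderOf_one] at hτ
    exact hp.one_lt.ne hτ
  have hg₀p : g₀ ^ p ∈ F := by
    rw [hmemF]
    intro z hz
    have key : ∀ (n : ℕ), ∀ z ∈ Γ, ((g₀ : Equiv.Perm α) ^ n) z = (σ ^ n) z ∧ (σ ^ n) z ∈ Γ := by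
      intro n
      induction n with
      | zero => exact fun z hz => ⟨rfl, hz⟩
      | succ n ih =>
        intro z hz
        rw [pow_succ', pow_succ', Equiv.Perm.mul_apply, Equiv.Perm.mul_apply, (ih z hz).1]
        exact ⟨hgΓ i₀ _ (ih z hz).2, hσΓ _ (ih z hz).2⟩
    rw [SubgroupClass.coe_pow, (key p z hz).1, hσp, Equiv.Perm.one_apply]
  have hdvd : p * Nat.card F ∣ Nat.card E := by
    rw [← Subgroup.index_mul_card (F.subgroupOf E), Nat.card_congr (Subgroup.subgroupOfEquivOfLe hFE).toEquiv]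
    refine Nat.mul_dvd_mul_right ?_ _
    have hq : orderOf (QuotientGroup.mk (⟨g₀, hg₀E⟩ : E) : E ⧸ F.subgroupOf E) = p := by
      refine orderOf_eq_prime ?_ ?_
      · rw [← QuotientGroup.mk_pow, QuotientGroup.eq_one_iff, Subgroup.mem_subgroupOf]
        exact hg₀p
      · rw [Ne, QuotientGroup.eq_one_iff, Subgroup.mem_subgroupOf]
        exact hg₀F
    rw [Subgroup.index, ← hq]
    exact orderOf_dvd_natCard _
  -- `E` fixes `Γ \ Δ` and stabilises every orbit
  have hEfix : E ≤ fixingSubgroup G ((Γ \ Δ : Finset α) : Set α) := by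
    rw [hE, Subgroup.closure_le]
    intro x hx
    rw [SetLike.mem_coe, mem_fixingSubgroup_iff]
    intro z hz
    rw [Finset.mem_coe, Finset.mem_sdiff] at hz
    rcases hx with rfl | hx
    · show (g i₀ : Equiv.Perm α) z = z
      rw [hgΓ i₀ z hz.1, hσout z hz.2]
    · exact (hmemF x).1 hx z hz.1
  have hEorb : ∀ i, ∀ x ∈ E, ∀ z ∈ MulAction.orbit F (f i), x • z ∈ MulAction.orbit F (f i) := by
    intro i
    have hle : E ≤ MulAction.stabilizer G (MulAction.orbit F (f i) : Set α) := by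
      rw [hE, Subgroup.closure_le]
      intro x hx
      rw [SetLike.mem_coe, MulAction.mem_stabilizer_set' (Set.toFinite _)]
      rintro _ ⟨e, rfl⟩
      rcases hx with rfl | hx
      · have h1 : (g i)⁻¹ * g₀ ∈ F := by
          rw [hmemF]
          intro z hz
          have e1 : (g i : Equiv.Perm α) z = (g₀ : Equiv.Perm α) z := (hgΓ i z hz).trans (hgΓ i₀ z hz).symm
          rw [Subgroup.coe_mul, InvMemClass.coe_inv, Equiv.Perm.mul_apply, ← e1]
          simp
        have h2 := (hconjF (g i) (hgΓ i) _ (F.mul_mem h1 e.2)).1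
        refine ⟨⟨_, h2⟩, ?_⟩
        show (g i * ((g i)⁻¹ * g₀ * (e : G)) * (g i)⁻¹) • f i = g₀ • ((e : G) • f i)
        have hfix : (g i)⁻¹ • f i = f i := inv_smul_eq_iff.2 (hgf i).symm
        rw [mul_smul, hfix, show g i * ((g i)⁻¹ * g₀ * (e : G)) = g₀ * (e : G) by group, mul_smul]
      · exact ⟨⟨x, hx⟩ * e, mul_smul _ _ _⟩
    intro x hx z hz
    exact (MulAction.mem_stabilizer_set.1 (hle hx) z).2 hz
  obtain ⟨R⟩ : Nonempty (Sylow p E) := inferInstance
  set R' := (R : Subgroup E).map E.subtype with hR'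
  have hR'p : IsPGroup p R' := R.2.map _
  have hR'E : R' ≤ E := Subgroup.map_subtype_le _
  have hfp : ∀ i, ∃ z ∈ MulAction.orbit F (f i), ∀ r ∈ R', r • z = z := by
    intro i
    let A : SubMulAction R' α :=
      { carrier := MulAction.orbit F (f i)
        smul_mem' := fun r z hz => hEorb i r (hR'E r.2) z hz }
    obtain ⟨a, ha⟩ := hR'p.nonempty_fixed_point_of_prime_not_dvd_card A (hno i)
    exact ⟨a.1, a.2, fun r hr => congrArg Subtype.val (ha ⟨r, hr⟩)⟩
  choose f' hf'O hf'fix using hfp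
  have hf'Γ : ∀ i, f' i ∉ Γ := fun i h => by
    obtain ⟨e, he⟩ := hf'O i
    have he' : (e : G) • f i = f' i := he
    have h1 : ((e : G)⁻¹) • f' i = f i := inv_smul_eq_iff.2 he'.symm
    have h2 : ((e : G)⁻¹) • f' i = f' i := (hmemF _).1 (F.inv_mem e.2) _ h
    rw [h2] at h1
    exact hf i (h1 ▸ h)
  have hf'inj : Function.Injective f' := fun i j hij => by
    by_contra hne
    apply hdist i j hne
    rw [← MulAction.orbit_eq_iff.2 (hf'O i), hij, MulAction.orbit_eq_iff.2 (hf'O j)]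
    exact MulAction.mem_orbit_self _
  set Γ' : Finset α := (Γ \ Δ) ∪ Finset.univ.image f' with hΓ'
  have hΓ'card : Γ'.card = k := by
    rw [hΓ', Finset.card_union_of_disjoint, Finset.card_sdiff_of_subset hΔΓ, hΔ, hΓ,
      Finset.card_image_of_injective _ hf'inj, Finset.card_univ, Fintype.card_fin]
    · omega
    · rw [Finset.disjoint_left]
      intro z hz hz'
      obtain ⟨i, -, rfl⟩ := Finset.mem_image.1 hz'
      exact hf'Γ i (Finset.mem_sdiff.1 hz).1
  obtain ⟨w, hw⟩ : ∃ w : G, Γ'.image (fun z => w • z) = Γ := by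
    obtain ⟨w, hw⟩ := Cfsg.Agent.S0706.exists_image_eq G hk hgen Γ' Γ hΓ'card hΓ
    refine ⟨w, ?_⟩
    rw [← hw]
    ext
    simp
  have hRle : R' ≤ (fixingSubgroup G (Γ' : Set α)) := by
    intro r hr
    rw [mem_fixingSubgroup_iff]
    intro z hz
    rcases Finset.mem_union.1 (Finset.mem_coe.1 hz) with h | h
    · exact (mem_fixingSubgroup_iff G).1 (hEfix (hR'E hr)) z (Finset.mem_coe.2 h)
    · obtain ⟨i, -, rfl⟩ := Finset.mem_image.1 h
      exact hf'fix i r hr
  have hRF : Nat.card R' ∣ Nat.card F := by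
    have hle : (fixingSubgroup G (Γ' : Set α)).map (MulAut.conj w).toMonoidHom ≤ F := by
      rintro _ ⟨x, hx, rfl⟩
      rw [hmemF]
      intro z hz
      rw [← hw] at hz
      obtain ⟨y, hy, rfl⟩ := Finset.mem_image.1 hz
      show (w * x * w⁻¹) • (w • y) = w • y
      rw [mul_smul, inv_smul_smul, mul_smul, (mem_fixingSubgroup_iff G).1 hx y (Finset.mem_coe.2 hy)]
    have h1 := (Subgroup.card_dvd_of_le hRle).trans
      (dvd_of_eq (Subgroup.card_map_of_injective (K := fixingSubgroup G (Γ' : Set α))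
        (f := (MulAut.conj w).toMonoidHom) (MulEquiv.injective _)).symm)
    exact h1.trans (Subgroup.card_dvd_of_le hle)
  rw [hR', Subgroup.card_map_of_injective (Subgroup.subtype_injective E), R.card_eq_multiplicity] at hRF
  have hE0 : Nat.card E ≠ 0 := Nat.card_pos.ne'
  have hF0 : Nat.card F ≠ 0 := Nat.card_pos.ne'
  have h1 := (hp.pow_dvd_iff_le_factorization hF0).1 hRF
  have h2 := (Nat.factorization_le_iff_dvd (mul_ne_zero hp.ne_zero hF0) hE0).2 hdvd p
  rw [Nat.factorization_mul hp.ne_zero hF0, Finsupp.add_apply, hp.factorization_self] at h2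
  omega

end Cfsg.Agent.S0706
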