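import Cfsg.Statements.S0707
import Mathlib

set_option autoImplicit false
open Cfsg

namespace Cfsg.Agent.S0707

/-- In a primitive permutation group, distinct points have distinct stabilisers unless the group is regular of prime degree. -/
theorem result {α : Type*} (G : Subgroup (Equiv.Perm α)) [MulAction.IsPreprimitive G α] (h : ¬ (Nat.card α).Prime ∨ ∃ a : α, MulAction.stabilizer G a ≠ ⊥) {a b : α} (hab : a ≠ b) : MulAction.stabilizer G a ≠ MulAction.stabilizer G b := by
  intro heq
  haveI : Nontrivial α := ⟨⟨a, b, hab⟩⟩
  have hco : ∀ x : α, IsCoatom (MulAction.stabilizer G x) := fun x =>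
    MulAction.IsPreprimitive.isCoatom_stabilizer_of_isPreprimitive G x
  have conj : ∀ (g : G) (x : α) (h : G), h ∈ MulAction.stabilizer G (g • x) ↔ g⁻¹ * h * g ∈ MulAction.stabilizer G x := by
    intro g x h
    simp [MulAction.mem_stabilizer_iff, mul_smul, eq_inv_smul_iff, inv_smul_eq_iff]
  have hblock : MulAction.IsBlock G {x : α | MulAction.stabilizer G x = MulAction.stabilizer G a} := by
    rw [MulAction.isBlock_iff_smul_eq_of_nonempty]
    intro g hne
    obtain ⟨x, ⟨y, hy, rfl⟩, hx⟩ := hne
    have hy' : MulAction.stabilizer G y = MulAction.stabilizer G a := hy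
    have hgy : MulAction.stabilizer G (g • y) = MulAction.stabilizer G a := hx
    ext z
    rw [Set.mem_smul_set_iff_inv_smul_mem]
    show MulAction.stabilizer G (g⁻¹ • z) = _ ↔ MulAction.stabilizer G z = _
    constructor
    · intro hz
      rw [← hgy]
      ext h
      rw [conj g y h, hy', ← hz, ← conj g (g⁻¹ • z) h, smul_inv_smul]
    · intro hz
      ext h
      have e1 : h ∈ MulAction.stabilizer G (g⁻¹ • z) ↔ g * h * g⁻¹ ∈ MulAction.stabilizer G z := by
        rw [conj g⁻¹ z h, inv_inv]
      rw [e1, hz]
      conv_lhs => rw [← hgy, conj g y, hy']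
      simp only [mul_assoc, inv_mul_cancel, mul_one, inv_mul_cancel_left]
  rcases hblock.subsingleton_or_eq_univ with hs | hu
  · have ma : a ∈ {x : α | MulAction.stabilizer G x = MulAction.stabilizer G a} := rfl
    have mb : b ∈ {x : α | MulAction.stabilizer G x = MulAction.stabilizer G a} := heq.symm
    exact hab (hs ma mb)
  · have hbot : ∀ x : α, MulAction.stabilizer G x = ⊥ := by
      intro x
      rw [Subgroup.eq_bot_iff_forall]
      intro g hg
      apply Subtype.ext
      ext y
      have hy : MulAction.stabilizer G y = MulAction.stabilizer G a := (Set.eq_univ_iff_forall.1 hu y)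
      have hx : MulAction.stabilizer G x = MulAction.stabilizer G a := (Set.eq_univ_iff_forall.1 hu x)
      have : g ∈ MulAction.stabilizer G y := by rw [hy, ← hx]; exact hg
      exact this
    rcases h with hp | ⟨x, hx⟩
    · apply hp
      have hbij : Function.Bijective (fun g : G => g • a) := by
        refine ⟨fun g k hgk => ?_, fun x => MulAction.exists_smul_eq G a x⟩
        have : k⁻¹ * g ∈ MulAction.stabilizer G a := by simp [MulAction.mem_stabilizer_iff, mul_smul, hgk]
        rw [hbot a, Subgroup.mem_bot, inv_mul_eq_one] at this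
        exact this.symm
      rw [← Nat.card_eq_of_bijective _ hbij]
      have hmax : ∀ K : Subgroup G, K ≠ ⊥ → K = ⊤ := fun K hK => by
        have := hco a
        rw [hbot a] at this
        exact this.2 K (bot_lt_iff_ne_bot.2 hK)
      obtain ⟨g, hg⟩ : ∃ g : G, g ≠ 1 := by
        obtain ⟨g, hg⟩ := MulAction.exists_smul_eq G a b
        exact ⟨g, fun h => hab (by rw [← hg, h, one_smul])⟩
      have hgt : Subgroup.zpowers g = ⊤ := hmax _ (by simpa using hg)
      have hfin : IsOfFinOrder g := by
        by_cases h2 : g ^ 2 = 1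
        · exact isOfFinOrder_iff_pow_eq_one.2 ⟨2, by norm_num, h2⟩
        · have := hmax (Subgroup.zpowers (g ^ 2)) (by simpa using h2)
          obtain ⟨k, hk⟩ := (this.symm ▸ Subgroup.mem_top g : g ∈ Subgroup.zpowers (g ^ 2))
          have hk' : (g ^ 2) ^ k = g := hk
          refine isOfFinOrder_iff_zpow_eq_one.2 ⟨2 * k - 1, by omega, ?_⟩
          rw [zpow_sub, zpow_mul, zpow_one]
          simp only [zpow_ofNat, hk', mul_inv_cancel]
      have hpos := hfin.orderOf_pos
      have hne1 : orderOf g ≠ 1 := fun h => hg (orderOf_eq_one_iff.1 h)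
      set q := (orderOf g).minFac with hq
      have hqp : q.Prime := Nat.minFac_prime hne1
      set y := g ^ (orderOf g / q)
      have hy : orderOf y = q := orderOf_pow_orderOf_div hpos.ne' (Nat.minFac_dvd _)
      have hyt : Subgroup.zpowers y = ⊤ := hmax _ (by
        simp only [ne_eq, Subgroup.zpowers_eq_bot]
        intro h; rw [h, orderOf_one] at hy; exact hqp.one_lt.ne' hy.symm)
      rw [← Subgroup.card_top (G := G), ← hyt, Nat.card_zpowers, hy]
      exact hqp
    · exact hx (hbot x)

end Cfsg.Agent.S0707
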