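import Cfsg.Statements.S0709

set_option autoImplicit false
open Cfsg

namespace Cfsg.Agent.S0709

/-- points outside the frozen points `q i`, `k < i ≤ t` -/
def Free {α : Type*} (q : ℕ → α) (t k : ℕ) (a : α) : Prop := ∀ i, k < i → i ≤ t → a ≠ q i

/-- the tower `⟨K, s 1, …, s (k-1)⟩` -/
def Tow {α : Type*} (K : Subgroup (Equiv.Perm α)) (s : ℕ → Equiv.Perm α) (k : ℕ) :
    Subgroup (Equiv.Perm α) :=
  Subgroup.closure ((K : Set (Equiv.Perm α)) ∪ {x | ∃ i, 1 ≤ i ∧ i < k ∧ x = s i})

theorem le_tow {α : Type*} {K : Subgroup (Equiv.Perm α)} {s : ℕ → Equiv.Perm α} {k : ℕ} :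
    K ≤ Tow K s k := fun _ hx => Subgroup.subset_closure (Or.inl hx)

theorem s_mem_tow {α : Type*} {K : Subgroup (Equiv.Perm α)} {s : ℕ → Equiv.Perm α} {k i : ℕ}
    (h1 : 1 ≤ i) (h2 : i < k) : s i ∈ Tow K s k := Subgroup.subset_closure (Or.inr ⟨i, h1, h2, rfl⟩)

theorem tow_mono {α : Type*} {K : Subgroup (Equiv.Perm α)} {s : ℕ → Equiv.Perm α} {k l : ℕ}
    (h : k ≤ l) : Tow K s k ≤ Tow K s l := by
  refine Subgroup.closure_mono (Set.union_subset_union_right _ ?_)
  rintro x ⟨i, h1, h2, rfl⟩
  exact ⟨i, h1, by omega, rfl⟩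

/-- Witt's Lemma for constructing transitive extensions. Points `q 1, …, q t` (`t ≥ 2`) of a finite set are given; `G` fixes `q i` for `i ≥ 3` and is doubly transitive on the remaining points; `s 1 ∈ G` swaps `q 1, q 2`; for `2 ≤ i ≤ t-1`, `s i` swaps `q i, q (i+1)` and fixes the other `q j`; with `H` the stabiliser of `q 1, q 2` in `G`: `s i ^ 2 ∈ H`, `(s i * s (i+1)) ^ 3 ∈ H`, `(s i * s j) ^ 2 ∈ H` for `j ≥ i + 2`, and `s i` (`i ≥ 2`) normalises the stabiliser of `q 2` in `G`. Then `G` and the `s i` generate a `t`-transitive group whose pointwise stabiliser of the `q`'s is `H`. -/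
theorem result {α : Type*} [Fintype α] [DecidableEq α] (t : ℕ) (ht : 2 ≤ t) (q : ℕ → α) (hq : ∀ i j : ℕ, 1 ≤ i → i ≤ t → 1 ≤ j → j ≤ t → q i = q j → i = j) (G : Subgroup (Equiv.Perm α)) (hfix : ∀ g ∈ G, ∀ i : ℕ, 3 ≤ i → i ≤ t → g (q i) = q i) (h2 : ∀ a b c d : α, (∀ i, 3 ≤ i → i ≤ t → a ≠ q i ∧ b ≠ q i ∧ c ≠ q i ∧ d ≠ q i) → a ≠ b → c ≠ d → ∃ g ∈ G, g a = c ∧ g b = d) (s : ℕ → Equiv.Perm α) (hs1 : s 1 ∈ G) (hs1q : s 1 (q 1) = q 2 ∧ s 1 (q 2) = q 1) (hsq : ∀ i : ℕ, 2 ≤ i → i + 1 ≤ t → s i (q i) = q (i + 1) ∧ s i (q (i + 1)) = q i ∧ ∀ j : ℕ, 1 ≤ j → j ≤ t → j ≠ i → j ≠ i + 1 → s i (q j) = q j) (H : Subgroup (Equiv.Perm α)) (hH : H = G ⊓ MulAction.stabilizer (Equiv.Perm α) (q 1) ⊓ MulAction.stabilizer (Equiv.Perm α) (q 2)) (hsq2 : ∀ i : ℕ, 1 ≤ i → i + 1 ≤ t → s i ^ 2 ∈ H) (hbraid : ∀ i : ℕ, 1 ≤ i → i + 2 ≤ t → (s i * s (i + 1)) ^ 3 ∈ H) (hcomm : ∀ i j : ℕ, 1 ≤ i → i + 2 ≤ j → j + 1 ≤ t → (s i * s j) ^ 2 ∈ H ∧ (s j * s i) ^ 2 ∈ H) (hnorm : ∀ i : ℕ, 2 ≤ i → i + 1 ≤ t → ∀ g ∈ G ⊓ MulAction.stabilizer (Equiv.Perm α) (q 2), s i * g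 * (s i)⁻¹ ∈ G ⊓ MulAction.stabilizer (Equiv.Perm α) (q 2)) : MulAction.IsMultiplyPretransitive ↥(Subgroup.closure ((G : Set (Equiv.Perm α)) ∪ {x | ∃ i : ℕ, 2 ≤ i ∧ i + 1 ≤ t ∧ x = s i})) α t ∧ Subgroup.closure ((G : Set (Equiv.Perm α)) ∪ {x | ∃ i : ℕ, 2 ≤ i ∧ i + 1 ≤ t ∧ x = s i}) ⊓ fixingSubgroup (Equiv.Perm α) {x | ∃ i : ℕ, 1 ≤ i ∧ i ≤ t ∧ x = q i} = H := by
  classical
  set K : Subgroup (Equiv.Perm α) := G ⊓ MulAction.stabilizer (Equiv.Perm α) (q 2) with hK
  have hHK : H ≤ K := by
    intro x hx
    rw [hH] at hx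
    exact ⟨hx.1.1, hx.2⟩
  have hKG : K ≤ G := inf_le_left
  have hKq : ∀ g ∈ K, g (q 2) = q 2 := fun g hg => hg.2
  have hqne : ∀ i j, 1 ≤ i → i ≤ t → 1 ≤ j → j ≤ t → i ≠ j → q i ≠ q j :=
    fun i j a b c d e f => e (hq i j a b c d f)
  -- generators fix the high points
  have hfixgen : ∀ k, 1 ≤ k → k ≤ t → ∀ g ∈ Tow K s k, ∀ i, k < i → i ≤ t → g (q i) = q i := by
    intro k hk1 hkt g hg
    induction hg using Subgroup.closure_induction with
    | mem x hx =>
      intro i hi hit
      rcases hx with hx | ⟨j, hj1, hjk, rfl⟩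
      · rcases Nat.lt_or_ge i 3 with hi3 | hi3
        · have : i = 2 := by omega
          subst this
          exact hKq x hx
        · exact hfix x (hKG hx) i hi3 hit
      · rcases Nat.lt_or_ge j 2 with hj2 | hj2
        · have : j = 1 := by omega
          subst this
          exact hfix _ hs1 i (by omega) hit
        · exact (hsq j hj2 (by omega)).2.2 i (by omega) hit (by omega) (by omega)
    | one => intro i _ _; rfl
    | mul x y _ _ hx hy => intro i hi hit; simp [hy i hi hit, hx i hi hit]
    | inv x _ hx =>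
      intro i hi hit
      conv_lhs => rw [← hx i hi hit]
      simp
  -- the key property
  have hswap : ∀ k, 1 ≤ k → k + 1 ≤ t → s k (q k) = q (k + 1) ∧ s k (q (k + 1)) = q k := by
    intro k hk hkt
    rcases Nat.lt_or_ge k 2 with h | h
    · have : k = 1 := by omega
      subst this
      exact hs1q
    · exact ⟨(hsq k h hkt).1, (hsq k h hkt).2.1⟩
  have hG2 : Tow K s 2 = G := by
    apply le_antisymm
    · refine (Subgroup.closure_le _).2 ?_
      rintro x (hx | ⟨i, hi1, hi2, rfl⟩)
      · exact hKG hx
      · have : i = 1 := by omega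
        subst this
        exact hs1
    · intro g hg
      by_cases hgq : g (q 2) = q 2
      · exact le_tow ⟨hg, hgq⟩
      · have hfree : ∀ i, 3 ≤ i → i ≤ t → q 2 ≠ q i ∧ q 1 ≠ q i ∧ q 2 ≠ q i ∧ g (q 2) ≠ q i := by
          intro i hi hit
          refine ⟨hqne 2 i (by omega) ht (by omega) hit (by omega),
            hqne 1 i le_rfl (by omega) (by omega) hit (by omega),
            hqne 2 i (by omega) ht (by omega) hit (by omega), ?_⟩
          intro h
          rw [← hfix g hg i hi hit] at h
          exact hqne 2 i (by omega) ht (by omega) hit (by omega) (g.injective h)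
        obtain ⟨k, hk, hk2, hk1⟩ := h2 (q 2) (q 1) (q 2) (g (q 2)) hfree
          (hqne 2 1 (by omega) ht le_rfl (by omega) (by omega)) (fun h => hgq h.symm)
        have hm : (k * s 1)⁻¹ * g ∈ K := by
          refine ⟨G.mul_mem (G.inv_mem (G.mul_mem hk hs1)) hg, ?_⟩
          show ((k * s 1)⁻¹ * g) (q 2) = q 2
          rw [Equiv.Perm.mul_apply, Equiv.Perm.inv_eq_iff_eq, Equiv.Perm.mul_apply, hs1q.2, hk1]
        have : g = k * s 1 * ((k * s 1)⁻¹ * g) := by group
        rw [this]
        exact mul_mem (mul_mem (le_tow ⟨hk, hk2⟩) (s_mem_tow le_rfl (by omega))) (le_tow hm)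
  have hsH : ∀ i, 1 ≤ i → i + 1 ≤ t → ∀ m, s i * s i ∈ Tow K s m := by
    intro i h1 h3 m
    rw [← pow_two]
    exact le_tow (hHK (hsq2 i h1 h3))
  have hnormal : ∀ k, 2 ≤ k → k + 1 ≤ t → ∀ g ∈ Tow K s (k - 1),
      s k * g * (s k)⁻¹ ∈ Tow K s (k - 1) := by
    intro k hk hkt g hg
    induction hg using Subgroup.closure_induction with
    | mem x hx =>
      rcases hx with hx | ⟨j, hj1, hjk, rfl⟩
      · exact le_tow (hnorm k hk hkt x hx)
      · have h1 := le_tow (s := s) (k := k - 1) (hHK (hcomm j k hj1 (by omega) hkt).1)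
        have e : s k * s j * (s k)⁻¹ = (s j)⁻¹ * (s j * s k) ^ 2 * (s k * s k)⁻¹ := by
          rw [pow_two]; group
        rw [e]
        exact mul_mem (mul_mem (inv_mem (s_mem_tow hj1 hjk)) h1)
          (inv_mem (hsH k (by omega) hkt _))
    | one => simp [one_mem]
    | mul x y _ _ hx hy =>
      have e : s k * (x * y) * (s k)⁻¹ = (s k * x * (s k)⁻¹) * (s k * y * (s k)⁻¹) := by group
      rw [e]; exact mul_mem hx hy
    | inv x _ hx =>
      have e : s k * x⁻¹ * (s k)⁻¹ = (s k * x * (s k)⁻¹)⁻¹ := by group
      rw [e]; exact inv_mem hx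
  -- orbit and stabilizer statements
  have hmain : ∀ k, 1 ≤ k → k ≤ t →
      (∀ a, Free q t k a → ∃ g ∈ Tow K s k, g (q k) = a) ∧
      (2 ≤ k → ∀ g ∈ Tow K s k, g (q k) = q k → g ∈ Tow K s (k - 1)) := by
    intro k hk1
    induction k using Nat.strong_induction_on with
    | _ k ih =>
      intro hkt
      rcases Nat.lt_or_ge k 3 with hk3 | hk3
      · rcases Nat.lt_or_ge k 2 with hk2 | hk2
        · have : k = 1 := by omega
          subst this
          refine ⟨?_, fun h => absurd h (by omega)⟩
          intro a ha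
          obtain ⟨g, hg, hg2, hg1⟩ := h2 (q 2) (q 1) (q 2) a (fun i hi hit =>
            ⟨hqne 2 i (by omega) ht (by omega) hit (by omega),
            hqne 1 i le_rfl (by omega) (by omega) hit (by omega),
            hqne 2 i (by omega) ht (by omega) hit (by omega), ha i (by omega) hit⟩)
            (hqne 2 1 (by omega) ht le_rfl (by omega) (by omega))
            (fun h => ha 2 (by omega) ht h.symm)
          exact ⟨g, le_tow ⟨hg, hg2⟩, hg1⟩
        · have : k = 2 := by omega
          subst this
          refine ⟨?_, ?_⟩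
          · intro a ha
            obtain ⟨g, hg, hga⟩ := (ih 1 (by omega) le_rfl (by omega)).1 (q 1) (fun i hi hit =>
              hqne 1 i le_rfl (by omega) (by omega) hit (by omega))
            by_cases ha2 : a = q 2
            · exact ⟨1, one_mem _, by simp [ha2]⟩
            · obtain ⟨g, hg, hga⟩ := (ih 1 (by omega) le_rfl (by omega)).1 a (fun i hi hit => by
                rcases Nat.lt_or_ge i 3 with h | h
                · have : i = 2 := by omega
                  subst this
                  exact ha2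
                · exact ha i (by omega) hit)
              refine ⟨g * s 1, mul_mem (tow_mono (by omega) hg) (s_mem_tow le_rfl (by omega)), ?_⟩
              rw [Equiv.Perm.mul_apply, hs1q.2, hga]
          · intro _ g hg hgq
            rw [hG2] at hg
            exact le_tow ⟨hg, hgq⟩
      · obtain ⟨j, rfl⟩ : ∃ j, k = j + 1 := ⟨k - 1, by omega⟩
        obtain ⟨horb, hstab⟩ := ih j (by omega) (by omega) (by omega)
        have horb1 := (ih (j - 1) (by omega) (by omega) (by omega)).1
        have hsw := hswap j (by omega) hkt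
        have hsw' := hswap (j - 1) (by omega) (by omega)
        rw [Nat.sub_add_cancel (show 1 ≤ j by omega)] at hsw'
        set M := Tow K s j with hM
        set u := s j with hu
        set v := s (j - 1) with hv
        have hvM : v ∈ M := s_mem_tow (by omega) (by omega)
        have huu : u * u ∈ M := hsH j (by omega) hkt _
        have hN : Tow K s (j - 1) ≤ M := tow_mono (by omega)
        -- double coset form
        have hX : ∀ g ∈ Tow K s (j + 1), g ∈ M ∨ ∃ a ∈ M, ∃ b ∈ M, g = a * u * b := by
          have hues : ∀ e ∈ M, u * e * u ∈ M ∨ ∃ a ∈ M, ∃ b ∈ M, u * e * u = a * u * b := by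
            intro e he
            by_cases heq : e (q j) = q j
            · have h1 := hN (hnormal j (by omega) hkt e (hstab (by omega) e he heq))
              exact Or.inl (by
                have : u * e * u = (u * e * u⁻¹) * (u * u) := by group
                rw [this]; exact mul_mem h1 huu)
            · have hfree : Free q t (j - 1) (e (q j)) := by
                intro i hi hit h
                rcases Nat.lt_or_ge j i with h' | h'
                · rw [← hfixgen j (by omega) (by omega) e he i h' hit] at h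
                  exact hqne j i (by omega) (by omega) (by omega) hit (by omega) (e.injective h)
                · have : i = j := by omega
                  subst this
                  exact heq h
              obtain ⟨m, hm, hmq⟩ := horb1 _ hfree
              have hm' : (m * v)⁻¹ * e ∈ Tow K s (j - 1) := hstab (by omega) _
                (mul_mem (inv_mem (mul_mem (hN hm) hvM)) he) (by
                  rw [Equiv.Perm.mul_apply, Equiv.Perm.inv_eq_iff_eq, Equiv.Perm.mul_apply,
                    hsw'.2, hmq])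
              set m' := (m * v)⁻¹ * e with hm'def
              have hm1 := hN (hnormal j (by omega) hkt m hm)
              have hm2 := hN (hnormal j (by omega) hkt _ (mul_mem (mul_mem
                (inv_mem (hsH j (by omega) hkt (j - 1))) hm') (hsH j (by omega) hkt (j - 1))))
              have hb := le_tow (s := s) (k := j) (hHK (hbraid (j - 1) (by omega) (by omega)))
              rw [Nat.sub_add_cancel (show 1 ≤ j by omega)] at hb
              refine Or.inr ⟨(u * m * u⁻¹) * v⁻¹, mul_mem hm1 (inv_mem hvM),
                (u * u)⁻¹ * v⁻¹ * (v * u) ^ 3 * (u * ((u * u)⁻¹ * m' * (u * u)) * u⁻¹),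
                mul_mem (mul_mem (mul_mem (inv_mem huu) (inv_mem hvM)) hb) hm2, ?_⟩
              have hee : e = m * v * m' := by rw [hm'def]; group
              rw [hee, pow_succ, pow_two]
              group
          intro g hg
          induction hg using Subgroup.closure_induction with
          | mem x hx =>
            rcases hx with hx | ⟨i, hi1, hi2, rfl⟩
            · exact Or.inl (le_tow hx)
            · rcases Nat.lt_or_ge i j with h | h
              · exact Or.inl (s_mem_tow hi1 h)
              · have : i = j := by omega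
                subst this
                exact Or.inr ⟨1, one_mem _, 1, one_mem _, by simp [hu]⟩
          | one => exact Or.inl (one_mem _)
          | mul x y _ _ hx hy =>
            rcases hx with hx | ⟨a, ha, b, hb, rfl⟩ <;> rcases hy with hy | ⟨c, hc, d, hd, rfl⟩
            · exact Or.inl (mul_mem hx hy)
            · exact Or.inr ⟨x * c, mul_mem hx hc, d, hd, by group⟩
            · exact Or.inr ⟨a, ha, b * y, mul_mem hb hy, by group⟩
            · rcases hues (b * c) (mul_mem hb hc) with h | ⟨a', ha', b', hb', h⟩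
              · exact Or.inl (by
                  have : a * u * b * (c * u * d) = a * (u * (b * c) * u) * d := by group
                  rw [this]; exact mul_mem (mul_mem ha h) hd)
              · refine Or.inr ⟨a * a', mul_mem ha ha', b' * d, mul_mem hb' hd, ?_⟩
                have : a * u * b * (c * u * d) = a * (u * (b * c) * u) * d := by group
                rw [this, h]; group
          | inv x _ hx =>
            rcases hx with hx | ⟨a, ha, b, hb, rfl⟩
            · exact Or.inl (inv_mem hx)
            · exact Or.inr ⟨b⁻¹, inv_mem hb, (u * u)⁻¹ * a⁻¹,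
                mul_mem (inv_mem huu) (inv_mem ha), by group⟩
        refine ⟨?_, ?_⟩
        · intro a ha
          by_cases haq : a = q (j + 1)
          · exact ⟨1, one_mem _, by simp [haq]⟩
          · obtain ⟨m, hm, hmq⟩ := horb a (fun i hi hit => by
              rcases Nat.lt_or_ge (j + 1) i with h | h
              · exact ha i h hit
              · have : i = j + 1 := by omega
                subst this
                exact haq)
            exact ⟨m * u, mul_mem (tow_mono (by omega) hm) (s_mem_tow (by omega) (by omega)),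
              by rw [Equiv.Perm.mul_apply, hu, hsw.2, hmq]⟩
        · intro _ g hg hgq
          rw [Nat.add_sub_cancel]
          rcases hX g hg with h | ⟨a, ha, b, hb, rfl⟩
          · exact h
          · exfalso
            have hbq := hfixgen j (by omega) (by omega) b hb (j + 1) (by omega) hkt
            have haq := hfixgen j (by omega) (by omega) a ha (j + 1) (by omega) hkt
            rw [Equiv.Perm.mul_apply, Equiv.Perm.mul_apply, hbq, hu, hsw.2] at hgq
            have := a.injective (hgq.trans haq.symm)
            exact hqne j (j + 1) (by omega) (by omega) (by omega) hkt (by omega) this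
  -- closure identification
  have hclos : Subgroup.closure ((G : Set (Equiv.Perm α)) ∪
      {x | ∃ i : ℕ, 2 ≤ i ∧ i + 1 ≤ t ∧ x = s i}) = Tow K s t := by
    apply le_antisymm
    · refine (Subgroup.closure_le _).2 ?_
      rintro x (hx | ⟨i, h1, h3, rfl⟩)
      · exact tow_mono ht (hG2 ▸ hx)
      · exact s_mem_tow (by omega) (by omega)
    · refine (Subgroup.closure_le _).2 ?_
      rintro x (hx | ⟨i, h1, h3, rfl⟩)
      · exact Subgroup.subset_closure (Or.inl (hKG hx))
      · rcases Nat.lt_or_ge i 2 with h | h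
        · have : i = 1 := by omega
          subst this
          exact Subgroup.subset_closure (Or.inl hs1)
        · exact Subgroup.subset_closure (Or.inr ⟨i, h, by omega, rfl⟩)
  rw [hclos]
  have htrans : ∀ k, 1 ≤ k → k ≤ t → ∀ f : ℕ → α,
      (∀ i j, 1 ≤ i → i ≤ k → 1 ≤ j → j ≤ k → f i = f j → i = j) →
      (∀ i, 1 ≤ i → i ≤ k → Free q t k (f i)) →
      ∃ g ∈ Tow K s k, ∀ i, 1 ≤ i → i ≤ k → g (q i) = f i := by
    intro k hk
    induction k, hk using Nat.le_induction with
    | base =>
      intro _ f _ hff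
      obtain ⟨g, hg, hgq⟩ := (hmain 1 le_rfl (by omega)).1 (f 1) (hff 1 le_rfl le_rfl)
      exact ⟨g, hg, fun i h1 h3 => by
        have : i = 1 := by omega
        subst this
        exact hgq⟩
    | succ k hk ih =>
      intro hkt f hinj hff
      obtain ⟨m, hm, hmq⟩ := (hmain (k + 1) (by omega) hkt).1 (f (k + 1))
        (hff (k + 1) (by omega) le_rfl)
      have hmfix := hfixgen (k + 1) (by omega) hkt m hm
      obtain ⟨g, hg, hgq⟩ := ih (by omega) (fun i => m⁻¹ (f i))
        (fun i j a b c d e => hinj i j a (by omega) c (by omega) ((m⁻¹).injective e))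
        (fun i h1 h3 l hl hlt h => by
          rw [Equiv.Perm.inv_eq_iff_eq] at h
          rcases Nat.lt_or_ge (k + 1) l with h' | h'
          · rw [hmfix l h' hlt] at h
            exact hff i h1 (by omega) l h' hlt h
          · have : l = k + 1 := by omega
            subst this
            rw [hmq] at h
            have := hinj i (k + 1) h1 (by omega) (by omega) le_rfl h
            omega)
      refine ⟨m * g, mul_mem hm (tow_mono (by omega) hg), fun i h1 h3 => ?_⟩
      rcases Nat.lt_or_ge k i with h | h
      · have : i = k + 1 := by omega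
        subst this
        rw [Equiv.Perm.mul_apply, hfixgen k hk (by omega) g hg (k + 1) (by omega) hkt, hmq]
      · rw [Equiv.Perm.mul_apply, hgq i h1 h]
        simp
  refine ⟨?_, ?_⟩
  · unfold MulAction.IsMultiplyPretransitive
    refine (MulAction.isPretransitive_iff_base (G := ↥(Tow K s t)) (⟨fun i : Fin t => q (i.val + 1), fun i j h => Fin.ext
      (by have := hq _ _ (by omega) (by omega) (by omega) (by omega) h; omega)⟩ : Fin t ↪ α)).2 ?_
    intro y
    have hy : ∀ i j, 1 ≤ i → i ≤ t → 1 ≤ j → j ≤ t →
        (fun n => if h : 1 ≤ n ∧ n ≤ t then y ⟨n - 1, by omega⟩ else q n) i =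
        (fun n => if h : 1 ≤ n ∧ n ≤ t then y ⟨n - 1, by omega⟩ else q n) j → i = j := by
      intro i j a b c d e
      simp only [a, b, c, d, and_self, dite_true] at e
      have := congrArg Fin.val (y.injective e)
      simp only at this
      omega
    obtain ⟨g, hg, hgq⟩ := htrans t (by omega) le_rfl _ hy (fun i _ _ l hl hlt => by omega)
    refine ⟨⟨g, hg⟩, ?_⟩
    ext i
    have := hgq (i.val + 1) (by omega) (by omega)
    rw [dif_pos ⟨by omega, by omega⟩] at this
    show g (q (i.val + 1)) = y i
    simpa using this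
  · apply le_antisymm
    · rintro g ⟨hg, hgf⟩
      have hgfix : ∀ i, 1 ≤ i → i ≤ t → g (q i) = q i := fun i h1 h3 =>
        (mem_fixingSubgroup_iff (Equiv.Perm α)).1 hgf (q i) ⟨i, h1, h3, rfl⟩
      have hdown : ∀ d, d + 2 ≤ t → g ∈ Tow K s (t - d) := by
        intro d
        induction d with
        | zero => intro _; exact hg
        | succ d ih =>
          intro hd
          have := (hmain (t - d) (by omega) (by omega)).2 (by omega) g (ih (by omega))
            (hgfix _ (by omega) (by omega))
          rwa [show t - (d + 1) = t - d - 1 by omega]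
      have h2G : g ∈ G := by
        have := hdown (t - 2) (by omega)
        rwa [show t - (t - 2) = 2 by omega, hG2] at this
      rw [hH]
      exact ⟨⟨h2G, hgfix 1 le_rfl (by omega)⟩, hgfix 2 (by omega) ht⟩
    · intro g hg
      refine ⟨le_tow (hHK hg), (mem_fixingSubgroup_iff (Equiv.Perm α)).2 ?_⟩
      rintro x ⟨i, h1, h3, rfl⟩
      rw [hH] at hg
      rcases Nat.lt_or_ge i 3 with h | h
      · rcases Nat.lt_or_ge i 2 with h' | h'
        · have : i = 1 := by omega
          subst this
          exact hg.1.2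
        · have : i = 2 := by omega
          subst this
          exact hg.2
      · exact hfix g hg.1.1 i h h3

end Cfsg.Agent.S0709
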