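import Cfsg.Statements.S0711
import Mathlib

set_option autoImplicit false
open Cfsg

namespace Cfsg.Agent.S0711

open Equiv Equiv.Perm in
theorem exists_edge_set {α : Type*} [Fintype α] [DecidableEq α] (g : Perm α) :
    ∀ j : ℕ, j ≤ g.support.card → ∃ A : Finset α, A ⊆ g.support ∧ A.card = j ∧
      ((∀ a ∈ A, g a ∈ A) ∨ j ≤ (A.filter (fun y => g y ∈ A)).card + 1) := by
  intro j
  induction j with
  | zero => exact fun _ => ⟨∅, by simp, by simp, Or.inl (by simp)⟩
  | succ j ih =>
      intro hj
      obtain ⟨A, hA, hAc, hcase⟩ := ih (by omega)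
      by_cases hcl : ∀ a ∈ A, g a ∈ A
      · obtain ⟨d, hd, hdA⟩ := Finset.exists_mem_notMem_of_card_lt_card (show A.card < g.support.card by omega)
        refine ⟨insert d A, Finset.insert_subset hd hA, by rw [Finset.card_insert_of_notMem hdA, hAc], Or.inr ?_⟩
        have : A ⊆ (insert d A).filter (fun y => g y ∈ insert d A) := fun a ha =>
          Finset.mem_filter.mpr ⟨Finset.mem_insert_of_mem ha, Finset.mem_insert_of_mem (hcl a ha)⟩
        have := Finset.card_le_card this
        omega
      · push Not at hcl
        obtain ⟨a, ha, hga⟩ := hcl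
        refine ⟨insert (g a) A, Finset.insert_subset (Perm.apply_mem_support.mpr (hA ha)) hA,
          by rw [Finset.card_insert_of_notMem hga, hAc], Or.inr ?_⟩
        have h1 : insert a (A.filter (fun y => g y ∈ A)) ⊆
            (insert (g a) A).filter (fun y => g y ∈ insert (g a) A) := by
          intro y hy
          rcases Finset.mem_insert.mp hy with rfl | hy
          · exact Finset.mem_filter.mpr ⟨Finset.mem_insert_of_mem ha, Finset.mem_insert_self _ _⟩
          · obtain ⟨h1, h2⟩ := Finset.mem_filter.mp hy
            exact Finset.mem_filter.mpr ⟨Finset.mem_insert_of_mem h1, Finset.mem_insert_of_mem h2⟩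
        have h2 := Finset.card_le_card h1
        rw [Finset.card_insert_of_notMem (by simp [hga])] at h2
        rcases hcase with h | h
        · exact absurd (h a ha) hga
        · omega

theorem exists_map {α : Type*} [Fintype α] [DecidableEq α] (G : Subgroup (Equiv.Perm α)) {k : ℕ}
    (hk : k ≤ Fintype.card α) (hG : MulAction.IsMultiplyPretransitive G α k) (A : Finset α)
    (hA : A.card + 1 ≤ k) {x z : α} (hx : x ∉ A) (hz : z ∉ A) :
    ∃ h ∈ G, (∀ a ∈ A, h a = a) ∧ h x = z := by
  haveI := hG
  haveI : MulAction.IsMultiplyPretransitive G α (A.card + 1) :=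
    MulAction.isMultiplyPretransitive_of_le (n := k) hA (by rwa [Nat.card_eq_fintype_card])
  let e := A.equivFin.symm
  let mk : ∀ w : α, w ∉ A → (Fin (A.card + 1) ↪ α) := fun w hw =>
    ⟨Fin.cons w (fun i => (e i : α)), Fin.cons_injective_iff.mpr
      ⟨fun ⟨i, hi⟩ => hw (by rw [← hi]; exact (e i).2), fun i j hij => e.injective (Subtype.ext hij)⟩⟩
  obtain ⟨h, hh⟩ := MulAction.exists_smul_eq G (mk x hx) (mk z hz)
  refine ⟨h, h.2, fun a ha => ?_, ?_⟩
  · have h1 := congrArg (fun φ : Fin (A.card + 1) ↪ α => φ (Fin.succ (A.equivFin ⟨a, ha⟩))) hh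
    have e1 : e (A.equivFin ⟨a, ha⟩) = ⟨a, ha⟩ := A.equivFin.symm_apply_apply _
    simpa [mk, e1, Fin.cons_succ] using! h1
  · simpa [mk] using! congrArg (fun φ : Fin (A.card + 1) ↪ α => φ 0) hh


/-- A `k`-transitive permutation group (`k ≥ 3`) with a non-identity element of support smaller than `2k - 2` contains a non-identity element of support at most 3, and therefore contains the alternating group. -/
theorem result {α : Type*} [Fintype α] [DecidableEq α] (G : Subgroup (Equiv.Perm α)) {k : ℕ} (hk : 3 ≤ k) (hkn : k ≤ Fintype.card α) (hG : MulAction.IsMultiplyPretransitive G α k) (g : Equiv.Perm α) (hg : g ∈ G) (hg1 : g ≠ 1) (hsupp : g.support.card < 2 * k - 2) : (∃ h : Equiv.Perm α, h ∈ G ∧ h ≠ 1 ∧ h.support.card ≤ 3) ∧ alternatingGroup α ≤ G := by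
  classical
  have key : ∀ m : ℕ, ∀ g : Equiv.Perm α, g ∈ G → g ≠ 1 → g.support.card = m → m < 2 * k - 2 →
      ∃ h : Equiv.Perm α, h ∈ G ∧ h ≠ 1 ∧ h.support.card ≤ 3 := by
    intro m
    induction m using Nat.strong_induction_on with
    | _ m ih =>
    intro g hg hg1 hm hlt
    by_cases hm3 : m ≤ 3
    · exact ⟨g, hg, hg1, by omega⟩
    obtain ⟨w, hw⟩ : g.support.Nonempty := Finset.card_pos.mp (by omega)
    by_cases hfull : m ≤ k ∧ m = Fintype.card α
    · -- full symmetric group
      haveI := hG
      haveI : MulAction.IsMultiplyPretransitive G α (Fintype.card α) :=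
        MulAction.isMultiplyPretransitive_of_le (n := k) (by omega) (by rwa [Nat.card_eq_fintype_card])
      obtain ⟨v, hv⟩ := Fintype.exists_ne_of_one_lt_card (show 1 < Fintype.card α by omega) w
      let e := (Fintype.equivFin α).symm
      let x : Fin (Fintype.card α) ↪ α := e.toEmbedding
      let y : Fin (Fintype.card α) ↪ α := (e.trans (Equiv.swap v w)).toEmbedding
      obtain ⟨h, hh⟩ := MulAction.exists_smul_eq G x y
      have hheq : (h : Equiv.Perm α) = Equiv.swap v w := by
        refine Equiv.ext fun p => ?_
        have := congrArg (fun φ : Fin (Fintype.card α) ↪ α => φ (e.symm p)) hh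
        simpa [x, y] using! this
      refine ⟨Equiv.swap v w, hheq ▸ h.2, fun h => hv (by
        simpa using congrArg (fun σ : Equiv.Perm α => σ w) h), ?_⟩
      rw [Equiv.Perm.support_swap hv, Finset.card_pair hv]
      omega
    set k' := min k m with hk'
    have hk'4 : 4 ≤ k' := by omega
    obtain ⟨A, hA, hAc, hcase⟩ := exists_edge_set g (k' - 1) (by omega)
    -- choose a set `B`, a point `x`, its image `z`
    obtain ⟨B, x, z, hB, hBc, hx, hz, hne, hcount⟩ : ∃ (B : Finset α) (x z : α),
        B ⊆ g.support ∧ B.card ≤ k - 1 ∧ x ∉ B ∧ z ∉ B ∧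
        (∀ h : Equiv.Perm α, (∀ a ∈ B, h a = a) → h x = z → h * g * h⁻¹ ≠ g) ∧
        ∀ h : Equiv.Perm α, (∀ a ∈ B, h a = a) → h x = z →
          (g.support ∪ (h * g * h⁻¹).support).card <
            (B.filter (fun y => g y ∈ B)).card + m := by
      have conjApply : ∀ (h : Equiv.Perm α) (a : α), h a = a → (h * g * h⁻¹) a = h (g a) := by
        intro h a ha
        rw [Equiv.Perm.mul_apply, Equiv.Perm.mul_apply, Equiv.Perm.inv_eq_iff_eq.mpr ha.symm]
      have memConj : ∀ (h : Equiv.Perm α) (a : α), a ∈ g.support → h a ∈ (h * g * h⁻¹).support := by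
        intro h a ha
        simp only [Equiv.Perm.mem_support, Equiv.Perm.mul_apply, Equiv.Perm.coe_inv, Equiv.symm_apply_apply] at ha ⊢
        exact fun hh => ha (h.injective hh)
      have cardConj : ∀ h : Equiv.Perm α, (h * g * h⁻¹).support.card = m := fun h => by
        rw [Equiv.Perm.card_support_conj, hm]
      have union : ∀ (h : Equiv.Perm α) (C : Finset α), C ⊆ g.support →
          C ⊆ (h * g * h⁻¹).support → (g.support ∪ (h * g * h⁻¹).support).card + C.card ≤ 2 * m := by
        intro h C h1 h2
        have := Finset.card_union_add_card_inter g.support (h * g * h⁻¹).support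
        have := Finset.card_le_card (Finset.subset_inter h1 h2)
        rw [hm, cardConj] at *
        omega
      by_cases hout : ∃ o, o ∉ g.support
      · obtain ⟨o, ho⟩ := hout
        by_cases hcl : ∀ a ∈ A, g a ∈ A
        · obtain ⟨x, hx, hxA⟩ := Finset.exists_mem_notMem_of_card_lt_card
            (show A.card < g.support.card by omega)
          refine ⟨A, x, o, hA, by omega, hxA, fun h => ho (hA h), fun h hfix hhx heq => ?_,
            fun h hfix hhx => ?_⟩
          · exact ho (by rw [← heq, ← hhx]; exact memConj h x hx)
          · have h1 := union h A hA (fun a ha => by rw [← hfix a ha]; exact memConj h a (hA ha))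
            have h2 : (A.filter (fun y => g y ∈ A)) = A := Finset.filter_true_of_mem hcl
            rw [h2]
            omega
        · have hE := hcase.resolve_left hcl
          push Not at hcl
          obtain ⟨a, ha, hga⟩ := hcl
          by_cases hin : ∃ z ∈ g.support, z ∉ A ∧ z ≠ g a
          · obtain ⟨z, hzs, hzA, hzne⟩ := hin
            refine ⟨A, g a, z, hA, by omega, hga, hzA, fun h hfix hhx heq => ?_, fun h hfix hhx => ?_⟩
            · have := conjApply h a (hfix a ha)
              rw [heq, hhx] at this
              exact hzne this.symm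
            · have h1 := union h (insert z A) (Finset.insert_subset hzs hA)
                (fun b hb => by
                  rcases Finset.mem_insert.mp hb with rfl | hb
                  · rw [← hhx]; exact memConj h _ (Equiv.Perm.apply_mem_support.mpr (hA ha))
                  · rw [← hfix b hb]; exact memConj h b (hA hb))
              rw [Finset.card_insert_of_notMem hzA] at h1
              omega
          · push Not at hin
            have hsub : g.support ⊆ insert (g a) A := fun p hp => by
              by_cases hpA : p ∈ A
              · exact Finset.mem_insert_of_mem hpA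
              · exact Finset.mem_insert.mpr (Or.inl (hin p hp hpA))
            have := Finset.card_le_card hsub
            rw [Finset.card_insert_of_notMem hga] at this
            refine ⟨A, g a, o, hA, by omega, hga, fun h => ho (hA h), fun h hfix hhx heq => ?_,
              fun h hfix hhx => ?_⟩
            · have := conjApply h a (hfix a ha)
              rw [heq, hhx] at this
              exact ho (this ▸ Equiv.Perm.apply_mem_support.mpr (hA ha))
            · have h1 := union h A hA (fun b hb => by rw [← hfix b hb]; exact memConj h b (hA hb))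
              omega
      · push Not at hout
        have hmn : m = Fintype.card α := by
          rw [← hm, Finset.eq_univ_iff_forall.mpr hout, Finset.card_univ]
        have hkm : k < m := by omega
        -- an edge inside and an edge leaving
        obtain ⟨B, hBc, ⟨y, hy, hgy⟩, ⟨a, ha, hga⟩⟩ : ∃ B : Finset α, B.card = k' - 1 ∧
            (∃ y ∈ B, g y ∈ B) ∧ ∃ a ∈ B, g a ∉ B := by
          by_cases hcl : ∀ a ∈ A, g a ∈ A
          · obtain ⟨y, hy⟩ : A.Nonempty := Finset.card_pos.mp (by omega)
            obtain ⟨c, hc, hcne⟩ := Finset.exists_mem_notMem_of_card_lt_card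
              (show ({y, g y} : Finset α).card < A.card by
                have := Finset.card_le_two (a := y) (b := g y); omega)
            obtain ⟨d, -, hdA⟩ := Finset.exists_mem_notMem_of_card_lt_card
              (show A.card < g.support.card by omega)
            simp only [Finset.mem_insert, Finset.mem_singleton, not_or] at hcne
            refine ⟨insert d (A.erase c), ?_, ⟨y, ?_, ?_⟩, ⟨d, Finset.mem_insert_self _ _, ?_⟩⟩
            · rw [Finset.card_insert_of_notMem (fun h => hdA (Finset.mem_of_mem_erase h)),
                Finset.card_erase_of_mem hc]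
              omega
            · exact Finset.mem_insert_of_mem (Finset.mem_erase.mpr ⟨Ne.symm hcne.1, hy⟩)
            · exact Finset.mem_insert_of_mem (Finset.mem_erase.mpr ⟨Ne.symm hcne.2, hcl y hy⟩)
            · intro hgd
              rcases Finset.mem_insert.mp hgd with h | h
              · exact (Equiv.Perm.mem_support.mp (hout d)) h
              · -- `g` maps `A` onto itself
                have himg : A.image g = A := Finset.eq_of_subset_of_card_le
                  (Finset.image_subset_iff.mpr hcl)
                  (by rw [Finset.card_image_of_injective _ g.injective])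
                have h' := Finset.mem_of_mem_erase h
                rw [← himg, Finset.mem_image] at h'
                obtain ⟨b, hb, hbd⟩ := h'
                exact hdA (g.injective hbd ▸ hb)
          · have hE := hcase.resolve_left hcl
            push Not at hcl
            obtain ⟨y, hy⟩ : (A.filter (fun y => g y ∈ A)).Nonempty := Finset.card_pos.mp (by omega)
            exact ⟨A, hAc, ⟨y, (Finset.mem_filter.mp hy).1, (Finset.mem_filter.mp hy).2⟩, hcl⟩
        obtain ⟨z, -, hz⟩ := Finset.exists_mem_notMem_of_card_lt_card
          (show (insert (g a) B).card < g.support.card by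
            have := Finset.card_insert_le (g a) B; omega)
        simp only [Finset.mem_insert, not_or] at hz
        refine ⟨B, g a, z, fun p _ => hout p, by omega, hga, hz.2, fun h hfix hhx heq => ?_,
          fun h _ _ => ?_⟩
        · have := conjApply h a (hfix a ha)
          rw [heq, hhx] at this
          exact hz.1 this.symm
        · have : 0 < (B.filter (fun y => g y ∈ B)).card :=
            Finset.card_pos.mpr ⟨y, Finset.mem_filter.mpr ⟨hy, hgy⟩⟩
          have := Finset.card_le_univ (g.support ∪ (h * g * h⁻¹).support)
          omega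
    obtain ⟨h, hh, hfix, hhx⟩ := exists_map G hkn hG B (by omega) hx hz
    set g' := h * g * h⁻¹ with hg'
    have hq1 : g' * g⁻¹ ≠ 1 := fun e => hne h hfix hhx (mul_inv_eq_one.mp e)
    have hsub : (g' * g⁻¹).support ⊆
        (g.support ∪ g'.support) \ (B.filter (fun y => g y ∈ B)).image g := by
      intro p hp
      rw [Equiv.Perm.mem_support] at hp
      refine Finset.mem_sdiff.mpr ⟨?_, ?_⟩
      · by_contra hu
        rw [Finset.mem_union, not_or, Equiv.Perm.notMem_support, Equiv.Perm.notMem_support] at hu
        apply hp
        rw [Equiv.Perm.mul_apply, Equiv.Perm.inv_eq_iff_eq.mpr hu.1.symm, hu.2]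
      · intro hi
        obtain ⟨y, hy, rfl⟩ := Finset.mem_image.mp hi
        obtain ⟨hy1, hy2⟩ := Finset.mem_filter.mp hy
        apply hp
        rw [Equiv.Perm.mul_apply, Equiv.Perm.coe_inv, Equiv.symm_apply_apply, hg', Equiv.Perm.mul_apply,
          Equiv.Perm.mul_apply, Equiv.Perm.inv_eq_iff_eq.mpr (hfix y hy1).symm, hfix _ hy2]
    have hD : (B.filter (fun y => g y ∈ B)).image g ⊆ g.support ∪ g'.support := by
      intro p hp
      obtain ⟨y, hy, rfl⟩ := Finset.mem_image.mp hp
      exact Finset.mem_union_left _ (hB (Finset.mem_filter.mp hy).2)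
    have hcard := Finset.card_le_card hsub
    rw [Finset.card_sdiff_of_subset hD, Finset.card_image_of_injective _ g.injective] at hcard
    have hc := hcount h hfix hhx
    rw [← hg'] at hc
    exact ih (g' * g⁻¹).support.card (by omega) (g' * g⁻¹)
      (G.mul_mem (G.mul_mem (G.mul_mem hh hg) (G.inv_mem hh)) (G.inv_mem hg)) hq1 rfl (by omega)
  obtain ⟨h, hh, hh1, hh3⟩ := key _ g hg hg1 rfl hsupp
  refine ⟨⟨h, hh, hh1, hh3⟩, ?_⟩
  haveI := hG
  have hprim : MulAction.IsPreprimitive G α := MulAction.isPreprimitive_of_is_two_pretransitive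
    (MulAction.isMultiplyPretransitive_of_le (n := k) (by omega) (by rwa [Nat.card_eq_fintype_card]))
  have h2 : 2 ≤ h.support.card := Equiv.Perm.two_le_card_support_of_ne_one hh1
  rcases Nat.lt_or_ge h.support.card 3 with h' | h'
  · rw [Equiv.Perm.subgroup_eq_top_of_isPreprimitive_of_isSwap_mem hprim h
      (Equiv.Perm.card_support_eq_two.mp (by omega)) hh]
    exact le_top
  · exact Equiv.Perm.alternatingGroup_le_of_isPreprimitive_of_isThreeCycle_mem hprim
      (card_support_eq_three_iff.mp (by omega)) hh

end Cfsg.Agent.S0711
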