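import Cfsg.Statements.S0712
import Mathlib

set_option autoImplicit false
open Cfsg

namespace Cfsg.Agent.S0712

/-- Jordan: a primitive group in which the pointwise stabiliser of a set `s` is doubly transitive on the complement of `s` (which has at least 2 points) is `(|s| + 2)`-transitive. -/
theorem result {α : Type*} [Fintype α] [DecidableEq α] (G : Subgroup (Equiv.Perm α)) (hG : MulAction.IsPreprimitive G α) (s : Set α) {m : ℕ} (hsm : s.ncard = m) (hm : m + 2 ≤ Fintype.card α) (h2 : MulAction.IsMultiplyPretransitive (fixingSubgroup G s) (SubMulAction.ofFixingSubgroup G s) 2) : MulAction.IsMultiplyPretransitive G α (m + 2) := by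
  classical
  have hs : s.Finite := Set.toFinite s
  have base : MulAction.IsMultiplyPretransitive G α m := by
    rcases Nat.eq_zero_or_pos m with rfl | hm0
    · exact MulAction.is_zero_pretransitive
    · obtain ⟨n, rfl⟩ : ∃ n, m = n + 1 := ⟨m - 1, by omega⟩
      haveI := h2
      haveI := MulAction.isPreprimitive_of_is_two_pretransitive h2
      have := MulAction.IsPreprimitive.isMultiplyPreprimitive hG hsm
        (by rw [Nat.card_eq_fintype_card]; omega) inferInstance
      haveI := this.isMultiplyPretransitive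
      exact MulAction.isMultiplyPretransitive_of_le' (n := n + 2) (by omega)
        (by rw [ENat.card_eq_coe_fintype_card, Nat.cast_le]; omega)
  haveI : Fintype s := hs.fintype
  have hcs : Fintype.card s = m := by rw [← hsm, ← Nat.card_coe_set_eq, Nat.card_eq_fintype_card]
  let e : Fin m ↪ α := ((Fintype.equivFinOfCardEq hcs).symm.toEmbedding).trans (Function.Embedding.subtype _)
  have he : ∀ i, e i ∈ s := fun i => ((Fintype.equivFinOfCardEq hcs).symm i).2
  have he' : ∀ x ∈ s, ∃ i, e i = x := fun x hx => ⟨Fintype.equivFinOfCardEq hcs ⟨x, hx⟩, by simp [e]⟩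
  have norm : ∀ x : Fin (m + 2) ↪ α, ∃ g : G, (∀ i : Fin m, g • x (Fin.castAdd 2 i) = e i) ∧
      ∀ j : Fin 2, g • x (Fin.natAdd m j) ∉ s := by
    intro x
    obtain ⟨g, hg⟩ := base.exists_smul_eq ((Fin.castAddEmb 2).trans x) e
    have hg' : ∀ i : Fin m, g • x (Fin.castAdd 2 i) = e i := fun i => DFunLike.congr_fun hg i
    refine ⟨g, hg', fun j hj => ?_⟩
    obtain ⟨i, hi⟩ := he' _ hj
    rw [← hg' i] at hi
    have := x.injective (MulAction.injective g hi)
    simp [Fin.ext_iff] at this
    omega
  rw [MulAction.isMultiplyPretransitive_iff]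
  intro x y
  obtain ⟨g, hg, hg2⟩ := norm x
  obtain ⟨k, hk, hk2⟩ := norm y
  let px : Fin 2 ↪ SubMulAction.ofFixingSubgroup G s :=
    ⟨fun j => ⟨g • x (Fin.natAdd m j), hg2 j⟩, fun i j h => by
      simpa using x.injective (MulAction.injective g (congrArg Subtype.val h))⟩
  let py : Fin 2 ↪ SubMulAction.ofFixingSubgroup G s :=
    ⟨fun j => ⟨k • y (Fin.natAdd m j), hk2 j⟩, fun i j h => by
      simpa using y.injective (MulAction.injective k (congrArg Subtype.val h))⟩
  obtain ⟨h, hh⟩ := h2.exists_smul_eq px py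
  refine ⟨k⁻¹ * (h : G) * g, ?_⟩
  ext i
  show (k⁻¹ * (h : G) * g) • x i = y i
  rw [mul_smul, mul_smul, inv_smul_eq_iff]
  refine Fin.addCases (fun i => ?_) (fun j => ?_) i
  · rw [hg, hk]
    exact (mem_fixingSubgroup_iff G).1 h.2 _ (he i)
  · exact congrArg Subtype.val (DFunLike.congr_fun hh j)

end Cfsg.Agent.S0712
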