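import Cfsg.Statements.S0714
import Mathlib

set_option autoImplicit false
open Cfsg

namespace Cfsg.Agent.S0714

/-- Over any field, the permutation module of the alternating group of degree at least 5 has exactly four invariant subspaces: zero, the constant functions, the functions with coordinate sum zero, and everything. -/
theorem result {α : Type*} [Fintype α] [DecidableEq α] (hα : 5 ≤ Fintype.card α) {K : Type*} [Field K] (W : Subrepresentation (Cfsg.permRep K (alternatingGroup α) α)) : W.toSubmodule = ⊥ ∨ W = Cfsg.permConstants K (alternatingGroup α) α ∨ W = Cfsg.permSumZero K (alternatingGroup α) α ∨ W.toSubmodule = ⊤ := by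
  classical
  have two : ∀ x y : α, ∃ u w : α, u ≠ w ∧ u ≠ x ∧ u ≠ y ∧ w ≠ x ∧ w ≠ y := by
    intro x y
    have h : 1 < (Finset.univ \ {x, y} : Finset α).card := by
      rw [Finset.card_sdiff_of_subset (Finset.subset_univ _), Finset.card_univ]
      have := Finset.card_le_two (a := x) (b := y)
      omega
    obtain ⟨u, hu, w, hw, huw⟩ := Finset.one_lt_card.1 h
    simp at hu hw
    exact ⟨u, w, huw, hu.1, hu.2, hw.1, hw.2⟩
  have dmem : ∀ a b c d : α, a ≠ b → c ≠ d → Equiv.swap a b * Equiv.swap c d ∈ (alternatingGroup α) := by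
    intro a b c d h1 h2
    rw [Equiv.Perm.mem_alternatingGroup, map_mul, Equiv.Perm.sign_swap h1, Equiv.Perm.sign_swap h2]
    decide
  have act : ∀ (σ : Equiv.Perm α), σ ∈ (alternatingGroup α) → ∀ f ∈ W.toSubmodule, (fun p => f (σ⁻¹ p)) ∈ W.toSubmodule := by
    intro σ hσ f hf
    exact W.apply_mem_toSubmodule ⟨σ, hσ⟩ hf
  by_cases hconst : ∀ f ∈ W.toSubmodule, ∀ x y, f x = f y
  · by_cases hbot : W.toSubmodule = ⊥
    · exact Or.inl hbot
    right; left
    apply Subrepresentation.toSubmodule_injective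
    haveI : Nonempty α := Fintype.card_pos_iff.1 (by omega)
    obtain ⟨x₀⟩ := (inferInstance : Nonempty α)
    show W.toSubmodule = Submodule.span K {fun _ => (1 : K)}
    obtain ⟨f, hf, hf0⟩ := W.toSubmodule.ne_bot_iff.1 hbot
    refine le_antisymm (fun g hg => Submodule.mem_span_singleton.2 ⟨g x₀, funext fun p => by simp [hconst g hg x₀ p]⟩) ?_
    rw [Submodule.span_singleton_le_iff_mem]
    have hc : f x₀ ≠ 0 := fun h => hf0 (funext fun p => by rw [hconst f hf p x₀, h]; rfl)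
    have h1 : (fun _ => (1 : K)) = (f x₀)⁻¹ • f := by
      funext p
      simp [hconst f hf p x₀, hc]
    rw [h1]
    exact W.toSubmodule.smul_mem _ hf
  push Not at hconst
  obtain ⟨f, hf, x, y, hxy⟩ := hconst
  have hxy' : x ≠ y := fun h => hxy (by rw [h])
  obtain ⟨z, u0, -, hzx, hzy, -, -⟩ := two x y
  set c : Equiv.Perm α := Equiv.swap x y * Equiv.swap y z
  have hc : c ∈ (alternatingGroup α) := dmem x y y z hxy' (Ne.symm hzy)
  set v : α → K := fun p => f p - f (c⁻¹ p)
  have hv : v ∈ W.toSubmodule := W.toSubmodule.sub_mem hf (act c hc f hf)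
  have cfix : ∀ p, p ≠ x → p ≠ y → p ≠ z → v p = 0 := by
    intro p h1 h2 h3
    simp [v, c, Equiv.swap_apply_of_ne_of_ne h1 h2, Equiv.swap_apply_of_ne_of_ne h2 h3]
  have cx : c⁻¹ x = z := by simp [c]
  have cy : c⁻¹ y = x := by simp [c, Equiv.swap_apply_of_ne_of_ne hxy' (Ne.symm hzx)]
  have vy : v y ≠ 0 := by
    show f y - f (c⁻¹ y) ≠ 0
    rw [cy, sub_ne_zero]
    exact Ne.symm hxy
  obtain ⟨u, w, huw, hux, huy, hwx, hwy⟩ : ∃ u w : α, u ≠ w ∧ u ≠ x ∧ u ≠ y ∧ w ≠ x ∧ w ≠ y := two x y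
  obtain ⟨u, w, huw, hu, hw⟩ : ∃ u w : α, u ≠ w ∧ (u ≠ x ∧ u ≠ y ∧ u ≠ z) ∧ (w ≠ x ∧ w ≠ y ∧ w ≠ z) := by
    have h : 1 < (Finset.univ \ {x, y, z} : Finset α).card := by
      rw [Finset.card_sdiff_of_subset (Finset.subset_univ _), Finset.card_univ]
      have := Finset.card_le_three (a := x) (b := y) (c := z)
      omega
    obtain ⟨u, hu, w, hw, huw⟩ := Finset.one_lt_card.1 h
    simp at hu hw
    exact ⟨u, w, huw, hu, hw⟩
  have pairdiff : ∃ a b : α, a ≠ b ∧ (fun p => (if p = a then (1 : K) else 0) - (if p = b then 1 else 0)) ∈ W.toSubmodule := by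
    have build : ∀ a b : α, a ≠ b → ∀ g ∈ W.toSubmodule, g a ≠ 0 → g b = -g a →
        (∀ p, p ≠ a → p ≠ b → g p = 0) →
        (fun p => (if p = a then (1 : K) else 0) - (if p = b then 1 else 0)) ∈ W.toSubmodule := by
      intro a b hab g hg hga hgb hg0
      have e : (fun p => (if p = a then (1 : K) else 0) - (if p = b then 1 else 0)) = (g a)⁻¹ • g := by
        funext p
        by_cases h1 : p = a
        · subst h1; simp [hab, hga]
        by_cases h2 : p = b
        · subst h2; simp [h1, hgb, hga]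
        simp [h1, h2, hg0 p h1 h2]
      rw [e]; exact W.toSubmodule.smul_mem _ hg
    have pairCase : ∀ a b r : α, a ≠ b → r ≠ a → r ≠ b → u ≠ a → u ≠ b → u ≠ r → w ≠ a → w ≠ b → w ≠ r →
        (∀ p, p ≠ a → p ≠ b → p ≠ r → v p = 0) → v a ≠ v b →
        ∃ a b : α, a ≠ b ∧ (fun p => (if p = a then (1 : K) else 0) - (if p = b then 1 else 0)) ∈ W.toSubmodule := by
      intro a b r hab hra hrb hua hub hur hwa hwb hwr h0 hne
      refine ⟨a, b, hab, build a b hab (fun p => v p - v ((Equiv.swap a b * Equiv.swap u w)⁻¹ p))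
        (W.toSubmodule.sub_mem hv (act _ (dmem a b u w hab huw) v hv)) ?_ ?_ ?_⟩
      · simp [Equiv.swap_apply_of_ne_of_ne (Ne.symm hua) (Ne.symm hwa), Equiv.swap_apply_of_ne_of_ne (Ne.symm hub) (Ne.symm hwb), sub_eq_zero, hne]
      · simp [Equiv.swap_apply_of_ne_of_ne (Ne.symm hua) (Ne.symm hwa), Equiv.swap_apply_of_ne_of_ne (Ne.symm hub) (Ne.symm hwb)]
      · intro p h1 h2
        by_cases h3 : p = u
        · subst h3; simp [Equiv.swap_apply_of_ne_of_ne h1 h2, h0 p h1 h2 hur, h0 w hwa hwb hwr]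
        by_cases h4 : p = w
        · subst h4; simp [Equiv.swap_apply_of_ne_of_ne h1 h2, h0 p h1 h2 hwr, h0 u hua hub hur]
        simp [Equiv.swap_apply_of_ne_of_ne h1 h2, Equiv.swap_apply_of_ne_of_ne h3 h4]
    by_cases hab : v x = v y
    swap
    · exact pairCase x y z hxy' hzx hzy hu.1 hu.2.1 hu.2.2 hw.1 hw.2.1 hw.2.2 cfix hab
    by_cases hbd : v y = v z
    swap
    · exact pairCase y z x (Ne.symm hzy) hxy' (Ne.symm hzx) hu.2.1 hu.2.2 hu.1 hw.2.1 hw.2.2 hw.1
        (fun p h1 h2 h3 => cfix p h3 h1 h2) hbd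
    refine ⟨x, u, Ne.symm hu.1, build x u (Ne.symm hu.1) (fun p => v p - v ((Equiv.swap x u * Equiv.swap y z)⁻¹ p))
      (W.toSubmodule.sub_mem hv (act _ (dmem x u y z (Ne.symm hu.1) (Ne.symm hzy)) v hv)) ?_ ?_ ?_⟩
    · simp [Equiv.swap_apply_of_ne_of_ne hu.2.1 hu.2.2, cfix u hu.1 hu.2.1 hu.2.2, hab, vy]
    · simp [Equiv.swap_apply_of_ne_of_ne hu.2.1 hu.2.2, Equiv.swap_apply_of_ne_of_ne hxy' (Ne.symm hzx), cfix u hu.1 hu.2.1 hu.2.2]
    · intro p h1 h2
      by_cases h3 : p = y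
      · subst h3; simp [Equiv.swap_apply_of_ne_of_ne h1 h2, Equiv.swap_apply_of_ne_of_ne hzx (Ne.symm hu.2.2), hbd]
      by_cases h4 : p = z
      · subst h4; simp [Equiv.swap_apply_of_ne_of_ne h1 h2, Equiv.swap_apply_of_ne_of_ne (Ne.symm hxy') (Ne.symm hu.2.1), hbd]
      simp [Equiv.swap_apply_of_ne_of_ne h1 h2, Equiv.swap_apply_of_ne_of_ne h3 h4]
  obtain ⟨a, b, hab, hd⟩ := pairdiff
  have alld : ∀ p q : α, p ≠ q → (fun r => (if r = p then (1 : K) else 0) - (if r = q then 1 else 0)) ∈ W.toSubmodule := by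
    intro p q hpq
    obtain ⟨σ, hσa, hσb⟩ : ∃ σ : Equiv.Perm α, σ a = p ∧ σ b = q := by
      refine ⟨Equiv.swap (Equiv.swap a p b) q * Equiv.swap a p, ?_, by simp⟩
      have h1 : p ≠ Equiv.swap a p b := fun h => hab (by
        have := congrArg (Equiv.swap a p) h; simpa using this)
      simp [Equiv.swap_apply_of_ne_of_ne h1 hpq]
    obtain ⟨u, w, huw, hua, hub, hwa, hwb⟩ := two a b
    obtain ⟨τ, hτ, hτa, hτb⟩ : ∃ τ ∈ (alternatingGroup α), τ a = p ∧ τ b = q := by
      rcases Int.units_eq_one_or (Equiv.Perm.sign σ) with h | h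
      · exact ⟨σ, Equiv.Perm.mem_alternatingGroup.2 h, hσa, hσb⟩
      · refine ⟨σ * Equiv.swap u w, ?_, ?_, ?_⟩
        · rw [Equiv.Perm.mem_alternatingGroup, map_mul, h, Equiv.Perm.sign_swap huw]; decide
        · rw [Equiv.Perm.mul_apply, Equiv.swap_apply_of_ne_of_ne (Ne.symm hua) (Ne.symm hwa), hσa]
        · rw [Equiv.Perm.mul_apply, Equiv.swap_apply_of_ne_of_ne (Ne.symm hub) (Ne.symm hwb), hσb]
    convert act τ hτ _ hd using 1
    funext r
    simp only [Equiv.Perm.inv_def, Equiv.symm_apply_eq, hτa, hτb]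
  have hle : (Cfsg.permSumZero K (alternatingGroup α) α).toSubmodule ≤ W.toSubmodule := by
    intro g hg
    have hg' : ∑ r, g r = 0 := hg
    have : g = ∑ r, g r • (fun t => (if t = r then (1 : K) else 0) - (if t = a then 1 else 0)) := by
      funext t
      simp [Finset.sum_apply, mul_sub, Finset.sum_sub_distrib, Finset.sum_ite_eq, ← Finset.sum_mul, hg']
    rw [this]
    refine Submodule.sum_mem _ fun r _ => Submodule.smul_mem _ _ ?_
    by_cases h : r = a
    · subst h
      simp only [sub_self]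
      exact W.toSubmodule.zero_mem
    · exact alld r a h
  by_cases hz : ∀ g ∈ W.toSubmodule, ∑ r, g r = 0
  · right; right; left
    exact Subrepresentation.toSubmodule_injective (le_antisymm hz hle)
  · right; right; right
    push Not at hz
    obtain ⟨g, hg, hs⟩ := hz
    rw [eq_top_iff]
    intro t _
    set s := (∑ r, t r) / (∑ r, g r)
    have h1 : t - s • g ∈ W.toSubmodule := hle (by
      show ∑ r, (t - s • g) r = 0
      simp [Finset.sum_sub_distrib, ← Finset.mul_sum, s, div_mul_cancel₀ _ hs])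
    simpa using W.toSubmodule.add_mem h1 (W.toSubmodule.smul_mem s hg)

end Cfsg.Agent.S0714
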