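import Cfsg.Statements.S0716
import Cfsg.Agent.Lib.Perm.PermCharacter

set_option autoImplicit false
open Cfsg

namespace Cfsg.Agent.S0716

/-- (a) If all non-principal irreducible constituents of the permutation character of a transitive group have the same degree `f`, the character is multiplicity-free and all non-trivial subdegrees equal `f`. (b) A transitive group of rank at most 5 has multiplicity-free permutation character. -/
theorem result {G : Type*} [Group G] [Fintype G] {Ω : Type*} [Fintype Ω] [MulAction G Ω] [MulAction.IsPretransitive G Ω] (a : Ω) : ((f : ℕ) → (∀ χ : G → ℂ, Cfsg.IsIrrCharacter G χ → χ ≠ (fun _ => 1) → Cfsg.classInner (fun g : G => (Nat.card (MulAction.fixedBy Ω g) : ℂ)) χ ≠ 0 → χ 1 = f) → (∀ χ : G → ℂ, Cfsg.IsIrrCharacter G χ → Cfsg.classInner (fun g : G => (Nat.card (MulAction.fixedBy Ω g) : ℂ)) χ = 0 ∨ Cfsg.classInner (fun g : G => (Nat.card (MulAction.fixedBy Ω g) : ℂ)) χ = 1) ∧ ∀ b : Ω, b ≠ a → Nat.card (MulAction.orbit (MulAction.stabilizer G a) b)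 = f) ∧ (Nat.card (MulAction.orbitRel.Quotient (MulAction.stabilizer G a) Ω) ≤ 5 → ∀ χ : G → ℂ, Cfsg.IsIrrCharacter G χ → Cfsg.classInner (fun g : G => (Nat.card (MulAction.fixedBy Ω g) : ℂ)) χ = 0 ∨ Cfsg.classInner (fun g : G => (Nat.card (MulAction.fixedBy Ω g) : ℂ)) χ = 1) := by
  classical
  let ρ := Cfsg.permRep ℂ G Ω
  have hchar : ρ.character = fun g : G => (Nat.card (MulAction.fixedBy Ω g) : ℂ) :=
    Cfsg.Agent.PermCharacter.character_permRep Ω
  rw [← hchar]
  haveI : Nonempty Ω := ⟨a⟩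
  set r := Nat.card (MulAction.orbitRel.Quotient (MulAction.stabilizer G a) Ω) with hr
  choose m hm using fun χ : Cfsg.IrrCharacter G =>
    (Cfsg.Lib.Char.isCharacter_character ρ).exists_nat_classInner χ.2.isCharacter
  let e : Cfsg.IrrCharacter G := ⟨fun _ => 1, Cfsg.Lib.Char.isIrrCharacter_one⟩
  have hme : m e = 1 := Nat.cast_injective (R := ℂ)
    ((hm e).symm.trans ((Cfsg.Agent.PermCharacter.classInner_one Ω).trans Nat.cast_one.symm))
  -- the rank is the sum of the squared multiplicities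
  have hrank : ∑ χ, m χ * m χ = r := by
    have h1 := Cfsg.Lib.Char.classInner_eq_sum (f' := ρ.character)
      (Cfsg.Lib.Char.isCharacter_character ρ).isClassFunction
    simp only [hm, Complex.conj_natCast] at h1
    have h2 : Cfsg.classInner ρ.character ρ.character = (r : ℂ) := by
      have hb := MulAction.sum_card_fixedBy_eq_card_orbits_mul_card_group G (Ω × Ω)
      have hfix : ∀ g : G, Fintype.card (MulAction.fixedBy (Ω × Ω) g) =
          Fintype.card (MulAction.fixedBy Ω g) * Fintype.card (MulAction.fixedBy Ω g) := by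
        intro g
        rw [← Fintype.card_prod]
        exact Fintype.card_congr
          { toFun := fun p => (⟨p.1.1, congrArg Prod.fst p.2⟩, ⟨p.1.2, congrArg Prod.snd p.2⟩)
            invFun := fun p => ⟨(p.1.1, p.2.1), Prod.ext p.1.2 p.2.2⟩
            left_inv := fun p => rfl
            right_inv := fun p => rfl }
      have horb : Fintype.card (Quotient (MulAction.orbitRel G (Ω × Ω))) = r := by
        rw [hr, Nat.card_eq_fintype_card]
        let φ : MulAction.orbitRel.Quotient (MulAction.stabilizer G a) Ω →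
            Quotient (MulAction.orbitRel G (Ω × Ω)) :=
          Quotient.lift (fun b => Quotient.mk _ (a, b)) (fun b c hbc => by
            obtain ⟨⟨g, hg⟩, hgc⟩ := hbc
            refine Quotient.sound ⟨g, ?_⟩
            exact Prod.ext hg hgc)
        refine (Fintype.card_congr (Equiv.ofBijective φ ⟨?_, ?_⟩)).symm
        · intro x y hxy
          induction x using Quotient.inductionOn with
          | _ b =>
          induction y using Quotient.inductionOn with
          | _ c =>
          obtain ⟨g, hg⟩ := Quotient.exact hxy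
          exact Quotient.sound ⟨⟨g, congrArg Prod.fst hg⟩, congrArg Prod.snd hg⟩
        · intro q
          induction q using Quotient.inductionOn with
          | _ p =>
          obtain ⟨g, hg⟩ := MulAction.exists_smul_eq G p.1 a
          refine ⟨Quotient.mk _ (g • p.2), ?_⟩
          exact Quotient.sound ⟨g, Prod.ext hg rfl⟩
      rw [Cfsg.classInner, hchar]
      simp only [Complex.conj_natCast, Nat.card_eq_fintype_card]
      have hsum : ∑ g : G, ((Fintype.card (MulAction.fixedBy Ω g) : ℂ) *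
          (Fintype.card (MulAction.fixedBy Ω g) : ℂ)) = (r : ℂ) * (Fintype.card G : ℂ) := by
        rw [← horb]
        simp only [← Nat.cast_mul, ← hfix]
        exact_mod_cast hb
      rw [hsum, mul_left_comm, inv_mul_cancel₀ (Nat.cast_ne_zero.mpr Fintype.card_ne_zero), mul_one]
    rw [h2] at h1
    exact_mod_cast h1.symm
  have parta : ∀ f : ℕ, (∀ χ : G → ℂ, Cfsg.IsIrrCharacter G χ → χ ≠ (fun _ => 1) →
      Cfsg.classInner ρ.character χ ≠ 0 → χ 1 = f) →
      (∀ χ : G → ℂ, Cfsg.IsIrrCharacter G χ →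
        Cfsg.classInner ρ.character χ = 0 ∨ Cfsg.classInner ρ.character χ = 1) ∧
      ∀ b : Ω, b ≠ a → Nat.card (MulAction.orbit (MulAction.stabilizer G a) b) = f := by
    intro f hf
    -- degree count
    have hdeg : Fintype.card Ω = 1 + f * ∑ χ ∈ Finset.univ.erase e, m χ := by
      have h1 := congrFun (Cfsg.Lib.Char.eq_sum_classInner
        (Cfsg.Lib.Char.isCharacter_character ρ).isClassFunction) 1
      rw [ρ.char_one, Module.finrank_pi, Finset.sum_apply] at h1
      simp only [Pi.smul_apply, smul_eq_mul, hm] at h1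
      rw [← Finset.add_sum_erase Finset.univ _ (Finset.mem_univ e), hme] at h1
      have h2 : ∀ χ ∈ Finset.univ.erase e, (m χ : ℂ) * (χ : G → ℂ) 1 = ((f * m χ : ℕ) : ℂ) := by
        intro χ hχ
        by_cases h0 : m χ = 0
        · simp [h0]
        · rw [hf χ χ.2 (fun h => (Finset.mem_erase.mp hχ).1 (Subtype.ext h))
            (by rw [hm]; exact Nat.cast_ne_zero.mpr h0)]
          push_cast
          ring
      rw [Finset.sum_congr rfl h2, show ((e : G → ℂ) 1) = 1 from rfl, ← Nat.cast_sum, mul_one,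
        Nat.cast_one] at h1
      rw [Finset.mul_sum]
      exact_mod_cast h1
    -- orbit count
    let Q := MulAction.orbitRel.Quotient (MulAction.stabilizer G a) Ω
    let sz : Q → ℕ := fun q => Nat.card q.orbit
    have hsz : ∀ b : Ω, sz (Quotient.mk _ b) = Nat.card (MulAction.orbit (MulAction.stabilizer G a) b) :=
      fun b => rfl
    have hsum : Fintype.card Ω = ∑ q : Q, sz q := by
      simp only [sz, Nat.card_eq_fintype_card]
      rw [← Fintype.card_sigma]
      exact Fintype.card_congr (MulAction.selfEquivSigmaOrbits' (MulAction.stabilizer G a) Ω)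
    let q₀ : Q := Quotient.mk _ a
    have hq₀ : sz q₀ = 1 := by
      rw [hsz, Nat.card_eq_one_iff_unique]
      refine ⟨⟨fun x y => Subtype.ext ?_⟩, ⟨⟨a, MulAction.mem_orbit_self a⟩⟩⟩
      obtain ⟨x, g, rfl⟩ := x
      obtain ⟨y, h, rfl⟩ := y
      exact g.2.trans h.2.symm
    have hge : ∀ q ∈ Finset.univ.erase q₀, f ≤ sz q ∧ 1 ≤ sz q := by
      intro q hq
      induction q using Quotient.inductionOn with
      | _ b =>
      have hb : b ≠ a := by
        rintro rfl
        exact (Finset.mem_erase.mp hq).1 rfl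
      haveI : Nonempty (MulAction.orbit (MulAction.stabilizer G a) b) :=
        ⟨⟨b, MulAction.mem_orbit_self b⟩⟩
      have hpos : 0 < Nat.card (MulAction.orbit (MulAction.stabilizer G a) b) := Nat.card_pos
      rw [hsz]
      refine ⟨Nat.le_of_dvd hpos (Cfsg.Agent.PermCharacter.dvd_subdegree Ω f
        (fun χ hχ h1 h2 => ⟨1, by rw [hf χ hχ h1 h2, Nat.cast_one, mul_one]⟩) a b hb), hpos⟩
    rw [← Finset.add_sum_erase Finset.univ _ (Finset.mem_univ q₀), hq₀, hdeg] at hsum
    have hsum' := Nat.add_left_cancel hsum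
    have hcardQ : (Finset.univ.erase q₀).card + 1 = r := by
      rw [Finset.card_erase_add_one (Finset.mem_univ q₀), Finset.card_univ, hr,
        Nat.card_eq_fintype_card]
    rw [← Finset.add_sum_erase Finset.univ _ (Finset.mem_univ e), hme] at hrank
    have hle : ∑ χ ∈ Finset.univ.erase e, m χ ≤ ∑ χ ∈ Finset.univ.erase e, m χ * m χ :=
      Finset.sum_le_sum fun χ _ => Nat.le_mul_self _
    have h1 : (Finset.univ.erase q₀).card * f ≤ f * ∑ χ ∈ Finset.univ.erase e, m χ := by
      rw [hsum', ← smul_eq_mul]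
      exact Finset.card_nsmul_le_sum _ _ _ fun q hq => (hge q hq).1
    rcases Nat.eq_zero_or_pos f with rfl | hfpos
    · have hempty : Finset.univ.erase q₀ = ∅ := by
        by_contra hne
        obtain ⟨q, hq⟩ := Finset.nonempty_iff_ne_empty.mpr hne
        have := (hge q hq).2
        have := Finset.single_le_sum (f := sz) (fun i _ => Nat.zero_le _) hq
        rw [zero_mul] at hsum'
        omega
      refine ⟨fun χ hχ => ?_, fun b hb => ?_⟩
      · have h2 : ∑ χ ∈ Finset.univ.erase e, m χ * m χ = 0 := by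
          rw [hempty, Finset.card_empty] at hcardQ
          omega
        by_cases he : (⟨χ, hχ⟩ : Cfsg.IrrCharacter G) = e
        · right; rw [hm ⟨χ, hχ⟩, he, hme, Nat.cast_one]
        · left
          have := Finset.sum_eq_zero_iff.mp h2 ⟨χ, hχ⟩ (by simp [he])
          rw [hm ⟨χ, hχ⟩, mul_self_eq_zero.mp this, Nat.cast_zero]
      · have : (Quotient.mk _ b : Q) ∈ Finset.univ.erase q₀ := by
          refine Finset.mem_erase.mpr ⟨fun h => hb ?_, Finset.mem_univ _⟩
          obtain ⟨g, hg⟩ := Quotient.exact h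
          exact hg.symm.trans g.2
        rw [hempty] at this
        exact absurd this (Finset.notMem_empty _)
    have h2 : (Finset.univ.erase q₀).card ≤ ∑ χ ∈ Finset.univ.erase e, m χ :=
      Nat.le_of_mul_le_mul_left (by linarith [h1]) hfpos
    have heq : ∑ χ ∈ Finset.univ.erase e, m χ = ∑ χ ∈ Finset.univ.erase e, m χ * m χ := by omega
    have heq' : (Finset.univ.erase q₀).card = ∑ χ ∈ Finset.univ.erase e, m χ := by omega
    refine ⟨fun χ hχ => ?_, fun b hb => ?_⟩
    · by_cases he : (⟨χ, hχ⟩ : Cfsg.IrrCharacter G) = e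
      · right; rw [hm ⟨χ, hχ⟩, he, hme, Nat.cast_one]
      have := (Finset.sum_eq_sum_iff_of_le fun χ _ => Nat.le_mul_self (m χ)).mp heq ⟨χ, hχ⟩
        (by simp [he])
      rw [hm ⟨χ, hχ⟩]
      rcases Nat.eq_zero_or_pos (m ⟨χ, hχ⟩) with h0 | h0
      · left; rw [h0, Nat.cast_zero]
      · right
        rw [Nat.eq_of_mul_eq_mul_left h0 (show m ⟨χ, hχ⟩ * m ⟨χ, hχ⟩ = m ⟨χ, hχ⟩ * 1 by omega),
          Nat.cast_one]
    · have hq : (Quotient.mk _ b : Q) ∈ Finset.univ.erase q₀ := by
        refine Finset.mem_erase.mpr ⟨fun h => hb ?_, Finset.mem_univ _⟩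
        obtain ⟨g, hg⟩ := Quotient.exact h
        exact hg.symm.trans g.2
      rw [← hsz]
      refine ((Finset.sum_eq_sum_iff_of_le (f := fun _ => f) fun q hq => (hge q hq).1).mp ?_ _ hq).symm
      rw [Finset.sum_const, smul_eq_mul, heq', mul_comm, hsum']
  refine ⟨parta, fun hr5 χ hχ => ?_⟩
  by_contra hno
  have hχ2 : 2 ≤ m ⟨χ, hχ⟩ := by
    by_contra hlt
    apply hno
    rw [hm ⟨χ, hχ⟩]
    rcases Nat.lt_or_ge (m ⟨χ, hχ⟩) 1 with h | h
    · left; rw [show m ⟨χ, hχ⟩ = 0 by omega, Nat.cast_zero]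
    · right; rw [show m ⟨χ, hχ⟩ = 1 by omega, Nat.cast_one]
  have hne : (⟨χ, hχ⟩ : Cfsg.IrrCharacter G) ≠ e := fun h => by rw [h, hme] at hχ2; omega
  obtain ⟨f, hf⟩ := hχ.exists_degree
  have hall : ∀ ψ : G → ℂ, Cfsg.IsIrrCharacter G ψ → ψ ≠ (fun _ => 1) →
      Cfsg.classInner ρ.character ψ ≠ 0 → ψ 1 = f := by
    intro ψ hψ h1 h0
    by_cases hψχ : ψ = χ
    · rw [hψχ]; exact hf.2
    exfalso
    rw [hm ⟨ψ, hψ⟩, Nat.cast_ne_zero] at h0
    have hsub : ({e, ⟨χ, hχ⟩, ⟨ψ, hψ⟩} : Finset (Cfsg.IrrCharacter G)) ⊆ Finset.univ :=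
      Finset.subset_univ _
    have h3 := Finset.sum_le_sum_of_subset (f := fun x => m x * m x) hsub
    have he1 : e ≠ ⟨ψ, hψ⟩ := fun h => h1 (congrArg Subtype.val h).symm
    have he2 : (⟨χ, hχ⟩ : Cfsg.IrrCharacter G) ≠ ⟨ψ, hψ⟩ := fun h => hψχ (congrArg Subtype.val h).symm
    rw [Finset.sum_insert (by simp [hne.symm, he1]), Finset.sum_pair he2, hme, hrank] at h3
    have h4 : 4 ≤ m ⟨χ, hχ⟩ * m ⟨χ, hχ⟩ := Nat.mul_le_mul hχ2 hχ2
    have h5 : 1 ≤ m ⟨ψ, hψ⟩ * m ⟨ψ, hψ⟩ := Nat.mul_pos (Nat.pos_of_ne_zero h0) (Nat.pos_of_ne_zero h0)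
    omega
  exact hno ((parta f hall).1 χ hχ)

end Cfsg.Agent.S0716
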