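import Cfsg.Statements.S0717
import Cfsg.Agent.Lib.Perm.PermCharacter

set_option autoImplicit false
open Cfsg

namespace Cfsg.Agent.S0717

/-- All suborbits of a transitive group are self-paired (every pair of points is interchanged by some group element) if and only if the permutation character is multiplicity-free and each of its irreducible constituents is real-valued. -/
theorem result {G : Type*} [Group G] [Fintype G] {Ω : Type*} [Fintype Ω] [MulAction G Ω] [MulAction.IsPretransitive G Ω] : (∀ a b : Ω, ∃ g : G, g • a = b ∧ g • b = a) ↔ ∀ χ : G → ℂ, Cfsg.IsIrrCharacter G χ → Cfsg.classInner (fun g : G => (Nat.card (MulAction.fixedBy Ω g) : ℂ)) χ ≠ 0 → Cfsg.classInner (fun g : G => (Nat.card (MulAction.fixedBy Ω g) : ℂ)) χ = 1 ∧ ∀ g : G, (starRingEnd ℂ) (χ g) = χ g := by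
  classical
  let ρ := Cfsg.permRep ℂ G Ω
  have hchar : ρ.character = fun g : G => (Nat.card (MulAction.fixedBy Ω g) : ℂ) :=
    Cfsg.Agent.PermCharacter.character_permRep Ω
  rw [← hchar]
  have hcl : ∀ χ : G → ℂ, Cfsg.IsIrrCharacter G χ →
      Cfsg.IsClassFunction G (fun g => (starRingEnd ℂ) (χ g)) :=
    fun χ hχ g k => congrArg (starRingEnd ℂ) (hχ.isClassFunction g k)
  have hinv : ∀ χ : G → ℂ, Cfsg.IsIrrCharacter G χ → ∀ g, χ g⁻¹ = (starRingEnd ℂ) (χ g) :=
    fun χ hχ g => hχ.isCharacter.apply_inv g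
  constructor
  · intro hgen χ hχ hne
    have hsym : ∀ T, Cfsg.Agent.CentralizerRing.Commutes ρ T → ∀ x y : Ω,
        T (Pi.single y 1) x = T (Pi.single x 1) y := by
      intro T hT x y
      obtain ⟨g, hg1, hg2⟩ := hgen x y
      have := Cfsg.Agent.PermCharacter.entry_smul Ω hT g y x
      rw [hg1, hg2] at this
      exact this
    have hmf : ∀ ψ : G → ℂ, Cfsg.IsIrrCharacter G ψ →
        Cfsg.classInner ρ.character ψ = 0 ∨ Cfsg.classInner ρ.character ψ = 1 := by
      intro ψ hψ
      refine Cfsg.Agent.CentralizerRing.multiplicityFree_of_comm ρ (fun S T hS hT => ?_) hψ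
      have hST : Cfsg.Agent.CentralizerRing.Commutes ρ (S ∘ₗ T) := fun g => by
        rw [LinearMap.comp_assoc, hT g, ← LinearMap.comp_assoc, hS g, LinearMap.comp_assoc]
      have hTS : Cfsg.Agent.CentralizerRing.Commutes ρ (T ∘ₗ S) := fun g => by
        rw [LinearMap.comp_assoc, hS g, ← LinearMap.comp_assoc, hT g, LinearMap.comp_assoc]
      refine LinearMap.pi_ext' fun y => LinearMap.ext_ring ?_
      funext x
      show (S ∘ₗ T) (Pi.single y 1) x = (T ∘ₗ S) (Pi.single y 1) x
      rw [hsym _ hTS x y]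
      have hexp : ∀ (A : (Ω → ℂ) →ₗ[ℂ] (Ω → ℂ)) (φ : Ω → ℂ) (i : Ω),
          A φ i = ∑ z, φ z * A (Pi.single z 1) i := by
        intro A φ i
        conv_lhs => rw [pi_eq_sum_univ' φ]
        simp only [map_sum, map_smul, Finset.sum_apply, Pi.smul_apply, smul_eq_mul]
      simp only [LinearMap.comp_apply]
      rw [hexp S (T (Pi.single y 1)) x, hexp T (S (Pi.single x 1)) y]
      refine Finset.sum_congr rfl fun z _ => ?_
      rw [hsym T hT z y, hsym S hS x z, mul_comm]
    refine ⟨(hmf χ hχ).resolve_left hne, ?_⟩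
    have hzero : Cfsg.Lib.Char.averageOp ρ (fun g => (starRingEnd ℂ) (χ g) - χ g) = 0 := by
      refine LinearMap.pi_ext' fun y => LinearMap.ext_ring ?_
      funext x
      show Cfsg.Lib.Char.averageOp ρ _ (Pi.single y 1) x = 0
      have e1 := hsym _ (Cfsg.Agent.CentralizerRing.commutes_averageOp ρ (hcl χ hχ)) x y
      rw [Cfsg.Agent.PermCharacter.averageOp_single, Cfsg.Agent.PermCharacter.averageOp_single] at e1
      rw [Cfsg.Agent.PermCharacter.averageOp_single]
      have e2 : (∑ g : G, if g • x = y then (starRingEnd ℂ) (χ g) else 0) =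
          ∑ g : G, if g • y = x then χ g else 0 := by
        refine Fintype.sum_equiv (Equiv.inv G) _ _ fun g => ?_
        simp only [Equiv.inv_apply]
        rw [hinv χ hχ g]
        exact if_congr (by rw [inv_smul_eq_iff, eq_comm]) rfl rfl
      have e3 := e1.trans e2
      have e4 : (∑ g : G, if g • y = x then (starRingEnd ℂ) (χ g) - χ g else 0) =
          (∑ g : G, if g • y = x then (starRingEnd ℂ) (χ g) else 0) -
            ∑ g : G, if g • y = x then χ g else 0 := by
        rw [← Finset.sum_sub_distrib]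
        exact Finset.sum_congr rfl fun g _ => by split_ifs <;> simp
      rw [e4, e3, sub_self]
    have hs := Cfsg.Agent.CentralizerRing.sum_eq_zero_of_averageOp_eq_zero ρ hχ hzero hne
    intro g
    by_contra hg
    have hbar := Cfsg.Lib.Char.isIrrCharacter_conjFn hχ
    have hne' : χ ≠ fun g => (starRingEnd ℂ) (χ g) := fun h => hg (congrFun h g).symm
    have h0 := Cfsg.Lib.Char.classInner_irr_ne hχ hbar hne'
    have h1 := Cfsg.Lib.Char.classInner_irr_self hχ
    simp only [Cfsg.classInner, starRingEnd_self_apply] at h0 h1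
    have hcard : (Nat.card G : ℂ) ≠ 0 := Cfsg.Lib.Char.card_cast_ne_zero
    rw [mul_eq_zero, inv_eq_zero] at h0
    replace h0 := h0.resolve_left hcard
    simp only [sub_mul, Finset.sum_sub_distrib] at hs
    rw [h0, sub_zero] at hs
    rw [show (∑ g, χ g * (starRingEnd ℂ) (χ g)) = 0 from
      (Finset.sum_congr rfl fun g _ => mul_comm _ _).trans hs, mul_zero] at h1
    exact zero_ne_one h1
  · intro h a b
    have hmf : ∀ ψ : G → ℂ, Cfsg.IsIrrCharacter G ψ →
        Cfsg.classInner ρ.character ψ = 0 ∨ Cfsg.classInner ρ.character ψ = 1 := fun ψ hψ => by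
      by_cases h0 : Cfsg.classInner ρ.character ψ = 0
      · exact Or.inl h0
      · exact Or.inr (h ψ hψ h0).1
    obtain ⟨c, hc⟩ := Cfsg.Agent.CentralizerRing.exists_sum_avg ρ hmf
      (Cfsg.Agent.PermCharacter.orbitalOp_commutes Ω a b)
    have hsym : Cfsg.Agent.PermCharacter.orbitalOp (G := G) Ω a b (Pi.single b 1) a =
        Cfsg.Agent.PermCharacter.orbitalOp (G := G) Ω a b (Pi.single a 1) b := by
      simp only [hc, LinearMap.sum_apply, LinearMap.smul_apply, Finset.sum_apply, Pi.smul_apply]
      refine Finset.sum_congr rfl fun χ _ => ?_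
      congr 1
      by_cases h0 : Cfsg.classInner ρ.character (χ : G → ℂ) = 0
      · rw [Cfsg.Agent.CentralizerRing.avg_eq_zero ρ χ.2 h0]; simp
      · have hr := (h χ χ.2 h0).2
        simp only [Cfsg.Agent.CentralizerRing.avg, Cfsg.Agent.PermCharacter.averageOp_single, ρ]
        refine Fintype.sum_equiv (Equiv.inv G) _ _ fun g => ?_
        simp only [Equiv.inv_apply]
        rw [hinv χ χ.2 g, hr g, hr g]
        exact if_congr (by rw [inv_smul_eq_iff, eq_comm]) rfl rfl
    rw [Cfsg.Agent.PermCharacter.orbitalOp_apply, Cfsg.Agent.PermCharacter.orbitalOp_apply,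
      Finset.sum_eq_single b (fun y _ hy => by simp [hy]) (by simp),
      Finset.sum_eq_single a (fun y _ hy => by simp [hy]) (by simp), if_pos ⟨1, one_smul _ _, one_smul _ _⟩] at hsym
    by_contra hno
    rw [if_neg hno] at hsym
    simp at hsym

end Cfsg.Agent.S0717
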