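import Cfsg.Statements.S0718
import Cfsg.Agent.Lib.Perm.PermCharacter

set_option autoImplicit false
open Cfsg

namespace Cfsg.Agent.S0718

/-- Multiplicity-freeness of the permutation character is equivalent to commutativity of the centraliser ring, i.e. of the algebra of `G`-equivariant endomorphisms of the complex permutation module. -/
theorem result {G : Type*} [Group G] [Fintype G] {Ω : Type*} [Fintype Ω] [MulAction G Ω] : (∀ χ : G → ℂ, Cfsg.IsIrrCharacter G χ → Cfsg.classInner (fun g : G => (Nat.card (MulAction.fixedBy Ω g) : ℂ)) χ = 0 ∨ Cfsg.classInner (fun g : G => (Nat.card (MulAction.fixedBy Ω g) : ℂ)) χ = 1) ↔ ∀ S T : (Ω → ℂ) →ₗ[ℂ] (Ω → ℂ), S ∈ ((Cfsg.permRep ℂ G Ω).linHom (Cfsg.permRep ℂ G Ω)).invariants → T ∈ ((Cfsg.permRep ℂ G Ω).linHom (Cfsg.permRep ℂ G Ω)).invariants → S ∘ₗ T = T ∘ₗ S := by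
  have hmem : ∀ T : (Ω → ℂ) →ₗ[ℂ] (Ω → ℂ),
      T ∈ ((Cfsg.permRep ℂ G Ω).linHom (Cfsg.permRep ℂ G Ω)).invariants ↔
        Cfsg.Agent.CentralizerRing.Commutes (Cfsg.permRep ℂ G Ω) T := by
    intro T
    rw [Representation.mem_invariants]
    simp only [Representation.linHom_apply]
    constructor
    · intro h g
      refine LinearMap.ext fun x => ?_
      have h' := LinearMap.congr_fun (h g) (Cfsg.permRep ℂ G Ω g x)
      simp only [LinearMap.comp_apply] at h' ⊢
      rw [Representation.inv_self_apply] at h'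
      exact h'.symm
    · intro h g
      refine LinearMap.ext fun x => ?_
      simp only [LinearMap.comp_apply]
      rw [show T (Cfsg.permRep ℂ G Ω g⁻¹ x) = Cfsg.permRep ℂ G Ω g⁻¹ (T x) from
        LinearMap.congr_fun (h g⁻¹) x, Representation.self_inv_apply]
  constructor
  · intro hm S T hS hT
    exact Cfsg.Agent.CentralizerRing.comm_of_multiplicityFree _
      (fun χ hχ => by rw [Cfsg.Agent.PermCharacter.character_permRep]; exact hm χ hχ)
      ((hmem S).mp hS) ((hmem T).mp hT)
  · intro hc χ hχ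
    have := Cfsg.Agent.CentralizerRing.multiplicityFree_of_comm (Cfsg.permRep ℂ G Ω)
      (fun S T hS hT => hc S T ((hmem S).mpr hS) ((hmem T).mpr hT)) hχ
    rwa [Cfsg.Agent.PermCharacter.character_permRep] at this

end Cfsg.Agent.S0718
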