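import Cfsg.Statements.S0723
import Cfsg.Agent.Lib.Recog.ONanScott.PowerSubgroup
import Cfsg.Agent.S0721
import Cfsg.Agent.S0722

set_option autoImplicit false
open Cfsg

namespace Cfsg.Agent.S0723

/-- The core of the O'Nan–Scott Theorem. Let `H` be a primitive permutation group on a finite set whose unique minimal normal subgroup `N` is non-abelian, and `K` a point stabiliser. Then there are a non-abelian simple group `T` and an isomorphism `N ≃* T^m` (`m ≥ 1`) under which `K ⊓ N` becomes either a product `∏ K_i` of proper subgroups `K_i < T`, or the set of functions constant on each block of a partition of the index set into blocks of one common size `k ≥ 2`. -/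
theorem result {α : Type*} [Finite α] (H : Subgroup (Equiv.Perm α)) [MulAction.IsPreprimitive H α] (N : Subgroup H) [N.Normal] (hN : N ≠ ⊥) (hmin : ∀ M : Subgroup H, M.Normal → M ≤ N → M = ⊥ ∨ M = N) (huniq : ∀ L : Subgroup H, L.Normal → L ≠ ⊥ → (∀ M : Subgroup H, M.Normal → M ≤ L → M = ⊥ ∨ M = L) → L = N) (hnab : ¬ IsMulCommutative N) (a : α) : ∃ (T : Type) (_ : Group T) (m : ℕ) (e : N ≃* (Fin m → T)), IsSimpleGroup T ∧ ¬ IsMulCommutative T ∧ 0 < m ∧ ((∃ K : Fin m → Subgroup T, (∀ i, K i ≠ ⊤) ∧ ∀ n : N, (n : H) ∈ MulAction.stabilizer H a ↔ ∀ i, e n i ∈ K i) ∨ (∃ (k : ℕ) (c : Fin m → Fin m), 2 ≤ k ∧ (∀ j : Fin m, Nat.card {i : Fin m // c i = j} = k ∨ Nat.card {i : Fin m // c i = j} = 0) ∧ ∀ n : N, (n : H) ∈ MulAction.stabilizer H a ↔ ∀ i j : Fin m, c i = c j → e n i = e n j)) := by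
  classical
  obtain ⟨T, instT, m, hT, hm, ⟨e0⟩⟩ := Cfsg.Agent.S0721.result N hN hmin
  haveI := hT
  haveI : Finite T := Finite.of_injective (fun t => e0.symm (Pi.mulSingle ⟨0, hm⟩ t))
    (e0.symm.injective.comp (Pi.mulSingle_injective (M := fun _ : Fin m => T) ⟨0, hm⟩))
  have hna : ¬ ∀ x y : T, x * y = y * x := fun h => hnab
    ⟨⟨fun x y => e0.injective (by rw [map_mul, map_mul]; funext i; exact h _ _)⟩⟩
  have hnaT : ¬ IsMulCommutative T := fun h => hna fun x y => h.is_comm.comm x y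
  let F : H → (Fin m → T) ≃* (Fin m → T) := fun h => e0.symm.trans ((MulAut.conjNormal h).trans e0)
  have hF : ∀ (h : H) (x : Fin m → T), F h x = e0 (MulAut.conjNormal h (e0.symm x)) := fun _ _ => rfl
  have hFmul : ∀ (g h : H) x, F (g * h) x = F g (F h x) := fun g h x => by
    rw [hF, hF, hF, MulEquiv.symm_apply_apply, map_mul, MulAut.mul_apply]
  have hFN : ∀ (n : N) x, F n x = e0 n * x * (e0 n)⁻¹ := fun n x => by
    rw [hF, show MulAut.conjNormal (n : H) (e0.symm x) = n * e0.symm x * n⁻¹ from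
      Subtype.ext (by simp [MulAut.conjNormal_apply]), map_mul, map_mul, map_inv, MulEquiv.apply_symm_apply]
  have htransN : MulAction.IsPretransitive N α := by
    refine MulAction.IsQuasiPreprimitive.isPretransitive_of_normal fun hfix => hN ?_
    rw [eq_bot_iff]
    intro n hn
    refine Subgroup.mem_bot.2 (FaithfulSMul.eq_of_smul_eq_smul fun ω : α => ?_)
    rw [one_smul]
    exact (hfix.symm ▸ Set.mem_univ ω : ω ∈ MulAction.fixedPoints N α) ⟨n, hn⟩
  let D : Subgroup (Fin m → T) := ((MulAction.stabilizer H a).subgroupOf N).map e0.toMonoidHom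
  have hDmem : ∀ n : N, e0 n ∈ D ↔ (n : H) ∈ MulAction.stabilizer H a := fun n => by
    constructor
    · rintro ⟨n', hn', he⟩
      have : n' = n := e0.injective he
      exact this ▸ hn'
    · exact fun hn => ⟨n, hn, rfl⟩
  have hDne : D ≠ ⊤ := by
    intro hD
    refine hN ((Subgroup.eq_bot_iff_forall N).2 fun n hn => FaithfulSMul.eq_of_smul_eq_smul fun ω : α => ?_)
    obtain ⟨g, hg⟩ := htransN.exists_smul_eq a ω
    have h1 : ∀ n : N, (n : H) • a = a := fun n => (hDmem n).1 (hD ▸ Subgroup.mem_top _)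
    have hω : ω = a := by rw [← hg]; exact h1 g
    rw [one_smul, hω]
    exact h1 ⟨n, hn⟩
  let A : Set ((Fin m → T) ≃* (Fin m → T)) := F '' (MulAction.stabilizer H a : Set H)
  have hA : ∀ f ∈ A, ∀ x, x ∈ D ↔ f x ∈ D := by
    rintro f ⟨k, hk, rfl⟩ x
    rw [hF, hDmem, show x ∈ D ↔ e0 (e0.symm x) ∈ D by rw [MulEquiv.apply_symm_apply], hDmem,
      MulAut.conjNormal_apply]
    exact ⟨fun h => mul_mem (mul_mem hk h) (inv_mem hk), fun h => by
      have h2 := mul_mem (mul_mem (inv_mem hk) h) hk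
      simpa [mul_assoc] using h2⟩
  have htr : ∀ i j : Fin m, ∃ f ∈ A, ∃ β : T ≃* T, ∀ x, f x j = β (x i) := by
    intro i j
    obtain ⟨t0, ht0⟩ : ∃ t : T, t ≠ 1 := exists_ne 1
    let O : Set (Fin m) := {l | ∃ (h : H) (β : T ≃* T), (∀ x, F h x l = β (x i))}
    let P : Subgroup (Fin m → T) :=
      { carrier := {x | ∀ l, l ∉ O → x l = 1}
        one_mem' := fun _ _ => rfl
        mul_mem' := fun {x y} hx hy l hl => by simp [hx l hl, hy l hl]
        inv_mem' := fun {x} hx l hl => by simp [hx l hl] }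
    have hiO : i ∈ O := ⟨1, MulEquiv.refl T, fun x => by
      rw [hF, map_one, MulAut.one_apply, MulEquiv.apply_symm_apply]; rfl⟩
    have hinv : ∀ (h : H), ∀ x ∈ P, F h x ∈ P := by
      intro h x hx l hl
      obtain ⟨u, β, hβ, -⟩ := Cfsg.Lib.Recog.ONanScott.factor_back hna (F h) l
      rw [hβ, hx u (fun ⟨g, γ, hγ⟩ => hl ⟨h * g, γ.trans β, fun y => by rw [hFmul, hβ, hγ]; rfl⟩), map_one]
    let M : Subgroup H := (P.comap e0.toMonoidHom).map N.subtype
    have hMn : M.Normal := ⟨by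
      rintro _ ⟨n, hn, rfl⟩ h
      refine ⟨MulAut.conjNormal h n, ?_, by simp [MulAut.conjNormal_apply]⟩
      show e0 (MulAut.conjNormal h n) ∈ P
      have h2 := hinv h (e0 n) hn
      rwa [hF, MulEquiv.symm_apply_apply] at h2⟩
    have hjO : j ∈ O := by
      by_contra hj
      rcases hmin M hMn (Subgroup.map_subtype_le _) with e | e
      · have hmem : ((e0.symm (Pi.mulSingle i t0) : N) : H) ∈ M :=
          ⟨_, (show e0 (e0.symm (Pi.mulSingle i t0)) ∈ P by
            rw [MulEquiv.apply_symm_apply]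
            intro l hl
            refine Pi.mulSingle_eq_of_ne ?_ _
            rintro rfl
            exact hl hiO), rfl⟩
        rw [e, Subgroup.mem_bot, OneMemClass.coe_eq_one, MulEquiv.map_eq_one_iff, Pi.mulSingle_eq_one_iff] at hmem
        exact ht0 hmem
      · obtain ⟨n, hn, hne⟩ := (e.symm ▸ (e0.symm (Pi.mulSingle j t0)).2 :
          ((e0.symm (Pi.mulSingle j t0) : N) : H) ∈ M)
        have hn' : n = e0.symm (Pi.mulSingle j t0) := Subtype.ext hne
        subst hn'
        have h3 : e0 (e0.symm (Pi.mulSingle j t0)) ∈ P := hn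
        rw [MulEquiv.apply_symm_apply] at h3
        exact ht0 (by simpa using h3 j hj)
    obtain ⟨h, β, hβ⟩ := hjO
    obtain ⟨n, hn⟩ := htransN.exists_smul_eq a (h • a)
    let k : H := (n : H)⁻¹ * h
    have hk : k ∈ MulAction.stabilizer H a := by
      show ((n : H)⁻¹ * h) • a = a
      rw [mul_smul, ← hn]
      exact inv_smul_smul (n : H) a
    refine ⟨F k, ⟨k, hk, rfl⟩, β.trans (MulAut.conj (e0 n j))⁻¹, fun x => ?_⟩
    have h1 : F h x = e0 n * F k x * (e0 n)⁻¹ := by
      rw [← hFN, ← hFmul]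
      simp [k]
    have h2 := congrFun h1 j
    rw [hβ, Pi.mul_apply, Pi.mul_apply, Pi.inv_apply] at h2
    show F k x j = (MulAut.conj (e0 n j))⁻¹ (β (x i))
    rw [h2, MulAut.conj_inv_apply]
    group
  have hmax : ∀ P : Subgroup (Fin m → T), D ≤ P → (∀ f ∈ A, ∀ x ∈ P, f x ∈ P) → P = D ∨ P = ⊤ := by
    intro P hDP hP
    let X : Subgroup H := (P.comap e0.toMonoidHom).map N.subtype
    have hXmem : ∀ n : N, (n : H) ∈ X ↔ e0 n ∈ P := fun n => by
      constructor
      · rintro ⟨n', hn', he⟩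
        exact (Subtype.ext he : n' = n) ▸ hn'
      · exact fun hn => ⟨n, hn, rfl⟩
    rcases Cfsg.Agent.S0722.result H N hN hmin a X (Subgroup.map_subtype_le _)
      (fun g hg => (hXmem ⟨g, hg.2⟩).2 (hDP ((hDmem ⟨g, hg.2⟩).2 hg.1))) (fun k hk => by
        have hstep : ∀ k ∈ MulAction.stabilizer H a, ∀ y ∈ X, k * y * k⁻¹ ∈ X := by
          rintro k hk _ ⟨n, hn, rfl⟩
          refine ⟨MulAut.conjNormal k n, ?_, by simp [MulAut.conjNormal_apply]⟩
          show e0 (MulAut.conjNormal k n) ∈ P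
          have h2 := hP (F k) ⟨k, hk, rfl⟩ (e0 n) hn
          rwa [hF, MulEquiv.symm_apply_apply] at h2
        rw [Subgroup.mem_normalizer_iff]
        exact fun y => ⟨hstep k hk y, fun hy => by
          have := hstep k⁻¹ (inv_mem hk) _ hy
          simpa [mul_assoc] using this⟩) with e | e
    · refine Or.inl (le_antisymm (fun x hx => ?_) hDP)
      have h1 := (hXmem (e0.symm x)).2 (by rwa [MulEquiv.apply_symm_apply])
      rw [e] at h1
      have h2 := (hDmem (e0.symm x)).2 h1.1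
      rwa [MulEquiv.apply_symm_apply] at h2
    · refine Or.inr (eq_top_iff.2 fun x _ => ?_)
      have h2 := (hXmem (e0.symm x)).1 (e.symm ▸ (e0.symm x).2)
      rwa [MulEquiv.apply_symm_apply] at h2
  rcases Cfsg.Lib.Recog.ONanScott.box_or_diagonal hna D hDne A hA htr hmax with ⟨K, hK, hmem⟩ | ⟨k, c, e, hk, hsize, hmem⟩
  · exact ⟨T, instT, m, e0, hT, hnaT, hm, Or.inl ⟨K, hK, fun n => (hDmem n).symm.trans (hmem _)⟩⟩
  · exact ⟨T, instT, m, e0.trans e, hT, hnaT, hm, Or.inr ⟨k, c, hk, hsize, fun n => (hDmem n).symm.trans (hmem _)⟩⟩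

end Cfsg.Agent.S0723
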