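import Cfsg.Statements.S0724
import Mathlib

set_option autoImplicit false
open Cfsg

namespace Cfsg.Agent.S0724

/-- Blichfeldt's Theorem: if a finite set `L` of natural numbers contains the number of fixed points of every non-identity element of a permutation group `G` of degree `n`, then the order of `G` divides `∏ (n - l)` over `l ∈ L`. -/
theorem result {α : Type*} [Fintype α] [DecidableEq α] (G : Subgroup (Equiv.Perm α)) (L : Finset ℕ) (hL : ∀ g ∈ G, g ≠ 1 → Nat.card (MulAction.fixedBy α g) ∈ L) : Nat.card G ∣ ∏ l ∈ L, (Fintype.card α - l) := by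
  classical
  let P : Polynomial ℤ := ∏ l ∈ L, (Polynomial.X - Polynomial.C (l : ℤ))
  let fx : G → ℕ := fun g => Nat.card (MulAction.fixedBy α g)
  have hpow : ∀ j : ℕ, (Nat.card G : ℤ) ∣ ∑ g : G, (fx g : ℤ) ^ j := by
    intro j
    have h := MulAction.sum_card_fixedBy_eq_card_orbits_mul_card_group G (Fin j → α)
    have e : ∀ g : G, Fintype.card (MulAction.fixedBy (Fin j → α) g) = fx g ^ j := by
      intro g
      rw [Fintype.card_congr (show MulAction.fixedBy (Fin j → α) g ≃ (Fin j → MulAction.fixedBy α g) from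
        ⟨fun f i => ⟨f.1 i, congrFun f.2 i⟩, fun f => ⟨fun i => (f i).1, funext fun i => (f i).2⟩,
          fun f => rfl, fun f => rfl⟩)]
      rw [Fintype.card_fun, Fintype.card_fin, ← Nat.card_eq_fintype_card]
    rw [Finset.sum_congr rfl (fun g _ => e g)] at h
    have h' := congrArg (fun n : ℕ => (n : ℤ)) h
    simp only [Nat.cast_sum, Nat.cast_pow, Nat.cast_mul] at h'
    rw [h', Nat.card_eq_fintype_card]
    exact dvd_mul_left _ _
  have heval : (Nat.card G : ℤ) ∣ ∑ g : G, P.eval (fx g : ℤ) := by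
    have e : ∑ g : G, P.eval (fx g : ℤ) = ∑ j ∈ Finset.range (P.natDegree + 1), P.coeff j * ∑ g : G, (fx g : ℤ) ^ j := by
      simp_rw [Polynomial.eval_eq_sum_range, Finset.mul_sum]
      exact Finset.sum_comm
    rw [e]
    exact Finset.dvd_sum fun j _ => Dvd.dvd.mul_left (hpow j) _
  have hsum : ∑ g : G, P.eval (fx g : ℤ) = ∏ l ∈ L, ((Fintype.card α : ℤ) - l) := by
    rw [Finset.sum_eq_single (1 : G)]
    · simp [P, Polynomial.eval_prod, fx]
    · intro g _ hg
      have hmem : fx g ∈ L := hL g g.2 (by simpa using hg)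
      rw [Polynomial.eval_prod, Finset.prod_eq_zero hmem]
      simp
    · simp
  rw [hsum] at heval
  by_cases hle : ∀ l ∈ L, l ≤ Fintype.card α
  · have : ∏ l ∈ L, ((Fintype.card α : ℤ) - l) = ((∏ l ∈ L, (Fintype.card α - l) : ℕ) : ℤ) := by
      rw [Nat.cast_prod]
      exact Finset.prod_congr rfl fun l hl => (Nat.cast_sub (hle l hl)).symm
    rw [this] at heval
    exact_mod_cast heval
  · push Not at hle
    obtain ⟨l, hl, hlt⟩ := hle
    rw [Finset.prod_eq_zero hl (Nat.sub_eq_zero_of_le hlt.le)]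
    exact dvd_zero _

end Cfsg.Agent.S0724
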