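import Cfsg.Statements.S0726
import Mathlib

set_option autoImplicit false
open Cfsg

namespace Cfsg.Agent.S0726

/-- The left and right regular permutation representations of a group are each other's centralisers in the symmetric group: the centraliser of the left regular image is the right regular image, and a transitive subgroup centralising the left regular image is the whole right regular image. -/
theorem result {G : Type*} [Group G] : Subgroup.centralizer ((MulAction.toPermHom G G).range : Set (Equiv.Perm G)) = (MulAction.toPermHom Gᵐᵒᵖ G).range ∧ ∀ H : Subgroup (Equiv.Perm G), H ≤ Subgroup.centralizer ((MulAction.toPermHom G G).range : Set (Equiv.Perm G)) → MulAction.IsPretransitive H G → H = (MulAction.toPermHom Gᵐᵒᵖ G).range := by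
  have key : ∀ c ∈ Subgroup.centralizer ((MulAction.toPermHom G G).range : Set (Equiv.Perm G)), ∀ x : G, c x = x * c 1 := by
    intro c hc x
    have := congrArg (fun σ : Equiv.Perm G => σ 1) (hc _ ⟨x, rfl⟩)
    simp at this
    exact this.symm
  have hR : ∀ g : G, MulAction.toPermHom Gᵐᵒᵖ G (MulOpposite.op g) ∈ Subgroup.centralizer ((MulAction.toPermHom G G).range : Set (Equiv.Perm G)) := by
    rintro g _ ⟨x, rfl⟩
    ext y
    simp [mul_assoc]
  refine ⟨le_antisymm ?_ ?_, ?_⟩
  · intro c hc
    refine ⟨MulOpposite.op (c 1), ?_⟩
    ext x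
    simp [key c hc x]
  · rintro _ ⟨g, rfl⟩
    exact hR g.unop
  · intro H hH ht
    apply le_antisymm
    · intro c hc
      refine ⟨MulOpposite.op (c 1), ?_⟩
      ext x
      simp [key c (hH hc) x]
    · rintro _ ⟨g, rfl⟩
      obtain ⟨h, hh⟩ := ht.exists_smul_eq (1 : G) g.unop
      have hh' : (h : Equiv.Perm G) 1 = g.unop := hh
      have : MulAction.toPermHom Gᵐᵒᵖ G g = (h : Equiv.Perm G) := by
        ext x
        rw [key _ (hH h.2) x, hh']
        simp [MulOpposite.smul_eq_mul_unop]
      rw [this]; exact h.2

end Cfsg.Agent.S0726
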