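import Cfsg.Statements.S0729
import Cfsg.Agent.Lib.Perm.SharpThreeHom
-- import your own Cfsg.Agent.* helpers here

set_option autoImplicit false
open Cfsg

namespace Cfsg.Agent.S0729



/-- In a sharply triply transitive group of even degree at least 6, the two-point stabiliser `H = G_{a,b}` has a normal subgroup of index 2 that is normalised by the element `s` interchanging `a, b` and fixing a third point `c`. -/
theorem result {α : Type*} [Fintype α] [DecidableEq α] (heven : Even (Fintype.card α)) (h6 : 6 ≤ Fintype.card α) (G : Subgroup (Equiv.Perm α)) (h3 : MulAction.IsMultiplyPretransitive G α 3) (hsharp : ∀ x : Fin 3 ↪ α, MulAction.stabilizer G x = ⊥) {a b c : α} (hab : a ≠ b) (hac : a ≠ c) (hbc : b ≠ c) (s : G) (hsa : s • a = b) (hsb : s • b = a) (hsc : s • c = c) : ∃ N : Subgroup G, N ≤ MulAction.stabilizer G a ⊓ MulAction.stabilizer G b ∧ (N.subgroupOf (MulAction.stabilizer G a ⊓ MulAction.stabilizer G b)).Normal ∧ N.relIndex (MulAction.stabilizer G a ⊓ MulAction.stabilizer G b)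 = 2 ∧ ∀ n ∈ N, s * n * s⁻¹ ∈ N := by
  classical
  obtain ⟨hs2⟩ : Nonempty (s * s = 1) := ⟨Cfsg.Lib.Perm.SharpThreeHom.eq_one_of_fix_three G hsharp hab hac hbc
    (by rw [mul_smul, hsa, hsb]) (by rw [mul_smul, hsb, hsa]) (by rw [mul_smul, hsc, hsc])⟩
  obtain ⟨μ, hμ, x, hxb, hx⟩ := Cfsg.Lib.Perm.SharpThreeHom.exists_swap_invariant_hom G h3 hsharp heven
    hab hac hbc s hsa hsb hs2
  set D := MulAction.stabilizer G a ⊓ MulAction.stabilizer G b with hD
  set ν := μ.comp (Subgroup.inclusion (inf_le_left : D ≤ MulAction.stabilizer G a)) with hν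
  have hsub : (ν.ker.map D.subtype).subgroupOf D = ν.ker :=
    Subgroup.comap_map_eq_self_of_injective D.subtype_injective _
  refine ⟨ν.ker.map D.subtype, Subgroup.map_subtype_le _, by rw [hsub]; infer_instance, ?_, ?_⟩
  · rw [Subgroup.relIndex, hsub, Subgroup.index_ker]
    have hne : ν ⟨(x : G), x.2, hxb⟩ ≠ 1 := hx
    have hr : ν.range = ⊤ := by
      rw [eq_top_iff]
      intro u _
      rcases Int.units_eq_one_or u with rfl | rfl
      · exact one_mem _
      · exact ⟨⟨(x : G), x.2, hxb⟩, (Int.units_eq_one_or _).resolve_left hne⟩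
    rw [hr, Subgroup.card_top, Nat.card_eq_fintype_card, Fintype.card_units_int]
  · rintro _ ⟨⟨n, hna, hnb⟩, hn, rfl⟩
    have hsi : s⁻¹ = s := inv_eq_of_mul_eq_one_right hs2
    have ha : (s * n * s) • a = a := by rw [mul_smul, mul_smul, hsa, show n • b = b from hnb, hsb]
    have hb : (s * n * s) • b = b := by rw [mul_smul, mul_smul, hsb, show n • a = a from hna, hsa]
    refine ⟨⟨s * n * s, ha, hb⟩, ?_, by rw [hsi]; rfl⟩
    exact (hμ n hna ha hnb).trans hn

end Cfsg.Agent.S0729
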