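import Cfsg.Statements.S0732
import Cfsg.Agent.Lib.Perm.ZasAbelian.PrimeAddOne

set_option autoImplicit false
open Cfsg Cfsg.Lib.Char Cfsg.Lib.Perm.ZasAbelian

namespace Cfsg.Agent.S0732

/-- A transitive permutation group on `p + 1` points (`p` prime) of order `(p+1) p d` with `d < p` is isomorphic to `PGL(2,p)` with `d = p - 1`, or to `PSL(2,p)` with `2d = p - 1`, or else `p + 1 = 2^q` for a prime `q`, `d = 1` or `d = q`, and the group is permutation-isomorphic to a group of semi-affine maps `x ↦ a φ(x) + b` of the field with `2^q` elements. -/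
theorem result {α : Type*} [Fintype α] [DecidableEq α] {p d : ℕ} (hp : p.Prime) (hα : Fintype.card α = p + 1) (G : Subgroup (Equiv.Perm α)) [MulAction.IsPretransitive G α] (hG : Nat.card G = (p + 1) * p * d) (hd : d < p) : (d = p - 1 ∧ Nonempty (G ≃* Matrix.ProjGenLinGroup (Fin 2) (ZMod p))) ∨ (2 * d = p - 1 ∧ Nonempty (G ≃* Matrix.ProjectiveSpecialLinearGroup (Fin 2) (ZMod p))) ∨ (∃ q : ℕ, q.Prime ∧ p + 1 = 2 ^ q ∧ (d = 1 ∨ d = q) ∧ ∃ e : α ≃ GaloisField 2 q, ∀ g : G, (e.symm.trans (((g : Equiv.Perm α)).trans e)) ∈ Cfsg.semiaffineGroup (GaloisField 2 q)) := by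
  classical
  haveI := Fact.mk hp
  have hd0 : 0 < d := by
    rcases Nat.eq_zero_or_pos d with h | h
    · rw [h, mul_zero] at hG; exact absurd hG Nat.card_pos.ne'
    · exact h
  by_cases hp2 : p = 2
  · -- three points
    subst hp2
    obtain rfl : d = 1 := by omega
    refine Or.inl ⟨rfl, ?_⟩
    have htop : G = ⊤ := Subgroup.eq_top_of_card_eq G (by
      rw [hG, Nat.card_perm, Nat.card_eq_fintype_card, hα]; rfl)
    let e : OnePoint (ZMod 2) ≃ α := Fintype.equivOfCardEq (by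
      rw [show Fintype.card (OnePoint (ZMod 2)) = Fintype.card (Option (ZMod 2)) from rfl, Fintype.card_option,
        ZMod.card, hα])
    let Φ := e.permCongrHom.toMonoidHom.comp
      (MulAction.toPermHom (Matrix.ProjGenLinGroup (Fin 2) (ZMod 2)) (OnePoint (ZMod 2)))
    have hΦ : Function.Bijective Φ := by
      refine (Nat.bijective_iff_injective_and_card _).mpr
        ⟨e.permCongrHom.injective.comp pgl_toPerm_injective, ?_⟩
      rw [Cfsg.Lib.Dickson.card_PGL_two_eq, Nat.card_perm, Nat.card_eq_fintype_card, hα, ZMod.card]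
      rfl
    exact ⟨(MulEquiv.subgroupCongr htop).trans (Subgroup.topEquiv.trans (MulEquiv.ofBijective Φ hΦ).symm)⟩
  have hodd : Odd p := hp.odd_of_ne_two hp2
  obtain ⟨a⟩ : Nonempty α := Fintype.card_pos_iff.mp (by omega)
  obtain ⟨b, hba⟩ := Fintype.exists_ne_of_one_lt_card (show 1 < Fintype.card α by have := hp.two_le; omega) a
  have hab : a ≠ b := Ne.symm hba
  obtain ⟨hA, P, hPa, hPcard, hPn, hPfix⟩ := exists_cycle hp hα G hG hd a
  have hPc : Nat.card P + 1 = Fintype.card α := by omega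
  have hf : FaithfulSMul G α := ⟨fun {u v} h => Subtype.ext (Equiv.ext fun x => h x)⟩
  have h2 : MulAction.IsMultiplyPretransitive G α 2 := by
    have hmov : ∀ {y z : α}, y ≠ z → ∃ k : G, k • y = a ∧ k • z = b := by
      intro y z hyz
      obtain ⟨k, hk⟩ := MulAction.exists_smul_eq G y a
      have hz : k • z ≠ a := fun h' => hyz (MulAction.injective k (hk.trans h'.symm))
      obtain ⟨u, hu, hub⟩ := kernel_transitive hab P hPa hPc hPfix hz
      exact ⟨u⁻¹ * k, by rw [mul_smul, hk, inv_smul_eq_iff]; exact (hPa hu).symm,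
        by rw [mul_smul, inv_smul_eq_iff, hub]⟩
    rw [MulAction.is_two_pretransitive_iff]
    intro y z y' z' hyz hyz'
    obtain ⟨k, hk1, hk2⟩ := hmov hyz
    obtain ⟨k', hk1', hk2'⟩ := hmov hyz'
    exact ⟨k'⁻¹ * k, by rw [mul_smul, hk1, inv_smul_eq_iff, hk1'], by
      rw [mul_smul, hk2, inv_smul_eq_iff, hk2']⟩
  have hDcard : Nat.card ↥(MulAction.stabilizer G a ⊓ MulAction.stabilizer G b : Subgroup G) = d := by
    set A := MulAction.stabilizer G a
    have h1 := (MulAction.stabilizer A b).card_mul_index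
    rw [MulAction.index_stabilizer, hA, show MulAction.orbit A b = ({a} : Set α)ᶜ from ?_, Set.ncard_compl,
      Set.ncard_singleton, Nat.card_eq_fintype_card (α := α), hα, Nat.add_sub_cancel, mul_comm] at h1
    · rw [← Nat.eq_of_mul_eq_mul_left hp.pos h1]
      exact (Nat.card_congr ⟨fun g => ⟨(g.1 : G), g.1.2, g.2⟩, fun g => ⟨⟨g.1, g.2.1⟩, g.2.2⟩,
        fun _ => rfl, fun _ => rfl⟩).symm
    ext y
    constructor
    · rintro ⟨g, rfl⟩ (h : (g : G) • b = a)
      have hga : (g : G) • a = a := g.2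
      exact hab (MulAction.injective (g : G) (hga.trans h.symm))
    · intro hy
      obtain ⟨g, h1, h2'⟩ := MulAction.is_two_pretransitive_iff.1 h2 hab (Ne.symm hy)
      exact ⟨⟨g, h1⟩, h2'⟩
  -- only the identity fixes three points
  have h3 : ∀ g : G, ∀ u v w : α, u ≠ v → v ≠ w → u ≠ w → g • u = u → g • v = v → g • w = w → g = 1 := by
    suffices h : ∀ g : G, ∀ c : α, g • a = a → g • b = b → c ≠ a → c ≠ b → g • c = c → g = 1 by
      intro g u v w huv hvw huw h1 h2' h3'
      obtain ⟨k, hka, hkb⟩ := MulAction.is_two_pretransitive_iff.1 h2 huv hab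
      have := h (k * g * k⁻¹) (k • w)
        (by rw [← hka, mul_smul, mul_smul, inv_smul_smul, h1])
        (by rw [← hkb, mul_smul, mul_smul, inv_smul_smul, h2'])
        (fun e => huw (MulAction.injective k (hka.trans e.symm)))
        (fun e => hvw (MulAction.injective k (hkb.trans e.symm)))
        (by rw [mul_smul, mul_smul, inv_smul_smul, h3'])
      rwa [mul_inv_eq_one, mul_eq_left] at this
    intro g c hga hgb hca hcb hgc
    obtain ⟨u, hu, huc⟩ := kernel_transitive hab P hPa hPc hPfix hca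
    have hu1 : u ≠ 1 := fun e => hcb (by rw [← huc, e, one_smul])
    have hgu : g * u * g⁻¹ ∈ P := hPn.conj_mem ⟨u, hPa hu⟩ hu ⟨g, hga⟩
    have hgb' : g⁻¹ • b = b := by rw [inv_smul_eq_iff, hgb]
    have heq : g * u * g⁻¹ = u := by
      by_contra hne
      refine hba (hPfix (u⁻¹ * (g * u * g⁻¹)) (P.mul_mem (P.inv_mem hu) hgu)
        (fun e => hne (inv_mul_eq_one.mp e).symm) b ?_)
      rw [mul_smul, mul_smul, mul_smul, hgb', huc, hgc, ← huc, inv_smul_smul]
    refine hf.eq_of_smul_eq_smul fun y => ?_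
    rw [one_smul]
    by_cases hya : y = a
    · rw [hya, hga]
    obtain ⟨v, hv, rfl⟩ := kernel_transitive hab P hPa hPc hPfix hya
    have hmem : (⟨v, hv⟩ : P) ∈ Subgroup.zpowers (⟨u, hu⟩ : P) := by
      haveI : Fact (Nat.Prime (Nat.card P)) := ⟨by rw [hPcard]; exact hp⟩
      exact mem_zpowers_of_prime_card hPcard (fun e => hu1 (congrArg Subtype.val e))
    obtain ⟨k, hk⟩ := Subgroup.mem_zpowers_iff.mp hmem
    have hk' : u ^ k = v := congrArg Subtype.val hk
    have hcomm : Commute g (u ^ k) := Commute.zpow_right (mul_inv_eq_iff_eq_mul.mp heq) k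
    rw [← mul_smul, ← hk', hcomm.eq, mul_smul, hgb]
  by_cases hreg : ∃ R : Subgroup G, R.Normal ∧ MulAction.IsPretransitive R α ∧
      ∀ c : α, ∀ r ∈ R, r • c = c → r = 1
  · obtain ⟨R, hRn, hRt, hRs⟩ := hreg
    exact Or.inr (Or.inr (semiaffine_of_regular hp hp2 hα G a hA P hPa hPcard hPn hPfix h2 R hRt hRs))
  have hd1 : d ≠ 1 := by
    rintro rfl
    haveI := h2
    have hsharp : ∀ x : Fin 2 ↪ α, MulAction.stabilizer G x = ⊥ := by
      intro x
      rw [Subgroup.eq_bot_iff_forall]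
      intro g hg
      have h : ∀ i, g • x i = x i := fun i => DFunLike.congr_fun (MulAction.mem_stabilizer_iff.mp hg) i
      obtain ⟨k, hka, hkb⟩ := MulAction.is_two_pretransitive_iff.1 h2
        (x.injective.ne (show (0 : Fin 2) ≠ 1 by decide)) hab
      have hmem : k * g * k⁻¹ ∈ (MulAction.stabilizer G a ⊓ MulAction.stabilizer G b : Subgroup G) :=
        ⟨show (k * g * k⁻¹) • a = a by rw [← hka, mul_smul, mul_smul, inv_smul_smul, h 0],
         show (k * g * k⁻¹) • b = b by rw [← hkb, mul_smul, mul_smul, inv_smul_smul, h 1]⟩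
      rw [Subgroup.eq_bot_of_card_eq _ hDcard, Subgroup.mem_bot, mul_inv_eq_one, mul_eq_left] at hmem
      exact hmem
    obtain ⟨_, _, -, -, -, T, hTn, -, -, -, -, hTt, hTs, -⟩ :=
      Cfsg.Agent.Perm.sharpTwo_kernel G hsharp (by omega)
    exact hreg ⟨T, hTn, hTt, fun c r hr hrc =>
      congrArg Subtype.val ((Subgroup.eq_bot_iff_forall _).mp (hTs c) ⟨r, hr⟩ hrc)⟩
  have hZ : IsZassenhausGroup G α := by
    refine ⟨hf, h2, h3, ?_, fun R hRn hRt => ?_⟩
    · obtain ⟨g, hg⟩ := (Subgroup.bot_or_exists_ne_one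
        (MulAction.stabilizer G a ⊓ MulAction.stabilizer G b : Subgroup G)).resolve_left fun e => by
          rw [e, Subgroup.card_bot] at hDcard; omega
      exact ⟨g, hg.2, a, b, hab, hg.1.1, hg.1.2⟩
    · by_contra hh
      push Not at hh
      exact hreg ⟨R, hRn, hRt, fun c r hr hrc =>
        congrArg Subtype.val ((Subgroup.eq_bot_iff_forall _).mp (hh c) ⟨r, hr⟩ hrc)⟩
  have hPreg : ∀ y z : α, y ≠ a → z ≠ a → ∃! u : P, (u : G) • y = z := by
    intro y z hy hz
    obtain ⟨v, hv, hvz⟩ := kernel_transitive (Ne.symm hy) P hPa hPc hPfix hz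
    refine ⟨⟨v, hv⟩, hvz, fun w hw => Subtype.ext ?_⟩
    by_contra hne
    exact hy (hPfix (v⁻¹ * (w : G)) (P.mul_mem (P.inv_mem hv) w.2)
      (fun e => hne (inv_mul_eq_one.mp e).symm) y (by rw [mul_smul, hw, ← hvz, inv_smul_smul]))
  haveI : IsCyclic P := isCyclic_of_prime_card hPcard
  have hPcomm : ∀ u ∈ P, ∀ v ∈ P, u * v = v * u := fun u hu v hv => by
    letI : CommGroup P := IsCyclic.commGroup
    exact congrArg Subtype.val (mul_comm (⟨u, hu⟩ : P) ⟨v, hv⟩)
  have hle : Fintype.card α - 2 ≤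
      2 * Nat.card ↥(MulAction.stabilizer G a ⊓ MulAction.stabilizer G b : Subgroup G) := by
    rcases Nat.even_or_odd (Nat.card ↥(MulAction.stabilizer G a ⊓ MulAction.stabilizer G b : Subgroup G)) with h | h
    · exact Cfsg.Agent.S0741.result hZ hab h
    · exact (bound hZ hab P hPa hPc hPfix hPcomm h).1
  rcases two_orbits hZ hab hle with h | htr
  · obtain ⟨p', f, K, iK, iF, -, -, hKc, hcard, -, ⟨hiso⟩⟩ :=
      psl_of_two_orbits hZ hab P hPa hPc hPfix hPn hPreg h
    refine Or.inr (Or.inl ⟨by omega, ⟨hiso.trans (Cfsg.Lib.Dickson.pslEquiv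
      (ZMod.ringEquivOfPrime K hp (by omega)).symm)⟩⟩)
  · obtain ⟨c, -, hc⟩ := Finset.exists_mem_notMem_of_card_lt_card (s := ({a, b} : Finset α)) (t := Finset.univ)
      (by rw [Finset.card_pair hab, Finset.card_univ]; have := hp.two_le; omega)
    obtain ⟨hca, hcb⟩ : c ≠ a ∧ c ≠ b := ⟨fun e => hc (by simp [e]), fun e => hc (by simp [e])⟩
    have hstd : ∀ s : Fin 3 ↪ α, ∃ g : G, g • s 0 = a ∧ g • s 1 = b ∧ g • s 2 = c := by
      intro s
      obtain ⟨k, hk0, hk1⟩ := MulAction.is_two_pretransitive_iff.1 h2 (s.injective.ne (show (0 : Fin 3) ≠ 1 by decide)) hab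
      obtain ⟨m, hm0, hm1, hm2⟩ := htr (k • s 2) c
        (fun e => s.injective.ne (show (2 : Fin 3) ≠ 0 by decide) (MulAction.injective k (e.trans hk0.symm)))
        (fun e => s.injective.ne (show (2 : Fin 3) ≠ 1 by decide) (MulAction.injective k (e.trans hk1.symm)))
        hca hcb
      exact ⟨m * k, by rw [mul_smul, hk0, hm0], by rw [mul_smul, hk1, hm1], by rw [mul_smul, hm2]⟩
    have h3t : MulAction.IsMultiplyPretransitive G α 3 := by
      refine ⟨fun s t => ?_⟩
      obtain ⟨g, hg0, hg1, hg2⟩ := hstd s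
      obtain ⟨k, hk0, hk1, hk2⟩ := hstd t
      refine ⟨k⁻¹ * g, DFunLike.ext _ _ fun i => ?_⟩
      fin_cases i
      · show (k⁻¹ * g) • s 0 = t 0
        rw [mul_smul, inv_smul_eq_iff, hg0, hk0]
      · show (k⁻¹ * g) • s 1 = t 1
        rw [mul_smul, inv_smul_eq_iff, hg1, hk1]
      · show (k⁻¹ * g) • s 2 = t 2
        rw [mul_smul, inv_smul_eq_iff, hg2, hk2]
    have hsharp : ∀ t : Fin 3 ↪ α, MulAction.stabilizer G t = ⊥ := fun t =>
      (Subgroup.eq_bot_iff_forall _).mpr fun g hg => by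
        have h : ∀ i, g • t i = t i := fun i => DFunLike.congr_fun (MulAction.mem_stabilizer_iff.mp hg) i
        exact h3 g (t 0) (t 1) (t 2) (t.injective.ne (by decide)) (t.injective.ne (by decide))
          (t.injective.ne (by decide)) (h 0) (h 1) (h 2)
    obtain ⟨K, iK, iF, hKc, ⟨hiso⟩⟩ := pgl_of_sharp hf hp hp2 odd_one (by rw [pow_one]; exact hα) h3t hsharp
    refine Or.inl ⟨?_, ⟨hiso.trans (Cfsg.Lib.Dickson.pglEquiv
      (ZMod.ringEquivOfPrime K hp (by rw [hKc, pow_one])).symm)⟩⟩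
    have hPGL := Nat.card_congr hiso.toEquiv
    rw [Cfsg.Lib.Dickson.card_PGL_two_eq, hKc, pow_one, hG,
      show p ^ 2 - 1 = (p + 1) * (p - 1) by rw [← Nat.sq_sub_sq, one_pow]] at hPGL
    have : (p + 1) * p * d = (p + 1) * p * (p - 1) := hPGL.trans (by ring)
    exact Nat.eq_of_mul_eq_mul_left (Nat.mul_pos (by omega) hp.pos) this

end Cfsg.Agent.S0732
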