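import Cfsg.Statements.S0733
import Mathlib

set_option autoImplicit false
open Cfsg
open scoped Pointwise

namespace Cfsg.Agent.S0733

/-- A permutation group of affine type — generated by the translations of a finite vector space `V` over `ZMod p` together with a group `G₀` of linear automorphisms — is primitive on `V` if and only if `G₀` is irreducible on `V`. -/
theorem result {p : ℕ} [Fact p.Prime] {V : Type*} [AddCommGroup V] [Module (ZMod p) V] [Finite V] [Nontrivial V] (G₀ : Subgroup (V ≃ₗ[ZMod p] V)) (G : Subgroup (Equiv.Perm V)) (hG : ∀ σ : Equiv.Perm V, σ ∈ G ↔ ∃ g ∈ G₀, ∃ b : V, ∀ x : V, σ x = (g : V ≃ₗ[ZMod p] V) x + b) : MulAction.IsPreprimitive G V ↔ ∀ W : Submodule (ZMod p) V, (∀ g ∈ G₀, ∀ v ∈ W, (g : V ≃ₗ[ZMod p] V) v ∈ W) → W = ⊥ ∨ W = ⊤ := by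
  have hmem : ∀ g ∈ G₀, ∀ b : V, ∃ σ ∈ G, ∀ x : V, σ x = g x + b := fun g hg b =>
    ⟨(g.toEquiv).trans (Equiv.addRight b), (hG _).2 ⟨g, hg, b, fun x => rfl⟩, fun x => rfl⟩
  haveI : MulAction.IsPretransitive G V := by
    constructor
    intro x y
    obtain ⟨σ, hσ, hσx⟩ := hmem 1 G₀.one_mem (y - x)
    refine ⟨⟨σ, hσ⟩, ?_⟩
    show σ x = y
    rw [hσx]; simp
  constructor
  · intro hP W hW
    have hB : MulAction.IsBlock G (W : Set V) := by
      rw [MulAction.isBlock_iff_smul_eq_of_nonempty]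
      rintro ⟨σ, hσ⟩ ⟨_, ⟨v, hv, rfl⟩, hv'⟩
      obtain ⟨g, hg, b, hb⟩ := (hG σ).1 hσ
      have hv'' : g v + b ∈ W := by rw [← hb]; exact hv'
      have hbW : b ∈ W := by simpa using W.sub_mem hv'' (hW g hg v hv)
      ext z
      constructor
      · rintro ⟨w, hw, rfl⟩
        show σ w ∈ W
        rw [hb]; exact W.add_mem (hW g hg w hw) hbW
      · intro hz
        refine ⟨g.symm (z - b), hW g⁻¹ (G₀.inv_mem hg) _ (W.sub_mem hz hbW), ?_⟩
        show σ _ = z
        rw [hb]; simp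
    rcases hB.subsingleton_or_eq_univ with h | h
    · left
      rw [Submodule.eq_bot_iff]
      exact fun v hv => h hv W.zero_mem
    · right
      exact SetLike.coe_injective (by rw [h]; rfl)
  · intro hW
    refine MulAction.IsPreprimitive.of_isTrivialBlock_base (0 : V) (fun {B} h0 hB => ?_)
    have trans_mem : ∀ b ∈ B, ∀ x ∈ B, x + b ∈ B := by
      intro b hb x hx
      obtain ⟨σ, hσ, hσx⟩ := hmem 1 G₀.one_mem b
      have e : (⟨σ, hσ⟩ : G) • B = B := hB.smul_eq_of_nonempty ⟨b, ⟨0, h0, by show σ 0 = b; rw [hσx]; simp⟩, hb⟩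
      rw [← e]
      exact ⟨x, hx, by show σ x = x + b; rw [hσx]; simp⟩
    let S : AddSubmonoid V := { carrier := B, zero_mem' := h0, add_mem' := fun {x y} hx hy => trans_mem y hy x hx }
    let W : Submodule (ZMod p) V :=
      { S with
        smul_mem' := fun c x hx => by
          show c • x ∈ S
          rw [← ZMod.natCast_zmod_val c, Nat.cast_smul_eq_nsmul]
          exact S.nsmul_mem hx _ }
    have hWinv : ∀ g ∈ G₀, ∀ v ∈ W, g v ∈ W := by
      intro g hg v hv
      obtain ⟨σ, hσ, hσx⟩ := hmem g hg 0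
      have e : (⟨σ, hσ⟩ : G) • B = B := hB.smul_eq_of_nonempty ⟨0, ⟨0, h0, by show σ 0 = 0; rw [hσx]; simp⟩, h0⟩
      show g v ∈ B
      rw [← e]
      exact ⟨v, hv, by show σ v = g v; rw [hσx]; simp⟩
    rcases hW W hWinv with h | h
    · left
      intro x hx y hy
      have hx' : x ∈ W := hx
      have hy' : y ∈ W := hy
      rw [h, Submodule.mem_bot] at hx' hy'
      rw [hx', hy']
    · right
      exact Set.eq_univ_of_forall fun x => (h.symm ▸ Submodule.mem_top : x ∈ W)

end Cfsg.Agent.S0733
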