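import Cfsg.Statements.S0734
import Mathlib

set_option autoImplicit false
open Cfsg

namespace Cfsg.Agent.S0734

/-- Higman's criterion for primitivity: a transitive action on a finite set is primitive if and only if every non-trivial orbital graph (edges = images of a fixed pair of distinct points) is connected. -/
theorem result {G : Type*} [Group G] {Ω : Type*} [Finite Ω] [MulAction G Ω] [MulAction.IsPretransitive G Ω] [Nontrivial Ω] : MulAction.IsPreprimitive G Ω ↔ ∀ a b : Ω, a ≠ b → (SimpleGraph.fromRel fun x y : Ω => ∃ g : G, g • a = x ∧ g • b = y).Connected := by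
  constructor
  · intro hP a b hab
    set Γ := SimpleGraph.fromRel fun x y : Ω => ∃ g : G, g • a = x ∧ g • b = y with hΓ
    have hadj : ∀ (g : G) (x y : Ω), Γ.Adj x y → Γ.Adj (g • x) (g • y) := by
      intro g x y h
      rw [hΓ, SimpleGraph.fromRel_adj] at h ⊢
      refine ⟨fun e => h.1 (MulAction.injective g e), ?_⟩
      rcases h.2 with ⟨k, h1, h2⟩ | ⟨k, h1, h2⟩
      · exact Or.inl ⟨g * k, by rw [mul_smul, h1], by rw [mul_smul, h2]⟩
      · exact Or.inr ⟨g * k, by rw [mul_smul, h1], by rw [mul_smul, h2]⟩
    let F : G → (Γ →g Γ) := fun g => ⟨fun x => g • x, fun {x y} h => hadj g x y h⟩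
    have hreach : ∀ (g : G) (x y : Ω), Γ.Reachable x y → Γ.Reachable (g • x) (g • y) :=
      fun g x y h => h.map (F g)
    have hB : MulAction.IsBlock G {x : Ω | Γ.Reachable a x} := by
      rw [MulAction.isBlock_iff_smul_eq_of_nonempty]
      rintro g ⟨_, ⟨y, hy, rfl⟩, hgy⟩
      have hga : Γ.Reachable a (g • a) := SimpleGraph.Reachable.trans hgy (hreach g a y hy).symm
      ext z
      rw [Set.mem_smul_set_iff_inv_smul_mem]
      constructor
      · intro h
        have := hreach g a (g⁻¹ • z) h
        rw [smul_inv_smul] at this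
        exact hga.trans this
      · intro h
        show Γ.Reachable a (g⁻¹ • z)
        have := hreach g⁻¹ (g • a) z (hga.symm.trans h)
        rwa [inv_smul_smul] at this
    have hedge : Γ.Adj a b := by
      rw [hΓ, SimpleGraph.fromRel_adj]
      exact ⟨hab, Or.inl ⟨1, one_smul _ _, one_smul _ _⟩⟩
    rcases hB.subsingleton_or_eq_univ with h | h
    · have ma : a ∈ {x : Ω | Γ.Reachable a x} := SimpleGraph.Reachable.refl a
      have mb : b ∈ {x : Ω | Γ.Reachable a x} := hedge.reachable
      exact absurd (h ma mb) hab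
    · haveI : Nonempty Ω := ⟨a⟩
      refine SimpleGraph.Connected.mk fun x y => ?_
      exact (show Γ.Reachable a x from Set.eq_univ_iff_forall.1 h x).symm.trans
        (Set.eq_univ_iff_forall.1 h y)
  · intro h
    refine ⟨fun {B} hB => ?_⟩
    by_cases hs : B.Subsingleton
    · exact Or.inl hs
    right
    rw [Set.not_subsingleton_iff] at hs
    obtain ⟨a, ha, b, hb, hab⟩ := hs
    have key : ∀ x y : Ω, (SimpleGraph.fromRel fun x y : Ω => ∃ g : G, g • a = x ∧ g • b = y).Adj x y → x ∈ B → y ∈ B := by
      intro x y hxy hx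
      rw [SimpleGraph.fromRel_adj] at hxy
      rcases hxy.2 with ⟨g, rfl, rfl⟩ | ⟨g, rfl, rfl⟩
      · have := hB.smul_eq_of_nonempty (g := g) ⟨g • a, Set.smul_mem_smul_set ha, hx⟩
        rw [← this]; exact Set.smul_mem_smul_set hb
      · have := hB.smul_eq_of_nonempty (g := g) ⟨g • b, Set.smul_mem_smul_set hb, hx⟩
        rw [← this]; exact Set.smul_mem_smul_set ha
    refine Set.eq_univ_of_forall fun z => ?_
    obtain ⟨w⟩ := (h a b hab).preconnected a z
    clear hb hab
    revert ha
    have gen : ∀ {x y : Ω}, (SimpleGraph.fromRel fun x y : Ω => ∃ g : G, g • a = x ∧ g • b = y).Walk x y → x ∈ B → y ∈ B := by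
      intro x y w
      induction w with
      | nil => exact id
      | cons hadj _ ih => exact fun hx => ih (key _ _ hadj hx)
    exact fun ha => gen w ha

end Cfsg.Agent.S0734
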