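import Cfsg.Statements.S0743
import Mathlib
import Cfsg.Agent.Lib.Perm.Step

set_option autoImplicit false
open Cfsg

namespace Cfsg.Agent.S0743

/-- Gleason's Lemma: let `p` be a prime and `1 ≤ k < n`; if every `k`-subset of the `n` points is exactly the fixed-point set of some `p`-subgroup of `G`, then `G` is `k`-transitive. -/
theorem result {α : Type*} [Fintype α] [DecidableEq α] (G : Subgroup (Equiv.Perm α)) {p k : ℕ} (hp : p.Prime) (hk : 1 ≤ k) (hkn : k < Fintype.card α) (h : ∀ s : Finset α, s.card = k → ∃ P : Subgroup G, IsPGroup p P ∧ MulAction.fixedPoints P α = (s : Set α)) : MulAction.IsMultiplyPretransitive G α k := by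
  classical
  apply Cfsg.Agent.Perm.isMultiplyPretransitive_of_step
  intro u hu x y hx hy
  by_cases hxy : x = y
  · exact ⟨1, fun z _ => one_smul _ z, by rw [one_smul, hxy]⟩
  haveI : Fact p.Prime := ⟨hp⟩
  obtain ⟨w, hw1, hw2, hwc⟩ := Finset.exists_subsuperset_card_eq (s := u)
    (t := ((Finset.univ : Finset α).erase x).erase y) (n := k - 1) (fun z hz => by
      simp only [Finset.mem_erase, Finset.mem_univ, and_true]
      exact ⟨fun h => hy (h ▸ hz), fun h => hx (h ▸ hz)⟩) (by omega)
    (by rw [Finset.card_erase_of_mem (by simp [Ne.symm hxy]), Finset.card_erase_of_mem (Finset.mem_univ _), Finset.card_univ]; omega)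
  have hxw : x ∉ w := fun h => by have := hw2 h; simp at this
  have hyw : y ∉ w := fun h => by have := hw2 h; simp at this
  by_contra hcon
  set Δ : Finset α := (MulAction.orbit (fixingSubgroup G (u : Set α)) x).toFinset
  have hmod : ∀ s : Finset α, s.card = k → u ⊆ s → Δ.card ≡ (Δ.filter fun z => z ∈ s).card [MOD p] := by
    intro s hs hus
    obtain ⟨P, hP, hfix⟩ := h s hs
    have hPu : P ≤ fixingSubgroup G (u : Set α) := by
      intro g hg
      rw [mem_fixingSubgroup_iff]
      intro z hz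
      have : z ∈ MulAction.fixedPoints P α := hfix ▸ hus hz
      exact this ⟨g, hg⟩
    letI : MulAction P Δ :=
      { smul := fun g z => ⟨(g : G) • z.1, by
          obtain ⟨f, hf⟩ := Set.mem_toFinset.1 z.2
          exact Set.mem_toFinset.2 ⟨⟨g, hPu g.2⟩ * f, by rw [← hf]; exact mul_smul _ f x⟩⟩
        one_smul := fun z => Subtype.ext (one_smul G z.1)
        mul_smul := fun g h z => Subtype.ext (mul_smul (g : G) (h : G) z.1) }
    have := hP.card_modEq_card_fixedPoints Δ
    rw [Nat.card_eq_fintype_card, Fintype.card_coe] at this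
    suffices e : Nat.card (MulAction.fixedPoints P Δ) = (Δ.filter fun z => z ∈ s).card by rwa [e] at this
    rw [← Fintype.card_coe, Nat.card_eq_fintype_card]
    refine Fintype.card_congr ⟨fun z => ⟨z.1.1, Finset.mem_filter.2 ⟨z.1.2, ?_⟩⟩,
      fun z => ⟨⟨z.1, (Finset.mem_filter.1 z.2).1⟩, fun g => Subtype.ext ?_⟩, fun z => rfl, fun z => rfl⟩
    · have : z.1.1 ∈ MulAction.fixedPoints P α := fun g => congrArg Subtype.val (z.2 g)
      rw [hfix] at this; exact this
    · exact (hfix.symm ▸ (Finset.mem_filter.1 z.2).2 : z.1 ∈ MulAction.fixedPoints P α) g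
  have hxΔ : x ∈ Δ := Set.mem_toFinset.2 (MulAction.mem_orbit_self x)
  have hyΔ : y ∉ Δ := by
    intro hyD
    obtain ⟨g, hg⟩ := Set.mem_toFinset.1 hyD
    exact hcon ⟨g.1, fun z hz => (mem_fixingSubgroup_iff G).1 g.2 z hz, hg⟩
  have h1 := hmod (insert x w) (by rw [Finset.card_insert_of_notMem hxw, hwc]; omega) (fun z hz => Finset.mem_insert_of_mem (hw1 hz))
  have h2 := hmod (insert y w) (by rw [Finset.card_insert_of_notMem hyw, hwc]; omega) (fun z hz => Finset.mem_insert_of_mem (hw1 hz))
  have e2 : (Δ.filter fun z => z ∈ insert y w) = Δ.filter fun z => z ∈ w := by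
    refine Finset.filter_congr fun z hz => ?_
    simp [show z ≠ y from fun h => hyΔ (h ▸ hz)]
  have e1 : (Δ.filter fun z => z ∈ insert x w) = insert x (Δ.filter fun z => z ∈ w) := by
    ext z
    simp only [Finset.mem_filter, Finset.mem_insert]
    constructor
    · rintro ⟨hz, h | h⟩
      · exact Or.inl h
      · exact Or.inr ⟨hz, h⟩
    · rintro (rfl | ⟨hz, h⟩)
      · exact ⟨hxΔ, Or.inl rfl⟩
      · exact ⟨hz, Or.inr h⟩
  rw [e2] at h2
  rw [e1, Finset.card_insert_of_notMem (by simp [hxw])] at h1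
  have h3 : 0 ≡ 1 [MOD p] := Nat.ModEq.add_left_cancel' (Δ.filter fun z => z ∈ w).card
    (by simpa using h2.symm.trans h1)
  rw [Nat.ModEq, Nat.zero_mod, Nat.one_mod_eq_one.2 hp.one_lt.ne'] at h3
  exact zero_ne_one h3

end Cfsg.Agent.S0743
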