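import Cfsg.Statements.S0744
import Mathlib
import Cfsg.Agent.Lib.Perm.Step

set_option autoImplicit false
open Cfsg

namespace Cfsg.Agent.S0744

/-- If for some `k > 1` the pointwise stabilisers of all `(k-1)`-subsets have the same order `> 1` and those of all `k`-subsets have the same order, then the group is `(k-1)`-transitive. -/
theorem result {α : Type*} [Fintype α] [DecidableEq α] (G : Subgroup (Equiv.Perm α)) {k : ℕ} (hk : 1 < k) (hkn : k ≤ Fintype.card α) (l m : ℕ) (hl : 1 < l) (hkm1 : ∀ s : Finset α, s.card = k - 1 → Nat.card (fixingSubgroup G (s : Set α)) = l) (hkm : ∀ s : Finset α, s.card = k → Nat.card (fixingSubgroup G (s : Set α)) = m) : MulAction.IsMultiplyPretransitive G α (k - 1) := by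
  classical
  have horb : ∀ s : Finset α, s.card = k - 1 → ∀ a, a ∉ s →
      Nat.card (MulAction.orbit (fixingSubgroup G (s : Set α)) a) * m = l := by
    intro s hs a ha
    have h1 := hkm1 s hs
    have h2 := hkm (insert a s) (by rw [Finset.card_insert_of_notMem ha, hs]; omega)
    have hst : Nat.card (MulAction.stabilizer (fixingSubgroup G (s : Set α)) a) = m := by
      rw [← h2]
      refine Nat.card_congr ⟨fun g => ⟨g.1.1, ?_⟩, fun g => ⟨⟨g.1, ?_⟩, ?_⟩, fun g => rfl, fun g => rfl⟩
      · rw [mem_fixingSubgroup_iff]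
        intro y hy
        rw [Finset.coe_insert] at hy
        rcases hy with rfl | hy
        · exact g.2
        · exact (mem_fixingSubgroup_iff G).1 g.1.2 y hy
      · rw [mem_fixingSubgroup_iff]
        intro y hy
        exact (mem_fixingSubgroup_iff G).1 g.2 y (by rw [Finset.coe_insert]; exact Set.mem_insert_of_mem _ hy)
      · exact (mem_fixingSubgroup_iff G).1 g.2 a (by rw [Finset.coe_insert]; exact Set.mem_insert _ _)
    have := Subgroup.card_mul_index (MulAction.stabilizer (fixingSubgroup G (s : Set α)) a)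
    rw [hst, h1, MulAction.index_stabilizer] at this
    rw [Nat.card_coe_set_eq, mul_comm, this]
  obtain ⟨s₀, hs₀⟩ : ∃ s : Finset α, s.card = k - 1 := by
    obtain ⟨s, -, hs⟩ := Finset.exists_subset_card_eq (s := (Finset.univ : Finset α)) (n := k - 1) (by simp; omega)
    exact ⟨s, hs⟩
  have hmpos : 0 < m := by
    obtain ⟨a, ha⟩ : ∃ a, a ∉ s₀ := by
      by_contra hcon; push Not at hcon
      have := Finset.card_le_card (show (Finset.univ : Finset α) ⊆ s₀ from fun x _ => hcon x)
      simp at this; omega
    rcases Nat.eq_zero_or_pos m with h | h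
    · have := horb s₀ hs₀ a ha; rw [h, mul_zero] at this; omega
    · exact h
  set r := l / m with hrdef
  have hr : ∀ s : Finset α, s.card = k - 1 → ∀ a, a ∉ s →
      Nat.card (MulAction.orbit (fixingSubgroup G (s : Set α)) a) = r := by
    intro s hs a ha
    rw [hrdef, ← horb s hs a ha, Nat.mul_div_cancel _ hmpos]
  have hr2 : r ≠ 1 := by
    intro h1
    have : fixingSubgroup G (s₀ : Set α) = ⊥ := by
      rw [Subgroup.eq_bot_iff_forall]
      intro g hg
      apply Subtype.ext
      ext y
      by_cases hy : y ∈ s₀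
      · exact (mem_fixingSubgroup_iff G).1 hg y hy
      · have := hr s₀ hs₀ y hy
        rw [h1, Nat.card_eq_one_iff_unique] at this
        haveI := this.1
        exact congrArg Subtype.val (Subsingleton.elim (⟨g • y, MulAction.mem_orbit y (⟨g, hg⟩ : fixingSubgroup G (s₀ : Set α))⟩ : MulAction.orbit (fixingSubgroup G (s₀ : Set α)) y) ⟨y, MulAction.mem_orbit_self y⟩)
    have hh := hkm1 s₀ hs₀
    rw [this, Subgroup.card_bot] at hh
    omega
  apply Cfsg.Agent.Perm.isMultiplyPretransitive_of_step
  intro u hu x y hx hy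
  by_cases hxy : x = y
  · exact ⟨1, fun z _ => one_smul _ z, by rw [one_smul, hxy]⟩
  obtain ⟨u', hu1, hu2, hu'card⟩ := Finset.exists_subsuperset_card_eq (s := u) (t := ((Finset.univ : Finset α).erase x).erase y)
    (n := k - 2) (fun z hz => by
      simp only [Finset.mem_erase, Finset.mem_univ, and_true]
      exact ⟨fun h => hy (h ▸ hz), fun h => hx (h ▸ hz)⟩) (by omega)
    (by rw [Finset.card_erase_of_mem (by simp [Ne.symm hxy]), Finset.card_erase_of_mem (Finset.mem_univ _), Finset.card_univ]; omega)
  have hxu : x ∉ u' := fun h => by have := hu2 h; simp at this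
  have hyu : y ∉ u' := fun h => by have := hu2 h; simp at this
  set F := fixingSubgroup G (u' : Set α)
  suffices y ∈ MulAction.orbit F x by
    obtain ⟨g, hg⟩ := this
    exact ⟨g.1, fun z hz => (mem_fixingSubgroup_iff G).1 g.2 z (hu1 hz), hg⟩
  by_contra hcon
  let O : Finset α := (MulAction.orbit F x).toFinset
  have hOu : ∀ z ∈ O, z ∉ u' := by
    intro z hz hzu
    rw [Set.mem_toFinset] at hz
    obtain ⟨g, hg⟩ := hz
    have h1 : (g : G) • z = z := (mem_fixingSubgroup_iff G).1 g.2 z hzu
    exact hxu (by rw [show x = z from MulAction.injective (g : G) ((show (g : G) • x = z from hg).trans h1.symm)]; exact hzu)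
  have part : ∀ c, c ∉ u' → r ∣ (O.erase c).card := by
    intro c hc
    set s := insert c u'
    have hs : s.card = k - 1 := by rw [Finset.card_insert_of_notMem hc, hu'card]; omega
    set K := fixingSubgroup G (s : Set α)
    have hKF : K ≤ F := fixingSubgroup_antitone G α (Finset.coe_subset.2 (Finset.subset_insert c u'))
    let p : α → MulAction.orbitRel.Quotient K α := fun z => Quotient.mk _ z
    rw [Finset.card_eq_sum_card_image p (O.erase c)]
    refine Finset.dvd_sum fun q hq => ?_
    obtain ⟨z, hz, rfl⟩ := Finset.mem_image.1 hq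
    rw [Finset.mem_erase] at hz
    have hzs : z ∉ s := by simp [s, hz.1, hOu z hz.2]
    rw [← hr s hs z hzs]
    apply dvd_of_eq
    rw [Nat.card_eq_card_toFinset]
    congr 1
    ext w
    simp only [Set.mem_toFinset, Finset.mem_filter, Finset.mem_erase]
    constructor
    · rintro ⟨g, rfl⟩
      refine ⟨⟨?_, ?_⟩, Quotient.sound ⟨g, rfl⟩⟩
      · intro h
        have h1 : (g : G) • c = c := (mem_fixingSubgroup_iff G).1 g.2 c (by simp [s])
        exact hz.1 (MulAction.injective (g : G) ((show (g : G) • z = c from h).trans h1.symm))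
      · have := Set.mem_toFinset.1 hz.2
        obtain ⟨f, hf⟩ := this
        simp only [O, Set.mem_toFinset]
        exact ⟨⟨g, hKF g.2⟩ * f, by rw [← hf]; exact mul_smul _ f x⟩
    · rintro ⟨-, h⟩
      exact Quotient.exact h
  have h1 := part x hxu
  have h2 := part y hyu
  rw [Finset.card_erase_of_mem (by simp [O])] at h1
  rw [Finset.erase_eq_of_notMem (by simpa [O] using hcon)] at h2
  have hOpos : 0 < O.card := Finset.card_pos.2 ⟨x, by simp [O]⟩
  apply hr2
  have := Nat.dvd_sub h2 h1
  rw [show O.card - (O.card - 1) = 1 by omega] at this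
  exact Nat.dvd_one.1 this

end Cfsg.Agent.S0744
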