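import Cfsg.Statements.S0755
import Cfsg.Agent.Lib.Linear.HermStandard

set_option autoImplicit false
open Cfsg

namespace Cfsg.Agent.S0755

open Module in
theorem aux {F V : Type*} [Field F] [Fintype F] [AddCommGroup V] [Module F V] [FiniteDimensional F V]
    {σ : F →+* F} (hσ : σ ≠ RingHom.id F) (hσ2 : ∀ a, σ (σ a) = a) (B : V →ₛₗ[σ] V →ₗ[F] F)
    (hS : B.IsSymm) :
    ∀ (d : ℕ) (W : Submodule F V), finrank F ↥W = d → (∀ w ∈ W, (∀ x ∈ W, B x w = 0) → w = 0) →
      ∃ v : Fin d → V, (∀ i, v i ∈ W) ∧ ∀ i j, B (v i) (v j) = if i = j then 1 else 0 := by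
  classical
  intro d
  induction d with
  | zero => exact fun _ _ _ => ⟨Fin.elim0, fun i => i.elim0, fun i => i.elim0⟩
  | succ d ih =>
    intro W hd hnd
    obtain ⟨a, ha, haa⟩ : ∃ a ∈ W, B a a ≠ 0 := by
      by_contra hc
      push_neg at hc
      have hW : W ≠ ⊥ := fun h => by rw [h, finrank_bot] at hd; omega
      obtain ⟨w, hw, hw0⟩ := Submodule.exists_mem_ne_zero_of_ne_bot hW
      apply hw0
      refine hnd w hw fun x hx => ?_
      obtain ⟨c, hcc⟩ : ∃ c : F, σ c ≠ c := by
        by_contra hcon; push_neg at hcon; exact hσ (RingHom.ext hcon)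
      have h1 := hc (c • x + w) (W.add_mem (W.smul_mem _ hx) hw)
      have h2 := hc (x + w) (W.add_mem hx hw)
      simp only [map_add, LinearMap.map_smulₛₗ, LinearMap.add_apply, LinearMap.smul_apply, smul_eq_mul,
        RingHom.id_apply, hc x hx, hc w hw, mul_zero, zero_add, add_zero] at h1 h2
      have h3 : (σ c - c) * B x w = 0 := by linear_combination h1 - c * h2
      exact (mul_eq_zero.1 h3).resolve_left (sub_ne_zero.2 hcc)
    obtain ⟨q, hF, hσq⟩ := Cfsg.Lib.Linear.Herm.exists_eq_frob hσ hσ2
    have hfix : ((B a a)⁻¹) ^ q = (B a a)⁻¹ := by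
      rw [← hσq, map_inv₀, hS.eq a a]
    obtain ⟨x, hx⟩ := Cfsg.Lib.Linear.Herm.exists_norm_eq hF (inv_ne_zero haa) hfix
    set e := (x : F) • a
    have hee : B e e = 1 := by
      simp only [e, LinearMap.map_smulₛₗ, LinearMap.smul_apply, smul_eq_mul, RingHom.id_apply, hσq]
      have : (x : F) ^ q * (x : F) = (B a a)⁻¹ := by rw [← pow_succ]; exact hx
      calc _ = ((x : F) ^ q * (x : F)) * B a a := by ring
        _ = 1 := by rw [this, inv_mul_cancel₀ haa]
    have heW : e ∈ W := W.smul_mem _ ha
    set W' : Submodule F V := W ⊓ LinearMap.ker (B e)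
    have hdec : ∀ w ∈ W, w - B e w • e ∈ W' := fun w hw =>
      ⟨W.sub_mem hw (W.smul_mem _ heW), by simp [hee]⟩
    have hW' : finrank F ↥W' = d := by
      have he' : e ∉ W' := fun h => by
        have h2 : B e e = 0 := h.2
        rw [hee] at h2; exact one_ne_zero h2
      have hsup : W' ⊔ Submodule.span F {e} = W :=
        le_antisymm (sup_le inf_le_left ((Submodule.span_singleton_le_iff_mem _ _).2 heW)) fun w hw =>
          Submodule.mem_sup.2 ⟨_, hdec w hw, _, Submodule.smul_mem _ _ (Submodule.mem_span_singleton_self e),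
            sub_add_cancel _ _⟩
      have h3 := Submodule.finrank_sup_span_singleton (K := F) he'
      rw [hsup, hd] at h3
      omega
    obtain ⟨v, hv, hvv⟩ := ih W' hW' fun w hw h => hnd w hw.1 fun y hy => by
      have h2 := h _ (hdec y hy)
      simpa [LinearMap.map_smulₛₗ, show B e w = 0 from hw.2] using h2
    refine ⟨Fin.cons e v, fun i => ?_, fun i j => ?_⟩
    · induction i using Fin.cases with
      | zero => simpa using heW
      | succ i => simpa using (hv i).1
    · have h0 : ∀ i, B e (v i) = 0 ∧ B (v i) e = 0 := fun i =>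
        ⟨(hv i).2, hS.isRefl _ _ (hv i).2⟩
      induction i using Fin.cases <;> induction j using Fin.cases <;>
        simp [hee, hvv, h0, Fin.succ_ne_zero, (Fin.succ_ne_zero _).symm]

/-- Classification of Hermitian forms over finite fields: if σ is a non-identity involutive automorphism of the finite field F and B is a non-degenerate conjugate-symmetric σ-sesquilinear form on the finite-dimensional space V, then V has a B-orthonormal basis. -/
theorem result {F V : Type*} [Field F] [Finite F] [AddCommGroup V] [Module F V] [FiniteDimensional F V] (σ : F →+* F) (hσ : σ ≠ RingHom.id F) (hσ2 : ∀ a : F, σ (σ a) = a) (B : V →ₛₗ[σ] V →ₗ[F] F) (hS : B.IsSymm) (hB : B.Nondegenerate) : ∃ b : Module.Basis (Fin (Module.finrank F V)) F V, ∀ i j, B (b i) (b j) = if i = j then 1 else 0 := by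
  classical
  haveI := Fintype.ofFinite F
  obtain ⟨v, -, hv⟩ := aux hσ hσ2 B hS (Module.finrank F V) ⊤ (by rw [finrank_top])
    (fun w _ h => hB.2 w fun x => h x Submodule.mem_top)
  have hli : LinearIndependent F v := by
    rw [Fintype.linearIndependent_iff]
    intro c hc i
    have h := congrArg (B (v i)) hc
    simpa [hv] using h
  refine ⟨basisOfLinearIndependentOfCardEqFinrank' v hli (by simp), fun i j => ?_⟩
  simpa using hv i j

end Cfsg.Agent.S0755
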