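import Cfsg.Statements.S0757
import Mathlib

set_option autoImplicit false
open Cfsg

namespace Cfsg.Agent.S0757

/-- The two diagonal forms Σ x_i^2 and Σ_(i<n) x_i^2 + α x_n^2 on F^(n+1), with α a non-square and 2 ≠ 0 in F, are inequivalent quadratic forms (so over a finite field of odd order there are exactly two classes of non-singular symmetric bilinear forms in each dimension). -/
theorem result {F : Type*} [Field F] (h2 : (2 : F) ≠ 0) (n : ℕ) (α : F) (hα : ¬ IsSquare α) : ¬ (QuadraticMap.weightedSumSquares F (fun _ : Fin (n + 1) => (1 : F))).Equivalent (QuadraticMap.weightedSumSquares F (fun i : Fin (n + 1) => if i = Fin.last n then α else (1 : F))) := by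
  rintro ⟨e⟩
  classical
  set w : Fin (n + 1) → F := fun i => if i = Fin.last n then α else 1 with hw
  set M := LinearMap.toMatrix' e.toLinearEquiv.toLinearMap
  have he : ∀ x, QuadraticMap.weightedSumSquares F w (M.mulVec x) =
      QuadraticMap.weightedSumSquares F (fun _ : Fin (n + 1) => (1 : F)) x := fun x => by
    rw [LinearMap.toMatrix'_mulVec]
    exact e.map_app x
  have hB : ∀ x y, ∑ i, w i * (M.mulVec x i * M.mulVec y i) = ∑ i, x i * y i := fun x y => by
    have h := he (x + y)
    rw [Matrix.mulVec_add] at h
    have hx := he x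
    have hy := he y
    simp only [QuadraticMap.weightedSumSquares_apply, smul_eq_mul, one_mul, Pi.add_apply,
      mul_add, add_mul, Finset.sum_add_distrib] at h hx hy
    refine mul_left_cancel₀ h2 ?_
    have e1 : ∀ f g : Fin (n + 1) → F, ∑ i, w i * (f i * g i) = ∑ i, w i * (g i * f i) :=
      fun f g => Finset.sum_congr rfl fun i _ => by ring
    rw [e1 (M.mulVec y) (M.mulVec x),
      Finset.sum_congr rfl (fun i _ => mul_comm (y i) (x i))] at h
    linear_combination h - hx - hy
  have hmat : M.transpose * Matrix.diagonal w * M = 1 := by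
    ext i j
    have h := hB (Pi.single i 1) (Pi.single j 1)
    simp only [Matrix.mulVec_single_one, Matrix.col_apply] at h
    rw [Matrix.mul_apply]
    simp only [Matrix.mul_diagonal, Matrix.transpose_apply]
    rw [Finset.sum_congr rfl (g := fun k => w k * (M k i * M k j)) (fun k _ => by ring), h]
    simp [Matrix.one_apply, Pi.single_apply, eq_comm]
  have hdet := congrArg Matrix.det hmat
  rw [Matrix.det_mul, Matrix.det_mul, Matrix.det_transpose, Matrix.det_diagonal, Matrix.det_one,
    Finset.prod_eq_single (Fin.last n) (fun i _ hi => by simp [hw, hi])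
      (fun h => absurd (Finset.mem_univ _) h), hw] at hdet
  simp only [if_pos] at hdet
  refine hα ⟨(M.det)⁻¹, ?_⟩
  have hd : M.det ≠ 0 := fun h => by rw [h, zero_mul, zero_mul] at hdet; exact zero_ne_one hdet
  field_simp
  linear_combination hdet

end Cfsg.Agent.S0757
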