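import Cfsg.Statements.S0758
import Mathlib

set_option autoImplicit false
open Cfsg

namespace Cfsg.Agent.S0758

/-- For a finite field F of odd order q and a non-square α: the form x² + y² is isotropic iff q ≡ 1 mod 4, and the form x² + α y² is isotropic iff q ≡ 3 mod 4. -/
theorem result {F : Type*} [Field F] [Fintype F] (h2 : (2 : F) ≠ 0) (α : F) (hα : ¬ IsSquare α) : ((∃ x y : F, (x ≠ 0 ∨ y ≠ 0) ∧ x ^ 2 + y ^ 2 = 0) ↔ Fintype.card F % 4 = 1) ∧ ((∃ x y : F, (x ≠ 0 ∨ y ≠ 0) ∧ x ^ 2 + α * y ^ 2 = 0) ↔ Fintype.card F % 4 = 3) := by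
  have hodd : Fintype.card F % 2 = 1 := FiniteField.odd_card_of_char_ne_two fun h => h2 (by
    haveI := ringChar.charP F
    have := CharP.cast_eq_zero F (ringChar F)
    rw [h] at this
    exact_mod_cast this)
  have hα0 : α ≠ 0 := fun h => hα (h ▸ ⟨0, (mul_zero 0).symm⟩)
  have key : ∀ c : F, c ≠ 0 →
      ((∃ x y : F, (x ≠ 0 ∨ y ≠ 0) ∧ x ^ 2 + c * y ^ 2 = 0) ↔ IsSquare (-c)) := by
    intro c hc
    constructor
    · rintro ⟨x, y, hxy, h⟩
      have hy : y ≠ 0 := fun hy => by
        rw [hy] at h hxy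
        simp at h hxy
        exact hxy h
      exact ⟨x / y, by field_simp; linear_combination -h⟩
    · rintro ⟨r, hr⟩
      exact ⟨r, 1, Or.inr one_ne_zero, by linear_combination -hr⟩
  have h1 : IsSquare (-1 : F) ↔ Fintype.card F % 4 = 1 := by
    rw [FiniteField.isSquare_neg_one_iff]; omega
  have hmul : IsSquare (-α) ↔ ¬ IsSquare (-1 : F) := by
    constructor
    · intro ha h
      obtain ⟨r, hr⟩ := ha
      obtain ⟨s, hs⟩ := h
      have hs0 : s ≠ 0 := fun h0 => by simp [h0] at hs
      exact hα ⟨r / s, by field_simp; linear_combination hr - α * hs⟩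
    · intro h
      classical
      have hchar : ringChar F ≠ 2 := fun h' => h2 (by
        haveI := ringChar.charP F
        have := CharP.cast_eq_zero F (ringChar F)
        rw [h'] at this
        exact_mod_cast this)
      rw [← quadraticChar_one_iff_isSquare (neg_ne_zero.mpr hα0), neg_eq_neg_one_mul, map_mul,
        quadraticChar_neg_one_iff_not_isSquare.mpr h, quadraticChar_neg_one_iff_not_isSquare.mpr hα]
      norm_num
  constructor
  · have := key 1 one_ne_zero
    simp only [one_mul] at this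
    rw [this, h1]
  · rw [key α hα0, hmul, h1]
    omega

end Cfsg.Agent.S0758
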