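import Cfsg.Statements.S0760
import Mathlib

set_option autoImplicit false
open Cfsg

namespace Cfsg.Agent.S0760

/-- Witt index is well defined: if Q is a quadratic form on a finite-dimensional space V over a finite field with non-degenerate polar form, and W₁, W₂ are subspaces on which Q vanishes that are maximal with this property, then W₁ and W₂ have the same dimension, and twice this dimension is at most dim V. -/
theorem result {F V : Type*} [Field F] [Finite F] [AddCommGroup V] [Module F V] [FiniteDimensional F V] (Q : QuadraticForm F V) (hQ : (QuadraticMap.polarBilin Q).Nondegenerate) (W₁ W₂ : Submodule F V) (h₁ : ∀ w ∈ W₁, Q w = 0) (h₂ : ∀ w ∈ W₂, Q w = 0) (hmax₁ : ∀ W : Submodule F V, W₁ ≤ W → (∀ w ∈ W, Q w = 0) → W = W₁) (hmax₂ : ∀ W : Submodule F V, W₂ ≤ W → (∀ w ∈ W, Q w = 0) → W = W₂) : Module.finrank F W₁ = Module.finrank F W₂ ∧ 2 * Module.finrank F W₁ ≤ Module.finrank F V := by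
  have key : ∀ (A B : Submodule F V), (∀ w ∈ A, Q w = 0) → (∀ w ∈ B, Q w = 0) →
      (∀ W : Submodule F V, A ≤ W → (∀ w ∈ W, Q w = 0) → W = A) →
      Module.finrank F B ≤ Module.finrank F A := by
    intro A B hA hB hmax
    have hpol : ∀ (U : Submodule F V), (∀ w ∈ U, Q w = 0) → ∀ x ∈ U, ∀ y ∈ U,
        QuadraticMap.polarBilin Q x y = 0 := fun U hU x hx y hy => by
      rw [QuadraticMap.polarBilin_apply_apply, QuadraticMap.polar, hU _ (U.add_mem hx hy),
        hU x hx, hU y hy, sub_zero, sub_zero]
    by_contra hlt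
    push Not at hlt
    let Φ : B →ₗ[F] Module.Dual F A :=
      ((QuadraticMap.polarBilin Q).compl₁₂ B.subtype A.subtype)
    have hker : LinearMap.ker Φ ≤ (A ⊓ B).comap B.subtype := by
      intro v hv
      rw [Submodule.mem_comap, Submodule.mem_inf]
      refine ⟨?_, v.2⟩
      by_contra hvA
      have hv0 : ∀ a ∈ A, QuadraticMap.polarBilin Q (v : V) a = 0 := fun a ha =>
        LinearMap.congr_fun (LinearMap.mem_ker.mp hv) ⟨a, ha⟩
      have := hmax (A ⊔ Submodule.span F {(v : V)}) le_sup_left fun w hw => by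
        obtain ⟨a, ha, b, hb, rfl⟩ := Submodule.mem_sup.mp hw
        obtain ⟨c, rfl⟩ := Submodule.mem_span_singleton.mp hb
        have h1 := hv0 a ha
        rw [QuadraticMap.polarBilin_apply_apply, QuadraticMap.polar_comm] at h1
        rw [QuadraticMap.map_add Q, QuadraticMap.map_smul, hA a ha, hB _ v.2,
          QuadraticMap.polar_smul_right, h1]
        simp
      exact hvA (this ▸ Submodule.mem_sup_right (Submodule.mem_span_singleton_self _))
    have hrange : LinearMap.range Φ ≤ ((A ⊓ B).comap A.subtype).dualAnnihilator := by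
      rintro _ ⟨b, rfl⟩
      rw [Submodule.mem_dualAnnihilator]
      intro a ha
      exact hpol B hB _ b.2 _ (Submodule.mem_inf.mp ha).2
    have h1 := LinearMap.finrank_range_add_finrank_ker Φ
    have h2 := Submodule.finrank_mono hrange
    have h3 := Subspace.finrank_add_finrank_dualAnnihilator_eq ((A ⊓ B).comap A.subtype)
    have h4 := (Submodule.finrank_mono hker)
    rw [(Submodule.comapSubtypeEquivOfLe (inf_le_right : A ⊓ B ≤ B)).finrank_eq] at h4
    rw [(Submodule.comapSubtypeEquivOfLe (inf_le_left : A ⊓ B ≤ A)).finrank_eq] at h3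
    omega
  refine ⟨le_antisymm (key _ _ h₂ h₁ hmax₂) (key _ _ h₁ h₂ hmax₁), ?_⟩
  let Φ : W₁ →ₗ[F] Module.Dual F V := (QuadraticMap.polarBilin Q).domRestrict W₁
  have hinj : Function.Injective Φ := by
    rw [injective_iff_map_eq_zero]
    exact fun a ha => Subtype.ext (hQ.1 _ fun u => LinearMap.congr_fun ha u)
  have hle : LinearMap.range Φ ≤ W₁.dualAnnihilator := by
    rintro _ ⟨a, rfl⟩
    rw [Submodule.mem_dualAnnihilator]
    intro x hx
    show QuadraticMap.polarBilin Q (a : V) x = 0
    rw [QuadraticMap.polarBilin_apply_apply, QuadraticMap.polar, h₁ _ (W₁.add_mem a.2 hx),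
      h₁ _ a.2, h₁ x hx, sub_zero, sub_zero]
  have h3 := Submodule.finrank_mono hle
  rw [LinearMap.finrank_range_of_inj hinj] at h3
  have h4 := Subspace.finrank_add_finrank_dualAnnihilator_eq W₁
  omega

end Cfsg.Agent.S0760
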