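import Cfsg.Statements.S0761


set_option autoImplicit false
open Cfsg

namespace Cfsg.Agent.S0761

/-- Hyperbolic partners: let B be a non-degenerate bilinear form on a finite-dimensional space, either alternating, or symmetric with 2 ≠ 0. If Z is a subspace on which B vanishes, x ∉ Z is isotropic and orthogonal to Z, then there is an isotropic y with B x y = 1 which is orthogonal to Z. -/
theorem result {F V : Type*} [Field F] [AddCommGroup V] [Module F V] [FiniteDimensional F V] (B : LinearMap.BilinForm F V) (hB : B.Nondegenerate) (hform : B.IsAlt ∨ (B.IsSymm ∧ (2 : F) ≠ 0)) (x : V) (Z : Submodule F V) (hxZ : x ∉ Z) (hx : B x x = 0) (hxz : ∀ z ∈ Z, B x z = 0) (hZ : ∀ z ∈ Z, ∀ z' ∈ Z, B z z' = 0) : ∃ y : V, B y y = 0 ∧ B x y = 1 ∧ ∀ z ∈ Z, B z y = 0 := by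
  have href : B.IsRefl := hform.elim (fun h => h.isRefl) (fun h => h.1.isRefl)
  obtain ⟨u, hu, hxu⟩ : ∃ u ∈ B.orthogonal Z, B x u ≠ 0 := by
    by_contra hne
    push_neg at hne
    apply hxZ
    rw [← LinearMap.BilinForm.orthogonal_orthogonal hB href Z]
    exact fun w hw => href _ _ (hne w hw)
  have hsc : B x ((B x u)⁻¹ • u) = 1 := by simp [hxu]
  set w := (B x u)⁻¹ • u
  have hw : ∀ z ∈ Z, B z w = 0 := fun z hz => by simp [w, show B z u = 0 from hu z hz]
  rcases hform with hA | ⟨hS, h2⟩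
  · exact ⟨w, hA.self_eq_zero w, hsc, hw⟩
  · refine ⟨w - (B w w / 2) • x, ?_, by simp [hsc, hx], fun z hz => ?_⟩
    · have hwx : B w x = 1 := by rw [← hsc]; exact hS.eq w x
      simp [hx, hsc, hwx]
      field_simp
      ring
    · simp [hw z hz, href _ _ (hxz z hz)]

end Cfsg.Agent.S0761
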