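import Cfsg.Statements.S0763
import Mathlib

set_option autoImplicit false
open Cfsg

namespace Cfsg.Agent.S0763

/-- Binary quadratic forms in characteristic two over a finite field: if Q is a quadratic form on a 2-dimensional space whose polar form is non-degenerate, then either there are vectors v, w with Q v = Q w = 0 and polar value 1 (Q is xy in these coordinates), or there are v, w and μ with Q v = 1, Q w = μ, polar value 1 and x² + x + μ without roots in F (Q is x² + xy + μy²). -/
theorem result {F V : Type*} [Field F] [Finite F] [CharP F 2] [AddCommGroup V] [Module F V] (Q : QuadraticForm F V) (h2 : Module.finrank F V = 2) (hQ : (QuadraticMap.polarBilin Q).Nondegenerate) : (∃ v w : V, LinearIndependent F ![v, w] ∧ Q v = 0 ∧ Q w = 0 ∧ QuadraticMap.polar Q v w = 1) ∨ (∃ (v w : V) (μ : F), LinearIndependent F ![v, w] ∧ (∀ x : F, x ^ 2 + x + μ ≠ 0) ∧ Q v = 1 ∧ Q w = μ ∧ QuadraticMap.polar Q v w = 1) := by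
  have h20 : (2 : F) = 0 := CharTwo.two_eq_zero
  haveI : FiniteDimensional F V := Module.finite_of_finrank_eq_succ h2
  have hadd : ∀ x y, Q (x + y) = Q x + Q y + QuadraticMap.polar Q x y := fun x y =>
    QuadraticMap.map_add Q x y
  have hself : ∀ x, QuadraticMap.polar Q x x = 0 := fun x => by
    rw [QuadraticMap.polar_self, two_smul, ← two_mul, h20, zero_mul]
  have hpair : ∀ v : V, v ≠ 0 → ∃ w, QuadraticMap.polar Q v w = 1 := fun v hv => by
    obtain ⟨w, hw⟩ : ∃ w, QuadraticMap.polar Q v w ≠ 0 := by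
      by_contra h
      push Not at h
      exact hv (hQ.1 v fun w => h w)
    exact ⟨(QuadraticMap.polar Q v w)⁻¹ • w, by
      rw [QuadraticMap.polar_smul_right, smul_eq_mul, inv_mul_cancel₀ hw]⟩
  have hli : ∀ v w : V, v ≠ 0 → QuadraticMap.polar Q v w = 1 → LinearIndependent F ![v, w] :=
    fun v w hv h => (LinearIndependent.pair_iff' hv).mpr fun a e => by
      rw [← e, QuadraticMap.polar_smul_right, hself, smul_zero] at h
      exact zero_ne_one h
  by_cases hs : ∃ v : V, v ≠ 0 ∧ Q v = 0
  · obtain ⟨v, hv, hQv⟩ := hs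
    obtain ⟨w, hw⟩ := hpair v hv
    have hw' : QuadraticMap.polar Q v (w + Q w • v) = 1 := by
      rw [QuadraticMap.polar_add_right, QuadraticMap.polar_smul_right, hw, hself, smul_zero,
        add_zero]
    refine Or.inl ⟨v, w + Q w • v, hli v _ hv hw', hQv, ?_, hw'⟩
    rw [hadd, QuadraticMap.map_smul, hQv, smul_zero, QuadraticMap.polar_smul_right,
      QuadraticMap.polar_comm, hw, smul_eq_mul, mul_one, add_zero, ← two_mul, h20, zero_mul]
  push Not at hs
  obtain ⟨v0, hv0⟩ : ∃ v0 : V, v0 ≠ 0 := by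
    have : Nontrivial V := Module.nontrivial_of_finrank_eq_succ h2
    exact exists_ne 0
  have := Fintype.ofFinite F
  obtain ⟨r, hr⟩ := FiniteField.isSquare_of_char_two (ringChar.eq F 2) (Q v0)
  have hr0 : r ≠ 0 := fun h => hs v0 hv0 (by rw [hr, h, mul_zero])
  set v := r⁻¹ • v0
  have hv : v ≠ 0 := smul_ne_zero (inv_ne_zero hr0) hv0
  have hQv : Q v = 1 := by
    rw [QuadraticMap.map_smul, hr, smul_eq_mul]; field_simp
  obtain ⟨w, hw⟩ := hpair v hv
  refine Or.inr ⟨v, w, Q w, hli v w hv hw, fun x hx => ?_, hQv, rfl, hw⟩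
  have hne : x • v + w ≠ 0 := fun h => by
    rw [eq_neg_of_add_eq_zero_right h, QuadraticMap.polar_neg_right,
      QuadraticMap.polar_smul_right, hself, smul_zero, neg_zero] at hw
    exact zero_ne_one hw
  refine hs _ hne ?_
  rw [hadd, QuadraticMap.map_smul, hQv, QuadraticMap.polar_smul_left, hw, smul_eq_mul, smul_eq_mul]
  linear_combination hx

end Cfsg.Agent.S0763
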