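import Cfsg.Statements.S0767
import Cfsg.Agent.Lib.Linear.SymplecticGroup
open scoped Matrix

set_option autoImplicit false
open Cfsg

namespace Cfsg.Agent.S0767

/-- The root group of a point: T_v(c) T_v(d) = T_v(c + d), and for A in the symplectic group with A v = a v, the conjugate A T_v(c) A⁻¹ is again some T_v(d). -/
theorem result {F : Type*} [Field F] (m : ℕ) (v : Fin m ⊕ Fin m → F) : (∀ c d : F, Cfsg.sympTransvection m v c * Cfsg.sympTransvection m v d = Cfsg.sympTransvection m v (c + d)) ∧ ∀ (A : Matrix (Fin m ⊕ Fin m) (Fin m ⊕ Fin m) F) (a : F), A ∈ Matrix.symplecticGroup (Fin m) F → A.mulVec v = a • v → ∀ c : F, ∃ d : F, A * Cfsg.sympTransvection m v c * A⁻¹ = Cfsg.sympTransvection m v d := by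
  refine ⟨fun c d => ?_, fun A a hA hAv c => ⟨a ^ 2 * c, ?_⟩⟩
  · refine Matrix.ext_of_mulVec_single fun i => ?_
    rw [← Matrix.mulVec_mulVec, Cfsg.Lib.Linear.Symp.sympTransvection_mulVec,
      Cfsg.Lib.Linear.Symp.sympTransvection_mulVec, Cfsg.Lib.Linear.Symp.sympTransvection_mulVec,
      Cfsg.Lib.Linear.Symp.tvMap_comp (Cfsg.Lib.Linear.Symp.spB_isAlt m F), add_comm c d]
  · let As : Matrix.symplecticGroup (Fin m) F := ⟨A, hA⟩
    have h0 : A⁻¹ = ((As⁻¹ : Matrix.symplecticGroup (Fin m) F) : Matrix _ _ F) := (SymplecticGroup.coe_inv' As).symm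
    have hinv : A * A⁻¹ = 1 := by
      rw [h0]
      exact congrArg Subtype.val (mul_inv_cancel As)
    refine Matrix.ext_of_mulVec_single fun i => ?_
    rw [← Matrix.mulVec_mulVec, ← Matrix.mulVec_mulVec, Cfsg.Lib.Linear.Symp.sympTransvection_mulVec,
      Cfsg.Lib.Linear.Symp.sympTransvection_mulVec, Matrix.mulVec_add, Matrix.mulVec_smul, hAv,
      Matrix.mulVec_mulVec, hinv, Matrix.one_mulVec, smul_smul]
    congr 2
    have h1 := (Cfsg.Lib.Linear.Symp.mem_symplecticGroup_iff A).1 hA (A⁻¹ *ᵥ Pi.single i 1) v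
    rw [Matrix.mulVec_mulVec, hinv, Matrix.one_mulVec, hAv, map_smul, smul_eq_mul] at h1
    rw [← h1]
    ring

end Cfsg.Agent.S0767
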