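import Cfsg.Statements.S0768
import Cfsg.Agent.Lib.Linear.SymplecticGroup
open scoped LinearAlgebra.Projectivization Matrix

set_option autoImplicit false
open scoped LinearAlgebra.Projectivization
open Cfsg

namespace Cfsg.Agent.S0768

/-- Primitivity: for m ≥ 1 and F finite, the symplectic group of the form sympForm (as a subgroup of the general linear group) acts primitively on the projective space of F^(2m). -/
theorem result {F : Type*} [Field F] [Finite F] (m : ℕ) (hm : 1 ≤ m) : MulAction.IsPreprimitive ↥(Cfsg.spGL m F) (ℙ F (Fin m ⊕ Fin m → F)) := by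
  haveI := Cfsg.Lib.Linear.Symp.isPreprimitive (B := Cfsg.Lib.Linear.Symp.spB m F)
    (Cfsg.Lib.Linear.Symp.spB_nondegenerate m F) (Cfsg.Lib.Linear.Symp.spB_isAlt m F)
  let φ : ↥(Cfsg.Lib.Linear.Symp.iso (Cfsg.Lib.Linear.Symp.spB m F)) → ↥(Cfsg.spGL m F) := fun g =>
    ⟨Matrix.GeneralLinearGroup.toLin.symm (LinearMap.GeneralLinearGroup.ofLinearEquiv g.1), fun u v => by
      have hmv : ∀ w, (Matrix.GeneralLinearGroup.toLin.symm (LinearMap.GeneralLinearGroup.ofLinearEquiv g.1) : Matrix _ _ F) *ᵥ w = g.1 w :=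
        fun w => by
          show LinearMap.toMatrix' _ *ᵥ w = _
          rw [← Matrix.toLin'_apply, Matrix.toLin'_toMatrix']; rfl
      show Cfsg.sympForm m F (_ *ᵥ u) (_ *ᵥ v) = Cfsg.sympForm m F u v
      simp only [Units.coeHom_apply]
      rw [hmv, hmv, ← Cfsg.Lib.Linear.Symp.spB_apply, ← Cfsg.Lib.Linear.Symp.spB_apply]
      exact g.2 u v⟩
  let f : ℙ F (Fin m ⊕ Fin m → F) →ₑ[φ] ℙ F (Fin m ⊕ Fin m → F) :=
    { toFun := id
      map_smul' := fun g p => by
        show g • p = φ g • p
        induction p using Projectivization.ind with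
        | h v hv =>
          rw [Cfsg.Lib.Linear.Symp.smul_mk' g hv]
          refine Eq.trans ?_ (Projectivization.smul_mk (G := ↥(Cfsg.spGL m F)) (φ g) hv).symm
          refine (Projectivization.mk_eq_mk_iff' F _ _ _ _).2 ⟨1, ?_⟩
          rw [one_smul]
          show LinearMap.toMatrix' _ *ᵥ v = _
          rw [← Matrix.toLin'_apply, Matrix.toLin'_toMatrix']; rfl }
  exact MulAction.IsPreprimitive.of_surjective (f := f) Function.surjective_id

end Cfsg.Agent.S0768
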