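import Cfsg.Statements.S0769
import Mathlib

set_option autoImplicit false
open Cfsg

namespace Cfsg.Agent.S0769

theorem card_pairs (n : ℕ) : Nat.card {p : Fin n × Fin n // p.2 < p.1} = n * (n - 1) / 2 := by
  let e : {p : Fin n × Fin n // p.2 < p.1} ≃ Σ i : Fin n, Fin i.1 :=
    { toFun := fun p => ⟨p.1.1, ⟨p.1.2.1, p.2⟩⟩
      invFun := fun x => ⟨(x.1, ⟨x.2.1, x.2.2.trans x.1.2⟩), x.2.2⟩
      left_inv := fun p => rfl
      right_inv := fun x => rfl }
  rw [Nat.card_congr e, Nat.card_sigma]
  simp [Fin.sum_univ_eq_sum_range (fun i => i), Finset.sum_range_id]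

/-- Order of the Borel subgroup of GL_n(q): the invertible lower-triangular n × n matrices over a field with q elements number q^(n(n-1)/2) (q-1)^n (unitriangular part times the diagonal torus). -/
theorem result {F : Type*} [Field F] [Fintype F] {q : ℕ} (hF : Fintype.card F = q) (n : ℕ) : Nat.card {g : Matrix.GeneralLinearGroup (Fin n) F // ∀ i j : Fin n, i < j → (g : Matrix (Fin n) (Fin n) F) i j = 0} = q ^ (n * (n - 1) / 2) * (q - 1) ^ n := by
  classical
  have hdiag : ∀ g : Matrix.GeneralLinearGroup (Fin n) F, (∀ i j : Fin n, i < j → g.val i j = 0) → ∀ i, g.val i i ≠ 0 := by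
    intro g hg i
    have := g.det.ne_zero
    rw [Matrix.GeneralLinearGroup.val_det_apply, Matrix.det_of_lowerTriangular g.val (fun a b hab => hg a b hab)] at this
    exact Finset.prod_ne_zero_iff.1 this i (Finset.mem_univ i)
  let M : (Fin n → Fˣ) × ({p : Fin n × Fin n // p.2 < p.1} → F) → Matrix (Fin n) (Fin n) F := fun x i j =>
    if h : j < i then x.2 ⟨(i, j), h⟩ else if i = j then (x.1 i : F) else 0
  have hM : ∀ x, ∀ i j : Fin n, i < j → M x i j = 0 := fun x i j h => by simp [M, h.ne, not_lt.2 h.le]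
  have hMdet : ∀ x, (M x).det ≠ 0 := fun x => by
    rw [Matrix.det_of_lowerTriangular (M x) (fun a b hab => hM x a b hab)]
    simp [M, Finset.prod_ne_zero_iff]
  let eq : {g : Matrix.GeneralLinearGroup (Fin n) F // ∀ i j : Fin n, i < j → (g : Matrix (Fin n) (Fin n) F) i j = 0} ≃
      (Fin n → Fˣ) × ({p : Fin n × Fin n // p.2 < p.1} → F) :=
    { toFun := fun g => (fun i => Units.mk0 _ (hdiag g.1 g.2 i), fun p => (g.1 : Matrix (Fin n) (Fin n) F) p.1.1 p.1.2)
      invFun := fun x => ⟨Matrix.GeneralLinearGroup.mkOfDetNeZero (M x) (hMdet x), hM x⟩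
      left_inv := fun g => Subtype.ext (Units.ext (by
        show M _ = _
        ext i j
        rcases lt_trichotomy j i with h | rfl | h
        · simp [M, h]
        · simp [M]
        · simp [M, h.ne, not_lt.2 h.le, g.2 i j h]))
      right_inv := fun x => Prod.ext (funext fun i => Units.ext (show M x i i = x.1 i by simp [M]))
        (funext fun p => show M x p.1.1 p.1.2 = x.2 p by simp [M, p.2]) }
  rw [Nat.card_congr eq, Nat.card_prod, Nat.card_fun, Nat.card_fun, card_pairs, Nat.card_fin, Nat.card_eq_fintype_card (α := F),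
    Nat.card_eq_fintype_card (α := Fˣ), Fintype.card_units, hF, mul_comm]

end Cfsg.Agent.S0769
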