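import Cfsg.Statements.S0770
import Mathlib
open scoped Matrix

set_option autoImplicit false
open Cfsg

namespace Cfsg.Agent.S0770

theorem conj_diag {F : Type*} [Field F] {n : ℕ} (g : GL (Fin n) F) (d d' : Fin n → Fˣ) :
    g * Units.map (Matrix.diagonalRingHom (Fin n) F).toMonoidHom (MulEquiv.piUnits.symm d) =
      Units.map (Matrix.diagonalRingHom (Fin n) F).toMonoidHom (MulEquiv.piUnits.symm d') * g ↔
    ∀ i j, g.val i j * (d j : F) = (d' i : F) * g.val i j := by
  rw [Units.ext_iff, Units.val_mul, Units.val_mul, ← Matrix.ext_iff]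
  refine forall₂_congr fun i j => ?_
  show (g.val * Matrix.diagonal (fun k => (d k : F))) i j = (Matrix.diagonal (fun k => (d' k : F)) * g.val) i j ↔ _
  rw [Matrix.mul_diagonal, Matrix.diagonal_mul]

theorem mem_range {F : Type*} [Field F] {n : ℕ} {x : GL (Fin n) F} :
    x ∈ (Units.map (Matrix.diagonalRingHom (Fin n) F).toMonoidHom).range ↔
      ∃ d : Fin n → Fˣ, x = Units.map (Matrix.diagonalRingHom (Fin n) F).toMonoidHom (MulEquiv.piUnits.symm d) := by
  constructor
  · rintro ⟨u, rfl⟩
    exact ⟨MulEquiv.piUnits u, by rw [MulEquiv.symm_apply_apply]⟩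
  · rintro ⟨d, rfl⟩
    exact ⟨_, rfl⟩

/-- For a field with at least 3 elements, an invertible matrix normalises the subgroup of invertible diagonal matrices of GL_n if and only if it is monomial (exactly one non-zero entry in each row). -/
theorem result {F : Type*} [Field F] (hF : ∃ a : F, a ≠ 0 ∧ a ≠ 1) (n : ℕ) (g : Matrix.GeneralLinearGroup (Fin n) F) : g ∈ Subgroup.normalizer ((Units.map (Matrix.diagonalRingHom (Fin n) F).toMonoidHom).range : Subgroup (Matrix.GeneralLinearGroup (Fin n) F)) ↔ ∀ i : Fin n, ∃! j : Fin n, (g : Matrix (Fin n) (Fin n) F) i j ≠ 0 := by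
  classical
  obtain ⟨a, ha0, ha1⟩ := hF
  rw [Subgroup.mem_normalizer_iff]
  constructor
  · intro h i
    have hex : ∃ j, g.val i j ≠ 0 := by
      by_contra hc
      push_neg at hc
      exact g.det.ne_zero (Matrix.det_eq_zero_of_row_eq_zero i hc)
    obtain ⟨j, hj⟩ := hex
    refine ⟨j, hj, fun k hk => ?_⟩
    by_contra hne
    obtain ⟨d', hd'⟩ := mem_range.1 ((h _).1 (mem_range.2 ⟨Function.update 1 j (Units.mk0 a ha0), rfl⟩))
    have h2 := (conj_diag g (Function.update 1 j (Units.mk0 a ha0)) d').1 (by rw [← hd']; simp [mul_assoc])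
    have e1 := h2 i j
    have e2 := h2 i k
    rw [Function.update_self, Units.val_mk0, mul_comm] at e1
    rw [Function.update_of_ne hne, Pi.one_apply, Units.val_one, mul_one] at e2
    have e3 : (d' i : F) = 1 := mul_right_cancel₀ hk (by rw [one_mul]; exact e2.symm)
    rw [e3] at e1
    exact ha1 (mul_right_cancel₀ hj e1)
  · intro h
    choose σ hσ using fun i => (h i)
    have hzero : ∀ i j, j ≠ σ i → g.val i j = 0 := fun i j hj => by
      by_contra hne; exact hj ((hσ i).2 j hne)
    have hinj : Function.Injective σ := by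
      intro i k hik
      by_contra hne
      apply g.det.ne_zero
      have hrow : g.val i = (g.val i (σ i) / g.val k (σ k)) • g.val k := by
        funext j
        by_cases hj : j = σ i
        · subst hj
          rw [Pi.smul_apply, smul_eq_mul, show g.val k (σ i) = g.val k (σ k) by rw [hik], div_mul_cancel₀ _ (hσ k).1]
        · rw [Pi.smul_apply, smul_eq_mul, hzero i j hj, hzero k j (hik ▸ hj), mul_zero]
      rw [Matrix.GeneralLinearGroup.val_det_apply, show g.val = g.val.updateRow i ((g.val i (σ i) / g.val k (σ k)) • g.val k) by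
        rw [← hrow, Matrix.updateRow_eq_self], Matrix.det_updateRow_smul, Matrix.det_updateRow_eq_zero (Ne.symm hne), mul_zero]
    obtain ⟨τ, hτ⟩ : ∃ τ : Fin n → Fin n, ∀ i, τ (σ i) = i :=
      ⟨(Equiv.ofBijective σ (Finite.injective_iff_bijective.1 hinj)).symm,
        fun i => (Equiv.ofBijective σ _).symm_apply_apply i⟩
    intro x
    constructor
    · intro hx
      obtain ⟨d, rfl⟩ := mem_range.1 hx
      refine mem_range.2 ⟨d ∘ σ, ?_⟩
      rw [mul_inv_eq_iff_eq_mul, conj_diag]
      intro i j
      by_cases hj : j = σ i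
      · subst hj; exact mul_comm _ _
      · rw [hzero i j hj, zero_mul, mul_zero]
    · intro hx
      obtain ⟨d', hd'⟩ := mem_range.1 hx
      refine mem_range.2 ⟨d' ∘ τ, ?_⟩
      have h2 : g * Units.map (Matrix.diagonalRingHom (Fin n) F).toMonoidHom (MulEquiv.piUnits.symm (d' ∘ τ)) = g * x := by
        rw [(conj_diag g (d' ∘ τ) d').2 (fun i j => ?_), ← hd', inv_mul_cancel_right]
        by_cases hj : j = σ i
        · subst hj; rw [Function.comp_apply, hτ, mul_comm]
        · rw [hzero i j hj, zero_mul, mul_zero]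
      exact (mul_left_cancel h2).symm

end Cfsg.Agent.S0770
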