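import Cfsg.Statements.S0771
import Mathlib
open scoped Matrix

set_option autoImplicit false
open Cfsg

namespace Cfsg.Agent.S0771

theorem card_block {F : Type*} [Field F] [Fintype F] (k m : ℕ) :
    Nat.card {M : Matrix (Fin k ⊕ Fin m) (Fin k ⊕ Fin m) F // M.det ≠ 0 ∧ M.toBlocks₂₁ = 0} =
      Nat.card (Matrix.GeneralLinearGroup (Fin k) F × Matrix.GeneralLinearGroup (Fin m) F × (Fin k → Fin m → F)) := by
  have key : ∀ M : {M : Matrix (Fin k ⊕ Fin m) (Fin k ⊕ Fin m) F // M.det ≠ 0 ∧ M.toBlocks₂₁ = 0},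
      M.1.toBlocks₁₁.det ≠ 0 ∧ M.1.toBlocks₂₂.det ≠ 0 := fun M => by
    have h := M.2.1
    rw [← Matrix.fromBlocks_toBlocks M.1, M.2.2, Matrix.det_fromBlocks_zero₂₁] at h
    exact mul_ne_zero_iff.1 h
  exact Nat.card_congr
    { toFun := fun M => (Matrix.GeneralLinearGroup.mkOfDetNeZero _ (key M).1,
        Matrix.GeneralLinearGroup.mkOfDetNeZero _ (key M).2, M.1.toBlocks₁₂)
      invFun := fun x => ⟨Matrix.fromBlocks x.1.val (Matrix.of x.2.2) 0 x.2.1.val, by
        rw [Matrix.det_fromBlocks_zero₂₁]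
        exact ⟨mul_ne_zero x.1.det.ne_zero x.2.1.det.ne_zero, by simp⟩⟩
      left_inv := fun M => Subtype.ext (by
        refine Eq.trans ?_ (Matrix.fromBlocks_toBlocks M.1)
        rw [M.2.2]; rfl)
      right_inv := fun x => Prod.ext (Units.ext (by simp)) (Prod.ext (Units.ext (by simp)) (by funext i j; rfl)) }

/-- Maximal parabolic of GL_n(q): the stabiliser of the coordinate subspace spanned by the first k basis vectors has order q^(k(n-k)) · |GL_k(q)| · |GL_(n-k)(q)| (unipotent radical of order q^(k(n-k)) and Levi complement GL_k × GL_(n-k)). -/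
theorem result {F : Type*} [Field F] [Fintype F] {q : ℕ} (hF : Fintype.card F = q) (n k : ℕ) (hk : k ≤ n) : Nat.card ↥(Cfsg.stabilizing (Cfsg.glToMat (Fin n) F) {v : Fin n → F | ∀ i : Fin n, k ≤ (i : ℕ) → v i = 0}) = q ^ (k * (n - k)) * (∏ i : Fin k, (q ^ k - q ^ (i : ℕ))) * ∏ i : Fin (n - k), (q ^ (n - k) - q ^ (i : ℕ)) := by
  classical
  obtain ⟨m, rfl⟩ := Nat.exists_eq_add_of_le hk
  rw [Nat.add_sub_cancel_left]
  have hE : Nat.card ↥(Cfsg.stabilizing (Cfsg.glToMat (Fin (k + m)) F) {v : Fin (k + m) → F | ∀ i : Fin (k + m), k ≤ (i : ℕ) → v i = 0}) =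
      Nat.card {M : Matrix (Fin k ⊕ Fin m) (Fin k ⊕ Fin m) F // M.det ≠ 0 ∧ M.toBlocks₂₁ = 0} := by
    let e := Matrix.reindexAlgEquiv F F (finSumFinEquiv (m := k) (n := m)).symm
    have hzero : ∀ g : Matrix.GeneralLinearGroup (Fin (k + m)) F,
        g ∈ Cfsg.stabilizing (Cfsg.glToMat (Fin (k + m)) F) {v : Fin (k + m) → F | ∀ i : Fin (k + m), k ≤ (i : ℕ) → v i = 0} ↔
        (e g.val).toBlocks₂₁ = 0 := by
      intro g
      constructor
      · intro hg
        ext a b
        have hv := (hg (Pi.single (Fin.castAdd m b) 1)).1 (fun i hi => by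
          simp [Pi.single_apply, Fin.ext_iff, show (i : ℕ) ≠ b by omega]) (Fin.natAdd k a) (by simp)
        simpa [e, Matrix.toBlocks₂₁] using hv
      · intro hg
        have h0 : ∀ i j : Fin (k + m), k ≤ (i : ℕ) → (j : ℕ) < k → g.val i j = 0 := by
          intro i j hi hj
          have := congrFun (congrFun hg ⟨i - k, by omega⟩) ⟨j, hj⟩
          simp [e, Matrix.toBlocks₂₁] at this
          convert this using 2 <;> ext <;> simp <;> omega
        let W : Submodule F (Fin (k + m) → F) :=
          { carrier := {v | ∀ i : Fin (k + m), k ≤ (i : ℕ) → v i = 0}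
            zero_mem' := fun _ _ => rfl
            add_mem' := fun {a b} ha hb i hi => by simp [ha i hi, hb i hi]
            smul_mem' := fun c a ha i hi => by simp [ha i hi] }
        have hmap : ∀ v ∈ W, g.val *ᵥ v ∈ W := fun v hv i hi => by
          rw [Matrix.mulVec, dotProduct]
          refine Finset.sum_eq_zero fun j _ => ?_
          by_cases hj : (j : ℕ) < k
          · rw [h0 i j hi hj, zero_mul]
          · rw [hv j (not_lt.1 hj), mul_zero]
        set f : W →ₗ[F] W := (Matrix.mulVecLin g.val).restrict hmap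
        have hf : Function.Injective f := fun a b hab =>
          Subtype.ext (Matrix.mulVec_injective_iff_isUnit.2 g.isUnit (congrArg Subtype.val hab))
        intro v
        refine ⟨hmap v, fun hv => ?_⟩
        obtain ⟨w, hw⟩ := LinearMap.injective_iff_surjective.1 hf ⟨_, hv⟩
        have := Matrix.mulVec_injective_iff_isUnit.2 g.isUnit (congrArg Subtype.val hw : g.val *ᵥ (w : Fin (k + m) → F) = g.val *ᵥ v)
        exact this ▸ w.2
    refine Nat.card_congr
      { toFun := fun g => ⟨e g.1.val, by simpa [e, Matrix.coe_reindexAlgEquiv] using g.1.det.ne_zero, (hzero _).1 g.2⟩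
        invFun := fun M => ⟨Matrix.GeneralLinearGroup.mkOfDetNeZero (e.symm M.1) (by
          simpa [e, Matrix.coe_reindexAlgEquiv] using M.2.1), (hzero _).2 (by
            show (e (e.symm M.1)).toBlocks₂₁ = 0
            rw [AlgEquiv.apply_symm_apply]; exact M.2.2)⟩
        left_inv := fun g => Subtype.ext (Units.ext (e.symm_apply_apply _))
        right_inv := fun M => Subtype.ext (e.apply_symm_apply _) }
  rw [hE, card_block, Nat.card_prod, Nat.card_prod, Matrix.card_GL_field, Matrix.card_GL_field, Nat.card_fun, Nat.card_fun,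
    Nat.card_fin, Nat.card_fin, Nat.card_eq_fintype_card, hF, ← pow_mul]
  ring

end Cfsg.Agent.S0771
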