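import Cfsg.Statements.S0772
import Mathlib
import Cfsg.Agent.Lib.Linear.TransvectionGL

set_option autoImplicit false
open Cfsg

namespace Cfsg.Agent.S0772

/-- Maximal parabolics are maximal: over a finite field, for 0 < k < n the stabiliser in GL_n of the span of the first k coordinate vectors is a maximal proper subgroup. -/
theorem result {F : Type*} [Field F] [Finite F] (n k : ℕ) (hk0 : 0 < k) (hkn : k < n) : IsCoatom (Cfsg.stabilizing (Cfsg.glToMat (Fin n) F) {v : Fin n → F | ∀ i : Fin n, k ≤ (i : ℕ) → v i = 0}) := by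
  classical
  let W : Submodule F (Fin n → F) :=
    { carrier := {v | ∀ i : Fin n, k ≤ (i : ℕ) → v i = 0}
      zero_mem' := fun _ _ => rfl
      add_mem' := fun {a b} ha hb i hi => by simp [ha i hi, hb i hi]
      smul_mem' := fun c a ha i hi => by simp [ha i hi] }
  have hS : Cfsg.stabilizing (Cfsg.glToMat (Fin n) F) {v : Fin n → F | ∀ i : Fin n, k ≤ (i : ℕ) → v i = 0} =
      Cfsg.Geo.subspaceStabilizer W := rfl
  have hW0 : W ≠ ⊥ := fun h => by
    have hm : Pi.single (⟨0, by omega⟩ : Fin n) (1 : F) ∈ W := fun i hi => by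
      simp [Pi.single_apply, Fin.ext_iff, show (i : ℕ) ≠ 0 by omega]
    rw [h, Submodule.mem_bot, Pi.single_eq_zero_iff] at hm
    exact one_ne_zero hm
  have hW1 : W ≠ ⊤ := fun h => by
    have hm : Pi.single (⟨k, hkn⟩ : Fin n) (1 : F) ∈ W := h ▸ Submodule.mem_top
    simpa using hm ⟨k, hkn⟩ le_rfl
  have hlt := Cfsg.Lib.Linear.subspaceStabilizer_inf_SL_lt W hW0 hW1
  rw [hS]
  refine ⟨fun h => hlt.ne (by rw [h, top_inf_eq]), fun L hL => ?_⟩
  have hD : ∀ u : Fˣ, ∃ d ∈ Cfsg.Geo.subspaceStabilizer W, Matrix.GeneralLinearGroup.det d = u := by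
    intro u
    refine ⟨Matrix.GeneralLinearGroup.mkOfDetNeZero (Matrix.diagonal (Function.update (1 : Fin n → F) ⟨0, by omega⟩ u))
      (by simp [Matrix.det_diagonal, Finset.prod_update_of_mem, u.ne_zero]),
      Cfsg.Lib.Linear.mem_subspaceStabilizer_of_forall W _ (fun v hv i hi => ?_), Units.ext ?_⟩
    · show Matrix.mulVec (Matrix.diagonal _) v i = 0
      rw [Matrix.mulVec_diagonal, hv i hi, mul_zero]
    · show (Matrix.diagonal _).det = _
      simp [Matrix.det_diagonal, Finset.prod_update_of_mem]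
  have hSL : Cfsg.Geo.specialLinear (Fin n) F ≤ L := by
    rcases (Cfsg.Lib.Linear.isMaximalIn_subspaceStabilizer_SL W hW0 hW1).2 (L ⊓ Cfsg.Geo.specialLinear (Fin n) F)
      (inf_le_inf_right _ hL.le) inf_le_right with h | h
    · exfalso
      obtain ⟨g, hg, hgW⟩ := SetLike.exists_of_lt hL
      obtain ⟨d, hd, hdet⟩ := hD (Matrix.GeneralLinearGroup.det g)
      have hs : g * d⁻¹ ∈ L ⊓ Cfsg.Geo.specialLinear (Fin n) F :=
        Subgroup.mem_inf.2 ⟨mul_mem hg (inv_mem (hL.le hd)), by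
          show g * d⁻¹ ∈ Matrix.GeneralLinearGroup.det.ker
          rw [MonoidHom.mem_ker, map_mul, map_inv, hdet, mul_inv_cancel]⟩
      rw [h] at hs
      exact hgW (by simpa [mul_assoc] using mul_mem (Subgroup.mem_inf.1 hs).1 hd)
    · exact h ▸ inf_le_left
  rw [eq_top_iff]
  intro g _
  obtain ⟨d, hd, hdet⟩ := hD (Matrix.GeneralLinearGroup.det g)
  have hs : g * d⁻¹ ∈ L := hSL (by
    show g * d⁻¹ ∈ Matrix.GeneralLinearGroup.det.ker
    rw [MonoidHom.mem_ker, map_mul, map_inv, hdet, mul_inv_cancel])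
  simpa [mul_assoc] using mul_mem hs (hL.le hd)

end Cfsg.Agent.S0772
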