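import Cfsg.Statements.S0773
import Mathlib
import Cfsg.Agent.Lib.Linear.Subspace
open scoped Matrix

set_option autoImplicit false
open Cfsg

namespace Cfsg.Agent.S0773

/-- The span of the first `k` coordinate vectors. -/
def head (F : Type*) [Field F] (n k : ℕ) : Submodule F (Fin n → F) where
  carrier := {v | ∀ i : Fin n, k ≤ (i : ℕ) → v i = 0}
  zero_mem' := fun _ _ => rfl
  add_mem' := fun {a b} ha hb i hi => by simp [ha i hi, hb i hi]
  smul_mem' := fun c a ha i hi => by simp [ha i hi]

theorem single_mem_head {F : Type*} [Field F] {n k : ℕ} (j : Fin n) (hj : (j : ℕ) < k) :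
    Pi.single j (1 : F) ∈ head F n k := fun i hi => by
  simp [Pi.single_apply, Fin.ext_iff, show (i : ℕ) ≠ (j : ℕ) by omega]

theorem mem_stab {F : Type*} [Field F] {n k : ℕ} (g : GL (Fin n) F) :
    g ∈ Cfsg.Geo.subspaceStabilizer (head F n k) ↔ ∀ i j : Fin n, k ≤ (i : ℕ) → (j : ℕ) < k → g.val i j = 0 := by
  constructor
  · intro h i j hi hj
    simpa using ((Cfsg.Lib.Linear.mem_subspaceStabilizer_iff _ g).1 h _).1 (single_mem_head j hj) i hi
  · intro h
    refine Cfsg.Lib.Linear.mem_subspaceStabilizer_of_forall _ g fun v hv i hi => ?_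
    show ∑ j, g.val i j * v j = 0
    refine Finset.sum_eq_zero fun j _ => ?_
    by_cases hj : (j : ℕ) < k
    · show g.val i j * v j = 0
      rw [h i j hi hj, zero_mul]
    · show g.val i j * v j = 0
      rw [hv j (not_lt.1 hj), mul_zero]

/-- Inverse transpose, with the basis reversed. -/
def flipEquiv (F : Type*) [Field F] (n : ℕ) : GL (Fin n) F ≃* GL (Fin n) F where
  toFun g := ⟨((g⁻¹ : GL (Fin n) F).val)ᵀ.submatrix Fin.rev Fin.rev, g.valᵀ.submatrix Fin.rev Fin.rev,
    by rw [← Matrix.submatrix_mul _ _ _ _ _ Fin.rev_bijective, ← Matrix.transpose_mul, Units.mul_inv, Matrix.transpose_one,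
      Matrix.submatrix_one _ Fin.rev_injective],
    by rw [← Matrix.submatrix_mul _ _ _ _ _ Fin.rev_bijective, ← Matrix.transpose_mul, Units.inv_mul, Matrix.transpose_one,
      Matrix.submatrix_one _ Fin.rev_injective]⟩
  invFun g := ⟨((g⁻¹ : GL (Fin n) F).val)ᵀ.submatrix Fin.rev Fin.rev, g.valᵀ.submatrix Fin.rev Fin.rev,
    by rw [← Matrix.submatrix_mul _ _ _ _ _ Fin.rev_bijective, ← Matrix.transpose_mul, Units.mul_inv, Matrix.transpose_one,
      Matrix.submatrix_one _ Fin.rev_injective],
    by rw [← Matrix.submatrix_mul _ _ _ _ _ Fin.rev_bijective, ← Matrix.transpose_mul, Units.inv_mul, Matrix.transpose_one,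
      Matrix.submatrix_one _ Fin.rev_injective]⟩
  left_inv g := Units.ext (by
    show ((g.valᵀ.submatrix Fin.rev Fin.rev)ᵀ.submatrix Fin.rev Fin.rev) = g.val
    ext i j; simp)
  right_inv g := Units.ext (by
    show ((g.valᵀ.submatrix Fin.rev Fin.rev)ᵀ.submatrix Fin.rev Fin.rev) = g.val
    ext i j; simp)
  map_mul' g h := Units.ext (by
    show ((((g * h)⁻¹ : GL (Fin n) F)).val)ᵀ.submatrix Fin.rev Fin.rev =
      ((g⁻¹ : GL (Fin n) F).val)ᵀ.submatrix Fin.rev Fin.rev * ((h⁻¹ : GL (Fin n) F).val)ᵀ.submatrix Fin.rev Fin.rev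
    rw [← Matrix.submatrix_mul _ _ _ _ _ Fin.rev_bijective, ← Matrix.transpose_mul, ← Units.val_mul, mul_inv_rev])

theorem head_inj {F : Type*} [Field F] {n k l : ℕ} (hk0 : 0 < k) (hkn : k < n) (W : Submodule F (Fin n → F))
    (hW : Module.finrank F W = l) (hlk : l ≠ k) :
    Cfsg.Geo.subspaceStabilizer (head F n k) ≠ Cfsg.Geo.subspaceStabilizer W ∨ W = ⊥ ∨ W = ⊤ := by
  by_contra hc
  push_neg at hc
  obtain ⟨heq, h0, h1⟩ := hc
  set H := head F n k
  have hWH : W ≠ H := by
    intro e
    have hfin : Module.finrank F H = k := by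
      let e2 : H ≃ₗ[F] (Fin k → F) :=
        { toFun := fun v j => v.1 ⟨j, by omega⟩
          map_add' := fun _ _ => rfl
          map_smul' := fun _ _ => rfl
          invFun := fun w => ⟨fun i => if h : (i : ℕ) < k then w ⟨i, h⟩ else 0, fun i hi => dif_neg (not_lt.2 hi)⟩
          left_inv := fun v => Subtype.ext (funext fun i => by
            by_cases h : (i : ℕ) < k
            · simp [h]
            · simp [h, v.2 i (not_lt.1 h)])
          right_inv := fun w => funext fun j => by simp }
      rw [e2.finrank_eq, Module.finrank_fin_fun]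
    rw [e, hfin] at hW
    exact hlk hW.symm
  have key : ∀ A B : Submodule F (Fin n → F), B ≠ ⊤ → Cfsg.Geo.subspaceStabilizer A = Cfsg.Geo.subspaceStabilizer B →
      ¬ B ≤ A → False := by
    intro A B hB he hBA
    obtain ⟨u, huB, huA⟩ := SetLike.not_le_iff_exists.1 hBA
    obtain ⟨z, hzB, huz⟩ : ∃ z, z ∉ B ∧ u ∉ A ⊔ Submodule.span F {z} := by
      by_cases hAB : A ≤ B
      · obtain ⟨z, -, hz⟩ := SetLike.exists_of_lt (lt_top_iff_ne_top.2 hB)
        refine ⟨z, hz, fun hu => ?_⟩
        obtain ⟨a, ha, x, hx, hax⟩ := Submodule.mem_sup.1 hu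
        obtain ⟨c, rfl⟩ := Submodule.mem_span_singleton.1 hx
        rcases eq_or_ne c 0 with rfl | hc
        · exact huA (by rw [← hax]; simpa using ha)
        · refine hz ?_
          have h2 : c • z ∈ B := by
            rw [show c • z = u - a by rw [← hax]; abel]
            exact B.sub_mem huB (hAB ha)
          simpa [smul_smul, inv_mul_cancel₀ hc] using B.smul_mem c⁻¹ h2
      · obtain ⟨z, hzA, hzB⟩ := SetLike.not_le_iff_exists.1 hAB
        exact ⟨z, hzB, by rwa [sup_eq_left.2 ((Submodule.span_singleton_le_iff_mem _ _).2 hzA)]⟩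
    have h := Cfsg.Lib.Linear.subspaceStabilizer_pair_lt A B u z huB hzB huz
    rw [← he, inf_idem] at h
    exact lt_irrefl _ h
  have hH1 : H ≠ ⊤ := fun h => by
    have hm : Pi.single (⟨k, hkn⟩ : Fin n) (1 : F) ∈ H := h ▸ Submodule.mem_top
    simpa using hm ⟨k, hkn⟩ le_rfl
  by_cases hle : W ≤ H
  · exact key W H hH1 heq.symm (fun h2 => hWH (le_antisymm hle h2))
  · exact key H W h1 heq hle

/-- The stabilisers in GL_n(F), F finite, of the coordinate subspaces of dimensions k and n − k are isomorphic groups, but when 2k ≠ n (and 0 < k < n) no element of GL_n conjugates one onto the other. -/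
theorem result {F : Type*} [Field F] [Finite F] (n k : ℕ) (hk0 : 0 < k) (hkn : k < n) (h2 : 2 * k ≠ n) : Nonempty (↥(Cfsg.stabilizing (Cfsg.glToMat (Fin n) F) {v : Fin n → F | ∀ i : Fin n, k ≤ (i : ℕ) → v i = 0}) ≃* ↥(Cfsg.stabilizing (Cfsg.glToMat (Fin n) F) {v : Fin n → F | ∀ i : Fin n, n - k ≤ (i : ℕ) → v i = 0})) ∧ ∀ g : Matrix.GeneralLinearGroup (Fin n) F, (Cfsg.stabilizing (Cfsg.glToMat (Fin n) F) {v : Fin n → F | ∀ i : Fin n, k ≤ (i : ℕ) → v i = 0}).map (MulAut.conj g).toMonoidHom ≠ Cfsg.stabilizing (Cfsg.glToMat (Fin n) F) {v : Fin n → F | ∀ i : Fin n, n - k ≤ (i : ℕ) → v i = 0} := by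
  constructor
  · refine ⟨MulEquiv.trans ((flipEquiv F n).subgroupMap _) (MulEquiv.subgroupCongr ?_)⟩
    show (Cfsg.Geo.subspaceStabilizer (head F n k)).map (flipEquiv F n).toMonoidHom = Cfsg.Geo.subspaceStabilizer (head F n (n - k))
    ext g
    rw [Subgroup.mem_map_equiv, ← inv_mem_iff, mem_stab, mem_stab]
    show (∀ i j : Fin n, k ≤ (i : ℕ) → (j : ℕ) < k → (g.valᵀ.submatrix Fin.rev Fin.rev) i j = 0) ↔ _
    constructor
    · intro h i j hi hj
      have := h (Fin.rev j) (Fin.rev i) (by simp [Fin.val_rev]; omega) (by simp [Fin.val_rev]; omega)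
      simpa using this
    · intro h i j hi hj
      simp only [Matrix.submatrix_apply, Matrix.transpose_apply]
      exact h _ _ (by simp [Fin.val_rev]; omega) (by simp [Fin.val_rev]; omega)
  · intro g hg
    let e : (Fin n → F) ≃ₗ[F] (Fin n → F) :=
      LinearMap.GeneralLinearGroup.generalLinearEquiv F _ (Matrix.GeneralLinearGroup.toLin g)
    have hev : ∀ v, e v = g.val *ᵥ v := fun v => rfl
    have hmap : (Cfsg.Geo.subspaceStabilizer (head F n k)).map (MulAut.conj g).toMonoidHom =
        Cfsg.Geo.subspaceStabilizer ((head F n k).map (e : (Fin n → F) →ₗ[F] (Fin n → F))) := by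
      ext x
      rw [Subgroup.mem_map_equiv, Cfsg.Lib.Linear.mem_subspaceStabilizer_iff, Cfsg.Lib.Linear.mem_subspaceStabilizer_iff]
      have hiff : ∀ w, w ∈ (head F n k).map (e : (Fin n → F) →ₗ[F] (Fin n → F)) ↔ (g⁻¹).val *ᵥ w ∈ head F n k := by
        intro w
        constructor
        · rintro ⟨v, hv, rfl⟩
          show (g⁻¹).val *ᵥ (e v) ∈ _
          rw [hev, Matrix.mulVec_mulVec, Units.inv_mul, Matrix.one_mulVec]; exact hv
        · intro h
          refine ⟨_, h, ?_⟩
          show e _ = w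
          rw [hev, Matrix.mulVec_mulVec, Units.mul_inv, Matrix.one_mulVec]
      simp only [hiff, MulAut.conj_symm_apply, Units.val_mul, ← Matrix.mulVec_mulVec]
      constructor
      · intro h w
        have := h ((g⁻¹).val *ᵥ w)
        rwa [Matrix.mulVec_mulVec w g.val, Units.mul_inv, Matrix.one_mulVec] at this
      · intro h v
        have := h (g.val *ᵥ v)
        rwa [Matrix.mulVec_mulVec v (g⁻¹).val g.val, Units.inv_mul, Matrix.one_mulVec] at this
    change (Cfsg.Geo.subspaceStabilizer (head F n k)).map (MulAut.conj g).toMonoidHom = Cfsg.Geo.subspaceStabilizer (head F n (n - k)) at hg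
    rw [hmap] at hg
    have hfin : ∀ l, l ≤ n → Module.finrank F (head F n l) = l := by
      intro l hl
      let e2 : head F n l ≃ₗ[F] (Fin l → F) :=
        { toFun := fun v j => v.1 ⟨j, by omega⟩
          map_add' := fun _ _ => rfl
          map_smul' := fun _ _ => rfl
          invFun := fun w => ⟨fun i => if h : (i : ℕ) < l then w ⟨i, h⟩ else 0, fun i hi => dif_neg (not_lt.2 hi)⟩
          left_inv := fun v => Subtype.ext (funext fun i => by
            by_cases h : (i : ℕ) < l
            · simp [h]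
            · simp [h, v.2 i (not_lt.1 h)])
          right_inv := fun w => funext fun j => by simp }
      rw [e2.finrank_eq, Module.finrank_fin_fun]
    have hdim : Module.finrank F ((head F n k).map (e : (Fin n → F) →ₗ[F] (Fin n → F))) = k := by
      rw [LinearEquiv.finrank_map_eq, hfin k hkn.le]
    rcases head_inj (k := n - k) (by omega) (by omega) _ hdim (by omega) with h | h | h
    · exact h hg.symm
    · rw [h, finrank_bot] at hdim; omega
    · rw [h, finrank_top, Module.finrank_fin_fun] at hdim; omega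

end Cfsg.Agent.S0773
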