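import Cfsg.Statements.S0774
import Cfsg.Agent.Lib.Linear.SympParabolic

set_option autoImplicit false
open Cfsg

namespace Cfsg.Agent.S0774

open Cfsg.Lib.Linear Cfsg.Lib.Linear.Symp Module
open scoped Matrix

variable {F : Type*} [Field F] {m : ℕ}

/-- Vectors supported on the indices up to `k`. -/
def E (F : Type*) [Field F] (m : ℕ) (k : Fin m) : Submodule F (Fin m → F) where
  carrier := {x | ∀ i : Fin m, (k : ℕ) < i → x i = 0}
  zero_mem' := fun _ _ => rfl
  add_mem' := fun ha hb i hi => by simp [ha i hi, hb i hi]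
  smul_mem' := fun c x hx i hi => by simp [hx i hi]

/-- The stabiliser of the standard flag. -/
def Upper (F : Type*) [Field F] (m : ℕ) : Subgroup ((Fin m → F) ≃ₗ[F] (Fin m → F)) :=
  ⨅ k, StabCard.stabW (E F m k)

theorem card_upper [Fintype F] : Nat.card (Upper F m) =
    (Fintype.card F - 1) ^ m * Fintype.card F ^ (∑ i : Fin m, (m - 1 - (i : ℕ))) := by
  classical
  let ok : Fin m → Fin m → F → Prop := fun i j x => (j < i → x = 0) ∧ (i = j → x ≠ 0)
  have hone : ∀ j k : Fin m, j ≤ k → Pi.single j (1 : F) ∈ E F m k := fun j k hjk i hi => by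
    rw [Pi.single_apply, if_neg]
    intro h
    rw [h] at hi
    exact absurd (Fin.le_def.1 hjk) (by omega)
  have fwd : ∀ g : Upper F m, ∀ i j,
      ok i j (LinearMap.toMatrix' ((g : (Fin m → F) ≃ₗ[F] (Fin m → F)) : (Fin m → F) →ₗ[F] _) i j) := by
    intro g
    have hup : ∀ i j : Fin m, j < i →
        LinearMap.toMatrix' ((g : (Fin m → F) ≃ₗ[F] (Fin m → F)) : (Fin m → F) →ₗ[F] _) i j = 0 := fun i j hji => by
      rw [LinearMap.toMatrix'_apply]
      exact ((Subgroup.mem_iInf.1 g.2 j) _).1 (hone j j le_rfl) i hji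
    refine fun i j => ⟨hup i j, fun hij hz => ?_⟩
    subst hij
    have hdet : (LinearMap.toMatrix' ((g : (Fin m → F) ≃ₗ[F] (Fin m → F)) : (Fin m → F) →ₗ[F] _)).det ≠ 0 := by
      rw [LinearMap.det_toMatrix']
      exact ((g : (Fin m → F) ≃ₗ[F] (Fin m → F)).isUnit_det').ne_zero
    refine hdet ?_
    rw [Matrix.det_of_upperTriangular (fun i j h => hup i j h)]
    exact Finset.prod_eq_zero (Finset.mem_univ i) hz
  let T := ∀ i j : Fin m, {x : F // ok i j x}
  have inv : ∀ t : T, ∃ g : Upper F m, ∀ i j,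
      LinearMap.toMatrix' ((g : (Fin m → F) ≃ₗ[F] (Fin m → F)) : (Fin m → F) →ₗ[F] _) i j = (t i j).1 := by
    intro t
    set M : Matrix (Fin m) (Fin m) F := Matrix.of fun i j => (t i j).1
    have hM : M.det ≠ 0 := by
      have hU : M.BlockTriangular id := fun i j h => (t i j).2.1 h
      rw [Matrix.det_of_upperTriangular hU]
      exact Finset.prod_ne_zero_iff.2 fun i _ => (t i i).2.2 rfl
    have hinj : Function.Injective (Matrix.toLin' M) := by
      rw [← LinearMap.ker_eq_bot, LinearMap.ker_eq_bot']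
      intro x hx
      exact Matrix.eq_zero_of_mulVec_eq_zero hM hx
    let g := LinearEquiv.ofInjectiveEndo _ hinj
    have hgk : ∀ k x, x ∈ E F m k → g x ∈ E F m k := fun k x hx i hi => by
      show (∑ j, M i j * x j) = 0
      refine Finset.sum_eq_zero fun j _ => ?_
      by_cases hj : (k : ℕ) < j
      · rw [hx j hj, mul_zero]
      · have : j < i := Fin.lt_def.2 (by omega)
        rw [show M i j = 0 from (t i j).2.1 this, zero_mul]
    refine ⟨⟨g, Subgroup.mem_iInf.2 fun k v => ⟨hgk k v, fun hv => ?_⟩⟩, fun i j => ?_⟩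
    · have heq : (E F m k).map (g : (Fin m → F) →ₗ[F] (Fin m → F)) = E F m k := by
        refine Submodule.eq_of_le_of_finrank_eq ?_ (LinearEquiv.finrank_map_eq g _)
        rintro _ ⟨x, hx, rfl⟩
        exact hgk k x hx
      rw [← heq] at hv
      obtain ⟨w, hw, hwv⟩ := hv
      rw [← g.injective hwv]
      exact hw
    · show LinearMap.toMatrix' (Matrix.toLin' M) i j = _
      rw [LinearMap.toMatrix'_toLin']
      rfl
  have e : Upper F m ≃ T := by
    refine Equiv.ofBijective (fun g i j => ⟨_, fwd g i j⟩) ⟨fun g h hgh => ?_, fun t => ?_⟩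
    · refine Subtype.ext (LinearEquiv.toLinearMap_injective (LinearMap.toMatrix'.injective ?_))
      ext i j
      exact congrArg Subtype.val (congrFun (congrFun hgh i) j)
    · obtain ⟨g, hg⟩ := inv t
      exact ⟨g, funext fun i => funext fun j => Subtype.ext (hg i j)⟩
  rw [Nat.card_congr e, Nat.card_pi]
  simp only [Nat.card_pi]
  have hij : ∀ i j : Fin m, Nat.card {x : F // ok i j x} =
      (if i = j then Fintype.card F - 1 else 1) * (if i < j then Fintype.card F else 1) := by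
    intro i j
    rcases lt_trichotomy i j with h | h | h
    · rw [if_neg h.ne, if_pos h, one_mul, ← Nat.card_eq_fintype_card]
      exact Nat.card_congr (Equiv.subtypeUnivEquiv fun x => ⟨fun h' => absurd h (asymm h'), fun h' => absurd h' h.ne⟩)
    · subst h
      rw [if_pos rfl, if_neg (lt_irrefl _), mul_one, ← Fintype.card_units, ← Nat.card_eq_fintype_card]
      exact Nat.card_congr
        { toFun := fun x => Units.mk0 x.1 (x.2.2 rfl)
          invFun := fun u => ⟨u, fun h => absurd h (lt_irrefl _), fun _ => u.ne_zero⟩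
          left_inv := fun x => rfl
          right_inv := fun u => Units.ext rfl }
    · rw [if_neg h.ne', if_neg (asymm h), one_mul]
      exact Nat.card_eq_one_iff_exists.2 ⟨⟨0, fun _ => rfl, fun h' => absurd h' h.ne'⟩,
        fun x => Subtype.ext (x.2.1 h)⟩
  simp only [hij, Finset.prod_mul_distrib, Finset.prod_ite_eq, Finset.mem_univ, if_true, Finset.prod_const,
    Finset.card_univ, Fintype.card_fin]
  congr 1
  rw [← Finset.prod_pow_eq_pow_sum]
  refine Finset.prod_congr rfl fun i _ => ?_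
  rw [Finset.prod_ite, Finset.prod_const, Finset.prod_const_one, mul_one,
    show (Finset.univ.filter fun j => i < j) = Finset.Ioi i by ext j; simp, Fin.card_Ioi]

/-- The standard Lagrangian. -/
def inlMap (F : Type*) [Field F] (m : ℕ) : (Fin m → F) →ₗ[F] (Fin m ⊕ Fin m → F) :=
  LinearMap.pi (Sum.elim (fun i => LinearMap.proj i) (fun _ => 0))

theorem main [Fintype F] {q : ℕ} (hF : Fintype.card F = q) (m : ℕ) :
    Nat.card ↥(⨅ k : Fin m, Cfsg.stabilizing (Cfsg.spToMat m F) {v : Fin m ⊕ Fin m → F |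
      (∀ i : Fin m, (k : ℕ) < (i : ℕ) → v (Sum.inl i) = 0) ∧ ∀ i : Fin m, v (Sum.inr i) = 0}) =
      q ^ (m ^ 2) * (q - 1) ^ m := by
  classical
  subst hF
  set ι := inlMap F m
  have hιl : ∀ x i, ι x (Sum.inl i) = x i := fun x i => rfl
  have hιr : ∀ x i, ι x (Sum.inr i) = 0 := fun x i => rfl
  have hιi : Function.Injective ι := fun x y h => funext fun i => congrFun h (Sum.inl i)
  set L := LinearMap.range ι
  let ε : (Fin m → F) ≃ₗ[F] L := LinearEquiv.ofInjective ι hιi
  have hε : ∀ x, ((ε x : L) : Fin m ⊕ Fin m → F) = ι x := fun x => rfl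
  let cj : (L ≃ₗ[F] L) ≃* ((Fin m → F) ≃ₗ[F] (Fin m → F)) :=
    { toFun := fun σ => ε ≪≫ₗ σ ≪≫ₗ ε.symm
      invFun := fun σ => ε.symm ≪≫ₗ σ ≪≫ₗ ε
      left_inv := fun σ => LinearEquiv.ext fun x => by simp
      right_inv := fun σ => LinearEquiv.ext fun x => by simp
      map_mul' := fun σ τ => LinearEquiv.ext fun x => by simp [LinearEquiv.mul_apply] }
  set S := (Upper F m).comap cj.toMonoidHom
  have hS : Nat.card S = Nat.card (Upper F m) :=
    Nat.card_congr (cj.toEquiv.subtypeEquiv fun σ => Iff.rfl)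
  have hmem : ∀ (k : Fin m) x, ι x ∈ {v : Fin m ⊕ Fin m → F |
      (∀ i : Fin m, (k : ℕ) < (i : ℕ) → v (Sum.inl i) = 0) ∧ ∀ i : Fin m, v (Sum.inr i) = 0} ↔ x ∈ E F m k :=
    fun k x => ⟨fun h => h.1, fun h => ⟨h, fun i => rfl⟩⟩
  set H := (⨅ k : Fin m, Cfsg.stabilizing (Cfsg.spToMat m F) {v : Fin m ⊕ Fin m → F |
      (∀ i : Fin m, (k : ℕ) < (i : ℕ) → v (Sum.inl i) = 0) ∧ ∀ i : Fin m, v (Sum.inr i) = 0}).map
    ((iso (spB m F)).subtype.comp spEquiv.toMonoidHom) with hHdef
  have hcard : Nat.card H = Nat.card ↥(⨅ k : Fin m, Cfsg.stabilizing (Cfsg.spToMat m F) {v : Fin m ⊕ Fin m → F |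
      (∀ i : Fin m, (k : ℕ) < (i : ℕ) → v (Sum.inl i) = 0) ∧ ∀ i : Fin m, v (Sum.inr i) = 0}) :=
    (Nat.card_congr (Subgroup.equivMapOfInjective _
      ((iso (spB m F)).subtype.comp spEquiv.toMonoidHom)
      (fun a b h => spEquiv.injective (Subtype.ext h))).toEquiv).symm
  have hLk : ∀ v, v ∈ L ↔ ∀ i, v (Sum.inr i) = 0 := fun v => by
    refine ⟨?_, fun h => ⟨fun i => v (Sum.inl i), funext fun j => ?_⟩⟩
    · rintro ⟨x, rfl⟩ i; rfl
    · rcases j with j | j
      · rfl
      · exact (h j).symm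
  have hH : ∀ g, g ∈ H ↔ g ∈ iso (spB m F) ∧
      ∃ h : g ∈ StabCard.stabW L, StabCard.resW L ⟨g, h⟩ ∈ S := by
    intro g
    constructor
    · rintro ⟨A, hA', rfl⟩
      have hA'' := Subgroup.mem_iInf.1 hA'
      have hst : ∀ v, v ∈ L ↔ ((spEquiv A : (Fin m ⊕ Fin m → F) ≃ₗ[F] _)) v ∈ L := by
        rcases Nat.eq_zero_or_pos m with rfl | hm
        · intro v
          simp [hLk]
        · intro v
          have h := hA'' ⟨m - 1, by omega⟩ v
          have hiff : ∀ w : Fin m ⊕ Fin m → F, w ∈ {v : Fin m ⊕ Fin m → F |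
              (∀ i : Fin m, m - 1 < (i : ℕ) → v (Sum.inl i) = 0) ∧ ∀ i : Fin m, v (Sum.inr i) = 0} ↔ w ∈ L :=
            fun w => ⟨fun h => (hLk w).2 h.2, fun h => ⟨fun i hi => absurd hi (by omega), (hLk w).1 h⟩⟩
          rw [← hiff, ← hiff]
          exact h
      refine ⟨(spEquiv A).2, hst, Subgroup.mem_iInf.2 fun k x => ?_⟩
      rw [← hmem k x, ← hmem k]
      have h := hA'' k (ι x)
      have he : ι (cj (StabCard.resW L ⟨_, hst⟩) x) = (A : Matrix _ _ F) *ᵥ ι x := by
        rw [← hε]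
        show ((ε (ε.symm _) : L) : Fin m ⊕ Fin m → F) = _
        rw [ε.apply_symm_apply]
        rfl
      show _ ↔ ι (cj (StabCard.resW L ⟨_, hst⟩) x) ∈ _
      rw [he]
      exact h
    · rintro ⟨hg, hst, hS'⟩
      refine ⟨spEquiv.symm ⟨g, hg⟩, Subgroup.mem_iInf.2 fun k v => ?_, by simp⟩
      have hgv : ∀ w, (spEquiv.symm ⟨g, hg⟩).1 *ᵥ w = g w := fun w => by
        have := spEquiv_apply (spEquiv.symm ⟨g, hg⟩) w
        rw [MulEquiv.apply_symm_apply] at this
        exact this.symm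
      have he : ∀ x, ι (cj (StabCard.resW L ⟨g, hst⟩) x) = g (ι x) := fun x => by
        rw [← hε]
        show ((ε (ε.symm _) : L) : Fin m ⊕ Fin m → F) = _
        rw [ε.apply_symm_apply]
        rfl
      show _ ↔ (spEquiv.symm ⟨g, hg⟩).1 *ᵥ v ∈ _
      rw [hgv]
      constructor
      · intro hv
        obtain ⟨x, rfl⟩ := (hLk v).2 hv.2
        rw [← he, hmem]
        exact (Subgroup.mem_iInf.1 hS' k x).1 ((hmem k x).1 hv)
      · intro hv
        obtain ⟨x, rfl⟩ := (hst v).2 ((hLk _).2 hv.2)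
        rw [← he, hmem] at hv
        exact (hmem k x).2 ((Subgroup.mem_iInf.1 hS' k x).2 hv)
  have hL : finrank F L = m := by rw [LinearMap.finrank_range_of_inj hιi, finrank_fin_fun]
  have hLi : ∀ u ∈ L, ∀ v ∈ L, spB m F u v = 0 := fun u hu v hv => by
    rw [spB_apply, Cfsg.sympForm, J_mulVec]
    simp [dotProduct, Fintype.sum_sum_type, (hLk u).1 hu, (hLk v).1 hv]
  have hA := spB_isAlt m F
  have hs : ∀ σ ∈ S, ∃ g ∈ iso (spB m F), ∀ x : L, g (x : _) = σ x := fun σ _ => by
    obtain ⟨t, ht, htx⟩ := witt (spB_nondegenerate m F) hA L (L.subtype ∘ₗ (σ : L →ₗ[F] L))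
      (L.injective_subtype.comp σ.injective) fun x y => by
        show spB m F ((σ x : L) : _) ((σ y : L) : _) = _
        rw [hLi _ (σ x).2 _ (σ y).2, hLi _ x.2 _ y.2]
    exact ⟨t, T_le_fixer hA ⊥ ht |>.1, htx⟩
  rw [← hcard, StabCard.card_stab (iso (spB m F)) L (fixer (spB m F) L) (fun g => mem_fixer) S H hH hs,
    card_fixer_isotropic (spB_nondegenerate m F) hA finrank_space le_rfl hL hLi, hS, card_upper,
    Nat.sub_self]
  have hsum : ∀ n : ℕ, ∑ i : Fin n, (n - 1 - (i : ℕ)) + n * (n + 1) / 2 = n ^ 2 := fun n => by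
    have h2 : ∑ i : Fin n, (n - 1 - (i : ℕ)) = n * (n - 1) / 2 := by
      rw [Fin.sum_univ_eq_sum_range (fun i => n - 1 - i), Finset.sum_range_reflect (fun i => i) n,
        Finset.sum_range_id]
    obtain ⟨a, ha⟩ : Even (n * (n + 1)) := Nat.even_mul_succ_self n
    obtain ⟨b, hb⟩ : Even (n * (n - 1)) := Nat.even_mul_pred_self n
    rw [h2]
    rcases n with _ | n
    · rfl
    · rw [Nat.add_sub_cancel] at hb ⊢
      rw [show (n + 1) * n / 2 = b by omega, show (n + 1) * (n + 1 + 1) / 2 = a by omega]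
      nlinarith
  simp only [zero_pow two_ne_zero, mul_zero, add_zero, pow_zero, Finset.range_zero, Finset.prod_empty, mul_one]
  rw [mul_left_comm, mul_comm, ← pow_add]
  congr 2
  have := hsum m
  omega

/-- Borel subgroup of the symplectic group: the elements of Sp_2m(q) stabilising each of the totally isotropic coordinate subspaces ⟨e_0, ..., e_k⟩ (k < m) form a subgroup of order q^(m²) (q − 1)^m. -/
theorem result {F : Type*} [Field F] [Fintype F] {q : ℕ} (hF : Fintype.card F = q) (m : ℕ) : Nat.card ↥(⨅ k : Fin m, Cfsg.stabilizing (Cfsg.spToMat m F) {v : Fin m ⊕ Fin m → F | (∀ i : Fin m, (k : ℕ) < (i : ℕ) → v (Sum.inl i) = 0) ∧ ∀ i : Fin m, v (Sum.inr i) = 0}) = q ^ (m ^ 2) * (q - 1) ^ m := by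
  exact main hF m

end Cfsg.Agent.S0774
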