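import Cfsg.Statements.S0776
import Cfsg.Agent.Lib.Linear.SymplecticGroup
import Cfsg.Agent.Lib.Linear.SymplecticDecomp
import Cfsg.Agent.Lib.Linear.BlockIso

set_option autoImplicit false
open Cfsg

namespace Cfsg.Agent.S0776

open Cfsg.Lib.Linear Cfsg.Lib.Linear.Symp Module
open scoped Matrix

variable {F : Type*} [Field F]

theorem spB_eq {m : ℕ} (u v : Fin m ⊕ Fin m → F) :
    spB m F u v = ∑ i, (u (Sum.inr i) * v (Sum.inl i) - u (Sum.inl i) * v (Sum.inr i)) := by
  rw [spB_apply, Cfsg.sympForm, J_mulVec]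
  simp only [dotProduct, Fintype.sum_sum_type, Sum.elim_inl, Sum.elim_inr, mul_neg]
  rw [← Finset.sum_add_distrib]
  exact Finset.sum_congr rfl fun i _ => by ring

/-- The standard embedding of a smaller symplectic space. -/
noncomputable def incl (F : Type*) [Field F] (k m : ℕ) : (Fin k ⊕ Fin k → F) →ₗ[F] (Fin m ⊕ Fin m → F) :=
  LinearMap.pi (Sum.elim
    (fun i => if h : (i : ℕ) < k then LinearMap.proj (Sum.inl ⟨i, h⟩) else 0)
    (fun i => if h : (i : ℕ) < k then LinearMap.proj (Sum.inr ⟨i, h⟩) else 0))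

theorem incl_form {k m : ℕ} (hk : k ≤ m) (a b : Fin k ⊕ Fin k → F) :
    spB m F (incl F k m a) (incl F k m b) = spB k F a b := by
  rw [spB_eq, spB_eq]
  refine (Fintype.sum_of_injective (Fin.castLE hk) (Fin.castLE_injective hk) _ _ (fun i hi => ?_)
    (fun i => ?_)).symm
  · have : ¬ (i : ℕ) < k := fun h => hi ⟨⟨i, h⟩, rfl⟩
    simp [incl, this]
  · simp [incl, i.2]

theorem exists_param (m k : ℕ) (hk : k ≤ m) (W : Submodule F (Fin m ⊕ Fin m → F))
    (hWk : finrank F W = 2 * k) (hW : NondegOn (spB m F) W) :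
    ∃ L : (Fin k ⊕ Fin k → F) →ₗ[F] (Fin m ⊕ Fin m → F), LinearMap.range L = W ∧
      Function.Injective L ∧ ∀ a b, spB m F (L a) (L b) = spB k F a b := by
  set ι := incl F k m with hι
  have hιi : Function.Injective ι := by
    rw [← LinearMap.ker_eq_bot, LinearMap.ker_eq_bot']
    intro a ha
    refine (spB_nondegenerate k F).1 a fun b => ?_
    rw [← incl_form hk, ← hι, ha, map_zero, LinearMap.zero_apply]
  have hX : NondegOn (spB m F) (LinearMap.range ι) := by
    rintro _ ⟨a, rfl⟩ ha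
    obtain ⟨b, hb⟩ : ∃ b, spB k F a b ≠ 0 := by
      by_contra hc
      push Not at hc
      exact ha (by rw [(spB_nondegenerate k F).1 a hc, map_zero])
    exact ⟨ι b, ⟨b, rfl⟩, by rwa [hι, incl_form hk]⟩
  have hr : finrank F (LinearMap.range ι) = 2 * k := by
    rw [LinearMap.finrank_range_of_inj hιi, finrank_space]
  obtain ⟨φ, hφW, hφ⟩ := exists_isometry_between (spB_isAlt m F) (2 * k) (LinearMap.range ι) W
    hr.le hX hW (by rw [hr, hWk])
  set L := φ.comp ι.rangeRestrict
  have hLf : ∀ a b, spB m F (L a) (L b) = spB k F a b := fun a b => (hφ _ _).trans (incl_form hk a b)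
  have hLi : Function.Injective L := by
    rw [← LinearMap.ker_eq_bot, LinearMap.ker_eq_bot']
    intro a ha
    refine (spB_nondegenerate k F).1 a fun b => ?_
    rw [← hLf, ha, map_zero, LinearMap.zero_apply]
  refine ⟨L, Submodule.eq_of_le_of_finrank_eq ?_ ?_, hLi, hLf⟩
  · rintro _ ⟨a, rfl⟩; exact hφW _
  · rw [LinearMap.finrank_range_of_inj hLi, finrank_space, hWk]

theorem main (m k : ℕ) (hk : k ≤ m) (W : Submodule F (Fin m ⊕ Fin m → F)) (hWk : finrank F W = 2 * k)
    (hW : ∀ u ∈ W, (∀ v ∈ W, Cfsg.sympForm m F u v = 0) → u = 0) :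
    Nonempty (↥(Cfsg.stabilizing (Cfsg.spToMat m F) (W : Set (Fin m ⊕ Fin m → F))) ≃*
      Matrix.symplecticGroup (Fin k) F × Matrix.symplecticGroup (Fin (m - k)) F) := by
  classical
  obtain ⟨L, hL, -, hLf⟩ := exists_param m k hk W hWk fun u hu hu0 => by
    by_contra hc
    push Not at hc
    exact hu0 (hW u hu fun v hv => (spB_apply m F u v).symm.trans (hc v hv))
  let Φ : (Fin m ⊕ Fin m → F) →ₗ[F] (Fin k ⊕ Fin k → F) := LinearMap.pi (Sum.elim
    (fun i => spB m F (L (Pi.single (Sum.inr i) 1)))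
    (fun i => -spB m F (L (Pi.single (Sum.inl i) 1))))
  have hΦL : ∀ a, Φ (L a) = a := fun a => funext fun x => by
    rcases x with i | i <;>
      simp [Φ, hLf, spB_eq, Pi.single_apply, Finset.sum_ite_eq', ite_mul, Finset.sum_sub_distrib]
  have hker : ∀ v, Φ v = 0 ↔ ∀ a, spB m F (L a) v = 0 := by
    refine fun v => ⟨fun h a => ?_, fun h => funext fun x => ?_⟩
    · have hb : ((spB m F).flip v).comp L = 0 := by
        refine (Pi.basisFun F (Fin k ⊕ Fin k)).ext fun x => ?_
        rw [Pi.basisFun_apply]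
        rcases x with i | i
        · simpa [Φ] using congrFun h (Sum.inr i)
        · simpa [Φ] using congrFun h (Sum.inl i)
      exact LinearMap.congr_fun hb a
    · rcases x with i | i <;> simp [Φ, h]
  have hrefl : ∀ u v, spB m F u v = 0 → spB m F v u = 0 := fun u v h => (spB_isAlt m F).isRefl u v h
  obtain ⟨hd, horth, hnd2⟩ := Block.complement (β := fun u v => spB m F u v) L Φ hΦL hker hrefl
    (fun u v w => map_add _ v w) (fun v h => (spB_nondegenerate m F).2 v h)
  rw [finrank_space, finrank_space] at hd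
  obtain ⟨L', hL', hinj, hLf'⟩ := exists_param m (m - k) (by omega) (LinearMap.ker Φ) (by omega)
    fun u hu hu0 => by
      by_contra hc
      push Not at hc
      exact hu0 (hnd2 u hu hc)
  have hmem : ∀ b, L' b ∈ LinearMap.ker Φ := fun b => hL' ▸ LinearMap.mem_range_self L' b
  obtain ⟨e, he, heW⟩ := Block.exists_assemble (β := fun u v => spB m F u v) L Φ L' hΦL hmem hinj
    (by rw [finrank_space, finrank_space, finrank_space]; omega) hLf hLf'
    (fun a b => horth a _ (hmem b)) (fun u v w => LinearMap.map_add₂ _ u v w) (fun u v w => map_add _ v w)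
  let toIso : ∀ j, Matrix.symplecticGroup (Fin j) F ≃* Block.Iso (fun u v => spB j F u v) := fun j =>
    spEquiv.trans (MulEquiv.subgroupCongr (SetLike.ext fun _ => Iff.rfl))
  obtain ⟨E⟩ := Block.stab_equiv e he (fun a => map_zero _)
    (β₂ := fun u v => spB (m - k) F u v) (fun b => LinearMap.congr_fun (map_zero (spB (m - k) F)) b)
    (fun c hc => (spB_nondegenerate k F).2 c hc) W
    (fun p => by rw [← hL]; exact heW p) (Cfsg.spToMat m F) (toIso m) (fun h v => spEquiv_apply h v)
  exact ⟨E.trans (MulEquiv.prodCongr (toIso k).symm (toIso (m - k)).symm)⟩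

/-- If W ≤ F^(2m) is a 2k-dimensional subspace on which the symplectic form is non-degenerate, then the stabiliser of W in Sp_2m(F) is isomorphic to Sp_2k(F) × Sp_(2m−2k)(F). -/
theorem result {F : Type*} [Field F] (m k : ℕ) (hk : k ≤ m) (W : Submodule F (Fin m ⊕ Fin m → F)) (hWk : Module.finrank F W = 2 * k) (hW : ∀ u ∈ W, (∀ v ∈ W, Cfsg.sympForm m F u v = 0) → u = 0) : Nonempty (↥(Cfsg.stabilizing (Cfsg.spToMat m F) (W : Set (Fin m ⊕ Fin m → F))) ≃* Matrix.symplecticGroup (Fin k) F × Matrix.symplecticGroup (Fin (m - k)) F) := by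
  exact main m k hk W hWk hW

end Cfsg.Agent.S0776
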