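import Cfsg.Statements.S0777

/-! The normaliser of the diagonal torus of the symplectic group. -/

set_option autoImplicit false
open Cfsg
open scoped Matrix

namespace Cfsg.Agent.S0777

variable {F : Type*} [Field F] {m : ℕ}

/-- The sign attached to a coordinate by `J`. -/
def sgn (F : Type*) [Field F] {m : ℕ} : Fin m ⊕ Fin m → F := Sum.elim (fun _ => -1) (fun _ => 1)

theorem sgn_ne (x : Fin m ⊕ Fin m) : sgn F x ≠ 0 := by rcases x with i | i <;> simp [sgn]

theorem sgn_swap (x : Fin m ⊕ Fin m) : sgn F x.swap = -sgn F x := by rcases x with i | i <;> simp [sgn]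

theorem sgn_sq (x : Fin m ⊕ Fin m) : sgn F x * sgn F x = 1 := by rcases x with i | i <;> simp [sgn]

theorem J_apply (x y : Fin m ⊕ Fin m) :
    Matrix.J (Fin m) F x y = if y = x.swap then sgn F x else 0 := by
  rcases x with i | i <;> rcases y with j | j <;>
    simp [Matrix.J, Matrix.one_apply, sgn, eq_comm] <;> split_ifs <;> simp_all

/-- A monomial matrix. -/
def mono (π : Equiv.Perm (Fin m ⊕ Fin m)) (c : Fin m ⊕ Fin m → F) : Matrix (Fin m ⊕ Fin m) (Fin m ⊕ Fin m) F :=
  Matrix.of fun i j => if i = π j then c j else 0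

/-- The data of a symplectic monomial matrix. -/
def Good (π : Equiv.Perm (Fin m ⊕ Fin m)) (c : Fin m ⊕ Fin m → F) : Prop :=
  (∀ j, π j.swap = (π j).swap) ∧ ∀ j, c j * c j.swap * sgn F (π j) = sgn F j

theorem mono_mem_iff (π : Equiv.Perm (Fin m ⊕ Fin m)) (c : Fin m ⊕ Fin m → F) :
    mono π c ∈ Matrix.symplecticGroup (Fin m) F ↔ Good π c := by
  have hent : ∀ j l, ((mono π c)ᵀ * Matrix.J (Fin m) F * mono π c) j l =
      if π l = (π j).swap then c j * c l * sgn F (π j) else 0 := by
    intro j l
    rw [Matrix.mul_assoc, Matrix.mul_apply,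
      Finset.sum_eq_single (π j) (fun x _ hx => by simp [mono, hx]) (by simp), Matrix.mul_apply,
      Finset.sum_eq_single (π j).swap (fun x _ hx => by rw [J_apply, if_neg hx, zero_mul]) (by simp)]
    simp only [Matrix.transpose_apply, mono, Matrix.of_apply, J_apply, if_true]
    by_cases h : π l = (π j).swap
    · rw [if_pos h, if_pos h.symm]; ring
    · rw [if_neg h, if_neg (Ne.symm h)]; ring
  rw [SymplecticGroup.mem_iff']
  constructor
  · intro h
    have h1 : ∀ j, π j.swap = (π j).swap := fun j => by
      have := congrFun (congrFun h j) j.swap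
      rw [hent, J_apply, if_pos rfl] at this
      by_contra hne
      rw [if_neg hne] at this
      exact sgn_ne j this.symm
    refine ⟨h1, fun j => ?_⟩
    have := congrFun (congrFun h j) j.swap
    rwa [hent, J_apply, if_pos rfl, if_pos (h1 j)] at this
  · rintro ⟨h1, h2⟩
    ext j l
    rw [hent, J_apply, ← h1 j]
    by_cases hl : l = j.swap
    · subst hl; rw [if_pos rfl, if_pos rfl, h2]
    · rw [if_neg (fun e => hl (π.injective e)), if_neg hl]

theorem mono_injective {π π' : Equiv.Perm (Fin m ⊕ Fin m)} {c c' : Fin m ⊕ Fin m → F} (hc : ∀ j, c j ≠ 0)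
    (h : mono π c = mono π' c') : π = π' ∧ c = c' := by
  have h1 : ∀ j, π j = π' j ∧ c j = c' j := fun j => by
    have := congrFun (congrFun h (π j)) j
    simp only [mono, Matrix.of_apply, if_true] at this
    by_cases e : π j = π' j
    · rw [if_pos e] at this; exact ⟨e, this⟩
    · rw [if_neg e] at this; exact absurd this (hc j)
  exact ⟨Equiv.ext fun j => (h1 j).1, funext fun j => (h1 j).2⟩

theorem Good.ne_zero {π : Equiv.Perm (Fin m ⊕ Fin m)} {c : Fin m ⊕ Fin m → F} (h : Good π c) (j : Fin m ⊕ Fin m) :
    c j ≠ 0 := fun e => sgn_ne (F := F) j (by rw [← h.2 j, e, zero_mul, zero_mul])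

/-- The index of a coordinate. -/
def idx (x : Fin m ⊕ Fin m) : Fin m := Sum.elim id id x
/-- The side of a coordinate. -/
def side (x : Fin m ⊕ Fin m) : Bool := Sum.elim (fun _ => false) (fun _ => true) x
/-- The coordinate with a given index and side. -/
def pt (i : Fin m) (b : Bool) : Fin m ⊕ Fin m := if b then Sum.inr i else Sum.inl i

theorem pt_idx (x : Fin m ⊕ Fin m) : pt (idx x) (side x) = x := by rcases x with i | i <;> rfl
theorem idx_pt (i : Fin m) (b : Bool) : idx (pt i b) = i := by cases b <;> rfl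
theorem side_pt (i : Fin m) (b : Bool) : side (pt i b) = b := by cases b <;> rfl
theorem pt_swap (i : Fin m) (b : Bool) : (pt i b).swap = pt i (!b) := by cases b <;> rfl

/-- A signed permutation. -/
def sperm (σ : Equiv.Perm (Fin m)) (e : Fin m → Bool) : Equiv.Perm (Fin m ⊕ Fin m) where
  toFun x := pt (σ (idx x)) (xor (side x) (e (idx x)))
  invFun y := pt (σ.symm (idx y)) (xor (side y) (e (σ.symm (idx y))))
  left_inv x := by simp [idx_pt, side_pt, pt_idx]
  right_inv y := by simp [idx_pt, side_pt, pt_idx]

theorem sperm_comm (σ : Equiv.Perm (Fin m)) (e : Fin m → Bool) (x : Fin m ⊕ Fin m) :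
    sperm σ e x.swap = (sperm σ e x).swap := by
  show pt _ _ = (pt _ _).swap
  rw [pt_swap]
  rcases x with i | i <;> simp [idx, side]

theorem exists_sperm (π : Equiv.Perm (Fin m ⊕ Fin m)) (h : ∀ j, π j.swap = (π j).swap) :
    ∃ σ e, sperm σ e = π := by
  have hinj : Function.Injective fun i : Fin m => idx (π (Sum.inl i)) := by
    intro i j hij
    have h2 : π (Sum.inl i) = π (Sum.inl j) ∨ π (Sum.inl i) = (π (Sum.inl j)).swap := by
      revert hij
      rcases hi : π (Sum.inl i) with a | a <;> rcases hj : π (Sum.inl j) with b | b <;> simp [hi, hj, idx]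
    rcases h2 with h2 | h2
    · simpa using π.injective h2
    · rw [← h] at h2; exact absurd (π.injective h2) (by simp)
  refine ⟨Equiv.ofBijective _ (Finite.injective_iff_bijective.1 hinj), fun i => side (π (Sum.inl i)),
    Equiv.ext fun x => ?_⟩
  show pt _ _ = π x
  rcases x with i | i
  · simp [idx, side]
    exact pt_idx _
  · rw [show π (Sum.inr i) = (π (Sum.inl i)).swap from h (Sum.inl i)]
    conv_rhs => rw [← pt_idx (π (Sum.inl i)), pt_swap]
    simp [idx, side]

theorem mem_stabilizing {H : Type*} [Group H] {ι : Type} [Fintype ι] [DecidableEq ι] {R : Type*} [CommRing R]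
    (f : H →* Matrix ι ι R) (S : Set (ι → R)) (h : H) :
    h ∈ Cfsg.stabilizing f S ↔ ∀ v, v ∈ S ↔ f h *ᵥ v ∈ S := Iff.rfl

theorem spToMat_apply (A : Matrix.symplecticGroup (Fin m) F) :
    Cfsg.spToMat m F A = (A : Matrix (Fin m ⊕ Fin m) (Fin m ⊕ Fin m) F) := rfl

set_option maxHeartbeats 400000 in
theorem main [Fintype F] {q : ℕ} (hF : Fintype.card F = q) (hq : 4 ≤ q) :
    Nat.card ↥(Subgroup.normalizer (⨅ i : Fin m ⊕ Fin m, Cfsg.stabilizing (Cfsg.spToMat m F)
      ((Submodule.span F {(Pi.single i (1 : F) : Fin m ⊕ Fin m → F)} : Submodule F (Fin m ⊕ Fin m → F)) :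
        Set (Fin m ⊕ Fin m → F)) : Set (Matrix.symplecticGroup (Fin m) F))) =
      2 ^ m * Nat.factorial m * (q - 1) ^ m := by
  classical
  set T := (⨅ i : Fin m ⊕ Fin m, Cfsg.stabilizing (Cfsg.spToMat m F)
      ((Submodule.span F {(Pi.single i (1 : F) : Fin m ⊕ Fin m → F)} : Submodule F (Fin m ⊕ Fin m → F)) :
        Set (Fin m ⊕ Fin m → F))) with hTdef
  have hT : ∀ A : Matrix.symplecticGroup (Fin m) F, A ∈ T ↔
      ∀ i j, i ≠ j → (A : Matrix (Fin m ⊕ Fin m) (Fin m ⊕ Fin m) F) i j = 0 := by
    intro A
    rw [hTdef, Subgroup.mem_iInf]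
    constructor
    · intro h i j hij
      have hm := ((mem_stabilizing _ _ _).1 (h j) (Pi.single j (1 : F))).1 (Submodule.mem_span_singleton_self _)
      rw [spToMat_apply, SetLike.mem_coe] at hm
      obtain ⟨c, hc⟩ := Submodule.mem_span_singleton.1 hm
      have := congrFun hc i
      simp [hij] at this
      exact this.symm
    · intro h j
      rw [mem_stabilizing]
      intro v
      rw [spToMat_apply, SetLike.mem_coe, SetLike.mem_coe]
      have hd : (A : Matrix (Fin m ⊕ Fin m) (Fin m ⊕ Fin m) F) =
          Matrix.diagonal fun k => (A : Matrix (Fin m ⊕ Fin m) (Fin m ⊕ Fin m) F) k k := by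
        ext i k
        by_cases hik : i = k
        · subst hik; simp
        · rw [h i k hik, Matrix.diagonal_apply_ne _ hik]
      have hne : ∀ k, (A : Matrix (Fin m ⊕ Fin m) (Fin m ⊕ Fin m) F) k k ≠ 0 := fun k hk => by
        have hu := SymplecticGroup.symplectic_det A.2
        rw [hd, Matrix.det_diagonal] at hu
        exact hu.ne_zero (Finset.prod_eq_zero (Finset.mem_univ k) hk)
      have key : ∀ w : Fin m ⊕ Fin m → F, w ∈ Submodule.span F {Pi.single j (1 : F)} ↔ ∀ k, k ≠ j → w k = 0 := by
        intro w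
        rw [Submodule.mem_span_singleton]
        constructor
        · rintro ⟨c, rfl⟩ k hk; simp [Pi.single_apply, hk]
        · intro hw
          refine ⟨w j, funext fun k => ?_⟩
          by_cases hk : k = j
          · subst hk; simp
          · simp [Pi.single_apply, hk, hw k hk]
      rw [key, key]
      refine forall₂_congr fun k _ => ?_
      conv_rhs => rw [hd, Matrix.mulVec_diagonal]
      simp [hne k]
  rw [show (⨅ i : Fin m ⊕ Fin m, ((Cfsg.stabilizing (Cfsg.spToMat m F)
      ((Submodule.span F {(Pi.single i (1 : F) : Fin m ⊕ Fin m → F)} : Submodule F (Fin m ⊕ Fin m → F)) :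
        Set (Fin m ⊕ Fin m → F))) : Set (Matrix.symplecticGroup (Fin m) F))) = (T : Set (Matrix.symplecticGroup (Fin m) F)) by
    rw [hTdef, Subgroup.coe_iInf, Set.iInf_eq_iInter]]
  -- separating elements of the torus
  have hsep : ∀ i j : Fin m ⊕ Fin m, i ≠ j → ∃ t ∈ T,
      (t : Matrix (Fin m ⊕ Fin m) (Fin m ⊕ Fin m) F) i i ≠ (t : Matrix (Fin m ⊕ Fin m) (Fin m ⊕ Fin m) F) j j := by
    intro i j hij
    obtain ⟨a, ha0, ha⟩ : ∃ a : F, a ≠ 0 ∧ a * a ≠ 1 := by
      by_contra hc
      push Not at hc
      have hsub : (Finset.univ : Finset F) ⊆ {0, 1, -1} := fun x _ => by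
        by_cases hx : x = 0
        · simp [hx]
        · simpa [hx] using mul_self_eq_one_iff.1 (hc x hx)
      have := (Finset.card_le_card hsub).trans Finset.card_le_three
      rw [Finset.card_univ, hF] at this
      omega
    let c : Fin m ⊕ Fin m → F := fun x => if x = i then a else if x = i.swap then a⁻¹ else 1
    have hne : i.swap ≠ i := by rcases i with i | i <;> simp
    have hc : Good 1 c := ⟨fun _ => rfl, fun x => by
      have : c x * c x.swap = 1 := by
        simp only [c]
        by_cases h1 : x = i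
        · subst h1; simp [hne, ha0]
        by_cases h2 : x = i.swap
        · subst h2; simp [hne, ha0]
        · have h3 : x.swap ≠ i := fun e => h2 (by rw [← e, Sum.swap_swap])
          have h4 : x.swap ≠ i.swap := fun e => h1 (by rw [← Sum.swap_swap x, e, Sum.swap_swap])
          simp [h1, h2, h3, h4]
      rw [this, one_mul]; rfl⟩
    refine ⟨⟨mono 1 c, (mono_mem_iff 1 c).2 hc⟩, (hT _).2 fun k l hkl => by simp [mono, hkl], ?_⟩
    simp only [mono, Matrix.of_apply, Equiv.Perm.one_apply, if_true, c, if_neg hij.symm]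
    split_ifs with h2
    · exact fun e => ha (by rw [← mul_inv_cancel₀ ha0, ← e])
    · exact fun e => ha (by rw [e, one_mul])
  have hN : ∀ g : Matrix.symplecticGroup (Fin m) F, g ∈ Subgroup.normalizer (T : Set (Matrix.symplecticGroup (Fin m) F)) ↔
      ∃ π c, Good π c ∧ mono π c = (g : Matrix (Fin m ⊕ Fin m) (Fin m ⊕ Fin m) F) := by
    intro g
    set G := (g : Matrix (Fin m ⊕ Fin m) (Fin m ⊕ Fin m) F) with hG
    have hdet : G.det ≠ 0 := (SymplecticGroup.symplectic_det g.2).ne_zero
    constructor
    · intro hg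
      have hrow : ∀ r i j, G r i ≠ 0 → G r j ≠ 0 → i = j := by
        intro r i j hi hj
        by_contra hij
        obtain ⟨t, ht, htij⟩ := hsep i j hij
        set d := g * t * g⁻¹ with hd
        have hdT : d ∈ T := (Subgroup.mem_normalizer_iff.1 hg t).1 ht
        have he : d * g = g * t := by rw [hd, inv_mul_cancel_right]
        have key : ∀ l, (d : Matrix (Fin m ⊕ Fin m) (Fin m ⊕ Fin m) F) r r * G r l =
            G r l * (t : Matrix (Fin m ⊕ Fin m) (Fin m ⊕ Fin m) F) l l := by
          intro l
          have h := congrArg (fun z : Matrix.symplecticGroup (Fin m) F =>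
            (z : Matrix (Fin m ⊕ Fin m) (Fin m ⊕ Fin m) F) r l) he
          simp only [Submonoid.coe_mul, Matrix.mul_apply] at h
          rw [Finset.sum_eq_single r (fun b _ hb => by rw [(hT d).1 hdT r b hb.symm, zero_mul]) (by simp),
            Finset.sum_eq_single l (fun b _ hb => by rw [(hT t).1 ht b l hb, mul_zero]) (by simp)] at h
          exact h
        refine htij (mul_left_cancel₀ hi ?_)
        rw [← key i]
        have h2 := key j
        rw [mul_comm (G r j)] at h2
        rw [mul_right_cancel₀ hj h2, mul_comm]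
      have hex : ∀ r, ∃ i, G r i ≠ 0 := fun r => by
        by_contra hc
        push Not at hc
        exact hdet (Matrix.det_eq_zero_of_row_eq_zero r hc)
      choose f hf using hex
      have hfinj : Function.Injective f := by
        intro a b hab
        by_contra hne
        apply hdet
        rw [← Matrix.det_updateRow_add_smul_self G hne (-(G a (f a) / G b (f a)))]
        refine Matrix.det_eq_zero_of_row_eq_zero a fun l => ?_
        rw [Matrix.updateRow_self, Pi.add_apply, Pi.smul_apply, smul_eq_mul]
        by_cases hl : l = f a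
        · subst hl
          rw [neg_mul, div_mul_cancel₀ _ (by rw [hab]; exact hf b), add_neg_cancel]
        · have h1 : G a l = 0 := by_contra fun h => hl (hrow a l (f a) h (hf a))
          have h2 : G b l = 0 := by_contra fun h => hl ((hrow b l (f b) h (hf b)).trans hab.symm)
          rw [h1, h2, mul_zero, add_zero]
      let π : Equiv.Perm (Fin m ⊕ Fin m) := (Equiv.ofBijective f (Finite.injective_iff_bijective.1 hfinj)).symm
      have hπ : ∀ r, π (f r) = r := fun r => Equiv.ofBijective_symm_apply_apply f _ r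
      refine ⟨π, fun j => G (π j) j, ?_, ?_⟩
      · rw [← mono_mem_iff]
        convert g.2 using 1
        ext r l
        simp only [mono, Matrix.of_apply]
        split_ifs with h
        · rw [h]
        · by_contra hne
          exact h (by rw [hrow r l (f r) (Ne.symm hne) (hf r), hπ])
      · ext r l
        simp only [mono, Matrix.of_apply]
        split_ifs with h
        · rw [h]
        · by_contra hne
          exact h (by rw [hrow r l (f r) (Ne.symm hne) (hf r), hπ])
    · rintro ⟨π, c, hgood, hmono⟩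
      refine Subgroup.mem_normalizer_iff.2 fun t => ?_
      set d := g * t * g⁻¹ with hd
      have he : d * g = g * t := by rw [hd, inv_mul_cancel_right]
      have key : ∀ i l, (d : Matrix (Fin m ⊕ Fin m) (Fin m ⊕ Fin m) F) i (π l) * c l =
          c (π.symm i) * (t : Matrix (Fin m ⊕ Fin m) (Fin m ⊕ Fin m) F) (π.symm i) l := by
        intro i l
        have h := congrArg (fun z : Matrix.symplecticGroup (Fin m) F =>
            (z : Matrix (Fin m ⊕ Fin m) (Fin m ⊕ Fin m) F) i l) he
        simp only [Submonoid.coe_mul, Matrix.mul_apply] at h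
        rw [hG] at hmono
        rw [← hmono] at h
        rw [Finset.sum_eq_single (π l) (fun b _ hb => by simp [mono, hb]) (by simp),
          Finset.sum_eq_single (π.symm i) (fun b _ hb => by
            simp only [mono, Matrix.of_apply]
            rw [if_neg (fun e => hb (by rw [e, π.symm_apply_apply])), zero_mul]) (by simp)] at h
        simpa [mono] using h
      rw [hT, hT]
      constructor
      · intro ht i k hik
        obtain ⟨l, rfl⟩ := π.surjective k
        have := key i l
        rw [ht _ l (fun e => hik (by rw [← e, π.apply_symm_apply])), mul_zero] at this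
        exact (mul_eq_zero.1 this).resolve_right (hgood.ne_zero l)
      · intro hd' i k hik
        have := key (π i) k
        rw [π.symm_apply_apply, hd' _ _ (fun e => hik (π.injective e)), zero_mul] at this
        exact (mul_eq_zero.1 this.symm).resolve_left (hgood.ne_zero i)
  -- count
  let D := {p : Equiv.Perm (Fin m ⊕ Fin m) × (Fin m ⊕ Fin m → F) // Good p.1 p.2}
  let Φ : D → ↥(Subgroup.normalizer (T : Set (Matrix.symplecticGroup (Fin m) F))) := fun p =>
    ⟨⟨mono p.1.1 p.1.2, (mono_mem_iff _ _).2 p.2⟩, (hN _).2 ⟨p.1.1, p.1.2, p.2, rfl⟩⟩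
  have hΦ : Function.Bijective Φ := by
    constructor
    · intro p p' h
      have h1 := mono_injective p.2.ne_zero (congrArg (fun z : ↥(Subgroup.normalizer (T : Set (Matrix.symplecticGroup (Fin m) F))) =>
        ((z : Matrix.symplecticGroup (Fin m) F) : Matrix (Fin m ⊕ Fin m) (Fin m ⊕ Fin m) F)) h)
      exact Subtype.ext (Prod.ext h1.1 h1.2)
    · intro g
      obtain ⟨π, c, h, he⟩ := (hN g.1).1 g.2
      exact ⟨⟨(π, c), h⟩, Subtype.ext (Subtype.ext he)⟩
  rw [← Nat.card_congr (Equiv.ofBijective Φ hΦ)]
  let mkc : Equiv.Perm (Fin m ⊕ Fin m) → (Fin m → Fˣ) → (Fin m ⊕ Fin m → F) := fun π a =>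
    Sum.elim (fun i => (a i : F)) (fun i => -(sgn F (π (Sum.inl i)) * (a i : F)⁻¹))
  let Ψ : (Equiv.Perm (Fin m) × (Fin m → Bool)) × (Fin m → Fˣ) → D := fun x =>
    ⟨(sperm x.1.1 x.1.2, mkc (sperm x.1.1 x.1.2) x.2), fun j => sperm_comm _ _ j, fun j => by
      rcases j with i | i
      · show (x.2 i : F) * -(sgn F _ * (x.2 i : F)⁻¹) * sgn F _ = -1
        have := sgn_sq (F := F) (sperm x.1.1 x.1.2 (Sum.inl i))
        field_simp
        linear_combination -this
      · show -(sgn F _ * (x.2 i : F)⁻¹) * (x.2 i : F) * sgn F _ = 1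
        rw [show sperm x.1.1 x.1.2 (Sum.inr i) = (sperm x.1.1 x.1.2 (Sum.inl i)).swap from sperm_comm _ _ (Sum.inl i),
          sgn_swap]
        have := sgn_sq (F := F) (sperm x.1.1 x.1.2 (Sum.inl i))
        field_simp
        linear_combination this⟩
  have hΨ : Function.Bijective Ψ := by
    constructor
    · intro x y h
      have h1 := congrArg (fun p : D => p.1.1) h
      have h2 := congrArg (fun p : D => p.1.2) h
      have hσ : ∀ i, x.1.1 i = y.1.1 i ∧ x.1.2 i = y.1.2 i := fun i => by
        have h3 := congrArg (fun π : Equiv.Perm (Fin m ⊕ Fin m) => π (Sum.inl i)) h1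
        change pt _ _ = pt _ _ at h3
        simp only [idx, side, Sum.elim_inl, id_eq, Bool.false_xor] at h3
        exact ⟨by simpa [idx_pt] using congrArg idx h3, by simpa [side_pt] using congrArg side h3⟩
      refine Prod.ext (Prod.ext (Equiv.ext fun i => (hσ i).1) (funext fun i => (hσ i).2)) (funext fun i => ?_)
      exact Units.ext (congrFun h2 (Sum.inl i))
    · rintro ⟨⟨π, c⟩, hgood⟩
      obtain ⟨σ, e, hσ⟩ := exists_sperm π hgood.1
      refine ⟨((σ, e), fun i => Units.mk0 (c (Sum.inl i)) (hgood.ne_zero _)), Subtype.ext (Prod.ext hσ ?_)⟩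
      funext j
      rcases j with i | i
      · rfl
      · show -(sgn F (sperm σ e (Sum.inl i)) * (c (Sum.inl i))⁻¹) = c (Sum.inr i)
        rw [hσ]
        have h : c (Sum.inl i) * c (Sum.inr i) * sgn F (π (Sum.inl i)) = -1 := hgood.2 (Sum.inl i)
        have := sgn_sq (F := F) (π (Sum.inl i))
        have h0 : c (Sum.inl i) ≠ 0 := hgood.ne_zero _
        field_simp
        linear_combination -(sgn F (π (Sum.inl i))) * h + c (Sum.inl i) * c (Sum.inr i) * this
  rw [← Nat.card_congr (Equiv.ofBijective Ψ hΨ), Nat.card_prod, Nat.card_prod, Nat.card_perm, Nat.card_fun,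
    Nat.card_fun, Nat.card_fin, Nat.card_units, Nat.card_eq_fintype_card (α := Bool), Fintype.card_bool,
    Nat.card_eq_fintype_card (α := F), hF]
  ring

/-- Weyl group of type C_m: for q ≥ 4 the diagonal matrices of Sp_2m(q) form a torus T ≅ (C_(q−1))^m (the elements stabilising every coordinate axis), and the normaliser of T in Sp_2m(q) has order 2^m · m! · (q − 1)^m. -/
theorem result {F : Type*} [Field F] [Fintype F] {q : ℕ} (hF : Fintype.card F = q) (hq : 4 ≤ q) (m : ℕ) : Nat.card ↥(Subgroup.normalizer (⨅ i : Fin m ⊕ Fin m, Cfsg.stabilizing (Cfsg.spToMat m F) ((Submodule.span F {(Pi.single i (1 : F) : Fin m ⊕ Fin m → F)} : Submodule F (Fin m ⊕ Fin m → F)) : Set (Fin m ⊕ Fin m → F)) : Set (Matrix.symplecticGroup (Fin m) F))) = 2 ^ m * Nat.factorial m * (q - 1) ^ m := by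
  exact main hF hq

end Cfsg.Agent.S0777
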