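import Cfsg.Statements.S0778


set_option autoImplicit false
open Cfsg

namespace Cfsg.Agent.S0778

open scoped Matrix

theorem levi_mem {F : Type*} [Field F] {m : ℕ} (g : GL (Fin m) F) :
    Matrix.fromBlocks g.val 0 0 ((g⁻¹ : GL (Fin m) F).val)ᵀ ∈ Matrix.symplecticGroup (Fin m) F := by
  rw [SymplecticGroup.mem_iff, Matrix.J, Matrix.fromBlocks_multiply, Matrix.fromBlocks_transpose,
    Matrix.fromBlocks_multiply]
  simp [← Matrix.transpose_mul]

theorem levi_equiv {F : Type*} [Field F] (m : ℕ) : Nonempty (↥(Cfsg.stabilizing (Cfsg.spToMat m F) {v : Fin m ⊕ Fin m → F | ∀ i : Fin m, v (Sum.inr i) = 0} ⊓ Cfsg.stabilizing (Cfsg.spToMat m F) {v : Fin m ⊕ Fin m → F | ∀ i : Fin m, v (Sum.inl i) = 0}) ≃* Matrix.GeneralLinearGroup (Fin m) F) := by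
  classical
  let f : GL (Fin m) F →* Matrix.symplecticGroup (Fin m) F := MonoidHom.mk'
    (fun g => ⟨_, levi_mem g⟩) (fun g h => Subtype.ext (by
      show Matrix.fromBlocks _ 0 0 _ = Matrix.fromBlocks _ 0 0 _ * Matrix.fromBlocks _ 0 0 _
      rw [Matrix.fromBlocks_multiply, mul_inv_rev, Units.val_mul, Units.val_mul,
        Matrix.transpose_mul]
      simp))
  have hf : Function.Injective f := fun g h e => by
    have e' : Matrix.fromBlocks g.val 0 0 _ = Matrix.fromBlocks h.val 0 0 _ := congrArg Subtype.val e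
    exact Units.ext (Matrix.fromBlocks_inj.mp e').1
  have hact : ∀ (A B : Matrix (Fin m) (Fin m) F) (v : Fin m ⊕ Fin m → F),
      Matrix.fromBlocks A 0 0 B *ᵥ v = Sum.elim (A *ᵥ (v ∘ Sum.inl)) (B *ᵥ (v ∘ Sum.inr)) :=
    fun A B v => by simp [Matrix.fromBlocks_mulVec]
  have hr : f.range = Cfsg.stabilizing (Cfsg.spToMat m F) {v : Fin m ⊕ Fin m → F | ∀ i : Fin m, v (Sum.inr i) = 0} ⊓
      Cfsg.stabilizing (Cfsg.spToMat m F) {v : Fin m ⊕ Fin m → F | ∀ i : Fin m, v (Sum.inl i) = 0} := by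
    refine le_antisymm ?_ fun x hx => ?_
    · rintro _ ⟨g, rfl⟩
      refine ⟨fun v => ?_, fun v => ?_⟩
      · show (∀ i, v (Sum.inr i) = 0) ↔ ∀ i, (Matrix.fromBlocks _ 0 0 _ *ᵥ v) (Sum.inr i) = 0
        rw [hact]
        simp only [Sum.elim_inr]
        refine ⟨fun h i => ?_, fun h i => ?_⟩
        · rw [show v ∘ Sum.inr = 0 from funext h, Matrix.mulVec_zero]; rfl
        · have : (g.val)ᵀ *ᵥ (((g⁻¹ : GL (Fin m) F).val)ᵀ *ᵥ (v ∘ Sum.inr)) = v ∘ Sum.inr := by
            rw [Matrix.mulVec_mulVec, ← Matrix.transpose_mul, Units.inv_mul, Matrix.transpose_one,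
              Matrix.one_mulVec]
          rw [show ((g⁻¹ : GL (Fin m) F).val)ᵀ *ᵥ (v ∘ Sum.inr) = 0 from funext h,
            Matrix.mulVec_zero] at this
          exact (congrFun this i).symm
      · show (∀ i, v (Sum.inl i) = 0) ↔ ∀ i, (Matrix.fromBlocks _ 0 0 _ *ᵥ v) (Sum.inl i) = 0
        rw [hact]
        simp only [Sum.elim_inl]
        refine ⟨fun h i => ?_, fun h i => ?_⟩
        · rw [show v ∘ Sum.inl = 0 from funext h, Matrix.mulVec_zero]; rfl
        · have : (g⁻¹ : GL (Fin m) F).val *ᵥ (g.val *ᵥ (v ∘ Sum.inl)) = v ∘ Sum.inl := by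
            rw [Matrix.mulVec_mulVec, Units.inv_mul, Matrix.one_mulVec]
          rw [show g.val *ᵥ (v ∘ Sum.inl) = 0 from funext h, Matrix.mulVec_zero] at this
          exact (congrFun this i).symm
    · obtain ⟨h1, h2⟩ := hx
      obtain ⟨M, hM⟩ := x
      have hC : M.toBlocks₂₁ = 0 := by
        ext i j
        have := ((h1 (Pi.single (Sum.inl j) 1)).mp (fun k => by simp [Pi.single_apply])) i
        simpa [Cfsg.spToMat, Matrix.toBlocks₂₁] using this
      have hB : M.toBlocks₁₂ = 0 := by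
        ext i j
        have := ((h2 (Pi.single (Sum.inr j) 1)).mp (fun k => by simp [Pi.single_apply])) i
        simpa [Cfsg.spToMat, Matrix.toBlocks₁₂] using this
      have hMeq : M = Matrix.fromBlocks M.toBlocks₁₁ 0 0 M.toBlocks₂₂ := by
        conv_lhs => rw [← Matrix.fromBlocks_toBlocks M, hC, hB]
      have hJ := hM
      rw [hMeq, SymplecticGroup.mem_iff, Matrix.J, Matrix.fromBlocks_transpose,
        Matrix.fromBlocks_multiply, Matrix.fromBlocks_multiply] at hJ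
      simp at hJ
      obtain ⟨e1, e2⟩ := hJ
      refine ⟨⟨M.toBlocks₁₁, M.toBlocks₂₂ᵀ, e1, by
        rw [mul_eq_one_comm] at e1; exact e1⟩, Subtype.ext ?_⟩
      show Matrix.fromBlocks _ 0 0 _ = M
      conv_rhs => rw [hMeq]
      simp
  exact ⟨((MonoidHom.ofInjective hf).trans (MulEquiv.subgroupCongr hr)).symm⟩

/-- The elements of Sp_2m(F) stabilising both W = ⟨e_1..e_m⟩ and U = ⟨f_1..f_m⟩ form a subgroup isomorphic to GL_m(F) (block-diagonal matrices diag(X, X^(−ᵀ)) up to the sign convention of J), for m ≥ 1 or m = 0 alike. -/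
theorem result {F : Type*} [Field F] (m : ℕ) : Nonempty (↥(Cfsg.stabilizing (Cfsg.spToMat m F) {v : Fin m ⊕ Fin m → F | ∀ i : Fin m, v (Sum.inr i) = 0} ⊓ Cfsg.stabilizing (Cfsg.spToMat m F) {v : Fin m ⊕ Fin m → F | ∀ i : Fin m, v (Sum.inl i) = 0}) ≃* Matrix.GeneralLinearGroup (Fin m) F) := by
  classical
  exact levi_equiv m

end Cfsg.Agent.S0778
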