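import Cfsg.Statements.S0779
import Cfsg.Agent.Lib.Linear.HermStandard
open scoped Matrix

set_option autoImplicit false
open Cfsg

namespace Cfsg.Agent.S0779

/-- Unitary transvections: let |F| = q², h the standard Hermitian form Σ x_i y_i^q and v ≠ 0 with h(v, v) = 0. The linear map x ↦ x + c h(x, v) v is an isometry of h if and only if c = 0 or c^(q−1) = −1. -/
theorem result {F : Type*} [Field F] [Fintype F] {q : ℕ} (hF : Fintype.card F = q ^ 2) (n : ℕ) (v : Fin n → F) (hv : v ≠ 0) (hv0 : Cfsg.hermForm n F q v v = 0) (c : F) : (∀ x y : Fin n → F, Cfsg.hermForm n F q ((Cfsg.unitaryTransvection n q v c).mulVec x) ((Cfsg.unitaryTransvection n q v c).mulVec y) = Cfsg.hermForm n F q x y) ↔ (c = 0 ∨ c ^ (q - 1) = -1) := by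
  have hq := Cfsg.Lib.Linear.Herm.two_le_q hF
  have hmv : ∀ x, Cfsg.unitaryTransvection n q v c *ᵥ x = x + (c * Cfsg.Lib.Linear.Herm.hB hF n v x) • v := by
    intro x
    rw [Cfsg.unitaryTransvection, Matrix.add_mulVec, Matrix.one_mulVec, Matrix.smul_mulVec,
      Matrix.vecMulVec_mulVec, op_smul_eq_smul, smul_smul, Cfsg.Lib.Linear.Herm.hB_apply, Cfsg.hermForm, dotProduct]
    simp [mul_comm]
  have hS := Cfsg.Lib.Linear.Herm.hB_isSymm hF n
  have hvv : Cfsg.Lib.Linear.Herm.hB hF n v v = 0 := hv0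
  have hexp : ∀ x y, Cfsg.Lib.Linear.Herm.hB hF n (x + (c * Cfsg.Lib.Linear.Herm.hB hF n v x) • v)
      (y + (c * Cfsg.Lib.Linear.Herm.hB hF n v y) • v) = Cfsg.Lib.Linear.Herm.hB hF n x y +
        (c + Cfsg.Lib.Linear.Herm.frob hF c) * (Cfsg.Lib.Linear.Herm.hB hF n x v * Cfsg.Lib.Linear.Herm.hB hF n v y) := fun x y => by
    simp only [map_add, LinearMap.map_smulₛₗ, LinearMap.add_apply, LinearMap.smul_apply, smul_eq_mul,
      map_mul, hS.eq v x, hvv, RingHom.id_apply]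
    ring
  have hiff : (c = 0 ∨ c ^ (q - 1) = -1) ↔ c + Cfsg.Lib.Linear.Herm.frob hF c = 0 := by
    rw [Cfsg.Lib.Linear.Herm.frob_apply]
    have : c + c ^ q = c * (1 + c ^ (q - 1)) := by
      rw [mul_add, mul_one, ← pow_succ', show q - 1 + 1 = q by omega]
    rw [this, mul_eq_zero, add_comm, add_eq_zero_iff_eq_neg]
  rw [hiff]
  constructor
  · intro h
    obtain ⟨i, hi⟩ := Function.ne_iff.1 hv
    obtain ⟨x, hx⟩ : ∃ x, Cfsg.Lib.Linear.Herm.hB hF n v x ≠ 0 :=
      ⟨Pi.single i 1, by rw [Cfsg.Lib.Linear.Herm.hB_single_right, one_mul]; exact pow_ne_zero _ hi⟩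
    have h2 := h x x
    rw [hmv, ← Cfsg.Lib.Linear.Herm.hB_apply hF, hexp, ← Cfsg.Lib.Linear.Herm.hB_apply hF, add_eq_left] at h2
    exact (mul_eq_zero.1 h2).resolve_right
      (mul_ne_zero (fun e => hx (hS.isRefl _ _ e)) hx)
  · intro h x y
    rw [hmv, hmv, ← Cfsg.Lib.Linear.Herm.hB_apply hF, hexp, h, zero_mul, add_zero]
    rfl

end Cfsg.Agent.S0779
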