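import Cfsg.Statements.S0781
import Cfsg.Agent.Lib.Linear.PSUSimple

/-! Unitary transvections are commutators in the special unitary group. -/

set_option autoImplicit false
open Cfsg Module
open scoped Matrix commutatorElement
open Cfsg.Lib.Linear.Herm

namespace Cfsg.Agent.S0781

variable {F : Type*} [Field F] [Fintype F] {q : ℕ}

theorem three_commutator {V : Type*} [AddCommGroup V] [Module F V] [FiniteDimensional F V]
    {σ : F →+* F} {B : V →ₛₗ[σ] V →ₗ[F] F} (C : Three.Space B) (hnorm : ∃ a : F, a ≠ 0 ∧ a * σ a ≠ 1)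
    {w : V} (l : F) (h : l + σ l + σ l * l * B w w = 0) (hw : B w w = 0) (hw0 : w ≠ 0) :
    ∃ t ∈ tvGroup B, ∃ x ∈ tvGroup B, qrefl w l h = ⁅t, x⁆ := by
  obtain ⟨a, ha0, ha⟩ := hnorm
  obtain ⟨t, ht, htw⟩ := Three.exists_map C hw hw0 (e' := a • w)
    (by simp [LinearMap.map_smulₛₗ, hw]) (smul_ne_zero ha0 hw0)
  have hν : a * σ a - 1 ≠ 0 := sub_ne_zero.2 ha
  set m := l / (a * σ a - 1) with hm
  have hh : m + σ m + σ m * m * B w w = 0 := by
    rw [hw, mul_zero, add_zero] at h ⊢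
    rw [hm, map_div₀, map_sub, map_mul, C.invol, map_one, mul_comm (σ a), ← add_div, h, zero_div]
  refine ⟨t, ht, qrefl w m hh, Subgroup.subset_closure ⟨w, m, hh, hw, rfl⟩, ?_⟩
  rw [commutatorElement_def, qrefl_conj (tvGroup_le_iso C.symm ht), eq_mul_inv_iff_mul_eq]
  refine LinearEquiv.ext fun x => ?_
  have hlm : l = m * (a * σ a - 1) := (div_mul_cancel₀ _ hν).symm
  simp only [LinearEquiv.mul_apply, qrefl_apply, htw, map_add, LinearMap.map_smulₛₗ,
    LinearMap.smul_apply, RingHom.id_apply, smul_eq_mul, hw, hlm]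
  module

theorem exists_norm_ne_one (hF : Fintype.card F = q ^ 2) (hq : 3 ≤ q) :
    ∃ a : F, a ≠ 0 ∧ a * frob hF a ≠ 1 := by
  obtain ⟨g, hg⟩ := IsCyclic.exists_ofOrder_eq_natCard (α := Fˣ)
  refine ⟨(g : F), g.ne_zero, fun h => ?_⟩
  have h1 : g ^ (q + 1) = 1 := Units.ext (by
    rw [Units.val_pow_eq_pow_val, pow_succ', ← frob_apply hF]; exact h)
  have h2 := Nat.le_of_dvd (by omega) (orderOf_dvd_of_pow_eq_one h1)
  rw [hg, card_units_sq hF] at h2
  have : 2 * (q + 1) ≤ (q + 1) * (q - 1) := by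
    rw [mul_comm 2]; exact Nat.mul_le_mul_left _ (by omega)
  omega

theorem main (hF : Fintype.card F = q ^ 2) (n : ℕ) (hn : 4 ≤ n ∨ (n = 3 ∧ 3 ≤ q)) (A : ↥(Cfsg.SU n F q))
    (v : Fin n → F) (c : F) (hv0 : Cfsg.hermForm n F q v v = 0)
    (hA : ((A : Matrix.SpecialLinearGroup (Fin n) F) : Matrix (Fin n) (Fin n) F) = Cfsg.unitaryTransvection n q v c) :
    A ∈ commutatorSet ↥(Cfsg.SU n F q) := by
  set ψ := suToLin n F q
  have hψ : ∀ x, ψ A x = x + (c * hB hF n v x) • v := fun x => by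
    show ((A : Matrix.SpecialLinearGroup (Fin n) F) : Matrix (Fin n) (Fin n) F) *ᵥ x = _
    rw [hA, Cfsg.unitaryTransvection, Matrix.add_mulVec, Matrix.one_mulVec, Matrix.smul_mulVec,
      Matrix.vecMulVec_mulVec, op_smul_eq_smul, smul_smul, hB_apply, Cfsg.hermForm]
    congr 3
    exact Finset.sum_congr rfl fun i _ => mul_comm _ _
  by_cases hv : v = 0
  · have : A = 1 := suToLin_injective n (LinearEquiv.ext fun x => by
      change ψ A x = ψ 1 x
      rw [map_one, hψ, hv, smul_zero, add_zero]; rfl)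
    rw [this]
    exact ⟨1, 1, commutatorElement_one_left 1⟩
  obtain ⟨x, hx⟩ : ∃ x, hB hF n v x = 1 := by
    obtain ⟨u, hu⟩ : ∃ u, hB hF n v u ≠ 0 := by
      by_contra hc
      push Not at hc
      exact hv ((hB_nondegenerate hF n).1 v hc)
    exact ⟨(hB hF n v u)⁻¹ • u, by rw [map_smul, smul_eq_mul, inv_mul_cancel₀ hu]⟩
  have hvv : hB hF n v v = 0 := hv0
  have hc : c + frob hF c + frob hF c * c * hB hF n v v = 0 := by
    have hiso : hB hF n (ψ A x) (ψ A x) = hB hF n x x := A.2 x x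
    have hxv : hB hF n x v = 1 := by rw [← (hB_isSymm hF n).eq v x, hx, map_one]
    rw [hψ] at hiso
    simp only [map_add, map_smul, LinearMap.map_smulₛₗ, LinearMap.add_apply, LinearMap.smul_apply,
      smul_eq_mul, hx, hxv, hvv] at hiso
    rw [hvv]
    simp only [map_mul, map_one] at hiso
    linear_combination hiso
  have hψq : ψ A = qrefl v c hc := LinearEquiv.ext hψ
  obtain ⟨t, ht, x, hx, e⟩ : ∃ t ∈ tvGroup (hB hF n), ∃ x ∈ tvGroup (hB hF n), qrefl v c hc = ⁅t, x⁆ := by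
    rcases hn with hn | ⟨rfl, hq⟩
    · exact Big.tv_commutator (bigSpace hF hn) v c hc hvv
    · exact three_commutator ⟨frob_ne_id hF, frob_frob hF, hB_isSymm hF 3, hB_nondegenerate hF 3,
        finrank_fin_fun F, Cfsg.Agent.S0780.two_trace_zero hF hq⟩ (exists_norm_ne_one hF hq) c hc hvv hv
  have hran : ψ.range = tvGroup (hB hF n) := suToLin_range hF (hn.imp id fun h =>
    ⟨h.1.ge, Cfsg.Agent.S0780.two_trace_zero hF h.2⟩)
  rw [← hran] at ht hx
  obtain ⟨T, rfl⟩ := ht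
  obtain ⟨X, rfl⟩ := hx
  exact ⟨T, X, suToLin_injective n (by rw [map_commutatorElement, ← e, ← hψq])⟩

/-- In SU_n(q) with n ≥ 4, or n = 3 and q > 2, every element whose matrix is a unitary transvection x ↦ x + c h(x, v) v (v isotropic) is a commutator ⁅B, C⁆ of two elements of SU_n(q). -/
theorem result {F : Type*} [Field F] [Fintype F] {q : ℕ} (hF : Fintype.card F = q ^ 2) (n : ℕ) (hn : 4 ≤ n ∨ (n = 3 ∧ 3 ≤ q)) (A : ↥(Cfsg.SU n F q)) (v : Fin n → F) (c : F) (hv0 : Cfsg.hermForm n F q v v = 0) (hA : ((A : Matrix.SpecialLinearGroup (Fin n) F) : Matrix (Fin n) (Fin n) F) = Cfsg.unitaryTransvection n q v c) : A ∈ commutatorSet ↥(Cfsg.SU n F q) := by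
  exact main hF n hn A v c hv0 hA

end Cfsg.Agent.S0781
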