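import Cfsg.Statements.S0782
import Cfsg.Agent.Lib.Linear.HermParabolic

/-! Stabilisers of totally isotropic subspaces in special unitary groups. -/

set_option autoImplicit false
open Cfsg Module
open scoped Matrix
open Cfsg.Lib.Linear Cfsg.Lib.Linear.Herm

namespace Cfsg.Agent.S0782

variable {F : Type*} [Field F] [Fintype F] {q : ℕ}

theorem hB_eq_sum (hF : Fintype.card F = q ^ 2) {n : ℕ} (u w : Fin n → F) :
    hB hF n u w = ∑ i, hB hF n u (Pi.single i 1) * w i := by
  conv_lhs => rw [pi_eq_sum_univ' w]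
  rw [map_sum]
  exact Finset.sum_congr rfl fun i _ => by rw [map_smul, smul_eq_mul, mul_comm]

theorem det_lowrank (hF : Fintype.card F = q ^ 2) {n m : ℕ} (u w : Fin m → (Fin n → F)) (a : Fin m → F)
    (g : (Fin n → F) →ₗ[F] (Fin n → F)) (hg : ∀ x, g x = x + ∑ j, (a j * hB hF n (u j) x) • w j) :
    LinearMap.det g = (1 + Matrix.of fun j l => a j * hB hF n (u j) (w l)).det := by
  rw [← LinearMap.det_toMatrix']
  have h : LinearMap.toMatrix' g =
      1 + (Matrix.of fun i j => w j i) * (Matrix.of fun j i => a j * hB hF n (u j) (Pi.single i 1)) := by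
    ext i l
    rw [LinearMap.toMatrix'_apply, hg, Pi.add_apply, Finset.sum_apply, Matrix.add_apply, Matrix.mul_apply]
    congr 1
    · simp [Matrix.one_apply, Pi.single_apply]
    · exact Finset.sum_congr rfl fun j _ => by rw [Pi.smul_apply, smul_eq_mul, Matrix.of_apply, Matrix.of_apply, mul_comm]
  rw [h, Matrix.det_one_add_mul_comm]
  congr 2
  ext j l
  rw [Matrix.mul_apply, Matrix.of_apply, hB_eq_sum hF (u j) (w l), Finset.mul_sum]
  exact Finset.sum_congr rfl fun i _ => by rw [Matrix.of_apply, Matrix.of_apply, mul_assoc]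

theorem exists_of_map (hF : Fintype.card F = q ^ 2) {n : ℕ} (W : Submodule F (Fin n → F))
    (g : (Fin n → F) →ₗ[F] (Fin n → F)) (hiso : ∀ x y, hB hF n (g x) (g y) = hB hF n x y)
    (hW : ∀ v ∈ W, g v ∈ W) :
    ∃ e ∈ iso (hB hF n) ⊓ StabCard.stabW W, LinearMap.det ((e : (Fin n → F) ≃ₗ[F] (Fin n → F)) : (Fin n → F) →ₗ[F] (Fin n → F)) =
      LinearMap.det g := by
  have hinj : Function.Injective g := by
    rw [← LinearMap.ker_eq_bot, LinearMap.ker_eq_bot']
    intro a ha
    refine (hB_nondegenerate hF n).1 a fun b => ?_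
    rw [← hiso, ha, map_zero, LinearMap.zero_apply]
  let e := LinearEquiv.ofInjectiveEndo g hinj
  have hmap : W.map (e : (Fin n → F) →ₗ[F] (Fin n → F)) = W :=
    Submodule.eq_of_le_of_finrank_eq (by rintro _ ⟨v, hv, rfl⟩; exact hW v hv) (LinearEquiv.finrank_map_eq e W)
  refine ⟨e, ⟨hiso, fun v => ⟨fun hv => hW v hv, fun hv => ?_⟩⟩, rfl⟩
  rw [← hmap] at hv
  obtain ⟨w, hw, hwv⟩ := hv
  rw [← e.injective hwv]
  exact hw

theorem exists_hilbert90 (hF : Fintype.card F = q ^ 2) {z : F} (hz : frob hF z * z = 1) :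
    ∃ a : F, a ≠ 0 ∧ a = z * frob hF a := by
  by_cases h : z = -1
  · obtain ⟨x, hx⟩ : ∃ x : F, frob hF x ≠ x := by
      by_contra hc
      push Not at hc
      exact frob_ne_id hF (RingHom.ext hc)
    exact ⟨x - frob hF x, sub_ne_zero.2 (Ne.symm hx), by rw [h, map_sub, frob_frob hF]; ring⟩
  · refine ⟨1 + z, fun h' => h (eq_neg_of_add_eq_zero_right h'), ?_⟩
    rw [map_add, map_one]
    linear_combination -hz

theorem exists_det (hF : Fintype.card F = q ^ 2) {n : ℕ} (hn : 1 ≤ n) (W : Submodule F (Fin n → F))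
    (hW : ∀ u ∈ W, ∀ v ∈ W, hB hF n u v = 0) {z : F} (hz : frob hF z * z = 1) :
    ∃ e ∈ iso (hB hF n) ⊓ StabCard.stabW W,
      LinearMap.det ((e : (Fin n → F) ≃ₗ[F] (Fin n → F)) : (Fin n → F) →ₗ[F] (Fin n → F)) = z := by
  classical
  have hsym : ∀ x y, frob hF (hB hF n x y) = hB hF n y x := fun x y => (hB_isSymm hF n).eq x y
  by_cases hbot : W = ⊥
  · let v : Fin n → F := Pi.single ⟨0, hn⟩ 1
    have hv : hB hF n v v = 1 := by rw [hB_single_right]; simp [v]
    let g : (Fin n → F) →ₗ[F] (Fin n → F) := LinearMap.id + ((z - 1) • hB hF n v).smulRight v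
    have hg : ∀ x, g x = x + ((z - 1) * hB hF n v x) • v := fun x => rfl
    obtain ⟨e, he, hdet⟩ := exists_of_map hF W g (fun x y => by
        simp only [hg, map_add, map_smul, LinearMap.map_smulₛₗ, LinearMap.add_apply, LinearMap.smul_apply,
          smul_eq_mul, map_mul, map_sub, map_one, hsym, hv]
        linear_combination (hB hF n x v * hB hF n v y) * hz)
      (fun x hx => by
        rw [hbot, Submodule.mem_bot] at hx ⊢
        rw [hx, map_zero])
    refine ⟨e, he, hdet.trans ?_⟩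
    rw [det_lowrank hF ![v] ![v] ![z - 1] g (fun x => by rw [hg]; simp), Matrix.det_fin_one]
    simp [hv]
  · obtain ⟨e, he, he0⟩ := Submodule.exists_mem_ne_zero_of_ne_bot hbot
    have hee : hB hF n e e = 0 := hW e he e he
    obtain ⟨f₀, hf₀⟩ : ∃ f, hB hF n e f = 1 := by
      obtain ⟨u, hu⟩ : ∃ u, hB hF n e u ≠ 0 := by
        by_contra hc
        push Not at hc
        exact he0 ((hB_nondegenerate hF n).1 e hc)
      exact ⟨(hB hF n e u)⁻¹ • u, by rw [map_smul, smul_eq_mul, inv_mul_cancel₀ hu]⟩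
    obtain ⟨t, ht⟩ := exists_trace_eq (frob_ne_id hF) (frob_frob hF) (a := -(hB hF n f₀ f₀))
      (by rw [map_neg, hsym])
    let f := f₀ + t • e
    have hef : hB hF n e f = 1 := by simp [f, hf₀, hee]
    have hfe : hB hF n f e = 1 := by rw [← hsym e f, hef, map_one]
    have hff : hB hF n f f = 0 := by
      have h' : hB hF n f₀ e = 1 := by rw [← hsym e f₀, hf₀, map_one]
      simp only [f, map_add, map_smul, LinearMap.map_smulₛₗ, LinearMap.add_apply, LinearMap.smul_apply,
        smul_eq_mul, hf₀, h', hee]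
      linear_combination ht
    obtain ⟨α, hα0, hα⟩ := exists_hilbert90 hF hz
    have hσα : frob hF α ≠ 0 := fun h => hα0 (by rw [hα, h, mul_zero])
    let μ := (frob hF α)⁻¹
    have h1 : frob hF α * μ = 1 := mul_inv_cancel₀ hσα
    have h2 : frob hF μ * α = 1 := by rw [map_inv₀, frob_frob hF, inv_mul_cancel₀ hα0]
    let g : (Fin n → F) →ₗ[F] (Fin n → F) :=
      LinearMap.id + (((α - 1) • hB hF n f).smulRight e + ((μ - 1) • hB hF n e).smulRight f)
    have hg : ∀ x, g x = x + (((α - 1) * hB hF n f x) • e + ((μ - 1) * hB hF n e x) • f) := fun x => rfl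
    obtain ⟨u, hu, hdet⟩ := exists_of_map hF W g (fun x y => by
        simp only [hg, map_add, map_smul, LinearMap.map_smulₛₗ, LinearMap.add_apply, LinearMap.smul_apply,
          smul_eq_mul, map_mul, map_sub, map_one, hsym, hee, hef, hfe, hff]
        linear_combination (hB hF n x f * hB hF n e y) * h1 + (hB hF n x e * hB hF n f y) * h2)
      (fun x hx => by
        rw [hg, hW e he x hx, mul_zero, zero_smul, add_zero]
        exact W.add_mem hx (W.smul_mem _ he))
    refine ⟨u, hu, hdet.trans ?_⟩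
    rw [det_lowrank hF ![f, e] ![e, f] ![α - 1, μ - 1] g (fun x => by rw [hg]; simp [Fin.sum_univ_two]),
      Matrix.det_fin_two]
    simp [hee, hef, hfe, hff, μ]
    field_simp
    linear_combination hα

theorem main (hF : Fintype.card F = q ^ 2) (n k : ℕ) (hn : 1 ≤ n) (hk : 2 * k ≤ n)
    (W : Submodule F (Fin n → F)) (hWk : finrank F W = k) (hW : ∀ u ∈ W, ∀ v ∈ W, Cfsg.hermForm n F q u v = 0) :
    (q + 1) * Nat.card ↥((Cfsg.stabilizing (Cfsg.slToMat n F) (W : Set (Fin n → F))).subgroupOf (Cfsg.SU n F q)) =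
      q ^ (k * (2 * n - 3 * k)) * (∏ i : Fin k, ((q ^ 2) ^ k - (q ^ 2) ^ (i : ℕ))) * (q ^ ((n - 2 * k) * ((n - 2 * k) - 1) / 2) * ∏ i ∈ Finset.range (n - 2 * k), (if Even i then q ^ (i + 1) + 1 else q ^ (i + 1) - 1)) := by
  classical
  have hWi : ∀ u ∈ W, ∀ v ∈ W, hB hF n u v = 0 := fun u hu v hv => hW v hv u hu
  set M := iso (hB hF n) ⊓ StabCard.stabW W with hM
  let d : M →* Fˣ := (LinearEquiv.det : ((Fin n → F) ≃ₗ[F] (Fin n → F)) →* Fˣ).comp M.subtype
  have hd : ∀ g : M, ((d g : Fˣ) : F) =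
      LinearMap.det ((g : (Fin n → F) ≃ₗ[F] (Fin n → F)) : (Fin n → F) →ₗ[F] (Fin n → F)) := fun g =>
    LinearEquiv.coe_det _
  have hr : d.range = (powMonoidHom (q + 1) : Fˣ →* Fˣ).ker := by
    apply le_antisymm
    · rintro _ ⟨g, rfl⟩
      rw [MonoidHom.mem_ker, powMonoidHom_apply]
      refine Units.ext ?_
      rw [Units.val_pow_eq_pow_val, hd, ← LinearMap.det_toMatrix']
      exact det_GU_pow hF ((guEquiv hF n).symm ⟨g.1, g.2.1⟩)
    · intro z hz
      have hz1 : (z : F) ^ (q + 1) = 1 := by simpa using congrArg Units.val (MonoidHom.mem_ker.1 hz)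
      obtain ⟨e, he, hdet⟩ := exists_det hF hn W hWi (z := (z : F)) (by rw [frob_apply hF, ← pow_succ, hz1])
      exact ⟨⟨e, he⟩, Units.ext ((hd _).trans hdet)⟩
  have hmv : ∀ (e : (Fin n → F) ≃ₗ[F] (Fin n → F)) x,
      (LinearMap.toMatrix' (e : (Fin n → F) →ₗ[F] (Fin n → F))).mulVec x = e x := fun e x => by
    rw [← Matrix.toLin'_apply, Matrix.toLin'_toMatrix']; rfl
  let toS : d.ker → ↥((Cfsg.stabilizing (Cfsg.slToMat n F) (W : Set (Fin n → F))).subgroupOf (Cfsg.SU n F q)) :=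
    fun g => ⟨⟨⟨LinearMap.toMatrix' ((g.1.1 : (Fin n → F) ≃ₗ[F] (Fin n → F)) : (Fin n → F) →ₗ[F] (Fin n → F)), by
      rw [LinearMap.det_toMatrix', ← hd, MonoidHom.mem_ker.1 g.2, Units.val_one]⟩,
      fun u v => by
        show Cfsg.hermForm n F q ((LinearMap.toMatrix' _).mulVec u) ((LinearMap.toMatrix' _).mulVec v) = _
        rw [hmv, hmv]
        exact g.1.2.1 v u⟩,
      fun v => by
        show v ∈ W ↔ (LinearMap.toMatrix' _).mulVec v ∈ W
        rw [hmv]
        exact g.1.2.2 v⟩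
  have hbij : Function.Bijective toS := by
    refine ⟨fun a b h => Subtype.ext (Subtype.ext (LinearEquiv.toLinearMap_injective
      (LinearMap.toMatrix'.injective (congrArg (fun s => ((s.1.1 : Matrix.SpecialLinearGroup (Fin n) F) : Matrix (Fin n) (Fin n) F)) h)))),
      fun s => ?_⟩
    let g : GL (Fin n) F := Matrix.SpecialLinearGroup.toGL s.1.1
    let e := guEquiv hF n ⟨g, s.1.2⟩
    refine ⟨⟨⟨e.1, e.2, fun v => s.2 v⟩, MonoidHom.mem_ker.2 (Units.ext ?_)⟩, ?_⟩
    · rw [hd, Units.val_one]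
      show LinearMap.det (Matrix.toLin' (s.1.1 : Matrix (Fin n) (Fin n) F)) = 1
      rw [LinearMap.det_toLin']
      exact s.1.1.2
    · refine Subtype.ext (Subtype.ext (Subtype.ext ?_))
      show LinearMap.toMatrix' (Matrix.toLin' (s.1.1 : Matrix (Fin n) (Fin n) F)) = _
      rw [LinearMap.toMatrix'_toLin']
  have h := Subgroup.card_mul_index d.ker
  rw [Subgroup.index_ker, hr, card_norm_one hF, Nat.card_congr (Equiv.ofBijective toS hbij),
    card_stab_isotropic hF hk hWk hWi, mul_comm] at h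
  rw [h, guCard]
  ring

/-- Maximal parabolics of SU_n(q): if W is a k-dimensional subspace of F^n (n ≥ 1, |F| = q²) on which the Hermitian form vanishes, then (q + 1) times the order of its stabiliser in SU_n(q) equals q^(k(2n−3k)) · |GL_k(q²)| · |GU_(n−2k)(q)|, where |GU_m(q)| = q^(m(m−1)/2) Π_(i=1..m) (q^i − (−1)^i). -/
theorem result {F : Type*} [Field F] [Fintype F] {q : ℕ} (hF : Fintype.card F = q ^ 2) (n k : ℕ) (hn : 1 ≤ n) (hk : 2 * k ≤ n) (W : Submodule F (Fin n → F)) (hWk : Module.finrank F W = k) (hW : ∀ u ∈ W, ∀ v ∈ W, Cfsg.hermForm n F q u v = 0) : (q + 1) * Nat.card ↥((Cfsg.stabilizing (Cfsg.slToMat n F) (W : Set (Fin n → F))).subgroupOf (Cfsg.SU n F q)) = q ^ (k * (2 * n - 3 * k)) * (∏ i : Fin k, ((q ^ 2) ^ k - (q ^ 2) ^ (i : ℕ))) * (q ^ ((n - 2 * k) * ((n - 2 * k) - 1) / 2) * ∏ i ∈ Finset.range (n - 2 * k), (if Even i then q ^ (i + 1) + 1 else q ^ (i + 1) - 1)) := by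
  exact main hF n k hn hk W hWk hW

end Cfsg.Agent.S0782
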