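import Cfsg.Statements.S0783
import Cfsg.Agent.Lib.Linear.UnitaryCenter
open scoped Matrix

set_option autoImplicit false
open Cfsg

namespace Cfsg.Agent.S0783

open Cfsg.Lib.Linear in
theorem scalar_of_center {F : Type*} [Field F] [Fintype F] {q : ℕ} (hF : Fintype.card F = q ^ 2) {n : ℕ} (hn : 2 ≤ n)
    (g : Cfsg.GU n F q) (hg : g ∈ Subgroup.center (Cfsg.GU n F q)) :
    ∃ c : F, ((g : GL (Fin n) F) : Matrix (Fin n) (Fin n) F) = Matrix.scalar (Fin n) c :=
  Herm.exists_scalar hF hn _ fun B hB => by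
    have h := Subgroup.mem_center_iff.1 hg ⟨Matrix.SpecialLinearGroup.toGL B, hB⟩
    exact congrArg (fun x : Cfsg.GU n F q => ((x : GL (Fin n) F) : Matrix (Fin n) (Fin n) F)) h

/-- PGU_n(q)/PSU_n(q) is cyclic of order (n, q+1): for n ≥ 2 and |F| = q² there is a surjective homomorphism from GU_n(q) onto the cyclic group of order gcd(n, q + 1) whose kernel is generated by the determinant-one elements together with the centre. -/
theorem result {F : Type*} [Field F] [Fintype F] {q : ℕ} (hF : Fintype.card F = q ^ 2) (n : ℕ) (hn : 2 ≤ n) : ∃ φ : ↥(Cfsg.GU n F q) →* Multiplicative (ZMod (Nat.gcd n (q + 1))), Function.Surjective φ ∧ φ.ker = (Matrix.GeneralLinearGroup.det : Matrix.GeneralLinearGroup (Fin n) F →* Fˣ).ker.subgroupOf (Cfsg.GU n F q) ⊔ Subgroup.center ↥(Cfsg.GU n F q) := by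
  classical
  set U : Subgroup Fˣ := (powMonoidHom (q + 1) : Fˣ →* Fˣ).ker with hU
  set d := Nat.gcd n (q + 1) with hd
  obtain ⟨e, he⟩ : d ∣ q + 1 := Nat.gcd_dvd_right _ _
  have he0 : 0 < e := Nat.pos_of_ne_zero fun h => by rw [h, mul_zero] at he; omega
  have hd0 : 0 < d := Nat.gcd_pos_of_pos_right _ (by omega)
  let dt : ↥(Cfsg.GU n F q) →* Fˣ := Matrix.GeneralLinearGroup.det.comp (Cfsg.GU n F q).subtype
  have hdt : ∀ g, (dt g : F) ^ (q + 1) = 1 := fun g => by
    simpa [dt] using Cfsg.Lib.Linear.Herm.det_GU_pow hF g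
  let ψ : ↥(Cfsg.GU n F q) →* Fˣ := (powMonoidHom e).comp dt
  have hψU : ∀ g, ψ g ∈ (powMonoidHom d : Fˣ →* Fˣ).ker := fun g => by
    rw [MonoidHom.mem_ker, powMonoidHom_apply]
    show (dt g ^ e) ^ d = 1
    rw [← pow_mul, mul_comm e d, ← he]
    exact Units.ext (by simpa using hdt g)
  let i₀ : Fin n := ⟨0, by omega⟩
  have hsurj : ∀ z : Fˣ, (z : F) ^ (q + 1) = 1 → ∃ g, dt g = z := by
    intro z hz
    let D : GL (Fin n) F := Units.map (Matrix.diagonalRingHom (Fin n) F).toMonoidHom
      (MulEquiv.piUnits.symm (Function.update (1 : Fin n → Fˣ) i₀ z))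
    have hD : (D : Matrix (Fin n) (Fin n) F) = Matrix.diagonal (Function.update (1 : Fin n → F) i₀ z) := by
      show Matrix.diagonal _ = _
      congr 1
      funext i
      simp [MulEquiv.piUnits, Function.update_apply]
      split_ifs <;> simp
    refine ⟨⟨D, Cfsg.Lib.Linear.Herm.mem_GU.2 ?_⟩, Units.ext ?_⟩
    · rw [hD]
      refine Cfsg.Lib.Linear.Herm.hermForm_diagonal _ fun i => ?_
      rw [Function.update_apply]
      split_ifs
      · exact hz
      · exact one_pow _
    · simp [dt, hD, Matrix.det_diagonal, Finset.prod_update_of_mem]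
  have hcard : Nat.card (powMonoidHom d : Fˣ →* Fˣ).ker = d := by
    rw [IsCyclic.card_powMonoidHom_ker, Cfsg.Lib.Linear.Herm.card_units_sq hF, Nat.gcd_eq_right]
    exact (Dvd.intro _ he.symm).trans (dvd_mul_right _ _)
  let ι : (powMonoidHom d : Fˣ →* Fˣ).ker ≃* Multiplicative (ZMod d) :=
    mulEquivOfCyclicCardEq (by rw [hcard, Nat.card_congr Multiplicative.toAdd, Nat.card_zmod])
  refine ⟨ι.toMonoidHom.comp (ψ.codRestrict _ hψU), ι.surjective.comp ?_, ?_⟩
  · rintro ⟨w, hw⟩
    rw [MonoidHom.mem_ker, powMonoidHom_apply] at hw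
    have hr : (powMonoidHom e : Fˣ →* Fˣ).ker ≤ U := by
      intro x hx
      rw [MonoidHom.mem_ker, powMonoidHom_apply] at hx
      rw [hU, MonoidHom.mem_ker, powMonoidHom_apply, he, mul_comm, pow_mul, hx, one_pow]
    have him : U.map (powMonoidHom e) = (powMonoidHom d : Fˣ →* Fˣ).ker := by
      refine Subgroup.eq_of_le_of_card_ge ?_ ?_
      · rintro _ ⟨x, hx, rfl⟩
        have hx' : x ^ (q + 1) = 1 := hx
        rw [MonoidHom.mem_ker, powMonoidHom_apply, powMonoidHom_apply, ← pow_mul, mul_comm, ← he, hx']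
      · rw [hcard]
        have h1 := Subgroup.card_mul_index ((powMonoidHom e : Fˣ →* Fˣ).comp U.subtype).ker
        rw [Subgroup.index_ker, MonoidHom.range_comp, U.range_subtype, Cfsg.Lib.Linear.Herm.card_norm_one hF] at h1
        have h2 : Nat.card ((powMonoidHom e : Fˣ →* Fˣ).comp U.subtype).ker = e := by
          have : ((powMonoidHom e : Fˣ →* Fˣ).comp U.subtype).ker = (powMonoidHom e : Fˣ →* Fˣ).ker.subgroupOf U := rfl
          rw [this, Nat.card_congr (Subgroup.subgroupOfEquivOfLe hr).toEquiv, IsCyclic.card_powMonoidHom_ker,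
            Cfsg.Lib.Linear.Herm.card_units_sq hF, Nat.gcd_eq_right]
          exact (Dvd.intro_left _ he.symm).trans (dvd_mul_right _ _)
        rw [h2] at h1
        exact (Nat.eq_of_mul_eq_mul_left he0 (h1.trans (by rw [he, mul_comm]))).ge
    have hw' : w ∈ U.map (powMonoidHom e) := by rw [him]; exact hw
    obtain ⟨x, hx, hxe⟩ := hw'
    obtain ⟨g, hg⟩ := hsurj x (by simpa using congrArg Units.val (MonoidHom.mem_ker.1 hx))
    exact ⟨g, Subtype.ext (show ψ g = w by rw [← hxe, ← hg]; rfl)⟩
  · have hker : ∀ g, g ∈ (ι.toMonoidHom.comp (ψ.codRestrict _ hψU)).ker ↔ dt g ^ e = 1 := fun g => by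
      rw [MonoidHom.mem_ker, MonoidHom.comp_apply]
      refine ((map_eq_one_iff _ ι.injective).trans ?_)
      exact Subtype.ext_iff
    refine le_antisymm ?_ (sup_le ?_ ?_)
    · intro g hg
      rw [hker] at hg
      -- the determinant is an `n`-th power of a norm one element
      have him : U.map (powMonoidHom n) = (powMonoidHom e : Fˣ →* Fˣ).ker := by
        refine Subgroup.eq_of_le_of_card_ge ?_ ?_
        · rintro _ ⟨x, hx, rfl⟩
          obtain ⟨a, ha⟩ : d ∣ n := Nat.gcd_dvd_left _ _
          have hx' : x ^ (q + 1) = 1 := hx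
          rw [MonoidHom.mem_ker, powMonoidHom_apply, powMonoidHom_apply, ← pow_mul,
            show n * e = (q + 1) * a by rw [he, ha]; ring, pow_mul, hx', one_pow]
        · rw [IsCyclic.card_powMonoidHom_ker, Cfsg.Lib.Linear.Herm.card_units_sq hF, Nat.gcd_eq_right
            ((Dvd.intro_left _ he.symm).trans (dvd_mul_right _ _))]
          have h1 := Subgroup.card_mul_index ((powMonoidHom n : Fˣ →* Fˣ).comp U.subtype).ker
          rw [Subgroup.index_ker, MonoidHom.range_comp, U.range_subtype, Cfsg.Lib.Linear.Herm.card_norm_one hF] at h1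
          have h2 : Nat.card ((powMonoidHom n : Fˣ →* Fˣ).comp U.subtype).ker = d := by
            rw [← hcard]
            refine Nat.card_congr
              { toFun := fun x => ⟨(x.1 : Fˣ), ?_⟩
                invFun := fun x => ⟨⟨x.1, ?_⟩, ?_⟩
                left_inv := fun x => rfl
                right_inv := fun x => rfl }
            · exact MonoidHom.mem_ker.2 (pow_gcd_eq_one.2 ⟨x.2, x.1.2⟩)
            · exact (pow_gcd_eq_one.1 (MonoidHom.mem_ker.1 x.2)).2
            · exact (pow_gcd_eq_one.1 (MonoidHom.mem_ker.1 x.2)).1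
          rw [h2] at h1
          exact (Nat.eq_of_mul_eq_mul_left hd0 (h1.trans he)).ge
      have hmem : dt g ∈ U.map (powMonoidHom n) := by rw [him]; exact hg
      obtain ⟨x, hx, hxn⟩ := hmem
      have hxn' : x ^ n = dt g := hxn
      let s : ↥(Cfsg.GU n F q) := ⟨Matrix.GeneralLinearGroup.scalar (Fin n) x,
        Cfsg.Lib.Linear.Herm.scalar_mem_GU (by simpa using congrArg Units.val (MonoidHom.mem_ker.1 hx))⟩
      have hs : s ∈ Subgroup.center ↥(Cfsg.GU n F q) := Subgroup.mem_center_iff.2 fun B => Subtype.ext (Units.ext (by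
        show ((B : GL (Fin n) F) : Matrix (Fin n) (Fin n) F) * Matrix.diagonal (fun _ => (x : F)) =
          Matrix.diagonal (fun _ => (x : F)) * ((B : GL (Fin n) F) : Matrix (Fin n) (Fin n) F)
        ext i j; simp [mul_comm]))
      have hdts : dt s = x ^ n := Units.ext (by
        show (Matrix.diagonal (fun _ => (x : F))).det = _
        simp [Matrix.det_diagonal])
      rw [← inv_mul_cancel_right g s]
      refine Subgroup.mul_mem_sup ?_ hs
      rw [Subgroup.mem_subgroupOf, MonoidHom.mem_ker]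
      show dt (g * s⁻¹) = 1
      rw [map_mul, map_inv, hdts, hxn', mul_inv_cancel]
    · intro g hg
      rw [hker, show dt g = 1 from hg, one_pow]
    · intro g hg
      obtain ⟨c, hc⟩ := scalar_of_center hF hn g hg
      have h1 : c ^ (q + 1) = 1 := by
        have h2 := g.2 (Pi.single i₀ 1) (Pi.single i₀ 1)
        simp only [Units.coeHom_apply, hc, Cfsg.hermForm, Matrix.scalar_apply, Matrix.mulVec_diagonal] at h2
        rw [Finset.sum_eq_single i₀ (fun b _ hb => by simp [hb]) (by simp),
          Finset.sum_eq_single i₀ (fun b _ hb => by simp [hb]) (by simp)] at h2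
        simp only [Pi.single_eq_same, mul_one, one_pow] at h2
        rw [pow_succ', h2]
      obtain ⟨a, ha⟩ : d ∣ n := Nat.gcd_dvd_left _ _
      rw [hker]
      refine Units.ext ?_
      rw [Units.val_pow_eq_pow_val, Units.val_one]
      show (((g : GL (Fin n) F) : Matrix (Fin n) (Fin n) F).det) ^ e = 1
      rw [hc, Matrix.scalar_apply, Matrix.det_diagonal, Finset.prod_const, Finset.card_univ, Fintype.card_fin, ← pow_mul,
        show n * e = (q + 1) * a by rw [he, ha]; ring, pow_mul, h1, one_pow]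

end Cfsg.Agent.S0783
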