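import Cfsg.Statements.S0784
import Cfsg.Agent.Lib.Linear.OrthTrans
-- import your own Cfsg.Agent.* helpers here

set_option autoImplicit false
open Cfsg

namespace Cfsg.Agent.S0784

open scoped Matrix
open Cfsg.Lib.Linear Cfsg.Lib.Linear.Orth

theorem aux {ι : Type} [Fintype ι] [DecidableEq ι] {F : Type*} [Field F]
    (Q : QuadraticForm F (ι → F)) {v : ι → F} (hv : Q v ≠ 0) (x : ι → F) :
    Cfsg.reflectionMatrix ⇑Q v *ᵥ x = x - ((Q v)⁻¹ * QuadraticMap.polar ⇑Q v x) • v := by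
  have hd : Cfsg.polarVec ⇑Q v ⬝ᵥ x = QuadraticMap.polar ⇑Q v x := by
    have : QuadraticMap.polarBilin Q v x = QuadraticMap.polar ⇑Q v x := rfl
    rw [← this]
    conv_rhs => rw [pi_eq_sum_univ' x]
    simp [dotProduct, Cfsg.polarVec, mul_comm]
  simp only [Cfsg.reflectionMatrix, Matrix.sub_mulVec, Matrix.one_mulVec, Matrix.smul_mulVec,
    Matrix.vecMulVec_mulVec, op_smul_eq_smul, hd, smul_smul]

/-- Reflections: if Q(v) ≠ 0 then the matrix R = 1 − Q(v)⁻¹ · v f(v, ·)ᵀ preserves Q, maps v to −v, fixes each x with f(v, x) = 0, and has determinant −1 (in characteristic two, −1 = 1 and R is the orthogonal transvection of v). -/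
theorem result {F : Type*} [Field F] {n : ℕ} (Q : QuadraticForm F (Fin n → F)) (v : Fin n → F) (hv : Q v ≠ 0) : (∀ x, Q ((Cfsg.reflectionMatrix ⇑Q v).mulVec x) = Q x) ∧ (Cfsg.reflectionMatrix ⇑Q v).mulVec v = -v ∧ (∀ x, QuadraticMap.polar ⇑Q v x = 0 → (Cfsg.reflectionMatrix ⇑Q v).mulVec x = x) ∧ (Cfsg.reflectionMatrix ⇑Q v).det = -1 := by
  have hself : QuadraticMap.polar ⇑Q v v = 2 * Q v := by
    rw [QuadraticMap.polar_self]; simp
  refine ⟨fun x => ?_, ?_, fun x hx => ?_, ?_⟩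
  · rw [aux Q hv, sub_eq_add_neg, ← neg_smul, QuadraticMap.map_add (⇑Q), QuadraticMap.map_smul,
      QuadraticMap.polar_smul_right, QuadraticMap.polar_comm, smul_eq_mul, smul_eq_mul]
    field_simp
    ring
  · rw [aux Q hv, hself]
    match_scalars
    field_simp
    ring
  · rw [aux Q hv, hx, mul_zero, zero_smul, sub_zero]
  · have hd : Cfsg.polarVec ⇑Q v ⬝ᵥ v = QuadraticMap.polar ⇑Q v v := by
      have : QuadraticMap.polarBilin Q v v = QuadraticMap.polar ⇑Q v v := rfl
      rw [← this]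
      conv_rhs => arg 2; rw [pi_eq_sum_univ' v]
      simp [dotProduct, Cfsg.polarVec, mul_comm]
    rw [Cfsg.reflectionMatrix, sub_eq_add_neg, ← Matrix.smul_vecMulVec,
      ← Matrix.neg_vecMulVec, Matrix.vecMulVec_eq Unit,
      Matrix.det_one_add_replicateCol_mul_replicateRow, dotProduct_neg, dotProduct_smul, hd, hself,
      smul_eq_mul]
    field_simp
    ring

end Cfsg.Agent.S0784
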