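import Cfsg.Statements.S0786
import Cfsg.Agent.Lib.Linear.OrthTrans
-- import your own Cfsg.Agent.* helpers here

set_option autoImplicit false
open Cfsg

namespace Cfsg.Agent.S0786

open scoped Matrix
open Module Cfsg.Lib.Linear.Orth

theorem pair_mem {ι : Type} [Fintype ι] [DecidableEq ι] {F : Type*} [Field F] [Fintype F]
    {Q : (ι → F) → F} {B : LinearMap.BilinForm F (ι → F)} (C : Space Q B)
    (h : Fintype.card F ≠ 2 ∨ Fintype.card ι ≠ 4) (H : Subgroup (GL ι F))
    (hH : ∀ v, Q v ≠ 0 → rGL Q v ∈ H) {u v : ι → F} (hu : Q u = 0) (hv : Q v = 0)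
    (huv : B u v = 0) : sGL Q B u v ∈ H := by
  have ns : ∀ a, Q a ≠ 0 → B u a = 0 → sGL Q B u a ∈ H := fun a ha hua => by
    obtain ⟨h1, h2⟩ := rGL_mul_rGL C ha hu hua
    rw [← h2]
    exact mul_mem (hH _ ha) (hH _ (by rw [h1]; exact ha))
  by_cases hu0 : u = 0
  · have : sGL Q B u v = 1 := gl_ext fun x => by rw [sGL_act C hu huv, hu0]; simp
    exact this ▸ one_mem H
  obtain ⟨f, hf⟩ := exists_hyp C C.ndeg_top trivial hu0 hu
  set v' := v - B f v • u with hv'
  have huv' : B u v' = 0 := by rw [hv', map_sub, map_smul, huv, C.self_zero hu]; simp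
  have hfv' : B f v' = 0 := by rw [hv', map_sub, map_smul, hf.pair' C]; simp
  have hQv' : Q v' = 0 := by
    rw [hv', sub_eq_add_neg, ← neg_smul, C.add, C.smul, hu, hv, map_smul, C.symm v u, huv]
    simp
  rw [show sGL Q B u v = sGL Q B u v' by
    rw [show v = v' + B f v • u by rw [hv']; abel, sGL_add_self C hu huv']]
  by_cases hv0 : v' = 0
  · have : sGL Q B u v' = 1 := gl_ext fun x => by
      rw [sGL_act C hu huv', hv0, C.zero]; simp
    exact this ▸ one_mem H
  suffices hz : ∃ z, B u z = 0 ∧ Q z ≠ 0 ∧ Q (v' + z) ≠ 0 by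
    obtain ⟨z, huz, hQz, hQvz⟩ := hz
    rw [show v' = (v' + z) + -z by abel, ← sGL_mul C hu (by rw [map_add, huv', huz, add_zero])
      (by rw [map_neg, huz, neg_zero])]
    exact mul_mem (ns _ hQvz (by rw [map_add, huv', huz, add_zero]))
      (ns _ (by rwa [C.neg]) (by rw [map_neg, huz, neg_zero]))
  obtain ⟨w, hw⟩ := exists_hyp C (hf.ndeg C C.ndeg_top) (mem_perp2.mpr ⟨trivial, huv', hfv'⟩)
    hv0 hQv'
  obtain ⟨-, huw, hfw⟩ := mem_perp2.mp hw.memF
  by_cases h2 : Fintype.card F = 2
  · have h4 : 4 ≤ Fintype.card ι := by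
      classical
      have hts : ∀ x ∈ Submodule.span F {u, v'}, Q x = 0 := fun x hx => by
        obtain ⟨a, b, rfl⟩ := Submodule.mem_span_pair.mp hx
        rw [C.smul_add, hu, hQv', huv']; simp
      have h1 := ts_bound C hts
      have h2 : 2 ≤ finrank F (Submodule.span F {u, v'}) := by
        have hli : LinearIndependent F ![u, v'] := by
          refine LinearIndependent.pair_iff.mpr fun a b hab => ?_
          have e1 := congrArg (B f) hab
          rw [map_add, map_smul, map_smul, hf.pair' C, hfv', map_zero] at e1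
          simp at e1
          subst e1
          simpa [hv0] using hab
        have := finrank_span_eq_card hli
        rw [Matrix.range_cons_cons_empty] at this
        rw [this]; simp
      omega
    have h5 : 5 ≤ Fintype.card ι := by
      rcases h with h | h
      · exact absurd h2 h
      · omega
    obtain ⟨z, hz, hQz⟩ : ∃ z ∈ perp2 B ⊤ u v', Q z ≠ 0 := by
      refine exists_nonsing_of_lt C ?_
      have h1 := LinearMap.finrank_range_add_finrank_ker ((B u).prod (B v'))
      have h2 := Submodule.finrank_le (LinearMap.range ((B u).prod (B v')))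
      have h3 : LinearMap.ker ((B u).prod (B v')) = perp2 B ⊤ u v' := by
        rw [LinearMap.ker_prod, perp2, top_inf_eq]
      rw [h3, finrank_fintype_fun_eq_card] at h1
      rw [Module.finrank_prod, Module.finrank_self] at h2
      omega
    obtain ⟨-, huz, hvz⟩ := mem_perp2.mp hz
    exact ⟨z, huz, hQz, by rwa [C.add, hQv', hvz, zero_add, add_zero]⟩
  · obtain ⟨t, ht0, ht1⟩ : ∃ t : F, t ≠ 0 ∧ t ≠ -1 := by
      by_contra hne
      push Not at hne
      classical
      have h3 : (Finset.univ : Finset F) ⊆ {0, -1} := fun t _ => by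
        by_cases ht : t = 0 <;> simp [ht, hne t]
      have h4 := (Finset.card_le_card h3).trans Finset.card_le_two
      rw [Finset.card_univ] at h4
      have := Fintype.one_lt_card (α := F)
      omega
    refine ⟨t • v' + w, by rw [map_add, map_smul, huv', huw]; simp, ?_, ?_⟩
    · rw [C.add, C.smul, hQv', hw.singF, map_smul, LinearMap.smul_apply, hw.pair]
      simpa using ht0
    · rw [show v' + (t • v' + w) = (1 + t) • v' + w by module, C.add, C.smul, hQv', hw.singF,
        map_smul, LinearMap.smul_apply, hw.pair]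
      simpa [eq_neg_iff_add_eq_zero, add_comm] using ht1

/-- Generation by reflections: if F is finite, Q is a quadratic form on F^n with non-degenerate polar form, and (|F|, n) ≠ (2, 4), then the isometry group of Q is generated by the reflections r_v, Q(v) ≠ 0. -/
theorem result {F : Type*} [Field F] [Fintype F] {n : ℕ} (Q : QuadraticForm F (Fin n → F)) (hQ : (QuadraticMap.polarBilin Q).Nondegenerate) (h : Fintype.card F ≠ 2 ∨ n ≠ 4) : Subgroup.closure {g : ↥(Cfsg.isometryGroup F ⇑Q) | ∃ v : Fin n → F, Q v ≠ 0 ∧ ((g : Matrix.GeneralLinearGroup (Fin n) F) : Matrix (Fin n) (Fin n) F) = Cfsg.reflectionMatrix ⇑Q v} = ⊤ := by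
  have C := space_of_quadraticForm Q hQ
  refine eq_top_iff.mpr fun g _ => ?_
  set S := {g : ↥(Cfsg.isometryGroup F ⇑Q) | ∃ v : Fin n → F, Q v ≠ 0 ∧
    ((g : Matrix.GeneralLinearGroup (Fin n) F) : Matrix (Fin n) (Fin n) F) =
      Cfsg.reflectionMatrix ⇑Q v}
  have key : isometryGroup F ⇑Q ≤ (Subgroup.closure S).map (isometryGroup F ⇑Q).subtype := by
    have hr : ∀ v, Q v ≠ 0 →
        rGL ⇑Q v ∈ (Subgroup.closure S).map (isometryGroup F ⇑Q).subtype := fun v hv =>
      ⟨⟨_, rGL_mem C hv⟩, Subgroup.subset_closure ⟨v, hv, rGL_val C hv⟩, rfl⟩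
    conv_lhs => rw [iso_eq_closure C]
    refine (Subgroup.closure_le _).mpr ?_
    rintro _ (⟨v, hv, rfl⟩ | ⟨u, v, hu, hv, huv, rfl⟩)
    · exact hr v hv
    · exact pair_mem C (by simpa using h) _ hr hu hv huv
  obtain ⟨g', hg', heq⟩ := key g.2
  exact Subtype.ext heq ▸ hg'

end Cfsg.Agent.S0786
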