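import Cfsg.Statements.S0792
import Cfsg.Agent.Lib.Linear.OrthSpinor

set_option autoImplicit false
open Cfsg

namespace Cfsg.Agent.S0792

open Module Cfsg.Lib.Linear.Orth
open scoped Matrix


/-- For q odd and Q with non-degenerate polar form on F^n, the determinant-one isometries form the subgroup generated by all products r_u r_v of two reflections (Q(u), Q(v) ≠ 0). -/
theorem result {F : Type*} [Field F] [Fintype F] (h2 : (2 : F) ≠ 0) {n : ℕ} (Q : QuadraticForm F (Fin n → F)) (hQ : (QuadraticMap.polarBilin Q).Nondegenerate) : Cfsg.specialIsometryGroup F ⇑Q = Subgroup.closure {g : ↥(Cfsg.isometryGroup F ⇑Q) | ∃ u v : Fin n → F, Q u ≠ 0 ∧ Q v ≠ 0 ∧ ((g : Matrix.GeneralLinearGroup (Fin n) F) : Matrix (Fin n) (Fin n) F) = Cfsg.reflectionMatrix ⇑Q u * Cfsg.reflectionMatrix ⇑Q v} := by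
  classical
  have C := space_of_quadraticForm Q hQ
  have h : Fintype.card F ≠ 2 ∨ Fintype.card (Fin n) ≠ 4 := Or.inl (card_ne_two h2)
  set S := {g : ↥(Cfsg.isometryGroup F ⇑Q) | ∃ u v : Fin n → F, Q u ≠ 0 ∧ Q v ≠ 0 ∧
    ((g : Matrix.GeneralLinearGroup (Fin n) F) : Matrix (Fin n) (Fin n) F) =
      Cfsg.reflectionMatrix ⇑Q u * Cfsg.reflectionMatrix ⇑Q v}
  have hne : (-1 : Fˣ) ≠ 1 := fun e => h2 (by
    have e' : (-1 : F) = 1 := by simpa using congrArg Units.val e
    linear_combination -e')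
  have hdet : ∀ g : ↥(Cfsg.isometryGroup F ⇑Q), g ∈ Cfsg.specialIsometryGroup F ⇑Q ↔
      Matrix.GeneralLinearGroup.det (g : GL (Fin n) F) = 1 := fun g => Iff.rfl
  have hpair : ∀ u (hu : Q u ≠ 0) v (hv : Q v ≠ 0),
      rI C u hu * rI C v hv ∈ Subgroup.closure S := fun u hu v hv =>
    Subgroup.subset_closure ⟨u, v, hu, hv, by
      show (rGL ⇑Q u * rGL ⇑Q v).val = _
      rw [Units.val_mul, rGL_val C hu, rGL_val C hv]⟩
  refine le_antisymm (fun g hg => ?_) ((Subgroup.closure_le _).mpr ?_)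
  · have key : ∀ g : ↥(Cfsg.isometryGroup F ⇑Q), g ∈ Subgroup.closure S ∨
        ((∀ v (hv : Q v ≠ 0), rI C v hv * g ∈ Subgroup.closure S) ∧
          Matrix.GeneralLinearGroup.det (g : GL (Fin n) F) = -1) := by
      have hdetS : ∀ g ∈ Subgroup.closure S,
          Matrix.GeneralLinearGroup.det ((g : ↥(Cfsg.isometryGroup F ⇑Q)) : GL (Fin n) F) = 1 :=
        fun g hg => by
          refine (hdet g).mp ((Subgroup.closure_le _).mpr ?_ hg)
          rintro x ⟨u, v, hu, hv, hx⟩
          refine (hdet x).mpr (Units.ext ?_)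
          rw [Matrix.GeneralLinearGroup.val_det_apply, hx, Matrix.det_mul, ← rGL_val C hu,
            ← rGL_val C hv, rGL_det C hu, rGL_det C hv]
          simp
      refine refl_induction C h _ (Or.inl (one_mem _)) fun v hv g hg => ?_
      rcases hg with hg | ⟨hg, -⟩
      · refine Or.inr ⟨fun w hw => ?_, ?_⟩
        · rw [← mul_assoc]; exact mul_mem (hpair w hw v hv) hg
        · rw [Subgroup.coe_mul, map_mul, det_rI C hv, hdetS g hg, mul_one]
      · exact Or.inl (hg v hv)
    rcases key g with hk | ⟨-, hk⟩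
    · exact hk
    · exact absurd (hk.symm.trans ((hdet g).mp hg)) hne
  · rintro x ⟨u, v, hu, hv, hx⟩
    refine (hdet x).mpr (Units.ext ?_)
    rw [Matrix.GeneralLinearGroup.val_det_apply, hx, Matrix.det_mul, ← rGL_val C hu,
      ← rGL_val C hv, rGL_det C hu, rGL_det C hv]
    simp

end Cfsg.Agent.S0792
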