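import Cfsg.Statements.S0793
import Cfsg.Agent.Lib.Linear.OrthTrans
-- import your own Cfsg.Agent.* helpers here

set_option autoImplicit false
open Cfsg

namespace Cfsg.Agent.S0793

open scoped Matrix
open Cfsg.Lib.Linear Cfsg.Lib.Linear.Orth

theorem aux {ι : Type} [Fintype ι] [DecidableEq ι] {F : Type*} [Field F]
    (Q : QuadraticForm F (ι → F)) (u v : ι → F) (c : F) (x : ι → F) :
    Cfsg.siegelMatrix ⇑Q u v c *ᵥ x = x + c • (QuadraticMap.polar ⇑Q u x • v -
      QuadraticMap.polar ⇑Q v x • u) := by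
  have hd : ∀ u : ι → F, Cfsg.polarVec ⇑Q u ⬝ᵥ x = QuadraticMap.polar ⇑Q u x := fun u => by
    have : QuadraticMap.polarBilin Q u x = QuadraticMap.polar ⇑Q u x := rfl
    rw [← this]
    conv_rhs => rw [pi_eq_sum_univ' x]
    simp [dotProduct, Cfsg.polarVec, mul_comm]
  simp only [Cfsg.siegelMatrix, Matrix.add_mulVec, Matrix.one_mulVec, Matrix.smul_mulVec,
    Matrix.sub_mulVec, Matrix.vecMulVec_mulVec, op_smul_eq_smul, hd]

/-- Root elements: if Q(u) = Q(v) = 0 and f(u, v) = 0 (f the polar form), then for every c the Siegel matrix T_(u,v)(c) preserves Q, fixes u and v, and T(c) T(d) = T(c + d). -/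
theorem result {F : Type*} [Field F] {n : ℕ} (Q : QuadraticForm F (Fin n → F)) (u v : Fin n → F) (hu : Q u = 0) (hv : Q v = 0) (huv : QuadraticMap.polar ⇑Q u v = 0) : (∀ c x, Q ((Cfsg.siegelMatrix ⇑Q u v c).mulVec x) = Q x) ∧ (∀ c, (Cfsg.siegelMatrix ⇑Q u v c).mulVec u = u ∧ (Cfsg.siegelMatrix ⇑Q u v c).mulVec v = v) ∧ ∀ c d, Cfsg.siegelMatrix ⇑Q u v c * Cfsg.siegelMatrix ⇑Q u v d = Cfsg.siegelMatrix ⇑Q u v (c + d) := by
  have hB : ∀ x y, QuadraticMap.polar ⇑Q x y = QuadraticMap.polarBilin Q x y := fun _ _ => rfl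
  have huu : QuadraticMap.polar ⇑Q u u = 0 := by rw [QuadraticMap.polar_self, hu, smul_zero]
  have hvv : QuadraticMap.polar ⇑Q v v = 0 := by rw [QuadraticMap.polar_self, hv, smul_zero]
  have hvu : QuadraticMap.polar ⇑Q v u = 0 := by rw [QuadraticMap.polar_comm, huv]
  refine ⟨fun c x => ?_, fun c => ?_, fun c d => ?_⟩
  · rw [aux, sub_eq_add_neg, ← neg_smul, smul_add, smul_smul, smul_smul, ← add_assoc,
      QuadraticMap.map_add (⇑Q), QuadraticMap.map_add (⇑Q), QuadraticMap.map_smul, QuadraticMap.map_smul,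
      QuadraticMap.polar_add_left, QuadraticMap.polar_smul_left, QuadraticMap.polar_smul_right,
      QuadraticMap.polar_smul_right, QuadraticMap.polar_smul_right, hu, hv, hvu,
      QuadraticMap.polar_comm (⇑Q) x v, QuadraticMap.polar_comm (⇑Q) x u]
    simp only [smul_eq_mul]
    ring
  · rw [aux, aux, huu, hvv, huv, hvu]
    simp
  · refine Matrix.ext_of_mulVec_single fun i => ?_
    rw [← Matrix.mulVec_mulVec]
    generalize (Pi.single i 1 : Fin n → F) = x
    simp only [hB] at huu hvv hvu huv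
    simp only [aux, hB, map_add, map_sub, map_smul, huu, hvv, hvu, huv, smul_eq_mul]
    module

end Cfsg.Agent.S0793
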