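import Cfsg.Statements.S0794
import Cfsg.Agent.Lib.Linear.OrthTrans
-- import your own Cfsg.Agent.* helpers here

set_option autoImplicit false
open Cfsg

namespace Cfsg.Agent.S0794

open scoped Matrix
open Cfsg.Lib.Linear Cfsg.Lib.Linear.Orth


/-- For q odd, n ≥ 5 and Q with non-degenerate polar form: an isometry whose matrix is a Siegel transformation T_(u,v)(c) (u, v singular and orthogonal) is a commutator in the isometry group, so lies in Ω. -/
theorem result {F : Type*} [Field F] [Fintype F] (h2 : (2 : F) ≠ 0) {n : ℕ} (hn : 5 ≤ n) (Q : QuadraticForm F (Fin n → F)) (hQ : (QuadraticMap.polarBilin Q).Nondegenerate) (u v : Fin n → F) (hu : Q u = 0) (hv : Q v = 0) (huv : QuadraticMap.polar ⇑Q u v = 0) (c : F) (g : ↥(Cfsg.isometryGroup F ⇑Q)) (hg : ((g : Matrix.GeneralLinearGroup (Fin n) F) : Matrix (Fin n) (Fin n) F) = Cfsg.siegelMatrix ⇑Q u v c) : g ∈ commutatorSet ↥(Cfsg.isometryGroup F ⇑Q) ∧ g ∈ Cfsg.Omega F ⇑Q := by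
  have C := space_of_quadraticForm Q hQ
  have huv' : QuadraticMap.polarBilin Q u v = 0 := huv
  have hcv : QuadraticMap.polarBilin Q u (c • v) = 0 := by rw [map_smul, huv', smul_zero]
  have hg' : g.1 = sGL (⇑Q) (QuadraticMap.polarBilin Q) u (c • v) :=
    Units.ext (hg.trans (sGL_val_siegel C hu hv huv' c).symm)
  suffices hcomm : g ∈ commutatorSet ↥(Cfsg.isometryGroup F ⇑Q) from
    ⟨hcomm, by
      show g ∈ commutator _
      rw [commutator_eq_closure]
      exact Subgroup.subset_closure hcomm⟩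
  by_cases hv' : ∃ w, QuadraticMap.polarBilin Q u w = 0 ∧ Q w = 0 ∧
      QuadraticMap.polarBilin Q v w = 1
  · obtain ⟨w, huw, hw, hvw⟩ := hv'
    set B := QuadraticMap.polarBilin Q
    have h1 : Q (v - w) = -1 := by
      rw [sub_eq_add_neg, C.add, C.neg, hv, hw, map_neg, hvw]; simp
    have h1' : Q (v - w) ≠ 0 := by rw [h1]; simp
    have h2' : Q (v - (2 : F) • w) = -2 := by
      rw [sub_eq_add_neg, ← neg_smul, C.add, C.smul, hv, hw, map_smul, hvw]; simp
    have h2'' : Q (v - (2 : F) • w) ≠ 0 := by rw [h2']; simpa using h2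
    set a := rGL (⇑Q) (v - w) * rGL (⇑Q) (v - (2 : F) • w) with ha
    have haO : a ∈ Cfsg.isometryGroup F ⇑Q := mul_mem (rGL_mem C h1') (rGL_mem C h2'')
    have hau : a.val *ᵥ u = u := by
      have e1 : B (v - w) u = 0 := by rw [C.symm, map_sub, huv', huw, sub_zero]
      have e2 : B (v - (2 : F) • w) u = 0 := by
        rw [C.symm, map_sub, map_smul, huv', huw, smul_zero, sub_zero]
      rw [ha, mul_act, rGL_fix C h2'' e2, rGL_fix C h1' e1]
    have hav : a.val *ᵥ v = (2 : F) • v := by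
      rw [ha, mul_act, rGL_act C h2'', rGL_act C h1', h1, h2']
      simp only [map_sub, map_smul, LinearMap.sub_apply, LinearMap.smul_apply, C.self_zero hv,
        C.symm w v, C.self_zero hw, hvw, smul_eq_mul]
      match_scalars <;> field_simp <;> ring
    refine ⟨⟨a, haO⟩, ⟨sGL (⇑Q) B u (c • v), sGL_mem C hu hcv⟩, Subtype.ext ?_⟩
    rw [hg']
    show a * sGL (⇑Q) B u (c • v) * a⁻¹ * (sGL (⇑Q) B u (c • v))⁻¹ = _
    rw [sGL_conj C hu hcv haO, hau, Matrix.mulVec_smul, hav, mul_inv_eq_iff_eq_mul,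
      sGL_mul C hu hcv hcv, smul_comm, two_smul]
  · refine ⟨1, 1, Subtype.ext ?_⟩
    rw [hg']
    simp only [commutatorElement_def, mul_one, inv_one]
    by_cases hu0 : u = 0
    · refine gl_ext fun x => ?_
      rw [sGL_act C hu hcv, hu0]
      simp
    obtain ⟨f, hf⟩ := exists_hyp C C.ndeg_top trivial hu0 hu
    have hp := hf.proj C (x := v) trivial
    rw [huv', zero_smul, sub_zero] at hp
    by_cases hp0 : v - QuadraticMap.polarBilin Q f v • u = 0
    · refine gl_ext fun x => ?_
      rw [sGL_act C hu hcv, C.smul, hv, Subgroup.coe_one, Units.val_one, Matrix.one_mulVec,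
        sub_eq_zero.mp hp0]
      simp only [map_smul, LinearMap.smul_apply, smul_eq_mul]
      module
    · exfalso
      have hQp : Q (v - QuadraticMap.polarBilin Q f v • u) = 0 := by
        rw [sub_eq_add_neg, ← neg_smul, C.add, C.smul, hu, hv, map_smul, C.symm v u, huv']
        simp
      obtain ⟨w, hw⟩ := exists_hyp C (hf.ndeg C C.ndeg_top) hp hp0 hQp
      obtain ⟨-, huw, hfw⟩ := mem_perp2.mp hw.memF
      refine hv' ⟨w, huw, hw.singF, ?_⟩
      have := hw.pair
      rwa [map_sub, map_smul, LinearMap.sub_apply, LinearMap.smul_apply, huw, smul_zero,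
        sub_zero] at this

end Cfsg.Agent.S0794
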