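import Cfsg.Statements.S0795
import Cfsg.Agent.Lib.Linear.OrthTrans
-- import your own Cfsg.Agent.* helpers here

set_option autoImplicit false
open Cfsg

namespace Cfsg.Agent.S0795

open scoped Matrix
open Cfsg.Lib.Linear Cfsg.Lib.Linear.Orth


/-- Generation of Ω by root elements: for q odd, n ≥ 5 and Q with non-degenerate polar form on F^n, the commutator subgroup of the isometry group equals the subgroup generated by the isometries whose matrices are Siegel transformations T_(u,v)(c) with u, v singular and orthogonal. -/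
theorem result {F : Type*} [Field F] [Fintype F] (h2 : (2 : F) ≠ 0) {n : ℕ} (hn : 5 ≤ n) (Q : QuadraticForm F (Fin n → F)) (hQ : (QuadraticMap.polarBilin Q).Nondegenerate) : Cfsg.Omega F ⇑Q = Subgroup.closure {g : ↥(Cfsg.isometryGroup F ⇑Q) | ∃ (u v : Fin n → F) (c : F), Q u = 0 ∧ Q v = 0 ∧ QuadraticMap.polar ⇑Q u v = 0 ∧ ((g : Matrix.GeneralLinearGroup (Fin n) F) : Matrix (Fin n) (Fin n) F) = Cfsg.siegelMatrix ⇑Q u v c} := by
  have C := space_of_quadraticForm Q hQ
  have h5 : 5 ≤ Fintype.card (Fin n) := by simpa using hn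
  refine Subgroup.map_injective (Subgroup.subtype_injective _) ?_
  rw [MonoidHom.map_closure, Subgroup.map_subtype_commutator, comm_eq_root C h5]
  refine le_antisymm (root_le_of_pairs C h5 _ fun u v hu hv huv => Subgroup.subset_closure ?_)
    ((Subgroup.closure_le _).mpr ?_)
  · refine ⟨⟨sGL (⇑Q) _ u v, sGL_mem C hu huv⟩, ⟨u, v, 1, hu, hv, huv, ?_⟩, rfl⟩
    show (sGL (⇑Q) _ u v).val = _
    rw [← sGL_val_siegel C hu hv huv 1, one_smul]
  · rintro _ ⟨g, ⟨u, v, c, hu, hv, huv, hg⟩, rfl⟩
    have huv' : QuadraticMap.polarBilin Q u v = 0 := huv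
    have : (g : Matrix.GeneralLinearGroup (Fin n) F) = sGL (⇑Q) _ u (c • v) :=
      Units.ext (hg.trans (sGL_val_siegel C hu hv huv' c).symm)
    show (g : Matrix.GeneralLinearGroup (Fin n) F) ∈ _
    rw [this]
    exact sGL_mem_root trivial trivial hu (by rw [map_smul, huv', smul_zero])

end Cfsg.Agent.S0795
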