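import Cfsg.Statements.S0796
import Mathlib
open scoped Pointwise

set_option autoImplicit false
open Cfsg

namespace Cfsg.Agent.S0796

/-- If G is finite and acts faithfully and primitively on X, H is the stabiliser of a point, A is a normal subgroup of H whose normal closure in G is G, then for every non-trivial normal subgroup K of G the quotient G ⧸ K is isomorphic to A ⧸ B for some normal subgroup B of A. -/
theorem result {G X : Type*} [Group G] [Finite G] [MulAction G X] [FaithfulSMul G X] (hprim : MulAction.IsPreprimitive G X) (x : X) (A : Subgroup G) (hA : A ≤ MulAction.stabilizer G x) (hAn : (A.subgroupOf (MulAction.stabilizer G x)).Normal) (hgen : Subgroup.normalClosure (A : Set G) = ⊤) (K : Subgroup G) [K.Normal] (hK : K ≠ ⊥) : ∃ (B : Subgroup A) (_ : B.Normal), Nonempty (G ⧸ K ≃* A ⧸ B) := by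
  set H := MulAction.stabilizer G x with hH
  have hnt : MulAction.fixedPoints K X ≠ Set.univ := by
    intro h
    refine hK (eq_bot_iff.2 fun k hk => Subgroup.mem_bot.2 (eq_of_smul_eq_smul fun y : X => ?_))
    rw [one_smul]
    exact (h.symm ▸ Set.mem_univ y : y ∈ MulAction.fixedPoints K X) ⟨k, hk⟩
  haveI : MulAction.IsPretransitive K X := MulAction.IsQuasiPreprimitive.isPretransitive_of_normal hnt
  have hgen' : A ⊔ K = ⊤ := by
    rw [eq_top_iff, ← hgen]
    have hn : (A ⊔ K).Normal := by
      refine ⟨fun a ha g => ?_⟩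
      obtain ⟨k, hk⟩ := MulAction.exists_smul_eq K x (g • x)
      have hh : (k : G)⁻¹ * g ∈ H := by
        rw [hH, MulAction.mem_stabilizer_iff, mul_smul, inv_smul_eq_iff]
        exact hk.symm
      have hconj : MulAut.conj ((k : G)⁻¹ * g) • (A ⊔ K) = A ⊔ K := by
        rw [Subgroup.smul_sup, Subgroup.Normal.conj_smul_eq_self _ K]
        congr 1
        refine Subgroup.eq_of_le_of_card_ge ?_ (le_of_eq (Nat.card_congr (Subgroup.equivSMul _ A).toEquiv))
        intro y hy
        obtain ⟨b, hb, rfl⟩ := Subgroup.mem_smul_pointwise_iff_exists _ _ _ |>.1 hy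
        exact hAn.conj_mem ⟨b, hA hb⟩ hb ⟨_, hh⟩
      have h1 : ((k : G)⁻¹ * g) * a * ((k : G)⁻¹ * g)⁻¹ ∈ A ⊔ K :=
        hconj.le (Subgroup.smul_mem_pointwise_smul a (MulAut.conj ((k : G)⁻¹ * g)) _ ha)
      have hk' : (k : G) ∈ A ⊔ K := Subgroup.mem_sup_right k.2
      convert mul_mem (mul_mem hk' h1) (inv_mem hk') using 1
      group
    exact Subgroup.normalClosure_le_normal fun a ha => Subgroup.mem_sup_left ha
  let f : A →* G ⧸ K := (QuotientGroup.mk' K).comp A.subtype
  have hf : Function.Surjective f := by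
    rw [← MonoidHom.range_eq_top, MonoidHom.range_comp, Subgroup.range_subtype]
    have h2 := congrArg (Subgroup.map (QuotientGroup.mk' K)) hgen'
    rwa [Subgroup.map_sup, QuotientGroup.map_mk'_self, sup_bot_eq,
      Subgroup.map_top_of_surjective _ (QuotientGroup.mk'_surjective K)] at h2
  exact ⟨f.ker, inferInstance, ⟨(QuotientGroup.quotientKerEquivOfSurjective f hf).symm⟩⟩

end Cfsg.Agent.S0796
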