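import Cfsg.Statements.S0797
import Cfsg.Agent.Lib.Linear.OrthSpinor

set_option autoImplicit false
open Cfsg

namespace Cfsg.Agent.S0797

open Module Cfsg.Lib.Linear.Orth
open scoped commutatorElement

/-- Index-two subgroups over a normal subgroup of index four containing all squares. -/
theorem count_index_two {G : Type*} [Group G] (N : Subgroup G) [N.Normal] (hidx : N.index = 4)
    (hsq : ∀ g, g * g ∈ N) (hN : N = commutator G := by rfl) :
    Nat.card {H : Subgroup G // H.index = 2} = 3 := by
  classical
  have hle : ∀ H : Subgroup G, H.index = 2 → N ≤ H := fun H hH => by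
    haveI := Subgroup.normal_of_index_eq_two hH
    subst hN
    rw [_root_.commutator_def, Subgroup.commutator_le]
    intro g _ k _
    have hcomm : ∀ a b : G ⧸ H, a * b = b * a := fun a b => by
      have h2 : Nat.card (G ⧸ H) = 2 := hH
      haveI : Fact (Nat.Prime 2) := ⟨Nat.prime_two⟩
      haveI := isCyclic_of_prime_card h2
      exact (IsCyclic.commGroup (α := G ⧸ H)).mul_comm a b
    refine (QuotientGroup.eq_one_iff _).mp ?_
    show QuotientGroup.mk' H ⁅g, k⁆ = 1
    rw [map_commutatorElement, commutatorElement_eq_one_iff_mul_comm]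
    exact hcomm _ _
  have hcard : Nat.card (G ⧸ N) = 4 := hidx
  haveI : Finite (G ⧸ N) := Nat.finite_of_card_ne_zero (by omega)
  have hinv : ∀ x : G ⧸ N, x ^ 2 = 1 := fun x => by
    induction x using QuotientGroup.induction_on with
    | _ g => rw [sq, ← QuotientGroup.mk_mul, QuotientGroup.eq_one_iff]; exact hsq g
  have hord : ∀ x : G ⧸ N, x ≠ 1 → Nat.card (Subgroup.zpowers x) = 2 := fun x hx => by
    rw [Nat.card_zpowers]; exact orderOf_eq_prime (hinv x) hx
  have hidx2 : ∀ K : Subgroup (G ⧸ N), K.index = 2 ↔ Nat.card K = 2 := fun K => by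
    have := K.card_mul_index
    rw [hcard] at this
    constructor <;> intro h <;> rw [h] at this <;> omega
  have hmem : ∀ x y : G ⧸ N, y ∈ Subgroup.zpowers x → y = 1 ∨ y = x := fun x y hy => by
    obtain ⟨k, rfl⟩ := Subgroup.mem_zpowers_iff.mp hy
    rcases Int.even_or_odd k with ⟨j, rfl⟩ | ⟨j, rfl⟩
    · left; rw [← two_mul, zpow_mul, zpow_two, ← sq, hinv, one_zpow]
    · right; rw [zpow_add, zpow_mul, zpow_two, ← sq, hinv, one_zpow, one_mul, zpow_one]
  let e : {x : G ⧸ N // x ≠ 1} → {H : Subgroup G // H.index = 2} := fun x =>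
    ⟨(Subgroup.zpowers x.1).comap (QuotientGroup.mk' N), by
      rw [Subgroup.index_comap_of_surjective _ (QuotientGroup.mk'_surjective N), hidx2]
      exact hord _ x.2⟩
  have hbij : Function.Bijective e := by
    refine ⟨fun x y hxy => ?_, fun H => ?_⟩
    · have h := Subgroup.comap_injective (QuotientGroup.mk'_surjective N) (congrArg Subtype.val hxy)
      exact Subtype.ext ((hmem _ _ (h ▸ Subgroup.mem_zpowers x.1)).resolve_left x.2)
    · have hback : (H.1.map (QuotientGroup.mk' N)).comap (QuotientGroup.mk' N) = H.1 := by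
        rw [Subgroup.comap_map_eq, QuotientGroup.ker_mk', sup_eq_left]
        exact hle H.1 H.2
      have hK : Nat.card (H.1.map (QuotientGroup.mk' N)) = 2 := by
        rw [← hidx2, ← Subgroup.index_comap_of_surjective _ (QuotientGroup.mk'_surjective N), hback]
        exact H.2
      have hne : H.1.map (QuotientGroup.mk' N) ≠ ⊥ := fun h => by
        rw [h, Subgroup.card_bot] at hK; omega
      obtain ⟨x, hx, hx1⟩ := (Subgroup.bot_or_exists_ne_one _).resolve_left hne
      refine ⟨⟨x, hx1⟩, Subtype.ext ?_⟩
      show (Subgroup.zpowers x).comap _ = H.1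
      rw [← hback, Subgroup.eq_of_le_of_card_ge (Subgroup.zpowers_le.mpr hx)]
      rw [hK, hord x hx1]
  rw [← Nat.card_eq_of_bijective e hbij]
  haveI := Fintype.ofFinite (G ⧸ N)
  rw [Nat.card_eq_fintype_card, Fintype.card_subtype_compl, Fintype.card_subtype_eq,
    ← Nat.card_eq_fintype_card, hcard]

/-- O^ε_2m(q) ≅ Ω.2² for q odd: if F is finite of odd characteristic, n ≥ 2 is even and Q has non-degenerate polar form on F^n, the isometry group of Q has exactly three subgroups of index 2. -/
theorem result {F : Type*} [Field F] [Fintype F] (h2 : (2 : F) ≠ 0) {n : ℕ} (hn : 2 ≤ n) (heven : Even n) (Q : QuadraticForm F (Fin n → F)) (hQ : (QuadraticMap.polarBilin Q).Nondegenerate) : Nat.card {H : Subgroup ↥(Cfsg.isometryGroup F ⇑Q) // H.index = 2} = 3 := by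
  classical
  have C := space_of_quadraticForm Q hQ
  obtain ⟨hker, hidx, -⟩ := omega_odd C h2 (by simpa using hn)
  have hsq : ∀ g : ↥(Cfsg.isometryGroup F ⇑Q), g * g ∈ commutator ↥(Cfsg.isometryGroup F ⇑Q) := by
    intro g
    rw [hker, MonoidHom.mem_ker, map_mul]
    refine Prod.ext ?_ (Int.units_mul_self _)
    show Matrix.GeneralLinearGroup.det (g : GL (Fin n) F) *
      Matrix.GeneralLinearGroup.det (g : GL (Fin n) F) = 1
    apply Units.ext
    rw [Units.val_mul, Matrix.GeneralLinearGroup.val_det_apply]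
    rcases det_sq C g.2 with h | h <;> simp [h]
  exact count_index_two (commutator ↥(Cfsg.isometryGroup F ⇑Q)) hidx hsq

end Cfsg.Agent.S0797
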