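import Cfsg.Statements.S0798
import Cfsg.Agent.Lib.Linear.OrthSpinor

set_option autoImplicit false
open Cfsg

namespace Cfsg.Agent.S0798

open Module Cfsg.Lib.Linear.Orth
open scoped Matrix

section

variable {ι : Type} [Fintype ι] [DecidableEq ι] {F : Type*} [Field F] [Fintype F]
  {Q : (ι → F) → F} {B : LinearMap.BilinForm F (ι → F)}

/-- Reflections in one class of vectors generate this subgroup. -/
def classSub (C : Space Q B) (c : F) : Subgroup ↥(isometryGroup F Q) :=
  Subgroup.closure {g | ∃ v, ∃ hv : Q v ≠ 0, IsSquare (Q v / c) ∧ g = rI C v hv}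

theorem rI_mem_classSub (C : Space Q B) {c : F} {v : ι → F} (hv : Q v ≠ 0)
    (h : IsSquare (Q v / c)) : rI C v hv ∈ classSub C c :=
  Subgroup.subset_closure ⟨v, hv, h, rfl⟩

omit [Fintype F] in
theorem rI_congr (C : Space Q B) {v w : ι → F} (hv : Q v ≠ 0) (hw : Q w ≠ 0)
    (h : rGL Q v = rGL Q w) : rI C v hv = rI C w hw := Subtype.ext h

theorem classSub_normal (C : Space Q B) (c : F) : (classSub C c).Normal := ⟨fun n hn g => by
  refine Subgroup.closure_induction (p := fun n _ => g * n * g⁻¹ ∈ classSub C c) ?_ ?_ ?_ ?_ hn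
  · rintro x ⟨v, hv, hs, rfl⟩
    have hgv : Q ((g : GL ι F).val *ᵥ v) = Q v := mem_iso.mp g.2 v
    have hgv0 : Q ((g : GL ι F).val *ᵥ v) ≠ 0 := by rw [hgv]; exact hv
    have : g * rI C v hv * g⁻¹ = rI C _ hgv0 := Subtype.ext (rGL_conj C hv g.2)
    rw [this]
    exact rI_mem_classSub C hgv0 (by rwa [hgv])
  · simp [one_mem]
  · intro x y _ _ hx hy
    rw [show g * (x * y) * g⁻¹ = (g * x * g⁻¹) * (g * y * g⁻¹) by group]
    exact mul_mem hx hy
  · intro x _ hx
    rw [show g * x⁻¹ * g⁻¹ = (g * x * g⁻¹)⁻¹ by group]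
    exact inv_mem hx⟩

/-- If the difference is in the class, the product of the reflections is in the subgroup. -/
theorem step_sub (C : Space Q B) {c : F} {x y : ι → F} (hx : Q x ≠ 0) (hxy : Q x = Q y)
    (hd0 : Q (x - y) ≠ 0) (hd : IsSquare (Q (x - y) / c)) :
    rI C x hx * rI C y (hxy ▸ hx) ∈ classSub C c := by
  have hw := rI_mem_classSub C hd0 hd
  have hQ : Q (x - y) = 2 * Q x - B x y := by
    have h := C.smul_add 1 (-1) x y
    rw [one_smul, neg_one_smul, ← sub_eq_add_neg] at h
    rw [h, hxy]; ring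
  have hmove : (rGL Q (x - y)).val *ᵥ x = y := by
    rw [rGL_act C hd0]
    have : B (x - y) x = Q (x - y) := by
      rw [map_sub, LinearMap.sub_apply, C.self, C.symm y x, hQ]
    rw [this, inv_mul_cancel₀ hd0, one_smul, sub_sub_cancel]
  have he : rI C y (hxy ▸ hx) = rI C (x - y) hd0 * rI C x hx * (rI C (x - y) hd0)⁻¹ := by
    refine Subtype.ext ?_
    show rGL Q y = rGL Q (x - y) * rGL Q x * (rGL Q (x - y))⁻¹
    rw [rGL_conj C hx (rGL_mem C hd0), hmove]
  rw [he, show rI C x hx * (rI C (x - y) hd0 * rI C x hx * (rI C (x - y) hd0)⁻¹) =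
      (rI C x hx * rI C (x - y) hd0 * (rI C x hx)⁻¹) * (rI C (x - y) hd0)⁻¹ from by
    rw [inv_eq_of_mul_eq_one_right (rI_sq C hx)]; group]
  exact mul_mem ((classSub_normal C c).conj_mem _ hw _) (inv_mem hw)

theorem isSquare_mul_nonsq (h2 : (2 : F) ≠ 0) {a b : F} (ha0 : a ≠ 0) (hb0 : b ≠ 0)
    (ha : ¬ IsSquare a) (hb : ¬ IsSquare b) : IsSquare (a * b) := by
  classical
  rw [← quadraticChar_one_iff_isSquare (mul_ne_zero ha0 hb0), map_mul,
    quadraticChar_neg_one_iff_not_isSquare.mpr ha, quadraticChar_neg_one_iff_not_isSquare.mpr hb]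
  norm_num

/-- Two vectors spanning a non-degenerate plane. -/
theorem step_plane (C : Space Q B) (h2 : (2 : F) ≠ 0) {c : F} (hc : c ≠ 0) {x y : ι → F}
    (hx : Q x ≠ 0) (hy : Q y ≠ 0) (hxy : Q x = Q y) (hns : ¬ IsSquare (Q x / c))
    (hB : B x y ^ 2 ≠ 4 * Q x ^ 2) :
    rI C x hx * rI C y hy ∈ classSub C c := by
  classical
  obtain ⟨d, hd⟩ : ∃ d, d = Q x := ⟨_, rfl⟩
  have hyd : Q y = d := by rw [hd, hxy]
  have ha : Q (x - y) = 2 * d - B x y := by
    have h := C.smul_add 1 (-1) x y
    rw [one_smul, neg_one_smul, ← sub_eq_add_neg] at h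
    rw [h, hyd, ← hd]; ring
  have hb : Q (x + y) = 2 * d + B x y := by
    rw [C.add, hyd, ← hd]; ring
  have ha0 : Q (x - y) ≠ 0 := fun h => hB (by
    rw [ha] at h; rw [← hd]; linear_combination (-(2 * d + B x y)) * h)
  have hb0 : Q (x + y) ≠ 0 := fun h => hB (by
    rw [hb] at h; rw [← hd]; linear_combination (B x y - 2 * d) * h)
  by_cases hsa : IsSquare (Q (x - y) / c)
  · exact step_sub C hx hxy ha0 hsa
  by_cases hsb : IsSquare (Q (x + y) / c)
  · have hny : Q (-y) ≠ 0 := by rw [C.neg]; exact hy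
    have : rI C y hy = rI C (-y) hny := rI_congr C hy hny (by
      rw [← neg_one_smul F y, rGL_smul C hy (neg_ne_zero.mpr one_ne_zero)])
    rw [this]
    exact step_sub C hx (by rw [C.neg, hxy]) (by rwa [sub_neg_eq_add]) (by rwa [sub_neg_eq_add])
  -- a vector of the class in the plane
  obtain ⟨u, v, huv⟩ := FiniteField.exists_root_sum_quadratic
    (f := Polynomial.C (Q (x - y)) * Polynomial.X ^ 2)
    (g := Polynomial.C (Q (x + y)) * Polynomial.X ^ 2 - Polynomial.C c)
    (Polynomial.degree_C_mul_X_pow 2 ha0)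
    (by
      rw [Polynomial.degree_sub_eq_left_of_degree_lt, Polynomial.degree_C_mul_X_pow 2 hb0]
      · rfl
      · rw [Polynomial.degree_C_mul_X_pow 2 hb0, Polynomial.degree_C hc]; decide)
    (FiniteField.odd_card_of_char_ne_two (fun h => h2 (by
      haveI := ringChar.charP F
      have := CharP.cast_eq_zero F (ringChar F)
      rw [h] at this
      exact_mod_cast this)))
  simp at huv
  obtain ⟨w, hw⟩ : ∃ w, w = u • (x - y) + v • (x + y) := ⟨_, rfl⟩
  have horth : B (x - y) (x + y) = 0 := by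
    simp only [map_sub, map_add, LinearMap.sub_apply, C.self, C.symm y x, hxy]
    ring
  have hwQ : Q w = c := by rw [hw, C.smul_add, horth]; linear_combination huv
  have hw0 : Q w ≠ 0 := by rw [hwQ]; exact hc
  have hwc : IsSquare (Q w / c) := by rw [hwQ, div_self hc]; exact IsSquare.one
  have hv0 : v ≠ 0 := fun h => hsa ⟨u⁻¹, by
    have hu : u ≠ 0 := fun h' => hc (by rw [← hwQ, hw, h, h']; simp [C.zero])
    rw [h] at huv
    field_simp
    linear_combination huv⟩
  have hwx : B w x = u * Q (x - y) + v * Q (x + y) := by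
    rw [hw, ha, hb]
    simp only [map_add, map_smul, map_sub, LinearMap.add_apply, LinearMap.smul_apply,
      LinearMap.sub_apply, smul_eq_mul, C.self, C.symm y x, ← hd]
  have hwy : B w y = v * Q (x + y) - u * Q (x - y) := by
    rw [hw, ha, hb]
    simp only [map_add, map_smul, map_sub, LinearMap.add_apply, LinearMap.smul_apply,
      LinearMap.sub_apply, smul_eq_mul, C.self, hyd]
    ring
  have hsq : IsSquare (4 * v ^ 2 * ((d / c) * (Q (x + y) / c))) :=
    IsSquare.mul ⟨2 * v, by ring⟩ (isSquare_mul_nonsq h2 (div_ne_zero (hd ▸ hx) hc)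
      (div_ne_zero hb0 hc) (hd ▸ hns) hsb)
  -- the step, for a vector not orthogonal to the mirror
  have main : ∀ p q : ι → F, ∀ hp : Q p ≠ 0, ∀ hq : Q q ≠ 0, Q p = Q q →
      Q (q - p) = Q (x - y) → B w p ≠ 0 →
      B w p * B w q = v ^ 2 * Q (x + y) ^ 2 - u ^ 2 * Q (x - y) ^ 2 →
      rI C p hp * rI C q hq ∈ classSub C c := by
    intro p q hp hq hpq hqp hwp hprod
    obtain ⟨k, hk⟩ : ∃ k, k = B w p / c := ⟨_, rfl⟩
    have hk0 : k ≠ 0 := by rw [hk]; exact div_ne_zero hwp hc
    have hQkw : Q (k • w) = k ^ 2 * c := by rw [C.smul, hwQ]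
    obtain ⟨z, hz⟩ : ∃ z, z = p - k • w := ⟨_, rfl⟩
    have hzQ : Q z = Q p := by
      have h := C.smul_add 1 (-k) p w
      rw [one_smul, neg_smul, ← sub_eq_add_neg, ← hz, C.symm p w, hwQ] at h
      rw [h, hk]; field_simp; ring
    have hz0 : Q z ≠ 0 := by rw [hzQ]; exact hp
    have hpz : p - z = k • w := by rw [hz, sub_sub_cancel]
    have h1 : rI C p hp * rI C z hz0 ∈ classSub C c :=
      step_sub C hp hzQ.symm (by rw [hpz, hQkw]; exact mul_ne_zero (pow_ne_zero 2 hk0) hc)
        (by rw [hpz, hQkw]; exact ⟨k, by field_simp⟩)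
    have hQd : Q (q - z) = Q (x - y) + B w p * B w q / c := by
      rw [show q - z = (q - p) + k • w by rw [hz]; abel, C.add, hQkw, hqp, map_smul, map_sub,
        LinearMap.sub_apply, smul_eq_mul, C.symm q w, C.symm p w, hk]
      field_simp
      ring
    have hab : Q (x - y) + Q (x + y) = 4 * d := by rw [ha, hb]; ring
    have hkey : Q (q - z) * c = 4 * v ^ 2 * (d * Q (x + y)) := by
      rw [hQd, add_mul, div_mul_cancel₀ _ hc, hprod]
      linear_combination (-Q (x - y)) * huv + v ^ 2 * Q (x + y) * hab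
    have h4 : (4 : F) ≠ 0 := by
      rw [show (4 : F) = 2 * 2 by norm_num]; exact mul_ne_zero h2 h2
    have hqz0 : Q (q - z) ≠ 0 := fun h => by
      rw [h, zero_mul] at hkey
      exact mul_ne_zero (mul_ne_zero h4 (pow_ne_zero 2 hv0)) (mul_ne_zero (hd ▸ hx) hb0) hkey.symm
    have hzq : Q (z - q) = Q (q - z) := by rw [← neg_sub, C.neg]
    have h2' : rI C z hz0 * rI C q hq ∈ classSub C c :=
      step_sub C hz0 (hzQ.trans hpq) (by rw [hzq]; exact hqz0) (by
        rw [hzq, show Q (q - z) / c = 4 * v ^ 2 * ((d / c) * (Q (x + y) / c)) by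
          field_simp; linear_combination hkey]
        exact hsq)
    have := mul_mem h1 h2'
    rwa [show rI C p hp * rI C z hz0 * (rI C z hz0 * rI C q hq) = rI C p hp * rI C q hq by
      rw [mul_assoc, ← mul_assoc (rI C z hz0), rI_sq C hz0, one_mul]] at this
  by_cases h0 : B w x = 0
  · have h1 : B w y ≠ 0 := fun h => by
      rw [hwx] at h0; rw [hwy] at h
      have h' : (2 : F) * (v * Q (x + y)) = 0 := by linear_combination h0 + h
      exact mul_ne_zero h2 (mul_ne_zero hv0 hb0) h'
    have := inv_mem (main y x hy hx hxy.symm rfl h1 (by rw [hwx, hwy]; ring))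
    rwa [mul_inv_rev, inv_eq_of_mul_eq_one_right (rI_sq C hx),
      inv_eq_of_mul_eq_one_right (rI_sq C hy)] at this
  · exact main x y hx hy hxy (by rw [← neg_sub, C.neg]) h0 (by rw [hwx, hwy]; ring)

/-- Two vectors of the same norm outside the class. -/
theorem step_pair (C : Space Q B) (h2 : (2 : F) ≠ 0)
    (heven : Even (Fintype.card ι)) (h43 : ¬ (Fintype.card ι = 4 ∧ Fintype.card F = 3))
    {c : F} (hc : c ≠ 0) {x y : ι → F} (hx : Q x ≠ 0) (hy : Q y ≠ 0) (hxy : Q x = Q y)
    (hns : ¬ IsSquare (Q x / c)) : rI C x hx * rI C y hy ∈ classSub C c := by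
  classical
  by_cases hB : B x y ^ 2 = 4 * Q x ^ 2
  swap; · exact step_plane C h2 hc hx hy hxy hns hB
  obtain ⟨y', hy', hry, hy'Q, hBy⟩ : ∃ y', ∃ h : Q y' ≠ 0, rI C y hy = rI C y' h ∧ Q y' = Q y ∧
      B x y' = 2 * Q x := by
    have : (B x y - 2 * Q x) * (B x y + 2 * Q x) = 0 := by linear_combination hB
    rcases mul_eq_zero.mp this with h | h
    · exact ⟨y, hy, rfl, rfl, sub_eq_zero.mp h⟩
    · refine ⟨-y, by rwa [C.neg], rI_congr C hy _ ?_, C.neg y, ?_⟩
      · rw [← neg_one_smul F y, rGL_smul C hy (neg_ne_zero.mpr one_ne_zero)]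
      · rw [map_neg]; linear_combination -h
  rw [hry]
  clear hB hry
  obtain ⟨u, hu⟩ : ∃ u, u = y' - x := ⟨_, rfl⟩
  have hy'eq : y' = x + u := by rw [hu, add_sub_cancel]
  by_cases hu0 : u = 0
  · have : rI C y' hy' = rI C x hx := rI_congr C _ _ (by rw [hy'eq, hu0, add_zero])
    rw [this, rI_sq C hx]
    exact one_mem _
  have hBxu : B x u = 0 := by rw [hu, map_sub, hBy, C.self, sub_self]
  have hQu : Q u = 0 := by
    have h := C.add x u
    rw [← hy'eq, hy'Q, ← hxy, hBxu] at h
    linear_combination -h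
  obtain ⟨U, hU⟩ : ∃ U, U = LinearMap.ker (B x) := ⟨_, rfl⟩
  have hmemU : ∀ z, z ∈ U ↔ B x z = 0 := fun z => by rw [hU, LinearMap.mem_ker]
  have hUnd : NDeg B U := fun z hz h => C.nondeg' fun t => by
    have ht : t - ((2 * Q x)⁻¹ * B x t) • x ∈ U := (hmemU _).mpr (by
      rw [map_sub, map_smul, C.self, smul_eq_mul]; field_simp; ring)
    have h1 := h _ ht
    rw [map_sub, map_smul, C.symm z x, (hmemU z).mp hz, smul_zero, sub_zero] at h1
    exact h1
  obtain ⟨f, H⟩ := exists_hyp C hUnd ((hmemU u).mpr hBxu) hu0 hQu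
  have hBxf : B x f = 0 := (hmemU f).mp H.memF
  obtain ⟨d, hd⟩ : ∃ d, d = Q x := ⟨_, rfl⟩
  obtain ⟨z, hzQ, hxz, hyz⟩ : ∃ z, Q z = d ∧ B x z = 0 ∧ B y' z ^ 2 ≠ 4 * d ^ 2 := by
    by_cases h3 : Fintype.card F = 3
    · have hUdim : Fintype.card ι ≤ finrank F U + 1 := by
        have h1 := LinearMap.finrank_range_add_finrank_ker (B x)
        have h4 := Submodule.finrank_le (LinearMap.range (B x))
        rw [← hU, finrank_fintype_fun_eq_card] at h1
        rw [Module.finrank_self] at h4
        omega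
      have h1 : 2 ≤ finrank F U := by
        by_contra hlt
        have hle : U ≤ Submodule.span F {u} := by
          refine le_of_eq (Submodule.eq_of_le_of_finrank_le ((Submodule.span_singleton_le_iff_mem _ _).mpr
            H.memE) ?_).symm
          rw [finrank_span_singleton hu0]; omega
        obtain ⟨r, hr⟩ := Submodule.mem_span_singleton.mp (hle H.memF)
        have := H.pair
        rw [← hr, map_smul, C.self_zero hQu, smul_zero] at this
        exact zero_ne_one this
      have h6 : 6 ≤ Fintype.card ι := by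
        obtain ⟨k, hk⟩ := heven
        have hne : Fintype.card ι ≠ 4 := fun h => h43 ⟨h, h3⟩
        have h5 : finrank F U < Fintype.card ι := by
          have hlt : U < ⊤ := lt_top_iff_ne_top.mpr fun h => by
            have : x ∈ U := h ▸ Submodule.mem_top
            rw [hmemU, C.self] at this
            exact mul_ne_zero h2 hx this
          have := Submodule.finrank_lt_finrank_of_lt hlt
          rwa [finrank_top, finrank_fintype_fun_eq_card] at this
        omega
      have hW := H.ndeg C hUnd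
      obtain ⟨g1, g2, G⟩ := exists_hyp' C hW (by have := H.le_finrank C; omega)
      refine ⟨g1 + d • g2, ?_, ?_, ?_⟩
      · rw [C.add, C.smul, G.singE, G.singF, map_smul, G.pair, smul_eq_mul]; ring
      · have m1 := mem_perp2.mp G.memE
        have m2 := mem_perp2.mp G.memF
        rw [map_add, map_smul, (hmemU _).mp m1.1, (hmemU _).mp m2.1, smul_zero, add_zero]
      · have m1 := mem_perp2.mp G.memE
        have m2 := mem_perp2.mp G.memF
        rw [hy'eq]
        simp only [map_add, map_smul, LinearMap.add_apply, (hmemU _).mp m1.1, (hmemU _).mp m2.1,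
          m1.2.1, m2.2.1]
        simp only [smul_zero, add_zero, zero_pow (two_ne_zero), ne_eq]
        exact fun h => mul_ne_zero (show (4 : F) ≠ 0 by
          rw [show (4 : F) = 2 * 2 by norm_num]; exact mul_ne_zero h2 h2) (pow_ne_zero 2 (hd ▸ hx)) h.symm
    · obtain ⟨t, ht⟩ : ∃ t : F, t ∉ ({0, 2 * d, -(2 * d)} : Finset F) := by
        by_contra h
        push Not at h
        have h1 := Finset.card_le_card (fun t (_ : t ∈ Finset.univ) => h t)
        have h4 : ({0, 2 * d, -(2 * d)} : Finset F).card ≤ 3 := Finset.card_le_three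
        rw [Finset.card_univ] at h1
        have := Fintype.one_lt_card (α := F)
        have := card_ne_two h2
        omega
      simp only [Finset.mem_insert, Finset.mem_singleton, not_or] at ht
      refine ⟨(d / t) • u + t • f, ?_, ?_, ?_⟩
      · rw [C.smul_add, hQu, H.singF, H.pair]; field_simp [ht.1]; ring
      · rw [map_add, map_smul, map_smul, hBxu, hBxf, smul_zero, smul_zero, add_zero]
      · rw [hy'eq]
        simp only [map_add, map_smul, LinearMap.add_apply, hBxu, hBxf, C.self_zero hQu, H.pair,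
          smul_eq_mul]
        intro h
        have h' : (t - 2 * d) * (t + 2 * d) = 0 := by linear_combination h
        rcases mul_eq_zero.mp h' with e | e
        · exact ht.2.1 (sub_eq_zero.mp e)
        · exact ht.2.2 (eq_neg_of_add_eq_zero_left e)
  have hd0 : d ≠ 0 := hd ▸ hx
  have hz0 : Q z ≠ 0 := by rw [hzQ]; exact hd0
  have h1 := step_plane C h2 hc hx hz0 (by rw [hzQ, hd]) hns (by
    rw [hxz, ← hd]
    intro h
    exact mul_ne_zero (show (4 : F) ≠ 0 by
      rw [show (4 : F) = 2 * 2 by norm_num]; exact mul_ne_zero h2 h2) (pow_ne_zero 2 hd0)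
      (by linear_combination -h))
  have h2' := step_plane C h2 hc hz0 hy' (by rw [hzQ, hd, hy'Q, hxy]) (by rw [hzQ, hd]; exact hns)
    (by rw [C.symm, hzQ]; exact hyz)
  have := mul_mem h1 h2'
  rwa [show rI C x hx * rI C z hz0 * (rI C z hz0 * rI C y' hy') = rI C x hx * rI C y' hy' by
    rw [mul_assoc, ← mul_assoc (rI C z hz0), rI_sq C hz0, one_mul]] at this

theorem index_classSub (C : Space Q B) (h2 : (2 : F) ≠ 0) (hn : 2 ≤ Fintype.card ι)
    (heven : Even (Fintype.card ι)) (h43 : ¬ (Fintype.card ι = 4 ∧ Fintype.card F = 3))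
    {c : F} (hc : c ≠ 0) : (classSub C c).index = 2 := by
  classical
  have hh : Fintype.card F ≠ 2 ∨ Fintype.card ι ≠ 4 := Or.inl (card_ne_two h2)
  have hchar : ringChar F ≠ 2 := fun hc' => h2 (by
    haveI := ringChar.charP F
    have := CharP.cast_eq_zero F (ringChar F)
    rw [hc'] at this
    exact_mod_cast this)
  obtain ⟨α, hα⟩ := FiniteField.exists_nonsquare hchar
  have hα0 : α ≠ 0 := fun h => hα (h ▸ ⟨0, (mul_zero 0).symm⟩)
  obtain ⟨v0, hv0⟩ := exists_value C h2 hn (mul_ne_zero hα0 hc)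
  have h0 : Q v0 ≠ 0 := by rw [hv0]; exact mul_ne_zero hα0 hc
  have hns0 : ¬ IsSquare (Q v0 / c) := by rwa [hv0, mul_div_cancel_right₀ _ hc]
  have hnot : rI C v0 h0 ∉ classSub C c := by
    obtain ⟨a, ha⟩ : ∃ a : Fˣ × ℤˣ, a = (-1, if IsSquare c then -1 else 1) := ⟨_, rfl⟩
    have hle : classSub C c ≤ (Subgroup.zpowers a).comap (detSpin Q) := by
      refine (Subgroup.closure_le _).mpr ?_
      rintro _ ⟨v, hv, hs, rfl⟩
      have : detSpin Q (rI C v hv) = a := by
        rw [ha]
        refine Prod.ext (det_rI C hv) ?_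
        show spin Q _ = _
        rw [spin_rI C h2 hv]
        have : IsSquare (Q v) ↔ IsSquare c := by
          obtain ⟨t, ht⟩ := hs
          rw [div_eq_iff hc] at ht
          have ht0 : t ≠ 0 := fun h => hv (by rw [ht, h]; ring)
          constructor
          · intro h
            have h' := h.mul (⟨t⁻¹, rfl⟩ : IsSquare (t⁻¹ * t⁻¹))
            rwa [ht, show t * t * c * (t⁻¹ * t⁻¹) = c by field_simp] at h'
          · intro h; rw [ht]; exact IsSquare.mul ⟨t, rfl⟩ h
        simp only [this]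
      show detSpin Q _ ∈ Subgroup.zpowers a
      rw [this]
      exact Subgroup.mem_zpowers a
    intro hmem
    obtain ⟨k, hk⟩ := Subgroup.mem_zpowers_iff.mp (hle hmem)
    have haa : a * a = 1 := by rw [ha]; exact Prod.ext (by simp) (Int.units_mul_self _)
    have hne : (-1 : Fˣ) ≠ 1 := fun e => h2 (by
      have e' : (-1 : F) = 1 := by simpa using congrArg Units.val e
      linear_combination -e')
    have hval : detSpin Q (rI C v0 h0) = (-1, if IsSquare c then 1 else -1) := by
      refine Prod.ext (det_rI C h0) ?_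
      show spin Q _ = _
      rw [spin_rI C h2 h0, hv0]
      by_cases hcs : IsSquare c
      · rw [if_pos hcs, if_neg]
        intro h
        exact hα (by
          have h' := h.div hcs
          rwa [mul_div_cancel_right₀ _ hc] at h')
      · rw [if_neg hcs, if_pos (isSquare_mul_nonsq h2 hα0 hc hα hcs)]
    rw [hval] at hk
    rcases Int.even_or_odd k with ⟨j, rfl⟩ | ⟨j, rfl⟩
    · rw [← two_mul, zpow_mul, zpow_two, haa, one_zpow] at hk
      exact hne (congrArg Prod.fst hk).symm
    · rw [zpow_add, zpow_mul, zpow_two, haa, one_zpow, one_mul, zpow_one, ha] at hk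
      have := congrArg Prod.snd hk
      by_cases hcs : IsSquare c <;> simp [hcs] at this
  have hpair : ∀ v (hv : Q v ≠ 0), ¬ IsSquare (Q v / c) →
      rI C v hv * rI C v0 h0 ∈ classSub C c := fun v hv hs => by
    obtain ⟨t, ht⟩ : IsSquare (Q v / c * (α * c / c)) :=
      isSquare_mul_nonsq h2 (div_ne_zero hv hc) (div_ne_zero (mul_ne_zero hα0 hc) hc) hs
        (by rwa [mul_div_cancel_right₀ _ hc])
    rw [mul_div_cancel_right₀ _ hc] at ht
    have ht0 : t ≠ 0 := fun h => by
      rw [h, mul_zero] at ht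
      exact mul_ne_zero (div_ne_zero hv hc) hα0 ht
    have hQ' : Q ((t⁻¹ * α) • v) = Q v0 := by
      rw [C.smul, hv0]
      field_simp at ht ⊢
      linear_combination ht
    have hv' : Q ((t⁻¹ * α) • v) ≠ 0 := by rw [hQ']; exact h0
    rw [rI_congr C hv hv' (rGL_smul C hv (mul_ne_zero (inv_ne_zero ht0) hα0)).symm]
    exact step_pair C h2 heven h43 hc hv' h0 hQ' (by rw [hQ']; exact hns0)
  have hall : ∀ g, g ∈ classSub C c ∨ g * rI C v0 h0 ∈ classSub C c := by
    refine refl_induction C hh _ (Or.inl (one_mem _)) fun v hv g ih => ?_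
    by_cases hs : IsSquare (Q v / c)
    · exact ih.imp (fun h => mul_mem (rI_mem_classSub C hv hs) h)
        (fun h => by rw [mul_assoc]; exact mul_mem (rI_mem_classSub C hv hs) h)
    · have hN := classSub_normal C c
      rcases ih with h | h
      · refine Or.inr ?_
        have := mul_mem (hpair v hv hs) (hN.conj_mem _ h (rI C v0 h0)⁻¹)
        rwa [show rI C v hv * rI C v0 h0 * ((rI C v0 h0)⁻¹ * g * (rI C v0 h0)⁻¹⁻¹) =
          rI C v hv * g * rI C v0 h0 by group] at this
      · refine Or.inl ?_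
        have := mul_mem (hpair v hv hs) (hN.conj_mem _ h (rI C v0 h0))
        rwa [show rI C v hv * rI C v0 h0 * (rI C v0 h0 * (g * rI C v0 h0) * (rI C v0 h0)⁻¹) =
          rI C v hv * g by
            rw [mul_assoc (rI C v hv), ← mul_assoc (rI C v0 h0) (rI C v0 h0 * (g * rI C v0 h0)),
              ← mul_assoc (rI C v0 h0) (rI C v0 h0), rI_sq C h0]
            group] at this
  rw [Subgroup.index_eq_two_iff]
  refine ⟨rI C v0 h0, fun g => ?_⟩
  rcases hall g with h | h
  · exact Or.inr ⟨h, fun h' => hnot (by simpa using mul_mem (inv_mem h) h')⟩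
  · exact Or.inl ⟨h, fun h' => hnot (by simpa using mul_mem (inv_mem h') h)⟩

end

/-- For q odd, n ≥ 2 even, Q with non-degenerate polar form (n, |F|) ≠ (4, 3), and a fixed c ≠ 0: the subgroup of the isometry group generated by the reflections r_v with Q(v) ∈ c·(F^×)² has index 2. -/
theorem result {F : Type*} [Field F] [Fintype F] (h2 : (2 : F) ≠ 0) {n : ℕ} (hn : 2 ≤ n) (heven : Even n) (Q : QuadraticForm F (Fin n → F)) (hQ : (QuadraticMap.polarBilin Q).Nondegenerate) (h43 : ¬ (n = 4 ∧ Fintype.card F = 3)) (c : F) (hc : c ≠ 0) : (Subgroup.closure {g : ↥(Cfsg.isometryGroup F ⇑Q) | ∃ (v : Fin n → F) (t : F), t ≠ 0 ∧ Q v = c * t ^ 2 ∧ ((g : Matrix.GeneralLinearGroup (Fin n) F) : Matrix (Fin n) (Fin n) F) = Cfsg.reflectionMatrix ⇑Q v}).index = 2 := by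
  classical
  have C := space_of_quadraticForm Q hQ
  have heq : {g : ↥(Cfsg.isometryGroup F ⇑Q) | ∃ (v : Fin n → F) (t : F), t ≠ 0 ∧ Q v = c * t ^ 2 ∧
      ((g : Matrix.GeneralLinearGroup (Fin n) F) : Matrix (Fin n) (Fin n) F) =
        Cfsg.reflectionMatrix ⇑Q v} =
      {g | ∃ v, ∃ hv : Q v ≠ 0, IsSquare (Q v / c) ∧ g = rI C v hv} := by
    ext g
    constructor
    · rintro ⟨v, t, ht, hvt, hg⟩
      have hv : Q v ≠ 0 := by rw [hvt]; exact mul_ne_zero hc (pow_ne_zero 2 ht)
      refine ⟨v, hv, ⟨t, ?_⟩, Subtype.ext (Units.ext ?_)⟩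
      · rw [hvt]; field_simp
      · rw [hg, rI_val, rGL_val C hv]
    · rintro ⟨v, hv, ⟨t, ht⟩, rfl⟩
      refine ⟨v, t, fun h => ?_, ?_, ?_⟩
      · rw [h, mul_zero, div_eq_zero_iff] at ht
        exact ht.elim hv hc
      · rw [div_eq_iff hc] at ht; rw [ht]; ring
      · rw [rI_val, rGL_val C hv]
  rw [heq]
  exact index_classSub C h2 (by simpa using hn) (by simpa using heven) (by simpa using h43) hc

end Cfsg.Agent.S0798
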