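import Cfsg.Statements.S0802
import Cfsg.Agent.Lib.Dickson.Necessity

set_option autoImplicit false
open Cfsg

namespace Cfsg.Agent.S0802

/-- PSL_2(p^n) has a subgroup isomorphic to A_4 if and only if it is not the case that p = 2 and n is odd. -/
theorem result {F : Type*} [Field F] [Fintype F] (p n : ℕ) [Fact p.Prime] [CharP F p] (hF : Fintype.card F = p ^ n) : (∃ H : Subgroup (Matrix.ProjectiveSpecialLinearGroup (Fin 2) F), Nonempty (H ≃* alternatingGroup (Fin 4))) ↔ ¬ (p = 2 ∧ Odd n) := by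
  constructor
  · rintro ⟨H, ⟨e⟩⟩ ⟨rfl, ho⟩
    exact (Cfsg.Lib.Dickson.no_alternating_four_odd hF ho H).false e
  · intro h
    by_cases hp : p = 2
    · subst hp
      obtain ⟨H, ⟨e⟩⟩ := Cfsg.Lib.Dickson.exists_alternating_five_even hF
        (Nat.not_odd_iff_even.mp fun ho => h ⟨rfl, ho⟩)
      obtain ⟨f, hf⟩ := Cfsg.Lib.Dickson.exists_alternating_four_le_five
      have hinj : Function.Injective (H.subtype.comp (e.symm.toMonoidHom.comp f)) :=
        H.subtype_injective.comp (e.symm.injective.comp hf)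
      exact ⟨_, ⟨(MonoidHom.ofInjective hinj).symm⟩⟩
    · refine Cfsg.Lib.Dickson.exists_alternating_four (Cfsg.Lib.Dickson.two_ne_zero_of_odd ?_)
      rw [hF]
      exact Nat.odd_iff.mp (((Fact.out : p.Prime).odd_of_ne_two hp).pow)

end Cfsg.Agent.S0802
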