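import Cfsg.Statements.S0809
import Cfsg.Agent.Lib.Linear.HermitianNorm
-- import your own Cfsg.Agent.* helpers here

set_option autoImplicit false
open Cfsg
open scoped Matrix MatrixGroups

namespace Cfsg.Agent.S0809

section

variable {F : Type*} [Field F]

/-- The standard element of order four. -/
def x₀ : Matrix.SpecialLinearGroup (Fin 2) F := ⟨!![0, 1; -1, 0], by simp [Matrix.det_fin_two_of]⟩

theorem sq_eq_neg_one_iff {y : Matrix.SpecialLinearGroup (Fin 2) F} :
    (y : Matrix (Fin 2) (Fin 2) F) * y = -1 ↔ ((y ^ 2 : Matrix.SpecialLinearGroup (Fin 2) F) : Matrix (Fin 2) (Fin 2) F) = -1 := by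
  rw [pow_two, Matrix.SpecialLinearGroup.coe_mul]

theorem x₀_sq : ((x₀ : Matrix.SpecialLinearGroup (Fin 2) F) : Matrix (Fin 2) (Fin 2) F) * (x₀ : Matrix.SpecialLinearGroup (Fin 2) F) = -1 := by
  ext i j
  fin_cases i <;> fin_cases j <;> simp [x₀]

variable [Fintype F]

theorem two_ne_zero_of_odd {q : ℕ} (hF : Fintype.card F = q) (hodd : Odd q) : (2 : F) ≠ 0 := by
  refine Ring.two_ne_zero fun h => ?_
  have h1 := (FiniteField.even_card_iff_char_two).mp h
  rw [hF] at h1
  rw [Nat.odd_iff] at hodd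
  omega

/-- All elements of order four are conjugate to the standard one. -/
theorem exists_conj (h2 : (2 : F) ≠ 0) (y : Matrix.SpecialLinearGroup (Fin 2) F)
    (hy : (y : Matrix (Fin 2) (Fin 2) F) * y = -1) :
    ∃ g : Matrix.SpecialLinearGroup (Fin 2) F, g * x₀ * g⁻¹ = y := by
  set M : Matrix (Fin 2) (Fin 2) F := (y : Matrix (Fin 2) (Fin 2) F) with hM
  have hdet : M 0 0 * M 1 1 - M 0 1 * M 1 0 = 1 := by rw [← Matrix.det_fin_two]; exact y.2
  have e00 : M 0 0 * M 0 0 + M 0 1 * M 1 0 = -1 := by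
    have := congrFun (congrFun hy 0) 0
    simpa [Matrix.mul_apply, Fin.sum_univ_two] using this
  have e11 : M 1 0 * M 0 1 + M 1 1 * M 1 1 = -1 := by
    have := congrFun (congrFun hy 1) 1
    simpa [Matrix.mul_apply, Fin.sum_univ_two] using this
  have htr : M 1 1 = -(M 0 0) := by
    have hne : M 0 0 * (M 0 0 + M 1 1) = 0 := by linear_combination e00 + hdet
    rcases mul_eq_zero.mp hne with h | h
    · have h' : M 1 1 * M 1 1 = 0 := by linear_combination e11 - e00 + M 0 0 * h
      rw [h, mul_self_eq_zero.mp h', neg_zero]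
    · linear_combination h
  obtain ⟨s, t, hst⟩ : ∃ s t : F, -M 1 0 * s ^ 2 + 2 * M 0 0 * s * t + M 0 1 * t ^ 2 = 1 := by
    rcases eq_or_ne (M 1 0) 0 with h | h
    · have ha : M 0 0 ≠ 0 := by
        intro ha
        rw [ha, h, mul_zero, mul_zero, add_zero] at e00
        exact one_ne_zero (neg_eq_zero.mp e00.symm)
      exact ⟨(1 - M 0 1) / (2 * M 0 0), 1, by rw [h]; field_simp; ring⟩
    · obtain ⟨s, t, hst⟩ := Lib.Linear.HermitianNorm.field_case (-2 * M 0 0 / M 1 0) (-M 0 1 / M 1 0) (-1 / M 1 0) (by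
        have e : (-2 * M 0 0 / M 1 0) ^ 2 - 4 * (-M 0 1 / M 1 0) = -(2 * 2) / (M 1 0 * M 1 0) := by
          field_simp
          linear_combination 4 * e00
        rw [e]
        exact div_ne_zero (neg_ne_zero.mpr (mul_ne_zero h2 h2)) (mul_ne_zero h h))
      refine ⟨s, t, ?_⟩
      field_simp at hst
      linear_combination -hst
  have hP : Matrix.det !![s, -(M 0 0 * s + M 0 1 * t); t, -(M 1 0 * s + M 1 1 * t)] = 1 := by
    rw [Matrix.det_fin_two_of, htr]
    linear_combination hst
  refine ⟨⟨_, hP⟩, ?_⟩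
  refine mul_inv_eq_iff_eq_mul.mpr ?_
  refine Subtype.ext ?_
  show !![s, -(M 0 0 * s + M 0 1 * t); t, -(M 1 0 * s + M 1 1 * t)] * !![(0 : F), 1; -1, 0] =
    M * !![s, -(M 0 0 * s + M 0 1 * t); t, -(M 1 0 * s + M 1 1 * t)]
  ext i j
  fin_cases i <;> fin_cases j <;> simp [Matrix.mul_apply, Fin.sum_univ_two, htr]
  · linear_combination s * e00
  · linear_combination t * e00

/-- An element whose square is minus one, from its order. -/
theorem sq_of_orderOf (h2 : (2 : F) ≠ 0) (y : Matrix.SpecialLinearGroup (Fin 2) F) (h : y ^ 2 ≠ 1) (h4 : y ^ 4 = 1) :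
    (y : Matrix (Fin 2) (Fin 2) F) * y = -1 := by
  rw [sq_eq_neg_one_iff]
  set z := y ^ 2
  have hz : z⁻¹ = z := inv_eq_of_mul_eq_one_left (by rw [← pow_add]; exact h4)
  have hzm : Matrix.adjugate (z : Matrix (Fin 2) (Fin 2) F) = (z : Matrix (Fin 2) (Fin 2) F) := by
    rw [← Matrix.SpecialLinearGroup.coe_inv, hz]
  rw [Matrix.adjugate_fin_two] at hzm
  have a00 := congrFun (congrFun hzm 0) 0
  have a01 := congrFun (congrFun hzm 0) 1
  have a10 := congrFun (congrFun hzm 1) 0
  simp at a00 a01 a10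
  have b01 : (z : Matrix (Fin 2) (Fin 2) F) 0 1 = 0 := by
    have : (2 : F) * (z : Matrix (Fin 2) (Fin 2) F) 0 1 = 0 := by linear_combination -a01
    exact (mul_eq_zero.mp this).resolve_left h2
  have b10 : (z : Matrix (Fin 2) (Fin 2) F) 1 0 = 0 := by
    have : (2 : F) * (z : Matrix (Fin 2) (Fin 2) F) 1 0 = 0 := by linear_combination -a10
    exact (mul_eq_zero.mp this).resolve_left h2
  have hd : (z : Matrix (Fin 2) (Fin 2) F) 0 0 * (z : Matrix (Fin 2) (Fin 2) F) 0 0 = 1 := by
    have := z.2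
    rw [Matrix.det_fin_two, b01, b10, a00] at this
    linear_combination this
  rcases mul_self_eq_one_iff.mp hd with e | e
  · refine absurd (Subtype.ext ?_) h
    show (z : Matrix (Fin 2) (Fin 2) F) = 1
    ext i j
    fin_cases i <;> fin_cases j <;> simp [b01, b10, a00, e]
  · ext i j
    fin_cases i <;> fin_cases j <;> simp [b01, b10, a00, e]

theorem neg_one_ne_one (h2 : (2 : F) ≠ 0) : (-1 : Matrix (Fin 2) (Fin 2) F) ≠ 1 := fun h => h2 (by
  have := congrFun (congrFun h 0) 0
  simp at this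
  linear_combination -this)

/-- A subgroup of order four is generated by an element with square minus one. -/
theorem exists_gen (h2 : (2 : F) ≠ 0) (A : Subgroup (Matrix.SpecialLinearGroup (Fin 2) F)) (hA : Nat.card A = 4) :
    ∃ y : Matrix.SpecialLinearGroup (Fin 2) F, (y : Matrix (Fin 2) (Fin 2) F) * y = -1 ∧ A = Subgroup.zpowers y := by
  haveI : Finite A := Nat.finite_of_card_ne_zero (by omega)
  obtain ⟨y, hyA, hy2⟩ : ∃ y ∈ A, y ^ 2 ≠ 1 := by
    by_contra hcon
    push Not at hcon
    have hsub : ∀ y ∈ A, (y : Matrix (Fin 2) (Fin 2) F) = 1 ∨ (y : Matrix (Fin 2) (Fin 2) F) = -1 := by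
      intro y hy
      have hz : y⁻¹ = y := inv_eq_of_mul_eq_one_left (by rw [← pow_two]; exact hcon y hy)
      have hzm : Matrix.adjugate (y : Matrix (Fin 2) (Fin 2) F) = (y : Matrix (Fin 2) (Fin 2) F) := by
        rw [← Matrix.SpecialLinearGroup.coe_inv, hz]
      rw [Matrix.adjugate_fin_two] at hzm
      have a00 := congrFun (congrFun hzm 0) 0
      have a01 := congrFun (congrFun hzm 0) 1
      have a10 := congrFun (congrFun hzm 1) 0
      simp at a00 a01 a10
      have b01 : (y : Matrix (Fin 2) (Fin 2) F) 0 1 = 0 := by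
        have : (2 : F) * (y : Matrix (Fin 2) (Fin 2) F) 0 1 = 0 := by linear_combination -a01
        exact (mul_eq_zero.mp this).resolve_left h2
      have b10 : (y : Matrix (Fin 2) (Fin 2) F) 1 0 = 0 := by
        have : (2 : F) * (y : Matrix (Fin 2) (Fin 2) F) 1 0 = 0 := by linear_combination -a10
        exact (mul_eq_zero.mp this).resolve_left h2
      have hd : (y : Matrix (Fin 2) (Fin 2) F) 0 0 * (y : Matrix (Fin 2) (Fin 2) F) 0 0 = 1 := by
        have := y.2
        rw [Matrix.det_fin_two, b01, b10, a00] at this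
        linear_combination this
      rcases mul_self_eq_one_iff.mp hd with e | e
      · left; ext i j; fin_cases i <;> fin_cases j <;> simp [b01, b10, a00, e]
      · right; ext i j; fin_cases i <;> fin_cases j <;> simp [b01, b10, a00, e]
    classical
    let φ : A → Bool := fun y => decide (((y : Matrix.SpecialLinearGroup (Fin 2) F) : Matrix (Fin 2) (Fin 2) F) = 1)
    have hφ : Function.Injective φ := by
      rintro ⟨a, ha⟩ ⟨b, hb⟩ h
      have h' : ((a : Matrix (Fin 2) (Fin 2) F) = 1) ↔ ((b : Matrix (Fin 2) (Fin 2) F) = 1) := by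
        simpa [φ] using h
      refine Subtype.ext (Subtype.ext ?_)
      show (a : Matrix (Fin 2) (Fin 2) F) = b
      rcases hsub a ha with e | e <;> rcases hsub b hb with e' | e'
      · rw [e, e']
      · exact absurd (e'.symm.trans (h'.mp e)) (neg_one_ne_one h2)
      · exact absurd (e.symm.trans (h'.mpr e')) (neg_one_ne_one h2)
      · rw [e, e']
    have h1 := Nat.card_le_card_of_injective φ hφ
    rw [hA, Nat.card_eq_fintype_card, Fintype.card_bool] at h1
    omega
  have h4 : y ^ 4 = 1 := by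
    have h := congrArg Subtype.val (pow_card_eq_one' (x := (⟨y, hyA⟩ : A)))
    rwa [hA] at h
  refine ⟨y, sq_of_orderOf h2 y hy2 h4, ?_⟩
  have ho : orderOf y = 2 ^ (1 + 1) := orderOf_eq_prime_pow (by simpa using hy2) (by simpa using h4)
  exact (Subgroup.eq_of_le_of_card_ge ((Subgroup.zpowers_le).mpr hyA) (by rw [Nat.card_zpowers, hA, ho]; norm_num)).symm

end

/-- In SL_2(q), q odd: any two subgroups of order 4 are conjugate, and the normaliser of a subgroup of order 4 has order 2(q − 1) if q ≡ 1 (mod 4) and 2(q + 1) if q ≡ 3 (mod 4); consequently all involutions of PSL_2(q) are conjugate. -/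
theorem result {F : Type*} [Field F] [Fintype F] {q : ℕ} (hF : Fintype.card F = q) (hodd : Odd q) (A : Subgroup (Matrix.SpecialLinearGroup (Fin 2) F)) (hA : Nat.card A = 4) : (∀ B : Subgroup (Matrix.SpecialLinearGroup (Fin 2) F), Nat.card B = 4 → ∃ g : Matrix.SpecialLinearGroup (Fin 2) F, B = A.map (MulAut.conj g).toMonoidHom) ∧ (q % 4 = 1 → Nat.card ↥(Subgroup.normalizer (A : Set (Matrix.SpecialLinearGroup (Fin 2) F))) = 2 * (q - 1)) ∧ (q % 4 = 3 → Nat.card ↥(Subgroup.normalizer (A : Set (Matrix.SpecialLinearGroup (Fin 2) F))) = 2 * (q + 1)) ∧ (∀ x y : Matrix.ProjectiveSpecialLinearGroup (Fin 2) F, orderOf x = 2 → orderOf y = 2 → IsConj x y) := by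
  classical
  have h2 : (2 : F) ≠ 0 := two_ne_zero_of_odd hF hodd
  obtain ⟨y, hy, rfl⟩ := exists_gen h2 A hA
  obtain ⟨g, hg⟩ := exists_conj h2 y hy
  have hmap : ∀ (g z : Matrix.SpecialLinearGroup (Fin 2) F),
      (Subgroup.zpowers z).map (MulAut.conj g).toMonoidHom = Subgroup.zpowers (g * z * g⁻¹) := fun g z => by
    rw [MonoidHom.map_zpowers]; rfl
  refine ⟨fun B hB => ?_, ?_⟩
  · obtain ⟨z, hz, rfl⟩ := exists_gen h2 B hB
    obtain ⟨k, hk⟩ := exists_conj h2 z hz
    refine ⟨k * g⁻¹, ?_⟩
    rw [hmap]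
    congr 1
    rw [← hk, ← hg]
    group
  have hP : ∀ x z : Matrix.ProjectiveSpecialLinearGroup (Fin 2) F, orderOf x = 2 → orderOf z = 2 → IsConj x z := by
    intro x z hx hz
    have lift : ∀ w : Matrix.ProjectiveSpecialLinearGroup (Fin 2) F, orderOf w = 2 →
        ∃ u : Matrix.SpecialLinearGroup (Fin 2) F, (QuotientGroup.mk u : Matrix.ProjectiveSpecialLinearGroup (Fin 2) F) = w ∧
          (u : Matrix (Fin 2) (Fin 2) F) * u = -1 := by
      intro w hw
      obtain ⟨u, rfl⟩ := QuotientGroup.mk_surjective w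
      refine ⟨u, rfl, ?_⟩
      have hc : u ^ 2 ∈ Subgroup.center (Matrix.SpecialLinearGroup (Fin 2) F) := by
        have h := pow_orderOf_eq_one (QuotientGroup.mk u : Matrix.ProjectiveSpecialLinearGroup (Fin 2) F)
        rw [hw, ← QuotientGroup.mk_pow] at h
        exact (QuotientGroup.eq_one_iff _).mp h
      obtain ⟨r, hr, hru⟩ := Matrix.SpecialLinearGroup.mem_center_iff.mp hc
      have hr2 : r ^ 2 = 1 := by simpa using hr
      refine sq_of_orderOf h2 u (fun h => ?_) ?_
      · have hu : u ∈ Subgroup.center (Matrix.SpecialLinearGroup (Fin 2) F) := by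
          rw [Matrix.SpecialLinearGroup.mem_center_iff]
          have hz' : u⁻¹ = u := inv_eq_of_mul_eq_one_left (by rw [← pow_two]; exact h)
          have hzm : Matrix.adjugate (u : Matrix (Fin 2) (Fin 2) F) = (u : Matrix (Fin 2) (Fin 2) F) := by
            rw [← Matrix.SpecialLinearGroup.coe_inv, hz']
          rw [Matrix.adjugate_fin_two] at hzm
          have a00 := congrFun (congrFun hzm 0) 0
          have a01 := congrFun (congrFun hzm 0) 1
          have a10 := congrFun (congrFun hzm 1) 0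
          simp at a00 a01 a10
          have b01 : (u : Matrix (Fin 2) (Fin 2) F) 0 1 = 0 := by
            have : (2 : F) * (u : Matrix (Fin 2) (Fin 2) F) 0 1 = 0 := by linear_combination -a01
            exact (mul_eq_zero.mp this).resolve_left h2
          have b10 : (u : Matrix (Fin 2) (Fin 2) F) 1 0 = 0 := by
            have : (2 : F) * (u : Matrix (Fin 2) (Fin 2) F) 1 0 = 0 := by linear_combination -a10
            exact (mul_eq_zero.mp this).resolve_left h2
          refine ⟨(u : Matrix (Fin 2) (Fin 2) F) 0 0, ?_, ?_⟩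
          · have := u.2
            rw [Matrix.det_fin_two, b01, b10, a00] at this
            rw [Fintype.card_fin]
            linear_combination this
          · ext i j
            fin_cases i <;> fin_cases j <;> simp [b01, b10, a00]
        rw [← QuotientGroup.eq_one_iff] at hu
        rw [hu, orderOf_one] at hw
        omega
      · have e : ((u ^ 2 : Matrix.SpecialLinearGroup (Fin 2) F) : Matrix (Fin 2) (Fin 2) F) *
            ((u ^ 2 : Matrix.SpecialLinearGroup (Fin 2) F) : Matrix (Fin 2) (Fin 2) F) = 1 := by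
          rw [← hru, ← map_mul, ← pow_two, hr2, map_one]
        refine Subtype.ext ?_
        rw [show u ^ 4 = u ^ 2 * u ^ 2 from pow_add u 2 2, Matrix.SpecialLinearGroup.coe_mul, Matrix.SpecialLinearGroup.coe_one]
        exact e
    obtain ⟨u, rfl, hu⟩ := lift x hx
    obtain ⟨v, rfl, hv⟩ := lift z hz
    obtain ⟨a, ha⟩ := exists_conj h2 u hu
    obtain ⟨b, hb⟩ := exists_conj h2 v hv
    have : IsConj u v := isConj_iff.mpr ⟨b * a⁻¹, by rw [← ha, ← hb]; group⟩
    exact MonoidHom.map_isConj (QuotientGroup.mk' (Subgroup.center _)) this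
  -- the normaliser
  let S₀ : Subgroup (Matrix.SpecialLinearGroup (Fin 2) F) := Subgroup.zpowers x₀
  have hN : Nat.card (Subgroup.normalizer ((Subgroup.zpowers y : Subgroup _) : Set (Matrix.SpecialLinearGroup (Fin 2) F))) =
      Nat.card (Subgroup.normalizer (S₀ : Set (Matrix.SpecialLinearGroup (Fin 2) F))) := by
    have h := Subgroup.map_equiv_normalizer_eq S₀ (MulAut.conj g)
    rw [show S₀.map (MulAut.conj g).toMonoidHom = Subgroup.zpowers y by rw [hmap, hg]] at h
    rw [← h]
    exact Subgroup.card_map_of_injective (MulEquiv.injective _)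
  let C : Type _ := {v : F × F // v.1 ^ 2 + v.2 ^ 2 = 1}
  have hnorm : Nat.card (Subgroup.normalizer (S₀ : Set (Matrix.SpecialLinearGroup (Fin 2) F))) = 2 * Nat.card C := by
    let Cz := Subgroup.centralizer ({x₀} : Set (Matrix.SpecialLinearGroup (Fin 2) F))
    have hCz : Nat.card Cz = Nat.card C := by
      refine (Nat.card_eq_of_bijective (fun v : C =>
        (⟨⟨!![v.1.1, v.1.2; -v.1.2, v.1.1], by rw [Matrix.det_fin_two_of]; linear_combination v.2⟩, ?_⟩ : Cz)) ⟨?_, ?_⟩).symm
      · refine Subgroup.mem_centralizer_iff.mpr ?_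
        rintro z rfl
        refine Subtype.ext ?_
        show !![(0 : F), 1; -1, 0] * !![v.1.1, v.1.2; -v.1.2, v.1.1] = !![v.1.1, v.1.2; -v.1.2, v.1.1] * !![(0 : F), 1; -1, 0]
        ext i j
        fin_cases i <;> fin_cases j <;> simp [Matrix.mul_apply, Fin.sum_univ_two]
      · intro v w h
        have h' : !![v.1.1, v.1.2; -v.1.2, v.1.1] = !![w.1.1, w.1.2; -w.1.2, w.1.1] :=
          congrArg (fun z : Cz => ((z : Matrix.SpecialLinearGroup (Fin 2) F) : Matrix (Fin 2) (Fin 2) F)) h
        exact Subtype.ext (Prod.ext (congrFun (congrFun h' 0) 0) (congrFun (congrFun h' 0) 1))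
      · rintro ⟨z, hz⟩
        have h : !![(0 : F), 1; -1, 0] * (z : Matrix (Fin 2) (Fin 2) F) = (z : Matrix (Fin 2) (Fin 2) F) * !![(0 : F), 1; -1, 0] :=
          congrArg (fun w : Matrix.SpecialLinearGroup (Fin 2) F => (w : Matrix (Fin 2) (Fin 2) F))
            (Subgroup.mem_centralizer_iff.mp hz x₀ rfl)
        have h00 := congrFun (congrFun h 0) 0
        have h01 := congrFun (congrFun h 0) 1
        simp [Matrix.mul_apply, Fin.sum_univ_two] at h00 h01
        refine ⟨⟨((z : Matrix (Fin 2) (Fin 2) F) 0 0, (z : Matrix (Fin 2) (Fin 2) F) 0 1), ?_⟩, ?_⟩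
        · have := z.2
          rw [Matrix.det_fin_two, h00, h01] at this
          linear_combination this
        · refine Subtype.ext (Subtype.ext ?_)
          ext i j
          fin_cases i <;> fin_cases j <;> simp [h00, h01]
    obtain ⟨w, hw⟩ : ∃ w : Matrix.SpecialLinearGroup (Fin 2) F, w * x₀ * w⁻¹ = x₀⁻¹ := by
      refine exists_conj h2 x₀⁻¹ ?_
      rw [Matrix.SpecialLinearGroup.coe_inv]
      ext i j
      fin_cases i <;> fin_cases j <;> simp [x₀, Matrix.adjugate_fin_two, Matrix.mul_apply, Fin.sum_univ_two]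
    have hx4 : orderOf (x₀ : Matrix.SpecialLinearGroup (Fin 2) F) = 2 ^ (1 + 1) := by
      have hsq : ((x₀ ^ 2 : Matrix.SpecialLinearGroup (Fin 2) F) : Matrix (Fin 2) (Fin 2) F) = -1 :=
        sq_eq_neg_one_iff.mp x₀_sq
      refine orderOf_eq_prime_pow ?_ ?_
      · rw [pow_one]
        intro h
        rw [h, Matrix.SpecialLinearGroup.coe_one] at hsq
        exact neg_one_ne_one h2 hsq.symm
      · refine Subtype.ext ?_
        rw [show (2 : ℕ) ^ (1 + 1) = 2 + 2 from rfl, pow_add, Matrix.SpecialLinearGroup.coe_mul, hsq,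
          Matrix.SpecialLinearGroup.coe_one]
        simp
    have hxinv : (x₀ : Matrix.SpecialLinearGroup (Fin 2) F)⁻¹ ≠ x₀ := fun h => by
      have : (x₀ : Matrix.SpecialLinearGroup (Fin 2) F) ^ 2 = 1 := by rw [pow_two]; nth_rewrite 1 [← h]; exact inv_mul_cancel _
      have := orderOf_dvd_of_pow_eq_one this
      rw [hx4] at this
      norm_num at this
    have hmemN : ∀ z, z ∈ Subgroup.normalizer (S₀ : Set (Matrix.SpecialLinearGroup (Fin 2) F)) ↔
        z * x₀ * z⁻¹ = x₀ ∨ z * x₀ * z⁻¹ = x₀⁻¹ := by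
      intro z
      constructor
      · intro hz
        have h1 := (Subgroup.mem_normalizer_iff.mp hz x₀).mp (Subgroup.mem_zpowers _)
        have h2' : orderOf (z * x₀ * z⁻¹) = 2 ^ (1 + 1) :=
          (orderOf_injective (MulAut.conj z).toMonoidHom (MulEquiv.injective _) x₀).trans hx4
        obtain ⟨k, hk⟩ := Subgroup.mem_zpowers_iff.mp h1
        have hk' : x₀ ^ (k % 4) = z * x₀ * z⁻¹ := by
          rw [← hk, ← zpow_mod_orderOf x₀ k, hx4]
          norm_num
        have h4 : k % 4 = 0 ∨ k % 4 = 1 ∨ k % 4 = 2 ∨ k % 4 = 3 := by omega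
        rcases h4 with e | e | e | e <;> rw [e] at hk'
        · rw [zpow_zero] at hk'
          rw [← hk', orderOf_one] at h2'
          norm_num at h2'
        · left; rw [← hk', zpow_one]
        · exfalso
          rw [← hk', show ((2 : ℤ)) = ((2 : ℕ) : ℤ) from rfl, zpow_natCast, orderOf_pow, hx4] at h2'
          norm_num at h2'
        · right
          rw [← hk', eq_inv_iff_mul_eq_one, ← zpow_add_one, show (3 : ℤ) + 1 = ((4 : ℕ) : ℤ) from rfl, zpow_natCast]
          have := pow_orderOf_eq_one (x₀ : Matrix.SpecialLinearGroup (Fin 2) F)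
          rw [hx4] at this
          exact this
      · intro h
        have e : (S₀.map (MulAut.conj z).toMonoidHom) = S₀ := by
          rcases h with h | h
          · rw [hmap, h]
          · rw [hmap, h, Subgroup.zpowers_inv]
        rw [Subgroup.mem_normalizer_iff]
        intro u
        constructor
        · intro hu
          rw [← e]
          exact ⟨u, hu, rfl⟩
        · intro hu
          rw [← e] at hu
          obtain ⟨u', hu', he⟩ := hu
          rwa [show u' = u from (MulAut.conj z).injective he] at hu'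
    have hCmem : ∀ z, z ∈ Cz ↔ z * x₀ * z⁻¹ = x₀ := by
      intro z
      rw [Subgroup.mem_centralizer_iff, mul_inv_eq_iff_eq_mul]
      exact ⟨fun h => (h x₀ rfl).symm, fun h u hu => by rw [Set.mem_singleton_iff.mp hu]; exact h.symm⟩
    rw [← hCz, two_mul, ← Nat.card_sum]
    refine (Nat.card_eq_of_bijective (Sum.elim
      (fun c : Cz => (⟨c, (hmemN _).mpr (Or.inl ((hCmem _).mp c.2))⟩ :
        Subgroup.normalizer (S₀ : Set (Matrix.SpecialLinearGroup (Fin 2) F))))
      (fun c : Cz => ⟨w * (c : Matrix.SpecialLinearGroup (Fin 2) F), (hmemN _).mpr (Or.inr (by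
        calc (w * (c : Matrix.SpecialLinearGroup (Fin 2) F)) * x₀ * (w * (c : Matrix.SpecialLinearGroup (Fin 2) F))⁻¹ = w * ((c : Matrix.SpecialLinearGroup (Fin 2) F) * x₀ * (c : Matrix.SpecialLinearGroup (Fin 2) F)⁻¹) * w⁻¹ := by group
          _ = x₀⁻¹ := by rw [(hCmem _).mp c.2, hw]))⟩)) ⟨?_, ?_⟩).symm
    · have hne : ∀ c d : Cz, w * (d : Matrix.SpecialLinearGroup (Fin 2) F) ≠ c := by
        intro c d h
        apply hxinv
        rw [← hw]
        calc w * x₀ * w⁻¹ = w * ((d : Matrix.SpecialLinearGroup (Fin 2) F) * x₀ * (d : Matrix.SpecialLinearGroup (Fin 2) F)⁻¹) * w⁻¹ := by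
              rw [(hCmem _).mp d.2]
          _ = (w * (d : Matrix.SpecialLinearGroup (Fin 2) F)) * x₀ * (w * (d : Matrix.SpecialLinearGroup (Fin 2) F))⁻¹ := by group
          _ = x₀ := by rw [h]; exact (hCmem _).mp c.2
      rintro (c | c) (d | d) h <;> have h' := congrArg Subtype.val h
      · exact congrArg Sum.inl (Subtype.ext h')
      · exact absurd h'.symm (hne c d)
      · exact absurd h' (hne d c)
      · exact congrArg Sum.inr (Subtype.ext (mul_left_cancel (show w * (c : Matrix.SpecialLinearGroup (Fin 2) F) = w * (d : Matrix.SpecialLinearGroup (Fin 2) F) from h')))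
    · rintro ⟨z, hz⟩
      rcases (hmemN z).mp hz with h | h
      · exact ⟨Sum.inl ⟨z, (hCmem z).mpr h⟩, rfl⟩
      · refine ⟨Sum.inr ⟨w⁻¹ * z, (hCmem _).mpr ?_⟩, Subtype.ext (mul_inv_cancel_left w z)⟩
        calc (w⁻¹ * z) * x₀ * (w⁻¹ * z)⁻¹ = w⁻¹ * (z * x₀ * z⁻¹) * w := by group
          _ = w⁻¹ * (w * x₀ * w⁻¹) * w := by rw [h, hw]
          _ = x₀ := by group
  refine ⟨fun h1 => ?_, fun h3 => ?_, hP⟩
  · rw [hN, hnorm]
    obtain ⟨i, hi⟩ : IsSquare (-1 : F) := FiniteField.isSquare_neg_one_iff.mpr (by omega)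
    have hi0 : i ≠ 0 := fun h => by rw [h, mul_zero, neg_eq_zero] at hi; exact one_ne_zero hi
    congr 1
    rw [← hF, ← Nat.card_eq_fintype_card, ← Nat.card_units]
    refine (Nat.card_eq_of_bijective (fun u : Fˣ =>
      (⟨(((u : F) + (u : F)⁻¹) / 2, ((u : F) - (u : F)⁻¹) / (2 * i)), ?_⟩ : C)) ⟨?_, ?_⟩).symm
    · have hu := u.ne_zero
      field_simp
      linear_combination (((u : F) ^ 2 - 1) ^ 2) * -hi
    · intro u v h
      have h1' := congrArg (fun c : C => c.1.1 + i * c.1.2) h
      refine Units.ext ?_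
      have e : ∀ a : Fˣ, ((a : F) + (a : F)⁻¹) / 2 + i * (((a : F) - (a : F)⁻¹) / (2 * i)) = a := fun a => by
        have := a.ne_zero
        field_simp
        ring
      simpa only [e] using h1'
    · rintro ⟨⟨a, b⟩, hab⟩
      have hab' : a ^ 2 + b ^ 2 = 1 := hab
      have hm : (a + i * b) * (a - i * b) = 1 := by linear_combination hab' + b ^ 2 * hi
      have hne : a + i * b ≠ 0 := left_ne_zero_of_mul_eq_one hm
      have hinv : (a + i * b)⁻¹ = a - i * b := inv_eq_of_mul_eq_one_right hm
      refine ⟨Units.mk0 _ hne, Subtype.ext (Prod.ext ?_ ?_)⟩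
      · show ((a + i * b) + (a + i * b)⁻¹) / 2 = a
        rw [hinv]; field_simp; ring
      · show ((a + i * b) - (a + i * b)⁻¹) / (2 * i) = b
        rw [hinv]; field_simp; ring
  · rw [hN, hnorm]
    have hns : ∀ t : F, 1 + t ^ 2 ≠ 0 := by
      intro t ht
      have : IsSquare (-1 : F) := ⟨t, by linear_combination -ht⟩
      have := FiniteField.isSquare_neg_one_iff.mp this
      omega
    congr 1
    rw [← hF, ← Nat.card_eq_fintype_card, ← Finite.card_option]
    refine (Nat.card_eq_of_bijective (fun o : Option F => o.elim (⟨(-1, 0), by ring⟩ : C)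
      (fun t => ⟨((1 - t ^ 2) / (1 + t ^ 2), 2 * t / (1 + t ^ 2)), by
        have := hns t
        field_simp
        ring⟩)) ⟨?_, ?_⟩).symm
    · have e1 : ∀ t : F, (1 - t ^ 2) / (1 + t ^ 2) ≠ -1 := by
        intro t h
        rw [div_eq_iff (hns t)] at h
        exact h2 (by linear_combination h)
      have e2 : ∀ t : F, (2 * t / (1 + t ^ 2)) / (1 + (1 - t ^ 2) / (1 + t ^ 2)) = t := by
        intro t
        have := hns t
        rw [one_add_div this, show 1 + t ^ 2 + (1 - t ^ 2) = (2 : F) by ring, div_div_div_cancel_right₀ this, mul_div_cancel_left₀ _ h2]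
      rintro (_ | t) (_ | u) h
      · rfl
      · exact absurd (congrArg (fun c : C => c.1.1) h).symm (e1 u)
      · exact absurd (congrArg (fun c : C => c.1.1) h) (e1 t)
      · have h' := congrArg (fun c : C => c.1.2 / (1 + c.1.1)) h
        simp only [Option.elim_some, e2] at h'
        rw [h']
    · rintro ⟨⟨a, b⟩, hab⟩
      have hab' : a ^ 2 + b ^ 2 = 1 := hab
      rcases eq_or_ne a (-1) with rfl | ha
      · refine ⟨none, Subtype.ext (Prod.ext rfl ?_)⟩
        have hb : b ^ 2 = 0 := by linear_combination hab'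
        exact ((pow_eq_zero_iff two_ne_zero).mp hb).symm
      · have ha' : 1 + a ≠ 0 := fun h => ha (by linear_combination h)
        refine ⟨some (b / (1 + a)), Subtype.ext (Prod.ext ?_ ?_)⟩
        · show (1 - (b / (1 + a)) ^ 2) / (1 + (b / (1 + a)) ^ 2) = a
          rw [div_eq_iff (hns _)]
          field_simp
          linear_combination (-(1 + a)) * hab'
        · show 2 * (b / (1 + a)) / (1 + (b / (1 + a)) ^ 2) = b
          rw [div_eq_iff (hns _)]
          field_simp
          linear_combination -b * hab'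

end Cfsg.Agent.S0809
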