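import Cfsg.Statements.S0807
import Cfsg.Agent.S0809
import Cfsg.Agent.Lib.Linear.SLBasic
-- import your own Cfsg.Agent.* helpers here

set_option autoImplicit false
open Cfsg
open scoped Matrix MatrixGroups

namespace Cfsg.Agent.S0807

open Cfsg.Agent.S0809 in
/-- Four times the pairs of commuting involutions of `PSL₂` make up `SL₂`. -/
theorem card_pairs {F : Type*} [Field F] [Fintype F] (h2 : (2 : F) ≠ 0) :
    4 * Nat.card {p : PSL(2, F) × PSL(2, F) //
      (p.1 ≠ 1 ∧ p.1 * p.1 = 1) ∧ (p.2 ≠ 1 ∧ p.2 * p.2 = 1) ∧ p.1 ≠ p.2 ∧ p.1 * p.2 = p.2 * p.1} =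
      Nat.card SL(2, F) := by
  classical
  obtain ⟨m, hmdef⟩ : ∃ m : SL(2, F), (x₀ : SL(2, F)) * x₀ = m := ⟨_, rfl⟩
  have hm : (m : Matrix (Fin 2) (Fin 2) F) = -1 := by rw [← hmdef]; exact x₀_sq
  have hm1 : m ≠ 1 := fun h => neg_one_ne_one h2 (by rw [← hm, h]; rfl)
  have hmm : m * m = 1 := Subtype.ext (by
    show (m : Matrix (Fin 2) (Fin 2) F) * (m : Matrix (Fin 2) (Fin 2) F) = 1
    rw [hm, neg_mul_neg, one_mul])
  have hmc : ∀ u : SL(2, F), m * u = u * m := fun u => Subtype.ext (by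
    show (m : Matrix (Fin 2) (Fin 2) F) * (u : Matrix (Fin 2) (Fin 2) F) = (u : Matrix (Fin 2) (Fin 2) F) * (m : Matrix (Fin 2) (Fin 2) F)
    rw [hm, neg_one_mul, mul_neg_one])
  have hsq : ∀ u : SL(2, F), (u : Matrix (Fin 2) (Fin 2) F) * u = -1 ↔ u * u = m := fun u => by
    constructor
    · intro h
      exact Subtype.ext (h.trans hm.symm)
    · intro h
      rw [← Matrix.SpecialLinearGroup.coe_mul, h, hm]
  have hone : ∀ u : SL(2, F), u * u = 1 → u = 1 ∨ u = m := by
    intro u hu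
    have hzm : Matrix.adjugate (u : Matrix (Fin 2) (Fin 2) F) = (u : Matrix (Fin 2) (Fin 2) F) := by
      rw [← Matrix.SpecialLinearGroup.coe_inv, inv_eq_of_mul_eq_one_left hu]
    rw [Matrix.adjugate_fin_two] at hzm
    have a00 := congrFun (congrFun hzm 0) 0
    have a01 := congrFun (congrFun hzm 0) 1
    have a10 := congrFun (congrFun hzm 1) 0
    simp at a00 a01 a10
    have b01 : (u : Matrix (Fin 2) (Fin 2) F) 0 1 = 0 := by
      have : (2 : F) * (u : Matrix (Fin 2) (Fin 2) F) 0 1 = 0 := by linear_combination -a01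
      exact (mul_eq_zero.mp this).resolve_left h2
    have b10 : (u : Matrix (Fin 2) (Fin 2) F) 1 0 = 0 := by
      have : (2 : F) * (u : Matrix (Fin 2) (Fin 2) F) 1 0 = 0 := by linear_combination -a10
      exact (mul_eq_zero.mp this).resolve_left h2
    have hd : (u : Matrix (Fin 2) (Fin 2) F) 0 0 * (u : Matrix (Fin 2) (Fin 2) F) 0 0 = 1 := by
      have := u.2
      rw [Matrix.det_fin_two, b01, b10, a00] at this
      linear_combination this
    rcases mul_self_eq_one_iff.mp hd with e | e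
    · left
      refine Subtype.ext ?_
      rw [Matrix.SpecialLinearGroup.coe_one]
      ext i j
      fin_cases i <;> fin_cases j <;> simp [b01, b10, a00, e]
    · right
      refine Subtype.ext ?_
      rw [hm]
      ext i j
      fin_cases i <;> fin_cases j <;> simp [b01, b10, a00, e]
  let π : SL(2, F) →* PSL(2, F) := QuotientGroup.mk' _
  have hπ1 : ∀ u, π u = 1 ↔ u = 1 ∨ u = m := by
    intro u
    show (QuotientGroup.mk u : PSL(2, F)) = 1 ↔ _
    rw [QuotientGroup.eq_one_iff]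
    constructor
    · intro hu
      obtain ⟨r, hr, hru⟩ := Matrix.SpecialLinearGroup.mem_center_iff.mp hu
      refine hone u (Subtype.ext ?_)
      show (u : Matrix (Fin 2) (Fin 2) F) * (u : Matrix (Fin 2) (Fin 2) F) = 1
      rw [← hru, ← map_mul, ← pow_two, show r ^ 2 = 1 by simpa using hr, map_one]
    · rintro (rfl | rfl)
      · exact one_mem _
      · exact Subgroup.mem_center_iff.mpr fun g => (hmc g).symm
  have hπm : π m = 1 := (hπ1 m).mpr (Or.inr rfl)
  have hπeq : ∀ u v, π u = π v → u = v ∨ u = m * v := by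
    intro u v h
    rcases (hπ1 (u * v⁻¹)).mp (by rw [map_mul, map_inv, h, mul_inv_cancel]) with e | e
    · exact Or.inl (mul_inv_eq_one.mp e)
    · exact Or.inr (mul_inv_eq_iff_eq_mul.mp e)
  have hinv : ∀ u, u * u = m → π u ≠ 1 ∧ π u * π u = 1 := by
    intro u hu
    refine ⟨fun h => ?_, by rw [← map_mul, hu, hπm]⟩
    rcases (hπ1 u).mp h with e | e
    · rw [e, one_mul] at hu; exact hm1 hu.symm
    · rw [e, hmm] at hu; exact hm1 hu.symm
  have hlift : ∀ u, π u ≠ 1 → π u * π u = 1 → u * u = m := by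
    intro u h1 h
    rw [← map_mul] at h
    rcases (hπ1 (u * u)).mp h with e | e
    · exact absurd ((hπ1 u).mpr (hone u e)) h1
    · exact e
  let T : Type _ := {p : SL(2, F) × SL(2, F) // p.1 * p.1 = m ∧ p.2 * p.2 = m ∧ p.1 * p.2 = m * (p.2 * p.1)}
  let P : Type _ := {p : PSL(2, F) × PSL(2, F) //
      (p.1 ≠ 1 ∧ p.1 * p.1 = 1) ∧ (p.2 ≠ 1 ∧ p.2 * p.2 = 1) ∧ p.1 ≠ p.2 ∧ p.1 * p.2 = p.2 * p.1}
  show 4 * Nat.card P = _
  -- four pairs above each pair
  have h4 : Nat.card T = 4 * Nat.card P := by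
    choose L hL using QuotientGroup.mk'_surjective (Subgroup.center SL(2, F))
    let s : Bool → SL(2, F) := fun b => if b then m else 1
    have hs : ∀ b, π (s b) = 1 := fun b => by cases b <;> simp [s, hπm]
    have hsc : ∀ b u, s b * u = u * s b := fun b u => by cases b <;> simp [s, hmc]
    have hss : ∀ b, s b * s b = 1 := fun b => by cases b <;> simp [s, hmm]
    have hsq' : ∀ b u, (s b * u) * (s b * u) = u * u := fun b u => by
      calc (s b * u) * (s b * u) = (s b * u) * (u * s b) := by rw [← hsc b u]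
        _ = s b * (u * u) * s b := by group
        _ = u * u := by rw [hsc b (u * u), mul_assoc, hss, mul_one]
    have hgood : ∀ p : P, L p.1.1 * L p.1.1 = m ∧ L p.1.2 * L p.1.2 = m ∧
        L p.1.1 * L p.1.2 = m * (L p.1.2 * L p.1.1) := by
      rintro ⟨⟨a, b⟩, ⟨ha1, ha2⟩, ⟨hb1, hb2⟩, hne, hcomm⟩
      have ea : π (L a) = a := hL a
      have eb : π (L b) = b := hL b
      have hu := hlift (L a) (by rw [ea]; exact ha1) (by rw [ea]; exact ha2)
      have hv := hlift (L b) (by rw [eb]; exact hb1) (by rw [eb]; exact hb2)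
      refine ⟨hu, hv, ?_⟩
      rcases hπeq (L a * L b) (L b * L a) (by rw [map_mul, map_mul, ea, eb, hcomm]) with e | e
      · exfalso
        have hab : (L a * L b) * (L a * L b) = 1 := by
          calc (L a * L b) * (L a * L b) = L a * (L b * L a) * L b := by group
            _ = (L a * L a) * (L b * L b) := by rw [← e]; group
            _ = 1 := by rw [hu, hv, hmm]
        refine hne ?_
        have h1 : a * b = 1 := by
          rw [← ea, ← eb, ← map_mul]
          exact (hπ1 _).mpr (hone _ hab)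
        calc a = a * (b * b) := by rw [hb2, mul_one]
          _ = b := by rw [← mul_assoc, h1, one_mul]
      · exact e
    let Ψ : P × Bool × Bool → T := fun x => ⟨(s x.2.1 * L x.1.1.1, s x.2.2 * L x.1.1.2),
      by rw [hsq']; exact (hgood x.1).1, by rw [hsq']; exact (hgood x.1).2.1, by
        show s x.2.1 * L x.1.1.1 * (s x.2.2 * L x.1.1.2) = m * (s x.2.2 * L x.1.1.2 * (s x.2.1 * L x.1.1.1))
        calc s x.2.1 * L x.1.1.1 * (s x.2.2 * L x.1.1.2) = s x.2.1 * (L x.1.1.1 * s x.2.2) * L x.1.1.2 := by group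
          _ = s x.2.1 * s x.2.2 * (L x.1.1.1 * L x.1.1.2) := by rw [← hsc]; group
          _ = (s x.2.1 * s x.2.2 * m) * (L x.1.1.2 * L x.1.1.1) := by rw [(hgood x.1).2.2]; group
          _ = m * s x.2.2 * (s x.2.1 * L x.1.1.2) * L x.1.1.1 := by
              rw [← hmc (s x.2.1 * s x.2.2), hsc x.2.1 (s x.2.2)]; group
          _ = m * (s x.2.2 * L x.1.1.2 * (s x.2.1 * L x.1.1.1)) := by rw [hsc x.2.1 (L x.1.1.2)]; group⟩
    rw [mul_comm, show Nat.card P * 4 = Nat.card (P × Bool × Bool) by simp [Nat.card_prod]]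
    refine (Nat.card_eq_of_bijective Ψ ⟨?_, ?_⟩).symm
    · rintro ⟨⟨⟨a, b⟩, hp⟩, i, j⟩ ⟨⟨⟨a', b'⟩, hp'⟩, i', j'⟩ h
      have h1 : s i * L a = s i' * L a' := congrArg (fun t : T => t.1.1) h
      have h2' : s j * L b = s j' * L b' := congrArg (fun t : T => t.1.2) h
      have eaa : a = a' := by
        have := congrArg π h1
        rwa [map_mul, map_mul, hs, hs, one_mul, one_mul, show π (L a) = a from hL a, show π (L a') = a' from hL a'] at this
      have ebb : b = b' := by
        have := congrArg π h2'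
        rwa [map_mul, map_mul, hs, hs, one_mul, one_mul, show π (L b) = b from hL b, show π (L b') = b' from hL b'] at this
      subst eaa ebb
      have sinj : Function.Injective s := by
        intro x y hxy
        cases x <;> cases y <;> simp [s, hm1, Ne.symm hm1] at hxy ⊢
      rw [sinj (mul_right_cancel h1), sinj (mul_right_cancel h2')]
    · rintro ⟨⟨u, v⟩, hu, hv, huv⟩
      have hne : π u ≠ π v := by
        intro h
        rcases hπeq u v h with e | e
        · rw [e, hv] at huv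
          exact hm1 (by rw [hmm] at huv; exact huv)
        · rw [e] at huv
          have : m * v * v = m * (v * (m * v)) := huv
          rw [← mul_assoc v m v, ← hmc v, mul_assoc m v v, hv, hmm, mul_one] at this
          exact hm1 this.symm
      let p : P := ⟨(π u, π v), hinv u hu, hinv v hv, hne, by rw [← map_mul, huv, map_mul, hπm, one_mul, map_mul]⟩
      have pick : ∀ w, ∃ b, s b * L (π w) = w := by
        intro w
        rcases hπeq w (L (π w)) (hL (π w)).symm with e | e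
        · exact ⟨false, by simpa [s] using e.symm⟩
        · exact ⟨true, by simpa [s] using e.symm⟩
      obtain ⟨i, hi⟩ := pick u
      obtain ⟨j, hj⟩ := pick v
      exact ⟨(p, i, j), Subtype.ext (Prod.ext hi hj)⟩
  -- the pairs are as many as the group
  rw [← h4]
  have hk : ∀ u : SL(2, F), u * u = m → ∃ g, g * x₀ * g⁻¹ = u := fun u hu => exists_conj h2 u ((hsq u).mpr hu)
  choose k hk using hk
  obtain ⟨a, b, hab⟩ := Cfsg.Lib.Linear.HermitianNorm.field_case (E := F) 0 1 (-1) (by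
    rw [zero_pow two_ne_zero, zero_sub, neg_ne_zero, mul_one, show (4 : F) = 2 * 2 by norm_num]
    exact mul_ne_zero h2 h2)
  let w : SL(2, F) := ⟨!![a, b; b, -a], by rw [Matrix.det_fin_two_of]; linear_combination -hab⟩
  have hx : x₀ * x₀ = m := hmdef
  have hanti : ∀ z : SL(2, F), x₀ * z = m * (z * x₀) → z * z = m := by
    intro z hz
    have h : !![(0 : F), 1; -1, 0] * (z : Matrix (Fin 2) (Fin 2) F) =
        -((z : Matrix (Fin 2) (Fin 2) F) * !![(0 : F), 1; -1, 0]) := by
      rw [← neg_one_mul ((z : Matrix (Fin 2) (Fin 2) F) * _), ← hm]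
      exact congrArg (fun y : SL(2, F) => (y : Matrix (Fin 2) (Fin 2) F)) hz
    have h00 := congrFun (congrFun h 0) 0
    have h01 := congrFun (congrFun h 0) 1
    simp [Matrix.mul_apply, Fin.sum_univ_two] at h00 h01
    rw [← hsq]
    have hd := z.2
    rw [Matrix.det_fin_two, h00, h01] at hd
    ext i j
    fin_cases i <;> fin_cases j <;> simp [Matrix.mul_apply, Fin.sum_univ_two, h00, h01]
    all_goals first
      | linear_combination -hd
      | linear_combination hd
      | ring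
  have hw : x₀ * w = m * (w * x₀) := Subtype.ext (by
    show !![(0 : F), 1; -1, 0] * !![a, b; b, -a] = (m : Matrix (Fin 2) (Fin 2) F) * (!![a, b; b, -a] * !![(0 : F), 1; -1, 0])
    rw [hm, neg_one_mul]
    ext i j
    fin_cases i <;> fin_cases j <;> simp [Matrix.mul_apply, Fin.sum_univ_two])
  let Cz : Type _ := {c : SL(2, F) // x₀ * c = c * x₀}
  let Sq : Type _ := {u : SL(2, F) // u * u = m}
  have hT : Nat.card T = Nat.card (Sq × Cz) := by
    refine (Nat.card_eq_of_bijective (fun x : Sq × Cz => (⟨(x.1.1, k x.1.1 x.1.2 * (w * x.2.1) * (k x.1.1 x.1.2)⁻¹), x.1.2, ?_, ?_⟩ : T)) ⟨?_, ?_⟩).symm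
    · obtain ⟨⟨u, hu⟩, c, hc⟩ := x
      show k u hu * (w * c) * (k u hu)⁻¹ * (k u hu * (w * c) * (k u hu)⁻¹) = m
      have e : (w * c) * (w * c) = m := hanti _ (by
        rw [← mul_assoc, hw, mul_assoc, mul_assoc, hc]; group)
      calc k u hu * (w * c) * (k u hu)⁻¹ * (k u hu * (w * c) * (k u hu)⁻¹) = k u hu * ((w * c) * (w * c)) * (k u hu)⁻¹ := by group
        _ = m := by rw [e, ← hmc, mul_inv_cancel_right]
    · obtain ⟨⟨u, hu⟩, c, hc⟩ := x
      show u * (k u hu * (w * c) * (k u hu)⁻¹) = m * (k u hu * (w * c) * (k u hu)⁻¹ * u)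
      have e : x₀ * (w * c) = m * (w * c * x₀) := by rw [← mul_assoc, hw, mul_assoc, mul_assoc, hc]; group
      calc u * (k u hu * (w * c) * (k u hu)⁻¹) = (k u hu * x₀ * (k u hu)⁻¹) * (k u hu * (w * c) * (k u hu)⁻¹) := by rw [hk]
        _ = k u hu * (x₀ * (w * c)) * (k u hu)⁻¹ := by group
        _ = (k u hu * m) * (w * c * x₀) * (k u hu)⁻¹ := by rw [e]; group
        _ = m * (k u hu * (w * c) * (k u hu)⁻¹ * (k u hu * x₀ * (k u hu)⁻¹)) := by rw [← hmc]; group
        _ = m * (k u hu * (w * c) * (k u hu)⁻¹ * u) := by rw [hk]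
    · rintro ⟨⟨u, hu⟩, c, hc⟩ ⟨⟨u', hu'⟩, c', hc'⟩ h
      have h1 : u = u' := congrArg (fun t : T => t.1.1) h
      subst h1
      have h2' : k u hu * (w * c) * (k u hu)⁻¹ = k u hu * (w * c') * (k u hu)⁻¹ := congrArg (fun t : T => t.1.2) h
      have h3 : c = c' := mul_left_cancel (mul_left_cancel (mul_right_cancel h2'))
      subst h3
      rfl
    · rintro ⟨⟨u, v⟩, hu, hv, huv⟩
      have hv' : x₀ * ((k u hu)⁻¹ * v * k u hu) = m * ((k u hu)⁻¹ * v * k u hu * x₀) := by
        calc x₀ * ((k u hu)⁻¹ * v * k u hu) = (k u hu)⁻¹ * ((k u hu * x₀ * (k u hu)⁻¹) * v) * k u hu := by group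
          _ = (k u hu)⁻¹ * m * (v * u) * k u hu := by rw [hk, huv]; group
          _ = m * ((k u hu)⁻¹ * v * (k u hu * x₀ * (k u hu)⁻¹) * k u hu) := by rw [← hmc, hk]; group
          _ = _ := by group
      refine ⟨(⟨u, hu⟩, ⟨w⁻¹ * ((k u hu)⁻¹ * v * k u hu), ?_⟩), Subtype.ext (Prod.ext rfl ?_)⟩
      · set z := (k u hu)⁻¹ * v * k u hu
        have hw' : x₀ * w⁻¹ = m * (w⁻¹ * x₀) := by
          calc x₀ * w⁻¹ = m * (m * (w⁻¹ * ((w * x₀) * w⁻¹))) := by rw [← mul_assoc m m, hmm]; group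
            _ = m * ((m * w⁻¹) * (w * x₀) * w⁻¹) := by group
            _ = m * (w⁻¹ * (m * (w * x₀)) * w⁻¹) := by rw [hmc w⁻¹]; group
            _ = m * (w⁻¹ * x₀) := by rw [← hw]; group
        calc x₀ * (w⁻¹ * z) = m * w⁻¹ * (x₀ * z) := by rw [← mul_assoc, hw']; group
          _ = m * w⁻¹ * m * (z * x₀) := by rw [hv']; group
          _ = (m * m) * (w⁻¹ * z) * x₀ := by rw [mul_assoc m w⁻¹ m, ← hmc w⁻¹]; group
          _ = w⁻¹ * z * x₀ := by rw [hmm, one_mul]
      · show k u hu * (w * (w⁻¹ * ((k u hu)⁻¹ * v * k u hu))) * (k u hu)⁻¹ = v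
        group
  rw [hT]
  refine (Nat.card_eq_of_bijective (fun g : SL(2, F) => ((⟨g * x₀ * g⁻¹, ?_⟩ : Sq),
    (⟨(k (g * x₀ * g⁻¹) ?_)⁻¹ * g, ?_⟩ : Cz))) ⟨?_, ?_⟩).symm
  · calc g * x₀ * g⁻¹ * (g * x₀ * g⁻¹) = g * (x₀ * x₀) * g⁻¹ := by group
      _ = m := by rw [hx, ← hmc, mul_inv_cancel_right]
  · calc g * x₀ * g⁻¹ * (g * x₀ * g⁻¹) = g * (x₀ * x₀) * g⁻¹ := by group
      _ = m := by rw [hx, ← hmc, mul_inv_cancel_right]
  · have e := hk (g * x₀ * g⁻¹) (by
      calc g * x₀ * g⁻¹ * (g * x₀ * g⁻¹) = g * (x₀ * x₀) * g⁻¹ := by group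
        _ = m := by rw [hx, ← hmc, mul_inv_cancel_right])
    generalize k (g * x₀ * g⁻¹) _ = K at e ⊢
    calc x₀ * (K⁻¹ * g) = K⁻¹ * (K * x₀ * K⁻¹) * g := by group
      _ = K⁻¹ * (g * x₀ * g⁻¹) * g := by rw [e]
      _ = K⁻¹ * g * x₀ := by group
  · intro g g' h
    have h1 : g * x₀ * g⁻¹ = g' * x₀ * g'⁻¹ := congrArg (fun x : Sq × Cz => x.1.1) h
    have hk' : ∀ (u u' : SL(2, F)) (e : u = u') (hu : u * u = m) (hu' : u' * u' = m), k u hu = k u' hu' := by
      rintro u _ rfl hu hu'; rfl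
    have h2' := congrArg (fun x : Sq × Cz => x.2.1) h
    simp only at h2'
    rw [hk' _ _ h1 _ (by
      calc g' * x₀ * g'⁻¹ * (g' * x₀ * g'⁻¹) = g' * (x₀ * x₀) * g'⁻¹ := by group
        _ = m := by rw [hx, ← hmc, mul_inv_cancel_right])] at h2'
    exact mul_left_cancel h2'
  · rintro ⟨⟨u, hu⟩, c, hc⟩
    have he : k u hu * c * x₀ * (k u hu * c)⁻¹ = u := by
      calc k u hu * c * x₀ * (k u hu * c)⁻¹ = k u hu * (c * x₀) * c⁻¹ * (k u hu)⁻¹ := by group
        _ = u := by rw [← hc, mul_assoc (k u hu) (x₀ * c), mul_inv_cancel_right, hk]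
    have hk' : ∀ (u u' : SL(2, F)) (e : u = u') (hu : u * u = m) (hu' : u' * u' = m), k u hu = k u' hu' := by
      rintro u _ rfl hu hu'; rfl
    refine ⟨k u hu * c, Prod.ext (Subtype.ext he) (Subtype.ext ?_)⟩
    show (k _ _)⁻¹ * (k u hu * c) = c
    rw [hk' _ u he _ hu, inv_mul_cancel_left]

/-- In a group, each Klein four-subgroup holds six ordered pairs of distinct involutions. -/
theorem card_kleins (G : Type*) [Group G] [Finite G] :
    Nat.card {p : G × G // (p.1 ≠ 1 ∧ p.1 * p.1 = 1) ∧ (p.2 ≠ 1 ∧ p.2 * p.2 = 1) ∧ p.1 ≠ p.2 ∧ p.1 * p.2 = p.2 * p.1} =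
      6 * Nat.card {V : Subgroup G // IsKleinFour V} := by
  classical
  let P : Type _ := {p : G × G // (p.1 ≠ 1 ∧ p.1 * p.1 = 1) ∧ (p.2 ≠ 1 ∧ p.2 * p.2 = 1) ∧ p.1 ≠ p.2 ∧ p.1 * p.2 = p.2 * p.1}
  let K : Type _ := {V : Subgroup G // IsKleinFour V}
  show Nat.card P = 6 * Nat.card K
  haveI : Fintype K := Fintype.ofFinite K
  let I : K → Type _ := fun V => {p : V.1 × V.1 // p.1 ≠ 1 ∧ p.2 ≠ 1 ∧ p.1 ≠ p.2}
  have hI : ∀ V : K, Nat.card (I V) = 6 := by
    intro V
    haveI := V.2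
    haveI : Fintype V.1 := Fintype.ofFinite _
    have hc : Fintype.card V.1 = 4 := by rw [← Nat.card_eq_fintype_card]; exact IsKleinFour.card_four
    let e₁ := Fintype.equivFinOfCardEq hc
    let e : V.1 ≃ Fin 4 := e₁.trans (Equiv.swap (e₁ 1) 0)
    have he : e 1 = 0 := by simp [e]
    rw [Nat.card_congr (Equiv.subtypeEquiv (Equiv.prodCongr e e) (q := fun p : Fin 4 × Fin 4 => p.1 ≠ 0 ∧ p.2 ≠ 0 ∧ p.1 ≠ p.2)
      (fun p => by simp only [Equiv.prodCongr_apply, Prod.map_fst, Prod.map_snd, ← he, e.injective.ne_iff]))]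
    rw [Nat.card_eq_fintype_card]
    decide
  have hsum : Nat.card (Σ V : K, I V) = 6 * Nat.card K := by
    haveI : ∀ V : K, Finite (I V) := fun V => Subtype.finite
    rw [Nat.card_sigma, Finset.sum_congr rfl (fun V _ => hI V), Finset.sum_const, Finset.card_univ,
      Nat.card_eq_fintype_card (α := K), smul_eq_mul, mul_comm]
  rw [← hsum]
  have hsq : ∀ (V : K) (x : V.1), (x : G) * x = 1 := fun V x => by
    haveI := V.2
    exact congrArg Subtype.val (IsKleinFour.mul_self x)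
  refine (Nat.card_eq_of_bijective (fun x : Σ V : K, I V => (⟨((x.2.1.1 : G), (x.2.1.2 : G)),
    ⟨fun h => x.2.2.1 (Subtype.ext h), hsq _ _⟩, ⟨fun h => x.2.2.2.1 (Subtype.ext h), hsq _ _⟩,
    fun h => x.2.2.2.2 (Subtype.ext h), ?_⟩ : P)) ⟨?_, ?_⟩).symm
  · show (x.2.1.1 : G) * x.2.1.2 = x.2.1.2 * x.2.1.1
    have h1 := hsq x.1 (x.2.1.1 * x.2.1.2)
    rw [Subgroup.coe_mul] at h1
    calc (x.2.1.1 : G) * x.2.1.2 = ((x.2.1.1 : G) * x.2.1.2)⁻¹ := (inv_eq_of_mul_eq_one_left h1).symm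
      _ = (x.2.1.2 : G)⁻¹ * (x.2.1.1 : G)⁻¹ := mul_inv_rev _ _
      _ = _ := by rw [inv_eq_of_mul_eq_one_left (hsq _ _), inv_eq_of_mul_eq_one_left (hsq _ _)]
  · rintro ⟨⟨V, hV⟩, ⟨⟨a, ha⟩, ⟨b, hb⟩⟩, hab⟩ ⟨⟨W, hW⟩, ⟨⟨a', ha'⟩, ⟨b', hb'⟩⟩, hab'⟩ h
    have e1 : a = a' := congrArg (fun p : P => p.1.1) h
    have e2 : b = b' := congrArg (fun p : P => p.1.2) h
    subst e1 e2
    have key : ∀ (V W : Subgroup G), IsKleinFour V → ∀ (ha : a ∈ V) (hb : b ∈ V), a ∈ W → b ∈ W →
        (⟨a, ha⟩ : V) ≠ 1 → (⟨b, hb⟩ : V) ≠ 1 → (⟨a, ha⟩ : V) ≠ ⟨b, hb⟩ → V ≤ W := by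
      intro V W hV ha hb haW hbW n1 n2 n3 z hz
      haveI := hV
      haveI : Fintype V := Fintype.ofFinite _
      have := Finset.mem_univ (⟨z, hz⟩ : V)
      rw [← IsKleinFour.eq_finset_univ n1 n2 n3] at this
      simp only [Finset.mem_insert, Finset.mem_singleton] at this
      rcases this with e | e | e | e <;> rw [show z = _ from congrArg Subtype.val e]
      · exact W.mul_mem haW hbW
      · exact haW
      · exact hbW
      · exact W.one_mem
    obtain rfl : V = W := le_antisymm (key V W hV ha hb ha' hb' hab.1 hab.2.1 hab.2.2)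
      (key W V hW ha' hb' ha hb hab'.1 hab'.2.1 hab'.2.2)
    rfl
  · rintro ⟨⟨a, b⟩, ⟨ha1, ha2⟩, ⟨hb1, hb2⟩, hne, hc⟩
    have hba : b * a = a * b := hc.symm
    have hd2 : a * b * (a * b) = 1 := by
      calc a * b * (a * b) = a * (b * a) * b := by group
        _ = (a * a) * (b * b) := by rw [hba]; group
        _ = 1 := by rw [ha2, hb2, one_mul]
    let V : Subgroup G :=
      { carrier := {1, a, b, a * b}
        one_mem' := Or.inl rfl
        inv_mem' := by
          intro x hx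
          rcases hx with hx | hx | hx | hx <;> rw [hx]
          · simp
          · exact Or.inr (Or.inl (inv_eq_of_mul_eq_one_left ha2))
          · exact Or.inr (Or.inr (Or.inl (inv_eq_of_mul_eq_one_left hb2)))
          · exact Or.inr (Or.inr (Or.inr (inv_eq_of_mul_eq_one_left hd2)))
        mul_mem' := by
          have e1 : a * (a * b) = b := by rw [← mul_assoc, ha2, one_mul]
          have e2 : b * (a * b) = a := by rw [← mul_assoc, hba, mul_assoc, hb2, mul_one]
          have e3 : a * b * a = b := by rw [mul_assoc, hba, e1]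
          have e4 : a * b * b = a := by rw [mul_assoc, hb2, mul_one]
          intro x y hx hy
          have ha2' : a * a = 1 := ha2
          have hb2' : b * b = 1 := hb2
          rcases hx with hx | hx | hx | hx <;> rcases hy with hy | hy | hy | hy <;> rw [hx, hy] <;>
            simp [ha2', hb2', hba, e1, e2, e3, e4, hd2] }
    have hd1 : a * b ≠ 1 := fun h => hne (by
      calc a = a * (b * b) := by rw [hb2, mul_one]
        _ = b := by rw [← mul_assoc, h, one_mul])
    have hV : IsKleinFour V := by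
      refine ⟨?_, ?_⟩
      · show Nat.card ({1, a, b, a * b} : Set G) = 4
        rw [Nat.card_coe_set_eq, Set.ncard_insert_of_notMem ?_ (Set.toFinite _), Set.ncard_insert_of_notMem ?_ (Set.toFinite _),
          Set.ncard_pair ?_]
        · intro h
          exact ha1 (mul_right_cancel (h.symm.trans (one_mul b).symm))
        · rintro (h | h)
          · exact hne h
          · exact hb1 (mul_left_cancel (h.symm.trans (mul_one a).symm))
        · rintro (h | h | h)
          · exact ha1 h.symm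
          · exact hb1 h.symm
          · exact hd1 h.symm
      · haveI : Nontrivial V := ⟨⟨⟨a, Or.inr (Or.inl rfl)⟩, 1, fun h => ha1 (congrArg Subtype.val h)⟩⟩
        refine (Monoid.exponent_eq_prime_iff Nat.prime_two).mpr fun x hx => orderOf_eq_prime ?_ hx
        obtain ⟨x, hxV⟩ := x
        refine Subtype.ext ?_
        show x ^ 2 = 1
        rw [pow_two]
        rcases hxV with e | e | e | e <;> rw [e]
        · exact one_mul _
        · exact ha2
        · exact hb2
        · exact hd2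
    refine ⟨⟨⟨V, hV⟩, ⟨(⟨a, Or.inr (Or.inl rfl)⟩, ⟨b, Or.inr (Or.inr (Or.inl rfl))⟩),
      fun h => ha1 (congrArg Subtype.val h), fun h => hb1 (congrArg Subtype.val h), fun h => hne (congrArg Subtype.val h)⟩⟩, rfl⟩

/-- For q odd, twelve times the number of Klein four-subgroups of PSL_2(q) equals the order of PSL_2(q). -/
theorem result {F : Type*} [Field F] [Fintype F] {q : ℕ} (hF : Fintype.card F = q) (hodd : Odd q) : 12 * Nat.card {V : Subgroup (Matrix.ProjectiveSpecialLinearGroup (Fin 2) F) // IsKleinFour V} = Nat.card (Matrix.ProjectiveSpecialLinearGroup (Fin 2) F) := by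
  classical
  have h2 : (2 : F) ≠ 0 := Cfsg.Agent.S0809.two_ne_zero_of_odd hF hodd
  have hSL : Nat.card (Matrix.SpecialLinearGroup (Fin 2) F) = Nat.card (Matrix.ProjectiveSpecialLinearGroup (Fin 2) F) * 2 := by
    rw [Subgroup.card_eq_card_quotient_mul_card_subgroup (Subgroup.center (Matrix.SpecialLinearGroup (Fin 2) F))]
    congr 1
    rw [Cfsg.Lib.Linear.card_center_SL, Fintype.card_fin]
    refine Nat.gcd_eq_left ?_
    rw [hF]
    obtain ⟨c, hc⟩ := hodd
    exact ⟨c, by omega⟩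
  have h := card_pairs h2
  rw [card_kleins, hSL] at h
  omega

end Cfsg.Agent.S0807
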