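import Cfsg.Statements.S0808
import Cfsg.Agent.Lib.Dickson.KleinClasses


set_option autoImplicit false
open Cfsg

namespace Cfsg.Agent.S0808


open Subgroup Cfsg.Lib.Dickson

theorem card_orbit {G : Type*} [Group G] [Finite G] (V : Subgroup G) :
    Nat.card {W : Subgroup G // ∃ g : G, W = V.map (MulAut.conj g).toMonoidHom} *
      Nat.card ↥(normalizer (V : Set G)) = Nat.card G := by
  classical
  haveI := Fintype.ofFinite G
  haveI := Fintype.ofFinite (Subgroup G)
  let f : G → {W : Subgroup G // ∃ g : G, W = V.map (MulAut.conj g).toMonoidHom} :=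
    fun g => ⟨V.map (MulAut.conj g).toMonoidHom, g, rfl⟩
  symm
  rw [← Nat.card_congr (Equiv.sigmaFiberEquiv f), Nat.card_sigma, Finset.sum_const_nat
    (m := Nat.card ↥(normalizer (V : Set G)))]
  · rw [Finset.card_univ, ← Nat.card_eq_fintype_card]
  rintro ⟨W, g0, rfl⟩ -
  refine Nat.card_congr ((Equiv.mulLeft g0⁻¹).subtypeEquiv fun g => ?_)
  simp only [Equiv.coe_mulLeft, f, Subtype.mk.injEq, mem_normalizer_iff]
  have key : ∀ (a x : G), x ∈ V.map (MulAut.conj a).toMonoidHom ↔ a⁻¹ * x * a ∈ V := by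
    intro a x
    constructor
    · rintro ⟨v, hv, rfl⟩
      simpa [mul_assoc] using hv
    · intro h
      exact ⟨_, h, by simp [mul_assoc]⟩
  rw [SetLike.ext_iff]
  constructor
  · intro h v
    rw [show v ∈ V ↔ g⁻¹ * (g * v * g⁻¹) * g ∈ V by simp [mul_assoc], ← key g, h, key g0]
    simp [mul_assoc]
  · intro h x
    rw [key g, key g0, h (g⁻¹ * x * g)]
    simp [mul_assoc]



/-- Conjugacy classes of four-groups in PSL_2(q), q odd: if q ≡ 3 or 5 (mod 8) all Klein four-subgroups are conjugate; if q ≡ 1 or 7 (mod 8) there are two Klein four-subgroups which are not conjugate, and every Klein four-subgroup is conjugate to one of them. -/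
theorem result {F : Type*} [Field F] [Fintype F] {q : ℕ} (hF : Fintype.card F = q) (hodd : Odd q) : ((q % 8 = 3 ∨ q % 8 = 5) → ∀ V W : Subgroup (Matrix.ProjectiveSpecialLinearGroup (Fin 2) F), IsKleinFour V → IsKleinFour W → ∃ g : Matrix.ProjectiveSpecialLinearGroup (Fin 2) F, W = V.map (MulAut.conj g).toMonoidHom) ∧ ((q % 8 = 1 ∨ q % 8 = 7) → ∃ V₁ V₂ : Subgroup (Matrix.ProjectiveSpecialLinearGroup (Fin 2) F), IsKleinFour V₁ ∧ IsKleinFour V₂ ∧ (¬ ∃ g : Matrix.ProjectiveSpecialLinearGroup (Fin 2) F, V₂ = V₁.map (MulAut.conj g).toMonoidHom) ∧ ∀ W : Subgroup (Matrix.ProjectiveSpecialLinearGroup (Fin 2) F), IsKleinFour W → (∃ g : Matrix.ProjectiveSpecialLinearGroup (Fin 2) F, W = V₁.map (MulAut.conj g).toMonoidHom) ∨ (∃ g : Matrix.ProjectiveSpecialLinearGroup (Fin 2) F, W = V₂.map (MulAut.conj g).toMonoidHom)) := by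
  classical
  subst hF
  have hodd' : Fintype.card F % 2 = 1 := Nat.odd_iff.1 hodd
  have hcard := Cfsg.Lib.Dickson.card_psl_mul (K := F) hodd'
  set q := Fintype.card F with hq
  have hsq : q ^ 2 % 16 = (q % 16) ^ 2 % 16 := Nat.pow_mod q 2 16
  refine ⟨fun h8 V W hV hW => ?_, fun h8 => ?_⟩
  · have h16 : (q ^ 2 - 1) % 16 = 8 := by
      have hr : q % 16 = 3 ∨ q % 16 = 5 ∨ q % 16 = 11 ∨ q % 16 = 13 := by omega
      rcases hr with e | e | e | e <;> rw [e] at hsq <;> norm_num at hsq <;> omega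
    have hn8 : ¬ 8 ∣ Nat.card (Matrix.ProjectiveSpecialLinearGroup (Fin 2) F) := by
      rintro ⟨k, hk⟩
      rw [hk] at hcard
      have h1 : 16 ∣ q * (q ^ 2 - 1) := ⟨k, by rw [← hcard]; ring⟩
      have hcop : Nat.Coprime 16 q := by
        rw [show (16 : ℕ) = 2 ^ 4 from rfl]
        exact Nat.Coprime.pow_left 4 ((Nat.Prime.coprime_iff_not_dvd Nat.prime_two).2 (by omega))
      have := hcop.dvd_of_dvd_mul_left h1
      omega
    have h4 : ∀ U : Subgroup (Matrix.ProjectiveSpecialLinearGroup (Fin 2) F), IsKleinFour U →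
        Nat.card U = 2 ^ (Nat.card (Matrix.ProjectiveSpecialLinearGroup (Fin 2) F)).factorization 2 := by
      intro U hU
      rw [hU.card_four]
      have hd : 2 ^ 2 ∣ Nat.card (Matrix.ProjectiveSpecialLinearGroup (Fin 2) F) := by
        have := U.card_subgroup_dvd_card
        rwa [hU.card_four] at this
      have a := (Nat.Prime.pow_dvd_iff_le_factorization Nat.prime_two Nat.card_pos.ne').1 hd
      have b : ¬ 3 ≤ (Nat.card (Matrix.ProjectiveSpecialLinearGroup (Fin 2) F)).factorization 2 :=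
        fun h => hn8 ((Nat.Prime.pow_dvd_iff_le_factorization Nat.prime_two Nat.card_pos.ne').2 h)
      rw [show (Nat.card (Matrix.ProjectiveSpecialLinearGroup (Fin 2) F)).factorization 2 = 2 by omega]
      rfl
    haveI : Fact (Nat.Prime 2) := ⟨Nat.prime_two⟩
    obtain ⟨g, hg⟩ := MulAction.exists_smul_eq (Matrix.ProjectiveSpecialLinearGroup (Fin 2) F)
      (Sylow.ofCard V (h4 V hV)) (Sylow.ofCard W (h4 W hW))
    refine ⟨g, ?_⟩
    have := congrArg (fun P : Sylow 2 (Matrix.ProjectiveSpecialLinearGroup (Fin 2) F) =>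
      (P : Subgroup (Matrix.ProjectiveSpecialLinearGroup (Fin 2) F))) hg
    simp only [Sylow.coe_subgroup_smul, Sylow.coe_ofCard] at this
    rw [← this, Subgroup.pointwise_smul_def]
    rfl
  · have h16 : (q ^ 2 - 1) % 16 = 0 := by
      have hr : q % 16 = 1 ∨ q % 16 = 7 ∨ q % 16 = 9 ∨ q % 16 = 15 := by omega
      rcases hr with e | e | e | e <;> rw [e] at hsq <;> norm_num at hsq <;> omega
    have hd8 : 8 ∣ Nat.card (Matrix.ProjectiveSpecialLinearGroup (Fin 2) F) := by
      have : 16 ∣ q * (q ^ 2 - 1) := dvd_mul_of_dvd_right (Nat.dvd_of_mod_eq_zero h16) _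
      rw [← hcard] at this
      omega
    set G := Matrix.ProjectiveSpecialLinearGroup (Fin 2) F with hG
    have h12 := KleinClasses.card_klein (F := F) hodd'
    have hN : ∀ V : Subgroup G, IsKleinFour V → Nat.card ↥(normalizer (V : Set G)) = 24 := by
      intro V hV
      haveI := hV
      haveI : Fact (Nat.Prime 2) := ⟨Nat.prime_two⟩
      obtain ⟨h1, h3⟩ := KleinClasses.card_normalizer_klein hodd' V
      have h8' := Sylow.prime_pow_dvd_card_normalizer (p := 2) (n := 2) (H := V) (by simpa using hd8)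
        (by rw [hV.card_four]; rfl)
      exact Nat.dvd_antisymm h1 ((Nat.Coprime.mul_dvd_of_dvd_of_dvd (by norm_num) h8' h3 :
        2 ^ 3 * 3 ∣ _))
    have horb : ∀ V : Subgroup G, IsKleinFour V →
        Nat.card {W : Subgroup G // ∃ g : G, W = V.map (MulAut.conj g).toMonoidHom} * 24 = Nat.card G :=
      fun V hV => hN V hV ▸ card_orbit V
    have hinv : ∀ V : Subgroup G, IsKleinFour V → ∀ W : Subgroup G,
        (∃ g : G, W = V.map (MulAut.conj g).toMonoidHom) → IsKleinFour W := by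
      rintro V hV W ⟨g, rfl⟩
      have e := V.equivMapOfInjective (MulAut.conj g).toMonoidHom (MulAut.conj g).injective
      exact ⟨by rw [← Nat.card_congr e.toEquiv]; exact hV.card_four,
        by rw [← Monoid.exponent_eq_of_mulEquiv e]; exact hV.exponent_two⟩
    haveI := Fintype.ofFinite (Subgroup G)
    let S : Finset (Subgroup G) := Finset.univ.filter fun V => IsKleinFour V
    let O : Subgroup G → Finset (Subgroup G) := fun V =>
      Finset.univ.filter fun W => ∃ g : G, W = V.map (MulAut.conj g).toMonoidHom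
    have hS : 12 * S.card = Nat.card G := by
      rw [← h12, Nat.card_eq_fintype_card, Fintype.card_subtype]
    have hO : ∀ V : Subgroup G, IsKleinFour V → (O V).card * 24 = Nat.card G ∧ O V ⊆ S := fun V hV =>
      ⟨by rw [← horb V hV, Nat.card_eq_fintype_card, Fintype.card_subtype],
        fun W hW => Finset.mem_filter.2 ⟨Finset.mem_univ _, hinv V hV W (Finset.mem_filter.1 hW).2⟩⟩
    have hpos : 0 < Nat.card G := Nat.card_pos
    obtain ⟨V₁, hV₁⟩ : S.Nonempty := Finset.card_pos.1 (by omega)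
    have hK₁ : IsKleinFour V₁ := (Finset.mem_filter.1 hV₁).2
    obtain ⟨ho₁, hs₁⟩ := hO V₁ hK₁
    obtain ⟨V₂, hV₂, hV₂'⟩ := Finset.exists_mem_notMem_of_card_lt_card
      (show (O V₁).card < S.card by omega)
    have hK₂ : IsKleinFour V₂ := (Finset.mem_filter.1 hV₂).2
    obtain ⟨ho₂, hs₂⟩ := hO V₂ hK₂
    refine ⟨V₁, V₂, hK₁, hK₂, fun h => hV₂' (Finset.mem_filter.2 ⟨Finset.mem_univ _, h⟩), fun W hW => ?_⟩
    have hdisj : Disjoint (O V₁) (O V₂) := by
      rw [Finset.disjoint_left]
      intro U hU₁ hU₂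
      obtain ⟨a, ha⟩ := (Finset.mem_filter.1 hU₁).2
      obtain ⟨b, hb⟩ := (Finset.mem_filter.1 hU₂).2
      refine hV₂' (Finset.mem_filter.2 ⟨Finset.mem_univ _, b⁻¹ * a, ?_⟩)
      have e := congrArg (Subgroup.map (MulAut.conj b⁻¹).toMonoidHom) (hb.symm.trans ha)
      rw [Subgroup.map_map, Subgroup.map_map] at e
      rw [show ((MulAut.conj b⁻¹).toMonoidHom).comp (MulAut.conj b).toMonoidHom = MonoidHom.id G by
        refine MonoidHom.ext fun x => ?_; simp [mul_assoc], Subgroup.map_id] at e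
      rw [e]
      congr 1
      refine MonoidHom.ext fun x => ?_
      simp [mul_assoc]
    have heq : O V₁ ∪ O V₂ = S := Finset.eq_of_subset_of_card_le (Finset.union_subset hs₁ hs₂)
      (by rw [Finset.card_union_of_disjoint hdisj]; omega)
    have : W ∈ O V₁ ∪ O V₂ := by
      rw [heq]; exact Finset.mem_filter.2 ⟨Finset.mem_univ _, hW⟩
    rcases Finset.mem_union.1 this with h | h
    · exact Or.inl (Finset.mem_filter.1 h).2
    · exact Or.inr (Finset.mem_filter.1 h).2

end Cfsg.Agent.S0808
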