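import Cfsg.Statements.S0810
import Cfsg.Agent.Lib.Dickson.Solvable

set_option autoImplicit false
open Cfsg

namespace Cfsg.Agent.S0810

open Matrix Cfsg.Lib.Dickson in
/-- A subfield subgroup of higher degree is proper. -/
theorem subfield_proper {F K : Type*} [Field F] [Fintype F] [Field K] [Fintype K] {b : ℕ} (hb : 2 ≤ b)
    (h : Fintype.card K ^ b = Fintype.card F) {H : Subgroup (Matrix.ProjectiveSpecialLinearGroup (Fin 2) F)}
    (e : H ≃* Matrix.ProjectiveSpecialLinearGroup (Fin 2) K) : H ≠ ⊤ := by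
  intro ht
  have hK := Cfsg.Lib.Linear.Two.card_PSL_two (F := K)
  have hF := Cfsg.Lib.Linear.Two.card_PSL_two (F := F)
  rw [← Nat.card_congr e.toEquiv, ht, Subgroup.card_top] at hK
  have hq : Fintype.card K ^ 2 ≤ Fintype.card F := h ▸ Nat.pow_le_pow_right Fintype.card_pos hb
  have hlt := two_mul_lt_of_sq_le (two_le_card (F := K)) hq
  have h1 : 1 ≤ Nat.gcd 2 (Fintype.card K - 1) := Nat.gcd_pos_of_pos_left _ two_pos
  have h2 : Nat.gcd 2 (Fintype.card F - 1) ≤ 2 := Nat.gcd_le_left _ two_pos
  have h3 := Nat.mul_le_mul_right (Nat.card (Matrix.ProjectiveSpecialLinearGroup (Fin 2) F)) h1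
  have h4 := Nat.mul_le_mul_right (Nat.card (Matrix.ProjectiveSpecialLinearGroup (Fin 2) F)) h2
  omega

open Matrix Cfsg.Lib.Dickson in
theorem minimal_of_data {F : Type*} [Field F] [Fintype F] (h4 : 4 ≤ Fintype.card F)
    (hA : Fintype.card F ≠ 4 → Fintype.card F ≠ 5 → ¬ 5 ∣ Fintype.card F * (Fintype.card F ^ 2 - 1))
    (hL : ∀ r m : ℕ, 3 ≤ r → r ^ m = Fintype.card F → m = 1 ∨ (r = 3 ∧ m % 2 = 1)) :
    Cfsg.IsMinimalSimple (Matrix.ProjectiveSpecialLinearGroup (Fin 2) F) := by
  classical
  haveI : IsSimpleGroup (Matrix.ProjectiveSpecialLinearGroup (Fin 2) F) :=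
    Matrix.ProjectiveSpecialLinearGroup.rank_two_simple (by rw [Nat.card_eq_fintype_card]; exact h4)
  obtain ⟨p, hpp, hp, -⟩ := exists_char (F := F)
  haveI := Fact.mk hpp
  refine ⟨inferInstance, fun hc => not_isSolvable_psl h4 (Group.isSolvable_of_comm hc.is_comm.comm), fun H hH => ?_⟩
  rcases psl_subgroup_cases p H with ⟨k, -, ⟨hc, -⟩ | ⟨⟨f⟩⟩⟩ | ⟨-, P, hP⟩ | ⟨-, hcase⟩
  · letI := hc.commGroup
    exact isSolvable_comm
  · exact isSolvable_congr f (isSolvable_dihedral k)
  · haveI := isSolvable_normalizer_sylow_psl p P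
    exact Group.isSolvable_of_isSolvable_injective (f := Subgroup.inclusion hP) (Subgroup.inclusion_injective hP)
  rcases hcase with ⟨⟨f⟩⟩ | ⟨⟨f⟩⟩ | ⟨⟨f⟩⟩ | ⟨L, _, _, m, _, h3, hm, hiso⟩
  · exact isSolvable_congr f isSolvable_alternating_four
  · exact isSolvable_congr f isSolvable_perm_four
  · refine absurd ?_ hH
    have h5 := five_dvd_of_alternating_five f
    have hG := Cfsg.Lib.Linear.Two.card_PSL_two (F := F)
    refine Subgroup.eq_top_of_card_eq H ?_
    rw [card_target_five f]
    by_cases e4 : Fintype.card F = 4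
    · rw [e4, show Nat.gcd 2 (4 - 1) = 1 by rfl, show 4 * (4 ^ 2 - 1) = 60 by rfl] at hG
      omega
    · by_cases e5 : Fintype.card F = 5
      · rw [e5, show Nat.gcd 2 (5 - 1) = 2 by rfl, show 5 * (5 ^ 2 - 1) = 120 by rfl] at hG
        omega
      · exact absurd h5 (hA e4 e5)
  · rcases hL _ m h3 hm with rfl | ⟨hr, hmo⟩
    · exact absurd (eq_top_of_full (by rwa [pow_one] at hm) hiso) hH
    · rcases hiso with ⟨⟨f⟩, -⟩ | ⟨⟨f⟩⟩
      · exact isSolvable_congr f (isSolvable_psl_two_three hr)
      · have hodd : Fintype.card F % 2 = 1 := by rw [← hm, hr, Nat.pow_mod]; simp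
        have := Nat.even_iff.mp (even_of_pgl_subgroup hm hodd H f)
        omega

/-- PSL_2(q) is minimal simple iff q is 2^r (r prime), 3^r (r an odd prime), a prime greater than 5 congruent to 2 or 3 mod 5, or 5. -/
theorem result {F : Type*} [Field F] [Fintype F] {q : ℕ} (hF : Fintype.card F = q) : Cfsg.IsMinimalSimple (Matrix.ProjectiveSpecialLinearGroup (Fin 2) F) ↔ ((∃ r : ℕ, r.Prime ∧ q = 2 ^ r) ∨ (∃ r : ℕ, r.Prime ∧ r ≠ 2 ∧ q = 3 ^ r) ∨ (q.Prime ∧ 5 < q ∧ (q % 5 = 2 ∨ q % 5 = 3)) ∨ q = 5) := by
  classical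
  open Cfsg.Lib.Dickson in
  subst hF
  obtain ⟨p, hpp, hp, n, hn0, hn⟩ := exists_char (F := F)
  haveI := Fact.mk hpp
  have hge : 2 ≤ Fintype.card F := two_le_card
  constructor
  · rintro ⟨hs, hnc, hsol⟩
    haveI := hs
    have hns : ¬ Group.IsSolvable (Matrix.ProjectiveSpecialLinearGroup (Fin 2) F) := fun h =>
      hnc ⟨⟨IsSimpleGroup.comm_iff_isSolvable.mpr h⟩⟩
    have hq4 : 4 ≤ Fintype.card F := by
      by_contra hlt
      rcases (show Fintype.card F = 2 ∨ Fintype.card F = 3 by omega) with h | h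
      · have hG := Cfsg.Lib.Linear.Two.card_PSL_two (F := F)
        rw [h, show Nat.gcd 2 (2 - 1) = 1 by rfl, show 2 * (2 ^ 2 - 1) = 6 by rfl, one_mul] at hG
        haveI := Fact.mk Nat.prime_three
        obtain ⟨x, hx⟩ := exists_prime_orderOf_dvd_card' (G := Matrix.ProjectiveSpecialLinearGroup (Fin 2) F) 3
          (by rw [hG]; norm_num)
        have hi := Subgroup.card_mul_index (Subgroup.zpowers x)
        rw [Nat.card_zpowers, hx, hG] at hi
        haveI := Subgroup.normal_of_index_eq_two (H := Subgroup.zpowers x) (by omega)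
        rcases IsSimpleGroup.eq_bot_or_eq_top_of_normal (Subgroup.zpowers x) inferInstance with hb | hb
        · have := congrArg (fun H : Subgroup _ => Nat.card H) hb
          simp only [Nat.card_zpowers, hx, Subgroup.card_bot] at this
          omega
        · have := congrArg (fun H : Subgroup _ => Nat.card H) hb
          simp only [Nat.card_zpowers, hx, Subgroup.card_top, hG] at this
          omega
      · exact hns (isSolvable_psl_two_three h)
    have hbad : ∀ a b : ℕ, 2 ≤ b → n = a * b → 4 ≤ p ^ a → False := by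
      intro a b hb hab h4
      have ha0 : a ≠ 0 := by rintro rfl; simp at h4
      haveI : Fintype (GaloisField p a) := Fintype.ofFinite _
      have hK : Fintype.card (GaloisField p a) = p ^ a := by
        rw [← Nat.card_eq_fintype_card, GaloisField.card p a ha0]
      have hKF : Fintype.card (GaloisField p a) ^ b = Fintype.card F := by rw [hK, hn, hab, pow_mul]
      obtain ⟨H, ⟨e⟩⟩ := exists_psl_subgroup hKF
      exact not_isSolvable_psl (K := GaloisField p a) (hK ▸ h4)
        (isSolvable_congr e.symm (hsol H (subfield_proper hb hKF e)))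
    have hA5 : Fintype.card F % 2 = 1 → 7 ≤ Fintype.card F →
        5 ∣ Fintype.card F * (Fintype.card F ^ 2 - 1) → False := by
      intro hodd h7 h5
      obtain ⟨H, ⟨e⟩⟩ := exists_alternating_five (two_ne_zero_of_odd hodd) (isSquare_five_of hodd h5)
      refine not_isSolvable_alternating_five (isSolvable_congr e.symm (hsol H fun ht => ?_))
      have hG := Cfsg.Lib.Linear.Two.card_PSL_two (F := F)
      have hc := card_target_five e
      rw [ht, Subgroup.card_top] at hc
      rw [hc, Nat.gcd_eq_left (show 2 ∣ Fintype.card F - 1 by omega)] at hG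
      have h48 : 48 ≤ Fintype.card F ^ 2 - 1 := by have := Nat.pow_le_pow_left h7 2; omega
      have := Nat.mul_le_mul h7 h48
      omega
    rcases Nat.lt_or_ge n 2 with hn2 | hn2
    · obtain rfl : n = 1 := by omega
      rw [pow_one] at hn
      subst hn
      rcases Nat.lt_or_ge 5 (Fintype.card F) with h5 | h5
      · refine Or.inr (Or.inr (Or.inl ⟨hpp, h5, ?_⟩))
        by_contra hcon
        have hodd : Fintype.card F % 2 = 1 := (hpp.eq_two_or_odd).resolve_left (by omega)
        have hne : Fintype.card F ≠ 6 := fun h => by omega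
        refine hA5 hodd (by omega) (Dvd.dvd.mul_left (Nat.dvd_of_mod_eq_zero ?_) _)
        have h5' : ¬ 5 ∣ Fintype.card F := fun h => by
          have := (Nat.prime_dvd_prime_iff_eq (by norm_num) hpp).mp h; omega
        have h1 : 1 ≤ Fintype.card F ^ 2 := Nat.one_le_pow _ _ (by omega)
        have hsq : Fintype.card F ^ 2 % 5 = 1 := by
          rw [Nat.pow_mod]
          rcases (show Fintype.card F % 5 = 1 ∨ Fintype.card F % 5 = 4 by omega) with h | h <;> rw [h] <;> rfl
        omega
      · refine Or.inr (Or.inr (Or.inr ?_))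
        rcases (show Fintype.card F = 4 ∨ Fintype.card F = 5 by omega) with h | h
        · rw [h] at hpp; norm_num at hpp
        · exact h
    · have hnp : n.Prime := by
        by_contra hc
        have hm := Nat.minFac_prime (show n ≠ 1 by omega)
        obtain ⟨b, hb⟩ := Nat.minFac_dvd n
        have hb2 : 2 ≤ b := by
          rcases (show b = 0 ∨ b = 1 ∨ 2 ≤ b by omega) with h | h | h
          · rw [h, mul_zero] at hb; omega
          · exact absurd (by rw [hb, h, mul_one]; exact hm) hc
          · exact h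
        exact hbad n.minFac b hb2 hb (le_trans (Nat.pow_le_pow_left hpp.two_le 2)
          (Nat.pow_le_pow_right hpp.pos hm.two_le))
      rcases (show p = 2 ∨ p = 3 ∨ p = 4 ∨ 5 ≤ p by have := hpp.two_le; omega) with rfl | rfl | rfl | h5
      · exact Or.inl ⟨n, hnp, hn⟩
      · refine Or.inr (Or.inl ⟨n, hnp, fun h2 => ?_, hn⟩)
        subst h2
        exact hA5 (by rw [hn]; rfl) (by rw [hn]; norm_num) (by rw [hn]; norm_num)
      · norm_num at hpp
      · exact (hbad 1 n hn2 (one_mul n).symm (by rw [pow_one]; omega)).elim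
  · rintro (⟨r, hr, hq⟩ | ⟨r, hr, hr2, hq⟩ | ⟨hq, h5, h23⟩ | hq)
    · have h4 : 4 ≤ 2 ^ r := le_trans (by norm_num) (Nat.pow_le_pow_right two_pos hr.two_le)
      refine minimal_of_data (hq ▸ h4) (fun hne _ => ?_) (fun s m hs hm => ?_)
      · have hro : r % 2 = 1 := Nat.odd_iff.mp (hr.odd_of_ne_two (by rintro rfl; simp at hq; omega))
        rw [hq, (Nat.Coprime.pow_right r (show Nat.Coprime 5 2 by norm_num)).dvd_mul_left, ← pow_mul, mul_comm,
          pow_mul]
        obtain ⟨l, rfl⟩ : ∃ l, r = 2 * l + 1 := ⟨r / 2, by omega⟩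
        have : (2 ^ 2) ^ (2 * l + 1) % 5 = 4 := by
          rw [pow_succ, pow_mul, Nat.mul_mod, Nat.pow_mod]; norm_num
        generalize (2 ^ 2) ^ (2 * l + 1) = N at this ⊢
        omega
      · rw [hq] at hm
        rcases Nat.eq_zero_or_pos m with rfl | hm0
        · simp at hm; omega
        obtain ⟨i, -, rfl⟩ := (Nat.dvd_prime_pow Nat.prime_two).mp (hm ▸ dvd_pow_self s hm0.ne')
        rw [← pow_mul] at hm
        have him := Nat.pow_right_injective le_rfl hm
        rcases (Nat.dvd_prime hr).mp (him ▸ dvd_mul_left m i) with h | h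
        · exact Or.inl h
        · subst h
          rcases (show i = 0 ∨ i = 1 ∨ 2 ≤ i by omega) with rfl | rfl | hi
          · norm_num at hs
          · norm_num at hs
          · have := Nat.mul_le_mul_right m hi
            omega
    · have h4 : 4 ≤ 3 ^ r := le_trans (by norm_num) (Nat.pow_le_pow_right (by norm_num) hr.two_le)
      have hro : r % 2 = 1 := Nat.odd_iff.mp (hr.odd_of_ne_two hr2)
      refine minimal_of_data (hq ▸ h4) (fun _ _ => ?_) (fun s m hs hm => ?_)
      · rw [hq, (Nat.Coprime.pow_right r (show Nat.Coprime 5 3 by norm_num)).dvd_mul_left, ← pow_mul, mul_comm,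
          pow_mul]
        obtain ⟨l, rfl⟩ : ∃ l, r = 2 * l + 1 := ⟨r / 2, by omega⟩
        have : (3 ^ 2) ^ (2 * l + 1) % 5 = 4 := by
          rw [pow_succ, pow_mul, Nat.mul_mod, Nat.pow_mod]; norm_num
        generalize (3 ^ 2) ^ (2 * l + 1) = N at this ⊢
        omega
      · rw [hq] at hm
        rcases Nat.eq_zero_or_pos m with rfl | hm0
        · simp at hm; omega
        obtain ⟨i, -, rfl⟩ := (Nat.dvd_prime_pow Nat.prime_three).mp (hm ▸ dvd_pow_self s hm0.ne')
        rw [← pow_mul] at hm
        have him := Nat.pow_right_injective (by norm_num : 2 ≤ 3) hm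
        rcases (Nat.dvd_prime hr).mp (him ▸ dvd_mul_left m i) with h | h
        · exact Or.inl h
        · subst h
          rcases (show i = 0 ∨ i = 1 ∨ 2 ≤ i by omega) with rfl | rfl | hi
          · norm_num at hs
          · exact Or.inr ⟨rfl, hro⟩
          · have := Nat.mul_le_mul_right m hi
            omega
    · refine minimal_of_data (by omega) (fun _ _ h => ?_) (fun s m hs hm => Or.inl ?_)
      · rcases (Nat.Prime.dvd_mul (by norm_num : Nat.Prime 5)).mp h with h' | h'
        · omega
        · have hsq : Fintype.card F ^ 2 % 5 = 4 := by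
            rw [Nat.pow_mod]
            rcases h23 with h1 | h1 <;> rw [h1] <;> rfl
          omega
      · have hs' := eq_of_pow_eq_prime hq (by omega) hm
        subst hs'
        exact Nat.pow_right_injective (by omega) (hm.trans (pow_one _).symm)
    · refine minimal_of_data (by omega) (fun _ h => absurd hq h) (fun s m hs hm => Or.inl ?_)
      rw [hq] at hm
      have hs' := eq_of_pow_eq_prime (by norm_num : Nat.Prime 5) (by omega) hm
      subst hs'
      exact Nat.pow_right_injective (by omega) (hm.trans (pow_one _).symm)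

end Cfsg.Agent.S0810
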