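import Cfsg.Statements.S0819
import Cfsg.Agent.S2739

set_option linter.style.haveILetI false

set_option autoImplicit false
open Cfsg

namespace Cfsg.Agent.S0819

open Matrix Cfsg.Agent.S2739

/-- No element of PSL_3(4) has order 15. -/
theorem result {F : Type*} [Field F] [Fintype F] (hF : Fintype.card F = 4) (g : Matrix.ProjectiveSpecialLinearGroup (Fin 3) F) : orderOf g ≠ 15 := by
  classical
  intro hg
  obtain ⟨w, h0, h1⟩ := exists_omega hF
  obtain ⟨D, hD⟩ := exists_gen hF h0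
  have ha : orderOf (g ^ 5) = 3 := by rw [orderOf_pow, hg]; rfl
  obtain ⟨h, hh⟩ := psl_conj hF h0 h1 D hD _ ha
  set b := h⁻¹ * g ^ 3 * h with hb
  have hbord : orderOf b = 5 := by
    rw [hb, show h⁻¹ * g ^ 3 * h = MulAut.conj h⁻¹ (g ^ 3) by simp [MulAut.conj_apply], MulEquiv.orderOf_eq, orderOf_pow, hg]; rfl
  have hcomm : Commute (QuotientGroup.mk D : Matrix.ProjectiveSpecialLinearGroup (Fin 3) F) b := by
    rw [← hh, hb]
    show _ * _ = _ * _
    have := (Commute.pow_pow_self g 5 3).eq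
    calc h⁻¹ * g ^ 5 * h * (h⁻¹ * g ^ 3 * h) = h⁻¹ * (g ^ 5 * g ^ 3) * h := by group
      _ = h⁻¹ * (g ^ 3 * g ^ 5) * h := by rw [this]
      _ = _ := by group
  obtain ⟨B, hB⟩ := QuotientGroup.mk_surjective b
  rw [← hB] at hcomm hbord
  have hmem : (B * D)⁻¹ * (D * B) ∈ Subgroup.center (Matrix.SpecialLinearGroup (Fin 3) F) := by
    rw [← QuotientGroup.eq_one_iff, QuotientGroup.mk_mul, QuotientGroup.mk_inv, QuotientGroup.mk_mul, QuotientGroup.mk_mul,
      hcomm.eq, inv_mul_cancel]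
  set z := (B * D)⁻¹ * (D * B) with hz
  have hDB : D * B * D⁻¹ = B * z := by
    have hzc := Subgroup.mem_center_iff.1 hmem D
    calc D * B * D⁻¹ = B * (D * z) * D⁻¹ := by rw [hz]; group
      _ = B * (z * D) * D⁻¹ := by rw [hzc]
      _ = B * z := by group
  have hB5 : B ^ 5 ∈ Subgroup.center (Matrix.SpecialLinearGroup (Fin 3) F) := by
    rw [← QuotientGroup.eq_one_iff, QuotientGroup.mk_pow, ← hbord]; exact pow_orderOf_eq_one _
  have hz5 : z ^ 5 = 1 := by
    have h5 : (D * B * D⁻¹) ^ 5 = B ^ 5 := by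
      rw [conj_pow, Subgroup.mem_center_iff.1 hB5 D, mul_inv_cancel_right]
    have hc : Commute B z := Subgroup.mem_center_iff.1 hmem B
    rw [hDB, hc.mul_pow] at h5
    exact mul_eq_left.1 h5
  have hz3 : z ^ 3 = 1 := by
    obtain ⟨c, hc1, hc⟩ := Matrix.SpecialLinearGroup.mem_center_iff.1 hmem
    rw [Fintype.card_fin] at hc1
    refine Subtype.ext ?_
    rw [Matrix.SpecialLinearGroup.coe_pow, ← hc, ← map_pow, hc1, map_one]
    rfl
  have hz1 : z = 1 := by simpa using (pow_gcd_eq_one (m := 5) (n := 3)).2 ⟨hz5, hz3⟩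
  rw [hz1, mul_one] at hDB
  have hDB' : (D : Matrix (Fin 3) (Fin 3) F) * B = (B : Matrix (Fin 3) (Fin 3) F) * D := by
    have h9 : D * B = B * D := mul_inv_eq_iff_eq_mul.1 hDB
    rw [← Matrix.SpecialLinearGroup.coe_mul, ← Matrix.SpecialLinearGroup.coe_mul, h9]
  have hdiag : ∀ i j, i ≠ j → (B : Matrix (Fin 3) (Fin 3) F) i j = 0 := by
    intro i j hij
    have h2 := congrFun (congrFun hDB' i) j
    rw [hD, dd, Matrix.mul_diagonal, Matrix.diagonal_mul] at h2
    have hne : (![1, w, w ^ 2] : Fin 3 → F) i ≠ (![1, w, w ^ 2] : Fin 3 → F) j := by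
      have w2 : w ^ 2 ≠ 1 := fun e => h1 (by have := cube hF h0; rw [pow_succ, e, one_mul] at this; exact this)
      have w3 : w ≠ w ^ 2 := fun e => h1 (mul_left_cancel₀ h0 (by rw [mul_one, ← pow_two]; exact e.symm))
      revert hij; fin_cases i <;> fin_cases j <;> simp [Ne.symm h1, h1, w2, Ne.symm w2, w3, Ne.symm w3]
    have : ((![1, w, w ^ 2] : Fin 3 → F) i - (![1, w, w ^ 2] : Fin 3 → F) j) * (B : Matrix (Fin 3) (Fin 3) F) i j = 0 := by
      linear_combination h2
    exact (mul_eq_zero.1 this).resolve_left (sub_ne_zero.2 hne)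
  have hBd : (B : Matrix (Fin 3) (Fin 3) F) = Matrix.diagonal fun i => (B : Matrix (Fin 3) (Fin 3) F) i i := by
    ext i j
    by_cases h : i = j
    · subst h; simp
    · rw [Matrix.diagonal_apply_ne _ h]; exact hdiag i j h
  have hB3 : B ^ 3 = 1 := by
    have hdet : (B : Matrix (Fin 3) (Fin 3) F).det = 1 := B.2
    rw [hBd, Matrix.det_diagonal, Fin.prod_univ_three] at hdet
    refine Subtype.ext ?_
    rw [Matrix.SpecialLinearGroup.coe_pow, hBd, Matrix.diagonal_pow, Matrix.SpecialLinearGroup.coe_one, ← Matrix.diagonal_one]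
    congr 1
    funext i
    refine cube hF ?_
    have hi : i = 0 ∨ i = 1 ∨ i = 2 := by fin_cases i <;> simp
    have hm : (B : Matrix (Fin 3) (Fin 3) F) 0 0 ≠ 0 ∧ (B : Matrix (Fin 3) (Fin 3) F) 1 1 ≠ 0 ∧
        (B : Matrix (Fin 3) (Fin 3) F) 2 2 ≠ 0 := by
      refine ⟨fun h => ?_, fun h => ?_, fun h => ?_⟩ <;> exact one_ne_zero (hdet.symm.trans (by erw [h]; simp))
    rcases hi with rfl | rfl | rfl
    · exact hm.1
    · exact hm.2.1
    · exact hm.2.2
  have : (QuotientGroup.mk B : Matrix.ProjectiveSpecialLinearGroup (Fin 3) F) ^ 3 = 1 := by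
    rw [← QuotientGroup.mk_pow, hB3, QuotientGroup.mk_one]
  have := orderOf_dvd_of_pow_eq_one this
  rw [hbord] at this
  norm_num at this

end Cfsg.Agent.S0819
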