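import Cfsg.Statements.S0821
import Cfsg.Agent.Lib.Linear.SymplecticGroup
import Cfsg.Agent.Lib.Linear.OrthRootCentral
import Cfsg.Agent.Lib.Linear.OrthCenter
import Cfsg.Agent.Lib.Linear.OrthOrderStd
import Cfsg.Agent.Lib.Invol.BrauerFowler

set_option autoImplicit false
open Cfsg

namespace Cfsg.Agent.S0821

open Module Cfsg.Lib.Linear.Orth
open scoped Matrix

theorem center_map {G H : Type*} [Group G] [Group H] (e : G ≃* H) :
    (Subgroup.center G).map e.toMonoidHom = Subgroup.center H := by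
  ext h
  simp only [Subgroup.mem_map, Subgroup.mem_center_iff, MulEquiv.coe_toMonoidHom]
  constructor
  · rintro ⟨z, hz, rfl⟩ y
    rw [← e.apply_symm_apply y, ← map_mul, ← map_mul, hz]
  · intro hh
    exact ⟨e.symm h, fun y => e.injective (by rw [map_mul, map_mul, e.apply_symm_apply, hh]),
      e.apply_symm_apply h⟩

theorem card_class_equiv {G H : Type*} [Group G] [Group H] (e : G ≃* H) (x : G) :
    Nat.card {y : G // IsConj x y} = Nat.card {y : H // IsConj (e x) y} :=
  Nat.card_congr (e.toEquiv.subtypeEquiv fun y => by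
    constructor
    · exact fun h => e.toMonoidHom.map_isConj h
    · intro h
      have := e.symm.toMonoidHom.map_isConj h
      simpa using this)

theorem exists_small_class {F : Type*} [Field F] [Fintype F] (h2 : (2 : F) ≠ 0) {p m : ℕ}
    [CharP F p] (hm : 2 ≤ m) :
    ∃ x : Cfsg.Lib.Linear.Symp.iso (Cfsg.Lib.Linear.Symp.spB m F) ⧸ Subgroup.center _,
      x ^ p = 1 ∧ 2 * Nat.card {y // IsConj x y} = Fintype.card F ^ (2 * m) - 1 := by
  classical
  set BS := Cfsg.Lib.Linear.Symp.spB m F with hBS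
  have hB : BS.Nondegenerate := Cfsg.Lib.Linear.Symp.spB_nondegenerate m F
  have hA : BS.IsAlt := Cfsg.Lib.Linear.Symp.spB_isAlt m F
  let t := Cfsg.Lib.Linear.Symp.tvG (B := BS) hA
  let π := QuotientGroup.mk' (Subgroup.center (Cfsg.Lib.Linear.Symp.iso BS))
  let v0 : Fin m ⊕ Fin m → F := Pi.single (Sum.inl ⟨0, by omega⟩) 1
  have hv0 : v0 ≠ 0 := by simp [v0]
  refine ⟨π (t v0 1), ?_, ?_⟩
  · have hk : ∀ k : ℕ, t v0 1 ^ k = t v0 (k : F) := fun k => by
      induction k with
      | zero =>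
        rw [pow_zero, Nat.cast_zero]
        exact Subtype.ext (Cfsg.Lib.Linear.Symp.tv_zero hA v0).symm
      | succ k ih =>
        rw [pow_succ, ih, Nat.cast_succ]
        exact (Cfsg.Lib.Linear.Symp.tvG_add hA v0 _ _).symm
    rw [← map_pow, hk, CharP.cast_eq_zero]
    exact (congrArg π (Subtype.ext (Cfsg.Lib.Linear.Symp.tv_zero hA v0) : t v0 0 = 1)).trans (map_one π)
  haveI : Finite ((Fin m ⊕ Fin m → F) ≃ₗ[F] (Fin m ⊕ Fin m → F)) :=
    Finite.of_injective (fun g => ⇑g) DFunLike.coe_injective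
  let V0 := {v : Fin m ⊕ Fin m → F // v ≠ 0}
  have hconj : ∀ v : V0, IsConj (π (t v0 1)) (π (t v.1 1)) := fun v => by
    obtain ⟨g, hg, hgv⟩ := Cfsg.Lib.Linear.Symp.exists_iso_vec hB hA hv0 v.2
    refine π.map_isConj (isConj_iff.mpr ⟨⟨g, Cfsg.Lib.Linear.Symp.T_le_iso hA ⊥ hg⟩, Subtype.ext ?_⟩)
    show g * Cfsg.Lib.Linear.Symp.tv hA v0 1 * g⁻¹ = Cfsg.Lib.Linear.Symp.tv hA v.1 1
    rw [Cfsg.Lib.Linear.Symp.tv_conj hA (Cfsg.Lib.Linear.Symp.T_le_iso hA ⊥ hg), hgv]
  let φ : V0 → {y // IsConj (π (t v0 1)) y} := fun v => ⟨_, hconj v⟩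
  have hsurj : Function.Surjective φ := by
    rintro ⟨y, hy⟩
    obtain ⟨g, rfl⟩ := isConj_iff.mp hy
    obtain ⟨g, rfl⟩ := QuotientGroup.mk'_surjective _ g
    refine ⟨⟨(g : (Fin m ⊕ Fin m → F) ≃ₗ[F] (Fin m ⊕ Fin m → F)) v0, by simp [hv0]⟩, Subtype.ext ?_⟩
    show π (t _ 1) = π g * π (t v0 1) * (π g)⁻¹
    rw [← map_inv, ← map_mul, ← map_mul]
    refine congrArg π (Subtype.ext ?_)
    exact (Cfsg.Lib.Linear.Symp.tv_conj hA g.2 v0 1).symm
  have hfib : ∀ v w : V0, φ v = φ w ↔ (v.1 = w.1 ∨ v.1 = -w.1) := by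
    intro v w
    constructor
    · intro h
      have h1 : (t v.1 1)⁻¹ * t w.1 1 ∈ Subgroup.center _ :=
        QuotientGroup.eq.mp (congrArg Subtype.val h)
      obtain ⟨a, -, hz⟩ := (Cfsg.Lib.Linear.Symp.mem_center_iff_smul hB hA _).mp h1
      have hall : ∀ y, y + (1 * BS y w.1) • w.1 = a • (y + (1 * BS y v.1) • v.1) := fun y => by
        have h3 : Cfsg.Lib.Linear.Symp.tv hA w.1 1 y =
            Cfsg.Lib.Linear.Symp.tv hA v.1 1 (a • y) := by
          rw [← hz y]
          show _ = Cfsg.Lib.Linear.Symp.tv hA v.1 1 ((Cfsg.Lib.Linear.Symp.tv hA v.1 1)⁻¹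
            (Cfsg.Lib.Linear.Symp.tv hA w.1 1 y))
          rw [← LinearEquiv.mul_apply, mul_inv_cancel]
          rfl
        rw [map_smul] at h3
        exact h3
      obtain ⟨y, hy, hy0⟩ : ∃ y, (BS y v.1 = 0 ∧ BS y w.1 = 0) ∧ y ≠ 0 := by
        obtain ⟨y, hy, hy0⟩ := Submodule.exists_mem_ne_zero_of_ne_bot
          (p := LinearMap.ker ((BS.flip v.1).prod (BS.flip w.1))) (fun h => by
            have h1 := LinearMap.finrank_range_add_finrank_ker ((BS.flip v.1).prod (BS.flip w.1))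
            have h2 := Submodule.finrank_le (LinearMap.range ((BS.flip v.1).prod (BS.flip w.1)))
            rw [h, finrank_bot, Cfsg.Lib.Linear.Symp.finrank_space] at h1
            rw [Module.finrank_prod, Module.finrank_self] at h2
            omega)
        rw [LinearMap.mem_ker, LinearMap.prod_apply, Prod.ext_iff] at hy
        exact ⟨y, ⟨hy.1, hy.2⟩, hy0⟩
      have ha : a = 1 := by
        have := hall y
        rw [hy.1, hy.2, mul_zero, zero_smul, zero_smul, add_zero] at this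
        exact smul_left_injective F hy0 (show a • y = (1 : F) • y by rw [one_smul]; exact this.symm)
      subst ha
      obtain ⟨z, hz'⟩ := Cfsg.Lib.Linear.Symp.exists_apply_ne_zero hB w.2
      have hzw := hall z
      rw [one_smul, one_mul, one_mul, add_right_inj] at hzw
      have hv' : ∃ s : F, w.1 = s • v.1 :=
        ⟨(BS z w.1)⁻¹ * BS z v.1, by rw [← smul_smul, ← hzw, inv_smul_smul₀ hz']⟩
      obtain ⟨s, hs⟩ := hv'
      obtain ⟨z, hz'⟩ := Cfsg.Lib.Linear.Symp.exists_apply_ne_zero hB v.2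
      have hzv := hall z
      rw [one_smul, one_mul, one_mul, add_right_inj, hs, map_smul, smul_eq_mul, smul_smul] at hzv
      have h5 := smul_left_injective F v.2 hzv
      have h6 : s * s = 1 := mul_right_cancel₀ hz' (by linear_combination h5)
      rcases mul_self_eq_one_iff.mp h6 with h7 | h7
      · exact Or.inl (by rw [hs, h7, one_smul])
      · exact Or.inr (by rw [hs, h7, neg_one_smul, neg_neg])
    · intro h
      refine Subtype.ext (congrArg π (Subtype.ext ?_))
      show Cfsg.Lib.Linear.Symp.tv hA v.1 1 = Cfsg.Lib.Linear.Symp.tv hA w.1 1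
      rcases h with h | h
      · rw [h]
      · rw [h, ← neg_one_smul F w.1, Cfsg.Lib.Linear.Symp.tv_smul, neg_one_sq, one_mul]
  have := Fintype.ofFinite {y // IsConj (π (t v0 1)) y}
  have htot := Finset.card_eq_sum_card_fiberwise (f := φ) (s := Finset.univ) (t := Finset.univ)
    (fun v _ => Finset.mem_univ _)
  have h2c : ∀ y, (Finset.univ.filter fun v => φ v = y).card = 2 := by
    intro y
    obtain ⟨w, rfl⟩ := hsurj y
    rw [show (Finset.univ.filter fun v => φ v = φ w) = {w, ⟨-w.1, neg_ne_zero.mpr w.2⟩} by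
      ext v
      simp only [Finset.mem_filter, Finset.mem_univ, true_and, hfib, Finset.mem_insert,
        Finset.mem_singleton]
      exact or_congr Subtype.ext_iff.symm (Subtype.ext_iff (a2 := ⟨-w.1, neg_ne_zero.mpr w.2⟩)).symm]
    refine Finset.card_pair fun h => w.2 ?_
    have h' : w.1 = -w.1 := congrArg Subtype.val h
    have : (2 : F) • w.1 = 0 := by rw [two_smul]; nth_rewrite 1 [h']; exact neg_add_cancel _
    exact (smul_eq_zero.mp this).resolve_left h2
  rw [Finset.sum_congr rfl fun y _ => h2c y, Finset.sum_const, Finset.card_univ, Finset.card_univ,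
    smul_eq_mul, mul_comm, ← Nat.card_eq_fintype_card (α := {y // IsConj (π (t v0 1)) y}),
    Fintype.card_subtype_compl, Fintype.card_subtype_eq, Fintype.card_fun, Fintype.card_sum,
    Fintype.card_fin, ← two_mul] at htot
  exact htot.symm

theorem no_small_class {F : Type*} [Field F] [Fintype F] {m : ℕ}
    {Q : (Unit ⊕ (Fin m ⊕ Fin m) → F) → F} (hQ : Q = Cfsg.quadFormOdd m F)
    {B : LinearMap.BilinForm F (Unit ⊕ (Fin m ⊕ Fin m) → F)}
    (C : Space Q B) (h2 : (2 : F) ≠ 0)
    (h7 : 7 ≤ Fintype.card (Unit ⊕ (Fin m ⊕ Fin m))) {p : ℕ} [hp : Fact p.Prime] [CharP F p]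
    (hpodd : Odd p) (hm : 3 ≤ m) (x : ↥(Cfsg.Omega F Q)) (hxp : x ^ p = 1)
    (hcard : 2 * Nat.card {y // IsConj x y} = Fintype.card F ^ (2 * m) - 1) : False := by
  classical
  set q := Fintype.card F with hq
  have hq3 : 3 ≤ q := by
    have h1 := Fintype.one_lt_card (α := F)
    have h3 := card_ne_two h2
    omega
  -- a Sylow subgroup centralises `x`
  haveI : Nonempty {y // IsConj x y} := ⟨⟨x, IsConj.refl x⟩⟩
  set Z := Subgroup.centralizer ({x} : Set ↥(Cfsg.Omega F Q)) with hZdef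
  have hmul := Cfsg.Lib.Invol.card_conj_mul_centralizer x
  have hqp : p ∣ q := by
    rw [← CharP.cast_eq_zero_iff F p]
    exact FiniteField.cast_card_eq_zero F
  have hndvd : ¬ p ∣ Nat.card {y // IsConj x y} := fun h => by
    have h1 : p ∣ q ^ (2 * m) - 1 := hcard ▸ h.mul_left 2
    have h2' : p ∣ q ^ (2 * m) := dvd_pow hqp (by omega)
    have h3 := Nat.dvd_sub h2' h1
    rw [Nat.sub_sub_self (Nat.one_le_pow _ _ (by omega))] at h3
    exact hp.out.ne_one (Nat.dvd_one.mp h3)
  obtain ⟨R⟩ := (inferInstance : Nonempty (Sylow p Z))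
  have hRcard : Nat.card ↥((R : Subgroup Z).map Z.subtype) =
      p ^ (Nat.card ↥(Cfsg.Omega F Q)).factorization p := by
    rw [Subgroup.card_map_of_injective Z.subtype_injective, R.card_eq_multiplicity, ← hmul,
      Nat.factorization_mul Nat.card_pos.ne' Nat.card_pos.ne', Finsupp.add_apply,
      Nat.factorization_eq_zero_of_not_dvd hndvd, zero_add]
  set P : Sylow p ↥(Cfsg.Omega F Q) := Sylow.ofCard _ hRcard
  -- two root groups
  have hmq : sgCount Q (⊤ : Submodule F _) = (q : ℤ) ^ (2 * m) := by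
    have h := (counts_odd (F := F) h2 m).1 (by omega)
    rw [show 1 + m - 1 = m by omega, Nat.card_eq_fintype_card (α := F)] at h
    rw [sgCount, Nat.card_congr (Equiv.subtypeEquivRight (q := fun v => Q v = 0)
      fun v => by simp), hQ, h]
    ring
  obtain ⟨e1, f1, H1⟩ := exists_hyp' C C.ndeg_top
    (by rw [finrank_top, finrank_fintype_fun_eq_card]; omega)
  obtain ⟨e2, f2, H2⟩ := exists_hyp' C (H1.ndeg C C.ndeg_top)
    (by have := H1.le_finrank C; rw [finrank_top, finrank_fintype_fun_eq_card] at this; omega)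
  obtain ⟨U, hUR, hUp, hU1, hU2⟩ := exists_two_root_group C (p := p) H1 H2
  let f : ↥(Cfsg.Omega F Q) →* GL (Unit ⊕ (Fin m ⊕ Fin m)) F :=
    (isometryGroup F Q).subtype.comp (Cfsg.Omega F Q).subtype
  have hf : Function.Injective f := fun a b e => Subtype.ext (Subtype.ext e)
  have hrange : f.range = Root Q B ⊤ := by
    rw [← omegaGL_eq C (by omega)]
    show MonoidHom.range _ = (Cfsg.Omega F Q).map _
    rw [MonoidHom.range_comp, Subgroup.range_subtype]
  have mem : ∀ g ∈ Root Q B ⊤, ∃ y, f y = g := fun g hg => by rw [← hrange] at hg; exact hg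
  have hU' : IsPGroup p (U.comap f) := hUp.comap_of_injective f hf
  obtain ⟨P', hP'⟩ := hU'.exists_le_sylow
  obtain ⟨g, hg⟩ := MulAction.exists_smul_eq ↥(Cfsg.Omega F Q) P P'
  set z := g * x * g⁻¹ with hz
  have hcomm : ∀ u ∈ U, Commute (f z) u := by
    intro u hu
    obtain ⟨y, rfl⟩ := mem u (hUR hu)
    have hy : y ∈ P' := hP' hu
    rw [← hg] at hy
    obtain ⟨w, hw, rfl⟩ := hy
    have hwZ : w ∈ Z := by
      obtain ⟨w', -, rfl⟩ : w ∈ (R : Subgroup Z).map Z.subtype := hw
      exact w'.2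
    have hwx : w * x = x * w := Subgroup.mem_centralizer_singleton_iff.mp hwZ
    refine Commute.map ?_ f
    show z * (g * w * g⁻¹) = (g * w * g⁻¹) * z
    rw [hz, show g * x * g⁻¹ * (g * w * g⁻¹) = g * (x * w) * g⁻¹ by group,
      show g * w * g⁻¹ * (g * x * g⁻¹) = g * (w * x) * g⁻¹ by group, hwx]
  have hzp : f z ^ p = 1 := by
    rw [← map_pow, hz, conj_pow, hxp, mul_one, mul_inv_cancel, map_one]
  obtain ⟨c, hc⟩ := eq_root_of_commute C h7 hpodd h2
    (show f z ∈ isometryGroup F Q from (z : ↥(isometryGroup F Q)).2) hzp H1 H2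
    (fun a ha => hcomm _ (hU1 a ha)) (fun b h1 h2' => hcomm _ (hU2 b h1 h2'))
  have hpow : 9 ≤ q ^ (2 * m) :=
    calc 9 ≤ q ^ 2 := by nlinarith
      _ ≤ q ^ (2 * m) := Nat.pow_le_pow_right (by omega) (by omega)
  have hc0 : c ≠ 0 := fun h => by
    have hz1 : f z = 1 := hc.trans (gl_ext fun y => by
      rw [h, zero_smul, sGL_act C H1.singE (map_zero _), C.zero]; simp)
    have hx1 : x = 1 := conj_eq_one_iff.mp (hf (hz1.trans (map_one f).symm))
    subst hx1
    have : Nat.card {y : ↥(Cfsg.Omega F Q) // IsConj 1 y} = 1 := by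
      rw [Nat.card_eq_one_iff_unique]
      exact ⟨⟨fun a b => Subtype.ext ((isConj_one_right.mp a.2).trans (isConj_one_right.mp b.2).symm)⟩,
        ⟨⟨1, IsConj.refl 1⟩⟩⟩
    omega
  obtain ⟨-, h12, hf12⟩ := mem_perp2.mp H2.memE
  have ne0 : ∀ {U' : Submodule F (Unit ⊕ (Fin m ⊕ Fin m) → F)} {a b}, Hyp Q B U' a b → a ≠ 0 :=
    fun h h0 => by
      have := h.pair; rw [h0, map_zero, LinearMap.zero_apply] at this; exact zero_ne_one this
  have hX := root_class_bound C (f '' {y | IsConj x y}) (fun e w he0 he hw hew hind => by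
      have hce : B e1 (c • e2) = 0 := by rw [map_smul, h12, smul_zero]
      obtain ⟨k, hk, hk2⟩ := line_trans C h7 (w := c • e2) (ne0 H1) H1.singE
        (by rw [C.smul, H2.singE, mul_zero]) hce (fun hmem => by
          obtain ⟨s, hs⟩ := Submodule.mem_span_singleton.mp hmem
          have h3 := congrArg (B f1) hs
          rw [map_smul, map_smul, H1.pair' C, hf12, smul_zero, smul_eq_mul, mul_one] at h3
          rw [h3, zero_smul, eq_comm, smul_eq_zero] at hs
          exact hs.elim hc0 (ne0 H2)) he0 he hw hew hind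
      obtain ⟨k, rfl⟩ := mem k hk
      refine ⟨k * z * k⁻¹, isConj_iff.mpr ⟨k * g, by rw [hz]; group⟩, ?_⟩
      rw [map_mul, map_mul, map_inv, hc, hk2]) ((q : ℤ) ^ (2 * m - 2)) (fun e f' H => by
    obtain ⟨k, rfl⟩ : ∃ k, m = k + 1 := ⟨m - 1, by omega⟩
    have h1 := sgCount_step C H
    have h3 := card_step C H
    rw [hmq, Nat.card_eq_fintype_card (α := F), ← hq] at h1
    rw [Nat.card_congr (Equiv.subtypeUnivEquiv (p := fun v => v ∈ (⊤ : Submodule F
        (Unit ⊕ (Fin (k + 1) ⊕ Fin (k + 1)) → F))) fun v => trivial),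
      Nat.card_fun, Nat.card_eq_fintype_card (α := F), Nat.card_eq_fintype_card,
      card_odd_index, ← hq] at h3
    push_cast at h3
    have hq0 : (q : ℤ) ≠ 0 := by exact_mod_cast (by omega : q ≠ 0)
    have hW : (Nat.card ↥(perp2 B ⊤ e f') : ℤ) = (q : ℤ) ^ (2 * k + 1) :=
      mul_left_cancel₀ (pow_ne_zero 2 hq0) (by rw [← h3]; ring)
    rw [hW] at h1
    rw [show 2 * (k + 1) - 2 = 2 * k by omega]
    exact mul_left_cancel₀ hq0 (by linear_combination -h1))
  rw [hmq, Nat.card_image_of_injective hf, Nat.card_eq_fintype_card (α := F), ← hq] at hX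
  have hcz : (2 : ℤ) * (Nat.card ↥{y | IsConj x y} : ℕ) = (q : ℤ) ^ (2 * m) - 1 := by
    rw [show ((q : ℤ) ^ (2 * m) - 1) = ((q ^ (2 * m) - 1 : ℕ) : ℤ) by
      rw [Nat.cast_sub (Nat.one_le_pow _ _ (by omega))]; push_cast; rfl, ← hcard]
    push_cast
    rfl
  have h4 : (q : ℤ) ^ 4 ≤ (q : ℤ) ^ (2 * m - 2) :=
    pow_le_pow_right₀ (by exact_mod_cast (by omega : 1 ≤ q)) (by omega)
  have h9 : (9 : ℤ) ≤ (q : ℤ) ^ (2 * m) := by exact_mod_cast hpow
  have h3 : (3 : ℤ) ≤ (q : ℤ) := by exact_mod_cast hq3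
  have h81 : (81 : ℤ) ≤ (q : ℤ) ^ 4 := by
    calc (81 : ℤ) = 3 ^ 4 := by norm_num
      _ ≤ _ := pow_le_pow_left₀ (by norm_num) h3 4
  nlinarith

/-- PSp_2m(q) ≇ PΩ_(2m+1)(q) for q odd and m ≥ 3 (they have the same order). -/
theorem result {F : Type*} [Field F] [Fintype F] (hodd : Odd (Fintype.card F)) (m : ℕ) (hm : 3 ≤ m) : IsEmpty (Cfsg.PSp m F ≃* Cfsg.POmega F (Cfsg.quadFormOdd m F)) := by
  classical
  refine ⟨fun Φ0 => ?_⟩
  have h2 : (2 : F) ≠ 0 := Cfsg.Lib.Linear.Orth.two_ne_zero_of_odd_card hodd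
  obtain ⟨p, hchar⟩ := CharP.exists F
  haveI := hchar
  haveI hp : Fact p.Prime := ⟨CharP.char_is_prime F p⟩
  have hpodd : Odd p := hp.out.odd_of_ne_two fun h => h2 (by
    have := CharP.cast_eq_zero F p
    rw [h] at this
    exact_mod_cast this)
  -- a transvection class in the symplectic group
  obtain ⟨x, hxp, hxcard⟩ := exists_small_class (F := F) h2 (p := p) (m := m) (by omega)
  set Φ := (QuotientGroup.congr _ _ Cfsg.Lib.Linear.Symp.spEquiv (center_map _)).symm.trans Φ0
  -- the orthogonal side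
  obtain ⟨B, C⟩ := exists_space (isQuad_odd (F := F) m h2)
  have h7 : 7 ≤ Fintype.card (Unit ⊕ (Fin m ⊕ Fin m)) := by rw [card_odd_index]; omega
  have hZ : Subgroup.center ↥(Cfsg.Omega F (Cfsg.quadFormOdd m F)) = ⊥ := by
    refine eq_bot_iff.mpr fun z hz => Subgroup.mem_bot.mpr ?_
    rcases omega_center_pm C h7 hz with h | h
    · exact Subtype.ext (Subtype.ext (Units.ext h))
    · exfalso
      have hd : (((z : ↥(isometryGroup F (Cfsg.quadFormOdd m F)))) :
          GL (Unit ⊕ (Fin m ⊕ Fin m)) F).val.det = 1 := by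
        have hle : Cfsg.Omega F (Cfsg.quadFormOdd m F) ≤
            (Matrix.GeneralLinearGroup.det.comp
              (isometryGroup F (Cfsg.quadFormOdd m F)).subtype).ker :=
          Abelianization.commutator_subset_ker _
        exact congrArg Units.val (hle z.2)
      rw [h, Matrix.det_neg, Matrix.det_one, card_odd_index,
        (odd_two_mul_add_one m).neg_one_pow, mul_one] at hd
      exact h2 (by linear_combination -hd)
  let e : ↥(Cfsg.Omega F (Cfsg.quadFormOdd m F)) ≃* Cfsg.POmega F (Cfsg.quadFormOdd m F) :=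
    MulEquiv.ofBijective (QuotientGroup.mk' _)
      ⟨(injective_iff_map_eq_one _).mpr fun z hz =>
        Subgroup.mem_bot.mp (hZ ▸ (QuotientGroup.eq_one_iff z).mp hz),
        QuotientGroup.mk'_surjective _⟩
  let Ψ := Φ.trans e.symm
  exact no_small_class rfl C h2 h7 (p := p) hpodd hm (Ψ x)
    (by rw [← map_pow, hxp, map_one])
    (by rw [← card_class_equiv Ψ x]; exact hxcard)

end Cfsg.Agent.S0821
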