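import Cfsg.Statements.S0823
import Cfsg.Agent.Lib.Linear.OrthOrderStd

set_option linter.style.haveILetI false

set_option autoImplicit false
open Cfsg

namespace Cfsg.Agent.S0823

abbrev I3 := Unit ⊕ (Fin 1 ⊕ Fin 1)

abbrev M3 := Matrix I3 I3 (ZMod 3)

def bu : Fin 4 → ZMod 3 := ![1, 2, 0, 0]

def be : Fin 4 → ZMod 3 := ![1, 1, 1, 0]

def bf : Fin 4 → ZMod 3 := ![2, 2, 0, 2]

/-- The basis of the sum-zero space. -/
def basis4 : I3 → Fin 4 → ZMod 3 := Sum.elim (fun _ => bu) (Sum.elim (fun _ => be) (fun _ => bf))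

/-- The coordinates. -/
def coord4 (v : Fin 4 → ZMod 3) : I3 → ZMod 3 :=
  Sum.elim (fun _ => 2 * (bu ⬝ᵥ v)) (Sum.elim (fun _ => bf ⬝ᵥ v) (fun _ => be ⬝ᵥ v))

/-- The twisted permutation matrix. -/
def mat4 (σ : Equiv.Perm (Fin 4)) : M3 :=
  Matrix.of fun i j => ((Equiv.Perm.sign σ : ℤ) : ZMod 3) * coord4 (basis4 j ∘ σ.symm) i

theorem mat4_det : ∀ σ, (mat4 σ).det = 1 := by
  unfold mat4 coord4 basis4
  decide +kernel

theorem mat4_mul : ∀ σ τ, mat4 σ * mat4 τ = mat4 (σ * τ) := by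
  decide +kernel

theorem mat4_one : mat4 1 = 1 := by decide +kernel

theorem mat4_form : ∀ σ, ∀ v : I3 → ZMod 3,
    Cfsg.quadFormOdd 1 (ZMod 3) ((mat4 σ).mulVec v) = Cfsg.quadFormOdd 1 (ZMod 3) v := by
  decide +kernel

theorem mat4_ker : ∀ σ, mat4 σ = 1 → σ = 1 := by decide +kernel

theorem two_ne : ¬ (2 : ZMod 3) = 0 := by decide

theorem quad_map {K F : Type*} [Field K] [Field F] (φ : K →+* F) (v : I3 → K) :
    Cfsg.quadFormOdd 1 F (fun i => φ (v i)) = φ (Cfsg.quadFormOdd 1 K v) := by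
  simp [Cfsg.quadFormOdd, map_sum]

/-- SO_3(3) ≅ S_4: the determinant-one isometries of the form x_0² + x_1y_1 over the field with 3 elements form a group isomorphic to the symmetric group on 4 letters. -/
theorem result {F : Type*} [Field F] [Fintype F] (hF : Fintype.card F = 3) : Nonempty (↥(Cfsg.specialIsometryGroup F (Cfsg.quadFormOdd 1 F)) ≃* Equiv.Perm (Fin 4)) := by
  classical
  haveI : Fact (Nat.Prime 3) := ⟨by norm_num⟩
  let φ := ZMod.ringEquivOfPrime F Nat.prime_three hF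
  let M : Equiv.Perm (Fin 4) →* Matrix I3 I3 F :=
    { toFun := fun σ => φ.toRingHom.mapMatrix (mat4 σ)
      map_one' := by rw [mat4_one, map_one]
      map_mul' := fun σ τ => by rw [← mat4_mul, map_mul] }
  let G := M.toHomUnits
  have hM : ∀ σ, ((G σ : GL I3 F) : Matrix I3 I3 F) = φ.toRingHom.mapMatrix (mat4 σ) := fun σ => rfl
  have hmem : ∀ σ, G σ ∈ Cfsg.isometryGroup F (Cfsg.quadFormOdd 1 F) := by
    intro σ v _
    show Cfsg.quadFormOdd 1 F (((G σ : GL I3 F) : Matrix I3 I3 F).mulVec v) = Cfsg.quadFormOdd 1 F v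
    obtain ⟨w, rfl⟩ : ∃ w : I3 → ZMod 3, v = fun i => φ (w i) := ⟨fun i => φ.symm (v i), by funext i; simp⟩
    have h : ((G σ : GL I3 F) : Matrix I3 I3 F).mulVec (fun i => φ (w i)) = fun i => φ ((mat4 σ).mulVec w i) := by
      funext i
      rw [hM]
      exact (RingHom.map_mulVec φ.toRingHom (mat4 σ) w i).symm
    rw [h]
    show Cfsg.quadFormOdd 1 F (fun i => φ.toRingHom ((mat4 σ).mulVec w i)) = Cfsg.quadFormOdd 1 F (fun i => φ.toRingHom (w i))
    rw [quad_map, quad_map, mat4_form]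
  let f := (G.codRestrict _ hmem).codRestrict (Cfsg.specialIsometryGroup F (Cfsg.quadFormOdd 1 F)) (fun σ => by
    refine MonoidHom.mem_ker.2 (Units.ext ?_)
    show ((G σ : GL I3 F) : Matrix I3 I3 F).det = 1
    rw [hM, ← RingHom.map_det, mat4_det, map_one])
  have hinj : Function.Injective f := by
    rw [injective_iff_map_eq_one]
    intro σ h
    apply mat4_ker
    have h' : φ.toRingHom.mapMatrix (mat4 σ) = 1 :=
      congrArg (fun g : ↥(Cfsg.specialIsometryGroup F (Cfsg.quadFormOdd 1 F)) => ((g.1.1 : GL I3 F) : Matrix I3 I3 F)) h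
    ext i j
    apply φ.injective
    have := congrFun (congrFun h' i) j
    rw [show φ ((1 : M3) i j) = φ.toRingHom.mapMatrix (1 : M3) i j from rfl, map_one]
    exact this
  have h2 : (2 : F) ≠ 0 := by
    intro h
    have : (2 : ZMod 3) = 0 := φ.injective (by rw [map_ofNat, h, map_zero])
    exact two_ne this
  have hcard : Nat.card ↥(Cfsg.isometryGroup F (Cfsg.quadFormOdd 1 F)) = 48 := by
    have h := (Cfsg.Lib.Linear.Orth.counts_odd (F := F) h2 1).2.2
    rw [show Nat.card F = 3 by rw [Nat.card_eq_fintype_card, hF]] at h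
    simp at h
    rw [Nat.card_eq_fintype_card]
    exact_mod_cast h
  have hle : Nat.card ↥(Cfsg.specialIsometryGroup F (Cfsg.quadFormOdd 1 F)) ≤ 24 := by
    have hneg : (-1 : GL I3 F) ∈ Cfsg.isometryGroup F (Cfsg.quadFormOdd 1 F) := by
      intro v _
      show Cfsg.quadFormOdd 1 F ((-1 : Matrix I3 I3 F).mulVec v) = Cfsg.quadFormOdd 1 F v
      simp [Cfsg.quadFormOdd, Matrix.neg_mulVec]
    have hne : Cfsg.specialIsometryGroup F (Cfsg.quadFormOdd 1 F) ≠ ⊤ := by
      intro h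
      have hm : (⟨-1, hneg⟩ : ↥(Cfsg.isometryGroup F (Cfsg.quadFormOdd 1 F))) ∈
          Cfsg.specialIsometryGroup F (Cfsg.quadFormOdd 1 F) := h ▸ Subgroup.mem_top _
      have h1 : ((-1 : GL I3 F) : Matrix I3 I3 F).det = 1 := congrArg Units.val (MonoidHom.mem_ker.1 hm)
      rw [Units.val_neg, Units.val_one, Matrix.det_neg, Matrix.det_one, mul_one] at h1
      norm_num at h1
      exact h2 (by linear_combination -h1)
    have hm := (Cfsg.specialIsometryGroup F (Cfsg.quadFormOdd 1 F)).card_mul_index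
    rw [hcard] at hm
    have h1 : (Cfsg.specialIsometryGroup F (Cfsg.quadFormOdd 1 F)).index ≠ 1 := mt Subgroup.index_eq_one.1 hne
    have h0 : (Cfsg.specialIsometryGroup F (Cfsg.quadFormOdd 1 F)).index ≠ 0 := by intro h0; rw [h0] at hm; simp at hm
    have h2' : 2 ≤ (Cfsg.specialIsometryGroup F (Cfsg.quadFormOdd 1 F)).index := by omega
    nlinarith
  have h24 : Nat.card (Equiv.Perm (Fin 4)) = 24 := by rw [Nat.card_perm, Nat.card_fin]; rfl
  exact ⟨(MulEquiv.ofBijective f ((Nat.bijective_iff_injective_and_card f).2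
    ⟨hinj, le_antisymm (Nat.card_le_card_of_injective f hinj) (hle.trans h24.ge)⟩)).symm⟩

end Cfsg.Agent.S0823
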