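import Cfsg.Statements.S0824
import Cfsg.Agent.Lib.Linear.PermOrth
import Cfsg.Agent.Lib.Linear.OrthOrderStd

set_option autoImplicit false
open Cfsg

namespace Cfsg.Agent.S0824

open Cfsg.Lib.Linear.PermModule

def e5 : Fin 2 → Fin 5 → ZMod 2 := ![![1, 1, 1, 1, 0], ![0, 1, 1, 0, 0]]
def f5 : Fin 2 → Fin 5 → ZMod 2 := ![![0, 1, 1, 1, 1], ![0, 0, 1, 1, 0]]

def sigma5 : (Fin 1 ⊕ Fin 1) ⊕ Fin 2 ≃ Fin 2 ⊕ Fin 2 where
  toFun := Sum.elim (Sum.elim (fun _ => .inl 0) (fun _ => .inr 0)) ![.inl 1, .inr 1]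
  invFun := Sum.elim ![.inl (.inl 0), .inr 0] ![.inl (.inr 0), .inr 1]
  left_inv := by decide
  right_inv := by decide

theorem good5 : Good e5 f5 (0 : Fin 5 → ZMod 2) := by
  refine ⟨by decide, by decide, by decide, by decide, by decide, Or.inl rfl, map_zero _, ?_⟩
  unfold pr sec
  decide

theorem key5 : ∀ y : Fin 2 ⊕ Fin 2 → ZMod 2,
    y (.inl 0) * y (.inr 0) + (y (.inl 1) ^ 2 + 1 * y (.inl 1) * y (.inr 1) + 1 * y (.inr 1) ^ 2) =
      halfWeight (sec e5 f5 y) := by
  unfold sec halfWeight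
  decide

theorem minus_four {F : Type*} [Field F] [Fintype F] (hF : Fintype.card F = 2) :
    Nonempty (↥(Cfsg.isometryGroup F (Cfsg.quadFormMinus 1 F 1 1)) ≃* Equiv.Perm (Fin 5)) := by
  classical
  let φ := ZMod.ringEquivOfPrime F Nat.prime_two hF
  have hmem : ∀ g, good5.homF φ sigma5 g ∈ Cfsg.isometryGroup F (Cfsg.quadFormMinus 1 F 1 1) :=
    good5.homF_mem φ sigma5 halfWeight (fun v _ => by rw [add_zero]) halfWeight_perm _ fun y => by
      rw [← key5 y]
      simp only [map_add, map_mul, map_pow, map_one]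
      simp [Cfsg.quadFormMinus, sigma5]
  have hcard := (Cfsg.Lib.Linear.Orth.counts_minus (F := F) (a := 1) (b := 1) 1 (fun z₁ z₂ h => by
    obtain ⟨a, rfl⟩ := φ.surjective z₁
    obtain ⟨b, rfl⟩ := φ.surjective z₂
    have h' : a ^ 2 + 1 * a * b + 1 * b ^ 2 = 0 := φ.injective (by
      simp only [map_add, map_mul, map_pow, map_one, map_zero]; exact h)
    have : ∀ a b : ZMod 2, a ^ 2 + 1 * a * b + 1 * b ^ 2 = 0 → a = 0 ∧ b = 0 := by decide
    obtain ⟨ha, hb⟩ := this a b h'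
    rw [ha, hb]; simp)).2.2
  obtain ⟨u⟩ := equiv_of_card ((good5.homF φ sigma5).codRestrict _ hmem)
    (fun g h e => good5.homF_injective (by simp) φ sigma5 (congrArg Subtype.val e)) (by
      have h2 : Nat.card F = 2 := by rw [Nat.card_eq_fintype_card, hF]
      rw [h2] at hcard
      norm_num at hcard
      rw [Nat.card_perm, Nat.card_fin]
      simp [Nat.factorial]
      omega)
  exact ⟨u⟩

/-- O⁻_4(2) ≅ S_5: the isometry group of the form x y + z_1² + z_1 z_2 + z_2² over the field with 2 elements is isomorphic to the symmetric group on 5 letters. -/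
theorem result {F : Type*} [Field F] [Fintype F] (hF : Fintype.card F = 2) : Nonempty (↥(Cfsg.isometryGroup F (Cfsg.quadFormMinus 1 F 1 1)) ≃* Equiv.Perm (Fin 5)) := by
  classical
  exact minus_four hF

end Cfsg.Agent.S0824
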