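import Cfsg.Statements.S0828
import Cfsg.Agent.Lib.Linear.SymplecticGroup

set_option autoImplicit false
open Cfsg

namespace Cfsg.Agent.S0828

open Module

variable {F V : Type*} [Field F] [Fintype F] [AddCommGroup V] [Module F V] [FiniteDimensional F V]

/-- The number of elements of a subspace. -/
theorem ncard_submodule (W : Submodule F V) :
    (W : Set V).ncard = Fintype.card F ^ finrank F W := by
  rw [← Nat.card_coe_set_eq, ← Nat.card_eq_fintype_card]
  exact Module.natCard_eq_pow_finrank (K := F) (V := W)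

theorem line_count (B : LinearMap.BilinForm F V) (hB : B.Nondegenerate) (hA : B.IsAlt)
    (hd : finrank F V = 4) (v : V) (hv : v ≠ 0) :
    Nat.card {W : Submodule F V // finrank F W = 2 ∧ v ∈ W ∧ ∀ u ∈ W, ∀ w ∈ W, B u w = 0} =
      Fintype.card F + 1 := by
  classical
  haveI : Finite V := Module.finite_of_finite F
  obtain ⟨K, hK⟩ : ∃ K, K = LinearMap.ker (B v) := ⟨_, rfl⟩
  have hKd : finrank F K = 3 := by
    have h1 := LinearMap.finrank_range_add_finrank_ker (B v)
    have h2 : LinearMap.range (B v) = ⊤ := LinearMap.range_eq_top.mpr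
      (LinearMap.surjective_iff_ne_zero.mpr fun h => hv (hB.1 v fun y => LinearMap.congr_fun h y))
    rw [h2, finrank_top, Module.finrank_self, ← hK, hd] at h1
    omega
  obtain ⟨L, hL⟩ : ∃ L, L = Submodule.span F {v} := ⟨_, rfl⟩
  have hLd : finrank F L = 1 := by rw [hL]; exact finrank_span_singleton hv
  have hLK : L ≤ K := by
    rw [hL, hK, Submodule.span_singleton_le_iff_mem]; exact hA v
  have hprop : ∀ W : Submodule F V, (finrank F W = 2 ∧ v ∈ W ∧ ∀ u ∈ W, ∀ w ∈ W, B u w = 0) ↔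
      (finrank F W = 2 ∧ L ≤ W ∧ W ≤ K) := fun W => by
    constructor
    · rintro ⟨h1, h2, h3⟩
      exact ⟨h1, hL ▸ (Submodule.span_singleton_le_iff_mem _ _).mpr h2,
        fun w hw => by rw [hK]; exact h3 v h2 w hw⟩
    · rintro ⟨h1, h2, h3⟩
      have hvW : v ∈ W := h2 (hL ▸ Submodule.mem_span_singleton_self v)
      refine ⟨h1, hvW, ?_⟩
      obtain ⟨w, hwW, hwL⟩ : ∃ w ∈ W, w ∉ L := by
        by_contra h
        push Not at h
        have := Submodule.finrank_mono h
        omega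
      have hspan : W = L ⊔ Submodule.span F {w} := by
        refine (Submodule.eq_of_le_of_finrank_le (sup_le h2
          ((Submodule.span_singleton_le_iff_mem _ _).mpr hwW)) ?_).symm
        have hlt : L < L ⊔ Submodule.span F {w} := lt_of_le_of_ne le_sup_left fun h =>
          hwL (h ▸ Submodule.mem_sup_right (Submodule.mem_span_singleton_self w))
        have := Submodule.finrank_lt_finrank_of_lt hlt
        omega
      have hBvw : B v w = 0 := LinearMap.mem_ker.mp (hK ▸ h3 hwW)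
      intro a ha b hb
      rw [hspan, hL] at ha hb
      obtain ⟨a1, ha1, a2, ha2, rfl⟩ := Submodule.mem_sup.mp ha
      obtain ⟨b1, hb1, b2, hb2, rfl⟩ := Submodule.mem_sup.mp hb
      obtain ⟨a1, rfl⟩ := Submodule.mem_span_singleton.mp ha1
      obtain ⟨a2, rfl⟩ := Submodule.mem_span_singleton.mp ha2
      obtain ⟨b1, rfl⟩ := Submodule.mem_span_singleton.mp hb1
      obtain ⟨b2, rfl⟩ := Submodule.mem_span_singleton.mp hb2
      have hwv : B w v = 0 := by rw [← LinearMap.IsAlt.neg hA v w, hBvw, neg_zero]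
      simp [hA v, hA w, hBvw, hwv]
  rw [Nat.card_congr (Equiv.subtypeEquivRight hprop)]
  have hmem : ∀ w : V, w ∈ K → w ∉ L → ∀ W : Submodule F V,
      (finrank F W = 2 ∧ L ≤ W ∧ W ≤ K) → w ∈ W → W = L ⊔ Submodule.span F {w} := by
    intro w hwK hwL W hW hwW
    refine (Submodule.eq_of_le_of_finrank_le (sup_le hW.2.1
      ((Submodule.span_singleton_le_iff_mem _ _).mpr hwW)) ?_).symm
    have hlt : L < L ⊔ Submodule.span F {w} := lt_of_le_of_ne le_sup_left fun h =>
      hwL (h ▸ Submodule.mem_sup_right (Submodule.mem_span_singleton_self w))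
    have := Submodule.finrank_lt_finrank_of_lt hlt
    omega
  let e : (Σ W : {W : Submodule F V // finrank F W = 2 ∧ L ≤ W ∧ W ≤ K}, ((W.1 : Set V) \ L : Set V)) ≃
      ((K : Set V) \ L : Set V) :=
    { toFun := fun x => ⟨x.2.1, x.1.2.2.2 x.2.2.1, x.2.2.2⟩
      invFun := fun w => ⟨⟨L ⊔ Submodule.span F {w.1}, by
          refine ⟨?_, le_sup_left, sup_le hLK ((Submodule.span_singleton_le_iff_mem _ _).mpr w.2.1)⟩
          have hlt : L < L ⊔ Submodule.span F {w.1} := lt_of_le_of_ne le_sup_left fun h => by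
            refine w.2.2 ?_
            have hm : w.1 ∈ L ⊔ Submodule.span F {w.1} :=
              Submodule.mem_sup_right (Submodule.mem_span_singleton_self w.1)
            rw [← h] at hm
            exact hm
          have h1 := Submodule.finrank_lt_finrank_of_lt hlt
          have h2 := Submodule.finrank_add_le_finrank_add_finrank L (Submodule.span F {w.1})
          have h3 := finrank_span_singleton (K := F) (v := w.1)
            (fun h : w.1 = 0 => w.2.2 (by show w.1 ∈ L; rw [h]; exact L.zero_mem))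
          omega⟩, ⟨w.1, Submodule.mem_sup_right (Submodule.mem_span_singleton_self w.1), w.2.2⟩⟩
      left_inv := fun x => by
        obtain ⟨⟨W, hW⟩, ⟨w, hw1, hw2⟩⟩ := x
        obtain rfl := hmem w (hW.2.2 hw1) hw2 W hW hw1
        rfl
      right_inv := fun w => rfl }
  have h := Nat.card_congr e
  haveI : Fintype {W : Submodule F V // finrank F W = 2 ∧ L ≤ W ∧ W ≤ K} := Fintype.ofFinite _
  obtain ⟨q, hq⟩ : ∃ q, q = Fintype.card F := ⟨_, rfl⟩
  have hq1 : 1 < q := hq ▸ Fintype.one_lt_card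
  rw [Nat.card_sigma, Nat.card_coe_set_eq, Set.ncard_sdiff hLK, ncard_submodule, ncard_submodule,
    hKd, hLd, Finset.sum_congr rfl fun W _ => show Nat.card ((W.1 : Set V) \ L : Set V) = q ^ 2 - q ^ 1 by
      rw [Nat.card_coe_set_eq, Set.ncard_sdiff W.2.2.1, ncard_submodule, ncard_submodule, W.2.1, hLd,
        hq],
    Finset.sum_const, Finset.card_univ, smul_eq_mul, ← Nat.card_eq_fintype_card, ← hq] at h
  rw [← hq]
  have h2 : q ^ 3 - q ^ 1 = (q + 1) * (q ^ 2 - q ^ 1) := by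
    rw [Nat.mul_sub]; ring_nf; omega
  rw [h2] at h
  have hpos : 0 < q ^ 2 - q ^ 1 := Nat.sub_pos_of_lt (Nat.pow_lt_pow_right hq1 (by norm_num))
  exact Nat.eq_of_mul_eq_mul_right hpos h

theorem total_count (B : LinearMap.BilinForm F V) (hd : finrank F V = 4)
    (h2 : ∀ v : V, v ≠ 0 →
      Nat.card {W : Submodule F V // finrank F W = 2 ∧ v ∈ W ∧ ∀ u ∈ W, ∀ w ∈ W, B u w = 0} =
        Fintype.card F + 1) :
    Nat.card {W : Submodule F V // finrank F W = 2 ∧ ∀ u ∈ W, ∀ v ∈ W, B u v = 0} =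
      (Fintype.card F + 1) * (Fintype.card F ^ 2 + 1) := by
  classical
  haveI : Finite V := Module.finite_of_finite F
  let e : (Σ W : {W : Submodule F V // finrank F W = 2 ∧ ∀ u ∈ W, ∀ v ∈ W, B u v = 0},
        {v : V // v ≠ 0 ∧ v ∈ W.1}) ≃
      (Σ v : {v : V // v ≠ 0},
        {W : Submodule F V // finrank F W = 2 ∧ v.1 ∈ W ∧ ∀ u ∈ W, ∀ w ∈ W, B u w = 0}) :=
    { toFun := fun x => ⟨⟨x.2.1, x.2.2.1⟩, ⟨x.1.1, x.1.2.1, x.2.2.2, x.1.2.2⟩⟩
      invFun := fun x => ⟨⟨x.2.1, x.2.2.1, x.2.2.2.2⟩, ⟨x.1.1, x.1.2, x.2.2.2.1⟩⟩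
      left_inv := fun x => rfl
      right_inv := fun x => rfl }
  have h := Nat.card_congr e
  haveI : Fintype {W : Submodule F V // finrank F W = 2 ∧ ∀ u ∈ W, ∀ v ∈ W, B u v = 0} :=
    Fintype.ofFinite _
  haveI : Fintype {v : V // v ≠ 0} := Fintype.ofFinite _
  obtain ⟨q, hq⟩ : ∃ q, q = Fintype.card F := ⟨_, rfl⟩
  have hq1 : 1 < q := hq ▸ Fintype.one_lt_card
  have hcount : ∀ W : Submodule F V, Nat.card {v : V // v ≠ 0 ∧ v ∈ W} = q ^ finrank F W - 1 := by
    intro W
    rw [hq, ← ncard_submodule, show {v : V // v ≠ 0 ∧ v ∈ W} = ↥{v : V | v ≠ 0 ∧ v ∈ W} from rfl,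
      Nat.card_coe_set_eq, show {v : V | v ≠ 0 ∧ v ∈ W} = (W : Set V) \ {0} by
        ext x; simp [and_comm], Set.ncard_sdiff_singleton_of_mem W.zero_mem]
  have hV : Nat.card {v : V // v ≠ 0} = q ^ 4 - 1 := by
    rw [← hd, ← finrank_top (R := F) (M := V), ← hcount]
    exact Nat.card_congr (Equiv.subtypeEquivRight fun v => by simp)
  rw [Nat.card_sigma, Nat.card_sigma,
    Finset.sum_congr rfl fun W _ => (hcount W.1).trans (by rw [W.2.1] : _ = q ^ 2 - 1),
    Finset.sum_congr rfl fun (v : {v : V // v ≠ 0}) _ => h2 v.1 v.2,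
    Finset.sum_const, Finset.sum_const, Finset.card_univ, Finset.card_univ, smul_eq_mul, smul_eq_mul,
    ← Nat.card_eq_fintype_card, ← Nat.card_eq_fintype_card, hV, ← hq] at h
  rw [← hq]
  have h4 : (q ^ 4 - 1) * (q + 1) = (q + 1) * (q ^ 2 + 1) * (q ^ 2 - 1) := by
    zify [Nat.one_le_pow 4 q (by omega), Nat.one_le_pow 2 q (by omega)]
    ring
  rw [h4] at h
  have hpos : 0 < q ^ 2 - 1 := Nat.sub_pos_of_lt (Nat.one_lt_pow (by norm_num) hq1)
  exact Nat.eq_of_mul_eq_mul_right hpos h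

/-- The symplectic generalised quadrangle over a field with q elements: the number of 2-dimensional subspaces of F^4 on which the symplectic form vanishes is (q + 1)(q² + 1), and every non-zero vector lies in exactly q + 1 of them. -/
theorem result {F : Type*} [Field F] [Fintype F] {q : ℕ} (hF : Fintype.card F = q) : Nat.card {W : Submodule F (Fin 2 ⊕ Fin 2 → F) // Module.finrank F W = 2 ∧ ∀ u ∈ W, ∀ v ∈ W, Cfsg.sympForm 2 F u v = 0} = (q + 1) * (q ^ 2 + 1) ∧ ∀ v : Fin 2 ⊕ Fin 2 → F, v ≠ 0 → Nat.card {W : Submodule F (Fin 2 ⊕ Fin 2 → F) // Module.finrank F W = 2 ∧ v ∈ W ∧ ∀ u ∈ W, ∀ w ∈ W, Cfsg.sympForm 2 F u w = 0} = q + 1 := by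
  classical
  subst hF
  obtain ⟨B, hB, hA, hBf⟩ : ∃ B : LinearMap.BilinForm F (Fin 2 ⊕ Fin 2 → F), B.Nondegenerate ∧
      B.IsAlt ∧ ∀ u v, Cfsg.sympForm 2 F u v = B u v :=
    ⟨_, Cfsg.Lib.Linear.Symp.spB_nondegenerate 2 F, Cfsg.Lib.Linear.Symp.spB_isAlt 2 F,
      fun u v => (Cfsg.Lib.Linear.Symp.spB_apply 2 F u v).symm⟩
  simp only [hBf]
  have hd : finrank F (Fin 2 ⊕ Fin 2 → F) = 4 := by simp
  have h2 := fun v hv => line_count B hB hA hd v hv
  refine ⟨?_, h2⟩
  exact total_count B hd h2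

end Cfsg.Agent.S0828
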