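import Cfsg.Statements.S0829
import Cfsg.Agent.Lib.Linear.HermLines

set_option autoImplicit false
open Cfsg

namespace Cfsg.Agent.S0829

/-- The unitary quadrangle of PSU_4(q): with |F| = q², the number of 2-dimensional subspaces of F^4 on which the Hermitian form Σ x_i y_i^q vanishes is (q + 1)(q³ + 1). -/
theorem result {F : Type*} [Field F] [Fintype F] {q : ℕ} (hF : Fintype.card F = q ^ 2) : Nat.card {W : Submodule F (Fin 4 → F) // Module.finrank F W = 2 ∧ ∀ u ∈ W, ∀ v ∈ W, Cfsg.hermForm 4 F q u v = 0} = (q + 1) * (q ^ 3 + 1) := by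
  have hq := Cfsg.Lib.Linear.Herm.two_le_q hF
  obtain ⟨c, hc⟩ := Cfsg.Lib.Linear.Herm.exists_neg_one_norm hF
  have h0 : (0 : F) ^ q = 0 := zero_pow (by omega)
  obtain ⟨W, hW, hWi⟩ := Cfsg.Lib.Linear.Herm.exists_isotropic_two hF ![1, c, 0, 0] ![0, 0, 1, c]
    (by simp [Cfsg.Lib.Linear.Herm.hB_apply, Cfsg.hermForm, Fin.sum_univ_succ, h0, mul_comm c, hc])
    (by simp [Cfsg.Lib.Linear.Herm.hB_apply, Cfsg.hermForm, Fin.sum_univ_succ, h0, mul_comm c, hc])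
    (by simp [Cfsg.Lib.Linear.Herm.hB_apply, Cfsg.hermForm, Fin.sum_univ_succ, h0])
    (fun a b h => ⟨by simpa using congrFun h 0, by simpa using congrFun h 2⟩)
  have h := Cfsg.Lib.Linear.Herm.card_isotropic_mul hF (n := 4) (k := 2) (by norm_num) hW hWi
  have h1 : 1 < q ^ 2 := Nat.one_lt_pow two_ne_zero (by omega)
  have e : (q ^ 2) ^ 2 - (q ^ 2) ^ 1 = q ^ 2 * (q ^ 2 - 1) := by rw [pow_one, Nat.mul_sub, mul_one, sq (q ^ 2)]
  simp only [Cfsg.Lib.Linear.Herm.guCard, Fin.prod_univ_two, Finset.prod_range_succ, Finset.prod_range_zero] at h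
  norm_num [Nat.even_iff, e] at h
  rw [Cfsg.Lib.Linear.Herm.card_lines_eq hF]
  apply Nat.eq_of_mul_eq_mul_right (show 0 < q ^ 6 * 1 * ((q ^ 4 - 1) * (q ^ 2 - 1)) from
    Nat.mul_pos (Nat.mul_pos (pow_pos (by omega) _) (by omega)) (Nat.mul_pos (Nat.sub_pos_of_lt
      (Nat.one_lt_pow (by norm_num) (by omega))) (Nat.sub_pos_of_lt h1)))
  rw [show (q ^ 2) ^ 2 = q ^ 4 by rw [← pow_mul]] at h
  rw [show q ^ 4 - q ^ 2 = q ^ 2 * (q ^ 2 - 1) by rw [Nat.mul_sub, mul_one, ← pow_add]] at h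
  linear_combination (norm := ring) h

end Cfsg.Agent.S0829
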