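import Cfsg.Statements.S0831
import Cfsg.Agent.Lib.Linear.OrthParity
import Cfsg.Agent.Lib.Linear.OrthForms

set_option autoImplicit false
open Cfsg

namespace Cfsg.Agent.S0831

open Module Cfsg.Lib.Linear.Orth
open scoped Matrix

/-- The span of the first half of the standard basis. -/
theorem exists_std (F : Type*) [Field F] (m : ℕ) :
    ∃ A : Submodule F (Fin m ⊕ Fin m → F), IsHalf (Cfsg.quadFormPlus m F) A ∧
      ∀ i, Pi.single (Sum.inl i) 1 ∈ A := by
  let L : (Fin m → F) →ₗ[F] (Fin m ⊕ Fin m → F) :=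
    { toFun := fun v => Sum.elim v 0
      map_add' := fun u v => by ext (i | i) <;> simp
      map_smul' := fun c v => by ext (i | i) <;> simp }
  have hL : Function.Injective L := fun u v h => funext fun i => congrFun h (Sum.inl i)
  refine ⟨LinearMap.range L, ⟨?_, ?_⟩, fun i => ⟨Pi.single i 1, ?_⟩⟩
  · rintro _ ⟨v, rfl⟩
    simp [L, Cfsg.quadFormPlus]
  · rw [LinearMap.finrank_range_of_inj hL, finrank_fintype_fun_eq_card]
    simp [two_mul]
  · ext (j | j) <;> simp [L, Pi.single_apply]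

/-- The parities of the three intersections. -/
theorem triple_parity {ι : Type} [Fintype ι] [DecidableEq ι] {F : Type*} [Field F]
    {Q : (ι → F) → F} {B : LinearMap.BilinForm F (ι → F)} (C : Space Q B) (k : ℕ)
    (A D X : Submodule F (ι → F)) (hA : IsHalf Q A) (hD : IsHalf Q D) (hX : IsHalf Q X)
    (hk : finrank F A ≤ finrank F (D ⊓ X : Submodule F (ι → F)) + k) :
    (finrank F (A ⊓ D : Submodule F (ι → F)) + finrank F (A ⊓ X : Submodule F (ι → F)) +
      finrank F (D ⊓ X : Submodule F (ι → F)) + finrank F A) % 2 = 0 := by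
  have hdA : ∀ {Y}, IsHalf Q Y → finrank F Y = finrank F A := fun hY => by
    have := hA.2; have := hY.2; omega
  by_cases hDX : D = X
  · subst hDX
    rw [inf_idem, hdA hD]
    omega
  obtain ⟨x, hxX, hxD⟩ : ∃ x ∈ X, x ∉ D := by
    by_contra h
    push Not at h
    exact hDX (Submodule.eq_of_le_of_finrank_eq h (by rw [hdA hD, hdA hX])).symm
  obtain ⟨y, hyD, hxy⟩ : ∃ y ∈ D, B x y ≠ 0 := by
    by_contra h
    push Not at h
    exact hxD (hD.perp_mem C fun a ha => by rw [C.symm]; exact h a ha)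
  have hv : Q (x - y) ≠ 0 := by
    have h := C.smul_add 1 (-1) x y
    rw [one_smul, neg_one_smul, ← sub_eq_add_neg, hX.1 x hxX, hD.1 y hyD] at h
    rw [h]
    simpa using hxy
  obtain ⟨D', hD'⟩ : ∃ D', D' = img (rGL Q (x - y)) D := ⟨_, rfl⟩
  have hD'h : IsHalf Q D' := hD' ▸ hD.img (rGL_mem C hv)
  have hQv : Q (x - y) = -B x y := by
    have h := C.smul_add 1 (-1) x y
    rw [one_smul, neg_one_smul, ← sub_eq_add_neg, hX.1 x hxX, hD.1 y hyD] at h
    rw [h]; ring
  have hBv : B (x - y) y = B x y := by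
    rw [map_sub, LinearMap.sub_apply, C.self_zero (hD.1 y hyD), sub_zero]
  have hxD' : x ∈ D' := by
    refine hD' ▸ ⟨y, hyD, ?_⟩
    show (rGL Q (x - y)).val *ᵥ y = x
    rw [rGL_act C hv, hBv, hQv, inv_neg, neg_mul, inv_mul_cancel₀ hxy, neg_one_smul]
    abel
  have hle : D ⊓ X ≤ D' ⊓ X := fun z hz => ⟨by
    show z ∈ D'
    rw [hD', mem_img, rGL_inv C hv, rGL_fix C hv (by
      rw [map_sub, LinearMap.sub_apply, ts_orth C hX.1 hxX hz.2, ts_orth C hD.1 hyD hz.1, sub_zero])]
    exact hz.1, hz.2⟩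
  have hlt := Submodule.finrank_lt_finrank_of_lt (lt_of_le_of_ne hle fun h =>
    hxD (h ▸ (⟨hxD', hxX⟩ : x ∈ D' ⊓ X) : x ∈ D ⊓ X).1)
  have h1 := parity_flip C hA hD hv
  have h2 := parity_flip C hX hD hv
  rw [← hD'] at h1 h2
  rw [inf_comm X D, inf_comm X D'] at h2
  cases k with
  | zero =>
    have := Submodule.finrank_mono (inf_le_left : D' ⊓ X ≤ D')
    rw [hdA hD'h] at this
    omega
  | succ k =>
    have := triple_parity C k A D' X hA hD'h hX (by omega)
    omega


/-- The two families of maximal totally singular subspaces of the hyperbolic quadric: for the form Σ x_i y_i on F^(2m), m ≥ 1, and m-dimensional subspaces U, W, X on which it vanishes, the parities of m − dim(U ∩ W), m − dim(W ∩ X) and m − dim(U ∩ X) sum to an even number (so 'even codimension of the intersection' is an equivalence relation), and there exist two such subspaces meeting in codimension 1 (so there are exactly two classes). -/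
theorem result {F : Type*} [Field F] (m : ℕ) (hm : 1 ≤ m) : (∀ U W X : Submodule F (Fin m ⊕ Fin m → F), (Module.finrank F U = m ∧ ∀ w ∈ U, Cfsg.quadFormPlus m F w = 0) → (Module.finrank F W = m ∧ ∀ w ∈ W, Cfsg.quadFormPlus m F w = 0) → (Module.finrank F X = m ∧ ∀ w ∈ X, Cfsg.quadFormPlus m F w = 0) → Even ((m - Module.finrank F ↥(U ⊓ W)) + (m - Module.finrank F ↥(W ⊓ X)) + (m - Module.finrank F ↥(U ⊓ X)))) ∧ ∃ U W : Submodule F (Fin m ⊕ Fin m → F), (Module.finrank F U = m ∧ ∀ w ∈ U, Cfsg.quadFormPlus m F w = 0) ∧ (Module.finrank F W = m ∧ ∀ w ∈ W, Cfsg.quadFormPlus m F w = 0) ∧ Module.finrank F ↥(U ⊓ W) + 1 = m := by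
  obtain ⟨B, C⟩ := exists_space_plus (F := F) m
  have hhalf : ∀ U : Submodule F (Fin m ⊕ Fin m → F),
      (Module.finrank F U = m ∧ ∀ w ∈ U, Cfsg.quadFormPlus m F w = 0) ↔
        IsHalf (Cfsg.quadFormPlus m F) U := fun U => by
    simp only [IsHalf, Fintype.card_sum, Fintype.card_fin]
    constructor
    · rintro ⟨h, h'⟩; exact ⟨h', by omega⟩
    · rintro ⟨h', h⟩; exact ⟨by omega, h'⟩
  refine ⟨fun U W X hU hW hX => ?_, ?_⟩
  · have h := triple_parity C (Module.finrank F U) U W X ((hhalf U).mp hU) ((hhalf W).mp hW)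
      ((hhalf X).mp hX) (Nat.le_add_left _ _)
    have h1 := Submodule.finrank_mono (inf_le_left : U ⊓ W ≤ U)
    have h2 := Submodule.finrank_mono (inf_le_left : W ⊓ X ≤ W)
    have h3 := Submodule.finrank_mono (inf_le_left : U ⊓ X ≤ U)
    rw [hU.1] at h1 h3 h
    rw [hW.1] at h2
    rw [Nat.even_iff]
    omega
  · obtain ⟨A, hA, hmem⟩ := exists_std F m
    obtain ⟨i, -⟩ : ∃ _i : Fin m, True := ⟨⟨0, hm⟩, trivial⟩
    obtain ⟨v, hv⟩ : ∃ v : Fin m ⊕ Fin m → F, Cfsg.quadFormPlus m F v ≠ 0 :=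
      ⟨Pi.single (Sum.inl i) 1 + Pi.single (Sum.inr i) 1, by
        simp [Cfsg.quadFormPlus, Pi.single_apply]⟩
    have hA' := hA.img (rGL_mem C hv)
    refine ⟨A, img (rGL _ v) A, (hhalf A).mpr hA, (hhalf _).mpr hA', ?_⟩
    have hp := parity_flip C hA hA hv
    rw [inf_idem, ((hhalf A).mpr hA).1] at hp
    have hge := finrank_inf_ker_ge A (B v)
    rw [((hhalf A).mpr hA).1] at hge
    have hle : A ⊓ LinearMap.ker (B v) ≤ A ⊓ img (rGL _ v) A := fun y hy => ⟨hy.1, by
      have hy2 : B v y = 0 := hy.2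
      show y ∈ img _ A
      rw [mem_img, rGL_inv C hv, rGL_fix C hv hy2]
      exact hy.1⟩
    have h1 := Submodule.finrank_mono hle
    have h2 := Submodule.finrank_mono
      (inf_le_left : A ⊓ img (rGL (Cfsg.quadFormPlus m F) v) A ≤ A)
    rw [((hhalf A).mpr hA).1] at h2
    omega

end Cfsg.Agent.S0831
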