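import Cfsg.Statements.S0832
import Cfsg.Agent.Lib.Linear.OrthParity
import Cfsg.Agent.Lib.Linear.OrthForms

set_option autoImplicit false
open Cfsg

namespace Cfsg.Agent.S0832

open Module Cfsg.Lib.Linear.Orth
open scoped Matrix

/-- The span of the first half of the standard basis. -/
theorem exists_std (F : Type*) [Field F] (m : ℕ) :
    ∃ A : Submodule F (Fin m ⊕ Fin m → F), IsHalf (Cfsg.quadFormPlus m F) A ∧
      ∀ i, Pi.single (Sum.inl i) 1 ∈ A := by
  let L : (Fin m → F) →ₗ[F] (Fin m ⊕ Fin m → F) :=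
    { toFun := fun v => Sum.elim v 0
      map_add' := fun u v => by ext (i | i) <;> simp
      map_smul' := fun c v => by ext (i | i) <;> simp }
  have hL : Function.Injective L := fun u v h => funext fun i => congrFun h (Sum.inl i)
  refine ⟨LinearMap.range L, ⟨?_, ?_⟩, fun i => ⟨Pi.single i 1, ?_⟩⟩
  · rintro _ ⟨v, rfl⟩
    simp [L, Cfsg.quadFormPlus]
  · rw [LinearMap.finrank_range_of_inj hL, finrank_fintype_fun_eq_card]
    simp [two_mul]
  · ext (j | j) <;> simp [L, Pi.single_apply]

/-- For the form Σ x_i y_i on F^(2m) over a finite field, m ≥ 1: an (m−1)-dimensional subspace on which the form vanishes is contained in exactly two m-dimensional subspaces on which it vanishes. -/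
theorem result {F : Type*} [Field F] [Finite F] (m : ℕ) (hm : 1 ≤ m) (U : Submodule F (Fin m ⊕ Fin m → F)) (hU : Module.finrank F U + 1 = m ∧ ∀ u ∈ U, Cfsg.quadFormPlus m F u = 0) : Nat.card {W : Submodule F (Fin m ⊕ Fin m → F) // Module.finrank F W = m ∧ (∀ w ∈ W, Cfsg.quadFormPlus m F w = 0) ∧ U ≤ W} = 2 := by
  obtain ⟨B, C⟩ := exists_space_plus (F := F) m
  obtain ⟨A, hA, -⟩ := exists_std F m
  obtain ⟨hUd, hUs⟩ := hU
  have hAd : finrank F A = m := by have := hA.2; simp at this; omega
  obtain ⟨a, haA, haU, haperp⟩ := exists_mem_perp C hA (W := U) (by omega)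
  have hQa := hA.1 a haA
  -- adjoining a singular vector orthogonal to U
  have hadj : ∀ b, b ∉ U → Cfsg.quadFormPlus m F b = 0 → (∀ u ∈ U, B u b = 0) →
      finrank F (U ⊔ Submodule.span F {b} : Submodule F _) = m ∧
        ∀ x ∈ U ⊔ Submodule.span F {b}, Cfsg.quadFormPlus m F x = 0 := by
    intro b hb hQb hperp
    constructor
    · have hb0 : b ≠ 0 := fun h => hb (h ▸ U.zero_mem)
      have hdis : U ⊓ Submodule.span F {b} = ⊥ := by
        rw [Submodule.eq_bot_iff]
        rintro y ⟨hy, hy'⟩
        obtain ⟨c, rfl⟩ := Submodule.mem_span_singleton.mp hy'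
        by_contra hc
        have hc0 : c ≠ 0 := fun h => hc (by rw [h, zero_smul])
        exact hb (by simpa [hc0] using U.smul_mem c⁻¹ hy)
      have h := Submodule.finrank_sup_add_finrank_inf_eq U (Submodule.span F {b})
      rw [hdis, finrank_bot, finrank_span_singleton hb0] at h
      omega
    · intro x hx
      obtain ⟨u, hu, w, hw, rfl⟩ := Submodule.mem_sup.mp hx
      obtain ⟨c, rfl⟩ := Submodule.mem_span_singleton.mp hw
      rw [C.add, C.smul, hUs u hu, hQb, map_smul, hperp u hu]
      simp
  obtain ⟨φ, hφa, hφU⟩ : ∃ φ : Module.Dual F (Fin m ⊕ Fin m → F), φ a = 1 ∧ ∀ u ∈ U, φ u = 0 := by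
    obtain ⟨f, hf, hfU⟩ := Submodule.exists_dual_map_eq_bot_of_notMem haU inferInstance
    refine ⟨(f a)⁻¹ • f, by simp [hf], fun u hu => ?_⟩
    have : f u ∈ U.map f := ⟨u, hu, rfl⟩
    rw [hfU, Submodule.mem_bot] at this
    simp [this]
  have hsurj : Function.Surjective B := by
    refine (LinearMap.injective_iff_surjective_of_finrank_eq_finrank
      Subspace.dual_finrank_eq.symm).mp ?_
    rw [injective_iff_map_eq_zero]
    exact fun v hv => C.nondeg' fun u => LinearMap.congr_fun hv u
  obtain ⟨b, hb⟩ := hsurj φ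
  have hab : B a b = 1 := by rw [C.symm, hb, hφa]
  have hUb : ∀ u ∈ U, B u b = 0 := fun u hu => by rw [C.symm, hb, hφU u hu]
  obtain ⟨e, he⟩ : ∃ e, e = b - Cfsg.quadFormPlus m F b • a := ⟨_, rfl⟩
  have hae : B a e = 1 := by rw [he, map_sub, map_smul, hab, C.self_zero hQa]; simp
  have hUe : ∀ u ∈ U, B u e = 0 := fun u hu => by
    rw [he, map_sub, map_smul, hUb u hu, haperp u hu]; simp
  have hQe : Cfsg.quadFormPlus m F e = 0 := by
    rw [he, sub_eq_add_neg, ← neg_smul, C.add, C.smul, hQa, map_smul, C.symm b a, hab]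
    simp
  have heU : e ∉ U := fun h => by
    have := haperp e h
    rw [C.symm, hae] at this
    exact one_ne_zero this
  obtain ⟨hd0, hs0⟩ := hadj a haU hQa haperp
  obtain ⟨hd1, hs1⟩ := hadj e heU hQe hUe
  have hne : U ⊔ Submodule.span F {a} ≠ U ⊔ Submodule.span F {e} := fun h => by
    have hmem : e ∈ U ⊔ Submodule.span F {a} := h ▸ Submodule.mem_sup_right
      (Submodule.mem_span_singleton_self e)
    have := ts_orth C hs0 (Submodule.mem_sup_right (Submodule.mem_span_singleton_self a)) hmem
    rw [hae] at this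
    exact one_ne_zero this
  have heq : {W : Submodule F (Fin m ⊕ Fin m → F) | finrank F W = m ∧
      (∀ w ∈ W, Cfsg.quadFormPlus m F w = 0) ∧ U ≤ W} =
      {U ⊔ Submodule.span F {a}, U ⊔ Submodule.span F {e}} := by
    ext W
    constructor
    · rintro ⟨hWd, hWs, hUW⟩
      obtain ⟨x, hxW, hxU⟩ : ∃ x ∈ W, x ∉ U := by
        by_contra h
        push Not at h
        have := Submodule.finrank_mono h
        omega
      have hW0 : IsHalf (Cfsg.quadFormPlus m F) (U ⊔ Submodule.span F {a}) :=
        ⟨hs0, by rw [hd0]; simp [two_mul]⟩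
      have hUx : ∀ u ∈ U, B u x = 0 := fun u hu => ts_orth C hWs (hUW hu) hxW
      have hx0 : x - B a x • e ∈ U ⊔ Submodule.span F {a} := hW0.perp_mem C fun w hw => by
        obtain ⟨u, hu, t, ht, rfl⟩ := Submodule.mem_sup.mp hw
        obtain ⟨c, rfl⟩ := Submodule.mem_span_singleton.mp ht
        rw [map_add, LinearMap.add_apply, map_sub, map_smul, map_smul, LinearMap.smul_apply,
          map_sub, map_smul, hUx u hu, hUe u hu, hae]
        simp
      obtain ⟨u, hu, t, ht, hxeq⟩ := Submodule.mem_sup.mp hx0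
      obtain ⟨c, rfl⟩ := Submodule.mem_span_singleton.mp ht
      have hprod : c * B a x = 0 := by
        have h := hWs x hxW
        rw [show x = u + (c • a + B a x • e) by rw [← add_assoc, hxeq, sub_add_cancel],
          C.add, C.smul_add, hUs u hu, hQa, hQe, hae, map_add, map_smul, map_smul,
          haperp u hu, hUe u hu] at h
        simpa using h
      have huW : u ∈ W := hUW hu
      have key : ∀ z, z ∉ U → z ∈ W → finrank F (U ⊔ Submodule.span F {z} : Submodule F _) = m →
          U ⊔ Submodule.span F {z} = W := fun z hz hzW hd =>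
        Submodule.eq_of_le_of_finrank_eq (sup_le hUW ((Submodule.span_singleton_le_iff_mem _ _).mpr
          hzW)) (by rw [hd, hWd])
      rcases mul_eq_zero.mp hprod with h | h
      · rw [h, zero_smul, add_zero] at hxeq
        have hx' : x = u + B a x • e := by rw [hxeq, sub_add_cancel]
        have hne0 : B a x ≠ 0 := fun h0 => hxU (by rw [hx', h0, zero_smul, add_zero]; exact hu)
        refine Or.inr (key e heU ?_ hd1).symm
        have := W.smul_mem (B a x)⁻¹ (W.sub_mem hxW huW)
        rwa [show x - u = B a x • e by rw [eq_comm, ← sub_eq_zero]; rw [hxeq]; abel,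
          smul_smul, inv_mul_cancel₀ hne0, one_smul] at this
      · rw [h, zero_smul, sub_zero] at hxeq
        have hne0 : c ≠ 0 := fun h0 => hxU (by rw [← hxeq, h0, zero_smul, add_zero]; exact hu)
        refine Or.inl (key a haU ?_ hd0).symm
        have := W.smul_mem c⁻¹ (W.sub_mem hxW huW)
        rwa [← hxeq, add_sub_cancel_left, smul_smul, inv_mul_cancel₀ hne0, one_smul] at this
    · rintro (rfl | rfl)
      · exact ⟨hd0, hs0, le_sup_left⟩
      · exact ⟨hd1, hs1, le_sup_left⟩
  have := congrArg Set.ncard heq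
  rw [Set.ncard_pair hne, ← Nat.card_coe_set_eq] at this
  exact this

end Cfsg.Agent.S0832
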