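import Cfsg.Statements.S0833
import Cfsg.Agent.Lib.Linear.FormsHalf

set_option autoImplicit false
open Cfsg

namespace Cfsg.Agent.S0833

open Module

/-- An alternating non-degenerate form has a Lagrangian subspace. -/
theorem exists_lagrangian {F U : Type*} [Field F] [AddCommGroup U] [Module F U]
    [FiniteDimensional F U] (B : LinearMap.BilinForm F U) (hB : B.Nondegenerate) (hA : B.IsAlt)
    (k : ℕ) (hU : finrank F U = 2 * k) :
    ∃ X : Submodule F U, finrank F X = k ∧ ∀ x ∈ X, ∀ y ∈ X, B x y = 0 := by
  suffices h : ∀ j, j ≤ k → ∃ X : Submodule F U, finrank F X = j ∧ ∀ x ∈ X, ∀ y ∈ X, B x y = 0 from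
    h k le_rfl
  intro j
  induction j with
  | zero => exact fun _ => ⟨⊥, by simp, fun x hx y _ => by rw [(Submodule.mem_bot F).mp hx]; simp⟩
  | succ j ih =>
    intro hj
    obtain ⟨X, hXd, hX⟩ := ih (by omega)
    obtain ⟨z, hzX, hz⟩ : ∃ z, z ∉ X ∧ ∀ x ∈ X, B x z = 0 := by
      by_contra hne
      push Not at hne
      let Φ : U →ₗ[F] Module.Dual F X :=
        { toFun := fun z => (B.flip z).comp X.subtype
          map_add' := fun a b => by ext; simp
          map_smul' := fun c a => by ext; simp }
      have hker : LinearMap.ker Φ ≤ X := fun z hz => by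
        by_contra hzX
        obtain ⟨x, hx, hxz⟩ := hne z hzX
        exact hxz (LinearMap.congr_fun (LinearMap.mem_ker.mp hz) ⟨x, hx⟩)
      have h1 := Submodule.finrank_mono hker
      have h2 := LinearMap.finrank_range_add_finrank_ker Φ
      have h3 := Submodule.finrank_le (LinearMap.range Φ)
      rw [Subspace.dual_finrank_eq, hXd] at h3
      omega
    have hdis : X ⊓ Submodule.span F {z} = ⊥ := by
      rw [Submodule.eq_bot_iff]
      rintro y ⟨hy, hy'⟩
      obtain ⟨t, rfl⟩ := Submodule.mem_span_singleton.mp hy'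
      by_contra hne
      have ht : t ≠ 0 := fun h => hne (by rw [h, zero_smul])
      exact hzX (by simpa [ht] using X.smul_mem t⁻¹ hy)
    refine ⟨X ⊔ Submodule.span F {z}, ?_, ?_⟩
    · have h := Submodule.finrank_sup_add_finrank_inf_eq X (Submodule.span F {z})
      rw [hdis, finrank_bot, hXd,
        finrank_span_singleton (fun h : z = 0 => hzX (by rw [h]; exact X.zero_mem))] at h
      omega
    · intro x hx y hy
      obtain ⟨x', hx', t, ht, rfl⟩ := Submodule.mem_sup.mp hx
      obtain ⟨y', hy', r, hr, rfl⟩ := Submodule.mem_sup.mp hy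
      obtain ⟨t, rfl⟩ := Submodule.mem_span_singleton.mp ht
      obtain ⟨r, rfl⟩ := Submodule.mem_span_singleton.mp hr
      have hzy : B z y' = 0 := by rw [← LinearMap.IsAlt.neg hA y' z, hz y' hy', neg_zero]
      simp [map_add, map_smul, hX x' hx' y' hy', hz x' hx', hzy, hA z]


/-- If B₁, B₂ are non-degenerate alternating forms on U (dim 2k) and W (dim 2l), then B₁ ⊗ B₂ on U ⊗ W is symmetric, non-degenerate, and vanishes identically on some subspace of dimension 2kl (half of dim U ⊗ W). -/
theorem result {F U W : Type*} [Field F] [Fintype F] [AddCommGroup U] [Module F U] [FiniteDimensional F U] [AddCommGroup W] [Module F W] [FiniteDimensional F W] (B₁ : LinearMap.BilinForm F U) (B₂ : LinearMap.BilinForm F W) (h₁ : B₁.Nondegenerate) (h₂ : B₂.Nondegenerate) (hA₁ : B₁.IsAlt) (hA₂ : B₂.IsAlt) (k l : ℕ) (hU : Module.finrank F U = 2 * k) (hW : Module.finrank F W = 2 * l) : (B₁.tmul B₂).IsSymm ∧ (B₁.tmul B₂).Nondegenerate ∧ (∃ X : Submodule F (TensorProduct F U W), Module.finrank F X = 2 * k * l ∧ ∀ x ∈ X, ∀ y ∈ X,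 (B₁.tmul B₂) x y = 0) := by
  classical
  obtain ⟨X, hXd, hX⟩ := exists_lagrangian B₁ h₁ hA₁ k hU
  obtain ⟨X', hX'⟩ := Submodule.exists_isCompl X
  have hd' : finrank F X' = k := by
    have := Submodule.finrank_add_eq_of_isCompl hX'
    omega
  let c : Basis (Fin k ⊕ Fin k) F U := ((finBasisOfFinrankEq F X hXd).prod
    (finBasisOfFinrankEq F X' hd')).map (Submodule.prodEquivOfIsCompl X X' hX')
  let d : Basis (Fin (2 * l)) F W := finBasisOfFinrankEq F W hW
  have hcX : ∀ i, c (Sum.inl i) ∈ X := fun i => by simp [c]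
  refine ⟨⟨fun x y => ?_⟩, ?_, ?_⟩
  · induction x using TensorProduct.induction_on with
    | zero => simp
    | add a b ha hb =>
      simp only [map_add, LinearMap.add_apply, RingHom.id_apply] at ha hb ⊢
      rw [ha, hb]
    | tmul a b =>
      induction y using TensorProduct.induction_on with
      | zero => simp
      | add p r hp hr =>
        simp only [map_add, LinearMap.add_apply, RingHom.id_apply] at hp hr ⊢
        rw [hp, hr]
      | tmul p r =>
        show B₂ b r • B₁ a p = B₂ r b • B₁ p a
        rw [smul_eq_mul, smul_eq_mul, ← LinearMap.IsAlt.neg hA₁ a p, ← LinearMap.IsAlt.neg hA₂ b r, neg_mul_neg]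
  · refine (LinearMap.BilinForm.nondegenerate_iff_det_ne_zero (c.tensorProduct d)).mpr ?_
    rw [Cfsg.Lib.Linear.Forms.toMatrix_tmul, Matrix.det_kronecker]
    exact mul_ne_zero (pow_ne_zero _ ((LinearMap.BilinForm.nondegenerate_iff_det_ne_zero c).mp h₁))
      (pow_ne_zero _ ((LinearMap.BilinForm.nondegenerate_iff_det_ne_zero d).mp h₂))
  · let f : Fin k × Fin (2 * l) → TensorProduct F U W :=
      fun p => c.tensorProduct d (Sum.inl p.1, p.2)
    refine ⟨Submodule.span F (Set.range f), ?_, ?_⟩
    · rw [show f = ⇑(c.tensorProduct d) ∘ fun p : Fin k × Fin (2 * l) => (Sum.inl p.1, p.2) from rfl,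
        finrank_span_eq_card ((c.tensorProduct d).linearIndependent.comp
        (fun p : Fin k × Fin (2 * l) => (Sum.inl p.1, p.2))
        (fun p p' h => by simpa [Prod.ext_iff] using h)), Fintype.card_prod, Fintype.card_fin,
        Fintype.card_fin]
      ring
    · intro x hx y hy
      have h : Submodule.span F (Set.range f) ≤ LinearMap.ker ((B₁.tmul B₂).flip y) := by
        refine Submodule.span_le.mpr ?_
        rintro _ ⟨p, rfl⟩
        show B₁.tmul B₂ (f p) y = 0
        have h' : Submodule.span F (Set.range f) ≤ LinearMap.ker (B₁.tmul B₂ (f p)) := by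
          refine Submodule.span_le.mpr ?_
          rintro _ ⟨p', rfl⟩
          simp [f, hX _ (hcX p.1) _ (hcX p'.1)]
        exact h' hy
      exact h hx

end Cfsg.Agent.S0833
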