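import Cfsg.Statements.S0834
import Cfsg.Agent.Lib.Linear.FormsHalf

set_option autoImplicit false
open Cfsg

namespace Cfsg.Agent.S0834

open Module


/-- Over a finite field with 2 ≠ 0: if B₁ on U (dim 2k, k ≥ 1) and B₂ on W (dim 2l, l ≥ 1) are non-degenerate symmetric forms admitting no totally isotropic subspaces of dimensions k, resp. l (minus type), then B₁ ⊗ B₂ admits a totally isotropic subspace of dimension 2kl (plus type). -/
theorem result {F U W : Type*} [Field F] [Fintype F] [AddCommGroup U] [Module F U] [FiniteDimensional F U] [AddCommGroup W] [Module F W] [FiniteDimensional F W] (h2 : (2 : F) ≠ 0) (B₁ : LinearMap.BilinForm F U) (B₂ : LinearMap.BilinForm F W) (h₁ : B₁.Nondegenerate) (h₂ : B₂.Nondegenerate) (hS₁ : B₁.IsSymm) (hS₂ : B₂.IsSymm) (k l : ℕ) (hk : 1 ≤ k) (hl : 1 ≤ l) (hU : Module.finrank F U = 2 * k) (hW : Module.finrank F W = 2 * l) (hm₁ : ¬ (∃ X : Submodule F (U), Module.finrank F X = k ∧ ∀ x ∈ X, ∀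 y ∈ X, (B₁) x y = 0)) (hm₂ : ¬ (∃ X : Submodule F (W), Module.finrank F X = l ∧ ∀ x ∈ X, ∀ y ∈ X, (B₂) x y = 0)) : (∃ X : Submodule F (TensorProduct F U W), Module.finrank F X = 2 * k * l ∧ ∀ x ∈ X, ∀ y ∈ X, (B₁.tmul B₂) x y = 0) := by
  classical
  let c := finBasisOfFinrankEq F U hU
  let d := finBasisOfFinrankEq F W hW
  have hdet1 := (LinearMap.BilinForm.nondegenerate_iff_det_ne_zero c).mp h₁
  have hdet2 := (LinearMap.BilinForm.nondegenerate_iff_det_ne_zero d).mp h₂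
  have hsym := LinearMap.IsSymm.tmul (B₁ := B₁) (B₂ := B₂) ⟨hS₁.eq⟩ ⟨hS₂.eq⟩
  refine Cfsg.Lib.Linear.Forms.half_exists h2 (B₁.tmul B₂) (fun x y => hsym.eq x y)
    (N := 2 * k * l) (Nat.one_le_iff_ne_zero.mpr (mul_ne_zero (by omega) (by omega)))
    (by rw [Module.finrank_tensorProduct, hU, hW]; ring) (c.tensorProduct d) ?_ ?_
  · rw [Cfsg.Lib.Linear.Forms.toMatrix_tmul, Matrix.det_kronecker]
    exact mul_ne_zero (pow_ne_zero _ hdet1) (pow_ne_zero _ hdet2)
  · rw [Cfsg.Lib.Linear.Forms.toMatrix_tmul, Matrix.det_kronecker, Fintype.card_fin,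
      Fintype.card_fin]
    refine ⟨(-1) ^ (k * l) * ((LinearMap.BilinForm.toMatrix c B₁).det ^ l *
      (LinearMap.BilinForm.toMatrix d B₂).det ^ k), ?_⟩
    ring

end Cfsg.Agent.S0834
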