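import Cfsg.Statements.S0835
import Cfsg.Agent.Lib.Linear.FormsHalf

set_option autoImplicit false
open Cfsg

namespace Cfsg.Agent.S0835

open Module


/-- Over a finite field with 2 ≠ 0: if B₁ on U (dim 2k, k ≥ 1) is non-degenerate symmetric of minus type (no totally isotropic k-subspace) and B₂ on W (dim 2l + 1) is non-degenerate symmetric, then B₁ ⊗ B₂ (dimension 2k(2l+1)) admits no totally isotropic subspace of dimension k(2l+1) (minus type). -/
theorem result {F U W : Type*} [Field F] [Fintype F] [AddCommGroup U] [Module F U] [FiniteDimensional F U] [AddCommGroup W] [Module F W] [FiniteDimensional F W] (h2 : (2 : F) ≠ 0) (B₁ : LinearMap.BilinForm F U) (B₂ : LinearMap.BilinForm F W) (h₁ : B₁.Nondegenerate) (h₂ : B₂.Nondegenerate) (hS₁ : B₁.IsSymm) (hS₂ : B₂.IsSymm) (k l : ℕ) (hk : 1 ≤ k) (hU : Module.finrank F U = 2 * k) (hW : Module.finrank F W = 2 * l + 1) (hm₁ : ¬ (∃ X : Submodule F (U), Module.finrank F X = k ∧ ∀ x ∈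 X, ∀ y ∈ X, (B₁) x y = 0)) : ¬ (∃ X : Submodule F (TensorProduct F U W), Module.finrank F X = k * (2 * l + 1) ∧ ∀ x ∈ X, ∀ y ∈ X, (B₁.tmul B₂) x y = 0) := by
  classical
  rintro ⟨X, hXd, hX⟩
  let c := finBasisOfFinrankEq F U hU
  let d := finBasisOfFinrankEq F W hW
  have hdet1 := (LinearMap.BilinForm.nondegenerate_iff_det_ne_zero c).mp h₁
  have hdet2 := (LinearMap.BilinForm.nondegenerate_iff_det_ne_zero d).mp h₂
  have hsym := LinearMap.IsSymm.tmul (B₁ := B₁) (B₂ := B₂) ⟨hS₁.eq⟩ ⟨hS₂.eq⟩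
  obtain ⟨s, hs⟩ := Cfsg.Lib.Linear.Forms.half_disc (B₁.tmul B₂) (fun x y => hsym.eq x y)
    (N := k * (2 * l + 1)) (by rw [Module.finrank_tensorProduct, hU, hW]; ring) X hXd hX
    (c.tensorProduct d)
  rw [Cfsg.Lib.Linear.Forms.toMatrix_tmul, Matrix.det_kronecker, Fintype.card_fin,
    Fintype.card_fin] at hs
  refine hm₁ (Cfsg.Lib.Linear.Forms.half_exists h2 B₁ (fun x y => hS₁.eq x y) hk hU c hdet1
    ⟨s / ((-1) ^ (k * l) * (LinearMap.BilinForm.toMatrix c B₁).det ^ l *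
      (LinearMap.BilinForm.toMatrix d B₂).det ^ k), ?_⟩)
  have hne : (-1 : F) ^ (k * l) * (LinearMap.BilinForm.toMatrix c B₁).det ^ l *
      (LinearMap.BilinForm.toMatrix d B₂).det ^ k ≠ 0 :=
    mul_ne_zero (mul_ne_zero (pow_ne_zero _ (neg_ne_zero.mpr one_ne_zero)) (pow_ne_zero _ hdet1))
      (pow_ne_zero _ hdet2)
  rw [div_mul_div_comm, eq_div_iff (mul_ne_zero hne hne)]
  linear_combination hs

end Cfsg.Agent.S0835
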