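import Cfsg.Statements.S0837
import Cfsg.Agent.Lib.Linear.HermStandard
import Cfsg.Agent.Lib.Linear.BlockIso

set_option autoImplicit false
open Cfsg

namespace Cfsg.Agent.S0837

open Cfsg.Lib.Linear Cfsg.Lib.Linear.Herm Module
open scoped Matrix

variable {F : Type*} [Field F] [Fintype F] {q : ℕ}

/-- A nondegenerate subspace has an orthonormal parametrisation. -/
theorem exists_orth (hF : Fintype.card F = q ^ 2) {n : ℕ} :
    ∀ (k : ℕ) (W : Submodule F (Fin n → F)), finrank F W = k →
      (∀ u ∈ W, (∀ v ∈ W, hB hF n u v = 0) → u = 0) →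
      ∃ L : (Fin k → F) →ₗ[F] (Fin n → F), LinearMap.range L = W ∧
        ∀ a b, hB hF n (L a) (L b) = hB hF k a b := by
  classical
  have hσ := frob_ne_id hF
  intro k
  induction k with
  | zero =>
    intro W hW _
    refine ⟨0, ?_, fun a b => ?_⟩
    · rw [LinearMap.range_zero, Submodule.finrank_eq_zero.1 hW]
    · simp [hB_apply, Cfsg.hermForm]
  | succ k ih =>
    intro W hW hnd
    obtain ⟨w, hw, hw0⟩ : ∃ w ∈ W, hB hF n w w ≠ 0 := by
      by_contra hc
      push Not at hc
      have hanti : ∀ u ∈ W, ∀ v ∈ W, hB hF n u v = 0 := by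
        intro u hu v hv
        by_contra huv
        obtain ⟨c, hc0, hc1⟩ : ∃ c : F, c ≠ 0 ∧ frob hF c ≠ c := by
          by_contra h'
          push Not at h'
          exact hσ (RingHom.ext fun x => by
            by_cases hx : x = 0
            · rw [hx, map_zero]; rfl
            · exact h' x hx)
        have e1 := hc (u + v) (W.add_mem hu hv)
        have e2 := hc (u + c • v) (W.add_mem hu (W.smul_mem c hv))
        simp only [map_add, LinearMap.add_apply, map_smul, LinearMap.map_smulₛₗ, LinearMap.smul_apply,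
          smul_eq_mul, hc u hu, hc v hv, mul_zero, add_zero, zero_add] at e1 e2
        have : (c - frob hF c) * hB hF n u v = 0 := by linear_combination e2 - frob hF c * e1
        exact (mul_eq_zero.1 this).elim (fun h => hc1 (sub_eq_zero.1 h).symm) huv
      have hbot : W = ⊥ := by
        rw [eq_bot_iff]
        exact fun u hu => (Submodule.mem_bot F).2 (hnd u hu fun v hv => hanti u hu v hv)
      rw [hbot, finrank_bot] at hW
      omega
    set μ := hB hF n w w with hμ
    have hμq : μ ^ q = μ := by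
      rw [← frob_apply hF, hμ]
      exact (hB_isSymm hF n).eq w w
    obtain ⟨cu, hc⟩ := exists_norm_eq hF (inv_ne_zero hw0) (by rw [inv_pow, hμq])
    set c : F := (cu : F)
    set v := c • w with hv
    have hvW : v ∈ W := W.smul_mem _ hw
    have hvv : hB hF n v v = 1 := by
      rw [hv, map_smul, LinearMap.map_smulₛₗ, LinearMap.smul_apply, smul_eq_mul, smul_eq_mul,
        frob_apply, ← mul_assoc, ← pow_succ', hc, inv_mul_cancel₀ hw0]
    have hsymm : ∀ x y, hB hF n x y = 0 → hB hF n y x = 0 := fun x y h => by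
      rw [← (hB_isSymm hF n).eq x y, h, map_zero]
    let P : W →ₗ[F] F := (hB hF n v).comp W.subtype
    let W' : Submodule F (Fin n → F) := (LinearMap.ker P).map W.subtype
    have memW' : ∀ x, x ∈ W' ↔ x ∈ W ∧ hB hF n v x = 0 := fun x => by
      constructor
      · rintro ⟨y, hy, rfl⟩; exact ⟨y.2, hy⟩
      · rintro ⟨hx, h⟩; exact ⟨⟨x, hx⟩, h, rfl⟩
    have hdim : finrank F W' = k := by
      have h1 := LinearMap.finrank_range_add_finrank_ker P
      have hs : Function.Surjective P := fun a => ⟨a • ⟨v, hvW⟩, by simp [P, hvv]⟩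
      rw [LinearMap.range_eq_top.2 hs, finrank_top, finrank_self, hW] at h1
      rw [Submodule.finrank_map_subtype_eq]
      omega
    have hdec : ∀ y ∈ W, y - hB hF n v y • v ∈ W' := fun y hy =>
      (memW' _).2 ⟨W.sub_mem hy (W.smul_mem _ hvW), by simp [hvv]⟩
    obtain ⟨L, hL, hLi⟩ := ih W' hdim fun u hu h => by
      obtain ⟨huW, huv⟩ := (memW' u).1 hu
      refine hnd u huW fun y hy => ?_
      have := h _ (hdec y hy)
      simpa [hsymm v u huv] using this
    have hLv : ∀ a, hB hF n v (L a) = 0 := fun a =>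
      ((memW' _).1 (hL ▸ LinearMap.mem_range_self L a)).2
    refine ⟨(LinearMap.proj 0).smulRight v + L ∘ₗ LinearMap.funLeft F F Fin.succ, ?_, fun a b => ?_⟩
    · apply le_antisymm
      · rintro _ ⟨a, rfl⟩
        exact W.add_mem (W.smul_mem _ hvW) ((memW' _).1 (hL ▸ LinearMap.mem_range_self L _)).1
      · intro y hy
        obtain ⟨t, ht⟩ := hL.symm ▸ hdec y hy
        refine ⟨Fin.cons (hB hF n v y) t, ?_⟩
        have htail : LinearMap.funLeft F F Fin.succ (Fin.cons (hB hF n v y) t : Fin (k + 1) → F) = t := by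
          ext i; simp [LinearMap.funLeft_apply]
        simp [htail, ht]
    · simp only [LinearMap.add_apply, LinearMap.smulRight_apply, LinearMap.proj_apply,
        LinearMap.comp_apply, map_add, map_smul, LinearMap.map_smulₛₗ, LinearMap.smul_apply, smul_eq_mul,
        hvv, hLv, hsymm _ _ (hLv _), hLi, mul_zero, add_zero, zero_add, mul_one]
      simp only [hB_apply, Cfsg.hermForm, Fin.sum_univ_succ, LinearMap.funLeft_apply, frob_apply]

theorem main (hF : Fintype.card F = q ^ 2) (n k : ℕ) (hk : k ≤ n) (W : Submodule F (Fin n → F))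
    (hWk : finrank F W = k) (hW : ∀ u ∈ W, (∀ v ∈ W, Cfsg.hermForm n F q u v = 0) → u = 0) :
    Nonempty (↥((Cfsg.stabilizing (Cfsg.glToMat (Fin n) F) (W : Set (Fin n → F))).subgroupOf (Cfsg.GU n F q))
      ≃* ↥(Cfsg.GU k F q) × ↥(Cfsg.GU (n - k) F q)) := by
  classical
  have hsymm : ∀ {m : ℕ} (x y : Fin m → F), hB hF m x y = 0 → hB hF m y x = 0 := fun {m} x y h => by
    rw [← (hB_isSymm hF m).eq x y, h, map_zero]
  obtain ⟨L, hL, hLi⟩ := exists_orth hF k W hWk fun u hu h => hW u hu fun v hv => hsymm u v (h v hv)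
  let Φ : (Fin n → F) →ₗ[F] (Fin k → F) := LinearMap.pi fun i => hB hF n (L (Pi.single i 1))
  have hone : ∀ (i : Fin k) (c : Fin k → F), hB hF k (Pi.single i 1) c = c i := fun i c => by
    rw [← (hB_isSymm hF k).eq c (Pi.single i 1), hB_single_right, one_mul, frob_apply, ← frob_apply hF,
      ← frob_apply hF, frob_frob]
  have hΦL : ∀ a, Φ (L a) = a := fun a => funext fun i => (hLi _ _).trans (hone i a)
  have hker : ∀ v, Φ v = 0 ↔ ∀ a, hB hF n (L a) v = 0 := by
    refine fun v => ⟨fun h a => ?_, fun h => funext fun i => h _⟩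
    rw [pi_eq_sum_univ' a, map_sum, map_sum, LinearMap.sum_apply]
    refine Finset.sum_eq_zero fun i _ => ?_
    rw [map_smul, LinearMap.map_smulₛₗ, LinearMap.smul_apply]
    rw [show hB hF n (L (Pi.single i 1)) v = 0 from congrFun h i, smul_zero]
  obtain ⟨hd, horth, hnd2⟩ := Block.complement (β := fun u v => hB hF n u v) L Φ hΦL hker
    (fun u v => hsymm u v) (fun u v w => map_add _ v w)
    (fun v h => (hB_nondegenerate hF n).2 v h)
  rw [finrank_fin_fun, finrank_fin_fun] at hd
  obtain ⟨L', hL', hLi'⟩ := exists_orth hF (n - k) (LinearMap.ker Φ) (by omega) hnd2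
  have hmem : ∀ b, L' b ∈ LinearMap.ker Φ := fun b => hL' ▸ LinearMap.mem_range_self L' b
  have hinj : Function.Injective L' := by
    rw [← LinearMap.ker_eq_bot, LinearMap.ker_eq_bot']
    intro b hb
    refine (hB_nondegenerate hF (n - k)).2 b fun a => ?_
    rw [← hLi', hb, map_zero]
  obtain ⟨e, he, heW⟩ := Block.exists_assemble (β := fun u v => hB hF n u v) L Φ L' hΦL hmem hinj
    (by rw [finrank_fin_fun, finrank_fin_fun, finrank_fin_fun]; omega) hLi hLi'
    (fun a b => horth a _ (hmem b)) (fun u v w => by simp) (fun u v w => map_add _ v w)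
  let toIso : ∀ m, Cfsg.GU m F q ≃* Block.Iso (fun u v => hB hF m u v) := fun m =>
    (guEquiv hF m).trans (MulEquiv.subgroupCongr (SetLike.ext fun _ => Iff.rfl))
  obtain ⟨E⟩ := Block.stab_equiv e he (fun a => map_zero _)
    (β₂ := fun u v => hB hF (n - k) u v) (fun b => LinearMap.congr_fun (map_zero (hB hF (n - k))) b) (fun c hc => (hB_nondegenerate hF k).2 c hc) W
    (fun p => by rw [← hL]; exact heW p) ((Cfsg.glToMat (Fin n) F).comp (Cfsg.GU n F q).subtype)
    (toIso n) (fun h v => guEquiv_apply hF n h v)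
  exact ⟨(MulEquiv.subgroupCongr (SetLike.ext fun _ => Iff.rfl)).trans
    (E.trans (MulEquiv.prodCongr (toIso k).symm (toIso (n - k)).symm))⟩

/-- If W ≤ F^n (|F| = q²) is a k-dimensional subspace on which the Hermitian form Σ x_i y_i^q is non-degenerate, then the stabiliser of W in GU_n(q) is isomorphic to GU_k(q) × GU_(n−k)(q). -/
theorem result {F : Type*} [Field F] [Fintype F] {q : ℕ} (hF : Fintype.card F = q ^ 2) (n k : ℕ) (hk : k ≤ n) (W : Submodule F (Fin n → F)) (hWk : Module.finrank F W = k) (hW : ∀ u ∈ W, (∀ v ∈ W, Cfsg.hermForm n F q u v = 0) → u = 0) : Nonempty (↥((Cfsg.stabilizing (Cfsg.glToMat (Fin n) F) (W : Set (Fin n → F))).subgroupOf (Cfsg.GU n F q)) ≃* ↥(Cfsg.GU k F q) × ↥(Cfsg.GU (n - k) F q)) := by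
  exact main hF n k hk W hWk hW

end Cfsg.Agent.S0837
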