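import Cfsg.Statements.S0838
import Cfsg.Agent.Lib.Linear.FormsNormal

set_option autoImplicit false
open Cfsg

namespace Cfsg.Agent.S0838

/-- Over a finite field with 2 ≠ 0 and n odd: two quadratic forms Q₁, Q₂ on F^n with non-degenerate polar forms are similar — there are an invertible linear map g and a scalar c ≠ 0 with Q₂ (g v) = c · Q₁ v for all v. -/
theorem result {F : Type*} [Field F] [Fintype F] (h2 : (2 : F) ≠ 0) {n : ℕ} (hn : Odd n) (Q₁ Q₂ : QuadraticForm F (Fin n → F)) (h₁ : (QuadraticMap.polarBilin Q₁).Nondegenerate) (h₂ : (QuadraticMap.polarBilin Q₂).Nondegenerate) : ∃ (g : (Fin n → F) ≃ₗ[F] (Fin n → F)) (c : F), c ≠ 0 ∧ ∀ v, Q₂ (g v) = c * Q₁ v := by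
  classical
  obtain ⟨k, rfl⟩ := hn
  have hchar : ringChar F ≠ 2 := fun h => h2 (by
    haveI := ringChar.charP F
    have := CharP.cast_eq_zero F (ringChar F)
    rw [h] at this
    exact_mod_cast this)
  obtain ⟨α, hα⟩ := FiniteField.exists_nonsquare hchar
  have hα0 : α ≠ 0 := fun h => hα (h ▸ ⟨0, (mul_zero 0).symm⟩)
  have hN : Module.finrank F (Fin (2 * k + 1) → F) = 2 * k + 1 := by simp
  have hsymm : ∀ (Q : QuadraticForm F (Fin (2 * k + 1) → F)) x y,
      QuadraticMap.polarBilin Q x y = QuadraticMap.polarBilin Q y x :=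
    fun Q x y => QuadraticMap.polar_comm Q x y
  set B1 := α • QuadraticMap.polarBilin Q₁ with hB1
  have hB1n : ∀ x, (∀ y, B1 x y = 0) → x = 0 := fun x h => h₁.1 x fun y => by
    have := h y
    simp only [hB1, LinearMap.smul_apply, smul_eq_mul, mul_eq_zero, hα0, false_or] at this
    exact this
  obtain ⟨b, ho, h1, hl⟩ := Cfsg.Lib.Linear.Forms.exists_normal_basis h2
    (QuadraticMap.polarBilin Q₁) (hsymm Q₁) (fun x h => h₁.1 x h) hN α hα
  obtain ⟨b', ho', h1', hl'⟩ := Cfsg.Lib.Linear.Forms.exists_normal_basis h2 B1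
    (fun x y => by simp [hB1, hsymm Q₁ x y]) hB1n hN α hα
  obtain ⟨d, hod, h1d, hld⟩ := Cfsg.Lib.Linear.Forms.exists_normal_basis h2
    (QuadraticMap.polarBilin Q₂) (hsymm Q₂) (fun x h => h₂.1 x h) hN α hα
  -- equal last values give a similitude
  have build : ∀ (c : F) (C : LinearMap.BilinForm F (Fin (2 * k + 1) → F))
      (e : Module.Basis (Fin (2 * k + 1)) F (Fin (2 * k + 1) → F)),
      (C = c • QuadraticMap.polarBilin Q₁) →
      (∀ i j, i ≠ j → C (e i) (e j) = 0) → (∀ i, i ≠ Fin.last (2 * k) → C (e i) (e i) = 1) →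
      C (e (Fin.last (2 * k))) (e (Fin.last (2 * k))) =
        QuadraticMap.polarBilin Q₂ (d (Fin.last (2 * k))) (d (Fin.last (2 * k))) →
      c ≠ 0 → ∃ (g : (Fin (2 * k + 1) → F) ≃ₗ[F] (Fin (2 * k + 1) → F)) (c : F),
        c ≠ 0 ∧ ∀ v, Q₂ (g v) = c * Q₁ v := by
    intro c C e hC he he1 hel hc
    refine ⟨e.equiv d (Equiv.refl _), c, hc, fun v => ?_⟩
    have hform : (QuadraticMap.polarBilin Q₂).compl₁₂ (e.equiv d (Equiv.refl _)).toLinearMap
        (e.equiv d (Equiv.refl _)).toLinearMap = C := LinearMap.ext_basis e e fun i j => by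
      simp only [LinearMap.compl₁₂_apply, LinearEquiv.coe_coe, Module.Basis.equiv_apply,
        Equiv.refl_apply]
      by_cases hij : i = j
      · subst hij
        by_cases hi : i = Fin.last (2 * k)
        · subst hi; exact hel.symm
        · rw [h1d i hi, he1 i hi]
      · rw [hod i j hij, he i j hij]
    have h := LinearMap.congr_fun (LinearMap.congr_fun hform v) v
    rw [hC] at h
    simp only [LinearMap.compl₁₂_apply, LinearEquiv.coe_coe, LinearMap.smul_apply,
      QuadraticMap.polarBilin_apply_apply, QuadraticMap.polar_self, smul_eq_mul,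
      nsmul_eq_mul, Nat.cast_ofNat] at h
    exact mul_left_cancel₀ h2 (by linear_combination h)
  by_cases heq : QuadraticMap.polarBilin Q₁ (b (Fin.last (2 * k))) (b (Fin.last (2 * k))) =
      QuadraticMap.polarBilin Q₂ (d (Fin.last (2 * k))) (d (Fin.last (2 * k)))
  · exact build 1 _ b (one_smul _ _).symm ho h1 heq one_ne_zero
  refine build α B1 b' hB1 ho' h1' ?_ hα0
  by_contra hne
  -- the discriminants of the two normal bases differ by an odd power of `α`
  have hsame : B1 (b' (Fin.last (2 * k))) (b' (Fin.last (2 * k))) =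
      QuadraticMap.polarBilin Q₁ (b (Fin.last (2 * k))) (b (Fin.last (2 * k))) := by
    rcases hl with a | a <;> rcases hl' with a' | a' <;> rcases hld with a'' | a'' <;>
      rw [a, a'] <;>
      first | exact absurd (a.trans a''.symm) heq | exact absurd (a'.trans a''.symm) hne
  have hdet := congrArg Matrix.det (LinearMap.BilinForm.toMatrix_mul_basis_toMatrix b b' B1)
  have hd' : LinearMap.BilinForm.toMatrix b' B1 =
      Matrix.diagonal fun i => B1 (b' i) (b' i) := by
    ext i j
    rw [LinearMap.BilinForm.toMatrix_apply]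
    by_cases hij : i = j
    · subst hij; simp
    · rw [Matrix.diagonal_apply_ne _ hij, ho' i j hij]
  have hd : LinearMap.BilinForm.toMatrix b B1 =
      Matrix.diagonal fun i => α * QuadraticMap.polarBilin Q₁ (b i) (b i) := by
    ext i j
    rw [LinearMap.BilinForm.toMatrix_apply, hB1, LinearMap.smul_apply, LinearMap.smul_apply,
      smul_eq_mul]
    by_cases hij : i = j
    · subst hij; simp
    · rw [Matrix.diagonal_apply_ne _ hij, ho i j hij, mul_zero]
  rw [Matrix.det_mul, Matrix.det_mul, Matrix.det_transpose, hd, hd', Matrix.det_diagonal,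
    Matrix.det_diagonal, Finset.prod_mul_distrib, Finset.prod_const, Finset.card_univ,
    Fintype.card_fin,
    Finset.prod_eq_single (Fin.last (2 * k)) (fun i _ hi => h1 i hi)
      (fun h => absurd (Finset.mem_univ _) h),
    Finset.prod_eq_single (Fin.last (2 * k)) (fun i _ hi => h1' i hi)
      (fun h => absurd (Finset.mem_univ _) h), hsame] at hdet
  have hγ : QuadraticMap.polarBilin Q₁ (b (Fin.last (2 * k))) (b (Fin.last (2 * k))) ≠ 0 := by
    rcases hl with a | a <;> rw [a]
    exacts [one_ne_zero, hα0]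
  have h3 : ((b.toMatrix b').det * α ^ k) ^ 2 * α = 1 := mul_right_cancel₀ hγ (by
    linear_combination hdet)
  have hD : (b.toMatrix b').det * α ^ k ≠ 0 := fun h => by
    rw [h, zero_pow two_ne_zero, zero_mul] at h3; exact zero_ne_one h3
  exact hα ⟨((b.toMatrix b').det * α ^ k)⁻¹, by rw [← mul_inv, ← sq]; exact eq_inv_of_mul_eq_one_right h3⟩

end Cfsg.Agent.S0838
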