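import Cfsg.Statements.S0841
import Mathlib


set_option autoImplicit false
open Cfsg
open scoped commutatorElement

namespace Cfsg.Agent.S0841

/-- If the commutator subgroup of G lies in the centre, then for all x, y in G and every natural number n one has (x * y) ^ n = x ^ n * y ^ n * c ^ (n * (n - 1) / 2) with c = y⁻¹ * x⁻¹ * y * x. -/
theorem result {G : Type*} [Group G] (hG : commutator G ≤ Subgroup.center G) (x y : G) (n : ℕ) : (x * y) ^ n = x ^ n * y ^ n * (y⁻¹ * x⁻¹ * y * x) ^ (n * (n - 1) / 2) := by
  set c := y⁻¹ * x⁻¹ * y * x with hc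
  have hcc : c ∈ Subgroup.center G := hG (by
    have e : c = ⁅y⁻¹, x⁻¹⁆ := by rw [hc, commutatorElement_def, inv_inv, inv_inv]
    rw [e, commutator_def]
    exact Subgroup.commutator_mem_commutator (Subgroup.mem_top _) (Subgroup.mem_top _))
  have hcom : ∀ z : G, Commute c z := fun z => (Subgroup.mem_center_iff.mp hcc z).symm
  have hyx : y * x = x * y * c := by rw [hc]; group
  clear_value c
  clear hc
  have hpow : ∀ m : ℕ, y ^ m * x = x * y ^ m * c ^ m := by
    intro m
    induction m with
    | zero => simp
    | succ k ih =>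
      have h1 : y ^ (k + 1) * x = y ^ k * x * y * c := by
        rw [pow_succ, mul_assoc, hyx, ← mul_assoc, ← mul_assoc]
      rw [h1, ih, mul_assoc (x * y ^ k), ((hcom y).pow_left k).eq, ← mul_assoc, pow_succ y k,
        pow_succ c k]
      simp only [mul_assoc]
  induction n with
  | zero => simp
  | succ k ih =>
    have hT : (k + 1) * (k + 1 - 1) / 2 = k * (k - 1) / 2 + k := by
      rcases k with _ | j
      · simp
      · simp only [Nat.add_sub_cancel]
        rw [show (j + 1 + 1) * (j + 1) = (j + 1) * j + (j + 1) * 2 by ring,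
          Nat.add_mul_div_right _ _ (by norm_num : 0 < 2)]
    calc (x * y) ^ (k + 1) = (x ^ k * y ^ k * c ^ (k * (k - 1) / 2)) * (x * y) := by
          rw [pow_succ, ih]
      _ = (x ^ k * y ^ k * (x * y)) * c ^ (k * (k - 1) / 2) := by
          rw [mul_assoc, ((hcom (x * y)).pow_left _).eq, ← mul_assoc]
      _ = (x ^ k * (y ^ k * x) * y) * c ^ (k * (k - 1) / 2) := by simp only [mul_assoc]
      _ = (x ^ k * (x * (y ^ k * y)) * c ^ k) * c ^ (k * (k - 1) / 2) := by
          rw [hpow k]
          simp only [mul_assoc]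
          rw [← mul_assoc (c ^ k) y, ((hcom y).pow_left k).eq]
          simp only [mul_assoc]
      _ = x ^ (k + 1) * y ^ (k + 1) * c ^ ((k + 1) * (k + 1 - 1) / 2) := by
          rw [hT, Nat.add_comm _ k, pow_add c, pow_succ x k, pow_succ y k]
          simp only [mul_assoc]

end Cfsg.Agent.S0841
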