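import Cfsg.Statements.S0843
import Cfsg.Agent.Lib.ZStar.QuaternionDerived

set_option autoImplicit false
open Cfsg

namespace Cfsg.Agent.S0843

/-- Suppose a Sylow 2-subgroup S of the finite group G is generalized quaternion of order at least 16; let D be the commutator subgroup of S and X the set of elements of the centralizer of D whose order is divisible by the order of D. Then D is contained in the cyclic subgroup generated by any element of X; an element of G conjugating some element of X into the centralizer of D normalizes D; and the normalizer of D maps X to itself under conjugation. -/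
theorem result {G : Type*} [Group G] [Finite G] (S : Sylow 2 G) (n : ℕ) (e : (S : Subgroup G) ≃* QuaternionGroup (2 ^ (n + 2))) (D : Subgroup G) (hD : D = ⁅(S : Subgroup G), (S : Subgroup G)⁆) : (∀ y : G, y ∈ Subgroup.centralizer (D : Set G) → Nat.card D ∣ orderOf y → D ≤ Subgroup.zpowers y) ∧ (∀ g y : G, y ∈ Subgroup.centralizer (D : Set G) → Nat.card D ∣ orderOf y → g * y * g⁻¹ ∈ Subgroup.centralizer (D : Set G) → g ∈ Subgroup.normalizer (D : Set G)) ∧ (∀ g y : G, g ∈ Subgroup.normalizer (D : Set G) → y ∈ Subgroup.centralizer (D : Set G) → Nat.card D ∣ orderOf y → g * y * g⁻¹ ∈ Subgroup.centralizer (D : Set G) ∧ Nat.card D ∣ orderOf (g * y * g⁻¹)) := by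
  classical
  obtain ⟨a, -, hD', hoa, -, -, hconj⟩ := Cfsg.Lib.ZStar.quaternion_derived_local S e
  rw [hD'] at hD
  subst hD
  have hoa2 : orderOf (a ^ 2) = 2 ^ (n + 2) := by
    rw [orderOf_pow_of_dvd two_ne_zero (hoa ▸ dvd_pow_self 2 (by omega)), hoa, pow_succ,
      Nat.mul_div_cancel _ two_pos]
  have hcD : Nat.card (Subgroup.zpowers (a ^ 2)) = 2 ^ (n + 2) := by rw [Nat.card_zpowers, hoa2]
  set C := Subgroup.centralizer (Subgroup.zpowers (a ^ 2) : Set G) with hC
  -- the subgroup of order |D| in a cyclic subgroup of C is D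
  have key : ∀ y : G, y ∈ C → Nat.card (Subgroup.zpowers (a ^ 2)) ∣ orderOf y →
      Subgroup.zpowers (a ^ 2) = Subgroup.zpowers (y ^ (orderOf y / 2 ^ (n + 2))) := by
    intro y hy hdvd
    rw [hcD] at hdvd
    obtain ⟨q, hq⟩ := hdvd
    have hq0 : q ≠ 0 := fun h => (orderOf_pos y).ne' (by rw [hq, h, mul_zero])
    rw [hq, Nat.mul_div_cancel_left _ (Nat.two_pow_pos _)]
    have hb : orderOf (y ^ q) = 2 ^ (n + 2) := by
      rw [orderOf_pow_of_dvd hq0 (hq ▸ dvd_mul_left q _), hq,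
        Nat.mul_div_cancel _ (Nat.pos_of_ne_zero hq0)]
    obtain ⟨c, hc, hcm⟩ := hconj (y ^ q) (C.pow_mem hy q) (n + 2) hb
    obtain ⟨i, hi⟩ := Subgroup.mem_zpowers_iff.1 hcm
    have h1 : (a ^ i) ^ (2 ^ (n + 2)) = 1 := by
      rw [hi, conj_pow, ← hb, pow_orderOf_eq_one, mul_one, mul_inv_cancel]
    rw [← zpow_natCast, ← zpow_mul, ← orderOf_dvd_iff_zpow_eq_one, hoa,
      show n + 3 = 1 + (n + 2) by omega, pow_add] at h1
    push_cast at h1
    rw [Int.mul_dvd_mul_iff_right (pow_ne_zero _ two_ne_zero)] at h1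
    obtain ⟨j, rfl⟩ := h1
    have hmem : a ^ (2 * j) ∈ Subgroup.zpowers (a ^ 2) := ⟨j, by
      show (a ^ 2) ^ j = a ^ (2 * j)
      rw [zpow_mul, show (2 : ℤ) = ((2 : ℕ) : ℤ) from rfl, zpow_natCast]⟩
    have h3 : y ^ q ∈ Subgroup.zpowers (a ^ 2) := by
      have h4 : c⁻¹ * (a ^ (2 * j)) * c = a ^ (2 * j) := by
        have h5 := Subgroup.mem_centralizer_iff.1 hc _ hmem
        rw [mul_assoc, h5, inv_mul_cancel_left]
      have h6 : y ^ q = a ^ (2 * j) := by rw [← h4, hi]; group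
      rw [h6]; exact hmem
    exact (Subgroup.eq_of_le_of_card_ge (Subgroup.zpowers_le.2 h3)
      (by rw [hcD, Nat.card_zpowers, hb])).symm
  refine ⟨fun y hy hdvd => ?_, fun g y hy hdvd hgy => ?_, fun g y hg hy hdvd => ?_⟩
  · rw [key y hy hdvd]
    exact Subgroup.zpowers_le.2 (pow_mem (Subgroup.mem_zpowers y) _)
  · have h1 := key y hy hdvd
    have h2 := key (g * y * g⁻¹) hgy (by rw [Cfsg.Lib.Invol.orderOf_conj_eq]; exact hdvd)
    rw [Cfsg.Lib.Invol.orderOf_conj_eq, conj_pow] at h2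
    have h3 : (Subgroup.zpowers (a ^ 2)).map (MulAut.conj g).toMonoidHom =
        Subgroup.zpowers (a ^ 2) := by
      rw [h1, MonoidHom.map_zpowers]
      exact h2.symm.trans h1
    refine Subgroup.mem_normalizer_iff.2 fun w => ⟨fun hw => h3 ▸ ⟨w, hw, rfl⟩, fun hw => ?_⟩
    rw [← h3] at hw
    obtain ⟨v, hv, hvw⟩ := hw
    have : v = w := (MulAut.conj g).injective (hvw : g * v * g⁻¹ = g * w * g⁻¹)
    exact this ▸ hv
  · refine ⟨Subgroup.mem_centralizer_iff.2 fun w hw => ?_,
      by rw [Cfsg.Lib.Invol.orderOf_conj_eq]; exact hdvd⟩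
    have h1 : g⁻¹ * w * g ∈ Subgroup.zpowers (a ^ 2) := by
      have h := (Subgroup.mem_normalizer_iff.1 (inv_mem hg) w).1 hw
      rwa [inv_inv] at h
    have h2 := Subgroup.mem_centralizer_iff.1 hy _ h1
    calc w * (g * y * g⁻¹) = g * ((g⁻¹ * w * g) * y) * g⁻¹ := by group
      _ = g * (y * (g⁻¹ * w * g)) * g⁻¹ := by rw [h2]
      _ = g * y * g⁻¹ * w := by group

end Cfsg.Agent.S0843
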