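import Cfsg.Statements.S0845
import Cfsg.Agent.Lib.ZStar.QuaternionLarge
import Cfsg.Agent.Lib.Char.Linear
import Cfsg.Agent.Lib.Char.Quotient

set_option autoImplicit false
open Cfsg

namespace Cfsg.Agent.S0845

/-- Suppose a Sylow 2-subgroup S of the finite group G is generalized quaternion of order at least 16. Then G has a normal subgroup M of even order such that G / M is non-abelian, that is, M does not contain the commutator subgroup of G. -/
theorem result {G : Type*} [Group G] [Finite G] (S : Sylow 2 G) (n : ℕ) (e : (S : Subgroup G) ≃* QuaternionGroup (2 ^ (n + 2))) : ∃ M : Subgroup G, M.Normal ∧ Even (Nat.card M) ∧ ¬ commutator G ≤ M := by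
  classical
  haveI := Fintype.ofFinite G
  obtain ⟨χ₁, χ₂, h1, -, hd, hv⟩ := Cfsg.Lib.ZStar.exists_pair_quaternion S e
  obtain ⟨a, y, ha, -, hoa, -, -, -, huniq⟩ := Cfsg.Lib.ZStar.exists_quaternion_generators S e
  have hz2 : orderOf (a ^ 2 ^ (n + 2)) = 2 := by
    rw [orderOf_pow_of_dvd (Nat.two_pow_pos _).ne' (hoa ▸ pow_dvd_pow 2 (by omega)), hoa, pow_succ,
      Nat.mul_div_cancel_left _ (Nat.two_pow_pos _)]
  have hz : Cfsg.IsIsolatedInvolution (a ^ 2 ^ (n + 2)) :=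
    Cfsg.Lib.Invol.isolated_of_sylow S hz2 fun g hg =>
      huniq _ hg (by rw [Cfsg.Lib.Invol.orderOf_conj_eq, hz2])
  have hN := Cfsg.Lib.Char.charKer_normal χ₁.2.isCharacter
  have hzN : a ^ 2 ^ (n + 2) ∈ Cfsg.Lib.Char.charKer χ₁.2.isCharacter :=
    (Cfsg.Lib.Char.mem_charKer _).2 (Cfsg.Lib.ZStar.ker_of_pair hz hd hv)
  refine ⟨_, hN, even_iff_two_dvd.2 ?_, fun hle => ?_⟩
  · exact hz2 ▸ Subgroup.orderOf_dvd_natCard _ hzN
  · have hcomm : ∀ g h : G, (χ₁ : G → ℂ) (g * h * g⁻¹ * h⁻¹) = (χ₁ : G → ℂ) 1 := fun g h =>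
      (Cfsg.Lib.Char.mem_charKer χ₁.2.isCharacter).1
        (hle (Subgroup.commutator_mem_commutator (Subgroup.mem_top g) (Subgroup.mem_top h)))
    obtain ⟨φ, hφi, hφ⟩ := Cfsg.Lib.Char.exists_deflate_irr (commutator G) χ₁.2
      (fun c hc => (Cfsg.Lib.Char.mem_charKer χ₁.2.isCharacter).1 (hle hc))
    have hab : ∀ u v : G ⧸ commutator G, u * v = v * u := fun u v => by
      obtain ⟨g, rfl⟩ := QuotientGroup.mk_surjective u
      obtain ⟨h, rfl⟩ := QuotientGroup.mk_surjective v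
      rw [← QuotientGroup.mk_mul, ← QuotientGroup.mk_mul, QuotientGroup.eq]
      have e := Subgroup.commutator_mem_commutator (Subgroup.mem_top h⁻¹) (Subgroup.mem_top g⁻¹)
      rw [commutatorElement_def, inv_inv, inv_inv] at e
      rw [mul_inv_rev, show h⁻¹ * g⁻¹ * (h * g) = h⁻¹ * g⁻¹ * h * g by group]
      exact e
    obtain ⟨d, hd2⟩ : ∃ d : ℕ, (χ₂ : G → ℂ) 1 = d :=
      ⟨_, χ₂.2.isCharacter.apply_one_eq_charDegree⟩
    have hone : (χ₁ : G → ℂ) 1 = 1 := by
      rw [← hφ]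
      exact Cfsg.Lib.Char.degree_eq_one_of_comm hab hφi
    rw [hone, hd2] at hd
    have hd0 : d = 0 := by exact_mod_cast (by linear_combination -hd : (d : ℂ) = 0)
    exact χ₂.2.apply_one_ne_zero (by rw [hd2, hd0, Nat.cast_zero])

end Cfsg.Agent.S0845
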