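import Cfsg.Statements.S0846
import Cfsg.Agent.Lib.ZStar.Main
-- import your own Cfsg.Agent.* helpers here

set_option autoImplicit false
open Cfsg

namespace Cfsg.Agent.S0846

/-- Suppose a Sylow 2-subgroup S of the finite group G is generalized quaternion of order at least 16. Then every Sylow 2-subgroup of the subgroup generated by the involutions of G is cyclic. -/
theorem result {G : Type*} [Group G] [Finite G] (S : Sylow 2 G) (n : ℕ) (e : (S : Subgroup G) ≃* QuaternionGroup (2 ^ (n + 2))) (Q : Sylow 2 ↥(Subgroup.closure {g : G | orderOf g = 2})) : IsCyclic Q := by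
  haveI : Fact (Nat.Prime 2) := ⟨Nat.prime_two⟩
  obtain ⟨a, y, haS, -, hoa, -, -, -, hinv⟩ := Lib.ZStar.exists_quaternion_generators (n := n + 2) S e
  set z := a ^ (2 ^ (n + 2)) with hz
  have hoz : orderOf z = 2 := by
    rw [hz, orderOf_pow_of_dvd (pow_ne_zero _ two_ne_zero) (by
      rw [hoa]; exact pow_dvd_pow 2 (by omega)), hoa, pow_succ _ (n + 2),
      Nat.mul_div_cancel_left _ (Nat.two_pow_pos _)]
  have hiso := Lib.ZStar.isolated_of_unique_involution S hoz fun x hx h => hinv x hx h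
  set O := oddCore G with hO
  have hinvol : ∀ x : G, orderOf x = 2 → (QuotientGroup.mk x : G ⧸ O) = QuotientGroup.mk z := by
    intro x hx
    obtain ⟨h, hh⟩ := Lib.Invol.exists_conj_mem_sylow S
      (IsPGroup.of_card (n := 1) (by rw [Nat.card_zpowers, hx, pow_one]) :
        IsPGroup 2 (Subgroup.zpowers x))
    have h1 := hinv _ (hh x (Subgroup.mem_zpowers x)) (by rw [Lib.Invol.orderOf_conj_eq, hx])
    have h2 : z * h⁻¹ * z⁻¹ * (h⁻¹)⁻¹ ∈ O := Lib.ZStar.zStarHolds G z hiso h⁻¹
    have h3 : x = h⁻¹ * z * h := by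
      rw [show z = h * x * h⁻¹ from h1.symm]; group
    have h4 := O.inv_mem h2
    rw [QuotientGroup.eq, h3]
    convert h4 using 1
    simp only [mul_inv_rev, inv_inv, Lib.Invol.inv_eq_self hiso.1, mul_assoc]
  set L := (Subgroup.zpowers (QuotientGroup.mk z : G ⧸ O)).comap (QuotientGroup.mk' O) with hL
  have hKL : Subgroup.closure {g : G | orderOf g = 2} ≤ L := (Subgroup.closure_le _).2 fun x hx => by
    show QuotientGroup.mk' O x ∈ Subgroup.zpowers _
    rw [QuotientGroup.mk'_apply, hinvol x hx]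
    exact Subgroup.mem_zpowers _
  obtain ⟨k, hk⟩ := Q.2.exists_card_eq
  have hdvd : 2 ^ k ∣ Nat.card O * 2 := by
    rw [← hk]
    refine (Subgroup.card_subgroup_dvd_card _).trans ((Subgroup.card_dvd_of_le hKL).trans ?_)
    rw [hL, Lib.Core.card_comap_eq _ (QuotientGroup.mk'_surjective _), QuotientGroup.ker_mk',
      Nat.card_zpowers]
    exact mul_dvd_mul_left _ (orderOf_dvd_of_pow_eq_one (by
      rw [← QuotientGroup.mk_pow, show z ^ 2 = 1 by rw [pow_two, Lib.Invol.inv_mul_self hiso.1],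
        QuotientGroup.mk_one]))
  have hk1 : k ≤ 1 := by
    by_contra hk2
    have h4 : 2 * 2 ∣ Nat.card O * 2 := (pow_dvd_pow 2 (show 2 ≤ k by omega)).trans hdvd
    exact Nat.not_even_iff_odd.2 Lib.ZStar.odd_card_oddCore
      (even_iff_two_dvd.2 (Nat.dvd_of_mul_dvd_mul_right two_pos h4))
  rcases Nat.le_one_iff_eq_zero_or_eq_one.1 hk1 with rfl | rfl
  · haveI := (Nat.card_eq_one_iff_unique.1 (hk.trans (pow_zero 2))).1
    exact isCyclic_of_subsingleton
  · exact isCyclic_of_prime_card (hk.trans (pow_one 2))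

end Cfsg.Agent.S0846
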