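import Cfsg.Statements.S0849
import Cfsg.Agent.Lib.Char.Induced

set_option autoImplicit false
open Cfsg

namespace Cfsg.Agent.S0849

/-- Let H be a subgroup of a finite group G and S a subset of H that is mapped to itself under conjugation by H, is disjoint from its conjugate by any element outside H, and is closed under inverses. Let φ be a class function of H vanishing on H away from S, and let u, v be involutions of G. Then the sum of the induced function of φ over all products a * b with a conjugate to u and b conjugate to v equals the index of H times the sum of φ (a * b) over such pairs with a and b in H. -/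
theorem result {G : Type*} [Group G] [Fintype G] (H : Subgroup G) (S : Set G) (hSH : S ⊆ H) (hHS : ∀ h ∈ H, ∀ s ∈ S, h * s * h⁻¹ ∈ S) (hTI : ∀ g : G, g ∉ H → ∀ s ∈ S, g * s * g⁻¹ ∉ S) (hinv : ∀ s ∈ S, s⁻¹ ∈ S) (φ : H → ℂ) (hφ : Cfsg.IsClassFunction H φ) (hφS : ∀ x : H, (x : G) ∉ S → φ x = 0) (u v : G) (hu : orderOf u = 2) (hv : orderOf v = 2) : ∑ᶠ p ∈ {p : G × G | IsConj u p.1 ∧ IsConj v p.2}, Cfsg.indFun H φ (p.1 * p.2) = (H.index : ℂ) * ∑ᶠ p ∈ {p : H × H | IsConj u (p.1 : G) ∧ IsConj v (p.2 : G)}, φ (p.1 * p.2) := by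
  classical
  haveI := Fintype.ofFinite H
  set P : Finset (G × G) := Finset.univ.filter fun p => IsConj u p.1 ∧ IsConj v p.2 with hP
  set Q : Finset (H × H) :=
    Finset.univ.filter fun p => IsConj u (p.1 : G) ∧ IsConj v (p.2 : G) with hQ
  rw [finsum_mem_eq_finite_toFinset_sum _ (Set.toFinite _),
    finsum_mem_eq_finite_toFinset_sum _ (Set.toFinite _),
    show (Set.toFinite {p : G × G | IsConj u p.1 ∧ IsConj v p.2}).toFinset = P by ext; simp [hP],
    show (Set.toFinite {p : H × H | IsConj u (p.1 : G) ∧ IsConj v (p.2 : G)}).toFinset = Q by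
      ext; simp [hQ]]
  have hsq : ∀ {a w : G}, orderOf w = 2 → IsConj w a → a * a = 1 := by
    intro a w hw ha
    obtain ⟨c, rfl⟩ := isConj_iff.mp ha
    rw [show c * w * c⁻¹ * (c * w * c⁻¹) = c * w ^ 2 * c⁻¹ by rw [pow_two]; group, ← hw,
      pow_orderOf_eq_one, mul_one, mul_inv_cancel]
  have hconj : ∀ x : G, ∑ p ∈ P, Cfsg.extendByZero H φ (x⁻¹ * (p.1 * p.2) * x) =
      ∑ p ∈ P, Cfsg.extendByZero H φ (p.1 * p.2) := by
    intro x
    refine Finset.sum_nbij' (fun p => (x⁻¹ * p.1 * x, x⁻¹ * p.2 * x))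
      (fun p => (x * p.1 * x⁻¹, x * p.2 * x⁻¹)) ?_ ?_ ?_ ?_ ?_
    · intro p hp
      simp only [hP, Finset.mem_coe, Finset.mem_filter, Finset.mem_univ, true_and] at hp ⊢
      exact ⟨hp.1.trans (isConj_iff.mpr ⟨x⁻¹, by group⟩),
        hp.2.trans (isConj_iff.mpr ⟨x⁻¹, by group⟩)⟩
    · intro p hp
      simp only [hP, Finset.mem_coe, Finset.mem_filter, Finset.mem_univ, true_and] at hp ⊢
      exact ⟨hp.1.trans (isConj_iff.mpr ⟨x, rfl⟩), hp.2.trans (isConj_iff.mpr ⟨x, rfl⟩)⟩
    · intro p _; ext <;> group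
    · intro p _; ext <;> group
    · intro p _; congr 1; group
  simp only [Cfsg.indFun]
  rw [← Finset.mul_sum, Finset.sum_comm, Finset.sum_congr rfl fun x _ => hconj x, Finset.sum_const,
    Finset.card_univ, nsmul_eq_mul, ← Nat.card_eq_fintype_card, ← mul_assoc,
    Cfsg.Lib.Char.card_inv_mul_card]
  congr 1
  refine (Finset.sum_of_injOn (fun p : H × H => ((p.1 : G), (p.2 : G))) ?_ ?_ ?_ ?_).symm
  · intro p _ q _ h
    simp only [Prod.mk.injEq] at h
    exact Prod.ext (Subtype.ext h.1) (Subtype.ext h.2)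
  · intro p hp
    simpa [hP, hQ] using hp
  · rintro ⟨a, b⟩ hab hni
    simp only [hP, Finset.mem_filter, Finset.mem_univ, true_and] at hab
    by_cases hS : a * b ∈ S
    · exfalso
      have ha : a ∈ H := by
        by_contra ha
        refine hTI a ha _ hS ?_
        rw [show a * (a * b) * a⁻¹ = (a * a) * b * a⁻¹ by group, hsq hu hab.1, one_mul]
        have := hinv _ hS
        rwa [mul_inv_rev, inv_eq_of_mul_eq_one_right (hsq hv hab.2)] at this
      have hb : b ∈ H := by
        have := H.mul_mem (H.inv_mem ha) (hSH hS)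
        rwa [inv_mul_cancel_left] at this
      exact hni ⟨(⟨a, ha⟩, ⟨b, hb⟩), Finset.mem_filter.mpr ⟨Finset.mem_univ _, hab⟩, rfl⟩
    · by_cases hm : a * b ∈ H
      · rw [Cfsg.Lib.Char.extendByZero_of_mem H φ hm]
        exact hφS _ hS
      · exact Cfsg.Lib.Char.extendByZero_of_notMem H φ hm
  · intro p _
    rw [← Subgroup.coe_mul, Cfsg.Lib.Char.extendByZero_coe]

end Cfsg.Agent.S0849
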