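import Cfsg.Statements.S0857
import Cfsg.Agent.Lib.Char.AbelianInertia

set_option autoImplicit false
set_option linter.style.haveILetI false
open Cfsg Cfsg.Lib.Char

namespace Cfsg.Agent.S0857

section
variable {G : Type*} [Group G] (K L : Subgroup G) [hK : K.Normal] [hL : L.Normal]

/-- Conjugation by an element of the big group. -/
def tw (g : G) (φ : L.subgroupOf K → ℂ) : L.subgroupOf K → ℂ := fun h =>
  φ ⟨⟨g * (h : K) * g⁻¹, hK.conj_mem _ (h : K).2 g⟩,
    Subgroup.mem_subgroupOf.mpr (hL.conj_mem _ (Subgroup.mem_subgroupOf.mp h.2) g)⟩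

theorem tw_tw (a b : G) (φ : L.subgroupOf K → ℂ) : tw K L b (tw K L a φ) = tw K L (a * b) φ :=
  funext fun h => congrArg φ (Subtype.ext (Subtype.ext (by simp [mul_assoc])))

theorem tw_one (φ : L.subgroupOf K → ℂ) : tw K L 1 φ = φ :=
  funext fun h => congrArg φ (Subtype.ext (Subtype.ext (by simp)))

theorem tw_coe [Fintype K] (k : K) (φ : L.subgroupOf K → ℂ) :
    tw K L (k : G) φ = conjTwist (L.subgroupOf K) φ k :=
  funext fun h => congrArg φ (Subtype.ext (Subtype.ext rfl))

end

theorem result {G : Type*} [Group G] [Fintype G] (K L : Subgroup G) [hK : K.Normal] [L.Normal] (hLK : L < K) (hchief : ∀ M : Subgroup G, M.Normal → L ≤ M → M ≤ K → M = L ∨ M = K) (hab : ⁅K, K⁆ ≤ L) (ϑ : K → ℂ) (hϑ : Cfsg.IsIrrCharacter K ϑ) (hinv : ∀ (g : G) (n : K), ϑ ⟨g * n * g⁻¹, hK.conj_mem (n : G) n.2 g⟩ = ϑ n) : Cfsg.IsIrrCharacter L (fun x : L => ϑ ⟨(x : G), hLK.le x.2⟩) ∨ (∃ (φ : L → ℂ) (e : ℕ), Cfsg.IsIrrCharacter L φ ∧ (fun x : L => ϑ ⟨(x : G), hLK.le x.2⟩) = (e : ℂ) • φ ∧ e ^ 2 = L.relIndex K)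 ∨ (∃ F : Finset (L → ℂ), (∀ φ ∈ F, Cfsg.IsIrrCharacter L φ) ∧ F.card = L.relIndex K ∧ (fun x : L => ϑ ⟨(x : G), hLK.le x.2⟩) = ∑ φ ∈ F, φ) := by
  classical
  have hLn : L.Normal := inferInstance
  haveI := Fintype.ofFinite K
  set H := L.subgroupOf K with hH
  haveI : H.Normal := hLn.subgroupOf K
  haveI := Fintype.ofFinite H
  have habK : ∀ x y : K, x * y * x⁻¹ * y⁻¹ ∈ H := fun x y =>
    Subgroup.mem_subgroupOf.mpr (hab (Subgroup.commutator_mem_commutator x.2 y.2))
  let e0 : L ≃* H := (Subgroup.subgroupOfEquivOfLe hLK.le).symm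
  have htoL : ∀ φ : H → ℂ, IsIrrCharacter H φ → IsIrrCharacter L (fun x => φ (e0 x)) :=
    fun φ hφ => isIrrCharacter_comp_equiv e0 hφ
  have hresL : ∀ x : L, ϑ ⟨(x : G), hLK.le x.2⟩ = ϑ (e0 x : K) := fun x => rfl
  obtain ⟨φ, hφc⟩ := exists_irr_constituent_res H hϑ
  have hφ : IsIrrCharacter H (φ : H → ℂ) := φ.2
  obtain ⟨m, hm⟩ := (hϑ.isCharacter.comp H.subtype).exists_nat_classInner hφ.isCharacter
  replace hm : classInner (fun h : H => ϑ h) (φ : H → ℂ) = (m : ℂ) := hm
  have hm0 : m ≠ 0 := fun h => hφc (by rw [hm, h, Nat.cast_zero])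
  -- the inertia group is normal in `G`
  have htwc : ∀ g : G, ∃ k : K, tw K L g (φ : H → ℂ) = conjTwist H (φ : H → ℂ) k := by
    intro g
    let c : H ≃* H :=
      { toFun := fun h => ⟨⟨g * (h : K) * g⁻¹, hK.conj_mem _ (h : K).2 g⟩,
          Subgroup.mem_subgroupOf.mpr (hLn.conj_mem _ (Subgroup.mem_subgroupOf.mp h.2) g)⟩
        invFun := fun h => ⟨⟨g⁻¹ * (h : K) * g⁻¹⁻¹, hK.conj_mem _ (h : K).2 g⁻¹⟩,
          Subgroup.mem_subgroupOf.mpr (hLn.conj_mem _ (Subgroup.mem_subgroupOf.mp h.2) g⁻¹)⟩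
        left_inv := fun h => Subtype.ext (Subtype.ext (by simp [mul_assoc]))
        right_inv := fun h => Subtype.ext (Subtype.ext (by simp [mul_assoc]))
        map_mul' := fun a b => Subtype.ext (Subtype.ext (by simp [mul_assoc])) }
    have hirr : IsIrrCharacter H (tw K L g (φ : H → ℂ)) := isIrrCharacter_comp_equiv c hφ
    have hne : classInner (fun h : H => ϑ h) (tw K L g (φ : H → ℂ)) ≠ 0 := by
      have h1 : (fun h : H => ϑ h) = fun h : H => (fun h : H => ϑ h) (c h) :=
        funext fun h => (hinv g h).symm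
      rw [h1]
      exact (classInner_comp_equiv c (fun h : H => ϑ h) (φ : H → ℂ)) ▸ hφc
    obtain ⟨k, hk⟩ := (mem_twistOrbit H).mp (mem_twistOrbit_of_constituent H hϑ hφ hirr hφc hne)
    exact ⟨k, hk.symm⟩
  set T := inertia H (φ : H → ℂ) with hT
  have hHT : H ≤ T := le_inertia H hφ.isClassFunction
  have hTn : ∀ k t : K, t ∈ T → k * t * k⁻¹ ∈ T := fun k t ht => by
    rw [show k * t * k⁻¹ = (k * t * k⁻¹ * t⁻¹) * t by group]
    exact T.mul_mem (hHT (habK k t)) ht
  haveI hMn : (T.map K.subtype).Normal := by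
    constructor
    rintro - ⟨t, ht, rfl⟩ g
    refine ⟨⟨g * t * g⁻¹, hK.conj_mem _ t.2 g⟩, ?_, rfl⟩
    show conjTwist H (φ : H → ℂ) _ = _
    obtain ⟨k, hk⟩ := htwc g
    rw [← tw_coe]
    show tw K L (g * t * g⁻¹) (φ : H → ℂ) = _
    have h1 : conjTwist H (conjTwist H (φ : H → ℂ) k) t = conjTwist H (φ : H → ℂ) k := by
      rw [conjTwist_conjTwist, show k * t = (k * t * k⁻¹) * k by group, ← conjTwist_conjTwist,
        (mem_inertia H).mp (hTn k t ht)]
    rw [← tw_tw, ← tw_tw, hk, tw_coe, h1, ← hk, tw_tw, mul_inv_cancel, tw_one]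
  rcases hchief (T.map K.subtype) hMn
      (fun x hx => ⟨⟨x, hLK.le hx⟩, hHT (Subgroup.mem_subgroupOf.mpr hx), rfl⟩)
      (Subgroup.map_subtype_le T) with hM | hM
  · -- inertia group equal to `L`
    right; right
    have hTH : T = H := le_antisymm (fun t ht => Subgroup.mem_subgroupOf.mpr
      (hM ▸ Subgroup.mem_map_of_mem K.subtype ht)) hHT
    have hdeg := clifford_degree H hϑ hφ hφc
    rw [← hT, hTH, hm] at hdeg
    have hle := degree_le_of_constituent hϑ (isCharacter_indFun H hφ.isCharacter) (by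
      rw [classInner_indFun H _ hϑ.isClassFunction, ← classInner_conj_symm]
      exact fun h => hφc ((map_eq_zero _).mp h))
    obtain ⟨d, hd0, hd⟩ := hφ.exists_degree
    rw [indFun_apply_one, hdeg, hd] at hle
    have hle' : ((m * H.index * d : ℕ) : ℝ) ≤ ((H.index * d : ℕ) : ℝ) := by
      push_cast
      simpa using hle
    have hm1 : m = 1 := by
      have h1 : m * (H.index * d) ≤ 1 * (H.index * d) := by
        rw [one_mul, ← mul_assoc]; exact_mod_cast hle'
      have h2 : 0 < H.index * d :=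
        Nat.mul_pos (Nat.pos_of_ne_zero Subgroup.index_ne_zero_of_finite) hd0
      have := Nat.le_of_mul_le_mul_right h1 h2
      omega
    have hres := clifford_res H hϑ hφ hφc
    rw [hm, hm1, Nat.cast_one, one_smul] at hres
    have hinj : Function.Injective (fun (ψ : H → ℂ) (x : L) => ψ (e0 x)) := fun a b h =>
      funext fun y => by simpa using congrFun h (e0.symm y)
    refine ⟨(twistOrbit H (φ : H → ℂ)).image fun ψ => fun x : L => ψ (e0 x), ?_, ?_, ?_⟩
    · intro ψ hψ
      obtain ⟨ψ', hψ', rfl⟩ := Finset.mem_image.mp hψ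
      exact htoL _ (isIrrCharacter_of_mem_twistOrbit H hφ hψ')
    · rw [Finset.card_image_of_injective _ hinj, card_twistOrbit, ← hT, hTH]
      rfl
    · rw [Finset.sum_image hinj.injOn]
      funext x
      rw [hresL]
      have h := congrFun hres (e0 x)
      rw [Finset.sum_apply] at h ⊢
      exact h
  · -- invariant constituent
    have hφinv : ∀ k : K, conjTwist H (φ : H → ℂ) k = φ := by
      intro k
      obtain ⟨t, ht, hte⟩ : (k : G) ∈ T.map K.subtype := by rw [hM]; exact k.2
      exact (Subtype.ext hte : t = k) ▸ ht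
    obtain ⟨e, C, he0, hC, hcard, hind, hres, -⟩ :=
      indFun_invariant_abelian H hφ hφinv habK
    have hmem : ∀ ψ : K → ℂ, IsIrrCharacter K ψ → classInner (fun h : H => ψ h) (φ : H → ℂ) ≠ 0 →
        ψ ∈ C := by
      intro ψ hψ hne
      by_contra hnot
      apply hne
      rw [← classInner_conj_symm, ← classInner_indFun H _ hψ.isClassFunction, hind,
        classInner_smul_left, classInner_sum_left,
        Finset.sum_eq_zero fun χ hχ => classInner_irr_ne (hC χ hχ) hψ fun h => hnot (h ▸ hχ),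
        mul_zero, map_zero]
    have hϑres := hres ϑ (hmem ϑ hϑ hφc)
    have hrestr : (fun x : L => ϑ ⟨(x : G), hLK.le x.2⟩) = (e : ℂ) • fun x => (φ : H → ℂ) (e0 x) :=
      funext fun x => (hresL x).trans (congrFun hϑres (e0 x))
    -- linear characters fixing `ϑ`
    let W : Subgroup K :=
      { carrier := {k | ∀ l : K →* ℂˣ, (∀ h : H, l h = 1) → (∀ y, ϑ y * (l y : ℂ) = ϑ y) → l k = 1}
        one_mem' := fun l _ _ => map_one l
        mul_mem' := fun {a b} ha hb l h1 h2 => by rw [map_mul, ha l h1 h2, hb l h1 h2, one_mul]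
        inv_mem' := fun {a} ha l h1 h2 => by rw [map_inv, ha l h1 h2, inv_one] }
    have hHW : H ≤ W := fun h hh l h1 _ => h1 ⟨h, hh⟩
    haveI hWn : (W.map K.subtype).Normal := by
      constructor
      rintro - ⟨w, hw, rfl⟩ g
      refine ⟨⟨g * w * g⁻¹, hK.conj_mem _ w.2 g⟩, fun l h1 h2 => ?_, rfl⟩
      have h3 := hw (l.comp (MulAut.conjNormal g : MulAut K).toMonoidHom) (fun h => by
        have h4 := h1 ⟨⟨g * (h : K) * g⁻¹, hK.conj_mem _ (h : K).2 g⟩,
          Subgroup.mem_subgroupOf.mpr (hLn.conj_mem _ (Subgroup.mem_subgroupOf.mp h.2) g)⟩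
        rw [MonoidHom.comp_apply]
        exact (congrArg l (Subtype.ext (MulAut.conjNormal_apply g _))).trans h4) (fun y => by
        have h4 := h2 ⟨g * y * g⁻¹, hK.conj_mem _ y.2 g⟩
        rw [hinv g y] at h4
        rw [MonoidHom.comp_apply]
        rw [show (MulAut.conjNormal g : MulAut K).toMonoidHom y = ⟨g * y * g⁻¹, hK.conj_mem _ y.2 g⟩
          from Subtype.ext (MulAut.conjNormal_apply g _)]
        exact h4)
      rw [MonoidHom.comp_apply] at h3
      rwa [show (MulAut.conjNormal g : MulAut K).toMonoidHom w = ⟨g * w * g⁻¹, hK.conj_mem _ w.2 g⟩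
          from Subtype.ext (MulAut.conjNormal_apply g _)] at h3
    rcases hchief (W.map K.subtype) hWn
        (fun x hx => ⟨⟨x, hLK.le hx⟩, hHW (Subgroup.mem_subgroupOf.mpr hx), rfl⟩)
        (Subgroup.map_subtype_le W) with hW | hW
    · right; left
      refine ⟨_, e, htoL _ hφ, hrestr, ?_⟩
      have hvan : ∀ k : K, k ∉ H → ϑ k = 0 := by
        intro k hk
        by_contra hne
        apply hk
        have hkW : k ∈ W := by
          intro l h1 h2
          exact Units.ext (mul_left_cancel₀ hne ((h2 k).trans (mul_one _).symm))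
        exact Subgroup.mem_subgroupOf.mpr (hW ▸ Subgroup.mem_map_of_mem K.subtype hkW)
      have hn := classInner_irr_self hϑ
      have hH0 : (Nat.card H : ℂ) ≠ 0 := card_cast_ne_zero
      have hn2 : classInner ((e : ℂ) • (φ : H → ℂ)) ((e : ℂ) • (φ : H → ℂ)) = (e : ℂ) ^ 2 := by
        rw [classInner_smul_left, classInner_smul_right, classInner_irr_self hφ,
          Complex.conj_natCast]
        ring
      rw [← hϑres] at hn2
      simp only [classInner] at hn hn2
      rw [← Finset.sum_subset (Finset.subset_univ (Finset.univ.filter (· ∈ H))) (fun x _ hx => by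
          rw [hvan x (by simpa using hx), zero_mul]),
        ← Finset.sum_subtype (Finset.univ.filter (· ∈ H)) (p := (· ∈ H)) (by simp)
          (fun x => ϑ x * starRingEnd ℂ (ϑ x)) |>.symm] at hn
      rw [inv_mul_eq_iff_eq_mul₀ card_cast_ne_zero, mul_one] at hn
      rw [inv_mul_eq_iff_eq_mul₀ hH0, hn, ← H.card_mul_index] at hn2
      push_cast at hn2
      have := mul_left_cancel₀ hH0 hn2
      exact_mod_cast this.symm
    · left
      have hstab : ∀ l : K →* ℂˣ, (∀ h : H, l h = 1) → (∀ y, ϑ y * (l y : ℂ) = ϑ y) → l = 1 := by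
        intro l h1 h2
        refine MonoidHom.ext fun k => ?_
        obtain ⟨w, hw, hwe⟩ : (k : G) ∈ W.map K.subtype := by rw [hW]; exact k.2
        rw [← (Subtype.ext hwe : w = k)]
        exact hw l h1 h2
      let Q := K ⧸ H
      letI : CommGroup Q :=
        { QuotientGroup.Quotient.group H with
          mul_comm := fun a b => QuotientGroup.induction_on a fun x =>
            QuotientGroup.induction_on b fun y => by
              rw [← QuotientGroup.mk_mul, ← QuotientGroup.mk_mul, QuotientGroup.eq]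
              have := habK y⁻¹ x⁻¹
              simpa [mul_assoc] using this }
      let f : (Q →* ℂˣ) → {ψ // ψ ∈ C} := fun l =>
        ⟨ϑ * fun k => ((l.comp (QuotientGroup.mk' H)) k : ℂ),
          hmem _ (isIrrCharacter_mul_linear hϑ _) (by
            have h1 : (fun h : H => (ϑ * fun k => ((l.comp (QuotientGroup.mk' H)) k : ℂ)) h) =
                fun h : H => ϑ h := funext fun h => by
              have : (QuotientGroup.mk' H) (h : K) = 1 := (QuotientGroup.eq_one_iff _).mpr h.2
              rw [Pi.mul_apply, MonoidHom.comp_apply, this, map_one, Units.val_one, mul_one]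
            rw [h1]; exact hφc)⟩
      have hf : Function.Injective f := by
        intro a b hab'
        have h := congrArg Subtype.val hab'
        let l : K →* ℂˣ := (a / b).comp (QuotientGroup.mk' H)
        have hl : l = 1 := hstab l (fun h => by
            show (a / b) ((QuotientGroup.mk' H) (h : K)) = 1
            rw [show (QuotientGroup.mk' H) (h : K) = 1 from (QuotientGroup.eq_one_iff _).mpr h.2,
              map_one]) (fun y => by
          have hy := congrFun h y
          change ϑ y * ((a ((QuotientGroup.mk' H) y) : ℂˣ) : ℂ) = ϑ y * ((b ((QuotientGroup.mk' H) y) : ℂˣ) : ℂ) at hy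
          show ϑ y * (((a / b) ((QuotientGroup.mk' H) y) : ℂˣ) : ℂ) = ϑ y
          rw [MonoidHom.div_apply, Units.val_div_eq_div_val, mul_div_assoc', hy,
            mul_div_assoc, div_self (Units.ne_zero _), mul_one])
        refine MonoidHom.ext fun q => QuotientGroup.induction_on q fun y => ?_
        have h5 : (a / b) ((QuotientGroup.mk' H) y) = 1 := congrArg (fun F : K →* ℂˣ => F y) hl
        rw [MonoidHom.div_apply, div_eq_one] at h5
        exact h5
      have hcount := Nat.card_le_card_of_injective f hf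
      rw [card_monoidHom_units, Nat.card_eq_finsetCard, ← Subgroup.index_eq_card, ← hcard] at hcount
      have hC0 : 0 < C.card := Finset.card_pos.mpr ⟨ϑ, hmem ϑ hϑ hφc⟩
      have he1 : e = 1 := by
        have : e ^ 2 ≤ 1 := Nat.le_of_mul_le_mul_right (by rw [one_mul]; exact hcount) hC0
        nlinarith
      rw [hrestr, he1, Nat.cast_one, one_smul]
      exact htoL _ hφ

end Cfsg.Agent.S0857
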