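import Cfsg.Statements.S0858
import Cfsg.Agent.S0857
import Cfsg.Agent.Lib.Char.Clifford2

set_option autoImplicit false
set_option linter.style.haveILetI false
open Cfsg Cfsg.Lib.Char

namespace Cfsg.Agent.S0858

universe u

def Chief {G : Type u} [Group G] (N : Subgroup G) : Prop :=
  ∀ (H K L : Subgroup G), N ≤ L → L < K → K ≤ H → (∀ h ∈ H, ∀ k ∈ K, h * k * h⁻¹ ∈ K) →
    (∀ h ∈ H, ∀ l ∈ L, h * l * h⁻¹ ∈ L) →
    (∀ M : Subgroup G, L ≤ M → M ≤ K → (∀ h ∈ H, ∀ m ∈ M, h * m * h⁻¹ ∈ M) → M = L ∨ M = K) →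
    ¬ IsSquare (L.relIndex K)

def RelM {G : Type u} [Group G] [Fintype G] (N : Subgroup G) (χ : G → ℂ) : Prop :=
  ∃ (H : Subgroup G) (hNH : N ≤ H) (ψ : H → ℂ), IsIrrCharacter H ψ ∧ indFun H ψ = χ ∧
    IsIrrCharacter N (fun n : N => ψ ⟨(n : G), hNH n.2⟩)

theorem main : ∀ (m : ℕ) {G : Type u} [Group G] [Fintype G] (N : Subgroup G) [N.Normal],
    Nat.card G = m → (∃ k, derivedSeries G k ≤ N) → Chief N →
    ∀ χ : G → ℂ, IsIrrCharacter G χ → RelM N χ := by
  intro m
  induction m using Nat.strong_induction_on with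
  | _ m IH =>
  intro G _ _ N hN hm hder hchief χ hχ
  classical
  haveI := Fintype.ofFinite N
  by_cases hirr : IsIrrCharacter N fun n : N => χ n
  · refine ⟨⊤, le_top, fun x => χ x, ?_, ?_, hirr⟩
    · exact isIrrCharacter_comp_equiv Subgroup.topEquiv hχ
    · funext g
      have hG : (Nat.card G : ℂ) ≠ 0 := card_cast_ne_zero
      simp only [indFun]
      rw [Finset.sum_congr rfl (g := fun _ => χ g) fun x _ => ?_, Finset.sum_const, Finset.card_univ,
        nsmul_eq_mul, ← Nat.card_eq_fintype_card, Subgroup.card_top, ← mul_assoc, inv_mul_cancel₀ hG,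
        one_mul]
      rw [extendByZero_of_mem _ _ (Subgroup.mem_top _)]
      simpa using hχ.isClassFunction g x⁻¹
  -- a minimal normal subgroup on which `χ` stays irreducible
  let S : Set (Subgroup G) := {K | K.Normal ∧ N ≤ K ∧ IsIrrCharacter K fun k : K => χ k}
  obtain ⟨K, hK, hKmin⟩ := (Set.toFinite S).exists_minimal ⟨⊤, inferInstance, le_top,
    isIrrCharacter_comp_equiv Subgroup.topEquiv hχ⟩
  obtain ⟨hKn, hNK, hKirr⟩ := hK
  have hNlt : N < K := lt_of_le_of_ne hNK fun e => hirr (by subst e; exact hKirr)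
  let S' : Set (Subgroup G) := {L | L.Normal ∧ N ≤ L ∧ L < K}
  obtain ⟨L, hL, hLmax⟩ := (Set.toFinite S').exists_maximal ⟨N, hN, le_rfl, hNlt⟩
  obtain ⟨hLn, hNL, hLK⟩ := hL
  haveI := hLn
  haveI := hKn
  have hsec : ∀ M : Subgroup G, M.Normal → L ≤ M → M ≤ K → M = L ∨ M = K := by
    intro M hM hLM hMK
    rcases eq_or_lt_of_le hMK with h | h
    · exact Or.inr h
    · exact Or.inl (le_antisymm (hLmax ⟨hM, hNL.trans hLM, h⟩ hLM) hLM)
  have hab : ⁅K, K⁆ ≤ L := by
    rcases hsec (⁅K, K⁆ ⊔ L) inferInstance le_sup_right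
        (sup_le (Subgroup.commutator_le_self K) hLK.le) with h | h
    · exact le_sup_left.trans h.le
    · exfalso
      obtain ⟨k, hk⟩ := hder
      have hall : ∀ i, K ≤ derivedSeries G i ⊔ L := by
        intro i
        induction i with
        | zero => simp
        | succ i ih =>
          have h2 : ⁅K, K⁆ ≤ derivedSeries G (i + 1) ⊔ L := by
            refine (Subgroup.commutator_mono ih ih).trans (Subgroup.commutator_le.mpr ?_)
            intro a ha b hb
            rw [← SetLike.mem_coe, Subgroup.normal_mul] at ha hb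
            obtain ⟨a₁, ha₁, a₂, ha₂, rfl⟩ := Set.mem_mul.mp ha
            obtain ⟨b₁, hb₁, b₂, hb₂, rfl⟩ := Set.mem_mul.mp hb
            rw [← QuotientGroup.ker_mk' (derivedSeries G (i + 1) ⊔ L), MonoidHom.mem_ker,
              map_commutatorElement, map_mul, map_mul,
              show QuotientGroup.mk' (derivedSeries G (i + 1) ⊔ L) a₂ = 1 from
                (QuotientGroup.eq_one_iff _).mpr (le_sup_right (a := derivedSeries G (i + 1)) ha₂),
              show QuotientGroup.mk' (derivedSeries G (i + 1) ⊔ L) b₂ = 1 from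
                (QuotientGroup.eq_one_iff _).mpr (le_sup_right (a := derivedSeries G (i + 1)) hb₂),
              mul_one, mul_one, ← map_commutatorElement]
            exact (QuotientGroup.eq_one_iff _).mpr (le_sup_left (b := L)
              (Subgroup.commutator_mem_commutator ha₁ hb₁))
          calc K = ⁅K, K⁆ ⊔ L := h.symm
            _ ≤ derivedSeries G (i + 1) ⊔ L := sup_le h2 le_sup_right
      exact not_le_of_gt hLK ((hall k).trans (sup_le (hk.trans hNL) le_rfl))
  have hinv : ∀ (g : G) (n : K), χ ((⟨g * n * g⁻¹, hKn.conj_mem (n : G) n.2 g⟩ : K) : G) = χ n :=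
    fun g n => hχ.isClassFunction n g
  have hns : ¬ IsSquare (L.relIndex K) := hchief ⊤ K L hNL hLK le_top
    (fun h _ k hk => hKn.conj_mem k hk h) (fun h _ l hl => hLn.conj_mem l hl h)
    (fun M hLM hMK hM => hsec M ⟨fun x hx g => hM g (Subgroup.mem_top g) x hx⟩ hLM hMK)
  rcases Cfsg.Agent.S0857.result K L hLK hsec hab (fun k : K => χ k) hKirr hinv with h | h | h
  · exact absurd (hKmin ⟨hLn, hNL, h⟩ hLK.le) (not_le_of_gt hLK)
  · obtain ⟨φ, e, -, -, he⟩ := h
    exact absurd ⟨e, by rw [← he, pow_two]⟩ hns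
  obtain ⟨F, hF, hFcard, hFsum⟩ := h
  haveI := Fintype.ofFinite L
  have hcoef : ∀ φ ∈ F, classInner (fun x : L => χ x) φ = 1 := by
    intro φ hφ
    rw [show (fun x : L => χ x) = ∑ ψ ∈ F, ψ from hFsum, classInner_sum_left,
      Finset.sum_eq_single φ (fun ψ hψ hne => classInner_irr_ne (hF ψ hψ) (hF φ hφ) hne)
        (fun hn => absurd hφ hn), classInner_irr_self (hF φ hφ)]
  have h2 : 1 < F.card := by
    rw [hFcard]
    have h0 : L.relIndex K ≠ 0 := Subgroup.index_ne_zero_of_finite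
    have h1 : L.relIndex K ≠ 1 := fun h => not_le_of_gt hLK (Subgroup.relIndex_eq_one.mp h)
    omega
  obtain ⟨φ, hφ, φ', hφ', hne⟩ := Finset.one_lt_card.mp h2
  set T := inertia L φ with hT
  have hLT : L ≤ T := le_inertia L (hF φ hφ).isClassFunction
  haveI := Fintype.ofFinite T
  have hTlt : T ≠ ⊤ := by
    intro hT'
    have hc := clifford_invariant L hχ (hF φ hφ)
      (fun g => (mem_inertia L).mp (show g ∈ inertia L φ by rw [← hT, hT']; trivial))
      (by rw [hcoef φ hφ]; exact one_ne_zero)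
    rw [hcoef φ hφ, one_smul] at hc
    have h3 := hcoef φ' hφ'
    rw [hc, classInner_irr_ne (hF φ hφ) (hF φ' hφ') hne] at h3
    exact zero_ne_one h3
  obtain ⟨ψ, hψ, -, hψχ, -⟩ := clifford_exists L (hF φ hφ) hLT hT hχ
    (by rw [hcoef φ hφ]; exact one_ne_zero)
  have hNT : N ≤ T := hNL.trans hLT
  have hcardT : Nat.card T < m := by
    rw [← hm]
    exact lt_of_le_of_ne (Subgroup.card_le_card_group T)
      fun h => hTlt (Subgroup.eq_top_of_card_eq T h)
  haveI : (N.subgroupOf T).Normal := hN.subgroupOf T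
  obtain ⟨H', hNH', η, hη, hηψ, hηN⟩ := IH _ hcardT (N.subgroupOf T) rfl (by
      obtain ⟨k, hk⟩ := hder
      exact ⟨k, fun x hx => Subgroup.mem_subgroupOf.mpr (hk
        (map_derivedSeries_le_derivedSeries T.subtype k (Subgroup.mem_map_of_mem _ hx)))⟩)
    (by
      intro H₁ K₁ L₁ hN₁ hlt hle hK₁ hL₁ hmin
      have hinj := Subgroup.subtype_injective T
      have h := hchief (H₁.map T.subtype) (K₁.map T.subtype) (L₁.map T.subtype)
        (fun x hx => ⟨⟨x, hNT hx⟩, hN₁ (Subgroup.mem_subgroupOf.mpr hx), rfl⟩)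
        ((Subgroup.map_lt_map_iff_of_injective hinj).mpr hlt) (Subgroup.map_mono hle)
        (by rintro - ⟨a, ha, rfl⟩ - ⟨b, hb, rfl⟩; exact ⟨_, hK₁ a ha b hb, by simp⟩)
        (by rintro - ⟨a, ha, rfl⟩ - ⟨b, hb, rfl⟩; exact ⟨_, hL₁ a ha b hb, by simp⟩)
        (fun M hLM hMK hM => by
          have e : (M.subgroupOf T).map T.subtype = M := by
            rw [Subgroup.map_subgroupOf_eq_of_le (hMK.trans (Subgroup.map_subtype_le K₁))]
          rcases hmin (M.subgroupOf T) (fun x hx => hLM (Subgroup.mem_map_of_mem _ hx))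
              (fun x hx => by
                obtain ⟨y, hy, hyx⟩ := hMK hx
                exact (Subtype.ext hyx : y = x) ▸ hy)
              (fun a ha b hb => hM a (Subgroup.mem_map_of_mem _ ha) b hb) with h' | h'
          · exact Or.inl (e ▸ congrArg (Subgroup.map T.subtype) h')
          · exact Or.inr (e ▸ congrArg (Subgroup.map T.subtype) h'))
      rwa [Subgroup.relIndex_map_map_of_injective _ _ hinj] at h) ψ hψ
  -- transport to `G`
  let H := H'.map T.subtype
  have hHT : H ≤ T := Subgroup.map_subtype_le H'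
  let e : H' ≃* H := H'.equivMapOfInjective T.subtype (Subgroup.subtype_injective T)
  have hNH : N ≤ H := fun x hx => ⟨⟨x, hNT hx⟩, hNH' (Subgroup.mem_subgroupOf.mpr hx), rfl⟩
  refine ⟨H, hNH, fun x => η (e.symm x), isIrrCharacter_comp_equiv e.symm hη, ?_, ?_⟩
  · haveI := Fintype.ofFinite H
    have he : H' = H.subgroupOf T := by
      ext x
      rw [Subgroup.mem_subgroupOf]
      exact ⟨fun hx => Subgroup.mem_map_of_mem _ hx, fun ⟨y, hy, hyx⟩ =>
        (Subtype.ext hyx : y = x) ▸ hy⟩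
    rw [← indFun_trans H T hHT, ← hψχ, ← hηψ]
    congr 1
    rw [← indFun_congr H' he η]
    congr 1
    funext x
    apply congrArg η
    apply e.injective
    rw [MulEquiv.apply_symm_apply]
    exact Subtype.ext rfl
  · have := isIrrCharacter_comp_equiv (Subgroup.subgroupOfEquivOfLe hNT).symm hηN
    have e2 : (fun n : N => η (e.symm ⟨(n : G), hNH n.2⟩)) =
        fun n : N => η ⟨⟨(n : G), hNT n.2⟩, hNH' (Subgroup.mem_subgroupOf.mpr n.2)⟩ :=
      funext fun n => congrArg η (e.injective (by rw [MulEquiv.apply_symm_apply]; exact Subtype.ext rfl))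
    rw [e2]
    exact this

theorem result {G : Type*} [Group G] [Fintype G] (N : Subgroup G) [N.Normal] (hsolv : Group.IsSolvable (G ⧸ N)) (hchief : ∀ (H K L : Subgroup G), N ≤ L → L < K → K ≤ H → (∀ h ∈ H, ∀ k ∈ K, h * k * h⁻¹ ∈ K) → (∀ h ∈ H, ∀ l ∈ L, h * l * h⁻¹ ∈ L) → (∀ M : Subgroup G, L ≤ M → M ≤ K → (∀ h ∈ H, ∀ m ∈ M, h * m * h⁻¹ ∈ M) → M = L ∨ M = K) → ¬ IsSquare (L.relIndex K)) (χ : G → ℂ) (hχ : Cfsg.IsIrrCharacter G χ) : ∃ (H : Subgroup G) (hNH : N ≤ H) (ψ : H → ℂ), Cfsg.IsIrrCharacter H ψ ∧ Cfsg.indFun H ψ = χ ∧ Cfsg.IsIrrCharacter N (fun n : N => ψ ⟨(n : G), hNH n.2⟩) := by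
  obtain ⟨k, hk⟩ := hsolv.solvable
  refine main _ N rfl ⟨k, fun x hx => ?_⟩ hchief χ hχ
  have h := map_derivedSeries_le_derivedSeries (QuotientGroup.mk' N) k (Subgroup.mem_map_of_mem _ hx)
  rw [hk, Subgroup.mem_bot] at h
  exact (QuotientGroup.eq_one_iff _).mp h

end Cfsg.Agent.S0858
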