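import Cfsg.Statements.S1488
import Cfsg.Agent.Lib.Char.Induced

set_option autoImplicit false
open Cfsg Cfsg.Lib.Char

namespace Cfsg.Agent.S1488

/-- Let A be a normal subgroup of the finite group G contained in the subgroup H, let θ be a function on H and θ₁ a function on the image of H in G ⧸ A whose composite with the projection is θ. Then the function induced from θ₁ to G ⧸ A, composed with the projection G → G ⧸ A, equals the function induced from θ to G. -/
theorem result {G : Type*} [Group G] [Fintype G] (A H : Subgroup G) [A.Normal] (hAH : A ≤ H) [Fintype (G ⧸ A)] [Fintype ↥(H.map (QuotientGroup.mk' A))] (θ : H → ℂ) (θ₁ : ↥(H.map (QuotientGroup.mk' A)) → ℂ) (hθ : ∀ x : H, θ₁ ⟨QuotientGroup.mk' A x, Subgroup.mem_map_of_mem _ x.2⟩ = θ x) (g : G) : Cfsg.indFun (H.map (QuotientGroup.mk' A)) θ₁ (QuotientGroup.mk' A g) = Cfsg.indFun H θ g := by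
  classical
  have hmem : ∀ z : G, QuotientGroup.mk' A z ∈ H.map (QuotientGroup.mk' A) ↔ z ∈ H := by
    intro z
    refine ⟨?_, fun h => Subgroup.mem_map_of_mem _ h⟩
    rintro ⟨h, hh, e⟩
    have h1 : h⁻¹ * z ∈ A := QuotientGroup.eq.mp e
    simpa using H.mul_mem hh (hAH h1)
  let F : G ⧸ A → ℂ := fun y => extendByZero (H.map (QuotientGroup.mk' A)) θ₁
    (y⁻¹ * QuotientGroup.mk' A g * y)
  have hterm : ∀ x : G, extendByZero H θ (x⁻¹ * g * x) = F (QuotientGroup.mk' A x) := by
    intro x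
    show _ = extendByZero _ θ₁ _
    rw [← map_inv, ← map_mul, ← map_mul]
    by_cases hx : x⁻¹ * g * x ∈ H
    · rw [extendByZero_of_mem _ _ hx, extendByZero_of_mem _ _ ((hmem _).mpr hx)]
      exact (hθ ⟨_, hx⟩).symm
    · rw [extendByZero_of_notMem _ _ hx, extendByZero_of_notMem _ _ fun h => hx ((hmem _).mp h)]
  have hsum : ∑ x : G, extendByZero H θ (x⁻¹ * g * x) = (Nat.card A : ℂ) * ∑ y, F y := by
    simp only [hterm]
    rw [← Finset.sum_fiberwise Finset.univ (QuotientGroup.mk' A) (fun x => F (QuotientGroup.mk' A x)),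
      Finset.mul_sum]
    refine Finset.sum_congr rfl fun y _ => ?_
    rw [Finset.sum_congr rfl fun x hx => by rw [(Finset.mem_filter.mp hx).2], Finset.sum_const,
      nsmul_eq_mul]
    congr 2
    obtain ⟨x₀, rfl⟩ := QuotientGroup.mk'_surjective A y
    rw [← Fintype.card_subtype, ← Nat.card_eq_fintype_card]
    refine Nat.card_congr ⟨fun x => ⟨x₀⁻¹ * x.1, QuotientGroup.eq.mp x.2.symm⟩,
      fun a => ⟨x₀ * a.1, (QuotientGroup.eq.mpr (by simpa using a.2)).symm⟩,
      fun x => Subtype.ext (by simp), fun a => Subtype.ext (by simp)⟩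
  have hcard : Nat.card H = Nat.card A * Nat.card (H.map (QuotientGroup.mk' A)) := by
    set f := (QuotientGroup.mk' A).subgroupMap H with hf
    have h := f.ker.card_mul_index
    rw [Subgroup.index_ker, MonoidHom.range_eq_top.mpr ((QuotientGroup.mk' A).subgroupMap_surjective H),
      Subgroup.card_top] at h
    have e : Nat.card f.ker = Nat.card A := by
      refine Nat.card_congr ⟨fun x => ⟨x.1.1, ?_⟩, fun a => ⟨⟨a, hAH a.2⟩, Subtype.ext ?_⟩,
        fun x => rfl, fun a => rfl⟩
      · exact (QuotientGroup.eq_one_iff _).mp (congrArg Subtype.val x.2)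
      · exact (QuotientGroup.eq_one_iff _).mpr a.2
    rw [← h, e]
  simp only [indFun]
  rw [hsum, hcard]
  push_cast
  have hA : (Nat.card A : ℂ) ≠ 0 := Nat.cast_ne_zero.mpr Nat.card_pos.ne'
  rw [mul_inv, mul_comm (Nat.card A : ℂ)⁻¹, mul_assoc, ← mul_assoc (Nat.card A : ℂ)⁻¹,
    inv_mul_cancel₀ hA, one_mul]

end Cfsg.Agent.S1488
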