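import Cfsg.Statements.S0859
import Cfsg.Agent.S1488
import Cfsg.Agent.Lib.Char.Clifford2
import Cfsg.Agent.Lib.Char.Quotient
import Cfsg.Agent.Lib.Char.Linear
import Mathlib.GroupTheory.Nilpotent

set_option autoImplicit false
set_option linter.style.haveILetI false
open Cfsg Cfsg.Lib.Char

namespace Cfsg.Agent.S0859

universe u

def Mono {G : Type u} [Group G] [Fintype G] (χ : G → ℂ) : Prop :=
  ∃ (U : Subgroup G) (lam : U → ℂ), IsCharacter U lam ∧ lam 1 = 1 ∧ indFun U lam = χ

def AbP {G : Type u} [Group G] (N : Subgroup G) : Prop :=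
  ∀ (p : ℕ), p.Prime → ∀ Q : Subgroup G, Q ≤ N → IsPGroup p Q → ∀ a ∈ Q, ∀ b ∈ Q, a * b = b * a

theorem mono_up {G : Type u} [Group G] [Fintype G] (T : Subgroup G) [Fintype T] {ψ : T → ℂ}
    (h : Mono ψ) : Mono (indFun T ψ) := by
  classical
  obtain ⟨U, lam, hl, hl1, hlψ⟩ := h
  let H := U.map T.subtype
  let e : U ≃* H := U.equivMapOfInjective T.subtype (Subgroup.subtype_injective T)
  haveI := Fintype.ofFinite H
  refine ⟨H, fun x => lam (e.symm x), hl.comp e.symm.toMonoidHom, ?_, ?_⟩
  · show lam (e.symm 1) = 1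
    rw [map_one, hl1]
  have he : U = H.subgroupOf T := by
    ext x
    rw [Subgroup.mem_subgroupOf]
    exact ⟨fun hx => Subgroup.mem_map_of_mem _ hx, fun ⟨y, hy, hyx⟩ =>
      (Subtype.ext hyx : y = x) ▸ hy⟩
  rw [← indFun_trans H T (Subgroup.map_subtype_le U), ← hlψ]
  congr 1
  rw [← indFun_congr U he lam]
  congr 1
  funext x
  apply congrArg lam
  apply e.injective
  rw [MulEquiv.apply_symm_apply]
  exact Subtype.ext rfl

theorem mono_linear {G : Type u} [Group G] [Fintype G] {χ : G → ℂ} (hχ : IsCharacter G χ)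
    (h1 : χ 1 = 1) : Mono χ := by
  classical
  refine ⟨⊤, fun x => χ x, hχ.comp (Subgroup.subtype ⊤), h1, ?_⟩
  funext g
  simp only [indFun]
  rw [Finset.sum_congr rfl (g := fun _ => χ g) fun x _ => ?_, Finset.sum_const, Finset.card_univ,
    nsmul_eq_mul, ← Nat.card_eq_fintype_card, Subgroup.card_top, ← mul_assoc,
    inv_mul_cancel₀ card_cast_ne_zero, one_mul]
  rw [extendByZero_of_mem _ _ (Subgroup.mem_top _)]
  simpa using hχ.isClassFunction g x⁻¹

theorem main : ∀ (m : ℕ) {G : Type u} [Group G] [Fintype G] [Group.IsSolvable G] (N : Subgroup G)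
    [N.Normal], Nat.card G = m → AbP N → ∀ χ : G → ℂ, IsIrrCharacter G χ →
    IsIrrCharacter N (fun n : N => χ n) → Mono χ := by
  intro m
  induction m using Nat.strong_induction_on with
  | _ m IH =>
  intro G _ _ _ N hN hm hab χ hχ hχN
  classical
  haveI := Fintype.ofFinite N
  set A := charKer hχ.isCharacter with hA
  haveI : A.Normal := charKer_normal hχ.isCharacter
  by_cases hA1 : A = ⊥
  swap
  · -- pass to the quotient by the kernel
    obtain ⟨χ', hχ', hχe⟩ := exists_deflate_irr A hχ fun n hn =>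
      (mem_charKer hχ.isCharacter).mp hn
    haveI := Fintype.ofFinite (G ⧸ A)
    let f := (QuotientGroup.mk' A).subgroupMap N
    have hf : Function.Surjective f := (QuotientGroup.mk' A).subgroupMap_surjective N
    haveI : (N.map (QuotientGroup.mk' A)).Normal := hN.map _ (QuotientGroup.mk'_surjective A)
    have hres : IsIrrCharacter (N.map (QuotientGroup.mk' A)) fun y => χ' y := by
      obtain ⟨φ, hφ, hφe⟩ := exists_deflate_irr f.ker hχN fun n hn => by
        have : (n : G) ∈ A := (QuotientGroup.eq_one_iff _).mp (congrArg Subtype.val hn)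
        exact (mem_charKer hχ.isCharacter).mp this
      let e := QuotientGroup.quotientKerEquivOfSurjective f hf
      have h := isIrrCharacter_comp_equiv e.symm hφ
      have e2 : (fun y : N.map (QuotientGroup.mk' A) => χ' y) = fun y => φ (e.symm y) := by
        funext y
        obtain ⟨n, rfl⟩ := hf y
        rw [show e.symm (f n) = (n : N ⧸ f.ker) from e.injective (by
          rw [MulEquiv.apply_symm_apply]; rfl), hφe n]
        exact hχe n
      rw [e2]
      exact h
    have hlt : Nat.card (G ⧸ A) < m := by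
      rw [← hm, ← Subgroup.index_eq_card, ← A.card_mul_index]
      exact lt_mul_of_one_lt_left (Nat.pos_of_ne_zero Subgroup.index_ne_zero_of_finite)
        ((Subgroup.one_lt_card_iff_ne_bot A).mpr hA1)
    obtain ⟨U, lam, hl, hl1, hlχ⟩ := IH _ hlt (N.map (QuotientGroup.mk' A)) rfl (by
      intro p hp Q hQ hQp a ha b hb
      haveI := Fact.mk hp
      obtain ⟨P, hP⟩ := (hQp.comap_of_injective (N.map (QuotientGroup.mk' A)).subtype
        (Subgroup.subtype_injective _)).exists_le_sylow
      obtain ⟨P₀, hP₀⟩ := Sylow.mapSurjective_surjective hf p P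
      have ha' : (⟨a, hQ ha⟩ : N.map (QuotientGroup.mk' A)) ∈ (P : Subgroup _) := hP ha
      have hb' : (⟨b, hQ hb⟩ : N.map (QuotientGroup.mk' A)) ∈ (P : Subgroup _) := hP hb
      rw [← hP₀, Sylow.coe_mapSurjective, Subgroup.mem_map] at ha' hb'
      obtain ⟨a₀, ha₀, hae⟩ := ha'
      obtain ⟨b₀, hb₀, hbe⟩ := hb'
      have h : a₀ * b₀ = b₀ * a₀ := Subtype.ext (hab p hp ((P₀ : Subgroup N).map N.subtype)
        (Subgroup.map_subtype_le _) (P₀.2.map _) a₀ (Subgroup.mem_map_of_mem _ ha₀) b₀
        (Subgroup.mem_map_of_mem _ hb₀))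
      have h' := congrArg f h
      rw [map_mul, map_mul, hae, hbe] at h'
      exact congrArg Subtype.val h') χ' hχ' hres
    let H := U.comap (QuotientGroup.mk' A)
    have hmap : H.map (QuotientGroup.mk' A) = U :=
      Subgroup.map_comap_eq_self_of_surjective (QuotientGroup.mk'_surjective A) U
    haveI := Fintype.ofFinite ↥(H.map (QuotientGroup.mk' A))
    refine ⟨H, fun x => lam ⟨QuotientGroup.mk' A x, x.2⟩,
      hl.comp ((QuotientGroup.mk' A).subgroupComap U), ?_, ?_⟩
    · show lam ⟨QuotientGroup.mk' A ((1 : H) : G), _⟩ = 1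
      rw [← hl1]
      exact congrArg lam (Subtype.ext (map_one _))
    · funext g
      rw [← Cfsg.Agent.S1488.result A H (fun x hx => by
          show QuotientGroup.mk' A x ∈ U
          rw [show QuotientGroup.mk' A x = 1 from (QuotientGroup.eq_one_iff _).mpr hx]
          exact U.one_mem)
        (fun x => lam ⟨QuotientGroup.mk' A x, x.2⟩)
        (fun y => lam ⟨y, hmap.le y.2⟩) (fun x => rfl) g,
        indFun_congr U hmap.symm lam, hlχ]
      exact hχe g
  by_cases hNZ : N ≤ Subgroup.center G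
  · refine mono_linear hχ.isCharacter ?_
    have h := degree_eq_one_of_comm (fun a b : N => Subtype.ext
      (Subgroup.mem_center_iff.mp (hNZ b.2) a)) hχN
    exact h
  -- an abelian normal subgroup of `G` inside `N` which is not central
  let D : ℕ → Subgroup G := fun i => (derivedSeries N i).map N.subtype
  have hex : ∃ i, D i ≤ Subgroup.center G := by
    obtain ⟨k, hk⟩ := (inferInstance : Group.IsSolvable N).solvable
    exact ⟨k, by show (derivedSeries N k).map N.subtype ≤ _; rw [hk, Subgroup.map_bot]; exact bot_le⟩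
  obtain ⟨i, hi, hi'⟩ : ∃ i, ¬ D i ≤ Subgroup.center G ∧ D (i + 1) ≤ Subgroup.center G := by
    rcases Nat.eq_zero_or_pos (Nat.find hex) with h | h
    · exfalso
      apply hNZ
      have h0 := Nat.find_spec hex
      rw [h] at h0
      intro x hx
      exact h0 ⟨⟨x, hx⟩, by simp, rfl⟩
    · exact ⟨Nat.find hex - 1, Nat.find_min hex (by omega), by
        rw [show Nat.find hex - 1 + 1 = Nat.find hex by omega]; exact Nat.find_spec hex⟩
  set M := D i with hM
  haveI : (derivedSeries N i).Characteristic := derivedSeries_characteristic N i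
  haveI hMn : M.Normal := by rw [hM]; exact ConjAct.normal_of_characteristic_of_normal
  have hMN : M ≤ N := Subgroup.map_subtype_le _
  have hMab : ∀ a b : M, a * b = b * a := by
    have hcz : ∀ a b : M, a * b * a⁻¹ * b⁻¹ ∈ Subgroup.center M := by
      intro a b
      obtain ⟨a', ha', hae⟩ := a.2
      obtain ⟨b', hb', hbe⟩ := b.2
      have h : ((a * b * a⁻¹ * b⁻¹ : M) : G) ∈ Subgroup.center G := hi' ⟨_,
        Subgroup.commutator_mem_commutator ha' hb', by simp [commutatorElement_def, ← hae, ← hbe]⟩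
      exact Subgroup.mem_center_iff.mpr fun c => Subtype.ext (Subgroup.mem_center_iff.mp h c)
    let Q := M ⧸ Subgroup.center M
    have hQ : ∀ a b : Q, a * b = b * a := fun a b => QuotientGroup.induction_on a fun x =>
      QuotientGroup.induction_on b fun y => by
        rw [← QuotientGroup.mk_mul, ← QuotientGroup.mk_mul, QuotientGroup.eq]
        have := hcz y⁻¹ x⁻¹
        simpa [mul_assoc] using this
    haveI : Group.IsNilpotent Q :=
      letI : CommGroup Q := { (inferInstance : Group Q) with mul_comm := hQ }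
      inferInstance
    haveI : Group.IsNilpotent M :=
      Subgroup.isNilpotent_of_ker_le_center (QuotientGroup.mk' (Subgroup.center M))
        (by rw [QuotientGroup.ker_mk'])
    have hnorm : ∀ (p : ℕ) [Fact p.Prime] (P : Sylow p M), (P : Subgroup M).Normal :=
      (Group.isNilpotent_of_finite_tfae.out 0 3).mp ‹Group.IsNilpotent M›
    let e := Sylow.directProductOfNormal (G := M) (fun {p} hp P => hnorm p P)
    intro a b
    obtain ⟨a', rfl⟩ := e.surjective a
    obtain ⟨b', rfl⟩ := e.surjective b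
    rw [← map_mul, ← map_mul]
    congr 1
    funext p P
    have hp : Nat.Prime p := Nat.prime_of_mem_primeFactors p.2
    haveI := Fact.mk hp
    have h := hab p hp ((P : Subgroup M).map M.subtype)
      ((Subgroup.map_subtype_le _).trans hMN) (P.2.map _) _
      (Subgroup.mem_map_of_mem _ (a' p P).2) _ (Subgroup.mem_map_of_mem _ (b' p P).2)
    exact Subtype.ext (Subtype.ext h)
  haveI := Fintype.ofFinite M
  obtain ⟨μ, hμc⟩ := exists_irr_constituent_res M hχ
  have hμ : IsIrrCharacter M (μ : M → ℂ) := μ.2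
  have hμ1 : (μ : M → ℂ) 1 = 1 := degree_eq_one_of_comm hMab hμ
  set T := inertia M (μ : M → ℂ) with hT
  have hMT : M ≤ T := le_inertia M hμ.isClassFunction
  haveI := Fintype.ofFinite T
  have hTlt : T ≠ ⊤ := by
    intro hT'
    apply hi
    have hinv : ∀ g, conjTwist M (μ : M → ℂ) g = μ := fun g =>
      (mem_inertia M).mp (show g ∈ inertia M (μ : M → ℂ) by rw [← hT, hT']; trivial)
    have hres := clifford_invariant M hχ hμ hinv hμc
    obtain ⟨l, hl⟩ := exists_hom_of_degree_one hμ.isCharacter hμ1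
    intro x hx
    rw [Subgroup.mem_center_iff]
    intro g
    have hc : g * x * g⁻¹ * x⁻¹ ∈ M := M.mul_mem (hMn.conj_mem x hx g) (M.inv_mem hx)
    have hl1 : (μ : M → ℂ) ⟨_, hc⟩ = 1 := by
      have e1 : (⟨_, hc⟩ : M) = ⟨g * x * g⁻¹, hMn.conj_mem x hx g⟩ * ⟨x, hx⟩⁻¹ := rfl
      have e2 := congrFun (hinv g) ⟨x, hx⟩
      rw [conjTwist_apply, hl] at e2
      rw [e1, hl]
      show ((l (_ * _)) : ℂ) = 1
      rw [map_mul, map_inv, Units.ext e2, mul_inv_cancel, Units.val_one]
    have hk : g * x * g⁻¹ * x⁻¹ ∈ A := by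
      rw [hA, mem_charKer]
      have h1 := congrFun hres ⟨_, hc⟩
      have h2 := congrFun hres 1
      simp only [Pi.smul_apply, smul_eq_mul, hl1, hμ1, OneMemClass.coe_one] at h1 h2
      rw [h1, h2]
    rw [hA1, Subgroup.mem_bot, mul_inv_eq_one, mul_inv_eq_iff_eq_mul] at hk
    exact hk
  obtain ⟨ψ, hψ, hψc, hψχ, hψm⟩ := clifford_exists M hμ hMT hT hχ hμc
  -- the restriction of `ψ` to `N ∩ T` is irreducible
  let MN := M.subgroupOf N
  haveI : MN.Normal := hMn.subgroupOf N
  haveI := Fintype.ofFinite MN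
  let eM : MN ≃* M := Subgroup.subgroupOfEquivOfLe hMN
  let μ' : MN → ℂ := fun x => (μ : M → ℂ) (eM x)
  have hμ' : IsIrrCharacter MN μ' := isIrrCharacter_comp_equiv eM hμ
  let TN := T.subgroupOf N
  haveI := Fintype.ofFinite TN
  have hTN : TN = inertia MN μ' := by
    ext n
    rw [Subgroup.mem_subgroupOf, hT, mem_inertia_iff, mem_inertia_iff]
    exact ⟨fun h x => h (eM x), fun h x => by
      exact h ⟨⟨x, hMN x.2⟩, Subgroup.mem_subgroupOf.mpr x.2⟩⟩
  have hMTN : MN ≤ TN := fun x hx => hMT (Subgroup.mem_subgroupOf.mp hx)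
  have hθc : classInner (fun x : MN => (fun n : N => χ n) x) μ' =
      classInner (fun x : M => χ x) (μ : M → ℂ) := classInner_comp_equiv eM (fun x : M => χ x) μ
  have hidx : TN.index = T.index := by
    have h1 := clifford_degree M hχ hμ hμc
    have h2 := clifford_degree MN hχN hμ' (by rw [hθc]; exact hμc)
    rw [hθc, ← hTN, show μ' 1 = 1 by simp [μ', hμ1], OneMemClass.coe_one] at h2
    rw [← hT, hμ1] at h1
    have h3 := h1.symm.trans h2
    rw [mul_one, mul_one] at h3
    exact_mod_cast (mul_left_cancel₀ hμc h3).symm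
  let j : TN →* T :=
    { toFun := fun a => ⟨((a : N) : G), Subgroup.mem_subgroupOf.mp a.2⟩
      map_one' := rfl
      map_mul' := fun a b => rfl }
  have hψA : IsCharacter TN fun a => ψ (j a) := hψ.isCharacter.comp j
  obtain ⟨η, hη⟩ := exists_constituent hψA (by rw [map_one]; exact hψ.apply_one_ne_zero)
  have hη' : IsIrrCharacter TN (η : TN → ℂ) := η.2
  have hψM := res_eq_smul M hμ hMT hT hψ hψc
  have hηc : classInner (fun x : MN => (η : TN → ℂ) ⟨x, hMTN x.2⟩) μ' ≠ 0 := by
    haveI : (MN.subgroupOf TN).Normal := Subgroup.Normal.subgroupOf inferInstance TN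
    haveI := Fintype.ofFinite (MN.subgroupOf TN)
    obtain ⟨ν, hν⟩ := exists_constituent
      (hη'.isCharacter.comp (Subgroup.inclusion hMTN)) (by rw [map_one]; exact hη'.apply_one_ne_zero)
    have hle := classInner_res_le MN hMTN hψA hη' hη ν.2
    have hν' : classInner (fun x : MN => (η : TN → ℂ) ⟨x, hMTN x.2⟩) (ν : MN → ℂ) ≠ 0 := hν
    by_contra h0
    apply hν'
    have hne : (ν : MN → ℂ) ≠ μ' := fun e => hν' (e ▸ h0)
    have hz : classInner (fun x : MN => (fun a => ψ (j a)) ⟨x, hMTN x.2⟩) (ν : MN → ℂ) = 0 := by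
      rw [show (fun x : MN => (fun a => ψ (j a)) ⟨x, hMTN x.2⟩) =
          classInner (fun h : M => ψ ⟨h, hMT h.2⟩) (μ : M → ℂ) • μ' from
          funext fun x => congrFun hψM (eM x), classInner_smul_left,
        classInner_irr_ne hμ' ν.2 hne.symm, mul_zero]
    rw [hz, Complex.zero_re] at hle
    have hc := hη'.isCharacter.comp (Subgroup.inclusion hMTN)
    exact (eq_zero_iff_re_classInner hc ν.2.isCharacter).mpr
      (le_antisymm hle (classInner_re_nonneg hc ν.2.isCharacter))
  have hind : indFun TN (η : TN → ℂ) = fun n : N => χ n := by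
    by_contra hne
    have h0 := classInner_irr_ne (clifford_induce MN hμ' hMTN hTN hη' hηc).1 hχN hne
    rw [classInner_indFun TN _ hχN.isClassFunction, ← classInner_conj_symm, map_eq_zero] at h0
    have hψT : classInner (fun t : T => χ t) ψ ≠ 0 := by
      intro h
      have h' := classInner_irr_self hχ
      rw [show classInner χ χ = classInner (indFun T ψ) χ by rw [hψχ],
        classInner_indFun T ψ hχ.isClassFunction, ← classInner_conj_symm, h, map_zero] at h'
      exact zero_ne_one h'
    obtain ⟨R, hR, hRe⟩ : ∃ R : T → ℂ, IsCharacter T R ∧ (fun t : T => χ t) = ψ + R :=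
      ⟨_, isCharacter_sub_constituent (hχ.isCharacter.comp T.subtype) hψ hψT, by
        funext t; simp⟩
    have h3 : (fun a : TN => χ ((a : N) : G)) = (fun a => ψ (j a)) + fun a => R (j a) :=
      funext fun a => congrFun hRe (j a)
    rw [show (fun h : TN => (fun n : N => χ n) h) = (fun a => ψ (j a)) + fun a => R (j a) from h3,
      classInner_add_left] at h0
    obtain ⟨a, ha⟩ := hψA.exists_nat_classInner hη'.isCharacter
    obtain ⟨b, hb⟩ := (hR.comp j).exists_nat_classInner hη'.isCharacter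
    rw [ha, show (fun a => R (j a)) = fun a => R (j a) from rfl, hb] at h0
    have h4 : a + b = 0 := by exact_mod_cast h0
    exact hη (by rw [ha, show a = 0 by omega, Nat.cast_zero])
  have hdeg : (fun a => ψ (j a)) 1 = (η : TN → ℂ) 1 := by
    show ψ (j 1) = _
    rw [map_one]
    have h1 := congrFun hind 1
    rw [indFun_apply_one] at h1
    have h2 := congrFun hψχ 1
    rw [indFun_apply_one] at h2
    rw [hidx] at h1
    exact mul_left_cancel₀ (Nat.cast_ne_zero.mpr Subgroup.index_ne_zero_of_finite)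
      (h2.trans h1.symm)
  have hψirr : IsIrrCharacter TN fun a => ψ (j a) := by
    rw [eq_of_constituent_of_degree hψA hη' hη hdeg]
    exact hη'
  haveI : (N.subgroupOf T).Normal := hN.subgroupOf T
  let eT : N.subgroupOf T ≃* TN :=
    { toFun := fun x => ⟨⟨((x : T) : G), Subgroup.mem_subgroupOf.mp x.2⟩,
        Subgroup.mem_subgroupOf.mpr (x : T).2⟩
      invFun := fun a => ⟨⟨((a : N) : G), Subgroup.mem_subgroupOf.mp a.2⟩,
        Subgroup.mem_subgroupOf.mpr (a : N).2⟩
      left_inv := fun x => rfl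
      right_inv := fun x => rfl
      map_mul' := fun a b => rfl }
  have hlt : Nat.card T < m := by
    rw [← hm]
    exact lt_of_le_of_ne (Subgroup.card_le_card_group T)
      fun h => hTlt (Subgroup.eq_top_of_card_eq T h)
  rw [← hψχ]
  refine mono_up T (IH _ hlt (N.subgroupOf T) rfl (fun p hp Q hQ hQp a ha b hb => ?_) ψ hψ
    (isIrrCharacter_comp_equiv eT hψirr))
  exact Subtype.ext (hab p hp (Q.map T.subtype)
    (by rintro - ⟨y, hy, rfl⟩; exact Subgroup.mem_subgroupOf.mp (hQ hy)) (hQp.map _) a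
    (Subgroup.mem_map_of_mem _ ha) b (Subgroup.mem_map_of_mem _ hb))

theorem result {G : Type*} [Group G] [Fintype G] [Group.IsSolvable G] (N : Subgroup G) [N.Normal] (hab : ∀ (p : ℕ) [Fact p.Prime] (P : Sylow p N), ∀ a ∈ P, ∀ b ∈ P, a * b = b * a) (hrel : ∀ χ : G → ℂ, Cfsg.IsIrrCharacter G χ → ∃ (H : Subgroup G) (hNH : N ≤ H) (ψ : H → ℂ), Cfsg.IsIrrCharacter H ψ ∧ Cfsg.indFun H ψ = χ ∧ Cfsg.IsIrrCharacter N (fun n : N => ψ ⟨(n : G), hNH n.2⟩)) (χ : G → ℂ) (hχ : Cfsg.IsIrrCharacter G χ) : ∃ (U : Subgroup G) (lam : U → ℂ), Cfsg.IsCharacter U lam ∧ lam 1 = 1 ∧ Cfsg.indFun U lam = χ := by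
  obtain ⟨H, hNH, ψ, hψ, rfl, hψN⟩ := hrel χ hχ
  haveI := Fintype.ofFinite H
  haveI : (N.subgroupOf H).Normal := Subgroup.Normal.subgroupOf inferInstance H
  refine mono_up H (main _ (N.subgroupOf H) rfl (fun p hp Q hQ hQp a ha b hb => ?_) ψ hψ
    (isIrrCharacter_comp_equiv (Subgroup.subgroupOfEquivOfLe hNH) hψN))
  haveI := Fact.mk hp
  have hle : Q.map H.subtype ≤ N := by
    rintro - ⟨y, hy, rfl⟩; exact Subgroup.mem_subgroupOf.mp (hQ hy)
  obtain ⟨P, hP⟩ := ((hQp.map H.subtype).comap_of_injective N.subtype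
    (Subgroup.subtype_injective _)).exists_le_sylow
  have h := hab p P ⟨(a : G), hle (Subgroup.mem_map_of_mem _ ha)⟩ (hP (Subgroup.mem_map_of_mem H.subtype ha))
    ⟨(b : G), hle (Subgroup.mem_map_of_mem _ hb)⟩ (hP (Subgroup.mem_map_of_mem H.subtype hb))
  exact Subtype.ext (congrArg (fun z : N => (z : G)) h)

end Cfsg.Agent.S0859
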