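import Cfsg.Statements.S0861
import Cfsg.Agent.Lib.Char.Ito
import Cfsg.Agent.Lib.Char.Quotient
import Cfsg.Agent.Lib.Char.Linear
import Cfsg.Agent.Lib.MEleven.Basic

set_option autoImplicit false
open Cfsg

namespace Cfsg.Agent.S0861

set_option linter.style.haveILetI false

open scoped Classical in
theorem one_le_mean {G : Type*} [Group G] [Fintype G] (χ : IrrCharacter G) (g : G)
    (hne : ∀ u : (ZMod (Nat.card G))ˣ, (χ : G → ℂ) (g ^ (u : ZMod (Nat.card G)).val) ≠ 0) :
    (Nat.card (ZMod (Nat.card G))ˣ : ℝ) ≤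
      ∑ᶠ u : (ZMod (Nat.card G))ˣ, ‖(χ : G → ℂ) (g ^ (u : ZMod (Nat.card G)).val)‖ ^ 2 := by
  set N := Nat.card G
  haveI : NeZero N := ⟨Nat.card_pos.ne'⟩
  let Ψ : G → ℂ := fun x => ∏ u : (ZMod N)ˣ, (χ : G → ℂ) (x ^ (u : ZMod N).val)
  have hΨ : IsCharacter G Ψ := by
    have h : ∀ s : Finset (ZMod N)ˣ,
        IsCharacter G (fun x => ∏ u ∈ s, (χ : G → ℂ) (x ^ (u : ZMod N).val)) := by
      intro s
      induction s using Finset.induction with
      | empty =>
        have := Cfsg.Lib.Char.isCharacter_one (G := G)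
        simpa using this
      | insert a s ha ih =>
        have := (Cfsg.Lib.Char.isCharacter_comp_pow (ZMod.val_coe_unit_coprime a) χ.2.isCharacter).mul ih
        convert this using 1
        funext x
        rw [Finset.prod_insert ha, Pi.mul_apply]
    exact h Finset.univ
  obtain ⟨m, hm⟩ := Cfsg.Lib.Char.exists_int_of_pow_invariant hΨ g fun k hk => by
    refine Fintype.prod_equiv (Equiv.mulLeft (ZMod.unitOfCoprime k hk)) _ _ fun u => ?_
    simp only [Equiv.coe_mulLeft, Units.val_mul, ZMod.coe_unitOfCoprime]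
    rw [← pow_mul]
    refine congrArg (χ : G → ℂ) ((pow_mod_orderOf _ _).symm.trans (Eq.trans ?_ (pow_mod_orderOf _ _)))
    congr 1
    rw [ZMod.val_mul, ZMod.val_natCast, Nat.mod_mul_mod, Nat.mod_mod_of_dvd _ (orderOf_dvd_natCard g)]
  have hpos : ∀ u : (ZMod N)ˣ, 0 < ‖(χ : G → ℂ) (g ^ (u : ZMod N).val)‖ ^ 2 := fun u =>
    pow_pos (norm_pos_iff.2 (hne u)) 2
  have h1 : (1 : ℝ) ≤ ∏ u : (ZMod N)ˣ, ‖(χ : G → ℂ) (g ^ (u : ZMod N).val)‖ ^ 2 := by
    rw [Finset.prod_pow, ← norm_prod]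
    have hm0 : m ≠ 0 := by
      rintro rfl
      exact Finset.prod_ne_zero_iff.2 (fun u _ => hne u) (hm.trans Int.cast_zero)
    rw [show (∏ u : (ZMod N)ˣ, (χ : G → ℂ) (g ^ (u : ZMod N).val)) = (m : ℂ) from hm, Complex.norm_intCast]
    exact one_le_pow₀ (by exact_mod_cast Int.one_le_abs hm0)
  have h2 := Real.log_nonneg h1
  rw [Real.log_prod fun u _ => (hpos u).ne'] at h2
  have h3 := Finset.sum_le_sum (s := (Finset.univ : Finset (ZMod N)ˣ)) fun u _ =>
    Real.log_le_sub_one_of_pos (hpos u)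
  rw [Finset.sum_sub_distrib, Finset.sum_const, nsmul_eq_mul, mul_one, Finset.card_univ,
    ← Nat.card_eq_fintype_card] at h3
  rw [finsum_eq_sum_of_fintype]
  linarith



/-- Let P be a normal abelian Sylow p-subgroup of the finite group G and suppose some element g of P has centralizer exactly P. Then the number of irreducible characters of G is at most the order of P, and if equality holds then G / P is abelian (the commutator subgroup lies in P). -/
theorem result {G : Type*} [Group G] [Finite G] (p : ℕ) [Fact p.Prime] (P : Sylow p G) [(P : Subgroup G).Normal] (hab : ∀ a ∈ P, ∀ b ∈ P, a * b = b * a) (g : G) (hg : g ∈ P) (hC : Subgroup.centralizer ({g} : Set G) = P) : Nat.card (Cfsg.IrrCharacter G) ≤ Nat.card P ∧ (Nat.card (Cfsg.IrrCharacter G) = Nat.card P → commutator G ≤ P) := by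
  classical
  haveI := Fintype.ofFinite G
  haveI : NeZero (Nat.card G) := ⟨Nat.card_pos.ne'⟩
  have hcomm : ∀ a ∈ (P : Subgroup G), ∀ b ∈ (P : Subgroup G), a * b = b * a := hab
  obtain ⟨k, hk⟩ := IsPGroup.iff_orderOf.1 P.2 ⟨g, hg⟩
  rw [Subgroup.orderOf_mk] at hk
  have hcop : ∀ u : (ZMod (Nat.card G))ˣ, orderOf (g ^ (u : ZMod (Nat.card G)).val) = p ^ k := fun u => by
    rw [Nat.Coprime.orderOf_pow ((ZMod.val_coe_unit_coprime u).symm.coprime_dvd_left (orderOf_dvd_natCard g)), hk]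
  have hne : ∀ (χ : IrrCharacter G) (u : (ZMod (Nat.card G))ˣ),
      (χ : G → ℂ) (g ^ (u : ZMod (Nat.card G)).val) ≠ 0 := by
    intro χ u h0
    have h := Cfsg.Lib.MEleven.int_modEq_deg (p := p) χ (hcop u) (m := 0) (by rw [h0, Int.cast_zero])
    rw [zero_sub, Int.dvd_neg, Int.natCast_dvd_natCast] at h
    have hd := Cfsg.Lib.Char.degree_dvd_index_of_comm (P : Subgroup G) hcomm χ.2
      (Cfsg.Lib.MEleven.apply_one χ)
    exact P.not_dvd_index (h.trans hd)
  have hcent : ∀ u : (ZMod (Nat.card G))ˣ,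
      Nat.card (Subgroup.centralizer ({g ^ (u : ZMod (Nat.card G)).val} : Set G)) = Nat.card P := by
    intro u
    have : Subgroup.centralizer ({g ^ (u : ZMod (Nat.card G)).val} : Set G) = Subgroup.centralizer {g} := by
      obtain ⟨m, hm⟩ := exists_pow_eq_self_of_coprime
        ((ZMod.val_coe_unit_coprime u).coprime_dvd_right (orderOf_dvd_natCard g))
      refine le_antisymm (fun x hx => ?_) fun x hx => ?_
      · rw [Subgroup.mem_centralizer_singleton_iff] at hx ⊢
        rw [← hm]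
        exact Commute.pow_right (show Commute x (g ^ (u : ZMod (Nat.card G)).val) from hx) m
      · rw [Subgroup.mem_centralizer_singleton_iff] at hx ⊢
        exact Commute.pow_right (show Commute x g from hx) _
    rw [this, hC]
  set φ : ℝ := (Nat.card (ZMod (Nat.card G))ˣ : ℝ) with hφ
  have hφ0 : 0 < φ := Nat.cast_pos.2 Nat.card_pos
  let f : IrrCharacter G → ℝ := fun χ =>
    ∑ᶠ u : (ZMod (Nat.card G))ˣ, ‖(χ : G → ℂ) (g ^ (u : ZMod (Nat.card G)).val)‖ ^ 2
  have hf : ∀ χ, φ ≤ f χ := fun χ => one_le_mean χ g (hne χ)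
  have hsum : ∑ χ : IrrCharacter G, f χ = φ * (Nat.card P : ℝ) := by
    simp only [f, finsum_eq_sum_of_fintype]
    rw [Finset.sum_comm, Finset.sum_congr rfl fun u _ => by
      rw [Cfsg.Lib.MEleven.sum_column_normSq, hcent u], Finset.sum_const, nsmul_eq_mul, Finset.card_univ,
      ← Nat.card_eq_fintype_card]
  have hlow : (Nat.card (IrrCharacter G) : ℝ) * φ ≤ ∑ χ : IrrCharacter G, f χ := by
    rw [Nat.card_eq_fintype_card, ← Finset.card_univ, ← nsmul_eq_mul]
    exact Finset.card_nsmul_le_sum _ _ _ fun χ _ => hf χ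
  refine ⟨?_, fun heq => ?_⟩
  · rw [hsum, mul_comm φ] at hlow
    exact_mod_cast le_of_mul_le_mul_right hlow hφ0
  · have hall : ∀ χ : IrrCharacter G, f χ = φ := by
      intro χ
      refine ((Finset.sum_eq_sum_iff_of_le (s := (Finset.univ : Finset (IrrCharacter G)))
        fun χ _ => hf χ).1 ?_ χ (Finset.mem_univ _)).symm
      rw [hsum, Finset.sum_const, nsmul_eq_mul, Finset.card_univ, ← Nat.card_eq_fintype_card, heq, mul_comm]
    haveI := Fintype.ofFinite (G ⧸ (P : Subgroup G))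
    have hlin : ∀ ψ : IrrCharacter (G ⧸ (P : Subgroup G)), ψ.1 1 = 1 := by
      intro ψ
      let χ : IrrCharacter G := ⟨_, Cfsg.Lib.Char.isIrrCharacter_inflate (P : Subgroup G) ψ.2⟩
      obtain ⟨d, hd⟩ := ψ.2.isCharacter.exists_degree
      have hval : ∀ u : (ZMod (Nat.card G))ˣ,
          ‖(χ : G → ℂ) (g ^ (u : ZMod (Nat.card G)).val)‖ ^ 2 = (d : ℝ) ^ 2 := by
        intro u
        show ‖ψ.1 ((g ^ (u : ZMod (Nat.card G)).val : G) : G ⧸ (P : Subgroup G))‖ ^ 2 = _
        rw [(QuotientGroup.eq_one_iff _).2 (Subgroup.pow_mem _ hg _), hd, Complex.norm_natCast]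
      have := hall χ
      simp only [f, finsum_eq_sum_of_fintype, hval, Finset.sum_const, nsmul_eq_mul, Finset.card_univ,
        ← Nat.card_eq_fintype_card] at this
      rw [hφ] at this
      have hd1 : (d : ℝ) ^ 2 = 1 := mul_left_cancel₀ hφ0.ne' (by rw [mul_one, hφ]; exact this)
      have : d = 1 := (pow_eq_one_iff.1 (by exact_mod_cast hd1 : d ^ 2 = 1)).resolve_right (by norm_num)
      rw [hd, this, Nat.cast_one]
    have hq := (Cfsg.Lib.Char.comm_iff_all_linear (G := G ⧸ (P : Subgroup G))).2 hlin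
    rw [commutator_def, Subgroup.commutator_le]
    intro a _ b _
    rw [← QuotientGroup.eq_one_iff]
    show ((a * b * a⁻¹ * b⁻¹ : G) : G ⧸ (P : Subgroup G)) = 1
    rw [QuotientGroup.mk_mul, QuotientGroup.mk_mul, QuotientGroup.mk_mul, QuotientGroup.mk_inv,
      QuotientGroup.mk_inv, hq (a : G ⧸ (P : Subgroup G)) (b : G ⧸ (P : Subgroup G)), mul_inv_cancel_right,
      mul_inv_cancel]

end Cfsg.Agent.S0861
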