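import Cfsg.Statements.S0862
import Cfsg.Agent.Lib.Char.Extension
import Cfsg.Agent.Lib.Char.Linear
-- import your own Cfsg.Agent.* helpers here

set_option autoImplicit false
open Cfsg

namespace Cfsg.Agent.S0862

set_option linter.style.haveILetI false
open Cfsg Cfsg.Lib.Char


/-- Let N be a normal subgroup of the finite group G and ϑ an irreducible character of N of degree d coprime to the index of N, which is the restriction of some irreducible character of G. Let μ be a character of G of degree 1 whose restriction to N is the determinantal character of ϑ. Then there is exactly one irreducible character χ of G restricting to ϑ whose determinantal character is μ. -/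
theorem result {G : Type*} [Group G] [Finite G] (N : Subgroup G) [N.Normal] (ϑ : N → ℂ) (hϑ : Cfsg.IsIrrCharacter N ϑ) (d : ℕ) (hd : ϑ 1 = d) (hcop : Nat.Coprime N.index d) (hext : ∃ η : G → ℂ, Cfsg.IsIrrCharacter G η ∧ (∀ n : N, η n = ϑ n)) (μ : G → ℂ) (hμ : Cfsg.IsCharacter G μ ∧ μ 1 = 1) (hμN : ∀ n : N, μ n = Cfsg.detChar ϑ n) : ∃! χ : G → ℂ, Cfsg.IsIrrCharacter G χ ∧ (∀ n : N, χ n = ϑ n) ∧ Cfsg.detChar χ = μ := by
  obtain ⟨m, σ, hσ, rfl⟩ := hϑ
  haveI := hσ
  have hdeg : d = Module.finrank ℂ (Fin m → ℂ) := by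
    rw [Representation.char_one] at hd; exact_mod_cast hd.symm
  rw [hdeg] at hcop
  obtain ⟨η, hη, hηN⟩ := hext
  obtain ⟨ρ, hρ, -⟩ := exists_rep_of_res_eq N.subtype σ hη.isCharacter hηN
  obtain ⟨f, rfl⟩ := exists_hom_of_degree_one hμ.1 hμ.2
  have hf : ∀ n : N, f n = detHom σ n := fun n => Units.ext (by
    simpa only [detChar_character] using hμN n)
  obtain ⟨ρ', hρ', hdet⟩ := exists_extension_det_eq hρ hcop f hf
  haveI := isIrreducible_of_extension hρ'
  refine ⟨ρ'.character, ⟨isIrrCharacter_character ρ', fun n => congrArg (LinearMap.trace ℂ _) (hρ' n),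
    by rw [detChar_character, hdet]⟩, ?_⟩
  rintro χ ⟨hχ, hres, hdχ⟩
  obtain ⟨τ, hτ, rfl⟩ := exists_rep_of_res_eq N.subtype σ hχ.isCharacter hres
  rw [eq_of_extension_det hρ' hτ hcop]
  rw [hdet]
  refine MonoidHom.ext fun g => Units.ext ?_
  rw [detChar_character] at hdχ
  exact congrFun hdχ g

end Cfsg.Agent.S0862
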