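import Cfsg.Statements.S0864
import Cfsg.Agent.Lib.Char.LinearExt
import Cfsg.Agent.Lib.Char.Linear
-- import your own Cfsg.Agent.* helpers here

set_option autoImplicit false
open Cfsg

namespace Cfsg.Agent.S0864

set_option linter.style.haveILetI false
open Cfsg Cfsg.Lib.Char


/-- Let N be a normal subgroup of the finite group G and λ a character of N of degree 1 invariant under conjugation by G. Suppose that for every prime p dividing the order of λ (in the group of functions under pointwise multiplication) there is a subgroup H containing N, of index prime to p and with the index of N in H a power of p, together with a character of H of degree 1 restricting to λ. Then λ is the restriction of a character of G of degree 1. -/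
theorem result {G : Type*} [Group G] [Finite G] (N : Subgroup G) [hN : N.Normal] (lam : N → ℂ) (hlam : Cfsg.IsCharacter N lam ∧ lam 1 = 1) (hinv : ∀ (g : G) (n : N), lam ⟨g * n * g⁻¹, hN.conj_mem (n : G) n.2 g⟩ = lam n) (hsyl : ∀ p : ℕ, p.Prime → p ∣ orderOf lam → ∃ (H : Subgroup G) (hNH : N ≤ H) (ν : H → ℂ), Nat.Coprime H.index p ∧ (∃ k : ℕ, N.relIndex H = p ^ k) ∧ Cfsg.IsCharacter H ν ∧ ν 1 = 1 ∧ ∀ n : N, ν ⟨(n : G), hNH n.2⟩ = lam n) : ∃ μ : G → ℂ, Cfsg.IsCharacter G μ ∧ μ 1 = 1 ∧ ∀ n : N, μ n = lam n := by
  obtain ⟨f, rfl⟩ := exists_hom_of_degree_one hlam.1 hlam.2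
  haveI := linearRep_isIrreducible f
  have hinv' : ∀ (g : G) (n : N), f (MulAut.conjNormal g n) = f n := fun g n =>
    Units.ext ((congrArg (fun x => (f x : ℂ)) (Subtype.ext (MulAut.conjNormal_apply g n))).trans
      (hinv g n))
  obtain ⟨ρ, hρ⟩ := exists_extension_of_hom (linearRep f) (linearRep_inv f hinv')
    (intMem_of_primes _ fun p hp => by
      by_cases hpo : p ∣ orderOf (fun n => (f n : ℂ))
      · obtain ⟨H, hNH, ν, hcop, -, hν, -, hres⟩ := hsyl p hp hpo
        obtain ⟨ρP, hρP, -⟩ := exists_rep_of_res_eq (Subgroup.inclusion hNH) (linearRep f) hν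
          (fun n => by rw [linearRep_character]; exact hres n)
        exact ⟨H.index, hcop, index_mem_extExponents _ (linearRep_inv f hinv') H hNH ρP hρP⟩
      · rw [orderOf_coe_hom] at hpo
        exact ⟨orderOf f, (hp.coprime_iff_not_dvd.mpr hpo).symm, orderOf_mem_extExponents f⟩)
  obtain ⟨μ, hμ⟩ := exists_linear_extension_of_rep hρ
  exact ⟨fun g => (μ g : ℂ), (isIrrCharacter_linear μ).isCharacter, by simp,
    fun n => congrArg Units.val (hμ n)⟩

end Cfsg.Agent.S0864
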