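import Cfsg.Statements.S0865
import Cfsg.Agent.Lib.Char.LinearExt
import Cfsg.Agent.Lib.Char.Linear
-- import your own Cfsg.Agent.* helpers here

set_option autoImplicit false
open Cfsg

namespace Cfsg.Agent.S0865

set_option linter.style.haveILetI false
open Cfsg Cfsg.Lib.Char


/-- Let N be a normal subgroup of the finite group G and λ a character of N of degree 1, invariant under conjugation by G, whose order (under pointwise multiplication) is coprime to the index of N. Then there is a character μ of G of degree 1 restricting to λ with the same order as λ, and μ is the only degree-1 character of G restricting to λ whose order is coprime to the index of N. -/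
theorem result {G : Type*} [Group G] [Finite G] (N : Subgroup G) [hN : N.Normal] (lam : N → ℂ) (hlam : Cfsg.IsCharacter N lam ∧ lam 1 = 1) (hinv : ∀ (g : G) (n : N), lam ⟨g * n * g⁻¹, hN.conj_mem (n : G) n.2 g⟩ = lam n) (hcop : Nat.Coprime N.index (orderOf lam)) : ∃ μ : G → ℂ, (Cfsg.IsCharacter G μ ∧ μ 1 = 1 ∧ (∀ n : N, μ n = lam n) ∧ orderOf μ = orderOf lam) ∧ ∀ μ' : G → ℂ, Cfsg.IsCharacter G μ' ∧ μ' 1 = 1 → (∀ n : N, μ' n = lam n) → Nat.Coprime N.index (orderOf μ') → μ' = μ := by
  obtain ⟨f, rfl⟩ := exists_hom_of_degree_one hlam.1 hlam.2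
  rw [orderOf_coe_hom] at hcop
  obtain ⟨μ, hμ, hord⟩ := exists_linear_extension_coprime f (fun g n =>
    Units.ext ((congrArg (fun x => (f x : ℂ)) (Subtype.ext (MulAut.conjNormal_apply g n))).trans
      (hinv g n))) hcop
  refine ⟨fun g => (μ g : ℂ), ⟨(isIrrCharacter_linear μ).isCharacter, by simp,
    fun n => congrArg Units.val (hμ n), by rw [orderOf_coe_hom, orderOf_coe_hom, hord]⟩, ?_⟩
  rintro μ' ⟨hμ', hμ'1⟩ hres hcop'
  obtain ⟨f', rfl⟩ := exists_hom_of_degree_one hμ' hμ'1
  rw [orderOf_coe_hom] at hcop'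
  funext g
  have hq : ∀ n ∈ N, (f' * μ⁻¹) n = 1 := fun n hn => by
    rw [MonoidHom.mul_apply, MonoidHom.inv_apply, mul_inv_eq_one, hμ ⟨n, hn⟩]
    exact Units.ext (hres ⟨n, hn⟩)
  have h1 := pow_index_eq_one_of_trivial (f' * μ⁻¹) hq g
  have h2 : (f' * μ⁻¹) g ^ (orderOf f' * orderOf μ) = 1 := by
    have key : ∀ (F : G →* ℂˣ) (k : ℕ), orderOf F ∣ k → F g ^ k = 1 := fun F k hk => by
      rw [← MonoidHom.pow_apply, orderOf_dvd_iff_pow_eq_one.mp hk, MonoidHom.one_apply]
    rw [MonoidHom.mul_apply, MonoidHom.inv_apply, mul_pow, inv_pow, key _ _ (dvd_mul_right _ _),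
      key _ _ (dvd_mul_left _ _), inv_one, mul_one]
  have h3 := pow_gcd_eq_one.mpr ⟨h1, h2⟩
  rw [Nat.Coprime.gcd_eq_one (hcop'.mul_right (hord ▸ hcop)), pow_one, MonoidHom.mul_apply,
    MonoidHom.inv_apply, mul_inv_eq_one] at h3
  rw [h3]

end Cfsg.Agent.S0865
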