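import Cfsg.Statements.S0866
import Cfsg.Agent.Lib.Char.Extension
import Cfsg.Agent.Lib.Char.Linear
-- import your own Cfsg.Agent.* helpers here

set_option autoImplicit false
open Cfsg

namespace Cfsg.Agent.S0866

set_option linter.style.haveILetI false
open Cfsg Cfsg.Lib.Char


/-- Let N be a normal subgroup of the finite group G and ϑ an irreducible character of N, invariant under conjugation by G, of degree d coprime to the index of N. Then ϑ is the restriction of an irreducible character of G if and only if the determinantal character of ϑ is the restriction of a character of G of degree 1. -/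
theorem result {G : Type*} [Group G] [Finite G] (N : Subgroup G) [hN : N.Normal] (ϑ : N → ℂ) (hϑ : Cfsg.IsIrrCharacter N ϑ) (hinv : ∀ (g : G) (n : N), ϑ ⟨g * n * g⁻¹, hN.conj_mem (n : G) n.2 g⟩ = ϑ n) (d : ℕ) (hd : ϑ 1 = d) (hcop : Nat.Coprime N.index d) : (∃ χ : G → ℂ, Cfsg.IsIrrCharacter G χ ∧ (∀ n : N, χ n = ϑ n)) ↔ ∃ μ : G → ℂ, Cfsg.IsCharacter G μ ∧ μ 1 = 1 ∧ ∀ n : N, μ n = Cfsg.detChar ϑ n := by
  obtain ⟨m, σ, hσ, rfl⟩ := hϑ
  haveI := hσ
  have hinv' : ∀ (g : G) (n : N), σ.character (MulAut.conjNormal g n) = σ.character n :=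
    fun g n => (congrArg σ.character (Subtype.ext (MulAut.conjNormal_apply g n))).trans (hinv g n)
  have hdeg : d = Module.finrank ℂ (Fin m → ℂ) := by
    rw [Representation.char_one] at hd; exact_mod_cast hd.symm
  rw [hdeg] at hcop
  constructor
  · rintro ⟨χ, hχ, hres⟩
    obtain ⟨ρ, hρ, -⟩ := exists_rep_of_res_eq N.subtype σ hχ.isCharacter hres
    refine ⟨fun g => (detHom ρ g : ℂ), (isIrrCharacter_linear (detHom ρ)).isCharacter, by simp,
      fun n => ?_⟩
    rw [detChar_character]
    exact congrArg LinearMap.det (hρ n)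
  · rintro ⟨μ, hμ, hμ1, hμN⟩
    obtain ⟨f, rfl⟩ := exists_hom_of_degree_one hμ hμ1
    obtain ⟨ρ, hρ⟩ := exists_extension_of_det σ hinv' hcop f fun n => Units.ext (by
      simpa only [detChar_character] using hμN n)
    exact ⟨ρ.character, (by haveI := isIrreducible_of_extension hρ; exact isIrrCharacter_character ρ),
    fun n => congrArg (LinearMap.trace ℂ _) (hρ n)⟩

end Cfsg.Agent.S0866
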