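import Cfsg.Statements.S0867
import Cfsg.Agent.Lib.Char.LinearExt
import Cfsg.Agent.Lib.Char.Linear
-- import your own Cfsg.Agent.* helpers here

set_option autoImplicit false
open Cfsg

namespace Cfsg.Agent.S0867

set_option linter.style.haveILetI false
open Cfsg Cfsg.Lib.Char


/-- Let N be a normal subgroup of the finite group G and ϑ an irreducible character of N of degree d, invariant under conjugation by G, such that the index of N is coprime to the product of d and the determinantal order of ϑ. Then there is an irreducible character χ of G restricting to ϑ whose determinantal order equals that of ϑ, and χ is the only irreducible character of G restricting to ϑ whose determinantal order is coprime to the index of N. -/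
theorem result {G : Type*} [Group G] [Finite G] (N : Subgroup G) [hN : N.Normal] (ϑ : N → ℂ) (hϑ : Cfsg.IsIrrCharacter N ϑ) (hinv : ∀ (g : G) (n : N), ϑ ⟨g * n * g⁻¹, hN.conj_mem (n : G) n.2 g⟩ = ϑ n) (d : ℕ) (hd : ϑ 1 = d) (hcop : Nat.Coprime N.index (Cfsg.detOrder ϑ * d)) : ∃ χ : G → ℂ, (Cfsg.IsIrrCharacter G χ ∧ (∀ n : N, χ n = ϑ n) ∧ Cfsg.detOrder χ = Cfsg.detOrder ϑ) ∧ ∀ χ' : G → ℂ, Cfsg.IsIrrCharacter G χ' → (∀ n : N, χ' n = ϑ n) → Nat.Coprime N.index (Cfsg.detOrder χ') → χ' = χ := by
  obtain ⟨m, σ, hσ, rfl⟩ := hϑ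
  haveI := hσ
  have hinv' : ∀ (g : G) (n : N), σ.character (MulAut.conjNormal g n) = σ.character n :=
    fun g n => (congrArg σ.character (Subtype.ext (MulAut.conjNormal_apply g n))).trans (hinv g n)
  have hdeg : d = Module.finrank ℂ (Fin m → ℂ) := by
    rw [Representation.char_one] at hd; exact_mod_cast hd.symm
  have hco : detOrder σ.character = orderOf (detHom σ) := detOrder_character σ
  rw [hco] at hcop ⊢
  have hcd : Nat.Coprime N.index (Module.finrank ℂ (Fin m → ℂ)) :=
    hdeg ▸ Nat.Coprime.coprime_mul_left_right hcop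
  have hci : Nat.Coprime N.index (orderOf (detHom σ)) := Nat.Coprime.coprime_mul_right_right hcop
  have hdinv : ∀ (g : G) (n : N), detHom σ (MulAut.conjNormal g n) = detHom σ n := fun g n => by
    obtain ⟨φ⟩ := nonempty_equiv_of_character_eq σ
      (σ.comp (MulAut.conjNormal g : MulAut N).toMonoidHom) (funext fun n => (hinv' g n).symm)
    exact Units.ext (det_eq_of_equiv φ n)
  obtain ⟨μ, hμ, hord⟩ := exists_linear_extension_coprime (detHom σ) hdinv hci
  obtain ⟨ρ₀, hρ₀⟩ := exists_extension_of_det σ hinv' hcd μ hμ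
  obtain ⟨ρ, hρ, hdet⟩ := exists_extension_det_eq hρ₀ hcd μ hμ
  haveI := isIrreducible_of_extension hρ
  refine ⟨ρ.character, ⟨isIrrCharacter_character ρ, fun n => congrArg (LinearMap.trace ℂ _) (hρ n),
    by rw [detOrder_character, hdet, hord]⟩, ?_⟩
  intro χ hχ hres hco'
  obtain ⟨τ, hτ, rfl⟩ := exists_rep_of_res_eq N.subtype σ hχ.isCharacter hres
  rw [detOrder_character] at hco'
  rw [eq_of_extension_det hρ hτ hcd]
  refine MonoidHom.ext fun g => ?_
  have hq : ∀ n ∈ N, (detHom τ * (detHom ρ)⁻¹) n = 1 := fun n hn => by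
    rw [MonoidHom.mul_apply, MonoidHom.inv_apply, mul_inv_eq_one]
    exact Units.ext (congrArg LinearMap.det ((hτ ⟨n, hn⟩).trans (hρ ⟨n, hn⟩).symm))
  have h1 := pow_index_eq_one_of_trivial (detHom τ * (detHom ρ)⁻¹) hq g
  have h2 : (detHom τ * (detHom ρ)⁻¹) g ^ (orderOf (detHom τ) * orderOf (detHom ρ)) = 1 := by
    have key : ∀ (F : G →* ℂˣ) (k : ℕ), orderOf F ∣ k → F g ^ k = 1 := fun F k hk => by
      rw [← MonoidHom.pow_apply, orderOf_dvd_iff_pow_eq_one.mp hk, MonoidHom.one_apply]
    rw [MonoidHom.mul_apply, MonoidHom.inv_apply, mul_pow, inv_pow, key _ _ (dvd_mul_right _ _),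
      key _ _ (dvd_mul_left _ _), inv_one, mul_one]
  have h3 := pow_gcd_eq_one.mpr ⟨h1, h2⟩
  rw [Nat.Coprime.gcd_eq_one (hco'.mul_right (by rw [hdet, hord]; exact hci)), pow_one,
    MonoidHom.mul_apply, MonoidHom.inv_apply, mul_inv_eq_one] at h3
  exact h3

end Cfsg.Agent.S0867
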