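import Cfsg.Statements.S0868
import Cfsg.Agent.Lib.Char.Gallagher

set_option autoImplicit false
open scoped ComplexConjugate
open Cfsg Cfsg.Lib.Char
open scoped ComplexConjugate

namespace Cfsg.Agent.S0868

/-- Let N be a normal subgroup of the finite group G, χ an irreducible character of G whose restriction ϑ to N is irreducible, and ψ an irreducible character of G. Define η on G by η g = (1 / order of N) * Σ over n in N of ψ (n * g) * conj (χ (n * g)). Then: if the restriction of ψ to N has nonzero inner product with ϑ, η is an irreducible character of G; if that inner product is zero, η vanishes identically; and if ψ = χ then η is identically 1. -/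
theorem result {G : Type*} [Group G] [Fintype G] (N : Subgroup G) [N.Normal] [Fintype N] (χ : G → ℂ) (hχ : Cfsg.IsIrrCharacter G χ) (hχN : Cfsg.IsIrrCharacter N (fun n : N => χ n)) (ψ : G → ℂ) (hψ : Cfsg.IsIrrCharacter G ψ) (η : G → ℂ) (hη : η = fun g => (Nat.card N : ℂ)⁻¹ * ∑ n : N, ψ ((n : G) * g) * conj (χ ((n : G) * g))) : (Cfsg.classInner (fun n : N => ψ n) (fun n : N => χ n) ≠ 0 → Cfsg.IsIrrCharacter G η) ∧ (Cfsg.classInner (fun n : N => ψ n) (fun n : N => χ n) = 0 → η = 0) ∧ (ψ = χ → η = fun _ => 1) := by
  classical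
  set ϑ : N → ℂ := fun n => χ n with hϑ
  have hbij := gallagher_bijOn N (φ := fun _ => 1) (ϑ := ϑ) isIrrCharacter_one
    (fun g => rfl) (fun g => conjTwist_res N hχ.isClassFunction g)
    (by simpa [Pi.mul_def] using hχN) hχ.isCharacter (fun n => rfl)
  rw [show ((fun _ => 1) * ϑ : N → ℂ) = ϑ from funext fun n => one_mul _] at hbij
  have hN0 : (Nat.card N : ℂ) ≠ 0 := Nat.cast_ne_zero.mpr Nat.card_pos.ne'
  have hF : IsClassFunction G fun x => ψ x * conj (χ x) := fun a b => by
    simp only [hψ.isClassFunction a b, hχ.isClassFunction a b]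
  have hcf : IsClassFunction G η := fun a b => by
    subst hη
    simp only
    congr 1
    refine (Fintype.sum_equiv (MulAut.conjNormal b : MulAut N).toEquiv
      (fun n : N => ψ ((n : G) * a) * conj (χ ((n : G) * a))) _ fun n => ?_).symm
    have e : (((MulAut.conjNormal b : MulAut N).toEquiv n : N) : G) * (b * a * b⁻¹) =
        b * ((n : G) * a) * b⁻¹ := by
      simp only [MulEquiv.toEquiv_eq_coe, MulEquiv.coe_toEquiv, MulAut.conjNormal_apply]
      group
    simp only [e]
    exact (hF _ b).symm
  -- the coefficients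
  have key : ∀ γ : IrrCharacter G, classInner η (γ : G → ℂ) =
      if classInner (indFun N (fun _ => 1)) (γ : G → ℂ) ≠ 0 then
        classInner ψ ((γ : G → ℂ) * χ) else 0 := by
    intro γ
    have h1 : classInner η (γ : G → ℂ) = (Nat.card G : ℂ)⁻¹ * ((Nat.card N : ℂ)⁻¹ *
        ∑ x : G, ψ x * conj (χ x) * conj (∑ n : N, (γ : G → ℂ) ((n : G) * x))) := by
      subst hη
      simp only [classInner]
      congr 1
      simp only [Finset.mul_sum, Finset.sum_mul, map_sum]
      rw [Finset.sum_comm]
      conv_rhs => rw [Finset.sum_comm]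
      refine Fintype.sum_equiv (Equiv.inv N) _ _ fun n => ?_
      refine Fintype.sum_equiv (Equiv.mulLeft (n : G)) _ _ fun g => ?_
      simp only [Equiv.coe_mulLeft, Equiv.inv_apply, InvMemClass.coe_inv, inv_mul_cancel_left]
      ring
    rcases sum_coset_char_cases N γ.2 with h | ⟨-, hne, h⟩
    · rw [h1]
      simp only [h, map_zero, mul_zero, Finset.sum_const_zero]
      split_ifs with hc
      · exfalso
        -- the constituent is trivial on `N`
        have hk : ∀ n : N, (γ : G → ℂ) n = (γ : G → ℂ) 1 := fun n => apply_eq_of_constituent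
          (isCharacter_indFun N isIrrCharacter_one.isCharacter) γ.2 hc (indFun_one_apply N n)
        have := h 1
        simp only [mul_one, hk, Finset.sum_const, Finset.card_univ, nsmul_eq_mul, mul_eq_zero,
          γ.2.apply_one_ne_zero, or_false, ← Nat.card_eq_fintype_card] at this
        exact hN0 this
      · rfl
    · rw [if_pos hne, h1]
      simp only [h, map_mul, Complex.conj_natCast, classInner, Pi.mul_apply]
      congr 1
      rw [Finset.mul_sum]
      refine Finset.sum_congr rfl fun x _ => ?_
      field_simp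
  have hexp := eq_sum_classInner hcf
  refine ⟨fun hc => ?_, fun hc => ?_, fun he => ?_⟩
  · have hψmem : classInner (indFun N ϑ) ψ ≠ 0 := by
      rw [classInner_indFun N _ hψ.isClassFunction, ← classInner_conj_symm]
      exact (map_ne_zero _).mpr hc
    obtain ⟨β, ⟨hβ, hβc⟩, hβψ⟩ := hbij.surjOn ⟨hψ, hψmem⟩
    suffices η = β by rw [this]; exact hβ
    rw [hexp, Finset.sum_eq_single (⟨β, hβ⟩ : IrrCharacter G)]
    · rw [key, if_pos hβc, show (β * χ : G → ℂ) = ψ from hβψ, classInner_irr_self hψ, one_smul]
    · intro γ _ hne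
      rw [key]
      split_ifs with h
      · obtain ⟨hi, -⟩ := hbij.mapsTo ⟨γ.2, h⟩
        rw [classInner_irr_ne hψ hi (fun e => hne (Subtype.ext (hbij.injOn ⟨γ.2, h⟩ ⟨hβ, hβc⟩
          (e.symm.trans hβψ.symm)))), zero_smul]
      · rw [zero_smul]
    · simp
  · rw [hexp]
    refine Finset.sum_eq_zero fun γ _ => ?_
    rw [key]
    split_ifs with h
    · obtain ⟨hi, hic⟩ := hbij.mapsTo ⟨γ.2, h⟩
      rw [classInner_irr_ne hψ hi (fun e => ?_), zero_smul]
      rw [← e, classInner_indFun N _ hψ.isClassFunction, ← classInner_conj_symm] at hic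
      exact hic (by rw [hc, map_zero])
    · rw [zero_smul]
  · have hone : classInner (indFun N (fun _ => 1)) (fun _ : G => (1 : ℂ)) ≠ 0 := by
      rw [classInner_indFun N _ (fun _ _ => rfl), classInner_irr_self isIrrCharacter_one]
      exact one_ne_zero
    rw [hexp, Finset.sum_eq_single (⟨_, isIrrCharacter_one⟩ : IrrCharacter G)]
    · rw [key, if_pos hone, he, show (fun _ : G => (1 : ℂ)) * χ = χ from funext fun g => one_mul _,
        classInner_irr_self hχ, one_smul]
    · intro γ _ hne
      rw [key]
      split_ifs with h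
      · obtain ⟨hi, -⟩ := hbij.mapsTo ⟨γ.2, h⟩
        rw [he, classInner_irr_ne hχ hi (fun e => hne (Subtype.ext (hbij.injOn ⟨γ.2, h⟩
          ⟨isIrrCharacter_one, hone⟩ (by
            show (γ : G → ℂ) * χ = (fun _ => (1 : ℂ)) * χ
            exact e.symm.trans (funext fun g => (one_mul _).symm))))), zero_smul]
      · rw [zero_smul]
    · simp

end Cfsg.Agent.S0868
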