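import Cfsg.Statements.S0870
import Cfsg.Agent.S0190
import Cfsg.Agent.Lib.Char.Induced
import Mathlib.GroupTheory.GroupAction.Quotient
-- import your own Cfsg.Agent.* helpers here

set_option autoImplicit false
open Cfsg

namespace Cfsg.Agent.S0870

set_option linter.style.haveILetI false
open Cfsg Cfsg.Lib.Char


/-- For subgroups H and K of a finite group G, the pointwise product of the functions induced from the constant function 1 on H and on K is a sum, over subgroups U of H with natural-number coefficients, of the functions induced from the constant function 1 on U. -/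
theorem result {G : Type*} [Group G] [Fintype G] (H K : Subgroup G) : ∃ a : Subgroup G → ℕ, (∀ U, a U ≠ 0 → U ≤ H) ∧ Cfsg.indFun H (fun _ => 1) * Cfsg.indFun K (fun _ => 1) = ∑ U : Subgroup G, (a U : ℂ) • Cfsg.indFun U (fun _ => 1) := by
  classical
  let Y := (G ⧸ H) × (G ⧸ K)
  let Q := Quotient (MulAction.orbitRel G Y)
  haveI := Fintype.ofFinite Q
  have hrep : ∀ q : Q, ∃ y : Y,
      Quotient.mk (MulAction.orbitRel G Y) y = q ∧ y.1 = ((1 : G) : G ⧸ H) := by
    intro q
    induction q using Quotient.inductionOn with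
    | h y =>
      obtain ⟨g, hg⟩ := MulAction.exists_smul_eq G y.1 ((1 : G) : G ⧸ H)
      exact ⟨g • y, Quotient.sound ⟨g, rfl⟩, hg⟩
  choose rep hrep1 hrep2 using hrep
  have hstab : ∀ q, MulAction.stabilizer G (rep q) ≤ H := by
    intro q g hg
    have h1 : g • (rep q).1 = (rep q).1 := congrArg Prod.fst (MulAction.mem_stabilizer_iff.mp hg)
    rw [hrep2 q] at h1
    have h2 : ((g : G) : G ⧸ H) = ((1 : G) : G ⧸ H) := by
      rw [← h1]; exact congrArg _ (mul_one g).symm
    simpa using! QuotientGroup.eq.mp h2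
  refine ⟨fun U => (Finset.univ.filter fun q => MulAction.stabilizer G (rep q) = U).card,
    fun U hU => ?_, ?_⟩
  · obtain ⟨q, hq⟩ := Finset.card_ne_zero.mp hU
    exact (Finset.mem_filter.mp hq).2 ▸ hstab q
  have hperm : ∀ (L : Subgroup G),
      indFun L (fun _ => (1 : ℂ)) = fun g => (Nat.card (MulAction.fixedBy (G ⧸ L) g) : ℂ) := by
    intro L
    rw [Cfsg.Agent.S0190.result (G ⧸ L) ((1 : G) : G ⧸ L)]
    exact indFun_congr L (MulAction.stabilizer_quotient L).symm (fun _ => 1) |>.symm
  have horb : ∀ q, indFun (MulAction.stabilizer G (rep q)) (fun _ => (1 : ℂ)) =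
      fun g => (Nat.card {y : Y // g • y = y ∧ Quotient.mk (MulAction.orbitRel G Y) y = q} : ℂ) := by
    intro q
    have h := Cfsg.Agent.S0190.result (G := G) (MulAction.orbit G (rep q))
      ⟨rep q, MulAction.mem_orbit_self _⟩
    have hs : MulAction.stabilizer G
        (⟨rep q, MulAction.mem_orbit_self _⟩ : MulAction.orbit G (rep q)) =
        MulAction.stabilizer G (rep q) := by
      ext g
      simp [MulAction.mem_stabilizer_iff, Subtype.ext_iff]
    have hi := indFun_congr _ hs (fun _ => (1 : ℂ))
    rw [hi, ← h]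
    funext g
    refine congrArg Nat.cast (Nat.card_congr ?_)
    refine
      { toFun := fun z => ⟨z.1.1, congrArg Subtype.val z.2,
          (Quotient.sound z.1.2 : Quotient.mk (MulAction.orbitRel G Y) z.1.1 = _).trans (hrep1 q)⟩
        invFun := fun y => ⟨⟨y.1, Quotient.exact (y.2.2.trans (hrep1 q).symm)⟩, Subtype.ext y.2.1⟩
        left_inv := fun z => rfl
        right_inv := fun y => rfl }
  have hswap : ∑ U : Subgroup G,
      ((Finset.univ.filter fun q => MulAction.stabilizer G (rep q) = U).card : ℂ) •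
        indFun U (fun _ => (1 : ℂ)) =
      ∑ q : Q, indFun (MulAction.stabilizer G (rep q)) (fun _ => 1) := by
    rw [← Finset.sum_fiberwise Finset.univ (fun q : Q => MulAction.stabilizer G (rep q))
      (fun q => indFun (MulAction.stabilizer G (rep q)) (fun _ => (1 : ℂ)))]
    refine Finset.sum_congr rfl fun U _ => ?_
    rw [Nat.cast_smul_eq_nsmul ℂ, ← Finset.sum_const]
    refine Finset.sum_congr rfl fun q hq => ?_
    rw [(Finset.mem_filter.mp hq).2]
  rw [hswap, hperm, hperm, Finset.sum_congr rfl fun q _ => horb q]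
  funext g
  simp only [Pi.mul_apply, Finset.sum_apply, ← Nat.cast_mul, ← Nat.cast_sum, ← Nat.card_prod,
    ← Nat.card_sigma]
  refine congrArg Nat.cast (Nat.card_congr
    { toFun := fun z => ⟨Quotient.mk _ (z.1.1, z.2.1), (z.1.1, z.2.1), Prod.ext z.1.2 z.2.2, rfl⟩
      invFun := fun z => (⟨z.2.1.1, congrArg Prod.fst z.2.2.1⟩, ⟨z.2.1.2, congrArg Prod.snd z.2.2.1⟩)
      left_inv := fun z => rfl
      right_inv := ?_ })
  rintro ⟨q, y, hy, rfl⟩
  rfl

end Cfsg.Agent.S0870
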