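import Cfsg.Statements.S0872
import Cfsg.Agent.Lib.Char.BrauerInduction

set_option autoImplicit false
open Cfsg

namespace Cfsg.Agent.S0872

/-- For a finite group G and a prime p there are an integer m not divisible by p and a ℤ-linear combination of functions induced from the constant function 1 on subgroups H, each having a cyclic normal subgroup of order prime to p and p-power index in H, that equals the constant function m. -/
theorem result {G : Type*} [Group G] [Fintype G] (p : ℕ) (hp : p.Prime) : ∃ (m : ℤ) (a : Subgroup G → ℤ), ¬ (p : ℤ) ∣ m ∧ (∀ H, a H ≠ 0 → (∃ C : Subgroup G, C ≤ H ∧ H ≤ Subgroup.normalizer (C : Set G) ∧ IsCyclic C ∧ Nat.Coprime (Nat.card C) p ∧ ∃ k : ℕ, C.relIndex H = p ^ k)) ∧ (fun _ : G => (m : ℂ)) = ∑ H : Subgroup G, (a H : ℂ) • Cfsg.indFun H (fun _ => 1) := by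
  classical
  obtain ⟨m, hm, hmem⟩ := Cfsg.Lib.Char.exists_const_mem_qePermSpan (G := G) hp
  suffices key : ∀ f ∈ Cfsg.Lib.Char.qePermSpan p G, ∃ a : Subgroup G → ℤ,
      (∀ H, a H ≠ 0 → Cfsg.Lib.Char.IsQuasiElem p H) ∧
      (fun g => (f g : ℂ)) = ∑ H : Subgroup G, (a H : ℂ) • Cfsg.indFun H (fun _ => 1) by
    obtain ⟨a, ha, e⟩ := key _ hmem
    exact ⟨m, a, hm, fun H hH => Cfsg.Lib.Char.exists_of_isQuasiElem H (ha H hH), e⟩
  intro f hf
  induction hf using AddSubgroup.closure_induction with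
  | zero => exact ⟨0, by simp, by funext g; simp⟩
  | mem f hf =>
    obtain ⟨H, hH, rfl⟩ := hf
    refine ⟨Pi.single H 1, fun K hK => ?_, ?_⟩
    · obtain rfl : K = H := by
        by_contra hne
        exact hK (by simp [hne])
      exact hH
    · funext g
      rw [Finset.sum_eq_single H (fun K _ hK => by simp [hK]) (by simp)]
      simp [Cfsg.Lib.Char.indFun_one_eq_fixCount]
  | add f f' _ _ hf hf' =>
    obtain ⟨a, ha, ea⟩ := hf
    obtain ⟨b, hb, eb⟩ := hf'
    refine ⟨a + b, fun H hH => ?_, ?_⟩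
    · by_cases h0 : a H = 0
      · exact hb H (by simpa [h0] using hH)
      · exact ha H h0
    · simp only [Pi.add_apply, Int.cast_add, add_smul, Finset.sum_add_distrib, ← ea, ← eb]
      rfl
  | neg f _ hf =>
    obtain ⟨a, ha, ea⟩ := hf
    refine ⟨-a, fun H hH => ha H (by simpa using hH), ?_⟩
    simp only [Pi.neg_apply, Int.cast_neg, neg_smul, Finset.sum_neg_distrib, ← ea]
    rfl

end Cfsg.Agent.S0872
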