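import Cfsg.Statements.S0875
import Cfsg.Agent.Lib.Char.ElementaryPart

set_option autoImplicit false
open Cfsg

namespace Cfsg.Agent.S0875

/-- Let G be a finite group of order m * n with m and n coprime, and g an element whose order is coprime to m. Every x in G factors uniquely as x = u * v with u, v commuting, the order of u coprime to n and the order of v coprime to m; let ϑ be the function on G equal to n at those x whose factor v is conjugate to g and equal to 0 elsewhere. Then ϑ is a linear combination of the irreducible characters of G with algebraic-integer coefficients. -/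
theorem result {G : Type*} [Group G] [Fintype G] (m n : ℕ) (hmn : Nat.card G = m * n) (hcop : Nat.Coprime m n) (g : G) (hg : Nat.Coprime (orderOf g) m) (ϑ : G → ℂ) (hϑ1 : ∀ x : G, (∃ v : G, IsConj v g ∧ (∃ u : G, x = u * v ∧ Commute u v ∧ Nat.Coprime (orderOf u) n ∧ Nat.Coprime (orderOf v) m)) → ϑ x = n) (hϑ0 : ∀ x : G, (¬ ∃ v : G, IsConj v g ∧ (∃ u : G, x = u * v ∧ Commute u v ∧ Nat.Coprime (orderOf u) n ∧ Nat.Coprime (orderOf v) m)) → ϑ x = 0) : ∃ c : Cfsg.IrrCharacter G → ℂ, (∀ χ, c χ ∈ Cfsg.AlgInt) ∧ ϑ = ∑ᶠ χ : Cfsg.IrrCharacter G, c χ • (χ : G → ℂ) := by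
  classical
  obtain ⟨k, k', hk, hk', hkk⟩ := Cfsg.Lib.Char.exists_part_exponents hcop
  have hG : Nat.card G ∣ m * n := hmn ▸ dvd_rfl
  have hpow : ∀ {a b : ℕ}, a ≡ b [MOD m * n] → ∀ x : G, x ^ a = x ^ b := fun h =>
    Cfsg.Lib.Char.pow_eq_pow_of_card_dvd hG h
  have hord : ∀ x : G, orderOf x ∣ m * n := fun x => (orderOf_dvd_natCard x).trans hG
  have hiff : ∀ x : G, (∃ v : G, IsConj v g ∧ (∃ u : G, x = u * v ∧ Commute u v ∧
      Nat.Coprime (orderOf u) n ∧ Nat.Coprime (orderOf v) m)) ↔ IsConj (x ^ k') g := by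
    intro x
    constructor
    · rintro ⟨v, hv, u, rfl, huv, hu, hv'⟩
      have h1 : u ^ k' = 1 := by
        rw [← pow_zero u]
        exact pow_eq_pow_iff_modEq.mpr (hk'.1.of_dvd (hu.dvd_of_dvd_mul_right (hord u)))
      have h2 : v ^ k' = v := by
        conv_rhs => rw [← pow_one v]
        exact pow_eq_pow_iff_modEq.mpr (hk'.2.of_dvd (hv'.dvd_of_dvd_mul_left (hord v)))
      rwa [huv.mul_pow, h1, h2, one_mul]
    · intro h
      refine ⟨x ^ k', h, x ^ k, ?_, Commute.pow_pow_self x k k', ?_, ?_⟩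
      · rw [← pow_add, hpow hkk x, pow_one]
      · have h1 : (x ^ k) ^ m = 1 := by
          rw [← pow_mul, ← pow_zero x]
          refine hpow ?_ x
          rw [mul_comm k m]
          simpa using hk.2.mul_left' m
        exact (hcop.coprime_dvd_left (orderOf_dvd_of_pow_eq_one h1))
      · have h1 : (x ^ k') ^ n = 1 := by
          rw [← pow_mul, ← pow_zero x]
          refine hpow ?_ x
          simpa using hk'.1.mul_right' n
        exact (hcop.symm.coprime_dvd_left (orderOf_dvd_of_pow_eq_one h1))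
  have hϑ : ∀ x : G, ϑ x = (n : ℂ) * (if IsConj (x ^ k') g then 1 else 0) := by
    intro x
    split_ifs with h
    · rw [mul_one, hϑ1 x ((hiff x).mpr h)]
    · rw [mul_zero, hϑ0 x (fun h' => h ((hiff x).mp h'))]
  have hclass : Cfsg.IsClassFunction G ϑ := by
    intro x y
    have e : IsConj ((y * x * y⁻¹) ^ k') g ↔ IsConj (x ^ k') g := by
      rw [conj_pow]
      have hc : IsConj (x ^ k') (y * x ^ k' * y⁻¹) := isConj_iff.mpr ⟨y, rfl⟩
      exact ⟨fun h' => hc.trans h', fun h' => hc.symm.trans h'⟩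
    rw [hϑ, hϑ, if_congr e rfl rfl]
  have key : ∀ f ∈ Cfsg.Lib.Char.elemLin {p | p.Prime} G,
      IsIntegral ℤ (Cfsg.classInner ϑ f) := by
    intro f hf
    induction hf using AddSubgroup.closure_induction with
    | zero => rw [Cfsg.Lib.Char.classInner_zero_right]; exact isIntegral_zero
    | add a b _ _ ha hb => rw [Cfsg.Lib.Char.classInner_add_right]; exact ha.add hb
    | neg a _ ha => rw [Cfsg.Lib.Char.classInner_neg_right]; exact ha.neg
    | mem a ha =>
      obtain ⟨E, ⟨p, -, hp, hE⟩, lam, rfl⟩ := ha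
      haveI := Fintype.ofFinite E
      rw [Cfsg.Lib.Char.classInner_indFun_right E _ hclass]
      have hEd : Nat.card E ∣ m * n := E.card_subgroup_dvd_card.trans hG
      have := Cfsg.Lib.Char.isIntegral_part_sum hp hE hcop hEd hk ⟨hk'.2, hk'.1⟩ hkk
        (fun e : E => if IsConj (e : G) g then (1 : ℂ) else 0)
        (fun e => by beta_reduce; split_ifs <;> simp [isIntegral_one, isIntegral_zero]) lam
      convert this using 1
      simp only [Cfsg.classInner, hϑ, SubmonoidClass.coe_pow, Finset.mul_sum]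
      exact Finset.sum_congr rfl fun e _ => by ring
  refine ⟨fun χ => Cfsg.classInner ϑ (χ : G → ℂ),
    fun χ => key _ (Cfsg.Lib.Char.char_mem_elemLin χ.2.isCharacter), ?_⟩
  rw [finsum_eq_sum_of_fintype]
  exact Cfsg.Lib.Char.eq_sum_classInner hclass

end Cfsg.Agent.S0875
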