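import Cfsg.Statements.S0876
import Cfsg.Agent.Lib.Block.RegInt
import Cfsg.Agent.Lib.Block.DefectLocal

set_option autoImplicit false
open Cfsg

namespace Cfsg.Agent.S0876

/-- Let G be a finite group, p a prime and M a maximal ideal of the ring of algebraic integers containing p. Let x, y be elements with p-parts a and b (so a⁻¹ * x and b⁻¹ * y are their p-regular parts). Then a⁻¹ * x and b⁻¹ * y are conjugate in G if and only if, for every irreducible character χ, the difference χ x - χ y lies in the local ideal at M. -/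
theorem result {G : Type*} [Group G] [Finite G] (p : ℕ) (M : Ideal Cfsg.AlgInt) (hM : Cfsg.IsPModular p M) (x y a b : G) (ha : Cfsg.IsPPart p x a) (hb : Cfsg.IsPPart p y b) : IsConj (a⁻¹ * x) (b⁻¹ * y) ↔ ∀ χ : Cfsg.IrrCharacter G, Cfsg.MemLocalIdeal M ((χ : G → ℂ) x - (χ : G → ℂ) y) := by
  classical
  haveI := Fintype.ofFinite G
  haveI := Fact.mk hM.1
  have e : ∀ {z c : G}, Cfsg.IsPPart p z c → c⁻¹ * z = Cfsg.Lib.Block.pReg p z := by
    intro z c hc
    have h := Cfsg.Lib.Block.pPt_mul_pReg (p := p) z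
    rw [← Cfsg.Lib.Block.eq_pPt_of_isPPart hc] at h
    exact inv_mul_eq_iff_eq_mul.mpr h.symm
  rw [e ha, e hb]
  constructor
  · intro h χ
    obtain ⟨c, hc⟩ := isConj_iff.mp h
    have h1 := Cfsg.Lib.Block.charVal_sub_pReg_mem hM χ.2.isCharacter x
    have h2 := Cfsg.Lib.Block.charVal_sub_pReg_mem hM χ.2.isCharacter y
    rw [← hc, χ.2.isClassFunction] at h2
    have h3 := Cfsg.Lib.Block.memLocalIdeal_sub hM h1 h2
    simpa using h3
  · intro h
    by_contra hne
    set s := Cfsg.Lib.Block.pReg p x with hs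
    have hV := Cfsg.Lib.Block.vChar_section hM s (Cfsg.Lib.Block.not_dvd_orderOf_pReg x)
    set F := (fun g : G => if IsConj (Cfsg.Lib.Block.pReg p g) s then (1 : ℂ) else 0) with hF
    have h1 : Cfsg.MemLocalIdeal M (F x - F y) := by
      have hV2 : Cfsg.Lib.Block.VChar hM F := by rw [hF]; convert hV
      rw [Cfsg.Lib.Char.eq_sum_classInner hV2.isClass]
      simp only [Finset.sum_apply, Pi.smul_apply, smul_eq_mul, ← Finset.sum_sub_distrib, ← mul_sub]
      exact Cfsg.Lib.Block.memLocalIdeal_sum hM _ _ fun χ _ =>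
        Cfsg.Lib.Block.memLocalIdeal_mul_left hM (hV2.mem χ) (h χ)
    rw [hF] at h1
    simp only [← hs, IsConj.refl, if_true, if_neg (fun h' : IsConj _ s => hne h'.symm), sub_zero]
      at h1
    exact Cfsg.Lib.Block.not_memLocalIdeal_one hM h1

end Cfsg.Agent.S0876
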