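import Cfsg.Statements.S0879
import Cfsg.Agent.Lib.Char.Zassenhaus

set_option autoImplicit false
set_option linter.style.haveILetI false
open Cfsg Cfsg.Lib.Char

namespace Cfsg.Agent.S0879

theorem result {G Ω : Type*} [Group G] [Finite G] [MulAction G Ω] [Fintype Ω] (hZ : Cfsg.IsZassenhausGroup G Ω) {a b : Ω} (hab : a ≠ b) : (∀ g : G, g ∉ Subgroup.normalizer ((MulAction.stabilizer G a ⊓ MulAction.stabilizer G b : Subgroup G) : Set G) → ∀ x ∈ (MulAction.stabilizer G a ⊓ MulAction.stabilizer G b : Subgroup G), g * x * g⁻¹ ∈ (MulAction.stabilizer G a ⊓ MulAction.stabilizer G b : Subgroup G) → x = 1) ∧ ((MulAction.stabilizer G a ⊓ MulAction.stabilizer G b : Subgroup G).subgroupOf (Subgroup.normalizer ((MulAction.stabilizer G a ⊓ MulAction.stabilizer G b : Subgroup G) : Set G))).index = 2 := by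
  classical
  obtain ⟨hfaith, h2, h3, h4, h5⟩ := hZ
  obtain ⟨x₀, hx₀, hxa, hxb⟩ := zas_two_point_ne_bot ⟨hfaith, h2, h3, h4, h5⟩ hab
  set D : Subgroup G := MulAction.stabilizer G a ⊓ MulAction.stabilizer G b with hD
  -- setwise stabilizer
  have hset : ∀ g x : G, x ∈ D → x ≠ 1 → g * x * g⁻¹ ∈ D →
      (g • a = a ∧ g • b = b) ∨ (g • a = b ∧ g • b = a) := by
    intro g x hx hx1 hgx
    have hne : g * x * g⁻¹ ≠ 1 := fun e => hx1 (by rwa [mul_inv_eq_one, mul_eq_left] at e)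
    have f1 : (g * x * g⁻¹) • (g • a) = g • a := by
      rw [mul_smul, mul_smul, inv_smul_smul]; exact congrArg (g • ·) hx.1
    have f2 : (g * x * g⁻¹) • (g • b) = g • b := by
      rw [mul_smul, mul_smul, inv_smul_smul]; exact congrArg (g • ·) hx.2
    have hd : ∀ c, (g * x * g⁻¹) • c = c → c = a ∨ c = b := fun c hc => by
      by_contra hh
      push Not at hh
      exact hne (h3 _ a b c hab hh.2.symm hh.1.symm hgx.1 hgx.2 hc)
    have hne2 : g • a ≠ g • b := fun e => hab (MulAction.injective g e)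
    rcases hd _ f1 with e1 | e1 <;> rcases hd _ f2 with e2 | e2
    · exact absurd (e1.trans e2.symm) hne2
    · exact Or.inl ⟨e1, e2⟩
    · exact Or.inr ⟨e1, e2⟩
    · exact absurd (e1.trans e2.symm) hne2
  have hnorm : ∀ g : G, (g • a = a ∧ g • b = b) ∨ (g • a = b ∧ g • b = a) →
      g ∈ Subgroup.normalizer (D : Set G) := by
    intro g hg
    have hp : ∀ k : G, (k • a = a ∧ k • b = b) ∨ (k • a = b ∧ k • b = a) → ∀ y ∈ D, k * y * k⁻¹ ∈ D := by
      intro k hk y hy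
      have hya : y • a = a := hy.1
      have hyb : y • b = b := hy.2
      rcases hk with ⟨e1, e2⟩ | ⟨e1, e2⟩
      · have i1 : k⁻¹ • a = a := by rw [inv_smul_eq_iff, e1]
        have i2 : k⁻¹ • b = b := by rw [inv_smul_eq_iff, e2]
        exact ⟨show (k * y * k⁻¹) • a = a by rw [mul_smul, mul_smul, i1, hya, e1],
          show (k * y * k⁻¹) • b = b by rw [mul_smul, mul_smul, i2, hyb, e2]⟩
      · have i1 : k⁻¹ • b = a := by rw [inv_smul_eq_iff, e1]
        have i2 : k⁻¹ • a = b := by rw [inv_smul_eq_iff, e2]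
        exact ⟨show (k * y * k⁻¹) • a = a by rw [mul_smul, mul_smul, i2, hyb, e2],
          show (k * y * k⁻¹) • b = b by rw [mul_smul, mul_smul, i1, hya, e1]⟩
    have hinv : (g⁻¹ • a = a ∧ g⁻¹ • b = b) ∨ (g⁻¹ • a = b ∧ g⁻¹ • b = a) := by
      rcases hg with ⟨e1, e2⟩ | ⟨e1, e2⟩
      · exact Or.inl ⟨by rw [inv_smul_eq_iff, e1], by rw [inv_smul_eq_iff, e2]⟩
      · exact Or.inr ⟨by rw [inv_smul_eq_iff, e2], by rw [inv_smul_eq_iff, e1]⟩
    exact fun y => ⟨fun hy => hp g hg y hy, fun hy => by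
      simpa [mul_assoc] using hp g⁻¹ hinv _ hy⟩
  refine ⟨fun g hg x hx hgx => ?_, ?_⟩
  · by_contra hx1
    exact hg (hnorm g (hset g x hx hx1 hgx))
  · obtain ⟨s, hsa, hsb⟩ := MulAction.is_two_pretransitive_iff.1 h2 hab hab.symm
    rw [Subgroup.index_eq_two_iff]
    refine ⟨⟨s, hnorm s (Or.inr ⟨hsa, hsb⟩)⟩, fun n => ?_⟩
    have hn : ((n : G) • a = a ∧ (n : G) • b = b) ∨ ((n : G) • a = b ∧ (n : G) • b = a) :=
      hset n x₀ ⟨hxa, hxb⟩ hx₀ ((n.2 x₀).mp ⟨hxa, hxb⟩)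
    simp only [Subgroup.mem_subgroupOf, Subgroup.coe_mul]
    rcases hn with ⟨e1, e2⟩ | ⟨e1, e2⟩
    · exact Or.inr ⟨⟨e1, e2⟩, fun h => hab (by
        have h1 : ((n : G) * s) • a = a := h.1
        rw [mul_smul, hsa, e2] at h1; exact h1.symm)⟩
    · exact Or.inl ⟨⟨show ((n : G) * s) • a = a by rw [mul_smul, hsa, e2],
        show ((n : G) * s) • b = b by rw [mul_smul, hsb, e1]⟩, fun h => hab (by
        have h1 : (n : G) • a = a := h.1
        exact h1.symm.trans e1)⟩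

end Cfsg.Agent.S0879
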