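import Cfsg.Statements.S0880
import Cfsg.Agent.Lib.Char.ZassenhausOdd


set_option autoImplicit false
set_option linter.style.haveILetI false
open Cfsg Cfsg.Lib.Char

namespace Cfsg.Agent.S0880

theorem result {G Ω : Type*} [Group G] [Finite G] [MulAction G Ω] [Fintype Ω] (hZ : Cfsg.IsZassenhausGroup G Ω) {a b : Ω} (hab : a ≠ b) [IsSimpleGroup G] (hodd : Odd (Nat.card ↥(MulAction.stabilizer G a ⊓ MulAction.stabilizer G b : Subgroup G))) (hlt : Nat.card ↥(MulAction.stabilizer G a ⊓ MulAction.stabilizer G b : Subgroup G) < Fintype.card Ω - 2) : ∃ x y : G, (∀ c : Ω, x • c ≠ c) ∧ (∀ c : Ω, y • c ≠ c) ∧ ¬ IsConj x y := by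
  classical
  haveI := Fintype.ofFinite G
  have h2 := zas_two_lt_card hZ
  obtain ⟨h, hh⟩ : ∃ h, Fintype.card Ω = h + 1 := ⟨Fintype.card Ω - 1, by omega⟩
  obtain ⟨c1, c2, c3⟩ := zas_counts hZ hab hh rfl
  obtain ⟨-, hG⟩ := zas_card_group hZ hab
  have h3 := zas_three_le_D hZ hab hodd
  rw [hh, Nat.add_sub_cancel] at hG
  generalize hE : Nat.card ↥(MulAction.stabilizer G a ⊓ MulAction.stabilizer G b : Subgroup G) = e
    at c1 c2 c3 hG h3 hlt
  rw [hh] at hlt
  set S := Finset.univ.filter fun g : G => g ≠ 1 ∧ zasFix Ω g = 0 with hS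
  -- twice the number of fixed-point-free elements
  obtain ⟨j, rfl⟩ : ∃ j, e = j + 3 := ⟨e - 3, by omega⟩
  obtain ⟨w, rfl⟩ : ∃ w, h = w + (j + 3) + 2 := ⟨h - (j + 3) - 2, by omega⟩
  rw [hG] at c3
  have hS2 : 2 * S.card = (w + (j + 3) + 2) * ((w + (j + 3) + 2 + 1) * (j + 2) + 2) := by
    nlinarith [c1, c2, c3]
  have hiff : ∀ g : G, g ∈ S ↔ ∀ c : Ω, g • c ≠ c := by
    intro g
    simp only [hS, Finset.mem_filter, Finset.mem_univ, true_and, zasFix, Finset.card_eq_zero,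
      Finset.filter_eq_empty_iff, forall_true_left]
    refine ⟨fun h c => @h.2 c, fun h => ⟨fun e => ?_, fun {c} => h c⟩⟩
    exact h a (by rw [e, one_smul])
  have hne : S.Nonempty := by
    rw [← Finset.card_pos]
    by_contra h0
    rw [Nat.eq_zero_of_not_pos h0] at hS2
    nlinarith
  obtain ⟨x, hx⟩ := hne
  by_contra hcon
  push Not at hcon
  have hcl : ∀ g : G, g ∈ S ↔ IsConj g x := by
    refine fun g => ⟨fun hg => hcon g x ((hiff g).mp hg) ((hiff x).mp hx), fun hg => ?_⟩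
    obtain ⟨k, hk⟩ := isConj_iff.mp hg.symm
    rw [hiff, ← hk]
    intro c hc
    apply (hiff x).mp hx (k⁻¹ • c)
    rw [eq_inv_smul_iff, ← mul_smul, ← mul_smul]
    exact hc
  have hdvd : S.card ∣ Nat.card G := by
    have h1 : S.card = Nat.card (MulAction.orbit (ConjAct G) x) := by
      rw [Nat.card_eq_fintype_card, ← Set.toFinset_card]
      congr 1
      ext g
      rw [Set.mem_toFinset, ConjAct.mem_orbit_conjAct, hcl]
    have h4 : Nat.card G = Nat.card (ConjAct G) := Nat.card_congr ConjAct.toConjAct.toEquiv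
    rw [h1, h4, ← Nat.card_congr (MulAction.orbitEquivQuotientStabilizer (ConjAct G) x).symm]
    exact Subgroup.card_quotient_dvd_card _
  obtain ⟨k, hk⟩ := hdvd
  rw [hG] at hk
  -- `m := n(e-1) + 2` divides `4e` but exceeds it
  have h5 : ((w + (j + 3) + 2 + 1) * (j + 2) + 2) * k = 2 * ((w + (j + 3) + 2 + 1) * (j + 3)) := by
    refine Nat.eq_of_mul_eq_mul_left (show 0 < w + (j + 3) + 2 by omega) ?_
    linear_combination (2 : ℕ) * hk.symm - k * hS2
  have hd : (w + (j + 3) + 2 + 1) * (j + 2) + 2 ∣ 4 * (j + 3) := by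
    have ha : (w + (j + 3) + 2 + 1) * (j + 2) + 2 ∣
        2 * ((w + (j + 3) + 2 + 1) * (j + 3)) * (j + 2) := Dvd.dvd.mul_right ⟨k, h5.symm⟩ _
    have hb : (w + (j + 3) + 2 + 1) * (j + 2) + 2 ∣
        2 * ((w + (j + 3) + 2 + 1) * (j + 3)) * (j + 2) + 4 * (j + 3) :=
      ⟨2 * (j + 3), by ring⟩
    exact (Nat.dvd_add_right ha).mp hb
  have := Nat.le_of_dvd (by omega) hd
  nlinarith

end Cfsg.Agent.S0880
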