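import Cfsg.Statements.S0882
import Cfsg.Agent.Lib.Char.ZassenhausOdd


set_option autoImplicit false
set_option linter.style.haveILetI false
open Cfsg Cfsg.Lib.Char

namespace Cfsg.Agent.S0882

theorem result {G Ω : Type*} [Group G] [Finite G] [MulAction G Ω] [Fintype Ω] (hZ : Cfsg.IsZassenhausGroup G Ω) {a b : Ω} (hab : a ≠ b) [IsSimpleGroup G] (h e : ℕ) (hh : Fintype.card Ω = h + 1) (he : Nat.card ↥(MulAction.stabilizer G a ⊓ MulAction.stabilizer G b : Subgroup G) = e) (hodd : Odd e) (hlt : 2 * e < h - 1) : (∀ x y : G, orderOf x = 2 → orderOf y = 2 → IsConj x y) ∧ Nat.card {x : G // orderOf x = 2} = (if Even h then e * (h + 1) else e * h) := by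
  classical
  haveI := Fintype.ofFinite G
  subst he
  obtain ⟨s, hs, hsa, hsb⟩ := (Cfsg.Agent.S0740.result hZ hab).1
  refine ⟨fun x y hx hy => (zas_invol_conj hZ hab hodd hx hs hsa hsb).trans
    (zas_invol_conj hZ hab hodd hy hs hsa hsb).symm, ?_⟩
  obtain ⟨hev, hod⟩ := zas_invol_count hZ hab hodd hh rfl
  rw [Nat.card_eq_fintype_card, Fintype.card_subtype]
  split_ifs with h2
  · convert (hev h2).2 using 2
  · convert (hod h2).2 using 2

end Cfsg.Agent.S0882
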