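import Cfsg.Statements.S0890
import Cfsg.Agent.Lib.Char.Ramification
import Cfsg.Agent.Lib.PGroup.Basic
import Mathlib.GroupTheory.PGroup

set_option autoImplicit false
set_option linter.style.haveILetI false
open Cfsg Cfsg.Lib.Char
open scoped Pointwise

namespace Cfsg.Agent.S0890

theorem irr_of_res {X Y : Type*} [Group X] [Fintype X] [Group Y] [Fintype Y] {f : X → ℂ}
    (hf : IsCharacter X f) (j : Y →* X) (hirr : IsIrrCharacter Y fun y => f (j y)) :
    IsIrrCharacter X f := by
  obtain ⟨ν, hν⟩ := exists_constituent hf (by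
    have := hirr.apply_one_ne_zero; simpa using this)
  have hr := isCharacter_sub_constituent hf ν.2 hν
  have ha : IsCharacter Y fun y => (ν : X → ℂ) (j y) := ν.2.isCharacter.comp j
  have hb : IsCharacter Y fun y => (f - (ν : X → ℂ)) (j y) := hr.comp j
  obtain ⟨μ, hμ⟩ := exists_constituent ha (by rw [map_one]; exact ν.2.apply_one_ne_zero)
  obtain ⟨a, hae⟩ := ha.exists_nat_classInner μ.2.isCharacter
  obtain ⟨b, hbe⟩ := hb.exists_nat_classInner μ.2.isCharacter
  have hμθ : (μ : Y → ℂ) = fun y => f (j y) := by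
    by_contra hne
    have h0 := classInner_irr_ne hirr μ.2 (Ne.symm hne)
    rw [show (fun y => f (j y)) = (fun y => (ν : X → ℂ) (j y)) + fun y => (f - (ν : X → ℂ)) (j y) from
      funext fun y => by simp, classInner_add_left, hae, hbe] at h0
    have h1 : a + b = 0 := by exact_mod_cast h0
    exact hμ (by rw [hae, show a = 0 by omega, Nat.cast_zero])
  have hle := degree_le_of_constituent μ.2 ha hμ
  rw [hμθ] at hle
  simp only [map_one] at hle
  obtain ⟨n, hn⟩ := hr.exists_degree
  have hn' : f 1 = (ν : X → ℂ) 1 + n := by rw [← hn]; simp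
  rw [hn', Complex.add_re, Complex.natCast_re] at hle
  have : n = 0 := by exact_mod_cast le_antisymm (show (n : ℝ) ≤ 0 by linarith) (Nat.cast_nonneg n)
  rw [eq_of_constituent_of_degree hf ν.2 hν (by rw [hn', this, Nat.cast_zero, add_zero])]
  exact ν.2

theorem res_ind {G : Type*} [Group G] [Fintype G] (N H : Subgroup G) [N.Normal] [Fintype N]
    (hNH : N ⊔ H = ⊤) {ϑ : H → ℂ} (hϑ : IsClassFunction H ϑ) :
    (fun n : N => indFun H ϑ n) = indFun (H.subgroupOf N) (fun x => ϑ ⟨((x : N) : G), x.2⟩) := by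
  classical
  haveI := Fintype.ofFinite H
  funext n
  have hsur : ∀ x : G, ∃ (y : N) (h : H), (y : G) * h = x := fun x => by
    have hx : x ∈ ((N ⊔ H : Subgroup G) : Set G) := by rw [hNH]; exact Subgroup.mem_top x
    rw [Subgroup.normal_mul] at hx
    obtain ⟨y, hy, h, hh, e⟩ := Set.mem_mul.mp hx
    exact ⟨⟨y, hy⟩, ⟨h, hh⟩, e⟩
  let F : G → ℂ := fun x => extendByZero H ϑ (x⁻¹ * (n : G) * x)
  have hinv : ∀ (y : G) (h : H), F (y * h) = F y := fun y h => by
    show extendByZero H ϑ _ = extendByZero H ϑ _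
    rw [show (y * h)⁻¹ * (n : G) * (y * h) = (h : G)⁻¹ * (y⁻¹ * n * y) * h by group]
    by_cases hz : y⁻¹ * n * y ∈ H
    · rw [extendByZero_of_mem _ _ hz, extendByZero_of_mem _ _ (H.mul_mem (H.mul_mem (H.inv_mem h.2) hz) h.2)]
      have := hϑ ⟨_, hz⟩ h⁻¹
      rw [← this]
      exact congrArg ϑ (Subtype.ext (by simp))
    · rw [extendByZero_of_notMem _ _ hz, extendByZero_of_notMem]
      exact fun hc => hz (by simpa [mul_assoc] using H.mul_mem (H.mul_mem h.2 hc) (H.inv_mem h.2))
  have hfib : ∀ x : G, (Finset.univ.filter fun p : N × H => (p.1 : G) * p.2 = x).card =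
      Nat.card (H.subgroupOf N) := by
    intro x
    obtain ⟨y₀, h₀, rfl⟩ := hsur x
    rw [← Fintype.card_subtype, ← Nat.card_eq_fintype_card]
    refine Nat.card_congr ⟨fun p => ⟨y₀⁻¹ * p.1.1, ?_⟩, fun j => ⟨(y₀ * (j : N),
      ⟨((j : N) : G)⁻¹ * h₀, H.mul_mem (H.inv_mem j.2) h₀.2⟩), by simp [mul_assoc]⟩, ?_, ?_⟩
    · rw [Subgroup.mem_subgroupOf]
      have e : ((y₀⁻¹ * p.1.1 : N) : G) = (h₀ : G) * (p.1.2 : G)⁻¹ := by
        push_cast
        rw [eq_mul_inv_iff_mul_eq, mul_assoc, p.2]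
        group
      rw [e]
      exact H.mul_mem h₀.2 (H.inv_mem p.1.2.2)
    · rintro ⟨⟨a, b⟩, hab⟩
      refine Subtype.ext (Prod.ext (by simp) (Subtype.ext ?_))
      show ((y₀⁻¹ * a : N) : G)⁻¹ * h₀ = b
      push_cast
      rw [mul_inv_rev, inv_inv, mul_assoc, ← hab]
      group
    · intro j
      exact Subtype.ext (by simp)
  have h1 : ∑ p : N × H, F (p.1 * p.2) = (Nat.card (H.subgroupOf N) : ℂ) * ∑ x : G, F x := by
    rw [← Finset.sum_fiberwise Finset.univ (fun p : N × H => (p.1 : G) * p.2), Finset.mul_sum]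
    refine Finset.sum_congr rfl fun x _ => ?_
    rw [Finset.sum_congr rfl fun p hp => by rw [(Finset.mem_filter.mp hp).2], Finset.sum_const,
      nsmul_eq_mul, hfib]
  have h2 : ∑ p : N × H, F (p.1 * p.2) = (Nat.card H : ℂ) * ∑ y : N, F y := by
    simp only [hinv, Fintype.sum_prod_type, Finset.sum_const, Finset.card_univ, nsmul_eq_mul,
      Nat.card_eq_fintype_card, Finset.mul_sum]
  have h3 : ∀ y : N, F y =
      extendByZero (H.subgroupOf N) (fun x => ϑ ⟨((x : N) : G), x.2⟩) (y⁻¹ * n * y) := by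
    intro y
    show extendByZero H ϑ _ = _
    by_cases hz : (y : G)⁻¹ * n * y ∈ H
    · rw [extendByZero_of_mem _ _ hz, extendByZero_of_mem _ _ (Subgroup.mem_subgroupOf.mpr (by simpa using hz))]
      exact congrArg ϑ (Subtype.ext (by simp))
    · rw [extendByZero_of_notMem _ _ hz, extendByZero_of_notMem]
      exact fun hc => hz (by simpa using Subgroup.mem_subgroupOf.mp hc)
  have hH : (Nat.card H : ℂ) ≠ 0 := card_cast_ne_zero
  have hJ : (Nat.card (H.subgroupOf N) : ℂ) ≠ 0 := card_cast_ne_zero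
  simp only [indFun, ← h3]
  rw [inv_mul_eq_iff_eq_mul₀ hH, mul_left_comm, ← h2, h1, ← mul_assoc, inv_mul_cancel₀ hJ, one_mul]

theorem exists_chief {G : Type*} [Group G] [Finite G] {K : Subgroup G} [K.Normal] (hK : K ≠ ⊤)
    (hder : ∃ k, derivedSeries G k ≤ K) :
    ∃ M : Subgroup G, M.Normal ∧ K < M ∧ ⁅M, M⁆ ≤ K ∧
      (∀ M' : Subgroup G, M'.Normal → K ≤ M' → M' ≤ M → M' = K ∨ M' = M) ∧
      ∃ p a : ℕ, p.Prime ∧ K.relIndex M = p ^ a ∧ ∀ x ∈ M, ∃ b : ℕ, x ^ p ^ b ∈ K := by
  classical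
  let S : Set (Subgroup G) := {M | M.Normal ∧ K < M}
  obtain ⟨M, hM, hmin⟩ := (Set.toFinite S).exists_minimal ⟨⊤, inferInstance, lt_top_iff_ne_top.mpr hK⟩
  obtain ⟨hMn, hKM⟩ := hM
  haveI := hMn
  have hsec : ∀ M' : Subgroup G, M'.Normal → K ≤ M' → M' ≤ M → M' = K ∨ M' = M := by
    intro M' h1 h2 h3
    rcases eq_or_lt_of_le h2 with h | h
    · exact Or.inl h.symm
    · exact Or.inr (le_antisymm h3 (hmin ⟨h1, h⟩ h3))
  have hab : ⁅M, M⁆ ≤ K := by
    rcases hsec (⁅M, M⁆ ⊔ K) inferInstance le_sup_right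
        (sup_le (Subgroup.commutator_le_self M) hKM.le) with h | h
    · exact le_sup_left.trans h.le
    · exfalso
      obtain ⟨k, hk⟩ := hder
      have hall : ∀ i, M ≤ derivedSeries G i ⊔ K := by
        intro i
        induction i with
        | zero => simp
        | succ i ih =>
          have h2 : ⁅M, M⁆ ≤ derivedSeries G (i + 1) ⊔ K := by
            refine (Subgroup.commutator_mono ih ih).trans (Subgroup.commutator_le.mpr ?_)
            intro a ha b hb
            rw [← SetLike.mem_coe, Subgroup.normal_mul] at ha hb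
            obtain ⟨a₁, ha₁, a₂, ha₂, rfl⟩ := Set.mem_mul.mp ha
            obtain ⟨b₁, hb₁, b₂, hb₂, rfl⟩ := Set.mem_mul.mp hb
            rw [← QuotientGroup.ker_mk' (derivedSeries G (i + 1) ⊔ K), MonoidHom.mem_ker,
              map_commutatorElement, map_mul, map_mul,
              show QuotientGroup.mk' (derivedSeries G (i + 1) ⊔ K) a₂ = 1 from
                (QuotientGroup.eq_one_iff _).mpr (le_sup_right (a := derivedSeries G (i + 1)) ha₂),
              show QuotientGroup.mk' (derivedSeries G (i + 1) ⊔ K) b₂ = 1 from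
                (QuotientGroup.eq_one_iff _).mpr (le_sup_right (a := derivedSeries G (i + 1)) hb₂),
              mul_one, mul_one, ← map_commutatorElement]
            exact (QuotientGroup.eq_one_iff _).mpr (le_sup_left (b := K)
              (Subgroup.commutator_mem_commutator ha₁ hb₁))
          calc M = ⁅M, M⁆ ⊔ K := h.symm
            _ ≤ derivedSeries G (i + 1) ⊔ K := sup_le h2 le_sup_right
      exact not_le_of_gt hKM ((hall k).trans (sup_le hk le_rfl))
  refine ⟨M, hMn, hKM, hab, hsec, ?_⟩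
  haveI : (K.subgroupOf M).Normal := Subgroup.Normal.subgroupOf inferInstance M
  have hcomm : ∀ u v : M ⧸ K.subgroupOf M, u * v = v * u := fun u v =>
    QuotientGroup.induction_on u fun x => QuotientGroup.induction_on v fun y => by
      rw [← QuotientGroup.mk_mul, ← QuotientGroup.mk_mul, QuotientGroup.eq, Subgroup.mem_subgroupOf]
      have := hab (Subgroup.commutator_mem_commutator (M.inv_mem y.2) (M.inv_mem x.2))
      simpa [commutatorElement_def, mul_assoc] using this
  have hidx : K.relIndex M ≠ 1 := fun h => not_le_of_gt hKM (Subgroup.relIndex_eq_one.mp h)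
  obtain ⟨p, hp, hpd⟩ := Nat.exists_prime_and_dvd hidx
  haveI := Fact.mk hp
  let S' : Subgroup G :=
    { carrier := {x | x ∈ M ∧ ∃ b : ℕ, x ^ p ^ b ∈ K}
      one_mem' := ⟨M.one_mem, 0, by simp⟩
      mul_mem' := by
        rintro x y ⟨hx, b, hb⟩ ⟨hy, c, hc⟩
        refine ⟨M.mul_mem hx hy, b + c, ?_⟩
        have hcq : Commute ((⟨x, hx⟩ : M) : M ⧸ K.subgroupOf M) ((⟨y, hy⟩ : M) : M ⧸ K.subgroupOf M) :=
          hcomm _ _
        have h1 : (((⟨x, hx⟩ : M) * ⟨y, hy⟩) ^ p ^ (b + c) : M) ∈ K.subgroupOf M := by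
          rw [← QuotientGroup.eq_one_iff, QuotientGroup.mk_pow, QuotientGroup.mk_mul, hcq.mul_pow]
          have e1 : ((⟨x, hx⟩ : M) : M ⧸ K.subgroupOf M) ^ p ^ b = 1 := by
            rw [← QuotientGroup.mk_pow, QuotientGroup.eq_one_iff, Subgroup.mem_subgroupOf]
            simpa using hb
          have e2 : ((⟨y, hy⟩ : M) : M ⧸ K.subgroupOf M) ^ p ^ c = 1 := by
            rw [← QuotientGroup.mk_pow, QuotientGroup.eq_one_iff, Subgroup.mem_subgroupOf]
            simpa using hc
          rw [pow_add, pow_mul, e1, one_pow, one_mul, mul_comm, pow_mul, e2, one_pow]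
        simpa [Subgroup.mem_subgroupOf] using h1
      inv_mem' := by
        rintro x ⟨hx, b, hb⟩
        exact ⟨M.inv_mem hx, b, by rw [inv_pow]; exact K.inv_mem hb⟩ }
  have hS'n : S'.Normal := ⟨fun x hx g => ⟨hMn.conj_mem x hx.1 g, by
    obtain ⟨b, hb⟩ := hx.2
    exact ⟨b, by rw [conj_pow]; exact (inferInstance : K.Normal).conj_mem _ hb g⟩⟩⟩
  have hS'M : S' = M := by
    refine (hsec S' hS'n (fun x hx => ⟨hKM.le hx, 0, by simpa using hx⟩) fun x hx => hx.1).resolve_left
      fun hS' => ?_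
    obtain ⟨z, hz⟩ := exists_prime_orderOf_dvd_card' (G := M ⧸ K.subgroupOf M) p
      (by rwa [← Subgroup.index_eq_card])
    obtain ⟨z, rfl⟩ := QuotientGroup.mk'_surjective _ z
    have h1 : z ^ p ∈ K.subgroupOf M := by
      rw [← QuotientGroup.eq_one_iff, QuotientGroup.mk_pow, ← hz]
      exact pow_orderOf_eq_one _
    have h2 : (z : G) ∈ K := hS' ▸ (show (z : G) ∈ S' from
      ⟨z.2, 1, by simpa [Subgroup.mem_subgroupOf] using h1⟩)
    have h3 : QuotientGroup.mk' (K.subgroupOf M) z = 1 :=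
      (QuotientGroup.eq_one_iff _).mpr (Subgroup.mem_subgroupOf.mpr h2)
    rw [h3, orderOf_one] at hz
    exact hp.one_lt.ne hz
  have hpg : IsPGroup p (M ⧸ K.subgroupOf M) := fun u => QuotientGroup.induction_on u fun x => by
    obtain ⟨b, hb⟩ := (show (x : G) ∈ S' by rw [hS'M]; exact x.2).2
    exact ⟨b, by rw [← QuotientGroup.mk_pow, QuotientGroup.eq_one_iff, Subgroup.mem_subgroupOf]; simpa using hb⟩
  obtain ⟨a, ha⟩ := hpg.exists_card_eq
  refine ⟨p, a, hp, ?_, fun x hx => (show x ∈ S' by rw [hS'M]; exact hx).2⟩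
  rw [Subgroup.relIndex, Subgroup.index_eq_card, ha]

theorem result {G : Type*} [Group G] [Fintype G] (L H : Subgroup G) [L.Normal] (hLH : L ≤ H) (hmax : IsCoatom H) (hsolv : Group.IsSolvable (G ⧸ L)) (ϑ : H → ℂ) (hϑ : Cfsg.IsIrrCharacter H ϑ) (hϑL : Cfsg.IsIrrCharacter L (fun x : L => ϑ ⟨(x : G), hLH x.2⟩)) (hind : Cfsg.IsIrrCharacter G (Cfsg.indFun H ϑ)) : ∃ M : Subgroup G, M.Normal ∧ L ≤ M ∧ ¬ ∃ (φ : M → ℂ) (e : ℕ), Cfsg.IsIrrCharacter M φ ∧ (fun m : M => Cfsg.indFun H ϑ m) = (e : ℂ) • φ := by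
  classical
  by_contra hcon
  push Not at hcon
  set χ := indFun H ϑ with hχdef
  haveI := Fintype.ofFinite H
  haveI := Fintype.ofFinite L
  obtain ⟨k₀, hk₀⟩ := hsolv.solvable
  have hder : ∀ K : Subgroup G, L ≤ K → ∃ k, derivedSeries G k ≤ K := fun K hK => ⟨k₀, fun x hx => hK (by
    have h := map_derivedSeries_le_derivedSeries (QuotientGroup.mk' L) k₀ (Subgroup.mem_map_of_mem _ hx)
    rw [hk₀, Subgroup.mem_bot] at h
    exact (QuotientGroup.eq_one_iff _).mp h)⟩
  set K := H.normalCore with hK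
  have hKH : K ≤ H := H.normalCore_le
  have hLK : L ≤ K := Subgroup.normal_le_normalCore.mpr hLH
  have hKtop : K ≠ ⊤ := fun h => hmax.1 (top_le_iff.mp (h ▸ hKH))
  obtain ⟨M, hMn, hKM, hMab, hMsec, p, a, hp, hpa, -⟩ := exists_chief hKtop (hder K hLK)
  haveI := hMn
  have hMH : ¬ M ≤ H := fun h => not_le_of_gt hKM (Subgroup.normal_le_normalCore.mpr h)
  have hsup : ∀ N : Subgroup G, M ≤ N → N ⊔ H = ⊤ := fun N hN =>
    hmax.2 _ (lt_of_le_of_ne le_sup_right fun h => hMH (hN.trans (le_sup_left.trans h.ge)))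
  have hMH' : ((M : Set G) * (H : Set G)) = Set.univ := by
    rw [← Subgroup.normal_mul, hsup M le_rfl]; rfl
  have hmul : ∀ x : G, ∃ m ∈ M, ∃ h ∈ H, m * h = x := fun x => by
    have hx : x ∈ (M : Set G) * (H : Set G) := by rw [hMH']; trivial
    exact Set.mem_mul.mp hx
  have hMHK : ∀ x ∈ M, x ∈ H → x ∈ K := by
    intro x hx hxH g
    obtain ⟨m, hm, h, hh, rfl⟩ := hmul g
    have h1 : h * x * h⁻¹ ∈ M := hMn.conj_mem x hx h
    have h2 : h * x * h⁻¹ ∈ H := H.mul_mem (H.mul_mem hh hxH) (H.inv_mem hh)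
    have h3 : m * (h * x * h⁻¹) * m⁻¹ * (h * x * h⁻¹)⁻¹ ∈ K := by
      simpa [commutatorElement_def] using hMab (Subgroup.commutator_mem_commutator hm h1)
    have h4 := H.mul_mem (hKH h3) h2
    simpa [mul_assoc] using h4
  -- the centralizer of `M` modulo `K`
  let C : Subgroup G :=
    (Subgroup.centralizer ((M.map (QuotientGroup.mk' K) : Subgroup _) : Set (G ⧸ K))).comap
      (QuotientGroup.mk' K)
  have hCmem : ∀ x, x ∈ C ↔ ∀ m ∈ M, m * x * m⁻¹ * x⁻¹ ∈ K := by
    intro x
    simp only [C, Subgroup.mem_comap, Subgroup.mem_centralizer_iff, SetLike.mem_coe,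
      Subgroup.mem_map, forall_exists_index, and_imp, forall_apply_eq_imp_iff₂]
    refine forall₂_congr fun m _ => ?_
    rw [← (QuotientGroup.eq_one_iff (N := K) (m * x * m⁻¹ * x⁻¹))]
    simp [mul_inv_eq_one, mul_inv_eq_iff_eq_mul]
  have hCM : C ≤ M := by
    intro x hx
    obtain ⟨m, hm, h, hh, rfl⟩ := hmul x
    have hmC : m ∈ C := (hCmem m).mpr fun m' hm' => by
      simpa [commutatorElement_def] using hMab (Subgroup.commutator_mem_commutator hm' hm)
    have hhC : h ∈ C := by simpa using C.mul_mem (C.inv_mem hmC) hx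
    have hhK : h ∈ K := by
      intro g
      obtain ⟨m', hm', h', hh', rfl⟩ := hmul g
      have h2 : h' * h * h'⁻¹ ∈ H := H.mul_mem (H.mul_mem hh' hh) (H.inv_mem hh')
      have hC : C.Normal := inferInstance
      have h3 := (hCmem _).mp (hC.conj_mem h hhC h') m' hm'
      have h4 := H.mul_mem (hKH h3) h2
      simpa [mul_assoc] using h4
    exact M.mul_mem hm (hKM.le hhK)
  -- the restrictions to normal subgroups above `M`
  have hrest : ∀ N : Subgroup G, N.Normal → L ≤ N → N ⊔ H = ⊤ → ∀ [Fintype N],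
      IsIrrCharacter (H.subgroupOf N) (fun x => ϑ ⟨((x : N) : G), x.2⟩) ∧
      (fun n : N => χ n) = indFun (H.subgroupOf N) (fun x => ϑ ⟨((x : N) : G), x.2⟩) ∧
      ((H.subgroupOf N).index : ℂ) = H.index := by
    intro N hN hLN hNH _
    haveI := hN
    haveI := Fintype.ofFinite (H.subgroupOf N)
    let jH : H.subgroupOf N →* H :=
      { toFun := fun x => ⟨((x : N) : G), x.2⟩
        map_one' := rfl
        map_mul' := fun x y => rfl }
    let jL : L →* H.subgroupOf N :=
      { toFun := fun x => ⟨⟨x, hLN x.2⟩, Subgroup.mem_subgroupOf.mpr (hLH x.2)⟩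
        map_one' := rfl
        map_mul' := fun x y => rfl }
    have hres := res_ind N H hNH hϑ.isClassFunction
    refine ⟨irr_of_res (hϑ.isCharacter.comp jH) jL hϑL, hres, ?_⟩
    have h1 := congrFun hres 1
    rw [indFun_apply_one, OneMemClass.coe_one, indFun_apply_one] at h1
    exact (mul_right_cancel₀ hϑ.apply_one_ne_zero (h1.trans (congrArg _ (congrArg ϑ (Subtype.ext rfl))))).symm
  set d := H.index with hd
  haveI := Fintype.ofFinite M
  haveI := Fintype.ofFinite K
  obtain ⟨hη, hχM, hMidx⟩ := hrest M hMn (hLK.trans hKM.le) (hsup M le_rfl)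
  have hdp : d = p ^ a := by
    have e : H.subgroupOf M = K.subgroupOf M := by
      ext x
      simp only [Subgroup.mem_subgroupOf]
      exact ⟨fun hx => hMHK x x.2 hx, fun hx => hKH hx⟩
    rw [e] at hMidx
    rw [← hpa]
    exact_mod_cast hMidx.symm
  have hd1 : 1 < d := Subgroup.one_lt_index_of_ne_top hmax.1
  have hχ1 : χ 1 = (d : ℂ) * ϑ 1 := indFun_apply_one H ϑ
  obtain ⟨φ, e, hφ, hφe⟩ := hcon M hMn (hLK.trans hKM.le)
  obtain ⟨η', c, hη', hηc⟩ := hcon K inferInstance hLK
  let jK : K →* H := Subgroup.inclusion hKH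
  have hϑK : IsIrrCharacter K fun x : K => ϑ (jK x) :=
    irr_of_res (hϑ.isCharacter.comp jK) (Subgroup.inclusion hLK) hϑL
  have hcχ : classInner (fun h : H => χ h) ϑ = 1 := by
    have h := classInner_irr_self hind
    rw [show classInner χ χ = classInner (indFun H ϑ) χ from rfl,
      classInner_indFun H ϑ hind.isClassFunction, ← classInner_conj_symm] at h
    simpa using congrArg (starRingEnd ℂ) h
  have hKres : (fun x : K => χ x) = (d : ℂ) • fun x : K => ϑ (jK x) := by
    have hr : IsCharacter H ((fun h : H => χ h) - ϑ) :=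
      isCharacter_sub_constituent (hind.isCharacter.comp H.subtype) hϑ (by rw [hcχ]; exact one_ne_zero)
    have he : η' = fun x : K => ϑ (jK x) := by
      by_contra hne
      obtain ⟨r, hr'⟩ := (hr.comp jK).exists_nat_classInner hϑK.isCharacter
      have h1 : classInner (fun x : K => χ x) (fun x : K => ϑ (jK x)) = 0 := by
        rw [hηc, classInner_smul_left, classInner_irr_ne hη' hϑK hne, mul_zero]
      rw [show (fun x : K => χ x) = (fun x : K => ϑ (jK x)) + fun x : K => ((fun h : H => χ h) - ϑ) (jK x)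
          from funext fun x => by simp [jK], classInner_add_left, classInner_irr_self hϑK, hr'] at h1
      have : 1 + r = 0 := by exact_mod_cast h1
      omega
    rw [hηc, he]
    congr 1
    have h1 := congrFun hηc 1
    rw [OneMemClass.coe_one, hχ1, he, Pi.smul_apply, smul_eq_mul, map_one] at h1
    exact (mul_right_cancel₀ hϑ.apply_one_ne_zero h1).symm
  have hee : (e : ℂ) ^ 2 = d := by
    haveI := Fintype.ofFinite (H.subgroupOf M)
    have h := classInner_indFun (H.subgroupOf M) (fun x => ϑ ⟨((x : M) : G), x.2⟩)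
      (χ := fun m : M => χ m) (hind.isCharacter.comp M.subtype).isClassFunction
    rw [← hχM, hφe, classInner_smul_left, classInner_smul_right, Complex.conj_natCast,
      classInner_irr_self hφ, mul_one, ← pow_two, ← classInner_conj_symm] at h
    let eK : H.subgroupOf M ≃* K :=
      { toFun := fun x => ⟨((x : M) : G), hMHK _ (x : M).2 x.2⟩
        invFun := fun y => ⟨⟨y, hKM.le y.2⟩, Subgroup.mem_subgroupOf.mpr (hKH y.2)⟩
        left_inv := fun x => rfl
        right_inv := fun x => rfl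
        map_mul' := fun x y => rfl }
    have h2 : classInner (fun x : H.subgroupOf M => χ ((x : M) : G)) (fun x => ϑ ⟨((x : M) : G), x.2⟩) = d := by
      refine (classInner_comp_equiv eK (fun x : K => χ x) (fun x : K => ϑ (jK x))).trans ?_
      rw [hKres, classInner_smul_left, classInner_irr_self hϑK, mul_one]
    rw [h2, Complex.conj_natCast] at h
    exact h
  have hee' : e ^ 2 = d := by exact_mod_cast hee
  have he0 : e ≠ 0 := by rintro rfl; simp at hee'; omega
  have hφ1 : φ 1 = (e : ℂ) * ϑ 1 := by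
    have h1 := congrFun hφe 1
    rw [OneMemClass.coe_one, hχ1, Pi.smul_apply, smul_eq_mul] at h1
    rw [← hee, pow_two, mul_assoc] at h1
    exact (mul_left_cancel₀ (Nat.cast_ne_zero.mpr he0) h1).symm
  -- the next chief factor
  have hMtop : M ≠ ⊤ := by
    intro hMt
    have h1 : IsIrrCharacter M fun m : M => χ m :=
      isIrrCharacter_comp_equiv ((MulEquiv.subgroupCongr hMt).trans Subgroup.topEquiv) hind
    have h2 := classInner_irr_self h1
    rw [hφe, classInner_smul_left, classInner_smul_right, classInner_irr_self hφ, Complex.conj_natCast,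
      mul_one, ← pow_two, hee] at h2
    exact hd1.ne' (by exact_mod_cast h2)
  obtain ⟨N, hNn, hMN, -, hNsec, q, b, hq, hqb, hqel⟩ :=
    exists_chief hMtop (hder M (hLK.trans hKM.le))
  haveI := hNn
  have hqp : q ≠ p := by
    rintro rfl
    haveI := Fact.mk hq
    -- `N` fixes a nontrivial element of `M / K`
    let Q := G ⧸ K
    let Mb := M.map (QuotientGroup.mk' K)
    let Nb := N.map (QuotientGroup.mk' K)
    haveI : Mb.Normal := hMn.map _ (QuotientGroup.mk'_surjective K)
    haveI : Nb.Normal := hNn.map _ (QuotientGroup.mk'_surjective K)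
    have hNb : IsPGroup q Nb := by
      rintro ⟨-, x, hx, rfl⟩
      obtain ⟨c₁, hc₁⟩ := hqel x hx
      obtain ⟨c₂, hc₂⟩ : ∃ c : ℕ, (x ^ q ^ c₁) ^ q ^ c ∈ K := by
        haveI : (K.subgroupOf M).Normal := Subgroup.Normal.subgroupOf inferInstance M
        have hcard : Nat.card (M ⧸ K.subgroupOf M) = q ^ a := by
          rw [← Subgroup.index_eq_card]; exact hpa
        refine ⟨a, ?_⟩
        have h := pow_card_eq_one' (x := ((⟨_, hc₁⟩ : M) : M ⧸ K.subgroupOf M))
        rw [hcard, ← QuotientGroup.mk_pow, QuotientGroup.eq_one_iff, Subgroup.mem_subgroupOf] at h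
        simpa using h
      refine ⟨c₁ + c₂, Subtype.ext ?_⟩
      show (QuotientGroup.mk' K x) ^ q ^ (c₁ + c₂) = 1
      rw [← map_pow, pow_add, pow_mul]
      exact (QuotientGroup.eq_one_iff _).mpr hc₂
    have hMbN : Mb ≤ Nb := Subgroup.map_mono hMN.le
    haveI : Nontrivial (Mb.subgroupOf Nb) := by
      rw [Subgroup.nontrivial_iff_ne_bot, Ne, Subgroup.subgroupOf_eq_bot, disjoint_iff,
        inf_eq_left.mpr hMbN]
      exact fun h => not_le_of_gt hKM (fun x hx => (QuotientGroup.eq_one_iff _).mp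
        (Subgroup.mem_bot.mp (h ▸ Subgroup.mem_map_of_mem _ hx)))
    haveI : (Mb.subgroupOf Nb).Normal := Subgroup.Normal.subgroupOf inferInstance Nb
    obtain ⟨z, hz, hz1⟩ : ∃ z : Nb, z ∈ Mb.subgroupOf Nb ⊓ Subgroup.center Nb ∧ z ≠ 1 := by
      by_contra hh
      push Not at hh
      exact Cfsg.Lib.PGroup.inf_center_ne_bot hNb (N := Mb.subgroupOf Nb)
        ((Subgroup.nontrivial_iff_ne_bot _).mp inferInstance) ((Subgroup.eq_bot_iff_forall _).mpr hh)
    let W := (Mb ⊓ Subgroup.centralizer (Nb : Set Q)).comap (QuotientGroup.mk' K)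
    have hW : W.Normal := inferInstance
    have hKW : K ≤ W := fun x hx => by
      rw [Subgroup.mem_comap]
      rw [show QuotientGroup.mk' K x = 1 from (QuotientGroup.eq_one_iff _).mpr hx]
      exact one_mem _
    have hWM : W ≤ M := fun x hx => by
      obtain ⟨m, hm, hme⟩ := (show QuotientGroup.mk' K x ∈ Mb from hx.1)
      have : m⁻¹ * x ∈ K := QuotientGroup.eq.mp hme
      simpa using M.mul_mem hm (hKM.le this)
    rcases hMsec W hW hKW hWM with h | h
    · obtain ⟨x, hx, hxe⟩ := (show (z : Q) ∈ Mb from hz.1)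
      have hxW : x ∈ W := by
        refine ⟨show QuotientGroup.mk' K x ∈ Mb from hxe ▸ hz.1, ?_⟩
        show QuotientGroup.mk' K x ∈ _
        rw [hxe]
        exact fun y hy => congrArg Subtype.val (Subgroup.mem_center_iff.mp hz.2 ⟨y, hy⟩)
      rw [h] at hxW
      exact hz1 (Subtype.ext (hxe.symm.trans ((QuotientGroup.eq_one_iff _).mpr hxW)))
    · refine not_le_of_gt hMN (fun x hx => hCM ?_)
      show QuotientGroup.mk' K x ∈ Subgroup.centralizer _
      rintro - ⟨m, hm, rfl⟩
      have := (show m ∈ W by rw [h]; exact hm).2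
      exact (this _ (Subgroup.mem_map_of_mem _ hx)).symm
  haveI := Fintype.ofFinite N
  obtain ⟨hρ, hχN, hNidx⟩ := hrest N hNn ((hLK.trans hKM.le).trans hMN.le) (hsup N hMN.le)
  obtain ⟨ψ, f, hψ, hψe⟩ := hcon N hNn ((hLK.trans hKM.le).trans hMN.le)
  have hf0 : f ≠ 0 := by
    rintro rfl
    have := congrFun hψe 1
    rw [OneMemClass.coe_one] at this
    simp at this
    exact hind.apply_one_ne_zero this
  -- `f = e`
  let MN := M.subgroupOf N
  haveI : MN.Normal := hMn.subgroupOf N
  haveI := Fintype.ofFinite MN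
  let eM : MN ≃* M := Subgroup.subgroupOfEquivOfLe hMN.le
  have hφ' : IsIrrCharacter MN fun x => φ (eM x) := isIrrCharacter_comp_equiv eM hφ
  have hψM : ∀ x : MN, (f : ℂ) * ψ x = (e : ℂ) * φ (eM x) := fun x => by
    have h1 := congrFun hψe x
    have h2 := congrFun hφe (eM x)
    simp only [Pi.smul_apply, smul_eq_mul] at h1 h2
    rw [← h1, ← h2]
    rfl
  have hψc : classInner (fun x : MN => ψ x) (fun x => φ (eM x)) ≠ 0 := by
    rw [show (fun x : MN => ψ x) = ((e : ℂ) / f) • fun x => φ (eM x) from funext fun x => by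
      simp only [Pi.smul_apply, smul_eq_mul]
      rw [div_mul_eq_mul_div, ← hψM x, mul_div_cancel_left₀ _ (Nat.cast_ne_zero.mpr hf0)],
      classInner_smul_left, classInner_irr_self hφ', mul_one]
    exact div_ne_zero (Nat.cast_ne_zero.mpr he0) (Nat.cast_ne_zero.mpr hf0)
  obtain ⟨u, hu0, hu⟩ := hψ.exists_degree
  obtain ⟨v, hv0, hv⟩ := hφ'.exists_degree
  obtain ⟨⟨k, rfl⟩, hkd⟩ := degree_ratio_dvd_index MN hψ hφ' hψc hu hv
  rw [Nat.mul_div_cancel_left _ hv0] at hkd
  have hfk : f * k = e := by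
    have h := hψM 1
    rw [OneMemClass.coe_one, hu, map_one, show φ 1 = (v : ℂ) from by rw [← hv, map_one]] at h
    have h' : f * (v * k) = e * v := by exact_mod_cast h
    exact Nat.eq_of_mul_eq_mul_right hv0 (by rw [← h']; ring)
  have hk1 : k = 1 := by
    have hkp : k ∣ p ^ a := by
      rw [← hdp, ← hee', ← hfk]
      exact Dvd.dvd.pow (Dvd.intro_left f rfl) two_ne_zero
    have hkq : k ∣ q ^ b := by rw [← hqb]; exact hkd
    exact Nat.eq_one_of_dvd_coprimes
      (((Nat.coprime_primes hp hq).mpr hqp.symm).pow a b) hkp hkq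
  have hfe : f = e := by rw [← hfk, hk1, mul_one]
  rw [hfe] at hψe
  set J := H.subgroupOf N with hJ
  haveI := Fintype.ofFinite J
  set ρ : J → ℂ := fun x => ϑ ⟨((x : N) : G), x.2⟩ with hρdef
  have hNχ : IsCharacter N fun n : N => χ n := hind.isCharacter.comp N.subtype
  have hρc : classInner (fun x : J => χ (x : N)) ρ = (d : ℂ) := by
    have h := classInner_indFun J ρ (χ := fun n : N => χ n) hNχ.isClassFunction
    rw [← hχN] at h
    have h2 : classInner (fun n : N => χ n) (fun n : N => χ n) = (d : ℂ) := by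
      rw [hψe, classInner_smul_left, classInner_smul_right, Complex.conj_natCast,
        classInner_irr_self hψ, mul_one, ← pow_two, hee]
    rw [h2, ← classInner_conj_symm] at h
    simpa using (congrArg (starRingEnd ℂ) h).symm
  have hresJ : (fun x : J => χ (x : N)) = (d : ℂ) • ρ := by
    have hc := hNχ.comp J.subtype
    have hr : IsCharacter J ((fun x : J => χ (x : N)) - (d : ℂ) • ρ) := by
      rw [isCharacter_iff]
      have hcr : IsClassFunction J ρ := hρ.isClassFunction
      refine ⟨fun x y => ?_, fun μ hμ => ?_⟩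
      · simp only [Pi.sub_apply, Pi.smul_apply, hcr x y]
        exact congrArg (· - (d : ℂ) • ρ x) (hc.isClassFunction x y)
      · rw [classInner_sub_left, classInner_smul_left, classInner_irr hρ hμ]
        split_ifs with h
        · subst h; exact ⟨0, by rw [hρc]; simp⟩
        · obtain ⟨r, hr⟩ := hc.exists_nat_classInner hμ.isCharacter
          exact ⟨r, by rw [mul_zero, sub_zero]; exact hr⟩
    refine sub_eq_zero.mp (hr.eq_zero_of_degree ?_)
    simp only [Pi.sub_apply, Pi.smul_apply, smul_eq_mul, OneMemClass.coe_one, hχ1]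
    rw [show ρ 1 = ϑ 1 from congrArg ϑ (Subtype.ext rfl), sub_self]
  have hψJ : ∀ x : J, ψ x = (e : ℂ) * ρ x := fun x => by
    have h1 := congrFun hresJ x
    have h2 := congrFun hψe (x : N)
    simp only [Pi.smul_apply, smul_eq_mul] at h1 h2
    rw [h2, ← hee, pow_two, mul_assoc] at h1
    exact mul_left_cancel₀ (Nat.cast_ne_zero.mpr he0) h1
  -- the norm of `ψ` lives on `J`
  have hnorm := classInner_irr_self hψ
  rw [classInner_self] at hnorm
  have hρn := classInner_irr_self hρ
  rw [classInner_self] at hρn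
  norm_cast at hnorm hρn
  rw [inv_mul_eq_iff_eq_mul₀ (Nat.cast_ne_zero.mpr Nat.card_pos.ne'), mul_one] at hnorm hρn
  have hvan : ∀ x : N, x ∉ J → ψ x = 0 := by
    have hsum : ∑ x : J, ‖ψ x‖ ^ 2 = ∑ x : N, ‖ψ x‖ ^ 2 := by
      rw [hnorm]
      simp only [hψJ, norm_mul, mul_pow, ← Finset.mul_sum]
      rw [hρn, Complex.norm_natCast, ← J.card_mul_index]
      have : J.index = e ^ 2 := by rw [hee']; exact_mod_cast hNidx
      rw [this]; push_cast; ring
    intro x hx
    rw [← Finset.sum_subtype (Finset.univ.filter (· ∈ J)) (p := (· ∈ J)) (by simp)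
        (fun x : N => ‖ψ x‖ ^ 2), ← Finset.sum_filter_add_sum_filter_not Finset.univ (· ∈ J)
        (fun x : N => ‖ψ x‖ ^ 2)] at hsum
    have h0 : ∑ x ∈ Finset.univ.filter (fun x => ¬ x ∈ J), ‖ψ x‖ ^ 2 = 0 := by linarith
    have h1 := (Finset.sum_eq_zero_iff_of_nonneg (fun x _ => by positivity)).mp h0 x
      (by simpa using hx)
    simpa using h1
  have hvanK : ∀ x : N, (x : G) ∉ K → ψ x = 0 := by
    intro x hx
    by_contra hne
    apply hx
    have hxall : ∀ g : N, (g : G) * x * (g : G)⁻¹ ∈ H := by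
      intro g
      by_contra hg
      have hv := hvan (g * x * g⁻¹) (fun h => hg (by simpa [hJ, Subgroup.mem_subgroupOf] using h))
      rw [hψ.isClassFunction] at hv
      exact hne hv
    have hxH : (x : G) ∈ H := by simpa using hxall 1
    have hxC : (x : G) ∈ C := (hCmem _).mpr fun m hm => by
      refine hMHK _ ?_ (H.mul_mem (hxall ⟨m, hMN.le hm⟩) (H.inv_mem hxH))
      rw [show m * (x : G) * m⁻¹ * (x : G)⁻¹ = m * ((x : G) * m⁻¹ * (x : G)⁻¹) by group]
      exact M.mul_mem hm (hMn.conj_mem _ (M.inv_mem hm) _)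
    exact hMHK _ (hCM hxC) hxH
  have hKN : K ≤ N := hKM.le.trans hMN.le
  have hsumK : ∑ x : N, ‖ψ x‖ ^ 2 = (d : ℝ) * Nat.card K := by
    rw [← Finset.sum_subset (Finset.subset_univ (Finset.univ.filter fun x : N => (x : G) ∈ K))
      (fun x _ hx => by rw [hvanK x (by simpa using hx)]; simp)]
    have hn := classInner_irr_self hϑK
    rw [classInner_self] at hn
    norm_cast at hn
    rw [inv_mul_eq_iff_eq_mul₀ (Nat.cast_ne_zero.mpr Nat.card_pos.ne'), mul_one] at hn
    rw [← hn, Finset.mul_sum]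
    refine (Finset.sum_bij (fun (y : K) _ => (⟨y, hKN y.2⟩ : N)) (fun y _ => by simp)
      (fun y _ z _ h => Subtype.ext (congrArg (fun w : N => (w : G)) h))
      (fun x hx => ⟨⟨x, by simpa using hx⟩, Finset.mem_univ _, rfl⟩) (fun y _ => ?_)).symm
    have h := hψJ ⟨⟨y, hKN y.2⟩, Subgroup.mem_subgroupOf.mpr (hKH y.2)⟩
    rw [h, norm_mul, mul_pow, Complex.norm_natCast]
    congr 1
    exact_mod_cast hee'.symm
  rw [hsumK] at hnorm
  have hcards : Nat.card N = Nat.card M := by
    have h1 : d * Nat.card K = Nat.card N := by exact_mod_cast hnorm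
    rw [← h1, hdp, ← hpa, ← Subgroup.card_mul_index (K.subgroupOf M),
      Nat.card_congr (Subgroup.subgroupOfEquivOfLe hKM.le).toEquiv, mul_comm]
    rfl
  exact hMN.ne (Subgroup.eq_of_le_of_card_ge hMN.le hcards.le)

end Cfsg.Agent.S0890
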