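import Cfsg.Statements.S0893
import Cfsg.Agent.Lib.Char.Extraspecial
import Cfsg.Agent.Lib.Char.Subconstituents
-- import your own Cfsg.Agent.* helpers here

set_option autoImplicit false
open Cfsg

namespace Cfsg.Agent.S0893

set_option linter.style.haveILetI false
open Cfsg Cfsg.Lib.Char
open scoped ComplexConjugate


/-- Let P be an extraspecial p-group of order p ^ (2 * n + 1), A an abelian subgroup of order p ^ (n + 1), and λ a character of A of degree 1 that is not identically 1 on the elements of A lying in the centre of P. Then the function induced from λ to P is an irreducible character of P and vanishes at every element outside the centre. -/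
theorem result {P : Type*} [Group P] [Fintype P] (p n : ℕ) [Fact p.Prime] (hP : Cfsg.IsExtraspecial p P) (hcard : Nat.card P = p ^ (2 * n + 1)) (A : Subgroup P) (hab : ∀ a ∈ A, ∀ b ∈ A, a * b = b * a) (hA : Nat.card A = p ^ (n + 1)) (lam : A → ℂ) (hlam : Cfsg.IsCharacter A lam ∧ lam 1 = 1) (hZ : ∃ a : A, (a : P) ∈ Subgroup.center P ∧ lam a ≠ 1) : Cfsg.IsIrrCharacter P (Cfsg.indFun A lam) ∧ ∀ x : P, x ∉ Subgroup.center P → Cfsg.indFun A lam x = 0 := by
  classical
  haveI := Fintype.ofFinite A
  obtain ⟨hlc, hl1⟩ := hlam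
  obtain ⟨f, hf⟩ := exists_hom_of_degree_one hlc hl1
  obtain ⟨a, haZ, hane⟩ := hZ
  have hind := isCharacter_indFun A hlc
  have hidx : A.index = p ^ n := by
    have h := A.card_mul_index
    rw [hA, hcard] at h
    exact Nat.eq_of_mul_eq_mul_left (pow_pos (Fact.out : p.Prime).pos _) (h.trans (by ring))
  have hdeg : Cfsg.indFun A lam 1 = (p : ℂ) ^ n := by
    rw [indFun_apply_one, hl1, mul_one, hidx, Nat.cast_pow]
  obtain ⟨χ, hχ⟩ := exists_constituent hind (by
    rw [hdeg]; exact pow_ne_zero _ (Nat.cast_ne_zero.mpr (Fact.out : p.Prime).ne_zero))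
  have hne : ∃ z ∈ Subgroup.center P, (χ : P → ℂ) z ≠ (χ : P → ℂ) 1 := by
    refine ⟨a, haZ, fun h => ?_⟩
    rw [classInner_indFun A lam χ.2.isClassFunction] at hχ
    apply hχ
    have hinv : ∀ x : A, conj ((χ : P → ℂ) x) = conj ((χ : P → ℂ) ((a * x : A) : P)) := by
      intro x
      have hk : (a : P) ∈ charKer χ.2.isCharacter := h
      rw [Subgroup.coe_mul, χ.2.isCharacter.apply_mul_of_mem_ker hk]
    have key : (∑ x : A, lam x * conj ((χ : P → ℂ) x)) =
        lam a * ∑ x : A, lam x * conj ((χ : P → ℂ) x) := by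
      rw [Finset.mul_sum]
      refine (Fintype.sum_equiv (Equiv.mulLeft a) _ _ fun x => ?_).symm
      simp only [Equiv.coe_mulLeft]
      rw [← hinv x, hf]
      simp only [map_mul, Units.val_mul]
      ring
    have h0 : (∑ x : A, lam x * conj ((χ : P → ℂ) x)) = 0 := by
      by_contra h0
      exact hane (mul_right_cancel₀ h0 ((one_mul _).trans key)).symm
    rw [Cfsg.classInner, h0, mul_zero]
  have heq : Cfsg.indFun A lam = (χ : P → ℂ) :=
    eq_of_constituent_of_degree hind χ.2 hχ (by
      rw [hdeg, extraspecial_degree hP hcard χ.2 hne])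
  rw [heq]
  exact ⟨χ.2, fun x hx => extraspecial_vanish hP χ.2 hne hx⟩

end Cfsg.Agent.S0893
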