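import Cfsg.Statements.S0894
import Cfsg.Agent.Lib.Char.Extraspecial
import Cfsg.Agent.Lib.Char.Subconstituents
import Mathlib.GroupTheory.SpecificGroups.Cyclic
-- import your own Cfsg.Agent.* helpers here

set_option autoImplicit false
open Cfsg

namespace Cfsg.Agent.S0894

set_option linter.style.haveILetI false
open Cfsg Cfsg.Lib.Char


/-- Let P be an extraspecial p-group of order p ^ (2 * n + 1). Then every irreducible character of P has degree 1 or p ^ n, and exactly p - 1 of them have degree p ^ n. -/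
theorem result {P : Type*} [Group P] [Finite P] (p n : ℕ) [Fact p.Prime] (hP : Cfsg.IsExtraspecial p P) (hcard : Nat.card P = p ^ (2 * n + 1)) : (∀ χ : Cfsg.IrrCharacter P, (χ : P → ℂ) 1 = 1 ∨ (χ : P → ℂ) 1 = (p : ℂ) ^ n) ∧ Nat.card {χ : Cfsg.IrrCharacter P // (χ : P → ℂ) 1 = (p : ℂ) ^ n} = p - 1 := by
  classical
  haveI := Fintype.ofFinite P
  have hdeg : ∀ χ : Cfsg.IrrCharacter P, (χ : P → ℂ) 1 = 1 ∨ (χ : P → ℂ) 1 = (p : ℂ) ^ n := by
    intro χ
    by_cases h : ∀ z ∈ Subgroup.center P, (χ : P → ℂ) z = (χ : P → ℂ) 1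
    · exact Or.inl (extraspecial_trivial_on_center hP χ.2 h)
    · push Not at h
      exact Or.inr (extraspecial_degree hP hcard χ.2 h)
  have hn : n ≠ 0 := by
    rintro rfl
    haveI := isCyclic_of_prime_card (p := p) (α := P) (by simpa using hcard)
    have hc : Subgroup.center P = ⊤ := eq_top_iff.mpr fun x _ =>
      Subgroup.mem_center_iff.mpr fun y => mul_comm' y x
    have h1 : commutator P = ⊥ := by
      rw [commutator_eq_bot_iff_center_eq_top]
      exact hc
    rw [hP.1.2.2, hc] at h1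
    have h2 : Nat.card (⊤ : Subgroup P) = 1 := by rw [h1, Subgroup.card_bot]
    rw [Subgroup.card_top, hcard] at h2
    simp at h2
    exact (Fact.out : p.Prime).ne_one h2
  refine ⟨hdeg, ?_⟩
  have hpn : 1 < p ^ n := Nat.one_lt_pow hn (Fact.out : p.Prime).one_lt
  have hlin := card_degree_one (G := P)
  have hidx : (commutator P).index = p ^ (2 * n) := by
    rw [hP.1.2.2]
    have h := (Subgroup.center P).card_mul_index
    rw [hP.2, hcard, pow_succ'] at h
    exact Nat.eq_of_mul_eq_mul_left (Fact.out : p.Prime).pos h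
  rw [hidx] at hlin
  have hsum := sum_sq_degree (G := P)
  rw [← Finset.sum_filter_add_sum_filter_not Finset.univ
    (fun χ : Cfsg.IrrCharacter P => (χ : P → ℂ) 1 = 1),
    Finset.sum_congr rfl (g := fun _ => (1 : ℂ)) (fun χ hχ => by
      rw [(Finset.mem_filter.mp hχ).2, one_pow]),
    Finset.sum_congr (s₂ := Finset.univ.filter fun χ : Cfsg.IrrCharacter P =>
        ¬ (χ : P → ℂ) 1 = 1) rfl (g := fun _ => ((p : ℂ) ^ n) ^ 2) (fun χ hχ => by
      rw [(hdeg χ).resolve_left (Finset.mem_filter.mp hχ).2]),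
    Finset.sum_const, Finset.sum_const, nsmul_eq_mul, nsmul_eq_mul, mul_one,
    ← Fintype.card_subtype, ← Nat.card_eq_fintype_card, hlin, ← Fintype.card_subtype,
    ← Nat.card_eq_fintype_card, hcard] at hsum
  have hiff : ∀ χ : Cfsg.IrrCharacter P,
      (χ : P → ℂ) 1 = (p : ℂ) ^ n ↔ ¬ (χ : P → ℂ) 1 = 1 := fun χ => by
    refine ⟨fun h h' => ?_, fun h => (hdeg χ).resolve_left h⟩
    rw [h'] at h
    norm_cast at h
    omega
  rw [Nat.card_congr (Equiv.subtypeEquivRight hiff)]
  norm_cast at hsum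
  rw [← pow_mul, mul_comm n 2, pow_succ'] at hsum
  apply Nat.eq_of_mul_eq_mul_right (pow_pos (Fact.out : p.Prime).pos (2 * n))
  rw [Nat.sub_mul, one_mul]
  omega

end Cfsg.Agent.S0894
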