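import Cfsg.Statements.S0896
import Cfsg.Agent.S0874
import Cfsg.Agent.Lib.Char.Clifford

set_option autoImplicit false
set_option linter.style.haveILetI false
open Cfsg Cfsg.Lib.Char
open scoped ComplexConjugate

namespace Cfsg.Agent.S0896

theorem result {G : Type*} [Group G] [Fintype G] (p : ℕ) (hp : p.Prime) (N : Subgroup G) [hN : N.Normal] (hind : ∃ k : ℕ, N.index = p ^ k) (ϑ : N → ℂ) (hϑ : Cfsg.IsIrrCharacter N ϑ) (hinv : ∀ (g : G) (n : N), ϑ ⟨g * n * g⁻¹, hN.conj_mem (n : G) n.2 g⟩ = ϑ n) : ∃ (E : Subgroup G) (φ : ↥(E ⊓ N) → ℂ), Cfsg.IsElementary p E ∧ E ⊔ N = ⊤ ∧ Cfsg.IsIrrCharacter ↥(E ⊓ N) φ ∧ (∀ (g : G) (hg : g ∈ E) (x : ↥(E ⊓ N)), φ ⟨g * x * g⁻¹, ⟨(E.mul_mem (E.mul_mem hg x.2.1) (E.inv_mem hg)), hN.conj_mem (x : G) x.2.2 g⟩⟩ = φ x) ∧ ∃ m : ℕ, ¬ p ∣ m ∧ (Nat.card ↥(E ⊓ N) : ℂ)⁻¹ * ∑ᶠ x : ↥(E ⊓ N), ϑ ⟨(x : G), x.2.2⟩ * conj (φ x) = (m : ℂ) := by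
  classical
  haveI := Fintype.ofFinite N
  haveI := Fact.mk hp
  obtain ⟨k, hk⟩ := hind
  obtain ⟨m, l, hm, hl, hsum⟩ := Cfsg.Agent.S0874.result (G := G) p hp
  have hGne : (Nat.card G : ℂ) ≠ 0 := card_cast_ne_zero
  -- the contribution of one term
  have hterm : ∀ t ∈ l, ∃ z : ℕ,
      (Nat.card N : ℂ)⁻¹ * ∑ n : N, indFun t.1 t.2.1 n * (ϑ n * conj (ϑ n)) = (z : ℂ) ∧
      (¬ p ∣ z → t.1 ⊔ N = ⊤ ∧ ∃ φ : ↥(N.subgroupOf t.1) → ℂ,
        IsIrrCharacter ↥(N.subgroupOf t.1) φ ∧ (∀ e : t.1, conjTwist (N.subgroupOf t.1) φ e = φ) ∧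
        ∃ c : ℕ, ¬ p ∣ c ∧
          classInner (fun d : N.subgroupOf t.1 => ϑ ⟨((d : t.1) : G), d.2⟩) φ = (c : ℂ)) := by
    rintro ⟨E, lam, a⟩ ht
    obtain ⟨-, hlam⟩ := hl _ ht
    show ∃ z : ℕ, (Nat.card N : ℂ)⁻¹ * ∑ n : N, indFun E lam n * (ϑ n * conj (ϑ n)) = (z : ℂ) ∧ _

    set D := N.subgroupOf E with hD
    haveI : D.Normal := Subgroup.Normal.subgroupOf hN E
    let j : D →* N :=
      { toFun := fun d => ⟨((d : E) : G), d.2⟩
        map_one' := rfl
        map_mul' := fun x y => rfl }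
    let θ : D → ℂ := fun d => ϑ (j d)
    have hθ : IsCharacter D θ := hϑ.isCharacter.comp j
    have hlamD : IsCharacter D fun d => lam d := hlam.comp D.subtype
    obtain ⟨t₀, ht₀⟩ := (hlamD.mul hθ).exists_nat_classInner hθ
    have hcoef : (Nat.card N : ℂ)⁻¹ * ∑ n : N, indFun E lam n * (ϑ n * conj (ϑ n)) =
        ((E ⊔ N).index : ℂ) * t₀ := by
      have h1 : ∀ x : G, ∑ n : N, extendByZero E lam (x⁻¹ * n * x) * (ϑ n * conj (ϑ n)) =
          ∑ n : N, extendByZero E lam n * (ϑ n * conj (ϑ n)) := fun x =>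
        (Fintype.sum_equiv (MulAut.conjNormal x : MulAut N).toEquiv
          (fun n : N => extendByZero E lam n * (ϑ n * conj (ϑ n))) _ fun n => by
            show _ = extendByZero E lam (x⁻¹ * ((MulAut.conjNormal x n : N) : G) * x) *
              (ϑ (MulAut.conjNormal x n) * conj (ϑ (MulAut.conjNormal x n)))
            rw [show ϑ (MulAut.conjNormal x n) = ϑ n from
              (congrArg ϑ (Subtype.ext (MulAut.conjNormal_apply x n))).trans (hinv x n)]
            rw [MulAut.conjNormal_apply, show x⁻¹ * (x * (n : G) * x⁻¹) * x = n by group]).symm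
      have h2 : ∑ n : N, extendByZero E lam n * (ϑ n * conj (ϑ n)) =
          ∑ d : D, lam d * (θ d * conj (θ d)) := by
        refine (Finset.sum_of_injOn j ?_ (by simp) ?_ ?_).symm
        · intro x _ y _ h
          exact Subtype.ext (Subtype.ext (congrArg (fun z : N => (z : G)) h))
        · intro n _ hn
          have : (n : G) ∉ E := fun h => hn ⟨⟨⟨n, h⟩, n.2⟩, by simp, Subtype.ext rfl⟩
          rw [extendByZero_of_notMem _ _ this, zero_mul]
        · intro d _
          show _ = extendByZero E lam ((d : E) : G) * _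
          rw [extendByZero_coe]
      have h3 : ∑ d : D, lam d * (θ d * conj (θ d)) = (Nat.card D : ℂ) * t₀ := by
        rw [← ht₀, classInner, mul_inv_cancel_left₀ card_cast_ne_zero]
        exact Finset.sum_congr rfl fun d _ => by rw [Pi.mul_apply]; ring
      have h4 : Nat.card G * Nat.card D = (E ⊔ N).index * (Nat.card N * Nat.card E) := by
        have e1 := N.card_mul_index
        have e2 : N.relIndex (E ⊔ N) * (E ⊔ N).index = N.index :=
          Subgroup.relIndex_mul_index le_sup_right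
        rw [Subgroup.relIndex_sup_right] at e2
        have e3 : Nat.card D * N.relIndex E = Nat.card E := D.card_mul_index
        rw [← e1, ← e2, ← e3]; ring
      simp only [indFun, mul_assoc ((Nat.card E : ℂ)⁻¹), Finset.sum_mul, ← Finset.mul_sum]
      rw [Finset.sum_comm, Finset.sum_congr rfl fun x _ => h1 x, Finset.sum_const, Finset.card_univ,
        nsmul_eq_mul, ← Nat.card_eq_fintype_card, h2, h3]
      have h4' : (Nat.card G : ℂ) * Nat.card D = ((E ⊔ N).index : ℂ) * (Nat.card N * Nat.card E) := by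
        exact_mod_cast h4
      rw [← mul_assoc (Nat.card G : ℂ), h4']
      have hE0 : (Nat.card E : ℂ) ≠ 0 := card_cast_ne_zero
      have hN0 : (Nat.card N : ℂ) ≠ 0 := card_cast_ne_zero
      field_simp
    refine ⟨(E ⊔ N).index * t₀, by rw [hcoef]; push_cast; ring, fun hnd => ?_⟩
    have hEN : E ⊔ N = ⊤ := by
      have hd : (E ⊔ N).index ∣ p ^ k := hk ▸ Subgroup.index_dvd_of_le le_sup_right
      obtain ⟨i, -, hi⟩ := (Nat.dvd_prime_pow hp).mp hd
      rcases Nat.eq_zero_or_pos i with rfl | hi0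
      · rwa [pow_zero, Subgroup.index_eq_one] at hi
      · exact absurd (dvd_mul_of_dvd_left (hi ▸ dvd_pow_self p hi0.ne') t₀) hnd
    refine ⟨hEN, ?_⟩
    choose u hu using fun φ : IrrCharacter D => (hlamD.mul hθ).exists_nat_classInner φ.2.isCharacter
    choose v hv using fun φ : IrrCharacter D => hθ.exists_nat_classInner φ.2.isCharacter
    have hexp : t₀ = ∑ φ : IrrCharacter D, u φ * v φ := by
      have h := classInner_eq_sum (hlamD.mul hθ).isClassFunction (f' := θ)
      rw [ht₀] at h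
      simp only [hu, hv, Complex.conj_natCast] at h
      exact_mod_cast h
    by_contra hno
    push Not at hno
    apply hnd
    refine dvd_mul_of_dvd_right ?_ _
    rw [hexp]
    -- sum over the conjugation orbits
    let T : IrrCharacter D → Finset (D → ℂ) := fun φ => twistOrbit D (φ : D → ℂ)
    rw [← Finset.sum_fiberwise_of_maps_to (t := Finset.univ.image T) (g := T)
      fun φ _ => Finset.mem_image_of_mem T (Finset.mem_univ φ)]
    refine Finset.dvd_sum fun O hO => ?_
    obtain ⟨φ₀, -, rfl⟩ := Finset.mem_image.mp hO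
    have hinvθ : ∀ e : E, conjTwist D θ e = θ := fun e => funext fun d => hinv (e : G) (j d)
    have hinvl : ∀ e : E, conjTwist D (fun d : D => lam d) e = fun d : D => lam d :=
      fun e => conjTwist_res D hlam.isClassFunction e
    have hconst : ∀ φ ∈ Finset.univ.filter (fun φ => T φ = T φ₀), u φ * v φ = u φ₀ * v φ₀ := by
      intro φ hφ
      have h1 : (φ : D → ℂ) ∈ twistOrbit D (φ₀ : D → ℂ) := by
        rw [show twistOrbit D (φ₀ : D → ℂ) = twistOrbit D (φ : D → ℂ) from
          (Finset.mem_filter.mp hφ).2.symm]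
        exact self_mem_twistOrbit D _
      obtain ⟨e, he⟩ := (mem_twistOrbit D).mp h1
      have a1 : classInner ((fun d : D => lam d) * θ) (φ : D → ℂ) =
          classInner ((fun d : D => lam d) * θ) (φ₀ : D → ℂ) := by
        rw [← he]
        conv_lhs => rw [show ((fun d : D => lam d) * θ) =
          conjTwist D ((fun d : D => lam d) * θ) e from funext fun d =>
            congrArg₂ (· * ·) (congrFun (hinvl e) d).symm (congrFun (hinvθ e) d).symm]
        exact classInner_conjTwist D _ _ e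
      have a2 : classInner θ (φ : D → ℂ) = classInner θ (φ₀ : D → ℂ) := by
        rw [← he]
        conv_lhs => rw [← hinvθ e]
        exact classInner_conjTwist D _ _ e
      rw [hu, hu] at a1
      rw [hv, hv] at a2
      rw [show u φ = u φ₀ by exact_mod_cast a1, show v φ = v φ₀ by exact_mod_cast a2]
    rw [Finset.sum_congr rfl hconst, Finset.sum_const, smul_eq_mul]
    have hcard : (Finset.univ.filter fun φ => T φ = T φ₀).card = (T φ₀).card := by
      refine Finset.card_bij (fun φ _ => (φ : D → ℂ)) (fun φ hφ => ?_)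
        (fun _ _ _ _ h => Subtype.ext h) (fun ψ hψ => ?_)
      · rw [← (Finset.mem_filter.mp hφ).2]; exact self_mem_twistOrbit D _
      · obtain ⟨e, rfl⟩ := (mem_twistOrbit D).mp hψ
        refine ⟨⟨_, isIrrCharacter_conjTwist D φ₀.2 e⟩, Finset.mem_filter.mpr ⟨Finset.mem_univ _, ?_⟩, rfl⟩
        ext χ
        simp only [T, mem_twistOrbit]
        constructor
        · rintro ⟨g, rfl⟩; exact ⟨e * g, (conjTwist_conjTwist D _ e g).symm⟩
        · rintro ⟨g, rfl⟩
          exact ⟨e⁻¹ * g, by rw [conjTwist_conjTwist, mul_inv_cancel_left]⟩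
    rw [hcard]
    have hidx : (inertia D (φ₀ : D → ℂ)).index ∣ p ^ k := by
      refine (Subgroup.index_dvd_of_le (le_inertia D φ₀.2.isClassFunction)).trans ?_
      rw [← hk]
      exact Subgroup.relIndex_dvd_index_of_normal N E
    obtain ⟨i, -, hi⟩ := (Nat.dvd_prime_pow hp).mp hidx
    have hcardO : (T φ₀).card = p ^ i := (card_twistOrbit D (φ₀ : D → ℂ)).trans hi
    rcases Nat.eq_zero_or_pos i with rfl | hi0
    · rw [pow_zero, Subgroup.index_eq_one] at hi
      refine dvd_mul_of_dvd_right (dvd_mul_of_dvd_right ?_ _) _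
      by_contra hc
      exact hno (φ₀ : D → ℂ) φ₀.2 (fun e => (mem_inertia D).mp (hi ▸ Subgroup.mem_top e)) (v φ₀) hc
        (hv φ₀)
    · exact dvd_mul_of_dvd_left (hcardO ▸ dvd_pow_self p hi0.ne') _
  choose! z hz hgood using hterm
  have hmain : (m : ℂ) = ((l.map fun t => t.2.2 * (z t : ℤ)).sum : ℤ) := by
    have h1 : (Nat.card N : ℂ)⁻¹ * ∑ n : N, (m : ℂ) * (ϑ n * conj (ϑ n)) = (m : ℂ) := by
      rw [← Finset.mul_sum, ← mul_assoc, mul_comm _ (m : ℂ), mul_assoc]
      have := classInner_irr_self hϑ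
      rw [classInner] at this
      rw [this, mul_one]
    rw [← h1]
    clear h1
    have h2 : ∀ n : N, (m : ℂ) = (l.map fun t => (t.2.2 : ℂ) * indFun t.1 t.2.1 (n : G)).sum := by
      intro n
      have h := congrFun hsum (n : G)
      rw [h, Pi.list_sum_apply, List.map_map]
      rfl
    rw [Finset.sum_congr rfl (fun (n : N) _ => congrArg (fun z : ℂ => z * (ϑ n * conj (ϑ n))) (h2 n))]
    clear h2 hsum hgood hm hl
    induction l with
    | nil => simp
    | cons t l ih =>
      simp only [List.map_cons, List.sum_cons, add_mul, Finset.sum_add_distrib, mul_add,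
        Int.cast_add, Int.cast_mul, Int.cast_natCast]
      rw [ih fun s hs => hz s (List.mem_cons_of_mem _ hs)]
      congr 1
      rw [← hz t (by simp), Finset.mul_sum, Finset.mul_sum, Finset.mul_sum]
      exact Finset.sum_congr rfl fun n _ => by ring
  obtain ⟨t, ht, hnd⟩ : ∃ t ∈ l, ¬ p ∣ z t := by
    by_contra hh
    push Not at hh
    apply hm
    rw [show m = (l.map fun t => t.2.2 * (z t : ℤ)).sum from Int.cast_injective hmain]
    refine List.dvd_sum fun x hx => ?_
    obtain ⟨t, ht, rfl⟩ := List.mem_map.mp hx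
    exact dvd_mul_of_dvd_right (by exact_mod_cast hh t ht) _
  obtain ⟨hEN, φ, hφ, hφinv, c, hc, hcφ⟩ := hgood t ht hnd
  obtain ⟨hEel, -⟩ := hl t ht
  obtain ⟨E, lam, a⟩ := t
  let e : ↥(E ⊓ N) ≃* N.subgroupOf E :=
    { toFun := fun x => ⟨⟨x, x.2.1⟩, x.2.2⟩
      invFun := fun d => ⟨((d : E) : G), (d : E).2, d.2⟩
      left_inv := fun x => rfl
      right_inv := fun d => rfl
      map_mul' := fun x y => rfl }
  refine ⟨E, fun x => φ (e x), hEel, hEN, isIrrCharacter_comp_equiv e hφ, fun g hg x => ?_,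
    c, hc, ?_⟩
  · exact congrFun (hφinv ⟨g, hg⟩) (e x)
  · rw [finsum_eq_sum_of_fintype]
    have h := classInner_comp_equiv e (fun d : N.subgroupOf E => ϑ ⟨((d : E) : G), d.2⟩) φ
    rw [hcφ] at h
    rw [← h]
    rfl

end Cfsg.Agent.S0896
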