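import Cfsg.Statements.S0897
import Cfsg.Agent.S0896
import Cfsg.Agent.S0890
import Cfsg.Agent.Lib.Char.ElementaryPart
import Cfsg.Agent.Lib.Char.Linear
import Cfsg.Agent.Lib.Char.Ramification

set_option autoImplicit false
set_option linter.style.haveILetI false
open Cfsg Cfsg.Lib.Char
open scoped ComplexConjugate Pointwise

namespace Cfsg.Agent.S0897

theorem result {G : Type*} [Group G] [Fintype G] (p : ℕ) [Fact p.Prime] (N : Subgroup G) [hN : N.Normal] (hind : ∃ k : ℕ, N.index = p ^ k) (P : Sylow p G) (hcent : ∀ x ∈ (P : Subgroup G) ⊓ N, ∀ y ∈ (P : Subgroup G), x * y = y * x) (hlin : ∀ lam : ↥((P : Subgroup G) ⊓ N) → ℂ, Cfsg.IsCharacter ↥((P : Subgroup G) ⊓ N) lam → lam 1 = 1 → ∃ μ : ↥(P : Subgroup G) → ℂ, Cfsg.IsCharacter ↥(P : Subgroup G) μ ∧ μ 1 = 1 ∧ ∀ x : ↥((P : Subgroup G) ⊓ N), μ ⟨(x : G), x.2.1⟩ = lam x) (ϑ : N → ℂ) (hϑ : Cfsg.IsIrrCharacter N ϑ) (hinv : ∀ (g : G) (n : N), ϑ ⟨g * n * g⁻¹, hN.conj_mem (n : G) n.2 g⟩ = ϑ n) :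 ∃ χ : G → ℂ, Cfsg.IsIrrCharacter G χ ∧ ∀ n : N, χ n = ϑ n := by
  classical
  have hp : p.Prime := Fact.out
  haveI := Fintype.ofFinite N
  obtain ⟨E, φ, hE, hEN, hφ, hφinv, m, hm, hmult⟩ := Cfsg.Agent.S0896.result p hp N hind ϑ hϑ hinv
  haveI := Fintype.ofFinite E
  obtain ⟨x, hxc, hxp, k, hk⟩ := hE
  obtain ⟨j, hj⟩ := hind
  have hE' : IsElementary p E := ⟨x, hxc, hxp, k, hk⟩
  have hmn : (orderOf x).Coprime (p ^ k) := hxp.pow_right k
  have hdvd : Nat.card E ∣ orderOf x * p ^ k := by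
    rw [← (Subgroup.zpowers x).card_mul_index, Nat.card_zpowers, hk]
  obtain ⟨a, b, ha, hb, hab⟩ := exists_part_exponents hmn
  let A := partHom hp hE' hmn hdvd ha
  let B := partHom hp hE' hmn.symm (mul_comm (orderOf x) (p ^ k) ▸ hdvd) ⟨hb.2, hb.1⟩
  have hrec : ∀ y : E, y = A y * B y := fun y => by
    show y = y ^ a * y ^ b
    rw [← pow_add, pow_eq_pow_of_card_dvd hdvd hab y, pow_one]
  haveI hZn : (Subgroup.zpowers x).Normal := ⟨fun z hz g => by
    rw [Subgroup.mem_center_iff.mp (Subgroup.zpowers_le.mpr hxc hz) g, mul_inv_cancel_right]; exact hz⟩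
  have hA : ∀ y : E, A y ∈ Subgroup.zpowers x := by
    intro y
    rw [← QuotientGroup.eq_one_iff (N := Subgroup.zpowers x)]
    show ((y ^ a : E) : E ⧸ Subgroup.zpowers x) = 1
    rw [QuotientGroup.mk_pow]
    refine orderOf_dvd_iff_pow_eq_one.mp ?_
    have h1 : orderOf ((y : E) : E ⧸ Subgroup.zpowers x) ∣ p ^ k := by
      rw [← hk, Subgroup.index_eq_card]; exact orderOf_dvd_natCard _
    exact h1.trans (Nat.modEq_zero_iff_dvd.mp ha.2)
  have hxN : (x : G) ∈ N := by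
    rw [← QuotientGroup.eq_one_iff (N := N), ← orderOf_eq_one_iff]
    refine Nat.eq_one_of_dvd_coprimes (hxp.pow_right j) ?_ ?_
    · rw [← Subgroup.orderOf_coe x]
      exact orderOf_map_dvd (QuotientGroup.mk' N) (x : G)
    · rw [← hj, Subgroup.index_eq_card]; exact orderOf_dvd_natCard _
  have hAN : ∀ y : E, ((A y : E) : G) ∈ N := fun y => by
    obtain ⟨i, hi⟩ := Subgroup.mem_zpowers_iff.mp (hA y)
    rw [← hi, SubgroupClass.coe_zpow]
    exact N.zpow_mem hxN i
  -- the `p`-part lies in a conjugate of `P`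
  have hQp : IsPGroup p (B.range.map E.subtype) := by
    refine IsPGroup.map ?_ E.subtype
    obtain ⟨i, -, hi⟩ := (Nat.dvd_prime_pow hp).mp
      (card_range_partHom_dvd hp hE' hmn.symm (mul_comm (orderOf x) (p ^ k) ▸ hdvd) ⟨hb.2, hb.1⟩)
    exact IsPGroup.of_card hi
  obtain ⟨P₁, hP₁⟩ := hQp.exists_le_sylow
  obtain ⟨g, hg⟩ := MulAction.exists_smul_eq G P₁ P
  let c : E →* ↥(P : Subgroup G) :=
    (((MulAut.conj g).toMonoidHom.comp E.subtype).comp B).codRestrict (P : Subgroup G) fun y => by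
      rw [← hg, Sylow.coe_subgroup_smul]
      exact Subgroup.smul_mem_pointwise_smul _ _ _ (hP₁ ⟨B y, ⟨y, rfl⟩, rfl⟩)
  have hc : ∀ y : E, ((c y : ↥(P : Subgroup G)) : G) = g * ((B y : E) : G) * g⁻¹ := fun y => rfl
  have hBD : ∀ d : ↥(E ⊓ N), ((B ⟨d, d.2.1⟩ : E) : G) ∈ N := fun d => by
    show (((⟨(d : G), d.2.1⟩ : E) ^ b : E) : G) ∈ N
    rw [SubgroupClass.coe_pow]
    exact N.pow_mem d.2.2 b
  have hcD : ∀ d : ↥(E ⊓ N), ((c ⟨d, d.2.1⟩ : ↥(P : Subgroup G)) : G) ∈ (P : Subgroup G) ⊓ N := fun d =>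
    ⟨(c _).2, by rw [hc]; exact hN.conj_mem _ (hBD d) g⟩
  have hAc : ∀ y z : E, A y * z = z * A y := fun y z => by
    obtain ⟨i, hi⟩ := Subgroup.mem_zpowers_iff.mp (hA y)
    rw [← hi]
    exact (Subgroup.mem_center_iff.mp (Subgroup.zpow_mem _ hxc i) z).symm
  have hDab : ∀ d d' : ↥(E ⊓ N), d * d' = d' * d := by
    intro d d'
    set y : E := ⟨d, d.2.1⟩
    set y' : E := ⟨d', d'.2.1⟩
    have h1 := hcent _ (hcD d) _ (c y').2
    rw [hc, hc] at h1
    have h2 : B y * B y' = B y' * B y := Subtype.ext (by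
      show ((B y : E) : G) * (B y' : E) = (B y' : E) * (B y : E)
      apply mul_left_cancel (a := g)
      apply mul_right_cancel (b := g⁻¹)
      calc g * (((B y : E) : G) * (B y' : E)) * g⁻¹ =
          g * ((B y : E) : G) * g⁻¹ * (g * (B y' : E) * g⁻¹) := by group
        _ = g * ((B y' : E) : G) * g⁻¹ * (g * (B y : E) * g⁻¹) := h1
        _ = _ := by group)
    have h3 : y * y' = y' * y := by
      calc y * y' = A y * (B y * (A y' * B y')) := by rw [← mul_assoc, ← hrec y, ← hrec y']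
        _ = A y * ((A y' * B y) * B y') := by rw [← mul_assoc (B y), ← hAc y' (B y)]
        _ = A y * (A y' * (B y' * B y)) := by rw [mul_assoc, h2]
        _ = A y' * (A y * (B y' * B y)) := by rw [← mul_assoc, hAc y (A y'), mul_assoc]
        _ = A y' * ((A y * B y') * B y) := by rw [mul_assoc]
        _ = A y' * ((B y' * A y) * B y) := by rw [hAc y (B y')]
        _ = A y' * B y' * (A y * B y) := by simp only [mul_assoc]
        _ = y' * y := by rw [← hrec y, ← hrec y']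
    exact Subtype.ext (congrArg (fun z : E => (z : G)) h3)
  obtain ⟨f, hf⟩ := exists_hom_of_degree_one hφ.isCharacter (degree_eq_one_of_comm hDab hφ)
  -- move `φ` into `P ⊓ N` and extend it
  let s : E →* G := E.subtype
  let S : Subgroup ↥((P : Subgroup G) ⊓ N) :=
    { carrier := {z | g⁻¹ * (z : G) * g ∈ E}
      one_mem' := by simp
      mul_mem' := fun {u v} hu hv => by
        show g⁻¹ * ((u : G) * v) * g ∈ E
        rw [show g⁻¹ * ((u : G) * v) * g = g⁻¹ * u * g * (g⁻¹ * v * g) by group]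
        exact E.mul_mem hu hv
      inv_mem' := fun {u} hu => by
        show g⁻¹ * (u : G)⁻¹ * g ∈ E
        rw [show g⁻¹ * (u : G)⁻¹ * g = (g⁻¹ * u * g)⁻¹ by group]
        exact E.inv_mem hu }
  have hmemD : ∀ z : S, g⁻¹ * ((z : ↥((P : Subgroup G) ⊓ N)) : G) * g ∈ (E ⊓ N) := fun z =>
    ⟨z.2, by simpa using hN.conj_mem _ z.1.2.2 g⁻¹⟩
  let toD : S →* ↥(E ⊓ N) :=
    { toFun := fun z => ⟨_, hmemD z⟩
      map_one' := Subtype.ext (by simp)
      map_mul' := fun u v => Subtype.ext (by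
        show g⁻¹ * (((u : ↥((P : Subgroup G) ⊓ N)) : G) * _) * g = _
        simp only [Subgroup.coe_mul]; group) }
  have hQab : ∀ u v : ↥((P : Subgroup G) ⊓ N), u * v = v * u := fun u v =>
    Subtype.ext (hcent u u.2 v v.2.1)
  haveI := Fintype.ofFinite S
  haveI := Fintype.ofFinite ↥((P : Subgroup G) ⊓ N)
  obtain ⟨χ₀, hχ₀⟩ := exists_constituent
    (isCharacter_indFun S (isIrrCharacter_linear (f.comp toD)).isCharacter) (by
      rw [indFun_apply_one]; simp [Subgroup.index_ne_zero_of_finite])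
  have hχ₀1 := degree_eq_one_of_comm hQab χ₀.2
  have hres0 : ∀ z : S, (χ₀ : ↥((P : Subgroup G) ⊓ N) → ℂ) z = (f (toD z) : ℂ) := by
    rw [classInner_indFun S _ χ₀.2.isClassFunction, ← classInner_conj_symm] at hχ₀
    have h := eq_of_constituent_of_degree (χ₀.2.isCharacter.comp S.subtype)
      (isIrrCharacter_linear (f.comp toD)) (fun e => hχ₀ (by
        rw [show classInner (fun h : S => (χ₀ : ↥((P : Subgroup G) ⊓ N) → ℂ) h)
          (fun g => ((f.comp toD) g : ℂ)) = 0 from e, map_zero]))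
      (by rw [map_one, hχ₀1, map_one, Units.val_one])
    exact fun z => congrFun h z
  obtain ⟨μ, hμ, hμ1, hμext⟩ := hlin χ₀ χ₀.2.isCharacter hχ₀1
  obtain ⟨ν, rfl⟩ := exists_hom_of_degree_one hμ hμ1
  -- the linear extension to `E`
  let AD : E →* ↥(E ⊓ N) := ((E.subtype).comp A).codRestrict (E ⊓ N) fun y => ⟨(A y).2, hAN y⟩
  let l : E →* ℂˣ := f.comp AD * ν.comp c
  have hl : ∀ d : ↥(E ⊓ N), (l ⟨d, d.2.1⟩ : ℂ) = φ d := by
    intro d
    set y : E := ⟨d, d.2.1⟩
    have hz : (⟨((c y : ↥(P : Subgroup G)) : G), hcD d⟩ : ↥((P : Subgroup G) ⊓ N)) ∈ S := by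
      show g⁻¹ * ((c y : ↥(P : Subgroup G)) : G) * g ∈ E
      rw [hc, show g⁻¹ * (g * ((B y : E) : G) * g⁻¹) * g = ((B y : E) : G) by group]
      exact (B y).2
    have e1 : (ν (c y) : ℂ) = (f (toD ⟨_, hz⟩) : ℂ) := (hμext _).trans (hres0 ⟨_, hz⟩)
    have e2 : toD ⟨_, hz⟩ = ⟨((B y : E) : G), (B y).2, hBD d⟩ := Subtype.ext (by
      show g⁻¹ * ((c y : ↥(P : Subgroup G)) : G) * g = _
      rw [hc]; group)
    have e3 : d = AD y * ⟨((B y : E) : G), (B y).2, hBD d⟩ :=
      Subtype.ext (congrArg (fun z : E => (z : G)) (hrec y))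
    rw [hf]
    show ((f (AD y) * ν (c y) : ℂˣ) : ℂ) = (f d : ℂ)
    rw [Units.val_mul, e1, e2, ← Units.val_mul, ← map_mul, ← e3]
  have hΦ : IsCharacter G (indFun E fun y => (l y : ℂ)) :=
    isCharacter_indFun E (isIrrCharacter_linear l).isCharacter
  have hres := Cfsg.Agent.S0890.res_ind N E (by rw [sup_comm]; exact hEN)
    (isIrrCharacter_linear l).isClassFunction
  have hinner : classInner (fun n : N => indFun E (fun y => (l y : ℂ)) n) ϑ = (m : ℂ) := by
    rw [hres, classInner_indFun _ _ hϑ.isClassFunction, ← classInner_conj_symm]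
    let e : ↥(E ⊓ N) ≃* E.subgroupOf N :=
      { toFun := fun d => ⟨⟨d, d.2.2⟩, d.2.1⟩
        invFun := fun z => ⟨((z : N) : G), z.2, (z : N).2⟩
        left_inv := fun d => rfl
        right_inv := fun z => rfl
        map_mul' := fun u v => rfl }
    rw [← classInner_comp_equiv e]
    rw [finsum_eq_sum_of_fintype] at hmult
    have : classInner (fun d : ↥(E ⊓ N) => ϑ ⟨(d : G), d.2.2⟩) φ = (m : ℂ) := by
      rw [classInner]; exact hmult
    rw [show classInner (fun d => (fun h : E.subgroupOf N => ϑ h) (e d))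
      (fun d => (fun x : E.subgroupOf N => (l ⟨((x : N) : G), x.2⟩ : ℂ)) (e d)) = (m : ℂ) from ?_,
      Complex.conj_natCast]
    rw [← this]
    congr 1
    funext d
    exact hl d
  choose u hu using fun χ : IrrCharacter G => hΦ.exists_nat_classInner χ.2.isCharacter
  choose v hv using fun χ : IrrCharacter G =>
    (χ.2.isCharacter.comp N.subtype).exists_nat_classInner hϑ.isCharacter
  have hexp : m = ∑ χ : IrrCharacter G, u χ * v χ := by
    have h := hinner
    rw [show (fun n : N => indFun E (fun y => (l y : ℂ)) n) =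
      ∑ χ : IrrCharacter G, (u χ : ℂ) • fun n : N => (χ : G → ℂ) n from funext fun n => by
        have h1 := congrFun (eq_sum_classInner hΦ.isClassFunction) (n : G)
        rw [h1, Finset.sum_apply, Finset.sum_apply]
        exact Finset.sum_congr rfl fun χ _ => by rw [hu]; rfl,
      classInner_sum_left] at h
    simp only [classInner_smul_left] at h
    rw [Finset.sum_congr rfl (g := fun χ : IrrCharacter G => (u χ : ℂ) * (v χ : ℂ)) fun χ _ => by
      rw [show classInner (fun n : N => (χ : G → ℂ) n) ϑ = (v χ : ℂ) from hv χ]] at h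
    exact_mod_cast h.symm
  obtain ⟨χ, hχ⟩ : ∃ χ : IrrCharacter G, ¬ p ∣ v χ := by
    by_contra hh
    push Not at hh
    exact hm (hexp ▸ Finset.dvd_sum fun χ _ => dvd_mul_of_dvd_right (hh χ) _)
  have hinv' : ∀ g, conjTwist N ϑ g = ϑ := fun g => funext fun n => hinv g n
  have hcl := clifford_invariant N χ.2 hϑ hinv'
    (fun h => hχ (by rw [show v χ = 0 by exact_mod_cast (hv χ).symm.trans h]; exact dvd_zero p))
  rw [show classInner (fun n : N => (χ : G → ℂ) n) ϑ = (v χ : ℂ) from hv χ] at hcl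
  obtain ⟨i, -, hi⟩ := (Nat.dvd_prime_pow hp).mp
    (hj ▸ multiplicity_dvd_index hϑ hinv' χ.2 hcl)
  have hv1 : v χ = 1 := by
    rcases Nat.eq_zero_or_pos i with rfl | h0
    · simpa using hi
    · exact absurd (hi ▸ dvd_pow_self p h0.ne') hχ
  refine ⟨χ, χ.2, fun n => ?_⟩
  have h := congrFun hcl n
  rwa [hv1, Nat.cast_one, one_smul] at h

end Cfsg.Agent.S0897
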