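import Cfsg.Statements.S0900
import Cfsg.Agent.Lib.Char.FixedChar
-- import your own Cfsg.Agent.* helpers here

set_option autoImplicit false
open Cfsg

namespace Cfsg.Agent.S0900

set_option linter.style.haveILetI false
open Cfsg Cfsg.Lib.Char
open scoped ComplexConjugate


/-- Let N be a normal subgroup of the finite group G, χ an irreducible character of G and ϑ an irreducible character of N having nonzero inner product with the restriction of χ. Consider: (a) the restriction of χ to N is e • ϑ for a natural number e with e ^ 2 equal to the index of N; (b) χ vanishes outside N and ϑ is invariant under conjugation by G; (c) ϑ is invariant and every irreducible character of G having nonzero inner product with the function induced from ϑ equals χ. Then (a) ↔ (b) and (a) ↔ (c). -/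
theorem result {G : Type*} [Group G] [Fintype G] (N : Subgroup G) [hN : N.Normal] [Fintype N] (χ : G → ℂ) (hχ : Cfsg.IsIrrCharacter G χ) (ϑ : N → ℂ) (hϑ : Cfsg.IsIrrCharacter N ϑ) (hcon : Cfsg.classInner (fun n : N => χ n) ϑ ≠ 0) : ((∃ e : ℕ, (fun n : N => χ n) = (e : ℂ) • ϑ ∧ e ^ 2 = N.index) ↔ ((∀ g : G, g ∉ N → χ g = 0) ∧ ∀ (g : G) (n : N), ϑ ⟨g * n * g⁻¹, hN.conj_mem (n : G) n.2 g⟩ = ϑ n)) ∧ ((∃ e : ℕ, (fun n : N => χ n) = (e : ℂ) • ϑ ∧ e ^ 2 = N.index) ↔ (∀ (g : G) (n : N), ϑ ⟨g * n * g⁻¹, hN.conj_mem (n : G) n.2 g⟩ = ϑ n ∧ ∀ ψ : G → ℂ, Cfsg.IsIrrCharacter G ψ → Cfsg.classInner (Cfsg.indFun N ϑ) ψ ≠ 0 → ψ = χ)) := by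
  classical
  have hindχ := isCharacter_indFun N hϑ.isCharacter
  obtain ⟨e₀, he₀⟩ := (hχ.isCharacter.comp N.subtype).exists_nat_classInner hϑ.isCharacter
  have he₀' : Cfsg.classInner (fun n : N => χ n) ϑ = (e₀ : ℂ) := he₀
  have hcoef : Cfsg.classInner (Cfsg.indFun N ϑ) χ = (e₀ : ℂ) := by
    rw [classInner_indFun N ϑ hχ.isClassFunction, ← classInner_conj_symm, he₀',
      Complex.conj_natCast]
  have hinv_of : ∀ e : ℕ, (fun n : N => χ n) = (e : ℂ) • ϑ → e = e₀ ∧
      ∀ g, conjTwist N ϑ g = ϑ := by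
    intro e he
    have h1 : (e : ℂ) = e₀ := by
      rw [← he₀', he, classInner_smul_left, classInner_irr_self hϑ, mul_one]
    refine ⟨Nat.cast_injective h1, fun g => ?_⟩
    have h0 : (e : ℂ) ≠ 0 := by rw [h1, ← he₀']; exact hcon
    funext n
    refine mul_left_cancel₀ h0 ?_
    have h2 := congrFun (conjTwist_res N hχ.isClassFunction g) n
    rw [he] at h2
    exact h2.trans (congrFun he n)
  have hres_of : (∀ g, conjTwist N ϑ g = ϑ) → (fun n : N => χ n) = (e₀ : ℂ) • ϑ := fun h => by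
    conv_rhs => rw [← he₀']
    exact clifford_invariant N hχ hϑ h hcon
  have hN0 : (Nat.card N : ℂ) ≠ 0 := Nat.cast_ne_zero.mpr Nat.card_pos.ne'
  have hnorm : (∀ g, conjTwist N ϑ g = ϑ) →
      (e₀ ^ 2 = N.index ↔ ∀ g : G, g ∉ N → χ g = 0) := by
    intro h
    have h1 := classInner_irr_self hχ
    rw [classInner, inv_mul_eq_iff_eq_mul₀ card_cast_ne_zero, mul_one,
      ← Finset.sum_filter_add_sum_filter_not Finset.univ (fun g => g ∈ N),
      Finset.sum_subtype (Finset.univ.filter fun g => g ∈ N) (p := fun g => g ∈ N) (by simp)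
        (fun g => χ g * conj (χ g))] at h1
    have h2 : ∑ n : N, χ n * conj (χ n) = ((e₀ ^ 2 * Nat.card N : ℕ) : ℂ) := by
      have h3 := classInner_irr_self hϑ
      rw [classInner, inv_mul_eq_iff_eq_mul₀ hN0, mul_one] at h3
      have hr := fun n => congrFun (hres_of h) n
      simp only [Pi.smul_apply, smul_eq_mul] at hr
      simp only [hr, map_mul, Complex.conj_natCast]
      push_cast
      rw [← h3, Finset.mul_sum]
      exact Finset.sum_congr rfl fun n _ => by ring
    rw [h2, ← N.card_mul_index, mul_comm (e₀ ^ 2)] at h1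
    have h4 : ∀ g, χ g * conj (χ g) = ((Complex.normSq (χ g) : ℝ) : ℂ) := fun g => Complex.mul_conj _
    simp only [h4] at h1
    have h5 := congrArg Complex.re h1
    push_cast at h5
    simp only [Complex.add_re, Complex.re_sum, Complex.ofReal_re, Complex.mul_re,
      Complex.natCast_re, Complex.natCast_im, mul_zero, zero_mul, sub_zero] at h5
    norm_cast at h5
    constructor
    · intro he g hg
      rw [he] at h5
      have h6 : ∑ g ∈ Finset.univ.filter (fun g => g ∉ N), Complex.normSq (χ g) = 0 := by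
        linarith
      exact Complex.normSq_eq_zero.mp ((Finset.sum_eq_zero_iff_of_nonneg
        (fun g _ => Complex.normSq_nonneg _)).mp h6 g (by simp [hg]))
    · intro hv
      rw [Finset.sum_eq_zero (s := Finset.univ.filter (fun g => g ∉ N)) (fun g hg => by
        rw [hv g (Finset.mem_filter.mp hg).2, map_zero])] at h5
      rw [add_zero] at h5
      exact_mod_cast Nat.eq_of_mul_eq_mul_left Nat.card_pos (by exact_mod_cast h5)
  have hnormInd : (∀ g, conjTwist N ϑ g = ϑ) →
      (e₀ ^ 2 = N.index ↔ ∀ ψ : G → ℂ, Cfsg.IsIrrCharacter G ψ →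
        Cfsg.classInner (Cfsg.indFun N ϑ) ψ ≠ 0 → ψ = χ) := by
    intro h
    have hI : inertia N ϑ = ⊤ := eq_top_iff.mpr fun g _ => h g
    have h1 := classInner_indFun_self N hϑ
    rw [hI, Subgroup.card_top, ← N.card_mul_index, Nat.cast_mul] at h1
    have h2 := mul_left_cancel₀ hN0 h1
    choose m hm using fun φ : IrrCharacter G => hindχ.exists_nat_classInner φ.2.isCharacter
    rw [classInner_eq_sum hindχ.isClassFunction] at h2
    simp only [hm, Complex.conj_natCast] at h2
    norm_cast at h2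
    have hm0 : m ⟨χ, hχ⟩ = e₀ := Nat.cast_injective (R := ℂ) (by rw [← hm, hcoef])
    rw [← Finset.add_sum_erase _ _ (Finset.mem_univ (⟨χ, hχ⟩ : IrrCharacter G)), hm0] at h2
    constructor
    · intro he ψ hψ hne
      by_contra hψχ
      have h3 : ∑ φ ∈ Finset.univ.erase (⟨χ, hχ⟩ : IrrCharacter G), m φ * m φ = 0 := by
        rw [pow_two] at he; omega
      have h4 := Finset.sum_eq_zero_iff.mp h3 ⟨ψ, hψ⟩
        (Finset.mem_erase.mpr ⟨fun e => hψχ (congrArg Subtype.val e), Finset.mem_univ _⟩)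
      exact hne ((hm ⟨ψ, hψ⟩).trans (by simp [mul_self_eq_zero.mp h4]))
    · intro hu
      rw [Finset.sum_eq_zero (s := Finset.univ.erase (⟨χ, hχ⟩ : IrrCharacter G)) (fun φ hφ => by
        have : m φ = 0 := by
          by_contra h0
          exact (Finset.mem_erase.mp hφ).1 (Subtype.ext (hu φ φ.2 (by
            rw [hm]; exact Nat.cast_ne_zero.mpr h0)))
        simp [this]), add_zero] at h2
      rw [pow_two, h2]
  refine ⟨⟨?_, ?_⟩, ⟨?_, ?_⟩⟩
  · rintro ⟨e, he, he2⟩
    obtain ⟨rfl, hinv⟩ := hinv_of e he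
    exact ⟨(hnorm hinv).mp he2, fun g n => congrFun (hinv g) n⟩
  · rintro ⟨hv, hi⟩
    have hinv : ∀ g, conjTwist N ϑ g = ϑ := fun g => funext (hi g)
    exact ⟨e₀, hres_of hinv, (hnorm hinv).mpr hv⟩
  · rintro ⟨e, he, he2⟩ g n
    obtain ⟨rfl, hinv⟩ := hinv_of e he
    exact ⟨congrFun (hinv g) n, (hnormInd hinv).mp he2⟩
  · intro h
    have hinv : ∀ g, conjTwist N ϑ g = ϑ := fun g => funext fun n => (h g n).1
    exact ⟨e₀, hres_of hinv, (hnormInd hinv).mpr (h 1 1).2⟩

end Cfsg.Agent.S0900
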