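import Cfsg.Statements.S0901
import Cfsg.Agent.Lib.Block.LocalRing
import Mathlib.FieldTheory.Finite.Basic
import Mathlib.RingTheory.RootsOfUnity.Lemmas

set_option autoImplicit false
open Cfsg

namespace Cfsg.Agent.S0901

/-- Let M be a maximal ideal of the ring of algebraic integers containing the prime p, and let U be the set of complex roots of unity of order prime to p. Then reduction modulo M is injective on U, and every algebraic integer not in M is congruent modulo M to an element of U (so U maps bijectively onto the nonzero residues). -/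
theorem result (p : ℕ) [Fact p.Prime] (M : Ideal Cfsg.AlgInt) (hM : Cfsg.IsPModular p M) : (∀ ε₁ ε₂ : Cfsg.AlgInt, (∃ m : ℕ, ¬ p ∣ m ∧ (ε₁ : ℂ) ^ m = 1) → (∃ m : ℕ, ¬ p ∣ m ∧ (ε₂ : ℂ) ^ m = 1) → ε₁ - ε₂ ∈ M → ε₁ = ε₂) ∧ (∀ a : Cfsg.AlgInt, a ∉ M → ∃ ε : Cfsg.AlgInt, (∃ m : ℕ, ¬ p ∣ m ∧ (ε : ℂ) ^ m = 1) ∧ a - ε ∈ M) := by
  classical
  haveI := hM.2.1
  have hp : p.Prime := Fact.out
  have hprime : M.IsPrime := Ideal.IsMaximal.isPrime hM.2.1
  have hroot : ∀ (z : ℂ) (m : ℕ), 0 < m → z ^ m = 1 → IsIntegral ℤ z := fun z m hm hz =>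
    IsIntegral.of_pow hm (hz ▸ isIntegral_one)
  constructor
  · rintro ε₁ ε₂ ⟨m₁, hm₁, h₁⟩ ⟨m₂, hm₂, h₂⟩ hsub
    have hm0 : ∀ m, ¬ p ∣ m → 0 < m := fun m h =>
      Nat.pos_of_ne_zero fun h0 => h (h0 ▸ dvd_zero p)
    have hne : (ε₂ : ℂ) ≠ 0 := fun h0 => by
      rw [h0, zero_pow (hm0 m₂ hm₂).ne'] at h₂
      exact zero_ne_one h₂
    have hz : ((ε₁ : ℂ) / ε₂) ^ (m₁ * m₂) = 1 := by
      rw [div_pow, pow_mul, h₁, one_pow, mul_comm, pow_mul, h₂, one_pow, div_one]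
    have hinv : IsIntegral ℤ ((ε₂ : ℂ)⁻¹) :=
      hroot _ m₂ (hm0 m₂ hm₂) (by rw [inv_pow, h₂, inv_one])
    have hmem : MemLocalIdeal M ((ε₁ : ℂ) / ε₂ - 1) := by
      rw [show (ε₁ : ℂ) / ε₂ - 1 = ((ε₁ - ε₂ : Cfsg.AlgInt) : ℂ) * (ε₂ : ℂ)⁻¹ by
        push_cast; rw [sub_mul, mul_inv_cancel₀ hne, div_eq_mul_inv]]
      exact Cfsg.Lib.Block.memLocalIdeal_mul_right hM
        ((Cfsg.Lib.Block.memLocalIdeal_algInt_iff hM _).mpr hsub)
        (Cfsg.Lib.Block.isIntegral_mem_locRing hM hinv)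
    have h := Cfsg.Lib.Block.eq_one_of_memLocalIdeal_sub_one hM
      (fun h => (hp.dvd_mul.mp h).elim hm₁ hm₂) hz hmem
    exact Subtype.ext ((div_eq_one_iff_eq hne).mp h)
  · intro a ha
    letI : Field (Cfsg.AlgInt ⧸ M) := Ideal.Quotient.field M
    haveI : CharP (Cfsg.AlgInt ⧸ M) p := by
      refine ⟨fun n => ?_⟩
      rw [← map_natCast (Ideal.Quotient.mk M), Ideal.Quotient.eq_zero_iff_mem]
      exact Cfsg.Lib.Block.natCast_mem_ideal_iff hM n
    letI : Algebra (ZMod p) (Cfsg.AlgInt ⧸ M) := ZMod.algebra _ p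
    set x : Cfsg.AlgInt ⧸ M := Ideal.Quotient.mk M a with hx
    have hxi : IsIntegral (ZMod p) x := by
      have h1 : IsIntegral ℤ x := by
        have ha' : IsIntegral ℤ a :=
          (isIntegral_algHom_iff (integralClosure ℤ ℂ).val Subtype.val_injective).mp a.2
        exact map_isIntegral_int (Ideal.Quotient.mk M) ha'
      exact h1.tower_top
    haveI : Module.Finite (ZMod p) (Algebra.adjoin (ZMod p) ({x} : Set (Cfsg.AlgInt ⧸ M))) :=
      Module.Finite.iff_fg.mpr hxi.fg_adjoin_singleton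
    haveI : Finite (Algebra.adjoin (ZMod p) ({x} : Set (Cfsg.AlgInt ⧸ M))) :=
      Module.finite_of_finite (ZMod p)
    obtain ⟨i, j, hij, heq⟩ := Finite.exists_ne_map_eq_of_infinite (fun k : ℕ =>
      (⟨x, Algebra.subset_adjoin rfl⟩ : Algebra.adjoin (ZMod p) ({x} : Set (Cfsg.AlgInt ⧸ M))) ^ k)
    have heq' : x ^ i = x ^ j := congrArg Subtype.val heq
    have hx0 : x ≠ 0 := fun h => ha (Ideal.Quotient.eq_zero_iff_mem.mp h)
    obtain ⟨n, hn, hxn⟩ : ∃ n : ℕ, n ≠ 0 ∧ x ^ n = 1 := by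
      rcases lt_or_gt_of_ne hij with h | h
      · exact ⟨j - i, by omega, by rw [pow_sub₀ _ hx0 h.le, heq', mul_inv_cancel₀ (pow_ne_zero _ hx0)]⟩
      · exact ⟨i - j, by omega, by rw [pow_sub₀ _ hx0 h.le, heq', mul_inv_cancel₀ (pow_ne_zero _ hx0)]⟩
    obtain ⟨k, m, hm, rfl⟩ := Nat.exists_eq_pow_mul_and_not_dvd hn p hp.ne_one
    have hxm : x ^ m = 1 := by
      have h2 : (x ^ m - 1) ^ p ^ k = 0 := by
        rw [sub_pow_char_pow, one_pow, ← pow_mul, mul_comm, hxn, sub_self]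
      exact sub_eq_zero.mp (eq_zero_of_pow_eq_zero h2)
    haveI : NeZero m := ⟨fun h => hm (h ▸ dvd_zero p)⟩
    have hζ := Complex.isPrimitiveRoot_exp m (NeZero.ne m)
    let e : ℕ → Cfsg.AlgInt := fun l => ⟨_ ^ l, (hroot _ m (NeZero.pos m) hζ.pow_eq_one).pow l⟩
    have hprod : ∏ l ∈ Finset.range m, (a - e l) ∈ M := by
      rw [show ∏ l ∈ Finset.range m, (a - e l) = a ^ m - 1 by
        apply Subtype.ext
        have h := congrArg (Polynomial.eval (a : ℂ))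
          (X_pow_sub_C_eq_prod hζ (NeZero.pos m) (one_pow m))
        simp only [Polynomial.eval_sub, Polynomial.eval_pow, Polynomial.eval_X, Polynomial.eval_C,
          Polynomial.eval_prod, mul_one] at h
        push_cast
        exact h.symm]
      rw [← Ideal.Quotient.eq_zero_iff_mem, map_sub, map_pow, map_one, ← hx, hxm, sub_self]
    obtain ⟨l, -, hl⟩ := hprime.prod_mem_iff.mp hprod
    exact ⟨e l, ⟨m, hm, by rw [← pow_mul, mul_comm l m, pow_mul, hζ.pow_eq_one, one_pow]⟩, hl⟩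

end Cfsg.Agent.S0901
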