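import Cfsg.Statements.S0905
import Cfsg.Agent.Lib.Core.Cores
import Mathlib.Algebra.MonoidAlgebra.Basic
import Mathlib.Data.ZMod.Basic
import Mathlib.GroupTheory.PGroup
import Mathlib.Algebra.CharP.Basic

set_option autoImplicit false
open Cfsg

namespace Cfsg.Agent.S0905

/-- Let F be a field of characteristic p and let g be an element of the finite group G no conjugate of which centralizes O_p(G). Then the class sum of g is a nilpotent element of the group algebra F[G]. -/
theorem result {G : Type*} [Group G] [Finite G] (p : ℕ) [Fact p.Prime] (F : Type*) [Field F] [CharP F p] (g : G) (hg : ∀ x : G, IsConj g x → x ∉ Subgroup.centralizer (Cfsg.pCore p G : Set G)) : IsNilpotent (∑ᶠ x ∈ ConjClasses.carrier (ConjClasses.mk g), MonoidAlgebra.single x (1 : F) : MonoidAlgebra F G) := by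
  classical
  haveI := Fintype.ofFinite G
  set Q := Cfsg.pCore p G with hQ
  have hQp : IsPGroup p Q := Cfsg.Lib.Core.pCore_isPGroup p G
  set K : Finset G := Finset.univ.filter fun x => IsConj g x with hK
  let e : G → (MonoidAlgebra (ZMod p) G) := fun x => MonoidAlgebra.single x 1
  have hee : ∀ x y : G, e x * e y = e (x * y) := fun x y => by
    simp only [e]
    rw [MonoidAlgebra.single_mul_single, one_mul]
  have he1 : e 1 = 1 := rfl
  set z : (MonoidAlgebra (ZMod p) G) := ∑ x ∈ K, e x with hz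
  have hcomm : ∀ u : G, Commute z (e u) := fun u => by
    show z * e u = e u * z
    simp only [hz, Finset.sum_mul, Finset.mul_sum, hee]
    refine Finset.sum_equiv (MulAut.conj u⁻¹).toEquiv (fun x => ?_) fun x _ => ?_
    · simp only [hK, Finset.mem_filter, Finset.mem_univ, true_and]
      have hc : IsConj x (u⁻¹ * x * u⁻¹⁻¹) := isConj_iff.2 ⟨u⁻¹, rfl⟩
      exact ⟨fun h => h.trans hc, fun h => h.trans hc.symm⟩
    · simp [mul_assoc]
  let W : AddSubgroup (MonoidAlgebra (ZMod p) G) :=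
    { carrier := {v | ∃ n : ℕ, z ^ n * v = 0}
      zero_mem' := ⟨0, mul_zero _⟩
      add_mem' := fun {a b} ⟨m, hm⟩ ⟨n, hn⟩ => ⟨m + n, by
        rw [mul_add, pow_add, mul_assoc (z ^ m) (z ^ n) b, hn, mul_zero, add_zero,
          (Commute.pow_pow (Commute.refl z) m n).eq, mul_assoc, hm, mul_zero]⟩
      neg_mem' := fun {a} ⟨m, hm⟩ => ⟨m, by rw [mul_neg, hm, neg_zero]⟩ }
  have hWe : ∀ (u : G) (v : (MonoidAlgebra (ZMod p) G)), v ∈ W → e u * v ∈ W := fun u v ⟨n, hn⟩ =>
    ⟨n, by rw [← mul_assoc, ((hcomm u).pow_left n).eq, mul_assoc, hn, mul_zero]⟩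
  have hpv : ∀ (n : ℕ) (v : (MonoidAlgebra (ZMod p) G)), p ∣ n → n • v = 0 := fun n v ⟨c, hc⟩ => by
    have h0 : ((n : ℕ) : ZMod p) = 0 := by rw [hc]; simp
    rw [← Nat.cast_smul_eq_nsmul (ZMod p), h0, zero_smul]
  -- vectors fixed modulo `W` by `Q` lie in `W`
  have hkey : ∀ v : (MonoidAlgebra (ZMod p) G), (∀ q ∈ Q, e q * v - v ∈ W) → v ∈ W := by
    intro v hv
    letI : MulAction Q {x : G // x ∈ K} :=
      { smul := fun q x => ⟨(q : G) * x * (q : G)⁻¹, by
          have hx := (Finset.mem_filter.1 x.2).2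
          exact Finset.mem_filter.2
            ⟨Finset.mem_univ _, hx.trans (isConj_iff.2 ⟨(q : G), rfl⟩)⟩⟩
        one_smul := fun x => Subtype.ext
          (show ((1 : Q) : G) * x * ((1 : Q) : G)⁻¹ = x by simp)
        mul_smul := fun a b x => Subtype.ext
          (show ((a * b : Q) : G) * x * ((a * b : Q) : G)⁻¹ =
            (a : G) * ((b : G) * x * (b : G)⁻¹) * (a : G)⁻¹ by simp [mul_assoc]) }
    let φ : {x : G // x ∈ K} → (MonoidAlgebra (ZMod p) G) ⧸ W := fun x => ((e x.1 * v : (MonoidAlgebra (ZMod p) G)) : (MonoidAlgebra (ZMod p) G) ⧸ W)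
    have hconst : ∀ (q : Q) (x : {x : G // x ∈ K}), φ (q • x) = φ x := by
      intro q x
      show ((e ((q : G) * x.1 * (q : G)⁻¹) * v : (MonoidAlgebra (ZMod p) G)) : (MonoidAlgebra (ZMod p) G) ⧸ W) = ((e x.1 * v : (MonoidAlgebra (ZMod p) G)) : (MonoidAlgebra (ZMod p) G) ⧸ W)
      rw [QuotientAddGroup.eq_iff_sub_mem]
      have h1 : x.1⁻¹ * (q : G) * x.1 ∈ Q := by
        have := (inferInstance : Q.Normal).conj_mem (q : G) q.2 x.1⁻¹
        rwa [inv_inv] at this
      have e1 : e ((q : G) * x.1 * (q : G)⁻¹) * v - e x.1 * v =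
          e ((q : G) * x.1) * (e (q : G)⁻¹ * v - v) + e x.1 * (e (x.1⁻¹ * (q : G) * x.1) * v - v) := by
        rw [mul_sub, mul_sub, ← mul_assoc, ← mul_assoc, hee, hee,
          show x.1 * (x.1⁻¹ * (q : G) * x.1) = (q : G) * x.1 by group]
        abel
      rw [e1]
      exact W.add_mem (hWe _ _ (hv _ (inv_mem q.2))) (hWe _ _ (hv _ h1))
    have hsum : ∑ x : {x : G // x ∈ K}, φ x = 0 := by
      haveI := Fintype.ofFinite (MulAction.orbitRel.Quotient Q {x : G // x ∈ K})
      have : ∀ o : MulAction.orbitRel.Quotient Q {x : G // x ∈ K},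
          Fintype (MulAction.orbit Q o.out) := fun o => Fintype.ofFinite _
      rw [← Equiv.sum_comp (MulAction.selfEquivSigmaOrbits Q {x : G // x ∈ K}).symm φ,
        Fintype.sum_sigma]
      refine Finset.sum_eq_zero fun o _ => ?_
      rw [Finset.sum_congr rfl (g := fun _ => φ o.out) fun x _ => by
        obtain ⟨q, hq⟩ := MulAction.mem_orbit_iff.1 x.2
        rw [show (MulAction.selfEquivSigmaOrbits Q {x : G // x ∈ K}).symm ⟨o, x⟩ = x.1 from rfl,
          ← hq, hconst]]
      rw [Finset.sum_const, Finset.card_univ, ← Nat.card_eq_fintype_card]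
      obtain ⟨k, hk⟩ := hQp.card_orbit o.out
      rw [hk]
      rcases Nat.eq_zero_or_pos k with rfl | hk0
      · exfalso
        rw [pow_zero, Nat.card_eq_one_iff_unique] at hk
        haveI := hk.1
        refine hg _ (Finset.mem_filter.1 o.out.2).2 (Subgroup.mem_centralizer_iff.2 fun q hq => ?_)
        have h := congrArg Subtype.val (Subsingleton.elim
          (⟨(⟨q, hq⟩ : Q) • o.out, MulAction.mem_orbit _ _⟩ : MulAction.orbit Q o.out)
          ⟨o.out, MulAction.mem_orbit_self _⟩)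
        exact mul_inv_eq_iff_eq_mul.1 (congrArg Subtype.val h)
      · rw [← QuotientAddGroup.mk_nsmul, hpv _ _ (dvd_pow_self p hk0.ne'), QuotientAddGroup.mk_zero]
    have hzv : z * v ∈ W := by
      rw [← QuotientAddGroup.eq_zero_iff, hz, Finset.sum_mul, ← hsum,
        ← Finset.sum_coe_sort]
      exact map_sum (QuotientAddGroup.mk' W) _ _
    obtain ⟨n, hn⟩ := hzv
    exact ⟨n + 1, by rw [pow_succ, mul_assoc, hn]⟩
  -- `W` is everything
  have htop : ∀ v : (MonoidAlgebra (ZMod p) G), v ∈ W := by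
    letI : MulAction Q ((MonoidAlgebra (ZMod p) G) ⧸ W) :=
      { smul := fun q a => Quotient.liftOn' a (fun v => ((e (q : G) * v : (MonoidAlgebra (ZMod p) G)) : (MonoidAlgebra (ZMod p) G) ⧸ W)) fun a b h => by
          rw [QuotientAddGroup.leftRel_apply] at h
          show ((e (q : G) * a : (MonoidAlgebra (ZMod p) G)) : (MonoidAlgebra (ZMod p) G) ⧸ W) = ((e (q : G) * b : (MonoidAlgebra (ZMod p) G)) : (MonoidAlgebra (ZMod p) G) ⧸ W)
          rw [QuotientAddGroup.eq, ← mul_neg, ← mul_add]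
          exact hWe _ _ h
        one_smul := fun a => by
          induction a using QuotientAddGroup.induction_on with
          | H v =>
            show ((e ((1 : Q) : G) * v : (MonoidAlgebra (ZMod p) G)) : (MonoidAlgebra (ZMod p) G) ⧸ W) = _
            rw [OneMemClass.coe_one, he1, one_mul]
        mul_smul := fun q r a => by
          induction a using QuotientAddGroup.induction_on with
          | H v =>
            show ((e ((q * r : Q) : G) * v : (MonoidAlgebra (ZMod p) G)) : (MonoidAlgebra (ZMod p) G) ⧸ W) =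
              ((e (q : G) * (e (r : G) * v) : (MonoidAlgebra (ZMod p) G)) : (MonoidAlgebra (ZMod p) G) ⧸ W)
            rw [← mul_assoc, hee, Subgroup.coe_mul] }
    haveI : Finite (MonoidAlgebra (ZMod p) G) :=
      Finite.of_injective (fun v : MonoidAlgebra (ZMod p) G => fun x : G => v.coeff x)
        fun a b h => MonoidAlgebra.ext (Finsupp.ext fun x => congrFun h x)
    by_contra hne
    simp only [not_forall] at hne
    obtain ⟨v, hv⟩ := hne
    have hadd : addOrderOf (v : (MonoidAlgebra (ZMod p) G) ⧸ W) = p := by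
      refine addOrderOf_eq_prime ?_ fun h => hv ((QuotientAddGroup.eq_zero_iff v).1 h)
      rw [← QuotientAddGroup.mk_nsmul, hpv p v dvd_rfl, QuotientAddGroup.mk_zero]
    have hdvd : p ∣ Nat.card ((MonoidAlgebra (ZMod p) G) ⧸ W) := by
      have h := addOrderOf_dvd_natCard (v : (MonoidAlgebra (ZMod p) G) ⧸ W)
      rwa [hadd] at h
    have hfix := hQp.card_modEq_card_fixedPoints ((MonoidAlgebra (ZMod p) G) ⧸ W)
    have h0 : (0 : (MonoidAlgebra (ZMod p) G) ⧸ W) ∈ MulAction.fixedPoints Q ((MonoidAlgebra (ZMod p) G) ⧸ W) := fun q => by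
      show ((e (q : G) * 0 : (MonoidAlgebra (ZMod p) G)) : (MonoidAlgebra (ZMod p) G) ⧸ W) = 0
      rw [mul_zero, QuotientAddGroup.mk_zero]
    have hdvd' : p ∣ Nat.card (MulAction.fixedPoints Q ((MonoidAlgebra (ZMod p) G) ⧸ W)) :=
      (Nat.ModEq.dvd_iff hfix dvd_rfl).1 hdvd
    have hpos : 0 < Nat.card (MulAction.fixedPoints Q ((MonoidAlgebra (ZMod p) G) ⧸ W)) :=
      Nat.card_pos_iff.2 ⟨⟨⟨0, h0⟩⟩, inferInstance⟩
    have hgt : 1 < Nat.card (MulAction.fixedPoints Q ((MonoidAlgebra (ZMod p) G) ⧸ W)) :=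
      lt_of_lt_of_le (Fact.out : p.Prime).one_lt (Nat.le_of_dvd hpos hdvd')
    haveI := Finite.one_lt_card_iff_nontrivial.1 hgt
    obtain ⟨⟨a, ha⟩, hane⟩ := exists_ne (⟨0, h0⟩ : MulAction.fixedPoints Q ((MonoidAlgebra (ZMod p) G) ⧸ W))
    induction a using QuotientAddGroup.induction_on with
    | H w =>
      refine hane (Subtype.ext ((QuotientAddGroup.eq_zero_iff w).2 (hkey w fun q hq => ?_)))
      exact QuotientAddGroup.eq_iff_sub_mem.1 (ha ⟨q, hq⟩)
  obtain ⟨n, hn⟩ := htop 1
  rw [mul_one] at hn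
  have hnil : IsNilpotent z := ⟨n, hn⟩
  let f := MonoidAlgebra.mapRingHom G (ZMod.castHom dvd_rfl F)
  convert hnil.map f using 1
  rw [hz, map_sum, finsum_mem_eq_finite_toFinset_sum _ (Set.toFinite _)]
  refine Finset.sum_congr ?_ fun x _ => ?_
  · ext x
    simp only [hK, Set.Finite.mem_toFinset, ConjClasses.mem_carrier_iff_mk_eq,
      ConjClasses.mk_eq_mk_iff_isConj, Finset.mem_filter, Finset.mem_univ, true_and]
    exact isConj_comm
  · simp only [f, e]
    simp [MonoidAlgebra.mapRingHom]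

end Cfsg.Agent.S0905
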