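import Cfsg.Statements.S0910
import Cfsg.Agent.Lib.Block.Defect
import Cfsg.Agent.Lib.Char.Burnside
import Cfsg.Agent.Lib.Char.Linear

set_option autoImplicit false
open Cfsg

namespace Cfsg.Agent.S0910

/-- Let G be a non-abelian finite simple group and p a prime. If an irreducible character χ lies in the principal block (relative to a maximal ideal of the algebraic integers containing p) and χ 1 is a power of p, then χ is the principal character. -/
theorem result {G : Type*} [Group G] [Finite G] (p : ℕ) [Fact p.Prime] (M : Ideal Cfsg.AlgInt) (hM : Cfsg.IsPModular p M) [IsSimpleGroup G] (hna : ∃ a b : G, a * b ≠ b * a) (χ : Cfsg.IrrCharacter G) (hχ : χ ∈ Cfsg.principalBlock M G) (k : ℕ) (hdeg : (χ : G → ℂ) 1 = (p : ℂ) ^ k) : (χ : G → ℂ) = fun _ => 1 := by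
  classical
  haveI := Fintype.ofFinite G
  by_contra hne
  obtain ⟨χ, n, ρ, hρ, rfl⟩ := χ
  haveI : ρ.IsIrreducible := hρ
  have hn : n = p ^ k := by
    have h := ρ.char_one
    rw [Module.finrank_fin_fun] at h
    have hdeg' : ρ.character 1 = (p : ℂ) ^ k := hdeg
    have h' := h.symm.trans hdeg'
    exact_mod_cast h'
  obtain ⟨P⟩ : Nonempty (Sylow p G) := inferInstance
  have hnc : ¬ (Nat.card G).Prime := fun hpr => by
    haveI : Fact (Nat.card G).Prime := ⟨hpr⟩
    obtain ⟨a, b, hab⟩ := hna
    haveI : IsCyclic G := isCyclic_of_prime_card rfl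
    letI := IsCyclic.commGroup (α := G)
    exact hab (mul_comm a b)
  have hscal : Cfsg.Lib.Char.scalarSubgroup ρ = ⊥ := by
    refine (Subgroup.Normal.eq_bot_or_eq_top (Cfsg.Lib.Char.scalarSubgroup_normal ρ)).resolve_right
      fun htop => ?_
    have hker : MonoidHom.ker ρ = ⊥ :=
      (Subgroup.Normal.eq_bot_or_eq_top (inferInstance : (MonoidHom.ker ρ).Normal)).resolve_right
        fun h => by
          have hc : ∀ x, ρ.character x = ρ.character 1 := fun x => by
            simp only [Representation.character, MonoidHom.mem_ker.mp (h ▸ Subgroup.mem_top x), map_one]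
          have h1 := Cfsg.Lib.Char.classInner_irr (Cfsg.Lib.Char.isIrrCharacter_character ρ)
            (Cfsg.Lib.Char.isIrrCharacter_one (G := G))
          rw [if_neg hne, Cfsg.classInner, Finset.sum_congr rfl (g := fun _ => ρ.character 1)
            fun x _ => by rw [hc x]; simp] at h1
          have h0 := (Cfsg.Lib.Char.isIrrCharacter_character ρ).apply_one_ne_zero
          simp [h0, Cfsg.Lib.Char.card_cast_ne_zero] at h1
          exact h0 (by rw [ρ.char_one, Module.finrank_fin_fun, h1, Nat.cast_zero])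
    obtain ⟨a, b, hab⟩ := hna
    apply hab
    apply (MonoidHom.ker_eq_bot_iff (f := ρ)).mp hker
    obtain ⟨c, hc⟩ : a ∈ Cfsg.Lib.Char.scalarSubgroup ρ := htop ▸ Subgroup.mem_top a
    rw [map_mul, map_mul, hc]
    ext x
    simp
  rcases Nat.eq_zero_or_pos k with rfl | hk
  · -- linear characters are scalar everywhere
    obtain ⟨a, b, hab⟩ := hna
    obtain ⟨g, hg⟩ : ∃ g : G, g ≠ 1 := ⟨a, fun h => hab (by rw [h, one_mul, mul_one])⟩
    refine hg (Subgroup.mem_bot.1 (hscal ▸ ?_))
    refine (Cfsg.Lib.Char.norm_character_eq_iff ρ g).mp ?_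
    rcases Cfsg.Lib.Char.character_zero_or_norm ρ g (by
      rw [Module.finrank_fin_fun, hn, pow_zero]; exact Nat.coprime_one_left _) with h | h
    · exfalso
      obtain ⟨f, hf⟩ := Cfsg.Lib.Char.exists_hom_of_degree_one
        (Cfsg.Lib.Char.isIrrCharacter_character ρ).isCharacter
        (by rw [ρ.char_one, Module.finrank_fin_fun, hn, pow_zero, Nat.cast_one])
      rw [congrFun hf g] at h
      exact (f g).ne_zero h
    · exact h
  · have hd : p ∣ Nat.card G := by
      have h := Cfsg.Lib.Block.charDegree_dvd_card ⟨ρ.character, Cfsg.Lib.Char.isIrrCharacter_character ρ⟩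
      rw [Cfsg.Lib.Block.charDegree_eq_of_apply_one (n := n) (show ρ.character 1 = (n : ℂ) by rw [ρ.char_one, Module.finrank_fin_fun]), hn] at h
      exact (dvd_pow_self p hk.ne').trans h
    haveI : Nontrivial (P : Subgroup G) := (Subgroup.nontrivial_iff_ne_bot _).2 fun h => by
      have h2 := P.not_dvd_index
      rw [h, Subgroup.index_bot] at h2
      exact h2 hd
    haveI := P.isPGroup'.center_nontrivial
    obtain ⟨⟨z, hz⟩, hz1⟩ := exists_ne (1 : Subgroup.center (P : Subgroup G))
    have hle : (P : Subgroup G) ≤ Subgroup.centralizer ({(z : G)} : Set G) := fun y hy =>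
      Subgroup.mem_centralizer_iff.2 fun w hw => by
        rw [Set.mem_singleton_iff] at hw
        subst hw
        exact (congrArg Subtype.val (Subgroup.mem_center_iff.1 hz ⟨y, hy⟩)).symm
    have hidx : ¬ p ∣ (Subgroup.centralizer ({(z : G)} : Set G)).index := fun h =>
      P.not_dvd_index (h.trans (Subgroup.index_dvd_of_le hle))
    have hcop : Nat.Coprime (Module.finrank ℂ (Fin n → ℂ)) (Cfsg.Lib.Char.classFinset (z : G)).card := by
      rw [Module.finrank_fin_fun, hn, Cfsg.Lib.Char.card_classFinset]
      exact Nat.Coprime.pow_left k ((Fact.out : p.Prime).coprime_iff_not_dvd.2 hidx)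
    rcases Cfsg.Lib.Char.character_zero_or_norm ρ (z : G) hcop with h | h
    · have hsb := hχ (z : G)
      simp only [Cfsg.centralChar, div_one, mul_one, h, mul_zero, zero_div, sub_zero] at hsb
      exact Cfsg.Lib.Block.natCast_not_ideal hM hidx hsb
    · have h2 : (z : G) ∈ Cfsg.Lib.Char.scalarSubgroup ρ :=
        (Cfsg.Lib.Char.norm_character_eq_iff ρ (z : G)).mp h
      rw [hscal, Subgroup.mem_bot] at h2
      exact hz1 (Subtype.ext (Subtype.ext h2))

end Cfsg.Agent.S0910
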