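import Cfsg.Statements.S0916
import Mathlib.GroupTheory.Nilpotent

set_option autoImplicit false
open Cfsg

namespace Cfsg.Agent.S0916

/-- Let P be a p-subgroup of the finite group G, C its centralizer and N its normalizer. Say that a conjugacy class (of G, or of N) has defect group P when P is a Sylow p-subgroup of the centralizer (in G, respectively in N) of some element of the class. Then: (i) if the class of g in G has defect group P, the elements of that class lying in C form a single N-class, again with defect group P; (ii) every N-class with defect group P arises this way from exactly one G-class with defect group P. -/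
theorem result {G : Type*} [Group G] [Finite G] (p : ℕ) [Fact p.Prime] (P : Subgroup G) (hP : IsPGroup p P) : (∀ g : G, (∃ S : Sylow p (Subgroup.centralizer ({g} : Set G)), (S : Subgroup (Subgroup.centralizer ({g} : Set G))).map (Subgroup.centralizer ({g} : Set G)).subtype = P) → (∃ c : G, IsConj g c ∧ c ∈ Subgroup.centralizer (P : Set G)) ∧ (∀ c₁ c₂ : G, IsConj g c₁ → IsConj g c₂ → c₁ ∈ Subgroup.centralizer (P : Set G) → c₂ ∈ Subgroup.centralizer (P : Set G) → ∃ n ∈ Subgroup.normalizer (P : Set G), n * c₁ * n⁻¹ = c₂)) ∧ (∀ c : G, c ∈ Subgroup.centralizer (P : Set G) → (∃ S : Sylow p (Subgroup.centralizer ({c} : Set G) ⊓ Subgroup.normalizer (P : Set G) : Subgroup G), (S : Subgroup ↥(Subgroup.centralizer ({c} : Set G) ⊓ Subgroup.normalizer (P : Set G))).map (Subgroup.centralizer ({c} : Set G) ⊓ Subgroup.normalizer (P : Set G)).subtype = P) → ∃ S : Sylow p (Subgroup.centralizer ({c} : Set G)), (S : Subgroup (Subgroup.centralizer ({c} : Set G))).map (Subgroup.centralizer ({c} : Set G)).subtype = P) := by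
  refine ⟨fun g hg => ?_, fun c hc hS => ?_⟩
  · set C := Subgroup.centralizer ({g} : Set G) with hCdef
    obtain ⟨S, hS⟩ := hg
    have hgC : g ∈ Subgroup.centralizer (P : Set G) := by
      rw [Subgroup.mem_centralizer_iff]
      intro u hu
      rw [← hS] at hu
      obtain ⟨v, -, rfl⟩ := hu
      exact (Subgroup.mem_centralizer_iff.1 v.2 g rfl).symm
    have key : ∀ c : G, IsConj g c → c ∈ Subgroup.centralizer (P : Set G) →
        ∃ n ∈ Subgroup.normalizer (P : Set G), n * g * n⁻¹ = c := by
      intro c hgc hc
      obtain ⟨a, ha⟩ := isConj_iff.1 hgc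
      have hle : ∀ u ∈ P, a⁻¹ * u * a ∈ Subgroup.centralizer ({g} : Set G) := by
        intro u hu
        rw [Subgroup.mem_centralizer_iff]
        intro y hy
        rw [Set.mem_singleton_iff.1 hy]
        have h1 := Subgroup.mem_centralizer_iff.1 hc u hu
        rw [← ha] at h1
        calc g * (a⁻¹ * u * a) = a⁻¹ * ((a * g * a⁻¹) * u) * a := by group
          _ = a⁻¹ * (u * (a * g * a⁻¹)) * a := by rw [h1]
          _ = a⁻¹ * u * a * g := by group
      set Q : Subgroup C := (P.map (MulAut.conj a⁻¹).toMonoidHom).subgroupOf C with hQdef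
      have hQle : P.map (MulAut.conj a⁻¹).toMonoidHom ≤ C := by
        rintro _ ⟨u, hu, rfl⟩
        simpa using hle u hu
      have hQcard : Nat.card Q = Nat.card (S : Subgroup C) := by
        rw [hQdef, Nat.card_congr (Subgroup.subgroupOfEquivOfLe hQle).toEquiv,
          Subgroup.card_map_of_injective (MulAut.conj a⁻¹).injective, ← hS,
          Subgroup.card_map_of_injective (Subgroup.subtype_injective _)]
      obtain ⟨t, ht⟩ := MulAction.exists_smul_eq C S
        (Sylow.ofCard Q (by rw [hQcard, S.card_eq_multiplicity]))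
      refine ⟨a * (t : G), ?_, ?_⟩
      · have hmap : P.map (MulAut.conj (a * (t : G))).toMonoidHom = P := by
          have h3 := congrArg (fun T : Sylow p C => (T : Subgroup C).map C.subtype) ht
          simp only [Sylow.coe_ofCard] at h3
          rw [hQdef, Subgroup.map_subgroupOf_eq_of_le hQle] at h3
          have h4 : ((t • S : Sylow p C) : Subgroup C).map C.subtype =
              P.map (MulAut.conj (t : G)).toMonoidHom := by
            show ((S : Subgroup C).map (MulAut.conj t).toMonoidHom).map C.subtype = _
            rw [← hS, Subgroup.map_map, Subgroup.map_map]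
            rfl
          rw [h4] at h3
          have h5 := congrArg (Subgroup.map (MulAut.conj a).toMonoidHom) h3
          rw [Subgroup.map_map, Subgroup.map_map] at h5
          have e1 : (MulAut.conj a).toMonoidHom.comp (MulAut.conj (t : G)).toMonoidHom =
              (MulAut.conj (a * (t : G))).toMonoidHom := by
            ext y; simp [mul_assoc]
          have e2 : (MulAut.conj a).toMonoidHom.comp (MulAut.conj a⁻¹).toMonoidHom =
              MonoidHom.id G := by
            ext y; simp [mul_assoc]
          rw [e1, e2, Subgroup.map_id] at h5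
          exact h5
        rw [Subgroup.mem_normalizer_iff]
        intro y
        constructor
        · intro hy
          rw [← hmap]
          exact ⟨y, hy, by simp [mul_assoc]⟩
        · intro hy
          rw [← hmap] at hy
          obtain ⟨y', hy', e⟩ := hy
          rwa [← (MulAut.conj (a * (t : G))).injective (e.trans (by simp [mul_assoc]) :
            MulAut.conj (a * (t : G)) y' = MulAut.conj (a * (t : G)) y)]
      · have h2 := Subgroup.mem_centralizer_iff.1 t.2 g rfl
        calc a * (t : G) * g * (a * (t : G))⁻¹ = a * ((t : G) * g) * (t : G)⁻¹ * a⁻¹ := by group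
          _ = a * (g * (t : G)) * (t : G)⁻¹ * a⁻¹ := by rw [h2]
          _ = a * g * a⁻¹ := by group
          _ = c := ha
    refine ⟨⟨g, IsConj.refl g, hgC⟩, fun c₁ c₂ h1 h2 hc1 hc2 => ?_⟩
    obtain ⟨n₁, hn₁, e₁⟩ := key c₁ h1 hc1
    obtain ⟨n₂, hn₂, e₂⟩ := key c₂ h2 hc2
    exact ⟨n₂ * n₁⁻¹, mul_mem hn₂ (inv_mem hn₁), by rw [← e₁, ← e₂]; group⟩
  · set C := Subgroup.centralizer ({c} : Set G) with hC
    set CN := C ⊓ Subgroup.normalizer (P : Set G) with hCN
    obtain ⟨S, hS⟩ := hS
    have hPC : P ≤ C := by
      rw [← hS]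
      rintro _ ⟨v, -, rfl⟩
      exact v.2.1
    have hPg : IsPGroup p (P.subgroupOf C) :=
      hP.of_equiv (Subgroup.subgroupOfEquivOfLe hPC).symm
    obtain ⟨S', hS'⟩ := hPg.exists_le_sylow
    refine ⟨S', ?_⟩
    set P' := (S' : Subgroup C).map C.subtype with hP'
    have hle : P ≤ P' := fun u hu => ⟨⟨u, hPC hu⟩, hS' hu, rfl⟩
    by_contra hne
    have hlt : P < P' := lt_of_le_of_ne hle (Ne.symm hne)
    have hP'p : IsPGroup p P' := S'.isPGroup'.map _
    haveI := IsPGroup.isNilpotent hP'p
    have hlt2 : P.subgroupOf P' < ⊤ := by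
      rw [lt_top_iff_ne_top, Ne, Subgroup.subgroupOf_eq_top]
      exact fun h => hlt.not_ge h
    have hgrow := Group.normalizerCondition_of_isNilpotent (P.subgroupOf P') hlt2
    obtain ⟨y, hy, hyP⟩ := SetLike.exists_of_lt hgrow
    have hyN : (y : G) ∈ Subgroup.normalizer (P : Set G) := by
      rw [Subgroup.mem_normalizer_iff]
      have hy' := Subgroup.mem_normalizer_iff.1 hy
      intro u
      constructor
      · intro hu
        exact (hy' ⟨u, hle hu⟩).1 hu
      · intro hu
        have hu' : u ∈ P' := by
          have := mul_mem (mul_mem (inv_mem y.2) (hle hu)) y.2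
          simpa [mul_assoc] using this
        exact (hy' ⟨u, hu'⟩).2 hu
    set R := P' ⊓ Subgroup.normalizer (P : Set G) with hR
    have hRle : R ≤ CN := fun u hu => ⟨by obtain ⟨v, -, rfl⟩ := hu.1; exact v.2, hu.2⟩
    have hRp : IsPGroup p (R.subgroupOf CN) :=
      (hP'p.to_le inf_le_left).of_equiv (Subgroup.subgroupOfEquivOfLe hRle).symm
    have hSR : (S : Subgroup CN) ≤ R.subgroupOf CN := by
      intro v hv
      have hvP : (v : G) ∈ P := hS ▸ ⟨v, hv, rfl⟩
      exact ⟨hle hvP, Subgroup.le_normalizer hvP⟩
    have heq := S.is_maximal' hRp hSR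
    apply hyP
    rw [Subgroup.mem_subgroupOf, ← hS]
    refine ⟨⟨(y : G), hRle ⟨y.2, hyN⟩⟩, ?_, rfl⟩
    rw [SetLike.mem_coe, ← heq]
    exact ⟨y.2, hyN⟩

end Cfsg.Agent.S0916
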