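import Cfsg.Statements.S0923
import Cfsg.Agent.Lib.Block.SecondMain

set_option autoImplicit false
open Cfsg

namespace Cfsg.Agent.S0923

/-- Brauer's Second Main Theorem, in terms of ordinary characters. Let x be a p-element of the finite group G with centralizer C, let χ lie in the block B of G and let b be a block of C that does not induce B (relative to a maximal ideal M of the algebraic integers containing p). Form the class function ϑ(c) = χ(x c) on C and its b-part (the sum over ψ ∈ b of the inner product of ϑ with ψ, times ψ). Then the b-part of ϑ vanishes at every p-regular element of C. (Equivalently, the generalized decomposition numbers of χ with respect to b are zero.) -/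
theorem result {G : Type*} [Group G] [Finite G] (p : ℕ) [Fact p.Prime] (M : Ideal Cfsg.AlgInt) (hM : Cfsg.IsPModular p M) (x : G) (hx : ∃ k : ℕ, orderOf x = p ^ k) (B : Set (Cfsg.IrrCharacter G)) (hB : Cfsg.IsPBlock M B) (χ : Cfsg.IrrCharacter G) (hχ : χ ∈ B) (b : Set (Cfsg.IrrCharacter (Subgroup.centralizer ({x} : Set G)))) (hb : Cfsg.IsPBlock M b) (hnot : ¬ Cfsg.IsInducedBlock M (Subgroup.centralizer ({x} : Set G)) b B) (y : Subgroup.centralizer ({x} : Set G)) (hy : ¬ p ∣ orderOf y) : Cfsg.blockPart b (fun c : Subgroup.centralizer ({x} : Set G) => (χ : G → ℂ) (x * (c : G))) y = 0 := by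
  haveI := Fintype.ofFinite G
  haveI := Fintype.ofFinite (Subgroup.centralizer ({x} : Set G))
  obtain ⟨k, hk⟩ := hx
  have hP : IsPGroup p (Subgroup.zpowers x) := IsPGroup.of_card (by rw [Nat.card_zpowers, hk])
  have hcomm : ∀ z ∈ Subgroup.centralizer ({x} : Set G), x * z = z * x := fun z hz =>
    Subgroup.mem_centralizer_iff.1 hz x rfl
  have hxH : x ∈ Subgroup.centralizer ({x} : Set G) := Subgroup.mem_centralizer_iff.2 fun z hz => by
    rw [Set.mem_singleton_iff] at hz; rw [hz]
  have hCH : Subgroup.centralizer (Subgroup.zpowers x : Set G) ≤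
      Subgroup.centralizer ({x} : Set G) :=
    Subgroup.centralizer_le fun z hz => by
      rw [Set.mem_singleton_iff] at hz; rw [hz]; exact Subgroup.mem_zpowers x
  have hHN : Subgroup.centralizer ({x} : Set G) ≤
      Subgroup.normalizer (Subgroup.zpowers x : Set G) := fun z hz =>
    Subgroup.centralizer_le_normalizer _ (Cfsg.Lib.Block.mem_centralizer_of_le
      (Subgroup.zpowers_le.2 (Subgroup.mem_centralizer_iff.2 fun a ha => by
        rw [Set.mem_singleton_iff] at ha; rw [ha]; exact (hcomm z hz).symm)))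
  obtain ⟨B', hind⟩ := Cfsg.Lib.Block.exists_isInducedBlock hM hP (Subgroup.zpowers_le.2 hxH)
    hCH hHN hb
  have hχ' : χ ∉ B' := fun h => hnot (Cfsg.Lib.Block.isPBlock_eq_of_mem hM hB hind.2.1 hχ h ▸ hind)
  have hθ : Cfsg.IsClassFunction (Subgroup.centralizer ({x} : Set G))
      (fun c : Subgroup.centralizer ({x} : Set G) => (χ : G → ℂ) (x * (c : G))) := fun c d => by
    show (χ : G → ℂ) (x * ((d : G) * (c : G) * (d : G)⁻¹)) = (χ : G → ℂ) (x * (c : G))
    rw [← χ.2.isClassFunction (x * (c : G)) (d : G), ← mul_assoc (d : G) x (c : G),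
      ← hcomm d d.2]
    simp only [mul_assoc]
  rw [Cfsg.Lib.Block.blockPart_eq_sum b hθ y]
  have hpp : x = Cfsg.Lib.Block.pPt p (x * (y : G)) :=
    Cfsg.Lib.Block.eq_pPt rfl (hcomm y y.2) hk (by rwa [orderOf_submonoid])
  refine Eq.trans ?_ (Cfsg.Lib.Block.sum_blockCoeff_mul_char_eq_zero hM hind
    (h := ⟨x * (y : G), mul_mem hxH y.2⟩) (le_of_eq (by rw [← hpp])) hχ')
  refine Finset.sum_congr rfl fun c _ => ?_
  rw [Subgroup.coe_mul, ← mul_assoc x, hcomm c c.2, mul_assoc]

end Cfsg.Agent.S0923
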