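import Cfsg.Statements.S0925
import Cfsg.Agent.Lib.Block.Defect

set_option autoImplicit false
open Cfsg

namespace Cfsg.Agent.S0925

/-- (i) Let ϑ be a class function on the finite group G and x a p-element, and suppose ϑ vanishes at every element whose p-part is conjugate to x. Then for every block B (relative to a maximal ideal M of the algebraic integers containing p) the B-part of ϑ — the sum over χ ∈ B of the inner product of ϑ with χ, times χ — also vanishes at every such element. (ii) Block orthogonality, its corollary: if the p-parts of g and h are not conjugate, then the sum over χ ∈ B of χ g * χ h⁻¹ is zero for every block B. -/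
theorem result {G : Type*} [Group G] [Finite G] (p : ℕ) [Fact p.Prime] (M : Ideal Cfsg.AlgInt) (hM : Cfsg.IsPModular p M) : (∀ (ϑ : G → ℂ), Cfsg.IsClassFunction G ϑ → ∀ x : G, (∃ k : ℕ, orderOf x = p ^ k) → (∀ u z : G, Cfsg.IsPPart p u z → IsConj x z → ϑ u = 0) → ∀ B : Set (Cfsg.IrrCharacter G), Cfsg.IsPBlock M B → ∀ u z : G, Cfsg.IsPPart p u z → IsConj x z → Cfsg.blockPart B ϑ u = 0) ∧ (∀ g h x y : G, Cfsg.IsPPart p g x → Cfsg.IsPPart p h y → ¬ IsConj x y → ∀ B : Set (Cfsg.IrrCharacter G), Cfsg.IsPBlock M B → ∑ᶠ χ ∈ B, (χ : G → ℂ) g * (χ : G → ℂ) h⁻¹ = 0) := by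
  haveI := Fintype.ofFinite G
  refine ⟨fun ϑ hϑ x _ hvan B hB u z hu hxz => ?_, fun g h x y hgx hhy hne B hB => ?_⟩
  · classical
    have key : ∀ g : G, ϑ g * (∑ᶠ χ ∈ B, (χ : G → ℂ) u * starRingEnd ℂ ((χ : G → ℂ) g)) = 0 := by
      intro g
      by_cases hc : IsConj (Lib.Block.pPt p u) (Lib.Block.pPt p g)
      · rw [hvan g _ (Lib.Block.isPPart_pPt g)
          (hxz.trans (Lib.Block.eq_pPt_of_isPPart hu ▸ hc)), zero_mul]
      · rw [Lib.Block.sum_block_mul_conj_eq_zero hM (Lib.Block.vInt_indVec hM hB) hc, mul_zero]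
    simp only [blockPart, classInner, finsum_mem_eq_finite_toFinset_sum _ (Set.toFinite B),
      Finset.sum_mul, Finset.mul_sum] at key ⊢
    rw [Finset.sum_comm]
    refine Finset.sum_eq_zero fun g _ => ?_
    rw [← mul_zero (Nat.card G : ℂ)⁻¹, ← key g, Finset.mul_sum]
    exact Finset.sum_congr (by simp) fun χ _ => by ring
  · have e := Lib.Block.sum_block_mul_eq_zero hM (Lib.Block.vInt_indVec hM hB) (g := g) (w := h⁻¹)
    refine e ?_
    rw [Lib.Block.pPt_inv, inv_inv, ← Lib.Block.eq_pPt_of_isPPart hgx,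
      ← Lib.Block.eq_pPt_of_isPPart hhy]
    exact hne

end Cfsg.Agent.S0925
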