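import Cfsg.Statements.S0926
import Cfsg.Agent.Lib.Block.SecondMain

set_option autoImplicit false
open Cfsg

namespace Cfsg.Agent.S0926

/-- Let B be a block of the finite group G with defect group D (relative to a maximal ideal M of the algebraic integers containing p), let χ ∈ B have height zero, and let x be a p-element. Then some conjugate of x lies in D if and only if χ does not vanish on the whole p-section of x (the elements whose p-part is conjugate to x). -/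
theorem result {G : Type*} [Group G] [Finite G] (p : ℕ) [Fact p.Prime] (M : Ideal Cfsg.AlgInt) (hM : Cfsg.IsPModular p M) (B : Set (Cfsg.IrrCharacter G)) (hB : Cfsg.IsPBlock M B) (D : Subgroup G) (hD : Cfsg.IsDefectGroup p M B D) (χ : Cfsg.IrrCharacter G) (hχ : χ ∈ B) (h0 : Cfsg.blockHeight p B (χ : G → ℂ) = 0) (x : G) (hx : ∃ k : ℕ, orderOf x = p ^ k) : (∃ g : G, g * x * g⁻¹ ∈ D) ↔ ∃ u : G, (∃ z : G, Cfsg.IsPPart p u z ∧ IsConj x z) ∧ (χ : G → ℂ) u ≠ 0 := by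
  haveI := Fintype.ofFinite G
  constructor
  · rintro ⟨g, hg⟩
    obtain ⟨y, hy, P, rfl⟩ := Cfsg.Lib.Block.isDefectGroup_iff.1 hD
    obtain ⟨e, he⟩ := hx
    refine ⟨g * x * g⁻¹ * y, ⟨g * x * g⁻¹, ⟨y, rfl,
      (Subgroup.mem_centralizer_iff.1 (Cfsg.Lib.Block.cenSyl_le y P hg) y rfl).symm, ⟨e, ?_⟩,
      Cfsg.Lib.Block.not_dvd_orderOf_defectClass hM hB hy⟩, isConj_iff.2 ⟨g, rfl⟩⟩, fun h => ?_⟩
    · exact ((MulAut.conj g).orderOf_eq x).trans he
    · exact (Cfsg.Lib.Block.charVal_mul_defectClass_not_mem hM hB hy P hg).1 χ hχ h0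
        (h ▸ Cfsg.Lib.Block.memLocalIdeal_zero hM)
  · rintro ⟨u, ⟨z, hz, hxz⟩, hu⟩
    by_contra h
    refine hu (Cfsg.Lib.Block.char_eq_zero_of_pPt_notMem hM χ fun E hE hmem => h ?_)
    rw [← Cfsg.Lib.Block.eq_pPt_of_isPPart hz] at hmem
    rw [← Cfsg.Lib.Block.eq_blockOf_of_mem hM hB hχ] at hE
    obtain ⟨s, hs⟩ := Cfsg.Lib.Block.exists_conj_defectGroup hM hB hE hD
    obtain ⟨c, hc⟩ := isConj_iff.1 hxz
    refine ⟨s * c, hs ▸ ⟨z, hmem, ?_⟩⟩
    simp [← hc, mul_assoc]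

end Cfsg.Agent.S0926
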