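import Cfsg.Statements.S0943
import Cfsg.Agent.Lib.Char.Central

set_option autoImplicit false
open Cfsg

namespace Cfsg.Agent.S0943

/-- Let χ be an irreducible character of the finite group G and u, v ∈ G. If χ (x * y) = χ (u * v) whenever x is conjugate to u and y is conjugate to v, then χ u * χ v = χ 1 * χ (u * v). (Multiply the class sums of u and v and apply the central character of χ.) -/
theorem result {G : Type*} [Group G] [Finite G] (χ : Cfsg.IrrCharacter G) (u v : G) (hc : ∀ x y : G, IsConj u x → IsConj v y → (χ : G → ℂ) (x * y) = (χ : G → ℂ) (u * v)) : (χ : G → ℂ) u * (χ : G → ℂ) v = (χ : G → ℂ) 1 * (χ : G → ℂ) (u * v) := by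
  classical
  haveI := Fintype.ofFinite G
  obtain ⟨n, ρ, hirr, hρ⟩ := χ.2
  haveI := hirr
  have hu := Cfsg.Lib.Char.sum_class_smul ρ u
  have hv := Cfsg.Lib.Char.sum_class_smul ρ v
  set a : ℂ := ((Cfsg.Lib.Char.classFinset u).card : ℂ)
  set b : ℂ := ((Cfsg.Lib.Char.classFinset v).card : ℂ)
  set d : ℂ := (Module.finrank ℂ (Fin n → ℂ) : ℂ) with hd
  have hone : (χ : G → ℂ) 1 = d := by rw [← hρ]; exact ρ.char_one
  have key := congrArg (LinearMap.trace ℂ (Fin n → ℂ)) (congrArg₂ (· * ·) hu hv)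
  rw [Finset.sum_mul_sum] at key
  simp only [← map_mul, map_sum] at key
  rw [Finset.sum_congr rfl (g := fun _ => b * (χ : G → ℂ) (u * v)) fun x hx => by
    rw [Finset.sum_congr rfl (g := fun _ => (χ : G → ℂ) (u * v)) fun y hy => by
      rw [← hc x y (Cfsg.Lib.Char.mem_classFinset.1 hx) (Cfsg.Lib.Char.mem_classFinset.1 hy),
        ← hρ]
      rfl, Finset.sum_const, nsmul_eq_mul], Finset.sum_const, nsmul_eq_mul] at key
  rw [smul_mul_smul_comm, map_smul, ← Module.End.one_eq_id, one_mul, LinearMap.trace_one,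
    smul_eq_mul, hρ, ← hd] at key
  have ha : a ≠ 0 := by
    simp only [a, Nat.cast_ne_zero]
    exact Finset.card_ne_zero_of_mem (Cfsg.Lib.Char.mem_classFinset.2 (IsConj.refl u))
  have hb : b ≠ 0 := by
    simp only [b, Nat.cast_ne_zero]
    exact Finset.card_ne_zero_of_mem (Cfsg.Lib.Char.mem_classFinset.2 (IsConj.refl v))
  have hd0 : d ≠ 0 := hone ▸ χ.2.apply_one_ne_zero
  field_simp at key
  rw [hone]
  refine mul_left_cancel₀ ha ?_
  simp only [a] at key ⊢
  linear_combination -key

end Cfsg.Agent.S0943
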