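import Cfsg.Statements.S0944
import Cfsg.Agent.Lib.Block.Basic

set_option autoImplicit false
open Cfsg

namespace Cfsg.Agent.S0944

/-- Let χ be an irreducible character of the finite group G and u an involution. Then χ u is a rational integer n with n ≡ χ 1 (mod 2). -/
theorem result {G : Type*} [Group G] [Finite G] (χ : Cfsg.IrrCharacter G) (u : G) (hu : orderOf u = 2) : ∃ n : ℤ, (χ : G → ℂ) u = (n : ℂ) ∧ (2 : ℤ) ∣ (Cfsg.charDegree (χ : G → ℂ) : ℤ) - n := by
  obtain ⟨n, ρ, hρ⟩ := χ.2.isCharacter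
  have hone : (χ : G → ℂ) 1 = (n : ℂ) := by
    rw [← hρ]
    simp
  rw [Cfsg.Lib.Block.charDegree_eq_of_apply_one hone]
  set f : Module.End ℂ (Fin n → ℂ) := (1 / 2 : ℂ) • (1 + ρ u) with hf
  have hu2 : ρ u * ρ u = 1 := by
    rw [← map_mul, ← pow_two, ← hu, pow_orderOf_eq_one, map_one]
  have hidem : IsIdempotentElem f := by
    show f * f = f
    rw [hf, smul_mul_smul_comm, mul_add, add_mul, add_mul, hu2, one_mul, mul_one, one_mul,
      show (1 + ρ u + (ρ u + 1) : Module.End ℂ (Fin n → ℂ)) = (2 : ℂ) • (1 + ρ u) by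
        rw [two_smul]; abel, smul_smul]
    norm_num
  have htr := (LinearMap.IsIdempotentElem.isProj_range f hidem).trace
  rw [hf, map_smul, map_add, LinearMap.trace_one, smul_eq_mul] at htr
  rw [← hf] at htr
  refine ⟨2 * (Module.finrank ℂ (LinearMap.range f) : ℤ) - n, ?_, ⟨(n : ℤ) -
    (Module.finrank ℂ (LinearMap.range f) : ℤ), by ring⟩⟩
  have hfin : (Module.finrank ℂ (Fin n → ℂ) : ℂ) = n := by simp
  rw [hfin] at htr
  have hχu : LinearMap.trace ℂ (Fin n → ℂ) (ρ u) = (χ : G → ℂ) u := by rw [← hρ]; rfl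
  rw [hχu] at htr
  push_cast
  linear_combination 2 * htr

end Cfsg.Agent.S0944
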