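import Cfsg.Statements.S0945
import Cfsg.Agent.Lib.Block.PPart
import Mathlib.GroupTheory.Sylow
import Mathlib.Data.ZMod.Basic
import Mathlib.Data.Finite.Perm
import Mathlib.GroupTheory.Index
import Mathlib.GroupTheory.SpecificGroups.Cyclic

set_option autoImplicit false
open Cfsg

namespace Cfsg.Agent.S0945

/-- Let P be a Sylow 2-subgroup of the finite group G isomorphic to Z/2^m × Z/2^m with m ≥ 1. Then (i) the index of C_G(P) in N_G(P) is 1 or 3, and (ii) if it is not 1, then for every z ≠ 1 in P, C_G(z) ∩ N_G(P) = C_G(P). -/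
theorem result {G : Type*} [Group G] [Finite G] (P : Sylow 2 G) (m : ℕ) (hm : 1 ≤ m) (e : (P : Subgroup G) ≃* Multiplicative (ZMod (2 ^ m) × ZMod (2 ^ m))) : ((Subgroup.centralizer (P : Set G)).relIndex (Subgroup.normalizer (P : Set G)) = 1 ∨ (Subgroup.centralizer (P : Set G)).relIndex (Subgroup.normalizer (P : Set G)) = 3) ∧ ((Subgroup.centralizer (P : Set G)).relIndex (Subgroup.normalizer (P : Set G)) ≠ 1 → ∀ z ∈ (P : Subgroup G), z ≠ 1 → Subgroup.centralizer ({z} : Set G) ⊓ Subgroup.normalizer (P : Set G) = Subgroup.centralizer (P : Set G)) := by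
  classical
  haveI := Fintype.ofFinite G
  set N := Subgroup.normalizer (P : Set G) with hN
  set C := Subgroup.centralizer (P : Set G) with hC
  have hcommP : ∀ a ∈ (P : Subgroup G), ∀ b ∈ (P : Subgroup G), a * b = b * a := fun a ha b hb => by
    have h := congrArg (fun z => ((e.symm z : (P : Subgroup G)) : G))
      (mul_comm (e ⟨a, ha⟩) (e ⟨b, hb⟩))
    simpa using h
  have hPC : (P : Subgroup G) ≤ C := fun a ha => Subgroup.mem_centralizer_iff.2 fun b hb =>
    hcommP b hb a ha
  -- the involutions of `P`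
  set I : Set G := {a | a ∈ (P : Subgroup G) ∧ a * a = 1 ∧ a ≠ 1} with hI
  have hIcard : Nat.card I ≤ 3 := by
    haveI : NeZero (2 ^ m) := ⟨by positivity⟩
    have h2 : (Finset.univ.filter fun c : ZMod (2 ^ m) => (2 : ℕ) • c = 0).card ≤ 2 :=
      IsAddCyclic.card_nsmul_eq_zero_le two_pos
    set T := ((Finset.univ.filter fun c : ZMod (2 ^ m) => (2 : ℕ) • c = 0) ×ˢ
      (Finset.univ.filter fun c : ZMod (2 ^ m) => (2 : ℕ) • c = 0)).erase 0 with hT
    have hTcard : T.card ≤ 3 := by
      rw [hT, Finset.card_erase_of_mem (by simp), Finset.card_product]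
      have := Nat.mul_le_mul h2 h2
      omega
    refine le_trans ?_ hTcard
    rw [← Nat.card_eq_finsetCard T]
    refine Nat.card_le_card_of_injective (fun a => ⟨(e ⟨a.1, a.2.1⟩).toAdd, ?_⟩) fun a b h => ?_
    · have h2 : e ⟨a.1, a.2.1⟩ * e ⟨a.1, a.2.1⟩ = 1 := by
        rw [← map_mul, show (⟨a.1, a.2.1⟩ : (P : Subgroup G)) * ⟨a.1, a.2.1⟩ = 1 from
          Subtype.ext a.2.2.1, map_one]
      have h3 : (e ⟨a.1, a.2.1⟩).toAdd ≠ 0 := fun h => a.2.2.2 (congrArg Subtype.val
        (e.injective ((toAdd_eq_zero.1 h).trans (map_one e).symm)))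
      have h4 := congrArg Multiplicative.toAdd h2
      rw [toAdd_mul, toAdd_one, Prod.ext_iff] at h4
      rw [hT, Finset.mem_erase, Finset.mem_product, Finset.mem_filter, Finset.mem_filter,
        two_nsmul, two_nsmul]
      exact ⟨h3, ⟨Finset.mem_univ _, h4.1⟩, Finset.mem_univ _, h4.2⟩
    · have h5 := e.injective (Multiplicative.toAdd.injective (congrArg Subtype.val h))
      exact Subtype.ext (congrArg (fun w : (P : Subgroup G) => (w : G)) h5)
  have hNI : ∀ n ∈ N, ∀ a ∈ I, n * a * n⁻¹ ∈ I := by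
    rintro n hn a ⟨haP, ha2, ha1⟩
    refine ⟨(Subgroup.mem_normalizer_iff.1 hn a).1 haP, ?_, fun h => ha1 ?_⟩
    · rw [show n * a * n⁻¹ * (n * a * n⁻¹) = n * (a * a) * n⁻¹ by group, ha2]
      group
    · rwa [mul_inv_eq_one, mul_eq_left] at h
  -- elements of odd order fixing the involutions centralize `P`
  have hodd : ∀ r ∈ N, ¬ 2 ∣ orderOf r → (∀ a ∈ I, r * a * r⁻¹ = a) → r ∈ C := by
    intro r hr hro hfix
    have key : ∀ j : ℕ, ∀ z ∈ (P : Subgroup G), z ^ 2 ^ j = 1 → r * z * r⁻¹ = z := by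
      intro j
      induction j with
      | zero => intro z _ hz; rw [pow_zero, pow_one] at hz; rw [hz]; group
      | succ j ih =>
        intro z hzP hz
        have hzc : r * z * r⁻¹ ∈ (P : Subgroup G) := (Subgroup.mem_normalizer_iff.1 hr z).1 hzP
        set w := r * z * r⁻¹ * z⁻¹ with hw
        have hwP : w ∈ (P : Subgroup G) := mul_mem hzc (inv_mem hzP)
        have hsq := ih (z * z) (mul_mem hzP hzP) (by
          rw [← pow_two, ← pow_mul, ← pow_succ']; exact hz)
        have hw2 : w * w = 1 := by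
          have h1 : z⁻¹ * (r * z * r⁻¹) = r * z * r⁻¹ * z⁻¹ := hcommP _ (inv_mem hzP) _ hzc
          calc w * w = r * z * r⁻¹ * (z⁻¹ * (r * z * r⁻¹)) * z⁻¹ := by rw [hw]; group
            _ = r * z * r⁻¹ * (r * z * r⁻¹ * z⁻¹) * z⁻¹ := by rw [h1]
            _ = r * (z * z) * r⁻¹ * (z * z)⁻¹ := by group
            _ = 1 := by rw [hsq]; group
        have hwfix : r * w * r⁻¹ = w := by
          by_cases hw1 : w = 1
          · rw [hw1]; group
          · exact hfix w ⟨hwP, hw2, hw1⟩
        clear_value w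
        have hiter : ∀ i : ℕ, r ^ i * z * (r ^ i)⁻¹ = w ^ i * z := by
          intro i
          induction i with
          | zero => simp
          | succ i ih2 =>
            rw [pow_succ' r i, show r * r ^ i * z * (r * r ^ i)⁻¹ =
              r * (r ^ i * z * (r ^ i)⁻¹) * r⁻¹ by group, ih2,
              show r * (w ^ i * z) * r⁻¹ = r * w ^ i * r⁻¹ * (r * z * r⁻¹) by group,
              ← MulAut.conj_apply, map_pow, MulAut.conj_apply, hwfix,
              show r * z * r⁻¹ = w * z by rw [hw]; group, pow_succ, mul_assoc]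
        have h3 : w ^ orderOf r = 1 := by
          have := hiter (orderOf r)
          rw [pow_orderOf_eq_one, one_mul, inv_one, mul_one] at this
          exact right_eq_mul.1 this
        have hw1 : w = 1 := by
          obtain ⟨q, hq⟩ := Nat.odd_iff.2 (show orderOf r % 2 = 1 by omega)
          rwa [hq, pow_succ, pow_mul, pow_two, hw2, one_pow, one_mul] at h3
        exact mul_inv_eq_one.1 (hw ▸ hw1)
    rw [hC, Subgroup.mem_centralizer_iff]
    intro z hz
    obtain ⟨j, hj⟩ := P.isPGroup' ⟨z, hz⟩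
    exact (mul_inv_eq_iff_eq_mul.1 (key j z hz (congrArg Subtype.val hj))).symm
  -- `2`-elements of the normalizer lie in `P`
  have h2part : ∀ u ∈ N, (∃ k, orderOf u = 2 ^ k) → u ∈ (P : Subgroup G) := by
    rintro u hu ⟨k, hk⟩
    have hup : IsPGroup 2 (Subgroup.zpowers u) :=
      IsPGroup.of_card (n := k) (by rw [Nat.card_zpowers, hk])
    have hle : Subgroup.zpowers u ≤ N := Subgroup.zpowers_le.2 hu
    have h := hup.to_sup_of_normal_right' P.isPGroup' hle
    have h2 := P.is_maximal' h le_sup_right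
    exact h2 ▸ Subgroup.mem_sup_left (Subgroup.mem_zpowers u)
  have hfixC : ∀ n ∈ N, (∀ a ∈ I, n * a * n⁻¹ = a) → n ∈ C := by
    intro n hn hfix
    have hu := h2part _ (Subgroup.zpowers_le.2 hn (Cfsg.Lib.Block.pPt_mem_zpowers (p := 2) n))
      (Cfsg.Lib.Block.exists_orderOf_pPt n)
    rw [← Cfsg.Lib.Block.pPt_mul_pReg (p := 2) n]
    refine mul_mem (hPC hu) (hodd _
      (Subgroup.zpowers_le.2 hn (Cfsg.Lib.Block.pReg_mem_zpowers (p := 2) n))
      (Cfsg.Lib.Block.not_dvd_orderOf_pReg n) fun a ha => ?_)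
    obtain ⟨i, hi⟩ := Subgroup.mem_zpowers_iff.1 (Cfsg.Lib.Block.pReg_mem_zpowers (p := 2) n)
    have hc : Commute n a := mul_inv_eq_iff_eq_mul.1 (hfix a ha)
    rw [← hi, (hc.zpow_left i).eq, mul_inv_cancel_right]
  letI : MulAction N I :=
    { smul := fun n a => ⟨(n : G) * a * (n : G)⁻¹, hNI n n.2 a a.2⟩
      one_smul := fun a => Subtype.ext (show ((1 : N) : G) * a * ((1 : N) : G)⁻¹ = a by simp)
      mul_smul := fun u v a => Subtype.ext
        (show ((u * v : N) : G) * a * ((u * v : N) : G)⁻¹ =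
          (u : G) * ((v : G) * a * (v : G)⁻¹) * (u : G)⁻¹ by simp [mul_assoc]) }
  have hker : C.subgroupOf N = (MulAction.toPermHom N I).ker := by
    ext n
    rw [Subgroup.mem_subgroupOf, MonoidHom.mem_ker]
    constructor
    · intro hn
      refine Equiv.ext fun a => Subtype.ext ?_
      show (n : G) * a * (n : G)⁻¹ = a
      rw [← Subgroup.mem_centralizer_iff.1 hn _ a.2.1, mul_inv_cancel_right]
    · intro hn
      refine hfixC n n.2 fun a ha => ?_
      exact congrArg Subtype.val (congrArg (fun f => f ⟨a, ha⟩) hn)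
  refine ⟨?_, fun _ z hz hz1 => ?_⟩
  · have h1 : C.relIndex N ∣ 6 := by
      rw [Subgroup.relIndex, hker, Subgroup.index_ker]
      refine (Subgroup.card_subgroup_dvd_card _).trans ?_
      rw [Nat.card_perm]
      exact Nat.factorial_dvd_factorial hIcard
    have h2 : ¬ 2 ∣ C.relIndex N := by
      intro h
      have hd : C.relIndex N ∣ (P : Subgroup G).index :=
        (Subgroup.relIndex_dvd_of_le_left N hPC).trans (Subgroup.relIndex_dvd_index_of_le
          Subgroup.le_normalizer)
      exact P.not_dvd_index (h.trans hd)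
    have h3 : C.relIndex N ≤ 6 := Nat.le_of_dvd (by norm_num) h1
    generalize C.relIndex N = k at h1 h2 h3
    interval_cases k <;> omega
  · ext n
    rw [Subgroup.mem_inf]
    constructor
    swap
    · intro hn
      refine ⟨Subgroup.mem_centralizer_iff.2 fun y hy => ?_,
        Subgroup.centralizer_le_normalizer _ hn⟩
      rw [Set.mem_singleton_iff.1 hy]
      exact Subgroup.mem_centralizer_iff.1 hn z hz
    rintro ⟨hnz, hnN⟩
    -- an involution fixed by `n`
    obtain ⟨j, hj⟩ := IsPGroup.iff_orderOf.1 P.isPGroup' (⟨z, hz⟩ : (P : Subgroup G))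
    rw [Subgroup.orderOf_mk] at hj
    have hj0 : j ≠ 0 := by
      rintro rfl
      rw [pow_zero, orderOf_eq_one_iff] at hj
      exact hz1 hj
    set t := z ^ (orderOf z / 2) with ht
    have hord : orderOf t = 2 := by
      rw [ht]
      have h2 : 2 ∣ orderOf z := hj ▸ dvd_pow_self 2 hj0
      rw [orderOf_pow, Nat.gcd_eq_right (Nat.div_dvd_of_dvd h2),
        Nat.div_div_self h2 (orderOf_pos z).ne']
    have htI : t ∈ I := ⟨pow_mem hz _, by rw [← pow_two, ← hord, pow_orderOf_eq_one],
      fun h => by rw [h, orderOf_one] at hord; omega⟩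
    have hu := h2part _ (Subgroup.zpowers_le.2 hnN (Cfsg.Lib.Block.pPt_mem_zpowers (p := 2) n))
      (Cfsg.Lib.Block.exists_orderOf_pPt n)
    rw [← Cfsg.Lib.Block.pPt_mul_pReg (p := 2) n]
    set r := Cfsg.Lib.Block.pReg 2 n with hr
    have hrN : r ∈ N := Subgroup.zpowers_le.2 hnN (Cfsg.Lib.Block.pReg_mem_zpowers (p := 2) n)
    have hro : ¬ 2 ∣ orderOf r := Cfsg.Lib.Block.not_dvd_orderOf_pReg n
    have hrz : Commute r z := by
      have h := Subgroup.zpowers_le.2 hnz (Cfsg.Lib.Block.pReg_mem_zpowers (p := 2) n)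
      exact (Subgroup.mem_centralizer_iff.1 h z rfl).symm
    have hrt : r * t * r⁻¹ = t := by rw [(hrz.pow_right _).eq, mul_inv_cancel_right]
    refine mul_mem (hPC hu) (hodd r hrN hro fun a ha => ?_)
    by_cases hat : r * a * r⁻¹ = a
    · exact hat
    exfalso
    -- `a`, `r a r⁻¹`, `t` exhaust the involutions
    set b := r * a * r⁻¹ with hb
    have hbI : b ∈ I := hNI r hrN a ha
    have hcI : r * b * r⁻¹ ∈ I := hNI r hrN b hbI
    have hinjc : ∀ {u v : G}, r * u * r⁻¹ = r * v * r⁻¹ → u = v := fun h =>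
      mul_left_cancel (mul_right_cancel h)
    have hat' : a ≠ t := fun h => hat (by rw [hb, h, hrt])
    have hbt : b ≠ t := fun h => hat' (hinjc (h.trans hrt.symm))
    have hall : ∀ c ∈ I, c = a ∨ c = b ∨ c = t := by
      intro c hc
      by_contra hcon
      simp only [not_or] at hcon
      have h4 : ({a, b, t, c} : Finset G) ⊆ I.toFinset := by
        intro y hy
        simp only [Finset.mem_insert, Finset.mem_singleton] at hy
        rw [Set.mem_toFinset]
        rcases hy with rfl | rfl | rfl | rfl <;> assumption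
      have h5 := Finset.card_le_card h4
      rw [Finset.card_insert_of_notMem (by simp [Ne.symm hat, hat', Ne.symm hcon.1]),
        Finset.card_insert_of_notMem (by simp [hbt, Ne.symm hcon.2.1]),
        Finset.card_insert_of_notMem (by simp [Ne.symm hcon.2.2]),
        Finset.card_singleton, Set.toFinset_card, ← Nat.card_eq_fintype_card] at h5
      omega
    have hback : r * b * r⁻¹ = a := by
      rcases hall _ hcI with h | h | h
      · exact h
      · exact absurd (hinjc h).symm (Ne.symm hat)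
      · exact absurd (hinjc (h.trans hrt.symm)) hbt
    have h2fix : Commute (r * r) a := by
      show r * r * a = a * (r * r)
      calc r * r * a = r * (r * a * r⁻¹) * r⁻¹ * (r * r) := by group
        _ = a * (r * r) := by rw [← hb, hback]
    obtain ⟨q, hq⟩ := Nat.odd_iff.2 (show orderOf r % 2 = 1 by omega)
    have hpow : r = (r * r) ^ (q + 1) := by
      have := pow_orderOf_eq_one r
      rw [hq] at this
      rw [← pow_two, ← pow_mul, show 2 * (q + 1) = 2 * q + 1 + 1 by ring, pow_succ, this, one_mul]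
    have hca : Commute r a := hpow ▸ h2fix.pow_left (q + 1)
    exact hat (by rw [hb, hca.eq, mul_inv_cancel_right])

end Cfsg.Agent.S0945
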