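import Cfsg.Statements.S0946
import Mathlib
-- import your own Cfsg.Agent.* helpers here

set_option autoImplicit false
open Cfsg

namespace Cfsg.Agent.S0946

open Subgroup

theorem centralizes_of_fix_involutions {G : Type*} [Group G] (A : Subgroup G) [IsMulCommutative A]
    {g : G} (hn : ∀ x ∈ A, g * x * g⁻¹ ∈ A) (hfix : ∀ x ∈ A, x * x = 1 → g * x * g⁻¹ = x)
    {n : ℕ} (hodd : Odd n) (hgn : ∀ x ∈ A, g ^ n * x * (g ^ n)⁻¹ = x) :
    ∀ k : ℕ, ∀ x ∈ A, x ^ 2 ^ k = 1 → g * x * g⁻¹ = x := by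
  intro k
  induction k with
  | zero =>
    intro x _ h
    rw [pow_zero, pow_one] at h
    rw [h]; simp
  | succ k ih =>
    intro x hx h
    have hsq : g * (x * x) * g⁻¹ = x * x :=
      ih _ (mul_mem hx hx) (by rw [← pow_two, ← pow_mul, ← pow_succ']; exact h)
    set c := g * x * g⁻¹ * x⁻¹ with hc
    have hcA : c ∈ A := mul_mem (hn x hx) (inv_mem hx)
    have hcc : c * c = 1 := by
      have hcm : g * x * g⁻¹ * x⁻¹ = x⁻¹ * (g * x * g⁻¹) := setLike_mul_comm (hn x hx) (inv_mem hx)
      have : g * x * g⁻¹ * (g * x * g⁻¹) = x * x := by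
        rw [← hsq]; group
      calc c * c = (x⁻¹ * (g * x * g⁻¹)) * ((g * x * g⁻¹) * x⁻¹) := by rw [hc]; nth_rw 1 [hcm]
        _ = x⁻¹ * ((g * x * g⁻¹) * (g * x * g⁻¹)) * x⁻¹ := by group
        _ = 1 := by rw [this]; group
    have hgc : g * c * g⁻¹ = c := hfix c hcA hcc
    have hpow : ∀ i : ℕ, g ^ i * x * (g ^ i)⁻¹ = c ^ i * x := by
      intro i
      induction i with
      | zero => simp
      | succ i ih' =>
        have e : g * c ^ i * g⁻¹ = c ^ i := by rw [← conj_pow, hgc]
        calc g ^ (i + 1) * x * (g ^ (i + 1))⁻¹ = g * (g ^ i * x * (g ^ i)⁻¹) * g⁻¹ := by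
              rw [pow_succ']; group
          _ = (g * c ^ i * g⁻¹) * (g * x * g⁻¹) := by rw [ih']; group
          _ = c ^ i * (c * x) := by rw [e]; congr 1; rw [hc, inv_mul_cancel_right]
          _ = _ := by rw [← mul_assoc, pow_succ]
    have h1 := hpow n
    rw [hgn x hx] at h1
    obtain ⟨l, hl⟩ := hodd
    rw [hl, pow_succ, pow_mul, pow_two, hcc, one_pow, one_mul] at h1
    have : c = 1 := mul_eq_right.1 h1.symm
    exact mul_inv_eq_one.1 this


/-- Let P be a Sylow 2-subgroup of the finite group G isomorphic to Z/2^m × Z/2^m with m ≥ 1. Then either P has a normal complement in G, or all involutions of G are conjugate. -/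
theorem result {G : Type*} [Group G] [Finite G] (P : Sylow 2 G) (m : ℕ) (hm : 1 ≤ m) (e : (P : Subgroup G) ≃* Multiplicative (ZMod (2 ^ m) × ZMod (2 ^ m))) : (∃ N : Subgroup G, N.Normal ∧ Subgroup.IsComplement' N (P : Subgroup G)) ∨ ∀ s t : G, orderOf s = 2 → orderOf t = 2 → IsConj s t := by
  classical
  have hA : IsMulCommutative (P : Subgroup G) :=
    ⟨⟨fun a b => e.injective (by rw [map_mul, map_mul, mul_comm])⟩⟩
  -- the three involutions of `P`
  have hinv : ∀ x y z w : G, x ∈ P → y ∈ P → z ∈ P → w ∈ P → x * x = 1 → y * y = 1 → z * z = 1 →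
      w * w = 1 → x ≠ 1 → y ≠ 1 → z ≠ 1 → w ≠ 1 → x ≠ y → x ≠ z → y ≠ z → w = x ∨ w = y ∨ w = z := by
    intro x y z w hx hy hz hw hx2 hy2 hz2 hw2 hx1 hy1 hz1 hw1 hxy hxz hyz
    have two : ∀ a : ZMod (2 ^ m), a + a = 0 → a = 0 ∨ a = ((2 ^ (m - 1) : ℕ) : ZMod (2 ^ m)) := by
      intro a ha
      have hd : 2 ^ m ∣ a.val + a.val := by
        rw [← ZMod.natCast_eq_zero_iff, Nat.cast_add, ZMod.natCast_zmod_val]; exact ha
      have hlt := ZMod.val_lt a
      have hm2 : 2 ^ m = 2 ^ (m - 1) * 2 := by rw [← pow_succ, Nat.sub_add_cancel hm]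
      obtain ⟨c, hc⟩ := hd
      have hc2 : c < 2 := by
        by_contra hh
        push Not at hh
        have := Nat.mul_le_mul_left (2 ^ m) hh
        omega
      rcases Nat.lt_succ_iff.1 hc2 |>.eq_or_lt with h1 | h1
      · right
        subst h1
        rw [← ZMod.natCast_zmod_val a]
        congr 1
        omega
      · left
        obtain rfl : c = 0 := by omega
        rw [mul_zero] at hc
        rw [← ZMod.natCast_zmod_val a, show a.val = 0 by omega, Nat.cast_zero]
    set h := ((2 ^ (m - 1) : ℕ) : ZMod (2 ^ m))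
    let f : ∀ u : G, u ∈ P → ZMod (2 ^ m) × ZMod (2 ^ m) := fun u hu => Multiplicative.toAdd (e ⟨u, hu⟩)
    have finj : ∀ u v : G, ∀ hu : u ∈ P, ∀ hv : v ∈ P, f u hu = f v hv → u = v := fun u v hu hv huv =>
      congrArg Subtype.val (e.injective (Multiplicative.toAdd.injective huv))
    have fmem : ∀ u : G, ∀ hu : u ∈ P, u * u = 1 → u ≠ 1 →
        f u hu = (h, 0) ∨ f u hu = (0, h) ∨ f u hu = (h, h) := by
      intro u hu hu2 hu1
      have h0 : f u hu + f u hu = 0 := by
        show Multiplicative.toAdd (e ⟨u, hu⟩) + Multiplicative.toAdd (e ⟨u, hu⟩) = 0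
        rw [← toAdd_mul, ← map_mul, show (⟨u, hu⟩ : (P : Subgroup G)) * ⟨u, hu⟩ = 1 from Subtype.ext hu2,
          map_one, toAdd_one]
      have hne : f u hu ≠ 0 := fun h' => hu1 (by
        have : e ⟨u, hu⟩ = e 1 := by rw [map_one]; exact Multiplicative.toAdd.injective h'
        exact congrArg Subtype.val (e.injective this))
      rcases two _ (congrArg Prod.fst h0) with a | a <;> rcases two _ (congrArg Prod.snd h0) with b | b
      · exact absurd (Prod.ext a b) hne
      · exact Or.inr (Or.inl (Prod.ext a b))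
      · exact Or.inl (Prod.ext a b)
      · exact Or.inr (Or.inr (Prod.ext a b))
    by_contra hno
    push Not at hno
    obtain ⟨n1, n2, n3⟩ := hno
    have i1 : f x hx ≠ f y hy := fun h' => hxy (finj _ _ _ _ h')
    have i2 : f x hx ≠ f z hz := fun h' => hxz (finj _ _ _ _ h')
    have i3 : f y hy ≠ f z hz := fun h' => hyz (finj _ _ _ _ h')
    have i4 : f w hw ≠ f x hx := fun h' => n1 (finj _ _ _ _ h')
    have i5 : f w hw ≠ f y hy := fun h' => n2 (finj _ _ _ _ h')
    have i6 : f w hw ≠ f z hz := fun h' => n3 (finj _ _ _ _ h')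
    rcases fmem x hx hx2 hx1 with a | a | a <;> rcases fmem y hy hy2 hy1 with b | b | b <;>
      rcases fmem z hz hz2 hz1 with c | c | c <;> rcases fmem w hw hw2 hw1 with d | d | d <;>
      simp only [a, b, c, d, ne_eq, not_true_eq_false] at i1 i2 i3 i4 i5 i6
  set N := Subgroup.normalizer ((P : Subgroup G) : Set G) with hN
  have hPN : (P : Subgroup G) ≤ N := Subgroup.le_normalizer
  set n := (P : Subgroup G).relIndex N with hn
  have hodd : Odd n := Nat.not_even_iff_odd.1 fun h => P.not_dvd_index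
    ((even_iff_two_dvd.1 h).trans ⟨N.index, (Subgroup.relIndex_mul_index hPN).symm⟩)
  have hact : ∀ g ∈ N, ∀ x ∈ P, g * x * g⁻¹ ∈ P := fun g hg x hx => (Subgroup.mem_normalizer_iff.1 hg x).1 hx
  have hgn : ∀ g ∈ N, ∀ x ∈ P, g ^ n * x * (g ^ n)⁻¹ = x := by
    intro g hg x hx
    haveI : ((P : Subgroup G).subgroupOf N).Normal := Subgroup.normal_in_normalizer
    have := Subgroup.pow_index_mem ((P : Subgroup G).subgroupOf N) ⟨g, hg⟩
    rw [Subgroup.mem_subgroupOf] at this
    have hp : g ^ n ∈ (P : Subgroup G) := this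
    rw [setLike_mul_comm hp hx, mul_inv_cancel_right]
  by_cases hfix : ∀ g ∈ N, ∀ x ∈ P, x * x = 1 → g * x * g⁻¹ = x
  · left
    have hnc : N ≤ Subgroup.centralizer ((P : Subgroup G) : Set G) := by
      intro g hg
      rw [Subgroup.mem_centralizer_iff]
      intro x hx
      obtain ⟨k, hk⟩ := P.isPGroup' ⟨x, hx⟩
      have h1 := centralizes_of_fix_involutions (P : Subgroup G) (hact g hg) (hfix g hg) hodd (hgn g hg) k x hx
        (congrArg Subtype.val hk)
      exact (mul_inv_eq_iff_eq_mul.1 h1).symm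
    exact ⟨_, (MonoidHom.transferSylow P hnc).normal_ker, MonoidHom.ker_transferSylow_isComplement' P hnc⟩
  · right
    push Not at hfix
    obtain ⟨g, hg, x, hx, hx2, hgx⟩ := hfix
    have hx1 : x ≠ 1 := fun h => hgx (by rw [h]; simp)
    set y := g * x * g⁻¹ with hy
    have hyP := hact g hg x hx
    have hconj2 : ∀ u : G, u * u = 1 → (g * u * g⁻¹) * (g * u * g⁻¹) = 1 := fun u hu => by
      calc (g * u * g⁻¹) * (g * u * g⁻¹) = g * (u * u) * g⁻¹ := by group
        _ = 1 := by rw [hu]; group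
    have hy2 := hconj2 x hx2
    have hy1 : y ≠ 1 := fun h => hx1 (conj_eq_one_iff.1 h)
    set z := g * y * g⁻¹ with hz
    have hzP := hact g hg y hyP
    have hz2 := hconj2 y hy2
    have hz1 : z ≠ 1 := fun h => hy1 (conj_eq_one_iff.1 h)
    have hyz : y ≠ z := fun h => hgx (by
      have h' := congrArg (fun v => g⁻¹ * v * g) h
      simp only [hy, hz] at h'
      have e1 : g⁻¹ * (g * x * g⁻¹) * g = x := by group
      have e2 : g⁻¹ * (g * (g * x * g⁻¹) * g⁻¹) * g = g * x * g⁻¹ := by group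
      rw [e1, e2] at h'
      exact h'.symm)
    have hxz : x ≠ z := by
      intro h
      apply hgx
      obtain ⟨l, hl⟩ := hodd
      have hev : ∀ i : ℕ, (g * g) ^ i * x * ((g * g) ^ i)⁻¹ = x := by
        intro i
        induction i with
        | zero => simp
        | succ i ih =>
          calc (g * g) ^ (i + 1) * x * ((g * g) ^ (i + 1))⁻¹
              = (g * g) * ((g * g) ^ i * x * ((g * g) ^ i)⁻¹) * (g * g)⁻¹ := by
                rw [pow_succ']; simp only [mul_inv_rev, mul_assoc]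
            _ = g * (g * x * g⁻¹) * g⁻¹ := by rw [ih]; group
            _ = x := h.symm
      have := hgn g hg x hx
      rw [hl, pow_succ', pow_mul, pow_two] at this
      calc y = g * ((g * g) ^ l * x * ((g * g) ^ l)⁻¹) * g⁻¹ := by rw [hev]
        _ = g * (g * g) ^ l * x * (g * (g * g) ^ l)⁻¹ := by group
        _ = x := this
    intro s t hs ht
    have key : ∀ u : G, orderOf u = 2 → IsConj x u := by
      intro u hu
      obtain ⟨Q, hQ⟩ := ((IsPGroup.of_card (n := 1) (by rw [Nat.card_zpowers, hu, pow_one])) :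
        IsPGroup 2 (Subgroup.zpowers u)).exists_le_sylow
      obtain ⟨d, hd⟩ := MulAction.exists_smul_eq G Q P
      have hu' : d * u * d⁻¹ ∈ P := by
        rw [← hd]
        exact ⟨u, hQ (Subgroup.mem_zpowers u), rfl⟩
      have hu2 : u * u = 1 := by rw [← pow_two, ← hu, pow_orderOf_eq_one]
      have hu1 : u ≠ 1 := fun h => by rw [h, orderOf_one] at hu; omega
      have hcases := hinv x y z _ hx hyP hzP hu' hx2 hy2 hz2
        (by calc d * u * d⁻¹ * (d * u * d⁻¹) = d * (u * u) * d⁻¹ := by group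
              _ = 1 := by rw [hu2]; group)
        hx1 hy1 hz1 (fun h => hu1 (conj_eq_one_iff.1 h)) (Ne.symm hgx) hxz hyz
      have hxu : IsConj x (d * u * d⁻¹) := by
        rcases hcases with h | h | h
        · rw [h]
        · rw [h]; exact isConj_iff.2 ⟨g, rfl⟩
        · rw [h]; exact isConj_iff.2 ⟨g * g, by rw [hz, hy]; group⟩
      exact hxu.trans (isConj_iff.2 ⟨d⁻¹, by group⟩)
    exact (key s hs).symm.trans (key t ht)

end Cfsg.Agent.S0946
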