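import Cfsg.Statements.S0947
import Cfsg.Agent.Lib.Block.SectionCount

set_option autoImplicit false
open Cfsg

namespace Cfsg.Agent.S0947

/-- Let z ≠ 1 be a p-element of the finite group G with centralizer H, and fix a maximal ideal M of the algebraic integers containing p. (i) For every y ∈ H of order prime to p, the sum over ζ in the principal block of G of |ζ (z * y)|² equals the sum over χ in the principal block of H of |χ y|². (ii) If moreover H has a normal p-complement (its largest normal subgroup of order prime to p has p-power index), that common value is the largest power of p dividing the order of H. -/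
theorem result {G : Type*} [Group G] [Finite G] (p : ℕ) [Fact p.Prime] (M : Ideal Cfsg.AlgInt) (hM : Cfsg.IsPModular p M) (z : G) (hz : ∃ k : ℕ, orderOf z = p ^ k) (hz1 : z ≠ 1) (y : Subgroup.centralizer ({z} : Set G)) (hy : ¬ p ∣ orderOf y) : (∑ᶠ ζ ∈ Cfsg.principalBlock M G, ‖(ζ : G → ℂ) (z * (y : G))‖ ^ 2 = ∑ᶠ χ ∈ Cfsg.principalBlock M (Subgroup.centralizer ({z} : Set G)), ‖(χ : Subgroup.centralizer ({z} : Set G) → ℂ) y‖ ^ 2) ∧ ((∃ k : ℕ, (Cfsg.pPrimeCore p (Subgroup.centralizer ({z} : Set G))).index = p ^ k) → ∑ᶠ ζ ∈ Cfsg.principalBlock M G, ‖(ζ : G → ℂ) (z * (y : G))‖ ^ 2 = ((p ^ (Nat.card (Subgroup.centralizer ({z} : Set G))).factorization p : ℕ) : ℝ)) := by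
  classical
  haveI := Fintype.ofFinite G
  haveI := Fintype.ofFinite (Subgroup.centralizer ({z} : Set G))
  have hHu : ∀ h : (Subgroup.centralizer ({z} : Set G)), Commute z (h : G) := fun h => Subgroup.mem_centralizer_iff.1 h.2 z rfl
  have hB := Cfsg.Lib.Block.isPBlock_principal (M := M) (G := G)
  have hy' : Cfsg.IsPRegular p y := hy
  have h := Cfsg.Lib.Block.sum_block_mul_conj hM hz hHu le_rfl hB hy' hy'
  rw [Cfsg.Lib.Block.indSet_principal hM hz hHu le_rfl, Cfsg.Lib.Block.regKer] at h
  simp only [Complex.mul_conj'] at h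
  have h1 : ∑ᶠ ζ ∈ Cfsg.principalBlock M G, ‖(ζ : G → ℂ) (z * (y : G))‖ ^ 2 =
      ∑ᶠ χ ∈ Cfsg.principalBlock M (Subgroup.centralizer ({z} : Set G)), ‖(χ : (Subgroup.centralizer ({z} : Set G)) → ℂ) y‖ ^ 2 := by
    simp only [finsum_mem_eq_toFinset_sum]
    exact_mod_cast h
  refine ⟨h1, fun hidx => ?_⟩
  rw [h1]
  have hndvd := Cfsg.Lib.Core.pPrimeCore_not_dvd p (Subgroup.centralizer ({z} : Set G))
  set N := Cfsg.pPrimeCore p (Subgroup.centralizer ({z} : Set G)) with hN
  have hpb := Cfsg.Lib.Block.principalBlock_eq_of_complement hM hndvd hidx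
  have hyN : y ∈ N := (Cfsg.Lib.Block.mem_iff_isPRegular hM hndvd hidx y).2 hy'
  haveI := Fintype.ofFinite N
  have hindex : N.index = p ^ (Nat.card (Subgroup.centralizer ({z} : Set G))).factorization p := by
    obtain ⟨k, hk⟩ := hidx
    rw [hk, ← N.card_mul_index, hk, Nat.factorization_mul Nat.card_pos.ne' (pow_ne_zero _ hM.1.ne_zero),
      Finsupp.add_apply, hM.1.factorization_pow, Finsupp.single_eq_same,
      Nat.factorization_eq_zero_of_not_dvd hndvd, zero_add]
  apply Complex.ofReal_injective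
  rw [← hindex, finsum_mem_eq_toFinset_sum, Complex.ofReal_sum]
  apply mul_left_cancel₀ (Cfsg.Lib.Char.card_cast_ne_zero (G := N))
  have htot : ∑ χ : Cfsg.IrrCharacter (Subgroup.centralizer ({z} : Set G)), (χ : (Subgroup.centralizer ({z} : Set G)) → ℂ) 1 * ∑ n : N, (χ : (Subgroup.centralizer ({z} : Set G)) → ℂ) n =
      (Nat.card (Subgroup.centralizer ({z} : Set G)) : ℂ) := by
    simp only [Finset.mul_sum]
    rw [Finset.sum_comm, Finset.sum_eq_single 1]
    · rw [Subgroup.coe_one, Cfsg.Lib.Char.sum_degree_mul, if_pos rfl]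
    · intro n _ hn
      rw [Cfsg.Lib.Char.sum_degree_mul, if_neg fun hc => hn (Subtype.ext (hc.trans (OneMemClass.coe_one N).symm))]
    · exact fun h' => absurd (Finset.mem_univ _) h'
  rw [Complex.ofReal_natCast, ← Nat.cast_mul, Subgroup.card_mul_index, ← htot,
    ← Finset.sum_filter_add_sum_filter_not Finset.univ (fun χ => χ ∈ Cfsg.principalBlock M (Subgroup.centralizer ({z} : Set G))),
    Finset.sum_eq_zero (s := Finset.univ.filter fun χ => ¬ χ ∈ Cfsg.principalBlock M (Subgroup.centralizer ({z} : Set G))), add_zero,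
    Finset.mul_sum]
  · refine Finset.sum_congr (by ext; simp) fun χ hχ => ?_
    have hmem := (Finset.mem_filter.1 hχ).2
    rw [hpb] at hmem
    rw [hmem y hyN, Finset.sum_congr rfl (fun (n : N) _ => hmem n n.2), Finset.sum_const,
      Finset.card_univ, nsmul_eq_mul, Nat.card_eq_fintype_card, Complex.ofReal_pow, ← Complex.mul_conj',
      Cfsg.Lib.Block.conj_apply_one]
    ring
  · intro χ hχ
    by_contra hne
    have hsum : ∑ᶠ q : N, (χ : (Subgroup.centralizer ({z} : Set G)) → ℂ) q ≠ 0 := by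
      rw [finsum_eq_sum_of_fintype]
      exact right_ne_zero_of_mul hne
    obtain ⟨ψ, hψ, hψne⟩ :=
      Cfsg.Lib.Block.exists_trivial_on_of_classInner_ne (Q := N) χ.2.isClassFunction hsum
    have : χ = ψ := Subtype.ext (by
      by_contra hcon
      exact hψne (Cfsg.Lib.Char.classInner_irr_ne χ.2 ψ.2 hcon))
    exact (Finset.mem_filter.1 hχ).2 (by rw [hpb, this]; exact hψ)

end Cfsg.Agent.S0947
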