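import Cfsg.Statements.S0950
import Cfsg.Agent.Lib.Fusion.Alperin
import Cfsg.Agent.Lib.Invol.Quaternion
import Cfsg.Agent.Lib.Fusion.Basic
-- import your own Cfsg.Agent.* helpers here

set_option autoImplicit false
open Cfsg

namespace Cfsg.Agent.S0950

set_option linter.style.haveILetI false

open Subgroup Cfsg.Lib

universe v

/-- Facts about the commuting relation on the elements of order four. -/
theorem quaternion_four : ∀ x y w : QuaternionGroup 2, x * x ≠ 1 → y * y ≠ 1 → w * w ≠ 1 →
    x * y ≠ y * x → x * w ≠ w * x → y * w ≠ w * y → ∀ v : QuaternionGroup 2, v * v ≠ 1 →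
    x * v = v * x ∨ y * v = v * y ∨ w * v = v * w := by decide

/-- Commuting elements of order four generate the same subgroup. -/
theorem quaternion_commute : ∀ x y : QuaternionGroup 2, x * x ≠ 1 → y * y ≠ 1 → x * y = y * x →
    y = x ∨ y = x⁻¹ := by decide

theorem quaternion_exponent : ∀ x : QuaternionGroup 2, x * x = 1 →
    x = 1 ∨ x = QuaternionGroup.a 2 := by decide

theorem quaternion_trans : ∀ u x y : QuaternionGroup 2, u * u ≠ 1 → x * x ≠ 1 → y * y ≠ 1 →
    u * x = x * u → u * y = y * u → x * y = y * x := by decide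

theorem quaternion_invol : ∀ u w : QuaternionGroup 2, u * u ≠ 1 → w * w = 1 →
    w = 1 ∨ w = u * u := by decide

section Helpers

variable {G : Type v} [Group G]

theorem fix_of_sq {g x : G} (hg : (orderOf g).Coprime 2) (h : g * g * x * (g * g)⁻¹ = x) :
    g * x * g⁻¹ = x := by
  obtain ⟨m, hm⟩ := Nat.coprime_two_right.1 hg
  have hc : Commute (g * g) x := mul_inv_eq_iff_eq_mul.1 h
  have he : (g * g) ^ (m + 1) = g := by
    rw [← pow_two, ← pow_mul, show 2 * (m + 1) = 2 * m + 1 + 1 by omega, ← hm, pow_succ,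
      pow_orderOf_eq_one, one_mul]
  have h2 := hc.pow_left (m + 1)
  rw [he] at h2
  exact mul_inv_eq_iff_eq_mul.2 h2.eq

theorem fix_of_inverted_or_fixed {g x : G} (hg : (orderOf g).Coprime 2)
    (h : g * x * g⁻¹ = x ∨ g * x * g⁻¹ = x⁻¹) : g * x * g⁻¹ = x := by
  rcases h with h | h
  · exact h
  · refine fix_of_sq hg ?_
    calc g * g * x * (g * g)⁻¹ = g * (g * x * g⁻¹) * g⁻¹ := by group
      _ = g * x⁻¹ * g⁻¹ := by rw [h]
      _ = (g * x * g⁻¹)⁻¹ := by group
      _ = x := by rw [h, inv_inv]

variable {S : Subgroup G} (e : S ≃* QuaternionGroup 2)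
include e

theorem sq_ne {x : G} (hx : x ∈ S) (hxx : x * x ≠ 1) : e ⟨x, hx⟩ * e ⟨x, hx⟩ ≠ 1 := fun h => by
  rw [← map_mul, map_eq_one_iff e e.injective] at h
  exact hxx (congrArg Subtype.val h)

theorem commute_map {x y : G} (hx : x ∈ S) (hy : y ∈ S) :
    Commute x y ↔ e ⟨x, hx⟩ * e ⟨y, hy⟩ = e ⟨y, hy⟩ * e ⟨x, hx⟩ := by
  rw [← map_mul, ← map_mul, e.injective.eq_iff, Subtype.ext_iff]
  rfl

theorem invert_or_fix {x y : G} (hx : x ∈ S) (hxx : x * x ≠ 1) (hy : y ∈ S) (hyy : y * y ≠ 1)
    (hc : Commute x y) : y = x ∨ y = x⁻¹ := by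
  rcases quaternion_commute _ _ (sq_ne e hx hxx) (sq_ne e hy hyy) ((commute_map e hx hy).1 hc) with
    h | h
  · exact Or.inl (congrArg Subtype.val (e.injective h))
  · rw [← map_inv] at h
    exact Or.inr (congrArg Subtype.val (e.injective h))

theorem commute_trans {u x y : G} (hu : u ∈ S) (huu : u * u ≠ 1) (hx : x ∈ S) (hxx : x * x ≠ 1)
    (hy : y ∈ S) (hyy : y * y ≠ 1) (h1 : Commute u x) (h2 : Commute u y) : Commute x y :=
  (commute_map e hx hy).2 (quaternion_trans _ _ _ (sq_ne e hu huu) (sq_ne e hx hxx)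
    (sq_ne e hy hyy) ((commute_map e hu hx).1 h1) ((commute_map e hu hy).1 h2))

theorem involution_cases {u w : G} (hu : u ∈ S) (huu : u * u ≠ 1) (hw : w ∈ S) (hww : w * w = 1) :
    w = 1 ∨ w = u * u := by
  rcases quaternion_invol _ (e ⟨w, hw⟩) (sq_ne e hu huu) (by
    rw [← map_mul, map_eq_one_iff e e.injective]; exact Subtype.ext hww) with h | h
  · rw [map_eq_one_iff e e.injective] at h
    exact Or.inl (congrArg Subtype.val h)
  · rw [← map_mul] at h
    exact Or.inr (congrArg Subtype.val (e.injective h))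

theorem four_cases {x y w v : G} (hx : x ∈ S) (hxx : x * x ≠ 1) (hy : y ∈ S) (hyy : y * y ≠ 1)
    (hw : w ∈ S) (hww : w * w ≠ 1) (h1 : ¬ Commute x y) (h2 : ¬ Commute x w) (h3 : ¬ Commute y w)
    (hv : v ∈ S) (hvv : v * v ≠ 1) : Commute x v ∨ Commute y v ∨ Commute w v := by
  rcases quaternion_four _ _ _ (sq_ne e hx hxx) (sq_ne e hy hyy) (sq_ne e hw hww)
    (fun h => h1 ((commute_map e hx hy).2 h)) (fun h => h2 ((commute_map e hx hw).2 h))
    (fun h => h3 ((commute_map e hy hw).2 h)) _ (sq_ne e hv hvv) with h | h | h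
  · exact Or.inl ((commute_map e hx hv).2 h)
  · exact Or.inr (Or.inl ((commute_map e hy hv).2 h))
  · exact Or.inr (Or.inr ((commute_map e hw hv).2 h))

end Helpers


/-- Let S be a Sylow 2-subgroup of the finite group G that is isomorphic to the quaternion group of order 8, and suppose S has no normal complement in G. Then any two subgroups of order 4 of S are conjugate by an element of the normalizer of S. -/
theorem result {G : Type*} [Group G] [Finite G] (S : Sylow 2 G) (e : (S : Subgroup G) ≃* QuaternionGroup 2) (hnc : ∀ N : Subgroup G, N.Normal → ¬ Subgroup.IsComplement' N (S : Subgroup G)) (A B : Subgroup G) (hA : A ≤ S) (hB : B ≤ S) (hA4 : Nat.card A = 4) (hB4 : Nat.card B = 4) : ∃ n ∈ Subgroup.normalizer ((S : Subgroup G) : Set G), B = A.map (MulAut.conj n).toMonoidHom := by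
  haveI : Fact (Nat.Prime 2) := ⟨Nat.prime_two⟩
  -- every subgroup of order four is generated by an element of order four
  have hgen : ∀ Q : Subgroup G, Q ≤ S → 2 < Nat.card Q → ∃ x ∈ Q, x ∈ (S : Subgroup G) ∧ x * x ≠ 1 := by
    intro Q hQ hQ2
    by_contra hall
    push Not at hall
    have h2 : ∀ q : Q, e ⟨q, hQ q.2⟩ = 1 ∨ e ⟨q, hQ q.2⟩ = QuaternionGroup.a 2 := fun q =>
      quaternion_exponent _ (by
        rw [← map_mul, map_eq_one_iff e e.injective]
        exact Subtype.ext (hall q q.2 (hQ q.2)))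
    haveI := Fintype.ofFinite Q
    have h3 : Nat.card Q ≤ 2 := by
      rw [Nat.card_eq_fintype_card]
      refine (Finset.card_le_card_of_injOn (fun q : Q => e ⟨q, hQ q.2⟩) (t :=
        ({1, QuaternionGroup.a 2} : Finset (QuaternionGroup 2))) (fun q _ => by simpa using h2 q)
        fun q _ q' _ h => Subtype.ext (show (q : G) = q' from Subtype.mk.inj (e.injective h))).trans Finset.card_le_two
    omega
  have hzp : ∀ Q : Subgroup G, Nat.card Q = 4 → ∀ x ∈ Q, x * x ≠ 1 → Q = zpowers x := by
    intro Q h4 x hx hxx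
    refine (eq_of_le_of_card_ge (zpowers_le.2 hx) ?_).symm
    rw [h4, Nat.card_zpowers]
    have hd : orderOf x ∣ 2 ^ 2 := by
      rw [← Subgroup.orderOf_mk x hx]
      exact (_root_.orderOf_dvd_natCard _).trans (h4 ▸ (by norm_num))
    obtain ⟨j, hj, hje⟩ := (Nat.dvd_prime_pow Nat.prime_two).1 hd
    interval_cases j
    · exact absurd (by rw [orderOf_eq_one_iff.1 (hje.trans (pow_zero 2)), one_mul]) hxx
    · exact absurd (by rw [← pow_two, ← pow_one 2, ← hje, pow_orderOf_eq_one]) hxx
    · rw [hje]; norm_num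
  -- an element of odd order moving the Sylow subgroup
  obtain ⟨g, hg, hco, hgc⟩ : ∃ g ∈ Subgroup.normalizer ((S : Subgroup G) : Set G),
      (orderOf g).Coprime 2 ∧ g ∉ Subgroup.centralizer ((S : Subgroup G) : Set G) := by
    have h1 : ¬ HasNormalPComplement 2 G := fun h => by
      obtain ⟨N, hN, hNc⟩ := (Fusion.hasNormalPComplement_iff_exists S).1 h
      exact hnc N hN hNc
    rw [Fusion.frobenius S] at h1
    push Not at h1
    obtain ⟨Q, hQS, g, hg, hco, hgc⟩ := h1
    by_cases hQ : Q = (S : Subgroup G)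
    · subst hQ; exact ⟨g, hg, hco, hgc⟩
    -- a proper subgroup is cyclic, so an element of odd order centralises it
    exfalso
    refine hgc ?_
    rw [mem_centralizer_iff]
    have hQ4 : Nat.card Q ∣ 4 ∧ Nat.card Q ≠ 0 := by
      refine ⟨?_, Nat.card_pos.ne'⟩
      have h8 : Nat.card (S : Subgroup G) = 8 := by
        rw [Nat.card_congr e.toEquiv, Nat.card_eq_fintype_card, QuaternionGroup.card]
      have hd := card_dvd_of_le hQS
      rw [h8] at hd
      obtain ⟨j, hj, hje⟩ := (Nat.dvd_prime_pow Nat.prime_two).1 (show Nat.card Q ∣ 2 ^ 3 by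
        norm_num; exact hd)
      have : j ≠ 3 := fun h => hQ (eq_of_le_of_card_ge hQS (by rw [hje, h, h8]; norm_num))
      rw [hje, show (4 : ℕ) = 2 ^ 2 by norm_num]
      exact pow_dvd_pow 2 (by omega)
    intro w hw
    have hcong : g * w * g⁻¹ = w := by
      have hwg : g * w * g⁻¹ ∈ Q := (mem_normalizer_iff.1 hg w).1 hw
      by_cases hww : w * w = 1
      · rcases quaternion_exponent (e ⟨w, hQS hw⟩) (by
          rw [← map_mul, map_eq_one_iff e e.injective]; exact Subtype.ext hww) with h | h
        · rw [map_eq_one_iff e e.injective] at h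
          rw [show w = 1 from congrArg Subtype.val h]; group
        · rcases quaternion_exponent (e ⟨g * w * g⁻¹, hQS hwg⟩) (by
            rw [← map_mul, map_eq_one_iff e e.injective]
            exact Subtype.ext (show g * w * g⁻¹ * (g * w * g⁻¹) = 1 by
              rw [conj_mul, hww]; group)) with h' | h'
          · rw [map_eq_one_iff e e.injective] at h'
            have := congrArg Subtype.val h'
            simp only [Subgroup.coe_one, mul_inv_eq_one, mul_eq_left] at this
            rw [this]; group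
          · exact congrArg Subtype.val (e.injective (h'.trans h.symm))
      have h4 : Nat.card Q = 4 := by
        by_contra h4
        have hle := Nat.le_of_dvd (by norm_num) hQ4.1
        obtain ⟨j, hj, hje⟩ := (Nat.dvd_prime_pow Nat.prime_two).1 (show Nat.card Q ∣ 2 ^ 2 by
          norm_num; exact hQ4.1)
        refine hww ?_
        rw [← pow_two]
        have hd : orderOf w ∣ 2 := by
          rw [← Subgroup.orderOf_mk w hw]
          refine (_root_.orderOf_dvd_natCard _).trans ?_
          interval_cases j <;> simp_all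
        exact orderOf_dvd_iff_pow_eq_one.1 hd
      have hzw := hzp Q h4 w hw hww
      exact fix_of_inverted_or_fixed hco (invert_or_fix e (hQS hw) hww (hQS hwg) (fun h => hww (by
        rwa [conj_mul, mul_inv_eq_one, mul_eq_left] at h)) (by
        obtain ⟨i, hi⟩ := mem_zpowers_iff.1 (hzw ▸ hwg)
        rw [← hi]; exact (Commute.self_zpow w i)))
    calc w * g = g * w * g⁻¹ * g := by rw [hcong]
      _ = g * w := by group
  -- the orbit of a subgroup of order four
  have hmem : ∀ x ∈ (S : Subgroup G), g * x * g⁻¹ ∈ (S : Subgroup G) := fun x hx =>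
    (mem_normalizer_iff.1 hg x).1 hx
  obtain ⟨x, hxA, hxS, hxx⟩ := hgen A hA (by omega)
  obtain ⟨v, hvB, hvS, hvv⟩ := hgen B hB (by omega)
  set x₁ := g * x * g⁻¹ with hx₁
  set x₂ := g * x₁ * g⁻¹ with hx₂
  have hx₁S := hmem x hxS
  have hx₂S := hmem x₁ hx₁S
  have hsq : ∀ u : G, u * u ≠ 1 → g * u * g⁻¹ * (g * u * g⁻¹) ≠ 1 := fun u hu h => hu (by
    rwa [conj_mul, mul_inv_eq_one, mul_eq_left] at h)
  -- no fixed point
  have hmove : ∀ u ∈ (S : Subgroup G), u * u ≠ 1 → ¬ Commute u (g * u * g⁻¹) := by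
    intro u hu huu hcomm
    have hfix : g * u * g⁻¹ = u :=
      fix_of_inverted_or_fixed hco (invert_or_fix e hu huu (hmem u hu) (hsq u huu) hcomm)
    refine hgc (mem_centralizer_iff.2 fun w hw => ?_)
    -- all elements of order four are fixed
    have key : ∀ t ∈ (S : Subgroup G), t * t ≠ 1 → g * t * g⁻¹ = t := by
      intro t ht htt
      by_contra hne
      have h1 : ¬ Commute t (g * t * g⁻¹) := fun hc' =>
        hne (fix_of_inverted_or_fixed hco (invert_or_fix e ht htt (hmem t ht) (hsq t htt) hc'))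
      have h2 : ¬ Commute (g * t * g⁻¹) (g * (g * t * g⁻¹) * g⁻¹) := fun hc' => h1 (by
        have := hc'.map (MulAut.conj g⁻¹).toMonoidHom
        simpa [mul_assoc] using this)
      have h3 : ¬ Commute t (g * (g * t * g⁻¹) * g⁻¹) := by
        intro hc'
        have hco2 : (orderOf (g * g)).Coprime 2 :=
          Nat.Coprime.coprime_dvd_left (by rw [← pow_two]; exact orderOf_pow_dvd 2) hco
        have := fix_of_inverted_or_fixed hco2 (invert_or_fix e ht htt (by
          simpa [mul_assoc] using hmem _ (hmem t ht)) (by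
          simpa [mul_assoc] using hsq _ (hsq t htt))
          (show Commute t (g * g * t * (g * g)⁻¹) by simpa [mul_assoc] using hc'))
        refine hne (fix_of_inverted_or_fixed hco (Or.inl ?_))
        exact fix_of_sq hco this
      have hu3 : ∀ t' ∈ (S : Subgroup G), t' * t' ≠ 1 → Commute t' u →
          Commute (g * t' * g⁻¹) u := by
        intro t' _ _ hc'
        have := hc'.map (MulAut.conj g).toMonoidHom
        simp only [MulEquiv.coe_toMonoidHom, MulAut.conj_apply, hfix] at this
        exact this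
      rcases four_cases e ht htt (hmem t ht) (hsq t htt) (hmem _ (hmem t ht))
        (hsq _ (hsq t htt)) h1 h3 h2 hu huu with hc' | hc' | hc'
      · exact h1 (commute_trans e hu huu ht htt (hmem t ht) (hsq t htt) hc'.symm
          (hu3 t ht htt hc').symm)
      · exact h2 (commute_trans e hu huu (hmem t ht) (hsq t htt) (hmem _ (hmem t ht))
          (hsq _ (hsq t htt)) hc'.symm (hu3 _ (hmem t ht) (hsq t htt) hc').symm)
      · have h4 := hu3 _ (hmem _ (hmem t ht)) (hsq _ (hsq t htt)) hc'
        refine h2 ?_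
        have h5 : Commute (g * (g * (g * t * g⁻¹) * g⁻¹) * g⁻¹) (g * (g * t * g⁻¹) * g⁻¹) :=
          (commute_trans e hu huu (hmem _ (hmem t ht)) (hsq _ (hsq t htt))
            (hmem _ (hmem _ (hmem t ht))) (hsq _ (hsq _ (hsq t htt))) hc'.symm h4.symm).symm
        have := h5.map (MulAut.conj g⁻¹).toMonoidHom
        simpa [mul_assoc] using this.symm
    have hwc : g * w * g⁻¹ = w := by
      by_cases hww : w * w = 1
      · obtain rfl | hw2 : w = 1 ∨ w = u * u := involution_cases e hu huu hw hww
        · group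
        · rw [hw2, ← conj_mul, hfix]
      · exact key w hw hww
    calc w * g = g * w * g⁻¹ * g := by rw [hwc]
      _ = g * w := by group
  have h01 := hmove x hxS hxx
  have h12 := hmove x₁ hx₁S (hsq x hxx)
  have h02 : ¬ Commute x x₂ := by
    intro hc'
    have h3 := (hc'.map (MulAut.conj g).toMonoidHom)
    simp only [MulEquiv.coe_toMonoidHom, MulAut.conj_apply] at h3
    have hco2 : (orderOf (g * g)).Coprime 2 :=
      Nat.Coprime.coprime_dvd_left (by rw [← pow_two]; exact orderOf_pow_dvd 2) hco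
    have h4 := fix_of_inverted_or_fixed hco2 (invert_or_fix e hxS hxx (by
      simpa [hx₂, hx₁, mul_assoc] using hx₂S) (by
      simpa [hx₂, hx₁, mul_assoc] using hsq _ (hsq x hxx))
      (show Commute x (g * g * x * (g * g)⁻¹) by simpa [hx₂, hx₁, mul_assoc] using hc'))
    exact h01 (by rw [fix_of_sq hco h4])
  have hB' : ∀ n : G, n ∈ normalizer ((S : Subgroup G) : Set G) → Commute (n * x * n⁻¹) v →
      B = A.map (MulAut.conj n).toMonoidHom := by
    intro n hn hc'
    rw [hzp A hA4 x hxA hxx, MonoidHom.map_zpowers, MulEquiv.coe_toMonoidHom, MulAut.conj_apply,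
      hzp B hB4 v hvB hvv]
    rcases invert_or_fix e (((mem_normalizer_iff.1 hn x).1 hxS)) (fun h => hxx (by
      rwa [conj_mul, mul_inv_eq_one, mul_eq_left] at h)) hvS hvv hc' with h | h
    · rw [h]
    · rw [h, zpowers_inv]
  rcases four_cases e hxS hxx hx₁S (hsq x hxx) hx₂S (hsq _ (hsq x hxx)) h01 h02 h12 hvS hvv with
    hc' | hc' | hc'
  · exact ⟨1, one_mem _, hB' 1 (one_mem _) (by simpa using hc')⟩
  · exact ⟨g, hg, hB' g hg hc'⟩
  · exact ⟨g * g, mul_mem hg hg, hB' _ (mul_mem hg hg) (by
      simpa [hx₂, hx₁, mul_assoc] using hc')⟩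

end Cfsg.Agent.S0950
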