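import Cfsg.Statements.S0951
import Cfsg.Agent.Lib.ZStar.EightBlock
import Cfsg.Agent.Lib.ZStar.EightMain
import Cfsg.Agent.Lib.Block.PrincipalNilpotent
-- import your own Cfsg.Agent.* helpers here

set_option autoImplicit false
open Cfsg

namespace Cfsg.Agent.S0951

set_option linter.style.haveILetI false
set_option maxHeartbeats 1000000

open Subgroup Cfsg.Lib

theorem quaternion_invert : ∀ q : QuaternionGroup 2, ∃ r : QuaternionGroup 2, r * q * r⁻¹ = q⁻¹ := by
  decide

theorem quaternion_center : ∀ q : QuaternionGroup 2, (∀ r, q * r = r * q) → q * q = 1 := by decide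

universe v

/-- Elements of order four are inverted. -/
theorem exists_invert {G : Type v} [Group G] [Finite G] (S : Sylow 2 G)
    (e : (S : Subgroup G) ≃* QuaternionGroup 2) {y : G} (hy : orderOf y = 4) :
    ∃ k : G, k * y * k⁻¹ = y⁻¹ := by
  haveI : Fact (Nat.Prime 2) := ⟨Nat.prime_two⟩
  obtain ⟨T, hT⟩ := (IsPGroup.of_card (n := 2) (by rw [Nat.card_zpowers, hy]; norm_num) :
    IsPGroup 2 (zpowers y)).exists_le_sylow
  set f := (Sylow.equiv T S).trans e with hf
  obtain ⟨r, hr⟩ := quaternion_invert (f ⟨y, hT (mem_zpowers y)⟩)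
  refine ⟨((f.symm r : (T : Subgroup G)) : G), ?_⟩
  have := congrArg f.symm hr
  simp only [map_mul, map_inv, MulEquiv.symm_apply_apply] at this
  exact congrArg Subtype.val this

/-- The centralizer of an element of order four has a normal 2-complement. -/
theorem hasNormalPComplement_centralizer {G : Type v} [Group G] [Finite G] (S : Sylow 2 G)
    (e : (S : Subgroup G) ≃* QuaternionGroup 2) {x : G} (hx : orderOf x = 4) :
    Cfsg.HasNormalPComplement 2 (centralizer ({x} : Set G)) := by
  haveI : Fact (Nat.Prime 2) := ⟨Nat.prime_two⟩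
  set C := centralizer ({x} : Set G) with hC
  have hxC : x ∈ C := mem_centralizer_singleton_iff.2 rfl
  set Z := zpowers (⟨x, hxC⟩ : C) with hZ
  have hZc : ∀ w ∈ Z, ∀ c : C, c * w = w * c := by
    intro w hw c
    obtain ⟨i, rfl⟩ := mem_zpowers_iff.1 hw
    exact ((show Commute c (⟨x, hxC⟩ : C) from
      Subtype.ext (mem_centralizer_singleton_iff.1 c.2)).zpow_right i).eq
  haveI : Z.Normal := ⟨fun w hw c => by rw [hZc w hw c, mul_inv_cancel_right]; exact hw⟩
  have hZcard : Nat.card Z = 4 := by rw [hZ, Nat.card_zpowers, Subgroup.orderOf_mk, hx]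
  have hZp : IsPGroup 2 Z := IsPGroup.of_card (n := 2) (by rw [hZcard]; norm_num)
  obtain ⟨T⟩ : Nonempty (Sylow 2 C) := inferInstance
  have hZT : Z ≤ (T : Subgroup C) := hZp.le_sylow_of_normal T
  set TG := (T : Subgroup C).map C.subtype with hTG
  obtain ⟨U, hU⟩ := (T.2.map C.subtype : IsPGroup 2 TG).exists_le_sylow
  have hU8 : Nat.card (U : Subgroup G) = 8 := by
    rw [Nat.card_congr ((Sylow.equiv U S).trans e).toEquiv, Nat.card_eq_fintype_card,
      QuaternionGroup.card]
  have hTle : Nat.card (T : Subgroup C) ≤ 4 := by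
    rw [← card_map_of_injective C.subtype_injective, ← hTG]
    have hdvd : Nat.card TG ∣ Nat.card (U : Subgroup G) := card_dvd_of_le hU
    rw [hU8] at hdvd
    have hle := Nat.le_of_dvd (by norm_num) hdvd
    by_contra hlt
    have h8 : Nat.card TG = 8 := by
      rcases (Nat.dvd_prime_pow Nat.prime_two).1 (show Nat.card TG ∣ 2 ^ 3 by
        norm_num; exact hdvd) with ⟨j, hj, hje⟩
      interval_cases j <;> simp_all
    have heq : TG = (U : Subgroup G) := eq_of_le_of_card_ge hU (by rw [h8, hU8])
    set f := (Sylow.equiv U S).trans e with hf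
    have hxU : x ∈ (U : Subgroup G) := hU (mem_map_of_mem C.subtype (hZT (mem_zpowers _)))
    have h2 := quaternion_center (f ⟨x, hxU⟩) fun r => by
      have hr : ((f.symm r : (U : Subgroup G)) : G) ∈ TG := by rw [heq]; exact SetLike.coe_mem _
      obtain ⟨c, -, hc⟩ := hr
      have hcx : Commute ((f.symm r : (U : Subgroup G)) : G) x := by
        rw [← hc]; exact mem_centralizer_singleton_iff.1 c.2
      have h3 : f.symm r * ⟨x, hxU⟩ = ⟨x, hxU⟩ * f.symm r := Subtype.ext hcx.eq
      have h4 := congrArg f h3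
      simp only [map_mul, MulEquiv.apply_symm_apply] at h4
      exact h4.symm
    rw [← map_mul, map_eq_one_iff f f.injective] at h2
    have h5 : x ^ 2 = 1 := by rw [pow_two]; exact congrArg Subtype.val h2
    have := orderOf_dvd_of_pow_eq_one h5
    rw [hx] at this; norm_num at this
  have hTZ : Z = (T : Subgroup C) := eq_of_le_of_card_ge hZT (hZcard ▸ hTle)
  refine Fusion.hasNormalPComplement_of_normalizer_le_centralizer T fun c _ => ?_
  rw [mem_centralizer_iff]
  intro w hw
  exact (hZc w (hTZ ▸ hw) c).symm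


/-- Let S be a Sylow 2-subgroup of the finite group G isomorphic to the quaternion group of order 8. Suppose G has no nontrivial normal subgroup of odd order and G ≠ S. Then, relative to any maximal ideal M of the algebraic integers containing 2, the principal block of G consists of exactly 7 irreducible characters. -/
theorem result {G : Type*} [Group G] [Finite G] (M : Ideal Cfsg.AlgInt) (hM : Cfsg.IsPModular 2 M) (S : Sylow 2 G) (e : (S : Subgroup G) ≃* QuaternionGroup 2) (hO : ∀ N : Subgroup G, N.Normal → Odd (Nat.card N) → N = ⊥) (hG : (S : Subgroup G) ≠ ⊤) : Nat.card (Cfsg.principalBlock M G) = 7 := by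
  classical
  have hG' := hG
  clear hG
  haveI : Fact (Nat.Prime 2) := ⟨Nat.prime_two⟩
  haveI := Fintype.ofFinite G
  have hOc : oddCore G = ⊥ := hO _ inferInstance ZStar.odd_card_oddCore
  obtain ⟨a, y, haS, hyS, hoa, hya, -, hcard, hinv⟩ :=
    ZStar.exists_quaternion_generators (n := 1) S (by simpa using e)
  set z := a ^ 2 with hz
  have hoa4 : orderOf a = 4 := by rw [hoa]; norm_num
  have hoz : orderOf z = 2 := by
    rw [hz, orderOf_pow_of_dvd two_ne_zero (by rw [hoa4]; norm_num), hoa4]
  have hiso : IsIsolatedInvolution z := ZStar.isolated_of_unique_involution S hoz fun s hs h =>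
    by simpa using hinv s hs h
  have hzc := ZStar.mem_center_of_isolated hOc hiso
  obtain ⟨hzC, hcond, hS8, -, -⟩ := ZStar.eightCond_centralizer hiso S (pow_mem haS 2) e
  have htop : centralizer ({z} : Set G) = ⊤ := eq_top_iff.2 fun g _ =>
    mem_centralizer_singleton_iff.2 (mem_center_iff.1 hzc g)
  set φ := (MulEquiv.subgroupCongr htop).trans topEquiv with hφ
  have hG : ZStar.EightCond G z := hcond.of_equiv φ
  -- the order of the group
  set g₀ := (S : Subgroup G).index with hg₀
  have hodd : Odd g₀ := by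
    rw [← Nat.not_even_iff_odd, even_iff_two_dvd]; exact S.not_dvd_index
  have hcardG : Nat.card G = 8 * g₀ := by
    rw [hg₀, ← (S : Subgroup G).card_mul_index, hS8]
  have hne : g₀ ≠ 1 := fun h => hG' (index_eq_one.1 h)
  -- the centre and its quotient
  haveI := hG.normal
  haveI := Fintype.ofFinite (G ⧸ zpowers z)
  obtain ⟨P⟩ : Nonempty (Sylow 2 (G ⧸ zpowers z)) := inferInstance
  have hP := hG.kleinCond hodd hcardG hne hOc P
  have ha1 : a ≠ 1 := fun h => by rw [h, orderOf_one] at hoa4; omega
  -- the elements of order four form one class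
  have hfour : ∀ g : G, orderOf g = 4 → IsConj g a := by
    intro g hg
    have key : ∀ w : G, orderOf w = 4 → orderOf (QuotientGroup.mk w : G ⧸ zpowers z) = 2 := by
      intro w hw
      refine orderOf_eq_prime ?_ fun h => ?_
      · rw [← QuotientGroup.mk_pow, QuotientGroup.eq_one_iff, hG.invol (w ^ 2)
          (by rw [orderOf_pow_of_dvd two_ne_zero (by rw [hw]; norm_num), hw])]
        exact mem_zpowers z
      · rcases hG.mem_zpowers_cases ((QuotientGroup.eq_one_iff w).1 h) with h' | h'
        · rw [h', orderOf_one] at hw; omega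
        · rw [h', hoz] at hw; omega
    obtain ⟨kb, hk⟩ := isConj_iff.1 (hP.fuse _ _ (key g hg) (key a hoa4))
    obtain ⟨k, rfl⟩ := QuotientGroup.mk_surjective kb
    rw [← QuotientGroup.mk_inv, ← QuotientGroup.mk_mul, ← QuotientGroup.mk_mul,
      QuotientGroup.eq] at hk
    rcases hG.mem_zpowers_cases hk with h | h
    · exact isConj_iff.2 ⟨k, inv_mul_eq_one.1 h⟩
    · obtain ⟨l, hl⟩ := exists_invert S e hoa4
      refine (isConj_iff.2 ⟨k, ?_⟩ : IsConj g a⁻¹).trans (isConj_iff.2 ⟨l, hl⟩).symm
      have h2 : a = k * g * k⁻¹ * z := by rw [← h]; group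
      have hzz : a * a = z := by rw [hz, pow_two]
      calc k * g * k⁻¹ = a * z⁻¹ := by rw [h2]; group
        _ = a⁻¹ := by rw [← hzz]; group
  set X : Finset G := {1, z, a} with hX
  have hne1 : (1 : G) ∉ ({z, a} : Finset G) := by
    simp [(Invol.ne_one hoz).symm, Ne.symm ha1]
  have hne2 : z ∉ ({a} : Finset G) := by
    simp only [Finset.mem_singleton]
    intro h; rw [h] at hoz; omega
  have hXp : ∀ x ∈ X, ∃ k : ℕ, orderOf x = 2 ^ k := by
    intro x hx
    simp only [hX, Finset.mem_insert, Finset.mem_singleton] at hx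
    rcases hx with rfl | rfl | rfl
    · exact ⟨0, by simp⟩
    · exact ⟨1, by rw [hoz]; rfl⟩
    · exact ⟨2, by rw [hoa4]; rfl⟩
  have hrep : ∀ g : G, (∃ k : ℕ, orderOf g = 2 ^ k) → ∃! x, x ∈ X ∧ IsConj g x := by
    rintro g ⟨k, hk⟩
    obtain ⟨T, hT⟩ := (IsPGroup.of_card (n := k) (by rw [Nat.card_zpowers, hk]) :
      IsPGroup 2 (zpowers g)).exists_le_sylow
    have h4 : orderOf g ∣ 2 ^ 2 :=
      orderOf_dvd_of_pow_eq_one (hG.pow_four _ T.2 g (hT (mem_zpowers g)))
    have huniq : ∀ x x' : G, x ∈ X → x' ∈ X → orderOf x = orderOf x' → x = x' := by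
      intro x x' hx hx' he
      simp only [hX, Finset.mem_insert, Finset.mem_singleton] at hx hx'
      rcases hx with rfl | rfl | rfl <;> rcases hx' with rfl | rfl | rfl <;>
        simp only [orderOf_one, hoz, hoa4] at he <;> first | rfl | omega
    have hord : ∀ x, IsConj g x → orderOf x = orderOf g := by
      intro x hx
      obtain ⟨c, rfl⟩ := isConj_iff.1 hx
      exact Invol.orderOf_conj_eq _ _
    suffices hex : ∃ x ∈ X, IsConj g x by
      obtain ⟨x, hx, hxc⟩ := hex
      exact ⟨x, ⟨hx, hxc⟩, fun x' hx' => huniq _ _ hx'.1 hx (by rw [hord _ hx'.2, hord _ hxc])⟩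
    obtain ⟨j, hj, hje⟩ := (Nat.dvd_prime_pow Nat.prime_two).1 h4
    interval_cases j
    · exact ⟨1, by simp [hX], (orderOf_eq_one_iff.1 (hje.trans (pow_zero 2))) ▸ IsConj.refl _⟩
    · exact ⟨z, by simp [hX], (hG.invol g (hje.trans (pow_one 2))) ▸ IsConj.refl _⟩
    · exact ⟨a, by simp [hX], hfour g (by rw [hje]; norm_num)⟩
  have hterm : ∀ x ∈ X, (∑ᶠ b ∈ {b : Set (IrrCharacter (centralizer ({x} : Set G))) |
      IsInducedBlock M (centralizer ({x} : Set G)) b (principalBlock M G)}, blockRank 2 b) =
      blockRank 2 (principalBlock M (centralizer ({x} : Set G))) := by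
    intro x hx
    haveI := Fintype.ofFinite (centralizer ({x} : Set G))
    apply Nat.cast_injective (R := ℂ)
    rw [← Block.blockRank_indSet hM, Block.indSet_principal (u := x) (H := centralizer ({x} : Set G)) hM (hXp x hx)
      (fun h => (mem_centralizer_singleton_iff.1 h.2).symm) le_rfl]
  -- the two ranks
  have hrank : ∀ x : G, (∀ g : G, Commute x g) →
      blockRank 2 (principalBlock M (centralizer ({x} : Set G))) = 3 := by
    intro x hx
    have hxt : centralizer ({x} : Set G) = ⊤ := eq_top_iff.2 fun g _ =>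
      mem_centralizer_singleton_iff.2 (hx g).symm.eq
    set ψ := ((MulEquiv.subgroupCongr hxt).trans topEquiv).symm with hψ
    have hC := hG.of_equiv ψ
    haveI := Fintype.ofFinite (centralizer ({x} : Set G))
    haveI := hC.normal
    haveI := Fintype.ofFinite ((centralizer ({x} : Set G)) ⧸ zpowers (ψ z))
    obtain ⟨P'⟩ : Nonempty (Sylow 2 ((centralizer ({x} : Set G)) ⧸ zpowers (ψ z))) := inferInstance
    have hOC : oddCore (centralizer ({x} : Set G)) = ⊥ := by
      rw [show oddCore (centralizer ({x} : Set G)) = (oddCore G).map ψ.toMonoidHom from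
        (Core.map_pPrimeCore_equiv ψ).symm, hOc, Subgroup.map_bot]
    exact ZStar.blockRank_principal hC hM (hC.kleinCond hodd
      (by rw [← Nat.card_congr ψ.toEquiv, hcardG]) hne hOC P')
  haveI := Fintype.ofFinite (centralizer ({a} : Set G))
  rw [Block.card_block_eq_sum_rank hM Block.isPBlock_principal X hXp hrep,
    Finset.sum_congr rfl hterm, hX, Finset.sum_insert hne1, Finset.sum_insert hne2,
    Finset.sum_singleton, hrank 1 Commute.one_left, hrank z hG.central,
    (Block.hasNormalPComplement_iff_rank_one hM).1 (hasNormalPComplement_centralizer S e hoa4)]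
  all_goals norm_num

end Cfsg.Agent.S0951
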