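import Cfsg.Statements.S0952
import Cfsg.Agent.Lib.Block.RegApps

set_option autoImplicit false
open scoped ComplexConjugate
open Cfsg

namespace Cfsg.Agent.S0952

/-- Let χ and ψ be irreducible characters of the finite group G lying in different blocks relative to a maximal ideal M of the algebraic integers containing the prime p. Then the sum of χ x * conj (ψ x) over the elements x of order prime to p is zero. -/
theorem result {G : Type*} [Group G] [Finite G] (p : ℕ) [Fact p.Prime] (M : Ideal Cfsg.AlgInt) (hM : Cfsg.IsPModular p M) (χ ψ : Cfsg.IrrCharacter G) (h : ¬ Cfsg.SameBlock M (χ : G → ℂ) (ψ : G → ℂ)) : ∑ᶠ x ∈ {x : G | ¬ p ∣ orderOf x}, (χ : G → ℂ) x * conj ((ψ : G → ℂ) x) = 0 := by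
  haveI := Fintype.ofFinite G
  classical
  have h0 := Lib.Block.regInner_eq_zero (p := p) hM
    (Lib.Block.vInt_indVec hM (Lib.Block.isPBlock_blockOf χ)) (Lib.Block.self_mem_blockOf hM χ)
    (ψ := ψ) h
  rw [Lib.Block.regInner, classInner, mul_eq_zero,
    or_iff_right (inv_ne_zero Lib.Char.card_cast_ne_zero)] at h0
  rw [finsum_mem_eq_finite_toFinset_sum _ (Set.toFinite _)]
  rw [← Finset.sum_subset (Finset.subset_univ _) (fun g _ hg => ?_)] at h0
  · rw [← h0]
    refine Finset.sum_congr rfl fun g hg => ?_
    rw [Lib.Block.pRegularPart_of_reg (by simpa [IsPRegular] using hg)]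
  · rw [Lib.Block.pRegularPart_of_sing (by simpa [IsPRegular] using hg), zero_mul]

end Cfsg.Agent.S0952
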