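import Cfsg.Statements.S0953
import Cfsg.Agent.Lib.Block.ClassMatrixApps
import Cfsg.Agent.Lib.Block.DefectLocal

set_option autoImplicit false
open Cfsg

namespace Cfsg.Agent.S0953

/-- Let P be a Sylow p-subgroup of the finite group G with normalizer N, and fix a maximal ideal M of the algebraic integers containing p. The number of blocks of G having P as a defect group equals the number of conjugacy classes of N consisting of elements of order prime to p that centralize P. -/
theorem result {G : Type*} [Group G] [Finite G] (p : ℕ) [Fact p.Prime] (M : Ideal Cfsg.AlgInt) (hM : Cfsg.IsPModular p M) (P : Sylow p G) : Nat.card {B : Set (Cfsg.IrrCharacter G) // Cfsg.IsPBlock M B ∧ Cfsg.IsDefectGroup p M B (P : Subgroup G)} = Nat.card {C : ConjClasses (Subgroup.normalizer ((P : Subgroup G) : Set G)) // ∀ n : Subgroup.normalizer ((P : Subgroup G) : Set G), ConjClasses.mk n = C → ¬ p ∣ orderOf n ∧ (n : G) ∈ Subgroup.centralizer ((P : Subgroup G) : Set G)} := by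
  classical
  haveI := Fintype.ofFinite G
  set D : Subgroup G := (P : Subgroup G) with hD
  have hDp : IsPGroup p D := P.isPGroup'
  haveI : Fintype (Subgroup.normalizer (D : Set G)) := Fintype.ofFinite _
  haveI hn : (D.subgroupOf (Subgroup.normalizer (D : Set G))).Normal := Subgroup.normal_in_normalizer
  have hCN : Subgroup.centralizer (D : Set G) ≤ Subgroup.normalizer (D : Set G) :=
    Subgroup.centralizer_le_normalizer _
  -- first main theorem
  have e1 : Nat.card {B : Set (Cfsg.IrrCharacter G) // Cfsg.IsPBlock M B ∧ Cfsg.IsDefectGroup p M B D} =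
      Nat.card (Cfsg.Lib.Block.DefBlock p M (D.subgroupOf (Subgroup.normalizer (D : Set G)))) := by
    choose f hf using fun b : Cfsg.Lib.Block.DefBlock p M (D.subgroupOf (Subgroup.normalizer (D : Set G))) =>
      Cfsg.Lib.Block.exists_isInducedBlock hM hDp Subgroup.le_normalizer hCN le_rfl b.2.1
    refine (Nat.card_congr (Equiv.ofBijective (fun b => (⟨f b, (hf b).2.1,
      Cfsg.Lib.Block.isDefectGroup_of_normalizer_block hM hDp b.2.2 (hf b)⟩ :
        {B : Set (Cfsg.IrrCharacter G) // Cfsg.IsPBlock M B ∧ Cfsg.IsDefectGroup p M B D}))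
      ⟨fun a b hab => Subtype.ext ?_, fun B => ?_⟩)).symm
    · have h1 := hf a
      rw [show f a = f b from congrArg Subtype.val hab] at h1
      exact Cfsg.Lib.Block.normalizer_block_unique hM hDp b.2.2 (hf b) h1
    · obtain ⟨b, hb, hbD, -⟩ := Cfsg.Lib.Block.exists_normalizer_block hM B.2.1 B.2.2
      exact ⟨⟨b, hb.1, hbD⟩, Subtype.ext (Cfsg.Lib.Block.isInducedBlock_unique hM (hf _) hb)⟩
  rw [e1]
  set N := Subgroup.normalizer (D : Set G) with hN
  set S : Sylow p N := P.subtype Subgroup.le_normalizer with hS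
  have hSD : (S : Subgroup N) = D.subgroupOf N := rfl
  set ι := {C : ConjClasses N // ∀ n : N, ConjClasses.mk n = C → ¬ p ∣ orderOf n ∧ (n : G) ∈ Subgroup.centralizer (D : Set G)} with hι
  haveI : Finite (ConjClasses N) := Quotient.finite _
  haveI : Fintype ι := Fintype.ofFinite _
  have hx : ∀ i : ι, ¬ p ∣ orderOf i.1.out ∧ ∀ w ∈ D.subgroupOf N, w * i.1.out = i.1.out * w := fun i =>
    ⟨(i.2 _ (Quotient.out_eq i.1)).1, fun w hw => Subtype.ext
      (Subgroup.mem_centralizer_iff.1 (i.2 _ (Quotient.out_eq i.1)).2 w hw)⟩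
  have hinj : ∀ i j : ι, IsConj i.1.out j.1.out → i = j := fun i j h => by
    apply Subtype.ext
    have h' := ConjClasses.mk_eq_mk_iff_isConj.2 h
    rwa [show ConjClasses.mk i.1.out = i.1 from Quotient.out_eq _,
      show ConjClasses.mk j.1.out = j.1 from Quotient.out_eq _] at h'
  have hsyl : ∀ T : Subgroup N, IsPGroup p T → T ≤ D.subgroupOf N := fun T hT => by
    obtain ⟨Q, hQ⟩ := hT.exists_le_sylow
    obtain ⟨g, hg⟩ := MulAction.exists_smul_eq N S Q
    haveI : (S : Subgroup N).Normal := hSD ▸ hn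
    rw [Sylow.smul_eq_of_normal] at hg
    exact hQ.trans (hg ▸ hSD.le)
  have hcen : ∀ i : ι, ∃ Q : Sylow p (Subgroup.centralizer ({i.1.out} : Set N)),
      Cfsg.Lib.Block.cenSyl i.1.out Q = D.subgroupOf N := fun i => by
    obtain ⟨Q⟩ : Nonempty (Sylow p (Subgroup.centralizer ({i.1.out} : Set N))) := inferInstance
    refine ⟨Q, Subgroup.eq_of_le_of_card_ge (hsyl _ (Cfsg.Lib.Block.isPGroup_cenSyl _ Q)) ?_⟩
    obtain ⟨c, -, hle⟩ := Cfsg.Lib.Block.exists_conj_le_cenSyl Q (hDp.comap_subtype (K := N))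
      (show D.subgroupOf N ≤ Subgroup.centralizer ({i.1.out} : Set N) from fun w hw =>
        Subgroup.mem_centralizer_iff.2 fun z hz => by
          rw [Set.mem_singleton_iff] at hz; subst hz; exact ((hx i).2 w hw).symm)
    have := Subgroup.card_le_of_le hle
    rwa [Subgroup.card_map_of_injective (MulAut.conj c).injective] at this
  have hk : 0 + (Nat.card (D.subgroupOf N)).factorization p = (Nat.card N).factorization p := by
    rw [zero_add, ← hSD, S.card_eq_multiplicity, (Fact.out : p.Prime).factorization_pow,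
      Finsupp.single_eq_same]
  have hcov : ∀ y : N, ¬ p ∣ orderOf y → (∃ Q : Sylow p (Subgroup.centralizer ({y} : Set N)),
      Cfsg.Lib.Block.cenSyl y Q = D.subgroupOf N) → ∃ i : ι, IsConj y i.1.out := by
    rintro y hy ⟨Q, hQ⟩
    refine ⟨⟨ConjClasses.mk y, fun n hn => ?_⟩,
      ConjClasses.mk_eq_mk_iff_isConj.1 (Quotient.out_eq _).symm⟩
    obtain ⟨c, hc⟩ := isConj_iff.1 (ConjClasses.mk_eq_mk_iff_isConj.1 hn).symm
    subst hc
    refine ⟨?_, Cfsg.Lib.Block.centralizer_conj_mem c.2 (Subgroup.mem_centralizer_iff.2 fun d hd => ?_)⟩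
    · rwa [show orderOf (c * y * c⁻¹) = orderOf y from (MulAut.conj c).orderOf_eq y]
    · exact congrArg Subtype.val (Subgroup.mem_centralizer_iff.1
        (Cfsg.Lib.Block.cenSyl_le y Q (hQ.symm ▸
          (show (⟨d, Subgroup.le_normalizer hd⟩ : N) ∈ D.subgroupOf N from Subgroup.mem_subgroupOf.2 hd))) y rfl).symm
  rw [Cfsg.Lib.Block.card_defBlock_eq_rank hM S hk (fun i : ι => i.1.out) hinj hcen hcov]
  -- only equal elements differ by an element of the Sylow subgroup
  have hpc : ∀ i j : ι, Cfsg.Lib.Block.pairCount (S : Subgroup N) i.1.out j.1.out =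
      if i = j then (Subgroup.centralizer ({i.1.out} : Set N)).index else 0 := by
    intro i j
    have key : ∀ y z : N, IsConj i.1.out y → IsConj j.1.out z → z * y⁻¹ ∈ (S : Subgroup N) → z = y := by
      intro y z hy hz hw
      obtain ⟨c, rfl⟩ := isConj_iff.1 hy
      set y := c * i.1.out * c⁻¹ with hydef
      have hy0 : ¬ p ∣ orderOf y := by
        rw [hydef, show orderOf (c * i.1.out * c⁻¹) = orderOf i.1.out from (MulAut.conj c).orderOf_eq _]
        exact (hx i).1
      have hz0 : ¬ p ∣ orderOf z := by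
        obtain ⟨d, rfl⟩ := isConj_iff.1 hz
        rw [show orderOf (d * j.1.out * d⁻¹) = orderOf j.1.out from (MulAut.conj d).orderOf_eq _]
        exact (hx j).1
      rw [hSD] at hw
      have hcomm : Commute (z * y⁻¹) y := by
        have h2 := (hx i).2 (c⁻¹ * (z * y⁻¹) * c) (by simpa using hn.conj_mem _ hw c⁻¹)
        calc z * y⁻¹ * y = c * (c⁻¹ * (z * y⁻¹) * c * i.1.out) * c⁻¹ := by rw [hydef]; group
          _ = c * (i.1.out * (c⁻¹ * (z * y⁻¹) * c)) * c⁻¹ := by rw [h2]
          _ = y * (z * y⁻¹) := by rw [hydef]; group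
      obtain ⟨k, hk⟩ := (hDp.comap_subtype (K := N)) ⟨_, hw⟩
      have hwk : (z * y⁻¹) ^ p ^ k = 1 := congrArg Subtype.val hk
      obtain ⟨e, -, he⟩ := (Nat.dvd_prime_pow (Fact.out : p.Prime)).1 (orderOf_dvd_of_pow_eq_one hwk)
      have hcop : (orderOf (z * y⁻¹)).Coprime (orderOf y) := by
        rw [he]
        exact Nat.Coprime.pow_left _ ((Fact.out : p.Prime).coprime_iff_not_dvd.2 hy0)
      have ho := hcomm.orderOf_mul_eq_mul_orderOf_of_coprime hcop
      rw [inv_mul_cancel_right, he] at ho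
      rcases Nat.eq_zero_or_pos e with rfl | he0
      · rw [pow_zero, orderOf_eq_one_iff, mul_inv_eq_one] at he
        exact he
      · exact absurd (ho ▸ dvd_mul_of_dvd_left (dvd_pow_self p he0.ne') _) hz0
    split_ifs with h
    · subst h
      rw [Cfsg.Lib.Block.pairCount, ← Cfsg.Lib.Char.card_classFinset, ← Fintype.card_coe,
        ← Nat.card_eq_fintype_card]
      exact Nat.card_congr
        { toFun := fun yz => ⟨yz.1.1, Cfsg.Lib.Char.mem_classFinset.2 yz.2.1⟩
          invFun := fun z => ⟨(z.1, z.1), Cfsg.Lib.Char.mem_classFinset.1 z.2,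
            Cfsg.Lib.Char.mem_classFinset.1 z.2, by simp⟩
          left_inv := fun yz => Subtype.ext (Prod.ext rfl (key _ _ yz.2.1 yz.2.2.1 yz.2.2.2).symm)
          right_inv := fun z => rfl }
    · refine Nat.card_eq_zero.2 (Or.inl ⟨fun yz => h (hinj i j ?_)⟩)
      obtain ⟨⟨y, z⟩, hy, hz, hw⟩ := yz
      exact hy.trans ((key y z hy hz hw) ▸ hz.symm)
  have hW : (Matrix.of fun i j : ι =>
      ((Cfsg.Lib.Block.pairCount (S : Subgroup N) i.1.out j.1.out / p ^ 0 : ℕ) : ZMod p)) =
      Matrix.diagonal fun i : ι => (((Subgroup.centralizer ({i.1.out} : Set N)).index : ℕ) : ZMod p) := by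
    ext i j
    rw [Matrix.of_apply, pow_zero, Nat.div_one, hpc]
    by_cases h : i = j
    · subst h; simp
    · rw [if_neg h, Matrix.diagonal_apply_ne _ h, Nat.cast_zero]
  rw [hW, Matrix.rank_diagonal, Nat.card_eq_fintype_card]
  refine Fintype.card_congr (Equiv.subtypeUnivEquiv fun i => ?_)
  rw [Ne, ZMod.natCast_eq_zero_iff]
  intro hd
  obtain ⟨Q, hQ⟩ := hcen i
  have hle : (S : Subgroup N) ≤ Subgroup.centralizer ({i.1.out} : Set N) := by
    rw [hSD, ← hQ]; exact Cfsg.Lib.Block.cenSyl_le _ Q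
  exact S.not_dvd_index (hd.trans (Subgroup.index_dvd_of_le hle))

end Cfsg.Agent.S0953
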