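import Cfsg.Statements.S0957

set_option autoImplicit false
open Cfsg

namespace Cfsg.Agent.S0957

/-- Let P be a Sylow p-subgroup of the finite group G, let g, h ∈ G and let p ^ d be the order of a Sylow p-subgroup of the centralizer of g. Then the number of pairs (y, z) with y conjugate to g, z conjugate to h and z * y⁻¹ ∈ P is divisible by the order of P divided by p ^ d. -/
theorem result {G : Type*} [Group G] [Finite G] (p : ℕ) [Fact p.Prime] (P : Sylow p G) (g h : G) (S : Sylow p (Subgroup.centralizer ({g} : Set G))) : Nat.card P / Nat.card S ∣ Nat.card {yz : G × G // IsConj g yz.1 ∧ IsConj h yz.2 ∧ yz.2 * yz.1⁻¹ ∈ (P : Subgroup G)} := by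
  classical
  haveI := Fintype.ofFinite G
  let X := {yz : G × G // IsConj g yz.1 ∧ IsConj h yz.2 ∧ yz.2 * yz.1⁻¹ ∈ (P : Subgroup G)}
  have hcj : ∀ (u : G) {a b : G}, IsConj a b → IsConj a (u * b * u⁻¹) := fun u a b hab =>
    hab.trans (isConj_iff.2 ⟨u, rfl⟩)
  letI : MulAction (P : Subgroup G) X :=
    { smul := fun u z => ⟨((u : G) * z.1.1 * (u : G)⁻¹, (u : G) * z.1.2 * (u : G)⁻¹),
        hcj u z.2.1, hcj u z.2.2.1, by
          show (u : G) * z.1.2 * (u : G)⁻¹ * ((u : G) * z.1.1 * (u : G)⁻¹)⁻¹ ∈ (P : Subgroup G)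
          rw [show (u : G) * z.1.2 * (u : G)⁻¹ * ((u : G) * z.1.1 * (u : G)⁻¹)⁻¹ =
            (u : G) * (z.1.2 * z.1.1⁻¹) * (u : G)⁻¹ by group]
          exact mul_mem (mul_mem u.2 z.2.2.2) (inv_mem u.2)⟩
      one_smul := fun z => Subtype.ext (Prod.ext
        (show ((1 : (P : Subgroup G)) : G) * z.1.1 * ((1 : (P : Subgroup G)) : G)⁻¹ = z.1.1 by simp)
        (show ((1 : (P : Subgroup G)) : G) * z.1.2 * ((1 : (P : Subgroup G)) : G)⁻¹ = z.1.2 by simp))
      mul_smul := fun u v z => Subtype.ext (Prod.ext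
        (show ((u * v : (P : Subgroup G)) : G) * z.1.1 * ((u * v : (P : Subgroup G)) : G)⁻¹ =
          (u : G) * ((v : G) * z.1.1 * (v : G)⁻¹) * (u : G)⁻¹ by simp [mul_assoc])
        (show ((u * v : (P : Subgroup G)) : G) * z.1.2 * ((u * v : (P : Subgroup G)) : G)⁻¹ =
          (u : G) * ((v : G) * z.1.2 * (v : G)⁻¹) * (u : G)⁻¹ by simp [mul_assoc])) }
  show Nat.card P / Nat.card S ∣ Nat.card X
  haveI := Fintype.ofFinite X
  haveI := Fintype.ofFinite (MulAction.orbitRel.Quotient (P : Subgroup G) X)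
  rw [Nat.card_congr (MulAction.selfEquivSigmaOrbits (P : Subgroup G) X), Nat.card_sigma]
  refine Finset.dvd_sum fun o _ => ?_
  generalize hz : Quotient.out o = z
  rw [Nat.card_coe_set_eq, ← MulAction.index_stabilizer]
  set T := MulAction.stabilizer (P : Subgroup G) z with hT
  obtain ⟨c, hc⟩ := isConj_iff.1 z.2.1
  have hmem : ∀ u : T, (MulAut.conj c⁻¹) ((u : (P : Subgroup G)) : G) ∈
      Subgroup.centralizer ({g} : Set G) := by
    intro u
    have h1 : ((u : (P : Subgroup G)) : G) * z.1.1 * ((u : (P : Subgroup G)) : G)⁻¹ = z.1.1 :=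
      congrArg (fun w : X => w.1.1) u.2
    rw [Subgroup.mem_centralizer_iff]
    intro y hy
    rw [Set.mem_singleton_iff.1 hy, MulAut.conj_apply, inv_inv]
    rw [← hc, mul_inv_eq_iff_eq_mul] at h1
    calc g * (c⁻¹ * ((u : (P : Subgroup G)) : G) * c)
        = c⁻¹ * (c * g * c⁻¹ * ((u : (P : Subgroup G)) : G)) * c := by group
      _ = c⁻¹ * (((u : (P : Subgroup G)) : G) * (c * g * c⁻¹)) * c := by rw [h1]
      _ = c⁻¹ * ((u : (P : Subgroup G)) : G) * c * g := by group
  let f : T →* Subgroup.centralizer ({g} : Set G) :=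
    ((MulAut.conj c⁻¹).toMonoidHom.comp ((P : Subgroup G).subtype.comp T.subtype)).codRestrict _ hmem
  have hf : Function.Injective f := fun a b hab => by
    have := congrArg Subtype.val hab
    exact Subtype.ext (Subtype.ext ((MulAut.conj c⁻¹).injective this))
  have hp : IsPGroup p f.range := (P.isPGroup'.to_subgroup T).of_equiv (MonoidHom.ofInjective hf)
  obtain ⟨S', hS'⟩ := hp.exists_le_sylow
  have hdvd : Nat.card T ∣ Nat.card S := by
    rw [Nat.card_congr (MonoidHom.ofInjective hf).toEquiv,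
      show Nat.card S = Nat.card S' by rw [S.card_eq_multiplicity, S'.card_eq_multiplicity]]
    exact Subgroup.card_dvd_of_le hS'
  have hPS : Nat.card S ∣ Nat.card (P : Subgroup G) := by
    rw [S.card_eq_multiplicity, P.card_eq_multiplicity]
    refine Nat.pow_dvd_pow p ?_
    exact (Nat.factorization_le_iff_dvd Nat.card_pos.ne' Nat.card_pos.ne').2
      (Subgroup.card_subgroup_dvd_card _) p
  obtain ⟨k, hk⟩ := hdvd
  obtain ⟨l, hl⟩ := hPS
  have h1 := T.card_mul_index
  show Nat.card (P : Subgroup G) / Nat.card S ∣ T.index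
  rw [hl, Nat.mul_div_cancel_left _ Nat.card_pos]
  refine ⟨k, ?_⟩
  refine Nat.eq_of_mul_eq_mul_left (show 0 < Nat.card T from Nat.card_pos) ?_
  rw [h1, hl, hk]
  ring

end Cfsg.Agent.S0957
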