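import Cfsg.Statements.S0958
import Cfsg.Agent.Lib.Block.Induced

set_option autoImplicit false
open Cfsg

namespace Cfsg.Agent.S0958

/-- Let P be a p-subgroup of the finite group G and H a subgroup with P ⊔ C_G(P) ≤ H ≤ N_G(P); fix a maximal ideal M of the algebraic integers containing p. Then a block B of G is induced by some block of H if and only if some conjugate of P is contained in a defect group of B. -/
theorem result {G : Type*} [Group G] [Finite G] (p : ℕ) [Fact p.Prime] (M : Ideal Cfsg.AlgInt) (hM : Cfsg.IsPModular p M) (P H : Subgroup G) (hP : IsPGroup p P) (hPH : P ⊔ Subgroup.centralizer (P : Set G) ≤ H) (hHN : H ≤ Subgroup.normalizer (P : Set G)) (B : Set (Cfsg.IrrCharacter G)) (hB : Cfsg.IsPBlock M B) : (∃ b : Set (Cfsg.IrrCharacter H), Cfsg.IsInducedBlock M H b B) ↔ ∃ D : Subgroup G, Cfsg.IsDefectGroup p M B D ∧ ∃ x : G, P.map (MulAut.conj x).toMonoidHom ≤ D := by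
  haveI := Fintype.ofFinite G
  haveI := Fintype.ofFinite H
  classical
  have hle : P ≤ H := le_sup_left.trans hPH
  have hCH : Subgroup.centralizer (P : Set G) ≤ H := le_sup_right.trans hPH
  obtain ⟨D, hD⟩ := Lib.Block.exists_defectGroup hM hB
  constructor
  · rintro ⟨b, hb⟩
    obtain ⟨ξ, hξ⟩ := Lib.Block.nonempty_of_isPBlock hM hb.1
    obtain ⟨χ, hχ⟩ := Lib.Block.nonempty_of_isPBlock hM hB
    have h1 := (Lib.Block.brRel_iff_mem hM hP hCH hHN ξ hB hχ).1
      (Lib.Block.brRel_of_isInducedBlock hM hP hle hCH hHN hb hξ hχ)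
    exact ⟨D, hD, (Lib.Block.exists_coeff_iff_conj_le hM hB hD hP).1
      ((Lib.Block.exists_brVec_iff_coeff hM hP hCH hHN hB).1 ⟨ξ, h1⟩)⟩
  · rintro ⟨D', hD', x, hx⟩
    obtain ⟨ξ, hξ⟩ := (Lib.Block.exists_brVec_iff_coeff (H := H) hM hP hCH hHN hB).2
      ((Lib.Block.exists_coeff_iff_conj_le hM hB hD' hP).2 ⟨x, hx⟩)
    obtain ⟨χ, hχ⟩ := Lib.Block.nonempty_of_isPBlock hM hB
    exact ⟨_, Lib.Block.isInducedBlock_of_brRel hM hP hle hCH hHN (Lib.Block.isPBlock_blockOf ξ)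
      (Lib.Block.self_mem_blockOf hM ξ) hB hχ ((Lib.Block.brRel_iff_mem hM hP hCH hHN ξ hB hχ).2 hξ)⟩

end Cfsg.Agent.S0958
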