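import Cfsg.Statements.S0968
import Cfsg.Agent.Lib.Block.CentralProduct

set_option autoImplicit false
open Cfsg

namespace Cfsg.Agent.S0968

/-- Let P be a p-subgroup of the finite group G with P ⊔ C_G(P) = G, and let B be a block with defect group P relative to a maximal ideal M of the algebraic integers containing p. Then there is exactly one θ ∈ B with θ x = θ 1 for all x ∈ P; for this θ the exponent of p in θ(1) equals the exponent of p in the index of P; and the number of members of B equals the number of conjugacy classes of P. -/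
theorem result {G : Type*} [Group G] [Finite G] (p : ℕ) [Fact p.Prime] (M : Ideal Cfsg.AlgInt) (hM : Cfsg.IsPModular p M) (P : Subgroup G) (hP : IsPGroup p P) (hG : P ⊔ Subgroup.centralizer (P : Set G) = ⊤) (B : Set (Cfsg.IrrCharacter G)) (hB : Cfsg.IsPBlock M B) (hD : Cfsg.IsDefectGroup p M B P) : (∃! θ : Cfsg.IrrCharacter G, θ ∈ B ∧ ∀ x ∈ P, (θ : G → ℂ) x = (θ : G → ℂ) 1) ∧ (∀ θ ∈ B, (∀ x ∈ P, (θ : G → ℂ) x = (θ : G → ℂ) 1) → (Cfsg.charDegree (θ : G → ℂ)).factorization p = P.index.factorization p) ∧ Nat.card B = Nat.card (ConjClasses P) := by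
  classical
  haveI := Fintype.ofFinite G
  haveI := Cfsg.Lib.Block.normal_of_sup_centralizer hG
  haveI := Fintype.ofFinite P
  obtain ⟨hdeg, hmain⟩ := Cfsg.Lib.Block.centralProduct_block hM hP hG hB hD
  obtain ⟨χ, hχ, htriv⟩ := Cfsg.Lib.Block.exists_trivial_on_mem hM hP hB
  obtain ⟨F, hinj, hF, hmem⟩ := hmain χ hχ htriv
  refine ⟨⟨χ, ⟨hχ, htriv⟩, ?_⟩, hdeg, ?_⟩
  · rintro θ ⟨hθ, ht⟩
    obtain ⟨ζ, hζ⟩ := (hmem θ).1 hθ
    obtain ⟨η, hη⟩ := (hmem χ).1 hχ
    suffices hu : ∀ ξ : Cfsg.IrrCharacter P, (∀ u ∈ P, (F ξ : G → ℂ) u = (F ξ : G → ℂ) 1) →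
        (ξ : P → ℂ) = fun _ => 1 by
      rw [← hζ, ← hη, Subtype.ext ((hu ζ (hζ.symm ▸ ht)).trans (hu η (hη.symm ▸ htriv)).symm)]
    intro ξ hξ
    have hc0 := χ.2.apply_one_ne_zero
    have hconst : ∀ u : P, (ξ : P → ℂ) u = (ξ : P → ℂ) 1 := by
      intro u
      apply mul_right_cancel₀ hc0
      have h1 : ¬ p ∣ orderOf (1 : G) := by rw [orderOf_one]; exact (Fact.out : p.Prime).not_dvd_one
      have := hξ u u.2
      rw [hF, Cfsg.Lib.Block.secChar_regular _ _ h1] at this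
      rw [← this, ← Cfsg.Lib.Block.secChar_mul hP hG _ _ u h1, mul_one]
    by_contra hne
    have h := Cfsg.Lib.Char.classInner_irr_ne ξ.2 Cfsg.Lib.Char.isIrrCharacter_one hne
    rw [show (ξ : P → ℂ) = (ξ : P → ℂ) 1 • (fun _ : P => (1 : ℂ)) from funext fun u => by
      simp [hconst u], Cfsg.Lib.Char.classInner_smul_left,
      Cfsg.Lib.Char.classInner_irr_self Cfsg.Lib.Char.isIrrCharacter_one, mul_one] at h
    exact ξ.2.apply_one_ne_zero h
  · rw [← Cfsg.Lib.Char.card_irr_eq_card_conjClasses]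
    exact (Nat.card_congr (Equiv.ofBijective (fun ξ => (⟨F ξ, (hmem _).2 ⟨ξ, rfl⟩⟩ : B))
      ⟨fun a b h => hinj (congrArg Subtype.val h), fun θ => by
        obtain ⟨ξ, hξ⟩ := (hmem θ).1 θ.2
        exact ⟨ξ, Subtype.ext hξ⟩⟩)).symm

end Cfsg.Agent.S0968
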