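import Cfsg.Statements.S0971
import Cfsg.Agent.Lib.Block.CoverBasics
import Cfsg.Agent.Lib.Block.BrauerHom
import Cfsg.Agent.Lib.Block.Induced

set_option autoImplicit false
open Cfsg

namespace Cfsg.Agent.S0971

/-- Let Q be a normal p-subgroup of the finite group G, let N = Q ⊔ C_G(Q) (a normal subgroup) and let b be a block of N relative to a maximal ideal M of the algebraic integers containing p. Then b induces some block of G, and every block B of G containing a character whose restriction to N has a constituent in b is induced by b. -/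
theorem result {G : Type*} [Group G] [Fintype G] (p : ℕ) [Fact p.Prime] (M : Ideal Cfsg.AlgInt) (hM : Cfsg.IsPModular p M) (Q : Subgroup G) [Q.Normal] (hQ : IsPGroup p Q) [Fintype ↥(Q ⊔ Subgroup.centralizer (Q : Set G))] (b : Set (Cfsg.IrrCharacter ↥(Q ⊔ Subgroup.centralizer (Q : Set G)))) (hb : Cfsg.IsPBlock M b) : Cfsg.InducedBlockDefined M (Q ⊔ Subgroup.centralizer (Q : Set G)) b ∧ ∀ B : Set (Cfsg.IrrCharacter G), Cfsg.IsPBlock M B → (∃ χ ∈ B, ∃ θ ∈ b, Cfsg.classInner (fun n : ↥(Q ⊔ Subgroup.centralizer (Q : Set G)) => (χ : G → ℂ) n) (θ : ↥(Q ⊔ Subgroup.centralizer (Q : Set G)) → ℂ) ≠ 0) → Cfsg.IsInducedBlock M (Q ⊔ Subgroup.centralizer (Q : Set G)) b B := by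
  classical
  haveI : (Q ⊔ Subgroup.centralizer (Q : Set G)).Normal := Subgroup.sup_normal Q _
  have hnorm : (Q ⊔ Subgroup.centralizer (Q : Set G)) ≤ Subgroup.normalizer (Q : Set G) := by
    rw [Subgroup.normalizer_eq_top Q]; exact le_top
  obtain ⟨B₀, hB₀⟩ := Cfsg.Lib.Block.exists_isInducedBlock hM hQ (H := (Q ⊔ Subgroup.centralizer (Q : Set G))) le_sup_left le_sup_right
    hnorm hb
  refine ⟨⟨B₀, hB₀⟩, fun B hB hcov => ⟨hb, hB, fun θ hθ χ hχ g => ?_⟩⟩
  have hc := (Cfsg.Lib.Block.covers_iff (Q ⊔ Subgroup.centralizer (Q : Set G)) hM hB hb).1 hcov χ hχ θ hθ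
  by_cases hg : g ∈ (Q ⊔ Subgroup.centralizer (Q : Set G))
  · have h := Cfsg.Lib.Block.memLocalIdeal_neg hM (hc ⟨g, hg⟩)
    simpa using h
  · have hicc : Cfsg.inducedCentralChar (Q ⊔ Subgroup.centralizer (Q : Set G)) (θ : ↥(Q ⊔ Subgroup.centralizer (Q : Set G)) → ℂ) g = 0 := by
      rw [Cfsg.inducedCentralChar, finsum_mem_eq_finite_toFinset_sum _ (Set.toFinite _),
        Finset.sum_eq_zero]
      intro h hh
      have hh' : h ∈ {h : ↥(Q ⊔ Subgroup.centralizer (Q : Set G)) | IsConj g (h : G)} := (Set.Finite.mem_toFinset _).1 hh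
      obtain ⟨c, hc'⟩ := isConj_iff.1 (IsConj.symm hh')
      exact absurd (hc' ▸ Subgroup.Normal.conj_mem inferInstance _ h.2 c) hg
    rw [hicc, zero_sub]
    refine Cfsg.Lib.Block.memLocalIdeal_neg hM ?_
    set f : G → ℂ := fun x => if IsConj g x then 1 else 0 with hf
    have hfc : Cfsg.IsClassFunction G f := fun x k => by
      simp only [hf]
      refine if_congr ?_ rfl rfl
      have hc : IsConj x (k * x * k⁻¹) := isConj_iff.2 ⟨k, rfl⟩
      exact ⟨fun h => h.trans hc.symm, fun h => h.trans hc⟩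
    have hv := Cfsg.Lib.Block.vec_mem_ideal_of_vanish hM hQ hfc
      (fun x => by
        simp only [hf]; split_ifs
        exacts [(Cfsg.Lib.Block.locRing hM).one_mem, (Cfsg.Lib.Block.locRing hM).zero_mem])
      (fun x hx => by
        simp only [hf]
        refine if_neg fun hcx => hg ?_
        obtain ⟨c, hc'⟩ := isConj_iff.1 hcx.symm
        exact hc' ▸ Subgroup.Normal.conj_mem inferInstance _ (Subgroup.mem_sup_right hx) c) χ
    convert hv using 1
    haveI : Finite (ConjClasses G) := Quotient.finite _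
    haveI := Fintype.ofFinite (ConjClasses G)
    rw [Cfsg.Lib.Block.sum_mul_char_eq hfc, Finset.sum_eq_single (ConjClasses.mk g)]
    · have e : IsConj g (ConjClasses.mk g).out :=
        ConjClasses.mk_eq_mk_iff_isConj.1 (Quotient.out_eq (ConjClasses.mk g)).symm
      rw [show f (ConjClasses.mk g).out = 1 from if_pos e, one_mul]
      exact (Cfsg.Lib.Block.centralChar_eq_of_isConj χ e).symm
    · intro C _ hC
      rw [show f C.out = 0 from if_neg fun h => hC ((Quotient.out_eq C).symm.trans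
        (ConjClasses.mk_eq_mk_iff_isConj.2 h).symm), zero_mul]
    · simp

end Cfsg.Agent.S0971
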