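import Cfsg.Statements.S0973
import Cfsg.Agent.Lib.Block.PairApps

set_option autoImplicit false
open Cfsg

namespace Cfsg.Agent.S0973

/-- Let B be a block of the finite group G with defect group P (relative to a maximal ideal M of the algebraic integers containing p), and let L = P ⊔ C_G(P). Then (i) some block b of L with defect group P (viewed in L) induces B, and (ii) if b and b' are blocks of L both inducing B, there is n ∈ N_G(P) carrying b to b': for every θ ∈ b there is θ' ∈ b' with θ' x = θ (n x n⁻¹) for all x ∈ L. -/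
theorem result {G : Type*} [Group G] [Finite G] (p : ℕ) [Fact p.Prime] (M : Ideal Cfsg.AlgInt) (hM : Cfsg.IsPModular p M) (B : Set (Cfsg.IrrCharacter G)) (hB : Cfsg.IsPBlock M B) (P : Subgroup G) (hP : Cfsg.IsDefectGroup p M B P) : (∃ b : Set (Cfsg.IrrCharacter ↥(P ⊔ Subgroup.centralizer (P : Set G))), Cfsg.IsDefectGroup p M b (P.subgroupOf (P ⊔ Subgroup.centralizer (P : Set G))) ∧ Cfsg.IsInducedBlock M (P ⊔ Subgroup.centralizer (P : Set G)) b B) ∧ ∀ b b' : Set (Cfsg.IrrCharacter ↥(P ⊔ Subgroup.centralizer (P : Set G))), Cfsg.IsInducedBlock M (P ⊔ Subgroup.centralizer (P : Set G)) b B → Cfsg.IsInducedBlock M (P ⊔ Subgroup.centralizer (P : Set G)) b' B → ∃ n ∈ Subgroup.normalizer (P : Set G), ∀ θ ∈ b, ∃ θ' ∈ b', ∀ x : ↥(P ⊔ Subgroup.centralizer (P : Set G)), ∀ hx : n * (x : G) * n⁻¹ ∈ P ⊔ Subgroup.centralizer (P : Set G), (θ' : ↥(P ⊔ Subgroup.centralizer (P : Set G)) → ℂ) x = (θ : ↥(P ⊔ Subgroup.centralizer (P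 : Set G)) → ℂ) ⟨n * (x : G) * n⁻¹, hx⟩ := by
  classical
  haveI : Fact p.Prime := ⟨hM.1⟩
  haveI := Fintype.ofFinite G
  have hPp : IsPGroup p P := Cfsg.Lib.Block.isPGroup_defectGroup hM hP
  have hCL : Subgroup.centralizer (P : Set G) ≤ P ⊔ Subgroup.centralizer (P : Set G) := le_sup_right
  have hPL : P ≤ P ⊔ Subgroup.centralizer (P : Set G) := le_sup_left
  have hLN := Cfsg.Lib.Block.sup_centralizer_le_normalizer P
  have hinv := Cfsg.Lib.Block.invOn_sup_centralizer P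
  obtain ⟨e, he⟩ := (Cfsg.Lib.Block.exists_pair_iff hM hB hP hPp).2
    ⟨1, (Cfsg.Lib.Block.map_conj_one P).le⟩
  have hmax := Cfsg.Lib.Block.maximal_of_defectGroup hM he hP
  obtain ⟨F, hF, -, hcoeff⟩ :=
    Cfsg.Lib.Block.exists_stabilizer_block hM hPp hPL hCL hLN he.1.2 (hinv _)
  refine ⟨⟨F, Cfsg.Lib.Block.isDefectGroup_local_of_maximal hM ⟨hF, hLN, hCL, hcoeff, hinv _⟩ hPL hmax,
    (Cfsg.Lib.Block.isBrauerPairOf_iff_induced hM hPp hCL hPL hLN hinv he.1.2 hF hcoeff hB).1 he⟩,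
    fun b b' hb hb' => ?_⟩
  obtain ⟨f, hf, hfc⟩ :=
    Cfsg.Lib.Block.exists_centralizer_block hM hPp hCL hPL hLN hinv hb.1
  obtain ⟨f', hf', hfc'⟩ :=
    Cfsg.Lib.Block.exists_centralizer_block hM hPp hCL hPL hLN hinv hb'.1
  have hfB := (Cfsg.Lib.Block.isBrauerPairOf_iff_induced hM hPp hCL hPL hLN hinv hf hb.1 hfc hB).2 hb
  have hfB' :=
    (Cfsg.Lib.Block.isBrauerPairOf_iff_induced hM hPp hCL hPL hLN hinv hf' hb'.1 hfc' hB).2 hb'
  obtain ⟨x, hx, hxe⟩ := Cfsg.Lib.Block.exists_conj_of_maximal hM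
    (Cfsg.Lib.Block.maximal_of_defectGroup hM hfB hP) hfB'
  have hxN : x ∈ Subgroup.normalizer (P : Set G) := by
    refine Subgroup.mem_normalizer_iff.2 fun a => ⟨fun ha => hx.le ⟨a, ha, rfl⟩, fun ha => ?_⟩
    obtain ⟨z, hz, hze⟩ := hx.ge ha
    rwa [(MulAut.conj x).injective (show MulAut.conj x z = MulAut.conj x a from hze)] at hz
  have hxC := Cfsg.Lib.Block.conjMaps_centralizer hx
  have hxL : Cfsg.Lib.Block.ConjMaps x (P ⊔ Subgroup.centralizer (P : Set G))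
      (P ⊔ Subgroup.centralizer (P : Set G)) := by
    refine Cfsg.Lib.Block.conjMaps_normalizer (Subgroup.mem_normalizer_iff_map_conj_eq.2 ?_)
    refine (Subgroup.map_sup _ _ (MulAut.conj x).toMonoidHom).trans ?_
    have e1 : P.map (MulAut.conj x).toMonoidHom = P := hx
    have e2 : (Subgroup.centralizer (P : Set G)).map (MulAut.conj x).toMonoidHom =
        Subgroup.centralizer (P : Set G) :=
      Cfsg.Lib.Block.map_conj_eq_self (Cfsg.Lib.Block.mem_normalizer_centralizer hxN)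
    rw [e1, e2]
  have hbb : b' = Cfsg.Lib.Block.conjSet hxL b := by
    refine Cfsg.Lib.Block.eq_of_subgroupBlockCoeff_eq fun g => ?_
    obtain ⟨k, rfl⟩ : ∃ k, x * k * x⁻¹ = g := ⟨x⁻¹ * g * x, by group⟩
    rw [Cfsg.Lib.Block.subgroupBlockCoeff_conjSet, hfc', hxe,
      Cfsg.Lib.Block.subgroupBlockCoeff_conjSet, hfc]
  refine ⟨x⁻¹, inv_mem hxN, fun θ hθ =>
    ⟨Cfsg.Lib.Block.compIrr (Cfsg.Lib.Block.conjIso hxL).symm θ, ?_, fun y hy => ?_⟩⟩
  · rw [hbb]
    exact Cfsg.Lib.Block.mem_pullSet.2 hθ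
  · rw [Cfsg.Lib.Block.compIrr_apply]
    refine congrArg θ.1 (Subtype.ext ?_)
    show x⁻¹ * (y : G) * x = x⁻¹ * (y : G) * x⁻¹⁻¹
    rw [inv_inv]

end Cfsg.Agent.S0973
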