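import Cfsg.Statements.S0975
import Cfsg.Agent.Lib.Small.BlockOrders
import Mathlib.NumberTheory.Divisors
-- import your own Cfsg.Agent.* helpers here

set_option autoImplicit false
open Cfsg

namespace Cfsg.Agent.S0975

open Cfsg.Lib.Small

theorem decide_e : ∀ e ∈ Nat.divisors 12, 2 ≤ e → ∀ n ∈ Nat.divisors 288, n % 13 = 1 → n ≠ 1 →
    n * e ∣ 288 → e = 2 := by decide +kernel

theorem decide_deg : ∀ d ∈ Nat.divisors 288, ∀ f ∈ Nat.divisors 288, 2 ≤ d →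
    ((d % 13 = 1 ∧ f = d + 1) ∨ ((d + 1) % 13 = 0 ∧ f + 1 = d)) →
    ¬ 1 + d ^ 2 + 6 * f ^ 2 ≤ 3744 := by decide +kernel

/-- No finite simple group has order 3744 = 2^5 * 3^2 * 13. -/
theorem result {G : Type*} [Group G] [Finite G] [IsSimpleGroup G] : Nat.card G ≠ 3744 := by
  classical
  intro h
  haveI := Fintype.ofFinite G
  haveI : Fact (Nat.Prime 13) := ⟨by norm_num⟩
  have hm : Nat.card G = 13 * 288 := by rw [h]
  obtain ⟨P, e, c, n, ⟨S⟩, hC, hnec, hn, hn1, he2, hed, -⟩ :=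
    block_setup (G := G) (p := 13) (by norm_num) hm (by norm_num) (by norm_num)
  have he : e = 2 := decide_e e (Nat.mem_divisors.2 ⟨hed, by norm_num⟩) he2 n
    (Nat.mem_divisors.2 ⟨⟨e * c, by rw [← hnec, mul_assoc]⟩, by norm_num⟩) hn hn1
    ⟨c, hnec.symm⟩
  obtain ⟨χ, -, -, -, -, -, hd2, -, hdm, hfm, hor, hsq⟩ :=
    S.two_cases (not_isCyclic_of_card (by rw [h]; norm_num)) hm he (by norm_num)
  refine decide_deg _ (Nat.mem_divisors.2 ⟨hdm, by norm_num⟩) _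
    (Nat.mem_divisors.2 ⟨hfm, by norm_num⟩) hd2 ?_ (by rw [h] at hsq; exact hsq)
  rcases hor with ⟨-, -, h1, h2⟩ | ⟨-, -, h1, h2⟩
  · exact Or.inl ⟨h1, h2⟩
  · exact Or.inr ⟨h1, h2⟩

end Cfsg.Agent.S0975
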