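import Cfsg.Statements.S0979
import Cfsg.Agent.Lib.Small.BlockOrders
import Mathlib.NumberTheory.Divisors
-- import your own Cfsg.Agent.* helpers here

set_option autoImplicit false
open Cfsg

namespace Cfsg.Agent.S0979

open Cfsg.Lib.Small

theorem decide_e : ∀ e ∈ Nat.divisors 18, 2 ≤ e → ∀ n ∈ Nat.divisors 288, n % 19 = 1 → n ≠ 1 →
    n * e ∣ 288 → e = 3 := by decide +kernel

theorem decide_deg : ∀ d₁ ∈ Nat.divisors 288, ∀ s₁ ∈ ([1, -1] : List ℤ), (s₁ * d₁ - 1) % 19 = 0 →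
    2 ≤ d₁ → ∀ d₂ ∈ Nat.divisors 288, ∀ s₂ ∈ ([1, -1] : List ℤ), (s₂ * d₂ - 1) % 19 = 0 → 2 ≤ d₂ →
    ∀ f ∈ Nat.divisors 288, ∀ s ∈ ([1, -1] : List ℤ), (s * f + 3) % 19 = 0 →
    1 + s₁ * d₁ + s₂ * d₂ + s * f ≠ 0 := by decide +kernel

/-- No finite simple group has order 5472 = 2^5 * 3^2 * 19. -/
theorem result {G : Type*} [Group G] [Finite G] [IsSimpleGroup G] : Nat.card G ≠ 5472 := by
  classical
  intro h
  haveI := Fintype.ofFinite G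
  haveI : Fact (Nat.Prime 19) := ⟨by norm_num⟩
  have hm : Nat.card G = 19 * 288 := by rw [h]
  obtain ⟨P, e, c, n, ⟨S⟩, hC, hnec, hn, hn1, he2, hed, -⟩ :=
    block_setup (G := G) (p := 19) (by norm_num) hm (by norm_num) (by norm_num)
  have he : e = 3 := decide_e e (Nat.mem_divisors.2 ⟨hed, by norm_num⟩) he2 n
    (Nat.mem_divisors.2 ⟨⟨e * c, by rw [← hnec, mul_assoc]⟩, by norm_num⟩) hn hn1
    ⟨c, hnec.symm⟩
  obtain ⟨χ, ψ, d₁, d₂, f, -, -, -, h1, h2, -, hd1, hd2, hf, -, s₁, hs₁, s₂, hs₂, s, hs, c1, c2, c3,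
    hrel⟩ := S.three_cases (not_isCyclic_of_card (by rw [h]; norm_num)) hm he (by norm_num)
  exact decide_deg d₁ (Nat.mem_divisors.2 ⟨hd1, by norm_num⟩) s₁ hs₁ c1 h1 d₂
    (Nat.mem_divisors.2 ⟨hd2, by norm_num⟩) s₂ hs₂ c2 h2 f
    (Nat.mem_divisors.2 ⟨hf, by norm_num⟩) s hs c3 hrel

end Cfsg.Agent.S0979
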