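import Cfsg.Statements.S0986
import Mathlib.GroupTheory.Sylow
import Mathlib.GroupTheory.Nilpotent
-- import your own Cfsg.Agent.* helpers here

set_option autoImplicit false
open Cfsg

namespace Cfsg.Agent.S0986

theorem exists_grow {G : Type*} [Group G] [Finite G] {p : ℕ} [Fact p.Prime] (P : Sylow p G)
    (D : Subgroup G) (hD : D < (P : Subgroup G)) :
    ∃ y ∈ (P : Subgroup G), y ∈ Subgroup.normalizer (D : Set G) ∧ y ∉ D := by
  have : Group.IsNilpotent (P : Subgroup G) := P.isPGroup'.isNilpotent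
  have hlt : D.subgroupOf P < ⊤ := lt_top_iff_ne_top.mpr fun h => hD.not_ge
    (Subgroup.subgroupOf_eq_top.mp h)
  obtain ⟨⟨y, hyP⟩, hy, hy'⟩ := SetLike.exists_of_lt
    (Group.normalizerCondition_of_isNilpotent _ hlt)
  refine ⟨y, hyP, ?_, hy'⟩
  have h5 : (D.subgroupOf P).map (P : Subgroup G).subtype = D :=
    Subgroup.map_subgroupOf_eq_of_le hD.le
  have h6 := Subgroup.le_normalizer_map (P : Subgroup G).subtype (Subgroup.mem_map_of_mem _ hy)
  rwa [h5] at h6


/-- Let P and Q be distinct Sylow p-subgroups of a finite group G chosen so that the order of P ∩ Q is as large as possible among intersections of two distinct Sylow p-subgroups, and let N be the normalizer of P ∩ Q. Then N has more than one Sylow p-subgroup, any two distinct Sylow p-subgroups of N intersect exactly in P ∩ Q, and each Sylow p-subgroup of N lies in exactly one Sylow p-subgroup of G. -/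
theorem result {G : Type*} [Group G] [Finite G] (p : ℕ) [Fact p.Prime] (P Q : Sylow p G) (hPQ : P ≠ Q) (hmax : ∀ P' Q' : Sylow p G, P' ≠ Q' → Nat.card ↥((P' : Subgroup G) ⊓ (Q' : Subgroup G)) ≤ Nat.card ↥((P : Subgroup G) ⊓ (Q : Subgroup G))) : 1 < Nat.card (Sylow p ↥(Subgroup.normalizer (((P : Subgroup G) ⊓ (Q : Subgroup G) : Subgroup G) : Set G))) ∧ (∀ S T : Sylow p ↥(Subgroup.normalizer (((P : Subgroup G) ⊓ (Q : Subgroup G) : Subgroup G) : Set G)), S ≠ T → (S : Subgroup _) ⊓ (T : Subgroup _) = ((P : Subgroup G) ⊓ (Q : Subgroup G)).subgroupOf (Subgroup.normalizer (((P : Subgroup G) ⊓ (Q : Subgroup G) : Subgroup G) : Set G))) ∧ ∀ S : Sylow p ↥(Subgroup.normalizer (((P : Subgroup G) ⊓ (Q : Subgroup G) : Subgroup G) : Set G)), ∃! T : Sylow p G, (S : Subgroup _).map (Subgroup.normalizer (((P : Subgroup G) ⊓ (Q : Subgroup G) : Subgroup G) : Set G)).subtype ≤ (T : Subgroup G) := by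
  classical
  set D : Subgroup G := (P : Subgroup G) ⊓ (Q : Subgroup G) with hD
  let N : Subgroup G := Subgroup.normalizer (D : Set G)
  have hDN : D ≤ N := Subgroup.le_normalizer
  have hDp : IsPGroup p D := P.isPGroup'.to_le inf_le_left
  have hDP : D < (P : Subgroup G) := lt_of_le_of_ne inf_le_left fun h => hPQ
    (Sylow.ext (P.is_maximal' Q.isPGroup' (h ▸ inf_le_right)).symm)
  have hDQ : D < (Q : Subgroup G) := lt_of_le_of_ne inf_le_right fun h => hPQ
    (Sylow.ext (Q.is_maximal' P.isPGroup' (h ▸ inf_le_left)))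
  have hDS : ∀ S : Sylow p N, D.subgroupOf N ≤ (S : Subgroup N) := fun S =>
    IsPGroup.le_sylow_of_normal (hDp.of_equiv (Subgroup.subgroupOfEquivOfLe hDN).symm) S
  have hext : ∀ S : Sylow p N, ∃ T : Sylow p G, (S : Subgroup N).map N.subtype ≤ (T : Subgroup G) :=
    fun S => (S.isPGroup'.map _).exists_le_sylow
  have hinter : ∀ T T' : Sylow p G, T ≠ T' → D ≤ (T : Subgroup G) ⊓ (T' : Subgroup G) →
      (T : Subgroup G) ⊓ (T' : Subgroup G) = D := fun T T' hne hle =>
    (Subgroup.eq_of_le_of_card_ge hle (hmax T T' hne)).symm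
  have huniq : ¬ Subsingleton (Sylow p N) := by
    intro hsub
    obtain ⟨S⟩ : Nonempty (Sylow p N) := inferInstance
    obtain ⟨T, hT⟩ := hext S
    have hmem : ∀ R : Sylow p G, D < (R : Subgroup G) → T = R := by
      intro R hR
      obtain ⟨y, hyR, hyN, hyD⟩ := exists_grow R D hR
      obtain ⟨S', hS'⟩ := (R.isPGroup'.comap_subtype (K := N)).exists_le_sylow
      rw [Subsingleton.elim S' S] at hS'
      have hyT : y ∈ (T : Subgroup G) := hT ⟨⟨y, hyN⟩, hS' hyR, rfl⟩
      by_contra hne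
      have hle : D ≤ (T : Subgroup G) ⊓ (R : Subgroup G) :=
        le_inf (fun a ha => hT ⟨⟨a, hDN ha⟩, hDS S ha, rfl⟩) hR.le
      exact hyD (hinter T R hne hle ▸ ⟨hyT, hyR⟩)
    exact hPQ ((hmem P hDP).symm.trans (hmem Q hDQ))
  have hDsub : ∀ S : Sylow p N, D ≤ (S : Subgroup N).map N.subtype := fun S a ha =>
    ⟨⟨a, hDN ha⟩, hDS S ha, rfl⟩
  refine ⟨?_, ?_, ?_⟩
  · have : Nontrivial (Sylow p N) := not_subsingleton_iff_nontrivial.mp huniq
    exact Finite.one_lt_card
  · intro S S' hne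
    refine le_antisymm ?_ (le_inf (hDS S) (hDS S'))
    obtain ⟨T, hT⟩ := hext S
    obtain ⟨T', hT'⟩ := hext S'
    have hTT : T ≠ T' := by
      rintro rfl
      have hp := T.isPGroup'.comap_subtype (K := N)
      have h1 : (S : Subgroup N) ≤ (T : Subgroup G).comap N.subtype := Subgroup.map_le_iff_le_comap.mp hT
      have h2 : (S' : Subgroup N) ≤ (T : Subgroup G).comap N.subtype := Subgroup.map_le_iff_le_comap.mp hT'
      exact hne (Sylow.ext ((S.is_maximal' hp h1).symm.trans (S'.is_maximal' hp h2)))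
    intro a ha
    rw [Subgroup.mem_subgroupOf]
    exact (hinter T T' hTT (le_inf ((hDsub S).trans hT) ((hDsub S').trans hT'))).le
      ⟨hT ⟨a, ha.1, rfl⟩, hT' ⟨a, ha.2, rfl⟩⟩
  · intro S
    obtain ⟨T, hT⟩ := hext S
    refine ⟨T, hT, fun T' hT' => ?_⟩
    by_contra hne
    have hle : (S : Subgroup N) ≤ D.subgroupOf N := by
      intro a ha
      rw [Subgroup.mem_subgroupOf]
      exact (hinter T' T hne (le_inf ((hDsub S).trans hT') ((hDsub S).trans hT))).le
        ⟨hT' ⟨a, ha, rfl⟩, hT ⟨a, ha, rfl⟩⟩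
    apply huniq
    refine ⟨fun S1 S2 => ?_⟩
    have h : ∀ S1 : Sylow p N, S1 = S := fun S1 =>
      Sylow.ext (S.is_maximal' S1.isPGroup' (hle.trans (hDS S1)))
    rw [h S1, h S2]

end Cfsg.Agent.S0986
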