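import Cfsg.Statements.S0987
import Mathlib.GroupTheory.Transfer

set_option autoImplicit false
open Cfsg

namespace Cfsg.Agent.S0987

open Subgroup

theorem sylow_card {G : Type*} [Group G] [Finite G] (p : ℕ) [Fact p.Prime] {k m : ℕ}
    (hk : Nat.card G = p ^ k * m) (hm : ¬ p ∣ m) (P : Sylow p G) : Nat.card (P : Subgroup G) = p ^ k := by
  rw [P.card_eq_multiplicity, hk]
  congr 1
  rw [Nat.factorization_mul (pow_ne_zero _ (Fact.out : p.Prime).ne_zero) (by rintro rfl; simp at hm),
    Nat.Prime.factorization_pow Fact.out, Finsupp.add_apply, Finsupp.single_eq_same,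
    Nat.factorization_eq_zero_of_not_dvd hm, add_zero]

theorem sylow_facts {G : Type*} [Group G] [Finite G] (p : ℕ) [Fact p.Prime] {k m : ℕ}
    (hk : Nat.card G = p ^ k * m) (hm : ¬ p ∣ m) (P : Sylow p G) :
    Nat.card (Sylow p G) ∣ m ∧ Nat.card (Sylow p G) % p = 1 ∧
      Nat.card (Sylow p G) * Nat.card (normalizer ((P : Subgroup G) : Set G)) = Nat.card G := by
  refine ⟨?_, ?_, ?_⟩
  · have h1 := P.card_dvd_index
    have h2 := Subgroup.card_mul_index (P : Subgroup G)
    rw [sylow_card p hk hm P, hk] at h2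
    rwa [Nat.eq_of_mul_eq_mul_left (pow_pos (Fact.out : p.Prime).pos k) h2] at h1
  · have h1 : Nat.card (Sylow p G) % p = 1 % p := card_sylow_modEq_one p G
    rw [h1, Nat.one_mod_eq_one.2 (Fact.out : p.Prime).ne_one]
  · rw [P.card_eq_index_normalizer, Sylow.coe_coe]; exact Subgroup.index_mul_card _


/-- If a finite group has order pqr for primes p < q < r, then its Sylow r-subgroups are normal. -/
theorem result {G : Type*} [Group G] [Finite G] (p q r : ℕ) (hp : p.Prime) (hq : q.Prime) [Fact r.Prime] (hpq : p < q) (hqr : q < r) (hG : Nat.card G = p * q * r) (R : Sylow r G) : (R : Subgroup G).Normal := by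
  classical
  have hp' : Fact p.Prime := ⟨hp⟩
  have hmin : (Nat.card G).minFac = p := by
    refine le_antisymm (Nat.minFac_le_of_dvd hp.two_le (hG ▸ ⟨q * r, by ring⟩)) ?_
    have hne : Nat.card G ≠ 1 := fun h => by
      rw [hG, mul_assoc] at h
      exact hp.ne_one (Nat.eq_one_of_mul_eq_one_right h)
    have hpr := Nat.minFac_prime hne
    have hd := Nat.minFac_dvd (Nat.card G)
    rw [hG] at hd
    have hr : r.Prime := Fact.out
    rcases (Nat.Prime.dvd_mul (hG ▸ hpr)).mp hd with h | h
    · rcases (Nat.Prime.dvd_mul (hG ▸ hpr)).mp h with h | h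
      · rw [hG, (Nat.prime_dvd_prime_iff_eq (hG ▸ hpr) hp).mp h]
      · rw [hG, (Nat.prime_dvd_prime_iff_eq (hG ▸ hpr) hq).mp h]; exact hpq.le
    · rw [hG, (Nat.prime_dvd_prime_iff_eq (hG ▸ hpr) hr).mp h]; exact (hpq.trans hqr).le
  obtain ⟨P⟩ : Nonempty (Sylow p G) := inferInstance
  have hr : r.Prime := Fact.out
  have hndp : ∀ s : ℕ, s.Prime → p < s → ¬ p ∣ s := fun s hs hlt h =>
    hlt.ne ((Nat.prime_dvd_prime_iff_eq hp hs).mp h)
  have hPc : Nat.card (P : Subgroup G) = p ^ 1 :=
    (Cfsg.Agent.S0987.sylow_card p (k := 1) (m := q * r) (by rw [hG]; ring)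
      (fun h => ((Nat.Prime.dvd_mul hp).mp h).elim (hndp q hq hpq) (hndp r hr (hpq.trans hqr)))) P
  have hcyc : IsCyclic (P : Subgroup G) := isCyclic_of_prime_card (by rw [hPc, pow_one])
  have hc := IsCyclic.isComplement' hmin hcyc
  set N := (MonoidHom.transferSylow P (hcyc.normalizer_le_centralizer hmin)).ker
  have hNn : N.Normal := inferInstance
  have hNc : Nat.card N = q * r := by
    have h := hc.card_mul_card
    rw [hPc, pow_one, hG] at h
    exact Nat.eq_of_mul_eq_mul_right hp.pos (h.trans (by ring))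
  obtain ⟨R₁⟩ : Nonempty (Sylow r N) := inferInstance
  have hndr : ¬ r ∣ q := fun h => hqr.ne' ((Nat.prime_dvd_prime_iff_eq hr hq).mp h)
  have hR₁ : Nat.card (R₁ : Subgroup N) = r ^ 1 :=
    Cfsg.Agent.S0987.sylow_card r (k := 1) (m := q) (by rw [hNc]; ring) hndr R₁
  have hone : Nat.card (Sylow r N) = 1 := by
    have hd : Nat.card (Sylow r N) ∣ q := by
      have h1 := R₁.card_dvd_index
      have h2 := (R₁ : Subgroup N).card_mul_index
      rw [hR₁, hNc, pow_one, mul_comm q r] at h2
      rwa [Nat.eq_of_mul_eq_mul_left hr.pos h2] at h1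
    rcases (Nat.dvd_prime hq).mp hd with h | h
    · exact h
    · exfalso
      have h1 : Nat.card (Sylow r N) % r = 1 % r := card_sylow_modEq_one r N
      rw [h, Nat.mod_eq_of_lt hqr, Nat.mod_eq_of_lt hr.one_lt] at h1
      exact hq.ne_one h1
  have : Subsingleton (Sylow r N) := (Nat.card_eq_one_iff_unique.mp hone).1
  have hchar : (R₁ : Subgroup N).Characteristic := Sylow.characteristic_of_normal R₁ (R₁.normal_of_subsingleton)
  have hRn : ((R₁ : Subgroup N).map N.subtype).Normal := inferInstance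
  have hle : (R₁ : Subgroup N).map N.subtype ≤ (R : Subgroup G) :=
    IsPGroup.le_sylow_of_normal (R₁.2.map _) R
  have heq : (R₁ : Subgroup N).map N.subtype = (R : Subgroup G) := by
    refine eq_of_le_of_card_ge hle ?_
    rw [card_map_of_injective N.subtype_injective, hR₁]
    refine (Cfsg.Agent.S0987.sylow_card r (k := 1) (m := p * q) (by rw [hG]; ring) ?_ R).le
    intro h
    rcases (Nat.Prime.dvd_mul hr).mp h with h | h
    · exact (hpq.trans hqr).ne' ((Nat.prime_dvd_prime_iff_eq hr hp).mp h)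
    · exact hndr h
  exact heq ▸ hRn

end Cfsg.Agent.S0987
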