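import Cfsg.Statements.S0988
import Cfsg.Agent.S0144
import Cfsg.Agent.Lib.Small.SimpleOrder
-- import your own Cfsg.Agent.* helpers here

set_option autoImplicit false
open Cfsg

namespace Cfsg.Agent.S0988

open Cfsg.Lib.Small

theorem not_two_primes_order {G : Type*} [Group G] [Finite G] [IsSimpleGroup G] {p q a b : ℕ} (hp : p.Prime)
    (hq : q.Prime) (hG : Nat.card G = p ^ a * q ^ b) : (Nat.card G).Prime := by
  have hs := Cfsg.Agent.S0144.result p q a b hp hq hG
  by_contra hnp
  exact Cfsg.Lib.OrderLeHundred.not_solvable (not_isCyclic_of_card hnp) hs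

theorem small_sylow_false {G : Type*} [Group G] [Finite G] [IsSimpleGroup G] (hG : ¬ IsCyclic G) {l : ℕ}
    [Fact l.Prime] (P : Sylow l G) (hP : Nat.card ↥(P : Subgroup G) = l)
    (hmin : ∀ s : ℕ, s.Prime → s ∣ Nat.card G → l ≤ s) : False := by
  refine not_normalizer_le_centralizer hG P (fun h => ?_) ?_
  · rw [h, Subgroup.card_bot] at hP
    exact (Fact.out : l.Prime).one_lt.ne hP
  · rw [← Subgroup.relIndex_eq_one]
    by_contra hne
    obtain ⟨s, hs, hsd⟩ := Nat.exists_prime_and_dvd hne
    have h1 := Nat.le_of_dvd (by have := (Fact.out : l.Prime).two_le; omega)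
      (hsd.trans (relIndex_centralizer_dvd (P : Subgroup G) hP))
    have h2 := hmin s hs ((hsd.trans (Subgroup.relIndex_dvd_card _ _)).trans (Subgroup.card_subgroup_dvd_card _))
    have h3 := (Fact.out : l.Prime).two_le
    omega

theorem three_of_sq {G : Type*} [Group G] [Finite G] [IsSimpleGroup G] (hG : ¬ IsCyclic G) {p : ℕ}
    [Fact p.Prime] (P : Sylow p G) (hP : Nat.card ↥(P : Subgroup G) = p ^ 2)
    (hmin : ∀ s : ℕ, s.Prime → s ∣ Nat.card G → p ≤ s) : p = 2 ∧ 3 ∣ Nat.card G := by
  have hp : p.Prime := Fact.out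
  have hab : IsMulCommutative ↥(P : Subgroup G) := IsPGroup.isMulCommutative_of_card_eq_prime_sq hP
  set N := Subgroup.normalizer ((P : Subgroup G) : Set G) with hN
  set C := Subgroup.centralizer ((P : Subgroup G) : Set G) with hC
  have hne : C.relIndex N ≠ 1 := fun h =>
    not_normalizer_le_centralizer hG P (fun h' => by
      rw [h', Subgroup.card_bot] at hP
      exact (Nat.one_lt_pow (by norm_num) hp.one_lt).ne hP) (Subgroup.relIndex_eq_one.1 h)
  let φ := (P : Subgroup G).normalizerMonoidHom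
  have hcard : Nat.card ↥φ.range = C.relIndex N := by
    rw [← Subgroup.index_ker, Subgroup.normalizerMonoidHom_ker]
    rfl
  obtain ⟨s, hs, hsd⟩ := Nat.exists_prime_and_dvd (hcard ▸ hne)
  have := Fact.mk hs
  obtain ⟨y, hy⟩ := exists_prime_orderOf_dvd_card' s hsd
  have hsp : s ≠ p := by
    rintro rfl
    -- `P` centralises itself, so `p` does not divide `[N : C]`
    have hPC : (P : Subgroup G) ≤ C := fun a ha => Subgroup.mem_centralizer_iff.2 fun b hb =>
      congrArg Subtype.val (hab.is_comm.comm (⟨b, hb⟩ : ↥(P : Subgroup G)) ⟨a, ha⟩)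
    refine P.not_dvd_index' Subgroup.index_ne_zero_of_finite ((hcard ▸ hsd).trans ?_)
    refine (Subgroup.relIndex_dvd_of_le_left N hPC).trans ?_
    exact Subgroup.relIndex_dvd_index_of_le Subgroup.le_normalizer
  have hge : p < s := lt_of_le_of_ne
    (hmin s hs ((hcard ▸ hsd).trans ((Subgroup.relIndex_dvd_card _ _).trans (Subgroup.card_subgroup_dvd_card _))))
    (Ne.symm hsp)
  -- fixed points of `y`
  let T : Subgroup (MulAut ↥(P : Subgroup G)) := Subgroup.zpowers (y : MulAut ↥(P : Subgroup G))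
  have hT : IsPGroup s ↥T :=
    IsPGroup.of_card (n := 1) (by rw [Nat.card_zpowers, pow_one, Subgroup.orderOf_coe, hy])
  have hmod := hT.card_modEq_card_fixedPoints ↥(P : Subgroup G)
  let F : Subgroup ↥(P : Subgroup G) := (y : MulAut ↥(P : Subgroup G)).toMonoidHom.eqLocus (MonoidHom.id _)
  have hF : Nat.card (MulAction.fixedPoints ↥T ↥(P : Subgroup G)) = Nat.card ↥F := by
    refine Nat.card_congr (Equiv.setCongr ?_)
    ext x
    refine ⟨fun h => h ⟨_, Subgroup.mem_zpowers _⟩, fun h t => ?_⟩
    obtain ⟨k, hk⟩ := Subgroup.mem_zpowers_iff.1 t.2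
    show (t : MulAut ↥(P : Subgroup G)) x = x
    rw [← hk]
    have h' : (y : MulAut ↥(P : Subgroup G)) • x = x := h
    exact MulAction.mem_stabilizer_iff.1
      (Subgroup.zpow_mem _ (MulAction.mem_stabilizer_iff.2 h') k)
  have hFd : Nat.card ↥F ∣ p ^ 2 := hP ▸ F.card_subgroup_dvd_card
  obtain ⟨j, hj, hFj⟩ := (Nat.dvd_prime_pow hp).1 hFd
  rw [hF, hP, hFj] at hmod
  have hFne : Nat.card ↥F ≠ p ^ 2 := by
    intro h
    have hFtop : F = ⊤ := Subgroup.eq_top_of_card_eq _ (by rw [h, hP])
    have hy1 : (y : MulAut ↥(P : Subgroup G)) = 1 := MulEquiv.ext fun x => (hFtop ▸ Subgroup.mem_top x : x ∈ F)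
    rw [← Subgroup.orderOf_coe, hy1, orderOf_one] at hy
    exact hs.one_lt.ne hy
  have hd : (s : ℤ) ∣ (p : ℤ) ^ 2 - (p : ℤ) ^ j := by
    have := (Nat.modEq_iff_dvd.1 hmod.symm)
    push_cast at this
    exact this
  have hsP : Prime (s : ℤ) := Nat.prime_iff_prime_int.1 hs
  interval_cases j
  · have h3 : (s : ℤ) ∣ ((p : ℤ) - 1) * ((p : ℤ) + 1) := by
      rw [show ((p : ℤ) - 1) * ((p : ℤ) + 1) = (p : ℤ) ^ 2 - (p : ℤ) ^ 0 by ring]; exact hd
    rcases hsP.dvd_mul.1 h3 with h4 | h4
    · have := Int.le_of_dvd (by have := hp.two_le; omega) h4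
      omega
    · have h5 : s ∣ p + 1 := by exact_mod_cast h4
      have h6 := Nat.le_of_dvd (by omega) h5
      have hs1 : s = p + 1 := by omega
      have hp2 : p = 2 := by
        by_contra hne2
        have hpo := hp.odd_of_ne_two hne2
        have hse : Even s := by rw [hs1]; exact hpo.add_one
        have := (hs.even_iff).1 hse
        have := hp.two_le
        omega
      subst hp2
      refine ⟨rfl, ?_⟩
      rw [show (3 : ℕ) = s by omega]
      exact (hcard ▸ hsd).trans ((Subgroup.relIndex_dvd_card _ _).trans (Subgroup.card_subgroup_dvd_card _))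
  · exfalso
    have h3 : (s : ℤ) ∣ (p : ℤ) * ((p : ℤ) - 1) := by
      rw [show (p : ℤ) * ((p : ℤ) - 1) = (p : ℤ) ^ 2 - (p : ℤ) ^ 1 by ring]; exact hd
    rcases hsP.dvd_mul.1 h3 with h4 | h4
    · exact hsp ((Nat.prime_dvd_prime_iff_eq hs hp).1 (by exact_mod_cast h4))
    · have := Int.le_of_dvd (by have := hp.two_le; omega) h4
      omega
  · exact absurd hFj hFne

theorem main_order {G : Type*} [Group G] [Finite G] [IsSimpleGroup G] (p q r : ℕ) (hp : p.Prime) (hq : q.Prime)
    (hr : r.Prime) (hcard : Nat.card G = p ^ 2 * q * r) : Nat.card G = 60 := by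
  have hnp : ¬ (Nat.card G).Prime := by
    rw [hcard, mul_assoc]
    exact Nat.not_prime_mul (Nat.one_lt_pow (by norm_num) hp.one_lt).ne'
      (Nat.one_lt_mul_iff.2 ⟨hq.pos, hr.pos, Or.inl hq.one_lt⟩).ne'
  by_cases hpq : p = q
  · subst hpq
    exact absurd (not_two_primes_order (a := 3) (b := 1) hp hr (by rw [hcard]; ring)) hnp
  by_cases hpr : p = r
  · subst hpr
    exact absurd (not_two_primes_order (a := 3) (b := 1) hp hq (by rw [hcard]; ring)) hnp
  by_cases hqr : q = r
  · subst hqr
    exact absurd (not_two_primes_order (a := 2) (b := 2) hp hq (by rw [hcard]; ring)) hnp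
  have hG := not_isCyclic_of_card (G := G) hnp
  wlog hle : q ≤ r generalizing q r with H
  · exact H r q hr hq (by rw [hcard]; ring) hpr hpq (Ne.symm hqr) (by omega)
  have hprimes : ∀ s : ℕ, s.Prime → s ∣ Nat.card G → s = p ∨ s = q ∨ s = r := by
    intro s hs hd
    rw [hcard] at hd
    rcases hs.dvd_mul.1 hd with h | h
    · rcases hs.dvd_mul.1 h with h | h
      · exact Or.inl ((Nat.prime_dvd_prime_iff_eq hs hp).1 (hs.dvd_of_dvd_pow h))
      · exact Or.inr (Or.inl ((Nat.prime_dvd_prime_iff_eq hs hq).1 h))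
    · exact Or.inr (Or.inr ((Nat.prime_dvd_prime_iff_eq hs hr).1 h))
  have hplt : p < q := by
    by_contra hge
    have := Fact.mk hq
    have hm : ¬ q ∣ p ^ 2 * r := fun h => by
      rcases hq.dvd_mul.1 h with h | h
      · exact hpq ((Nat.prime_dvd_prime_iff_eq hq hp).1 (hq.dvd_of_dvd_pow h)).symm
      · exact hqr ((Nat.prime_dvd_prime_iff_eq hq hr).1 h)
    refine small_sylow_false hG (default : Sylow q G)
      ((card_sylow 1 (p ^ 2 * r) (by rw [hcard]; ring) hm _).trans (pow_one q)) fun s hs hd => ?_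
    rcases hprimes s hs hd with rfl | rfl | rfl <;> omega
  have := Fact.mk hp
  have hm : ¬ p ∣ q * r := fun h => by
    rcases hp.dvd_mul.1 h with h | h
    · exact hpq ((Nat.prime_dvd_prime_iff_eq hp hq).1 h)
    · exact hpr ((Nat.prime_dvd_prime_iff_eq hp hr).1 h)
  obtain ⟨rfl, h3⟩ := three_of_sq hG (default : Sylow p G) (card_sylow 2 (q * r) (by rw [hcard]; ring) hm _)
    (fun s hs hd => by rcases hprimes s hs hd with rfl | rfl | rfl <;> omega)
  have hq3 : q = 3 := by
    rcases hprimes 3 Nat.prime_three h3 with h | h | h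
    · omega
    · exact h.symm
    · omega
  subst hq3
  have := Fact.mk hr
  have hmr : ¬ r ∣ 12 := fun h => by
    have := Nat.le_of_dvd (by norm_num) h
    have := hr.two_le
    interval_cases r <;> first | omega | (norm_num at h hr)
  obtain ⟨hnd, hnm⟩ := sylow_facts (G := G) (p := r) 1 12 (by rw [hcard]; ring) hmr
  have hn1 : Nat.card (Sylow r G) ≠ 1 := Cfsg.Lib.OrderLeHundred.sylow_ne_one hG r (k := 1) (m := 12)
    (by rw [hcard]; ring) hmr (by norm_num) (by norm_num)
  have hn12 : Nat.card (Sylow r G) ≠ 12 := by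
    intro h
    let P : Sylow r G := default
    have hPc := card_sylow 1 12 (by rw [hcard]; ring) hmr P
    rw [pow_one] at hPc
    have h1 := card_normalizer_mul P
    rw [h, hcard] at h1
    refine not_normalizer_le_centralizer hG P (fun h' => by
      rw [h', Subgroup.card_bot] at hPc
      exact hr.one_lt.ne hPc) ?_
    have heq : Subgroup.normalizer ((P : Subgroup G) : Set G) = (P : Subgroup G) :=
      (Subgroup.eq_of_le_of_card_ge Subgroup.le_normalizer (by rw [hPc]; omega)).symm
    have : IsCyclic ↥(P : Subgroup G) := isCyclic_of_prime_card hPc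
    rw [heq]
    exact Subgroup.le_centralizer (P : Subgroup G)
  have hr5 : r = 5 := by
    have hle12 := Nat.le_of_dvd (by norm_num) hnd
    have hmem : Nat.card (Sylow r G) ∈ Nat.divisors 12 := Nat.mem_divisors.2 ⟨hnd, by norm_num⟩
    rw [show Nat.divisors 12 = {1, 2, 3, 4, 6, 12} by decide] at hmem
    simp only [Finset.mem_insert, Finset.mem_singleton] at hmem
    have hr5' : 5 ≤ r := by
      by_contra hlt
      have := hr.two_le
      interval_cases r <;> first | omega | (norm_num at hr)
    rcases Nat.lt_or_ge r 12 with hlt | hge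
    · interval_cases r <;> first | rfl | omega | (norm_num at hr)
    · rcases hmem with h | h | h | h | h | h <;> rw [h] at hnm hn1 hn12 <;>
        first
        | omega
        | (rw [Nat.mod_eq_of_lt (by omega)] at hnm; omega)
  subst hr5
  rw [hcard]
  norm_num


/-- If a finite simple group has order p^2 * q * r with p, q and r prime, then its order is 60. -/
theorem result {G : Type*} [Group G] [Finite G] [IsSimpleGroup G] (p q r : ℕ) (hp : p.Prime) (hq : q.Prime) (hr : r.Prime) (hG : Nat.card G = p ^ 2 * q * r) : Nat.card G = 60 := by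
  exact main_order p q r hp hq hr hG

end Cfsg.Agent.S0988
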