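import Cfsg.Statements.S0992
import Cfsg.Agent.Lib.OrderLeHundred
import Cfsg.Agent.Lib.Invol.Cyclic
import Cfsg.Agent.Lib.Fusion.Abelian
import Mathlib.GroupTheory.SpecificGroups.KleinFour

set_option autoImplicit false
open Cfsg

namespace Cfsg.Agent.S0992

open Subgroup


/-- Let G be a non-abelian finite simple group of even order not divisible by 8, and T a Sylow 2-subgroup. Then T is a Klein four-group and the centralizer of T has index 3 in the normalizer of T. -/
theorem result {G : Type*} [Group G] [Finite G] [IsSimpleGroup G] (hG : ¬ IsMulCommutative G) (h2 : Even (Nat.card G)) (h8 : ¬ 8 ∣ Nat.card G) (T : Sylow 2 G) : IsKleinFour ↥(T : Subgroup G) ∧ (Subgroup.centralizer ((T : Subgroup G) : Set G)).relIndex (Subgroup.normalizer ((T : Subgroup G) : Set G)) = 3 := by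
  classical
  have : Fact (Nat.Prime 2) := ⟨Nat.prime_two⟩
  have hnc : ¬ IsCyclic G := fun h => hG IsCyclic.isMulCommutative
  obtain ⟨a, ha⟩ := IsPGroup.iff_card.mp T.2
  have hfac := T.card_eq_multiplicity
  have ha2 : a ≤ 2 := by
    by_contra h
    exact h8 (((pow_dvd_pow 2 (by omega : 3 ≤ a)).trans ha.symm.dvd).trans (card_subgroup_dvd_card _))
  have hncT : ¬ IsCyclic (T : Subgroup G) := fun h => by
    obtain ⟨H, hH⟩ := Cfsg.Lib.Invol.exists_index_two_of_isCyclic h2 T h
    exact Cfsg.Lib.OrderLeHundred.no_index_two hnc H hH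
  have ha' : a = 2 := by
    rcases Nat.lt_or_ge a 2 with h | h
    · exfalso
      rcases (show a = 0 ∨ a = 1 by omega) with rfl | rfl
      · exact hncT (by
          have := (Nat.card_eq_one_iff_unique.mp (by simpa using ha : Nat.card (T : Subgroup G) = 1)).1
          infer_instance)
      · exact hncT (isCyclic_of_prime_card (by simpa using ha))
    · omega
  subst ha'
  have : Nontrivial (T : Subgroup G) := Finite.one_lt_card_iff_nontrivial.mp (by rw [ha]; norm_num)
  have hexp : Monoid.exponent (T : Subgroup G) = 2 := by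
    refine Monoid.exponent_eq_prime_iff (Nat.prime_two) |>.mpr fun g hg => ?_
    obtain ⟨j, hj, hjg⟩ := (Nat.dvd_prime_pow Nat.prime_two).mp (ha ▸ orderOf_dvd_natCard g)
    rcases (show j = 0 ∨ j = 1 ∨ j = 2 by omega) with rfl | rfl | rfl
    · exact absurd (orderOf_eq_one_iff.mp (by simpa using hjg)) hg
    · simpa using hjg
    · exact absurd (isCyclic_of_orderOf_eq_card g (by rw [hjg, ha])) hncT
  have hK : IsKleinFour ↥(T : Subgroup G) := ⟨by simpa using ha, hexp⟩
  refine ⟨hK, ?_⟩
  set N := normalizer ((T : Subgroup G) : Set G)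
  set C := centralizer ((T : Subgroup G) : Set G)
  have hab : IsMulCommutative (T : Subgroup G) := IsKleinFour.isMulCommutative (G := (T : Subgroup G))
  have hTC : (T : Subgroup G) ≤ C := le_centralizer _
  have hodd : ¬ 2 ∣ C.relIndex N := fun h => T.not_dvd_index (h.trans
    ((relIndex_dvd_of_le_left N hTC).trans (relIndex_dvd_index_of_le le_normalizer)))
  have hne : C.relIndex N ≠ 1 := by
    intro h1
    obtain ⟨P, K, hKn, hc⟩ := Cfsg.Lib.Fusion.hasNormalPComplement_of_normalizer_le_centralizer T
      (relIndex_eq_one.mp h1)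
    have hcm := hc.card_mul_card
    rcases hKn.eq_bot_or_eq_top with h | h
    · rw [h, card_bot, one_mul] at hcm
      have hpg : IsPGroup 2 G := IsPGroup.of_card (n := 2) (by
        rw [← hcm, P.card_eq_multiplicity, ← hfac, ha])
      exact hG ((IsSimpleGroup.comm_iff_isSolvable (G := G)).mpr (by
        have := hpg.isNilpotent; infer_instance) |> fun h => ⟨⟨h⟩⟩)
    · rw [h, card_top, P.card_eq_multiplicity, ← hfac, ha] at hcm
      have := Nat.card_pos (α := G)
      omega
  -- the quotient embeds in the permutations of the three involutions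
  let X := {t : (T : Subgroup G) // t ≠ 1}
  have hX : Nat.card X = 3 := by
    have := Fintype.ofFinite (T : Subgroup G)
    rw [Nat.card_eq_fintype_card (α := X), Fintype.card_subtype_compl, Fintype.card_subtype_eq,
      ← Nat.card_eq_fintype_card, ha]
    norm_num
  let act : MulAction N X :=
    { smul := fun n t => ⟨⟨(n : G) * (t.1 : G) * (n : G)⁻¹, (mem_normalizer_iff.mp n.2 _).mp t.1.2⟩,
        fun h => t.2 (Subtype.ext (conj_eq_one_iff.mp (congrArg Subtype.val h)))⟩
      one_smul := fun t => Subtype.ext (Subtype.ext (by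
        show (1 : G) * (t.1 : G) * (1 : G)⁻¹ = t.1
        simp))
      mul_smul := fun a b t => Subtype.ext (Subtype.ext (by
        show (a : G) * b * (t.1 : G) * ((a : G) * b)⁻¹ = (a : G) * ((b : G) * (t.1 : G) * (b : G)⁻¹) * (a : G)⁻¹
        simp [mul_assoc])) }
  have hker : (MulAction.toPermHom N X).ker = C.subgroupOf N := by
    ext n
    rw [MonoidHom.mem_ker, mem_subgroupOf, mem_centralizer_iff]
    constructor
    · intro h t ht
      by_cases ht1 : t = 1
      · simp [ht1]
      have h1 := congrArg (fun e : Equiv.Perm X => ((e ⟨⟨t, ht⟩, fun hh => ht1 (congrArg Subtype.val hh)⟩).1 : G)) h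
      exact (mul_inv_eq_iff_eq_mul.mp h1).symm
    · intro h
      ext t
      show (n : G) * (t.1 : G) * (n : G)⁻¹ = (t.1 : G)
      exact mul_inv_eq_iff_eq_mul.mpr (h _ t.1.2).symm
  have hd : C.relIndex N ∣ 6 := by
    show (C.subgroupOf N).index ∣ 6
    rw [← hker, index_ker]
    refine (card_subgroup_dvd_card _).trans (dvd_of_eq ?_)
    rw [Nat.card_perm, hX]
    rfl
  have h6 := Nat.le_of_dvd (by norm_num) hd
  interval_cases hr : C.relIndex N <;> first | omega | exact absurd hd (by norm_num) | norm_num at *

end Cfsg.Agent.S0992
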