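import Cfsg.Statements.S0994
import Cfsg.Agent.Lib.Small.SimpleOrder
-- import your own Cfsg.Agent.* helpers here

set_option autoImplicit false
open Cfsg

namespace Cfsg.Agent.S0994


/-- No finite simple group has order 1188 = 2^2 * 3^3 * 11. -/
theorem result {G : Type*} [Group G] [Finite G] [IsSimpleGroup G] : Nat.card G ≠ 1188 := by
  classical
  intro h
  have := Fact.mk (show Nat.Prime 11 by norm_num)
  have hnc := Cfsg.Lib.Small.not_isCyclic_of_card (G := G) (by rw [h]; norm_num)
  have hk : Nat.card G = 11 ^ 1 * 108 := by rw [h]; norm_num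
  obtain ⟨hc, hd, hm⟩ := Cfsg.Lib.OrderLeHundred.sylow_count 11 hk (by norm_num)
  have hn1 := Cfsg.Lib.OrderLeHundred.sylow_ne_one hnc 11 hk (by norm_num) one_ne_zero (by norm_num)
  have hn : Nat.card (Sylow 11 G) = 12 := by
    have := Nat.le_of_dvd (by norm_num) hd
    interval_cases hh : Nat.card (Sylow 11 G) <;> omega
  obtain ⟨P⟩ : Nonempty (Sylow 11 G) := inferInstance
  have hP : Nat.card (P : Subgroup G) = 11 := by rw [hc P, pow_one]
  apply Cfsg.Lib.Small.not_normalizer_le_centralizer hnc P (fun hb => by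
    rw [hb, Subgroup.card_bot] at hP; norm_num at hP)
  have hN := Cfsg.Lib.Small.card_normalizer_mul P
  rw [hn, h] at hN
  have h1 := Cfsg.Lib.Small.relIndex_centralizer_dvd (P : Subgroup G) hP
  have h2 := Subgroup.relIndex_dvd_card (Subgroup.centralizer ((P : Subgroup G) : Set G))
    (Subgroup.normalizer ((P : Subgroup G) : Set G))
  rw [show Nat.card ↥(Subgroup.normalizer ((P : Subgroup G) : Set G)) = 99 by omega] at h2
  rw [← Subgroup.relIndex_eq_one]
  exact Nat.eq_one_of_dvd_coprimes (show Nat.Coprime 10 99 by norm_num) h1 h2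

end Cfsg.Agent.S0994
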