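import Cfsg.Statements.S0995
import Mathlib.GroupTheory.Sylow
import Mathlib.GroupTheory.GroupAction.ConjAct
-- import your own Cfsg.Agent.* helpers here

set_option autoImplicit false
open Cfsg

namespace Cfsg.Agent.S0995


/-- Let G be a finite perfect group containing an element z of prime order p whose centralizer is the cyclic group it generates. Let t be the number of conjugacy classes of elements of order p. Then t divides p - 1, the number of Sylow p-subgroups has the form 1 + n * p, and |G| * t = (p - 1) * p * (1 + n * p). -/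
theorem result {G : Type*} [Group G] [Finite G] (hperf : commutator G = ⊤) (p : ℕ) [Fact p.Prime] (z : G) (hz : orderOf z = p) (hC : Subgroup.centralizer ({z} : Set G) = Subgroup.zpowers z) : ∃ n t : ℕ, t = Nat.card {c : ConjClasses G // ∃ g : G, ConjClasses.mk g = c ∧ orderOf g = p} ∧ t ∣ p - 1 ∧ Nat.card (Sylow p G) = 1 + n * p ∧ Nat.card G * t = (p - 1) * p * (1 + n * p) := by
  classical
  have hp := (Fact.out : p.Prime)
  set Z := Subgroup.zpowers z with hZ
  have hZc : Nat.card Z = p := by rw [hZ, Nat.card_zpowers, hz]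
  have hZp : IsPGroup p Z := IsPGroup.of_card (by rw [hZc, pow_one])
  obtain ⟨P, hP⟩ := hZp.exists_le_sylow
  have hPZ : (P : Subgroup G) = Z := by
    obtain ⟨n, hn⟩ := IsPGroup.iff_card.mp P.isPGroup'
    have hzP : z ∈ (P : Subgroup G) := hP (Subgroup.mem_zpowers z)
    by_contra hne
    have : Nontrivial (P : Subgroup G) := ⟨⟨⟨z, hzP⟩, 1, fun h => by
      have : z = 1 := congrArg Subtype.val h
      rw [this, orderOf_one] at hz; exact hp.ne_one hz.symm⟩⟩
    obtain ⟨⟨c, hcP⟩, hc, hc1⟩ := (Subgroup.center ↥(P : Subgroup G)).bot_or_exists_ne_one.resolve_left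
      (bot_lt_iff_ne_bot.mp P.isPGroup'.bot_lt_center)
    have hcZ : c ∈ Z := by
      rw [← hC, Subgroup.mem_centralizer_iff]
      simp only [Set.mem_singleton_iff, forall_eq]
      exact congrArg Subtype.val (Subgroup.mem_center_iff.mp hc ⟨z, hzP⟩)
    have hcz : Subgroup.zpowers c = Z := by
      refine Subgroup.eq_of_le_of_card_ge (Subgroup.zpowers_le.mpr hcZ) ?_
      rw [hZc, Nat.card_zpowers]
      rcases (Nat.dvd_prime hp).mp (hZc ▸ Subgroup.orderOf_dvd_natCard _ hcZ) with h | h
      · exact absurd (Subtype.ext (orderOf_eq_one_iff.mp h)) hc1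
      · rw [h]
    apply hne
    refine le_antisymm (fun y hy => ?_) hP
    rw [← hC, Subgroup.mem_centralizer_iff]
    simp only [Set.mem_singleton_iff, forall_eq]
    have hyc : Commute y c := congrArg Subtype.val (Subgroup.mem_center_iff.mp hc ⟨y, hy⟩)
    obtain ⟨i, hi⟩ := Subgroup.mem_zpowers_iff.mp (hcz.ge (Subgroup.mem_zpowers z))
    rw [← hi]
    exact (hyc.zpow_right i).eq.symm
  set N := Subgroup.normalizer (Z : Set G) with hN
  have hgen : ∀ u ∈ Z, u ≠ 1 → Subgroup.zpowers u = Z := by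
    intro u hu hu1
    refine Subgroup.eq_of_le_of_card_ge (Subgroup.zpowers_le.mpr hu) ?_
    rw [hZc, Nat.card_zpowers]
    rcases (Nat.dvd_prime hp).mp (hZc ▸ Subgroup.orderOf_dvd_natCard _ hu) with h | h
    · exact absurd (orderOf_eq_one_iff.mp h) hu1
    · rw [h]
  have hord : ∀ u : {u : Z // u ≠ 1}, orderOf (u.1 : G) = p := fun u => by
    rw [← Nat.card_zpowers, hgen _ u.1.2 (fun h => u.2 (Subtype.ext h)), hZc]
  let φ : {u : Z // u ≠ 1} → {c : ConjClasses G // ∃ g : G, ConjClasses.mk g = c ∧ orderOf g = p} :=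
    fun u => ⟨ConjClasses.mk (u.1 : G), _, rfl, hord u⟩
  have hsurj : Function.Surjective φ := by
    rintro ⟨_, g, rfl, hg⟩
    obtain ⟨R, hR⟩ := (IsPGroup.of_card (G := ↥(Subgroup.zpowers g)) (p := p) (n := 1)
      (by rw [Nat.card_zpowers, hg, pow_one])).exists_le_sylow
    obtain ⟨y, hy⟩ := MulAction.exists_smul_eq G P R
    have := hR (Subgroup.mem_zpowers g)
    rw [← hy] at this
    obtain ⟨u, hu, hug⟩ := this
    have hug' : y * u * y⁻¹ = g := hug
    rw [SetLike.mem_coe, hPZ] at hu
    refine ⟨⟨⟨u, hu⟩, fun h => ?_⟩, Subtype.ext (ConjClasses.mk_eq_mk_iff_isConj.mpr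
      (isConj_iff.mpr ⟨y, hug'⟩))⟩
    rw [show u = 1 from congrArg Subtype.val h, mul_one, mul_inv_cancel] at hug'
    rw [← hug', orderOf_one] at hg
    exact hp.ne_one hg.symm
  have hfib : ∀ c, Nat.card {u // φ u = c} * p = Nat.card N := by
    intro c
    obtain ⟨u0, hu0⟩ := hsurj c
    have hne : (u0.1 : G) ≠ 1 := fun h => u0.2 (Subtype.ext h)
    have hCu : ∀ n : G, n * u0.1 * n⁻¹ = u0.1 → n ∈ Z := by
      intro n hn
      rw [← hC, Subgroup.mem_centralizer_iff]
      simp only [Set.mem_singleton_iff, forall_eq]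
      obtain ⟨i, hi⟩ := Subgroup.mem_zpowers_iff.mp
        ((hgen _ u0.1.2 hne).ge (Subgroup.mem_zpowers z))
      rw [← hi]
      exact ((show Commute n (u0.1 : G) from mul_inv_eq_iff_eq_mul.mp hn).zpow_right i).eq.symm
    let ψ : N → {u // φ u = c} := fun n =>
      ⟨⟨⟨(n : G) * u0.1 * (n : G)⁻¹, (Subgroup.mem_normalizer_iff.mp n.2 _).mp u0.1.2⟩, fun h => by
        have h' : (n : G) * u0.1 * (n : G)⁻¹ = 1 := congrArg Subtype.val h
        rw [mul_inv_eq_one, mul_eq_left] at h'
        exact hne h'⟩, by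
        rw [← hu0]
        exact Subtype.ext (ConjClasses.mk_eq_mk_iff_isConj.mpr
          (isConj_iff.mpr ⟨(n : G), rfl⟩).symm)⟩
    have hψs : Function.Surjective ψ := by
      rintro ⟨u, hu⟩
      rw [← hu0] at hu
      obtain ⟨g, hg⟩ := isConj_iff.mp
        (ConjClasses.mk_eq_mk_iff_isConj.mp (congrArg Subtype.val hu).symm)
      refine ⟨⟨g, ?_⟩, Subtype.ext (Subtype.ext (Subtype.ext hg))⟩
      rw [hN, Subgroup.mem_normalizer_iff_map_conj_eq]
      change Z.map (MulAut.conj g).toMonoidHom = Z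
      conv_lhs => rw [← hgen _ u0.1.2 hne]
      rw [MonoidHom.map_zpowers]
      change Subgroup.zpowers (g * (u0.1 : G) * g⁻¹) = Z
      rw [hg]
      exact hgen _ u.1.2 fun h => u.2 (Subtype.ext h)
    let s := Function.surjInv hψs
    have hs : ∀ v, ψ (s v) = v := Function.surjInv_eq hψs
    have hval : ∀ n : N, ((ψ n).1.1 : G) = (n : G) * u0.1 * (n : G)⁻¹ := fun n => rfl
    have e : {u // φ u = c} × Z ≃ N := by
      refine Equiv.ofBijective (fun x => s x.1 * ⟨x.2, Subgroup.le_normalizer x.2.2⟩) ⟨?_, ?_⟩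
      · rintro ⟨v, a⟩ ⟨v', a'⟩ h
        have h1 : ψ (s v * ⟨a, Subgroup.le_normalizer a.2⟩) = v ∧
            ψ (s v' * ⟨a', Subgroup.le_normalizer a'.2⟩) = v' := by
          constructor
          on_goal 1 => conv_rhs => rw [← hs v]
          on_goal 2 => conv_rhs => rw [← hs v']
          all_goals
            refine Subtype.ext (Subtype.ext (Subtype.ext ?_))
            rw [hval, hval, Subgroup.coe_mul, mul_inv_rev]
            simp only [mul_assoc]
            congr 1
            rw [← mul_assoc, setLike_mul_comm (by first | exact a.2 | exact a'.2) u0.1.2]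
            simp [mul_assoc]
        have hv : v = v' := by
          rw [← h1.1, ← h1.2]
          exact congrArg ψ h
        subst hv
        exact Prod.ext rfl (Subtype.ext (congrArg (fun n : N => (n : G)) (mul_left_cancel h)))
      · intro n
        have h1 := hs (ψ n)
        have h2 : ((s (ψ n) : N) : G) * u0.1 * ((s (ψ n) : N) : G)⁻¹ = (n : G) * u0.1 * (n : G)⁻¹ := by
          rw [← hval, ← hval, h1]
        refine ⟨(ψ n, ⟨((s (ψ n) : N) : G)⁻¹ * n, hCu _ ?_⟩), Subtype.ext ?_⟩
        · calc ((s (ψ n) : N) : G)⁻¹ * n * u0.1 * (((s (ψ n) : N) : G)⁻¹ * n)⁻¹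
              = ((s (ψ n) : N) : G)⁻¹ * ((n : G) * u0.1 * (n : G)⁻¹) * (s (ψ n) : N) := by
                simp [mul_assoc]
            _ = u0.1 := by rw [← h2]; simp [mul_assoc]
        · simp
    rw [← Nat.card_congr e, Nat.card_prod, hZc]
  set t := Nat.card {c : ConjClasses G // ∃ g : G, ConjClasses.mk g = c ∧ orderOf g = p} with ht
  have hmain : t * Nat.card N = (p - 1) * p := by
    have := Fintype.ofFinite {c : ConjClasses G // ∃ g : G, ConjClasses.mk g = c ∧ orderOf g = p}
    have h1 : Nat.card {u : Z // u ≠ 1} = p - 1 := by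
      have := Fintype.ofFinite Z
      rw [Nat.card_eq_fintype_card, Fintype.card_subtype_compl, Fintype.card_subtype_eq,
        ← Nat.card_eq_fintype_card, hZc]
    rw [← h1, ← Nat.card_congr (Equiv.sigmaFiberEquiv φ), Nat.card_sigma, Finset.sum_mul,
      Finset.sum_congr rfl fun c _ => hfib c, Finset.sum_const, Finset.card_univ, smul_eq_mul, ht,
      Nat.card_eq_fintype_card]
  have hn1 := card_sylow_modEq_one p G
  have hns : Nat.card (Sylow p G) = N.index := by
    rw [P.card_eq_index_normalizer, hN, ← hPZ]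
    rfl
  have hpos : 1 ≤ Nat.card (Sylow p G) := Nat.card_pos
  obtain ⟨n, hn⟩ := (Nat.modEq_iff_dvd' hpos).mp hn1.symm
  refine ⟨n, t, rfl, ?_, ?_, ?_⟩
  · have hdvd : p ∣ Nat.card N := hZc ▸ Subgroup.card_dvd_of_le Subgroup.le_normalizer
    obtain ⟨e, he⟩ := hdvd
    refine ⟨e, ?_⟩
    rw [he] at hmain
    apply Nat.eq_of_mul_eq_mul_right hp.pos
    rw [← hmain]; ring
  · rw [mul_comm p n] at hn; omega
  · rw [← Subgroup.card_mul_index N, ← hns, mul_comm p n] at *
    rw [show 1 + n * p = Nat.card (Sylow p G) by omega, ← hmain]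
    ring

end Cfsg.Agent.S0995
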