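import Cfsg.Statements.S0996
import Cfsg.Agent.Lib.Small.FewSylowMain
import Cfsg.Agent.Lib.Small.PSLTwoEvenRecog
-- import your own Cfsg.Agent.* helpers here

set_option autoImplicit false
open Cfsg

namespace Cfsg.Agent.S0996

open Cfsg.Lib.Small

/-- Let G be a finite perfect group containing an element z of prime order p whose centralizer is the cyclic group it generates, and suppose the number 1 + n * p of Sylow p-subgroups satisfies n < (p + 3) / 2. Then p > 3 and G is isomorphic to the projective special linear group of dimension 2 over the field with p elements, or p - 1 is a power of 2 and G is isomorphic to that group over the field with p - 1 elements. -/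
theorem result {G : Type*} [Group G] [Finite G] (hperf : commutator G = ⊤) (p : ℕ) [Fact p.Prime] (z : G) (hz : orderOf z = p) (hC : Subgroup.centralizer ({z} : Set G) = Subgroup.zpowers z) (hn : 2 * Nat.card (Sylow p G) < (p + 1) * (p + 2)) : (∃ (F : Type) (_ : Field F) (_ : Fintype F), Fintype.card F = p ∧ 3 < p ∧ Nonempty (G ≃* Matrix.ProjectiveSpecialLinearGroup (Fin 2) F)) ∨ (∃ (m : ℕ) (F : Type) (_ : Field F) (_ : Fintype F), Fintype.card F = 2 ^ m ∧ p = 2 ^ m + 1 ∧ 3 < p ∧ Nonempty (G ≃* Matrix.ProjectiveSpecialLinearGroup (Fin 2) F)) := by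
  classical
  haveI := Fintype.ofFinite G
  have hpp : p.Prime := Fact.out
  haveI : Nontrivial G := ⟨⟨z, 1, fun h => hpp.ne_one (by rw [← hz, h, orderOf_one])⟩⟩
  obtain ⟨P, e, t, k, hP, hCP, her, he, het, hG, hk, hkle, hsyl⟩ := few_setup hperf hz hC hn
  haveI := isSimpleGroup_of_few hperf P hP hCP he het hG hk hkle
  have hnc : ¬ IsCyclic G := fun h => by
    letI := h.commGroup
    have h1 : commutator G = ⊥ := by
      rw [commutator_def, Subgroup.commutator_eq_bot_iff_le_centralizer]
      exact fun a _ => Subgroup.mem_centralizer_iff.2 fun b _ => mul_comm b a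
    rw [hperf] at h1
    exact bot_ne_top h1.symm
  rcases few_cases hnc hP hCP her he het hG hk hkle hsyl with ⟨hp5, hcard, hn'⟩ | ⟨⟨D⟩⟩
  · exact Or.inl ⟨ZMod p, inferInstance, inferInstance, ZMod.card p, by omega,
      PSLTwoRecog.iso_psl hp5 hcard hn' (ZMod.card p)⟩
  · obtain ⟨hq, hcard, y, hy, hCy, hconj, hI⟩ := D.structure_two
    have hp1 : p - 1 + 1 = p := by omega
    obtain ⟨m, F, iF, iFF, hF, hqm, hiso⟩ := iso_psl_even hq
      (hcard.trans (by rw [hp1, show p - 1 - 1 = p - 2 by omega])) hy hCy hconj hI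
    exact Or.inr ⟨m, F, iF, iFF, hF, by omega, by omega, hiso⟩

end Cfsg.Agent.S0996
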