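import Cfsg.Statements.S0999
import Cfsg.Agent.Lib.Small.LargePrimeValues
import Cfsg.Agent.Lib.Small.PSLTwoEvenRecog
-- import your own Cfsg.Agent.* helpers here

set_option autoImplicit false
open Cfsg

namespace Cfsg.Agent.S0999

open Cfsg.Lib.Small

/-- Let G be a non-cyclic finite simple group and p a prime divisor of its order with p^3 > |G|. Then p > 3 and G is isomorphic to the projective special linear group of dimension 2 over the field with p elements, or p - 1 is a power of 2 and G is isomorphic to that group over the field with p - 1 elements. -/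
theorem result {G : Type*} [Group G] [Finite G] [IsSimpleGroup G] (hG : ¬ IsCyclic G) (p : ℕ) (hp : p.Prime) (hdvd : p ∣ Nat.card G) (hbig : Nat.card G < p ^ 3) : (∃ (F : Type) (_ : Field F) (_ : Fintype F), Fintype.card F = p ∧ 3 < p ∧ Nonempty (G ≃* Matrix.ProjectiveSpecialLinearGroup (Fin 2) F)) ∨ (∃ (m : ℕ) (F : Type) (_ : Field F) (_ : Fintype F), Fintype.card F = 2 ^ m ∧ p = 2 ^ m + 1 ∧ 3 < p ∧ Nonempty (G ≃* Matrix.ProjectiveSpecialLinearGroup (Fin 2) F)) := by
  classical
  haveI := Fintype.ofFinite G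
  haveI : Fact p.Prime := ⟨hp⟩
  rcases large_prime_cases hG hdvd hbig with ⟨hp5, hcard, hn⟩ | ⟨⟨D⟩⟩
  · exact Or.inl ⟨ZMod p, inferInstance, inferInstance, ZMod.card p, by omega,
      PSLTwoRecog.iso_psl hp5 hcard hn (ZMod.card p)⟩
  · obtain ⟨hq, hcard, y, hy, hC, hconj, hI⟩ := D.structure_two
    have hp1 : p - 1 + 1 = p := by omega
    obtain ⟨m, F, iF, iFF, hF, hqm, hiso⟩ := iso_psl_even hq
      (hcard.trans (by rw [hp1, show p - 1 - 1 = p - 2 by omega])) hy hC hconj hI
    exact Or.inr ⟨m, F, iF, iFF, hF, by omega, by omega, hiso⟩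

end Cfsg.Agent.S0999
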