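import Cfsg.Statements.S1001
import Cfsg.Agent.Lib.Sig.PaqbrSelfCentral
import Cfsg.Agent.S0144

set_option autoImplicit false
open Cfsg

namespace Cfsg.Agent.S1001

/-- In a finite simple group whose order has the form p * 3^a * 2^b with p prime, the centralizer of any element of order p is the cyclic group it generates. -/
theorem result {G : Type*} [Group G] [Finite G] [IsSimpleGroup G] (p a b : ℕ) (hp : p.Prime) (hG : Nat.card G = p * 3 ^ a * 2 ^ b) (x : G) (hx : orderOf x = p) : Subgroup.centralizer ({x} : Set G) = Subgroup.zpowers x := by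
  classical
  haveI := Fact.mk hp
  by_cases h23 : p = 2 ∨ p = 3
  · haveI hsolv : Group.IsSolvable G := by
      rcases h23 with rfl | rfl
      · exact Cfsg.Agent.S0144.result 3 2 a (b + 1) (by norm_num) (by norm_num) (by rw [hG]; ring)
      · exact Cfsg.Agent.S0144.result 3 2 (a + 1) b (by norm_num) (by norm_num) (by rw [hG]; ring)
    letI : CommGroup G := { (inferInstance : Group G) with
      mul_comm := fun g h => IsSimpleGroup.comm_iff_isSolvable.2 hsolv g h }
    have h1 : (Nat.card G).Prime := IsSimpleGroup.prime_card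
    have htop : Subgroup.zpowers x = ⊤ := by
      apply Subgroup.eq_top_of_card_eq
      rw [Nat.card_zpowers, hx]
      exact (Nat.prime_dvd_prime_iff_eq hp h1).1 (hx ▸ orderOf_dvd_natCard x)
    rw [htop, eq_top_iff]
    exact fun g _ => Subgroup.mem_centralizer_singleton_iff.2 (mul_comm _ _)
  push Not at h23
  have hcard : Nat.card (Subgroup.zpowers x) = p := by rw [Nat.card_zpowers, hx]
  have hnd : ¬ p ∣ (Subgroup.zpowers x).index := by
    intro h
    have h2 := (Subgroup.zpowers x).card_mul_index
    rw [hcard, hG, mul_assoc] at h2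
    rw [Nat.eq_of_mul_eq_mul_left hp.pos h2] at h
    rcases hp.dvd_mul.1 h with h3 | h3
    · exact h23.2 ((Nat.prime_dvd_prime_iff_eq hp (by norm_num)).1 (hp.dvd_of_dvd_pow h3))
    · exact h23.1 ((Nat.prime_dvd_prime_iff_eq hp (by norm_num)).1 (hp.dvd_of_dvd_pow h3))
  have hP : IsPGroup p (Subgroup.zpowers x) := IsPGroup.of_card (n := 1) (by rw [hcard, pow_one])
  have key := Cfsg.Lib.Sig.centralizer_sylow_eq (p := 2) (q := 3) (r := p) (a := b) (b := a)
    Nat.prime_two Nat.prime_three h23.1.symm h23.2.symm (by rw [hG]; ring) (hP.toSylow hnd)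
  rw [IsPGroup.toSylow_coe] at key
  conv_rhs => rw [← key]
  apply le_antisymm
  · intro g hg
    refine Subgroup.mem_centralizer_iff.2 ?_
    rintro y ⟨k, rfl⟩
    exact (Commute.zpow_left (Subgroup.mem_centralizer_singleton_iff.1 hg).symm k).eq
  · exact Subgroup.centralizer_le (Set.singleton_subset_iff.2 (Subgroup.mem_zpowers x))

end Cfsg.Agent.S1001
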