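import Cfsg.Statements.S1002
import Cfsg.Agent.Lib.Small.SimpleOrder
import Cfsg.Agent.Lib.Local.CNTheorem
-- import your own Cfsg.Agent.* helpers here

set_option autoImplicit false
open Cfsg

namespace Cfsg.Agent.S1002

open Subgroup in
/-- In a simple group of order `1004913` a Sylow subgroup of prime order `p` is self centralizing,
given that its possible normalizer orders leave no other choice. -/
theorem self_centralizing {G : Type*} [Group G] [Finite G] [IsSimpleGroup G] (h : Nat.card G = 1004913)
    (p : ℕ) [Fact p.Prime] (m : ℕ) (hm : Nat.card G = p ^ 1 * m) (hpm : ¬ p ∣ m)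
    (S : Finset ℕ) (hS : m.divisors = S)
    (hkey : ∀ n ∈ S, n % p = 1 → n ≠ 1 → ∀ c ∈ S, c ∣ m / n → c ≠ m / n → (m / n / c) ∣ (p - 1) → c = 1)
    (z : G) (hz : orderOf z = p) : centralizer ({z} : Set G) = zpowers z := by
  classical
  have hp := (Fact.out : p.Prime)
  have hnc := Cfsg.Lib.Small.not_isCyclic_of_card (G := G) (by rw [h]; norm_num)
  obtain ⟨hc, hd, hmod⟩ := Cfsg.Lib.OrderLeHundred.sylow_count p hm hpm
  have hn1 := Cfsg.Lib.OrderLeHundred.sylow_ne_one hnc p hm hpm one_ne_zero
    (by
      rcases m with _ | _ | m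
      · exact absurd (dvd_zero p) hpm
      · rw [pow_one, zero_add, mul_one] at hm
        exact absurd hp (by rw [← hm, h]; norm_num)
      · omega)
  have hzP : IsPGroup p (zpowers z) := IsPGroup.of_card (n := 1) (by rw [Nat.card_zpowers, hz, pow_one])
  obtain ⟨P, hP⟩ := hzP.exists_le_sylow
  have hcard : Nat.card (P : Subgroup G) = p := by rw [hc P, pow_one]
  have hPz : (P : Subgroup G) = zpowers z :=
    (eq_of_le_of_card_ge hP (by rw [hcard, Nat.card_zpowers, hz])).symm
  set n := Nat.card (Sylow p G) with hn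
  have hN := Cfsg.Lib.Small.card_normalizer_mul P
  obtain ⟨k, hk⟩ := hd
  have hn0 : 0 < n := Nat.card_pos
  have hNc : Nat.card (normalizer ((P : Subgroup G) : Set G)) = p * (m / n) := by
    rw [hk, Nat.mul_div_cancel_left _ hn0]
    rw [hm, pow_one, ← hn, hk] at hN
    refine Nat.eq_of_mul_eq_mul_left hn0 ?_
    linarith
  have hC : centralizer ({z} : Set G) = centralizer ((P : Subgroup G) : Set G) := by
    rw [hPz, zpowers_eq_closure, centralizer_closure]
  have hCN : centralizer ((P : Subgroup G) : Set G) ≤ normalizer ((P : Subgroup G) : Set G) :=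
    centralizer_le_normalizer _
  haveI : IsCyclic (P : Subgroup G) := isCyclic_of_prime_card hcard
  have hPC : (P : Subgroup G) ≤ centralizer ((P : Subgroup G) : Set G) := le_centralizer _
  have hlt : ¬ normalizer ((P : Subgroup G) : Set G) ≤ centralizer ((P : Subgroup G) : Set G) :=
    Cfsg.Lib.Small.not_normalizer_le_centralizer hnc P (fun hb => by
      rw [hb, card_bot] at hcard; exact hp.ne_one hcard.symm)
  have hidx : Nat.card (normalizer ((P : Subgroup G) : Set G)) /
      Nat.card (centralizer ((P : Subgroup G) : Set G)) ∣ p - 1 := by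
    have hd' := index_ker (normalizerMonoidHom (P : Subgroup G))
    have hd2 : ((normalizerMonoidHom (P : Subgroup G)).ker).index ∣ p - 1 := by
      rw [hd']
      refine (card_subgroup_dvd_card _).trans ?_
      rw [IsCyclic.card_mulAut, hcard, Nat.totient_prime hp]
    rw [normalizerMonoidHom_ker] at hd2
    have hmul := card_mul_index ((centralizer ((P : Subgroup G) : Set G)).subgroupOf (normalizer ((P : Subgroup G) : Set G)))
    rw [Nat.card_congr (subgroupOfEquivOfLe hCN).toEquiv] at hmul
    rw [← hmul, Nat.mul_div_cancel_left _ Nat.card_pos]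
    exact hd2
  have hm0 : m ≠ 0 := by rintro rfl; exact hpm (dvd_zero p)
  have hmem : ∀ d, d ∣ m → d ∈ S := fun d hd => hS ▸ Nat.mem_divisors.2 ⟨hd, hm0⟩
  obtain ⟨c, hc'⟩ := hcard ▸ card_dvd_of_le hPC
  have hcd : c ∣ m / n := Nat.dvd_of_mul_dvd_mul_left hp.pos (hc' ▸ hNc ▸ card_dvd_of_le hCN)
  have hdn : m / n ∣ m := Nat.div_dvd_of_dvd ⟨k, hk⟩
  have hcC := hkey n (hmem n ⟨k, hk⟩) hmod hn1 c (hmem c (hcd.trans hdn)) hcd
    (fun e => hlt (eq_of_le_of_card_ge hCN (by rw [hc', e, hNc])).ge)
    (by rw [hNc, hc', Nat.mul_div_mul_left _ _ hp.pos] at hidx; exact hidx)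
  rw [hC, ← hPz]
  exact (eq_of_le_of_card_ge hPC (by rw [hc', hcC, hcard, mul_one])).symm


/-- No finite simple group has order 1004913 = 3^3 * 7 * 13 * 409. -/
theorem result {G : Type*} [Group G] [Finite G] [IsSimpleGroup G] : Nat.card G ≠ 1004913 := by
  intro h
  have := Fact.mk (show Nat.Prime 7 by norm_num)
  have := Fact.mk (show Nat.Prime 13 by norm_num)
  have := Fact.mk (show Nat.Prime 409 by norm_num)
  have := Fact.mk Nat.prime_three
  have h7 := self_centralizing h 7 143559 (by rw [h]; norm_num) (by norm_num) {1, 3, 9, 13, 27, 39, 117, 351, 409, 1227, 3681, 5317, 11043, 15951, 47853, 143559}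
    (by rw [show 143559 = 3 ^ 3 * 13 * 409 by norm_num, Nat.divisors_mul, Nat.divisors_mul,
        Nat.divisors_prime_pow Nat.prime_three, Nat.Prime.divisors (by norm_num : Nat.Prime 13),
        Nat.Prime.divisors (by norm_num : Nat.Prime 409)]; decide +kernel)
    (by decide +kernel)
  have h13 := self_centralizing h 13 77301 (by rw [h]; norm_num) (by norm_num) {1, 3, 7, 9, 21, 27, 63, 189, 409, 1227, 2863, 3681, 8589, 11043, 25767, 77301}
    (by rw [show 77301 = 3 ^ 3 * 7 * 409 by norm_num, Nat.divisors_mul, Nat.divisors_mul,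
        Nat.divisors_prime_pow Nat.prime_three, Nat.Prime.divisors (by norm_num : Nat.Prime 7),
        Nat.Prime.divisors (by norm_num : Nat.Prime 409)]; decide +kernel)
    (by decide +kernel)
  have h409 := self_centralizing h 409 2457 (by rw [h]; norm_num) (by norm_num) {1, 3, 7, 9, 13, 21, 27, 39, 63, 91, 117, 189, 273, 351, 819, 2457}
    (by rw [show 2457 = 3 ^ 3 * 7 * 13 by norm_num, Nat.divisors_mul, Nat.divisors_mul,
        Nat.divisors_prime_pow Nat.prime_three, Nat.Prime.divisors (by norm_num : Nat.Prime 7),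
        Nat.Prime.divisors (by norm_num : Nat.Prime 13)]; decide +kernel)
    (by decide +kernel)
  have hCN : IsCNGroup G := by
    intro x hx
    have key : ∀ (p : ℕ) [Fact p.Prime], (∀ z : G, orderOf z = p → Subgroup.centralizer ({z} : Set G) = Subgroup.zpowers z) →
        p ∣ Nat.card (Subgroup.centralizer ({x} : Set G)) → Group.IsNilpotent (Subgroup.centralizer ({x} : Set G)) := by
      intro p hp hsc hd
      obtain ⟨⟨z, hzC⟩, hz⟩ := exists_prime_orderOf_dvd_card' (G := Subgroup.centralizer ({x} : Set G)) p hd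
      rw [Subgroup.orderOf_mk] at hz
      have hxz : x ∈ Subgroup.zpowers z := by
        rw [← hsc z hz, Subgroup.mem_centralizer_singleton_iff]
        exact (Subgroup.mem_centralizer_singleton_iff.1 hzC).symm
      have hzx : z ∈ Subgroup.zpowers x := by
        have hcard : Nat.card (Subgroup.zpowers z) = p := by rw [Nat.card_zpowers, hz]
        have := Subgroup.eq_of_le_of_card_ge (Subgroup.zpowers_le.2 hxz) (by
          rw [hcard, Nat.card_zpowers]
          refine (hp.out.eq_one_or_self_of_dvd _ (hz ▸ orderOf_dvd_of_mem_zpowers hxz)).elim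
            (fun e => absurd (orderOf_eq_one_iff.1 e) hx) fun e => e.ge)
        rw [this]
        exact Subgroup.mem_zpowers z
      have hle : Subgroup.centralizer ({x} : Set G) ≤ Subgroup.zpowers z := by
        rw [← hsc z hz]
        intro y hy
        obtain ⟨i, rfl⟩ := Subgroup.mem_zpowers_iff.1 hzx
        rw [Subgroup.mem_centralizer_singleton_iff] at hy ⊢
        exact ((show Commute x y from hy.symm).zpow_left i).eq.symm
      haveI : IsMulCommutative (Subgroup.centralizer ({x} : Set G)) := ⟨⟨fun a b => Subtype.ext (by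
        obtain ⟨i, hi⟩ := Subgroup.mem_zpowers_iff.1 (hle a.2)
        obtain ⟨j, hj⟩ := Subgroup.mem_zpowers_iff.1 (hle b.2)
        show (a : G) * b = b * a
        rw [← hi, ← hj, ← zpow_add, ← zpow_add, add_comm])⟩⟩
      letI : CommGroup (Subgroup.centralizer ({x} : Set G)) :=
        { (inferInstance : Group (Subgroup.centralizer ({x} : Set G))) with
          mul_comm := fun a b => mul_comm' a b }
      exact CommGroup.isNilpotent
    by_cases c7 : 7 ∣ Nat.card (Subgroup.centralizer ({x} : Set G))
    · exact key 7 h7 c7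
    by_cases c13 : 13 ∣ Nat.card (Subgroup.centralizer ({x} : Set G))
    · exact key 13 h13 c13
    by_cases c409 : 409 ∣ Nat.card (Subgroup.centralizer ({x} : Set G))
    · exact key 409 h409 c409
    refine IsPGroup.isNilpotent (p := 3) ?_
    have hd := Subgroup.card_subgroup_dvd_card (Subgroup.centralizer ({x} : Set G))
    rw [h, show 1004913 = 3 ^ 3 * (7 * 13 * 409) by norm_num] at hd
    have hcop : (Nat.card (Subgroup.centralizer ({x} : Set G))).Coprime (7 * 13 * 409) :=
      ((((Nat.Prime.coprime_iff_not_dvd (by norm_num)).2 c7).symm).mul_right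
        ((Nat.Prime.coprime_iff_not_dvd (by norm_num)).2 c13).symm).mul_right
        ((Nat.Prime.coprime_iff_not_dvd (by norm_num)).2 c409).symm
    obtain ⟨j, -, hj⟩ := (Nat.dvd_prime_pow Nat.prime_three).1 (hcop.dvd_of_dvd_mul_right hd)
    exact IsPGroup.of_card hj
  have hsol := Cfsg.Lib.Local.CN.isSolvable_of_odd (by rw [h]; decide) hCN
  have hnc := Cfsg.Lib.Small.not_isCyclic_of_card (G := G) (by rw [h]; norm_num)
  refine hnc ?_
  haveI := IsSimpleGroup.comm_iff_isSolvable (G := G)
  letI : CommGroup G := { (inferInstance : Group G) with mul_comm := IsSimpleGroup.comm_iff_isSolvable.2 hsol }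
  exact IsSimpleGroup.isCyclic

end Cfsg.Agent.S1002
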