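import Cfsg.Statements.S1007
import Cfsg.Agent.Lib.Small.Order168Max
-- import your own Cfsg.Agent.* helpers here

set_option autoImplicit false
open Cfsg

namespace Cfsg.Agent.S1007


/-- Let G be a simple group of order 168 and T a Sylow 2-subgroup. Then T contains exactly two subgroups that are Klein four-groups; they are not conjugate in G; and the normalizer of every Klein four-subgroup of G is isomorphic to the symmetric group of degree 4. -/
theorem result {G : Type*} [Group G] [Finite G] [IsSimpleGroup G] (h : Nat.card G = 168) (T : Sylow 2 G) : Nat.card {U : Subgroup G // U ≤ (T : Subgroup G) ∧ IsKleinFour ↥U} = 2 ∧ (∀ U W : Subgroup G, U ≤ (T : Subgroup G) → W ≤ (T : Subgroup G) → IsKleinFour ↥U → IsKleinFour ↥W → U ≠ W → ∀ g : G, U.map (MulAut.conj g).toMonoidHom ≠ W) ∧ ∀ U : Subgroup G, IsKleinFour ↥U → Nonempty (↥(Subgroup.normalizer (U : Set G)) ≃* Equiv.Perm (Fin 4)) := by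
  classical
  obtain ⟨U, W, hne, hU, hW, hUk, hWk, hall⟩ := Cfsg.Lib.Small.Order168.klein_pair h T
  refine ⟨?_, fun U' W' h1 h2 h3 h4 h5 g => Cfsg.Lib.Small.Order168.klein_not_conj h T h1 h2 h3 h4 h5 g,
    fun V hV => Cfsg.Lib.Small.Order168.iso_perm_four h
      (Cfsg.Lib.Small.Order168.klein_normalizer_card h hV)⟩
  let f : Bool → {X : Subgroup G // X ≤ (T : Subgroup G) ∧ IsKleinFour ↥X} :=
    fun b => if b then ⟨U, hU, hUk⟩ else ⟨W, hW, hWk⟩
  have hf : Function.Bijective f := by
    refine ⟨fun a b hab => ?_, fun X => ?_⟩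
    · cases a <;> cases b <;> first | rfl | exfalso
      · exact hne (congrArg Subtype.val hab).symm
      · exact hne (congrArg Subtype.val hab)
    · rcases hall X.1 X.2.1 X.2.2 with e | e
      · exact ⟨true, Subtype.ext e.symm⟩
      · exact ⟨false, Subtype.ext e.symm⟩
  rw [← Nat.card_eq_of_bijective f hf, Nat.card_eq_fintype_card, Fintype.card_bool]

end Cfsg.Agent.S1007
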