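import Cfsg.Statements.S1013
import Cfsg.Agent.Lib.Small.SimpleOrder
import Mathlib.GroupTheory.GroupAction.Primitive
-- import your own Cfsg.Agent.* helpers here

set_option autoImplicit false
open Cfsg

namespace Cfsg.Agent.S1013

theorem galois {α : Type*} [Fintype α] [DecidableEq α] {p : ℕ} [Fact p.Prime] (hα : Fintype.card α = p)
    (G : Subgroup (Equiv.Perm α)) [MulAction.IsPretransitive ↥G α] (P : Sylow p ↥G)
    (hn : 1 < Nat.card (Sylow p ↥G))
    (ht : (((P : Subgroup ↥G).subgroupOf (Subgroup.normalizer ((P : Subgroup ↥G) : Set ↥G))).index).Prime) :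
    IsSimpleGroup ↥G := by
  classical
  have hp : p.Prime := Fact.out
  have hαc : Nat.card α = p := by rw [Nat.card_eq_fintype_card, hα]
  have : MulAction.IsPreprimitive ↥G α := MulAction.IsPreprimitive.of_prime_card (hαc ▸ hp)
  have hGdvd : Nat.card ↥G ∣ p.factorial := by
    have := G.card_subgroup_dvd_card
    rwa [Nat.card_perm, hαc] at this
  have hpsq : ¬ p * p ∣ Nat.card ↥G := fun h => by
    have h1 := h.trans hGdvd
    rw [← Nat.mul_factorial_pred hp.ne_zero] at h1
    have h2 := Nat.dvd_of_mul_dvd_mul_left hp.pos h1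
    have := hp.dvd_factorial.1 h2
    have := hp.two_le
    omega
  have hnt : Nontrivial ↥G := by
    by_contra h
    rw [not_nontrivial_iff_subsingleton] at h
    have : Subsingleton (Sylow p ↥G) := ⟨fun A B => Sylow.ext (Subsingleton.elim _ _)⟩
    rw [Finite.one_lt_card_iff_nontrivial] at hn
    exact not_nontrivial (Sylow p ↥G) hn
  refine ⟨fun K hK => or_iff_not_imp_left.2 fun hK1 => ?_⟩
  by_contra hKt
  set N := Subgroup.normalizer ((P : Subgroup ↥G) : Set ↥G) with hN
  -- a nontrivial normal subgroup is transitive, so contains every Sylow `p`-subgroup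
  have htrans : ∀ L : Subgroup ↥G, L.Normal → L ≠ ⊥ → p ∣ Nat.card ↥L := by
    intro L hL hL1
    obtain ⟨x⟩ : Nonempty α := Fintype.card_pos_iff.1 (hα ▸ hp.pos)
    have hfix : MulAction.fixedPoints ↥L α ≠ Set.univ := by
      intro h
      refine hL1 (le_bot_iff.1 fun l hl => Subgroup.mem_bot.2 ?_)
      refine Subtype.ext (Equiv.Perm.ext fun a => ?_)
      have h1 : a ∈ MulAction.fixedPoints ↥L α := by rw [h]; trivial
      exact h1 ⟨l, hl⟩
    have := MulAction.IsQuasiPreprimitive.isPretransitive_of_normal (G := ↥G) (X := α) (N := L) hfix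
    have h1 := MulAction.index_stabilizer_of_transitive (G := ↥L) x
    rw [hαc] at h1
    rw [← h1]
    exact Subgroup.index_dvd_card _
  have hKidx : ¬ p ∣ K.index := fun h => hpsq (by
    rw [← K.card_mul_index]
    exact Nat.mul_dvd_mul (htrans K hK hK1) h)
  have hsub : ∀ P' : Sylow p ↥G, (P' : Subgroup ↥G) ≤ K := by
    intro P' a ha
    obtain ⟨j, hj⟩ := IsPGroup.iff_orderOf.1 P'.isPGroup' ⟨a, ha⟩
    rw [Subgroup.orderOf_mk] at hj
    rw [← QuotientGroup.eq_one_iff, ← orderOf_eq_one_iff]
    refine Nat.eq_one_of_dvd_coprimes (k := orderOf (QuotientGroup.mk' K a))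
      (Nat.Coprime.pow_left j (hp.coprime_iff_not_dvd.2 hKidx)) ?_ (orderOf_dvd_natCard _)
    exact hj ▸ orderOf_map_dvd (QuotientGroup.mk' K) a
  have hPle := hsub P
  -- `N_K(P) = P`
  have hPN : (P : Subgroup ↥G) ≤ N ⊓ K := le_inf Subgroup.le_normalizer hPle
  have hr : (P : Subgroup ↥G).relIndex (N ⊓ K) * (N ⊓ K).relIndex N = (P : Subgroup ↥G).relIndex N :=
    Subgroup.relIndex_mul_relIndex _ _ _ hPN inf_le_left
  have hNK : (N ⊓ K).relIndex N ≠ 1 := by
    intro h
    have hle : N ≤ K := (Subgroup.relIndex_eq_one.1 h).trans inf_le_right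
    apply hKt
    let Q : Sylow p ↥K := P.subtype hPle
    have hsup : N ⊔ K = ⊤ := Sylow.normalizer_sup_eq_top' P hPle
    rw [← hsup]
    exact (sup_eq_right.2 hle).symm
  have hPone : (P : Subgroup ↥G).relIndex (N ⊓ K) = 1 := by
    rcases (Nat.dvd_prime ht).1 (hr ▸ dvd_mul_left _ _ :
      (N ⊓ K).relIndex N ∣ (P : Subgroup ↥G).relIndex N) with h | h
    · exact absurd h hNK
    · have hpos : 0 < (P : Subgroup ↥G).relIndex N := ht.pos
      rw [h] at hr
      exact Nat.eq_of_mul_eq_mul_right hpos (hr.trans (one_mul _).symm)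
  have hNKP : N ⊓ K ≤ (P : Subgroup ↥G) := Subgroup.relIndex_eq_one.1 hPone
  let PK : Sylow p ↥K := P.subtype hPle
  have hNC : Subgroup.normalizer ((PK : Subgroup ↥K) : Set ↥K) ≤
      Subgroup.centralizer ((PK : Subgroup ↥K) : Set ↥K) := by
    intro a ha
    have haP : (a : ↥G) ∈ (P : Subgroup ↥G) := by
      refine hNKP ⟨?_, a.2⟩
      have h1 := Subgroup.le_normalizer_map K.subtype (Subgroup.mem_map_of_mem K.subtype ha)
      rwa [show ((PK : Subgroup ↥K).map K.subtype) = (P : Subgroup ↥G) from by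
        rw [show (PK : Subgroup ↥K) = (P : Subgroup ↥G).subgroupOf K from P.coe_subtype hPle]
        exact Subgroup.map_subgroupOf_eq_of_le hPle] at h1
    have hcP : Nat.card ↥(P : Subgroup ↥G) = p := by
      obtain ⟨j, hj⟩ := IsPGroup.iff_card.1 P.isPGroup'
      rcases j with _ | _ | j
      · exfalso
        rw [pow_zero, Subgroup.card_eq_one] at hj
        exact P.not_dvd_index (by
          rw [hj, Subgroup.index_bot]
          exact (htrans ⊤ inferInstance bot_ne_top.symm).trans (Subgroup.card_subgroup_dvd_card _))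
      · rw [hj, pow_one]
      · exact absurd ((pow_dvd_pow p (by omega : 2 ≤ j + 1 + 1)).trans
          (hj ▸ (P : Subgroup ↥G).card_subgroup_dvd_card)) (by rw [sq]; exact hpsq)
    have : IsCyclic ↥(P : Subgroup ↥G) := isCyclic_of_prime_card hcP
    have hc := Subgroup.le_centralizer (P : Subgroup ↥G) haP
    rw [Subgroup.mem_centralizer_iff] at hc ⊢
    intro b hb
    refine Subtype.ext (hc (b : ↥G) ?_)
    rw [show (PK : Subgroup ↥K) = (P : Subgroup ↥G).subgroupOf K from P.coe_subtype hPle] at hb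
    exact hb
  have hcompl := MonoidHom.ker_transferSylow_isComplement' PK hNC
  set M := (MonoidHom.transferSylow PK hNC).ker with hM
  have hMcop : ¬ p ∣ Nat.card ↥M := by
    rw [← hcompl.index_eq_card]
    exact PK.not_dvd_index
  -- the complement is characteristic in `K`, hence normal in `G`
  have hMG : (M.map K.subtype).Normal := by
    refine ⟨?_⟩
    rintro _ ⟨m, hm, rfl⟩ g
    refine ⟨⟨g * (m : ↥G) * g⁻¹, hK.conj_mem _ m.2 g⟩, ?_, rfl⟩
    rw [hM, SetLike.mem_coe, MonoidHom.mem_ker]
    set m' : ↥K := ⟨g * (m : ↥G) * g⁻¹, hK.conj_mem _ m.2 g⟩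
    have ho : orderOf m' = orderOf m := by
      rw [← Subgroup.orderOf_coe, ← Subgroup.orderOf_coe m]
      show orderOf (g * (m : ↥G) * g⁻¹) = _
      exact MulEquiv.orderOf_eq (MulAut.conj g) _
    rw [← orderOf_eq_one_iff]
    obtain ⟨j, hj⟩ := IsPGroup.iff_orderOf.1 PK.isPGroup' (MonoidHom.transferSylow PK hNC m')
    refine Nat.eq_one_of_dvd_coprimes
      (Nat.Coprime.pow_left j (hp.coprime_iff_not_dvd.2 hMcop)) (hj ▸ dvd_rfl) ?_
    refine (orderOf_map_dvd _ _).trans (ho ▸ ?_)
    rw [← Subgroup.orderOf_mk m hm]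
    exact orderOf_dvd_natCard _
  have hM1 : M.map K.subtype = ⊥ := by
    by_contra h
    have h1 := htrans _ hMG h
    rw [Subgroup.card_subtype] at h1
    exact hMcop h1
  rw [Subgroup.map_eq_bot_iff_of_injective _ K.subtype_injective] at hM1
  have hPKtop : (PK : Subgroup ↥K) = ⊤ := by
    rw [hM1] at hcompl
    exact Subgroup.isComplement'_bot_left.1 hcompl
  have hKP : K = (P : Subgroup ↥G) := by
    refine le_antisymm ?_ hPle
    rw [← Subgroup.subgroupOf_eq_top, ← P.coe_subtype hPle]
    exact hPKtop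
  have : Subsingleton (Sylow p ↥G) := ⟨fun A B => by
    have hA : ∀ A : Sylow p ↥G, (A : Subgroup ↥G) = P := fun A => by
      refine (A.3 P.isPGroup' ?_).symm
      exact hKP ▸ hsub A
    exact Sylow.ext ((hA A).trans (hA B).symm)⟩
  rw [Finite.one_lt_card_iff_nontrivial] at hn
  exact not_nontrivial (Sylow p ↥G) hn


/-- Let G be a transitive permutation group of prime degree p having more than one Sylow p-subgroup, and suppose a Sylow p-subgroup P has prime index in its normalizer. Then G is simple. -/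
theorem result {α : Type*} [Fintype α] [DecidableEq α] {p : ℕ} [Fact p.Prime] (hα : Fintype.card α = p) (G : Subgroup (Equiv.Perm α)) [MulAction.IsPretransitive ↥G α] (P : Sylow p ↥G) (hn : 1 < Nat.card (Sylow p ↥G)) (ht : (((P : Subgroup ↥G).subgroupOf (Subgroup.normalizer ((P : Subgroup ↥G) : Set ↥G))).index).Prime) : IsSimpleGroup ↥G := by
  exact galois hα G P hn ht

end Cfsg.Agent.S1013
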