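import Cfsg.Statements.S1018
import Mathlib.GroupTheory.Sylow
import Mathlib.GroupTheory.GroupAction.Quotient
-- import your own Cfsg.Agent.* helpers here

set_option autoImplicit false
open Cfsg

namespace Cfsg.Agent.S1018

theorem mem_of_mem_normalizer {G : Type*} [Group G] [Finite G] {p : ℕ} [Fact p.Prime]
    (P : Sylow p G) {z : G} {k : ℕ} (hz : orderOf z = p ^ k)
    (hzN : z ∈ Subgroup.normalizer ((P : Subgroup G) : Set G)) : z ∈ (P : Subgroup G) := by
  have hpz : IsPGroup p ↥(Subgroup.zpowers z) := IsPGroup.of_card (by rw [Nat.card_zpowers, hz])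
  have h := P.is_maximal' (P.isPGroup'.to_sup_of_normal_left' hpz (Subgroup.zpowers_le.mpr hzN))
    le_sup_left
  exact h.le (Subgroup.mem_sup_right (Subgroup.mem_zpowers z))


/-- Let P be a Sylow p-subgroup of order p of a finite group G, and consider the action of G on the left cosets of the normalizer N of P. Then every element of order p fixes exactly one coset, and an element of N that does not centralize P fixes at most as many cosets as there are orbits of P. -/
theorem result {G : Type*} [Group G] [Finite G] (p : ℕ) [Fact p.Prime] (P : Sylow p G) (hP : Nat.card ↥(P : Subgroup G) = p) : (∀ y : G, orderOf y = p → Nat.card (MulAction.fixedBy (G ⧸ Subgroup.normalizer ((P : Subgroup G) : Set G)) y) = 1) ∧ ∀ x : G, x ∈ Subgroup.normalizer ((P : Subgroup G) : Set G) → x ∉ Subgroup.centralizer ((P : Subgroup G) : Set G) → Nat.card (MulAction.fixedBy (G ⧸ Subgroup.normalizer ((P : Subgroup G) : Set G)) x) ≤ Nat.card (MulAction.orbitRel.Quotient ↥(P : Subgroup G) (G ⧸ Subgroup.normalizer ((P : Subgroup G) : Set G))) := by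
  classical
  have hp := (Fact.out : p.Prime)
  have hgen : ∀ u ∈ (P : Subgroup G), u ≠ 1 → Subgroup.zpowers u = (P : Subgroup G) := by
    intro u hu hu1
    refine Subgroup.eq_of_le_of_card_ge (Subgroup.zpowers_le.mpr hu) ?_
    rw [hP, Nat.card_zpowers]
    rcases (Nat.dvd_prime hp).mp (hP ▸ Subgroup.orderOf_dvd_natCard _ hu) with h | h
    · exact absurd (orderOf_eq_one_iff.mp h) hu1
    · rw [h]
  refine ⟨?_, ?_⟩
  · intro y hy
    have hy1 : y ≠ 1 := fun h => by rw [h, orderOf_one] at hy; exact hp.ne_one hy.symm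
    have hfix : ∀ g : G,
        (g : G ⧸ Subgroup.normalizer ((P : Subgroup G) : Set G)) ∈ MulAction.fixedBy _ y ↔
          g⁻¹ * y * g ∈ (P : Subgroup G) := by
      intro g
      rw [MulAction.mem_fixedBy, MulAction.Quotient.smul_coe, QuotientGroup.eq, smul_eq_mul]
      have e : (y * g)⁻¹ * g = (g⁻¹ * y * g)⁻¹ := by simp [mul_assoc]
      rw [e, inv_mem_iff]
      refine ⟨fun h => mem_of_mem_normalizer (k := 1) P ?_ h, fun h => Subgroup.le_normalizer h⟩
      rw [pow_one, ← hy, show g⁻¹ * y * g = MulAut.conj g⁻¹ y by simp, MulEquiv.orderOf_eq]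
    obtain ⟨R, hR⟩ := (IsPGroup.of_card (G := ↥(Subgroup.zpowers y)) (p := p) (n := 1)
      (by rw [Nat.card_zpowers, hy, pow_one])).exists_le_sylow
    obtain ⟨g, hg⟩ := MulAction.exists_smul_eq G P R
    have hgy : g⁻¹ * y * g ∈ (P : Subgroup G) := by
      have := hR (Subgroup.mem_zpowers y)
      rw [← hg] at this
      obtain ⟨z, hz, hzy⟩ := this
      have hzy' : g * z * g⁻¹ = y := hzy
      rw [← hzy', show g⁻¹ * (g * z * g⁻¹) * g = z by simp [mul_assoc]]
      exact hz
    rw [Nat.card_eq_one_iff_unique]
    refine ⟨⟨fun a b => ?_⟩, ⟨⟨_, (hfix g).mpr hgy⟩⟩⟩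
    obtain ⟨a, ha⟩ := a
    obtain ⟨b, hb⟩ := b
    induction a using QuotientGroup.induction_on with | H a =>
    induction b using QuotientGroup.induction_on with | H b =>
    apply Subtype.ext
    change (a : G ⧸ Subgroup.normalizer ((P : Subgroup G) : Set G)) = b
    rw [QuotientGroup.eq]
    have key : ∀ c : G, c⁻¹ * y * c ∈ (P : Subgroup G) →
        (P : Subgroup G).map (MulAut.conj c).toMonoidHom = Subgroup.zpowers y := by
      intro c hc
      rw [← hgen _ hc (fun h => hy1 (by
        have := congrArg (fun x => c * x * c⁻¹) h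
        simpa [mul_assoc] using this)), MonoidHom.map_zpowers]
      congr 1
      simp [mul_assoc]
    have e : ((a⁻¹ * b : G)) ∈ Subgroup.normalizer ((P : Subgroup G) : Set G) := by
      rw [Subgroup.mem_normalizer_iff_map_conj_eq]
      change (P : Subgroup G).map (MulAut.conj (a⁻¹ * b)).toMonoidHom = P
      apply Subgroup.map_injective (f := (MulAut.conj a).toMonoidHom) (MulAut.conj a).injective
      rw [key a ((hfix a).mp ha), ← key b ((hfix b).mp hb), Subgroup.map_map]
      congr 1
      ext x
      simp [mul_assoc]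
    exact e
  · intro x hx hxC
    refine Nat.card_le_card_of_injective (fun w => Quotient.mk'' w.1) ?_
    rintro ⟨w, hw⟩ ⟨w', hw'⟩ h
    rw [Quotient.eq'', MulAction.orbitRel_apply] at h
    obtain ⟨⟨u, hu⟩, huw⟩ := h
    apply Subtype.ext
    change u • w' = w at huw
    change w = w'
    rw [MulAction.mem_fixedBy] at hw hw'
    set c := x * u * x⁻¹ * u⁻¹ with hc
    have hcP : c ∈ (P : Subgroup G) :=
      mul_mem ((Subgroup.mem_normalizer_iff.mp hx u).mp hu) (inv_mem hu)
    by_cases hc1 : c = 1
    · by_cases hu1 : u = 1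
      · rw [← huw, hu1, one_smul]
      · exfalso
        apply hxC
        rw [Subgroup.mem_centralizer_iff]
        intro z hz
        rw [SetLike.mem_coe, ← hgen u hu hu1] at hz
        obtain ⟨i, rfl⟩ := Subgroup.mem_zpowers_iff.mp hz
        have : Commute u x := by
          rw [hc, mul_inv_eq_one, mul_inv_eq_iff_eq_mul] at hc1
          exact hc1.symm
        exact (this.zpow_left i).eq
    · have hfix : c • w = w := by
        have e1 : u⁻¹ • w = w' := by rw [← huw, inv_smul_smul]
        have e2 : x⁻¹ • w' = w' := by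
          conv_lhs => rw [← hw', inv_smul_smul]
        have e3 : x⁻¹ • w = w := by
          conv_lhs => rw [← hw, inv_smul_smul]
        calc c • w = x • u • x⁻¹ • u⁻¹ • w := by simp [hc, mul_smul]
          _ = w := by rw [e1, e2, huw, hw]
      have hu' : u⁻¹ • w = w := by
        have hst : Subgroup.zpowers c ≤ MulAction.stabilizer G w :=
          Subgroup.zpowers_le.mpr (MulAction.mem_stabilizer_iff.mpr hfix)
        rw [hgen c hcP hc1] at hst
        exact MulAction.mem_stabilizer_iff.mp (hst (inv_mem hu))
      rw [← huw, inv_smul_smul] at hu'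
      rw [← huw]
      exact hu'.symm

end Cfsg.Agent.S1018
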