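import Cfsg.Statements.S1014
import Cfsg.Agent.Lib.Small.SimpleOrder
import Cfsg.Agent.S1018
import Cfsg.Agent.S0991
import Mathlib.GroupTheory.Perm.Cycle.Type
-- import your own Cfsg.Agent.* helpers here

set_option autoImplicit false
open Cfsg

namespace Cfsg.Agent.S1014

theorem sign_toPerm {G α : Type*} [Group G] [MulAction G α] [Fintype α] [DecidableEq α] (t : G)
    (ht : t ^ 2 = 1) :
    Nat.card (MulAction.fixedBy α t) + (MulAction.toPermHom G α t).cycleType.sum = Fintype.card α := by
  classical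
  rw [Equiv.Perm.sum_cycleType, ← Finset.card_add_card_compl (MulAction.toPermHom G α t).support,
    add_comm, Nat.card_eq_fintype_card]
  congr 1
  rw [← Fintype.card_coe]
  refine Fintype.card_congr (Equiv.subtypeEquivRight fun x => ?_)
  simp [Finset.mem_compl, Equiv.Perm.mem_support, MulAction.mem_fixedBy]


/-- No finite simple group has order 1104 = 2^4 * 3 * 23. -/
theorem result {G : Type*} [Group G] [Finite G] [IsSimpleGroup G] : Nat.card G ≠ 1104 := by
  classical
  intro h
  have := Fact.mk (show Nat.Prime 23 by norm_num)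
  have := Fact.mk Nat.prime_two
  have hnc := Cfsg.Lib.Small.not_isCyclic_of_card (G := G) (by rw [h]; norm_num)
  have hk : Nat.card G = 23 ^ 1 * 48 := by rw [h]; norm_num
  obtain ⟨hc, hd, hm⟩ := Cfsg.Lib.OrderLeHundred.sylow_count 23 hk (by norm_num)
  have hn1 := Cfsg.Lib.OrderLeHundred.sylow_ne_one hnc 23 hk (by norm_num) one_ne_zero (by norm_num)
  have hn : Nat.card (Sylow 23 G) = 24 := by
    have := Nat.le_of_dvd (by norm_num) hd
    interval_cases hh : Nat.card (Sylow 23 G) <;> omega
  obtain ⟨P⟩ : Nonempty (Sylow 23 G) := inferInstance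
  have hP : Nat.card (P : Subgroup G) = 23 := by rw [hc P, pow_one]
  have hN := Cfsg.Lib.Small.card_normalizer_mul P
  rw [hn, h] at hN
  set N := Subgroup.normalizer ((P : Subgroup G) : Set G) with hNdef
  have hN46 : Nat.card N = 46 := by omega
  obtain ⟨⟨t, htN⟩, ht⟩ := exists_prime_orderOf_dvd_card' (G := N) 2 (by rw [hN46]; norm_num)
  rw [Subgroup.orderOf_mk] at ht
  have htC : t ∉ Subgroup.centralizer ((P : Subgroup G) : Set G) := by
    intro htC
    apply Cfsg.Lib.Small.not_normalizer_le_centralizer hnc P (fun hb => by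
      rw [hb, Subgroup.card_bot] at hP; norm_num at hP)
    set C := Subgroup.centralizer ((P : Subgroup G) : Set G)
    have h2 : 2 ∣ Nat.card C := ht ▸ Subgroup.orderOf_dvd_natCard _ htC
    have hPC : (P : Subgroup G) ≤ C := by
      have : IsCyclic (P : Subgroup G) := isCyclic_of_prime_card hP
      exact Subgroup.le_centralizer _
    have h23 : 23 ∣ Nat.card C := hP ▸ Subgroup.card_dvd_of_le hPC
    have h46 : 46 ∣ Nat.card C := Nat.Coprime.mul_dvd_of_dvd_of_dvd (by norm_num : Nat.Coprime 2 23) h2 h23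
    have hCN : C ≤ N := Subgroup.centralizer_le_normalizer _
    exact (Subgroup.eq_of_le_of_card_ge hCN (hN46 ▸ Nat.le_of_dvd Nat.card_pos h46)).ge
  have : Fintype (G ⧸ N) := Fintype.ofFinite _
  have hfix := (Cfsg.Agent.S1018.result 23 P hP).2 t htN htC
  have horb : Nat.card (MulAction.orbitRel.Quotient ↥(P : Subgroup G) (G ⧸ N)) ≤ 2 := by
    have hidx : Fintype.card (G ⧸ N) = 24 := by
      rw [← Nat.card_eq_fintype_card, ← Subgroup.index_eq_card, ← hn]
      exact P.card_eq_index_normalizer.symm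
    set o : G ⧸ N := ((1 : G) : G ⧸ N)
    have hstab : ∀ a : G ⧸ N, a ≠ o → MulAction.stabilizer ↥(P : Subgroup G) a = ⊥ := by
      intro a ha
      have : Fact (Nat.card (P : Subgroup G)).Prime := ⟨by rw [hP]; norm_num⟩
      refine (Subgroup.eq_bot_or_eq_top_of_prime_card _).resolve_right fun htop => ha ?_
      obtain ⟨⟨y, hy⟩, hyo⟩ := exists_prime_orderOf_dvd_card' (G := (P : Subgroup G)) 23 (by rw [hP])
      rw [Subgroup.orderOf_mk] at hyo
      have hone := (Cfsg.Agent.S1018.result 23 P hP).1 y hyo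
      obtain ⟨hsub, -⟩ := Nat.card_eq_one_iff_unique.mp hone
      have h1 : a ∈ MulAction.fixedBy (G ⧸ N) y := by
        rw [MulAction.mem_fixedBy]
        exact MulAction.mem_stabilizer_iff.mp
          (htop.ge (Subgroup.mem_top (⟨y, hy⟩ : (P : Subgroup G))))
      have h2 : o ∈ MulAction.fixedBy (G ⧸ N) y := by
        rw [MulAction.mem_fixedBy]
        change ((y * 1 : G) : G ⧸ N) = ((1 : G) : G ⧸ N)
        rw [QuotientGroup.eq, mul_one, mul_one]
        exact inv_mem (Subgroup.le_normalizer hy)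
      exact congrArg Subtype.val (hsub.elim ⟨a, h1⟩ ⟨o, h2⟩)
    have hsize : ∀ a : G ⧸ N, a ≠ o → MulAction.orbit ↥(P : Subgroup G) a = {x | x ≠ o} := by
      intro a ha
      refine Set.eq_of_subset_of_ncard_le ?_ ?_ (Set.toFinite _)
      · rintro _ ⟨u, rfl⟩ hu
        apply ha
        change u • a = o at hu
        have huo : u⁻¹ • o = o := by
          change (((u : G)⁻¹ * 1 : G) : G ⧸ N) = ((1 : G) : G ⧸ N)
          rw [QuotientGroup.eq, mul_one, mul_one, inv_inv]
          exact Subgroup.le_normalizer u.2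
        rw [← huo, ← hu, inv_smul_smul]
      · have h1 : ({x : G ⧸ N | x ≠ o} : Set (G ⧸ N)).ncard = 23 := by
          rw [show ({x : G ⧸ N | x ≠ o} : Set (G ⧸ N)) = {o}ᶜ from rfl, Set.ncard_compl,
            Set.ncard_singleton, Nat.card_eq_fintype_card, hidx]
        have h2 := MulAction.index_stabilizer ↥(P : Subgroup G) a
        rw [hstab a ha, Subgroup.index_bot, hP] at h2
        rw [h1, ← h2]
    obtain ⟨a, ha⟩ : ∃ a : G ⧸ N, a ≠ o := Fintype.exists_ne_of_one_lt_card (by omega) o
    let F : Bool → MulAction.orbitRel.Quotient ↥(P : Subgroup G) (G ⧸ N) :=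
      fun b => if b then Quotient.mk'' o else Quotient.mk'' a
    refine (Nat.card_le_card_of_surjective F ?_).trans (by simp)
    intro q
    obtain ⟨x, rfl⟩ := Quotient.exists_rep q
    by_cases hx : x = o
    · exact ⟨true, by simp only [F, if_true, hx]⟩
    · refine ⟨false, ?_⟩
      simp only [F, Bool.false_eq_true, if_false]
      refine Quotient.sound' ?_
      rw [MulAction.orbitRel_apply, hsize x hx]
      exact ha
  have hna : ¬ IsMulCommutative G := fun hc => hnc (by
    let _ : CommGroup G := { (inferInstance : Group G) with mul_comm := hc.is_comm.comm }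
    exact IsSimpleGroup.isCyclic)
  set σ := MulAction.toPermHom G (G ⧸ N) t
  have hσ2 : σ ^ 2 = 1 := by rw [← map_pow, ← ht, pow_orderOf_eq_one, map_one]
  have hsign : Equiv.Perm.sign σ = 1 :=
    Cfsg.Agent.S0991.eq_one_of_simple hna (Equiv.Perm.sign.comp (MulAction.toPermHom G (G ⧸ N))) t
  have hct := Equiv.Perm.cycleType_of_pow_prime_eq_one (p := 2) hσ2
  have hsum := sign_toPerm (α := G ⧸ N) t (by rw [← ht, pow_orderOf_eq_one])
  have hidx : Fintype.card (G ⧸ N) = 24 := by
    rw [← Nat.card_eq_fintype_card, ← Subgroup.index_eq_card, ← hn]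
    exact P.card_eq_index_normalizer.symm
  rw [hidx, hct, Multiset.sum_replicate, smul_eq_mul] at hsum
  rw [Equiv.Perm.sign_of_cycleType, hct, Multiset.sum_replicate, Multiset.card_replicate,
    smul_eq_mul] at hsign
  have hev : Even σ.cycleType.card := by
    by_contra hodd
    rw [Nat.not_even_iff_odd] at hodd
    have h3 : Odd (σ.cycleType.card * 2 + σ.cycleType.card) := by
      obtain ⟨k, hk⟩ := hodd; exact ⟨3 * k + 1, by omega⟩
    rw [h3.neg_one_pow] at hsign
    exact absurd hsign (by decide)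
  have hpos : 0 < Nat.card (MulAction.fixedBy (G ⧸ N) t) := by
    have : Nonempty (MulAction.fixedBy (G ⧸ N) t) := ⟨⟨((1 : G) : G ⧸ N), by
      rw [MulAction.mem_fixedBy]
      change ((t * 1 : G) : G ⧸ N) = ((1 : G) : G ⧸ N)
      rw [QuotientGroup.eq, mul_one, mul_one]
      exact inv_mem htN⟩⟩
    exact Nat.card_pos
  change Nat.card (MulAction.fixedBy (G ⧸ N) t) ≤
    Nat.card (MulAction.orbitRel.Quotient ↥(P : Subgroup G) (G ⧸ N)) at hfix
  obtain ⟨k, hk⟩ := hev
  rw [hk] at hsum
  omega

end Cfsg.Agent.S1014
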