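import Cfsg.Statements.S1015
import Cfsg.Agent.Lib.Small.SimpleOrder
import Cfsg.Agent.S0985
-- import your own Cfsg.Agent.* helpers here

set_option autoImplicit false
open Cfsg

namespace Cfsg.Agent.S1015


/-- No finite simple group has order 1200 = 2^4 * 3 * 5^2. -/
theorem result {G : Type*} [Group G] [Finite G] [IsSimpleGroup G] : Nat.card G ≠ 1200 := by
  classical
  intro h
  have := Fact.mk (show Nat.Prime 5 by norm_num)
  have hnc := Cfsg.Lib.Small.not_isCyclic_of_card (G := G) (by rw [h]; norm_num)
  have hk : Nat.card G = 5 ^ 2 * 48 := by rw [h]; norm_num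
  obtain ⟨hc, hd, hm⟩ := Cfsg.Lib.OrderLeHundred.sylow_count 5 hk (by norm_num)
  have hn1 := Cfsg.Lib.OrderLeHundred.sylow_ne_one hnc 5 hk (by norm_num) (by norm_num) (by norm_num)
  have hsmall : ∀ H : Subgroup G, H ≠ ⊤ → 8 < H.index := by
    intro H hH
    by_contra hle
    have := Cfsg.Lib.Small.index_dvd_factorial_le hH (show H.index ≤ 8 by omega)
    rw [h] at this
    norm_num [Nat.factorial] at this
  obtain ⟨P0⟩ : Nonempty (Sylow 5 G) := inferInstance
  have hn : Nat.card (Sylow 5 G) = 16 := by
    have hne : Subgroup.normalizer ((P0 : Subgroup G) : Set G) ≠ ⊤ := fun ht => hn1 (by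
      rw [show Nat.card (Sylow 5 G) = (Subgroup.normalizer ((P0 : Subgroup G) : Set G)).index from
        P0.card_eq_index_normalizer, ht, Subgroup.index_top])
    have h8 := hsmall _ hne
    rw [show (Subgroup.normalizer ((P0 : Subgroup G) : Set G)).index = Nat.card (Sylow 5 G) from
      P0.card_eq_index_normalizer.symm] at h8
    have := Nat.le_of_dvd (by norm_num) hd
    interval_cases hh : Nat.card (Sylow 5 G) <;> omega
  obtain ⟨P, R, hPR, hidx⟩ := Cfsg.Agent.S0985.result (G := G) 5 2 (by rw [hn]; decide)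
  set D := (P : Subgroup G) ⊓ (R : Subgroup G) with hD
  have hP : Nat.card (P : Subgroup G) = 25 := by rw [hc P]; norm_num
  have hR : Nat.card (R : Subgroup G) = 25 := by rw [hc R]; norm_num
  have hDc : 5 ≤ Nat.card D := by
    have h1 := Subgroup.card_mul_index ((R : Subgroup G).subgroupOf (P : Subgroup G))
    have e : Nat.card ((R : Subgroup G).subgroupOf (P : Subgroup G)) = Nat.card D := Nat.card_congr
      { toFun := fun x => ⟨x.1, x.1.2, x.2⟩
        invFun := fun x => ⟨⟨x.1, x.2.1⟩, x.2.2⟩
        left_inv := fun _ => rfl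
        right_inv := fun _ => rfl }
    rw [e, hP] at h1
    by_contra hlt
    have : Nat.card D * ((R : Subgroup G).subgroupOf (P : Subgroup G)).index ≤ 4 * 5 :=
      Nat.mul_le_mul (by omega) (by simpa using hidx)
    omega
  set N := Subgroup.normalizer (D : Set G) with hN
  have hab : ∀ S : Sylow 5 G, D ≤ (S : Subgroup G) → (S : Subgroup G) ≤ N := by
    intro S hS
    have hcomm : IsMulCommutative (S : Subgroup G) := IsPGroup.isMulCommutative_of_card_eq_prime_sq
      (p := 5) (by rw [hc S])
    refine le_trans ?_ (Subgroup.centralizer_le_normalizer _)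
    intro s hs
    rw [Subgroup.mem_centralizer_iff]
    exact fun d hd => setLike_mul_comm (hS hd) hs
  have hPN := hab P inf_le_left
  have hRN := hab R inf_le_right
  have hne : N ≠ ⊤ := by
    intro ht
    have hn' : D.Normal := Subgroup.normalizer_eq_top_iff.mp ht
    rcases hn'.eq_bot_or_eq_top with hb | hb
    · rw [hb, Subgroup.card_bot] at hDc; omega
    · have : Nat.card D ≤ 25 := hP ▸ Subgroup.card_le_of_le inf_le_left
      rw [hb, Subgroup.card_top, h] at this; omega
  have hcount : 6 ≤ Nat.card (Sylow 5 N) := by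
    have h1 : Nat.card (Sylow 5 N) % 5 = 1 % 5 := card_sylow_modEq_one 5 N
    by_contra hlt
    have hone : Nat.card (Sylow 5 N) = 1 := by omega
    have hsub : Subsingleton (Sylow 5 N) := (Nat.card_eq_one_iff_unique.mp hone).1
    have := congrArg (fun T : Sylow 5 N => (T : Subgroup N).map N.subtype)
      (hsub.elim (P.subtype hPN) (R.subtype hRN))
    simp only [Sylow.coe_subtype, Subgroup.map_subgroupOf_eq_of_le hPN,
      Subgroup.map_subgroupOf_eq_of_le hRN] at this
    exact hPR (Sylow.ext this)
  obtain ⟨T, hT⟩ : ∃ T : Sylow 5 N, T = P.subtype hPN := ⟨_, rfl⟩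
  have hTi := T.card_dvd_index
  have hTm := Subgroup.card_mul_index (T : Subgroup N)
  have hTc : Nat.card (T : Subgroup N) = 25 := by
    rw [hT, Sylow.coe_subtype, Nat.card_congr (Subgroup.subgroupOfEquivOfLe hPN).toEquiv, hP]
  have hNi := Subgroup.card_mul_index N
  rw [h] at hNi
  have h6 : 6 ≤ (T : Subgroup N).index := hcount.trans
    (Nat.le_of_dvd (Nat.pos_of_ne_zero Subgroup.index_ne_zero_of_finite) hTi)
  have := hsmall N hne
  rw [hTc] at hTm
  nlinarith

end Cfsg.Agent.S1015
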