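import Cfsg.Statements.S1017
import Cfsg.Agent.Lib.Small.BlockOrders
import Mathlib.NumberTheory.Divisors
-- import your own Cfsg.Agent.* helpers here

set_option autoImplicit false
open Cfsg

namespace Cfsg.Agent.S1017

open Cfsg.Lib.Small

theorem decide_two : ∀ d ∈ Nat.divisors 288, ∀ f ∈ Nat.divisors 288,
    ((d % 7 = 1 ∧ f = d + 1) ∨ ((d + 1) % 7 = 0 ∧ f + 1 = d)) →
    1 + d ^ 2 + 3 * f ^ 2 ≤ 2016 → d < 14 ∨ f < 14 := by decide +kernel

theorem decide_three : ∀ d₁ ∈ Nat.divisors 288, ∀ s₁ ∈ ([1, -1] : List ℤ), (s₁ * d₁ - 1) % 7 = 0 →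
    ∀ d₂ ∈ Nat.divisors 288, ∀ s₂ ∈ ([1, -1] : List ℤ), (s₂ * d₂ - 1) % 7 = 0 →
    ∀ f ∈ Nat.divisors 288, ∀ s ∈ ([1, -1] : List ℤ), (s * f + 3) % 7 = 0 →
    1 + s₁ * d₁ + s₂ * d₂ + s * f = 0 → 1 + d₁ ^ 2 + d₂ ^ 2 + 2 * f ^ 2 ≤ 2016 →
    d₁ < 14 ∨ d₂ < 14 ∨ f < 14 := by decide +kernel

theorem decide_big : ∀ d ∈ Nat.divisors 288, 14 ≤ d → (d % 7 = 1 ∨ d % 7 = 6) → 36 ≤ d := by
  decide +kernel

/-- No finite simple group has order 2016 = 2^5 * 3^2 * 7. -/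
theorem result {G : Type*} [Group G] [Finite G] [IsSimpleGroup G] : Nat.card G ≠ 2016 := by
  classical
  intro h
  haveI := Fintype.ofFinite G
  haveI : Fact (Nat.Prime 7) := ⟨by norm_num⟩
  have hm : Nat.card G = 7 * 288 := by rw [h]
  have hnc : ¬ IsCyclic G := not_isCyclic_of_card (by rw [h]; norm_num)
  have hsq := block_setup_c (G := G) (p := 7) hm (by norm_num)
  obtain ⟨P, e, c, n, ⟨S⟩, hC, hnec, hn, hn1, he2, hed, -⟩ :=
    block_setup (G := G) (p := 7) (by norm_num) hm (by norm_num) (by norm_num)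
  have hc1 : ∀ χ ∈ S.Z, χ ≠ one' G → charDegree (χ : G → ℂ) < 14 → c = 1 := fun χ hχ hne hlt => by
    have := S.small hnc hsq hχ hne hlt
    rw [hC] at this
    omega
  have he : e = 2 ∨ e = 3 ∨ e = 6 := by
    have := Nat.le_of_dvd (by norm_num) hed
    interval_cases e <;> simp_all
  rcases he with rfl | rfl | rfl
  · obtain ⟨χ, hχX, hne, -, -, hθ1, -, -, hdm, hfm, hor, hsum⟩ :=
      S.two_cases hnc hm rfl (by norm_num)
    have hcc : c = 1 := by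
      rcases decide_two _ (Nat.mem_divisors.2 ⟨hdm, by norm_num⟩) _
        (Nat.mem_divisors.2 ⟨hfm, by norm_num⟩) (hor.imp (fun h => ⟨h.2.2.1, h.2.2.2⟩)
          (fun h => ⟨h.2.2.1, h.2.2.2⟩)) (by rw [h] at hsum; exact hsum) with hs | hs
      · exact hc1 χ (S.mem_Z.2 (Or.inr hχX)) hne hs
      · exact hc1 _ (S.mem_Z.2 (Or.inl rfl)) hθ1 hs
    subst hcc
    omega
  · obtain ⟨χ, ψ, d₁, d₂, f, ⟨hχ, hne, hd1⟩, ⟨hψ, hne', hd2⟩, ⟨hθ1, hf⟩, -, -, -, hd1m, hd2m, hfm,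
      hsum, s₁, hs₁, s₂, hs₂, s, hs, c1, c2, c3, hrel⟩ := S.three_cases hnc hm rfl (by norm_num)
    have hcc : c = 1 := by
      rcases decide_three d₁ (Nat.mem_divisors.2 ⟨hd1m, by norm_num⟩) s₁ hs₁ c1 d₂
        (Nat.mem_divisors.2 ⟨hd2m, by norm_num⟩) s₂ hs₂ c2 f
        (Nat.mem_divisors.2 ⟨hfm, by norm_num⟩) s hs c3 hrel (by rw [h] at hsum; exact hsum) with
        hs | hs | hs
      · exact hc1 χ hχ hne (hd1 ▸ hs)
      · exact hc1 ψ hψ hne' (hd2 ▸ hs)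
      · exact hc1 _ (S.mem_Z.2 (Or.inl rfl)) hθ1 (hf ▸ hs)
    subst hcc
    omega
  · by_cases hsmall : ∃ χ ∈ S.Z, χ ≠ one' G ∧ charDegree (χ : G → ℂ) < 14
    · obtain ⟨χ, hχ, hne, hlt⟩ := hsmall
      have hcc := hc1 χ hχ hne hlt
      subst hcc
      omega
    · push Not at hsmall
      have hbig : ∀ χ ∈ S.Z.erase (one' G), 36 ^ 2 ≤ charDegree (χ : G → ℂ) ^ 2 := by
        intro χ hχ'
        obtain ⟨hne, hχ⟩ := Finset.mem_erase.1 hχ'
        refine Nat.pow_le_pow_left (decide_big _ (Nat.mem_divisors.2 ⟨S.deg_dvd hm hχ, by norm_num⟩)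
          (hsmall χ hχ hne) ?_) 2
        have hc5 := S.cong_all rfl hχ
        unfold Int.ModEq at hc5
        rcases S.sign χ hχ with hs | hs <;> rw [hs] at hc5 <;> push_cast at hc5 <;> omega
      have h1 := Finset.card_nsmul_le_sum _ _ _ hbig
      rw [Finset.card_erase_of_mem S.one_mem, S.card_Z, smul_eq_mul] at h1
      have h2 := S.sum_sq
      have h3 : ∑ χ ∈ S.Z.erase (one' G), charDegree (χ : G → ℂ) ^ 2 ≤
          ∑ χ ∈ S.Z, charDegree (χ : G → ℂ) ^ 2 :=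
        Finset.sum_le_sum_of_subset (Finset.erase_subset _ _)
      rw [S.Z_eq, Finset.sum_insert S.θ_notMem] at h3
      rw [S.Z_eq] at h1
      rw [h] at h2
      norm_num at h1 h2
      omega

end Cfsg.Agent.S1017
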