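import Cfsg.Statements.S1035
import Cfsg.Agent.Lib.Chev.FullAll
import Cfsg.Agent.Lib.Chev.OrderG2
import Cfsg.Agent.Lib.Chev.OrderF4
import Cfsg.Agent.Lib.Chev.OrderE8
import Cfsg.Agent.Lib.Chev.OrderE6
import Cfsg.Agent.Lib.Chev.OrderE7
import Cfsg.Agent.Lib.Chev.OrderB2
import Cfsg.Agent.Lib.Chev.OrderD4

set_option autoImplicit false
open Cfsg

namespace Cfsg.Agent.S1035

/-- `d · |H| = (q - 1)^rank` over a field with `q` elements, with `d = 1` (G₂, F₄, E₈), `gcd(3, q-1)` (E₆), `gcd(2, q-1)` (E₇, B₂), `gcd(2, q-1)²` (D₄). -/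
theorem result {F : Type*} [Field F] [Fintype F] {q : ℕ} (hq : Fintype.card F = q)
    (p : Cfsg.Lie.ChevalleyDatum × ℕ)
    (hp : p ∈ [(Cfsg.Lie.chevG2, 1), (Cfsg.Lie.chevF4, 1), (Cfsg.Lie.chevE8, 1), (Cfsg.Lie.chevE6, Nat.gcd 3 (q - 1)),
      (Cfsg.Lie.chevE7, Nat.gcd 2 (q - 1)), (Cfsg.Lie.chevB2, Nat.gcd 2 (q - 1)), (Cfsg.Lie.chevD4, Nat.gcd 2 (q - 1) ^ 2)]) :
    p.2 * Nat.card (p.1.diagonalSubgroup F) = (q - 1) ^ p.1.rank := by
  classical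
  rw [← Nat.card_eq_fintype_card] at hq
  subst hq
  simp only [List.mem_cons, List.not_mem_nil, or_false] at hp
  rcases hp with rfl | rfl | rfl | rfl | rfl | rfl | rfl
  · have h := Cfsg.Lib.Chev.TorusCert.card (F := F) Cfsg.Lib.Chev.fullCertG2.comm.cert Cfsg.Lib.Chev.torusCertG2
    have e : (∏ k, (Nat.card F - 1).gcd ((![1, 1] : Fin 2 → ℕ) k)) * Nat.card ↥(Cfsg.Lie.chevG2.diagonalSubgroup F) = _ := h
    show _ * Nat.card ↥(Cfsg.Lie.chevG2.diagonalSubgroup F) = _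
    generalize Nat.card ↥(Cfsg.Lie.chevG2.diagonalSubgroup F) = N at e ⊢
    generalize Nat.card F = q at e ⊢
    simp [Fin.prod_univ_succ] at e ⊢
    linear_combination e
  · have h := Cfsg.Lib.Chev.TorusCert.card (F := F) Cfsg.Lib.Chev.fullCertF4.comm.cert Cfsg.Lib.Chev.torusCertF4
    have e : (∏ k, (Nat.card F - 1).gcd ((![1, 1, 1, 1] : Fin 4 → ℕ) k)) * Nat.card ↥(Cfsg.Lie.chevF4.diagonalSubgroup F) = _ := h
    show _ * Nat.card ↥(Cfsg.Lie.chevF4.diagonalSubgroup F) = _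
    generalize Nat.card ↥(Cfsg.Lie.chevF4.diagonalSubgroup F) = N at e ⊢
    generalize Nat.card F = q at e ⊢
    simp [Fin.prod_univ_succ] at e ⊢
    linear_combination e
  · have h := Cfsg.Lib.Chev.TorusCert.card (F := F) Cfsg.Lib.Chev.fullCertE8.comm.cert Cfsg.Lib.Chev.torusCertE8
    have e : (∏ k, (Nat.card F - 1).gcd ((![1, 1, 1, 1, 1, 1, 1, 1] : Fin 8 → ℕ) k)) * Nat.card ↥(Cfsg.Lie.chevE8.diagonalSubgroup F) = _ := h
    show _ * Nat.card ↥(Cfsg.Lie.chevE8.diagonalSubgroup F) = _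
    generalize Nat.card ↥(Cfsg.Lie.chevE8.diagonalSubgroup F) = N at e ⊢
    generalize Nat.card F = q at e ⊢
    simp [Fin.prod_univ_succ] at e ⊢
    linear_combination e
  · have h := Cfsg.Lib.Chev.TorusCert.card (F := F) Cfsg.Lib.Chev.fullCertE6.comm.cert Cfsg.Lib.Chev.torusCertE6
    have e : (∏ k, (Nat.card F - 1).gcd ((![1, 1, 1, 1, 1, 3] : Fin 6 → ℕ) k)) * Nat.card ↥(Cfsg.Lie.chevE6.diagonalSubgroup F) = _ := h
    show _ * Nat.card ↥(Cfsg.Lie.chevE6.diagonalSubgroup F) = _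
    generalize Nat.card ↥(Cfsg.Lie.chevE6.diagonalSubgroup F) = N at e ⊢
    generalize Nat.card F = q at e ⊢
    simp [Fin.prod_univ_succ] at e ⊢
    rw [Nat.gcd_comm (q - 1) 3] at e
    linear_combination e
  · have h := Cfsg.Lib.Chev.TorusCert.card (F := F) Cfsg.Lib.Chev.fullCertE7.comm.cert Cfsg.Lib.Chev.torusCertE7
    have e : (∏ k, (Nat.card F - 1).gcd ((![1, 1, 1, 1, 1, 1, 2] : Fin 7 → ℕ) k)) * Nat.card ↥(Cfsg.Lie.chevE7.diagonalSubgroup F) = _ := h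
    show _ * Nat.card ↥(Cfsg.Lie.chevE7.diagonalSubgroup F) = _
    generalize Nat.card ↥(Cfsg.Lie.chevE7.diagonalSubgroup F) = N at e ⊢
    generalize Nat.card F = q at e ⊢
    simp [Fin.prod_univ_succ] at e ⊢
    rw [Nat.gcd_comm (q - 1) 2] at e
    linear_combination e
  · have h := Cfsg.Lib.Chev.TorusCert.card (F := F) Cfsg.Lib.Chev.fullCertB2.comm.cert Cfsg.Lib.Chev.torusCertB2
    have e : (∏ k, (Nat.card F - 1).gcd ((![1, 2] : Fin 2 → ℕ) k)) * Nat.card ↥(Cfsg.Lie.chevB2.diagonalSubgroup F) = _ := h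
    show _ * Nat.card ↥(Cfsg.Lie.chevB2.diagonalSubgroup F) = _
    generalize Nat.card ↥(Cfsg.Lie.chevB2.diagonalSubgroup F) = N at e ⊢
    generalize Nat.card F = q at e ⊢
    simp [Fin.prod_univ_succ] at e ⊢
    rw [Nat.gcd_comm (q - 1) 2] at e
    linear_combination e
  · have h := Cfsg.Lib.Chev.TorusCert.card (F := F) Cfsg.Lib.Chev.fullCertD4.comm.cert Cfsg.Lib.Chev.torusCertD4
    have e : (∏ k, (Nat.card F - 1).gcd ((![1, 1, 2, 2] : Fin 4 → ℕ) k)) * Nat.card ↥(Cfsg.Lie.chevD4.diagonalSubgroup F) = _ := h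
    show _ * Nat.card ↥(Cfsg.Lie.chevD4.diagonalSubgroup F) = _
    generalize Nat.card ↥(Cfsg.Lie.chevD4.diagonalSubgroup F) = N at e ⊢
    generalize Nat.card F = q at e ⊢
    simp [Fin.prod_univ_succ] at e ⊢
    rw [Nat.gcd_comm (q - 1) 2] at e
    linear_combination e

end Cfsg.Agent.S1035
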