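import Cfsg.Statements.S1044
import Cfsg.Agent.Lib.Chev.FullAll
import Cfsg.Agent.Lib.Chev.BN

set_option autoImplicit false
open Cfsg

namespace Cfsg.Agent.S1044

/-- For a fundamental root `p` the set `B ∪ B n_p B` is (the carrier of) a subgroup of the general linear group. -/
theorem result {F : Type*} [Field F] (D : Cfsg.Lie.ChevalleyDatum) (hD : D ∈ [Cfsg.Lie.chevG2, Cfsg.Lie.chevB2, Cfsg.Lie.chevD4, Cfsg.Lie.chevF4, Cfsg.Lie.chevE6, Cfsg.Lie.chevE7, Cfsg.Lie.chevE8]) (i : ℕ) (hi : i < D.rank) (n : GL D.Idx F)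
    (hn : (n : Matrix D.Idx D.Idx F) = D.nMat F (D.simple i) 1) :
    ∃ P : Subgroup (GL D.Idx F), (P : Set (GL D.Idx F)) =
      (D.borelSubgroup F : Set (GL D.Idx F)) ∪ DoubleCoset.doubleCoset n (D.borelSubgroup F : Set (GL D.Idx F)) (D.borelSubgroup F) := by
  obtain ⟨T, K⟩ := Cfsg.Lib.Chev.exists_fullCert hD
  have C := K.comm.cert
  rw [Cfsg.Lib.Chev.eq_nu_iff C hi] at hn
  subst hn
  have hνν := Cfsg.Lib.Chev.nu_sq C (F := F) hi
  have hH : D.diagonalSubgroup F ≤ D.borelSubgroup F := le_sup_right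
  have hh : Cfsg.Lib.Chev.hg C (T.simp' i) (-1 : F) ∈ D.borelSubgroup F :=
    hH (Cfsg.Lib.Chev.hg_mem C (C.spec.simp_lt i hi) (neg_ne_zero.2 one_ne_zero))
  let S : Set (GL D.Idx F) := (D.borelSubgroup F : Set (GL D.Idx F)) ∪
    DoubleCoset.doubleCoset (Cfsg.Lib.Chev.nu C (F := F) i) (D.borelSubgroup F : Set (GL D.Idx F)) (D.borelSubgroup F)
  have mk' : ∀ {x y : GL D.Idx F}, x ∈ D.borelSubgroup F → y ∈ D.borelSubgroup F → x * (Cfsg.Lib.Chev.nu C (F := F) i) * y ∈ S :=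
    fun hx hy => Or.inr (DoubleCoset.mem_doubleCoset.2 ⟨_, hx, _, hy, rfl⟩)
  refine ⟨⟨⟨⟨S, ?_⟩, Or.inl (one_mem _)⟩, ?_⟩, rfl⟩
  · intro a b ha hb
    rcases ha with ha | ha <;> rcases hb with hb | hb
    · exact Or.inl (mul_mem ha hb)
    · obtain ⟨p, hp, q, hq, rfl⟩ := DoubleCoset.mem_doubleCoset.1 hb
      rw [show a * (p * (Cfsg.Lib.Chev.nu C (F := F) i) * q) = (a * p) * (Cfsg.Lib.Chev.nu C (F := F) i) * q by group]
      exact mk' (mul_mem ha hp) hq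
    · obtain ⟨p, hp, q, hq, rfl⟩ := DoubleCoset.mem_doubleCoset.1 ha
      rw [show p * (Cfsg.Lib.Chev.nu C (F := F) i) * q * b = p * (Cfsg.Lib.Chev.nu C (F := F) i) * (q * b) by group]
      exact mk' hp (mul_mem hq hb)
    · obtain ⟨p, hp, q, hq, rfl⟩ := DoubleCoset.mem_doubleCoset.1 ha
      obtain ⟨p', hp', q', hq', rfl⟩ := DoubleCoset.mem_doubleCoset.1 hb
      obtain ⟨x, hx, y, hy, h | h⟩ := Cfsg.Lib.Chev.nu_mul_borel C K hi (mul_mem hq hp') (Cfsg.Lib.Chev.nu_mem C (F := F) i hi)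
      · refine Or.inl ?_
        rw [show p * (Cfsg.Lib.Chev.nu C (F := F) i) * q * (p' * (Cfsg.Lib.Chev.nu C (F := F) i) * q') = p * ((Cfsg.Lib.Chev.nu C (F := F) i) * (q * p') * (Cfsg.Lib.Chev.nu C (F := F) i)) * q' by group]
        show p * (Cfsg.Lib.Chev.nu C i * (q * p') * Cfsg.Lib.Chev.nu C i) * q' ∈ D.borelSubgroup F
        rw [h, hνν]
        exact mul_mem (mul_mem hp (mul_mem (mul_mem hx hh) hy)) hq'
      · rw [show p * (Cfsg.Lib.Chev.nu C (F := F) i) * q * (p' * (Cfsg.Lib.Chev.nu C (F := F) i) * q') = p * ((Cfsg.Lib.Chev.nu C (F := F) i) * (q * p') * (Cfsg.Lib.Chev.nu C (F := F) i)) * q' by group]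
        show p * (Cfsg.Lib.Chev.nu C i * (q * p') * Cfsg.Lib.Chev.nu C i) * q' ∈ S
        rw [h, show p * (x * Cfsg.Lib.Chev.nu C i * y) * q' = (p * x) * (Cfsg.Lib.Chev.nu C (F := F) i) * (y * q') by group]
        exact mk' (mul_mem hp hx) (mul_mem hy hq')
  · intro a ha
    rcases ha with ha | ha
    · exact Or.inl (inv_mem ha)
    · obtain ⟨p, hp, q, hq, rfl⟩ := DoubleCoset.mem_doubleCoset.1 ha
      show (p * (Cfsg.Lib.Chev.nu C (F := F) i) * q)⁻¹ ∈ S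
      have e : (Cfsg.Lib.Chev.nu C (F := F) i)⁻¹ = (Cfsg.Lib.Chev.nu C (F := F) i) * (Cfsg.Lib.Chev.hg C (T.simp' i) (-1 : F))⁻¹ := by
        rw [← hνν, mul_inv_rev, ← mul_assoc, mul_inv_cancel, one_mul]
      rw [mul_inv_rev, mul_inv_rev, e, show q⁻¹ * ((Cfsg.Lib.Chev.nu C (F := F) i) * (Cfsg.Lib.Chev.hg C (T.simp' i) (-1 : F))⁻¹ * p⁻¹) =
        q⁻¹ * (Cfsg.Lib.Chev.nu C (F := F) i) * ((Cfsg.Lib.Chev.hg C (T.simp' i) (-1 : F))⁻¹ * p⁻¹) by group]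
      exact mk' (inv_mem hq) (mul_mem (inv_mem hh) (inv_mem hp))

end Cfsg.Agent.S1044
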