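import Cfsg.Statements.S1058
import Cfsg.Agent.Lib.Chev.B2Sp
import Cfsg.Agent.S0247

set_option autoImplicit false
open Cfsg

namespace Cfsg.Agent.S1058

/-- B₂(2) ≅ S₆. -/
theorem result {F : Type*} [Field F] [Fintype F] (hF : Fintype.card F = 2) :
    Nonempty (↥(Cfsg.Lie.chevB2.group F) ≃* Equiv.Perm (Fin 6)) := by
  obtain ⟨e⟩ := Cfsg.Lib.Chev.B2Sp.nonempty_equiv_psp (F := F)
  obtain ⟨e'⟩ := Cfsg.Agent.S0247.result hF
  have hz : Subgroup.center (Matrix.symplecticGroup (Fin 2) F) = ⊥ := by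
    rw [← Subgroup.card_eq_one, Cfsg.Agent.S0246.result hF 2 (by norm_num)]
    rfl
  exact ⟨(e.trans ((QuotientGroup.quotientMulEquivOfEq hz).trans QuotientGroup.quotientBot)).trans e'⟩

end Cfsg.Agent.S1058
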