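import Cfsg.Statements.S1064
import Cfsg.Agent.Lib.Chev.OrderE7
import Cfsg.Agent.Lib.Chev.FullAll

set_option autoImplicit false
open Cfsg

namespace Cfsg.Agent.S1064

/-- `gcd(2, q-1) · |E₇(q)| = q⁶³ ∏_{d ∈ {2,6,8,10,12,14,18}} (q^d - 1)`. -/
theorem result {F : Type*} [Field F] [Fintype F] {q : ℕ} (hq : Fintype.card F = q) : Nat.gcd 2 (q - 1) * Nat.card ↥(Cfsg.Lie.chevE7.group F) = q ^ 63 * (q ^ 2 - 1) * (q ^ 6 - 1) * (q ^ 8 - 1) * (q ^ 10 - 1) * (q ^ 12 - 1) * (q ^ 14 - 1) * (q ^ 18 - 1) := by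
  classical
  rw [← Nat.card_eq_fintype_card] at hq
  subst hq
  have h := Cfsg.Lib.Chev.order_formula (F := F) Cfsg.Lib.Chev.fullCertE7.comm.cert Cfsg.Lib.Chev.fullCertE7 Cfsg.Lib.Chev.chkWeylE7 Cfsg.Lib.Chev.torusCertE7
    (Cfsg.Lib.Chev.polyE7 Nat.card_pos)
  rw [show Cfsg.Lie.chevE7.nroots / 2 = 63 from rfl] at h
  have e : (∏ k, (Nat.card F - 1).gcd ((![1, 1, 1, 1, 1, 1, 2] : Fin 7 → ℕ) k)) * Nat.card ↥(Cfsg.Lie.chevE7.group F) = _ := h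
  generalize Nat.card ↥(Cfsg.Lie.chevE7.group F) = N at e ⊢
  generalize Nat.card F = q at e ⊢
  simp [Fin.prod_univ_succ] at e
  rw [Nat.gcd_comm (q - 1) 2] at e
  linear_combination e

end Cfsg.Agent.S1064
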