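import Cfsg.Statements.S1075
import Cfsg.Agent.Lib.ReeThree.Simple
import Cfsg.Agent.S1011
-- import your own Cfsg.Agent.* helpers here

set_option autoImplicit false
open Cfsg

namespace Cfsg.Agent.S1075

/-- The derived subgroup of ²G₂(3) (θ = identity over the field with three elements) has order 504 = 1512/3 and is isomorphic to PSL₂ over the field with eight elements. -/
theorem result {L : Type*} [Field L] [Fintype L] (hL : Fintype.card L = 8) :
    Nat.card ↥(commutator ↥(Cfsg.Lie.twistedG2 (ZMod 3) 1)) = 504 ∧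
      Nonempty (↥(commutator ↥(Cfsg.Lie.twistedG2 (ZMod 3) 1)) ≃* Matrix.ProjectiveSpecialLinearGroup (Fin 2) L) := by
  haveI : Fact (Nat.Prime 3) := ⟨Nat.prime_three⟩
  have hK : Fintype.card (ZMod 3) = 3 ^ (2 * 0 + 1) := by rw [ZMod.card]; norm_num
  haveI := Cfsg.Lib.Chev.g2_charP hK
  obtain ⟨h, hs⟩ := Cfsg.Lib.ReeThree.commutator_simple hK
  have hE : Cfsg.Lie.twistedG2 (ZMod 3) 1 = Cfsg.Lib.Chev.G2Aut.gG (ZMod 3) 0 := by
    have e := Cfsg.Lib.Chev.twistedG2_eq hK
    rw [pow_zero] at e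
    exact e
  rw [hE]
  haveI := hs
  exact ⟨h, Cfsg.Agent.S1011.result h hL⟩

end Cfsg.Agent.S1075
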