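import Cfsg.Statements.S1077
import Cfsg.Agent.Lib.Chev.Presentation.Steinberg

set_option autoImplicit false
open Cfsg

namespace Cfsg.Agent.S1077

/-- Steinberg's Theorem: there is a homomorphism `x̄_r(t) ↦ x_r(t)` from the presented group onto the Chevalley group whose kernel is precisely the centre; hence `L(K) ≅ Ḡ/Z(Ḡ)`. -/
theorem result {K : Type*} [Field K] (D : Cfsg.Lie.ChevalleyDatum) (hD : D ∈ [Cfsg.Lie.chevG2, Cfsg.Lie.chevB2, Cfsg.Lie.chevD4, Cfsg.Lie.chevF4, Cfsg.Lie.chevE6, Cfsg.Lie.chevE7, Cfsg.Lie.chevE8]) :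
    ∃ θ : D.SteinbergGroup K →* ↥(D.group K), Function.Surjective θ ∧ θ.ker = Subgroup.center (D.SteinbergGroup K) ∧
      ∀ (r : ℕ) (t : K), r < D.nroots → ((θ (D.stGen K r t) : GL D.Idx K) : Matrix D.Idx D.Idx K) = D.x K r t := by
  open Cfsg.Lib.Chev in
  exact (by
    obtain ⟨T, Kc, hS⟩ := exists_selfCert hD
    have C := Kc.comm.cert
    have hπ : ∀ r < D.nroots, ∀ t, stHom (F := K) C Kc.comm (D.stGen K r t) = xg C r t :=
      fun r hr t => stHom_gen C Kc.comm hr t
    have hran := stHom_range C Kc (stHom (F := K) C Kc.comm) hπ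
    let θ : D.SteinbergGroup K →* ↥(D.group K) := (stHom (F := K) C Kc.comm).codRestrict (D.group K) fun g => hran ▸ ⟨g, rfl⟩
    have hsurj : Function.Surjective θ := fun y => by
      obtain ⟨g, hg⟩ : (y : GL D.Idx K) ∈ (stHom (F := K) C Kc.comm).range := by rw [hran]; exact y.2
      exact ⟨g, Subtype.ext hg⟩
    refine ⟨θ, hsurj, le_antisymm (fun g hg => ?_) (fun g hg => ?_), fun r t hr => ?_⟩
    · exact (st_ker_le C Kc hS _ hπ (congrArg Subtype.val (MonoidHom.mem_ker.1 hg))).2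
    · rw [MonoidHom.mem_ker, ← Subgroup.mem_bot, ← group_center_eq_bot C Kc, Subgroup.mem_center_iff]
      intro y
      obtain ⟨z, rfl⟩ := hsurj y
      rw [← map_mul, ← map_mul, Subgroup.mem_center_iff.1 hg]
    · show ((stHom (F := K) C Kc.comm (D.stGen K r t) : GL D.Idx K) : Matrix D.Idx D.Idx K) = _
      rw [hπ r hr]
      rfl)

end Cfsg.Agent.S1077
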