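import Cfsg.Statements.S1078
import Cfsg.Agent.Lib.Chev.Presentation.Steinberg

set_option autoImplicit false
open Cfsg

namespace Cfsg.Agent.S1078

/-- For G₂, F₄, E₈ the presented group has trivial centre (the universal and adjoint groups coincide). -/
theorem result {K : Type*} [Field K] (D : Cfsg.Lie.ChevalleyDatum) (hD : D ∈ [Cfsg.Lie.chevG2, Cfsg.Lie.chevF4, Cfsg.Lie.chevE8]) :
    Subgroup.center (D.SteinbergGroup K) = ⊥ := by
  open Cfsg.Lib.Chev in
  exact (by
    obtain ⟨T, M, Kc, hS, hM⟩ := exists_invCert hD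
    have C := Kc.comm.cert
    have hπ : ∀ r < D.nroots, ∀ t, stHom (F := K) C Kc.comm (D.stGen K r t) = xg C r t :=
      fun r hr t => stHom_gen C Kc.comm hr t
    have hran := stHom_range C Kc (stHom (F := K) C Kc.comm) hπ
    refine (Subgroup.eq_bot_iff_forall _).2 fun g hg => ?_
    have h1 : stHom (F := K) C Kc.comm g = 1 := by
      have hc : (⟨stHom (F := K) C Kc.comm g, by rw [← hran]; exact ⟨g, rfl⟩⟩ : ↥(D.group K)) ∈ Subgroup.center ↥(D.group K) :=
        Subgroup.mem_center_iff.2 fun y => Subtype.ext (by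
          obtain ⟨z, hz⟩ : (y : GL D.Idx K) ∈ (stHom (F := K) C Kc.comm).range := by rw [hran]; exact y.2
          show (y : GL D.Idx K) * stHom (F := K) C Kc.comm g = stHom (F := K) C Kc.comm g * (y : GL D.Idx K)
          rw [← hz, ← map_mul, ← map_mul, Subgroup.mem_center_iff.1 hg])
      rw [group_center_eq_bot C Kc, Subgroup.mem_bot] at hc
      exact congrArg Subtype.val hc
    exact st_hSub_inj C Kc hS hM _ hπ (st_ker_le C Kc hS _ hπ h1).1 h1)

end Cfsg.Agent.S1078
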