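import Cfsg.Statements.S1079
import Cfsg.Agent.Lib.Chev.StCenter
import Cfsg.Agent.Lib.Chev.OrderE6
import Cfsg.Agent.Lib.Chev.OrderE7

set_option autoImplicit false
open Cfsg

namespace Cfsg.Agent.S1079

/-- `|Z(Ḡ)| = gcd(3, q-1)` for E₆ and `gcd(2, q-1)` for E₇ over a field with `q` elements (the centre is dual to the weight lattice modulo the root lattice). -/
theorem result {K : Type*} [Field K] [Fintype K] {q : ℕ} (hq : Fintype.card K = q)
    (p : Cfsg.Lie.ChevalleyDatum × ℕ) (hp : p ∈ [(Cfsg.Lie.chevE6, 3), (Cfsg.Lie.chevE7, 2)]) :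
    Nat.card (Subgroup.center (p.1.SteinbergGroup K)) = Nat.gcd p.2 (q - 1) := by
  classical
  open Cfsg.Lib.Chev Cfsg.Lie in
  exact (by
    have hU : Nat.card Kˣ = q - 1 := by rw [Nat.card_units, Nat.card_eq_fintype_card, hq]
    simp only [List.mem_cons, List.not_mem_nil, or_false] at hp
    rcases hp with rfl | rfl
    · have hc := card_center_of_sub (F := K) fullCertE6.comm.cert fullCertE6
        (hasNbr_of_chk fullCertE6.comm.cert nbrChk_E6) fullCertE8.comm.cert fullCertE8.comm chkSub_E6 invCartE8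
      obtain ⟨P, P', Q, Q', h1, h2, h3, h4⟩ := torusCertE6.exists_snf
      have hk := card_ker_powHom (G := Kˣ) h1 h2 h3 h4
      rw [hU] at hk
      have hk' : _ = ∏ k, (q - 1).gcd ((![1, 1, 1, 1, 1, 3] : Fin 6 → ℕ) k) := hc.trans hk
      refine hk'.trans ?_
      simp [Fin.prod_univ_succ, Nat.gcd_comm]
    · have hc := card_center_of_sub (F := K) fullCertE7.comm.cert fullCertE7
        (hasNbr_of_chk fullCertE7.comm.cert nbrChk_E7) fullCertE8.comm.cert fullCertE8.comm chkSub_E7 invCartE8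
      obtain ⟨P, P', Q, Q', h1, h2, h3, h4⟩ := torusCertE7.exists_snf
      have hk := card_ker_powHom (G := Kˣ) h1 h2 h3 h4
      rw [hU] at hk
      have hk' : _ = ∏ k, (q - 1).gcd ((![1, 1, 1, 1, 1, 1, 2] : Fin 7 → ℕ) k) := hc.trans hk
      refine hk'.trans ?_
      simp [Fin.prod_univ_succ, Nat.gcd_comm])

end Cfsg.Agent.S1079
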