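import Cfsg.Statements.S1080
import Cfsg.Agent.Lib.Linear.ChevBasic

set_option autoImplicit false
open Cfsg

namespace Cfsg.Agent.S1080

/-- Field automorphisms: for every field automorphism `f` there is a group automorphism sending each `x_r(t)` to `x_r(f t)`. -/
theorem result {F : Type*} [Field F] (D : Cfsg.Lie.ChevalleyDatum) (hD : D ∈ [Cfsg.Lie.chevG2, Cfsg.Lie.chevB2, Cfsg.Lie.chevD4, Cfsg.Lie.chevF4, Cfsg.Lie.chevE6, Cfsg.Lie.chevE7, Cfsg.Lie.chevE8]) (f : F ≃+* F) :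
    ∃ α : ↥(D.group F) ≃* ↥(D.group F), ∀ (g : ↥(D.group F)) (r : ℕ) (t : F), r < D.nroots →
      ((g : GL D.Idx F) : Matrix D.Idx D.Idx F) = D.x F r t → ((α g : GL D.Idx F) : Matrix D.Idx D.Idx F) = D.x F r (f t) := by
  have h1 := Cfsg.Lib.Linear.Chev.group_map_le D f.toRingHom
  have h2 := Cfsg.Lib.Linear.Chev.group_map_le D f.symm.toRingHom
  have e1 : ∀ g : GL D.Idx F, Matrix.GeneralLinearGroup.map f.symm.toRingHom (Matrix.GeneralLinearGroup.map f.toRingHom g) = g :=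
    fun g => Units.ext (Matrix.ext fun i j => f.symm_apply_apply _)
  have e2 : ∀ g : GL D.Idx F, Matrix.GeneralLinearGroup.map f.toRingHom (Matrix.GeneralLinearGroup.map f.symm.toRingHom g) = g :=
    fun g => Units.ext (Matrix.ext fun i j => f.apply_symm_apply _)
  refine ⟨{ toFun := fun g => ⟨_, h1 ⟨g.1, g.2, rfl⟩⟩, invFun := fun g => ⟨_, h2 ⟨g.1, g.2, rfl⟩⟩,
            left_inv := fun g => Subtype.ext (e1 g.1), right_inv := fun g => Subtype.ext (e2 g.1),
            map_mul' := fun g h => Subtype.ext (map_mul _ _ _) }, fun g r t _ hg => ?_⟩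
  show ((g : GL D.Idx F) : Matrix D.Idx D.Idx F).map f.toRingHom = _
  rw [hg]
  exact Cfsg.Lib.Linear.Chev.xMat_map D f.toRingHom r t

end Cfsg.Agent.S1080
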