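import Cfsg.Statements.S1085
import Cfsg.Agent.Lib.Chev.TwE6
import Cfsg.Agent.Lib.Chev.TwBNTools

set_option autoImplicit false
open Cfsg

namespace Cfsg.Agent.S1085

/-- ²E₆(q) has a (B,N)-pair: B¹ = G¹ ∩ B and N¹ = G¹ ∩ N, intersections with the ambient Chevalley group's B = UH and N. -/
theorem result {K : Type*} [Field K] [Fintype K] {q : ℕ} (hq : IsPrimePow q) (hK : Fintype.card K = q ^ 2) :
    ∃ P : Cfsg.BNPair ↥(Cfsg.Lie.twistedE6 K q),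
      P.B = (Cfsg.Lie.chevE6.borelSubgroup K ⊓ Cfsg.Lie.twistedE6 K q).subgroupOf (Cfsg.Lie.twistedE6 K q) ∧
      P.N = (Cfsg.Lie.chevE6.monomialSubgroup K ⊓ Cfsg.Lie.twistedE6 K q).subgroupOf (Cfsg.Lie.twistedE6 K q) := by
  obtain ⟨f, h, e, hw, hd, hp, hwit⟩ := Cfsg.Lib.Chev.twistedE6_facts hq hK
  rw [e]
  obtain ⟨P, hB, hN, -⟩ := h.exists_bnPair Cfsg.Lib.Chev.certE6C Cfsg.Lib.Chev.fullCertE6 Cfsg.Lib.Chev.twCombE6
    Cfsg.Lib.Chev.twLinkedE6 (by decide) fun J hJ => Cfsg.Lib.Chev.exists_ne_of_card (hw J hJ)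
      (hq.two_le.trans (Nat.le_self_pow (by
        have := List.length_pos_of_mem (Cfsg.Lib.Chev.twCombE6.head_mem (τ := Cfsg.Lib.Chev.twE6) hJ)
        omega) q))
  exact ⟨P, hB, hN⟩

end Cfsg.Agent.S1085
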