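import Cfsg.Statements.S1092
import Cfsg.Agent.Lib.Chev.CoxeterTypes
import Cfsg.Agent.Lib.Chev.WeylB2
import Cfsg.Agent.Lib.Chev.WeylG2
import Cfsg.Agent.Lib.Chev.WeylD4
import Cfsg.Agent.Lib.Chev.WeylF4

set_option autoImplicit false
open Cfsg

namespace Cfsg.Agent.S1092

/-- `|W(B₂)| = 8`, `|W(G₂)| = 12`, `|W(D₄)| = 192`, `|W(F₄)| = 1152` for the groups presented by the Coxeter matrices (the product of the degrees of the basic invariants). -/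
theorem result (p : (Σ n : ℕ, CoxeterMatrix (Fin n)) × ℕ)
    (hp : p ∈ [(⟨2, CoxeterMatrix.B 2⟩, 8), (⟨2, CoxeterMatrix.G₂⟩, 12), (⟨4, Cfsg.Lie.coxeterD4⟩, 192), (⟨4, CoxeterMatrix.F₄⟩, 1152)]) :
    Nat.card p.1.2.Group = p.2 := by
  simp only [List.mem_cons, List.mem_nil_iff, or_false] at hp
  rcases hp with rfl | rfl | rfl | rfl
  · exact (Cfsg.Lib.Chev.card_coxeter Cfsg.Lib.Chev.fullCertB2.comm.cert Cfsg.Lib.Chev.fullCertB2 Cfsg.Lib.Chev.chkCox_B2 Cfsg.Lib.Chev.chkWeylB2).trans (by decide +kernel)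
  · exact (Cfsg.Lib.Chev.card_coxeter Cfsg.Lib.Chev.fullCertG2.comm.cert Cfsg.Lib.Chev.fullCertG2 Cfsg.Lib.Chev.chkCox_G2 Cfsg.Lib.Chev.chkWeylG2).trans (by decide +kernel)
  · exact (Cfsg.Lib.Chev.card_coxeter Cfsg.Lib.Chev.fullCertD4.comm.cert Cfsg.Lib.Chev.fullCertD4 Cfsg.Lib.Chev.chkCox_D4 Cfsg.Lib.Chev.chkWeylD4).trans (by decide +kernel)
  · exact (Cfsg.Lib.Chev.card_coxeter Cfsg.Lib.Chev.fullCertF4.comm.cert Cfsg.Lib.Chev.fullCertF4 Cfsg.Lib.Chev.chkCox_F4 Cfsg.Lib.Chev.chkWeylF4).trans (by decide +kernel)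

end Cfsg.Agent.S1092
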