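import Cfsg.Statements.S1098
import Cfsg.Agent.Lib.Chev.SpecialB2
import Cfsg.Agent.Lib.Chev.SpecialF4

set_option autoImplicit false
open Cfsg

namespace Cfsg.Agent.S1098

theorem nodeB2 : ∀ i < Cfsg.Lie.chevB2.rank, (([(1, 2), (0, 1)] : List (ℕ × ℕ)).getD i (0, 1)).1 < Cfsg.Lie.chevB2.rank := by decide

theorem dataB2 : ∀ i < Cfsg.Lie.chevB2.rank,
    Cfsg.Lib.Chev.esymB2.root Cfsg.Lib.Chev.tblB2 (Cfsg.Lib.Chev.tblB2.simp' i) =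
      Cfsg.Lib.Chev.tblB2.simp' (([(1, 2), (0, 1)] : List (ℕ × ℕ)).getD i (0, 1)).1 ∧
    Cfsg.Lib.Chev.esymB2.lam Cfsg.Lib.Chev.tblB2 (Cfsg.Lib.Chev.tblB2.simp' i) = (([(1, 2), (0, 1)] : List (ℕ × ℕ)).getD i (0, 1)).2 := by
  decide +kernel

theorem dataNegB2 : ∀ i < Cfsg.Lie.chevB2.rank,
    Cfsg.Lib.Chev.esymB2.root Cfsg.Lib.Chev.tblB2 (Cfsg.Lib.Chev.tblB2.neg (Cfsg.Lib.Chev.tblB2.simp' i)) =
      Cfsg.Lib.Chev.tblB2.neg (Cfsg.Lib.Chev.tblB2.simp' (([(1, 2), (0, 1)] : List (ℕ × ℕ)).getD i (0, 1)).1) ∧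
    Cfsg.Lib.Chev.esymB2.lam Cfsg.Lib.Chev.tblB2 (Cfsg.Lib.Chev.tblB2.neg (Cfsg.Lib.Chev.tblB2.simp' i)) =
      (([(1, 2), (0, 1)] : List (ℕ × ℕ)).getD i (0, 1)).2 := by
  decide +kernel

theorem nodeF4 : ∀ i < Cfsg.Lie.chevF4.rank, (([(3, 2), (2, 2), (1, 1), (0, 1)] : List (ℕ × ℕ)).getD i (0, 1)).1 < Cfsg.Lie.chevF4.rank := by decide

theorem dataF4 : ∀ i < Cfsg.Lie.chevF4.rank,
    Cfsg.Lib.Chev.esymF4.root Cfsg.Lib.Chev.tblF4 (Cfsg.Lib.Chev.tblF4.simp' i) =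
      Cfsg.Lib.Chev.tblF4.simp' (([(3, 2), (2, 2), (1, 1), (0, 1)] : List (ℕ × ℕ)).getD i (0, 1)).1 ∧
    Cfsg.Lib.Chev.esymF4.lam Cfsg.Lib.Chev.tblF4 (Cfsg.Lib.Chev.tblF4.simp' i) = (([(3, 2), (2, 2), (1, 1), (0, 1)] : List (ℕ × ℕ)).getD i (0, 1)).2 := by
  decide +kernel

theorem dataNegF4 : ∀ i < Cfsg.Lie.chevF4.rank,
    Cfsg.Lib.Chev.esymF4.root Cfsg.Lib.Chev.tblF4 (Cfsg.Lib.Chev.tblF4.neg (Cfsg.Lib.Chev.tblF4.simp' i)) =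
      Cfsg.Lib.Chev.tblF4.neg (Cfsg.Lib.Chev.tblF4.simp' (([(3, 2), (2, 2), (1, 1), (0, 1)] : List (ℕ × ℕ)).getD i (0, 1)).1) ∧
    Cfsg.Lib.Chev.esymF4.lam Cfsg.Lib.Chev.tblF4 (Cfsg.Lib.Chev.tblF4.neg (Cfsg.Lib.Chev.tblF4.simp' i)) =
      (([(3, 2), (2, 2), (1, 1), (0, 1)] : List (ℕ × ℕ)).getD i (0, 1)).2 := by
  decide +kernel


/-- Graph automorphisms in characteristic 2 (K perfect): for B₂ (a short, b long) `x_a(t) ↦ x_b(t²)`, `x_b(t) ↦ x_a(t)`, and for F₄ (p₁, p₂ short, p₃, p₄ long) `x_{p₁}(t) ↦ x_{p₄}(t²)`, `x_{p₂}(t) ↦ x_{p₃}(t²)`, `x_{p₃}(t) ↦ x_{p₂}(t)`, `x_{p₄}(t) ↦ x_{p₁}(t)`, likewise on the negatives, extend to an automorphism of the group. -/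
theorem result {K : Type*} [Field K] [CharP K 2] (hperf : ∀ x : K, ∃ y : K, y ^ 2 = x)
    (p : Cfsg.Lie.ChevalleyDatum × List (ℕ × ℕ))
    (hp : p ∈ [(Cfsg.Lie.chevB2, [(1, 2), (0, 1)]), (Cfsg.Lie.chevF4, [(3, 2), (2, 2), (1, 1), (0, 1)])]) :
    ∃ α : ↥(p.1.group K) ≃* ↥(p.1.group K), ∀ (g : ↥(p.1.group K)) (i : ℕ) (t : K), i < p.1.rank →
      (((g : GL p.1.Idx K) : Matrix p.1.Idx p.1.Idx K) = p.1.x K (p.1.simple i) t →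
        ((α g : GL p.1.Idx K) : Matrix p.1.Idx p.1.Idx K) = p.1.x K (p.1.simple (p.2.getD i (0, 1)).1) (t ^ (p.2.getD i (0, 1)).2)) ∧
      (((g : GL p.1.Idx K) : Matrix p.1.Idx p.1.Idx K) = p.1.x K (p.1.neg (p.1.simple i)) t →
        ((α g : GL p.1.Idx K) : Matrix p.1.Idx p.1.Idx K) = p.1.x K (p.1.neg (p.1.simple (p.2.getD i (0, 1)).1)) (t ^ (p.2.getD i (0, 1)).2)) := by
  simp only [List.mem_cons, List.mem_nil_iff, or_false] at hp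
  rcases hp with rfl | rfl
  · haveI : Fact (Cfsg.Lib.Chev.esymB2.p.Prime) := ⟨Nat.prime_two⟩
    haveI : CharP K Cfsg.Lib.Chev.esymB2.p := inferInstanceAs (CharP K 2)
    have hS := Cfsg.Lib.Chev.eSymOKB2
    have C := Cfsg.Lib.Chev.fullCertB2.comm.cert
    obtain ⟨α, hα⟩ := hS.exists_aut C Cfsg.Lib.Chev.fullCertB2 (F := K) hperf
    refine ⟨α, fun g i t hi => ⟨fun e => ?_, fun e => ?_⟩⟩
    · have e1 := hα g _ t (C.spec.simp_lt i hi) (by rw [e, C.spec.shape.simple_eq i hi])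
      obtain ⟨h1, h2⟩ := dataB2 i hi
      rw [e1, C.spec.shape.simple_eq _ (nodeB2 i hi), h1, h2]
    · have hp := C.spec.simp_lt i hi
      have e1 := hα g _ t (C.spec.neg_lt _ hp) (by rw [e, C.spec.shape.simple_eq i hi, C.spec.shape.neg_eq _ hp])
      obtain ⟨h1, h2⟩ := dataNegB2 i hi
      rw [e1, C.spec.shape.simple_eq _ (nodeB2 i hi), C.spec.shape.neg_eq _ (C.spec.simp_lt _ (nodeB2 i hi)), h1, h2]
  · haveI : Fact (Cfsg.Lib.Chev.esymF4.p.Prime) := ⟨Nat.prime_two⟩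
    haveI : CharP K Cfsg.Lib.Chev.esymF4.p := inferInstanceAs (CharP K 2)
    have hS := Cfsg.Lib.Chev.eSymOKF4
    have C := Cfsg.Lib.Chev.fullCertF4.comm.cert
    obtain ⟨α, hα⟩ := hS.exists_aut C Cfsg.Lib.Chev.fullCertF4 (F := K) hperf
    refine ⟨α, fun g i t hi => ⟨fun e => ?_, fun e => ?_⟩⟩
    · have e1 := hα g _ t (C.spec.simp_lt i hi) (by rw [e, C.spec.shape.simple_eq i hi])
      obtain ⟨h1, h2⟩ := dataF4 i hi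
      rw [e1, C.spec.shape.simple_eq _ (nodeF4 i hi), h1, h2]
    · have hp := C.spec.simp_lt i hi
      have e1 := hα g _ t (C.spec.neg_lt _ hp) (by rw [e, C.spec.shape.simple_eq i hi, C.spec.shape.neg_eq _ hp])
      obtain ⟨h1, h2⟩ := dataNegF4 i hi
      rw [e1, C.spec.shape.simple_eq _ (nodeF4 i hi), C.spec.shape.neg_eq _ (C.spec.simp_lt _ (nodeF4 i hi)), h1, h2]

end Cfsg.Agent.S1098
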