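import Cfsg.Statements.S1099
import Cfsg.Agent.Lib.Chev.SpecialG2

set_option autoImplicit false
open Cfsg

namespace Cfsg.Agent.S1099

open Cfsg.Lib.Chev in
theorem data :
    (esymG2.root tblG2 Cfsg.Lie.g2a = Cfsg.Lie.g2b ∧ esymG2.lam tblG2 Cfsg.Lie.g2a = 3) ∧
    (esymG2.root tblG2 Cfsg.Lie.g2b = Cfsg.Lie.g2a ∧ esymG2.lam tblG2 Cfsg.Lie.g2b = 1) ∧
    (esymG2.root tblG2 Cfsg.Lie.g2ma = Cfsg.Lie.g2mb ∧ esymG2.lam tblG2 Cfsg.Lie.g2ma = 3) ∧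
    (esymG2.root tblG2 Cfsg.Lie.g2mb = Cfsg.Lie.g2ma ∧ esymG2.lam tblG2 Cfsg.Lie.g2mb = 1) := by
  decide +kernel


/-- Graph automorphism of G₂ in characteristic 3 (K perfect): `x_a(t) ↦ x_b(t³)`, `x_b(t) ↦ x_a(t)`, `x_{-a}(t) ↦ x_{-b}(t³)`, `x_{-b}(t) ↦ x_{-a}(t)` extend to an automorphism of the group. -/
theorem result {K : Type*} [Field K] [CharP K 3] (hperf : ∀ x : K, ∃ y : K, y ^ 3 = x) :
    ∃ α : ↥(Cfsg.Lie.chevG2.group K) ≃* ↥(Cfsg.Lie.chevG2.group K), ∀ (g : ↥(Cfsg.Lie.chevG2.group K)) (t : K),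
      (((g : GL Cfsg.Lie.chevG2.Idx K) : Matrix _ _ K) = Cfsg.Lie.chevG2.x K Cfsg.Lie.g2a t →
        ((α g : GL Cfsg.Lie.chevG2.Idx K) : Matrix _ _ K) = Cfsg.Lie.chevG2.x K Cfsg.Lie.g2b (t ^ 3)) ∧
      (((g : GL Cfsg.Lie.chevG2.Idx K) : Matrix _ _ K) = Cfsg.Lie.chevG2.x K Cfsg.Lie.g2b t →
        ((α g : GL Cfsg.Lie.chevG2.Idx K) : Matrix _ _ K) = Cfsg.Lie.chevG2.x K Cfsg.Lie.g2a t) ∧
      (((g : GL Cfsg.Lie.chevG2.Idx K) : Matrix _ _ K) = Cfsg.Lie.chevG2.x K Cfsg.Lie.g2ma t →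
        ((α g : GL Cfsg.Lie.chevG2.Idx K) : Matrix _ _ K) = Cfsg.Lie.chevG2.x K Cfsg.Lie.g2mb (t ^ 3)) ∧
      (((g : GL Cfsg.Lie.chevG2.Idx K) : Matrix _ _ K) = Cfsg.Lie.chevG2.x K Cfsg.Lie.g2mb t →
        ((α g : GL Cfsg.Lie.chevG2.Idx K) : Matrix _ _ K) = Cfsg.Lie.chevG2.x K Cfsg.Lie.g2ma t) := by
  haveI : Fact (Cfsg.Lib.Chev.esymG2.p.Prime) := ⟨Nat.prime_three⟩
  haveI : CharP K Cfsg.Lib.Chev.esymG2.p := inferInstanceAs (CharP K 3)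
  have hS := Cfsg.Lib.Chev.eSymOKG2
  have C := Cfsg.Lib.Chev.fullCertG2.comm.cert
  obtain ⟨α, hα⟩ := hS.exists_aut C Cfsg.Lib.Chev.fullCertG2 (F := K) hperf
  obtain ⟨h1, h2, h3, h4⟩ := data
  refine ⟨α, fun g t => ⟨fun e => ?_, fun e => ?_, fun e => ?_, fun e => ?_⟩⟩
  · rw [hα g _ t (by decide) e, h1.1, h1.2]
  · rw [hα g _ t (by decide) e, h2.1, h2.2, pow_one]
  · rw [hα g _ t (by decide) e, h3.1, h3.2]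
  · rw [hα g _ t (by decide) e, h4.1, h4.2, pow_one]

end Cfsg.Agent.S1099
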