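import Cfsg.Statements.S1100
import Cfsg.Agent.Lib.Chev.FullAll
import Cfsg.Agent.Lib.Chev.NormalForm

set_option autoImplicit false
open Cfsg

namespace Cfsg.Agent.S1100

/-- Canonical form `g = b n_w u` (`b ∈ B`, `u ∈ U_w⁻ = ⟨X_r : r > 0, n_w X_r n_w⁻¹ ≤ V⟩`): such a decomposition exists for every element of the group; the coset `n_w H` is determined by `g`; and for a fixed representative `n_w` the factors `b`, `u` are unique. -/
theorem result {F : Type*} [Field F] (D : Cfsg.Lie.ChevalleyDatum) (hD : D ∈ [Cfsg.Lie.chevG2, Cfsg.Lie.chevB2, Cfsg.Lie.chevD4, Cfsg.Lie.chevF4, Cfsg.Lie.chevE6, Cfsg.Lie.chevE7, Cfsg.Lie.chevE8]) :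
    (∀ g ∈ D.group F, ∃ b ∈ D.borelSubgroup F, ∃ n ∈ D.monomialSubgroup F,
      ∃ u ∈ Subgroup.closure {x : GL D.Idx F | ∃ (r : ℕ) (t : F), D.IsPosRoot r ∧
            (D.rootSubgroup F r).map (MulAut.conj n).toMonoidHom ≤ D.negUnipotent F ∧ (x : Matrix D.Idx D.Idx F) = D.x F r t},
        g = b * n * u) ∧
    (∀ (b b' n n' u u' : GL D.Idx F), b ∈ D.borelSubgroup F → b' ∈ D.borelSubgroup F →
      n ∈ D.monomialSubgroup F → n' ∈ D.monomialSubgroup F →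
      u ∈ Subgroup.closure {x : GL D.Idx F | ∃ (r : ℕ) (t : F), D.IsPosRoot r ∧
            (D.rootSubgroup F r).map (MulAut.conj n).toMonoidHom ≤ D.negUnipotent F ∧ (x : Matrix D.Idx D.Idx F) = D.x F r t} →
      u' ∈ Subgroup.closure {x : GL D.Idx F | ∃ (r : ℕ) (t : F), D.IsPosRoot r ∧
            (D.rootSubgroup F r).map (MulAut.conj n').toMonoidHom ≤ D.negUnipotent F ∧ (x : Matrix D.Idx D.Idx F) = D.x F r t} →
      b * n * u = b' * n' * u' → n⁻¹ * n' ∈ D.diagonalSubgroup F ∧ (n = n' → b = b' ∧ u = u')) := by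
  obtain ⟨T, K⟩ := Cfsg.Lib.Chev.exists_fullCert hD
  have C := K.comm.cert
  have hev := Cfsg.Lib.Chev.nroots_even C
  have hU : ∀ {n u : GL D.Idx F}, u ∈ Subgroup.closure {x : GL D.Idx F | ∃ (r : ℕ) (t : F), D.IsPosRoot r ∧
            (D.rootSubgroup F r).map (MulAut.conj n).toMonoidHom ≤ D.negUnipotent F ∧ (x : Matrix D.Idx D.Idx F) = D.x F r t} →
      u ∈ D.borelSubgroup F ∧ n * u * n⁻¹ ∈ D.negUnipotent F := by
    intro n u hu
    refine ⟨Subgroup.mem_sup_left (Subgroup.closure_mono ?_ hu), ?_⟩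
    · rintro x ⟨r, t, hr, -, e⟩
      exact ⟨r, t, hr, e⟩
    induction hu using Subgroup.closure_induction with
    | mem x hx =>
      obtain ⟨r, t, -, hmap, e⟩ := hx
      exact hmap ⟨x, Subgroup.subset_closure ⟨t, e⟩, rfl⟩
    | one => simp
    | mul a b _ _ ha hb => simpa [mul_assoc] using mul_mem ha hb
    | inv a _ ha => simpa [mul_assoc] using inv_mem ha
  refine ⟨fun g hg => ?_, fun b b' n n' u u' hb hb' hn hn' hu hu' e => ?_⟩
  · obtain ⟨w, hw, b, hb, c, hc, e⟩ := Cfsg.Lib.Chev.bruhat_normal C K hg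
    refine ⟨b, hb, _, Cfsg.Lib.Chev.wnu_mem C hw, c, (Subgroup.closure_le _).2 ?_ hc, e⟩
    rintro x ⟨r, t, h1, h2, h3, rfl⟩
    refine Subgroup.subset_closure ⟨r, t, (C.isPos_iff h2).2 (by omega), ?_, Cfsg.Lib.Chev.coe_xg C r t⟩
    rintro _ ⟨y, hy, rfl⟩
    obtain ⟨a, rfl⟩ := (Cfsg.Lib.Chev.mem_rootSubgroup C).1 hy
    exact (Cfsg.Lib.Chev.signPart_conj C K hw).1 (Cfsg.Lib.Chev.xg_mem_signPart C K h1 h2 h3 a)
  · refine ⟨Cfsg.Lib.Chev.cells_disjoint C K hb hb' hn hn' (hU hu).1 (hU hu').1 e, ?_⟩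
    rintro rfl
    refine Cfsg.Lib.Chev.cell_unique C hb hb' ?_ e
    rw [show n * (u' * u⁻¹) * n⁻¹ = (n * u' * n⁻¹) * (n * u * n⁻¹)⁻¹ by group]
    exact mul_mem (hU hu').2 (inv_mem (hU hu).2)

end Cfsg.Agent.S1100
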