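import Cfsg.Statements.S1103
import Cfsg.Agent.Lib.Chev.TwE6
import Cfsg.Agent.Lib.Chev.TwBNTools
import Cfsg.Agent.Lib.Chev.TwCox

set_option autoImplicit false
open Cfsg

namespace Cfsg.Agent.S1103

theorem chkTwCox : Cfsg.Lib.Chev.chkCox Cfsg.Lib.Chev.tblE6 (fun i : Fin 4 => Cfsg.Lib.Chev.twE6.lw i.val)
    (fun i j => CoxeterMatrix.F₄ i j) = true := by decide +kernel


/-- `N¹/H¹ ≅ W¹`: a surjective homomorphism from `N¹ = G¹ ∩ N` onto the Coxeter group of type F₄ with kernel `H¹`. -/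
theorem result {K : Type*} [Field K] [Fintype K] {q : ℕ} (hq : IsPrimePow q) (hK : Fintype.card K = q ^ 2) :
    ∃ φ : ↥(Cfsg.Lie.chevE6.monomialSubgroup K ⊓ Cfsg.Lie.twistedE6 K q) →* (CoxeterMatrix.F₄).Group, Function.Surjective φ ∧
      φ.ker = (Cfsg.Lie.chevE6.diagonalSubgroup K ⊓ Cfsg.Lie.twistedE6 K q).subgroupOf (Cfsg.Lie.chevE6.monomialSubgroup K ⊓ Cfsg.Lie.twistedE6 K q) := by
  obtain ⟨f, h, e, hw, hd, hp, hwit⟩ := Cfsg.Lib.Chev.twistedE6_facts hq hK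
  rw [e]
  obtain ⟨P, n, hB, hN, hS, hinj, hn, -⟩ := h.exists_bnPair' Cfsg.Lib.Chev.certE6C Cfsg.Lib.Chev.fullCertE6 Cfsg.Lib.Chev.twCombE6
    Cfsg.Lib.Chev.twLinkedE6 (by decide) fun J hJ => Cfsg.Lib.Chev.exists_ne_of_card (hw J hJ)
      (hq.two_le.trans (Nat.le_self_pow (by
        have := List.length_pos_of_mem (Cfsg.Lib.Chev.twCombE6.head_mem (τ := Cfsg.Lib.Chev.twE6) hJ)
        omega) q))
  exact Cfsg.Lib.Chev.exists_twisted_hom Cfsg.Lib.Chev.certE6C Cfsg.Lib.Chev.fullCertE6 P hB hN n hS hinj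
    (fun J hJ => Cfsg.Lib.Chev.twCombE6.lw_word J hJ) hn CoxeterMatrix.F₄ (finCongr rfl) chkTwCox

end Cfsg.Agent.S1103
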