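import Cfsg.Statements.S1107
import Cfsg.Agent.Lib.Chev.TwD4
import Cfsg.Agent.Lib.Chev.TwBNTools
import Cfsg.Agent.Lib.Chev.TwCox

set_option autoImplicit false
open Cfsg

namespace Cfsg.Agent.S1107

theorem chkTwCox : Cfsg.Lib.Chev.chkCox Cfsg.Lib.Chev.tblD4 (fun i : Fin 2 => Cfsg.Lib.Chev.twD4.lw i.val)
    (fun i j => CoxeterMatrix.G₂ i j) = true := by decide +kernel


/-- `N¹/H¹ ≅ W¹`: a surjective homomorphism from `N¹ = G¹ ∩ N` onto the Coxeter group of type G₂ (dihedral of order 12) with kernel `H¹`. -/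
theorem result {K : Type*} [Field K] [Fintype K] {q : ℕ} (hq : IsPrimePow q) (hK : Fintype.card K = q ^ 3) :
    ∃ φ : ↥(Cfsg.Lie.chevD4.monomialSubgroup K ⊓ Cfsg.Lie.twistedD4 K q) →* (CoxeterMatrix.G₂).Group, Function.Surjective φ ∧
      φ.ker = (Cfsg.Lie.chevD4.diagonalSubgroup K ⊓ Cfsg.Lie.twistedD4 K q).subgroupOf (Cfsg.Lie.chevD4.monomialSubgroup K ⊓ Cfsg.Lie.twistedD4 K q) := by
  obtain ⟨f, h, e, hw, hd, hp, hwit⟩ := Cfsg.Lib.Chev.twistedD4_facts hq hK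
  rw [e]
  obtain ⟨P, n, hB, hN, hS, hinj, hn, -⟩ := h.exists_bnPair' Cfsg.Lib.Chev.certD4C Cfsg.Lib.Chev.fullCertD4 Cfsg.Lib.Chev.twCombD4
    Cfsg.Lib.Chev.twLinkedD4 (by decide) fun J hJ => Cfsg.Lib.Chev.exists_ne_of_card (hw J hJ)
      (hq.two_le.trans (Nat.le_self_pow (by
        have := List.length_pos_of_mem (Cfsg.Lib.Chev.twCombD4.head_mem (τ := Cfsg.Lib.Chev.twD4) hJ)
        omega) q))
  exact Cfsg.Lib.Chev.exists_twisted_hom Cfsg.Lib.Chev.certD4C Cfsg.Lib.Chev.fullCertD4 P hB hN n hS hinj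
    (fun J hJ => Cfsg.Lib.Chev.twCombD4.lw_word J hJ) hn CoxeterMatrix.G₂ (finCongr rfl) chkTwCox

end Cfsg.Agent.S1107
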