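import Cfsg.Statements.S1118
import Cfsg.Agent.Lib.Linear.RankOne

set_option autoImplicit false
open Cfsg

namespace Cfsg.Agent.S1118

/-- In the rank-one set-up (`G` finite and doubly transitive on `Ω`, `t` an involution moving `a`, `Q` normal in `G_a` with `G_a = Q D`, `Q ⊓ D = 1` for the two-point stabiliser `D = G_a ⊓ G_{t • a}`, `|Q|` even, `|D|` odd), the normaliser of a subset of `Q` containing a non-identity element lies in `G_a`; consequently `N_G(Q) = N_G(G_a) = G_a`. -/
theorem result {G Ω : Type*} [Group G] [Finite G] [MulAction G Ω] {a : Ω} {t : G} {Q : Subgroup G}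
    (hS : Cfsg.IsRankOneSetup G Ω a t Q) :
    (∀ X : Set G, X ⊆ (Q : Set G) → (∃ x ∈ X, x ≠ 1) → Subgroup.normalizer X ≤ MulAction.stabilizer G a) ∧
      Subgroup.normalizer (Q : Set G) = MulAction.stabilizer G a ∧
      Subgroup.normalizer (MulAction.stabilizer G a : Set G) = MulAction.stabilizer G a := by
  have key : ∀ X : Set G, X ⊆ (Q : Set G) → (∃ x ∈ X, x ≠ 1) →
      Subgroup.normalizer X ≤ MulAction.stabilizer G a := by
    rintro X hX ⟨x, hx, hx1⟩ g hg
    have hgx : g * x * g⁻¹ ∈ Q := hX ((Subgroup.mem_set_normalizer_iff.mp hg x).mp hx)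
    have hne : g * x * g⁻¹ ≠ 1 := fun h => hx1 (by
      calc x = g⁻¹ * (g * x * g⁻¹) * g := by group
        _ = 1 := by rw [h]; group)
    refine Cfsg.Lib.Linear.RankOne.fix_eq hS hgx hne (b := g • a) ?_
    rw [mul_smul, mul_smul, inv_smul_smul, show x • a = a from hS.le (hX hx)]
  refine ⟨key, le_antisymm ?_ ?_, le_antisymm ?_ Subgroup.le_normalizer⟩
  · obtain ⟨s, hs, hs1, -⟩ := Cfsg.Lib.Linear.RankOne.exists_invol hS
    exact key _ subset_rfl ⟨s, hs, hs1⟩
  · intro g hg
    rw [Subgroup.mem_set_normalizer_iff]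
    refine fun h => ⟨fun hh => hS.conj_mem g hg h hh, fun hh => ?_⟩
    have := hS.conj_mem g⁻¹ (inv_mem hg) _ hh
    simpa [mul_assoc] using this
  · obtain ⟨s, hs, hs1, hs2⟩ := Cfsg.Lib.Linear.RankOne.exists_invol hS
    intro g hg
    have hgs : g * s * g⁻¹ ∈ MulAction.stabilizer G a :=
      (Subgroup.mem_normalizer_iff.mp hg s).mp (hS.le hs)
    have hne : g * s * g⁻¹ ≠ 1 := fun h => hs1 (by
      calc s = g⁻¹ * (g * s * g⁻¹) * g := by group
        _ = 1 := by rw [h]; group)
    refine Cfsg.Lib.Linear.RankOne.invol_fix_eq hS hgs hne ?_ (b := g • a) ?_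
    · rw [show g * s * g⁻¹ * (g * s * g⁻¹) = g * (s * s) * g⁻¹ by group, hs2]; group
    · rw [mul_smul, mul_smul, inv_smul_smul, show s • a = a from hS.le hs]

end Cfsg.Agent.S1118
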