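import Cfsg.Statements.S1119
import Cfsg.Agent.Lib.Linear.RankOne

set_option autoImplicit false
open Cfsg

namespace Cfsg.Agent.S1119

/-- In the rank-one set-up (`G` finite and doubly transitive on `Ω`, `t` an involution moving `a`, `Q` normal in `G_a` with `G_a = Q D`, `Q ⊓ D = 1` for the two-point stabiliser `D = G_a ⊓ G_{t • a}`, `|Q|` even, `|D|` odd): `Q` acts regularly on `Ω` minus `a`; hence `|Ω| = |Q| + 1`, `|G| = |Q| |D| (|Q| + 1)`, some Sylow 2-subgroup of `G` lies in `Q`, and each `g ∉ G_a` is uniquely `x t y` with `x ∈ G_a`, `y ∈ Q` (canonical form). -/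
theorem result {G Ω : Type*} [Group G] [Finite G] [MulAction G Ω] {a : Ω} {t : G} {Q : Subgroup G}
    (hS : Cfsg.IsRankOneSetup G Ω a t Q) :
    (∀ b c : Ω, b ≠ a → c ≠ a → ∃! x : Q, (x : G) • b = c) ∧
      Nat.card Ω = Nat.card Q + 1 ∧
      Nat.card G = Nat.card Q * Nat.card ↥(MulAction.stabilizer G a ⊓ MulAction.stabilizer G (t • a)) * (Nat.card Q + 1) ∧
      (∃ P : Sylow 2 G, (P : Subgroup G) ≤ Q) ∧
      ∀ g : G, g ∉ MulAction.stabilizer G a → ∃! p : G × G, p.1 ∈ MulAction.stabilizer G a ∧ p.2 ∈ Q ∧ g = p.1 * t * p.2 := by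
  refine ⟨Cfsg.Lib.Linear.RankOne.regular hS, Cfsg.Lib.Linear.RankOne.card_pts hS,
    Cfsg.Lib.Linear.RankOne.card_group hS, Cfsg.Lib.Linear.RankOne.exists_sylow_le hS, ?_⟩
  intro g hg
  have hne : g⁻¹ • a ≠ a := fun h => hg (inv_mem_iff.mp (MulAction.mem_stabilizer_iff.mpr h))
  obtain ⟨q, hq, hqg⟩ := Cfsg.Lib.Linear.RankOne.exists_orbit hS hne
  refine ⟨(g * q * t, q⁻¹), ⟨?_, Q.inv_mem hq, ?_⟩, ?_⟩
  · show _ • a = a
    rw [mul_smul, mul_smul, hqg, smul_inv_smul]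
  · show g = g * q * t * t * q⁻¹
    rw [mul_assoc (g * q) t t, hS.mul_self]
    group
  · rintro ⟨x, y⟩ ⟨hx, hy, hxy⟩
    simp only at hx hy hxy
    have h1 : y⁻¹ • t • a = g⁻¹ • a := by
      rw [hxy, mul_inv_rev, mul_inv_rev, Cfsg.Lib.Linear.RankOne.t_inv hS, mul_smul, mul_smul,
        show x⁻¹ • a = a from inv_mem hx]
    have hyq : y⁻¹ = q := Cfsg.Lib.Linear.RankOne.eq_of_smul hS (Q.inv_mem hy) hq
      (Cfsg.Lib.Linear.RankOne.smul_ne hS) (h1.trans hqg.symm)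
    refine Prod.ext ?_ (by show y = q⁻¹; rw [← hyq, inv_inv])
    show x = g * q * t
    rw [hxy, ← hyq, mul_inv_cancel_right, mul_assoc, hS.mul_self, mul_one]

end Cfsg.Agent.S1119
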