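import Cfsg.Statements.S1124
import Cfsg.Agent.Lib.Linear.RankOne

set_option autoImplicit false
open scoped Pointwise
open Cfsg

namespace Cfsg.Agent.S1124

/-- Let `t` be an element of order 2 of a finite group normalising a subgroup `X` of odd order, `Y = C_X(t)` and `Z` the set of elements of `X` inverted by `t`. Then `(y, z) ↦ y z` is a bijection `Y × Z → X`, so `|X| = |Y| |Z|`, and the subgroup generated by `Z` is normal in `X`. -/
theorem result {M : Type*} [Group M] [Finite M]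
    (t : M) (ht : orderOf t = 2) (X : Subgroup M) (hodd : Odd (Nat.card X))
    (hnorm : ∀ x ∈ X, t * x * t⁻¹ ∈ X) :
    (∀ x ∈ X, ∃! p : M × M, p.1 ∈ X ⊓ Subgroup.centralizer {t} ∧ p.2 ∈ Cfsg.invertedBy X t ∧ x = p.1 * p.2) ∧
      Nat.card X = Nat.card ↥(X ⊓ Subgroup.centralizer {t}) * Nat.card (Cfsg.invertedBy X t) ∧
      ∀ x ∈ X, MulAut.conj x • Subgroup.closure (Cfsg.invertedBy X t) = Subgroup.closure (Cfsg.invertedBy X t) := by
  have ht2 : t * t = 1 := Cfsg.Lib.Invol.inv_mul_self ht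
  refine ⟨fun x hx => Cfsg.Lib.Linear.RankOne.odd_factorization ht2 hodd hnorm hx,
    Cfsg.Lib.Linear.RankOne.card_odd_factorization ht2 hodd hnorm, ?_⟩
  set C := Subgroup.closure (Cfsg.invertedBy X t) with hC
  have hnormC : ∀ x ∈ X, ∀ h ∈ C, x * h * x⁻¹ ∈ C := by
    intro x hx h hh
    obtain ⟨⟨y, z⟩, ⟨⟨hy, hyt⟩, hz, rfl⟩, -⟩ :=
      Cfsg.Lib.Linear.RankOne.odd_factorization ht2 hodd hnorm hx
    have hzC : z ∈ C := Subgroup.subset_closure hz
    have hY : ∀ w ∈ C, y * w * y⁻¹ ∈ C := by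
      intro w hw
      have hle : C ≤ C.comap (MulAut.conj y).toMonoidHom := by
        rw [hC, Subgroup.closure_le]
        rintro v ⟨hv, hvt⟩
        refine Subgroup.subset_closure ⟨X.mul_mem (X.mul_mem hy hv) (X.inv_mem hy), ?_⟩
        have hty : y * t = t * y := Subgroup.mem_centralizer_singleton_iff.mp hyt
        have hty' : y⁻¹ * t⁻¹ = t⁻¹ * y⁻¹ := by rw [← mul_inv_rev, ← mul_inv_rev, hty]
        show t * (y * v * y⁻¹) * t⁻¹ = (y * v * y⁻¹)⁻¹
        calc t * (y * v * y⁻¹) * t⁻¹ = (t * y) * v * (y⁻¹ * t⁻¹) := by group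
          _ = y * (t * v * t⁻¹) * y⁻¹ := by rw [← hty, hty']; group
          _ = (y * v * y⁻¹)⁻¹ := by rw [hvt]; group
      exact hle hw
    rw [show y * z * h * (y * z)⁻¹ = y * (z * h * z⁻¹) * y⁻¹ by group]
    exact hY _ (C.mul_mem (C.mul_mem hzC hh) (C.inv_mem hzC))
  intro x hx
  ext h
  rw [Subgroup.mem_pointwise_smul_iff_inv_smul_mem]
  show (MulAut.conj x)⁻¹ h ∈ C ↔ h ∈ C
  rw [MulAut.inv_apply, MulAut.conj_symm_apply]
  constructor
  · intro hh
    have := hnormC x hx _ hh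
    simpa [mul_assoc] using this
  · intro hh
    simpa using hnormC x⁻¹ (X.inv_mem hx) h hh

end Cfsg.Agent.S1124
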