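import Cfsg.Statements.S1126
import Cfsg.Agent.Lib.Linear.RankOne

set_option autoImplicit false
open Cfsg

namespace Cfsg.Agent.S1126

/-- In the rank-one set-up (`G` finite and doubly transitive on `Ω`, `t` an involution moving `a`, `Q` normal in `G_a` with `G_a = Q D`, `Q ⊓ D = 1` for the two-point stabiliser `D = G_a ⊓ G_{t • a}`, `|Q|` even, `|D|` odd), a subset `X ⊆ D` fixing at least three points of `Ω` is conjugate by an element of `D` into `V = C_D(t)`. -/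
theorem result {G Ω : Type*} [Group G] [Finite G] [MulAction G Ω] {a : Ω} {t : G} {Q : Subgroup G}
    (hS : Cfsg.IsRankOneSetup G Ω a t Q)
    (X : Set G) (hX : X ⊆ ((MulAction.stabilizer G a ⊓ MulAction.stabilizer G (t • a)) : Set G))
    (h3 : ∃ b c d : Ω, b ≠ c ∧ b ≠ d ∧ c ≠ d ∧ ∀ x ∈ X, x • b = b ∧ x • c = c ∧ x • d = d) :
    ∃ k ∈ (MulAction.stabilizer G a ⊓ MulAction.stabilizer G (t • a)), ∀ x ∈ X, (k * x * k⁻¹) * t = t * (k * x * k⁻¹) := by
  obtain ⟨hXa, hXt⟩ := Cfsg.Lib.Linear.RankOne.fix_a_of_subset hS hX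
  have hne := Cfsg.Lib.Linear.RankOne.smul_ne hS
  obtain ⟨g, hg, hga, hgt⟩ := Cfsg.Lib.Linear.RankOne.centralizer_two_transitive hS h3
    (b₁ := a) (b₂ := t • a) (c₁ := t • a) (c₂ := a)
    (fun x hx => ⟨hXa x hx, hXt x hx, hXt x hx, hXa x hx⟩) hne.symm hne
  obtain ⟨w, hw, hw2, hwa, hwt⟩ := Cfsg.Lib.Linear.RankOne.exists_swap_invol hS hga hgt
  have hwC : w ∈ Subgroup.centralizer X := (Subgroup.zpowers_le.mpr hg) hw
  set d := t * w with hd
  have hdD : d ∈ MulAction.stabilizer G a ⊓ MulAction.stabilizer G (t • a) := by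
    constructor <;> show _ • _ = _
    · rw [hd, mul_smul, hwa, Cfsg.Lib.Linear.RankOne.smul_smul_self hS]
    · rw [hd, mul_smul, hwt]
  have htd : t * d * t⁻¹ = d⁻¹ := by
    rw [hd, mul_inv_rev, Cfsg.Lib.Linear.RankOne.t_inv hS, inv_eq_of_mul_eq_one_left hw2,
      show t * (t * w) * t = (t * t) * (w * t) by group, hS.mul_self, one_mul]
  obtain ⟨n, hn⟩ := Cfsg.Lib.Linear.RankOne.exists_sqrt_of_odd hS.odd_card hdD
  set h := d ^ n with hh
  have hht : t * h * t⁻¹ = h⁻¹ := by rw [hh, ← conj_pow, htd, inv_pow]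
  refine ⟨h, pow_mem hdD n, fun x hx => ?_⟩
  have hwh : w = h⁻¹ * t * h := by
    calc w = (t * t) * w := by rw [hS.mul_self, one_mul]
      _ = t * (h * h) := by rw [hn, hd, mul_assoc]
      _ = (t * h * t⁻¹) * t * h := by group
      _ = h⁻¹ * t * h := by rw [hht]
  have hxw : x * (h⁻¹ * t * h) = (h⁻¹ * t * h) * x := by
    rw [← hwh]; exact Subgroup.mem_centralizer_iff.mp hwC x hx
  calc h * x * h⁻¹ * t = h * (x * (h⁻¹ * t * h)) * h⁻¹ := by group
    _ = h * (h⁻¹ * t * h * x) * h⁻¹ := by rw [hxw]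
    _ = t * (h * x * h⁻¹) := by group

end Cfsg.Agent.S1126
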