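import Cfsg.Statements.S1127
import Cfsg.Agent.Lib.Linear.RankOne

set_option autoImplicit false
open Cfsg

namespace Cfsg.Agent.S1127

/-- In the rank-one set-up (`G` finite and doubly transitive on `Ω`, `t` an involution moving `a`, `Q` normal in `G_a` with `G_a = Q D`, `Q ⊓ D = 1` for the two-point stabiliser `D = G_a ⊓ G_{t • a}`, `|Q|` even, `|D|` odd): if `s` is an involution of `G_a` and `r ∈ Q` satisfy `t s t = r⁻¹ t r`, then `C_D(t) = C_D(s)`; moreover `C_D(t) ⊓ C_D(K) = C_D(I ∩ G_a)`, where `K` is the set of elements of `D` inverted by `t` and `I ∩ G_a` the set of involutions of `G_a`. -/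
theorem result {G Ω : Type*} [Group G] [Finite G] [MulAction G Ω] {a : Ω} {t : G} {Q : Subgroup G}
    (hS : Cfsg.IsRankOneSetup G Ω a t Q) :
    (∀ s r : G, s ∈ Cfsg.involutionsIn (MulAction.stabilizer G a : Set G) → r ∈ Q → t * s * t = r⁻¹ * t * r →
        (MulAction.stabilizer G a ⊓ MulAction.stabilizer G (t • a)) ⊓ Subgroup.centralizer {t} = (MulAction.stabilizer G a ⊓ MulAction.stabilizer G (t • a)) ⊓ Subgroup.centralizer {s}) ∧
      (MulAction.stabilizer G a ⊓ MulAction.stabilizer G (t • a)) ⊓ Subgroup.centralizer {t} ⊓ Subgroup.centralizer (Cfsg.invertedBy (MulAction.stabilizer G a ⊓ MulAction.stabilizer G (t • a)) t) =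
        (MulAction.stabilizer G a ⊓ MulAction.stabilizer G (t • a)) ⊓ Subgroup.centralizer (Cfsg.involutionsIn (MulAction.stabilizer G a : Set G)) := by
  refine ⟨fun s r hs hr heq => Cfsg.Lib.Linear.RankOne.centralizer_eq hS hs hr heq, ?_⟩
  obtain ⟨⟨s₀, r₀⟩, ⟨hs₀, hr₀, heq⟩, -⟩ := Cfsg.Lib.Linear.RankOne.exists_unique_equation hS
  have hC := Cfsg.Lib.Linear.RankOne.centralizer_eq hS hs₀ hr₀ heq
  simp only at hC
  ext d
  constructor
  · rintro ⟨⟨hd, hdt⟩, hdK⟩
    refine ⟨hd, Subgroup.mem_centralizer_iff.mpr fun s hs => ?_⟩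
    have hds₀ : d * s₀ = s₀ * d := Subgroup.mem_centralizer_singleton_iff.mp
      ((SetLike.ext_iff.mp hC d).mp (Subgroup.mem_inf.mpr ⟨hd, hdt⟩)).2
    obtain ⟨k, hk, rfl⟩ := Cfsg.Lib.Linear.RankOne.inverted_transitive hS hs₀ hs
    have hdk : k * d = d * k := Subgroup.mem_centralizer_iff.mp hdK k hk
    have hdk' : k⁻¹ * d = d * k⁻¹ := (Commute.inv_left hdk).eq
    calc k⁻¹ * s₀ * k * d = k⁻¹ * s₀ * (k * d) := by group
      _ = k⁻¹ * (s₀ * d) * k := by rw [hdk]; group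
      _ = (k⁻¹ * d) * s₀ * k := by rw [← hds₀]; group
      _ = d * (k⁻¹ * s₀ * k) := by rw [hdk']; group
  · rintro ⟨hd, hdI⟩
    have hcomm : ∀ e ∈ (MulAction.stabilizer G a ⊓ MulAction.stabilizer G (t • a)),
        e * s₀ = s₀ * e → e * t = t * e := fun e he h =>
      Subgroup.mem_centralizer_singleton_iff.mp ((SetLike.ext_iff.mp hC e).mpr
        (Subgroup.mem_inf.mpr ⟨he, Subgroup.mem_centralizer_singleton_iff.mpr h⟩)).2
    have hdt : d * t = t * d :=
      hcomm d hd (Subgroup.mem_centralizer_iff.mp hdI s₀ hs₀).symm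
    refine ⟨⟨hd, Subgroup.mem_centralizer_singleton_iff.mpr hdt⟩,
      Subgroup.mem_centralizer_iff.mpr fun k hk => ?_⟩
    have hkd := hcomm (k * d * k⁻¹) (mul_mem (mul_mem hk.1 hd) (inv_mem hk.1)) (by
      have h := Subgroup.mem_centralizer_iff.mp hdI _
        (Cfsg.Lib.Linear.RankOne.conj_mem_involutionsIn hS hs₀ hk.1)
      calc k * d * k⁻¹ * s₀ = k * (d * (k⁻¹ * s₀ * k)) * k⁻¹ := by group
        _ = k * (k⁻¹ * s₀ * k * d) * k⁻¹ := by rw [h]
        _ = s₀ * (k * d * k⁻¹) := by group)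
    have hkt : t * k * t⁻¹ = k⁻¹ := hk.2
    have hinv : k * d * k⁻¹ = k⁻¹ * d * k := by
      calc k * d * k⁻¹ = t * (k * d * k⁻¹) * t⁻¹ := by rw [← hkd]; group
        _ = (t * k * t⁻¹) * (t * d * t⁻¹) * (t * k * t⁻¹)⁻¹ := by group
        _ = k⁻¹ * d * k := by rw [hkt, ← hdt]; group
    refine (Cfsg.Lib.Linear.RankOne.commute_of_commute_sq hS.odd_card hk.1 ?_).eq
    show k * k * d = d * (k * k)
    calc k * k * d = k * (k * d * k⁻¹) * k := by group
      _ = k * (k⁻¹ * d * k) * k := by rw [hinv]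
      _ = d * (k * k) := by group

end Cfsg.Agent.S1127
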