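import Cfsg.Statements.S1132
import Cfsg.Agent.Lib.OddTrans.RankOneK

set_option autoImplicit false
open Cfsg

namespace Cfsg.Agent.S1132

/-- In the rank-one set-up (`G` finite and doubly transitive on `Ω`, `t` an involution moving `a`, `Q` normal in `G_a` with `G_a = Q D`, `Q ⊓ D = 1` for the two-point stabiliser `D = G_a ⊓ G_{t • a}`, `|Q|` even, `|D|` odd), with the action faithful and `G` containing two distinct commuting involutions: a Sylow 2-subgroup of `Q` is abelian or a Suzuki 2-group. -/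
theorem result {G Ω : Type*} [Group G] [Finite G] [MulAction G Ω] [FaithfulSMul G Ω] {a : Ω} {t : G} {Q : Subgroup G}
    (hS : Cfsg.IsRankOneSetup G Ω a t Q)
    (h2 : ∃ x y : G, x ≠ 1 ∧ y ≠ 1 ∧ x ≠ y ∧ x * x = 1 ∧ y * y = 1 ∧ x * y = y * x)
    (S : Sylow 2 ↥Q) : IsMulCommutative (S : Subgroup ↥Q) ∨ Cfsg.IsSuzukiTwoGroup ↥(S : Subgroup ↥Q) := by
  classical
  by_cases hab : ∀ x y : (S : Subgroup Q), x * y = y * x
  · exact Or.inl ⟨⟨hab⟩⟩
  push Not at hab
  refine Or.inr ⟨inferInstance, S.isPGroup', hab, ?_⟩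
  haveI := Cfsg.Lib.Linear.RankOne.isNilpotent hS h2
  haveI hSn : (S : Subgroup Q).Normal :=
    ((Group.isNilpotent_of_finite_tfae (G := Q)).out 0 3 rfl rfl).mp inferInstance 2 ⟨Nat.prime_two⟩ S
  haveI : Fact (Nat.Prime 2) := ⟨Nat.prime_two⟩
  -- involutions of the point stabiliser lie in `S`
  have hmemS : ∀ {s : G} (hs : s ∈ Cfsg.involutionsIn (MulAction.stabilizer G a : Set G)),
      (⟨s, Cfsg.Lib.Linear.RankOne.invol_mem hS hs.1 hs.2.2⟩ : Q) ∈ (S : Subgroup Q) := by
    intro s hs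
    set q : Q := ⟨s, Cfsg.Lib.Linear.RankOne.invol_mem hS hs.1 hs.2.2⟩
    have hp : IsPGroup 2 (Subgroup.zpowers q) := IsPGroup.of_card (n := 1) (by
      rw [Nat.card_zpowers, pow_one]
      exact orderOf_eq_prime (Subtype.ext (by rw [SubmonoidClass.coe_pow, pow_two]; exact hs.2.2))
        fun e => hs.2.1 (congrArg Subtype.val e))
    obtain ⟨P, hP⟩ := hp.exists_le_sylow
    letI := Sylow.unique_of_normal S hSn
    rw [Subsingleton.elim S P]
    exact hP (Subgroup.mem_zpowers q)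
  refine ⟨?_, ?_⟩
  · obtain ⟨s₁, hs₁, s₂, hs₂, hne⟩ := Cfsg.Lib.Linear.RankOne.exists_two_invol hS h2
    refine ⟨⟨_, hmemS hs₁⟩, ⟨_, hmemS hs₂⟩, fun e => hne ?_, fun e => hs₁.2.1 ?_,
      Subtype.ext (Subtype.ext hs₁.2.2), fun e => hs₂.2.1 ?_, Subtype.ext (Subtype.ext hs₂.2.2)⟩ <;>
    exact congrArg (fun z : (S : Subgroup Q) => ((z : Q) : G)) e
  obtain ⟨k₀, -, hK, -, -⟩ := Cfsg.Lib.OddTrans.inverted_structure hS h2
  set C := Subgroup.zpowers k₀ with hC
  have hCK : ∀ c, c ∈ C ↔ c ∈ Cfsg.invertedBy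
      (MulAction.stabilizer G a ⊓ MulAction.stabilizer G (t • a)) t := fun c => by
    rw [← hK]; rfl
  -- conjugation on `Q` restricts to `S`
  let cQ : C →* MulAut Q :=
    { toFun := fun c =>
        { toFun := fun q => ⟨(c : G) * q * (c : G)⁻¹, hS.conj_mem _ ((hCK _).1 c.2).1.1 q q.2⟩
          invFun := fun q => ⟨(c : G)⁻¹ * q * (c : G)⁻¹⁻¹,
            hS.conj_mem _ (inv_mem ((hCK _).1 c.2).1.1) q q.2⟩
          left_inv := fun q => Subtype.ext (by simp [mul_assoc])
          right_inv := fun q => Subtype.ext (by simp [mul_assoc])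
          map_mul' := fun q r => Subtype.ext (by simp [mul_assoc]) }
      map_one' := MulEquiv.ext fun q => Subtype.ext (by simp)
      map_mul' := fun c d => MulEquiv.ext fun q => Subtype.ext (by simp [mul_assoc]) }
  have hinv : ∀ c : C, ∀ x ∈ (S : Subgroup Q), cQ c x ∈ (S : Subgroup Q) := by
    intro c x hx
    haveI := S.characteristic_of_normal hSn
    have h := (Subgroup.characteristic_iff_map_le.1
      (inferInstance : (S : Subgroup Q).Characteristic)) (cQ c)
    exact h ⟨x, hx, rfl⟩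
  let cS : C →* MulAut (S : Subgroup Q) :=
    { toFun := fun c =>
        { toFun := fun x => ⟨cQ c x, hinv c x x.2⟩
          invFun := fun x => ⟨cQ c⁻¹ x, hinv c⁻¹ x x.2⟩
          left_inv := fun x => Subtype.ext (by
            show cQ c⁻¹ (cQ c x) = x
            rw [← MulAut.mul_apply, ← map_mul, inv_mul_cancel, map_one]; rfl)
          right_inv := fun x => Subtype.ext (by
            show cQ c (cQ c⁻¹ x) = x
            rw [← MulAut.mul_apply, ← map_mul, mul_inv_cancel, map_one]; rfl)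
          map_mul' := fun x y => Subtype.ext (map_mul (cQ c) _ _) }
      map_one' := MulEquiv.ext fun x => Subtype.ext (by
        show cQ 1 x = x
        rw [map_one]; rfl)
      map_mul' := fun c d => MulEquiv.ext fun x => Subtype.ext (by
        show cQ (c * d) x = cQ c (cQ d x)
        rw [map_mul]; rfl) }
  haveI : IsCyclic C := Subgroup.isCyclic_zpowers k₀
  refine ⟨cS.range, isCyclic_of_surjective cS.rangeRestrict cS.rangeRestrict_surjective, fun x y hx hx2 hy hy2 => ?_⟩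
  have hxG : ((x : Q) : G) ∈ Cfsg.involutionsIn (MulAction.stabilizer G a : Set G) :=
    ⟨hS.le (x : Q).2, fun e => hx (Subtype.ext (Subtype.ext e)),
      congrArg (fun z : (S : Subgroup Q) => ((z : Q) : G)) hx2⟩
  have hyG : ((y : Q) : G) ∈ Cfsg.involutionsIn (MulAction.stabilizer G a : Set G) :=
    ⟨hS.le (y : Q).2, fun e => hy (Subtype.ext (Subtype.ext e)),
      congrArg (fun z : (S : Subgroup Q) => ((z : Q) : G)) hy2⟩
  obtain ⟨k, hk, hky⟩ := Cfsg.Lib.Linear.RankOne.inverted_transitive hS hxG hyG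
  refine ⟨⟨cS (⟨k, (hCK k).2 hk⟩ : C)⁻¹, _, rfl⟩, Subtype.ext (Subtype.ext ?_), ?_⟩
  · show k⁻¹ * ((x : Q) : G) * k⁻¹⁻¹ = ((y : Q) : G)
    rw [inv_inv]; exact hky
  · rintro ⟨_, c, rfl⟩ hc
    refine Subtype.ext (congrArg cS ?_)
    have hc' : (c : G) * ((x : Q) : G) * (c : G)⁻¹ = ((y : Q) : G) :=
      congrArg (fun z : (S : Subgroup Q) => ((z : Q) : G)) hc
    -- the product fixes `x`, so it is trivial
    set d : C := ⟨k, (hCK k).2 hk⟩ * c with hd
    have hd' : d = 1 := by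
      by_contra hne
      have hdne : (d : G) ≠ 1 := fun e => hne (Subtype.ext e)
      refine hxG.2.1 (Subgroup.mem_bot.1
        ((Cfsg.Lib.Linear.RankOne.inverted_fpf hS ((hCK _).1 d.2) hdne).le
          (Subgroup.mem_inf.2 ⟨(x : Q).2, Subgroup.mem_centralizer_singleton_iff.2 ?_⟩)))
      have h3 : (d : G) * ((x : Q) : G) * (d : G)⁻¹ = ((x : Q) : G) := by
        rw [hd, Subgroup.coe_mul]
        calc k * (c : G) * ((x : Q) : G) * (k * (c : G))⁻¹
            = k * ((c : G) * ((x : Q) : G) * (c : G)⁻¹) * k⁻¹ := by group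
          _ = k * (k⁻¹ * ((x : Q) : G) * k) * k⁻¹ := by rw [hc', hky]
          _ = ((x : Q) : G) := by group
      exact (mul_inv_eq_iff_eq_mul.1 h3).symm
    exact eq_inv_of_mul_eq_one_right hd'

end Cfsg.Agent.S1132
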