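import Cfsg.Statements.S1140


set_option autoImplicit false
open Cfsg

namespace Cfsg.Agent.S1140

/-- There are only finitely many automorphisms. -/
theorem finite_aut (F : Type*) [Field F] [Finite F] : Finite (F ≃+* F) :=
  Finite.of_injective (fun σ => (σ : F → F)) DFunLike.coe_injective

/-- The automorphisms form a basis of the additive maps. -/
theorem exists_basis (F : Type*) [Field F] [Fintype F] [CharP F 2] :
    LinearIndependent F (fun σ : F ≃+* F => ((σ : F →+* F) : F → F)) ∧
      ∀ f : F →+ F, ∃ c : (F ≃+* F) → F, ∀ x, f x = ∑ᶠ σ, c σ * σ x := by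
  classical
  letI : Algebra (ZMod 2) F := ZMod.algebra F 2
  let e : (F ≃+* F) ≃ (F ≃ₐ[ZMod 2] F) :=
    { toFun := fun σ => AlgEquiv.ofRingEquiv (f := σ) (fun x =>
        RingHom.congr_fun (Subsingleton.elim ((σ : F →+* F).comp (algebraMap (ZMod 2) F))
          (algebraMap (ZMod 2) F)) x)
      invFun := fun σ => σ.toRingEquiv
      left_inv := fun σ => RingEquiv.ext fun x => rfl
      right_inv := fun σ => AlgEquiv.ext fun x => rfl }
  have hli0 : LinearIndependent F (fun σ : F ≃+* F => ((σ : F →+* F) : F → F)) :=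
    (linearIndependent_monoidHom F F).comp (fun σ : F ≃+* F => ((σ : F →+* F) : F →* F))
      (fun σ τ h => RingEquiv.ext fun x => DFunLike.congr_fun h x)
  refine ⟨hli0, fun f => ?_⟩
  have hli : LinearIndependent F (fun σ : F ≃+* F => ((e σ).toLinearMap : F →ₗ[ZMod 2] F)) := by
    let Φ : (F →ₗ[ZMod 2] F) →ₗ[F] (F → F) :=
      { toFun := fun g => g
        map_add' := fun _ _ => rfl
        map_smul' := fun _ _ => rfl }
    exact LinearIndependent.of_comp Φ hli0
  haveI : Finite (ZMod 2) := inferInstance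
  haveI : FiniteDimensional (ZMod 2) F := Module.Finite.of_finite
  haveI := finite_aut F
  haveI : Fintype (F ≃+* F) := Fintype.ofFinite _
  have hcard : Fintype.card (F ≃+* F) = Module.finrank F (F →ₗ[ZMod 2] F) := by
    rw [← Nat.card_eq_fintype_card, Nat.card_congr e, IsGalois.card_aut_eq_finrank,
      Module.finrank_linearMap_self]
  have hspan := hli.span_eq_top_of_card_eq_finrank hcard
  have hf : (f.toZModLinearMap 2 : F →ₗ[ZMod 2] F) ∈
      Submodule.span F (Set.range fun σ : F ≃+* F => ((e σ).toLinearMap : F →ₗ[ZMod 2] F)) := by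
    rw [hspan]; exact Submodule.mem_top
  rw [Submodule.mem_span_range_iff_exists_fun] at hf
  obtain ⟨c, hc⟩ := hf
  refine ⟨c, fun x => ?_⟩
  rw [finsum_eq_sum_of_fintype]
  have := LinearMap.congr_fun hc x
  simp only [LinearMap.sum_apply, LinearMap.smul_apply, smul_eq_mul] at this
  exact this.symm

/-- The biadditive maps. -/
theorem exists_biadd {F : Type*} [Field F] [Fintype F] [CharP F 2] (B : F →+ F →+ F) :
    ∃ (s : Finset ((F ≃+* F) × (F ≃+* F))) (c : (F ≃+* F) × (F ≃+* F) → F),
      ∀ x y : F, B x y = ∑ p ∈ s, c p * (p.1 x * p.2 y) := by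
  classical
  haveI := finite_aut F
  haveI : Fintype (F ≃+* F) := Fintype.ofFinite _
  obtain ⟨hli, hsp⟩ := exists_basis F
  choose c hc using fun x => hsp (B x)
  have hadd : ∀ τ, ∀ x x', c (x + x') τ = c x τ + c x' τ := by
    intro τ x x'
    have h0 : ∑ σ : F ≃+* F, (c (x + x') σ - c x σ - c x' σ) • ((σ : F →+* F) : F → F) = 0 := by
      funext y
      have := hc (x + x') y
      rw [map_add, AddMonoidHom.add_apply, hc x y, hc x' y, finsum_eq_sum_of_fintype,
        finsum_eq_sum_of_fintype, finsum_eq_sum_of_fintype] at this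
      simp only [Finset.sum_apply, Pi.smul_apply, smul_eq_mul, Pi.zero_apply, RingEquiv.coe_toRingHom,
        sub_mul, Finset.sum_sub_distrib]
      linear_combination -this
    have := Fintype.linearIndependent_iff.mp hli _ h0 τ
    linear_combination this
  choose d hd using fun τ => hsp (AddMonoidHom.mk' (fun x => c x τ) (hadd τ))
  refine ⟨Finset.univ, fun p => d p.2 p.1, fun x y => ?_⟩
  rw [hc x y, finsum_eq_sum_of_fintype, Fintype.sum_prod_type_right]
  refine Finset.sum_congr rfl fun τ _ => ?_
  have := hd τ x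
  rw [finsum_eq_sum_of_fintype] at this
  simp only [AddMonoidHom.mk'_apply] at this
  rw [this, Finset.sum_mul]
  exact Finset.sum_congr rfl fun σ _ => mul_assoc _ _ _

/-- For a finite field `F` of characteristic 2, the automorphisms of `F`, viewed as additive maps `F → F`, are linearly independent over `F` (acting on values) every additive endomorphism of `F` is an `F`-linear combination of them, and every biadditive map `F → F → F` is an `F`-combination of the maps `(x, y) ↦ σ(x) τ(y)`. -/
theorem result {F : Type*} [Field F] [Fintype F] [CharP F 2] :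
    LinearIndependent F (fun σ : F ≃+* F => ((σ : F →+* F) : F → F)) ∧
      (∀ f : F →+ F, ∃ (s : Finset (F ≃+* F)) (c : (F ≃+* F) → F), ∀ x : F, f x = ∑ σ ∈ s, c σ * σ x) ∧
      ∀ B : F →+ F →+ F, ∃ (s : Finset ((F ≃+* F) × (F ≃+* F))) (c : (F ≃+* F) × (F ≃+* F) → F),
        ∀ x y : F, B x y = ∑ p ∈ s, c p * (p.1 x * p.2 y) := by
  classical
  obtain ⟨h1, h2⟩ := exists_basis F
  haveI := finite_aut F
  haveI : Fintype (F ≃+* F) := Fintype.ofFinite _
  refine ⟨h1, fun f => ?_, exists_biadd⟩
  obtain ⟨c, hc⟩ := h2 f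
  exact ⟨Finset.univ, c, fun x => by rw [hc x, finsum_eq_sum_of_fintype]⟩

end Cfsg.Agent.S1140
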