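import Cfsg.Statements.S1142
import Cfsg.Agent.Lib.Chev.Coxeter
import Cfsg.Agent.Lib.Chev.FeitHigmanAlg
-- import your own Cfsg.Agent.* helpers here

set_option autoImplicit false
open Cfsg

namespace Cfsg.Agent.S1142

open Cfsg.Lib.FeitHigman (altP altQ)
open Cfsg.Lib.Linear.BN
open scoped Matrix

section Words

variable {W : Type*} [Group W]

theorem map_altP {M M' : Type*} [Monoid M] [Monoid M'] (f : M →* M') (x y : M) :
    ∀ k, f (altP x y k) = altP (f x) (f y) k ∧ f (altP y x k) = altP (f y) (f x) k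
  | 0 => by simp [altP]
  | k + 1 => by simp [altP, map_altP f x y k]

theorem altP_quot (x y : W) (hx : x * x = 1) (hy : y * y = 1) :
    ∀ k, altP x y k * (altP y x k)⁻¹ = (x * y) ^ k ∧ altP y x k * (altP x y k)⁻¹ = (y * x) ^ k
  | 0 => by simp [altP]
  | k + 1 => by
    have hxi : x⁻¹ = x := inv_eq_of_mul_eq_one_left hx
    have hyi : y⁻¹ = y := inv_eq_of_mul_eq_one_left hy
    obtain ⟨h1, h2⟩ := altP_quot x y hx hy k
    constructor
    · rw [← Cfsg.Lib.Chev.mul_pow_mul, ← h2]
      simp only [altP, mul_inv_rev, hyi, mul_assoc]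
    · rw [← Cfsg.Lib.Chev.mul_pow_mul, ← h1]
      simp only [altP, mul_inv_rev, hxi, mul_assoc]

theorem pow_eq_one_iff_braid (x y : W) (hx : x * x = 1) (hy : y * y = 1) (k : ℕ) :
    altP x y k = altP y x k ↔ (x * y) ^ k = 1 := by
  rw [← (altP_quot x y hx hy k).1, mul_inv_eq_one]

theorem card_dihedral [Finite W] (x y : W) (hx : x * x = 1) (hy : y * y = 1) (hx1 : x ≠ 1) (hy1 : y ≠ 1)
    (hgen : Subgroup.closure ({x, y} : Set W) = ⊤) : Nat.card W = 2 * orderOf (x * y) := by
  set ρ := x * y with hρ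
  have hconj : ∀ z ∈ Subgroup.zpowers ρ, x * z = z⁻¹ * x := by
    rintro z ⟨i, rfl⟩
    have h1 : x * ρ * x⁻¹ = ρ⁻¹ := by
      rw [hρ, mul_inv_rev, inv_eq_of_mul_eq_one_left hx, inv_eq_of_mul_eq_one_left hy,
        ← mul_assoc, hx, one_mul]
    have h2 : x * ρ ^ i * x⁻¹ = (ρ ^ i)⁻¹ := by
      rw [← conj_zpow, h1, inv_zpow]
    exact mul_inv_eq_iff_eq_mul.1 h2
  have hnot : x ∉ Subgroup.zpowers ρ := by
    intro hmem
    have h := hconj x hmem
    obtain ⟨i, hi⟩ := hmem
    have hc : Commute x ρ := by rw [← hi]; exact Commute.zpow_self ρ i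
    have hρ2 : ρ * ρ = 1 := by
      have := hconj ρ (Subgroup.mem_zpowers _)
      rw [hc.eq] at this
      exact mul_eq_one_iff_eq_inv.2 (mul_right_cancel this)
    rcases Int.even_or_odd' i with ⟨j, rfl | rfl⟩
    · apply hx1
      rw [← hi]
      show ρ ^ (2 * j) = 1
      rw [zpow_mul, zpow_two, hρ2, one_zpow]
    · apply hy1
      have : ρ = x := by
        rw [← hi]
        show ρ = ρ ^ (2 * j + 1)
        rw [zpow_add_one, zpow_mul, zpow_two, hρ2, one_zpow, one_mul]
      rw [hρ] at this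
      exact mul_eq_left.1 this
  let f : Subgroup.zpowers ρ × Bool → W := fun p => if p.2 then (p.1 : W) * x else (p.1 : W)
  have hinj : Function.Injective f := by
    rintro ⟨z, e⟩ ⟨z', e'⟩ h
    rcases e with _ | _ <;> rcases e' with _ | _ <;>
      simp only [f, Bool.false_eq_true, if_true, if_false] at h
    · rw [Subtype.ext h]
    · exact absurd (show x ∈ Subgroup.zpowers ρ by
        rw [show x = (z' : W)⁻¹ * z by rw [h, inv_mul_cancel_left]]
        exact mul_mem (inv_mem z'.2) z.2) hnot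
    · exact absurd (show x ∈ Subgroup.zpowers ρ by
        rw [show x = (z : W)⁻¹ * z' by rw [← h, inv_mul_cancel_left]]
        exact mul_mem (inv_mem z.2) z'.2) hnot
    · rw [Subtype.ext (mul_right_cancel h)]
  have hρK : ∀ z ∈ Subgroup.zpowers ρ, ∀ w ∈ Set.range f, z * w ∈ Set.range f := by
    rintro z hz _ ⟨⟨u, _ | _⟩, rfl⟩
    · exact ⟨(⟨z * u, mul_mem hz u.2⟩, false), rfl⟩
    · exact ⟨(⟨z * u, mul_mem hz u.2⟩, true), mul_assoc _ _ _⟩
  have hxK : ∀ w ∈ Set.range f, x * w ∈ Set.range f := by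
    rintro _ ⟨⟨u, _ | _⟩, rfl⟩
    · exact ⟨(u⁻¹, true), (hconj u u.2).symm⟩
    · refine ⟨(u⁻¹, false), ?_⟩
      show ((u⁻¹ : Subgroup.zpowers ρ) : W) = x * ((u : W) * x)
      rw [← mul_assoc, hconj u u.2, mul_assoc, hx, mul_one]
      rfl
  have hyK : ∀ w ∈ Set.range f, y * w ∈ Set.range f := by
    intro w hw
    have := hxK _ (hρK ρ (Subgroup.mem_zpowers _) w hw)
    rwa [show x * (ρ * w) = y * w by simp only [hρ, ← mul_assoc, hx, one_mul]] at this
  have hsurj : Function.Surjective f := by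
    intro w
    have hw : w ∈ Subgroup.closure ({x, y} : Set W) := hgen ▸ Subgroup.mem_top w
    induction hw using Subgroup.closure_induction_left with
    | one => exact ⟨(1, false), rfl⟩
    | mul_left u hu v _ ih =>
      rcases hu with rfl | rfl
      exacts [hxK _ ih, hyK _ ih]
    | inv_mul_cancel u hu v _ ih =>
      rcases hu with rfl | rfl
      · rw [inv_eq_of_mul_eq_one_left hx]; exact hxK _ ih
      · rw [inv_eq_of_mul_eq_one_left hy]; exact hyK _ ih
  rw [← Nat.card_congr (Equiv.ofBijective f ⟨hinj, hsurj⟩), Nat.card_prod, Nat.card_zpowers]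
  simp [mul_comm]

end Words

variable {G : Type*} [Group G] (P : BNPair G)

/-- The matrix of the double coset of `w` acting on the cosets of `B`. -/
noncomputable def cmat (w : G) : Matrix (G ⧸ P.B) (G ⧸ P.B) ℝ :=
  Set.indicator {p : (G ⧸ P.B) × (G ⧸ P.B) | p.1.out⁻¹ * p.2.out ∈ cell P w} 1 |>.curry

variable {P}

theorem cmat_apply_of_mem {w g h : G} (hg : g⁻¹ * h ∈ cell P w) :
    cmat P w (QuotientGroup.mk g) (QuotientGroup.mk h) = 1 := by
  obtain ⟨c, hc⟩ := QuotientGroup.mk_out_eq_mul P.B g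
  obtain ⟨d, hd⟩ := QuotientGroup.mk_out_eq_mul P.B h
  have hmem : (QuotientGroup.mk g : G ⧸ P.B).out⁻¹ * (QuotientGroup.mk h : G ⧸ P.B).out ∈ cell P w := by
    rw [hc, hd]
    have := mul_mem_cell hg (inv_mem c.2) d.2
    simpa [mul_assoc] using this
  simp [cmat, Function.curry, hmem]

theorem cmat_apply_of_not_mem {w g h : G} (hg : g⁻¹ * h ∉ cell P w) :
    cmat P w (QuotientGroup.mk g) (QuotientGroup.mk h) = 0 := by
  obtain ⟨c, hc⟩ := QuotientGroup.mk_out_eq_mul P.B g
  obtain ⟨d, hd⟩ := QuotientGroup.mk_out_eq_mul P.B h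
  have hmem : (QuotientGroup.mk g : G ⧸ P.B).out⁻¹ * (QuotientGroup.mk h : G ⧸ P.B).out ∉ cell P w := by
    rw [hc, hd]
    intro hh
    apply hg
    have := mul_mem_cell hh c.2 (inv_mem d.2)
    simpa [mul_assoc] using this
  simp [cmat, Function.curry, hmem]

theorem mem_cell_one {g : G} : g ∈ cell P 1 ↔ g ∈ P.B := by
  refine ⟨fun h => ?_, fun h => mem_cell.2 ⟨g, h, 1, one_mem _, by group⟩⟩
  obtain ⟨b, hb, c, hc, rfl⟩ := mem_cell.1 h
  simpa using mul_mem hb hc

theorem not_mem_cell_S {s g : G} (hs : s ∈ P.S) (hg : g ∈ P.B) : g ∉ cell P s := by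
  intro h
  obtain ⟨b, hb, c, hc, rfl⟩ := mem_cell.1 h
  apply not_mem_B hs
  simpa [mul_assoc] using mul_mem (mul_mem (inv_mem hb) hg) (inv_mem hc)

theorem inv_mem_cell_S {s g : G} (hs : s ∈ P.S) (h : g ∈ cell P s) : g⁻¹ ∈ cell P s := by
  rw [← (same_inv_S hs).cell_eq]
  exact inv_mem_cell h

theorem cell_S_mul {s g h : G} (hs : s ∈ P.S) (hg : g ∈ cell P s) (hh : h ∈ cell P s) :
    g * h ∈ P.B ∨ g * h ∈ cell P s := by
  refine (cell_mul hs (P.subset hs) hg hh).imp_left fun h' => ?_
  obtain ⟨b, hb, c, hc, he⟩ := mem_cell.1 h'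
  rw [he]
  exact mul_mem (mul_mem hb (P.sq_mem s hs)) hc

variable [Fintype (G ⧸ P.B)] [DecidableEq (G ⧸ P.B)]

omit [Fintype (G ⧸ P.B)] in
theorem cmat_one : cmat P (1 : G) = 1 := by
  ext x z
  induction x using QuotientGroup.induction_on with
  | _ g =>
  induction z using QuotientGroup.induction_on with
  | _ h =>
  by_cases he : g⁻¹ * h ∈ P.B
  · rw [cmat_apply_of_mem (mem_cell_one.2 he), Matrix.one_apply,
      if_pos (QuotientGroup.eq.2 he)]
  · rw [cmat_apply_of_not_mem (mt mem_cell_one.1 he), Matrix.one_apply,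
      if_neg (mt QuotientGroup.eq.1 he)]

omit [DecidableEq (G ⧸ P.B)] in
theorem cmat_mul_up {s w : G} (hs : s ∈ P.S) (hw : w ∈ P.N) (hl : len P (s * w) = len P w + 1) :
    cmat P s * cmat P w = cmat P (s * w) := by
  classical
  ext x z
  induction x using QuotientGroup.induction_on with
  | _ g =>
  induction z using QuotientGroup.induction_on with
  | _ k =>
  rw [Matrix.mul_apply]
  by_cases hk : g⁻¹ * k ∈ cell P (s * w)
  · rw [cmat_apply_of_mem hk]
    obtain ⟨b, hb, c, hc, he⟩ := mem_cell.1 hk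
    have h1 : g⁻¹ * (g * b * s) ∈ cell P s := mem_cell.2 ⟨b, hb, 1, one_mem _, by group⟩
    have h2 : (g * b * s)⁻¹ * k ∈ cell P w := mem_cell.2 ⟨1, one_mem _, c, hc, by
      rw [show k = g * (g⁻¹ * k) by group, he]; group⟩
    rw [Finset.sum_eq_single (QuotientGroup.mk (g * b * s))]
    · rw [cmat_apply_of_mem h1, cmat_apply_of_mem h2, one_mul]
    · intro y _ hy
      induction y using QuotientGroup.induction_on with
      | _ h =>
      by_cases h3 : g⁻¹ * h ∈ cell P s
      · by_cases h4 : h⁻¹ * k ∈ cell P w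
        · exfalso
          have hd : (g * b * s)⁻¹ * h = ((g⁻¹ * (g * b * s))⁻¹) * (g⁻¹ * h) := by group
          rcases cell_S_mul hs (inv_mem_cell_S hs h1) h3 with h5 | h5 <;> rw [← hd] at h5
          · exact hy (QuotientGroup.eq.2 h5).symm
          · have h6 := cell_mul_of_le hs hw (by omega) h5 h4
            rw [show (g * b * s)⁻¹ * h * (h⁻¹ * k) = (g * b * s)⁻¹ * k by group] at h6
            have := len_congr (same_of_mem_cell hw (mul_mem (P.subset hs) hw) h2 h6)
            omega
        · rw [cmat_apply_of_not_mem h4, mul_zero]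
      · rw [cmat_apply_of_not_mem h3, zero_mul]
    · simp
  · rw [cmat_apply_of_not_mem hk, Finset.sum_eq_zero]
    intro y _
    induction y using QuotientGroup.induction_on with
    | _ h =>
    by_cases h3 : g⁻¹ * h ∈ cell P s
    · by_cases h4 : h⁻¹ * k ∈ cell P w
      · exfalso
        apply hk
        have h6 := cell_mul_of_le hs hw (by omega) h3 h4
        rwa [show g⁻¹ * h * (h⁻¹ * k) = g⁻¹ * k by group] at h6
      · rw [cmat_apply_of_not_mem h4, mul_zero]
    · rw [cmat_apply_of_not_mem h3, zero_mul]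

variable (P) in
/-- The number of cosets in `B s B`. -/
noncomputable def deg (s : G) : ℕ := Nat.card {y : G ⧸ P.B // y.out ∈ cell P s}

omit [DecidableEq (G ⧸ P.B)] in
theorem row_sum (s : G) (x : G ⧸ P.B) : ∑ y, cmat P s x y = (deg P s : ℝ) := by
  classical
  induction x using QuotientGroup.induction_on with
  | _ g =>
  have hval : ∀ y : G ⧸ P.B, cmat P s (QuotientGroup.mk g) (g • y) =
      if y.out ∈ cell P s then 1 else 0 := by
    intro y
    have e : g • y = QuotientGroup.mk (g * y.out) := by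
      conv_lhs => rw [← QuotientGroup.out_eq' y]
      rfl
    rw [e]
    split_ifs with h
    · exact cmat_apply_of_mem (by simpa using h)
    · exact cmat_apply_of_not_mem (by simpa using h)
  rw [← Equiv.sum_comp (MulAction.toPerm g) (fun y => cmat P s (QuotientGroup.mk g) y)]
  simp only [MulAction.toPerm_apply, hval]
  rw [Finset.sum_boole, deg, Nat.card_eq_fintype_card, Fintype.card_subtype]

omit [DecidableEq (G ⧸ P.B)] in
theorem two_le_deg {s : G} (hs : s ∈ P.S) : 2 ≤ deg P s := by
  obtain ⟨b, hb, hsb⟩ := exists_conj_mem_cell hs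
  have hout : ∀ g : G, g ∈ cell P s → (QuotientGroup.mk g : G ⧸ P.B).out ∈ cell P s := by
    intro g hg
    obtain ⟨c, hc⟩ := QuotientGroup.mk_out_eq_mul P.B g
    rw [hc]
    simpa using mul_mem_cell hg (one_mem _) c.2
  let y₁ : {y : G ⧸ P.B // y.out ∈ cell P s} := ⟨QuotientGroup.mk s, hout _ (self_mem_cell s)⟩
  let y₂ : {y : G ⧸ P.B // y.out ∈ cell P s} := ⟨QuotientGroup.mk (s * b * s), hout _ hsb⟩
  have : Nontrivial {y : G ⧸ P.B // y.out ∈ cell P s} := ⟨y₁, y₂, fun h => by
    have h' := QuotientGroup.eq.1 (Subtype.ext_iff.1 h)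
    rw [show s⁻¹ * (s * b * s) = b * s by group] at h'
    apply not_mem_B hs
    simpa using mul_mem (inv_mem hb) h'⟩
  exact Finite.one_lt_card

theorem cmat_sq {s : G} (hs : s ∈ P.S) :
    cmat P s * cmat P s = ((deg P s : ℝ) - 1) • cmat P s + (deg P s : ℝ) • 1 := by
  classical
  rw [← cmat_one]
  ext x z
  induction x using QuotientGroup.induction_on with
  | _ g =>
  induction z using QuotientGroup.induction_on with
  | _ k =>
  rw [Matrix.mul_apply, Matrix.add_apply, Matrix.smul_apply, Matrix.smul_apply, smul_eq_mul, smul_eq_mul]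
  by_cases hB : g⁻¹ * k ∈ P.B
  · rw [cmat_apply_of_mem (mem_cell_one.2 hB), cmat_apply_of_not_mem (not_mem_cell_S hs hB),
      ← row_sum s (QuotientGroup.mk g : G ⧸ P.B), mul_zero, zero_add, mul_one]
    refine Finset.sum_congr rfl fun y _ => ?_
    induction y using QuotientGroup.induction_on with
    | _ h =>
    by_cases h3 : g⁻¹ * h ∈ cell P s
    · rw [cmat_apply_of_mem h3, one_mul, cmat_apply_of_mem]
      have := mul_mem_cell (inv_mem_cell_S hs h3) (one_mem _) hB
      simpa [mul_assoc] using this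
    · rw [cmat_apply_of_not_mem h3, zero_mul]
  rw [cmat_apply_of_not_mem (w := 1) (mt mem_cell_one.1 hB), mul_zero, add_zero]
  by_cases hk : g⁻¹ * k ∈ cell P s
  · rw [cmat_apply_of_mem hk, mul_one]
    have e : ∀ y, cmat P s (QuotientGroup.mk g) y * cmat P s y (QuotientGroup.mk k) =
        cmat P s (QuotientGroup.mk g) y - if y = QuotientGroup.mk k then 1 else 0 := by
      intro y
      induction y using QuotientGroup.induction_on with
      | _ h =>
      by_cases h3 : g⁻¹ * h ∈ cell P s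
      · rw [cmat_apply_of_mem h3, one_mul]
        by_cases h4 : h⁻¹ * k ∈ P.B
        · rw [cmat_apply_of_not_mem (not_mem_cell_S hs h4), if_pos (QuotientGroup.eq.2 h4), sub_self]
        · rw [if_neg (mt QuotientGroup.eq.1 h4), sub_zero, cmat_apply_of_mem]
          have h5 := cell_S_mul hs (inv_mem_cell_S hs h3) hk
          rw [show (g⁻¹ * h)⁻¹ * (g⁻¹ * k) = h⁻¹ * k by group] at h5
          exact h5.resolve_left h4
      · rw [cmat_apply_of_not_mem h3, zero_mul, if_neg, sub_zero]
        intro he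
        apply h3
        have := mul_mem_cell hk (one_mem _) (inv_mem (QuotientGroup.eq.1 he))
        simpa [mul_assoc] using this
    rw [Finset.sum_congr rfl fun y _ => e y, Finset.sum_sub_distrib, row_sum]
    simp
  · rw [cmat_apply_of_not_mem hk, mul_zero, Finset.sum_eq_zero]
    intro y _
    induction y using QuotientGroup.induction_on with
    | _ h =>
    by_cases h3 : g⁻¹ * h ∈ cell P s
    · by_cases h4 : h⁻¹ * k ∈ cell P s
      · exfalso
        have h5 := cell_S_mul hs h3 h4
        rw [show g⁻¹ * h * (h⁻¹ * k) = g⁻¹ * k by group] at h5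
        exact h5.elim hB hk
      · rw [cmat_apply_of_not_mem h4, mul_zero]
    · rw [cmat_apply_of_not_mem h3, zero_mul]

omit [DecidableEq (G ⧸ P.B)] in
theorem cmat_mulVec_one (s : G) : cmat P s *ᵥ (1 : (G ⧸ P.B) → ℝ) = (deg P s : ℝ) • 1 := by
  funext x
  simp only [Matrix.mulVec, dotProduct, Pi.one_apply, mul_one, Pi.smul_apply, smul_eq_mul]
  exact row_sum s x

theorem altP_mulVec_one (s t : G) : ∀ k,
    altP (cmat P s) (cmat P t) k *ᵥ (1 : (G ⧸ P.B) → ℝ) = altQ (deg P s : ℝ) (deg P t) k • 1 ∧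
    altP (cmat P t) (cmat P s) k *ᵥ (1 : (G ⧸ P.B) → ℝ) = altQ (deg P t : ℝ) (deg P s) k • 1
  | 0 => by simp [altP, altQ]
  | k + 1 => by
    obtain ⟨h1, h2⟩ := altP_mulVec_one s t k
    constructor
    · rw [altP, ← Matrix.mulVec_mulVec, h2, Matrix.mulVec_smul, cmat_mulVec_one, smul_smul, altQ,
        mul_comm]
    · rw [altP, ← Matrix.mulVec_mulVec, h1, Matrix.mulVec_smul, cmat_mulVec_one, smul_smul, altQ,
        mul_comm]

omit [Fintype (G ⧸ P.B)] [DecidableEq (G ⧸ P.B)] in
theorem altP_mem_N {s t : G} (hs : s ∈ P.S) (ht : t ∈ P.S) : ∀ k,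
    altP s t k ∈ P.N ∧ altP t s k ∈ P.N
  | 0 => ⟨one_mem _, one_mem _⟩
  | k + 1 => ⟨mul_mem (P.subset hs) (altP_mem_N hs ht k).2, mul_mem (P.subset ht) (altP_mem_N hs ht k).1⟩

omit [Fintype (G ⧸ P.B)] [DecidableEq (G ⧸ P.B)] in
theorem len_altP_le {s t : G} (hs : s ∈ P.S) (ht : t ∈ P.S) : ∀ k,
    len P (altP s t k) ≤ k ∧ len P (altP t s k) ≤ k
  | 0 => by simp [altP, len_one]
  | k + 1 => by
    have h1 := len_mul_le hs (altP_mem_N hs ht k).2
    have h2 := len_mul_le ht (altP_mem_N hs ht k).1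
    have := len_altP_le hs ht k
    simp only [altP]
    omega

omit [Fintype (G ⧸ P.B)] [DecidableEq (G ⧸ P.B)] in
theorem same_altP {s t : G} (hS : P.S = {s, t}) : ∀ (k : ℕ) (w : G), w ∈ P.N → len P w = k →
    Same P w (altP s t k) ∨ Same P w (altP t s k) := by
  have hs : s ∈ P.S := by simp [hS]
  have ht : t ∈ P.S := by simp [hS]
  intro k
  induction k with
  | zero =>
    intro w hw hk
    exact Or.inl (by simpa [altP] using (same_of_mem (mem_T_of_len_eq_zero hw hk)).symm)
  | succ k ih =>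
    intro w hw hk
    obtain ⟨r, hr, m, hm, hlt, hrm⟩ := exists_head hw (by omega)
    have hmk : len P m = k := by
      have := len_congr hrm
      have := len_mul_le hr hm
      omega
    rcases ih m hm hmk with h | h <;> rw [hS] at hr <;> rcases hr with rfl | rfl
    · -- the same letter twice
      rcases k with _ | i
      · exact Or.inl (hrm.symm.trans (h.mul_left _))
      · exfalso
        have h1 := (hrm.symm.trans (h.mul_left r)).trans
          (same_sq_mul hs (altP_mem_N hs ht i).2).symm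
        have := len_congr h1
        have := (len_altP_le hs ht i).2
        omega
    · exact Or.inr (hrm.symm.trans (h.mul_left _))
    · exact Or.inl (hrm.symm.trans (h.mul_left _))
    · rcases k with _ | i
      · exact Or.inr (hrm.symm.trans (h.mul_left _))
      · exfalso
        have h1 := (hrm.symm.trans (h.mul_left r)).trans
          (same_sq_mul ht (altP_mem_N hs ht i).1).symm
        have := len_congr h1
        have := (len_altP_le hs ht i).1
        omega

/-- Feit–Higman: if a finite group has a (B,N)-pair of rank 2, its Weyl group `N/(B ⊓ N)` has order 4, 6, 8, 12 or 16. -/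
theorem result {G : Type*} [Group G] [Finite G] (P : Cfsg.BNPair G)
    (h2 : P.rank = 2) :
    ((P.B ⊓ P.N).subgroupOf P.N).index ∈ ({4, 6, 8, 12, 16} : Set ℕ) := by
  classical
  haveI hnT : ((P.B ⊓ P.N).subgroupOf P.N).Normal :=
    ⟨fun t ht g => Subgroup.mem_subgroupOf.2 (Lib.Linear.BN.conj_mem_T g.2 (Subgroup.mem_subgroupOf.1 ht))⟩
  obtain ⟨s, t, hst, hS⟩ := Nat.card_eq_two_iff.1 (show Nat.card P.S = 2 from h2)
  have hS' : P.S = {(s : G), (t : G)} := by
    ext g
    refine ⟨fun hg => ?_, ?_⟩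
    · have := hS.symm ▸ Set.mem_univ (⟨g, hg⟩ : P.S)
      rcases this with h | h
      · exact Or.inl (congrArg Subtype.val h)
      · exact Or.inr (congrArg Subtype.val h)
    · rintro (rfl | rfl)
      exacts [s.2, t.2]
  let π : P.N →* Lib.Chev.WeylQ P := QuotientGroup.mk' _
  set s' : P.N := ⟨s, P.subset s.2⟩
  set t' : P.N := ⟨t, P.subset t.2⟩
  set σ : Lib.Chev.WeylQ P := Lib.Chev.weylS P s with hσ
  set τ : Lib.Chev.WeylQ P := Lib.Chev.weylS P t with hτ
  have hσ2 : σ * σ = 1 := Lib.Chev.weylS_sq s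
  have hτ2 : τ * τ = 1 := Lib.Chev.weylS_sq t
  have hne1 : ∀ r : P.S, Lib.Chev.weylS P r ≠ 1 := fun r hr => by
    rw [Lib.Chev.weylS, QuotientGroup.eq_one_iff, Subgroup.mem_subgroupOf] at hr
    exact not_mem_B r.2 hr.1
  have hrange : Set.range (Lib.Chev.weylS P) = {σ, τ} := by
    rw [← Set.image_univ, ← hS, Set.image_pair]
  set n := orderOf (σ * τ) with hn
  have hcard : Nat.card (Lib.Chev.WeylQ P) = 2 * n :=
    card_dihedral σ τ hσ2 hτ2 (hne1 s) (hne1 t) (hrange ▸ Lib.Chev.closure_weylS)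
  have hστ : σ * τ ≠ 1 := fun h =>
    hst (Lib.Chev.weylS_injective ((mul_eq_one_iff_eq_inv.1 h).trans (inv_eq_of_mul_eq_one_left hτ2)))
  have hn2 : 2 ≤ n := by
    have h0 := orderOf_pos (σ * τ)
    have h1 : n ≠ 1 := fun h => hστ (orderOf_eq_one_iff.1 h)
    omega
  -- from equalities up to the torus to equalities in the Weyl group
  have hπA : ∀ k, π (altP s' t' k) = altP σ τ k ∧ π (altP t' s' k) = altP τ σ k := map_altP π s' t'
  have hcoe : ∀ k, ((altP s' t' k : P.N) : G) = altP (s : G) t k ∧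
      ((altP t' s' k : P.N) : G) = altP (t : G) s k := map_altP P.N.subtype s' t'
  have hsame : ∀ {u v : P.N}, Same P (u : G) v ↔ π u = π v := fun {u v} => Lib.Chev.mk_eq_mk.symm
  -- lengths
  have hlen : ∀ k ≤ n, len P (altP (s : G) t k) = k ∧ len P (altP (t : G) s k) = k := by
    intro k
    induction k with
    | zero => intro _; simp [altP, len_one]
    | succ k ih =>
      intro hk
      obtain ⟨h1, h2⟩ := ih (by omega)
      constructor
      · rcases len_mul_cases s.2 (altP_mem_N s.2 t.2 k).2 with h | h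
        · simp only [altP]; omega
        exfalso
        obtain ⟨i, rfl⟩ : ∃ i, k = i + 1 := ⟨k - 1, by omega⟩
        rcases same_altP hS' i _ (altP_mem_N s.2 t.2 (i + 1 + 1)).1 (by simp only [altP] at *; omega)
          with h' | h' <;> simp only [← (hcoe _).1, ← (hcoe _).2] at h' <;>
          rw [hsame] at h' <;> simp only [(hπA _).1, (hπA _).2] at h'
        · exact hστ (mul_eq_right.1 (show σ * τ * altP σ τ i = altP σ τ i by
            rw [mul_assoc]; exact h'))
        · have h'' : altP τ σ (i + 1) = altP σ τ (i + 1) := by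
            have := congrArg (σ * ·) h'
            simp only [altP, ← mul_assoc, hσ2, one_mul] at this ⊢
            exact this
          exact pow_ne_one_of_lt_orderOf (by omega) (by omega)
            ((pow_eq_one_iff_braid σ τ hσ2 hτ2 _).1 h''.symm)
      · rcases len_mul_cases t.2 (altP_mem_N s.2 t.2 k).1 with h | h
        · simp only [altP]; omega
        exfalso
        obtain ⟨i, rfl⟩ : ∃ i, k = i + 1 := ⟨k - 1, by omega⟩
        rcases same_altP hS' i _ (altP_mem_N s.2 t.2 (i + 1 + 1)).2 (by simp only [altP] at *; omega)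
          with h' | h' <;> simp only [← (hcoe _).1, ← (hcoe _).2] at h' <;>
          rw [hsame] at h' <;> simp only [(hπA _).1, (hπA _).2] at h'
        · have h'' : altP σ τ (i + 1) = altP τ σ (i + 1) := by
            have := congrArg (τ * ·) h'
            simp only [altP, ← mul_assoc, hτ2, one_mul] at this ⊢
            exact this
          exact pow_ne_one_of_lt_orderOf (by omega) (by omega)
            ((pow_eq_one_iff_braid σ τ hσ2 hτ2 _).1 h'')
        · have h'' : τ * σ = 1 := mul_eq_right.1 (show τ * σ * altP τ σ i = altP τ σ i by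
            rw [mul_assoc]; exact h')
          exact hστ (mul_eq_one_comm.1 h'')
  -- the Hecke algebra
  letI := Fintype.ofFinite (G ⧸ P.B)
  haveI : Nonempty (G ⧸ P.B) := ⟨QuotientGroup.mk 1⟩
  have hprod : ∀ k ≤ n, altP (cmat P (s : G)) (cmat P t) k = cmat P (altP (s : G) t k) ∧
      altP (cmat P (t : G)) (cmat P s) k = cmat P (altP (t : G) s k) := by
    intro k
    induction k with
    | zero => intro _; simp [altP, cmat_one]
    | succ k ih =>
      intro hk
      obtain ⟨h1, h2⟩ := ih (by omega)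
      obtain ⟨l1, l2⟩ := hlen k (by omega)
      obtain ⟨m1, m2⟩ := hlen (k + 1) hk
      simp only [altP] at m1 m2 ⊢
      rw [h1, h2, cmat_mul_up s.2 (altP_mem_N s.2 t.2 k).2 (by omega),
        cmat_mul_up t.2 (altP_mem_N s.2 t.2 k).1 (by omega)]
      exact ⟨rfl, rfl⟩
  have hbr : altP (cmat P (s : G)) (cmat P t) n = altP (cmat P (t : G)) (cmat P s) n := by
    have h1 : Same P (altP (s : G) t n) (altP (t : G) s n) := by
      rw [← (hcoe n).1, ← (hcoe n).2, hsame, (hπA n).1, (hπA n).2,
        pow_eq_one_iff_braid σ τ hσ2 hτ2, hn, pow_orderOf_eq_one]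
    rw [(hprod n le_rfl).1, (hprod n le_rfl).2]
    ext x y
    simp only [cmat, h1.cell_eq]
  have hq : altQ (deg P (s : G) : ℝ) (deg P (t : G)) n = altQ (deg P (t : G) : ℝ) (deg P (s : G)) n := by
    obtain ⟨h1, h2⟩ := altP_mulVec_one (P := P) (s : G) t n
    rw [hbr, h2] at h1
    simpa using (congrFun h1 (QuotientGroup.mk 1)).symm
  have h0 : ∀ k, 1 ≤ k → k ≤ n → (altP (cmat P (s : G)) (cmat P t) k).trace = 0 ∧
      (altP (cmat P (t : G)) (cmat P s) k).trace = 0 := by
    intro k hk1 hk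
    have key : ∀ w ∈ P.N, len P w = k → (cmat P w).trace = 0 := by
      intro w hw hwk
      refine Finset.sum_eq_zero fun x _ => ?_
      induction x using QuotientGroup.induction_on with
      | _ g =>
      refine cmat_apply_of_not_mem fun h => ?_
      have := len_congr (same_of_mem_cell hw (one_mem _) h (by simpa using self_mem_cell (P := P) 1))
      rw [len_one] at this
      omega
    rw [(hprod k hk).1, (hprod k hk).2]
    exact ⟨key _ (altP_mem_N s.2 t.2 k).1 (hlen k hk).1, key _ (altP_mem_N s.2 t.2 k).2 (hlen k hk).2⟩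
  have hmem := Lib.FeitHigman.dihedral_order_mem (two_le_deg s.2) (two_le_deg t.2) (cmat_sq s.2) (cmat_sq t.2)
    hbr hq h0 hn2
  have hidx : ((P.B ⊓ P.N).subgroupOf P.N).index = 2 * n := by
    rw [Subgroup.index_eq_card]; exact hcard
  rw [hidx]
  simp only [Set.mem_insert_iff, Set.mem_singleton_iff] at hmem ⊢
  omega

end Cfsg.Agent.S1142
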