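import Cfsg.Statements.S1158
import Cfsg.Agent.Lib.Chev.ReeToriPlus

set_option autoImplicit false
open Cfsg

namespace Cfsg.Agent.S1158

/-- In the small Ree group ²G₂(q), q = 3^(2m+1) with m ≥ 1, realised as G¹ inside the Chevalley group G₂ over the field with q elements (θ the 3^m-th power map), with `r = 3^(m+1)` (so `r² = 3q`): for each `k ∈ {(q-1)/2, (q+1)/4, q - r + 1, q + r + 1}` there is a cyclic subgroup `A` of order `k` whose normaliser has order `2(q-1)`, `6(q+1)`, `6(q-r+1)`, `6(q+r+1)` respectively, and `N(A₀) = N(A)` for every non-trivial `A₀ ≤ A`. -/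
theorem result {K : Type*} [Field K] [Fintype K] {m : ℕ} (hm : 1 ≤ m) (hK : Fintype.card K = 3 ^ (2 * m + 1)) :
    ∀ kn ∈ ({((3 ^ (2 * m + 1) - 1) / 2, 2 * (3 ^ (2 * m + 1) - 1)), ((3 ^ (2 * m + 1) + 1) / 4, 6 * (3 ^ (2 * m + 1) + 1)),
        (3 ^ (2 * m + 1) - 3 ^ (m + 1) + 1, 6 * (3 ^ (2 * m + 1) - 3 ^ (m + 1) + 1)),
        (3 ^ (2 * m + 1) + 3 ^ (m + 1) + 1, 6 * (3 ^ (2 * m + 1) + 3 ^ (m + 1) + 1))} : Set (ℕ × ℕ)),
      ∃ A : Subgroup ↥(Cfsg.Lie.twistedG2 K (3 ^ m)), IsCyclic A ∧ Nat.card A = kn.1 ∧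
        Nat.card (Subgroup.normalizer (A : Set ↥(Cfsg.Lie.twistedG2 K (3 ^ m)))) = kn.2 ∧
        ∀ A₀ : Subgroup ↥(Cfsg.Lie.twistedG2 K (3 ^ m)), A₀ ≤ A → A₀ ≠ ⊥ →
          Subgroup.normalizer (A₀ : Set ↥(Cfsg.Lie.twistedG2 K (3 ^ m))) = Subgroup.normalizer (A : Set ↥(Cfsg.Lie.twistedG2 K (3 ^ m))) := by
  haveI := Cfsg.Lib.Chev.g2_charP hK
  rw [Cfsg.Lib.Chev.twistedG2_eq hK]
  obtain ⟨q, hq⟩ : ∃ q : ℕ, q = 3 ^ (2 * m + 1) := ⟨_, rfl⟩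
  obtain ⟨r, hr⟩ : ∃ r : ℕ, r = 3 ^ (m + 1) := ⟨_, rfl⟩
  have hqz : (3 : ℤ) ^ (2 * m + 1) = (q : ℤ) := by rw [hq]; push_cast; rfl
  have hrz : (3 : ℤ) ^ (m + 1) = (r : ℤ) := by rw [hr]; push_cast; rfl
  have hrq : r ≤ q := by rw [hr, hq]; exact Nat.pow_le_pow_right (by norm_num) (by omega)
  intro kn hkn
  simp only [Set.mem_insert_iff, Set.mem_singleton_iff] at hkn
  rcases hkn with rfl | rfl | rfl | rfl
  · obtain ⟨A, hA⟩ := Cfsg.Lib.Chev.Ree.exists_split_torus hK hm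
    exact ⟨A, hA.cyclic, hA.card, hA.card_norm, hA.norm_sub⟩
  · obtain ⟨A, hA, -, -⟩ := Cfsg.Lib.Chev.Ree.exists_half_torus hK hm
    exact ⟨A, hA.cyclic, hA.card, hA.card_norm, hA.norm_sub⟩
  · obtain ⟨A, hA⟩ := Cfsg.Lib.Chev.Ree.exists_large_torus hK hm (r := 3 ^ (m + 1)) (Or.inl rfl)
      (k := q - r + 1) (by push_cast [hrq]; rw [hqz, hrz])
    rw [← hq, ← hr]
    exact ⟨A, hA.cyclic, hA.card, hA.card_norm, hA.norm_sub⟩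
  · obtain ⟨A, hA⟩ := Cfsg.Lib.Chev.Ree.exists_large_torus hK hm (r := -3 ^ (m + 1)) (Or.inr rfl)
      (k := q + r + 1) (by push_cast; rw [hqz, hrz]; ring)
    rw [← hq, ← hr]
    exact ⟨A, hA.cyclic, hA.card, hA.card_norm, hA.norm_sub⟩

end Cfsg.Agent.S1158
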