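import Cfsg.Statements.S1160
import Cfsg.Agent.S0126

set_option linter.style.haveILetI false

set_option autoImplicit false
open Cfsg

namespace Cfsg.Agent.S1160

open MulAction

variable {P E : Type*} [Group P] [Finite P] [AddCommGroup E] [Finite E] [DistribMulAction P E]

/-- Trace over a subgroup. -/
noncomputable def tr (B : Subgroup P) (v : E) : E :=
  haveI : Fintype B := Fintype.ofFinite _
  ∑ b : B, (b : P) • v

theorem smul_tr (B : Subgroup P) (v : E) {x : P} (hx : x ∈ B) : x • tr B v = tr B v := by
  letI : Fintype B := Fintype.ofFinite _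
  simp only [tr, Finset.smul_sum]
  refine Fintype.sum_equiv (Equiv.mulLeft ⟨x, hx⟩) _ _ fun b => ?_
  rw [smul_smul]; rfl

theorem tr_of_fix (B : Subgroup P) (v : E) (hv : ∀ b ∈ B, b • v = v) : tr B v = Nat.card B • v := by
  letI : Fintype B := Fintype.ofFinite _
  simp only [tr]
  rw [Finset.sum_congr rfl fun (b : B) _ => hv b b.2, Finset.sum_const, Finset.card_univ, Nat.card_eq_fintype_card]

theorem tr_zpowers {p : ℕ} (x : P) (hx : orderOf x = p) (v : E) :
    tr (Subgroup.zpowers x) v = ∑ i ∈ Finset.range p, x ^ i • v := by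
  letI : Fintype (Subgroup.zpowers x) := Fintype.ofFinite _
  subst hx
  rw [← Fin.sum_univ_eq_sum_range (fun i => x ^ i • v)]
  exact (Fintype.sum_equiv (finEquivZPowers (isOfFinOrder_of_finite x)) _ (fun b : Subgroup.zpowers x => (b : P) • v)
    fun i => by simp [finEquivZPowers_apply]).symm

/-- Let `p ≠ 2` be prime and `P` a finite `p`-group acting faithfully by additive automorphisms on a finite elementary abelian `q`-group `E` (`q` prime), such that `|P_a|` is the same for all `a ≠ 0`. Then `P` is cyclic and every non-identity element of `P` fixes only `0`. -/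
theorem result {P E : Type*} [Group P] [Finite P]
    [AddCommGroup E] [Finite E] [DistribMulAction P E] [FaithfulSMul P E]
    {p q : ℕ} [Fact p.Prime] (hp2 : p ≠ 2) (hP : IsPGroup p P) (hq : q.Prime) (hE : ∀ e : E, q • e = 0)
    (hconst : ∀ a b : E, a ≠ 0 → b ≠ 0 →
      Nat.card (MulAction.stabilizer P a) = Nat.card (MulAction.stabilizer P b)) :
    IsCyclic P ∧ ∀ g : P, g ≠ 1 → ∀ a : E, g • a = a → a = 0 := by
  classical
  have hp : p.Prime := Fact.out
  by_cases hqp : q = p
  · -- a fixed point forces triviality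
    suffices hP1 : ∀ g : P, g = 1 by
      haveI : Subsingleton P := ⟨fun a b => (hP1 a).trans (hP1 b).symm⟩
      exact ⟨inferInstance, fun g hg => absurd (hP1 g) hg⟩
    intro g
    rcases subsingleton_or_nontrivial E with hE' | hE'
    · exact FaithfulSMul.eq_of_smul_eq_smul (α := E) fun e => Subsingleton.elim _ _
    subst hqp
    have h2 : q ∣ Nat.card E := by
      obtain ⟨e, he⟩ := exists_ne (0 : E)
      have h3 : addOrderOf e = q := addOrderOf_eq_prime (hE e) he
      rw [← h3]; exact addOrderOf_dvd_natCard e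
    obtain ⟨a, ha, ha0⟩ := hP.exists_fixed_point_of_prime_dvd_card_of_fixed_point E h2 (a := 0) (fun t => smul_zero t)
    refine FaithfulSMul.eq_of_smul_eq_smul (α := E) fun e => ?_
    rw [one_smul]
    by_cases he : e = 0
    · rw [he, smul_zero]
    have h4 : stabilizer P a = ⊤ := eq_top_iff.2 fun x _ => ha x
    have h5 := hconst e a he (Ne.symm ha0)
    rw [h4, Subgroup.card_top] at h5
    have h6 : g ∈ stabilizer P e := by rw [Subgroup.eq_top_of_card_eq _ h5]; exact Subgroup.mem_top g
    exact h6
  haveI : Fact q.Prime := ⟨hq⟩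
  have hcop : Nat.Coprime p q := (Nat.coprime_primes hp hq).2 (Ne.symm hqp)
  have hcancel : ∀ (k : ℕ) (v : E), (p ^ k) • v = 0 → v = 0 := by
    intro k v hv
    have h1 : addOrderOf v ∣ p ^ k := addOrderOf_dvd_of_nsmul_eq_zero hv
    have h2 : addOrderOf v ∣ q := addOrderOf_dvd_of_nsmul_eq_zero (hE v)
    have h3 := Nat.dvd_gcd h1 h2
    rwa [(hcop.pow_left k).gcd_eq_one, Nat.dvd_one, AddMonoid.addOrderOf_eq_one_iff] at h3
  have hcyc : IsCyclic P := by
    by_contra hnc
    obtain ⟨A, hAn, ⟨hAc, hAe⟩, hA2⟩ := Cfsg.Agent.S0126.result hp2 hP hnc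
    -- the part of `E` without `A`-fixed points
    have hfix0 : ∀ v : E, tr A v = 0 → (∀ a ∈ A, a • v = v) → v = 0 := by
      intro v h1 h2
      rw [tr_of_fix A v h2, hA2] at h1
      exact hcancel 2 v h1
    have hinv : ∀ (g : P) (v : E), tr A v = 0 → tr A (g • v) = 0 := by
      intro g v h
      letI : Fintype A := Fintype.ofFinite _
      have : tr A (g • v) = g • tr A v := by
        simp only [tr, Finset.smul_sum]
        refine Fintype.sum_equiv (MulAut.conjNormal g⁻¹ : MulAut A).toEquiv _ _ fun a => ?_
        show (a : P) • g • v = g • (((MulAut.conjNormal g⁻¹ : MulAut A) a : A) : P) • v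
        rw [smul_smul, smul_smul]
        congr 1
        simp [MulAut.conjNormal_apply, mul_assoc]
      rw [this, h, smul_zero]
    -- order `p` subgroups of `A`
    have hjoin : ∀ B B' : Subgroup P, B ≤ A → B' ≤ A → Nat.card B = p → Nat.card B' = p → B ≠ B' → B ⊔ B' = A := by
      intro B B' hB hB' hBc hB'c hne
      refine Subgroup.eq_of_le_of_card_ge (sup_le hB hB') ?_
      rw [hA2]
      have h1 : Nat.card (B ⊔ B' : Subgroup P) ∣ p ^ 2 := hA2 ▸ Subgroup.card_dvd_of_le (sup_le hB hB')
      obtain ⟨i, hi, hi'⟩ := (Nat.dvd_prime_pow hp).1 h1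
      rcases Nat.lt_or_ge i 2 with h2 | h2
      · exfalso
        have e1 : B = B ⊔ B' := Subgroup.eq_of_le_of_card_ge le_sup_left (by
          rw [hi', hBc]
          calc p ^ i ≤ p ^ 1 := Nat.pow_le_pow_right hp.pos (by omega)
            _ = p := pow_one p)
        have e2 : B' = B ⊔ B' := Subgroup.eq_of_le_of_card_ge le_sup_right (by
          rw [hi', hB'c]
          calc p ^ i ≤ p ^ 1 := Nat.pow_le_pow_right hp.pos (by omega)
            _ = p := pow_one p)
        exact hne (e1.trans e2.symm)
      · rw [hi']; exact Nat.pow_le_pow_right hp.pos h2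
    let C : Subgroup P → Set E := fun B => {v | tr A v = 0 ∧ ∀ b ∈ B, b • v = v}
    have hproj : ∀ B B' : Subgroup P, B ≤ A → B' ≤ A → Nat.card B = p → Nat.card B' = p → ∀ v ∈ C B',
        tr B v = if B = B' then p • v else 0 := by
      intro B B' hB hB' hBc hB'c v hv
      split_ifs with h
      · subst h; rw [tr_of_fix B v hv.2, hBc]
      · letI : Fintype B := Fintype.ofFinite _
        refine hfix0 _ ?_ ?_
        · letI : Fintype A := Fintype.ofFinite _
          simp only [tr, Finset.smul_sum]
          rw [Finset.sum_comm]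
          refine Finset.sum_eq_zero fun b _ => ?_
          have := hinv b v hv.1
          simpa [tr] using this
        · intro a ha
          have hle : B ⊔ B' ≤ stabilizer P (tr B v) := by
            refine sup_le (fun x hx => mem_stabilizer_iff.2 (smul_tr B v hx)) fun x hx => mem_stabilizer_iff.2 ?_
            simp only [tr, Finset.smul_sum]
            refine Finset.sum_congr rfl fun b _ => ?_
            have hxb : x * (b : P) = (b : P) * x :=
              congrArg Subtype.val (hAc.1.comm ⟨x, hB' hx⟩ ⟨b, hB b.2⟩)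
            rw [smul_smul, hxb, ← smul_smul, hv.2 x hx]
          exact hle ((hjoin B B' hB hB' hBc hB'c h).symm ▸ ha)
    -- generators
    have hord : ∀ a ∈ A, a ≠ 1 → orderOf a = p := fun a ha ha1 => orderOf_eq_prime (hAe a ha) ha1
    obtain ⟨s, hs, hs1⟩ : ∃ s ∈ A, s ≠ (1 : P) := by
      by_contra h
      push Not at h
      rw [(Subgroup.eq_bot_iff_forall A).2 h, Subgroup.card_bot] at hA2
      exact (Nat.one_lt_pow two_ne_zero hp.one_lt).ne hA2
    obtain ⟨t, ht, hts⟩ : ∃ t ∈ A, t ∉ Subgroup.zpowers s := by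
      by_contra h
      push Not at h
      have := Subgroup.card_le_of_le (show A ≤ Subgroup.zpowers s from h)
      rw [hA2, Nat.card_zpowers, hord s hs hs1, pow_two] at this
      have := hp.two_le
      nlinarith
    have ht1 : t ≠ 1 := fun h => hts (h ▸ Subgroup.one_mem _)
    have hcst : Commute s t := congrArg Subtype.val (hAc.1.comm ⟨s, hs⟩ ⟨t, ht⟩)
    have hst1 : ∀ k : ℕ, s * t ^ k ≠ 1 := fun k h => by
      have hs' : s⁻¹ ∈ Subgroup.zpowers t := by rw [inv_eq_of_mul_eq_one_right h]; exact Subgroup.pow_mem _ (Subgroup.mem_zpowers t) k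
      have hle : Subgroup.zpowers s ≤ Subgroup.zpowers t := Subgroup.zpowers_le.2 (inv_inv s ▸ Subgroup.inv_mem _ hs')
      have heq := Subgroup.eq_of_le_of_card_ge hle (by rw [Nat.card_zpowers, Nat.card_zpowers, hord s hs hs1, hord t ht ht1])
      exact hts (heq ▸ Subgroup.mem_zpowers t)
    have hbij : Function.Bijective fun z : Fin p × Fin p => (⟨s ^ (z.1 : ℕ) * t ^ (z.2 : ℕ), A.mul_mem (A.pow_mem hs _) (A.pow_mem ht _)⟩ : A) := by
      refine (Nat.bijective_iff_injective_and_card _).2 ⟨?_, by rw [Nat.card_prod, Nat.card_fin, hA2, pow_two]⟩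
      rintro ⟨i, j⟩ ⟨i', j'⟩ h
      have h' : s ^ (i : ℕ) * t ^ (j : ℕ) = s ^ (i' : ℕ) * t ^ (j' : ℕ) := congrArg Subtype.val h
      have hinS : (s ^ (i' : ℕ))⁻¹ * s ^ (i : ℕ) ∈ Subgroup.zpowers t := by
        rw [show (s ^ (i' : ℕ))⁻¹ * s ^ (i : ℕ) = t ^ (j' : ℕ) * (t ^ (j : ℕ))⁻¹ by
          rw [inv_mul_eq_iff_eq_mul, ← mul_assoc, ← h', mul_inv_cancel_right]]
        exact Subgroup.mul_mem _ (Subgroup.pow_mem _ (Subgroup.mem_zpowers t) _) (Subgroup.inv_mem _ (Subgroup.pow_mem _ (Subgroup.mem_zpowers t) _))
      have hone : (s ^ (i' : ℕ))⁻¹ * s ^ (i : ℕ) = 1 := by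
        by_contra hne
        have hinss : (s ^ (i' : ℕ))⁻¹ * s ^ (i : ℕ) ∈ Subgroup.zpowers s :=
          Subgroup.mul_mem _ (Subgroup.inv_mem _ (Subgroup.pow_mem _ (Subgroup.mem_zpowers s) _)) (Subgroup.pow_mem _ (Subgroup.mem_zpowers s) _)
        have ho : orderOf ((s ^ (i' : ℕ))⁻¹ * s ^ (i : ℕ)) = p :=
          hord _ (A.mul_mem (A.inv_mem (A.pow_mem hs _)) (A.pow_mem hs _)) hne
        have e1 := Subgroup.eq_of_le_of_card_ge (Subgroup.zpowers_le.2 hinss) (by rw [Nat.card_zpowers, Nat.card_zpowers, ho, hord s hs hs1])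
        have e2 := Subgroup.eq_of_le_of_card_ge (Subgroup.zpowers_le.2 hinS) (by rw [Nat.card_zpowers, Nat.card_zpowers, ho, hord t ht ht1])
        exact hts ((e1.symm.trans e2) ▸ Subgroup.mem_zpowers t)
      rw [inv_mul_eq_one] at hone
      rw [hone] at h'
      have hj := mul_left_cancel h'
      exact Prod.ext (Fin.ext (pow_injOn_Iio_orderOf (by simp [hord s hs hs1]) (by simp [hord s hs hs1]) hone.symm))
        (Fin.ext (pow_injOn_Iio_orderOf (by simp [hord t ht ht1]) (by simp [hord t ht ht1]) hj))
    -- the trace identity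
    have hid : ∀ v : E, (∑ k : ZMod p, tr (Subgroup.zpowers (s * t ^ k.val)) v) + tr (Subgroup.zpowers t) v =
        p • v + tr A v := by
      intro v
      haveI : NeZero p := ⟨hp.ne_zero⟩
      letI : Fintype A := Fintype.ofFinite _
      let g : ZMod p → ZMod p → E := fun i j => (s ^ i.val * t ^ j.val) • v
      have hrange : ∀ x : P, orderOf x = p → tr (Subgroup.zpowers x) v = ∑ i : ZMod p, x ^ i.val • v := by
        intro x hx
        rw [tr_zpowers x hx]
        refine Finset.sum_bij (fun i _ => (i : ZMod p)) (fun i _ => Finset.mem_univ _) ?_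
          (fun i _ => ⟨i.val, Finset.mem_range.2 (ZMod.val_lt i), ZMod.natCast_zmod_val i⟩) ?_
        · intro a ha b hb h
          have := congrArg ZMod.val h
          rwa [ZMod.val_natCast_of_lt (Finset.mem_range.1 ha), ZMod.val_natCast_of_lt (Finset.mem_range.1 hb)] at this
        · intro a ha
          rw [ZMod.val_natCast_of_lt (Finset.mem_range.1 ha)]
      have hA' : tr A v = ∑ i : ZMod p, ∑ j : ZMod p, g i j := by
        rw [← Finset.sum_product']
        simp only [tr]
        refine (Fintype.sum_bijective (fun z : ZMod p × ZMod p =>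
          (⟨s ^ z.1.val * t ^ z.2.val, A.mul_mem (A.pow_mem hs _) (A.pow_mem ht _)⟩ : A)) ?_ _ _ fun z => rfl).symm
        have he : Function.Bijective (fun z : ZMod p × ZMod p => ((⟨z.1.val, ZMod.val_lt _⟩, ⟨z.2.val, ZMod.val_lt _⟩) : Fin p × Fin p)) := by
          refine (Nat.bijective_iff_injective_and_card _).2 ⟨?_, by simp⟩
          intro a b h
          simp only [Prod.mk.injEq, Fin.mk.injEq] at h
          exact Prod.ext (ZMod.val_injective p h.1) (ZMod.val_injective p h.2)
        exact hbij.comp he
      have hk : ∀ k : ZMod p, tr (Subgroup.zpowers (s * t ^ k.val)) v = ∑ i : ZMod p, g i (k * i) := by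
        intro k
        rw [hrange _ (hord _ (A.mul_mem hs (A.pow_mem ht _)) (hst1 _))]
        refine Finset.sum_congr rfl fun i _ => ?_
        rw [(hcst.pow_right _).mul_pow, ← pow_mul]
        show _ = (s ^ i.val * t ^ (k * i).val) • v
        have hmod : ∀ n : ℕ, t ^ (n % p) = t ^ n := fun n => by
          conv_rhs => rw [← Nat.mod_add_div n p, pow_add, pow_mul, hAe t ht, one_pow, mul_one]
        rw [ZMod.val_mul, hmod]
      have htr : tr (Subgroup.zpowers t) v = ∑ j : ZMod p, g 0 j := by
        rw [hrange t (hord t ht ht1)]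
        simp [g]
      rw [Finset.sum_congr rfl fun k _ => hk k, Finset.sum_comm, htr, hA',
        ← Finset.add_sum_erase _ _ (Finset.mem_univ (0 : ZMod p)),
        ← Finset.add_sum_erase _ (fun i => ∑ j, g i j) (Finset.mem_univ (0 : ZMod p))]
      have h0 : ∑ k : ZMod p, g 0 (k * 0) = p • v := by simp [g]
      have hne : ∀ i ∈ Finset.univ.erase (0 : ZMod p), ∑ k : ZMod p, g i (k * i) = ∑ j, g i j := fun i hi =>
        Fintype.sum_equiv (Equiv.mulRight₀ i (Finset.ne_of_mem_erase hi)) _ _ fun k => rfl
      rw [h0, Finset.sum_congr rfl hne]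
      abel
    -- two components
    have hBA : ∀ x ∈ A, Subgroup.zpowers x ≤ A := fun x hx => Subgroup.zpowers_le.2 hx
    have hcomp : ∀ (B : Subgroup P) (v : E), B ≤ A → tr A v = 0 → tr B v ∈ C B := by
      intro B v hB hv
      refine ⟨?_, fun b hb => smul_tr B v hb⟩
      letI : Fintype B := Fintype.ofFinite _
      letI : Fintype A := Fintype.ofFinite _
      simp only [tr, Finset.smul_sum]
      rw [Finset.sum_comm]
      refine Finset.sum_eq_zero fun b _ => ?_
      simpa [tr] using hinv b v hv
    obtain ⟨v₀, hv₀, hv₀'⟩ : ∃ v, tr A v = 0 ∧ v ≠ (0 : E) := by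
      by_contra h
      push Not at h
      apply hs1
      refine FaithfulSMul.eq_of_smul_eq_smul (α := E) fun e => ?_
      rw [one_smul]
      have h1 : tr A (p ^ 2 • e - tr A e) = 0 := by
        letI : Fintype A := Fintype.ofFinite _
        have hsub : ∀ x y : E, tr A (x - y) = tr A x - tr A y := fun x y => by
          simp only [tr, smul_sub, Finset.sum_sub_distrib]
        have hns : tr A (p ^ 2 • e) = p ^ 2 • tr A e := by
          simp only [tr, Finset.smul_sum]
          exact Finset.sum_congr rfl fun a _ => smul_comm _ _ _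
        rw [hsub, hns, tr_of_fix A (tr A e) fun a ha => smul_tr A e ha, hA2, sub_self]
      have h2 := sub_eq_zero.1 (h _ h1)
      have h3 : s • (p ^ 2 • e) = p ^ 2 • e := by rw [h2]; exact smul_tr A e hs
      rw [smul_comm, ← sub_eq_zero, ← smul_sub] at h3
      exact sub_eq_zero.1 (hcancel 2 _ h3)
    have hmain : ∀ (B B' : Subgroup P) (a b : E), B ≤ A → B' ≤ A → Nat.card B = p → Nat.card B' = p → B ≠ B' →
        a ∈ C B → b ∈ C B' → a ≠ 0 → b ≠ 0 → False := by
      intro B B' a b hB hB' hBc hB'c hne ha hb ha0 hb0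
      have e1 : tr B (a + b) = p • a := by
        have hadd : tr B (a + b) = tr B a + tr B b := by simp [tr, smul_add, Finset.sum_add_distrib]
        rw [hadd, hproj B B hB hB hBc hBc a ha, hproj B B' hB hB' hBc hB'c b hb, if_pos rfl, if_neg hne, add_zero]
      have hpa : p • a ≠ 0 := fun h => ha0 (hcancel 1 a (by rwa [pow_one]))
      have hpb : p • b ≠ 0 := fun h => hb0 (hcancel 1 b (by rwa [pow_one]))
      have hab0 : a + b ≠ 0 := fun h => hpa (by rw [← e1, h]; simp [tr])
      have hle : stabilizer P (a + b) ≤ stabilizer P a ⊓ stabilizer P b := by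
        intro g hg
        rw [mem_stabilizer_iff, smul_add] at hg
        set B1 := B.map (MulAut.conj g).toMonoidHom with hB1
        set B2 := B'.map (MulAut.conj g).toMonoidHom with hB2
        have hconjA : ∀ X : Subgroup P, X ≤ A → X.map (MulAut.conj g).toMonoidHom ≤ A := by
          rintro X hX _ ⟨x, hx, rfl⟩
          exact hAn.conj_mem x (hX hx) g
        have hcard : ∀ X : Subgroup P, Nat.card (X.map (MulAut.conj g).toMonoidHom) = Nat.card X := fun X =>
          Subgroup.card_map_of_injective (MulAut.conj g).injective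
        have hmem : ∀ (X : Subgroup P) (x : E), x ∈ C X → g • x ∈ C (X.map (MulAut.conj g).toMonoidHom) := by
          intro X x hx
          refine ⟨hinv g x hx.1, ?_⟩
          rintro _ ⟨y, hy, rfl⟩
          show (g * y * g⁻¹) • g • x = g • x
          rw [smul_smul, inv_mul_cancel_right, mul_smul, hx.2 y hy]
        have h12 : B1 ≠ B2 := fun h => hne (Subgroup.map_injective (MulAut.conj g).injective h)
        have happ : ∀ X : Subgroup P, X ≤ A → Nat.card X = p →
            tr X (a + b) = (if X = B1 then p • (g • a) else 0) + (if X = B2 then p • (g • b) else 0) := by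
          intro X hX hXc
          have hadd : tr X (g • a + g • b) = tr X (g • a) + tr X (g • b) := by simp [tr, smul_add, Finset.sum_add_distrib]
          rw [← hg, hadd, hproj X B1 hX (hconjA B hB) hXc ((hcard B).trans hBc) _ (hmem B a ha),
            hproj X B2 hX (hconjA B' hB') hXc ((hcard B').trans hB'c) _ (hmem B' b hb)]
        have e2 : tr B' (a + b) = p • b := by
          have hadd : tr B' (a + b) = tr B' a + tr B' b := by simp [tr, smul_add, Finset.sum_add_distrib]
          rw [hadd, hproj B' B hB' hB hB'c hBc a ha, hproj B' B' hB' hB' hB'c hB'c b hb, if_pos rfl, if_neg (Ne.symm hne), zero_add]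
        have k1 := happ B hB hBc
        have k2 := happ B' hB' hB'c
        rw [e1] at k1; rw [e2] at k2
        by_cases hc1 : B = B1
        · have hc2 : B' = B2 := by
            by_contra h
            rw [if_neg (fun h' => hne (hc1.trans h'.symm)), if_neg h, add_zero] at k2
            exact hpb k2
          rw [if_pos hc1, if_neg (fun h => h12 (hc1.symm.trans h)), add_zero] at k1
          rw [if_neg (fun h' => hne (hc1.trans h'.symm)), if_pos hc2, zero_add] at k2
          refine Subgroup.mem_inf.2 ⟨mem_stabilizer_iff.2 ?_, mem_stabilizer_iff.2 ?_⟩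
          · refine (sub_eq_zero.1 (hcancel 1 _ ?_)).symm
            rw [pow_one, smul_sub, k1, sub_self]
          · refine (sub_eq_zero.1 (hcancel 1 _ ?_)).symm
            rw [pow_one, smul_sub, k2, sub_self]
        · exfalso
          have hc2 : B = B2 := by
            by_contra h
            rw [if_neg hc1, if_neg h, add_zero] at k1
            exact hpa k1
          have hc3 : B' = B1 := by
            by_contra h
            rw [if_neg h, if_neg (fun h' => hne (hc2.trans h'.symm)), add_zero] at k2
            exact hpb k2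
          -- an element of odd order cannot swap
          let St : Subgroup P := Subgroup.normalizer (B : Set P)
          have hmap : ∀ x y : P, (B.map (MulAut.conj y).toMonoidHom).map (MulAut.conj x).toMonoidHom = B.map (MulAut.conj (x * y)).toMonoidHom := by
            intro x y
            rw [Subgroup.map_map]
            congr 1
            ext z; simp [MulAut.conj_apply, mul_assoc]
          have hg2 : g * g ∈ St := by
            have h2 : B.map (MulAut.conj (g * g)).toMonoidHom = B := by
              rw [← hmap, ← hB1, ← hc3, ← hB2, ← hc2]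
            show g * g ∈ Subgroup.normalizer (B : Set P)
            rw [Subgroup.mem_normalizer_iff]
            intro z
            constructor
            · intro hz
              have h3 : MulAut.conj (g * g) z ∈ B.map (MulAut.conj (g * g)).toMonoidHom := ⟨z, hz, rfl⟩
              rw [h2] at h3; exact h3
            · intro hz
              have h3 : MulAut.conj (g * g) z ∈ B.map (MulAut.conj (g * g)).toMonoidHom := by rw [h2]; exact hz
              obtain ⟨w, hw, hw'⟩ := h3
              exact (MulAut.conj (g * g)).injective hw' ▸ hw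
          obtain ⟨j, hj⟩ := IsPGroup.iff_orderOf.1 hP g
          have hodd : Odd (orderOf g) := hj ▸ (hp.odd_of_ne_two hp2).pow
          obtain ⟨m, hm⟩ := hodd
          have hgSt : g ∈ St := by
            have : g = (g * g) ^ (m + 1) := by
              rw [← pow_two, ← pow_mul, show 2 * (m + 1) = orderOf g + 1 by omega, pow_succ, pow_orderOf_eq_one, one_mul]
            rw [this]; exact St.pow_mem hg2 _
          apply hc1
          rw [hB1]
          refine (Subgroup.eq_of_le_of_card_ge ?_ (le_of_eq (hcard B).symm)).symm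
          rintro _ ⟨z, hz, rfl⟩
          exact ((Subgroup.mem_normalizer_iff.1 hgSt) z).1 hz
      have h1 : Nat.card (stabilizer P a) = Nat.card (stabilizer P (a + b)) := hconst a (a + b) ha0 hab0
      have h2 : stabilizer P (a + b) = stabilizer P a := Subgroup.eq_of_le_of_card_ge (hle.trans inf_le_left) h1.le
      have h3 : stabilizer P (a + b) = stabilizer P b :=
        Subgroup.eq_of_le_of_card_ge (hle.trans inf_le_right) (hconst b (a + b) hb0 hab0).le
      refine ha0 (hfix0 a ha.1 fun x hx => ?_)
      have hle2 : B ⊔ B' ≤ stabilizer P a := sup_le (fun x hx => mem_stabilizer_iff.2 (ha.2 x hx))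
        (fun x hx => by rw [← h2, h3]; exact mem_stabilizer_iff.2 (hb.2 x hx))
      exact hle2 ((hjoin B B' hB hB' hBc hB'c hne).symm ▸ hx)
    -- some component is nonzero, and only one
    let L : Option (ZMod p) → Subgroup P := fun o => match o with
      | none => Subgroup.zpowers t
      | some k => Subgroup.zpowers (s * t ^ k.val)
    have hLA : ∀ o, L o ≤ A := fun o => by
      rcases o with _ | k
      · exact hBA t ht
      · exact hBA _ (A.mul_mem hs (A.pow_mem ht _))
    have hLc : ∀ o, Nat.card (L o) = p := fun o => by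
      rcases o with _ | k
      · rw [Nat.card_zpowers]; exact hord t ht ht1
      · rw [Nat.card_zpowers]; exact hord _ (A.mul_mem hs (A.pow_mem ht _)) (hst1 _)
    haveI : NeZero p := ⟨hp.ne_zero⟩
    have hsumL : ∀ v : E, tr A v = 0 → p • v = ∑ o : Option (ZMod p), tr (L o) v := by
      intro v hv
      rw [Fintype.sum_option, add_comm]
      show _ = (∑ k : ZMod p, tr (Subgroup.zpowers (s * t ^ k.val)) v) + tr (Subgroup.zpowers t) v
      rw [hid, hv, add_zero]
    obtain ⟨o₁, ho₁⟩ : ∃ o, tr (L o) v₀ ≠ 0 := by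
      by_contra h
      push Not at h
      refine hv₀' (hcancel 1 v₀ ?_)
      rw [pow_one, hsumL v₀ hv₀]
      exact Finset.sum_eq_zero fun o _ => h o
    have hall : ∀ v : E, tr A v = 0 → ∀ x ∈ L o₁, x • v = v := by
      intro v hv x hx
      have h0 : ∀ o, L o ≠ L o₁ → tr (L o) v = 0 := fun o ho => by
        by_contra h
        exact hmain (L o₁) (L o) _ _ (hLA _) (hLA _) (hLc _) (hLc _) (Ne.symm ho) (hcomp _ v₀ (hLA _) hv₀) (hcomp _ v (hLA _) hv) ho₁ h
      refine sub_eq_zero.1 (hcancel 1 _ ?_)
      rw [pow_one, smul_sub, ← smul_comm, hsumL v hv, Finset.smul_sum, ← Finset.sum_sub_distrib]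
      refine Finset.sum_eq_zero fun o _ => ?_
      by_cases ho : L o = L o₁
      · rw [ho, smul_tr (L o₁) v hx, sub_self]
      · rw [h0 o ho, smul_zero, sub_self]
    obtain ⟨x, hx, hx1⟩ : ∃ x ∈ L o₁, x ≠ (1 : P) := by
      by_contra h
      push Not at h
      have := hLc o₁
      rw [(Subgroup.eq_bot_iff_forall _).2 h, Subgroup.card_bot] at this
      exact hp.one_lt.ne this
    apply hx1
    refine FaithfulSMul.eq_of_smul_eq_smul (α := E) fun e => ?_
    rw [one_smul]
    have hsub : ∀ y z : E, tr A (y - z) = tr A y - tr A z := fun y z => by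
      simp [tr, smul_sub, Finset.sum_sub_distrib]
    have hns : ∀ (n : ℕ) (y : E), tr A (n • y) = n • tr A y := fun n y => by
      simp only [tr, Finset.smul_sum]
      exact Finset.sum_congr rfl fun a _ => smul_comm _ _ _
    have hw : tr A (p ^ 2 • e - tr A e) = 0 := by
      rw [hsub, hns, tr_of_fix A (tr A e) fun a ha => smul_tr A e ha, hA2, sub_self]
    have h5 := hall _ hw x hx
    rw [smul_sub, smul_tr A e (hLA _ hx), sub_left_inj, smul_comm] at h5
    refine sub_eq_zero.1 (hcancel 2 _ ?_)
    rw [smul_sub, h5, sub_self]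
  refine ⟨hcyc, fun g hg a hga => ?_⟩
  by_contra ha0
  letI : Fintype P := Fintype.ofFinite _
  haveI : Nontrivial P := ⟨⟨g, 1, hg⟩⟩
  obtain ⟨z, hz⟩ : ∃ z : P, orderOf z = p := by
    obtain ⟨k, hk⟩ := hP.exists_card_eq
    refine exists_prime_orderOf_dvd_card' p ?_
    rw [hk]; exact dvd_pow_self p (by rintro rfl; rw [pow_zero] at hk; exact absurd hk (Finite.one_lt_card (α := P)).ne')
  apply (show z ≠ 1 from fun h => by rw [h, orderOf_one] at hz; exact hp.one_lt.ne hz)
  refine FaithfulSMul.eq_of_smul_eq_smul (α := E) fun e => ?_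
  rw [one_smul]
  by_cases he : e = 0
  · rw [he, smul_zero]
  have hne : stabilizer P e ≠ ⊥ := by
    intro h
    have h2 := hconst e a he ha0
    rw [h, Subgroup.card_bot] at h2
    have h3 : stabilizer P a = ⊥ := Subgroup.card_eq_one.1 h2.symm
    exact hg (Subgroup.mem_bot.1 (h3 ▸ mem_stabilizer_iff.2 hga))
  obtain ⟨k, hk⟩ := (hP.to_subgroup (stabilizer P e)).exists_card_eq
  have hk0 : k ≠ 0 := by rintro rfl; rw [pow_zero, Subgroup.card_eq_one] at hk; exact hne hk
  haveI : Fintype (stabilizer P e) := Fintype.ofFinite _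
  obtain ⟨w, hw⟩ := exists_prime_orderOf_dvd_card' (G := stabilizer P e) p (hk ▸ dvd_pow_self p hk0)
  rw [← Subgroup.orderOf_coe] at hw
  have hcard := IsCyclic.card_pow_eq_one_le (α := P) hp.pos
  have hzw : z ∈ Subgroup.zpowers (w : P) := by
    by_contra hzw
    have hsub : (Subgroup.zpowers (w : P) : Set P).toFinset ∪ {z} ⊆ Finset.univ.filter fun x : P => x ^ p = 1 := by
      intro x hx
      rw [Finset.mem_union, Set.mem_toFinset, Finset.mem_singleton] at hx
      refine Finset.mem_filter.2 ⟨Finset.mem_univ _, ?_⟩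
      rcases hx with hx | rfl
      · obtain ⟨i, rfl⟩ := hx
        show ((w : P) ^ i) ^ p = 1
        rw [← zpow_natCast, ← zpow_mul, mul_comm, zpow_mul, zpow_natCast, ← hw, pow_orderOf_eq_one, one_zpow]
      · rw [← hz, pow_orderOf_eq_one]
    have h2 := (Finset.card_le_card hsub).trans hcard
    rw [Finset.card_union_of_disjoint (by simpa using hzw), Finset.card_singleton, Set.toFinset_card] at h2
    have h3 : Fintype.card (Subgroup.zpowers (w : P) : Set P) = p := by
      rw [← Nat.card_eq_fintype_card]; exact (Nat.card_zpowers _).trans hw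
    omega
  exact mem_stabilizer_iff.1 ((Subgroup.zpowers_le.2 w.2) hzw)

end Cfsg.Agent.S1160
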