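import Cfsg.Statements.S1161
import Cfsg.Agent.Lib.OddTrans.Fitting

set_option autoImplicit false
open Cfsg

namespace Cfsg.Agent.S1161

/-- Let `D` be a finite group of odd order acting faithfully by additive automorphisms on a finite elementary abelian `q`-group `E ≠ 0` (`q` prime), transitively on `E ∖ {0}`. Then the Fitting subgroup `F(D)` is cyclic, its non-identity elements fix only `0`, and `D/F(D)` is abelian (the derived subgroup lies in `F(D)`). -/
theorem result {D E : Type*} [Group D] [Finite D]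
    [AddCommGroup E] [Finite E] [Nontrivial E] [DistribMulAction D E] [FaithfulSMul D E]
    (hodd : Odd (Nat.card D)) {q : ℕ} (hq : q.Prime) (hE : ∀ e : E, q • e = 0)
    (htrans : ∀ a b : E, a ≠ 0 → b ≠ 0 → ∃ d : D, d • a = b) :
    IsCyclic ↥(Cfsg.fittingSubgroup D) ∧
      (∀ g ∈ Cfsg.fittingSubgroup D, g ≠ 1 → ∀ a : E, g • a = a → a = 0) ∧
      commutator D ≤ Cfsg.fittingSubgroup D := by
  classical
  haveI := Fintype.ofFinite D
  have h2 : ∀ w : E, 2 • w = 0 := by
    obtain ⟨w, hw⟩ : ∃ w : E, addOrderOf w = 2 := by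
      refine exists_prime_addOrderOf_dvd_card' 2 ?_
      have h := Cfsg.Lib.OddTrans.card_sub_one_dvd htrans
      have hodd' := Odd.of_dvd_nat hodd h
      have := Finite.one_lt_card (α := E)
      obtain ⟨k, hk⟩ := hodd'
      omega
    have hq2 : q = 2 :=
      ((Nat.prime_dvd_prime_iff_eq Nat.prime_two hq).1 (hw ▸ addOrderOf_dvd_of_nsmul_eq_zero (hE w))).symm
    exact fun w => hq2 ▸ hE w
  exact Cfsg.Lib.OddTrans.fitting_of_transitive hodd h2 htrans

end Cfsg.Agent.S1161
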