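import Cfsg.Statements.S1166
import Cfsg.Agent.Lib.Linear.RankOne

set_option autoImplicit false
open Cfsg

namespace Cfsg.Agent.S1166

/-- In the rank-one set-up (`G` finite and doubly transitive on `Ω`, `t` an involution moving `a`, `Q` normal in `G_a` with `G_a = Q D`, `Q ⊓ D = 1` for the two-point stabiliser `D = G_a ⊓ G_{t • a}`, `|Q|` even, `|D|` odd), with `t x t = g_x h_x t f_x` and `t y t = g_y h_y t f_y` (`g, f ∈ Q`, `h ∈ D`) for `x, y ∈ Q ∖ 1` with `x y ≠ 1`: then `z = f_x g_y ≠ 1`, and if `t z t = g_z h_z t f_z` and `t (x y) t = g' h' t f'` then `f' = (t h_y t)⁻¹ f_z (t h_y t) f_y` and `h' = h_x h_z h_y` (H6). -/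
theorem result {G Ω : Type*} [Group G] [Finite G] [MulAction G Ω] {a : Ω} {t : G} {Q : Subgroup G}
    (hS : Cfsg.IsRankOneSetup G Ω a t Q)
    (x y gx hx fx gy hy fy : G) (hxQ : x ∈ Q) (hx1 : x ≠ 1) (hyQ : y ∈ Q) (hy1 : y ≠ 1) (hxy : x * y ≠ 1)
    (hgx : gx ∈ Q) (hhx : hx ∈ (MulAction.stabilizer G a ⊓ MulAction.stabilizer G (t • a))) (hfx : fx ∈ Q) (ex : t * x * t = gx * hx * t * fx)
    (hgy : gy ∈ Q) (hhy : hy ∈ (MulAction.stabilizer G a ⊓ MulAction.stabilizer G (t • a))) (hfy : fy ∈ Q) (ey : t * y * t = gy * hy * t * fy) :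
    fx * gy ≠ 1 ∧
      ∀ gz hz fz g' h' f' : G, gz ∈ Q → hz ∈ (MulAction.stabilizer G a ⊓ MulAction.stabilizer G (t • a)) → fz ∈ Q → t * (fx * gy) * t = gz * hz * t * fz →
        g' ∈ Q → h' ∈ (MulAction.stabilizer G a ⊓ MulAction.stabilizer G (t • a)) → f' ∈ Q → t * (x * y) * t = g' * h' * t * f' →
          f' = (t * hy * t)⁻¹ * fz * (t * hy * t) * fy ∧ h' = hx * hz * hy := by
  have ti := Cfsg.Lib.Linear.RankOne.t_inv hS
  have htt : ∀ y : G, t * (t * y) = y := fun y => by rw [← mul_assoc, hS.mul_self, one_mul]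
  have hD : ∀ {d : G}, d ∈ (MulAction.stabilizer G a ⊓ MulAction.stabilizer G (t • a)) →
      t * d * t ∈ (MulAction.stabilizer G a ⊓ MulAction.stabilizer G (t • a)) :=
    fun hd => Cfsg.Lib.Linear.RankOne.conj_mem_D hS hd
  have eprod : t * (x * y) * t = gx * hx * (t * (fx * gy) * (hy * t * fy)) := by
    calc t * (x * y) * t = (t * x * t) * (t * y * t) := by simp [mul_assoc, htt]
      _ = _ := by rw [ex, ey]; simp [mul_assoc]
  refine ⟨fun hz => ?_, ?_⟩
  · apply hxy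
    have e1 : t * (x * y) * t = gx * hx * (t * hy * t) * fy := by
      rw [eprod, hz]; simp [mul_assoc]
    have hmem : t * (x * y) * t ∈ MulAction.stabilizer G a := by
      rw [e1]
      exact mul_mem (mul_mem (mul_mem (hS.le hgx) hhx.1) (hD hhy).1) (hS.le hfy)
    refine Cfsg.Lib.Linear.RankOne.eq_one_of_fix_ta hS (Q.mul_mem hxQ hyQ) ?_
    have h1 : (t * (x * y) * t) • a = a := hmem
    rw [mul_smul, mul_smul] at h1
    have h2 := congrArg (fun b : Ω => t • b) h1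
    simpa only [Cfsg.Lib.Linear.RankOne.smul_smul_self hS, smul_smul, ← mul_assoc, hS.mul_self,
      one_mul] using h2
  · intro gz hz fz g' h' f' hgz hhz hfz ez hg' hh' hf' e
    set k := t * hy * t with hk
    have hzt : t * (fx * gy) = gz * hz * t * fz * t := by
      rw [← ez]; simp [mul_assoc, hS.mul_self]
    have e2 : t * (x * y) * t =
        (gx * (hx * gz * hx⁻¹)) * (hx * hz * hy) * t * (k⁻¹ * fz * k * fy) := by
      rw [eprod, hzt, hk]; simp [mul_assoc, ti, htt]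
    obtain ⟨-, h2, h3⟩ := Cfsg.Lib.Linear.RankOne.canon_unique hS hg'
      (Q.mul_mem hgx (hS.conj_mem hx hhx.1 gz hgz)) hh' (mul_mem (mul_mem hhx hhz) hhy) hf'
      (Q.mul_mem (by simpa using hS.conj_mem k⁻¹ (inv_mem (hD hhy)).1 fz hfz) hfy)
      (e.symm.trans e2)
    exact ⟨h3, h2⟩

end Cfsg.Agent.S1166
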