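import Cfsg.Statements.S1167
import Mathlib
import Cfsg.Agent.Lib.Perm.ZasAbelian.Main
import Cfsg.Agent.S0885
-- import your own Cfsg.Agent.* helpers here

set_option autoImplicit false
open Cfsg

namespace Cfsg.Agent.S1167

open Cfsg

variable {G Ω : Type*} [Group G] [Finite G] [MulAction G Ω] [Fintype Ω]

/-- an involution of a group on an odd number of points fixes a point -/
theorem invol_fix_parity (hodd : Odd (Fintype.card Ω)) {g : G} (hg : g * g = 1) :
    Odd (Nat.card {c : Ω // g • c = c}) := by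
  classical
  let π : Equiv.Perm Ω := MulAction.toPerm g
  have hπ : π ^ (2 ^ 1) = 1 := Equiv.ext fun x => by
    show π (π x) = x
    simp only [π, MulAction.toPerm_apply, ← mul_smul, hg, one_smul]
  haveI : Fact (Nat.Prime 2) := ⟨Nat.prime_two⟩
  have hm := Equiv.Perm.card_compl_support_modEq (p := 2) (n := 1) (σ := π) hπ
  have e : Nat.card {c : Ω // g • c = c} = π.supportᶜ.card := by
    rw [← Nat.card_eq_finsetCard]
    exact Nat.card_congr (Equiv.subtypeEquivRight fun c => by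
      simp [π, Equiv.Perm.notMem_support])
  rw [e, Nat.odd_iff]
  rw [Nat.odd_iff] at hodd
  unfold Nat.ModEq at hm
  omega

theorem main (hZ : Cfsg.IsZassenhausGroup G Ω) {a : Ω}
    (U : Subgroup G) (hUle : U ≤ MulAction.stabilizer G a)
    (hreg : ∀ c d : Ω, c ≠ a → d ≠ a → ∃! u : U, (u : G) • c = d)
    (hU2 : IsPGroup 2 U) (hUab : ∀ u ∈ U, ∀ u' ∈ U, u * u' = u' * u)
    (v : G) (hv1 : v ≠ 1) (hv2 : v * v = 1) (hva : v • a ≠ a) :
    ∃! u₀ : G, u₀ ∈ U ∧ u₀ ≠ 1 ∧ v * u₀ * v = u₀ * v * u₀ := by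
  classical
  haveI : Fact (Nat.Prime 2) := ⟨Nat.prime_two⟩
  obtain ⟨b, hb⟩ : ∃ b, b = v • a := ⟨_, rfl⟩
  rw [← hb] at hva
  have hvb : v • b = a := by rw [hb, ← mul_smul, hv2, one_smul]
  obtain ⟨hcard, hfix⟩ := Cfsg.Lib.Perm.ZasAbelian.kernel_of_regular U hUle hreg (Ne.symm hva)
  have hthree := hZ.2.2.1
  -- the degree is odd
  have hn : Nat.card U ≠ 1 := by
    intro h1
    obtain ⟨g, hg1, p, q, hpq, hgp, hgq⟩ := hZ.2.2.2.1
    haveI := hZ.1
    refine hg1 (FaithfulSMul.eq_of_smul_eq_smul fun x : Ω => ?_)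
    rw [one_smul]
    by_contra hx
    have h2 : 2 < Fintype.card Ω := by
      have : ({p, q, x} : Finset Ω).card = 3 := Finset.card_eq_three.2
        ⟨p, q, x, hpq, fun e => hx (e ▸ hgp), fun e => hx (e ▸ hgq), rfl⟩
      have h3 := Finset.card_le_univ ({p, q, x} : Finset Ω)
      omega
    omega
  have hodd : Odd (Fintype.card Ω) := by
    obtain ⟨k, hk⟩ := IsPGroup.iff_card.1 hU2
    rw [← hcard, hk]
    have hk0 : k ≠ 0 := fun e => hn (by rw [hk, e, pow_zero])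
    exact (Nat.even_pow.2 ⟨even_two, hk0⟩).add_one
  -- the two-point stabilizer has odd order
  have hDodd : Odd (Nat.card ↥(MulAction.stabilizer G a ⊓ MulAction.stabilizer G b)) := by
    rw [← Nat.not_even_iff_odd]
    intro he
    obtain ⟨⟨d, hd⟩, hd2⟩ := exists_prime_orderOf_dvd_card' 2 he.two_dvd
    rw [Subgroup.orderOf_mk] at hd2
    have hdd : d * d = 1 := by rw [← pow_two, ← hd2, pow_orderOf_eq_one]
    have hd1 : d ≠ 1 := fun e => by rw [e, orderOf_one] at hd2; omega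
    obtain ⟨k, hk⟩ := invol_fix_parity hodd hdd
    have hle : Nat.card {c : Ω // d • c = c} ≤ 2 := by
      by_contra hlt
      rw [Nat.card_eq_fintype_card] at hlt
      obtain ⟨⟨p, hp⟩, ⟨q, hq⟩, ⟨r, hr⟩, h1, h2, h3⟩ := Fintype.two_lt_card_iff.1 (not_le.1 hlt)
      exact hd1 (hthree d p q r (fun e => h1 (Subtype.ext e)) (fun e => h3 (Subtype.ext e))
        (fun e => h2 (Subtype.ext e)) hp hq hr)
    have h2 : 1 < Nat.card {c : Ω // d • c = c} := by
      refine Finite.one_lt_card_iff_nontrivial.2 ⟨⟨a, hd.1⟩, ⟨b, hd.2⟩, ?_⟩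
      exact fun e => hva (congrArg Subtype.val e).symm
    omega
  -- the two-point stabilizer is transitive on the other points
  have hle : Fintype.card Ω - 2 ≤
      2 * Nat.card ↥(MulAction.stabilizer G a ⊓ MulAction.stabilizer G b) := by
    rcases Cfsg.Agent.S0885.result hZ (Ne.symm hva) (Nat.card U) _ hcard.symm rfl hDodd U hUle hcard
      hfix with h | ⟨-, ⟨x, y, hxy⟩, -⟩
    · omega
    · exact absurd (Subtype.ext (hUab x x.2 y y.2)) hxy
  have htr : ∀ c d : Ω, c ≠ a → c ≠ b → d ≠ a → d ≠ b →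
      ∃ g : G, g • a = a ∧ g • b = b ∧ g • c = d := by
    rcases Cfsg.Lib.Perm.ZasAbelian.two_orbits hZ (Ne.symm hva) hle with h | h
    · exfalso
      obtain ⟨k, hk⟩ := hodd
      have := Nat.card_pos (α := U)
      omega
    · exact h
  -- `U` has exponent two
  have hsq : ∀ u ∈ U, u * u = 1 := by
    intro u hu
    by_cases hu1 : u = 1
    · rw [hu1, one_mul]
    have h2 : 2 ∣ Nat.card U := by
      obtain ⟨k, hk⟩ := IsPGroup.iff_card.1 hU2
      have hk0 : k ≠ 0 := fun e => hn (by rw [hk, e, pow_zero])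
      rw [hk]; exact dvd_pow_self 2 hk0
    obtain ⟨⟨t, ht⟩, ht2⟩ := exists_prime_orderOf_dvd_card' 2 h2
    rw [Subgroup.orderOf_mk] at ht2
    have htt : t * t = 1 := by rw [← pow_two, ← ht2, pow_orderOf_eq_one]
    have ht1 : t ≠ 1 := fun e => by rw [e, orderOf_one] at ht2; omega
    have hmove : ∀ w ∈ U, w ≠ 1 → w • b ≠ a ∧ w • b ≠ b := fun w hw hw1 =>
      ⟨fun e => hva (MulAction.injective w (e.trans (hUle hw : w • a = a).symm)),
        fun e => hva (hfix w hw hw1 b e)⟩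
    obtain ⟨g, hga, hgb, hgc⟩ := htr (t • b) (u • b) (hmove t ht ht1).1 (hmove t ht ht1).2
      (hmove u hu hu1).1 (hmove u hu hu1).2
    -- `g t g⁻¹` lies in `U`
    obtain ⟨-, hN⟩ := Cfsg.Agent.S0878.result hZ a U hUle hcard hfix
    have hmem : g * t * g⁻¹ ∈ U := ((Subgroup.mem_normalizer_iff.1
      (hN.symm ▸ (hga : g ∈ MulAction.stabilizer G a) : g ∈ Subgroup.normalizer (U : Set G))) t).1 ht
    obtain ⟨w, -, hw⟩ := hreg b (u • b) hva (hmove u hu hu1).1
    have e1 := hw ⟨u, hu⟩ rfl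
    have e2 := hw ⟨g * t * g⁻¹, hmem⟩ (by
      show (g * t * g⁻¹) • b = u • b
      rw [mul_smul, mul_smul, show g⁻¹ • b = b by rw [inv_smul_eq_iff, hgb], hgc])
    have e : u = g * t * g⁻¹ := congrArg Subtype.val (e1.trans e2.symm)
    rw [e, show g * t * g⁻¹ * (g * t * g⁻¹) = g * (t * t) * g⁻¹ by group, htt, mul_one,
      mul_inv_cancel]
  -- the fixed point of `v`
  obtain ⟨c, hc, hcuniq⟩ : ∃ c, v • c = c ∧ ∀ d, v • d = d → d = c := by
    obtain ⟨k, hk⟩ := invol_fix_parity (Ω := Ω) hodd hv2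
    obtain ⟨⟨c, hc⟩⟩ : Nonempty {c : Ω // v • c = c} := Finite.card_pos_iff.1 (by omega)
    refine ⟨c, hc, fun d hd => ?_⟩
    by_contra hne
    have hle : Nat.card {c : Ω // v • c = c} ≤ 2 := by
      by_contra hlt
      rw [Nat.card_eq_fintype_card] at hlt
      obtain ⟨⟨p, hp⟩, ⟨q, hq⟩, ⟨r, hr⟩, h1, h2, h3⟩ := Fintype.two_lt_card_iff.1 (not_le.1 hlt)
      exact hv1 (hthree v p q r (fun e => h1 (Subtype.ext e)) (fun e => h3 (Subtype.ext e))
        (fun e => h2 (Subtype.ext e)) hp hq hr)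
    have h2 : 1 < Nat.card {c : Ω // v • c = c} :=
      Finite.one_lt_card_iff_nontrivial.2 ⟨⟨d, hd⟩, ⟨c, hc⟩, fun e => hne (congrArg Subtype.val e)⟩
    omega
  have hca : c ≠ a := fun e => hva (by rw [hb, ← e, hc])
  have hcb : c ≠ b := fun e => hva (by
    have h := hc
    rw [e, hvb] at h
    exact h.symm)
  obtain ⟨⟨u₀, hu₀⟩, hu₀b, huniq⟩ := hreg b c hva hca
  dsimp only at hu₀b
  have hu₀a : u₀ • a = a := hUle hu₀
  have hu₀c : u₀ • c = b := by rw [← hu₀b, ← mul_smul, hsq u₀ hu₀, one_smul]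
  have hu₀1 : u₀ ≠ 1 := fun e => hcb (by rw [← hu₀b, e, one_smul])
  refine ⟨u₀, ⟨hu₀, hu₀1, ?_⟩, ?_⟩
  · -- both sides fix `b` and swap `a` and `c`
    have h1 : ∀ x : Ω, x = a ∨ x = b ∨ x = c → (v * u₀ * v) • x = (u₀ * v * u₀) • x := by
      intro x hx
      rcases hx with rfl | rfl | rfl
      · simp only [mul_smul, ← hb, hu₀b, hc, hu₀a]
      · simp only [mul_smul, hvb, hu₀a, ← hb, hu₀b, hc, hu₀c]
      · simp only [mul_smul, hc, hu₀c, hvb, hu₀a]
    have h2 : ∀ x : Ω, x = a ∨ x = b ∨ x = c →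
        ((u₀ * v * u₀)⁻¹ * (v * u₀ * v)) • x = x := fun x hx => by
      rw [mul_smul, h1 x hx, inv_smul_smul]
    exact (inv_mul_eq_one.1 (hthree _ a b c (Ne.symm hva) (Ne.symm hcb) (Ne.symm hca)
      (h2 a (Or.inl rfl)) (h2 b (Or.inr (Or.inl rfl))) (h2 c (Or.inr (Or.inr rfl))))).symm
  · rintro u ⟨hu, -, he⟩
    have hua : u • a = a := hUle hu
    have h : v • (u • b) = u • b := by
      have := congrArg (fun g : G => g • a) he
      simp only [mul_smul, ← hb, hua] at this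
      exact this
    exact congrArg Subtype.val (huniq ⟨u, hu⟩ (hcuniq _ h))

/-- Let `G` be a finite simple Zassenhaus group on `Ω`, `U` a normal subgroup of `G_a` regular on `Ω` minus `a` which is an abelian 2-group, and `v` an involution with `v • a ≠ a`. Then there is a unique `u₀ ∈ U`, `u₀ ≠ 1`, with `v u₀ v = u₀ v u₀`. -/
theorem result {G Ω : Type*} [Group G] [Finite G] [MulAction G Ω] [Finite Ω]
    (hZ : Cfsg.IsZassenhausGroup G Ω) [IsSimpleGroup G] {a : Ω}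
    (U : Subgroup G) (hUle : U ≤ MulAction.stabilizer G a)
    (hUn : ∀ h ∈ MulAction.stabilizer G a, ∀ u ∈ U, h * u * h⁻¹ ∈ U)
    (hreg : ∀ c d : Ω, c ≠ a → d ≠ a → ∃! u : U, (u : G) • c = d)
    (hU2 : IsPGroup 2 U) (hUab : ∀ u ∈ U, ∀ u' ∈ U, u * u' = u' * u)
    (v : G) (hv1 : v ≠ 1) (hv2 : v * v = 1) (hva : v • a ≠ a) :
    ∃! u₀ : G, u₀ ∈ U ∧ u₀ ≠ 1 ∧ v * u₀ * v = u₀ * v * u₀ := by
  haveI := Fintype.ofFinite Ω
  exact main hZ U hUle hreg hU2 hUab v hv1 hv2 hva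

end Cfsg.Agent.S1167
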