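import Cfsg.Statements.S1168
import Cfsg.Agent.S1140

set_option autoImplicit false
open Cfsg

namespace Cfsg.Agent.S1168

/-- For a finite field `F` of characteristic 2: if `q : F → F` is quadratic over the prime field, i.e. `(x, y) ↦ q (x + y) + q x + q y` is additive in each variable, then `q x = Σ c_{σ,τ} σ(x) τ(x)` for some coefficients indexed by pairs of field automorphisms. -/
theorem result {F : Type*} [Field F] [Fintype F] [CharP F 2]
    (q : F → F)
    (hq : ∀ x y z : F, q (x + y + z) + q (x + y) + q (x + z) + q (y + z) + q x + q y + q z = 0) :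
    ∃ (s : Finset ((F ≃+* F) × (F ≃+* F))) (c : (F ≃+* F) × (F ≃+* F) → F),
      ∀ x : F, q x = ∑ p ∈ s, c p * (p.1 x * p.2 x) := by
  classical
  letI : Algebra (ZMod 2) F := ZMod.algebra F 2
  have h0 : q 0 = 0 := by
    have h := hq 0 0 0
    simp only [add_zero] at h
    rw [show q 0 + q 0 = 0 from CharTwo.add_self_eq_zero _, zero_add] at h
    rwa [show q 0 + q 0 = 0 from CharTwo.add_self_eq_zero _, zero_add,
      show q 0 + q 0 = 0 from CharTwo.add_self_eq_zero _, zero_add] at h
  have hpol : ∀ x y z : F, q (x + y + z) + q (x + y) + q z =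
      (q (x + z) + q x + q z) + (q (y + z) + q y + q z) := fun x y z => by
    have h := hq x y z
    rw [← CharTwo.add_eq_zero]
    linear_combination h + CharTwo.add_self_eq_zero (q z)
  have h20 : (2 : F) = 0 := CharTwo.two_eq_zero
  obtain ⟨S, hS⟩ : ∃ S : QuadraticMap (ZMod 2) F F, ∀ x, S x = q x := by
    refine ⟨QuadraticMap.ofPolar q (fun a x => ?_) (fun x x' y => ?_) (fun a x y => ?_), fun x => rfl⟩
    · fin_cases a
      · show q ((0 : ZMod 2) • x) = ((0 : ZMod 2) * 0) • q x
        rw [zero_smul, h0, mul_zero, zero_smul]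
      · show q ((1 : ZMod 2) • x) = ((1 : ZMod 2) * 1) • q x
        rw [one_smul, one_mul, one_smul]
    · simp only [QuadraticMap.polar]
      linear_combination hpol x x' y + (-q (x + x') + q y + q x + q x') * h20
    · fin_cases a
      · show QuadraticMap.polar q ((0 : ZMod 2) • x) y = (0 : ZMod 2) • QuadraticMap.polar q x y
        rw [zero_smul, zero_smul, QuadraticMap.polar, zero_add, h0]; ring
      · show QuadraticMap.polar q ((1 : ZMod 2) • x) y = (1 : ZMod 2) • QuadraticMap.polar q x y
        rw [one_smul, one_smul]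
  haveI : FiniteDimensional (ZMod 2) F := Module.Finite.of_finite
  obtain ⟨β, hβ⟩ : ∃ β : LinearMap.BilinMap (ZMod 2) F F, ∀ x, β x x = q x := by
    refine ⟨S.toBilin (Module.finBasis (ZMod 2) F), fun x => ?_⟩
    rw [← LinearMap.BilinMap.toQuadraticMap_apply, QuadraticMap.toQuadraticMap_toBilin, hS]
  obtain ⟨s, c, hc⟩ := Cfsg.Agent.S1140.exists_biadd
    (AddMonoidHom.mk' (fun x => (β x).toAddMonoidHom) fun x y => by
      rw [map_add]; rfl)
  exact ⟨s, c, fun x => by rw [← hβ x]; exact hc x x⟩

end Cfsg.Agent.S1168
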