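import Cfsg.Statements.S1176
import Cfsg.Agent.Lib.Invol.Basic
-- import your own Cfsg.Agent.* helpers here

set_option autoImplicit false
open Cfsg
open scoped commutatorElement

namespace Cfsg.Agent.S1176

/-- Let x₀ be an involution of the finite group G and D its conjugacy class. Assume (a) for each x ∈ D the subgroup W(x) generated by the members of D commuting with x is a 2-group of nilpotency class at most 2, and (b) the product of two distinct commuting members of D again lies in D. Then for all x, y ∈ D, if xy has even order greater than 2, its order is 4. -/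
theorem result {G : Type*} [Group G] [Finite G] (x₀ : G) (hx₀ : orderOf x₀ = 2) (ha : ∀ x : G, IsConj x₀ x → IsPGroup 2 ↥(Subgroup.closure {y : G | IsConj x₀ y ∧ Commute y x}) ∧ ⁅⁅Subgroup.closure {y : G | IsConj x₀ y ∧ Commute y x}, Subgroup.closure {y : G | IsConj x₀ y ∧ Commute y x}⁆, Subgroup.closure {y : G | IsConj x₀ y ∧ Commute y x}⁆ = ⊥) (hb : ∀ x y : G, IsConj x₀ x → IsConj x₀ y → x ≠ y → Commute x y → IsConj x₀ (x * y)) (x y : G) (hx : IsConj x₀ x) (hy : IsConj x₀ y) (heven : Even (orderOf (x * y))) (hgt : 2 < orderOf (x * y)) : orderOf (x * y) = 4 := by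
  have hor : ∀ a : G, IsConj x₀ a → orderOf a = 2 := fun a h => by
    obtain ⟨g, rfl⟩ := isConj_iff.mp h
    rw [Cfsg.Lib.Invol.orderOf_conj_eq, hx₀]
  have hx2 := hor x hx
  have hy2 := hor y hy
  obtain ⟨hz2, hzx, hzy⟩ := Cfsg.Lib.Invol.central_involution hx2 hy2 heven
  set k := orderOf (x * y) / 2 with hk
  set z := (x * y) ^ k with hz
  have hxx := Cfsg.Lib.Invol.inv_mul_self hx2
  have hinv := Cfsg.Lib.Invol.conj_mul_left hx2 hy2
  have hxz : IsConj x₀ (x * z) := by
    rcases Nat.even_or_odd' k with ⟨j, hj | hj⟩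
    · refine hx.trans (isConj_iff.mpr ⟨(x * y) ^ (-(j : ℤ)), ?_⟩)
      rw [Cfsg.Lib.Invol.zpow_mul_of_inverts hxx hinv, ← zpow_neg, mul_assoc, ← zpow_add, hz, hj,
        ← zpow_natCast]
      congr 2
      push_cast; ring
    · refine hy.trans (isConj_iff.mpr ⟨(x * y) ^ (-(j : ℤ)), ?_⟩)
      have hy' : y = x * (x * y) ^ (1 : ℤ) := by rw [zpow_one, ← mul_assoc, hxx, one_mul]
      calc (x * y) ^ (-(j : ℤ)) * y * ((x * y) ^ (-(j : ℤ)))⁻¹
          = (x * y) ^ (-(j : ℤ)) * (x * (x * y) ^ (1 : ℤ)) * ((x * y) ^ (-(j : ℤ)))⁻¹ := by rw [← hy']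
        _ = x * (x * y) ^ (- -(j : ℤ)) * (x * y) ^ (1 : ℤ) * ((x * y) ^ (-(j : ℤ)))⁻¹ := by
            rw [← mul_assoc ((x * y) ^ (-(j : ℤ))), Cfsg.Lib.Invol.zpow_mul_of_inverts hxx hinv]
        _ = x * z := by
            rw [← zpow_neg, mul_assoc, mul_assoc, ← zpow_add, ← zpow_add, hz, hj, ← zpow_natCast]
            congr 2
            push_cast; ring
  have hxne : x ≠ x * z := fun h => Cfsg.Lib.Invol.ne_one hz2 (mul_eq_left.mp h.symm)
  have hzD : IsConj x₀ z := by
    have := hb x (x * z) hx hxz hxne ((Commute.refl x).mul_right hzx.symm)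
    rwa [← mul_assoc, hxx, one_mul] at this
  obtain ⟨hP, hcl⟩ := ha z hzD
  set W := Subgroup.closure {w : G | IsConj x₀ w ∧ Commute w z}
  have hxW : x ∈ W := Subgroup.subset_closure ⟨hx, hzx.symm⟩
  have hyW : y ∈ W := Subgroup.subset_closure ⟨hy, hzy.symm⟩
  have h2 : ⁅x, y⁆ = (x * y) ^ 2 := by
    rw [commutatorElement_def, Cfsg.Lib.Invol.inv_eq_self hx2, Cfsg.Lib.Invol.inv_eq_self hy2, pow_two,
      mul_assoc (x * y)]
  have h3 : ⁅⁅x, y⁆, x⁆ = 1 := by
    rw [← Subgroup.mem_bot, ← hcl]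
    exact Subgroup.commutator_mem_commutator (Subgroup.commutator_mem_commutator hxW hyW) hxW
  have h4 : (x * y) ^ 4 = 1 := by
    rw [commutatorElement_eq_one_iff_mul_comm, h2] at h3
    have h5 : x * (x * y) ^ 2 * x⁻¹ = ((x * y) ^ 2)⁻¹ := by
      rw [← conj_pow, hinv, inv_pow]
    rw [← h3, mul_inv_cancel_right, eq_inv_iff_mul_eq_one, ← pow_add] at h5
    exact h5
  have h6 : orderOf (x * y) ∣ 4 := orderOf_dvd_of_pow_eq_one h4
  have h7 := Nat.le_of_dvd (by norm_num) h6
  interval_cases orderOf (x * y) <;> first | rfl | simp at h6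

end Cfsg.Agent.S1176
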