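import Cfsg.Statements.S1177
import Cfsg.Agent.Lib.Invol.SylowTools
-- import your own Cfsg.Agent.* helpers here

set_option autoImplicit false
open Cfsg

namespace Cfsg.Agent.S1177

/-- Let A be a nontrivial elementary abelian 2-subgroup of a finite group G which is a T.I. set (each conjugate of A meets A trivially or equals A) and which does not commute elementwise with any conjugate of A other than A itself. Then for every a ∈ A, a ≠ 1, every conjugate of A contained in C_G(a) is equal to A (A is weakly closed in C_G(a)). -/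
theorem result {G : Type*} [Group G] [Finite G] (A : Subgroup G) (hA : Cfsg.IsElementaryAbelian 2 A) (hA1 : A ≠ ⊥) (hTI : ∀ g : G, A.map (MulAut.conj g).toMonoidHom ⊓ A = ⊥ ∨ A.map (MulAut.conj g).toMonoidHom = A) (hb : ∀ g : G, (∀ a ∈ A, ∀ b ∈ A.map (MulAut.conj g).toMonoidHom, a * b = b * a) → A.map (MulAut.conj g).toMonoidHom = A) (a : G) (ha : a ∈ A) (ha1 : a ≠ 1) (g : G) (hg : A.map (MulAut.conj g).toMonoidHom ≤ Subgroup.centralizer ({a} : Set G)) : A.map (MulAut.conj g).toMonoidHom = A := by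
  by_contra hne
  set B := A.map (MulAut.conj g).toMonoidHom with hBdef
  have hdis : B ⊓ A = ⊥ := (hTI g).resolve_right hne
  have hnormA : ∀ b ∈ B, ∀ x ∈ A, b * x * b⁻¹ ∈ A := by
    intro b hb x hx
    rcases hTI b with h | h
    · exfalso
      have : a ∈ A.map (MulAut.conj b).toMonoidHom ⊓ A :=
        ⟨⟨a, ha, by
          have := Subgroup.mem_centralizer_singleton_iff.mp (hg hb)
          simp [this, mul_assoc]⟩, ha⟩
      rw [h] at this
      exact ha1 this
    · rw [← h]; exact ⟨x, hx, rfl⟩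
  have hTIB : ∀ c : G, (∃ b ∈ B, b ≠ 1 ∧ c * b * c⁻¹ = b) → ∀ b ∈ B, c * b * c⁻¹ ∈ B := by
    rintro c ⟨b, hb, hb1, hcb⟩ b' hb'
    obtain ⟨x, hx, rfl⟩ := hb
    obtain ⟨y, hy, rfl⟩ := hb'
    simp only [MulEquiv.coe_toMonoidHom, MulAut.conj_apply] at *
    rcases hTI (g⁻¹ * c * g) with h | h
    · exfalso
      have : x ∈ A.map (MulAut.conj (g⁻¹ * c * g)).toMonoidHom ⊓ A := by
        refine ⟨⟨x, hx, ?_⟩, hx⟩
        simp only [MulEquiv.coe_toMonoidHom, MulAut.conj_apply]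
        calc g⁻¹ * c * g * x * (g⁻¹ * c * g)⁻¹ = g⁻¹ * (c * (g * x * g⁻¹) * c⁻¹) * g := by group
          _ = x := by rw [hcb]; group
      rw [h] at this
      exact hb1 (by rw [show x = 1 from this]; simp)
    · refine ⟨(g⁻¹ * c * g) * y * (g⁻¹ * c * g)⁻¹, ?_, ?_⟩
      · rw [SetLike.mem_coe]; nth_rewrite 1 [← h]; exact ⟨y, hy, rfl⟩
      · simp [mul_assoc]
  have hAc : ∀ x ∈ A, ∀ y ∈ A, x * y = y * x := fun x hx y hy =>
    congrArg Subtype.val (hA.1.is_comm.comm ⟨x, hx⟩ ⟨y, hy⟩)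
  -- the centraliser in `A` of one nontrivial element of `B` is that of `B`
  have hfix : ∀ c ∈ A, (∃ b ∈ B, b ≠ 1 ∧ c * b * c⁻¹ = b) → ∀ b ∈ B, c * b = b * c := by
    intro c hc hex b hb
    have h1 : c * b * c⁻¹ * b⁻¹ ∈ B ⊓ A := by
      refine ⟨B.mul_mem (hTIB c hex b hb) (B.inv_mem hb), ?_⟩
      rw [show c * b * c⁻¹ * b⁻¹ = c * (b * c⁻¹ * b⁻¹) by group]
      exact A.mul_mem hc (hnormA b hb _ (A.inv_mem hc))
    rw [hdis, Subgroup.mem_bot, mul_inv_eq_one, mul_inv_eq_iff_eq_mul] at h1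
    exact h1
  obtain ⟨a', ha', b₀, hb₀, hnc⟩ : ∃ a' ∈ A, ∃ b₀ ∈ B, a' * b₀ ≠ b₀ * a' := by
    by_contra hcon
    push Not at hcon
    exact hne (hb g hcon)
  let f : B → A := fun b => ⟨b * a' * (b : G)⁻¹ * a'⁻¹,
    A.mul_mem (hnormA b b.2 a' ha') (A.inv_mem ha')⟩
  have hinj : Function.Injective f := by
    intro b c hbc
    have h1 : (b : G) * a' * (b : G)⁻¹ = (c : G) * a' * (c : G)⁻¹ :=
      mul_right_cancel (congrArg Subtype.val hbc :)
    by_contra hbc'
    apply hnc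
    refine hfix a' ha' ⟨(c : G)⁻¹ * b, B.mul_mem (B.inv_mem c.2) b.2, ?_, ?_⟩ b₀ hb₀
    · intro h
      exact hbc' (Subtype.ext (inv_mul_eq_one.mp h).symm)
    · rw [mul_inv_eq_iff_eq_mul]
      calc a' * ((c : G)⁻¹ * b) = (c : G)⁻¹ * ((c : G) * a' * (c : G)⁻¹) * b := by group
        _ = (c : G)⁻¹ * b * a' := by rw [← h1]; group
  have hcard : Nat.card B = Nat.card A := Nat.card_congr
    (A.equivMapOfInjective (MulAut.conj g).toMonoidHom (MulAut.conj g).injective).toEquiv.symm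
  obtain ⟨b, hb'⟩ := (hinj.bijective_of_nat_card_le hcard.ge).2 ⟨a', ha'⟩
  have e : (b : G) * a' * (b : G)⁻¹ * a'⁻¹ = a' := congrArg Subtype.val hb'
  -- then `b` fixes `a'`, which is impossible
  have h2 : a' * a' = 1 := by rw [← pow_two]; exact hA.2 a' ha'
  rw [mul_inv_eq_iff_eq_mul, h2, mul_inv_eq_one] at e
  have hb0 : a' = 1 := by
    apply mul_left_cancel (a := (b : G))
    rw [mul_one]; exact e
  exact hnc (by rw [hb0, one_mul, mul_one])

end Cfsg.Agent.S1177
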