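import Cfsg.Statements.S1178
import Cfsg.Agent.Lib.Invol.SylowTools
-- import your own Cfsg.Agent.* helpers here

set_option autoImplicit false
open Cfsg

namespace Cfsg.Agent.S1178

/-- Let A be a subgroup of a Sylow 2-subgroup S of the finite group G which is weakly closed in S. If a conjugate g A g⁻¹ commutes elementwise with A, then g A g⁻¹ = A. -/
theorem result {G : Type*} [Group G] [Finite G] (S : Sylow 2 G) (A : Subgroup G) (hW : Cfsg.IsWeaklyClosed A (S : Subgroup G)) (g : G) (hc : ∀ a ∈ A, ∀ b ∈ A.map (MulAut.conj g).toMonoidHom, a * b = b * a) : A.map (MulAut.conj g).toMonoidHom = A := by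
  have : Fact (Nat.Prime 2) := ⟨Nat.prime_two⟩
  set B := A.map (MulAut.conj g).toMonoidHom with hB
  have hA2 : IsPGroup 2 A := S.2.to_le hW.1
  have hcomm : B ≤ Subgroup.normalizer (A : Set G) := by
    intro b hb
    rw [Subgroup.mem_normalizer_iff]
    intro x
    constructor
    · intro hx
      rw [show b * x * b⁻¹ = x from mul_inv_eq_iff_eq_mul.mpr (hc x hx b hb).symm]; exact hx
    · intro hx
      have h2 := hc _ hx b hb
      have h3 : b * x * b⁻¹ = x := by
        calc b * x * b⁻¹ = b⁻¹ * (b * (b * x * b⁻¹)) := by group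
          _ = b⁻¹ * ((b * x * b⁻¹) * b) := by rw [h2]
          _ = x := by group
      rwa [h3] at hx
  have hsup : IsPGroup 2 (A ⊔ B : Subgroup G) := by
    rw [sup_comm]
    exact IsPGroup.to_sup_of_normal_right' (hA2.map _) hA2 hcomm
  obtain ⟨h, hh⟩ := Cfsg.Lib.Invol.exists_conj_mem_sylow S hsup
  have h1 : A.map (MulAut.conj h).toMonoidHom = A := hW.2 h (by
    rintro _ ⟨x, hx, rfl⟩; exact hh x ((le_sup_left : A ≤ A ⊔ B) hx))
  have h2 : A.map (MulAut.conj (h * g)).toMonoidHom = A := hW.2 (h * g) (by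
    rintro _ ⟨x, hx, rfl⟩
    have := hh _ ((le_sup_right : B ≤ A ⊔ B) ⟨x, hx, rfl⟩)
    simpa [mul_assoc] using this)
  apply Subgroup.map_injective (f := (MulAut.conj h).toMonoidHom) (MulAut.conj h).injective
  rw [h1, hB, Subgroup.map_map]
  convert h2 using 2
  ext x; simp [mul_assoc]

end Cfsg.Agent.S1178
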