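import Cfsg.Statements.S1183
import Cfsg.Agent.Lib.Invol.Isolated
import Cfsg.Agent.Lib.Fusion.Tate
-- import your own Cfsg.Agent.* helpers here

set_option autoImplicit false
open Cfsg

namespace Cfsg.Agent.S1183

/-- Let z be an isolated involution of the finite group G and C = C_G(z). Then the subgroup of G generated by its elements of odd order is all of G if and only if the subgroup of C generated by its elements of odd order is all of C. -/
theorem result {G : Type*} [Group G] [Finite G] (z : G) (hz : Cfsg.IsIsolatedInvolution z) : Cfsg.pResidual 2 G = ⊤ ↔ Cfsg.pResidual 2 ↥(Subgroup.centralizer ({z} : Set G)) = ⊤ := by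
  have : Fact (Nat.Prime 2) := ⟨Nat.prime_two⟩
  set C := Subgroup.centralizer ({z} : Set G) with hC
  constructor
  · intro hG
    obtain ⟨P, hP⟩ := (IsPGroup.of_card (G := Subgroup.zpowers z) (p := 2) (n := 1)
      (by rw [Nat.card_zpowers, hz.1, pow_one])).exists_le_sylow
    have hzP : z ∈ (P : Subgroup G) := hP (Subgroup.mem_zpowers z)
    have hPC : (P : Subgroup G) ≤ C := by
      intro x hx
      rw [hC, Subgroup.mem_centralizer_singleton_iff]
      exact mul_inv_eq_iff_eq_mul.mp (Cfsg.Lib.Invol.isolated_eq_of_mem hz P.2 hzP x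
        ((P : Subgroup G).mul_mem ((P : Subgroup G).mul_mem hx hzP) ((P : Subgroup G).inv_mem hx)))
    have hc := Cfsg.Lib.Fusion.commutator_inf_eq_of_controls P C hPC (by
      intro x hx a ha
      obtain ⟨c, -, hcz, hcc⟩ := Cfsg.Lib.Invol.isolated_fusion hz (H := ⊤) (fun _ _ => trivial)
        (h := a) trivial (Subgroup.mem_centralizer_singleton_iff.mp (hPC hx))
        (Subgroup.mem_centralizer_singleton_iff.mp (hPC ha)) rfl
      exact ⟨c, by rw [hC, Subgroup.mem_centralizer_singleton_iff]; exact hcz.eq, hcc⟩)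
    have h1 : (P : Subgroup G) ≤ ⁅C, C⁆ := by
      have h2 := Cfsg.Lib.Fusion.pResidual_inf_le_commutator P
      rw [hG, top_inf_eq, hc] at h2
      exact h2.trans inf_le_left
    have h3 : ((P.subtype hPC : Sylow 2 C) : Subgroup C) ≤ commutator C := by
      intro x hx
      have : (x : G) ∈ (commutator C).map C.subtype := by
        rw [Subgroup.map_subtype_commutator]; exact h1 hx
      obtain ⟨y, hy, hyx⟩ := this
      rwa [← Subtype.ext (hyx : (y : G) = x)]
    have h4 := Cfsg.Lib.Fusion.sylow_sup_pResidual (P.subtype hPC : Sylow 2 C)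
    haveI hnorm : (Cfsg.pResidual 2 C).Normal := inferInstance
    have hQ : IsPGroup 2 (C ⧸ Cfsg.pResidual 2 C) := Cfsg.Lib.Fusion.isPGroup_quotient_pResidual
    by_contra hne
    have : Nontrivial (C ⧸ Cfsg.pResidual 2 C) := QuotientGroup.nontrivial_iff.mpr hne
    have : Group.IsNilpotent (C ⧸ Cfsg.pResidual 2 C) := hQ.isNilpotent
    have hlt := IsSolvable.commutator_lt_top_of_nontrivial (G := C ⧸ Cfsg.pResidual 2 C)
    apply hlt.ne
    rw [eq_top_iff]
    have e : (commutator C).map (QuotientGroup.mk' (Cfsg.pResidual 2 C)) ≤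
        commutator (C ⧸ Cfsg.pResidual 2 C) := by
      rw [commutator_def, commutator_def, Subgroup.map_commutator]
      exact Subgroup.commutator_mono le_top le_top
    refine le_trans ?_ e
    rw [← Subgroup.map_top_of_surjective (QuotientGroup.mk' (Cfsg.pResidual 2 C))
      (QuotientGroup.mk'_surjective _), ← h4, Subgroup.map_sup, QuotientGroup.map_mk'_self,
      sup_bot_eq]
    exact Subgroup.map_mono h3
  · intro hCtop
    rw [eq_top_iff]
    intro a _
    obtain ⟨k, ⟨⟨hk, -⟩, hkC⟩, -⟩ := Cfsg.Lib.Invol.isolated_coset_unique hz a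
    have h1 : a⁻¹ * k ∈ Cfsg.pResidual 2 G := by
      have h2 := Cfsg.Lib.Fusion.map_subtype_pResidual_le (p := 2) C
      rw [hCtop] at h2
      exact h2 ⟨⟨_, hkC⟩, trivial, rfl⟩
    have h3 : k ∈ Cfsg.pResidual 2 G :=
      Cfsg.Lib.Fusion.mem_pResidual_of_coprime (Nat.coprime_two_right.mpr hk)
    have := (Cfsg.pResidual 2 G).mul_mem h3 ((Cfsg.pResidual 2 G).inv_mem h1)
    rwa [mul_inv_rev, inv_inv, mul_inv_cancel_left] at this

end Cfsg.Agent.S1183
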