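import Cfsg.Statements.S1184
import Cfsg.Agent.Lib.Invol.Isolated
-- import your own Cfsg.Agent.* helpers here

set_option autoImplicit false
open Cfsg

namespace Cfsg.Agent.S1184

/-- Let z be an isolated involution of the finite group G. If s and t are distinct conjugates of z, then st does not commute with z. -/
theorem result {G : Type*} [Group G] [Finite G] (z : G) (hz : Cfsg.IsIsolatedInvolution z) (g h : G) (hne : g * z * g⁻¹ ≠ h * z * h⁻¹) : ¬ Commute (g * z * g⁻¹ * (h * z * h⁻¹)) z := by
  intro hc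
  set s := g * z * g⁻¹ with hs_def
  set t := h * z * h⁻¹ with ht_def
  have hs : orderOf s = 2 := by rw [hs_def, Cfsg.Lib.Invol.orderOf_conj_eq, hz.1]
  have ht : orderOf t = 2 := by rw [ht_def, Cfsg.Lib.Invol.orderOf_conj_eq, hz.1]
  set r := s * t with hr
  have hodd : Odd (orderOf r) := by
    have h1 := Cfsg.Lib.Invol.isolated_odd_product (Cfsg.Lib.Invol.isolated_conj hz g) (h * g⁻¹)
    have h2 : h * g⁻¹ * (g * z * g⁻¹) * (h * g⁻¹)⁻¹ = t := by rw [ht_def]; group
    rwa [h2] at h1
  -- the odd element `[z, s]` centralises `r`, hence so does `z * s`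
  have hzs : Odd (orderOf (z * s)) := Cfsg.Lib.Invol.isolated_odd_product hz g
  have hinv : s * r * s⁻¹ = r⁻¹ := Cfsg.Lib.Invol.conj_mul_left hs ht
  have hsr : s * r = r⁻¹ * s := by rw [← hinv]; group
  have hszs : Commute (z * (s * z * s)) r := by
    apply Commute.mul_left hc.symm
    show s * z * s * r = r * (s * z * s)
    calc s * z * s * r = s * (z * r⁻¹) * s := by rw [mul_assoc, hsr]; group
      _ = s * r⁻¹ * (z * s) := by rw [(Commute.inv_left hc).symm.eq]; group
      _ = r * (s * z * s) := by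
          have h3 : s * r⁻¹ = r * s := by
            rw [show s * r⁻¹ = (s * r * s⁻¹)⁻¹ * s by group, hinv, inv_inv]
          rw [h3]; group
  obtain ⟨j, hj⟩ := hzs
  have hzsr : Commute (z * s) r := by
    have h3 : (z * (s * z * s)) ^ (j + 1) = z * s := by
      rw [show z * (s * z * s) = (z * s) ^ 2 by rw [pow_two]; group, ← pow_mul,
        show 2 * (j + 1) = 2 * j + 1 + 1 by omega, ← hj, pow_succ, pow_orderOf_eq_one, one_mul]
    rw [← h3]; exact hszs.pow_left _
  have hsr' : Commute s r := by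
    have h4 := Commute.mul_left hc.symm hzsr
    rwa [← mul_assoc, Cfsg.Lib.Invol.inv_mul_self hz.1, one_mul] at h4
  rw [Cfsg.Lib.Invol.commute_iff_conj_eq.mp hsr'] at hinv
  have h5 : orderOf r ∣ 2 := orderOf_dvd_of_pow_eq_one (by rw [pow_two]; nth_rewrite 1 [hinv]; rw [inv_mul_cancel])
  have h6 : r = 1 := orderOf_eq_one_iff.mp
    (Nat.eq_one_of_dvd_coprimes (Nat.coprime_two_left.mpr hodd) h5 dvd_rfl)
  apply hne
  have := eq_inv_of_mul_eq_one_left h6
  rwa [Cfsg.Lib.Invol.inv_eq_self ht] at this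

end Cfsg.Agent.S1184
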