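import Cfsg.Statements.S1192
import Cfsg.Agent.Lib.TwoGroup.QuasiDihedral
-- import your own Cfsg.Agent.* helpers here

set_option autoImplicit false
open Cfsg

namespace Cfsg.Agent.S1192

/-- A quasi-dihedral group S of order 2^(n+1) has exactly three maximal subgroups; one is cyclic, one is isomorphic to the generalized quaternion group of order 2^n and one to the dihedral group of order 2^n. -/
theorem result {S : Type*} [Group S] [Finite S] (hS : Cfsg.IsQuasiDihedral S) (n : ℕ) (hn : Nat.card S = 2 ^ (n + 1)) : ∃ M₁ M₂ M₃ : Subgroup S, IsCoatom M₁ ∧ IsCoatom M₂ ∧ IsCoatom M₃ ∧ M₁ ≠ M₂ ∧ M₁ ≠ M₃ ∧ M₂ ≠ M₃ ∧ (∀ M : Subgroup S, IsCoatom M → M = M₁ ∨ M = M₂ ∨ M = M₃) ∧ IsCyclic M₁ ∧ Nonempty (M₂ ≃* QuaternionGroup (2 ^ (n - 2))) ∧ Nonempty (M₃ ≃* DihedralGroup (2 ^ (n - 1))) := by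
  obtain ⟨d⟩ := Cfsg.Lib.TwoGroup.sd_of_card hS hn
  refine ⟨Subgroup.zpowers d.x, d.M₂, d.M₃, Cfsg.Lib.TwoGroup.SD.isCoatom_of_index d.index_x,
    Cfsg.Lib.TwoGroup.SD.isCoatom_of_index d.index_M₂,
    Cfsg.Lib.TwoGroup.SD.isCoatom_of_index d.index_M₃,
    fun e => d.x_notMem_M₂ (e ▸ Subgroup.mem_zpowers _),
    fun e => d.x_notMem_M₃ (e ▸ Subgroup.mem_zpowers _), d.M₂_ne_M₃,
    fun M hM => d.coatom_cases hM, inferInstance, d.M₂_equiv, d.M₃_equiv⟩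

end Cfsg.Agent.S1192
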