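import Cfsg.Statements.S1196
import Cfsg.Agent.Lib.TwoGroup.Wreathed
-- import your own Cfsg.Agent.* helpers here

set_option autoImplicit false
open Cfsg

namespace Cfsg.Agent.S1196

/-- A wreathed 2-group S of order 2^(2n+1) has a unique commutative subgroup of order 2^(2n), and this subgroup is isomorphic to the direct product of two cyclic groups of order 2^n. -/
theorem result {S : Type*} [Group S] [Finite S] (hS : Cfsg.IsWreathed S) (n : ℕ) (hn : Nat.card S = 2 ^ (2 * n + 1)) : (∃! U : Subgroup S, IsMulCommutative U ∧ Nat.card U = 2 ^ (2 * n)) ∧ ∀ U : Subgroup S, IsMulCommutative U → Nat.card U = 2 ^ (2 * n) → Nonempty (U ≃* Multiplicative (ZMod (2 ^ n) × ZMod (2 ^ n))) := by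
  obtain ⟨d⟩ := Cfsg.Lib.TwoGroup.w_of_card hS hn
  exact ⟨⟨d.A, ⟨d.A_comm, d.card_A⟩, fun U hU => d.abelian_unique hU.1 hU.2⟩,
    fun U h1 h2 => by rw [d.abelian_unique h1 h2]; exact d.A_equiv⟩

end Cfsg.Agent.S1196
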