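import Cfsg.Statements.S1199
import Cfsg.Agent.Lib.TwoGroup.Wreathed
-- import your own Cfsg.Agent.* helpers here

set_option autoImplicit false
open Cfsg

namespace Cfsg.Agent.S1199

/-- A wreathed 2-group S of order 2^(2n+1) has exactly one subgroup of order 2^(n+1) isomorphic to a generalized quaternion group, and that subgroup is normal in S. -/
theorem result {S : Type*} [Group S] [Finite S] (hS : Cfsg.IsWreathed S) (n : ℕ) (hn : Nat.card S = 2 ^ (2 * n + 1)) : (∃! Y : Subgroup S, Nat.card Y = 2 ^ (n + 1) ∧ Nonempty (Y ≃* QuaternionGroup (2 ^ (n - 1)))) ∧ ∀ Y : Subgroup S, Nat.card Y = 2 ^ (n + 1) → Nonempty (Y ≃* QuaternionGroup (2 ^ (n - 1))) → Y.Normal := by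
  obtain ⟨d⟩ := Cfsg.Lib.TwoGroup.w_of_card hS hn
  exact ⟨⟨d.Y, ⟨d.card_Y, d.Y_equiv⟩, fun Y' hY' => d.Y_unique hY'.1 hY'.2⟩,
    fun Y' h1 h2 => by rw [d.Y_unique h1 h2]; exact d.Y_normal⟩

end Cfsg.Agent.S1199
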