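import Cfsg.Statements.S1202
import Cfsg.Agent.Lib.TwoGroup.WreathedAut
-- import your own Cfsg.Agent.* helpers here

set_option autoImplicit false
open Cfsg

namespace Cfsg.Agent.S1202

/-- Let S be a wreathed 2-group of order 2^(2n+1) and X a subgroup with C_S(X) ≤ X such that Aut(X) is not a 2-group. Then |N_S(X) : X| = 2, and either X is the commutative subgroup of order 2^(2n), or X = Q·Z(S) for some subgroup Q ≅ Q₈; in the latter case any two such subgroups are conjugate in S. -/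
theorem result {S : Type*} [Group S] [Finite S] (hS : Cfsg.IsWreathed S) (n : ℕ) (hn : Nat.card S = 2 ^ (2 * n + 1)) (X : Subgroup S) (hC : Subgroup.centralizer (X : Set S) ≤ X) (hA : ¬ IsPGroup 2 (MulAut X)) : X.relIndex (Subgroup.normalizer (X : Set S)) = 2 ∧ ((IsMulCommutative X ∧ Nat.card X = 2 ^ (2 * n)) ∨ ∃ Q : Subgroup S, Nonempty (Q ≃* QuaternionGroup 2) ∧ X = Q ⊔ Subgroup.center S) ∧ ∀ X' : Subgroup S, Subgroup.centralizer (X' : Set S) ≤ X' → ¬ IsPGroup 2 (MulAut X') → ¬ IsMulCommutative X → ¬ IsMulCommutative X' → ∃ s : S, X.map (MulAut.conj s).toMonoidHom = X' := by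
  obtain ⟨d⟩ := Cfsg.Lib.TwoGroup.w_of_card hS hn
  rcases d.aut_cases hC hA with rfl | ⟨hnc, c, hc⟩
  · refine ⟨?_, Or.inl ⟨d.A_comm, d.card_A⟩, fun X' _ _ h _ => absurd d.A_comm h⟩
    haveI := Subgroup.normal_of_index_eq_two d.index_A
    rw [Subgroup.normalizer_eq_top, Subgroup.relIndex_top_right, d.index_A]
  · refine ⟨hc.relIndex d, Or.inr (hc.quaternion d), fun X' hC' hA' _ hnc' => ?_⟩
    rcases d.aut_cases hC' hA' with rfl | ⟨_, c', hc'⟩
    · exact absurd d.A_comm hnc'
    · exact hc.conj d hc'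

end Cfsg.Agent.S1202
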