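import Cfsg.Statements.S1209
import Cfsg.Agent.Lib.TwoGroup.WreathedSetup
-- import your own Cfsg.Agent.* helpers here

set_option autoImplicit false
open Cfsg

namespace Cfsg.Agent.S1209
open Subgroup
open Cfsg.Lib.TwoGroup
open Cfsg.Lib.TwoGroup.WreathedFusion

/-- Let G be a finite group whose Sylow 2-subgroup S is wreathed of order 2^(2n+1), U the commutative subgroup of index 2 in S, Q a quaternion subgroup of order 8 of S and V = Q Z(S). If |N_G(U) : C_G(U)| = 6 and |N_G(V) : V C_G(V)| = 6, then G has no subgroup of index 2 and exactly one conjugacy class of involutions. -/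
theorem result {G : Type*} [Group G] [Finite G] (S : Sylow 2 G) (hS : Cfsg.IsWreathed (S : Subgroup G)) (n : ℕ) (hn : Nat.card S = 2 ^ (2 * n + 1)) (U : Subgroup G) (hUS : U ≤ S) (hUab : IsMulCommutative U) (hUcard : Nat.card U = 2 ^ (2 * n)) (Q : Subgroup G) (hQS : Q ≤ S) (eQ : Q ≃* QuaternionGroup 2) (h₁ : (Subgroup.centralizer (U : Set G)).relIndex (Subgroup.normalizer (U : Set G)) = 6) (h₂ : ((Q ⊔ ((Subgroup.center (S : Subgroup G)).map (S : Subgroup G).subtype)) ⊔ Subgroup.centralizer ((Q ⊔ ((Subgroup.center (S : Subgroup G)).map (S : Subgroup G).subtype) : Subgroup G) : Set G)).relIndex (Subgroup.normalizer ((Q ⊔ ((Subgroup.center (S : Subgroup G)).map (S : Subgroup G).subtype) : Subgroup G) : Set G)) = 6) : (∀ H : Subgroup G, H.index ≠ 2) ∧ Nat.card {C : ConjClasses G // ∃ t : G, orderOf t = 2 ∧ ConjClasses.mk t = C} = 1 := by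
  classical
  haveI : Fact (Nat.Prime 2) := ⟨Nat.prime_two⟩
  obtain ⟨d⟩ := Cfsg.Lib.TwoGroup.w_of_card hS hn
  obtain rfl := eq_AG S d hUS hUab hUcard
  obtain ⟨c, X, hX, hV⟩ := exists_X S d hQS eQ
  rw [hV] at h₂
  have hwo : orderOf ((d.e (W.H n) (W.H n) : ↥(S : Subgroup G)) : G) = 2 :=
    (Subgroup.orderOf_coe _).trans d.orderOf_HH
  have huo : orderOf ((d.e (W.H n) 0 : ↥(S : Subgroup G)) : G) = 2 :=
    (Subgroup.orderOf_coe _).trans d.orderOf_H0
  have hzo : orderOf (d.z : G) = 2 := (Subgroup.orderOf_coe _).trans d.hz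
  have huw := u_isConj_w S d h₁
  have huz := u_isConj_z S d hX h₂
  refine ⟨fun H hH => ?_, QDFusion.count_one _ huo fun t ht => ?_⟩
  · haveI := Subgroup.normal_of_index_eq_two hH
    have hodd : ∀ g : G, Odd (orderOf g) → g ∈ (⊤ : Subgroup G) := fun g _ => mem_top g
    have hH' : (H.comap (⊤ : Subgroup G).subtype).index = 2 := by
      rw [Subgroup.index_comap, Subgroup.range_subtype, Subgroup.relIndex_top_right, hH]
    have hA := AG_le_of_index_two S d h₁ le_top hodd hH'
    have hAH : AG S d ≤ H := hA.trans (Subgroup.map_comap_le _ _)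
    have hzH : (d.z : G) ∈ H := by
      obtain ⟨g, hg⟩ := isConj_iff.mp huz
      rw [← hg]
      exact ‹H.Normal›.conj_mem _ (hAH (TG_le_AG S d (u_mem_TG S d))) g
    have hSH : (S : Subgroup G) ≤ H := by
      intro s hs
      obtain ⟨a, b, hab | hab⟩ := d.normal_form ⟨s, hs⟩
      · exact hAH ((mem_AG S d).mpr ⟨a, b, congrArg Subtype.val hab.symm⟩)
      · have : s = ((d.e a b : ↥(S : Subgroup G)) : G) * (d.z : G) := congrArg Subtype.val hab
        rw [this]
        exact mul_mem (hAH ((mem_AG S d).mpr ⟨a, b, rfl⟩)) hzH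
    have h1 := Subgroup.index_dvd_of_le hSH
    rw [hH] at h1
    exact S.not_dvd_index h1
  · rcases involution_classes S d t ht with h | h | h
    exacts [h.trans huw.symm, h, h.trans huz.symm]

end Cfsg.Agent.S1209
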