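import Cfsg.Statements.S1214
import Cfsg.Agent.S1213
import Cfsg.Agent.Lib.ZStar.Basic
import Cfsg.Agent.Lib.Core.PSolvable
import Cfsg.Agent.Lib.PGroup.Basic
-- import your own Cfsg.Agent.* helpers here

set_option autoImplicit false
open Cfsg

namespace Cfsg.Agent.S1214


open Subgroup
open scoped Pointwise
open Cfsg.Lib.TwoGroup

theorem no_index_two_image {G H : Type*} [Group G] [Group H] (f : G →* H) (hf : Function.Surjective f)
    (hG : ∀ K : Subgroup G, K.index ≠ 2) (K : Subgroup H) : K.index ≠ 2 := fun h =>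
  hG (K.comap f) (by rw [K.index_comap_of_surjective hf, h])

/-- What is needed of the Sylow subgroup. -/
theorem sylow_data {G : Type*} [Group G] [Finite G] (S : Sylow 2 G)
    (hS : Cfsg.IsQuasiDihedral (S : Subgroup G) ∨ Cfsg.IsWreathed (S : Subgroup G))
    (hG : ∀ H : Subgroup G, H.index ≠ 2) :
    ¬ IsMulCommutative ↥(S : Subgroup G) ∧
    ∃ z₀ : ↥(S : Subgroup G), orderOf z₀ = 2 ∧
      (∀ c ∈ center ↥(S : Subgroup G), orderOf c = 2 → c = z₀) ∧
      (∀ t : G, orderOf t = 2 → IsConj t (z₀ : G)) ∧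
      ∀ N : Subgroup G, N.Normal → (∀ t : G, orderOf t = 2 → t ∈ N) →
        ∃ x : ↥(S : Subgroup G), ∀ s : ↥(S : Subgroup G), ∃ k : ℤ, ((x ^ k)⁻¹ * s : ↥(S : Subgroup G)).1 ∈ N := by
  haveI : Fact (Nat.Prime 2) := ⟨Nat.prime_two⟩
  rcases hS with hS | hS
  · obtain ⟨n, ⟨d⟩⟩ := exists_sd hS
    have hnc : ¬ IsMulCommutative ↥(S : Subgroup G) := fun h => by
      have h1 := h.is_comm.comm d.x (d.x ^ (0 : ℤ) * d.y)
      have h2 : Commute (d.x ^ (1 : ℤ)) (d.x ^ (0 : ℤ) * d.y) := by rw [zpow_one]; exact h1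
      have := Int.le_of_dvd one_pos (d.commute_y_iff.mp h2)
      linarith [d.P_pos]
    obtain ⟨T, hT, -, -, hTle⟩ := Cfsg.Agent.S1255.exists_four (u := (d.y : G)) (z := (d.z : G))
      (congrArg Subtype.val d.yy) (congrArg Subtype.val (Cfsg.Lib.Invol.inv_mul_self d.orderOf_z))
      (fun e => Cfsg.Lib.Invol.ne_one d.hy (Subtype.ext e)) (fun e => d.z_ne_one (Subtype.ext e))
      (fun e => d.ne_mul_y (2 * SD.P n) 0 (by rw [zpow_zero, one_mul]; exact Subtype.ext e.symm))
      (congrArg Subtype.val (d.z_central d.y).eq)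
    have hTS : T ≤ (S : Subgroup G) := hTle _ d.y.2 d.z.2
    obtain ⟨e₀⟩ := Cfsg.Agent.S1213.sd_quat d
    let eQ := ((closure {d.x ^ SD.P n, d.x * d.y} : Subgroup ↥(S : Subgroup G)).equivMapOfInjective _
      (S : Subgroup G).subtype_injective).symm.trans e₀
    obtain ⟨h1, h2⟩ := Cfsg.Agent.S1203.result S hS T hT hTS _ (map_subtype_le _) eQ
    have h1' : (centralizer (T : Set G)).relIndex (normalizer (T : Set G)) = 6 := by
      rcases h1 with h1 | h1
      · exfalso
        rcases h2 with h2 | h2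
        · obtain ⟨H, hH⟩ := Cfsg.Agent.S1213.index_two_of_complement S (Cfsg.Agent.S1207.result S hS T hT hTS _ (map_subtype_le _) eQ h1 h2).1
            (by rw [d.card]; exact Nat.one_lt_two_pow (by omega))
          exact hG H hH
        · obtain ⟨⟨K, -, hK, -⟩, -⟩ := Cfsg.Agent.S1205.result S hS T hT hTS _ (map_subtype_le _) eQ h1 h2
          exact hG K hK
      · exact h1
    have hzy := QDFusion.isConj_z_of_six S d T hT hTS h1'
    refine ⟨hnc, d.z, d.orderOf_z, fun c hc hco => ?_, fun t ht => ?_, fun N hN hI => ⟨d.x, fun s => ?_⟩⟩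
    · rw [d.center_eq, mem_zpowers_iff] at hc
      obtain ⟨k, rfl⟩ := hc
      rcases Int.even_or_odd' k with ⟨i, rfl | rfl⟩
      · exfalso
        rw [zpow_mul, zpow_two, Cfsg.Lib.Invol.inv_mul_self d.orderOf_z, one_zpow, orderOf_one] at hco
        omega
      · rw [zpow_add, zpow_mul, zpow_two, Cfsg.Lib.Invol.inv_mul_self d.orderOf_z, one_zpow, one_mul,
          zpow_one]
    · rcases QDFusion.involution_classes S d t ht with h | h
      · exact h
      · exact h.trans hzy.symm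
    · obtain ⟨k, rfl | rfl⟩ := d.normal_form s
      · exact ⟨k, by simp⟩
      · refine ⟨k, ?_⟩
        rw [inv_mul_cancel_left]
        exact hI _ ((Subgroup.orderOf_coe _).trans d.hy)
  · obtain ⟨n, ⟨d⟩⟩ := exists_w hS
    have hnc : ¬ IsMulCommutative ↥(S : Subgroup G) := fun h => by
      have h1 : Commute (d.e 1 0) (d.e 0 0 * d.z) := h.is_comm.comm _ _
      have h2 := d.commute_ez.mp h1
      rw [sub_zero] at h2
      have := Int.le_of_dvd one_pos h2
      have := d.pow_facts
      linarith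
    obtain ⟨e₀⟩ := d.q_equiv 0
    let eQ := ((closure {d.qa, d.qb 0} : Subgroup ↥(S : Subgroup G)).equivMapOfInjective _
      (S : Subgroup G).subtype_injective).symm.trans e₀
    have hUab : IsMulCommutative ↥(WreathedFusion.AG S d) :=
      ⟨⟨fun a b => Subtype.ext (WreathedFusion.AG_comm S d a.2 b.2)⟩⟩
    have hUcard : Nat.card (WreathedFusion.AG S d) = 2 ^ (2 * n) := by
      rw [WreathedFusion.AG, card_map_of_injective (S : Subgroup G).subtype_injective, d.card_A]
    obtain ⟨h1, h2⟩ := Cfsg.Agent.S1208.result S hS n d.card _ (map_subtype_le _) hUab hUcard _ (map_subtype_le _) eQ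
    have hS1 : 1 < Nat.card S := by rw [d.card]; exact Nat.one_lt_two_pow (by omega)
    have h6 : (centralizer (WreathedFusion.AG S d : Set G)).relIndex
        (normalizer (WreathedFusion.AG S d : Set G)) = 6 ∧
        ((closure {d.qa, d.qb 0} : Subgroup ↥(S : Subgroup G)).map (S : Subgroup G).subtype ⊔
          (center ↥(S : Subgroup G)).map (S : Subgroup G).subtype ⊔
          centralizer (((closure {d.qa, d.qb 0} : Subgroup ↥(S : Subgroup G)).map (S : Subgroup G).subtype ⊔
            (center ↥(S : Subgroup G)).map (S : Subgroup G).subtype : Subgroup G) : Set G)).relIndex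
          (normalizer (((closure {d.qa, d.qb 0} : Subgroup ↥(S : Subgroup G)).map (S : Subgroup G).subtype ⊔
            (center ↥(S : Subgroup G)).map (S : Subgroup G).subtype : Subgroup G) : Set G)) = 6 := by
      rcases h1 with h1 | h1
      · exfalso
        rcases h2 with h2 | h2
        · obtain ⟨H, hH⟩ := Cfsg.Agent.S1213.index_two_of_complement S (Cfsg.Agent.S1212.result S hS n d.card _ (map_subtype_le _) hUab hUcard _ (map_subtype_le _) eQ h1 h2).1 hS1
          exact hG H hH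
        · obtain ⟨⟨K, hKn, hK, -⟩, -⟩ := Cfsg.Agent.S1210.result S hS n d.card _ (map_subtype_le _) hUab hUcard _ (map_subtype_le _) eQ h1 h2
          haveI := hKn
          have hn := d.two_le
          obtain ⟨H, hH⟩ := Cfsg.Agent.S1255.exists_index_two K (k := n - 1)
            (by rw [hK, Nat.sub_add_cancel (by omega)])
          exact hG H hH
      · rcases h2 with h2 | h2
        · exfalso
          obtain ⟨⟨K, -, hK, -⟩, -⟩ := Cfsg.Agent.S1211.result S hS n d.card _ (map_subtype_le _) hUab hUcard _ (map_subtype_le _) eQ h1 h2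
          exact hG K hK
        · exact ⟨h1, h2⟩
    obtain ⟨c, X, hX, hVX⟩ := WreathedFusion.exists_X S d (map_subtype_le _) eQ
    have h2' := h6.2
    rw [hVX] at h2'
    have huw := WreathedFusion.u_isConj_w S d h6.1
    have huz := WreathedFusion.u_isConj_z S d hX h2'
    refine ⟨hnc, d.e (W.H n) (W.H n), d.orderOf_HH, fun c hc hco => ?_, fun t ht => ?_,
      fun N hN hI => ⟨d.x, fun s => ?_⟩⟩
    · rcases d.involution_cases hco with e | e | e | ⟨a, e⟩
      · exfalso
        rw [e, d.mem_center_e, sub_zero] at hc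
        exact d.not_N_dvd_H hc
      · exfalso
        rw [e, d.mem_center_e, zero_sub, dvd_neg] at hc
        exact d.not_N_dvd_H hc
      · exact e
      · exfalso
        rw [e, d.center_eq] at hc
        exact d.ez_notMem _ _ ((zpowers_le.mpr (d.mem_A.mpr ⟨1, 1, rfl⟩)) hc)
    · rcases WreathedFusion.involution_classes S d t ht with h | h | h
      exacts [h, h.trans huw, (h.trans huz.symm).trans huw]
    · have hz : ∀ a : ℤ, ((d.e a (-a) * d.z : ↥(S : Subgroup G)) : G) ∈ N := fun a =>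
        hI _ ((Subgroup.orderOf_coe _).trans (d.orderOf_ez a))
      have hd : ∀ a : ℤ, ((d.e a (-a) : ↥(S : Subgroup G)) : G) ∈ N := by
        intro a
        have h0 : d.e a (-a) = d.e a (-a) * d.z * (d.e 0 (-0) * d.z) := by
          rw [d.ez_ez, neg_zero, add_zero, add_zero]
        rw [h0, Subgroup.coe_mul]
        exact mul_mem (hz a) (hz 0)
      obtain ⟨a, b, rfl | rfl⟩ := d.normal_form s
      · refine ⟨a + b, ?_⟩
        have e : (d.x ^ (a + b))⁻¹ * d.e a b = d.e (-b) (-(-b)) := by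
          rw [← d.e_x, d.e_inv, d.e_mul]; congr 1 <;> ring
        rw [e]
        exact hd _
      · refine ⟨a + b, ?_⟩
        have e : (d.x ^ (a + b))⁻¹ * (d.e a b * d.z) = d.e (-b) (-(-b)) * d.z := by
          rw [← d.e_x, d.e_inv, d.e_ez]; congr 2 <;> ring
        rw [e]
        exact hz _

theorem main {G : Type*} [Group G] [Finite G] (S : Sylow 2 G)
    (hS : Cfsg.IsQuasiDihedral (S : Subgroup G) ∨ Cfsg.IsWreathed (S : Subgroup G))
    (hG : ∀ H : Subgroup G, H.index ≠ 2) (hO : Cfsg.oddCore G = ⊥) :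
    ∃ L : Subgroup G, L.Normal ∧ Odd L.index ∧ IsSimpleGroup L ∧ ¬ IsMulCommutative L := by
  classical
  haveI : Fact (Nat.Prime 2) := ⟨Nat.prime_two⟩
  obtain ⟨hnc, z₀, hz₀, huniq, hclass, hgen⟩ := sylow_data S hS hG
  haveI : Nontrivial G := by
    refine ⟨(z₀ : G), 1, fun e => ?_⟩
    have : orderOf (z₀ : G) = 2 := (Subgroup.orderOf_coe _).trans hz₀
    rw [e, orderOf_one] at this
    omega
  obtain ⟨N, hN⟩ := Cfsg.Lib.Core.exists_isMinNormal_univ (G := G)
  haveI hNn := hN.1
  have hNeven : 2 ∣ Nat.card N := by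
    by_contra h
    exact hN.2.1 (le_bot_iff.mp (hO ▸ Cfsg.Lib.ZStar.le_oddCore hN.1
      (by rw [← Nat.not_even_iff_odd, even_iff_two_dvd]; exact h)))
  obtain ⟨t, ht⟩ := exists_prime_orderOf_dvd_card' 2 hNeven
  have ht' : orderOf (t : G) = 2 := (Subgroup.orderOf_coe _).trans ht
  have hI : ∀ u : G, orderOf u = 2 → u ∈ N := by
    intro u hu
    obtain ⟨g, hg⟩ := isConj_iff.mp ((hclass _ ht').trans (hclass u hu).symm)
    rw [← hg]
    exact hNn.conj_mem _ t.2 g
  -- the Sylow subgroup lies in `N`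
  have hSN : (S : Subgroup G) ≤ N := by
    obtain ⟨x, hx⟩ := hgen N hN.1 hI
    set π := QuotientGroup.mk' N with hπ
    set S' := S.mapSurjective (QuotientGroup.mk'_surjective N) with hS'
    have hmem : ∀ q ∈ (S' : Subgroup (G ⧸ N)), q ∈ zpowers (π (x : G)) := by
      intro q hq
      rw [hS', Sylow.coe_mapSurjective] at hq
      obtain ⟨s, hs, rfl⟩ := hq
      obtain ⟨k, hk⟩ := hx ⟨s, hs⟩
      refine mem_zpowers_iff.mpr ⟨k, ?_⟩
      rw [← map_zpow]
      refine QuotientGroup.eq.mpr ?_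
      simpa using hk
    haveI : IsCyclic ↥(S' : Subgroup (G ⧸ N)) := Subgroup.isCyclic_of_le hmem
    have hcompl : Cfsg.HasNormalPComplement 2 (G ⧸ N) := by
      refine (Cfsg.Lib.Fusion.frobenius S').mpr fun R hR g hg hco => ?_
      haveI : IsCyclic ↥R := Subgroup.isCyclic_of_le (hR.trans le_rfl : R ≤ (S' : Subgroup (G ⧸ N)))
      haveI : IsCyclic (⊤ : Subgroup ↥R) := isCyclic_of_surjective
        (Subgroup.topEquiv.symm : ↥R ≃* (⊤ : Subgroup ↥R)) Subgroup.topEquiv.symm.surjective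
      let σ : MulAut ↥R := R.normalizerMonoidHom ⟨g, hg⟩
      have hσm : σ ^ orderOf g = 1 := by
        rw [← map_pow]
        have : (⟨g, hg⟩ : ↥(normalizer (R : Set (G ⧸ N)))) ^ orderOf g = 1 := Subtype.ext (pow_orderOf_eq_one g)
        rw [this, map_one]
      have hσ := Cfsg.Lib.DihedralAut.eq_one_of_stable_cyclic (S'.isPGroup'.to_le hR) σ
        (Nat.coprime_two_right.mp hco) hσm ⊤ (by simp) fun q _ => mem_top _
      rw [mem_centralizer_iff]
      intro r hr
      exact (mul_inv_eq_iff_eq_mul.mp (congrArg Subtype.val (DFunLike.congr_fun hσ ⟨r, hr⟩))).symm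
    rcases Nat.lt_or_ge 1 (Nat.card S') with h | h
    · exfalso
      obtain ⟨H, hH⟩ := Cfsg.Agent.S1213.index_two_of_complement S' hcompl h
      exact no_index_two_image π (QuotientGroup.mk'_surjective N) hG H hH
    · intro s hs
      have hbot : (S' : Subgroup (G ⧸ N)) = ⊥ := (S' : Subgroup (G ⧸ N)).card_le_one_iff_eq_bot.mp h
      have : π s ∈ (S' : Subgroup (G ⧸ N)) := by
        rw [hS', Sylow.coe_mapSurjective]; exact mem_map_of_mem _ hs
      rw [hbot, mem_bot] at this
      exact (QuotientGroup.eq_one_iff s).mp this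
  have hodd : Odd N.index := by
    rw [← Nat.not_even_iff_odd, even_iff_two_dvd]
    exact fun h => S.not_dvd_index (h.trans (index_dvd_of_le hSN))
  have hNab : ¬ IsMulCommutative ↥N := fun h => hnc ⟨⟨fun a b => Subtype.ext
    (congrArg (fun q : ↥N => (q : G)) (h.is_comm.comm ⟨a, hSN a.2⟩ ⟨b, hSN b.2⟩))⟩⟩
  -- a unique minimal normal subgroup of `N`
  have hzN : ∀ M : Subgroup ↥N, Cfsg.Lib.Core.IsMinNormal M → (⟨(z₀ : G), hSN z₀.2⟩ : ↥N) ∈ M := by
    intro M hM
    haveI := hM.1
    have hMeven : 2 ∣ Nat.card M := by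
      by_contra h
      have hodd' : Odd (Nat.card M) := by rw [← Nat.not_even_iff_odd, even_iff_two_dvd]; exact h
      have h1 : M ≤ Cfsg.oddCore ↥N := Cfsg.Lib.ZStar.le_oddCore hM.1 hodd'
      haveI : (Cfsg.oddCore ↥N).Characteristic := Cfsg.Lib.Core.pPrimeCore_characteristic
      have h2 : (Cfsg.oddCore ↥N).map N.subtype ≤ Cfsg.oddCore G :=
        Cfsg.Lib.ZStar.le_oddCore inferInstance (by
          rw [card_map_of_injective N.subtype_injective]; exact Cfsg.Lib.ZStar.odd_card_oddCore)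
      rw [hO, le_bot_iff, (map_eq_bot_iff_of_injective _ N.subtype_injective)] at h2
      exact hM.2.1 (le_bot_iff.mp (h2 ▸ h1))
    let S₁ := S.subtype hSN
    let f : ↥((S₁ : Sylow 2 ↥N) : Subgroup ↥N) ≃* ↥(S : Subgroup G) := subgroupOfEquivOfLe hSN
    have hne : M.subgroupOf (S₁ : Subgroup ↥N) ≠ ⊥ := by
      obtain ⟨u, hu⟩ := exists_prime_orderOf_dvd_card' 2 hMeven
      have hu' : orderOf (u : ↥N) = 2 := (Subgroup.orderOf_coe _).trans hu
      obtain ⟨v, huv, hv⟩ := QDFusion.conj_into_sylow S₁ (k := 1) (u := (u : ↥N)) (by simpa using hu')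
      obtain ⟨g, hg⟩ := isConj_iff.mp huv
      intro hbot
      have hvM : v ∈ M.subgroupOf (S₁ : Subgroup ↥N) := by
        rw [mem_subgroupOf, ← hg]
        exact hM.1.conj_mem _ u.2 g
      rw [hbot, mem_bot] at hvM
      rw [hvM, orderOf_one] at hv
      omega
    have hinf := Cfsg.Lib.PGroup.inf_center_ne_bot S₁.isPGroup'
      (N := M.subgroupOf (S₁ : Subgroup ↥N)) hne
    have h1 : 2 ∣ Nat.card ↥(M.subgroupOf (S₁ : Subgroup ↥N) ⊓ center ↥((S₁ : Sylow 2 ↥N) : Subgroup ↥N) : Subgroup _) := by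
      obtain ⟨k, hk⟩ := (S₁.isPGroup'.to_subgroup _ : IsPGroup 2 ↥(M.subgroupOf (S₁ : Subgroup ↥N) ⊓ center ↥((S₁ : Sylow 2 ↥N) : Subgroup ↥N) : Subgroup _)).exists_card_eq
      rcases k with _ | k
      · exact absurd ((Subgroup.eq_bot_iff_card _).mpr (by simpa using hk)) hinf
      · rw [hk]; exact dvd_pow_self 2 (by omega)
    obtain ⟨c, hc⟩ := exists_prime_orderOf_dvd_card' 2 h1
    have hcc : orderOf (f (c : ↥((S₁ : Sylow 2 ↥N) : Subgroup ↥N))) = 2 := by
      rw [MulEquiv.orderOf_eq, Subgroup.orderOf_coe, hc]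
    have hcZ : f (c : ↥((S₁ : Sylow 2 ↥N) : Subgroup ↥N)) ∈ center ↥(S : Subgroup G) := by
      rw [mem_center_iff]
      intro s
      have := congrArg f (mem_center_iff.mp (mem_inf.mp c.2).2 (f.symm s))
      simpa using this
    have he := huniq _ hcZ hcc
    have hcM : ((c : ↥((S₁ : Sylow 2 ↥N) : Subgroup ↥N)) : ↥N) ∈ M := mem_subgroupOf.mp (mem_inf.mp c.2).1
    have : ((c : ↥((S₁ : Sylow 2 ↥N) : Subgroup ↥N)) : ↥N) = ⟨(z₀ : G), hSN z₀.2⟩ :=
      Subtype.ext (show _ = (z₀ : G) from congrArg Subtype.val he)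
    rwa [this] at hcM
  haveI : Nontrivial ↥N := (nontrivial_iff_ne_bot N).mpr hN.2.1
  obtain ⟨M, hM⟩ := Cfsg.Lib.Core.exists_isMinNormal_univ (G := ↥N)
  have hMuniq : ∀ M' : Subgroup ↥N, Cfsg.Lib.Core.IsMinNormal M' → M' = M := by
    intro M' hM'
    haveI := hM'.1; haveI := hM.1
    have hz1 : (⟨(z₀ : G), hSN z₀.2⟩ : ↥N) ≠ 1 := fun e => by
      have : (z₀ : G) = 1 := congrArg Subtype.val e
      have h2 : orderOf (z₀ : G) = 2 := (Subgroup.orderOf_coe _).trans hz₀
      rw [this, orderOf_one] at h2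
      omega
    have hne : M' ⊓ M ≠ ⊥ := fun h => hz1 (mem_bot.mp (h ▸ mem_inf.mpr ⟨hzN M' hM', hzN M hM⟩))
    have h1 := (hM'.2.2 (M' ⊓ M) inferInstance inf_le_left).resolve_left hne
    have h2 := (hM.2.2 (M' ⊓ M) inferInstance inf_le_right).resolve_left hne
    rw [← h1, h2]
  have hMG : (M.map N.subtype).Normal := by
    refine ⟨fun a ha g => ?_⟩
    obtain ⟨m, hm, rfl⟩ := ha
    obtain ⟨φ, hφ⟩ : ∃ φ : ↥N ≃* ↥N, φ = MulAut.conjNormal g := ⟨_, rfl⟩
    have hmap : Cfsg.Lib.Core.IsMinNormal (M.map φ.toMonoidHom) := by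
      refine ⟨hM.1.map _ φ.surjective, fun h => hM.2.1 ((map_eq_bot_iff_of_injective _ φ.injective).mp h),
        fun K hK hKle => ?_⟩
      haveI := hK
      rcases hM.2.2 (K.comap φ.toMonoidHom) inferInstance (fun k hk => by
        obtain ⟨m', hm', he⟩ := hKle hk
        exact φ.injective he ▸ hm') with h | h
      · left
        rw [← map_comap_eq_self_of_surjective (f := φ.toMonoidHom) φ.surjective K, h, Subgroup.map_bot]
      · right
        rw [← map_comap_eq_self_of_surjective (f := φ.toMonoidHom) φ.surjective K, h]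
    have := hMuniq _ hmap
    exact ⟨φ m, this ▸ mem_map_of_mem _ hm, by rw [hφ]; rfl⟩
  have hMtop : M = ⊤ := by
    rcases hN.2.2 _ hMG (map_subtype_le _) with h | h
    · exact absurd ((map_eq_bot_iff_of_injective _ N.subtype_injective).mp h) hM.2.1
    · apply eq_top_iff.mpr
      intro x _
      obtain ⟨m, hm, he⟩ := (h.ge x.2 : (x : G) ∈ M.map N.subtype)
      exact Subtype.ext he ▸ hm
  refine ⟨N, hN.1, hodd, ?_, hNab⟩
  exact ⟨fun K hK => (hM.2.2 K hK (hMtop ▸ le_top)).imp id fun h => h.trans hMtop⟩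


/-- Let G be a finite group with quasi-dihedral or wreathed Sylow 2-subgroups and no subgroup of index 2. Then G/O(G), the quotient by the largest normal subgroup of odd order, has a normal subgroup of odd index which is a non-abelian simple group. -/
theorem result {G : Type*} [Group G] [Finite G] (S : Sylow 2 G) (hS : Cfsg.IsQuasiDihedral (S : Subgroup G) ∨ Cfsg.IsWreathed (S : Subgroup G)) (hG : ∀ H : Subgroup G, H.index ≠ 2) : ∃ L : Subgroup (G ⧸ Cfsg.oddCore G), L.Normal ∧ Odd L.index ∧ IsSimpleGroup L ∧ ¬ IsMulCommutative L := by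
  classical
  haveI : Fact (Nat.Prime 2) := ⟨Nat.prime_two⟩
  set O := Cfsg.oddCore G with hO
  set π := QuotientGroup.mk' O with hπ
  have hsurj := QuotientGroup.mk'_surjective O
  let S' := S.mapSurjective hsurj
  have hinj : Function.Injective (π.comp (S : Subgroup G).subtype) := by
    rw [injective_iff_map_eq_one]
    intro s hs
    have hsO : (s : G) ∈ O := (QuotientGroup.eq_one_iff _).mp hs
    obtain ⟨k, hk⟩ := S.isPGroup' s
    have h2 : orderOf (s : G) ∣ 2 ^ k := orderOf_dvd_of_pow_eq_one (congrArg Subtype.val hk)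
    have h1 := Cfsg.Lib.ZStar.odd_orderOf_oddCore hsO
    exact Subtype.ext (orderOf_eq_one_iff.mp (Nat.eq_one_of_dvd_coprimes
      ((Nat.coprime_two_right.mpr h1).pow_right k) dvd_rfl h2))
  let f : ↥(S : Subgroup G) ≃* ↥(S' : Subgroup (G ⧸ O)) :=
    (MonoidHom.ofInjective hinj).trans (MulEquiv.subgroupCongr (by
      rw [Sylow.coe_mapSurjective, MonoidHom.range_comp, Subgroup.range_subtype]))
  have hS' : Cfsg.IsQuasiDihedral (S' : Subgroup (G ⧸ O)) ∨ Cfsg.IsWreathed (S' : Subgroup (G ⧸ O)) := by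
    rcases hS with hS | hS
    · obtain ⟨n, ⟨d⟩⟩ := exists_sd hS
      let d' := Cfsg.Agent.S1213.sdTransport d f
      exact Or.inl ⟨n, d'.three_le, d'.card, d'.x, d'.y, d'.hx, d'.hy, d'.conj⟩
    · obtain ⟨n, ⟨d⟩⟩ := exists_w hS
      let d' := W.transport d f
      exact Or.inr ⟨n, d'.two_le, d'.card, d'.x, d'.y, d'.z, d'.hx, d'.comm, d'.disj, d'.hz, d'.conj⟩
  refine main S' hS' (no_index_two_image π hsurj hG) ?_
  -- the quotient has trivial odd core
  set W' := (Cfsg.oddCore (G ⧸ O)).comap π with hW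
  have hle : O ≤ W' := fun x hx => by
    rw [hW, mem_comap, hπ, QuotientGroup.mk'_apply, (QuotientGroup.eq_one_iff x).mpr hx]
    exact one_mem _
  have hcard : Odd (Nat.card W') := by
    have h1 := W'.card_mul_index
    rw [hW, Subgroup.index_comap_of_surjective _ hsurj, Subgroup.card_eq_card_quotient_mul_card_subgroup O,
      ← (Cfsg.oddCore (G ⧸ O)).card_mul_index] at h1
    have h2 : Nat.card W' = Nat.card (Cfsg.oddCore (G ⧸ O)) * Nat.card O := by
      rw [hW]
      refine mul_right_cancel₀ (b := (Cfsg.oddCore (G ⧸ O)).index) Subgroup.index_ne_zero_of_finite ?_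
      rw [h1, mul_right_comm]
    rw [h2]
    exact Cfsg.Lib.ZStar.odd_card_oddCore.mul Cfsg.Lib.ZStar.odd_card_oddCore
  have hWO : W' ≤ O := Cfsg.Lib.ZStar.le_oddCore inferInstance hcard
  rw [eq_bot_iff]
  intro q hq
  obtain ⟨x, rfl⟩ := hsurj q
  rw [mem_bot, QuotientGroup.mk'_apply, QuotientGroup.eq_one_iff]
  exact hWO (mem_comap.mpr hq)

end Cfsg.Agent.S1214
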