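import Cfsg.Statements.S1215
import Cfsg.Agent.Lib.TwoGroup.CentreModCore
-- import your own Cfsg.Agent.* helpers here

set_option autoImplicit false
open Cfsg

namespace Cfsg.Agent.S1215

/-- Let H be a finite group with quasi-dihedral or wreathed Sylow 2-subgroup S such that H has a normal subgroup K of index a power of 2 with no subgroup of index 2 and with generalized quaternion Sylow 2-subgroups, and such that every subgroup of Z(S) is weakly closed in S with respect to H. Then H = O(H) C_H(Z(S)): every element of H is the product of an element of the largest normal odd-order subgroup and an element centralizing Z(S). -/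
theorem result {H : Type*} [Group H] [Finite H] (S : Sylow 2 H) (hS : Cfsg.IsQuasiDihedral (S : Subgroup H) ∨ Cfsg.IsWreathed (S : Subgroup H)) (hQ : (∃ K : Subgroup H, K.Normal ∧ (∃ a : ℕ, K.index = 2 ^ a) ∧ (∀ M : Subgroup ↥K, M.index ≠ 2) ∧ (∀ P : Sylow 2 ↥K, ∃ m : ℕ, 1 ≤ m ∧ Nonempty ((P : Subgroup ↥K) ≃* QuaternionGroup (2 ^ m)))) ∧ (∀ Z₀ : Subgroup H, Z₀ ≤ ((Subgroup.center (S : Subgroup H)).map (S : Subgroup H).subtype) → Cfsg.IsWeaklyClosed Z₀ (S : Subgroup H))) (h : H) : ∃ o ∈ Cfsg.oddCore H, ∃ c ∈ Subgroup.centralizer (((Subgroup.center (S : Subgroup H)).map (S : Subgroup H).subtype : Subgroup H) : Set H), h = o * c := by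
  classical
  haveI : Fact (Nat.Prime 2) := ⟨Nat.prime_two⟩
  set T := (Subgroup.center (S : Subgroup H)).map (S : Subgroup H).subtype with hT
  haveI : Nontrivial (S : Subgroup H) := by
    refine Finite.one_lt_card_iff_nontrivial.mp ?_
    rcases hS with ⟨n, h3, hc, -⟩ | ⟨n, h2, hc, -⟩ <;> rw [hc] <;>
      exact Nat.one_lt_two_pow (by omega)
  haveI := S.isPGroup'.center_nontrivial
  obtain ⟨k, hk⟩ := (S.isPGroup'.to_subgroup (Subgroup.center (S : Subgroup H))).exists_card_eq
  have hk0 : k ≠ 0 := by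
    rintro rfl
    have := Finite.one_lt_card (α := Subgroup.center (S : Subgroup H))
    rw [hk] at this
    simp at this
  obtain ⟨z₀, hz₀⟩ := exists_prime_orderOf_dvd_card' (G := Subgroup.center (S : Subgroup H)) 2
    (by rw [hk]; exact dvd_pow_self 2 hk0)
  set z : H := ((z₀ : (S : Subgroup H)) : H) with hz
  have hzo : orderOf z = 2 := by rw [hz, Subgroup.orderOf_coe, Subgroup.orderOf_coe, hz₀]
  have hzT : z ∈ T := ⟨_, z₀.2, rfl⟩
  have hzS : z ∈ (S : Subgroup H) := SetLike.coe_mem _
  have hiso : Cfsg.IsIsolatedInvolution z := by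
    refine Cfsg.Lib.Invol.isolated_of_sylow S hzo fun g hg => ?_
    obtain ⟨-, hwc⟩ := hQ.2 (Subgroup.zpowers z) (Subgroup.zpowers_le.mpr hzT)
    have e := hwc g (by rw [MonoidHom.map_zpowers, Subgroup.zpowers_le]; exact hg)
    rw [MonoidHom.map_zpowers] at e
    have hm : g * z * g⁻¹ ∈ Subgroup.zpowers z := e.le (Subgroup.mem_zpowers _)
    obtain ⟨m, hm'⟩ := Subgroup.mem_zpowers_iff.mp hm
    rcases Int.even_or_odd' m with ⟨w, rfl | rfl⟩
    · rw [zpow_mul, zpow_two, Cfsg.Lib.Invol.inv_mul_self hzo, one_zpow, eq_comm, conj_eq_one_iff] at hm'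
      exact absurd hm' (Cfsg.Lib.Invol.ne_one hzo)
    · rwa [zpow_add, zpow_mul, zpow_two, Cfsg.Lib.Invol.inv_mul_self hzo, one_zpow, one_mul, zpow_one,
        eq_comm] at hm'
  exact Cfsg.Lib.TwoGroup.exists_mul_centralizing_center S hS z hzS hiso h

end Cfsg.Agent.S1215
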