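import Cfsg.Statements.S1219
import Mathlib
-- import your own Cfsg.Agent.* helpers here

set_option autoImplicit false
open scoped MatrixGroups
open Cfsg

namespace Cfsg.Agent.S1219


open Subgroup
open scoped MatrixGroups

variable {F : Type*} [Field F]

/-- The signs. -/
def sgn (F : Type*) [Field F] : Fin 3 → F := ![1, -1, -1]

/-- The block matrices commuting with the diagonal involution. -/
def blk (A : GL (Fin 2) F) : Matrix (Fin 3) (Fin 3) F :=
  !![((Matrix.GeneralLinearGroup.det A)⁻¹ : Fˣ).val, 0, 0; 0, A.val 0 0, A.val 0 1; 0, A.val 1 0, A.val 1 1]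

theorem blk_one : blk (1 : GL (Fin 2) F) = 1 := by
  ext i j; fin_cases i <;> fin_cases j <;> simp [blk]

theorem blk_mul (A B : GL (Fin 2) F) : blk (A * B) = blk A * blk B := by
  ext i j
  fin_cases i <;> fin_cases j <;>
    simp [blk, Matrix.mul_apply, Fin.sum_univ_succ, mul_comm]

theorem det_blk (A : GL (Fin 2) F) : (blk A).det = 1 := by
  have h : A.val.det ≠ 0 := (Matrix.GeneralLinearGroup.det A).ne_zero
  have e : ((Matrix.GeneralLinearGroup.det A)⁻¹ : Fˣ).val = (A.val.det)⁻¹ := by simp
  rw [Matrix.det_fin_three]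
  simp [blk, e]
  rw [Matrix.det_fin_two] at h ⊢
  field_simp

/-- The embedding of GL2 in the centralizer. -/
def emb (Q : GL (Fin 3) F) : GL (Fin 2) F →* Matrix.SpecialLinearGroup (Fin 3) F where
  toFun A := ⟨Q.val * blk A * (Q⁻¹).val, by
    rw [Matrix.det_mul, Matrix.det_mul, det_blk, mul_one, ← Matrix.det_mul, ← Units.val_mul,
      mul_inv_cancel, Units.val_one, Matrix.det_one]⟩
  map_one' := Subtype.ext (by
    show Q.val * blk 1 * (Q⁻¹).val = 1
    rw [blk_one, mul_one, ← Units.val_mul, mul_inv_cancel, Units.val_one])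
  map_mul' A B := Subtype.ext (by
    show Q.val * blk (A * B) * (Q⁻¹).val = (Q.val * blk A * (Q⁻¹).val) * (Q.val * blk B * (Q⁻¹).val)
    rw [blk_mul]
    simp only [mul_assoc, Units.inv_mul_cancel_left])

theorem exists_frame (h2 : (2 : F) ≠ 0) (g : Matrix.SpecialLinearGroup (Fin 3) F) (hg : g * g = 1) (hg1 : g ≠ 1) :
    ∃ Q : GL (Fin 3) F, g.val * Q.val = Q.val * Matrix.diagonal (sgn F) := by
  classical
  have hgg : g.val * g.val = 1 := by
    have := congrArg Subtype.val hg; simpa using this
  let f : (Fin 3 → F) →ₗ[F] (Fin 3 → F) := Matrix.toLin' g.val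
  have hff : ∀ v, f (f v) = v := fun v => by
    simp only [f, Matrix.toLin'_apply, Matrix.mulVec_mulVec, hgg, Matrix.one_mulVec]
  set Ep := LinearMap.ker (f - LinearMap.id)
  set Em := LinearMap.ker (f + LinearMap.id)
  have hp : ∀ v ∈ Ep, f v = v := fun v hv => sub_eq_zero.mp (by simpa [Ep] using hv)
  have hm : ∀ v ∈ Em, f v = -v := fun v hv => eq_neg_of_add_eq_zero_left (by simpa [Em] using hv)
  have hc : IsCompl Ep Em := by
    refine IsCompl.of_eq ?_ ?_
    · rw [Submodule.eq_bot_iff]
      intro v hv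
      have e : v = -v := (hp v hv.1).symm.trans (hm v hv.2)
      have e2 : (2 : F) • v = 0 := by rw [two_smul]; exact add_eq_zero_iff_eq_neg.mpr e
      exact (smul_eq_zero.mp e2).resolve_left h2
    · rw [Submodule.eq_top_iff']
      intro v
      have : v = (2 : F)⁻¹ • (v + f v) + (2 : F)⁻¹ • (v - f v) := by
        rw [← smul_add, add_add_sub_cancel, ← two_smul F v, smul_smul, inv_mul_cancel₀ h2, one_smul]
      rw [this]
      refine Submodule.add_mem_sup (Ep.smul_mem _ ?_) (Em.smul_mem _ ?_)
      · simp [Ep, hff, add_comm, sub_eq_zero]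
      · simp [Em, hff]
  let bp := Module.finBasis F Ep
  let bm := Module.finBasis F Em
  let b := (bp.prod bm).map (Submodule.prodEquivOfIsCompl Ep Em hc)
  let ε : Fin (Module.finrank F Ep) ⊕ Fin (Module.finrank F Em) → F := Sum.elim 1 (-1)
  have hfb : ∀ i, f (b i) = ε i • b i := by
    rintro (i | i)
    · have e : b (Sum.inl i) = (bp i : Fin 3 → F) := by simp [b]
      rw [e, hp _ (bp i).2]; simp [ε]
    · have e : b (Sum.inr i) = (bm i : Fin 3 → F) := by simp [b]
      rw [e, hm _ (bm i).2]; simp [ε]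
  have hmat : LinearMap.toMatrix b b f = Matrix.diagonal ε := by
    ext i j
    rw [LinearMap.toMatrix_apply, hfb j, map_smul, Finsupp.smul_apply, Module.Basis.repr_self,
      Finsupp.single_apply, Matrix.diagonal_apply]
    by_cases h : i = j
    · subst h; simp
    · rw [if_neg h, if_neg (Ne.symm h), smul_zero]
  have hdet : (-1 : F) ^ Module.finrank F Em = 1 := by
    have h1 : LinearMap.det f = 1 := by rw [LinearMap.det_toLin', g.det_coe]
    rw [← LinearMap.det_toMatrix b, hmat, Matrix.det_diagonal, Fintype.prod_sum_type] at h1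
    simpa [ε] using h1
  have hdim : Module.finrank F Ep + Module.finrank F Em = 3 := by
    rw [Submodule.finrank_add_eq_of_isCompl hc]; simp
  have hm2 : Module.finrank F Em = 2 := by
    have hm0 : Module.finrank F Em ≠ 0 := fun h0 => hg1 (by
      refine Subtype.ext ?_
      have hbot : Em = ⊥ := Submodule.finrank_eq_zero.mp h0
      have htop : Ep = ⊤ := eq_top_of_isCompl_bot (hbot ▸ hc)
      apply Matrix.toLin'.injective
      refine LinearMap.ext fun v => ?_
      show f v = _
      rw [hp v (htop ▸ Submodule.mem_top)]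
      simp)
    rcases Nat.even_or_odd (Module.finrank F Em) with ⟨k, hk⟩ | hk
    · omega
    · exfalso
      rw [hk.neg_one_pow] at hdet
      exact h2 (by rw [← one_add_one_eq_two]; linear_combination -hdet)
  have hp1 : Module.finrank F Ep = 1 := by omega
  let e : Fin (Module.finrank F Ep) ⊕ Fin (Module.finrank F Em) ≃ Fin 3 :=
    finSumFinEquiv.trans (finCongr hdim)
  let b' := b.reindex e
  have hfb' : ∀ j, f (b' j) = sgn F j • b' j := by
    intro j
    rw [Module.Basis.reindex_apply, hfb]
    congr 1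
    obtain ⟨s, rfl⟩ := e.surjective j
    rw [Equiv.symm_apply_apply]
    rcases s with i | i
    · have hi : (e (Sum.inl i)).val = 0 := by simp [e]; omega
      rw [show e (Sum.inl i) = 0 from Fin.ext hi]; rfl
    · have hi : (e (Sum.inr i)).val = 1 + i.val := by simp [e, hp1]
      have : i.val < 2 := hm2 ▸ i.2
      rcases (show i.val = 0 ∨ i.val = 1 by omega) with h | h
      · rw [show e (Sum.inr i) = 1 from Fin.ext (by rw [hi, h]; rfl)]; rfl
      · rw [show e (Sum.inr i) = 2 from Fin.ext (by rw [hi, h]; rfl)]; rfl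
  let Q : GL (Fin 3) F := ⟨(Pi.basisFun F (Fin 3)).toMatrix b', b'.toMatrix (Pi.basisFun F (Fin 3)),
    Module.Basis.toMatrix_mul_toMatrix_flip _ _, Module.Basis.toMatrix_mul_toMatrix_flip _ _⟩
  refine ⟨Q, ?_⟩
  ext i j
  have hQ : ∀ k, Q.val k j = b' j k := fun k => by simp [Q, Module.Basis.toMatrix_apply]
  rw [Matrix.mul_diagonal, hQ]
  have := congrFun (hfb' j) i
  simp only [f, Matrix.toLin'_apply, Matrix.mulVec, dotProduct, Pi.smul_apply, smul_eq_mul] at this
  rw [Matrix.mul_apply, mul_comm, ← this]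
  simp only [hQ]

theorem blk_shape (h2 : (2 : F) ≠ 0) (M : Matrix (Fin 3) (Fin 3) F) (hdet : M.det = 1)
    (hM : M * Matrix.diagonal (sgn F) = Matrix.diagonal (sgn F) * M) :
    ∃ A : GL (Fin 2) F, blk A = M := by
  have key : ∀ i j, M i j * sgn F j = sgn F i * M i j := fun i j => by
    have := congrFun (congrFun hM i) j
    rwa [Matrix.mul_diagonal, Matrix.diagonal_mul] at this
  have hz : ∀ x : F, x * -1 = 1 * x → x = 0 := fun x hx => by
    have : (2 : F) * x = 0 := by linear_combination -hx
    exact (mul_eq_zero.mp this).resolve_left h2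
  have hz' : ∀ x : F, x * 1 = -1 * x → x = 0 := fun x hx => by
    have : (2 : F) * x = 0 := by linear_combination hx
    exact (mul_eq_zero.mp this).resolve_left h2
  have z01 : M 0 1 = 0 := hz _ (key 0 1)
  have z02 : M 0 2 = 0 := hz _ (key 0 2)
  have z10 : M 1 0 = 0 := hz' _ (key 1 0)
  have z20 : M 2 0 = 0 := hz' _ (key 2 0)
  have hd : M 0 0 * (M 1 1 * M 2 2 - M 1 2 * M 2 1) = 1 := by
    rw [Matrix.det_fin_three, z01, z02, z10, z20] at hdet
    linear_combination hdet
  have hne : (!![M 1 1, M 1 2; M 2 1, M 2 2]).det ≠ 0 := by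
    rw [Matrix.det_fin_two_of]; exact right_ne_zero_of_mul (hd.trans_ne one_ne_zero)
  refine ⟨Matrix.GeneralLinearGroup.mkOfDetNeZero _ hne, ?_⟩
  ext i j
  fin_cases i <;> fin_cases j <;> simp [blk, z01, z02, z10, z20, Matrix.det_fin_two]
  exact (inv_eq_of_mul_eq_one_left hd)

theorem main [Fintype F] (hF : Odd (Fintype.card F)) (t : Matrix.ProjectiveSpecialLinearGroup (Fin 3) F)
    (ht : orderOf t = 2) :
    ∃ (Z : Subgroup (GL (Fin 2) F)) (_ : Z.Normal), Z ≤ Subgroup.center (GL (Fin 2) F) ∧
      Nat.card Z = Nat.gcd (Fintype.card F - 1) 3 ∧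
      Nonempty (↥(Subgroup.centralizer ({t} : Set (Matrix.ProjectiveSpecialLinearGroup (Fin 3) F))) ≃* GL (Fin 2) F ⧸ Z) := by
  classical
  have h2 : (2 : F) ≠ 0 := by
    intro h0
    have hch : ringChar F = 2 := CharP.ringChar_of_prime_eq_zero Nat.prime_two (by exact_mod_cast h0)
    have := FiniteField.even_card_iff_char_two.mp hch
    rw [Nat.odd_iff] at hF
    omega
  set C := Subgroup.center (Matrix.SpecialLinearGroup (Fin 3) F) with hC
  set π := QuotientGroup.mk' C with hπ
  have hC3 : ∀ c ∈ C, c ^ 3 = 1 := by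
    intro c hc
    obtain ⟨r, hr, hr'⟩ := Matrix.SpecialLinearGroup.mem_center_iff.mp hc
    refine Subtype.ext ?_
    rw [Matrix.SpecialLinearGroup.coe_pow, ← hr', ← map_pow, show r ^ 3 = 1 by simpa using hr, map_one]
    rfl
  obtain ⟨g₀, hg₀⟩ := QuotientGroup.mk'_surjective C t
  have ht2 : t ^ 2 = 1 := ht ▸ pow_orderOf_eq_one t
  set g := g₀ ^ 3 with hg_def
  have hgt : π g = t := by
    rw [hg_def, map_pow, hg₀, pow_succ, ht2, one_mul]
  have hg2 : g * g = 1 := by
    have : g₀ ^ 2 ∈ C := (QuotientGroup.eq_one_iff _).mp (show π (g₀ ^ 2) = 1 by rw [map_pow, hg₀, ht2])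
    rw [hg_def, ← pow_add, show 3 + 3 = 2 * 3 from rfl, pow_mul]
    exact hC3 _ this
  have hg1 : g ≠ 1 := fun h => by
    rw [h, map_one] at hgt
    rw [← hgt, orderOf_one] at ht
    omega
  obtain ⟨Q, hQ⟩ := exists_frame h2 g hg2 hg1
  have hgval : g.val = Q.val * Matrix.diagonal (sgn F) * (Q⁻¹).val := by
    rw [← hQ, Matrix.mul_assoc, ← Units.val_mul, mul_inv_cancel, Units.val_one, Matrix.mul_one]
  have hcomm : ∀ A, blk A * Matrix.diagonal (sgn F) = Matrix.diagonal (sgn F) * blk A := fun A => by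
    ext i j
    rw [Matrix.mul_diagonal, Matrix.diagonal_mul]
    fin_cases i <;> fin_cases j <;> simp [blk, sgn]
  have hmem : ∀ A, π (emb Q A) ∈ centralizer ({t} : Set (Matrix.ProjectiveSpecialLinearGroup (Fin 3) F)) := by
    intro A
    rw [mem_centralizer_singleton_iff, ← hgt, ← map_mul, ← map_mul]
    congr 1
    refine Subtype.ext ?_
    rw [Matrix.SpecialLinearGroup.coe_mul, Matrix.SpecialLinearGroup.coe_mul, hgval]
    show (Q.val * blk A * (Q⁻¹).val) * _ = _ * (Q.val * blk A * (Q⁻¹).val)
    simp only [Matrix.mul_assoc]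
    rw [← Matrix.mul_assoc (Q⁻¹).val Q.val, ← Units.val_mul, inv_mul_cancel, Units.val_one, Matrix.one_mul,
      ← Matrix.mul_assoc (blk A), hcomm, Matrix.mul_assoc]
    rw [← Matrix.mul_assoc (Q⁻¹).val Q.val (_ * _), ← Units.val_mul, inv_mul_cancel, Units.val_one, Matrix.one_mul]
  let ψ := (π.comp (emb Q)).codRestrict _ hmem
  have hsurj : Function.Surjective ψ := by
    rintro ⟨x, hx⟩
    obtain ⟨h, rfl⟩ := QuotientGroup.mk'_surjective C x
    rw [mem_centralizer_singleton_iff, ← hgt, ← map_mul, ← map_mul] at hx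
    have hc : (g * h)⁻¹ * (h * g) ∈ C := QuotientGroup.eq.mp hx.symm
    set c := (g * h)⁻¹ * (h * g) with hcdef
    have hcc : ∀ y, y * c = c * y := mem_center_iff.mp hc
    have hhg : h * g = g * h * c := by rw [hcdef, mul_inv_cancel_left]
    have hc2 : c * c = 1 := by
      have e : h * g * g = h := by rw [mul_assoc, hg2, mul_one]
      have e' : h * g * g = h * (c * c) := by
        calc h * g * g = g * h * c * g := by rw [hhg]
          _ = g * (h * g) * c := by rw [mul_assoc (g * h) c g, ← hcc g, ← mul_assoc, mul_assoc g h g]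
          _ = g * (g * h * c) * c := by rw [hhg]
          _ = (g * g) * h * (c * c) := by simp only [mul_assoc]
          _ = h * (c * c) := by rw [hg2, one_mul]
      exact mul_eq_left.mp (e'.symm.trans e)
    have hc1 : c = 1 := by
      have := hC3 c hc
      rwa [pow_succ, sq, hc2, one_mul] at this
    rw [hc1, mul_one] at hhg
    set M := (Q⁻¹).val * h.val * Q.val with hM
    have hMdet : M.det = 1 := by
      rw [hM, Matrix.det_mul, Matrix.det_mul, h.det_coe, mul_one, ← Matrix.det_mul, ← Units.val_mul,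
        inv_mul_cancel, Units.val_one, Matrix.det_one]
    have hMc : M * Matrix.diagonal (sgn F) = Matrix.diagonal (sgn F) * M := by
      have e1 : Matrix.diagonal (sgn F) = (Q⁻¹).val * g.val * Q.val := by
        rw [Matrix.mul_assoc, hQ, ← Matrix.mul_assoc, ← Units.val_mul, inv_mul_cancel, Units.val_one, Matrix.one_mul]
      have e2 : h.val * g.val = g.val * h.val := by simpa using congrArg Subtype.val hhg
      rw [hM, e1]
      simp only [Matrix.mul_assoc]
      rw [← Matrix.mul_assoc Q.val (Q⁻¹).val, ← Matrix.mul_assoc Q.val (Q⁻¹).val, ← Units.val_mul, mul_inv_cancel,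
        Units.val_one, Matrix.one_mul, Matrix.one_mul, ← Matrix.mul_assoc h.val, e2, Matrix.mul_assoc g.val]
    obtain ⟨A, hA⟩ := blk_shape h2 M hMdet hMc
    refine ⟨A, Subtype.ext ?_⟩
    show π (emb Q A) = π h
    congr 1
    refine Subtype.ext ?_
    show Q.val * blk A * (Q⁻¹).val = h.val
    rw [hA, hM, ← Matrix.mul_assoc, ← Matrix.mul_assoc, ← Units.val_mul, mul_inv_cancel, Units.val_one,
      Matrix.one_mul, Matrix.mul_assoc, ← Units.val_mul, mul_inv_cancel, Units.val_one, Matrix.mul_one]
  let sc : Fˣ →* GL (Fin 2) F := Units.map (Matrix.scalar (Fin 2) : F →+* Matrix (Fin 2) (Fin 2) F).toMonoidHom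
  have hsc : ∀ r : Fˣ, (sc r).val = Matrix.scalar (Fin 2) (r : F) := fun r => rfl
  have hscdet : ∀ r : Fˣ, (sc r).val.det = (r : F) ^ 2 := fun r => by rw [hsc]; simp
  have hker : ψ.ker = (powMonoidHom 3 : Fˣ →* Fˣ).ker.map sc := by
    ext A
    rw [MonoidHom.mem_ker]
    constructor
    · intro hA
      have hA' : emb Q A ∈ C := (QuotientGroup.eq_one_iff _).mp (congrArg Subtype.val hA)
      obtain ⟨r, hr, hr'⟩ := Matrix.SpecialLinearGroup.mem_center_iff.mp hA'
      have hblk : blk A = Matrix.scalar (Fin 3) r := by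
        have e : Q.val * blk A * (Q⁻¹).val = Matrix.scalar (Fin 3) r := hr'.symm
        have e' := congrArg (fun X => (Q⁻¹).val * X * Q.val) e
        beta_reduce at e'
        rw [← Matrix.mul_assoc, ← Matrix.mul_assoc, ← Units.val_mul, inv_mul_cancel, Units.val_one,
          Matrix.one_mul, Matrix.mul_assoc (blk A), ← Units.val_mul, inv_mul_cancel, Units.val_one,
          Matrix.mul_one] at e'
        rw [e', (Matrix.scalar_commute r (fun r' => mul_comm r r') (Q⁻¹).val).symm.eq, Matrix.mul_assoc,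
          ← Units.val_mul, inv_mul_cancel, Units.val_one, Matrix.mul_one]
      have hr3 : r ^ 3 = 1 := by simpa using hr
      have hr0 : r ≠ 0 := fun h => by rw [h] at hr3; norm_num at hr3
      refine ⟨Units.mk0 r hr0, ?_, ?_⟩
      · exact Units.ext (by simpa using hr3)
      · refine Units.ext ?_
        rw [hsc]
        ext i j
        have a := congrFun (congrFun hblk 1) 1
        have b := congrFun (congrFun hblk 1) 2
        have c := congrFun (congrFun hblk 2) 1
        have d := congrFun (congrFun hblk 2) 2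
        simp [blk] at a b c d
        fin_cases i <;> fin_cases j <;> simp [a, b, c, d]
    · rintro ⟨r, hr, rfl⟩
      refine Subtype.ext ((QuotientGroup.eq_one_iff _).mpr ?_)
      have hr3 : (r : F) ^ 3 = 1 := by simpa using congrArg Units.val hr
      have hblk : blk (sc r) = Matrix.scalar (Fin 3) (r : F) := by
        have e : ((Matrix.GeneralLinearGroup.det (sc r))⁻¹ : Fˣ).val = (r : F) := by
          rw [Units.val_inv_eq_inv_val, Matrix.GeneralLinearGroup.val_det_apply, hscdet]
          exact inv_eq_of_mul_eq_one_left (by rw [← pow_succ']; exact hr3)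
        unfold blk
        rw [e]
        ext i j
        fin_cases i <;> fin_cases j <;> simp [hsc]
      refine Matrix.SpecialLinearGroup.mem_center_iff.mpr ⟨(r : F), by simpa using hr3, ?_⟩
      show _ = Q.val * blk (sc r) * (Q⁻¹).val
      rw [hblk, (Matrix.scalar_commute (r : F) (fun r' => mul_comm _ r') Q.val).symm.eq, Matrix.mul_assoc,
        ← Units.val_mul, mul_inv_cancel, Units.val_one, Matrix.mul_one]
  refine ⟨ψ.ker, MonoidHom.normal_ker ψ, ?_, ?_, ⟨(QuotientGroup.quotientKerEquivOfSurjective ψ hsurj).symm⟩⟩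
  · rw [hker]
    rintro _ ⟨r, -, rfl⟩
    rw [mem_center_iff]
    intro B
    refine Units.ext ?_
    rw [Units.val_mul, Units.val_mul, hsc]
    exact (Matrix.scalar_commute (r : F) (fun r' => mul_comm _ r') B.val).symm.eq
  · have hinj : Function.Injective sc := fun r s hrs => Units.ext (by
      have := congrArg (fun X : GL (Fin 2) F => X.val 0 0) hrs
      simpa [hsc] using this)
    rw [hker, card_map_of_injective hinj, IsCyclic.card_powMonoidHom_ker, Nat.card_units, Nat.card_eq_fintype_card]


/-- Let F be a finite field of odd order q and t an involution of PSL(3,F). Then C(t) is isomorphic to the quotient of GL(2,F) by a central subgroup of order gcd(q−1, 3). -/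
theorem result {F : Type*} [Field F] [Fintype F] (hF : Odd (Fintype.card F)) (t : Matrix.ProjectiveSpecialLinearGroup (Fin 3) F) (ht : orderOf t = 2) : ∃ (Z : Subgroup (GL (Fin 2) F)) (_ : Z.Normal), Z ≤ Subgroup.center (GL (Fin 2) F) ∧ Nat.card Z = Nat.gcd (Fintype.card F - 1) 3 ∧ Nonempty (↥(Subgroup.centralizer ({t} : Set (Matrix.ProjectiveSpecialLinearGroup (Fin 3) F))) ≃* GL (Fin 2) F ⧸ Z) := by
  exact main hF t ht

end Cfsg.Agent.S1219
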