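import Cfsg.Statements.S1220
import Cfsg.Agent.Lib.StrongEmb.RankOne

set_option autoImplicit false
open Cfsg

namespace Cfsg.Agent.S1220

/-- Let H be a strongly embedded subgroup of the finite group G. Then either G acts doubly transitively on the cosets of H (H permutes transitively the cosets gH with g ∉ H), or every Sylow 2-subgroup of G is cyclic or generalized quaternion and G = O(G)H. -/
theorem result {G : Type*} [Group G] [Finite G] (H : Subgroup G) (hH : Cfsg.IsStronglyEmbedded H) : (∀ g₁ g₂ : G, g₁ ∉ H → g₂ ∉ H → ∃ h ∈ H, g₂⁻¹ * (h * g₁) ∈ H) ∨ ((∀ S : Sylow 2 G, IsCyclic S ∨ ∃ m : ℕ, 1 ≤ m ∧ Nonempty ((S : Subgroup G) ≃* QuaternionGroup (2 ^ m))) ∧ Cfsg.oddCore G ⊔ H = ⊤) := by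
  by_cases hfour : ∃ s t : G, s ∈ H ∧ t ∈ H ∧ orderOf s = 2 ∧ orderOf t = 2 ∧ s ≠ t ∧ Commute s t
  · left
    intro g₁ g₂ h₁ h₂
    have hne : ∀ g : G, g ∉ H → (QuotientGroup.mk 1 : G ⧸ H) ≠ QuotientGroup.mk g := fun g hg e =>
      hg (by simpa using QuotientGroup.eq.1 e)
    obtain ⟨h, hh, hh₂⟩ := Cfsg.Lib.StrongEmb.pretransitive_of_four hH hfour (hne g₁ h₁) (hne g₂ h₂)
    refine ⟨h, Cfsg.Lib.Invol.smul_coset_one_eq.1 hh, ?_⟩
    rw [MulAction.Quotient.smul_mk, eq_comm, QuotientGroup.eq] at hh₂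
    exact hh₂
  · exact Or.inr ⟨fun S => Cfsg.Lib.StrongEmb.sylow_cyclic_or_quaternion hH hfour S,
      Cfsg.Lib.StrongEmb.oddCore_sup_eq_top hH hfour⟩

end Cfsg.Agent.S1220
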