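import Cfsg.Statements.S1226
import Cfsg.Agent.Lib.Invol.Embedded
-- import your own Cfsg.Agent.* helpers here

set_option autoImplicit false
open Cfsg

namespace Cfsg.Agent.S1226

/-- Let G be a finite group with a Sylow 2-subgroup T that is neither cyclic nor normal, such that the centralizer of every involution is an elementary abelian 2-group. Then N_G(T) is a strongly embedded subgroup of G. -/
theorem result {G : Type*} [Group G] [Finite G] (T : Sylow 2 G) (hnc : ¬ IsCyclic (T : Subgroup G)) (hnn : ¬ (T : Subgroup G).Normal) (hC : ∀ t : G, orderOf t = 2 → IsMulCommutative (Subgroup.centralizer ({t} : Set G)) ∧ ∀ c ∈ Subgroup.centralizer ({t} : Set G), c ^ 2 = 1) : Cfsg.IsStronglyEmbedded (Subgroup.normalizer ((T : Subgroup G) : Set G)) := by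
  have : Fact (Nat.Prime 2) := ⟨Nat.prime_two⟩
  -- the centraliser of an involution of `T` is `T`
  have hne : (T : Subgroup G) ≠ ⊥ := fun h => hnc (by rw [h]; infer_instance)
  obtain ⟨k, hk⟩ := T.2.exists_card_eq
  have hk0 : k ≠ 0 := by
    rintro rfl
    exact hne (Subgroup.eq_bot_of_card_eq _ (by simpa using hk))
  have h2T : Even (Nat.card (T : Subgroup G)) := by rw [hk]; exact (Nat.even_pow).mpr ⟨even_two, hk0⟩
  have hCpg : ∀ t : G, orderOf t = 2 → IsPGroup 2 (Subgroup.centralizer ({t} : Set G)) :=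
    fun t ht c => ⟨1, Subtype.ext (by simpa using (hC t ht).2 c c.2)⟩
  have hCT : ∀ t ∈ T, orderOf t = 2 → Subgroup.centralizer ({t} : Set G) = (T : Subgroup G) := by
    intro t ht ht2
    -- a central involution of `T`
    have : Nontrivial (T : Subgroup G) := (Subgroup.nontrivial_iff_ne_bot _).mpr hne
    have hZ : Nontrivial (Subgroup.center (T : Subgroup G)) := T.2.center_nontrivial
    have hZe : Even (Nat.card (Subgroup.center (T : Subgroup G))) := by
      obtain ⟨j, hj⟩ := (T.2.to_subgroup (Subgroup.center (T : Subgroup G))).exists_card_eq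
      rw [hj]
      refine (Nat.even_pow).mpr ⟨even_two, ?_⟩
      rintro rfl
      have := Finite.one_lt_card (α := Subgroup.center (T : Subgroup G))
      simp [hj] at this
    obtain ⟨z, hz, hz2⟩ := Cfsg.Lib.Invol.exists_involution_of_even hZe
    have hzG : orderOf (z : G) = 2 := by rw [Subgroup.orderOf_coe, hz2]
    have h1 : Subgroup.centralizer ({(z : G)} : Set G) = (T : Subgroup G) :=
      T.3 (hCpg _ hzG) fun x hx => Subgroup.mem_centralizer_singleton_iff.mpr
        (congrArg Subtype.val ((Subgroup.mem_center_iff.mp hz) ⟨x, hx⟩) :)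
    have habel := (hC _ hzG).1
    rw [h1] at habel
    refine T.3 (hCpg t ht2) fun x hx => Subgroup.mem_centralizer_singleton_iff.mpr ?_
    exact congrArg Subtype.val (habel.is_comm.comm ⟨x, hx⟩ ⟨t, ht⟩) 
  set H := Subgroup.normalizer ((T : Subgroup G) : Set G) with hH
  have hHtop : H ≠ ⊤ := fun h => hnn (Subgroup.normalizer_eq_top_iff.mp h)
  have hle : (T : Subgroup G) ≤ H := Subgroup.le_normalizer
  have hHe : Even (Nat.card H) := h2T.trans_dvd (Subgroup.card_dvd_of_le hle)
  rw [Cfsg.Lib.Invol.stronglyEmbedded_iff hHtop hHe]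
  have hmemT : ∀ t ∈ H, orderOf t = 2 → t ∈ T := by
    intro t ht ht2
    have hP : IsPGroup 2 (Subgroup.zpowers t) :=
      IsPGroup.of_card (n := 1) (by rw [Nat.card_zpowers, ht2, pow_one])
    have hsup := IsPGroup.to_sup_of_normal_right' hP T.2
      (by rw [Subgroup.zpowers_le]; exact ht)
    have := T.3 hsup le_sup_right
    exact this.le ((le_sup_left : Subgroup.zpowers t ≤ Subgroup.zpowers t ⊔ (T : Subgroup G)) (Subgroup.mem_zpowers t))
  intro t ht ht2 c hc
  have htT := hmemT t ht ht2
  have hcT := hmemT _ hc (by rw [Cfsg.Lib.Invol.orderOf_conj_eq, ht2])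
  rw [hH, Subgroup.mem_normalizer_iff]
  intro x
  have e1 := SetLike.ext_iff.mp (hCT t htT ht2) x
  have e2 := SetLike.ext_iff.mp (hCT _ hcT (by rw [Cfsg.Lib.Invol.orderOf_conj_eq, ht2])) (c * x * c⁻¹)
  rw [Subgroup.mem_centralizer_singleton_iff] at e1 e2
  change x ∈ (T : Subgroup G) ↔ c * x * c⁻¹ ∈ (T : Subgroup G)
  rw [← e1, ← e2]
  constructor
  · intro h
    calc c * x * c⁻¹ * (c * t * c⁻¹) = c * (x * t) * c⁻¹ := by group
      _ = c * t * c⁻¹ * (c * x * c⁻¹) := by rw [h]; group
  · intro h
    calc x * t = c⁻¹ * (c * x * c⁻¹ * (c * t * c⁻¹)) * c := by group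
      _ = t * x := by rw [h]; group

end Cfsg.Agent.S1226
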