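import Cfsg.Statements.S1228
import Cfsg.Agent.Lib.Invol.ElementaryCentralizers
-- import your own Cfsg.Agent.* helpers here

set_option autoImplicit false
open Cfsg

namespace Cfsg.Agent.S1228

/-- Let G be a finite group with a Sylow 2-subgroup T that is neither cyclic nor normal, such that the centralizer of every involution is an elementary abelian 2-group; put H = N_G(T), let u be an involution outside H and D = H ∩ uHu⁻¹. Then N_G(D) = D ⊔ ⟨u⟩, and a coset gH is fixed by every element of D exactly when gH = H or gH = uH. -/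
theorem result {G : Type*} [Group G] [Finite G] (T : Sylow 2 G) (hnc : ¬ IsCyclic (T : Subgroup G)) (hnn : ¬ (T : Subgroup G).Normal) (hC : ∀ t : G, orderOf t = 2 → IsMulCommutative (Subgroup.centralizer ({t} : Set G)) ∧ ∀ c ∈ Subgroup.centralizer ({t} : Set G), c ^ 2 = 1) (u : G) (hu : orderOf u = 2) (huH : u ∉ Subgroup.normalizer ((T : Subgroup G) : Set G)) : Subgroup.normalizer ((Subgroup.normalizer ((T : Subgroup G) : Set G) ⊓ (Subgroup.normalizer ((T : Subgroup G) : Set G)).map (MulAut.conj u).toMonoidHom : Subgroup G) : Set G) = (Subgroup.normalizer ((T : Subgroup G) : Set G) ⊓ (Subgroup.normalizer ((T : Subgroup G) : Set G)).map (MulAut.conj u).toMonoidHom) ⊔ Subgroup.zpowers u ∧ ∀ g : G, ((∀ d ∈ Subgroup.normalizer ((T : Subgroup G) : Set G) ⊓ (Subgroup.normalizer ((T : Subgroup G) : Set G)).map (MulAut.conj u).toMonoidHom, d • (QuotientGroup.mk g : G ⧸ Subgroup.normalizer ((T : Subgroup G) : Set G)) = QuotientGroup.mk g) ↔ (QuotientGroup.mk g : G ⧸ Subgroup.normalizer ((T : Subgroup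 G) : Set G)) = QuotientGroup.mk 1 ∨ (QuotientGroup.mk g : G ⧸ Subgroup.normalizer ((T : Subgroup G) : Set G)) = QuotientGroup.mk u) := by
  have h : Cfsg.Lib.Invol.EA.Hyp T := ⟨hnc, hnn, hC⟩
  have huN : u ∈ Subgroup.normalizer (Cfsg.Lib.Invol.EA.DD T u : Set G) :=
    Subgroup.mem_normalizer_fintype fun d hd => Cfsg.Lib.Invol.EA.conj_mem_DD hu hd
  refine ⟨le_antisymm (fun g hg => ?_) (sup_le Subgroup.le_normalizer (Subgroup.zpowers_le.mpr huN)),
    fun g => ?_⟩
  · rcases Cfsg.Lib.Invol.EA.fixed h hu huH (g := g) (fun d hd => by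
      have := ((Subgroup.mem_normalizer_iff.mp (inv_mem hg) d).mp hd).1
      show g⁻¹ * d * g ∈ Subgroup.normalizer ((T : Subgroup G) : Set G)
      simpa using this) with h1 | h1
    · exact Subgroup.mem_sup_left (Cfsg.Lib.Invol.EA.normalizer_inf h hu huH h1 hg)
    · have h2 := Cfsg.Lib.Invol.EA.normalizer_inf h hu huH h1 (mul_mem (inv_mem huN) hg)
      rw [show g = u * (u⁻¹ * g) by group]
      exact mul_mem (Subgroup.mem_sup_right (Subgroup.mem_zpowers u)) (Subgroup.mem_sup_left h2)
  · constructor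
    · intro hfix
      rcases Cfsg.Lib.Invol.EA.fixed h hu huH (g := g)
        (fun d hd => Cfsg.Lib.Invol.smul_coset_eq_iff.mp (hfix d hd)) with h1 | h1
      · exact Or.inl (QuotientGroup.eq.mpr (by rw [mul_one]; exact inv_mem h1))
      · refine Or.inr (QuotientGroup.eq.mpr ?_)
        have h2 := inv_mem h1
        rw [Cfsg.Lib.Invol.inv_eq_self hu, mul_inv_rev, Cfsg.Lib.Invol.inv_eq_self hu] at h2
        exact h2
    · rintro (e | e) d hd <;> rw [e, Cfsg.Lib.Invol.smul_coset_eq_iff]
      · simpa using hd.1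
      · exact Cfsg.Lib.Invol.mem_conjMap.mp hd.2

end Cfsg.Agent.S1228
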