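import Cfsg.Statements.S1231
import Cfsg.Agent.Lib.Local.RankCore
-- import your own Cfsg.Agent.* helpers here

set_option autoImplicit false
open Cfsg

namespace Cfsg.Agent.S1231

/-- Let H be a subgroup of the finite group G, p a prime, k ≥ 1, and P a Sylow p-subgroup of H whose p-rank is at least k. Then N_G(X) ≤ H for every subgroup X of P of p-rank at least k if and only if H ∩ gHg⁻¹ has p-rank less than k for every g ∉ H. -/
theorem result {G : Type*} [Group G] [Finite G] {p : ℕ} [Fact p.Prime] (k : ℕ) (hk : 1 ≤ k) (H : Subgroup G) (P : Sylow p ↥H) (hP : ¬ Cfsg.PRankLE p (k - 1) ↥(P : Subgroup ↥H)) : (∀ X : Subgroup G, X ≤ (P : Subgroup ↥H).map H.subtype → ¬ Cfsg.PRankLE p (k - 1) ↥X → Subgroup.normalizer (X : Set G) ≤ H) ↔ (∀ g : G, g ∉ H → Cfsg.PRankLE p (k - 1) ↥(H ⊓ H.map (MulAut.conj g).toMonoidHom)) := by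
  have hconj : ∀ (A : Subgroup G) (u : G), ¬ Cfsg.PRankLE p (k - 1) ↥A →
      ¬ Cfsg.PRankLE p (k - 1) ↥(A.map (MulAut.conj u).toMonoidHom) := by
    intro A u hA
    obtain ⟨E, hE, hEc, hEp, hEk⟩ := (Cfsg.Lib.Local.not_pRankLE_subgroup_iff A).mp hA
    refine (Cfsg.Lib.Local.not_pRankLE_subgroup_iff _).mpr
      ⟨E.map (MulAut.conj u).toMonoidHom, Subgroup.map_mono hE, ⟨⟨?_⟩⟩, ?_, ?_⟩
    · rintro ⟨_, a, ha, rfl⟩ ⟨_, b, hb, rfl⟩
      refine Subtype.ext ?_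
      simp only [Subgroup.coe_mul, ← map_mul]
      exact congrArg _ (congrArg Subtype.val (hEc.is_comm.comm ⟨a, ha⟩ ⟨b, hb⟩))
    · rintro _ ⟨a, ha, rfl⟩
      rw [← map_pow, hEp a ha, map_one]
    · rwa [Subgroup.card_map_of_injective (MulAut.conj u).injective]
  have hmono : ∀ A B : Subgroup G, A ≤ B → ¬ Cfsg.PRankLE p (k - 1) ↥A →
      ¬ Cfsg.PRankLE p (k - 1) ↥B := by
    intro A B hAB hA
    obtain ⟨E, hE, hE'⟩ := (Cfsg.Lib.Local.not_pRankLE_subgroup_iff A).mp hA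
    exact (Cfsg.Lib.Local.not_pRankLE_subgroup_iff B).mpr ⟨E, hE.trans hAB, hE'⟩
  constructor
  · intro h g hg
    by_contra hD
    obtain ⟨E, hE, hEc, hEp, hEk⟩ := (Cfsg.Lib.Local.not_pRankLE_subgroup_iff _).mp hD
    have hEg : IsPGroup p E := fun e => ⟨1, Subtype.ext (by simpa using hEp e e.2)⟩
    refine Cfsg.Lib.Local.family_not_mem_inter (Fam := fun A => ¬ Cfsg.PRankLE p (k - 1) ↥A)
      hmono hconj (fun A hAH hA hF => ?_) hg hE hEg
      ((Cfsg.Lib.Local.not_pRankLE_subgroup_iff E).mpr ⟨E, le_rfl, hEc, hEp, hEk⟩)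
    exact Cfsg.Lib.Local.family_normalizers_of_sylow P hconj h hAH hA hF
  · intro h X hX hXr g hg
    by_contra hgH
    refine hmono X _ (le_inf (hX.trans (Subgroup.map_subtype_le _)) ?_) hXr (h g hgH)
    rw [← Cfsg.Lib.Core.map_conj_eq_of_mem_normalizer hg]
    exact Subgroup.map_mono (hX.trans (Subgroup.map_subtype_le _))

end Cfsg.Agent.S1231
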