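import Cfsg.Statements.S1234
import Cfsg.Agent.Lib.HaradaE8.Main

set_option autoImplicit false
open Cfsg

namespace Cfsg.Agent.S1234

/-- Let S be a finite 2-group and Q ≤ S a subgroup of order 32 having an elementary abelian subgroup E of order 16 and an involution s ∉ E whose centralizer in E has order 4 (so Q ≅ (Z₂ × Z₂) ≀ Z₂). If C_S(Z(Q)) = Q, then every section of S has 2-rank at most 4. -/
theorem result {S : Type*} [Group S] [Finite S] (hS : IsPGroup 2 S) (Q E : Subgroup S) (hEQ : E ≤ Q) (hE : Cfsg.IsElementaryAbelian 2 E) (hE16 : Nat.card E = 16) (hQ32 : Nat.card Q = 32) (s : S) (hsQ : s ∈ Q) (hsE : s ∉ E) (hs : orderOf s = 2) (hfix : Nat.card ↥(E ⊓ Subgroup.centralizer ({s} : Set S)) = 4) (hC : Subgroup.centralizer (((Subgroup.center Q).map Q.subtype : Subgroup S) : Set S) = Q) : Cfsg.SectionalPRankLE 2 4 S := by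
  set W : Subgroup S := E ⊓ Subgroup.centralizer ({s} : Set S) with hWdef
  set A : Subgroup S := Q ⊓ Subgroup.centralizer ({s} : Set S) with hAdef
  have hss : s * s = 1 := by rw [← pow_two, ← hs, pow_orderOf_eq_one]
  have hEc : ∀ p ∈ E, ∀ q ∈ E, p * q = q * p := fun p hp q hq => by
    haveI := hE.1
    exact congrArg Subtype.val (mul_comm' (⟨p, hp⟩ : E) ⟨q, hq⟩)
  have hidx : (E.subgroupOf Q).index = 2 := by
    have h := Subgroup.card_mul_index (E.subgroupOf Q)
    rw [Nat.card_congr (Subgroup.subgroupOfEquivOfLe hEQ).toEquiv, hE16, hQ32] at h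
    omega
  have hdec : ∀ q ∈ Q, q ∈ E ∨ q * s ∈ E := fun q hq => by
    by_cases h : q ∈ E
    · exact Or.inl h
    · exact Or.inr ((Subgroup.mul_mem_iff_of_index_two hidx (a := (⟨q, hq⟩ : Q)) (b := ⟨s, hsQ⟩)).2
        ⟨fun hh => absurd hh h, fun hh => absurd hh hsE⟩)
  have hsA : s ∈ A := ⟨hsQ, Subgroup.mem_centralizer_singleton_iff.2 rfl⟩
  have hWA : W ≤ A := fun x hx => ⟨hEQ hx.1, hx.2⟩
  have hsW : s ∉ W := fun h => hsE h.1
  have hAdec : ∀ q ∈ A, q ∈ W ∨ q * s ∈ W := fun q hq => by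
    rcases hdec q hq.1 with h | h
    · exact Or.inl ⟨h, hq.2⟩
    · exact Or.inr ⟨h, mul_mem hq.2 (Subgroup.mem_centralizer_singleton_iff.2 rfl)⟩
  have hA2 : ∀ q ∈ A, q * q = 1 := fun q hq => by
    rcases hAdec q hq with h | h
    · rw [← pow_two]; exact hE.2 q h.1
    · have hc : q * s = s * q := Subgroup.mem_centralizer_singleton_iff.1 hq.2
      calc q * q = q * q * (s * s) := by rw [hss, mul_one]
        _ = q * (q * s) * s := by group
        _ = q * (s * q) * s := by rw [hc]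
        _ = (q * s) * (q * s) := by group
        _ = 1 := by rw [← pow_two]; exact hE.2 _ h.1
  have hA8 : Nat.card A = 8 := by
    have hi : (W.subgroupOf A).index = 2 := Subgroup.index_eq_two_iff.2 ⟨⟨s, hsA⟩, fun q => by
      show Xor' ((q : S) * s ∈ W) ((q : S) ∈ W)
      rcases hAdec q q.2 with h | h
      · exact Or.inr ⟨h, fun h' => hsW ((Subgroup.mul_mem_cancel_left _ h).1 h')⟩
      · exact Or.inl ⟨h, fun h' => hsW ((Subgroup.mul_mem_cancel_left _ h').1 h)⟩⟩
    have h := Subgroup.card_mul_index (W.subgroupOf A)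
    rw [Nat.card_congr (Subgroup.subgroupOfEquivOfLe hWA).toEquiv, hfix, hi] at h
    omega
  refine Cfsg.Lib.HaradaE8.sectional A hA2 hA8 ?_ hS
  refine le_antisymm (fun x hx => ?_) (fun x hx => Subgroup.mem_centralizer_iff.2 fun y hy => ?_)
  · have hxs : s * x = x * s := Subgroup.mem_centralizer_iff.1 hx s hsA
    refine ⟨?_, Subgroup.mem_centralizer_singleton_iff.2 hxs.symm⟩
    rw [← hC]
    refine Subgroup.mem_centralizer_iff.2 ?_
    rintro _ ⟨c, hc, rfl⟩
    refine Subgroup.mem_centralizer_iff.1 hx _ ?_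
    refine ⟨c.2, Subgroup.mem_centralizer_singleton_iff.2 ?_⟩
    exact (congrArg Subtype.val (Subgroup.mem_center_iff.1 hc ⟨s, hsQ⟩)).symm
  · have e : ∀ t ∈ A, t⁻¹ = t := fun t ht => inv_eq_of_mul_eq_one_right (hA2 t ht)
    rw [← e _ (mul_mem hy hx), mul_inv_rev, e y hy, e x hx]

end Cfsg.Agent.S1234
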