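import Cfsg.Statements.S1236
import Cfsg.Agent.Lib.TwoGroup.QDSubgroups
import Cfsg.Agent.Lib.Invol.KleinFour
-- import your own Cfsg.Agent.* helpers here

set_option autoImplicit false
open Cfsg

namespace Cfsg.Agent.S1236

theorem zmod_two_torsion {m : ℕ} [NeZero m] {a b : ZMod m} (ha : a + a = 0) (hb : b + b = 0)
    (ha0 : a ≠ 0) (hb0 : b ≠ 0) : a = b := by
  have key : ∀ c : ZMod m, c + c = 0 → c ≠ 0 → c.val + c.val = m := by
    intro c hc hc0
    have h1 : ((c.val + c.val : ℕ) : ZMod m) = 0 := by push_cast; rw [ZMod.natCast_zmod_val]; exact hc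
    obtain ⟨k, hk⟩ := (ZMod.natCast_eq_zero_iff _ _).mp h1
    have hlt := c.val_lt
    have hpos : 0 < c.val := Nat.pos_of_ne_zero (by simpa [ZMod.val_eq_zero] using hc0)
    rcases k with _ | _ | k
    · omega
    · omega
    · rw [Nat.mul_add, Nat.mul_add] at hk; omega
  apply ZMod.val_injective
  have := key a ha ha0
  have := key b hb hb0
  omega

theorem dihedral_four_centralizer {m : ℕ} [NeZero m] {T : Subgroup (DihedralGroup m)}
    (hT : IsKleinFour T) : Subgroup.centralizer (T : Set (DihedralGroup m)) ≤ T := by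
  have hsq : ∀ {x}, x ∈ T → x * x = 1 := fun hx => Cfsg.Lib.Invol.klein_mul_self hx
  have hrot : ∀ {j : ZMod m}, DihedralGroup.r j ∈ T → j + j = 0 := fun hj => by
    have h := hsq hj
    rw [DihedralGroup.r_mul_r, DihedralGroup.one_def] at h
    exact DihedralGroup.r.inj h
  obtain ⟨a, b, ha, hb, ha1, hb1, hab⟩ : ∃ a b, a ∈ T ∧ b ∈ T ∧ a ≠ 1 ∧ b ≠ 1 ∧ a ≠ b := by
    haveI := hT
    have h4 : 2 < Nat.card T := by rw [IsKleinFour.card_four]; norm_num
    haveI : Finite T := IsKleinFour.instFinite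
    let _ := Fintype.ofFinite T
    rw [Nat.card_eq_fintype_card] at h4
    obtain ⟨x, y, z, hxy, hxz, hyz⟩ := Fintype.two_lt_card_iff.mp h4
    have hne : ∀ {u v : T}, u ≠ v → (u : DihedralGroup m) ≠ v := fun h e => h (Subtype.ext e)
    by_cases h : (x : DihedralGroup m) = 1
    · exact ⟨y, z, y.2, z.2, fun e => hne hxy (h.trans e.symm), fun e => hne hxz (h.trans e.symm),
        hne hyz⟩
    by_cases h' : (y : DihedralGroup m) = 1
    · exact ⟨x, z, x.2, z.2, h, fun e => hne hyz (h'.trans e.symm), hne hxz⟩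
    exact ⟨x, y, x.2, y.2, h, h', hne hxy⟩
  obtain ⟨i, hi⟩ : ∃ i, DihedralGroup.sr i ∈ T := by
    rcases a with j | i
    · rcases b with k | i
      · refine absurd ?_ hab
        rw [zmod_two_torsion (hrot ha) (hrot hb) (fun e => ha1 (by rw [e]; rfl))
          (fun e => hb1 (by rw [e]; rfl))]
      · exact ⟨i, hb⟩
    · exact ⟨i, ha⟩
  obtain ⟨l, hl, hl0⟩ : ∃ l, DihedralGroup.r l ∈ T ∧ l ≠ 0 := by
    rcases a with j | k
    · exact ⟨j, ha, fun e => ha1 (by rw [e]; rfl)⟩
    · rcases b with j | k'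
      · exact ⟨j, hb, fun e => hb1 (by rw [e]; rfl)⟩
      · refine ⟨k' - k, ?_, fun e => hab (by rw [sub_eq_zero.mp e])⟩
        simpa using mul_mem ha hb
  have hmem : ∀ j : ZMod m, j + j = 0 → DihedralGroup.r j ∈ T := fun j hj => by
    by_cases h0 : j = 0
    · rw [h0]; exact one_mem T
    · rw [zmod_two_torsion hj (hrot hl) h0 hl0]; exact hl
  intro x hx
  have hc := Subgroup.mem_centralizer_iff.mp hx _ hi
  rcases x with j | k
  · refine hmem j ?_
    simp only [DihedralGroup.sr_mul_r, DihedralGroup.r_mul_sr, DihedralGroup.sr.injEq] at hc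
    linear_combination hc
  · simp only [DihedralGroup.sr_mul_sr, DihedralGroup.r.injEq] at hc
    have h1 := hmem (k - i) (by linear_combination hc)
    simpa using mul_mem hi h1


/-- Let R be a finite group, t a central involution of R such that R ⧸ ⟨t⟩ is dihedral (of order ≥ 4) or quasi-dihedral, and A ≤ R an elementary abelian subgroup of order 8 containing t. Then C_R(A) = A. -/
theorem result {R : Type*} [Group R] [Finite R] (t : R) (ht : orderOf t = 2) (htz : t ∈ Subgroup.center R) [(Subgroup.zpowers t).Normal] (hq : (∃ m : ℕ, 2 ≤ m ∧ Nonempty (R ⧸ Subgroup.zpowers t ≃* DihedralGroup m)) ∨ Cfsg.IsQuasiDihedral (R ⧸ Subgroup.zpowers t)) (A : Subgroup R) (hA : Cfsg.IsElementaryAbelian 2 A) (hA8 : Nat.card A = 8) (htA : t ∈ A) : Subgroup.centralizer (A : Set R) = A := by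
  classical
  set f := QuotientGroup.mk' (Subgroup.zpowers t) with hf
  have hker : f.ker ≤ A := by
    rw [hf, QuotientGroup.ker_mk']; exact Subgroup.zpowers_le.mpr htA
  have hB4 : Nat.card (A.map f) = 4 := by
    have h := Subgroup.relIndex_mul_relIndex (⊥ : Subgroup R) f.ker A bot_le hker
    rw [Subgroup.relIndex_bot_left, Subgroup.relIndex_bot_left, hA8, Subgroup.relIndex_ker] at h
    have hk : Nat.card f.ker = 2 := by rw [hf, QuotientGroup.ker_mk', Nat.card_zpowers, ht]
    rw [hk] at h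
    have he : Nat.card (f '' (A : Set R)) = Nat.card (A.map f) := rfl
    omega
  have hexp : ∀ g : A.map f, g * g = 1 := by
    rintro ⟨_, a, ha, rfl⟩
    apply Subtype.ext
    show f a * f a = 1
    rw [← map_mul, ← pow_two, hA.2 a ha, map_one]
  have hB : IsKleinFour (A.map f) := ⟨hB4, by
    haveI : Nontrivial (A.map f) := Finite.one_lt_card_iff_nontrivial.mp (by omega)
    exact Monoid.exponent_eq_prime_iff Nat.prime_two |>.mpr fun g hg =>
      orderOf_eq_prime (by rw [pow_two]; exact hexp g) hg⟩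
  have hC : ∀ U : Subgroup (R ⧸ Subgroup.zpowers t), IsKleinFour U →
      Subgroup.centralizer (U : Set (R ⧸ Subgroup.zpowers t)) ≤ U := by
    intro U hU
    rcases hq with ⟨m, hm, ⟨e⟩⟩ | hq
    · haveI : NeZero m := ⟨by omega⟩
      intro x hx
      have hU' : IsKleinFour (U.map e.toMonoidHom) := ⟨by
        rw [Subgroup.card_map_of_injective e.injective]; exact hU.card_four, by
        exact (Monoid.exponent_eq_of_mulEquiv (e.subgroupMap U)).symm.trans hU.exponent_two⟩
      have h1 := dihedral_four_centralizer hU' (x := e x) (Subgroup.mem_centralizer_iff.mpr (by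
        rintro _ ⟨u, hu, rfl⟩
        show e u * e x = e x * e u
        rw [← map_mul, Subgroup.mem_centralizer_iff.mp hx u hu, map_mul]))
      obtain ⟨u, hu, he⟩ := h1
      rwa [← e.injective he]
    · obtain ⟨n, ⟨d⟩⟩ := Cfsg.Lib.TwoGroup.exists_sd hq
      exact (d.four_centralizer hU).le
  haveI := hA.1
  refine le_antisymm (fun x hx => ?_) (Subgroup.le_centralizer A)
  have h1 := hC _ hB (x := f x) (Subgroup.mem_centralizer_iff.mpr (by
    rintro _ ⟨a, ha, rfl⟩
    rw [← map_mul, Subgroup.mem_centralizer_iff.mp hx a ha, map_mul]))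
  obtain ⟨a, ha, he⟩ := h1
  have h2 : a⁻¹ * x ∈ f.ker := by rw [MonoidHom.mem_ker, map_mul, map_inv, he, inv_mul_cancel]
  simpa using mul_mem ha (hker h2)

end Cfsg.Agent.S1236
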