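import Cfsg.Statements.S1239
import Cfsg.Agent.Lib.TwoGroup.CentreModCore
-- import your own Cfsg.Agent.* helpers here

set_option autoImplicit false
open Cfsg

namespace Cfsg.Agent.S1239

/-- Let X be a finite group whose Sylow 2-subgroup S is quasi-dihedral or wreathed, and suppose some involution of S is isolated in X. Then the product of the largest normal odd-order subgroup O(X) with the centre of S is normal in X. -/
theorem result {X : Type*} [Group X] [Finite X] (S : Sylow 2 X) (hS : Cfsg.IsQuasiDihedral (S : Subgroup X) ∨ Cfsg.IsWreathed (S : Subgroup X)) (z : X) (hzS : z ∈ S) (hz : Cfsg.IsIsolatedInvolution z) : (Cfsg.oddCore X ⊔ (Subgroup.center (S : Subgroup X)).map (S : Subgroup X).subtype).Normal := by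
  classical
  haveI : Fact (Nat.Prime 2) := ⟨Nat.prime_two⟩
  set f := QuotientGroup.mk' (Cfsg.oddCore X) with hf
  set T := (Subgroup.center (S : Subgroup X)).map (S : Subgroup X).subtype with hT
  suffices hc : T.map f ≤ Subgroup.center (X ⧸ Cfsg.oddCore X) by
    haveI : (T.map f).Normal := ⟨fun w hw k => by
      rw [Subgroup.mem_center_iff.mp (hc hw) k, mul_inv_cancel_right]; exact hw⟩
    have e : Cfsg.oddCore X ⊔ T = (T.map f).comap f := by
      rw [Subgroup.comap_map_eq, hf, QuotientGroup.ker_mk', sup_comm]
    rw [e]
    exact Subgroup.Normal.comap inferInstance _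
  exact Cfsg.Lib.TwoGroup.center_map_le_center_mod_core S hS z hzS hz

end Cfsg.Agent.S1239
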