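import Cfsg.Statements.S1243
import Cfsg.Agent.Lib.Invol.SylowTools
-- import your own Cfsg.Agent.* helpers here

set_option autoImplicit false
open Cfsg

namespace Cfsg.Agent.S1243

/-- Let T be a Sylow p-subgroup of the finite group G and W ≤ T a subgroup weakly closed in T. If d and g d g⁻¹ both centralize W, then g d g⁻¹ = h d h⁻¹ for some h ∈ N_G(W). -/
theorem result {G : Type*} [Group G] [Finite G] {p : ℕ} [Fact p.Prime] (T : Sylow p G) (W : Subgroup G) (hW : Cfsg.IsWeaklyClosed W (T : Subgroup G)) (d g : G) (hd : d ∈ Subgroup.centralizer (W : Set G)) (hgd : g * d * g⁻¹ ∈ Subgroup.centralizer (W : Set G)) : ∃ h ∈ Subgroup.normalizer (W : Set G), h * d * h⁻¹ = g * d * g⁻¹ := by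
  set C := Subgroup.centralizer ({d} : Set G)
  set W' := W.map (MulAut.conj g⁻¹).toMonoidHom with hW'
  have hWp : IsPGroup p W := T.2.to_le hW.1
  have hWC : W ≤ C := fun w hw => Subgroup.mem_centralizer_singleton_iff.mpr
    (Subgroup.mem_centralizer_iff.mp hd w hw)
  have hW'C : W' ≤ C := by
    rintro _ ⟨w, hw, rfl⟩
    have h := Subgroup.mem_centralizer_iff.mp hgd w hw
    refine Subgroup.mem_centralizer_singleton_iff.mpr ?_
    simp only [MulEquiv.coe_toMonoidHom, MulAut.conj_apply, inv_inv]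
    calc g⁻¹ * w * g * d = g⁻¹ * (w * (g * d * g⁻¹)) * g := by group
      _ = d * (g⁻¹ * w * g) := by rw [h]; group
  obtain ⟨c, hcC, R, hR, hWR, hW'R⟩ :=
    Cfsg.Lib.Invol.exists_common_pGroup C hWC hW'C hWp (hWp.map _)
  obtain ⟨h, hh⟩ := Cfsg.Lib.Invol.exists_conj_mem_sylow T hR
  have h1 : W.map (MulAut.conj h).toMonoidHom = W := hW.2 h (by
    rintro _ ⟨x, hx, rfl⟩; exact hh x (hWR hx))
  have h2 : W.map (MulAut.conj (h * (c * g⁻¹))).toMonoidHom = W := hW.2 _ (by
    rintro _ ⟨x, hx, rfl⟩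
    have := hh _ (hW'R _ ⟨x, hx, rfl⟩)
    simpa [mul_assoc] using this)
  have h3 : c * g⁻¹ ∈ Subgroup.normalizer (W : Set G) := by
    have a1 : ∀ {a : G}, W.map (MulAut.conj a).toMonoidHom = W → a ∈ Subgroup.normalizer (W : Set G) := by
      intro a ha
      rw [Subgroup.mem_normalizer_iff]
      intro x
      conv_rhs => rw [← ha]
      exact (Subgroup.mem_map_iff_mem (f := (MulAut.conj a).toMonoidHom) (MulAut.conj a).injective).symm
    have := Subgroup.mul_mem _ (Subgroup.inv_mem _ (a1 h1)) (a1 h2)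
    rwa [inv_mul_cancel_left] at this
  refine ⟨(c * g⁻¹)⁻¹, Subgroup.inv_mem _ h3, ?_⟩
  have hc' := Subgroup.mem_centralizer_singleton_iff.mp hcC
  calc (c * g⁻¹)⁻¹ * d * (c * g⁻¹)⁻¹⁻¹ = g * (c⁻¹ * (d * c)) * g⁻¹ := by group
    _ = g * d * g⁻¹ := by rw [← hc', inv_mul_cancel_left]

end Cfsg.Agent.S1243
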