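import Cfsg.Statements.S1244
import Cfsg.Agent.Lib.Fusion.Abelian
-- import your own Cfsg.Agent.* helpers here

set_option autoImplicit false
open Cfsg

namespace Cfsg.Agent.S1244

/-- Let G be a finite group with no subgroup of index 2 whose Sylow 2-subgroup S is commutative, and let R ≤ S be a subgroup whose 2-rank is exactly one less than the 2-rank r of S. Then every involution of S is conjugate, by an element of N_G(S), to an element of R. -/
theorem result {G : Type*} [Group G] [Finite G] (hG : ∀ H : Subgroup G, H.index ≠ 2) (S : Sylow 2 G) (hS : IsMulCommutative (S : Subgroup G)) (r : ℕ) (hr1 : 1 ≤ r) (hSr : Cfsg.PRankLE 2 r (S : Subgroup G) ∧ ¬ Cfsg.PRankLE 2 (r - 1) (S : Subgroup G)) (R : Subgroup G) (hRS : R ≤ S) (hRr : Cfsg.PRankLE 2 (r - 1) R ∧ (r = 1 ∨ ¬ Cfsg.PRankLE 2 (r - 2) R)) (t : G) (ht : orderOf t = 2) (htS : t ∈ S) : ∃ n ∈ Subgroup.normalizer ((S : Subgroup G) : Set G), n * t * n⁻¹ ∈ R := by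
  classical
  haveI : Fact (Nat.Prime 2) := ⟨Nat.prime_two⟩
  haveI : IsMulCommutative ↥(S : Subgroup G) := hS
  obtain ⟨hS1, hS2⟩ := hSr
  obtain ⟨hR1, hR2⟩ := hRr
  -- no index two means the focal subgroup is everything
  have htop : Cfsg.pResidual 2 G = ⊤ := by
    by_contra hne
    haveI : Nontrivial (G ⧸ Cfsg.pResidual 2 G) := QuotientGroup.nontrivial_iff.2 hne
    have hp := Cfsg.Lib.Fusion.isPGroup_quotient_pResidual (p := 2) (G := G)
    obtain ⟨k, hk0, hk⟩ := hp.nontrivial_iff_card.1 inferInstance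
    obtain ⟨M, hM⟩ := Sylow.exists_subgroup_card_pow_prime 2
      (show 2 ^ (k - 1) ∣ Nat.card (G ⧸ Cfsg.pResidual 2 G) from hk ▸ pow_dvd_pow 2 (Nat.sub_le k 1))
    refine hG (M.comap (QuotientGroup.mk' _)) ?_
    rw [Subgroup.index_comap_of_surjective _ (QuotientGroup.mk'_surjective _)]
    have := M.card_mul_index
    rw [hM, hk, show k = k - 1 + 1 by omega, pow_succ] at this
    simpa using Nat.eq_of_mul_eq_mul_left (Nat.two_pow_pos _) this
  have hSc := Cfsg.Lib.Fusion.pResidual_inf_eq_of_abelian S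
  rw [htop, top_inf_eq] at hSc
  set N := Subgroup.normalizer ((S : Subgroup G) : Set G) with hN
  have hSN : (S : Subgroup G) ≤ N := Subgroup.le_normalizer
  have hSab : ∀ a ∈ (S : Subgroup G), ∀ b ∈ (S : Subgroup G), a * b = b * a := fun a ha b hb =>
    congrArg Subtype.val (hS.is_comm.comm ⟨a, ha⟩ ⟨b, hb⟩)
  set SN := (S : Subgroup G).subgroupOf N with hSNdef
  haveI hSNn : SN.Normal := Subgroup.normal_in_normalizer
  haveI : IsMulCommutative ↥SN := ⟨⟨fun a b => Subtype.ext (Subtype.ext (hSab _ a.2 _ b.2))⟩⟩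
  let T : Sylow 2 ↥N := S.subtype hSN
  have hfix : ∀ z ∈ (S : Subgroup G), (∀ n ∈ N, n * z = z * n) → z = 1 := by
    intro z hz hzn
    haveI : IsMulCommutative ↥(T : Subgroup ↥N) := by
      rw [show (T : Subgroup ↥N) = SN from rfl]; infer_instance
    have h1 := Cfsg.Lib.Fusion.inf_commutator_inf_center_eq_bot_sylow T
    have hle : (⁅(S : Subgroup G), N⁆ : Subgroup G) ≤ (commutator ↥N).map N.subtype := by
      rw [_root_.commutator_def, Subgroup.map_commutator, ← MonoidHom.range_eq_map, Subgroup.range_subtype]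
      exact Subgroup.commutator_mono hSN le_rfl
    obtain ⟨z', hz', e⟩ := hle (hSc ▸ hz)
    have h2 : z' ∈ (T : Subgroup ↥N) ⊓ commutator ↥N ⊓ Subgroup.center ↥N := by
      refine ⟨⟨?_, hz'⟩, Subgroup.mem_center_iff.2 fun n => Subtype.ext ?_⟩
      · show (z' : G) ∈ (S : Subgroup G)
        exact (show (z' : G) = z from e) ▸ hz
      · show (n : G) * (z' : G) = (z' : G) * n
        rw [show (z' : G) = z from e]; exact hzn n n.2
    rw [h1, Subgroup.mem_bot] at h2
    rw [← e, h2, map_one]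
  -- the elements of order two
  let Ω : Subgroup G :=
    { carrier := {s | s ∈ (S : Subgroup G) ∧ s ^ 2 = 1}
      one_mem' := ⟨one_mem _, one_pow _⟩
      mul_mem' := fun {a b} ha hb => ⟨(S : Subgroup G).mul_mem ha.1 hb.1, by
        rw [(show Commute a b from hSab _ ha.1 _ hb.1).mul_pow, ha.2, hb.2, one_mul]⟩
      inv_mem' := fun {a} ha => ⟨(S : Subgroup G).inv_mem ha.1, by rw [inv_pow, ha.2, inv_one]⟩ }
  have hΩS : Ω ≤ (S : Subgroup G) := fun s hs => hs.1
  set ΩR := Ω ⊓ R with hΩR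
  haveI : IsMulCommutative ↥Ω := ⟨⟨fun a b => Subtype.ext (hSab _ (hΩS a.2) _ (hΩS b.2))⟩⟩
  have hcardΩ : Nat.card Ω ≤ 2 ^ r := by
    have h := hS1 (Ω.subgroupOf (S : Subgroup G)) ⟨⟨fun a b => Subtype.ext (Subtype.ext (hSab _ a.1.2 _ b.1.2))⟩⟩
      (fun a ha => Subtype.ext (by simpa using (Subgroup.mem_subgroupOf.1 ha).2))
    rwa [Nat.card_congr (Subgroup.subgroupOfEquivOfLe hΩS).toEquiv] at h
  have hcardR : Nat.card ΩR ≤ 2 ^ (r - 1) := by
    have h := hR1 (ΩR.subgroupOf R) ⟨⟨fun a b => Subtype.ext (Subtype.ext (hSab _ (hRS a.1.2) _ (hRS b.1.2)))⟩⟩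
      (fun a ha => Subtype.ext (by simpa using (Subgroup.mem_subgroupOf.1 ha).1.2))
    rwa [Nat.card_congr (Subgroup.subgroupOfEquivOfLe (inf_le_right : ΩR ≤ R)).toEquiv] at h
  have hR' : 2 ^ (r - 1) ≤ Nat.card ΩR := by
    rcases eq_or_ne r 1 with rfl | hr
    · exact Nat.one_le_iff_ne_zero.2 Nat.card_pos.ne'
    · have hR2' := hR2.resolve_left hr
      rw [Cfsg.PRankLE] at hR2'
      push Not at hR2'
      obtain ⟨A, hAc, hA2, hAcard⟩ := hR2'
      have hle : A.map R.subtype ≤ ΩR := by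
        rintro _ ⟨a, ha, rfl⟩
        exact ⟨⟨hRS a.2, by simpa using congrArg Subtype.val (hA2 a ha)⟩, a.2⟩
      have h1 := Subgroup.card_le_of_le hle
      rw [Subgroup.card_map_of_injective R.subtype_injective] at h1
      have h2 : 2 ^ (r - 2) < Nat.card ΩR := lt_of_lt_of_le hAcard h1
      obtain ⟨i, hi⟩ := IsPGroup.iff_card.1 ((S.2 : IsPGroup 2 (S : Subgroup G)).to_le (inf_le_left.trans hΩS : ΩR ≤ _))
      rw [hi] at h2 ⊢
      have := (Nat.pow_lt_pow_iff_right (by norm_num : 1 < 2)).1 h2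
      exact Nat.pow_le_pow_right (by norm_num) (by omega)
  set ΩR' := ΩR.subgroupOf Ω with hΩR'
  have hidx : ΩR'.index ≤ 2 := by
    have h1 := ΩR'.card_mul_index
    rw [hΩR', Nat.card_congr (Subgroup.subgroupOfEquivOfLe (inf_le_left : ΩR ≤ Ω)).toEquiv,
      le_antisymm hcardR hR'] at h1
    refine Nat.le_of_mul_le_mul_left (h1.le.trans (hcardΩ.trans ?_)) (Nat.two_pow_pos (r - 1))
    rw [← pow_succ, Nat.sub_add_cancel hr1]
  by_contra hcon
  push Not at hcon
  have htΩ : t ∈ Ω := ⟨htS, by rw [← ht]; exact pow_orderOf_eq_one t⟩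
  have hconjΩ : ∀ n ∈ N, ∀ s ∈ Ω, n * s * n⁻¹ ∈ Ω := fun n hn s hs =>
    ⟨(Subgroup.mem_normalizer_iff.1 hn s).1 hs.1, by rw [conj_pow, hs.2, mul_one, mul_inv_cancel]⟩
  haveI : Fintype (↥N ⧸ SN) := Fintype.ofFinite _
  letI : CommGroup ↥Ω := { (inferInstance : Group ↥Ω) with mul_comm := fun a b => Subtype.ext (hSab _ (hΩS a.2) _ (hΩS b.2)) }
  let F : ↥N ⧸ SN → ↥Ω := fun q => ⟨(q.out : G) * t * (q.out : G)⁻¹, hconjΩ _ q.out.2 t htΩ⟩
  set z : ↥Ω := ∏ q, F q with hz
  have hout : ∀ (m : ↥N) (q : ↥N ⧸ SN), (m : G) * (F q : G) * (m : G)⁻¹ = (F (m • q) : G) := by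
    intro m q
    have h1 : (m • q).out⁻¹ * (m * q.out) ∈ SN := by
      rw [← QuotientGroup.eq, QuotientGroup.out_eq']
      conv_lhs => rw [← QuotientGroup.out_eq' q]
      rfl
    have h2 := hSab _ (Subgroup.mem_subgroupOf.1 h1) t htS
    simp only [Subgroup.coe_mul, InvMemClass.coe_inv] at h2
    show (m : G) * ((q.out : G) * t * (q.out : G)⁻¹) * (m : G)⁻¹ = ((m • q).out : G) * t * ((m • q).out : G)⁻¹
    generalize ((m • q).out : G) = w at h2 ⊢
    calc (m : G) * ((q.out : G) * t * (q.out : G)⁻¹) * (m : G)⁻¹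
        = w * (w⁻¹ * ((m : G) * q.out) * t) * (w⁻¹ * ((m : G) * q.out))⁻¹ * w⁻¹ := by group
      _ = _ := by rw [h2]; group
  have hzfix : ∀ n ∈ N, n * (z : G) = (z : G) * n := by
    intro n hn
    let c : ↥Ω →* ↥Ω := MonoidHom.mk' (fun s => ⟨n * s * n⁻¹, hconjΩ n hn s s.2⟩)
      fun a b => Subtype.ext (by simp)
    have e : c z = z := by
      rw [hz, map_prod]
      exact Fintype.prod_equiv (MulAction.toPerm (⟨n, hn⟩ : ↥N)) _ _ fun q => Subtype.ext (hout ⟨n, hn⟩ q)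
    exact mul_inv_eq_iff_eq_mul.1 (congrArg Subtype.val e)
  have hz1 : z = 1 := Subtype.ext (hfix z (hΩS z.2) hzfix)
  have hodd : Odd (Fintype.card (↥N ⧸ SN)) := by
    rw [← Nat.card_eq_fintype_card, ← Subgroup.index_eq_card, Nat.odd_iff, ← Nat.two_dvd_ne_zero]
    exact T.not_dvd_index
  have hx : ∀ q, F q ∉ ΩR' := fun q hq => hcon _ q.out.2 (Subgroup.mem_subgroupOf.1 hq).2
  have hidx2 : ΩR'.index = 2 := by
    have h0 : ΩR'.index ≠ 0 := Subgroup.index_ne_zero_of_finite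
    have h1 : ΩR'.index ≠ 1 := fun e =>
      hx (QuotientGroup.mk (1 : ↥N)) (by rw [Subgroup.index_eq_one.1 e]; exact Subgroup.mem_top _)
    omega
  have hkey : ∀ s : Finset (↥N ⧸ SN), (∏ q ∈ s, F q ∈ ΩR' ↔ Even s.card) := by
    intro s
    induction s using Finset.induction with
    | empty => simp
    | @insert a s ha ih =>
      rw [Finset.prod_insert ha, Subgroup.mul_mem_iff_of_index_two hidx2, Finset.card_insert_of_notMem ha,
        Nat.even_add_one, ih]
      exact ⟨fun h e => hx a (h.2 e), fun h => ⟨fun h' => absurd h' (hx a), fun h' => absurd h' h⟩⟩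
  have h1 := (hkey Finset.univ).1 (by rw [← hz, hz1]; exact ΩR'.one_mem)
  rw [Finset.card_univ] at h1
  exact (Nat.not_even_iff_odd.2 hodd) h1

end Cfsg.Agent.S1244
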