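import Cfsg.Statements.S1246
import Cfsg.Agent.Lib.Local.CharPCriteria
-- import your own Cfsg.Agent.* helpers here

set_option autoImplicit false
open Cfsg

namespace Cfsg.Agent.S1246

set_option maxHeartbeats 800000 in
/-- Let V ≤ U be p-subgroups of the finite group G. If the generalized Fitting subgroup of C_G(V) is a p-group, then so is that of C_G(U). -/
theorem result {G : Type*} [Group G] [Finite G] {p : ℕ} [Fact p.Prime] (U V : Subgroup G) (hVU : V ≤ U) (hU : IsPGroup p U) (hV : IsPGroup p ↥(Cfsg.generalizedFittingSubgroup ↥(Subgroup.centralizer (V : Set G)))) : IsPGroup p ↥(Cfsg.generalizedFittingSubgroup ↥(Subgroup.centralizer (U : Set G))) := by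
  classical
  open Cfsg.Lib.Local in
  have key : ∀ W : Subgroup G, IsPGroup p ↥(Cfsg.generalizedFittingSubgroup ↥(Subgroup.centralizer (W : Set G))) ↔
      CharPIn p (Subgroup.centralizer (W : Set G)) := by
    intro W
    rw [charPIn_iff, ← Cfsg.Lib.Local.generalizedFitting_eq_pCore_iff]
    constructor
    · intro h
      haveI hl : (Cfsg.layer ↥(Subgroup.centralizer (W : Set G))).Normal := ⟨fun n hn g => by
        rw [← Cfsg.Lib.Core.map_layer_equiv (MulAut.conj g)]
        exact ⟨n, hn, rfl⟩⟩
      haveI := Cfsg.Lib.Core.fittingSubgroup_normal' ↥(Subgroup.centralizer (W : Set G))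
      haveI : (Cfsg.generalizedFittingSubgroup ↥(Subgroup.centralizer (W : Set G))).Normal :=
        Subgroup.sup_normal _ _
      exact le_antisymm (Cfsg.Lib.Core.le_pCore h)
        ((Cfsg.Lib.Core.pCore_le_fittingSubgroup p _).trans Cfsg.Lib.Core.fitting_le_generalizedFitting)
    · intro h
      rw [h]
      exact Cfsg.Lib.Core.pCore_isPGroup p _
  rw [key] at hV ⊢
  suffices h : ∀ n, ∀ W : Subgroup G, W ≤ U → Nat.card U ≤ Nat.card W + n →
      Cfsg.Lib.Local.CharPIn p (Subgroup.centralizer (W : Set G)) →
        Cfsg.Lib.Local.CharPIn p (Subgroup.centralizer (U : Set G)) from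
    h (Nat.card U) V hVU (Nat.le_add_left _ _) hV
  intro n
  induction n with
  | zero =>
    intro W hWU hc h
    rwa [Subgroup.eq_of_le_of_card_ge hWU (by omega)] at h
  | succ n ih =>
    intro W hWU hc h
    rcases eq_or_ne W U with rfl | hne
    · exact h
    have hWp : IsPGroup p W := hU.to_le hWU
    haveI : Group.IsNilpotent ↥U := hU.isNilpotent
    have h1 : W.subgroupOf U < ⊤ := by
      rw [lt_top_iff_ne_top, Ne, Subgroup.subgroupOf_eq_top]
      exact fun hle => hne (le_antisymm hWU hle)
    have h2 := Group.normalizerCondition_of_isNilpotent (G := U) _ h1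
    set W' := U ⊓ Subgroup.normalizer (W : Set G) with hW'
    have hlt : W < W' := by
      refine lt_of_le_of_ne (le_inf hWU Subgroup.le_normalizer) fun e => ?_
      obtain ⟨β, hβN, hβW⟩ := SetLike.exists_of_lt h2
      refine hβW ?_
      rw [Subgroup.mem_subgroupOf, e]
      refine ⟨β.2, Subgroup.mem_normalizer_fintype fun w hw => ?_⟩
      exact (Subgroup.mem_normalizer_iff.1 hβN ⟨w, hWU hw⟩).1 hw
    have hcard : Nat.card W < Nat.card W' := lt_of_le_of_ne (Subgroup.card_le_of_le hlt.le)
      fun e => hlt.ne (Subgroup.eq_of_le_of_card_ge hlt.le e.ge)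
    refine ih W' inf_le_left (by omega) ?_
    have hN : Cfsg.Lib.Local.CharPIn p (Subgroup.normalizer (W : Set G)) := by
      refine Cfsg.Lib.Local.charPIn_up h (Subgroup.centralizer_le_normalizer _)
        (Cfsg.Lib.Local.normalizer_le_normalizer_centralizer W) ?_
      exact inf_le_right.trans (Subgroup.centralizer_le
        (Cfsg.Lib.Local.le_pCoreOf Subgroup.le_normalizer le_rfl hWp))
    have hle : Subgroup.centralizer (W' : Set G) ≤ Subgroup.normalizer (W : Set G) :=
      (Subgroup.centralizer_le hlt.le).trans (Subgroup.centralizer_le_normalizer _)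
    exact Cfsg.Lib.Local.charPIn_local hN inf_le_right (hU.to_le inf_le_left) hle
      (Subgroup.centralizer_le_normalizer _) inf_le_right (Or.inr le_rfl)

end Cfsg.Agent.S1246
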