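import Cfsg.Statements.S1247
import Cfsg.Agent.Lib.Local.BenderSelfCentralizing
-- import your own Cfsg.Agent.* helpers here

set_option autoImplicit false
open Cfsg

namespace Cfsg.Agent.S1247

open Subgroup Cfsg.Lib Cfsg.Lib.Local

/-- Let G be a non-abelian finite simple group, A a maximal subgroup, F = F*(A) its generalized Fitting subgroup (viewed in G), and S ≤ F a subgroup subnormal in F with C_F(S) ≤ S. Let B be any subgroup of G containing S. Then (a) for every prime q not dividing |F(A)|, O_q(B) ∩ A = 1; and (b) for every prime p dividing |F(A)|, O_p(B) commutes elementwise with the subgroup of F generated by its elements of order prime to p. -/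
theorem result {G : Type*} [Group G] [Finite G] [IsSimpleGroup G] (hna : ¬ IsMulCommutative G) (A : Subgroup G) (hA : IsCoatom A) (S : Subgroup G) (hSF : S ≤ (Cfsg.generalizedFittingSubgroup ↥A).map A.subtype) (hSsn : (S.subgroupOf ((Cfsg.generalizedFittingSubgroup ↥A).map A.subtype)).IsSubnormal) (hSC : (Cfsg.generalizedFittingSubgroup ↥A).map A.subtype ⊓ Subgroup.centralizer (S : Set G) ≤ S) (B : Subgroup G) (hSB : S ≤ B) : (∀ q : ℕ, q.Prime → ¬ q ∣ Nat.card (Cfsg.fittingSubgroup ↥A) → (Cfsg.pCore q ↥B).map B.subtype ⊓ A = ⊥) ∧ (∀ p : ℕ, p.Prime → p ∣ Nat.card (Cfsg.fittingSubgroup ↥A) → ∀ x ∈ (Cfsg.pCore p ↥B).map B.subtype, ∀ y ∈ (Cfsg.pResidual p ↥(Cfsg.generalizedFittingSubgroup ↥A)).map ((Cfsg.generalizedFittingSubgroup ↥A).subtype) , x * (A.subtype y) = (A.subtype y) * x) := by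
  classical
  set F := Cfsg.generalizedFittingSubgroup ↥A with hF
  set Fm := F.map A.subtype with hFm
  set S' := S.subgroupOf A with hS'
  have hFA : Fm ≤ A := map_subtype_le F
  have hS'F : S' ≤ F := fun s hs => by
    obtain ⟨f, hf, he⟩ := hSF (mem_subgroupOf.1 hs)
    exact (Subtype.ext he : f = s) ▸ hf
  have hS'sn : S'.IsSubnormal := by
    let e : ↥Fm ≃* ↥F := (equivMapOfInjective F A.subtype A.subtype_injective).symm
    have h1 : (S'.subgroupOf F).IsSubnormal := by
      have h := hSsn.map (f := e.toMonoidHom) e.surjective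
      convert h using 1
      ext f
      simp only [mem_map, mem_subgroupOf, hS']
      constructor
      · intro hf
        exact ⟨equivMapOfInjective F A.subtype A.subtype_injective f, hf,
          (equivMapOfInjective F A.subtype A.subtype_injective).symm_apply_apply f⟩
      · rintro ⟨x, hx, rfl⟩
        obtain ⟨f, rfl⟩ := (equivMapOfInjective F A.subtype A.subtype_injective).surjective x
        rw [show e.toMonoidHom (equivMapOfInjective F A.subtype A.subtype_injective f) = f from
          (equivMapOfInjective F A.subtype A.subtype_injective).symm_apply_apply f]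
        exact hx
    have h2 := h1.trans' (inferInstance : F.Normal).isSubnormal
    rwa [map_subgroupOf_eq_of_le hS'F] at h2
  have hS'C : F ⊓ centralizer (S' : Set ↥A) ≤ S' := fun x hx => mem_subgroupOf.2 (hSC ⟨⟨x, hx.1, rfl⟩,
    mem_centralizer_iff.2 fun s hs =>
      congrArg Subtype.val (mem_centralizer_iff.1 hx.2 ⟨s, hFA (hSF hs)⟩ (mem_subgroupOf.2 hs))⟩)
  have hinv : ∀ q, S' ≤ normalizer ((((Cfsg.pCore q ↥B).map B.subtype).subgroupOf A : Subgroup ↥A) : Set ↥A) := by
    intro q s hs
    refine mem_normalizer_fintype fun x hx => ?_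
    rw [SetLike.mem_coe, mem_subgroupOf] at hx ⊢
    obtain ⟨b, hb, he⟩ := hx
    refine ⟨⟨s, hSB hs⟩ * b * ⟨s, hSB hs⟩⁻¹, Normal.conj_mem inferInstance b hb _, ?_⟩
    rw [map_mul, map_mul, map_inv, he]
    rfl
  have hpg : ∀ q, q.Prime → IsPGroup q (((Cfsg.pCore q ↥B).map B.subtype).subgroupOf A) := fun q hq => by
    haveI : Fact q.Prime := ⟨hq⟩
    exact ((Core.pCore_isPGroup q ↥B).map B.subtype).comap_subtype
  refine ⟨fun q hq hnd => ?_, fun p hp hpd x hx y hy => ?_⟩
  · have h := SelfCent.invariant_eq_bot S' hS'F hS'sn hS'C hq hnd (hpg q hq) (hinv q)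
    rwa [subgroupOf_eq_bot, disjoint_iff] at h
  haveI : Fact p.Prime := ⟨hp⟩
  set P := (Cfsg.pCore p ↥B).map B.subtype with hP
  set X := P.subgroupOf A with hX
  set Fp := Cfsg.pCore p ↥A
  have hnorm : ∀ W : Subgroup ↥A, W.Normal → W ≠ ⊥ → centralizer ((W.map A.subtype : Subgroup G) : Set G) ≤ A := by
    intro W hW hne
    refine (centralizer_le_normalizer _).trans ?_
    have hle : A ≤ normalizer ((W.map A.subtype : Subgroup G) : Set G) := by
      intro a ha
      refine mem_normalizer_fintype ?_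
      rintro _ ⟨w, hw, rfl⟩
      exact ⟨⟨a, ha⟩ * w * ⟨a, ha⟩⁻¹, hW.conj_mem w hw _, rfl⟩
    rcases hle.eq_or_lt with h | h
    · exact h.ge
    · exfalso
      have htop := hA.2 _ h
      haveI : (W.map A.subtype).Normal := normalizer_eq_top_iff.1 htop
      rcases (inferInstance : (W.map A.subtype).Normal).eq_bot_or_eq_top with h' | h'
      · exact hne ((map_eq_bot_iff_of_injective _ A.subtype_injective).1 h')
      · exact hA.1 (eq_top_iff.2 (h'.ge.trans (map_subtype_le W)))
  have hgF : ∀ {t : ℕ}, t.Prime → Cfsg.pCore t ↥A ≤ F := fun {t} ht => by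
    haveI : Fact t.Prime := ⟨ht⟩
    exact (Core.pCore_le_fittingSubgroup t _).trans Core.fitting_le_generalizedFitting
  have hZle : ∀ {t : ℕ} (ht : t.Prime), Cfsg.pCore t ↥A ⊓ centralizer (F : Set ↥A) ≤ S' := fun {t} ht z hz =>
    hS'C ⟨hgF ht hz.1, mem_centralizer_iff.2 fun s hs => mem_centralizer_iff.1 hz.2 s (hS'F hs)⟩
  have hZne : ∀ {t : ℕ} (ht : t.Prime), t ∣ Nat.card (Cfsg.fittingSubgroup ↥A) →
      Cfsg.pCore t ↥A ⊓ centralizer (F : Set ↥A) ≠ ⊥ := by
    intro t ht hd h
    haveI : Fact t.Prime := ⟨ht⟩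
    obtain ⟨⟨w, hwF⟩, hw⟩ := exists_prime_orderOf_dvd_card' (G := Cfsg.fittingSubgroup ↥A) t hd
    rw [Subgroup.orderOf_mk] at hw
    have hwP : w ∈ Cfsg.pCore t ↥A :=
      SelfCent.mem_pCore_of_fitting ht hwF (k := 1) (by rw [pow_one, ← hw]; exact pow_orderOf_eq_one w)
    have hw1 : w ≠ 1 := fun e => ht.ne_one (hw.symm.trans (by rw [e, orderOf_one]))
    haveI : Nontrivial (Cfsg.pCore t ↥A) := ⟨⟨w, hwP⟩, 1, fun e => hw1 (congrArg Subtype.val e)⟩
    haveI := (Core.pCore_isPGroup t ↥A).center_nontrivial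
    obtain ⟨z, hz⟩ := exists_ne (1 : center (Cfsg.pCore t ↥A))
    refine hz (Subtype.ext (Subtype.ext ?_))
    have hm : ((z : Cfsg.pCore t ↥A) : ↥A) ∈ Cfsg.pCore t ↥A ⊓ centralizer (F : Set ↥A) := by
      refine ⟨(z : Cfsg.pCore t ↥A).2, le_centralizer_iff.1 ?_ (mem_zpowers _)⟩
      refine SelfCent.generalizedFitting_le (fun e he => mem_centralizer_iff.2 fun w hw => ?_) (fun r hr e he =>
        mem_centralizer_iff.2 fun w hw => ?_)
      · obtain ⟨j, rfl⟩ := mem_zpowers_iff.1 hw
        exact (Core.commutator_eq_bot_iff_forall.1 Core.commutator_layer_fitting e he _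
          ((Cfsg.fittingSubgroup ↥A).zpow_mem (Core.pCore_le_fittingSubgroup t _ (z : Cfsg.pCore t ↥A).2) j)).symm
      · obtain ⟨j, rfl⟩ := mem_zpowers_iff.1 hw
        by_cases hrt : r = t
        · subst hrt
          exact ((show Commute ((z : Cfsg.pCore r ↥A) : ↥A) e from
            (congrArg Subtype.val (mem_center_iff.1 z.2 ⟨e, he⟩)).symm).zpow_left j).eq
        · exact Core.commutator_eq_bot_iff_forall.1 (SelfCent.pCore_commute ht hr (Ne.symm hrt)) _
            ((Cfsg.pCore t ↥A).zpow_mem (z : Cfsg.pCore t ↥A).2 j) e he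
    rw [h, mem_bot] at hm
    exact hm
  -- `p'`-elements of `S` centralize `P`
  have hPp : IsPGroup p P := (Core.pCore_isPGroup p ↥B).map B.subtype
  have hBP : B ≤ normalizer (P : Set G) := by
    intro b hb
    refine mem_normalizer_fintype ?_
    rintro _ ⟨w, hw, rfl⟩
    exact ⟨⟨b, hb⟩ * w * ⟨b, hb⟩⁻¹, Normal.conj_mem inferInstance w hw _, rfl⟩
  have hcomm : ∀ a : ↥A, a ∈ S' → (orderOf a).Coprime p → (a : G) ∈ centralizer (P : Set G) := by
    intro a ha hac
    set Z := (Fp ⊓ centralizer (F : Set ↥A)).map A.subtype with hZ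
    have hZB : Z ≤ B := fun z hz => by
      obtain ⟨w, hw, rfl⟩ := hz
      exact hSB (mem_subgroupOf.1 (hZle hp hw))
    have hCZ := hnorm _ inferInstance (hZne hp hpd)
    have h := Coprime.commutator_eq_bot_of_AxB (p := p) P Z (zpowers (a : G)) hPp
      (((Core.pCore_isPGroup p ↥A).to_le inf_le_left).map A.subtype)
      (by rw [Nat.card_zpowers, Subgroup.orderOf_coe]; exact hac)
      (hZB.trans hBP) ((zpowers_le.2 (hSB (mem_subgroupOf.1 ha))).trans hBP)
      (zpowers_le.2 (mem_centralizer_iff.2 ?_)) ?_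
    · exact le_centralizer_iff.1 (commutator_eq_bot_iff_le_centralizer.1 h) (mem_zpowers _)
    · rintro _ ⟨w, hw, rfl⟩
      exact (congrArg Subtype.val (mem_centralizer_iff.1 hw.2 a (hS'F ha))).symm
    · intro v hv
      refine mem_centralizer_iff.2 ?_
      rintro _ ⟨j, rfl⟩
      have hvA : v ∈ A := hCZ hv.2
      have hc := mem_centralizer_iff.1 (SelfCent.invariant_commute S' hS'F hS'sn hS'C hp (hpg p hp) (hinv p)
        (hS'F ha) hac) ⟨v, hvA⟩ (mem_subgroupOf.2 hv.1)
      exact ((show Commute (a : G) v from (congrArg Subtype.val hc).symm).zpow_left j).eq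
  have key : (∀ y ∈ F, (orderOf y).Coprime p → y = 1) ∨ P ≤ A := by
    by_cases hr : ∃ r, r.Prime ∧ r ≠ p ∧ r ∣ Nat.card (Cfsg.fittingSubgroup ↥A)
    · obtain ⟨r, hr, hrp, hrd⟩ := hr
      haveI : Fact r.Prime := ⟨hr⟩
      refine Or.inr (le_trans (le_centralizer_iff.1 ?_) (hnorm _ inferInstance (hZne hr hrd)))
      rintro _ ⟨w, hw, rfl⟩
      obtain ⟨k, hk⟩ := Core.pCore_isPGroup r ↥A ⟨w, hw.1⟩
      exact hcomm w (hZle hr hw) (((Nat.coprime_primes hr hp).2 hrp).pow_left k |>.coprime_dvd_left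
        (orderOf_dvd_of_pow_eq_one (congrArg Subtype.val hk)))
    push Not at hr
    by_cases hE : Cfsg.layer ↥A = ⊥
    · left
      intro y hy hyc
      have hle : F ≤ Fp := SelfCent.generalizedFitting_le (hE.le.trans bot_le) fun r hr' => by
        by_cases h : r = p
        · subst h; exact le_rfl
        · haveI : Fact r.Prime := ⟨hr'⟩
          have hb : Cfsg.pCore r ↥A = ⊥ := by
            by_contra hne
            haveI := (Subgroup.nontrivial_iff_ne_bot _).2 hne
            obtain ⟨k, hk0, hk⟩ := (Core.pCore_isPGroup r ↥A).nontrivial_iff_card.1 inferInstance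
            exact hr r hr' h (((dvd_pow_self r hk0.ne').trans hk.symm.dvd).trans
              (card_dvd_of_le (Core.pCore_le_fittingSubgroup r _)))
          exact hb.le.trans bot_le
      obtain ⟨k, hk⟩ := Core.pCore_isPGroup p ↥A ⟨y, hle hy⟩
      exact orderOf_eq_one_iff.1 (Nat.eq_one_of_dvd_coprimes (hyc.pow_right k) dvd_rfl
        (orderOf_dvd_of_pow_eq_one (congrArg Subtype.val hk)))
    · right
      refine le_trans (le_centralizer_iff.1 ?_) (hnorm _ inferInstance hE)
      have hEC : Cfsg.layer ↥A ≤ (centralizer (P : Set G)).comap A.subtype := by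
        have hEp : ⁅Cfsg.layer ↥A, Cfsg.layer ↥A⁆ = Cfsg.layer ↥A := Core.layer_perfect
        set E := Cfsg.layer ↥A
        have hres : ((Cfsg.pResidual p ↥E).map E.subtype) ≤ (centralizer (P : Set G)).comap A.subtype := by
          rw [Cfsg.pResidual, MonoidHom.map_closure, Subgroup.closure_le]
          rintro _ ⟨e, he, rfl⟩
          exact hcomm e (SelfCent.layer_le S' hS'sn hS'C e.2) (by rwa [Subgroup.orderOf_coe])
        have htop : Cfsg.pResidual p ↥E = ⊤ := by
          haveI := Fusion.pResidual_normal p E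
          haveI : Group.IsPerfect ↥E := Subgroup.isPerfect_iff.2 hEp
          haveI hperf : Group.IsPerfect (↥E ⧸ Cfsg.pResidual p ↥E) :=
            Group.IsPerfect.ofSurjective (f := QuotientGroup.mk' _) (QuotientGroup.mk'_surjective _)
          by_contra hne
          haveI : Nontrivial (↥E ⧸ Cfsg.pResidual p ↥E) := QuotientGroup.nontrivial_iff.2 hne
          exact Group.IsPerfect.not_isSolvable (↥E ⧸ Cfsg.pResidual p ↥E)
            (haveI := (Fusion.isPGroup_quotient_pResidual (p := p) (G := ↥E)).isNilpotent; inferInstance)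
        rw [htop, ← MonoidHom.range_eq_map, range_subtype] at hres
        exact hres
      rintro _ ⟨e, he, rfl⟩
      exact hEC he
  have hyF : y ∈ F := map_subtype_le _ hy
  rcases key with h | h
  · suffices y = 1 by rw [this]; simp
    have hle : (Cfsg.pResidual p ↥F).map F.subtype ≤ ⊥ := by
      rw [Cfsg.pResidual, MonoidHom.map_closure, Subgroup.closure_le]
      rintro _ ⟨f, hf, rfl⟩
      exact h f f.2 (by rwa [Subgroup.orderOf_coe])
    exact hle hy
  · have hle : (Cfsg.pResidual p ↥F).map F.subtype ≤ centralizer (X : Set ↥A) := by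
      rw [Cfsg.pResidual, MonoidHom.map_closure, Subgroup.closure_le]
      rintro _ ⟨f, hf, rfl⟩
      exact SelfCent.invariant_commute S' hS'F hS'sn hS'C hp (hpg p hp) (hinv p) f.2 (by
        show (orderOf (f : ↥A)).Coprime p
        rwa [Subgroup.orderOf_coe])
    exact congrArg Subtype.val (mem_centralizer_iff.1 (hle hy) ⟨x, h hx⟩ (mem_subgroupOf.2 hx))

end Cfsg.Agent.S1247
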