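import Cfsg.Statements.S1249
import Cfsg.Agent.Lib.Invol.SylowTools
-- import your own Cfsg.Agent.* helpers here

set_option autoImplicit false
open Cfsg

namespace Cfsg.Agent.S1249

/-- Let P and Q be Sylow p-subgroups of the finite group G both containing the subgroup A. If A is strongly closed in P, then A is strongly closed in Q. -/
theorem result {G : Type*} [Group G] [Finite G] {p : ℕ} [Fact p.Prime] (P Q : Sylow p G) (A : Subgroup G) (hAQ : A ≤ Q) (hA : Cfsg.IsStronglyClosed A (P : Subgroup G)) : Cfsg.IsStronglyClosed A (Q : Subgroup G) := by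
  obtain ⟨h, hh⟩ := Cfsg.Lib.Invol.exists_conj_mem_sylow P Q.2
  refine ⟨hAQ, fun x hx g hg => ?_⟩
  have hmap : A.map (MulAut.conj h).toMonoidHom = A := by
    apply Subgroup.eq_of_le_of_card_ge
    · rintro _ ⟨a, ha, rfl⟩
      exact hA.2 a ha h (hh a (hAQ ha))
    · rw [Nat.card_congr (A.equivMapOfInjective (MulAut.conj h).toMonoidHom (MulAut.conj h).injective).toEquiv]
  have h1 := hA.2 x hx (h * g) (by
    rw [show h * g * x * (h * g)⁻¹ = h * (g * x * g⁻¹) * h⁻¹ by group]; exact hh _ hg)
  rw [← hmap, show h * g * x * (h * g)⁻¹ = (MulAut.conj h).toMonoidHom (g * x * g⁻¹) by simp [mul_assoc]] at h1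
  exact (Subgroup.mem_map_iff_mem (MulAut.conj h).injective).mp h1

end Cfsg.Agent.S1249
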