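import Cfsg.Statements.S1250
import Cfsg.Agent.Lib.Invol.SylowTools
-- import your own Cfsg.Agent.* helpers here

set_option autoImplicit false
open Cfsg

namespace Cfsg.Agent.S1250

/-- Let S be a Sylow p-subgroup of the finite group G, A ≤ S strongly closed in S, and N a normal subgroup. Then the image of A in G ⧸ N is strongly closed in the image of S (which is a Sylow p-subgroup of G ⧸ N). -/
theorem result {G : Type*} [Group G] [Finite G] {p : ℕ} [Fact p.Prime] (S : Sylow p G) (A : Subgroup G) (hA : Cfsg.IsStronglyClosed A (S : Subgroup G)) (N : Subgroup G) [N.Normal] : Cfsg.IsStronglyClosed (A.map (QuotientGroup.mk' N)) ((S : Subgroup G).map (QuotientGroup.mk' N)) := by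
  refine ⟨Subgroup.map_mono hA.1, ?_⟩
  rintro _ ⟨x, hx, rfl⟩ y hy
  obtain ⟨g, rfl⟩ := QuotientGroup.mk_surjective y
  set K := (S : Subgroup G) ⊔ N with hK
  set v := g * x * g⁻¹ with hv
  have hvK : v ∈ K := by
    obtain ⟨s, hs, hse⟩ := hy
    have h2 : s⁻¹ * v ∈ N := by
      rw [← QuotientGroup.eq]; simpa [hv] using hse
    have := K.mul_mem ((le_sup_left : (S : Subgroup G) ≤ K) hs) ((le_sup_right : N ≤ K) h2)
    rwa [mul_inv_cancel_left] at this
  have hvp : IsPGroup p (Subgroup.zpowers v) := by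
    have h := (S.2.to_le (Subgroup.zpowers_le.mpr (hA.1 hx))).map (MulAut.conj g).toMonoidHom
    rwa [MonoidHom.map_zpowers, show (MulAut.conj g).toMonoidHom x = v from rfl] at h
  have hvK' : Subgroup.zpowers v ≤ K := Subgroup.zpowers_le.mpr hvK
  obtain ⟨⟨c, hcK⟩, hc⟩ := Cfsg.Lib.Invol.exists_conj_mem_sylow (S.subtype (le_sup_left : (S : Subgroup G) ≤ K))
    (hvp.of_equiv (Subgroup.subgroupOfEquivOfLe hvK').symm)
  have hcv : c * v * c⁻¹ ∈ (S : Subgroup G) :=
    hc ⟨v, hvK⟩ (show (⟨v, hvK⟩ : K) ∈ (Subgroup.zpowers v).subgroupOf K from Subgroup.mem_zpowers v)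
  obtain ⟨n, hn, s, hs, rfl⟩ : ∃ n ∈ N, ∃ s ∈ (S : Subgroup G), s * n = c := by
    rw [Subgroup.mem_sup_of_normal_right] at hcK
    obtain ⟨s, hs, n, hn, h⟩ := hcK
    exact ⟨n, hn, s, hs, h⟩
  have hnv : n * v * n⁻¹ ∈ (S : Subgroup G) := by
    have := (S : Subgroup G).mul_mem ((S : Subgroup G).mul_mem ((S : Subgroup G).inv_mem hs) hcv) hs
    rwa [show s⁻¹ * (s * n * v * (s * n)⁻¹) * s = n * v * n⁻¹ by group] at this
  have hnvA := hA.2 x hx (n * g) (by rw [show n * g * x * (n * g)⁻¹ = n * v * n⁻¹ by rw [hv]; group]; exact hnv)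
  refine ⟨n * g * x * (n * g)⁻¹, hnvA, ?_⟩
  simp [(QuotientGroup.eq_one_iff n).mpr hn]

end Cfsg.Agent.S1250
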