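import Cfsg.Statements.S1251
import Cfsg.Agent.Lib.ZStar.Main
import Cfsg.Agent.Lib.Local.Sylow
-- import your own Cfsg.Agent.* helpers here

set_option autoImplicit false
open Cfsg

namespace Cfsg.Agent.S1251

/-- Let S be a Sylow 2-subgroup of the finite group G and A ≤ S strongly closed in S. If H is a subgroup normalized by A with no nontrivial normal subgroup of odd order and A ∩ H = 1, then A ≤ C_G(H). -/
theorem result {G : Type*} [Group G] [Finite G] (S : Sylow 2 G) (A : Subgroup G) (hA : Cfsg.IsStronglyClosed A (S : Subgroup G)) (H : Subgroup G) (hAH : A ≤ Subgroup.normalizer (H : Set G)) (hO : Cfsg.oddCore ↥H = ⊥) (hdisj : A ⊓ H = ⊥) : A ≤ Subgroup.centralizer (H : Set G) := by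
  classical
  haveI : Fact (Nat.Prime 2) := ⟨Nat.prime_two⟩
  have hA2 : IsPGroup 2 A := (S.2 : IsPGroup 2 (S : Subgroup G)).to_le hA.1
  have hnH : ∀ a ∈ A, ∀ h ∈ H, a * h * a⁻¹ ∈ H := fun a ha h hh => (Subgroup.mem_normalizer_iff.1 (hAH ha) h).1 hh
  -- an `A`-invariant Sylow subgroup of `H`, inside a Sylow subgroup containing `A`
  set K := A ⊔ H with hK
  haveI hHn : (H.subgroupOf K).Normal :=
    (Subgroup.normal_subgroupOf_iff_le_normalizer le_sup_right).2 (sup_le hAH Subgroup.le_normalizer)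
  obtain ⟨R, hR⟩ := (hA2.of_equiv (Subgroup.subgroupOfEquivOfLe (le_sup_left : A ≤ K)).symm :
    IsPGroup 2 ↥(A.subgroupOf K)).exists_le_sylow
  set R' := (R : Subgroup ↥K).map K.subtype with hR'
  have hAR : A ≤ R' := fun a ha => ⟨⟨a, Subgroup.mem_sup_left ha⟩, hR (show (⟨a, Subgroup.mem_sup_left ha⟩ : ↥K) ∈ A.subgroupOf K from ha), rfl⟩
  obtain ⟨S', hS'⟩ := (R.2.map K.subtype : IsPGroup 2 ↥R').exists_le_sylow
  set T := R' ⊓ H with hT
  have hTsyl : ¬ 2 ∣ T.relIndex H := by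
    have h1 := Cfsg.Lib.Local.not_dvd_relIndex_of_normal R (H.subgroupOf K)
    rw [← Subgroup.relIndex_map_map_of_injective _ _ K.subtype_injective, Subgroup.map_subgroupOf_eq_of_le le_sup_right] at h1
    rwa [hT, Subgroup.inf_relIndex_right]
  obtain ⟨g, hg⟩ := MulAction.exists_smul_eq G S' S
  have hmem : ∀ y, y ∈ (S' : Subgroup G) → g * y * g⁻¹ ∈ (S : Subgroup G) := fun y hy => by
    rw [← hg, Sylow.coe_subgroup_smul]
    exact ⟨y, hy, rfl⟩
  have hgA : ∀ a ∈ A, g * a * g⁻¹ ∈ A := fun a ha => hA.2 a ha g (hmem a (hS' (hAR ha)))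
  have hA' : ∀ a ∈ A, ∀ k : G, k * a * k⁻¹ ∈ (S' : Subgroup G) → k * a * k⁻¹ ∈ A := by
    intro a ha k hk
    have h1 : (g * k) * a * (g * k)⁻¹ ∈ A := hA.2 a ha _ (by
      have := hmem _ hk
      simpa [mul_assoc] using this)
    have hAeq : A.map (MulAut.conj g).toMonoidHom = A := Subgroup.eq_of_le_of_card_ge
      (by rintro _ ⟨x, hx, rfl⟩; exact hgA x hx) (Subgroup.card_map_of_injective (MulAut.conj g).injective).ge
    obtain ⟨b, hb, hbe⟩ := hAeq.ge h1
    have e : b = k * a * k⁻¹ := (MulAut.conj g).injective (hbe.trans (by simp [mul_assoc]))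
    exact e ▸ hb
  have hAT : ∀ a ∈ A, ∀ t ∈ T, a * t = t * a := by
    intro a ha t ht
    have h1 : a * t * a⁻¹ * t⁻¹ ∈ H := H.mul_mem (hnH a ha t ht.2) (H.inv_mem ht.2)
    have h2 : t * a⁻¹ * t⁻¹ ∈ A := hA' a⁻¹ (A.inv_mem ha) t
      ((S' : Subgroup G).mul_mem ((S' : Subgroup G).mul_mem (hS' ht.1) ((S' : Subgroup G).inv_mem (hS' (hAR ha)))) ((S' : Subgroup G).inv_mem (hS' ht.1)))
    have h3 : a * t * a⁻¹ * t⁻¹ ∈ A ⊓ H := ⟨by
      rw [show a * t * a⁻¹ * t⁻¹ = a * (t * a⁻¹ * t⁻¹) by group]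
      exact A.mul_mem ha h2, h1⟩
    rw [hdisj, Subgroup.mem_bot, mul_inv_eq_one, mul_inv_eq_iff_eq_mul] at h3
    exact h3
  suffices main : ∀ n : ℕ, ∀ a ∈ A, a ^ 2 ^ n = 1 → ∀ h ∈ H, a * h = h * a by
    intro a ha
    obtain ⟨n, hn⟩ := hA2 ⟨a, ha⟩
    exact Subgroup.mem_centralizer_iff.2 fun h hh => (main n a ha (by simpa using congrArg Subtype.val hn) h hh).symm
  intro n
  induction n with
  | zero => intro a ha h1 h hh; rw [pow_zero, pow_one] at h1; simp [h1]
  | succ n ih =>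
    intro a ha hpow h₀ hh₀
    have hb : ∀ h ∈ H, (a * a) * h = h * (a * a) :=
      ih (a * a) (A.mul_mem ha ha) (by rw [← pow_two, ← pow_mul, ← pow_succ', hpow])
    by_cases hsq : a ∈ Subgroup.zpowers (a * a)
    · obtain ⟨i, hi⟩ := Subgroup.mem_zpowers_iff.1 hsq
      rw [← hi]
      exact (Commute.zpow_left (hb h₀ hh₀ : Commute (a * a) h₀) i).eq
    set Ka := Subgroup.zpowers a ⊔ H with hKa
    have hza : Subgroup.zpowers a ≤ A := Subgroup.zpowers_le.2 ha
    have hdec : ∀ x ∈ Ka, ∃ j : ℤ, ∃ h ∈ H, x = a ^ j * h := by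
      intro x hx
      obtain ⟨y, hy, h, hh, rfl⟩ := (Cfsg.Lib.Core.mem_sup_of_le_normalizer (hza.trans hAH)).1 hx
      obtain ⟨j, rfl⟩ := Subgroup.mem_zpowers_iff.1 hy
      exact ⟨j, h, hh, rfl⟩
    have haK : a ∈ Ka := Subgroup.mem_sup_left (Subgroup.mem_zpowers a)
    set C := (Subgroup.zpowers (a * a)).subgroupOf Ka with hC
    haveI hCn : C.Normal := ⟨fun c hc x => by
      obtain ⟨i, hi⟩ := Subgroup.mem_zpowers_iff.1 (Subgroup.mem_subgroupOf.1 hc)
      obtain ⟨j, h, hh, hx⟩ := hdec x x.2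
      have e : Commute (x : G) ((a * a) ^ i) := by
        rw [hx]
        exact (((Commute.refl a).mul_right (Commute.refl a)).zpow_zpow j i).mul_left
          ((show Commute h (a * a) from (hb h hh).symm).zpow_right i)
      rw [Subgroup.mem_subgroupOf]
      simp only [Subgroup.coe_mul, InvMemClass.coe_inv]
      rw [← hi, e.eq, mul_inv_cancel_right]
      exact ⟨i, rfl⟩⟩
    let π := QuotientGroup.mk' C
    let f : ↥H →* ↥Ka ⧸ C := π.comp (Subgroup.inclusion le_sup_right)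
    have hAH1 : ∀ x ∈ A, x ∈ H → x = 1 := fun x hx hx' => Subgroup.mem_bot.1 (hdisj ▸ ⟨hx, hx'⟩)
    have hf : Function.Injective f := by
      refine (injective_iff_map_eq_one f).2 fun h hh => Subtype.ext ?_
      exact hAH1 _ (Subgroup.zpowers_le.2 (A.mul_mem ha ha) (Subgroup.mem_subgroupOf.1 ((QuotientGroup.eq_one_iff (N := C) (Subgroup.inclusion le_sup_right h)).1 hh))) h.2
    set ab : ↥Ka ⧸ C := π ⟨a, haK⟩ with hab
    have hab2 : ab * ab = 1 := by
      rw [hab, ← map_mul]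
      exact (QuotientGroup.eq_one_iff _).2 (Subgroup.mem_subgroupOf.2 (Subgroup.mem_zpowers (a * a)))
    have hab1 : ab ≠ 1 := fun e => hsq (Subgroup.mem_subgroupOf.1 ((QuotientGroup.eq_one_iff _).1 e))
    haveI : f.range.Normal := by
      refine ⟨?_⟩
      rintro _ ⟨h, rfl⟩ q
      obtain ⟨x, rfl⟩ := QuotientGroup.mk'_surjective C q
      have hx : (x : G) * h * (x : G)⁻¹ ∈ H := by
        obtain ⟨j, h', hh', e⟩ := hdec x x.2
        rw [e, show a ^ j * h' * (h : G) * (a ^ j * h')⁻¹ = a ^ j * (h' * h * h'⁻¹) * (a ^ j)⁻¹ by group]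
        exact hnH _ (A.zpow_mem ha j) _ (H.mul_mem (H.mul_mem hh' h.2) (H.inv_mem hh'))
      exact ⟨⟨_, hx⟩, rfl⟩
    have himg : ∀ q : ↥Ka ⧸ C, q ∈ f.range ∨ ab * q ∈ f.range := by
      intro q
      obtain ⟨x, rfl⟩ := QuotientGroup.mk'_surjective C q
      obtain ⟨j, h, hh, hx⟩ := hdec x x.2
      have e : x = (⟨a, haK⟩ : ↥Ka) ^ j * Subgroup.inclusion le_sup_right (⟨h, hh⟩ : ↥H) :=
        Subtype.ext (by simpa using hx)
      have eq : π x = ab ^ j * f ⟨h, hh⟩ := by rw [e, map_mul, map_zpow]; rfl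
      rcases Int.even_or_odd j with ⟨i, rfl⟩ | ⟨i, rfl⟩
      · left
        refine ⟨⟨h, hh⟩, ?_⟩
        rw [eq, zpow_add, ← (Commute.refl ab).mul_zpow, hab2, one_zpow, one_mul]
      · right
        refine ⟨⟨h, hh⟩, ?_⟩
        rw [eq, zpow_add, two_mul, zpow_add, ← (Commute.refl ab).mul_zpow, hab2, one_zpow, zpow_one, one_mul,
          ← mul_assoc, hab2, one_mul]
    have habf : ab ∉ f.range := by
      rintro ⟨h, hh⟩
      have h1 := (QuotientGroup.eq).1 hh
      rw [Subgroup.mem_subgroupOf] at h1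
      have h2 : (h : G)⁻¹ * a ∈ Subgroup.zpowers (a * a) := h1
      have h3 : (h : G) = 1 := hAH1 _ (by
        have h4 := A.mul_mem ha (A.inv_mem (Subgroup.zpowers_le.2 (A.mul_mem ha ha) h2))
        simpa using h4) h.2
      rw [h3, inv_one, one_mul] at h2
      exact hsq h2
    have hO' : Cfsg.oddCore (↥Ka ⧸ C) = ⊥ := by
      haveI hDn : (Cfsg.oddCore (↥Ka ⧸ C)).Normal := by rw [Cfsg.oddCore]; infer_instance
      have hE : (Cfsg.oddCore (↥Ka ⧸ C)).comap f = ⊥ := by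
        rw [eq_bot_iff, ← hO]
        refine Cfsg.Lib.ZStar.le_oddCore inferInstance ?_
        rw [← Subgroup.card_map_of_injective hf]
        exact Cfsg.Lib.ZStar.odd_card_oddCore.of_dvd_nat (Subgroup.card_dvd_of_le (Subgroup.map_comap_le _ _))
      rw [eq_bot_iff]
      intro q hq
      rcases himg q with h1 | h1
      · obtain ⟨h, rfl⟩ := h1
        rw [show h = 1 from Subgroup.mem_bot.1 (hE ▸ (hq : h ∈ (Cfsg.oddCore (↥Ka ⧸ C)).comap f)), map_one]
        exact Subgroup.mem_bot.2 rfl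
      · exfalso
        obtain ⟨m, hm⟩ := Cfsg.Lib.ZStar.odd_orderOf_oddCore hq
        have hsq' : q * q ∈ f.range := by
          rcases himg (q * q) with h2 | h2
          · exact h2
          · exfalso
            have h3 : (QuotientGroup.mk' f.range) ab * (QuotientGroup.mk' f.range q * QuotientGroup.mk' f.range q) = 1 := by
              rw [← map_mul, ← map_mul]; exact (QuotientGroup.eq_one_iff _).2 h2
            have h4 : (QuotientGroup.mk' f.range) ab * QuotientGroup.mk' f.range q = 1 := by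
              rw [← map_mul]; exact (QuotientGroup.eq_one_iff _).2 h1
            rw [eq_inv_of_mul_eq_one_right h4, ← mul_assoc, mul_inv_cancel, one_mul] at h3
            exact habf ((QuotientGroup.eq_one_iff ab).1 (inv_eq_one.1 h3))
        have hqr : q ∈ f.range := by
          have h2 : q * (q * q) ^ m = 1 := by rw [← pow_two, ← pow_mul, ← pow_succ', ← hm, pow_orderOf_eq_one]
          rw [eq_inv_of_mul_eq_one_left h2]
          exact f.range.inv_mem (f.range.pow_mem hsq' m)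
        exact habf (by simpa using f.range.mul_mem h1 (f.range.inv_mem hqr))
    obtain ⟨Pk, hPk⟩ := ((R.2.map K.subtype : IsPGroup 2 ↥R').to_le
      (sup_le ((hza).trans hAR) inf_le_left : Subgroup.zpowers a ⊔ T ≤ R')).of_equiv
        (Subgroup.subgroupOfEquivOfLe (sup_le le_sup_left (inf_le_right.trans le_sup_right) :
          Subgroup.zpowers a ⊔ T ≤ Ka)).symm |>.exists_le_sylow
    have hPle : ∀ x ∈ (Pk : Subgroup ↥Ka), (x : G) ∈ Subgroup.zpowers a ⊔ T := by
      intro x hx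
      obtain ⟨j, h, hh, e⟩ := hdec x x.2
      have hhK : h ∈ Ka := Subgroup.mem_sup_right hh
      have e' : (⟨h, hhK⟩ : ↥Ka) = ((⟨a, haK⟩ : ↥Ka) ^ j)⁻¹ * x := Subtype.ext (by simp [e])
      have h1 : (⟨h, hhK⟩ : ↥Ka) ∈ (Pk : Subgroup ↥Ka) := by
        rw [e']
        exact (Pk : Subgroup ↥Ka).mul_mem ((Pk : Subgroup ↥Ka).inv_mem ((Pk : Subgroup ↥Ka).zpow_mem
          (hPk (show (⟨a, haK⟩ : ↥Ka) ∈ (Subgroup.zpowers a ⊔ T).subgroupOf Ka from
            Subgroup.mem_sup_left (Subgroup.mem_zpowers a))) j)) hx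
      have hXT : (Pk : Subgroup ↥Ka).map Ka.subtype ⊓ H ≤ T := by
        have hle : T ≤ (Pk : Subgroup ↥Ka).map Ka.subtype ⊓ H := fun t ht =>
          ⟨⟨⟨t, Subgroup.mem_sup_right ht.2⟩, hPk (show (⟨t, Subgroup.mem_sup_right ht.2⟩ : ↥Ka) ∈
            (Subgroup.zpowers a ⊔ T).subgroupOf Ka from Subgroup.mem_sup_right ht), rfl⟩, ht.2⟩
        obtain ⟨e2, he2⟩ := IsPGroup.iff_card.1 ((Pk.2.map Ka.subtype).to_le
          (inf_le_left : (Pk : Subgroup ↥Ka).map Ka.subtype ⊓ H ≤ _))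
        refine Subgroup.relIndex_eq_one.1 (Nat.eq_one_of_dvd_coprimes
          ((Nat.prime_two.coprime_iff_not_dvd.2 hTsyl).pow_left e2) ?_ ?_)
        · exact he2 ▸ Subgroup.relIndex_dvd_card _ _
        · exact Dvd.intro _ (Subgroup.relIndex_mul_relIndex _ _ _ hle inf_le_right)
      rw [e]
      exact Subgroup.mul_mem _ (Subgroup.mem_sup_left (Subgroup.zpow_mem _ (Subgroup.mem_zpowers a) j))
        (Subgroup.mem_sup_right (hXT ⟨⟨_, h1, rfl⟩, hh⟩))
    let P' : Sylow 2 (↥Ka ⧸ C) := Pk.mapSurjective (QuotientGroup.mk'_surjective C)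
    have habo : orderOf ab = 2 := orderOf_eq_prime (by rw [pow_two, hab2]) hab1
    have hiso : Cfsg.IsIsolatedInvolution ab := by
      refine Cfsg.Lib.Invol.isolated_of_sylow P' habo ?_
      intro q hq
      obtain ⟨k, rfl⟩ := QuotientGroup.mk'_surjective C q
      obtain ⟨y, hy, hye⟩ := hq
      have hc : y⁻¹ * (k * ⟨a, haK⟩ * k⁻¹) ∈ C := by
        refine QuotientGroup.eq.1 ?_
        exact hye.trans (by rw [hab, ← map_inv, ← map_mul, ← map_mul]; rfl)
      have hP0 : (k : G) * a * (k : G)⁻¹ ∈ Subgroup.zpowers a ⊔ T := by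
        have h2 : ((y⁻¹ * (k * ⟨a, haK⟩ * k⁻¹) : ↥Ka) : G) ∈ Subgroup.zpowers a ⊔ T :=
          Subgroup.mem_sup_left (Subgroup.zpowers_le.2
            (Subgroup.mul_mem _ (Subgroup.mem_zpowers a) (Subgroup.mem_zpowers a)) (Subgroup.mem_subgroupOf.1 hc))
        have h3 := Subgroup.mul_mem _ (hPle y hy) h2
        simpa [mul_assoc] using h3
      have hS'0 : Subgroup.zpowers a ⊔ T ≤ (S' : Subgroup G) :=
        (sup_le (hza.trans hAR) inf_le_left : Subgroup.zpowers a ⊔ T ≤ R').trans hS'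
      have hkA : (k : G) * a * (k : G)⁻¹ ∈ A := hA' a ha k (hS'0 hP0)
      obtain ⟨j, h, hh, hk⟩ := hdec k k.2
      have hhA : h * a * h⁻¹ ∈ A := by
        have := A.mul_mem (A.mul_mem (A.inv_mem (A.zpow_mem ha j)) hkA) (A.zpow_mem ha j)
        rw [hk] at this
        simpa [mul_assoc] using this
      have h4 : h * a * h⁻¹ * a⁻¹ = 1 := hAH1 _ (A.mul_mem hhA (A.inv_mem ha)) (by
        rw [show h * a * h⁻¹ * a⁻¹ = h * (a * h⁻¹ * a⁻¹) by group]
        exact H.mul_mem hh (hnH a ha _ (H.inv_mem hh)))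
      rw [mul_inv_eq_one] at h4
      have h5 : (k : G) * a * (k : G)⁻¹ = a := by
        rw [hk, show a ^ j * h * a * (a ^ j * h)⁻¹ = a ^ j * (h * a * h⁻¹) * (a ^ j)⁻¹ by group, h4]
        group
      rw [hab, ← map_inv, ← map_mul, ← map_mul]
      exact congrArg π (Subtype.ext h5)
    have hc := Subgroup.mem_center_iff.1 (Cfsg.Lib.ZStar.mem_center_of_isolated hO' hiso) (f ⟨h₀, hh₀⟩)
    have h1 := QuotientGroup.eq.1 hc.symm
    have h2 : (a * h₀)⁻¹ * (h₀ * a) = 1 := by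
      refine hAH1 _ (Subgroup.zpowers_le.2 (A.mul_mem ha ha) (Subgroup.mem_subgroupOf.1 h1)) ?_
      rw [show (a * h₀)⁻¹ * (h₀ * a) = h₀⁻¹ * (a⁻¹ * h₀ * a⁻¹⁻¹) by group]
      exact H.mul_mem (H.inv_mem hh₀) (hnH _ (A.inv_mem ha) _ hh₀)
    exact inv_mul_eq_one.1 h2

end Cfsg.Agent.S1251
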