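import Cfsg.Statements.S1253
import Cfsg.Agent.Lib.Invol.IsolatedSylow
-- import your own Cfsg.Agent.* helpers here

set_option autoImplicit false
open Cfsg

namespace Cfsg.Agent.S1253

/-- Let z be an isolated involution of the finite group G with centralizer C, p an odd prime and P a Sylow p-subgroup of G normalized by z. Then P ∩ C has p-power-free index in C (it is a Sylow p-subgroup of C), and |P : C_P(z)| equals the number of elements x ∈ P with z x z⁻¹ = x⁻¹. -/
theorem result {G : Type*} [Group G] [Finite G] (z : G) (hz : Cfsg.IsIsolatedInvolution z) {p : ℕ} [Fact p.Prime] (hp : p ≠ 2) (P : Sylow p G) (hzP : z ∈ Subgroup.normalizer ((P : Subgroup G) : Set G)) : ¬ p ∣ ((P : Subgroup G) ⊓ Subgroup.centralizer ({z} : Set G)).relIndex (Subgroup.centralizer ({z} : Set G)) ∧ ((P : Subgroup G) ⊓ Subgroup.centralizer ({z} : Set G)).relIndex (P : Subgroup G) = Nat.card {x : G // x ∈ P ∧ z * x * z⁻¹ = x⁻¹} := by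
  classical
  set C := Subgroup.centralizer ({z} : Set G) with hC
  have hzC : z ∈ C := Subgroup.mem_centralizer_singleton_iff.mpr rfl
  constructor
  · set D := (P : Subgroup G) ⊓ C with hD
    have hDp : IsPGroup p D := P.isPGroup'.to_le inf_le_left
    obtain ⟨R, hR⟩ := (hDp.comap_subtype (K := C)).exists_le_sylow
    set R₁ := (R : Subgroup C).map C.subtype with hR₁
    have hzn : ∀ T : Subgroup G, T ≤ C → z ∈ Subgroup.normalizer (T : Set G) := by
      intro T hT
      refine Subgroup.mem_normalizer_iff.mpr fun x => ?_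
      have key : ∀ y ∈ C, z * y * z⁻¹ = y := fun y hy => by
        rw [← Subgroup.mem_centralizer_singleton_iff.mp hy, mul_inv_cancel_right]
      constructor
      · intro hx; rwa [key x (hT hx)]
      · intro hx
        have hxC : x ∈ C := by
          have := mul_mem (mul_mem (inv_mem hzC) (hT hx)) hzC
          simpa [mul_assoc] using this
        rwa [key x hxC] at hx
    obtain ⟨Q, hQ, hQmax⟩ := Set.Finite.exists_maximal (Set.toFinite
        {T : Subgroup G | IsPGroup p T ∧ z ∈ Subgroup.normalizer (T : Set G) ∧ R₁ ≤ T})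
      ⟨R₁, R.isPGroup'.map _, hzn _ (Subgroup.map_subtype_le _), le_rfl⟩
    obtain ⟨hQp, hzQ, hRQ⟩ := hQ
    obtain ⟨P', hP'⟩ := Cfsg.Lib.Invol.maximal_invariant_sylow hz Q hQp hzQ fun T h1 h2 h3 =>
      le_antisymm (hQmax ⟨h1, h2, hRQ.trans h3⟩ h3) h3
    obtain ⟨c, hc, hcP⟩ := Cfsg.Lib.Invol.exists_centralizer_conj hz (P := P) (P' := P') hzP
      (by rwa [hP'])
    have hle : R₁ ≤ D.map (MulAut.conj c).toMonoidHom := by
      intro x hx
      have hxQ : x ∈ (P' : Subgroup G) := hP' ▸ hRQ hx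
      rw [← hcP] at hxQ
      obtain ⟨y, hy, rfl⟩ := hxQ
      refine ⟨y, ⟨hy, ?_⟩, rfl⟩
      have h1 : c * y * c⁻¹ ∈ C := Subgroup.map_subtype_le _ hx
      have := mul_mem (mul_mem (inv_mem hc) h1) hc
      simpa [mul_assoc] using this
    have hcard : Nat.card R₁ ≤ Nat.card D := (Subgroup.card_le_of_le hle).trans
      (le_of_eq (Subgroup.card_map_of_injective (MulAut.conj c).injective))
    have hDR : D = R₁ := Subgroup.eq_of_le_of_card_ge
      (fun x hx => ⟨⟨x, hx.2⟩, hR hx, rfl⟩) hcard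
    rw [hDR, hR₁, Subgroup.relIndex, Subgroup.subgroupOf,
      Subgroup.comap_map_eq_self_of_injective C.subtype_injective]
    exact R.not_dvd_index
  · have hodd : ∀ {x : G}, x ∈ (P : Subgroup G) → Odd (orderOf x) := fun {x} hx => by
      have h1 : orderOf x ∣ Nat.card (P : Subgroup G) := Subgroup.orderOf_dvd_natCard _ hx
      obtain ⟨k, hk⟩ := P.isPGroup'.exists_card_eq
      exact (((Fact.out : p.Prime).odd_of_ne_two hp).pow (n := k)).of_dvd_nat (hk ▸ h1)
    rw [Subgroup.relIndex, Subgroup.index]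
    refine (Nat.card_eq_of_bijective (fun k : {x : G // x ∈ P ∧ z * x * z⁻¹ = x⁻¹} =>
      (QuotientGroup.mk (⟨k.1, k.2.1⟩ : (P : Subgroup G)) :
        (P : Subgroup G) ⧸ ((P : Subgroup G) ⊓ C).subgroupOf (P : Subgroup G))) ⟨?_, ?_⟩).symm
    · rintro ⟨a, haP, ha⟩ ⟨b, hbP, hb⟩ h
      have h' := Subgroup.mem_subgroupOf.mp (QuotientGroup.eq.mp h)
      exact Subtype.ext ((Cfsg.Lib.Invol.isolated_coset_unique hz a).unique
        ⟨⟨hodd haP, ha⟩, by rw [inv_mul_cancel]; exact one_mem _⟩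
        ⟨⟨hodd hbP, hb⟩, h'.2⟩)
    · intro q
      induction q using QuotientGroup.induction_on with
      | _ g =>
        obtain ⟨k, ⟨⟨hk, hk'⟩, hkc⟩, -⟩ := Cfsg.Lib.Invol.isolated_coset_unique hz (g : G)
        have hsq : k * k = (g : G) * (z * (g : G)⁻¹ * z⁻¹) := by
          have hzz : z⁻¹ = z := Cfsg.Lib.Invol.inv_eq_self hz.1
          have h1 : z * k⁻¹ = k * z := by
            rw [← hk', hzz, ← mul_assoc, ← mul_assoc, Cfsg.Lib.Invol.inv_mul_self hz.1, one_mul]
          have h2 := Subgroup.mem_centralizer_singleton_iff.mp hkc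
          calc k * k = k * z * k⁻¹ * z⁻¹ := by
                rw [mul_assoc k z, h1, ← mul_assoc, mul_inv_cancel_right]
            _ = (g : G) * ((g : G)⁻¹ * k * z) * k⁻¹ * z⁻¹ := by group
            _ = (g : G) * (z * (g : G)⁻¹ * z⁻¹) := by rw [h2]; group
        have hkP : k ∈ (P : Subgroup G) := by
          obtain ⟨m, hm⟩ := exists_pow_eq_self_of_coprime (n := 2) (x := k) hk.coprime_two_left
          rw [← hm, pow_two, hsq]
          exact pow_mem (mul_mem g.2 ((Subgroup.mem_normalizer_iff.mp hzP _).mp (show (g : G)⁻¹ ∈ (P : Subgroup G) from inv_mem g.2))) m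
        refine ⟨⟨k, hkP, hk'⟩, QuotientGroup.eq.mpr (Subgroup.mem_subgroupOf.mpr ?_)⟩
        have : (g : G)⁻¹ * k ∈ (P : Subgroup G) ⊓ C := ⟨mul_mem (show (g : G)⁻¹ ∈ (P : Subgroup G) from inv_mem g.2) hkP, hkc⟩
        simpa using inv_mem this

end Cfsg.Agent.S1253
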