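import Cfsg.Statements.S1256
import Cfsg.Agent.Lib.TwoGroup.DihedralFour
import Cfsg.Agent.Lib.Invol.KleinFour
-- import your own Cfsg.Agent.* helpers here

set_option autoImplicit false
open Cfsg

namespace Cfsg.Agent.S1256

/-- Let X be a finite group whose Sylow 2-subgroup S is dihedral of order 2m ≥ 4. If |S| = 4, any two Klein four-subgroups of X are conjugate; if |S| > 4, there are Klein four-subgroups U₁, U₂ of X that are not conjugate, and every Klein four-subgroup of X is conjugate to U₁ or to U₂. -/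
theorem result {X : Type*} [Group X] [Finite X] (S : Sylow 2 X) (m : ℕ) (hm : 2 ≤ m) (eS : (S : Subgroup X) ≃* DihedralGroup m) : (Nat.card S = 4 → ∀ U V : Subgroup X, IsKleinFour U → IsKleinFour V → (∃ x : X, U.map (MulAut.conj x).toMonoidHom = V)) ∧ (4 < Nat.card S → ∃ U₁ U₂ : Subgroup X, IsKleinFour U₁ ∧ IsKleinFour U₂ ∧ ¬ (∃ x : X, U₁.map (MulAut.conj x).toMonoidHom = U₂) ∧ ∀ V : Subgroup X, IsKleinFour V → (∃ x : X, V.map (MulAut.conj x).toMonoidHom = U₁) ∨ (∃ x : X, V.map (MulAut.conj x).toMonoidHom = U₂)) := by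
  classical
  haveI : Fact (Nat.Prime 2) := ⟨Nat.prime_two⟩
  obtain ⟨k, hk⟩ := S.isPGroup'.exists_card_eq
  have hS2 : Nat.card S = 2 * m := by
    exact (Nat.card_congr eS.toEquiv).trans DihedralGroup.nat_card
  obtain ⟨a, rfl⟩ : ∃ a, m = 2 ^ a := by
    refine ⟨k - 1, ?_⟩
    rcases k with _ | k
    · rw [hS2] at hk; omega
    · rw [hS2, pow_succ] at hk; simp; omega
  have ha : 1 ≤ a := by
    rcases a with _ | a
    · simp at hm
    · omega
  set ι : DihedralGroup (2 ^ a) →* X := (S : Subgroup X).subtype.comp eS.symm.toMonoidHom with hι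
  have hinj : Function.Injective ι := Subtype.val_injective.comp eS.symm.injective
  have hrange : ι.range = (S : Subgroup X) := by
    rw [hι, MonoidHom.range_comp, MonoidHom.range_eq_top.mpr eS.symm.surjective,
      ← MonoidHom.range_eq_map, Subgroup.range_subtype]
  open Cfsg.Lib.TwoGroup.Dihedral4 in
  let Q : ℕ → ZMod (2 ^ a) → Subgroup X := fun t i => (P a t i).map ι
  have hQS : ∀ t i, Q t i ≤ (S : Subgroup X) := fun t i => hrange ▸ Subgroup.map_le_range _ _
  have hQc : ∀ t i, t ≤ a → Nat.card (Q t i) = 2 * 2 ^ (a - t) := fun t i ht =>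
    (Subgroup.card_map_of_injective hinj).trans (Cfsg.Lib.TwoGroup.Dihedral4.card_P ht i)
  have hA : ∀ t (H : Subgroup X) (x y : X), t ≤ a → H ≤ S → Nat.card H = 2 * 2 ^ (a - t) →
      x ∈ H → y ∈ H → x ≠ 1 → y ≠ 1 → x * x = 1 → y * y = 1 → x ≠ y → ∃ j, H = Q t j := by
    intro t H x y ht hHS hc hx hy hx1 hy1 hx2 hy2 hxy
    have hmap : (H.comap ι).map ι = H := Subgroup.map_comap_eq_self (hrange ▸ hHS)
    obtain ⟨x', hx', rfl⟩ : x ∈ (H.comap ι).map ι := by rw [hmap]; exact hx
    obtain ⟨y', hy', rfl⟩ : y ∈ (H.comap ι).map ι := by rw [hmap]; exact hy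
    obtain ⟨j, hj⟩ := Cfsg.Lib.TwoGroup.Dihedral4.exists_sr hx' hy'
      (fun e => hx1 (by rw [e, map_one])) (fun e => hy1 (by rw [e, map_one]))
      (hinj (by rw [map_mul, hx2, map_one])) (hinj (by rw [map_mul, hy2, map_one]))
      (fun e => hxy (by rw [e]))
    refine ⟨j, ?_⟩
    rw [← hmap] at hc ⊢
    rw [Subgroup.card_map_of_injective hinj] at hc
    rw [Cfsg.Lib.TwoGroup.Dihedral4.eq_P ht hj hc]
  have hconj : ∀ t i (g : X), t + 1 ≤ a →
      (Q t i).map (MulAut.conj g).toMonoidHom ≤ S →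
      ∃ j, (Q t i).map (MulAut.conj g).toMonoidHom = Q t j := by
    intro t i g ht hle
    have hne : ((2 ^ t : ℕ) : ZMod (2 ^ a)) ≠ 0 := by
      rw [Ne, ZMod.natCast_eq_zero_iff, Nat.pow_dvd_pow_iff_le_right one_lt_two]
      omega
    set f := (MulAut.conj g).toMonoidHom.comp ι with hf
    have finj : Function.Injective f := (MulAut.conj g).injective.comp hinj
    refine hA t _ (f (DihedralGroup.sr i))
      (f (DihedralGroup.sr (i + ((2 ^ t : ℕ) : ZMod (2 ^ a))))) (by omega) hle
      ((Subgroup.card_map_of_injective (MulAut.conj g).injective).trans (hQc t i (by omega)))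
      ⟨_, ⟨_, Cfsg.Lib.TwoGroup.Dihedral4.sr_self_mem i, rfl⟩, rfl⟩
      ⟨_, ⟨_, Cfsg.Lib.TwoGroup.Dihedral4.sr_mem.mpr (by simp), rfl⟩, rfl⟩
      (by rw [← map_one f]; exact fun e => by cases finj e)
      (by rw [← map_one f]; exact fun e => by cases finj e)
      (by rw [← map_mul, DihedralGroup.sr_mul_self, map_one])
      (by rw [← map_mul, DihedralGroup.sr_mul_self, map_one]) ?_
    intro e
    have := DihedralGroup.sr.inj (finj e)
    exact hne (left_eq_add.mp this)
  have hB : ∀ t i (s : X), t + 1 ≤ a → s ∈ S → s ∈ Subgroup.normalizer (Q (t + 1) i : Set X) →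
      s ∈ Q t i := by
    intro t i s ht hs hn
    obtain ⟨x, rfl⟩ : s ∈ ι.range := by rw [hrange]; exact hs
    refine ⟨x, Cfsg.Lib.TwoGroup.Dihedral4.mem_P_of_conj ht fun y hy => ?_, rfl⟩
    obtain ⟨z, hz, e⟩ := (Subgroup.mem_normalizer_iff.mp hn (ι y)).mp ⟨y, hy, rfl⟩
    rw [← map_inv, ← map_mul, ← map_mul] at e
    exact hinj e ▸ hz
  have hup : ∀ t i, t + 1 ≤ a → Q t i ≤ Subgroup.normalizer (Q (t + 1) i : Set X) := by
    intro t i ht
    have hle : Q (t + 1) i ≤ Q t i := Subgroup.map_mono fun x hx => by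
      rcases x with l | l
      · refine Cfsg.Lib.TwoGroup.Dihedral4.r_mem.mpr ?_
        exact (Nat.cast_dvd_cast (pow_dvd_pow 2 t.le_succ)).trans
          (Cfsg.Lib.TwoGroup.Dihedral4.r_mem.mp hx)
      · refine Cfsg.Lib.TwoGroup.Dihedral4.sr_mem.mpr ?_
        exact (Nat.cast_dvd_cast (pow_dvd_pow 2 t.le_succ)).trans
          (Cfsg.Lib.TwoGroup.Dihedral4.sr_mem.mp hx)
    refine (Subgroup.normal_subgroupOf_iff_le_normalizer hle).mp (Subgroup.normal_of_index_eq_two ?_)
    have h := Subgroup.relIndex_mul_relIndex (⊥ : Subgroup X) _ _ bot_le hle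
    rw [Subgroup.relIndex_bot_left, Subgroup.relIndex_bot_left, hQc t i (by omega),
      hQc (t + 1) i ht, show a - t = a - (t + 1) + 1 by omega, pow_succ] at h
    exact Nat.eq_of_mul_eq_mul_left (show 0 < 2 * 2 ^ (a - (t + 1)) by positivity)
      (h.trans (mul_assoc _ _ _).symm)
  have hC : ∀ t i (K : Subgroup X), t + 2 ≤ a → IsPGroup 2 K →
      K ≤ Subgroup.normalizer (Q (t + 1) i : Set X) → Nat.card K ≤ 2 * 2 ^ (a - t) := by
    intro t i K ht hKp hK
    have hQp : IsPGroup 2 (Q (t + 1) i) :=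
      S.isPGroup'.to_le (hQS _ _)
    obtain ⟨T, hT⟩ := (hKp.to_sup_of_normal_right' hQp hK).exists_le_sylow
    obtain ⟨g, rfl⟩ := MulAction.exists_smul_eq X T S
    set f := (MulAut.conj g).toMonoidHom
    have hle : ∀ H : Subgroup X, H ≤ T → H.map f ≤ ((g • T : Sylow 2 X) : Subgroup X) :=
      fun H h => Subgroup.map_mono h
    obtain ⟨j, hj⟩ := hconj (t + 1) i g (by omega) (hle _ (le_sup_right.trans hT))
    rw [← hQc t j (by omega), ← show Nat.card (K.map f) = Nat.card K from Subgroup.card_map_of_injective (MulAut.conj g).injective]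
    refine Subgroup.card_le_of_le fun z hz => hB t j z (by omega) (hle _ (le_sup_left.trans hT) hz) ?_
    rw [← hj]
    exact Subgroup.le_normalizer_map _ (Subgroup.map_mono hK hz)
  have hclass : ∀ t i x, t ≤ a →
      (Q t i).map (MulAut.conj (ι (DihedralGroup.r x))).toMonoidHom = Q t (i - 2 * x) := by
    intro t i x ht
    have e : (Q t i).map (MulAut.conj (ι (DihedralGroup.r x))).toMonoidHom =
        ((Cfsg.Lib.TwoGroup.Dihedral4.P a t i).map (MulAut.conj (DihedralGroup.r x)).toMonoidHom).map ι := by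
      rw [Subgroup.map_map, Subgroup.map_map]
      congr 1
      ext y
      simp [← map_inv]
    rw [e]
    show _ = (Cfsg.Lib.TwoGroup.Dihedral4.P a t (i - 2 * x)).map ι
    congr 1
    refine Cfsg.Lib.TwoGroup.Dihedral4.eq_P ht
      (Subgroup.mem_map.mpr ⟨_, Cfsg.Lib.TwoGroup.Dihedral4.sr_self_mem i,
        Cfsg.Lib.TwoGroup.Dihedral4.conj_sr x i⟩) ?_
    exact (Subgroup.card_map_of_injective (f := (MulAut.conj (DihedralGroup.r x)).toMonoidHom)
      (MulAut.conj _).injective).trans (Cfsg.Lib.TwoGroup.Dihedral4.card_P ht i)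
  have hparity : ∀ t j, t ≤ a → ∃ s : X, s ∈ S ∧
      ((Q t j).map (MulAut.conj s).toMonoidHom = Q t 0 ∨
        (Q t j).map (MulAut.conj s).toMonoidHom = Q t 1) := by
    intro t j ht
    refine ⟨ι (DihedralGroup.r ((j.val / 2 : ℕ) : ZMod (2 ^ a))), by show _ ∈ (S : Subgroup X); rw [← hrange]; exact ⟨_, rfl⟩, ?_⟩
    rw [hclass t j _ ht]
    have hj : j - 2 * ((j.val / 2 : ℕ) : ZMod (2 ^ a)) = ((j.val % 2 : ℕ) : ZMod (2 ^ a)) := by
      have := congrArg (Nat.cast (R := ZMod (2 ^ a))) (Nat.mod_add_div j.val 2)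
      push_cast [ZMod.natCast_zmod_val] at this
      linear_combination -this
    rcases Nat.mod_two_eq_zero_or_one j.val with h | h
    · exact Or.inl (by rw [hj, h, Nat.cast_zero])
    · exact Or.inr (by rw [hj, h, Nat.cast_one])
  have hSN : ∀ i, 1 ≤ a → (S : Subgroup X) ≤ Subgroup.normalizer (Q 1 i : Set X) := by
    intro i h1
    refine le_trans ?_ (hup 0 i h1)
    show (S : Subgroup X) ≤ (Cfsg.Lib.TwoGroup.Dihedral4.P a 0 i).map ι
    rw [Cfsg.Lib.TwoGroup.Dihedral4.P_zero, ← MonoidHom.range_eq_map, hrange]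
  have hnorm : ∀ (u : X) (H : Subgroup X), u ∈ Subgroup.normalizer (H : Set X) →
      H.map (MulAut.conj u).toMonoidHom = H := fun u H hu =>
    Subgroup.mem_normalizer_iff_map_conj_eq.mp hu
  have hmul : ∀ (u v : X) (H : Subgroup X), H.map (MulAut.conj (u * v)).toMonoidHom =
      (H.map (MulAut.conj v).toMonoidHom).map (MulAut.conj u).toMonoidHom := by
    intro u v H
    rw [Subgroup.map_map]
    congr 1
    ext y
    simp
  have hD : ∀ t, t + 2 ≤ a → ∀ g : X,
      (Q (t + 1) 0).map (MulAut.conj g).toMonoidHom ≠ Q (t + 1) 1 := by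
    intro t
    induction t with
    | zero =>
      intro h2 g hg
      set B := Q 1 1
      let N := Subgroup.normalizer (B : Set X)
      have hgS : ((g • S : Sylow 2 X) : Subgroup X) ≤ N := by
        rintro z ⟨s, hs, rfl⟩
        show (MulAut.conj g).toMonoidHom s ∈ Subgroup.normalizer (B : Set X)
        rw [← hg]
        exact Subgroup.le_normalizer_map _ ⟨s, hSN 0 ha hs, rfl⟩
      obtain ⟨n, hn⟩ := MulAction.exists_smul_eq ↥N ((g • S).subtype hgS)
        (S.subtype (hSN 1 ha))
      rw [Sylow.smul_subtype] at hn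
      have hn' := Sylow.subtype_injective hn
      set h := (n : X) * g with hhdef
      have hh : (Q 1 0).map (MulAut.conj h).toMonoidHom = B := by
        rw [hhdef, map_mul, MulEquiv.toMonoidHom_eq_coe]
        show (Q 1 0).map ((MulAut.conj (n : X)).toMonoidHom.comp (MulAut.conj g).toMonoidHom) = B
        rw [← Subgroup.map_map, hg]
        exact hnorm _ _ n.2
      have hhS : h • S = S := by rw [hhdef, mul_smul]; exact hn'
      have hne : Q 1 0 ≠ B := by
        intro e
        have hm1 : ι (DihedralGroup.sr 0) ∈ B :=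
          e ▸ ⟨_, Cfsg.Lib.TwoGroup.Dihedral4.sr_self_mem 0, rfl⟩
        obtain ⟨y, hy, hye⟩ := hm1
        rw [hinj hye] at hy
        have := (Cfsg.Lib.TwoGroup.Dihedral4.two_pow_dvd_iff (by omega)).mp
          (Cfsg.Lib.TwoGroup.Dihedral4.sr_mem.mp hy)
        rw [zero_sub, pow_one, ZMod.neg_val] at this
        have h1 : (1 : ZMod (2 ^ a)).val = 1 := by
          haveI : Fact (1 < 2 ^ a) := ⟨Nat.one_lt_two_pow (by omega)⟩
          exact ZMod.val_one _
        rw [if_neg, h1] at this
        · have h4 : 2 ∣ 2 ^ a := dvd_pow_self 2 (by omega)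
          have : 1 ≤ 2 ^ a := Nat.one_le_two_pow
          omega
        · intro e1; rw [e1, ZMod.val_zero] at h1; omega
      have hswap : B.map (MulAut.conj h).toMonoidHom = Q 1 0 := by
        have hle : B.map (MulAut.conj h).toMonoidHom ≤ S := by
          conv_rhs => rw [← hhS]
          exact Subgroup.map_mono (hQS 1 1)
        obtain ⟨j, hj⟩ := hconj 1 1 h (by omega) hle
        obtain ⟨s, hs, hor⟩ := hparity 1 j (by omega)
        rw [hnorm _ _ (hSN j ha hs)] at hor
        rcases hor with e | e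
        · rw [hj, e]
        · exfalso
          exact hne (Subgroup.map_injective (MulAut.conj h).injective (by rw [hh, hj, e]))
      obtain ⟨u, q, hq, hord⟩ := Nat.exists_eq_two_pow_mul_odd (orderOf_pos h).ne'
      obtain ⟨w, rfl⟩ := hq
      have hodd : ∀ w : ℕ, (Q 1 0).map (MulAut.conj (h ^ (2 * w + 1))).toMonoidHom = B := by
        intro w
        induction w with
        | zero => simpa using hh
        | succ w ih =>
          rw [show h ^ (2 * (w + 1) + 1) = h * (h * h ^ (2 * w + 1)) by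
            rw [← pow_succ', ← pow_succ']; ring_nf, hmul h, hmul h, ih, hswap, hh]
      have hin : h ^ (2 * w + 1) ∈ (S : Subgroup X) := by
        have hp : IsPGroup 2 (Subgroup.zpowers (h ^ (2 * w + 1))) := by
          refine IsPGroup.of_card (n := u) ?_
          rw [Nat.card_zpowers, orderOf_pow, hord,
            Nat.gcd_eq_right (dvd_mul_left (2 * w + 1) (2 ^ u)),
            Nat.mul_div_cancel _ (by omega)]
        have hN : Subgroup.zpowers (h ^ (2 * w + 1)) ≤
            Subgroup.normalizer ((S : Subgroup X) : Set X) :=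
          Subgroup.zpowers_le.mpr (pow_mem (Sylow.smul_eq_iff_mem_normalizer.mp hhS) _)
        rw [← S.is_maximal' (hp.to_sup_of_normal_right' S.isPGroup' hN) le_sup_right]
        exact Subgroup.mem_sup_left (Subgroup.mem_zpowers _)
      exact hne ((hnorm _ _ (hSN 0 ha hin)).symm.trans (hodd w))
    | succ t ih =>
      intro h2 g hg
      set N := Subgroup.normalizer (Q (t + 2) 1 : Set X) with hN
      set K := (Q (t + 1) 0).map (MulAut.conj g).toMonoidHom with hKdef
      have hKN : K ≤ N := by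
        rw [hN, ← hg]
        exact (Subgroup.map_mono (hup (t + 1) 0 (by omega))).trans
          (Subgroup.le_normalizer_map _)
      have hQN : Q (t + 1) 1 ≤ N := hup (t + 1) 1 (by omega)
      have mk : ∀ H : Subgroup X, H ≤ N → IsPGroup 2 H → Nat.card H = 2 * 2 ^ (a - (t + 1)) →
          ∃ P : Sylow 2 ↥N, (P : Subgroup ↥N).map N.subtype = H := by
        intro H hHN hHp hHc
        obtain ⟨P, hP⟩ := (hHp.comap_subtype (K := N)).exists_le_sylow
        refine ⟨P, (Subgroup.eq_of_le_of_card_ge ?_ ?_).symm⟩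
        · intro z hz
          exact ⟨⟨z, hHN hz⟩, hP hz, rfl⟩
        · rw [hHc]
          exact hC (t + 1) 1 _ (by omega) (P.isPGroup'.map _) (Subgroup.map_subtype_le _)
      obtain ⟨P, hP⟩ := mk K hKN ((S.isPGroup'.to_le (hQS _ _)).map _)
        ((Subgroup.card_map_of_injective (MulAut.conj g).injective).trans (hQc _ _ (by omega)))
      obtain ⟨P', hP'⟩ := mk _ hQN (S.isPGroup'.to_le (hQS _ _)) (hQc _ _ (by omega))
      obtain ⟨n, hn⟩ := MulAction.exists_smul_eq ↥N P P'
      refine ih (by omega) ((n : X) * g) ?_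
      rw [← hP', ← hn]
      show _ = ((P : Subgroup ↥N).map (MulAut.conj n).toMonoidHom).map N.subtype
      rw [Subgroup.map_map _ _ (MulAut.conj n).toMonoidHom, show N.subtype.comp (MulAut.conj n).toMonoidHom =
        (MulAut.conj (n : X)).toMonoidHom.comp N.subtype from MonoidHom.ext fun y => by simp,
        ← Subgroup.map_map _ _ N.subtype, hP, hKdef]
      exact hmul _ _ _
  have hfour : ∀ i, IsKleinFour (Q (a - 1) i) := by
    intro i
    have hc := hQc (a - 1) i (by omega)
    rw [show a - (a - 1) = 1 by omega] at hc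
    haveI : Nontrivial (Q (a - 1) i) := Finite.one_lt_card_iff_nontrivial.mp (by rw [hc]; norm_num)
    refine ⟨by rw [hc]; norm_num, (Monoid.exponent_eq_prime_iff Nat.prime_two).mpr ?_⟩
    rintro ⟨_, x, hx, rfl⟩ hne
    refine orderOf_eq_prime (Subtype.ext ?_) hne
    show ι x ^ 2 = 1
    rw [← map_pow]
    convert map_one ι
    have hpow : ((2 ^ (a - 1) : ℕ) : ZMod (2 ^ a)) * 2 = 0 := by
      have : ((2 ^ (a - 1) * 2 : ℕ) : ZMod (2 ^ a)) = 0 := by
        rw [← pow_succ, show a - 1 + 1 = a by omega]; exact ZMod.natCast_self _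
      exact_mod_cast this
    rcases x with l | l
    · obtain ⟨c, hc'⟩ := Cfsg.Lib.TwoGroup.Dihedral4.r_mem.mp hx
      rw [pow_two, DihedralGroup.r_mul_r, DihedralGroup.one_def, hc']
      congr 1
      linear_combination c * hpow
    · rw [pow_two, DihedralGroup.sr_mul_self]
  constructor
  · intro h4 U V hU hV
    have mk : ∀ W : Subgroup X, IsKleinFour W → ∃ P : Sylow 2 X, (P : Subgroup X) = W := by
      intro W hW
      have hp : IsPGroup 2 W := IsPGroup.of_card (n := 2) (by rw [hW.card_four]; norm_num)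
      obtain ⟨P, hP⟩ := hp.exists_le_sylow
      refine ⟨P, (Subgroup.eq_of_le_of_card_ge hP ?_).symm⟩
      rw [hW.card_four, ← h4, P.card_eq_multiplicity, S.card_eq_multiplicity]
    obtain ⟨P, rfl⟩ := mk U hU
    obtain ⟨P', rfl⟩ := mk V hV
    obtain ⟨x, hx⟩ := MulAction.exists_smul_eq X P P'
    exact ⟨x, by rw [← hx]; rfl⟩
  · intro h4
    have ha2 : 2 ≤ a := by
      by_contra h
      have : a = 1 := by omega
      rw [hS2, this] at h4
      omega
    refine ⟨Q (a - 1) 0, Q (a - 1) 1, hfour 0, hfour 1, ?_, fun V hV => ?_⟩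
    · rintro ⟨x, hx⟩
      have := hD (a - 2) (by omega) x
      rw [show a - 2 + 1 = a - 1 by omega] at this
      exact this hx
    · have hp : IsPGroup 2 V := IsPGroup.of_card (n := 2) (by rw [hV.card_four]; norm_num)
      obtain ⟨T, hT⟩ := hp.exists_le_sylow
      obtain ⟨g, hg⟩ := MulAction.exists_smul_eq X T S
      set W := V.map (MulAut.conj g).toMonoidHom with hW
      have hWS : W ≤ S := by rw [← hg]; exact Subgroup.map_mono hT
      obtain ⟨u, v, hu, hv, hu1, hv1, huv⟩ : ∃ u v, u ∈ V ∧ v ∈ V ∧ u ≠ 1 ∧ v ≠ 1 ∧ u ≠ v := by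
        let _ := Fintype.ofFinite V
        have h3 : 2 < Fintype.card V := by
          rw [← Nat.card_eq_fintype_card, hV.card_four]; norm_num
        obtain ⟨x, y, z, hxy, hxz, hyz⟩ := Fintype.two_lt_card_iff.mp h3
        by_cases hx1 : x = 1
        · subst hx1
          exact ⟨y, z, y.2, z.2, fun e => hxy (Subtype.ext e.symm),
            fun e => hxz (Subtype.ext e.symm), fun e => hyz (Subtype.ext e)⟩
        by_cases hy1 : y = 1
        · subst hy1
          exact ⟨x, z, x.2, z.2, fun e => hxy (Subtype.ext e),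
            fun e => hyz (Subtype.ext e.symm), fun e => hxz (Subtype.ext e)⟩
        exact ⟨x, y, x.2, y.2, fun e => hx1 (Subtype.ext e), fun e => hy1 (Subtype.ext e),
          fun e => hxy (Subtype.ext e)⟩
      haveI := hV
      obtain ⟨j, hj⟩ := hA (a - 1) W (MulAut.conj g u) (MulAut.conj g v) (by omega) hWS
        (by rw [hW, Subgroup.card_map_of_injective (MulAut.conj g).injective, hV.card_four,
              show a - (a - 1) = 1 by omega]; norm_num)
        ⟨u, hu, rfl⟩ ⟨v, hv, rfl⟩ (by simpa using hu1) (by simpa using hv1)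
        (by rw [← map_mul, Cfsg.Lib.Invol.klein_mul_self hu, map_one])
        (by rw [← map_mul, Cfsg.Lib.Invol.klein_mul_self hv, map_one])
        (fun e => huv ((MulAut.conj g).injective e))
      obtain ⟨s, -, hs⟩ := hparity (a - 1) j (by omega)
      have e : V.map (MulAut.conj (s * g)).toMonoidHom = W.map (MulAut.conj s).toMonoidHom := by
        rw [hW, Subgroup.map_map]
        congr 1
        ext y
        simp
      rcases hs with h | h
      · exact Or.inl ⟨s * g, by rw [e, hj, h]⟩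
      · exact Or.inr ⟨s * g, by rw [e, hj, h]⟩

end Cfsg.Agent.S1256
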