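import Cfsg.Statements.S1258
import Cfsg.Agent.Lib.Core.Layer

set_option autoImplicit false
open Cfsg
open scoped commutatorElement

namespace Cfsg.Agent.S1258

/-- If the central quotient of a finite group X is non-abelian simple, then X = X' Z(X) and the commutator subgroup X' is quasisimple. -/
theorem result {X : Type*} [Group X] [Finite X] (hs : IsSimpleGroup (X ⧸ Subgroup.center X)) (hna : ¬ IsMulCommutative (X ⧸ Subgroup.center X)) : commutator X ⊔ Subgroup.center X = ⊤ ∧ Cfsg.IsQuasisimple ↥(commutator X) := by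
    have hperf : ⁅(⊤ : Subgroup (X ⧸ Subgroup.center X)), (⊤ : Subgroup (X ⧸ Subgroup.center X))⁆ = ⊤ := by
      rcases (inferInstance : (commutator (X ⧸ Subgroup.center X)).Normal).eq_bot_or_eq_top with h | h
      · exact absurd ((commutator_eq_bot_iff (G := X ⧸ Subgroup.center X)).1 h) hna
      · exact h
    have hsup : commutator X ⊔ Subgroup.center X = ⊤ := by
      set f := QuotientGroup.mk' (Subgroup.center X) with hf
      have h1 : (commutator X).map f = ⊤ := by
        rw [commutator_def, Subgroup.map_commutator, Subgroup.map_top_of_surjective f (QuotientGroup.mk'_surjective _), hperf]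
      have h2 := Subgroup.comap_map_eq f (commutator X)
      rw [h1, Subgroup.comap_top, hf, QuotientGroup.ker_mk'] at h2
      exact h2.symm
    refine ⟨hsup, ?_⟩
    set D := commutator X with hD
    have hDD : ⁅D, D⁆ = D := by
      refine le_antisymm (Subgroup.commutator_le_self _) ?_
      conv_lhs => rw [hD, commutator_def]
      refine Subgroup.commutator_le.2 fun a _ b _ => ?_
      obtain ⟨a', ha', z, hz, rfl⟩ := Subgroup.mem_sup_of_normal_right.1 (hsup ▸ Subgroup.mem_top a)
      obtain ⟨b', hb', w, hw, rfl⟩ := Subgroup.mem_sup_of_normal_right.1 (hsup ▸ Subgroup.mem_top b)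
      have hz' := Subgroup.mem_center_iff.1 hz
      have hw' := Subgroup.mem_center_iff.1 hw
      have e : ⁅a' * z, b' * w⁆ = ⁅a', b'⁆ := by
        rw [commutatorElement_def, commutatorElement_def]
        calc a' * z * (b' * w) * (a' * z)⁻¹ * (b' * w)⁻¹ = a' * (z * (b' * w)) * z⁻¹ * a'⁻¹ * w⁻¹ * b'⁻¹ := by group
          _ = a' * b' * (w * a'⁻¹) * w⁻¹ * b'⁻¹ := by rw [← hz' (b' * w)]; group
          _ = a' * b' * a'⁻¹ * b'⁻¹ := by rw [← hw' a'⁻¹]; group
      rw [e]
      exact Subgroup.commutator_mem_commutator ha' hb'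
    refine ⟨Subgroup.isPerfect_iff.2 hDD, ?_⟩
    set f := (QuotientGroup.mk' (Subgroup.center X)).comp D.subtype with hf
    have hsurj : Function.Surjective f := by
      intro y
      obtain ⟨x, rfl⟩ := QuotientGroup.mk'_surjective _ y
      obtain ⟨d, hd, z, hz, rfl⟩ := Subgroup.mem_sup_of_normal_right.1 (hsup ▸ Subgroup.mem_top x)
      exact ⟨⟨d, hd⟩, by simp [hf, (QuotientGroup.eq_one_iff z).2 hz]⟩
    have hker : f.ker = Subgroup.center ↥D := by
      ext d
      rw [MonoidHom.mem_ker, hf, MonoidHom.comp_apply, QuotientGroup.mk'_apply, QuotientGroup.eq_one_iff, Subgroup.mem_center_iff, Subgroup.mem_center_iff]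
      refine ⟨fun h e => Subtype.ext (h e), fun h g => ?_⟩
      obtain ⟨e, he, z, hz, rfl⟩ := Subgroup.mem_sup_of_normal_right.1 (hsup ▸ Subgroup.mem_top g)
      have h1 : e * (d : X) = d * e := congrArg Subtype.val (h ⟨e, he⟩)
      have h2 := Subgroup.mem_center_iff.1 hz
      show e * z * (d : X) = d * (e * z)
      rw [mul_assoc, ← h2, ← mul_assoc, h1, mul_assoc]
    exact ((QuotientGroup.quotientMulEquivOfEq hker.symm).trans (QuotientGroup.quotientKerEquivOfSurjective f hsurj)).isSimpleGroup

end Cfsg.Agent.S1258
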