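import Cfsg.Statements.S1263
import Cfsg.Agent.Lib.Core.Layer

set_option autoImplicit false
open Cfsg

namespace Cfsg.Agent.S1263

/-- For a finite group G, Z(E(G)) is the subgroup generated by the centres Z(L) of the components L of G (all viewed as subgroups of G). -/
theorem result {G : Type*} [Group G] [Finite G] : (Subgroup.center ↥(Cfsg.layer G)).map (Cfsg.layer G).subtype = ⨆ L : {K : Subgroup G // Cfsg.IsComponent K}, (Subgroup.center ↥(L : Subgroup G)).map (L : Subgroup G).subtype := by
    classical
    refine le_antisymm ?_ (iSup_le fun L => ?_)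
    · have := Fintype.ofFinite {K : Subgroup G // Cfsg.IsComponent K}
      set Z : {K : Subgroup G // Cfsg.IsComponent K} → Subgroup G := fun L => (Subgroup.center ↥(L : Subgroup G)).map (L : Subgroup G).subtype
      have key : ∀ s : Finset {K : Subgroup G // Cfsg.IsComponent K}, ∀ x ∈ s.sup (fun L => (L : Subgroup G)),
          (∀ L ∈ s, ∀ y ∈ (L : Subgroup G), x * y = y * x) → x ∈ s.sup Z := by
        intro s
        induction s using Finset.induction with
        | empty => intro x hx _; simpa using hx
        | insert a t ha ih =>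
          intro x hx hc
          rw [Finset.sup_insert] at hx ⊢
          have hat : ∀ e ∈ t.sup (fun L => (L : Subgroup G)), ∀ y ∈ (a : Subgroup G), y * e = e * y := by
            intro e he y hy
            have hle : t.sup (fun L => (L : Subgroup G)) ≤ Subgroup.centralizer ((a : Subgroup G) : Set G) :=
              Finset.sup_le fun L hL => Subgroup.commutator_eq_bot_iff_le_centralizer.1
                (Cfsg.Lib.Core.component_commute L.2 a.2 fun e => ha (Subtype.ext e ▸ hL))
            exact Subgroup.mem_centralizer_iff.1 (hle he) y hy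
          obtain ⟨l, hl, e, he, rfl⟩ := (Cfsg.Lib.Core.mem_sup_of_commute
            (Cfsg.Lib.Core.commutator_eq_bot_iff_forall.2 fun y hy e he => hat e he y hy)).1 hx
          have hlc : ∀ y ∈ (a : Subgroup G), l * y = y * l := by
            intro y hy
            have h := hc a (Finset.mem_insert_self _ _) y hy
            rw [mul_assoc, ← hat e he y hy, ← mul_assoc, ← mul_assoc] at h
            exact mul_right_cancel h
          refine mul_mem (Subgroup.mem_sup_left (Cfsg.Lib.Core.mem_center_map_iff.2 ⟨hl, hlc⟩)) (Subgroup.mem_sup_right (ih e he fun L hL y hy => ?_))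
          have h := hc L (Finset.mem_insert_of_mem hL) y hy
          have h2 : l * y = y * l := hat y (Finset.le_sup (f := fun L : {K : Subgroup G // Cfsg.IsComponent K} => (L : Subgroup G)) hL hy) l hl
          rw [mul_assoc, ← mul_assoc y, ← h2, mul_assoc] at h
          exact mul_left_cancel h
      intro x hx
      obtain ⟨hxE, hxc⟩ := Cfsg.Lib.Core.mem_center_map_iff.1 hx
      have hle : Cfsg.layer G ≤ Finset.univ.sup (fun L : {K : Subgroup G // Cfsg.IsComponent K} => (L : Subgroup G)) :=
        sSup_le fun L hL => Finset.le_sup (f := fun L : {K : Subgroup G // Cfsg.IsComponent K} => (L : Subgroup G)) (Finset.mem_univ ⟨L, hL⟩)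
      have h := key Finset.univ x (hle hxE) fun L _ y hy => hxc y (Cfsg.Lib.Core.le_layer L.2 hy)
      exact (Finset.sup_le fun L _ => le_iSup Z L : Finset.univ.sup Z ≤ _) h
    · intro x hx
      obtain ⟨hxL, hxc⟩ := Cfsg.Lib.Core.mem_center_map_iff.1 hx
      refine Cfsg.Lib.Core.mem_center_map_iff.2 ⟨Cfsg.Lib.Core.le_layer L.2 hxL, fun y hy => ?_⟩
      have hle : Cfsg.layer G ≤ Subgroup.centralizer ({x} : Set G) := sSup_le fun K hK => fun z hz => by
        refine Subgroup.mem_centralizer_singleton_iff.2 ?_
        by_cases he : K = L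
        · exact (hxc z (he ▸ hz)).symm
        · exact Cfsg.Lib.Core.commutator_eq_bot_iff_forall.1 (Cfsg.Lib.Core.component_commute hK L.2 he) z hz x hxL
      exact (Subgroup.mem_centralizer_singleton_iff.1 (hle hy)).symm

end Cfsg.Agent.S1263
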