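import Cfsg.Statements.S1264
import Cfsg.Agent.Lib.Core.Layer

set_option autoImplicit false
open Cfsg
open scoped commutatorElement

namespace Cfsg.Agent.S1264

/-- Let G be finite, C = C_G(F(G)) the centralizer of the Fitting subgroup, and N a solvable subgroup of C normalized by C. Then N ≤ Z(F(G)). -/
theorem result {G : Type*} [Group G] [Finite G] (N : Subgroup G) (hN : N ≤ Subgroup.centralizer (Cfsg.fittingSubgroup G : Set G)) (hnorm : Subgroup.centralizer (Cfsg.fittingSubgroup G : Set G) ≤ Subgroup.normalizer (N : Set G)) (hsolv : Group.IsSolvable ↥N) : N ≤ (Subgroup.center ↥(Cfsg.fittingSubgroup G)).map (Cfsg.fittingSubgroup G).subtype := by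
    set F := Cfsg.fittingSubgroup G with hF
    set C := Subgroup.centralizer (F : Set G) with hC
    have := Cfsg.Lib.Core.fittingSubgroup_normal' G
    have hCn : C.Normal := inferInstance
    set Z := (Subgroup.center ↥F).map F.subtype with hZ
    have hCF : C ⊓ F ≤ Z := by rw [hZ, Cfsg.Lib.Core.center_map_eq_inf_centralizer, inf_comm]
    let D : ℕ → Subgroup G := fun k => (derivedSeries ↥N k).map N.subtype
    have hD0 : D 0 = N := by simp [D, ← MonoidHom.range_eq_map]
    have hDs : ∀ k, D (k + 1) = ⁅D k, D k⁆ := fun k => by simp [D, Subgroup.map_commutator]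
    have hDN : ∀ k, D k ≤ N := fun k => Subgroup.map_subtype_le _
    have hstep : ∀ k, D (k + 1) ≤ Z → D k ≤ Z := by
      intro k hk
      have hDC : D k ≤ C := (hDN k).trans hN
      have hn : ((D k).subgroupOf C).Normal := (Subgroup.normal_subgroupOf_iff_le_normalizer hDC).2
        (hnorm.trans (Cfsg.Lib.Core.normalizer_le_normalizer_map_char _))
      have hnil : Group.IsNilpotent ↥(D k) := by
        have : Group.IsNilpotent (Abelianization ↥(D k)) := inferInstance
        refine Subgroup.isNilpotent_of_ker_le_center (Abelianization.of : ↥(D k) →* Abelianization ↥(D k)) ?_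
        rw [Abelianization.ker_of, commutator_def]
        refine Subgroup.commutator_le.2 fun a _ b _ => Subgroup.mem_center_iff.2 fun c => Subtype.ext ?_
        have hz : (⁅a, b⁆ : ↥(D k)).1 ∈ Z := hk (by rw [hDs]; exact Subgroup.commutator_mem_commutator a.2 b.2)
        have hzF : (⁅a, b⁆ : ↥(D k)).1 ∈ F := Subgroup.map_subtype_le _ hz
        exact (Subgroup.mem_centralizer_iff.1 (hDC c.2) _ hzF).symm
      refine le_trans ?_ hCF
      refine le_inf hDC ?_
      have h := Cfsg.Lib.Core.le_fittingSubgroup' hn ?_
      · calc D k = ((D k).subgroupOf C).map C.subtype := (Subgroup.map_subgroupOf_eq_of_le hDC).symm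
          _ ≤ _ := (Subgroup.map_mono h).trans (Cfsg.Lib.Core.fittingSubgroup_map_le_of_isSubnormal hCn.isSubnormal)
      · have := hnil
        exact Group.nilpotent_of_mulEquiv (Subgroup.subgroupOfEquivOfLe hDC).symm
    obtain ⟨n, hn⟩ := (Group.isSolvable_def (G := ↥N)).1 hsolv
    have hall : ∀ j, j ≤ n → D (n - j) ≤ Z := by
      intro j
      induction j with
      | zero => intro _; simp [D, hn]
      | succ j ih => intro hj; exact hstep _ (by rw [show n - (j + 1) + 1 = n - j by omega]; exact ih (by omega))
    rw [← hD0]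
    simpa using hall n le_rfl

end Cfsg.Agent.S1264
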