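import Cfsg.Statements.S1269
import Cfsg.Agent.Lib.Sig.LBalance
import Cfsg.Agent.S1877
-- import your own Cfsg.Agent.* helpers here

set_option autoImplicit false
open Cfsg

namespace Cfsg.Agent.S1269

open Subgroup Cfsg.Lib.Sig
open scoped commutatorElement

set_option linter.style.haveILetI false

variable {X : Type*} [Group X] [Finite X] {p : ℕ} [hp : Fact p.Prime]

/-- A p-component of `C(R) ∩ C(O_p)` normalizes every component. -/
theorem pComponent_le_normalizer (hO : Cfsg.pPrimeCore p X = ⊥)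
    {R : Subgroup X} (hR : IsPGroup p ↥R)
    {H : Subgroup X} (hH : H = centralizer (R : Set X) ⊓ centralizer (Cfsg.pCore p X : Set X))
    {K : Subgroup ↥H} (hK : Cfsg.IsPComponent p K) :
    ∀ L : Subgroup X, Cfsg.IsComponent L → K.map H.subtype ≤ normalizer (L : Set X) := by
  set E := Cfsg.layer X with hE
  set K0 := K.map H.subtype with hK0
  set O := Cfsg.pPrimeCore p ↥H with hOdef
  set π := QuotientGroup.mk' O with hπ
  have hF : Cfsg.fittingSubgroup X = Cfsg.pCore p X := fittingSubgroup_eq_pCore hO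
  have hEn : E.Normal := inferInstance
  have hEC : E ≤ centralizer (Cfsg.pCore p X : Set X) := by
    refine commutator_eq_bot_iff_le_centralizer.1 ?_
    rw [← hF]; exact Cfsg.Lib.Core.commutator_layer_fitting
  set Z := E ⊓ centralizer (E : Set X) with hZ
  have hZF : Z ≤ Cfsg.pCore p X := by
    haveI : Z.Normal := normal_inf_normal _ _
    haveI : IsMulCommutative ↥Z :=
      ⟨⟨fun a b => Subtype.ext ((mem_centralizer_iff.1 (mem_inf.1 b.2).2 (a : X) (mem_inf.1 a.2).1))⟩⟩
    rw [← hF]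
    letI : CommGroup ↥Z := { (inferInstance : Group ↥Z) with mul_comm := fun a b => mul_comm' a b }
    exact Cfsg.Lib.Core.le_fittingSubgroup_of_isSubnormal (inferInstance : Z.Normal).isSubnormal
      CommGroup.isNilpotent
  have hHR : ∀ h ∈ H, ∀ r ∈ R, r * h = h * r := fun h hh r hr => mem_centralizer_iff.1 (mem_inf.1 (hH.le hh)).1 r hr
  have hHQ : ∀ h ∈ H, ∀ z ∈ Cfsg.pCore p X, z * h = h * z := fun h hh z hz =>
    mem_centralizer_iff.1 (mem_inf.1 (hH.le hh)).2 z hz
  have hK0H : K0 ≤ H := map_subtype_le _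
  have hperf : ⁅K0, K0⁆ = K0 := by rw [hK0, ← map_commutator, pComponent_perfect hK]
  by_cases hcase : K.map π ≤ (E.subgroupOf H).map π
  · -- `K` lies in the layer
    refine fun L hL => le_trans ?_ (sSup_le fun L₂ hL₂ => Cfsg.Lib.Core.component_le_normalizer hL₂ hL : E ≤ normalizer (L : Set X))
    rw [hK0, map_le_iff_le_comap]
    conv_lhs => rw [← pComponent_eq_closure hK]
    refine (closure_le _).2 ?_
    rintro x ⟨hx, k, hk⟩
    set D := E.subgroupOf H with hD
    have hx' : x ∈ D ⊔ O := by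
      rw [← QuotientGroup.ker_mk' O, ← comap_map_eq]
      exact mem_comap.2 (hcase (mem_map_of_mem π hx))
    refine (mem_of_isSubnormal_of_relIndex (le_sup_left : D ≤ D ⊔ O)
      (inferInstance : D.Normal).isSubnormal.subgroupOf ?_ hx' hk)
    intro hd
    have h1 : D.relIndex (D ⊔ O) ∣ Nat.card ↥O := by
      refine Nat.dvd_of_mul_dvd_mul_left (k := Nat.card ↥D) Nat.card_pos ?_
      rw [Cfsg.Lib.Core.card_mul_relIndex le_sup_left]
      exact Cfsg.Lib.Core.card_sup_dvd_mul D O
    exact Cfsg.Lib.Core.pPrimeCore_not_dvd p ↥H (hd.trans h1)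
  have hDc : ((E.subgroupOf H).map π) ≤ centralizer (K.map π : Set (↥H ⧸ O)) := by
    refine commutator_eq_bot_iff_le_centralizer.1 ?_
    rw [commutator_comm]
    exact ((Cfsg.Lib.Core.component_le_or_commute hK.2.1
      ((inferInstance : (E.subgroupOf H).Normal).map π (QuotientGroup.mk'_surjective O)).isSubnormal)).resolve_left hcase
  -- elements of `E` commuting with `R` modulo the centre commute with `K` modulo the core
  have key : ∀ x ∈ E, (∀ r ∈ R, x⁻¹ * r * x * r⁻¹ ∈ Z) → ∀ k ∈ K0,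
      k * x * k⁻¹ * x⁻¹ ∈ O.map H.subtype := by
    intro x hx hxR
    have hxN : x ∈ normalizer (H : Set X) := by
      refine mem_normalizer_fintype fun h hh => ?_
      rw [hH]
      refine mem_inf.2 ⟨mem_centralizer_iff.2 fun r hr => ?_, ?_⟩
      · have h1 : h * (x⁻¹ * r * x) = x⁻¹ * r * x * h := by
          have e : x⁻¹ * r * x = x⁻¹ * r * x * r⁻¹ * r := by group
          rw [e, ← mul_assoc, ← hHQ h hh _ (hZF (hxR r hr)), mul_assoc, ← hHR h hh r hr, ← mul_assoc]
        calc r * (x * h * x⁻¹) = x * (x⁻¹ * r * x * h) * x⁻¹ := by group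
          _ = x * h * x⁻¹ * r := by rw [← h1]; group
      · exact (inferInstance : (centralizer (Cfsg.pCore p X : Set X)).Normal).conj_mem h (mem_inf.1 (hH.le hh)).2 x
    let σ : MulAut ↥H := H.normalizerMonoidHom ⟨x, hxN⟩
    let e : (↥H ⧸ O) ≃* (↥H ⧸ O) :=
      QuotientGroup.congr O O σ (Cfsg.Lib.Core.map_pPrimeCore_equiv σ)
    have hmem : ∀ k ∈ H, k * x * k⁻¹ * x⁻¹ ∈ E ⊓ H := by
      intro k hk
      have hE' : k * x * k⁻¹ * x⁻¹ ∈ E := mul_mem (hEn.conj_mem x hx k) (inv_mem hx)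
      refine ⟨hE', hH.ge (mem_inf.2 ⟨?_, hEC hE'⟩)⟩
      have := mul_mem hk ((mem_normalizer_iff.1 hxN k⁻¹).1 (inv_mem hk))
      simpa [mul_assoc] using (mem_inf.1 (hH.le this)).1
    have hfix : ∀ y ∈ K.map π, e y = y := by
      refine component_fixed_of_equiv hK.2.1 e ?_
      rintro _ ⟨k, hk, rfl⟩
      refine hDc ⟨k * (σ k)⁻¹, mem_subgroupOf.2 ?_, ?_⟩
      · have := (hmem k k.2).1
        show (k : X) * (x * k * x⁻¹)⁻¹ ∈ E
        simpa [mul_assoc] using this
      · rw [map_mul, map_inv]; rfl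
    rintro _ ⟨k, hk, rfl⟩
    refine ⟨k * (σ k)⁻¹, ?_, ?_⟩
    · rw [SetLike.mem_coe, ← QuotientGroup.eq_one_iff]
      show π (k * (σ k)⁻¹) = 1
      rw [map_mul, map_inv, mul_inv_eq_one]
      exact (hfix _ (mem_map_of_mem π hk)).symm
    · show (k : X) * (x * k * x⁻¹)⁻¹ = _
      simp [mul_assoc]
  -- `K` fixes every component
  intro L hL
  set M := ⨆ r : ↥R, L.map (MulAut.conj (r : X)).toMonoidHom with hM
  have hLr : ∀ r : X, Cfsg.IsComponent (L.map (MulAut.conj r).toMonoidHom) := fun r =>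
    Cfsg.Lib.Core.IsComponent.map_conj hL r
  have hME : M ≤ E := iSup_le fun r => Cfsg.Lib.Core.le_layer (hLr _)
  have hLM : L ≤ M := fun a ha =>
    (le_iSup (fun r : ↥R => L.map (MulAut.conj (r : X)).toMonoidHom) 1) ⟨a, ha, by simp⟩
  have hMR : ∀ r ∈ R, M.map (MulAut.conj r).toMonoidHom ≤ M := by
    intro r hr
    rw [hM, Subgroup.map_iSup]
    refine iSup_le fun s => ?_
    rw [map_conj_map_conj]
    exact le_iSup (fun r : ↥R => L.map (MulAut.conj (r : X)).toMonoidHom) ⟨r * s, mul_mem hr s.2⟩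
  have hRM : R ≤ normalizer (M : Set X) := fun r hr => mem_normalizer_of_map_conj
    (eq_of_le_of_card_ge (hMR r hr) (card_map_conj _ _).ge)
  set G₀ := M ⊔ R with hG₀
  have hMn : (M.subgroupOf G₀).Normal := (normal_subgroupOf_iff_le_normalizer le_sup_left).2
    (sup_le le_normalizer hRM)
  obtain ⟨P₀, hP₀⟩ := (hR.of_equiv (subgroupOfEquivOfLe (le_sup_right : R ≤ G₀)).symm).exists_le_sylow
  set P := (P₀ : Subgroup ↥G₀).map G₀.subtype with hP
  have hPp : IsPGroup p ↥P := P₀.2.map _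
  have hPG : P ≤ G₀ := map_subtype_le _
  have hRP : R ≤ P := fun r hr => ⟨⟨r, mem_sup_right hr⟩, hP₀ (mem_subgroupOf.2 hr), rfl⟩
  have hPidx : ¬ p ∣ P.relIndex G₀ := by
    rw [hP, relIndex, subgroupOf, comap_map_eq_self_of_injective G₀.subtype_injective]
    exact P₀.not_dvd_index
  have hQidx : ¬ p ∣ (P ⊓ M).relIndex M := not_dvd_relIndex_inf hPG hPp hPidx le_sup_left
    fun h hh n hn => (mem_normalizer_iff.1 ((sup_le le_normalizer hRM) hh) n).1 hn
  have hnot : ¬ P ⊓ M ≤ centralizer (M : Set X) := by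
    intro hc
    have hLMn : ∀ h ∈ M, ∀ n ∈ L, h * n * h⁻¹ ∈ L := fun h hh n hn =>
      (mem_normalizer_iff.1 ((iSup_le fun r : ↥R =>
        Cfsg.Lib.Core.component_le_normalizer (hLr (r : X)) hL : M ≤ normalizer (L : Set X)) hh) n).1 hn
    have hSidx : ¬ p ∣ ((P ⊓ M) ⊓ L).relIndex L :=
      not_dvd_relIndex_inf inf_le_right (hPp.to_le inf_le_left) hQidx hLM hLMn
    have hSp : IsPGroup p ↥(((P ⊓ M) ⊓ L).subgroupOf L) :=
      ((hPp.to_le (inf_le_left.trans inf_le_left)) : IsPGroup p ↥((P ⊓ M) ⊓ L)).of_equiv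
        (subgroupOfEquivOfLe inf_le_right).symm
    let S : Sylow p ↥L := hSp.toSylow hSidx
    refine S.ne_bot_of_dvd_card (dvd_card_component hO hL)
      (not_dvd_card_of_perfect_of_central_sylow (Cfsg.Lib.Core.quasisimple_commutator hL.2) S ?_)
    intro a ha
    refine mem_center_iff.2 fun b => Subtype.ext ?_
    exact mem_centralizer_iff.1 (hc (mem_subgroupOf.1 ha).1) b (hLM b.2)
  -- a p-element of `M` fixed by `R` modulo the centre
  obtain ⟨x, hxQ, hxC, hxR⟩ : ∃ x ∈ P ⊓ M, x ∉ centralizer (M : Set X) ∧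
      ∀ r ∈ R, x⁻¹ * r * x * r⁻¹ ∈ M ⊓ centralizer (M : Set X) := by
    set Q := (M ⊓ P).subgroupOf P with hQ
    set N := ((M ⊓ centralizer (M : Set X)) ⊓ P).subgroupOf P with hN
    have hPM : P ≤ normalizer (M : Set X) := hPG.trans (sup_le le_normalizer hRM)
    have hPC : P ≤ normalizer (centralizer (M : Set X) : Set X) := fun y hy =>
      mem_normalizer_of_map_conj (by
        rw [map_centralizer_equiv, Cfsg.Lib.Core.map_conj_eq_of_mem_normalizer (hPM hy)])
    haveI : Q.Normal := (normal_subgroupOf_iff_le_normalizer inf_le_right).2 fun y hy =>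
      mem_normalizer_fintype fun z hz => mem_inf.2 ⟨(mem_normalizer_iff.1 (hPM hy) z).1 hz.1,
        mul_mem (mul_mem hy hz.2) (inv_mem hy)⟩
    haveI : N.Normal := (normal_subgroupOf_iff_le_normalizer inf_le_right).2 fun y hy =>
      mem_normalizer_fintype fun z hz => mem_inf.2 ⟨mem_inf.2 ⟨(mem_normalizer_iff.1 (hPM hy) z).1 hz.1.1,
        (mem_normalizer_iff.1 (hPC hy) z).1 hz.1.2⟩, mul_mem (mul_mem hy hz.2) (inv_mem hy)⟩
    set q := QuotientGroup.mk' N
    have hne : Q.map q ≠ ⊥ := by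
      rw [Ne, Subgroup.map_eq_bot_iff, QuotientGroup.ker_mk']
      intro hle
      exact hnot fun y hy => ((mem_subgroupOf.1 (hle (x := ⟨y, hy.1⟩) (mem_subgroupOf.2 ⟨hy.2, hy.1⟩))).1.2)
    haveI : (Q.map q).Normal := (inferInstance : Q.Normal).map q (QuotientGroup.mk'_surjective N)
    obtain ⟨y, hy, hy1⟩ := (((Q.map q) ⊓ Subgroup.center (↥P ⧸ N)).bot_or_exists_ne_one).resolve_left
      (Cfsg.Lib.PGroup.inf_center_ne_bot (hPp.to_quotient N) hne)
    obtain ⟨x, hx, rfl⟩ := hy.1
    have hxM := (mem_subgroupOf.1 hx).1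
    refine ⟨x, mem_inf.2 ⟨x.2, hxM⟩, fun hc => hy1 ((QuotientGroup.eq_one_iff x).2
      (mem_subgroupOf.2 ⟨⟨hxM, hc⟩, x.2⟩)), fun r hr => ?_⟩
    have h1 : x⁻¹ * ⟨r, hRP hr⟩ * x * (⟨r, hRP hr⟩ : ↥P)⁻¹ ∈ N := by
      rw [← QuotientGroup.eq_one_iff]
      show q _ = 1
      rw [map_mul, map_mul, map_mul, map_inv, map_inv, mul_assoc (q x)⁻¹,
        (mem_center_iff.1 hy.2 (q ⟨r, hRP hr⟩)), inv_mul_cancel_left, mul_inv_cancel]
    exact (mem_subgroupOf.1 h1).1
  have hZM : M ⊓ centralizer (M : Set X) ≤ Z := by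
    refine le_inf (inf_le_left.trans hME) fun z hz => ?_
    refine mem_centralizer_iff.2 fun a ha => ?_
    have hzE : E ≤ centralizer ({z} : Set X) := sSup_le fun L₂ hL₂ => by
      by_cases h : ∃ r : ↥R, L₂ = L.map (MulAut.conj (r : X)).toMonoidHom
      · obtain ⟨r, rfl⟩ := h
        intro b hb
        refine mem_centralizer_singleton_iff.2 ?_
        exact mem_centralizer_iff.1 hz.2 b
          ((le_iSup (fun r : ↥R => L.map (MulAut.conj (r : X)).toMonoidHom) r) hb)
      · have hc : M ≤ centralizer (L₂ : Set X) := iSup_le fun r =>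
          commutator_eq_bot_iff_le_centralizer.1 (Cfsg.Lib.Core.component_commute (hLr _) hL₂
            fun e => h ⟨r, e.symm⟩)
        intro b hb
        exact mem_centralizer_singleton_iff.2 (mem_centralizer_iff.1 (hc hz.1) b hb)
    exact mem_centralizer_singleton_iff.1 (hzE ha)
  -- orbits are preserved
  have horb : ∀ k ∈ K0, ∃ r ∈ R, L.map (MulAut.conj k).toMonoidHom = L.map (MulAut.conj r).toMonoidHom := by
    intro k hk
    by_contra hno
    push_neg at hno
    have hkR : ∀ r ∈ R, r * k = k * r := fun r hr => hHR k (hK0H hk) r hr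
    have hcomm : M.map (MulAut.conj k).toMonoidHom ≤ centralizer (M : Set X) := by
      rw [hM, Subgroup.map_iSup]
      refine iSup_le fun r => le_centralizer_iff.1 (iSup_le fun s => ?_)
      refine commutator_eq_bot_iff_le_centralizer.1 (Cfsg.Lib.Core.component_commute (hLr _)
        (by rw [map_conj_map_conj]; exact hLr _) fun e => ?_)
      rw [map_conj_map_conj] at e
      have e2 := congrArg (Subgroup.map (MulAut.conj ((r : X)⁻¹)).toMonoidHom) e
      rw [map_conj_map_conj, map_conj_map_conj] at e2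
      apply hno ((r : X)⁻¹ * s) (mul_mem (inv_mem r.2) s.2)
      rw [e2, ← hkR (r : X) r.2, inv_mul_cancel_left]
    have hx' := key x (hME hxQ.2) (fun r hr => hZM (hxR r hr)) k hk
    set a := k * x * k⁻¹ with ha
    have hax : a * x = x * a := (mem_centralizer_iff.1 (hcomm (conj_mem_map_conj hxQ.2)) x hxQ.2).symm
    obtain ⟨n, hn⟩ := hPp ⟨x, hxQ.1⟩
    have hxn : x ^ p ^ n = 1 := congrArg Subtype.val hn
    have h1 : (a * x⁻¹) ^ p ^ n = 1 := by
      rw [(Commute.inv_right hax).mul_pow, inv_pow, hxn, inv_one, mul_one, ha, conj_pow, hxn]; simp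
    have h2 : a * x⁻¹ = 1 := by
      rw [← orderOf_eq_one_iff]
      refine Nat.Coprime.eq_one_of_dvd ?_ (orderOf_dvd_of_pow_eq_one h1)
      obtain ⟨w, hw, hwe⟩ := hx'
      refine Nat.Coprime.pow_right _ (Nat.Coprime.coprime_dvd_left ?_ (Cfsg.Lib.Core.pPrimeCore_coprime p ↥H))
      rw [← hwe, Subgroup.coe_subtype, Subgroup.orderOf_coe]
      exact (Subgroup.orderOf_mk w hw).symm ▸ orderOf_dvd_natCard _
    exact hxC (mul_inv_eq_one.1 h2 ▸ hcomm (conj_mem_map_conj hxQ.2))
  have hres : Cfsg.pResidual p ↥K0 = ⊤ :=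
    pResidual_eq_top_of_perfect (Group.isPerfect_def.1 (Subgroup.isPerfect_iff.2 hperf))
  intro y hy
  have hle : Cfsg.pResidual p ↥K0 ≤ (normalizer (L : Set X)).subgroupOf K0 := by
    refine (closure_le _).2 fun z hz => mem_subgroupOf.2 ?_
    obtain ⟨r, hr, he⟩ := horb z z.2
    have hpow : ∀ m : ℕ, L.map (MulAut.conj ((z : X) ^ m)).toMonoidHom =
        L.map (MulAut.conj (r ^ m)).toMonoidHom := by
      intro m
      induction m with
      | zero => simp
      | succ m ih =>
        rw [pow_succ', ← map_conj_map_conj L, ih, map_conj_map_conj,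
          ← (show Commute (r ^ m) (z : X) from Commute.pow_left (hHR _ (hK0H z.2) r hr) m).eq,
          ← map_conj_map_conj L, he, map_conj_map_conj, ← pow_succ]
    obtain ⟨m, hm⟩ := hR ⟨r, hr⟩
    have h1 : (z : X) ^ p ^ m ∈ normalizer (L : Set X) := mem_normalizer_of_map_conj (by
      rw [hpow, show r ^ p ^ m = 1 from congrArg Subtype.val hm]
      exact Cfsg.Lib.Core.map_conj_eq_of_mem_normalizer (one_mem _))
    have hco : (orderOf (z : X)).Coprime (p ^ m) := by
      rw [Subgroup.orderOf_coe]; exact (Nat.Coprime.pow_right _ hz)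
    exact zpowers_le.2 h1 (mem_zpowers_pow_iff.2 hco.symm)
  rw [hres] at hle
  exact mem_subgroupOf.1 (hle (mem_top (⟨y, hy⟩ : ↥K0)))
theorem isPComponent_of_component (hO : Cfsg.pPrimeCore p X = ⊥) {L : Subgroup X}
    (hL : Cfsg.IsComponent L) : Cfsg.IsPComponent p L := by
  set π := QuotientGroup.mk' (Cfsg.pPrimeCore p X) with hπ
  have hinj : Function.Injective π := by
    rw [← MonoidHom.ker_eq_bot_iff, hπ, QuotientGroup.ker_mk', hO]
  refine ⟨hL.1, Cfsg.Lib.Core.IsComponent.map_equiv hL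
    (MulEquiv.ofBijective π ⟨hinj, QuotientGroup.mk'_surjective _⟩), fun H _ _ he => ?_⟩
  exact Subgroup.map_injective hinj he

theorem core (hO : Cfsg.pPrimeCore p X = ⊥) (P : Subgroup X) (hP : IsPGroup p ↥P) (L : Subgroup X)
    (hL : Cfsg.IsComponent L) :
    ((Cfsg.layer (↥(normalizer (P : Set X)) ⧸ Cfsg.pPrimeCore p ↥(normalizer (P : Set X)))).comap
      (QuotientGroup.mk' (Cfsg.pPrimeCore p ↥(normalizer (P : Set X))))).map
        (normalizer (P : Set X)).subtype ≤ normalizer (L : Set X) := by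
  have hT := pPrimeLayer_normalizer_le_centralizer (p := p) hP
  set N := normalizer (P : Set X) with hN
  set O := Cfsg.pPrimeCore p ↥N with hOdef
  set H := centralizer (P : Set X) ⊓ centralizer (Cfsg.pCore p X : Set X) with hH
  have hHN : H ≤ N := inf_le_left.trans (centralizer_le_normalizer _)
  have hHn : (H.subgroupOf N).Normal := (normal_subgroupOf_iff_le_normalizer hHN).2 fun y hy => by
    refine mem_normalizer_of_map_conj ?_
    rw [hH, map_inf _ _ _ (MulAut.conj y).injective, map_centralizer_equiv, map_centralizer_equiv,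
      Cfsg.Lib.Core.map_conj_eq_of_mem_normalizer hy, Cfsg.Lib.Core.map_conj_eq_of_mem_normalizer
        (show y ∈ normalizer (Cfsg.pCore p X : Set X) by rw [normalizer_eq_top (H := Cfsg.pCore p X)]; trivial)]
  rw [← map_pLayer, comap_map_eq, QuotientGroup.ker_mk', Subgroup.map_sup]
  refine sup_le ?_ ?_
  · rw [Cfsg.pLayer, map_le_iff_le_comap]
    refine sSup_le fun K hK => map_le_iff_le_comap.1 ?_
    have hKH : K.map N.subtype ≤ H := by
      refine le_inf ?_ (le_trans (map_mono ?_) hT)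
      · haveI : (P.subgroupOf N).Normal := normal_subgroupOf_iff_le_normalizer le_normalizer |>.2 le_rfl
        have h := pComponent_le_centralizer_of_pGroup hK
          (T := P.subgroupOf N) (hP.of_equiv (subgroupOfEquivOfLe le_normalizer).symm)
        rintro _ ⟨k, hk, rfl⟩
        refine mem_centralizer_iff.2 fun r hr => ?_
        exact congrArg Subtype.val (mem_centralizer_iff.1 (h hk) ⟨r, le_normalizer hr⟩ (mem_subgroupOf.2 hr))
      · rw [← map_le_iff_le_comap]
        exact le_sSup hK.2.1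
    refine (pComponent_map_le_pLayerOf hHN hHn hK hKH).trans ?_
    rw [Cfsg.pLayerOf, Cfsg.pLayer, map_le_iff_le_comap]
    exact sSup_le fun K' hK' => map_le_iff_le_comap.1 (pComponent_le_normalizer hO hP hH hK' L hL)
  · exact ((Cfsg.Agent.S1877.core P hP).trans inf_le_left).trans
      (iInf_le (fun K : {K : Subgroup X // Cfsg.IsPComponent p K} => normalizer ((K : Subgroup X) : Set X))
        ⟨L, isPComponent_of_component hO hL⟩)

/-- Let G be finite with O_{p'}(G) = 1, P a p-subgroup, N = N_G(P), and x an element of the preimage in N of E(N / O_{p'}(N)). Then x normalizes every component L of G. -/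
theorem result {G : Type*} [Group G] [Finite G] (p : ℕ) [Fact p.Prime] (hO : Cfsg.pPrimeCore p G = ⊥) (P : Subgroup G) (hP : IsPGroup p ↥P) (L : Subgroup G) (hL : Cfsg.IsComponent L) (x : G) (hx : x ∈ (((Cfsg.layer (↥(Subgroup.normalizer ((P : Subgroup G) : Set G)) ⧸ Cfsg.pPrimeCore p ↥(Subgroup.normalizer ((P : Subgroup G) : Set G)))).comap (QuotientGroup.mk' (Cfsg.pPrimeCore p ↥(Subgroup.normalizer ((P : Subgroup G) : Set G))))).map (Subgroup.normalizer ((P : Subgroup G) : Set G)).subtype)) : L.map (MulAut.conj x).toMonoidHom = L := by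
  exact Cfsg.Lib.Core.map_conj_eq_of_mem_normalizer (core hO P hP L hL hx)

end Cfsg.Agent.S1269
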