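import Cfsg.Statements.S1270
import Cfsg.Agent.Lib.Sig.LocalBalanceApps

set_option autoImplicit false
open Cfsg

namespace Cfsg.Agent.S1270

/-- Let G be finite with O_{p'}(G) = 1, x of order p, and L a component with ⁅L, ⟨x⟩⁆ ≠ L. Then ⁅L, O_{p'}(C_G(x))⁆ = 1. -/
theorem result {G : Type*} [Group G] [Finite G] (p : ℕ) [Fact p.Prime] (hO : Cfsg.pPrimeCore p G = ⊥) (x : G) (hx : orderOf x = p) (L : Subgroup G) (hL : Cfsg.IsComponent L) (hne : ⁅L, Subgroup.zpowers x⁆ ≠ L) : ⁅L, Cfsg.centralizerPPrimeCore p x⁆ = ⊥ := by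
  have hxp : x ^ p = 1 := hx ▸ pow_orderOf_eq_one x
  have hd := Cfsg.Lib.Sig.LocalBalance.le_coreC hxp (Cfsg.Lib.Sig.LocalBalance.core_coprime x)
    (le_refl (Cfsg.centralizerPPrimeCore p x))
  rw [Subgroup.commutator_eq_bot_iff_le_centralizer, Subgroup.le_centralizer_iff]
  intro d hdR
  by_cases hxL : x ∈ Subgroup.normalizer (L : Set G)
  swap
  · exact Cfsg.Lib.Sig.LocalBalance.moved hO hL hxp hxL (hd hdR)
  refine Cfsg.Lib.Sig.LocalBalance.centralized hO hL hxp ?_ (hd hdR)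
  set C := ⁅L, Subgroup.zpowers x⁆
  have hCL : C ≤ L := Subgroup.le_normalizer_iff_commutator_le_left.1 (Subgroup.zpowers_le.2 hxL)
  haveI : (C.subgroupOf L).Normal := (Subgroup.normal_subgroupOf_iff_le_normalizer hCL).2
    (Subgroup.normalizer_commutator_ge_left L (Subgroup.zpowers x))
  rcases Cfsg.Lib.Core.quasisimple_normal hL.2 (N := C.subgroupOf L) with h | h
  swap
  · exact absurd (le_antisymm hCL (Subgroup.subgroupOf_eq_top.1 h)) hne
  rw [Subgroup.mem_centralizer_iff]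
  intro k hk
  have hfix := Cfsg.Lib.Sig.component_fixed_of_equiv hL (MulAut.conj x) (fun u hu => by
    have hc := Subgroup.commutator_mem_commutator hu (Subgroup.mem_zpowers x)
    have he : u * (MulAut.conj x u)⁻¹ = u * x * u⁻¹ * x⁻¹ := by
      rw [MulAut.conj_apply]; group
    rw [he, Subgroup.mem_centralizer_iff]
    intro v hv
    have hmem := Subgroup.mem_center_iff.1 (h (Subgroup.mem_subgroupOf.2 (show
      ((⟨_, hCL hc⟩ : ↥L) : G) ∈ C from hc))) ⟨v, hv⟩
    exact congrArg Subtype.val hmem) k hk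
  exact (mul_inv_eq_iff_eq_mul.1 hfix).symm

end Cfsg.Agent.S1270
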