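import Cfsg.Statements.S1271
import Cfsg.Agent.Lib.Sig.LocalBalanceApps

set_option autoImplicit false
open Cfsg

namespace Cfsg.Agent.S1271

/-- Let G be finite with O_{p'}(G) = 1. Suppose that for every component L of G and every subgroup H ≥ L in which L is normal, the quotient H / C_H(L) is balanced for the prime p. Then G is balanced for p. -/
theorem result {G : Type*} [Group G] [Finite G] (p : ℕ) [Fact p.Prime] (hO : Cfsg.pPrimeCore p G = ⊥) (h : ∀ L : Subgroup G, Cfsg.IsComponent L → ∀ H : Subgroup G, L ≤ H → (L.subgroupOf H).Normal → ∀ [((Subgroup.centralizer (L : Set G)).subgroupOf H).Normal], Cfsg.IsBalancedFor p (↥H ⧸ (Subgroup.centralizer (L : Set G)).subgroupOf H)) : Cfsg.IsBalancedFor p G := by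
  intro x hx
  have hp := (Fact.out : p.Prime)
  rw [hO]
  have hx1 : x ≠ 1 := fun hh => by rw [hh, orderOf_one] at hx; exact hp.ne_one hx.symm
  refine (Cfsg.Lib.Sig.LocalBalance.eq_bot_of_components hO (Subgroup.zpowers x)
    (Cfsg.centralizerPPrimeCore p x) ?_ (fun hh => hx1 (Subgroup.zpowers_eq_bot.1 hh))
    (Cfsg.Lib.Sig.LocalBalance.core_coprime x) ?_ ?_).le
  · rintro _ ⟨i, rfl⟩
    show (x ^ i) ^ p = 1
    rw [← zpow_natCast, ← zpow_mul, mul_comm, zpow_mul, zpow_natCast, ← hx, pow_orderOf_eq_one, one_zpow]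
  · intro a ha ha1
    have h1 : Subgroup.zpowers a = Subgroup.zpowers x := by
      refine Subgroup.eq_of_le_of_card_ge (Subgroup.zpowers_le.2 ha) ?_
      rw [Nat.card_zpowers, Nat.card_zpowers, hx]
      obtain ⟨i, rfl⟩ := ha
      rcases (Nat.dvd_prime hp).1 (hx ▸ orderOf_dvd_of_mem_zpowers (⟨i, rfl⟩ : x ^ i ∈ Subgroup.zpowers x)) with h2 | h2
      · exact absurd (orderOf_eq_one_iff.1 h2) ha1
      · exact h2.ge
    have h2 : Subgroup.centralizer ({a} : Set G) = Subgroup.centralizer {x} := by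
      rw [← Subgroup.centralizer_closure ({a} : Set G), ← Subgroup.zpowers_eq_closure, h1,
        Subgroup.zpowers_eq_closure, Subgroup.centralizer_closure]
    show Cfsg.centralizerPPrimeCore p x ≤ Cfsg.centralizerPPrimeCore p a
    unfold Cfsg.centralizerPPrimeCore
    rw [h2]
  intro K hK hAN hDN hf hcore d hd
  classical
  set H := K ⊔ (Subgroup.zpowers x ⊔ Cfsg.centralizerPPrimeCore p x) with hH
  have hHN : H ≤ Subgroup.normalizer (K : Set G) := sup_le Subgroup.le_normalizer (sup_le hAN hDN)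
  haveI hn : ((Subgroup.centralizer (K : Set G)).subgroupOf H).Normal := ⟨fun c hc m =>
    Subgroup.mem_subgroupOf.2 ((Subgroup.mem_normalizer_iff.1
      (Cfsg.Lib.Sig.LocalBalance.le_normalizer_centralizer hO hK (hHN m.2)) _).1
        (Subgroup.mem_subgroupOf.1 hc))⟩
  have hbal := h K hK H le_sup_left
    ((Subgroup.normal_subgroupOf_iff_le_normalizer le_sup_left).2 hHN)
  set C' := (Subgroup.centralizer (K : Set G)).subgroupOf H with hC'
  set φ := K.normalizerMonoidHom with hφ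
  set M := H.subgroupOf (Subgroup.normalizer (K : Set G)) with hM
  let g : ↥H →* ↥(M.map φ) := (φ.comp (Subgroup.inclusion hHN)).codRestrict _ (fun m =>
    Subgroup.mem_map_of_mem φ (Subgroup.mem_subgroupOf.2 m.2))
  have hker : ∀ m, φ m = 1 → (m : G) ∈ Subgroup.centralizer (K : Set G) := fun m hm => by
    rw [Subgroup.mem_centralizer_iff]
    intro k hk
    have h1 : (m : G) * k * (m : G)⁻¹ = k := by
      show ((φ m ⟨k, hk⟩ : ↥K) : G) = k
      rw [hm]
      rfl
    exact (mul_inv_eq_iff_eq_mul.1 h1).symm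
  have hker' : ∀ m : G, m ∈ Subgroup.centralizer (K : Set G) → ∀ hm, φ ⟨m, hm⟩ = 1 := fun m hm hm' => by
    refine MulEquiv.ext fun k => Subtype.ext ?_
    show m * (k : G) * m⁻¹ = k
    rw [← Subgroup.mem_centralizer_iff.1 hm k k.2, mul_inv_cancel_right]
  let j : ↥H ⧸ C' →* ↥(M.map φ) := QuotientGroup.lift C' g (fun m hm =>
    MonoidHom.mem_ker.2 (Subtype.ext (hker' m (Subgroup.mem_subgroupOf.1 hm) _)))
  have hj : Function.Injective j := by
    rw [← MonoidHom.ker_eq_bot_iff, eq_bot_iff]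
    intro q hq
    obtain ⟨m, rfl⟩ := QuotientGroup.mk_surjective q
    rw [Subgroup.mem_bot, QuotientGroup.eq_one_iff]
    exact Subgroup.mem_subgroupOf.2 (hker _ (congrArg Subtype.val (MonoidHom.mem_ker.1 hq)))
  have hxH : x ∈ H := Subgroup.mem_sup_right (Subgroup.mem_sup_left (Subgroup.mem_zpowers x))
  have hdH : d ∈ H := Subgroup.mem_sup_right (Subgroup.mem_sup_right hd)
  set f := QuotientGroup.mk' C' with hf'
  have hxo : orderOf (f ⟨x, hxH⟩) = p := by
    have hdvd : orderOf (f ⟨x, hxH⟩) ∣ p := by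
      refine (orderOf_map_dvd f _).trans ?_
      rw [Subgroup.orderOf_mk, hx]
    rcases (Nat.dvd_prime hp).1 hdvd with h1 | h1
    · exact absurd (Subgroup.mem_subgroupOf.1 ((QuotientGroup.eq_one_iff _).1 (orderOf_eq_one_iff.1 h1)))
        (hf x (Subgroup.mem_zpowers x) hx1)
    · exact h1
  have hdR : f ⟨d, hdH⟩ ∈ Cfsg.centralizerPPrimeCore p (f ⟨x, hxH⟩) := by
    refine Cfsg.Lib.Sig.LocalBalance.mem_core_of_injective hj ?_
    refine Cfsg.Lib.Sig.LocalBalance.map_mem_core hO hK (hcore x (Subgroup.mem_zpowers x) hx1 hd) φ hker M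
      (fun m hm => ?_) (hHN hdH) (Subgroup.mem_subgroupOf.2 hdH) (hHN hxH) (Subgroup.mem_subgroupOf.2 hxH)
    have hm' : (m : G) ∈ (Subgroup.zpowers x ⊔ Cfsg.centralizerPPrimeCore p x) ⊔ K := by
      rw [sup_comm]; exact Subgroup.mem_subgroupOf.1 hm
    obtain ⟨w, hw, u, hu, he⟩ := (Cfsg.Lib.Core.mem_sup_of_le_normalizer (sup_le hAN hDN)).1 hm'
    refine ⟨w * u * w⁻¹, (Subgroup.mem_normalizer_iff.1 (sup_le hAN hDN hw) u).1 hu, ?_⟩
    have hle : Subgroup.zpowers x ⊔ Cfsg.centralizerPPrimeCore p x ≤ Subgroup.centralizer ({x} : Set G) :=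
      sup_le (Subgroup.zpowers_le.2 (Subgroup.mem_centralizer_singleton_iff.2 rfl)) (Subgroup.map_subtype_le _)
    rw [← he]
    simpa [mul_assoc] using hle hw
  have hdQ := hbal _ hxo hdR
  set V : Subgroup ↥K := ((Cfsg.pPrimeCore p (↥H ⧸ C')).comap (f.comp (Subgroup.inclusion le_sup_left))) with hV
  haveI : V.Normal := Subgroup.Normal.comap inferInstance _
  have hVc : V ≤ Subgroup.center ↥K := by
    rcases Cfsg.Lib.Core.quasisimple_normal hK.2 (N := V) with h1 | h1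
    · exact h1
    · exfalso
      obtain ⟨u, hu, huC, n, hun⟩ := Cfsg.Lib.Sig.LocalBalance.exists_noncentral_pow_eq_one hO hK
      have h2 : f ⟨u, Subgroup.mem_sup_left hu⟩ ∈ Cfsg.pPrimeCore p (↥H ⧸ C') :=
        h1.ge (Subgroup.mem_top (⟨u, hu⟩ : ↥K))
      have h3 := Cfsg.Lib.Sig.LocalBalance.orderOf_coprime_of_mem
        (Cfsg.Lib.Core.pPrimeCore_coprime p _) h2
      have h4 : orderOf (f ⟨u, Subgroup.mem_sup_left hu⟩) ∣ p ^ n := orderOf_dvd_of_pow_eq_one (by
        rw [← map_pow, show (⟨u, Subgroup.mem_sup_left hu⟩ : ↥H) ^ p ^ n = 1 from Subtype.ext hun, map_one])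
      have h5 := orderOf_eq_one_iff.1 (Nat.Coprime.eq_one_of_dvd (h3.pow_right n) h4)
      exact huC (Subgroup.mem_subgroupOf.1 ((QuotientGroup.eq_one_iff _).1 h5))
  rw [Subgroup.mem_centralizer_iff]
  intro k hk
  have hfix := Cfsg.Lib.Sig.component_fixed_of_equiv hK (MulAut.conj d) (fun u hu => by
    have hdu : d * u * d⁻¹ ∈ K := (Subgroup.mem_normalizer_iff.1 (hDN hd) u).1 hu
    have hmem : (⟨u, hu⟩ * (⟨d * u * d⁻¹, hdu⟩ : ↥K)⁻¹ : ↥K) ∈ V := by
      rw [hV, Subgroup.mem_comap]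
      have e : Subgroup.inclusion (le_sup_left : K ≤ H) (⟨u, hu⟩ * (⟨d * u * d⁻¹, hdu⟩ : ↥K)⁻¹) =
          ((⟨u, Subgroup.mem_sup_left hu⟩ : ↥H) * ⟨d, hdH⟩ * (⟨u, Subgroup.mem_sup_left hu⟩ : ↥H)⁻¹) * (⟨d, hdH⟩ : ↥H)⁻¹ := by
        refine Subtype.ext ?_
        show u * (d * u * d⁻¹)⁻¹ = u * d * u⁻¹ * d⁻¹
        group
      rw [MonoidHom.comp_apply, e, map_mul, map_mul, map_mul, map_inv, map_inv]
      exact Subgroup.mul_mem _ ((inferInstance : (Cfsg.pPrimeCore p (↥H ⧸ C')).Normal).conj_mem _ hdQ _)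
        (Subgroup.inv_mem _ hdQ)
    rw [Subgroup.mem_centralizer_iff]
    intro v hv
    exact congrArg Subtype.val (Subgroup.mem_center_iff.1 (hVc hmem) ⟨v, hv⟩)) k hk
  exact ((mul_inv_eq_iff_eq_mul.1 hfix)).symm

end Cfsg.Agent.S1271
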