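import Cfsg.Statements.S1273
import Cfsg.Agent.Lib.Sig.PComponent

set_option autoImplicit false
open Cfsg

namespace Cfsg.Agent.S1273

/-- Let K be a p-component of the finite group X and N a normal subgroup of K whose index in K is prime to p. Then N = K. -/
theorem result {X : Type*} [Group X] [Finite X] (p : ℕ) [Fact p.Prime] (K : Subgroup X) (hK : Cfsg.IsPComponent p K) (N : Subgroup ↥K) [N.Normal] (hidx : (N.index).Coprime p) : N = ⊤ := by
    refine top_le_iff.1 fun x _ => ?_
    have hle : Cfsg.Lib.Sig.pElementsClosure p K ≤ N.map K.subtype := by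
      refine (Subgroup.closure_le _).2 ?_
      rintro y ⟨hy, k, hk⟩
      refine ⟨⟨y, hy⟩, ?_, rfl⟩
      rw [← Subgroup.orderOf_mk y hy] at hk
      show (⟨y, hy⟩ : ↥K) ∈ N
      rw [← QuotientGroup.eq_one_iff, ← orderOf_eq_one_iff]
      refine Nat.eq_one_of_dvd_coprimes (hidx.symm.pow_left k) ?_ (orderOf_dvd_natCard _)
      rw [← hk]
      exact orderOf_map_dvd (QuotientGroup.mk' N) _
    rw [Cfsg.Lib.Sig.pComponent_eq_closure hK] at hle
    obtain ⟨y, hy, e⟩ := hle x.2
    exact (Subtype.ext e : y = x) ▸ hy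

end Cfsg.Agent.S1273
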