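import Cfsg.Statements.S1277
import Cfsg.Agent.Lib.Sig.PComponent
import Cfsg.Agent.Lib.Core.Layer

set_option autoImplicit false
open Cfsg

namespace Cfsg.Agent.S1277

/-- For a finite group X with core O(X): the image of E(X) in X / O(X) is all of E(X / O(X)) if and only if every 2-component of X is a component, i.e. L_{2'}(X) ≤ E(X). -/
theorem result {X : Type*} [Group X] [Finite X] : (Cfsg.layer X).map (QuotientGroup.mk' (Cfsg.oddCore X)) = Cfsg.layer (X ⧸ Cfsg.oddCore X) ↔ Cfsg.pLayer 2 X ≤ Cfsg.layer X := by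
    set f := QuotientGroup.mk' (Cfsg.pPrimeCore 2 X) with hf
    show (Cfsg.layer X).map f = Cfsg.layer (X ⧸ Cfsg.pPrimeCore 2 X) ↔ _
    constructor
    · intro h
      refine sSup_le fun K hK => ?_
      have hE : (Cfsg.layer X).IsSubnormal := Cfsg.Lib.Core.isSubnormal_sSup_components fun L hL => hL
      refine (Cfsg.Lib.Sig.pComponent_le_of_map_eq hK (H := (K.map f).comap f ⊓ Cfsg.layer X) ((hK.2.1.1.comap f).inf hE) ?_).trans inf_le_right
      refine le_antisymm ((Subgroup.map_mono inf_le_left).trans (Subgroup.map_comap_le f _)) fun y hy => ?_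
      obtain ⟨e, he, rfl⟩ := h.symm.le (Cfsg.Lib.Core.le_layer hK.2.1 hy)
      exact ⟨e, ⟨hy, he⟩, rfl⟩
    · intro h
      refine le_antisymm ?_ ?_
      · rw [Subgroup.map_le_iff_le_comap]
        exact sSup_le fun L hL => Subgroup.map_le_iff_le_comap.1 (Cfsg.Lib.Sig.map_component_le_layer hL)
      · rw [← Cfsg.Lib.Sig.map_pLayer]
        exact Subgroup.map_mono h

end Cfsg.Agent.S1277
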