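import Cfsg.Statements.S1278
import Cfsg.Agent.Lib.Sig.PComponent

set_option autoImplicit false
open Cfsg

namespace Cfsg.Agent.S1278

/-- Let K ≠ L be 2-components of the finite group X. Then ⁅K, L⁆ ≤ O(K) ⊓ O(L), and if K is quasisimple then ⁅K, L⁆ = 1. -/
theorem result {X : Type*} [Group X] [Finite X] (K L : Subgroup X) (hK : Cfsg.IsPComponent 2 K) (hL : Cfsg.IsPComponent 2 L) (hne : K ≠ L) : ⁅K, L⁆ ≤ ((Cfsg.oddCore ↥K).map K.subtype) ⊓ ((Cfsg.oddCore ↥L).map L.subtype) ∧ (Cfsg.IsQuasisimple ↥K → ⁅K, L⁆ = ⊥) := by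
    have hKc := Cfsg.Lib.Sig.inf_pPrimeCore_eq (p := 2) hK.1
    have hLc := Cfsg.Lib.Sig.inf_pPrimeCore_eq (p := 2) hL.1
    have h := Cfsg.Lib.Sig.pComponent_commutator_le hK hL hne
    refine ⟨?_, fun hq => ?_⟩
    · show ⁅K, L⁆ ≤ (Cfsg.pPrimeCore 2 ↥K).map K.subtype ⊓ (Cfsg.pPrimeCore 2 ↥L).map L.subtype
      rw [hKc, hLc]
      exact le_inf (h.trans (inf_le_inf_left _ inf_le_left)) (h.trans (inf_le_inf_left _ inf_le_right))
    · rw [Subgroup.commutator_comm]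
      refine Cfsg.Lib.Core.commutator_eq_bot_of_perfect (Cfsg.Lib.Sig.pComponent_perfect hK) (le_bot_iff.1 ?_)
      refine (Subgroup.commutator_mono ((Subgroup.commutator_comm L K).le.trans (h.trans (inf_le_inf_left _ inf_le_left))) le_rfl).trans ?_
      rw [Subgroup.commutator_comm]
      exact ((Cfsg.Lib.Sig.isQuasisimple_pComponent_iff hK).1 hq).le

end Cfsg.Agent.S1278
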