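import Cfsg.Statements.S1280
import Cfsg.Agent.Lib.Coprime.Action
import Cfsg.Agent.Lib.Core.Fitting

set_option autoImplicit false
open Cfsg
open scoped commutatorElement

namespace Cfsg.Agent.S1280

/-- Let θ be a solvable A-signalizer functor (A a noncyclic elementary abelian p-subgroup of the finite group G), and X, Y members of its family with Y ≤ N_G(X). Then X ⊔ Y (= XY) is again in the family. -/
theorem result {G : Type*} [Group G] [Finite G] (p : ℕ) [Fact p.Prime] (A : Subgroup G) (hA : Cfsg.IsElementaryAbelian p A) (hA2 : p ^ 2 ≤ Nat.card ↥A) (θ : G → Subgroup G) (hθ : Cfsg.IsSolvableSignalizerFunctor p A θ) (X Y : Subgroup G) (hX : X ∈ Cfsg.signalizerFamily p A θ) (hY : Y ∈ Cfsg.signalizerFamily p A θ) (hn : Y ≤ Subgroup.normalizer (X : Set G)) : X ⊔ Y ∈ Cfsg.signalizerFamily p A θ := by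
    obtain ⟨hXs, hXp, hXi, hXf⟩ := hX
    obtain ⟨hYs, hYp, hYi, hYf⟩ := hY
    have hmem : ∀ z ∈ X ⊔ Y, ∃ x ∈ X, ∃ y ∈ Y, x * y = z := fun z hz => by
      rw [sup_comm] at hz
      obtain ⟨y, hy, x, hx, rfl⟩ := (Cfsg.Lib.Core.mem_sup_of_le_normalizer hn).1 hz
      exact ⟨y * x * y⁻¹, (Subgroup.mem_normalizer_iff.1 (hn hy) x).1 hx, y, hy, by group⟩
    have hsupn : X ⊔ Y ≤ Subgroup.normalizer (X : Set G) := sup_le Subgroup.le_normalizer hn
    have hXn : (X.subgroupOf (X ⊔ Y)).Normal := (Subgroup.normal_subgroupOf_iff_le_normalizer le_sup_left).2 hsupn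
    refine ⟨?_, ?_, ?_, ?_⟩
    · set f := QuotientGroup.mk' (X.subgroupOf (X ⊔ Y))
      have := hYs
      have hq : Group.IsSolvable (↥(X ⊔ Y) ⧸ X.subgroupOf (X ⊔ Y)) := by
        refine Group.isSolvable_of_surjective (f := f.comp (Subgroup.inclusion le_sup_right : ↥Y →* ↥(X ⊔ Y))) fun q => ?_
        obtain ⟨⟨z, hz⟩, rfl⟩ := QuotientGroup.mk'_surjective _ q
        obtain ⟨x, hx, y, hy, rfl⟩ := hmem z hz
        refine ⟨⟨y, hy⟩, QuotientGroup.eq.2 ?_⟩
        rw [Subgroup.mem_subgroupOf]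
        show y⁻¹ * (x * y) ∈ X
        have : y⁻¹ * (x * y) = y⁻¹ * x * (y⁻¹)⁻¹ := by group
        rw [this]
        exact (Subgroup.mem_normalizer_iff.1 (inv_mem (hn hy)) x).1 hx
      have := hXs
      have hX' : Group.IsSolvable ↥(X.subgroupOf (X ⊔ Y)) :=
        Group.isSolvable_of_isSolvable_injective (f := (Subgroup.subgroupOfEquivOfLe (le_sup_left : X ≤ X ⊔ Y)).toMonoidHom) (MulEquiv.injective _)
      exact Group.isSolvable_of_ker_le_range (X.subgroupOf (X ⊔ Y)).subtype f (by rw [QuotientGroup.ker_mk', Subgroup.range_subtype])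
    · intro hd
      have h : Nat.card ↥(X ⊔ Y) ∣ Nat.card ↥X * Nat.card ↥Y := by
        rw [← Cfsg.Lib.Core.card_mul_relIndex (le_sup_left : X ≤ X ⊔ Y)]
        refine Nat.mul_dvd_mul_left _ ?_
        have e : (Y.subgroupOf (X ⊔ Y)) ⊔ X.subgroupOf (X ⊔ Y) = ⊤ := by
          rw [← Subgroup.subgroupOf_sup le_sup_right le_sup_left, sup_comm, Subgroup.subgroupOf_self]
        have h2 := Cfsg.Lib.Core.card_sup_dvd_mul (Y.subgroupOf (X ⊔ Y)) (X.subgroupOf (X ⊔ Y))
        rw [e, Subgroup.card_top, ← Subgroup.card_mul_index (X.subgroupOf (X ⊔ Y)), mul_comm (Nat.card ↥(Y.subgroupOf _))] at h2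
        have h3 := Nat.dvd_of_mul_dvd_mul_left Nat.card_pos h2
        rwa [Nat.card_congr (Subgroup.subgroupOfEquivOfLe (le_sup_right : Y ≤ X ⊔ Y)).toEquiv] at h3
      rcases (Fact.out : p.Prime).dvd_mul.1 (hd.trans h) with h | h
      · exact hXp h
      · exact hYp h
    · intro b hb u hu
      obtain ⟨x, hx, y, hy, rfl⟩ := hmem u hu
      have e : b * (x * y) * b⁻¹ = (b * x * b⁻¹) * (b * y * b⁻¹) := by group
      rw [e]
      exact mul_mem (Subgroup.mem_sup_left (hXi b hb x hx)) (Subgroup.mem_sup_right (hYi b hb y hy))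
    · intro a ha ha1 z hz
      obtain ⟨hz1, hz2⟩ := Subgroup.mem_inf.1 hz
      obtain ⟨x, hx, y, hy, rfl⟩ := hmem z hz1
      have haY : Subgroup.zpowers a ≤ Subgroup.normalizer (Y : Set G) := Subgroup.zpowers_le.2 (Subgroup.mem_normalizer_iff.2 fun w =>
        ⟨hYi a ha w, fun h => by simpa [mul_assoc] using hYi a⁻¹ (inv_mem ha) _ h⟩)
      have haX : Subgroup.zpowers a ≤ Subgroup.normalizer (X : Set G) := Subgroup.zpowers_le.2 (Subgroup.mem_normalizer_iff.2 fun w =>
        ⟨hXi a ha w, fun h => by simpa [mul_assoc] using hXi a⁻¹ (inv_mem ha) _ h⟩)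
      have hoa : orderOf a = p := orderOf_eq_prime (hA.2 a ha) ha1
      obtain ⟨n, hn', c, hc, rfl⟩ := Cfsg.Lib.Coprime.exists_mul_centralizer_of_commutator_mem haY
        (by rw [Nat.card_zpowers, hoa]; exact (Fact.out : p.Prime).coprime_iff_not_dvd.2 hYp)
        (Or.inr hYs) (N := X ⊓ Y) inf_le_right ((le_inf haX haY).trans Subgroup.inf_normalizer_le_normalizer_inf) hy
        (fun b hb => by
          have hbc : (x * y) * b = b * (x * y) := by
            obtain ⟨i, rfl⟩ := Subgroup.mem_zpowers_iff.1 hb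
            exact ((show Commute (x * y) a from Subgroup.mem_centralizer_singleton_iff.1 hz2).zpow_right i).eq
          rw [commutatorElement_def]
          refine ⟨?_, ?_⟩
          · have e : y * b * y⁻¹ * b⁻¹ = x⁻¹ * (b * x * b⁻¹) := by
              calc y * b * y⁻¹ * b⁻¹ = x⁻¹ * ((x * y) * b) * y⁻¹ * b⁻¹ := by group
                _ = x⁻¹ * (b * (x * y)) * y⁻¹ * b⁻¹ := by rw [hbc]
                _ = x⁻¹ * (b * x * b⁻¹) := by group
            rw [e]
            exact X.mul_mem (X.inv_mem hx) ((Subgroup.mem_normalizer_iff.1 (haX hb) x).1 hx)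
          · have e : y * b * y⁻¹ * b⁻¹ = y * (b * y⁻¹ * b⁻¹) := by group
            rw [e]
            exact Y.mul_mem hy ((Subgroup.mem_normalizer_iff.1 (haY hb) _).1 (Y.inv_mem hy)))
      have hc2 : c ∈ Subgroup.centralizer ({a} : Set G) :=
        Subgroup.mem_centralizer_singleton_iff.2 (Subgroup.mem_centralizer_iff.1 hc.2 a (Subgroup.mem_zpowers a)).symm
      rw [← mul_assoc] at hz2 ⊢
      refine mul_mem (hXf a ha ha1 ⟨mul_mem hx hn'.1, ?_⟩) (hYf a ha ha1 ⟨hc.1, hc2⟩)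
      have := Subgroup.mul_mem _ hz2 (Subgroup.inv_mem _ hc2)
      simpa [mul_assoc] using this

end Cfsg.Agent.S1280
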