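import Cfsg.Statements.S1281
import Cfsg.Agent.Lib.Coprime.Action

set_option autoImplicit false
open Cfsg
open scoped commutatorElement

namespace Cfsg.Agent.S1281

/-- Let θ be a solvable A-signalizer functor on the finite group G (A a noncyclic elementary abelian p-subgroup) and N a normal subgroup of order prime to p. Then for all non-identity a, b ∈ A, the image of θ a in G / N meets the centralizer of the image of b inside the image of θ b. -/
theorem result {G : Type*} [Group G] [Finite G] (p : ℕ) [Fact p.Prime] (A : Subgroup G) (hA : Cfsg.IsElementaryAbelian p A) (hA2 : p ^ 2 ≤ Nat.card ↥A) (θ : G → Subgroup G) (hθ : Cfsg.IsSolvableSignalizerFunctor p A θ) (N : Subgroup G) [N.Normal] (hN : ¬ p ∣ Nat.card ↥N) (a b : G) (ha : a ∈ A) (ha1 : a ≠ 1) (hb : b ∈ A) (hb1 : b ≠ 1) : (θ a).map (QuotientGroup.mk' N) ⊓ Subgroup.centralizer {QuotientGroup.mk' N b} ≤ (θ b).map (QuotientGroup.mk' N) := by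
    intro z hz
    obtain ⟨hz1, hz2⟩ := Subgroup.mem_inf.1 hz
    obtain ⟨x, hx, rfl⟩ := hz1
    obtain ⟨⟨h1, h2, h3, h4⟩, h5⟩ := hθ
    have hbn : Subgroup.zpowers b ≤ Subgroup.normalizer (θ a : Set G) := Subgroup.zpowers_le.2 (Subgroup.mem_normalizer_iff.2 fun w =>
        ⟨h3 a ha ha1 b hb w, fun h => by simpa [mul_assoc] using h3 a ha ha1 b⁻¹ (inv_mem hb) _ h⟩)
    have hbN : Subgroup.zpowers b ≤ Subgroup.normalizer (N : Set G) := by
      rw [Subgroup.normalizer_eq_top_iff.2 ‹N.Normal›]; exact le_top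
    obtain ⟨n, hn, c, hc, rfl⟩ := Cfsg.Lib.Coprime.exists_mul_centralizer_of_commutator_mem hbn
      (by rw [Nat.card_zpowers, orderOf_eq_prime (hA.2 b hb) hb1]; exact (Fact.out : p.Prime).coprime_iff_not_dvd.2 (h2 a ha ha1))
      (Or.inr (h5 a ha ha1)) (N := θ a ⊓ N) inf_le_left ((le_inf hbn hbN).trans Subgroup.inf_normalizer_le_normalizer_inf) hx
      (fun w hw => by
        refine ⟨?_, ?_⟩
        · rw [commutatorElement_def, show x * w * x⁻¹ * w⁻¹ = x * (w * x⁻¹ * w⁻¹) by group]
          exact mul_mem hx ((Subgroup.mem_normalizer_iff.1 (hbn hw) _).1 (inv_mem hx))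
        · show ⁅x, w⁆ ∈ N
          rw [← QuotientGroup.eq_one_iff]
          show QuotientGroup.mk' N ⁅x, w⁆ = 1
          rw [map_commutatorElement, commutatorElement_eq_one_iff_mul_comm]
          obtain ⟨i, rfl⟩ := Subgroup.mem_zpowers_iff.1 hw
          rw [map_zpow]
          exact ((show Commute (QuotientGroup.mk' N x) (QuotientGroup.mk' N b) from Subgroup.mem_centralizer_singleton_iff.1 hz2).zpow_right i).eq)
    refine ⟨c, h4 a ha ha1 b hb hb1 ⟨hc.1, Subgroup.mem_centralizer_singleton_iff.2 (Subgroup.mem_centralizer_iff.1 hc.2 b (Subgroup.mem_zpowers b)).symm⟩, ?_⟩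
    simp [(QuotientGroup.eq_one_iff n).2 hn.2]

end Cfsg.Agent.S1281
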