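import Cfsg.Statements.S1282
import Cfsg.Agent.Lib.Sig.Transitivity

set_option autoImplicit false
open Cfsg

namespace Cfsg.Agent.S1282

/-- Let A be an elementary abelian p-subgroup of rank at least 3 of the finite group G, q ≠ p a prime, and Q₁, Q₂ q-subgroups normalized by A with D = Q₁ ∩ Q₂ different from both. Then there is a non-identity a ∈ A such that, for i = 1 and i = 2, N_{Q_i}(D) ∩ C_G(a) is not contained in D. -/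
theorem result {G : Type*} [Group G] [Finite G] (p : ℕ) [Fact p.Prime] (A : Subgroup G) (hA : Cfsg.IsElementaryAbelian p A) (hA3 : p ^ 3 ≤ Nat.card ↥A) (q : ℕ) [Fact q.Prime] (hqp : q ≠ p) (Q₁ Q₂ : Subgroup G) (h₁ : IsPGroup q ↥Q₁) (h₂ : IsPGroup q ↥Q₂) (hA₁ : A ≤ Subgroup.normalizer (Q₁ : Set G)) (hA₂ : A ≤ Subgroup.normalizer (Q₂ : Set G)) (hD₁ : Q₁ ⊓ Q₂ ≠ Q₁) (hD₂ : Q₁ ⊓ Q₂ ≠ Q₂) : ∃ a ∈ A, a ≠ 1 ∧ ¬ (Subgroup.normalizer ((Q₁ ⊓ Q₂ : Subgroup G) : Set G) ⊓ Q₁ ⊓ Subgroup.centralizer {a} ≤ Q₁ ⊓ Q₂) ∧ ¬ (Subgroup.normalizer ((Q₁ ⊓ Q₂ : Subgroup G) : Set G) ⊓ Q₂ ⊓ Subgroup.centralizer {a} ≤ Q₁ ⊓ Q₂) := by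
    have hn : ∀ Q : Subgroup G, IsPGroup q ↥Q → Q₁ ⊓ Q₂ ≤ Q → Q₁ ⊓ Q₂ ≠ Q → ¬ Subgroup.normalizer ((Q₁ ⊓ Q₂ : Subgroup G) : Set G) ⊓ Q ≤ Q₁ ⊓ Q₂ := by
      intro Q hQ hDQ hne hle
      have := hQ.isNilpotent
      have hlt := Group.normalizerCondition_of_isNilpotent (G := ↥Q) ((Q₁ ⊓ Q₂).subgroupOf Q)
        (lt_top_iff_ne_top.2 fun h => hne (le_antisymm hDQ (Subgroup.subgroupOf_eq_top.1 h)))
      obtain ⟨x, hx, hxD⟩ := SetLike.exists_of_lt hlt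
      refine hxD (Subgroup.mem_subgroupOf.2 (hle ⟨?_, x.2⟩))
      refine Subgroup.mem_normalizer_iff.2 fun y => ⟨fun hy => ?_, fun hy => ?_⟩
      · exact (Subgroup.mem_normalizer_iff.1 hx ⟨y, hDQ hy⟩).1 hy
      · have h := (Subgroup.mem_normalizer_iff.1 (inv_mem hx) ⟨_, hDQ hy⟩).1 hy
        have h2 : ((x : G))⁻¹ * ((x : G) * y * (x : G)⁻¹) * ((x : G)⁻¹)⁻¹ ∈ Q₁ ⊓ Q₂ := h
        simpa [mul_assoc] using h2
    have hAD : A ≤ Subgroup.normalizer ((Q₁ ⊓ Q₂ : Subgroup G) : Set G) := (le_inf hA₁ hA₂).trans Subgroup.inf_normalizer_le_normalizer_inf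
    have hAN : ∀ Q : Subgroup G, A ≤ Subgroup.normalizer (Q : Set G) → A ≤ Subgroup.normalizer ((Subgroup.normalizer ((Q₁ ⊓ Q₂ : Subgroup G) : Set G) ⊓ Q : Subgroup G) : Set G) := fun Q hQ =>
      (le_inf (hAD.trans Subgroup.le_normalizer) hQ).trans Subgroup.inf_normalizer_le_normalizer_inf
    have hcop : ∀ Q : Subgroup G, IsPGroup q ↥Q → ¬ p ∣ Nat.card ↥Q := fun Q hQ h => by
      obtain ⟨k, hk⟩ := IsPGroup.iff_card.mp hQ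
      rw [hk] at h
      exact hqp ((Nat.prime_dvd_prime_iff_eq Fact.out Fact.out).1 ((Fact.out : p.Prime).dvd_of_dvd_pow h)).symm
    exact Cfsg.Lib.Sig.exists_common_centralizer hA hA3 (hAN Q₁ hA₁) (hAN Q₂ hA₂)
      (hcop _ (h₁.to_le inf_le_right)) (hcop _ (h₂.to_le inf_le_right))
      (hn Q₁ h₁ inf_le_left hD₁) (hn Q₂ h₂ inf_le_right hD₂)

end Cfsg.Agent.S1282
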