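import Cfsg.Statements.S1286
import Mathlib.GroupTheory.Perm.Fin
import Mathlib.Data.Fintype.Perm

set_option autoImplicit false
open Cfsg

namespace Cfsg.Agent.S1286

/-- There exist a finite group X, an elementary abelian subgroup A of order 4 and a solvable A-signalizer functor θ on X for the prime 2 which is not complete. -/
theorem result : ∃ (X : Type) (_ : Group X) (_ : Finite X) (A : Subgroup X) (θ : X → Subgroup X), Cfsg.IsElementaryAbelian 2 A ∧ Nat.card ↥A = 4 ∧ Cfsg.IsSolvableSignalizerFunctor 2 A θ ∧ ¬ Cfsg.IsCompleteSignalizerFunctor 2 A θ := by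
  classical
  let a : Equiv.Perm (Fin 5) := Equiv.swap 0 1
  let b : Equiv.Perm (Fin 5) := Equiv.swap 2 3
  let u : Equiv.Perm (Fin 5) := Equiv.swap 2 3 * Equiv.swap 3 4
  let v : Equiv.Perm (Fin 5) := Equiv.swap 0 1 * Equiv.swap 1 4
  let A : Subgroup (Equiv.Perm (Fin 5)) :=
    { carrier := {1, a, b, a * b}
      one_mem' := Or.inl rfl
      mul_mem' := fun {x y} hx hy => by
        rcases hx with rfl | rfl | rfl | rfl <;> rcases hy with rfl | rfl | rfl | rfl <;> decide
      inv_mem' := fun {x} hx => by
        rcases hx with rfl | rfl | rfl | rfl <;> decide }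
  let θ : Equiv.Perm (Fin 5) → Subgroup (Equiv.Perm (Fin 5)) := fun z =>
    if z = a then Subgroup.zpowers u else if z = b then Subgroup.zpowers v else ⊥
  have hu : orderOf u = 3 := orderOf_eq_prime (by decide) (by decide)
  have hv : orderOf v = 3 := orderOf_eq_prime (by decide) (by decide)
  have hmemu : ∀ x ∈ Subgroup.zpowers u, x = 1 ∨ x = u ∨ x = u * u := by
    intro x hx
    obtain ⟨k, rfl⟩ := hx
    show u ^ k = 1 ∨ u ^ k = u ∨ u ^ k = u * u
    rw [← zpow_mod_orderOf, hu]
    have h3 : k % 3 = 0 ∨ k % 3 = 1 ∨ k % 3 = 2 := by omega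
    rcases h3 with h | h | h <;> simp only [Nat.cast_ofNat] <;> rw [h]
    · exact Or.inl (zpow_zero u)
    · exact Or.inr (Or.inl (zpow_one u))
    · exact Or.inr (Or.inr (zpow_two u))
  have hmemv : ∀ x ∈ Subgroup.zpowers v, x = 1 ∨ x = v ∨ x = v * v := by
    intro x hx
    obtain ⟨k, rfl⟩ := hx
    show v ^ k = 1 ∨ v ^ k = v ∨ v ^ k = v * v
    rw [← zpow_mod_orderOf, hv]
    have h3 : k % 3 = 0 ∨ k % 3 = 1 ∨ k % 3 = 2 := by omega
    rcases h3 with h | h | h <;> simp only [Nat.cast_ofNat] <;> rw [h]
    · exact Or.inl (zpow_zero v)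
    · exact Or.inr (Or.inl (zpow_one v))
    · exact Or.inr (Or.inr (zpow_two v))
  have hθa : θ a = Subgroup.zpowers u := if_pos rfl
  have hθb : θ b = Subgroup.zpowers v := by
    show (if b = a then _ else _) = _
    rw [if_neg (by decide), if_pos rfl]
  have hθab : θ (a * b) = ⊥ := by
    show (if a * b = a then _ else _) = _
    rw [if_neg (by decide), if_neg (by decide)]
  have hcases : ∀ z ∈ A, z ≠ 1 → z = a ∨ z = b ∨ z = a * b := by
    intro z hz hz1
    rcases hz with rfl | h | h | h
    · exact absurd rfl hz1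
    · exact Or.inl h
    · exact Or.inr (Or.inl h)
    · exact Or.inr (Or.inr h)
  refine ⟨Equiv.Perm (Fin 5), inferInstance, inferInstance, A, θ, ⟨⟨⟨fun x y => Subtype.ext ?_⟩⟩, ?_⟩, ?_, ?_, ?_⟩
  · obtain ⟨x, hx⟩ := x
    obtain ⟨y, hy⟩ := y
    show x * y = y * x
    rcases hx with rfl | rfl | rfl | rfl <;> rcases hy with rfl | rfl | rfl | rfl <;> decide
  · rintro z (rfl | rfl | rfl | rfl) <;> decide
  · show Nat.card ↥({1, a, b, a * b} : Set (Equiv.Perm (Fin 5))) = 4
    rw [Nat.card_coe_set_eq, Set.ncard_eq_toFinset_card']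
    decide
  · refine ⟨⟨?_, ?_, ?_, ?_⟩, ?_⟩
    · intro z hz hz1
      rcases hcases z hz hz1 with rfl | rfl | rfl
      · rw [hθa, Subgroup.zpowers_le, Subgroup.mem_centralizer_singleton_iff]; decide
      · rw [hθb, Subgroup.zpowers_le, Subgroup.mem_centralizer_singleton_iff]; decide
      · rw [hθab]; exact bot_le
    · intro z hz hz1
      rcases hcases z hz hz1 with rfl | rfl | rfl
      · rw [hθa, Nat.card_zpowers, hu]; decide
      · rw [hθb, Nat.card_zpowers, hv]; decide
      · rw [hθab, Subgroup.card_bot]; decide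
    · intro z hz hz1 c hc x hx
      rcases hcases z hz hz1 with rfl | rfl | rfl
      · rw [hθa] at hx ⊢
        have hin : ∀ y, (y = 1 ∨ y = u ∨ y = u * u) → y ∈ Subgroup.zpowers u := by
          rintro y (rfl | rfl | rfl)
          · exact one_mem _
          · exact Subgroup.mem_zpowers u
          · exact mul_mem (Subgroup.mem_zpowers u) (Subgroup.mem_zpowers u)
        apply hin
        rcases hc with rfl | rfl | rfl | rfl <;> rcases hmemu x hx with rfl | rfl | rfl <;> decide
      · rw [hθb] at hx ⊢
        have hin : ∀ y, (y = 1 ∨ y = v ∨ y = v * v) → y ∈ Subgroup.zpowers v := by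
          rintro y (rfl | rfl | rfl)
          · exact one_mem _
          · exact Subgroup.mem_zpowers v
          · exact mul_mem (Subgroup.mem_zpowers v) (Subgroup.mem_zpowers v)
        apply hin
        rcases hc with rfl | rfl | rfl | rfl <;> rcases hmemv x hx with rfl | rfl | rfl <;> decide
      · rw [hθab, Subgroup.mem_bot] at hx ⊢
        subst hx
        group
    · intro z hz hz1 c hc hc1 x hx
      obtain ⟨hx1, hx2⟩ := hx
      replace hx2 := Subgroup.mem_centralizer_singleton_iff.1 hx2
      rcases hcases z hz hz1 with rfl | rfl | rfl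
      · rw [hθa] at hx1
        rcases hcases c hc hc1 with rfl | rfl | rfl
        · rw [hθa]; exact hx1
        all_goals
          rcases hmemu x hx1 with rfl | rfl | rfl
          · exact one_mem _
          all_goals exact absurd hx2 (by decide)
      · rw [hθb] at hx1
        rcases hcases c hc hc1 with rfl | rfl | rfl
        swap
        · rw [hθb]; exact hx1
        all_goals
          rcases hmemv x hx1 with rfl | rfl | rfl
          · exact one_mem _
          all_goals exact absurd hx2 (by decide)
      · replace hx1 : x = 1 := Subgroup.mem_bot.1 (hθab ▸ hx1)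
        rw [hx1]; exact one_mem _
    · intro z hz hz1
      rcases hcases z hz hz1 with rfl | rfl | rfl
      · rw [hθa]; exact Group.isSolvable_of_comm fun x y => mul_comm' x y
      · rw [hθb]; exact Group.isSolvable_of_comm fun x y => mul_comm' x y
      · rw [hθab]; exact Group.isSolvable_of_comm fun x y => mul_comm' x y
  · rintro ⟨-, X, hX1, hX2, hX3⟩
    have hau : u ∈ X := by
      have := hX3 a (Or.inr (Or.inl rfl)) (by decide)
      rw [hθa] at this
      exact (this.ge (Subgroup.mem_zpowers u)).1
    have hbv : v ∈ X := by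
      have := hX3 b (Or.inr (Or.inr (Or.inl rfl))) (by decide)
      rw [hθb] at this
      exact (this.ge (Subgroup.mem_zpowers v)).1
    apply hX2
    have h2 : orderOf (u * u * v * u * v) = 2 := orderOf_eq_prime (by decide) (by decide)
    rw [← h2, ← Subgroup.orderOf_mk (u * u * v * u * v) (X.mul_mem (X.mul_mem (X.mul_mem (X.mul_mem hau hau) hbv) hau) hbv)]
    exact orderOf_dvd_natCard _

end Cfsg.Agent.S1286
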