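import Cfsg.Statements.S1288
import Cfsg.Agent.Lib.Coprime.Generation
import Cfsg.Agent.Lib.Core.Layer
import Cfsg.Agent.Lib.Sig.PComponent

set_option autoImplicit false
open Cfsg
open scoped commutatorElement

namespace Cfsg.Agent.S1288

/-- Let A be a noncyclic elementary abelian p-subgroup of a finite group H normalizing a solvable subgroup K of order prime to p, q a prime dividing |K|, and U ≤ K a subgroup of order prime to q such that ⁅U, C_K(B)⁆ has order prime to q for every subgroup B of index p in A. Then U ≤ O_{q'}(K). -/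
theorem result {H : Type*} [Group H] [Finite H] (p : ℕ) [Fact p.Prime] (A K : Subgroup H) (hA : Cfsg.IsElementaryAbelian p A) (hA2 : p ^ 2 ≤ Nat.card ↥A) (hK : ¬ p ∣ Nat.card ↥K) (hKs : Group.IsSolvable ↥K) (hAK : A ≤ Subgroup.normalizer (K : Set H)) (q : ℕ) [Fact q.Prime] (hqK : q ∣ Nat.card ↥K) (U : Subgroup H) (hU : U ≤ K) (hUq : ¬ q ∣ Nat.card ↥U) (hcomm : ∀ B : Subgroup H, B ≤ A → B.relIndex A = p → ¬ q ∣ Nat.card ↥⁅U, K ⊓ Subgroup.centralizer (B : Set H)⁆) : U ≤ (Cfsg.pPrimeCore q ↥K).map K.subtype := by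
  classical
  haveI := hA.1
  have hp := (Fact.out : p.Prime)
  obtain ⟨n, hn⟩ := IsPGroup.iff_card.1 (fun a => ⟨1, Subtype.ext (by simpa using hA.2 a a.2)⟩ : IsPGroup p A)
  set W := Cfsg.pPrimeCore q ↥K with hW
  set f := QuotientGroup.mk' W with hf
  set O := Cfsg.pCore q (↥K ⧸ W) with hO
  set Q1 := (O.comap f).map K.subtype with hQ1
  have hAQ1 : A ≤ Subgroup.normalizer (Q1 : Set H) := by
    haveI : (Cfsg.pPrimePCore q ↥K).Characteristic := by
      rw [Subgroup.characteristic_iff_le_comap]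
      intro φ u hu
      show f (φ.toMonoidHom u) ∈ O
      have hWφ : W.map φ.toMonoidHom = W := Cfsg.Lib.Core.map_pPrimeCore_equiv φ
      have h2 := Cfsg.Lib.Core.map_pCore_equiv (p := q) (QuotientGroup.congr W W φ hWφ)
      have h3 : (QuotientGroup.congr W W φ hWφ) (f u) ∈ O := h2.le ⟨f u, hu, rfl⟩
      exact h3
    exact hAK.trans (Cfsg.Lib.Core.normalizer_le_normalizer_map_char (Cfsg.pPrimePCore q ↥K))
  have hcop : (Nat.card A).Coprime (Nat.card Q1) := by
    rw [hn]
    refine (hp.coprime_iff_not_dvd.2 fun hd => hK (hd.trans ?_)).pow_left n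
    exact Subgroup.card_dvd_of_le (Subgroup.map_subtype_le _)
  intro u hu
  refine ⟨⟨u, hU hu⟩, ?_, rfl⟩
  set u' : ↥K := ⟨u, hU hu⟩
  have hstab : Q1 ≤ ((Subgroup.centralizer ({f u'} : Set (↥K ⧸ W))).comap f).map K.subtype := by
    refine (Cfsg.Lib.Coprime.le_iSup_centralizer_cocyclic Q1 hAQ1 hcop).trans (iSup₂_le fun B hB => ?_)
    obtain ⟨hBA, a, ha, hBa⟩ := hB
    obtain ⟨B', hB'B, hrel⟩ : ∃ B' : Subgroup H, B' ≤ B ∧ B'.relIndex A = p := by
      have hn2 : 2 ≤ n := (Nat.pow_le_pow_iff_right hp.one_lt).1 (hn ▸ hA2)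
      obtain ⟨m, -, hmc⟩ := (Nat.dvd_prime_pow hp).1 (hn ▸ Subgroup.card_dvd_of_le hBA)
      have hm : n - 1 ≤ m := by
        haveI : (B.subgroupOf A).Normal := inferInstance
        have hle := Cfsg.Lib.Core.card_sup_dvd_mul ((Subgroup.zpowers a).subgroupOf A) (B.subgroupOf A)
        rw [← Subgroup.subgroupOf_sup (Subgroup.zpowers_le.mpr ha) hBA, sup_comm, hBa,
          Subgroup.subgroupOf_self, Subgroup.card_top,
          Nat.card_congr (Subgroup.subgroupOfEquivOfLe (Subgroup.zpowers_le.mpr ha)).toEquiv,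
          Nat.card_congr (Subgroup.subgroupOfEquivOfLe hBA).toEquiv, Nat.card_zpowers, hn, hmc] at hle
        have h3 : p ^ n ∣ p ^ 1 * p ^ m := hle.trans
          (mul_dvd_mul_right (by rw [pow_one]; exact orderOf_dvd_of_pow_eq_one (hA.2 a ha)) _)
        rw [← pow_add, Nat.pow_dvd_pow_iff_le_right hp.one_lt] at h3
        omega
      obtain ⟨B₁, hB₁⟩ := Sylow.exists_subgroup_card_pow_prime p (G := B) (n := n - 1)
        (hmc ▸ pow_dvd_pow p hm)
      refine ⟨B₁.map B.subtype, Subgroup.map_subtype_le _, ?_⟩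
      have h4 := Cfsg.Lib.Core.card_mul_relIndex ((Subgroup.map_subtype_le B₁).trans hBA)
      rw [Cfsg.Lib.Core.card_map_subtype, hB₁, hn] at h4
      have h5 : p ^ (n - 1) * (B₁.map B.subtype).relIndex A = p ^ (n - 1) * p := by
        rw [h4, ← pow_succ]; congr 1; omega
      exact Nat.eq_of_mul_eq_mul_left (pow_pos hp.pos _) h5
    rintro x ⟨hxQ, hxC⟩
    obtain ⟨x', hx', rfl⟩ := hxQ
    refine ⟨x', ?_, rfl⟩
    rw [SetLike.mem_coe, Subgroup.mem_comap, Subgroup.mem_centralizer_singleton_iff]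
    have hxCB' : (x' : H) ∈ K ⊓ Subgroup.centralizer (B' : Set H) :=
      ⟨x'.2, Subgroup.centralizer_le hB'B hxC⟩
    have hc := Subgroup.commutator_mem_commutator hu hxCB'
    set c : ↥K := ⁅u', x'⁆ with hcd
    have hco : (orderOf c).Coprime q := by
      rw [Nat.coprime_comm, (Fact.out : q.Prime).coprime_iff_not_dvd]
      intro hd
      refine hcomm B' (hB'B.trans hBA) hrel (hd.trans ?_)
      have : orderOf c = orderOf (⟨⁅u, (x' : H)⁆, hc⟩ : ↥⁅U, K ⊓ Subgroup.centralizer (B' : Set H)⁆) := by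
        rw [Subgroup.orderOf_mk, ← Subgroup.orderOf_coe]
        rfl
      rw [this]
      exact orderOf_dvd_natCard _
    have hfc : f c ∈ O := by
      have hx'' : f x' ∈ O := hx'
      rw [hcd, map_commutatorElement, commutatorElement_def]
      exact Subgroup.mul_mem _ ((inferInstance : O.Normal).conj_mem _ hx'' (f u')) (Subgroup.inv_mem _ hx'')
    have h1 : f c = 1 := by
      obtain ⟨k, hk⟩ := Cfsg.Lib.Core.pCore_isPGroup q (↥K ⧸ W) ⟨f c, hfc⟩
      have h2 : orderOf (f c) ∣ q ^ k := orderOf_dvd_of_pow_eq_one (congrArg Subtype.val hk)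
      have h3 : (orderOf (f c)).Coprime q := hco.coprime_dvd_left (orderOf_map_dvd f c)
      exact orderOf_eq_one_iff.1 (Nat.Coprime.eq_one_of_dvd (h3.pow_right k) h2)
    rw [hcd, map_commutatorElement, commutatorElement_eq_one_iff_mul_comm] at h1
    exact h1.symm
  have hcent : f u' ∈ Subgroup.centralizer (O : Set (↥K ⧸ W)) := by
    rw [Subgroup.mem_centralizer_iff]
    intro v hv
    obtain ⟨w, rfl⟩ := QuotientGroup.mk'_surjective W v
    obtain ⟨w', hw', hwe⟩ := hstab (Subgroup.mem_map_of_mem K.subtype (show w ∈ O.comap f from hv))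
    rw [← K.subtype_injective hwe]
    exact Subgroup.mem_centralizer_singleton_iff.1 hw'
  haveI : Group.IsSolvable (↥K ⧸ W) := inferInstance
  have hOF : Cfsg.fittingSubgroup (↥K ⧸ W) = O :=
    Cfsg.Lib.Sig.fittingSubgroup_eq_pCore Cfsg.Lib.Core.pPrimeCore_quotient_eq_bot
  have hmem : f u' ∈ O := by
    have h := Cfsg.Lib.Core.centralizer_fitting_le_of_isSolvable (G := ↥K ⧸ W)
    rw [hOF] at h
    exact h hcent
  obtain ⟨k, hk⟩ := Cfsg.Lib.Core.pCore_isPGroup q (↥K ⧸ W) ⟨f u', hmem⟩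
  have h2 : orderOf (f u') ∣ q ^ k := orderOf_dvd_of_pow_eq_one (congrArg Subtype.val hk)
  have h3 : (orderOf (f u')).Coprime q := by
    refine Nat.Coprime.coprime_dvd_left ((orderOf_map_dvd f u').trans ?_) (((Fact.out : q.Prime).coprime_iff_not_dvd.2 hUq).symm)
    have : orderOf u' = orderOf (⟨u, hu⟩ : ↥U) := by
      rw [Subgroup.orderOf_mk, Subgroup.orderOf_mk]
    rw [this]
    exact orderOf_dvd_natCard _
  exact (QuotientGroup.eq_one_iff u').1 (orderOf_eq_one_iff.1 (Nat.Coprime.eq_one_of_dvd (h3.pow_right k) h2))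

end Cfsg.Agent.S1288
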