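import Cfsg.Statements.S1289
import Cfsg.Agent.Lib.Sig.PComponent

set_option autoImplicit false
open Cfsg

namespace Cfsg.Agent.S1289

/-- A p-component K of the finite group X is subnormal, perfect, of order divisible by p, and minimal among the subnormal perfect subgroups of X of order divisible by p. -/
theorem result {X : Type*} [Group X] [Finite X] (p : ℕ) [Fact p.Prime] (K : Subgroup X) (hK : Cfsg.IsPComponent p K) : K.IsSubnormal ∧ ⁅K, K⁆ = K ∧ p ∣ Nat.card ↥K ∧ ∀ H : Subgroup X, H ≤ K → H.IsSubnormal → ⁅H, H⁆ = H → p ∣ Nat.card ↥H → H = K := by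
    refine ⟨hK.1, Cfsg.Lib.Sig.pComponent_perfect hK, Cfsg.Lib.Sig.dvd_card_pComponent hK, fun H hHK hH hperf hdvd => ?_⟩
    set f := QuotientGroup.mk' (Cfsg.pPrimeCore p X) with hf
    have hle : H.map f ≤ K.map f := Subgroup.map_mono hHK
    rcases Cfsg.Lib.Core.quasisimple_subnormal hK.2.1.2 (H := (H.map f).subgroupOf (K.map f)) (hH.map (QuotientGroup.mk'_surjective _)).subgroupOf with hc | hc
    · exfalso
      have hab : ⁅H.map f, H.map f⁆ = ⊥ := Cfsg.Lib.Core.commutator_eq_bot_iff_forall.2 fun a ha b hb =>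
        (congrArg Subtype.val (Subgroup.mem_center_iff.1 (hc (Subgroup.mem_subgroupOf.2 ha : (⟨a, hle ha⟩ : ↥(K.map f)) ∈ _)) ⟨b, hle hb⟩)).symm
      rw [← Subgroup.map_commutator, hperf, Subgroup.map_eq_bot_iff, hf, QuotientGroup.ker_mk'] at hab
      exact Cfsg.Lib.Core.pPrimeCore_not_dvd p X (hdvd.trans (Subgroup.card_dvd_of_le hab))
    · exact hK.2.2 H hH hHK (le_antisymm hle (Subgroup.subgroupOf_eq_top.1 hc))

end Cfsg.Agent.S1289
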