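import Cfsg.Statements.S1293
import Cfsg.Agent.Lib.Sig.PLocal

set_option autoImplicit false
open Cfsg

namespace Cfsg.Agent.S1293

/-- Let G be finite with L_{p'}(G) = 1, and H = N_G(P) for a nontrivial p-subgroup P. Then L_{p'}(H) = 1 and O_{p'}(H) ≤ O_{p'}(G). -/
theorem result {G : Type*} [Group G] [Finite G] (p : ℕ) [Fact p.Prime] (hL : Cfsg.pLayer p G = ⊥) (P : Subgroup G) (hP : IsPGroup p ↥P) (hP1 : P ≠ ⊥) : Cfsg.pLayer p ↥(Subgroup.normalizer (P : Set G)) = ⊥ ∧ (Cfsg.pPrimeCore p ↥(Subgroup.normalizer (P : Set G))).map (Subgroup.normalizer (P : Set G)).subtype ≤ Cfsg.pPrimeCore p G := by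
    exact ⟨Cfsg.Lib.Sig.pLayer_normalizer_eq_bot hL hP, Cfsg.Lib.Sig.pPrimeCore_normalizer_le (Cfsg.Lib.Sig.isPConstrained_iff_pLayer.2 hL) hP⟩

end Cfsg.Agent.S1293
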