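import Cfsg.Statements.S1295
import Cfsg.Agent.Lib.Sig.SSFT.Apply
import Cfsg.Agent.Lib.Sig.PConstrained
import Cfsg.Agent.Lib.Sig.PComponent
import Cfsg.Agent.Lib.Sig.ExtendedLayer
import Cfsg.Agent.Lib.Core.Layer

set_option autoImplicit false
open Cfsg

namespace Cfsg.Agent.S1295

/-- Let G be finite with O_{p'}(G) = 1 and p-rank at least 3, whose reduced rank-2 commuting graph for p is connected. Suppose that for every element a of order p with m_p(C_G(a)) ≥ 3 the p-layer of C_G(a) is trivial and O_{p'}(C_G(a)) is solvable. Then F*(C_G(a)) = O_p(C_G(a)) for every such a. -/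
theorem result {G : Type*} [Group G] [Finite G] (p : ℕ) [Fact p.Prime] (hO : Cfsg.pPrimeCore p G = ⊥) (hrk : ¬ Cfsg.PRankLE p 2 G) (hconn : Cfsg.IsRankGraphConnected p 2 G) (hL : ∀ a : G, (orderOf a = p ∧ ¬ Cfsg.PRankLE p 2 ↥(Subgroup.centralizer ({a} : Set G))) → Cfsg.pLayer p ↥(Subgroup.centralizer ({a} : Set G)) = ⊥ ∧ Group.IsSolvable ↥(Cfsg.centralizerPPrimeCore p a)) (a : G) (ha : (orderOf a = p ∧ ¬ Cfsg.PRankLE p 2 ↥(Subgroup.centralizer ({a} : Set G)))) : Cfsg.generalizedFittingSubgroup ↥(Subgroup.centralizer ({a} : Set G)) = Cfsg.pCore p ↥(Subgroup.centralizer ({a} : Set G)) := by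
  have hθ : ∀ b : G, (orderOf b = p ∧ ¬ Cfsg.PRankLE p 2 ↥(Subgroup.centralizer ({b} : Set G))) →
      Cfsg.centralizerPPrimeCore p b ≤ Subgroup.centralizer ({b} : Set G) ∧
        ¬ p ∣ Nat.card ↥(Cfsg.centralizerPPrimeCore p b) ∧ Group.IsSolvable ↥(Cfsg.centralizerPPrimeCore p b) :=
    fun b hb => ⟨Subgroup.map_subtype_le _, by
      rw [Cfsg.centralizerPPrimeCore, Subgroup.card_map_of_injective (Subgroup.subtype_injective _)]
      exact Cfsg.Lib.Core.pPrimeCore_not_dvd p _, (hL b hb).2⟩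
  have hmap : ∀ b g : G, Cfsg.centralizerPPrimeCore p (g * b * g⁻¹) =
      (Cfsg.centralizerPPrimeCore p b).map (MulAut.conj g).toMonoidHom := fun b g => by
    have hc : (Subgroup.centralizer ({b} : Set G)).map (MulAut.conj g).toMonoidHom =
        Subgroup.centralizer ({g * b * g⁻¹} : Set G) := by
      rw [← Cfsg.Lib.Local.FreeAction.centralizer_zpowers_eq, Cfsg.Lib.Sig.map_centralizer_equiv,
        MonoidHom.map_zpowers, Cfsg.Lib.Local.FreeAction.centralizer_zpowers_eq]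
      rfl
    rw [Cfsg.centralizerPPrimeCore, Cfsg.centralizerPPrimeCore, Cfsg.Lib.Sig.map_pPrimeCore_subtype_equiv, hc]
  have hbot : Cfsg.centralizerPPrimeCore p a = ⊥ := Cfsg.Lib.Sig.SSFT.eq_bot_of_connected hO hconn hθ
    (fun b g _ => hmap b g) (fun x y hx hy hxy => Cfsg.Lib.Sig.centralizerPPrimeCore_inf_le
      (IsPGroup.of_card (n := 1) (by rw [Nat.card_zpowers, hx.1, pow_one])) hxy
      (Cfsg.Lib.Sig.isPConstrained_iff_pLayer.mpr (hL y hy).1)) ha.1 ha.2
  have hC : Cfsg.pPrimeCore p ↥(Subgroup.centralizer ({a} : Set G)) = ⊥ :=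
    (Subgroup.map_eq_bot_iff_of_injective _ (Subgroup.subtype_injective _)).mp hbot
  rw [Cfsg.Lib.Core.generalizedFitting_eq_pCore_iff]
  have h := Cfsg.Lib.Sig.isPConstrained_iff.mp (Cfsg.Lib.Sig.isPConstrained_iff_pLayer.mpr (hL a ha).1)
  intro x hx
  have hinj : Function.Injective (QuotientGroup.mk' (Cfsg.pPrimeCore p ↥(Subgroup.centralizer ({a} : Set G)))) := by
    rw [← MonoidHom.ker_eq_bot_iff, QuotientGroup.ker_mk', hC]
  set e := MulEquiv.ofBijective _ ⟨hinj, QuotientGroup.mk'_surjective _⟩ with he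
  have hmapP := Cfsg.Lib.Core.map_pCore_equiv (p := p) e
  have hx' : e x ∈ Subgroup.centralizer (Cfsg.pCore p (↥(Subgroup.centralizer ({a} : Set G)) ⧸
      Cfsg.pPrimeCore p ↥(Subgroup.centralizer ({a} : Set G))) : Set _) := by
    rw [← hmapP]
    refine Subgroup.mem_centralizer_iff.mpr ?_
    rintro _ ⟨z, hz, rfl⟩
    show e z * e x = e x * e z
    rw [← map_mul, ← map_mul, Subgroup.mem_centralizer_iff.mp hx z hz]
  have h2 := h hx'
  rw [← hmapP] at h2
  obtain ⟨z, hz, hze⟩ := h2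
  rwa [← e.injective hze]

end Cfsg.Agent.S1295
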