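import Cfsg.Statements.S1297
import Cfsg.Agent.Lib.Sig.LocalBalanceApps

set_option autoImplicit false
open Cfsg

namespace Cfsg.Agent.S1297

/-- Let G be finite. Suppose that for every involution x, writing C = C_G(x), every component K of C / O(C) has K / Z(K) locally balanced. Then G is balanced. -/
theorem result {G : Type*} [Group G] [Finite G] (h : ∀ x : G, orderOf x = 2 → ∀ K : Subgroup (↥(Subgroup.centralizer ({x} : Set G)) ⧸ Cfsg.oddCore ↥(Subgroup.centralizer ({x} : Set G))), Cfsg.IsComponent K → Cfsg.IsLocallyBalanced (↥K ⧸ Subgroup.center ↥K)) : Cfsg.IsBalanced G := by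
  have key : ∀ x y : G, orderOf x = 2 → orderOf y = 2 → x * y = y * x →
      Cfsg.centralizerPPrimeCore 2 x ⊓ Subgroup.centralizer {y} ≤ Cfsg.centralizerPPrimeCore 2 y := by
    intro x y hx hy hxy
    haveI : Fact (Nat.Prime 2) := ⟨Nat.prime_two⟩
    have hx1 : x ≠ 1 := fun hh => by rw [hh, orderOf_one] at hx; omega
    have hA : Cfsg.IsElementaryAbelian 2 (Subgroup.zpowers x) := by
      refine ⟨inferInstance, ?_⟩
      rintro _ ⟨i, rfl⟩
      show (x ^ i) ^ 2 = 1
      rw [← zpow_natCast, ← zpow_mul, mul_comm, zpow_mul, zpow_natCast, ← hx, pow_orderOf_eq_one, one_zpow]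
    have hA1 : Subgroup.zpowers x ≠ ⊥ := fun hh => hx1 (Subgroup.zpowers_eq_bot.1 hh)
    have hΔ : Cfsg.centralizerPPrimeCore 2 x ≤ Cfsg.signalizerDelta 2 (Subgroup.zpowers x) := by
      refine le_iInf ?_
      rintro ⟨a, ha, ha1⟩
      obtain ⟨i, rfl⟩ := ha
      rcases Int.even_or_odd i with ⟨j, hj⟩ | ⟨j, hj⟩
      · refine absurd ?_ ha1
        show x ^ i = 1
        rw [hj, ← two_mul, zpow_mul, zpow_ofNat, ← hx, pow_orderOf_eq_one, one_zpow]
      · show Cfsg.centralizerPPrimeCore 2 x ≤ Cfsg.centralizerPPrimeCore 2 (x ^ i)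
        rw [hj, zpow_add, zpow_mul, zpow_ofNat, ← hx, pow_orderOf_eq_one, one_zpow, one_mul, zpow_one]
    refine (inf_le_inf_right _ hΔ).trans ?_
    refine Cfsg.Lib.Sig.LocalBalance.delta_le_core hA hA1
      (Subgroup.zpowers_le.2 (Subgroup.mem_centralizer_singleton_iff.2 hxy))
      (fun A' D' hA' hA'1 hA'c hcore K hK hAN hDN hf => ?_)
    refine Cfsg.Lib.Sig.LocalBalance.le_centralizer_of_localQuot (k := 1)
      Cfsg.Lib.Core.pPrimeCore_quotient_eq_bot hK hA' hAN hDN hf hA'1 hcore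
      (by rw [hA'c, Nat.card_zpowers, hx, pow_one]) ?_
    intro H hH B hB hBc
    obtain ⟨b, hb, hb1⟩ := B.bot_or_exists_ne_one.resolve_left (fun hh => by
      rw [hh, Subgroup.card_bot, pow_one] at hBc; omega)
    have hbo : orderOf b = 2 := by
      rcases (Nat.dvd_prime Nat.prime_two).1 (orderOf_dvd_of_pow_eq_one (hB.2 b hb)) with h1 | h1
      · exact absurd (orderOf_eq_one_iff.1 h1) hb1
      · exact h1
    refine le_bot_iff.1 ?_
    rw [← h y hy K hK H hH b hbo]
    exact iInf_le (fun a : {a : ↥H // a ∈ B ∧ a ≠ 1} => Cfsg.centralizerPPrimeCore 2 (a : ↥H)) ⟨b, hb, hb1⟩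
  intro x y hx hy hxy
  refine le_antisymm (le_inf (key x y hx hy hxy) ?_) (le_inf (key y x hy hx hxy.symm) ?_)
  · exact inf_le_left.trans (Subgroup.map_subtype_le _)
  · exact inf_le_left.trans (Subgroup.map_subtype_le _)

end Cfsg.Agent.S1297
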