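import Cfsg.Statements.S1300
import Cfsg.Agent.Lib.Sig.PConstrained

set_option autoImplicit false
open Cfsg

namespace Cfsg.Agent.S1300

/-- For a finite group G, balance in the sense of commuting involutions is the same as 1-balance for the prime 2. -/
theorem result {G : Type*} [Group G] [Finite G] : Cfsg.IsBalanced G ↔ Cfsg.IsKBalanced 2 1 G := by
    constructor
    · intro h A hA hcard b hb hcomm
      obtain ⟨a, ha, ha1⟩ := A.bot_or_exists_ne_one.resolve_left (by
        rintro rfl
        simp at hcard)
      have ha2 : orderOf a = 2 := orderOf_eq_prime (hA.2 a ha) ha1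
      refine le_trans ?_ (inf_le_left : _ ⊓ Subgroup.centralizer {a} ≤ _)
      rw [← h a b ha2 hb (hcomm a ha)]
      exact inf_le_inf_right _ (iInf_le (fun c : {c : G // c ∈ A ∧ c ≠ 1} =>
        Cfsg.centralizerPPrimeCore 2 (c : G)) ⟨a, ha, ha1⟩)
    · intro h
      have key : ∀ a b : G, orderOf a = 2 → orderOf b = 2 → a * b = b * a →
          Cfsg.centralizerPPrimeCore 2 a ⊓ Subgroup.centralizer {b} ≤
            Cfsg.centralizerPPrimeCore 2 b ⊓ Subgroup.centralizer {a} := by
        intro a b ha hb hab
        refine le_inf ?_ (inf_le_left.trans (Subgroup.map_subtype_le _))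
        have hA : Cfsg.IsElementaryAbelian 2 (Subgroup.zpowers a) := by
          refine ⟨inferInstance, fun c hc => ?_⟩
          obtain ⟨k, rfl⟩ := Subgroup.mem_zpowers_iff.1 hc
          rw [← zpow_natCast, ← zpow_mul, mul_comm, zpow_mul, zpow_natCast, ← ha, pow_orderOf_eq_one, one_zpow]
        refine le_trans (inf_le_inf_right _ (le_iInf fun c => ?_)) (h _ hA (by rw [Nat.card_zpowers, ha, pow_one]) b hb ?_)
        · obtain ⟨c, hc, hc1⟩ := c
          obtain ⟨k, rfl⟩ := Subgroup.mem_zpowers_iff.1 hc
          rcases Int.even_or_odd k with ⟨m, rfl⟩ | ⟨m, rfl⟩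
          · exact absurd (by rw [← two_mul, zpow_mul, show ((2 : ℤ)) = ((2 : ℕ) : ℤ) from rfl, zpow_natCast, ← ha, pow_orderOf_eq_one, one_zpow]) hc1
          · have e : a ^ (2 * m + 1) = a := by
              rw [zpow_add, zpow_mul, show ((2 : ℤ)) = ((2 : ℕ) : ℤ) from rfl, zpow_natCast, ← ha, pow_orderOf_eq_one, one_zpow, one_mul, zpow_one]
            exact le_of_eq (congrArg (Cfsg.centralizerPPrimeCore 2) e.symm)
        · intro c hc
          obtain ⟨k, rfl⟩ := Subgroup.mem_zpowers_iff.1 hc
          exact (Commute.zpow_left hab k).eq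
      intro x y hx hy hxy
      exact le_antisymm (key x y hx hy hxy) (key y x hy hx hxy.symm)

end Cfsg.Agent.S1300
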