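import Cfsg.Statements.S1303
import Cfsg.Agent.Lib.Sig.PConstrained
import Mathlib.LinearAlgebra.Matrix.SpecialLinearGroup

set_option autoImplicit false
open Cfsg

namespace Cfsg.Agent.S1303

/-- The group X = SL(2, 3): it is 2-constrained, O_{2'}(X) = 1, its centre A = Z(X) contains every involution of X = C_X(A), and X has a subgroup of order 3 (normalized by A) not contained in O_{2'}(X). -/
theorem result : Cfsg.IsPConstrained 2 (Matrix.SpecialLinearGroup (Fin 2) (ZMod 3)) ∧ Cfsg.pPrimeCore 2 (Matrix.SpecialLinearGroup (Fin 2) (ZMod 3)) = ⊥ ∧ (∀ t : Matrix.SpecialLinearGroup (Fin 2) (ZMod 3), orderOf t = 2 → t ∈ Subgroup.center (Matrix.SpecialLinearGroup (Fin 2) (ZMod 3))) ∧ ∃ Q : Subgroup (Matrix.SpecialLinearGroup (Fin 2) (ZMod 3)), Nat.card ↥Q = 3 ∧ ¬ (Q ≤ Cfsg.pPrimeCore 2 (Matrix.SpecialLinearGroup (Fin 2) (ZMod 3))) := by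
  haveI : Fact (Nat.Prime 2) := ⟨Nat.prime_two⟩
  have eta : ∀ A : Matrix.SpecialLinearGroup (Fin 2) (ZMod 3),
      A.1 = !![A.1 0 0, A.1 0 1; A.1 1 0, A.1 1 1] ∧ A.1 0 0 * A.1 1 1 - A.1 0 1 * A.1 1 0 = 1 := fun A =>
    ⟨Matrix.eta_fin_two A.1, by rw [← Matrix.det_fin_two]; exact A.2⟩
  let mi : Matrix.SpecialLinearGroup (Fin 2) (ZMod 3) := ⟨!![0, 1; -1, 0], by decide⟩
  let mj : Matrix.SpecialLinearGroup (Fin 2) (ZMod 3) := ⟨!![1, 1; 1, -1], by decide⟩
  let mu : Matrix.SpecialLinearGroup (Fin 2) (ZMod 3) := ⟨!![1, 1; 0, 1], by decide⟩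
  have hpow : ∀ A : Matrix.SpecialLinearGroup (Fin 2) (ZMod 3), A ^ 4 = 1 ↔ A.1 * A.1 * (A.1 * A.1) = 1 := by
    intro A
    have e : (A ^ 4 : Matrix.SpecialLinearGroup (Fin 2) (ZMod 3)) = (A * A) * (A * A) := by
      simp only [pow_succ, pow_zero, one_mul, mul_assoc]
    rw [e]
    constructor
    · intro h; exact congrArg Subtype.val h
    · intro h; exact Subtype.ext h
  have hmul : ∀ a b c d : ZMod 3, a * d - b * c = 1 → ∀ e f g h : ZMod 3, e * h - f * g = 1 →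
      (!![a, b; c, d] * !![a, b; c, d] * (!![a, b; c, d] * !![a, b; c, d]) = 1) →
      (!![e, f; g, h] * !![e, f; g, h] * (!![e, f; g, h] * !![e, f; g, h]) = 1) →
      (!![a, b; c, d] * !![e, f; g, h]) * (!![a, b; c, d] * !![e, f; g, h]) *
        ((!![a, b; c, d] * !![e, f; g, h]) * (!![a, b; c, d] * !![e, f; g, h])) = 1 := by
    decide +kernel
  let Q8 : Subgroup (Matrix.SpecialLinearGroup (Fin 2) (ZMod 3)) :=
    { carrier := {A | A ^ 4 = 1}
      one_mem' := one_pow 4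
      mul_mem' := fun {A B} hA hB => by
        obtain ⟨eA, dA⟩ := eta A
        obtain ⟨eB, dB⟩ := eta B
        show (A * B) ^ 4 = 1
        rw [hpow]
        have hA' := (hpow A).1 hA
        have hB' := (hpow B).1 hB
        rw [eA] at hA'
        rw [eB] at hB'
        rw [Matrix.SpecialLinearGroup.coe_mul, eA, eB]
        exact hmul _ _ _ _ dA _ _ _ _ dB hA' hB'
      inv_mem' := fun {A} (hA : A ^ 4 = 1) => by
        show A⁻¹ ^ 4 = 1
        rw [inv_pow, hA, inv_one] }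
  have hQn : Q8.Normal := ⟨fun A (hA : A ^ 4 = 1) g => by
    show (g * A * g⁻¹) ^ 4 = 1
    rw [conj_pow, hA]; group⟩
  have hQp : IsPGroup 2 Q8 := fun A => ⟨2, Subtype.ext (by rw [SubgroupClass.coe_pow]; exact A.2)⟩
  have hQle : Q8 ≤ Cfsg.pCore 2 _ := Cfsg.Lib.Core.le_pCore' hQn hQp
  have hcent : ∀ A : Matrix.SpecialLinearGroup (Fin 2) (ZMod 3), A * mi = mi * A → A * mj = mj * A → A ∈ Q8 := by
    intro A h1 h2
    have key : ∀ a b c d : ZMod 3, a * d - b * c = 1 →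
        !![a, b; c, d] * !![0, 1; -1, 0] = !![0, 1; -1, 0] * !![a, b; c, d] →
        !![a, b; c, d] * !![1, 1; 1, -1] = !![1, 1; 1, -1] * !![a, b; c, d] →
        !![a, b; c, d] * !![a, b; c, d] * (!![a, b; c, d] * !![a, b; c, d]) = 1 := by
      decide +kernel
    obtain ⟨eA, dA⟩ := eta A
    show A ^ 4 = 1
    rw [hpow]
    have h1' : A.1 * mi.1 = mi.1 * A.1 := congrArg Subtype.val h1
    have h2' : A.1 * mj.1 = mj.1 * A.1 := congrArg Subtype.val h2
    rw [eA] at h1' h2' ⊢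
    exact key _ _ _ _ dA h1' h2'
  have hmi : mi ∈ Q8 := (hpow mi).2 (by decide)
  have hmj : mj ∈ Q8 := (hpow mj).2 (by decide)
  have hO : Cfsg.pPrimeCore 2 (Matrix.SpecialLinearGroup (Fin 2) (ZMod 3)) = ⊥ := by
    have hd : Cfsg.pPrimeCore 2 (Matrix.SpecialLinearGroup (Fin 2) (ZMod 3)) ⊓ Q8 = ⊥ := by
      rw [inf_comm]
      exact Cfsg.Lib.Sig.disjoint_of_isPGroup_coprime hQp (Cfsg.Lib.Core.pPrimeCore_coprime 2 _)
    rw [eq_bot_iff]
    intro A hA
    have hcomm : ∀ B ∈ Q8, A * B = B * A := fun B hB => by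
      have h : A * B * A⁻¹ * B⁻¹ ∈ Cfsg.pPrimeCore 2 _ ⊓ Q8 := by
        refine ⟨?_, Q8.mul_mem (hQn.conj_mem B hB A) (Q8.inv_mem hB)⟩
        rw [mul_assoc, mul_assoc]
        exact Subgroup.mul_mem _ hA (by
          rw [← mul_assoc]
          exact (inferInstance : (Cfsg.pPrimeCore 2 _).Normal).conj_mem _ (Subgroup.inv_mem _ hA) B)
      rw [hd, Subgroup.mem_bot, mul_inv_eq_one, mul_inv_eq_iff_eq_mul] at h
      exact h
    have : A ∈ Cfsg.pPrimeCore 2 _ ⊓ Q8 := ⟨hA, hcent A (hcomm mi hmi) (hcomm mj hmj)⟩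
    rwa [hd] at this
  refine ⟨Cfsg.Lib.Sig.isPConstrained_iff.2 ?_, hO, ?_, Subgroup.zpowers mu, ?_, ?_⟩
  · intro y hy
    obtain ⟨A, rfl⟩ := QuotientGroup.mk_surjective y
    have hinj : ∀ B : Matrix.SpecialLinearGroup (Fin 2) (ZMod 3),
        (QuotientGroup.mk B : _ ⧸ Cfsg.pPrimeCore 2 (Matrix.SpecialLinearGroup (Fin 2) (ZMod 3))) = 1 → B = 1 := fun B hB => by
      have := (QuotientGroup.eq_one_iff B).1 hB
      rwa [hO, Subgroup.mem_bot] at this
    have hmap : ∀ B ∈ Q8, (QuotientGroup.mk B : _ ⧸ Cfsg.pPrimeCore 2 (Matrix.SpecialLinearGroup (Fin 2) (ZMod 3))) ∈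
        Cfsg.pCore 2 _ := fun B hB =>
      Cfsg.Lib.Core.le_pCore' (hQn.map _ (QuotientGroup.mk'_surjective _)) (hQp.map _)
        (Subgroup.mem_map_of_mem (QuotientGroup.mk' _) hB)
    have hc : ∀ B ∈ Q8, A * B = B * A := fun B hB => by
      have h1 := Subgroup.mem_centralizer_iff.1 hy _ (hmap B hB)
      have h2 := hinj (A * B * (B * A)⁻¹) (by
        rw [QuotientGroup.mk_mul, QuotientGroup.mk_inv, QuotientGroup.mk_mul, QuotientGroup.mk_mul, h1, mul_inv_cancel])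
      exact mul_inv_eq_one.1 h2
    exact hmap A (hcent A (hc mi hmi) (hc mj hmj))
  · intro t ht
    have key : ∀ a b c d : ZMod 3, a * d - b * c = 1 → !![a, b; c, d] * !![a, b; c, d] = 1 →
        ∀ e f g h : ZMod 3, !![e, f; g, h] * !![a, b; c, d] = !![a, b; c, d] * !![e, f; g, h] := by
      decide +kernel
    have ht2 : t * t = 1 := by
      have h := pow_orderOf_eq_one t
      rwa [ht, pow_two] at h
    obtain ⟨et, dt⟩ := eta t
    rw [Subgroup.mem_center_iff]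
    intro g
    obtain ⟨eg, -⟩ := eta g
    apply Subtype.ext
    have ht2' : t.1 * t.1 = 1 := congrArg Subtype.val ht2
    rw [et] at ht2'
    show g.1 * t.1 = t.1 * g.1
    rw [et, eg]
    exact key _ _ _ _ dt ht2' _ _ _ _
  · rw [Nat.card_zpowers]
    exact orderOf_eq_prime (Subtype.ext (by decide)) (fun h => by
      have h' := congrArg (fun A : Matrix.SpecialLinearGroup (Fin 2) (ZMod 3) => A.1 0 1) h
      revert h'; decide)
  · rw [hO]
    intro h
    have h1 := Subgroup.mem_bot.1 (h (Subgroup.mem_zpowers mu))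
    have h' := congrArg (fun A : Matrix.SpecialLinearGroup (Fin 2) (ZMod 3) => A.1 0 1) h1
    revert h'; decide

end Cfsg.Agent.S1303
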