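import Cfsg.Statements.S1304
import Mathlib.GroupTheory.Abelianization.Defs
import Mathlib.Tactic.Group

set_option autoImplicit false
open Cfsg
open scoped commutatorElement

namespace Cfsg.Agent.S1304

/-- Let X be a perfect group and α an automorphism of X with α(x) x⁻¹ central for every x. Then α is the identity. -/
theorem result {X : Type*} [Group X] (hperf : commutator X = ⊤) (α : X ≃* X) (h : ∀ x : X, α x * x⁻¹ ∈ Subgroup.center X) : ∀ x : X, α x = x := by
    have hc : ∀ a b : X, α ⁅a, b⁆ = ⁅a, b⁆ := by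
      intro a b
      have ha := Subgroup.mem_center_iff.1 (h a)
      have hb := Subgroup.mem_center_iff.1 (h b)
      have : ∀ z w a b : X, (∀ g, g * z = z * g) → (∀ g, g * w = w * g) → ⁅z * a, w * b⁆ = ⁅a, b⁆ := by
        intro z w a b hz hw
        rw [commutatorElement_def, commutatorElement_def, mul_inv_rev, mul_inv_rev]
        calc z * a * (w * b) * (a⁻¹ * z⁻¹) * (b⁻¹ * w⁻¹) = z * (a * w) * b * a⁻¹ * (z⁻¹ * (b⁻¹ * w⁻¹)) := by group
          _ = z * (w * a) * b * a⁻¹ * ((b⁻¹ * w⁻¹) * z⁻¹) := by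
            rw [hw a, show z⁻¹ * (b⁻¹ * w⁻¹) = (b⁻¹ * w⁻¹) * z⁻¹ from ((show Commute (b⁻¹ * w⁻¹) z from hz _).inv_right).eq.symm]
          _ = z * w * (a * b * a⁻¹ * b⁻¹) * w⁻¹ * z⁻¹ := by group
          _ = z * ((a * b * a⁻¹ * b⁻¹) * w) * w⁻¹ * z⁻¹ := by rw [hw (a * b * a⁻¹ * b⁻¹)]; group
          _ = (z * (a * b * a⁻¹ * b⁻¹)) * z⁻¹ := by group
          _ = _ := by rw [← hz]; group
      rw [map_commutatorElement, ← this (α a * a⁻¹) (α b * b⁻¹) a b ha hb]
      simp
    have hle : commutator X ≤ MonoidHom.eqLocus α.toMonoidHom (MonoidHom.id X) := by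
      rw [commutator_def, Subgroup.commutator_le]
      exact fun a _ b _ => hc a b
    intro x
    exact hle (hperf ▸ Subgroup.mem_top x)

end Cfsg.Agent.S1304
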