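import Cfsg.Statements.S1305
import Cfsg.Agent.Lib.Sig.InvolutionComponent
import Cfsg.Agent.Lib.Sig.PComponent
import Cfsg.Agent.Lib.ZStar.Main

set_option autoImplicit false
open Cfsg

namespace Cfsg.Agent.S1305

open Subgroup
open scoped commutatorElement

set_option linter.style.haveILetI false

variable {G : Type*} [Group G] [Finite G]

/-- With the B-property and trivial core the 2-components of involution centralizers are components. -/
theorem pLayer_le_layer (hO : Cfsg.oddCore G = ⊥) (hB : Cfsg.HasBProperty G) {b : G}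
    (hb : orderOf b = 2) :
    Cfsg.pLayer 2 ↥(centralizer ({b} : Set G)) ≤ Cfsg.layer ↥(centralizer ({b} : Set G)) := by
  haveI : Fact (Nat.Prime 2) := ⟨Nat.prime_two⟩
  set C := centralizer ({b} : Set G) with hC
  refine sSup_le fun K hK => Cfsg.Lib.Core.le_layer ⟨hK.1, ?_⟩
  rw [Cfsg.Lib.Sig.isQuasisimple_pComponent_iff hK]
  have h := hB b hb
  rw [hO, le_bot_iff, map_eq_bot_iff_of_injective _ C.subtype_injective] at h
  exact le_bot_iff.1 (h ▸ commutator_mono (le_sSup hK) inf_le_left)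

theorem main (hO : Cfsg.oddCore G = ⊥) (hB : Cfsg.HasBProperty G) (a : G) (ha : orderOf a = 2)
    (K : Subgroup G) (hKa : K ≤ centralizer ({a} : Set G))
    (hK : Cfsg.IsComponent (K.subgroupOf (centralizer ({a} : Set G))))
    (hmax : ∀ y : G, orderOf y = 2 → ∀ K' : Subgroup G, K' ≤ centralizer ({y} : Set G) →
      Cfsg.IsComponent (K'.subgroupOf (centralizer ({y} : Set G))) →
      Nat.card ↥K' ≤ Nat.card ↥K ∧ (Nat.card ↥K' = Nat.card ↥K → ∀ k : ℕ,
        Cfsg.PRankLE 2 k ↥(centralizer ({a} : Set G) ⊓ centralizer (K : Set G)) →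
        Cfsg.PRankLE 2 k ↥(centralizer ({y} : Set G) ⊓ centralizer (K' : Set G))))
    (hrk : ¬ Cfsg.PRankLE 2 1 ↥K) (B : Subgroup G)
    (hBle : B ≤ centralizer ({a} : Set G) ⊓ centralizer (K : Set G))
    (hBel : Cfsg.IsElementaryAbelian 2 B)
    (hBmax : ∀ B' : Subgroup G, B' ≤ centralizer ({a} : Set G) ⊓ centralizer (K : Set G) →
      Cfsg.IsElementaryAbelian 2 B' → Nat.card ↥B' ≤ Nat.card ↥B)
    (b : G) (hb : b ∈ B) (hb1 : b ≠ 1) :
    K ≤ centralizer ({b} : Set G) ∧ Cfsg.IsComponent (K.subgroupOf (centralizer ({b} : Set G))) := by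
  haveI : Fact (Nat.Prime 2) := ⟨Nat.prime_two⟩
  set Ca := centralizer ({a} : Set G) with hCa
  set Cb := centralizer ({b} : Set G) with hCb
  have hbo : orderOf b = 2 := orderOf_eq_prime (hBel.2 b hb) hb1
  have hBcomm : ∀ x ∈ B, ∀ y ∈ B, x * y = y * x := fun x hx y hy =>
    congrArg Subtype.val (hBel.1.is_comm.comm (⟨x, hx⟩ : ↥B) ⟨y, hy⟩)
  -- `B` contains `a`
  have haB : a ∈ B := by
    set B' := B ⊔ zpowers a with hB'
    have hc : ∀ x ∈ B, x * a = a * x := fun x hx => mem_centralizer_singleton_iff.1 (hBle hx).1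
    have hbot : ⁅B, zpowers a⁆ = ⊥ := Cfsg.Lib.Core.commutator_eq_bot_iff_forall.2 fun x hx y hy => by
      obtain ⟨k, rfl⟩ := hy
      exact (Commute.zpow_right (hc x hx) k).eq
    have hel : Cfsg.IsElementaryAbelian 2 B' := by
      have key : ∀ w ∈ B', ∃ x ∈ B, ∃ k : ℤ, x * a ^ k = w := fun w hw => by
        obtain ⟨x, hx, _, ⟨k, rfl⟩, rfl⟩ := (Cfsg.Lib.Core.mem_sup_of_commute hbot).1 hw
        exact ⟨x, hx, k, rfl⟩
      refine ⟨⟨⟨fun u v => Subtype.ext ?_⟩⟩, fun w hw => ?_⟩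
      · obtain ⟨x, hx, i, hu⟩ := key u u.2
        obtain ⟨y, hy, j, hv⟩ := key v v.2
        show (u : G) * v = v * u
        rw [← hu, ← hv]
        have c1 : Commute x (a ^ j) := Commute.zpow_right (hc x hx) j
        have c2 : Commute y (a ^ i) := Commute.zpow_right (hc y hy) i
        have c3 : Commute x y := hBcomm x hx y hy
        exact ((c3.mul_right c1).mul_left (c2.symm.mul_right (Commute.zpow_zpow_self a i j))).eq
      · obtain ⟨x, hx, k, rfl⟩ := key w hw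
        have c1 : Commute x (a ^ k) := Commute.zpow_right (hc x hx) k
        rw [c1.mul_pow, hBel.2 x hx, one_mul, ← zpow_natCast, ← zpow_mul, mul_comm, zpow_mul,
          zpow_natCast, orderOf_dvd_iff_pow_eq_one.1 (dvd_of_eq ha), one_zpow]
    have hle : B' ≤ Ca ⊓ centralizer (K : Set G) := sup_le hBle (zpowers_le.2 (mem_inf.2
      ⟨mem_centralizer_singleton_iff.2 rfl,
        mem_centralizer_iff.2 fun k hk => mem_centralizer_singleton_iff.1 (hKa hk)⟩))
    rw [eq_of_le_of_card_ge (le_sup_left : B ≤ B') (hBmax B' hle hel)]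
    exact mem_sup_right (mem_zpowers a)
  have hKb : K ≤ Cb := fun k hk =>
    mem_centralizer_singleton_iff.2 (mem_centralizer_iff.1 (hBle hb).2 k hk)
  refine ⟨hKb, ?_⟩
  -- the situation inside `C(b)`
  have haCb : a ∈ Cb := mem_centralizer_singleton_iff.2 (hBcomm a haB b hb)
  set a' : ↥Cb := ⟨a, haCb⟩ with ha'
  set K₁ := K.subgroupOf Cb with hK₁
  have ha'o : orderOf a' = 2 := by rw [Subgroup.orderOf_mk]; exact ha
  have hK₁a : K₁ ≤ centralizer ({a'} : Set ↥Cb) := fun k hk =>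
    mem_centralizer_singleton_iff.2 (Subtype.ext (mem_centralizer_singleton_iff.1 (hKa hk)))
  have hK₁c : Cfsg.IsComponent (K₁.subgroupOf (centralizer ({a'} : Set ↥Cb))) := by
    let ι : ↥(centralizer ({a'} : Set ↥Cb)) →* ↥Ca :=
      (Cb.subtype.comp (centralizer ({a'} : Set ↥Cb)).subtype).codRestrict Ca fun w =>
        mem_centralizer_singleton_iff.2 (congrArg Subtype.val (mem_centralizer_singleton_iff.1 w.2))
    refine ⟨IsSubnormal.comap ι hK.1, Cfsg.Lib.Core.quasisimple_congr hK.2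
      (((subgroupOfEquivOfLe hKa).trans (subgroupOfEquivOfLe hKb).symm).trans
        (subgroupOfEquivOfLe hK₁a).symm)⟩
  have heven : 2 ∣ Nat.card ↥K := by
    by_contra hodd
    refine hrk fun A _ hA2 => ?_
    have : A = ⊥ := by
      refine (Subgroup.eq_bot_iff_forall A).2 fun x hx => ?_
      refine orderOf_eq_one_iff.1 (Nat.eq_one_of_dvd_coprimes
        (Nat.prime_two.coprime_iff_not_dvd.2 hodd) (orderOf_dvd_of_pow_eq_one (hA2 x hx))
        (orderOf_dvd_natCard x))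
    rw [this, card_bot]; norm_num
  have heven₁ : 2 ∣ Nat.card ↥K₁ := by
    rw [Nat.card_congr (subgroupOfEquivOfLe hKb).toEquiv]; exact heven
  have hK₁E : K₁ ≤ Cfsg.layer ↥Cb :=
    (Cfsg.Lib.Sig.component_centralizer_le_pLayer ha'o hK₁a hK₁c heven₁).trans (pLayer_le_layer hO hB hbo)
  obtain ⟨D, hD, hcases⟩ := Cfsg.Lib.Sig.component_trichotomy ha'o hK₁a hK₁c hK₁E
  -- the component, in `G`
  set D' := D.map Cb.subtype with hD'
  have hD'b : D' ≤ Cb := map_subtype_le _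
  have hD'c : Cfsg.IsComponent (D'.subgroupOf Cb) := by
    rw [hD', subgroupOf, comap_map_eq_self_of_injective Cb.subtype_injective]; exact hD
  obtain ⟨hcard, hrank⟩ := hmax b hbo D' hD'b hD'c
  have hDcard : Nat.card ↥D' = Nat.card ↥D := card_map_of_injective Cb.subtype_injective
  have hK₁card : Nat.card ↥K₁ = Nat.card ↥K := Nat.card_congr (subgroupOfEquivOfLe hKb).toEquiv
  rcases hcases with h | ⟨h, -⟩ | ⟨hne, hdiag⟩
  · rw [hK₁, ← hK₁, h]; exact hD
  · exact absurd (eq_of_le_of_card_ge h.le (by omega)) h.ne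
  exfalso
  set φ := (MulAut.conj a').toMonoidHom with hφ
  have hφφ : (D.map φ).map φ = D := by
    rw [hφ, Cfsg.Lib.Sig.map_conj_map_conj, show a' * a' = 1 by
      rw [← pow_two]; exact orderOf_dvd_iff_pow_eq_one.1 (dvd_of_eq ha'o),
      Cfsg.Lib.Sig.map_conj_one]
  have hbot : ⁅D, D.map φ⁆ = ⊥ := Cfsg.Lib.Core.component_commute hD
    (Cfsg.Lib.Core.IsComponent.map_conj hD a') (Ne.symm hne)
  have hdd : ∀ d ∈ D, ∀ e ∈ D.map φ, Commute d e := fun d hd e he =>
    Cfsg.Lib.Core.commutator_eq_bot_iff_forall.1 hbot d hd e he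
  let δ : ↥D → ↥K₁ := fun d => ⟨(d : ↥Cb) * (a' * d * a'⁻¹), (hdiag _).2 ⟨d, d.2, rfl⟩⟩
  have hδs : Function.Surjective δ := fun k => by
    obtain ⟨d, hd, e⟩ := (hdiag k).1 k.2
    exact ⟨⟨d, hd⟩, Subtype.ext e⟩
  have heq : Nat.card ↥D' = Nat.card ↥K := by
    refine le_antisymm hcard ?_
    rw [hDcard, ← hK₁card]
    exact Nat.card_le_card_of_surjective δ hδs
  have hδi : Function.Injective δ :=
    ((Function.Surjective.bijective_of_nat_card_le hδs (by omega)).1)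
  -- the elements of `B` permute the two components
  set B₁ := B.subgroupOf Cb with hB₁
  have hBb : B ≤ Cb := fun x hx => mem_centralizer_singleton_iff.2 (hBcomm x hx b hb)
  have hBK : ∀ c ∈ B₁, ∀ k ∈ K₁, k * c = c * k := fun c hc k hk =>
    Subtype.ext (mem_centralizer_iff.1 (hBle hc).2 _ hk)
  have hBa : ∀ c ∈ B₁, c * a' = a' * c := fun c hc => Subtype.ext (hBcomm _ hc _ haB)
  have hperm : ∀ c ∈ B₁, D.map (MulAut.conj c).toMonoidHom = D ∨
      D.map (MulAut.conj c).toMonoidHom = D.map φ := by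
    intro c hc
    by_contra hcon
    push Not at hcon
    set E := D.map (MulAut.conj c).toMonoidHom with hE
    have hEc : Cfsg.IsComponent E := Cfsg.Lib.Core.IsComponent.map_conj hD c
    have h1 : ⁅E, D⁆ = ⊥ := Cfsg.Lib.Core.component_commute hEc hD hcon.1
    have h2 : ⁅E, D.map φ⁆ = ⊥ :=
      Cfsg.Lib.Core.component_commute hEc (Cfsg.Lib.Core.IsComponent.map_conj hD a') hcon.2
    have h3 : E ≤ centralizer (K₁ : Set ↥Cb) := by
      intro e he
      refine mem_centralizer_iff.2 fun k hk => ?_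
      obtain ⟨d, hd, rfl⟩ := (hdiag k).1 hk
      have c1 : Commute e d := Cfsg.Lib.Core.commutator_eq_bot_iff_forall.1 h1 e he d hd
      have c2 : Commute e (a' * d * a'⁻¹) :=
        Cfsg.Lib.Core.commutator_eq_bot_iff_forall.1 h2 e he _ (mem_map_of_mem φ hd)
      exact (c1.mul_right c2).symm.eq
    have h4 : D ≤ centralizer (K₁ : Set ↥Cb) := by
      intro d hd
      refine mem_centralizer_iff.2 fun k hk => ?_
      have := mem_centralizer_iff.1 (h3 (mem_map_of_mem (MulAut.conj c).toMonoidHom hd)) k hk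
      change k * (c * d * c⁻¹) = c * d * c⁻¹ * k at this
      calc k * d = c⁻¹ * (c * k) * d := by group
        _ = c⁻¹ * (k * c) * d := by rw [hBK c hc k hk]
        _ = c⁻¹ * (k * (c * d * c⁻¹)) * c := by group
        _ = c⁻¹ * (c * d * c⁻¹ * k) * c := by rw [this]
        _ = d * (c⁻¹ * (k * c)) := by group
        _ = d * k := by rw [hBK c hc k hk, inv_mul_cancel_left]
    -- then `D` is abelian
    refine Cfsg.Lib.Core.IsComponent.not_solvable hD ?_
    haveI : IsMulCommutative ↥D := ⟨⟨fun x y => Subtype.ext ?_⟩⟩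
    · exact Cfsg.Lib.Core.isSolvable_of_isMulCommutative _
    show (x : ↥Cb) * y = y * x
    have h5 : Commute (x : ↥Cb) ((δ y : ↥K₁) : ↥Cb) :=
      ((mem_centralizer_iff.1 (h4 x.2) _ (δ y).2 : _ * _ = _ * _)).symm
    have h6 : Commute (x : ↥Cb) (a' * y * a'⁻¹) := hdd x x.2 _ (mem_map_of_mem φ y.2)
    have h7 := h5.mul_right h6.inv_right
    have e : ((δ y : ↥K₁) : ↥Cb) * (a' * y * a'⁻¹)⁻¹ = y :=
      mul_inv_cancel_right (y : ↥Cb) (a' * y * a'⁻¹)
    rw [e] at h7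
    exact h7.eq
  set B₀ := B₁ ⊓ normalizer (D : Set ↥Cb) with hB₀
  have hB₀i : ∀ c ∈ B₁, c ∈ B₀ ∨ c * a' ∈ B₀ := by
    intro c hc
    have ha'B : a' ∈ B₁ := mem_subgroupOf.2 haB
    rcases hperm c hc with h | h
    · exact Or.inl ⟨hc, Cfsg.Lib.Sig.mem_normalizer_of_map_conj h⟩
    · refine Or.inr ⟨mul_mem hc ha'B, Cfsg.Lib.Sig.mem_normalizer_of_map_conj ?_⟩
      rw [hBa c hc, ← Cfsg.Lib.Sig.map_conj_map_conj, h]
      exact hφφ
  have hB₀D : ∀ c ∈ B₀, ∀ d ∈ D, c * d = d * c := by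
    intro c hc d hd
    have hcd : c * d * c⁻¹ ∈ D := (mem_normalizer_iff.1 hc.2 d).1 hd
    have e : δ ⟨c * d * c⁻¹, hcd⟩ = δ ⟨d, hd⟩ := by
      refine Subtype.ext ?_
      show c * d * c⁻¹ * (a' * (c * d * c⁻¹) * a'⁻¹) = d * (a' * d * a'⁻¹)
      have hca : Commute c a' := hBa c hc.1
      calc c * d * c⁻¹ * (a' * (c * d * c⁻¹) * a'⁻¹)
          = c * d * c⁻¹ * ((a' * c) * d * (a' * c)⁻¹) := by group
        _ = c * (d * (a' * d * a'⁻¹)) * c⁻¹ := by rw [← hca.eq]; group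
        _ = d * (a' * d * a'⁻¹) := by
          have := hBK c hc.1 _ ((hdiag _).2 ⟨d, hd, rfl⟩)
          rw [← this, mul_inv_cancel_right]
    have := congrArg Subtype.val (hδi e)
    exact mul_inv_eq_iff_eq_mul.1 this
  -- an elementary subgroup of order four of `Dᵃ`
  obtain ⟨A, hAc, hA1, hA2, hA4⟩ : ∃ A : Subgroup ↥Cb, A ≤ D.map φ ∧
      (∀ x ∈ A, ∀ y ∈ A, x * y = y * x) ∧ (∀ x ∈ A, x ^ 2 = 1) ∧ 2 < Nat.card ↥A := by
    simp only [Cfsg.PRankLE] at hrk
    push Not at hrk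
    obtain ⟨A₀, hA₀c, hA₀2, hA₀⟩ := hrk
    let e₁ : ↥D ≃* ↥K₁ := MulEquiv.ofBijective (MonoidHom.mk' δ fun u v => Subtype.ext (by
      show (u : ↥Cb) * v * (a' * ((u : ↥Cb) * v) * a'⁻¹) =
        (u : ↥Cb) * (a' * u * a'⁻¹) * ((v : ↥Cb) * (a' * v * a'⁻¹))
      calc (u : ↥Cb) * v * (a' * ((u : ↥Cb) * v) * a'⁻¹)
          = (u : ↥Cb) * ((v : ↥Cb) * (a' * u * a'⁻¹)) * (a' * v * a'⁻¹) := by group
        _ = _ := by
          have c : Commute (v : ↥Cb) (a' * u * a'⁻¹) := hdd v v.2 _ (mem_map_of_mem φ u.2)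
          rw [c.eq]; group)) ⟨hδi, hδs⟩
    let e₂ : ↥K →* ↥Cb := ((D.map φ).subtype.comp (D.equivMapOfInjective φ
      (MulAut.conj a').injective).toMonoidHom).comp (e₁.symm.toMonoidHom.comp
        (subgroupOfEquivOfLe hKb).symm.toMonoidHom)
    have he₂ : Function.Injective e₂ := by
      intro u v h
      exact (subgroupOfEquivOfLe hKb).symm.injective (e₁.symm.injective
        ((D.equivMapOfInjective φ (MulAut.conj a').injective).injective (Subtype.ext h)))
    refine ⟨A₀.map e₂, by rintro _ ⟨u, -, rfl⟩; exact SetLike.coe_mem _, ?_, ?_, ?_⟩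
    · rintro _ ⟨u, hu, rfl⟩ _ ⟨v, hv, rfl⟩
      rw [← map_mul, ← map_mul]
      exact congrArg e₂ (congrArg Subtype.val (hA₀c.is_comm.comm (⟨u, hu⟩ : ↥A₀) ⟨v, hv⟩) :)
    · rintro _ ⟨u, hu, rfl⟩
      rw [← map_pow, hA₀2 u hu, map_one]
    · rw [card_map_of_injective he₂]; simpa using hA₀
  have hA : ∀ x ∈ A, ∃ d ∈ D, a' * d * a'⁻¹ = x := fun x hx => by
    obtain ⟨d, hd, e⟩ := hAc hx; exact ⟨d, hd, e⟩
  have hAB : ∀ x ∈ A, x ∈ B₀ → x = 1 := by
    intro x hx hx0
    obtain ⟨d, hd, rfl⟩ := hA x hx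
    have hdx : d = a' * d * a'⁻¹ := by
      have h : Commute a' (a' * d * a'⁻¹) := (hBa _ hx0.1).symm
      have h2 : a' * (a' * d * a'⁻¹) * a'⁻¹ = a' * d * a'⁻¹ := by rw [h.eq, mul_inv_cancel_right]
      have htt : a' * a' = 1 := by rw [← pow_two]; exact orderOf_dvd_iff_pow_eq_one.1 (dvd_of_eq ha'o)
      calc d = (a' * a') * d * (a' * a')⁻¹ := by rw [htt, one_mul, inv_one, mul_one]
        _ = a' * (a' * d * a'⁻¹) * a'⁻¹ := by group
        _ = _ := h2
    have h1 : δ ⟨d, hd⟩ = δ 1 := by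
      refine Subtype.ext ?_
      show d * (a' * d * a'⁻¹) = (1 : ↥Cb) * (a' * 1 * a'⁻¹)
      rw [mul_one, mul_inv_cancel, one_mul, ← hdx, ← pow_two]
      exact hdx ▸ hA2 _ hx
    have h2 : d = 1 := congrArg Subtype.val (hδi h1)
    rw [← hdx, h2]
  -- the contradiction with the rank condition
  have hAB₀c : ∀ x ∈ B₀, ∀ y ∈ A, x * y = y * x := by
    intro x hx y hy
    obtain ⟨d, hd, rfl⟩ := hA y hy
    have h1 : Commute x d := hB₀D x hx d hd
    have c0 : Commute x a' := hBa x hx.1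
    exact ((c0.mul_right h1).mul_right c0.inv_right).eq
  obtain ⟨k, hk⟩ : ∃ k, Nat.card ↥B = 2 ^ k := IsPGroup.iff_card.1
    (fun x => ⟨1, Subtype.ext (by simpa using hBel.2 x x.2)⟩)
  have hbot' : ⁅B₀, A⁆ = ⊥ := Cfsg.Lib.Core.commutator_eq_bot_iff_forall.2 hAB₀c
  set W := (B₀ ⊔ A).map Cb.subtype with hW
  have hWle : W ≤ Cb ⊓ centralizer (D' : Set G) := by
    refine le_inf (map_subtype_le _) ?_
    rintro _ ⟨w, hw, rfl⟩
    refine mem_centralizer_iff.2 ?_
    rintro _ ⟨d, hd, rfl⟩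
    obtain ⟨x, hx, y, hy, rfl⟩ := (Cfsg.Lib.Core.mem_sup_of_commute hbot').1 hw
    exact congrArg Subtype.val
      ((Commute.mul_left (hB₀D x hx d hd) (hdd d hd y (hAc hy)).symm).symm.eq : d * (x * y) = x * y * d)
  have hWel : ∀ u ∈ B₀ ⊔ A, (∀ v ∈ B₀ ⊔ A, u * v = v * u) ∧ u ^ 2 = 1 := by
    intro u hu
    obtain ⟨x, hx, y, hy, rfl⟩ := (Cfsg.Lib.Core.mem_sup_of_commute hbot').1 hu
    refine ⟨fun v hv => ?_, ?_⟩
    · obtain ⟨x', hx', y', hy', rfl⟩ := (Cfsg.Lib.Core.mem_sup_of_commute hbot').1 hv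
      have c1 : Commute x x' := Subtype.ext (hBcomm _ hx.1 _ hx'.1)
      have c2 : Commute x y' := hAB₀c x hx y' hy'
      have c3 : Commute y x' := (hAB₀c x' hx' y hy).symm
      have c4 : Commute y y' := hA1 y hy y' hy'
      exact ((c1.mul_right c2).mul_left (c3.mul_right c4)).eq
    · have c : Commute x y := hAB₀c x hx y hy
      rw [c.mul_pow, hA2 y hy, mul_one]
      exact Subtype.ext (hBel.2 _ hx.1)
  have hrk' := hrank heq k (fun A' hA'c hA'2 => by
    have e : Nat.card ↥(A'.map (Ca ⊓ centralizer (K : Set G)).subtype) = Nat.card ↥A' :=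
      card_map_of_injective (subtype_injective _)
    rw [← hk, ← e]
    exact hBmax _ (map_subtype_le _) ⟨⟨⟨fun u v => Subtype.ext (by
      obtain ⟨u', hu', hu⟩ := u.2
      obtain ⟨v', hv', hv⟩ := v.2
      show (u : G) * v = v * u
      rw [← hu, ← hv, ← map_mul, ← map_mul]
      exact congrArg _ (congrArg Subtype.val (hA'c.is_comm.comm (⟨u', hu'⟩ : ↥A') ⟨v', hv'⟩) :))⟩⟩,
      by rintro _ ⟨u, hu, rfl⟩; rw [← map_pow, hA'2 u hu, map_one]⟩)
    (W.subgroupOf (Cb ⊓ centralizer (D' : Set G))) ⟨⟨fun u v => Subtype.ext (Subtype.ext (by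
      obtain ⟨u', hu', hu⟩ := u.2
      obtain ⟨v', hv', hv⟩ := v.2
      show ((u : ↥(Cb ⊓ centralizer (D' : Set G))) : G) * _ = _ * _
      have hu2 : ((u : ↥(Cb ⊓ centralizer (D' : Set G))) : G) = Cb.subtype u' := hu.symm
      have hv2 : ((v : ↥(Cb ⊓ centralizer (D' : Set G))) : G) = Cb.subtype v' := hv.symm
      rw [hu2, hv2, ← map_mul, ← map_mul, (hWel u' hu').1 v' hv']))⟩⟩ (fun u hu => Subtype.ext (by
      obtain ⟨u', hu', hu''⟩ := mem_subgroupOf.1 hu
      show (u : G) ^ 2 = 1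
      rw [← hu'', ← map_pow, (hWel u' hu').2, map_one]))
  rw [Nat.card_congr (subgroupOfEquivOfLe hWle).toEquiv, hW,
    card_map_of_injective Cb.subtype_injective] at hrk'
  -- counting
  have hprod : Nat.card ↥B₀ * Nat.card ↥A ≤ Nat.card ↥(B₀ ⊔ A) := by
    rw [← Nat.card_prod]
    refine Nat.card_le_card_of_injective
      (fun q : ↥B₀ × ↥A => (⟨(q.1 : ↥Cb) * q.2, mul_mem (mem_sup_left q.1.2) (mem_sup_right q.2.2)⟩ : ↥(B₀ ⊔ A)))
      fun q r h => ?_
    have h' : (q.1 : ↥Cb) * q.2 = r.1 * r.2 := congrArg Subtype.val h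
    have h2 : ((r.1 : ↥Cb))⁻¹ * q.1 = r.2 * (q.2 : ↥Cb)⁻¹ := by
      rw [eq_mul_inv_iff_mul_eq, mul_assoc, h', inv_mul_cancel_left]
    have h3 : ((r.1 : ↥Cb))⁻¹ * q.1 = 1 :=
      hAB _ (h2 ▸ A.mul_mem r.2.2 (A.inv_mem q.2.2)) (B₀.mul_mem (B₀.inv_mem r.1.2) q.1.2)
    rw [h3] at h2
    exact Prod.ext (Subtype.ext (inv_mul_eq_one.1 h3).symm)
      (Subtype.ext (mul_inv_eq_one.1 h2.symm).symm)
  have hBcard : Nat.card ↥B ≤ 2 * Nat.card ↥B₀ := by
    classical
    rw [← Nat.card_congr (subgroupOfEquivOfLe hBb).toEquiv, ← hB₁,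
      show 2 * Nat.card ↥B₀ = Nat.card (Bool × ↥B₀) by rw [Nat.card_prod]; simp]
    refine Nat.card_le_card_of_surjective (fun q : Bool × ↥B₀ => (⟨if q.1 then (q.2 : ↥Cb) * a' else q.2,
      by split
         · exact B₁.mul_mem q.2.2.1 (mem_subgroupOf.2 haB)
         · exact q.2.2.1⟩ : ↥B₁)) fun c => ?_
    rcases hB₀i c c.2 with h | h
    · exact ⟨(false, ⟨c, h⟩), Subtype.ext (by simp)⟩
    · refine ⟨(true, ⟨(c : ↥Cb) * a', h⟩), Subtype.ext ?_⟩
      simp only [if_true]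
      rw [mul_assoc, ← pow_two, orderOf_dvd_iff_pow_eq_one.1 (dvd_of_eq ha'o), mul_one]
  have hB₀pos : 0 < Nat.card ↥B₀ := Nat.card_pos
  rw [← hk] at hrk'
  have : Nat.card ↥B₀ * 3 ≤ Nat.card ↥B₀ * Nat.card ↥A := Nat.mul_le_mul_left _ hA4
  omega

/-- Let G be a finite group of component type with the B-property and no nontrivial normal subgroup of odd order. Let a be an involution and K a component of C_G(a) such that (a) |K| is maximal among the orders of components of centralizers of involutions of G, (b) subject to (a) the 2-rank of the centralizer of K in C_G(a) is as large as possible, and (c) K has 2-rank at least 2. If B is an elementary abelian 2-subgroup of that centralizer of the largest possible order, then K is a component of C_G(b) for every non-identity b ∈ B. -/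
theorem result {G : Type*} [Group G] [Finite G] (hO : Cfsg.oddCore G = ⊥) (hB : Cfsg.HasBProperty G) (hct : Cfsg.IsComponentType G) (a : G) (ha : orderOf a = 2) (K : Subgroup G) (hKa : K ≤ Subgroup.centralizer ({a} : Set G)) (hK : Cfsg.IsComponent (K.subgroupOf (Subgroup.centralizer ({a} : Set G)))) (hmax : ∀ y : G, orderOf y = 2 → ∀ K' : Subgroup G, K' ≤ Subgroup.centralizer ({y} : Set G) → Cfsg.IsComponent (K'.subgroupOf (Subgroup.centralizer ({y} : Set G))) → Nat.card ↥K' ≤ Nat.card ↥K ∧ (Nat.card ↥K' = Nat.card ↥K → ∀ k : ℕ, Cfsg.PRankLE 2 k ↥(Subgroup.centralizer ({a} : Set G) ⊓ Subgroup.centralizer (K : Set G)) → Cfsg.PRankLE 2 k ↥(Subgroup.centralizer ({y} : Set G) ⊓ Subgroup.centralizer (K' : Set G)))) (hrk : ¬ Cfsg.PRankLE 2 1 ↥K) (B : Subgroup G) (hBle : B ≤ Subgroup.centralizer ({a} : Set G) ⊓ Subgroup.centralizer (K : Set G)) (hBel : Cfsg.IsElementaryAbelian 2 B) (hBmax : ∀ B' : Subgroup G, B' ≤ Subgroup.centralizer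 ({a} : Set G) ⊓ Subgroup.centralizer (K : Set G) → Cfsg.IsElementaryAbelian 2 B' → Nat.card ↥B' ≤ Nat.card ↥B) (b : G) (hb : b ∈ B) (hb1 : b ≠ 1) : K ≤ Subgroup.centralizer ({b} : Set G) ∧ Cfsg.IsComponent (K.subgroupOf (Subgroup.centralizer ({b} : Set G))) := by
    exact main hO hB a ha K hKa hK hmax hrk B hBle hBel hBmax b hb hb1

end Cfsg.Agent.S1305
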