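import Cfsg.Statements.S1306
import Cfsg.Agent.Lib.Core.Layer

set_option autoImplicit false
open Cfsg

namespace Cfsg.Agent.S1306

/-- Let G be finite, x an involution and L ≤ C_G(x) a component of C_G(x). Suppose L is a component of C_G(y) for every involution y ∈ C_G(L), and ⁅L, g L g⁻¹⁆ ≠ 1 whenever g L g⁻¹ ≠ L. Then L is a standard subgroup of G. -/
theorem result {G : Type*} [Group G] [Finite G] (x : G) (hx : orderOf x = 2) (L : Subgroup G) (hLx : L ≤ Subgroup.centralizer ({x} : Set G)) (hL : Cfsg.IsComponent (L.subgroupOf (Subgroup.centralizer ({x} : Set G)))) (hne : ∀ y : G, orderOf y = 2 → y ∈ Subgroup.centralizer (L : Set G) → L ≤ Subgroup.centralizer ({y} : Set G) ∧ Cfsg.IsComponent (L.subgroupOf (Subgroup.centralizer ({y} : Set G)))) (hnc : ∀ g : G, L.map (MulAut.conj g).toMonoidHom ≠ L → ⁅L, L.map (MulAut.conj g).toMonoidHom⁆ ≠ ⊥) : Cfsg.IsStandardSubgroup L := by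
  classical
  set C := Subgroup.centralizer (L : Set G) with hCdef
  have hqs : Cfsg.IsQuasisimple ↥L :=
    Cfsg.Lib.Core.quasisimple_congr hL.2 (Subgroup.subgroupOfEquivOfLe hLx)
  have hxC : x ∈ C := Subgroup.mem_centralizer_iff.2 fun l hl =>
    Subgroup.mem_centralizer_singleton_iff.1 (hLx hl)
  have hconj : ∀ (g y : G), y ∈ C → g * y * g⁻¹ ∈ C → orderOf y = 2 →
      L.map (MulAut.conj g).toMonoidHom = L := by
    intro g y hy hgy hyo
    obtain ⟨hLy, hLyc⟩ := hne y hyo hy
    have hgo : orderOf (g * y * g⁻¹) = 2 := by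
      have h := MulEquiv.orderOf_eq (MulAut.conj g) y
      rw [MulAut.conj_apply] at h
      rw [h, hyo]
    obtain ⟨hLz, hLzc⟩ := hne _ hgo hgy
    set C1 := Subgroup.centralizer ({y} : Set G)
    set C2 := Subgroup.centralizer ({g * y * g⁻¹} : Set G)
    have hmap : C1.map (MulAut.conj g).toMonoidHom = C2 := by
      ext u
      constructor
      · rintro ⟨w, hw, rfl⟩
        rw [SetLike.mem_coe, Subgroup.mem_centralizer_singleton_iff] at hw
        refine Subgroup.mem_centralizer_singleton_iff.2 ?_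
        show g * w * g⁻¹ * (g * y * g⁻¹) = g * y * g⁻¹ * (g * w * g⁻¹)
        calc g * w * g⁻¹ * (g * y * g⁻¹) = g * (w * y) * g⁻¹ := by group
          _ = g * (y * w) * g⁻¹ := by rw [hw]
          _ = g * y * g⁻¹ * (g * w * g⁻¹) := by group
      · intro hu
        have hu' : u * (g * y * g⁻¹) = g * y * g⁻¹ * u := Subgroup.mem_centralizer_singleton_iff.1 hu
        refine ⟨g⁻¹ * u * g, Subgroup.mem_centralizer_singleton_iff.2 ?_, ?_⟩
        · calc g⁻¹ * u * g * y = g⁻¹ * (u * (g * y * g⁻¹)) * g := by group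
            _ = g⁻¹ * (g * y * g⁻¹ * u) * g := by rw [hu']
            _ = y * (g⁻¹ * u * g) := by group
        · show g * (g⁻¹ * u * g) * g⁻¹ = u
          group
    let e : ↥C1 ≃* ↥C2 := (C1.equivMapOfInjective (MulAut.conj g).toMonoidHom (MulAut.conj g).injective).trans
      (MulEquiv.subgroupCongr hmap)
    set Lg := L.map (MulAut.conj g).toMonoidHom
    have hcomp : Cfsg.IsComponent (Lg.subgroupOf C2) := by
      have h := Cfsg.Lib.Core.IsComponent.map_equiv hLyc e
      have he : (L.subgroupOf C1).map e.toMonoidHom = Lg.subgroupOf C2 := by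
        ext u
        constructor
        · rintro ⟨w, hw, rfl⟩
          exact ⟨(w : G), hw, rfl⟩
        · rintro ⟨w, hw, hwu⟩
          exact ⟨⟨w, hLy hw⟩, hw, Subtype.ext hwu⟩
      rwa [he] at h
    by_contra hne'
    apply hnc g hne'
    have hLgle : Lg ≤ C2 := (Subgroup.map_mono hLy).trans hmap.le
    have hne2 : L.subgroupOf C2 ≠ Lg.subgroupOf C2 := fun he => hne' (by
      have h2 := congrArg (Subgroup.map C2.subtype) he
      rw [Subgroup.map_subgroupOf_eq_of_le hLz, Subgroup.map_subgroupOf_eq_of_le hLgle] at h2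
      exact h2.symm)
    have h3 := congrArg (Subgroup.map C2.subtype) (Cfsg.Lib.Core.component_commute hLzc hcomp hne2)
    rwa [Subgroup.map_commutator, Subgroup.map_subgroupOf_eq_of_le hLz,
      Subgroup.map_subgroupOf_eq_of_le hLgle, Subgroup.map_bot] at h3
  have hle : Subgroup.normalizer (L : Set G) ≤ Subgroup.normalizer (C : Set G) := by
    rw [Cfsg.Lib.Core.le_normalizer_iff_conj_mem]
    intro n hn c hc
    rw [hCdef, Subgroup.mem_centralizer_iff] at hc ⊢
    intro l hl
    have h1 := hc (n⁻¹ * l * n) ((Subgroup.mem_normalizer_iff''.1 hn l).1 hl)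
    calc l * (n * c * n⁻¹) = n * (n⁻¹ * l * n * c) * n⁻¹ := by group
      _ = n * (c * (n⁻¹ * l * n)) * n⁻¹ := by rw [h1]
      _ = n * c * n⁻¹ * l := by group
  refine ⟨hqs, ⟨?_, fun g hg => ?_⟩, hnc, le_antisymm hle fun g hg => ?_⟩
  · rw [even_iff_two_dvd, ← hx, ← Subgroup.orderOf_mk x hxC]
    exact orderOf_dvd_natCard _
  · rw [← Nat.not_even_iff_odd, even_iff_two_dvd]
    intro h2
    haveI : Fact (Nat.Prime 2) := ⟨Nat.prime_two⟩
    obtain ⟨y, hy⟩ := exists_prime_orderOf_dvd_card' 2 h2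
    apply hg
    apply hle
    rw [Cfsg.Lib.Core.mem_normalizer_iff_map_conj]
    obtain ⟨w, hw, hwy⟩ := y.2.2
    have hwy' : g * w * g⁻¹ = (y : G) := hwy
    refine hconj g w hw (hwy' ▸ y.2.1) ?_
    have h := MulEquiv.orderOf_eq (MulAut.conj g) w
    rw [MulAut.conj_apply, hwy'] at h
    rw [← h, Subgroup.orderOf_coe, hy]
  · rw [Cfsg.Lib.Core.mem_normalizer_iff_map_conj]
    exact hconj g x hxC ((Subgroup.mem_normalizer_iff.1 hg x).1 hxC) hx

end Cfsg.Agent.S1306
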