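import Cfsg.Statements.S1307
import Cfsg.Agent.Lib.ZStar.Main
import Cfsg.Agent.Lib.Local.FixedOrderClosed
import Cfsg.Agent.Lib.Core.Layer
import Cfsg.Agent.Lib.PGroup.Basic
import Cfsg.Agent.S0016

set_option autoImplicit false
open Cfsg

namespace Cfsg.Agent.S1307

open Subgroup

set_option linter.style.haveILetI false

variable {G : Type*} [Group G] [Finite G]

theorem core {x : G} {L : Subgroup G}
    (hL : Cfsg.IsComponent (L.subgroupOf (centralizer ({x} : Set G))))
    (hLx : L ≤ centralizer ({x} : Set G)) (heven : Even (Nat.card ↥L)) (hrk : Cfsg.PRankLE 2 1 ↥L) :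
    ∃ z : ↥L, z ∈ center ↥L ∧ orderOf z = 2 ∧
      ∃ S : Sylow 2 ↥L, ∃ n : ℕ, Nonempty (↥(S : Subgroup ↥L) ≃* QuaternionGroup (2 ^ (n + 1))) := by
  haveI : Fact (Nat.Prime 2) := ⟨Nat.prime_two⟩
  have hq : Cfsg.IsQuasisimple ↥L :=
    Cfsg.Lib.Core.quasisimple_congr hL.2 (subgroupOfEquivOfLe hLx)
  obtain ⟨S⟩ : Nonempty (Sylow 2 ↥L) := inferInstance
  have hSne : (S : Subgroup ↥L) ≠ ⊥ := fun h => by
    have := S.not_dvd_index
    rw [h, index_bot] at this
    exact this (even_iff_two_dvd.1 heven)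
  have huniq : ∀ H K : Subgroup ↥(S : Subgroup ↥L), Nat.card H = 2 → Nat.card K = 2 → H = K := by
    haveI : Nontrivial ↥(S : Subgroup ↥L) := (nontrivial_iff_ne_bot _).2 hSne
    obtain ⟨z, -, hzc, hzo⟩ :=
      Cfsg.Lib.PGroup.exists_mem_center_orderOf_eq S.2
        (N := (⊤ : Subgroup ↥(S : Subgroup ↥L))) top_ne_bot
    have key : ∀ H : Subgroup ↥(S : Subgroup ↥L), Nat.card H = 2 → H = zpowers z := by
      intro H hH
      obtain ⟨y, hy⟩ := exists_prime_orderOf_dvd_card' (G := H) 2 (by rw [hH])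
      have hy' : orderOf (y : ↥(S : Subgroup ↥L)) = 2 := by rw [orderOf_coe]; exact hy
      set E : Subgroup ↥L := (closure ({z, (y : ↥(S : Subgroup ↥L))} : Set ↥(S : Subgroup ↥L))).map
        (S : Subgroup ↥L).subtype with hE
      have hcl : ∀ w ∈ closure ({z, (y : ↥(S : Subgroup ↥L))} : Set ↥(S : Subgroup ↥L)),
          w ^ 2 = 1 ∧ w ∈ centralizer ({z, (y : ↥(S : Subgroup ↥L))} : Set ↥(S : Subgroup ↥L)) := by
        intro w hw
        have hcent : ({z, (y : ↥(S : Subgroup ↥L))} : Set ↥(S : Subgroup ↥L)) ⊆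
            centralizer ({z, (y : ↥(S : Subgroup ↥L))} : Set ↥(S : Subgroup ↥L)) := by
          intro a ha
          refine mem_centralizer_iff.2 fun b hb => ?_
          rcases ha with rfl | rfl <;> rcases hb with rfl | rfl
          · rfl
          · exact mem_center_iff.1 hzc _
          · exact (mem_center_iff.1 hzc _).symm
          · rfl
        induction hw using closure_induction with
        | mem a ha =>
          refine ⟨?_, hcent ha⟩
          rcases ha with rfl | rfl
          · exact orderOf_dvd_iff_pow_eq_one.1 (dvd_of_eq hzo)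
          · exact orderOf_dvd_iff_pow_eq_one.1 (dvd_of_eq hy')
        | one => exact ⟨one_pow _, one_mem _⟩
        | mul a b ha' hb' ha hb =>
          have h1 : a ∈ centralizer (closure ({z, (y : ↥(S : Subgroup ↥L))} :
              Set ↥(S : Subgroup ↥L)) : Set ↥(S : Subgroup ↥L)) := by
            rw [centralizer_closure]; exact ha.2
          have hc : Commute a b := (mem_centralizer_iff.1 h1 b hb').symm
          exact ⟨by rw [hc.mul_pow, ha.1, hb.1, one_mul], mul_mem ha.2 hb.2⟩
        | inv a _ ha => exact ⟨by rw [inv_pow, ha.1, inv_one], inv_mem ha.2⟩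
      have hcomm : IsMulCommutative ↥E := by
        refine ⟨⟨fun a b => Subtype.ext ?_⟩⟩
        obtain ⟨a', ha', hae⟩ := a.2
        obtain ⟨b', hb', hbe⟩ := b.2
        have h1 : a' ∈ centralizer (closure ({z, (y : ↥(S : Subgroup ↥L))} :
            Set ↥(S : Subgroup ↥L)) : Set ↥(S : Subgroup ↥L)) := by
          rw [centralizer_closure]; exact (hcl a' ha').2
        show (a : ↥L) * b = b * a
        rw [← hae, ← hbe, ← map_mul, ← map_mul, mem_centralizer_iff.1 h1 b' hb']
      have hcard : Nat.card ↥E ≤ 2 := hrk E hcomm fun w hw => by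
        obtain ⟨w', hw', rfl⟩ := hw
        rw [← map_pow, (hcl w' hw').1, map_one]
      rw [hE, card_map_of_injective (S : Subgroup ↥L).subtype_injective] at hcard
      have e1 : zpowers z = closure ({z, (y : ↥(S : Subgroup ↥L))} : Set ↥(S : Subgroup ↥L)) :=
        eq_of_le_of_card_ge (zpowers_le.2 (subset_closure (Or.inl rfl)))
          (by rw [Nat.card_zpowers, hzo]; exact hcard)
      have e2 : zpowers (y : ↥(S : Subgroup ↥L)) = H :=
        eq_of_le_of_card_ge (zpowers_le.2 y.2) (by rw [Nat.card_zpowers, hy', hH])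
      refine e2.symm.trans (eq_of_le_of_card_ge ?_ (by rw [Nat.card_zpowers, Nat.card_zpowers, hy', hzo]))
      rw [e1]
      exact zpowers_le.2 (subset_closure (Or.inr rfl))
    intro H K hH hK
    rw [key H hH, key K hK]
  have hcyc : ¬ IsCyclic ↥(S : Subgroup ↥L) := by
    intro hc
    obtain ⟨P, N, hN, hNP⟩ := Cfsg.Lib.Local.FixedOrder.hasNormalPComplement_of_cyclic
      (G := ↥L) (p := 2) (fun q hq _ => hq.two_le) S hc
    haveI := hN
    haveI := hq.1
    haveI : Group.IsPerfect (↥L ⧸ N) := inferInstance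
    rcases Cfsg.Lib.Core.quasisimple_normal hq (N := N) with hle | htop
    · have hsol : Group.IsSolvable (↥L ⧸ N) := by
        have hp : IsPGroup 2 (↥L ⧸ N) := by
          refine IsPGroup.of_surjective P.2 ((QuotientGroup.mk' N).comp (P : Subgroup ↥L).subtype) ?_
          intro w
          obtain ⟨v, rfl⟩ := QuotientGroup.mk'_surjective N w
          obtain ⟨a, ha, b, hb, rfl⟩ := mem_sup_of_normal_left.1 (hNP.sup_eq_top ▸ mem_top v)
          exact ⟨⟨b, hb⟩, by simp [(QuotientGroup.eq_one_iff a).2 ha]⟩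
        haveI := hp.isNilpotent
        infer_instance
      haveI : Nontrivial (↥L ⧸ N) := by
        rw [QuotientGroup.nontrivial_iff]
        exact fun h => Cfsg.Lib.Core.quasisimple_center_ne_top hq (top_le_iff.1 (h ▸ hle))
      exact Group.IsPerfect.not_isSolvable _ hsol
    · have := hNP.card_mul
      rw [htop, card_top] at this
      have h1 : Nat.card ↥(P : Subgroup ↥L) = 1 := by
        simpa [Nat.card_pos.ne'] using this
      exact P.not_dvd_index (by rw [card_eq_one.1 h1, index_bot]; exact even_iff_two_dvd.1 heven)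
  obtain ⟨n, ⟨e⟩⟩ : ∃ n : ℕ, Nonempty (↥(S : Subgroup ↥L) ≃* QuaternionGroup (2 ^ (n + 1))) := by
    rcases Cfsg.Agent.S0016.result 2 S.2 huniq with h | ⟨-, m, ⟨e⟩⟩
    · exact absurd h hcyc
    · rcases m with _ | m
      · refine absurd ?_ hcyc
        haveI : IsCyclic (QuaternionGroup (2 ^ 0)) := by
          rw [pow_zero]; exact QuaternionGroup.quaternionGroup_one_isCyclic
        exact e.isCyclic.2 inferInstance
      · exact ⟨m, ⟨e⟩⟩
  -- the centre has even order
  have hev : 2 ∣ Nat.card ↥(center ↥L) := by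
    by_contra hodd
    set Z := center ↥L with hZ
    set f := QuotientGroup.mk' Z with hf
    haveI := hq.2
    have hfs : Function.Surjective f := QuotientGroup.mk'_surjective Z
    let T : Sylow 2 (↥L ⧸ Z) := S.mapSurjective (f := f) hfs
    have hinj : Function.Injective (f.comp (S : Subgroup ↥L).subtype) := by
      refine (injective_iff_map_eq_one _).2 fun a ha => ?_
      obtain ⟨k, hk⟩ := S.2 a
      have hco : (2 ^ k).Coprime (Nat.card ↥Z) :=
        (Nat.prime_two.coprime_iff_not_dvd.2 hodd).pow_left k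
      exact orderOf_eq_one_iff.1 (Nat.eq_one_of_dvd_coprimes hco (orderOf_dvd_of_pow_eq_one hk)
        (by rw [← orderOf_coe]; exact Z.orderOf_dvd_natCard ((QuotientGroup.eq_one_iff _).1 ha)))
    let eT : ↥(T : Subgroup (↥L ⧸ Z)) ≃* QuaternionGroup (2 ^ (n + 1)) :=
      ((MulEquiv.ofBijective (f.subgroupMap (S : Subgroup ↥L))
        ⟨fun a b h => hinj (congrArg Subtype.val h), MonoidHom.subgroupMap_surjective _ _⟩).symm).trans e
    have hTne : (T : Subgroup (↥L ⧸ Z)) ≠ ⊥ := fun h => by
      have h1 : Nat.card ↥(T : Subgroup (↥L ⧸ Z)) = 1 := by rw [h, card_bot]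
      rw [Nat.card_congr eT.toEquiv, ← Nat.card_congr e.toEquiv, card_eq_one] at h1
      exact hSne h1
    have hO : Cfsg.oddCore (↥L ⧸ Z) = ⊥ := by
      rcases IsSimpleGroup.eq_bot_or_eq_top_of_normal (Cfsg.oddCore (↥L ⧸ Z)) inferInstance with h | h
      · exact h
      · exfalso
        have h2 : Odd (Nat.card (↥L ⧸ Z)) := by
          have := Cfsg.Lib.ZStar.odd_card_oddCore (G := ↥L ⧸ Z)
          rwa [h, card_top] at this
        obtain ⟨k, hk⟩ := IsPGroup.iff_card.1 T.2
        rcases k with _ | k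
        · exact hTne (card_eq_one.1 (by simpa using hk))
        · exact (Nat.not_even_iff_odd.2 h2) (even_iff_two_dvd.2
            ((Dvd.intro_left (2 ^ k) (pow_succ 2 k).symm).trans (hk ▸ card_subgroup_dvd_card _)))
    have hc := Cfsg.Lib.ZStar.card_center_of_quaternion hO T eT
    rcases IsSimpleGroup.eq_bot_or_eq_top_of_normal (center (↥L ⧸ Z)) inferInstance with h | h
    · rw [h, card_bot] at hc; exact absurd hc (by norm_num)
    · haveI := hq.1
      haveI : Group.IsPerfect (↥L ⧸ Z) := inferInstance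
      refine Group.IsPerfect.not_isSolvable (↥L ⧸ Z) (Group.isSolvable_of_comm fun a b => ?_)
      exact mem_center_iff.1 (h ▸ mem_top b) a
  obtain ⟨z, hz⟩ := exists_prime_orderOf_dvd_card' (G := ↥(center ↥L)) 2 hev
  exact ⟨z, z.2, by rw [orderOf_coe]; exact hz, S, n, ⟨e⟩⟩

/-- Let G be finite, x an involution and L ≤ C_G(x) a component of C_G(x) of even order and 2-rank 1, such that L is a component of C_G(y) for every involution y ∈ C_G(L). Then some involution of L is a classical involution of G. -/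
theorem result {G : Type*} [Group G] [Finite G] (x : G) (hx : orderOf x = 2) (L : Subgroup G) (hLx : L ≤ Subgroup.centralizer ({x} : Set G)) (hL : Cfsg.IsComponent (L.subgroupOf (Subgroup.centralizer ({x} : Set G)))) (heven : Even (Nat.card ↥L)) (hrk : Cfsg.PRankLE 2 1 ↥L) (hne : ∀ y : G, orderOf y = 2 → y ∈ Subgroup.centralizer (L : Set G) → L ≤ Subgroup.centralizer ({y} : Set G) ∧ Cfsg.IsComponent (L.subgroupOf (Subgroup.centralizer ({y} : Set G)))) : ∃ t ∈ L, Cfsg.IsClassicalInvolution t := by
    obtain ⟨z, hzc, hzo, S, n, hS⟩ := core hL hLx heven hrk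
    obtain ⟨hzx, hzcomp⟩ := hne (z : G) (by rw [Subgroup.orderOf_coe]; exact hzo)
      (Subgroup.mem_centralizer_iff.2 fun l hl =>
        congrArg Subtype.val (Subgroup.mem_center_iff.1 hzc ⟨l, hl⟩))
    exact ⟨z, z.2, by rw [Subgroup.orderOf_coe]; exact hzo, L, hzx, z.2, hzcomp.1, S, n, hS⟩

end Cfsg.Agent.S1307
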