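import Cfsg.Statements.S1313
import Cfsg.Agent.Lib.Core.Layer
import Mathlib.GroupTheory.Perm.Finite

set_option autoImplicit false
open Cfsg

namespace Cfsg.Agent.S1313

/-- For a finite group H, |H| ≤ |F*(H)|!. -/
theorem result {H : Type*} [Group H] [Finite H] : Nat.card H ≤ Nat.factorial (Nat.card ↥(Cfsg.generalizedFittingSubgroup H)) := by
    classical
    set F := Cfsg.generalizedFittingSubgroup H with hF
    have := Fintype.ofFinite ↥F
    have hFn : F.Normal := by
      have := Cfsg.Lib.Core.fittingSubgroup_normal' H
      have hE : (Cfsg.layer H).Normal := ⟨fun x hx g =>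
        Cfsg.Lib.Core.map_layer_le_of_equiv (MulAut.conj g) ⟨x, hx, rfl⟩⟩
      rw [hF, Cfsg.generalizedFittingSubgroup]
      infer_instance
    let T := {x : ↥F // x ≠ 1}
    let π : H →* Equiv.Perm T :=
      { toFun := fun h => (MulAut.conjNormal h : MulAut ↥F).toEquiv.subtypeEquiv fun a => by simp
        map_one' := by ext; simp
        map_mul' := fun a b => by ext; simp [map_mul] }
    have hker : π.ker ≤ F := by
      refine le_trans (fun h hh => Subgroup.mem_centralizer_iff.2 fun x hx => ?_) Cfsg.Lib.Core.centralizer_generalizedFitting_le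
      by_cases h1 : x = 1
      · simp [h1]
      · have := congrArg (fun e : Equiv.Perm T => ((e ⟨⟨x, hx⟩, fun e => h1 (congrArg Subtype.val e)⟩ : ↥F) : H)) (MonoidHom.mem_ker.1 hh)
        simp [π] at this
        have e : h * x * h⁻¹ = x := this
        calc x * h = h * x * h⁻¹ * h := by rw [e]
          _ = h * x := by group
    have h1 : Nat.card H = Nat.card ↥π.ker * Nat.card ↥π.range := by
      rw [← Subgroup.index_ker, Subgroup.card_mul_index]
    have h2 : Nat.card ↥π.range ≤ (Nat.card ↥F - 1).factorial := by
      refine (Nat.card_le_card_of_injective _ π.range.subtype_injective).trans (le_of_eq ?_)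
      rw [Nat.card_eq_fintype_card, Fintype.card_perm, Nat.card_eq_fintype_card]
      congr 1
      simp [T, Fintype.card_subtype_compl]
    rw [h1, ← Nat.mul_factorial_pred Nat.card_pos.ne']
    exact Nat.mul_le_mul (Subgroup.card_le_of_le hker) h2

end Cfsg.Agent.S1313
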