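import Cfsg.Statements.S1314
import Mathlib.GroupTheory.Commutator.Basic
import Cfsg.Agent.Lib.Core.Basic

set_option autoImplicit false
open Cfsg
open scoped commutatorElement

namespace Cfsg.Agent.S1314

/-- Let x be an involution of a group G and L a perfect subgroup with ⁅L, x L x⁻¹⁆ = 1. Then l ↦ l (x l x⁻¹) is a group homomorphism π from L to G whose kernel is central in L and whose image lies in C_G(x); and the commutator subgroup of C_{L ⊔ xLx⁻¹}(x) equals the image of π. -/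
theorem result {G : Type*} [Group G] [Finite G] (x : G) (hx : orderOf x = 2) (L : Subgroup G) (hperf : ⁅L, L⁆ = L) (hcomm : ⁅L, L.map (MulAut.conj x).toMonoidHom⁆ = ⊥) : ∃ π : ↥L →* G, (∀ l : ↥L, π l = (l : G) * (x * (l : G) * x⁻¹)) ∧ π.ker ≤ Subgroup.center ↥L ∧ π.range ≤ Subgroup.centralizer ({x} : Set G) ∧ ⁅(L ⊔ L.map (MulAut.conj x).toMonoidHom) ⊓ Subgroup.centralizer ({x} : Set G), (L ⊔ L.map (MulAut.conj x).toMonoidHom) ⊓ Subgroup.centralizer ({x} : Set G)⁆ = π.range := by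
    have hxx : x * x = 1 := by
      have := pow_orderOf_eq_one x
      rwa [hx, pow_two] at this
    have hxi : x⁻¹ = x := inv_eq_of_mul_eq_one_right hxx
    set L' := L.map (MulAut.conj x).toMonoidHom with hL'
    have hc : ∀ a ∈ L, ∀ b ∈ L', a * b = b * a := fun a ha b hb => by
      have h := Subgroup.commutator_mem_commutator ha hb
      rw [hcomm, Subgroup.mem_bot, commutatorElement_eq_one_iff_mul_comm] at h
      exact h
    have hm : ∀ m ∈ L, x * m * x⁻¹ ∈ L' := fun m hm => ⟨m, hm, by simp⟩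
    let π : ↥L →* G :=
      { toFun := fun l => (l : G) * (x * (l : G) * x⁻¹)
        map_one' := by simp
        map_mul' := fun a b => by
          have h := hc b b.2 _ (hm a a.2)
          push_cast
          calc (a : G) * b * (x * (a * b) * x⁻¹) = a * ((b : G) * (x * a * x⁻¹)) * (x * b * x⁻¹) := by group
            _ = a * ((x * a * x⁻¹) * b) * (x * b * x⁻¹) := by rw [h]
            _ = _ := by group }
    have hπ : ∀ l : ↥L, π l = (l : G) * (x * (l : G) * x⁻¹) := fun l => rfl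
    have hrange : π.range ≤ Subgroup.centralizer ({x} : Set G) := by
      rintro _ ⟨l, rfl⟩
      refine Subgroup.mem_centralizer_singleton_iff.2 ?_
      have h := hc l l.2 _ (hm l l.2)
      rw [hπ]
      calc (l : G) * (x * l * x⁻¹) * x = (x * l * x⁻¹) * l * x := by rw [h]
        _ = x * ((l : G) * (x * l * x⁻¹)) := by rw [hxi]; group
    refine ⟨π, hπ, fun l hl => ?_, hrange, ?_⟩
    · rw [MonoidHom.mem_ker, hπ] at hl
      refine Subgroup.mem_center_iff.2 fun k => Subtype.ext ?_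
      have h := hc k k.2 _ (hm l⁻¹ (inv_mem l.2))
      have hl' : (l : G) = x * ((l⁻¹ : ↥L) : G) * x⁻¹ := by
        rw [eq_inv_of_mul_eq_one_left hl]; push_cast; group
      show (k : G) * l = l * k
      rw [hl']; exact h
    set J := (L ⊔ L') ⊓ Subgroup.centralizer ({x} : Set G) with hJ
    have hrJ : π.range ≤ J := by
      refine le_inf ?_ hrange
      rintro _ ⟨l, rfl⟩
      exact mul_mem (Subgroup.mem_sup_left l.2) (Subgroup.mem_sup_right (hm l l.2))
    have hperf' : ⁅π.range, π.range⁆ = π.range := by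
      have hLtop : ⁅(⊤ : Subgroup ↥L), (⊤ : Subgroup ↥L)⁆ = ⊤ := by
        apply Subgroup.map_injective L.subtype_injective
        rw [Subgroup.map_commutator, ← MonoidHom.range_eq_map, Subgroup.range_subtype]
        exact hperf
      rw [MonoidHom.range_eq_map, ← Subgroup.map_commutator, hLtop]
    have hdec : ∀ y ∈ J, ∃ r ∈ π.range, r⁻¹ * y ∈ Subgroup.centralizer ((L ⊔ L' : Subgroup G) : Set G) := by
      rintro y ⟨hy, hyx⟩
      obtain ⟨a, ha, b, hb, rfl⟩ := (Cfsg.Lib.Core.mem_sup_of_commute hcomm).1 hy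
      obtain ⟨m, hmL, rfl⟩ := hb
      simp only [MulEquiv.coe_toMonoidHom, MulAut.conj_apply] at hyx ⊢
      have hy2 := Subgroup.mem_centralizer_singleton_iff.1 hyx
      have e1 : a * (x * m * x⁻¹) = m * (x * a * x⁻¹) := by
        have := hc m hmL _ (hm a ha)
        calc a * (x * m * x⁻¹) = x * (a * (x * m * x⁻¹)) * x⁻¹ := by rw [← hy2]; group
          _ = (x * a * x⁻¹) * ((x * x) * m * (x * x)⁻¹) := by group
          _ = (x * a * x⁻¹) * m := by rw [hxx]; group
          _ = _ := this.symm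
      have hu : m⁻¹ * a = (x * a * x⁻¹) * (x * m * x⁻¹)⁻¹ := by
        calc m⁻¹ * a = m⁻¹ * (a * (x * m * x⁻¹)) * (x * m * x⁻¹)⁻¹ := by group
          _ = _ := by rw [e1]; group
      have huL : m⁻¹ * a ∈ L := mul_mem (inv_mem hmL) ha
      have huL' : m⁻¹ * a ∈ L' := by rw [hu]; exact mul_mem (hm a ha) (inv_mem (hm m hmL))
      refine ⟨π ⟨m, hmL⟩, ⟨_, rfl⟩, ?_⟩
      have e2 : (π ⟨m, hmL⟩)⁻¹ * (a * (x * m * x⁻¹)) = m⁻¹ * a := by
        have h1 := hc (m⁻¹ * a) huL _ (hm m hmL)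
        rw [hπ]
        calc (m * (x * m * x⁻¹))⁻¹ * (a * (x * m * x⁻¹)) = (x * m * x⁻¹)⁻¹ * ((m⁻¹ * a) * (x * m * x⁻¹)) := by group
          _ = (x * m * x⁻¹)⁻¹ * ((x * m * x⁻¹) * (m⁻¹ * a)) := by rw [h1]
          _ = _ := by group
      rw [e2]
      refine Subgroup.le_centralizer_iff.1 ?_ (Subgroup.mem_zpowers (m⁻¹ * a))
      refine sup_le (fun l hl => Subgroup.mem_centralizer_iff.2 fun z hz => ?_) (fun l hl => Subgroup.mem_centralizer_iff.2 fun z hz => ?_)
      · exact (hc l hl z (Subgroup.zpowers_le.2 huL' hz)).symm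
      · exact hc z (Subgroup.zpowers_le.2 huL hz) l hl
    refine le_antisymm (Subgroup.commutator_le.2 fun a ha b hb => ?_) (hperf'.ge.trans (Subgroup.commutator_mono hrJ hrJ))
    obtain ⟨r, hr, hu⟩ := hdec a ha
    obtain ⟨s, hs, hv⟩ := hdec b hb
    have hua := Subgroup.mem_centralizer_iff.1 hu
    have hvb := Subgroup.mem_centralizer_iff.1 hv
    have e : ⁅a, b⁆ = ⁅r, s⁆ := by
      have hs1 : s ∈ L ⊔ L' := (hrJ hs).1
      have hr1 : r ∈ L ⊔ L' := (hrJ hr).1
      have hb1 : b ∈ L ⊔ L' := hb.1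
      calc ⁅a, b⁆ = r * ((r⁻¹ * a) * b) * (r⁻¹ * a)⁻¹ * r⁻¹ * b⁻¹ := by rw [commutatorElement_def]; group
        _ = r * b * r⁻¹ * b⁻¹ := by rw [← hua b hb1]; group
        _ = r * s * ((s⁻¹ * b) * r⁻¹) * (s⁻¹ * b)⁻¹ * s⁻¹ := by group
        _ = r * s * r⁻¹ * s⁻¹ := by rw [← hvb r⁻¹ (inv_mem hr1)]; group
        _ = _ := (commutatorElement_def r s).symm
    rw [e]
    exact hperf'.le (Subgroup.commutator_mem_commutator hr hs)

end Cfsg.Agent.S1314
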