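import Cfsg.Statements.S1315
import Cfsg.Agent.Lib.Sig.IntrinsicPair.Square

set_option autoImplicit false
open Cfsg

namespace Cfsg.Agent.S1315

theorem intrinsic {G : Type*} [Group G] [Finite G] {J : Subgroup G} {z : G}
    (hz : z ∈ J ∧ orderOf z = 2 ∧ ∀ t ∈ J, orderOf t = 2 → t = z)
    (hJ : J ≤ Subgroup.centralizer ({z} : Set G) ∧
      Cfsg.IsPComponent 2 (J.subgroupOf (Subgroup.centralizer ({z} : Set G)))) :
    Lib.Sig.Intr.Intrinsic J z := by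
  obtain ⟨hm, ho, hu⟩ := hz
  refine ⟨hJ, hm, ?_, fun e => ?_, fun t ht e => ?_⟩
  · rw [← pow_two, ← ho, pow_orderOf_eq_one]
  · rw [e, orderOf_one] at ho; exact absurd ho (by decide)
  · by_cases h1 : t = 1
    · exact Or.inl h1
    · haveI : Fact (Nat.Prime 2) := ⟨Nat.prime_two⟩
      exact Or.inr (hu t ht (orderOf_eq_prime (by rw [pow_two]; exact e) h1))

theorem card_cover {H A : Type*} [Group H] [Group A] (h : Cfsg.IsNonsplitDoubleCover H A) :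
    Nat.card H = Nat.card A * 2 := by
  obtain ⟨hc, ⟨e⟩, -⟩ := h
  rw [Subgroup.card_eq_card_quotient_mul_card_subgroup (Subgroup.center H), hc, Nat.card_congr e.toEquiv]

theorem qcard_eq {G : Type*} [Group G] [Finite G] {J K : Subgroup G}
    (h : (∃ (F : Type) (_ : Field F) (_ : Fintype F), Odd (Fintype.card F) ∧ Nonempty (↥J ⧸ Cfsg.oddCore ↥J ≃* Matrix.SpecialLinearGroup (Fin 2) F) ∧ Nonempty (↥K ⧸ Cfsg.oddCore ↥K ≃* Matrix.SpecialLinearGroup (Fin 2) F)) ∨ (Cfsg.IsNonsplitDoubleCover (↥J ⧸ Cfsg.oddCore ↥J) ↥(alternatingGroup (Fin 7)) ∧ Cfsg.IsNonsplitDoubleCover (↥K ⧸ Cfsg.oddCore ↥K) ↥(alternatingGroup (Fin 7)))) :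
    Lib.Sig.Intr.qcard J = Lib.Sig.Intr.qcard K := by
  show Nat.card (↥J ⧸ Cfsg.oddCore ↥J) = Nat.card (↥K ⧸ Cfsg.oddCore ↥K)
  rcases h with ⟨F, _, _, -, ⟨e⟩, ⟨f⟩⟩ | ⟨hJ, hK⟩
  · exact (Nat.card_congr e.toEquiv).trans (Nat.card_congr f.toEquiv).symm
  · rw [card_cover hJ, card_cover hK]

/-- Let G be finite and J ≠ K subgroups, each containing exactly one involution, z(J) resp. z(K), each a 2-component of the centralizer of its involution, with J / O(J) and K / O(K) both isomorphic to SL(2, F) for one finite field F of odd order, or both non-split double covers of A7. Then (i) every 2-element of K of order at least 4 centralizing z(J) normalizes J; (ii) if z(J) normalizes K then z(K) normalizes J. -/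
theorem result {G : Type*} [Group G] [Finite G] (J K : Subgroup G) (hJK : J ≠ K) (zJ zK : G) (hzJ : zJ ∈ J ∧ orderOf zJ = 2 ∧ ∀ t ∈ J, orderOf t = 2 → t = zJ) (hzK : zK ∈ K ∧ orderOf zK = 2 ∧ ∀ t ∈ K, orderOf t = 2 → t = zK) (hJ : J ≤ Subgroup.centralizer ({zJ} : Set G) ∧ Cfsg.IsPComponent 2 (J.subgroupOf (Subgroup.centralizer ({zJ} : Set G)))) (hK : K ≤ Subgroup.centralizer ({zK} : Set G) ∧ Cfsg.IsPComponent 2 (K.subgroupOf (Subgroup.centralizer ({zK} : Set G)))) (htype : (∃ (F : Type) (_ : Field F) (_ : Fintype F), Odd (Fintype.card F) ∧ Nonempty (↥J ⧸ Cfsg.oddCore ↥J ≃* Matrix.SpecialLinearGroup (Fin 2) F) ∧ Nonempty (↥K ⧸ Cfsg.oddCore ↥K ≃* Matrix.SpecialLinearGroup (Fin 2) F)) ∨ (Cfsg.IsNonsplitDoubleCover (↥J ⧸ Cfsg.oddCore ↥J) ↥(alternatingGroup (Fin 7)) ∧ Cfsg.IsNonsplitDoubleCover (↥K ⧸ Cfsg.oddCore ↥K) ↥(alternatingGroup (Fin 7)))) : (∀ y ∈ K, IsPGroup 2 ↥(Subgroup.zpowers y) → 4 ≤ orderOf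 y → y * zJ = zJ * y → y ∈ Subgroup.normalizer (J : Set G)) ∧ (zJ ∈ Subgroup.normalizer (K : Set G) → zK ∈ Subgroup.normalizer (J : Set G)) := by
  have iJ : Lib.Sig.Intr.Intrinsic J zJ := intrinsic hzJ hJ
  have iK : Lib.Sig.Intr.Intrinsic K zK := intrinsic hzK hK
  by_cases hz : zJ = zK
  · subst hz
    exact ⟨fun y hy _ _ _ => iJ.comp.normalize iK.comp hy,
      fun _ => Subgroup.le_normalizer iJ.mem⟩
  have hP : Lib.Sig.Intr.Pair J K zJ zK := ⟨iJ, iK, qcard_eq htype, hz⟩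
  refine ⟨fun y hy hy2 h4 hyz => hP.norm_one hy ?_ h4 hyz, hP.norm_two⟩
  exact Lib.Sig.Intr.twoEl_of_mem hy2 (Subgroup.mem_zpowers y)

end Cfsg.Agent.S1315
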