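import Cfsg.Statements.S1316
import Cfsg.Agent.Lib.Core.Layer

set_option autoImplicit false
open Cfsg

namespace Cfsg.Agent.S1316

/-- For a finite group X, E(X) equals the intersection of the derived series of F*(X) (its last term). -/
theorem result {X : Type*} [Group X] [Finite X] : (⨅ n : ℕ, (derivedSeries ↥(Cfsg.generalizedFittingSubgroup X) n).map (Cfsg.generalizedFittingSubgroup X).subtype) = Cfsg.layer X := by
    set S := Cfsg.generalizedFittingSubgroup X with hS
    set E := Cfsg.layer X with hE
    set F := Cfsg.fittingSubgroup X with hF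
    have hEn : E.Normal := ⟨fun x hx g => Cfsg.Lib.Core.map_layer_le_of_equiv (MulAut.conj g) ⟨x, hx, rfl⟩⟩
    let D : ℕ → Subgroup X := fun n => (derivedSeries ↥S n).map S.subtype
    let FD : ℕ → Subgroup X := fun n => (derivedSeries ↥F n).map F.subtype
    have hDs : ∀ n, D (n + 1) = ⁅D n, D n⁆ := fun n => by simp [D, Subgroup.map_commutator]
    have hFs : ∀ n, FD (n + 1) = ⁅FD n, FD n⁆ := fun n => by simp [FD, Subgroup.map_commutator]
    have hD0 : D 0 = S := by simp [D, ← MonoidHom.range_eq_map]
    have hF0 : FD 0 = F := by simp [FD, ← MonoidHom.range_eq_map]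
    refine le_antisymm ?_ (le_iInf fun n => ?_)
    · set f := QuotientGroup.mk' E with hf
      have hmap : ∀ n, (D n).map f ≤ (FD n).map f := by
        intro n
        induction n with
        | zero =>
          rw [hD0, hF0, hS, Cfsg.generalizedFittingSubgroup, Subgroup.map_sup,
            show (Cfsg.layer X).map f = ⊥ from by rw [Subgroup.map_eq_bot_iff, hf, QuotientGroup.ker_mk']]
          exact sup_le bot_le le_rfl
        | succ n ih =>
          rw [hDs, hFs, Subgroup.map_commutator, Subgroup.map_commutator]
          exact Subgroup.commutator_mono ih ih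
      have := Cfsg.Lib.Core.fittingSubgroup_isNilpotent X
      obtain ⟨N, hN⟩ := (Group.isSolvable_def (G := ↥F)).1 inferInstance
      refine iInf_le_of_le N ?_
      have h := hmap N
      rw [show FD N = ⊥ from by simp [FD, hN], Subgroup.map_bot, le_bot_iff, Subgroup.map_eq_bot_iff, hf, QuotientGroup.ker_mk'] at h
      exact h
    · show E ≤ D n
      induction n with
      | zero => rw [hD0]; exact Cfsg.Lib.Core.layer_le_generalizedFitting
      | succ n ih => rw [hDs]; exact Cfsg.Lib.Core.layer_perfect.ge.trans (Subgroup.commutator_mono ih ih)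

end Cfsg.Agent.S1316
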