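import Cfsg.Statements.S1319
import Cfsg.Agent.Lib.Core.Layer

set_option autoImplicit false
open Cfsg

namespace Cfsg.Agent.S1319

/-- Let A be a subnormal subgroup of the finite group X with E(A) = A. Then A ≤ E(X) and A is normal in E(X). -/
theorem result {X : Type*} [Group X] [Finite X] (A : Subgroup X) (hsn : A.IsSubnormal) (hA : Cfsg.layer ↥A = ⊤) : A ≤ Cfsg.layer X ∧ (A.subgroupOf (Cfsg.layer X)).Normal := by
  have hmap : A = sSup {L : Subgroup X | Cfsg.IsComponent L ∧ L ≤ A} := by
    rw [← Cfsg.Lib.Core.layer_map_eq_of_isSubnormal hsn, hA, ← MonoidHom.range_eq_map,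
      Subgroup.range_subtype]
  have hle : A ≤ Cfsg.layer X := by
    rw [hmap]; exact sSup_le fun L hL => Cfsg.Lib.Core.le_layer hL.1
  refine ⟨hle, (Subgroup.normal_subgroupOf_iff_le_normalizer hle).2 ?_⟩
  rw [hmap]
  exact sSup_le fun K hK => Cfsg.Lib.Core.sSup_components_le_normalizer
    fun L hL => Cfsg.Lib.Core.component_le_normalizer hK hL.1

end Cfsg.Agent.S1319
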