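import Cfsg.Statements.S1321
import Cfsg.Agent.Lib.Core.Layer

set_option autoImplicit false
open Cfsg
open scoped commutatorElement

namespace Cfsg.Agent.S1321

/-- Let X be finite and U ≤ X. Then E(X) is generated by C_{E(X)}(U) together with ⁅E(X), U⁆ (indeed it is their product, ⁅E(X), U⁆ being normal in E(X)). -/
theorem result {X : Type*} [Group X] [Finite X] (U : Subgroup X) : Cfsg.layer X = (Cfsg.layer X ⊓ Subgroup.centralizer (U : Set X)) ⊔ ⁅Cfsg.layer X, U⁆ ∧ ⁅Cfsg.layer X, U⁆ ≤ Cfsg.layer X := by
    have hEn : (Cfsg.layer X).Normal := inferInstance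
    have hle : ⁅Cfsg.layer X, U⁆ ≤ Cfsg.layer X := Subgroup.commutator_le_left _ _
    refine ⟨le_antisymm (sSup_le fun L hL => ?_) (sup_le inf_le_left hle), hle⟩
    set M := ⁅Cfsg.layer X, U⁆ with hM
    have hnorm : Cfsg.layer X ≤ Subgroup.normalizer (M : Set X) := by
      intro e he
      have key : ∀ e ∈ Cfsg.layer X, M ≤ M.comap (MulAut.conj e).toMonoidHom := by
        intro e he
        refine Subgroup.commutator_le.2 fun a ha u hu => ?_
        show e * ⁅a, u⁆ * e⁻¹ ∈ M
        have h : e * ⁅a, u⁆ * e⁻¹ = ⁅e * a, u⁆ * ⁅e, u⁆⁻¹ := by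
          simp only [commutatorElement_def]; group
        rw [h]
        exact mul_mem (Subgroup.commutator_mem_commutator (mul_mem he ha) hu) (inv_mem (Subgroup.commutator_mem_commutator he hu))
      refine Subgroup.mem_normalizer_iff.2 fun x => ⟨fun hx => key e he hx, fun hx => ?_⟩
      have := key e⁻¹ (inv_mem he) hx
      simpa [mul_assoc] using this
    have hMsn : M.IsSubnormal := Subgroup.IsSubnormal.trans hle ((Subgroup.normal_subgroupOf_iff_le_normalizer hle).2 hnorm).isSubnormal hEn.isSubnormal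
    rcases Cfsg.Lib.Core.component_le_or_commute hL hMsn with h | h
    · exact le_sup_of_le_right h
    · refine le_sup_of_le_left (le_inf (Cfsg.Lib.Core.le_layer hL) (Subgroup.commutator_eq_bot_iff_le_centralizer.1 ?_))
      rw [Subgroup.commutator_comm]
      refine Cfsg.Lib.Core.commutator_eq_bot_of_perfect (Cfsg.Lib.Core.IsComponent.commutator_eq hL) (le_bot_iff.1 ?_)
      refine (Subgroup.commutator_mono ((Subgroup.commutator_comm U L).le.trans (Subgroup.commutator_mono (Cfsg.Lib.Core.le_layer hL) le_rfl)) le_rfl).trans ?_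
      rw [Subgroup.commutator_comm, h]

end Cfsg.Agent.S1321
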