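import Cfsg.Statements.S1323
import Cfsg.Agent.Lib.Core.Layer
import Mathlib.GroupTheory.SpecificGroups.Alternating.Simple

set_option autoImplicit false
open Cfsg

namespace Cfsg.Agent.S1323

open Equiv Equiv.Perm
open scoped commutatorElement

/-- Nonabelian simple groups are quasisimple. -/
theorem isQuasisimple_of_simple {K : Type*} [Group K] [IsSimpleGroup K] {a b : K}
    (hab : a * b ≠ b * a) : Cfsg.IsQuasisimple K := by
  have hcomm : commutator K = ⊤ := by
    rcases IsSimpleGroup.eq_bot_or_eq_top_of_normal (commutator K) inferInstance with h | h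
    · refine absurd ?_ hab
      have hm : ⁅a, b⁆ ∈ commutator K :=
        Subgroup.commutator_mem_commutator (Subgroup.mem_top a) (Subgroup.mem_top b)
      rw [h, Subgroup.mem_bot, commutatorElement_eq_one_iff_mul_comm] at hm
      exact hm
    · exact h
  have hcent : Subgroup.center K = ⊥ := by
    rcases IsSimpleGroup.eq_bot_or_eq_top_of_normal (Subgroup.center K) inferInstance with h | h
    · exact h
    · exact absurd ((Subgroup.mem_center_iff.1 (h ▸ Subgroup.mem_top b) a)) hab
  refine ⟨⟨hcomm⟩, ?_⟩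
  have e : (K ⧸ Subgroup.center K) ≃* K :=
    (QuotientGroup.quotientMulEquivOfEq hcent).trans QuotientGroup.quotientBot
  exact MulEquiv.isSimpleGroup e

variable {n : ℕ}

theorem val_fixed {σ τ : ↥(alternatingGroup (Fin n))} (h : σ * τ = τ * σ) (x : Fin n) :
    (σ : Perm (Fin n)) ((τ : Perm (Fin n)) x) = (τ : Perm (Fin n)) ((σ : Perm (Fin n)) x) := by
  simpa using congrArg (fun w : ↥(alternatingGroup (Fin n)) => (w : Perm (Fin n)) x) h

theorem main (n : ℕ) (hn : 9 ≤ n) (L : Subgroup ↥(alternatingGroup (Fin n)))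
    (hL : ∀ σ : ↥(alternatingGroup (Fin n)),
      σ ∈ L ↔ ∀ x : Fin n, (x : ℕ) < 4 → (σ : Perm (Fin n)) x = x) :
    Cfsg.IsStandardSubgroup L := by
  classical
  let P : Fin n → Prop := fun x => 4 ≤ (x : ℕ)
  have p4 : ∀ m, 4 ≤ m → ∀ h : m < n, P ⟨m, h⟩ := fun m hm _ => hm
  -- three-cycles in `L`
  have hcyc : ∀ x a b : Fin n, P x → P a → P b → ∃ c ∈ L,
      ((c : ↥(alternatingGroup (Fin n))) : Perm (Fin n)) = swap x a * swap x b ∨ x = a ∨ x = b := by
    intro x a b hx ha hb
    by_cases hxa : x = a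
    · exact ⟨1, one_mem _, Or.inr (Or.inl hxa)⟩
    by_cases hxb : x = b
    · exact ⟨1, one_mem _, Or.inr (Or.inr hxb)⟩
    refine ⟨⟨swap x a * swap x b, ?_⟩, (hL _).2 fun y hy => ?_, Or.inl rfl⟩
    · rw [mem_alternatingGroup, map_mul, sign_swap hxa, sign_swap hxb]; rfl
    · have h1 : y ≠ x := fun e => by subst e; exact absurd hx (by simp [P]; omega)
      have h2 : y ≠ a := fun e => by subst e; exact absurd ha (by simp [P]; omega)
      have h3 : y ≠ b := fun e => by subst e; exact absurd hb (by simp [P]; omega)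
      simp [swap_apply_of_ne_of_ne h1 h3, swap_apply_of_ne_of_ne h1 h2]
  -- the centralizer
  have hC : ∀ σ : ↥(alternatingGroup (Fin n)), σ ∈ Subgroup.centralizer (L : Set _) ↔
      ∀ x, P x → (σ : Perm (Fin n)) x = x := by
    intro σ
    refine ⟨fun hσ x hx => ?_, fun hσ => Subgroup.mem_centralizer_iff.2 fun τ hτ => Subtype.ext ?_⟩
    · have key : ∀ a b : Fin n, P a → P b → x ≠ a → x ≠ b → a ≠ b →
          (σ : Perm (Fin n)) x = x ∨ (σ : Perm (Fin n)) x = a ∨ (σ : Perm (Fin n)) x = b := by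
        intro a b ha hb hxa hxb hab
        obtain ⟨c, hc, h | h | h⟩ := hcyc x a b hx ha hb
        · by_contra hne
          push Not at hne
          have h1 := val_fixed (Subgroup.mem_centralizer_iff.1 hσ c hc) x
          rw [h] at h1
          simp only [Perm.mul_apply, swap_apply_left] at h1
          rw [swap_apply_of_ne_of_ne hne.1 hne.2.2, swap_apply_of_ne_of_ne hne.1 hne.2.1,
            swap_apply_of_ne_of_ne (Ne.symm hxb) (Ne.symm hab)] at h1
          exact hxb ((σ : Perm (Fin n)).injective h1)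
        · exact absurd h hxa
        · exact absurd h hxb
      have hv : ∀ m, 4 ≤ m → ∀ h : m < n, P ⟨m, h⟩ := p4
      obtain ⟨a, b, c, d, ha, hb, hc, hd, h1, h2, h3, h4, h5, h6, h7, h8, h9, h10⟩ :
          ∃ a b c d : Fin n, P a ∧ P b ∧ P c ∧ P d ∧ x ≠ a ∧ x ≠ b ∧ x ≠ c ∧ x ≠ d ∧
            a ≠ b ∧ a ≠ c ∧ a ≠ d ∧ b ≠ c ∧ b ≠ d ∧ c ≠ d := by
        let i : ℕ → Fin n := fun k => if k + 4 < (x : ℕ) then ⟨(k + 4) % n, Nat.mod_lt _ (by omega)⟩
          else ⟨(k + 5) % n, Nat.mod_lt _ (by omega)⟩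
        have hi : ∀ k < 4, (i k : ℕ) = if k + 4 < (x : ℕ) then k + 4 else k + 5 := by
          intro k hk
          simp only [i]
          split <;> simp <;> rw [Nat.mod_eq_of_lt] <;> omega
        refine ⟨i 0, i 1, i 2, i 3, ?_⟩
        simp only [P, ne_eq, Fin.ext_iff, hi 0 (by omega), hi 1 (by omega), hi 2 (by omega),
          hi 3 (by omega)]
        split_ifs <;> omega
      rcases key a b ha hb h1 h2 h5 with e | e | e
      · exact e
      all_goals
        rcases key c d hc hd h3 h4 h10 with e' | e' | e'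
        · exact e'
        all_goals
          rw [e] at e'
          simp_all
    · show (τ : Perm (Fin n)) * (σ : Perm (Fin n)) = σ * τ
      refine (Equiv.Perm.Disjoint.commute fun y => ?_).eq
      by_cases hy : P y
      · exact Or.inr (hσ y hy)
      · exact Or.inl ((hL τ).1 hτ y (Nat.lt_of_not_le hy))
  -- the product of two disjoint transpositions
  let f : ℕ → Fin n := fun i => ⟨i % n, Nat.mod_lt _ (by omega)⟩
  have hf : ∀ i < 4, (f i : ℕ) = i := fun i hi => Nat.mod_eq_of_lt (by omega)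
  have hfne : ∀ i < 4, ∀ j < 4, i ≠ j → f i ≠ f j := fun i hi j hj h e =>
    h (by rw [← hf i hi, ← hf j hj, e])
  let k : ↥(alternatingGroup (Fin n)) := ⟨swap (f 0) (f 1) * swap (f 2) (f 3), by
    rw [mem_alternatingGroup, map_mul, sign_swap (hfne 0 (by omega) 1 (by omega) (by omega)),
      sign_swap (hfne 2 (by omega) 3 (by omega) (by omega))]; rfl⟩
  have hkC : k ∈ Subgroup.centralizer (L : Set _) := (hC k).2 fun x hx => by
    have h : ∀ i < 4, x ≠ f i := fun i hi e => by
      have : 4 ≤ (f i : ℕ) := e ▸ hx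
      rw [hf i hi] at this; omega
    show swap (f 0) (f 1) (swap (f 2) (f 3) x) = x
    rw [swap_apply_of_ne_of_ne (h 2 (by omega)) (h 3 (by omega)),
      swap_apply_of_ne_of_ne (h 0 (by omega)) (h 1 (by omega))]
  have hkx : ∀ x : Fin n, ¬ P x → (k : Perm (Fin n)) x ≠ x := by
    intro x hx
    have hx4 : (x : ℕ) < 4 := Nat.lt_of_not_le hx
    have hxf : x = f x := Fin.ext (hf _ hx4).symm
    have n01 := hfne 0 (by omega) 1 (by omega) (by omega)
    have n23 := hfne 2 (by omega) 3 (by omega) (by omega)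
    have n02 := hfne 0 (by omega) 2 (by omega) (by omega)
    have n03 := hfne 0 (by omega) 3 (by omega) (by omega)
    have n12 := hfne 1 (by omega) 2 (by omega) (by omega)
    have n13 := hfne 1 (by omega) 3 (by omega) (by omega)
    show swap (f 0) (f 1) (swap (f 2) (f 3) x) ≠ x
    rw [hxf]
    obtain h | h | h | h : (x : ℕ) = 0 ∨ (x : ℕ) = 1 ∨ (x : ℕ) = 2 ∨ (x : ℕ) = 3 := by omega
    all_goals rw [h]
    · rw [swap_apply_of_ne_of_ne n02 n03, swap_apply_left]; exact n01.symm
    · rw [swap_apply_of_ne_of_ne n12 n13, swap_apply_right]; exact n01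
    · rw [swap_apply_left, swap_apply_of_ne_of_ne n03.symm n13.symm]; exact n23.symm
    · rw [swap_apply_right, swap_apply_of_ne_of_ne n02.symm n12.symm]; exact n23
  -- an element moving a conjugate of `k` within the centralizer preserves the four points
  have hsub : ∀ g w : ↥(alternatingGroup (Fin n)), (∀ x, ¬ P x → (w : Perm (Fin n)) x ≠ x) →
      g * w * g⁻¹ ∈ Subgroup.centralizer (L : Set _) →
      ∀ x : Fin n, ¬ P x → ¬ P ((g : Perm (Fin n)) x) := by
    intro g w hw hg x hx hgx
    have h := (hC _).1 hg _ hgx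
    simp only [Subgroup.coe_mul, Subgroup.coe_inv, Perm.mul_apply, Perm.coe_inv,
      Equiv.symm_apply_apply] at h
    exact hw x hx ((g : Perm (Fin n)).injective h)
  have hnorm : ∀ g : ↥(alternatingGroup (Fin n)),
      (∀ x, ¬ P x → ¬ P ((g : Perm (Fin n)) x)) → g ∈ Subgroup.normalizer (L : Set _) := by
    intro g hg τ
    have hsurj : ∀ y, ¬ P y → ∃ x, ¬ P x ∧ (g : Perm (Fin n)) x = y := by
      intro y hy
      obtain ⟨⟨x, hx⟩, e⟩ := (Finite.injective_iff_surjective.1
        (show Function.Injective (fun x : {x : Fin n // ¬ P x} =>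
            (⟨(g : Perm (Fin n)) x, hg x x.2⟩ : {x : Fin n // ¬ P x})) from
          fun a b h => Subtype.ext ((g : Perm (Fin n)).injective (congrArg Subtype.val h)))) ⟨y, hy⟩
      exact ⟨x, hx, congrArg Subtype.val e⟩
    simp only [SetLike.mem_coe]
    rw [hL, hL]
    refine ⟨fun hτ y hy => ?_, fun hτ x hx => ?_⟩
    · obtain ⟨x, hx, rfl⟩ := hsurj y (by simp only [P]; omega)
      simp [hτ x (Nat.lt_of_not_le hx)]
    · have h := hτ _ (Nat.lt_of_not_le (hg x (by simp only [P]; omega)))
      simpa using h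
  have hNC : ∀ g : ↥(alternatingGroup (Fin n)), g ∈ Subgroup.normalizer ((Subgroup.centralizer (L : Set ↥(alternatingGroup (Fin n))) : Subgroup ↥(alternatingGroup (Fin n))) : Set ↥(alternatingGroup (Fin n))) →
      g ∈ Subgroup.normalizer (L : Set ↥(alternatingGroup (Fin n))) := fun g hg =>
    hnorm g (hsub g k hkx ((Subgroup.mem_normalizer_iff.1 hg k).1 hkC))
  have hLN : ∀ g : ↥(alternatingGroup (Fin n)), g ∈ Subgroup.normalizer (L : Set ↥(alternatingGroup (Fin n))) →
      g ∈ Subgroup.normalizer ((Subgroup.centralizer (L : Set ↥(alternatingGroup (Fin n))) : Subgroup ↥(alternatingGroup (Fin n))) : Set ↥(alternatingGroup (Fin n))) := by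
    intro g hg σ
    simp only [SetLike.mem_coe, Subgroup.mem_centralizer_iff]
    refine ⟨fun h τ hτ => ?_, fun h τ hτ => ?_⟩
    · have h' := h (g⁻¹ * τ * g) ((Subgroup.mem_normalizer_iff''.1 hg τ).1 hτ)
      calc τ * (g * σ * g⁻¹) = g * ((g⁻¹ * τ * g) * σ) * g⁻¹ := by group
        _ = g * σ * g⁻¹ * τ := by rw [h']; group
    · have h' := h (g * τ * g⁻¹) ((Subgroup.mem_normalizer_iff.1 hg τ).1 hτ)
      calc τ * σ = g⁻¹ * ((g * τ * g⁻¹) * (g * σ * g⁻¹)) * g := by group
        _ = σ * τ := by rw [h']; group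
  refine ⟨?_, ⟨?_, fun g hg => ?_⟩, fun g _ hbot => ?_, ?_⟩
  · let e : ↥(alternatingGroup {x : Fin n // P x}) →* ↥L :=
      { toFun := fun s => ⟨⟨ofSubtype (s : Perm {x : Fin n // P x}), by
            rw [mem_alternatingGroup, sign_ofSubtype]; exact mem_alternatingGroup.1 s.2⟩,
          (hL _).2 fun x hx => ofSubtype_apply_of_not_mem _ (by simp only [P]; omega)⟩
        map_one' := Subtype.ext (Subtype.ext (map_one _))
        map_mul' := fun s t => Subtype.ext (Subtype.ext (map_mul _ _ _)) }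
    have he : Function.Bijective e := by
      refine ⟨fun s t h => Subtype.ext (Equiv.Perm.ofSubtype_injective
        (congrArg (fun w : ↥L => ((w : ↥(alternatingGroup (Fin n))) : Perm (Fin n))) h)), ?_⟩
      rintro ⟨⟨σ, hσ⟩, hσL⟩
      have hfix := (hL _).1 hσL
      have h₁ : ∀ x, P (σ x) ↔ P x := fun x => by
        refine ⟨fun h => ?_, fun h => ?_⟩
        · by_contra hx
          exact hx (by rwa [hfix x (Nat.lt_of_not_le hx)] at h)
        · by_contra hx
          have := σ.injective (hfix _ (Nat.lt_of_not_le hx))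
          exact hx (this.symm ▸ h)
      have h₂ : ∀ x, σ x ≠ x → P x := fun x hx => by
        by_contra h
        exact hx (hfix x (Nat.lt_of_not_le h))
      refine ⟨⟨subtypePerm σ h₁, ?_⟩, Subtype.ext (Subtype.ext ?_)⟩
      · rw [mem_alternatingGroup, sign_subtypePerm _ _ h₂]; exact mem_alternatingGroup.1 hσ
      · exact ofSubtype_subtypePerm h₁ h₂
    have hcard : 5 ≤ Nat.card {x : Fin n // P x} := by
      refine le_of_eq_of_le (Nat.card_fin 5).symm (Nat.card_le_card_of_injective
        (fun i : Fin 5 => (⟨⟨(i : ℕ) + 4, by omega⟩, p4 _ (by omega) _⟩ : {x : Fin n // P x})) ?_)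
      intro i j h
      simp only [Subtype.mk.injEq, Fin.mk.injEq] at h
      exact Fin.ext (by omega)
    haveI := alternatingGroup.isSimpleGroup hcard
    haveI : IsSimpleGroup ↥L := MulEquiv.isSimpleGroup (MulEquiv.ofBijective e he).symm
    obtain ⟨c, hc, h⟩ := hcyc ⟨4, by omega⟩ ⟨5, by omega⟩ ⟨6, by omega⟩ (p4 _ (by omega) _)
      (p4 _ (by omega) _) (p4 _ (by omega) _)
    obtain ⟨d, hd, h'⟩ := hcyc ⟨4, by omega⟩ ⟨7, by omega⟩ ⟨8, by omega⟩ (p4 _ (by omega) _)
      (p4 _ (by omega) _) (p4 _ (by omega) _)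
    simp only [Fin.mk.injEq, Nat.reduceEqDiff, or_false] at h h'
    refine isQuasisimple_of_simple (a := (⟨c, hc⟩ : ↥L)) (b := ⟨d, hd⟩) fun e => ?_
    have e2 := congrArg (fun w : ↥L => (((w : ↥(alternatingGroup (Fin n))) : Perm (Fin n))
      ⟨4, by omega⟩ : Fin n)) e
    simp [h, h', swap_apply_def, Fin.ext_iff] at e2
  · refine (even_iff_two_dvd.2 ?_)
    have hk1 : k ≠ 1 := fun e => by
      have := hkx (f 0) (by simp only [P, hf 0 (by omega)]; omega)
      exact this (by rw [e]; rfl)
    have hk2 : k ^ 2 = 1 := by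
      apply Subtype.ext
      have n02 := hfne 0 (by omega) 2 (by omega) (by omega)
      have n03 := hfne 0 (by omega) 3 (by omega) (by omega)
      have n12 := hfne 1 (by omega) 2 (by omega) (by omega)
      have n13 := hfne 1 (by omega) 3 (by omega) (by omega)
      have hd : Equiv.Perm.Disjoint (swap (f 0) (f 1)) (swap (f 2) (f 3)) := fun y => by
        by_cases h0 : y = f 0
        · subst h0; exact Or.inr (swap_apply_of_ne_of_ne n02 n03)
        by_cases h1 : y = f 1
        · subst h1; exact Or.inr (swap_apply_of_ne_of_ne n12 n13)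
        exact Or.inl (swap_apply_of_ne_of_ne h0 h1)
      show (swap (f 0) (f 1) * swap (f 2) (f 3)) ^ 2 = 1
      rw [hd.commute.mul_pow, pow_two, pow_two, swap_mul_self, swap_mul_self, one_mul]
    have h := Subgroup.orderOf_dvd_natCard _ hkC
    rwa [orderOf_eq_prime hk2 hk1] at h
  · by_contra hodd
    rw [Nat.not_odd_iff_even, even_iff_two_dvd] at hodd
    haveI : Fact (Nat.Prime 2) := ⟨Nat.prime_two⟩
    obtain ⟨⟨y, hy1, hy2⟩, hyo⟩ := exists_prime_orderOf_dvd_card' 2 hodd
    obtain ⟨w, hwC, hwy⟩ := hy2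
    have hwy' : g * w * g⁻¹ = y := hwy
    have hwo : orderOf w = 2 := by
      rw [← MulEquiv.orderOf_eq (MulAut.conj g) w, MulAut.conj_apply, hwy', ← hyo]
      exact (Subgroup.orderOf_mk _ _).symm
    have hwo' : orderOf (w : Perm (Fin n)) = 2 := by rw [Subgroup.orderOf_coe]; exact hwo
    have hwfix := (hC w).1 hwC
    let Fs : Finset (Fin n) := Finset.univ.filter fun x => ¬ P x
    have hFs : Fs.card ≤ 4 := by
      refine le_trans (Finset.card_le_card_of_injOn (t := Finset.range 4) (fun x : Fin n => (x : ℕ))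
        (fun x hx => by simp [Fs, P] at hx ⊢; omega) fun a _ b _ h => Fin.ext h) (by simp)
    have hsupp : (w : Perm (Fin n)).support ⊆ Fs := fun x hx => by
      simp only [Fs, Finset.mem_filter, Finset.mem_univ, true_and]
      exact fun h => (mem_support.1 hx) (hwfix x h)
    obtain ⟨m, hm⟩ := cycleType_prime_order (σ := (w : Perm (Fin n))) (by rw [hwo']; exact Nat.prime_two)
    rw [hwo'] at hm
    have hsum := sum_cycleType (w : Perm (Fin n))
    rw [hm, Multiset.sum_replicate, smul_eq_mul] at hsum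
    have hsign := sign_of_cycleType (w : Perm (Fin n))
    rw [hm, Multiset.sum_replicate, Multiset.card_replicate, smul_eq_mul,
      mem_alternatingGroup.1 w.2] at hsign
    have hm1 : m = 1 := by
      have hle := (Finset.card_le_card hsupp).trans hFs
      rcases Nat.eq_zero_or_pos m with h | h
      · subst h; exact absurd hsign (by decide)
      · omega
    subst hm1
    have heq : (w : Perm (Fin n)).support = Fs :=
      Finset.eq_of_subset_of_card_le hsupp (by omega)
    refine hg (hLN g (hnorm g (hsub g w (fun x hx => mem_support.1 (heq ▸ by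
      simp [Fs, hx])) ?_)))
    rw [hwy']; exact hy1
  · -- a conjugate of `L` never commutes with `L`
    have hle := Subgroup.commutator_eq_bot_iff_le_centralizer.1
      ((Subgroup.commutator_comm _ _).trans hbot)
    have hmaps : ∀ x : Fin n, P x → ¬ P ((g : Perm (Fin n)) x) := by
      intro x hx hgx
      obtain ⟨a, b, ha, hb, h1, h2, h3⟩ : ∃ a b : Fin n, P a ∧ P b ∧ x ≠ a ∧ x ≠ b ∧ a ≠ b := by
        by_cases h1 : (x : ℕ) = 4
        · exact ⟨⟨5, by omega⟩, ⟨6, by omega⟩, p4 _ (by omega) _, p4 _ (by omega) _,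
            by simp [Fin.ext_iff]; omega, by simp [Fin.ext_iff]; omega, by simp [Fin.ext_iff]⟩
        by_cases h2 : (x : ℕ) = 5
        · exact ⟨⟨4, by omega⟩, ⟨6, by omega⟩, p4 _ (by omega) _, p4 _ (by omega) _,
            by simp [Fin.ext_iff]; omega, by simp [Fin.ext_iff]; omega, by simp [Fin.ext_iff]⟩
        exact ⟨⟨4, by omega⟩, ⟨5, by omega⟩, p4 _ (by omega) _, p4 _ (by omega) _,
            by simp [Fin.ext_iff]; omega, by simp [Fin.ext_iff]; omega, by simp [Fin.ext_iff]⟩
      obtain ⟨c, hc, h⟩ := hcyc x a b hx ha hb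
      simp only [h1, h2, or_false] at h
      have hcg : g * c * g⁻¹ ∈ Subgroup.centralizer (L : Set _) := hle ⟨c, hc, rfl⟩
      have hfix := (hC _).1 hcg _ hgx
      simp only [Subgroup.coe_mul, Subgroup.coe_inv, Perm.mul_apply, Perm.coe_inv,
        Equiv.symm_apply_apply, h] at hfix
      have := (g : Perm (Fin n)).injective hfix
      simp [swap_apply_def, h1, h2, h3, h3.symm, h1.symm, h2.symm] at this
    have hcard := Nat.card_le_card_of_injective
      (fun i : Fin 5 => (⟨(((g : Perm (Fin n)) ⟨(i : ℕ) + 4, by omega⟩ : Fin n) : ℕ),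
        Nat.lt_of_not_le (hmaps _ (p4 _ (by omega) _))⟩ : Fin 4)) (by
        intro i j h
        have h' : ((g : Perm (Fin n)) ⟨(i : ℕ) + 4, by omega⟩) = (g : Perm (Fin n)) ⟨(j : ℕ) + 4, by omega⟩ :=
          Fin.ext (congrArg Fin.val h :)
        have := Fin.ext_iff.1 ((g : Perm (Fin n)).injective h')
        exact Fin.ext (by simpa using this))
    simp [Nat.card_fin] at hcard
  · exact le_antisymm hLN hNC

/-- For n ≥ 9, the subgroup of the alternating group on Fin n fixing each of the points 0, 1, 2, 3 is a standard subgroup. -/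
theorem result (n : ℕ) (h4 : 4 ≤ n) (hn : 9 ≤ n) : Cfsg.IsStandardSubgroup (⨅ i : Fin 4, MulAction.stabilizer ↥(alternatingGroup (Fin n)) (Fin.castLE h4 i : Fin n)) := by
    classical
    exact main n hn _ fun σ => by
      simp only [Subgroup.mem_iInf, MulAction.mem_stabilizer_iff]
      exact ⟨fun h x hx => h ⟨x, hx⟩, fun h i => h _ i.2⟩

end Cfsg.Agent.S1323
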