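import Cfsg.Statements.S1324
import Cfsg.Agent.Lib.Coprime.Generation
import Cfsg.Agent.Lib.Core.Basic

set_option autoImplicit false
open Cfsg

namespace Cfsg.Agent.S1324

/-- Let A be a noncyclic elementary abelian p-subgroup of a finite group H normalizing a subgroup X of order prime to p. Then X is generated by the subgroups X ∩ C_H(B), B ranging over the subgroups of A of index at most p. -/
theorem result {H : Type*} [Group H] [Finite H] (p : ℕ) [Fact p.Prime] (A X : Subgroup H) (hA : Cfsg.IsElementaryAbelian p A) (hA2 : p ^ 2 ≤ Nat.card ↥A) (hX : ¬ p ∣ Nat.card ↥X) (hAX : A ≤ Subgroup.normalizer (X : Set H)) : X = ⨆ B : {B : Subgroup H // B ≤ A ∧ B.relIndex A ≤ p}, X ⊓ Subgroup.centralizer ((B : Subgroup H) : Set H) := by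
    have := hA.1
    obtain ⟨k, hk⟩ : ∃ k, Nat.card ↥A = p ^ k := IsPGroup.iff_card.mp (fun a => ⟨1, Subtype.ext (by simpa using hA.2 a a.2)⟩)
    have hcop : (Nat.card ↥A).Coprime (Nat.card ↥X) := by
      rw [hk]; exact Nat.Coprime.pow_left _ ((Fact.out : p.Prime).coprime_iff_not_dvd.2 hX)
    refine le_antisymm ?_ (iSup_le fun B => inf_le_left)
    refine (Cfsg.Lib.Coprime.le_iSup_centralizer_cocyclic X hAX hcop).trans (iSup₂_le fun B hB => ?_)
    obtain ⟨hBA, a, ha, hsup⟩ := hB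
    refine le_iSup (fun B : {B : Subgroup H // B ≤ A ∧ B.relIndex A ≤ p} =>
      X ⊓ Subgroup.centralizer ((B : Subgroup H) : Set H)) ⟨B, hBA, ?_⟩
    refine Nat.le_of_mul_le_mul_left ?_ (Nat.card_pos (α := ↥B))
    rw [← Subgroup.relIndex_bot_left, Subgroup.relIndex_mul_relIndex _ _ _ bot_le hBA, Subgroup.relIndex_bot_left, Subgroup.relIndex_bot_left]
    have hc : ⁅B, Subgroup.zpowers a⁆ = ⊥ := Cfsg.Lib.Core.commutator_eq_bot_iff_forall.2 fun x hx y hy =>
      congrArg Subtype.val (mul_comm' (⟨x, hBA hx⟩ : ↥A) ⟨y, Subgroup.zpowers_le.2 ha hy⟩)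
    have h : Nat.card ↥A ≤ Nat.card ↥B * Nat.card ↥(Subgroup.zpowers a) := by
      conv_lhs => rw [← hsup]
      rw [← Nat.card_prod]
      refine Nat.card_le_card_of_surjective (fun q : ↥B × ↥(Subgroup.zpowers a) => (⟨(q.1 : H) * q.2, mul_mem (Subgroup.mem_sup_left q.1.2) (Subgroup.mem_sup_right q.2.2)⟩ : ↥(B ⊔ Subgroup.zpowers a))) fun y => ?_
      obtain ⟨b, hb, z, hz, e⟩ := (Cfsg.Lib.Core.mem_sup_of_commute hc).1 y.2
      exact ⟨(⟨b, hb⟩, ⟨z, hz⟩), Subtype.ext e⟩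
    refine h.trans (Nat.mul_le_mul_left _ ?_)
    rw [Nat.card_zpowers]
    exact Nat.le_of_dvd (Fact.out : p.Prime).pos (orderOf_dvd_of_pow_eq_one (hA.2 a ha))

end Cfsg.Agent.S1324
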