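import Cfsg.Statements.S1328
import Cfsg.Agent.Lib.Sig.LocalBalanceApps

set_option autoImplicit false
open Cfsg

namespace Cfsg.Agent.S1328

/-- Let G be finite, H ≤ G with O(H) = 1, t an involution of G normalizing H, and Y a nontrivial subgroup of O(C_H(t)). Then some component E of H is normalized by t and by Y and centralized by neither t nor Y. -/
theorem result {G : Type*} [Group G] [Finite G] (H : Subgroup G) (hO : Cfsg.oddCore ↥H = ⊥) (t : G) (ht : orderOf t = 2) (htH : t ∈ Subgroup.normalizer (H : Set G)) (Y : Subgroup G) (hY1 : Y ≠ ⊥) (hY : Y ≤ (Cfsg.oddCore ↥(H ⊓ Subgroup.centralizer ({t} : Set G))).map (H ⊓ Subgroup.centralizer ({t} : Set G)).subtype) : ∃ E : Subgroup ↥H, Cfsg.IsComponent E ∧ (E.map H.subtype).map (MulAut.conj t).toMonoidHom = E.map H.subtype ∧ Y ≤ Subgroup.normalizer ((E.map H.subtype : Subgroup G) : Set G) ∧ ¬ (t ∈ Subgroup.centralizer ((E.map H.subtype : Subgroup G) : Set G)) ∧ ¬ (Y ≤ Subgroup.centralizer ((E.map H.subtype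 : Subgroup G) : Set G)) := by
  classical
  haveI : Fact (Nat.Prime 2) := ⟨Nat.prime_two⟩
  set U := H ⊓ Subgroup.centralizer ({t} : Set G) with hU
  set W := (Cfsg.oddCore ↥U).map U.subtype with hW
  set X := H ⊔ Subgroup.zpowers t with hX
  have hXN : X ≤ Subgroup.normalizer (H : Set G) := sup_le Subgroup.le_normalizer (Subgroup.zpowers_le.2 htH)
  set H' := H.subgroupOf X with hH'
  haveI hHn : H'.Normal := (Subgroup.normal_subgroupOf_iff_le_normalizer le_sup_left).2 hXN
  have htX : t ∈ X := Subgroup.mem_sup_right (Subgroup.mem_zpowers t)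
  set t' : ↥X := ⟨t, htX⟩ with ht'
  have ht2 : t ^ 2 = 1 := ht ▸ pow_orderOf_eq_one t
  set f := QuotientGroup.mk' H' with hf
  have hgen : ∀ q : ↥X ⧸ H', ∃ i : ℤ, q = f t' ^ i := by
    intro q
    obtain ⟨m, rfl⟩ := QuotientGroup.mk_surjective q
    have hm : (m : G) ∈ Subgroup.zpowers t ⊔ H := by rw [sup_comm]; exact m.2
    obtain ⟨w, ⟨i, rfl⟩, h0, hh0, he⟩ :=
      (Cfsg.Lib.Core.mem_sup_of_le_normalizer (Subgroup.zpowers_le.2 htH)).1 hm
    refine ⟨i, ?_⟩
    rw [← map_zpow]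
    refine QuotientGroup.eq.2 (Subgroup.mem_subgroupOf.2 ?_)
    show (m : G)⁻¹ * ((t' ^ i : ↥X) : G) ∈ H
    rw [← he, Subgroup.coe_zpow]
    show (t ^ i * h0)⁻¹ * t ^ i ∈ H
    rw [mul_inv_rev, inv_mul_cancel_right]
    exact inv_mem hh0
  have hq2 : ∀ q : ↥X ⧸ H', q ^ 2 = 1 := by
    intro q
    obtain ⟨i, rfl⟩ := hgen q
    rw [← zpow_natCast, ← zpow_mul, mul_comm, zpow_mul, zpow_natCast, ← map_pow,
      show t' ^ 2 = 1 from Subtype.ext ht2, map_one, one_zpow]
  have hOH : Cfsg.pPrimeCore 2 ↥H' = ⊥ := by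
    have h1 := Cfsg.Lib.Core.map_pPrimeCore_equiv (p := 2) (Subgroup.subgroupOfEquivOfLe (le_sup_left : H ≤ X))
    rw [show Cfsg.pPrimeCore 2 ↥H = ⊥ from hO] at h1
    exact (Subgroup.map_eq_bot_iff_of_injective _ (MulEquiv.injective _)).1 h1
  have hOX : Cfsg.pPrimeCore 2 ↥X = ⊥ := by
    have hle : Cfsg.pPrimeCore 2 ↥X ≤ H' := by
      intro m hm
      have h1 := Cfsg.Lib.Sig.LocalBalance.orderOf_coprime_of_mem (Cfsg.Lib.Core.pPrimeCore_coprime 2 ↥X) hm
      have h2 : orderOf (f m) ∣ orderOf m := orderOf_map_dvd f m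
      have h3 : orderOf (f m) ∣ 2 := orderOf_dvd_of_pow_eq_one (hq2 _)
      exact (QuotientGroup.eq_one_iff m).1 (orderOf_eq_one_iff.1
        (Nat.Coprime.eq_one_of_dvd (h1.coprime_dvd_left h2) h3))
    have h4 := Cfsg.Lib.Core.inf_pPrimeCore_le (p := 2) H'
    rw [hOH, Subgroup.map_bot, inf_eq_left.2 hle] at h4
    exact le_bot_iff.1 h4
  have hWR : W.subgroupOf X ≤ Cfsg.centralizerPPrimeCore 2 t' := by
    set C := Subgroup.centralizer ({t'} : Set ↥X)
    have hWC : ∀ w : ↥X, (w : G) ∈ W → w ∈ C := fun w hw =>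
      Subgroup.mem_centralizer_singleton_iff.2 (Subtype.ext
        (Subgroup.mem_centralizer_singleton_iff.1 ((Subgroup.map_subtype_le _ hw : (w : G) ∈ U)).2))
    have hle : (W.subgroupOf X).subgroupOf C ≤ Cfsg.pPrimeCore 2 ↥C := by
      refine Cfsg.Lib.Core.le_pPrimeCore' ⟨fun w hw c => ?_⟩ ?_
      · rw [Subgroup.mem_subgroupOf, Subgroup.mem_subgroupOf] at hw ⊢
        have hc : ((c : ↥X) : G) ∈ Subgroup.normalizer (U : Set G) := by
          refine Subgroup.inf_normalizer_le_normalizer_inf ⟨hXN (c : ↥X).2, Subgroup.le_normalizer ?_⟩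
          exact Subgroup.mem_centralizer_singleton_iff.2
            (congrArg Subtype.val (Subgroup.mem_centralizer_singleton_iff.1 c.2))
        exact (Subgroup.mem_normalizer_iff.1
          (Cfsg.Lib.Core.normalizer_le_normalizer_map_char _ hc) _).1 hw
      · refine Nat.Coprime.coprime_dvd_left ((Subgroup.card_comap_dvd_of_injective _ _
          (Subgroup.subtype_injective _)).trans (Subgroup.card_comap_dvd_of_injective _ _
          (Subgroup.subtype_injective _))) ?_
        rw [hW, Cfsg.Lib.Core.card_map_subtype]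
        exact Cfsg.Lib.Core.pPrimeCore_coprime 2 _
    exact fun w hw => ⟨⟨w, hWC w hw⟩, hle hw, rfl⟩
  by_contra hno
  apply hY1
  have hYX : Y ≤ X := (hY.trans (Subgroup.map_subtype_le _)).trans (inf_le_left.trans le_sup_left)
  have hD : Y.subgroupOf X = ⊥ := by
    refine Cfsg.Lib.Sig.LocalBalance.eq_bot_of_components (p := 2) hOX (Subgroup.zpowers t')
      (Y.subgroupOf X) ?_ ?_ ?_ ?_ ?_
    · rintro _ ⟨i, rfl⟩
      show (t' ^ i) ^ 2 = 1
      rw [← zpow_natCast, ← zpow_mul, mul_comm, zpow_mul, zpow_natCast,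
        show t' ^ 2 = 1 from Subtype.ext ht2, one_zpow]
    · intro hh
      have h1 : t = 1 := congrArg Subtype.val (Subgroup.zpowers_eq_bot.1 hh)
      rw [h1, orderOf_one] at ht
      omega
    · refine Nat.Coprime.coprime_dvd_left ((Subgroup.card_comap_dvd_of_injective _ _
        (Subgroup.subtype_injective _)).trans (Subgroup.card_dvd_of_le hY)) ?_
      rw [hW, Cfsg.Lib.Core.card_map_subtype]
      exact Cfsg.Lib.Core.pPrimeCore_coprime 2 _
    · rintro a ⟨i, rfl⟩ ha1
      have hi : t' ^ i = t' := by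
        rcases Int.even_or_odd i with ⟨j, hj⟩ | ⟨j, hj⟩
        · refine absurd ?_ ha1
          show t' ^ i = 1
          rw [hj, ← two_mul, zpow_mul, zpow_ofNat, show t' ^ 2 = 1 from Subtype.ext ht2, one_zpow]
        · rw [hj, zpow_add, zpow_mul, zpow_ofNat, show t' ^ 2 = 1 from Subtype.ext ht2, one_zpow, one_mul, zpow_one]
      show Y.subgroupOf X ≤ Cfsg.centralizerPPrimeCore 2 (t' ^ i)
      rw [hi]
      exact le_trans (fun w hw => hY hw) hWR
    intro K hK hAN hDN hf' _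
    by_contra hDC
    refine hno ?_
    have hKH : K ≤ H' := by
      intro k hk
      refine (QuotientGroup.eq_one_iff k).1 ?_
      exact Cfsg.Lib.Sig.hom_eq_one_of_perfect (Cfsg.Lib.Core.quasisimple_commutator hK.2)
        (f.comp K.subtype) (fun a b => by
          obtain ⟨i, hi⟩ := hgen ((f.comp K.subtype) a)
          obtain ⟨j, hj⟩ := hgen ((f.comp K.subtype) b)
          rw [hi, hj, ← zpow_add, ← zpow_add, add_comm]) ⟨k, hk⟩
    set e := Subgroup.subgroupOfEquivOfLe (le_sup_left : H ≤ X)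
    set E := (K.subgroupOf H').map e.toMonoidHom with hE
    have hEmap : E.map H.subtype = K.map X.subtype := by
      rw [hE, Subgroup.map_map]
      ext g
      constructor
      · rintro ⟨u, hu, rfl⟩
        exact ⟨(u : ↥X), Subgroup.mem_subgroupOf.1 hu, rfl⟩
      · rintro ⟨u, hu, rfl⟩
        exact ⟨⟨u, hKH hu⟩, Subgroup.mem_subgroupOf.2 hu, rfl⟩
    have htK : t' ∈ Subgroup.normalizer (K : Set ↥X) := hAN (Subgroup.mem_zpowers t')
    have hmapN : ∀ m : ↥X, m ∈ Subgroup.normalizer (K : Set ↥X) →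
        (m : G) ∈ Subgroup.normalizer ((K.map X.subtype : Subgroup G) : Set G) := fun m hm =>
      Subgroup.le_normalizer_map X.subtype ⟨m, hm, rfl⟩
    refine ⟨E, Cfsg.Lib.Core.IsComponent.map_equiv (Cfsg.Lib.Core.IsComponent.subgroupOf hK hKH) e, ?_, ?_, ?_, ?_⟩
    · rw [hEmap]
      exact Cfsg.Lib.Core.map_conj_eq_of_mem_normalizer (hmapN t' htK)
    · rw [hEmap]
      exact fun y hy => hmapN ⟨y, hYX hy⟩ (hDN (Subgroup.mem_subgroupOf.2 hy))
    · rw [hEmap]
      intro hc
      refine hf' t' (Subgroup.mem_zpowers t') (fun hh => ?_) (Subgroup.mem_centralizer_iff.2 fun k hk =>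
        Subtype.ext (Subgroup.mem_centralizer_iff.1 hc k ⟨k, hk, rfl⟩))
      rw [ht', Subgroup.mk_eq_one] at hh
      rw [hh, orderOf_one] at ht
      omega
    · rw [hEmap]
      intro hc
      exact hDC fun w hw => Subgroup.mem_centralizer_iff.2 fun k hk =>
        Subtype.ext (Subgroup.mem_centralizer_iff.1 (hc (Subgroup.mem_subgroupOf.1 hw)) k ⟨k, hk, rfl⟩)
  rw [← Subgroup.map_subgroupOf_eq_of_le hYX, hD, Subgroup.map_bot]

end Cfsg.Agent.S1328
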