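import Cfsg.Statements.S1331
import Cfsg.Agent.Lib.Coprime.Generation
import Cfsg.Agent.Lib.Core.Basic
import Mathlib.GroupTheory.Sylow

set_option autoImplicit false
open Cfsg

namespace Cfsg.Agent.S1331

/-- Let θ be a solvable A-signalizer functor on the finite group G for the prime p, A elementary abelian of rank at least 3, X a member of the family of θ, and B ≤ A with |B| ≥ p². Then X is generated by the subgroups X ∩ ⋂_{d ∈ D, d ≠ 1} θ d, D ranging over the subgroups of index p in B. -/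
theorem result {G : Type*} [Group G] [Finite G] (p : ℕ) [Fact p.Prime] (A : Subgroup G) (hA : Cfsg.IsElementaryAbelian p A) (hA3 : p ^ 3 ≤ Nat.card ↥A) (θ : G → Subgroup G) (hθ : Cfsg.IsSolvableSignalizerFunctor p A θ) (X : Subgroup G) (hX : X ∈ Cfsg.signalizerFamily p A θ) (B : Subgroup G) (hB : B ≤ A) (hB2 : p ^ 2 ≤ Nat.card ↥B) : X = ⨆ D : {D : Subgroup G // D ≤ B ∧ D.relIndex B = p}, X ⊓ Cfsg.signalizerInf (D : Subgroup G) θ := by
    obtain ⟨hsol, hp', hinv, hfam⟩ := hX
    have := hA.1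
    have hBab : IsMulCommutative ↥B := ⟨⟨fun a b => Subtype.ext (congrArg Subtype.val (mul_comm' (⟨a, hB a.2⟩ : ↥A) ⟨b, hB b.2⟩) :)⟩⟩
    obtain ⟨k, hk⟩ : ∃ k, Nat.card ↥B = p ^ k := IsPGroup.iff_card.mp (fun a => ⟨1, Subtype.ext (by simpa using hA.2 a (hB a.2))⟩)
    have hk2 : 2 ≤ k := by
      rw [hk] at hB2
      exact (Nat.pow_le_pow_iff_right (Fact.out : p.Prime).one_lt).1 hB2
    have hcop : (Nat.card ↥B).Coprime (Nat.card ↥X) := by
      rw [hk]; exact Nat.Coprime.pow_left _ ((Fact.out : p.Prime).coprime_iff_not_dvd.2 hp')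
    have hBX : B ≤ Subgroup.normalizer (X : Set G) := fun b hb => Subgroup.mem_normalizer_iff.2 fun x =>
      ⟨hinv b (hB hb) x, fun h => by
        have := hinv b⁻¹ (inv_mem (hB hb)) _ h
        simpa [mul_assoc] using this⟩
    refine le_antisymm ?_ (iSup_le fun D => inf_le_left)
    refine (Cfsg.Lib.Coprime.le_iSup_centralizer_cocyclic X hBX hcop).trans (iSup₂_le fun C hC => ?_)
    obtain ⟨hCB, a, ha, hsup⟩ := hC
    obtain ⟨D, hDB, hDidx, hDC⟩ : ∃ D : Subgroup G, D ≤ B ∧ D.relIndex B = p ∧ Subgroup.centralizer (C : Set G) ≤ Subgroup.centralizer (D : Set G) := by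
      by_cases hidx : C.relIndex B = 1
      · have hCeq : C = B := le_antisymm hCB (Subgroup.relIndex_eq_one.1 hidx)
        obtain ⟨D, hD⟩ := Sylow.exists_subgroup_card_pow_prime p (G := ↥B) (n := k - 1) (by rw [hk]; exact pow_dvd_pow p (Nat.sub_le k 1))
        refine ⟨D.map B.subtype, Subgroup.map_subtype_le _, ?_, Subgroup.centralizer_le (by rw [hCeq]; exact Subgroup.map_subtype_le D)⟩
        refine Nat.eq_of_mul_eq_mul_left (Nat.card_pos (α := ↥(D.map B.subtype))) ?_
        rw [Cfsg.Lib.Core.card_mul_relIndex (Subgroup.map_subtype_le D), Cfsg.Lib.Core.card_map_subtype, hD, hk, ← pow_succ, Nat.sub_add_cancel (by omega)]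
      · refine ⟨C, hCB, ?_, le_rfl⟩
        have hc : ⁅C, Subgroup.zpowers a⁆ = ⊥ := Cfsg.Lib.Core.commutator_eq_bot_iff_forall.2 fun x hx y hy =>
          congrArg Subtype.val (mul_comm' (⟨x, hCB hx⟩ : ↥B) ⟨y, Subgroup.zpowers_le.2 ha hy⟩)
        have hnorm : Subgroup.zpowers a ≤ Subgroup.normalizer (C : Set G) :=
          (Subgroup.le_centralizer_iff.1 (Subgroup.commutator_eq_bot_iff_le_centralizer.1 hc)).trans (Subgroup.centralizer_le_normalizer _)
        have hle : C.relIndex B ≤ p := by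
          refine Nat.le_of_mul_le_mul_left ?_ (Nat.card_pos (α := ↥C))
          rw [Cfsg.Lib.Core.card_mul_relIndex hCB]
          have h : Nat.card ↥B ≤ Nat.card ↥C * Nat.card ↥(Subgroup.zpowers a) := by
            conv_lhs => rw [← hsup]
            rw [← Nat.card_prod]
            refine Nat.card_le_card_of_surjective (fun q : ↥C × ↥(Subgroup.zpowers a) => (⟨(q.1 : G) * q.2, mul_mem (Subgroup.mem_sup_left q.1.2) (Subgroup.mem_sup_right q.2.2)⟩ : ↥(C ⊔ Subgroup.zpowers a))) fun y => ?_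
            obtain ⟨b, hb, z, hz, e⟩ := (Cfsg.Lib.Core.mem_sup_of_commute hc).1 y.2
            exact ⟨(⟨b, hb⟩, ⟨z, hz⟩), Subtype.ext e⟩
          refine h.trans (Nat.mul_le_mul_left _ ?_)
          rw [Nat.card_zpowers]
          exact Nat.le_of_dvd (Fact.out : p.Prime).pos (orderOf_dvd_of_pow_eq_one (hA.2 a (hB ha)))
        have hdvd : C.relIndex B ∣ p ^ k := hk ▸ Subgroup.relIndex_dvd_card C B
        obtain ⟨j, -, hj⟩ := (Nat.dvd_prime_pow (Fact.out : p.Prime)).1 hdvd
        rw [hj] at hle hidx ⊢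
        match j with
        | 0 => exact absurd (pow_zero p) hidx
        | 1 => exact pow_one p
        | j + 2 =>
          exfalso
          have : p ^ 1 < p ^ (j + 2) := Nat.pow_lt_pow_right (Fact.out : p.Prime).one_lt (by omega)
          rw [pow_one] at this; omega
    refine le_trans ?_ (le_iSup (fun D : {D : Subgroup G // D ≤ B ∧ D.relIndex B = p} => X ⊓ Cfsg.signalizerInf (D : Subgroup G) θ) ⟨D, hDB, hDidx⟩)
    refine le_inf inf_le_left (le_iInf fun d => ?_)
    refine le_trans (inf_le_inf_left _ (hDC.trans (Subgroup.centralizer_le ?_))) (hfam d (hB (hDB d.2.1)) d.2.2)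
    rintro x rfl
    exact d.2.1

end Cfsg.Agent.S1331
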