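import Cfsg.Statements.S1335
import Cfsg.Agent.Lib.Sig.Small
import Mathlib.GroupTheory.Nilpotent

set_option autoImplicit false
open Cfsg

namespace Cfsg.Agent.S1335

/-- Let H be a subgroup of the finite group G, p a prime, k ≥ 1, P a Sylow p-subgroup of H of p-rank at least k, and suppose N_G(X) ≤ H for every subgroup X ≤ P of p-rank at least k. Then P is a Sylow p-subgroup of G. -/
theorem result {G : Type*} [Group G] [Finite G] {p : ℕ} [Fact p.Prime] (k : ℕ) (hk : 1 ≤ k) (H : Subgroup G) (P : Sylow p ↥H) (hP : ¬ Cfsg.PRankLE p (k - 1) ↥(P : Subgroup ↥H)) (hΓ : (∀ X : Subgroup G, X ≤ (P : Subgroup ↥H).map H.subtype → ¬ Cfsg.PRankLE p (k - 1) ↥X → Subgroup.normalizer (X : Set G) ≤ H)) : ∃ Q : Sylow p G, (Q : Subgroup G) = (P : Subgroup ↥H).map H.subtype := by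
    set P' := (P : Subgroup ↥H).map H.subtype with hP'
    have hrk : ¬ Cfsg.PRankLE p (k - 1) ↥P' := fun h => hP fun A hA hAp => by
      have e := (P : Subgroup ↥H).equivMapOfInjective _ H.subtype_injective
      have := hA
      have h1 := h (A.map e.toMonoidHom) (by
        refine ⟨⟨?_⟩⟩
        rintro ⟨_, a, ha, rfl⟩ ⟨_, b, hb, rfl⟩
        refine Subtype.ext ?_
        show e a * e b = e b * e a
        rw [← map_mul, ← map_mul, show a * b = b * a from congrArg Subtype.val (mul_comm' (⟨a, ha⟩ : ↥A) ⟨b, hb⟩)]) (by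
        rintro _ ⟨a, ha, rfl⟩
        show e a ^ p = 1
        rw [← map_pow, hAp a ha, map_one])
      rwa [Subgroup.card_map_of_injective e.injective] at h1
    have hN := hΓ P' le_rfl hrk
    obtain ⟨Q, hQ⟩ := (P.2.map H.subtype : IsPGroup p ↥P').exists_le_sylow
    refine ⟨Q, le_antisymm ?_ hQ⟩
    by_contra hne
    set A := P'.subgroupOf (Q : Subgroup G)
    have := Q.2.isNilpotent
    have hlt := Group.normalizerCondition_of_isNilpotent (G := ↥(Q : Subgroup G)) A (lt_top_iff_ne_top.2 fun h => hne (Subgroup.subgroupOf_eq_top.1 h))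
    obtain ⟨x, hx, hxA⟩ := SetLike.exists_of_lt hlt
    have hxH : (x : G) ∈ H := hN (Subgroup.mem_normalizer_iff.2 fun y => by
      constructor
      · intro hy
        exact (Subgroup.mem_normalizer_iff.1 hx ⟨y, hQ hy⟩).1 hy
      · intro hy
        have h := (Subgroup.mem_normalizer_iff.1 (inv_mem hx) ⟨_, hQ hy⟩).1 hy
        have h2 : ((x : G))⁻¹ * ((x : G) * y * (x : G)⁻¹) * ((x : G)⁻¹)⁻¹ ∈ P' := h
        simpa [mul_assoc] using h2)
    have hle : P' ⊔ Subgroup.zpowers (x : G) ≤ H ⊓ (Q : Subgroup G) := le_inf (sup_le (Subgroup.map_subtype_le _) (Subgroup.zpowers_le.2 hxH)) (sup_le hQ (Subgroup.zpowers_le.2 x.2))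
    have hmax := P.is_maximal' ((Q.2.to_le (hle.trans inf_le_right)).of_equiv (Subgroup.subgroupOfEquivOfLe (hle.trans inf_le_left)).symm) (fun y hy => Subgroup.mem_subgroupOf.2 (Subgroup.mem_sup_left (Subgroup.mem_map_of_mem H.subtype hy)))
    refine hxA (Subgroup.mem_subgroupOf.2 ⟨⟨x, hxH⟩, hmax.le (Subgroup.mem_subgroupOf.2 (Subgroup.mem_sup_right (Subgroup.mem_zpowers _))), rfl⟩)

end Cfsg.Agent.S1335
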