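import Cfsg.Statements.S1336
import Cfsg.Agent.Lib.Sig.Small
import Cfsg.Agent.Lib.Core.Basic

set_option autoImplicit false
open Cfsg

namespace Cfsg.Agent.S1336

/-- Let G be finite and p prime. Then G has a proper subgroup H with p ∣ |H| and p ∤ |H ∩ gHg⁻¹| for every g ∉ H (a strongly p-embedded subgroup) if and only if G is not 1-connected for p. -/
theorem result {G : Type*} [Group G] [Finite G] (p : ℕ) [Fact p.Prime] : (∃ H : Subgroup G, H ≠ ⊤ ∧ p ∣ Nat.card ↥H ∧ ∀ g : G, g ∉ H → ¬ p ∣ Nat.card ↥(H ⊓ H.map (MulAut.conj g).toMonoidHom)) ↔ ¬ Cfsg.IsKConnected p 1 G := by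
    classical
    let r : Subgroup G → Subgroup G → Prop := fun A B =>
      Cfsg.IsElementaryAbelian p A ∧ p ^ 1 ≤ Nat.card ↥A ∧ Cfsg.IsElementaryAbelian p B ∧
        p ^ 1 ≤ Nat.card ↥B ∧ ∀ a ∈ A, ∀ b ∈ B, a * b = b * a
    let V : Subgroup G → Prop := fun A => Cfsg.IsElementaryAbelian p A ∧ p ^ 1 ≤ Nat.card ↥A
    have hsym : ∀ {A B}, Relation.ReflTransGen r A B → Relation.ReflTransGen r B A := fun {A B} h => by
      induction h with
      | refl => exact .refl
      | tail _ h2 ih => exact Relation.ReflTransGen.head ⟨h2.2.2.1, h2.2.2.2.1, h2.1, h2.2.1, fun a ha b hb => (h2.2.2.2.2 b hb a ha).symm⟩ ih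
    have hVz : ∀ x : G, orderOf x = p → V (Subgroup.zpowers x) := fun x hx => by
      refine ⟨⟨inferInstance, fun a ha => ?_⟩, by rw [Nat.card_zpowers, hx, pow_one]⟩
      obtain ⟨i, rfl⟩ := Subgroup.mem_zpowers_iff.1 ha
      rw [← zpow_natCast, ← zpow_mul, mul_comm, zpow_mul, zpow_natCast, ← hx, pow_orderOf_eq_one, one_zpow]
    have hmem : ∀ A, V A → ∃ a ∈ A, orderOf a = p := fun A hA => by
      obtain ⟨a, ha, ha1⟩ := A.bot_or_exists_ne_one.resolve_left (by
        rintro rfl
        have h := hA.2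
        rw [Subgroup.card_bot, pow_one] at h
        have := (Fact.out : p.Prime).two_le
        omega)
      exact ⟨a, ha, orderOf_eq_prime (hA.1.2 a ha) ha1⟩
    have hVconj : ∀ (g : G) A, V A → V (A.map (MulAut.conj g).toMonoidHom) := fun g A hA => by
      refine ⟨⟨⟨⟨?_⟩⟩, ?_⟩, by rw [Cfsg.Lib.Sig.card_map_conj]; exact hA.2⟩
      · rintro ⟨_, a, ha, rfl⟩ ⟨_, b, hb, rfl⟩
        have := hA.1.1
        refine Subtype.ext ?_
        show (MulAut.conj g) a * (MulAut.conj g) b = (MulAut.conj g) b * (MulAut.conj g) a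
        rw [← map_mul, ← map_mul, show a * b = b * a from congrArg Subtype.val (mul_comm' (⟨a, ha⟩ : ↥A) ⟨b, hb⟩)]
      · rintro _ ⟨a, ha, rfl⟩
        show (MulAut.conj g) a ^ p = 1
        rw [← map_pow, hA.1.2 a ha, map_one]
    have hconj : ∀ (g : G) {A B}, Relation.ReflTransGen r A B → Relation.ReflTransGen r (A.map (MulAut.conj g).toMonoidHom) (B.map (MulAut.conj g).toMonoidHom) := fun g {A B} h => by
      refine Relation.ReflTransGen.lift (fun C : Subgroup G => C.map (MulAut.conj g).toMonoidHom) ?_ _ _ h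
      intro C D hCD
      have hC := hVconj g C ⟨hCD.1, hCD.2.1⟩
      have hD := hVconj g D ⟨hCD.2.2.1, hCD.2.2.2.1⟩
      refine ⟨hC.1, hC.2, hD.1, hD.2, ?_⟩
      rintro _ ⟨c, hc, rfl⟩ _ ⟨d, hd, rfl⟩
      show (MulAut.conj g) c * (MulAut.conj g) d = (MulAut.conj g) d * (MulAut.conj g) c
      rw [← map_mul, ← map_mul, hCD.2.2.2.2 c hc d hd]
    constructor
    · rintro ⟨H, hH, hpH, hE⟩ hconn
      obtain ⟨e, he⟩ := exists_prime_orderOf_dvd_card' p hpH
      obtain ⟨g, hg⟩ : ∃ g : G, g ∉ H := by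
        by_contra! hall
        exact hH (top_le_iff.1 fun x _ => hall x)
      have hcl : ∀ {A B}, Relation.ReflTransGen r A B → A ≤ H → B ≤ H := fun {A B} h hA => by
        induction h with
        | refl => exact hA
        | tail _ h2 ih =>
          intro b hb
          by_contra hbH
          obtain ⟨a, ha, hao⟩ := hmem _ ⟨h2.1, h2.2.1⟩
          refine hE b hbH ?_
          rw [← hao, ← Nat.card_zpowers]
          refine Subgroup.card_dvd_of_le (Subgroup.zpowers_le.2 ⟨ih ha, Cfsg.Lib.Sig.mem_map_conj_iff.2 ?_⟩)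
          have e' : b⁻¹ * a * b = a := by rw [mul_assoc, h2.2.2.2.2 a ha b hb]; group
          rw [e']; exact ih ha
      have heo : orderOf (e : G) = p := by rw [Subgroup.orderOf_coe, he]
      have hV := hVz (e : G) heo
      have hVg := hVconj g _ hV
      have h := hcl (hconn _ _ hV.1 hV.2 hVg.1 hVg.2) (Subgroup.zpowers_le.2 e.2)
      refine hE g hg ?_
      rw [← heo, ← orderOf_injective (MulAut.conj g).toMonoidHom (MulAut.conj g).injective (e : G), ← Nat.card_zpowers]
      refine Subgroup.card_dvd_of_le (Subgroup.zpowers_le.2 ⟨h ?_, Cfsg.Lib.Sig.conj_mem_map_conj e.2⟩)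
      exact ⟨e, Subgroup.mem_zpowers _, rfl⟩
    · intro hnc
      simp only [Cfsg.IsKConnected, not_forall] at hnc
      obtain ⟨E₀, E₁, hE₀, hE₀', hE₁, hE₁', hne⟩ := hnc
      have hV₀ : V E₀ := ⟨hE₀, hE₀'⟩
      have hVp : ∀ A, V A → IsPGroup p ↥A := fun A hA a => ⟨1, Subtype.ext (by simpa using hA.1.2 a a.2)⟩
      obtain ⟨S, hS⟩ := (hVp _ hV₀).exists_le_sylow
      have hSnt : Nontrivial ↥(S : Subgroup G) := by
        obtain ⟨a, ha, hao⟩ := hmem _ hV₀
        refine ⟨⟨a, hS ha⟩, 1, fun h => ?_⟩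
        have h2 : a = 1 := congrArg Subtype.val h
        rw [h2, orderOf_one] at hao
        exact (Fact.out : p.Prime).ne_one hao.symm
      have := S.2.center_nontrivial
      obtain ⟨z, hz⟩ := exists_prime_orderOf_dvd_card' (G := ↥(Subgroup.center ↥(S : Subgroup G))) p
        (IsPGroup.card_eq_or_dvd (S.2.to_subgroup _) |>.resolve_left fun h => by
          rw [Nat.card_eq_one_iff_unique] at h
          exact not_subsingleton _ h.1)
      set Z := Subgroup.zpowers ((z : ↥(S : Subgroup G)) : G) with hZdef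
      have hVZ : V Z := hVz _ (by rw [Subgroup.orderOf_coe, Subgroup.orderOf_coe, hz])
      have hinS : ∀ A, V A → A ≤ (S : Subgroup G) → Relation.ReflTransGen r A Z := fun A hA hAS =>
        .single ⟨hA.1, hA.2, hVZ.1, hVZ.2, fun a ha b hb => by
          obtain ⟨i, rfl⟩ := Subgroup.mem_zpowers_iff.1 hb
          exact (Commute.zpow_right (congrArg Subtype.val (Subgroup.mem_center_iff.1 z.2 ⟨a, hAS ha⟩) : a * ((z : ↥(S : Subgroup G)) : G) = _) i).eq⟩
      have hto : ∀ A, V A → A ≤ (S : Subgroup G) → Relation.ReflTransGen r A E₀ := fun A hA hAS =>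
        (hinS A hA hAS).trans (hsym (hinS E₀ hV₀ hS))
      let H : Subgroup G :=
        { carrier := {g | Relation.ReflTransGen r (E₀.map (MulAut.conj g).toMonoidHom) E₀}
          one_mem' := by
            show Relation.ReflTransGen r (E₀.map (MulAut.conj (1 : G)).toMonoidHom) E₀
            rw [Cfsg.Lib.Sig.map_conj_one]
          mul_mem' := fun {a b} ha hb => by
            have h := (hconj a hb).trans ha
            rwa [Cfsg.Lib.Sig.map_conj_map_conj] at h
          inv_mem' := fun {a} ha => by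
            have h := hconj a⁻¹ ha
            rw [Cfsg.Lib.Sig.map_conj_map_conj, inv_mul_cancel, Cfsg.Lib.Sig.map_conj_one] at h
            exact hsym h }
      have hSH : (S : Subgroup G) ≤ H := fun s hs => by
        refine hto _ (hVconj s _ hV₀) ?_
        rintro _ ⟨a, ha, rfl⟩
        exact mul_mem (mul_mem hs (hS ha)) (inv_mem hs)
      have hside : ∀ x : G, orderOf x = p → x ∈ H → Relation.ReflTransGen r (Subgroup.zpowers x) E₀ := by
        intro x hx hxH
        obtain ⟨c, hc, hcle⟩ := Cfsg.Lib.Sig.exists_conj_le_of_relIndex hSH S.2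
          (fun hd => S.not_dvd_index (hd.trans (Subgroup.relIndex_dvd_index_of_le hSH)))
          (Subgroup.zpowers_le.2 hxH) (hVp _ (hVz x hx))
        have h := hconj c⁻¹ (hto _ (hVconj c _ (hVz x hx)) hcle)
        rw [Cfsg.Lib.Sig.map_conj_map_conj, inv_mul_cancel, Cfsg.Lib.Sig.map_conj_one] at h
        exact h.trans (inv_mem hc)
      refine ⟨H, fun htop => hne ?_, ?_, fun g hg hdvd => hg ?_⟩
      · obtain ⟨g, hg⟩ := Cfsg.Lib.Sig.exists_conj_le_sylow S (hVp _ ⟨hE₁, hE₁'⟩)
        have h := hconj g⁻¹ (hto _ (hVconj g _ ⟨hE₁, hE₁'⟩) hg)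
        rw [Cfsg.Lib.Sig.map_conj_map_conj, inv_mul_cancel, Cfsg.Lib.Sig.map_conj_one] at h
        exact hsym (h.trans (htop.symm ▸ Subgroup.mem_top g⁻¹ : g⁻¹ ∈ H))
      · obtain ⟨a, ha, hao⟩ := hmem _ hV₀
        rw [← hao, ← Nat.card_zpowers]
        exact Subgroup.card_dvd_of_le (Subgroup.zpowers_le.2 (hSH (hS ha)))
      · obtain ⟨x, hx⟩ := exists_prime_orderOf_dvd_card' p hdvd
        have hxo : orderOf (x : G) = p := by rw [Subgroup.orderOf_coe, hx]
        have h1 := hside _ hxo x.2.1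
        have hxg := Cfsg.Lib.Sig.mem_map_conj_iff.1 x.2.2
        have hyo : orderOf (g⁻¹ * (x : G) * g) = p := by
          rw [← hxo, ← orderOf_injective (MulAut.conj g⁻¹).toMonoidHom (MulAut.conj g⁻¹).injective (x : G)]
          simp
        have h2 := hconj g (hside _ hyo hxg)
        rw [MonoidHom.map_zpowers] at h2
        have e : (MulAut.conj g).toMonoidHom (g⁻¹ * (x : G) * g) = x := by simp [mul_assoc]
        rw [e] at h2
        exact (hsym h2).trans h1

end Cfsg.Agent.S1336
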