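import Cfsg.Statements.S1339
import Cfsg.Agent.Lib.Core.Layer
-- import your own Cfsg.Agent.* helpers here

set_option autoImplicit false
open Cfsg

namespace Cfsg.Agent.S1339

open Matrix MatrixGroups Subgroup in
theorem core {F : Type*} [Field F] [Fintype F] [DecidableEq F] (hF : Fintype.card F = 2) (n : ℕ) (i j : Fin n)
    (hij : i ≠ j) (t : SpecialLinearGroup (Fin n) F)
    (ht : (t : Matrix (Fin n) (Fin n) F) = Matrix.transvection i j 1) :
    Cfsg.generalizedFittingSubgroup ↥(centralizer ({t} : Set (SpecialLinearGroup (Fin n) F))) =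
      Cfsg.pCore 2 ↥(centralizer ({t} : Set (SpecialLinearGroup (Fin n) F))) := by
  haveI : Fact (Nat.Prime 2) := ⟨Nat.prime_two⟩
  have hF1 : ∀ a : F, a ≠ 0 → a = 1 := by
    intro a ha
    have h : Fintype.card Fˣ = 1 := by rw [Fintype.card_units, hF]
    have := (Fintype.card_eq_one_iff.1 h)
    obtain ⟨x, hx⟩ := this
    have h1 := (hx (Units.mk0 a ha)).trans (hx 1).symm
    simpa using congrArg Units.val h1
  have h2 : (2 : F) = 0 := by
    have h := Nat.cast_card_eq_zero F
    rw [hF] at h
    exact_mod_cast h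
  set C := centralizer ({t} : Set (SpecialLinearGroup (Fin n) F)) with hCdef
  let M : C → Matrix (Fin n) (Fin n) F := fun g => (g : SpecialLinearGroup (Fin n) F).1
  have hMmul : ∀ a b : C, M (a * b) = M a * M b := fun a b => rfl
  have hM1 : M 1 = 1 := rfl
  have hMinj : Function.Injective M := fun a b h => Subtype.ext (Subtype.ext h)
  -- the shape of the elements of `C`
  have hC : ∀ g : C, (∀ k, k ≠ i → M g k i = 0) ∧ (∀ l, l ≠ j → M g j l = 0) ∧ M g i i = 1 ∧ M g j j = 1 := by
    intro g
    have h0 : M g * Matrix.transvection i j 1 = Matrix.transvection i j 1 * M g := by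
      rw [← ht]
      have h1 : (g : SpecialLinearGroup (Fin n) F) * t = t * (g : SpecialLinearGroup (Fin n) F) :=
        mem_centralizer_singleton_iff.1 g.2
      exact congrArg Subtype.val h1
    have hL : M g * Matrix.single i j (1 : F) = Matrix.single i j (1 : F) * M g := by
      simp only [Matrix.transvection, mul_add, add_mul, Matrix.mul_one, Matrix.one_mul, add_right_inj] at h0
      exact h0
    have hcol : ∀ k, k ≠ i → M g k i = 0 := fun k hk => by
      have h := congrFun (congrFun hL k) j
      simpa [Matrix.mul_apply, Matrix.single_apply, hk, hk.symm] using h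
    have hrow : ∀ l, l ≠ j → M g j l = 0 := fun l hl => by
      have h := congrFun (congrFun hL i) l
      simpa [Matrix.mul_apply, Matrix.single_apply, hl, hl.symm] using h.symm
    have heq : M g i i = M g j j := by
      have h := congrFun (congrFun hL i) j
      simpa [Matrix.mul_apply, Matrix.single_apply] using h
    have hne : M g i i ≠ 0 := by
      intro h0
      have h : (M g).det = 0 := Matrix.det_eq_zero_of_column_eq_zero i fun k => by
        by_cases hk : k = i
        · rw [hk, h0]
        · exact hcol k hk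
      rw [show (M g).det = 1 from (g : SpecialLinearGroup (Fin n) F).2] at h
      exact one_ne_zero h
    exact ⟨hcol, hrow, hF1 _ hne, heq ▸ hF1 _ hne⟩
  let P : Matrix (Fin n) (Fin n) F → Prop := fun A => ∀ k l, k ≠ i → l ≠ j → A k l = 0
  have hPadd : ∀ A B, P A → P B → P (A + B) := fun A B hA hB k l hk hl => by
    rw [Matrix.add_apply, hA k l hk hl, hB k l hk hl, add_zero]
  have hPmul : ∀ A B, P A → P B → P (A * B) := by
    intro A B hA hB k l hk hl
    rw [Matrix.mul_apply]
    refine Finset.sum_eq_zero fun m _ => ?_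
    by_cases hm : m = j
    · subst hm; rw [hB m l (Ne.symm hij) hl, mul_zero]
    · rw [hA k m hk hm, zero_mul]
  have hPneg : ∀ A, P A → P (-A) := fun A hA k l hk hl => by rw [Matrix.neg_apply, hA k l hk hl, neg_zero]
  have hPl : ∀ (g : C) A, P A → P (M g * A) := by
    intro g A hA k l hk hl
    rw [Matrix.mul_apply]
    refine Finset.sum_eq_zero fun m _ => ?_
    by_cases hm : m = i
    · subst hm; rw [(hC g).1 k hk, zero_mul]
    · rw [hA m l hm hl, mul_zero]
  have hPr : ∀ (g : C) A, P A → P (A * M g) := by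
    intro g A hA k l hk hl
    rw [Matrix.mul_apply]
    refine Finset.sum_eq_zero fun m _ => ?_
    by_cases hm : m = j
    · subst hm; rw [(hC g).2.1 l hl, mul_zero]
    · rw [hA k m hk hm, zero_mul]
  let U : Subgroup C :=
    { carrier := {g | P (M g - 1)}
      one_mem' := by
        show P (M 1 - 1)
        rw [hM1, sub_self]
        exact fun _ _ _ _ => rfl
      mul_mem' := fun {a b} ha hb => by
        show P (M (a * b) - 1)
        rw [hMmul, show M a * M b - 1 = (M a - 1) * (M b - 1) + (M a - 1) + (M b - 1) by noncomm_ring]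
        exact hPadd _ _ (hPadd _ _ (hPmul _ _ ha hb) ha) hb
      inv_mem' := fun {a} ha => by
        show P (M a⁻¹ - 1)
        have h : M a⁻¹ * M a = 1 := by rw [← hMmul, inv_mul_cancel, hM1]
        rw [show M a⁻¹ - 1 = -(M a⁻¹ * (M a - 1)) by rw [mul_sub, h, mul_one, neg_sub]]
        exact hPneg _ (hPl _ _ ha) }
  have hUn : U.Normal := ⟨fun a ha h => by
    show P (M (h * a * h⁻¹) - 1)
    have e : M h * M h⁻¹ = 1 := by rw [← hMmul, mul_inv_cancel, hM1]
    rw [show M (h * a * h⁻¹) - 1 = M h * (M a - 1) * M h⁻¹ by rw [hMmul, hMmul, mul_sub, sub_mul, mul_one, e]]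
    exact hPr _ _ (hPl _ _ ha)⟩
  have hU2 : IsPGroup 2 U := by
    rintro ⟨g, hg⟩
    refine ⟨2, Subtype.ext (hMinj ?_)⟩
    set A := M g - 1 with hA
    have hA1 : ∀ k, A k i = 0 := by
      intro k
      by_cases hk : k = i
      · simp [hA, hk, (hC g).2.2.1]
      · simp [hA, Matrix.one_apply_ne hk, (hC g).1 k hk]
    have hA2 : ∀ l, A j l = 0 := by
      intro l
      by_cases hl : l = j
      · simp [hA, hl, (hC g).2.2.2]
      · simp [hA, Matrix.one_apply_ne (Ne.symm hl), (hC g).2.1 l hl]
    have hB : ∀ k l, (k ≠ i ∨ l ≠ j) → (A * A) k l = 0 := by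
      intro k l hkl
      rw [Matrix.mul_apply]
      refine Finset.sum_eq_zero fun m _ => ?_
      by_cases hmi : m = i
      · rw [hmi, hA1, zero_mul]
      by_cases hmj : m = j
      · rw [hmj, hA2, mul_zero]
      rcases hkl with h | h
      · rw [show A k m = 0 from hg k m h hmj, zero_mul]
      · rw [show A m l = 0 from hg m l hmi h, mul_zero]
    have hB2 : A * A * (A * A) = 0 := by
      ext k l
      rw [Matrix.mul_apply]
      refine Finset.sum_eq_zero fun m _ => ?_
      by_cases hm : m = j
      · rw [hm, hB j l (Or.inl (Ne.symm hij)), mul_zero]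
      · rw [hB k m (Or.inr hm), zero_mul]
    show M (g ^ (2 ^ 2)) = 1
    rw [show g ^ (2 ^ 2) = g * g * (g * g) by simp [pow_succ, mul_assoc], hMmul, hMmul, show M g = 1 + A by rw [hA]; abel]
    have h22 : ∀ B : Matrix (Fin n) (Fin n) F, B + B = 0 := fun B => by
      ext k l
      rw [Matrix.add_apply, ← two_mul, h2, zero_mul]; rfl
    have hsq : ∀ B : Matrix (Fin n) (Fin n) F, (1 + B) * (1 + B) = 1 + B * B := fun B => by
      rw [add_mul, one_mul, mul_add, mul_one, ← add_assoc, add_assoc 1 B B, h22, add_zero]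
    rw [hsq, hsq, hB2, add_zero]
  refine Cfsg.Lib.Core.generalizedFitting_eq_pCore_iff.2 ?_
  refine le_trans (centralizer_le (Cfsg.Lib.Core.le_pCore' hUn hU2)) ?_
  intro g hg
  refine Cfsg.Lib.Core.le_pCore' hUn hU2 ?_
  show P (M g - 1)
  intro k l hk hl
  set u : SpecialLinearGroup (Fin n) F := SpecialLinearGroup.transvection (Ne.symm hk) (1 : F) with hudef
  have huv : (u : Matrix (Fin n) (Fin n) F) = Matrix.transvection i k (1 : F) := rfl
  have hu : u ∈ C := by
    rw [hCdef, mem_centralizer_singleton_iff]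
    apply Subtype.ext
    show (u : Matrix (Fin n) (Fin n) F) * (t : Matrix (Fin n) (Fin n) F) = (t : Matrix (Fin n) (Fin n) F) * (u : Matrix (Fin n) (Fin n) F)
    rw [huv, ht]
    simp only [Matrix.transvection, mul_add, add_mul, Matrix.mul_one, Matrix.one_mul,
      Matrix.single_mul_single_of_ne _ _ _ _ hk, Matrix.single_mul_single_of_ne _ _ _ _ (Ne.symm hij)]
    abel
  have huU : (⟨u, hu⟩ : C) ∈ U := fun a b ha _ => by
    show (Matrix.transvection i k (1 : F) - 1 : Matrix (Fin n) (Fin n) F) a b = 0
    simp [Matrix.transvection, Matrix.single_apply, Ne.symm ha]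
  have hc : M ⟨u, hu⟩ * M g = M g * M ⟨u, hu⟩ := congrArg M (mem_centralizer_iff.1 hg _ huU)
  have hL : Matrix.single i k (1 : F) * M g = M g * Matrix.single i k (1 : F) := by
    have h0 : Matrix.transvection i k (1 : F) * M g = M g * Matrix.transvection i k (1 : F) := hc
    simp only [Matrix.transvection, mul_add, add_mul, Matrix.mul_one, Matrix.one_mul, add_right_inj] at h0
    exact h0
  have h := congrFun (congrFun hL i) l
  by_cases hkl : l = k
  · subst hkl
    have h1 : M g l l = 1 := by
      simpa [Matrix.mul_apply, Matrix.single_apply, (hC g).2.2.1] using h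
    simp [h1]
  · have h1 : M g k l = 0 := by
      simpa [Matrix.mul_apply, Matrix.single_apply, Ne.symm hkl] using h
    simp [h1, Matrix.one_apply_ne (Ne.symm hkl)]


/-- Let F be a field with 2 elements, n ≥ 3, and t ∈ SL(n, F) a transvection (t = 1 + E_{ij}, i ≠ j). Then the generalized Fitting subgroup of C(t) is O_2(C(t)). -/
theorem result {F : Type*} [Field F] [Fintype F] [DecidableEq F] (hF : Fintype.card F = 2) (n : ℕ) (hn : 3 ≤ n) (i j : Fin n) (hij : i ≠ j) (t : Matrix.SpecialLinearGroup (Fin n) F) (ht : (t : Matrix (Fin n) (Fin n) F) = Matrix.transvection i j 1) : Cfsg.generalizedFittingSubgroup ↥(Subgroup.centralizer ({t} : Set (Matrix.SpecialLinearGroup (Fin n) F))) = Cfsg.pCore 2 ↥(Subgroup.centralizer ({t} : Set (Matrix.SpecialLinearGroup (Fin n) F))) := by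
  exact core hF n i j hij t ht

end Cfsg.Agent.S1339
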