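import Cfsg.Statements.S1340
import Cfsg.Agent.Lib.QPair.Components
import Cfsg.Agent.Lib.Linear.SLBasic
import Cfsg.Agent.Lib.ZStar.Basic
import Cfsg.Agent.Lib.Sig.PComponent
-- import your own Cfsg.Agent.* helpers here

set_option autoImplicit false
open Cfsg

namespace Cfsg.Agent.S1340

open Subgroup in
theorem hasComponent_of_hom {G S : Type*} [Group G] [Finite G] [Group S] (t : G) (φ : S →* G)
    (hφ : Function.Injective φ) (hC : φ.range ≤ centralizer ({t} : Set G))
    (hn : centralizer ({t} : Set G) ≤ normalizer (φ.range : Set G)) (hS : Cfsg.IsQuasisimple S)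
    (s : S) (hs : orderOf s = 2) :
    Cfsg.HasComponent (↥(centralizer ({t} : Set G)) ⧸ Cfsg.oddCore ↥(centralizer ({t} : Set G))) := by
  set C := centralizer ({t} : Set G) with hCdef
  let ψ : S →* C := φ.codRestrict C fun x => hC ⟨x, rfl⟩
  set g := (QuotientGroup.mk' (Cfsg.oddCore C)).comp ψ with hg
  have hker : g.rangeRestrict.ker ≠ ⊤ := by
    intro h
    have h1 : s ∈ g.ker := by rw [← MonoidHom.ker_rangeRestrict]; exact h ▸ mem_top s
    have h2 : ψ s ∈ Cfsg.oddCore C := (QuotientGroup.eq_one_iff _).1 h1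
    refine Cfsg.Lib.ZStar.notMem_oddCore ?_ h2
    rw [orderOf_injective ψ (fun a b hab => hφ (congrArg Subtype.val hab)), hs]
  refine ⟨g.range, ?_, Cfsg.Lib.Sig.isQuasisimple_of_surjective hS g.rangeRestrict g.rangeRestrict_surjective hker⟩
  have hψ : ψ.range = φ.range.subgroupOf C := by
    ext y
    rw [mem_subgroupOf, MonoidHom.mem_range, MonoidHom.mem_range]
    exact ⟨fun ⟨x, hx⟩ => ⟨x, congrArg Subtype.val hx⟩, fun ⟨x, hx⟩ => ⟨x, Subtype.ext hx⟩⟩
  haveI : ψ.range.Normal := hψ ▸ (normal_subgroupOf_iff_le_normalizer hC).2 hn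
  refine Subgroup.Normal.isSubnormal ?_
  rw [hg, MonoidHom.range_comp]
  exact Normal.map inferInstance _ (QuotientGroup.mk'_surjective _)

open Matrix MatrixGroups in
theorem sl_isQuasisimple {F : Type*} [Field F] [Fintype F] [DecidableEq F] (hF : Odd (Fintype.card F)) (m : ℕ)
    (hm : 2 ≤ m) (h33 : ¬ (m = 2 ∧ Fintype.card F = 3)) : Cfsg.IsQuasisimple (SpecialLinearGroup (Fin m) F) := by
  rcases Nat.lt_or_ge m 3 with h3 | h3
  · obtain rfl : m = 2 := by omega
    have hcard : 3 < Fintype.card F := by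
      have h1 : 2 ≤ Fintype.card F := Fintype.one_lt_card
      have h2 : Fintype.card F ≠ 3 := fun h => h33 ⟨rfl, h⟩
      obtain ⟨k, hk⟩ := hF
      omega
    obtain ⟨b, -, hb⟩ := Finset.exists_mem_notMem_of_card_lt_card
      (s := ({0, 1, -1} : Finset F)) (t := Finset.univ) (Finset.card_le_three.trans_lt hcard)
    simp only [Finset.mem_insert, Finset.mem_singleton, not_or] at hb
    refine Cfsg.Agent.Lib.QPair.sl_quasisimple (b := b) hb.1 fun h => ?_
    rcases mul_self_eq_one_iff.1 h with h | h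
    · exact hb.2.1 h
    · exact hb.2.2 h
  · exact ⟨⟨Cfsg.Lib.Linear.commutator_SL_eq_top (by simpa using h3)⟩,
      Cfsg.Lib.Linear.PSL_simple_of_three_le (by simpa using h3)⟩

open Matrix MatrixGroups Subgroup in
theorem core {F : Type*} [Field F] [Fintype F] [DecidableEq F] (hF : Odd (Fintype.card F)) (m : ℕ) (hm : 2 ≤ m)
    (h33 : ¬ (m = 2 ∧ Fintype.card F = 3)) :
    ∃ t : GL (Fin (1 + m)) F, orderOf t = 2 ∧ t ∉ center (GL (Fin (1 + m)) F) ∧
      Cfsg.HasComponent (↥(centralizer ({t} : Set (GL (Fin (1 + m)) F))) ⧸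
        Cfsg.oddCore ↥(centralizer ({t} : Set (GL (Fin (1 + m)) F)))) := by
  have h2 : (2 : F) ≠ 0 := by
    intro h
    obtain ⟨q, hq⟩ := CharP.exists F
    have hq2 : q ∣ 2 := (CharP.cast_eq_zero_iff F q 2).1 (by exact_mod_cast h)
    have hqc : q ∣ Fintype.card F := (CharP.cast_eq_zero_iff F q _).1 (Nat.cast_card_eq_zero F)
    obtain ⟨k, hk⟩ := hF
    rcases (Nat.dvd_prime Nat.prime_two).1 hq2 with rfl | rfl
    · exact CharP.false_of_nontrivial_of_char_one (R := F)
    · omega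
  let E : GL (Fin 1 ⊕ Fin m) F ≃* GL (Fin (1 + m)) F :=
    Units.mapEquiv (Matrix.reindexAlgEquiv F F finSumFinEquiv).toMulEquiv
  set T : Matrix (Fin 1 ⊕ Fin m) (Fin 1 ⊕ Fin m) F := fromBlocks (-1) 0 0 1 with hT
  have hTT : T * T = 1 := by rw [hT, fromBlocks_multiply]; simp [fromBlocks_one]
  let t₀ : GL (Fin 1 ⊕ Fin m) F := ⟨T, T, hTT, hTT⟩
  let φ₀ : SpecialLinearGroup (Fin m) F →* GL (Fin 1 ⊕ Fin m) F :=
    { toFun := fun A => ⟨fromBlocks 1 0 0 A, fromBlocks 1 0 0 (A⁻¹ : SpecialLinearGroup (Fin m) F), by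
        rw [fromBlocks_multiply]
        simp only [Matrix.mul_zero, Matrix.zero_mul, Matrix.mul_one, add_zero, zero_add]
        rw [show (A : Matrix (Fin m) (Fin m) F) * ((A⁻¹ : SpecialLinearGroup (Fin m) F) : Matrix (Fin m) (Fin m) F) = 1 from
          congrArg Subtype.val (mul_inv_cancel A), fromBlocks_one], by
        rw [fromBlocks_multiply]
        simp only [Matrix.mul_zero, Matrix.zero_mul, Matrix.mul_one, add_zero, zero_add]
        rw [show ((A⁻¹ : SpecialLinearGroup (Fin m) F) : Matrix (Fin m) (Fin m) F) * (A : Matrix (Fin m) (Fin m) F) = 1 from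
          congrArg Subtype.val (inv_mul_cancel A), fromBlocks_one]⟩
      map_one' := Units.ext (by simp [fromBlocks_one])
      map_mul' := fun A B => Units.ext (by
        show fromBlocks 1 0 0 ((A * B : SpecialLinearGroup (Fin m) F) : Matrix (Fin m) (Fin m) F) =
          fromBlocks 1 0 0 (A : Matrix (Fin m) (Fin m) F) * fromBlocks 1 0 0 (B : Matrix (Fin m) (Fin m) F)
        rw [fromBlocks_multiply]; simp) }
  have hφ₀ : Function.Injective φ₀ := fun A B h => by
    have h1 := congrArg (fun u : GL (Fin 1 ⊕ Fin m) F => u.val.toBlocks₂₂) h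
    exact Subtype.ext (by simpa [φ₀] using h1)
  have hcomm : ∀ g : GL (Fin 1 ⊕ Fin m) F, g * t₀ = t₀ * g →
      g.val.toBlocks₁₂ = 0 ∧ g.val.toBlocks₂₁ = 0 := by
    intro g hg
    have h1 : g.val * T = T * g.val := congrArg Units.val hg
    rw [← fromBlocks_toBlocks g.val, hT, fromBlocks_multiply, fromBlocks_multiply, fromBlocks_inj] at h1
    obtain ⟨-, h12, h21, -⟩ := h1
    simp only [Matrix.mul_zero, Matrix.zero_mul, Matrix.mul_neg, Matrix.neg_mul, Matrix.mul_one, Matrix.one_mul,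
      add_zero, zero_add] at h12 h21
    constructor
    · ext i j
      have h := congrFun (congrFun h12 i) j
      rw [Matrix.neg_apply] at h
      exact (mul_eq_zero.1 (show (2 : F) * g.val.toBlocks₁₂ i j = 0 by linear_combination h)).resolve_left h2
    · ext i j
      have h := congrFun (congrFun h21 i) j
      rw [Matrix.neg_apply] at h
      exact (mul_eq_zero.1 (show (2 : F) * g.val.toBlocks₂₁ i j = 0 by linear_combination -h)).resolve_left h2
  have hcen : t₀ ∉ center (GL (Fin 1 ⊕ Fin m) F) := by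
    intro h
    let j0 : Fin m := ⟨0, by omega⟩
    have hne : (Sum.inl 0 : Fin 1 ⊕ Fin m) ≠ Sum.inr j0 := Sum.inl_ne_inr
    set u := SpecialLinearGroup.toGL (SpecialLinearGroup.transvection hne (1 : F)) with hu
    have h1 := (hcomm u (mem_center_iff.1 h u)).1
    have h3 := congrFun (congrFun h1 0) j0
    have h4 : Matrix.transvection (Sum.inl 0 : Fin 1 ⊕ Fin m) (Sum.inr j0) (1 : F) (Sum.inl 0) (Sum.inr j0) = 0 := h3
    simp [Matrix.transvection] at h4
  have hrange : ∀ u : GL (Fin 1 ⊕ Fin m) F, u.val.toBlocks₁₁ = 1 → u.val.toBlocks₁₂ = 0 → u.val.toBlocks₂₁ = 0 →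
      u.val.toBlocks₂₂.det = 1 → u ∈ φ₀.range := by
    intro u h11 h12 h21 hd
    refine ⟨⟨u.val.toBlocks₂₂, hd⟩, Units.ext ?_⟩
    show fromBlocks 1 0 0 u.val.toBlocks₂₂ = u.val
    conv_rhs => rw [← fromBlocks_toBlocks u.val, h11, h12, h21]
  have hconj : ∀ g : GL (Fin 1 ⊕ Fin m) F, g * t₀ = t₀ * g → ∀ A, g * φ₀ A * g⁻¹ ∈ φ₀.range := by
    intro g hg A
    have hgi : g⁻¹ * t₀ = t₀ * g⁻¹ := ((show Commute g t₀ from hg).inv_left).eq
    obtain ⟨g12, g21⟩ := hcomm g hg
    obtain ⟨i12, i21⟩ := hcomm g⁻¹ hgi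
    have hgg : g.val * (g⁻¹).val = 1 := g.mul_inv
    rw [← fromBlocks_toBlocks g.val, ← fromBlocks_toBlocks (g⁻¹).val, g12, g21, i12, i21, fromBlocks_multiply,
      ← fromBlocks_one, fromBlocks_inj] at hgg
    obtain ⟨e11, -, -, e22⟩ := hgg
    simp only [Matrix.mul_zero, add_zero, zero_add] at e11 e22
    have hval : (g * φ₀ A * g⁻¹).val = fromBlocks 1 0 0 (g.val.toBlocks₂₂ * (A : Matrix (Fin m) (Fin m) F) * (g⁻¹).val.toBlocks₂₂) := by
      show g.val * fromBlocks 1 0 0 (A : Matrix (Fin m) (Fin m) F) * (g⁻¹).val = _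
      conv_lhs => rw [← fromBlocks_toBlocks g.val, ← fromBlocks_toBlocks (g⁻¹).val, g12, g21, i12, i21,
        fromBlocks_multiply, fromBlocks_multiply]
      simp [← Matrix.coe_units_inv, e11]
    refine hrange _ ?_ ?_ ?_ ?_ <;> rw [hval] <;> simp only [toBlocks_fromBlocks₁₁, toBlocks_fromBlocks₁₂,
      toBlocks_fromBlocks₂₁, toBlocks_fromBlocks₂₂]
    rw [det_mul, det_mul, A.2, mul_one, ← det_mul, e22, det_one]
  -- an involution
  let i0 : Fin m := ⟨0, by omega⟩
  let i1 : Fin m := ⟨1, by omega⟩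
  let v : Fin m → F := fun k => if k = i0 ∨ k = i1 then -1 else 1
  have hv : (diagonal v).det = 1 := by
    rw [det_diagonal, Finset.prod_ite, Finset.prod_const_one, mul_one, Finset.prod_const]
    have : (Finset.univ.filter fun k : Fin m => k = i0 ∨ k = i1) = {i0, i1} := by ext; simp
    rw [this, Finset.card_pair (by simp [i0, i1])]
    simp
  let s : SpecialLinearGroup (Fin m) F := ⟨diagonal v, hv⟩
  have hs : orderOf s = 2 := by
    haveI : Fact (Nat.Prime 2) := ⟨Nat.prime_two⟩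
    refine orderOf_eq_prime ?_ fun h => ?_
    · apply Subtype.ext
      rw [pow_two]
      show diagonal v * diagonal v = 1
      rw [diagonal_mul_diagonal, ← diagonal_one]
      congr 1
      funext k
      simp only [v]
      split <;> simp
    · have h1 : v i0 = 1 := by
        have h3 : diagonal v i0 i0 = (1 : Matrix (Fin m) (Fin m) F) i0 i0 :=
          congrArg (fun B : SpecialLinearGroup (Fin m) F => B.1 i0 i0) h
        rwa [diagonal_apply_eq, one_apply_eq] at h3
      simp only [v, true_or, if_true] at h1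
      exact h2 (by linear_combination -h1)
  refine ⟨E t₀, ?_, ?_, ?_⟩
  · haveI : Fact (Nat.Prime 2) := ⟨Nat.prime_two⟩
    rw [show E t₀ = E.toMonoidHom t₀ from rfl, orderOf_injective E.toMonoidHom E.injective]
    refine orderOf_eq_prime (Units.ext (by rw [pow_two, Units.val_mul]; exact hTT)) fun h => hcen (h ▸ one_mem _)
  · intro h
    refine hcen (mem_center_iff.2 fun g => E.injective ?_)
    rw [map_mul, map_mul]
    exact mem_center_iff.1 h (E g)
  · refine hasComponent_of_hom (E t₀) (E.toMonoidHom.comp φ₀) (E.injective.comp hφ₀) ?_ ?_ (sl_isQuasisimple hF m hm h33) s hs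
    · rintro _ ⟨A, rfl⟩
      rw [mem_centralizer_singleton_iff]
      show E (φ₀ A) * E t₀ = E t₀ * E (φ₀ A)
      rw [← map_mul, ← map_mul]
      refine congrArg E (Units.ext ?_)
      show fromBlocks 1 0 0 (A : Matrix (Fin m) (Fin m) F) * T = T * fromBlocks 1 0 0 (A : Matrix (Fin m) (Fin m) F)
      simp [hT, fromBlocks_multiply]
    · intro g hg
      obtain ⟨g₀, rfl⟩ := E.surjective g
      have hg₀ : g₀ * t₀ = t₀ * g₀ := E.injective (by rw [map_mul, map_mul]; exact mem_centralizer_singleton_iff.1 hg)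
      refine mem_normalizer_fintype ?_
      rintro _ ⟨A, rfl⟩
      obtain ⟨B, hB⟩ := hconj g₀ hg₀ A
      exact ⟨B, by show E (φ₀ B) = E g₀ * E (φ₀ A) * (E g₀)⁻¹; rw [hB, map_mul, map_mul, map_inv]⟩


/-- Let F be a finite field of odd order and n ≥ 3 with (n, |F|) ≠ (3, 3). Then GL(n, F) has a non-central involution t such that C(t) / O(C(t)) has a component. -/
theorem result {F : Type*} [Field F] [Fintype F] [DecidableEq F] (hF : Odd (Fintype.card F)) (n : ℕ) (hn : 3 ≤ n) (h33 : ¬ (n = 3 ∧ Fintype.card F = 3)) : ∃ t : Matrix.GeneralLinearGroup (Fin n) F, orderOf t = 2 ∧ t ∉ Subgroup.center (Matrix.GeneralLinearGroup (Fin n) F) ∧ Cfsg.HasComponent (↥(Subgroup.centralizer ({t} : Set (Matrix.GeneralLinearGroup (Fin n) F))) ⧸ Cfsg.oddCore ↥(Subgroup.centralizer ({t} : Set (Matrix.GeneralLinearGroup (Fin n) F)))) := by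
  obtain ⟨m, rfl⟩ : ∃ m, n = 1 + m := ⟨n - 1, by omega⟩
  exact core hF m (by omega) fun h => h33 ⟨by omega, h.2⟩

end Cfsg.Agent.S1340
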