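import Mathlib
import Cfsg.Prelude.Def_Local
import Cfsg.Agent.Lib.Linear.SLBasic
import Cfsg.Agent.Lib.Core.Layer

set_option autoImplicit false

namespace Cfsg.Agent.S1348

open Matrix
open scoped commutatorElement

variable {F : Type*} [Field F] {m : ℕ}


/-- The matrix of `g` in block form. -/
def blk (g : (Matrix.SpecialLinearGroup (Fin (m + 1)) F)) : Matrix (Fin m ⊕ Fin 1) (Fin m ⊕ Fin 1) F := (g : Matrix (Fin (m + 1)) (Fin (m + 1)) F).submatrix (finSumFinEquiv (m := m) (n := 1)) (finSumFinEquiv (m := m) (n := 1))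

theorem blk_mul (g h : (Matrix.SpecialLinearGroup (Fin (m + 1)) F)) : blk (g * h) = blk g * blk h := by
  rw [blk, blk, blk, Matrix.submatrix_mul_equiv, Matrix.SpecialLinearGroup.coe_mul]

theorem blk_one : blk (1 : (Matrix.SpecialLinearGroup (Fin (m + 1)) F)) = 1 := by
  rw [blk, Matrix.SpecialLinearGroup.coe_one, Matrix.submatrix_one_equiv]

theorem blk_inj : Function.Injective (blk (F := F) (m := m)) := by
  intro g h e
  refine Matrix.SpecialLinearGroup.ext _ _ fun i j => ?_
  have := congrFun (congrFun e ((finSumFinEquiv (m := m) (n := 1)).symm i)) ((finSumFinEquiv (m := m) (n := 1)).symm j)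
  simpa [blk] using this

/-- `A ↦ diag(A, 1)`. -/
def emb : Matrix.SpecialLinearGroup (Fin m) F →* (Matrix.SpecialLinearGroup (Fin (m + 1)) F) where
  toFun A := ⟨(fromBlocks (A : Matrix (Fin m) (Fin m) F) 0 0 1).submatrix (finSumFinEquiv (m := m) (n := 1)).symm (finSumFinEquiv (m := m) (n := 1)).symm, by
    rw [Matrix.det_submatrix_equiv_self, Matrix.det_fromBlocks_zero₂₁, Matrix.det_one, mul_one, A.2]⟩
  map_one' := Subtype.ext (by
    simp [Matrix.fromBlocks_one, Matrix.submatrix_one_equiv])
  map_mul' A B := Subtype.ext (by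
    show ((fromBlocks ((A * B : Matrix.SpecialLinearGroup (Fin m) F) : Matrix (Fin m) (Fin m) F) 0 0 1).submatrix
      (finSumFinEquiv (m := m) (n := 1)).symm (finSumFinEquiv (m := m) (n := 1)).symm) = _ * _
    rw [Matrix.submatrix_mul_equiv, Matrix.fromBlocks_multiply, Matrix.SpecialLinearGroup.coe_mul]
    simp)

theorem blk_emb (A : Matrix.SpecialLinearGroup (Fin m) F) :
    blk (emb A) = fromBlocks (A : Matrix (Fin m) (Fin m) F) 0 0 1 := by
  ext i j
  show ((fromBlocks (A : Matrix (Fin m) (Fin m) F) 0 0 1).submatrix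
      (finSumFinEquiv (m := m) (n := 1)).symm (finSumFinEquiv (m := m) (n := 1)).symm) _ _ = _
  simp

theorem emb_injective : Function.Injective (emb (F := F) (m := m)) := by
  intro A B h
  have h' := congrArg blk h
  rw [blk_emb, blk_emb, Matrix.fromBlocks_inj] at h'
  exact Subtype.ext h'.1

variable {t : (Matrix.SpecialLinearGroup (Fin (m + 1)) F)} (h2 : (2 : F) ≠ 0) (ht : blk t = fromBlocks (-1) 0 0 1)
include h2 ht

theorem mem_centralizer_iff' (g : (Matrix.SpecialLinearGroup (Fin (m + 1)) F)) : g ∈ Subgroup.centralizer ({t} : Set (Matrix.SpecialLinearGroup (Fin (m + 1)) F)) ↔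
    (blk g).toBlocks₁₂ = 0 ∧ (blk g).toBlocks₂₁ = 0 := by
  rw [Subgroup.mem_centralizer_singleton_iff]
  constructor
  · intro h
    have h' := congrArg blk h
    rw [blk_mul, blk_mul, ht, ← fromBlocks_toBlocks (blk g), fromBlocks_multiply,
      fromBlocks_multiply, fromBlocks_inj] at h'
    obtain ⟨-, e12, e21, -⟩ := h'
    simp only [Matrix.mul_zero, Matrix.mul_one, Matrix.zero_mul, Matrix.one_mul, Matrix.neg_mul, Matrix.mul_neg, add_zero, zero_add] at e12 e21
    constructor
    · ext i j
      have := congrFun (congrFun e12 i) j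
      rw [Matrix.neg_apply] at this
      have h3 : (2 : F) * (blk g).toBlocks₁₂ i j = 0 := by linear_combination this
      exact (mul_eq_zero.1 h3).resolve_left h2
    · ext i j
      have := congrFun (congrFun e21 i) j
      rw [Matrix.neg_apply] at this
      have h3 : (2 : F) * (blk g).toBlocks₂₁ i j = 0 := by linear_combination -this
      exact (mul_eq_zero.1 h3).resolve_left h2
  · rintro ⟨h12, h21⟩
    apply blk_inj
    rw [blk_mul, blk_mul, ht, ← fromBlocks_toBlocks (blk g), fromBlocks_multiply,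
      fromBlocks_multiply, h12, h21]
    simp

theorem blk_of_mem {g : (Matrix.SpecialLinearGroup (Fin (m + 1)) F)} (hg : g ∈ Subgroup.centralizer ({t} : Set (Matrix.SpecialLinearGroup (Fin (m + 1)) F))) :
    blk g = fromBlocks (blk g).toBlocks₁₁ 0 0 (blk g).toBlocks₂₂ := by
  obtain ⟨h12, h21⟩ := (mem_centralizer_iff' h2 ht g).1 hg
  conv_lhs => rw [← fromBlocks_toBlocks (blk g), h12, h21]

/-- The last diagonal entry, a homomorphism on the centralizer of `t`. -/
def last : Subgroup.centralizer ({t} : Set (Matrix.SpecialLinearGroup (Fin (m + 1)) F)) →* F where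
  toFun g := (blk (g : (Matrix.SpecialLinearGroup (Fin (m + 1)) F))).toBlocks₂₂ 0 0
  map_one' := by simp [blk_one, toBlocks₂₂]
  map_mul' a b := by
    have hab : blk ((a * b : Subgroup.centralizer ({t} : Set (Matrix.SpecialLinearGroup (Fin (m + 1)) F))) : (Matrix.SpecialLinearGroup (Fin (m + 1)) F)) = blk (a : (Matrix.SpecialLinearGroup (Fin (m + 1)) F)) * blk (b : (Matrix.SpecialLinearGroup (Fin (m + 1)) F)) :=
      blk_mul _ _
    rw [hab, blk_of_mem h2 ht a.2, blk_of_mem h2 ht b.2, fromBlocks_multiply]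
    simp [toBlocks₂₂, Matrix.mul_apply]

theorem range_emb_eq : (emb (F := F) (m := m)).range =
    (last h2 ht).ker.map (Subgroup.centralizer ({t} : Set (Matrix.SpecialLinearGroup (Fin (m + 1)) F))).subtype := by
  ext g
  constructor
  · rintro ⟨A, rfl⟩
    have hmem : emb A ∈ Subgroup.centralizer ({t} : Set (Matrix.SpecialLinearGroup (Fin (m + 1)) F)) :=
      (mem_centralizer_iff' h2 ht _).2 (by simp [blk_emb])
    refine ⟨⟨emb A, hmem⟩, ?_, rfl⟩
    rw [SetLike.mem_coe, MonoidHom.mem_ker]
    show (blk (emb A)).toBlocks₂₂ 0 0 = 1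
    simp [blk_emb]
  · rintro ⟨g, hg, rfl⟩
    have h22 : (blk (g : (Matrix.SpecialLinearGroup (Fin (m + 1)) F))).toBlocks₂₂ = 1 := by
      ext i j
      fin_cases i; fin_cases j
      rw [SetLike.mem_coe, MonoidHom.mem_ker] at hg
      simpa [last] using hg
    have hdet : (blk (g : (Matrix.SpecialLinearGroup (Fin (m + 1)) F))).toBlocks₁₁.det = 1 := by
      have h := congrArg Matrix.det (blk_of_mem h2 ht g.2)
      rw [Matrix.det_fromBlocks_zero₂₁, h22, Matrix.det_one, mul_one, blk,
        Matrix.det_submatrix_equiv_self, (g : (Matrix.SpecialLinearGroup (Fin (m + 1)) F)).2] at h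
      exact h.symm
    refine ⟨⟨_, hdet⟩, blk_inj ?_⟩
    erw [blk_emb]
    refine Eq.trans ?_ (blk_of_mem h2 ht g.2).symm
    rw [h22]

theorem main' [Finite F] (hm : Even m) (h3 : 3 ≤ m) :
    Cfsg.IsStandardSubgroup ((Cfsg.layer ↥(Subgroup.centralizer ({t} : Set (Matrix.SpecialLinearGroup (Fin (m + 1)) F)))).map
      (Subgroup.centralizer ({t} : Set (Matrix.SpecialLinearGroup (Fin (m + 1)) F))).subtype) := by
  classical
  set C := Subgroup.centralizer ({t} : Set (Matrix.SpecialLinearGroup (Fin (m + 1)) F)) with hC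
  set L := (emb (F := F) (m := m)).range with hL
  have hLe : L = (last h2 ht).ker.map C.subtype := range_emb_eq h2 ht
  have hqs : Cfsg.IsQuasisimple (Matrix.SpecialLinearGroup (Fin m) F) :=
    ⟨⟨Cfsg.Lib.Linear.commutator_SL_eq_top (by simpa using h3)⟩,
      Cfsg.Lib.Linear.PSL_simple_of_three_le (by simpa using h3)⟩
  have hqL : Cfsg.IsQuasisimple L :=
    Cfsg.Lib.Core.quasisimple_congr hqs (MonoidHom.ofInjective emb_injective)
  -- the layer
  have hlayer : (Cfsg.layer C).map C.subtype = L := by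
    rw [hLe]
    congr 1
    refine le_antisymm (sSup_le fun K hK => ?_) (le_sSup ⟨?_, ?_⟩)
    · have hcom : commutator C ≤ (last h2 ht).ker := by
        rw [commutator_def, Subgroup.commutator_le]
        intro a _ b _
        rw [MonoidHom.mem_ker, commutatorElement_def, map_mul, map_mul, map_mul,
          mul_comm (last h2 ht a), mul_assoc (last h2 ht b), ← map_mul (last h2 ht) a,
          mul_inv_cancel, map_one, mul_one, ← map_mul, mul_inv_cancel, map_one]
      rw [← Cfsg.Lib.Core.IsComponent.commutator_eq hK]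
      exact (Subgroup.commutator_mono le_top le_top).trans hcom
    · exact Subgroup.Normal.isSubnormal inferInstance
    · exact Cfsg.Lib.Core.quasisimple_congr hqL
        ((MulEquiv.subgroupCongr hLe).trans
          ((last h2 ht).ker.equivMapOfInjective C.subtype C.subtype_injective).symm)
  rw [hlayer]
  have htL : t ∈ L := by
    refine ⟨⟨-1, by rw [Matrix.det_neg, Matrix.det_one, mul_one, Fintype.card_fin, hm.neg_one_pow]⟩,
      blk_inj ?_⟩
    erw [blk_emb]
    rw [ht]
  have hLC : L ≤ C := by rw [hLe]; exact Subgroup.map_subtype_le _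
  set Z := Subgroup.centralizer (L : Set (Matrix.SpecialLinearGroup (Fin (m + 1)) F)) with hZ
  have htZ : t ∈ Z := Subgroup.mem_centralizer_iff.2 fun l hl =>
    Subgroup.mem_centralizer_singleton_iff.1 (hLC hl)
  have hZC : Z ≤ C := fun z hz => Subgroup.mem_centralizer_singleton_iff.2
    (Subgroup.mem_centralizer_iff.1 hz t htL).symm
  have hscal : ∀ z ∈ Z, ∃ a : F, (blk z).toBlocks₁₁ = a • (1 : Matrix (Fin m) (Fin m) F) := by
    intro z hz
    obtain ⟨a, ha⟩ := Matrix.mem_range_scalar_of_commute_transvectionStruct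
      (M := (blk z).toBlocks₁₁) fun T => by
        have h := congrArg blk (Subgroup.mem_centralizer_iff.1 hz
          (emb ⟨T.toMatrix, T.det⟩) ⟨_, rfl⟩)
        rw [blk_mul, blk_mul] at h
        erw [blk_emb] at h
        rw [blk_of_mem h2 ht (hZC hz), fromBlocks_multiply,
          fromBlocks_multiply, fromBlocks_inj] at h
        simp only [Matrix.mul_zero, Matrix.zero_mul, add_zero] at h
        exact h.1
    exact ⟨a, by rw [← ha, Matrix.scalar_apply, Matrix.smul_one_eq_diagonal]⟩
  -- the only involution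
  have huniq : ∀ z ∈ Z, z * z = 1 → z ≠ 1 → z = t := by
    intro z hz hz2 hz1
    obtain ⟨a, ha⟩ := hscal z hz
    have hb := blk_of_mem h2 ht (hZC hz)
    have hsq := congrArg blk hz2
    rw [blk_mul, blk_one, hb, ha, fromBlocks_multiply, ← fromBlocks_one, fromBlocks_inj] at hsq
    have haa : a * a = 1 := by
      have := congrFun (congrFun hsq.1 ⟨0, by omega⟩) ⟨0, by omega⟩
      simpa using this
    have hdet := congrArg Matrix.det hb
    rw [ha, Matrix.det_fromBlocks_zero₂₁, Matrix.det_smul, Matrix.det_one, mul_one, Fintype.card_fin,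
      blk, Matrix.det_submatrix_equiv_self, z.2] at hdet
    have ham : a ^ m = 1 := by
      obtain ⟨k, rfl⟩ := hm
      rw [pow_add, ← mul_pow, haa, one_pow]
    rw [ham, one_mul] at hdet
    have h22 : (blk z).toBlocks₂₂ = 1 := by
      ext i j
      fin_cases i; fin_cases j
      rw [Matrix.det_fin_one] at hdet
      simpa [blk] using hdet.symm
    apply blk_inj
    rcases mul_self_eq_one_iff.1 haa with rfl | rfl
    · exfalso
      refine hz1 (blk_inj ?_)
      rw [hb, ha, h22, blk_one, one_smul, fromBlocks_one]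
    · rw [hb, ha, h22, ht, neg_one_smul]
  have htt : t * t = 1 := blk_inj (by rw [blk_mul, ht, fromBlocks_multiply, blk_one]; simp)
  have ht1 : t ≠ 1 := by
    intro h
    rw [h, blk_one, ← fromBlocks_one, fromBlocks_inj] at ht
    have := congrFun (congrFun ht.1 ⟨0, by omega⟩) ⟨0, by omega⟩
    simp at this
    exact h2 (by linear_combination this)
  -- normalizers
  have hCL : C ≤ Subgroup.normalizer (L : Set (Matrix.SpecialLinearGroup (Fin (m + 1)) F)) := by
    intro g hg
    rw [hLe, Subgroup.mem_normalizer_iff]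
    have hn : ((last h2 ht).ker).Normal := inferInstance
    have key : ∀ c : C, ∀ x : (Matrix.SpecialLinearGroup (Fin (m + 1)) F), x ∈ (last h2 ht).ker.map C.subtype →
        (c : (Matrix.SpecialLinearGroup (Fin (m + 1)) F)) * x * (c : (Matrix.SpecialLinearGroup (Fin (m + 1)) F))⁻¹ ∈ (last h2 ht).ker.map C.subtype := by
      rintro c _ ⟨x, hx, rfl⟩
      exact ⟨c * x * c⁻¹, hn.conj_mem x hx c, rfl⟩
    intro x
    refine ⟨key ⟨g, hg⟩ x, fun h => ?_⟩
    simpa [mul_assoc] using key (⟨g, hg⟩⁻¹ : C) _ h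
  have hnZL : Subgroup.normalizer (Z : Set (Matrix.SpecialLinearGroup (Fin (m + 1)) F)) ≤ C := by
    intro g hg
    have h1 : g * t * g⁻¹ ∈ Z := (Subgroup.mem_normalizer_iff.1 hg t).1 htZ
    have h2' : g * t * g⁻¹ = t := huniq _ h1
      (by rw [show g * t * g⁻¹ * (g * t * g⁻¹) = g * (t * t) * g⁻¹ by group, htt]; group)
      (fun h => ht1 (by
        calc t = g⁻¹ * (g * t * g⁻¹) * g := by group
          _ = 1 := by rw [h]; group))
    refine Subgroup.mem_centralizer_singleton_iff.2 ?_
    calc g * t = g * t * g⁻¹ * g := by group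
      _ = t * g := by rw [h2']
  have hLZ : Subgroup.normalizer (L : Set (Matrix.SpecialLinearGroup (Fin (m + 1)) F)) ≤ Subgroup.normalizer (Z : Set (Matrix.SpecialLinearGroup (Fin (m + 1)) F)) := by
    intro g hg
    rw [Subgroup.mem_normalizer_iff]
    have key : ∀ g ∈ Subgroup.normalizer (L : Set (Matrix.SpecialLinearGroup (Fin (m + 1)) F)), ∀ z ∈ Z, g * z * g⁻¹ ∈ Z := by
      intro g hg z hz
      refine Subgroup.mem_centralizer_iff.2 fun l hl => ?_
      have hl' : g⁻¹ * l * g ∈ L := (Subgroup.mem_normalizer_iff''.1 hg l).1 hl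
      have := Subgroup.mem_centralizer_iff.1 hz _ hl'
      calc l * (g * z * g⁻¹) = g * ((g⁻¹ * l * g) * z) * g⁻¹ := by group
        _ = g * (z * (g⁻¹ * l * g)) * g⁻¹ := by rw [this]
        _ = _ := by group
    intro z
    refine ⟨key g hg z, fun h => ?_⟩
    simpa [mul_assoc] using key g⁻¹ (inv_mem hg) _ h
  refine ⟨hqL, ⟨?_, fun g hg => ?_⟩, fun g hg hcomm => ?_,
    le_antisymm hLZ (hnZL.trans hCL)⟩
  · have ho : orderOf t = 2 := orderOf_eq_prime (by rw [pow_two, htt]) ht1
    rw [even_iff_two_dvd, ← ho, ← Nat.card_zpowers]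
    exact Subgroup.card_dvd_of_le (Subgroup.zpowers_le.2 htZ)
  · rw [← Nat.not_even_iff_odd, even_iff_two_dvd]
    intro hd
    have : Fact (Nat.Prime 2) := ⟨Nat.prime_two⟩
    have : Finite (Matrix.SpecialLinearGroup (Fin (m + 1)) F) := Subtype.finite
    obtain ⟨x, hx⟩ := exists_prime_orderOf_dvd_card' 2 hd
    have hx2 : ((x : (Matrix.SpecialLinearGroup (Fin (m + 1)) F))) * x = 1 := by
      rw [← Subgroup.coe_mul, ← pow_two, ← hx, pow_orderOf_eq_one]; rfl
    have hx1 : (x : (Matrix.SpecialLinearGroup (Fin (m + 1)) F)) ≠ 1 := fun h => by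
      rw [Subtype.ext h (a2 := (1 : ↥(Z ⊓ Z.map (MulAut.conj g).toMonoidHom))), orderOf_one] at hx
      norm_num at hx
    have hxt := huniq x x.2.1 hx2 hx1
    obtain ⟨z, hz, hzx⟩ := x.2.2
    have hzt : z = t := huniq z hz ((MulAut.conj g).injective (by
      show MulAut.conj g (z * z) = MulAut.conj g 1
      rw [map_mul, map_one]
      change MulAut.conj g z = (x : (Matrix.SpecialLinearGroup (Fin (m + 1)) F)) at hzx
      rw [hzx, hx2])) (fun h => hx1 (by rw [← hzx, h, map_one]))
    refine hg (hLZ (hCL (Subgroup.mem_centralizer_singleton_iff.2 ?_)))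
    have e : g * t * g⁻¹ = t := by
      rw [← hzt]
      exact (hzx.trans hxt).trans hzt.symm
    calc g * t = g * t * g⁻¹ * g := by group
      _ = t * g := by rw [e]
  · set L' := L.map (MulAut.conj g).toMonoidHom with hL'
    have hle : L' ≤ Z := by
      intro y hy
      refine Subgroup.mem_centralizer_iff.2 fun l hl => ?_
      have hm : ⁅l, y⁆ ∈ ⁅L, L'⁆ := Subgroup.commutator_mem_commutator hl hy
      rw [hcomm, Subgroup.mem_bot] at hm
      exact commutatorElement_eq_one_iff_mul_comm.1 hm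
    have hab : ∀ x ∈ Z, ∀ y ∈ Z, x * y = y * x := by
      intro x hx y hy
      obtain ⟨a, ha⟩ := hscal x hx
      obtain ⟨b, hb⟩ := hscal y hy
      apply blk_inj
      rw [blk_mul, blk_mul, blk_of_mem h2 ht (hZC hx), blk_of_mem h2 ht (hZC hy), ha, hb,
        fromBlocks_multiply, fromBlocks_multiply]
      have h22 : (blk x).toBlocks₂₂ * (blk y).toBlocks₂₂ = (blk y).toBlocks₂₂ * (blk x).toBlocks₂₂ := by
        ext i j
        fin_cases i; fin_cases j
        simp [Matrix.mul_apply, mul_comm]
      simp [h22, smul_smul, mul_comm a b]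
    refine Cfsg.Lib.Core.quasisimple_not_solvable hqL ?_
    have hc : ∀ a b : L, a * b = b * a := by
      intro a b
      refine Subtype.ext ((MulAut.conj g).injective ?_)
      show MulAut.conj g ((a : (Matrix.SpecialLinearGroup (Fin (m + 1)) F)) * b) = MulAut.conj g ((b : (Matrix.SpecialLinearGroup (Fin (m + 1)) F)) * a)
      rw [map_mul, map_mul]
      exact hab _ (hle ⟨_, a.2, rfl⟩) _ (hle ⟨_, b.2, rfl⟩)
    exact Group.isSolvable_of_comm hc

omit h2 ht

theorem main {F : Type*} [Field F] [Fintype F] [DecidableEq F] (hF : Odd (Fintype.card F)) (n : ℕ)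
    (hn : 7 ≤ n) (hodd : Odd n) (t : Matrix.SpecialLinearGroup (Fin n) F)
    (ht : (t : Matrix (Fin n) (Fin n) F) =
      Matrix.diagonal (fun i : Fin n => if (i : ℕ) + 1 = n then (1 : F) else -1)) :
    Cfsg.IsStandardSubgroup ((Cfsg.layer ↥(Subgroup.centralizer
      ({t} : Set (Matrix.SpecialLinearGroup (Fin n) F)))).map
      (Subgroup.centralizer ({t} : Set (Matrix.SpecialLinearGroup (Fin n) F))).subtype) := by
  obtain ⟨m, rfl⟩ : ∃ m, n = m + 1 := ⟨n - 1, by omega⟩
  have h2 : (2 : F) ≠ 0 := by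
    refine Ring.two_ne_zero fun hc => ?_
    have : CharP F 2 := ringChar.of_eq hc
    obtain ⟨k, hp, hk⟩ := FiniteField.card F 2
    rw [hk] at hF
    exact absurd (hF) (by simp [Nat.odd_pow_iff k.pos.ne'])
  refine main' h2 ?_ (by rcases hodd with ⟨k, hk⟩; exact ⟨k, by omega⟩) (by omega)
  ext i j
  rw [blk, ht]
  rcases i with i | i <;> rcases j with j | j
  · by_cases h : i = j
    · subst h; simp; omega
    · simp [Matrix.diagonal_apply, h]
  · simp [Matrix.diagonal_apply, Fin.ext_iff]; omega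
  · simp [Matrix.diagonal_apply, Fin.ext_iff]; omega
  · fin_cases i; fin_cases j
    simp

/-- Let F be a finite field of odd order, n ≥ 7 odd, and t ∈ SL(n, F) the diagonal matrix with entries −1, …, −1, 1. Then E(C(t)) is a standard subgroup of SL(n, F). -/
theorem result {F : Type*} [Field F] [Fintype F] [DecidableEq F] (hF : Odd (Fintype.card F)) (n : ℕ) (hn : 7 ≤ n) (hodd : Odd n) (t : Matrix.SpecialLinearGroup (Fin n) F) (ht : (t : Matrix (Fin n) (Fin n) F) = Matrix.diagonal (fun i : Fin n => if (i : ℕ) + 1 = n then (1 : F) else -1)) : Cfsg.IsStandardSubgroup ((Cfsg.layer ↥(Subgroup.centralizer ({t} : Set (Matrix.SpecialLinearGroup (Fin n) F)))).map (Subgroup.centralizer ({t} : Set (Matrix.SpecialLinearGroup (Fin n) F))).subtype) := by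
  exact main hF n hn hodd t ht

end Cfsg.Agent.S1348
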