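import Cfsg.Statements.S1350
import Cfsg.Agent.Lib.Local.Sigma.SigmaHall

set_option autoImplicit false
open Cfsg

namespace Cfsg.Agent.S1350

open Subgroup Cfsg.Lib.Local Cfsg.Lib.Local.Sigma

/-- Let G be a minimal simple group of odd order and M a maximal subgroup. Then M_σ (the largest normal σ(M)-subgroup of M) is a Hall σ(M)-subgroup of M and also of G, and every Hall σ(M)-subgroup of M that is normal in M equals M_σ. -/
theorem result {G : Type*} [Group G] [Finite G] (hG : Cfsg.IsMinSimpleOddOrder G)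
    (M : Subgroup G) (hM : IsCoatom M) :
    Cfsg.IsPiHallOf (Cfsg.sigma M) (Cfsg.sigmaCore M) M ∧ Cfsg.IsPiHall (Cfsg.sigma M) (Cfsg.sigmaCore M) ∧
      ∀ N : Subgroup G, M ≤ Subgroup.normalizer (N : Set G) → Cfsg.IsPiHallOf (Cfsg.sigma M) N M →
        N = Cfsg.sigmaCore M := by
  have hle := sigmaCore_le M
  have h1 : ∀ p : ℕ, p.Prime → p ∈ Cfsg.sigma M → ¬ p ∣ (Cfsg.sigmaCore M).index := fun p hp hσ => by
    haveI : Fact p.Prime := ⟨hp⟩
    exact not_dvd_index_sigmaCore hG hM hσ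
  refine ⟨⟨hle, sigmaCore_isPiSub M, fun p hp hσ hd => h1 p hp hσ (hd.trans (relIndex_dvd_index_of_le hle))⟩,
    ⟨sigmaCore_isPiSub M, h1⟩, fun N hn hN => ?_⟩
  obtain ⟨hNM, hNπ, hNi⟩ := hN
  haveI := (normal_subgroupOf_iff_le_normalizer hNM).mpr hn
  have hNle : N ≤ Cfsg.sigmaCore M := by
    rw [← map_subgroupOf_eq_of_le hNM]
    refine map_mono (Cfsg.Lib.Core.le_piCore' inferInstance fun t ht hd => hNπ t ht ?_)
    rwa [Nat.card_congr (subgroupOfEquivOfLe hNM).toEquiv] at hd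
  refine le_antisymm hNle (relIndex_eq_one.mp ?_)
  by_contra hne
  obtain ⟨t, ht, htd⟩ := Nat.exists_prime_and_dvd hne
  refine hNi t ht (sigmaCore_isPiSub M t ht (htd.trans (relIndex_dvd_card _ _))) ?_
  rw [← relIndex_mul_relIndex N (Cfsg.sigmaCore M) M hNle hle]
  exact htd.trans (dvd_mul_right _ _)

end Cfsg.Agent.S1350
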