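import Cfsg.Statements.S1356
import Cfsg.Agent.Lib.Local.Sigma.HallCentralizer
-- import your own Cfsg.Agent.* helpers here

set_option autoImplicit false
open Cfsg

namespace Cfsg.Agent.S1356

open Subgroup Cfsg.Lib Cfsg.Lib.Local Cfsg.Lib.Local.Uniq Cfsg.Lib.Local.Sigma

/-- Let G be a minimal simple group of odd order and M a maximal subgroup. Then the second derived subgroup M'' lies in the Fitting subgroup F(M), F(M) is generated by M_F together with C_M(M_F), and if κ(M) is nonempty then F(M) ≤ M'. -/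
theorem result {G : Type*} [Group G] [Finite G] (hG : Cfsg.IsMinSimpleOddOrder G)
    (M : Subgroup G) (hM : IsCoatom M) :
    ⁅⁅M, M⁆, ⁅M, M⁆⁆ ≤ Cfsg.fittingOf M ∧
      Cfsg.fittingOf M = (M ⊓ Subgroup.centralizer (Cfsg.fittingHallOf M : Set G)) ⊔ Cfsg.fittingHallOf M ∧
      ((Cfsg.kappa M).Nonempty → Cfsg.fittingOf M ≤ ⁅M, M⁆) := by
  refine ⟨derived_two_le_fitting hG hM, fitting_eq hG hM, fun hκ => ?_⟩
  obtain ⟨K, U, hU⟩ := exists_decomposition hG hM
  obtain ⟨t, ht⟩ := hκ
  refine fitting_le_derived hG hM hU fun hK => ?_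
  have h1 := dvd_card_kappa hU.hall ht
  rw [hK, Subgroup.card_bot] at h1
  exact ht.1.not_dvd_one h1

end Cfsg.Agent.S1356
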