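import Cfsg.Statements.S1358
import Cfsg.Agent.Lib.Local.Sigma.UStructure
-- import your own Cfsg.Agent.* helpers here

set_option autoImplicit false
open Cfsg

namespace Cfsg.Agent.S1358

open Subgroup Cfsg.Lib Cfsg.Lib.Local Cfsg.Lib.Local.Uniq Cfsg.Lib.Local.Sigma

/-- Let G be a minimal simple group of odd order and M a maximal subgroup with standard factorisation M = K U M_σ. Then for every prime p, every Sylow p-subgroup of U is abelian and has no elementary abelian subgroup of order p ^ 3. -/
theorem result {G : Type*} [Group G] [Finite G] (hG : Cfsg.IsMinSimpleOddOrder G)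
    (M : Subgroup G) (hM : IsCoatom M) (K U : Subgroup G) (hKU : Cfsg.IsSigmaDecomposition M K U) :
    ∀ (p : ℕ), p.Prime → ∀ P : Sylow p U, IsMulCommutative (P : Subgroup U) ∧ Cfsg.PRankLE p 2 (P : Subgroup U) := by
  intro p hp P
  haveI : Fact p.Prime := ⟨hp⟩
  have hU := decomp_hall hG hM hKU
  have hPM : (P : Subgroup U).map U.subtype ≤ M := (Subgroup.map_subtype_le _).trans hKU.compl.1
  by_cases hd : p ∣ Nat.card U
  · have hσ := (hU.2.1 p hp hd).2.2
    haveI := isMulCommutative_of_not_sigma hG hM hσ (P.isPGroup'.map U.subtype) hPM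
    refine ⟨⟨⟨fun a b => Subtype.ext (Subtype.ext ?_)⟩⟩, fun A hA hAe => ?_⟩
    · show ((a : U) : G) * ((b : U) : G) = ((b : U) : G) * ((a : U) : G)
      exact congrArg Subtype.val (mul_comm' (⟨((a : U) : G), _, a.2, rfl⟩ : (P : Subgroup U).map U.subtype)
        ⟨((b : U) : G), _, b.2, rfl⟩)
    · have h2 : Cfsg.PRankLE p 2 M := by_contra fun hn => hσ (alpha_sub_sigma hG hM hn)
      have hf : Function.Injective (U.subtype.comp (P : Subgroup U).subtype) :=
        U.subtype_injective.comp (P : Subgroup U).subtype_injective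
      rw [Nat.card_congr (A.equivMapOfInjective _ hf).toEquiv]
      refine card_le_sq h2 ?_ (Cfsg.Lib.PGroup.isElementaryAbelian_map ⟨hA, hAe⟩ _)
      rintro _ ⟨a, -, rfl⟩
      exact hPM ⟨_, (a : (P : Subgroup U)).2, rfl⟩
  · obtain ⟨n, hn⟩ := IsPGroup.iff_card.mp P.isPGroup'
    rcases n with _ | n
    · haveI : Subsingleton (P : Subgroup U) := (Nat.card_eq_one_iff_unique.mp (by simpa using hn)).1
      refine ⟨⟨⟨fun a b => Subsingleton.elim _ _⟩⟩, fun A _ _ => ?_⟩
      rw [Subgroup.eq_bot_of_subsingleton A, Subgroup.card_bot]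
      exact Nat.one_le_pow _ _ hp.pos
    · exact absurd ((Dvd.intro_left (p ^ n) ((pow_succ p n).symm.trans hn.symm)).trans
        (Subgroup.card_subgroup_dvd_card (P : Subgroup U))) hd

end Cfsg.Agent.S1358
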