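import Cfsg.Statements.S1371
import Cfsg.Agent.Lib.Local.Sigma.DecompHall
-- import your own Cfsg.Agent.* helpers here

set_option autoImplicit false
open Cfsg

namespace Cfsg.Agent.S1371

open Subgroup Cfsg.Lib Cfsg.Lib.Local Cfsg.Lib.Local.Uniq Cfsg.Lib.Local.Sigma

/-- Let G be a minimal simple group of odd order, M a maximal subgroup with standard factorisation M = K U M_σ, K ≠ 1, K* = M_σ ∩ C_G(K), and Ẑ the set of elements of K K* outside K ∪ K*. Then the union of the M-conjugates of Ẑ equals A₀(M) with A(M) removed, and it is a TI-subset of G. -/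
theorem result {G : Type*} [Group G] [Finite G] (hG : Cfsg.IsMinSimpleOddOrder G)
    (M : Subgroup G) (hM : IsCoatom M) (K U : Subgroup G) (hKU : Cfsg.IsSigmaDecomposition M K U) (hK1 : K ≠ ⊥) :
    {a : G | ∃ m ∈ M, ∃ z ∈ ((↑(K ⊔ (Cfsg.sigmaCore M ⊓ Subgroup.centralizer (K : Set G))) : Set G) \ ((K : Set G) ∪ ↑(Cfsg.sigmaCore M ⊓ Subgroup.centralizer (K : Set G)))), a = m * z * m⁻¹} = Cfsg.sigmaA0 M K \ Cfsg.sigmaA M U ∧
      Cfsg.IsTISubset (Cfsg.sigmaA0 M K \ Cfsg.sigmaA M U) := by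
  have hK := hKU.hall
  obtain ⟨L, hL, -, -⟩ := exists_pair hG hM hK hK1
  have hMm : Member (zgrp M K) M := ⟨hM, K, hK, hK1, rfl⟩
  have hZ : ((↑(K ⊔ (Cfsg.sigmaCore M ⊓ Subgroup.centralizer (K : Set G))) : Set G) \
      ((K : Set G) ∪ ↑(Cfsg.sigmaCore M ⊓ Subgroup.centralizer (K : Set G)))) = outer (zgrp M K) :=
    (hL.outer_eq hG hM hK hK1).symm
  rw [hZ]
  have heq : {a : G | ∃ m ∈ M, ∃ z ∈ outer (zgrp M K), a = m * z * m⁻¹} =
      Cfsg.sigmaA0 M K \ Cfsg.sigmaA M U := by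
    ext a
    constructor
    · rintro ⟨m, hm, z, hz, rfl⟩
      have hz' := hz
      rw [hL.outer_eq hG hM hK hK1] at hz'
      obtain ⟨u, hu, v, hv, rfl, huv⟩ := mem_zgrp hz.1
      have hv1 : v ≠ 1 := fun e => hz'.2 (Or.inl (by rw [e, mul_one]; exact hu))
      have hu1 : u ≠ 1 := fun e => hz'.2 (Or.inr (by rw [e, one_mul]; exact hv))
      have hcop : (orderOf u).Coprime (orderOf v) := Nat.coprime_of_dvd fun t ht h1 h2 =>
        kappa_not_sigma hK hu ht h1 (kstar_sigma hv ht h2)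
      have hord : orderOf (u * v) = orderOf u * orderOf v :=
        (show Commute u v from huv).orderOf_mul_eq_mul_orderOf_of_coprime hcop
      have hzM : u * v ∈ M := zgrp_le hK hz.1
      refine ⟨⟨⟨mul_mem (mul_mem hm hzM) (inv_mem hm), m * v * m⁻¹,
        (mem_normalizer_iff.mp (le_normalizer_sigmaCore M hm) v).mp hv.1,
        fun e => hv1 (conj_eq_one_iff.mp e), ?_⟩, ?_⟩, fun hA => ?_⟩
      · rw [conj_mul, conj_mul, zgrp_commute hG hM hK hK1 hz.1 (mem_sup_right hv)]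
      · rintro ⟨k, hk, -, m', hm', he⟩
        obtain ⟨q, -, hq, hqd, -⟩ := exists_prime_power hv1
        refine kappa_not_sigma hK hk hq ?_ (kstar_sigma hv hq hqd)
        rw [← orderOf_conj m' k, ← he, orderOf_conj, hord]
        exact hqd.mul_left _
      · obtain ⟨q, -, hq, hqd, -⟩ := exists_prime_power hu1
        refine decomp_prime hG hM hKU hA.2 hq ?_ (hK.2.1 q hq (hqd.trans (Subgroup.orderOf_dvd_natCard _ hu)))
        rw [orderOf_conj, hord]
        exact hqd.mul_right _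
    · rintro ⟨⟨ha, hnot⟩, hA⟩
      have hnU : a ∉ U ⊔ Cfsg.sigmaCore M := fun h => hA ⟨ha, h⟩
      obtain ⟨t, ht, hta, htK⟩ := Nat.Prime.not_coprime_iff_dvd.mp fun hco => hnU (decomp_mem_of_coprime hKU ha.1 hco)
      haveI : Fact t.Prime := ⟨ht⟩
      have htκ : t ∈ Cfsg.kappa M := hK.2.1 t ht htK
      have huo : orderOf (a ^ (orderOf a / t)) = t := orderOf_pow_orderOf_div (orderOf_pos a).ne' hta
      set u := a ^ (orderOf a / t)
      obtain ⟨m, hm, hle⟩ := exists_conj_le_hall (π := Cfsg.kappa M) (hG.2.2.2 M hM.1) hK.1 hK.2.1 hK.2.2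
        (Y := Subgroup.zpowers u) (Subgroup.zpowers_le.mpr (pow_mem ha.1 _)) fun s hs hd => by
          rw [Nat.card_zpowers, huo] at hd
          rwa [(Nat.prime_dvd_prime_iff_eq hs ht).mp hd]
      have hu' : m * u * m⁻¹ ∈ K := hle (mem_cj (mem_zpowers u))
      have hu1 : m * u * m⁻¹ ≠ 1 := fun e => ht.ne_one (by rw [← huo, conj_eq_one_iff.mp e, orderOf_one])
      have ha' : m * a * m⁻¹ ∈ zgrp M K := (centralizer_kappa_elem hG hM hK hu' hu1).le
        (Subgroup.mem_inf.mpr ⟨mul_mem (mul_mem hm ha.1) (inv_mem hm),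
          mem_centralizer_singleton_iff.mpr (by rw [conj_mul, conj_mul, pow_mul_comm'])⟩)
      refine ⟨m⁻¹, inv_mem hm, m * a * m⁻¹, ?_, by group⟩
      rw [hL.outer_eq hG hM hK hK1]
      refine ⟨ha', ?_⟩
      rintro (h | h)
      · refine hnot ⟨_, h, fun e => ht.ne_one ?_, m⁻¹, inv_mem hm, by group⟩
        rw [← huo, show u = 1 by simp only [u, conj_eq_one_iff.mp e, one_pow], orderOf_one]
      · exact htκ.2.2.1 (kstar_sigma h ht (by rw [orderOf_conj]; exact hta))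
  refine ⟨heq, heq ▸ fun g hg x hx hgx => absurd ?_ hg⟩
  obtain ⟨m, hm, z, hz, rfl⟩ := hx
  obtain ⟨m', hm', z', hz', he⟩ := hgx
  have h1 : m'⁻¹ * g * m * z * (m'⁻¹ * g * m)⁻¹ = z' := by
    calc m'⁻¹ * g * m * z * (m'⁻¹ * g * m)⁻¹ = m'⁻¹ * (g * (m * z * m⁻¹) * g⁻¹) * m' := by group
      _ = z' := by rw [he]; group
  have h2 : m'⁻¹ * g * m ∈ M := zgrp_le hK ((outer_ti hG hMm hz).2 _ (h1.symm ▸ hz'.1))
  have hgM : g ∈ M := by
    have h3 := mul_mem (mul_mem hm' h2) (inv_mem hm)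
    rwa [show m' * (m'⁻¹ * g * m) * m⁻¹ = g by group] at h3
  refine Subgroup.mem_set_normalizer_iff.mpr fun x => ⟨?_, ?_⟩
  · rintro ⟨c, hc, w, hw, rfl⟩
    exact ⟨g * c, mul_mem hgM hc, w, hw, by group⟩
  · rintro ⟨c, hc, w, hw, hx⟩
    refine ⟨g⁻¹ * c, mul_mem (inv_mem hgM) hc, w, hw, ?_⟩
    rw [show x = g⁻¹ * (g * x * g⁻¹) * g by group, hx]
    group

end Cfsg.Agent.S1371
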