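import Cfsg.Statements.S1374
import Cfsg.Agent.Lib.Local.Sigma.SupportR
-- import your own Cfsg.Agent.* helpers here

set_option autoImplicit false
open Cfsg

namespace Cfsg.Agent.S1374

open Subgroup Cfsg.Lib Cfsg.Lib.Local Cfsg.Lib.Local.Uniq Cfsg.Lib.Local.Sigma

/-- Let G be a minimal simple group of odd order, M a maximal subgroup and x a non-identity element of M_σ. Then C_M(x) has order coprime to its index in C_G(x), and C_G(x) has a normal subgroup R complementing C_M(x) such that for every conjugate gMg⁻¹ containing x there is exactly one r ∈ R with rMr⁻¹ = gMg⁻¹. -/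
theorem result {G : Type*} [Group G] [Finite G] (hG : Cfsg.IsMinSimpleOddOrder G)
    (M : Subgroup G) (hM : IsCoatom M) (x : G) (hx : x ∈ Cfsg.sigmaCore M) (hx1 : x ≠ 1) :
    (Nat.card ↥(M ⊓ Subgroup.centralizer ({x} : Set G))).Coprime ((M ⊓ Subgroup.centralizer ({x} : Set G)).relIndex (Subgroup.centralizer ({x} : Set G))) ∧
      ∃ R : Subgroup G, Subgroup.centralizer ({x} : Set G) ≤ Subgroup.normalizer (R : Set G) ∧ Cfsg.IsComplIn (M ⊓ Subgroup.centralizer ({x} : Set G)) R (Subgroup.centralizer ({x} : Set G)) ∧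
        ∀ g : G, x ∈ M.map (MulAut.conj g).toMonoidHom → ∃! r : G, r ∈ R ∧ M.map (MulAut.conj r).toMonoidHom = M.map (MulAut.conj g).toMonoidHom := by
  have hxM : x ∈ M := sigmaCore_le M hx
  by_cases h : centralizer ({x} : Set G) ≤ M
  · have hinf : M ⊓ centralizer ({x} : Set G) = centralizer ({x} : Set G) := inf_eq_right.mpr h
    refine ⟨?_, ⊥, ?_, ?_, fun g hg => ?_⟩
    · rw [hinf, relIndex_self]; exact Nat.coprime_one_right _
    · rw [normalizer_eq_top]; exact le_top
    · rw [hinf]
      exact ⟨le_rfl, bot_le, inf_bot_eq _, fun c hc => ⟨c, hc, 1, one_mem _, (mul_one c).symm⟩⟩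
    · have h1 := existsUnique_supportR hG hM hx hx1 (g := g) hg
      rw [supportR_of_le h] at h1
      exact h1
  · obtain ⟨N, hN⟩ := exists_support hG hM hx hx1 h
    exact ⟨hN.coprime hG hxM, _, hN.le_normalizer, hN.compl_centralizer hxM,
      fun g hg => hN.existsUnique_conj hG hM hx hx1 hg⟩

end Cfsg.Agent.S1374
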