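import Cfsg.Statements.S1375
import Cfsg.Agent.Lib.Local.Sigma.DecompBasic
-- import your own Cfsg.Agent.* helpers here

set_option autoImplicit false
open Cfsg

namespace Cfsg.Agent.S1375

open Subgroup Cfsg.Lib Cfsg.Lib.Local Cfsg.Lib.Local.Uniq Cfsg.Lib.Local.Sigma

/-- Let G be a minimal simple group of odd order, M a maximal subgroup, x ≠ 1 in M_σ with C_G(x) not contained in M. Then exactly one maximal subgroup N contains C_G(x); for it N_σ = N_F, C_{N_σ}(x) is a normal subgroup of C_G(x) complementing C_M(x), M ∩ N is a complement to N_σ in N, and for every standard factorisation N = K' U' N_σ one has U' ≠ 1 and x ∈ A(N) with x ∉ N_σ. -/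
theorem result {G : Type*} [Group G] [Finite G] (hG : Cfsg.IsMinSimpleOddOrder G)
    (M : Subgroup G) (hM : IsCoatom M) (x : G) (hx : x ∈ Cfsg.sigmaCore M) (hx1 : x ≠ 1) (hxM : ¬ Subgroup.centralizer ({x} : Set G) ≤ M) :
    ∃ N : Subgroup G, (IsCoatom N ∧ Subgroup.centralizer ({x} : Set G) ≤ N) ∧ (∀ L : Subgroup G, IsCoatom L → Subgroup.centralizer ({x} : Set G) ≤ L → L = N) ∧
        Cfsg.sigmaCore N = Cfsg.fittingHallOf N ∧
        Subgroup.centralizer ({x} : Set G) ≤ Subgroup.normalizer ((Cfsg.sigmaCore N ⊓ Subgroup.centralizer ({x} : Set G) : Subgroup G) : Set G) ∧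
        Cfsg.IsComplIn (M ⊓ Subgroup.centralizer ({x} : Set G)) (Cfsg.sigmaCore N ⊓ Subgroup.centralizer ({x} : Set G)) (Subgroup.centralizer ({x} : Set G)) ∧
        Cfsg.IsComplIn (M ⊓ N) (Cfsg.sigmaCore N) N ∧
        ∀ K' U' : Subgroup G, Cfsg.IsSigmaDecomposition N K' U' → U' ≠ ⊥ ∧ x ∈ Cfsg.sigmaA N U' ∧ x ∉ Cfsg.sigmaCore N := by
  obtain ⟨N, hN⟩ := exists_support hG hM hx hx1 hxM
  have hxM' : x ∈ M := sigmaCore_le M hx
  refine ⟨N, ⟨hN.coatom, hN.le⟩, hN.unique, (hN.fittingHallOf_eq hG).symm, hN.le_normalizer,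
    hN.compl_centralizer hxM', hN.compl.compl, fun K' U' hKU => ?_⟩
  have hxN : x ∈ N := (hN.mem hxM').2
  obtain ⟨q, hq, hqd⟩ := Nat.exists_prime_and_dvd (n := orderOf x) fun e => hx1 (orderOf_eq_one_iff.mp e)
  have hxσ : x ∉ Cfsg.sigmaCore N := fun hc => (hN.tau2 q hq hqd).2.1
    (sigmaCore_isPiSub N q hq (hqd.trans (Subgroup.orderOf_dvd_natCard _ hc)))
  have hmem : x ∈ U' ⊔ Cfsg.sigmaCore N := decomp_mem_of_coprime hKU hxN
    (Nat.coprime_of_dvd fun t ht h1 h2 => by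
      rcases kappa_tau (hKU.hall.2.1 t ht h2) with h3 | h3
      · exact (hN.tau2 t ht h1).2.2.2 h3.2.2.2.2
      · exact (hN.tau2 t ht h1).2.2.2 h3.2.2.2)
  obtain ⟨n, hn, hn1⟩ := (bot_or_exists_ne_one _).resolve_left hN.fix
  refine ⟨fun e => hxσ ?_, ⟨⟨hxN, n, hn.1, hn1, (mem_centralizer_singleton_iff.mp hn.2).symm⟩, hmem⟩, hxσ⟩
  rwa [e, bot_sup_eq] at hmem

end Cfsg.Agent.S1375
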