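import Cfsg.Statements.S1376
import Cfsg.Agent.Lib.Local.Sigma.NeighbourCyclic
import Cfsg.Agent.S1369
-- import your own Cfsg.Agent.* helpers here

set_option autoImplicit false
open Cfsg

namespace Cfsg.Agent.S1376

open Subgroup Cfsg.Lib Cfsg.Lib.Local Cfsg.Lib.Local.Uniq Cfsg.Lib.Local.Sigma

/-- Let G be a minimal simple group of odd order, M a maximal subgroup, x ≠ 1 in M_σ with C_G(x) not contained in M, and N a maximal subgroup containing C_G(x) with κ(N) nonempty. Then κ(M) is empty, M has a cyclic Frobenius complement (M is a Frobenius group), and M_F is not a TI-subset of G. -/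
theorem result {G : Type*} [Group G] [Finite G] (hG : Cfsg.IsMinSimpleOddOrder G)
    (M : Subgroup G) (hM : IsCoatom M) (x : G) (hx : x ∈ Cfsg.sigmaCore M) (hx1 : x ≠ 1) (hxM : ¬ Subgroup.centralizer ({x} : Set G) ≤ M)
    (N : Subgroup G) (hN : IsCoatom N) (hxN : Subgroup.centralizer ({x} : Set G) ≤ N) (hkN : (Cfsg.kappa N).Nonempty) :
    Cfsg.kappa M = ∅ ∧ (∃ E : Subgroup ↥M, Cfsg.IsFrobeniusComplement E ∧ IsCyclic E) ∧ ¬ Cfsg.IsTISubset (Cfsg.fittingHallOf M : Set G) := by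
  obtain ⟨N₁, hS⟩ := exists_support hG hM hx hx1 hxM
  obtain rfl := hS.unique N hN hxN
  obtain ⟨q, hq, hqd⟩ := Nat.exists_prime_and_dvd (n := orderOf x) fun e => hx1 (orderOf_eq_one_iff.mp e)
  haveI : Fact q.Prime := ⟨hq⟩
  have hqσ : q ∈ Cfsg.sigma M := sigmaCore_isPiSub M q hq (hqd.trans (Subgroup.orderOf_dvd_natCard _ hx))
  have hτ := hS.tau2 q hq hqd
  obtain ⟨t, ht⟩ := hkN
  obtain ⟨K, hK, -⟩ := exists_hall_ge (π := Cfsg.kappa N) (hG.2.2.2 N hN.1) (bot_le : ⊥ ≤ N)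
    fun s hs hd => absurd (card_bot (G := G) ▸ hd) hs.not_dvd_one
  have hK1 : K ≠ ⊥ := fun e => hK.2.2 t ht.1 ht (by rw [e, relIndex_bot_left]; exact ht.2.1)
  obtain ⟨L, hL, -⟩ := exists_pair hG hN hK hK1
  obtain ⟨U, hU⟩ := exists_decomp hG hN hK
  have hUh := decomp_hall hG hN hU
  have hqU : q ∣ Nat.card U := by
    have h1 := dvd_of_not_rankLE hτ.2.2.2
    rw [← Core.card_mul_relIndex hUh.1] at h1
    exact (hq.dvd_mul.mp h1).resolve_right (hUh.2.2 q hq ⟨hq, tau2_not_kappa hτ, hτ.2.1⟩)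
  have hU1 : U ≠ ⊥ := fun e => hq.not_dvd_one (by rw [e, card_bot] at hqU; exact hqU)
  obtain ⟨R⟩ : Nonempty (Sylow q U) := inferInstance
  have hR1 : (R : Subgroup U).map U.subtype ≠ ⊥ := fun e => by
    have h2 : Nat.card ((R : Subgroup U).map U.subtype : Subgroup G) = 1 := by rw [e, card_bot]
    rw [Core.card_map_subtype, R.card_eq_multiplicity, Nat.pow_eq_one] at h2
    exact h2.elim hq.ne_one (hq.factorization_pos_of_dvd Nat.card_pos.ne' hqU).ne'
  obtain ⟨H, hH, hRH⟩ := exists_coatom (OddTransitivity.normalizer_ne_top_of hG hR1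
    (ne_top_of_isPGroup hG (R.isPGroup'.map U.subtype)))
  have h : Neighbour N K U L H := ⟨hG, hN, hU, hK1, hU1, hL, hH, ⟨q, inferInstance, hqU, R, hRH⟩⟩
  obtain ⟨g, hMH⟩ := sigma_disjoint hG hH hM (h.U_sigma hq hqU) hqσ
  have hMσ : Cfsg.sigmaCore M = cj g (Cfsg.sigmaCore H) := by rw [hMH, sigmaCore_cj hG hH g]
  obtain ⟨x₀, hx₀, hx₀e⟩ := hMσ.le hx
  have hτ2 : Cfsg.tau2 H = ∅ := h.tau2_eq_empty fun a _ ha => ⟨g, hxN (mem_centralizer_singleton_iff.mpr (by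
    change g * x₀ * g⁻¹ = x at hx₀e
    rw [← hx₀e, conj_mul, conj_mul, mem_centralizer_iff.mp ha x₀ hx₀]))⟩
  haveI := h.isCyclic_inter hτ2
  set E₀ := H ⊓ L
  set E := cj g E₀
  have hEM : E ≤ M := hMH ▸ map_mono h.compl.le
  haveI hEc : IsCyclic E := isCyclic_of_surjective _
    (E₀.equivMapOfInjective (MulAut.conj g).toMonoidHom (MulAut.conj g).injective).surjective
  have hEbot : E ⊓ Cfsg.sigmaCore M = ⊥ := by
    rw [hMσ, show cj g E₀ ⊓ cj g (Cfsg.sigmaCore H) = cj g (E₀ ⊓ Cfsg.sigmaCore H) from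
      (map_inf _ _ _ (MulAut.conj g).injective).symm, h.compl.compl.2.2.1]
    exact Subgroup.map_bot _
  have hprod : ∀ m ∈ M, ∃ a ∈ E, ∃ b ∈ Cfsg.sigmaCore M, m = a * b := fun m hm => by
    obtain ⟨m₀, hm₀, rfl⟩ := hMH.le hm
    obtain ⟨a, ha, b, hb, rfl⟩ := h.compl.compl.2.2.2 m₀ hm₀
    exact ⟨_, mem_map_of_mem _ ha, _, hMσ.ge (mem_map_of_mem _ hb), map_mul _ a b⟩
  have hfree : ∀ z ∈ E, ∀ p : ℕ, p.Prime → z ^ p = 1 → z ≠ 1 →
      ∀ w ∈ Cfsg.sigmaCore M, w * z = z * w → w = 1 := by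
    intro z hz p hp hzp hz1 w hw hwz
    haveI : Fact p.Prime := ⟨hp⟩
    obtain ⟨z₀, hz₀, rfl⟩ := hz
    obtain ⟨w₀, hw₀, rfl⟩ := hMσ.le hw
    have h1 : w₀ = 1 := mem_bot.mp ((h.free_of_prime hτ2 hz₀
      ((MulAut.conj g).injective (by rw [map_pow, map_one]; exact hzp))
      (fun e => hz1 (by rw [e, map_one]))).le (Subgroup.mem_inf.mpr ⟨hw₀, mem_centralizer_singleton_iff.mpr
        ((MulAut.conj g).injective (by rw [map_mul, map_mul]; exact hwz))⟩))
    rw [h1, map_one]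
  obtain ⟨k, hk, hk1, -, -⟩ := exists_generator h.K_prime
  have hE1 : E ≠ ⊥ := fun e => hk1 (by
    have h1 := e.le (mem_map_of_mem (MulAut.conj g).toMonoidHom (h.k_mem_inter hk))
    rw [mem_bot] at h1
    exact conj_eq_one_iff.mp h1)
  refine ⟨?_, ⟨E.subgroupOf M, ⟨?_, ?_, ?_⟩,
    isCyclic_of_surjective _ (subgroupOfEquivOfLe hEM).symm.surjective⟩, ?_⟩
  · refine Set.not_nonempty_iff_eq_empty.mp fun hne => ?_
    obtain ⟨a, e | e⟩ := (Cfsg.Agent.S1369.result hG N hN K U hU hK1 L hL.coatom hL.eq hL.hall).2 M hM hne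
    · exact h.not_conj (g⁻¹ * a) (by rw [← cj_cj, show cj a N = M from e.symm, hMH, cj_inv_cj])
    · exact h.not_conj_L (g⁻¹ * a) (by rw [← cj_cj, show cj a L = M from e.symm, hMH, cj_inv_cj])
  · rw [Ne, subgroupOf_eq_bot]
    exact fun hd => hE1 (le_bot_iff.mp ((le_inf le_rfl hEM).trans hd.eq_bot.le))
  · rw [Ne, subgroupOf_eq_top]
    exact fun hle => sigmaCore_ne_bot hG hM
      (le_bot_iff.mp ((le_inf ((sigmaCore_le M).trans hle) le_rfl).trans hEbot.le))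
  · intro m hm
    rw [eq_bot_iff]
    intro z hz
    by_contra hz1
    have hzne : ((z : ↥M) : G) ≠ 1 := fun e => hz1 (mem_bot.mpr (Subtype.ext e))
    obtain ⟨hzE, hzm⟩ := Subgroup.mem_inf.mp hz
    rw [Subgroup.mem_pointwise_smul_iff_inv_smul_mem] at hzm
    have hzm' : (m : G)⁻¹ * z * m ∈ E := by
      simpa [MulAut.smul_def, mem_subgroupOf] using hzm
    rw [mem_subgroupOf] at hzE
    obtain ⟨a, ha, b, hb, hab⟩ := hprod m m.2
    set y : G := a⁻¹ * z * a with hy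
    have hyE : y ∈ E := mul_mem (mul_mem (inv_mem ha) hzE) ha
    have hyb : b⁻¹ * y * b ∈ E := by
      rw [hab] at hzm'
      simpa [hy, mul_assoc] using hzm'
    have hy1 : y ≠ 1 := fun e => hzne (by
      calc ((z : ↥M) : G) = a * y * a⁻¹ := by rw [hy]; group
        _ = 1 := by rw [e]; group)
    have hcomm : b⁻¹ * y * b * y⁻¹ ∈ E ⊓ Cfsg.sigmaCore M := by
      refine Subgroup.mem_inf.mpr ⟨mul_mem hyb (inv_mem hyE), ?_⟩
      rw [show b⁻¹ * y * b * y⁻¹ = b⁻¹ * (y * b * y⁻¹) by group]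
      exact mul_mem (inv_mem hb) ((mem_normalizer_iff.mp (le_normalizer_sigmaCore M (hEM hyE)) b).mp hb)
    rw [hEbot, mem_bot, mul_inv_eq_one] at hcomm
    have hyb' : b * y = y * b := by
      calc b * y = b * (b⁻¹ * y * b) := by rw [hcomm]
        _ = y * b := by group
    obtain ⟨p, hp, hpd⟩ := Nat.exists_prime_and_dvd (n := orderOf y) fun e => hy1 (orderOf_eq_one_iff.mp e)
    have hwo := orderOf_pow_orderOf_div (orderOf_pos y).ne' hpd
    have hb1 : b = 1 := hfree _ (pow_mem hyE (orderOf y / p)) p hp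
      (orderOf_dvd_iff_pow_eq_one.mp (dvd_of_eq hwo)) (fun e => hp.ne_one (by rw [← hwo, e, orderOf_one]))
      b hb ((show Commute b y from hyb').pow_right _).eq
    exact hm (mem_subgroupOf.mpr (by rw [hab, hb1, mul_one]; exact ha))
  · -- `M_F` is not a TI-subset
    obtain ⟨p, w, hp, hw, hwp, hw1, -⟩ := exists_prime_elem hE1
    have hnil : Group.IsNilpotent (Cfsg.sigmaCore M) := isNilpotent_of_fixedfree hp hwp
      (le_normalizer_sigmaCore M (hEM hw)) (le_bot_iff.mp fun v hv => mem_bot.mpr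
        (hfree w hw p hp hwp hw1 v hv.1 (mem_centralizer_singleton_iff.mp hv.2)))
    obtain ⟨n, hn, hn1⟩ := (bot_or_exists_ne_one _).resolve_left hS.fix
    intro hTI
    rw [Sigma.fittingHallOf_eq hG hM hnil] at hTI
    refine hx1 (hTI n (fun hnn => hn1 ?_) x hx ?_)
    · rw [normalizer_normal_eq hG hM (sigmaCore_le M) (sigmaCore_ne_bot hG hM) (le_normalizer_sigmaCore M)] at hnn
      exact mem_bot.mp (hS.compl.compl.2.2.1.le
        (Subgroup.mem_inf.mpr ⟨Subgroup.mem_inf.mpr ⟨hnn, sigmaCore_le N hn.1⟩, hn.1⟩))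
    · rw [mem_centralizer_singleton_iff.mp hn.2, mul_inv_cancel_right]
      exact hx

end Cfsg.Agent.S1376
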