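import Cfsg.Statements.S1390
import Cfsg.Agent.Lib.Local.Sigma.TypeOneTwo
-- import your own Cfsg.Agent.* helpers here

set_option autoImplicit false
open Cfsg

namespace Cfsg.Agent.S1390

open Subgroup Cfsg.Lib Cfsg.Lib.Local Cfsg.Lib.Local.Uniq Cfsg.Lib.Local.Sigma

/-- Let G be a minimal simple group of odd order, M a maximal subgroup and H = M_F; suppose M is of Type I and U is a complement to H in M, or M is of Type II and U is a complement to H in M'. Then every Sylow subgroup of U is abelian with no elementary abelian subgroup of order p ^ 3; for every nonempty set X of non-identity elements of U centralizing a non-identity element of H, C_G(X) ≤ M and M is the unique maximal subgroup containing C_G(X); and A(M) with A₁(M) removed is a TI-subset of G. -/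
theorem result {G : Type*} [Group G] [Finite G] (hG : Cfsg.IsMinSimpleOddOrder G)
    (M : Subgroup G) (hM : IsCoatom M) (U : Subgroup G)
    (hU : (Cfsg.IsOfTypeI M ∧ Cfsg.IsComplIn (Cfsg.fittingHallOf M) U M) ∨ (Cfsg.IsOfTypeII M ∧ Cfsg.IsComplIn (Cfsg.fittingHallOf M) U ⁅M, M⁆)) :
    (∀ (p : ℕ), p.Prime → ∀ P : Sylow p U, IsMulCommutative (P : Subgroup U) ∧ Cfsg.PRankLE p 2 (P : Subgroup U)) ∧
      (∀ X : Set G, X ⊆ (U : Set G) \ {1} → X.Nonempty → Cfsg.fittingHallOf M ⊓ Subgroup.centralizer X ≠ ⊥ →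
        Subgroup.centralizer X ≤ M ∧ ∀ L : Subgroup G, IsCoatom L → Subgroup.centralizer X ≤ L → L = M) ∧
      Cfsg.IsTISubset (Cfsg.typeA M \ Cfsg.typeA1 M) := by
  obtain ⟨K, hKU, hF, hcase⟩ := exists_decomp_of_type hG hM hU
  refine ⟨fun p hp P => decomp_sylow hG hM hKU hp P, fun X hXU hXne hfix => ?_, ?_⟩
  · rw [hF, ← centralizer_closure] at hfix
    have h := unique_of_fixed hG hM hKU ((closure_le _).mpr fun z hz => (hXU hz).1)
      (fun e => by
        obtain ⟨z, hz⟩ := hXne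
        exact (hXU hz).2 (mem_bot.mp (e.le (subset_closure hz)))) hfix
    rwa [centralizer_closure] at h
  · have hA : Cfsg.typeA M \ Cfsg.typeA1 M = Cfsg.sigmaA M U \ (Cfsg.sigmaCore M : Set G) := by
      have hcore : Cfsg.typeCore M = Cfsg.sigmaCore M :=
        (typeCore_eq_of hG hM hKU (hcase.imp (fun h => h.2) fun h => h.2.2)).trans hF
      have hA' : Cfsg.typeA M = {a | a ∈ U ⊔ Cfsg.sigmaCore M ∧ a ≠ 1 ∧
          ∃ x ∈ Cfsg.sigmaCore M, x ≠ 1 ∧ a * x = x * a} := by
        unfold Cfsg.typeA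
        rcases hcase with ⟨hI, hK⟩ | ⟨hI, hK, -⟩
        · rw [if_pos hI, hF]
          have h1 : U ⊔ Cfsg.sigmaCore M = M := le_antisymm (decomp_sup_le hKU)
            ((decomp_sup_eq hKU).ge.trans (by rw [hK, sup_bot_eq]))
          rw [h1]
        · rw [if_neg hI, hcore, derived_eq_decomp hG hM hKU hK]
      rw [hA', Cfsg.typeA1, hcore]
      ext a
      constructor
      · rintro ⟨⟨ha, ha1, y, hy, hy1, hay⟩, hna⟩
        exact ⟨⟨⟨decomp_sup_le hKU ha, y, hy, hy1, hay⟩, ha⟩, fun h => hna ⟨h, ha1⟩⟩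
      · rintro ⟨⟨⟨-, y, hy, hy1, hay⟩, ha⟩, hna⟩
        exact ⟨⟨ha, fun e => hna (by rw [e]; exact one_mem _), y, hy, hy1, hay⟩, fun h => hna h.1⟩
    rw [hA]
    exact Cfsg.Agent.S1362.result hG M hM K U hKU

end Cfsg.Agent.S1390
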