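import Cfsg.Statements.S1416
import Cfsg.Agent.Lib.Local.Sigma.RankTwoAlpha
import Cfsg.Agent.Lib.Local.Sigma.Focal
import Cfsg.Agent.S1394
import Cfsg.Agent.S1451

set_option autoImplicit false
open Cfsg

namespace Cfsg.Agent.S1416

open Subgroup Cfsg.Lib.Local Cfsg.Lib.Local.Uniq Cfsg.Lib.Local.Sigma
open scoped commutatorElement

universe u

variable {G : Type u} [Group G] [Finite G] {p : ℕ} [hp : Fact p.Prime] {M A : Subgroup G}

theorem isNilpotent_commutator (hG : Cfsg.IsMinSimpleOddOrder G) {L : Subgroup G} (hL : IsCoatom L)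
    (hne : ∀ q, q ∉ Cfsg.alpha L) :
    Cfsg.piCore (Cfsg.alpha L) ↥L = ⊥ ∧ Group.IsNilpotent ↥(commutator ↥L) := by
  have hbot : Cfsg.piCore (Cfsg.alpha L) ↥L = ⊥ := by
    by_contra hb
    obtain ⟨t, ht, htd⟩ := Nat.exists_prime_and_dvd (n := Nat.card (Cfsg.piCore (Cfsg.alpha L) ↥L))
      fun e => hb (eq_bot_of_card_eq _ e)
    exact hne t (Cfsg.Lib.Core.piCore_isPiSub _ L t ht htd)
  haveI := (alphaCore_hall hG hL).2.1
  exact ⟨hbot, Group.nilpotent_of_mulEquiv
    (Subgroup.equivMapOfInjective _ (QuotientGroup.mk' (Cfsg.piCore (Cfsg.alpha L) ↥L))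
      ((MonoidHom.ker_eq_bot_iff _).mp (by rw [QuotientGroup.ker_mk', hbot]))).symm⟩

theorem not_normal_line (h : Bad p M A) {z : G} (hz : z ∈ A) (hz1 : z ≠ 1)
    (hn : M ≤ normalizer (zpowers z : Set G)) : False := by
  obtain ⟨L, hL, hne, hN⟩ := h.bad z hz hz1
  exact hL.1 ((h.coatom.le_iff.mp (hn.trans hN)).resolve_right hne)

theorem normalizer_eq (hG : Cfsg.IsMinSimpleOddOrder G) (h : Bad p M A) (hn : M ≤ normalizer (A : Set G)) :
    normalizer (A : Set G) = M := by
  obtain ⟨x, hx, hx1⟩ := h.exists_ne_one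
  exact normalizer_normal_eq hG h.coatom h.le (fun e => hx1 (mem_bot.mp (e ▸ hx))) hn

/-- `O_p (M') ≠ 1`. -/
theorem case_normal (hG : Cfsg.IsMinSimpleOddOrder G) (h : Bad p M A) {P0 : Subgroup G} (hP0M : P0 ≤ M)
    (hP0n : M ≤ normalizer (P0 : Set G)) (hP0p : IsPGroup p P0) (hP0 : P0 ≠ ⊥) :
    p ∈ Cfsg.sigma M ∧ centralizer (A : Set G) ≤ M := by
  have hp2 := h.ne_two hG
  have hM := h.coatom
  have hAp := Cfsg.Lib.PGroup.isPGroup_of_isElementaryAbelian h.elem
  obtain ⟨S, hS⟩ := (hAp.of_equiv (subgroupOfEquivOfLe h.le).symm : IsPGroup p (A.subgroupOf M)).exists_le_sylow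
  set PG := (S : Subgroup M).map M.subtype
  have hPM : PG ≤ M := map_subtype_le _
  have hPp : IsPGroup p PG := S.isPGroup'.map _
  have hAP : A ≤ PG := by rw [← map_subgroupOf_eq_of_le h.le]; exact map_mono hS
  have hP0P : P0 ≤ PG := by
    rw [← map_subgroupOf_eq_of_le hP0M]
    haveI := (normal_subgroupOf_iff_le_normalizer hP0M).mpr hP0n
    exact map_mono (IsPGroup.le_sylow_of_normal (N := P0.subgroupOf M) hP0p.comap_subtype S)
  set Y0 := omegaZ p P0
  have hY0P : Y0 ≤ P0 := fun y hy => hy.1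
  have hY0n : M ≤ normalizer (Y0 : Set G) := hP0n.trans (normalizer_le_normalizer_omegaZ P0)
  obtain ⟨y, hyP, hyp, hy1, hyc⟩ := exists_central hP0p le_rfl le_normalizer hP0
  have hY0 : Y0 ≠ ⊥ := fun e => hy1 (mem_bot.mp (e.le ⟨hyP, hyc, hyp⟩))
  have hYel : Cfsg.IsElementaryAbelian p Y0 := omegaZ_elementary P0
  have hYc : Nat.card Y0 ≤ p ^ 2 :=
    card_le_sq (not_not.mp fun hr => h.not_mem_alpha hG ⟨hp.out, hr⟩) (hY0P.trans hP0M) hYel
  have hcent : ∀ {z : G}, z ^ p = 1 → z ∈ centralizer (PG : Set G) → z ∈ A := fun hzp hzc =>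
    h.mem_of_centralizes hG hzp (centralizer_le hAP hzc)
  obtain ⟨z, hzY, hzp, hz1, hzc⟩ := exists_central hPp (hY0P.trans hP0P) (hPM.trans hY0n) hY0
  have hNA : normalizer (A : Set G) = M := by
    by_cases hAY : A ≤ centralizer (Y0 : Set G)
    · have hle : Y0 ≤ A := fun v hv => h.mem_of_centralizes hG (hYel.2 v hv) (le_centralizer_iff.mp hAY hv)
      rcases eq_or_lt_of_le hle with heq | hlt
      · exact normalizer_eq hG h (heq ▸ hY0n)
      exfalso
      refine not_normal_line h (hle hzY) hz1 ?_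
      have : zpowers z = Y0 := by
        refine eq_of_le_of_card_ge (zpowers_le.mpr hzY) ?_
        have h1 := mul_card_le_of_lt hAp hlt
        rw [h.card, sq] at h1
        rw [card_zpowers_eq hzp hz1]
        exact Nat.le_of_mul_le_mul_left h1 hp.out.pos
      rwa [this]
    · exfalso
      obtain ⟨g, hg, hgC⟩ := SetLike.not_le_iff_exists.mp hAY
      exact not_normal_line h (hcent hzp hzc) hz1 (hY0n.trans (fixed_line hG.1 hp2 hYel hYc
        (hY0n (h.le hg)) (pow_pow_eq_one hAp hg) hgC hzY hzp hz1 (mem_centralizer_iff.mp hzc g (hAP hg))))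
  refine ⟨⟨hp.out, ((dvd_pow_self p two_ne_zero).trans h.card.symm.dvd).trans (card_dvd_of_le h.le), S,
    fun n hn => by_contra fun hnM => ?_⟩, (centralizer_le_normalizer _).trans hNA.le⟩
  have hnA : n ∉ normalizer (A : Set G) := fun h' => hnM (hNA.le h')
  obtain ⟨a, ha, hna⟩ : ∃ a ∈ A, n * a * n⁻¹ ∉ centralizer (A : Set G) := by
    by_contra hne
    push Not at hne
    refine hnA (Cfsg.Lib.Core.mem_normalizer_iff_map_conj.mpr ?_)
    refine eq_of_le_of_card_ge ?_ (by rw [Cfsg.Lib.Coprime.card_map_conj])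
    rintro _ ⟨w, hw, rfl⟩
    exact h.mem_of_centralizes hG (by simp [conj_pow, h.elem.2 w hw]) (hne w hw)
  have hgP : n * a * n⁻¹ ∈ PG := (mem_normalizer_iff.mp hn a).mp (hAP ha)
  obtain ⟨z', hzA, hzp', hz1', hzc'⟩ := exists_central hPp hAP (hPM.trans hNA.ge)
    (fun e => by
      obtain ⟨x, hx, hx1⟩ := h.exists_ne_one
      exact hx1 (mem_bot.mp (e ▸ hx)))
  exact not_normal_line h hzA hz1' (hNA.ge.trans (fixed_line hG.1 hp2 h.elem h.card.le (hNA.ge (hPM hgP))
    (pow_pow_eq_one hPp hgP) hna hzA hzp' hz1' (mem_centralizer_iff.mp hzc' _ hgP)))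

/-- `O_p (M') = 1` is impossible. -/
theorem case_trivial (hG : Cfsg.IsMinSimpleOddOrder G) (h : Bad p M A)
    (hα : ∀ q, q ∉ Cfsg.alpha M) (hnil : Group.IsNilpotent ↥(commutator ↥M))
    (hno : ∀ y ∈ ⁅M, M⁆, y ^ p = 1 → y = 1) : False := by
  haveI := h.elem.1
  have hp2 := h.ne_two hG
  have hM := h.coatom
  haveI hsolM : Group.IsSolvable M := hG.2.2.2 M hM.1
  have hAp := Cfsg.Lib.PGroup.isPGroup_of_isElementaryAbelian h.elem
  have hsolA : Group.IsSolvable A := Group.isSolvable_of_comm fun a b => mul_comm' a b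
  have hM'le : ⁅M, M⁆ ≤ M := (map_subtype_commutator M).symm.le.trans (map_subtype_le _)
  have hM'n : M ≤ normalizer ((⁅M, M⁆ : Subgroup G) : Set G) := by
    rw [← map_subtype_commutator M]; exact le_normalizer_map_normal _
  have hpM' : ¬ p ∣ Nat.card ↥⁅M, M⁆ := fun hd => by
    obtain ⟨⟨y, hy⟩, hy'⟩ := exists_prime_orderOf_dvd_card' p hd
    rw [Subgroup.orderOf_mk] at hy'
    rw [hno y hy (hy' ▸ pow_orderOf_eq_one y), orderOf_one] at hy'
    exact hp.out.ne_one hy'.symm
  -- `N_M (A) = C_M (A)`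
  have hNC : ∀ m ∈ M, m ∈ normalizer (A : Set G) → m ∈ centralizer (A : Set G) := fun m hm hmA =>
    mem_centralizer_iff.mpr fun a ha => (commutatorElement_eq_one_iff_mul_comm.mp
      (hno _ (commutator_mem_commutator hm (h.le ha))
        (h.elem.2 _ (mul_mem ((mem_normalizer_iff.mp hmA a).mp ha) (inv_mem ha))))).symm
  have hnn : ¬ M ≤ normalizer (A : Set G) := fun hn => by
    obtain ⟨x, hx, hx1⟩ := h.exists_ne_one
    exact not_normal_line h hx hx1 (le_trans (fun m hm => h.centralizer_le_singleton hx (hNC m hm (hn hm)))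
      (centralizer_le_normalizer_zpowers x))
  -- `M = M' C_M (A)`
  have hMgen : ∀ L : Subgroup G, ⁅M, M⁆ ≤ L → centralizer (A : Set G) ≤ L → M ≤ L := by
    intro L hL1 hL2 m hm
    have hcopA : (Nat.card A).Coprime (Nat.card ↥⁅M, M⁆) := h.coprime_of_not_dvd hpM'
    obtain ⟨n, hn, he⟩ := Cfsg.Lib.Coprime.exists_conj_of_coprime ⁅M, M⁆ A (cj m A) (h.le.trans hM'n) hcopA
      (Or.inl hsolA) (by
        rintro _ ⟨a, ha, rfl⟩
        have h1 : ⁅m, a⁆ * a ∈ ⁅M, M⁆ ⊔ A := mul_mem_sup (commutator_mem_commutator hm (h.le ha)) ha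
        simpa [commutatorElement_def] using h1)
      (Cfsg.Lib.Coprime.card_map_conj A m)
    have h1 : n⁻¹ * m ∈ normalizer (A : Set G) := by
      rw [Cfsg.Lib.Core.mem_normalizer_iff_map_conj]
      show cj (n⁻¹ * m) A = A
      rw [← cj_cj, he]
      show cj n⁻¹ (cj n A) = A
      rw [cj_cj, inv_mul_cancel, cj_one]
    have h2 := mul_mem (hL1 hn) (hL2 (hNC _ (mul_mem (inv_mem (hM'le hn)) hm) h1))
    rwa [mul_inv_cancel_left] at h2
  -- the largest prime of `M`
  have hpd : p ∣ Nat.card M := ((dvd_pow_self p two_ne_zero).trans h.card.symm.dvd).trans (card_dvd_of_le h.le)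
  set r := (Nat.card M).primeFactors.max' ⟨p, Nat.mem_primeFactors.mpr ⟨hp.out, hpd, Nat.card_pos.ne'⟩⟩
  have hrmem := Finset.max'_mem (Nat.card M).primeFactors ⟨p, Nat.mem_primeFactors.mpr ⟨hp.out, hpd, Nat.card_pos.ne'⟩⟩
  obtain ⟨hrP, hrd, -⟩ := Nat.mem_primeFactors.mp hrmem
  haveI hr : Fact r.Prime := ⟨hrP⟩
  have hrankM : Cfsg.RankLE 2 ↥M := fun t ht => not_not.mp fun h' => hα t ⟨ht, h'⟩
  obtain ⟨N, hNchar, hN⟩ := (Cfsg.Agent.S1451.result (odd_subgroup hG M) (Or.inl hrankM)).2.2 (r - 1)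
  haveI := hNchar
  set Q := N.map M.subtype with hQdef
  have hQM : Q ≤ M := map_subtype_le _
  have hQn : M ≤ normalizer (Q : Set G) := le_normalizer_map_normal _
  have hQp : IsPGroup r Q := by
    refine IsPGroup.map ?_ _
    rw [IsPGroup.iff_card]
    refine ⟨_, Nat.eq_prime_pow_of_unique_prime_dvd Nat.card_pos.ne' fun {t} ht hd => ?_⟩
    have h1 : t ≤ r := Finset.le_max' _ _
      (Nat.mem_primeFactors.mpr ⟨ht, hd.trans N.card_subgroup_dvd_card, Nat.card_pos.ne'⟩)
    have h2 := (hN.1 t ht hd).2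
    omega
  have hQrel : ¬ r ∣ Q.relIndex M := by
    rw [show Q.relIndex M = N.index from congrArg Subgroup.index
      (comap_map_eq_self_of_injective M.subtype_injective N)]
    exact hN.2 r hrP ⟨hrP, by have := hrP.two_le; omega⟩
  have hQ1 : Q ≠ ⊥ := fun e => hQrel (by rw [e, relIndex_bot_left]; exact hrd)
  have hNQ : normalizer (Q : Set G) = M := normalizer_normal_eq hG hM hQM hQ1 hQn
  have hQi : ¬ r ∣ Q.index := sylow_of_normalizer_le hQM hQp hQrel hNQ.le
  have hr2 : r ≠ 2 := Uniq.ne_two hG (hrd.trans M.card_subgroup_dvd_card)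
  have hrp : r ≠ p := by
    intro e
    have hQp' : IsPGroup p Q := fun g => e ▸ hQp g
    have hAQ : A ≤ Q := fun a ha => by
      rw [← hNQ] at hM'le
      have hle := (hQp.toSylow hQi).3 (Q := zpowers a ⊔ Q) ?_ le_sup_right
      · exact hle.le (mem_sup_left (mem_zpowers a))
      · refine IsPGroup.to_sup_of_normal_right' ?_ hQp (zpowers_le.mpr (hQn (h.le ha)))
        exact fun g => e ▸ (hAp.to_le (zpowers_le.mpr ha)) g
    refine hnn (fun m hm => ?_)
    rw [Cfsg.Lib.Core.mem_normalizer_iff_map_conj]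
    refine eq_of_le_of_card_ge ?_ (by rw [Cfsg.Lib.Coprime.card_map_conj])
    have hQab : Q ≤ centralizer (A : Set G) := fun u hu => mem_centralizer_iff.mpr fun a ha => by
      refine (commutatorElement_eq_one_iff_mul_comm.mp ?_)
      obtain ⟨k, hk⟩ := pow_pow_eq_one hQp' (mul_mem (mul_mem (mul_mem (hAQ ha) hu) (inv_mem (hAQ ha))) (inv_mem hu))
      refine orderOf_eq_one_iff.mp (Nat.eq_one_of_dvd_coprimes (a := p ^ k) (b := Nat.card ↥⁅M, M⁆) ?_ ?_ ?_)
      · exact (hp.out.coprime_iff_not_dvd.mpr hpM').pow_left k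
      · exact orderOf_dvd_of_pow_eq_one hk
      · rw [← Subgroup.orderOf_mk ⁅a, u⁆ (commutator_mem_commutator (h.le ha) (hQM hu))]
        exact orderOf_dvd_natCard _
    rintro _ ⟨a, ha, rfl⟩
    exact h.mem_of_centralizes hG (by simp [conj_pow, h.elem.2 a ha])
      (hQab ((mem_normalizer_iff.mp (hQn hm) a).mp (hAQ ha)))
  have hTH := h.transitivity hG
  have hrA : ¬ r ∣ Nat.card A := fun hd => hrp (h.card_dvd_singleton hrP hd)
  have hAQ : A ≤ normalizer (Q : Set G) := h.le.trans hQn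
  have hQm := maxInv_of_sylow hQp hQi hAQ
  have hcopQ : (Nat.card A).Coprime (Nat.card Q) := by
    obtain ⟨i, hi⟩ := IsPGroup.iff_card.mp hQp
    rw [hi]; exact ((hrP.coprime_iff_not_dvd.mpr hrA).symm).pow_right i
  have hAne : A ≠ ⊥ := fun e => by
    obtain ⟨x, hx, hx1⟩ := h.exists_ne_one
    exact hx1 (mem_bot.mp (e ▸ hx))
  by_cases hfix : Q ⊓ centralizer (A : Set G) = ⊥
  swap
  · -- `Q` has fixed points
    have hrC : r ∣ Nat.card (centralizer (A : Set G)) := by
      obtain ⟨u, hu, hur, hu1⟩ := exists_orderOf (hQp.to_le inf_le_left) hfix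
      exact (card_zpowers_eq hur hu1).symm.dvd.trans (card_dvd_of_le (zpowers_le.mpr hu.2))
    have htrans := Cfsg.Agent.S1394.result hG A hTH (fun h1 => not_rankLE_of_elementary
      (le_inf le_rfl h.le_centralizer) h.elem h.card.ge (h1 p hp.out)) r hrP hrA hrC
    have hNA : normalizer (A : Set G) ≤ centralizer (A : Set G) := by
      intro g hg
      have hgQ : cj g Q ∈ Cfsg.maxInvSubgroups ⊤ A {r} := by
        refine maxInv_of_sylow (hQp.map _) ?_ ?_
        · rwa [show (cj g Q).index = Q.index from index_map_equiv Q (MulAut.conj g)]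
        · intro a ha
          rw [Cfsg.Lib.Core.mem_normalizer_iff_map_conj]
          show cj a (cj g Q) = cj g Q
          rw [cj_cj, show a * g = g * (g⁻¹ * a * g) by group, ← cj_cj]
          exact congrArg (cj g) (Cfsg.Lib.Core.map_conj_eq_of_mem_normalizer
            (hAQ ((mem_normalizer_iff''.mp hg a).mp ha)))
      obtain ⟨k, hk, he⟩ := htrans Q hQm _ hgQ
      have hkC := OddTransitivity.piCoreOf_le _ hk
      have h1 : k⁻¹ * g ∈ M := hNQ.le <| by
        rw [Cfsg.Lib.Core.mem_normalizer_iff_map_conj]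
        show cj (k⁻¹ * g) Q = Q
        rw [← cj_cj, show cj g Q = cj k Q from he, cj_cj, inv_mul_cancel, cj_one]
      have h2 := mul_mem hkC (hNC _ h1 (mul_mem (inv_mem (centralizer_le_normalizer _ hkC)) hg))
      rwa [mul_inv_cancel_left] at h2
    obtain ⟨P, hAP⟩ := hAp.exists_le_sylow
    have hPC : (P : Subgroup G) ≤ centralizer (A : Set G) := by
      by_contra hle
      obtain ⟨g, hg, hgC, hgN⟩ := exists_normalizing P.isPGroup'
        (C := (P : Subgroup G) ⊓ centralizer (A : Set G))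
        (lt_of_le_of_ne inf_le_left fun e => hle (e.ge.trans inf_le_right))
      refine hgC ⟨hg, hNA ?_⟩
      rw [Cfsg.Lib.Core.mem_normalizer_iff_map_conj]
      refine eq_of_le_of_card_ge ?_ (by rw [Cfsg.Lib.Coprime.card_map_conj])
      rintro _ ⟨a, ha, rfl⟩
      exact h.mem_of_centralizes hG (by simp [conj_pow, h.elem.2 a ha])
        ((mem_normalizer_iff.mp hgN a).mp ⟨hAP ha, h.le_centralizer ha⟩).2
    set NP := normalizer ((P : Subgroup G) : Set G)
    have hidx : ¬ p ∣ (P : Subgroup G).relIndex NP := fun hd =>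
      P.not_dvd_index (hd.trans (relIndex_dvd_index_of_le le_normalizer))
    obtain ⟨i, hi⟩ := IsPGroup.iff_card.mp P.isPGroup'
    have hcopP : (Nat.card (P : Subgroup G)).Coprime ((P : Subgroup G).relIndex NP) := by
      rw [hi]; exact (hp.out.coprime_iff_not_dvd.mpr hidx).pow_left i
    obtain ⟨V, hVN, hVc, hPV⟩ := Cfsg.Lib.Coprime.exists_complement_of_coprime le_normalizer le_rfl hcopP
    have hVP : (Nat.card V).Coprime (Nat.card (P : Subgroup G)) := by rw [hVc]; exact hcopP.symm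
    have hVA : V ≤ centralizer (A : Set G) := by
      refine le_trans (le_trans ?_ le_rfl) hNA
      intro v hv
      rw [Cfsg.Lib.Core.mem_normalizer_iff_map_conj]
      refine eq_of_le_of_card_ge ?_ (by rw [Cfsg.Lib.Coprime.card_map_conj])
      rintro _ ⟨a, ha, rfl⟩
      exact h.mem_of_centralizes hG (by simp [conj_pow, h.elem.2 a ha])
        (hPC ((mem_normalizer_iff.mp (hVN hv) a).mp (hAP ha)))
    have hVC : V ≤ centralizer ((P : Subgroup G) : Set G) :=
      Cfsg.Lib.PGroup.le_centralizer_of_centralizes_omega hp2 V _ P.isPGroup' hVN hVP fun x hx hxp a ha =>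
        (mem_centralizer_iff.mp (hVA ha) x (h.mem_of_centralizes hG hxp (hPC hx))).symm
    have hcompl : Cfsg.IsComplIn (P : Subgroup G) V NP := by
      refine ⟨le_normalizer, hVN, (Cfsg.Lib.Coprime.disjoint_of_coprime_card hVP.symm).eq_bot, fun m hm => ?_⟩
      rw [show NP = (P : Subgroup G) ⊔ V from hPV.symm] at hm
      obtain ⟨a, ha, b, hb, e⟩ := Cfsg.Lib.Coprime.exists_mul_of_mem_sup hVN hm
      exact ⟨a, ha, b, hb, e⟩
    have hP1 := eq_commutator_complement hG P hcompl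
    rw [commutator_eq_bot_iff_le_centralizer.mpr (le_centralizer_iff.mp hVC)] at hP1
    exact hAne (le_bot_iff.mp (hAP.trans hP1.le))
  -- `Q` has no fixed points
  obtain ⟨x, hx, hx1, hU1⟩ : ∃ x ∈ A, x ≠ 1 ∧ omegaZ r Q ⊓ centralizer ({x} : Set G) ≠ ⊥ := by
    by_contra hne
    push Not at hne
    obtain ⟨z, hz, hzr, hz1, hzc⟩ := exists_central hQp le_rfl le_normalizer hQ1
    have hle : omegaZ r Q ≤ (⊥ : Subgroup G) := by
      refine (Cfsg.Lib.Coprime.le_iSup_centralizer_of_not_isCyclic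
        (not_isCyclic_of_elementary h.elem h.card.ge) (hAQ.trans (normalizer_le_normalizer_omegaZ Q))
        (hcopQ.coprime_dvd_right (card_dvd_of_le fun y hy => hy.1))).trans (iSup_le ?_)
      rintro ⟨y, hy, hy1⟩
      exact (hne y hy hy1).le
    exact hz1 (mem_bot.mp (hle ⟨hz, hzc, hzr⟩))
  set U := omegaZ r Q ⊓ centralizer ({x} : Set G) with hUdef
  have hUQ : U ≤ Q := fun u hu => hu.1.1
  have hUel : Cfsg.IsElementaryAbelian r U :=
    Cfsg.Lib.PGroup.isElementaryAbelian_of_le (omegaZ_elementary Q) inf_le_left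
  haveI := hUel.1
  have hUp : IsPGroup r U := hQp.to_le hUQ
  have hAU : A ≤ normalizer (U : Set G) := by
    rw [hUdef, ← CommutatorPLength.centralizer_zpowers x]
    exact Cfsg.Lib.Coprime.le_normalizer_inf_centralizer (hAQ.trans (normalizer_le_normalizer_omegaZ Q))
      fun a ha => mem_normalizer_zpowers_of_commute (congrArg Subtype.val (mul_comm' (⟨a, ha⟩ : A) ⟨x, hx⟩) :)
  have hUA : U ⊓ centralizer (A : Set G) = ⊥ := le_bot_iff.mp ((inf_le_inf hUQ le_rfl).trans hfix.le)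
  obtain ⟨u, hu, hu1⟩ := U.bot_or_exists_ne_one.resolve_left hU1
  obtain ⟨L, hL, hLM, hNL⟩ := h.bad x hx hx1
  have hCL := h.centralizer_le_of_normalizer hx hNL
  have hAL : A ≤ L := h.le_centralizer.trans hCL
  have hUL : U ≤ L := inf_le_right.trans ((centralizer_le_normalizer_zpowers x).trans hNL)
  have hQle : ¬ (Q ≤ L ∧ L ≤ normalizer (Q : Set G)) := fun hle => by
    rw [hNQ] at hle
    exact hM.1 ((hL.le_iff.mp hle.2).resolve_right (Ne.symm hLM))
  have hsL : r ∉ Cfsg.sigma L := fun hσ => by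
    have hle := sylow_le_of_sigma hG hrp hAp hTH hL hAL hCL (h.pClosed hG hL hAL) hσ hQp hAQ (hUQ hu) (hUL hu) hu1
    obtain ⟨P, hQP, -, hNP⟩ := Sigma.exists_sylow hσ hle hQp
    have hPQ : (P : Subgroup G) = Q := (hQp.toSylow hQi).3 P.isPGroup' hQP
    rw [hPQ, hNQ] at hNP
    exact hL.1 ((hM.le_iff.mp hNP).resolve_right hLM)
  have hrL : r ∣ Nat.card L := by
    obtain ⟨v, hv, hvr, hv1⟩ := exists_orderOf hUp hU1
    exact (card_zpowers_eq hvr hv1).symm.dvd.trans (card_dvd_of_le (zpowers_le.mpr (hUL hv)))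
  have hpcr : PClosed r ↥(commutator ↥L) :=
    (structure_of_not_beta hG hL hrL fun hβ => hsL (alpha_sub_sigma hG hL hβ.1.2)).2
  have hcomm : ∀ {a v : G}, a ∈ A → a ∈ ⁅L, L⁆ → v ∈ U → a * v = v * a := fun {a v} ha ha' hv =>
    commute_of_derivedCore (mem_derivedCore hpcr ha'
      (((Nat.coprime_primes hp.out hrP).mpr hrp.symm).coprime_dvd_left
        (orderOf_dvd_of_pow_eq_one (h.elem.2 a ha)))) (hUL hv) hUp
      (mul_mem ((mem_normalizer_iff.mp (hAU ha) v).mp hv) (inv_mem hv))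
  have hpL : p ∉ Cfsg.sigma L := fun hσ => hu1 (mem_bot.mp (hUA.le ⟨hu, mem_centralizer_iff.mpr fun a ha =>
    hcomm ha (le_commutator_of_sigma hG hL hσ hAL hAp ha) hu⟩))
  obtain ⟨s, hsα⟩ : ∃ s, s ∈ Cfsg.alpha L := by
    by_contra hne
    push Not at hne
    exact hQle (sylow_le_of_nilpotent hG hTH hL hAL hCL (isNilpotent_commutator hG hL hne).2 hrA hQp hQm hfix
      (hUQ hu) (hUL hu) hu1)
  haveI hs : Fact s.Prime := ⟨hsα.1⟩
  have hσs := alpha_sub_sigma hG hL hsα.2
  have hsp : s ≠ p := fun e => hpL (e ▸ hσs)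
  have hsr : s ≠ r := fun e => hsL (e ▸ hσs)
  have hsA : ¬ s ∣ Nat.card A := fun hd => hsp (h.card_dvd_singleton hs.out hd)
  set Lα := Cfsg.alphaCore L
  have hLαL : Lα ≤ L := map_subtype_le _
  have hLn : L ≤ normalizer (Lα : Set G) := le_normalizer_map_normal _
  have hπ : ∀ t : ℕ, t.Prime → t ∣ Nat.card Lα → t ∈ Cfsg.alpha L :=
    OddTransitivity.piCoreOf_isPiSub (π := Cfsg.alpha L) L
  have hpLα : ¬ p ∣ Nat.card Lα := fun hd => hpL (alpha_sub_sigma hG hL (hπ p hp.out hd).2)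
  have hrLα : ¬ r ∣ Nat.card Lα := fun hd => hsL (alpha_sub_sigma hG hL (hπ r hrP hd).2)
  have hcopAU : (Nat.card (U ⊔ A : Subgroup G)).Coprime (Nat.card Lα) := by
    obtain ⟨i, hi⟩ := IsPGroup.iff_card.mp hUp
    rw [Cfsg.Lib.Coprime.card_sup_of_disjoint hAU (Cfsg.Lib.Coprime.disjoint_of_coprime_card
      (hcopQ.symm.coprime_dvd_left (card_dvd_of_le hUQ))), hi]
    exact Nat.Coprime.mul_left ((hrP.coprime_iff_not_dvd.mpr hrLα).pow_left i) (h.coprime_of_not_dvd hpLα)
  obtain ⟨T, hT⟩ := Cfsg.Lib.Coprime.exists_invariant_sylow ((sup_le hUL hAL).trans hLn) hcopAU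
    (Or.inr (Cfsg.Lib.Core.isSolvable_of_le hLαL (hG.2.2.2 L hL.1))) s
  set R := (T : Subgroup Lα).map Lα.subtype with hRdef
  have hRL : R ≤ L := (map_subtype_le _).trans hLαL
  have hR : IsPGroup s R := T.isPGroup'.map _
  have hRi : ¬ s ∣ R.index := by
    rw [hRdef, index_map_subtype]
    intro hd
    rcases hs.out.dvd_mul.mp hd with h1 | h1
    · exact T.not_dvd_index h1
    · exact ((alphaCore_hall hG hL).2.2 s hs.out hsα).2 h1
  have hAR : A ≤ normalizer (R : Set G) := le_sup_right.trans hT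
  have hUR : U ≤ normalizer (R : Set G) := le_sup_left.trans hT
  have hRU := sylow_unique hG hsα.2 hR hRi
  -- `U` moves `R`
  have hmove : ¬ U ≤ centralizer (R : Set G) := by
    intro hle
    have hRC : R ≤ centralizer (U : Set G) := le_centralizer_iff.mp hle
    have hCU : centralizer (U : Set G) ≤ L :=
      le_of_unique hRU hL hRL hRC (centralizer_ne_top_of hG hU1)
    refine hL.1 ((hM.le_iff.mp (hMgen L (le_trans ?_ hCU) hCL)).resolve_right hLM)
    -- `M'` centralizes `U`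
    have hU' : U ≤ ⁅M, M⁆ := by
      refine le_trans ?_ (commutator_mono (hUQ.trans hQM) h.le)
      conv_lhs => rw [← Cfsg.Lib.Coprime.commutator_sup_centralizer_eq hAU
        (hcopQ.coprime_dvd_right (card_dvd_of_le hUQ)) (Or.inl hsolA)]
      exact sup_le le_rfl fun v hv => by rw [show v = 1 from mem_bot.mp (hUA.le hv)]; exact one_mem _
    haveI := hnil
    set C := commutator ↥M
    set f : C →* G := M.subtype.comp C.subtype
    have hf : (⊤ : Subgroup C).map f = ⁅M, M⁆ := by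
      rw [← map_map, ← MonoidHom.range_eq_map, range_subtype, map_subtype_commutator]
    have htop : (⊤ : Subgroup C) = ⨆ t : Nat.Primes, Cfsg.pCore (t : ℕ) C := by
      rw [← Cfsg.Lib.Core.fittingSubgroup_eq_iSup_pCore, Cfsg.Lib.Core.fittingSubgroup_eq_top hnil]
    rw [← hf, htop, Subgroup.map_iSup]
    refine iSup_le ?_
    rintro ⟨t, ht⟩ _ ⟨c, hc, rfl⟩
    haveI : Fact t.Prime := ⟨ht⟩
    refine mem_centralizer_iff.mpr fun v hv => ?_
    obtain ⟨v', -, rfl⟩ := hf.ge (hU' hv)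
    by_cases hv1 : f v' = 1
    · rw [hv1, one_mul, mul_one]
    by_cases htr : t = r
    · obtain rfl := htr
      have hcQ : f c ∈ Q := by
        obtain ⟨k, hk⟩ := Cfsg.Lib.Core.pCore_isPGroup r C ⟨c, hc⟩
        have hle := (hQp.toSylow hQi).3 (Q := zpowers (f c) ⊔ Q) ?_ le_sup_right
        · exact hle.le (mem_sup_left (mem_zpowers _))
        · refine IsPGroup.to_sup_of_normal_right' ?_ hQp (zpowers_le.mpr (hQn (c : M).2))
          refine IsPGroup.to_le (((Cfsg.Lib.Core.pCore_isPGroup r C).map f)) ?_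
          exact zpowers_le.mpr ⟨c, hc, rfl⟩
      exact (mem_centralizer_iff.mp (show f v' ∈ centralizer (Q : Set G) from hv.1.2.1) _ hcQ).symm
    · have hv' : v' ∈ Cfsg.pCore r C := by
        refine NarrowAut.mem_pCore_of_fitting ?_ 1 ?_
        · rw [Cfsg.Lib.Core.fittingSubgroup_eq_top hnil]; exact mem_top _
        · rw [pow_one]
          refine orderOf_eq_prime ((M.subtype_injective.comp C.subtype_injective) ?_) fun e => ?_
          · show f (v' ^ r) = f 1
            rw [map_pow, hUel.2 _ hv, map_one]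
          · exact hv1 (by rw [e, map_one])
      have hd := IsPGroup.disjoint_of_ne r t (Ne.symm htr) _ _ (Cfsg.Lib.Core.pCore_isPGroup r C)
        (Cfsg.Lib.Core.pCore_isPGroup t C)
      show f v' * f c = f c * f v'
      rw [← map_mul, ← map_mul, (commute_of_normal_of_disjoint _ _ inferInstance inferInstance hd v' c hv' hc).eq]
  have hCRne : ∀ y ∈ A, y ∉ zpowers x → R ⊓ centralizer ({y} : Set G) ≠ ⊥ := fun y hy hyx hD =>
    hmove (Averaging.centralizes_of_frobenius_group hR (by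
        obtain ⟨i, hi⟩ := IsPGroup.iff_card.mp hUp
        obtain ⟨j, hj⟩ := IsPGroup.iff_card.mp hR
        rw [hi, hj]
        exact (((Nat.coprime_primes hrP hs.out).mpr hsr.symm).pow_left i).pow_right j)
      hsp hUR (hAR hy) (hAU hy) (h.elem.2 y hy) (fun v hv hyv => mem_bot.mp (hUA.le
        ⟨hv, mem_centralizer_of_two h.elem h.card hx hx1 hy hyx
          (mem_centralizer_singleton_iff.mp hv.2).symm hyv⟩)) (hD.le.trans bot_le))
  -- `N (A) ≤ L`
  have hNA : normalizer (A : Set G) ≤ L := by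
    intro g hg
    by_cases hgx : g * x * g⁻¹ ∈ zpowers x
    · refine hNL (Cfsg.Lib.Core.mem_normalizer_iff_map_conj.mpr ?_)
      rw [MonoidHom.map_zpowers]
      exact zpowers_eq_of_mem (h.elem.2 x hx) (by simpa using hgx) (by simpa using hx1)
    set y := g * x * g⁻¹ with hy'
    have hy : y ∈ A := (mem_normalizer_iff.mp hg x).mp hx
    have hy1 : y ≠ 1 := fun e => hgx (by rw [e]; exact one_mem _)
    set w := x * y
    have hw : w ∈ A := mul_mem hx hy
    have hwx : w ∉ zpowers x := fun hw' => hgx (by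
      have := mul_mem (inv_mem (mem_zpowers x)) hw'
      rwa [inv_mul_cancel_left] at this)
    have hwy : w ∉ zpowers y := fun hw' => by
      have h1 := mul_mem hw' (inv_mem (mem_zpowers y))
      rw [mul_inv_cancel_right] at h1
      exact hgx ((zpowers_eq_of_mem (h.elem.2 y hy) h1 hx1).ge (mem_zpowers y))
    set w' := g⁻¹ * w * g with hw''
    have hw'A : w' ∈ A := (mem_normalizer_iff''.mp hg w).mp hw
    have hw'x : w' ∉ zpowers x := fun hm => hwy (by
      obtain ⟨i, hi⟩ := mem_zpowers_iff.mp hm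
      refine mem_zpowers_iff.mpr ⟨i, ?_⟩
      rw [hy', conj_zpow, hi, hw'']; group)
    obtain ⟨v1, hv1, hv11⟩ := (R ⊓ centralizer ({w} : Set G)).bot_or_exists_ne_one.resolve_left (hCRne w hw hwx)
    obtain ⟨v2, hv2, hv21⟩ := (R ⊓ centralizer ({w'} : Set G)).bot_or_exists_ne_one.resolve_left
      (hCRne w' hw'A hw'x)
    have hgAR : A ≤ normalizer (cj g R : Set G) := by
      intro a ha
      rw [Cfsg.Lib.Core.mem_normalizer_iff_map_conj]
      show cj a (cj g R) = cj g R
      rw [cj_cj, show a * g = g * (g⁻¹ * a * g) by group, ← cj_cj]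
      exact congrArg (cj g) (Cfsg.Lib.Core.map_conj_eq_of_mem_normalizer
        (hAR ((mem_normalizer_iff''.mp hg a).mp ha)))
    have hw1 : w ≠ 1 := fun e => hwx (by rw [e]; exact one_mem _)
    have hv2C : g * v2 * g⁻¹ ∈ centralizer ({w} : Set G) := by
      have hc := mem_centralizer_singleton_iff.mp hv2.2
      refine mem_centralizer_singleton_iff.mpr ?_
      calc g * v2 * g⁻¹ * w = g * (v2 * w') * g⁻¹ := by rw [hw'']; group
        _ = g * (w' * v2) * g⁻¹ := by rw [hc]
        _ = w * (g * v2 * g⁻¹) := by rw [hw'']; group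
    obtain ⟨k, hk, hle⟩ := exists_le_conj hG hTH hsA (maxInv_of_sylow hR hRi hAR) (hR.map _) hgAR
      (OddTransitivity.centralizer_ne_top hG hw1)
      (h.le_centralizer.trans (h.centralizer_le_singleton hw))
      (u := g * v2 * g⁻¹) ⟨v2, hv2.1, rfl⟩ hv2C (fun e => hv21 (conj_eq_one_iff.mp e)) hv1.1 hv1.2 hv11
    have hRgL : cj g R ≤ L := by
      refine hle.trans ?_
      rintro _ ⟨t, ht, rfl⟩
      exact mul_mem (mul_mem (hCL hk) (hRL ht)) (inv_mem (hCL hk))
    have heq := eq_of_unique (unique_conj hRU g) (isCoatom_map_conj hL g) (map_mono hRL) hL hRgL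
    have hLne : L ≠ ⊥ := fun e => hAne (le_bot_iff.mp (hAL.trans e.le))
    exact (eq_normalizer hG hL hLne hL.1 le_normalizer).le
      (Cfsg.Lib.Core.mem_normalizer_iff_map_conj.mpr heq.symm)
  -- a Sylow `p`-subgroup of `L`
  obtain ⟨S, hS⟩ := (hAp.of_equiv (subgroupOfEquivOfLe hAL).symm : IsPGroup p (A.subgroupOf L)).exists_le_sylow
  set P1 := (S : Subgroup L).map L.subtype
  have hP1L : P1 ≤ L := map_subtype_le _
  have hP1p : IsPGroup p P1 := S.isPGroup'.map _
  have hAP1 : A ≤ P1 := by rw [← map_subgroupOf_eq_of_le hAL]; exact map_mono hS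
  refine hpL ⟨hp.out, ((dvd_pow_self p two_ne_zero).trans h.card.symm.dvd).trans (card_dvd_of_le hAL), S,
    fun n hn => ?_⟩
  by_cases hcen : P1 ≤ centralizer (A : Set G)
  · refine hNA ?_
    rw [Cfsg.Lib.Core.mem_normalizer_iff_map_conj]
    refine eq_of_le_of_card_ge ?_ (by rw [Cfsg.Lib.Coprime.card_map_conj])
    rintro _ ⟨a, ha, rfl⟩
    exact h.mem_of_centralizes hG (by simp [conj_pow, h.elem.2 a ha])
      (hcen ((mem_normalizer_iff.mp hn a).mp (hAP1 ha)))
  set Z := omegaZ p P1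
  have hZA : Z ≤ A := fun z hz => h.mem_of_centralizes hG hz.2.2 (centralizer_le hAP1 hz.2.1)
  have hD : ⁅P1, P1⁆ ≠ ⊥ := fun e => hcen
    ((commutator_eq_bot_iff_le_centralizer.mp e).trans (centralizer_le hAP1))
  have hDP : ⁅P1, P1⁆ ≤ P1 := le_normalizer_iff_commutator_le_left.mp le_normalizer
  obtain ⟨z, hzD, hzp, hz1, hzc⟩ := exists_central hP1p hDP
    (normalizer_commutator_ge_left P1 P1 |> fun h' => le_trans le_rfl h') hD
  have hzZ : z ∈ Z := ⟨hDP hzD, hzc, hzp⟩
  have hzA : z ∈ A := hZA hzZ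
  have hzx : z ∈ zpowers x := by
    by_contra hzx
    refine hu1 (mem_bot.mp (hUA.le ⟨hu, mem_centralizer_of_two h.elem h.card hx hx1 hzA hzx
      (mem_centralizer_singleton_iff.mp hu.2).symm (hcomm hzA (commutator_mono hP1L hP1L hzD) hu)⟩))
  have hZz : Z = zpowers z := by
    refine (eq_of_le_of_card_ge (zpowers_le.mpr hzZ) ?_).symm
    have hlt : Z < A := lt_of_le_of_ne hZA fun e => hcen (le_centralizer_iff.mp fun a ha => (e.ge ha).2.1)
    have h1 := mul_card_le_of_lt hAp hlt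
    rw [h.card, sq] at h1
    rw [card_zpowers_eq hzp hz1]
    exact Nat.le_of_mul_le_mul_left h1 hp.out.pos
  have := normalizer_le_normalizer_omegaZ (p := p) P1 hn
  rw [show omegaZ p P1 = Z from rfl, hZz, zpowers_eq_of_mem (h.elem.2 x hx) hzx hz1] at this
  exact hNL this

/-- Let G be a minimal simple group of odd order, M a maximal subgroup, p a prime and A ≤ M elementary abelian of order p ^ 2. Then C_G(A) ≤ M. If moreover for every subgroup A₀ of A of order p, M is not the unique maximal subgroup containing N_G(A₀), then p ∈ σ(M), M_α = 1 and M_σ is nilpotent. -/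
theorem result {G : Type*} [Group G] [Finite G] (hG : Cfsg.IsMinSimpleOddOrder G)
    (M : Subgroup G) (hM : IsCoatom M) (p : ℕ) [Fact p.Prime] (A : Subgroup G) (hA : (A ≤ M ∧ Cfsg.IsElementaryAbelian p A ∧ Nat.card A = p ^ 2)) :
    Subgroup.centralizer (A : Set G) ≤ M ∧
      ((∀ A₀ : Subgroup G, A₀ ≤ A → Nat.card A₀ = p →
          ¬ (Subgroup.normalizer (A₀ : Set G) ≤ M ∧ ∀ L : Subgroup G, IsCoatom L → Subgroup.normalizer (A₀ : Set G) ≤ L → L = M)) →
        p ∈ Cfsg.sigma M ∧ Cfsg.alphaCore M = ⊥ ∧ Group.IsNilpotent (Cfsg.sigmaCore M)) := by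
  obtain ⟨hAM, hA, hA2⟩ := hA
  by_cases hbad : ∀ x ∈ A, x ≠ 1 →
      ¬ (normalizer (zpowers x : Set G) ≤ M ∧
        ∀ L : Subgroup G, IsCoatom L → normalizer (zpowers x : Set G) ≤ L → L = M)
  swap
  · push Not at hbad
    obtain ⟨x, hx, hx1, hN, hU⟩ := hbad
    refine ⟨le_trans (fun c hc => ?_) hN, fun hall => absurd ⟨hN, hU⟩
      (hall (zpowers x) (zpowers_le.mpr hx) (card_zpowers_eq (hA.2 x hx) hx1))⟩
    exact mem_normalizer_zpowers_of_commute (mem_centralizer_iff.mp hc x hx).symm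
  have h : Sigma.Bad p M A := ⟨hM, hAM, hA, hA2, fun x hx hx1 => by
    by_cases hN : normalizer (zpowers x : Set G) ≤ M
    · have := hbad x hx hx1
      push Not at this
      obtain ⟨L, hL, hNL, hne⟩ := this hN
      exact ⟨L, hL, hne, hNL⟩
    · obtain ⟨L, hL, hNL⟩ := exists_coatom (OddTransitivity.normalizer_ne_top_of hG (zpowers_ne_bot.mpr hx1)
        (ne_top_of_isPGroup hG ((Cfsg.Lib.PGroup.isPGroup_of_isElementaryAbelian hA).to_le (zpowers_le.mpr hx))))
      exact ⟨L, hL, fun e => hN (e ▸ hNL), hNL⟩⟩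
  have hα := h.alpha_empty hG
  obtain ⟨hbot, hnil⟩ := isNilpotent_commutator hG hM hα
  set P0 := ((Cfsg.pCore p ↥(commutator ↥M)).map (commutator ↥M).subtype).map M.subtype with hP0def
  have hσnil : Group.IsNilpotent (Cfsg.sigmaCore M) :=
    Cfsg.Lib.Core.isNilpotent_map (Cfsg.Lib.Core.isNilpotent_of_le (Sigma.sigmaCore_le_commutator hG hM) hnil) _
  have hα0 : Cfsg.alphaCore M = ⊥ := by rw [Cfsg.alphaCore, hbot, Subgroup.map_bot]
  by_cases hP0 : P0 = ⊥
  · refine (case_trivial hG h hα hnil fun y hy hyp => ?_).elim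
    obtain ⟨z, hz, rfl⟩ := (map_subtype_commutator M).symm ▸ hy
    by_contra hne
    refine hne (mem_bot.mp (hP0.le (mem_map_of_mem _ ⟨⟨z, hz⟩, ?_, rfl⟩)))
    refine NarrowAut.mem_pCore_of_fitting (by rw [Cfsg.Lib.Core.fittingSubgroup_eq_top hnil]; exact mem_top _) 1 ?_
    rw [pow_one]
    refine orderOf_eq_prime (Subtype.ext (M.subtype_injective (by simpa using hyp))) fun e => hne ?_
    rw [show z = 1 from congrArg Subtype.val e, map_one]
  have hP0n : M ≤ normalizer (P0 : Set G) :=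
    le_normalizer_map_normal (hN := Cfsg.Lib.Core.normal_map_char_of_normal _) _
  obtain ⟨hσ, hC⟩ := case_normal hG h (map_subtype_le _) hP0n
    (((Cfsg.Lib.Core.pCore_isPGroup p _).map _).map _) hP0
  exact ⟨hC, fun _ => ⟨hσ, hα0, hσnil⟩⟩

end Cfsg.Agent.S1416
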