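import Cfsg.Statements.S1417
import Cfsg.Agent.Lib.Local.Sigma.TauTwoNormal

set_option autoImplicit false
open Cfsg

namespace Cfsg.Agent.S1417

open Subgroup Cfsg.Lib.Local Cfsg.Lib.Local.Uniq Cfsg.Lib.Local.Sigma

/-- Let G be a minimal simple group of odd order, M a maximal subgroup, p ∈ τ₂(M) and A ≤ M elementary abelian of order p ^ 2. Then (a) M_σ is nilpotent; (b) every Sylow p-subgroup P of M is abelian, and if A ≤ P then the elements of P of order dividing p are exactly those of A and N_G(P) is not contained in M; (c) M normalizes M_σA; (d) M_σ ∩ C_G(A) = 1; (e) M_σ ∩ M* = 1 for every maximal subgroup M* ≠ M containing A; (f) M_σ ∩ C_G(A₁) = 1 for some subgroup A₁ ≤ A of order p. -/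
theorem result {G : Type*} [Group G] [Finite G] (hG : Cfsg.IsMinSimpleOddOrder G)
    (M : Subgroup G) (hM : IsCoatom M) (p : ℕ) [Fact p.Prime] (hp : p ∈ Cfsg.tau2 M) (A : Subgroup G) (hA : (A ≤ M ∧ Cfsg.IsElementaryAbelian p A ∧ Nat.card A = p ^ 2)) :
    Group.IsNilpotent (Cfsg.sigmaCore M) ∧
      (∀ P : Sylow p M, IsMulCommutative (P : Subgroup M) ∧
        (A ≤ (P : Subgroup M).map M.subtype →
          (∀ x ∈ (P : Subgroup M).map M.subtype, x ^ p = 1 ↔ x ∈ A) ∧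
          ¬ Subgroup.normalizer ((((P : Subgroup M).map M.subtype : Subgroup G)) : Set G) ≤ M)) ∧
      M ≤ Subgroup.normalizer ((Cfsg.sigmaCore M ⊔ A : Subgroup G) : Set G) ∧
      Cfsg.sigmaCore M ⊓ Subgroup.centralizer (A : Set G) = ⊥ ∧
      (∀ Mstar : Subgroup G, IsCoatom Mstar → Mstar ≠ M → A ≤ Mstar → Cfsg.sigmaCore M ⊓ Mstar = ⊥) ∧
      ∃ A₁ : Subgroup G, A₁ ≤ A ∧ Nat.card A₁ = p ∧ Cfsg.sigmaCore M ⊓ Subgroup.centralizer (A₁ : Set G) = ⊥ := by
  obtain ⟨hAM, hA, hA2⟩ := hA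
  have h : Sigma.Tau2 p M A := ⟨hM, hp, hAM, hA, hA2⟩
  refine ⟨h.isNilpotent_sigmaCore hG, fun P => ?_, ?_, h.fixedfree hG, fun L hL hne hAL => h.inter hG hL hne hAL, ?_⟩
  · set PG := (P : Subgroup M).map M.subtype
    have hPp : IsPGroup p PG := P.isPGroup'.map _
    have hPM : PG ≤ M := map_subtype_le _
    haveI := Sigma.isMulCommutative_of_not_sigma hG hM h.not_sigma hPp hPM
    refine ⟨⟨⟨fun a b => Subtype.ext (Subtype.ext (congrArg Subtype.val
      (mul_comm' (⟨_, mem_map_of_mem M.subtype a.2⟩ : PG) ⟨_, mem_map_of_mem M.subtype b.2⟩) :))⟩⟩,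
      fun hAP => ⟨fun x hx => ⟨fun hxp => h.maximal hG hxp (h.pGroup_le hG hPp hPM hAP hx), h.elem.2 x⟩,
        fun hN => h.not_sigma ⟨Fact.out, h.dvd_card.trans (card_dvd_of_le hAM), P, hN⟩⟩⟩
  · obtain ⟨E, hE, hAE⟩ := Sigma.exists_compl_ge hG hM hAM fun t ht hd => by
      rw [hA2] at hd
      rw [(Nat.prime_dvd_prime_iff_eq ht Fact.out).mp (ht.dvd_of_dvd_pow hd)]
      exact h.not_sigma
    have hEA := (h.compl_structure hG hE hAE).2
    conv_lhs => rw [← hE.sup_eq]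
    refine sup_le (le_sup_left.trans le_normalizer) fun e he => ?_
    rw [Cfsg.Lib.Core.mem_normalizer_iff_map_conj, Subgroup.map_sup,
      Cfsg.Lib.Core.map_conj_eq_of_mem_normalizer (le_normalizer_sigmaCore M (hE.le he)),
      Cfsg.Lib.Core.map_conj_eq_of_mem_normalizer (hEA he)]
  · obtain ⟨a, -, ha, -, ha1, -, hfix, -⟩ := h.exists_two_lines hG
    exact ⟨zpowers a, zpowers_le.mpr ha, card_zpowers_eq (hA.2 a ha) ha1,
      by rw [CommutatorPLength.centralizer_zpowers]; exact hfix⟩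

end Cfsg.Agent.S1417
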