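import Cfsg.Statements.S1427
import Cfsg.Agent.Lib.Local.Sigma.PrimeActionCyclic

set_option autoImplicit false
open Cfsg

namespace Cfsg.Agent.S1427

open Subgroup Cfsg.Lib Cfsg.Lib.Local Cfsg.Lib.Local.Uniq Cfsg.Lib.Local.Sigma

/-- Let G be a minimal simple group of odd order, M a maximal subgroup, E a complement to M_σ in M, and S a nontrivial cyclic Sylow subgroup of E (for some prime). Then M_σ ∩ C_G(x) = M_σ ∩ C_G(S) for every non-identity x ∈ S. -/
theorem result {G : Type*} [Group G] [Finite G] (hG : Cfsg.IsMinSimpleOddOrder G)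
    (M : Subgroup G) (hM : IsCoatom M) (E : Subgroup G) (hE : Cfsg.IsComplIn E (Cfsg.sigmaCore M) M) (p : ℕ) [Fact p.Prime] (S : Sylow p E) (hS1 : (S : Subgroup E) ≠ ⊥) (hSc : IsCyclic (S : Subgroup E)) :
    ∀ x ∈ (S : Subgroup E).map E.subtype, x ≠ 1 →
        Cfsg.sigmaCore M ⊓ Subgroup.centralizer ({x} : Set G) = Cfsg.sigmaCore M ⊓ Subgroup.centralizer (((S : Subgroup E).map E.subtype : Subgroup G) : Set G) := by
  intro x hx hx1
  haveI := hSc
  have hp : p.Prime := Fact.out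
  have hd : p ∣ orderOf x := by
    obtain ⟨k, hk⟩ := pow_pow_eq_one (S.isPGroup'.map E.subtype) hx
    obtain ⟨j, -, hj⟩ := (Nat.dvd_prime_pow hp).mp (orderOf_dvd_of_pow_eq_one hk)
    rw [hj]
    exact dvd_pow_self p fun h0 => hx1 (orderOf_eq_one_iff.mp (by rw [hj, h0, pow_zero]))
  obtain ⟨m, hm⟩ := hd
  have hy : orderOf (x ^ m) = p := by
    have hm0 : m ≠ 0 := fun h0 => (orderOf_pos x).ne' (by rw [hm, h0, mul_zero])
    rw [orderOf_pow' x hm0, Nat.gcd_eq_right (by rw [hm]; exact dvd_mul_left _ _), hm,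
      Nat.mul_div_cancel _ (Nat.pos_of_ne_zero hm0)]
  have hy1 : x ^ m ≠ 1 := fun e => hp.ne_one (by rw [← hy, e, orderOf_one])
  have hyp : (x ^ m) ^ p = 1 := by rw [← hy]; exact pow_orderOf_eq_one _
  have h := Cfsg.Lib.Local.Sigma.Compl.centralizer_le_sylow hG ⟨hM, hE⟩ S (pow_mem hx m) hyp hy1
  refine le_antisymm (le_inf inf_le_left ((inf_le_inf le_rfl fun c hc => ?_).trans h)) (inf_le_inf le_rfl
    fun c hc => mem_centralizer_singleton_iff.mpr (mem_centralizer_iff.mp hc x hx).symm)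
  exact mem_centralizer_singleton_iff.mpr
    ((show Commute c x from mem_centralizer_singleton_iff.mp hc).pow_right m).eq

end Cfsg.Agent.S1427
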