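import Cfsg.Statements.S1436
import Cfsg.Agent.Lib.Local.Sigma.SupportPair
import Cfsg.Agent.S1404
-- import your own Cfsg.Agent.* helpers here

set_option autoImplicit false
open Cfsg

namespace Cfsg.Agent.S1436

open Subgroup Cfsg.Lib Cfsg.Lib.Local Cfsg.Lib.Local.Uniq Cfsg.Lib.Local.Sigma

/-- Let G be a minimal simple group of odd order, M a maximal subgroup, x ≠ 1 in M_σ with C_G(x) ⊄ M, and N a maximal subgroup containing C_G(x). (a) If some prime of σ(N) divides the order of M, then κ(M) = ∅ and τ₂(M) = ∅. (b) If y ≠ 1 in M_σ has C_G(y) ⊄ M, N' is a maximal subgroup containing C_G(y), and gN'g⁻¹ = N for some g ∈ G, then mN'm⁻¹ = N for some m ∈ M. -/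
theorem result {G : Type*} [Group G] [Finite G] (hG : Cfsg.IsMinSimpleOddOrder G)
    (M : Subgroup G) (hM : IsCoatom M) (x : G) (hx : x ∈ Cfsg.sigmaCore M) (hx1 : x ≠ 1) (hxM : ¬ Subgroup.centralizer ({x} : Set G) ≤ M)
    (N : Subgroup G) (hN : IsCoatom N) (hxN : Subgroup.centralizer ({x} : Set G) ≤ N) :
    ((∃ p ∈ Cfsg.sigma N, p ∣ Nat.card M) → Cfsg.kappa M = ∅ ∧ Cfsg.tau2 M = ∅) ∧
      ∀ (y : G) (N' : Subgroup G) (g : G), y ∈ Cfsg.sigmaCore M → y ≠ 1 → ¬ Subgroup.centralizer ({y} : Set G) ≤ M → IsCoatom N' → Subgroup.centralizer ({y} : Set G) ≤ N' →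
        N'.map (MulAut.conj g).toMonoidHom = N → ∃ m ∈ M, N'.map (MulAut.conj m).toMonoidHom = N := by
  obtain ⟨N₁, hS⟩ := exists_support hG hM hx hx1 hxM
  obtain rfl := hS.unique N hN hxN
  refine ⟨fun ⟨p, hp, hpM⟩ => ⟨hS.kappa_eq_empty hG hM hx hx1 hp hpM, hS.tau2_eq_empty hG hM hx hx1 hp hpM⟩,
    fun y N' g hy hy1 hyM hN' hyN hgN => ?_⟩
  obtain ⟨N₂, hS'⟩ := exists_support hG hM hy hy1 hyM
  obtain rfl := hS'.unique N' hN' hyN
  obtain ⟨q, hq, hqd⟩ := Nat.exists_prime_and_dvd (n := orderOf y) fun e => hy1 (orderOf_eq_one_iff.mp e)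
  haveI : Fact q.Prime := ⟨hq⟩
  have hqσ : q ∈ Cfsg.sigma M := sigmaCore_isPiSub M q hq (hqd.trans (Subgroup.orderOf_dvd_natCard _ hy))
  obtain ⟨A, hAE, hA⟩ := hS'.compl.exists_tau_two hG (hS'.tau2 q hq hqd)
  change cj g N' = N at hgN
  obtain ⟨n, hn, hnA⟩ := hS.compl.exists_conj_le hG (Y := cj g A) ((map_mono hA.le).trans hgN.le) fun t ht hd => by
    rw [Coprime.card_map_conj, hA.card] at hd
    rw [(Nat.prime_dvd_prime_iff_eq ht hq).mp (ht.dvd_of_dvd_pow hd)]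
    exact fun h => hS.not_conj hG hM hx hx1 q hqσ h
  rw [cj_cj] at hnA
  obtain ⟨m, hm, c, hc, he⟩ := (Cfsg.Agent.S1404.result hG M hM q hqσ A hA.isPGroup hA.ne_bot
    (hAE.trans inf_le_left)).1 (n * g) (hnA.trans inf_le_left)
  refine ⟨m, hm, ?_⟩
  show cj m N' = N
  have hcN : c ∈ N' := hA.centralizer_le hG hN' hA.le hc
  rw [← show cj (n * g) N' = N by
    rw [← cj_cj, hgN]; exact Core.map_conj_eq_of_mem_normalizer (Subgroup.le_normalizer hn), he, ← cj_cj,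
    show cj c N' = N' from Core.map_conj_eq_of_mem_normalizer (Subgroup.le_normalizer hcN)]

end Cfsg.Agent.S1436
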