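import Cfsg.Statements.S1441
import Cfsg.Agent.Lib.Coprime.Action
-- import your own Cfsg.Agent.* helpers here

set_option autoImplicit false
open Cfsg

namespace Cfsg.Agent.S1441

/-- Let G be a finite group, H a solvable subgroup and A a subgroup normalizing H. Suppose there is a chain H = H₀ ≥ H₁ ≥ ⋯ ≥ H_n = 1 of subgroups normal in H and normalized by A such that A acts trivially on each factor H_{i-1}/H_i (that is, [H_{i-1}, A] ≤ H_i). Then every prime dividing the index of C_A(H) in A divides the order of H. -/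
theorem result {G : Type*} [Group G] [Finite G] (H A : Subgroup G) (hH : Group.IsSolvable H) (hA : (A ≤ Subgroup.normalizer (H : Set G)))
    (n : ℕ) (c : Fin (n + 1) → Subgroup G) (hc0 : c 0 = H) (hcn : c (Fin.last n) = ⊥) (hanti : Antitone c)
    (hcN : ∀ i, H ≤ Subgroup.normalizer ((c i : Subgroup G) : Set G)) (hcA : ∀ i, A ≤ Subgroup.normalizer ((c i : Subgroup G) : Set G))
    (htriv : ∀ i : Fin n, ⁅c i.castSucc, A⁆ ≤ c i.succ) :
    ∀ p : ℕ, p.Prime → p ∣ (A ⊓ Subgroup.centralizer (H : Set G)).relIndex A → p ∣ Nat.card H := by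
  intro p hp hdvd
  by_contra hpH
  haveI := Fact.mk hp
  set C := A ⊓ Subgroup.centralizer (H : Set G)
  obtain ⟨P⟩ : Nonempty (Sylow p ↥A) := inferInstance
  have hnot : ¬ (P : Subgroup ↥A) ≤ C.subgroupOf A := fun hle =>
    P.not_dvd_index (hdvd.trans (Subgroup.index_dvd_of_le hle))
  obtain ⟨a, haP, haC⟩ := SetLike.not_le_iff_exists.mp hnot
  apply haC
  refine Subgroup.mem_subgroupOf.mpr ⟨a.2, ?_⟩
  obtain ⟨k, hk⟩ := IsPGroup.iff_orderOf.mp P.isPGroup' ⟨a, haP⟩
  rw [Subgroup.orderOf_mk] at hk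
  have key : ∀ i : Fin (n + 1), ⁅c i, Subgroup.zpowers (a : G)⁆ = ⊥ := by
    intro i
    induction i using Fin.reverseInduction with
    | last => rw [hcn, Subgroup.commutator_bot_left]
    | cast i ih =>
      refine Cfsg.Lib.Coprime.commutator_eq_bot_of_stabilizes
        (Subgroup.zpowers_le.mpr (hcA _ a.2)) ?_
        (Or.inl (Group.isSolvable_of_comm fun x y => mul_comm' x y))
        ((Subgroup.commutator_mono le_rfl (Subgroup.zpowers_le.mpr a.2)).trans (htriv i)) ih
      rw [Nat.card_zpowers, Subgroup.orderOf_coe, hk]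
      refine Nat.Coprime.pow_left k (hp.coprime_iff_not_dvd.mpr fun hd => hpH ?_)
      exact hd.trans (Subgroup.card_dvd_of_le (hc0 ▸ hanti (Fin.zero_le _)))
  have h0 := key 0
  rw [hc0, Subgroup.commutator_eq_bot_iff_le_centralizer, Subgroup.le_centralizer_iff] at h0
  exact h0 (Subgroup.mem_zpowers _)

end Cfsg.Agent.S1441
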