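import Cfsg.Statements.S1442
import Cfsg.Agent.Lib.Coprime.Action
import Cfsg.Agent.Lib.Local.Basic
-- import your own Cfsg.Agent.* helpers here

set_option autoImplicit false
open Cfsg

namespace Cfsg.Agent.S1442

/-- Let G be a finite group, H a nilpotent subgroup and A a subgroup normalizing H with the orders of A and H coprime. Put C = H ∩ C_G(A). If H ∩ C_G(C) ≤ C then A centralizes H. -/
theorem result {G : Type*} [Group G] [Finite G] (H A : Subgroup G) (hH : Group.IsNilpotent H) (hA : (A ≤ Subgroup.normalizer (H : Set G))) (hcop : (Nat.card A).Coprime (Nat.card H))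
    (hC : H ⊓ Subgroup.centralizer (((H ⊓ Subgroup.centralizer (A : Set G)) : Subgroup G) : Set G) ≤ (H ⊓ Subgroup.centralizer (A : Set G))) :
    A ≤ Subgroup.centralizer (H : Set G) := by
  haveI := hH
  set C := H ⊓ Subgroup.centralizer (A : Set G) with hCdef
  set K := H ⊓ Subgroup.normalizer (C : Set G) with hK
  have hAC : A ≤ Subgroup.normalizer (C : Set G) := Cfsg.Lib.Local.le_normalizer_inf hA
    (Subgroup.le_normalizer.trans (Cfsg.Lib.Local.normalizer_le_normalizer_centralizer A))
  have hAK : A ≤ Subgroup.normalizer (K : Set G) :=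
    (le_inf hA (hAC.trans Subgroup.le_normalizer)).trans Subgroup.inf_normalizer_le_normalizer_inf
  have hKc : ⁅K, A⁆ = ⊥ := by
    have h1 : ⁅⁅K, C⁆, A⁆ = ⊥ := by
      refine eq_bot_iff.mpr ((Subgroup.commutator_mono ?_ le_rfl).trans
        (Subgroup.commutator_eq_bot_iff_le_centralizer.mpr (inf_le_right : C ≤ _)).le)
      rw [Subgroup.commutator_comm]
      exact Cfsg.Lib.Coprime.commutator_le_of_le_normalizer inf_le_right
    have h2 : ⁅⁅C, A⁆, K⁆ = ⊥ := by
      rw [Subgroup.commutator_eq_bot_iff_le_centralizer.mpr (inf_le_right : C ≤ _),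
        Subgroup.commutator_bot_left]
    have h3 := Subgroup.commutator_commutator_eq_bot_of_rotate h1 h2
    rw [Subgroup.commutator_eq_bot_iff_le_centralizer] at h3
    have hKAC : ⁅K, A⁆ ≤ C := by
      rw [Subgroup.commutator_comm]
      refine le_trans (le_inf ?_ h3) hC
      rw [Subgroup.commutator_comm]
      exact (Subgroup.commutator_mono inf_le_left le_rfl).trans (Cfsg.Lib.Coprime.commutator_le_of_le_normalizer hA)
    haveI : Group.IsSolvable ↥K :=
      Cfsg.Lib.Coprime.isSolvable_of_le (inf_le_left : K ≤ H) inferInstance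
    exact Cfsg.Lib.Coprime.commutator_eq_bot_of_stabilizes hAK
      (Cfsg.Lib.Coprime.coprime_of_le inf_le_left hcop) (Or.inr inferInstance) hKAC
      (Subgroup.commutator_eq_bot_iff_le_centralizer.mpr inf_le_right)
  have hKC : K ≤ C := le_inf inf_le_left (Subgroup.commutator_eq_bot_iff_le_centralizer.mp hKc)
  have hCH : C.subgroupOf H = ⊤ := by
    by_contra hne
    have hlt := Group.normalizerCondition_of_isNilpotent (C.subgroupOf H) (lt_top_iff_ne_top.mpr hne)
    obtain ⟨x, hx, hxn⟩ := SetLike.exists_of_lt hlt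
    refine hxn (Subgroup.mem_subgroupOf.mpr (hKC ⟨x.2, Subgroup.mem_normalizer_iff.mpr fun y => ?_⟩))
    constructor
    · intro hy
      exact (Subgroup.mem_normalizer_iff.mp hx ⟨y, hy.1⟩).mp hy
    · intro hy
      have hyH : y ∈ H := by
        have h' := H.mul_mem (H.mul_mem (H.inv_mem x.2) hy.1) x.2
        simpa [mul_assoc] using h'
      exact (Subgroup.mem_normalizer_iff.mp hx ⟨y, hyH⟩).mpr hy
  rw [Subgroup.le_centralizer_iff]
  intro h hh
  exact (Subgroup.mem_subgroupOf.mp (hCH ▸ Subgroup.mem_top (⟨h, hh⟩ : H)) : h ∈ C).2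

end Cfsg.Agent.S1442
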