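import Cfsg.Statements.S1443
import Cfsg.Agent.Lib.PGroup.OddOmega
import Cfsg.Agent.S1442
-- import your own Cfsg.Agent.* helpers here

set_option autoImplicit false
open Cfsg

namespace Cfsg.Agent.S1443

/-- Let G be a finite group, p an odd prime, H a p-subgroup, E an elementary abelian subgroup of H, and A a subgroup of order coprime to p normalizing H. If A centralizes every element of order p in H ∩ C_G(E), then A centralizes H. -/
theorem result {G : Type*} [Group G] [Finite G] (p : ℕ) [Fact p.Prime] (hp : p ≠ 2) (H E A : Subgroup G) (hH : IsPGroup p H) (hE : E ≤ H) (hEe : Cfsg.IsElementaryAbelian p E)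
    (hA : (A ≤ Subgroup.normalizer (H : Set G))) (hcop : (Nat.card A).Coprime p)
    (hfix : ∀ x ∈ (H ⊓ Subgroup.centralizer (E : Set G)), orderOf x = p → A ≤ Subgroup.centralizer ({x} : Set G)) :
    A ≤ Subgroup.centralizer (H : Set G) := by
  set K := H ⊓ Subgroup.centralizer (E : Set G) with hKdef
  have hcopH : (Nat.card A).Coprime (Nat.card H) := by
    obtain ⟨k, hk⟩ := IsPGroup.iff_card.mp hH
    rw [hk]
    exact hcop.pow_right k
  have hEc : A ≤ Subgroup.centralizer (E : Set G) := by
    intro a ha
    rw [Subgroup.mem_centralizer_iff]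
    intro e he
    by_cases h1 : e = 1
    · simp [h1]
    have hep : orderOf e = p := orderOf_eq_prime (hEe.2 e he) h1
    have heK : e ∈ K := ⟨hE he, Subgroup.mem_centralizer_iff.mpr fun f hf =>
      congrArg Subtype.val (hEe.1.is_comm.comm ⟨f, hf⟩ ⟨e, he⟩)⟩
    exact (Subgroup.mem_centralizer_singleton_iff.mp (hfix e heK hep ha)).symm
  have hEn : A ≤ Subgroup.normalizer (Subgroup.centralizer (E : Set G) : Set G) :=
    (hEc.trans (Subgroup.centralizer_le_normalizer _)).trans
      (Cfsg.Lib.Local.normalizer_le_normalizer_centralizer E)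
  have hAK : A ≤ Subgroup.normalizer (K : Set G) :=
    (le_inf hA hEn).trans Subgroup.inf_normalizer_le_normalizer_inf
  have hAKc : A ≤ Subgroup.centralizer (K : Set G) := by
    refine Cfsg.Lib.PGroup.le_centralizer_of_centralizes_omega hp A K (hH.to_le inf_le_left) hAK
      (hcopH.coprime_dvd_right (Subgroup.card_dvd_of_le inf_le_left)) fun x hx hxp a ha => ?_
    by_cases h1 : x = 1
    · simp [h1]
    exact Subgroup.mem_centralizer_singleton_iff.mp (hfix x hx (orderOf_eq_prime hxp h1) ha)
  refine Cfsg.Agent.S1442.result H A hH.isNilpotent hA hcopH ?_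
  have hle : K ≤ H ⊓ Subgroup.centralizer (A : Set G) :=
    le_inf inf_le_left (Subgroup.le_centralizer_iff.mp hAKc)
  refine le_trans ?_ hle
  refine le_inf inf_le_left (inf_le_right.trans (Subgroup.centralizer_le ?_))
  exact fun e he => hle ⟨hE he, Subgroup.mem_centralizer_iff.mpr fun f hf =>
    congrArg Subtype.val (hEe.1.is_comm.comm ⟨f, hf⟩ ⟨e, he⟩)⟩

end Cfsg.Agent.S1443
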