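import Cfsg.Statements.S1444
import Cfsg.Agent.Lib.Local.CommutatorPLength

set_option autoImplicit false
open Cfsg

namespace Cfsg.Agent.S1444

open Subgroup

/-- Let G be a solvable group of odd order, H a normal subgroup of order coprime to its index, R a complement to H in G, and R₀ ≤ R a subgroup of prime order such that every Sylow subgroup of H ∩ C_G(R₀) is cyclic. Then for every prime p the commutator subgroup [H, R] satisfies [H,R] = O_{p',p,p'}([H,R]). -/
theorem result {G : Type*} [Group G] [Finite G] [Group.IsSolvable G] (hodd : Odd (Nat.card G)) (H R R₀ : Subgroup G) [H.Normal] (hHall : (Nat.card H).Coprime H.index)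
    (hR : Subgroup.IsComplement' H R) (hR₀ : R₀ ≤ R) (hR₀p : (Nat.card R₀).Prime) (hZ : IsZGroup ↥(H ⊓ Subgroup.centralizer (R₀ : Set G)))
    (p : ℕ) [Fact p.Prime] :
    Cfsg.PLengthLE p 1 ↥⁅H, R⁆ := by
  haveI : Fact (Nat.card R₀).Prime := ⟨hR₀p⟩
  obtain ⟨x, hx⟩ := exists_prime_orderOf_dvd_card' (G := R₀) (Nat.card R₀) dvd_rfl
  have hxo : orderOf (x : G) = Nat.card R₀ := by rw [Subgroup.orderOf_coe, hx]
  have hR0eq : zpowers (x : G) = R₀ :=
    eq_of_le_of_card_ge (zpowers_le.mpr x.2) (by rw [Nat.card_zpowers, hxo])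
  have hr2 : Nat.card R₀ ≠ 2 := fun h => Nat.not_even_iff_odd.mpr
    (hodd.of_dvd_nat R₀.card_subgroup_dvd_card) (h ▸ even_two)
  have hcop : (Nat.card R).Coprime (Nat.card H) := by rw [← hR.symm.index_eq_card]; exact hHall.symm
  rw [← hR0eq, Cfsg.Lib.Local.CommutatorPLength.centralizer_zpowers] at hZ
  exact Cfsg.Lib.Local.CommutatorPLength.pLengthLE_commutator (r := Nat.card R₀) hr2 le_normalizer_of_normal
    inferInstance (hodd.of_dvd_nat H.card_subgroup_dvd_card) hcop (hR₀ x.2) hxo hZ

end Cfsg.Agent.S1444
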