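import Cfsg.Statements.S1446
import Cfsg.Agent.Lib.Local.FreePrime
import Cfsg.Agent.Lib.Solv.FixedPointFree
import Cfsg.Agent.Lib.Local.Sigma.KappaStructure
-- import your own Cfsg.Agent.* helpers here

set_option autoImplicit false
open Cfsg

namespace Cfsg.Agent.S1446

open Subgroup Cfsg.Lib Cfsg.Lib.Local Cfsg.Lib.Local.Uniq Cfsg.Lib.Local.Sigma

/-- Let X be a finite group with subgroups K, R, M such that: K and R are nontrivial, K ∩ R = 1, R normalizes K, no non-identity element of R centralizes a non-identity element of K, K ⊔ R is solvable of odd order; M is nilpotent and nontrivial, normalized by K and by R, with order coprime to that of K ⊔ R, M ∩ C(K) = 1, and M ∩ C(x) = M ∩ C(R) for all non-identity x ∈ R. Then R has prime order p, #M = #(M ∩ C(R)) ^ p, and if M ∩ C(R) is cyclic then [K, K] centralizes M. -/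
theorem result {X : Type*} [Group X] [Finite X] (K R M : Subgroup X) (hK1 : K ≠ ⊥) (hR1 : R ≠ ⊥) (hKR : K ⊓ R = ⊥)
    (hRK : R ≤ Subgroup.normalizer (K : Set X)) (hfrob : ∀ r ∈ R, r ≠ 1 → K ⊓ Subgroup.centralizer ({r} : Set X) = ⊥)
    (hsolv : Group.IsSolvable ↥(K ⊔ R)) (hodd : Odd (Nat.card ↥(K ⊔ R)))
    (hM1 : M ≠ ⊥) (hMn : Group.IsNilpotent M) (hKM : K ≤ Subgroup.normalizer (M : Set X)) (hRM : R ≤ Subgroup.normalizer (M : Set X))
    (hcop : (Nat.card ↥(K ⊔ R)).Coprime (Nat.card M)) (hCK : M ⊓ Subgroup.centralizer (K : Set X) = ⊥)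
    (hpr : ∀ x ∈ R, x ≠ 1 → M ⊓ Subgroup.centralizer ({x} : Set X) = M ⊓ Subgroup.centralizer (R : Set X)) :
    (Nat.card R).Prime ∧ Nat.card M = Nat.card ↥(M ⊓ Subgroup.centralizer (R : Set X)) ^ Nat.card R ∧
      (IsCyclic ↥(M ⊓ Subgroup.centralizer (R : Set X)) → ⁅K, K⁆ ≤ Subgroup.centralizer (M : Set X)) := by
  have hK : K ≤ K ⊔ R := le_sup_left
  have hR : R ≤ K ⊔ R := le_sup_right
  have hcKM := hcop.coprime_dvd_left (card_dvd_of_le hK)
  have hcRM := hcop.coprime_dvd_left (card_dvd_of_le hR)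
  have hcRK : (Nat.card R).Coprime (Nat.card K) := by
    refine Cfsg.Lib.Solv.coprime_of_fpf_hom ((autOf K).comp (Subgroup.inclusion hRK)) fun b hb v hv => ?_
    refine Subtype.ext (Subgroup.mem_bot.mp ((hfrob b b.2 (fun e => hb (Subtype.ext e))).le
      (Subgroup.mem_inf.mpr ⟨v.2, mem_centralizer_singleton_iff.mpr ?_⟩)))
    exact (mul_inv_eq_iff_eq_mul.mp (congrArg Subtype.val hv)).symm
  obtain ⟨r, hr, hrd⟩ := Nat.exists_prime_and_dvd fun e => hR1 (eq_bot_of_card_eq _ e)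
  haveI : Fact r.Prime := ⟨hr⟩
  obtain ⟨⟨u, hu⟩, huo⟩ := exists_prime_orderOf_dvd_card' r hrd
  rw [Subgroup.orderOf_mk] at huo
  have hur : u ^ r = 1 := huo ▸ pow_orderOf_eq_one u
  have hu1 : u ≠ 1 := fun e => hr.ne_one (by rw [← huo, e, orderOf_one])
  have hnilK : Group.IsNilpotent K := isNilpotent_of_fixedfree hr hur (hRK hu) (hfrob u hu hu1)
  have hprime := FreeAction.prime_card hR1 hKM hRM hRK hfrob hnilK hMn hcKM hcRM hcRK hCK hM1 hpr
  have hsolM : Group.IsSolvable M := by haveI := hMn; infer_instance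
  obtain ⟨h1, h2⟩ := FreeAction.main (Nat.card M) K M u r rfl ⟨hur, hKM, hRM hu, hRK hu, hfrob u hu hu1, hcKM,
    fun hd => hr.ne_one (Nat.eq_one_of_dvd_coprimes hcRM hrd hd),
    fun hd => hr.ne_one (Nat.eq_one_of_dvd_coprimes hcRK hrd hd), hsolM, hnilK, hCK⟩
  refine ⟨hprime, ?_, fun hc => h2 (by rw [hpr u hu hu1]; exact hc)⟩
  rw [← hpr u hu hu1, show Nat.card R = r from ((Nat.prime_dvd_prime_iff_eq hr hprime).mp hrd).symm]
  exact h1

end Cfsg.Agent.S1446
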