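import Cfsg.Statements.S1449
import Cfsg.Agent.Lib.Local.RankTwoAut
import Cfsg.Agent.Lib.Local.PrimeOrderOperator

set_option autoImplicit false
open Cfsg

namespace Cfsg.Agent.S1449

/-- Let G be a finite group, p an odd prime, R a p-subgroup with no elementary abelian subgroup of order p ^ 3, and A a solvable subgroup of odd order normalizing R with A ∩ C_G(R) = 1. Then the derived subgroup [A, A] is a p-group. -/
theorem result {G : Type*} [Group G] [Finite G] (p : ℕ) [Fact p.Prime] (hp : p ≠ 2) (R A : Subgroup G) (hR : IsPGroup p R) (hr : Cfsg.PRankLE p 2 R)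
    (hA : (A ≤ Subgroup.normalizer (R : Set G))) (hAs : Group.IsSolvable A) (hAodd : Odd (Nat.card A)) (hfaith : A ⊓ Subgroup.centralizer (R : Set G) = ⊥) :
    IsPGroup p ↥⁅A, A⁆ := by
  let φ : A →* MulAut R := (Cfsg.Lib.Local.autOf R).comp (Subgroup.inclusion hA)
  have hker : IsPGroup p φ.ker := by
    rintro ⟨a, ha⟩
    have h := (Cfsg.Lib.Local.autOf_eq_one_iff R _).mp (MonoidHom.mem_ker.mp ha)
    have h' : (a : G) ∈ A ⊓ Subgroup.centralizer (R : Set G) := ⟨a.2, h⟩
    rw [hfaith, Subgroup.mem_bot] at h'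
    refine ⟨0, ?_⟩
    rw [pow_zero, pow_one]
    exact Subtype.ext (Subtype.ext h')
  have h := Cfsg.Lib.Local.RankTwoAut.commutator_isPGroup hp hR hr hAodd φ hker
  rw [← Subgroup.map_subtype_commutator]
  exact h.map A.subtype

end Cfsg.Agent.S1449
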