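import Cfsg.Statements.S1454
import Cfsg.Agent.Lib.Local.RankTwoOperator
import Cfsg.Agent.Lib.Local.NarrowSolvable
import Cfsg.Agent.Lib.Local.PrimeOrderOperator

set_option autoImplicit false
open Cfsg

namespace Cfsg.Agent.S1454

/-- Let G be a finite group, p an odd prime, R a narrow p-subgroup and A a solvable subgroup of odd order normalizing R with A ∩ C_G(R) = 1. Then [A, A] ≤ O_p(A) and the index of O_p(A) in A is coprime to p; if R has an elementary abelian subgroup of order p ^ 3 then the order of every element of A of order coprime to p divides p − 1; and if the order of A is a prime not dividing p(p − 1), then 2·#A divides p + 1, and if in addition [R, A] = R and R is non-abelian then #R = p ^ 3. -/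
theorem result {G : Type*} [Group G] [Finite G] (p : ℕ) [Fact p.Prime] (hp : p ≠ 2) (R A : Subgroup G) (hR : IsPGroup p R) (hRn : Cfsg.IsNarrow p R)
    (hA : (A ≤ Subgroup.normalizer (R : Set G))) (hAs : Group.IsSolvable A) (hAodd : Odd (Nat.card A)) (hfaith : A ⊓ Subgroup.centralizer (R : Set G) = ⊥) :
    (commutator ↥A ≤ Cfsg.pCore p ↥A ∧ ((Cfsg.pCore p ↥A).index).Coprime p) ∧
      (¬ Cfsg.PRankLE p 2 R → ∀ a ∈ A, (orderOf a).Coprime p → orderOf a ∣ p - 1) ∧
      ((Nat.card A).Prime → ¬ Nat.card A ∣ p * (p - 1) →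
        2 * Nat.card A ∣ p + 1 ∧ (⁅R, A⁆ = R → ¬ IsMulCommutative R → Nat.card R = p ^ 3)) := by
  let φ : A →* MulAut R := (Cfsg.Lib.Local.autOf R).comp (Subgroup.inclusion hA)
  have hφ : Function.Injective φ := by
    rw [← MonoidHom.ker_eq_bot_iff, eq_bot_iff]
    intro a ha
    have h := (Cfsg.Lib.Local.autOf_eq_one_iff R _).mp (MonoidHom.mem_ker.mp ha)
    have h' : (a : G) ∈ A ⊓ Subgroup.centralizer (R : Set G) := ⟨a.2, h⟩
    rw [hfaith, Subgroup.mem_bot] at h'
    exact Subgroup.mem_bot.mpr (Subtype.ext h')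
  have hker : IsPGroup p φ.ker := by
    rintro ⟨a, ha⟩
    refine ⟨0, ?_⟩
    rw [pow_zero, pow_one]
    exact Subtype.ext (hφ (by rw [MonoidHom.mem_ker.mp ha, OneMemClass.coe_one, map_one]))
  have hbig : ¬ Cfsg.PRankLE p 2 R → IsPGroup p (commutator ↥A) ∧
      ∀ h : A, (orderOf h).Coprime p → orderOf h ∣ p - 1 := by
    intro hnr
    obtain ⟨x, hx, hS⟩ := Cfsg.Lib.Local.NarrowAut.exists_slim_of_narrow hRn hnr
    exact Cfsg.Lib.Local.NarrowAut.operator_facts hp hR hnr hx hS φ hker
  have hC : IsPGroup p (commutator ↥A) := by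
    by_cases hr : Cfsg.PRankLE p 2 R
    · exact Cfsg.Lib.Local.RankTwoAut.commutator_isPGroup hp hR hr hAodd φ hker
    · exact (hbig hr).1
  refine ⟨Cfsg.Lib.Local.NarrowAut.commutator_le_pCore_of_isPGroup hC, fun hnr a ha hcop => ?_,
    fun hq hndvd => ?_⟩
  · have := (hbig hnr).2 ⟨a, ha⟩ (by rw [Subgroup.orderOf_mk]; exact hcop)
    rwa [Subgroup.orderOf_mk] at this
  · haveI : Fact (Nat.card A).Prime := ⟨hq⟩
    have hqp : Nat.card A ≠ p := fun e => hndvd ((dvd_of_eq e).mul_right _)
    have hqp1 : ¬ Nat.card A ∣ p - 1 := fun e => hndvd (e.mul_left _)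
    obtain ⟨g, hg⟩ := exists_prime_orderOf_dvd_card' (G := A) (Nat.card A) dvd_rfl
    have hr : Cfsg.PRankLE p 2 R := by
      by_contra hnr
      have := (hbig hnr).2 g (hg ▸ (Nat.coprime_primes hq (Fact.out : p.Prime)).mpr hqp)
      exact hqp1 (hg ▸ this)
    haveI : Finite (MulAut R) := Finite.of_injective (fun f => (f : R → R)) DFunLike.coe_injective
    obtain ⟨f, hf⟩ := Cfsg.Lib.Local.RankTwoAut.exists_hom hp hR hr
    have hord : orderOf (φ g) = Nat.card A := (orderOf_injective φ hφ g).trans hg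
    obtain ⟨hd, hlt⟩ := Cfsg.Lib.Local.RankTwoAut.prime_dvd hp f hf hq hqp
      (hord ▸ orderOf_dvd_natCard (φ g))
    have hp1 : Nat.card A ∣ p + 1 := by
      have e : p ^ 2 - 1 = (p + 1) * (p - 1) := by simpa using Nat.sq_sub_sq p 1
      rw [e] at hd
      exact ((Nat.Prime.dvd_mul hq).mp hd).resolve_right hqp1
    have hpodd : p % 2 = 1 := ((Fact.out : p.Prime).eq_two_or_odd).resolve_left hp
    obtain ⟨m, hm⟩ := hAodd
    refine ⟨Nat.Coprime.mul_dvd_of_dvd_of_dvd ((Nat.coprime_primes Nat.prime_two hq).mpr (by omega))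
      (by omega) hp1, fun hRA hnab => ?_⟩
    have hp3 : 3 < p := by
      have := hq.two_le
      have := (Fact.out : p.Prime).two_le
      by_contra h
      have h3 : p = 3 := by omega
      subst h3
      have := Nat.le_of_dvd (by norm_num) hp1
      omega
    refine Cfsg.Lib.Local.RankTwoOperator.card_eq_cube hp3 hR hr (a := φ g) ?_ ?_ ?_ ?_ hnab
    · rw [hord]; exact (Nat.coprime_primes hq (Fact.out : p.Prime)).mpr hqp
    · rw [hord]; exact hq.coprime_iff_not_dvd.mpr hqp1
    · intro h
      rw [h, orderOf_one] at hord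
      exact hq.one_lt.ne hord
    · intro N hN
      have hpow : ∀ (n : ℕ) (x : R), x⁻¹ * ((φ g) ^ n) x ∈ N := by
        intro n
        induction n with
        | zero => intro x; simp
        | succ n ih =>
          intro x
          have := mul_mem (ih x) (hN (((φ g) ^ n) x))
          rw [mul_assoc, mul_inv_cancel_left] at this
          rwa [pow_succ', MulAut.mul_apply]
      have hall : ∀ α : A, ∀ x : R, x⁻¹ * φ α x ∈ N := by
        intro α x
        have htop : Subgroup.zpowers g = ⊤ :=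
          Subgroup.eq_top_of_card_eq _ (by rw [Nat.card_zpowers, hg])
        obtain ⟨n, rfl⟩ : ∃ n : ℕ, g ^ n = α :=
          Submonoid.mem_powers_iff _ _ |>.mp (mem_powers_iff_mem_zpowers.mpr (htop.ge (Subgroup.mem_top α)))
        rw [map_pow]
        exact hpow n x
      have hle : ⁅R, A⁆ ≤ N.map R.subtype := by
        rw [Subgroup.commutator_le]
        intro r hr' α hα
        refine ⟨_, hall ⟨α, hα⟩ (⟨r, hr'⟩ : R)⁻¹, ?_⟩
        simp [φ, Cfsg.Lib.Local.autOf, commutatorElement_def, mul_assoc]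
      rw [eq_top_iff]
      intro x _
      obtain ⟨y, hy, e⟩ := hle (hRA.ge x.2)
      exact Subtype.ext (e : (y : G) = x) ▸ hy

end Cfsg.Agent.S1454
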