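import Cfsg.Statements.S1456
import Cfsg.Agent.Lib.Local.NarrowSolvable

set_option autoImplicit false
open Cfsg

namespace Cfsg.Agent.S1456

/-- Let G be a solvable group of odd order, p a prime, and E an elementary abelian p-subgroup of the Fitting subgroup F(G) such that F(G) ∩ C_G(E) has no elementary abelian subgroup of order q ^ 3 for any prime q. Then the derived subgroup of G is contained in F(G). -/
theorem result {G : Type*} [Group G] [Finite G] [Group.IsSolvable G] (hodd : Odd (Nat.card G)) (p : ℕ) [Fact p.Prime] (E : Subgroup G) (hE : E ≤ Cfsg.fittingSubgroup G) (hEe : Cfsg.IsElementaryAbelian p E)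
    (hr : Cfsg.RankLE 2 ↥(Cfsg.fittingSubgroup G ⊓ Subgroup.centralizer (E : Set G))) :
    commutator G ≤ Cfsg.fittingSubgroup G := by
  classical
  refine Cfsg.Lib.Local.NarrowAut.commutator_le_fitting fun s hs => ?_
  set R := Cfsg.pCore s G with hRdef
  let φ : G →* MulAut R := MulAut.conjNormal
  have hR : IsPGroup s R := Cfsg.Lib.Core.pCore_isPGroup s G
  haveI : Finite φ.range := Finite.of_surjective φ.rangeRestrict φ.rangeRestrict_surjective
  have hodd' : Odd (Nat.card φ.range) := hodd.of_dvd_nat (Subgroup.card_range_dvd φ)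
  have hker : IsPGroup s φ.range.subtype.ker := by
    rintro ⟨a, ha⟩
    exact ⟨0, by rw [pow_zero, pow_one]; exact Subtype.ext (Subtype.ext (MonoidHom.mem_ker.mp ha))⟩
  show IsPGroup s (commutator φ.range)
  by_cases hs2 : s = 2
  · subst hs2
    have h1 : Nat.card φ.range = 1 := by
      have hsub : Subsingleton R := by
        obtain ⟨k, hk⟩ := IsPGroup.iff_card.mp hR
        have ho : Odd (Nat.card R) := hodd.of_dvd_nat (Subgroup.card_subgroup_dvd_card R)
        rw [hk] at ho
        rcases k with - | k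
        · exact (Nat.card_eq_one_iff_unique.mp (by rw [hk, pow_zero])).1
        · rw [pow_succ] at ho
          exact absurd (dvd_mul_left 2 _) (by rw [← even_iff_two_dvd, Nat.not_even_iff_odd]; exact ho)
      haveI : Subsingleton φ.range :=
        ⟨fun a b => Subtype.ext (MulEquiv.ext fun z => Subsingleton.elim _ _)⟩
      exact Nat.card_of_subsingleton 1
    exact (IsPGroup.of_card (n := 0) (by rw [h1, pow_zero])).to_subgroup _
  have hle : R ≤ Cfsg.fittingSubgroup G := Cfsg.Lib.Core.pCore_le_fittingSubgroup s G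
  have hEp : ∀ a ∈ E, a ∈ Cfsg.pCore p G := by
    intro a ha
    obtain ⟨j, -, hj⟩ := (Nat.dvd_prime_pow (Fact.out : p.Prime)).mp
      (orderOf_dvd_of_pow_eq_one (show a ^ p ^ 1 = 1 by rw [pow_one]; exact hEe.2 a ha))
    exact Cfsg.Lib.Local.NarrowAut.mem_pCore_of_fitting (hE ha) j hj
  have hsmall : ∀ B : Subgroup R, IsMulCommutative B → (∀ b ∈ B, b ^ s = 1) →
      (∀ b ∈ B, ∀ a ∈ E, Commute (b : G) a) → Nat.card B ≤ s ^ 2 := by
    intro B hBc hBp hBE
    let ι : B →* ↥(Cfsg.fittingSubgroup G ⊓ Subgroup.centralizer (E : Set G)) :=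
      (R.subtype.comp B.subtype).codRestrict _ fun b =>
        ⟨hle b.1.2, Subgroup.mem_centralizer_iff.mpr fun a ha => (hBE b b.2 a ha).eq.symm⟩
    have hι : Function.Injective ι := fun a b h =>
      Subtype.ext (Subtype.ext (congrArg Subtype.val h :))
    rw [← Subgroup.card_top (G := B), ← Subgroup.card_map_of_injective hι]
    refine hr s hs.out _ inferInstance ?_
    rintro _ ⟨b, -, rfl⟩
    rw [← map_pow, show b ^ s = 1 from Subtype.ext (hBp b b.2), map_one]
  by_cases hrk : Cfsg.PRankLE s 2 R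
  · exact Cfsg.Lib.Local.RankTwoAut.commutator_isPGroup hs2 hR hrk hodd' φ.range.subtype hker
  have hsp : s = p := by
    by_contra hsp
    refine hrk fun B hBc hBp => hsmall B hBc hBp fun b _ a ha => ?_
    have hb : IsPGroup p (Cfsg.pCore p G) := Cfsg.Lib.Core.pCore_isPGroup p G
    exact Subgroup.commute_of_normal_of_disjoint _ _ inferInstance inferInstance
      (IsPGroup.disjoint_of_ne s p hsp _ _ hR hb) (b : G) a b.2 (hEp a ha)
  subst hsp
  -- a maximal elementary subgroup containing `E`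
  let Fam : Set (Subgroup R) :=
    {B | IsMulCommutative B ∧ (∀ b ∈ B, b ^ s = 1) ∧ E.subgroupOf R ≤ B}
  obtain ⟨B, ⟨hBc, hBp, hEB⟩, hmax⟩ := (Set.toFinite Fam).exists_maximal ⟨E.subgroupOf R,
    ⟨⟨fun a b => Subtype.ext (Subtype.ext
      (congrArg Subtype.val (hEe.1.is_comm.comm ⟨_, a.2⟩ ⟨_, b.2⟩) :))⟩⟩,
    fun b hb => Subtype.ext (hEe.2 _ hb), le_rfl⟩
  have hadd : ∀ y : R, y ^ s = 1 → (∀ b ∈ B, Commute y b) → y ∈ B := by
    intro y hy hcy
    have hins : ∀ a ∈ insert y (B : Set R), ∀ b ∈ insert y (B : Set R), a * b = b * a := by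
      rintro a (rfl | ha) b (rfl | hb)
      · rfl
      · exact hcy b hb
      · exact (hcy a ha).eq.symm
      · exact congrArg Subtype.val (hBc.is_comm.comm ⟨a, ha⟩ ⟨b, hb⟩)
    have hK := Subgroup.isMulCommutative_closure hins
    have hKexp : ∀ a ∈ Subgroup.closure (insert y (B : Set R)), a ^ s = 1 := by
      intro a ha
      induction ha using Subgroup.closure_induction with
      | mem a ha =>
        rcases ha with rfl | ha
        · exact hy
        · exact hBp a ha
      | one => exact one_pow _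
      | mul a b ha hb iha ihb =>
        have hc : Commute a b := congrArg Subtype.val (hK.is_comm.comm ⟨a, ha⟩ ⟨b, hb⟩)
        rw [hc.mul_pow, iha, ihb, one_mul]
      | inv a _ iha => rw [inv_pow, iha, inv_one]
    have hBK : B ≤ Subgroup.closure (insert y (B : Set R)) := fun a ha =>
      Subgroup.subset_closure (Or.inr ha)
    exact hmax ⟨hK, hKexp, hEB.trans hBK⟩ hBK (Subgroup.subset_closure (Or.inl rfl))
  have hBE : ∀ b ∈ B, ∀ a ∈ E, Commute (b : G) a := by
    intro b hb a ha
    exact congrArg (fun z : B => ((z : R) : G))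
      (hBc.is_comm.comm ⟨b, hb⟩ ⟨⟨a, hEp a ha⟩, hEB (Subgroup.mem_subgroupOf.mpr ha)⟩)
  have hB2 := hsmall B hBc hBp hBE
  have hnc : ¬ B ≤ Subgroup.center R := by
    intro h
    refine hrk fun A hAc hAp => le_trans (Subgroup.card_le_of_le fun a ha => ?_) hB2
    exact hadd a (hAp a ha) fun b hb => Subgroup.mem_center_iff.mp (h hb) a
  obtain ⟨x, hxB, hxc⟩ := SetLike.not_le_iff_exists.mp hnc
  haveI : Nontrivial R := ⟨⟨x, 1, fun e => hxc (e ▸ one_mem _)⟩⟩
  obtain ⟨z, -, hzc, hzo⟩ := Cfsg.Lib.PGroup.exists_mem_center_orderOf_eq hR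
    (N := (⊤ : Subgroup R)) top_ne_bot
  have hzB : z ∈ B := hadd z (by rw [← hzo, pow_orderOf_eq_one]) fun b _ =>
    (Subgroup.mem_center_iff.mp hzc b).symm
  have hgen : Subgroup.zpowers x ⊔ Subgroup.zpowers z = B := by
    refine Subgroup.eq_of_le_of_card_ge
      (sup_le (Subgroup.zpowers_le.mpr hxB) (Subgroup.zpowers_le.mpr hzB)) (hB2.trans ?_)
    obtain ⟨j, hj⟩ := IsPGroup.iff_card.mp (hR.to_subgroup (Subgroup.zpowers x ⊔ Subgroup.zpowers z))
    have hlt : Subgroup.zpowers z < Subgroup.zpowers x ⊔ Subgroup.zpowers z :=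
      lt_of_le_of_ne le_sup_right fun e =>
        hxc (Subgroup.zpowers_le.mpr hzc (e.ge (Subgroup.mem_sup_left (Subgroup.mem_zpowers x))))
    have h1 : Nat.card (Subgroup.zpowers z) <
        Nat.card (Subgroup.zpowers x ⊔ Subgroup.zpowers z : Subgroup R) :=
      lt_of_le_of_ne (Subgroup.card_le_of_le hlt.le) fun e =>
        hlt.ne (Subgroup.eq_of_le_of_card_ge hlt.le e.ge)
    rw [Nat.card_zpowers, hzo, hj] at h1
    rw [hj]
    refine Nat.pow_le_pow_right hs.out.pos ?_
    by_contra h
    exact absurd ((Nat.pow_le_pow_right hs.out.pos (show j ≤ 1 by omega)).trans (pow_one s).le)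
      (by omega)
  have hS : {y : R | Commute y x ∧ y ^ s = 1}.ncard ≤ s ^ 2 := by
    refine le_trans ?_ hB2
    rw [← SetLike.coe_sort_coe B, Nat.card_coe_set_eq]
    refine Set.ncard_le_ncard fun y hy => hadd y hy.2 fun b hb => ?_
    have hall : B ≤ Subgroup.centralizer ({y} : Set R) := by
      rw [← hgen]
      exact sup_le (Subgroup.zpowers_le.mpr (Subgroup.mem_centralizer_singleton_iff.mpr hy.1.symm.eq))
        (Subgroup.zpowers_le.mpr (Subgroup.mem_centralizer_singleton_iff.mpr
          (Subgroup.mem_center_iff.mp hzc y).symm))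
    exact (Subgroup.mem_centralizer_singleton_iff.mp (hall hb)).symm
  exact (Cfsg.Lib.Local.NarrowAut.operator_facts hs2 hR hrk (hBp x hxB) hS φ.range.subtype hker).1

end Cfsg.Agent.S1456
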