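import Cfsg.Statements.S1458
import Cfsg.Agent.Lib.Local.SL2Involved
import Cfsg.Agent.Lib.FusionSys.QdFreeElementary

set_option autoImplicit false
open Cfsg

namespace Cfsg.Agent.S1458

/-- Let G be a solvable group of odd order, p a prime and S a Sylow p-subgroup of G. Then the subgroup generated by the centre of the Thompson subgroup of S and O_{p'}(G) is normal in G. -/
theorem result {G : Type*} [Group G] [Finite G] [Group.IsSolvable G] (hodd : Odd (Nat.card G)) (p : ℕ) [Fact p.Prime] (S : Sylow p G) :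
    (Cfsg.centerThompsonOf p (S : Subgroup G) ⊔ Cfsg.pPrimeCore p G).Normal := by
  classical
  set M := Cfsg.pPrimeCore p G with hM
  set q := QuotientGroup.mk' M with hq
  have hqs : Function.Surjective q := QuotientGroup.mk'_surjective M
  have hS2 : p = 2 → (S : Subgroup G) = ⊥ := by
    intro h2
    obtain ⟨k, hk⟩ := IsPGroup.iff_card.1 S.isPGroup'
    rcases k with _ | k
    · exact Subgroup.card_eq_one.1 (by simpa using hk)
    · exfalso
      have h : 2 ∣ Nat.card G := by
        rw [← h2]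
        refine (dvd_pow_self p (Nat.succ_ne_zero k)).trans ?_
        rw [← hk]
        exact Subgroup.card_subgroup_dvd_card (S : Subgroup G)
      exact (Nat.not_even_iff_odd.2 hodd) (even_iff_two_dvd.2 h)
  by_cases h2 : p = 2
  · have hZ : Cfsg.centerThompsonOf p (S : Subgroup G) = ⊥ := le_bot_iff.1
      ((inf_le_left.trans (Subgroup.map_subtype_le _)).trans (hS2 h2).le)
    rw [hZ, bot_sup_eq]
    infer_instance
  have hqd : ¬ Cfsg.Involves ↥(Cfsg.qd p) G := fun h => by
    refine Cfsg.Lib.Local.SL2Involved.not_involves_SL2_of_abelian_sylow_two (p := p) h2 (fun T => ?_)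
      (Cfsg.Lib.Local.SL2Involved.involves_SL2_of_qd h)
    haveI : Fact (Nat.Prime 2) := ⟨Nat.prime_two⟩
    have hT : (T : Subgroup G) = ⊥ := by
      obtain ⟨k, hk⟩ := IsPGroup.iff_card.1 T.isPGroup'
      rcases k with _ | k
      · exact Subgroup.card_eq_one.1 (by simpa using hk)
      · exfalso
        have h' : 2 ∣ Nat.card G := (Dvd.intro_left (2 ^ k) (pow_succ 2 k).symm).trans
          (hk ▸ Subgroup.card_subgroup_dvd_card (T : Subgroup G))
        exact (Nat.not_even_iff_odd.2 hodd) (even_iff_two_dvd.2 h')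
    refine ⟨⟨fun x y => Subtype.ext ?_⟩⟩
    show (x : G) * y = y * x
    rw [Subgroup.mem_bot.1 (hT.le x.2), one_mul, mul_one]
  have hcons := Cfsg.Lib.Core.centralizer_pCore_le_of_isPSolvable
    (p := p) (G := G ⧸ M) (Cfsg.Lib.Core.isPSolvable_of_isSolvable (G := G ⧸ M))
    (Cfsg.Lib.Core.pPrimeCore_quotient_eq_bot (p := p) (G := G))
  have hn := Cfsg.Lib.FusionSys.centerThompson_normal_of_qdFree h2
    (fun h => hqd (Cfsg.Lib.FusionSys.involves_of_surjective hqs h)) hcons (S.mapSurjective hqs)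
  have hinj : Set.InjOn q (S : Subgroup G) := by
    intro x hx y hy hxy
    have h : x⁻¹ * y ∈ (S : Subgroup G) ⊓ M :=
      ⟨(S : Subgroup G).mul_mem ((S : Subgroup G).inv_mem hx) hy, QuotientGroup.eq.1 hxy⟩
    obtain ⟨k, hk⟩ := IsPGroup.iff_card.1 S.isPGroup'
    rw [disjoint_iff.1 (Cfsg.Lib.Coprime.disjoint_of_coprime_card
      (by rw [hk]; exact ((Cfsg.Lib.Core.pPrimeCore_coprime p G).pow_right k).symm)),
      Subgroup.mem_bot, inv_mul_eq_one] at h
    exact h
  have hmap : (Cfsg.centerThompsonOf p (S : Subgroup G)).map q =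
      Cfsg.centerThompsonOf p ((S.mapSurjective hqs : Sylow p (G ⧸ M)) : Subgroup (G ⧸ M)) := by
    rw [Cfsg.Lib.FusionSys.map_centerThompsonOf_injOn q _ hinj]
    rfl
  rw [← hmap] at hn
  have h := hn.comap q
  rwa [Subgroup.comap_map_eq, hq, QuotientGroup.ker_mk'] at h

end Cfsg.Agent.S1458
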