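import Cfsg.Statements.S1459
import Cfsg.Agent.Lib.Fusion.Basic
import Cfsg.Agent.Lib.Fusion.Tate
-- import your own Cfsg.Agent.* helpers here

set_option autoImplicit false
open Cfsg
open scoped commutatorElement

namespace Cfsg.Agent.S1459

/-- Let G be a finite solvable group. (a) If H is a normal subgroup of order coprime to its index, K is a complement to H, and H ≤ G', then H = [H, K] and H ∩ C_G(K) ≤ [H, H]. (b) If G' is nilpotent and has prime index in G, then the order of G' is coprime to its index and G' = [G, K] (the subgroup generated by commutators of elements of G with elements of K) for every complement K of G'. -/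
theorem result {G : Type*} [Group G] [Finite G] [Group.IsSolvable G] :
    (∀ (H K : Subgroup G), H.Normal → (Nat.card H).Coprime H.index → Subgroup.IsComplement' H K → H ≤ commutator G →
        H = ⁅H, K⁆ ∧ H ⊓ Subgroup.centralizer (K : Set G) ≤ ⁅H, H⁆) ∧
      (Group.IsNilpotent ↥(commutator G) → (commutator G).index.Prime →
        (Nat.card ↥(commutator G)).Coprime (commutator G).index ∧
        ∀ K : Subgroup G, Subgroup.IsComplement' (commutator G) K → commutator G = ⁅(⊤ : Subgroup G), K⁆) := by
  have hconjmem : ∀ (H K : Subgroup G), H.Normal → H ⊔ K = ⊤ → (⁅H, K⁆ : Subgroup G).Normal := by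
    intro H K hH hsup
    rw [← Subgroup.normalizer_eq_top_iff, eq_top_iff, ← hsup]
    refine sup_le (fun a ha => ?_) (fun a ha => ?_)
    · refine Subgroup.mem_normalizer_fintype fun n hn => ?_
      induction hn using Subgroup.closure_induction with
      | mem x hx =>
        obtain ⟨h, hh, k, hk, rfl⟩ := hx
        have e : a * ⁅h, k⁆ * a⁻¹ = ⁅a * h, k⁆ * ⁅a, k⁆⁻¹ := by
          simp only [commutatorElement_def]; group
        rw [e]
        exact mul_mem (Subgroup.commutator_mem_commutator (mul_mem ha hh) hk)
          (inv_mem (Subgroup.commutator_mem_commutator ha hk))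
      | one => simp
      | mul x y _ _ hx hy => rw [← conj_mul]; exact mul_mem hx hy
      | inv x _ hx => rw [← conj_inv]; exact inv_mem hx
    · refine Subgroup.mem_normalizer_fintype fun n hn => ?_
      induction hn using Subgroup.closure_induction with
      | mem x hx =>
        obtain ⟨h, hh, k, hk, rfl⟩ := hx
        have e : a * ⁅h, k⁆ * a⁻¹ = ⁅a * h * a⁻¹, a * k * a⁻¹⁆ := by
          simp only [commutatorElement_def]; group
        rw [e]
        exact Subgroup.commutator_mem_commutator (hH.conj_mem h hh a)
          (mul_mem (mul_mem ha hk) (inv_mem ha))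
      | one => simp
      | mul x y _ _ hx hy => rw [← conj_mul]; exact mul_mem hx hy
      | inv x _ hx => rw [← conj_inv]; exact inv_mem hx
  have parta : ∀ (H K : Subgroup G), H.Normal → (Nat.card H).Coprime H.index →
      Subgroup.IsComplement' H K → H ≤ commutator G →
      H = ⁅H, K⁆ ∧ H ⊓ Subgroup.centralizer (K : Set G) ≤ ⁅H, H⁆ := by
    intro H K hH hcop hK hle
    haveI := hH
    have hsup : H ⊔ K = ⊤ := hK.sup_eq_top
    haveI hM := hconjmem H K hH hsup
    set M := ⁅H, K⁆ with hMdef
    have hMH : M ≤ H := Subgroup.commutator_le_left H K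
    haveI hD : (M ⊔ ⁅H, H⁆).Normal := inferInstance
    set D := M ⊔ ⁅H, H⁆ with hDdef
    have hDH : D ≤ H := sup_le hMH (Subgroup.commutator_le_left H H)
    have hHD : H ≤ D := by
      let m := QuotientGroup.mk' D
      have hc : ∀ h ∈ H, ∀ g : G, Commute (m h) (m g) := by
        intro h hh g
        have h1 : ⁅H, (⊤ : Subgroup G)⁆ ≤ D := by
          rw [← hsup]
          refine Subgroup.commutator_le.mpr fun a ha b hb => ?_
          obtain ⟨b₁, hb₁, b₂, hb₂, rfl⟩ := Subgroup.mem_sup_of_normal_left.mp hb
          have e : ⁅a, b₁ * b₂⁆ = ⁅a, b₁⁆ * (b₁ * ⁅a, b₂⁆ * b₁⁻¹) := by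
            simp only [commutatorElement_def]; group
          rw [e]
          exact mul_mem (Subgroup.mem_sup_right (Subgroup.commutator_mem_commutator ha hb₁))
            (hD.conj_mem _ (Subgroup.mem_sup_left (Subgroup.commutator_mem_commutator ha hb₂)) b₁)
        apply commutatorElement_eq_one_iff_commute.mp
        rw [← map_commutatorElement]
        exact (QuotientGroup.eq_one_iff _).mpr
          (h1 (Subgroup.commutator_mem_commutator hh (Subgroup.mem_top g)))
      have hG' : commutator G ≤ D ⊔ ⁅K, K⁆ := by
        rw [commutator_def]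
        refine Subgroup.commutator_le.mpr fun g _ g' _ => ?_
        obtain ⟨h, hh, k, hk, rfl⟩ := Subgroup.mem_sup_of_normal_left.mp (hsup.symm ▸ Subgroup.mem_top g)
        obtain ⟨h', hh', k', hk', rfl⟩ :=
          Subgroup.mem_sup_of_normal_left.mp (hsup.symm ▸ Subgroup.mem_top g')
        have hb : ⁅m (h * k), m (h' * k')⁆ = ⁅m k, m k'⁆ := by
          rw [map_mul, map_mul]
          calc ⁅m h * m k, m h' * m k'⁆
              = m h * (m k * (m h' * m k') * (m k)⁻¹) * (m h)⁻¹ * (m h' * m k')⁻¹ := by
                simp only [commutatorElement_def]; group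
            _ = m k * (m h' * m k') * (m k)⁻¹ * (m h' * m k')⁻¹ := by
                have := hc h hh (k * (h' * k') * k⁻¹)
                rw [map_mul, map_mul, map_mul, map_inv] at this
                rw [this.eq, mul_inv_cancel_right]
            _ = m h' * (m k * m k' * (m k)⁻¹ * (m k')⁻¹) * (m h')⁻¹ := by
                have := (hc h' hh' k).eq
                rw [← mul_assoc (m k) (m h') (m k'), ← this]
                group
            _ = ⁅m k, m k'⁆ := by
                have := hc h' hh' (k * k' * k⁻¹ * k'⁻¹)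
                rw [map_mul, map_mul, map_mul, map_inv, map_inv] at this
                rw [this.eq, mul_inv_cancel_right, commutatorElement_def]
        have h1 : ⁅h * k, h' * k'⁆ * ⁅k, k'⁆⁻¹ ∈ D := by
          rw [← QuotientGroup.eq_one_iff (N := D)]
          show m (⁅h * k, h' * k'⁆ * ⁅k, k'⁆⁻¹) = 1
          rw [map_mul, map_inv, map_commutatorElement, map_commutatorElement, hb, mul_inv_cancel]
        have := mul_mem (Subgroup.mem_sup_left h1 : _ ∈ D ⊔ ⁅K, K⁆)
          (Subgroup.mem_sup_right (Subgroup.commutator_mem_commutator hk hk'))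
        rwa [inv_mul_cancel_right] at this
      intro x hx
      obtain ⟨d, hd, c, hc', rfl⟩ := Subgroup.mem_sup_of_normal_left.mp (hG' (hle hx))
      have : c ∈ H ⊓ K := Subgroup.mem_inf.mpr
        ⟨(H.mul_mem_cancel_left (hDH hd)).mp hx, Subgroup.commutator_le_self K hc'⟩
      rw [disjoint_iff.mp hK.disjoint, Subgroup.mem_bot] at this
      rw [this, mul_one]; exact hd
    have hHM : H ≤ M := by
      let f := QuotientGroup.mk' M
      have hfH : H.map f ≤ ⁅H.map f, H.map f⁆ := by
        refine (Subgroup.map_mono hHD).trans ?_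
        rw [hDdef, Subgroup.map_sup, (Subgroup.map_eq_bot_iff M).mpr (QuotientGroup.ker_mk' M).ge,
          bot_sup_eq, Subgroup.map_commutator]
      have hser : ∀ i, H.map f ≤ derivedSeries (G ⧸ M) i := by
        intro i
        induction i with
        | zero => exact le_top
        | succ i ih => exact hfH.trans (Subgroup.commutator_mono ih ih)
      obtain ⟨i, hi⟩ : ∃ i, derivedSeries (G ⧸ M) i = ⊥ := Group.IsSolvable.solvable
      have := (Subgroup.map_eq_bot_iff H).mp (le_bot_iff.mp (hi ▸ hser i))
      rwa [QuotientGroup.ker_mk'] at this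
    refine ⟨le_antisymm hHM hMH, ?_⟩
    -- the product over `K` of the conjugates in `H / H'`
    haveI := Fintype.ofFinite ↥K
    let c : ↥K → (↥H →* Abelianization ↥H) := fun k =>
      Abelianization.of.comp (MulAut.conjNormal (k : G)).toMonoidHom
    let τ : ↥H →* Abelianization ↥H := ∏ k : ↥K, c k
    have hτ : ∀ h, τ h = ∏ k : ↥K, c k h := fun h => by
      simp [τ, MonoidHom.finsetProd_apply]
    have hgen : ∀ x ∈ M, ∀ hx : x ∈ H, τ ⟨x, hx⟩ = 1 := by
      intro x hxM
      induction hxM using Subgroup.closure_induction with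
      | mem x hx =>
        obtain ⟨h, hh, k, hk, rfl⟩ := hx
        intro hx
        have hkh : k * h⁻¹ * k⁻¹ ∈ H := hH.conj_mem _ (inv_mem hh) k
        have e : (⟨_, hx⟩ : ↥H) = ⟨h, hh⟩ * ⟨_, hkh⟩ := Subtype.ext (by
          simp only [commutatorElement_def, Subgroup.coe_mul]; group)
        rw [e, map_mul, ← eq_inv_iff_mul_eq_one, ← map_inv, hτ, hτ]
        refine (Equiv.prod_comp (Equiv.mulRight (⟨k, hk⟩ : ↥K)) (fun j => c j ⟨h, hh⟩)).symm.trans ?_
        refine Finset.prod_congr rfl fun j _ => ?_
        show Abelianization.of _ = Abelianization.of _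
        congr 1
        ext
        simp only [Equiv.coe_mulRight, Subgroup.coe_mul, MulEquiv.coe_toMonoidHom,
          MulAut.conjNormal_apply, Subgroup.coe_inv]
        group
      | one => intro hx; exact map_one τ
      | mul x y hx hy ihx ihy =>
        intro hxy
        have : (⟨x * y, hxy⟩ : ↥H) = ⟨x, hMH hx⟩ * ⟨y, hMH hy⟩ := rfl
        rw [this, map_mul, ihx, ihy, one_mul]
      | inv x hx ih =>
        intro hx'
        have : (⟨x⁻¹, hx'⟩ : ↥H) = (⟨x, hMH hx⟩ : ↥H)⁻¹ := rfl
        rw [this, map_inv, ih, inv_one]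
    rintro x ⟨hxH, hxC⟩
    have h1 : τ ⟨x, hxH⟩ = Abelianization.of (⟨x, hxH⟩ : ↥H) ^ Nat.card ↥K := by
      rw [hτ, Finset.prod_congr rfl (fun (k : ↥K) _ => (show c k ⟨x, hxH⟩ = Abelianization.of ⟨x, hxH⟩ by
        show Abelianization.of _ = _
        congr 1
        ext
        simp only [MulEquiv.coe_toMonoidHom, MulAut.conjNormal_apply]
        rw [Subgroup.mem_centralizer_iff.mp hxC k k.2, mul_inv_cancel_right])),
        Finset.prod_const, Finset.card_univ, Nat.card_eq_fintype_card]
    rw [hgen x (hHM hxH) hxH] at h1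
    have h2 : orderOf (Abelianization.of (⟨x, hxH⟩ : ↥H)) = 1 := by
      refine Nat.eq_one_of_dvd_coprimes hcop ?_ ?_
      · exact (orderOf_map_dvd _ _).trans (orderOf_dvd_natCard _)
      · rw [hK.symm.index_eq_card]; exact orderOf_dvd_of_pow_eq_one h1.symm
    rw [orderOf_eq_one_iff, ← MonoidHom.mem_ker, Abelianization.ker_of] at h2
    rw [← H.map_subtype_commutator]
    exact ⟨_, h2, rfl⟩
  refine ⟨parta, fun hnil hq => ?_⟩
  set N := commutator G with hN
  set q := N.index with hqdef
  haveI : Fact q.Prime := ⟨hq⟩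
  have hcop : (Nat.card ↥N).Coprime q := by
    rw [Nat.coprime_comm, hq.coprime_iff_not_dvd]
    intro hdvd
    haveI := hnil
    let e := Sylow.directProductOfNormal (G := ↥N) fun {p hp} P => inferInstance
    have hmem : q ∈ (Nat.card ↥N).primeFactors := Nat.mem_primeFactors.mpr ⟨hq, hdvd, Nat.card_pos.ne'⟩
    let P : Sylow q ↥N := default
    let f : ↥N →* ↥(P : Subgroup ↥N) :=
      ((Pi.evalMonoidHom (fun R : Sylow q ↥N => ↥(R : Subgroup ↥N)) P).comp
        (Pi.evalMonoidHom (fun r : (Nat.card ↥N).primeFactors => ∀ R : Sylow r ↥N, ↥(R : Subgroup ↥N))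
          ⟨q, hmem⟩)).comp e.symm.toMonoidHom
    have hf : Function.Surjective f := by
      intro b
      obtain ⟨w, hw⟩ := Function.surjective_eval (β := fun R : Sylow q ↥N => ↥(R : Subgroup ↥N)) P b
      obtain ⟨v, hv⟩ := Function.surjective_eval
        (β := fun r : (Nat.card ↥N).primeFactors => ∀ R : Sylow r ↥N, ↥(R : Subgroup ↥N)) ⟨q, hmem⟩ w
      refine ⟨e v, ?_⟩
      simp only [f, MonoidHom.comp_apply, MulEquiv.coe_toMonoidHom, MulEquiv.symm_apply_apply,
        Pi.evalMonoidHom_apply]
      exact (congrFun hv P).trans hw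
    have hker : Cfsg.pResidual q ↥N ≤ f.ker := Cfsg.Lib.Fusion.pResidual_le_ker P.2 f
    set M := (Cfsg.pResidual q ↥N).map N.subtype with hM
    haveI : (Cfsg.pResidual q ↥N).Characteristic := by
      rw [Subgroup.characteristic_iff_map_eq]
      exact fun φ => Cfsg.Lib.Fusion.map_pResidual_equiv φ
    have hMN : M ≤ N := Subgroup.map_subtype_le _
    haveI : M.Normal := inferInstance
    have hMeq : M = N := by
      obtain ⟨j, hj⟩ : ∃ j, (Cfsg.pResidual q ↥N).index = q ^ j :=
        Cfsg.Lib.Fusion.index_pResidual_eq_pow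
      have hidx : M.index = q ^ (j + 1) := by
        rw [← Subgroup.relIndex_mul_index hMN, pow_succ, ← hqdef, Subgroup.relIndex, hM]
        congr 1
        rw [Subgroup.subgroupOf, Subgroup.comap_map_eq_self_of_injective N.subtype_injective, hj]
      have hQ : IsPGroup q (G ⧸ M) := IsPGroup.of_card (by rw [← Subgroup.index_eq_card]; exact hidx)
      let m := QuotientGroup.mk' M
      have hsurj : Function.Surjective m := QuotientGroup.mk'_surjective M
      have hNm : N.map m = commutator (G ⧸ M) := by
        rw [hN, commutator_def, commutator_def, Subgroup.map_commutator,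
          Subgroup.map_top_of_surjective m hsurj]
      have hcomap : (N.map m).index = q := by
        rw [Subgroup.index_map_eq N hsurj (by rw [QuotientGroup.ker_mk']; exact hMN)]
      haveI := hQ.isNilpotent
      -- the quotient has a cyclic Frattini quotient, so it is abelian
      obtain ⟨x, hx⟩ : ∃ x, x ∉ N.map m := by
        by_contra hh
        push Not at hh
        rw [(Subgroup.eq_top_iff' _).mpr hh, Subgroup.index_top] at hcomap
        exact hq.ne_one hcomap.symm
      have htop : Subgroup.zpowers x ⊔ frattini (G ⧸ M) = ⊤ := by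
        have hle' : N.map m ≤ frattini (G ⧸ M) := by
          rw [hNm]; exact Cfsg.Lib.Fusion.commutator_le_frattini_of_isPGroup hQ
        refine eq_top_iff.mpr ?_
        refine le_trans (ge_of_eq ?_) (sup_le_sup_left hle' _)
        have hlt : N.map m < Subgroup.zpowers x ⊔ N.map m :=
          lt_of_le_of_ne le_sup_right fun e => hx (e ▸ Subgroup.mem_sup_left (Subgroup.mem_zpowers x))
        have h3 := Subgroup.relIndex_mul_index hlt.le
        rw [hcomap] at h3
        rcases (Nat.dvd_prime hq).mp (Dvd.intro_left _ h3) with h4 | h4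
        · exact Subgroup.index_eq_one.mp h4
        · rw [h4] at h3
          exact absurd (Subgroup.relIndex_eq_one.mp (Nat.eq_of_mul_eq_mul_right hq.pos
            (h3.trans (one_mul q).symm))) hlt.not_ge
      have hcyc : Subgroup.zpowers x = ⊤ := frattini_nongenerating htop
      have hcomm : commutator (G ⧸ M) = ⊥ := by
        rw [commutator_def, ← hcyc]
        exact Subgroup.commutator_self_eq_bot_iff.mpr inferInstance
      rw [← hNm, Subgroup.map_eq_bot_iff, QuotientGroup.ker_mk'] at hcomm
      exact le_antisymm hMN hcomm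
    have htop : Cfsg.pResidual q ↥N = ⊤ := by
      apply Subgroup.map_injective N.subtype_injective
      rw [← MonoidHom.range_eq_map, Subgroup.range_subtype, ← hM, hMeq]
    have hP : Nat.card ↥(P : Subgroup ↥N) = 1 := by
      rw [Nat.card_eq_one_iff_unique]
      refine ⟨⟨fun a b => ?_⟩, ⟨1⟩⟩
      obtain ⟨a', rfl⟩ := hf a
      obtain ⟨b', rfl⟩ := hf b
      rw [hker (htop ▸ Subgroup.mem_top a'), hker (htop ▸ Subgroup.mem_top b')]
    exact P.ne_bot_of_dvd_card hdvd (Subgroup.eq_bot_of_card_eq _ hP)
  refine ⟨hcop, fun K hK => le_antisymm ?_ ?_⟩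
  · exact (parta N K inferInstance hcop hK le_rfl).1.le.trans (Subgroup.commutator_mono le_top le_rfl)
  · rw [hN, commutator_def]; exact Subgroup.commutator_mono le_rfl le_top

end Cfsg.Agent.S1459
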