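import Cfsg.Statements.S1460
import Cfsg.Agent.Lib.Coprime.Conjugacy
import Cfsg.Agent.Lib.Core.Fitting
import Cfsg.Agent.Lib.Local.Basic
-- import your own Cfsg.Agent.* helpers here

set_option autoImplicit false
open Cfsg
open scoped commutatorElement

namespace Cfsg.Agent.S1460

/-- Let G be a finite solvable group, K a normal subgroup and U a subgroup with G = KU, and H ≤ U a subgroup whose order is coprime to that of K. Then H ∩ G' = H ∩ U'; N_G(H) is generated by K ∩ C_G(H) and U ∩ N_G(H); and if gHg⁻¹ ≤ U for some g ∈ G then g = u c with u ∈ U and c ∈ K ∩ C_G(H). -/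
theorem result {G : Type*} [Group G] [Finite G] [Group.IsSolvable G] (K U H : Subgroup G) [K.Normal] (hKU : K ⊔ U = ⊤) (hH : H ≤ U) (hcop : (Nat.card H).Coprime (Nat.card K)) :
    H ⊓ commutator G = H ⊓ ⁅U, U⁆ ∧
      Subgroup.normalizer (H : Set G) = (K ⊓ Subgroup.centralizer (H : Set G)) ⊔ (U ⊓ Subgroup.normalizer (H : Set G)) ∧
      ∀ g : G, H.map (MulAut.conj g).toMonoidHom ≤ U → ∃ u ∈ U, ∃ c ∈ K ⊓ Subgroup.centralizer (H : Set G), g = u * c := by
  classical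
  have key : ∀ g : G, H.map (MulAut.conj g).toMonoidHom ≤ U →
      ∃ u ∈ U, ∃ c ∈ K ⊓ Subgroup.centralizer (H : Set G), g = u * c := by
    intro g hg
    have hg' : g ∈ U ⊔ K := by rw [sup_comm, hKU]; exact Subgroup.mem_top g
    obtain ⟨u₀, hu₀, k, hk, rfl⟩ := Subgroup.mem_sup_of_normal_right.mp hg'
    set B := H.map (MulAut.conj k).toMonoidHom
    have hBU : B ≤ U := by
      rintro _ ⟨x, hx, rfl⟩
      have h1 : (u₀ * k) * x * (u₀ * k)⁻¹ ∈ U := hg (Subgroup.mem_map_of_mem _ hx)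
      have h2 := U.mul_mem (U.mul_mem (U.inv_mem hu₀) h1) hu₀
      simpa [mul_assoc] using h2
    have hB : B ≤ (K ⊓ U) ⊔ H := by
      rintro _ ⟨x, hx, rfl⟩
      have hk' : k * x * k⁻¹ * x⁻¹ ∈ K ⊓ U := by
        refine ⟨?_, U.mul_mem (hBU (Subgroup.mem_map_of_mem _ hx)) (U.inv_mem (hH hx))⟩
        rw [show k * x * k⁻¹ * x⁻¹ = k * (x * k⁻¹ * x⁻¹) by group]
        exact K.mul_mem hk ((inferInstance : K.Normal).conj_mem _ (K.inv_mem hk) x)
      show k * x * k⁻¹ ∈ (K ⊓ U) ⊔ H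
      have := Subgroup.mul_mem_sup hk' hx
      simpa using this
    obtain ⟨w, hw, hwB⟩ := Cfsg.Lib.Coprime.exists_conj_of_coprime (K ⊓ U) H B
      (Cfsg.Lib.Local.le_normalizer_inf (Cfsg.Lib.Local.le_normalizer_normal _) (hH.trans Subgroup.le_normalizer))
      (hcop.coprime_dvd_right (Subgroup.card_dvd_of_le inf_le_left))
      (Or.inl (Cfsg.Lib.Core.isSolvable_of_le (le_top : H ≤ ⊤) inferInstance)) hB
      (Cfsg.Lib.Coprime.card_map_conj H k)
    refine ⟨u₀ * w, U.mul_mem hu₀ hw.2, w⁻¹ * k, ⟨K.mul_mem (K.inv_mem hw.1) hk, ?_⟩, by group⟩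
    refine Subgroup.mem_centralizer_iff.mpr fun x hx => ?_
    have hwk : (w⁻¹ * k) * x * (w⁻¹ * k)⁻¹ ∈ H := by
      have h1 : k * x * k⁻¹ ∈ B := Subgroup.mem_map_of_mem _ hx
      rw [hwB] at h1
      have h2 := Cfsg.Lib.Coprime.mem_map_conj_iff.mp h1
      simpa [mul_assoc] using h2
    have hK1 : (w⁻¹ * k) * x * (w⁻¹ * k)⁻¹ * x⁻¹ ∈ K ⊓ H := by
      refine ⟨?_, H.mul_mem hwk (H.inv_mem hx)⟩
      rw [show (w⁻¹ * k) * x * (w⁻¹ * k)⁻¹ * x⁻¹ = (w⁻¹ * k) * (x * (w⁻¹ * k)⁻¹ * x⁻¹) by group]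
      exact K.mul_mem (K.mul_mem (K.inv_mem hw.1) hk)
        ((inferInstance : K.Normal).conj_mem _ (K.inv_mem (K.mul_mem (K.inv_mem hw.1) hk)) x)
    rw [Subgroup.inf_eq_bot_of_coprime hcop.symm, Subgroup.mem_bot, mul_inv_eq_one] at hK1
    exact (mul_inv_eq_iff_eq_mul.mp hK1).symm
  refine ⟨?_, ?_, key⟩
  · refine le_antisymm ?_ (inf_le_inf_left _ (by
      rw [commutator_def]; exact Subgroup.commutator_mono le_top le_top))
    rintro x ⟨hxH, hxc⟩
    refine ⟨hxH, ?_⟩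
    -- `G' ≤ [U,U] K`
    haveI : (⁅U, U⁆.subgroupOf U).Normal :=
      Subgroup.normal_subgroupOf_of_le_normalizer (Subgroup.normalizer_commutator_ge_left U U)
    have hle : commutator G ≤ ⁅U, U⁆ ⊔ K := by
      rw [commutator_def, Subgroup.commutator_le]
      intro a _ b _
      obtain ⟨u, hu, k, hk, rfl⟩ := Subgroup.mem_sup_of_normal_right.mp
        ((by rw [sup_comm, hKU]; exact Subgroup.mem_top a) : a ∈ U ⊔ K)
      obtain ⟨v, hv, l, hl, rfl⟩ := Subgroup.mem_sup_of_normal_right.mp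
        ((by rw [sup_comm, hKU]; exact Subgroup.mem_top b) : b ∈ U ⊔ K)
      have hq : QuotientGroup.mk' K ⁅u * k, v * l⁆ = QuotientGroup.mk' K ⁅u, v⁆ := by
        simp only [map_commutatorElement, map_mul, QuotientGroup.mk'_apply,
          (QuotientGroup.eq_one_iff k).mpr hk, (QuotientGroup.eq_one_iff l).mpr hl, mul_one]
      have h1 : ⁅u * k, v * l⁆ = ⁅u, v⁆ * (⁅u, v⁆⁻¹ * ⁅u * k, v * l⁆) := by group
      rw [h1]
      exact Subgroup.mul_mem_sup (Subgroup.commutator_mem_commutator hu hv) (QuotientGroup.eq.mp hq.symm)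
    obtain ⟨c, hc, k, hk, rfl⟩ := Subgroup.mem_sup_of_normal_right.mp (hle hxc)
    have hUU : ⁅U, U⁆ ≤ U := Subgroup.commutator_le_self U
    have hkU : k ∈ U := by
      have := U.mul_mem (U.inv_mem (hUU hc)) (hH hxH)
      simpa using this
    set f := QuotientGroup.mk' (⁅U, U⁆.subgroupOf U) with hf
    have hfx : f ⟨c * k, hH hxH⟩ = f ⟨k, hkU⟩ := by
      rw [show (⟨c * k, hH hxH⟩ : U) = ⟨c, hUU hc⟩ * ⟨k, hkU⟩ from rfl, map_mul,
        show f ⟨c, hUU hc⟩ = 1 from (QuotientGroup.eq_one_iff _).mpr (Subgroup.mem_subgroupOf.mpr hc),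
        one_mul]
    have h1 : orderOf (f ⟨c * k, hH hxH⟩) ∣ Nat.card H := by
      refine (orderOf_map_dvd f _).trans ?_
      rw [Subgroup.orderOf_mk]
      exact Subgroup.orderOf_dvd_natCard H hxH
    have h2 : orderOf (f ⟨c * k, hH hxH⟩) ∣ Nat.card K := by
      rw [hfx]
      refine (orderOf_map_dvd f _).trans ?_
      rw [Subgroup.orderOf_mk]
      exact Subgroup.orderOf_dvd_natCard K hk
    exact Subgroup.mem_subgroupOf.mp ((QuotientGroup.eq_one_iff _).mp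
      (orderOf_eq_one_iff.mp (Nat.eq_one_of_dvd_coprimes hcop h1 h2)))
  · refine le_antisymm (fun g hg => ?_) (sup_le (inf_le_right.trans (Subgroup.centralizer_le_normalizer _)) inf_le_right)
    have hmap := Cfsg.Lib.Core.map_conj_eq_of_mem_normalizer hg
    obtain ⟨u, hu, c, hc, rfl⟩ := key g (hmap.trans_le hH)
    have hcN : c ∈ Subgroup.normalizer (H : Set G) := Subgroup.centralizer_le_normalizer _ hc.2
    refine mul_mem (Subgroup.mem_sup_right ⟨hu, ?_⟩) (Subgroup.mem_sup_left hc)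
    have := mul_mem hg (inv_mem hcN)
    rwa [mul_inv_cancel_right] at this

end Cfsg.Agent.S1460
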