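import Cfsg.Statements.S1461
import Cfsg.Agent.Lib.Local.PLengthOne
import Cfsg.Agent.S1460
import Cfsg.Agent.Lib.Coprime.Conjugacy
-- import your own Cfsg.Agent.* helpers here

set_option autoImplicit false
open Cfsg

namespace Cfsg.Agent.S1461

/-- Let G be a finite solvable group, p a prime with G = O_{p',p,p'}(G), and S a Sylow p-subgroup. Then: if S ≤ G' then S ≤ [N_G(S), N_G(S)]; if Y ⊆ S and xYx⁻¹ ⊆ S then x = g c for some g ∈ N_G(S) and c centralizing Y; and for every p-subgroup Q there is x ∈ C_G(Q ∩ S) with xQx⁻¹ ≤ S. -/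
theorem result {G : Type*} [Group G] [Finite G] [Group.IsSolvable G] (p : ℕ) [Fact p.Prime] (hpl : Cfsg.PLengthLE p 1 G) (S : Sylow p G) :
    ((S : Subgroup G) ≤ commutator G → (S : Subgroup G) ≤ ⁅Subgroup.normalizer ((S : Subgroup G) : Set G), Subgroup.normalizer ((S : Subgroup G) : Set G)⁆) ∧
      (∀ (Y : Set G) (x : G), Y ⊆ (S : Subgroup G) → (fun y => x * y * x⁻¹) '' Y ⊆ (S : Subgroup G) →
        ∃ g ∈ Subgroup.normalizer ((S : Subgroup G) : Set G), ∃ c ∈ Subgroup.centralizer Y, g * c = x) ∧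
      ∀ Q : Subgroup G, IsPGroup p Q → ∃ x ∈ Subgroup.centralizer ((Q ⊓ (S : Subgroup G) : Subgroup G) : Set G), Q.map (MulAut.conj x).toMonoidHom ≤ (S : Subgroup G) := by
  set K := Cfsg.pPrimeCore p G
  set U := Subgroup.normalizer ((S : Subgroup G) : Set G)
  have hKU : K ⊔ U = ⊤ := Cfsg.Lib.Local.pLengthOne_sup_normalizer hpl S
  have hcopS : ∀ Y : Subgroup G, Y ≤ (S : Subgroup G) → (Nat.card Y).Coprime (Nat.card K) := by
    intro Y hY
    obtain ⟨k, hk⟩ := IsPGroup.iff_card.mp (S.isPGroup'.to_le hY)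
    rw [hk]
    exact ((Cfsg.Lib.Core.pPrimeCore_coprime p G).pow_right k).symm
  have hfus : ∀ (Y : Set G) (x : G), Y ⊆ (S : Subgroup G) →
      (fun y => x * y * x⁻¹) '' Y ⊆ (S : Subgroup G) →
      ∃ g ∈ U, ∃ c ∈ Subgroup.centralizer Y, g * c = x := by
    intro Y x hY hx
    have hcl : Subgroup.closure Y ≤ (S : Subgroup G) := (Subgroup.closure_le _).mpr hY
    obtain ⟨u, hu, c, hc, he⟩ := (Cfsg.Agent.S1460.result K U (Subgroup.closure Y) hKU
      (hcl.trans Subgroup.le_normalizer) (hcopS _ hcl)).2.2 x (by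
        rw [MonoidHom.map_closure, Subgroup.closure_le]
        exact Set.Subset.trans hx (fun y hy => Subgroup.le_normalizer hy))
    refine ⟨u, hu, c, ?_, he.symm⟩
    have := (Subgroup.centralizer_closure Y).le hc.2
    exact this
  refine ⟨fun hle => ?_, hfus, fun Q hQ => ?_⟩
  · have h := (Cfsg.Agent.S1460.result K U S hKU Subgroup.le_normalizer (hcopS _ le_rfl)).1
    rw [inf_eq_left.mpr hle] at h
    exact h.le.trans inf_le_right
  · obtain ⟨Q', hQ'⟩ := hQ.exists_le_sylow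
    obtain ⟨k, hk⟩ := MulAction.exists_smul_eq G Q' S
    have hkQ : ∀ y ∈ Q, k * y * k⁻¹ ∈ (S : Subgroup G) := fun y hy => by
      rw [← hk]
      exact Subgroup.smul_mem_pointwise_smul y (MulAut.conj k) (Q' : Subgroup G) (hQ' hy)
    obtain ⟨u, hu, c, hc, he⟩ := hfus ((Q ⊓ (S : Subgroup G) : Subgroup G) : Set G) k
      (fun y hy => hy.2) (by rintro _ ⟨y, hy, rfl⟩; exact hkQ y hy.1)
    refine ⟨c, hc, ?_⟩
    rintro _ ⟨y, hy, rfl⟩
    show c * y * c⁻¹ ∈ (S : Subgroup G)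
    have h1 := hkQ y hy
    have h2 : u * (c * y * c⁻¹) * u⁻¹ ∈ (S : Subgroup G) := by
      rw [← he] at h1
      simpa [mul_assoc] using h1
    exact (Subgroup.mem_normalizer_iff.mp hu _).mpr h2

end Cfsg.Agent.S1461
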