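import Cfsg.Statements.S1462
import Cfsg.Agent.Lib.Local.PLengthOne
import Cfsg.Agent.Lib.Core.PSolvable
import Cfsg.Agent.S1443
import Cfsg.Agent.Lib.Local.Basic
-- import your own Cfsg.Agent.* helpers here

set_option autoImplicit false
open Cfsg

namespace Cfsg.Agent.S1462

/-- Let G be a finite solvable group, p an odd prime with G = O_{p',p,p'}(G), E an elementary abelian p-subgroup contained in no larger elementary abelian p-subgroup of G, and L a subgroup of order coprime to p normalized by E. Then L ≤ O_{p'}(G). -/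
theorem result {G : Type*} [Group G] [Finite G] [Group.IsSolvable G] (p : ℕ) [Fact p.Prime] (hp : p ≠ 2) (hpl : Cfsg.PLengthLE p 1 G) (E L : Subgroup G) (hE : Cfsg.IsElementaryAbelian p E)
    (hEmax : ∀ B : Subgroup G, Cfsg.IsElementaryAbelian p B → E ≤ B → B = E) (hL : (Nat.card L).Coprime p) (hEL : E ≤ Subgroup.normalizer (L : Set G)) :
    L ≤ Cfsg.pPrimeCore p G := by
  classical
  set K := Cfsg.pPrimeCore p G
  set f := QuotientGroup.mk' K with hf
  have hfs : Function.Surjective f := QuotientGroup.mk'_surjective K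
  obtain ⟨S⟩ : Nonempty (Sylow p G) := inferInstance
  set P := S.mapSurjective hfs with hP
  haveI hPn : (P : Subgroup (G ⧸ K)).Normal := by
    haveI := Cfsg.Lib.Local.pLengthOne_sup_normal hpl S
    have h1 := Subgroup.Normal.map (H := K ⊔ (S : Subgroup G)) inferInstance f hfs
    rwa [Subgroup.map_sup, (Subgroup.map_eq_bot_iff (H := K)).mpr (QuotientGroup.ker_mk' K).ge, bot_sup_eq] at h1
  have hPcore : Cfsg.pCore p (G ⧸ K) = (P : Subgroup (G ⧸ K)) :=
    le_antisymm (Cfsg.Lib.Core.pCore_le_sylow P) (Cfsg.Lib.Core.le_pCore P.isPGroup')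
  haveI : Group.IsSolvable (G ⧸ K) := inferInstance
  have hch := Cfsg.Lib.Core.centralizer_pCore_le_of_isPSolvable
    (Cfsg.Lib.Core.isPSolvable_of_isSolvable (p := p) (G := G ⧸ K)) Cfsg.Lib.Core.pPrimeCore_quotient_eq_bot
  rw [hPcore] at hch
  have hEp : IsPGroup p ↥E := fun e => ⟨1, Subtype.ext (by simpa using hE.2 e e.2)⟩
  set E' := E.map f with hE'
  set A := L.map f with hA
  have hE'P : E' ≤ (P : Subgroup (G ⧸ K)) := hPcore ▸ by
    obtain ⟨Q, hQ⟩ := (hEp.map f).exists_le_sylow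
    obtain ⟨x, hx⟩ := MulAction.exists_smul_eq (G ⧸ K) P Q
    have : (Q : Subgroup (G ⧸ K)) = (P : Subgroup (G ⧸ K)) := by
      rw [← hx, Sylow.coe_subgroup_smul]
      exact Subgroup.Normal.conj_smul_eq_self x _
    rw [hPcore]
    exact hQ.trans this.le
  have hE'e : Cfsg.IsElementaryAbelian p E' := by
    refine ⟨⟨⟨?_⟩⟩, ?_⟩
    · rintro ⟨_, a, ha, rfl⟩ ⟨_, b, hb, rfl⟩
      refine Subtype.ext ?_
      show f a * f b = f b * f a
      rw [← map_mul, ← map_mul]
      exact congrArg f (congrArg Subtype.val (hE.1.is_comm.comm ⟨a, ha⟩ ⟨b, hb⟩) :)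
    · rintro _ ⟨a, ha, rfl⟩
      rw [← map_pow, hE.2 a ha, map_one]
  have hAc : (Nat.card A).Coprime p := Nat.Coprime.coprime_dvd_left (Cfsg.Lib.Core.card_map_dvd f L) hL
  have hAP : A ⊓ (P : Subgroup (G ⧸ K)) = ⊥ := by
    obtain ⟨k, hk⟩ := IsPGroup.iff_card.mp P.isPGroup'
    exact Subgroup.inf_eq_bot_of_coprime (by rw [hk]; exact hAc.pow_right k)
  have hAE : ⁅A, E'⁆ = ⊥ := by
    refine eq_bot_iff.mpr ((le_inf ?_ ?_).trans hAP.le)
    · rw [hA, hE', ← Subgroup.map_commutator]
      exact Subgroup.map_mono (Cfsg.Lib.Coprime.commutator_le_of_le_normalizer hEL)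
    · exact (Subgroup.commutator_mono le_rfl hE'P).trans
        ((Subgroup.commutator_comm _ _).trans_le
          (Cfsg.Lib.Coprime.commutator_le_of_le_normalizer (Cfsg.Lib.Local.le_normalizer_normal A)))
  have hAcentral : A ≤ Subgroup.centralizer ((P : Subgroup (G ⧸ K)) : Set (G ⧸ K)) := by
    refine Cfsg.Agent.S1443.result p hp _ E' A P.isPGroup' hE'P hE'e
      (Cfsg.Lib.Local.le_normalizer_normal A) hAc fun x hx hxp => ?_
    -- the centralizer of `E'` has no further element of order `p`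
    suffices hxE : x ∈ E' by
      intro a ha
      exact Subgroup.mem_centralizer_singleton_iff.mpr
        (Subgroup.mem_centralizer_iff.mp (Subgroup.commutator_eq_bot_iff_le_centralizer.mp hAE ha) x hxE).symm
    set B := E' ⊔ Subgroup.zpowers x with hB
    have hBc : ∀ a ∈ B, ∀ b ∈ B, Commute a b := by
      have hc : IsMulCommutative ↥B := by
        rw [← Subgroup.le_centralizer_iff_isMulCommutative, hB]
        have hxc : Subgroup.zpowers x ≤ Subgroup.centralizer (E' : Set (G ⧸ K)) :=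
          Subgroup.zpowers_le.mpr hx.2
        haveI := hE'e.1
        refine sup_le ?_ ?_
        · rw [Subgroup.le_centralizer_iff]
          exact sup_le (Subgroup.le_centralizer E') hxc
        · rw [Subgroup.le_centralizer_iff]
          exact sup_le (Subgroup.le_centralizer_iff.mp hxc) (Subgroup.le_centralizer _)
      exact fun a ha b hb => congrArg Subtype.val (hc.is_comm.comm ⟨a, ha⟩ ⟨b, hb⟩)
    have hBp : ∀ b ∈ B, b ^ p = 1 := by
      intro b hb
      obtain ⟨e, he, y, hy, rfl⟩ := (Cfsg.Lib.Core.mem_sup_of_commute (A := E') (B := Subgroup.zpowers x) (by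
        rw [Subgroup.commutator_eq_bot_iff_le_centralizer, Subgroup.le_centralizer_iff]
        exact Subgroup.zpowers_le.mpr hx.2)).mp hb
      obtain ⟨i, rfl⟩ := Subgroup.mem_zpowers_iff.mp hy
      have hc : Commute e (x ^ i) :=
        hBc e (Subgroup.mem_sup_left he) _ (Subgroup.mem_sup_right (Subgroup.zpow_mem_zpowers x i))
      have hx1 : x ^ p = 1 := orderOf_dvd_iff_pow_eq_one.mp hxp.dvd
      rw [hc.mul_pow, hE'e.2 e he, one_mul, ← zpow_natCast, ← zpow_mul, mul_comm, zpow_mul, zpow_natCast,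
        hx1, one_zpow]
    have hBgrp : IsPGroup p ↥B := fun b => ⟨1, Subtype.ext (by simpa using hBp b b.2)⟩
    set W := B.comap f with hW
    have hEW : E ≤ W := Subgroup.map_le_iff_le_comap.mp le_sup_left
    obtain ⟨R, hR⟩ := (hEp.comap_subtype (K := W)).exists_le_sylow
    set R' := (R : Subgroup ↥W).map W.subtype with hR'
    have hER : E ≤ R' := by rw [← Subgroup.map_subgroupOf_eq_of_le hEW]; exact Subgroup.map_mono hR
    have hR'p : IsPGroup p ↥R' := R.isPGroup'.map _
    have hR'W : R' ≤ W := Subgroup.map_subtype_le _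
    have hRK : R' ⊓ K = ⊥ := by
      obtain ⟨k, hk⟩ := IsPGroup.iff_card.mp hR'p
      exact Subgroup.inf_eq_bot_of_coprime (by
        rw [hk]; exact ((Cfsg.Lib.Core.pPrimeCore_coprime p G).pow_right k).symm)
    have hinj : ∀ a ∈ R', f a = 1 → a = 1 := fun a ha h1 =>
      Subgroup.mem_bot.mp (hRK ▸ (⟨ha, (QuotientGroup.eq_one_iff a).mp h1⟩ : a ∈ R' ⊓ K))
    have hRe : Cfsg.IsElementaryAbelian p R' := by
      refine ⟨⟨⟨fun a b => Subtype.ext ?_⟩⟩, fun a ha => hinj _ (pow_mem ha p) ?_⟩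
      · have hab : f ((a : G) * b * ((b : G) * a)⁻¹) = 1 := by
          rw [map_mul, map_mul, map_inv, map_mul, (hBc _ (hR'W a.2) _ (hR'W b.2)).eq, mul_inv_cancel]
        exact mul_inv_eq_one.mp (hinj _ (mul_mem (mul_mem a.2 b.2) (inv_mem (mul_mem b.2 a.2))) hab)
      · rw [map_pow]; exact hBp _ (hR'W ha)
    have hREq : R' = E := hEmax R' hRe hER
    -- the image of `R'` is all of `B`
    let φ : ↥W →* ↥B := (f.comp W.subtype).codRestrict B (fun w => w.2)
    have hφ : Function.Surjective φ := fun b => by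
      obtain ⟨g, hg⟩ := hfs (b : G ⧸ K)
      exact ⟨⟨g, (show f g ∈ B from hg ▸ b.2)⟩, Subtype.ext hg⟩
    have htop : (R : Subgroup ↥W).map φ = ⊤ := by
      have h1 := (R.mapSurjective hφ).3 (hBgrp.to_subgroup ⊤) le_top
      exact h1.symm
    obtain ⟨w, hw, hwx⟩ : (⟨x, Subgroup.mem_sup_right (Subgroup.mem_zpowers x)⟩ : ↥B) ∈ (R : Subgroup ↥W).map φ :=
      htop ▸ Subgroup.mem_top _
    refine ⟨(w : G), ?_, congrArg Subtype.val hwx⟩
    rw [← hREq]
    exact Subgroup.mem_map_of_mem _ hw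
  have h0 : A = ⊥ := eq_bot_iff.mpr ((le_inf le_rfl (hAcentral.trans hch)).trans hAP.le)
  rw [hA, Subgroup.map_eq_bot_iff, QuotientGroup.ker_mk'] at h0
  exact h0

end Cfsg.Agent.S1462
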