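import Cfsg.Statements.S1464
import Cfsg.Agent.Lib.Local.SL2Involved

set_option autoImplicit false
open Cfsg

namespace Cfsg.Agent.S1464

/-- Let p be an odd prime and G a solvable group of odd order, P a p-subgroup with O_{p'}(G)P normal in G, and A a p-subgroup of N_G(P) with [[P, A], A] = 1. Then the image of A in the quotient N_G(P)/C_G(P) is contained in the p-core of that quotient. -/
theorem result {G : Type*} [Group G] [Finite G] [Group.IsSolvable G] (hodd : Odd (Nat.card G)) (p : ℕ) [Fact p.Prime] (hp : p ≠ 2) (P A : Subgroup G) (hP : IsPGroup p P) (hPn : (Cfsg.pPrimeCore p G ⊔ P).Normal)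
    (hA : IsPGroup p A) (hAN : A ≤ Subgroup.normalizer (P : Set G)) (hquad : ⁅⁅P, A⁆, A⁆ = ⊥) :
    (A.subgroupOf (Subgroup.normalizer (P : Set G))).map
        (QuotientGroup.mk' ((Subgroup.centralizer (P : Set G)).subgroupOf (Subgroup.normalizer (P : Set G))))
      ≤ Cfsg.pCore p _ := by
  refine Cfsg.Lib.Local.SL2Involved.map_le_pCore
    (Cfsg.Lib.Local.QdInvolved.isNormalizerPStable_of_not_involves_qd hp fun h => ?_) P A hP hquad
  refine Cfsg.Lib.Local.SL2Involved.not_involves_SL2_of_abelian_sylow_two (p := p) hp (fun T => ?_)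
    (Cfsg.Lib.Local.SL2Involved.involves_SL2_of_qd h)
  have hT : (T : Subgroup G) = ⊥ := by
    haveI : Fact (Nat.Prime 2) := ⟨Nat.prime_two⟩
    obtain ⟨k, hk⟩ := IsPGroup.iff_card.1 T.isPGroup'
    rcases k with _ | k
    · exact Subgroup.card_eq_one.1 (by simpa using hk)
    · exfalso
      have h2 : 2 ∣ Nat.card G := (Dvd.intro_left (2 ^ k) (pow_succ 2 k).symm).trans
        (hk ▸ Subgroup.card_subgroup_dvd_card (T : Subgroup G))
      exact (Nat.not_even_iff_odd.2 hodd) (even_iff_two_dvd.2 h2)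
  refine ⟨⟨fun x y => Subtype.ext ?_⟩⟩
  show (x : G) * y = y * x
  rw [Subgroup.mem_bot.1 (hT.le x.2), one_mul, mul_one]

end Cfsg.Agent.S1464
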