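import Cfsg.Statements.S1470
import Mathlib.FieldTheory.Finite.Trace
import Mathlib.FieldTheory.Finite.GaloisField
import Mathlib.Algebra.Polynomial.Roots
-- import your own Cfsg.Agent.* helpers here

set_option autoImplicit false
open Cfsg

namespace Cfsg.Agent.S1470

/-- Let p and q be odd primes with (p^q − 1)/(p − 1) coprime to p − 1, and let E be the set of elements a of the field with p ^ q elements whose norm to the prime field is 1 and for which 2 − a also has norm 1. If a⁻¹ ∈ E for every a ∈ E and E has at least two elements, then p ≤ q. -/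
theorem result (p q : ℕ) [Fact p.Prime] [Fact q.Prime] (hp : p ≠ 2) (hq : q ≠ 2) (hA : Nat.Coprime ((p ^ q - 1) / (p - 1)) (p - 1))
    (hinv : ∀ a ∈ {a : GaloisField p q | Algebra.norm (ZMod p) a = 1 ∧ Algebra.norm (ZMod p) (2 - a) = 1}, a⁻¹ ∈ {a : GaloisField p q | Algebra.norm (ZMod p) a = 1 ∧ Algebra.norm (ZMod p) (2 - a) = 1})
    (h2 : 2 ≤ Set.ncard {a : GaloisField p q | Algebra.norm (ZMod p) a = 1 ∧ Algebra.norm (ZMod p) (2 - a) = 1}) :
    p ≤ q := by
  classical
  haveI : Fintype (GaloisField p q) := Fintype.ofFinite _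
  have hq0 : q ≠ 0 := (Fact.out : q.Prime).ne_zero
  have hp1 : p.Prime := Fact.out
  have hfr : Module.finrank (ZMod p) (GaloisField p q) = q := GaloisField.finrank p hq0
  set N := Algebra.norm (ZMod p) (S := GaloisField p q) with hN
  set E := {a : GaloisField p q | N a = 1 ∧ N (2 - a) = 1} with hE
  have hqp : ¬ q ∣ p - 1 := by
    intro hd
    have hs : q ∣ (p ^ q - 1) / (p - 1) := by
      rw [← Nat.geomSum_eq hp1.two_le, ← ZMod.natCast_eq_zero_iff]
      have hp' : (p : ZMod q) = 1 := by
        have h0 := (ZMod.natCast_eq_zero_iff (p - 1) q).mpr hd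
        rwa [Nat.cast_sub hp1.one_le, Nat.cast_one, sub_eq_zero] at h0
      simp [hp']
    exact (Fact.out : q.Prime).one_lt.ne' (Nat.eq_one_of_dvd_coprimes hA hs hd)
  obtain ⟨a, ha, ha1⟩ : ∃ a ∈ E, a ≠ 1 := by
    by_contra hc
    simp only [not_exists, not_and, not_not] at hc
    have : E.ncard ≤ 1 := (Set.ncard_le_ncard (t := {1}) (fun a ha => hc a ha)).trans (le_of_eq (Set.ncard_singleton _))
    omega
  have hnot : ∀ k : ZMod p, algebraMap (ZMod p) (GaloisField p q) k ≠ a := by
    rintro k rfl
    have h : k ^ q = 1 := by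
      have := ha.1
      rwa [hN, Algebra.norm_algebraMap, hfr] at this
    have hk0 : k ≠ 0 := by rintro rfl; simp [hq0] at h
    have ho : orderOf k ∣ q := orderOf_dvd_of_pow_eq_one h
    have ho' : orderOf k ∣ p - 1 := orderOf_dvd_of_pow_eq_one (ZMod.pow_card_sub_one_eq_one hk0)
    rcases (Fact.out : q.Prime).eq_one_or_self_of_dvd _ ho with e | e
    · exact ha1 (by rw [orderOf_eq_one_iff.mp e, map_one])
    · exact hqp (e ▸ ho')
  have hstep : ∀ x ∈ E, (2 - x)⁻¹ ∈ E := fun x hx => hinv _ ⟨hx.2, by rw [sub_sub_cancel]; exact hx.1⟩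
  set b := (a - 1)⁻¹ with hb
  have ha0 : a - 1 ≠ 0 := sub_ne_zero.mpr ha1
  have hbk : ∀ k : ℕ, b - k ≠ 0 := by
    intro k h
    rw [sub_eq_zero] at h
    apply hnot (1 + (k : ZMod p)⁻¹)
    rw [map_add, map_one, map_inv₀, map_natCast, ← h, hb, inv_inv, add_sub_cancel]
  have horb : ∀ k : ℕ, 1 + (b - k)⁻¹ ∈ E := by
    intro k
    induction k with
    | zero => simpa [hb] using ha
    | succ k ih =>
      have hk1 : b - k - 1 ≠ 0 := by
        have := hbk (k + 1); push_cast at this; rwa [sub_sub]
      convert hstep _ ih using 1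
      have hk := hbk k
      have e : (2 : GaloisField p q) - (1 + (b - k)⁻¹) = (b - k - 1) / (b - k) := by
        field_simp; ring
      rw [e, inv_div, Nat.cast_add, Nat.cast_one, ← sub_sub]
      field_simp; ring
  have hconst : ∀ k : ℕ, N ((k : GaloisField p q) - b) = N (-b) := by
    intro k
    induction k with
    | zero => simp
    | succ k ih =>
      rw [← ih]
      have hk := hbk k
      have h := (horb k).1
      rw [show 1 + (b - k)⁻¹ = ((k : GaloisField p q) - b - 1) / ((k : GaloisField p q) - b) by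
        have hk' : (k : GaloisField p q) - b ≠ 0 := fun h => hk (by linear_combination -h)
        field_simp; ring] at h
      have h2 := (horb (k + 1))
      have hk2 := hbk (k + 1)
      push_cast at h2 hk2 ⊢
      have h' := h2.1
      rw [show 1 + (b - ((k : GaloisField p q) + 1))⁻¹ = ((k : GaloisField p q) - b) / ((k : GaloisField p q) + 1 - b) by
        have hk' : (k : GaloisField p q) + 1 - b ≠ 0 := fun h => hk2 (by linear_combination -h)
        field_simp; ring] at h'
      have hmul : N (((k : GaloisField p q) - b) / ((k : GaloisField p q) + 1 - b)) *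
          N ((k : GaloisField p q) + 1 - b) = N ((k : GaloisField p q) - b) := by
        rw [← map_mul, div_mul_cancel₀]
        exact fun h => hk2 (by linear_combination -h)
      rw [h', one_mul] at hmul
      exact hmul
  set Q : Polynomial (GaloisField p q) := (∏ i ∈ Finset.range q, (Polynomial.X - Polynomial.C (b ^ p ^ i))) -
    Polynomial.C (algebraMap (ZMod p) _ (N (-b))) with hQ
  have hmon : (∏ i ∈ Finset.range q, (Polynomial.X - Polynomial.C (b ^ p ^ i))).Monic :=
    Polynomial.monic_prod_of_monic _ _ fun i _ => Polynomial.monic_X_sub_C _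
  have hdeg : (∏ i ∈ Finset.range q, (Polynomial.X - Polynomial.C (b ^ p ^ i))).natDegree = q := by
    rw [Polynomial.natDegree_prod_of_monic _ _ fun i _ => Polynomial.monic_X_sub_C _]
    simp only [Polynomial.natDegree_X_sub_C, Finset.sum_const, Finset.card_range, smul_eq_mul, mul_one]
  have hQdeg : Q.natDegree = q := by rw [hQ, Polynomial.natDegree_sub_C, hdeg]
  have hQ0 : Q ≠ 0 := fun h => hq0 (by rw [← hQdeg, h, Polynomial.natDegree_zero])
  have hroots : ((Finset.univ : Finset (ZMod p)).image (algebraMap (ZMod p) (GaloisField p q))).val ⊆ Q.roots := by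
    intro x hx
    rw [Finset.mem_val, Finset.mem_image] at hx
    obtain ⟨k, -, rfl⟩ := hx
    rw [Polynomial.mem_roots hQ0, Polynomial.IsRoot, hQ, Polynomial.eval_sub, Polynomial.eval_C,
      Polynomial.eval_prod, sub_eq_zero, ← hconst k.val, map_natCast (algebraMap (ZMod p) (GaloisField p q)) k.val |>.symm,
      ZMod.natCast_zmod_val, hN, FiniteField.algebraMap_norm_eq_prod_pow, hfr, Nat.card_zmod]
    refine Finset.prod_congr rfl fun i _ => ?_
    rw [Polynomial.eval_sub, Polynomial.eval_X, Polynomial.eval_C, sub_pow_char_pow, ← map_pow,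
      ZMod.pow_card_pow]
  have := Polynomial.card_le_degree_of_subset_roots hroots
  rw [Finset.card_image_of_injective _ (algebraMap (ZMod p) (GaloisField p q)).injective, Finset.card_univ,
    ZMod.card, hQdeg] at this
  exact this

end Cfsg.Agent.S1470
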