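import Cfsg.Statements.S1471
import Mathlib.FieldTheory.Finite.GaloisField
import Mathlib.FieldTheory.Finite.Trace
import Mathlib.NumberTheory.JacobiSum.Basic
import Mathlib.NumberTheory.MulChar.Duality
import Mathlib.NumberTheory.MulChar.Lemmas
import Mathlib.Analysis.Complex.Polynomial.Basic
import Mathlib.RingTheory.RootsOfUnity.AlgebraicallyClosed
import Mathlib.RingTheory.Norm.Transitivity
import Mathlib.Algebra.Polynomial.SpecificDegree
-- import your own Cfsg.Agent.* helpers here

set_option autoImplicit false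
open Cfsg

namespace Cfsg.Agent.S1471

section Cubic

open Polynomial

variable {p : ℕ} [Fact p.Prime]

/-- The cubics `X³ - tX² + (2t - 3)X - 1`. -/
noncomputable def cubic (t : ZMod p) : (ZMod p)[X] := X ^ 3 + C (-t) * X ^ 2 + C (2 * t - 3) * X + C (-1)

theorem cubic_monic (t : ZMod p) : (cubic t).Monic := by
  unfold cubic; monicity!

theorem cubic_natDegree (t : ZMod p) : (cubic t).natDegree = 3 := by
  unfold cubic; compute_degree!

theorem cubic_eval (t r : ZMod p) : (cubic t).eval r = r ^ 3 - 3 * r - 1 - t * (r ^ 2 - 2 * r) := by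
  simp [cubic]; ring

theorem exists_rootless (hp : p ≠ 2) : ∃ t : ZMod p, ∀ r, (cubic t).eval r ≠ 0 := by
  classical
  by_contra hc
  simp only [not_exists, not_forall, not_not] at hc
  choose f hf using hc
  have hinj : Function.Injective f := fun s t e => by
    have hs := hf s
    rw [e] at hs
    have ht := hf t
    rw [cubic_eval] at hs ht
    by_contra hne
    have h : (s - t) * (f t * (f t - 2)) = 0 := by linear_combination ht - hs
    rcases mul_eq_zero.mp h with h | h
    · exact hne (sub_eq_zero.mp h)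
    · rcases mul_eq_zero.mp h with h | h
      · rw [h] at ht; norm_num at ht
      · rw [sub_eq_zero.mp h] at ht; norm_num at ht
  have hnot : ∀ t, f t ≠ 0 := fun t h => by
    have := hf t
    rw [cubic_eval, h] at this
    norm_num at this
  obtain ⟨t, ht⟩ := (Finite.injective_iff_surjective.mp hinj) 0
  exact hnot t ht

variable {F : Type*} [Field F] [Algebra (ZMod p) F] [FiniteDimensional (ZMod p) F]

theorem norm_eq_one (hF : Module.finrank (ZMod p) F = 3) {t : ZMod p} (ht : ∀ r, (cubic t).eval r ≠ 0)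
    {a : F} (ha : aeval a (cubic t) = 0) : Algebra.norm (ZMod p) a = 1 := by
  have hirr : Irreducible (cubic t) := irreducible_of_degree_le_three_of_not_isRoot
    (by rw [cubic_natDegree]; decide) fun r hr => ht r hr
  have hmin : minpoly (ZMod p) a = cubic t :=
    (minpoly.eq_of_irreducible_of_monic hirr ha (cubic_monic t)).symm
  have hai : IsIntegral (ZMod p) a := IsIntegral.of_finite _ _
  have h3 : Module.finrank (ZMod p) (IntermediateField.adjoin (ZMod p) ({a} : Set F)) = 3 := by
    rw [IntermediateField.adjoin.finrank hai, hmin, cubic_natDegree]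
  have h1 : Module.finrank (IntermediateField.adjoin (ZMod p) ({a} : Set F)) F = 1 := by
    have := Module.finrank_mul_finrank (ZMod p) (IntermediateField.adjoin (ZMod p) ({a} : Set F)) F
    rw [h3, hF] at this
    omega
  rw [Algebra.norm_eq_norm_adjoin, h1, pow_one, ← IntermediateField.adjoin.powerBasis_gen hai,
    Algebra.PowerBasis.norm_gen_eq_coeff_zero_minpoly, IntermediateField.adjoin.powerBasis_gen,
    IntermediateField.minpoly_gen, IntermediateField.adjoin.powerBasis_dim, hmin, cubic_natDegree]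
  simp [cubic]
  norm_num

theorem exists_pair (hp : p ≠ 2) : ∃ a : GaloisField p 3, a ≠ 1 ∧
    Algebra.norm (ZMod p) a = 1 ∧ Algebra.norm (ZMod p) (2 - a) = 1 := by
  obtain ⟨t, ht⟩ := exists_rootless hp
  have hirr : Irreducible (cubic t) := irreducible_of_degree_le_three_of_not_isRoot
    (by rw [cubic_natDegree]; decide) fun r hr => ht r hr
  haveI := Fact.mk hirr
  haveI : Module.Finite (ZMod p) (AdjoinRoot (cubic t)) :=
    (AdjoinRoot.powerBasis (cubic_monic t).ne_zero).finite
  haveI : Finite (AdjoinRoot (cubic t)) := Module.finite_of_finite (ZMod p)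
  have hcard : Nat.card (AdjoinRoot (cubic t)) = p ^ 3 := by
    rw [Module.natCard_eq_pow_finrank (K := ZMod p), Nat.card_zmod,
      (AdjoinRoot.powerBasis (cubic_monic t).ne_zero).finrank, AdjoinRoot.powerBasis_dim, cubic_natDegree]
  let φ := GaloisField.algEquivGaloisField p 3 hcard
  set a := φ (AdjoinRoot.root (cubic t)) with hadef
  have ha : aeval a (cubic t) = 0 := by
    rw [hadef, ← AlgEquiv.coe_algHom, aeval_algHom_apply, AdjoinRoot.aeval_eq, AdjoinRoot.mk_self, map_zero]
  have hF := GaloisField.finrank p (n := 3) (by norm_num)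
  refine ⟨a, fun h1 => ?_, norm_eq_one hF ht ha, ?_⟩
  · rw [h1, ← map_one (algebraMap (ZMod p) (GaloisField p 3)), aeval_algebraMap_apply_eq_algebraMap_eval,
      map_eq_zero] at ha
    exact ht 1 ha
  · refine norm_eq_one hF (t := 6 - t) (fun r hr => ht (2 - r) ?_) ?_
    · rw [cubic_eval] at hr ⊢; linear_combination -hr
    · have e : aeval a (cubic t) = a ^ 3 + algebraMap _ _ (-t) * a ^ 2 + algebraMap _ _ (2 * t - 3) * a + algebraMap _ _ (-1) := by
        simp [cubic]
      rw [e] at ha
      simp only [cubic, map_add, map_mul, aeval_X, aeval_C, map_pow]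
      simp only [map_neg, map_sub, map_mul, map_ofNat, map_one] at ha ⊢
      linear_combination -ha

end Cubic

section Jacobi

open scoped ComplexConjugate

variable {K F : Type*} [Field K] [Fintype K] [Field F] [Fintype F] [Algebra K F]

/-- A character of the base field composed with the norm. -/
noncomputable def normChar (χ : MulChar K ℂ) : MulChar F ℂ where
  toMonoidHom := χ.toMonoidHom.comp (Algebra.norm K)
  map_nonunit' a ha := by
    have : a = 0 := by simpa [isUnit_iff_ne_zero] using ha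
    subst this
    show χ (Algebra.norm K (0 : F)) = 0
    rw [Algebra.norm_zero, MulChar.map_zero]

theorem normChar_apply (χ : MulChar K ℂ) (a : F) : normChar χ a = χ (Algebra.norm K a) := rfl

theorem normChar_mul (χ ψ : MulChar K ℂ) : (normChar (χ * ψ) : MulChar F ℂ) = normChar χ * normChar ψ :=
  MulChar.ext fun a => by simp [normChar_apply]

theorem normChar_one : (normChar (1 : MulChar K ℂ) : MulChar F ℂ) = 1 := by
  refine MulChar.ext fun a => ?_
  rw [normChar_apply, MulChar.one_apply_coe]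
  exact MulChar.one_apply (Algebra.norm_ne_zero_iff.mpr a.ne_zero).isUnit

theorem normChar_eq_one {χ : MulChar K ℂ} (h : (normChar χ : MulChar F ℂ) = 1) : χ = 1 := by
  refine MulChar.ext fun u => ?_
  obtain ⟨a, ha⟩ := FiniteField.norm_surjective K F (u : K)
  have ha0 : a ≠ 0 := fun h0 => u.ne_zero (by rw [← ha, h0, Algebra.norm_zero])
  rw [MulChar.one_apply_coe, ← ha, ← normChar_apply, h, MulChar.one_apply ha0.isUnit]

theorem norm_apply {χ : MulChar F ℂ} {a : F} (ha : a ≠ 0) : ‖χ a‖ = 1 := by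
  classical
  refine Complex.norm_eq_one_of_pow_eq_one (n := Fintype.card Fˣ) ?_ Fintype.card_ne_zero
  rw [← map_pow, Fintype.card_units, FiniteField.pow_card_sub_one_eq_one a ha, map_one]

theorem norm_jacobi_le {χ ψ : MulChar F ℂ} (h : ¬ (χ = 1 ∧ ψ = 1)) :
    ‖jacobiSum χ ψ‖ ≤ Real.sqrt (Fintype.card F) := by
  classical
  have h1 : (1 : ℝ) ≤ Real.sqrt (Fintype.card F) := by
    rw [← Real.sqrt_one]
    exact Real.sqrt_le_sqrt (by exact_mod_cast Fintype.card_pos)
  by_cases hχ : χ = 1
  · subst hχ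
    rw [jacobiSum_one_nontrivial fun e => h ⟨rfl, e⟩]
    simpa using h1
  by_cases hψ : ψ = 1
  · subst hψ
    rw [jacobiSum_comm, jacobiSum_one_nontrivial hχ]
    simpa using h1
  by_cases hm : χ * ψ = 1
  · rw [← inv_eq_of_mul_eq_one_right hm, jacobiSum_nontrivial_inv hχ, norm_neg, norm_apply (neg_ne_zero.mpr one_ne_zero)]
    exact h1
  have hchar : ringChar ℂ ≠ ringChar F := by
    rw [ringChar.eq_zero]
    exact (CharP.ringChar_ne_zero_of_finite F).symm
  have hJ := jacobiSum_mul_jacobiSum_inv hchar hχ hψ hm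
  have hconj : jacobiSum χ⁻¹ ψ⁻¹ = conj (jacobiSum χ ψ) := by
    simp only [jacobiSum, map_sum, map_mul]
    exact Finset.sum_congr rfl fun x _ => by rw [← MulChar.star_apply', ← MulChar.star_apply']; rfl
  rw [hconj, Complex.mul_conj'] at hJ
  have h2 : ‖jacobiSum χ ψ‖ ^ 2 = (Fintype.card F : ℝ) := by exact_mod_cast hJ
  rw [← h2, Real.sqrt_sq (norm_nonneg _)]

theorem sum_chars [DecidableEq K] [Fintype (MulChar K ℂ)] (u : K) :
    ∑ χ : MulChar K ℂ, χ u = if u = 1 then (Fintype.card Kˣ : ℂ) else 0 := by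
  split_ifs with h
  · subst h
    simp only [map_one, Finset.sum_const, Finset.card_univ, nsmul_eq_mul, mul_one]
    rw [← Nat.card_eq_fintype_card, MulChar.card_eq_card_units_of_hasEnoughRootsOfUnity,
      Nat.card_eq_fintype_card]
  · obtain ⟨χ, hχ⟩ := MulChar.exists_apply_ne_one_of_hasEnoughRootsOfUnity K ℂ h
    refine eq_zero_of_mul_eq_self_left hχ ?_
    rw [Finset.mul_sum]
    exact Fintype.sum_equiv (Equiv.mulLeft χ) _ _ fun φ => by simp

/-- The number of solutions of `N a = N (2 - a) = 1` is close to `#F / #Kˣ ^ 2`. -/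
theorem count [DecidableEq K] (h2 : (2 : F) ≠ 0) :
    (Fintype.card F : ℝ) - 2 ≤
      (Fintype.card Kˣ : ℝ) ^ 2 * Set.ncard {a : F | Algebra.norm K a = 1 ∧ Algebra.norm K (2 - a) = 1} +
      ((Fintype.card Kˣ : ℝ) ^ 2 - 1) * Real.sqrt (Fintype.card F) := by
  classical
  haveI : Fintype (MulChar K ℂ) := Fintype.ofFinite _
  set m := Fintype.card Kˣ with hm
  have hmc : Fintype.card (MulChar K ℂ) = m := by
    rw [← Nat.card_eq_fintype_card, MulChar.card_eq_card_units_of_hasEnoughRootsOfUnity,
      Nat.card_eq_fintype_card]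
  let E : Finset F := Finset.univ.filter fun a => Algebra.norm K a = 1 ∧ Algebra.norm K (2 - a) = 1
  have hE : Set.ncard {a : F | Algebra.norm K a = 1 ∧ Algebra.norm K (2 - a) = 1} = E.card := by
    rw [← Set.ncard_coe_finset]; congr 1; ext a; simp [E]
  let T : MulChar K ℂ × MulChar K ℂ → ℂ := fun z =>
    ∑ a : F, normChar z.1 a * normChar z.2 (2 - a)
  have htot : ∑ z, T z = (m : ℂ) ^ 2 * E.card := by
    simp only [T]
    rw [Finset.sum_comm]
    simp only [normChar_apply, Fintype.sum_prod_type, ← Finset.mul_sum, ← Finset.sum_mul, sum_chars]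
    rw [Finset.sum_congr rfl (g := fun a : F => if a ∈ E then (m : ℂ) ^ 2 else 0) (fun a _ => by
      by_cases h1 : Algebra.norm K a = 1 <;> by_cases h3 : Algebra.norm K (2 - a) = 1 <;>
        simp [E, h1, h3, sq, hm]), Finset.sum_ite_mem, Finset.univ_inter, Finset.sum_const, nsmul_eq_mul]
    ring
  have hT : ∀ z, T z = (normChar z.1 (2 : F) * normChar z.2 (2 : F)) *
      jacobiSum (normChar z.1 : MulChar F ℂ) (normChar z.2) := by
    intro z
    simp only [T, jacobiSum, Finset.mul_sum]
    refine (Fintype.sum_equiv (Equiv.mulLeft₀ (2 : F) h2) _ _ fun x => ?_).symm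
    show _ = normChar z.1 (2 * x) * normChar z.2 (2 - 2 * x)
    rw [show (2 : F) - 2 * x = 2 * (1 - x) by ring, map_mul, map_mul]
    ring
  have h11 : T (1, 1) = (Fintype.card F : ℂ) - 2 := by
    rw [hT, normChar_one, jacobiSum_one_one, MulChar.one_apply h2.isUnit]; ring
  have hbound : ∀ z ∈ (Finset.univ.erase ((1 : MulChar K ℂ), (1 : MulChar K ℂ))),
      ‖T z‖ ≤ Real.sqrt (Fintype.card F) := by
    intro z hz
    rw [hT, norm_mul, norm_mul, norm_apply h2, norm_apply h2, one_mul, one_mul]
    refine norm_jacobi_le fun h => (Finset.mem_erase.mp hz).1 ?_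
    exact Prod.ext (normChar_eq_one h.1) (normChar_eq_one h.2)
  have hsplit := Finset.add_sum_erase Finset.univ T (Finset.mem_univ ((1 : MulChar K ℂ), (1 : MulChar K ℂ)))
  rw [htot, h11] at hsplit
  have hr := norm_sum_le_of_le _ hbound
  rw [Finset.sum_const, nsmul_eq_mul, Finset.card_erase_of_mem (Finset.mem_univ _), Finset.card_univ,
    Fintype.card_prod, hmc, eq_sub_of_add_eq' hsplit] at hr
  have hmpos : 1 ≤ m * m := Nat.mul_pos Fintype.card_pos Fintype.card_pos
  rw [Nat.cast_sub hmpos] at hr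
  push_cast at hr
  have key : (Fintype.card F : ℝ) - 2 - (m : ℝ) ^ 2 * E.card ≤
      ‖(m : ℂ) ^ 2 * E.card - ((Fintype.card F : ℂ) - 2)‖ := by
    rw [show (m : ℂ) ^ 2 * E.card - ((Fintype.card F : ℂ) - 2) =
      (((m : ℝ) ^ 2 * E.card - ((Fintype.card F : ℝ) - 2) : ℝ) : ℂ) by push_cast; ring,
      Complex.norm_real, Real.norm_eq_abs]
    refine le_trans (le_of_eq ?_) (neg_le_abs _)
    ring
  rw [hE]
  nlinarith

end Jacobi

/-- Let p and q be odd primes with (p^q − 1)/(p − 1) coprime to p − 1. Then there are at least two elements a of the field with p ^ q elements such that both a and 2 − a have norm 1 to the prime field. -/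
theorem result (p q : ℕ) [Fact p.Prime] [Fact q.Prime] (hp : p ≠ 2) (hq : q ≠ 2) (hA : Nat.Coprime ((p ^ q - 1) / (p - 1)) (p - 1)) :
    2 ≤ Set.ncard {a : GaloisField p q | Algebra.norm (ZMod p) a = 1 ∧ Algebra.norm (ZMod p) (2 - a) = 1} := by
  classical
  by_cases h3 : q = 3
  · subst h3
    obtain ⟨a, ha1, ha, ha'⟩ := exists_pair (p := p) hp
    rw [← Set.ncard_pair ha1.symm]
    refine Set.ncard_le_ncard ?_ (Set.toFinite _)
    rintro x (rfl | rfl)
    · exact ⟨map_one _, by norm_num⟩
    · exact ⟨ha, ha'⟩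
  haveI : Fintype (GaloisField p q) := Fintype.ofFinite _
  have hq2 := (Fact.out : q.Prime).two_le
  have hq4 : q ≠ 4 := fun h => absurd ((h ▸ Fact.out : Nat.Prime 4)) (by norm_num)
  have hp3 : 3 ≤ p := lt_of_le_of_ne (Fact.out : p.Prime).two_le (Ne.symm hp)
  have h2 : (2 : GaloisField p q) ≠ 0 := by
    intro h
    have : ((2 : ℕ) : GaloisField p q) = 0 := by exact_mod_cast h
    have := Nat.le_of_dvd (by norm_num) ((CharP.cast_eq_zero_iff (GaloisField p q) p 2).mp this)
    omega
  have hc := count (K := ZMod p) h2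
  rw [ZMod.card_units, ← Nat.card_eq_fintype_card, GaloisField.card p q (Fact.out : q.Prime).ne_zero] at hc
  by_contra hlt
  have hle : Set.ncard {a : GaloisField p q | Algebra.norm (ZMod p) a = 1 ∧ Algebra.norm (ZMod p) (2 - a) = 1} ≤ 1 := by
    omega
  set S := Real.sqrt ((p ^ q : ℕ) : ℝ) with hS
  have hS0 : 0 ≤ S := Real.sqrt_nonneg _
  have hS2 : S ^ 2 = ((p ^ q : ℕ) : ℝ) := Real.sq_sqrt (Nat.cast_nonneg _)
  have hP : (3 : ℝ) ≤ p := by exact_mod_cast hp3
  have hbig : (p : ℝ) ^ 2 ≤ S := by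
    refine Real.le_sqrt_of_sq_le ?_
    rw [← pow_mul, ← Nat.cast_pow]
    exact_mod_cast Nat.pow_le_pow_right (by omega : 1 ≤ p) (show 2 * 2 ≤ q by omega)
  rw [Nat.cast_sub (by omega : 1 ≤ p), Nat.cast_one] at hc
  have hm : ((p : ℝ) - 1) ^ 2 ≤ S - 5 := by nlinarith
  have hn : (Set.ncard {a : GaloisField p q | Algebra.norm (ZMod p) a = 1 ∧ Algebra.norm (ZMod p) (2 - a) = 1} : ℝ) ≤ 1 := by
    exact_mod_cast hle
  rw [← hS2] at hc
  nlinarith [mul_le_mul_of_nonneg_right hm hS0, mul_le_mul_of_nonneg_left hn (sq_nonneg ((p : ℝ) - 1))]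

end Cfsg.Agent.S1471
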