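import Cfsg.Statements.S1474
import Cfsg.Agent.Lib.Local.CNFrobenius
import Cfsg.Agent.Lib.Solv.FrobeniusBasic
-- import your own Cfsg.Agent.* helpers here

set_option autoImplicit false
open Cfsg

namespace Cfsg.Agent.S1474

/-- Let G be a finite group in which every non-identity element has nilpotent centralizer, not itself nilpotent, and having a nontrivial normal Sylow p-subgroup for some prime p. Let H be the largest normal nilpotent Hall subgroup of G. Then H is a nontrivial proper normal subgroup with a complement E that is a Frobenius complement in G (no non-identity element of E centralizes a non-identity element of H), and G/H is nilpotent. -/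
theorem result {G : Type*} [Group G] [Finite G] (hCN : Cfsg.IsCNGroup G) (hnn : ¬ Group.IsNilpotent G) (p : ℕ) [Fact p.Prime] (P : Sylow p G)
    (hP1 : (P : Subgroup G) ≠ ⊥) (hPn : (P : Subgroup G).Normal) :
    Cfsg.fittingHall G ≠ ⊥ ∧ Cfsg.fittingHall G ≠ ⊤ ∧
      (∃ E : Subgroup G, Subgroup.IsComplement' (Cfsg.fittingHall G) E ∧ Cfsg.IsFrobeniusComplement E ∧
        ∀ e ∈ E, e ≠ 1 → Cfsg.fittingHall G ⊓ Subgroup.centralizer ({e} : Set G) = ⊥) ∧
      Group.IsNilpotent (G ⧸ Cfsg.fittingHall G) := by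
  classical
  have := hPn
  have hp : p.Prime := Fact.out
  obtain ⟨H0, ⟨hH0n, hPH0⟩, hH0max⟩ := Set.Finite.exists_maximal
    (s := {L : Subgroup G | Group.IsNilpotent L ∧ (P : Subgroup G) ≤ L}) (Set.toFinite _)
    ⟨P, P.2.isNilpotent, le_rfl⟩
  have hmax : ∀ L : Subgroup G, Group.IsNilpotent L → H0 ≤ L → L = H0 := fun L hL hle =>
    le_antisymm (hH0max ⟨hL, hPH0.trans hle⟩ hle) hle
  set Z := (Subgroup.center ↥(P : Subgroup G)).map (P : Subgroup G).subtype with hZ
  have hZn : Z.Normal := Cfsg.Lib.Core.normal_map_char_of_normal _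
  set K := Subgroup.centralizer (Z : Set G) with hK
  have hKn : K.Normal := Subgroup.normal_centralizer
  have hpmem : ∀ {g : G} {i : ℕ}, orderOf g = p ^ i → g ∈ (P : Subgroup G) := by
    intro g i hg
    have hq : IsPGroup p (Subgroup.zpowers g) :=
      IsPGroup.of_card (n := i) (by rw [Nat.card_zpowers, hg])
    exact (Cfsg.Lib.Local.sylow_eq_of_le P (hq.to_sup_of_normal_right P.2) le_sup_right).le
      (Subgroup.mem_sup_left (Subgroup.mem_zpowers g))
  -- prime power criterion for membership in `K`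
  have hmemK : ∀ {g : G}, (∀ q : ℕ, q.Prime → q ≠ p → ∀ z ∈ Z,
      Commute (g ^ (orderOf g / q ^ (orderOf g).factorization q)) z) → g ∈ K := by
    intro g hg
    refine Cfsg.Lib.PGroup.mem_of_ordCompl_pow_mem fun q hq _ => ?_
    refine Subgroup.mem_centralizer_iff.mpr fun z hz => ?_
    by_cases hqp : q = p
    · subst hqp
      obtain ⟨z₀, hz₀, rfl⟩ := Subgroup.mem_map.mp (show z ∈ Z from hz)
      exact (congrArg Subtype.val (Subgroup.mem_center_iff.mp hz₀
        ⟨_, hpmem (Cfsg.Lib.PGroup.orderOf_ordCompl_pow hq)⟩)).symm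
    · exact (hg q hq hqp z hz).eq.symm
  have hord : ∀ {z : G}, z ∈ (P : Subgroup G) → ∃ i, orderOf z = p ^ i := by
    intro z hz
    obtain ⟨i, hi⟩ := IsPGroup.iff_orderOf.mp P.2 ⟨z, hz⟩
    rw [Subgroup.orderOf_mk] at hi
    exact ⟨i, hi⟩
  have hPK : (P : Subgroup G) ≤ K := fun g hg => hmemK fun q hq hqp z hz => by
    obtain ⟨z₀, hz₀, rfl⟩ := Subgroup.mem_map.mp hz
    exact congrArg Subtype.val (Subgroup.mem_center_iff.mp hz₀ ⟨_, pow_mem hg _⟩)
  have hH0K : H0 ≤ K := fun g hg => hmemK fun q hq hqp z hz => by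
    have hzP : z ∈ (P : Subgroup G) := Subgroup.map_subtype_le _ hz
    obtain ⟨i, hi⟩ := hord hzP
    refine Cfsg.Lib.Local.CN.commute_in hH0n (pow_mem hg _) (hPH0 hzP) ?_
    rw [Cfsg.Lib.PGroup.orderOf_ordCompl_pow hq, hi]
    exact Nat.Coprime.pow _ _ ((Nat.coprime_primes hq hp).mpr hqp)
  haveI : Nontrivial ↥(P : Subgroup G) := (Subgroup.nontrivial_iff_ne_bot _).mpr hP1
  obtain ⟨z₀, -, hz₀c, hz₀o⟩ :=
    Cfsg.Lib.PGroup.exists_mem_center_orderOf_eq P.2 (N := (⊤ : Subgroup ↥(P : Subgroup G))) top_ne_bot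
  have hz₀1 : (z₀ : G) ≠ 1 := fun e => hp.ne_one (by
    rw [← hz₀o, orderOf_eq_one_iff]; exact Subtype.ext e)
  have hKnil : Group.IsNilpotent K := Cfsg.Lib.Core.isNilpotent_of_le
    (fun g hg => Subgroup.mem_centralizer_singleton_iff.mpr
      (Subgroup.mem_centralizer_iff.mp hg (z₀ : G) (Subgroup.mem_map_of_mem _ hz₀c)).symm)
    (hCN _ hz₀1)
  have hKH0 : K = H0 := hmax K hKnil hH0K
  rw [← hKH0] at hmax
  have hcopK := Cfsg.Lib.Local.CN.coprime_index hCN hKnil hmax
  have hcent : ∀ x ∈ K, x ≠ 1 → Subgroup.centralizer ({x} : Set G) ≤ K := fun x hx hx1 =>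
    Cfsg.Lib.Local.CN.centralizer_le_of_TI hCN hKnil hmax
      (fun g hg => absurd (Cfsg.Lib.Core.normal_iff_map_conj.mp hKn g) hg) hx hx1
  have hfit : Cfsg.fittingHall G = K := by
    refine le_antisymm (sSup_le fun N hN => ?_) (le_sSup ⟨hKn, hKnil, hcopK⟩)
    obtain ⟨hNn, hNnil, hNcop⟩ := hN
    intro g hg
    refine hmemK fun q hq hqp z hz => ?_
    have hzP : z ∈ (P : Subgroup G) := Subgroup.map_subtype_le _ hz
    set u := g ^ (orderOf g / q ^ (orderOf g).factorization q) with hu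
    have huN : u ∈ N := pow_mem hg _
    by_cases hpN : p ∣ Nat.card N
    · obtain ⟨i, hi⟩ := hord hzP
      have hzN : z ∈ N := by
        obtain ⟨m, hm⟩ := exists_pow_eq_self_of_coprime (x := z) (n := N.index) (by
          rw [hi]
          exact ((hNcop.coprime_dvd_left hpN).symm).pow_right i)
        have := pow_mem (Subgroup.pow_index_mem N z) m
        rwa [hm] at this
      refine Cfsg.Lib.Local.CN.commute_in hNnil huN hzN ?_
      rw [Cfsg.Lib.PGroup.orderOf_ordCompl_pow hq, hi]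
      exact Nat.Coprime.pow _ _ ((Nat.coprime_primes hq hp).mpr hqp)
    · have hd : Disjoint N (P : Subgroup G) := by
        obtain ⟨n, hn⟩ := IsPGroup.iff_card.mp P.2
        rw [disjoint_iff]
        exact Subgroup.inf_eq_bot_of_coprime (by
          rw [hn]; exact (((Nat.Prime.coprime_iff_not_dvd hp).mpr hpN).symm).pow_right n)
      exact Subgroup.commute_of_normal_of_disjoint N P hNn hPn hd _ _ huN hzP
  have hKbot : K ≠ ⊥ := fun e => hP1 (eq_bot_iff.mpr (e ▸ hPK))
  have hKtop : K ≠ ⊤ := by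
    intro e
    rw [e] at hKnil
    exact hnn (Group.nilpotent_of_mulEquiv (G := ↥(⊤ : Subgroup G)) Subgroup.topEquiv)
  obtain ⟨E, hE⟩ := Subgroup.exists_right_complement'_of_coprime hcopK
  have hfpf : ∀ e ∈ E, e ≠ 1 → K ⊓ Subgroup.centralizer ({e} : Set G) = ⊥ := by
    intro e he he1
    rw [eq_bot_iff]
    rintro x ⟨hx, hxe⟩
    by_contra hx1
    refine he1 (Subgroup.mem_bot.mp (hE.disjoint.le_bot ⟨hcent x hx hx1 ?_, he⟩))
    exact Subgroup.mem_centralizer_singleton_iff.mpr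
      (Subgroup.mem_centralizer_singleton_iff.mp hxe).symm
  have hEne : E ≠ ⊥ := by
    intro e; subst e
    exact hKtop (by simpa using hE.sup_eq_top)
  refine ⟨hfit ▸ hKbot, hfit ▸ hKtop, ⟨E, hfit ▸ hE,
    Cfsg.Lib.Solv.isFrobeniusComplement_of_fpf hE hKbot hEne hfpf, hfit ▸ hfpf⟩, ?_⟩
  have hEn : Group.IsNilpotent E := Cfsg.Lib.Local.CN.isNilpotent_of_fpf hCN hKbot hKnil
    (Cfsg.Lib.Local.le_normalizer_normal E) hfpf
  have e1 : G ⧸ Cfsg.fittingHall G ≃* E :=
    (QuotientGroup.quotientMulEquivOfEq hfit).trans hE.symm.QuotientMulEquiv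
  exact Group.nilpotent_of_mulEquiv e1.symm

end Cfsg.Agent.S1474
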