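import Cfsg.Statements.S1476
import Cfsg.Agent.Lib.Local.CNSolvable
import Cfsg.Agent.S1474
-- import your own Cfsg.Agent.* helpers here

set_option autoImplicit false
open Cfsg

namespace Cfsg.Agent.S1476

/-- Let G be a finite solvable group in which every non-identity element has nilpotent centralizer. Then either G is nilpotent; or G has a normal subgroup K with a Frobenius complement E (K E = G, K ∩ E = 1, E meets its conjugates by outside elements trivially) such that E is cyclic or E is generated by two elementwise-commuting subgroups, one cyclic of odd order and one isomorphic to a generalized quaternion group; or G is a three-step group with respect to some prime p. -/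
theorem result {G : Type*} [Group G] [Finite G] [Group.IsSolvable G] (hCN : Cfsg.IsCNGroup G) :
    Group.IsNilpotent G ∨
      (∃ K E : Subgroup G, K.Normal ∧ Subgroup.IsComplement' K E ∧ Cfsg.IsFrobeniusComplement E ∧
        (IsCyclic E ∨ ∃ C Q : Subgroup G, C ⊔ Q = E ∧ (∀ a ∈ C, ∀ b ∈ Q, a * b = b * a) ∧ IsCyclic C ∧ Odd (Nat.card C) ∧
          ∃ n : ℕ, Nonempty (↥Q ≃* QuaternionGroup (2 ^ n)))) ∨
      ∃ p : ℕ, p.Prime ∧ Cfsg.IsThreeStepGroup p G := by
  classical
  by_cases hnil : Group.IsNilpotent G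
  · exact Or.inl hnil
  right
  haveI : Nontrivial G := by
    by_contra h
    rw [not_nontrivial_iff_subsingleton] at h
    exact hnil inferInstance
  obtain ⟨p, hp, hpc⟩ : ∃ p : ℕ, p.Prime ∧ Cfsg.pCore p G ≠ ⊥ := by
    by_contra hcon
    push Not at hcon
    apply Cfsg.Lib.Local.CN.fitting_ne_bot (G := G)
    rw [Cfsg.Lib.Core.fittingSubgroup_eq_iSup_pCore, eq_bot_iff]
    exact iSup_le fun q => (hcon q q.2).le
  have := Fact.mk hp
  rcases Cfsg.Lib.Local.CN.sylow_normal_or_threeStep hCN hpc with hn | h3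
  swap
  · exact Or.inr ⟨p, hp, h3⟩
  left
  obtain ⟨P⟩ : Nonempty (Sylow p G) := inferInstance
  have hPn := hn P
  have hP1 : (P : Subgroup G) ≠ ⊥ := fun e =>
    hpc (eq_bot_iff.mpr ((Cfsg.Lib.Core.pCore_le_sylow P).trans e.le))
  obtain ⟨-, -, ⟨E, hE, hEF, hfpf⟩, hQn⟩ := Cfsg.Agent.S1474.result hCN hnil p P hP1 hPn
  refine ⟨Cfsg.fittingHall G, E, inferInstance, hE, hEF, ?_⟩
  have hEn : Group.IsNilpotent E := by
    have := hQn
    exact Group.nilpotent_of_mulEquiv hE.symm.QuotientMulEquiv
  have hPK : (P : Subgroup G) ≤ Cfsg.fittingHall G :=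
    le_sSup ⟨hPn, P.2.isNilpotent, P.card_coprime_index⟩
  have hAC : Cfsg.Lib.PGroup.OrderType.AbelianCyclic E :=
    Cfsg.Lib.Local.CN.abelianCyclic_of_fpf hP1 P.2.isNilpotent
      (Cfsg.Lib.Local.le_normalizer_normal E) (fun e he he1 =>
        eq_bot_iff.mpr ((inf_le_inf_right _ hPK).trans (hfpf e he he1).le))
  have := Fact.mk Nat.prime_two
  obtain ⟨Q⟩ : Nonempty (Sylow 2 E) := inferInstance
  rcases Cfsg.Lib.Local.CN.isCyclic_or_quaternion_of_abelianCyclic
    (Cfsg.Lib.PGroup.OrderType.abelianCyclic_of_injective (Q : Subgroup E).subtype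
      (Q : Subgroup E).subtype_injective hAC) Q.2 with hQ | ⟨-, n, hQ⟩
  · left
    have : IsZGroup E := ⟨fun r hr R => by
      have := Fact.mk hr
      by_cases hr2 : r = 2
      · subst hr2
        haveI := hQ
        exact isCyclic_of_surjective _ (Q.equiv R).surjective
      · exact Cfsg.Lib.Local.CN.isCyclic_sylow_of_odd hAC hr2 R⟩
    infer_instance
  · right
    haveI : (Q : Subgroup E).Normal :=
      ((Group.isNilpotent_of_finite_tfae (G := E)).out 0 3 rfl rfl).mp hEn 2 inferInstance Q
    obtain ⟨C, hC⟩ := Subgroup.exists_right_complement'_of_coprime Q.card_coprime_index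
    have hCc : Nat.card C = (Q : Subgroup E).index := hC.symm.index_eq_card.symm
    have hodd : Odd (Nat.card C) := by
      rw [hCc, ← Nat.not_even_iff_odd, even_iff_two_dvd]
      exact Q.not_dvd_index
    have hCy : IsCyclic C := Cfsg.Lib.Local.CN.isCyclic_of_odd
      (Cfsg.Lib.PGroup.OrderType.abelianCyclic_of_injective C.subtype C.subtype_injective hAC)
      (Group.nilpotent_of_mulEquiv (Subgroup.topEquiv.symm : E ≃* (⊤ : Subgroup E)) |>
        Cfsg.Lib.Core.isNilpotent_of_le (le_top : C ≤ ⊤)) hodd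
    refine ⟨C.map E.subtype, (Q : Subgroup E).map E.subtype, ?_, ?_, ?_, ?_, n, ?_⟩
    · rw [← Subgroup.map_sup, hC.symm.sup_eq_top, ← MonoidHom.range_eq_map, Subgroup.range_subtype]
    · rintro - ⟨a, ha, rfl⟩ - ⟨b, hb, rfl⟩
      refine (Cfsg.Lib.Local.CN.commute_in (L := E) hEn a.2 b.2 ?_).eq
      rw [Subgroup.orderOf_coe, Subgroup.orderOf_coe]
      obtain ⟨i, hi⟩ := IsPGroup.iff_orderOf.mp Q.2 ⟨b, hb⟩
      rw [Subgroup.orderOf_mk] at hi
      rw [hi]
      exact (((Nat.coprime_two_right.mpr hodd).coprime_dvd_left (C.orderOf_dvd_natCard ha))).pow_right i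
    · exact (C.equivMapOfInjective E.subtype E.subtype_injective).isCyclic.mp hCy
    · rwa [Subgroup.card_map_of_injective E.subtype_injective]
    · exact hQ.map fun e =>
        ((Q : Subgroup E).equivMapOfInjective E.subtype E.subtype_injective).symm.trans e

end Cfsg.Agent.S1476
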