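import Cfsg.Statements.S1478
import Cfsg.Agent.Lib.Local.CNMinimalMax
-- import your own Cfsg.Agent.* helpers here

set_option autoImplicit false
open Cfsg

namespace Cfsg.Agent.S1478

/-- Let G be a minimal simple group of odd order in which every non-identity element has nilpotent centralizer. Then no subgroup of G is a three-step group with respect to any prime. -/
theorem result {G : Type*} [Group G] [Finite G] (hG : Cfsg.IsMinSimpleOddOrder G) (hCN : Cfsg.IsCNGroup G) :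
    ∀ (H : Subgroup G) (p : ℕ), ¬ Cfsg.IsThreeStepGroup p ↥H := by
  intro H p h
  obtain ⟨hne, A, hA, -, -, hAp, hN, htop, ⟨n, hn⟩, hfpf, hx⟩ := h
  set F := Cfsg.pCore p H with hF
  set FG := F.map H.subtype with hFG
  have hFGne : FG ≠ ⊥ := by
    rw [hFG, Ne, Subgroup.map_eq_bot_iff_of_injective _ H.subtype_injective]; exact hne
  have hHnorm : H ≤ Subgroup.normalizer (FG : Set G) :=
    Subgroup.le_normalizer.trans (Cfsg.Lib.Core.normalizer_le_normalizer_map_char _)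
  have hHtop : H ≠ ⊤ := by
    intro e
    haveI : FG.Normal := Subgroup.normalizer_eq_top_iff.mp (eq_top_iff.mpr (e ▸ hHnorm))
    refine htop (eq_top_iff.mpr (le_trans (fun x _ => ?_) le_sup_left))
    have : (x : G) ∈ FG := by
      rw [(Cfsg.Lib.Local.CN.eq_bot_or_top hG FG).resolve_left hFGne]; exact Subgroup.mem_top _
    obtain ⟨y, hy, he⟩ := this
    exact Subtype.ext he ▸ hy
  haveI : Group.IsSolvable FG := Cfsg.Lib.Core.isSolvable_of_le (Subgroup.map_subtype_le _)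
    (hG.2.2.2 H hHtop)
  haveI : Nontrivial FG := (Subgroup.nontrivial_iff_ne_bot FG).mpr hFGne
  set V := (Cfsg.fittingSubgroup FG).map FG.subtype with hV
  have hVn : Group.IsNilpotent V :=
    Cfsg.Lib.Core.isNilpotent_map (Cfsg.Lib.Core.fittingSubgroup_isNilpotent _) _
  have hVne : V ≠ ⊥ := by
    rw [hV, Ne, Subgroup.map_eq_bot_iff_of_injective _ FG.subtype_injective]
    exact Cfsg.Lib.Local.CN.fitting_ne_bot
  obtain ⟨K, hK, hVK⟩ := Cfsg.Lib.Local.CN.exists_isMaxNilp hVn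
  have hHK : H ≤ Subgroup.normalizer (K : Set G) := by
    intro g hg
    have hgV : V.map (MulAut.conj g).toMonoidHom = V :=
      Cfsg.Lib.Core.map_conj_eq_of_mem_normalizer
        (Cfsg.Lib.Core.normalizer_le_normalizer_map_char _ (hHnorm hg))
    rw [Cfsg.Lib.Core.mem_normalizer_iff_map_conj]
    by_contra hne'
    exact hVne (eq_bot_iff.mpr
      (hK.ti hG hCN g hne' ▸ le_inf hVK (hgV.ge.trans (Subgroup.map_mono hVK))))
  obtain ⟨v, hv, hv1⟩ := V.bot_or_exists_ne_one.resolve_left hVne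
  obtain ⟨v', hv', hvv⟩ := (Subgroup.map_subtype_le _ hv : v ∈ FG)
  -- orders of elements of `F`
  have hFo : ∀ f ∈ F, ∃ k : ℕ, orderOf (f : G) ∣ p ^ k := by
    intro f hf
    obtain ⟨k, hk⟩ := Cfsg.Lib.Core.pCore_isPGroup p H ⟨f, hf⟩
    refine ⟨k, ?_⟩
    rw [Subgroup.orderOf_coe]
    exact orderOf_dvd_of_pow_eq_one (congrArg Subtype.val hk)
  -- nontrivial elements of `A` lie outside `K`
  have hAK : ∀ a ∈ A, (a : G) ∈ K → a = 1 := by
    intro a ha haK
    by_contra ha1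
    obtain ⟨k, hk⟩ := hFo v' hv'
    have hc : Commute (a : G) (v' : G) := by
      refine Cfsg.Lib.Local.CN.commute_in hK.1 haK ?_ (Nat.Coprime.coprime_dvd_right hk
        (Nat.Coprime.pow_right k ?_))
      · exact (show ((v' : H) : G) = v from hvv) ▸ hVK hv
      · rw [Subgroup.orderOf_coe]; exact hAp.coprime_dvd_left (A.orderOf_dvd_natCard ha)
    have h1 := (hfpf a ha ha1).le
      ⟨hv', Subgroup.mem_centralizer_singleton_iff.mpr (Subtype.ext hc.eq.symm)⟩
    rw [Subgroup.mem_bot] at h1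
    exact hv1 (by rw [← hvv, h1]; rfl)
  -- elements of `K` of order prime to `p` are trivial
  have hKp : ∀ m : H, (m : G) ∈ K → (orderOf m).Coprime p → m = 1 := by
    intro m hm hmo
    by_contra hm1
    have hmW : m ∈ F ⊔ A := by
      haveI := hN
      obtain ⟨j, hj⟩ := exists_pow_eq_self_of_coprime (x := m) (n := (F ⊔ A).index)
        (by rw [hn]; exact (hmo.pow_right n).symm)
      have := pow_mem (Subgroup.pow_index_mem (F ⊔ A) m) j
      rwa [hj] at this
    have hcomm : ∀ f ∈ F, Commute (f : G) (m : G) := by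
      intro f hf
      set y := f * m * f⁻¹ * m⁻¹ with hy
      have hyF : y ∈ F := by
        rw [hy, mul_assoc, mul_assoc]
        refine mul_mem hf ?_
        rw [← mul_assoc]
        exact (inferInstance : F.Normal).conj_mem _ (inv_mem hf) m
      have hyK : (y : G) ∈ K := by
        rw [hy]
        simp only [Subgroup.coe_mul, Subgroup.coe_inv]
        exact mul_mem ((Subgroup.mem_normalizer_iff.mp (hHK f.2) _).mp hm) (inv_mem hm)
      obtain ⟨k, hk⟩ := hFo y hyF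
      have hco : (orderOf (y : G)).Coprime (orderOf (m : G)) := by
        rw [Subgroup.orderOf_coe m]
        exact (hmo.symm.pow_left k).coprime_dvd_left hk
      have h3 := (Cfsg.Lib.Local.CN.commute_in hK.1 hyK hm hco).orderOf_mul_eq_mul_orderOf_of_coprime hco
      rw [← Subgroup.coe_mul, Subgroup.orderOf_coe, Subgroup.orderOf_coe, Subgroup.orderOf_coe, hy,
        inv_mul_cancel_right, show f * m * f⁻¹ = MulAut.conj f m from rfl, MulEquiv.orderOf_eq] at h3
      have h4 : orderOf y = 1 :=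
        (Nat.eq_of_mul_eq_mul_right (orderOf_pos m) (by rw [one_mul]; exact h3)).symm
      rw [orderOf_eq_one_iff, hy, mul_inv_eq_one, mul_inv_eq_iff_eq_mul] at h4
      exact congrArg Subtype.val h4
    have hFK : ∀ f ∈ F, (f : G) ∈ K := fun f hf =>
      hK.centralizer_le hG hCN hm (fun e => hm1 (Subtype.ext e))
        (Subgroup.mem_centralizer_singleton_iff.mpr (hcomm f hf).eq)
    obtain ⟨f, hf, a, ha, rfl⟩ := Subgroup.mem_sup_of_normal_left.mp hmW
    have ha1 : a = 1 := hAK a ha (by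
      have := mul_mem (inv_mem (hFK f hf)) hm
      rwa [Subgroup.coe_mul, inv_mul_cancel_left] at this)
    subst ha1
    rw [mul_one] at hmo hm1
    obtain ⟨k, hk⟩ := hFo f hf
    rw [Subgroup.orderOf_coe] at hk
    exact hm1 (orderOf_eq_one_iff.mp (Nat.eq_one_of_dvd_coprimes (hmo.pow_right k) dvd_rfl hk))
  have hKle : K.subgroupOf H ≤ F := by
    haveI : (K.subgroupOf H).Normal := by
      refine ⟨fun v hv g => ?_⟩
      exact (Subgroup.mem_normalizer_iff.mp (hHK g.2) (v : G)).mp hv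
    refine Cfsg.Lib.Core.le_pCore fun m => ?_
    refine ⟨orderOf (m : H), Subtype.ext (?_ : (m : H) ^ p ^ orderOf (m : H) = 1)⟩
    refine Cfsg.Lib.PGroup.mem_of_ordCompl_pow_mem (H := (⊥ : Subgroup H)) fun q hq _ => ?_
    rw [Subgroup.mem_bot]
    set u := ((m : H) ^ p ^ orderOf (m : H)) with hu
    have hud : orderOf u ∣ orderOf (m : H) := orderOf_pow_dvd _
    refine hKp _ (K.pow_mem (K.pow_mem m.2 _) _) ?_
    refine Nat.Coprime.coprime_dvd_left (orderOf_pow_dvd _) ?_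
    rw [Nat.coprime_iff_gcd_eq_one]
    by_contra hg
    obtain ⟨r, hr, hrg⟩ := Nat.exists_prime_and_dvd hg
    have hro : r ∣ orderOf u := hrg.trans (Nat.gcd_dvd_left _ _)
    have hrp : r ∣ p := hrg.trans (Nat.gcd_dvd_right _ _)
    rw [hu, orderOf_pow] at hro
    set o := orderOf (m : H)
    have ho : 0 < o := orderOf_pos _
    have h1 : r ^ (o.factorization r) ∣ Nat.gcd o (p ^ o) :=
      Nat.dvd_gcd (Nat.ordProj_dvd _ _) ((pow_dvd_pow r (Nat.factorization_lt _ ho.ne').le).trans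
        (pow_dvd_pow_of_dvd hrp o))
    refine Nat.not_dvd_ordCompl hr ho.ne' (hro.trans ?_)
    exact Nat.div_dvd_div_left (Nat.gcd_dvd_left _ _) h1
  obtain ⟨E, ⟨-, hEle, -, hprod⟩, -, hEfpf⟩ := hK.exists_complement hG hCN
  have hEnorm : E ≤ Subgroup.normalizer (K : Set G) := hEle
  have hEc : IsCyclic E := Cfsg.Lib.Local.CN.isCyclic_of_odd
    (Cfsg.Lib.Local.CN.abelianCyclic_of_fpf (hK.ne_bot hG) hK.1 hEnorm hEfpf)
    (Cfsg.Lib.Local.CN.isNilpotent_of_fpf hCN (hK.ne_bot hG) hK.1 hEnorm hEfpf)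
    (hG.1.of_dvd_nat (Subgroup.card_subgroup_dvd_card E))
  obtain ⟨a, ha, ha1⟩ := A.bot_or_exists_ne_one.resolve_left hA
  obtain ⟨x, -, hxW⟩ := SetLike.exists_of_lt (lt_top_iff_ne_top.mpr htop)
  refine hx x hxW a ha ha1 (hKle ?_)
  obtain ⟨k₁, hk₁, e₁, he₁, h1⟩ := hprod _ (hHK x.2)
  obtain ⟨k₂, hk₂, e₂, he₂, h2⟩ := hprod _ (hHK a.2)
  show ((x * a * x⁻¹ * a⁻¹ : H) : G) ∈ K
  simp only [Subgroup.coe_mul, Subgroup.coe_inv, h1, h2]
  have he : e₁ * e₂ = e₂ * e₁ := by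
    haveI := hEc
    letI : CommGroup E := IsCyclic.commGroup
    exact congrArg Subtype.val (mul_comm (⟨e₁, he₁⟩ : E) ⟨e₂, he₂⟩)
  have hc : ∀ e ∈ E, ∀ k ∈ K, e * k * e⁻¹ ∈ K := fun e he k hk =>
    (Subgroup.mem_normalizer_iff.mp (hEnorm he) k).mp hk
  have : k₁ * e₁ * (k₂ * e₂) * (k₁ * e₁)⁻¹ * (k₂ * e₂)⁻¹ =
      k₁ * (e₁ * k₂ * e₁⁻¹) * (e₂ * k₁⁻¹ * e₂⁻¹) * k₂⁻¹ := by
    calc k₁ * e₁ * (k₂ * e₂) * (k₁ * e₁)⁻¹ * (k₂ * e₂)⁻¹
        = k₁ * (e₁ * k₂ * e₁⁻¹) * ((e₁ * e₂) * e₁⁻¹) * k₁⁻¹ * e₂⁻¹ * k₂⁻¹ := by group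
      _ = _ := by rw [he]; group
  rw [this]
  exact mul_mem (mul_mem (mul_mem hk₁ (hc _ he₁ _ hk₂)) (hc _ he₂ _ (inv_mem hk₁))) (inv_mem hk₂)

end Cfsg.Agent.S1478
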