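import Cfsg.Statements.S1483
import Cfsg.Agent.Lib.Local.CNMinimalMax
-- import your own Cfsg.Agent.* helpers here

set_option autoImplicit false
open Cfsg

namespace Cfsg.Agent.S1483

/-- Let G be a minimal simple group of odd order in which every non-identity element has nilpotent centralizer. Then any two nilpotent subgroups each contained in no larger nilpotent subgroup are either conjugate or of coprime orders; and for primes p, q, r: if some elements x, y ≠ 1 of p-power and q-power order commute, and some elements y', z ≠ 1 of q-power and r-power order commute, then some elements of p-power and r-power order, both ≠ 1, commute. -/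
theorem result {G : Type*} [Group G] [Finite G] (hG : Cfsg.IsMinSimpleOddOrder G) (hCN : Cfsg.IsCNGroup G) :
    (∀ H₁ H₂ : Subgroup G, (Group.IsNilpotent ↥H₁ ∧ ∀ L : Subgroup G, Group.IsNilpotent L → H₁ ≤ L → L = H₁) → (Group.IsNilpotent ↥H₂ ∧ ∀ L : Subgroup G, Group.IsNilpotent L → H₂ ≤ L → L = H₂) → (∃ g : G, H₂ = H₁.map (MulAut.conj g).toMonoidHom) ∨ (Nat.card H₁).Coprime (Nat.card H₂)) ∧
      ∀ (p q r : ℕ), p.Prime → q.Prime → r.Prime → ∀ (x y y' z : G), x ≠ 1 → y ≠ 1 → y' ≠ 1 → z ≠ 1 →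
        IsPGroup p (Subgroup.zpowers x) → IsPGroup q (Subgroup.zpowers y) → IsPGroup q (Subgroup.zpowers y') → IsPGroup r (Subgroup.zpowers z) →
        x * y = y * x → y' * z = z * y' →
        ∃ x' z' : G, x' ≠ 1 ∧ z' ≠ 1 ∧ IsPGroup p (Subgroup.zpowers x') ∧ IsPGroup r (Subgroup.zpowers z') ∧ x' * z' = z' * x' := by
  refine ⟨fun H₁ H₂ h1 h2 => ?_, ?_⟩
  · by_cases hc : (Nat.card H₁).Coprime (Nat.card H₂)
    · exact Or.inr hc
    · exact Or.inl (Cfsg.Lib.Local.CN.IsMaxNilp.exists_conj_of_not_coprime hG hCN h1 h2 hc)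
  intro p q r hp hq hr x y y' z hx1 hy1 hy'1 hz1 hx hy hy' hz hxy hyz
  have := Fact.mk hp
  have := Fact.mk hq
  have := Fact.mk hr
  have hmax : ∀ a b : G, a * b = b * a → ∃ H : Subgroup G, Cfsg.Lib.Local.CN.IsMaxNilp H ∧ a ∈ H ∧ b ∈ H := by
    intro a b hab
    have : IsMulCommutative (Subgroup.closure ({a, b} : Set G)) :=
      Subgroup.isMulCommutative_closure (by
        rintro u (rfl | rfl) v (rfl | rfl) <;> first | rfl | exact hab | exact hab.symm)
    obtain ⟨H, hH, hle⟩ := Cfsg.Lib.Local.CN.exists_isMaxNilp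
      (Cfsg.Lib.Core.isNilpotent_of_isMulCommutative (Subgroup.closure ({a, b} : Set G)))
    exact ⟨H, hH, hle (Subgroup.subset_closure (by simp)), hle (Subgroup.subset_closure (by simp))⟩
  have hdvd : ∀ (s : ℕ) [Fact s.Prime] (a : G) (H : Subgroup G), a ≠ 1 →
      IsPGroup s (Subgroup.zpowers a) → a ∈ H → s ∣ Nat.card H := by
    intro s _ a H ha hs haH
    obtain ⟨k, hk, hc⟩ := hs.nontrivial_iff_card.mp
      ((Subgroup.nontrivial_iff_ne_bot _).mpr (Subgroup.zpowers_ne_bot.mpr ha))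
    exact (hc ▸ dvd_pow_self s hk.ne').trans
      (Subgroup.card_dvd_of_le (Subgroup.zpowers_le.mpr haH))
  obtain ⟨H, hH, hxH, hyH⟩ := hmax x y hxy
  obtain ⟨K, hK, hyK, hzK⟩ := hmax y' z hyz
  obtain ⟨g, hg⟩ := hH.exists_conj_of_not_coprime hG hCN hK fun hc =>
    hq.ne_one (Nat.eq_one_of_dvd_coprimes hc (hdvd q y H hy1 hy hyH) (hdvd q y' K hy'1 hy' hyK))
  have hpK : p ∣ Nat.card K := by
    rw [hg, Subgroup.card_map_of_injective (MulAut.conj g).injective]
    exact hdvd p x H hx1 hx hxH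
  obtain ⟨x', hx'K, -, hx'o⟩ := Cfsg.Lib.Local.CN.exists_central hK.1 hpK
  obtain ⟨z', -, hz'c, hz'o⟩ := Cfsg.Lib.Local.CN.exists_central hK.1 (hdvd r z K hz1 hz hzK)
  refine ⟨x', z', ?_, ?_, IsPGroup.of_card (n := 1) (by rw [Nat.card_zpowers, hx'o, pow_one]),
    IsPGroup.of_card (n := 1) (by rw [Nat.card_zpowers, hz'o, pow_one]), (hz'c x' hx'K).eq⟩
  · rintro rfl; rw [orderOf_one] at hx'o; exact hp.ne_one hx'o.symm
  · rintro rfl; rw [orderOf_one] at hz'o; exact hr.ne_one hz'o.symm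

end Cfsg.Agent.S1483
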