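import Cfsg.Statements.S1484
import Cfsg.Agent.Lib.Local.CNMinimalMax
-- import your own Cfsg.Agent.* helpers here

set_option autoImplicit false
open Cfsg

namespace Cfsg.Agent.S1484

/-- Let G be a minimal simple group of odd order in which every non-identity element has nilpotent centralizer, and M₁, …, M_k maximal subgroups, pairwise non-conjugate, such that every maximal subgroup is conjugate to some M_i. Let H_i be the largest normal nilpotent Hall subgroup of M_i. Then the orders of the H_i are pairwise coprime, their product is the order of G, and every element of G is conjugate to an element of some H_i. -/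
theorem result {G : Type*} [Group G] [Finite G] (hG : Cfsg.IsMinSimpleOddOrder G) (hCN : Cfsg.IsCNGroup G) (k : ℕ) (Mrep : Fin k → Subgroup G) (hmax : ∀ i, IsCoatom (Mrep i))
    (hnc : ∀ i j, i ≠ j → ∀ g : G, Mrep j ≠ (Mrep i).map (MulAut.conj g).toMonoidHom) (hall : ∀ M : Subgroup G, IsCoatom M → ∃ i, ∃ g : G, M = (Mrep i).map (MulAut.conj g).toMonoidHom) :
    (∀ i j, i ≠ j → (Nat.card (Cfsg.fittingHallOf (Mrep i))).Coprime (Nat.card (Cfsg.fittingHallOf (Mrep j)))) ∧
      ∏ i, Nat.card (Cfsg.fittingHallOf (Mrep i)) = Nat.card G ∧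
      ∀ x : G, ∃ i, ∃ g : G, g * x * g⁻¹ ∈ Cfsg.fittingHallOf (Mrep i) := by
  classical
  choose H hH hM using fun i => Cfsg.Lib.Local.CN.exists_eq_normalizer hG hCN (hmax i)
  have hF : ∀ i, Cfsg.fittingHallOf (Mrep i) = H i := fun i => by
    rw [hM i]; exact (hH i).fittingHallOf_normalizer hG hCN
  simp only [hF]
  have hnorm : ∀ (X : Subgroup G) (g : G),
      Subgroup.normalizer ((X.map (MulAut.conj g).toMonoidHom : Subgroup G) : Set G) =
        (Subgroup.normalizer (X : Set G)).map (MulAut.conj g).toMonoidHom := fun X g =>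
    (Subgroup.map_equiv_normalizer_eq X (MulAut.conj g)).symm
  have hcop : ∀ i j, i ≠ j → (Nat.card (H i)).Coprime (Nat.card (H j)) := by
    intro i j hij
    by_contra hc
    obtain ⟨g, hg⟩ := (hH i).exists_conj_of_not_coprime hG hCN (hH j) hc
    refine hnc i j hij g ?_
    rw [hM j, hM i, hg, hnorm]
  have hcov : ∀ K : Subgroup G, Cfsg.Lib.Local.CN.IsMaxNilp K →
      ∃ i, ∃ g : G, K = (H i).map (MulAut.conj g).toMonoidHom := by
    intro K hK
    obtain ⟨i, g, hg⟩ := hall _ (hK.isCoatom_normalizer hG hCN)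
    refine ⟨i, g, ?_⟩
    rw [hM i, ← hnorm] at hg
    have h1 := hK.fittingHallOf_normalizer hG hCN
    rw [hg, ((hH i).map_conj g).fittingHallOf_normalizer hG hCN] at h1
    exact h1.symm
  have hx : ∀ x : G, ∃ i, ∃ g : G, g * x * g⁻¹ ∈ H i := by
    intro x
    obtain ⟨K, hK, hxK⟩ := Cfsg.Lib.Local.CN.exists_isMaxNilp
      (Cfsg.Lib.Local.CN.isNilpotent_zpowers x)
    obtain ⟨i, g, rfl⟩ := hcov K hK
    obtain ⟨y, hy, rfl⟩ := hxK (Subgroup.mem_zpowers x)
    exact ⟨i, g⁻¹, by simpa [mul_assoc] using hy⟩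
  refine ⟨hcop, Nat.dvd_antisymm ?_ ?_, hx⟩
  · exact Fintype.prod_dvd_of_isRelPrime (fun i j hij => Nat.coprime_iff_isRelPrime.mp (hcop i j hij))
      (fun i => Subgroup.card_subgroup_dvd_card (H i))
  · refine (Nat.dvd_iff_prime_pow_dvd_dvd _ _).mpr fun p j hp hd => ?_
    have := Fact.mk hp
    obtain ⟨P, hP⟩ := Sylow.exists_subgroup_card_pow_prime p hd
    obtain ⟨K, hK, hPK⟩ := Cfsg.Lib.Local.CN.exists_isMaxNilp
      (IsPGroup.of_card (n := j) hP).isNilpotent
    obtain ⟨i, g, rfl⟩ := hcov K hK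
    have h1 := Subgroup.card_dvd_of_le hPK
    rw [hP, Subgroup.card_map_of_injective (MulAut.conj g).injective] at h1
    exact h1.trans (Finset.dvd_prod_of_mem (fun i => Nat.card (H i)) (Finset.mem_univ i))

end Cfsg.Agent.S1484
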