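import Cfsg.Statements.S1487
import Cfsg.Agent.Lib.Char.Clifford
import Cfsg.Agent.Lib.Char.Formulas
-- import your own Cfsg.Agent.* helpers here

set_option autoImplicit false
open Cfsg

namespace Cfsg.Agent.S1487

set_option linter.style.haveILetI false
open Cfsg Cfsg.Lib.Char


/-- Let A ≤ H be normal subgroups of the finite group G and θ an irreducible character of H. Then θ takes the value θ 1 on all of A if and only if the function induced from θ to G takes its value at 1 on all of A. -/
theorem result {G : Type*} [Group G] [Fintype G] (A H : Subgroup G) [A.Normal] [H.Normal] (hAH : A ≤ H) (θ : H → ℂ) (hθ : Cfsg.IsIrrCharacter H θ) : (∀ a : H, (a : G) ∈ A → θ a = θ 1) ↔ (∀ a : G, a ∈ A → Cfsg.indFun H θ a = Cfsg.indFun H θ 1) := by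
  classical
  have hsum : ∀ a : G, a ∈ A → Cfsg.indFun H θ a =
      (Nat.card H : ℂ)⁻¹ * ∑ x : G, Cfsg.extendByZero H θ (x⁻¹ * a * x) := fun a _ => rfl
  have hmem : ∀ a : G, a ∈ A → ∀ x : G, x⁻¹ * a * x ∈ A := fun a ha x => by
    have := Subgroup.Normal.conj_mem (inferInstance : A.Normal) a ha x⁻¹
    rwa [inv_inv] at this
  have hval : ∀ a : G, a ∈ A → Cfsg.indFun H θ a =
      (Nat.card H : ℂ)⁻¹ * ∑ x : G, if hx : x⁻¹ * a * x ∈ H then θ ⟨x⁻¹ * a * x, hx⟩ else 0 := by
    intro a ha
    rw [hsum a ha]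
    congr 1
    refine Finset.sum_congr rfl fun x _ => ?_
    rw [dif_pos (hAH (hmem a ha x)), extendByZero_of_mem _ _ (hAH (hmem a ha x))]
  constructor
  · intro h a ha
    rw [hval a ha, hval 1 A.one_mem]
    congr 1
    refine Finset.sum_congr rfl fun x _ => ?_
    rw [dif_pos (hAH (hmem a ha x)), dif_pos (hAH (hmem 1 A.one_mem x)),
      h ⟨_, _⟩ (hmem a ha x), h ⟨_, _⟩ (hmem 1 A.one_mem x)]
  · intro h a ha
    have h1 := h a ha
    rw [hval (a : G) ha, hval 1 A.one_mem] at h1
    have h2 := mul_left_cancel₀ (inv_ne_zero (Nat.cast_ne_zero.mpr Nat.card_pos.ne')) h1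
    have hd : ∀ x : G, (⟨x⁻¹ * 1 * x, hAH (hmem 1 A.one_mem x)⟩ : H) = 1 := fun x =>
      Subtype.ext (by simp)
    replace h2 := h2.trans (Finset.sum_congr rfl (g := fun _ : G => θ 1) fun x _ => by
      rw [dif_pos (hAH (hmem 1 A.one_mem x)), hd])
    have h3 := congrArg Complex.re h2
    rw [Complex.re_sum, Complex.re_sum] at h3
    have hle : ∀ y : H, (θ y).re ≤ (θ 1).re := fun y => by
      refine (Complex.re_le_norm _).trans ?_
      exact hθ.isCharacter.norm_le y
    have h4 := (Finset.sum_eq_sum_iff_of_le (fun x _ => ?_)).mp h3 1 (Finset.mem_univ _)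
    · simp only [inv_one, one_mul, mul_one, dif_pos a.2] at h4
      have h5 : ‖θ a‖ ≤ (θ 1).re := hθ.isCharacter.norm_le a
      have h6 : (θ 1).im = 0 := by rw [hθ.isCharacter.apply_one_eq_charDegree]; simp
      have h7 : (θ a).im = 0 := by
        have h8 := Complex.sq_norm (θ a)
        rw [Complex.normSq_apply] at h8
        nlinarith [norm_nonneg (θ a)]
      exact Complex.ext h4 (h7.trans h6.symm)
    · rw [dif_pos (hAH (hmem a ha x))]
      exact hle _

end Cfsg.Agent.S1487
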