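import Cfsg.Statements.S1492
import Cfsg.Agent.Lib.Char.Clifford
import Cfsg.Agent.Lib.Char.Formulas
import Cfsg.Agent.Lib.Char.Constituents

set_option autoImplicit false
open Cfsg Cfsg.Lib.Char
open scoped ComplexConjugate

namespace Cfsg.Agent.S1492

/-- Let ψ be an irreducible character of the finite group G and B ≤ D ≤ C subgroups with B normal in C, every commutator of an element of D with an element of C lying in B (so D/B is central in C/B), and ψ constant equal to ψ 1 on B. Then ψ(1) ^ 2 * |C| * |D| ≤ |G| ^ 2. -/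
theorem result {G : Type*} [Group G] [Finite G] (ψ : G → ℂ) (hψ : Cfsg.IsIrrCharacter G ψ) (B C D : Subgroup G) (hBD : B ≤ D) (hDC : D ≤ C) (hBn : ∀ c ∈ C, ∀ b ∈ B, c * b * c⁻¹ ∈ B) (hcent : ∀ d ∈ D, ∀ c ∈ C, d * c * d⁻¹ * c⁻¹ ∈ B) (hker : ∀ b ∈ B, ψ b = ψ 1) : ‖ψ 1‖ ^ 2 * (Nat.card C : ℝ) * (Nat.card D : ℝ) ≤ (Nat.card G : ℝ) ^ 2 := by
  classical
  haveI := Fintype.ofFinite G
  haveI := Fintype.ofFinite C
  obtain ⟨θ, hθ⟩ : ∃ θ : IrrCharacter C, classInner (fun x : C => ψ x) (θ : C → ℂ) ≠ 0 :=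
    exists_constituent (hψ.isCharacter.comp C.subtype) hψ.apply_one_ne_zero
  obtain ⟨a, -, ha⟩ := hψ.exists_degree
  obtain ⟨t, ht0, ht⟩ := θ.2.exists_degree
  have hres : IsCharacter C (fun x : C => ψ x) := hψ.isCharacter.comp C.subtype
  -- `θ` is trivial on `B`
  have hθB : ∀ b : C, (b : G) ∈ B → (θ : C → ℂ) b = (θ : C → ℂ) 1 := by
    intro b hb
    choose m hm using fun φ : IrrCharacter C => hres.exists_nat_classInner φ.2.isCharacter
    have e := eq_sum_classInner hres.isClassFunction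
    have eb := congrArg Complex.re (congrFun e b)
    have e1 := congrArg Complex.re (congrFun e 1)
    simp only [Finset.sum_apply, Pi.smul_apply, smul_eq_mul, hm, Complex.re_sum, Complex.mul_re,
      Complex.natCast_re, Complex.natCast_im, zero_mul, sub_zero] at eb e1
    have h0 : ∑ φ : IrrCharacter C,
        ((m φ : ℝ) * ((φ : C → ℂ) 1).re - (m φ : ℝ) * ((φ : C → ℂ) b).re) = 0 := by
      rw [Finset.sum_sub_distrib, ← e1, ← eb]
      simp [hker b hb]
    have h1 : ∀ φ : IrrCharacter C, ((φ : C → ℂ) b).re ≤ ((φ : C → ℂ) 1).re := fun φ =>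
      (Complex.re_le_norm _).trans (φ.2.isCharacter.norm_le b)
    have h2 := (Finset.sum_eq_zero_iff_of_nonneg fun φ _ => by
      rw [← mul_sub]; exact mul_nonneg (Nat.cast_nonneg _) (sub_nonneg.mpr (h1 φ))).mp h0 θ
      (Finset.mem_univ θ)
    rw [← mul_sub, mul_eq_zero, sub_eq_zero] at h2
    have h3 : ((θ : C → ℂ) 1).re = ((θ : C → ℂ) b).re :=
      h2.resolve_left fun h => hθ (by rw [hm θ]; exact_mod_cast h)
    have h4 := θ.2.isCharacter.norm_le b
    rw [ht] at h3 h4 ⊢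
    simp only [Complex.natCast_re] at h3 h4
    have h5 : ((θ : C → ℂ) b).re ^ 2 + ((θ : C → ℂ) b).im ^ 2 = ‖(θ : C → ℂ) b‖ ^ 2 := by
      rw [← Complex.normSq_eq_norm_sq, Complex.normSq_apply]; ring
    have h6 : ((θ : C → ℂ) b).im = 0 := by
      have : ‖(θ : C → ℂ) b‖ ^ 2 ≤ (t : ℝ) ^ 2 := pow_le_pow_left₀ (norm_nonneg _) h4 2
      rw [← h3] at h5
      nlinarith
    exact Complex.ext (by simp [← h3]) (by simp [h6])
  have ht' : (t : ℂ) ≠ 0 := Nat.cast_ne_zero.mpr (by omega)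
  -- values on `D`
  have hD : ∀ d : C, (d : G) ∈ D → Complex.normSq ((θ : C → ℂ) d) = (t : ℝ) ^ 2 := by
    intro d hd
    have h := sum_char_mul_conj θ.2 d d⁻¹
    rw [Finset.sum_congr rfl fun x _ => hθB (d * (x * d⁻¹ * x⁻¹)) (by
      have := hcent d hd x x.2
      simpa [mul_assoc] using this), Finset.sum_const, Finset.card_univ, nsmul_eq_mul,
      ← Nat.card_eq_fintype_card, θ.2.isCharacter.apply_inv, ht] at h
    have hC : (Nat.card C : ℂ) ≠ 0 := Nat.cast_ne_zero.mpr Nat.card_pos.ne'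
    have e : (θ : C → ℂ) d * conj ((θ : C → ℂ) d) = (t : ℂ) ^ 2 := by
      field_simp at h
      rw [h.symm]
      try ring
    rw [Complex.mul_conj] at e
    exact_mod_cast e
  have hsumC : ∑ x : C, Complex.normSq ((θ : C → ℂ) x) = (Nat.card C : ℝ) := by
    have h := classInner_irr_self θ.2
    rw [classInner_self] at h
    have h' : (Nat.card C : ℝ)⁻¹ * ∑ g : C, ‖(θ : C → ℂ) g‖ ^ 2 = 1 := by exact_mod_cast h
    rw [inv_mul_eq_one₀ (Nat.cast_ne_zero.mpr Nat.card_pos.ne')] at h'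
    rw [h']
    simp [Complex.normSq_eq_norm_sq]
  have hCD : (Nat.card D : ℝ) * (t : ℝ) ^ 2 ≤ Nat.card C := by
    rw [← hsumC]
    have hc : (Finset.univ.filter fun x : C => (x : G) ∈ D).card = Nat.card D := by
      rw [← Fintype.card_subtype, ← Nat.card_eq_fintype_card]
      exact Nat.card_congr ⟨fun x => ⟨x.1, x.2⟩, fun x => ⟨⟨x, hDC x.2⟩, x.2⟩, fun _ => rfl,
        fun _ => rfl⟩
    rw [← hc, ← nsmul_eq_mul, ← Finset.sum_const]
    calc ∑ x ∈ Finset.univ.filter (fun x : C => (x : G) ∈ D), (t : ℝ) ^ 2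
        = ∑ x ∈ Finset.univ.filter (fun x : C => (x : G) ∈ D), Complex.normSq ((θ : C → ℂ) x) :=
          Finset.sum_congr rfl fun x hx => (hD x (Finset.mem_filter.mp hx).2).symm
      _ ≤ _ := Finset.sum_le_univ_sum_of_nonneg fun x => Complex.normSq_nonneg _
  have hdeg : (a : ℝ) ≤ (C.index : ℝ) * t := by
    have h := degree_le_of_constituent hψ (isCharacter_indFun C θ.2.isCharacter) (by
      rw [classInner_indFun C _ hψ.isClassFunction]
      intro h
      apply hθ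
      rw [← classInner_conj_symm, h, map_zero])
    rw [indFun_apply_one, ha, ht, ← Nat.cast_mul, Complex.natCast_re, Complex.natCast_re] at h
    exact_mod_cast h
  rw [ha, Complex.norm_natCast]
  have hG : (Nat.card G : ℝ) = (Nat.card C : ℝ) * (C.index : ℝ) := by
    exact_mod_cast C.card_mul_index.symm
  rw [hG]
  calc (a : ℝ) ^ 2 * (Nat.card C : ℝ) * (Nat.card D : ℝ)
      ≤ ((C.index : ℝ) * t) ^ 2 * (Nat.card C : ℝ) * (Nat.card D : ℝ) := by gcongr
    _ = (C.index : ℝ) ^ 2 * (Nat.card C : ℝ) * ((Nat.card D : ℝ) * (t : ℝ) ^ 2) := by ring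
    _ ≤ (C.index : ℝ) ^ 2 * (Nat.card C : ℝ) * (Nat.card C : ℝ) := by gcongr
    _ = ((Nat.card C : ℝ) * (C.index : ℝ)) ^ 2 := by ring

end Cfsg.Agent.S1492
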