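import Cfsg.Statements.S1494
import Cfsg.Agent.Lib.Char.Constituents
import Cfsg.Agent.Lib.Char.Central
import Cfsg.Agent.Lib.Char.Galois
import Mathlib.Algebra.Ring.GeomSum
-- import your own Cfsg.Agent.* helpers here

set_option autoImplicit false
open Cfsg

namespace Cfsg.Agent.S1494

set_option linter.style.haveILetI false
open Cfsg Cfsg.Lib.Char


/-- Let χ be a generalized character of the finite group G, p a prime, x an element of order p and y an element commuting with x. Then χ(x * y) − χ(y) = (1 − ε) * ω for some algebraic integer ω, where ε = exp(2πi/p). -/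
theorem result {G : Type*} [Group G] [Finite G] (χ : G → ℂ) (hχ : Cfsg.IsGeneralizedCharacter G χ) (p : ℕ) (hp : p.Prime) (x y : G) (hx : orderOf x = p) (hxy : x * y = y * x) : ∃ ω : ℂ, IsIntegral ℤ ω ∧ χ (x * y) - χ y = (1 - Complex.exp (2 * Real.pi * Complex.I / p)) * ω := by
  classical
  set ζ := Complex.exp (2 * Real.pi * Complex.I / p) with hζ
  have hprim : IsPrimitiveRoot ζ p := Complex.isPrimitiveRoot_exp p hp.ne_zero
  have hcomm : Commute x y := hxy
  set A := Subgroup.closure ({x, y} : Set G)
  have hA : ∀ a b : A, a * b = b * a := by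
    have := Subgroup.isMulCommutative_closure (k := ({x, y} : Set G)) (by
      intro a ha b hb
      simp only [Set.mem_insert_iff, Set.mem_singleton_iff] at ha hb
      rcases ha with rfl | rfl <;> rcases hb with rfl | rfl
      · rfl
      · exact hxy
      · exact hxy.symm
      · rfl)
    exact this.is_comm.comm
  let xA : A := ⟨x, Subgroup.subset_closure (Set.mem_insert x _)⟩
  let yA : A := ⟨y, Subgroup.subset_closure (Set.mem_insert_of_mem _ rfl)⟩
  have key : ∀ θ : A → ℂ, IsCharacter A θ →
      ∃ ω : ℂ, IsIntegral ℤ ω ∧ θ (xA * yA) - θ yA = (1 - ζ) * ω := by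
    intro θ hθ
    obtain ⟨s, hs⟩ := exists_multiset_linear hA hθ
    simp only [hs]
    clear hs hθ
    induction s using Multiset.induction with
    | empty => exact ⟨0, isIntegral_zero, by simp⟩
    | cons φ t ih =>
      obtain ⟨ω, hω, he⟩ := ih
      have hord : (φ xA : ℂ) ^ p = 1 := by
        rw [← Units.val_pow_eq_pow_val, ← map_pow,
          show xA ^ p = 1 from Subtype.ext (by rw [← hx]; exact pow_orderOf_eq_one x), map_one,
          Units.val_one]
      haveI : NeZero p := ⟨hp.ne_zero⟩
      obtain ⟨j, -, hj⟩ := hprim.eq_pow_of_pow_eq_one hord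
      have hyi : IsIntegral ℤ (φ yA : ℂ) :=
        (isIrrCharacter_linear φ).isCharacter.isIntegral yA
      refine ⟨-((φ yA : ℂ) * ∑ i ∈ Finset.range j, ζ ^ i) + ω,
        ((hyi.mul (IsIntegral.sum _ fun i _ => (hprim.isIntegral hp.pos).pow i)).neg).add hω, ?_⟩
      simp only [Multiset.map_cons, Multiset.sum_cons, map_mul, Units.val_mul]
      simp only [map_mul, Units.val_mul] at he
      have hg := mul_neg_geom_sum ζ j
      rw [← hj]
      linear_combination he + (φ yA : ℂ) * hg
  obtain ⟨a, b, ha, hb, rfl⟩ := hχ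
  obtain ⟨ω₁, h₁, e₁⟩ := key _ (ha.comp A.subtype)
  obtain ⟨ω₂, h₂, e₂⟩ := key _ (hb.comp A.subtype)
  refine ⟨ω₁ - ω₂, h₁.sub h₂, ?_⟩
  simp only [Subgroup.subtype_apply, Subgroup.coe_mul] at e₁ e₂
  change a (x * y) - a y = _ at e₁
  change b (x * y) - b y = _ at e₂
  simp only [Pi.sub_apply]
  linear_combination e₁ - e₂

end Cfsg.Agent.S1494
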