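import Cfsg.Statements.S1495
import Cfsg.Agent.Lib.Char.Galois
import Mathlib.RingTheory.RootsOfUnity.Lemmas
-- import your own Cfsg.Agent.* helpers here

set_option autoImplicit false
open Cfsg

namespace Cfsg.Agent.S1495

set_option linter.style.haveILetI false
open Cfsg Cfsg.Lib.Char


/-- Let p be a prime, ε = exp(2πi/p), and n an integer such that n = (1 − ε) * ω for some algebraic integer ω. Then p divides n. -/
theorem result (p : ℕ) (hp : p.Prime) (n : ℤ) (ω : ℂ) (hω : IsIntegral ℤ ω) (h : (n : ℂ) = (1 - Complex.exp (2 * Real.pi * Complex.I / p)) * ω) : (p : ℤ) ∣ n := by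
  haveI := Fact.mk hp
  have hprim := Complex.isPrimitiveRoot_exp p hp.ne_zero
  set ζ := Complex.exp (2 * Real.pi * Complex.I / p) with hζ
  have hprod : ∏ i ∈ Finset.range (p - 1), (1 - ζ ^ (i + 1)) = (p : ℂ) := by
    have hp' : IsPrimitiveRoot ζ (p - 1 + 1) := by rwa [Nat.sub_add_cancel hp.one_le]
    rw [IsPrimitiveRoot.prod_one_sub_pow_eq_order hp']
    exact_mod_cast Nat.sub_add_cancel hp.one_le
  have hdvd : ∀ i : ℕ, 1 - ζ ^ (i + 1) = (1 - ζ) * ∑ j ∈ Finset.range (i + 1), ζ ^ j := fun i => by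
    rw [mul_neg_geom_sum]
  have hzi : IsIntegral ℤ ζ := hprim.isIntegral hp.pos
  have hu : ∀ i, i < p - 1 → ∃ u, IsIntegral ℤ u ∧ (1 - ζ) = (1 - ζ ^ (i + 1)) * u := by
    intro i hi
    have hcop : (i + 1).Coprime p := ((Nat.Prime.coprime_iff_not_dvd hp).mpr fun h =>
      absurd (Nat.le_of_dvd (Nat.succ_pos i) h) (by omega)).symm
    obtain ⟨m, -, hm⟩ := (hprim.pow_of_coprime (i + 1) hcop).eq_pow_of_pow_eq_one hprim.pow_eq_one
    refine ⟨∑ j ∈ Finset.range m, (ζ ^ (i + 1)) ^ j,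
      IsIntegral.sum _ fun j _ => (hzi.pow _).pow _, ?_⟩
    rw [mul_neg_geom_sum, hm]
  have key : ∀ k, k ≤ p - 1 → ∃ u, IsIntegral ℤ u ∧
      (1 - ζ) ^ k = (∏ i ∈ Finset.range k, (1 - ζ ^ (i + 1))) * u := by
    intro k hk
    induction k with
    | zero => exact ⟨1, isIntegral_one, by simp⟩
    | succ m ih =>
      obtain ⟨u, hu', he⟩ := ih (by omega)
      obtain ⟨v, hv, hve⟩ := hu m (by omega)
      refine ⟨u * v, hu'.mul hv, ?_⟩
      rw [pow_succ, Finset.prod_range_succ, he]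
      conv_lhs => arg 2; rw [hve]
      ring
  obtain ⟨u, hu', he⟩ := key (p - 1) le_rfl
  rw [hprod] at he
  have hpow : ((n : ℂ)) ^ (p - 1) = (p : ℂ) * (u * ω ^ (p - 1)) := by
    rw [h, mul_pow, he]; ring
  have hp0 : (p : ℂ) ≠ 0 := Nat.cast_ne_zero.mpr hp.ne_zero
  have hint : IsIntegral ℤ ((((n ^ (p - 1) : ℤ) : ℚ) / (p : ℚ) : ℚ) : ℂ) := by
    push_cast
    rw [hpow, mul_div_cancel_left₀ _ hp0]
    exact hu'.mul (hω.pow _)
  obtain ⟨m, hm⟩ := exists_int_of_isIntegral_rat hint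
  rw [div_eq_iff (Nat.cast_ne_zero.mpr hp.ne_zero)] at hm
  have hdiv : (p : ℤ) ∣ n ^ (p - 1) := ⟨m, by
    have h2 : ((n ^ (p - 1) : ℤ) : ℚ) = ((p : ℤ) : ℚ) * (m : ℚ) := by rw [hm]; push_cast; ring
    exact_mod_cast h2⟩
  exact Int.Prime.dvd_pow' hp hdiv

end Cfsg.Agent.S1495
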