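import Cfsg.Statements.S1497
import Cfsg.Agent.Lib.Char.Dade

set_option autoImplicit false
open Cfsg

namespace Cfsg.Agent.S1497

/-- Let A be a nonempty subset of the finite group G not containing 1 and L a subgroup. Then A is a TI-subset whose normaliser is L if and only if the Dade hypothesis holds for A, L and the constant choice H(a) = ⊥. -/
theorem result {G : Type*} [Group G] [Finite G] (A : Set G) (hA : A.Nonempty) (h1 : (1 : G) ∉ A) (L : Subgroup G) : (Cfsg.IsTISubset A ∧ Subgroup.normalizer A = L) ↔ Cfsg.DadeHypothesis A L (fun _ => ⊥) := by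
  constructor
  · rintro ⟨hTI, rfl⟩
    have hconj : ∀ g ∈ Subgroup.normalizer A, ∀ a ∈ A, g * a * g⁻¹ ∈ A := fun g hg a ha =>
      (Subgroup.mem_set_normalizer_iff.mp hg a).mp ha
    have hne : ∀ a ∈ A, a ≠ 1 := fun a ha e => h1 (e ▸ ha)
    have hin : ∀ a ∈ A, ∀ g : G, g * a * g⁻¹ ∈ A → g ∈ Subgroup.normalizer A := fun a ha g hg => by
      by_contra h
      exact hne a ha (hTI g h a ha hg)
    have hcen : ∀ a ∈ A, Subgroup.centralizer ({a} : Set G) ≤ Subgroup.normalizer A := fun a ha g hg => by
      refine hin a ha g ?_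
      rw [show g * a = a * g from Subgroup.mem_centralizer_singleton_iff.mp hg,
        mul_inv_cancel_right]
      exact ha
    refine ⟨h1, fun a ha => hin a ha a (by rwa [mul_inv_cancel_right]), fun x hx a ha => hconj x hx a ha,
      fun a ha g hg => ⟨g, hin a ha g hg, rfl⟩, fun a _ => bot_le, fun a _ c _ u hu => ?_,
      fun a _ => bot_inf_eq _, fun a ha => ?_, fun a _ b _ => ?_⟩
    · rw [Subgroup.mem_bot] at hu ⊢
      rw [hu, mul_one, mul_inv_cancel]
    · rw [bot_sup_eq]
      exact inf_eq_right.mpr (hcen a ha)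
    · simp
  · intro hD
    have hL : L ≤ Subgroup.normalizer A := by
      intro x hx
      rw [Subgroup.mem_set_normalizer_iff]
      refine fun h => ⟨fun hh => hD.conj_mem x hx h hh, fun hh => ?_⟩
      have := hD.conj_mem x⁻¹ (inv_mem hx) _ hh
      simpa [mul_assoc] using this
    have hin : ∀ a ∈ A, ∀ g : G, g * a * g⁻¹ ∈ A → g ∈ L := by
      intro a ha g hg
      obtain ⟨x, hx, e⟩ := hD.fusion a ha g hg
      have hc : x⁻¹ * g ∈ Subgroup.centralizer ({a} : Set G) := by
        rw [Subgroup.mem_centralizer_singleton_iff]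
        calc x⁻¹ * g * a = x⁻¹ * (g * a * g⁻¹) * g := by group
          _ = x⁻¹ * (x * a * x⁻¹) * g := by rw [e]
          _ = a * (x⁻¹ * g) := by group
      rw [← hD.sup_eq a ha, bot_sup_eq] at hc
      have h2 := mul_mem hx hc.1
      rwa [mul_inv_cancel_left] at h2
    obtain ⟨a0, ha0⟩ := hA
    have heq : Subgroup.normalizer A = L :=
      le_antisymm (fun g hg => hin a0 ha0 g ((Subgroup.mem_set_normalizer_iff.mp hg a0).mp ha0)) hL
    refine ⟨fun g hg a ha hga => absurd (hL (hin a ha g hga)) hg, heq⟩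

end Cfsg.Agent.S1497
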