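import Cfsg.Statements.S1507
import Cfsg.Agent.S1506
import Cfsg.Agent.Lib.Char.CyclicTIExist

set_option autoImplicit false
open Cfsg Cfsg.Lib.Char

namespace Cfsg.Agent.S1507

open Classical in
/-- Let W₁, W₂ ≤ G form a self-normalising cyclic subgroup W = W₁ ⊔ W₂ of odd order with Nat.card W₁ < Nat.card W₂, and χ an orthonormal family of irreducible characters of G up to sign, indexed by the linear characters ω of W, with χ_1 = 1, χ_ω = ω on W outside W₁ ∪ W₂, and the induction identity for (1 − φ)(1 − ψ). Let θ be a class function of G vanishing on W outside W₁ ∪ W₂, and suppose fewer than 2 · Nat.card W₁ linear characters ω of W have ⟨θ, χ ω⟩ ≠ 0. Then one of: all ⟨θ, χ ω⟩ vanish; or there are ψ₀ and a with ⟨θ, χ ω⟩ = a when ω ψ₀⁻¹ is trivial on W₂ and 0 otherwise; or there are φ₀ and a with ⟨θ, χ ω⟩ = a when ω φ₀⁻¹ is trivial on W₁ and 0 otherwise. -/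
theorem result {G : Type*} [Group G] [Fintype G] (W₁ W₂ : Subgroup G) (hW : Cfsg.IsSelfNormalizingCyclic W₁ W₂) (hodd : Odd (Nat.card ↥(W₁ ⊔ W₂))) (χ : (↥(W₁ ⊔ W₂) →* ℂˣ) → (G → ℂ)) (hχ : Cfsg.IsCyclicTIFamily W₁ W₂ χ) (hlt : Nat.card W₁ < Nat.card W₂) (θ : G → ℂ) (hθ : Cfsg.IsClassFunction G θ) (hθV : ∀ w : ↥(W₁ ⊔ W₂), (w : G) ∉ W₁ → (w : G) ∉ W₂ → θ w = 0) (hfew : Nat.card {ω : ↥(W₁ ⊔ W₂) →* ℂˣ // Cfsg.classInner θ (χ ω) ≠ 0} < 2 * Nat.card W₁) : (∀ ω, Cfsg.classInner θ (χ ω) = 0) ∨ (∃ (ψ₀ : ↥(W₁ ⊔ W₂) →* ℂˣ) (a : ℂ), ∀ ω, Cfsg.classInner θ (χ ω) = if (∀ w : ↥(W₁ ⊔ W₂), (w : G) ∈ W₂ → (ω * ψ₀⁻¹) w = 1) then a else 0) ∨ (∃ (φ₀ : ↥(W₁ ⊔ W₂) →* ℂˣ) (a : ℂ), ∀ ω, Cfsg.classInner θ (χ ω) = if (∀ w : ↥(W₁ ⊔ W₂), (w : G) ∈ W₁ → (ω * φ₀⁻¹) w = 1) then a else 0) := by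
  obtain ⟨-, -, hdisj, hcomm, hcyc, -⟩ := id hW
  haveI : Fintype ↥(W₁ ⊔ W₂) := Fintype.ofFinite _
  have hab : ∀ a b : ↥(W₁ ⊔ W₂), a * b = b * a := fun a b => by
    obtain ⟨g, hg⟩ := hcyc.exists_generator
    obtain ⟨i, rfl⟩ := hg a
    obtain ⟨j, rfl⟩ := hg b
    exact zpow_mul_comm g i j
  haveI : Finite (↥(W₁ ⊔ W₂) →* ℂˣ) := Finite.of_equiv _
    (linearCharEquiv.trans (Equiv.subtypeUnivEquiv fun χ => degree_eq_one_of_comm hab χ.2)).symm
  obtain ⟨p, q, hp, hq, hpq, hp1, hq2⟩ := cti_exists_proj hdisj hcomm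
  set a : (↥(W₁ ⊔ W₂) →* ℂˣ) → ℂ := fun ω => classInner θ (χ ω) with ha
  let A := {f : ↥(W₁ ⊔ W₂) →* ℂˣ // ∀ w : ↥(W₁ ⊔ W₂), (w : G) ∈ W₂ → f w = 1}
  let B := {f : ↥(W₁ ⊔ W₂) →* ℂˣ // ∀ w : ↥(W₁ ⊔ W₂), (w : G) ∈ W₁ → f w = 1}
  have hA : Nat.card A = Nat.card W₁ := cti_card_trivial_on_right hdisj hcomm hab
  have hB : Nat.card B = Nat.card W₂ := cti_card_trivial_on_left hdisj hcomm hab
  have hrect : ∀ (f : A) (g : B), a (f.1 * g.1) = a f.1 + a g.1 - a 1 := by
    intro f g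
    have := Cfsg.Agent.S1506.result W₁ W₂ hW χ hχ θ hθ hθV f.1 1 g.1 1
      (fun w hw => ⟨f.2 w hw, rfl⟩) (fun w hw => ⟨g.2 w hw, rfl⟩)
    rw [cti_one_mul, cti_one_mul, cti_mul_one] at this
    simp only [ha]
    linear_combination this
  have hpair : ∀ (f f' : A) (g g' : B), f.1 * g.1 = f'.1 * g'.1 → f = f' ∧ g = g' :=
    fun f f' g g' h => by
      obtain ⟨e1, e2⟩ := cti_pair_inj (fun w hw => ⟨f.2 w hw, f'.2 w hw⟩)
        (fun w hw => ⟨g.2 w hw, g'.2 w hw⟩) h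
      exact ⟨Subtype.ext e1, Subtype.ext e2⟩
  let oneA : A := ⟨1, fun _ _ => rfl⟩
  let oneB : B := ⟨1, fun _ _ => rfl⟩
  have hsurj : ∀ ω, ∃ (f : A) (g : B), ω = f.1 * g.1 := fun ω =>
    ⟨⟨ω.comp p, fun x hx => by rw [MonoidHom.comp_apply, (hq2 x hx).1, map_one]⟩,
      ⟨ω.comp q, fun x hx => by rw [MonoidHom.comp_apply, (hp1 x hx).2, map_one]⟩, by
        ext x
        rw [MonoidHom.mul_apply, MonoidHom.comp_apply, MonoidHom.comp_apply, ← map_mul, hpq]⟩
  have hz : ∀ (f : A) (g g' : B),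
      ((∀ w : ↥(W₁ ⊔ W₂), (w : G) ∈ W₂ → ((f.1 * g.1) * g'.1⁻¹) w = 1) ↔ g = g') := by
    intro f g g'
    constructor
    · intro h
      refine Subtype.ext (cti_hom_ext (fun w hw => by rw [g.2 w hw, g'.2 w hw]) (fun w hw => ?_))
      have := h w hw
      rw [MonoidHom.mul_apply, MonoidHom.mul_apply, f.2 w hw, one_mul, MonoidHom.inv_apply,
        mul_inv_eq_one] at this
      exact this
    · rintro rfl w hw
      rw [MonoidHom.mul_apply, MonoidHom.mul_apply, f.2 w hw, one_mul, MonoidHom.inv_apply,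
        mul_inv_cancel]
  have hz' : ∀ (f f' : A) (g : B),
      ((∀ w : ↥(W₁ ⊔ W₂), (w : G) ∈ W₁ → ((f.1 * g.1) * f'.1⁻¹) w = 1) ↔ f = f') := by
    intro f f' g
    constructor
    · intro h
      refine Subtype.ext (cti_hom_ext (fun w hw => ?_) (fun w hw => by rw [f.2 w hw, f'.2 w hw]))
      have := h w hw
      rw [MonoidHom.mul_apply, MonoidHom.mul_apply, g.2 w hw, mul_one, MonoidHom.inv_apply,
        mul_inv_eq_one] at this
      exact this
    · rintro rfl w hw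
      rw [MonoidHom.mul_apply, MonoidHom.mul_apply, g.2 w hw, mul_one, MonoidHom.inv_apply,
        mul_inv_cancel]
  by_cases hu : ∀ f : A, a f.1 = a 1
  · -- constant in the first coordinate
    have hv : ∀ (f : A) (g : B), a (f.1 * g.1) = a g.1 := fun f g => by rw [hrect f g, hu f]; ring
    by_cases hnone : ∀ g : B, a g.1 = 0
    · exact Or.inl fun ω => by obtain ⟨f, g, rfl⟩ := hsurj ω; exact (hv f g).trans (hnone g)
    push Not at hnone
    obtain ⟨g₀, hg₀⟩ := hnone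
    have huniq : ∀ g : B, a g.1 ≠ 0 → g = g₀ := by
      intro g hg
      by_contra hne
      let ι : A × Bool → {ω // classInner θ (χ ω) ≠ 0} := fun x =>
        if x.2 then ⟨x.1.1 * g.1, by show a _ ≠ 0; rw [hv]; exact hg⟩
        else ⟨x.1.1 * g₀.1, by show a _ ≠ 0; rw [hv]; exact hg₀⟩
      have hinj : Function.Injective ι := by
        rintro ⟨f, b⟩ ⟨f', b'⟩ e
        have e' := congrArg Subtype.val e
        cases b <;> cases b' <;> simp only [ι, Bool.false_eq_true, if_false, if_true] at e'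
        · rw [(hpair _ _ _ _ e').1]
        · exact absurd (hpair _ _ _ _ e').2.symm hne
        · exact absurd (hpair _ _ _ _ e').2 hne
        · rw [(hpair _ _ _ _ e').1]
      have := Nat.card_le_card_of_injective ι hinj
      rw [Nat.card_prod, hA, Nat.card_eq_fintype_card (α := Bool), Fintype.card_bool] at this
      omega
    refine Or.inr (Or.inl ⟨g₀.1, a g₀.1, fun ω => ?_⟩)
    obtain ⟨f, g, rfl⟩ := hsurj ω
    by_cases h : g = g₀
    · rw [if_pos ((hz f g g₀).mpr h), ← h]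
      exact hv f g
    · rw [if_neg (fun e => h ((hz f g g₀).mp e))]
      exact (hv f g).trans (by_contra fun e => h (huniq g e))
  by_cases hw : ∀ g : B, a g.1 = a 1
  · -- constant in the second coordinate
    have hv : ∀ (f : A) (g : B), a (f.1 * g.1) = a f.1 := fun f g => by rw [hrect f g, hw g]; ring
    by_cases hnone : ∀ f : A, a f.1 = 0
    · exact Or.inl fun ω => by obtain ⟨f, g, rfl⟩ := hsurj ω; exact (hv f g).trans (hnone f)
    push Not at hnone
    obtain ⟨f₀, hf₀⟩ := hnone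
    have huniq : ∀ f : A, a f.1 ≠ 0 → f = f₀ := by
      intro f hf
      by_contra hne
      let ι : B × Bool → {ω // classInner θ (χ ω) ≠ 0} := fun x =>
        if x.2 then ⟨f.1 * x.1.1, by show a _ ≠ 0; rw [hv]; exact hf⟩
        else ⟨f₀.1 * x.1.1, by show a _ ≠ 0; rw [hv]; exact hf₀⟩
      have hinj : Function.Injective ι := by
        rintro ⟨g, b⟩ ⟨g', b'⟩ e
        have e' := congrArg Subtype.val e
        cases b <;> cases b' <;> simp only [ι, Bool.false_eq_true, if_false, if_true] at e'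
        · rw [(hpair _ _ _ _ e').2]
        · exact absurd (hpair _ _ _ _ e').1.symm hne
        · exact absurd (hpair _ _ _ _ e').1 hne
        · rw [(hpair _ _ _ _ e').2]
      have := Nat.card_le_card_of_injective ι hinj
      rw [Nat.card_prod, hB, Nat.card_eq_fintype_card (α := Bool), Fintype.card_bool] at this
      omega
    refine Or.inr (Or.inr ⟨f₀.1, a f₀.1, fun ω => ?_⟩)
    obtain ⟨f, g, rfl⟩ := hsurj ω
    by_cases h : f = f₀
    · rw [if_pos ((hz' f f₀ g).mpr h), ← h]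
      exact hv f g
    · rw [if_neg (fun e => h ((hz' f f₀ g).mp e))]
      exact (hv f g).trans (by_contra fun e => h (huniq f e))
  -- otherwise there are too many nonzero values
  exfalso
  push Not at hu hw
  obtain ⟨f₁, hf₁⟩ := hu
  obtain ⟨g₁, hg₁⟩ := hw
  have hf₁ne : oneA ≠ f₁ := fun e => hf₁ (by rw [← e])
  have hrow : ∀ f : A, ∃ g : B, a (f.1 * g.1) ≠ 0 := fun f => by
    by_contra h
    push Not at h
    have e1 := h oneB
    have e2 := h g₁
    rw [hrect] at e1 e2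
    exact hg₁ (by simp only [oneB] at e1; linear_combination e2 - e1)
  choose r hr using hrow
  let ι : B ⊕ {f : A // f ≠ oneA ∧ f ≠ f₁} → {ω // classInner θ (χ ω) ≠ 0} :=
    Sum.elim (fun g => if h : a (oneA.1 * g.1) ≠ 0 then ⟨oneA.1 * g.1, h⟩ else ⟨f₁.1 * g.1, by
      show a _ ≠ 0
      rw [not_not] at h
      intro h'
      rw [hrect] at h h'
      exact hf₁ (by simp only [oneA] at h; linear_combination h' - h)⟩)
      (fun f => ⟨f.1.1 * (r f.1).1, hr f.1⟩)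
  have hinj : Function.Injective ι := by
    rintro (g | f) (g' | f') e <;> have e' := congrArg Subtype.val e <;>
      simp only [ι, Sum.elim_inl, Sum.elim_inr] at e'
    · split_ifs at e' <;> rw [(hpair _ _ _ _ e').2]
    · split_ifs at e'
      · exact absurd (hpair _ _ _ _ e').1.symm f'.2.1
      · exact absurd (hpair _ _ _ _ e').1.symm f'.2.2
    · split_ifs at e'
      · exact absurd (hpair _ _ _ _ e').1 f.2.1
      · exact absurd (hpair _ _ _ _ e').1 f.2.2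
    · rw [Subtype.ext (hpair _ _ _ _ e').1]
  have hcard := Nat.card_le_card_of_injective ι hinj
  have hrest : Nat.card {f : A // f ≠ oneA ∧ f ≠ f₁} + 2 = Nat.card A := by
    haveI := Fintype.ofFinite A
    rw [Nat.card_eq_fintype_card, Nat.card_eq_fintype_card, Fintype.card_subtype]
    have e : Finset.univ.filter (fun f : A => f ≠ oneA ∧ f ≠ f₁) =
        Finset.univ \ {oneA, f₁} := by
      ext f; simp
    rw [e, Finset.card_sdiff_of_subset (Finset.subset_univ _), Finset.card_univ,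
      Finset.card_pair hf₁ne]
    have h2 := Finset.card_le_univ ({oneA, f₁} : Finset A)
    rw [Finset.card_pair hf₁ne] at h2
    omega
  rw [Nat.card_sum, hB] at hcard
  rw [hA] at hrest
  have hmul : Nat.card W₁ * Nat.card W₂ = Nat.card ↥(W₁ ⊔ W₂) := by
    rw [← hA, ← hB, ← Nat.card_prod]
    refine (Nat.card_congr (Equiv.ofBijective (fun x : A × B => x.1.1 * x.2.1)
      ⟨fun x y e => Prod.ext (hpair _ _ _ _ e).1 (hpair _ _ _ _ e).2, fun ω => ?_⟩)).trans ?_
    · obtain ⟨f, g, rfl⟩ := hsurj ω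
      exact ⟨(f, g), rfl⟩
    · letI : CommGroup ↥(W₁ ⊔ W₂) :=
        { (inferInstance : Group ↥(W₁ ⊔ W₂)) with mul_comm := hab }
      exact card_monoidHom_units _
  obtain ⟨⟨u, hu'⟩, ⟨v, hv'⟩⟩ := Nat.odd_mul.mp (hmul ▸ hodd)
  omega

end Cfsg.Agent.S1507
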