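import Cfsg.Statements.S1509
import Cfsg.Agent.Lib.Char.SignedIrr

set_option autoImplicit false
open Cfsg Cfsg.Lib.Char
open scoped ComplexConjugate

namespace Cfsg.Agent.S1509

/-- Let α, β, γ, δ be functions on a finite group X each of which is an irreducible character or the negative of one, and u, v nonzero real numbers. Suppose ⟨α, β⟩ = ⟨γ, δ⟩ = 0, ⟨α − β, uγ − vδ⟩ = 0, α 1 = β 1 and u γ 1 = v δ 1. Then also ⟨α, γ⟩ = ⟨α, δ⟩ = ⟨β, γ⟩ = ⟨β, δ⟩ = 0. -/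
theorem result {X : Type*} [Group X] [Fintype X] (α β γ δ : X → ℂ) (hα : Cfsg.IsIrrCharacter X α ∨ Cfsg.IsIrrCharacter X (-α)) (hβ : Cfsg.IsIrrCharacter X β ∨ Cfsg.IsIrrCharacter X (-β)) (hγ : Cfsg.IsIrrCharacter X γ ∨ Cfsg.IsIrrCharacter X (-γ)) (hδ : Cfsg.IsIrrCharacter X δ ∨ Cfsg.IsIrrCharacter X (-δ)) (u v : ℝ) (hu : u ≠ 0) (hv : v ≠ 0) (hab : Cfsg.classInner α β = 0) (hcd : Cfsg.classInner γ δ = 0) (hmix : Cfsg.classInner (α - β) ((u : ℂ) • γ - (v : ℂ) • δ) = 0) (h1 : α 1 = β 1) (h2 : (u : ℂ) * γ 1 = (v : ℂ) * δ 1) : Cfsg.classInner α γ = 0 ∧ Cfsg.classInner α δ = 0 ∧ Cfsg.classInner β γ = 0 ∧ Cfsg.classInner β δ = 0 := by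
  obtain ⟨p, a, ha, hp, rfl⟩ := exists_real_mul_irr hα
  obtain ⟨q, b, hb, hq, rfl⟩ := exists_real_mul_irr hβ
  obtain ⟨r, c, hc, hr, rfl⟩ := exists_real_mul_irr hγ
  obtain ⟨s, e, he, hs, rfl⟩ := exists_real_mul_irr hδ
  simp only [Pi.smul_apply, smul_eq_mul, ← mul_assoc, ← Complex.ofReal_mul] at h1 h2
  simp only [smul_smul, ← Complex.ofReal_mul] at hmix
  obtain ⟨e1, e2, e3, e4⟩ := irr_pairs_disjoint ha hb hc he
    (ne_of_classInner_real_mul ha hp hq hab) (ne_of_classInner_real_mul hc hr hs hcd) hp hq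
    (mul_ne_zero hu hr) (mul_ne_zero hv hs) h1 h2 hmix
  exact ⟨classInner_real_mul_irr_eq_zero ha hc _ _ e1, classInner_real_mul_irr_eq_zero ha he _ _ e2,
    classInner_real_mul_irr_eq_zero hb hc _ _ e3, classInner_real_mul_irr_eq_zero hb he _ _ e4⟩

end Cfsg.Agent.S1509
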