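import Cfsg.Statements.S1515
import Cfsg.Agent.Lib.Char.Coherence

set_option autoImplicit false
open Cfsg Cfsg.Lib.Char
open scoped ComplexConjugate

namespace Cfsg.Agent.S1515

/-- Let (S, τ, R) be a coherence system from L to G, χ ∈ S, and ψ an integer combination of S with ⟨χ, ψ⟩ = ⟨conj χ, ψ⟩ = 0. Let τ₁ be a linear isometry on the integer combinations of χ − ψ and χ − conj χ, with virtual-character values, agreeing with τ on integer multiples of χ − conj χ. Then the sum over α ∈ R χ of the squared absolute values of ⟨τ₁(χ − ψ), α⟩ is at least ⟨χ, χ⟩; and if ⟨τ₁(χ − ψ), τ₁(χ − ψ)⟩ minus that sum is at least ⟨ψ, ψ⟩, then the sum equals ⟨χ, χ⟩ and every ⟨τ₁(χ − ψ), α⟩ with α ∈ R χ is 0 or 1. -/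
theorem result {L : Type*} [Group L] [Fintype L] {G : Type*} [Group G] [Fintype G] (S : Set (L → ℂ)) (τ : (L → ℂ) → (G → ℂ)) (R : (L → ℂ) → Finset (G → ℂ)) (hS : Cfsg.IsCoherenceSystem S τ R) (χ : L → ℂ) (hχ : χ ∈ S) (ψ : L → ℂ) (hψ : ψ ∈ Cfsg.zspan S) (h1 : Cfsg.classInner χ ψ = 0) (h2 : Cfsg.classInner (Cfsg.conjFun χ) ψ = 0) (τ₁ : (L → ℂ) → (G → ℂ)) (hτ₁ : Cfsg.IsLinearIsometryOn (Cfsg.zspan {χ - ψ, χ - Cfsg.conjFun χ}) τ₁) (hagree : ∀ n : ℤ, τ₁ (n • (χ - Cfsg.conjFun χ)) = τ (n • (χ - Cfsg.conjFun χ))) : (Cfsg.classInner χ χ).re ≤ ∑ α ∈ R χ, ‖Cfsg.classInner (τ₁ (χ - ψ)) α‖ ^ 2 ∧ ((Cfsg.classInner ψ ψ).re ≤ (Cfsg.classInner (τ₁ (χ - ψ)) (τ₁ (χ - ψ))).re - ∑ α ∈ R χ, ‖Cfsg.classInner (τ₁ (χ - ψ)) α‖ ^ 2 → (∑ α ∈ R χ, ‖Cfsg.classInner (τ₁ (χ - ψ)) α‖ ^ 2 = (Cfsg.classInner χ χ).re ∧ ∀ α ∈ R χ, Cfsg.classInner (τ₁ (χ - ψ)) α = 0 ∨ Cfsg.classInner (τ₁ (χ - ψ)) α =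 1)) := by
  obtain ⟨N, hN⟩ := exists_nat_norm (hS.isCharacter χ hχ).isGeneralized
  have hmw : χ - ψ ∈ zspan ({χ - ψ, χ - conjFun χ} : Set (L → ℂ)) := mem_zspan_self (by simp)
  have hmd : χ - conjFun χ ∈ zspan ({χ - ψ, χ - conjFun χ} : Set (L → ℂ)) := mem_zspan_self (by simp)
  have hcc : classInner χ (conjFun χ) = 0 :=
    hS.orthogonal χ hχ _ (hS.conj_mem χ hχ) (Ne.symm (hS.conj_ne χ hχ))
  have hpair : classInner (τ₁ (χ - ψ)) (τ (χ - conjFun χ)) = N := by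
    have e := hagree 1
    rw [one_smul] at e
    rw [← e, hτ₁.2.2.1 _ hmw _ hmd, classInner_sub_left, classInner_sub_right,
      classInner_sub_right, hN, hcc, classInner_symm_zero h1, classInner_symm_zero h2]
    ring
  obtain ⟨a, w, ha, -, -, -, hge, -, heq⟩ := hS.proj_bound hχ (hτ₁.2.2.2 _ hmw) hpair
  have hsum : ∑ α ∈ R χ, ‖classInner (τ₁ (χ - ψ)) α‖ ^ 2 =
      ((∑ α ∈ R χ, a α * a α : ℤ) : ℝ) := by
    push_cast
    exact Finset.sum_congr rfl fun α hα => by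
      rw [ha α hα, Complex.norm_intCast, sq_abs]
      ring
  have hnorm : (classInner (τ₁ (χ - ψ)) (τ₁ (χ - ψ))).re = N + (classInner ψ ψ).re := by
    rw [hτ₁.2.2.1 _ hmw _ hmw, classInner_sub_left, classInner_sub_right, classInner_sub_right,
      hN, h1, classInner_symm_zero h1]
    simp
  rw [hsum, hnorm, hN, Complex.natCast_re]
  refine ⟨by exact_mod_cast hge, fun h => ?_⟩
  have hle : ∑ α ∈ R χ, a α * a α ≤ (N : ℤ) := by
    have : ((∑ α ∈ R χ, a α * a α : ℤ) : ℝ) ≤ ((N : ℤ) : ℝ) := by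
      rw [Int.cast_natCast]; linarith
    exact_mod_cast this
  refine ⟨by exact_mod_cast le_antisymm hle hge, fun α hα => ?_⟩
  rw [ha α hα]
  rcases heq hle α hα with h | h <;> simp [h]

end Cfsg.Agent.S1515
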