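import Cfsg.Statements.S1527


set_option autoImplicit false
open Cfsg

namespace Cfsg.Agent.S1527

/-- Let G be a finite group and H i (i in a finite index type) subgroups of pairwise coprime orders, each of whose underlying sets is a TI-subset of G, such that every non-identity element of G is conjugate to an element of some H i. Then Nat.card G − 1 = Σ_i [G : N_G(H i)] · (Nat.card (H i) − 1). -/
theorem result {G : Type*} [Group G] [Finite G] {ι : Type*} [Fintype ι] (H : ι → Subgroup G) (hcop : ∀ i j, i ≠ j → Nat.Coprime (Nat.card (H i)) (Nat.card (H j))) (hTI : ∀ i, Cfsg.IsTISubset (H i : Set G)) (hcover : ∀ g : G, g ≠ 1 → ∃ i, ∃ x : G, x * g * x⁻¹ ∈ H i) : Nat.card G - 1 = ∑ i, (Subgroup.normalizer (H i : Set G)).index * (Nat.card (H i) - 1) := by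
  classical
  let α := Σ i, (G ⧸ Subgroup.normalizer (H i : Set G)) × {h : H i // h ≠ 1}
  let f : α → {g : G // g ≠ 1} := fun x =>
    ⟨x.2.1.out * (x.2.2.1 : G) * x.2.1.out⁻¹, fun h => x.2.2.2 (Subtype.ext (conj_eq_one_iff.mp h))⟩
  have hinj : Function.Injective f := by
    rintro ⟨i, q, h, hh⟩ ⟨j, q', h', hh'⟩ e
    have e' : q.out * (h : G) * q.out⁻¹ = q'.out * (h' : G) * q'.out⁻¹ := congrArg Subtype.val e
    obtain rfl : i = j := by
      by_contra hne
      have ho : orderOf (h : G) = orderOf (h' : G) := by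
        have h1 := congrArg orderOf e'
        have h2 : ∀ a b : G, orderOf (a * b * a⁻¹) = orderOf b := fun a b =>
          orderOf_injective (MulAut.conj a).toMonoidHom (MulAut.conj a).injective b
        rwa [h2, h2] at h1
      have d1 : orderOf (h : G) ∣ Nat.card (H i) := by
        rw [Subgroup.orderOf_coe]; exact orderOf_dvd_natCard h
      have d2 : orderOf (h : G) ∣ Nat.card (H j) := by
        rw [ho, Subgroup.orderOf_coe]; exact orderOf_dvd_natCard h'
      have h1 := Nat.dvd_gcd d1 d2
      rw [hcop i j hne, Nat.dvd_one, orderOf_eq_one_iff] at h1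
      exact hh (Subtype.ext h1)
    have e2 : (q'.out⁻¹ * q.out) * (h : G) * (q'.out⁻¹ * q.out)⁻¹ = (h' : G) := by
      rw [mul_inv_rev, inv_inv, mul_assoc, mul_assoc, ← mul_assoc (h : G), ← mul_assoc q.out,
        ← mul_assoc q.out, e']
      group
    have hq : q = q' := by
      by_contra hne
      have hn : q'.out⁻¹ * q.out ∉ Subgroup.normalizer (H i : Set G) := fun hm => hne (by
        rw [← QuotientGroup.out_eq' q, ← QuotientGroup.out_eq' q']
        exact (QuotientGroup.eq.mpr hm).symm)
      exact hh (Subtype.ext (hTI i _ hn h h.2 (by rw [e2]; exact h'.2)))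
    subst hq
    obtain rfl : h = h' := Subtype.ext (by simpa using e')
    rfl
  have hsurj : Function.Surjective f := by
    rintro ⟨g, hg⟩
    obtain ⟨i, x, hx⟩ := hcover g hg
    obtain ⟨n, hn⟩ := QuotientGroup.mk_out_eq_mul (Subgroup.normalizer (H i : Set G)) x⁻¹
    set q : G ⧸ Subgroup.normalizer (H i : Set G) := QuotientGroup.mk x⁻¹
    have hm : (n : G)⁻¹ * (x * g * x⁻¹) * n ∈ H i := by
      have := (n⁻¹).2
      have h2 := (this (x * g * x⁻¹)).mp hx
      simpa using h2
    have hne : (⟨_, hm⟩ : H i) ≠ 1 := fun e => hg (by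
      have h1 : (n : G)⁻¹ * (x * g * x⁻¹) * n = 1 := congrArg Subtype.val e
      have h2 : x * g * x⁻¹ = 1 := by
        have := conj_eq_one_iff (a := (n : G)⁻¹) (b := x * g * x⁻¹)
        rw [inv_inv] at this
        exact this.mp h1
      exact conj_eq_one_iff.mp h2)
    refine ⟨⟨i, q, ⟨_, hm⟩, hne⟩, Subtype.ext ?_⟩
    show q.out * ((n : G)⁻¹ * (x * g * x⁻¹) * n) * q.out⁻¹ = g
    rw [hn]
    group
  have hsub : ∀ (β : Type _) [Finite β] (b : β), Nat.card {x : β // x ≠ b} = Nat.card β - 1 := by
    intro β _ b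
    haveI := Fintype.ofFinite β
    rw [Nat.card_eq_fintype_card, Nat.card_eq_fintype_card, Fintype.card_subtype_compl,
      Fintype.card_subtype_eq]
  rw [← hsub G 1, ← Nat.card_congr (Equiv.ofBijective f ⟨hinj, hsurj⟩), Nat.card_sigma]
  refine Finset.sum_congr rfl fun i _ => ?_
  rw [Nat.card_prod, ← Subgroup.index_eq_card, hsub]

end Cfsg.Agent.S1527
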