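import Cfsg.Statements.S1529
import Cfsg.Agent.Lib.Char.SignedIrr
import Cfsg.Agent.Lib.Char.Coherence

set_option autoImplicit false
open Cfsg Cfsg.Lib.Char
open scoped ComplexConjugate

namespace Cfsg.Agent.S1529

/-- Let N be a subgroup of the finite group G, S a set of irreducible characters of N with at least two members, and τ₁ a linear isometry on the integer combinations of S with virtual-character values such that τ₁ α vanishes at 1 whenever α ∈ ℤ[S] does. Then there is ε ∈ {1, −1} such that ε • τ₁ χ is an irreducible character of G for every χ ∈ S, and distinct members of S give distinct characters. -/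
theorem result {G : Type*} [Group G] [Fintype G] (N : Subgroup G) [Fintype N] (S : Set (N → ℂ)) (hirr : ∀ χ ∈ S, Cfsg.IsIrrCharacter N χ) (htwo : ∃ χ ∈ S, ∃ ψ ∈ S, χ ≠ ψ) (τ₁ : (N → ℂ) → (G → ℂ)) (hτ₁ : Cfsg.IsLinearIsometryOn (Cfsg.zspan S) τ₁) (h0 : ∀ α ∈ Cfsg.zspan S, α 1 = 0 → τ₁ α 1 = 0) : ∃ ε : ℂ, (ε = 1 ∨ ε = -1) ∧ (∀ χ ∈ S, Cfsg.IsIrrCharacter G (ε • τ₁ χ)) ∧ (∀ χ ∈ S, ∀ ψ ∈ S, τ₁ χ = τ₁ ψ → χ = ψ) := by
  have h : ∀ χ : N → ℂ, ∃ (s : ℤ) (μ : IrrCharacter G), χ ∈ S →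
      (s = 1 ∨ s = -1) ∧ τ₁ χ = (s : ℂ) • (μ : G → ℂ) := fun χ => by
    by_cases hχ : χ ∈ S
    · obtain ⟨s, μ, hs, e⟩ := exists_signed_irr_of_norm_one (hτ₁.2.2.2 _ (mem_zspan_self hχ))
        (by rw [hτ₁.2.2.1 _ (mem_zspan_self hχ) _ (mem_zspan_self hχ),
          classInner_irr_self (hirr χ hχ)])
      exact ⟨s, μ, fun _ => ⟨hs, e⟩⟩
    · exact ⟨1, ⟨_, isIrrCharacter_one⟩, fun h => absurd h hχ⟩
  choose s μ hsμ using h
  obtain ⟨χ₀, hχ₀, -⟩ := htwo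
  have hsame : ∀ χ ∈ S, s χ = s χ₀ := by
    intro χ hχ
    obtain ⟨a, ha0, ha⟩ := (hirr χ hχ).exists_degree
    obtain ⟨b, hb0, hb⟩ := (hirr χ₀ hχ₀).exists_degree
    obtain ⟨x, hx0, hx⟩ := (μ χ).2.exists_degree
    obtain ⟨y, hy0, hy⟩ := (μ χ₀).2.exists_degree
    have h1 := h0 ((b : ℂ) • χ - (a : ℂ) • χ₀)
      (zspan_sub (zspan_natCast_smul (mem_zspan_self hχ) _) (zspan_natCast_smul (mem_zspan_self hχ₀) _))
      (by rw [Pi.sub_apply, Pi.smul_apply, Pi.smul_apply, smul_eq_mul, smul_eq_mul, ha, hb]; ring)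
    rw [hτ₁.map_sub' (zspan_natCast_smul (mem_zspan_self hχ) _)
        (zspan_natCast_smul (mem_zspan_self hχ₀) _)
        (zspan_zsmul (zspan_natCast_smul (mem_zspan_self hχ₀) _) _),
      hτ₁.map_natCast_smul (mem_zspan_self hχ), hτ₁.map_natCast_smul (mem_zspan_self hχ₀),
      (hsμ χ hχ).2, (hsμ χ₀ hχ₀).2] at h1
    simp only [Pi.sub_apply, Pi.smul_apply, smul_eq_mul, hx, hy] at h1
    have h2 : (b : ℤ) * (s χ * x) - (a : ℤ) * (s χ₀ * y) = 0 := by exact_mod_cast h1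
    have hp : 0 < (b : ℤ) * x := by positivity
    have hq : 0 < (a : ℤ) * y := by positivity
    rcases (hsμ χ hχ).1 with e | e <;> rcases (hsμ χ₀ hχ₀).1 with e' | e' <;> rw [e, e'] at h2 ⊢ <;>
      exfalso <;> linarith
  refine ⟨(s χ₀ : ℂ), ?_, fun χ hχ => ?_, fun χ hχ ψ hψ e => ?_⟩
  · rcases (hsμ χ₀ hχ₀).1 with e | e <;> simp [e]
  · rw [(hsμ χ hχ).2, hsame χ hχ, smul_smul]
    have : (s χ₀ : ℂ) * s χ₀ = 1 := by rcases (hsμ χ₀ hχ₀).1 with e | e <;> simp [e]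
    rw [this, one_smul]
    exact (μ χ).2
  · by_contra hne
    have h1 := hτ₁.2.2.1 _ (mem_zspan_self hχ) _ (mem_zspan_self hψ)
    rw [← e, hτ₁.2.2.1 _ (mem_zspan_self hχ) _ (mem_zspan_self hχ),
      classInner_irr_self (hirr χ hχ), classInner_irr_ne (hirr χ hχ) (hirr ψ hψ) hne] at h1
    exact one_ne_zero h1

end Cfsg.Agent.S1529
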