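import Cfsg.Statements.S1530
import Cfsg.Agent.Lib.Char.SignedIrr
import Cfsg.Agent.Lib.Char.Coherence

set_option autoImplicit false
open Cfsg Cfsg.Lib.Char
open scoped ComplexConjugate

namespace Cfsg.Agent.S1530

/-- Let N be a subgroup of the finite group G and S₀ a finite set of irreducible characters of N, χ an irreducible character of N not in S₀, with degrees ξ 1 = d ξ. Let τ be a linear isometry on the integer combinations of S₀ ∪ {χ} vanishing at 1, with values virtual characters of G vanishing at 1, such that (S₀, N minus 1, τ) is coherent. If some ψ ∈ S₀ has d ψ dividing d χ and 2 · d ψ · d χ < Σ_{ξ ∈ S₀} (d ξ)², then (S₀ ∪ {χ}, N minus 1, τ) is coherent. -/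
theorem result {G : Type*} [Group G] [Fintype G] (N : Subgroup G) [Fintype N] (S₀ : Finset (N → ℂ)) (χ : N → ℂ) (hirr : ∀ ξ ∈ S₀, Cfsg.IsIrrCharacter N ξ) (hχ : Cfsg.IsIrrCharacter N χ) (hχS : χ ∉ S₀) (d : (N → ℂ) → ℕ) (hd : ∀ ξ ∈ insert χ S₀, ξ 1 = (d ξ : ℂ)) (τ : (N → ℂ) → (G → ℂ)) (hτ : Cfsg.IsLinearIsometryOn (Cfsg.zspanOn (↑(insert χ S₀) : Set (N → ℂ)) {1}ᶜ) τ) (hτ1 : ∀ α ∈ Cfsg.zspanOn (↑(insert χ S₀) : Set (N → ℂ)) {1}ᶜ, τ α 1 = 0) (hcoh : Cfsg.IsCoherent (↑S₀ : Set (N → ℂ)) {1}ᶜ τ) (ψ : N → ℂ) (hψ : ψ ∈ S₀) (hdvd : d ψ ∣ d χ) (hlt : 2 * d ψ * d χ < ∑ ξ ∈ S₀, d ξ ^ 2) : Cfsg.IsCoherent (↑(insert χ S₀) : Set (N → ℂ)) {1}ᶜ τ := by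
  classical
  obtain ⟨-, e, he', hagree⟩ := hcoh
  have hm : ∀ {φ}, φ ∈ S₀ → φ ∈ zspan (↑S₀ : Set (N → ℂ)) := fun h => mem_zspan_self h
  have hdS : ∀ φ ∈ S₀, φ 1 = (d φ : ℂ) := fun φ hφ => hd φ (Finset.mem_insert_of_mem hφ)
  have hpos : ∀ φ ∈ insert χ S₀, 0 < d φ := fun φ hφ => by
    have hi : IsIrrCharacter N φ := by
      rcases Finset.mem_insert.mp hφ with rfl | h
      exacts [hχ, hirr φ h]
    have h := hi.apply_one_ne_zero
    rw [hd φ hφ, Nat.cast_ne_zero] at h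
    exact Nat.pos_of_ne_zero h
  obtain ⟨a, ha⟩ := hdvd
  have ha0 : 0 < a := Nat.pos_of_ne_zero fun h => (hpos χ (Finset.mem_insert_self _ _)).ne'
    (by rw [ha, h, mul_zero])
  have hdψ : (d ψ : ℂ) ≠ 0 := Nat.cast_ne_zero.mpr (hpos ψ (Finset.mem_insert_of_mem hψ)).ne'
  have hne : ∀ {φ}, φ ∈ S₀ → φ ≠ χ := fun h e => hχS (e ▸ h)
  have heip : ∀ φ ∈ S₀, ∀ φ' ∈ S₀, classInner (e φ) (e φ') = if φ = φ' then 1 else 0 := by
    intro φ hφ φ' hφ'
    rw [he'.2.2.1 _ (hm hφ) _ (hm hφ'), classInner_irr (hirr φ hφ) (hirr φ' hφ')]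
  have hegen : ∀ φ ∈ S₀, IsGeneralizedCharacter G (e φ) := fun φ hφ => he'.2.2.2 _ (hm hφ)
  -- images of the pivot elements
  have hpiv : ∀ φ ∈ S₀, τ ((d ψ : ℂ) • φ - (d φ : ℂ) • ψ) =
      (d ψ : ℂ) • e φ - (d φ : ℂ) • e ψ := fun φ hφ => by
    rw [← hagree _ (pivot_mem (S := (↑S₀ : Set (N → ℂ))) (d := d) hφ hψ (hdS φ hφ) (hdS ψ hψ)),
      he'.map_sub' (zspan_natCast_smul (hm hφ) _) (zspan_natCast_smul (hm hψ) _)
        (zspan_zsmul (zspan_natCast_smul (hm hψ) _) _),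
      he'.map_natCast_smul (hm hφ), he'.map_natCast_smul (hm hψ)]
  have hsub : (↑S₀ : Set (N → ℂ)) ⊆ ↑(insert χ S₀) := Finset.coe_subset.mpr (Finset.subset_insert _ _)
  have hwmem : χ - (a : ℂ) • ψ ∈ zspanOn (↑(insert χ S₀) : Set (N → ℂ)) ({1}ᶜ : Set N) := by
    refine mem_zspanOn_one.mpr ⟨zspan_sub (mem_zspan_self (Finset.mem_insert_self _ _))
      (zspan_natCast_smul (mem_zspan_self (hsub hψ)) a), ?_⟩
    simp only [Pi.sub_apply, Pi.smul_apply, smul_eq_mul, hd χ (Finset.mem_insert_self _ _),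
      hdS ψ hψ, ha]
    push_cast
    ring
  set β := τ (χ - (a : ℂ) • ψ) with hβ
  have hβgen : IsGeneralizedCharacter G β := hτ.2.2.2 _ hwmem
  have hpos1 : ∀ φ ∈ S₀, (d ψ : ℂ) * e φ 1 = (d φ : ℂ) * e ψ 1 := fun φ hφ => by
    have h := hτ1 _ (zspanOn_mono hsub _
      (pivot_mem (S := (↑S₀ : Set (N → ℂ))) (d := d) hφ hψ (hdS φ hφ) (hdS ψ hψ)))
    rw [hpiv φ hφ, Pi.sub_apply, Pi.smul_apply, Pi.smul_apply, sub_eq_zero] at h
    exact h
  obtain ⟨k, hk⟩ : ∃ k : ℤ, classInner β (e ψ) = (k : ℂ) - a := by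
    obtain ⟨c, hc⟩ := hβgen.exists_int_classInner (hegen ψ hψ)
    exact ⟨c + (a : ℤ), by rw [hc]; push_cast; ring⟩
  have hcoef : ∀ φ ∈ S₀, (d ψ : ℂ) * classInner β (e φ) =
      (d φ : ℂ) * k - if φ = ψ then (d ψ : ℂ) * a else 0 := by
    intro φ hφ
    by_cases h : φ = ψ
    · subst h; rw [if_pos rfl, hk]; ring
    · rw [if_neg h, sub_zero]
      have h1 := hτ.2.2.1 _ hwmem _ (zspanOn_mono hsub _
        (pivot_mem (S := (↑S₀ : Set (N → ℂ))) (d := d) hφ hψ (hdS φ hφ) (hdS ψ hψ)))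
      rw [hpiv φ hφ, ← hβ] at h1
      simp only [classInner_sub_left, classInner_sub_right, classInner_smul_left,
        classInner_smul_right, Complex.conj_natCast, hk,
        classInner_irr_ne hχ (hirr φ hφ) (Ne.symm (hne hφ)),
        classInner_irr_ne hχ (hirr ψ hψ) (Ne.symm (hne hψ)),
        classInner_irr_ne (hirr ψ hψ) (hirr φ hφ) (Ne.symm h),
        classInner_irr_self (hirr ψ hψ)] at h1
      linear_combination h1
  -- project onto the images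
  have hinj : Set.InjOn e ↑S₀ := fun φ hφ φ' hφ' h => by
    by_contra hn
    have h1 := heip φ hφ φ' hφ'
    rw [← h, heip φ hφ φ hφ, if_pos rfl, if_neg hn] at h1
    exact one_ne_zero h1
  obtain ⟨b, w, hb, hwgen, hdec, -, hnorm⟩ := bessel_int (S₀.image e)
    (fun x hx y hy => by
      obtain ⟨φ, hφ, rfl⟩ := Finset.mem_image.mp hx
      obtain ⟨φ', hφ', rfl⟩ := Finset.mem_image.mp hy
      rw [heip φ hφ φ' hφ']
      exact if_congr ⟨fun h => h ▸ rfl, fun h => hinj hφ hφ' h⟩ rfl rfl)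
    (fun x hx => by
      obtain ⟨φ, hφ, rfl⟩ := Finset.mem_image.mp hx
      exact hegen φ hφ) hβgen
  rw [Finset.sum_image hinj] at hdec hnorm
  have hbc : ∀ φ ∈ S₀, (d ψ : ℂ) * (b (e φ) : ℂ) = (d φ : ℂ) * k - if φ = ψ then (d ψ : ℂ) * a else 0 :=
    fun φ hφ => by rw [← hb _ (Finset.mem_image_of_mem e hφ), hcoef φ hφ]
  set D : ℕ := ∑ ξ ∈ S₀, d ξ ^ 2 with hD
  have hsq : (d ψ : ℂ) ^ 2 * ∑ φ ∈ S₀, (b (e φ) : ℂ) * (b (e φ) : ℂ) =
      (k : ℂ) ^ 2 * D + ((d ψ : ℂ) ^ 2 * ((a : ℂ) ^ 2 - 2 * a * k)) := by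
    rw [Finset.mul_sum, Finset.sum_congr rfl (g := fun φ => (k : ℂ) ^ 2 * ((d φ : ℂ) ^ 2) +
      if φ = ψ then (d ψ : ℂ) ^ 2 * ((a : ℂ) ^ 2 - 2 * a * k) else 0) fun φ hφ => ?_,
      Finset.sum_add_distrib, ← Finset.mul_sum, Finset.sum_ite_eq' S₀ ψ, if_pos hψ, hD]
    · push_cast; ring
    · rw [show (d ψ : ℂ) ^ 2 * ((b (e φ) : ℂ) * (b (e φ) : ℂ)) =
        ((d ψ : ℂ) * (b (e φ) : ℂ)) ^ 2 by ring, hbc φ hφ]
      by_cases h : φ = ψ
      · subst h; rw [if_pos rfl, if_pos rfl]; ring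
      · rw [if_neg h, if_neg h]; ring
  have hββ : classInner β β = 1 + (a : ℂ) ^ 2 := by
    rw [hβ, hτ.2.2.1 _ hwmem _ hwmem, classInner_sub_left, classInner_sub_right,
      classInner_sub_right, classInner_smul_left, classInner_smul_left, classInner_smul_right,
      classInner_smul_right, Complex.conj_natCast, classInner_irr_self hχ,
      classInner_irr_self (hirr ψ hψ), classInner_irr_ne hχ (hirr ψ hψ) (Ne.symm (hne hψ)),
      classInner_irr_ne (hirr ψ hψ) hχ (hne hψ)]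
    ring
  obtain ⟨m, hm'⟩ := exists_nat_norm hwgen
  rw [hββ, hm'] at hnorm
  have hmain : (d ψ : ℤ) ^ 2 * (1 + (a : ℤ) ^ 2) =
      k ^ 2 * D + (d ψ : ℤ) ^ 2 * ((a : ℤ) ^ 2 - 2 * a * k) + (d ψ : ℤ) ^ 2 * m := by
    have : (((d ψ : ℤ) ^ 2 * (1 + (a : ℤ) ^ 2) : ℤ) : ℂ) =
        ((k ^ 2 * D + (d ψ : ℤ) ^ 2 * ((a : ℤ) ^ 2 - 2 * a * k) + (d ψ : ℤ) ^ 2 * m : ℤ) : ℂ) := by
      push_cast
      linear_combination (d ψ : ℂ) ^ 2 * hnorm + hsq
    exact_mod_cast this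
  have hlt' : 2 * (a : ℤ) * (d ψ : ℤ) ^ 2 < D := by
    have : ((2 * d ψ * d χ : ℕ) : ℤ) < (D : ℤ) := by exact_mod_cast hlt
    rw [ha] at this
    push_cast at this
    nlinarith
  have hψpos : (0 : ℤ) < d ψ := by exact_mod_cast hpos ψ (Finset.mem_insert_of_mem hψ)
  have hk0 : k = 0 := by
    by_cases hm0 : m = 0
    · exfalso
      rw [hm0, Nat.cast_zero] at hm'
      have hw0 : w = 0 := eq_zero_of_classInner_self hm'
      have h1 := congrFun hdec 1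
      rw [hβ, hτ1 _ hwmem, hw0, add_zero, Finset.sum_apply] at h1
      have h2 : (d ψ : ℂ) * ((d ψ : ℂ) * 0) =
          e ψ 1 * ((k : ℂ) * D - (d ψ : ℂ) * ((d ψ : ℂ) * a)) := by
        rw [h1, hD, Nat.cast_sum]
        simp only [Finset.mul_sum]
        rw [mul_sub, Finset.mul_sum, ← Finset.sum_ite_eq' S₀ ψ (fun φ => e ψ 1 * ((d φ : ℂ) *
          ((d ψ : ℂ) * a))) |>.trans (if_pos hψ), ← Finset.sum_sub_distrib]
        refine Finset.sum_congr rfl fun φ hφ => ?_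
        rw [Pi.smul_apply, smul_eq_mul, show (d ψ : ℂ) * ((d ψ : ℂ) * ((b (e φ) : ℂ) * e φ 1)) =
          ((d ψ : ℂ) * (b (e φ) : ℂ)) * ((d ψ : ℂ) * e φ 1) by ring, hbc φ hφ, hpos1 φ hφ]
        by_cases h : φ = ψ
        · subst h; rw [if_pos rfl, if_pos rfl]; push_cast; ring
        · rw [if_neg h, if_neg h]; push_cast; ring
      rw [mul_zero, mul_zero] at h2
      obtain ⟨s, μ, hs, hμ⟩ := exists_signed_irr_of_norm_one (hegen ψ hψ)
        (by rw [heip ψ hψ ψ hψ, if_pos rfl])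
      have hψ1 : e ψ 1 ≠ 0 := by
        rw [hμ, Pi.smul_apply, smul_eq_mul]
        refine mul_ne_zero ?_ μ.2.apply_one_ne_zero
        rcases hs with h | h <;> simp [h]
      have h3 : (k : ℂ) * D - (d ψ : ℂ) * ((d ψ : ℂ) * a) = 0 :=
        (mul_eq_zero.mp h2.symm).resolve_left hψ1
      have h4 : k * (D : ℤ) - (d ψ : ℤ) * ((d ψ : ℤ) * a) = 0 := by exact_mod_cast h3
      rw [hm0] at hmain
      push_cast at hmain
      have hk1 : 0 < k := by nlinarith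
      nlinarith
    · by_contra hk
      have hm1 : (1 : ℤ) ≤ m := by exact_mod_cast Nat.one_le_iff_ne_zero.mpr hm0
      have h1 : k ≤ k ^ 2 := Int.le_self_sq k
      have h2 : 0 < k ^ 2 := by positivity
      nlinarith [mul_le_mul_of_nonneg_left h1 (by positivity : (0 : ℤ) ≤ 2 * a * (d ψ : ℤ) ^ 2),
        mul_lt_mul_of_pos_left hlt' h2, mul_le_mul_of_nonneg_left hm1 (sq_nonneg (d ψ : ℤ))]
  subst hk0
  have hbe : ∀ φ ∈ S₀, classInner β (e φ) = if φ = ψ then -(a : ℂ) else 0 := by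
    intro φ hφ
    apply mul_left_cancel₀ hdψ
    rw [hcoef φ hφ, Int.cast_zero]
    split_ifs <;> ring
  have hXe : ∀ φ ∈ S₀, classInner (β + (a : ℂ) • e ψ) (e φ) = 0 := by
    intro φ hφ
    rw [classInner_add_left, classInner_smul_left, hbe φ hφ, heip ψ hψ φ hφ]
    by_cases h : φ = ψ
    · subst h; simp
    · simp [h, Ne.symm h]
  have hXX : classInner (β + (a : ℂ) • e ψ) (β + (a : ℂ) • e ψ) = 1 := by
    rw [classInner_add_right, classInner_smul_right, hXe ψ hψ, mul_zero, add_zero,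
      classInner_add_left, classInner_smul_left, hββ, ← classInner_conj_symm β (e ψ), hbe ψ hψ,
      if_pos rfl, map_neg, Complex.conj_natCast]
    ring
  have hXgen : IsGeneralizedCharacter G (β + (a : ℂ) • e ψ) :=
    hβgen.add (by simpa using (hegen ψ hψ).intCast_smul (a : ℤ))
  refine isCoherent_of_family (insert χ S₀) ?_ ?_
    (fun φ => if φ = χ then β + (a : ℂ) • e ψ else e φ) ?_ ?_ hτ hd
    (Finset.mem_insert_of_mem hψ) (hpos ψ (Finset.mem_insert_of_mem hψ)).ne'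
    ⟨χ, Finset.mem_insert_self _ _, Ne.symm (hne hψ)⟩ ?_
  · intro φ hφ φ' hφ' h
    have hi : ∀ φ ∈ insert χ S₀, IsIrrCharacter N φ := fun φ hφ => by
      rcases Finset.mem_insert.mp hφ with rfl | h
      exacts [hχ, hirr φ h]
    exact classInner_irr_ne (hi φ hφ) (hi φ' hφ') h
  · intro φ hφ
    rcases Finset.mem_insert.mp hφ with rfl | h
    · rw [classInner_irr_self hχ]; exact one_ne_zero
    · rw [classInner_irr_self (hirr φ h)]; exact one_ne_zero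
  · intro φ hφ
    rcases Finset.mem_insert.mp hφ with rfl | h
    · rw [if_pos rfl]; exact hXgen
    · rw [if_neg (hne h)]; exact hegen φ h
  · intro φ hφ φ' hφ'
    rcases Finset.mem_insert.mp hφ with rfl | h <;> rcases Finset.mem_insert.mp hφ' with rfl | h'
    · rw [if_pos rfl, hXX, classInner_irr_self hχ]
    · rw [if_pos rfl, if_neg (hne h'), hXe φ' h', classInner_irr_ne hχ (hirr φ' h') (Ne.symm (hne h'))]
    · rw [if_neg (hne h), if_pos rfl, classInner_symm_zero (hXe φ h),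
        classInner_irr_ne (hirr φ h) hχ (hne h)]
    · rw [if_neg (hne h), if_neg (hne h'), heip φ h φ' h', classInner_irr (hirr φ h) (hirr φ' h')]
  · intro φ hφ
    rcases Finset.mem_insert.mp hφ with rfl | h
    · rw [if_pos rfl, if_neg (hne hψ), ha, Nat.cast_mul, ← smul_smul, ← smul_smul, ← smul_sub,
        ← smul_sub, hτ.map_natCast_smul hwmem, ← hβ, add_sub_cancel_right]
    · rw [if_neg (hne h), if_neg (hne hψ), hpiv φ h]

end Cfsg.Agent.S1530
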