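import Cfsg.Statements.S1531
import Cfsg.Agent.Lib.Char.SignedIrr
import Cfsg.Agent.Lib.Char.Coherence

set_option autoImplicit false
open Cfsg Cfsg.Lib.Char
open scoped ComplexConjugate

namespace Cfsg.Agent.S1531

/-- Let N be a subgroup of the finite group G, S a set of irreducible characters of N, and α a linear isometry on the integer combinations of S vanishing at 1 with values virtual characters of G vanishing at 1. Let X, Y ⊆ S be disjoint, each with at least two members, and σ, τ linear isometries on ℤ[X], ℤ[Y] into virtual characters agreeing with α on the members vanishing at 1. Then ⟨σ χ, τ η⟩ = 0 for χ ∈ X, η ∈ Y; and if for some χ₀ ∈ X, η₀ ∈ Y with degrees c = χ₀ 1, e = η₀ 1 one has α (c • η₀ − e • χ₀) = c • τ η₀ − e • σ χ₀, then (X ∪ Y, N minus 1, α) is coherent. -/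
theorem result {G : Type*} [Group G] [Fintype G] (N : Subgroup G) [Fintype N] (S X Y : Set (N → ℂ)) (hirr : ∀ ξ ∈ S, Cfsg.IsIrrCharacter N ξ) (hXS : X ⊆ S) (hYS : Y ⊆ S) (hXY : Disjoint X Y) (hX2 : ∃ a ∈ X, ∃ b ∈ X, a ≠ b) (hY2 : ∃ a ∈ Y, ∃ b ∈ Y, a ≠ b) (α : (N → ℂ) → (G → ℂ)) (hα : Cfsg.IsLinearIsometryOn (Cfsg.zspanOn S {1}ᶜ) α) (hα1 : ∀ θ ∈ Cfsg.zspanOn S {1}ᶜ, α θ 1 = 0) (σ τ : (N → ℂ) → (G → ℂ)) (hσ : Cfsg.IsLinearIsometryOn (Cfsg.zspan X) σ) (hσα : ∀ θ ∈ Cfsg.zspanOn X {1}ᶜ, σ θ = α θ) (hτ : Cfsg.IsLinearIsometryOn (Cfsg.zspan Y) τ) (hτα : ∀ θ ∈ Cfsg.zspanOn Y {1}ᶜ, τ θ = α θ) : (∀ χ ∈ X, ∀ η ∈ Y, Cfsg.classInner (σ χ) (τ η) = 0) ∧ ((∃ χ₀ ∈ X, ∃ η₀ ∈ Y, α (χ₀ 1 • η₀ - η₀ 1 • χ₀) = χ₀ 1 • τ η₀ - η₀ 1 • σ χ₀) → Cfsg.IsCoherent (X ∪ Y) {1}ᶜ α) := by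
  classical
  have hdeg : ∀ ξ : N → ℂ, ∃ n : ℕ, ξ ∈ S → n ≠ 0 ∧ ξ 1 = (n : ℂ) := fun ξ => by
    by_cases hξ : ξ ∈ S
    · obtain ⟨n, hn0, hn⟩ := (hirr ξ hξ).exists_degree
      exact ⟨n, fun _ => ⟨by omega, hn⟩⟩
    · exact ⟨0, fun h => absurd h hξ⟩
  choose d hd using hdeg
  have hd1 : ∀ ξ ∈ S, ξ 1 = (d ξ : ℂ) := fun ξ h => (hd ξ h).2
  -- pivot elements of either set
  have piv : ∀ (Z : Set (N → ℂ)) (ρ : (N → ℂ) → G → ℂ), Z ⊆ S → IsLinearIsometryOn (zspan Z) ρ →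
      (∀ θ ∈ zspanOn Z {1}ᶜ, ρ θ = α θ) → ∀ a ∈ Z, ∀ b ∈ Z,
      α ((d b : ℂ) • a - (d a : ℂ) • b) = (d b : ℂ) • ρ a - (d a : ℂ) • ρ b := by
    intro Z ρ hZ hρ hρα a ha b hb
    rw [← hρα _ (pivot_mem ha hb (hd1 a (hZ ha)) (hd1 b (hZ hb))),
      hρ.map_sub' (zspan_natCast_smul (mem_zspan_self ha) _)
        (zspan_natCast_smul (mem_zspan_self hb) _)
        (zspan_zsmul (zspan_natCast_smul (mem_zspan_self hb) _) _),
      hρ.map_natCast_smul (mem_zspan_self ha), hρ.map_natCast_smul (mem_zspan_self hb)]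
  have hcross : ∀ χ ∈ X, ∀ η ∈ Y, classInner (σ χ) (τ η) = 0 := by
    intro χ hχ η hη
    obtain ⟨χ', hχ', hne⟩ : ∃ χ' ∈ X, χ ≠ χ' := by
      obtain ⟨a, ha, b, hb, hab⟩ := hX2
      by_cases h : χ = a
      exacts [⟨b, hb, h ▸ hab⟩, ⟨a, ha, h⟩]
    obtain ⟨η', hη', hne'⟩ : ∃ η' ∈ Y, η ≠ η' := by
      obtain ⟨a, ha, b, hb, hab⟩ := hY2
      by_cases h : η = a
      exacts [⟨b, hb, h ▸ hab⟩, ⟨a, ha, h⟩]
    have n1 : ∀ ξ ∈ X, classInner (σ ξ) (σ ξ) = 1 := fun ξ h => by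
      rw [hσ.2.2.1 _ (mem_zspan_self h) _ (mem_zspan_self h), classInner_irr_self (hirr ξ (hXS h))]
    have n2 : ∀ ξ ∈ Y, classInner (τ ξ) (τ ξ) = 1 := fun ξ h => by
      rw [hτ.2.2.1 _ (mem_zspan_self h) _ (mem_zspan_self h), classInner_irr_self (hirr ξ (hYS h))]
    obtain ⟨p, μ, hμ, hp, ep⟩ :=
      exists_real_mul_irr_of_norm_one (hσ.2.2.2 _ (mem_zspan_self hχ)) (n1 χ hχ)
    obtain ⟨q, ν, hν, hq, eq⟩ :=
      exists_real_mul_irr_of_norm_one (hσ.2.2.2 _ (mem_zspan_self hχ')) (n1 χ' hχ')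
    obtain ⟨u, γ, hγ, hu, eu⟩ :=
      exists_real_mul_irr_of_norm_one (hτ.2.2.2 _ (mem_zspan_self hη)) (n2 η hη)
    obtain ⟨v, δ, hδ, hv, ev⟩ :=
      exists_real_mul_irr_of_norm_one (hτ.2.2.2 _ (mem_zspan_self hη')) (n2 η' hη')
    have hμν : μ ≠ ν := ne_of_classInner_real_mul hμ hp hq (by
      rw [← ep, ← eq, hσ.2.2.1 _ (mem_zspan_self hχ) _ (mem_zspan_self hχ'),
        classInner_irr_ne (hirr χ (hXS hχ)) (hirr χ' (hXS hχ')) hne])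
    have hγδ : γ ≠ δ := ne_of_classInner_real_mul hγ hu hv (by
      rw [← eu, ← ev, hτ.2.2.1 _ (mem_zspan_self hη) _ (mem_zspan_self hη'),
        classInner_irr_ne (hirr η (hYS hη)) (hirr η' (hYS hη')) hne'])
    have m1 := pivot_mem (d := d) (hXS hχ) (hXS hχ') (hd1 χ (hXS hχ)) (hd1 χ' (hXS hχ'))
    have m2 := pivot_mem (d := d) (hYS hη) (hYS hη') (hd1 η (hYS hη)) (hd1 η' (hYS hη'))
    have h1 := piv X σ hXS hσ hσα χ hχ χ' hχ'
    have h2 := piv Y τ hYS hτ hτα η hη η' hη'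
    have h0 := hα.2.2.1 _ m1 _ m2
    rw [h1, h2] at h0
    have hnXY : ∀ a ∈ X, ∀ b ∈ Y, classInner a b = 0 := fun a ha b hb =>
      classInner_irr_ne (hirr a (hXS ha)) (hirr b (hYS hb))
        fun h => Set.disjoint_left.mp hXY ha (h ▸ hb)
    simp only [classInner_sub_left (G := N), classInner_sub_right (G := N),
      classInner_smul_left (G := N), classInner_smul_right (G := N), hnXY χ hχ η hη,
      hnXY χ hχ η' hη', hnXY χ' hχ' η hη, hnXY χ' hχ' η' hη', mul_zero, sub_zero, ep, eq, eu, ev,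
      smul_smul] at h0
    have e1 := hα1 _ m1
    have e2 := hα1 _ m2
    rw [h1, ep, eq, smul_smul, smul_smul, Pi.sub_apply, Pi.smul_apply, Pi.smul_apply,
      sub_eq_zero, smul_eq_mul, smul_eq_mul] at e1
    rw [h2, eu, ev, smul_smul, smul_smul, Pi.sub_apply, Pi.smul_apply, Pi.smul_apply,
      sub_eq_zero, smul_eq_mul, smul_eq_mul] at e2
    have hc : ∀ ξ ∈ S, (d ξ : ℝ) ≠ 0 := fun ξ h => Nat.cast_ne_zero.mpr (hd ξ h).1
    obtain ⟨hd', -, -, -⟩ := irr_pairs_disjoint hμ hν hγ hδ hμν hγδ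
      (mul_ne_zero (hc χ' (hXS hχ')) hp) (mul_ne_zero (hc χ (hXS hχ)) hq)
      (mul_ne_zero (hc η' (hYS hη')) hu) (mul_ne_zero (hc η (hYS hη)) hv)
      (by push_cast; exact e1) (by push_cast; exact e2) (by push_cast; exact h0)
    rw [ep, eu]
    exact classInner_real_mul_irr_eq_zero hμ hγ _ _ hd'
  refine ⟨hcross, ?_⟩
  rintro ⟨χ₀, hχ₀, η₀, hη₀, hlink⟩
  rw [hd1 χ₀ (hXS hχ₀), hd1 η₀ (hYS hη₀)] at hlink
  have hSXY : X ∪ Y ⊆ S := Set.union_subset hXS hYS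
  have horth : ∀ a ∈ X ∪ Y, ∀ b ∈ X ∪ Y, a ≠ b → classInner a b = 0 := fun a ha b hb h =>
    classInner_irr_ne (hirr a (hSXY ha)) (hirr b (hSXY hb)) h
  have hnz : ∀ a ∈ X ∪ Y, classInner a a ≠ 0 := fun a ha => by
    rw [classInner_irr_self (hirr a (hSXY ha))]; exact one_ne_zero
  have hfin := finite_of_orthogonal horth hnz
  rw [← hfin.coe_toFinset]
  have hmem : ∀ {a}, a ∈ hfin.toFinset → a ∈ X ∪ Y := fun h => hfin.mem_toFinset.mp h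
  have hnX : ∀ {b}, b ∈ Y → b ∉ X := fun hb hb' => Set.disjoint_left.mp hXY hb' hb
  refine isCoherent_of_family hfin.toFinset (fun a ha b hb => horth a (hmem ha) b (hmem hb))
    (fun a ha => hnz a (hmem ha)) (fun a => if a ∈ X then σ a else τ a) ?_ ?_
    (hα.mono (zspanOn_mono (fun a ha => hSXY (hmem ha)) _))
    (fun a ha => hd1 a (hSXY (hmem ha))) (hfin.mem_toFinset.mpr (Or.inl hχ₀)) (hd χ₀ (hXS hχ₀)).1
    ⟨η₀, hfin.mem_toFinset.mpr (Or.inr hη₀), fun h => hnX hη₀ (h ▸ hχ₀)⟩ ?_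
  · intro a ha
    rcases hmem ha with h | h
    · rw [if_pos h]; exact hσ.2.2.2 _ (mem_zspan_self h)
    · rw [if_neg (hnX h)]; exact hτ.2.2.2 _ (mem_zspan_self h)
  · intro a ha b hb
    rcases hmem ha with h | h <;> rcases hmem hb with h' | h'
    · rw [if_pos h, if_pos h', hσ.2.2.1 _ (mem_zspan_self h) _ (mem_zspan_self h')]
    · rw [if_pos h, if_neg (hnX h'), hcross a h b h',
        horth a (Or.inl h) b (Or.inr h') fun e => hnX h' (e ▸ h)]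
    · rw [if_neg (hnX h), if_pos h', classInner_symm_zero (hcross b h' a h),
        horth a (Or.inr h) b (Or.inl h') fun e => hnX h (e ▸ h')]
    · rw [if_neg (hnX h), if_neg (hnX h'), hτ.2.2.1 _ (mem_zspan_self h) _ (mem_zspan_self h')]
  · intro φ hφ
    rw [if_pos hχ₀]
    rcases hmem hφ with h | h
    · rw [if_pos h]
      exact piv X σ hXS hσ hσα φ h χ₀ hχ₀
    · rw [if_neg (hnX h)]
      have m1 := pivot_mem (d := d) (hYS h) (hXS hχ₀) (hd1 φ (hYS h)) (hd1 χ₀ (hXS hχ₀))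
      have m2 := pivot_mem (d := d) (hYS h) (hYS hη₀) (hd1 φ (hYS h)) (hd1 η₀ (hYS hη₀))
      have m3 := pivot_mem (d := d) (hYS hη₀) (hXS hχ₀) (hd1 η₀ (hYS hη₀)) (hd1 χ₀ (hXS hχ₀))
      have hsmul : ∀ {θ}, θ ∈ zspanOn S ({1}ᶜ : Set N) → ∀ n : ℕ,
          (n : ℂ) • θ ∈ zspanOn S ({1}ᶜ : Set N) := fun hθ n => by
        rw [← Int.cast_natCast, Int.cast_smul_eq_zsmul]
        exact zspanOn_zsmul hθ _
      have e : (d η₀ : ℂ) • ((d χ₀ : ℂ) • φ - (d φ : ℂ) • χ₀) =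
          (d χ₀ : ℂ) • ((d η₀ : ℂ) • φ - (d φ : ℂ) • η₀) +
            (d φ : ℂ) • ((d χ₀ : ℂ) • η₀ - (d η₀ : ℂ) • χ₀) := by
        module
      have h' := congrArg α e
      rw [hα.map_natCast_smul m1, hα.1 _ (hsmul m2 _) _ (hsmul m3 _), hα.map_natCast_smul m2,
        hα.map_natCast_smul m3, piv Y τ hYS hτ hτα φ h η₀ hη₀, hlink] at h'
      apply smul_right_injective (G → ℂ) (Nat.cast_ne_zero.mpr (hd η₀ (hYS hη₀)).1 : (d η₀ : ℂ) ≠ 0)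
      beta_reduce
      rw [h']
      module

end Cfsg.Agent.S1531
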