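import Cfsg.Statements.S1532
import Cfsg.Agent.Lib.Char.CoherenceSibley

set_option autoImplicit false
open Cfsg Cfsg.Lib.Char
open scoped commutatorElement

namespace Cfsg.Agent.S1532

/-- Let G be a finite group, p an odd prime and P a Sylow p-subgroup that is non-abelian, whose underlying set is a TI-subset of G, with P properly contained in its set normaliser N and C_G(x) ≤ P for every non-identity x ∈ P. Let Z be a nontrivial subgroup of the centre of P normalised by N. Then the set of irreducible characters χ of N with χ z ≠ χ 1 for some z ∈ Z is coherent for the map induced by induction from N to G. -/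
theorem result {G : Type*} [Group G] [Fintype G] (p : ℕ) [Fact p.Prime] (hp : p ≠ 2) (P : Sylow p G) (hna : ¬ IsMulCommutative (P : Subgroup G)) (hTI : Cfsg.IsTISubset ((P : Subgroup G) : Set G)) (hlt : (P : Subgroup G) < Subgroup.normalizer ((P : Subgroup G) : Set G)) (hC : ∀ k ∈ (P : Subgroup G), k ≠ 1 → Subgroup.centralizer ({k} : Set G) ≤ (P : Subgroup G)) [Fintype ↥(Subgroup.normalizer ((P : Subgroup G) : Set G))] (Z : Subgroup G) (hZ1 : Z ≠ ⊥) (hZP : ∀ z ∈ Z, z ∈ (P : Subgroup G) ∧ ∀ y ∈ (P : Subgroup G), z * y = y * z) (hZn : ∀ x ∈ Subgroup.normalizer ((P : Subgroup G) : Set G), ∀ z ∈ Z, x * z * x⁻¹ ∈ Z) : Cfsg.IsCoherent {χ : ↥(Subgroup.normalizer ((P : Subgroup G) : Set G)) → ℂ | Cfsg.IsIrrCharacter ↥(Subgroup.normalizer ((P : Subgroup G) : Set G)) χ ∧ ∃ z : ↥(Subgroup.normalizer ((P : Subgroup G) : Set G)), (z : G) ∈ Z ∧ χ z ≠ χ 1} {1}ᶜ (fun α => Cfsg.indFun (Subgroup.normalizer ((P : Subgroup G) : Set G)) α) := by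
  classical
  haveI hKn : ((P : Subgroup G).subgroupOf (Subgroup.normalizer ((P : Subgroup G) : Set G))).Normal :=
    Subgroup.normal_in_normalizer
  have hpP : IsPGroup p (P : Subgroup G) := P.2
  have hC' := fun k hk hk1 => (inf_le_right : Subgroup.normalizer ((P : Subgroup G) : Set G) ⊓
    Subgroup.centralizer ({k} : Set G) ≤ _).trans (hC k hk hk1)
  have hne2 : ∀ m : ℕ, Nat.card (P : Subgroup G) = 2 ^ m → (P : Subgroup G) = ⊥ := by
    intro m hm
    obtain ⟨i, hi⟩ := IsPGroup.iff_card.1 hpP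
    rcases i with _ | i
    · exact Subgroup.eq_bot_of_card_eq _ (by simpa using hi)
    · have hd : p ∣ 2 ^ m := by rw [← hm, hi]; exact dvd_pow_self p i.succ_ne_zero
      exact absurd ((Nat.prime_dvd_prime_iff_eq Fact.out Nat.prime_two).1 ((Fact.out : p.Prime).dvd_of_dvd_pow hd)) hp
  have hab : ¬ ∀ a ∈ (P : Subgroup G), ∀ b ∈ (P : Subgroup G), a * b = b * a := fun h =>
    hna ⟨⟨fun a b => Subtype.ext (h a a.2 b b.2)⟩⟩
  have hP1 : (P : Subgroup G) ≠ ⊥ := fun h => hab fun a ha b hb => by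
    rw [h, Subgroup.mem_bot] at ha hb; rw [ha, hb]
  have hcoh : IsCoherent (irrNontrivialOn ((P : Subgroup G).subgroupOf _)) {1}ᶜ
      (fun α => indFun (Subgroup.normalizer ((P : Subgroup G) : Set G)) α) := by
    rcases coherence_TI_kernel _ _ hP1 hlt rfl hTI hC' with h | ⟨h, -⟩ | ⟨-, -, -, ⟨m, hm⟩, -, -⟩
    exacts [h, absurd h hab, absurd (hne2 m hm) hP1]
  obtain ⟨z, hz, hz1⟩ := (Subgroup.bot_or_exists_ne_one Z).resolve_left hZ1
  let z' : ↥(Subgroup.normalizer ((P : Subgroup G) : Set G)) := ⟨z, Subgroup.le_normalizer (hZP z hz).1⟩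
  obtain ⟨χ, hχ⟩ : ∃ χ : IrrCharacter ↥(Subgroup.normalizer ((P : Subgroup G) : Set G)), (χ : ↥(Subgroup.normalizer ((P : Subgroup G) : Set G)) → ℂ) z' ≠ (χ : ↥(Subgroup.normalizer ((P : Subgroup G) : Set G)) → ℂ) 1 := by
    by_contra hcon
    push Not at hcon
    exact hz1 (congrArg Subtype.val (isConj_one_left.1 ((isConj_iff_forall_irr z' 1).2 hcon)))
  have hsub : {χ : ↥(Subgroup.normalizer ((P : Subgroup G) : Set G)) → ℂ | IsIrrCharacter ↥(Subgroup.normalizer ((P : Subgroup G) : Set G)) χ ∧ ∃ z : ↥(Subgroup.normalizer ((P : Subgroup G) : Set G)), (z : G) ∈ Z ∧ χ z ≠ χ 1} ⊆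
      irrNontrivialOn ((P : Subgroup G).subgroupOf (Subgroup.normalizer ((P : Subgroup G) : Set G))) :=
    fun χ ⟨h, z, hz, hne⟩ => ⟨h, z, (hZP _ hz).1, hne⟩
  have hoddN : Odd (Nat.card ↥(Subgroup.normalizer ((P : Subgroup G) : Set G))) := by
    rw [← ((P : Subgroup G).subgroupOf (Subgroup.normalizer ((P : Subgroup G) : Set G))).card_mul_index, Nat.odd_mul]
    refine ⟨?_, Nat.not_even_iff_odd.1 fun he => hab fun a ha b hb => ?_⟩
    · obtain ⟨i, hi⟩ := IsPGroup.iff_card.1 hpP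
      rw [Nat.card_congr (Subgroup.subgroupOfEquivOfLe Subgroup.le_normalizer).toEquiv, hi]
      exact ((Fact.out : p.Prime).odd_of_ne_two hp).pow
    · exact congrArg Subtype.val (frobKernel_comm_of_even (H := (P : Subgroup G).subgroupOf (Subgroup.normalizer ((P : Subgroup G) : Set G)))
        (fun h hh h1 x hx => hC h hh (fun e => h1 (Subtype.ext e)) (Subgroup.mem_centralizer_singleton_iff.2
          (congrArg Subtype.val (Subgroup.mem_centralizer_singleton_iff.1 hx))))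
        he ⟨a, Subgroup.le_normalizer ha⟩ ha ⟨b, Subgroup.le_normalizer hb⟩ hb)
  refine coherent_subset (fun χ h => h.1) hsub ⟨χ, ⟨χ.2, z', hz, hχ⟩, conjFun (χ : ↥(Subgroup.normalizer ((P : Subgroup G) : Set G)) → ℂ),
    ⟨isIrrCharacter_conjFn χ.2, z', hz, fun e => hχ (RingHom.injective (starRingEnd ℂ) e)⟩,
    (irrNontrivialOn_conjFun_ne hoddN (hsub ⟨χ.2, z', hz, hχ⟩)).symm⟩ hcoh

end Cfsg.Agent.S1532
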