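import Cfsg.Statements.S1533
import Cfsg.Agent.Lib.Char.CoherenceSibley

set_option autoImplicit false
open Cfsg Cfsg.Lib.Char
open scoped commutatorElement

namespace Cfsg.Agent.S1533

/-- Let G be a finite group, p an odd prime, and P a nontrivial Sylow p-subgroup whose underlying set is a TI-subset of G, with P properly contained in its set normaliser N and C_G(x) ≤ P for every non-identity x ∈ P. Let S be the set of irreducible characters χ of N with χ x ≠ χ 1 for some x ∈ P. Then either S has exactly one member, P is elementary abelian and Nat.card P = [N:P] + 1; or (S, N minus 1, induction to G) is coherent. -/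
theorem result {G : Type*} [Group G] [Fintype G] (p : ℕ) [Fact p.Prime] (hp : p ≠ 2) (P : Sylow p G) (hP1 : (P : Subgroup G) ≠ ⊥) (hTI : Cfsg.IsTISubset ((P : Subgroup G) : Set G)) (hlt : (P : Subgroup G) < Subgroup.normalizer ((P : Subgroup G) : Set G)) (hC : ∀ k ∈ (P : Subgroup G), k ≠ 1 → Subgroup.centralizer ({k} : Set G) ≤ (P : Subgroup G)) [Fintype ↥(Subgroup.normalizer ((P : Subgroup G) : Set G))] : (Nat.card {χ : ↥(Subgroup.normalizer ((P : Subgroup G) : Set G)) → ℂ // Cfsg.IsIrrCharacter ↥(Subgroup.normalizer ((P : Subgroup G) : Set G)) χ ∧ ∃ x : ↥(Subgroup.normalizer ((P : Subgroup G) : Set G)), (x : G) ∈ (P : Subgroup G) ∧ χ x ≠ χ 1} = 1 ∧ Cfsg.IsElementaryAbelian p (P : Subgroup G) ∧ Nat.card (P : Subgroup G) = ((P : Subgroup G).subgroupOf (Subgroup.normalizer ((P : Subgroup G) : Set G))).index + 1) ∨ Cfsg.IsCoherent {χ : ↥(Subgroup.normalizer ((P : Subgroup G) : Set G)) → ℂ | Cfsg.IsIrrCharacter ↥(Subgroup.normalizer ((P : Subgroup G) : Set G)) χ ∧ ∃ x : ↥(Subgroup.normalizer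 ((P : Subgroup G) : Set G)), (x : G) ∈ (P : Subgroup G) ∧ χ x ≠ χ 1} {1}ᶜ (fun α => Cfsg.indFun (Subgroup.normalizer ((P : Subgroup G) : Set G)) α) := by
  classical
  haveI hKn : ((P : Subgroup G).subgroupOf (Subgroup.normalizer ((P : Subgroup G) : Set G))).Normal :=
    Subgroup.normal_in_normalizer
  have hpP : IsPGroup p (P : Subgroup G) := P.2
  have hC' := fun k hk hk1 => (inf_le_right : Subgroup.normalizer ((P : Subgroup G) : Set G) ⊓
    Subgroup.centralizer ({k} : Set G) ≤ _).trans (hC k hk hk1)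
  have hne2 : ∀ m : ℕ, Nat.card (P : Subgroup G) = 2 ^ m → (P : Subgroup G) = ⊥ := by
    intro m hm
    obtain ⟨i, hi⟩ := IsPGroup.iff_card.1 hpP
    rcases i with _ | i
    · exact Subgroup.eq_bot_of_card_eq _ (by simpa using hi)
    · have hd : p ∣ 2 ^ m := by rw [← hm, hi]; exact dvd_pow_self p i.succ_ne_zero
      exact absurd ((Nat.prime_dvd_prime_iff_eq Fact.out Nat.prime_two).1 ((Fact.out : p.Prime).dvd_of_dvd_pow hd)) hp
  rcases coherence_TI_kernel _ _ hP1 hlt rfl hTI hC' with h | ⟨hab, hcard⟩ | ⟨-, -, -, ⟨m, hm⟩, -, -⟩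
  · exact Or.inr h
  · left
    obtain ⟨h1, h2⟩ := exceptional_small_kernel
      (K := (P : Subgroup G).subgroupOf (Subgroup.normalizer (((P : Subgroup G) : Set G))))
      (fun h => hP1 (Subgroup.eq_bot_of_card_eq _ (by
        rw [← Nat.card_congr (Subgroup.subgroupOfEquivOfLe Subgroup.le_normalizer).toEquiv, h, Subgroup.card_bot])))
      (fun h hh h1 x hx => hC h hh (fun e => h1 (Subtype.ext e)) (Subgroup.mem_centralizer_singleton_iff.2
        (congrArg Subtype.val (Subgroup.mem_centralizer_singleton_iff.1 hx))))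
      (by rw [Nat.card_congr (Subgroup.subgroupOfEquivOfLe Subgroup.le_normalizer).toEquiv]; exact hcard)
      (fun a ha b hb => Subtype.ext (hab a ha b hb))
    refine ⟨h1, ⟨⟨⟨fun a b => Subtype.ext (hab a a.2 b b.2)⟩⟩, fun a ha => ?_⟩, hcard⟩
    have hpd : p ∣ Nat.card (P : Subgroup G) := by
      obtain ⟨i, hi⟩ := IsPGroup.iff_card.1 hpP
      rw [hi]
      refine dvd_pow_self p fun h => hP1 (Subgroup.eq_bot_of_card_eq _ ?_)
      rw [hi, h, pow_zero]
    exact congrArg Subtype.val (h2 p Fact.out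
      (by rw [Nat.card_congr (Subgroup.subgroupOfEquivOfLe Subgroup.le_normalizer).toEquiv]; exact hpd)
      ⟨a, Subgroup.le_normalizer ha⟩ ha)
  · exact absurd (hne2 m hm) hP1

end Cfsg.Agent.S1533
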