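import Cfsg.Statements.S1534
import Cfsg.Agent.Lib.Char.CoherenceSibley

set_option autoImplicit false
open Cfsg Cfsg.Lib.Char
open scoped commutatorElement

namespace Cfsg.Agent.S1534

/-- Let G be a finite group and K a nontrivial nilpotent subgroup whose underlying set is a TI-subset of G, properly contained in its set normaliser N, with C_G(k) ≤ K for every non-identity k ∈ K; let e be the index of K in N and S the set of irreducible characters χ of N with χ k ≠ χ 1 for some k ∈ K. Then one of: S has exactly one member, Nat.card K = e + 1 and K is an elementary abelian p-group for some prime p; or K is a Sylow 2-subgroup of G (Nat.card K is the largest power of 2 dividing Nat.card G) and [K : [K,K]] < 4e²; or (S, N minus 1, induction to G) is coherent. -/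
theorem result {G : Type*} [Group G] [Fintype G] (K : Subgroup G) (hK1 : K ≠ ⊥) (hnil : Group.IsNilpotent K) (hTI : Cfsg.IsTISubset (K : Set G)) (hlt : K < Subgroup.normalizer (K : Set G)) (hC : ∀ k ∈ K, k ≠ 1 → Subgroup.centralizer ({k} : Set G) ≤ K) [Fintype ↥(Subgroup.normalizer (K : Set G))] : (Nat.card {χ : ↥(Subgroup.normalizer (K : Set G)) → ℂ // Cfsg.IsIrrCharacter ↥(Subgroup.normalizer (K : Set G)) χ ∧ ∃ k : ↥(Subgroup.normalizer (K : Set G)), (k : G) ∈ K ∧ χ k ≠ χ 1} = 1 ∧ Nat.card K = (K.subgroupOf (Subgroup.normalizer (K : Set G))).index + 1 ∧ ∃ p : ℕ, p.Prime ∧ Cfsg.IsElementaryAbelian p K) ∨ (Nat.card K = 2 ^ (Nat.card G).factorization 2 ∧ (⁅K, K⁆.subgroupOf K).index < 4 * (K.subgroupOf (Subgroup.normalizer (K : Set G))).index ^ 2) ∨ Cfsg.IsCoherent {χ : ↥(Subgroup.normalizer (K : Set G)) → ℂ | Cfsg.IsIrrCharacter ↥(Subgroup.normalizer (K : Set G)) χ ∧ ∃ k : ↥(Subgroup.normalizer (K : Set G)), (k : G) ∈ K ∧ χ k ≠ χ 1} {1}ᶜ (fun α => Cfsg.indFun (Subgroup.normalizer (K : Set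 G)) α) := by
  classical
  haveI hKn : (K.subgroupOf (Subgroup.normalizer (K : Set G))).Normal := Subgroup.normal_in_normalizer
  rcases coherence_TI_kernel K _ hK1 hlt rfl hTI (fun k hk hk1 => inf_le_right.trans (hC k hk hk1)) with
    h | ⟨hab, hcard⟩ | ⟨hab, heodd, he3, ⟨m, hm⟩, ⟨P, hP⟩, hq⟩
  · exact Or.inr (Or.inr h)
  · left
    obtain ⟨h1, h2⟩ := exceptional_small_kernel
      (K := K.subgroupOf (Subgroup.normalizer ((K : Set G))))
      (fun h => hK1 (Subgroup.eq_bot_of_card_eq _ (by
        rw [← Nat.card_congr (Subgroup.subgroupOfEquivOfLe Subgroup.le_normalizer).toEquiv, h, Subgroup.card_bot])))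
      (fun h hh h1 x hx => hC h hh (fun e => h1 (Subtype.ext e)) (Subgroup.mem_centralizer_singleton_iff.2
        (congrArg Subtype.val (Subgroup.mem_centralizer_singleton_iff.1 hx))))
      (by rw [Nat.card_congr (Subgroup.subgroupOfEquivOfLe Subgroup.le_normalizer).toEquiv]; exact hcard)
      (fun a ha b hb => Subtype.ext (hab a ha b hb))
    obtain ⟨p, hp, hpd⟩ := Nat.exists_prime_and_dvd
      (show Nat.card K ≠ 1 from fun h => hK1 (Subgroup.eq_bot_of_card_eq K h))
    refine ⟨h1, hcard, p, hp, ⟨⟨fun a b => Subtype.ext (hab a a.2 b b.2)⟩⟩, fun a ha => ?_⟩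
    exact congrArg Subtype.val (h2 p hp
      (by rw [Nat.card_congr (Subgroup.subgroupOfEquivOfLe Subgroup.le_normalizer).toEquiv]; exact hpd)
      ⟨a, Subgroup.le_normalizer ha⟩ ha)
  · refine Or.inr (Or.inl ⟨by rw [← hP]; exact P.card_eq_multiplicity, lt_of_le_of_ne ?_ ?_⟩)
    · generalize hE : (K.subgroupOf (Subgroup.normalizer (K : Set G))).index = e at *
      obtain ⟨j, -, hj⟩ := (Nat.dvd_prime_pow Nat.prime_two).1
        (hm ▸ (⁅K, K⁆.subgroupOf K).index_dvd_card)
      rw [hj] at hq ⊢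
      rcases j with _ | j
      · simp only [pow_zero]; nlinarith
      · rcases Nat.lt_or_eq_of_le hq with h | h
        · omega
        · rw [pow_succ] at h; omega
    · intro hE
      obtain ⟨j, -, hj⟩ := (Nat.dvd_prime_pow Nat.prime_two).1
        (hm ▸ (⁅K, K⁆.subgroupOf K).index_dvd_card)
      rw [hE] at hj
      have hd : (K.subgroupOf (Subgroup.normalizer (K : Set G))).index ∣ 2 ^ j := by
        rw [← hj]; exact Dvd.dvd.mul_left (dvd_pow_self _ two_ne_zero) 4
      obtain ⟨i, -, hi⟩ := (Nat.dvd_prime_pow Nat.prime_two).1 hd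
      rw [hi] at heodd he3
      rcases i with _ | i
      · simp at he3
      · rw [pow_succ, Nat.odd_mul] at heodd
        exact absurd heodd.2 (by decide)

end Cfsg.Agent.S1534
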