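import Cfsg.Statements.S1536
import Cfsg.Agent.Lib.Char.FixedChar
import Cfsg.Agent.Lib.Coprime.Conjugacy
-- import your own Cfsg.Agent.* helpers here

set_option autoImplicit false
open Cfsg

namespace Cfsg.Agent.S1536

set_option linter.style.haveILetI false
open Cfsg Cfsg.Lib.Char


/-- Let H be a normal subgroup of the finite group M whose order is coprime to its index. For x ∈ M: some non-principal irreducible character of H is unchanged under h ↦ θ(x h x⁻¹) if and only if some non-identity element of H commutes with x. -/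
theorem result {M : Type*} [Group M] [Finite M] (H : Subgroup M) [hN : H.Normal] (hHall : Nat.Coprime (Nat.card H) H.index) (x : M) : (∃ θ : H → ℂ, Cfsg.IsIrrCharacter H θ ∧ θ ≠ (fun _ => 1) ∧ (fun h : H => θ ⟨x * h * x⁻¹, hN.conj_mem h h.2 x⟩) = θ) ↔ ∃ h ∈ H, h ≠ 1 ∧ x * h = h * x := by
  refine (exists_fixed_irr_iff H x).trans ?_
  constructor
  · rintro ⟨h, hh, m, hm⟩
    have hmem : ∀ z : M, z ^ Nat.card H = 1 → z ∈ H := by
      intro z hz
      rw [← QuotientGroup.eq_one_iff, ← orderOf_eq_one_iff]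
      refine Nat.eq_one_of_dvd_coprimes hHall ?_ ?_
      · exact orderOf_dvd_of_pow_eq_one (by rw [← QuotientGroup.mk_pow, hz, QuotientGroup.mk_one])
      · rw [Subgroup.index_eq_card]; exact orderOf_dvd_natCard _
    by_cases hco : (orderOf x).Coprime (Nat.card H)
    · have hHx : H ⊓ Subgroup.zpowers x = ⊥ :=
        (Cfsg.Lib.Coprime.disjoint_of_coprime_card (by rw [Nat.card_zpowers]; exact hco.symm)).eq_bot
      obtain ⟨k, hk1, hk0⟩ := Nat.chineseRemainder hco 1 0
      set y := (m : M)⁻¹ * x with hy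
      have hyh : Commute y (h : M) := by
        show (m : M)⁻¹ * x * h = h * ((m : M)⁻¹ * x)
        calc (m : M)⁻¹ * x * h = (m : M)⁻¹ * (x * h * x⁻¹) * x := by group
          _ = (m : M)⁻¹ * ((m : M) * h * (m : M)⁻¹) * x := by rw [hm]
          _ = h * ((m : M)⁻¹ * x) := by group
      have hyq : ∀ j : ℕ, ((y ^ j : M) : M ⧸ H) = ((x ^ j : M) : M ⧸ H) := by
        intro j
        rw [QuotientGroup.mk_pow, QuotientGroup.mk_pow, hy, QuotientGroup.mk_mul,
          (QuotientGroup.eq_one_iff _).mpr (H.inv_mem m.2), one_mul]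
      have hxk : x ^ k = x := by
        conv_rhs => rw [← pow_one x]
        exact pow_eq_pow_iff_modEq.mpr hk1
      have hy2 : y ^ (orderOf x * Nat.card H) = 1 := by
        have h1 : y ^ orderOf x ∈ H := by
          rw [← QuotientGroup.eq_one_iff, hyq, pow_orderOf_eq_one, QuotientGroup.mk_one]
        rw [pow_mul]
        exact congrArg Subtype.val (pow_card_eq_one' (x := (⟨_, h1⟩ : H)))
      have hord : orderOf (y ^ k) = orderOf x := by
        refine Nat.dvd_antisymm (orderOf_dvd_of_pow_eq_one ?_) ?_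
        · obtain ⟨c, hc⟩ := Nat.modEq_zero_iff_dvd.mp hk0
          rw [← pow_mul, hc, mul_comm (Nat.card H) c, mul_assoc, mul_comm c,
            mul_comm (Nat.card H), pow_mul, hy2, one_pow]
        · refine orderOf_dvd_of_pow_eq_one ?_
          have h1 : x ^ orderOf (y ^ k) ∈ H ⊓ Subgroup.zpowers x := by
            refine Subgroup.mem_inf.mpr ⟨?_, Subgroup.pow_mem _ (Subgroup.mem_zpowers x) _⟩
            rw [← QuotientGroup.eq_one_iff]
            conv_lhs => rw [← hxk]
            rw [← pow_mul, ← hyq, pow_mul, pow_orderOf_eq_one, QuotientGroup.mk_one]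
          rwa [hHx, Subgroup.mem_bot] at h1
      have hle : Subgroup.zpowers (y ^ k) ≤ H ⊔ Subgroup.zpowers x := by
        rw [Subgroup.zpowers_le]
        refine Subgroup.pow_mem _ (mul_mem (Subgroup.mem_sup_left (H.inv_mem m.2))
          (Subgroup.mem_sup_right (Subgroup.mem_zpowers x))) _
      obtain ⟨n, hn, hB⟩ := Cfsg.Lib.Coprime.exists_conj_of_coprime_of_isSolvable_right
        (Subgroup.zpowers x) H (Subgroup.zpowers (y ^ k))
        (by rw [Subgroup.normalizer_eq_top_iff.mpr hN]; exact le_top)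
        (by rw [Nat.card_zpowers]; exact hco)
        (Group.isSolvable_of_comm fun a b => mul_comm' a b) hle
        (by rw [Nat.card_zpowers, Nat.card_zpowers, hord])
      have hmemk : y ^ k ∈ (Subgroup.zpowers x).map (MulAut.conj n).toMonoidHom :=
        hB ▸ Subgroup.mem_zpowers _
      obtain ⟨w, hw, hwe⟩ := hmemk
      simp only [MulEquiv.coe_toMonoidHom, MulAut.conj_apply] at hwe
      have hwx : x⁻¹ * w ∈ H ⊓ Subgroup.zpowers x := by
        refine Subgroup.mem_inf.mpr ⟨QuotientGroup.eq.mp ?_, mul_mem (inv_mem (Subgroup.mem_zpowers x)) hw⟩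
        have h1 := congrArg (fun z : M => (z : M ⧸ H)) hwe
        simp only [hyq, hxk, QuotientGroup.mk_mul, QuotientGroup.mk_inv,
          (QuotientGroup.eq_one_iff _).mpr hn, one_mul, inv_one, mul_one] at h1
        exact h1.symm
      rw [hHx, Subgroup.mem_bot, inv_mul_eq_one] at hwx
      subst hwx
      have hc : Commute (n * x * n⁻¹) (h : M) := hwe ▸ hyh.pow_left k
      refine ⟨n⁻¹ * h * n, H.mul_mem (H.mul_mem (H.inv_mem hn) h.2) hn, ?_, ?_⟩
      · intro e
        apply hh
        apply Subtype.ext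
        calc (h : M) = n * (n⁻¹ * h * n) * n⁻¹ := by group
          _ = 1 := by rw [e]; group
      · calc x * (n⁻¹ * h * n) = n⁻¹ * ((n * x * n⁻¹) * h) * n := by group
          _ = n⁻¹ * (h * (n * x * n⁻¹)) * n := by rw [hc.eq]
          _ = n⁻¹ * h * n * x := by group
    · obtain ⟨p, hp, hpx, hpH⟩ := Nat.Prime.not_coprime_iff_dvd.mp hco
      have hd : orderOf x / p ∣ orderOf x := Nat.div_dvd_of_dvd hpx
      have hp' : (x ^ (orderOf x / p)) ^ p = 1 := by
        rw [← pow_mul, Nat.div_mul_cancel hpx, pow_orderOf_eq_one]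
      refine ⟨x ^ (orderOf x / p), hmem _ ?_, ?_, (Commute.self_pow x _).eq⟩
      · obtain ⟨c, hc⟩ := hpH
        rw [hc, pow_mul, hp', one_pow]
      · intro e
        have h1 := Nat.le_of_dvd (Nat.div_pos (Nat.le_of_dvd (orderOf_pos x) hpx) hp.pos)
          (orderOf_dvd_of_pow_eq_one e)
        have h2 := Nat.div_lt_self (orderOf_pos x) hp.one_lt
        omega
  · rintro ⟨h, hh, hne, hc⟩
    exact ⟨⟨h, hh⟩, fun e => hne (congrArg Subtype.val e), 1, by simp [hc]⟩

end Cfsg.Agent.S1536
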