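import Cfsg.Statements.S1538
import Cfsg.Agent.Lib.Local.Sigma.TypeOneTwo
import Cfsg.Agent.Lib.Local.Sigma.P2Core
import Cfsg.Agent.Lib.Local.Sigma.TypeIff
import Cfsg.Agent.S1362
import Cfsg.Agent.S1371

set_option autoImplicit false
open Cfsg

namespace Cfsg.Agent.S1538

open Subgroup Cfsg.Lib Cfsg.Lib.Local Cfsg.Lib.Local.Uniq Cfsg.Lib.Local.Sigma

universe u

theorem normalizer_eq_self {G : Type u} [Group G] [Finite G] (hG : Cfsg.IsMinSimpleOddOrder G) {M : Subgroup G}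
    (hM : IsCoatom M) {X : Set G} (hinv : ∀ m ∈ M, ∀ a ∈ X, m * a * m⁻¹ ∈ X) (hne : X.Nonempty)
    (hsub : X ⊆ (M : Set G)) (h1 : (1 : G) ∉ X) : normalizer X = M := by
  have hle : M ≤ normalizer X := fun m hm => mem_set_normalizer_iff.mpr fun a =>
    ⟨hinv m hm a, fun h => by simpa [mul_assoc] using hinv m⁻¹ (inv_mem hm) _ h⟩
  rcases eq_or_lt_of_le hle with h | h
  · exact h.symm
  · exfalso
    have htop := hM.2 _ h
    haveI := hG.2.1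
    have hn : (normalClosure X).Normal := inferInstance
    have hcl : normalClosure X ≤ M := by
      rw [normalClosure, closure_le]
      intro a ha
      obtain ⟨b, hb, hc⟩ := Group.mem_conjugatesOfSet_iff.mp ha
      obtain ⟨g, rfl⟩ := isConj_iff.mp hc
      exact hsub ((mem_set_normalizer_iff.mp (htop ▸ Subgroup.mem_top g : g ∈ normalizer X) b).mp hb)
    obtain ⟨a, ha⟩ := hne
    rcases hn.eq_bot_or_eq_top with e | e
    · exact h1 ((mem_bot.mp (e.le (subset_normalClosure ha))) ▸ ha)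
    · exact hM.1 (top_le_iff.mp (e ▸ hcl))


/-- Let G be a minimal simple group of odd order and M a maximal subgroup of Type II. Then each of A₀(M), A(M), A₁(M) is a TI-subset of G whose set normaliser is M. -/
theorem result {G : Type*} [Group G] [Finite G] (hG : Cfsg.IsMinSimpleOddOrder G) (M : Subgroup G) (hM : IsCoatom M) (hII : Cfsg.IsOfTypeII M) : (Cfsg.IsTISubset (Cfsg.typeA0 M) ∧ Subgroup.normalizer (Cfsg.typeA0 M) = M) ∧ (Cfsg.IsTISubset (Cfsg.typeA M) ∧ Subgroup.normalizer (Cfsg.typeA M) = M) ∧ (Cfsg.IsTISubset (Cfsg.typeA1 M) ∧ Subgroup.normalizer (Cfsg.typeA1 M) = M) := by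
  classical
  obtain ⟨K, U, hKU⟩ := exists_decomposition hG hM
  obtain ⟨hK1, hU1⟩ := (typeII_iff hG hM hKU).mp hII
  have hF := fittingHallOf_eq_of_ne_bot hG hM hKU hU1
  have hcore : Cfsg.typeCore M = Cfsg.sigmaCore M := (typeCore_eq_of hG hM hKU (Or.inr hU1)).trans hF
  have hI : ¬ Cfsg.IsOfTypeI M := fun h => hK1 (eq_bot_of_typeI hG hM hKU h).1
  have hD := derived_eq_decomp hG hM hKU hK1
  have hinvσ : ∀ m ∈ M, ∀ a : G, a ∈ Cfsg.sigmaCore M ↔ m * a * m⁻¹ ∈ Cfsg.sigmaCore M := fun m hm =>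
    mem_normalizer_iff.mp (le_normalizer_sigmaCore M hm)
  have hinvW : ∀ m ∈ M, ∀ a : G, a ∈ U ⊔ Cfsg.sigmaCore M ↔ m * a * m⁻¹ ∈ U ⊔ Cfsg.sigmaCore M := fun m hm =>
    mem_normalizer_iff.mp (decomp_le_normalizer hKU hm)
  have hA1mem : ∀ a, a ∈ Cfsg.typeA1 M ↔ a ∈ Cfsg.sigmaCore M ∧ a ≠ 1 := fun a => by
    rw [Cfsg.typeA1, hcore]; rfl
  have hAmem : ∀ a, a ∈ Cfsg.typeA M ↔
      a ∈ U ⊔ Cfsg.sigmaCore M ∧ a ≠ 1 ∧ ∃ x ∈ Cfsg.sigmaCore M, x ≠ 1 ∧ a * x = x * a := fun a => by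
    unfold Cfsg.typeA
    rw [if_neg hI, hcore, hD]
    rfl
  obtain ⟨y₀, hy₀, hy₀1⟩ := (bot_or_exists_ne_one (Cfsg.sigmaCore M)).resolve_left
    (hF ▸ fittingHallOf_ne_bot hG hM)
  -- `A₁`
  have hA1inv : ∀ m ∈ M, ∀ a ∈ Cfsg.typeA1 M, m * a * m⁻¹ ∈ Cfsg.typeA1 M := fun m hm a ha => by
    rw [hA1mem] at ha ⊢
    exact ⟨(hinvσ m hm a).mp ha.1, fun e => ha.2 (conj_eq_one_iff.mp e)⟩
  have hA1sub : Cfsg.typeA1 M ⊆ (M : Set G) := fun a ha => sigmaCore_le M ((hA1mem a).mp ha).1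
  have hA1N : normalizer (Cfsg.typeA1 M) = M := normalizer_eq_self hG hM hA1inv
    ⟨y₀, (hA1mem y₀).mpr ⟨hy₀, hy₀1⟩⟩ hA1sub fun h => ((hA1mem 1).mp h).2 rfl
  have hFle := P2.sigmaCore_le_fitting hG hM hKU hU1
  have hFN : normalizer (Cfsg.fittingOf M : Set G) = M := by
    rcases eq_or_lt_of_le (le_normalizer_fittingOf (M := M)) with h | h
    · exact h.symm
    · exfalso
      haveI := hG.2.1
      have hn : (Cfsg.fittingOf M).Normal := normalizer_eq_top_iff.mp (hM.2 _ h)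
      rcases hn.eq_bot_or_eq_top with e | e
      · exact hy₀1 (mem_bot.mp (e.le (hFle hy₀)))
      · exact hM.1 (top_le_iff.mp (e.ge.trans (map_subtype_le _)))
  have hti1 : ∀ g : G, ∀ a ∈ Cfsg.typeA1 M, g * a * g⁻¹ ∈ Cfsg.typeA1 M → g ∈ M := by
    intro g a ha hga
    by_contra hg
    exact ((hA1mem a).mp ha).2 (P2.fitting_ti hG hM hKU hK1 hU1 g (by rwa [hFN]) a (hFle ((hA1mem a).mp ha).1)
      (hFle ((hA1mem _).mp hga).1))
  -- `A` outside `A₁`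
  have hAinv : ∀ m ∈ M, ∀ a ∈ Cfsg.typeA M, m * a * m⁻¹ ∈ Cfsg.typeA M := fun m hm a ha => by
    rw [hAmem] at ha ⊢
    obtain ⟨h1, h2, x, hx, hx1, hc⟩ := ha
    exact ⟨(hinvW m hm a).mp h1, fun e => h2 (conj_eq_one_iff.mp e), m * x * m⁻¹, (hinvσ m hm x).mp hx,
      fun e => hx1 (conj_eq_one_iff.mp e), by rw [conj_mul, conj_mul, hc]⟩
  have hAsub : Cfsg.typeA M ⊆ (M : Set G) := fun a ha => decomp_sup_le hKU ((hAmem a).mp ha).1
  have hA1A : Cfsg.typeA1 M ⊆ Cfsg.typeA M := fun a ha => (hAmem a).mpr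
    ⟨mem_sup_right ((hA1mem a).mp ha).1, ((hA1mem a).mp ha).2, a, ((hA1mem a).mp ha).1, ((hA1mem a).mp ha).2, rfl⟩
  have hσelt : ∀ a ∈ M, (∀ t : ℕ, t.Prime → t ∣ orderOf a → t ∈ Cfsg.sigma M) → a ∈ Cfsg.sigmaCore M := by
    intro a ha h
    refine le_sigmaCore_of_isPiSub hG hM (zpowers_le.mpr ha) ?_ (mem_zpowers a)
    intro t ht hd
    rw [Nat.card_zpowers] at hd
    exact h t ht hd
  have hσprime : ∀ a ∈ Cfsg.sigmaCore M, ∀ t : ℕ, t.Prime → t ∣ orderOf a → t ∈ Cfsg.sigma M := fun a ha t ht hd =>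
    sigmaCore_isPiSub M t ht (hd.trans (Subgroup.orderOf_dvd_natCard _ ha))
  have htiA : ∀ g : G, ∀ a ∈ Cfsg.typeA M, g * a * g⁻¹ ∈ Cfsg.typeA M → g ∈ M := by
    intro g a ha hga
    by_cases h1 : a ∈ Cfsg.sigmaCore M
    · refine hti1 g a ((hA1mem a).mpr ⟨h1, ((hAmem a).mp ha).2.1⟩)
        ((hA1mem _).mpr ⟨hσelt _ (hAsub hga) fun t ht hd => ?_, ((hAmem _).mp hga).2.1⟩)
      rw [orderOf_conj] at hd
      exact hσprime a h1 t ht hd
    · have h2 : g * a * g⁻¹ ∉ Cfsg.sigmaCore M := fun h => h1 (hσelt a (hAsub ha) fun t ht hd =>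
        hσprime _ h t ht (by rwa [orderOf_conj]))
      set X := Cfsg.sigmaA M U \ (Cfsg.sigmaCore M : Set G)
      have hmem : ∀ b ∈ Cfsg.typeA M, b ∉ Cfsg.sigmaCore M → b ∈ X := fun b hb hb' => by
        obtain ⟨q1, q2, x, hx, hx1, hc⟩ := (hAmem b).mp hb
        exact ⟨⟨⟨decomp_sup_le hKU q1, x, hx, hx1, hc⟩, q1⟩, hb'⟩
      have hXinv : ∀ m ∈ M, ∀ b ∈ X, m * b * m⁻¹ ∈ X := by
        rintro m hm b ⟨⟨⟨hbM, x, hx, hx1, hc⟩, hbW⟩, hbσ⟩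
        exact ⟨⟨⟨mul_mem (mul_mem hm hbM) (inv_mem hm), m * x * m⁻¹, (hinvσ m hm x).mp hx,
          fun e => hx1 (conj_eq_one_iff.mp e), by rw [conj_mul, conj_mul, hc]⟩, (hinvW m hm b).mp hbW⟩,
          fun h => hbσ ((hinvσ m hm b).mpr h)⟩
      have hN : normalizer X = M := normalizer_eq_self hG hM hXinv ⟨a, hmem a ha h1⟩ (fun b hb => hb.1.1.1)
        fun h => h.2 (one_mem _)
      by_contra hg
      exact ((hAmem a).mp ha).2.1 (Cfsg.Agent.S1362.result hG M hM K U hKU g (by rwa [hN]) a (hmem a ha h1)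
        (hmem _ hga h2))
  have hAN : normalizer (Cfsg.typeA M) = M := normalizer_eq_self hG hM hAinv
    ⟨y₀, hA1A ((hA1mem y₀).mpr ⟨hy₀, hy₀1⟩)⟩ hAsub fun h => ((hAmem 1).mp h).2.1 rfl
  -- `A₀` outside `A`
  obtain ⟨hVeq, hVti⟩ := Cfsg.Agent.S1371.result hG M hM K U hKU hK1
  set S := Cfsg.sigmaA0 M K \ Cfsg.sigmaA M U
  have hP : Cfsg.IsTypePWith M K U (kstar M K) :=
    typeP_of_compl hG hM hKU hK1 (compl_of_eq hG hM hKU hK1 hF) hKU.normal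
  have hDM : ∀ m ∈ M, ∀ a : G, a ∈ ⁅M, M⁆ ↔ m * a * m⁻¹ ∈ ⁅M, M⁆ := fun m hm a => by
    rw [hD]; exact hinvW m hm a
  have hV : ∀ W₁ V W₂ : Subgroup G, Cfsg.IsTypePWith M W₁ V W₂ → ∀ m ∈ M, ∀ w ∈ W₁ ⊔ W₂, w ∉ W₁ → w ∉ W₂ →
      m * w * m⁻¹ ∈ S := by
    intro W₁ V W₂ hW m hm w hw hw1 hw2
    have hcard : Nat.card W₁ = Nat.card K :=
      Nat.eq_of_mul_eq_mul_left Nat.card_pos ((card_of_isComplIn hW.W₁_compl).trans (card_of_isComplIn hP.W₁_compl).symm)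
    obtain ⟨c, hc, hle⟩ := exists_conj_le_hall (π := Cfsg.kappa M) (hG.2.2.2 M hM.1) hKU.hall.1 hKU.hall.2.1
      hKU.hall.2.2 (Y := W₁) hW.W₁_compl.2.1 fun t ht hd => hKU.hall.2.1 t ht (hcard ▸ hd)
    have heq : cj c W₁ = K := eq_of_le_of_card_ge hle (by rw [Cfsg.Lib.Coprime.card_map_conj, hcard])
    obtain ⟨x, hx, hx1⟩ := (bot_or_exists_ne_one W₁).resolve_left hW.W₁_ne
    have hW2 : ∀ b : G, b ∈ W₂ ↔ c * b * c⁻¹ ∈ kstar M K := fun b => by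
      rw [← hW.W₂_centralizer x hx hx1, ← hP.W₂_centralizer (c * x * c⁻¹) (hle (mem_cj hx))
        (fun e => hx1 (conj_eq_one_iff.mp e)), Subgroup.mem_inf, Subgroup.mem_inf, ← hDM c hc,
        mem_centralizer_singleton_iff, mem_centralizer_singleton_iff, conj_mul, conj_mul]
      exact and_congr_right fun _ => (MulAut.conj c).injective.eq_iff.symm
    show _ ∈ S
    rw [← hVeq]
    refine ⟨m * c⁻¹, mul_mem hm (inv_mem hc), c * w * c⁻¹, ⟨?_, ?_⟩, by group⟩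
    · have hmap : cj c (W₁ ⊔ W₂) ≤ K ⊔ kstar M K := by
        rw [show cj c (W₁ ⊔ W₂) = cj c W₁ ⊔ cj c W₂ from Subgroup.map_sup _ _ _, heq]
        exact sup_le_sup_left (by rintro _ ⟨b, hb, rfl⟩; exact (hW2 b).mp hb) _
      exact hmap (mem_cj hw)
    · rintro (h | h)
      · refine hw1 ?_
        have h' : c * w * c⁻¹ ∈ cj c W₁ := heq.symm ▸ h
        obtain ⟨b, hb, hbe⟩ := h'
        have : b = w := (MulAut.conj c).injective hbe
        exact this ▸ hb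
      · exact hw2 ((hW2 w).mpr h)
  have hA0 : ∀ a ∈ Cfsg.typeA0 M, a ∈ Cfsg.typeA M ∨ a ∈ S := by
    rintro a (ha | ⟨-, W₁, V, W₂, hW, m, hm, w, hw, hw1, hw2, rfl⟩)
    · exact Or.inl ha
    · exact Or.inr (hV W₁ V W₂ hW m hm w hw hw1 hw2)
  have hA0inv : ∀ m ∈ M, ∀ a ∈ Cfsg.typeA0 M, m * a * m⁻¹ ∈ Cfsg.typeA0 M := by
    rintro m hm a (ha | ⟨hI', W₁, V, W₂, hW, c, hc, w, hw, hw1, hw2, rfl⟩)
    · exact Or.inl (hAinv m hm a ha)
    · exact Or.inr ⟨hI', W₁, V, W₂, hW, m * c, mul_mem hm hc, w, hw, hw1, hw2, by group⟩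
  have hSord : ∀ a ∈ S, ∀ b ∈ Cfsg.typeA M, orderOf a ≠ orderOf b := by
    intro a ha b hb he
    obtain ⟨⟨haM, -⟩, haA⟩ := ha
    have hnW : a ∉ U ⊔ Cfsg.sigmaCore M := fun h => haA ⟨haM, h⟩
    obtain ⟨t, ht, hta, htK⟩ := Nat.Prime.not_coprime_iff_dvd.mp fun hco => hnW (decomp_mem_of_coprime hKU haM.1 hco)
    exact decomp_prime hG hM hKU ((hAmem b).mp hb).1 ht (he ▸ hta) (hKU.hall.2.1 t ht htK)
  have hSinv : ∀ m ∈ M, ∀ a ∈ S, m * a * m⁻¹ ∈ S := by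
    intro m hm a ha
    have ha' : a ∈ S := ha
    rw [← hVeq] at ha' ⊢
    obtain ⟨c, hc, z, hz, rfl⟩ := ha'
    exact ⟨m * c, mul_mem hm hc, z, hz, by group⟩
  have htiA0 : ∀ g : G, ∀ a ∈ Cfsg.typeA0 M, g * a * g⁻¹ ∈ Cfsg.typeA0 M → g ∈ M := by
    intro g a ha hga
    rcases hA0 a ha with h | h <;> rcases hA0 _ hga with h' | h'
    · exact htiA g a h h'
    · exact absurd (orderOf_conj g a) (hSord _ h' a h)
    · exact absurd (orderOf_conj g a).symm (hSord a h _ h')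
    · have h1S : (1 : G) ∉ S := fun h1 => hSord 1 h1 1 ?_ rfl
      · have hN : normalizer S = M := normalizer_eq_self hG hM hSinv ⟨a, h⟩ (fun b hb => hb.1.1.1) h1S
        by_contra hg
        exact h1S ((hVti g (by rwa [hN]) a h h') ▸ h)
      · exfalso
        exact h1.2 ⟨⟨one_mem M, y₀, hy₀, hy₀1, by simp⟩, one_mem _⟩
  have h1A0 : (1 : G) ∉ Cfsg.typeA0 M := fun h => by
    rcases hA0 1 h with h' | h'
    · exact ((hAmem 1).mp h').2.1 rfl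
    · exact h'.2 ⟨⟨one_mem M, y₀, hy₀, hy₀1, by simp⟩, one_mem _⟩
  have hA0N : normalizer (Cfsg.typeA0 M) = M := normalizer_eq_self hG hM hA0inv
    ⟨y₀, Or.inl (hA1A ((hA1mem y₀).mpr ⟨hy₀, hy₀1⟩))⟩
    (fun a ha => (hA0 a ha).elim (fun h => hAsub h) fun h => h.1.1.1) h1A0
  refine ⟨⟨fun g hg a ha hga => absurd ?_ hg, hA0N⟩, ⟨fun g hg a ha hga => absurd ?_ hg, hAN⟩,
    ⟨fun g hg a ha hga => absurd ?_ hg, hA1N⟩⟩
  · rw [hA0N]; exact htiA0 g a ha hga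
  · rw [hAN]; exact htiA g a ha hga
  · rw [hA1N]; exact hti1 g a ha hga

end Cfsg.Agent.S1538
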