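import Cfsg.Statements.S1546


set_option autoImplicit false
open Cfsg

namespace Cfsg.Agent.S1546

/-- Let p and q be odd primes and N = (p ^ q − 1) / (p − 1) = 1 + p + ⋯ + p^(q−1). Then N is odd; if p ≡ 1 (mod q) then q ∣ N; and if p is not ≡ 1 (mod q) then N is coprime to p − 1 and every divisor of N is ≡ 1 (mod q). -/
theorem result (p q : ℕ) (hp : p.Prime) (hq : q.Prime) (hp2 : p ≠ 2) (hq2 : q ≠ 2) : Odd ((p ^ q - 1) / (p - 1)) ∧ (p % q = 1 → q ∣ (p ^ q - 1) / (p - 1)) ∧ (p % q ≠ 1 → Nat.Coprime ((p ^ q - 1) / (p - 1)) (p - 1) ∧ ∀ x : ℕ, x ∣ (p ^ q - 1) / (p - 1) → x % q = 1) := by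
  have hp3 : 3 ≤ p := by
    have := hp.two_le
    omega
  have hN : (p ^ q - 1) / (p - 1) = ∑ i ∈ Finset.range q, p ^ i :=
    (Nat.geomSum_eq hp.two_le q).symm
  rw [hN]
  set N := ∑ i ∈ Finset.range q, p ^ i with hNdef
  have hmod : ∀ m, p % m = 1 % m → N % m = q % m := by
    intro m hm
    rw [hNdef, Finset.sum_nat_mod]
    have : ∀ i ∈ Finset.range q, p ^ i % m = 1 % m := fun i _ => by
      rw [Nat.pow_mod, hm, ← Nat.pow_mod, one_pow]
    rw [Finset.sum_congr rfl this, Finset.sum_const, Finset.card_range, smul_eq_mul, Nat.mul_mod,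
      Nat.mod_mod, ← Nat.mul_mod, mul_one]
  have hodd : p % 2 = 1 := Nat.odd_iff.mp (hp.odd_of_ne_two hp2)
  refine ⟨?_, fun h1 => ?_, fun h1 => ?_⟩
  · rw [Nat.odd_iff, hmod 2 (by rw [hodd]), Nat.odd_iff.mp (hq.odd_of_ne_two hq2)]
  · apply Nat.dvd_of_mod_eq_zero
    rw [hmod q (by rw [h1, Nat.mod_eq_of_lt hq.one_lt]), Nat.mod_self]
  have hcop : Nat.Coprime N (p - 1) := by
    have hm : p % (p - 1) = 1 % (p - 1) := by
      rw [show p % (p - 1) = (1 + (p - 1)) % (p - 1) by congr 1; omega, Nat.add_mod_right]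
    have hg : Nat.gcd N (p - 1) = Nat.gcd q (p - 1) := by
      rw [Nat.gcd_comm N, Nat.gcd_comm q, Nat.gcd_rec (p - 1) N, Nat.gcd_rec (p - 1) q, hmod _ hm]
    rw [Nat.Coprime, hg]
    refine (hq.coprime_iff_not_dvd).mpr fun hd => h1 ?_
    obtain ⟨c, hc⟩ := hd
    rw [show p = 1 + q * c by omega, Nat.add_mul_mod_self_left, Nat.mod_eq_of_lt hq.one_lt]
  refine ⟨hcop, ?_⟩
  have hprime : ∀ r : ℕ, r.Prime → r ∣ N → r % q = 1 := by
    intro r hr hrN
    haveI := Fact.mk hr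
    have h2 : ((p : ZMod r)) ^ q = 1 := by
      have h3 : (N : ZMod r) * ((p : ZMod r) - 1) = (p : ZMod r) ^ q - 1 := by
        rw [hNdef]
        push_cast
        exact geom_sum_mul _ q
      rw [(ZMod.natCast_eq_zero_iff N r).mpr hrN, zero_mul] at h3
      exact sub_eq_zero.mp h3.symm
    have h4 : (p : ZMod r) ≠ 1 := by
      intro h
      rw [← Nat.cast_one, ← sub_eq_zero, ← Nat.cast_sub (by omega : 1 ≤ p),
        ZMod.natCast_eq_zero_iff] at h
      exact hr.not_dvd_one (hcop ▸ Nat.dvd_gcd hrN h)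
    haveI := Fact.mk hq
    have h5 : orderOf (p : ZMod r) = q := orderOf_eq_prime h2 h4
    have h6 : (p : ZMod r) ≠ 0 := fun h => by
      rw [h, zero_pow hq.ne_zero] at h2
      exact zero_ne_one h2
    have h7 := ZMod.orderOf_dvd_card_sub_one h6
    rw [h5] at h7
    obtain ⟨c, hc⟩ := h7
    have := hr.one_lt
    rw [show r = 1 + q * c by omega, Nat.add_mul_mod_self_left, Nat.mod_eq_of_lt hq.one_lt]
  intro x hx
  induction x using Nat.recOnMul with
  | zero =>
    exfalso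
    have : 1 ≤ N := Finset.single_le_sum (f := fun i => p ^ i) (fun i _ => Nat.zero_le _)
      (Finset.mem_range.mpr hq.pos) |>.trans' (by simp)
    rw [Nat.eq_zero_of_zero_dvd hx] at this
    omega
  | one => exact Nat.mod_eq_of_lt hq.one_lt
  | prime r hr => exact hprime r hr hx
  | mul a b iha ihb =>
    rw [Nat.mul_mod, iha ((dvd_mul_right a b).trans hx), ihb ((dvd_mul_left b a).trans hx), one_mul,
      Nat.mod_eq_of_lt hq.one_lt]

end Cfsg.Agent.S1546
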