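import Cfsg.Statements.S1555
import Cfsg.Agent.Lib.Concrete.Steiner
import Cfsg.Agent.Lib.Concrete.M24

set_option autoImplicit false
open scoped Pointwise
open Cfsg Cfsg.Lib.Concrete

namespace Cfsg.Agent.S1555

/-- Bottom row of the Leech triangle: an octad is met in a prescribed pair of its points by exactly 16 octads and in a prescribed 4-subset by exactly 4 octads. -/
theorem result (o : Finset Cfsg.GolayPt) (ho : o ∈ Cfsg.octads) (s : Finset Cfsg.GolayPt) (hs : s ⊆ o) : (s.card = 2 → {o' : Finset Cfsg.GolayPt | o' ∈ Cfsg.octads ∧ o ∩ o' = s}.ncard = 16) ∧ (s.card = 4 → {o' : Finset Cfsg.GolayPt | o' ∈ Cfsg.octads ∧ o ∩ o' = s}.ncard = 4) := by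
  have hne : s.card < 8 → {o' : Finset GolayPt | o' ∈ octads ∧ o ∩ o' = s} =
      {o' : Finset GolayPt | o' ∈ octads ∧ o' ≠ o ∧ o ∩ o' = s} := fun hlt => by
    ext c
    refine ⟨fun ⟨hc, hi⟩ => ⟨hc, fun e => ?_, hi⟩, fun ⟨hc, _, hi⟩ => ⟨hc, hi⟩⟩
    rw [e, Finset.inter_self] at hi
    rw [← hi, ho.2] at hlt
    exact lt_irrefl _ hlt
  have h := steiner_inter_count octads_steiner (fun j => [30, 0, 16, 0, 4].getD j 0)
    (fun i => [759, 253, 77, 21, 5].getD i 0)
    (by rw [show Fintype.card GolayPt = 24 from rfl]; decide) (by decide) (by decide) ho hs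
  refine ⟨fun hn => ?_, fun hn => ?_⟩ <;> rw [hne (by omega), h, hn] <;> rfl

end Cfsg.Agent.S1555
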