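import Cfsg.Statements.S1560
import Cfsg.Agent.Lib.Concrete.Octad

set_option autoImplicit false
open scoped Pointwise
open Cfsg Cfsg.Lib.Concrete
open scoped Pointwise

namespace Cfsg.Agent.S1560

/-- Intersection numbers of dodecads: a dodecad meets every other dodecad in 0, 4, 6 or 8 points, meeting 495 of them in 4 points, 1584 in 6 points and 495 in 8 points. -/
theorem result (d : Finset Cfsg.GolayPt) (hd : d ∈ Cfsg.dodecads) : (∀ d' ∈ Cfsg.dodecads, d' ≠ d → (d ∩ d').card = 0 ∨ (d ∩ d').card = 4 ∨ (d ∩ d').card = 6 ∨ (d ∩ d').card = 8) ∧ {d' : Finset Cfsg.GolayPt | d' ∈ Cfsg.dodecads ∧ (d ∩ d').card = 4}.ncard = 495 ∧ {d' : Finset Cfsg.GolayPt | d' ∈ Cfsg.dodecads ∧ (d ∩ d').card = 6}.ncard = 1584 ∧ {d' : Finset Cfsg.GolayPt | d' ∈ Cfsg.dodecads ∧ (d ∩ d').card = 8}.ncard = 495 := by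
  obtain ⟨g, hg, rfl⟩ := exists_dodecad_std hd
  constructor
  · intro d' hd' hne
    obtain ⟨m, hm, hme⟩ := mem_dodecads_iff.1 (show g⁻¹ • d' ∈ dodecads from
      (smul_mem_dodecads_iff (inv_mem hg) d').2 hd')
    have hc : (g • baseDodecad ∩ d').card = pcnt (Nat.land 11472927 m) := by
      rw [show d' = g • (g⁻¹ • d') from (smul_inv_smul g d').symm, ← Finset.smul_finset_inter,
        card_smul_points, ← hme, baseDodecad, card_mset_inter]
    have hne' : m ≠ 11472927 := fun e => hne (by
      rw [← smul_inv_smul g d', ← hme, e]; rfl)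
    have hall : dodList.all (fun m => Nat.beq m 11472927 || (fun k => k == 0 || k == 4 || k == 6 ||
        k == 8) (pcnt (Nat.land 11472927 m))) = true := by decide +kernel
    have := List.all_eq_true.1 hall m hm
    rw [hc]
    simpa [hne', or_assoc] using this
  · have key : ∀ n : ℕ, {d' : Finset GolayPt | d' ∈ dodecads ∧ (g • baseDodecad ∩ d').card = n}.ncard =
        (dodList.filter fun m => Nat.beq (pcnt (Nat.land 11472927 m)) n).length := by
      intro n
      rw [ncard_eq_of_smul (T := {o | o ∈ dodecads ∧ (baseDodecad ∩ o).card = n}) g fun o => by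
        rw [Set.mem_ofPred_eq, Set.mem_ofPred_eq, smul_mem_dodecads_iff hg,
          ← Finset.smul_finset_inter, card_smul_points]]
      exact ncard_dodecads_filter _ _ fun m _ => by rw [baseDodecad, card_mset_inter, Nat.beq_eq]
    rw [key, key, key]
    decide +kernel

end Cfsg.Agent.S1560
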