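import Cfsg.Statements.S1568
import Cfsg.Agent.Lib.Concrete.LeechCount
-- import your own Cfsg.Agent.* helpers here

set_option autoImplicit false
open Cfsg

namespace Cfsg.Agent.S1568

open Cfsg.Lib.Concrete

theorem count_two : leechCount [0, 2, -2] 48 = 5275648 := by decide +kernel

theorem count_three : leechCount [-3, -1, 1, 3] 48 = 8290304 := by decide +kernel

theorem count_noFour : leechCount ((symVals 6).filter fun v => decide (v.natAbs ≠ 4)) 48 + 3108864 = 16773120 := by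
  decide +kernel

theorem count_noFive : leechCount ((symVals 6).filter fun v => decide (v.natAbs ≠ 5)) 48 + 98304 = 16773120 := by
  decide +kernel

theorem three_iff {x : Cfsg.GolayPt → ℤ} (hx : x ∈ Cfsg.leechLattice) (hn : Cfsg.sqNorm x = 48) :
    (∃ i j, ¬i = j ∧ ∃ k, ¬j = k ∧ ¬i = k ∧ |x i| = 3 ∧ |x j| = 3 ∧ |x k| = 3) ↔
      ∀ i, x i = -3 ∨ x i = -1 ∨ x i = 1 ∨ x i = 3 := by
  classical
  constructor
  · rintro ⟨i, j, hij, k, hjk, hik, hi, hj, hk⟩ p
    obtain ⟨m, w, -, h1, -⟩ := mem_leechSet_iff.1 (mem_leechLattice_iff.1 hx)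
    have hodd : ∀ q, x q % 2 = 1 := fun q => by
      have hi' := h1 i
      have hq := h1 q
      unfold Int.ModEq at hi' hq
      rcases abs_eq (by norm_num : (0 : ℤ) ≤ 3) |>.1 hi with h | h <;> omega
    have hge : ∀ q, 1 ≤ x q ^ 2 := fun q => by
      have := hodd q
      have hne : x q ≠ 0 := by omega
      exact sq_pos_iff.2 hne
    set S : Finset Cfsg.GolayPt := {i, j, k}
    have hS : S.card = 3 := Finset.card_eq_three.2 ⟨i, j, k, hij, hik, hjk, rfl⟩
    have hsS : ∑ q ∈ S, x q ^ 2 = 27 := by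
      rw [Finset.sum_congr rfl fun q hq => ?_, Finset.sum_const (9 : ℤ), hS]
      · norm_num
      · simp only [S, Finset.mem_insert, Finset.mem_singleton] at hq
        rw [← sq_abs]
        rcases hq with rfl | rfl | rfl <;> simp [hi, hj, hk]
    by_cases hp : p ∈ S
    · simp only [S, Finset.mem_insert, Finset.mem_singleton] at hp
      rcases hp with rfl | rfl | rfl <;>
        [rcases abs_eq (by norm_num : (0 : ℤ) ≤ 3) |>.1 hi with h | h;
         rcases abs_eq (by norm_num : (0 : ℤ) ≤ 3) |>.1 hj with h | h;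
         rcases abs_eq (by norm_num : (0 : ℤ) ≤ 3) |>.1 hk with h | h] <;> simp [h]
    · have htot := Finset.sum_compl_add_sum S (fun q => x q ^ 2)
      have hc : Sᶜ.card = 21 := by rw [Finset.card_compl, hS]; rfl
      rw [hsS, show ∑ q, x q ^ 2 = 48 from hn] at htot
      have hp' : p ∈ Sᶜ := Finset.mem_compl.2 hp
      have hsum : ∑ q ∈ Sᶜ.erase p, (1 : ℤ) ≤ ∑ q ∈ Sᶜ.erase p, x q ^ 2 := Finset.sum_le_sum fun q _ => hge q
      have hadd := Finset.add_sum_erase Sᶜ (fun q => x q ^ 2) hp'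
      rw [Finset.sum_const, Finset.card_erase_of_mem hp', hc] at hsum
      norm_num at hsum
      have h1 : x p ^ 2 = 1 := le_antisymm (by linarith) (hge p)
      rcases sq_eq_one_iff.1 h1 with h | h <;> simp [h]
  · intro h
    set T := Finset.univ.filter fun q => |x q| = 3 with hT
    have hsq : ∀ q, x q ^ 2 = 1 + if |x q| = 3 then 8 else 0 := fun q => by
      rcases h q with e | e | e | e <;> simp [e]
    have htot : (48 : ℤ) = 24 + 8 * T.card := by
      rw [← hn, Cfsg.sqNorm, Finset.sum_congr rfl fun q _ => hsq q, Finset.sum_add_distrib, ← Finset.sum_filter,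
        Finset.sum_const, Finset.sum_const, Finset.card_univ, show Fintype.card Cfsg.GolayPt = 24 from rfl, ← hT]
      simp [mul_comm]
    obtain ⟨i, j, k, hij, hik, hjk, e⟩ := Finset.card_eq_three.1 (show T.card = 3 by omega)
    have hall : ∀ q ∈ T, |x q| = 3 := fun q hq => (Finset.mem_filter.1 hq).2
    exact ⟨i, j, hij, k, hjk, hik, hall i (by simp [e]), hall j (by simp [e]), hall k (by simp [e])⟩

theorem diff_count (a c : ℕ) (hall : {x : Cfsg.GolayPt → ℤ | x ∈ Cfsg.leechLattice ∧ Cfsg.sqNorm x = ((48 : ℕ) : ℤ)}.ncard = 16773120)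
    (hmem : ∀ x : Cfsg.GolayPt → ℤ, Cfsg.sqNorm x = 48 → ∀ i, x i ∈ symVals 6)
    (hc : leechCount ((symVals 6).filter fun v => decide (v.natAbs ≠ a)) 48 + c = 16773120) :
    {x : Cfsg.GolayPt → ℤ | x ∈ Cfsg.leechLattice ∧ Cfsg.sqNorm x = 48 ∧ ∃ i, |x i| = (a : ℤ)}.ncard = c := by
  classical
  set V := (symVals 6).filter fun v => decide (v.natAbs ≠ a)
  have hV := ncard_leech_values V (List.Nodup.filter _ (by decide)) ((List.length_filter_le _ _).trans (by decide)) 48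
  set A := {x : Cfsg.GolayPt → ℤ | x ∈ Cfsg.leechLattice ∧ Cfsg.sqNorm x = ((48 : ℕ) : ℤ)}
  set B := {x : Cfsg.GolayPt → ℤ | x ∈ Cfsg.leechLattice ∧ Cfsg.sqNorm x = ((48 : ℕ) : ℤ) ∧ ∀ i, x i ∈ V}
  have hBA : B ⊆ A := fun x h => ⟨h.1, h.2.1⟩
  have hAfin : A.Finite := Set.finite_of_ncard_ne_zero (by omega)
  have hd := Set.ncard_sdiff_add_ncard_of_subset hBA hAfin
  rw [show {x : Cfsg.GolayPt → ℤ | x ∈ Cfsg.leechLattice ∧ Cfsg.sqNorm x = 48 ∧ ∃ i, |x i| = (a : ℤ)} = A \ B from ?_]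
  · omega
  ext x
  simp only [A, B, Set.mem_setOf_eq, Set.mem_sdiff, not_and, not_forall]
  constructor
  · rintro ⟨h1, h2, i, hi⟩
    refine ⟨⟨h1, h2⟩, fun _ _ => ⟨i, fun hv => ?_⟩⟩
    have := (List.mem_filter.1 hv).2
    simp only [ne_eq, decide_eq_true_eq] at this
    rw [← Int.natCast_natAbs] at hi
    omega
  · rintro ⟨⟨h1, h2⟩, h3⟩
    obtain ⟨i, hi⟩ := h3 h1 h2
    refine ⟨h1, h2, i, ?_⟩
    by_contra hne
    exact hi (List.mem_filter.2 ⟨hmem x h2 i, by simpa using fun e => hne (by rw [← Int.natCast_natAbs]; omega)⟩)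

/-- Shape census of the lattice vectors of sum of squares 48 (customary norm 6): the four families (2^12, 0^12), (±3^3, ±1^21), (±4, ±2^8, 0^15) and (±5, ±1^23) have 5275648, 8290304, 3108864 and 98304 members. -/
theorem result : {x : Cfsg.GolayPt → ℤ | x ∈ Cfsg.leechLattice ∧ Cfsg.sqNorm x = 48 ∧ ∀ i, x i = 0 ∨ x i = 2 ∨ x i = -2}.ncard = 5275648 ∧ {x : Cfsg.GolayPt → ℤ | x ∈ Cfsg.leechLattice ∧ Cfsg.sqNorm x = 48 ∧ ∃ i j k, i ≠ j ∧ j ≠ k ∧ i ≠ k ∧ |x i| = 3 ∧ |x j| = 3 ∧ |x k| = 3}.ncard = 8290304 ∧ {x : Cfsg.GolayPt → ℤ | x ∈ Cfsg.leechLattice ∧ Cfsg.sqNorm x = 48 ∧ ∃ i, |x i| = 4}.ncard = 3108864 ∧ {x : Cfsg.GolayPt → ℤ | x ∈ Cfsg.leechLattice ∧ Cfsg.sqNorm x = 48 ∧ ∃ i, |x i| = 5}.ncard = 98304 := by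
  classical
  have hall := ncard_leech_norm 48 6 (by norm_num) (by norm_num)
  rw [leech_count48] at hall
  have hmem : ∀ x : Cfsg.GolayPt → ℤ, Cfsg.sqNorm x = 48 → ∀ i, x i ∈ symVals 6 := fun x hx i =>
    mem_symVals (abs_le_of_sqNorm hx (by norm_num) i)
  refine ⟨?_, ?_, ?_, ?_⟩
  · rw [← count_two, ← ncard_leech_values _ (by decide) (by decide)]
    congr 1
    ext x
    simp only [Set.mem_setOf_eq, List.mem_cons, List.not_mem_nil, or_false]
    norm_num
  · rw [← count_three, ← ncard_leech_values _ (by decide) (by decide)]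
    congr 1
    ext x
    simp only [Set.mem_setOf_eq]
    refine and_congr_right fun hx => ?_
    norm_num
    refine fun hn => ?_
    exact three_iff hx hn
  · exact diff_count 4 3108864 hall hmem count_noFour
  · exact diff_count 5 98304 hall hmem count_noFive

end Cfsg.Agent.S1568
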