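import Cfsg.Statements.S1576
import Cfsg.Agent.Lib.Concrete.LeechPairOrbitsTwo

set_option autoImplicit false
open Cfsg

namespace Cfsg.Agent.S1576

/-- The stabiliser of a minimal vector is transitive on the pairs of opposite minimal vectors orthogonal to it. -/
theorem result (v w w' : ↥Cfsg.leechLattice) (hv : Cfsg.sqNorm (v : Cfsg.GolayPt → ℤ) = 32) (hw : Cfsg.sqNorm (w : Cfsg.GolayPt → ℤ) = 32) (hw' : Cfsg.sqNorm (w' : Cfsg.GolayPt → ℤ) = 32) (hd : Cfsg.dotInt (v : Cfsg.GolayPt → ℤ) (w : Cfsg.GolayPt → ℤ) = 0) (hd' : Cfsg.dotInt (v : Cfsg.GolayPt → ℤ) (w' : Cfsg.GolayPt → ℤ) = 0) : ∃ g : ↥Cfsg.Co0, g • v = v ∧ (g • w = w' ∨ g • w = -w') := by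
  obtain ⟨h, hh, hk⟩ := Cfsg.Lib.Concrete.exists_to_pairBase v hv
  have key : ∀ x : ↥Cfsg.leechLattice, Cfsg.sqNorm (x : Cfsg.GolayPt → ℤ) = 32 →
      Cfsg.dotInt (v : Cfsg.GolayPt → ℤ) (x : Cfsg.GolayPt → ℤ) = 0 →
      ∃ t, (t = fun p => if p = Cfsg.Lib.Concrete.gpt 0 then (4 : ℤ) else if p = Cfsg.Lib.Concrete.gpt 1 then -4 else 0) ∧
        (Cfsg.Lib.Concrete.PairFix ((h • x : ↥Cfsg.leechLattice) : Cfsg.GolayPt → ℤ) t ∨
          Cfsg.Lib.Concrete.PairFix (-((h • x : ↥Cfsg.leechLattice) : Cfsg.GolayPt → ℤ)) t) := fun x hx hx0 =>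
    ⟨_, rfl, Cfsg.Lib.Concrete.pairFix_perp
      (Cfsg.Lib.Concrete.mem_shell.2 ⟨(h • x).2, (Cfsg.Lib.Concrete.co0_sqNorm h x).trans hx⟩)
      (hk x 0 (hx0.trans (by norm_num)))⟩
  have hneg : ∀ (g : ↥Cfsg.Co0) (x : ↥Cfsg.leechLattice), g • (-x) = -(g • x) := fun g x =>
    map_neg (Cfsg.Lib.Concrete.co0Hom g) x
  obtain ⟨t, ht, ha⟩ := key w hw hd
  obtain ⟨t', ht', hb⟩ := key w' hw' hd'
  subst ht ht'
  rcases ha with ha | ha <;> rcases hb with hb | hb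
  · obtain ⟨g, h1, h2⟩ := Cfsg.Lib.Concrete.exists_fix_of_rel hh (ha.trans hb.symm)
    exact ⟨g, h1, Or.inl h2⟩
  · obtain ⟨g, h1, h2⟩ := Cfsg.Lib.Concrete.exists_fix_of_rel (w := w) (w' := -w') hh
      (by rw [hneg h w']; exact ha.trans hb.symm)
    exact ⟨g, h1, Or.inr h2⟩
  · obtain ⟨g, h1, h2⟩ := Cfsg.Lib.Concrete.exists_fix_of_rel (w := -w) (w' := w') hh
      (by rw [hneg h w]; exact ha.trans hb.symm)
    exact ⟨g, h1, Or.inr (by rw [← neg_neg (g • w), ← hneg g w, h2])⟩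
  · obtain ⟨g, h1, h2⟩ := Cfsg.Lib.Concrete.exists_fix_of_rel (w := -w) (w' := -w') hh
      (by rw [hneg h w, hneg h w']; exact ha.trans hb.symm)
    exact ⟨g, h1, Or.inl (neg_injective ((hneg g w).symm.trans h2))⟩

end Cfsg.Agent.S1576
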