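import Cfsg.Statements.S1577
import Cfsg.Agent.Lib.CoTwo.U62Pair
import Cfsg.Agent.Lib.MinusSix.Main

set_option autoImplicit false
open Cfsg

namespace Cfsg.Agent.S1577

/-- The joint stabiliser of two minimal vectors of customary inner product −2 is isomorphic to PSU(6, 2). -/
theorem result (v w : ↥Cfsg.leechLattice) (hv : Cfsg.sqNorm (v : Cfsg.GolayPt → ℤ) = 32) (hw : Cfsg.sqNorm (w : Cfsg.GolayPt → ℤ) = 32) (hd : Cfsg.dotInt (v : Cfsg.GolayPt → ℤ) (w : Cfsg.GolayPt → ℤ) = -16) (F : Type) [Field F] [Fintype F] (hF : Fintype.card F = 4) : Nonempty (↥(MulAction.stabilizer ↥Cfsg.Co0 v ⊓ MulAction.stabilizer ↥Cfsg.Co0 w) ≃* Cfsg.PSU 6 F 2) := by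
  classical
  obtain ⟨hv1, hw1, hd1⟩ := Lib.CoTwo.U62.pair_norms
  obtain ⟨k1, hk1⟩ := Lib.Concrete.exists_smul_eq_of_moves (Lib.Concrete.moves32 v.2 hv)
    (Lib.Concrete.moves32 Lib.CoTwo.U62.vOne.2 hv1)
  have hd2 : dotInt (Lib.CoTwo.U62.vOne : GolayPt → ℤ) ((k1 • w : leechLattice) : GolayPt → ℤ) = -16 := by
    have h := Lib.Concrete.co0_dot k1 v w
    rw [hk1] at h
    exact h.trans hd
  obtain ⟨g, hg1, hg2⟩ := Cfsg.Agent.S1574.result Lib.CoTwo.U62.vOne (k1 • w) Lib.CoTwo.U62.vTwo hv1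
    ((Lib.Concrete.co0_sqNorm k1 w).trans hw) hw1 hd2 hd1
  set k := g * k1 with hk
  have e1 : k • v = Lib.CoTwo.U62.vOne := by rw [hk, mul_smul, hk1, hg1]
  have e2 : k • w = Lib.CoTwo.U62.vTwo := by rw [hk, mul_smul, hg2]
  have hmap : (MulAction.stabilizer Co0 v ⊓ MulAction.stabilizer Co0 w).map (MulAut.conj k).toMonoidHom =
      Lib.CoTwo.U62.pairStab := by
    rw [Subgroup.map_inf _ _ _ (MulAut.conj k).injective, ← MulAction.stabilizer_smul_eq_stabilizer_map_conj,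
      ← MulAction.stabilizer_smul_eq_stabilizer_map_conj, e1, e2]
  obtain ⟨e⟩ := Lib.CoTwo.U62.pairStab_equiv
  obtain ⟨f⟩ := Cfsg.Lib.MinusSix.psu_congr
    (FiniteField.ringEquivOfCardEq (K := Lib.CosetEnum.GF4) (K' := F) (by rw [hF]; rfl)) 6 2
  exact ⟨(((MulAut.conj k).subgroupMap _).trans (MulEquiv.subgroupCongr hmap)).trans (e.trans f)⟩

end Cfsg.Agent.S1577
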