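import Cfsg.Statements.S1578
import Cfsg.Agent.Lib.Concrete.LeechCensus

set_option autoImplicit false
open Cfsg

namespace Cfsg.Agent.S1578

/-- A lattice vector of customary norm 6 is the sum of an unordered pair of minimal vectors in exactly 276 ways (552 ordered summands). -/
theorem result (u : ↥Cfsg.leechLattice) (hu : Cfsg.sqNorm (u : Cfsg.GolayPt → ℤ) = 48) : {v : ↥Cfsg.leechLattice | Cfsg.sqNorm (v : Cfsg.GolayPt → ℤ) = 32 ∧ Cfsg.sqNorm ((u - v) : Cfsg.GolayPt → ℤ) = 32}.ncard = 552 := by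
  rw [← Set.ncard_image_of_injective _ Subtype.val_injective, ← Cfsg.Lib.Concrete.census48.2.1,
    ← Cfsg.Lib.Concrete.dotCount_moves (Cfsg.Lib.Concrete.moves48 u.2 hu) 24, Cfsg.Lib.Concrete.dotCount,
    ← Set.ncard_coe_finset]
  refine congrArg Set.ncard (Set.ext fun w => ?_)
  simp only [Set.mem_image, Set.mem_setOf_eq, Finset.coe_filter, Cfsg.Lib.Concrete.mem_shell]
  constructor
  · rintro ⟨v, ⟨h1, h2⟩, rfl⟩
    rw [Cfsg.Lib.Concrete.sqNorm_sub', hu, h1] at h2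
    exact ⟨⟨v.2, h1⟩, by omega⟩
  · rintro ⟨⟨hw, h1⟩, h2⟩
    exact ⟨⟨w, hw⟩, ⟨h1, by rw [Cfsg.Lib.Concrete.sqNorm_sub', hu, h1, h2]; norm_num⟩, rfl⟩

end Cfsg.Agent.S1578
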