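import Cfsg.Statements.S1579
import Cfsg.Agent.Lib.Concrete.LeechPairOrbitsTwo

set_option autoImplicit false
open Cfsg

namespace Cfsg.Agent.S1579

/-- The stabiliser of a vector of customary norm 6 is transitive on the 552 minimal vectors that complete it to a sum of two minimal vectors. -/
theorem result (u v v' : ↥Cfsg.leechLattice) (hu : Cfsg.sqNorm (u : Cfsg.GolayPt → ℤ) = 48) (hv : Cfsg.sqNorm (v : Cfsg.GolayPt → ℤ) = 32 ∧ Cfsg.sqNorm ((u - v) : Cfsg.GolayPt → ℤ) = 32) (hv' : Cfsg.sqNorm (v' : Cfsg.GolayPt → ℤ) = 32 ∧ Cfsg.sqNorm ((u - v') : Cfsg.GolayPt → ℤ) = 32) : ∃ g : ↥Cfsg.Co0, g • u = u ∧ g • v = v' := by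
  have hsub := fun (a : ↥Cfsg.leechLattice) (h1 : Cfsg.sqNorm (a : Cfsg.GolayPt → ℤ) = 32)
      (h2 : Cfsg.sqNorm ((u - a) : Cfsg.GolayPt → ℤ) = 32) =>
    show Cfsg.dotInt (a : Cfsg.GolayPt → ℤ) ((u - a : ↥Cfsg.leechLattice) : Cfsg.GolayPt → ℤ) = 4 * (-2) by
      rw [Cfsg.Lib.Concrete.sqNorm_sub', hu, h1] at h2
      rw [AddSubgroup.coe_sub, sub_eq_add_neg, Cfsg.Lib.Concrete.dotInt_add_right, Cfsg.Lib.Concrete.dotInt_neg_right,
        Cfsg.Lib.Concrete.dotInt_self, h1, Cfsg.Lib.Concrete.dotInt_comm]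
      omega
  obtain ⟨g, hg⟩ := Cfsg.Lib.Concrete.exists_smul_eq_of_moves (Cfsg.Lib.Concrete.moves32 v.2 hv.1)
    (Cfsg.Lib.Concrete.moves32 v'.2 hv'.1)
  have hd : Cfsg.dotInt (v' : Cfsg.GolayPt → ℤ) ((g • (u - v) : ↥Cfsg.leechLattice) : Cfsg.GolayPt → ℤ) = 4 * (-2) := by
    rw [← hg, Cfsg.Lib.Concrete.co0_dot]
    exact hsub v hv.1 hv.2
  obtain ⟨k, hk1, hk2⟩ := Cfsg.Lib.Concrete.exists_fix_of_pairFix (v := v') (w := g • (u - v)) (w' := u - v') hv'.1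
    ((Cfsg.Lib.Concrete.co0_sqNorm g _).trans (by rw [AddSubgroup.coe_sub]; exact hv.2))
    (by rw [AddSubgroup.coe_sub]; exact hv'.2) hd (hsub v' hv'.1 hv'.2)
    fun x hx hs => Cfsg.Lib.Concrete.pairFix_eight hx hs
  refine ⟨k * g, ?_, ?_⟩
  · have h2 : (k * g) • v + (k * g) • (u - v) = v' + (u - v') := by rw [mul_smul, mul_smul, hg, hk1, hk2]
    rwa [← Cfsg.Lib.Concrete.co0_add, add_sub_cancel, add_sub_cancel] at h2
  · rw [mul_smul, hg, hk1]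

end Cfsg.Agent.S1579
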