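import Cfsg.Statements.S1581
import Cfsg.Agent.Lib.Concrete.LeechMcl275
import Cfsg.Agent.S1575

set_option autoImplicit false
open Cfsg

namespace Cfsg.Agent.S1581

/-- The McLaughlin group acts with rank 3 and subdegrees 1, 112, 162 on its 275 points: the point stabiliser has two orbits on the remaining points, distinguished by customary inner product 1 or 2 with the fixed point. -/
theorem result (u v x : ↥Cfsg.leechLattice) (hu : Cfsg.sqNorm (u : Cfsg.GolayPt → ℤ) = 48) (hv : Cfsg.sqNorm (v : Cfsg.GolayPt → ℤ) = 32 ∧ Cfsg.sqNorm ((u - v) : Cfsg.GolayPt → ℤ) = 32) (hx : x ∈ {x : ↥Cfsg.leechLattice | Cfsg.sqNorm (x : Cfsg.GolayPt → ℤ) = 32 ∧ Cfsg.sqNorm ((u - x) : Cfsg.GolayPt → ℤ) = 32 ∧ Cfsg.dotInt (v : Cfsg.GolayPt → ℤ) (x : Cfsg.GolayPt → ℤ) = 16}) : {y : ↥Cfsg.leechLattice | y ∈ {x : ↥Cfsg.leechLattice | Cfsg.sqNorm (x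 : Cfsg.GolayPt → ℤ) = 32 ∧ Cfsg.sqNorm ((u - x) : Cfsg.GolayPt → ℤ) = 32 ∧ Cfsg.dotInt (v : Cfsg.GolayPt → ℤ) (x : Cfsg.GolayPt → ℤ) = 16} ∧ Cfsg.dotInt (x : Cfsg.GolayPt → ℤ) (y : Cfsg.GolayPt → ℤ) = 8}.ncard = 112 ∧ {y : ↥Cfsg.leechLattice | y ∈ {x : ↥Cfsg.leechLattice | Cfsg.sqNorm (x : Cfsg.GolayPt → ℤ) = 32 ∧ Cfsg.sqNorm ((u - x) : Cfsg.GolayPt → ℤ) = 32 ∧ Cfsg.dotInt (v : Cfsg.GolayPt → ℤ) (x : Cfsg.GolayPt → ℤ) = 16} ∧ y ≠ x ∧ Cfsg.dotInt (x : Cfsg.GolayPt → ℤ) (y : Cfsg.GolayPt → ℤ) = 16}.ncard = 162 ∧ ∀ y ∈ {x : ↥Cfsg.leechLattice | Cfsg.sqNorm (x : Cfsg.GolayPt → ℤ) = 32 ∧ Cfsg.sqNorm ((u - x) : Cfsg.GolayPt → ℤ) = 32 ∧ Cfsg.dotInt (v : Cfsg.GolayPt → ℤ) (x : Cfsg.GolayPt → ℤ) = 16}, ∀ y' ∈ {x : ↥Cfsg.leechLattice | Cfsg.sqNorm (x : Cfsg.GolayPt → ℤ) = 32 ∧ Cfsg.sqNorm ((u - x) : Cfsg.GolayPt → ℤ) = 32 ∧ Cfsg.dotInt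 (v : Cfsg.GolayPt → ℤ) (x : Cfsg.GolayPt → ℤ) = 16}, y ≠ x → y' ≠ x → Cfsg.dotInt (x : Cfsg.GolayPt → ℤ) (y : Cfsg.GolayPt → ℤ) = Cfsg.dotInt (x : Cfsg.GolayPt → ℤ) (y' : Cfsg.GolayPt → ℤ) → ∃ g : ↥Cfsg.Co0, g • u = u ∧ g • v = v ∧ g • x = x ∧ g • y = y' := by
  classical
  obtain ⟨hv1, hv2⟩ := hv
  obtain ⟨-, -, -, -, -, -, -, hu0, hv0, huv0, -, -, -, -, -⟩ := Cfsg.Lib.Concrete.mclRankThree_vals
  have hdots : ∀ a b : ↥Cfsg.leechLattice, Cfsg.sqNorm (a : Cfsg.GolayPt → ℤ) = 48 → Cfsg.sqNorm (b : Cfsg.GolayPt → ℤ) = 32 →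
      Cfsg.sqNorm ((a - b) : Cfsg.GolayPt → ℤ) = 32 →
      Cfsg.dotInt (b : Cfsg.GolayPt → ℤ) ((a - b : ↥Cfsg.leechLattice) : Cfsg.GolayPt → ℤ) = -8 := fun a b h1 h2 h3 => by
    have h4 := h3
    rw [Cfsg.Lib.Concrete.sqNorm_sub', h1, h2, Cfsg.Lib.Concrete.dotInt_comm] at h4
    rw [AddSubgroup.coe_sub, sub_eq_add_neg, Cfsg.Lib.Concrete.dotInt_add_right, Cfsg.Lib.Concrete.dotInt_neg_right,
      Cfsg.Lib.Concrete.dotInt_self, h2]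
    omega
  obtain ⟨g, hg⟩ := Cfsg.Lib.Concrete.exists_smul_eq_of_moves
    (Cfsg.Lib.Concrete.moves32 Cfsg.Lib.Concrete.mclVL.2 hv0) (Cfsg.Lib.Concrete.moves32 v.2 hv1)
  have hd : Cfsg.dotInt (v : Cfsg.GolayPt → ℤ)
      ((g • (Cfsg.Lib.Concrete.mclUL - Cfsg.Lib.Concrete.mclVL) : Cfsg.leechLattice) : Cfsg.GolayPt → ℤ) = -8 := by
    rw [← hg, Cfsg.Lib.Concrete.co0_dot]
    exact hdots _ _ hu0 hv0 huv0
  obtain ⟨k, k1, k2⟩ := Cfsg.Agent.S1575.result v (g • (Cfsg.Lib.Concrete.mclUL - Cfsg.Lib.Concrete.mclVL)) (u - v) hv1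
    ((Cfsg.Lib.Concrete.co0_sqNorm g _).trans (by rw [AddSubgroup.coe_sub]; exact huv0)) (by rw [AddSubgroup.coe_sub]; exact hv2)
    hd (hdots u v hu hv1 hv2)
  have kV : (k * g) • Cfsg.Lib.Concrete.mclVL = v := by rw [mul_smul, hg, k1]
  have kU : (k * g) • Cfsg.Lib.Concrete.mclUL = u := by
    have h3 : (k * g) • Cfsg.Lib.Concrete.mclVL + (k * g) • (Cfsg.Lib.Concrete.mclUL - Cfsg.Lib.Concrete.mclVL) = v + (u - v) := by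
      rw [kV, mul_smul, k2]
    rwa [← Cfsg.Lib.Concrete.co0_add, add_sub_cancel, add_sub_cancel] at h3
  have hX : (k * g) • Cfsg.Lib.Concrete.mclXL ∈ Cfsg.Lib.Concrete.mclSet u v := by
    rw [← kU, ← kV]
    exact (Cfsg.Lib.Concrete.mclSet_smul _).2 Cfsg.Lib.Concrete.mclXL_mem
  obtain ⟨l, l1, l2, l3⟩ := (Cfsg.Agent.S1580.result u v hu ⟨hv1, hv2⟩).2 _ hX x hx
  obtain ⟨c, hc1, hc2, hc3⟩ : ∃ c : ↥Cfsg.Co0, c • Cfsg.Lib.Concrete.mclUL = u ∧ c • Cfsg.Lib.Concrete.mclVL = v ∧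
      c • Cfsg.Lib.Concrete.mclXL = x :=
    ⟨l * (k * g), by rw [mul_smul, kU, l1], by rw [mul_smul, kV, l2], by rw [mul_smul, l3]⟩
  subst hc1 hc2 hc3
  obtain ⟨h22, h77, horb⟩ := Cfsg.Lib.Concrete.mcl_rank_three
  have hm : ∀ y : Cfsg.leechLattice, c • y ∈ Cfsg.Lib.Concrete.mclSet (c • Cfsg.Lib.Concrete.mclUL) (c • Cfsg.Lib.Concrete.mclVL) ↔
      y ∈ Cfsg.Lib.Concrete.mclSet Cfsg.Lib.Concrete.mclUL Cfsg.Lib.Concrete.mclVL :=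
    fun y => Cfsg.Lib.Concrete.mclSet_smul c
  refine ⟨?_, ?_, ?_⟩
  · refine Eq.trans (congrArg Set.ncard (Set.ext fun z => ?_)) ((Set.ncard_image_of_injective _ (MulAction.injective c)).trans h22)
    obtain ⟨y, rfl⟩ := MulAction.surjective c z
    simp only [Set.mem_image, (MulAction.injective c).eq_iff, exists_eq_right]
    exact ⟨fun ⟨a, b⟩ => ⟨(hm y).1 a, (Cfsg.Lib.Concrete.co0_dot c _ y).symm.trans b⟩,
      fun ⟨a, b⟩ => ⟨(hm y).2 a, (Cfsg.Lib.Concrete.co0_dot c _ y).trans b⟩⟩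
  · refine Eq.trans (congrArg Set.ncard (Set.ext fun z => ?_)) ((Set.ncard_image_of_injective _ (MulAction.injective c)).trans h77)
    obtain ⟨y, rfl⟩ := MulAction.surjective c z
    simp only [Set.mem_image, (MulAction.injective c).eq_iff, exists_eq_right]
    exact ⟨fun ⟨a, b, d⟩ => ⟨(hm y).1 a, fun e => b (congrArg (c • ·) e), (Cfsg.Lib.Concrete.co0_dot c _ y).symm.trans d⟩,
      fun ⟨a, b, d⟩ => ⟨(hm y).2 a, fun e => b (MulAction.injective c e), (Cfsg.Lib.Concrete.co0_dot c _ y).trans d⟩⟩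
  · intro z hz z' hz' hne hne' hd
    obtain ⟨y, rfl⟩ := MulAction.surjective c z
    obtain ⟨y', rfl⟩ := MulAction.surjective c z'
    rw [Cfsg.Lib.Concrete.co0_dot, Cfsg.Lib.Concrete.co0_dot] at hd
    obtain ⟨g, g1, g2, g3, g4⟩ := horb y ((hm y).1 hz) y' ((hm y').1 hz')
      (fun e => hne (congrArg (c • ·) e)) (fun e => hne' (congrArg (c • ·) e)) hd
    refine ⟨c * g * c⁻¹, ?_, ?_, ?_, ?_⟩ <;> rw [mul_smul, mul_smul, inv_smul_smul]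
    · rw [g1]
    · rw [g2]
    · rw [g3]
    · rw [g4]

end Cfsg.Agent.S1581
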