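import Cfsg.Statements.S1584
import Cfsg.Agent.Lib.Concrete.LeechHundred

set_option autoImplicit false
open Cfsg

namespace Cfsg.Agent.S1584

/-- The Higman–Sims group acts with rank 3 and subdegrees 1, 22, 77 on its 100 points, the orbits of a point stabiliser being distinguished by customary inner product 1 with the fixed point. -/
theorem result (v w x : ↥Cfsg.leechLattice) (hv : Cfsg.sqNorm (v : Cfsg.GolayPt → ℤ) = 48) (hw : Cfsg.sqNorm (w : Cfsg.GolayPt → ℤ) = 48) (hvw : Cfsg.dotInt (v : Cfsg.GolayPt → ℤ) (w : Cfsg.GolayPt → ℤ) = -32) (hx : x ∈ {x : ↥Cfsg.leechLattice | Cfsg.sqNorm (x : Cfsg.GolayPt → ℤ) = 32 ∧ Cfsg.dotInt (v : Cfsg.GolayPt → ℤ) (x : Cfsg.GolayPt → ℤ) = 24 ∧ Cfsg.dotInt (w : Cfsg.GolayPt → ℤ) (x : Cfsg.GolayPt → ℤ) = -24}) : {y : ↥Cfsg.leechLattice | y ∈ {x : ↥Cfsg.leechLattice | Cfsg.sqNorm (x :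 Cfsg.GolayPt → ℤ) = 32 ∧ Cfsg.dotInt (v : Cfsg.GolayPt → ℤ) (x : Cfsg.GolayPt → ℤ) = 24 ∧ Cfsg.dotInt (w : Cfsg.GolayPt → ℤ) (x : Cfsg.GolayPt → ℤ) = -24} ∧ Cfsg.dotInt (x : Cfsg.GolayPt → ℤ) (y : Cfsg.GolayPt → ℤ) = 8}.ncard = 22 ∧ {y : ↥Cfsg.leechLattice | y ∈ {x : ↥Cfsg.leechLattice | Cfsg.sqNorm (x : Cfsg.GolayPt → ℤ) = 32 ∧ Cfsg.dotInt (v : Cfsg.GolayPt → ℤ) (x : Cfsg.GolayPt → ℤ) = 24 ∧ Cfsg.dotInt (w : Cfsg.GolayPt → ℤ) (x : Cfsg.GolayPt → ℤ) = -24} ∧ y ≠ x ∧ Cfsg.dotInt (x : Cfsg.GolayPt → ℤ) (y : Cfsg.GolayPt → ℤ) ≠ 8}.ncard = 77 ∧ ∀ y ∈ {x : ↥Cfsg.leechLattice | Cfsg.sqNorm (x : Cfsg.GolayPt → ℤ) = 32 ∧ Cfsg.dotInt (v : Cfsg.GolayPt → ℤ) (x : Cfsg.GolayPt → ℤ) = 24 ∧ Cfsg.dotInt (w : Cfsg.GolayPt → ℤ) (x : Cfsg.GolayPt → ℤ) = -24}, ∀ y' ∈ {x : ↥Cfsg.leechLattice | Cfsg.sqNorm (x : Cfsg.GolayPt → ℤ) = 32 ∧ Cfsg.dotInt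 (v : Cfsg.GolayPt → ℤ) (x : Cfsg.GolayPt → ℤ) = 24 ∧ Cfsg.dotInt (w : Cfsg.GolayPt → ℤ) (x : Cfsg.GolayPt → ℤ) = -24}, y ≠ x → y' ≠ x → (Cfsg.dotInt (x : Cfsg.GolayPt → ℤ) (y : Cfsg.GolayPt → ℤ) = 8 ↔ Cfsg.dotInt (x : Cfsg.GolayPt → ℤ) (y' : Cfsg.GolayPt → ℤ) = 8) → ∃ g : ↥Cfsg.Co0, g • v = v ∧ g • w = w ∧ g • x = x ∧ g • y = y' := by
  classical
  obtain ⟨k, hk1, hk2, hk3⟩ := Cfsg.Lib.Concrete.exists_triple hv hw hvw hx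
  subst hk1 hk2 hk3
  obtain ⟨h22, h77, horb⟩ := Cfsg.Lib.Concrete.hundred_rank_three
  have hm : ∀ y : Cfsg.leechLattice, k • y ∈ Cfsg.Lib.Concrete.hundredSet (k • Cfsg.Lib.Concrete.fiveL) (k • Cfsg.Lib.Concrete.fiveNegL) ↔
      y ∈ Cfsg.Lib.Concrete.hundredSet Cfsg.Lib.Concrete.fiveL Cfsg.Lib.Concrete.fiveNegL :=
    fun y => Cfsg.Lib.Concrete.smul_hundred k
  refine ⟨?_, ?_, ?_⟩
  · refine Eq.trans (congrArg Set.ncard (Set.ext fun z => ?_)) ((Set.ncard_image_of_injective _ (MulAction.injective k)).trans h22)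
    obtain ⟨y, rfl⟩ := MulAction.surjective k z
    simp only [Set.mem_image, (MulAction.injective k).eq_iff, exists_eq_right]
    exact ⟨fun ⟨a, b⟩ => ⟨(hm y).1 a, (Cfsg.Lib.Concrete.co0_dot k _ y).symm.trans b⟩,
      fun ⟨a, b⟩ => ⟨(hm y).2 a, (Cfsg.Lib.Concrete.co0_dot k _ y).trans b⟩⟩
  · refine Eq.trans (congrArg Set.ncard (Set.ext fun z => ?_)) ((Set.ncard_image_of_injective _ (MulAction.injective k)).trans h77)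
    obtain ⟨y, rfl⟩ := MulAction.surjective k z
    simp only [Set.mem_image, (MulAction.injective k).eq_iff, exists_eq_right]
    exact ⟨fun ⟨a, b, c⟩ => ⟨(hm y).1 a, fun e => b (congrArg (k • ·) e), fun e => c ((Cfsg.Lib.Concrete.co0_dot k _ y).trans e)⟩,
      fun ⟨a, b, c⟩ => ⟨(hm y).2 a, fun e => b (MulAction.injective k e), fun e => c ((Cfsg.Lib.Concrete.co0_dot k _ y).symm.trans e)⟩⟩
  · intro z hz z' hz' hne hne' hiff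
    obtain ⟨y, rfl⟩ := MulAction.surjective k z
    obtain ⟨y', rfl⟩ := MulAction.surjective k z'
    rw [Cfsg.Lib.Concrete.co0_dot, Cfsg.Lib.Concrete.co0_dot] at hiff
    obtain ⟨g, g1, g2, g3, g4⟩ := horb y ((hm y).1 hz) y' ((hm y').1 hz')
      (fun e => hne (congrArg (k • ·) e)) (fun e => hne' (congrArg (k • ·) e)) hiff
    refine ⟨k * g * k⁻¹, ?_, ?_, ?_, ?_⟩ <;> rw [mul_smul, mul_smul, inv_smul_smul]
    · rw [g1]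
    · rw [g2]
    · rw [g3]
    · rw [g4]

end Cfsg.Agent.S1584
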