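import Cfsg.Statements.S1585
import Cfsg.Agent.Lib.Concrete.LeechPairOrbitsTwo

set_option autoImplicit false
open Cfsg

namespace Cfsg.Agent.S1585

/-- Two vectors of customary norm 6 with inner product −4 are exchanged by some automorphism of the lattice. -/
theorem result (v w : ↥Cfsg.leechLattice) (hv : Cfsg.sqNorm (v : Cfsg.GolayPt → ℤ) = 48) (hw : Cfsg.sqNorm (w : Cfsg.GolayPt → ℤ) = 48) (hvw : Cfsg.dotInt (v : Cfsg.GolayPt → ℤ) (w : Cfsg.GolayPt → ℤ) = -32) : ∃ g : ↥Cfsg.Co0, g • v = w ∧ g • w = v := by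
  have hz : Cfsg.sqNorm ((-(v + w) : ↥Cfsg.leechLattice) : Cfsg.GolayPt → ℤ) = 32 := by
    rw [AddSubgroup.coe_neg, Cfsg.Lib.Concrete.sqNorm_neg', AddSubgroup.coe_add, Cfsg.Lib.Concrete.sqNorm_add,
      hv, hw, hvw]
    norm_num
  have hd : ∀ a : ↥Cfsg.leechLattice, (a = v ∨ a = w) →
      Cfsg.dotInt ((-(v + w) : ↥Cfsg.leechLattice) : Cfsg.GolayPt → ℤ) (a : Cfsg.GolayPt → ℤ) = -16 := by
    intro a ha
    rw [Cfsg.Lib.Concrete.dotInt_comm, AddSubgroup.coe_neg, Cfsg.Lib.Concrete.dotInt_neg_right, AddSubgroup.coe_add,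
      Cfsg.Lib.Concrete.dotInt_add_right]
    rcases ha with rfl | rfl
    · rw [Cfsg.Lib.Concrete.dotInt_self, hv, hvw]; norm_num
    · rw [Cfsg.Lib.Concrete.dotInt_self, hw, Cfsg.Lib.Concrete.dotInt_comm, hvw]; norm_num
  obtain ⟨g, h1, h2⟩ := Cfsg.Lib.Concrete.exists_fix_fortyEight hz hv hw (hd v (Or.inl rfl)) (hd w (Or.inr rfl))
  refine ⟨g, h2, ?_⟩
  have h3 : g • (v + w) = v + w := neg_injective ((map_neg (Cfsg.Lib.Concrete.co0Hom g) (v + w)).symm.trans h1)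
  rw [Cfsg.Lib.Concrete.co0_add, h2] at h3
  exact add_left_cancel (h3.trans (add_comm v w))

end Cfsg.Agent.S1585
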