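import Cfsg.Statements.S1587
import Mathlib

set_option autoImplicit false
open Matrix
open Cfsg

namespace Cfsg.Agent.S1587

/-- First step of the characterisation of the rank-24 lattice: in an even lattice without roots, norm-8 vectors congruent modulo 2 are equal, opposite or orthogonal. -/
theorem result (B : Matrix (Fin 24) (Fin 24) ℤ) (hsymm : B.IsSymm) (hpos : ∀ x : Fin 24 → ℤ, x ≠ 0 → 0 < x ⬝ᵥ (B *ᵥ x)) (heven : ∀ x : Fin 24 → ℤ, (2 : ℤ) ∣ x ⬝ᵥ (B *ᵥ x)) (h2 : ∀ x : Fin 24 → ℤ, x ⬝ᵥ (B *ᵥ x) ≠ 2) (x y : Fin 24 → ℤ) (hx : x ⬝ᵥ (B *ᵥ x) = 8) (hy : y ⬝ᵥ (B *ᵥ y) = 8) (hc : ∀ i, (2 : ℤ) ∣ (x - y) i) : y = x ∨ y = -x ∨ x ⬝ᵥ (B *ᵥ y) = 0 := by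
  set q : (Fin 24 → ℤ) → (Fin 24 → ℤ) → ℤ := fun a b => a ⬝ᵥ (B *ᵥ b) with hq
  have hs : ∀ a b, q a b = q b a := fun a b => by
    simp only [hq]
    rw [Matrix.dotProduct_mulVec, ← Matrix.mulVec_transpose, hsymm.eq, dotProduct_comm]
  choose z hz using hc
  have hxy : x = y + (2 : ℤ) • z := funext fun i => by
    have := hz i
    simp only [Pi.sub_apply, Pi.add_apply, Pi.smul_apply, smul_eq_mul] at this ⊢
    linarith
  have key : ∀ w : Fin 24 → ℤ, w ≠ 0 → 4 ≤ q w w := fun w hw => by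
    have a := hpos w hw
    obtain ⟨c, hc'⟩ := heven w
    have b := h2 w
    simp only [hq]
    omega
  by_cases h0 : z = 0
  · left; rw [hxy, h0]; simp
  by_cases h1 : y + z = 0
  · right; left
    have hz' : z = -y := by rw [eq_neg_iff_add_eq_zero, add_comm]; exact h1
    rw [hxy, hz']; ext i; simp only [Pi.neg_apply, Pi.add_apply, Pi.smul_apply, smul_eq_mul]; ring
  right; right
  have k1 := key z h0
  have k2 := key (y + z) h1
  have ex : q x x = q y y + 4 * q y z + 4 * q z z := by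
    rw [hxy]
    have := hs z y
    simp only [hq, Matrix.mulVec_add, Matrix.mulVec_smul, dotProduct_add, add_dotProduct, dotProduct_smul,
      smul_dotProduct, smul_eq_mul] at this ⊢
    rw [this]; ring
  have ey : q (y + z) (y + z) = q y y + 2 * q y z + q z z := by
    have := hs z y
    simp only [hq, Matrix.mulVec_add, dotProduct_add, add_dotProduct] at this ⊢
    rw [this]; ring
  have exy : q x y = q y y + 2 * q y z := by
    rw [hxy]
    have := hs z y
    simp only [hq, dotProduct_add, add_dotProduct, smul_dotProduct, smul_eq_mul] at this ⊢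
    rw [this]
  have ex8 : q x x = 8 := hx
  have ey8 : q y y = 8 := hy
  show q x y = 0
  omega

end Cfsg.Agent.S1587
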