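import Cfsg.Statements.S1595
import Cfsg.Agent.Lib.Concrete.Steiner

set_option autoImplicit false
open Cfsg Cfsg.Lib.Concrete

namespace Cfsg.Agent.S1595

/-- Leech triangle of S(5, 6, 12): blocks meet in 0, 2, 3 or 4 points, and a block is met exactly in a given 2-, 3- or 4-subset by 3, 2, 3 blocks respectively. -/
theorem result {α : Type*} [Fintype α] [DecidableEq α] (hα : Fintype.card α = 12) {B : Set (Finset α)} (hB : Cfsg.IsSteinerSystem 5 6 B) (b : Finset α) (hb : b ∈ B) : (∀ c ∈ B, c ≠ b → (b ∩ c).card = 0 ∨ (b ∩ c).card = 2 ∨ (b ∩ c).card = 3 ∨ (b ∩ c).card = 4) ∧ ∀ s ⊆ b, (s.card = 2 → {c : Finset α | c ∈ B ∧ b ∩ c = s}.ncard = 3) ∧ (s.card = 3 → {c : Finset α | c ∈ B ∧ b ∩ c = s}.ncard = 2) ∧ (s.card = 4 → {c : Finset α | c ∈ B ∧ b ∩ c = s}.ncard = 3) := by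
  classical
  refine ⟨fun c hc hcb => ?_, fun s hs => ?_⟩
  · have h := steiner_inter_card hB (fun j => [1, 0, 3, 2, 3].getD j 0)
      (fun i => [132, 66, 30, 12, 4].getD i 0) (by rw [hα]; decide) (by decide) (by decide) hb hc hcb
    have hle : (b ∩ c).card ≤ 6 := hB.1 b hb ▸ Finset.card_le_card Finset.inter_subset_left
    interval_cases hn : (b ∩ c).card <;> simp_all
  · have h := steiner_inter_count hB (fun j => [1, 0, 3, 2, 3].getD j 0)
      (fun i => [132, 66, 30, 12, 4].getD i 0) (by rw [hα]; decide) (by decide) (by decide) hb hs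
    have hset : s ≠ b → {c : Finset α | c ∈ B ∧ b ∩ c = s} =
        {c : Finset α | c ∈ B ∧ c ≠ b ∧ b ∩ c = s} := fun hne => by
      ext c
      exact ⟨fun ⟨hc, hi⟩ => ⟨hc, fun e => hne (by rw [← hi, e, Finset.inter_self]), hi⟩,
        fun ⟨hc, _, hi⟩ => ⟨hc, hi⟩⟩
    have hne : s.card < 6 → s ≠ b := fun hlt e => by
      rw [e, hB.1 b hb] at hlt; exact lt_irrefl _ hlt
    refine ⟨fun hn => ?_, fun hn => ?_, fun hn => ?_⟩ <;>
      rw [hset (hne (by omega)), h, hn] <;> rfl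

end Cfsg.Agent.S1595
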