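import Cfsg.Statements.S1601
import Cfsg.Agent.Lib.H3.PermList
import Cfsg.Agent.Lib.Linear.GLTwo

set_option linter.style.haveILetI false

set_option autoImplicit false
open scoped Pointwise
open Cfsg

namespace Cfsg.Agent.S1601

open Cfsg.Lib.Concrete Cfsg.Lib.H3.PermList MulAction
open scoped Pointwise MatrixGroups

def upList : List ℕ := [984818244535754528103549039458486304, 966545692618102449638868770151870529, 964602403978965615353262852954211714, 972448448761324701152865347793606188, 970402382752595320335669030804278961, 975511661423956018614538293158645365, 968379904878807349631044119947186291, 973610275199280854478733015002794115, 981444749592926938600719259499283012, 963671198830618023868058644355121682, 967773476270921369434445057646756880]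

def diList : List ℕ := [0, 984818244535754528103549039458486304, 975597940992233241402042146892648992, 968414725478225719073428596331777600, 972755933860508132696556960981533344, 974253013688755149723621400003497344, 974253013688755149723621400003497344, 972755933860508132696556960981533344, 968414725478225719073428596331777600, 975597940992233241402042146892648992, 984818244535754528103549039458486304]

def wP : ℕ := 973001842969189728748868071892566048

/-- Packed composition. -/
def pc (p q : ℕ) : ℕ := packList (bits24.map fun i => pget p (pget q i))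

def upP (k : ZMod 11) : ℕ := upList.getD k.val 0
def diP (k : ZMod 11) : ℕ := diList.getD k.val 0

/-- The image of a matrix with entries `a b c d`. -/
def imgP (a b c d : ZMod 11) : ℕ :=
  if c.val = 0 then pc (diP a) (upP (b * a ^ 9)) else pc (pc (upP (a * c ^ 9)) wP) (pc (diP c) (upP (d * c ^ 9)))

theorem gens_ok : okIn [mD, mP, mX] wP = true ∧ (∀ k : ZMod 11, okIn [mD, mP, mX] (upP k) = true) ∧
    ∀ k : ZMod 11, k ≠ 0 → okIn [mD, mP, mX] (diP k) = true := by decide +kernel

set_option maxRecDepth 100000 in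
theorem img_up : ∀ a b c d : ZMod 11, a * d - b * c = 1 →
    prodCheck (upP 1) (imgP a b c d) (imgP (a + c) (b + d) c d) = true := by decide +kernel

set_option maxRecDepth 100000 in
theorem img_w : ∀ a b c d : ZMod 11, a * d - b * c = 1 →
    prodCheck wP (imgP a b c d) (imgP (-c) (-d) a b) = true := by decide +kernel

set_option maxRecDepth 100000 in
theorem img_ker : ∀ a b c d : ZMod 11, a * d - b * c = 1 →
    (bits24.all fun i => Nat.beq (pget (imgP a b c d) i) i) = true → b = 0 ∧ c = 0 ∧ a = d := by decide +kernel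

theorem img_gen : (bits24.all fun i => Nat.beq (pget (imgP 1 1 0 1) i) (pget (upP 1) i)) = true ∧
    (bits24.all fun i => Nat.beq (pget (imgP 0 (-1) 1 0) i) (pget wP i)) = true := by decide +kernel

theorem img_id : (bits24.all fun i => Nat.beq (pget (imgP 1 0 0 1) i) i) = true ∧
    (bits24.all fun i => Nat.beq (pget (imgP (-1) 0 0 (-1)) i) i) = true := by decide +kernel

theorem diag_word : ∀ a : ZMod 11, a ≠ 0 →
    !![a, 0; 0, a ^ 9] = !![1, -a; 0, 1] * !![0, -1; 1, 0] * !![1, -(a ^ 9); 0, 1] * !![0, -1; 1, 0] *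
      !![1, -a; 0, 1] * !![0, -1; 1, 0] := by decide +kernel

theorem pc_check (p q : ℕ) : prodCheck p q (pc p q) = true := by
  rw [prodCheck, List.all_eq_true]
  intro i hi
  rw [Nat.beq_eq, pc, pget_packList _ (fun a ha => by
      obtain ⟨j, -, rfl⟩ := List.mem_map.1 ha
      exact Nat.lt_succ_of_le Nat.and_le_right) i (by simpa [bits24] using mem_bits24.1 hi)]
  have hi' := mem_bits24.1 hi
  interval_cases i <;> rfl

theorem pc_mem {K : Subgroup (Equiv.Perm GolayPt)} {p q : ℕ} (hp : ∃ g ∈ K, Rep g p) (hq : ∃ g ∈ K, Rep g q) :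
    ∃ g ∈ K, Rep g (pc p q) := by
  obtain ⟨g, hg, hgr⟩ := hp
  obtain ⟨h, hh, hhr⟩ := hq
  exact ⟨g * h, mul_mem hg hh, hgr.mul hhr (pc_check p q)⟩

theorem rep_of_agree {g : Equiv.Perm GolayPt} {p q : ℕ} (hg : Rep g p)
    (h : (bits24.all fun i => Nat.beq (pget p i) (pget q i)) = true) : Rep g q := fun x => by
  have := List.all_eq_true.1 h _ (mem_bits24.2 (gidx x).isLt)
  rw [Nat.beq_eq] at this
  rw [hg, this]

theorem p9 : ∀ x : ZMod 11, x ≠ 0 → x * x ^ 9 = 1 := by decide +kernel

theorem card_sq : Nat.card {a : ZMod 11 // a * a = 1} ≤ 2 := by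
  rw [Nat.card_eq_fintype_card]
  decide +kernel

theorem zero_or : ∀ c : ZMod 11, c.val = 0 ↔ c = 0 := by decide +kernel

theorem img_mem (a b c d : ZMod 11) (h : a * d - b * c = 1) : ∃ g ∈ stabMasks [mD, mP, mX], Rep g (imgP a b c d) := by
  unfold imgP
  by_cases hc : c.val = 0
  · rw [if_pos hc]
    have hc0 := (zero_or c).1 hc
    have ha : a ≠ 0 := fun h0 => (show (0 : ZMod 11) ≠ 1 by decide) (by rw [h0, hc0] at h; linear_combination h)
    exact pc_mem (exists_in (gens_ok.2.2 a ha)) (exists_in (gens_ok.2.1 _))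
  · rw [if_neg hc]
    exact pc_mem (pc_mem (exists_in (gens_ok.2.1 _)) (exists_in gens_ok.1))
      (pc_mem (exists_in (gens_ok.2.2 c (fun h0 => hc ((zero_or c).2 h0)))) (exists_in (gens_ok.2.1 _)))

theorem det_entries (A : SL(2, ZMod 11)) : A 0 0 * A 1 1 - A 0 1 * A 1 0 = 1 := by
  have h := A.2
  rw [Matrix.det_fin_two] at h
  exact h

noncomputable def img (A : SL(2, ZMod 11)) : stabMasks [mD, mP, mX] :=
  ⟨(img_mem (A 0 0) (A 0 1) (A 1 0) (A 1 1) (det_entries A)).choose,
    (img_mem (A 0 0) (A 0 1) (A 1 0) (A 1 1) (det_entries A)).choose_spec.1⟩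

theorem img_rep (A : SL(2, ZMod 11)) : Rep (img A : Equiv.Perm GolayPt) (imgP (A 0 0) (A 0 1) (A 1 0) (A 1 1)) :=
  (img_mem (A 0 0) (A 0 1) (A 1 0) (A 1 1) (det_entries A)).choose_spec.2

def gU : SL(2, ZMod 11) := ⟨!![1, 1; 0, 1], by rw [Matrix.det_fin_two_of]; decide⟩
def gW : SL(2, ZMod 11) := ⟨!![0, -1; 1, 0], by rw [Matrix.det_fin_two_of]; decide⟩

theorem entries_mul (A B : SL(2, ZMod 11)) (i j : Fin 2) : (A * B) i j = A i 0 * B 0 j + A i 1 * B 1 j := by
  show ((A : Matrix (Fin 2) (Fin 2) (ZMod 11)) * (B : Matrix (Fin 2) (Fin 2) (ZMod 11))) i j = _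
  rw [Matrix.mul_apply, Fin.sum_univ_two]

theorem img_gU (B : SL(2, ZMod 11)) : img (gU * B) = img gU * img B := by
  apply Subtype.ext
  refine (img_rep _).ext ?_
  have h1 := rep_of_agree (img_rep gU) (q := upP 1) img_gen.1
  have h2 := h1.mul (img_rep B) (img_up _ _ _ _ (det_entries B))
  have e00 : (gU * B) 0 0 = B 0 0 + B 1 0 := by rw [entries_mul]; simp [gU]
  have e01 : (gU * B) 0 1 = B 0 1 + B 1 1 := by rw [entries_mul]; simp [gU]
  have e10 : (gU * B) 1 0 = B 1 0 := by rw [entries_mul]; simp [gU]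
  have e11 : (gU * B) 1 1 = B 1 1 := by rw [entries_mul]; simp [gU]
  rw [e00, e01, e10, e11]
  exact h2

theorem img_gW (B : SL(2, ZMod 11)) : img (gW * B) = img gW * img B := by
  apply Subtype.ext
  refine (img_rep _).ext ?_
  have h1 := rep_of_agree (img_rep gW) (q := wP) img_gen.2
  have h2 := h1.mul (img_rep B) (img_w _ _ _ _ (det_entries B))
  have e00 : (gW * B) 0 0 = -B 1 0 := by rw [entries_mul]; simp [gW]
  have e01 : (gW * B) 0 1 = -B 1 1 := by rw [entries_mul]; simp [gW]
  have e10 : (gW * B) 1 0 = B 0 0 := by rw [entries_mul]; simp [gW]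
  have e11 : (gW * B) 1 1 = B 0 1 := by rw [entries_mul]; simp [gW]
  rw [e00, e01, e10, e11]
  exact h2

theorem img_one : img (1 : SL(2, ZMod 11)) = 1 := by
  apply Subtype.ext
  refine (rep_of_agree (q := pId) (img_rep 1) ?_).ext rep_one
  simp only [Matrix.SpecialLinearGroup.coe_one, Matrix.one_apply_eq,
    Matrix.one_apply_ne (show (0 : Fin 2) ≠ 1 by decide), Matrix.one_apply_ne (show (1 : Fin 2) ≠ 0 by decide)]
  have h := img_id.1
  rw [List.all_eq_true] at h ⊢
  intro i hi
  rw [Nat.beq_eq, Nat.eq_of_beq_eq_true (h i hi)]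
  have hi' := mem_bits24.1 hi
  interval_cases i <;> rfl

/-- The elements respected by `img`. -/
def good : Subgroup SL(2, ZMod 11) where
  carrier := {A | ∀ B, img (A * B) = img A * img B}
  one_mem' := fun B => by rw [one_mul, img_one, one_mul]
  mul_mem' := fun {A A'} hA hA' B => by rw [mul_assoc, hA, hA', hA A', mul_assoc]
  inv_mem' := fun {A} hA B => by
    have h1 := hA (A⁻¹ * B)
    rw [mul_inv_cancel_left] at h1
    have h2 := hA A⁻¹
    rw [mul_inv_cancel, img_one] at h2
    rw [h1, ← mul_assoc, eq_inv_of_mul_eq_one_right h2.symm, inv_mul_cancel, one_mul]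

theorem up_eq (k : ZMod 11) : (gU ^ k.val : SL(2, ZMod 11)).1 = !![1, k; 0, 1] := by
  have h : ∀ n : ℕ, (gU ^ n : SL(2, ZMod 11)).1 = !![1, (n : ZMod 11); 0, 1] := by
    intro n
    induction n with
    | zero => ext i j; fin_cases i <;> fin_cases j <;> simp
    | succ n ih =>
      rw [pow_succ, Matrix.SpecialLinearGroup.coe_mul, ih]
      ext i j
      fin_cases i <;> fin_cases j <;> simp [gU, Matrix.mul_apply, Fin.sum_univ_two, add_comm]
  rw [h, ZMod.natCast_zmod_val]

theorem good_top : good = ⊤ := by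
  haveI : Fact (Nat.Prime 11) := ⟨by norm_num⟩
  have hU : gU ∈ good := img_gU
  have hW : gW ∈ good := img_gW
  have hUk : ∀ (A : SL(2, ZMod 11)) (k : ZMod 11), A.1 = !![1, k; 0, 1] → A ∈ good := fun A k hA => by
    have : A = gU ^ k.val := Subtype.ext (hA.trans (up_eq k).symm)
    rw [this]; exact pow_mem hU _
  have hD : ∀ (A : SL(2, ZMod 11)) (a : ZMod 11), a ≠ 0 → A.1 = !![a, 0; 0, a ^ 9] → A ∈ good := fun A a ha hA => by
    have : A = gU ^ (-a).val * gW * gU ^ (-(a ^ 9)).val * gW * gU ^ (-a).val * gW := Subtype.ext (by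
      rw [hA, diag_word a ha]
      simp only [Matrix.SpecialLinearGroup.coe_mul, up_eq]
      rfl)
    rw [this]
    exact mul_mem (mul_mem (mul_mem (mul_mem (mul_mem (pow_mem hU _) hW) (pow_mem hU _)) hW) (pow_mem hU _)) hW
  rw [eq_top_iff]
  intro A _
  have hdet := det_entries A
  by_cases hc : A 1 0 = 0
  · have ha : A 0 0 ≠ 0 := fun h0 => (show (0 : ZMod 11) ≠ 1 from zero_ne_one) (by rw [h0, hc] at hdet; linear_combination hdet)
    let Dm : SL(2, ZMod 11) := ⟨!![A 0 0, 0; 0, A 0 0 ^ 9], by rw [Matrix.det_fin_two_of, mul_zero, sub_zero, p9 _ ha]⟩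
    have e : A = Dm * gU ^ (A 0 1 * A 0 0 ^ 9).val := by
      apply Subtype.ext
      rw [Matrix.SpecialLinearGroup.coe_mul, up_eq]
      rw [hc, mul_zero, sub_zero] at hdet
      have hd : A 1 1 = A 0 0 ^ 9 := by linear_combination (A 0 0 ^ 9) * hdet - A 1 1 * p9 _ ha
      ext i j
      fin_cases i <;> fin_cases j <;> simp [Dm, hc, hd]
      linear_combination (-(A 0 1)) * p9 _ ha
    rw [e]
    exact mul_mem (hD _ _ ha rfl) (pow_mem hU _)
  · let Dm : SL(2, ZMod 11) := ⟨!![A 1 0, 0; 0, A 1 0 ^ 9], by rw [Matrix.det_fin_two_of, mul_zero, sub_zero, p9 _ hc]⟩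
    have e : A = gU ^ (A 0 0 * A 1 0 ^ 9).val * gW * (Dm * gU ^ (A 1 1 * A 1 0 ^ 9).val) := by
      apply Subtype.ext
      simp only [Matrix.SpecialLinearGroup.coe_mul, up_eq]
      ext i j
      fin_cases i <;> fin_cases j <;> simp [Dm, gW, Matrix.mul_apply, Fin.sum_univ_two]
      · linear_combination (-(A 0 0)) * p9 _ hc
      · linear_combination (-(A 0 1) - A 0 0 * A 1 1 * A 1 0 ^ 9) * p9 _ hc - A 1 0 ^ 9 * hdet
      · linear_combination (-(A 1 1)) * p9 _ hc
    rw [e]
    exact mul_mem (mul_mem (pow_mem hU _) hW) (mul_mem (hD _ _ hc rfl) (pow_mem hU _))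

noncomputable def imgHom : SL(2, ZMod 11) →* stabMasks [mD, mP, mX] :=
  MonoidHom.mk' img fun A B => (show A ∈ good by rw [good_top]; trivial) B

theorem mem_center_iff' (A : SL(2, ZMod 11)) :
    A ∈ Subgroup.center SL(2, ZMod 11) ↔ A 0 1 = 0 ∧ A 1 0 = 0 ∧ A 0 0 = A 1 1 := by
  constructor
  · intro h
    have hu := Subgroup.mem_center_iff.1 h gU
    have e00 : (gU * A) 0 0 = (A * gU) 0 0 := by rw [hu]
    have e01 : (gU * A) 0 1 = (A * gU) 0 1 := by rw [hu]
    have hw := Subgroup.mem_center_iff.1 h gW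
    have f00 : (gW * A) 0 0 = (A * gW) 0 0 := by rw [hw]
    rw [entries_mul, entries_mul] at e00 e01 f00
    simp [gU] at e00 e01
    simp [gW] at f00
    refine ⟨?_, e00, ?_⟩
    · linear_combination -f00 - e00
    · linear_combination -e01
  · rintro ⟨h1, h2, h3⟩
    rw [Subgroup.mem_center_iff]
    intro B
    apply Subtype.ext
    ext i j
    show (B * A) i j = (A * B) i j
    rw [entries_mul, entries_mul]
    fin_cases i <;> fin_cases j <;> simp [h1, h2, h3, mul_comm]

theorem ker_eq : imgHom.ker = Subgroup.center SL(2, ZMod 11) := by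
  haveI : Fact (Nat.Prime 11) := ⟨by norm_num⟩
  ext A
  rw [mem_center_iff', MonoidHom.mem_ker]
  constructor
  · intro h
    have hr := img_rep A
    rw [show img A = 1 from h] at hr
    exact img_ker _ _ _ _ (det_entries A) (List.all_eq_true.2 fun i hi => by
      rw [Nat.beq_eq]
      have := hr.apply ⟨i, mem_bits24.1 hi⟩
      rw [Subgroup.coe_one, Equiv.Perm.one_apply, gidx_gpt] at this
      exact this.symm)
  · rintro ⟨h1, h2, h3⟩
    have hsq : A 0 0 * A 0 0 = 1 := by
      have := det_entries A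
      rw [h1, h2, ← h3] at this
      simpa using this
    apply Subtype.ext
    refine (rep_of_agree (q := pId) (img_rep A) ?_).ext rep_one
    rw [h1, h2, ← h3]
    have hI : (bits24.all fun i => Nat.beq (pget pId i) i) = true := by decide +kernel
    have key : (bits24.all fun i => Nat.beq (pget (imgP (A 0 0) 0 0 (A 0 0)) i) i) = true := by
      rcases mul_self_eq_one_iff.1 hsq with h | h <;> rw [h]
      exacts [img_id.1, img_id.2]
    rw [List.all_eq_true] at key hI ⊢
    intro i hi
    rw [Nat.beq_eq, Nat.eq_of_beq_eq_true (key i hi), Nat.eq_of_beq_eq_true (hI i hi)]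

theorem card_stab {d : Finset GolayPt} (hd : d ∈ dodecads) {p q : GolayPt} (hp : p ∈ d) (hq : q ∉ d) :
    Nat.card ↥(stabilizer M24 d ⊓ stabilizer M24 p ⊓ stabilizer M24 q) = 660 := by
  classical
  set H := stabilizer M24 d ⊓ stabilizer M24 p
  have h12 : dᶜ.card = 12 := by rw [Finset.card_compl, hd.2]; rfl
  have horb : orbit H q = ↑(dᶜ) := by
    ext t
    rw [Finset.mem_coe, Finset.mem_compl]
    constructor
    · rintro ⟨g, rfl⟩ hmem
      have hgd : g.1.1 • d = d := g.2.1
      have hmem' : g.1.1 • q ∈ d := hmem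
      rw [← hgd, Finset.smul_mem_smul_finset_iff] at hmem'
      exact hq hmem'
    · intro ht
      obtain ⟨r, s, hr, hs, hrs, hrq, hsq⟩ : ∃ r s, r ∉ d ∧ s ∉ d ∧ r ≠ s ∧ r ≠ q ∧ s ≠ q := by
        have hc : 1 < (dᶜ.erase q).card := by
          rw [Finset.card_erase_of_mem (Finset.mem_compl.2 hq), h12]; norm_num
        obtain ⟨r, hr, s, hs, hrs⟩ := Finset.one_lt_card.1 hc
        rw [Finset.mem_erase, Finset.mem_compl] at hr hs
        exact ⟨r, s, hr.2, hs.2, hrs, hr.1, hs.1⟩
      obtain ⟨r', s', hr', hs', hrs', hrt, hst⟩ : ∃ r s, r ∉ d ∧ s ∉ d ∧ r ≠ s ∧ r ≠ t ∧ s ≠ t := by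
        have hc : 1 < (dᶜ.erase t).card := by
          rw [Finset.card_erase_of_mem (Finset.mem_compl.2 ht), h12]; norm_num
        obtain ⟨r, hr, s, hs, hrs⟩ := Finset.one_lt_card.1 hc
        rw [Finset.mem_erase, Finset.mem_compl] at hr hs
        exact ⟨r, s, hr.2, hs.2, hrs, hr.1, hs.1⟩
      have a1 := Ne.symm hrs
      have a2 := Ne.symm hrq
      have a3 := Ne.symm hsq
      have b1 := Ne.symm hrs'
      have b2 := Ne.symm hrt
      have b3 := Ne.symm hst
      obtain ⟨g, hg, hgd, hgp, hgi⟩ := m11_three_transitive hd hp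
        ⟨![q, r, s], by intro i j e; fin_cases i <;> fin_cases j <;> simp_all⟩
        ⟨![t, r', s'], by intro i j e; fin_cases i <;> fin_cases j <;> simp_all⟩
        (by intro i; fin_cases i; exacts [hq, hr, hs]) (by intro i; fin_cases i; exacts [ht, hr', hs'])
      exact ⟨⟨⟨g, hg⟩, hgd, hgp⟩, hgi 0⟩
  have h := Nat.card_congr (MulAction.orbitProdStabilizerEquivGroup H q)
  rw [Nat.card_prod, Nat.card_coe_set_eq, horb, Set.ncard_coe_finset, h12, card_dod_point_stabilizer hd hp] at h
  have e : ↥(stabilizer H q) ≃ ↥(stabilizer M24 d ⊓ stabilizer M24 p ⊓ stabilizer M24 q) :=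
    { toFun := fun g => ⟨g.1.1, g.1.2, g.2⟩
      invFun := fun g => ⟨⟨g.1, g.2.1⟩, g.2.2⟩
      left_inv := fun g => rfl
      right_inv := fun g => rfl }
  rw [← Nat.card_congr e]
  omega

/-- In the 3-transitive action of the smallest Mathieu group on the complementary dodecad, a point stabiliser is isomorphic to PSL(2, 11). -/
theorem result (d : Finset Cfsg.GolayPt) (hd : d ∈ Cfsg.dodecads) (p q : Cfsg.GolayPt) (hp : p ∈ d) (hq : q ∉ d) : Nonempty (↥(MulAction.stabilizer Cfsg.M24 d ⊓ MulAction.stabilizer Cfsg.M24 p ⊓ MulAction.stabilizer Cfsg.M24 q) ≃* Matrix.ProjectiveSpecialLinearGroup (Fin 2) (ZMod 11)) := by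
  haveI : Fact (Nat.Prime 11) := ⟨by norm_num⟩
  obtain ⟨e⟩ := (std_dod_out hd hp hq).equiv
    (stabilizer M24 d ⊓ stabilizer M24 p ⊓ stabilizer M24 q) fun x => by
    simp only [List.mem_cons, List.not_mem_nil, or_false, forall_eq_or_imp, forall_eq, Subgroup.mem_inf,
      mem_stabilizer_iff, smul_singleton_perm, Finset.singleton_inj]
    constructor
    · rintro ⟨⟨a, b⟩, c⟩; exact ⟨a, b, c⟩
    · rintro ⟨a, b, c⟩; exact ⟨⟨a, b⟩, c⟩
  have hK : Nat.card (stabMasks [mD, mP, mX]) = 660 := (Nat.card_congr e.toEquiv).symm.trans (card_stab hd hp hq)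
  have hSL : Nat.card SL(2, ZMod 11) = 1320 := by
    rw [Cfsg.Lib.Linear.Two.card_SL_two, ZMod.card]
    all_goals norm_num
  have hcent : Nat.card (Subgroup.center SL(2, ZMod 11)) ≤ 2 := by
    have hinj : Function.Injective (fun A : Subgroup.center SL(2, ZMod 11) =>
        (⟨A.1 0 0, by
          obtain ⟨h1, h2, h3⟩ := (mem_center_iff' A.1).1 A.2
          have := det_entries A.1
          rw [h1, h2, ← h3] at this
          simpa using this⟩ : {a : ZMod 11 // a * a = 1})) := by
      intro A B h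
      have h' : A.1 0 0 = B.1 0 0 := congrArg Subtype.val h
      obtain ⟨a1, a2, a3⟩ := (mem_center_iff' A.1).1 A.2
      obtain ⟨b1, b2, b3⟩ := (mem_center_iff' B.1).1 B.2
      apply Subtype.ext
      apply Subtype.ext
      ext i j
      fin_cases i <;> fin_cases j
      exacts [h', a1.trans b1.symm, a2.trans b2.symm, a3.symm.trans (h'.trans b3)]
    exact (Nat.card_le_card_of_injective _ hinj).trans card_sq
  have hsurj : Function.Surjective imgHom := by
    rw [← MonoidHom.range_eq_top]
    refine Subgroup.eq_top_of_le_card _ ?_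
    rw [hK]
    have h := imgHom.ker.card_mul_index
    rw [Subgroup.index_ker, hSL, ker_eq] at h
    nlinarith [Nat.mul_le_mul_right (Nat.card imgHom.range) hcent]
  exact ⟨e.trans ((QuotientGroup.quotientKerEquivOfSurjective imgHom hsurj).symm.trans
    (QuotientGroup.quotientMulEquivOfEq ker_eq))⟩

end Cfsg.Agent.S1601
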