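import Cfsg.Statements.S1603
import Cfsg.Agent.Lib.H3.PermList
import Cfsg.Agent.Lib.MEleven.Spor

set_option linter.style.haveILetI false

set_option autoImplicit false
open scoped Pointwise
open Cfsg

namespace Cfsg.Agent.S1603

open Cfsg.Lib.Concrete Cfsg.Lib.H3.PermList MulAction
open scoped Pointwise

def zPacked : ℕ := 973054518210042674313238929715267616

def glTable : List ℕ := [0, 0, 0, 0, 0, 0, 0, 0, 0, 0, 0, 0, 966638849400475295351646046562846721, 963306117333052409018506613490058304, 974297717730861692578177233597333538, 969802841622095796538075665876486176, 965212480040381865890190804697777154, 962737036294578854262253016963219521, 0, 0, 0, 966475956924560098024124728230971424, 974338638711707074086963350135701569, 963671240283738705510385260866667522, 970452037038246367669431024360720385, 962371913329387809778736619941691426, 965171559045038819915495288818172992, 0, 984818244535754528103549039458486304, 984087998624716432073391471508228097, 0, 984088002082056570138128702883038210, 984696276478677314088622797856277568,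 0, 984696254287598368560418601531244609, 984818225758488488355990491334508578, 0, 965171561208840137701420610950266945, 974338656214362718975024378963690560, 966475977845871435304847841461141538, 0, 962371918955368510574636649896478752, 970452020434463677265051711017845762, 963671239004289065705650265122801665, 0, 0, 973729986032332344109877846464889858, 965131035967436872075251960245682210, 965949149683553178540495564800819265, 962533624159717401487150454461040641, 0, 970329653202350707652910038798402624, 0, 963346641302244241982471832828512288, 0, 972972676229015001884519820849416193, 973054518210042674313238929715267616, 0, 973054524994311224772527745210384418, 972770452519164918575797121453752385, 0, 972770454313256898457466314500375616, 972972684763848299941386246217401346, 0, 963346652402820709094326637530546210, 962533613074054168016038539285922818, 965949145343474049856597318148195392, 965131035075015849898837032318863392, 0, 970329672847442504378885181517430849, 0, 973729986938842546760369588032571393,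 0, 962737030784108451051703854020691008, 963306127161436332910093157243420737, 966638866003445738145267493162320898, 0, 965212481319019258084167933698246657, 969802844685143137056468075274567714, 974297736089239669581392726270806048, 0]

def glImg (A : Matrix (Fin 2) (Fin 2) (ZMod 3)) : ℕ :=
  glTable.getD (27 * (A 0 0).val + 9 * (A 0 1).val + 3 * (A 1 0).val + (A 1 1).val) 0

theorem z_ok : okIn [mD, mP] zPacked = true ∧ prodCheck zPacked zPacked pId = true ∧
    (bits24.any fun i => !(Nat.beq (pget zPacked i) i)) = true := by decide +kernel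

theorem table_ok : ∀ A : Matrix (Fin 2) (Fin 2) (ZMod 3), A 0 0 * A 1 1 - A 0 1 * A 1 0 ≠ 0 →
    okIn [mD, mP] (glImg A) = true ∧ ∃ r ∈ glTable, prodCheck zPacked (glImg A) r = true ∧
      prodCheck (glImg A) zPacked r = true := by decide +kernel

theorem table_mul : ∀ A : Matrix (Fin 2) (Fin 2) (ZMod 3), A 0 0 * A 1 1 - A 0 1 * A 1 0 ≠ 0 →
    ∀ B : Matrix (Fin 2) (Fin 2) (ZMod 3), B 0 0 * B 1 1 - B 0 1 * B 1 0 ≠ 0 →
      prodCheck (glImg A) (glImg B) (glImg !![A 0 0 * B 0 0 + A 0 1 * B 1 0, A 0 0 * B 0 1 + A 0 1 * B 1 1;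
        A 1 0 * B 0 0 + A 1 1 * B 1 0, A 1 0 * B 0 1 + A 1 1 * B 1 1]) = true := by decide +kernel

theorem table_ker : ∀ A : Matrix (Fin 2) (Fin 2) (ZMod 3), A 0 0 * A 1 1 - A 0 1 * A 1 0 ≠ 0 →
    (bits24.all fun i => Nat.beq (pget (glImg A) i) i) = true →
      A 0 0 = 1 ∧ A 0 1 = 0 ∧ A 1 0 = 0 ∧ A 1 1 = 1 := by decide +kernel

theorem det_ne (g : GL (Fin 2) (ZMod 3)) :
    (g : Matrix (Fin 2) (Fin 2) (ZMod 3)) 0 0 * (g : Matrix (Fin 2) (Fin 2) (ZMod 3)) 1 1 -
      (g : Matrix (Fin 2) (Fin 2) (ZMod 3)) 0 1 * (g : Matrix (Fin 2) (Fin 2) (ZMod 3)) 1 0 ≠ 0 := by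
  rw [← Matrix.det_fin_two]
  exact (Matrix.isUnits_det_units g).ne_zero

theorem centralizer_iso {H : Type*} [Group H] {x y : H} (h : IsConj x y) :
    Nonempty (Subgroup.centralizer ({x} : Set H) ≃* Subgroup.centralizer ({y} : Set H)) := by
  obtain ⟨c, hc⟩ := isConj_iff.1 h
  have e : (Subgroup.centralizer ({x} : Set H)).map (MulAut.conj c).toMonoidHom = Subgroup.centralizer ({y} : Set H) := by
    ext g
    rw [Subgroup.mem_map_equiv, Subgroup.mem_centralizer_singleton_iff, Subgroup.mem_centralizer_singleton_iff,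
      MulAut.conj_symm_apply, ← hc]
    constructor
    · intro h
      calc g * (c * x * c⁻¹) = c * (c⁻¹ * g * c * x) * c⁻¹ := by group
        _ = c * (x * (c⁻¹ * g * c)) * c⁻¹ := by rw [h]
        _ = c * x * c⁻¹ * g := by group
    · intro h
      calc c⁻¹ * g * c * x = c⁻¹ * (g * (c * x * c⁻¹)) * c := by group
        _ = c⁻¹ * (c * x * c⁻¹ * g) * c := by rw [h]
        _ = x * (c⁻¹ * g * c) := by group
  exact ⟨((MulAut.conj c).subgroupMap _).trans (MulEquiv.subgroupCongr e)⟩

/-- Involution centralisers in the smallest Mathieu group are isomorphic to GL(2, 3). -/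
theorem result (d : Finset Cfsg.GolayPt) (hd : d ∈ Cfsg.dodecads) (p : Cfsg.GolayPt) (hp : p ∈ d) (x : ↥(MulAction.stabilizer Cfsg.M24 d ⊓ MulAction.stabilizer Cfsg.M24 p)) (hx : orderOf x = 2) : Nonempty (↥(Subgroup.centralizer ({x} : Set ↥(MulAction.stabilizer Cfsg.M24 d ⊓ MulAction.stabilizer Cfsg.M24 p))) ≃* GL (Fin 2) (ZMod 3)) := by
  classical
  have hM := Cfsg.Lib.MEleven.isM11_dod_point hd hp
  have hM' : Cfsg.IsM11 ↥(stabilizer M24 d ⊓ stabilizer M24 p) := hM
  obtain ⟨e⟩ := (std_dod_in hd hp).equiv (stabilizer M24 d ⊓ stabilizer M24 p) fun x => by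
    simp only [List.mem_cons, List.not_mem_nil, or_false, forall_eq_or_imp, forall_eq, Subgroup.mem_inf,
      mem_stabilizer_iff, smul_singleton_perm, Finset.singleton_inj]
    exact Iff.rfl
  obtain ⟨z, hzM, hz⟩ := exists_in z_ok.1
  let zK : stabMasks [mD, mP] := ⟨z, hzM⟩
  have hz1 : z ≠ 1 := fun h => by
    obtain ⟨i, hi, hne⟩ := List.any_eq_true.1 z_ok.2.2
    have := hz.apply ⟨i, mem_bits24.1 hi⟩
    rw [h, Equiv.Perm.one_apply, gidx_gpt] at this
    rw [← this] at hne
    simp at hne
  have hz2 : z * z = 1 := (hz.mul hz z_ok.2.1).ext rep_one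
  have hzo : orderOf zK = 2 := orderOf_eq_prime (by apply Subtype.ext; rw [SubmonoidClass.coe_pow, pow_two]; exact hz2)
    (fun h => hz1 (congrArg Subtype.val h))
  have hy : orderOf (e.symm zK) = 2 := by rw [MulEquiv.orderOf_eq]; exact hzo
  haveI : Fintype ↥(stabilizer M24 d ⊓ stabilizer M24 p) := Fintype.ofFinite _
  haveI : Fact (Nat.Prime 5) := ⟨by norm_num⟩
  haveI : Fact (Nat.Prime 2) := ⟨Nat.prime_two⟩
  haveI : Fact (Nat.Prime 3) := ⟨Nat.prime_three⟩
  haveI : Fact (Nat.Prime 11) := ⟨by norm_num⟩
  obtain ⟨T⟩ := Cfsg.Lib.MEleven.nonempty_twoData hM'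
  have hconj : IsConj x (e.symm zK) :=
    (Cfsg.Lib.MEleven.isConj_involution hM' T hx).trans (Cfsg.Lib.MEleven.isConj_involution hM' T hy).symm
  obtain ⟨f1⟩ := centralizer_iso hconj
  choose F hF hR using fun A : {A : Matrix (Fin 2) (Fin 2) (ZMod 3) // A 0 0 * A 1 1 - A 0 1 * A 1 0 ≠ 0} =>
    exists_in (table_ok A.1 A.2).1
  have hcomm : ∀ A, z * F A = F A * z := fun A => by
    obtain ⟨r, -, h1, h2⟩ := (table_ok A.1 A.2).2
    exact (hz.mul (hR A) h1).ext ((hR A).mul hz h2)
  let g0 : GL (Fin 2) (ZMod 3) → stabMasks [mD, mP] := fun g => ⟨F ⟨g.1, det_ne g⟩, hF _⟩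
  have hg0 : ∀ g h, g0 (g * h) = g0 g * g0 h := fun g h => by
    apply Subtype.ext
    have hm := table_mul g.1 (det_ne g) h.1 (det_ne h)
    have e2 : (g * h).1 = !![g.1 0 0 * h.1 0 0 + g.1 0 1 * h.1 1 0, g.1 0 0 * h.1 0 1 + g.1 0 1 * h.1 1 1;
        g.1 1 0 * h.1 0 0 + g.1 1 1 * h.1 1 0, g.1 1 0 * h.1 0 1 + g.1 1 1 * h.1 1 1] := by
      ext i j
      fin_cases i <;> fin_cases j <;> simp [Matrix.mul_apply, Fin.sum_univ_two]
    rw [← e2] at hm
    exact (hR ⟨(g * h).1, det_ne _⟩).ext ((hR ⟨g.1, det_ne g⟩).mul (hR ⟨h.1, det_ne h⟩) hm)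
  let f : GL (Fin 2) (ZMod 3) →* Subgroup.centralizer ({e.symm zK} : Set ↥(stabilizer M24 d ⊓ stabilizer M24 p)) :=
    MonoidHom.mk' (fun g => ⟨e.symm (g0 g), by
      rw [Subgroup.mem_centralizer_singleton_iff, ← map_mul, ← map_mul]
      exact congrArg e.symm (Subtype.ext (hcomm _).symm)⟩) fun g h => Subtype.ext (by
        show e.symm (g0 (g * h)) = e.symm (g0 g) * e.symm (g0 h)
        rw [← map_mul, hg0])
  have hinj : Function.Injective f := by
    rw [injective_iff_map_eq_one]
    intro g hg
    have h1 : g0 g = 1 := by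
      have := congrArg Subtype.val hg
      exact e.symm.injective (this.trans (map_one e.symm).symm)
    have hk := table_ker g.1 (det_ne g) (by
      rw [List.all_eq_true]
      intro i hi
      rw [Nat.beq_eq]
      have := (hR ⟨g.1, det_ne g⟩).apply ⟨i, mem_bits24.1 hi⟩
      rw [show F ⟨g.1, det_ne g⟩ = 1 from congrArg Subtype.val h1, Equiv.Perm.one_apply, gidx_gpt] at this
      exact this.symm)
    ext i j
    fin_cases i <;> fin_cases j <;> simp [hk]
  have hcard : Nat.card (GL (Fin 2) (ZMod 3)) =
      Nat.card (Subgroup.centralizer ({e.symm zK} : Set ↥(stabilizer M24 d ⊓ stabilizer M24 p))) := by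
    rw [Cfsg.Lib.MEleven.card_centralizer_involution hM' hy]
    haveI : Fact (Nat.Prime 3) := ⟨Nat.prime_three⟩
    rw [Matrix.card_GL_field, Fin.prod_univ_two, ZMod.card]
    rfl
  have hbij : Function.Bijective f := by
    rw [Nat.bijective_iff_injective_and_card]
    exact ⟨hinj, hcard⟩
  exact ⟨f1.trans (MulEquiv.ofBijective f hbij).symm⟩

end Cfsg.Agent.S1603
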