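import Cfsg.Statements.S1614
import Cfsg.Agent.Lib.Fischer.Polar.SolvableLocal
import Cfsg.Agent.Lib.Fischer.Clone.Main
import Cfsg.Agent.S0247

set_option autoImplicit false
open Cfsg Cfsg.Lib.Fischer

namespace Cfsg.Agent.S1614

/-- If the commuting transpositions of one transposition generate a solvable group, a Fischer 3-transposition group is S5, S6, PSU(4, 2) or PSU(5, 2). -/
theorem result {G : Type*} [Group G] [Finite G] (hsol : ∀ N : Subgroup G, N.Normal → Group.IsSolvable ↥N → N = ⊥) (hperf : ⁅commutator G, commutator G⁆ = commutator G) {D : Set G} (hD : Cfsg.IsThreeTranspositionClass D) (x : G) (hx : x ∈ D) (hs : Group.IsSolvable ↥(Subgroup.closure {y : G | y ∈ D ∧ y ≠ x ∧ Commute x y})) : Nonempty (G ≃* Equiv.Perm (Fin 5)) ∨ Nonempty (G ≃* Equiv.Perm (Fin 6)) ∨ ∃ (F : Type) (_ : Field F) (_ : Fintype F), Fintype.card F = 4 ∧ (Nonempty (G ≃* Cfsg.PSU 4 F 2) ∨ Nonempty (G ≃* Cfsg.PSU 5 F 2)) := by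
  have hF : IsFischer D := ⟨trans_of_class hD, hsol, hperf⟩
  by_cases h2 : pCore 2 (Polar.loc D x) ≤ Subgroup.center (Polar.loc D x)
  · exact Or.inl (Clone.iso_sym_five hF hx (Polar.core_not_central hF hx hs h2))
  have hP := Polar.isPolar_of_two hF hx h2
  have hno : ¬ ∃ a ∈ D, ∃ b ∈ D, ¬ Commute a b ∧
      ∃ s ∈ common D a b, ∃ r ∈ common D a b, s ≠ r ∧ Commute s r :=
    fun ⟨a, ha, b, hb, hab, s, hs', r, hr, hne, hc⟩ =>
      Polar.not_solvable_loc hP ha hb hab hs' hr hne hc (Polar.solvable_loc hF hx ha hs)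
  obtain ⟨n, ⟨f⟩, hn | hn⟩ | ⟨n, hn, h4 | h5 | h6⟩ := Polar.classify hP
  · subst hn
    obtain ⟨u⟩ := Cfsg.Agent.S0247.result (F := ZMod 2) (ZMod.card 2)
    exact Or.inr (Or.inl ⟨f.trans u⟩)
  · exact absurd hn hno
  · subst h4
    exact Or.inr (Or.inr ⟨Polar.F4, inferInstance, inferInstance,
      Polar.card_F4.trans (by norm_num), Or.inl hn⟩)
  · subst h5
    exact Or.inr (Or.inr ⟨Polar.F4, inferInstance, inferInstance,
      Polar.card_F4.trans (by norm_num), Or.inr hn⟩)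
  · exact absurd h6 hno

end Cfsg.Agent.S1614
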