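import Cfsg.Statements.S1618
import Cfsg.Agent.Lib.ZStar.PrimePower
-- import your own Cfsg.Agent.* helpers here

set_option autoImplicit false
open Cfsg

namespace Cfsg.Agent.S1618

/-- A group generated by a class of involutions whose pairwise products (of distinct members) have p-power order for a fixed odd prime p has nilpotent derived subgroup. -/
theorem result {G : Type*} [Group G] [Finite G] (p : ℕ) (hp : p.Prime) (hodd : p ≠ 2) {D : Set G} (hinv : ∀ d ∈ D, orderOf d = 2) (hconj : ∃ d ∈ D, D = conjugatesOf d) (hgen : Subgroup.closure D = ⊤) (hprod : ∀ x ∈ D, ∀ y ∈ D, x ≠ y → ∃ k : ℕ, orderOf (x * y) = p ^ k) : Group.IsNilpotent ↥(commutator G) := by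
  obtain ⟨d, hdD, rfl⟩ := hconj
  haveI : Fact p.Prime := ⟨hp⟩
  have hd := hinv d hdD
  have hmem : ∀ g : G, d * (g * d * g⁻¹) ∈ Cfsg.pCore p G :=
    Lib.ZStar.prod_conj_mem_pCore hp hodd d hd fun k => by
      by_cases hk : d = k * d * k⁻¹
      · exact ⟨0, by rw [← hk, Lib.Invol.inv_mul_self hd, orderOf_one, pow_zero]⟩
      · exact hprod d hdD _ (isConj_iff.2 ⟨k, rfl⟩) hk
  set N := Cfsg.pCore p G with hN
  haveI : N.Normal := inferInstance
  have htop : Subgroup.zpowers (QuotientGroup.mk' N d) = ⊤ := by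
    rw [eq_top_iff, ← Subgroup.map_top_of_surjective _ (QuotientGroup.mk'_surjective N), ← hgen,
      MonoidHom.map_closure, Subgroup.closure_le]
    rintro _ ⟨x, hx, rfl⟩
    obtain ⟨g, rfl⟩ := isConj_iff.1 hx
    have h1 : QuotientGroup.mk' N d = QuotientGroup.mk' N (g * d * g⁻¹) :=
      QuotientGroup.eq.2 (by rw [Lib.Invol.inv_eq_self hd]; exact hmem g)
    rw [SetLike.mem_coe, ← h1]
    exact Subgroup.mem_zpowers _
  have hle : commutator G ≤ N := by
    rw [commutator_def, Subgroup.commutator_le]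
    intro a _ b _
    rw [← QuotientGroup.ker_mk' N, MonoidHom.mem_ker, map_commutatorElement,
      commutatorElement_eq_one_iff_mul_comm]
    have ha : QuotientGroup.mk' N a ∈ Subgroup.zpowers (QuotientGroup.mk' N d) :=
      htop ▸ Subgroup.mem_top _
    have hb : QuotientGroup.mk' N b ∈ Subgroup.zpowers (QuotientGroup.mk' N d) :=
      htop ▸ Subgroup.mem_top _
    obtain ⟨i, hi⟩ := Subgroup.mem_zpowers_iff.1 ha
    obtain ⟨j, hj⟩ := Subgroup.mem_zpowers_iff.1 hb
    rw [← hi, ← hj]
    exact Commute.zpow_zpow_self _ i j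
  exact ((Lib.Core.pCore_isPGroup p G).to_le hle).isNilpotent

end Cfsg.Agent.S1618
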