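import Cfsg.Statements.S1628
import Cfsg.Agent.Lib.Ru.Min
-- import your own Cfsg.Agent.* helpers here

set_option autoImplicit false
open Cfsg

namespace Cfsg.Agent.S1628

/-- The Conway–Wales lattice as stored is even with no vectors of true norm 2: stored norms are multiples of 8, never equal to 8, and the minimum over nonzero vectors is 16. -/
theorem result : (∀ x ∈ Cfsg.Spor.ruLattice, (8 : ℤ) ∣ Cfsg.Spor.ruNorm x) ∧ (∀ x ∈ Cfsg.Spor.ruLattice, Cfsg.Spor.ruNorm x ≠ 8) ∧ (∀ x ∈ Cfsg.Spor.ruLattice, x ≠ 0 → 16 ≤ Cfsg.Spor.ruNorm x) ∧ ∃ x ∈ Cfsg.Spor.ruLattice, Cfsg.Spor.ruNorm x = 16 := by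
  have hs := fun x hx => Cfsg.Lib.Ru.ruLattice_le_span (x := x) hx
  refine ⟨fun x hx => Cfsg.Lib.Ru.ruNorm_eq x ▸ Cfsg.Lib.Ru.norm_eight (hs x hx),
    fun x hx => Cfsg.Lib.Ru.ruNorm_eq x ▸ Cfsg.Lib.Ru.norm_ne_eight (hs x hx), fun x hx h0 => ?_, ?_⟩
  · have h1 := Cfsg.Lib.Ru.norm_eight (hs x hx)
    have h2 := Cfsg.Lib.Ru.norm_ne_eight (hs x hx)
    rw [← Cfsg.Lib.Ru.ruNorm_eq] at h1 h2
    have h3 : 0 ≤ Cfsg.Spor.ruNorm x := Finset.sum_nonneg fun p _ => GaussianInt.norm_nonneg _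
    have h4 : Cfsg.Spor.ruNorm x ≠ 0 := fun h => h0 (funext fun p =>
      GaussianInt.norm_eq_zero.1 ((Finset.sum_eq_zero_iff_of_nonneg fun p _ => GaussianInt.norm_nonneg _).1 h p
        (Finset.mem_univ p)))
    omega
  · refine ⟨Cfsg.Spor.ruTable.getD 0 0, ?_, by decide +kernel⟩
    refine AddSubgroup.mem_sInf.2 fun L hL => hL.1 _ ?_
    exact List.mem_cons_self

end Cfsg.Agent.S1628
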