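import Cfsg.Statements.S1634
import Cfsg.Agent.Lib.Concrete.LeechMcl2025

set_option autoImplicit false
open Cfsg

namespace Cfsg.Agent.S1634

/-- The McLaughlin group acts on 2025 points (minimal vectors orthogonal to v with customary inner product 2 with w) transitively with rank 4 and subdegrees 1, 330, 462, 1232. -/
theorem result (v w : ↥Cfsg.leechLattice) (hv : Cfsg.sqNorm (v : Cfsg.GolayPt → ℤ) = 32) (hw : Cfsg.sqNorm (w : Cfsg.GolayPt → ℤ) = 32) (hvw : Cfsg.dotInt (v : Cfsg.GolayPt → ℤ) (w : Cfsg.GolayPt → ℤ) = -8) : {x : ↥Cfsg.leechLattice | Cfsg.sqNorm (x : Cfsg.GolayPt → ℤ) = 32 ∧ Cfsg.dotInt (v : Cfsg.GolayPt → ℤ) (x : Cfsg.GolayPt → ℤ) = 0 ∧ Cfsg.dotInt (w : Cfsg.GolayPt → ℤ) (x : Cfsg.GolayPt → ℤ) = 16}.ncard = 2025 ∧ (∀ x ∈ {x : ↥Cfsg.leechLattice | Cfsg.sqNorm (x : Cfsg.GolayPt → ℤ) = 32 ∧ Cfsg.dotInt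 (v : Cfsg.GolayPt → ℤ) (x : Cfsg.GolayPt → ℤ) = 0 ∧ Cfsg.dotInt (w : Cfsg.GolayPt → ℤ) (x : Cfsg.GolayPt → ℤ) = 16}, ∀ x' ∈ {x : ↥Cfsg.leechLattice | Cfsg.sqNorm (x : Cfsg.GolayPt → ℤ) = 32 ∧ Cfsg.dotInt (v : Cfsg.GolayPt → ℤ) (x : Cfsg.GolayPt → ℤ) = 0 ∧ Cfsg.dotInt (w : Cfsg.GolayPt → ℤ) (x : Cfsg.GolayPt → ℤ) = 16}, ∃ g : ↥Cfsg.Co0, g • v = v ∧ g • w = w ∧ g • x = x') ∧ ∀ x ∈ {x : ↥Cfsg.leechLattice | Cfsg.sqNorm (x : Cfsg.GolayPt → ℤ) = 32 ∧ Cfsg.dotInt (v : Cfsg.GolayPt → ℤ) (x : Cfsg.GolayPt → ℤ) = 0 ∧ Cfsg.dotInt (w : Cfsg.GolayPt → ℤ) (x : Cfsg.GolayPt → ℤ) = 16}, ∃ y₁ ∈ {x : ↥Cfsg.leechLattice | Cfsg.sqNorm (x : Cfsg.GolayPt → ℤ) = 32 ∧ Cfsg.dotInt (v : Cfsg.GolayPt → ℤ) (x : Cfsg.GolayPt → ℤ) = 0 ∧ Cfsg.dotInt (w : Cfsg.GolayPt → ℤ) (x : Cfsg.GolayPt → ℤ) = 16}, ∃ y₂ ∈ {x : ↥Cfsg.leechLattice | Cfsg.sqNorm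 (x : Cfsg.GolayPt → ℤ) = 32 ∧ Cfsg.dotInt (v : Cfsg.GolayPt → ℤ) (x : Cfsg.GolayPt → ℤ) = 0 ∧ Cfsg.dotInt (w : Cfsg.GolayPt → ℤ) (x : Cfsg.GolayPt → ℤ) = 16}, ∃ y₃ ∈ {x : ↥Cfsg.leechLattice | Cfsg.sqNorm (x : Cfsg.GolayPt → ℤ) = 32 ∧ Cfsg.dotInt (v : Cfsg.GolayPt → ℤ) (x : Cfsg.GolayPt → ℤ) = 0 ∧ Cfsg.dotInt (w : Cfsg.GolayPt → ℤ) (x : Cfsg.GolayPt → ℤ) = 16}, (MulAction.orbit ↥(MulAction.stabilizer ↥Cfsg.Co0 v ⊓ MulAction.stabilizer ↥Cfsg.Co0 w ⊓ MulAction.stabilizer ↥Cfsg.Co0 x) y₁).ncard = 330 ∧ (MulAction.orbit ↥(MulAction.stabilizer ↥Cfsg.Co0 v ⊓ MulAction.stabilizer ↥Cfsg.Co0 w ⊓ MulAction.stabilizer ↥Cfsg.Co0 x) y₂).ncard = 462 ∧ (MulAction.orbit ↥(MulAction.stabilizer ↥Cfsg.Co0 v ⊓ MulAction.stabilizer ↥Cfsg.Co0 w ⊓ MulAction.stabilizer ↥Cfsg.Co0 x) y₃).ncard = 1232 := by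
  obtain ⟨c, hc1, hc2⟩ := Cfsg.Lib.Concrete.exists_four_triple hv hw hvw
  subst hc1 hc2
  have hm : ∀ y : Cfsg.leechLattice, c • y ∈ Cfsg.Lib.Concrete.fourSet (c • Cfsg.Lib.Concrete.pairL) (c • Cfsg.Lib.Concrete.repEightL) ↔
      y ∈ Cfsg.Lib.Concrete.fourSet Cfsg.Lib.Concrete.pairL Cfsg.Lib.Concrete.repEightL :=
    fun y => Cfsg.Lib.Concrete.smul_fourSet c
  refine ⟨?_, ?_, ?_⟩
  · refine Eq.trans (congrArg Set.ncard (Set.ext fun z => ?_))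
      ((Set.ncard_image_of_injective _ (MulAction.injective c)).trans Cfsg.Lib.Concrete.ncard_fourSet)
    obtain ⟨y, rfl⟩ := MulAction.surjective c z
    simp only [Set.mem_image, (MulAction.injective c).eq_iff, exists_eq_right]
    exact hm y
  · intro z hz z' hz'
    obtain ⟨y, rfl⟩ := MulAction.surjective c z
    obtain ⟨y', rfl⟩ := MulAction.surjective c z'
    obtain ⟨g, g1, g2, g3⟩ := Cfsg.Lib.Concrete.exists_fix_four ((hm y).1 hz) ((hm y').1 hz')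
    refine ⟨c * g * c⁻¹, ?_, ?_, ?_⟩ <;> rw [mul_smul, mul_smul, inv_smul_smul]
    · rw [g1]
    · rw [g2]
    · rw [g3]
  · intro z hz
    obtain ⟨x, rfl⟩ := MulAction.surjective c z
    obtain ⟨g, g1, g2, g3⟩ := Cfsg.Lib.Concrete.exists_fix_four Cfsg.Lib.Concrete.perpL_mem ((hm x).1 hz)
    subst g3
    obtain ⟨a, ha, b, hb, d, hd, ca, cb, cd⟩ := Cfsg.Lib.Concrete.four_orbits
    have hmem : ∀ y, y ∈ Cfsg.Lib.Concrete.fourSet Cfsg.Lib.Concrete.pairL Cfsg.Lib.Concrete.repEightL →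
        (c * g) • y ∈ Cfsg.Lib.Concrete.fourSet (c • Cfsg.Lib.Concrete.pairL) (c • Cfsg.Lib.Concrete.repEightL) := fun y hy => by
      rw [mul_smul]
      refine (hm _).2 ?_
      have := (Cfsg.Lib.Concrete.smul_fourSet g).2 hy
      rwa [g1, g2] at this
    have gen : ∀ (k : ↥Cfsg.Co0) (u v x y u' v' x' : ↥Cfsg.leechLattice), k • u = u' → k • v = v' → k • x = x' →
        (MulAction.orbit ↥(MulAction.stabilizer ↥Cfsg.Co0 u' ⊓ MulAction.stabilizer ↥Cfsg.Co0 v' ⊓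
          MulAction.stabilizer ↥Cfsg.Co0 x') (k • y)).ncard = (MulAction.orbit ↥(MulAction.stabilizer ↥Cfsg.Co0 u ⊓
          MulAction.stabilizer ↥Cfsg.Co0 v ⊓ MulAction.stabilizer ↥Cfsg.Co0 x) y).ncard := by
      intro k u v x y u' v' x' e1 e2 e3
      subst e1 e2 e3
      exact Cfsg.Lib.Concrete.ncard_orbit_conj_three k u v x y
    have key := fun y => gen (c * g) Cfsg.Lib.Concrete.pairL Cfsg.Lib.Concrete.repEightL Cfsg.Lib.Concrete.perpL y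
      (c • Cfsg.Lib.Concrete.pairL) (c • Cfsg.Lib.Concrete.repEightL) (c • (g • Cfsg.Lib.Concrete.perpL))
      (by rw [mul_smul, g1]) (by rw [mul_smul, g2]) (mul_smul _ _ _)
    exact ⟨_, hmem a ha, _, hmem b hb, _, hmem d hd, (key a).trans ca, (key b).trans cb, (key d).trans cd⟩

end Cfsg.Agent.S1634
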