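import Cfsg.Statements.S1635
import Cfsg.Agent.Lib.Concrete.Sextet

set_option autoImplicit false
open Cfsg Cfsg.Lib.Concrete
open scoped Pointwise

namespace Cfsg.Agent.S1635

/-- Coset leaders of the length-24 code: a coset contains a unique word of weight ≤ 3, or else exactly six words of weight 4 and none lighter. -/
theorem result (w : Cfsg.GolayPt → ZMod 2) : ({v : Cfsg.GolayPt → ZMod 2 | hammingNorm v ≤ 4 ∧ w - v ∈ Cfsg.golayCode}.ncard = 1 ∧ ∃ v : Cfsg.GolayPt → ZMod 2, hammingNorm v ≤ 3 ∧ w - v ∈ Cfsg.golayCode) ∨ ({v : Cfsg.GolayPt → ZMod 2 | hammingNorm v ≤ 4 ∧ w - v ∈ Cfsg.golayCode}.ncard = 6 ∧ ∀ v : Cfsg.GolayPt → ZMod 2, w - v ∈ Cfsg.golayCode → hammingNorm v ≤ 4 → hammingNorm v = 4) := by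
  classical
  obtain ⟨v, hv, hwv⟩ := exists_coset_leader w
  have hsub : ∀ u, hammingNorm u ≤ 4 → w - u ∈ golayCode → v - u ∈ golayCode := fun u _ hu => by
    have := sub_mem hu hwv
    rwa [sub_sub_sub_cancel_left] at this
  by_cases h3 : hammingNorm v ≤ 3
  · refine Or.inl ⟨Set.ncard_eq_one.2 ⟨v, ?_⟩, v, h3, hwv⟩
    ext u
    refine ⟨fun ⟨hu, huc⟩ => ?_, fun e => e ▸ ⟨hv, hwv⟩⟩
    rcases coset_leaders hv hu (hsub u hu huc) with e | ⟨h4, -⟩
    · exact e.symm
    · omega
  · right
    have hv4 : hammingNorm v = 4 := by omega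
    have hall : ∀ u, w - u ∈ golayCode → hammingNorm u ≤ 4 → hammingNorm u = 4 := by
      intro u hu hu4
      rcases coset_leaders hv hu4 (hsub u hu4 hu) with e | ⟨-, h, -⟩
      · rw [← e]; exact hv4
      · exact h
    refine ⟨?_, hall⟩
    have hvc : (support₂ v).card = 4 := by rw [← hammingNorm_eq_card_support₂]; exact hv4
    have hS := sextetOf_mem hvc
    have himg : support₂ '' {u : GolayPt → ZMod 2 | hammingNorm u ≤ 4 ∧ w - u ∈ golayCode} =
        (sextetOf (support₂ v) : Set (Finset GolayPt)) := by
      ext t
      constructor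
      · rintro ⟨u, ⟨hu, huc⟩, rfl⟩
        rcases coset_leaders hv hu (hsub u hu huc) with e | ⟨-, h4, ho⟩
        · subst e; exact Finset.mem_insert_self _ _
        · refine Finset.mem_insert_of_mem (Finset.mem_image.2 ⟨_, mem_octadsAbove.2
            ⟨ho, Finset.subset_union_left⟩, Finset.union_sdiff_cancel_left ?_⟩)
          rw [← Finset.card_union_eq_card_add_card, ho.2, hvc, ← hammingNorm_eq_card_support₂, h4]
      · intro ht
        refine ⟨word (fmask t), ⟨?_, ?_⟩, by rw [support₂_word, mset_fmask]⟩
        · rw [hammingNorm_word, ← mset_card, mset_fmask, hS.2.1 t ht]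
        · by_cases he : t = support₂ v
          · rw [he, word_fmask_support₂]; exact hwv
          · have ho := hS.2.2 _ (Finset.mem_insert_self _ _) t ht (Ne.symm he)
            have hd := sextets_disjoint hS (Finset.mem_insert_self _ _) ht (Ne.symm he)
            have hadd : v + word (fmask t) ∈ golayCode := by
              obtain ⟨x, hx, hxs⟩ := ho.1
              have : v + word (fmask t) = x := support₂_injective (by
                rw [hxs, support₂_add, support₂_word, mset_fmask, hd.symmDiff_eq_sup]; rfl)
              rw [this]; exact hx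
            have h2 : w - word (fmask t) = (w - v) + (v + word (fmask t)) := by
              have hn : -(word (fmask t)) = word (fmask t) := funext fun p => by
                show -(word (fmask t) p) = word (fmask t) p
                generalize word (fmask t) p = a; revert a; decide
              rw [sub_eq_add_neg w, hn]; abel
            rw [h2]
            exact add_mem hwv hadd
    rw [← Set.ncard_image_of_injective _ support₂_injective, himg, Set.ncard_coe_finset, hS.1]

end Cfsg.Agent.S1635
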