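import Cfsg.Statements.S1636
import Cfsg.Agent.Lib.Concrete.Golay

set_option autoImplicit false
open Cfsg Cfsg.Lib.Concrete
open scoped Pointwise

namespace Cfsg.Agent.S1636

/-- The punctured length-23 code has weight distribution 0^1 7^253 8^506 11^1288 12^1288 15^506 16^253 23^1. -/
theorem result : {u : ZMod 23 → ZMod 2 | ∃ w ∈ Cfsg.golayCode, ∀ x : ZMod 23, u x = w (some x)}.ncard = 4096 ∧ {u : ZMod 23 → ZMod 2 | u ∈ {u : ZMod 23 → ZMod 2 | ∃ w ∈ Cfsg.golayCode, ∀ x : ZMod 23, u x = w (some x)} ∧ hammingNorm u = 7}.ncard = 253 ∧ {u : ZMod 23 → ZMod 2 | u ∈ {u : ZMod 23 → ZMod 2 | ∃ w ∈ Cfsg.golayCode, ∀ x : ZMod 23, u x = w (some x)} ∧ hammingNorm u = 8}.ncard = 506 ∧ {u : ZMod 23 → ZMod 2 | u ∈ {u : ZMod 23 → ZMod 2 | ∃ w ∈ Cfsg.golayCode, ∀ x : ZMod 23, u x = w (some x)} ∧ hammingNorm u = 11}.ncard = 1288 ∧ {u : ZMod 23 → ZMod 2 | u ∈ {u : ZMod 23 → ZMod 2 | ∃ w ∈ Cfsg.golayCode, ∀ x : ZMod 23, u x = w (some x)} ∧ hammingNorm u = 12}.ncard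 = 1288 ∧ {u : ZMod 23 → ZMod 2 | u ∈ {u : ZMod 23 → ZMod 2 | ∃ w ∈ Cfsg.golayCode, ∀ x : ZMod 23, u x = w (some x)} ∧ hammingNorm u = 15}.ncard = 506 ∧ {u : ZMod 23 → ZMod 2 | u ∈ {u : ZMod 23 → ZMod 2 | ∃ w ∈ Cfsg.golayCode, ∀ x : ZMod 23, u x = w (some x)} ∧ hammingNorm u = 16}.ncard = 253 ∧ ∀ u ∈ {u : ZMod 23 → ZMod 2 | ∃ w ∈ Cfsg.golayCode, ∀ x : ZMod 23, u x = w (some x)}, u ≠ 0 → 7 ≤ hammingNorm u := by
  classical
  set C := {u : ZMod 23 → ZMod 2 | ∃ w ∈ golayCode, ∀ x : ZMod 23, u x = w (some x)} with hC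
  let res : ℕ → (ZMod 23 → ZMod 2) := fun m x => word m (some x)
  have hbit : ∀ x : ZMod 23, (8388607 : ℕ).testBit (gidx (some x)).val = true := by decide +kernel
  have hnorm : ∀ m, hammingNorm (res m) = pcnt (Nat.land m 8388607) := by
    intro m
    rw [← mcnt_eq_pcnt, ← mset_card]
    refine Finset.card_bij (fun x _ => (some x : GolayPt)) ?_ ?_ ?_
    · intro x hx
      have hb := hbit x
      simp only [Finset.mem_filter, Finset.mem_univ, true_and, res, word] at hx
      rw [mem_mset, show Nat.land m 8388607 = m &&& 8388607 from rfl, Nat.testBit_and, hb,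
        Bool.and_true]
      cases h : m.testBit (gidx (some x)).val <;> simp [h] at hx ⊢
    · intro x _ y _ h; exact Option.some.inj h
    · intro p hp
      rw [mem_mset, show Nat.land m 8388607 = m &&& 8388607 from rfl, Nat.testBit_and,
        Bool.and_eq_true] at hp
      cases p with
      | none => exact absurd hp.2 (by decide)
      | some x => exact ⟨x, by simp [res, word, hp.1], rfl⟩
  have hchk : codeList.all (fun m => m == 0 || decide (7 ≤ pcnt (Nat.land m 8388607))) = true := by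
    decide +kernel
  have hzero : res 0 = 0 := funext fun x => by simp [res, word]
  have hinj : ∀ a ∈ codeList, ∀ b ∈ codeList, res a = res b → a = b := by
    intro a ha b hb h
    have hab : a ^^^ b ∈ codeList := by
      obtain ⟨c, hc, rfl⟩ := List.mem_map.1 (codeList_eq ▸ ha)
      obtain ⟨d, hd, rfl⟩ := List.mem_map.1 (codeList_eq ▸ hb)
      rw [← combo_xor]
      exact codeList_eq ▸ List.mem_map.2 ⟨_, List.mem_range.2
        (Nat.xor_lt_two_pow (n := 12) (List.mem_range.1 hc) (List.mem_range.1 hd)), rfl⟩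
    have h0 : res (a ^^^ b) = 0 := funext fun x => by
      have h1 : word a (some x) = word b (some x) := congrFun h x
      show word (a ^^^ b) (some x) = 0
      rw [word_xor, Pi.add_apply, h1]
      generalize word b (some x) = t; revert t; decide
    have := List.all_eq_true.1 hchk _ hab
    rw [← hnorm, h0, hammingNorm_zero] at this
    simpa [Nat.xor_eq_zero_iff] using this
  have hmem : ∀ u, u ∈ C ↔ ∃ m ∈ codeList, res m = u := by
    intro u
    constructor
    · rintro ⟨w, hw, hx⟩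
      obtain ⟨c, hc, rfl⟩ := mem_golayCode_iff.1 hw
      exact ⟨_, codeList_eq ▸ List.mem_map.2 ⟨c, List.mem_range.2 hc, rfl⟩,
        funext fun x => (hx x).symm⟩
    · rintro ⟨m, hm, rfl⟩
      obtain ⟨c, hc, rfl⟩ := List.mem_map.1 (codeList_eq ▸ hm)
      exact ⟨_, mem_golayCode_iff.2 ⟨c, List.mem_range.1 hc, rfl⟩, fun x => rfl⟩
  have hcount : ∀ (S : Set (ZMod 23 → ZMod 2)) (p : ℕ → Bool),
      (∀ u, u ∈ S ↔ ∃ m ∈ codeList, res m = u ∧ p m = true) →
      S.ncard = (codeList.filter p).length := by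
    intro S p h
    have hS : S = (((codeList.filter p).toFinset).image res : Finset (ZMod 23 → ZMod 2)) := by
      ext u
      rw [h, Finset.mem_coe, Finset.mem_image]
      simp only [List.mem_toFinset, List.mem_filter]
      exact ⟨fun ⟨m, a, b, c⟩ => ⟨m, ⟨a, c⟩, b⟩, fun ⟨m, ⟨a, c⟩, b⟩ => ⟨m, a, b, c⟩⟩
    rw [hS, Set.ncard_coe_finset, Finset.card_image_of_injOn,
      List.toFinset_card_of_nodup (codeList_nodup.filter _)]
    intro a ha b hb
    rw [Finset.mem_coe, List.mem_toFinset, List.mem_filter] at ha hb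
    exact hinj a ha.1 b hb.1
  have hwt : ∀ n, {u : ZMod 23 → ZMod 2 | u ∈ C ∧ hammingNorm u = n}.ncard =
      (codeList.filter fun m => Nat.beq (pcnt (Nat.land m 8388607)) n).length := fun n => by
    refine hcount _ _ fun u => ?_
    simp only [Set.mem_ofPred_eq, hmem, Nat.beq_eq]
    constructor
    · rintro ⟨⟨m, hm, rfl⟩, hu⟩; exact ⟨m, hm, rfl, hnorm m ▸ hu⟩
    · rintro ⟨m, hm, rfl, hu⟩; exact ⟨⟨m, hm, rfl⟩, (hnorm m).trans hu⟩
  refine ⟨?_, ?_, ?_, ?_, ?_, ?_, ?_, ?_⟩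
  · rw [hcount C (fun _ => true) fun u => by simp only [hmem, and_true]]
    decide +kernel
  iterate 6 (rw [hwt]; decide +kernel)
  · intro u hu hne
    obtain ⟨m, hm, rfl⟩ := (hmem u).1 hu
    have := List.all_eq_true.1 hchk m hm
    simp only [Bool.or_eq_true, beq_iff_eq, decide_eq_true_eq] at this
    rcases this with rfl | h
    · exact absurd hzero hne
    · exact (hnorm m).symm ▸ h

end Cfsg.Agent.S1636
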