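import Cfsg.Statements.S1637
import Cfsg.Agent.Lib.Concrete.Sextet

set_option autoImplicit false
open Cfsg Cfsg.Lib.Concrete
open scoped Pointwise

namespace Cfsg.Agent.S1637

/-- The punctured length-23 code is a perfect 3-error-correcting code: each word of length 23 is within distance 3 of exactly one codeword. -/
theorem result (u : ZMod 23 → ZMod 2) : ∃! c : ZMod 23 → ZMod 2, c ∈ {u : ZMod 23 → ZMod 2 | ∃ w ∈ Cfsg.golayCode, ∀ x : ZMod 23, u x = w (some x)} ∧ hammingDist u c ≤ 3 := by
  classical
  set C := {u : ZMod 23 → ZMod 2 | ∃ w ∈ golayCode, ∀ x : ZMod 23, u x = w (some x)} with hC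
  have hres : ∀ (v : GolayPt → ZMod 2) (n : ℕ), hammingNorm v ≤ n →
      (hammingNorm v < n ∨ v none ≠ 0) →
      hammingNorm (fun x : ZMod 23 => v (some x)) < n := by
    intro v n hvn hv
    have hmap : (Finset.univ.filter fun x : ZMod 23 => v (some x) ≠ 0).card ≤
        ((support₂ v).erase none).card := by
      refine Finset.card_le_card_of_injOn (fun x => (some x : GolayPt)) ?_ fun _ _ _ _ e => Option.some.inj e
      intro x hx
      simp only [Finset.coe_filter, Finset.mem_univ, true_and, Set.mem_ofPred_eq] at hx
      simp [support₂, hx]
    show (Finset.univ.filter fun x : ZMod 23 => v (some x) ≠ 0).card < n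
    rcases hv with h | h
    · exact lt_of_le_of_lt (hmap.trans (Finset.card_erase_le)) h
    · have hn : none ∈ support₂ v := by simp [support₂, h]
      rw [Finset.card_erase_of_mem hn] at hmap
      have : 0 < (support₂ v).card := Finset.card_pos.2 ⟨_, hn⟩
      have : (support₂ v).card ≤ n := hvn
      omega
  let ext0 : (ZMod 23 → ZMod 2) → GolayPt → ZMod 2 := fun u p => match p with
    | none => 0
    | some x => u x
  obtain ⟨v, hv3, hwv⟩ : ∃ v, hammingNorm (fun x : ZMod 23 => v (some x)) < 4 ∧
      ext0 u - v ∈ golayCode := by
    obtain ⟨v, hv, hwv⟩ := exists_coset_leader (ext0 u)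
    by_cases h3 : hammingNorm v < 4
    · exact ⟨v, hres v 4 hv (Or.inl h3), hwv⟩
    have hvc : (support₂ v).card = 4 := by rw [← hammingNorm_eq_card_support₂]; omega
    have hS := sextetOf_mem hvc
    obtain ⟨t, ht, hpt⟩ := sextet_covers hS none
    by_cases he : t = support₂ v
    · exact ⟨v, hres v 4 hv (Or.inr ((Finset.mem_filter.1 (he ▸ hpt : none ∈ support₂ v)).2)), hwv⟩
    have ho := hS.2.2 _ (Finset.mem_insert_self _ _) t ht (Ne.symm he)
    have hd := sextets_disjoint hS (Finset.mem_insert_self _ _) ht (Ne.symm he)
    refine ⟨word (fmask t), hres _ 4 ?_ (Or.inr ?_), ?_⟩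
    · rw [hammingNorm_word, ← mset_card, mset_fmask, hS.2.1 t ht]
    · have : none ∈ support₂ (word (fmask t)) := by rw [support₂_word, mset_fmask]; exact hpt
      simpa [support₂] using this
    · have hadd : v + word (fmask t) ∈ golayCode := by
        obtain ⟨x, hx, hxs⟩ := ho.1
        have : v + word (fmask t) = x := support₂_injective (by
          rw [hxs, support₂_add, support₂_word, mset_fmask, hd.symmDiff_eq_sup]; rfl)
        rw [this]; exact hx
      have h2 : ext0 u - word (fmask t) = (ext0 u - v) + (v + word (fmask t)) := by
        have hn : -(word (fmask t)) = word (fmask t) := funext fun p => by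
          show -(word (fmask t) p) = word (fmask t) p
          generalize word (fmask t) p = a; revert a; decide
        rw [sub_eq_add_neg (ext0 u), hn]; abel
      rw [h2]
      exact add_mem hwv hadd
  refine ⟨fun x => (ext0 u - v) (some x), ⟨⟨_, hwv, fun x => rfl⟩, ?_⟩, ?_⟩
  · rw [hammingDist_eq_hammingNorm]
    have : (fun x => (ext0 u - v) (some x)) = u - fun x => v (some x) := rfl
    rw [this]
    have h2 : -u + (u - fun x => v (some x)) = fun x => v (some x) := funext fun x => by
      show -(u x) + (u x - v (some x)) = v (some x)
      generalize u x = a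
      generalize v (some x) = b
      revert a b; decide
    rw [h2]; omega
  · rintro c ⟨hcC, hcd⟩
    obtain ⟨w, hw, hcw⟩ := hcC
    by_contra hne
    have htri := hammingDist_triangle c u fun x => (ext0 u - v) (some x)
    rw [hammingDist_comm c u] at htri
    have hd2 : hammingDist u (fun x => (ext0 u - v) (some x)) ≤ 3 := by
      rw [show (fun x => (ext0 u - v) (some x)) = u - fun x => v (some x) from rfl,
        hammingDist_eq_hammingNorm]
      have h2 : -u + (u - fun x => v (some x)) = fun x => v (some x) := funext fun x => by
        show -(u x) + (u x - v (some x)) = v (some x)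
        generalize u x = a
        generalize v (some x) = b
        revert a b; decide
      rw [h2]; omega
    rw [hammingDist_eq_hammingNorm] at htri
    have hcode : (w - (ext0 u - v)) ∈ golayCode := sub_mem hw hwv
    have h8 : 8 ≤ hammingNorm (w - (ext0 u - v)) := by
      refine supports_card_ge ⟨_, hcode, rfl⟩ (Finset.nonempty_iff_ne_empty.2 fun e => hne ?_)
      funext x
      have hx : (some x : GolayPt) ∉ support₂ (w - (ext0 u - v)) := Finset.eq_empty_iff_forall_notMem.1 e (some x)
      simp only [support₂, Finset.mem_filter, Finset.mem_univ, true_and, not_not, Pi.sub_apply,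
        sub_eq_zero] at hx
      rw [hcw x, hx]; rfl
    have hle : hammingNorm (w - (ext0 u - v)) ≤
        hammingNorm (fun x : ZMod 23 => (w - (ext0 u - v)) (some x)) + 1 := by
      show (support₂ _).card ≤ (Finset.univ.filter _).card + 1
      refine (Finset.card_le_card (t := insert none ((Finset.univ.filter fun x : ZMod 23 =>
        (w - (ext0 u - v)) (some x) ≠ 0).map Function.Embedding.some)) ?_).trans
        ((Finset.card_insert_le _ _).trans (by rw [Finset.card_map]))
      intro p hp
      cases p with
      | none => exact Finset.mem_insert_self _ _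
      | some x => exact Finset.mem_insert_of_mem (Finset.mem_map_of_mem _ (by
          simpa [support₂] using hp))
    have hsum : (fun x : ZMod 23 => (w - (ext0 u - v)) (some x)) =
        -c + fun x => (ext0 u - v) (some x) := funext fun x => by
      show w (some x) - (ext0 u - v) (some x) = -(c x) + (ext0 u - v) (some x)
      rw [hcw x]
      generalize w (some x) = a
      generalize (ext0 u - v) (some x) = b
      revert a b; decide
    rw [hsum] at hle
    omega

end Cfsg.Agent.S1637
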