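import Cfsg.Statements.S1641
import Cfsg.Agent.Lib.Concrete.LeechCo3Rank

set_option autoImplicit false
open Cfsg

namespace Cfsg.Agent.S1641

/-- The third Conway group acts on the 11178 cosets of the Higman–Sims group with rank 5 and subdegrees 1, 352, 1100, 4125, 5600. -/
theorem result (u x : ↥Cfsg.leechLattice) (hu : Cfsg.sqNorm (u : Cfsg.GolayPt → ℤ) = 48) (hx : x ∈ {x : ↥Cfsg.leechLattice | Cfsg.sqNorm (x : Cfsg.GolayPt → ℤ) = 32 ∧ Cfsg.dotInt (u : Cfsg.GolayPt → ℤ) (x : Cfsg.GolayPt → ℤ) = -16}) : ∃ y₁ ∈ {x : ↥Cfsg.leechLattice | Cfsg.sqNorm (x : Cfsg.GolayPt → ℤ) = 32 ∧ Cfsg.dotInt (u : Cfsg.GolayPt → ℤ) (x : Cfsg.GolayPt → ℤ) = -16}, ∃ y₂ ∈ {x : ↥Cfsg.leechLattice | Cfsg.sqNorm (x : Cfsg.GolayPt → ℤ) = 32 ∧ Cfsg.dotInt (u : Cfsg.GolayPt → ℤ) (x : Cfsg.GolayPt → ℤ) = -16}, ∃ y₃ ∈ {x : ↥Cfsg.leechLattice | Cfsg.sqNorm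 (x : Cfsg.GolayPt → ℤ) = 32 ∧ Cfsg.dotInt (u : Cfsg.GolayPt → ℤ) (x : Cfsg.GolayPt → ℤ) = -16}, ∃ y₄ ∈ {x : ↥Cfsg.leechLattice | Cfsg.sqNorm (x : Cfsg.GolayPt → ℤ) = 32 ∧ Cfsg.dotInt (u : Cfsg.GolayPt → ℤ) (x : Cfsg.GolayPt → ℤ) = -16}, (MulAction.orbit ↥(MulAction.stabilizer ↥Cfsg.Co0 u ⊓ MulAction.stabilizer ↥Cfsg.Co0 x) y₁).ncard = 352 ∧ (MulAction.orbit ↥(MulAction.stabilizer ↥Cfsg.Co0 u ⊓ MulAction.stabilizer ↥Cfsg.Co0 x) y₂).ncard = 1100 ∧ (MulAction.orbit ↥(MulAction.stabilizer ↥Cfsg.Co0 u ⊓ MulAction.stabilizer ↥Cfsg.Co0 x) y₃).ncard = 4125 ∧ (MulAction.orbit ↥(MulAction.stabilizer ↥Cfsg.Co0 u ⊓ MulAction.stabilizer ↥Cfsg.Co0 x) y₄).ncard = 5600 ∧ {x : ↥Cfsg.leechLattice | Cfsg.sqNorm (x : Cfsg.GolayPt → ℤ) = 32 ∧ Cfsg.dotInt (u : Cfsg.GolayPt → ℤ) (x : Cfsg.GolayPt → ℤ) = -16} = {x} ∪ MulAction.orbit ↥(MulAction.stabilizer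 ↥Cfsg.Co0 u ⊓ MulAction.stabilizer ↥Cfsg.Co0 x) y₁ ∪ MulAction.orbit ↥(MulAction.stabilizer ↥Cfsg.Co0 u ⊓ MulAction.stabilizer ↥Cfsg.Co0 x) y₂ ∪ MulAction.orbit ↥(MulAction.stabilizer ↥Cfsg.Co0 u ⊓ MulAction.stabilizer ↥Cfsg.Co0 x) y₃ ∪ MulAction.orbit ↥(MulAction.stabilizer ↥Cfsg.Co0 u ⊓ MulAction.stabilizer ↥Cfsg.Co0 x) y₄ := by
  obtain ⟨g, hg⟩ := Cfsg.Lib.Concrete.exists_smul_eq_of_moves
    (Cfsg.Lib.Concrete.moves48 Cfsg.Lib.Concrete.fiveL.2 Cfsg.Lib.Concrete.fiveL_norm) (Cfsg.Lib.Concrete.moves48 u.2 hu)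
  have hgx : g • Cfsg.Lib.Concrete.coFiveX ∈ Cfsg.Lib.Concrete.coSixteenSet u := by
    subst hg
    exact ⟨(Cfsg.Lib.Concrete.co0_sqNorm g _).trans Cfsg.Lib.Concrete.coFiveX_mem.1,
      (Cfsg.Lib.Concrete.co0_dot g _ _).trans Cfsg.Lib.Concrete.coFiveX_mem.2⟩
  obtain ⟨l, l1, l2⟩ := (Cfsg.Agent.S1640.result u hu).2 _ hgx x hx
  obtain ⟨c, hc1, hc2⟩ : ∃ c : ↥Cfsg.Co0, c • Cfsg.Lib.Concrete.fiveL = u ∧ c • Cfsg.Lib.Concrete.coFiveX = x :=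
    ⟨l * g, by rw [mul_smul, hg, l1], by rw [mul_smul, l2]⟩
  subst hc1 hc2
  obtain ⟨a, ha, b, hb, e, he, d, hd, ca, cb, ce, cd, hU⟩ := Cfsg.Lib.Concrete.sixteen_rank_five
  have hm : ∀ y, y ∈ Cfsg.Lib.Concrete.coSixteenSet Cfsg.Lib.Concrete.fiveL →
      c • y ∈ Cfsg.Lib.Concrete.coSixteenSet (c • Cfsg.Lib.Concrete.fiveL) := fun y hy =>
    ⟨(Cfsg.Lib.Concrete.co0_sqNorm c y).trans hy.1, (Cfsg.Lib.Concrete.co0_dot c _ _).trans hy.2⟩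
  have him : Cfsg.Lib.Concrete.coSixteenSet (c • Cfsg.Lib.Concrete.fiveL) =
      (c • ·) '' Cfsg.Lib.Concrete.coSixteenSet Cfsg.Lib.Concrete.fiveL := by
    ext z
    constructor
    · intro hz
      obtain ⟨y, rfl⟩ := MulAction.surjective c z
      exact ⟨y, ⟨(Cfsg.Lib.Concrete.co0_sqNorm c y).symm.trans hz.1, (Cfsg.Lib.Concrete.co0_dot c _ _).symm.trans hz.2⟩, rfl⟩
    · rintro ⟨y, hy, rfl⟩
      exact hm y hy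
  have ho := fun y => Cfsg.Lib.Concrete.orbit_stab_two_smul c Cfsg.Lib.Concrete.fiveL Cfsg.Lib.Concrete.coFiveX y
  refine ⟨c • a, hm a ha, c • b, hm b hb, c • e, hm e he, c • d, hm d hd, ?_, ?_, ?_, ?_, ?_⟩
  · rw [ho, Set.ncard_image_of_injective _ (MulAction.injective c)]; exact ca
  · rw [ho, Set.ncard_image_of_injective _ (MulAction.injective c)]; exact cb
  · rw [ho, Set.ncard_image_of_injective _ (MulAction.injective c)]; exact ce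
  · rw [ho, Set.ncard_image_of_injective _ (MulAction.injective c)]; exact cd
  · refine him.trans ?_
    rw [hU, Set.image_union, Set.image_union, Set.image_union, Set.image_union, Set.image_singleton, ho, ho, ho, ho]

end Cfsg.Agent.S1641
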