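import Cfsg.Statements.S1642
import Cfsg.Agent.Lib.Concrete.LeechHundred

set_option autoImplicit false
open Cfsg

namespace Cfsg.Agent.S1642

/-- Some involution of the Higman–Sims group acts without fixed points on its 100 points. -/
theorem result (v w : ↥Cfsg.leechLattice) (hv : Cfsg.sqNorm (v : Cfsg.GolayPt → ℤ) = 48) (hw : Cfsg.sqNorm (w : Cfsg.GolayPt → ℤ) = 48) (hvw : Cfsg.dotInt (v : Cfsg.GolayPt → ℤ) (w : Cfsg.GolayPt → ℤ) = -32) : ∃ g : ↥Cfsg.Co0, g • v = v ∧ g • w = w ∧ orderOf g = 2 ∧ ∀ x ∈ {x : ↥Cfsg.leechLattice | Cfsg.sqNorm (x : Cfsg.GolayPt → ℤ) = 32 ∧ Cfsg.dotInt (v : Cfsg.GolayPt → ℤ) (x : Cfsg.GolayPt → ℤ) = 24 ∧ Cfsg.dotInt (w : Cfsg.GolayPt → ℤ) (x : Cfsg.GolayPt → ℤ) = -24}, g • x ≠ x := by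
  obtain ⟨k, hk1, hk2⟩ := Cfsg.Lib.Concrete.hs_pair_exists hv hw hvw
  obtain ⟨g, g1, g2, g3, g4⟩ := Cfsg.Lib.Concrete.exists_fpf
  refine ⟨k * g * k⁻¹, ?_, ?_, ?_, fun x hx e => ?_⟩
  · rw [← hk1, mul_smul, mul_smul, inv_smul_smul, g1]
  · rw [← hk2, mul_smul, mul_smul, inv_smul_smul, g2]
  · rw [show k * g * k⁻¹ = MulAut.conj k g from rfl, MulEquiv.orderOf_eq, g3]
  · obtain ⟨h1, h2, h3⟩ := hx
    refine g4 (k⁻¹ • x) ((Cfsg.Lib.Concrete.co0_sqNorm _ _).trans h1) ?_ ?_ ?_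
    · rw [← h2, ← Cfsg.Lib.Concrete.co0_dot k, hk1, smul_inv_smul]
    · rw [← h3, ← Cfsg.Lib.Concrete.co0_dot k, hk2, smul_inv_smul]
    · rw [eq_inv_smul_iff, smul_smul, smul_smul]
      exact e

end Cfsg.Agent.S1642
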