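import Cfsg.Statements.S1645
import Cfsg.Agent.Lib.MclNine.Local
import Cfsg.Agent.Lib.MclNine.Twelve

set_option autoImplicit false
open Cfsg

namespace Cfsg.Agent.S1645

open Cfsg.Lib Cfsg.Lib.CoverAlt Cfsg.Lib.MclNine Equiv

/-- If some involution of a finite simple group has centraliser a non-split double cover of the alternating group of degree n ≥ 5, then n is 8 or 11 (the McLaughlin and Lyons cases). -/
theorem result {G : Type*} [Group G] [Finite G] [IsSimpleGroup G] (n : ℕ) (hn : 5 ≤ n) (z : G) (hz : orderOf z = 2) (hcov : Cfsg.IsNonsplitDoubleCover (Subgroup.centralizer ({z} : Set G)) (alternatingGroup (Fin n))) : n = 8 ∨ n = 11 := by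
  classical
  by_contra hne
  push Not at hne
  obtain ⟨K, hK⟩ := exists_cov hn hcov
  have hzC : z ∈ Subgroup.centralizer ({z} : Set G) := Subgroup.mem_centralizer_singleton_iff.2 rfl
  have hz1 : z ≠ 1 := fun e => by rw [e, orderOf_one] at hz; exact absurd hz (by decide)
  have hs : (K.s : G) = z := by
    rcases (hK ⟨z, hzC⟩).1 (Subgroup.mem_center_iff.2 fun g => Subtype.ext
      (Subgroup.mem_centralizer_singleton_iff.1 g.2)) with e | e
    · exact absurd (congrArg Subtype.val e) hz1
    · exact (congrArg Subtype.val e).symm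
  have hzz : z * z = 1 := by rw [← hs]; exact congrArg Subtype.val K.ss
  have hiso : ∀ g : G, g * z * g⁻¹ * z = z * (g * z * g⁻¹) → g * z * g⁻¹ = z := by
    rcases lt_or_ge n 8 with h7 | h8
    · intro g hg
      by_contra hgne
      obtain ⟨-, h8⟩ := support_bound (K := K)
        (x := ⟨g * z * g⁻¹, Subgroup.mem_centralizer_singleton_iff.2 hg⟩)
        (Subtype.ext (show g * z * g⁻¹ * (g * z * g⁻¹) = 1 by rw [conj_mul, hzz, mul_one, mul_inv_cancel]))
        (fun e => hz1 (conj_eq_one_iff.1 (congrArg Subtype.val e)))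
        (fun e => hgne ((congrArg Subtype.val e).trans hs))
      have h := h8.trans (Finset.card_le_univ _)
      rw [Fintype.card_fin] at h
      omega
    rcases lt_or_ge n 13 with h12 | h13
    · obtain ⟨ψ, hψ⟩ := exists_psi h8 hs
      have D : Deg z K ψ := ⟨h8, by omega, hs, hψ⟩
      by_cases h : n = 12
      · exact isolated_twelve D h
      · intro g hg
        by_contra hgne
        obtain ⟨g0, h0⟩ := D.exists_swap ⟨g, hg, hgne⟩
        exact no_fusion D (by omega) (by omega) h0
    · exact isolated_of_big h13 hs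
  have hI : IsIsolatedInvolution z := ⟨hz, fun g hg => hiso g hg.eq.symm⟩
  have hcore : oddCore G = ⊥ := by
    rcases IsSimpleGroup.eq_bot_or_eq_top_of_normal (oddCore G) inferInstance with e | e
    · exact e
    · exfalso
      have ho : Odd (Nat.card (oddCore G)) := ZStar.odd_card_oddCore
      rw [e, Subgroup.card_top] at ho
      have h2 : 2 ∣ Nat.card G := hz ▸ orderOf_dvd_natCard z
      exact (Nat.not_even_iff_odd.2 ho) (even_iff_two_dvd.2 h2)
  have hcent : ∀ g : G, g * z = z * g := fun g => by
    have h := ZStar.zStarHolds G z hI g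
    rw [hcore, Subgroup.mem_bot, mul_inv_eq_one, mul_inv_eq_iff_eq_mul] at h
    exact h.symm
  have hzc : z ∈ Subgroup.center G := Subgroup.mem_center_iff.2 hcent
  rcases IsSimpleGroup.eq_bot_or_eq_top_of_normal (Subgroup.center G) inferInstance with e | e
  · rw [e, Subgroup.mem_bot] at hzc; exact hz1 hzc
  have hdt : IsDT (swap (⟨0, by omega⟩ : Fin n) ⟨1, by omega⟩ * swap ⟨2, by omega⟩ ⟨3, by omega⟩) :=
    ⟨_, _, _, _, by simp, by simp, by simp, by simp, by simp, by simp, rfl⟩
  obtain ⟨x, hx⟩ := K.surj _ (sign_dt hdt)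
  have hxc : x ∈ Subgroup.center (Subgroup.centralizer ({z} : Set G)) := Subgroup.mem_center_iff.2 fun y => by
    have h : (x : G) ∈ Subgroup.center G := e ▸ Subgroup.mem_top _
    exact Subtype.ext (Subgroup.mem_center_iff.1 h y)
  have h1 : K.p x = 1 := by
    rcases (hK x).1 hxc with e | e <;> rw [e]
    · exact map_one _
    · exact K.ps
  rw [hx] at h1
  have := congrArg (fun f : Perm (Fin n) => f ⟨0, by omega⟩) h1
  simp [Perm.mul_apply, swap_apply_def] at this

end Cfsg.Agent.S1645
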