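import Cfsg.Statements.S1666
import Cfsg.Agent.Lib.Concrete.SporHS
import Cfsg.Agent.Lib.Concrete.SporMathieu

set_option autoImplicit false
open Cfsg

namespace Cfsg.Agent.S1666

/-- Recognition of the Higman–Sims group as a rank 3 permutation group: a transitive permutation group on 100 points in which the stabiliser of a point is isomorphic to the Mathieu group M₂₂ and has two further orbits, of sizes 22 and 77, is isomorphic to the Higman–Sims group. -/
theorem result {Ω : Type*} [Fintype Ω] [DecidableEq Ω] (hΩ : Fintype.card Ω = 100) (G : Subgroup (Equiv.Perm Ω)) [MulAction.IsPretransitive G Ω] (a : Ω)  (e : MulAction.stabilizer G a ≃* Cfsg.Spor.M22) (b c : Ω) (hb : (MulAction.orbit (MulAction.stabilizer G a) b).ncard = 22) (hc : (MulAction.orbit (MulAction.stabilizer G a) c).ncard = 77) : Cfsg.Spor.IsoHS G := by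
  refine Cfsg.Lib.Concrete.iso_HS_of_data (a := a) (b := b) (c := c)
    { hcard := hΩ, trans := fun x => ?_, orbB := hb, orbC := hc, order := ?_ }
  · obtain ⟨g, hg⟩ := MulAction.exists_smul_eq G a x
    exact ⟨g.1, g.2, hg⟩
  · rw [← (MulAction.stabilizer G a).card_mul_index, MulAction.index_stabilizer_of_transitive,
      Nat.card_congr e.toEquiv, Cfsg.Lib.Concrete.card_sporM22, Nat.card_eq_fintype_card, hΩ]

end Cfsg.Agent.S1666
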