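import Cfsg.Statements.S1667
import Cfsg.Agent.Lib.PermAut.MclRecog.Main

set_option autoImplicit false
open Cfsg

namespace Cfsg.Agent.S1667

/-- Recognition of the McLaughlin group as a rank 3 permutation group: a transitive permutation group on 275 points in which the stabiliser of a point is isomorphic to the unitary group U₄(3) and has two further orbits, of sizes 112 and 162, is isomorphic to the McLaughlin group. -/
theorem result {Ω : Type*} [Fintype Ω] [DecidableEq Ω] (hΩ : Fintype.card Ω = 275) (G : Subgroup (Equiv.Perm Ω)) [MulAction.IsPretransitive G Ω] (a : Ω) (K : Type) [Field K] [Fintype K] (hK : Fintype.card K = 9) (e : MulAction.stabilizer G a ≃* Cfsg.PSU 4 K 3) (b c : Ω) (hb : (MulAction.orbit (MulAction.stabilizer G a) b).ncard = 112) (hc : (MulAction.orbit (MulAction.stabilizer G a) c).ncard = 162) : Cfsg.Spor.IsoMcL G := by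
  classical
  obtain ⟨e0⟩ := Cfsg.Lib.PermAut.MclPsu.ks_equiv
  obtain ⟨e1⟩ := Cfsg.Lib.MinusSix.psu_congr
    (FiniteField.ringEquivOfCardEq (K := Cfsg.Lib.PermAut.MclPsu.R9) (K' := K)
      (by rw [Cfsg.Lib.PermAut.MclPsu.card_r9, hK])) 4 3
  let θ := e0.trans (e1.trans e.symm)
  have S : Cfsg.Lib.PermAut.MclRecog.Setup G a b c :=
    { data := ⟨hΩ, fun x => by
        obtain ⟨g, hg⟩ := MulAction.exists_smul_eq G a x
        exact ⟨g.1, g.2, hg⟩, hb, hc⟩
      ρ := G.subtype.comp ((MulAction.stabilizer G a).subtype.comp θ.toMonoidHom)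
      inj := G.subtype_injective.comp ((MulAction.stabilizer G a).subtype_injective.comp θ.injective)
      mem := fun k => (θ k).1.2
      fix := fun k => (θ k).2
      surj := fun g hg h => ⟨θ.symm ⟨⟨g, hg⟩, h⟩, by simp⟩ }
  exact Cfsg.Lib.PermAut.MclRecog.nonempty_equiv S

end Cfsg.Agent.S1667
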