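import Cfsg.Statements.S1668
import Cfsg.Agent.Lib.SuzRecog.Model

set_option autoImplicit false
open Cfsg

namespace Cfsg.Agent.S1668

open Cfsg.Lib.SuzRecog

/-- Recognition of the sporadic Suzuki group as a rank 3 permutation group: a transitive permutation group on 1782 points in which the stabiliser of a point is isomorphic to the Chevalley group G₂(4) and has two further orbits, of sizes 416 and 1365, is isomorphic to the sporadic Suzuki group. -/
theorem result {Ω : Type*} [Fintype Ω] [DecidableEq Ω] (hΩ : Fintype.card Ω = 1782) (G : Subgroup (Equiv.Perm Ω)) [MulAction.IsPretransitive G Ω] (a : Ω) (K : Type) [Field K] [Fintype K] (hK : Fintype.card K = 4) (e : MulAction.stabilizer G a ≃* Cfsg.Lie.chevG2.group K) (b c : Ω) (hb : (MulAction.orbit (MulAction.stabilizer G a) b).ncard = 416) (hc : (MulAction.orbit (MulAction.stabilizer G a) c).ncard = 1365) : Cfsg.Spor.IsoSuz G := by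
  obtain ⟨e0⟩ := Cfsg.Agent.S5746.nonempty_equiv hK
  let θ := e.trans e0
  let S : Setup G a b c :=
    { data := ⟨hΩ, fun x => by
        obtain ⟨g, hg⟩ := MulAction.exists_smul_eq G a x
        exact ⟨g.1, g.2, hg⟩, hb, hc⟩
      ρ := (G.subtype.comp (MulAction.stabilizer G a).subtype).comp θ.symm.toMonoidHom
      inj := (G.subtype_injective.comp (MulAction.stabilizer G a).subtype_injective).comp θ.symm.injective
      mem := fun k => (θ.symm k).1.2
      fix := fun k => (θ.symm k).2
      surj := fun g hg h => ⟨θ ⟨⟨g, hg⟩, h⟩, by simp⟩ }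
  obtain ⟨_, f, a', b', c', hf, ⟨T⟩⟩ := exists_model
  obtain ⟨η⟩ := S.nonempty_equiv T
  exact ⟨η.symm.trans (MonoidHom.ofInjective hf).symm⟩

end Cfsg.Agent.S1668
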