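import Cfsg.Statements.S1680
import Cfsg.Agent.Lib.CosetEnum.Groups.Suz
import Cfsg.Agent.Lib.CosetEnum.SuzG24.Valid
-- import your own Cfsg.Agent.* helpers here

set_option autoImplicit false
open Cfsg

namespace Cfsg.Agent.S1680

open Cfsg.Lib.CosetEnum Cfsg.Spor

/-- In the presented sporadic Suzuki group, let H be the subgroup generated by the images of a, …, f. Then H has index 1782, H has orbits of sizes 416 and 1365 on the cosets of H other than H itself (with the index 1782 this makes the action rank 3). -/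
theorem result : (((Subgroup.closure ({Cfsg.Spor.Suz.a, Cfsg.Spor.Suz.b, Cfsg.Spor.Suz.c, Cfsg.Spor.Suz.d, Cfsg.Spor.Suz.e, Cfsg.Spor.Suz.f} : Set (FreeGroup Cfsg.Spor.Suz.Gen))).map (PresentedGroup.mk (Cfsg.Spor.coxRelators Cfsg.Spor.Suz.edges ∪ {r | r ∈ Cfsg.Spor.Suz.extra})))).index = 1782 ∧ ∃ q₁ q₂ : Cfsg.Spor.Suz ⧸ (((Subgroup.closure ({Cfsg.Spor.Suz.a, Cfsg.Spor.Suz.b, Cfsg.Spor.Suz.c, Cfsg.Spor.Suz.d, Cfsg.Spor.Suz.e, Cfsg.Spor.Suz.f} : Set (FreeGroup Cfsg.Spor.Suz.Gen))).map (PresentedGroup.mk (Cfsg.Spor.coxRelators Cfsg.Spor.Suz.edges ∪ {r | r ∈ Cfsg.Spor.Suz.extra})))), (MulAction.orbit (((Subgroup.closure ({Cfsg.Spor.Suz.a, Cfsg.Spor.Suz.b, Cfsg.Spor.Suz.c, Cfsg.Spor.Suz.d, Cfsg.Spor.Suz.e, Cfsg.Spor.Suz.f} : Set (FreeGroup Cfsg.Spor.Suz.Gen))).map (PresentedGroup.mk (Cfsg.Spor.coxRelators Cfsg.Spor.Suz.edges ∪ {r | r ∈ Cfsg.Spor.Suz.extra})))) q₁).ncard = 416 ∧ (MulAction.orbit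 (((Subgroup.closure ({Cfsg.Spor.Suz.a, Cfsg.Spor.Suz.b, Cfsg.Spor.Suz.c, Cfsg.Spor.Suz.d, Cfsg.Spor.Suz.e, Cfsg.Spor.Suz.f} : Set (FreeGroup Cfsg.Spor.Suz.Gen))).map (PresentedGroup.mk (Cfsg.Spor.coxRelators Cfsg.Spor.Suz.edges ∪ {r | r ∈ Cfsg.Spor.Suz.extra})))) q₂).ncard = 1365 := by
  let N := SuzPres.numbering
  have hx := N.gens_mul_self Suz.extra
  have hk : N.k ≤ eps := by decide
  have hR : SuzG24.cert.R0 = N.pairs ++ SuzPres.extra := by decide +kernel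
  obtain ⟨f, hf⟩ := N.exists_hom hk Suz.extra SuzG24.cert_valid hR rfl
    (SuzPres.map_extra _ fun g => tperm_mul_self _ _ _ g)
  have hrel := N.wordVal_gens hk (SuzPres.map_extra (N.gens Suz.extra) hx)
  have hK := N.map_closure Suz.extra (Us := [Suz.a, Suz.b, Suz.c, Suz.d, Suz.e, Suz.f])
    (U := SuzG24.subWords)
    (by simp [SuzG24.subWords, wordVal, gen, eps, N, SuzPres.numbering, SuzPres.num, pow_succ, mul_assoc])
    (s := {Suz.a, Suz.b, Suz.c, Suz.d, Suz.e, Suz.f})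
    (by ext w; simp)
  obtain ⟨hidx, Φ, hΦ, heq, -⟩ := SuzG24.cert_valid.index_eq hx (N.closure_gens Suz.extra)
    (fun r hr => hrel r (hR ▸ hr)) f hf hK
  obtain ⟨q0, h0, -, -⟩ :=
    exists_orbit_ncard SuzG24.cert_valid.perm (by decide) SuzG24.orb0_ok (by decide) f hf hK hΦ heq
  obtain ⟨q1, h1, -, -⟩ :=
    exists_orbit_ncard SuzG24.cert_valid.perm (by decide) SuzG24.orb1_ok (by decide) f hf hK hΦ heq
  exact ⟨hidx, q0, q1, h0, h1⟩

end Cfsg.Agent.S1680
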