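import Cfsg.Statements.S1685
import Cfsg.Agent.Lib.CosetEnum.Groups.Fi22
import Cfsg.Agent.Lib.CosetEnum.Fi22O73.Valid
-- import your own Cfsg.Agent.* helpers here

set_option autoImplicit false
open Cfsg

namespace Cfsg.Agent.S1685

open Cfsg.Lib.CosetEnum Cfsg.Spor

/-- In the presented Fischer group Fi₂₂ (generators a, …, i), the subgroup generated by the images of b, c, d, e, f, g, h, i has index 14080. -/
theorem result : (((Subgroup.closure ({Cfsg.Spor.Fi22.b, Cfsg.Spor.Fi22.c, Cfsg.Spor.Fi22.d, Cfsg.Spor.Fi22.e, Cfsg.Spor.Fi22.f, Cfsg.Spor.Fi22.g, Cfsg.Spor.Fi22.h, Cfsg.Spor.Fi22.i} : Set (FreeGroup Cfsg.Spor.Fi22.Gen))).map (PresentedGroup.mk (Cfsg.Spor.coxRelators Cfsg.Spor.Fi22.edges ∪ {r | r ∈ Cfsg.Spor.Fi22.extra})))).index = 14080 := by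
  let N := Fi22Pres.numbering
  have hx := N.gens_mul_self Fi22.extra
  have hk : N.k ≤ eps := by decide
  have hR : Fi22O73.cert.R0 = N.pairs ++ Fi22Pres.extra := by decide +kernel
  obtain ⟨f, hf⟩ := N.exists_hom hk Fi22.extra Fi22O73.cert_valid hR rfl
    (Fi22Pres.map_extra _ fun g => tperm_mul_self _ _ _ g)
  have hrel := N.wordVal_gens hk (Fi22Pres.map_extra (N.gens Fi22.extra) hx)
  have hK := N.map_closure Fi22.extra (Us := [Fi22.b, Fi22.c, Fi22.d, Fi22.e, Fi22.f, Fi22.g, Fi22.h, Fi22.i])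
    (U := Fi22O73.subWords)
    (by simp [Fi22O73.subWords, wordVal, gen, eps, N, Fi22Pres.numbering, Fi22Pres.num, pow_succ, mul_assoc])
    (s := {Fi22.b, Fi22.c, Fi22.d, Fi22.e, Fi22.f, Fi22.g, Fi22.h, Fi22.i})
    (by ext w; simp)
  obtain ⟨hidx, Φ, hΦ, heq, -⟩ := Fi22O73.cert_valid.index_eq hx (N.closure_gens Fi22.extra)
    (fun r hr => hrel r (hR ▸ hr)) f hf hK
  exact hidx

end Cfsg.Agent.S1685
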