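import Cfsg.Statements.S1690
import Cfsg.Agent.Lib.BigPerm.Fi24.Main

set_option autoImplicit false
open Cfsg

namespace Cfsg.Agent.S1690

/-- In the presented group Fi₂₄ = Fi₂₄′:2, the subgroup generated by the images of a, b, c, d, e, f, g, h, i, j and l (every generator but k) has index 306936. -/
theorem result : (((Subgroup.closure ({Cfsg.Spor.Fi24.a, Cfsg.Spor.Fi24.b, Cfsg.Spor.Fi24.c, Cfsg.Spor.Fi24.d, Cfsg.Spor.Fi24.e, Cfsg.Spor.Fi24.f, Cfsg.Spor.Fi24.g, Cfsg.Spor.Fi24.h, Cfsg.Spor.Fi24.i, Cfsg.Spor.Fi24.j, Cfsg.Spor.Fi24.l} : Set (FreeGroup Cfsg.Spor.Fi24.Gen))).map (PresentedGroup.mk (Cfsg.Spor.coxRelators Cfsg.Spor.Fi24.edges ∪ {r | r ∈ Cfsg.Spor.Fi24.extra})))).index = 306936 := by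
  rw [Lib.BigPerm.Fi24.numbering.map_closure Spor.Fi24.extra
    (Us := [Spor.Fi24.l, Spor.Fi24.a, Spor.Fi24.b, Spor.Fi24.c, Spor.Fi24.d, Spor.Fi24.e, Spor.Fi24.f,
      Spor.Fi24.g, Spor.Fi24.j, Spor.Fi24.h, Spor.Fi24.i])
    (U := Lib.BigPerm.Fi24Cert.bigWords) ?_ ?_]
  · exact Lib.BigPerm.Fi24.index_Hsub
  · simp [Lib.BigPerm.Fi24Cert.bigWords, Lib.CosetEnum.wordVal, Lib.CosetEnum.gen, Lib.CosetEnum.eps,
      Spor.Fi24.l, Spor.Fi24.a, Spor.Fi24.b, Spor.Fi24.c, Spor.Fi24.d, Spor.Fi24.e, Spor.Fi24.f,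
      Spor.Fi24.g, Spor.Fi24.j, Spor.Fi24.h, Spor.Fi24.i, Lib.BigPerm.Fi24.numbering, Lib.BigPerm.Fi24.num]
  · ext w
    simp only [Set.mem_insert_iff, Set.mem_singleton_iff, Set.mem_setOf_eq, List.mem_cons, List.not_mem_nil, or_false]
    tauto

end Cfsg.Agent.S1690
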