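import Cfsg.Statements.S1693
import Cfsg.Agent.Lib.CosetEnum.Groups.ONL37
import Cfsg.Agent.Lib.CosetEnum.Groups.ONSimple
-- import your own Cfsg.Agent.* helpers here

set_option autoImplicit false
open Cfsg

namespace Cfsg.Agent.S1693

open Cfsg.Lib.CosetEnum Cfsg.Spor

/-- In the presented O'Nan group, the subgroup H generated by the images of a, …, f has a normal subgroup of index 2 isomorphic to PSL(3, 7). -/
theorem result : ∃ N : Subgroup (((Subgroup.closure ({Cfsg.Spor.ON.a, Cfsg.Spor.ON.b, Cfsg.Spor.ON.c, Cfsg.Spor.ON.d, Cfsg.Spor.ON.e, Cfsg.Spor.ON.f} : Set (FreeGroup Cfsg.Spor.ON.Gen))).map (PresentedGroup.mk (Cfsg.Spor.coxRelators Cfsg.Spor.ON.edges ∪ {r | r ∈ Cfsg.Spor.ON.extra})))), N.Normal ∧ N.index = 2 ∧ Nonempty (N ≃* Matrix.ProjectiveSpecialLinearGroup (Fin 3) (ZMod 7)) := by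
  show ∃ N : Subgroup ONPres.H, N.Normal ∧ N.index = 2 ∧ _
  obtain ⟨hcardH, -, -⟩ := ONPres.card_H
  -- the presented group on six letters
  have hx : ∀ g, ONL37.y g * ONL37.y g = 1 := ONL37.y_mul_self
  have hrel := ONL37.wordVal_y
  have v1 : ONSub_abcdef.step.Valid ONL37.sub6 := ONSub_abcdef.step_valid (by decide +kernel)
  have v2 : ONSub_abcdf.step.Valid ONL37.sub6 := ONSub_abcdf.step_valid (by decide +kernel)
  have v3 : ONSub_abc.step.Valid ONL37.sub6 := ONSub_abc.step_valid (by decide +kernel)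
  have v4 : ONSub_ab.step.Valid ONL37.sub6 := ONSub_ab.step_valid (by decide +kernel)
  have v5 : ONSub_a.step.Valid ONL37.sub6 := ONSub_a.step_valid (by decide +kernel)
  have c5 := v5.card_le hx hrel (K := ⊥) (by simp [ONSub_a.step, ONSub_a.subWords])
    inferInstance (m := 1) (by rw [Subgroup.card_bot])
  have c4 := v4.card_le hx hrel
    (inLetters_mem ONL37.y (S := ONSub_a.step.S) (by decide +kernel)) c5.1 c5.2
  have c3 := v3.card_le hx hrel
    (inLetters_mem ONL37.y (S := ONSub_ab.step.S) (by decide +kernel)) c4.1 c4.2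
  have c2 := v2.card_le hx hrel
    (inLetters_mem ONL37.y (S := ONSub_abc.step.S) (by decide +kernel)) c3.1 c3.2
  obtain ⟨hfin', hle'⟩ := v1.card_le hx hrel
    (inLetters_mem ONL37.y (S := ONSub_abcdf.step.S) (by decide +kernel)) c2.1 c2.2
  have hall : Subgroup.closure (ONL37.y '' {g | g ∈ ONSub_abcdef.step.S}) = ⊤ := by
    rw [← ONL37.closure_y]
    congr 1
    ext z
    constructor
    · rintro ⟨g, hg, rfl⟩
      exact ⟨g, (show ∀ g ∈ ONSub_abcdef.step.S, g < 6 by decide +kernel) g hg, rfl⟩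
    · rintro ⟨g, hg, rfl⟩
      exact ⟨g, (show ∀ g < 6, g ∈ ONSub_abcdef.step.S by decide +kernel) g hg, rfl⟩
  rw [hall] at hfin' hle'
  have hfin : Finite ONL37.P6 := Finite.of_equiv _ Subgroup.topEquiv.toEquiv
  have hle : Nat.card ONL37.P6 ≤ 3753792 := by
    rw [← Nat.card_congr (Subgroup.topEquiv (G := ONL37.P6)).toEquiv]
    exact hle'.trans (by decide +kernel)
  -- the map onto H
  obtain ⟨π, hπ⟩ := ONL37.exists_hom ONPres.x fun r hr =>
    ONPres.wordVal_x r (List.mem_filter.1 hr).1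
  have hrange : π.range = ONPres.H := by
    rw [MonoidHom.range_eq_map, ← ONL37.closure_y, MonoidHom.map_closure, ONPres.H_eq]
    congr 1
    ext z
    constructor
    · rintro ⟨_, ⟨g, hg, rfl⟩, rfl⟩
      refine ⟨[g], (show ∀ g < 6, [g] ∈ ONMain.subWords by decide +kernel) g hg, ?_⟩
      have he : g ≠ eps := by simp only [eps]; have : g < 6 := hg; omega
      simp [wordVal, gen, he, hπ g hg]
    · rintro ⟨u, hu, rfl⟩
      obtain ⟨g, hg, rfl⟩ : ∃ g < 6, u = [g] := by
        simp only [ONMain.subWords, Set.mem_ofPred_eq, List.mem_cons, List.not_mem_nil, or_false] at hu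
        rcases hu with rfl | rfl | rfl | rfl | rfl | rfl <;> exact ⟨_, by omega, rfl⟩
      refine ⟨_, ⟨g, hg, rfl⟩, ?_⟩
      have he : g ≠ eps := by simp only [eps]; omega
      simp [wordVal, gen, he, hπ g hg]
  obtain ⟨hcard6, -⟩ := ONL37.exists_action hfin hle
  let π' : ONL37.P6 →* ONPres.H := π.codRestrict ONPres.H fun p => hrange ▸ ⟨p, rfl⟩
  have hsurj : Function.Surjective π' := by
    rintro ⟨z, hz⟩
    obtain ⟨p, hp⟩ : z ∈ π.range := hrange.symm ▸ hz
    exact ⟨p, Subtype.ext hp⟩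
  have hbij : Function.Bijective π' :=
    (Nat.bijective_iff_surjective_and_card π').2 ⟨hsurj, hcard6.trans hcardH.symm⟩
  let e : ONL37.P6 ≃* ONPres.H := MulEquiv.ofBijective π' hbij
  obtain ⟨ε, hε⟩ := ONL37.exists_parity
  obtain ⟨hidx, ⟨i⟩⟩ := ONL37.ker_equiv hfin hle ε hε
  refine ⟨ε.ker.map e.toMonoidHom, Subgroup.Normal.map inferInstance _ e.surjective, ?_, ⟨?_⟩⟩
  · exact (Subgroup.index_map_equiv _ e).trans hidx
  · exact (e.subgroupMap ε.ker).symm.trans i

end Cfsg.Agent.S1693
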