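import Cfsg.Statements.S1703
import Cfsg.Agent.Lib.J4Iso.Iso

set_option autoImplicit false
open Cfsg

namespace Cfsg.Agent.S1703

/-- The presented fourth Janko group is simple of the expected order (that is, it is a simple group of the order of the fourth Janko group). -/
theorem result : Cfsg.IsJ4 Cfsg.Spor.J4 := by
  haveI : IsSimpleGroup Lib.J4Real.Gsub := Lib.J4Real.isSimple_Gsub
  haveI : Nontrivial Cfsg.Spor.J4 := Lib.J4Iso.isoG.toEquiv.nontrivial
  exact ⟨IsSimpleGroup.isSimpleGroup_of_surjective Lib.J4Iso.isoG.symm.toMonoidHom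
      Lib.J4Iso.isoG.symm.surjective,
    (Nat.card_congr Lib.J4Iso.isoG.toEquiv).trans Lib.J4Real.card_Gsub⟩

end Cfsg.Agent.S1703
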