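import Cfsg.Statements.S1717
import Mathlib

set_option autoImplicit false
set_option maxRecDepth 4000
set_option maxHeartbeats 800000
open Cfsg

namespace Cfsg.Agent.S1717


open Matrix
open scoped MatrixGroups

/-- Position of an index in the order 0, 2, 3, 4, 1. -/
def pos : Fin 5 → ℕ := ![0, 4, 1, 2, 3]

abbrev M5 := Matrix (Fin 5) (Fin 5) (ZMod 2)

def Upper (N : M5) : Prop := ∀ i j, pos j < pos i + 1 → N i j = 0

theorem upper_pow (N : M5) (h : Upper N) : ∀ k i j, pos j < pos i + k → (N ^ k) i j = 0 := by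
  intro k
  induction k with
  | zero => intro i j hij; rw [pow_zero, Matrix.one_apply_ne]; rintro rfl; omega
  | succ k ih =>
    intro i j hij
    rw [pow_succ, Matrix.mul_apply]
    refine Finset.sum_eq_zero fun l _ => ?_
    by_cases hl : pos l < pos i + k
    · rw [ih i l hl, zero_mul]
    · rw [h l j (by omega), mul_zero]

theorem pow_eight (M : M5) (h : Upper (M - 1)) : M ^ 8 = 1 := by
  have h0 : (M - 1) ^ 8 = 0 := by
    ext i j
    refine upper_pow _ h 8 i j ?_
    have : pos j ≤ 4 := by fin_cases j <;> simp [pos]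
    omega
  haveI : CharP M5 2 := inferInstance
  have e : ((M - 1) + 1) ^ (2 ^ 3) = (M - 1) ^ (2 ^ 3) + 1 ^ (2 ^ 3) := add_pow_expChar_pow_of_commute 2 3 (Commute.one_right (M - 1))
  rw [sub_add_cancel, one_pow, show (2 : ℕ) ^ 3 = 8 from rfl, h0, zero_add] at e
  exact e

def U : Subgroup SL(5, ZMod 2) where
  carrier := {g | Upper ((g : M5) - 1)}
  one_mem' := by intro i j _; simp
  mul_mem' {a b} ha hb := by
    intro i j hij
    have e : ((a * b : SL(5, ZMod 2)) : M5) - 1 = ((a : M5) - 1) * ((b : M5) - 1) + ((a : M5) - 1) + ((b : M5) - 1) := by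
      rw [Matrix.SpecialLinearGroup.coe_mul]; noncomm_ring
    rw [e, Matrix.add_apply, Matrix.add_apply, ha i j hij, hb i j hij, add_zero, add_zero, Matrix.mul_apply]
    refine Finset.sum_eq_zero fun l _ => ?_
    by_cases hl : pos l < pos i + 1
    · rw [ha i l hl, zero_mul]
    · rw [hb l j (by omega), mul_zero]
  inv_mem' {a} ha := by
    intro i j hij
    have h8 : a ^ 8 = 1 := Matrix.SpecialLinearGroup.ext _ _ fun i j => by
      rw [Matrix.SpecialLinearGroup.coe_pow, pow_eight _ ha]; rfl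
    rw [show a⁻¹ = a ^ 7 from inv_eq_of_mul_eq_one_right (by rw [← pow_succ', h8]), Matrix.SpecialLinearGroup.coe_pow]
    have key : ∀ n : ℕ, ∀ i j, pos j < pos i + 1 → ((a : M5) ^ n - 1) i j = 0 := by
      intro n
      induction n with
      | zero => intro i j _; simp
      | succ n ih =>
        intro i j hij
        have e : (a : M5) ^ (n + 1) - 1 = ((a : M5) ^ n - 1) * ((a : M5) - 1) + ((a : M5) ^ n - 1) + ((a : M5) - 1) := by
          rw [pow_succ]; noncomm_ring
        rw [e, Matrix.add_apply, Matrix.add_apply, ih i j hij, ha i j hij, add_zero, add_zero, Matrix.mul_apply]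
        refine Finset.sum_eq_zero fun l _ => ?_
        by_cases hl : pos l < pos i + 1
        · rw [ih i l hl, zero_mul]
        · rw [ha l j (by omega), mul_zero]
    exact key 7 i j hij

theorem isPGroup_U : IsPGroup 2 U := fun g => ⟨3, Subtype.ext (Matrix.SpecialLinearGroup.ext _ _ fun i j => by
  rw [SubmonoidClass.coe_pow, Matrix.SpecialLinearGroup.coe_pow, show 2 ^ 3 = 8 from rfl, pow_eight _ g.2]; rfl)⟩

def tr (a b : Fin 5) (h : a ≠ b) : SL(5, ZMod 2) := ⟨Matrix.transvection a b 1, Matrix.det_transvection_of_ne a b h 1⟩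

theorem tr_mem (a b : Fin 5) (h : a ≠ b) (hp : pos a < pos b) : tr a b h ∈ U := by
  intro i j hij
  show (Matrix.transvection a b (1 : ZMod 2) - 1) i j = 0
  rw [Matrix.transvection, add_sub_cancel_left, Matrix.single_apply]
  split_ifs with he
  · obtain ⟨rfl, rfl⟩ := he; omega
  · rfl

theorem U_le (s : SL(5, ZMod 2)) (hs : (s : M5) = Matrix.transvection 0 1 1) :
    U ≤ Subgroup.centralizer ({s} : Set SL(5, ZMod 2)) := by
  intro g hg
  rw [Subgroup.mem_centralizer_singleton_iff]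
  refine Matrix.SpecialLinearGroup.ext _ _ fun i j => ?_
  rw [Matrix.SpecialLinearGroup.coe_mul, Matrix.SpecialLinearGroup.coe_mul, hs]
  have hcol : ∀ k, (g : M5) k 0 = (1 : M5) k 0 := fun k => sub_eq_zero.1 (hg k 0 (by simp [pos]))
  have hrow : ∀ k, (g : M5) 1 k = (1 : M5) 1 k := fun k => sub_eq_zero.1 (hg 1 k (by fin_cases k <;> simp [pos]))
  have e1 : (g : M5) * Matrix.transvection 0 1 1 = Matrix.transvection 0 1 1 * (g : M5) := by
    rw [Matrix.transvection, mul_add, add_mul, mul_one, one_mul]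
    congr 1
    ext a b
    by_cases ha : a = 0 <;> by_cases hb : b = 1
    · subst ha hb; simp [hcol, hrow]
    · subst ha; rw [Matrix.mul_single_apply_of_ne _ _ _ _ _ hb, Matrix.single_mul_apply_same, hrow, Matrix.one_apply_ne (Ne.symm hb), mul_zero]
    · subst hb; rw [Matrix.single_mul_apply_of_ne _ _ _ _ _ ha, Matrix.mul_single_apply_same, hcol, Matrix.one_apply_ne ha, zero_mul]
    · rw [Matrix.mul_single_apply_of_ne _ _ _ _ _ hb, Matrix.single_mul_apply_of_ne _ _ _ _ _ ha]
  rw [e1]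

theorem cent_U (s : SL(5, ZMod 2)) (hs : (s : M5) = Matrix.transvection 0 1 1) (g : SL(5, ZMod 2))
    (h : ∀ u ∈ U, u * g = g * u) : g = 1 ∨ g = s := by
  have key : ∀ a b : Fin 5, ∀ (hab : a ≠ b), pos a < pos b →
      (∀ k, k ≠ a → (g : M5) k a = 0) ∧ (∀ k, k ≠ b → (g : M5) b k = 0) ∧ (g : M5) a a = (g : M5) b b := by
    intro a b hab hp
    have h1 : Matrix.transvection a b (1 : ZMod 2) * (g : M5) = (g : M5) * Matrix.transvection a b 1 :=
      congrArg (fun x : SL(5, ZMod 2) => (x : M5)) (h _ (tr_mem a b hab hp))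
    simp only [Matrix.transvection, add_mul, mul_add, one_mul, mul_one, add_right_inj] at h1
    refine ⟨fun k hk => ?_, fun k hk => ?_, ?_⟩
    · have := congrFun (congrFun h1 k) b
      rw [Matrix.single_mul_apply_of_ne _ _ _ _ _ hk, Matrix.mul_single_apply_same, mul_one] at this
      exact this.symm
    · have := congrFun (congrFun h1 a) k
      rw [Matrix.single_mul_apply_same, Matrix.mul_single_apply_of_ne _ _ _ _ _ hk, one_mul] at this
      exact this
    · have := congrFun (congrFun h1 a) b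
      rw [Matrix.single_mul_apply_same, Matrix.mul_single_apply_same, one_mul, mul_one] at this
      exact this.symm
  obtain ⟨a0, b1, d0⟩ := key 0 1 (by decide) (by simp [pos])
  obtain ⟨a2, -, d2⟩ := key 2 1 (by decide) (by simp [pos])
  obtain ⟨a3, -, d3⟩ := key 3 1 (by decide) (by simp [pos])
  obtain ⟨a4, -, d4⟩ := key 4 1 (by decide) (by simp [pos])
  obtain ⟨-, b2, -⟩ := key 0 2 (by decide) (by simp [pos])
  obtain ⟨-, b3, -⟩ := key 0 3 (by decide) (by simp [pos])
  obtain ⟨-, b4, -⟩ := key 0 4 (by decide) (by simp [pos])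
  set d := (g : M5) 1 1 with hd
  have hg : (g : M5) = d • (1 : M5) + Matrix.single 0 1 ((g : M5) 0 1) := by
    ext i j
    rw [Matrix.add_apply, Matrix.smul_apply, smul_eq_mul, Matrix.single_apply, Matrix.one_apply]
    by_cases hij : i = j
    · subst hij
      rw [if_pos rfl, mul_one, if_neg (by rintro ⟨rfl, h1⟩; exact absurd h1 (by decide)), add_zero]
      fin_cases i
      · exact d0
      · rfl
      · exact d2
      · exact d3
      · exact d4
    · rw [if_neg hij, mul_zero, zero_add]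
      by_cases h01 : 0 = i ∧ 1 = j
      · obtain ⟨rfl, rfl⟩ := h01; rw [if_pos ⟨rfl, rfl⟩]
      rw [if_neg h01]
      fin_cases j
      · exact a0 i hij
      · fin_cases i
        · exact absurd ⟨rfl, rfl⟩ h01
        · exact absurd rfl hij
        · exact b2 1 (Ne.symm hij)
        · exact b3 1 (Ne.symm hij)
        · exact b4 1 (Ne.symm hij)
      · exact a2 i hij
      · exact a3 i hij
      · exact a4 i hij
  have hd1 : d = 1 := by
    have hz2 : ∀ x : ZMod 2, x = 0 ∨ x = 1 := by decide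
    rcases hz2 d with h0 | h0
    · exfalso
      have hdet : (g : M5).det = 1 := g.2
      rw [Matrix.det_eq_zero_of_row_eq_zero 1 (fun j => by
        by_cases hj : j = 1
        · rw [hj]; exact h0
        · exact b1 j hj)] at hdet
      exact zero_ne_one hdet
    · exact h0
  rw [hd1, one_smul] at hg
  have hz2 : ∀ x : ZMod 2, x = 0 ∨ x = 1 := by decide
  rcases hz2 ((g : M5) 0 1) with h0 | h0
  · left
    refine Matrix.SpecialLinearGroup.ext _ _ fun i j => ?_
    rw [hg, h0, Matrix.single_zero, add_zero]; rfl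
  · right
    refine Matrix.SpecialLinearGroup.ext _ _ fun i j => ?_
    rw [hg, h0, hs]; rfl


theorem map_sylow_eq {A B : Type*} [Group A] [Finite A] [Group B] [Finite B] (e : A ≃* B) (d : B) (T : Sylow 2 A)
    (P : Sylow 2 B) (hd : ∀ x ∈ (T : Subgroup A).map e.toMonoidHom, d * x * d⁻¹ ∈ (P : Subgroup B)) :
    ((T : Subgroup A).map e.toMonoidHom).map (MulAut.conj d).toMonoidHom = (P : Subgroup B) := by
  have := Fact.mk Nat.prime_two
  refine Subgroup.eq_of_le_of_card_ge ?_ ?_
  · rintro _ ⟨x, hx, rfl⟩; exact hd x hx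
  · obtain ⟨S', hS'⟩ := (P.isPGroup'.map e.symm.toMonoidHom).exists_le_sylow
    have h1 := Nat.le_of_dvd Nat.card_pos (Subgroup.card_dvd_of_le hS')
    rw [Subgroup.card_map_of_injective e.symm.injective, ← Nat.card_congr (Sylow.equiv T S').toEquiv] at h1
    rwa [Subgroup.card_map_of_injective (MulAut.conj d).injective, Subgroup.card_map_of_injective e.injective]

theorem core {G W : Type*} [Group G] [Finite G] [Group W] [Finite W] (s : W) (U : Subgroup W) (hUp : IsPGroup 2 ↥U)
    (hUle : U ≤ Subgroup.centralizer ({s} : Set W)) (hcU : ∀ g : W, (∀ u ∈ U, u * g = g * u) → g = 1 ∨ g = s) (z : G)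
    (hz : orderOf z = 2) (e : (Subgroup.centralizer ({z} : Set G)) ≃* Subgroup.centralizer ({s} : Set W))
    (T : Sylow 2 (Subgroup.centralizer ({z} : Set G))) :
    ¬ 2 ∣ ((T : Subgroup (Subgroup.centralizer ({z} : Set G))).map (Subgroup.subtype (Subgroup.centralizer ({z} : Set G)))).index := by
  classical
  have := Fact.mk Nat.prime_two
  obtain ⟨C, hC⟩ : ∃ C, C = Subgroup.centralizer ({z} : Set G) := ⟨_, rfl⟩
  revert e T
  rw [← hC]
  intro e T
  set D := Subgroup.centralizer ({s} : Set W) with hD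
  have hsD : s ∈ D := Subgroup.mem_centralizer_singleton_iff.2 rfl
  obtain ⟨P, hP⟩ := (hUp.comap_of_injective D.subtype D.subtype_injective : IsPGroup 2 ↥(U.subgroupOf D)).exists_le_sylow
  -- elements of `D` centralizing a conjugate of `P`
  obtain ⟨d, hd⟩ : ∃ d : ↥D, ∀ x ∈ (T : Subgroup ↥C).map e.toMonoidHom, ∀ y, y = d * x * d⁻¹ → y ∈ (P : Subgroup ↥D) := by
    obtain ⟨Q, hQ⟩ := (T.isPGroup'.map e.toMonoidHom).exists_le_sylow
    obtain ⟨d, hd⟩ := MulAction.exists_smul_eq ↥D Q P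
    refine ⟨d, fun x hx y hy => ?_⟩
    rw [← hd, hy]
    exact ⟨x, hQ hx, rfl⟩
  have hU : ∀ u ∈ U, ∃ t ∈ (T : Subgroup ↥C), ((d * e t * d⁻¹ : ↥D) : W) = u := by
    intro u hu
    have heq : ((T : Subgroup ↥C).map e.toMonoidHom).map (MulAut.conj d).toMonoidHom = (P : Subgroup ↥D) :=
      map_sylow_eq e d T P (fun x hx => hd x hx _ rfl)
    obtain ⟨_, ⟨t, ht, rfl⟩, he⟩ := heq.symm ▸ hP (x := ⟨u, hUle hu⟩) (Subgroup.mem_subgroupOf.2 hu)
    exact ⟨t, ht, congrArg Subtype.val he⟩
  have hzC : z ∈ C := hC ▸ Subgroup.mem_centralizer_singleton_iff.2 rfl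
  have hz1 : z ≠ 1 := fun h => by rw [h, orderOf_one] at hz; omega
  have hcen : ∀ t : ↥C, (∀ t' ∈ (T : Subgroup ↥C), t' * t = t * t') → t = 1 ∨ e t = ⟨s, hsD⟩ := by
    intro t ht
    rcases hcU ((d * e t * d⁻¹ : ↥D) : W) (fun u hu => by
      obtain ⟨t', ht', rfl⟩ := hU u hu
      rw [← Subgroup.coe_mul, ← Subgroup.coe_mul]
      congr 1
      rw [conj_mul, conj_mul, ← map_mul, ← map_mul, ht t' ht']) with h | h
    · refine Or.inl (e.injective ?_)
      rw [map_one]
      exact conj_eq_one_iff.1 (Subtype.ext h)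
    · refine Or.inr ?_
      have h2 : d * e t * d⁻¹ = ⟨s, hsD⟩ := Subtype.ext h
      have hc : (⟨s, hsD⟩ : ↥D) * d = d * ⟨s, hsD⟩ :=
        Subtype.ext (Subgroup.mem_centralizer_singleton_iff.1 d.2).symm
      rw [mul_inv_eq_iff_eq_mul, hc] at h2
      exact mul_left_cancel h2
  have hzt : ∀ x : ↥C, x * ⟨z, hzC⟩ = ⟨z, hzC⟩ * x := fun x => Subtype.ext (Subgroup.mem_centralizer_singleton_iff.1 (show (x : G) ∈ Subgroup.centralizer ({z} : Set G) from hC ▸ x.2))
  have hzT : (⟨z, hzC⟩ : ↥C) ∈ (T : Subgroup ↥C) := by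
    haveI : (Subgroup.zpowers (⟨z, hzC⟩ : ↥C)).Normal := ⟨fun u hu g => by
      obtain ⟨i, rfl⟩ := hu
      show g * _ ^ i * g⁻¹ ∈ _
      rw [((show Commute g ⟨z, hzC⟩ from hzt g).zpow_right i).eq, mul_inv_cancel_right]
      exact zpow_mem (Subgroup.mem_zpowers _) i⟩
    have hp : IsPGroup 2 ↥(Subgroup.zpowers (⟨z, hzC⟩ : ↥C)) :=
      IsPGroup.of_card (n := 1) (by rw [Nat.card_zpowers, Subgroup.orderOf_mk, hz, pow_one])
    exact (le_sup_right.trans (T.is_maximal' (T.isPGroup'.to_sup_of_normal_right hp) le_sup_left).le) (Subgroup.mem_zpowers _)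
  set T' := (T : Subgroup ↥C).map C.subtype with hT'
  obtain ⟨R, hR⟩ := (T.isPGroup'.map C.subtype : IsPGroup 2 ↥T').exists_le_sylow
  rcases eq_or_lt_of_le hR with h | h
  · show ¬ 2 ∣ T'.index
    rw [show T' = (R : Subgroup G) from h]; exact R.not_dvd_index
  exfalso
  haveI := R.isPGroup'.isNilpotent
  have hnc := (normalizerCondition_of_isNilpotent (G := ↥(R : Subgroup G))) (T'.subgroupOf R) (lt_top_iff_ne_top.2 fun e =>
    h.not_ge (Subgroup.subgroupOf_eq_top.1 e))
  obtain ⟨r, hrN, hrT⟩ := SetLike.exists_of_lt hnc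
  -- `r` fixes `z`, so lies in `C`
  have hmem : ∀ x ∈ T', (r : G) * x * (r : G)⁻¹ ∈ T' := fun x hx =>
    Subgroup.mem_subgroupOf.1 ((Subgroup.mem_normalizer_iff.1 hrN ⟨x, hR hx⟩).1 (Subgroup.mem_subgroupOf.2 hx))
  have hmem' : ∀ x ∈ T', (r : G)⁻¹ * x * (r : G) ∈ T' := fun x hx => by
    have := Subgroup.mem_subgroupOf.1 ((Subgroup.mem_normalizer_iff.1 (inv_mem hrN) ⟨x, hR hx⟩).1 (Subgroup.mem_subgroupOf.2 hx))
    simpa using this
  obtain ⟨w, hw, hwz⟩ := hmem z ⟨_, hzT, rfl⟩
  have hwc : ∀ t' ∈ (T : Subgroup ↥C), t' * w = w * t' := fun t' ht' => Subtype.ext (by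
    obtain ⟨u, hu, hu'⟩ := hmem' (t' : G) ⟨t', ht', rfl⟩
    have hu2 : (u : G) = (r : G)⁻¹ * (t' : G) * r := hu'
    have hwz' : (w : G) = (r : G) * z * (r : G)⁻¹ := hwz
    have hzu : (u : G) * z = z * u := congrArg Subtype.val (hzt u)
    show (t' : G) * w = w * t'
    calc (t' : G) * w = (r : G) * ((u : G) * z) * (r : G)⁻¹ := by rw [hwz', hu2]; group
      _ = (r : G) * (z * u) * (r : G)⁻¹ := by rw [hzu]
      _ = w * t' := by rw [hwz', hu2]; group)
  have hwz' : (w : G) = (r : G) * z * (r : G)⁻¹ := hwz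
  have hw1 : w ≠ 1 := fun e1 => hz1 (conj_eq_one_iff.1 (hwz'.symm.trans (congrArg Subtype.val e1)))
  have e1 := (hcen w hwc).resolve_left hw1
  have e2 := (hcen ⟨z, hzC⟩ fun t' _ => hzt t').resolve_left fun e2 => hz1 (congrArg Subtype.val e2)
  have e3 : (w : G) = z := congrArg Subtype.val (e.injective (e1.trans e2.symm))
  have hrC : (r : G) ∈ C := hC ▸ Subgroup.mem_centralizer_singleton_iff.2 (mul_inv_eq_iff_eq_mul.1 (hwz'.symm.trans e3))
  apply hrT
  rw [Subgroup.mem_subgroupOf]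
  -- `r` is a 2-element of `C` normalizing `T`
  set K := Subgroup.zpowers (⟨(r : G), hrC⟩ : ↥C)
  have hKp : IsPGroup 2 ↥K := by
    obtain ⟨k, hk⟩ := IsPGroup.iff_orderOf.1 R.isPGroup' r
    exact IsPGroup.of_card (n := k) (by rw [Nat.card_zpowers, Subgroup.orderOf_mk, Subgroup.orderOf_coe, hk])
  have hKn : K ≤ Subgroup.normalizer ((T : Subgroup ↥C) : Set ↥C) := by
    rw [Subgroup.zpowers_le, Subgroup.mem_normalizer_iff]
    intro x
    constructor
    · intro hx
      obtain ⟨y, hy, he⟩ := hmem (x : G) ⟨x, hx, rfl⟩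
      have : y = (⟨(r : G), hrC⟩ : ↥C) * x * (⟨(r : G), hrC⟩ : ↥C)⁻¹ := Subtype.ext he
      exact this ▸ hy
    · intro hx
      obtain ⟨y, hy, he⟩ := hmem' _ ⟨_, hx, rfl⟩
      have : y = x := Subtype.ext (by
        rw [show (C.subtype y : G) = (y : G) from rfl] at he
        rw [he]; show (r : G)⁻¹ * ((r : G) * x * (r : G)⁻¹) * r = x; group)
      exact this ▸ hy
  have := T.is_maximal' (hKp.to_sup_of_normal_right' T.isPGroup' hKn) le_sup_right
  exact ⟨_, this ▸ Subgroup.mem_sup_left (Subgroup.mem_zpowers _), rfl⟩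


/-- Let G be a finite group with an involution z whose centraliser C is isomorphic to the centraliser of a transvection of SL(5, 2). Then a Sylow 2-subgroup of C, viewed in G, is a Sylow 2-subgroup of G (its index in G is odd). -/
theorem result {G : Type*} [Group G] [Finite G] (s : Matrix.SpecialLinearGroup (Fin 5) (ZMod 2)) (hs : (s : Matrix (Fin 5) (Fin 5) (ZMod 2)) = Matrix.transvection 0 1 1) (z : G) (hz : orderOf z = 2) (e : (Subgroup.centralizer ({z} : Set G)) ≃* Subgroup.centralizer ({s} : Set (Matrix.SpecialLinearGroup (Fin 5) (ZMod 2)))) (T : Sylow 2 (Subgroup.centralizer ({z} : Set G))) : ¬ 2 ∣ ((T : Subgroup (Subgroup.centralizer ({z} : Set G))).map (Subgroup.subtype (Subgroup.centralizer ({z} : Set G)))).index := by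
  exact core s U isPGroup_U (U_le s hs) (cent_U s hs) z hz e T

end Cfsg.Agent.S1717
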