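import Cfsg.Statements.S1722
import Cfsg.Agent.Lib.J2Type.Five

set_option autoImplicit false
open Cfsg

namespace Cfsg.Agent.S1722

/-- Sylow 5-structure of a group of Hall–Janko type (large-extraspecial hypothesis with Q of order 32, quotient Ω⁻(4, 2), z not weakly closed in Q, more than one class of involutions): a Sylow 5-subgroup P is its own centraliser, has order 25, its normaliser has order 300, and the subgroups of order 5 fall into exactly two conjugacy classes. -/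
theorem result {G : Type*} [Group G] [Finite G] (z : G) (hz : orderOf z = 2) (Q : Subgroup (Subgroup.centralizer ({z} : Set G))) [Q.Normal] (hF : Cfsg.generalizedFittingSubgroup (Subgroup.centralizer ({z} : Set G)) = Q) (hQ : Cfsg.IsExtraspecial 2 Q) (hcard : Nat.card Q = 2 ^ 5) (e : (Subgroup.centralizer ({z} : Set G)) ⧸ Q ≃* Cfsg.Omega (ZMod 2) (Cfsg.quadFormMinus 1 (ZMod 2) 1 1)) (hnwc : ∃ g : G, (∃ hq : g * z * g⁻¹ ∈ Subgroup.centralizer ({z} : Set G), (⟨g * z * g⁻¹, hq⟩ : Subgroup.centralizer ({z} : Set G)) ∈ Q) ∧ g * z * g⁻¹ ≠ z) (hcl : ∃ x y : G, orderOf x = 2 ∧ orderOf y = 2 ∧ ¬ IsConj x y) (P : Sylow 5 G) : Subgroup.centralizer ((P : Subgroup G) : Set G) = P ∧ Nat.card P = 25 ∧ Nat.card (Subgroup.normalizer ((P : Subgroup G) : Set G)) = 300 ∧ ∃ X Y : Subgroup G, Nat.card X = 5 ∧ Nat.card Y = 5 ∧ (∀ g : G, X.map (MulAut.conj g).toMonoidHom ≠ Y) ∧ ∀ W : Subgroup G, Nat.card W = 5 → ∃ g : G, W.map (MulAut.conj g).toMonoidHom =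 X ∨ W.map (MulAut.conj g).toMonoidHom = Y := by
  classical
  haveI : Fact (Nat.Prime 5) := ⟨by norm_num⟩
  have hS := Cfsg.Lib.J2Type.Setup.of_hyp z hz Q hF hQ hcard e hnwc hcl
  obtain ⟨t, ht, hnc⟩ := hS.exists_outer
  obtain ⟨V, L, hB, -⟩ := hS.main ht hnc
  obtain ⟨eL⟩ := hB.iso
  obtain ⟨f', hf'⟩ := exists_prime_orderOf_dvd_card' (G := ↥L) 5
    (by rw [Nat.card_congr eL.toEquiv, Cfsg.Lib.J2Type.a5_card]; norm_num)
  have hf : orderOf (f' : G) = 5 := by rw [Subgroup.orderOf_coe, hf']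
  obtain ⟨P₀, hP₀⟩ := (show IsPGroup 5 (Subgroup.zpowers (f' : G)) from
    IsPGroup.of_card (n := 1) (by rw [Nat.card_zpowers, hf, pow_one])).exists_le_sylow
  obtain ⟨h1, h2, h3⟩ := hS.five_local ht hnc hB f'.2 hf P₀ (hP₀ (Subgroup.mem_zpowers _))
  obtain ⟨g, hg⟩ := MulAction.exists_smul_eq G P₀ P
  have hP : (P : Subgroup G) = (P₀ : Subgroup G).map (MulAut.conj g).toMonoidHom := by
    rw [← hg]; rfl
  refine ⟨?_, hS.sylow_five_card ht hnc hB P, ?_, h3⟩
  · ext x
    rw [hP]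
    constructor
    · intro hx
      have : g⁻¹ * x * g ∈ Subgroup.centralizer ((P₀ : Subgroup G) : Set G) :=
        Subgroup.mem_centralizer_iff.2 fun a ha => by
          have h := Subgroup.mem_centralizer_iff.1 hx _ (Cfsg.Lib.Sig.conj_mem_map_conj (g := g) ha)
          calc a * (g⁻¹ * x * g) = g⁻¹ * (g * a * g⁻¹ * x) * g := by group
            _ = g⁻¹ * x * g * a := by rw [h]; group
      rw [h1] at this
      exact Cfsg.Lib.Sig.mem_map_conj_iff.2 this
    · intro hx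
      have hx' := Cfsg.Lib.Sig.mem_map_conj_iff.1 hx
      rw [← h1] at hx'
      refine Subgroup.mem_centralizer_iff.2 fun a ha => ?_
      have h := Subgroup.mem_centralizer_iff.1 hx' _ (Cfsg.Lib.Sig.mem_map_conj_iff.1 ha)
      calc a * x = g * (g⁻¹ * a * g * (g⁻¹ * x * g)) * g⁻¹ := by group
        _ = x * a := by rw [h]; group
  · rw [hP, ← Cfsg.Lib.Sig.map_conj_normalizer, Cfsg.Lib.Sig.card_map_conj, h2]

end Cfsg.Agent.S1722
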