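import Cfsg.Statements.S1723
import Cfsg.Agent.Lib.J2Type.Three

set_option autoImplicit false
open Cfsg

namespace Cfsg.Agent.S1723

/-- Sylow 3-structure of a group of Hall–Janko type (large-extraspecial hypothesis with Q of order 32, quotient Ω⁻(4, 2), z not weakly closed in Q, more than one class of involutions): a Sylow 3-subgroup P is extraspecial of order 27, its normaliser has order 216, and the elements of order 3 form exactly two conjugacy classes. -/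
theorem result {G : Type*} [Group G] [Finite G] (z : G) (hz : orderOf z = 2) (Q : Subgroup (Subgroup.centralizer ({z} : Set G))) [Q.Normal] (hF : Cfsg.generalizedFittingSubgroup (Subgroup.centralizer ({z} : Set G)) = Q) (hQ : Cfsg.IsExtraspecial 2 Q) (hcard : Nat.card Q = 2 ^ 5) (e : (Subgroup.centralizer ({z} : Set G)) ⧸ Q ≃* Cfsg.Omega (ZMod 2) (Cfsg.quadFormMinus 1 (ZMod 2) 1 1)) (hnwc : ∃ g : G, (∃ hq : g * z * g⁻¹ ∈ Subgroup.centralizer ({z} : Set G), (⟨g * z * g⁻¹, hq⟩ : Subgroup.centralizer ({z} : Set G)) ∈ Q) ∧ g * z * g⁻¹ ≠ z) (hcl : ∃ x y : G, orderOf x = 2 ∧ orderOf y = 2 ∧ ¬ IsConj x y) (P : Sylow 3 G) : Cfsg.IsExtraspecial 3 (P : Subgroup G) ∧ Nat.card P = 27 ∧ Nat.card (Subgroup.normalizer ((P : Subgroup G) : Set G)) = 216 ∧ ∃ a b : G, orderOf a = 3 ∧ orderOf b = 3 ∧ ¬ IsConj a b ∧ ∀ c : G, orderOf c = 3 → IsConj c a ∨ IsConj c b := by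
  classical
  haveI : Fact (Nat.Prime 3) := ⟨by norm_num⟩
  have hS := Cfsg.Lib.J2Type.Setup.of_hyp z hz Q hF hQ hcard e hnwc hcl
  obtain ⟨t, ht, hnc⟩ := hS.exists_outer
  obtain ⟨V, L, hB, -⟩ := hS.main ht hnc
  obtain ⟨P₀, hna, hN, d, e0, hd, he, hde, -, -, hall⟩ := hS.three_local ht hnc hB
  obtain ⟨g, hg⟩ := MulAction.exists_smul_eq G P₀ P
  have hP : (P : Subgroup G) = (P₀ : Subgroup G).map (MulAut.conj g).toMonoidHom := by
    rw [← hg]; rfl
  have h27 := hS.sylow_three_card ht hnc hB P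
  refine ⟨?_, h27, ?_, d, e0, hd, he, hde, hall⟩
  · refine Cfsg.Lib.J2Type.isExtraspecial_of_cube (by rw [h27]; norm_num) fun hc => hna ⟨⟨fun a b => ?_⟩⟩
    have ha : g * (a : G) * g⁻¹ ∈ (P : Subgroup G) := hP ▸ Cfsg.Lib.Sig.conj_mem_map_conj a.2
    have hb : g * (b : G) * g⁻¹ ∈ (P : Subgroup G) := hP ▸ Cfsg.Lib.Sig.conj_mem_map_conj b.2
    have h : g * (a : G) * g⁻¹ * (g * (b : G) * g⁻¹) = g * (b : G) * g⁻¹ * (g * (a : G) * g⁻¹) :=
      congrArg Subtype.val (hc.is_comm.comm (⟨_, ha⟩ : (P : Subgroup G)) ⟨_, hb⟩)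
    exact Subtype.ext ((Commute.conj_iff g).1 h)
  · rw [hP, ← Cfsg.Lib.Sig.map_conj_normalizer, Cfsg.Lib.Sig.card_map_conj, hN]

end Cfsg.Agent.S1723
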