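import Cfsg.Statements.S1724
import Cfsg.Agent.Lib.J2Type.Three
import Mathlib.GroupTheory.SpecificGroups.Cyclic

set_option autoImplicit false
open Cfsg

namespace Cfsg.Agent.S1724

open Subgroup in
/-- The Sylow 7-structure, from the local structure at the other primes. -/
theorem aux {G : Type*} [Group G] [Finite G] {z t : G} {Q : Subgroup G} (hS : Cfsg.Lib.J2Type.Setup z Q)
    (ht : Cfsg.Lib.J2Type.Outer z Q t) (hnc : ¬ IsConj z t) {V L : Subgroup G}
    (hB : Cfsg.Lib.J2Type.Big z t V L) (D : Sylow 7 G) :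
    centralizer ((D : Subgroup G) : Set G) = D ∧ Nat.card ↥(normalizer ((D : Subgroup G) : Set G)) = 42 ∧
      ¬ IsMulCommutative ↥(normalizer ((D : Subgroup G) : Set G)) := by
  classical
  haveI : Fact (Nat.Prime 7) := ⟨by norm_num⟩
  haveI : Fact (Nat.Prime 5) := ⟨by norm_num⟩
  haveI : Fact (Nat.Prime 3) := ⟨by norm_num⟩
  haveI : Fact (Nat.Prime 2) := ⟨Nat.prime_two⟩
  have hG := hS.card_G_big ht hnc hB
  set D₀ := (D : Subgroup G) with hD₀
  have h7 : Nat.card D₀ = 7 := by
    obtain ⟨i, hi⟩ := D.2.exists_card_eq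
    have h1 := card_mul_index (D : Subgroup G)
    have h2 := D.not_dvd_index
    rw [hG, hi] at h1
    rw [hi]
    have hi9 : i < 8 := (Nat.pow_lt_pow_iff_right (by norm_num : 1 < 7)).1
      (lt_of_le_of_lt (Nat.le_of_dvd (by norm_num) (Dvd.intro _ h1)) (by norm_num : 604800 < 7 ^ 8))
    interval_cases i <;> omega
  haveI : IsCyclic D₀ := isCyclic_of_prime_card h7
  haveI : IsMulCommutative D₀ := ⟨⟨fun a b => by
    obtain ⟨x, hx⟩ := IsCyclic.exists_generator (α := D₀)
    obtain ⟨i, rfl⟩ := mem_zpowers_iff.1 (hx a)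
    obtain ⟨j, rfl⟩ := mem_zpowers_iff.1 (hx b)
    exact ((Commute.refl x).zpow_zpow i j).eq⟩⟩
  set C := centralizer (D₀ : Set G) with hC
  have hDC : D₀ ≤ C := fun a ha => mem_centralizer_iff.2 fun b hb =>
    congrArg Subtype.val (IsMulCommutative.is_comm.comm (⟨b, hb⟩ : D₀) ⟨a, ha⟩)
  -- no element of `C` has a centralizer of order prime to seven
  have hno : ∀ {x}, x ∈ C → 7 ∣ Nat.card ↥(centralizer ({x} : Set G)) := fun {x} hx => h7 ▸
    card_dvd_of_le fun a ha => mem_centralizer_singleton_iff.2 (mem_centralizer_iff.1 hx a ha)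
  have h2 : ¬ 2 ∣ Nat.card C := fun h => by
    obtain ⟨x, hx⟩ := exists_prime_orderOf_dvd_card' (G := C) 2 h
    have hx' : orderOf (x : G) = 2 := by rw [Subgroup.orderOf_coe, hx]
    have h1 := hno x.2
    rcases hS.classes ht hnc _ hx' with h' | h' <;> rw [← Cfsg.Lib.J2Type.card_centralizer_conj h'] at h1
    · rw [hS.card_C] at h1; norm_num at h1
    · rw [hB.card_M] at h1; norm_num at h1
  have h3 : ¬ 3 ∣ Nat.card C := fun h => by
    obtain ⟨x, hx⟩ := exists_prime_orderOf_dvd_card' (G := C) 3 h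
    obtain ⟨P₀, -, -, d, e0, -, he, -, hd, heL, hall⟩ := hS.three_local ht hnc hB
    have h1 := hno x.2
    rcases hall (x : G) (by rw [Subgroup.orderOf_coe, hx]) with h' | h' <;>
      rw [Cfsg.Lib.J2Type.card_centralizer_conj h'] at h1
    · rw [hd] at h1; norm_num at h1
    · rcases (hS.three_L ht hnc hB heL he).1 with h'' | h'' <;> rw [h''] at h1 <;> norm_num at h1
  have h25 : ¬ 25 ∣ Nat.card C := fun h => by
    obtain ⟨K, hK⟩ := Sylow.exists_subgroup_card_pow_prime (p := 5) (n := 2) (G := C) (by norm_num [h])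
    have hK' : Nat.card (K.map C.subtype) = 25 := by rw [card_map_of_injective (subtype_injective C), hK]; norm_num
    obtain ⟨S5, hS5⟩ := (show IsPGroup 5 (K.map C.subtype) from IsPGroup.of_card (n := 2) (by rw [hK']; norm_num)).exists_le_sylow
    have hEq : K.map C.subtype = S5 := eq_of_le_of_card_ge hS5 (by rw [hK', hS.sylow_five_card ht hnc hB S5])
    obtain ⟨eL⟩ := hB.iso
    obtain ⟨f', hf'⟩ := exists_prime_orderOf_dvd_card' (G := L) 5
      (by rw [Nat.card_congr eL.toEquiv, Cfsg.Lib.J2Type.a5_card]; norm_num)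
    obtain ⟨S0, hS0⟩ := (show IsPGroup 5 (zpowers (f' : G)) from IsPGroup.of_card (n := 1)
      (by rw [Nat.card_zpowers, Subgroup.orderOf_coe, hf', pow_one])).exists_le_sylow
    obtain ⟨hCP, -, -⟩ := hS.five_local ht hnc hB f'.2 (by rw [Subgroup.orderOf_coe, hf']) S0 (hS0 (mem_zpowers _))
    obtain ⟨g, hg⟩ := MulAction.exists_smul_eq G S5 S0
    have hle : D₀.map (MulAut.conj g).toMonoidHom ≤ centralizer ((S0 : Subgroup G) : Set G) := by
      rintro _ ⟨x, hx, rfl⟩
      refine mem_centralizer_iff.2 fun a ha => ?_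
      have ha' : a ∈ (S5 : Subgroup G).map (MulAut.conj g).toMonoidHom := by rw [← hg] at ha; exact ha
      obtain ⟨b, hb, rfl⟩ := ha'
      rw [← hEq] at hb
      obtain ⟨k, -, rfl⟩ := hb
      exact (Commute.conj_iff g).2 (show Commute (k : G) x from (mem_centralizer_iff.1 k.2 x hx).symm)
    rw [hCP] at hle
    have := card_dvd_of_le hle
    rw [Cfsg.Lib.Sig.card_map_conj, h7, hS.sylow_five_card ht hnc hB S0] at this
    norm_num at this
  have hC35 : Nat.card C = 7 ∨ Nat.card C = 35 := by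
    have hd : Nat.card C ∣ 3456 * 175 := by
      have h := card_subgroup_dvd_card C
      rw [hG] at h; exact h
    have hco : Nat.Coprime (Nat.card C) 3456 := by
      rw [show (3456 : ℕ) = 2 ^ 7 * 3 ^ 3 from rfl, Nat.coprime_mul_iff_right]
      exact ⟨Nat.Coprime.pow_right 7 ((Nat.prime_two.coprime_iff_not_dvd).2 h2).symm,
        Nat.Coprime.pow_right 3 ((Nat.prime_three.coprime_iff_not_dvd).2 h3).symm⟩
    have h175 : Nat.card C ∣ 175 := hco.dvd_of_dvd_mul_left hd
    have hge : 7 ∣ Nat.card C := h7 ▸ card_dvd_of_le hDC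
    have hm : Nat.card C ∈ Nat.divisors 175 := Nat.mem_divisors.2 ⟨h175, by norm_num⟩
    rw [show Nat.divisors 175 = {1, 5, 7, 25, 35, 175} by decide] at hm
    simp only [Finset.mem_insert, Finset.mem_singleton] at hm
    omega
  set N := normalizer (D₀ : Set G) with hN
  obtain ⟨k, hk6, hNk⟩ : ∃ k, k ∣ 6 ∧ Nat.card N = k * Nat.card C := by
    let φ := D₀.normalizerMonoidHom
    have hker : φ.ker = C.subgroupOf N := Subgroup.normalizerMonoidHom_ker D₀
    refine ⟨Nat.card φ.range, ?_, ?_⟩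
    · have h := card_subgroup_dvd_card φ.range
      rw [IsCyclic.card_mulAut, h7] at h
      exact h
    · have hCN : C ≤ N := fun g hg => mem_normalizer_iff.2 fun a => by
        constructor
        · intro ha
          rw [show g * a * g⁻¹ = a by rw [← mem_centralizer_iff.1 hg a ha, mul_inv_cancel_right]]; exact ha
        · intro ha
          have h := mem_centralizer_iff.1 (inv_mem hg) _ ha
          rw [show g * a * g⁻¹ * g⁻¹ = g * a * g⁻¹ * g⁻¹ from rfl] at h
          have e : a = g * a * g⁻¹ := by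
            calc a = g⁻¹ * (g * a * g⁻¹) * g := by group
              _ = g * a * g⁻¹ := by rw [← h]; group
          rw [e]; exact ha
      rw [← Nat.card_congr (subgroupOfEquivOfLe hCN).toEquiv, ← hker,
        Subgroup.card_eq_card_quotient_mul_card_subgroup φ.ker,
        Nat.card_congr (QuotientGroup.quotientKerEquivRange φ).toEquiv]
  have hidx : N.index % 7 = 1 := by
    have h := card_sylow_modEq_one 7 G
    rw [D.card_eq_index_normalizer] at h
    exact h
  have hmain : Nat.card C = 7 ∧ k = 6 := by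
    have h1 := card_mul_index N
    rw [hG, hNk] at h1
    have hd : k ∈ Nat.divisors 6 := Nat.mem_divisors.2 ⟨hk6, by norm_num⟩
    rw [show Nat.divisors 6 = {1, 2, 3, 6} by decide] at hd
    simp only [Finset.mem_insert, Finset.mem_singleton] at hd
    rcases hC35 with hc | hc <;> rw [hc] at h1 ⊢ <;> rcases hd with rfl | rfl | rfl | rfl <;> omega
  refine ⟨(eq_of_le_of_card_ge hDC (by rw [hmain.1, h7])).symm, by rw [hNk, hmain.1, hmain.2], fun hc => ?_⟩
  have hle : N ≤ C := fun g hg => mem_centralizer_iff.2 fun a ha =>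
    congrArg Subtype.val (hc.is_comm.comm (⟨a, le_normalizer ha⟩ : N) ⟨g, hg⟩)
  have := card_le_of_le hle
  rw [hNk, hmain.1, hmain.2] at this
  omega

/-- In a group of Hall–Janko type (large-extraspecial hypothesis with Q of order 32, quotient Ω⁻(4, 2), z not weakly closed in Q, more than one class of involutions), a Sylow 7-subgroup is its own centraliser and its normaliser is non-abelian of order 42. -/
theorem result {G : Type*} [Group G] [Finite G] (z : G) (hz : orderOf z = 2) (Q : Subgroup (Subgroup.centralizer ({z} : Set G))) [Q.Normal] (hF : Cfsg.generalizedFittingSubgroup (Subgroup.centralizer ({z} : Set G)) = Q) (hQ : Cfsg.IsExtraspecial 2 Q) (hcard : Nat.card Q = 2 ^ 5) (e : (Subgroup.centralizer ({z} : Set G)) ⧸ Q ≃* Cfsg.Omega (ZMod 2) (Cfsg.quadFormMinus 1 (ZMod 2) 1 1)) (hnwc : ∃ g : G, (∃ hq : g * z * g⁻¹ ∈ Subgroup.centralizer ({z} : Set G), (⟨g * z * g⁻¹, hq⟩ : Subgroup.centralizer ({z} : Set G)) ∈ Q) ∧ g * z * g⁻¹ ≠ z) (hcl : ∃ x y : G, orderOf x = 2 ∧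 orderOf y = 2 ∧ ¬ IsConj x y) (D : Sylow 7 G) : Subgroup.centralizer ((D : Subgroup G) : Set G) = D ∧ Nat.card (Subgroup.normalizer ((D : Subgroup G) : Set G)) = 42 ∧ ¬ IsMulCommutative (Subgroup.normalizer ((D : Subgroup G) : Set G)) := by
  have hS := Cfsg.Lib.J2Type.Setup.of_hyp z hz Q hF hQ hcard e hnwc hcl
  obtain ⟨t, ht, hnc⟩ := hS.exists_outer
  obtain ⟨V, L, hB, -⟩ := hS.main ht hnc
  exact aux hS ht hnc hB D

end Cfsg.Agent.S1724
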