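import Cfsg.Statements.S1741
import Cfsg.Agent.Lib.MTwelveLocal.Core
import Cfsg.Agent.Lib.MTwelveRecog.Recog

set_option autoImplicit false
set_option linter.style.haveILetI false
open Cfsg Cfsg.Lib.MTwelveRecog Cfsg.Lib.MTwelveLocal

namespace Cfsg.Agent.S1741

theorem nonempty_frame {G : Type*} [Group G] [Finite G]
    (S : Sylow 2 G) (P : Sylow 2 ↥Cfsg.Spor.M12)
    (e : ↥(S : Subgroup G) ≃* ↥(P : Subgroup ↥Cfsg.Spor.M12)) :
    Nonempty (Cfsg.Lib.MTwelveLocal.Frame G) := by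
  haveI : Fact (Nat.Prime 2) := ⟨Nat.prime_two⟩
  obtain ⟨ι⟩ := nonempty_sporM12_std
  have h64 : Nat.card sylStd = 2 ^ (Nat.card stdTwelve).factorization 2 := by
    rw [card_sylStd, card_stdTwelve, show (95040 : ℕ) = 2 ^ 6 * 1485 by norm_num,
      Nat.factorization_mul (by norm_num) (by norm_num), Finsupp.add_apply,
      Nat.Prime.factorization_pow Nat.prime_two, Finsupp.single_eq_same,
      Nat.factorization_eq_zero_of_not_dvd (by norm_num : ¬ 2 ∣ 1485)]
    norm_num
  let P' : Sylow 2 stdTwelve := P.mapSurjective (f := ι.toMonoidHom) ι.surjective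
  let Q : Sylow 2 stdTwelve := Sylow.ofCard sylStd h64
  let ψ : sylStd ≃* (S : Subgroup G) :=
    (Sylow.equiv Q P').trans (((P : Subgroup ↥Cfsg.Spor.M12).equivMapOfInjective ι.toMonoidHom ι.injective).symm.trans e.symm)
  classical
  let el' : Fin 192 → sylStd := fun i =>
    if h : inSyl i = true then ⟨⟨el i, el_mem i⟩, i, h, rfl⟩ else 1
  have hel : ∀ i, inSyl i = true → (((el' i : sylStd) : stdTwelve) : Equiv.Perm (Fin 12)) = el i := fun i h => by
    simp only [el', dif_pos h]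
  refine ⟨⟨S, fun i => (ψ (el' i) : G), fun i j hi hj h => el_injective ?_, fun i j hi hj => ?_, fun g => ⟨fun hg => ?_, ?_⟩⟩⟩
  · rw [← hel i hi, ← hel j hj, ψ.injective (Subtype.ext h)]
  · rw [← Subgroup.coe_mul, ← map_mul]
    refine congrArg Subtype.val (congrArg ψ (Subtype.ext (Subtype.ext ?_)))
    rw [Subgroup.coe_mul, Subgroup.coe_mul, hel _ (inS_mul hi hj), hel _ hi, hel _ hj, el_mul]
  · obtain ⟨x, hx⟩ := ψ.surjective ⟨g, hg⟩
    obtain ⟨i, hi, hie⟩ := x.2
    refine ⟨i, hi, ?_⟩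
    rw [show el' i = x from Subtype.ext (Subtype.ext ((hel i hi).trans hie)), hx]
  · rintro ⟨i, -, rfl⟩
    exact (ψ (el' i)).2

/-- Let G be a finite simple group whose Sylow 2-subgroups are isomorphic to a Sylow 2-subgroup of the Mathieu group of degree 12, and suppose G has two involutions that are not conjugate. Then G is isomorphic to the Mathieu group of degree 12. -/
theorem result {G : Type*} [Group G] [Finite G] [IsSimpleGroup G]
    (S : Sylow 2 G) (P : Sylow 2 ↥Cfsg.Spor.M12) (hS : Nonempty (↥(S : Subgroup G) ≃* ↥(P : Subgroup ↥Cfsg.Spor.M12)))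
    (h2 : ∃ x y : G, orderOf x = 2 ∧ orderOf y = 2 ∧ ¬ IsConj x y) : Cfsg.Spor.IsoM12 G := by
  obtain ⟨e⟩ := hS
  have hna : ¬ IsMulCommutative G := by
    intro hc
    obtain ⟨x, y, hx, hy, hxy⟩ := h2
    letI : CommGroup G := { (inferInstance : Group G) with mul_comm := hc.is_comm.comm }
    have hcard : Nat.card G = 2 := ((Nat.prime_dvd_prime_iff_eq Nat.prime_two IsSimpleGroup.prime_card).1
      (hx ▸ orderOf_dvd_natCard x)).symm
    obtain ⟨w, -, huniq⟩ := (Nat.card_eq_two_iff' (1 : G)).1 hcard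
    exact hxy ((huniq x (fun h => by simp [h] at hx)).trans (huniq y (fun h => by simp [h] at hy)).symm ▸ IsConj.refl y)
  obtain ⟨F₀⟩ := nonempty_frame S P e
  obtain ⟨F, h44, h3, h55, h60, h76⟩ := F₀.exists_normalized hna h2
  obtain ⟨T⟩ := F.exists_setup hna h44 h3 h55 h60 h76 (F.core_bot ⟨hna, h44, h3, h55, h60, h76⟩)
  exact Cfsg.Lib.MTwelveRecog.isoM12_of_setup T hna

end Cfsg.Agent.S1741
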