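import Cfsg.Statements.S1745
-- import your own Cfsg.Agent.* helpers here
import Cfsg.Agent.Lib.StdMcl.Main

set_option autoImplicit false
open Cfsg

namespace Cfsg.Agent.S1745

/-- Let G be a non-abelian finite simple group with the strong B-property (every section of G has the B-property) possessing a standard subgroup L which is a non-split double cover of the alternating group of degree 8. Then G is a group of Lie type in characteristic 3, or an alternating group of degree at least 9, or G is isomorphic to the McLaughlin group. -/
theorem result {G : Type*} [Group G] [Finite G] [IsSimpleGroup G] (hG : ¬ IsMulCommutative G)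
    (hB : Cfsg.HasStrongBProperty G) (L : Subgroup G) (hL : Cfsg.IsStandardSubgroup L)
    (hLX : Cfsg.IsNonsplitDoubleCover ↥L ↥(alternatingGroup (Fin 8))) :
    Cfsg.IsLieTypeChar 3 G ∨ (∃ n : ℕ, 9 ≤ n ∧ Nonempty (G ≃* ↥(alternatingGroup (Fin n)))) ∨ Cfsg.Spor.IsoMcL G := by
  exact Or.inr (Or.inr (Cfsg.Lib.StdMcl.mcl_of_standard hG L hL hLX))

end Cfsg.Agent.S1745
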