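import Cfsg.Statements.S1754
import Mathlib

set_option autoImplicit false
open Cfsg

namespace Cfsg.Agent.S1754

/-- Let A be a standard subgroup of the finite group G (A quasisimple, C_G(A) tightly embedded of even order, A commuting elementwise with no other conjugate of itself, and N_G(A) = N_G(C_G(A))), and let t be an involution of G centralizing A. Then the centralizer of t lies in the normalizer of A; in particular A, viewed inside C_G(t), is a component of C_G(t). -/
theorem result {G : Type*} [Group G] [Finite G]
    (A : Subgroup G) (hA : Cfsg.IsStandardSubgroup A) (t : G) (ht : orderOf t = 2) (htA : t ∈ Subgroup.centralizer (A : Set G)) :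
    Subgroup.centralizer ({t} : Set G) ≤ Subgroup.normalizer (A : Set G) ∧
      Cfsg.IsComponent (A.subgroupOf (Subgroup.centralizer ({t} : Set G))) := by
  obtain ⟨hq, ht', -, hN⟩ := hA
  have h1 : Subgroup.centralizer ({t} : Set G) ≤ Subgroup.normalizer (A : Set G) := by
    intro g hg
    rw [hN]
    by_contra hgn
    have hodd := ht'.2 g hgn
    have hgt : g * t * g⁻¹ = t := by
      rw [Subgroup.mem_centralizer_singleton_iff.1 hg, mul_inv_cancel_right]
    have hmem : t ∈ Subgroup.centralizer (A : Set G) ⊓
        (Subgroup.centralizer (A : Set G)).map (MulAut.conj g).toMonoidHom :=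
      ⟨htA, ⟨t, htA, hgt⟩⟩
    have hd := orderOf_dvd_natCard (⟨t, hmem⟩ : ↥(Subgroup.centralizer (A : Set G) ⊓
        (Subgroup.centralizer (A : Set G)).map (MulAut.conj g).toMonoidHom))
    rw [← Subgroup.orderOf_coe, ht] at hd
    exact (Nat.not_even_iff_odd.2 hodd) (even_iff_two_dvd.2 hd)
  refine ⟨h1, ?_, ?_⟩
  · haveI : (A.subgroupOf (Subgroup.centralizer ({t} : Set G))).Normal := by
      refine ⟨fun a ha g => ?_⟩
      exact (Subgroup.mem_normalizer_iff.1 (h1 g.2) _).1 ha
    exact Subgroup.Normal.isSubnormal ‹_›
  · have hle : A ≤ Subgroup.centralizer ({t} : Set G) := fun a ha => by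
      rw [Subgroup.mem_centralizer_singleton_iff]
      exact Subgroup.mem_centralizer_iff.1 htA a ha
    let e := (Subgroup.subgroupOfEquivOfLe hle).symm
    obtain ⟨hperf, hsimp⟩ := hq
    refine ⟨?_, ?_⟩
    · haveI := hperf
      exact Group.IsPerfect.ofSurjective e.surjective (f := e.toMonoidHom)
    · haveI := hsimp
      have hc : (Subgroup.center A).map (e : A ≃* _).toMonoidHom = Subgroup.center _ := by
        ext x
        simp only [Subgroup.mem_map, Subgroup.mem_center_iff]
        constructor
        · rintro ⟨y, hy, rfl⟩ z
          obtain ⟨w, rfl⟩ := e.surjective z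
          show e w * e y = e y * e w
          rw [← map_mul, hy w, map_mul]
        · intro hx
          refine ⟨e.symm x, fun w => e.injective ?_, e.apply_symm_apply x⟩
          simpa using hx (e w)
      exact (QuotientGroup.congr _ _ e hc).symm.isSimpleGroup

end Cfsg.Agent.S1754
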