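import Cfsg.Statements.S1755
import Mathlib

set_option autoImplicit false
open Cfsg

namespace Cfsg.Agent.S1755

theorem main_lemma {G : Type*} [Group G] [Finite G] (z : G) (C : Subgroup G)
    (hCz : ∀ x, x ∈ C ↔ x * z = z * x) (Q : Subgroup ↥C) [Q.Normal] (hQ2 : IsPGroup 2 ↥Q)
    (hQc : ∀ A : Subgroup ↥Q, A.Characteristic → IsMulCommutative A → IsCyclic A)
    (zq : ↥Q) (hzqv : ((zq : ↥C) : G) = z) (hzqc : zq ∈ Subgroup.center ↥Q) (hzqo : orderOf zq = 2)
    (B : Subgroup ↥Q) [B.Characteristic] (hBa : IsMulCommutative ↥B) (g : G) :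
    ((B.map Q.subtype).map C.subtype).map (MulAut.conj g).toMonoidHom = (B.map Q.subtype).map C.subtype ∨
      ((B.map Q.subtype).map C.subtype).map (MulAut.conj g).toMonoidHom ⊓ (B.map Q.subtype).map C.subtype = ⊥ := by
  haveI : Fact (Nat.Prime 2) := ⟨Nat.prime_two⟩
  haveI hBcyc := hQc B inferInstance hBa
  haveI hZcyc : IsCyclic ↥(Subgroup.center ↥Q) := hQc _ inferInstance inferInstance
  -- a cyclic group has at most one involution
  have huniq : ∀ (K : Subgroup ↥Q), IsCyclic K → ∀ u v : ↥Q, u ∈ K → v ∈ K →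
      orderOf u = 2 → orderOf v = 2 → u = v := by
    intro K hK u v hu hv hou hov
    classical
    haveI := Fintype.ofFinite K
    have hh := IsCyclic.card_orderOf_eq_totient (α := K) (d := 2)
      (by rw [← hou, ← Nat.card_eq_fintype_card]; exact (Subgroup.orderOf_coe (⟨u, hu⟩ : K)) ▸ orderOf_dvd_natCard _)
    rw [Nat.totient_two, Finset.card_eq_one] at hh
    obtain ⟨a, ha⟩ := hh
    have h1 : (⟨u, hu⟩ : K) ∈ ({a} : Finset K) := ha ▸ (by simp only [Finset.mem_filter, Finset.mem_univ, true_and]; rw [← Subgroup.orderOf_coe]; exact hou)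
    have h2 : (⟨v, hv⟩ : K) ∈ ({a} : Finset K) := ha ▸ (by simp only [Finset.mem_filter, Finset.mem_univ, true_and]; rw [← Subgroup.orderOf_coe]; exact hov)
    rw [Finset.mem_singleton] at h1 h2
    exact congrArg Subtype.val (h1.trans h2.symm)
  -- every involution of `B` is `z`
  have hinv : ∀ b ∈ B, orderOf b = 2 → b = zq := by
    intro b hb hbo
    refine huniq _ hZcyc b zq ?_ hzqc hbo hzqo
    rw [Subgroup.mem_center_iff]
    intro q
    have hqb : q * b * q⁻¹ = b := huniq B hBcyc _ b
      ((inferInstance : B.Normal).conj_mem b hb q) hb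
      (by rw [← hbo]; exact orderOf_injective (MulAut.conj q).toMonoidHom (MulAut.conj q).injective b) hbo
    exact mul_inv_eq_iff_eq_mul.1 hqb
  set B' : Subgroup G := (B.map Q.subtype).map C.subtype with hB'
  by_cases hg : g ∈ C
  · left
    haveI : (B.map Q.subtype).Normal := ConjAct.normal_of_characteristic_of_normal
    ext x
    constructor
    · rintro ⟨_, ⟨y, hy, rfl⟩, rfl⟩
      exact ⟨_, (inferInstance : (B.map Q.subtype).Normal).conj_mem y hy ⟨g, hg⟩, rfl⟩
    · rintro ⟨y, hy, rfl⟩
      refine ⟨_, ⟨_, (inferInstance : (B.map Q.subtype).Normal).conj_mem y hy ⟨g, hg⟩⁻¹, rfl⟩, ?_⟩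
      simp [mul_assoc]
  · right
    by_contra hne
    haveI hB'2 : Fact True := ⟨trivial⟩
    have hp : IsPGroup 2 ↥(B'.map (MulAut.conj g).toMonoidHom ⊓ B') :=
      (((hQ2.to_subgroup B).map _).map _).to_le inf_le_right
    have hnt : Nontrivial ↥(B'.map (MulAut.conj g).toMonoidHom ⊓ B') :=
      (Subgroup.nontrivial_iff_ne_bot _).2 hne
    obtain ⟨k, hk0, hk⟩ := hp.nontrivial_iff_card.1 hnt
    obtain ⟨w, hw⟩ := exists_prime_orderOf_dvd_card' 2 (hk ▸ dvd_pow_self 2 hk0.ne')
    have hwo : orderOf (w : G) = 2 := by rw [Subgroup.orderOf_coe]; exact hw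
    -- every involution of `B'` is `z`
    have hB'inv : ∀ u ∈ B', orderOf u = 2 → u = z := by
      rintro _ ⟨_, ⟨b, hb, rfl⟩, rfl⟩ hu
      have : orderOf b = 2 := by rw [← Subgroup.orderOf_coe, ← Subgroup.orderOf_coe]; exact hu
      rw [hinv b hb this]; exact hzqv
    obtain ⟨u, hu, huw⟩ := Subgroup.mem_map.1 w.2.1
    have huo : orderOf u = 2 := by
      rw [← hwo, ← huw]; exact (orderOf_injective (MulAut.conj g).toMonoidHom (MulAut.conj g).injective u).symm
    have h1 := hB'inv _ w.2.2 hwo
    have h2 := hB'inv u hu huo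
    rw [h2, h1] at huw
    exact hg ((hCz g).2 (mul_inv_eq_iff_eq_mul.1 huw))



/-- Let G be a finite group and let z be an involution of G such that Q, the generalized Fitting subgroup of the centralizer C of z, is a 2-group of symplectic type (every characteristic abelian subgroup of Q is cyclic). Let B be a characteristic abelian subgroup of Q, viewed as a subgroup of G. Then for every g in G, the conjugate of B by g either equals B or meets B trivially. -/
theorem result {G : Type*} [Group G] [Finite G] (z : G) (hz : orderOf z = 2) (hQ : Cfsg.IsOfSymplecticType ↥(Cfsg.generalizedFittingSubgroup ↥(Subgroup.centralizer ({z} : Set G))))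
    (B : Subgroup ↥(Cfsg.generalizedFittingSubgroup ↥(Subgroup.centralizer ({z} : Set G)))) (hBc : B.Characteristic) (hBa : IsMulCommutative ↥B) (g : G) :
    ((B.map (Cfsg.generalizedFittingSubgroup ↥(Subgroup.centralizer ({z} : Set G))).subtype).map (Subgroup.centralizer ({z} : Set G)).subtype).map (MulAut.conj g).toMonoidHom =
        (B.map (Cfsg.generalizedFittingSubgroup ↥(Subgroup.centralizer ({z} : Set G))).subtype).map (Subgroup.centralizer ({z} : Set G)).subtype ∨
      ((B.map (Cfsg.generalizedFittingSubgroup ↥(Subgroup.centralizer ({z} : Set G))).subtype).map (Subgroup.centralizer ({z} : Set G)).subtype).map (MulAut.conj g).toMonoidHom ⊓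
        (B.map (Cfsg.generalizedFittingSubgroup ↥(Subgroup.centralizer ({z} : Set G))).subtype).map (Subgroup.centralizer ({z} : Set G)).subtype = ⊥ := by
  haveI : Fact (Nat.Prime 2) := ⟨Nat.prime_two⟩
  obtain ⟨hQ2, hQc⟩ := hQ
  haveI := hBc
  haveI hQn : (Cfsg.generalizedFittingSubgroup ↥(Subgroup.centralizer ({z} : Set G))).Normal := by
    rw [Cfsg.generalizedFittingSubgroup]
    haveI : (Cfsg.layer ↥(Subgroup.centralizer ({z} : Set G))).Normal := by
      refine ⟨fun x hx c => ?_⟩
      have hmap : (Cfsg.layer ↥(Subgroup.centralizer ({z} : Set G))).map (MulAut.conj c).toMonoidHom ≤ Cfsg.layer ↥(Subgroup.centralizer ({z} : Set G)) := by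
        rw [Cfsg.layer, sSup_eq_iSup, Subgroup.map_iSup]
        refine iSup_le fun K => ?_
        rw [Subgroup.map_iSup]
        refine iSup_le fun hK => le_iSup₂_of_le (K.map (MulAut.conj c).toMonoidHom) ?_ le_rfl
        refine ⟨hK.1.map (MulAut.conj c).surjective, ?_⟩
        let e := K.equivMapOfInjective (MulAut.conj c).toMonoidHom (MulAut.conj c).injective
        obtain ⟨hperf, hsimp⟩ := hK.2
        refine ⟨?_, ?_⟩
        · haveI := hperf
          exact Group.IsPerfect.ofSurjective e.surjective (f := e.toMonoidHom)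
        · haveI := hsimp
          have hcen : (Subgroup.center K).map (e : K ≃* _).toMonoidHom = Subgroup.center _ := by
            ext x
            simp only [Subgroup.mem_map, Subgroup.mem_center_iff]
            constructor
            · rintro ⟨y, hy, rfl⟩ w
              obtain ⟨w, rfl⟩ := e.surjective w
              show e w * e y = e y * e w
              rw [← map_mul, hy w, map_mul]
            · intro hx
              refine ⟨e.symm x, fun w => e.injective ?_, e.apply_symm_apply x⟩
              rw [map_mul, map_mul, e.apply_symm_apply]; exact hx (e w)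
          exact (QuotientGroup.congr _ _ e hcen).symm.isSimpleGroup
      exact hmap ⟨x, hx, rfl⟩
    haveI : (Cfsg.fittingSubgroup ↥(Subgroup.centralizer ({z} : Set G))).Normal := Subgroup.sSup_normal _ (fun _ h => h.1)
    exact Subgroup.sup_normal _ _
  -- `z` lies in `F*(C)` and is central in it
  have hzC : z ∈ Subgroup.centralizer ({z} : Set G) := Subgroup.mem_centralizer_singleton_iff.2 rfl
  let zc : ↥(Subgroup.centralizer ({z} : Set G)) := ⟨z, hzC⟩
  have hzcen : zc ∈ Subgroup.center ↥(Subgroup.centralizer ({z} : Set G)) := by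
    rw [Subgroup.mem_center_iff]
    exact fun c => Subtype.ext (Subgroup.mem_centralizer_singleton_iff.1 c.2)
  have hzQ : zc ∈ Cfsg.generalizedFittingSubgroup ↥(Subgroup.centralizer ({z} : Set G)) := by
    rw [Cfsg.generalizedFittingSubgroup]
    refine (le_sup_right : Cfsg.fittingSubgroup ↥(Subgroup.centralizer ({z} : Set G)) ≤ _) ?_
    exact (le_sSup ⟨inferInstance, @CommGroup.isNilpotent _ { (Subgroup.center ↥(Subgroup.centralizer ({z} : Set G))).toGroup with mul_comm := mul_comm' }⟩ : Subgroup.center ↥(Subgroup.centralizer ({z} : Set G)) ≤ Cfsg.fittingSubgroup ↥(Subgroup.centralizer ({z} : Set G))) hzcen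
  let zq : ↥(Cfsg.generalizedFittingSubgroup ↥(Subgroup.centralizer ({z} : Set G))) := ⟨zc, hzQ⟩
  have hzqc : zq ∈ Subgroup.center ↥(Cfsg.generalizedFittingSubgroup ↥(Subgroup.centralizer ({z} : Set G))) := by
    rw [Subgroup.mem_center_iff]
    exact fun q => Subtype.ext (Subgroup.mem_center_iff.1 hzcen q.1)
  have hzqo : orderOf zq = 2 := by rw [← Subgroup.orderOf_coe, ← Subgroup.orderOf_coe]; exact hz
  exact main_lemma z _ (fun x => Subgroup.mem_centralizer_singleton_iff) _ hQ2 hQc zq rfl hzqc hzqo B hBa g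

end Cfsg.Agent.S1755
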