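import Cfsg.Statements.S1756
import Mathlib.GroupTheory.IndexNormal
import Cfsg.Agent.Lib.PGroup.ClassTwo

set_option autoImplicit false
open Cfsg

namespace Cfsg.Agent.S1756

open scoped commutatorElement

theorem two_mul_card_le_centralizer {Q : Type*} [Group Q] [Finite Q]
    (hQ : Cfsg.IsExtraspecial 2 Q) (X : Subgroup Q) (hZX : Subgroup.center Q ≤ X) :
    2 * Nat.card Q ≤ Nat.card (Subgroup.centralizer (X : Set Q)) * Nat.card X := by
  obtain ⟨⟨hp, hfr, hcomm⟩, hZ⟩ := hQ
  have hclass : commutator Q ≤ Subgroup.center Q := hcomm.le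
  induction X using WellFoundedLT.induction with
  | ind X ih =>
    by_cases hX : X = Subgroup.center Q
    · subst hX
      rw [Subgroup.centralizer_eq_top_iff_subset.2 subset_rfl, Subgroup.card_top, hZ, mul_comm]
    -- pick a maximal subgroup of `X` above the centre
    obtain ⟨Y, ⟨hZY, hYX⟩, hmax⟩ := Set.Finite.exists_maximalFor id
      {Y : Subgroup Q | Subgroup.center Q ≤ Y ∧ Y < X} (Set.toFinite _)
      ⟨Subgroup.center Q, le_rfl, lt_of_le_of_ne hZX (Ne.symm hX)⟩
    obtain ⟨m, hm, hmY⟩ := SetLike.exists_of_lt hYX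
    have hgen : Y ⊔ Subgroup.zpowers m = X := by
      refine le_antisymm (sup_le hYX.le (Subgroup.zpowers_le.2 hm)) ?_
      by_contra hn
      have hlt : Y ⊔ Subgroup.zpowers m < X :=
        lt_of_le_not_ge (sup_le hYX.le (Subgroup.zpowers_le.2 hm)) hn
      exact hmY (hmax (j := Y ⊔ Subgroup.zpowers m) ⟨hZY.trans le_sup_left, hlt⟩ le_sup_left
        (Subgroup.mem_sup_right (Subgroup.mem_zpowers m)))
    have hcard : 2 * Nat.card Y ≤ Nat.card X := by
      obtain ⟨c, hc⟩ := Subgroup.card_dvd_of_le hYX.le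
      have hlt : Nat.card Y < Nat.card X := by
        refine lt_of_le_of_ne (Nat.le_of_dvd Nat.card_pos ⟨c, hc⟩) fun h => hYX.ne ?_
        exact Subgroup.eq_of_le_of_card_ge hYX.le h.ge
      rcases c with _ | _ | c
      · simp at hc; omega
      · omega
      · rw [hc]; nlinarith
    let φ : ↥(Subgroup.centralizer (Y : Set Q)) →* ↥(Subgroup.center Q) :=
      { toFun := fun x => ⟨⁅(x : Q), m⁆, hclass (Subgroup.commutator_mem_commutator (Subgroup.mem_top _) (Subgroup.mem_top _))⟩
        map_one' := Subtype.ext (commutatorElement_one_left m)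
        map_mul' := fun a b => Subtype.ext (Cfsg.Lib.PGroup.commutatorElement_mul_left hclass (a : Q) (b : Q) m) }
    have hker : φ.ker.map (Subgroup.centralizer (Y : Set Q)).subtype ≤ Subgroup.centralizer (X : Set Q) := by
      rintro _ ⟨x, hx, rfl⟩
      have hxm : (x : Q) * m = m * (x : Q) :=
        commutatorElement_eq_one_iff_mul_comm.1 (congrArg Subtype.val (MonoidHom.mem_ker.1 hx))
      rw [← hgen, Subgroup.mem_centralizer_iff]
      intro y hy
      have : Y ⊔ Subgroup.zpowers m ≤ Subgroup.centralizer ({(x : Q)} : Set Q) := by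
        refine sup_le (fun w hw => ?_) ?_
        · rw [Subgroup.mem_centralizer_singleton_iff]
          exact Subgroup.mem_centralizer_iff.1 x.2 w hw
        · rw [Subgroup.zpowers_le, Subgroup.mem_centralizer_singleton_iff]
          exact hxm.symm
      exact Subgroup.mem_centralizer_singleton_iff.1 (this hy)
    have hcard2 : Nat.card (Subgroup.centralizer (Y : Set Q)) ≤ 2 * Nat.card (Subgroup.centralizer (X : Set Q)) := by
      have h1 : φ.ker.index ≤ 2 := by
        rw [Subgroup.index_ker, ← hZ]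
        exact Nat.card_le_card_of_injective _ φ.range.subtype_injective
      have h2 := Subgroup.card_mul_index φ.ker
      have h3 : Nat.card φ.ker ≤ Nat.card (Subgroup.centralizer (X : Set Q)) := by
        rw [← Subgroup.card_map_of_injective (Subgroup.centralizer (Y : Set Q)).subtype_injective (K := φ.ker)]
        exact Nat.le_of_dvd Nat.card_pos (Subgroup.card_dvd_of_le hker)
      rw [← h2]
      calc _ ≤ Nat.card (Subgroup.centralizer (X : Set Q)) * 2 := Nat.mul_le_mul h3 h1
        _ = _ := mul_comm _ _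
    have := ih Y hYX hZY
    calc 2 * Nat.card Q ≤ Nat.card (Subgroup.centralizer (Y : Set Q)) * Nat.card Y := this
      _ ≤ (2 * Nat.card (Subgroup.centralizer (X : Set Q))) * Nat.card Y := Nat.mul_le_mul_right _ hcard2
      _ = Nat.card (Subgroup.centralizer (X : Set Q)) * (2 * Nat.card Y) := by ring
      _ ≤ _ := Nat.mul_le_mul_left _ hcard

theorem exists_inner {Q : Type*} [Group Q] [Finite Q] (hQ : Cfsg.IsExtraspecial 2 Q) (τ : Q ≃* Q)
    (hττ : ∀ q, τ (τ q) = q) (M : Subgroup Q) (hidx : M.index = 2) (hfix : ∀ q, τ q = q ↔ q ∈ M) :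
    ∃ u : Q, ∀ q, τ q = u * q * u⁻¹ := by
  have hclass : commutator Q ≤ Subgroup.center Q := hQ.1.2.2.le
  have hMn : M.Normal := Subgroup.normal_of_index_eq_two hidx
  have hfrM : frattini Q ≤ M := by
    refine frattini_le_coatom ⟨fun h => by simp [h] at hidx, fun K hK => ?_⟩
    have := Subgroup.relIndex_mul_index hK.le
    rw [hidx] at this
    rcases (Nat.dvd_prime Nat.prime_two).1 ⟨_, this.symm⟩ with h | h
    · exact absurd (Subgroup.relIndex_eq_one.1 h) hK.not_ge
    · rw [h] at this; exact Subgroup.index_eq_one.1 (by omega)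
  rw [hQ.1.2.1] at hfrM
  obtain ⟨q, hq⟩ : ∃ q, q ∉ M := by
    by_contra h
    push Not at h
    have : M = ⊤ := (Subgroup.eq_top_iff' M).2 h
    simp [this] at hidx
  obtain ⟨c, hc⟩ : ∃ c, c = q⁻¹ * τ q := ⟨_, rfl⟩
  have hτq : τ q = q * c := by simp [hc]
  have hcM : ∀ m ∈ M, c * m = m * c := by
    intro m hm
    have h1 := (hfix _).2 (hMn.conj_mem m hm q)
    rw [map_mul, map_mul, map_inv, (hfix m).2 hm, hτq] at h1
    calc c * m = q⁻¹ * (q * c * m * (q * c)⁻¹) * q * c := by group
      _ = q⁻¹ * (q * m * q⁻¹) * q * c := by rw [h1]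
      _ = m * c := by group
  have hM2 : ∀ a b : Q, a ∉ M → b ∉ M → a * b ∈ M := fun a b ha hb =>
    (Subgroup.mul_mem_iff_of_index_two hidx).2 (iff_of_false ha hb)
  have hcinM : c ∈ M := by
    by_contra hcn
    have hcen : c ∈ Subgroup.center Q := by
      rw [Subgroup.mem_center_iff]
      intro g
      by_cases hg : g ∈ M
      · exact (hcM g hg).symm
      · have h2 := hcM (c⁻¹ * g) (hM2 _ _ (fun h => hcn (inv_mem_iff.1 h)) hg)
        rw [mul_inv_cancel_left] at h2
        calc g * c = c * (c⁻¹ * g * c) := by group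
          _ = c * g := by rw [← h2]
    exact hcn (hfrM hcen)
  have hc2 : c * c = 1 := by
    have h1 := hττ q
    rw [hτq, map_mul, hτq, (hfix c).2 hcinM, mul_assoc] at h1
    exact mul_eq_left.1 h1
  have hq2 : q * q ∈ M := hM2 q q hq hq
  have hcZ : c ∈ Subgroup.center Q := by
    have h1 := (hfix _).2 hq2
    rw [map_mul, hτq] at h1
    have h2 : c * q * c = q := by
      apply mul_left_cancel (a := q)
      rw [← mul_assoc, ← mul_assoc, mul_assoc (q * c)]
      exact h1
    have h3 : c * q = q * c := by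
      calc c * q = c * q * (c * c) := by rw [hc2, mul_one]
        _ = (c * q * c) * c := by group
        _ = q * c := by rw [h2]
    rw [Subgroup.mem_center_iff]
    intro g
    by_cases hg : g ∈ M
    · exact (hcM g hg).symm
    · have h4 := hcM _ (hM2 q⁻¹ g (fun h => hq (inv_mem_iff.1 h)) hg)
      calc g * c = q * ((q⁻¹ * g) * c) := by group
        _ = q * (c * (q⁻¹ * g)) := by rw [h4]
        _ = (q * c) * q⁻¹ * g := by group
        _ = (c * q) * q⁻¹ * g := by rw [h3]
        _ = c * g := by group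
  have hcne : c ≠ 1 := fun h => hq ((hfix q).1 (by rw [hτq, h, mul_one]))
  -- an element centralizing `M` but not `q`
  obtain ⟨u, hu, huZ⟩ : ∃ u ∈ Subgroup.centralizer (M : Set Q), u ∉ Subgroup.center Q := by
    by_contra h
    push Not at h
    have h1 := two_mul_card_le_centralizer hQ M hfrM
    have h2 := Nat.le_of_dvd Nat.card_pos (Subgroup.card_dvd_of_le (show Subgroup.centralizer (M : Set Q) ≤ Subgroup.center Q from h))
    have h3 := Subgroup.card_mul_index M
    rw [hidx] at h3
    rw [hQ.2] at h2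
    have h4 := Nat.mul_le_mul_right (Nat.card M) h2
    have h5 : 0 < Nat.card M := Nat.card_pos
    omega
  have huq : u * q ≠ q * u := by
    intro h
    apply huZ
    rw [Subgroup.mem_center_iff]
    intro g
    by_cases hg : g ∈ M
    · exact Subgroup.mem_centralizer_iff.1 hu g hg
    · have h4 := Subgroup.mem_centralizer_iff.1 hu _ (hM2 q⁻¹ g (fun h => hq (inv_mem_iff.1 h)) hg)
      calc g * u = q * ((q⁻¹ * g) * u) := by group
        _ = q * (u * (q⁻¹ * g)) := by rw [h4]
        _ = (q * u) * q⁻¹ * g := by group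
        _ = (u * q) * q⁻¹ * g := by rw [h]
        _ = u * g := by group
  have hcu : ⁅u, q⁆ = c := by
    have h1 : ⁅u, q⁆ ∈ Subgroup.center Q := hclass (Subgroup.commutator_mem_commutator (Subgroup.mem_top _) (Subgroup.mem_top _))
    by_contra hne
    have h2 : ({1, c, ⁅u, q⁆} : Set Q).ncard = 3 :=
      Set.ncard_eq_three.2 ⟨1, c, ⁅u, q⁆, hcne.symm,
        fun h => huq (commutatorElement_eq_one_iff_mul_comm.1 h.symm), fun h => hne h.symm, rfl⟩
    have h3 : ({1, c, ⁅u, q⁆} : Set Q).ncard ≤ (Subgroup.center Q : Set Q).ncard := by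
      refine Set.ncard_le_ncard ?_ (Set.toFinite _)
      intro x hx
      rcases hx with rfl | rfl | rfl
      · exact one_mem _
      · exact hcZ
      · exact h1
    have h4 : (Subgroup.center Q : Set Q).ncard = 2 := hQ.2 ▸ (Nat.card_coe_set_eq _).symm
    omega
  refine ⟨u, fun g => ?_⟩
  have hgM : ∀ m ∈ M, τ m = u * m * u⁻¹ := fun m hm => by
    rw [(hfix m).2 hm, ← Subgroup.mem_centralizer_iff.1 hu m hm, mul_inv_cancel_right]
  have hqq : τ q = u * q * u⁻¹ := by
    rw [hτq, ← Subgroup.mem_center_iff.1 hcZ q |>.symm, ← hcu, commutatorElement_def]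
    group
  by_cases hg : g ∈ M
  · exact hgM g hg
  · have h1 := hgM _ (hM2 q⁻¹ g (fun h => hq (inv_mem_iff.1 h)) hg)
    calc τ g = τ q * τ (q⁻¹ * g) := by rw [← map_mul, mul_inv_cancel_left]
      _ = (u * q * u⁻¹) * (u * (q⁻¹ * g) * u⁻¹) := by rw [hqq, h1]
      _ = u * g * u⁻¹ := by group


/-- Let Q be an extraspecial 2-subgroup of the finite group G (special with centre of order 2) and t an involution of G normalizing Q such that the centralizer of t in Q has index at most 2 in Q. Then t lies in the product of Q with the centralizer of Q. -/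
theorem result {G : Type*} [Group G] [Finite G] (Q : Subgroup G)
    (hQ : Cfsg.IsExtraspecial 2 ↥Q) (t : G) (ht : orderOf t = 2) (htN : t ∈ Subgroup.normalizer (Q : Set G))
    (hi : (Subgroup.centralizer ({t} : Set G) ⊓ Q).relIndex Q ≤ 2) :
    t ∈ Q ⊔ Subgroup.centralizer (Q : Set G) := by
  classical
  by_cases hQt : Q ≤ Subgroup.centralizer ({t} : Set G)
  · refine Subgroup.mem_sup_right (Subgroup.mem_centralizer_iff.2 fun q hq => ?_)
    exact Subgroup.mem_centralizer_singleton_iff.1 (hQt hq)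
  set M : Subgroup ↥Q := (Subgroup.centralizer ({t} : Set G) ⊓ Q).subgroupOf Q with hM
  have hMtop : M ≠ ⊤ := fun h => hQt ((Subgroup.subgroupOf_eq_top.1 h).trans inf_le_left)
  have hidx : M.index = 2 := by
    have h1 : M.index ≤ 2 := hi
    have h2 : M.index ≠ 1 := fun h => hMtop (Subgroup.index_eq_one.1 h)
    have h3 : M.index ≠ 0 := Subgroup.index_ne_zero_of_finite
    omega
  have hmem : ∀ q : ↥Q, q ∈ M ↔ (q : G) * t = t * (q : G) := fun q => by
    rw [hM, Subgroup.mem_subgroupOf, Subgroup.mem_inf, Subgroup.mem_centralizer_singleton_iff]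
    exact ⟨fun h => h.1, fun h => ⟨h, q.2⟩⟩
  have htt : t * t = 1 := by rw [← pow_two]; exact orderOf_dvd_iff_pow_eq_one.1 (ht ▸ dvd_rfl)
  let τ : ↥Q ≃* ↥Q :=
    { toFun := fun q => ⟨t * (q : G) * t⁻¹, (Subgroup.mem_normalizer_iff.1 htN _).1 q.2⟩
      invFun := fun q => ⟨t⁻¹ * (q : G) * t, (Subgroup.mem_normalizer_iff''.1 htN _).1 q.2⟩
      left_inv := fun q => Subtype.ext (by simp [mul_assoc])
      right_inv := fun q => Subtype.ext (by simp [mul_assoc])
      map_mul' := fun a b => Subtype.ext (by simp [mul_assoc]) }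
  have hτfix : ∀ q : ↥Q, τ q = q ↔ q ∈ M := fun q => by
    rw [hmem q]
    constructor
    · intro h
      have h' : t * (q : G) * t⁻¹ = q := congrArg Subtype.val h
      exact (mul_inv_eq_iff_eq_mul.1 h').symm
    · intro h
      exact Subtype.ext (mul_inv_eq_iff_eq_mul.2 h.symm)
  have hττ : ∀ q : ↥Q, τ (τ q) = q := fun q => Subtype.ext (by
    show t * (t * (q : G) * t⁻¹) * t⁻¹ = q
    have hti : t⁻¹ = t := inv_eq_of_mul_eq_one_left htt
    rw [hti, show t * (t * (q : G) * t) * t = (t * t) * (q : G) * (t * t) by group, htt]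
    simp)
  obtain ⟨u, hu⟩ := exists_inner (Q := ↥Q) hQ τ hττ M hidx hτfix
  have h1 : (u : G)⁻¹ * t ∈ Subgroup.centralizer (Q : Set G) := by
    rw [Subgroup.mem_centralizer_iff]
    intro q hq
    have h2 : t * q * t⁻¹ = (u : G) * q * (u : G)⁻¹ := congrArg Subtype.val (hu ⟨q, hq⟩)
    calc q * ((u : G)⁻¹ * t) = (u : G)⁻¹ * (((u : G) * q * (u : G)⁻¹) * t) := by group
      _ = (u : G)⁻¹ * ((t * q * t⁻¹) * t) := by rw [h2]
      _ = (u : G)⁻¹ * t * q := by group
  have h3 : (u : G) * ((u : G)⁻¹ * t) = t := by group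
  rw [← h3]
  exact mul_mem (Subgroup.mem_sup_left u.2) (Subgroup.mem_sup_right h1)

end Cfsg.Agent.S1756
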