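import Cfsg.Statements.S1757
-- import your own Cfsg.Agent.* helpers here

set_option autoImplicit false
open Cfsg

namespace Cfsg.Agent.S1757

/-- Let p be a prime and A, B p-subgroups of the finite group G, each of which meets every conjugate of itself other than itself trivially. Suppose the order of A is at most that of B, A and B intersect trivially, and B normalizes A. Then A and B commute elementwise. -/
theorem result {G : Type*} [Group G] [Finite G] (p : ℕ) [Fact p.Prime] (A B : Subgroup G)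
    (hA : IsPGroup p ↥A) (hB : IsPGroup p ↥B)
    (hAti : ∀ g : G, A.map (MulAut.conj g).toMonoidHom = A ∨ A.map (MulAut.conj g).toMonoidHom ⊓ A = ⊥)
    (hBti : ∀ g : G, B.map (MulAut.conj g).toMonoidHom = B ∨ B.map (MulAut.conj g).toMonoidHom ⊓ B = ⊥)
    (hle : Nat.card ↥A ≤ Nat.card ↥B) (hAB : A ⊓ B = ⊥) (hN : B ≤ Subgroup.normalizer (A : Set G)) : ⁅A, B⁆ = ⊥ := by
  rw [Subgroup.commutator_eq_bot_iff_le_centralizer]
  intro a ha
  rw [Subgroup.mem_centralizer_iff]
  intro b hb
  have hconjA : ∀ b ∈ B, ∀ a ∈ A, b * a * b⁻¹ ∈ A := fun b hb a ha =>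
    (Subgroup.mem_normalizer_iff.1 (hN hb) a).1 ha
  let C : Subgroup G := A ⊓ Subgroup.normalizer (B : Set G)
  have hcomm : ∀ c ∈ C, ∀ b ∈ B, b * c = c * b := by
    intro c hc b hb
    have h1 : c * b * c⁻¹ * b⁻¹ ∈ A := by
      have := A.mul_mem hc.1 (hconjA b hb c⁻¹ (A.inv_mem hc.1))
      simpa [mul_assoc] using this
    have h2 : c * b * c⁻¹ * b⁻¹ ∈ B :=
      B.mul_mem ((Subgroup.mem_normalizer_iff.1 hc.2 b).1 hb) (B.inv_mem hb)
    have h3 : c * b * c⁻¹ * b⁻¹ = 1 :=
      Subgroup.mem_bot.1 (hAB ▸ Subgroup.mem_inf.2 ⟨h1, h2⟩)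
    exact (commutatorElement_eq_one_iff_mul_comm.1 (by simpa [commutatorElement_def] using h3)).symm
  by_contra hne
  have haC : a ∉ C := fun h => hne (hcomm a h b hb)
  -- `B` acts on the cosets of `C` in `A`
  have hCB : ∀ b ∈ B, ∀ c ∈ C, b * c * b⁻¹ = c := fun b hb c hc => by
    rw [hcomm c hc b hb, mul_inv_cancel_right]
  let act : B → A → A := fun b x => ⟨(b : G) * x * (b : G)⁻¹, hconjA _ b.2 _ x.2⟩
  have hwd : ∀ (b : B) (x y : A), QuotientGroup.leftRel (C.subgroupOf A) x y →
      QuotientGroup.leftRel (C.subgroupOf A) (act b x) (act b y) := by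
    intro b x y h
    rw [QuotientGroup.leftRel_apply, Subgroup.mem_subgroupOf] at h ⊢
    have e : (((act b x)⁻¹ * act b y : A) : G) = (b : G) * ((x⁻¹ * y : A) : G) * (b : G)⁻¹ := by
      simp [act, mul_assoc]
    rw [e, hCB _ b.2 _ h]; exact h
  letI : MulAction B (A ⧸ C.subgroupOf A) :=
    { smul := fun b => Quotient.map' (act b) (fun x y => hwd b x y)
      one_smul := fun q => by
        induction q using Quotient.inductionOn'
        refine congrArg Quotient.mk'' ?_
        ext; simp [act]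
      mul_smul := fun b c q => by
        induction q using Quotient.inductionOn'
        refine congrArg Quotient.mk'' ?_
        ext; simp [act, mul_assoc] }
  haveI : Finite (A ⧸ C.subgroupOf A) := inferInstance
  have hdvd : p ∣ Nat.card (A ⧸ C.subgroupOf A) := by
    obtain ⟨k, hk⟩ := hA.index (C.subgroupOf A)
    rw [← Subgroup.index_eq_card, hk]
    refine dvd_pow_self p ?_
    rintro rfl
    rw [pow_zero, Subgroup.index_eq_one] at hk
    exact haC (by simpa [Subgroup.mem_subgroupOf] using (hk.symm ▸ Subgroup.mem_top (⟨a, ha⟩ : A) :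
      (⟨a, ha⟩ : A) ∈ C.subgroupOf A))
  have hfix : ((1 : A) : A ⧸ C.subgroupOf A) ∈ MulAction.fixedPoints B (A ⧸ C.subgroupOf A) := by
    intro b
    refine congrArg Quotient.mk'' ?_
    ext; simp [act]
  obtain ⟨q, hq, hq1⟩ := hB.exists_fixed_point_of_prime_dvd_card_of_fixed_point _ hdvd hfix
  induction q using Quotient.inductionOn' with
  | h x =>
    have hxC : (x : G) ∉ C := fun h => hq1 (QuotientGroup.eq.2 (by
      simpa [Subgroup.mem_subgroupOf] using h))
    have hmem : ∀ b : B, (x : G)⁻¹ * ((b : G) * x * (b : G)⁻¹) ∈ C := fun b => by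
      have := QuotientGroup.eq.1 (hq b).symm
      simpa [Subgroup.mem_subgroupOf, act, mul_assoc] using this
    have hinj : Function.Injective (fun b : B => (⟨_, hmem b⟩ : C)) := by
      intro u v huv
      simp only [Subtype.mk.injEq, mul_right_inj] at huv
      by_contra hne
      apply hxC
      refine ⟨x.2, ?_⟩
      have hw : (x : G) * ((v : G)⁻¹ * u) * (x : G)⁻¹ = (v : G)⁻¹ * u := by
        calc (x : G) * ((v : G)⁻¹ * u) * (x : G)⁻¹
            = (v : G)⁻¹ * ((v : G) * x * (v : G)⁻¹) * u * (x : G)⁻¹ := by group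
          _ = (v : G)⁻¹ * ((u : G) * x * (u : G)⁻¹) * u * (x : G)⁻¹ := by rw [huv]
          _ = (v : G)⁻¹ * u := by group
      rcases hBti (x : G) with h | h
      · show (x : G) ∈ Subgroup.normalizer (B : Set G)
        rw [Subgroup.mem_normalizer_iff]
        intro y
        constructor
        · intro hy; rw [← h]; exact ⟨y, hy, rfl⟩
        · intro hy; rw [← h] at hy
          obtain ⟨z, hz, hz'⟩ := hy
          simp at hz'; rwa [← hz']
      · exfalso
        have hm : (v : G)⁻¹ * u ∈ B.map (MulAut.conj (x : G)).toMonoidHom ⊓ B :=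
          ⟨⟨_, B.mul_mem (B.inv_mem v.2) u.2, hw⟩, B.mul_mem (B.inv_mem v.2) u.2⟩
        rw [h, Subgroup.mem_bot] at hm
        exact hne (Subtype.ext (inv_mul_eq_one.1 hm).symm)
    have h1 : Nat.card B ≤ Nat.card C := Nat.card_le_card_of_injective _ hinj
    have h2 : C = A := Subgroup.eq_of_le_of_card_ge inf_le_left (hle.trans h1)
    exact hxC (h2.symm ▸ x.2)

end Cfsg.Agent.S1757
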