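import Cfsg.Statements.S1774
import Cfsg.Agent.Lib.Core.Layer
-- import your own Cfsg.Agent.* helpers here

set_option autoImplicit false
open Cfsg

namespace Cfsg.Agent.S1774

theorem two_group_squares {P : Type*} [Group P] [Finite P] (hP : IsPGroup 2 P)
    (hc : ∀ A : Subgroup P, A.Characteristic → IsMulCommutative A → IsCyclic A)
    (zc : P) (hzc : zc ∈ Subgroup.center P) (hzo : orderOf zc = 2) (h4 : ∀ x : P, x ^ 4 = 1) :
    (∀ x : P, x * x = 1 ∨ x * x = zc) ∧
      (∀ u : P, u ∈ Subgroup.center P → u * u = 1 → u = 1 ∨ u = zc) := by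
  haveI : Fact (Nat.Prime 2) := ⟨Nat.prime_two⟩
  have huniq : ∀ (K : Subgroup P), IsCyclic K → ∀ u v : P, u ∈ K → v ∈ K →
      orderOf u = 2 → orderOf v = 2 → u = v := by
    intro K hK u v hu hv hou hov
    classical
    haveI := Fintype.ofFinite K
    have hh := IsCyclic.card_orderOf_eq_totient (α := K) (d := 2)
      (by rw [← hou, ← Nat.card_eq_fintype_card]; exact (Subgroup.orderOf_coe (⟨u, hu⟩ : K)) ▸ orderOf_dvd_natCard _)
    rw [Nat.totient_two, Finset.card_eq_one] at hh
    obtain ⟨a, ha⟩ := hh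
    have h1 : (⟨u, hu⟩ : K) ∈ ({a} : Finset K) := ha ▸ (by simp only [Finset.mem_filter, Finset.mem_univ, true_and]; rw [← Subgroup.orderOf_coe]; exact hou)
    have h2 : (⟨v, hv⟩ : K) ∈ ({a} : Finset K) := ha ▸ (by simp only [Finset.mem_filter, Finset.mem_univ, true_and]; rw [← Subgroup.orderOf_coe]; exact hov)
    rw [Finset.mem_singleton] at h1 h2
    exact congrArg Subtype.val (h1.trans h2.symm)
  have hord : ∀ u : P, u * u = 1 → u ≠ 1 → orderOf u = 2 := fun u h1 h2 =>
    orderOf_eq_prime (by rw [pow_two]; exact h1) h2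
  have hinv : ∀ A : Subgroup P, A.Characteristic → IsMulCommutative A → ∀ u ∈ A, u * u = 1 → u = 1 ∨ u = zc := by
    intro A hA hAc u hu huu
    by_cases hu1 : u = 1
    · exact Or.inl hu1
    haveI := hA
    haveI hZcyc : IsCyclic ↥(Subgroup.center P) := hc _ inferInstance inferInstance
    refine Or.inr (huniq _ hZcyc u zc ?_ hzc (hord u huu hu1) hzo)
    rw [Subgroup.mem_center_iff]
    intro q
    have hqb : q * u * q⁻¹ = u := huniq A (hc A hA hAc) _ u
      ((inferInstance : A.Normal).conj_mem u hu q) hu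
      (by rw [← hord u huu hu1]; exact orderOf_injective (MulAut.conj q).toMonoidHom (MulAut.conj q).injective u)
      (hord u huu hu1)
    exact mul_inv_eq_iff_eq_mul.1 hqb
  refine ⟨?_, fun u hu huu => hinv _ inferInstance inferInstance u hu huu⟩
  set N : Subgroup P := Subgroup.closure (Set.range fun x : P => x * x) with hN
  have hsq : ∀ x : P, x * x ∈ N := fun x => Subgroup.subset_closure ⟨x, rfl⟩
  haveI hNc : N.Characteristic := by
    refine Subgroup.characteristic_iff_map_le.2 fun φ => ?_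
    rw [hN, MonoidHom.map_closure, Subgroup.closure_le]
    rintro _ ⟨_, ⟨x, rfl⟩, rfl⟩
    exact Subgroup.subset_closure ⟨φ x, (map_mul φ x x).symm⟩
  set Zn : Subgroup P := N ⊓ Subgroup.centralizer (N : Set P) with hZn
  have hZnc : Zn.Characteristic := by
    refine Subgroup.characteristic_iff_map_le.2 fun φ => ?_
    rintro _ ⟨a, ha, rfl⟩
    refine ⟨(Subgroup.characteristic_iff_map_le.1 hNc φ) ⟨a, ha.1, rfl⟩, Subgroup.mem_centralizer_iff.2 fun b hb => ?_⟩
    have hb' : φ.symm b ∈ N := (Subgroup.characteristic_iff_map_le.1 hNc φ.symm) ⟨b, hb, rfl⟩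
    have := congrArg φ (Subgroup.mem_centralizer_iff.1 ha.2 _ hb')
    simpa using this
  have hZna : IsMulCommutative ↥Zn := ⟨⟨fun a b => Subtype.ext
    (Subgroup.mem_centralizer_iff.1 b.2.2 a a.2.1)⟩⟩
  have hNZ : N ≤ Zn := by
    by_contra hnot
    haveI : Group.IsNilpotent P := hP.isNilpotent
    obtain ⟨K, ⟨hKn, hKN, hKZ⟩, hKmin⟩ := Set.Finite.exists_minimal
      (s := {K : Subgroup P | K.Normal ∧ K ≤ N ∧ ¬ K ≤ Zn}) (Set.toFinite _)
      ⟨N, inferInstance, le_rfl, hnot⟩
    haveI := hKn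
    have hKP : ⁅K, (⊤ : Subgroup P)⁆ ≤ Zn := by
      by_contra hne
      have hle : ⁅K, (⊤ : Subgroup P)⁆ ≤ K := Subgroup.commutator_le_left K ⊤
      have heq : K ≤ ⁅K, (⊤ : Subgroup P)⁆ :=
        hKmin ⟨inferInstance, hle.trans hKN, hne⟩ hle
      have hlow : ∀ n, K ≤ Subgroup.lowerCentralSeries (⊤ : Subgroup P) n := by
        intro n
        induction n with
        | zero => simp
        | succ n ih =>
          rw [Subgroup.lowerCentralSeries_succ]
          exact heq.trans (Subgroup.commutator_mono ih le_rfl)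
      obtain ⟨n, hn⟩ := Subgroup.nilpotent_iff_lowerCentralSeries.1 (inferInstance : Group.IsNilpotent P)
      exact hKZ ((hlow n).trans (le_of_eq_of_le hn bot_le))
    obtain ⟨b0, hb0, hb0'⟩ := SetLike.not_le_iff_exists.1 hKZ
    obtain ⟨b, hbK, hbZ, hbb⟩ : ∃ b ∈ K, b ∉ Zn ∧ b * b ∈ Zn := by
      by_cases h : b0 * b0 ∈ Zn
      · exact ⟨b0, hb0, hb0', h⟩
      · refine ⟨b0 * b0, K.mul_mem hb0 hb0, h, ?_⟩
        have : b0 * b0 * (b0 * b0) = 1 := by rw [← h4 b0]; simp only [pow_succ, pow_zero, one_mul, mul_assoc]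
        rw [this]; exact one_mem _
    have hbN := hKN hbK
    have hcz : ∀ u ∈ Zn, u * u = 1 → ∀ x : P, x * u = u * x := by
      intro u hu huu x
      rcases hinv Zn hZnc hZna u hu huu with rfl | rfl
      · simp
      · exact Subgroup.mem_center_iff.1 hzc x
    have hbb' : ∀ x : P, x * (b * b) = b * b * x := hcz _ hbb (by rw [← h4 b]; simp only [pow_succ, pow_zero, one_mul, mul_assoc])
    have key : ∀ x : P, x * x * b = b * (x * x) := by
      intro x
      set ζ := b⁻¹ * (x * b * x⁻¹) with hζ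
      have hζZ : ζ ∈ Zn := by
        refine hKP ?_
        have : b⁻¹ * x * b⁻¹⁻¹ * x⁻¹ ∈ ⁅K, (⊤ : Subgroup P)⁆ :=
          Subgroup.commutator_mem_commutator (K.inv_mem hbK) (Subgroup.mem_top x)
        rwa [hζ, show b⁻¹ * (x * b * x⁻¹) = b⁻¹ * x * b⁻¹⁻¹ * x⁻¹ by group]
      have hbz : b * ζ = ζ * b := Subgroup.mem_centralizer_iff.1 hζZ.2 b hbN
      have hx : x * b * x⁻¹ = b * ζ := by rw [hζ]; group
      have hζ2 : ζ * ζ = 1 := by
        have e1 : (b * ζ) * (b * ζ) = b * b := by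
          rw [← hx, show x * b * x⁻¹ * (x * b * x⁻¹) = x * (b * b) * x⁻¹ by group, hbb' x, mul_inv_cancel_right]
        rw [show b * ζ * (b * ζ) = b * (ζ * b) * ζ by group, ← hbz,
          show b * (b * ζ) * ζ = b * b * (ζ * ζ) by group] at e1
        exact mul_eq_left.1 e1
      have hxz := hcz ζ hζZ hζ2 x
      calc x * x * b = x * (x * b * x⁻¹) * x := by group
        _ = x * b * (ζ * x) := by rw [hx]; group
        _ = x * b * (x * ζ) := by rw [hxz]
        _ = (x * b * x⁻¹) * (x * x) * ζ := by group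
        _ = b * (ζ * x) * x * ζ := by rw [hx]; group
        _ = b * (x * ζ) * x * ζ := by rw [hxz]
        _ = b * x * (ζ * x) * ζ := by group
        _ = b * x * (x * ζ) * ζ := by rw [hxz]
        _ = b * x * x * (ζ * ζ) := by group
        _ = b * (x * x) := by rw [hζ2, mul_one, mul_assoc]
    refine hbZ ⟨hbN, Subgroup.mem_centralizer_iff.2 fun n hn => ?_⟩
    have : N ≤ Subgroup.centralizer ({b} : Set P) := by
      rw [hN, Subgroup.closure_le]
      rintro _ ⟨x, rfl⟩
      exact Subgroup.mem_centralizer_singleton_iff.2 (key x)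
    exact Subgroup.mem_centralizer_singleton_iff.1 (this hn)
  intro x
  exact hinv Zn hZnc hZna _ (hNZ (hsq x)) (by rw [← h4 x]; simp only [pow_succ, pow_zero, one_mul, mul_assoc])

/-- The properties of the core of the centralizer of an involution which are used. -/
structure ST {G : Type*} [Group G] (Q : Subgroup G) (z : G) : Prop where
  mem : z ∈ Q
  invol : z * z = 1
  central : ∀ a ∈ Q, a * z = z * a
  sq : ∀ a ∈ Q, a * a = 1 ∨ a * a = z
  cmm : ∀ a ∈ Q, ∀ b ∈ Q, a * b * a⁻¹ * b⁻¹ = 1 ∨ a * b * a⁻¹ * b⁻¹ = z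
  center : ∀ u ∈ Q, (∀ a ∈ Q, a * u = u * a) → u * u = 1 → u = 1 ∨ u = z
  norm : ∀ c : G, c * z = z * c → ∀ a ∈ Q, c * a * c⁻¹ ∈ Q
  self : ∀ c : G, c * z = z * c → (∀ a ∈ Q, a * c = c * a) → c ∈ Q

theorem ST.conj {G : Type*} [Group G] {Q : Subgroup G} {z : G} (S : ST Q z) (g : G) :
    ST (Q.map (MulAut.conj g).toMonoidHom) (g * z * g⁻¹) := by
  have hm : ∀ a : G, a ∈ Q.map (MulAut.conj g).toMonoidHom → ∃ b ∈ Q, g * b * g⁻¹ = a :=
    fun a ha => Subgroup.mem_map.1 ha
  have mk : ∀ b ∈ Q, g * b * g⁻¹ ∈ Q.map (MulAut.conj g).toMonoidHom := fun b hb => ⟨b, hb, rfl⟩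
  set φ : G →* G := (MulAut.conj g).toMonoidHom with hφ
  have he : ∀ b : G, g * b * g⁻¹ = φ b := fun b => rfl
  have hinj : Function.Injective φ := (MulAut.conj g).injective
  simp only [he] at hm mk ⊢
  refine ⟨mk z S.mem, by rw [← map_mul, S.invol, map_one], ?_, ?_, ?_, ?_, ?_, ?_⟩
  · intro a ha
    obtain ⟨b, hb, rfl⟩ := hm a ha
    rw [← map_mul, ← map_mul, S.central b hb]
  · intro a ha
    obtain ⟨b, hb, rfl⟩ := hm a ha
    rcases S.sq b hb with h | h
    · left; rw [← map_mul, h, map_one]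
    · right; rw [← map_mul, h]
  · intro a ha a' ha'
    obtain ⟨b, hb, rfl⟩ := hm a ha
    obtain ⟨b', hb', rfl⟩ := hm a' ha'
    rcases S.cmm b hb b' hb' with h | h
    · left; rw [← map_inv, ← map_inv, ← map_mul, ← map_mul, ← map_mul, h, map_one]
    · right; rw [← map_inv, ← map_inv, ← map_mul, ← map_mul, ← map_mul, h]
  · intro a ha hc haa
    obtain ⟨b, hb, rfl⟩ := hm a ha
    rcases S.center b hb (fun d hd => hinj (by rw [map_mul, map_mul]; exact hc _ (mk d hd)))
      (hinj (by rw [map_mul, map_one]; exact haa)) with h | h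
    · left; rw [h, map_one]
    · right; rw [h]
  · intro c hc a ha
    obtain ⟨b, hb, rfl⟩ := hm a ha
    obtain ⟨d, rfl⟩ : ∃ d, φ d = c := (MulAut.conj g).surjective c
    rw [← map_inv, ← map_mul, ← map_mul]
    exact mk _ (S.norm d (hinj (by rw [map_mul, map_mul]; exact hc)) b hb)
  · intro c hc hca
    obtain ⟨d, rfl⟩ : ∃ d, φ d = c := (MulAut.conj g).surjective c
    exact mk _ (S.self d (hinj (by rw [map_mul, map_mul]; exact hc))
      fun a ha => hinj (by rw [map_mul, map_mul]; exact hca _ (mk a ha)))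

/-- A noncentral involution is moved to its product with the centre. -/
theorem ST.swap {G : Type*} [Group G] {Q : Subgroup G} {z w : G} (S : ST Q z) (hw : w ∈ Q) (hww : w * w = 1)
    (hw1 : w ≠ 1) (hwz : w ≠ z) : ∃ a ∈ Q, a * w * a⁻¹ = z * w := by
  by_contra hno
  push Not at hno
  refine (S.center w hw (fun a ha => ?_) hww).elim hw1 hwz
  rcases S.cmm a ha w hw with h | h
  · rw [mul_inv_eq_one, mul_inv_eq_iff_eq_mul] at h
    exact h
  · exact absurd (by rw [← h, inv_mul_cancel_right]) (hno a ha)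

theorem main_mem {G : Type*} [Group G] {Q Q₁ : Subgroup G} {z z' : G} (S : ST Q z) (S' : ST Q₁ z')
    (hz1 : z ≠ 1) (hz'1 : z' ≠ 1) (hne : z' ≠ z) (hin : z' ∈ Q)
    (hconj : ∀ h : G, h * z * h⁻¹ = z' → ∀ a ∈ Q, h * a * h⁻¹ ∈ Q₁) : z ∈ Q₁ := by
  obtain ⟨q, hq, hqz⟩ := S.swap hin S'.invol hz'1 hne
  have hcomm : z * z' = z' * z := (S.central z' hin).symm
  by_cases hex : ∃ x ∈ Q₁, x * z * x⁻¹ = z * z'
  · obtain ⟨x, hx, hxz⟩ := hex
    have hqzz : q * z * q⁻¹ = z := by rw [S.central q hq, mul_inv_cancel_right]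
    have hxz' : x * z' * x⁻¹ = z' := by rw [S'.central x hx, mul_inv_cancel_right]
    have e1 : q * x * z * (q * x)⁻¹ = z' := by
      calc q * x * z * (q * x)⁻¹ = q * (x * z * x⁻¹) * q⁻¹ := by group
        _ = (q * z * q⁻¹) * (q * z' * q⁻¹) := by rw [hxz]; group
        _ = z' := by rw [hqzz, hqz, ← mul_assoc, S.invol, one_mul]
    have := hconj (q * x) e1 _ (Q.mul_mem S.mem hin)
    rwa [show q * x * (z * z') * (q * x)⁻¹ = q * ((x * z * x⁻¹) * (x * z' * x⁻¹)) * q⁻¹ by group, hxz, hxz',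
      mul_assoc z z', S'.invol, mul_one, hqzz] at this
  exfalso
  push Not at hex
  by_cases hzQ : z ∈ Q₁
  · obtain ⟨x, hx, hxz⟩ := S'.swap hzQ S.invol hz1 hne.symm
    exact hex x hx (by rw [hxz, hcomm])
  have hzn : ∀ a ∈ Q₁, z * a * z⁻¹ ∈ Q₁ := S'.norm z hcomm
  have hzi : z⁻¹ = z := inv_eq_of_mul_eq_one_left S.invol
  -- fixed points modulo the centre are fixed points
  have hF : ∀ y ∈ Q₁, (z * y * z⁻¹ * y⁻¹ = 1 ∨ z * y * z⁻¹ * y⁻¹ = z') → y * z = z * y := by
    intro y hy h
    rcases h with h | h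
    · rw [mul_inv_eq_one, mul_inv_eq_iff_eq_mul] at h
      exact h.symm
    · refine absurd ?_ (hex y⁻¹ (Q₁.inv_mem hy))
      calc y⁻¹ * z * y⁻¹⁻¹ = y⁻¹ * (z * y * z⁻¹ * y⁻¹) * y * z := by group
        _ = y⁻¹ * (y * z') * z := by rw [h, S'.central y hy]; group
        _ = z * z' := by rw [inv_mul_cancel_left, hcomm]
  have hcz' : ∀ u : G, (u = 1 ∨ u = z') → ∀ a ∈ Q₁, a * u = u * a := by
    rintro u (rfl | rfl) a ha
    · simp
    · exact S'.central a ha
  -- the common part
  have hR : ∀ q' ∈ Q, q' * z' = z' * q' → ∀ d ∈ Q₁, d * z = z * d →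
      q' * d * q'⁻¹ * d⁻¹ = 1 ∨ q' * d * q'⁻¹ * d⁻¹ = z' := by
    intro r hr hrz d hd hdz
    set i := r * d * r⁻¹ * d⁻¹ with hi
    have hi1 : i ∈ Q₁ := Q₁.mul_mem (S'.norm r hrz d hd) (Q₁.inv_mem hd)
    have hi0 : i ∈ Q := by
      rw [hi, show r * d * r⁻¹ * d⁻¹ = r * (d * r⁻¹ * d⁻¹) by group]
      exact Q.mul_mem hr (S.norm d hdz _ (Q.inv_mem hr))
    have hiz' : i * z' = z' * i := S'.central i hi1
    have hii : i * i = 1 := by
      rcases S.sq i hi0 with h | h
      · exact h
      · exact absurd (h ▸ Q₁.mul_mem hi1 hi1) hzQ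
    have hicR : ∀ r' ∈ Q, r' * z' = z' * r' → r' * i = i * r' := by
      intro r' hr' hr'z
      rcases S.cmm r' hr' i hi0 with h | h
      · rw [mul_inv_eq_one, mul_inv_eq_iff_eq_mul] at h
        exact h
      · exact absurd (h ▸ Q₁.mul_mem (S'.norm r' hr'z i hi1) (Q₁.inv_mem hi1)) hzQ
    -- an involution commuting with the hyperplane
    have hdec : ∀ a ∈ Q, a * z' = z' * a ∨ q⁻¹ * a * z' = z' * (q⁻¹ * a) := by
      intro a ha
      rcases S.cmm a ha z' hin with h | h
      · rw [mul_inv_eq_one, mul_inv_eq_iff_eq_mul] at h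
        exact Or.inl h
      · right
        have h' : a * z' * a⁻¹ = z * z' := by rw [← h]; group
        calc q⁻¹ * a * z' = q⁻¹ * (a * z' * a⁻¹) * a := by group
          _ = q⁻¹ * (q * z' * q⁻¹) * a := by rw [h', hqz]
          _ = z' * (q⁻¹ * a) := by group
    have hall : ∀ u ∈ Q, q * u = u * q → (∀ r' ∈ Q, r' * z' = z' * r' → r' * u = u * r') →
        ∀ a ∈ Q, a * u = u * a := by
      intro u _ hqu hru a ha
      rcases hdec a ha with h | h
      · exact hru a ha h
      · have h2 := hru _ (Q.mul_mem (Q.inv_mem hq) ha) h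
        calc a * u = q * (q⁻¹ * a * u) := by group
          _ = (q * u) * q⁻¹ * a := by rw [h2]; group
          _ = u * a := by rw [hqu]; group
    rcases S.cmm q hq i hi0 with h | h
    · rw [mul_inv_eq_one, mul_inv_eq_iff_eq_mul] at h
      rcases S.center i hi0 (hall i hi0 h hicR) hii with h' | h'
      · exact Or.inl h'
      · exact absurd (h' ▸ hi1) hzQ
    · have hqi : q * i * q⁻¹ = z * i := by rw [← h]; group
      have hu : q * (i * z') = i * z' * q := by
        calc q * (i * z') = (q * i * q⁻¹) * (q * z' * q⁻¹) * q := by group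
          _ = z * (i * z) * z' * q := by rw [hqi, hqz]; group
          _ = (z * z) * i * z' * q := by rw [S.central i hi0]; group
          _ = i * z' * q := by rw [S.invol, one_mul]
      have hru : ∀ r' ∈ Q, r' * z' = z' * r' → r' * (i * z') = i * z' * r' := by
        intro r' hr' hr'z
        rw [← mul_assoc r', hicR r' hr' hr'z, mul_assoc i r', hr'z, ← mul_assoc i]
      have hiz2 : i * z' * (i * z') = 1 := by
        rw [mul_assoc, ← mul_assoc z', ← hiz', mul_assoc i z' z', S'.invol, mul_one, hii]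
      rcases S.center _ (Q.mul_mem hi0 hin) (hall _ (Q.mul_mem hi0 hin) hu hru) hiz2 with h' | h'
      · exact Or.inr (by rw [← inv_eq_of_mul_eq_one_left S'.invol]; exact eq_inv_of_mul_eq_one_left h')
      · exact absurd (h' ▸ Q₁.mul_mem hi1 S'.mem) hzQ
  refine hzQ (S'.self z hcomm fun y hy => ?_)
  set e := z * y * z⁻¹ * y⁻¹ with he
  have heQ : e ∈ Q₁ := Q₁.mul_mem (hzn y hy) (Q₁.inv_mem hy)
  have hee : e * z = z * e := by
    refine hF e heQ ?_
    have h1 : z * e * z⁻¹ * e⁻¹ = e⁻¹ * e⁻¹ := by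
      have : z * e * z⁻¹ = e⁻¹ := by
        rw [he, hzi]
        calc z * (z * y * z * y⁻¹) * z = (z * z) * y * z * y⁻¹ * z := by group
          _ = (z * y * z * y⁻¹)⁻¹ := by rw [S.invol, one_mul]; simp only [mul_inv_rev, inv_inv, hzi, mul_assoc]
      rw [this]
    rw [h1]; exact S'.sq _ (Q₁.inv_mem heQ)
  by_cases hr : ∃ r ∈ Q, r * z' = z' * r ∧ r * r = z
  · obtain ⟨r, hrQ, hrz, hr2⟩ := hr
    let β : G → G := fun a => r * a * r⁻¹ * a⁻¹
    have hβm : ∀ a ∈ Q₁, β a ∈ Q₁ := fun a ha => Q₁.mul_mem (S'.norm r hrz a ha) (Q₁.inv_mem ha)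
    have hβz : ∀ a ∈ Q₁, z * a * z⁻¹ * a⁻¹ = β (β a) * (β a * β a) := by
      intro a _
      rw [← hr2]; simp only [β]; group
    have hsmall : ∀ a ∈ Q₁, (β a = 1 ∨ β a = z') → a * z = z * a := by
      intro a ha h
      refine hF a ha ?_
      have hbb : β (β a) = 1 := by
        simp only [β] at h ⊢
        rcases h with h | h <;> rw [h]
        · group
        · rw [hrz]; group
      rw [hβz a ha, hbb, one_mul]
      exact S'.sq _ (hβm a ha)
    have hz2 : ∀ a ∈ Q₁, β (β a) = 1 ∨ β (β a) = z' → a * z = z * a := by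
      intro a ha h
      refine hF a ha ?_
      rw [hβz a ha]
      rcases h with h | h <;> rcases S'.sq _ (hβm a ha) with h' | h' <;> rw [h, h']
      · left; rw [one_mul]
      · right; rw [one_mul]
      · right; rw [mul_one]
      · left; exact S'.invol
    set u := β y with hu
    have huQ := hβm y hy
    -- the second image is fixed
    have hv : β u * z = z * β u := by
      have h1 : β u = e * (u * u)⁻¹ := by rw [he, hβz y hy, mul_inv_cancel_right]
      have h2 : z * (u * u) = u * u * z := by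
        rcases S'.sq u huQ with h | h <;> rw [h]
        · simp
        · exact hcomm
      have c1 : Commute (e * (u * u)⁻¹) z := (show Commute e z from hee).mul_left (show Commute (u * u) z from h2.symm).inv_left
      rw [h1]; exact c1.eq
    have hu1 : u * z = z * u := hz2 u huQ (hR r hrQ hrz _ (hβm u huQ) hv)
    exact hz2 y hy (hR r hrQ hrz u huQ hu1)
  · push Not at hr
    -- every element of the hyperplane squares to one
    have hRel : ∀ a ∈ Q, a * z' = z' * a → a * a = 1 := fun a ha haz =>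
      (S.sq a ha).resolve_right (hr a ha haz)
    have hqq : q * z' * q⁻¹ = z * z' := hqz
    have hzc : ∀ a ∈ Q, a * z = z * a := S.central
    have hdec : ∀ a ∈ Q, a * z' = z' * a ∨ q⁻¹ * a * z' = z' * (q⁻¹ * a) := by
      intro a ha
      rcases S.cmm a ha z' hin with h | h
      · rw [mul_inv_eq_one, mul_inv_eq_iff_eq_mul] at h
        exact Or.inl h
      · right
        have h' : a * z' * a⁻¹ = z * z' := by rw [← h]; group
        calc q⁻¹ * a * z' = q⁻¹ * (a * z' * a⁻¹) * a := by group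
          _ = q⁻¹ * (q * z' * q⁻¹) * a := by rw [h', hqz]
          _ = z' * (q⁻¹ * a) := by group
    have hRab : ∀ a ∈ Q, a * z' = z' * a → ∀ b ∈ Q, b * z' = z' * b → a * b = b * a := by
      intro a ha haz b hb hbz
      have h := hRel _ (Q.mul_mem ha hb) (by rw [mul_assoc, hbz, ← mul_assoc, haz, mul_assoc])
      calc a * b = (a * b)⁻¹ := (inv_eq_of_mul_eq_one_left h).symm
        _ = b * a := by rw [mul_inv_rev, inv_eq_of_mul_eq_one_left (hRel a ha haz), inv_eq_of_mul_eq_one_left (hRel b hb hbz)]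
    -- the hyperplane consists of four elements
    have hall : ∀ u ∈ Q, u * z' = z' * u → q * u = u * q → u = 1 ∨ u = z := by
      intro u hu huz hqu
      refine S.center u hu (fun a ha => ?_) (hRel u hu huz)
      rcases hdec a ha with h | h
      · exact hRab a ha h u hu huz
      · have h2 := hRab _ (Q.mul_mem (Q.inv_mem hq) ha) h u hu huz
        calc a * u = q * (q⁻¹ * a * u) := by group
          _ = (q * u) * q⁻¹ * a := by rw [h2]; group
          _ = u * a := by rw [hqu]; group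
    have hfour : ∀ u ∈ Q, u * z' = z' * u → (u = 1 ∨ u = z) ∨ u * z' = 1 ∨ u * z' = z := by
      intro u hu huz
      rcases S.cmm q hq u hu with h | h
      · rw [mul_inv_eq_one, mul_inv_eq_iff_eq_mul] at h
        exact Or.inl (hall u hu huz h)
      · have hqu : q * u * q⁻¹ = z * u := by rw [← h]; group
        refine Or.inr (hall _ (Q.mul_mem hu hin) (by rw [huz, mul_assoc]; rw [huz]) ?_)
        calc q * (u * z') = (q * u * q⁻¹) * (q * z' * q⁻¹) * q := by group
          _ = z * (u * z) * z' * q := by rw [hqu, hqz]; group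
          _ = (z * z) * u * z' * q := by rw [hzc u hu]; group
          _ = u * z' * q := by rw [S.invol, one_mul]
    have hcen : ∀ d ∈ Q₁, d * z = z * d → d * q = q * d → d = 1 := by
      intro d hd hdz hdq
      have hdz' : d * z' = z' * d := S'.central d hd
      have hdR : ∀ a ∈ Q, a * z' = z' * a → a * d = d * a := by
        intro a ha haz
        rcases hfour a ha haz with (h | h) | h | h
        · rw [h]; simp
        · rw [h]; exact hdz.symm
        · rw [mul_eq_one_iff_eq_inv.1 h, inv_eq_of_mul_eq_one_left S'.invol]; exact hdz'.symm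
        · rw [show a = z * z' by rw [← h, mul_assoc, S'.invol, mul_one]]
          rw [mul_assoc, ← hdz', ← mul_assoc, ← hdz, mul_assoc]
      have hdQ : d ∈ Q := by
        refine S.self d hdz fun a ha => ?_
        rcases hdec a ha with h | h
        · exact hdR a ha h
        · have h2 := hdR _ (Q.mul_mem (Q.inv_mem hq) ha) h
          calc a * d = q * (q⁻¹ * a * d) := by group
            _ = (q * d) * q⁻¹ * a := by rw [h2]; group
            _ = d * a := by rw [← hdq]; group
      rcases hall d hdQ hdz' hdq.symm with h | h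
      · exact h
      · exact absurd (h ▸ hd) hzQ
    have hD : ∀ d ∈ Q₁, d * z = z * d → d = 1 ∨ d = z' := by
      intro d hd hdz
      have hdz' : d * z' = z' * d := S'.central d hd
      set q' := d * q * d⁻¹ with hq'
      have hq'Q : q' ∈ Q := S.norm d hdz q hq
      set w := q⁻¹ * q' with hw
      have hwQ : w ∈ Q := Q.mul_mem (Q.inv_mem hq) hq'Q
      have hq'z : q' * z' * q'⁻¹ = z * z' := by
        have h1 : d⁻¹ * z' = z' * d⁻¹ := (show Commute d z' from hdz').inv_left.eq
        have h2 : d * (z * z') = z * z' * d := by rw [← mul_assoc, hdz, mul_assoc, hdz', ← mul_assoc]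
        calc q' * z' * q'⁻¹ = d * q * (d⁻¹ * z') * d * q⁻¹ * d⁻¹ := by rw [hq']; group
          _ = d * (q * z' * q⁻¹) * d⁻¹ := by rw [h1]; group
          _ = z * z' := by rw [hqz, h2, mul_inv_cancel_right]
      have hwz : w * z' = z' * w := by
        calc w * z' = q⁻¹ * (q' * z' * q'⁻¹) * q' := by rw [hw]; group
          _ = q⁻¹ * (q * z' * q⁻¹) * q' := by rw [hq'z, hqz]
          _ = z' * w := by rw [hw]; group
      have hq2 : q' * q' = q * q := by
        have : d * (q * q) * d⁻¹ = q * q := by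
          rcases S.sq q hq with h | h <;> rw [h]
          · group
          · rw [hdz, mul_inv_cancel_right]
        rw [hq', ← this]; group
      have hqw : q * w = w * q := by
        have h1 : w * q * w = q := by
          have : q * w * (q * w) = q * q := by
            rw [hw, mul_inv_cancel_left]; exact hq2
          rw [show q * w * (q * w) = q * (w * q * w) by group] at this
          exact mul_left_cancel this
        calc q * w = w * q * w * w := by rw [h1]
          _ = w * q := by rw [mul_assoc _ w w, hRel w hwQ hwz, mul_one]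
      have hdq : d * q = q * w * d := by rw [hw, mul_inv_cancel_left, hq']; group
      rcases hall w hwQ hwz hqw with h | h
      · exact Or.inl (hcen d hd hdz (by rw [hdq, h, mul_one]))
      · right
        have hdzz : d * z' * z = z * (d * z') := by rw [mul_assoc, ← hcomm, ← mul_assoc, hdz, mul_assoc]
        have := hcen (d * z') (Q₁.mul_mem hd S'.mem) hdzz (by
          have hz'q : z' * q = q * z * z' := by
            rw [mul_assoc, ← hqz]
            calc z' * q = q * (q⁻¹ * z' * q) := by group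
              _ = q * (q * z' * q⁻¹) := by
                congr 1
                calc q⁻¹ * z' * q = (q * q)⁻¹ * (q * z' * q⁻¹) * (q * q) := by group
                  _ = q * z' * q⁻¹ := by
                    rw [hqz]
                    rcases S.sq q hq with h | h <;> rw [h]
                    · group
                    · rw [hzi, ← mul_assoc, S.invol, one_mul, hcomm]
          rw [mul_assoc, hz'q, mul_assoc q z z']
          calc d * (q * (z * z')) = d * q * (z * z') := by group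
            _ = q * z * (d * z) * z' := by rw [hdq, h]; group
            _ = q * (z * z) * (d * z') := by rw [hdz]; group
            _ = q * (d * z') := by rw [S.invol, mul_one])
        rw [eq_inv_of_mul_eq_one_left this, inv_eq_of_mul_eq_one_left S'.invol]
    exact hF y hy (hD e heQ hee)

/-- Let G be a finite group and let z be an involution of G such that Q, the generalized Fitting subgroup of the centralizer C of z, is a 2-group of symplectic type (every characteristic abelian subgroup of Q is cyclic); suppose every element of Q has order dividing 4. Let g ∈ G with z' = g z g⁻¹ ≠ z and z' ∈ Q. Then z lies in the conjugate g Q g⁻¹, and the subgroup X generated by Q and g Q g⁻¹ induces every automorphism of the four-group generated by z and z': for any two distinct non-identity elements u, v of that four-group there is x ∈ X with x z x⁻¹ = u and x z' x⁻¹ = v. -/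
theorem result {G : Type*} [Group G] [Finite G] (z : G) (hz : orderOf z = 2) (hQ : Cfsg.IsOfSymplecticType ↥(Cfsg.generalizedFittingSubgroup ↥(Subgroup.centralizer ({z} : Set G))))
    (h4 : ∀ q ∈ (Cfsg.generalizedFittingSubgroup ↥(Subgroup.centralizer ({z} : Set G))).map (Subgroup.centralizer ({z} : Set G)).subtype, q ^ 4 = 1) (g : G) (hne : g * z * g⁻¹ ≠ z) (hin : g * z * g⁻¹ ∈ (Cfsg.generalizedFittingSubgroup ↥(Subgroup.centralizer ({z} : Set G))).map (Subgroup.centralizer ({z} : Set G)).subtype) :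
    z ∈ ((Cfsg.generalizedFittingSubgroup ↥(Subgroup.centralizer ({z} : Set G))).map (Subgroup.centralizer ({z} : Set G)).subtype).map (MulAut.conj g).toMonoidHom ∧
      ∀ u ∈ Subgroup.closure ({z, g * z * g⁻¹} : Set G), ∀ v ∈ Subgroup.closure ({z, g * z * g⁻¹} : Set G),
        u ≠ 1 → v ≠ 1 → u ≠ v →
          ∃ x ∈ (Cfsg.generalizedFittingSubgroup ↥(Subgroup.centralizer ({z} : Set G))).map (Subgroup.centralizer ({z} : Set G)).subtype ⊔ ((Cfsg.generalizedFittingSubgroup ↥(Subgroup.centralizer ({z} : Set G))).map (Subgroup.centralizer ({z} : Set G)).subtype).map (MulAut.conj g).toMonoidHom, x * z * x⁻¹ = u ∧ x * (g * z * g⁻¹) * x⁻¹ = v := by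
  haveI : Fact (Nat.Prime 2) := ⟨Nat.prime_two⟩
  set C := Subgroup.centralizer ({z} : Set G)
  set F := Cfsg.generalizedFittingSubgroup ↥C with hFd
  set Q := F.map C.subtype with hQd
  have hzz : z * z = 1 := by rw [← pow_two, ← hz]; exact pow_orderOf_eq_one z
  have hz1 : z ≠ 1 := fun h => by rw [h, orderOf_one] at hz; omega
  have hzC : z ∈ C := Subgroup.mem_centralizer_singleton_iff.2 rfl
  have hCc : ∀ c ∈ C, c * z = z * c := fun c hc => Subgroup.mem_centralizer_singleton_iff.1 hc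
  have hQC : Q ≤ C := Subgroup.map_subtype_le F
  have hself := Cfsg.Lib.Core.centralizer_generalizedFitting_le (G := ↥C)
  have hzF : (⟨z, hzC⟩ : ↥C) ∈ F := hself (Subgroup.mem_centralizer_iff.2 fun c _ => Subtype.ext (hCc c c.2))
  have hzcenter : (⟨⟨z, hzC⟩, hzF⟩ : ↥F) ∈ Subgroup.center ↥F :=
    Subgroup.mem_center_iff.2 fun c => Subtype.ext (Subtype.ext (hCc _ (c : ↥C).2))
  have hzo : orderOf (⟨⟨z, hzC⟩, hzF⟩ : ↥F) = 2 := by
    rw [← Subgroup.orderOf_coe, ← Subgroup.orderOf_coe]; exact hz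
  have h4' : ∀ x : ↥F, x ^ 4 = 1 := fun x => Subtype.ext (Subtype.ext (by
    simpa using h4 _ ⟨x, x.2, rfl⟩))
  obtain ⟨hsq, hcen⟩ := two_group_squares hQ.1 hQ.2 _ hzcenter hzo h4'
  have hv : ∀ a : ↥F, a = 1 ∨ a = ⟨⟨z, hzC⟩, hzF⟩ → ((a : ↥C) : G) = 1 ∨ ((a : ↥C) : G) = z := by
    rintro a (rfl | rfl)
    · exact Or.inl rfl
    · exact Or.inr rfl
  have S : ST Q z := by
    refine ⟨⟨⟨z, hzC⟩, hzF, rfl⟩, hzz, fun a ha => hCc a (hQC ha), ?_, ?_, ?_, ?_, ?_⟩
    · rintro _ ⟨a, ha, rfl⟩
      exact hv (⟨a, ha⟩ * ⟨a, ha⟩) (hsq ⟨a, ha⟩)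
    · rintro _ ⟨a, ha, rfl⟩ _ ⟨b, hb, rfl⟩
      refine hv ((⟨a, ha⟩ : ↥F) * ⟨b, hb⟩ * (⟨a, ha⟩ : ↥F)⁻¹ * (⟨b, hb⟩ : ↥F)⁻¹) ?_
      set A : ↥F := ⟨a, ha⟩
      set B : ↥F := ⟨b, hb⟩
      have hcA : B⁻¹ * (A⁻¹ * A⁻¹) = A⁻¹ * A⁻¹ * B⁻¹ := by
        rcases hsq A⁻¹ with h | h <;> rw [h]
        · simp
        · exact Subgroup.mem_center_iff.1 hzcenter _
      have e : A * B * A⁻¹ * B⁻¹ = A * B * (A * B) * (A⁻¹ * A⁻¹) * (B⁻¹ * B⁻¹) := by
        rw [show A * B * (A * B) * (A⁻¹ * A⁻¹) * (B⁻¹ * B⁻¹) = A * B * (A * B) * (A⁻¹ * A⁻¹ * B⁻¹) * B⁻¹ by group,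
          ← hcA]
        group
      rw [e]
      have hzz' : (⟨⟨z, hzC⟩, hzF⟩ : ↥F) * ⟨⟨z, hzC⟩, hzF⟩ = 1 := Subtype.ext (Subtype.ext hzz)
      rcases hsq (A * B) with h1 | h1 <;> rcases hsq A⁻¹ with h2 | h2 <;> rcases hsq B⁻¹ with h3 | h3 <;>
        rw [h1, h2, h3] <;> simp only [one_mul, mul_one, hzz', true_or, or_true]
    · rintro _ ⟨u, hu, rfl⟩ h huu
      exact hv ⟨u, hu⟩ (hcen ⟨u, hu⟩ (Subgroup.mem_center_iff.2 fun a => Subtype.ext (Subtype.ext (h _ ⟨a, a.2, rfl⟩)))
        (Subtype.ext (Subtype.ext huu)))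
    · rintro c hc _ ⟨a, ha, rfl⟩
      exact ⟨⟨c, Subgroup.mem_centralizer_singleton_iff.2 hc⟩ * a * ⟨c, Subgroup.mem_centralizer_singleton_iff.2 hc⟩⁻¹,
        (inferInstance : F.Normal).conj_mem a ha _, rfl⟩
    · intro c hc h
      exact ⟨⟨c, Subgroup.mem_centralizer_singleton_iff.2 hc⟩, hself (Subgroup.mem_centralizer_iff.2 fun a ha =>
        Subtype.ext (h _ ⟨a, ha, rfl⟩)), rfl⟩
  set z' := g * z * g⁻¹ with hz'
  set Q₁ := Q.map (MulAut.conj g).toMonoidHom with hQ₁
  have S' : ST Q₁ z' := S.conj g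
  have hz'1 : z' ≠ 1 := fun h => hz1 (conj_eq_one_iff.1 h)
  have hmem : z ∈ Q₁ := by
    refine main_mem S S' hz1 hz'1 hne hin fun h hh a ha => ?_
    have hc : g⁻¹ * h * z = z * (g⁻¹ * h) := by
      calc g⁻¹ * h * z = g⁻¹ * (h * z * h⁻¹) * h := by group
        _ = g⁻¹ * (g * z * g⁻¹) * h := by rw [hh]
        _ = z * (g⁻¹ * h) := by group
    refine ⟨_, S.norm _ hc a ha, ?_⟩
    show g * (g⁻¹ * h * a * (g⁻¹ * h)⁻¹) * g⁻¹ = h * a * h⁻¹
    group
  refine ⟨hmem, ?_⟩
  obtain ⟨a, ha, haz⟩ := S.swap hin S'.invol hz'1 hne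
  obtain ⟨b, hb, hbz⟩ := S'.swap hmem hzz hz1 (Ne.symm hne)
  have hcomm : z * z' = z' * z := (S.central z' hin).symm
  rw [← hcomm] at hbz
  have e1 : z' * (z * z') = z := by rw [hcomm, ← mul_assoc, S'.invol, one_mul]
  have e2 : z * (z * z') = z' := by rw [← mul_assoc, hzz, one_mul]
  have e3 : z * z' * z' = z := by rw [mul_assoc, S'.invol, mul_one]
  have e4 : z * z' * z = z' := by rw [mul_assoc, ← hcomm, ← mul_assoc, hzz, one_mul]
  have e5 : z * z' * (z * z') = 1 := by rw [mul_assoc, e1, hzz]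
  set w := z * z' with hw
  have ha0 : a * z * a⁻¹ = z := by rw [S.central a ha, mul_inv_cancel_right]
  have hb0 : b * z' * b⁻¹ = z' := by rw [S'.central b hb, mul_inv_cancel_right]
  have haw : a * w * a⁻¹ = z' := by
    calc a * w * a⁻¹ = (a * z * a⁻¹) * (a * z' * a⁻¹) := by rw [hw]; group
      _ = z' := by rw [ha0, haz, hw, ← mul_assoc, hzz, one_mul]
  have hbw : b * w * b⁻¹ = z := by
    calc b * w * b⁻¹ = (b * z * b⁻¹) * (b * z' * b⁻¹) := by rw [hw]; group
      _ = z := by rw [hbz, hb0, hw, mul_assoc, S'.invol, mul_one]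
  have hset : ∀ u ∈ Subgroup.closure ({z, z'} : Set G), u = 1 ∨ u = z ∨ u = z' ∨ u = w := by
    intro u hu
    induction hu using Subgroup.closure_induction with
    | mem x hx =>
      rcases hx with rfl | rfl
      · exact Or.inr (Or.inl rfl)
      · exact Or.inr (Or.inr (Or.inl rfl))
    | one => exact Or.inl rfl
    | mul x y _ _ hx hy =>
      rcases hx with rfl | rfl | rfl | rfl <;> rcases hy with rfl | rfl | rfl | rfl <;>
        simp only [one_mul, mul_one, hzz, S'.invol, e1, e2, e3, e4, e5, hcomm.symm, true_or, or_true, ← hw]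
    | inv x _ hx =>
      rcases hx with rfl | rfl | rfl | rfl
      · exact Or.inl inv_one
      · exact Or.inr (Or.inl (inv_eq_of_mul_eq_one_left hzz))
      · exact Or.inr (Or.inr (Or.inl (inv_eq_of_mul_eq_one_left S'.invol)))
      · refine Or.inr (Or.inr (Or.inr ?_))
        rw [hw, mul_inv_rev, inv_eq_of_mul_eq_one_left hzz, inv_eq_of_mul_eq_one_left S'.invol, ← hcomm]
  intro u hu v hv' hu1 hv1 huv
  have hA : a ∈ Q ⊔ Q₁ := Subgroup.mem_sup_left ha
  have hB : b ∈ Q ⊔ Q₁ := Subgroup.mem_sup_right hb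
  have cm : ∀ x y c : G, x * y * c * (x * y)⁻¹ = x * (y * c * y⁻¹) * x⁻¹ := fun x y c => by group
  have p1 : a * b * z * (a * b)⁻¹ = z' ∧ a * b * z' * (a * b)⁻¹ = w := by
    rw [cm, cm, hbz, hb0]; exact ⟨haw, haz⟩
  have p2 : b * a * z * (b * a)⁻¹ = w ∧ b * a * z' * (b * a)⁻¹ = z := by
    rw [cm, cm, ha0, haz]; exact ⟨hbz, hbw⟩
  have p3 : a * b * a * z * (a * b * a)⁻¹ = z' ∧ a * b * a * z' * (a * b * a)⁻¹ = z := by
    rw [cm (a * b) a, cm (a * b) a, ha0, haz]
    refine ⟨p1.1, ?_⟩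
    rw [cm, hbw]; exact ha0
  rcases hset u hu with rfl | rfl | rfl | rfl <;> rcases hset v hv' with rfl | rfl | rfl | rfl <;>
    (try exact absurd rfl hu1) <;> (try exact absurd rfl hv1) <;> (try exact absurd rfl huv)
  all_goals first
    | exact ⟨a, hA, ha0, haz⟩
    | exact ⟨b, hB, hbz, hb0⟩
    | exact ⟨a * b, mul_mem hA hB, p1⟩
    | exact ⟨b * a, mul_mem hB hA, p2⟩
    | exact ⟨a * b * a, mul_mem (mul_mem hA hB) hA, p3⟩
    | exact ⟨1, one_mem _, (by rw [one_mul, inv_one, mul_one]), (by rw [one_mul, inv_one, mul_one])⟩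

end Cfsg.Agent.S1774
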