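import Cfsg.Statements.S1775
import Cfsg.Agent.Lib.Sig.BPropertyComponent

set_option autoImplicit false
open Cfsg

namespace Cfsg.Agent.S1775

/-- Let G be a finite group whose generalized Fitting subgroup is a non-abelian simple group and in which every proper section (every quotient H/N of a proper subgroup H, or of G by a nontrivial normal subgroup) has the B-property. Let x, y be commuting involutions, let D be the intersection of the 2-layer of C_G(x) with C_G(y), and let J be a 2-component of D. Write Q for the quotient of C_G(y) by its largest normal odd-order subgroup. Then (i) the image of J in Q is a component of the centralizer in Q of the image of x; and (ii) for every J-invariant subgroup E of odd order of C_G(x) ∩ C_G(y), the commutator subgroup [J, E] lies in the largest normal odd-order subgroup of C_G(y). -/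
theorem result {G : Type*} [Group G] [Finite G]
    (hF : IsSimpleGroup ↥(Cfsg.generalizedFittingSubgroup G)) (hF' : ¬ IsMulCommutative ↥(Cfsg.generalizedFittingSubgroup G))
    (hsec : ∀ (H : Subgroup G) (N : Subgroup ↥H) [N.Normal], (H ≠ ⊤ ∨ N ≠ ⊥) → Cfsg.HasBProperty (↥H ⧸ N))
    (x y : G) (hx : orderOf x = 2) (hy : orderOf y = 2) (hxy : x * y = y * x)
    (J : Subgroup ↥((Cfsg.pLayer 2 ↥(Subgroup.centralizer ({x} : Set G))).map (Subgroup.centralizer ({x} : Set G)).subtype ⊓ Subgroup.centralizer ({y} : Set G)))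
    (hJ : Cfsg.IsPComponent 2 J) :
    Cfsg.IsComponent
        ((((J.map (Subgroup.subtype _)).subgroupOf (Subgroup.centralizer ({y} : Set G))).map (QuotientGroup.mk' (Cfsg.oddCore ↥(Subgroup.centralizer ({y} : Set G))))).subgroupOf
          (Subgroup.centralizer ({(QuotientGroup.mk' (Cfsg.oddCore ↥(Subgroup.centralizer ({y} : Set G))) ⟨x, Subgroup.mem_centralizer_singleton_iff.mpr hxy⟩ : ↥(Subgroup.centralizer ({y} : Set G)) ⧸ Cfsg.oddCore ↥(Subgroup.centralizer ({y} : Set G)))} : Set _))) ∧
      ∀ E : Subgroup G, E ≤ Subgroup.centralizer ({x} : Set G) ⊓ Subgroup.centralizer ({y} : Set G) → Odd (Nat.card ↥E) →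
        (∀ j ∈ J.map (Subgroup.subtype _), ∀ e ∈ E, j * e * j⁻¹ ∈ E) →
          ⁅J.map (Subgroup.subtype _), E⁆ ≤ (Cfsg.oddCore ↥(Subgroup.centralizer ({y} : Set G))).map (Subgroup.centralizer ({y} : Set G)).subtype := by
  haveI : Fact (Nat.Prime 2) := ⟨Nat.prime_two⟩
  have hyne : (Subgroup.centralizer ({y} : Set G)) ≠ ⊤ := by
    intro htop
    have hyc : y ∈ Subgroup.center G := Subgroup.mem_center_iff.2 fun g =>
      Subgroup.mem_centralizer_singleton_iff.1 (show g ∈ Subgroup.centralizer ({y} : Set G) from htop ▸ Subgroup.mem_top g)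
    have hyF : y ∈ Cfsg.generalizedFittingSubgroup G :=
      Cfsg.Lib.Core.fitting_le_generalizedFitting (Cfsg.Lib.Core.center_le_fittingSubgroup hyc)
    have hc : (⟨y, hyF⟩ : ↥(Cfsg.generalizedFittingSubgroup G)) ∈ Subgroup.center ↥(Cfsg.generalizedFittingSubgroup G) :=
      Subgroup.mem_center_iff.2 fun g => Subtype.ext (Subgroup.mem_center_iff.1 hyc g)
    rcases hF.eq_bot_or_eq_top_of_normal (Subgroup.center ↥(Cfsg.generalizedFittingSubgroup G)) inferInstance with h | h
    · rw [h, Subgroup.mem_bot] at hc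
      have : y = 1 := congrArg Subtype.val hc
      rw [this, orderOf_one] at hy
      exact absurd hy (by norm_num)
    · exact hF' ⟨⟨fun a b => Subgroup.mem_center_iff.1 (h ▸ Subgroup.mem_top b) a⟩⟩
  have hB : Cfsg.HasBProperty ↥(Subgroup.centralizer ({y} : Set G)) :=
    Cfsg.Lib.Sig.BPropertyComponent.hasBProperty_congr QuotientGroup.quotientBot (hsec (Subgroup.centralizer ({y} : Set G)) ⊥ (Or.inl hyne))
  set t : ↥(Subgroup.centralizer ({y} : Set G)) := ⟨x, Subgroup.mem_centralizer_singleton_iff.mpr hxy⟩ with ht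
  have hto : orderOf t = 2 := by rw [ht, Subgroup.orderOf_mk]; exact hx
  set C := Subgroup.centralizer ({t} : Set ↥(Subgroup.centralizer ({y} : Set G))) with hC
  have hmemCx : ∀ d : ↥(((Cfsg.pLayer 2 ↥(Subgroup.centralizer ({x} : Set G))).map (Subgroup.centralizer ({x} : Set G)).subtype) ⊓ (Subgroup.centralizer ({y} : Set G))), (d : G) * x = x * (d : G) := fun d =>
    Subgroup.mem_centralizer_singleton_iff.1 (Subgroup.map_subtype_le _ (Subgroup.mem_inf.1 d.2).1)
  let ι : ↥(((Cfsg.pLayer 2 ↥(Subgroup.centralizer ({x} : Set G))).map (Subgroup.centralizer ({x} : Set G)).subtype) ⊓ (Subgroup.centralizer ({y} : Set G))) →* ↥C :=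
    (Subgroup.inclusion (inf_le_right : ((Cfsg.pLayer 2 ↥(Subgroup.centralizer ({x} : Set G))).map (Subgroup.centralizer ({x} : Set G)).subtype) ⊓ (Subgroup.centralizer ({y} : Set G)) ≤ (Subgroup.centralizer ({y} : Set G)))).codRestrict C fun d =>
      Subgroup.mem_centralizer_singleton_iff.2 (Subtype.ext (hmemCx d))
  have hι : Function.Injective ι := fun a b h =>
    Subtype.ext (congrArg (fun w : ↥C => ((w : ↥(Subgroup.centralizer ({y} : Set G))) : G)) h)
  have hn : ι.range.Normal := by
    refine ⟨fun w ⟨d, hd⟩ c => ?_⟩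
    subst hd
    have hcx : ((c : ↥(Subgroup.centralizer ({y} : Set G))) : G) ∈ Subgroup.centralizer ({x} : Set G) :=
      Subgroup.mem_centralizer_singleton_iff.2 (congrArg Subtype.val (Subgroup.mem_centralizer_singleton_iff.1 c.2))
    haveI := Cfsg.Lib.Sig.BPropertyComponent.pLayer_normal (X := ↥(Subgroup.centralizer ({x} : Set G)))
    have hL' : ((c : ↥(Subgroup.centralizer ({y} : Set G))) : G) * (d : G) * ((c : ↥(Subgroup.centralizer ({y} : Set G))) : G)⁻¹ ∈ ((Cfsg.pLayer 2 ↥(Subgroup.centralizer ({x} : Set G))).map (Subgroup.centralizer ({x} : Set G)).subtype) := by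
      obtain ⟨l, hl, hld⟩ := (Subgroup.mem_inf.1 d.2).1
      refine ⟨⟨_, hcx⟩ * l * ⟨_, hcx⟩⁻¹, this.conj_mem l hl _, ?_⟩
      rw [← hld]
      rfl
    exact ⟨⟨_, Subgroup.mem_inf.2 ⟨hL', ((Subgroup.centralizer ({y} : Set G)).mul_mem ((Subgroup.centralizer ({y} : Set G)).mul_mem (c : ↥(Subgroup.centralizer ({y} : Set G))).2 (Subgroup.mem_inf.1 d.2).2) ((Subgroup.centralizer ({y} : Set G)).inv_mem (c : ↥(Subgroup.centralizer ({y} : Set G))).2))⟩⟩, rfl⟩
  have hcomp : ((Subgroup.centralizer ({y} : Set G)).subtype.comp C.subtype).comp ι = (((Cfsg.pLayer 2 ↥(Subgroup.centralizer ({x} : Set G))).map (Subgroup.centralizer ({x} : Set G)).subtype) ⊓ (Subgroup.centralizer ({y} : Set G))).subtype := MonoidHom.ext fun _ => rfl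
  have hK : Cfsg.IsPComponent 2 (J.map ι) := by
    refine Cfsg.Lib.Sig.BBalance.isPComponent_of ?_ (Cfsg.Lib.Sig.BBalance.pgen_map ι (Cfsg.Lib.Sig.pComponent_eq_closure hJ))
      (Cfsg.Lib.Sig.BBalance.quotient_qs_of_map ι hJ ?_)
    · have h1 : (J.map ι.rangeRestrict).IsSubnormal := hJ.1.map ι.rangeRestrict_surjective
      have h2 := (Cfsg.Lib.Core.isSubnormal_map_subtype_iff hn.isSubnormal (J.map ι.rangeRestrict)).2 h1
      rwa [Subgroup.map_map, show ι.range.subtype.comp ι.rangeRestrict = ι from MonoidHom.ext fun _ => rfl] at h2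
    · intro h
      rw [Subgroup.map_eq_bot_iff_of_injective _ hι] at h
      exact Cfsg.Lib.Sig.pComponent_ne_of_coprime hJ (h ▸ bot_le)
  have hJC : (J.map (Subgroup.subtype _)).subgroupOf (Subgroup.centralizer ({y} : Set G)) = (J.map ι).map C.subtype := by
    rw [← hcomp, ← Subgroup.map_map, ← Subgroup.map_map, Subgroup.subgroupOf,
      Subgroup.comap_map_eq_self_of_injective (Subgroup.subtype_injective _)]
  refine ⟨?_, fun E hE hodd hinv => ?_⟩
  · have h := Cfsg.Lib.Sig.BPropertyComponent.isComponent_image hB hto hK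
    rw [← Subgroup.map_map, ← hJC] at h
    exact h
  · set E₁ := (E.subgroupOf (Subgroup.centralizer ({y} : Set G))).subgroupOf C with hE₁
    have hmap : (E₁.map C.subtype).map (Subgroup.centralizer ({y} : Set G)).subtype = E := by
      rw [hE₁, Subgroup.map_subgroupOf_eq_of_le, Subgroup.map_subgroupOf_eq_of_le (hE.trans inf_le_right)]
      intro e he
      exact Subgroup.mem_centralizer_singleton_iff.2 (Subtype.ext
        (Subgroup.mem_centralizer_singleton_iff.1 (hE (Subgroup.mem_subgroupOf.1 he)).1))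
    have hodd₁ : Odd (Nat.card ↥E₁) := by
      rwa [← hmap, Subgroup.card_map_of_injective (Subgroup.subtype_injective _),
        Subgroup.card_map_of_injective (Subgroup.subtype_injective _)] at hodd
    have hnorm : J.map ι ≤ Subgroup.normalizer (E₁ : Set ↥C) := by
      rintro _ ⟨j, hj, rfl⟩
      refine Subgroup.mem_normalizer_iff.2 fun e => ?_
      have hjm : (j : G) ∈ J.map (Subgroup.subtype _) := Subgroup.mem_map_of_mem _ hj
      refine ⟨fun he => hinv _ hjm ((e : ↥(Subgroup.centralizer ({y} : Set G))) : G) he, fun he => ?_⟩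
      have h := hinv _ (Subgroup.inv_mem _ hjm) _ he
      show ((e : ↥(Subgroup.centralizer ({y} : Set G))) : G) ∈ E
      convert h using 1
      show ((e : ↥(Subgroup.centralizer ({y} : Set G))) : G) = (j : G)⁻¹ * ((j : G) * ((e : ↥(Subgroup.centralizer ({y} : Set G))) : G) * (j : G)⁻¹) * ((j : G)⁻¹)⁻¹
      group
    have h := Subgroup.map_mono (f := (Subgroup.centralizer ({y} : Set G)).subtype)
      (Cfsg.Lib.Sig.BPropertyComponent.commutator_le_core hB hto hK hodd₁ hnorm)
    rw [Subgroup.map_commutator, hmap, ← hJC,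
      Subgroup.map_subgroupOf_eq_of_le ((Subgroup.map_subtype_le _).trans inf_le_right)] at h
    exact h

end Cfsg.Agent.S1775
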