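import Cfsg.Statements.S1780
-- import your own Cfsg.Agent.* helpers here

set_option autoImplicit false
open Cfsg

namespace Cfsg.Agent.S1780

theorem fix_of_fix_sq {A : Type*} [CommGroup A] [Finite A]
    (hA : IsPGroup 2 A) (t : MulAut A) (ht : ∃ k : ℕ, orderOf t = 2 ^ k) (hC : ∀ a : A, t (t a) = a → t a = a) :
    ∀ a : A, t a = a := by
  obtain ⟨k, hk⟩ := ht
  let D : A → A := fun w => t w * w
  have hsq : ∀ v : A, v * v = 1 → D v * D v = 1 := fun v hv => by
    show t v * v * (t v * v) = 1
    rw [mul_mul_mul_comm, hv, ← map_mul, hv, map_one, mul_one]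
  have hinv : ∀ v : A, v * v = 1 → v⁻¹ = v := fun v hv => inv_eq_of_mul_eq_one_right hv
  -- the nilpotency of `D` on the involutions
  have hdesc : ∀ n : ℕ, ∀ v : A, v * v = 1 → D^[n] v = 1 → D v = 1 := by
    intro n
    induction n with
    | zero => intro v _ h; simp at h; simp [h, D]
    | succ n ih =>
      intro v hv h
      have h2 : D (D v) = 1 := ih (D v) (hsq v hv) (by simpa [Function.iterate_succ] using h)
      have hfix : t (D v) = D v := by
        rw [← hinv _ (hsq v hv)]; simpa [hinv _ (hsq v hv)] using mul_eq_one_iff_eq_inv.1 h2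
      have h3 : t (t v) = v := by
        have : t (t v) * t v = t v * v := by simpa [D] using hfix
        rw [mul_comm (t v) v] at this
        exact mul_right_cancel this
      show t v * v = 1
      rw [hC v h3, hv]
  have hform : ∀ i : ℕ, ∀ v : A, v * v = 1 → D^[2 ^ i] v = (t ^ (2 ^ i)) v * v := by
    intro i
    induction i with
    | zero => intro v _; simp [D]
    | succ i ih =>
      intro v hv
      have hv' : ((t ^ (2 ^ i)) v * v) * ((t ^ (2 ^ i)) v * v) = 1 := by
        rw [mul_mul_mul_comm, hv, ← map_mul, hv, map_one, mul_one]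
      have e : 2 ^ (i + 1) = 2 ^ i + 2 ^ i := by ring
      rw [e, Function.iterate_add_apply, ih v hv, ih _ hv', map_mul, pow_add, MulAut.mul_apply]
      have : (t ^ (2 ^ i)) v * (t ^ (2 ^ i)) v = 1 := by rw [← map_mul, hv, map_one]
      rw [mul_assoc, ← mul_assoc ((t ^ (2 ^ i)) v) ((t ^ (2 ^ i)) v) v, this, one_mul]
  have hW : ∀ v : A, v * v = 1 → t v = v := by
    intro v hv
    have h := hdesc (2 ^ k) v hv (by rw [hform k v hv, ← hk, pow_orderOf_eq_one]; simpa using hv)
    rw [← hinv v hv]; simpa [hinv v hv] using mul_eq_one_iff_eq_inv.1 h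
  have hlvl : ∀ j : ℕ, ∀ a : A, a ^ (2 ^ j) = 1 → t a = a := by
    intro j
    induction j with
    | zero => intro a ha; simp at ha; simp [ha]
    | succ j ih =>
      intro a ha
      have h2 : t (a * a) = a * a := ih _ (by rw [← pow_two, ← pow_mul, ← pow_succ', ha])
      have hz : (t a * a⁻¹) * (t a * a⁻¹) = 1 := by
        rw [mul_mul_mul_comm, ← map_mul, h2, ← mul_inv, mul_inv_cancel]
      have hzfix := hW _ hz
      apply hC
      have ht2 : t (t a) = (t a * a⁻¹) * t a := by
        calc t (t a) = t ((t a * a⁻¹) * a) := by rw [inv_mul_cancel_right]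
          _ = t (t a * a⁻¹) * t a := map_mul _ _ _
          _ = _ := by rw [hzfix]
      rw [ht2, mul_right_comm, ← map_mul, h2, mul_inv_cancel_right]
  intro a
  obtain ⟨j, hj⟩ := hA a
  exact hlvl j a hj


/-- Let A be a finite abelian 2-group and t an automorphism of A whose order is a power of 2. If every element of A fixed by t² is fixed by t, then t fixes every element of A. -/
theorem result {A : Type*} [CommGroup A] [Finite A]
    (hA : IsPGroup 2 A) (t : MulAut A) (ht : ∃ k : ℕ, orderOf t = 2 ^ k) (hC : ∀ a : A, t (t a) = a → t a = a) :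
    ∀ a : A, t a = a := by
  exact fix_of_fix_sq hA t ht hC

end Cfsg.Agent.S1780
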