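import Cfsg.Statements.S1781
import Cfsg.Agent.S1757
import Cfsg.Agent.S1780
import Mathlib

set_option autoImplicit false
open Cfsg

namespace Cfsg.Agent.S1781

/-- Let A be an abelian 2-subgroup of the finite group G such that every conjugate of A equals A or meets A trivially, and let g ∈ G with g A g⁻¹ ≠ A. Then either the subgroup of those elements of A that normalize g A g⁻¹ is an elementary abelian 2-group, or A and g A g⁻¹ commute elementwise. -/
theorem result {G : Type*} [Group G] [Finite G] (A : Subgroup G)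
    (hA2 : IsPGroup 2 ↥A) (hAa : IsMulCommutative ↥A)
    (hti : ∀ h : G, A.map (MulAut.conj h).toMonoidHom = A ∨ A.map (MulAut.conj h).toMonoidHom ⊓ A = ⊥)
    (g : G) (hg : A.map (MulAut.conj g).toMonoidHom ≠ A) :
    Cfsg.IsElementaryAbelian 2 (A ⊓ Subgroup.normalizer ((A.map (MulAut.conj g).toMonoidHom : Subgroup G) : Set G)) ∨
      ⁅A, A.map (MulAut.conj g).toMonoidHom⁆ = ⊥ := by
  haveI : Fact (Nat.Prime 2) := ⟨Nat.prime_two⟩
  haveI := hAa
  set B : Subgroup G := A.map (MulAut.conj g).toMonoidHom with hB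
  have hAB : A ⊓ B = ⊥ := by rw [inf_comm]; exact (hti g).resolve_left hg
  have hBa : IsMulCommutative B := ⟨⟨fun x y => by
    obtain ⟨a, ha, hxa⟩ := Subgroup.mem_map.1 x.2
    obtain ⟨b, hb, hyb⟩ := Subgroup.mem_map.1 y.2
    ext
    show (x : G) * y = y * x
    rw [← hxa, ← hyb, ← map_mul, ← map_mul]
    exact congrArg _ (congrArg Subtype.val (mul_comm' (⟨a, ha⟩ : A) ⟨b, hb⟩))⟩⟩
  have hBp : IsPGroup 2 B := hA2.map _
  have hcommA : ∀ a ∈ A, ∀ b ∈ A, a * b = b * a := fun a ha b hb =>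
    congrArg Subtype.val (mul_comm' (⟨a, ha⟩ : A) ⟨b, hb⟩)
  refine or_iff_not_imp_left.2 fun hne => ?_
  have ⟨x, hxA, hxN, hx2⟩ : ∃ x ∈ A, x ∈ Subgroup.normalizer (B : Set G) ∧ x ^ 2 ≠ 1 := by
    by_contra hcon
    push Not at hcon
    exact hne ⟨⟨⟨fun a b => Subtype.ext (hcommA _ a.2.1 _ b.2.1)⟩⟩, fun a ha => hcon a ha.1 ha.2⟩
  have hconj : ∀ y ∈ A, y ∈ Subgroup.normalizer (B : Set G) → y ≠ 1 → ∀ b ∈ B,
      (y * b * y⁻¹ = b ↔ b ∈ Subgroup.normalizer (A : Set G)) := by
    intro y hy hyN hy1 b hb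
    constructor
    · intro h
      have hbe : b * y * b⁻¹ = y := by
        calc b * y * b⁻¹ = (y * b * y⁻¹) * y * b⁻¹ := by rw [h]
          _ = y := by group
      rcases hti b with h' | h'
      · rw [Subgroup.mem_normalizer_iff]
        intro z
        conv_rhs => rw [← h']
        exact ⟨fun hz => ⟨z, hz, rfl⟩, fun ⟨w, hw, hw'⟩ => by simp at hw'; rwa [← hw']⟩
      · exfalso
        refine hy1 (Subgroup.mem_bot.1 (h' ▸ ?_))
        exact Subgroup.mem_inf.2 ⟨⟨y, hy, hbe⟩, hy⟩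
    · intro hbN
      have h1 : y * b * y⁻¹ * b⁻¹ ∈ A := by
        have := A.mul_mem hy ((Subgroup.mem_normalizer_iff.1 hbN y⁻¹).1 (A.inv_mem hy))
        simpa [mul_assoc] using this
      have h2 : y * b * y⁻¹ * b⁻¹ ∈ B :=
        B.mul_mem ((Subgroup.mem_normalizer_iff.1 hyN b).1 hb) (B.inv_mem hb)
      have h3 : y * b * y⁻¹ * b⁻¹ = 1 := Subgroup.mem_bot.1 (hAB ▸ Subgroup.mem_inf.2 ⟨h1, h2⟩)
      exact mul_inv_eq_one.1 h3
  haveI := hBa
  letI : CommGroup B := { (inferInstance : Group B) with mul_comm := mul_comm' }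
  have hmap : ∀ b : B, x * (b : G) * x⁻¹ ∈ B := fun b => (Subgroup.mem_normalizer_iff.1 hxN b).1 b.2
  let t : MulAut B :=
    { toFun := fun b => ⟨x * b * x⁻¹, hmap b⟩
      invFun := fun b => ⟨x⁻¹ * b * x, (Subgroup.mem_normalizer_iff.1 hxN _).2 (by simp [mul_assoc])⟩
      left_inv := fun b => by ext; simp [mul_assoc]
      right_inv := fun b => by ext; simp [mul_assoc]
      map_mul' := fun a b => by ext; simp [mul_assoc] }
  have hpow : ∀ n : ℕ, ∀ b : B, (((t ^ n) b : B) : G) = x ^ n * b * (x ^ n)⁻¹ := by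
    intro n
    induction n with
    | zero => intro b; simp
    | succ n ih => intro b; rw [pow_succ', MulAut.mul_apply]; show x * _ * x⁻¹ = _; rw [ih]; simp [pow_succ', mul_assoc]
  have ht : ∃ k : ℕ, orderOf t = 2 ^ k := by
    obtain ⟨k, hk⟩ := hA2 ⟨x, hxA⟩
    have hk' : x ^ 2 ^ k = 1 := by simpa using congrArg Subtype.val hk
    have hd : orderOf t ∣ 2 ^ k := orderOf_dvd_of_pow_eq_one <| MulEquiv.ext fun b => Subtype.ext (by rw [hpow, hk']; simp)
    obtain ⟨j, -, hj⟩ := (Nat.dvd_prime_pow Nat.prime_two).1 hd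
    exact ⟨j, hj⟩
  have hfix := Cfsg.Agent.S1780.result (A := B) hBp t ht (fun b hb => by
    have h2 : x ^ 2 * (b : G) * (x ^ 2)⁻¹ = b := by
      rw [← hpow 2 b]; exact congrArg Subtype.val (by simpa [pow_two, MulAut.mul_apply] using hb)
    have h3 := (hconj (x ^ 2) (A.pow_mem hxA 2) (pow_mem hxN 2) hx2 b b.2).1 h2
    exact Subtype.ext ((hconj x hxA hxN (by rintro rfl; simp at hx2) b b.2).2 h3))
  have hBN : B ≤ Subgroup.normalizer (A : Set G) := fun b hb =>
    (hconj x hxA hxN (by rintro rfl; simp at hx2) b hb).1 (congrArg Subtype.val (hfix ⟨b, hb⟩))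
  refine Cfsg.Agent.S1757.result 2 A B hA2 hBp hti ?_ ?_ hAB hBN
  · intro h
    have hc : ∀ u v : G, (A.map (MulAut.conj u).toMonoidHom).map (MulAut.conj v).toMonoidHom
        = A.map (MulAut.conj (v * u)).toMonoidHom := fun u v => by
      rw [Subgroup.map_map]; congr 1; ext z; simp [mul_assoc]
    rcases hti (g⁻¹ * h * g) with h' | h'
    · left
      rw [hB, hc]
      conv_rhs => rw [← h', hc]
      simp [mul_assoc]
    · right
      rw [hB, hc]
      have := congrArg (Subgroup.map (MulAut.conj g).toMonoidHom) h'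
      rw [Subgroup.map_inf _ _ _ (MulAut.conj g).injective, Subgroup.map_bot, hc] at this
      simpa [mul_assoc] using this
  · exact le_of_eq (Subgroup.card_map_of_injective (MulAut.conj g).injective).symm

end Cfsg.Agent.S1781
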