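import Cfsg.Statements.S1782
import Mathlib

set_option autoImplicit false
open Cfsg

namespace Cfsg.Agent.S1782


variable {S : Type*} [Group S] [Finite S]

abbrev Com (R T : Subgroup S) : Prop := ∀ x ∈ R, ∀ y ∈ T, x * y = y * x
abbrev cj (R : Subgroup S) (s : S) : Subgroup S := R.map (MulAut.conj s).toMonoidHom

theorem mem_cj {R : Subgroup S} {s x : S} : x ∈ cj R s ↔ s⁻¹ * x * s ∈ R := by
  constructor
  · rintro ⟨y, hy, rfl⟩; simpa [mul_assoc] using hy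
  · intro h; exact ⟨_, h, by simp [mul_assoc]⟩

theorem cj_self {R : Subgroup S} {r : S} (h : r ∈ R) : cj R r = R := by
  ext x
  rw [mem_cj]
  exact ⟨fun hx => by simpa [mul_assoc] using R.mul_mem (R.mul_mem h hx) (R.inv_mem h), fun hx => R.mul_mem (R.mul_mem (R.inv_mem h) hx) h⟩

theorem cj_inv_eq {R : Subgroup S} {s : S} (h : cj R s = R) : cj R s⁻¹ = R := by
  ext x
  rw [mem_cj, inv_inv]
  constructor
  · intro hx
    have := mem_cj.1 (h.symm ▸ hx : s * x * s⁻¹ ∈ cj R s)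
    simpa [mul_assoc] using this
  · intro hx
    exact h ▸ (⟨x, hx, rfl⟩ : s * x * s⁻¹ ∈ cj R s)

/-- If `R` normalizes `T` then `T` normalizes `R`. -/
theorem one_sided {R T : Subgroup S} (hcard : Nat.card ↥R = Nat.card ↥T)
    (hR : ∀ t ∈ T, cj R t = R ∨ (Com R (cj R t) ∧ R ⊓ cj R t = ⊥)) (hN : ∀ r ∈ R, cj T r = T) :
    ∀ t ∈ T, cj R t = R := by
  intro t ht
  by_contra hne
  obtain ⟨hcom, htriv⟩ := (hR t ht).resolve_left hne
  have hconj : ∀ r ∈ R, t * r * t⁻¹ ∈ cj R t := fun r hr => ⟨r, hr, rfl⟩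
  let f : ↥R → ↥T := fun r => ⟨(r : S)⁻¹ * (t * r * t⁻¹), by
    have h := mem_cj.1 ((hN r r.2).symm ▸ ht : t ∈ cj T r)
    have := T.mul_mem h (T.inv_mem ht)
    simpa [mul_assoc] using this⟩
  have hinj : Function.Injective f := by
    intro a b h
    have h' : (a : S)⁻¹ * (t * a * t⁻¹) = (b : S)⁻¹ * (t * b * t⁻¹) := congrArg Subtype.val h
    have h2 : (b : S) * (a : S)⁻¹ = (t * b * t⁻¹) * (t * a * t⁻¹)⁻¹ := by
      calc (b : S) * (a : S)⁻¹ = b * ((a : S)⁻¹ * (t * a * t⁻¹)) * (t * a * t⁻¹)⁻¹ := by group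
        _ = b * ((b : S)⁻¹ * (t * b * t⁻¹)) * (t * a * t⁻¹)⁻¹ := by rw [h']
        _ = _ := by group
    have hm : (b : S) * (a : S)⁻¹ ∈ R ⊓ cj R t :=
      ⟨R.mul_mem b.2 (R.inv_mem a.2), h2 ▸ (cj R t).mul_mem (hconj b b.2) ((cj R t).inv_mem (hconj a a.2))⟩
    rw [htriv, Subgroup.mem_bot, mul_inv_eq_one] at hm
    exact Subtype.ext hm.symm
  obtain ⟨r0, hr0⟩ := ((Nat.bijective_iff_injective_and_card f).2 ⟨hinj, hcard⟩).2 ⟨t, ht⟩
  have ht' : (r0 : S)⁻¹ * (t * r0 * t⁻¹) = t := congrArg Subtype.val hr0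
  refine hne ?_
  ext x
  rw [mem_cj]
  set u := t * (r0 : S) * t⁻¹ with hu
  have hu' : u ∈ cj R t := hconj r0 r0.2
  have hkey : ∀ y ∈ R, t * y * t⁻¹ = (r0 : S)⁻¹ * y * r0 := by
    intro y hy
    rw [← ht']
    calc (r0 : S)⁻¹ * u * y * ((r0 : S)⁻¹ * u)⁻¹ = (r0 : S)⁻¹ * (u * y) * u⁻¹ * r0 := by group
      _ = (r0 : S)⁻¹ * (y * u) * u⁻¹ * r0 := by rw [hcom y hy u hu']
      _ = _ := by group
  constructor
  · intro hx
    have h := hkey _ hx
    rw [show t * (t⁻¹ * x * t) * t⁻¹ = x by group] at h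
    rw [h]; exact R.mul_mem (R.mul_mem (R.inv_mem r0.2) hx) r0.2
  · intro hx
    have h := hkey _ (R.mul_mem (R.mul_mem r0.2 hx) (R.inv_mem r0.2))
    rw [show (r0 : S)⁻¹ * (r0 * x * (r0 : S)⁻¹) * r0 = x by group] at h
    have e : t⁻¹ * x * t = (r0 : S) * x * (r0 : S)⁻¹ := by
      calc t⁻¹ * x * t = t⁻¹ * (t * ((r0 : S) * x * (r0 : S)⁻¹) * t⁻¹) * t := by rw [h]
        _ = _ := by group
    rw [e]
    exact R.mul_mem (R.mul_mem r0.2 hx) (R.inv_mem r0.2)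

theorem exists_sq_step (hS : IsPGroup 2 S) {R T : Subgroup S} {r : S} (hr : r ∈ R) (h : cj T r ≠ T) :
    ∃ r ∈ R, cj T r ≠ T ∧ cj T (r ^ 2) = T := by
  obtain ⟨k, hk⟩ := hS r
  induction k generalizing r with
  | zero => exact absurd (by rw [show r = 1 by simpa using hk]; ext x; simp [mem_cj]) h
  | succ k ih =>
    by_cases h2 : cj T (r ^ 2) = T
    · exact ⟨r, hr, h, h2⟩
    · exact ih (R.pow_mem hr 2) h2 (by rw [← pow_mul, ← pow_succ', hk])

theorem two_sided (hS : IsPGroup 2 S) {R T : Subgroup S} (hT4 : ∃ g ∈ T, g ^ 2 ≠ 1)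
    (hR : ∀ t ∈ T, cj R t = R ∨ (Com R (cj R t) ∧ R ⊓ cj R t = ⊥))
    (hT : ∀ r ∈ R, cj T r = T ∨ (Com T (cj T r) ∧ T ⊓ cj T r = ⊥)) :
    (∀ r ∈ R, cj T r = T) ∨ (∀ t ∈ T, cj R t = R) := by
  by_contra hno
  push Not at hno
  obtain ⟨⟨r0, hr0, hne0⟩, t, ht, hRt⟩ := hno
  obtain ⟨r, hr, hTr, hTr2⟩ := exists_sq_step hS hr0 hne0
  obtain ⟨hTc, hTi⟩ := (hT r hr).resolve_left hTr
  have hinv : ∀ t ∈ T, cj R t ≠ R → t ^ 2 = 1 := by
    intro t ht hRt
    obtain ⟨hRc, hRi⟩ := (hR t ht).resolve_left hRt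
    set c := (t⁻¹ * (r * t * r⁻¹)) with hc
    have h1 : t * r * t⁻¹ ∈ cj R t := ⟨r, hr, rfl⟩
    have h2 : r * t * r⁻¹ ∈ cj T r := ⟨t, ht, rfl⟩
    have hd : r * (t * r * t⁻¹) = t * r * t⁻¹ * r := hRc r hr _ h1
    have he : t * (r * t * r⁻¹) = r * t * r⁻¹ * t := hTc t ht _ h2
    -- `r` commutes with the commutator of `r` and `t`
    have h3 : (r * t * r⁻¹) * t⁻¹ * r = r * ((r * t * r⁻¹) * t⁻¹) := by
      calc (r * t * r⁻¹) * t⁻¹ * r = r * (t * r * t⁻¹)⁻¹ * r := by group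
        _ = r * ((t * r * t⁻¹)⁻¹ * r) := by group
        _ = r * (r * (t * r * t⁻¹)⁻¹) := by rw [show (t * r * t⁻¹)⁻¹ * r = r * (t * r * t⁻¹)⁻¹ from (Commute.inv_right (hd : Commute r _)).eq.symm]
        _ = r * ((r * t * r⁻¹) * t⁻¹) := by group
    set u := r * t * r⁻¹ with hu
    have h4 : r * u * r⁻¹ = u * (u * t⁻¹) := by
      calc r * u * r⁻¹ = (r * (u * t⁻¹)) * (t * r⁻¹) := by group
        _ = (u * t⁻¹ * r) * (t * r⁻¹) := by rw [h3]
        _ = u * t⁻¹ * u := by rw [hu]; group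
        _ = u * (u * t⁻¹) := by
          rw [mul_assoc, show t⁻¹ * u = u * t⁻¹ from (Commute.inv_left (he : Commute t u)).eq]
    have h5 : u * (u * t⁻¹) ∈ T := by
      rw [← h4, hu, show r * (r * t * r⁻¹) * r⁻¹ = r ^ 2 * t * (r ^ 2)⁻¹ by rw [pow_two]; group]
      exact hTr2 ▸ (⟨t, ht, rfl⟩ : r ^ 2 * t * (r ^ 2)⁻¹ ∈ cj T (r ^ 2))
    have h6 : u ^ 2 ∈ T ⊓ cj T r := ⟨by
      have := T.mul_mem h5 ht
      rwa [mul_assoc, inv_mul_cancel_right, ← pow_two] at this, (cj T r).pow_mem h2 2⟩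
    rw [hTi, Subgroup.mem_bot, hu, ← MulAut.conj_apply, ← map_pow, MulEquiv.map_eq_one_iff] at h6
    exact h6
  obtain ⟨g0, hg0, hg02⟩ := hT4
  obtain ⟨g, hg, hg2, hg4⟩ : ∃ g ∈ T, g ^ 2 ≠ 1 ∧ g ^ 4 = 1 := by
    obtain ⟨k, hk⟩ := hS g0
    induction k generalizing g0 with
    | zero => exact absurd (by rw [show g0 = 1 by simpa using hk]; simp) hg02
    | succ k ih =>
      by_cases h4 : (g0 ^ 2) ^ 2 = 1
      · exact ⟨g0, hg0, hg02, by rw [← h4, ← pow_mul]⟩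
      · exact ih _ (T.pow_mem hg0 2) h4 (by rw [← pow_mul, ← pow_succ', hk])
  have hgR : cj R g = R := by_contra fun h => hg2 (hinv g hg h)
  obtain ⟨hRc, hRi⟩ := (hR t ht).resolve_left hRt
  have ht2 : t * t = 1 := by rw [← pow_two]; exact hinv t ht hRt
  have htg : (t * g) * (t * g) = 1 := by
    rw [← pow_two]
    refine hinv _ (T.mul_mem ht hg) fun h => hRt ?_
    have h' : cj R (t * g) = cj (cj R g) t := by ext y; rw [mem_cj, mem_cj, mem_cj]; group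
    rw [hgR, h] at h'
    exact h'.symm
  set v := r * g * r⁻¹ with hv
  have hv' : v ∈ cj T r := ⟨g, hg, rfl⟩
  have htv : t * v = v * t := hTc t ht v hv'
  have hgv : g * v = v * g := hTc g hg v hv'
  have hcR : v * g⁻¹ ∈ R := by
    have h1 : g * r⁻¹ * g⁻¹ ∈ R := hgR ▸ (⟨r⁻¹, R.inv_mem hr, rfl⟩ : g * r⁻¹ * g⁻¹ ∈ cj R g)
    rw [show v * g⁻¹ = r * (g * r⁻¹ * g⁻¹) by rw [hv]; group]
    exact R.mul_mem hr h1
  have hct : t * (v * g⁻¹) * t⁻¹ = v * g := by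
    have hgi : t * g⁻¹ * t⁻¹ = g := by
      have h1 : t * g * t = g⁻¹ := eq_inv_of_mul_eq_one_left (by rw [← htg]; group)
      have h2 := congrArg Inv.inv h1
      rw [inv_inv, mul_inv_rev, mul_inv_rev, inv_eq_of_mul_eq_one_left ht2] at h2
      rw [inv_eq_of_mul_eq_one_left ht2, mul_assoc, h2]
    calc t * (v * g⁻¹) * t⁻¹ = (t * v) * t⁻¹ * (t * g⁻¹ * t⁻¹) := by group
      _ = v * g := by rw [htv, hgi, mul_inv_cancel_right]
  have hvg : v * g ∈ cj R t := hct ▸ ⟨_, hcR, rfl⟩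
  have hgv' : Commute v g := hgv.symm
  have hsq : (v * g⁻¹) ^ 2 = (v * g) ^ 2 := by
    rw [hgv'.mul_pow, hgv'.inv_right.mul_pow, inv_pow, inv_eq_of_mul_eq_one_left (by rw [← pow_add, hg4])]
  have h7 : (v * g⁻¹) ^ 2 ∈ R ⊓ cj R t := ⟨R.pow_mem hcR 2, hsq ▸ (cj R t).pow_mem hvg 2⟩
  rw [hRi, Subgroup.mem_bot, hgv'.inv_right.mul_pow, inv_pow, mul_inv_eq_one] at h7
  have h8 : g ^ 2 ∈ T ⊓ cj T r := ⟨T.pow_mem hg 2, h7 ▸ (cj T r).pow_mem hv' 2⟩
  rw [hTi, Subgroup.mem_bot] at h8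
  exact hg2 h8

theorem exists_sq_ne (hS : IsPGroup 2 S) {R : Subgroup S} (hΦ : frattini ↥R ≠ ⊥) : ∃ g ∈ R, g ^ 2 ≠ 1 := by
  by_contra hno
  push Not at hno
  refine hΦ (Subgroup.eq_bot_iff_forall _ |>.2 fun x hx => ?_)
  by_contra hx1
  have hsq : ∀ y : ↥R, y * y = 1 := fun y => by rw [← pow_two]; exact Subtype.ext (hno y y.2)
  have hinv : ∀ y : ↥R, y⁻¹ = y := fun y => inv_eq_of_mul_eq_one_left (hsq y)
  have hcm : ∀ a b : ↥R, a * b = b * a := fun a b => by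
    rw [← hinv (a * b), mul_inv_rev, hinv, hinv]
  -- a complement of `x` maximal among subgroups avoiding it
  obtain ⟨M, -, hM⟩ := Finite.exists_le_maximal (p := fun M : Subgroup ↥R => x ∉ M)
    (show x ∉ (⊥ : Subgroup ↥R) from fun h => hx1 (Subgroup.mem_bot.1 h))
  have hcoatom : IsCoatom M := by
    refine ⟨fun h => hM.1 (h ▸ Subgroup.mem_top x), fun N hN => ?_⟩
    have hxN : x ∈ N := by_contra fun h => hN.not_ge (hM.2 h hN.le)
    refine (Subgroup.eq_top_iff' _).2 fun y => ?_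
    by_cases hy : y ∈ M
    · exact hN.le hy
    have hle : M ≤ M ⊔ Subgroup.zpowers y := le_sup_left
    have hxy : x ∈ M ⊔ Subgroup.zpowers y := by_contra fun h => hy (hM.2 h hle (Subgroup.mem_sup_right (Subgroup.mem_zpowers y)))
    haveI : (Subgroup.zpowers y).Normal := ⟨fun a ha b => by rw [hcm b a, mul_inv_cancel_right]; exact ha⟩
    rw [Subgroup.mem_sup_of_normal_right] at hxy
    obtain ⟨m, hm, z, ⟨i, rfl⟩, hmz⟩ := hxy
    rcases Int.even_or_odd i with ⟨j, rfl⟩ | ⟨j, rfl⟩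
    · exfalso
      apply hM.1
      have : y ^ (j + j) = 1 := by rw [zpow_add, ← (Commute.refl y).mul_zpow, hsq, one_zpow]
      simp only [this, mul_one] at hmz
      exact hmz ▸ hm
    · have : y ^ (2 * j + 1) = y := by rw [zpow_add_one, zpow_mul, zpow_two, hsq, one_zpow, one_mul]
      simp only [this] at hmz
      have h := N.mul_mem (N.inv_mem (hN.le hm)) hxN
      rwa [← hmz, inv_mul_cancel_left] at h
  exact hM.1 ((frattini_le_coatom hcoatom) hx)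


/-- Let S be a finite 2-group and Δ a set of subgroups of S closed under conjugation by S, all of the same order, each with nontrivial Frattini subgroup, and such that two distinct members of Δ meet trivially. Then any two distinct members of Δ commute elementwise. -/
theorem result {S : Type*} [Group S] [Finite S] (hS : IsPGroup 2 S)
    (Δ : Set (Subgroup S)) (hinv : ∀ s : S, ∀ R ∈ Δ, R.map (MulAut.conj s).toMonoidHom ∈ Δ)
    (hΦ : ∀ R ∈ Δ, frattini ↥R ≠ ⊥) (hord : ∀ R ∈ Δ, ∀ T ∈ Δ, Nat.card ↥R = Nat.card ↥T)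
    (hti : ∀ R ∈ Δ, ∀ T ∈ Δ, R = T ∨ R ⊓ T = ⊥) :
    ∀ R ∈ Δ, ∀ T ∈ Δ, R ≠ T → ⁅R, T⁆ = ⊥ := by
  suffices h : ∀ n, ∀ U : Subgroup S, Nat.card ↥U = n → ∀ R ∈ Δ, ∀ T ∈ Δ, R ≤ U → T ≤ U → R ≠ T → Com R T by
    intro R hR T hT hne
    rw [Subgroup.commutator_eq_bot_iff_le_centralizer]
    intro x hx
    rw [Subgroup.mem_centralizer_iff]
    exact fun y hy => (h _ ⊤ rfl R hR T hT le_top le_top hne x hx y hy).symm
  intro n
  induction n using Nat.strong_induction_on with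
  | _ n ih =>
    intro U hU R hR T hT hRU hTU hne
    by_cases hlt : R ⊔ T < U
    · refine ih _ ?_ (R ⊔ T) rfl R hR T hT le_sup_left le_sup_right hne
      rw [← hU]
      refine lt_of_le_of_ne (Nat.le_of_dvd Nat.card_pos (Subgroup.card_dvd_of_le hlt.le)) fun h => hlt.ne ?_
      exact Subgroup.eq_of_le_of_card_ge hlt.le h.ge
    have hUeq : R ⊔ T = U := eq_of_le_of_not_lt (sup_le hRU hTU) hlt
    have key : ∀ R ∈ Δ, ∀ T ∈ Δ, R ≤ U → T ≤ U → R ≠ T → ∀ s ∈ U, cj R s = R ∨ (Com R (cj R s) ∧ R ⊓ cj R s = ⊥) := by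
      intro R hR T hT hRU hTU hne s hs
      rcases eq_or_ne (cj R s) R with h | h
      · exact Or.inl h
      have hRtop : R.subgroupOf U ≠ ⊤ := fun h' => by
        rw [Subgroup.subgroupOf_eq_top] at h'
        rcases hti R hR T hT with h1 | h1
        · exact hne h1
        · obtain ⟨g, hg, hg2⟩ := exists_sq_ne hS (hΦ T hT)
          have hb : g ∈ R ⊓ T := ⟨h' (hTU hg), hg⟩
          rw [h1, Subgroup.mem_bot] at hb
          exact hg2 (by simp [hb])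
      obtain ⟨M, hM, hle⟩ := (eq_top_or_exists_le_coatom (R.subgroupOf U)).resolve_left hRtop
      haveI := Fact.mk Nat.prime_two
      haveI : M.Normal := Subgroup.NormalizerCondition.normal_of_coatom M
        (@normalizerCondition_of_isNilpotent _ _ ((hS.to_subgroup U).isNilpotent)) hM
      have hRM : R ≤ M.map U.subtype := fun x hx => ⟨⟨x, hRU hx⟩, hle (Subgroup.mem_subgroupOf.2 hx), rfl⟩
      have hcM : cj R s ≤ M.map U.subtype := by
        rintro _ ⟨x, hx, rfl⟩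
        exact ⟨⟨s, hs⟩ * ⟨x, hRU hx⟩ * ⟨s, hs⟩⁻¹,
          (inferInstance : M.Normal).conj_mem _ (hle (Subgroup.mem_subgroupOf.2 hx)) _, rfl⟩
      refine Or.inr ⟨ih _ ?_ (M.map U.subtype) rfl R hR (cj R s) (hinv s R hR) hRM hcM (Ne.symm h),
        (hti R hR _ (hinv s R hR)).resolve_left (Ne.symm h)⟩
      rw [Subgroup.card_map_of_injective U.subtype_injective, ← hU]
      refine lt_of_le_of_ne (Nat.le_of_dvd Nat.card_pos M.card_subgroup_dvd_card) fun h' => hM.1 ?_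
      exact Subgroup.eq_top_of_card_eq _ h'
    have hRs : ∀ t ∈ T, cj R t = R ∨ (Com R (cj R t) ∧ R ⊓ cj R t = ⊥) := fun t ht => key R hR T hT hRU hTU hne t (hTU ht)
    have hTs : ∀ r ∈ R, cj T r = T ∨ (Com T (cj T r) ∧ T ⊓ cj T r = ⊥) := fun r hr => key T hT R hR hTU hRU hne.symm r (hRU hr)
    have hboth : (∀ r ∈ R, cj T r = T) ∧ (∀ t ∈ T, cj R t = R) := by
      rcases two_sided hS (exists_sq_ne hS (hΦ T hT)) hRs hTs with h | h
      · exact ⟨h, one_sided (hord R hR T hT) hRs h⟩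
      · exact ⟨one_sided (hord T hT R hR) hTs h, h⟩
    have hbot := (hti R hR T hT).resolve_left hne
    intro x hx y hy
    have hm : x * y * x⁻¹ * y⁻¹ ∈ R ⊓ T := by
      refine ⟨?_, T.mul_mem (hboth.1 x hx ▸ (⟨y, hy, rfl⟩ : x * y * x⁻¹ ∈ cj T x)) (T.inv_mem hy)⟩
      have h1 : y * x⁻¹ * y⁻¹ ∈ cj R y := ⟨x⁻¹, R.inv_mem hx, rfl⟩
      rw [hboth.2 y hy] at h1
      have := R.mul_mem hx h1
      simpa [mul_assoc] using this
    rw [hbot, Subgroup.mem_bot] at hm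
    rwa [mul_inv_eq_one, mul_inv_eq_iff_eq_mul] at hm

end Cfsg.Agent.S1782
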