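import Cfsg.Statements.S1783
import Mathlib
import Cfsg.Agent.S1782
import Cfsg.Agent.Lib.PGroup.Basic
import Cfsg.Agent.Lib.Coprime.Action
import Cfsg.Agent.Lib.Core.Layer
import Cfsg.Agent.Lib.CharTwoIn

set_option autoImplicit false
open Cfsg

namespace Cfsg.Agent.S1783


open Subgroup
open scoped commutatorElement

variable {X : Type*} [Group X] [Finite X]

/-- Conjugates of a TI subgroup with nontrivial Frattini subgroup inside a 2-group commute. -/
theorem conj_commute {S A : Subgroup X} (hS : IsPGroup 2 ↥S) (hAa : IsMulCommutative ↥A)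
    (hsq : ∃ a ∈ A, a ^ 2 ≠ 1)
    (hti : ∀ h : X, A.map (MulAut.conj h).toMonoidHom = A ∨ A.map (MulAut.conj h).toMonoidHom ⊓ A = ⊥)
    {g h : X} (hg : A.map (MulAut.conj g).toMonoidHom ≤ S) (hh : A.map (MulAut.conj h).toMonoidHom ≤ S) :
    ∀ u ∈ A.map (MulAut.conj g).toMonoidHom, ∀ v ∈ A.map (MulAut.conj h).toMonoidHom, u * v = v * u := by
  set Δ : Set (Subgroup ↥S) := {T | ∃ k : X, A.map (MulAut.conj k).toMonoidHom ≤ S ∧
    T = (A.map (MulAut.conj k).toMonoidHom).subgroupOf S} with hΔ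
  have hinv : ∀ s : ↥S, ∀ R ∈ Δ, R.map (MulAut.conj s).toMonoidHom ∈ Δ := by
    rintro s _ ⟨k, hk, rfl⟩
    refine ⟨(s : X) * k, ?_, ?_⟩
    · rintro _ ⟨a, ha, rfl⟩
      have h1 : k * a * k⁻¹ ∈ S := hk ⟨a, ha, rfl⟩
      have := S.mul_mem (S.mul_mem s.2 h1) (S.inv_mem s.2)
      simpa [mul_assoc] using this
    · ext u
      rw [mem_subgroupOf]
      constructor
      · rintro ⟨w, hw, rfl⟩
        obtain ⟨a, ha, hw'⟩ := mem_subgroupOf.1 hw
        refine ⟨a, ha, ?_⟩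
        show (s : X) * k * a * ((s : X) * k)⁻¹ = (s : X) * w * (s : X)⁻¹
        rw [← hw']; show _ = (s : X) * (k * a * k⁻¹) * (s : X)⁻¹; group
      · rintro ⟨a, ha, hu⟩
        have hu' : (s : X) * k * a * ((s : X) * k)⁻¹ = u := hu
        refine ⟨⟨k * a * k⁻¹, hk ⟨a, ha, rfl⟩⟩, mem_subgroupOf.2 ⟨a, ha, rfl⟩, Subtype.ext ?_⟩
        show (s : X) * (k * a * k⁻¹) * (s : X)⁻¹ = u
        rw [← hu']; group
  have hΦ : ∀ R ∈ Δ, frattini ↥R ≠ ⊥ := by
    rintro _ ⟨k, hk, rfl⟩ hbot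
    obtain ⟨a, ha, ha2⟩ := hsq
    set T := (A.map (MulAut.conj k).toMonoidHom).subgroupOf S
    let u : ↥T := ⟨⟨k * a * k⁻¹, hk ⟨a, ha, rfl⟩⟩, mem_subgroupOf.2 ⟨a, ha, rfl⟩⟩
    have := Fact.mk Nat.prime_two
    have h1 := Cfsg.Lib.PGroup.pow_mem_frattini (hS.to_subgroup T) u
    rw [hbot, mem_bot] at h1
    have h2 : (k * a * k⁻¹) ^ 2 = 1 := congrArg (fun w : ↥T => ((w : ↥S) : X)) h1
    rw [conj_pow, conj_eq_one_iff] at h2
    exact ha2 h2
  have hord : ∀ R ∈ Δ, ∀ T ∈ Δ, Nat.card ↥R = Nat.card ↥T := by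
    rintro _ ⟨k, hk, rfl⟩ _ ⟨l, hl, rfl⟩
    rw [Nat.card_congr (subgroupOfEquivOfLe hk).toEquiv, Nat.card_congr (subgroupOfEquivOfLe hl).toEquiv,
      card_map_of_injective (MulAut.conj k).injective, card_map_of_injective (MulAut.conj l).injective]
  have hti' : ∀ R ∈ Δ, ∀ T ∈ Δ, R = T ∨ R ⊓ T = ⊥ := by
    rintro _ ⟨k, hk, rfl⟩ _ ⟨l, hl, rfl⟩
    rcases hti (l⁻¹ * k) with e | e
    · left
      congr 1
      calc A.map (MulAut.conj k).toMonoidHom = (A.map (MulAut.conj (l⁻¹ * k)).toMonoidHom).map (MulAut.conj l).toMonoidHom := by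
            rw [map_map]; congr 1; ext x; simp [mul_assoc]
        _ = _ := by rw [e]
    · right
      rw [eq_bot_iff_forall]
      rintro u ⟨hu1, hu2⟩
      obtain ⟨a, ha, hua⟩ := mem_subgroupOf.1 hu1
      obtain ⟨b, hb, hub⟩ := mem_subgroupOf.1 hu2
      have hua' : k * a * k⁻¹ = (u : X) := hua
      have hub' : l * b * l⁻¹ = (u : X) := hub
      have : b ∈ A.map (MulAut.conj (l⁻¹ * k)).toMonoidHom ⊓ A := ⟨⟨a, ha, by
        show l⁻¹ * k * a * (l⁻¹ * k)⁻¹ = b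
        calc l⁻¹ * k * a * (l⁻¹ * k)⁻¹ = l⁻¹ * (k * a * k⁻¹) * l := by group
          _ = l⁻¹ * (l * b * l⁻¹) * l := by rw [hua', hub']
          _ = b := by group⟩, hb⟩
      rw [e, mem_bot] at this
      refine Subtype.ext ?_
      rw [← hub', this, mul_one, mul_inv_cancel]; rfl
  have key := Cfsg.Agent.S1782.result hS Δ hinv hΦ hord hti'
  intro u hu v hv
  by_cases heq : (A.map (MulAut.conj g).toMonoidHom).subgroupOf S = (A.map (MulAut.conj h).toMonoidHom).subgroupOf S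
  · have hu' : (⟨u, hg hu⟩ : ↥S) ∈ (A.map (MulAut.conj h).toMonoidHom).subgroupOf S := heq ▸ mem_subgroupOf.2 hu
    exact congrArg Subtype.val (mul_comm' (⟨u, mem_subgroupOf.1 hu'⟩ : ↥(A.map (MulAut.conj h).toMonoidHom)) ⟨v, hv⟩)
  · have h1 := key _ ⟨g, hg, rfl⟩ _ ⟨h, hh, rfl⟩ heq
    exact congrArg Subtype.val (commutatorElement_eq_one_iff_mul_comm.1 ((eq_bot_iff_forall _).1 h1 _
      (commutator_mem_commutator (mem_subgroupOf.2 hu : (⟨u, hg hu⟩ : ↥S) ∈ _) (mem_subgroupOf.2 hv : (⟨v, hh hv⟩ : ↥S) ∈ _))))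

theorem map_conj_one (A : Subgroup X) : A.map (MulAut.conj (1 : X)).toMonoidHom = A := by
  rw [map_one]; exact map_id A


/-- Let X be a finite group whose generalized Fitting subgroup equals its largest normal 2-subgroup Q, and let A be an abelian 2-subgroup of X such that every conjugate of A equals A or meets A trivially. Let B be the subgroup generated by the squares of the elements of A. Then B lies in Q, and if B is not an elementary abelian 2-group then the normal closure of B in X is commutative. -/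
theorem result {X : Type*} [Group X] [Finite X]
    (hX : Cfsg.generalizedFittingSubgroup X = Cfsg.pCore 2 X) (A : Subgroup X) (hA2 : IsPGroup 2 ↥A) (hAa : IsMulCommutative ↥A)
    (hti : ∀ h : X, A.map (MulAut.conj h).toMonoidHom = A ∨ A.map (MulAut.conj h).toMonoidHom ⊓ A = ⊥) :
    Subgroup.closure ((fun a : X => a ^ 2) '' (A : Set X)) ≤ Cfsg.pCore 2 X ∧
      (¬ Cfsg.IsElementaryAbelian 2 (Subgroup.closure ((fun a : X => a ^ 2) '' (A : Set X))) →
        IsMulCommutative ↥(Subgroup.normalClosure ((fun a : X => a ^ 2) '' (A : Set X)))) := by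
  classical
  have := Fact.mk Nat.prime_two
  set Q := Cfsg.pCore 2 X with hQ
  have hQp : IsPGroup 2 ↥Q := Cfsg.Lib.Core.pCore_isPGroup 2 X
  have hself : centralizer (Q : Set X) ≤ Q := hX ▸ Cfsg.Lib.Core.centralizer_generalizedFitting_le
  have hQn : ∀ S : Subgroup X, S ≤ normalizer (Q : Set X) := fun S => by
    rw [normalizer_eq_top_iff.2 inferInstance]; exact le_top
  set Φ := (frattini ↥Q).map Q.subtype with hΦdef
  haveI hΦn : Φ.Normal := normalizer_eq_top_iff.1 (top_le_iff.1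
    ((hQn ⊤).trans (Cfsg.Lib.Core.normalizer_le_normalizer_map_char (H := Q) (frattini ↥Q))))
  set π := QuotientGroup.mk' Φ with hπ
  haveI : (Q.map π).Normal := (inferInstance : Q.Normal).map π (QuotientGroup.mk'_surjective _)
  set K := (centralizer ((Q.map π : Subgroup (X ⧸ Φ)) : Set (X ⧸ Φ))).comap π with hK
  haveI hKn : K.Normal := by
    have : (centralizer ((Q.map π : Subgroup (X ⧸ Φ)) : Set (X ⧸ Φ))).Normal := normalizer_eq_top_iff.1 (top_le_iff.1
      (le_trans (by rw [normalizer_eq_top_iff.2 (inferInstance : (Q.map π).Normal)]) (Cfsg.Lib.CharTwoIn.normalizer_le_normalizer_centralizer' _)))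
    exact this.comap π
  have hKp : IsPGroup 2 ↥K := by
    intro y
    obtain ⟨k, m, hm, hym⟩ := Nat.exists_eq_two_pow_mul_odd (orderOf_pos (y : X)).ne'
    refine ⟨k, Subtype.ext ?_⟩
    rw [SubmonoidClass.coe_pow, OneMemClass.coe_one]
    set w := (y : X) ^ 2 ^ k with hw
    have hwo : orderOf w ∣ m := orderOf_dvd_of_pow_eq_one (by rw [hw, ← pow_mul, ← hym, pow_orderOf_eq_one])
    have hcop : (Nat.card ↥(zpowers w)).Coprime (Nat.card ↥Q) := by
      obtain ⟨j, hj⟩ := hQp.exists_card_eq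
      rw [hj, Nat.card_zpowers]
      exact (Nat.coprime_two_right.2 (hm.of_dvd_nat hwo)).pow_right j
    have hwK : w ∈ K := pow_mem y.2 _
    have hle := Cfsg.Lib.Coprime.le_centralizer_of_commutator_le_frattini (hQn _) hcop (Or.inl inferInstance) (by
      refine commutator_le.2 fun q hq u hu => ?_
      have huK : u ∈ K := (zpowers_le.2 hwK) hu
      refine (QuotientGroup.eq_one_iff _).1 ?_
      show π ⁅q, u⁆ = 1
      rw [map_commutatorElement, commutatorElement_eq_one_iff_mul_comm]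
      exact mem_centralizer_iff.1 huK _ ⟨q, hq, rfl⟩)
    obtain ⟨j, hj⟩ := IsPGroup.iff_orderOf.1 hQp ⟨w, hself (hle (mem_zpowers w))⟩
    rw [Subgroup.orderOf_mk] at hj
    exact orderOf_eq_one_iff.1 (Nat.eq_one_of_dvd_coprimes ((Nat.coprime_two_right.2 hm).pow_right j) hwo hj.dvd)
  have hKQ : K ≤ Q := Cfsg.Lib.Core.le_pCore' hKn hKp
  set B := closure ((fun a : X => a ^ 2) '' (A : Set X)) with hB
  have hA1 := map_conj_one A
  have hsqQ : ∀ a ∈ A, a ^ 2 ∈ Q := by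
    intro a ha
    by_cases hsq : ∀ b ∈ A, b ^ 2 = 1
    · rw [hsq a ha]; exact Q.one_mem
    push Not at hsq
    apply hKQ
    show π (a ^ 2) ∈ centralizer _
    rw [mem_centralizer_iff]
    rintro _ ⟨q, hq, rfl⟩
    rw [← map_mul, ← map_mul]
    set S := Q ⊔ A with hS
    have hSp : IsPGroup 2 ↥S := hQp.to_sup_of_normal_left hA2
    have hqS : A.map (MulAut.conj q).toMonoidHom ≤ S := by
      rintro _ ⟨b, hb, rfl⟩
      exact S.mul_mem (S.mul_mem (mem_sup_left hq) (mem_sup_right hb)) (S.inv_mem (mem_sup_left hq))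
    have hcm : a * (q * a⁻¹ * q⁻¹) = q * a⁻¹ * q⁻¹ * a :=
      conj_commute hSp hAa hsq hti (g := 1) (h := q) (by rw [hA1]; exact le_sup_right) hqS a (by rw [hA1]; exact ha)
        _ ⟨a⁻¹, A.inv_mem ha, rfl⟩
    have hcQ : a * q * a⁻¹ * q⁻¹ ∈ Q := Q.mul_mem ((inferInstance : Q.Normal).conj_mem q hq a) (Q.inv_mem hq)
    have hphi : (a * q * a⁻¹ * q⁻¹) ^ 2 ∈ Φ :=
      ⟨⟨_, hcQ⟩ ^ 2, Cfsg.Lib.PGroup.pow_mem_frattini hQp _, rfl⟩
    have e2 : a ^ 2 * q * (a ^ 2)⁻¹ * q⁻¹ = (a * q * a⁻¹ * q⁻¹) ^ 2 := by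
      have e1 : a * q * a⁻¹ * q⁻¹ = a * (q * a⁻¹ * q⁻¹) := by group
      rw [e1, (show Commute a (q * a⁻¹ * q⁻¹) from hcm).mul_pow, conj_pow, inv_pow]
      group
    rw [hπ, QuotientGroup.mk'_apply, QuotientGroup.mk'_apply, QuotientGroup.eq]
    have h3 : a ^ 2 * q * (a ^ 2)⁻¹ * q⁻¹ ∈ Φ := e2 ▸ hphi
    have h4 := hΦn.conj_mem _ h3 ((a ^ 2)⁻¹ * q⁻¹)
    convert h4 using 1
    group
  have hBQ : B ≤ Q := (closure_le Q).2 (by rintro _ ⟨a, ha, rfl⟩; exact hsqQ a ha)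
  refine ⟨hBQ, fun hnel => ?_⟩
  have hBA : B ≤ A := (closure_le A).2 (by rintro _ ⟨a, ha, rfl⟩; exact A.pow_mem ha 2)
  haveI hBa : IsMulCommutative ↥B := ⟨⟨fun u v => by
    have e := congrArg Subtype.val (mul_comm' (⟨u, hBA u.2⟩ : ↥A) ⟨v, hBA v.2⟩)
    exact Subtype.ext e⟩⟩
  have hsqB : ∃ b ∈ B, b ^ 2 ≠ 1 := by
    by_contra hno
    push Not at hno
    exact hnel ⟨hBa, hno⟩
  have htiB : ∀ h : X, B.map (MulAut.conj h).toMonoidHom = B ∨ B.map (MulAut.conj h).toMonoidHom ⊓ B = ⊥ := by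
    intro h
    rcases hti h with e | e
    · left
      rw [hB, MonoidHom.map_closure]
      congr 1
      ext u
      constructor
      · rintro ⟨_, ⟨a, ha, rfl⟩, rfl⟩
        have hm : h * a * h⁻¹ ∈ A := e ▸ (⟨a, ha, rfl⟩ : h * a * h⁻¹ ∈ A.map (MulAut.conj h).toMonoidHom)
        exact ⟨_, hm, conj_pow⟩
      · rintro ⟨a, ha, rfl⟩
        obtain ⟨a', ha', hh⟩ := (e.symm ▸ ha : a ∈ A.map (MulAut.conj h).toMonoidHom)
        refine ⟨a' ^ 2, ⟨a', ha', rfl⟩, ?_⟩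
        rw [map_pow, hh]
    · exact Or.inr (le_bot_iff.1 (e ▸ inf_le_inf (map_mono hBA) hBA))
  have hconjQ : ∀ g : X, B.map (MulAut.conj g).toMonoidHom ≤ Q := by
    rintro g _ ⟨b, hb, rfl⟩
    exact (inferInstance : Q.Normal).conj_mem b (hBQ hb) g
  set N := normalClosure ((fun a : X => a ^ 2) '' (A : Set X)) with hN
  have hgen : ∀ u ∈ Group.conjugatesOfSet ((fun a : X => a ^ 2) '' (A : Set X)), ∃ g : X, u ∈ B.map (MulAut.conj g).toMonoidHom := by
    intro u hu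
    rw [Group.mem_conjugatesOfSet_iff] at hu
    obtain ⟨v, hv, hc⟩ := hu
    obtain ⟨g, rfl⟩ := isConj_iff.1 hc
    exact ⟨g, v, subset_closure hv, rfl⟩
  refine ⟨⟨fun u v => Subtype.ext ?_⟩⟩
  have hle : N ≤ centralizer (N : Set X) := by
    rw [hN, normalClosure, centralizer_closure, closure_le]
    intro u hu
    rw [SetLike.mem_coe, mem_centralizer_iff]
    intro v hv
    obtain ⟨g, hg⟩ := hgen u hu
    obtain ⟨h, hh⟩ := hgen v hv
    exact conj_commute hQp hBa hsqB htiB (hconjQ h) (hconjQ g) v hh u hg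
  exact mem_centralizer_iff.1 (hle v.2) u u.2

end Cfsg.Agent.S1783
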