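import Cfsg.Statements.S1784
import Mathlib
import Cfsg.Agent.Lib.Core.Layer

set_option autoImplicit false
open Cfsg

namespace Cfsg.Agent.S1784


variable {G : Type*} [Group G] [Finite G]

structure XS (Q : Subgroup G) (z : G) : Prop where
  mem : z ∈ Q
  sq : z * z = 1
  comm : ∀ a ∈ Q, ∀ b ∈ Q, a * b * a⁻¹ * b⁻¹ = 1 ∨ a * b * a⁻¹ * b⁻¹ = z
  central : ∀ a ∈ Q, a * z = z * a
  center : ∀ u ∈ Q, (∀ a ∈ Q, a * u = u * a) → u = 1 ∨ u = z

abbrev cent (Q K : Subgroup G) : Subgroup G := Q ⊓ Subgroup.centralizer (K : Set G)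

variable {Q : Subgroup G} {z : G}

theorem XS.sq_mem (S : XS Q z) {a : G} (ha : a ∈ Q) : a * a = 1 ∨ a * a = z := by
  refine S.center _ (Q.mul_mem ha ha) fun b hb => ?_
  rcases S.comm a ha b hb with h | h
  · rw [mul_inv_eq_one, mul_inv_eq_iff_eq_mul] at h
    calc b * (a * a) = b * a * a := by group
      _ = a * b * a := by rw [h]
      _ = a * (b * a) := by group
      _ = a * (a * b) := by rw [h]
      _ = a * a * b := by group
  · have e : a * b = z * b * a := by rw [← h]; group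
    have e' : b * a = z * (a * b) := by rw [e, mul_assoc z b a, ← mul_assoc z z, S.sq, one_mul]
    calc b * (a * a) = b * a * a := by group
      _ = z * (a * b) * a := by rw [e']
      _ = z * a * (b * a) := by group
      _ = z * (a * z) * (a * b) := by rw [e']; group
      _ = (z * z) * (a * a * b) := by rw [S.central a ha]; group
      _ = a * a * b := by rw [S.sq, one_mul]

/-- Adjoining one element at most halves the centralizer. -/
theorem XS.step (S : XS Q z) {K : Subgroup G} (hK : K ≤ Q) (hz : z ∈ K) {x : G} (hx : x ∈ Q) (hxK : x ∉ K) :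
    ∃ K' : Subgroup G, K ≤ K' ∧ x ∈ K' ∧ Nat.card ↥K' = 2 * Nat.card ↥K ∧ (∀ L : Subgroup G, K ≤ L → x ∈ L → K' ≤ L) ∧
      Nat.card ↥(cent Q K) ≤ 2 * Nat.card ↥(cent Q K') := by
  have hconj : ∀ k ∈ K, x * k * x⁻¹ ∈ K := by
    intro k hk
    rcases S.comm x hx k (hK hk) with h | h
    · rw [mul_inv_eq_one] at h; rw [h]; exact hk
    · rw [mul_inv_eq_iff_eq_mul] at h; rw [h]; exact K.mul_mem hz hk
  have hxx : x * x ∈ K := by
    rcases S.sq_mem hx with h | h <;> rw [h]
    · exact K.one_mem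
    · exact hz
  let K' : Subgroup G :=
    { carrier := {y | y ∈ K ∨ y * x ∈ K}
      one_mem' := Or.inl K.one_mem
      mul_mem' := fun {u v} hu hv => by
        rcases hu with hu | hu <;> rcases hv with hv | hv
        · exact Or.inl (K.mul_mem hu hv)
        · exact Or.inr (by rw [mul_assoc]; exact K.mul_mem hu hv)
        · refine Or.inr ?_
          have h1 : x⁻¹ * v * x ∈ K := by
            have := K.mul_mem (K.mul_mem (K.inv_mem hxx) (hconj v hv)) hxx
            rwa [show (x * x)⁻¹ * (x * v * x⁻¹) * (x * x) = x⁻¹ * v * x by group] at this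
          rw [show u * v * x = (u * x) * (x⁻¹ * v * x) by group]
          exact K.mul_mem hu h1
        · refine Or.inl ?_
          rw [show u * v = (u * x) * (x * x)⁻¹ * (x * (v * x) * x⁻¹) by group]
          exact K.mul_mem (K.mul_mem hu (K.inv_mem hxx)) (hconj _ hv)
      inv_mem' := fun {u} hu => by
        rcases hu with hu | hu
        · exact Or.inl (K.inv_mem hu)
        · refine Or.inr ?_
          rw [show u⁻¹ * x = x * (u * x)⁻¹ * x⁻¹ * (x * x) by group]
          exact K.mul_mem (hconj _ (K.inv_mem hu)) hxx }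
  have hxK' : x ∈ K' := Or.inr hxx
  refine ⟨K', fun k hk => Or.inl hk, hxK', ?_, ?_, ?_⟩
  · have hidx : (K.subgroupOf K').index = 2 := by
      rw [Subgroup.index_eq_two_iff]
      refine ⟨⟨x, hxK'⟩, fun y => ?_⟩
      rw [Subgroup.mem_subgroupOf, Subgroup.mem_subgroupOf]
      rcases (y.2 : (y : G) ∈ K ∨ (y : G) * x ∈ K) with h | h
      · refine Or.inr ⟨h, fun h' => hxK ?_⟩
        have h'' : (y : G) * x ∈ K := h'
        have := K.mul_mem (K.inv_mem h) h''
        rwa [inv_mul_cancel_left] at this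
      · refine Or.inl ⟨h, fun h' => hxK ?_⟩
        have := K.mul_mem (K.inv_mem h') h
        rwa [inv_mul_cancel_left] at this
    have h := Subgroup.card_mul_index (K.subgroupOf K')
    rw [hidx, Nat.card_congr (Subgroup.subgroupOfEquivOfLe (fun k hk => (Or.inl hk : k ∈ K'))).toEquiv] at h
    omega
  · intro L hKL hxL y hy
    rcases hy with hy | hy
    · exact hKL hy
    · have := L.mul_mem (hKL hy) (L.inv_mem hxL)
      rwa [mul_inv_cancel_right] at this
  · set C := cent Q K
    set C' := cent Q K'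
    have hle : C' ≤ C := fun u hu => ⟨hu.1, Subgroup.mem_centralizer_iff.2 fun k hk =>
      Subgroup.mem_centralizer_iff.1 hu.2 k (Or.inl hk)⟩
    by_cases heq : C' = C
    · rw [heq]; omega
    obtain ⟨c0, hc0, hc0'⟩ := SetLike.not_le_iff_exists.1 (fun h => heq (le_antisymm hle h))
    have hmem : ∀ c ∈ C, c * x = x * c → c ∈ C' := by
      intro c hc hcx
      refine ⟨hc.1, Subgroup.mem_centralizer_iff.2 fun y hy => ?_⟩
      have hcK := Subgroup.mem_centralizer_iff.1 hc.2
      rcases hy with hy | hy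
      · exact hcK y hy
      · have e1 : Commute (y * x) c := hcK _ hy
        have e2 : Commute x c := hcx.symm
        have := e1.mul_left e2.inv_left
        rw [mul_inv_cancel_right] at this
        exact this.eq
    have hidx : (C'.subgroupOf C).index = 2 := by
      rw [Subgroup.index_eq_two_iff]
      refine ⟨⟨c0, hc0⟩, fun c => ?_⟩
      rw [Subgroup.mem_subgroupOf, Subgroup.mem_subgroupOf]
      by_cases hc : (c : G) ∈ C'
      · refine Or.inr ⟨hc, fun h => hc0' ?_⟩
        have := C'.mul_mem (C'.inv_mem hc) h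
        rwa [Subgroup.coe_mul, inv_mul_cancel_left] at this
      · refine Or.inl ⟨?_, hc⟩
        have n1 : ∀ d ∈ C, d ∉ C' → d * x = z * (x * d) := by
          intro d hd hd'
          rcases S.comm d hd.1 x hx with h | h
          · rw [mul_inv_eq_one, mul_inv_eq_iff_eq_mul] at h
            exact absurd (hmem d hd h) hd'
          · rw [← h]; group
        refine hmem _ (C.mul_mem c.2 hc0) ?_
        show (c : G) * c0 * x = x * ((c : G) * c0)
        calc (c : G) * c0 * x = (c : G) * z * (x * c0) := by rw [mul_assoc, n1 c0 hc0 hc0']; group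
          _ = z * ((c : G) * x) * c0 := by rw [S.central _ c.2.1]; group
          _ = x * ((c : G) * c0) := by rw [n1 _ c.2 hc, ← mul_assoc z, S.sq, one_mul, mul_assoc]
    have h := Subgroup.card_mul_index (C'.subgroupOf C)
    rw [hidx, Nat.card_congr (Subgroup.subgroupOfEquivOfLe hle).toEquiv] at h
    omega

theorem XS.chain (S : XS Q z) {L : Subgroup G} (hL : L ≤ Q) : ∀ K : Subgroup G, K ≤ L → z ∈ K →
    Nat.card ↥(cent Q K) * Nat.card ↥K ≤ Nat.card ↥(cent Q L) * Nat.card ↥L := by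
  intro K
  induction hn : Nat.card ↥L - Nat.card ↥K using Nat.strong_induction_on generalizing K with
  | h n ih =>
    intro hKL hz
    rcases eq_or_lt_of_le hKL with rfl | hlt
    · exact le_rfl
    obtain ⟨x, hxL, hxK⟩ := SetLike.exists_of_lt hlt
    obtain ⟨K', h1, h2, h3, h4, h5⟩ := S.step (hKL.trans hL) hz (hL hxL) hxK
    have hle := h4 L hKL hxL
    have hcard := Nat.le_of_dvd Nat.card_pos (Subgroup.card_dvd_of_le hle)
    have hpos := Nat.card_pos (α := ↥K)
    have := ih (Nat.card ↥L - Nat.card ↥K') (by omega) K' rfl hle (h1 hz)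
    refine le_trans ?_ this
    rw [h3, ← Nat.mul_assoc, Nat.mul_comm (Nat.card ↥(cent Q K')) 2]
    exact Nat.mul_le_mul_right _ h5

/-- The double centralizer property. -/
theorem XS.cent_cent (S : XS Q z) {K : Subgroup G} (hK : K ≤ Q) (hz : z ∈ K) :
    cent Q (cent Q K) = K := by
  have hle : K ≤ cent Q (cent Q K) := fun k hk =>
    ⟨hK hk, Subgroup.mem_centralizer_iff.2 fun u hu => (Subgroup.mem_centralizer_iff.1 hu.2 k hk).symm⟩
  have hzQ : z ∈ cent Q Q := ⟨S.mem, Subgroup.mem_centralizer_iff.2 S.central⟩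
  have hZ : Subgroup.zpowers z = cent Q Q := by
    refine le_antisymm (Subgroup.zpowers_le.2 hzQ) fun u hu => ?_
    rcases S.center u hu.1 (Subgroup.mem_centralizer_iff.1 hu.2) with rfl | rfl
    · exact one_mem _
    · exact Subgroup.mem_zpowers _
  have hZle : Subgroup.zpowers z ≤ Q := Subgroup.zpowers_le.2 S.mem
  have hCZ : cent Q (Subgroup.zpowers z) = Q := by
    refine le_antisymm inf_le_left fun u hu => ⟨hu, Subgroup.mem_centralizer_iff.2 ?_⟩
    rintro _ ⟨i, rfl⟩
    exact ((show Commute u z from S.central u hu).zpow_right i).eq.symm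
  set C := cent Q K with hC
  have hzC : z ∈ C := ⟨S.mem, Subgroup.mem_centralizer_iff.2 fun k hk => S.central k (hK hk)⟩
  have e1 := S.chain le_rfl C inf_le_left hzC
  have e2 := S.chain hK (Subgroup.zpowers z) (Subgroup.zpowers_le.2 hz) (Subgroup.mem_zpowers z)
  rw [hCZ] at e2
  rw [← hZ] at e1
  refine (Subgroup.eq_of_le_of_card_ge hle ?_).symm
  have h3 : Nat.card ↥(cent Q C) * Nat.card ↥C ≤ Nat.card ↥K * Nat.card ↥C := by
    calc Nat.card ↥(cent Q C) * Nat.card ↥C ≤ Nat.card ↥(Subgroup.zpowers z) * Nat.card ↥Q := e1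
      _ = Nat.card ↥Q * Nat.card ↥(Subgroup.zpowers z) := Nat.mul_comm _ _
      _ ≤ Nat.card ↥C * Nat.card ↥K := e2
      _ = _ := Nat.mul_comm _ _
  exact Nat.le_of_mul_le_mul_right h3 Nat.card_pos


/-- Let G be a finite group and let z be an involution of G such that Q, the generalized Fitting subgroup of the centralizer C of z, is a 2-group of symplectic type (every characteristic abelian subgroup of Q is cyclic); suppose Q is extraspecial, and view Q inside G. Let α be an involution of C that is not in Q, and let Q₀ be the subgroup of those q ∈ Q whose commutator with α lies in the subgroup generated by z. Then (a) the subgroup generated by the commutators α q α⁻¹ q⁻¹, q ∈ Q, equals the centre of Q₀; and (b) if Q₀ is not contained in the product of the centralizer of α in Q with the subgroup generated by z, then some element of Q conjugates α to α z. -/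
theorem result {G : Type*} [Group G] [Finite G] (z : G) (hz : orderOf z = 2) (hQ : Cfsg.IsOfSymplecticType ↥(Cfsg.generalizedFittingSubgroup ↥(Subgroup.centralizer ({z} : Set G)))) (hE : Cfsg.IsExtraspecial 2 ↥(Cfsg.generalizedFittingSubgroup ↥(Subgroup.centralizer ({z} : Set G))))
    (α : G) (hα : orderOf α = 2) (hαC : α ∈ Subgroup.centralizer ({z} : Set G)) (hαQ : α ∉ (Cfsg.generalizedFittingSubgroup ↥(Subgroup.centralizer ({z} : Set G))).map (Subgroup.centralizer ({z} : Set G)).subtype)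
    (Q₀ : Subgroup G) (hQ₀ : ∀ q : G, q ∈ Q₀ ↔ (q ∈ (Cfsg.generalizedFittingSubgroup ↥(Subgroup.centralizer ({z} : Set G))).map (Subgroup.centralizer ({z} : Set G)).subtype ∧ α * q * α⁻¹ * q⁻¹ ∈ Subgroup.zpowers z)) :
    Subgroup.closure ((fun q : G => α * q * α⁻¹ * q⁻¹) '' ((Cfsg.generalizedFittingSubgroup ↥(Subgroup.centralizer ({z} : Set G))).map (Subgroup.centralizer ({z} : Set G)).subtype : Set G)) = (Subgroup.center ↥Q₀).map Q₀.subtype ∧
      (¬ Q₀ ≤ ((Cfsg.generalizedFittingSubgroup ↥(Subgroup.centralizer ({z} : Set G))).map (Subgroup.centralizer ({z} : Set G)).subtype ⊓ Subgroup.centralizer ({α} : Set G)) ⊔ Subgroup.zpowers z →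
        ∃ q ∈ (Cfsg.generalizedFittingSubgroup ↥(Subgroup.centralizer ({z} : Set G))).map (Subgroup.centralizer ({z} : Set G)).subtype, q * α * q⁻¹ = α * z) := by
  set C := Subgroup.centralizer ({z} : Set G)
  set F := Cfsg.generalizedFittingSubgroup ↥C with hF
  set Q := F.map C.subtype with hQd
  have hz2 : z * z = 1 := by rw [← pow_two, ← hz]; exact pow_orderOf_eq_one z
  have hz1 : z ≠ 1 := fun h => by rw [h, orderOf_one] at hz; omega
  have hzC : z ∈ C := Subgroup.mem_centralizer_singleton_iff.2 rfl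
  have hCc : ∀ c ∈ C, c * z = z * c := fun c hc => Subgroup.mem_centralizer_singleton_iff.1 hc
  have hQC : Q ≤ C := Subgroup.map_subtype_le F
  have hself := Cfsg.Lib.Core.centralizer_generalizedFitting_le (G := ↥C)
  have hzF : (⟨z, hzC⟩ : ↥C) ∈ F := hself (Subgroup.mem_centralizer_iff.2 fun c _ => Subtype.ext (hCc c c.2))
  have hzcenter : (⟨⟨z, hzC⟩, hzF⟩ : ↥F) ∈ Subgroup.center ↥F :=
    Subgroup.mem_center_iff.2 fun c => Subtype.ext (Subtype.ext (hCc _ (c : ↥C).2))
  have hcen : ∀ c : ↥F, c ∈ Subgroup.center ↥F → ((c : ↥C) : G) = 1 ∨ ((c : ↥C) : G) = z := by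
    intro c hc
    have hcc : Nat.card ↥(Subgroup.center ↥F) = 2 := hE.2
    obtain ⟨u, v, huv, huniv⟩ := Nat.card_eq_two_iff.1 hcc
    have key : ∀ w : ↥(Subgroup.center ↥F), w = u ∨ w = v := fun w => by
      have : w ∈ ({u, v} : Set ↥(Subgroup.center ↥F)) := huniv ▸ Set.mem_univ w
      simpa using this
    have hne : (1 : ↥(Subgroup.center ↥F)) ≠ ⟨_, hzcenter⟩ := fun h =>
      hz1 (congrArg (fun w : ↥(Subgroup.center ↥F) => (((w : ↥F) : ↥C) : G)) h).symm
    rcases key ⟨c, hc⟩ with h1 | h1 <;> rcases key 1 with h2 | h2 <;> rcases key ⟨_, hzcenter⟩ with h3 | h3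
    all_goals first
      | exact absurd (h2.trans h3.symm) hne
      | exact Or.inl (congrArg (fun w : ↥(Subgroup.center ↥F) => (((w : ↥F) : ↥C) : G)) (h1.trans h2.symm))
      | exact Or.inr (congrArg (fun w : ↥(Subgroup.center ↥F) => (((w : ↥F) : ↥C) : G)) (h1.trans h3.symm))
  have S : XS Q z := by
    refine ⟨⟨⟨z, hzC⟩, hzF, rfl⟩, hz2, ?_, fun a ha => hCc a (hQC ha), ?_⟩
    · rintro _ ⟨a, ha, rfl⟩ _ ⟨b, hb, rfl⟩
      have h1 : (⟨a, ha⟩ : ↥F) * ⟨b, hb⟩ * (⟨a, ha⟩ : ↥F)⁻¹ * (⟨b, hb⟩ : ↥F)⁻¹ ∈ Subgroup.center ↥F := by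
        rw [← hE.1.2.2, commutator_def]
        exact Subgroup.commutator_mem_commutator (Subgroup.mem_top _) (Subgroup.mem_top _)
      exact hcen _ h1
    · rintro _ ⟨u, hu, rfl⟩ h
      exact hcen ⟨u, hu⟩ (Subgroup.mem_center_iff.2 fun a => Subtype.ext (Subtype.ext (h _ ⟨a, a.2, rfl⟩)))
  have hnorm : ∀ c ∈ C, ∀ q ∈ Q, c * q * c⁻¹ ∈ Q := by
    rintro c hc _ ⟨q, hq, rfl⟩
    exact ⟨⟨c, hc⟩ * q * ⟨c, hc⟩⁻¹, (inferInstance : F.Normal).conj_mem q hq _, rfl⟩
  have haa : α * α = 1 := by rw [← pow_two, ← hα]; exact pow_orderOf_eq_one α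
  have hai : α⁻¹ = α := inv_eq_of_mul_eq_one_left haa
  have haz : α * z = z * α := hCc α hαC
  set d : G → G := fun q => α * q * α⁻¹ * q⁻¹ with hd
  have hdQ : ∀ q ∈ Q, d q ∈ Q := fun q hq => Q.mul_mem (hnorm α hαC q hq) (Q.inv_mem hq)
  have hzp : ∀ u : G, u ∈ Subgroup.zpowers z ↔ u = 1 ∨ u = z := by
    intro u
    constructor
    · rintro ⟨i, rfl⟩
      rcases Int.even_or_odd i with ⟨j, rfl⟩ | ⟨j, rfl⟩
      · left; show z ^ (j + j) = 1; rw [← two_mul, zpow_mul, zpow_two, hz2, one_zpow]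
      · right; show z ^ (2 * j + 1) = z; rw [zpow_add_one, zpow_mul, zpow_two, hz2, one_zpow, one_mul]
    · rintro (rfl | rfl)
      · exact one_mem _
      · exact Subgroup.mem_zpowers _
  set K := Subgroup.closure (d '' (Q : Set G)) with hK
  have hKQ : K ≤ Q := (Subgroup.closure_le Q).2 (by rintro _ ⟨q, hq, rfl⟩; exact hdQ q hq)
  have hgen : ∀ q ∈ Q, d q ∈ K := fun q hq => Subgroup.subset_closure ⟨q, hq, rfl⟩
  obtain ⟨q0, hq0, hq01⟩ : ∃ q ∈ Q, d q ≠ 1 := by
    by_contra hno
    push Not at hno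
    refine hαQ ⟨⟨α, hαC⟩, hself (Subgroup.mem_centralizer_iff.2 fun c hc => Subtype.ext ?_), rfl⟩
    have h := hno c ⟨c, hc, rfl⟩
    rw [hd] at h; simp only at h
    rw [mul_inv_eq_one, mul_inv_eq_iff_eq_mul] at h
    exact h.symm
  have hKn : ∀ q ∈ Q, ∀ k ∈ K, q * k * q⁻¹ ∈ K := by
    intro q hq k hk
    have h : K ≤ K.comap (MulAut.conj q).toMonoidHom := by
      rw [hK, Subgroup.closure_le]
      rintro _ ⟨r, hr, rfl⟩
      show q * d r * q⁻¹ ∈ Subgroup.closure (d '' (Q : Set G))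
      rw [← hK, show q * d r * q⁻¹ = (d q)⁻¹ * d (q * r) by simp only [hd]; group]
      exact K.mul_mem (K.inv_mem (hgen q hq)) (hgen _ (Q.mul_mem hq hr))
    exact h hk
  have hzK : z ∈ K := by
    by_cases hcen0 : ∀ a ∈ Q, a * d q0 = d q0 * a
    · exact ((S.center _ (hdQ q0 hq0) hcen0).resolve_left hq01) ▸ hgen q0 hq0
    push Not at hcen0
    obtain ⟨a, ha, hne⟩ := hcen0
    rcases S.comm a ha _ (hdQ q0 hq0) with h | h
    · rw [mul_inv_eq_one, mul_inv_eq_iff_eq_mul] at h
      exact absurd h hne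
    · rw [← h]; exact K.mul_mem (hKn a ha _ (hgen q0 hq0)) (K.inv_mem (hgen q0 hq0))
  have hC2 : cent Q K = Q₀ := by
    ext r
    rw [hQ₀]
    constructor
    · rintro ⟨hr, hrK⟩
      refine ⟨hr, ?_⟩
      rw [hzp]
      set r' := α * r * α⁻¹ with hr'
      refine S.center _ (Q.mul_mem (hnorm α hαC r hr) (Q.inv_mem hr)) fun q hq => ?_
      -- `r'` and `r` have the same commutators with every element of `Q`
      have hc0 : Commute (d q) r := (Subgroup.mem_centralizer_iff.1 hrK _ (hgen q hq) :)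
      have hc1 : Commute (d q) r' := by
        have h1 : α * d q * α⁻¹ = (d q)⁻¹ := by
          simp only [hd]
          calc α * (α * q * α⁻¹ * q⁻¹) * α⁻¹ = (α * α) * q * (α⁻¹ * q⁻¹ * α⁻¹) := by group
            _ = (α * q * α⁻¹ * q⁻¹)⁻¹ := by rw [haa, one_mul, hai]; simp only [mul_inv_rev, inv_inv, hai, mul_assoc]
        have h2 : Commute (α * d q * α⁻¹) r' := by
          show α * d q * α⁻¹ * (α * r * α⁻¹) = α * r * α⁻¹ * (α * d q * α⁻¹)
          rw [conj_mul, conj_mul, hc0.eq]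
        rw [h1] at h2
        exact inv_inv (d q) ▸ h2.inv_left
      set q' := α * q * α⁻¹ with hq'
      have hq'Q : q' ∈ Q := hnorm α hαC q hq
      have hr'Q : r' ∈ Q := hnorm α hαC r hr
      have hdq : d q = q' * q⁻¹ := rfl
      have hq'e : q' = d q * q := by rw [hdq, inv_mul_cancel_right]
      have key : ∀ w ∈ Q, Commute (d q) w → q' * w * q'⁻¹ * w⁻¹ = q * w * q⁻¹ * w⁻¹ := by
        intro w hw hdw
        have hfix : d q * (q * w * q⁻¹ * w⁻¹) * (d q)⁻¹ = q * w * q⁻¹ * w⁻¹ := by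
          rcases S.comm q hq w hw with h | h <;> rw [h]
          · group
          · rw [S.central _ (hdQ q hq), mul_inv_cancel_right]
        calc q' * w * q'⁻¹ * w⁻¹ = d q * (q * w * q⁻¹ * w⁻¹) * (w * (d q)⁻¹ * w⁻¹) := by rw [hq'e]; group
          _ = d q * (q * w * q⁻¹ * w⁻¹) * (d q)⁻¹ := by rw [← hdw.inv_left.eq, mul_inv_cancel_right]
          _ = _ := hfix
      have e1 := key r' hr'Q hc1
      have e2 : q' * r' * q'⁻¹ * r'⁻¹ = q * r * q⁻¹ * r⁻¹ := by
        have h3 : α * (q * r * q⁻¹ * r⁻¹) * α⁻¹ = q * r * q⁻¹ * r⁻¹ := by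
          rcases S.comm q hq r hr with h | h <;> rw [h]
          · group
          · rw [haz, mul_inv_cancel_right]
        conv_rhs => rw [← h3]
        rw [hq', hr']; group
      rw [e1] at e2
      have e3 : q * (r' * r⁻¹) * q⁻¹ = r' * r⁻¹ := by
        calc q * (r' * r⁻¹) * q⁻¹ = (q * r' * q⁻¹ * r'⁻¹) * r' * (q * r⁻¹ * q⁻¹) := by group
          _ = (q * r * q⁻¹ * r⁻¹) * r' * (q * r⁻¹ * q⁻¹) := by rw [e2]
          _ = r' * ((q * r * q⁻¹ * r⁻¹) * (q * r⁻¹ * q⁻¹)) := by
              rw [← mul_assoc r']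
              congr 1
              rcases S.comm q hq r hr with h | h <;> rw [h]
              · rw [one_mul, mul_one]
              · exact (S.central _ hr'Q).symm
          _ = r' * (r⁻¹) := by
              rcases S.comm q hq r hr with h | h
              · rw [h, one_mul]
                rw [mul_inv_eq_one] at h
                rw [show q * r⁻¹ * q⁻¹ = (q * r * q⁻¹)⁻¹ by group, h]
              · congr 1
                calc q * r * q⁻¹ * r⁻¹ * (q * r⁻¹ * q⁻¹) = (q * r * q⁻¹) * r⁻¹ * (q * r * q⁻¹)⁻¹ := by group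
                  _ = r⁻¹ := by
                    rw [mul_inv_eq_iff_eq_mul.1 h, mul_inv_cancel_right, mul_inv_rev, ← mul_assoc,
                      show z * r⁻¹ = r⁻¹ * z from (S.central _ (Q.inv_mem hr)).symm, inv_eq_of_mul_eq_one_left hz2,
                      mul_assoc, hz2, mul_one]
      exact mul_inv_eq_iff_eq_mul.1 e3
    · rintro ⟨hr, hra⟩
      refine ⟨hr, Subgroup.mem_centralizer_iff.2 fun k hk => ?_⟩
      have : K ≤ Subgroup.centralizer ({r} : Set G) := by
        rw [hK, Subgroup.closure_le]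
        rintro _ ⟨q, hq, rfl⟩
        refine Subgroup.mem_centralizer_singleton_iff.2 ?_
        set q' := α * q * α⁻¹ with hq'
        have hq'Q : q' ∈ Q := hnorm α hαC q hq
        show q' * q⁻¹ * r = r * (q' * q⁻¹)
        have e1 : q' * r * q'⁻¹ * r⁻¹ = q * r * q⁻¹ * r⁻¹ := by
          rw [hzp] at hra
          obtain ⟨w, hw, hwr⟩ : ∃ w : G, (∀ u ∈ Q, u * w = w * u) ∧ α * r * α⁻¹ = w * r := by
            rcases hra with h | h
            · exact ⟨1, fun u _ => by simp, by rw [one_mul, ← mul_inv_eq_one, h]⟩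
            · exact ⟨z, S.central, by rw [← h]; group⟩
          have h3 : α * (q * r * q⁻¹ * r⁻¹) * α⁻¹ = q * r * q⁻¹ * r⁻¹ := by
            rcases S.comm q hq r hr with h | h <;> rw [h]
            · group
            · rw [haz, mul_inv_cancel_right]
          conv_rhs => rw [← h3, show α * (q * r * q⁻¹ * r⁻¹) * α⁻¹ = q' * (α * r * α⁻¹) * q'⁻¹ * (α * r * α⁻¹)⁻¹ by
            rw [hq']; group, hwr]
          calc q' * r * q'⁻¹ * r⁻¹ = w * (q' * r * q'⁻¹) * r⁻¹ * w⁻¹ := by
                rcases S.comm q' hq'Q r hr with h | h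
                · rw [h]; rw [mul_inv_eq_one] at h; rw [h]; group
                · rw [show w * (q' * r * q'⁻¹) * r⁻¹ * w⁻¹ = w * (q' * r * q'⁻¹ * r⁻¹) * w⁻¹ by group, h,
                    ← hw z S.mem, mul_inv_cancel_right]
            _ = q' * (w * r) * q'⁻¹ * (w * r)⁻¹ := by
                rw [show q' * (w * r) = w * q' * r by rw [← mul_assoc, hw q' hq'Q]]; group
        have e2 : q⁻¹ * r * q = (q * r * q⁻¹ * r⁻¹)⁻¹ * r := by
          have hc : Commute q (q * r * q⁻¹ * r⁻¹) := by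
            rcases S.comm q hq r hr with h | h <;> rw [h]
            · exact Commute.one_right q
            · exact S.central q hq
          calc q⁻¹ * r * q = q⁻¹ * (q * r * q⁻¹ * r⁻¹)⁻¹ * q * r := by group
            _ = _ := by rw [mul_assoc q⁻¹, ← hc.inv_right.eq, inv_mul_cancel_left]
        calc q' * q⁻¹ * r = q' * (q⁻¹ * r * q) * q⁻¹ := by group
          _ = q' * ((q * r * q⁻¹ * r⁻¹)⁻¹ * r) * q⁻¹ := by rw [e2]
          _ = q' * ((q' * r * q'⁻¹ * r⁻¹)⁻¹ * r) * q⁻¹ := by rw [e1]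
          _ = q' * (r * q' * r⁻¹ * q'⁻¹) * r * q⁻¹ := by group
          _ = (r * q' * r⁻¹ * q'⁻¹) * q' * r * q⁻¹ := by
              rcases S.comm r hr q' hq'Q with h | h <;> rw [h]
              · group
              · rw [S.central q' hq'Q]
          _ = r * (q' * q⁻¹) := by group
      exact Subgroup.mem_centralizer_singleton_iff.1 (this hk)
  have hzr : ∀ r : G, r ∈ Q₀ → r ∈ Q := fun r hr => ((hQ₀ r).1 hr).1
  constructor
  · -- the commutators give the centre of `Q₀`
    show K = _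
    have hKQ0 : K ≤ Q₀ := by
      rw [hK, Subgroup.closure_le]
      rintro _ ⟨q, hq, rfl⟩
      refine (hQ₀ _).2 ⟨hdQ q hq, ?_⟩
      have h1 : α * d q * α⁻¹ = (d q)⁻¹ := by
        simp only [hd]
        calc α * (α * q * α⁻¹ * q⁻¹) * α⁻¹ = (α * α) * q * (α⁻¹ * q⁻¹ * α⁻¹) := by group
          _ = (α * q * α⁻¹ * q⁻¹)⁻¹ := by rw [haa, one_mul, hai]; simp only [mul_inv_rev, inv_inv, hai, mul_assoc]
      show α * d q * α⁻¹ * (d q)⁻¹ ∈ Subgroup.zpowers z
      rw [h1, ← mul_inv_rev, hzp]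
      rcases S.sq_mem (hdQ q hq) with h | h <;> rw [h]
      · exact Or.inl inv_one
      · exact Or.inr (inv_eq_of_mul_eq_one_left hz2)
    refine le_antisymm (fun k hk => ?_) ?_
    · refine ⟨⟨k, hKQ0 hk⟩, Subgroup.mem_center_iff.2 fun r => Subtype.ext ?_, rfl⟩
      exact (Subgroup.mem_centralizer_iff.1 ((hC2.symm ▸ r.2 : (r : G) ∈ cent Q K)).2 k hk).symm
    · rintro _ ⟨u, hu, rfl⟩
      have hu' : (u : G) ∈ cent Q (cent Q K) := by
        rw [hC2]
        exact ⟨hzr _ u.2, Subgroup.mem_centralizer_iff.2 fun r hr =>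
          congrArg Subtype.val (Subgroup.mem_center_iff.1 hu ⟨r, hr⟩)⟩
      rwa [S.cent_cent hKQ hzK] at hu'
  · intro hnle
    obtain ⟨r, hr, hr'⟩ := SetLike.not_le_iff_exists.1 hnle
    obtain ⟨hrQ, hra⟩ := (hQ₀ r).1 hr
    rw [hzp] at hra
    rcases hra with h | h
    · refine absurd ?_ hr'
      refine Subgroup.mem_sup_left ⟨hrQ, Subgroup.mem_centralizer_singleton_iff.2 ?_⟩
      rw [mul_inv_eq_one, mul_inv_eq_iff_eq_mul] at h
      exact h.symm
    · refine ⟨r, hrQ, ?_⟩
      have h2 : α * r = z * r * α := by rw [← h]; group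
      have h3 : α * (r * α * r⁻¹) = z := by
        calc α * (r * α * r⁻¹) = (α * r) * α * r⁻¹ := by group
          _ = z * r * (α * α) * r⁻¹ := by rw [h2]; group
          _ = z := by rw [haa, mul_one, mul_inv_cancel_right]
      calc r * α * r⁻¹ = α * (α * (r * α * r⁻¹)) := by rw [← mul_assoc α α, haa, one_mul]
        _ = α * z := by rw [h3]

end Cfsg.Agent.S1784
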