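import Cfsg.Statements.S1785
import Mathlib

set_option autoImplicit false
open Cfsg

namespace Cfsg.Agent.S1785

variable {X : Type*} [Group X] [Finite X]

abbrev Step (C D : Subgroup X) : Prop :=
  Cfsg.IsElementaryAbelian 2 C ∧ Nat.card ↥C = 8 ∧ Cfsg.IsElementaryAbelian 2 D ∧ Nat.card ↥D = 8 ∧ ⁅C, D⁆ = ⊥

theorem comm_of {A : Subgroup X} (hA : Cfsg.IsElementaryAbelian 2 A) {a b : X} (ha : a ∈ A) (hb : b ∈ A) :
    a * b = b * a := by
  have := hA.1
  exact congrArg Subtype.val (mul_comm' (⟨a, ha⟩ : ↥A) ⟨b, hb⟩)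

theorem sq_of {A : Subgroup X} (hA : Cfsg.IsElementaryAbelian 2 A) {a : X} (ha : a ∈ A) : a * a = 1 := by
  rw [← pow_two]; exact hA.2 a ha

/-- Adjoining a commuting involution to an elementary abelian group. -/
theorem adjoin {A : Subgroup X} (hA : Cfsg.IsElementaryAbelian 2 A) {e : X} (he : e * e = 1)
    (hc : ∀ a ∈ A, a * e = e * a) (hne : e ∉ A) :
    ∃ B : Subgroup X, A ≤ B ∧ e ∈ B ∧ Cfsg.IsElementaryAbelian 2 B ∧ Nat.card ↥B = 2 * Nat.card ↥A ∧
      ∀ y ∈ B, y ∈ A ∨ y * e ∈ A := by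
  let B : Subgroup X :=
    { carrier := {y | y ∈ A ∨ y * e ∈ A}
      one_mem' := Or.inl A.one_mem
      mul_mem' := fun {y w} hy hw => by
        rcases hy with hy | hy <;> rcases hw with hw | hw
        · exact Or.inl (A.mul_mem hy hw)
        · exact Or.inr (by rw [mul_assoc]; exact A.mul_mem hy hw)
        · refine Or.inr ?_
          rw [mul_assoc, hc w hw, ← mul_assoc]
          exact A.mul_mem hy hw
        · refine Or.inl ?_
          have h := A.mul_mem hy hw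
          have h2 := hc _ hw
          rw [mul_assoc w e e, he, mul_one] at h2
          rwa [show y * e * (w * e) = y * (e * (w * e)) by group, ← h2, ] at h
      inv_mem' := fun {y} hy => by
        rcases hy with hy | hy
        · exact Or.inl (A.inv_mem hy)
        · refine Or.inr ?_
          have h1 := A.inv_mem hy
          rw [mul_inv_rev, inv_eq_of_mul_eq_one_left he] at h1
          have h2 := hc _ h1
          rw [show e * y⁻¹ * e = e * (y⁻¹ * e) from mul_assoc _ _ _] at h2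
          have h3 : y⁻¹ * e = e * y⁻¹ := by
            calc y⁻¹ * e = e * (e * (y⁻¹ * e)) := by rw [← mul_assoc, he, one_mul]
              _ = e * (e * (e * y⁻¹)) := by rw [h2]
              _ = e * y⁻¹ := by rw [← mul_assoc e e, he, one_mul]
          rw [h3]; exact h1 }
  have heB : e ∈ B := Or.inr (by rw [he]; exact A.one_mem)
  have hform : ∀ y ∈ B, ∃ a ∈ A, y = a ∨ y = a * e := by
    intro y hy
    rcases hy with hy | hy
    · exact ⟨y, hy, Or.inl rfl⟩
    · exact ⟨y * e, hy, Or.inr (by rw [mul_assoc, he, mul_one])⟩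
  refine ⟨B, fun a ha => Or.inl ha, heB, ⟨⟨⟨fun y w => Subtype.ext ?_⟩⟩, ?_⟩, ?_, fun y hy => hy⟩
  · obtain ⟨a, ha, h1⟩ := hform y y.2
    obtain ⟨b, hb, h2⟩ := hform w w.2
    have hab : Commute a b := comm_of hA ha hb
    have hae : Commute a e := hc a ha
    have hbe : Commute b e := hc b hb
    show (y : X) * w = w * y
    rcases h1 with h1 | h1 <;> rcases h2 with h2 | h2 <;> rw [h1, h2]
    · exact hab.eq
    · exact (hab.mul_right hae).eq
    · exact (hab.mul_left hbe.symm).eq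
    · exact ((hab.mul_right hae).mul_left (hbe.symm.mul_right (Commute.refl e))).eq
  · intro y hy
    obtain ⟨a, ha, h1⟩ := hform y hy
    rcases h1 with rfl | rfl
    · exact hA.2 _ ha
    · rw [Commute.mul_pow (hc a ha), hA.2 a ha, pow_two, he, one_mul]
  · have hidx : (A.subgroupOf B).index = 2 := by
      rw [Subgroup.index_eq_two_iff]
      refine ⟨⟨e, heB⟩, fun y => ?_⟩
      rw [Subgroup.mem_subgroupOf, Subgroup.mem_subgroupOf]
      show Xor' ((y : X) * e ∈ A) ((y : X) ∈ A)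
      rcases (y.2 : (y : X) ∈ A ∨ (y : X) * e ∈ A) with h | h
      · refine Or.inr ⟨h, fun h' => hne ?_⟩
        have := A.mul_mem (A.inv_mem h) h'
        rwa [inv_mul_cancel_left] at this
      · refine Or.inl ⟨h, fun h' => hne ?_⟩
        have := A.mul_mem (A.inv_mem h') h
        rwa [inv_mul_cancel_left] at this
    have h := Subgroup.card_mul_index (A.subgroupOf B)
    rw [hidx, Nat.card_congr (Subgroup.subgroupOfEquivOfLe (fun a ha => (Or.inl ha : a ∈ B))).toEquiv] at h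
    omega

/-- An involution centralizes at least a square root of a normal elementary abelian subgroup. -/
theorem fixed_bound (F : Subgroup X) (hF : Cfsg.IsElementaryAbelian 2 F) (a : X) (ha : a * a = 1)
    (haF : ∀ f ∈ F, a * f * a⁻¹ ∈ F) :
    Nat.card ↥F ≤ Nat.card ↥(F ⊓ Subgroup.centralizer ({a} : Set X)) ^ 2 := by
  let φ : ↥F →* ↥F :=
    { toFun := fun f => ⟨(f : X) * (a * (f : X) * a⁻¹), F.mul_mem f.2 (haF f f.2)⟩
      map_one' := Subtype.ext (by simp)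
      map_mul' := fun f g => Subtype.ext (by
        have h := comm_of hF g.2 (haF f f.2)
        show (f : X) * g * (a * ((f : X) * g) * a⁻¹) = (f : X) * (a * f * a⁻¹) * ((g : X) * (a * g * a⁻¹))
        calc (f : X) * g * (a * ((f : X) * g) * a⁻¹) = (f : X) * ((g : X) * (a * f * a⁻¹)) * (a * g * a⁻¹) := by group
          _ = (f : X) * ((a * f * a⁻¹) * g) * (a * g * a⁻¹) := by rw [h]
          _ = _ := by group) }
  have hai : a⁻¹ = a := inv_eq_of_mul_eq_one_left ha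
  have hfix : ∀ f : ↥F, a * (f : X) * a⁻¹ = f → (f : X) ∈ F ⊓ Subgroup.centralizer ({a} : Set X) := fun f hf =>
    ⟨f.2, Subgroup.mem_centralizer_singleton_iff.2 (mul_inv_eq_iff_eq_mul.1 hf).symm⟩
  have hk : Nat.card φ.ker ≤ Nat.card ↥(F ⊓ Subgroup.centralizer ({a} : Set X)) := by
    refine Nat.card_le_card_of_injective (fun f : φ.ker => ⟨((f : ↥F) : X), hfix _ ?_⟩) ?_
    · have h1 : ((f : ↥F) : X) * (a * ((f : ↥F) : X) * a⁻¹) = 1 := congrArg Subtype.val (MonoidHom.mem_ker.1 f.2)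
      exact mul_left_cancel (h1.trans (sq_of hF (f : ↥F).2).symm)
    · exact fun u v h => Subtype.ext (Subtype.ext (congrArg Subtype.val h :))
  have hr : Nat.card φ.range ≤ Nat.card ↥(F ⊓ Subgroup.centralizer ({a} : Set X)) := by
    refine Nat.card_le_card_of_injective (fun f : φ.range => ⟨((f : ↥F) : X), hfix _ ?_⟩) ?_
    · obtain ⟨g, hg⟩ := f.2
      rw [← hg]
      show a * ((g : X) * (a * g * a⁻¹)) * a⁻¹ = (g : X) * (a * g * a⁻¹)
      rw [comm_of hF g.2 (haF g g.2)]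
      calc a * (a * (g : X) * a⁻¹ * g) * a⁻¹ = (a * a) * (g : X) * (a⁻¹ * g * a⁻¹) := by group
        _ = (g : X) * (a * g * a⁻¹) := by rw [ha, one_mul, hai]
        _ = _ := comm_of hF g.2 (haF g g.2)
    · exact fun u v h => Subtype.ext (Subtype.ext (congrArg Subtype.val h :))
  have hm := Subgroup.card_mul_index φ.ker
  rw [Subgroup.index_ker] at hm
  rw [← hm, pow_two]
  exact Nat.mul_le_mul hk hr

theorem fixed_two (E : Subgroup X) [E.Normal] (hE : Cfsg.IsElementaryAbelian 2 E) (hE32 : 32 ≤ Nat.card ↥E)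
    (a b : X) (ha : a * a = 1) (hb : b * b = 1) (hab : a * b = b * a) :
    6 ≤ Nat.card ↥(E ⊓ Subgroup.centralizer ({a} : Set X)) ∧
    3 ≤ Nat.card ↥((E ⊓ Subgroup.centralizer ({a} : Set X)) ⊓ Subgroup.centralizer ({b} : Set X)) := by
  set F := E ⊓ Subgroup.centralizer ({a} : Set X) with hF
  have h1 := fixed_bound E hE a ha fun f hf => (inferInstance : E.Normal).conj_mem f hf a
  have hFe : Cfsg.IsElementaryAbelian 2 F :=
    ⟨⟨⟨fun u v => Subtype.ext (comm_of hE u.2.1 v.2.1)⟩⟩, fun u hu => hE.2 u hu.1⟩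
  have h2 := fixed_bound F hFe b hb fun f hf => ⟨(inferInstance : E.Normal).conj_mem f hf.1 b, by
    have hfa := Subgroup.mem_centralizer_singleton_iff.1 hf.2
    refine Subgroup.mem_centralizer_singleton_iff.2 ?_
    show b * f * b⁻¹ * a = a * (b * f * b⁻¹)
    have hba : b⁻¹ * a = a * b⁻¹ := by rw [inv_eq_of_mul_eq_one_left hb]; exact hab.symm
    calc b * f * b⁻¹ * a = b * f * (b⁻¹ * a) := by group
      _ = b * f * (a * b⁻¹) := by rw [hba]
      _ = b * (f * a) * b⁻¹ := by group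
      _ = b * (a * f) * b⁻¹ := by rw [hfa]
      _ = (b * a) * f * b⁻¹ := by group
      _ = (a * b) * f * b⁻¹ := by rw [hab]
      _ = a * (b * f * b⁻¹) := by group⟩
  have h1' : Nat.card ↥E ≤ Nat.card ↥F ^ 2 := h1
  have hF6 : 6 ≤ Nat.card ↥F := by
    by_contra h
    have : Nat.card ↥F ^ 2 ≤ 5 ^ 2 := Nat.pow_le_pow_left (by omega) 2
    omega
  refine ⟨hF6, ?_⟩
  by_contra h
  have : Nat.card ↥(F ⊓ Subgroup.centralizer ({b} : Set X)) ^ 2 ≤ 2 ^ 2 := Nat.pow_le_pow_left (by omega) 2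
  omega

theorem exists_not_mem {F A : Subgroup X} (h : Nat.card ↥A < Nat.card ↥F) : ∃ e ∈ F, e ∉ A := by
  by_contra hno
  push Not at hno
  exact h.not_ge (Nat.le_of_dvd Nat.card_pos (Subgroup.card_dvd_of_le hno))

theorem four_form {V : Subgroup X} (hV : Cfsg.IsElementaryAbelian 2 V) (hV4 : Nat.card ↥V = 4) :
    ∃ a ∈ V, ∃ b ∈ V, ∀ y ∈ V, y ∈ Subgroup.closure ({a, b} : Set X) := by
  obtain ⟨a, ha, ha1⟩ := exists_not_mem (F := V) (A := ⊥) (by rw [Subgroup.card_bot, hV4]; norm_num)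
  have hca : Nat.card ↥(Subgroup.zpowers a) = 2 := by
    rw [Nat.card_zpowers]
    exact orderOf_eq_prime (hV.2 a ha) (fun h => ha1 (h ▸ one_mem _))
  obtain ⟨b, hb, hb1⟩ := exists_not_mem (F := V) (A := Subgroup.zpowers a) (by rw [hca, hV4]; norm_num)
  refine ⟨a, ha, b, hb, ?_⟩
  have hle : Subgroup.closure ({a, b} : Set X) ≤ V := (Subgroup.closure_le V).2 (by simp [Set.insert_subset_iff, ha, hb])
  have hlt : Subgroup.zpowers a < Subgroup.closure ({a, b} : Set X) := by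
    refine lt_of_le_of_ne (Subgroup.zpowers_le.2 (Subgroup.subset_closure (by simp))) fun h => hb1 ?_
    rw [h]; exact Subgroup.subset_closure (by simp)
  have hd := Subgroup.card_dvd_of_le hle
  have hd2 := Subgroup.card_dvd_of_le hlt.le
  have hne : Nat.card ↥(Subgroup.closure ({a, b} : Set X)) ≠ 2 := fun h =>
    hlt.ne (Subgroup.eq_of_le_of_card_ge hlt.le (by rw [h, hca]))
  rw [hV4] at hd
  rw [hca] at hd2
  have hc4 : Nat.card ↥(Subgroup.closure ({a, b} : Set X)) = 4 := by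
    have := Nat.le_of_dvd (by norm_num) hd
    interval_cases hh : Nat.card ↥(Subgroup.closure ({a, b} : Set X)) <;> omega
  intro y hy
  rw [Subgroup.eq_of_le_of_card_ge hle (by rw [hc4, hV4])]
  exact hy

theorem four_fixed (E : Subgroup X) [E.Normal] (hE : Cfsg.IsElementaryAbelian 2 E) (hE32 : 32 ≤ Nat.card ↥E)
    (V : Subgroup X) (hV : Cfsg.IsElementaryAbelian 2 V) (hV4 : Nat.card ↥V = 4) :
    ∃ F : Subgroup X, 3 ≤ Nat.card ↥F ∧ F ≤ E ∧ ∀ f ∈ F, ∀ v ∈ V, v * f = f * v := by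
  obtain ⟨a, ha, b, hb, hgen⟩ := four_form hV hV4
  obtain ⟨-, h3⟩ := fixed_two E hE hE32 a b (sq_of hV ha) (sq_of hV hb) (comm_of hV ha hb)
  refine ⟨_, h3, inf_le_left.trans inf_le_left, fun f hf v hv => ?_⟩
  have h1 : Subgroup.closure ({a, b} : Set X) ≤ Subgroup.centralizer ({f} : Set X) := by
    rw [Subgroup.closure_le]
    rintro w (rfl | rfl)
    · exact Subgroup.mem_centralizer_singleton_iff.2 (Subgroup.mem_centralizer_singleton_iff.1 hf.1.2).symm
    · exact Subgroup.mem_centralizer_singleton_iff.2 (Subgroup.mem_centralizer_singleton_iff.1 hf.2).symm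
  exact Subgroup.mem_centralizer_singleton_iff.1 (h1 (hgen v hv))

theorem extend_four (E : Subgroup X) [E.Normal] (hE : Cfsg.IsElementaryAbelian 2 E) (hE32 : 32 ≤ Nat.card ↥E)
    (V : Subgroup X) (hV : Cfsg.IsElementaryAbelian 2 V) (hV4 : Nat.card ↥V = 4) :
    ∃ A : Subgroup X, V ≤ A ∧ Cfsg.IsElementaryAbelian 2 A ∧ Nat.card ↥A = 8 := by
  by_cases hVE : V ≤ E
  · obtain ⟨e, he, heV⟩ := exists_not_mem (F := E) (A := V) (by omega)
    obtain ⟨B, h1, -, h3, h4, -⟩ := adjoin hV (sq_of hE he) (fun v hv => comm_of hE (hVE hv) he) heV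
    exact ⟨B, h1, h3, by omega⟩
  · obtain ⟨F, hF3, hFE, hFc⟩ := four_fixed E hE hE32 V hV hV4
    obtain ⟨e, he, heV⟩ := exists_not_mem (F := F) (A := V ⊓ E) (by
      have hlt : Nat.card ↥(V ⊓ E) ≤ 2 := by
        have hd := Subgroup.card_dvd_of_le (inf_le_left : V ⊓ E ≤ V)
        rw [hV4] at hd
        have hne : Nat.card ↥(V ⊓ E) ≠ 4 := fun h =>
          hVE (inf_eq_left.1 (Subgroup.eq_of_le_of_card_ge inf_le_left (by rw [h, hV4])))
        have := Nat.le_of_dvd (by norm_num) hd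
        interval_cases hh : Nat.card ↥(V ⊓ E) <;> omega
      omega)
    have heV' : e ∉ V := fun h => heV ⟨h, hFE he⟩
    obtain ⟨B, h1, -, h3, h4, -⟩ := adjoin hV (sq_of hE (hFE he)) (hFc e he) heV'
    exact ⟨B, h1, h3, by omega⟩

theorem le_inE {A : Subgroup X} (E : Subgroup X) (h : ¬ A ≤ E) (hA8 : Nat.card ↥A = 8) :
    Nat.card ↥(A ⊓ E) ≤ 4 := by
  have hd := Subgroup.card_dvd_of_le (inf_le_left : A ⊓ E ≤ A)
  rw [hA8] at hd
  have hne : Nat.card ↥(A ⊓ E) ≠ 8 := fun h' =>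
    h (inf_eq_left.1 (Subgroup.eq_of_le_of_card_ge inf_le_left (by rw [h', hA8])))
  have := Nat.le_of_dvd (by norm_num) hd
  interval_cases hh : Nat.card ↥(A ⊓ E) <;> omega

theorem sub_four {A D : Subgroup X} (hA : Cfsg.IsElementaryAbelian 2 A) (hA8 : Nat.card ↥A = 8) (hD : D ≤ A)
    (hD4 : Nat.card ↥D ≤ 4) : ∃ V ≤ A, Nat.card ↥V = 4 ∧ D ≤ V := by
  have grow : ∀ W : Subgroup X, W ≤ A → Nat.card ↥W < 4 → ∃ W' ≤ A, W ≤ W' ∧ Nat.card ↥W' = 2 * Nat.card ↥W := by
    intro W hW hW4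
    obtain ⟨a, ha, haW⟩ := exists_not_mem (F := A) (A := W) (by omega)
    have hWe : Cfsg.IsElementaryAbelian 2 W :=
      ⟨⟨⟨fun u v => Subtype.ext (comm_of hA (hW u.2) (hW v.2))⟩⟩, fun u hu => hA.2 u (hW hu)⟩
    obtain ⟨B, h1, h2, h3, h4, h5⟩ := adjoin hWe (sq_of hA ha) (fun v hv => comm_of hA (hW hv) ha) haW
    refine ⟨B, fun y hy => ?_, h1, h4⟩
    rcases h5 y hy with h | h
    · exact hW h
    · have := mul_mem (hW h) ha
      rwa [mul_assoc, sq_of hA ha, mul_one] at this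
  have hd := Subgroup.card_dvd_of_le hD
  rw [hA8] at hd
  rcases (show Nat.card ↥D = 1 ∨ Nat.card ↥D = 2 ∨ Nat.card ↥D = 4 by
    have := Nat.card_pos (α := ↥D); interval_cases hh : Nat.card ↥D <;> omega) with h | h | h
  · obtain ⟨W, hW, hDW, hWc⟩ := grow D hD (by omega)
    obtain ⟨W', hW', hWW', hW'c⟩ := grow W hW (by omega)
    exact ⟨W', hW', by omega, hDW.trans hWW'⟩
  · obtain ⟨W, hW, hDW, hWc⟩ := grow D hD (by omega)
    exact ⟨W, hW, by omega, hDW⟩
  · exact ⟨D, hD, h, le_rfl⟩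

theorem gen_three (E : Subgroup X) {A : Subgroup X} (hA8 : Nat.card ↥A = 8) (h2 : 2 ≤ Nat.card ↥(A ⊓ E))
    {p q : X} (hp : p ∈ A) (hq : q ∈ A) (hp1 : p ∉ A ⊓ E) (hq1 : q ∉ (A ⊓ E) ⊔ Subgroup.zpowers p ∨ Nat.card ↥(A ⊓ E) = 4) :
    ∀ D : Subgroup X, A ⊓ E ≤ D → p ∈ D → q ∈ D → A ≤ D := by
  intro D hD hpD hqD
  set W := (A ⊓ E) ⊔ Subgroup.zpowers p with hW
  have hWA : W ≤ A := sup_le inf_le_left (Subgroup.zpowers_le.2 hp)
  have hlt : A ⊓ E < W := lt_of_le_of_ne le_sup_left fun h =>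
    hp1 (h ▸ Subgroup.mem_sup_right (Subgroup.mem_zpowers p))
  have hWD : W ≤ D := sup_le hD (Subgroup.zpowers_le.2 hpD)
  have step : ∀ K L : Subgroup X, K < L → L ≤ A → 2 * Nat.card ↥K ≤ Nat.card ↥L := by
    intro K L hKL _
    obtain ⟨c, hc⟩ := Subgroup.card_dvd_of_le hKL.le
    rcases c with _ | _ | c
    · have := Nat.card_pos (α := ↥L); omega
    · exact absurd (Subgroup.eq_of_le_of_card_ge hKL.le (by omega)) hKL.ne
    · rw [hc]; nlinarith
  have hs1 := step _ _ hlt hWA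
  rcases hq1 with hq1 | hq1
  · have hlt2 : W < W ⊔ Subgroup.zpowers q := lt_of_le_of_ne le_sup_left fun h =>
      hq1 (h.symm ▸ Subgroup.mem_sup_right (Subgroup.mem_zpowers q) :)
    have hA' : W ⊔ Subgroup.zpowers q ≤ A := sup_le hWA (Subgroup.zpowers_le.2 hq)
    have hs2 := step _ _ hlt2 hA'
    rw [← Subgroup.eq_of_le_of_card_ge hA' (by omega)]
    exact sup_le hWD (Subgroup.zpowers_le.2 hqD)
  · rw [← Subgroup.eq_of_le_of_card_ge hWA (by omega)]
    exact hWD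

theorem second_gen (E : Subgroup X) {A : Subgroup X} (hA : Cfsg.IsElementaryAbelian 2 A) (hA8 : Nat.card ↥A = 8)
    {n : ℕ} (_h : Nat.card ↥(A ⊓ E) = n) {p : X} (hp : p ∈ A) (_hp1 : p ∉ A ⊓ E) (h2 : 2 ≤ Nat.card ↥(A ⊓ E)) :
    ∃ q ∈ A, Nat.card ↥(A ⊓ E) = 4 ∨ (∀ D : Subgroup X, A ⊓ E ≤ D → p ∈ D → q ∈ D → A ≤ D) := by
  by_cases h4 : Nat.card ↥(A ⊓ E) = 4
  · exact ⟨p, hp, Or.inl h4⟩
  · have hW : ¬ A ≤ (A ⊓ E) ⊔ Subgroup.zpowers p := by
      intro hle
      have hd := Subgroup.card_dvd_of_le hle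
      rw [hA8] at hd
      obtain ⟨W, hWA, hDW, hWc, hpW⟩ : ∃ W ≤ A, A ⊓ E ≤ W ∧ Nat.card ↥W = 2 * Nat.card ↥(A ⊓ E) ∧ p ∈ W := by
        obtain ⟨B, h1, h2', h3, h4', h5⟩ := adjoin
          (A := A ⊓ E) ⟨⟨⟨fun u v => Subtype.ext (comm_of hA u.2.1 v.2.1)⟩⟩, fun u hu => hA.2 u hu.1⟩
          (sq_of hA hp) (fun v hv => comm_of hA hv.1 hp) _hp1
        refine ⟨B, fun y hy => ?_, h1, h4', h2'⟩
        rcases h5 y hy with h | h
        · exact h.1
        · have := mul_mem h.1 hp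
          rwa [mul_assoc, sq_of hA hp, mul_one] at this
      have hsub : (A ⊓ E) ⊔ Subgroup.zpowers p ≤ W := sup_le hDW (Subgroup.zpowers_le.2 hpW)
      have h8 := Nat.le_of_dvd Nat.card_pos (Subgroup.card_dvd_of_le (hle.trans hsub))
      have hcases : Nat.card ↥(A ⊓ E) ∣ 8 := hA8 ▸ Subgroup.card_dvd_of_le inf_le_left
      have hle8 := Nat.le_of_dvd (by norm_num) hcases
      rw [hA8, hWc] at h8
      have : Nat.card ↥W ≤ 8 := hA8 ▸ Nat.le_of_dvd Nat.card_pos (Subgroup.card_dvd_of_le hWA)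
      omega
    obtain ⟨q, hq, hq1⟩ := SetLike.not_le_iff_exists.1 hW
    exact ⟨q, hq, Or.inr (gen_three E hA8 h2 hp hq _hp1 (Or.inl hq1))⟩

theorem finish (E : Subgroup X) (hE : Cfsg.IsElementaryAbelian 2 E) {A : Subgroup X}
    (hA : Cfsg.IsElementaryAbelian 2 A) (hA8 : Nat.card ↥A = 8) {n : ℕ} (h : Nat.card ↥(A ⊓ E) = n)
    {p q : X} (hp : p ∈ A) (hp1 : p ∉ A ⊓ E) (hq : q ∈ A)
    (hq1 : Nat.card ↥(A ⊓ E) = 4 ∨ (∀ D : Subgroup X, A ⊓ E ≤ D → p ∈ D → q ∈ D → A ≤ D))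
    (h6 : 6 ≤ Nat.card ↥(E ⊓ Subgroup.centralizer ({p} : Set X)))
    (h3 : 3 ≤ Nat.card ↥((E ⊓ Subgroup.centralizer ({p} : Set X)) ⊓ Subgroup.centralizer ({q} : Set X)))
    (hn : n = 2 ∨ n = 4 := by omega) :
    ∃ e ∈ E, e ∉ A ∧ ∀ a ∈ A, a * e = e * a := by
  have main : ∀ e ∈ E, e ∉ A → e * p = p * e → (Nat.card ↥(A ⊓ E) = 4 ∨ e * q = q * e) →
      ∀ a ∈ A, a * e = e * a := by
    intro e heE _ hep heq
    have hD : A ⊓ E ≤ Subgroup.centralizer ({e} : Set X) := fun u hu =>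
      Subgroup.mem_centralizer_singleton_iff.2 (comm_of hE hu.2 heE)
    have hgen : ∀ D : Subgroup X, A ⊓ E ≤ D → p ∈ D → (Nat.card ↥(A ⊓ E) = 4 ∨ q ∈ D) → A ≤ D := by
      intro D h1 h2 hq'
      rcases hq' with h4 | h4
      · exact gen_three E hA8 (by omega) hp hp hp1 (Or.inr h4) D h1 h2 h2
      · rcases hq1 with h5 | h5
        · exact gen_three E hA8 (by omega) hp hp hp1 (Or.inr h5) D h1 h2 h2
        · exact h5 D h1 h2 h4
    intro a ha
    exact Subgroup.mem_centralizer_singleton_iff.1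
      (hgen _ hD (Subgroup.mem_centralizer_singleton_iff.2 hep.symm)
        (heq.imp id fun h' => Subgroup.mem_centralizer_singleton_iff.2 h'.symm) ha)
  by_cases h4 : Nat.card ↥(A ⊓ E) = 4
  · obtain ⟨e, he, he1⟩ := exists_not_mem (F := E ⊓ Subgroup.centralizer ({p} : Set X)) (A := A ⊓ E) (by omega)
    have heA : e ∉ A := fun h' => he1 ⟨h', he.1⟩
    exact ⟨e, he.1, heA, main e he.1 heA (Subgroup.mem_centralizer_singleton_iff.1 he.2) (Or.inl h4)⟩
  · obtain ⟨e, he, he1⟩ := exists_not_mem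
      (F := (E ⊓ Subgroup.centralizer ({p} : Set X)) ⊓ Subgroup.centralizer ({q} : Set X)) (A := A ⊓ E) (by omega)
    have heA : e ∉ A := fun h' => he1 ⟨h', he.1.1⟩
    exact ⟨e, he.1.1, heA, main e he.1.1 heA (Subgroup.mem_centralizer_singleton_iff.1 he.1.2)
      (Or.inr (Subgroup.mem_centralizer_singleton_iff.1 he.2))⟩

theorem find_outside (E : Subgroup X) [E.Normal] (hE : Cfsg.IsElementaryAbelian 2 E) (hE32 : 32 ≤ Nat.card ↥E)
    {A : Subgroup X} (hA : Cfsg.IsElementaryAbelian 2 A) (hA8 : Nat.card ↥A = 8) (hAE : ¬ A ≤ E) :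
    ∃ e ∈ E, e ∉ A ∧ ∀ a ∈ A, a * e = e * a := by
  -- complement `C` of `A ∩ E` in `A`; it suffices to centralize `C`
  have hle := le_inE E hAE hA8
  have hd := Subgroup.card_dvd_of_le (inf_le_left : A ⊓ E ≤ A)
  rw [hA8] at hd
  rcases (show Nat.card ↥(A ⊓ E) = 1 ∨ Nat.card ↥(A ⊓ E) = 2 ∨ Nat.card ↥(A ⊓ E) = 4 by
    have := Nat.card_pos (α := ↥(A ⊓ E)); interval_cases hh : Nat.card ↥(A ⊓ E) <;> omega) with h | h | h
  · -- the whole of `A` must be centralized
    obtain ⟨V, hVA, hV4, -⟩ := sub_four hA hA8 (inf_le_left : A ⊓ E ≤ A) hle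
    obtain ⟨c, hc, hcV⟩ := exists_not_mem (F := A) (A := V) (by omega)
    have hVe : Cfsg.IsElementaryAbelian 2 V :=
      ⟨⟨⟨fun u v => Subtype.ext (comm_of hA (hVA u.2) (hVA v.2))⟩⟩, fun u hu => hA.2 u (hVA hu)⟩
    obtain ⟨a, ha, b, hb, hgen⟩ := four_form hVe hV4
    obtain ⟨-, h3⟩ := fixed_two E hE hE32 a b (sq_of hVe ha) (sq_of hVe hb) (comm_of hVe ha hb)
    set F := (E ⊓ Subgroup.centralizer ({a} : Set X)) ⊓ Subgroup.centralizer ({b} : Set X) with hF
    have hFe : Cfsg.IsElementaryAbelian 2 F :=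
      ⟨⟨⟨fun u v => Subtype.ext (comm_of hE u.2.1.1 v.2.1.1)⟩⟩, fun u hu => hE.2 u hu.1.1⟩
    have hconj : ∀ w ∈ A, ∀ f : X, f * w = w * f → (c * f * c⁻¹) * w = w * (c * f * c⁻¹) := by
      intro w hw f hf
      have hcw : c⁻¹ * w = w * c⁻¹ := by
        rw [inv_eq_of_mul_eq_one_left (sq_of hA hc)]; exact comm_of hA hc hw
      calc (c * f * c⁻¹) * w = c * f * (c⁻¹ * w) := by group
        _ = c * (f * w) * c⁻¹ := by rw [hcw]; group
        _ = (c * w) * f * c⁻¹ := by rw [hf]; group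
        _ = w * (c * f * c⁻¹) := by rw [comm_of hA hc hw]; group
    have hb' := fixed_bound F hFe c (sq_of hA hc) fun f hf => by
      refine ⟨⟨(inferInstance : E.Normal).conj_mem f hf.1.1 c, ?_⟩, ?_⟩
      · exact Subgroup.mem_centralizer_singleton_iff.2 (hconj a (hVA ha) f (Subgroup.mem_centralizer_singleton_iff.1 hf.1.2))
      · exact Subgroup.mem_centralizer_singleton_iff.2 (hconj b (hVA hb) f (Subgroup.mem_centralizer_singleton_iff.1 hf.2))
    obtain ⟨e, he, he1⟩ := exists_not_mem (F := F ⊓ Subgroup.centralizer ({c} : Set X)) (A := (⊥ : Subgroup X)) (by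
      rw [Subgroup.card_bot]
      by_contra hlt
      have : Nat.card ↥(F ⊓ Subgroup.centralizer ({c} : Set X)) ^ 2 ≤ 1 ^ 2 := Nat.pow_le_pow_left (by omega) 2
      omega)
    refine ⟨e, he.1.1.1, fun hA' => he1 ?_, fun w hw => ?_⟩
    · have : A ⊓ E = ⊥ := Subgroup.card_eq_one.1 h
      rw [← this]; exact ⟨hA', he.1.1.1⟩
    · obtain ⟨B, h1, h2, -, h4, -⟩ := adjoin hVe (sq_of hA hc) (fun v hv => comm_of hA (hVA hv) hc) hcV
      have hgenA : ∀ w ∈ A, w ∈ Subgroup.closure ({a, b, c} : Set X) := by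
        intro w hw
        have hle' : Subgroup.closure ({a, b, c} : Set X) ≤ A :=
          (Subgroup.closure_le A).2 (by simp [Set.insert_subset_iff, hVA ha, hVA hb, hc])
        have hV' : V ≤ Subgroup.closure ({a, b, c} : Set X) := fun v hv =>
          Subgroup.closure_mono (by simp [Set.insert_subset_iff]) (hgen v hv)
        have hlt : V < Subgroup.closure ({a, b, c} : Set X) :=
          lt_of_le_of_ne hV' fun h' => hcV (h' ▸ Subgroup.subset_closure (by simp))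
        have hd1 := Subgroup.card_dvd_of_le hle'
        have hd2 := Subgroup.card_dvd_of_le hlt.le
        have hne : Nat.card ↥(Subgroup.closure ({a, b, c} : Set X)) ≠ 4 := fun h' =>
          hlt.ne (Subgroup.eq_of_le_of_card_ge hlt.le (by rw [h', hV4]))
        rw [hA8] at hd1
        rw [hV4] at hd2
        have h8 : Nat.card ↥(Subgroup.closure ({a, b, c} : Set X)) = 8 := by
          have := Nat.le_of_dvd (by norm_num) hd1
          interval_cases hh : Nat.card ↥(Subgroup.closure ({a, b, c} : Set X)) <;> omega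
        rw [Subgroup.eq_of_le_of_card_ge hle' (by rw [h8, hA8])]
        exact hw
      have h1' : Subgroup.closure ({a, b, c} : Set X) ≤ Subgroup.centralizer ({e} : Set X) := by
        rw [Subgroup.closure_le]
        rintro w (rfl | rfl | rfl)
        · exact Subgroup.mem_centralizer_singleton_iff.2 (Subgroup.mem_centralizer_singleton_iff.1 he.1.1.2).symm
        · exact Subgroup.mem_centralizer_singleton_iff.2 (Subgroup.mem_centralizer_singleton_iff.1 he.1.2).symm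
        · exact Subgroup.mem_centralizer_singleton_iff.2 (Subgroup.mem_centralizer_singleton_iff.1 he.2).symm
      exact Subgroup.mem_centralizer_singleton_iff.1 (h1' (hgenA w hw))
  all_goals
    -- a four-subgroup meeting `E` in one coset or trivially
    obtain ⟨p, hp, hp1⟩ := exists_not_mem (F := A) (A := A ⊓ E) (by omega)
    obtain ⟨q, hq, hq1⟩ : ∃ q ∈ A, Nat.card ↥(A ⊓ E) = 4 ∨ (∀ D : Subgroup X, A ⊓ E ≤ D → p ∈ D → q ∈ D → A ≤ D) := by
      exact second_gen E hA hA8 h hp hp1 (by omega)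
    obtain ⟨h6, h3⟩ := fixed_two E hE hE32 p q (sq_of hA hp) (sq_of hA hq) (comm_of hA hp hq)
    exact finish E hE hA hA8 h hp hp1 hq hq1 h6 h3

/-- Move towards `E` one step. -/
theorem improve (E : Subgroup X) [E.Normal] (hE : Cfsg.IsElementaryAbelian 2 E) (hE32 : 32 ≤ Nat.card ↥E)
    (A : Subgroup X) (hA : Cfsg.IsElementaryAbelian 2 A) (hA8 : Nat.card ↥A = 8) (hAE : ¬ A ≤ E) :
    ∃ B : Subgroup X, Step A B ∧ Nat.card ↥(A ⊓ E) < Nat.card ↥(B ⊓ E) := by
  -- a four-subgroup `V ≥ A ∩ E` and an element of `E` centralizing `A` outside `A`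
  obtain ⟨e, heE, heA, hec⟩ : ∃ e ∈ E, e ∉ A ∧ ∀ a ∈ A, a * e = e * a := by
    exact find_outside E hE hE32 hA hA8 hAE
  obtain ⟨V, hVA, hV4, hAV⟩ : ∃ V ≤ A, Nat.card ↥V = 4 ∧ A ⊓ E ≤ V := sub_four hA hA8 (inf_le_left) (le_inE E hAE hA8)
  have hVe : Cfsg.IsElementaryAbelian 2 V :=
    ⟨⟨⟨fun u v => Subtype.ext (comm_of hA (hVA u.2) (hVA v.2))⟩⟩, fun u hu => hA.2 u (hVA hu)⟩
  obtain ⟨B, h1, h2, h3, h4, h5⟩ := adjoin hVe (sq_of hE heE) (fun v hv => hec v (hVA hv)) (fun h => heA (hVA h))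
  refine ⟨B, ⟨hA, hA8, h3, by omega, ?_⟩, ?_⟩
  · rw [Subgroup.commutator_eq_bot_iff_le_centralizer]
    intro a ha
    rw [Subgroup.mem_centralizer_iff]
    intro y hy
    rcases h5 y hy with h | h
    · exact comm_of hA (hVA h) ha
    · have hcomm : (y * e) * a = a * (y * e) := comm_of hA (hVA h) ha
      have hye : y = (y * e) * e := by rw [mul_assoc, sq_of hE heE, mul_one]
      rw [hye, mul_assoc, ← hec a ha, ← mul_assoc, hcomm, mul_assoc]
  · refine lt_of_le_of_ne (Nat.le_of_dvd Nat.card_pos (Subgroup.card_dvd_of_le (le_inf (hAV.trans h1) inf_le_right))) fun h => heA ?_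
    have := Subgroup.eq_of_le_of_card_ge (le_inf (hAV.trans h1) inf_le_right : A ⊓ E ≤ B ⊓ E) h.ge
    have he : e ∈ A ⊓ E := by rw [this]; exact ⟨h2, heE⟩
    exact he.1

theorem reach (E : Subgroup X) [E.Normal] (hE : Cfsg.IsElementaryAbelian 2 E) (hE32 : 32 ≤ Nat.card ↥E)
    (A : Subgroup X) (hA : Cfsg.IsElementaryAbelian 2 A) (hA8 : Nat.card ↥A = 8) :
    ∃ A' : Subgroup X, (A' ≤ E ∧ Cfsg.IsElementaryAbelian 2 A' ∧ Nat.card ↥A' = 8) ∧ Relation.ReflTransGen Step A A' := by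
  induction hm : 8 - Nat.card ↥(A ⊓ E) using Nat.strong_induction_on generalizing A with
  | h m ih =>
    by_cases hAE : A ≤ E
    · exact ⟨A, ⟨hAE, hA, hA8⟩, Relation.ReflTransGen.refl⟩
    · obtain ⟨B, hstep, hlt⟩ := improve E hE hE32 A hA hA8 hAE
      have hB8 : Nat.card ↥(B ⊓ E) ≤ 8 := hstep.2.2.2.1 ▸ Nat.le_of_dvd Nat.card_pos (Subgroup.card_dvd_of_le inf_le_left)
      obtain ⟨A', h1, h2⟩ := ih (8 - Nat.card ↥(B ⊓ E)) (by omega) B hstep.2.2.1 hstep.2.2.2.1 rfl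
      exact ⟨A', h1, Relation.ReflTransGen.head hstep h2⟩


/-- Let X be a finite 2-group having a normal elementary abelian subgroup of order at least 32. Then (a) for any two elementary abelian subgroups A, B of X of order 8 there is a chain A = A₁, A₂, …, Aₙ = B of elementary abelian subgroups of order 8 in which consecutive members commute elementwise; and (b) every elementary abelian subgroup of X of order 4 is contained in an elementary abelian subgroup of order 8. -/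
theorem result {X : Type*} [Group X] [Finite X]
    (hX : IsPGroup 2 X) (E : Subgroup X) [E.Normal] (hE : Cfsg.IsElementaryAbelian 2 E) (hE32 : 32 ≤ Nat.card ↥E) :
    (∀ A B : Subgroup X, Cfsg.IsElementaryAbelian 2 A → Nat.card ↥A = 8 → Cfsg.IsElementaryAbelian 2 B → Nat.card ↥B = 8 →
        Relation.ReflTransGen
          (fun C D : Subgroup X => Cfsg.IsElementaryAbelian 2 C ∧ Nat.card ↥C = 8 ∧ Cfsg.IsElementaryAbelian 2 D ∧ Nat.card ↥D = 8 ∧ ⁅C, D⁆ = ⊥)
          A B) ∧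
      (∀ V : Subgroup X, Cfsg.IsElementaryAbelian 2 V → Nat.card ↥V = 4 →
        ∃ A : Subgroup X, V ≤ A ∧ Cfsg.IsElementaryAbelian 2 A ∧ Nat.card ↥A = 8) := by
  classical
  have := Fact.mk Nat.prime_two
  refine ⟨?_, fun V hV hV4 => extend_four E hE hE32 V hV hV4⟩
  intro A B hA hA8 hB hB8
  obtain ⟨A', hA'E, hA'r⟩ := reach E hE hE32 A hA hA8
  obtain ⟨B', hB'E, hB'r⟩ := reach E hE hE32 B hB hB8
  have hmid : ⁅A', B'⁆ = ⊥ := by
    rw [Subgroup.commutator_eq_bot_iff_le_centralizer]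
    intro a ha
    rw [Subgroup.mem_centralizer_iff]
    intro b hb
    have := hE.1
    exact congrArg Subtype.val (mul_comm' (⟨b, hB'E.1 hb⟩ : ↥E) ⟨a, hA'E.1 ha⟩)
  refine hA'r.trans (Relation.ReflTransGen.head ⟨hA'E.2.1, hA'E.2.2, hB'E.2.1, hB'E.2.2, hmid⟩ ?_)
  exact by
    clear hmid hA'r hB'E
    induction hB'r with
    | refl => exact Relation.ReflTransGen.refl
    | tail _ h ih =>
      exact Relation.ReflTransGen.head ⟨h.2.2.1, h.2.2.2.1, h.1, h.2.1, by rw [Subgroup.commutator_comm]; exact h.2.2.2.2⟩ ih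

end Cfsg.Agent.S1785
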