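import Cfsg.Statements.S1786
import Cfsg.Agent.Lib.TIPair.Quotient

set_option autoImplicit false
open Cfsg

namespace Cfsg.Agent.S1786

/-- Let G be a finite group, V an elementary abelian 2-subgroup of G and M the normalizer of V; write Q for the largest normal 2-subgroup of M. Suppose (1) the generalized Fitting subgroup of M equals Q; (2) V is a maximal abelian normal subgroup of M; (3) every conjugate of V equals V or meets V trivially, and for some g ∈ G the conjugate V' = g V g⁻¹ is different from V and contained in Q. Let P be the centralizer of V in Q, W the subgroup generated by V and V', and H the subgroup generated by P and g P g⁻¹. Then: (a) V is contained in g Q g⁻¹; (b) every non-identity element of W lies in exactly one conjugate of V contained in W, H normalizes W, and H modulo the centralizer of W in H is isomorphic to the special linear group of dimension 2 over the field with |V| elements; (c) P = Q, and V equals the Frattini subgroup,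 the centre and the commutator subgroup of Q. -/
theorem result {G : Type*} [Group G] [Finite G] (V : Subgroup G)
    (hV : Cfsg.IsElementaryAbelian 2 V)
    (h1 : (Cfsg.generalizedFittingSubgroup ↥(Subgroup.normalizer (V : Set G))).map (Subgroup.normalizer (V : Set G)).subtype =
      (Cfsg.pCore 2 ↥(Subgroup.normalizer (V : Set G))).map (Subgroup.normalizer (V : Set G)).subtype)
    (h2 : ∀ A : Subgroup G, V ≤ A → A ≤ Subgroup.normalizer (V : Set G) → IsMulCommutative ↥A →
      (∀ m ∈ Subgroup.normalizer (V : Set G), ∀ a ∈ A, m * a * m⁻¹ ∈ A) → A = V)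
    (hti : ∀ x : G, V.map (MulAut.conj x).toMonoidHom = V ∨ V.map (MulAut.conj x).toMonoidHom ⊓ V = ⊥)
    (g : G) (hg : V.map (MulAut.conj g).toMonoidHom ≠ V)
    (hgQ : V.map (MulAut.conj g).toMonoidHom ≤ (Cfsg.pCore 2 ↥(Subgroup.normalizer (V : Set G))).map (Subgroup.normalizer (V : Set G)).subtype) :
    let Q : Subgroup G := (Cfsg.pCore 2 ↥(Subgroup.normalizer (V : Set G))).map (Subgroup.normalizer (V : Set G)).subtype
    let P : Subgroup G := Q ⊓ Subgroup.centralizer (V : Set G)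
    let W : Subgroup G := V ⊔ V.map (MulAut.conj g).toMonoidHom
    let H : Subgroup G := P ⊔ P.map (MulAut.conj g).toMonoidHom
    V ≤ Q.map (MulAut.conj g).toMonoidHom ∧
      (∀ w ∈ W, w ≠ 1 → ∃! U : Subgroup G, (∃ x : G, U = V.map (MulAut.conj x).toMonoidHom) ∧ U ≤ W ∧ w ∈ U) ∧
      H ≤ Subgroup.normalizer (W : Set G) ∧
      (∀ hN : ((Subgroup.centralizer (W : Set G)).subgroupOf H).Normal, ∃ (F : Type) (_ : Field F) (_ : Fintype F), Fintype.card F = Nat.card ↥V ∧
        Nonempty (↥H ⧸ (Subgroup.centralizer (W : Set G)).subgroupOf H ≃* Matrix.SpecialLinearGroup (Fin 2) F)) ∧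
      P = Q ∧ (frattini ↥Q).map Q.subtype = V ∧ (Subgroup.center ↥Q).map Q.subtype = V ∧ (commutator ↥Q).map Q.subtype = V := by
  intro Q P W H
  have hne : V ≠ ⊥ := fun hb => hg (by rw [hb, Subgroup.map_bot])
  have h : Cfsg.Lib.TIPair.Hyp V :=
    { comm := fun a ha b hb => congrArg Subtype.val (hV.1.is_comm.comm (⟨a, ha⟩ : ↥V) ⟨b, hb⟩)
      sq := fun a ha => by
        simpa [pow_two] using hV.2 a ha
      ne_bot := hne
      char_two := fun x hx hc => by
        have hF : (⟨x, hx⟩ : ↥(Subgroup.normalizer (V : Set G))) ∈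
            Cfsg.generalizedFittingSubgroup ↥(Subgroup.normalizer (V : Set G)) := by
          refine Cfsg.Lib.Core.centralizer_generalizedFitting_le ?_
          refine Subgroup.mem_centralizer_iff.2 fun f hf => Subtype.ext ?_
          have hf' : (f : G) ∈ Cfsg.Lib.TIPair.Qg V := by
            show (f : G) ∈ (Cfsg.pCore 2 ↥(Subgroup.normalizer (V : Set G))).map _
            rw [← h1]
            exact ⟨f, hf, rfl⟩
          exact Cfsg.Lib.TIPair.mem_centralizer'.1 hc _ hf'
        show x ∈ (Cfsg.pCore 2 ↥(Subgroup.normalizer (V : Set G))).map _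
        rw [← h1]
        exact ⟨_, hF, rfl⟩
      max_abelian := fun A hVA hAM hA hn =>
        h2 A hVA hAM ⟨⟨fun a b => Subtype.ext (hA a a.2 b b.2)⟩⟩ hn
      ti := hti }
  have hU : Cfsg.Lib.TIPair.Member V (Cfsg.Lib.TIPair.cj g V) := ⟨⟨g, rfl⟩, hg, h.le_Pg_of_le_Qg hgQ⟩
  have hUh := hU.hyp h
  have hQP : Q = P := hU.Qg_eq h
  have hVQ : V ≤ Q := h.V_le_Qg
  have hQm : ∀ q, q ∈ Q → q ∈ Cfsg.Lib.TIPair.Pg V := fun q hq => hQP.le hq
  have hcg : Cfsg.Lib.TIPair.Pg (Cfsg.Lib.TIPair.cj g V) = P.map (MulAut.conj g).toMonoidHom :=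
    Cfsg.Lib.TIPair.Pg_cj g V
  refine ⟨?_, ?_, ?_, ?_, hQP.symm, ?_, ?_, ?_⟩
  · refine (hU.V_le_Pg h).trans (le_of_eq_of_le hcg ?_)
    exact Subgroup.map_mono inf_le_left
  · intro w hw hw1
    have hex : ∃ U : Subgroup G, (∃ x : G, U = Cfsg.Lib.TIPair.cj x V) ∧ U ≤ W ∧ w ∈ U := by
      rcases hU.cover h hw with hv | ⟨p, hp, hwp⟩
      · exact ⟨V, ⟨1, (Cfsg.Lib.TIPair.cj_one V).symm⟩, le_sup_left, hv⟩
      · exact ⟨_, ⟨p * g, Cfsg.Lib.TIPair.cj_cj p g V⟩, hU.cj_le_sup h hp, hwp⟩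
    obtain ⟨U, hUc, hUW, hwU⟩ := hex
    refine ⟨U, ⟨hUc, hUW, hwU⟩, ?_⟩
    rintro U' ⟨⟨x', rfl⟩, -, hwU'⟩
    obtain ⟨x, rfl⟩ := hUc
    exact h.ti' hwU' hwU hw1
  · refine sup_le (hU.le_normalizer_sup h) (le_of_eq_of_le hcg.symm ?_)
    show _ ≤ Subgroup.normalizer ((V ⊔ Cfsg.Lib.TIPair.cj g V : Subgroup G) : Set G)
    rw [sup_comm V]
    exact (hU.symm h).le_normalizer_sup hUh
  · intro hN
    have key := Cfsg.Lib.TIPair.exists_quotient_iso h hU
    rw [hcg] at key
    exact key hN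
  · haveI : Fact (Nat.Prime 2) := ⟨Nat.prime_two⟩
    have hQ2 : IsPGroup 2 ↥Q := Cfsg.Lib.TIPair.isPGroup_Qg V
    refine le_antisymm ?_ ?_
    · have hle : frattini ↥Q ≤ V.subgroupOf Q := by
        refine Cfsg.Lib.PGroup.frattini_le_of_commutator_le_of_pow_mem (p := 2) ?_ fun q => ?_
        · rw [commutator_def, Subgroup.commutator_le]
          exact fun a _ b _ => h.commutator_mem (hQm _ a.2) (hQm _ b.2)
        · show ((q ^ 2 : ↥Q) : G) ∈ V
          rw [pow_two]
          exact h.sq_mem (hQm _ q.2)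
      exact (Subgroup.map_mono hle).trans (by rw [Subgroup.map_subgroupOf_eq_of_le hVQ])
    · intro v hv
      obtain ⟨⟨u, hu⟩, hu1⟩ := Subgroup.ne_bot_iff_exists_ne_one.1 hUh.ne_bot
      obtain ⟨p, hp, rfl⟩ := hU.exists_commutator_left h hu (fun e => hu1 (Subtype.ext e)) hv
      exact ⟨_, Cfsg.Lib.PGroup.commutator_le_frattini hQ2
        (Subgroup.commutator_mem_commutator (Subgroup.mem_top (⟨p, hp.1⟩ : ↥Q))
          (Subgroup.mem_top (⟨u, (hU.le hu).1⟩ : ↥Q))), rfl⟩
  · refine le_antisymm ?_ fun v hv => ⟨⟨v, hVQ hv⟩, ?_, rfl⟩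
    · rintro _ ⟨x, hx, rfl⟩
      refine h.center_Pg (hQm _ x.2) fun p hp => ?_
      exact congrArg Subtype.val (Subgroup.mem_center_iff.1 hx ⟨p, hp.1⟩)
    · exact Subgroup.mem_center_iff.2 fun q => Subtype.ext
        (Cfsg.Lib.TIPair.Pg_commute_V (hQm _ q.2) hv).symm
  · refine le_antisymm ?_ ?_
    · rw [commutator_def, Subgroup.map_commutator, Subgroup.commutator_le]
      rintro _ ⟨a, -, rfl⟩ _ ⟨b, -, rfl⟩
      exact h.commutator_mem (hQm _ a.2) (hQm _ b.2)
    · intro v hv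
      obtain ⟨⟨u, hu⟩, hu1⟩ := Subgroup.ne_bot_iff_exists_ne_one.1 hUh.ne_bot
      obtain ⟨p, hp, rfl⟩ := hU.exists_commutator_left h hu (fun e => hu1 (Subtype.ext e)) hv
      exact ⟨_, Subgroup.commutator_mem_commutator (Subgroup.mem_top (⟨p, hp.1⟩ : ↥Q))
        (Subgroup.mem_top (⟨u, (hU.le hu).1⟩ : ↥Q)), rfl⟩

end Cfsg.Agent.S1786
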