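import Cfsg.Statements.S1850
import Cfsg.Agent.Lib.CharTwoIn
open Cfsg.Lib.CharTwoIn

set_option autoImplicit false
open Cfsg

namespace Cfsg.Agent.S1850

/-- Let G be a non-abelian finite simple QTKE-group and T a Sylow 2-subgroup of G. If U is a nontrivial 2-subgroup of G with U ∩ Z(T) ≠ 1, then F*(N_G(U)) = O₂(N_G(U)). -/
theorem result {G : Type*} [Group G] [Finite G] [IsSimpleGroup G]
    (hG : ¬ IsMulCommutative G) (hQ : Cfsg.IsQTKE G) (T : Sylow 2 G) (U : Subgroup G)
    (hU : IsPGroup 2 ↥U) (hZ : U ⊓ ((T : Subgroup G) ⊓ Subgroup.centralizer ((T : Subgroup G) : Set G)) ≠ ⊥) :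
    Subgroup.normalizer (U : Set G) ∈ Cfsg.calHe G := by
  obtain ⟨-, -, heven⟩ := hQ
  have := Fact.mk Nat.prime_two
  obtain ⟨x, hx, hxne⟩ := (Subgroup.bot_or_exists_ne_one _).resolve_left hZ
  obtain ⟨k, hk⟩ := hU ⟨x, hx.1⟩
  -- an involution in `U` centralizing `T`
  have hxo : orderOf x ∣ 2 ^ k := orderOf_dvd_of_pow_eq_one (by
    simpa using congrArg (fun w : ↥U => (w : G)) hk)
  have h2 : 2 ∣ orderOf x := by
    obtain ⟨j, -, hj⟩ := (Nat.dvd_prime_pow Nat.prime_two).1 hxo
    rcases j with _ | j
    · rw [pow_zero, orderOf_eq_one_iff] at hj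
      exact absurd hj hxne
    · rw [hj]; exact dvd_pow_self 2 (Nat.succ_ne_zero j)
  set z := x ^ (orderOf x / 2) with hzdef
  have hz : orderOf z = 2 := orderOf_pow_orderOf_div (orderOf_pos x).ne' h2
  have hzU : Subgroup.zpowers z ≤ U := Subgroup.zpowers_le.2 (pow_mem hx.1 _)
  have hzp : IsPGroup 2 ↥(Subgroup.zpowers z) := hU.to_le hzU
  have hzne : Subgroup.zpowers z ≠ ⊥ := by
    rw [Ne, Subgroup.zpowers_eq_bot]
    rintro h
    simp [h] at hz
  have hzT : (T : Subgroup G) ≤ Subgroup.centralizer (Subgroup.zpowers z : Set G) := by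
    rw [Subgroup.le_centralizer_iff, Subgroup.zpowers_le]
    exact pow_mem hx.2.2 _
  have base : CharTwoIn (Subgroup.centralizer (Subgroup.zpowers z : Set G)) := by
    refine charTwoIn_down (two_local_of_sylow heven T hzp hzne
      (hzT.trans (Subgroup.centralizer_le_normalizer _)))
      (Subgroup.centralizer_le_normalizer _) ?_
    exact normalizer_le_normalizer_centralizer' _
  have up : ∀ P : Subgroup G, IsPGroup 2 P → CharTwoIn (Subgroup.centralizer (P : Set G)) →
      CharTwoIn (Subgroup.normalizer (P : Set G)) := fun P hP h =>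
    charTwoIn_up h (Subgroup.centralizer_le_normalizer _) (normalizer_le_normalizer_centralizer' P)
      (inf_le_right.trans (Subgroup.centralizer_le
        (le_core Subgroup.le_normalizer hP le_rfl)))
  have climb : ∀ P : Subgroup G, P ≤ U → CharTwoIn (Subgroup.centralizer (P : Set G)) →
      CharTwoIn (Subgroup.centralizer (U : Set G)) := by
    intro P
    induction P using WellFoundedGT.induction with
    | ind P ih =>
      intro hPU h
      rcases eq_or_lt_of_le hPU with rfl | hlt
      · exact h
      · have hnu := hU.isNilpotent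
        have hne : P.subgroupOf U ≠ ⊤ := fun h => hlt.not_ge (Subgroup.subgroupOf_eq_top.1 h)
        have hgt := Group.normalizerCondition_of_isNilpotent (G := U) (P.subgroupOf U) hne.lt_top
        set P' := (Subgroup.normalizer ((P.subgroupOf U : Subgroup U) : Set U)).map U.subtype with hP'
        have hPP' : P < P' := by
          have := (Subgroup.map_lt_map_iff_of_injective U.subtype_injective).2 hgt
          rwa [Subgroup.subgroupOf_map_subtype, inf_eq_left.2 hPU] at this
        have hP'N : P' ≤ Subgroup.normalizer (P : Set G) := by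
          refine (Subgroup.le_normalizer_map U.subtype).trans ?_
          rw [Subgroup.subgroupOf_map_subtype, inf_eq_left.2 hPU]
        refine ih P' hPP' (Subgroup.map_subtype_le _) ?_
        exact charTwoIn_local (up P (hU.to_le hPU) h) hP'N (hU.to_le (Subgroup.map_subtype_le _))
          ((Subgroup.centralizer_le hPP'.le).trans (Subgroup.centralizer_le_normalizer _))
          (Subgroup.centralizer_le_normalizer _) inf_le_right (Or.inr le_rfl)
  exact Cfsg.Lib.Core.generalizedFitting_eq_pCore_iff.2
    (isOfCharacteristicTwo_of (up U hU (climb _ hzU base)))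

end Cfsg.Agent.S1850
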