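import Cfsg.Statements.S1851
import Cfsg.Agent.Lib.CharTwoIn
open Cfsg.Lib.CharTwoIn

set_option autoImplicit false
open Cfsg

namespace Cfsg.Agent.S1851

open scoped commutatorElement

theorem omega_le {G : Type*} [Group G] (X : Subgroup G) : Cfsg.omegaOne 2 X ≤ X :=
  (Subgroup.closure_le X).2 fun _ hx => hx.1

theorem mem_omega {G : Type*} [Group G] {X : Subgroup G} {x : G} (hx : x ∈ X) (h : x ^ 2 = 1) :
    x ∈ Cfsg.omegaOne 2 X := Subgroup.subset_closure ⟨hx, h⟩

theorem omega_sq {G : Type*} [Group G] {A : Subgroup G} {x : G}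
    (hx : x ∈ Cfsg.omegaOne 2 (A ⊓ Subgroup.centralizer (A : Set G))) : x ^ 2 = 1 := by
  let S : Subgroup G :=
    { carrier := {y | y ∈ A ⊓ Subgroup.centralizer (A : Set G) ∧ y ^ 2 = 1}
      one_mem' := ⟨one_mem _, one_pow 2⟩
      mul_mem' := fun {a b} ha hb => ⟨mul_mem ha.1 hb.1, by
        have hab : Commute a b := Subgroup.mem_centralizer_iff.1 hb.1.2 a ha.1.1
        rw [hab.mul_pow, ha.2, hb.2, one_mul]⟩
      inv_mem' := fun {a} ha => ⟨inv_mem ha.1, by rw [inv_pow, ha.2, inv_one]⟩ }
  exact ((Subgroup.closure_le S).2 (fun y hy => hy) hx).2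

theorem normalizer_le_omega {G : Type*} [Group G] (A : Subgroup G) :
    Subgroup.normalizer (A : Set G) ≤
      Subgroup.normalizer ((Cfsg.omegaOne 2 (A ⊓ Subgroup.centralizer (A : Set G)) : Subgroup G) : Set G) := by
  refine le_trans ?_ (Subgroup.normalizer_le_normalizer_closure _)
  intro g hg
  rw [Subgroup.mem_set_normalizer_iff]
  intro y
  simp only [Set.mem_setOf_eq, Subgroup.mem_inf]
  rw [conj_pow, conj_eq_one_iff]
  exact and_congr_left fun _ => and_congr (Subgroup.mem_normalizer_iff.1 hg y)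
    (Subgroup.mem_normalizer_iff.1 (normalizer_le_normalizer_centralizer' A hg) y)

theorem perfect_oddGenerated {G : Type*} [Group G] [Finite G] {K : Subgroup G} (hK : ⁅K, K⁆ = K) :
    Cfsg.oddGenerated K = K := by
  have := Fact.mk Nat.prime_two
  refine le_antisymm ((Subgroup.closure_le K).2 fun x hx => hx.1) ?_
  set O := Cfsg.oddGenerated K with hO
  have hOK : O ≤ K := (Subgroup.closure_le K).2 fun x hx => hx.1
  have hn : (O.subgroupOf K).Normal := by
    rw [Subgroup.normal_subgroupOf_iff_le_normalizer hOK]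
    refine le_trans ?_ (Subgroup.normalizer_le_normalizer_closure _)
    intro g hg
    rw [Subgroup.mem_set_normalizer_iff]
    intro y
    simp only [Set.mem_setOf_eq]
    rw [show g * y * g⁻¹ = MulAut.conj g y from rfl, MulEquiv.orderOf_eq]
    exact and_congr_left fun _ => Subgroup.mem_normalizer_iff.1 (Subgroup.le_normalizer hg) y
  have hp : IsPGroup 2 (↥K ⧸ O.subgroupOf K) := by
    intro q
    obtain ⟨x, rfl⟩ := QuotientGroup.mk'_surjective (O.subgroupOf K) q
    obtain ⟨k, m, hm, hkm⟩ := Nat.exists_eq_two_pow_mul_odd (orderOf_pos x).ne'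
    refine ⟨k, ?_⟩
    rw [← map_pow, QuotientGroup.mk'_apply, QuotientGroup.eq_one_iff, Subgroup.mem_subgroupOf]
    refine Subgroup.subset_closure ⟨(x ^ 2 ^ k).2, ?_⟩
    rw [Subgroup.orderOf_coe, orderOf_pow' _ (pow_ne_zero k two_ne_zero), hkm,
      Nat.gcd_mul_right_left, Nat.mul_div_cancel_left _ (pow_pos two_pos k)]
    exact hm
  by_contra hne
  have : Group.IsPerfect ↥K := Subgroup.isPerfect_iff.2 hK
  have hnt : Nontrivial (↥K ⧸ O.subgroupOf K) := by
    refine (QuotientGroup.nontrivial_iff).2 fun h => hne (Subgroup.subgroupOf_eq_top.1 h)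
  have := hp.isNilpotent
  have : Group.IsPerfect (↥K ⧸ O.subgroupOf K) := inferInstance
  exact Group.IsPerfect.not_isSolvable _ (inferInstance : Group.IsSolvable (↥K ⧸ O.subgroupOf K))

theorem charTwo_data {G : Type*} [Group G] [Finite G] (heven : Cfsg.IsOfEvenCharacteristic G)
    (T : Sylow 2 G) {K : Subgroup G} (hK : K ∈ Cfsg.calL (T : Subgroup G)) :
    CharTwoIn (K ⊔ (T : Subgroup G)) ∧ CharTwoIn K ∧ ⁅K, K⁆ = K ∧
      Cfsg.pCoreTwoOf (K ⊔ (T : Subgroup G)) ≤ (T : Subgroup G) ∧
      Cfsg.pCoreTwoOf (K ⊔ (T : Subgroup G)) ≤ Subgroup.normalizer (K : Set G) ∧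
      (K.subgroupOf (K ⊔ (T : Subgroup G))).IsSubnormal := by
  have := Fact.mk Nat.prime_two
  obtain ⟨⟨-, hperf', hsub, -⟩, hPex, hne⟩ := hK
  set H := K ⊔ (T : Subgroup G) with hH
  obtain ⟨P, hP⟩ := hPex
  have hle : K ≤ H := le_sup_left
  set S := Cfsg.pCoreTwoOf H with hS
  have hperf : ⁅K, K⁆ = K := by
    have := congrArg (fun J : Subgroup ↥H => J.map H.subtype) hperf'
    simpa only [Subgroup.map_commutator, Subgroup.subgroupOf_map_subtype,
      inf_eq_left.2 hle] using this
  have hST : S ≤ (T : Subgroup G) := by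
    rintro _ ⟨s, hs, rfl⟩
    have h1 := Cfsg.Lib.Core.pCore_le_sylow P hs
    exact (SetLike.ext_iff.1 hP s).1 h1
  have hSne : S ≠ ⊥ := by
    rw [hS, Ne, Cfsg.pCoreTwoOf, Subgroup.map_eq_bot_iff_of_injective _ H.subtype_injective]
    exact hne
  have hHS : H ≤ Subgroup.normalizer (S : Set G) := le_normalizer_core H
  have hM : CharTwoIn (Subgroup.normalizer (S : Set G)) :=
    two_local_of_sylow heven T (core_isPGroup H) hSne (le_sup_right.trans hHS)
  have hH2 : CharTwoIn H := by
    intro y hy hodd hc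
    refine hM y (hHS hy) hodd fun q hq => hc q ?_
    -- the 2-core of the local lies in `T`
    obtain ⟨q', hq', rfl⟩ := hq
    have hqT : (q' : G) ∈ (T : Subgroup G) :=
      Cfsg.Lib.Core.pCore_le_sylow (T.subtype (le_sup_right.trans hHS)) hq'
    have hle : Cfsg.pCoreTwoOf (Subgroup.normalizer (S : Set G)) ≤ S := by
      have hsubH : Cfsg.pCoreTwoOf (Subgroup.normalizer (S : Set G)) ≤ H := by
        rintro _ ⟨w, hw, rfl⟩
        exact Subgroup.mem_sup_right
          (Cfsg.Lib.Core.pCore_le_sylow (T.subtype (le_sup_right.trans hHS)) hw :)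
      exact le_core hsubH (core_isPGroup _) (hHS.trans (le_normalizer_core _))
    exact hle ⟨q', hq', rfl⟩
  refine ⟨hH2, ?_, hperf, hST, ?_, hsub⟩
  · have h1 := charTwoIn_of_subnormal hH2 hsub
    rwa [Subgroup.subgroupOf_map_subtype, inf_eq_left.2 (le_sup_left : K ≤ H)] at h1
  · have h1 := normal_solvable_le_normalizer_subnormal_perfect
      (R := Cfsg.pCore 2 ↥H)
      (by
        have := (Cfsg.Lib.Core.pCore_isPGroup 2 ↥H).isNilpotent
        infer_instance) hsub hperf'
    have h2 := (Subgroup.map_mono (f := H.subtype) h1).trans (Subgroup.le_normalizer_map H.subtype)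
    rwa [Subgroup.subgroupOf_map_subtype, inf_eq_left.2 (le_sup_left : K ≤ H)] at h2

theorem faithful_up {G : Type*} [Group G] [Finite G] (heven : Cfsg.IsOfEvenCharacteristic G)
    (T : Sylow 2 G) {L K : Subgroup G} (hL : L ∈ Cfsg.calLf (T : Subgroup G))
    (hK : K ∈ Cfsg.calL (T : Subgroup G)) (hLK : L ≤ K) : K ∈ Cfsg.calXf G := by
  have := Fact.mk Nat.prime_two
  obtain ⟨hK2, hKc, hKperf, hST, hSK, -⟩ := charTwo_data heven T hK
  obtain ⟨-, -, hLperf, hRT, hRL, -⟩ := charTwo_data heven T hL.1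
  have hK0 : K ≠ ⊥ := fun h => hK.1.1 (by rw [h, Subgroup.bot_subgroupOf])
  refine ⟨⟨hK0, ?_, Cfsg.Lib.Core.generalizedFitting_eq_pCore_iff.2 (isOfCharacteristicTwo_of hKc)⟩, ?_⟩
  · -- perfect implies generated by elements of odd order
    exact perfect_oddGenerated hKperf
  intro hV
  refine hL.2.2 ?_
  set H := K ⊔ (T : Subgroup G) with hH
  set S := Cfsg.pCoreTwoOf H with hS
  set R := Cfsg.pCoreTwoOf (L ⊔ (T : Subgroup G)) with hR
  set A := Cfsg.pCoreTwoOf L with hA
  set B := Cfsg.pCoreTwoOf K with hB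
  -- Step 1: the involutions of Z(S) centralize K
  have hSB : B ≤ S := by
    have h2 : (B.subgroupOf H).IsSubnormal := by
      refine Cfsg.Lib.Core.isSubnormal_of_normal_subgroupOf (K := K.subgroupOf H)
        (Subgroup.comap_mono (core_le K)) hK.1.2.2.1 ?_
      refine (Subgroup.normal_subgroupOf_iff_le_normalizer (Subgroup.comap_mono (core_le K))).2 ?_
      exact (Subgroup.comap_mono (le_normalizer_core K)).trans (Subgroup.le_normalizer_comap _)
    intro b hb
    refine ⟨⟨b, le_sup_left (a := K) (core_le K hb)⟩, ?_, rfl⟩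
    exact Cfsg.Lib.Core.le_pCore_of_isSubnormal h2
      (IsPGroup.comap_of_injective (core_isPGroup K) H.subtype H.subtype_injective)
      (Subgroup.mem_subgroupOf.2 hb)
  set WS := Cfsg.omegaOne 2 (S ⊓ Subgroup.centralizer (S : Set G)) with hWS
  set WK := Cfsg.omegaOne 2 (B ⊓ Subgroup.centralizer (B : Set G)) with hWK
  have hKWS : K ≤ Subgroup.normalizer (WS : Set G) :=
    (le_sup_left.trans (le_normalizer_core H)).trans (normalizer_le_omega _)
  have hWSS : WS ≤ S := (omega_le _).trans inf_le_left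
  have hWSK : ⁅WS, K⁆ = ⊥ := by
    refine Cfsg.Lib.Core.commutator_eq_bot_of_perfect hKperf ?_
    refine le_bot_iff.1 (le_trans (Subgroup.commutator_mono ?_ le_rfl) hV.le)
    intro w hw
    have hwK : w ∈ K := (Subgroup.commutator_mono (hWSS.trans hSK) le_rfl |>.trans
      (Subgroup.le_normalizer_iff_commutator_le_right.mp le_rfl)) hw
    have hwW : w ∈ WS := Subgroup.le_normalizer_iff_commutator_le_left.mp hKWS hw
    have hwB : w ∈ B := by
      refine le_core (P := S ⊓ K) inf_le_right ((core_isPGroup H).to_le inf_le_left) ?_ ⟨hWSS hwW, hwK⟩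
      intro a ha
      rw [Subgroup.mem_normalizer_iff]
      intro c
      rw [Subgroup.mem_inf, Subgroup.mem_inf]
      exact and_congr (Subgroup.mem_normalizer_iff.1 (le_normalizer_core H (le_sup_left (a := K) ha)) c)
        (Subgroup.mem_normalizer_iff.1 (Subgroup.le_normalizer ha) c)
    have hwS := omega_le _ hwW
    exact mem_omega ⟨hwB, Subgroup.centralizer_le hSB hwS.2⟩ (omega_sq hwW)
  -- Step 2: involutions of Z(R) lie in WS
  have hTR : R ≤ (T : Subgroup G) := hRT
  have hSR : S ≤ R := le_core (hST.trans le_sup_right) (core_isPGroup H)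
    ((sup_le_sup_right hLK _).trans (le_normalizer_core H))
  have hZ : ∀ z ∈ R, z ∈ Subgroup.centralizer (R : Set G) → z ^ 2 = 1 → z ∈ WS := by
    intro z hzR hzc hz2
    have hzH : z ∈ H := Subgroup.mem_sup_right (hTR hzR)
    have hzS : z ∈ S := by
      refine ⟨⟨z, hzH⟩, isOfCharacteristicTwo_of hK2 ?_, rfl⟩
      rw [Subgroup.mem_centralizer_iff]
      intro q hq
      exact Subtype.ext (Subgroup.mem_centralizer_iff.1 hzc q (hSR (Subgroup.mem_map_of_mem _ hq)))
    exact mem_omega ⟨hzS, Subgroup.centralizer_le hSR hzc⟩ hz2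
  have hAR : A ≤ R := by
    have h2 : (A.subgroupOf (L ⊔ (T : Subgroup G))).IsSubnormal := by
      refine Cfsg.Lib.Core.isSubnormal_of_normal_subgroupOf (K := L.subgroupOf (L ⊔ (T : Subgroup G)))
        (Subgroup.comap_mono (core_le L)) hL.1.1.2.2.1 ?_
      refine (Subgroup.normal_subgroupOf_iff_le_normalizer (Subgroup.comap_mono (core_le L))).2 ?_
      exact (Subgroup.comap_mono (le_normalizer_core L)).trans (Subgroup.le_normalizer_comap _)
    intro b hb
    refine ⟨⟨b, le_sup_left (a := L) (core_le L hb)⟩, ?_, rfl⟩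
    exact Cfsg.Lib.Core.le_pCore_of_isSubnormal h2
      (IsPGroup.comap_of_injective (core_isPGroup L) (L ⊔ (T : Subgroup G)).subtype
        (L ⊔ (T : Subgroup G)).subtype_injective)
      (Subgroup.mem_subgroupOf.2 hb)
  -- Step 3: L centralizes Ω₁ Z(O₂(L))
  set W0 := Cfsg.omegaOne 2 (A ⊓ Subgroup.centralizer (A : Set G)) with hW0
  have key : ∀ W : Subgroup G, W ≤ W0 → L ≤ Subgroup.normalizer (W : Set G) →
      R ≤ Subgroup.normalizer (W : Set G) → ⁅W, L⁆ = ⊥ := by
    intro W
    induction W using WellFoundedLT.induction with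
    | ind W ih =>
      intro hW hLW hRW
      by_cases hne : W = ⊥
      · rw [hne]; exact Subgroup.commutator_bot_left L
      have hWA : W ≤ A := hW.trans ((omega_le _).trans inf_le_left)
      have hlt := Cfsg.Lib.PGroup.commutator_lt_of_isPGroup ((core_isPGroup L).to_le hWA)
        (core_isPGroup _) hRW hne
      have hLWR : L ≤ Subgroup.normalizer ((⁅W, R⁆ : Subgroup G) : Set G) := fun a ha => by
        rw [Subgroup.mem_normalizer_iff_map_conj_eq, Subgroup.map_commutator,
          Subgroup.mem_normalizer_iff_map_conj_eq.mp (hLW ha), Subgroup.mem_normalizer_iff_map_conj_eq.mp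
            (le_normalizer_core _ (le_sup_left (a := L) ha))]
      have h1 : ⁅⁅W, R⁆, L⁆ = ⊥ :=
        ih _ hlt (hlt.le.trans hW) hLWR (Subgroup.normalizer_commutator_ge_right W R)
      have h2 : ⁅⁅R, L⁆, W⁆ = ⊥ := by
        rw [Subgroup.commutator_eq_bot_iff_le_centralizer]
        have h3 : ⁅R, L⁆ ≤ A := by
          refine (le_inf (Subgroup.le_normalizer_iff_commutator_le_left.mp
            (le_sup_left.trans (le_normalizer_core _))) ((Subgroup.commutator_mono hRL le_rfl).trans
              (Subgroup.le_normalizer_iff_commutator_le_right.mp le_rfl))).trans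
            (le_core (P := R ⊓ L) inf_le_right ((core_isPGroup _).to_le inf_le_left) ?_)
          intro a ha
          rw [Subgroup.mem_normalizer_iff]
          intro c
          rw [Subgroup.mem_inf, Subgroup.mem_inf]
          exact and_congr
            (Subgroup.mem_normalizer_iff.1 (le_normalizer_core _ (le_sup_left (a := L) ha)) c)
            (Subgroup.mem_normalizer_iff.1 (Subgroup.le_normalizer ha) c)
        refine h3.trans ?_
        rw [Subgroup.le_centralizer_iff]
        exact hW.trans ((omega_le _).trans inf_le_right)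
      have h4 : ⁅⁅L, W⁆, R⁆ = ⊥ := Subgroup.commutator_commutator_eq_bot_of_rotate h1 h2
      rw [Subgroup.commutator_comm L W, Subgroup.commutator_eq_bot_iff_le_centralizer] at h4
      refine Cfsg.Lib.Core.commutator_eq_bot_of_perfect hLperf ?_
      rw [Subgroup.commutator_eq_bot_iff_le_centralizer]
      intro w hw
      have hwW : w ∈ W := Subgroup.le_normalizer_iff_commutator_le_left.mp hLW hw
      have hwS : w ∈ WS := hZ w (hAR (hWA hwW)) (h4 hw) (omega_sq (hW hwW))
      rw [Subgroup.commutator_eq_bot_iff_le_centralizer] at hWSK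
      exact Subgroup.centralizer_le hLK (hWSK hwS)
  exact key W0 le_rfl ((le_normalizer_core L).trans (normalizer_le_omega _))
    ((le_trans hRL
      (Cfsg.Lib.Core.normalizer_le_normalizer_map_char (H := L) (Cfsg.pCore 2 ↥L))).trans
      (normalizer_le_omega _))


/-- Let G be a non-abelian finite simple QTKE-group and T a Sylow 2-subgroup of G, and let L be a member of ℒ_f(G, T) (a member of ℒ(G, T) that lies in 𝒳 — L ≠ 1, L = O²(L), F*(L) = O₂(L) — and acts nontrivially on Ω₁(Z(O₂(L)))). Then (1) every member K of ℒ(G, T) containing L is again in ℒ_f(G, T) (a sharper form of (1) also compares the modules [Ω₁(Z(R)), L] and [Ω₁(Z(R')), K] for suitable 2-subgroups R, R'; that comparison is not included); and (2) if L is maximal under inclusion among the members of ℒ_f(G, T), then L is a maximal member of ℒ(G, T), hence a member of ℒ_f*(G, T). -/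
theorem result {G : Type*} [Group G] [Finite G] [IsSimpleGroup G]
    (hG : ¬ IsMulCommutative G) (hQ : Cfsg.IsQTKE G) (T : Sylow 2 G) (L : Subgroup G)
    (hL : L ∈ Cfsg.calLf (T : Subgroup G)) :
    (∀ K ∈ Cfsg.calL (T : Subgroup G), L ≤ K → K ∈ Cfsg.calLf (T : Subgroup G)) ∧
    ((∀ K ∈ Cfsg.calLf (T : Subgroup G), L ≤ K → K = L) → L ∈ Cfsg.calLfMax (T : Subgroup G)) := by
  obtain ⟨-, -, heven⟩ := hQ
  refine ⟨fun K hK hLK => ⟨hK, faithful_up heven T hL hK hLK⟩,
    fun hmax => ⟨⟨hL.1, fun K hK hLK => hmax K ⟨hK, faithful_up heven T hL hK hLK⟩ hLK⟩, hL.2⟩⟩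

end Cfsg.Agent.S1851
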