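import Cfsg.Statements.S1892
import Cfsg.Agent.Lib.Core.PSolvable
-- import your own Cfsg.Agent.* helpers here

set_option autoImplicit false
open Cfsg

namespace Cfsg.Agent.S1892

open Subgroup in
open scoped commutatorElement in
/-- Let S be a finite p-solvable group with no nontrivial normal subgroup of order prime to p, A a p-subgroup of S, and Q a nontrivial A-invariant subgroup of order prime to p with [A, Q] = Q. Then the commutator [O_p(S), A, Q] is nontrivial. -/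
theorem result {S : Type*} [Group S] [Finite S] {p : ℕ} [Fact p.Prime]
    (hS : Cfsg.IsPSolvable p S) (hred : Cfsg.pPrimeCore p S = ⊥)
    (A Q : Subgroup S) (hA : IsPGroup p A) (hQ : ¬ p ∣ Nat.card Q) (hQ1 : Q ≠ ⊥)
    (hinv : ∀ a ∈ A, ∀ x ∈ Q, a * x * a⁻¹ ∈ Q) (hAQ : ⁅A, Q⁆ = Q) :
    ⁅⁅Cfsg.pCore p S, A⁆, Q⁆ ≠ ⊥ := by
  intro h
  set P := Cfsg.pCore p S with hP
  haveI : P.Normal := inferInstance
  set D := ⁅P, A⁆ with hD
  have hDP : D ≤ P := commutator_le_left P A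
  have hQD : ∀ q ∈ Q, ∀ y ∈ D, q * y * q⁻¹ = y := by
    intro q hq y hy
    have h1 : y * q = q * y := commutatorElement_eq_one_iff_mul_comm.mp
      (mem_bot.mp (h ▸ commutator_mem_commutator hy hq))
    rw [← h1, mul_inv_cancel_right]
  have hQn : Q ≤ normalizer (D : Set S) := fun q hq =>
    mem_normalizer_fintype fun y hy => by rw [hQD q hq y hy]; exact hy
  have hAn : A ≤ normalizer (D : Set S) := by
    intro a ha
    rw [mem_normalizer_iff_map_conj_eq]
    show map (MulAut.conj a).toMonoidHom D = D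
    rw [hD, map_commutator, Cfsg.Lib.Core.map_conj_eq_of_mem_normalizer (by rw [normalizer_eq_top (H := P)]; trivial : a ∈ normalizer (P : Set S)),
      Cfsg.Lib.Core.map_conj_eq_of_mem_normalizer (le_normalizer ha)]
  let K : Subgroup S :=
    { carrier := {g | g ∈ normalizer (D : Set S) ∧ ∀ y ∈ P, g * y * g⁻¹ * y⁻¹ ∈ D}
      one_mem' := ⟨one_mem _, fun y _ => by simp⟩
      mul_mem' := fun {g h} hg hh => ⟨mul_mem hg.1 hh.1, fun y hy => by
        have h1 := D.mul_mem ((mem_normalizer_iff.mp hg.1 _).mp (hh.2 y hy)) (hg.2 y hy)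
        have h2 : g * h * y * (g * h)⁻¹ * y⁻¹ = g * (h * y * h⁻¹ * y⁻¹) * g⁻¹ * (g * y * g⁻¹ * y⁻¹) := by group
        rw [h2]; exact h1⟩
      inv_mem' := fun {g} hg => ⟨inv_mem hg.1, fun y hy => by
        have h1 := (mem_normalizer_iff.mp (inv_mem hg.1) _).mp (D.inv_mem (hg.2 y hy))
        have h2 : g⁻¹ * y * g⁻¹⁻¹ * y⁻¹ = g⁻¹ * (g * y * g⁻¹ * y⁻¹)⁻¹ * g⁻¹⁻¹ := by group
        rw [h2]; exact h1⟩ }
  have hAK : A ≤ K := fun a ha => ⟨hAn ha, fun y hy => by
    have h1 := D.inv_mem (commutator_mem_commutator hy ha)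
    simpa [commutatorElement_def, mul_assoc] using h1⟩
  have hQK : Q ≤ K := by
    conv_lhs => rw [← hAQ]
    refine commutator_le.mpr fun a ha q hq => ?_
    have hconj : q * a⁻¹ * q⁻¹ ∈ K := by
      refine ⟨mul_mem (mul_mem (hQn hq) (inv_mem (hAn ha))) (inv_mem (hQn hq)), fun y hy => ?_⟩
      have hy' : q⁻¹ * y * q ∈ P := by simpa using (inferInstance : P.Normal).conj_mem y hy q⁻¹
      have h1 := (mem_normalizer_iff.mp (hQn hq) _).mp ((K.inv_mem (hAK ha)).2 _ hy')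
      have h2 : q * a⁻¹ * q⁻¹ * y * (q * a⁻¹ * q⁻¹)⁻¹ * y⁻¹ =
          q * (a⁻¹ * (q⁻¹ * y * q) * a⁻¹⁻¹ * (q⁻¹ * y * q)⁻¹) * q⁻¹ := by group
      rw [h2]; exact h1
    have h3 : ⁅a, q⁆ = a * (q * a⁻¹ * q⁻¹) := by rw [commutatorElement_def]; group
    rw [h3]
    exact K.mul_mem (hAK ha) hconj
  have hQC : Q ≤ centralizer (P : Set S) := by
    intro q hq
    refine mem_centralizer_iff.mpr fun y hy => ?_
    set d := q * y * q⁻¹ * y⁻¹ with hd
    have hdD : d ∈ D := (hQK hq).2 y hy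
    have hiter : ∀ j : ℕ, q ^ j * y * (q ^ j)⁻¹ = d ^ j * y := by
      intro j
      induction j with
      | zero => simp
      | succ j hj =>
        calc q ^ (j + 1) * y * (q ^ (j + 1))⁻¹ = q * (q ^ j * y * (q ^ j)⁻¹) * q⁻¹ := by rw [pow_succ']; group
          _ = (q * d ^ j * q⁻¹) * d * y := by rw [hj, hd]; group
          _ = d ^ (j + 1) * y := by rw [hQD q hq _ (D.pow_mem hdD j), pow_succ]
    have h1 := hiter (orderOf q)
    rw [pow_orderOf_eq_one, one_mul, inv_one, mul_one] at h1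
    have hd1 : d ^ orderOf q = 1 := by simpa using h1.symm
    obtain ⟨k, hk⟩ := (Cfsg.Lib.Core.pCore_isPGroup p S) ⟨d, hDP hdD⟩
    have hdone : d = 1 := by
      rw [← orderOf_eq_one_iff]
      refine Nat.eq_one_of_dvd_coprimes (Nat.Coprime.pow_left k ((Fact.out : p.Prime).coprime_iff_not_dvd.mpr hQ))
        (orderOf_dvd_of_pow_eq_one (by simpa using congrArg Subtype.val hk)) ?_
      exact (orderOf_dvd_of_pow_eq_one hd1).trans (Subgroup.orderOf_dvd_natCard (s := Q) hq)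
    calc y * q = d⁻¹ * (q * y * q⁻¹) * q := by rw [hd]; group
      _ = q * y := by rw [hdone]; group
  refine hQ1 (eq_bot_iff.mpr fun q hq => ?_)
  have hqP : q ∈ P := Cfsg.Lib.Core.centralizer_pCore_le_of_isPSolvable hS hred (hQC hq)
  obtain ⟨k, hk⟩ := (Cfsg.Lib.Core.pCore_isPGroup p S) ⟨q, hqP⟩
  rw [Subgroup.mem_bot, ← orderOf_eq_one_iff]
  exact Nat.eq_one_of_dvd_coprimes (Nat.Coprime.pow_left k ((Fact.out : p.Prime).coprime_iff_not_dvd.mpr hQ))
    (orderOf_dvd_of_pow_eq_one (by simpa using congrArg Subtype.val hk)) (Subgroup.orderOf_dvd_natCard (s := Q) hq)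

end Cfsg.Agent.S1892
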