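import Cfsg.Statements.S1893
import Cfsg.Agent.Lib.Sig.QuadraticSolvable
import Cfsg.Agent.Lib.Solv.Hall

set_option autoImplicit false
open Cfsg

namespace Cfsg.Agent.S1893

open Subgroup

variable {S : Type*} [Group S] [Finite S]

/-- The chain argument: a q-element centralizing `A` centralizes it. -/
theorem mem_of_fitting_reduced [Group.IsSolvable S] {q : ℕ} [Fact q.Prime] (h5 : 5 ≤ q)
    (A : Subgroup S) (hnorm : Cfsg.fittingSubgroup S ≤ normalizer (A : Set S))
    (hscn : Cfsg.fittingSubgroup S ⊓ centralizer (A : Set S) ≤ A) {x : S}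
    (hx : IsPGroup q ↥(zpowers x)) (hxA : x ∈ centralizer (A : Set S)) : x ∈ A := by
  set F := Cfsg.fittingSubgroup S with hF
  have hFn : F.Normal := Cfsg.Lib.Core.fittingSubgroup_normal' S
  have key : ∀ w ∈ centralizer (A : Set S), ∀ y ∈ F, y * w * y⁻¹ * w⁻¹ ∈ A := by
    intro w hw y hy
    refine hscn (mem_inf.2 ⟨?_, ?_⟩)
    · rw [show y * w * y⁻¹ * w⁻¹ = y * (w * y⁻¹ * w⁻¹) by group]
      exact mul_mem hy (hFn.conj_mem _ (inv_mem hy) w)
    · refine mul_mem ?_ (inv_mem hw)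
      refine mem_centralizer_iff.2 fun a ha => ?_
      have h := mem_centralizer_iff.1 hw _ ((mem_normalizer_iff''.1 (hnorm hy) a).1 ha)
      calc a * (y * w * y⁻¹) = y * (y⁻¹ * a * y * w) * y⁻¹ := by group
        _ = y * w * y⁻¹ * a := by rw [h]; group
  have hquad : ⁅⁅Cfsg.pCore q S, zpowers x⁆, zpowers x⁆ = ⊥ := by
    refine commutator_eq_bot_iff_le_centralizer.2 ?_
    refine le_trans (commutator_le.2 fun y hy w hw => ?_) (?_ : A ≤ _)
    · rw [commutatorElement_def]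
      exact key w (zpowers_le.2 hxA hw) y (Cfsg.Lib.Core.pCore_le_fittingSubgroup q S hy)
    · refine le_centralizer_iff.1 (zpowers_le.2 hxA)
  refine hscn ⟨Cfsg.Lib.Sig.mem_fittingSubgroup_of_quadratic h5 hquad ?_, hxA⟩
  refine mem_centralizer_iff.2 fun y hy => ?_
  set R := (Cfsg.pPrimeCore q ↥F).map F.subtype with hR
  haveI : R.Normal := ConjAct.normal_of_characteristic_of_normal
  have hyF : y ∈ F := map_subtype_le _ hy
  set c := y * x * y⁻¹ * x⁻¹ with hc
  have hcA : c ∈ A := key x hxA y hyF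
  have hcR : c ∈ R := by
    rw [hc, show y * x * y⁻¹ * x⁻¹ = y * (x * y⁻¹ * x⁻¹) by group]
    exact mul_mem hy (Subgroup.Normal.conj_mem inferInstance _ (inv_mem hy) x)
  have hxc : Commute x c := (mem_centralizer_iff.1 hxA c hcA).symm
  have e1 : y * x * y⁻¹ = c * x := by rw [hc]; group
  have hpow : ∀ n : ℕ, y * x ^ n * y⁻¹ = c ^ n * x ^ n := fun n => by
    rw [← conj_pow, e1, hxc.symm.mul_pow]
  obtain ⟨k, hk⟩ := hx ⟨x, mem_zpowers x⟩
  have hk' : x ^ q ^ k = 1 := congrArg Subtype.val hk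
  have h1 := hpow (q ^ k)
  rw [hk', mul_one, mul_inv_cancel, mul_one] at h1
  have hRcop : (Nat.card ↥R).Coprime q := by
    rw [hR, card_map_of_injective F.subtype_injective]
    exact Cfsg.Lib.Core.pPrimeCore_coprime q _
  have hco : (orderOf c).Coprime (q ^ k) :=
    (hRcop.coprime_dvd_left (R.orderOf_dvd_natCard hcR)).pow_right k
  have hc1 : c = 1 := orderOf_eq_one_iff.1
    (Nat.Coprime.eq_one_of_dvd hco (orderOf_dvd_of_pow_eq_one h1.symm))
  rw [hc1, one_mul] at e1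
  exact (mul_inv_eq_iff_eq_mul.1 e1)

/-- A normal subgroup whose order has no prime divisor in `π`, largest such. -/
theorem exists_piPrime_core (π : Set ℕ) :
    ∃ T : Subgroup S, T.Normal ∧ (∀ r : ℕ, r.Prime → r ∣ Nat.card T → r ∉ π) ∧
      ∀ N : Subgroup S, N.Normal → (∀ r : ℕ, r.Prime → r ∣ Nat.card N → r ∉ π) → T ≤ N → N = T := by
  obtain ⟨T, ⟨hT1, hT2⟩, hmax⟩ := (Set.toFinite {N : Subgroup S | N.Normal ∧
    ∀ r : ℕ, r.Prime → r ∣ Nat.card N → r ∉ π}).exists_maximal ⟨⊥, inferInstance, fun r hr h => by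
      rw [card_bot] at h; exact absurd (Nat.dvd_one.1 h) hr.ne_one⟩
  exact ⟨T, hT1, hT2, fun N h1 h2 h3 => le_antisymm (hmax ⟨h1, h2⟩ h3) h3⟩

theorem main [Group.IsSolvable S]
    (π : Set ℕ) (h2 : 2 ∉ π) (h3 : 3 ∉ π) (H : Subgroup S) (hH : Cfsg.IsPiHall π H)
    (A : Subgroup S) (hA : Cfsg.IsSCN ((Cfsg.fittingSubgroup H).map H.subtype) A) :
    ∃ D : Subgroup S, D ≤ Subgroup.centralizer (A : Set S) ∧
      (∀ c ∈ Subgroup.centralizer (A : Set S), ∀ d ∈ D, c * d * c⁻¹ ∈ D) ∧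
      A ⊓ D = ⊥ ∧ A ⊔ D = Subgroup.centralizer (A : Set S) ∧
      ∀ q : ℕ, q.Prime → q ∣ Nat.card D → q ∉ π := by
  classical
  obtain ⟨hAF, hFN, hFC⟩ := hA
  set FH := (Cfsg.fittingSubgroup H).map H.subtype with hFH
  have hFHH : FH ≤ H := map_subtype_le _
  have hAC : A ≤ centralizer (A : Set S) := fun a ha => (hFC.symm.le ha).2
  have hAH : A ≤ H := hAF.trans hFHH
  have hApi : ∀ r : ℕ, r.Prime → r ∣ Nat.card A → r ∈ π := fun r hr h =>
    hH.1 r hr (h.trans (card_dvd_of_le hAH))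
  obtain ⟨T, hTn, hTpi, hTmax⟩ := exists_piPrime_core (S := S) π
  set f := QuotientGroup.mk' T with hf
  have hfs : Function.Surjective f := QuotientGroup.mk'_surjective T
  have hHT : H ⊓ T = ⊥ := inf_eq_bot_of_coprime (Nat.coprime_of_dvd fun r hr h1 h2' =>
    hTpi r hr h2' (hH.1 r hr h1))
  set F0 := Cfsg.fittingSubgroup (S ⧸ T) with hF0
  -- the Fitting subgroup of the quotient is a π-group
  have hF0pi : ∀ r : ℕ, r.Prime → r ∣ Nat.card F0 → r ∈ π := by
    intro r hr hdvd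
    by_contra hrπ
    haveI : Fact r.Prime := ⟨hr⟩
    set N := (Cfsg.pCore r (S ⧸ T)).comap f with hN
    have hcard : Nat.card ↥N = Nat.card ↥(Cfsg.pCore r (S ⧸ T)) * Nat.card ↥f.ker :=
      (Cfsg.Lib.Core.card_comap_eq f hfs _).trans (mul_comm _ _)
    obtain ⟨m, hm⟩ := IsPGroup.iff_card.1 (Cfsg.Lib.Core.pCore_isPGroup r (S ⧸ T))
    have hNT : N = T := hTmax N inferInstance (fun s hs hd => by
      rw [hcard, hm, hf, QuotientGroup.ker_mk'] at hd
      rcases (Nat.Prime.dvd_mul hs).1 hd with h | h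
      · rw [(Nat.prime_dvd_prime_iff_eq hs hr).1 (hs.dvd_of_dvd_pow h)]; exact hrπ
      · exact hTpi s hs h) (fun t ht => by
        show f t ∈ Cfsg.pCore r (S ⧸ T)
        rw [show f t = 1 from (QuotientGroup.eq_one_iff t).2 ht]; exact one_mem _)
    have hbot : Cfsg.pCore r (S ⧸ T) = ⊥ := by
      rw [← map_comap_eq_self_of_surjective hfs (Cfsg.pCore r (S ⧸ T)), ← hN, hNT, hf,
        QuotientGroup.map_mk'_self]
    have htop := Cfsg.Lib.Sig.pCore_sup_pPrimeCore_eq_top
      (Cfsg.Lib.Core.fittingSubgroup_isNilpotent (S ⧸ T)) r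
    have h0 : Cfsg.pCore r ↥F0 = ⊥ := by
      haveI : ((Cfsg.pCore r ↥F0).map F0.subtype).Normal :=
        ConjAct.normal_of_characteristic_of_normal
      have := Cfsg.Lib.Core.le_pCore' (inferInstance : ((Cfsg.pCore r ↥F0).map F0.subtype).Normal)
        ((Cfsg.Lib.Core.pCore_isPGroup r _).map F0.subtype)
      rw [hbot, le_bot_iff, map_eq_bot_iff_of_injective _ F0.subtype_injective] at this
      exact this
    rw [h0, bot_sup_eq] at htop
    have hc := Cfsg.Lib.Core.pPrimeCore_coprime r ↥F0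
    rw [htop, card_top] at hc
    exact (hr.coprime_iff_not_dvd.1 hc.symm) hdvd
  haveI hF0n : F0.Normal := Cfsg.Lib.Core.fittingSubgroup_normal' _
  -- it is covered by the Fitting subgroup of `H`
  have hF0H : ∀ y ∈ F0, ∃ h ∈ FH, f h = y := by
    intro y hy
    have hHbar : Cfsg.IsPiHall π (H.map f) := by
      refine ⟨fun r hr h => hH.1 r hr (h.trans (Cfsg.Lib.Core.card_map_dvd f H)), fun r hr hrπ h => ?_⟩
      exact hH.2 r hr hrπ (h.trans (index_map_dvd _ (f := f) hfs))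
    have hle : F0 ≤ H.map f := by
      obtain ⟨g, hg⟩ := Cfsg.Lib.Solv.le_conj_of_isPiHall hHbar hF0pi
      intro z hz
      have h := hg (hF0n.conj_mem z hz g)
      rw [mem_pointwise_smul_iff_inv_smul_mem] at h
      simpa [MulAut.smul_def, mul_assoc] using h
    let fH : ↥H →* S ⧸ T := f.comp H.subtype
    have hinj : Function.Injective fH := (injective_iff_map_eq_one fH).2 fun z hz =>
      Subtype.ext (mem_bot.1 (hHT ▸ mem_inf.2 ⟨z.2, (QuotientGroup.eq_one_iff _).1 hz⟩))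
    have hnil : Group.IsNilpotent ↥(F0.comap fH) := by
      haveI := Cfsg.Lib.Core.fittingSubgroup_isNilpotent (S ⧸ T)
      let g : ↥(F0.comap fH) →* ↥F0 :=
        (fH.comp (F0.comap fH).subtype).codRestrict F0 fun z => z.2
      have hginj : Function.Injective g := fun a b h =>
        Subtype.ext (hinj (congrArg Subtype.val h))
      exact Subgroup.isNilpotent_of_ker_le_center g (by
        rw [(MonoidHom.ker_eq_bot_iff g).2 hginj]; exact bot_le)
    obtain ⟨h, hh, rfl⟩ := hle hy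
    exact ⟨h, ⟨⟨h, hh⟩, Cfsg.Lib.Core.le_fittingSubgroup' inferInstance hnil hy, rfl⟩, rfl⟩
  -- `q`-elements of the centralizer lie in `A`
  have key : ∀ q : ℕ, q.Prime → q ∈ π → ∀ x ∈ centralizer (A : Set S),
      IsPGroup q ↥(zpowers x) → x ∈ A := by
    intro q hq hqπ x hx hxq
    haveI : Fact q.Prime := ⟨hq⟩
    have h5 : 5 ≤ q := by
      by_contra h
      push Not at h
      have := hq.two_le
      interval_cases q
      · exact h2 hqπ
      · exact h3 hqπ
      · norm_num at hq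
    have h := mem_of_fitting_reduced (S := S ⧸ T) h5 (A.map f) (fun y hy => ?_) (fun y hy => ?_)
      (x := f x) (by rw [← MonoidHom.map_zpowers]; exact hxq.map f)
      (map_centralizer_le_centralizer_image _ _ (mem_map_of_mem f hx))
    · obtain ⟨a, ha, hax⟩ := h
      have ht : a⁻¹ * x ∈ T := QuotientGroup.eq.1 hax
      have hcomm : Commute a⁻¹ x :=
        (show Commute a x from (mem_centralizer_iff.1 hx a ha)).inv_left
      obtain ⟨k, hk⟩ := hxq ⟨x, mem_zpowers x⟩
      have hk' : x ^ q ^ k = 1 := congrArg Subtype.val hk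
      have h1 : (a⁻¹ * x) ^ (Nat.card ↥A * q ^ k) = 1 := by
        rw [hcomm.mul_pow, inv_pow, pow_mul a, show a ^ Nat.card ↥A = 1 from
          congrArg Subtype.val (pow_card_eq_one' (G := ↥A) (x := ⟨a, ha⟩)), one_pow, inv_one,
          one_mul, mul_comm (Nat.card ↥A), pow_mul, hk', one_pow]
      have hcop : (Nat.card ↥A * q ^ k).Coprime (Nat.card ↥T) := Nat.coprime_of_dvd fun r hr hd1 hd2 => by
        refine hTpi r hr hd2 ?_
        rcases (Nat.Prime.dvd_mul hr).1 hd1 with hd | hd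
        · exact hApi r hr hd
        · rw [(Nat.prime_dvd_prime_iff_eq hr hq).1 (hr.dvd_of_dvd_pow hd)]; exact hqπ
      have e : a⁻¹ * x = 1 := orderOf_eq_one_iff.1 (Nat.eq_one_of_dvd_coprimes hcop
        (orderOf_dvd_of_pow_eq_one h1) (T.orderOf_dvd_natCard ht))
      rw [inv_mul_eq_one] at e
      exact e ▸ ha
    · obtain ⟨h, hh, rfl⟩ := hF0H y hy
      exact le_normalizer_map f (mem_map_of_mem f (hFN hh))
    · obtain ⟨h, hh, rfl⟩ := hF0H y hy.1
      refine mem_map_of_mem f (hFC.le ⟨hh, mem_centralizer_iff.2 fun a ha => ?_⟩)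
      have h1 : f ((h * a)⁻¹ * (a * h)) = 1 := by
        rw [map_mul, map_inv, map_mul, map_mul,
          mem_centralizer_iff.1 hy.2 _ (mem_map_of_mem f ha), inv_mul_cancel]
      have h2 : (h * a)⁻¹ * (a * h) ∈ H ⊓ T :=
        ⟨H.mul_mem (H.inv_mem (H.mul_mem (hFHH hh) (hAH ha))) (H.mul_mem (hAH ha) (hFHH hh)),
          (QuotientGroup.eq_one_iff _).1 h1⟩
      rw [hHT, mem_bot, inv_mul_eq_one] at h2
      exact h2.symm
  set C := centralizer (A : Set S) with hC
  have hidx : ∀ r : ℕ, r.Prime → r ∈ π → ¬ r ∣ (A.subgroupOf C).index := by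
    intro r hr hrπ hd
    haveI : Fact r.Prime := ⟨hr⟩
    obtain ⟨P⟩ : Nonempty (Sylow r ↥C) := inferInstance
    refine P.not_dvd_index (hd.trans (index_dvd_of_le fun z hz => mem_subgroupOf.2 ?_))
    refine key r hr hrπ z z.2 ?_
    have : IsPGroup r ↥((P : Subgroup ↥C).map C.subtype) := P.2.map _
    exact this.to_le (zpowers_le.2 (mem_map_of_mem C.subtype hz))
  have hcA : Nat.card ↥(A.subgroupOf C) = Nat.card ↥A :=
    Nat.card_congr (subgroupOfEquivOfLe hAC).toEquiv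
  have hcop : (Nat.card ↥(A.subgroupOf C)).Coprime (A.subgroupOf C).index :=
    Nat.coprime_of_dvd fun r hr h1 h2' => hidx r hr (hApi r hr (hcA ▸ h1)) h2'
  have hcent : ∀ a ∈ A, ∀ c ∈ C, a * c = c * a := fun a ha c hc => mem_centralizer_iff.1 hc a ha
  haveI : (A.subgroupOf C).Normal := ⟨fun a ha c => by
    rw [mem_subgroupOf] at ha ⊢
    show (c : S) * (a : S) * (c : S)⁻¹ ∈ A
    rw [← hcent _ ha _ c.2, mul_inv_cancel_right]
    exact ha⟩
  obtain ⟨K, hK⟩ := exists_right_complement'_of_coprime hcop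
  refine ⟨K.map C.subtype, map_subtype_le _, ?_, ?_, ?_, fun r hr hd hrπ => ?_⟩
  · rintro c hc _ ⟨d, hd, rfl⟩
    have hc' : (⟨c, hc⟩ : ↥C) ∈ A.subgroupOf C ⊔ K := hK.sup_eq_top ▸ mem_top _
    obtain ⟨a, ha, k, hk, hak⟩ := mem_sup_of_normal_left.1 hc'
    refine ⟨k * d * k⁻¹, K.mul_mem (K.mul_mem hk hd) (K.inv_mem hk), ?_⟩
    have hak' : (a : S) * k = c := congrArg Subtype.val hak
    show (k : S) * d * (k : S)⁻¹ = c * d * c⁻¹
    rw [← hak']
    have h := hcent _ (mem_subgroupOf.1 ha) _ (k * d * k⁻¹ : ↥C).2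
    simp only [Subgroup.coe_mul, Subgroup.coe_inv] at h
    symm
    calc (a : S) * k * d * ((a : S) * k)⁻¹ = (a : S) * ((k : S) * d * (k : S)⁻¹) * (a : S)⁻¹ := by group
      _ = (k : S) * d * (k : S)⁻¹ := by rw [h, mul_inv_cancel_right]
  · rw [eq_bot_iff]
    rintro _ ⟨ha, d, hd, rfl⟩
    have : d ∈ A.subgroupOf C ⊓ K := ⟨mem_subgroupOf.2 ha, hd⟩
    rw [hK.disjoint.eq_bot, mem_bot] at this
    rw [this]; exact one_mem _
  · calc A ⊔ K.map C.subtype = (A.subgroupOf C).map C.subtype ⊔ K.map C.subtype := by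
          rw [map_subgroupOf_eq_of_le hAC]
      _ = C := by rw [← Subgroup.map_sup, hK.sup_eq_top, ← MonoidHom.range_eq_map, range_subtype]
  · rw [card_map_of_injective C.subtype_injective, ← hK.symm.index_eq_card] at hd
    exact hidx r hr hrπ hd

/-- Let S be a finite solvable group, π a set of primes containing neither 2 nor 3, H a Hall π-subgroup of S, and A a self-centralizing normal subgroup of the Fitting subgroup F(H). Then C_S(A) = A × D for a normal subgroup D of C_S(A) whose order has no prime divisor in π. -/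
theorem result {S : Type*} [Group S] [Finite S] [Group.IsSolvable S]
    (π : Set ℕ) (h2 : 2 ∉ π) (h3 : 3 ∉ π) (H : Subgroup S) (hH : Cfsg.IsPiHall π H)
    (A : Subgroup S) (hA : Cfsg.IsSCN ((Cfsg.fittingSubgroup H).map H.subtype) A) :
    ∃ D : Subgroup S, D ≤ Subgroup.centralizer (A : Set S) ∧
      (∀ c ∈ Subgroup.centralizer (A : Set S), ∀ d ∈ D, c * d * c⁻¹ ∈ D) ∧
      A ⊓ D = ⊥ ∧ A ⊔ D = Subgroup.centralizer (A : Set S) ∧
      ∀ q : ℕ, q.Prime → q ∣ Nat.card D → q ∉ π := by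
    exact main π h2 h3 H hH A hA

end Cfsg.Agent.S1893
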