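import Cfsg.Statements.S1894
import Cfsg.Agent.Lib.Core.Basic
import Mathlib.GroupTheory.Nilpotent

set_option autoImplicit false
open Cfsg
open scoped commutatorElement

namespace Cfsg.Agent.S1894

/-- Let P be a finite p-group, A a normal subgroup of P and B an abelian subgroup of A that is normal in P. Then some subgroup C of A containing B is normal in P and is self-centralizing and normal in A (C ∈ SCN(A)). -/
theorem result {P : Type*} [Group P] [Finite P] {p : ℕ} [Fact p.Prime] (hP : IsPGroup p P)
    (A : Subgroup P) [A.Normal] (B : Subgroup P) [B.Normal] (hBA : B ≤ A) (hB : IsMulCommutative B) :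
    ∃ C : Subgroup P, C.Normal ∧ B ≤ C ∧ Cfsg.IsSCN A C := by
    classical
    obtain ⟨C, ⟨hBC, hCn, hCA, hCab⟩, hmax⟩ := (Set.toFinite {C : Subgroup P | B ≤ C ∧ C.Normal ∧ C ≤ A ∧ IsMulCommutative ↥C}).exists_maximal
      ⟨B, le_rfl, inferInstance, hBA, hB⟩
    refine ⟨C, hCn, hBC, hCA, ?_, ?_⟩
    · rw [Subgroup.normalizer_eq_top_iff.2 hCn]; exact le_top
    set K := A ⊓ Subgroup.centralizer (C : Set P) with hK
    have hCK : C ≤ K := le_inf hCA (Subgroup.le_centralizer C)
    refine le_antisymm ?_ hCK
    by_contra hne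
    have hKn : K.Normal := inferInstance
    let f : ℕ → Subgroup P := fun i => ((fun H : Subgroup P => ⁅H, (⊤ : Subgroup P)⁆)^[i]) K
    have hfK : ∀ i, f i ≤ K ∧ f i ≤ Subgroup.lowerCentralSeries (⊤ : Subgroup P) i := by
      intro i
      induction i with
      | zero => exact ⟨le_rfl, le_top⟩
      | succ i ih =>
        simp only [f, Function.iterate_succ_apply']
        exact ⟨(Subgroup.commutator_mono ih.1 le_rfl).trans (Subgroup.commutator_le_left K ⊤), by
          rw [Subgroup.lowerCentralSeries_succ]; exact Subgroup.commutator_mono ih.2 le_rfl⟩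
    have := hP.isNilpotent
    obtain ⟨N, hN⟩ := (Subgroup.isNilpotent_iff_lowerCentralSeries (⊤ : Subgroup P)).1 inferInstance
    have hex : ∃ i, f i ≤ C := ⟨N, ((hfK N).2).trans (hN.le.trans bot_le)⟩
    have h0 : Nat.find hex ≠ 0 := fun h0 => hne (by simpa [h0, f] using Nat.find_spec hex)
    obtain ⟨i, hi⟩ := Nat.exists_eq_succ_of_ne_zero h0
    obtain ⟨x, hx, hxC⟩ := SetLike.not_le_iff_exists.1 (Nat.find_min hex (m := i) (by omega))
    have hxg : ∀ g : P, ⁅x, g⁆ ∈ C := fun g => (hi ▸ Nat.find_spec hex) (by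
      simp only [f, Function.iterate_succ_apply']
      exact Subgroup.commutator_mem_commutator hx (Subgroup.mem_top g))
    have hxK := (hfK i).1 hx
    set D := C ⊔ Subgroup.zpowers x with hD
    have hDn : D.Normal := by
      refine ⟨fun d hd g => ?_⟩
      have hle : D ≤ D.comap (MulAut.conj g).toMonoidHom := by
        refine sup_le (fun c hc => Subgroup.mem_sup_left (hCn.conj_mem c hc g)) (Subgroup.zpowers_le.2 ?_)
        show g * x * g⁻¹ ∈ D
        have e : g * x * g⁻¹ = (⁅x, g⁆)⁻¹ * x := by rw [commutatorElement_def]; group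
        rw [e]
        exact mul_mem (Subgroup.mem_sup_left (inv_mem (hxg g))) (Subgroup.mem_sup_right (Subgroup.mem_zpowers x))
      exact hle hd
    have hDab : IsMulCommutative ↥D := by
      have hxC' := hxK.2
      have hle : D ≤ Subgroup.centralizer (D : Set P) := by
        have hC1 : D ≤ Subgroup.centralizer (C : Set P) :=
          sup_le (Subgroup.le_centralizer C) (Subgroup.zpowers_le.2 hxC')
        have hx1 : D ≤ Subgroup.centralizer ({x} : Set P) :=
          sup_le (fun c hc => Subgroup.mem_centralizer_singleton_iff.2 (Subgroup.mem_centralizer_iff.1 hxC' c hc))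
            (Subgroup.zpowers_le.2 (Subgroup.mem_centralizer_singleton_iff.2 rfl))
        exact sup_le (Subgroup.le_centralizer_iff.1 hC1) (Subgroup.zpowers_le.2 (Subgroup.mem_centralizer_iff.2 fun d hd => Subgroup.mem_centralizer_singleton_iff.1 (hx1 hd)))
      exact ⟨⟨fun a b => Subtype.ext (Subgroup.mem_centralizer_iff.1 (hle b.2) a a.2)⟩⟩
    exact hxC (hmax ⟨hBC.trans le_sup_left, hDn, sup_le hCA (Subgroup.zpowers_le.2 hxK.1), hDab⟩ le_sup_left (Subgroup.mem_sup_right (Subgroup.mem_zpowers x)))

end Cfsg.Agent.S1894
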