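import Cfsg.Statements.S1895
import Cfsg.Agent.Lib.Sig.RankFour
import Cfsg.Agent.Lib.Local.RankTwoSolvable
import Cfsg.Agent.Lib.Core.PSolvable
-- import your own Cfsg.Agent.* helpers here

set_option autoImplicit false
open Cfsg

namespace Cfsg.Agent.S1895

open Subgroup Cfsg.Lib Cfsg.Lib.PGroup
open scoped commutatorElement

set_option linter.style.haveILetI false

universe v

/-- Elements with `p`-th power in the central `Ω₁`. -/
theorem next_omega {Q : Type*} [Group Q] [Finite Q] {p : ℕ} [hp : Fact p.Prime] (hp2 : p ≠ 2) (hQ : IsPGroup p Q)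
    (E : Subgroup Q) (hEc : E ≤ center Q) (hE : ∀ y : Q, y ∈ E ↔ y ^ p = 1) :
    ∃ M : Subgroup Q, (∀ y, y ^ p ∈ E ↔ y ∈ M) ∧ (∀ u : Q, ∀ m ∈ M, ⁅u, m⁆ ∈ E) ∧
      Nat.card ↥M ≤ Nat.card ↥E * Nat.card ↥E := by
  classical
  haveI : E.Normal := ⟨fun x hx g => by rwa [mem_center_iff.1 (hEc hx) g, mul_inv_cancel_right]⟩
  set π := QuotientGroup.mk' E with hπ
  obtain ⟨Mb, ⟨hMn, hMe⟩, hmax⟩ := (Set.toFinite {A : Subgroup (Q ⧸ E) | A.Normal ∧ Cfsg.IsElementaryAbelian p A}).exists_maximal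
    ⟨⊥, inferInstance, ⟨⟨⟨fun a b => Subsingleton.elim _ _⟩⟩, fun a ha => by rw [mem_bot.1 ha, one_pow]⟩⟩
  haveI := hMn
  set M := Mb.comap π with hM
  have hMp : ∀ y ∈ M, y ^ p ∈ E := fun y hy => (QuotientGroup.eq_one_iff _).1 (hMe.2 (π y) hy)
  have hMc : ∀ a ∈ M, ∀ b ∈ M, ⁅a, b⁆ ∈ E := fun a ha b hb => by
    refine (QuotientGroup.eq_one_iff _).1 ?_
    show π ⁅a, b⁆ = 1
    rw [map_commutatorElement, commutatorElement_eq_one_iff_mul_comm]
    exact congrArg Subtype.val (hMe.1.is_comm.comm (⟨π a, ha⟩ : Mb) ⟨π b, hb⟩)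
  have hpd : p ∣ p.choose 2 := hp.out.dvd_choose_self two_ne_zero (lt_of_le_of_ne hp.out.two_le (Ne.symm hp2))
  have hcl : commutator ↥M ≤ center ↥M := by
    rw [_root_.commutator_def, commutator_le]
    intro a _ b _
    exact mem_center_iff.2 fun g => Subtype.ext (mem_center_iff.1 (hEc (hMc a a.2 b b.2)) g)
  have hmul : ∀ a ∈ M, ∀ b ∈ M, (a * b) ^ p = a ^ p * b ^ p := by
    intro a ha b hb
    have h := congrArg Subtype.val (mul_pow_of_class_two hcl (⟨a, ha⟩ : M) ⟨b, hb⟩ p)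
    obtain ⟨k, hk⟩ := hpd
    simp only [SubmonoidClass.coe_pow, Subgroup.coe_mul] at h
    rw [h, hk, pow_mul]
    have h1 : ((⁅(⟨b, hb⟩ : M), ⟨a, ha⟩⁆ : M) : Q) ^ p = 1 := (hE _).1 (hMc b hb a ha)
    rw [h1, one_pow, mul_one]
  have hcentral : ∀ (u : Q), ∀ m ∈ M, ⁅u, m⁆ ∈ E := by
    intro u m hm
    have hm' : u * m * u⁻¹ ∈ M := (inferInstance : M.Normal).conj_mem m hm u
    refine (hE _).2 ?_
    have e : ⁅u, m⁆ = (u * m * u⁻¹) * m⁻¹ := commutatorElement_def u m
    rw [e, hmul _ hm' _ (M.inv_mem hm), conj_pow, mem_center_iff.1 (hEc (hMp m hm)) u, mul_inv_cancel_right,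
      inv_pow, mul_inv_cancel]
  refine ⟨M, fun y => ⟨fun hy => ?_, hMp y⟩, hcentral, ?_⟩
  · refine OddNormalElementary.mem_of_centralizes hp2 (hQ.to_quotient E) Mb hMe
      (fun K h1 h2 h3 => le_antisymm (hmax ⟨h1, h2⟩ h3) h3) (x := π y) ?_ (mem_centralizer_iff.2 ?_)
    · rw [← map_pow]; exact (QuotientGroup.eq_one_iff _).2 hy
    · intro z hz
      obtain ⟨m, rfl⟩ := QuotientGroup.mk'_surjective E z
      refine (commutatorElement_eq_one_iff_mul_comm.1 ?_).symm
      rw [← map_commutatorElement]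
      exact (QuotientGroup.eq_one_iff _).2 (hcentral y m hz)
  · let φ : ↥M →* ↥E := MonoidHom.mk' (fun m => ⟨(m : Q) ^ p, hMp m m.2⟩)
      fun a b => Subtype.ext (hmul a a.2 b b.2)
    have h1 : Nat.card ↥φ.ker * Nat.card ↥φ.range = Nat.card ↥M := by
      rw [← index_ker, card_mul_index]
    rw [← h1]
    refine Nat.mul_le_mul ?_ (Nat.card_le_card_of_injective _ φ.range.subtype_injective)
    rw [← Core.card_map_subtype φ.ker]
    refine card_le_of_le ?_
    rintro _ ⟨m, hm, rfl⟩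
    exact (hE _).2 (congrArg Subtype.val (MonoidHom.mem_ker.1 hm))

variable {G : Type v} [Group G] [Finite G] {p : ℕ} [hp : Fact p.Prime]

/-- Chief factors of `p`-power order covered by `X` have order `p` or `p²`. -/
def Small (p : ℕ) (X : Subgroup G) : Prop :=
  ∀ (H K : Subgroup G), H.Normal → K.Normal → K < H → (∃ n : ℕ, K.relIndex H = p ^ n) →
    (∀ L : Subgroup G, L.Normal → K ≤ L → L ≤ H → L = K ∨ L = H) → H ≤ K ⊔ X →
      K.relIndex H = p ∨ K.relIndex H = p ^ 2

omit [Finite G] hp in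
theorem small_bot : Small p (⊥ : Subgroup G) := fun H K _ _ hlt _ _ hle => by
  rw [sup_bot_eq] at hle
  exact absurd hle hlt.not_ge

theorem eq_p_or_sq {m n : ℕ} (h : m = p ^ n) (h1 : m ≠ 1) (h2 : m ≤ p ^ 2) : m = p ∨ m = p ^ 2 := by
  subst h
  have hn := (Nat.pow_le_pow_iff_right hp.out.one_lt).1 h2
  rcases n with _ | _ | n
  · exact absurd (pow_zero p) h1
  · exact Or.inl (pow_one p)
  · right; rw [show n = 0 by omega]

theorem small_step {X Y : Subgroup G} (hY : Y.Normal) (hidx : Y.relIndex X ≤ p ^ 2)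
    (hS : Small p Y) : Small p X := by
  intro H K hH hK hlt hn hchief hle
  by_cases hYc : H ≤ K ⊔ Y
  · exact hS H K hH hK hlt hn hchief hYc
  obtain ⟨n, hn⟩ := hn
  haveI := hK; haveI := hY; haveI := hH
  have hinf : H ⊓ (K ⊔ Y) = K := (hchief _ inferInstance (le_inf hlt.le le_sup_left) inf_le_left).resolve_right
    fun e => hYc (e ▸ inf_le_right)
  refine eq_p_or_sq hn (fun h => hlt.not_ge (relIndex_eq_one.1 h)) ?_
  have e1 : K.relIndex H = (K ⊔ Y).relIndex H := by
    conv_lhs => rw [← hinf]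
    rw [inf_relIndex_left]
  rw [e1]
  refine le_trans (relIndex_le_of_le_right hle relIndex_ne_zero') ?_
  rw [sup_comm K X, sup_comm K Y]
  refine le_trans ?_ hidx
  refine le_trans (relIndex_le_of_le_right (sup_le_sup_left (le_sup_right : K ≤ Y ⊔ K) X) relIndex_ne_zero') ?_
  rw [relIndex_sup_right]
  exact relIndex_le_of_le_left le_sup_left relIndex_ne_zero'
where
  relIndex_ne_zero' {A B : Subgroup G} : A.relIndex B ≠ 0 := fun h => by
    rw [relIndex, index, Nat.card_eq_zero] at h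
    rcases h with h | h
    · exact h.false (QuotientGroup.mk 1)
    · exact h.false
  sup_assoc' {A B C : Subgroup G} : A ⊔ (B ⊔ C) = A ⊔ B ⊔ C := (sup_assoc A B C).symm

/-- A normal `p`-subgroup with central `Ω₁` of order at most `p²`. -/
theorem small_of_central_omega (hp2 : p ≠ 2) {K : Subgroup G} [hKn : K.Normal] (hKp : IsPGroup p ↥K)
    (E : Subgroup G) (hEcard : Nat.card ↥E ≤ p ^ 2) (hE : ∀ x ∈ K, x ^ p = 1 → x ∈ E)
    (hEc : ∀ x ∈ K, x ^ p = 1 → ∀ u ∈ K, u * x = x * u) : Small p K := by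
  classical
  let Inv : Subgroup G → Prop := fun W => W.Normal ∧ W ≤ K ∧ Small p W ∧
    (∀ x ∈ K, x ^ p ∈ W → ∀ u ∈ K, ⁅u, x⁆ ∈ W) ∧
    ∃ T : Subgroup G, (∀ x, x ∈ T ↔ x ∈ K ∧ x ^ p ∈ W) ∧ W.relIndex T ≤ p ^ 2
  let T₀ : Subgroup G :=
    { carrier := {x | x ∈ K ∧ x ^ p = 1}
      one_mem' := ⟨K.one_mem, one_pow p⟩
      mul_mem' := fun {a b} ha hb => ⟨K.mul_mem ha.1 hb.1, by
        rw [(show Commute a b from (hEc b hb.1 hb.2 a ha.1)).mul_pow, ha.2, hb.2, one_mul]⟩
      inv_mem' := fun {a} ha => ⟨K.inv_mem ha.1, by rw [inv_pow, ha.2, inv_one]⟩ }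
  have h0 : Inv ⊥ := ⟨inferInstance, bot_le, small_bot,
    fun x hx hxp u hu => mem_bot.2 (commutatorElement_eq_one_iff_mul_comm.2 (hEc x hx (mem_bot.1 hxp) u hu)),
    T₀, fun x => by rw [mem_bot]; rfl,
    (relIndex_bot_left T₀).le.trans ((card_le_of_le (fun x (hx : x ∈ T₀) => hE x hx.1 hx.2)).trans hEcard)⟩
  obtain ⟨W, hW, hmax⟩ := Set.exists_max_image {W | Inv W} (fun W => Nat.card ↥W) (Set.toFinite _) ⟨⊥, h0⟩
  obtain ⟨hWn, hWK, hWs, hWc, T, hT, hTi⟩ := hW
  haveI := hWn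
  have hTK : T ≤ K := fun x hx => ((hT x).1 hx).1
  have hWT : W ≤ T := fun x hx => (hT x).2 ⟨hWK hx, W.pow_mem hx p⟩
  haveI hTn : T.Normal := ⟨fun x hx g => (hT _).2 ⟨hKn.conj_mem x ((hT x).1 hx).1 g, by
    rw [conj_pow]; exact hWn.conj_mem _ ((hT x).1 hx).2 g⟩⟩
  have hTs : Small p T := small_step hWn hTi hWs
  -- the quotient
  set W' := W.subgroupOf K with hW'
  set π := QuotientGroup.mk' W' with hπ
  set E' := (T.subgroupOf K).map π with hE'
  have hE'c : E' ≤ center (↥K ⧸ W') := by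
    rintro _ ⟨t, ht, rfl⟩
    refine mem_center_iff.2 fun q => ?_
    obtain ⟨u, rfl⟩ := QuotientGroup.mk'_surjective W' q
    rw [← commutatorElement_eq_one_iff_mul_comm, ← map_commutatorElement]
    exact (QuotientGroup.eq_one_iff _).2 (mem_subgroupOf.2 (hWc t t.2 ((hT t).1 (mem_subgroupOf.1 ht)).2 u u.2))
  have hE'm : ∀ y, y ∈ E' ↔ y ^ p = 1 := by
    intro y
    constructor
    · rintro ⟨t, ht, rfl⟩
      rw [← map_pow]
      exact (QuotientGroup.eq_one_iff _).2 (mem_subgroupOf.2 ((hT t).1 (mem_subgroupOf.1 ht)).2)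
    · intro hy
      obtain ⟨t, rfl⟩ := QuotientGroup.mk'_surjective W' y
      rw [← map_pow] at hy
      exact ⟨t, mem_subgroupOf.2 ((hT t).2 ⟨t.2, mem_subgroupOf.1 ((QuotientGroup.eq_one_iff _).1 hy)⟩), rfl⟩
  obtain ⟨M, hM, hMc, hMcard⟩ := next_omega hp2 (hKp.to_quotient W') E' hE'c hE'm
  have hback : ∀ k : ↥K, π k ∈ E' → (k : G) ∈ T := by
    rintro k ⟨t, ht, e⟩
    have h := (hE'm (π k)).1 ⟨t, ht, e⟩
    rw [← map_pow] at h
    exact (hT _).2 ⟨k.2, mem_subgroupOf.1 ((QuotientGroup.eq_one_iff _).1 h)⟩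
  have hTinv : Inv T := by
    refine ⟨hTn, hTK, hTs, fun x hx hxp u hu => ?_, (M.comap π).map K.subtype, fun x => ?_, ?_⟩
    · have h1 : π ⟨x, hx⟩ ∈ M := (hM _).1 (by rw [← map_pow]; exact mem_map_of_mem π (mem_subgroupOf.2 hxp))
      have h2 := hMc (π ⟨u, hu⟩) _ h1
      rw [← map_commutatorElement] at h2
      exact hback _ h2
    · constructor
      · rintro ⟨k, hk, rfl⟩
        refine ⟨k.2, hback (k ^ p) ?_⟩
        rw [map_pow]; exact (hM _).2 hk
      · rintro ⟨hx, hxp⟩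
        exact ⟨⟨x, hx⟩, (hM _).1 (by rw [← map_pow]; exact mem_map_of_mem π (mem_subgroupOf.2 hxp)), rfl⟩
    · have e1 : T.relIndex ((M.comap π).map K.subtype) = (T.subgroupOf K).relIndex (M.comap π) := by
        conv_lhs => rw [← map_subgroupOf_eq_of_le hTK]
        exact relIndex_map_map_of_injective _ _ K.subtype_injective
      have e2 : (T.subgroupOf K).relIndex (M.comap π) = E'.relIndex M := by
        have h1 : T.subgroupOf K = E'.comap π := by
          rw [hE', comap_map_eq, hπ, QuotientGroup.ker_mk', left_eq_sup]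
          exact fun z hz => mem_subgroupOf.2 (hWT (mem_subgroupOf.1 hz))
        rw [h1]
        exact relIndex_comap_comap_of_surjective' π (QuotientGroup.mk'_surjective W') E' M
      have hEM : E' ≤ M := fun y hy => (hM y).1 (by rw [(hE'm y).1 hy]; exact E'.one_mem)
      have h3 := Core.card_mul_relIndex hEM
      have h4 : Nat.card ↥E' ≤ p ^ 2 := by
        have h5 : W'.relIndex (T.subgroupOf K) = Nat.card ↥E' := by
          rw [hE', ← relIndex_ker, hπ, QuotientGroup.ker_mk']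
        rw [← h5, relIndex_subgroupOf hTK]; exact hTi
      rw [e1, e2]
      refine le_trans (Nat.le_of_mul_le_mul_left ?_ (Nat.card_pos (α := ↥E'))) h4
      rw [h3]; exact hMcard
  have hWTeq : W = T := eq_of_le_of_card_ge hWT (hmax T hTinv)
  -- no element of order `p` remains
  have hWK' : W = K := by
    by_contra hne
    obtain ⟨x, hx, hxW⟩ := SetLike.exists_of_lt (lt_of_le_of_ne hWK hne)
    have hex : ∃ n, (⟨x, hx⟩ : ↥K) ^ p ^ n ∈ W' := by
      obtain ⟨n, hn⟩ := hKp ⟨x, hx⟩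
      exact ⟨n, by rw [hn]; exact W'.one_mem⟩
    have hn0 : Nat.find hex ≠ 0 := fun h => by
      have := Nat.find_spec hex
      rw [h, pow_zero, pow_one] at this
      exact hxW (mem_subgroupOf.1 this)
    obtain ⟨n, hn⟩ := Nat.exists_eq_succ_of_ne_zero hn0
    have h1 := Nat.find_min hex (m := n) (by omega)
    refine h1 (mem_subgroupOf.2 (hWTeq.ge ((hT _).2 ⟨(((⟨x, hx⟩ : ↥K) ^ p ^ n : ↥K)).2, ?_⟩)))
    have h2 := mem_subgroupOf.1 (Nat.find_spec hex)
    rw [hn, pow_succ, pow_mul] at h2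
    exact h2
  exact hWK' ▸ hWs
where
  relIndex_comap_comap_of_surjective' {A : Type v} [Group A] {B : Type v} [Group B] (f : A →* B)
      (hf : Function.Surjective f) (X Y : Subgroup B) : (X.comap f).relIndex (Y.comap f) = X.relIndex Y := by
    rw [relIndex_comap, map_comap_eq_self_of_surjective hf]

/-- The `p`-core of a group of `p`-rank at most two. -/
theorem small_pCore (hp2 : p ≠ 2) (hr : Cfsg.PRankLE p 2 G) : Small p (Cfsg.pCore p G) := by
  classical
  set P := Cfsg.pCore p G with hP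
  have hPp : IsPGroup p ↥P := Core.pCore_isPGroup p G
  have hrk : ∀ A : Subgroup ↥P, Cfsg.IsElementaryAbelian p A → Nat.card ↥A ≤ p ^ 2 := fun A hA =>
    Cfsg.Lib.Local.RankTwoAut.pRankLE_subgroup hr P A hA.1 hA.2
  have hsup : ∀ (A : Subgroup ↥P) (y : ↥P), Cfsg.IsElementaryAbelian p A → y ^ p = 1 →
      (∀ a ∈ A, a * y = y * a) → Nat.card ↥A = p ^ 2 → y ∈ A := by
    intro A y hA hy hc hAc
    have hz : Cfsg.IsElementaryAbelian p (zpowers y) := ⟨inferInstance, fun t ht => by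
      obtain ⟨i, rfl⟩ := mem_zpowers_iff.1 ht
      rw [← zpow_natCast, ← zpow_mul, mul_comm, zpow_mul, zpow_natCast, hy, one_zpow]⟩
    have hc' : ∀ a ∈ A, ∀ t ∈ zpowers y, a * t = t * a := fun a ha t ht => by
      obtain ⟨i, rfl⟩ := mem_zpowers_iff.1 ht
      exact (Commute.zpow_right (hc a ha) i).eq
    exact (eq_of_le_of_card_ge (le_sup_left : A ≤ A ⊔ zpowers y)
      ((hrk _ (Cfsg.Lib.Sig.RankThree.elementary_sup hA hz hc')).trans hAc.ge)).ge (mem_sup_right (mem_zpowers y))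
  have hrel : ∀ X Y : Subgroup ↥P, (X.map P.subtype).relIndex (Y.map P.subtype) = X.relIndex Y := fun X Y =>
    relIndex_map_map_of_injective X Y P.subtype_injective
  have hidxP : ∀ X : Subgroup ↥P, (X.map P.subtype).relIndex P = X.index := fun X =>
    congrArg Subgroup.index (comap_map_eq_self_of_injective P.subtype_injective X)
  by_cases hno : ∃ E : Subgroup ↥P, E.Normal ∧ Cfsg.IsElementaryAbelian p E ∧ Nat.card ↥E = p ^ 2
  swap
  · -- cyclic
    obtain ⟨a, -, ha⟩ := NormalSq.cyclic_or_three_mod_four hPp hno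
    have htop : zpowers a = ⊤ := ha.resolve_right fun h => hp2 h.1
    haveI : IsCyclic ↥P := ⟨a, fun x => htop.ge (mem_top x)⟩
    letI := IsCyclic.commGroup (α := ↥P)
    refine small_of_central_omega hp2 hPp ((powMonoidHom p : ↥P →* ↥P).ker.map P.subtype) ?_
      (fun x hx hxp => ⟨⟨x, hx⟩, MonoidHom.mem_ker.2 (Subtype.ext hxp), rfl⟩)
      (fun x hx _ u hu => congrArg Subtype.val (mul_comm (⟨u, hu⟩ : ↥P) ⟨x, hx⟩))
    rw [Core.card_map_subtype]
    exact hrk _ ⟨inferInstance, fun y hy => MonoidHom.mem_ker.1 hy⟩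
  obtain ⟨E, hEn, hE, hEc⟩ := hno
  haveI := hEn
  set Z₂ := Subgroup.upperCentralSeries ↥P 2 with hZ₂
  have hcomm : ∀ x ∈ Z₂, ∀ g : ↥P, ⁅x, g⁆ ∈ center ↥P := fun x hx g => by
    have h := (Subgroup.mem_upperCentralSeries_succ_iff.1 hx) g
    rw [Subgroup.upperCentralSeries_one] at h
    exact h
  have hcl : commutator ↥Z₂ ≤ center ↥Z₂ := by
    rw [_root_.commutator_def, commutator_le]
    intro a _ b _
    exact mem_center_iff.2 fun g => Subtype.ext (mem_center_iff.1 (hcomm a a.2 b) g)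
  have hpd : p ∣ p.choose 2 := hp.out.dvd_choose_self two_ne_zero (lt_of_le_of_ne hp.out.two_le (Ne.symm hp2))
  let D : Subgroup ↥P :=
    { carrier := {x | x ∈ Z₂ ∧ x ^ p = 1}
      one_mem' := ⟨Z₂.one_mem, one_pow p⟩
      mul_mem' := fun {a b} ha hb => ⟨Z₂.mul_mem ha.1 hb.1, by
        obtain ⟨k, hk⟩ := hpd
        have h := congrArg Subtype.val (mul_pow_of_class_two hcl (⟨a, ha.1⟩ : Z₂) ⟨b, hb.1⟩ p)
        simp only [SubmonoidClass.coe_pow, Subgroup.coe_mul] at h
        have hc : (⁅(⟨b, hb.1⟩ : Z₂), (⟨a, ha.1⟩ : Z₂)⁆ : Z₂) ^ p = 1 := by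
          rw [← commutatorElement_pow_left hcl, commutatorElement_eq_one_iff_mul_comm]
          exact Subtype.ext (by show b ^ p * a = a * b ^ p; rw [hb.2, one_mul, mul_one])
        have h' := congrArg Subtype.val hc
        simp only [SubmonoidClass.coe_pow, OneMemClass.coe_one] at h'
        rw [h, hk, pow_mul, h', one_pow, mul_one, ha.2, hb.2, one_mul]⟩
      inv_mem' := fun {a} ha => ⟨Z₂.inv_mem ha.1, by rw [inv_pow, ha.2, inv_one]⟩ }
  haveI hDch : D.Characteristic := by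
    refine characteristic_iff_le_comap.2 fun φ x hx => ⟨?_, ?_⟩
    · exact (characteristic_iff_le_comap.1 (inferInstance : Z₂.Characteristic) φ) hx.1
    · show φ x ^ p = 1; rw [← map_pow, hx.2, map_one]
  have hED : E ≤ D := by
    intro e he
    refine ⟨?_, hE.2 e he⟩
    rw [hZ₂, Subgroup.mem_upperCentralSeries_succ_iff]
    intro g
    rw [Subgroup.upperCentralSeries_one]
    obtain ⟨z, hzE, hzc, hzo⟩ := exists_mem_center_orderOf_eq hPp (N := E) (fun h => by
      rw [h, card_bot] at hEc; exact (Nat.one_lt_pow two_ne_zero hp.out.one_lt).ne hEc)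
    haveI : (zpowers z).Normal := ⟨fun x hx u => by
      rwa [mem_center_iff.1 ((zpowers_le.2 hzc) hx) u, mul_inv_cancel_right]⟩
    have h1 := Cfsg.Lib.Sig.RankFour.conj_mul_inv_mem hPp (zpowers_le.2 hzE)
      (by rw [hEc, Nat.card_zpowers, hzo]; ring) (g := g) he
    have h2 := inv_mem ((zpowers_le.2 hzc) h1)
    rw [mul_inv_rev, mul_inv_rev, mul_inv_rev, inv_inv, inv_inv, ← mul_assoc, ← mul_assoc] at h2
    exact h2
  set K := centralizer (D : Set ↥P) with hK
  haveI hKch : K.Characteristic := by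
    refine characteristic_iff_le_comap.2 fun φ x hx => mem_centralizer_iff.2 fun d hd => ?_
    have h := mem_centralizer_iff.1 hx (φ.symm d) ((characteristic_iff_le_comap.1 hDch φ.symm) hd)
    have h' := congrArg φ h
    rw [map_mul, map_mul, φ.apply_symm_apply] at h'
    exact h'
  haveI : (K.map P.subtype).Normal := ConjAct.normal_of_characteristic_of_normal
  have hKE : K ≤ centralizer (E : Set ↥P) := centralizer_le (SetLike.coe_subset_coe.2 hED)
  have hΩ : ∀ y ∈ K, y ^ p = 1 → y ∈ E := fun y hy hyp =>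
    hsup E y hE hyp (fun a ha => mem_centralizer_iff.1 (hKE hy) a ha) hEc
  have hΩc : ∀ y ∈ K, y ^ p = 1 → ∀ u ∈ K, u * y = y * u := fun y hy hyp u hu =>
    (mem_centralizer_iff.1 hu y (hED (hΩ y hy hyp))).symm
  have hKs : Small p (K.map P.subtype) := by
    refine small_of_central_omega hp2 (hPp.to_le (map_subtype_le K)) (E.map P.subtype) ?_ ?_ ?_
    · rw [Core.card_map_subtype, hEc]
    · rintro _ ⟨x, hx, rfl⟩ hxp
      exact mem_map_of_mem _ (hΩ x hx (Subtype.ext hxp))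
    · rintro _ ⟨x, hx, rfl⟩ hxp _ ⟨u, hu, rfl⟩
      exact congrArg Subtype.val (hΩc x hx (Subtype.ext hxp) u hu)
  have hCE := Cfsg.Lib.Sig.RankThree.index_centralizer_le hPp hEc
  by_cases hDE : D = E
  · refine small_step inferInstance ?_ hKs
    rw [hidxP, hK, hDE]
    exact hCE.trans (Nat.le_self_pow two_ne_zero p)
  -- `D` is extraspecial of order `p³`
  obtain ⟨d, hd, hdE⟩ := SetLike.exists_of_lt (lt_of_le_of_ne hED (Ne.symm hDE))
  have hmaxab : ∀ x ∈ D, x ∈ centralizer (E : Set ↥P) → x ∈ E := fun x hx hxc =>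
    hsup E x hE hx.2 (fun a ha => mem_centralizer_iff.1 hxc a ha) hEc
  have hDEc : D ⊓ centralizer (E : Set ↥P) = E := le_antisymm (fun x hx => hmaxab x hx.1 hx.2)
    (le_inf hED fun x hx => mem_centralizer_iff.2 fun a ha => Cfsg.Lib.Sig.RankThree.commute_of_mem hE ha hx)
  have hD3 : Nat.card ↥D ≤ p ^ 3 := by
    refine (Cfsg.Lib.Sig.RankThree.card_le_card_inf_mul_index D (centralizer (E : Set ↥P))).trans ?_
    rw [hDEc, hEc]
    calc p ^ 2 * (centralizer (E : Set ↥P)).index ≤ p ^ 2 * p := Nat.mul_le_mul_left _ hCE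
      _ = p ^ 3 := by ring
  have hgen : E ⊔ zpowers d = D := by
    refine eq_of_le_of_card_ge (sup_le hED (zpowers_le.2 hd)) (hD3.trans ?_)
    obtain ⟨j, hj⟩ := IsPGroup.iff_card.1 (hPp.to_subgroup (E ⊔ zpowers d))
    have h1 : Nat.card ↥E < Nat.card ↥(E ⊔ zpowers d : Subgroup ↥P) := by
      rcases lt_or_ge (Nat.card ↥E) (Nat.card ↥(E ⊔ zpowers d : Subgroup ↥P)) with h | h
      · exact h
      · exact absurd ((eq_of_le_of_card_ge le_sup_left h).symm ▸ mem_sup_right (mem_zpowers d) : d ∈ E) hdE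
    rw [hj, hEc] at h1
    rw [hj]
    exact Cfsg.Lib.Sig.RankThree.pow_succ_le h1
  have hKidx : K.index ≤ p * p ^ 2 := by
    have hle : centralizer (E : Set ↥P) ⊓ centralizer ({d} : Set ↥P) ≤ K := by
      rw [hK, le_centralizer_iff]
      conv_lhs => rw [← hgen]
      exact sup_le (le_centralizer_iff.1 inf_le_left)
        (zpowers_le.2 (mem_centralizer_iff.2 fun g hg => mem_centralizer_singleton_iff.1 hg.2))
    refine (Nat.le_of_dvd (Nat.pos_of_ne_zero index_ne_zero_of_finite) (index_dvd_of_le hle)).trans ?_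
    refine index_inf_le.trans (Nat.mul_le_mul hCE (Cfsg.Lib.Sig.RankThree.index_le_of_lt hPp (k := 2) ?_))
    exact lt_of_lt_of_le (Cfsg.Lib.Sig.RankThree.index_centralizer_lt hd fun h => hdE (h ▸ E.one_mem)) hD3
  have hcardD : Nat.card ↥D = p ^ 3 := by
    obtain ⟨j, hj⟩ := IsPGroup.iff_card.1 (hPp.to_subgroup D)
    refine le_antisymm hD3 ?_
    rw [hj]
    refine Cfsg.Lib.Sig.RankThree.pow_succ_le ?_
    rw [← hj, ← hEc]
    exact lt_of_le_of_ne (card_le_of_le hED) fun h => hdE ((eq_of_le_of_card_ge hED h.ge).ge hd)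
  have hKD : Nat.card ↥(K ⊓ D : Subgroup ↥P) ≤ p := by
    have hle : K ⊓ D ≤ E := fun x hx => hmaxab x hx.2 (hKE hx.1)
    obtain ⟨j, hj⟩ := IsPGroup.iff_card.1 (hPp.to_subgroup (K ⊓ D))
    have hlt : Nat.card ↥(K ⊓ D : Subgroup ↥P) < p ^ (1 + 1) := by
      refine lt_of_le_of_ne ((card_le_of_le hle).trans hEc.le) fun h => ?_
      have e : K ⊓ D = E := eq_of_le_of_card_ge hle (hEc.trans h.symm).le
      have hdC : d ∈ centralizer (E : Set ↥P) := mem_centralizer_iff.2 fun a ha =>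
        (mem_centralizer_iff.1 ((e.ge ha : a ∈ K ⊓ D).1) d hd).symm
      exact hdE (hmaxab d hd hdC)
    rw [hj] at hlt ⊢
    calc p ^ j ≤ p ^ 1 := Nat.pow_le_pow_right hp.out.pos
          (Nat.lt_succ_iff.1 ((Nat.pow_lt_pow_iff_right hp.out.one_lt).1 hlt))
      _ = p := pow_one p
  set L := K ⊔ D with hL
  haveI : (D.map P.subtype).Normal := ConjAct.normal_of_characteristic_of_normal
  haveI hLn : (L.map P.subtype).Normal := by rw [hL, Subgroup.map_sup]; infer_instance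
  have hindex := relIndex_mul_index (le_sup_left : K ≤ L)
  have hKDrel : K.relIndex D * Nat.card ↥(K ⊓ D : Subgroup ↥P) = p ^ 3 := by
    rw [mul_comm, ← hcardD, ← inf_relIndex_right, Core.card_mul_relIndex inf_le_right]
  have hrelD : K.relIndex L = K.relIndex D := by rw [hL, sup_comm, relIndex_sup_right]
  have hmul : p ^ 2 ≤ K.relIndex L := by
    refine Nat.le_of_mul_le_mul_right (?_ : p ^ 2 * p ≤ K.relIndex L * p) hp.out.pos
    calc p ^ 2 * p = p ^ 3 := by ring
      _ = K.relIndex D * Nat.card ↥(K ⊓ D : Subgroup ↥P) := hKDrel.symm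
      _ ≤ _ := by rw [hrelD]; exact Nat.mul_le_mul_left _ hKD
  have hKL : K.relIndex L ≤ p ^ 2 := by
    rw [hrelD]
    have hZ1 : p ≤ Nat.card ↥(K ⊓ D : Subgroup ↥P) := by
      obtain ⟨z, hz, hzc, hzo⟩ := exists_mem_center_orderOf_eq hPp (N := E) (fun h => by
        rw [h, card_bot] at hEc; exact (Nat.one_lt_pow two_ne_zero hp.out.one_lt).ne hEc)
      rw [← hzo, ← Nat.card_zpowers]
      exact card_le_of_le (zpowers_le.2 ⟨mem_centralizer_iff.2 fun a _ => mem_center_iff.1 hzc a, hED hz⟩)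
    refine Nat.le_of_mul_le_mul_right (?_ : K.relIndex D * p ≤ p ^ 2 * p) hp.out.pos
    calc K.relIndex D * p ≤ K.relIndex D * Nat.card ↥(K ⊓ D : Subgroup ↥P) := Nat.mul_le_mul_left _ hZ1
      _ = p ^ 3 := hKDrel
      _ = p ^ 2 * p := by ring
  have hLs : Small p (L.map P.subtype) := small_step inferInstance (by rw [hrel]; exact hKL) hKs
  refine small_step hLn ?_ hLs
  rw [hidxP]
  refine Nat.le_of_mul_le_mul_left (?_ : p ^ 2 * L.index ≤ p ^ 2 * p ^ 2) (pow_pos hp.out.pos 2)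
  calc p ^ 2 * L.index ≤ K.relIndex L * L.index := Nat.mul_le_mul_right _ hmul
    _ = K.index := hindex
    _ ≤ p * p ^ 2 := hKidx
    _ ≤ _ := Nat.mul_le_mul_right _ (Nat.le_self_pow two_ne_zero p)

theorem chief_of_core_bot (hp2 : p ≠ 2) (hG : Cfsg.IsPSolvable p G) (hO : Cfsg.pPrimeCore p G = ⊥)
    (hr : Cfsg.PRankLE p 2 G) : Small p (⊤ : Subgroup G) := by
  classical
  set P := Cfsg.pCore p G with hP
  have hPp : IsPGroup p ↥P := Core.pCore_isPGroup p G
  have hC := Core.centralizer_pCore_le_of_isPSolvable hG hO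
  obtain ⟨f, hf⟩ := Cfsg.Lib.Local.RankTwoAut.exists_hom hp2 hPp (Cfsg.Lib.Local.RankTwoAut.pRankLE_subgroup hr _)
  set φ := f.comp (MulAut.conjNormal (H := P)) with hφ
  have hker : IsPGroup p ↥φ.ker := by
    rintro ⟨g, hg⟩
    obtain ⟨i, hi⟩ := hf ⟨MulAut.conjNormal g, hg⟩
    have h' : g ^ p ^ i ∈ P := by
      refine hC (mem_centralizer_iff.mpr fun z hz => ?_)
      have e : MulAut.conjNormal (g ^ p ^ i) (⟨z, hz⟩ : P) = ⟨z, hz⟩ := by
        rw [map_pow]
        have := congrArg Subtype.val hi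
        simp only [SubmonoidClass.coe_pow, OneMemClass.coe_one] at this
        rw [this, MulAut.one_apply]
      have e' := congrArg Subtype.val e
      rw [MulAut.conjNormal_apply] at e'
      exact (mul_inv_eq_iff_eq_mul.1 e').symm
    obtain ⟨j, hj⟩ := hPp ⟨_, h'⟩
    refine ⟨i + j, Subtype.ext ?_⟩
    have hj' : (g ^ p ^ i) ^ p ^ j = 1 := congrArg Subtype.val hj
    show g ^ p ^ (i + j) = 1
    rw [pow_add, pow_mul, hj']
  have hkerP : φ.ker ≤ P := Core.le_pCore' inferInstance hker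
  have hidx : P.index ∣ Nat.card (GL (Fin 2) (ZMod p)) := by
    refine (index_dvd_of_le hkerP).trans ?_
    rw [index_ker]
    exact card_subgroup_dvd_card _
  have hsq : ¬ p ^ 2 ∣ Nat.card (GL (Fin 2) (ZMod p)) := by
    rw [Matrix.card_GL_field, Fin.prod_univ_two, ZMod.card]
    simp only [Fin.val_zero, Fin.val_one, pow_zero, pow_one]
    intro h
    have h2 := hp.out.two_le
    have e : (p ^ 2 - 1) * (p ^ 2 - p) = p * ((p ^ 2 - 1) * (p - 1)) := by
      rw [show p ^ 2 - p = p * (p - 1) by rw [Nat.mul_sub, mul_one, pow_two]]; ring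
    rw [e, pow_two, Nat.mul_dvd_mul_iff_left hp.out.pos, ← pow_two] at h
    rcases hp.out.dvd_mul.1 h with h | h
    · have h3 : p ∣ p ^ 2 := dvd_pow_self p two_ne_zero
      have h4 := Nat.dvd_sub h3 h
      rw [Nat.sub_sub_self (Nat.one_le_pow _ _ hp.out.pos)] at h4
      exact hp.out.one_lt.ne' (Nat.dvd_one.1 h4)
    · exact absurd (Nat.le_of_dvd (by omega) h) (by omega)
  intro H K hH hK hlt hn hchief hle
  by_cases hYc : H ≤ K ⊔ P
  · exact small_pCore hp2 hr H K hH hK hlt hn hchief hYc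
  obtain ⟨n, hn⟩ := hn
  haveI := hK; haveI := hH
  have hinf : H ⊓ (K ⊔ P) = K := (hchief _ inferInstance (le_inf hlt.le le_sup_left) inf_le_left).resolve_right
    fun e => hYc (e ▸ inf_le_right)
  have hd : K.relIndex H ∣ Nat.card (GL (Fin 2) (ZMod p)) := by
    have e1 : K.relIndex H = (K ⊔ P).relIndex H := by
      conv_lhs => rw [← hinf]
      rw [inf_relIndex_left]
    rw [e1]
    exact ((relIndex_dvd_index_of_normal _ _).trans (index_dvd_of_le le_sup_right)).trans hidx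
  rw [hn] at hd ⊢
  rcases n with _ | _ | n
  · exact absurd (relIndex_eq_one.1 (hn.trans (pow_zero p))) hlt.not_ge
  · exact Or.inl (pow_one p)
  · exact absurd ((pow_dvd_pow p (by omega : 2 ≤ n + 1 + 1)).trans hd) hsq

theorem core (hp2 : p ≠ 2) (hG : Cfsg.IsPSolvable p G) (hr : Cfsg.PRankLE p 2 G) (H K : Subgroup G) [H.Normal]
    [K.Normal] (hKH : K < H) (hpow : ∃ n : ℕ, K.relIndex H = p ^ n)
    (hchief : ∀ L : Subgroup G, L.Normal → K ≤ L → L ≤ H → L = K ∨ L = H) :
    K.relIndex H = p ∨ K.relIndex H = p ^ 2 := by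
  set O := Cfsg.pPrimeCore p G with hO
  set π := QuotientGroup.mk' O with hπ
  have hsurj := QuotientGroup.mk'_surjective O
  have hcop := Core.pPrimeCore_coprime p G
  obtain ⟨n, hn⟩ := hpow
  have hne : K.relIndex H ≠ 1 := fun h => hKH.not_ge (relIndex_eq_one.1 h)
  have hinf : H ⊓ (K ⊔ O) = K := by
    refine (hchief _ inferInstance (le_inf hKH.le le_sup_left) inf_le_left).resolve_right fun e => hne ?_
    have hle : H ≤ K ⊔ O := e ▸ inf_le_right
    have h1 : K.relIndex H ∣ Nat.card ↥O := by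
      refine (Dvd.intro _ (relIndex_mul_relIndex K H (K ⊔ O) hKH.le hle)).trans ?_
      rw [sup_comm, relIndex_sup_right]
      exact relIndex_dvd_card K O
    exact Nat.eq_one_of_dvd_coprimes (hcop.pow_right n) h1 hn.dvd
  have hidx : (K.map π).relIndex (H.map π) = K.relIndex H := by
    rw [← relIndex_comap, comap_map_eq, hπ, QuotientGroup.ker_mk']
    conv_rhs => rw [← hinf, inf_relIndex_left]
  rw [← hidx]
  refine chief_of_core_bot hp2 (Core.isPSolvable_quotient hG O) Core.pPrimeCore_quotient_eq_bot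
    (Cfsg.Lib.Local.RankTwoAut.pRankLE_quotient hr O hcop) (H.map π) (K.map π)
    (Normal.map inferInstance π hsurj) (Normal.map inferInstance π hsurj)
    (lt_of_le_of_ne (map_mono hKH.le) fun e => hne (by rw [← hidx, e, relIndex_self])) ⟨n, hidx.trans hn⟩ ?_ ?_
  · intro L hL hKL hLH
    haveI := hL
    rcases hchief (H ⊓ L.comap π) inferInstance (le_inf hKH.le (map_le_iff_le_comap.1 hKL)) inf_le_left with h | h
    · refine Or.inl (le_antisymm (fun y hy => ?_) hKL)
      obtain ⟨x, hx, rfl⟩ := hLH hy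
      exact mem_map_of_mem π (h.le ⟨hx, hy⟩)
    · exact Or.inr (le_antisymm hLH (map_le_iff_le_comap.2 (h.ge.trans inf_le_right)))
  · rw [sup_top_eq]; exact le_top

/-- Let p be an odd prime and G a finite p-solvable group with no elementary abelian subgroup of order p³. Then every chief factor H/K of G (H, K normal in G with no normal subgroup of G strictly between them) whose order is a power of p has order p or p². -/
theorem result {G : Type*} [Group G] [Finite G] {p : ℕ} [Fact p.Prime] (hp : p ≠ 2)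
    (hG : Cfsg.IsPSolvable p G) (hr : Cfsg.PRankLE p 2 G)
    (H K : Subgroup G) [H.Normal] [K.Normal] (hKH : K < H) (hpow : ∃ n : ℕ, K.relIndex H = p ^ n)
    (hchief : ∀ L : Subgroup G, L.Normal → K ≤ L → L ≤ H → L = K ∨ L = H) :
    K.relIndex H = p ∨ K.relIndex H = p ^ 2 := by
  exact core hp hG hr H K hKH hpow hchief

end Cfsg.Agent.S1895
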