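import Mathlib
import Cfsg.Prelude.Def_Classical
import Cfsg.Agent.Lib.Dickson.PSLTwo

set_option autoImplicit false

namespace Cfsg.Agent.S1897

open Matrix
open scoped MatrixGroups

/-- Codes for the elements `a + b j`, `j² = -1`, of the field with nine elements. -/
abbrev E := Fin 3 × Fin 3

abbrev V3 := E × E × E

abbrev M3 := V3 × V3 × V3

def eAdd (x y : E) : E := (x.1 + y.1, x.2 + y.2)

def eMul (x y : E) : E := (x.1 * y.1 - x.2 * y.2, x.1 * y.2 + x.2 * y.1)

def eConj (x : E) : E := (x.1, -x.2)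

def dot (r c : V3) : E := eAdd (eAdd (eMul r.1 c.1) (eMul r.2.1 c.2.1)) (eMul r.2.2 c.2.2)

def col (B : M3) : V3 × V3 × V3 :=
  ((B.1.1, B.2.1.1, B.2.2.1), (B.1.2.1, B.2.1.2.1, B.2.2.2.1), (B.1.2.2, B.2.1.2.2, B.2.2.2.2))

def mRow (r : V3) (C : V3 × V3 × V3) : V3 := (dot r C.1, dot r C.2.1, dot r C.2.2)

def mMul (A B : M3) : M3 := (mRow A.1 (col B), mRow A.2.1 (col B), mRow A.2.2 (col B))

def mConj (A : M3) : M3 :=
  let f : V3 → V3 := fun r => (eConj r.1, eConj r.2.1, eConj r.2.2)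
  (f A.1, f A.2.1, f A.2.2)

def mOne : M3 := (((1, 0), (0, 0), (0, 0)), ((0, 0), (1, 0), (0, 0)), ((0, 0), (0, 0), (1, 0)))

def det3 (A : M3) : E :=
  let t : E → E → E → E := fun x y z => eMul (eMul x y) z
  let n : E → E := fun x => (-x.1, -x.2)
  eAdd (eAdd (eAdd (eAdd (eAdd (t A.1.1 A.2.1.2.1 A.2.2.2.2) (n (t A.1.1 A.2.1.2.2 A.2.2.2.1)))
    (n (t A.1.2.1 A.2.1.1 A.2.2.2.2))) (t A.1.2.1 A.2.1.2.2 A.2.2.1))
    (t A.1.2.2 A.2.1.1 A.2.2.2.1)) (n (t A.1.2.2 A.2.1.2.1 A.2.2.1))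

/-- The images of diagonal matrices. -/
def hTab : Fin 7 → M3
  | 1 => (((1,0), (0,0), (0,0)), ((0,0), (1,0), (0,0)), ((0,0), (0,0), (1,0)))
  | 2 => (((0,1), (2,2), (1,0)), ((1,2), (1,0), (2,0)), ((0,2), (1,0), (2,2)))
  | 3 => (((0,2), (1,1), (0,1)), ((2,1), (1,0), (1,0)), ((1,0), (2,0), (2,1)))
  | 4 => (((0,2), (1,1), (0,1)), ((2,1), (1,0), (1,0)), ((1,0), (2,0), (2,1)))
  | 5 => (((0,1), (2,2), (1,0)), ((1,2), (1,0), (2,0)), ((0,2), (1,0), (2,2)))
  | 6 => (((1,0), (0,0), (0,0)), ((0,0), (1,0), (0,0)), ((0,0), (0,0), (1,0)))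
  | _ => mOne

/-- The images of upper unipotent matrices. -/
def uTab : Fin 7 → M3
  | 0 => (((1,0), (0,0), (0,0)), ((0,0), (1,0), (0,0)), ((0,0), (0,0), (1,0)))
  | 1 => (((0,0), (1,1), (1,1)), ((0,0), (1,1), (2,2)), ((0,1), (0,0), (0,0)))
  | 2 => (((2,1), (0,2), (0,1)), ((1,2), (0,2), (0,1)), ((0,0), (2,1), (2,1)))
  | 3 => (((2,0), (2,2), (0,1)), ((2,0), (0,2), (1,1)), ((2,2), (1,0), (2,0)))
  | 4 => (((2,0), (2,0), (2,1)), ((2,1), (0,1), (1,0)), ((0,2), (1,2), (2,0)))
  | 5 => (((2,2), (1,1), (0,0)), ((0,1), (0,1), (2,2)), ((0,2), (0,2), (2,2)))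
  | 6 => (((0,0), (0,0), (0,2)), ((1,2), (1,2), (0,0)), ((1,2), (2,1), (0,0)))

/-- The image of `(0, -1; 1, 0)`. -/
def sImg : M3 := (((0,0), (1,2), (1,1)), ((1,1), (1,0), (0,2)), ((1,2), (0,1), (1,0)))

def inv7 (a : Fin 7) : Fin 7 := a ^ 5

/-- The image of `(a, b; c, d)` through its Bruhat decomposition. -/
def img (a b c d : Fin 7) : M3 :=
  if c = 0 then mMul (hTab a) (uTab (b * inv7 a))
  else mMul (mMul (uTab (a * inv7 c)) sImg) (mMul (hTab c) (uTab (d * inv7 c)))

theorem step_T : ∀ a b c d : Fin 7, a * d - b * c = 1 →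
    img a (a + b) c (c + d) = mMul (img a b c d) (uTab 1) := by
  decide +kernel

theorem step_S : ∀ a b c d : Fin 7, a * d - b * c = 1 →
    img b (-a) d (-c) = mMul (img a b c d) sImg := by
  decide +kernel

theorem tab_good : ∀ a b c d : Fin 7, a * d - b * c = 1 →
    det3 (img a b c d) = (1, 0) ∧ mMul (col (img a b c d)) (mConj (img a b c d)) = mOne := by
  decide +kernel

set_option synthInstance.maxSize 2000 in
theorem central : ∀ a b c d : Fin 7, a * d - b * c = 1 →
    mMul (img a b c d) (uTab 1) = mMul (uTab 1) (img a b c d) →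
    mMul (img a b c d) sImg = mMul sImg (img a b c d) →
      b = 0 ∧ c = 0 ∧ (a = 1 ∧ d = 1 ∨ a = 6 ∧ d = 6) := by
  decide +kernel

theorem central_pre : ∀ a b c d : Fin 7, a * d - b * c = 1 → a = a + c → a + b = b + d →
    b = -c → -a = -d → b = 0 ∧ c = 0 ∧ (a = 1 ∧ d = 1 ∨ a = 6 ∧ d = 6) := by
  decide +kernel

section Field

variable {F : Type*} [Field F] (j : F)

def val (n : Fin 3) : F := (n.val : ℕ)

def toF (x : E) : F := val x.1 + val x.2 * j

theorem val_add (h3 : (3 : F) = 0) (x y : Fin 3) : val (x + y) = (val x + val y : F) := by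
  fin_cases x <;> fin_cases y <;> simp [val] <;> grind

theorem val_mul (h3 : (3 : F) = 0) (x y : Fin 3) : val (x * y) = (val x * val y : F) := by
  fin_cases x <;> fin_cases y <;> simp [val] <;> grind

theorem val_neg (h3 : (3 : F) = 0) (x : Fin 3) : val (-x) = (-val x : F) := by
  have h := val_add h3 x (-x)
  rw [add_neg_cancel] at h
  have h0 : val (0 : Fin 3) = (0 : F) := by simp [val]
  rw [h0] at h
  linear_combination -h

theorem val_sub (h3 : (3 : F) = 0) (x y : Fin 3) : val (x - y) = (val x - val y : F) := by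
  rw [sub_eq_add_neg, val_add h3, val_neg h3, ← sub_eq_add_neg]

variable (h3 : (3 : F) = 0) (hj : j * j = -1)
include h3 hj

theorem toF_add (x y : E) : toF j (eAdd x y) = toF j x + toF j y := by
  simp only [toF, eAdd, val_add h3]; ring

theorem toF_mul (x y : E) : toF j (eMul x y) = toF j x * toF j y := by
  simp only [toF, eMul, val_add h3, val_sub h3, val_mul h3]
  linear_combination (-(val x.2 : F) * val y.2) * hj

theorem toF_conj (x : E) : toF j x ^ 3 = toF j (eConj x) := by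
  simp only [toF, eConj, val_neg h3]
  have key : ∀ n : Fin 3, (val n : F) ^ 3 = val n := by
    intro n; fin_cases n <;> simp [val] <;> grind
  have e1 := key x.1
  have e2 := key x.2
  linear_combination e1 - j * e2 + (val x.2 ^ 3 * j) * hj +
    ((val x.1 : F) ^ 2 * val x.2 * j + val x.1 * val x.2 ^ 2 * j ^ 2) * h3

end Field

variable {F : Type*} [Field F]

/-- The matrix of a code. -/
def toMat (j : F) (A : M3) : Matrix (Fin 3) (Fin 3) F :=
  !![toF j A.1.1, toF j A.1.2.1, toF j A.1.2.2;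
    toF j A.2.1.1, toF j A.2.1.2.1, toF j A.2.1.2.2;
    toF j A.2.2.1, toF j A.2.2.2.1, toF j A.2.2.2.2]

theorem toMat_mul (j : F) (h3 : (3 : F) = 0) (hj : j * j = -1) (A B : M3) :
    toMat j (mMul A B) = toMat j A * toMat j B := by
  ext r c
  fin_cases r <;> fin_cases c <;>
    simp [toMat, mMul, mRow, col, dot, toF_add j h3 hj, toF_mul j h3 hj, Matrix.mul_apply,
      Fin.sum_univ_three]

theorem toMat_one (j : F) : toMat j mOne = 1 := by
  ext r c
  fin_cases r <;> fin_cases c <;> simp [toMat, mOne, toF, val]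

theorem toMat_col (j : F) (A : M3) : toMat j (col A) = (toMat j A)ᵀ := by
  ext r c
  fin_cases r <;> fin_cases c <;> simp [toMat, col]

theorem toMat_conj (j : F) (h3 : (3 : F) = 0) (hj : j * j = -1) (A : M3) :
    toMat j (mConj A) = (toMat j A).map (· ^ 3) := by
  ext r c
  fin_cases r <;> fin_cases c <;> simp [toMat, mConj, toF_conj j h3 hj]

theorem toMat_det (j : F) (h3 : (3 : F) = 0) (hj : j * j = -1) (A : M3) :
    (toMat j A).det = toF j (det3 A) := by
  have hneg : ∀ x : E, toF j (-x.1, -x.2) = -toF j x := fun x => by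
    simp only [toF, val_neg h3]; ring
  simp only [det3, toF_add j h3 hj, hneg, toF_mul j h3 hj]
  simp [toMat, Matrix.det_fin_three]
  ring

theorem toF_inj (j : F) (h3 : (3 : F) = 0) (hj : j * j = -1) : Function.Injective (toF j) := by
  have key : ∀ x : E, toF j x = 0 → x = (0, 0) := by
    intro x h
    have h2 : (2 : F) ≠ 0 := fun h2 => one_ne_zero (α := F) (by linear_combination h3 - h2)
    obtain ⟨a, b⟩ := x
    fin_cases a <;> fin_cases b <;> simp [toF, val] at h ⊢ <;> grind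
  intro x y h
  have hd : toF j (x.1 - y.1, x.2 - y.2) = 0 := by
    simp only [toF, val_sub h3] at h ⊢; linear_combination h
  have h' := key _ hd
  simp only [Prod.mk.injEq, sub_eq_zero] at h'
  exact Prod.ext h'.1 h'.2

theorem toMat_inj (j : F) (h3 : (3 : F) = 0) (hj : j * j = -1) : Function.Injective (toMat j) := by
  intro A B h
  have hi := toF_inj j h3 hj
  have e : ∀ r c : Fin 3, toMat j A r c = toMat j B r c := fun r c => by rw [h]
  have h00 := e 0 0; have h01 := e 0 1; have h02 := e 0 2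
  have h10 := e 1 0; have h11 := e 1 1; have h12 := e 1 2
  have h20 := e 2 0; have h21 := e 2 1; have h22 := e 2 2
  simp [toMat] at h00 h01 h02 h10 h11 h12 h20 h21 h22
  obtain ⟨⟨a, b, c⟩, ⟨d, e', f⟩, g, k, l⟩ := A
  simp only at h00 h01 h02 h10 h11 h12 h20 h21 h22
  rw [hi h00, hi h01, hi h02, hi h10, hi h11, hi h12, hi h20, hi h21, hi h22]

/-- The code of an element of `SL(2, 7)`. -/
def code (A : SL(2, ZMod 7)) : M3 := img (A.1 0 0) (A.1 0 1) (A.1 1 0) (A.1 1 1)

theorem det_entries (A : SL(2, ZMod 7)) :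
    (A.1 0 0 : Fin 7) * A.1 1 1 - A.1 0 1 * A.1 1 0 = 1 := by
  have h := A.2
  rw [Matrix.det_fin_two] at h
  exact h

def tEl : SL(2, ZMod 7) := ⟨!![1, 1; 0, 1], by simp [Matrix.det_fin_two]⟩

def sEl : SL(2, ZMod 7) := ⟨!![0, -1; 1, 0], by simp [Matrix.det_fin_two]⟩

theorem code_tEl : code tEl = uTab 1 := by decide +kernel

theorem code_sEl : code sEl = sImg := by decide +kernel

theorem mul_tEl (A : SL(2, ZMod 7)) : (A * tEl).1 0 0 = A.1 0 0 ∧ (A * tEl).1 0 1 = A.1 0 0 + A.1 0 1 ∧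
    (A * tEl).1 1 0 = A.1 1 0 ∧ (A * tEl).1 1 1 = A.1 1 0 + A.1 1 1 := by
  rw [show (A * tEl).1 = A.1 * !![1, 1; 0, 1] from rfl]
  simp [Matrix.mul_apply, Fin.sum_univ_two]

theorem tEl_mul (A : SL(2, ZMod 7)) : (tEl * A).1 0 0 = A.1 0 0 + A.1 1 0 ∧
    (tEl * A).1 0 1 = A.1 0 1 + A.1 1 1 := by
  rw [show (tEl * A).1 = !![1, 1; 0, 1] * A.1 from rfl]
  simp [Matrix.mul_apply, Fin.sum_univ_two]

theorem mul_sEl (A : SL(2, ZMod 7)) : (A * sEl).1 0 0 = A.1 0 1 ∧ (A * sEl).1 0 1 = -A.1 0 0 ∧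
    (A * sEl).1 1 0 = A.1 1 1 ∧ (A * sEl).1 1 1 = -A.1 1 0 := by
  rw [show (A * sEl).1 = A.1 * !![0, -1; 1, 0] from rfl]
  simp [Matrix.mul_apply, Fin.sum_univ_two]

theorem sEl_mul (A : SL(2, ZMod 7)) : (sEl * A).1 0 0 = -A.1 1 0 ∧
    (sEl * A).1 0 1 = -A.1 1 1 := by
  rw [show (sEl * A).1 = !![0, -1; 1, 0] * A.1 from rfl]
  simp [Matrix.mul_apply, Fin.sum_univ_two]

theorem code_mul_T (A : SL(2, ZMod 7)) : code (A * tEl) = mMul (code A) (uTab 1) := by
  show _ = mMul (img _ _ _ _) _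
  rw [← step_T _ _ _ _ (det_entries A)]
  obtain ⟨h1, h2, h3, h4⟩ := mul_tEl A
  rw [code, h1, h2, h3, h4]
  rfl

theorem code_mul_S (A : SL(2, ZMod 7)) : code (A * sEl) = mMul (code A) sImg := by
  show _ = mMul (img _ _ _ _) _
  rw [← step_S _ _ _ _ (det_entries A)]
  obtain ⟨h1, h2, h3, h4⟩ := mul_sEl A
  rw [code, h1, h2, h3, h4]
  rfl

/-- A word in the two generators. -/
def word : Fin 7 → Fin 7 → Fin 7 → Fin 7 → SL(2, ZMod 7) := fun a b c d =>
  let h : Fin 7 → SL(2, ZMod 7) := fun x =>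
    tEl ^ x.val * sEl * tEl ^ (inv7 x).val * sEl * tEl ^ x.val * sEl
  if c = 0 then h a * tEl ^ (b * inv7 a).val
  else tEl ^ (a * inv7 c).val * sEl * (h c * tEl ^ (d * inv7 c).val)

/-- The entries of a matrix. -/
def ents (w : SL(2, ZMod 7)) : Fin 7 × Fin 7 × Fin 7 × Fin 7 :=
  (w.1 0 0, w.1 0 1, w.1 1 0, w.1 1 1)

theorem word_eq : ∀ a b c d : Fin 7, a * d - b * c = 1 →
    ents (word a b c d) = (a, b, c, d) ∨ ents (word a b c d * (sEl * sEl)) = (a, b, c, d) := by
  decide +kernel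

theorem closure_eq : Submonoid.closure ({tEl, sEl} : Set SL(2, ZMod 7)) = ⊤ := by
  refine eq_top_iff.2 fun A _ => ?_
  set C := Submonoid.closure ({tEl, sEl} : Set SL(2, ZMod 7))
  have ht : tEl ∈ C := Submonoid.subset_closure (by simp)
  have hs : sEl ∈ C := Submonoid.subset_closure (by simp)
  have hw : ∀ a b c d, word a b c d ∈ C := by
    intro a b c d
    unfold word
    simp only
    split_ifs <;> repeat' (first | exact hs | exact C.pow_mem ht _ | apply C.mul_mem)
  have hext : ∀ B : SL(2, ZMod 7), B.1 0 0 = A.1 0 0 → B.1 0 1 = A.1 0 1 → B.1 1 0 = A.1 1 0 →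
      B.1 1 1 = A.1 1 1 → B = A := by
    intro B h1 h2 h3 h4
    refine Matrix.SpecialLinearGroup.ext _ _ fun i k => ?_
    fin_cases i <;> fin_cases k <;> assumption
  rcases word_eq _ _ _ _ (det_entries A) with h | h
  · rw [← hext _ (congrArg Prod.fst h) (congrArg (·.2.1) h) (congrArg (·.2.2.1) h) (congrArg (·.2.2.2) h)]
    exact hw _ _ _ _
  · rw [← hext (word _ _ _ _ * (sEl * sEl)) (congrArg Prod.fst h) (congrArg (·.2.1) h) (congrArg (·.2.2.1) h) (congrArg (·.2.2.2) h)]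
    exact C.mul_mem (hw _ _ _ _) (C.mul_mem hs hs)

theorem sSq_apply : ∀ i k, (sEl * sEl).1 i k = if i = k then 6 else 0 := by decide +kernel

theorem main {F : Type*} [Field F] [Fintype F] (hF : Fintype.card F = 9)
    {K : Type*} [Field K] [Fintype K] (hK : Fintype.card K = 7) :
    ∃ H : Subgroup (Cfsg.PSU 3 F 3), Nonempty (H ≃* Matrix.ProjectiveSpecialLinearGroup (Fin 2) K) := by
  classical
  have : Fact (Nat.Prime 7) := ⟨by norm_num⟩
  have h3 : (3 : F) = 0 := by
    have h := Nat.cast_card_eq_zero F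
    rw [hF, show (9 : ℕ) = 3 ^ 2 from rfl, Nat.cast_pow] at h
    exact_mod_cast eq_zero_of_pow_eq_zero h
  obtain ⟨j, hj⟩ : ∃ j : F, j * j = -1 := by
    have : IsSquare (-1 : F) := FiniteField.isSquare_neg_one_iff.2 (by rw [hF]; norm_num)
    obtain ⟨j, hj⟩ := this
    exact ⟨j, hj.symm⟩
  let f : SL(2, ZMod 7) → Matrix (Fin 3) (Fin 3) F := fun A => toMat j (code A)
  have hgen : ∀ B A, f (A * B) = f A * f B := by
    intro B
    have hB : B ∈ Submonoid.closure ({tEl, sEl} : Set SL(2, ZMod 7)) := by rw [closure_eq]; trivial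
    induction hB using Submonoid.closure_induction with
    | mem x hx =>
      intro A
      rcases hx with rfl | rfl
      · simp only [f, code_mul_T, toMat_mul j h3 hj, code_tEl]
      · simp only [f, code_mul_S, toMat_mul j h3 hj, code_sEl]
    | one =>
      intro A
      have : code (1 : SL(2, ZMod 7)) = mOne := by decide +kernel
      simp only [f, mul_one, this, toMat_one]
    | mul x y _ _ hx hy =>
      intro A
      rw [← mul_assoc, hy, hx, hy x, mul_assoc]
  have hdet : ∀ A, (f A).det = 1 := fun A => by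
    rw [toMat_det j h3 hj, code, (tab_good _ _ _ _ (det_entries A)).1]
    simp [toF, val]
  let φ₀ : SL(2, ZMod 7) →* Matrix.SpecialLinearGroup (Fin 3) F :=
    { toFun := fun A => ⟨f A, hdet A⟩
      map_one' := Subtype.ext (by
        have : code (1 : SL(2, ZMod 7)) = mOne := by decide +kernel
        simp only [f, this, toMat_one]; rfl)
      map_mul' := fun A B => Subtype.ext (hgen B A) }
  have hmem : ∀ A, φ₀ A ∈ Cfsg.SU 3 F 3 := by
    intro A u v
    have h := congrArg (toMat j) (tab_good _ _ _ _ (det_entries A)).2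
    rw [toMat_mul j h3 hj, toMat_col, toMat_conj j h3 hj, toMat_one] at h
    change (f A)ᵀ * (f A).map (· ^ 3) = 1 at h
    change Cfsg.hermForm 3 F 3 ((f A) *ᵥ u) ((f A) *ᵥ v) = Cfsg.hermForm 3 F 3 u v
    have hfrob : ∀ w : Fin 3 → F, (fun i => ((f A) *ᵥ w) i ^ 3) = (f A).map (· ^ 3) *ᵥ fun i => w i ^ 3 := by
      intro w
      funext i
      simp only [Matrix.mulVec, dotProduct, Fin.sum_univ_three, Matrix.map_apply]
      linear_combination ((f A i 0 * w 0 + f A i 1 * w 1) * (f A i 2 * w 2) *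
        (f A i 0 * w 0 + f A i 1 * w 1 + f A i 2 * w 2) +
        f A i 0 * w 0 * (f A i 1 * w 1) * (f A i 0 * w 0 + f A i 1 * w 1)) * h3
    show (f A *ᵥ u) ⬝ᵥ (fun i => (f A *ᵥ v) i ^ 3) = u ⬝ᵥ fun i => v i ^ 3
    rw [hfrob, Matrix.dotProduct_mulVec, Matrix.vecMul_mulVec, h, Matrix.vecMul_one]
  let φ : SL(2, ZMod 7) →* Cfsg.SU 3 F 3 := φ₀.codRestrict _ hmem
  let ψ : SL(2, ZMod 7) →* Cfsg.PSU 3 F 3 := (QuotientGroup.mk' _).comp φ
  have hker : ψ.ker = Subgroup.center SL(2, ZMod 7) := by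
    ext A
    rw [MonoidHom.mem_ker, Subgroup.mem_center_iff]
    have hcom : ∀ B : SL(2, ZMod 7), code (A * B) = code (B * A) →
        toMat j (code A) * toMat j (code B) = toMat j (code B) * toMat j (code A) := fun B h => by
      have h1 : f A * f B = f B * f A := by rw [← hgen, ← hgen]; exact congrArg (toMat j) h
      exact h1
    have pm : ∀ (a b c d : Fin 7), A.1 0 0 = a → A.1 0 1 = b → A.1 1 0 = c → A.1 1 1 = d →
        b = 0 ∧ c = 0 ∧ (a = 1 ∧ d = 1 ∨ a = 6 ∧ d = 6) → A = 1 ∨ A = sEl * sEl := by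
      rintro a b c d ha hb hc hd ⟨rfl, rfl, hcase⟩
      rcases hcase with ⟨rfl, rfl⟩ | ⟨rfl, rfl⟩
      · left
        refine Matrix.SpecialLinearGroup.ext _ _ fun i k => ?_
        fin_cases i <;> fin_cases k <;> first | exact ha | exact hb | exact hc | exact hd
      · right
        refine Matrix.SpecialLinearGroup.ext _ _ fun i k => ?_
        rw [sSq_apply]
        fin_cases i <;> fin_cases k <;> first | exact ha | exact hb | exact hc | exact hd
    have back : A = 1 ∨ A = sEl * sEl → (∀ g, g * A = A * g) ∧ ψ A = 1 := by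
      rintro (rfl | rfl)
      · exact ⟨fun g => by rw [mul_one, one_mul], map_one ψ⟩
      · refine ⟨fun g => ?_, ?_⟩
        · have : sEl * sEl = (-1 : SL(2, ZMod 7)) := by decide +kernel
          rw [this, mul_neg_one, neg_one_mul]
        · have h1 : φ (sEl * sEl) = 1 := by
            refine Subtype.ext (Subtype.ext ?_)
            show toMat j (code (sEl * sEl)) = 1
            rw [show code (sEl * sEl) = mOne by decide +kernel, toMat_one]
          show QuotientGroup.mk' _ (φ (sEl * sEl)) = 1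
          rw [h1, map_one]
    constructor
    · intro h
      have hz : φ A ∈ Subgroup.center (Cfsg.SU 3 F 3) := (QuotientGroup.eq_one_iff _).1 h
      have key : ∀ B, mMul (code A) (code B) = mMul (code B) (code A) := fun B => by
        apply toMat_inj j h3 hj
        rw [toMat_mul j h3 hj, toMat_mul j h3 hj]
        exact congrArg (fun x : Cfsg.SU 3 F 3 => (x.1 : Matrix (Fin 3) (Fin 3) F))
          (Subgroup.mem_center_iff.1 hz (φ B)).symm
      have k1 := key tEl
      have k2 := key sEl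
      rw [code_tEl] at k1
      rw [code_sEl] at k2
      exact (back (pm _ _ _ _ rfl rfl rfl rfl (central _ _ _ _ (det_entries A) k1 k2))).1
    · intro h
      have e1 := h tEl
      have e2 := h sEl
      refine (back (pm _ _ _ _ rfl rfl rfl rfl ?_)).2
      have f1 := fun i k => congrArg (fun X : SL(2, ZMod 7) => X.1 i k) e1
      have f2 := fun i k => congrArg (fun X : SL(2, ZMod 7) => X.1 i k) e2
      have a1 := f1 0 0; have a2 := f1 0 1; have a3 := f2 0 0; have a4 := f2 0 1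
      rw [(tEl_mul A).1, (mul_tEl A).1] at a1
      rw [(tEl_mul A).2, (mul_tEl A).2.1] at a2
      rw [(sEl_mul A).1, (mul_sEl A).1] at a3
      rw [(sEl_mul A).2, (mul_sEl A).2.1] at a4
      exact central_pre _ _ _ _ (det_entries A) a1.symm a2.symm a3.symm a4.symm
  obtain ⟨e⟩ : Nonempty (K ≃+* ZMod 7) :=
    ⟨FiniteField.ringEquivOfCardEq (by rw [ZMod.card, hK])⟩
  exact ⟨ψ.range, ⟨(QuotientGroup.quotientKerEquivRange ψ).symm.trans
    ((QuotientGroup.quotientMulEquivOfEq hker).trans (Cfsg.Lib.Dickson.pslEquiv e).symm)⟩⟩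

/-- The projective special unitary group PSU₃(3) (realised over the field with 9 elements) has a subgroup isomorphic to PSL₂(7). -/
theorem result {F : Type*} [Field F] [Fintype F] (hF : Fintype.card F = 9)
    {K : Type*} [Field K] [Fintype K] (hK : Fintype.card K = 7) :
    ∃ H : Subgroup (Cfsg.PSU 3 F 3), Nonempty (H ≃* Matrix.ProjectiveSpecialLinearGroup (Fin 2) K) := by
  exact main hF hK

end Cfsg.Agent.S1897
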