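import Cfsg.Statements.S1898
-- import your own Cfsg.Agent.* helpers here

set_option autoImplicit false
open Cfsg

namespace Cfsg.Agent.S1898

open Subgroup in
open scoped commutatorElement in
/-- Let X be a finite 2-group whose derived subgroup is elementary abelian and central. Then the subgroup generated by the elements of order dividing 4 has exponent dividing 4, and every automorphism of X fixing each element of order dividing 4 has 2-power order. -/
theorem result {X : Type*} [Group X] [Finite X] (hX : IsPGroup 2 X)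
    (hel : Cfsg.IsElementaryAbelian 2 (commutator X)) (hcen : commutator X ≤ Subgroup.center X) :
    (∀ x ∈ Subgroup.closure {g : X | g ^ 4 = 1}, x ^ 4 = 1) ∧
      ∀ φ : MulAut X, (∀ g : X, g ^ 4 = 1 → φ g = g) → ∃ k : ℕ, φ ^ (2 ^ k) = 1 := by
  classical
  have hpow4 : ∀ x y : X, (x * y) ^ 4 = x ^ 4 * y ^ 4 := by
    intro x y
    set c := ⁅y, x⁆ with hc
    have hcm : c ∈ commutator X := by
      rw [commutator_def]; exact commutator_mem_commutator (mem_top _) (mem_top _)
    have hcz : ∀ g : X, c * g = g * c := fun g => (mem_center_iff.mp (hcen hcm) g).symm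
    have hc2 : c ^ 2 = 1 := hel.2 c hcm
    have hyx : y * x = c * x * y := by rw [hc, commutatorElement_def]; group
    have h1 : (x * y) ^ 2 = c * (x ^ 2 * y ^ 2) := by
      calc (x * y) ^ 2 = x * (y * x) * y := by rw [pow_two]; group
        _ = (x * c) * x * (y * y) := by rw [hyx]; group
        _ = c * (x ^ 2 * y ^ 2) := by rw [← hcz x, pow_two, pow_two]; group
    -- squares commute
    have h2 : y ^ 2 * x = x * y ^ 2 := by
      calc y ^ 2 * x = y * (y * x) := by rw [pow_two]; group
        _ = (y * c) * x * y := by rw [hyx]; group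
        _ = c * (y * x) * y := by rw [← hcz y]; group
        _ = c ^ 2 * x * y ^ 2 := by rw [hyx, pow_two c, pow_two y]; group
        _ = x * y ^ 2 := by rw [hc2, one_mul]
    have h3 : y ^ 2 * x ^ 2 = x ^ 2 * y ^ 2 := ((show Commute (y ^ 2) x from h2).pow_right 2).eq
    calc (x * y) ^ 4 = ((x * y) ^ 2) ^ 2 := by rw [← pow_mul]
      _ = c * (x ^ 2 * y ^ 2 * c) * (x ^ 2 * y ^ 2) := by rw [h1, pow_two (c * _)]; group
      _ = c ^ 2 * (x ^ 2 * (y ^ 2 * x ^ 2) * y ^ 2) := by rw [← hcz, pow_two c]; group
      _ = _ := by rw [hc2, h3, one_mul]; group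
  let π : X →* X :=
    { toFun := fun x => x ^ 4
      map_one' := one_pow _
      map_mul' := hpow4 }
  refine ⟨?_, ?_⟩
  · have h1 : closure {g : X | g ^ 4 = 1} ≤ π.ker := (closure_le _).mpr fun g hg => hg
    exact fun x hx => h1 hx
  · intro φ hφ
    obtain ⟨k, m, hm, hkm⟩ := Nat.exists_eq_pow_mul_and_not_dvd (orderOf_pos φ).ne' 2 (by norm_num)
    refine ⟨k, ?_⟩
    set ψ := φ ^ 2 ^ k with hψ
    have hψm : ψ ^ m = 1 := by rw [hψ, ← pow_mul, ← hkm, pow_orderOf_eq_one]
    have hψfix : ∀ g : X, g ^ 4 = 1 → ψ g = g := by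
      intro g hg
      have : ∀ n : ℕ, (φ ^ n) g = g := by
        intro n
        induction n with
        | zero => rfl
        | succ n ih => rw [pow_succ, MulAut.mul_apply, hφ g hg, ih]
      exact this _
    have key : ∀ n : ℕ, ∀ x : X, orderOf x = n → ψ x = x := by
      intro n
      induction n using Nat.strong_induction_on with
      | _ n ih =>
      intro x hx
      by_cases hx1 : x = 1
      · subst hx1; exact map_one ψ
      have h4 : ψ (x ^ 4) = x ^ 4 := by
        refine ih _ ?_ _ rfl
        have hpos : 0 < orderOf x := orderOf_pos x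
        rw [← hx, orderOf_pow' x (by norm_num : (4 : ℕ) ≠ 0)]
        refine Nat.div_lt_self hpos (lt_of_lt_of_le one_lt_two ?_)
        obtain ⟨j, hj⟩ := IsPGroup.iff_orderOf.mp hX x
        have hj0 : j ≠ 0 := by
          rintro rfl
          exact hx1 (orderOf_eq_one_iff.mp (by simpa using hj))
        refine Nat.le_of_dvd (Nat.gcd_pos_of_pos_left _ hpos) (Nat.dvd_gcd (hj ▸ dvd_pow_self 2 hj0) ?_)
        norm_num
      set d := x⁻¹ * ψ x with hd
      have hd4 : d ^ 4 = 1 := by
        rw [hd, hpow4, inv_pow, ← map_pow, h4, inv_mul_cancel]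
      have hiter : ∀ i : ℕ, (ψ ^ i) x = x * d ^ i := by
        intro i
        induction i with
        | zero => simp
        | succ i hi =>
          rw [pow_succ', MulAut.mul_apply, hi, map_mul, map_pow, hψfix d hd4, pow_succ' d i, ← mul_assoc x d,
            hd, mul_inv_cancel_left]
      have hm1 := hiter m
      rw [hψm] at hm1
      have hdm : d ^ m = 1 := by simpa using hm1.symm
      have hd1 : d = 1 := by
        rw [← orderOf_eq_one_iff]
        refine Nat.eq_one_of_dvd_coprimes (a := 4) (b := m) ?_ (orderOf_dvd_of_pow_eq_one hd4) (orderOf_dvd_of_pow_eq_one hdm)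
        exact ((Nat.prime_two.coprime_iff_not_dvd).mpr hm).pow_left 2
      calc ψ x = x * d := by rw [hd]; group
        _ = x := by rw [hd1, mul_one]
    exact MulEquiv.ext fun x => key _ x rfl

end Cfsg.Agent.S1898
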