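import Cfsg.Statements.S1899
-- import your own Cfsg.Agent.* helpers here

set_option autoImplicit false
open Cfsg

namespace Cfsg.Agent.S1899

/-- Let a dihedral group of order 2n, n odd and n > 1, act on a finite abelian 2-group A through automorphisms d and t with d^n = 1, t² = 1 and t d t⁻¹ = d⁻¹, and suppose that d fixes only the identity. Then A is the internal direct product of C_A(t) and its image under d. -/
theorem result {A : Type*} [CommGroup A] [Finite A] (hA : IsPGroup 2 A)
    {n : ℕ} (hn : Odd n) (hn1 : 1 < n) (d t : MulAut A) (hd : d ^ n = 1) (ht : t ^ 2 = 1) (hdt : t * d * t⁻¹ = d⁻¹)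
    (hfix : ∀ a : A, d a = a → a = 1) :
    (MulEquiv.toMonoidHom t).eqLocus (MonoidHom.id A) ⊓ ((MulEquiv.toMonoidHom t).eqLocus (MonoidHom.id A)).map d.toMonoidHom = ⊥ ∧
      (MulEquiv.toMonoidHom t).eqLocus (MonoidHom.id A) ⊔ ((MulEquiv.toMonoidHom t).eqLocus (MonoidHom.id A)).map d.toMonoidHom = ⊤ := by
  have hdinv : ∀ a, d (d a) = a → a = 1 := by
    intro a ha
    obtain ⟨m, hm⟩ := hn
    refine hfix a ?_
    have h2 : ∀ j : ℕ, (d ^ (2 * j)) a = a := by
      intro j
      induction j with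
      | zero => simp
      | succ j ih =>
        rw [show 2 * (j + 1) = 2 * j + 1 + 1 by ring, pow_succ, pow_succ, MulAut.mul_apply, MulAut.mul_apply, ha, ih]
    have h3 : (d ^ n) a = a := by rw [hd]; rfl
    rw [hm, pow_succ', MulAut.mul_apply, h2] at h3
    exact h3
  have htd : ∀ a, t (d a) = d⁻¹ (t a) := by
    intro a
    rw [← hdt]
    simp [MulAut.mul_apply]
  have htd' : ∀ a, t (d⁻¹ a) = d (t a) := by
    intro a
    have h1 := htd (d⁻¹ a)
    rw [MulAut.apply_inv_self] at h1
    rw [h1, MulAut.apply_inv_self]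
  have htt : ∀ a, t (t a) = a := by
    intro a
    rw [← MulAut.mul_apply, ← pow_two, ht]; rfl
  set C := (MulEquiv.toMonoidHom t).eqLocus (MonoidHom.id A) with hC
  have hmem : ∀ a, a ∈ C ↔ t a = a := fun a => Iff.rfl
  constructor
  · rw [eq_bot_iff]
    rintro a ⟨ha, b, hb, rfl⟩
    have hb' : t b = b := (hmem b).mp hb
    have ha' : t (d b) = d b := (hmem _).mp ha
    rw [htd, hb'] at ha'
    have h1 : d (d b) = b := by rw [← ha', MulAut.apply_inv_self]
    rw [Subgroup.mem_bot]
    show d b = 1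
    rw [hdinv b h1, map_one]
  · rw [eq_top_iff]
    intro a _
    let ψ : A →* A :=
      { toFun := fun x => d x * (d⁻¹ x)⁻¹
        map_one' := by simp
        map_mul' := fun x y => by simp only [map_mul, mul_inv]; exact mul_mul_mul_comm _ _ _ _ }
    have hinj : Function.Injective ψ := by
      rw [injective_iff_map_eq_one]
      intro x hx
      have h1 : d x = d⁻¹ x := mul_inv_eq_one.mp hx
      exact hdinv x (by rw [h1, MulAut.apply_inv_self])
    obtain ⟨c, hc⟩ := (Finite.injective_iff_surjective.mp hinj) (a * (t a)⁻¹)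
    have hψt : ψ (t c) = (t (ψ c))⁻¹ := by
      show d (t c) * (d⁻¹ (t c))⁻¹ = (t (d c * (d⁻¹ c)⁻¹))⁻¹
      rw [map_mul, map_inv, htd, htd', mul_inv, inv_inv, mul_comm]
    have hct : t c = c := by
      refine hinj ?_
      rw [hψt, hc, map_mul, map_inv, htt, mul_inv, inv_inv, mul_comm]
    have h2 : a * (d c)⁻¹ ∈ C := by
      rw [hmem, map_mul, map_inv, htd, hct]
      have h3 : d c * (d⁻¹ c)⁻¹ = a * (t a)⁻¹ := hc
      have h4 : (d⁻¹ c)⁻¹ = (d c)⁻¹ * (a * (t a)⁻¹) := by rw [← h3]; group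
      rw [h4, mul_left_comm (t a), mul_left_comm (t a) a, mul_inv_cancel, mul_one, mul_comm]
    have h5 : d c ∈ C.map d.toMonoidHom := ⟨c, (hmem c).mpr hct, rfl⟩
    have h6 := Subgroup.mul_mem_sup h2 h5
    rwa [inv_mul_cancel_right] at h6

end Cfsg.Agent.S1899
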