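import Cfsg.Statements.S1900
import Cfsg.Agent.Lib.Coprime.Generation
import Cfsg.Agent.Lib.PGroup.Basic

set_option autoImplicit false
open Cfsg

namespace Cfsg.Agent.S1900

open Subgroup in
open scoped commutatorElement in
theorem core {S : Type*} [Group S] [Finite S] {p : ℕ} [Fact p.Prime] (P Q X₁ X₂ : Subgroup S)
    [IsMulCommutative Q] (hP : IsPGroup p P) (hQP : Q ≤ normalizer (P : Set S))
    (hcop : (Nat.card Q).Coprime (Nat.card P)) (h₁ : X₁ ≤ Q) (h₂ : X₂ ≤ Q) (hsup : Q ≤ X₁ ⊔ X₂)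
    (hnc : ¬ IsCyclic Q) (hfix : P ⊓ centralizer (Q : Set S) = ⊥)
    (honly : ∀ a ∈ Q, a ≠ 1 → P ⊓ centralizer ({a} : Set S) ≠ ⊥ → a ∈ X₁ ∧ X₁ ≤ zpowers a ∨ a ∈ X₂ ∧ X₂ ≤ zpowers a) :
    ⁅P ⊓ centralizer (X₁ : Set S), P ⊓ centralizer (X₂ : Set S)⁆ = ⊥ ∧
      (P ⊓ centralizer (X₁ : Set S)) ⊔ (P ⊓ centralizer (X₂ : Set S)) = P := by
  classical
  have hsolQ : Group.IsSolvable Q := Group.isSolvable_of_comm fun a b => mul_comm' a b
  have hQX : ∀ X : Subgroup S, X ≤ Q → Q ≤ normalizer (X : Set S) := fun X hX => by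
    refine le_trans ?_ (centralizer_le_normalizer _)
    exact fun a ha => mem_centralizer_iff.mpr fun x hx =>
      congrArg Subtype.val (mul_comm' (⟨x, hX hx⟩ : Q) ⟨a, ha⟩)
  have hgen : ∀ N : Subgroup S, N ≤ P → Q ≤ normalizer (N : Set S) →
      N ≤ (N ⊓ centralizer (X₁ : Set S)) ⊔ (N ⊓ centralizer (X₂ : Set S)) := by
    intro N hN hQN
    refine (Cfsg.Lib.Coprime.le_iSup_centralizer_of_not_isCyclic hnc hQN
      (hcop.coprime_dvd_right (card_dvd_of_le hN))).trans (iSup_le fun a => ?_)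
    by_cases hb : P ⊓ centralizer ({(a : S)} : Set S) = ⊥
    · refine le_trans ?_ bot_le
      rw [← hb]
      exact inf_le_inf_right _ hN
    have hcl : ∀ X : Subgroup S, X ≤ zpowers (a : S) →
        N ⊓ centralizer ({(a : S)} : Set S) ≤ N ⊓ centralizer (X : Set S) := by
      intro X hX n hn
      refine ⟨hn.1, mem_centralizer_iff.mpr fun x hx => ?_⟩
      obtain ⟨k, rfl⟩ := mem_zpowers_iff.mp (hX hx)
      exact ((show Commute (a : S) n from mem_centralizer_iff.mp hn.2 _ rfl).zpow_left k).eq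
    rcases honly a a.2.1 a.2.2 hb with h | h
    · exact (hcl X₁ h.2).trans le_sup_left
    · exact (hcl X₂ h.2).trans le_sup_right
  set P₁ := P ⊓ centralizer (X₁ : Set S) with hP₁
  set P₂ := P ⊓ centralizer (X₂ : Set S) with hP₂
  refine ⟨?_, le_antisymm (sup_le inf_le_left inf_le_left) (hgen P le_rfl hQP)⟩
  have hQP₁ : Q ≤ normalizer (P₁ : Set S) := Cfsg.Lib.Coprime.le_normalizer_inf_centralizer hQP (hQX X₁ h₁)
  have hQP₂ : Q ≤ normalizer (P₂ : Set S) := Cfsg.Lib.Coprime.le_normalizer_inf_centralizer hQP (hQX X₂ h₂)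
  have hcross : ∀ X Y : Subgroup S, X ≤ Q → Y ≤ Q → Q ≤ X ⊔ Y →
      P ⊓ centralizer (Y : Set S) ⊓ centralizer (X : Set S) = ⊥ := by
    intro X Y _ _ hs
    rw [eq_bot_iff, ← hfix]
    rintro n ⟨⟨hn, hnY⟩, hnX⟩
    refine ⟨hn, mem_centralizer_iff.mpr fun a ha => ?_⟩
    have : X ⊔ Y ≤ centralizer ({n} : Set S) := sup_le
      (fun x hx => mem_centralizer_singleton_iff.mpr (mem_centralizer_iff.mp hnX x hx))
      (fun x hx => mem_centralizer_singleton_iff.mpr (mem_centralizer_iff.mp hnY x hx))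
    exact mem_centralizer_singleton_iff.mp (this (hs ha))
  have hPn : ∀ N : Subgroup S, P ≤ normalizer (N : Set S) → ∀ M : Subgroup S,
      P ≤ normalizer (M : Set S) → P ≤ normalizer ((⁅N, M⁆ : Subgroup S) : Set S) := by
    intro N hN M hM x hx
    rw [mem_normalizer_iff_map_conj_eq, map_commutator, mem_normalizer_iff_map_conj_eq.mp (hN hx),
      mem_normalizer_iff_map_conj_eq.mp (hM hx)]
  have hQn : ∀ N : Subgroup S, Q ≤ normalizer (N : Set S) → ∀ M : Subgroup S,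
      Q ≤ normalizer (M : Set S) → Q ≤ normalizer ((⁅N, M⁆ : Subgroup S) : Set S) := by
    intro N hN M hM x hx
    rw [mem_normalizer_iff_map_conj_eq, map_commutator, mem_normalizer_iff_map_conj_eq.mp (hN hx),
      mem_normalizer_iff_map_conj_eq.mp (hM hx)]
  suffices h : ∀ N : Subgroup S, N ≤ P → P ≤ normalizer (N : Set S) → Q ≤ normalizer (N : Set S) →
      ⁅P₁, P₂⁆ ≤ N → ⁅P₁, P₂⁆ = ⊥ by
    exact h P le_rfl le_normalizer hQP ((commutator_mono inf_le_left inf_le_left).trans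
      (commutator_le.mpr fun x hx y hy => by
        rw [commutatorElement_def]
        exact P.mul_mem (P.mul_mem (P.mul_mem hx hy) (P.inv_mem hx)) (P.inv_mem hy)))
  intro N
  induction N using WellFoundedLT.induction with
  | _ N ih =>
  intro hN hPN hQN hC
  by_cases hN0 : N = ⊥
  · subst hN0; exact le_bot_iff.mp hC
  set M := ⁅N, P⁆ with hM
  have hMN : M < N := Cfsg.Lib.PGroup.commutator_lt_of_isPGroup (hP.to_le hN) hP hPN hN0
  have hPM : P ≤ normalizer (M : Set S) := hPn N hPN P le_normalizer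
  have hQM : Q ≤ normalizer (M : Set S) := hQn N hQN P hQP
  refine ih M hMN (hMN.le.trans hN) hPM hQM ?_
  -- the parts of `N` fixed by `X₁`, `X₂`, modulo `M`
  have hmid : ∀ D : Subgroup S, M ≤ D → D ≤ N → P ≤ normalizer (D : Set S) := by
    intro D h1 h2 x hx
    refine mem_normalizer_fintype fun d hd => ?_
    have h3 : x * d * x⁻¹ * d⁻¹ ∈ M := by
      have h5 := M.inv_mem (commutator_mem_commutator (h2 hd) hx)
      simpa [commutatorElement_def, mul_assoc] using h5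
    have := D.mul_mem (h1 h3) hd
    simpa using this
  set D₁ := (N ⊓ centralizer (X₁ : Set S)) ⊔ M with hD₁
  set D₂ := (N ⊓ centralizer (X₂ : Set S)) ⊔ M with hD₂
  have hD₁N : D₁ ≤ N := sup_le inf_le_left hMN.le
  have hD₂N : D₂ ≤ N := sup_le inf_le_left hMN.le
  have hQD : ∀ X : Subgroup S, X ≤ Q →
      Q ≤ normalizer (((N ⊓ centralizer (X : Set S)) ⊔ M : Subgroup S) : Set S) := by
    intro X hX a ha
    rw [mem_normalizer_iff_map_conj_eq, Subgroup.map_sup,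
      mem_normalizer_iff_map_conj_eq.mp (Cfsg.Lib.Coprime.le_normalizer_inf_centralizer hQN (hQX X hX) ha),
      mem_normalizer_iff_map_conj_eq.mp (hQM ha)]
  have hkill : ∀ X Y : Subgroup S, X ≤ Q → Y ≤ Q → Q ≤ X ⊔ Y →
      ⁅P ⊓ centralizer (X : Set S), P ⊓ centralizer (Y : Set S)⁆ ≤ N →
      N ≤ (N ⊓ centralizer (X : Set S)) ⊔ ((N ⊓ centralizer (Y : Set S)) ⊔ M) →
      ⁅P ⊓ centralizer (X : Set S), P ⊓ centralizer (Y : Set S)⁆ ≤ (N ⊓ centralizer (Y : Set S)) ⊔ M := by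
    intro X Y hX hY hs hCN hNsplit
    set D := (N ⊓ centralizer (Y : Set S)) ⊔ M with hD
    have hPD : P ≤ normalizer (D : Set S) := hmid D le_sup_right (sup_le inf_le_left hMN.le)
    set Y₂ := P ⊓ centralizer (Y : Set S) with hY₂
    have hQY₂ : Q ≤ normalizer (Y₂ : Set S) :=
      Cfsg.Lib.Coprime.le_normalizer_inf_centralizer hQP (hQX Y hY)
    have hsolX : Group.IsSolvable X ∨ Group.IsSolvable Y₂ :=
      Or.inl (Group.isSolvable_of_isSolvable_injective (f := inclusion hX) (inclusion_injective hX))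
    have hY₂eq : Y₂ ≤ ⁅Y₂, X⁆ := by
      have h1 := Cfsg.Lib.Coprime.commutator_sup_centralizer_eq (hX.trans hQY₂)
        ((hcop.coprime_dvd_left (card_dvd_of_le hX)).coprime_dvd_right (card_dvd_of_le inf_le_left)) hsolX
      rw [hcross X Y hX hY hs, sup_bot_eq] at h1
      exact h1.ge
    rw [commutator_le]
    intro a ha
    -- the elements `b` with `⁅a, b⁆ ∈ D`
    let B : Subgroup S :=
      { carrier := {b | b ∈ P ∧ ⁅a, b⁆ ∈ D}
        one_mem' := ⟨P.one_mem, by rw [commutatorElement_one_right]; exact D.one_mem⟩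
        mul_mem' := fun {b c} hb hc => ⟨P.mul_mem hb.1 hc.1, by
          have h5 : ⁅a, b * c⁆ = ⁅a, b⁆ * (b * ⁅a, c⁆ * b⁻¹) := by
            simp only [commutatorElement_def]; group
          rw [h5]
          exact D.mul_mem hb.2 ((mem_normalizer_iff.mp (hPD hb.1) _).mp hc.2)⟩
        inv_mem' := fun {b} hb => ⟨P.inv_mem hb.1, by
          have h5 : ⁅a, b⁻¹⁆ = b⁻¹ * ⁅a, b⁆⁻¹ * b⁻¹⁻¹ := by
            simp only [commutatorElement_def]; group
          rw [h5]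
          exact (mem_normalizer_iff.mp (hPD (P.inv_mem hb.1)) _).mp (D.inv_mem hb.2)⟩ }
    suffices hB : ⁅Y₂, X⁆ ≤ B from fun b hb => (hB (hY₂eq hb)).2
    rw [commutator_le]
    intro b hb x hx
    have hxb : x * b * x⁻¹ ∈ Y₂ := (mem_normalizer_iff.mp (hQY₂ (hX hx)) b).mp hb
    have hbx : ⁅b, x⁆ = b * (x * b * x⁻¹)⁻¹ := by rw [commutatorElement_def]; group
    rw [hbx]
    have hxbP : x * b * x⁻¹ ∈ P := hxb.1
    refine ⟨P.mul_mem hb.1 (P.inv_mem hxbP), ?_⟩
    have hc : ⁅a, b⁆ ∈ N := hCN (commutator_mem_commutator ha hb)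
    have hxa : x * a * x⁻¹ = a := by
      rw [mem_centralizer_iff.mp ha.2 x hx]; group
    have hxc : ⁅a, x * b * x⁻¹⁆ = x * ⁅a, b⁆ * x⁻¹ := by
      conv_lhs => rw [← hxa]
      simp only [commutatorElement_def]; group
    have hxD : x * ⁅a, b⁆ * x⁻¹ * ⁅a, b⁆⁻¹ ∈ D := by
      have hDn : N ⊓ centralizer (X : Set S) ≤ normalizer (D : Set S) :=
        (inf_le_left.trans hN).trans hPD
      have h6 := hNsplit hc
      rw [← SetLike.mem_coe, coe_mul_of_left_le_normalizer_right _ _ hDn] at h6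
      obtain ⟨u, hu, w, hw, huw⟩ := h6
      have hu' : x * u * x⁻¹ = u := by rw [mem_centralizer_iff.mp hu.2 x hx]; group
      have h7 : x * ⁅a, b⁆ * x⁻¹ * ⁅a, b⁆⁻¹ = u * (x * w * x⁻¹ * w⁻¹) * u⁻¹ := by
        have huw' : ⁅a, b⁆ = u * w := huw.symm
        rw [huw']
        calc x * (u * w) * x⁻¹ * (u * w)⁻¹ = (x * u * x⁻¹) * (x * w * x⁻¹ * w⁻¹) * u⁻¹ := by group
          _ = _ := by rw [hu']
      rw [h7]
      exact (mem_normalizer_iff.mp (hDn hu) _).mp
        (D.mul_mem ((mem_normalizer_iff.mp (hQD Y hY (hX hx)) w).mp hw) (D.inv_mem hw))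
    set d := b * (x * b * x⁻¹)⁻¹ with hd
    have hdP : d ∈ P := P.mul_mem hb.1 (P.inv_mem hxbP)
    have h8 : ⁅a, d⁆ = ⁅⁅a, b⁆, d⁆ * (d * (x * ⁅a, b⁆ * x⁻¹ * ⁅a, b⁆⁻¹)⁻¹ * d⁻¹) := by
      rw [← hxc, hd]
      simp only [commutatorElement_def]; group
    rw [h8]
    exact D.mul_mem (le_sup_right (a := N ⊓ centralizer (Y : Set S)) (commutator_mem_commutator hc hdP))
      ((mem_normalizer_iff.mp (hPD hdP) _).mp (D.inv_mem hxD))
  have hNsplit₁ : N ≤ (N ⊓ centralizer (X₁ : Set S)) ⊔ D₂ :=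
    (hgen N hN hQN).trans (sup_le_sup_left le_sup_left _)
  have hNsplit₂ : N ≤ (N ⊓ centralizer (X₂ : Set S)) ⊔ D₁ :=
    ((hgen N hN hQN).trans (sup_comm _ _).le).trans (sup_le_sup_left le_sup_left _)
  have hle₂ : ⁅P₁, P₂⁆ ≤ D₂ := hkill X₁ X₂ h₁ h₂ hsup hC hNsplit₁
  have hle₁ : ⁅P₁, P₂⁆ ≤ D₁ := by
    rw [commutator_comm]
    exact hkill X₂ X₁ h₂ h₁ (hsup.trans (sup_comm _ _).le) (commutator_comm P₂ P₁ ▸ hC) hNsplit₂
  intro v hv
  have hQY : Q ≤ normalizer ((D₁ ⊓ D₂ : Subgroup S) : Set S) :=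
    (le_inf (hQD X₁ h₁) (hQD X₂ h₂)).trans inf_normalizer_le_normalizer_inf
  have hMY : M ≤ D₁ ⊓ D₂ := le_inf le_sup_right le_sup_right
  have hYP : D₁ ⊓ D₂ ≤ P := inf_le_left.trans (hD₁N.trans hN)
  have hfixM : ∀ X : Subgroup S, X ≤ Q → ∀ y ∈ (N ⊓ centralizer (X : Set S)) ⊔ M, ∀ x ∈ X, ⁅y, x⁆ ∈ M := by
    intro X hX y hy x hx
    have hMn : N ⊓ centralizer (X : Set S) ≤ normalizer (M : Set S) := (inf_le_left.trans hN).trans hPM
    rw [← SetLike.mem_coe, coe_mul_of_left_le_normalizer_right _ _ hMn] at hy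
    obtain ⟨u, hu, w, hw, rfl⟩ := hy
    have hu' : x * u⁻¹ = u⁻¹ * x := mem_centralizer_iff.mp ((centralizer _).inv_mem hu.2) x hx
    have h7 : ⁅u * w, x⁆ = u * (w * (x * w⁻¹ * x⁻¹)) * u⁻¹ := by
      rw [commutatorElement_def, mul_inv_rev]
      calc u * w * x * (w⁻¹ * u⁻¹) * x⁻¹ = u * w * (x * w⁻¹ * x⁻¹) * (x * u⁻¹) * x⁻¹ := by group
        _ = _ := by rw [hu']; group
    rw [h7]
    exact (mem_normalizer_iff.mp (hMn hu) _).mp
      (M.mul_mem hw ((mem_normalizer_iff.mp (hQM (hX hx)) _).mp (M.inv_mem hw)))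
  have hcomm : ∀ a ∈ Q, ⁅v, a⁆ ∈ M := by
    intro a ha
    have hclosed : X₁ ⊔ X₂ ≤ ({ carrier := {a | a ∈ Q ∧ ⁅v, a⁆ ∈ M}
                                one_mem' := ⟨Q.one_mem, by rw [commutatorElement_one_right]; exact M.one_mem⟩
                                mul_mem' := fun {b c} hb hc => ⟨Q.mul_mem hb.1 hc.1, by
                                  have h5 : ⁅v, b * c⁆ = ⁅v, b⁆ * (b * ⁅v, c⁆ * b⁻¹) := by
                                    simp only [commutatorElement_def]; group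
                                  rw [h5]
                                  exact M.mul_mem hb.2 ((mem_normalizer_iff.mp (hQM hb.1) _).mp hc.2)⟩
                                inv_mem' := fun {b} hb => ⟨Q.inv_mem hb.1, by
                                  have h5 : ⁅v, b⁻¹⁆ = b⁻¹ * ⁅v, b⁆⁻¹ * b⁻¹⁻¹ := by
                                    simp only [commutatorElement_def]; group
                                  rw [h5]
                                  exact (mem_normalizer_iff.mp (hQM (Q.inv_mem hb.1)) _).mp (M.inv_mem hb.2)⟩ } : Subgroup S) :=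
      sup_le (fun x hx => ⟨h₁ hx, hfixM X₁ h₁ v (hle₁ hv) x hx⟩)
        (fun x hx => ⟨h₂ hx, hfixM X₂ h₂ v (hle₂ hv) x hx⟩)
    exact (hclosed (hsup ha)).2
  obtain ⟨m, hm, c, hc, rfl⟩ := Cfsg.Lib.Coprime.exists_mul_centralizer_of_commutator_mem hQY
    (hcop.coprime_dvd_right (card_dvd_of_le hYP)) (Or.inl hsolQ) hMY hQM ⟨hle₁ hv, hle₂ hv⟩ hcomm
  have hc1 : c = 1 := by
    have : c ∈ P ⊓ centralizer (Q : Set S) := ⟨hYP hc.1, hc.2⟩
    rwa [hfix, mem_bot] at this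
  simpa [hc1] using hm

/-- Let S = PQ be a finite group with P a normal Sylow p-subgroup and Q elementary abelian of order q², q a prime different from p. If exactly two subgroups X₁, X₂ of order q in Q have a nontrivial centralizer in P, then P is the internal direct product of C_P(X₁) and C_P(X₂): they commute elementwise, meet trivially and generate P. -/
theorem result {S : Type*} [Group S] [Finite S] {p q : ℕ} [Fact p.Prime] [Fact q.Prime] (hpq : p ≠ q)
    (P : Sylow p S) [(P : Subgroup S).Normal] (Q : Subgroup S) (hQ : Cfsg.IsElementaryAbelian q Q) (hQc : Nat.card Q = q ^ 2)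
    (hS : (P : Subgroup S) ⊔ Q = ⊤)
    (X₁ X₂ : Subgroup S) (h₁ : X₁ ≤ Q) (h₂ : X₂ ≤ Q) (h₁₂ : X₁ ≠ X₂) (hc₁ : Nat.card X₁ = q) (hc₂ : Nat.card X₂ = q)
    (hf₁ : (P : Subgroup S) ⊓ Subgroup.centralizer (X₁ : Set S) ≠ ⊥)
    (hf₂ : (P : Subgroup S) ⊓ Subgroup.centralizer (X₂ : Set S) ≠ ⊥)
    (honly : ∀ X : Subgroup S, X ≤ Q → Nat.card X = q →
      (P : Subgroup S) ⊓ Subgroup.centralizer (X : Set S) ≠ ⊥ → X = X₁ ∨ X = X₂) :
    ⁅(P : Subgroup S) ⊓ Subgroup.centralizer (X₁ : Set S), (P : Subgroup S) ⊓ Subgroup.centralizer (X₂ : Set S)⁆ = ⊥ ∧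
      ((P : Subgroup S) ⊓ Subgroup.centralizer (X₁ : Set S)) ⊓ ((P : Subgroup S) ⊓ Subgroup.centralizer (X₂ : Set S)) = ⊥ ∧
      ((P : Subgroup S) ⊓ Subgroup.centralizer (X₁ : Set S)) ⊔ ((P : Subgroup S) ⊓ Subgroup.centralizer (X₂ : Set S)) = P := by
  classical
  have hq : Nat.Prime q := Fact.out
  haveI : IsMulCommutative Q := hQ.1
  have hQP : Q ≤ Subgroup.normalizer ((P : Subgroup S) : Set S) := by
    rw [Subgroup.normalizer_eq_top]; exact le_top
  have hcop : (Nat.card Q).Coprime (Nat.card (P : Subgroup S)) := by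
    obtain ⟨n, hn⟩ := IsPGroup.iff_card.mp P.2
    rw [hQc, hn]
    exact Nat.Coprime.pow 2 n ((Nat.coprime_primes hq Fact.out).mpr hpq.symm)
  have hnc : ¬ IsCyclic Q := by
    intro hc
    obtain ⟨g, hg⟩ := hc.exists_generator
    have h1 : Nat.card Q = orderOf g := (orderOf_eq_card_of_forall_mem_zpowers hg).symm
    have h2 : orderOf g ∣ q := by
      refine orderOf_dvd_of_pow_eq_one (Subtype.ext ?_)
      simpa using hQ.2 g g.2
    rw [← h1, hQc] at h2
    have h3 := Nat.le_of_dvd hq.pos h2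
    have := hq.two_le
    nlinarith
  have hsup : Q ≤ X₁ ⊔ X₂ := by
    refine (Subgroup.eq_of_le_of_card_ge (sup_le h₁ h₂) ?_).ge
    have hlt : X₁ < X₁ ⊔ X₂ := lt_of_le_of_ne le_sup_left fun he =>
      h₁₂ (Subgroup.eq_of_le_of_card_ge (le_sup_right.trans he.ge) (by rw [hc₁, hc₂])).symm
    obtain ⟨i, hi, hcard⟩ := (Nat.dvd_prime_pow hq).mp (hQc ▸ Subgroup.card_dvd_of_le (sup_le h₁ h₂))
    have h4 : q < q ^ i := by
      rw [← hcard, ← hc₁]
      exact lt_of_le_of_ne (Subgroup.card_le_of_le hlt.le) fun he =>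
        hlt.ne (Subgroup.eq_of_le_of_card_ge hlt.le he.ge)
    have h5 : i = 2 := by
      have := (Nat.pow_lt_pow_iff_right hq.one_lt).mp (show q ^ 1 < q ^ i by rwa [pow_one])
      omega
    rw [hQc, hcard, h5]
  have hline : ∀ a ∈ Q, a ≠ 1 → Nat.card (Subgroup.zpowers a) = q := fun a ha hne => by
    rw [Nat.card_zpowers]
    exact orderOf_eq_prime (hQ.2 a ha) hne
  have hfix : (P : Subgroup S) ⊓ Subgroup.centralizer (Q : Set S) = ⊥ := by
    by_contra hne
    have hcov : ∀ a ∈ Q, a ∈ X₁ ∨ a ∈ X₂ := by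
      intro a ha
      by_cases ha1 : a = 1
      · exact Or.inl (ha1 ▸ X₁.one_mem)
      rcases honly (Subgroup.zpowers a) (Subgroup.zpowers_le.mpr ha) (hline a ha ha1) (fun hb => hne
        (le_bot_iff.mp ((inf_le_inf_left _ (Subgroup.centralizer_le
          (SetLike.coe_subset_coe.mpr (Subgroup.zpowers_le.mpr ha)))).trans hb.le))) with h | h
      · exact Or.inl (h ▸ Subgroup.mem_zpowers a)
      · exact Or.inr (h ▸ Subgroup.mem_zpowers a)
    obtain ⟨x, hx, hx2⟩ : ∃ x ∈ X₁, x ∉ X₂ := by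
      by_contra! hle
      exact h₁₂ (Subgroup.eq_of_le_of_card_ge hle (by rw [hc₁, hc₂]))
    obtain ⟨y, hy, hy1⟩ : ∃ y ∈ X₂, y ∉ X₁ := by
      by_contra! hle
      exact h₁₂ (Subgroup.eq_of_le_of_card_ge hle (by rw [hc₁, hc₂])).symm
    rcases hcov (x * y) (Q.mul_mem (h₁ hx) (h₂ hy)) with h | h
    · exact hy1 ((Subgroup.mul_mem_cancel_left X₁ hx).mp h)
    · exact hx2 ((Subgroup.mul_mem_cancel_right X₂ hy).mp h)
  have honly' : ∀ a ∈ Q, a ≠ 1 → (P : Subgroup S) ⊓ Subgroup.centralizer ({a} : Set S) ≠ ⊥ →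
      a ∈ X₁ ∧ X₁ ≤ Subgroup.zpowers a ∨ a ∈ X₂ ∧ X₂ ≤ Subgroup.zpowers a := by
    intro a ha hne hb
    rcases honly (Subgroup.zpowers a) (Subgroup.zpowers_le.mpr ha) (hline a ha hne)
      (by rwa [Subgroup.zpowers_eq_closure, Subgroup.centralizer_closure]) with h | h
    · exact Or.inl ⟨h ▸ Subgroup.mem_zpowers a, h.ge⟩
    · exact Or.inr ⟨h ▸ Subgroup.mem_zpowers a, h.ge⟩
  obtain ⟨hc, hgen⟩ := core (P : Subgroup S) Q X₁ X₂ P.2 hQP hcop h₁ h₂ hsup hnc hfix honly'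
  refine ⟨hc, ?_, hgen⟩
  rw [eq_bot_iff, ← hfix]
  rintro n ⟨hn1, hn2⟩
  refine ⟨hn1.1, Subgroup.mem_centralizer_iff.mpr fun a ha => ?_⟩
  have : X₁ ⊔ X₂ ≤ Subgroup.centralizer ({n} : Set S) := sup_le
    (fun x hx => Subgroup.mem_centralizer_singleton_iff.mpr (Subgroup.mem_centralizer_iff.mp hn1.2 x hx))
    (fun x hx => Subgroup.mem_centralizer_singleton_iff.mpr (Subgroup.mem_centralizer_iff.mp hn2.2 x hx))
  exact Subgroup.mem_centralizer_singleton_iff.mp (this (hsup ha))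

end Cfsg.Agent.S1900
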