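import Cfsg.Statements.S1901
import Cfsg.Agent.Lib.Core.PSolvable
-- import your own Cfsg.Agent.* helpers here

set_option autoImplicit false
universe u
open Cfsg

namespace Cfsg.Agent.S1901

open Subgroup in
theorem core {p : ℕ} [Fact p.Prime] : ∀ (n : ℕ) (G : Type u) [Group G] [Finite G], Nat.card G = n →
    Cfsg.IsPSolvable p G → ∀ (Q : Subgroup G), ¬ p ∣ Nat.card Q → ∀ (P : Sylow p G),
    Q ≤ normalizer ((P : Subgroup G) : Set G) → ∀ x ∈ normalizer (Q : Set G), ∀ k : ℕ, x ^ p ^ k = 1 →
    x ∈ centralizer (Q : Set G) := by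
  intro n
  induction n using Nat.strong_induction_on with
  | _ n ih =>
  intro G _ _ hn hG Q hQ P hQP x hx k hk
  rcases subsingleton_or_nontrivial G with h | h
  · exact mem_centralizer_iff.mpr fun q _ => Subsingleton.elim _ _
  obtain ⟨M, hM⟩ := Cfsg.Lib.Core.exists_isMinNormal_univ (G := G)
  haveI : M.Normal := hM.1
  set f := QuotientGroup.mk' M with hf
  have hfs : Function.Surjective f := QuotientGroup.mk'_surjective M
  have hlt : Nat.card (G ⧸ M) < n := hn ▸ Cfsg.Lib.Core.card_quotient_lt hM.2.1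
  have hq := ih _ hlt (G ⧸ M) rfl (Cfsg.Lib.Core.isPSolvable_quotient hG M) (Q.map f)
    (fun hd => hQ (hd.trans (Cfsg.Lib.Core.card_map_dvd f Q))) (P.mapSurjective hfs)
    (((map_mono hQP).trans (le_normalizer_map f)).trans (by rw [Sylow.coe_mapSurjective]))
    (f x) (le_normalizer_map f (mem_map_of_mem f hx)) k (by rw [← map_pow, hk, map_one])
  have hxQ : ∀ q ∈ Q, x * q * x⁻¹ * q⁻¹ ∈ Q ⊓ M := by
    intro q hqQ
    refine ⟨Q.mul_mem ((mem_normalizer_iff.mp hx q).mp hqQ) (Q.inv_mem hqQ), ?_⟩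
    refine (QuotientGroup.eq_one_iff _).mp ?_
    have h1 : f q * f x = f x * f q := mem_centralizer_iff.mp hq (f q) (mem_map_of_mem f hqQ)
    show f (x * q * x⁻¹ * q⁻¹) = 1
    rw [map_mul, map_mul, map_mul, ← h1, map_inv, map_inv]
    group
  have hR : x ∈ centralizer ((Q ⊓ M : Subgroup G) : Set G) := by
    rcases Cfsg.Lib.Core.minimal_normal_of_isPSolvable hG hM with hp | hp
    · have hbot : Q ⊓ M = ⊥ := inf_eq_bot_of_coprime (by
        obtain ⟨m, hm⟩ := hp.exists_card_eq
        rw [hm]
        exact (((Fact.out : p.Prime).coprime_iff_not_dvd.mpr hQ).symm.pow_right m))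
      rw [hbot]
      exact mem_centralizer_iff.mpr fun q hq => by rw [mem_bot.mp hq]; simp
    · have hPM : (P : Subgroup G) ⊓ M = ⊥ := by
        refine inf_eq_bot_of_coprime ?_
        obtain ⟨m, hm⟩ := P.2.exists_card_eq
        rw [hm]
        exact hp.symm.pow_left m
      set R := Q ⊓ M with hRdef
      have hPC : (P : Subgroup G) ≤ centralizer (R : Set G) := by
        intro y hy
        refine mem_centralizer_iff.mpr fun r hr => ?_
        have h2 : r * y * r⁻¹ * y⁻¹ ∈ (P : Subgroup G) ⊓ M :=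
          ⟨(P : Subgroup G).mul_mem ((mem_normalizer_iff.mp (hQP hr.1) y).mp hy) ((P : Subgroup G).inv_mem hy), by
            have := M.mul_mem hr.2 (hM.1.conj_mem _ (M.inv_mem hr.2) y)
            simpa [mul_assoc] using this⟩
        rw [hPM, mem_bot] at h2
        calc r * y = (r * y * r⁻¹ * y⁻¹) * y * r := by group
          _ = y * r := by rw [h2, one_mul]
      have hxR : x ∈ normalizer (R : Set G) :=
        inf_normalizer_le_normalizer_inf ⟨hx, by rw [normalizer_eq_top (H := M)]; trivial⟩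
      set C := centralizer (R : Set G) with hC
      set N := normalizer (R : Set G) with hN
      haveI : (C.subgroupOf N).Normal := by
        rw [hC, hN]; infer_instance
      have hidx : ¬ p ∣ (C.subgroupOf N).index := fun hd =>
        P.not_dvd_index ((hd.trans (Dvd.intro _ (relIndex_mul_index (centralizer_le_normalizer _)))).trans
          (index_dvd_of_le hPC))
      obtain ⟨a, b, hab⟩ : ∃ a b : ℤ, a * (p ^ k : ℕ) + b * (C.subgroupOf N).index = 1 :=
        Int.isCoprime_iff_gcd_eq_one.mpr (Nat.Coprime.pow_left k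
          ((Fact.out : p.Prime).coprime_iff_not_dvd.mpr hidx))
      have hm := (C.subgroupOf N).pow_index_mem ⟨x, hxR⟩
      rw [mem_subgroupOf, SubmonoidClass.coe_pow] at hm
      have : x = (x ^ (C.subgroupOf N).index) ^ b := by
        conv_lhs => rw [← zpow_one x, ← hab, zpow_add, mul_comm a, zpow_mul, zpow_natCast, hk, one_zpow, one_mul, mul_comm, zpow_mul, zpow_natCast]
      rw [this]
      exact C.zpow_mem hm b
  refine mem_centralizer_iff.mpr fun q hqQ => ?_
  set r := x * q * x⁻¹ * q⁻¹ with hr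
  have hrR := hxQ q hqQ
  have hc : ∀ s ∈ Q ⊓ M, x * s * x⁻¹ = s := fun s hs => by
    rw [← mem_centralizer_iff.mp hR s hs]; group
  have hiter : ∀ j : ℕ, x ^ j * q * (x ^ j)⁻¹ = r ^ j * q := by
    intro j
    induction j with
    | zero => simp
    | succ j hj =>
      calc x ^ (j + 1) * q * (x ^ (j + 1))⁻¹ = x * (x ^ j * q * (x ^ j)⁻¹) * x⁻¹ := by rw [pow_succ']; group
        _ = (x * r ^ j * x⁻¹) * r * q := by rw [hj, hr]; group
        _ = r ^ (j + 1) * q := by rw [hc _ ((Q ⊓ M).pow_mem hrR j), pow_succ]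
  have h1 := hiter (p ^ k)
  rw [hk, one_mul, inv_one, mul_one] at h1
  have hr1 : r ^ p ^ k = 1 := by simpa using h1.symm
  have hrone : r = 1 := by
    rw [← orderOf_eq_one_iff]
    refine Nat.eq_one_of_dvd_coprimes (Nat.Coprime.pow_left k ((Fact.out : p.Prime).coprime_iff_not_dvd.mpr hQ))
      (orderOf_dvd_of_pow_eq_one hr1) ?_
    exact (Subgroup.orderOf_dvd_natCard (s := Q) hrR.1)
  calc q * x = r⁻¹ * (x * q * x⁻¹) * x := by rw [hr]; group
    _ = x * q := by rw [hrone]; group


/-- Let G be a finite p-solvable group and Q a subgroup of order prime to p such that p divides the index of C_G(Q) in N_G(Q). Then Q normalizes no Sylow p-subgroup of G. -/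
theorem result {G : Type*} [Group G] [Finite G] {p : ℕ} [Fact p.Prime]
    (hG : Cfsg.IsPSolvable p G) (Q : Subgroup G) (hQ : ¬ p ∣ Nat.card Q)
    (hA : p ∣ (Subgroup.centralizer (Q : Set G)).relIndex (Subgroup.normalizer (Q : Set G)))
    (P : Sylow p G) : ¬ Q ≤ Subgroup.normalizer ((P : Subgroup G) : Set G) := by
  intro hQP
  set C := Subgroup.centralizer (Q : Set G) with hC
  set N := Subgroup.normalizer (Q : Set G) with hN
  obtain ⟨T⟩ : Nonempty (Sylow p N) := inferInstance
  refine T.not_dvd_index (hA.trans (Subgroup.index_dvd_of_le (K := C.subgroupOf N) fun t ht => ?_))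
  obtain ⟨k, hk⟩ := T.2 ⟨t, ht⟩
  rw [Subgroup.mem_subgroupOf]
  refine core _ G rfl hG Q hQ P hQP t t.2 k ?_
  have := congrArg (fun z : (T : Subgroup N) => ((z : N) : G)) hk
  simpa using this

end Cfsg.Agent.S1901
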