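import Cfsg.Statements.S1902
import Cfsg.Agent.Lib.Sig.CyclicFixedPoints
import Cfsg.Agent.Lib.Sig.PConstrained
import Cfsg.Agent.Lib.PGroup.OddOmega
import Cfsg.Agent.Lib.Coprime.PGroupAction

set_option autoImplicit false
open Cfsg

namespace Cfsg.Agent.S1902

open Subgroup

set_option linter.style.haveILetI false

/-- The case of trivial `p'`-core. -/
theorem reduced {X : Type*} [Group X] [Finite X] {p : ℕ} [Fact p.Prime] (hp2 : p ≠ 2)
    (hR : centralizer (Cfsg.pCore p X : Set X) ≤ Cfsg.pCore p X) (B : Subgroup X)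
    (hB : Cfsg.IsElementaryAbelian p B) (hBc : Nat.card ↥B = p ^ 2) (b : X) (hb : b ∈ B) (hb1 : b ≠ 1)
    (hstar : ∀ T : Subgroup X, IsPGroup p ↥T → B ≤ T → T ≤ centralizer ({b} : Set X) →
      ∀ x ∈ T, x ^ p = 1 → x ∈ B)
    (Q : Subgroup X) (hQ : (Nat.card ↥Q).Coprime p) (hBQ : B ≤ normalizer (Q : Set X)) : Q = ⊥ := by
  have hpp : p.Prime := Fact.out
  set R := Cfsg.pCore p X with hRdef
  have hRp : IsPGroup p ↥R := Cfsg.Lib.Core.pCore_isPGroup p X
  have hnR : ∀ g : X, g ∈ normalizer (R : Set X) := fun g => by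
    rw [normalizer_eq_top_iff.2 (inferInstance : R.Normal)]; exact mem_top g
  have hQR : Q ⊓ R = ⊥ := by
    rw [inf_comm]; exact Cfsg.Lib.Sig.disjoint_of_isPGroup_coprime hRp hQ
  have hBab : ∀ x ∈ B, ∀ y ∈ B, x * y = y * x := fun x hx y hy =>
    congrArg Subtype.val (hB.1.is_comm.comm (⟨x, hx⟩ : ↥B) ⟨y, hy⟩)
  have hBp : IsPGroup p ↥B := fun x => ⟨1, Subtype.ext (by simpa using hB.2 x x.2)⟩
  -- `Q` centralizes `B ⊓ R`
  have hBRQ : ∀ x ∈ B ⊓ R, ∀ y ∈ Q, x * y = y * x := fun x hx y hy => by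
    have h : x * y * x⁻¹ * y⁻¹ ∈ Q ⊓ R := by
      refine mem_inf.2 ⟨mul_mem ((mem_normalizer_iff.1 (hBQ hx.1) y).1 hy) (inv_mem hy), ?_⟩
      rw [show x * y * x⁻¹ * y⁻¹ = x * (y * x⁻¹ * y⁻¹) by group]
      exact mul_mem hx.2 ((inferInstance : R.Normal).conj_mem _ (inv_mem hx.2) y)
    rw [hQR, mem_bot, mul_inv_eq_one, mul_inv_eq_iff_eq_mul] at h
    exact h
  have homega : ∀ x ∈ R, b * x = x * b → x ^ p = 1 → x ∈ B ⊓ R := by
    intro x hx hxb hxp
    refine mem_inf.2 ⟨?_, hx⟩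
    set RC := R ⊓ centralizer ({b} : Set X) with hRC
    have hBC : B ≤ centralizer ({b} : Set X) := fun y hy =>
      mem_centralizer_singleton_iff.2 (hBab y hy b hb)
    have hBN : B ≤ normalizer (RC : Set X) := fun y hy =>
      Cfsg.Lib.Sig.mem_normalizer_of_map_conj (by
        rw [hRC, map_inf _ _ _ (MulAut.conj y).injective,
          Cfsg.Lib.Sig.map_conj_eq_of_mem_normalizer (hnR y),
          Cfsg.Lib.Sig.map_conj_eq_of_mem_normalizer (le_normalizer (hBC hy))])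
    refine hstar (B ⊔ RC) (hBp.to_sup_of_normal_right' (hRp.to_le inf_le_left) hBN) le_sup_left
      (sup_le hBC inf_le_right) x (mem_sup_right ⟨hx, mem_centralizer_singleton_iff.2 hxb.symm⟩) hxp
  -- a subgroup centralizing `b` and those elements is trivial
  have lemA : ∀ Q' : Subgroup X, Q' ≤ Q → Q' ≤ centralizer ({b} : Set X) → Q' = ⊥ := by
    intro Q' hQ'Q hQ'b
    have hcop : (Nat.card ↥Q').Coprime p := hQ.coprime_dvd_left (card_dvd_of_le hQ'Q)
    set RC := R ⊓ centralizer ({b} : Set X) with hRC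
    have hRCn : Q' ≤ normalizer (RC : Set X) := fun y hy =>
      Cfsg.Lib.Sig.mem_normalizer_of_map_conj (by
        rw [hRC, map_inf _ _ _ (MulAut.conj y).injective,
          Cfsg.Lib.Sig.map_conj_eq_of_mem_normalizer (hnR y),
          Cfsg.Lib.Sig.map_conj_eq_of_mem_normalizer (le_normalizer (hQ'b hy))])
    have hRCp : IsPGroup p ↥RC := hRp.to_le inf_le_left
    have hcen : Q' ≤ centralizer (RC : Set X) := by
      refine Cfsg.Lib.PGroup.le_centralizer_of_centralizes_omega hp2 Q' RC hRCp hRCn ?_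
        fun x hx hxp a ha => ?_
      · obtain ⟨k, hk⟩ := IsPGroup.iff_card.1 hRCp
        rw [hk]; exact hcop.pow_right k
      · exact (hBRQ x (homega x hx.1 (mem_centralizer_singleton_iff.1 hx.2).symm hxp) a
          (hQ'Q ha)).symm
    have hzb : centralizer ((zpowers b : Subgroup X) : Set X) = centralizer ({b} : Set X) := by
      rw [zpowers_eq_closure, centralizer_closure]
    have h := Cfsg.Lib.Coprime.commutator_eq_bot_of_AxB R (zpowers b) Q' hRp
      (hBp.to_le (zpowers_le.2 hb)) hcop (zpowers_le.2 (hnR b)) (fun y _ => hnR y)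
      (by rw [hzb]; exact hQ'b) (by rw [hzb]; exact le_centralizer_iff.1 hcen)
    refine le_bot_iff.1 (le_trans (le_inf hQ'Q ((le_centralizer_iff.1
      (commutator_eq_bot_iff_le_centralizer.1 h)).trans hR)) hQR.le)
  by_cases hbR : b ∈ R
  · exact lemA Q le_rfl fun y hy =>
      mem_centralizer_singleton_iff.2 (hBRQ b ⟨hb, hbR⟩ y hy).symm
  by_contra hQ1
  have hB₀c : Nat.card ↥(B ⊓ R) ≤ p := by
    have hne : B ⊓ R ≠ B := fun e => hbR (inf_eq_left.1 e hb)
    obtain ⟨j, hj, hjc⟩ := (Nat.dvd_prime_pow hpp).1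
      (hBc ▸ card_dvd_of_le (inf_le_left : B ⊓ R ≤ B))
    rw [hjc]
    rcases Nat.lt_or_ge j 2 with h | h
    · exact (Nat.pow_le_pow_right hpp.pos (Nat.le_of_lt_succ h)).trans_eq (pow_one p)
    · exact absurd (eq_of_le_of_card_ge inf_le_left (by
        rw [hjc, hBc]; exact Nat.pow_le_pow_right hpp.pos h)) hne
  -- an abelian subgroup of `Q` invariant under `b`
  obtain ⟨q, hq, hqd⟩ := Nat.exists_prime_and_dvd (n := Nat.card ↥Q) fun h => hQ1 (card_eq_one.1 h)
  haveI : Fact q.Prime := ⟨hq⟩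
  have hzQ : zpowers b ≤ normalizer (Q : Set X) := zpowers_le.2 (hBQ hb)
  have hord : orderOf b = p := orderOf_eq_prime (hB.2 b hb) hb1
  have hcopzQ : (Nat.card ↥(zpowers b)).Coprime (Nat.card ↥Q) := by
    rw [Nat.card_zpowers, hord]; exact hQ.symm
  obtain ⟨S, hS⟩ := Cfsg.Lib.Coprime.exists_invariant_sylow hzQ hcopzQ
    (Or.inl (Group.isSolvable_of_comm fun x y => mul_comm' x y)) q
  set S' := (S : Subgroup ↥Q).map Q.subtype with hS'
  have hS'q : IsPGroup q ↥S' := S.2.map _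
  have hS'ne : S' ≠ ⊥ := fun e => by
    rw [hS', map_eq_bot_iff_of_injective _ Q.subtype_injective] at e
    exact S.not_dvd_index (by rw [e, index_bot]; exact hqd)
  set A := (center ↥S').map S'.subtype with hA
  have hAQ : A ≤ Q := (map_subtype_le _).trans (map_subtype_le _)
  have hAne : A ≠ ⊥ := by
    haveI : Nontrivial ↥S' := (nontrivial_iff_ne_bot _).2 hS'ne
    haveI := hS'q.center_nontrivial
    rw [hA, Ne, map_eq_bot_iff_of_injective _ S'.subtype_injective]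
    exact (nontrivial_iff_ne_bot _).1 inferInstance
  have hAc : ∀ x ∈ A, ∀ y ∈ A, x * y = y * x := by
    rintro _ ⟨x, hx, rfl⟩ _ ⟨y, -, rfl⟩
    rw [← map_mul, ← map_mul]
    exact congrArg _ (mem_center_iff.1 hx y).symm
  have hbA : b ∈ normalizer (A : Set X) := by
    have hbS : b ∈ normalizer (S' : Set X) := hS (mem_zpowers b)
    exact (normal_subgroupOf_iff_le_normalizer ((map_subtype_le _).trans le_normalizer)).1
      (Cfsg.Lib.Core.subgroupOf_map_char_normal le_normalizer normal_in_normalizer _) hbS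
  have hfpf : ∀ a ∈ A, b * a = a * b → a = 1 := fun a ha hc => by
    have h := lemA (zpowers a) (zpowers_le.2 (hAQ ha))
      (zpowers_le.2 (mem_centralizer_singleton_iff.2 hc.symm))
    exact zpowers_eq_bot.1 h
  have key := Cfsg.Lib.Sig.le_centralizer_of_cyclic_fixed hp2 R A b hRp hAc
    (hQ.coprime_dvd_left (card_dvd_of_le hAQ)) (fun a _ => hnR a) (hnR b) hbA (hB.2 b hb) hfpf
    (B ⊓ R) hB₀c homega (fun x hx a ha => hBRQ x hx a (hAQ ha))
  exact hAne (le_bot_iff.1 (le_trans (le_inf hAQ (key.trans hR)) hQR.le))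

theorem main {G : Type*} [Group G] [Finite G] {p : ℕ} [Fact p.Prime] (hp : p ≠ 2)
    (hG : Cfsg.IsPSolvable p G) (B : Subgroup G) (hB : Cfsg.IsElementaryAbelian p B) (hBc : Nat.card B = p ^ 2)
    (b₀ : G) (hb₀ : b₀ ∈ B) (hb₁ : b₀ ≠ 1) (P : Sylow p ↥(centralizer ({b₀} : Set G)))
    (hBP : B = closure {x : G | x ∈ ((P : Subgroup ↥(centralizer ({b₀} : Set G))).map
      (centralizer ({b₀} : Set G)).subtype : Subgroup G) ∧ orderOf x = p})
    (Q : Subgroup G) (hQ : ¬ p ∣ Nat.card Q) (hinv : ∀ b ∈ B, ∀ x ∈ Q, b * x * b⁻¹ ∈ Q) :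
    Q ≤ Cfsg.pPrimeCore p G := by
  have hpp : p.Prime := Fact.out
  let C := centralizer ({b₀} : Set G)
  have hBab : ∀ x ∈ B, ∀ y ∈ B, x * y = y * x := fun x hx y hy =>
    congrArg Subtype.val (hB.1.is_comm.comm (⟨x, hx⟩ : ↥B) ⟨y, hy⟩)
  have hBC : B ≤ C := fun y hy => mem_centralizer_singleton_iff.2 (hBab y hy b₀ hb₀)
  have hBp : IsPGroup p ↥B := fun x => ⟨1, Subtype.ext (by simpa using hB.2 x x.2)⟩
  -- the hypothesis in usable form
  have hstar : ∀ T : Subgroup G, IsPGroup p ↥T → B ≤ T → T ≤ C → ∀ x ∈ T, x ^ p = 1 → x ∈ B := by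
    intro T hT hBT hTC
    obtain ⟨c, hc⟩ := Cfsg.Lib.Sig.exists_conj_le_sylow P (R := T.subgroupOf C)
      (hT.of_equiv (subgroupOfEquivOfLe hTC).symm)
    set P' := (P : Subgroup ↥C).map C.subtype with hP'
    have hcT : ∀ x ∈ T, (c : G) * x * (c : G)⁻¹ ∈ P' := fun x hx =>
      ⟨c * ⟨x, hTC hx⟩ * c⁻¹, hc (Cfsg.Lib.Sig.conj_mem_map_conj (mem_subgroupOf.2 hx)), rfl⟩
    have hord : ∀ x ∈ T, x ^ p = 1 → (c : G) * x * (c : G)⁻¹ ∈ B := by
      intro x hx hxp
      rcases eq_or_ne x 1 with rfl | hx1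
      · rw [mul_one, mul_inv_cancel]; exact one_mem B
      rw [hBP]
      refine Subgroup.subset_closure ⟨hcT x hx, ?_⟩
      rw [← MulAut.conj_apply, MulEquiv.orderOf_eq]
      exact orderOf_eq_prime hxp hx1
    have hcB : (c : G) ∈ normalizer (B : Set G) := Cfsg.Lib.Sig.mem_normalizer_of_map_conj
      (eq_of_le_of_card_ge (by rintro _ ⟨y, hy, rfl⟩; exact hord y (hBT hy) (hB.2 y hy))
        (Cfsg.Lib.Sig.card_map_conj _ _).ge)
    intro x hx hxp
    exact (mem_normalizer_iff.1 hcB x).2 (hord x hx hxp)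
  set M := Cfsg.pPrimeCore p G with hM
  have hMcop : (Nat.card ↥M).Coprime p := Cfsg.Lib.Core.pPrimeCore_coprime p G
  set f := QuotientGroup.mk' M with hf
  have hfs : Function.Surjective f := QuotientGroup.mk'_surjective M
  have hinj : ∀ T : Subgroup G, IsPGroup p ↥T → ∀ x ∈ T, f x = 1 → x = 1 := fun T hT x hx hfx => by
    have h : x ∈ T ⊓ M := ⟨hx, (QuotientGroup.eq_one_iff x).1 hfx⟩
    rwa [Cfsg.Lib.Sig.disjoint_of_isPGroup_coprime hT hMcop, mem_bot] at h
  have hbo : orderOf b₀ = p := orderOf_eq_prime (hB.2 b₀ hb₀) hb₁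
  have hred := reduced (X := G ⧸ M) hp (Cfsg.Lib.Core.centralizer_pCore_le_of_isPSolvable
      (Cfsg.Lib.Core.isPSolvable_quotient hG M) Cfsg.Lib.Core.pPrimeCore_quotient_eq_bot)
    (B.map f) ?_ ?_ (f b₀) (mem_map_of_mem f hb₀) (fun h => hb₁ (hinj B hBp b₀ hb₀ h)) ?_
    (Q.map f) ((hpp.coprime_iff_not_dvd.2 hQ).symm.coprime_dvd_left (Cfsg.Lib.Core.card_map_dvd f Q)) ?_
  · intro x hx
    have : f x ∈ Q.map f := mem_map_of_mem f hx
    rw [hred, mem_bot] at this
    exact (QuotientGroup.eq_one_iff x).1 this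
  · refine ⟨⟨⟨fun u v => Subtype.ext ?_⟩⟩, ?_⟩
    · obtain ⟨x, hx, hxe⟩ := u.2
      obtain ⟨y, hy, hye⟩ := v.2
      show (u : G ⧸ M) * v = v * u
      rw [← hxe, ← hye, ← map_mul, ← map_mul, hBab x hx y hy]
    · rintro _ ⟨x, hx, rfl⟩
      rw [← map_pow, hB.2 x hx, map_one]
  · rw [← hBc]
    refine (Nat.card_congr (MulEquiv.ofBijective (f.subgroupMap B)
      ⟨(injective_iff_map_eq_one _).2 fun x hx => Subtype.ext (hinj B hBp x x.2 (congrArg Subtype.val hx)),
        MonoidHom.subgroupMap_surjective f B⟩).toEquiv).symm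
  · intro T hT hBT hTC x hx hxp
    set T' := T.comap f ⊓ C with hT'
    have hBT' : B ≤ T' := le_inf (fun y hy => hBT (mem_map_of_mem f hy)) hBC
    obtain ⟨S, hS⟩ := (hBp.of_equiv (subgroupOfEquivOfLe hBT').symm :
      IsPGroup p ↥(B.subgroupOf T')).exists_le_sylow
    set S' := (S : Subgroup ↥T').map T'.subtype with hS'
    have hz : IsPGroup p ↥(zpowers b₀) := hBp.to_le (zpowers_le.2 hb₀)
    have hCC : centralizer ({f b₀} : Set (G ⧸ M)) = C.map f := by
      have h := Cfsg.Lib.Sig.centralizer_map_mk' M hMcop hz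
      rw [MonoidHom.map_zpowers, zpowers_eq_closure, centralizer_closure,
        zpowers_eq_closure (g := b₀), centralizer_closure] at h
      exact h
    -- the Sylow subgroup covers `T`
    have hcover : T ≤ S'.map f := by
      have hmap : T'.map f = T := by
        refine le_antisymm (by rintro _ ⟨y, hy, rfl⟩; exact hy.1) fun y hy => ?_
        obtain ⟨z, hz', rfl⟩ := hCC.le (hTC hy)
        exact ⟨z, ⟨hy, hz'⟩, rfl⟩
      intro y hy
      let g : ↥T' →* ↥T := (f.comp T'.subtype).codRestrict T fun z => z.2.1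
      have hg : Function.Surjective g := fun w => by
        obtain ⟨z, hz', hzw⟩ := hmap.ge w.2
        exact ⟨⟨z, hz'⟩, Subtype.ext hzw⟩
      have htop : ((S.mapSurjective hg : Sylow p ↥T) : Subgroup ↥T) = ⊤ := by
        refine eq_top_iff.2 ?_
        obtain ⟨k, hk⟩ := hT.exists_card_eq
        have hd := (S.mapSurjective hg).not_dvd_index
        obtain ⟨j, -, hj⟩ := (Nat.dvd_prime_pow hpp).1
          (hk ▸ ((S.mapSurjective hg : Sylow p ↥T) : Subgroup ↥T).index_dvd_card)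
        rcases j with _ | j
        · exact (index_eq_one.1 (by rw [hj, pow_zero])).ge
        · exact absurd (hj ▸ dvd_pow_self p j.succ_ne_zero) hd
      obtain ⟨z, hz', hzy⟩ := (htop.ge (Subgroup.mem_top (⟨y, hy⟩ : ↥T)) : (⟨y, hy⟩ : ↥T) ∈ (S : Subgroup ↥T').map g)
      exact ⟨z, mem_map_of_mem _ hz', congrArg Subtype.val hzy⟩
    obtain ⟨z, hz', rfl⟩ := hcover hx
    refine mem_map_of_mem f (hstar S' (S.2.map _) ?_ ((map_subtype_le _).trans inf_le_right) z hz' ?_)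
    · intro y hy
      exact ⟨⟨y, hBT' hy⟩, hS (mem_subgroupOf.2 hy), rfl⟩
    · rw [← map_pow] at hxp
      exact hinj S' (S.2.map _) _ (S'.pow_mem hz' p) hxp
  · rintro _ ⟨b, hb, rfl⟩
    refine Cfsg.Lib.Sig.mem_normalizer_of_map_conj (eq_of_le_of_card_ge ?_
      (Cfsg.Lib.Sig.card_map_conj _ _).ge)
    rintro _ ⟨_, ⟨x, hx, rfl⟩, rfl⟩
    refine ⟨b * x * b⁻¹, hinv b hb x hx, ?_⟩
    show f (b * x * b⁻¹) = f b * f x * (f b)⁻¹
    rw [map_mul, map_mul, map_inv]

/-- Let p be an odd prime, G a finite p-solvable group, and B an elementary abelian subgroup of order p² such that B is the subgroup generated by the elements of order p of some Sylow p-subgroup of C_G(b₀), for some nontrivial b₀ ∈ B. Then every B-invariant subgroup of G of order prime to p lies in O_{p'}(G). -/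
theorem result {G : Type*} [Group G] [Finite G] {p : ℕ} [Fact p.Prime] (hp : p ≠ 2)
    (hG : Cfsg.IsPSolvable p G) (B : Subgroup G) (hB : Cfsg.IsElementaryAbelian p B) (hBc : Nat.card B = p ^ 2)
    (b₀ : G) (hb₀ : b₀ ∈ B) (hb₁ : b₀ ≠ 1) (P : Sylow p ↥(Subgroup.centralizer ({b₀} : Set G)))
    (hBP : B = Subgroup.closure {x : G | x ∈ ((P : Subgroup ↥(Subgroup.centralizer ({b₀} : Set G))).map
      (Subgroup.centralizer ({b₀} : Set G)).subtype : Subgroup G) ∧ orderOf x = p})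
    (Q : Subgroup G) (hQ : ¬ p ∣ Nat.card Q) (hinv : ∀ b ∈ B, ∀ x ∈ Q, b * x * b⁻¹ ∈ Q) :
    Q ≤ Cfsg.pPrimeCore p G := by
    exact main hp hG B hB hBc b₀ hb₀ hb₁ P hBP Q hQ hinv

end Cfsg.Agent.S1902
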