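import Cfsg.Statements.S1903
import Cfsg.Agent.Lib.TwoFour.Ext320
import Cfsg.Agent.Lib.TwoFour.Ext320Target

set_option autoImplicit false
open Cfsg

namespace Cfsg.Agent.S1903

/-- A finite group of order 320 whose derived subgroup has order 64 and has centre a Klein four-group is isomorphic to the centralizer of an involution in PSU₃(4). -/
theorem result {G : Type*} [Group G] [Finite G] (hG : Nat.card G = 320) (hD : Nat.card (commutator G) = 64)
    (hZ : IsKleinFour (Subgroup.center (commutator G)))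
    {F : Type*} [Field F] [Fintype F] (hF : Fintype.card F = 16) :
    ∃ t : Cfsg.PSU 3 F 4, orderOf t = 2 ∧ Nonempty (G ≃* Subgroup.centralizer ({t} : Set (Cfsg.PSU 3 F 4))) := by
  classical
  have hF' : Fintype.card F = (2 ^ 2) ^ 2 := by rw [hF]; norm_num
  obtain ⟨z, hz, hC, hCd, hCz, hC2⟩ := Cfsg.Lib.TwoFour.Ext320.exists_target hF'
  obtain ⟨hZc, hexp⟩ := hZ
  obtain ⟨f⟩ := Cfsg.Lib.TwoFour.Ext320.nonempty_mulEquiv hG hD hZc
    (fun w hw => by
      have := Monoid.pow_exponent_eq_one (⟨w, hw⟩ : Subgroup.center (commutator G))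
      rw [hexp, pow_two] at this
      exact congrArg Subtype.val this) hC hCd hCz hC2
  -- the centre of `SU₃(4)` is trivial
  have hcen : Subgroup.center (Cfsg.SU 3 F (2 ^ 2)) = ⊥ := by
    rw [← Subgroup.card_eq_one, Cfsg.Lib.Linear.Herm.card_center_SU hF' (by norm_num : 2 ≤ 3)]
    norm_num
  have hinj : Function.Injective (QuotientGroup.mk' (Subgroup.center (Cfsg.SU 3 F (2 ^ 2)))) := by
    rw [← MonoidHom.ker_eq_bot_iff, QuotientGroup.ker_mk', hcen]
  let ι : Cfsg.SU 3 F (2 ^ 2) ≃* Cfsg.PSU 3 F (2 ^ 2) :=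
    MulEquiv.ofBijective _ ⟨hinj, QuotientGroup.mk'_surjective _⟩
  refine ⟨(ι z : Cfsg.PSU 3 F (2 ^ 2)), (MulEquiv.orderOf_eq ι z).trans hz, ⟨f.trans ?_⟩⟩
  refine (ι.subgroupMap _).trans (MulEquiv.subgroupCongr ?_)
  ext w
  obtain ⟨v, rfl⟩ := ι.surjective w
  refine (Subgroup.mem_map_iff_mem (f := (ι : Cfsg.SU 3 F (2 ^ 2) →* Cfsg.PSU 3 F (2 ^ 2)))
    ι.injective).trans ?_
  show _ ↔ ι v ∈ Subgroup.centralizer ({ι z} : Set (Cfsg.PSU 3 F (2 ^ 2)))
  rw [Subgroup.mem_centralizer_singleton_iff]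
  rw [Subgroup.mem_centralizer_singleton_iff, ← map_mul, ← map_mul, ι.injective.eq_iff]

end Cfsg.Agent.S1903
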