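import Cfsg.Statements.S1905
import Cfsg.Agent.Lib.Invol.Basic
import Cfsg.Agent.Lib.Invol.Embedded
import Cfsg.Agent.Lib.Sig.Small

set_option autoImplicit false
open Cfsg

namespace Cfsg.Agent.S1905

open Subgroup Cfsg.Lib Cfsg.Lib.Invol

universe u

variable {S : Type u} [Group S] [Finite S] {M : Subgroup S}

theorem mem_of_commute (hC : ∀ i ∈ M, orderOf i = 2 → centralizer ({i} : Set S) ≤ M) {i c : S} (hi : i ∈ M)
    (hi2 : orderOf i = 2) (hc : c * i = i * c) : c ∈ M :=
  hC i hi hi2 (mem_centralizer_singleton_iff.2 hc)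

theorem odd_product (hC : ∀ i ∈ M, orderOf i = 2 → centralizer ({i} : Set S) ≤ M) {s v : S}
    (hs : s ∈ M) (hs2 : orderOf s = 2) (hv : v ∉ M) (hv2 : orderOf v = 2) : Odd (orderOf (s * v)) := by
  rw [← Nat.not_even_iff_odd]
  intro he
  obtain ⟨hw, hws, hwv⟩ := central_involution hs2 hv2 he
  exact hv (mem_of_commute hC (mem_of_commute hC hs hs2 hws.eq) hw hwv.eq.symm)

theorem exists_outside (hM : Even (Nat.card M)) (hcore : Odd (Nat.card M.normalCore)) :
    ∃ v : S, v ∉ M ∧ orderOf v = 2 := by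
  obtain ⟨t, ht, ht2⟩ := exists_involution_of_even hM
  by_contra hno
  push Not at hno
  have hall : ∀ v : S, orderOf v = 2 → v ∈ M := fun v hv => by
    by_contra h
    exact hno v h hv
  have htc : t ∈ M.normalCore := fun g => hall _ (by rw [orderOf_conj_eq, ht2])
  have h2 : (2 : ℕ) ∣ Nat.card M.normalCore := ht2 ▸ orderOf_dvd_natCard _ htc
  exact (Nat.not_even_iff_odd.2 hcore) (even_iff_two_dvd.2 h2)

theorem isConj_all (hM : Even (Nat.card M)) (hC : ∀ i ∈ M, orderOf i = 2 → centralizer ({i} : Set S) ≤ M)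
    (hcore : Odd (Nat.card M.normalCore)) {a b : S} (ha : orderOf a = 2) (hb : orderOf b = 2) : IsConj a b := by
  obtain ⟨v, hv, hv2⟩ := exists_outside hM hcore
  obtain ⟨t, ht, ht2⟩ := exists_involution_of_even hM
  have key : ∀ c : S, orderOf c = 2 → IsConj c t := by
    intro c hc
    by_cases hcM : c ∈ M
    · exact (isConj_of_odd hc hv2 (odd_product hC hcM hc hv hv2)).trans
        (isConj_of_odd ht2 hv2 (odd_product hC ht ht2 hv hv2)).symm
    · exact (isConj_of_odd ht2 hc (odd_product hC ht ht2 hcM hc)).symm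
  exact (key a ha).trans (key b hb).symm

theorem card_quotient_centralizer {H : Type u} [Group H] [Finite H] (z : H) (hz : orderOf z = 2)
    (hall : ∀ a : H, orderOf a = 2 → ∃ h : H, h * z * h⁻¹ = a) :
    (centralizer ({z} : Set H)).index = Nat.card {a : H // orderOf a = 2} := by
  refine Nat.card_congr (Equiv.ofBijective
    (Quotient.lift (fun h : H => (⟨h * z * h⁻¹, by rw [orderOf_conj_eq, hz]⟩ : {a : H // orderOf a = 2}))
      fun a b hab => ?_) ⟨?_, ?_⟩)
  · have h := mem_centralizer_singleton_iff.1 (QuotientGroup.leftRel_apply.1 hab)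
    refine Subtype.ext ?_
    show a * z * a⁻¹ = b * z * b⁻¹
    calc a * z * a⁻¹ = a * (z * (a⁻¹ * b)) * b⁻¹ := by group
      _ = a * ((a⁻¹ * b) * z) * b⁻¹ := by rw [h]
      _ = _ := by group
  · rintro ⟨a⟩ ⟨b⟩ hab
    refine Quotient.sound (QuotientGroup.leftRel_apply.2 (mem_centralizer_singleton_iff.2 ?_))
    have h : a * z * a⁻¹ = b * z * b⁻¹ := congrArg Subtype.val hab
    calc a⁻¹ * b * z = a⁻¹ * (b * z * b⁻¹) * b := by group
      _ = _ := by rw [← h]; group
  · rintro ⟨a, ha⟩
    obtain ⟨h, rfl⟩ := hall a ha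
    exact ⟨Quotient.mk _ h, rfl⟩

theorem core (M : Subgroup S) (hM : Even (Nat.card M))
    (hC : ∀ i ∈ M, orderOf i = 2 → Subgroup.centralizer ({i} : Set S) ≤ M) (hcore : Odd (Nat.card M.normalCore)) :
    (∀ x y : S, orderOf x = 2 → orderOf y = 2 → IsConj x y) ∧
      ∀ (X : Sylow 2 M) (I : M), I ∈ (Subgroup.center ↥(X : Subgroup ↥M)).map (X : Subgroup ↥M).subtype → orderOf I = 2 →
        Subgroup.normalizer (((X : Subgroup M).map M.subtype : Subgroup S) : Set S) ≤ M →
        (∀ x y : M, orderOf x = 2 → orderOf y = 2 → IsConj x y) ∧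
          ∃ M₀ : Subgroup M, Odd (Nat.card M₀) ∧
            ∀ m : M, ∃ a ∈ M₀, ∃ c ∈ Subgroup.centralizer ({I} : Set M), m = a * c := by
  classical
  haveI : Fact (Nat.Prime 2) := ⟨Nat.prime_two⟩
  refine ⟨fun x y hx hy => isConj_all hM hC hcore hx hy, fun X I hI hI2 hN => ?_⟩
  have hI2' : orderOf (I : S) = 2 := by rw [Subgroup.orderOf_coe, hI2]
  obtain ⟨z, hz, hzI⟩ := hI
  -- involutions of `M` are conjugate to `I` in `M`
  have hall : ∀ j : M, orderOf j = 2 → ∃ m : M, m * I * m⁻¹ = j := by
    intro j hj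
    have hj2 : orderOf (j : S) = 2 := by rw [Subgroup.orderOf_coe, hj]
    obtain ⟨g, hg⟩ := isConj_iff.1 (isConj_all hM hC hcore hI2' hj2)
    set X' := (X : Subgroup M).map M.subtype with hX'
    have hle : X'.map (MulAut.conj g).toMonoidHom ≤ M := by
      rintro _ ⟨_, ⟨x, hx, rfl⟩, rfl⟩
      refine mem_of_commute hC j.2 hj2 ?_
      have hcomm : (x : S) * (I : S) = (I : S) * (x : S) := by
        have h1 := mem_center_iff.1 hz ⟨x, hx⟩
        rw [← hzI]
        exact congrArg Subtype.val (congrArg Subtype.val h1)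
      show g * (x : S) * g⁻¹ * (j : S) = (j : S) * (g * (x : S) * g⁻¹)
      rw [← hg]
      calc g * (x : S) * g⁻¹ * (g * (I : S) * g⁻¹) = g * ((x : S) * (I : S)) * g⁻¹ := by group
        _ = _ := by rw [hcomm]; group
    obtain ⟨m, hm⟩ := Cfsg.Lib.Sig.exists_conj_le_sylow X
      (R := (X'.map (MulAut.conj g).toMonoidHom).subgroupOf M)
      (((X.isPGroup'.map _).map _).of_equiv (subgroupOfEquivOfLe hle).symm)
    have hmg : X'.map (MulAut.conj ((m : S) * g)).toMonoidHom ≤ X' := by
      rintro _ ⟨x, hx, rfl⟩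
      refine ⟨m * ⟨g * x * g⁻¹, hle (mem_map_of_mem _ hx)⟩ * m⁻¹, hm (mem_map_of_mem _ ?_), ?_⟩
      · exact mem_subgroupOf.2 (mem_map_of_mem _ hx)
      · show (m : S) * (g * x * g⁻¹) * (m : S)⁻¹ = (m : S) * g * x * ((m : S) * g)⁻¹
        group
    have hgM : g ∈ M := by
      have h := hN (show (m : S) * g ∈ normalizer (X' : Set S) from Core.mem_normalizer_iff_map_conj.2
        (eq_of_le_of_card_ge hmg (Nat.card_congr (X'.equivMapOfInjective _ (MulAut.conj _).injective).toEquiv).le))
      simpa using mul_mem (inv_mem m.2) h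
    exact ⟨⟨g, hgM⟩, Subtype.ext hg⟩
  refine ⟨fun x y hx hy => ?_, ?_⟩
  · obtain ⟨a, ha⟩ := hall x hx
    obtain ⟨b, hb⟩ := hall y hy
    exact (isConj_iff.2 ⟨a, ha⟩).symm.trans (isConj_iff.2 ⟨b, hb⟩)
  -- counting
  set n := Nat.card {a : M // orderOf a = 2} with hn
  have hnC : (centralizer ({I} : Set M)).index = n := card_quotient_centralizer I hI2 hall
  have hCle : centralizer ({(I : S)} : Set S) ≤ M := hC I I.2 hI2'
  have hrel : (centralizer ({(I : S)} : Set S)).relIndex M = n := by
    rw [← hnC]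
    refine congrArg Subgroup.index ?_
    ext c
    rw [mem_subgroupOf, mem_centralizer_singleton_iff, mem_centralizer_singleton_iff, Subtype.ext_iff]
    rfl
  have htot : Nat.card {a : S // orderOf a = 2} = n * M.index := by
    rw [← card_quotient_centralizer (I : S) hI2' (fun a ha => isConj_iff.1 (isConj_all hM hC hcore hI2' ha)),
      ← hrel, relIndex_mul_index hCle]
  haveI := Fintype.ofFinite S
  haveI := Fintype.ofFinite (S ⧸ M)
  set O := (Finset.univ : Finset S).filter (fun a => orderOf a = 2 ∧ a ∉ M) with hO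
  have hOcard : O.card + n = n * M.index := by
    rw [← htot, Nat.card_eq_fintype_card, Fintype.card_subtype]
    have h2 : n = ((Finset.univ : Finset S).filter (fun a => orderOf a = 2 ∧ a ∈ M)).card := by
      rw [hn, ← Fintype.card_subtype, ← Nat.card_eq_fintype_card]
      refine Nat.card_congr
        { toFun := fun a => ⟨a.1, (Subgroup.orderOf_coe a.1).trans a.2, a.1.2⟩
          invFun := fun a => ⟨⟨a.1, a.2.2⟩, (Subgroup.orderOf_mk a.1 a.2.2).trans a.2.1⟩
          left_inv := fun _ => rfl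
          right_inv := fun _ => rfl }
    rw [h2, hO, ← Finset.filter_filter, ← Finset.filter_filter]
    rw [add_comm]
    exact Finset.card_filter_add_card_filter_not _
  set T := (Finset.univ : Finset (S ⧸ M)).erase ((1 : S) : S ⧸ M) with hT
  have hmaps : ∀ a ∈ O, (a : S ⧸ M) ∈ T := by
    intro a ha
    refine Finset.mem_erase.2 ⟨fun h => (Finset.mem_filter.1 ha).2.2 ?_, Finset.mem_univ _⟩
    simpa using QuotientGroup.eq.1 h
  have hTcard : T.card + 1 = M.index := by
    rw [hT, Finset.card_erase_add_one (Finset.mem_univ _), Finset.card_univ, index, Nat.card_eq_fintype_card]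
  obtain ⟨v, hv, hv2⟩ := exists_outside hM hcore
  have hTne : T.Nonempty := ⟨_, hmaps v (Finset.mem_filter.2 ⟨Finset.mem_univ _, hv2, hv⟩)⟩
  obtain ⟨c, hc, hcn⟩ : ∃ c ∈ T, n ≤ (O.filter (fun a : S => (QuotientGroup.mk a : S ⧸ M) = c)).card := by
    refine Finset.exists_le_of_sum_le hTne ?_
    rw [← Finset.card_eq_sum_card_fiberwise hmaps, Finset.sum_const, smul_eq_mul]
    have : T.card * n + n = O.card + n := by rw [hOcard, ← hTcard]; ring
    omega
  set F := O.filter (fun a : S => (QuotientGroup.mk a : S ⧸ M) = c) with hF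
  have hnpos : 0 < n := by
    haveI : Nonempty {a : M // orderOf a = 2} := ⟨⟨I, hI2⟩⟩
    exact Nat.card_pos
  obtain ⟨t, ht⟩ := Finset.card_pos.1 (hnpos.trans_le hcn)
  have hF' : ∀ e ∈ F, orderOf e = 2 ∧ e ∉ M ∧ t * e ∈ M := by
    intro e he
    obtain ⟨heO, hec⟩ := Finset.mem_filter.1 he
    obtain ⟨-, h1, h2⟩ := Finset.mem_filter.1 heO
    refine ⟨h1, h2, ?_⟩
    have h := QuotientGroup.eq.1 ((Finset.mem_filter.1 ht).2.trans hec.symm)
    rwa [inv_eq_self ((Finset.mem_filter.1 (Finset.mem_filter.1 ht).1).2.1)] at h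
  obtain ⟨ht2, htM, -⟩ := hF' t ht
  set M₀ := (M.map (MulAut.conj t).toMonoidHom).subgroupOf M with hM₀
  have hmem : ∀ m : M, m ∈ M₀ ↔ t * (m : S) * t⁻¹ ∈ M := by
    intro m
    rw [hM₀, mem_subgroupOf, mem_map]
    constructor
    · rintro ⟨k, hk, hke⟩
      have e : t * k * t⁻¹ = (m : S) := hke
      rw [← e, inv_eq_self ht2, show t * (t * k * t) * t = (t * t) * k * (t * t) by group,
        Invol.inv_mul_self ht2, one_mul, mul_one]
      exact hk
    · intro h
      refine ⟨t * (m : S) * t⁻¹, h, ?_⟩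
      show t * (t * (m : S) * t⁻¹) * t⁻¹ = m
      rw [inv_eq_self ht2, show t * (t * (m : S) * t) * t = (t * t) * m * (t * t) by group,
        Invol.inv_mul_self ht2, one_mul, mul_one]
  refine ⟨M₀, ?_, ?_⟩
  · rw [← Nat.not_even_iff_odd]
    intro he
    obtain ⟨a, ha, ha2⟩ := exists_involution_of_even he
    have ha2' : orderOf (a : S) = 2 := by rw [Subgroup.orderOf_coe, ha2]
    set b := t * (a : S) * t⁻¹ with hb
    have hbM : b ∈ M := (hmem a).1 ha
    have hb2 : orderOf b = 2 := by rw [hb, orderOf_conj_eq, ha2']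
    have htb : t * b * t⁻¹ = (a : S) := by
      rw [hb, inv_eq_self ht2, show t * (t * (a : S) * t) * t = (t * t) * a * (t * t) by group,
        Invol.inv_mul_self ht2, one_mul, mul_one]
    have htr : t * ((a : S) * b) * t⁻¹ = ((a : S) * b)⁻¹ := by
      rw [mul_inv_rev, inv_eq_self ha2', inv_eq_self hb2]
      rw [show t * ((a : S) * b) * t⁻¹ = (t * (a : S) * t⁻¹) * (t * b * t⁻¹) by group, htb, ← hb]
    rcases Nat.even_or_odd (orderOf ((a : S) * b)) with he | ho
    · obtain ⟨hw, hwa, hwb⟩ := central_involution ha2' hb2 he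
      set w := ((a : S) * b) ^ (orderOf ((a : S) * b) / 2)
      refine htM (mem_of_commute hC (pow_mem (mul_mem a.2 hbM) _) hw ?_)
      have h : t * w * t⁻¹ = w := by
        show t * ((a : S) * b) ^ _ * t⁻¹ = _
        rw [← conj_pow, htr, inv_pow]
        exact inv_eq_self hw
      calc t * w = t * w * t⁻¹ * t := by group
        _ = _ := by rw [h]
    · obtain ⟨k, hk⟩ := ho
      set r := (a : S) * b with hr
      set c := r ^ k * (a : S) with hc'
      have hcM : c ∈ M := mul_mem (pow_mem (mul_mem a.2 hbM) _) a.2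
      have hainv : (a : S) * r * (a : S)⁻¹ = r⁻¹ := conj_mul_left ha2' hb2
      have hc1 : c * c = 1 := by
        rw [hc', show r ^ k * (a : S) * (r ^ k * a) = r ^ k * ((a : S) * r ^ k * (a : S)⁻¹) * ((a : S) * a) by group,
          ← conj_pow, hainv, Invol.inv_mul_self ha2', mul_one, inv_pow, mul_inv_cancel]
      have hcne : c ≠ 1 := by
        intro h
        have h' : (a : S) = (r ^ k)⁻¹ := eq_inv_of_mul_eq_one_right h
        have : (a : S) ^ (2 * k + 1) = 1 := by
          rw [h', ← inv_pow, ← pow_mul, mul_comm, pow_mul, inv_pow, ← hk, pow_orderOf_eq_one, inv_one, one_pow]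
        have h2 := orderOf_dvd_of_pow_eq_one this
        rw [ha2'] at h2
        omega
      refine htM (mem_of_commute hC hcM (orderOf_eq_two_of hcne hc1) ?_)
      have h : t * c * t⁻¹ = c := by
        rw [hc', show t * (r ^ k * (a : S)) * t⁻¹ = (t * r ^ k * t⁻¹) * b by rw [hb]; group, ← conj_pow, htr]
        have e1 : b = r⁻¹ ^ (0 : ℕ) * ((a : S) * r) := by
          rw [pow_zero, one_mul, hr, ← mul_assoc, Invol.inv_mul_self ha2', one_mul]
        have e2 : (a : S) * r = r⁻¹ * a := by
          calc (a : S) * r = (a : S) * r * (a : S)⁻¹ * a := by group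
            _ = _ := by rw [hainv]
        rw [e1, pow_zero, one_mul, e2, ← mul_assoc, ← pow_succ, inv_pow]
        congr 1
        refine inv_eq_of_mul_eq_one_right ?_
        rw [← pow_add, show k + 1 + k = 2 * k + 1 by ring, ← hk, pow_orderOf_eq_one]
      calc t * c = t * c * t⁻¹ * t := by group
        _ = _ := by rw [h]
  · intro m
    let f : {e : S // e ∈ F} → M ⧸ centralizer ({I} : Set M) := fun e => ((⟨t * e.1, (hF' e.1 e.2).2.2⟩ : M) : M ⧸ _)
    have hinj : Function.Injective f := by
      rintro ⟨a, ha⟩ ⟨b, hb⟩ hab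
      have h := mem_centralizer_singleton_iff.1 (QuotientGroup.eq.1 hab)
      obtain ⟨ha2, haM, hat⟩ := hF' a ha
      obtain ⟨hb2, hbM, hbt⟩ := hF' b hb
      set y : S := a * b with hy
      have hy' : (t * a)⁻¹ * (t * b) = y := by rw [hy, mul_inv_rev, inv_eq_self ha2]; group
      have hyM : y ∈ M := hy' ▸ mul_mem (inv_mem hat) hbt
      have hyI : y * (I : S) = (I : S) * y := by
        have h' := congrArg Subtype.val h
        simp only [Subgroup.coe_mul, Subgroup.coe_inv] at h'
        rwa [hy'] at h'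
      refine Subtype.ext ?_
      show a = b
      have hainv : a * y * a⁻¹ = y⁻¹ := conj_mul_left ha2 hb2
      by_contra hne
      have hy1 : y ≠ 1 := fun h0 => hne (by
        have := eq_inv_of_mul_eq_one_left h0
        rwa [inv_eq_self hb2] at this)
      set H := normalizer ((zpowers y : Subgroup S) : Set S) with hH
      have haH : a ∈ H := by
        refine Core.mem_normalizer_iff_map_conj.2 ?_
        rw [MonoidHom.map_zpowers, show (MulAut.conj a).toMonoidHom y = y⁻¹ from hainv, zpowers_inv]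
      have hIH : (I : S) ∈ H := by
        refine Core.mem_normalizer_iff_map_conj.2 ?_
        rw [MonoidHom.map_zpowers, show (MulAut.conj (I : S)).toMonoidHom y = y from by
          show (I : S) * y * (I : S)⁻¹ = y; rw [← hyI, mul_inv_cancel_right]]
      obtain ⟨d, hd, hde⟩ := exists_conj_of_odd hI2' ha2 (odd_product hC I.2 hI2' haM ha2)
      have hdH : d ∈ H := (closure_le _).2 (by
        rintro x (rfl | rfl)
        · exact hIH
        · exact haH) hd
      obtain ⟨k, hk⟩ := mem_zpowers_iff.1 ((mem_normalizer_iff''.1 hdH y).1 (mem_zpowers y))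
      have hcI : Commute (I : S) (d⁻¹ * y * d) := by
        rw [← hk]; exact (show Commute y (I : S) from hyI).symm.zpow_right k
      have hay : a * y = y * a := by
        rw [← hde]
        calc d * (I : S) * d⁻¹ * y = d * ((I : S) * (d⁻¹ * y * d)) * d⁻¹ := by group
          _ = d * ((d⁻¹ * y * d) * (I : S)) * d⁻¹ := by rw [hcI.eq]
          _ = _ := by group
      have hyy : y * y = 1 := by
        have : a * y * a⁻¹ = y := by rw [hay, mul_inv_cancel_right]
        rw [hainv] at this
        nth_rewrite 1 [← this]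
        exact _root_.inv_mul_cancel y
      exact haM (mem_of_commute hC hyM (orderOf_eq_two_of hy1 hyy) hay)
    have hcard : n ≤ Nat.card {e : S // e ∈ F} := by
      rwa [Nat.card_eq_fintype_card, Fintype.card_coe]
    have hb : Function.Bijective f := hinj.bijective_of_nat_card_le (by
      rw [← hnC] at hcard; exact hcard)
    obtain ⟨⟨e, he⟩, hfe⟩ := hb.2 (m : M ⧸ _)
    obtain ⟨he2, heM, hte⟩ := hF' e he
    refine ⟨⟨t * e, hte⟩, (hmem _).2 ?_, (⟨t * e, hte⟩ : M)⁻¹ * m, QuotientGroup.eq.1 hfe, by group⟩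
    show t * (t * e) * t⁻¹ ∈ M
    have e' : t * (t * e) * t⁻¹ = (t * e)⁻¹ := by
      rw [mul_inv_rev, inv_eq_self he2, inv_eq_self ht2, ← mul_assoc, Invol.inv_mul_self ht2, one_mul]
    rw [e']
    exact inv_mem hte

/-- Let M be a subgroup of even order of a finite group S such that M contains the centralizer in S of each of its involutions and the normal core of M in S has odd order. Then all involutions of S are conjugate. If moreover N_S(X) ≤ M for a Sylow 2-subgroup X of M and I is an involution in the centre of X, then all involutions of M are conjugate in M and M = M₀ C_M(I) for some subgroup M₀ of M of odd order. -/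
theorem result {S : Type*} [Group S] [Finite S] (M : Subgroup S) (hM : Even (Nat.card M))
    (hC : ∀ i ∈ M, orderOf i = 2 → Subgroup.centralizer ({i} : Set S) ≤ M) (hcore : Odd (Nat.card M.normalCore)) :
    (∀ x y : S, orderOf x = 2 → orderOf y = 2 → IsConj x y) ∧
      ∀ (X : Sylow 2 M) (I : M), I ∈ (Subgroup.center ↥(X : Subgroup ↥M)).map (X : Subgroup ↥M).subtype → orderOf I = 2 →
        Subgroup.normalizer (((X : Subgroup M).map M.subtype : Subgroup S) : Set S) ≤ M →
        (∀ x y : M, orderOf x = 2 → orderOf y = 2 → IsConj x y) ∧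
          ∃ M₀ : Subgroup M, Odd (Nat.card M₀) ∧
            ∀ m : M, ∃ a ∈ M₀, ∃ c ∈ Subgroup.centralizer ({I} : Set M), m = a * c := by
    exact core M hM hC hcore

end Cfsg.Agent.S1905
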