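import Cfsg.Statements.S1906
import Cfsg.Agent.Lib.Invol.Cyclic
import Mathlib.GroupTheory.Transfer
import Mathlib.LinearAlgebra.Projectivization.Action
import Mathlib.LinearAlgebra.Projectivization.Cardinality
import Mathlib.LinearAlgebra.Matrix.ToLin
import Mathlib.FieldTheory.Finite.Basic

set_option autoImplicit false
open Cfsg

namespace Cfsg.Agent.S1906

open Subgroup
open scoped commutatorElement

set_option linter.style.haveILetI false

/-- A central involution outside the kernel of a linear character of a Sylow 2-subgroup, all of whose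
conjugates under the normalizer stay outside, gives a subgroup of index two. -/
theorem exists_index_two {G : Type*} [Group G] [Finite G] (X : Sylow 2 G) {A : Type*} [CommGroup A]
    [Finite A] (hA : IsPGroup 2 A) (ψ : ↥(X : Subgroup G) →* A) (e : ↥(X : Subgroup G))
    (he : e * e = 1) (hec : ∀ x : ↥(X : Subgroup G), x * e = e * x) (hne : ψ e ≠ 1) (hu : ∀ a : A, a * a = 1 → a = 1 ∨ a = ψ e)
    (hN : ∀ g ∈ normalizer ((X : Subgroup G) : Set G), ∀ h : g⁻¹ * (e : G) * g ∈ (X : Subgroup G),
      ψ ⟨_, h⟩ = ψ e) :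
    ∃ H : Subgroup G, H.index = 2 := by
  classical
  haveI : Fact (Nat.Prime 2) := ⟨Nat.prime_two⟩
  haveI : (X : Subgroup G).FiniteIndex := inferInstance
  set V := MonoidHom.transfer ψ
  suffices hVe : V (e : G) ≠ 1 by
    obtain ⟨k, hk⟩ := IsPGroup.iff_card.1 (hA.to_subgroup V.range)
    rcases k with _ | a
    · rw [pow_zero, card_eq_one] at hk
      exact absurd (MonoidHom.range_eq_bot_iff.1 hk ▸ rfl : V (e : G) = 1) hVe
    · obtain ⟨H, -, hH⟩ := Cfsg.Lib.Invol.exists_index_two_of_normal V.ker (a := a)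
        (by rw [index_ker, hk])
      exact ⟨H, hH⟩
  letI := Fintype.ofFinite (MulAction.orbitRel.Quotient (zpowers (e : G)) (G ⧸ (X : Subgroup G)))
  have heG : (e : G) * e = 1 := congrArg Subtype.val he
  have hsq : ∀ a : ↥(X : Subgroup G), a * a = 1 → ψ a * ψ a = 1 := fun a ha => by
    rw [← map_mul, ha, map_one]
  -- the value attached to a coset
  have hval : ∀ (g : G) (x : ↥(X : Subgroup G)) (h : g⁻¹ * (e : G) * g ∈ (X : Subgroup G))
      (h' : (g * x)⁻¹ * (e : G) * (g * x) ∈ (X : Subgroup G)), ψ ⟨_, h'⟩ = ψ ⟨_, h⟩ := by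
    intro g x h h'
    have : (⟨_, h'⟩ : ↥(X : Subgroup G)) = x⁻¹ * ⟨_, h⟩ * x := Subtype.ext (by simp [mul_assoc])
    rw [this, map_mul, map_mul, map_inv, mul_comm, mul_inv_cancel_left]
  let good : G ⧸ (X : Subgroup G) → Prop := fun c =>
    ∃ h : c.out⁻¹ * (e : G) * c.out ∈ (X : Subgroup G), ψ ⟨_, h⟩ = ψ e
  have hgood : ∀ g : G, good (QuotientGroup.mk g) ↔
      ∃ h : g⁻¹ * (e : G) * g ∈ (X : Subgroup G), ψ ⟨_, h⟩ = ψ e := by
    intro g
    obtain ⟨x, hx⟩ := QuotientGroup.mk_out_eq_mul (X : Subgroup G) g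
    simp only [good]
    constructor
    · rintro ⟨h, hψ⟩
      simp only [hx] at h hψ
      have h0 : g⁻¹ * (e : G) * g ∈ (X : Subgroup G) := by
        have := (X : Subgroup G).mul_mem ((X : Subgroup G).mul_mem x.2 h) (inv_mem x.2)
        simpa [mul_assoc] using this
      exact ⟨h0, (hval g x h0 h).symm.trans hψ⟩
    · rintro ⟨h, hψ⟩
      have h' : (g * x)⁻¹ * (e : G) * (g * x) ∈ (X : Subgroup G) := by
        have := (X : Subgroup G).mul_mem ((X : Subgroup G).mul_mem (inv_mem x.2) h) x.2
        simpa [mul_assoc] using this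
      refine ⟨by rw [hx]; exact h', ?_⟩
      simp only [hx]
      exact (hval g x h h').trans hψ
  -- `X` acts on the good cosets
  let S : SubMulAction ↥(X : Subgroup G) (G ⧸ (X : Subgroup G)) :=
    { carrier := {c | good c}
      smul_mem' := fun x c hc => by
        induction c using QuotientGroup.induction_on with
        | H g =>
          show good (QuotientGroup.mk ((x : G) * g))
          rw [hgood]
          obtain ⟨h, hψ⟩ := (hgood g).1 hc
          have hxe : (x : G)⁻¹ * e * x = e := by
            have h0 : (x : G) * e = e * x := congrArg Subtype.val (hec x)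
            rw [mul_assoc, ← h0, inv_mul_cancel_left]
          have he' : ((x : G) * g)⁻¹ * (e : G) * ((x : G) * g) = g⁻¹ * (e : G) * g := by
            calc ((x : G) * g)⁻¹ * (e : G) * ((x : G) * g) = g⁻¹ * ((x : G)⁻¹ * e * x) * g := by group
              _ = _ := by rw [hxe]
          refine ⟨he' ▸ h, ?_⟩
          rw [← hψ]
          exact congrArg ψ (Subtype.ext he') }
  have hSodd : Odd (Nat.card S) := by
    have h := X.2.card_modEq_card_fixedPoints S
    have hidx : ¬ 2 ∣ Nat.card (↥(normalizer ((X : Subgroup G) : Set G)) ⧸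
        (X : Subgroup G).subgroupOf (normalizer ((X : Subgroup G) : Set G))) := fun hd =>
      X.not_dvd_index (hd.trans (relIndex_dvd_index_of_le le_normalizer))
    have he' : Nat.card (MulAction.fixedPoints ↥(X : Subgroup G) S) =
        Nat.card (MulAction.fixedPoints ↥(X : Subgroup G) (G ⧸ (X : Subgroup G))) := by
      refine Nat.card_congr
        { toFun := fun c => ⟨(c : S), fun x => congrArg Subtype.val (c.2 x)⟩
          invFun := fun c => ⟨⟨c, ?_⟩, fun x => Subtype.ext (c.2 x)⟩
          left_inv := fun c => rfl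
          right_inv := fun c => rfl }
      obtain ⟨c, hc⟩ := c
      induction c using QuotientGroup.induction_on with
      | H g =>
        have hg : g ∈ normalizer ((X : Subgroup G) : Set G) :=
          (Sylow.mem_fixedPoints_mul_left_cosets_iff_mem_normalizer).1 hc
        have hge : g⁻¹ * (e : G) * g ∈ (X : Subgroup G) := (mem_normalizer_iff''.1 hg _).1 e.2
        exact (hgood g).2 ⟨hge, hN g hg hge⟩
    rw [he', Nat.card_congr (Sylow.fixedPointsMulLeftCosetsEquivQuotient (X : Subgroup G))] at h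
    rw [Nat.odd_iff]
    have h2 : Nat.card S % 2 = _ % 2 := h
    rw [h2]
    exact Nat.two_dvd_ne_zero.1 hidx
  -- the transfer of `e`
  rw [show V (e : G) = _ from MonoidHom.transfer_eq_prod_quotient_orbitRel_zpowers_quot ψ (e : G)]
  set T := fun q : MulAction.orbitRel.Quotient (zpowers (e : G)) (G ⧸ (X : Subgroup G)) => good q.out ∧
    Function.minimalPeriod ((e : G) • ·) q.out = 1
  have hper : ∀ c : G ⧸ (X : Subgroup G), Function.minimalPeriod ((e : G) • ·) c = 1 ↔
      c.out⁻¹ * (e : G) * c.out ∈ (X : Subgroup G) := by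
    intro c
    rw [Function.minimalPeriod_eq_one_iff_isFixedPt]
    show (e : G) • c = c ↔ _
    conv_lhs => rw [← QuotientGroup.out_eq' c]
    show (QuotientGroup.mk ((e : G) * c.out) : G ⧸ (X : Subgroup G)) = QuotientGroup.mk c.out ↔ _
    rw [eq_comm, QuotientGroup.eq, mul_assoc]
  rw [← Finset.prod_filter_mul_prod_filter_not Finset.univ T]
  rw [Finset.prod_eq_one (s := Finset.univ.filter fun q => ¬ T q)]
  swap
  · intro q hq
    simp only [Finset.mem_filter, Finset.mem_univ, true_and] at hq
    set c := q.out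
    by_cases h1 : Function.minimalPeriod ((e : G) • ·) c = 1
    · have hm := (hper c).1 h1
      -- a value which is not `ψ e` is trivial
      have hh : ψ ⟨_, hm⟩ ≠ ψ e := fun h => hq ⟨⟨hm, h⟩, h1⟩
      have h2 := hsq ⟨_, hm⟩ (Subtype.ext (by
        show c.out⁻¹ * (e : G) * c.out * (c.out⁻¹ * (e : G) * c.out) = 1
        calc _ = c.out⁻¹ * ((e : G) * e) * c.out := by group
          _ = 1 := by rw [heG, mul_one, inv_mul_cancel]))
      simp only [h1, pow_one]
      rw [← map_mul] at h2
      rcases hu (ψ ⟨_, hm⟩) (by rw [← map_mul]; exact h2) with h3 | h3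
      · exact h3
      · exact absurd h3 hh
    · have h2 : Function.minimalPeriod ((e : G) • ·) c = 2 := by
        have hd : Function.IsPeriodicPt ((e : G) • ·) 2 c := by
          show (e : G) • ((e : G) • c) = c
          rw [smul_smul, heG, one_smul]
        exact ((Nat.dvd_prime Nat.prime_two).1 hd.minimalPeriod_dvd).resolve_left h1
      rw [show (⟨_, _⟩ : ↥(X : Subgroup G)) = 1 from Subtype.ext (by
        show c.out⁻¹ * (e : G) ^ Function.minimalPeriod ((e : G) • ·) c * c.out = 1
        rw [h2, pow_two, heG, mul_one, inv_mul_cancel]), map_one]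
  rw [mul_one, Finset.prod_eq_pow_card (b := ψ e)]
  swap
  · intro q hq
    simp only [Finset.mem_filter, Finset.mem_univ, true_and] at hq
    obtain ⟨⟨hm, hψ⟩, h1⟩ := hq
    refine Eq.trans (congrArg ψ (Subtype.ext ?_)) hψ
    show _ * (e : G) ^ _ * _ = _
    rw [h1, pow_one]
  have hcard : (Finset.univ.filter T).card = Nat.card S := by
    rw [← Fintype.card_subtype, ← Nat.card_eq_fintype_card]
    refine Nat.card_congr
      { toFun := fun q => ⟨q.1.out, q.2.1⟩
        invFun := fun c => ⟨Quotient.mk'' (c : G ⧸ (X : Subgroup G)), ?_⟩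
        left_inv := fun q => Subtype.ext q.1.out_eq'
        right_inv := fun c => Subtype.ext ?_ }
    · have hfix := (Function.minimalPeriod_eq_one_iff_isFixedPt).1 ((hper _).2 c.2.1)
      obtain ⟨⟨y, i, hy⟩, hyc⟩ := Quotient.exact (Quotient.out_eq
        (Quotient.mk'' (c : G ⧸ (X : Subgroup G)) :
          MulAction.orbitRel.Quotient (zpowers (e : G)) (G ⧸ (X : Subgroup G))))
      have hc : (Quotient.mk'' (c : G ⧸ (X : Subgroup G)) :
          MulAction.orbitRel.Quotient (zpowers (e : G)) (G ⧸ (X : Subgroup G))).out = (c : G ⧸ (X : Subgroup G)) := by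
        rw [← hyc]
        show y • (c : G ⧸ (X : Subgroup G)) = _
        rw [← hy]
        exact MulAction.zpow_smul_eq_iff_minimalPeriod_dvd.2 (by rw [(hper _).2 c.2.1]; exact one_dvd _)
      exact ⟨by rw [hc]; exact c.2, by rw [hc]; exact (hper _).2 c.2.1⟩
    · have hfix := (Function.minimalPeriod_eq_one_iff_isFixedPt).1 ((hper _).2 c.2.1)
      obtain ⟨⟨y, i, hy⟩, hyc⟩ := Quotient.exact (Quotient.out_eq
        (Quotient.mk'' (c : G ⧸ (X : Subgroup G)) :
          MulAction.orbitRel.Quotient (zpowers (e : G)) (G ⧸ (X : Subgroup G))))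
      show (Quotient.mk'' _ : MulAction.orbitRel.Quotient _ _).out = _
      rw [← hyc]
      show y • (c : G ⧸ (X : Subgroup G)) = _
      rw [← hy]
      exact MulAction.zpow_smul_eq_iff_minimalPeriod_dvd.2 (by rw [(hper _).2 c.2.1]; exact one_dvd _)
  rw [hcard]
  obtain ⟨m, hm⟩ := hSodd
  rw [hm, pow_succ, pow_mul, pow_two, hsq e he, one_pow, one_mul]
  exact hne

section Matrix

variable {F : Type*} [Field F]

/-- Elements commuting with a non-scalar `2 × 2` matrix are polynomials of degree one in it. -/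
theorem exists_add_smul {a b : Matrix (Fin 2) (Fin 2) F} (ha : ∀ s : F, a ≠ s • 1)
    (h : a * b = b * a) : ∃ s t : F, b = s • 1 + t • a := by
  have e00 := congrFun (congrFun h 0) 0
  have e01 := congrFun (congrFun h 0) 1
  have e10 := congrFun (congrFun h 1) 0
  simp only [Matrix.mul_apply, Fin.sum_univ_two] at e00 e01 e10
  by_cases h01 : a 0 1 = 0
  · by_cases h10 : a 1 0 = 0
    · have hd : a 0 0 - a 1 1 ≠ 0 := fun hd => ha (a 0 0) (Matrix.ext fun i j => by
        fin_cases i <;> fin_cases j <;> simp [h01, h10, (sub_eq_zero.1 hd)])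
      refine ⟨b 0 0 - (b 0 0 - b 1 1) / (a 0 0 - a 1 1) * a 0 0, (b 0 0 - b 1 1) / (a 0 0 - a 1 1), ?_⟩
      ext i j
      fin_cases i <;> fin_cases j <;> simp [h01, h10]
      · simp only [h01, h10] at e01
        exact (mul_left_cancel₀ hd (by linear_combination e01) : b 0 1 = 0)
      · simp only [h01, h10] at e10
        exact (mul_left_cancel₀ hd (by linear_combination -e10) : b 1 0 = 0)
      · field_simp
        ring
    · refine ⟨b 0 0 - b 1 0 / a 1 0 * a 0 0, b 1 0 / a 1 0, ?_⟩
      ext i j
      fin_cases i <;> fin_cases j <;> simp [h01]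
      · rw [h01] at e00
        exact (mul_right_cancel₀ h10 (by linear_combination (-1 : F) * e00) : b 0 1 = 0)
      · field_simp
      · field_simp
        linear_combination -e10
  · refine ⟨b 0 0 - b 0 1 / a 0 1 * a 0 0, b 0 1 / a 0 1, ?_⟩
    ext i j
    fin_cases i <;> fin_cases j <;> simp
    · field_simp
    · field_simp
      linear_combination e00
    · field_simp
      linear_combination e01

/-- A non-scalar involution has determinant `-1`. -/
theorem det_eq_neg_one {a : Matrix (Fin 2) (Fin 2) F} (ha : ∀ s : F, a ≠ s • 1) (h2 : a * a = 1) :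
    a.det = -1 := by
  have e00 := congrFun (congrFun h2 0) 0
  have e01 := congrFun (congrFun h2 0) 1
  have e10 := congrFun (congrFun h2 1) 0
  have e11 := congrFun (congrFun h2 1) 1
  simp [Matrix.mul_apply, Fin.sum_univ_two] at e00 e01 e10 e11
  rw [Matrix.det_fin_two]
  by_cases hs : a 0 0 + a 1 1 = 0
  · linear_combination (-1 : F) * e00 + a 0 0 * hs
  · have h01 : a 0 1 = 0 := (mul_left_cancel₀ hs (by linear_combination e01) : a 0 1 = 0)
    have h10 : a 1 0 = 0 := (mul_left_cancel₀ hs (by linear_combination e10) : a 1 0 = 0)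
    rw [h01, h10] at e00 e11
    simp at e00 e11
    have : (a 0 0 + a 1 1) * (a 0 0 - a 1 1) = 0 := by linear_combination e00 - e11
    have hd := (mul_eq_zero.1 this).resolve_left hs
    exact absurd (Matrix.ext fun i j => by
      fin_cases i <;> fin_cases j <;> simp [h01, h10, sub_eq_zero.1 hd]) (ha (a 0 0))

theorem scalar_sq {s : F} (h : (s • (1 : Matrix (Fin 2) (Fin 2) F)) * (s • 1) = 1) : s = 1 ∨ s = -1 := by
  have := congrFun (congrFun h 0) 0
  simp at this
  exact mul_self_eq_one_iff.1 this

end Matrix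

/-- The involutions in the part `2 + 1` decomposition. -/
theorem main {G : Type*} [Group G] [Finite G] (hG : ∀ H : Subgroup G, H.index ≠ 2) (X : Sylow 2 G)
    {F : Type*} [Field F] [Fintype F] (hF : Odd (Fintype.card F))
    (f : ↥(X : Subgroup G) →* GL (Fin 3) F) (hf : Function.Injective f)
    (E : Subgroup G) (hE : E ≤ (X : Subgroup G)) (hEa : Cfsg.IsElementaryAbelian 2 E) (hE8 : Nat.card E = 8) :
    IsMulCommutative (X : Subgroup G) := by
  classical
  haveI : Fact (Nat.Prime 2) := ⟨Nat.prime_two⟩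
  have h20 : (2 : F) ≠ 0 := fun h0 => by
    have hc : ringChar F = 2 := by
      refine ((Nat.prime_dvd_prime_iff_eq ?_ Nat.prime_two).1 (ringChar.dvd (by exact_mod_cast h0)))
      exact CharP.char_is_prime F _
    have h1 := (FiniteField.even_card_iff_char_two (F := F)).1 hc
    rw [Nat.odd_iff] at hF
    omega
  by_contra hnc
  -- a fixed line
  set ρ : ↥(X : Subgroup G) →* ((Fin 3 → F) →ₗ[F] (Fin 3 → F)) :=
    { toFun := fun x => Matrix.toLin' (f x : Matrix (Fin 3) (Fin 3) F)
      map_one' := by rw [map_one, Units.val_one, Matrix.toLin'_one]; rfl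
      map_mul' := fun x y => by rw [map_mul, Units.val_mul, Matrix.toLin'_mul]; rfl } with hρ
  have hρm : ∀ x y w, ρ (x * y) w = ρ x (ρ y w) := fun x y w => by rw [map_mul]; rfl
  have hρinj : ∀ x, (∀ w, ρ x w = w) → x = 1 := fun x hx => hf (by
    rw [map_one]
    refine Units.ext (Matrix.toLin'.injective (LinearMap.ext fun w => ?_))
    rw [Units.val_one, Matrix.toLin'_one]
    exact hx w)
  obtain ⟨v, hv, χ₀, hχ₀⟩ : ∃ v : Fin 3 → F, v ≠ 0 ∧ ∃ χ : ↥(X : Subgroup G) → F, ∀ x, ρ x v = χ x • v := by
    letI : DistribMulAction ↥(X : Subgroup G) (Fin 3 → F) :=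
      { smul := fun x w => ρ x w
        one_smul := fun w => by show ρ 1 w = w; rw [map_one]; rfl
        mul_smul := fun x y w => hρm x y w
        smul_zero := fun x => map_zero (ρ x)
        smul_add := fun x a b => map_add (ρ x) a b }
    haveI : SMulCommClass ↥(X : Subgroup G) F (Fin 3 → F) := ⟨fun x c w => map_smul (ρ x) c w⟩
    haveI : Finite (Fin 3 → F) := inferInstance
    obtain ⟨q, hq⟩ := X.2.nonempty_fixed_point_of_prime_not_dvd_card
      (Projectivization F (Fin 3 → F)) (by
        rw [Projectivization.card_of_finrank F (Fin 3 → F) (n := 3) (by simp)]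
        simp only [Finset.sum_range_succ, Finset.sum_range_zero, Nat.card_eq_fintype_card]
        rw [Nat.odd_iff] at hF
        simp [Nat.dvd_iff_mod_eq_zero, Nat.add_mod, Nat.mul_mod, Nat.pow_mod, hF])
    refine ⟨q.rep, q.rep_nonzero, ?_⟩
    have : ∀ x : ↥(X : Subgroup G), ∃ c : F, ρ x q.rep = c • q.rep := fun x => by
      have h := hq x
      rw [← q.mk_rep, Projectivization.smul_mk, Projectivization.mk_eq_mk_iff'] at h
      obtain ⟨c, hc⟩ := h
      exact ⟨c, hc.symm⟩
    choose c hc using this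
    exact ⟨c, hc⟩
  have hsmul : ∀ {a b : F}, a • v = b • v → a = b := fun h => smul_left_injective F hv h
  let χ : ↥(X : Subgroup G) →* F :=
    { toFun := χ₀
      map_one' := hsmul (by rw [← hχ₀, map_one, one_smul]; rfl)
      map_mul' := fun x y => hsmul (by rw [← hχ₀, hρm, hχ₀ y, map_smul, hχ₀ x, smul_smul, mul_comm]) }
  have hχ : ∀ x, ρ x v = χ x • v := hχ₀
  have hχne : ∀ x, χ x ≠ 0 := fun x h => by
    have : χ (x⁻¹ * x) = 0 := by rw [map_mul, h, mul_zero]
    rw [inv_mul_cancel, map_one] at this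
    exact one_ne_zero this
  -- the averaged functional
  obtain ⟨i, hi⟩ := Function.ne_iff.1 hv
  rw [Pi.zero_apply] at hi
  letI := Fintype.ofFinite ↥(X : Subgroup G)
  have hXcard : (Fintype.card ↥(X : Subgroup G) : F) ≠ 0 := by
    obtain ⟨k, hk⟩ := IsPGroup.iff_card.1 X.2
    rw [← Nat.card_eq_fintype_card, hk, Nat.cast_pow]
    exact pow_ne_zero _ (by exact_mod_cast h20)
  let φ : (Fin 3 → F) →ₗ[F] F := (Fintype.card ↥(X : Subgroup G) : F)⁻¹ •
    ∑ x : ↥(X : Subgroup G), (χ x * (v i)⁻¹) • ((LinearMap.proj i).comp (ρ x⁻¹))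
  have hφ : ∀ w, φ w = (Fintype.card ↥(X : Subgroup G) : F)⁻¹ *
      ∑ x : ↥(X : Subgroup G), χ x * (v i)⁻¹ * ρ x⁻¹ w i := fun w => by
    simp [φ, LinearMap.sum_apply]
  have hφv : φ v = 1 := by
    rw [hφ, Finset.sum_congr rfl (fun x _ => (?_ : _ = (1 : F))), Finset.sum_const, Finset.card_univ,
      nsmul_eq_mul, mul_one, inv_mul_cancel₀ hXcard]
    have : χ x * χ x⁻¹ = 1 := by rw [← map_mul, mul_inv_cancel, map_one]
    rw [hχ, Pi.smul_apply, smul_eq_mul]
    field_simp
    exact this
  have hφρ : ∀ y w, φ (ρ y w) = χ y * φ w := fun y w => by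
    rw [hφ, hφ, mul_left_comm, Finset.mul_sum (a := χ y)]
    congr 1
    refine Fintype.sum_equiv (Equiv.mulLeft y⁻¹) _ _ fun x => ?_
    simp only [Equiv.coe_mulLeft]
    rw [← hρm, map_mul χ, mul_inv_rev, inv_inv]
    have he : χ y * χ y⁻¹ = 1 := by rw [← map_mul, mul_inv_cancel, map_one]
    linear_combination (-(χ x * (v i)⁻¹ * ρ (x⁻¹ * y) w i)) * he
  set H : Submodule F (Fin 3 → F) := LinearMap.ker φ with hH
  have hHfin : Module.finrank F H = 2 := by
    have h := LinearMap.finrank_range_add_finrank_ker φ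
    rw [LinearMap.range_eq_top.2 (fun c => ⟨c • v, by rw [map_smul, hφv, smul_eq_mul, mul_one]⟩),
      finrank_top, Module.finrank_self, Module.finrank_pi, Fintype.card_fin] at h
    rw [hH]
    omega
  let b := Module.finBasisOfFinrankEq F H hHfin
  have hstab : ∀ x, ∀ w ∈ H, ρ x w ∈ H := fun x w hw => by
    rw [hH, LinearMap.mem_ker] at hw ⊢
    rw [hφρ, hw, mul_zero]
  let ρH : ↥(X : Subgroup G) →* (H →ₗ[F] H) :=
    { toFun := fun x => (ρ x).restrict (hstab x)
      map_one' := LinearMap.ext fun w => Subtype.ext (by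
        show ρ 1 (w : Fin 3 → F) = w
        rw [map_one]; rfl)
      map_mul' := fun x y => LinearMap.ext fun w => Subtype.ext (hρm x y w) }
  let A : ↥(X : Subgroup G) →* Matrix (Fin 2) (Fin 2) F :=
    { toFun := fun x => LinearMap.toMatrix b b (ρH x)
      map_one' := by rw [map_one]; exact LinearMap.toMatrix_one b
      map_mul' := fun x y => by rw [map_mul]; exact LinearMap.toMatrix_mul b _ _ }
  have hinj : ∀ x, A x = 1 → χ x = 1 → x = 1 := fun x hA hx => hρinj x fun w => by
    have h1 : ρH x = 1 := (LinearMap.toMatrix b b).injective (hA.trans (LinearMap.toMatrix_one b).symm)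
    have hwH : w - φ w • v ∈ H := by rw [hH, LinearMap.mem_ker, map_sub, map_smul, hφv, smul_eq_mul, mul_one, sub_self]
    have h2 : ρ x (w - φ w • v) = w - φ w • v := congrArg (fun L : H →ₗ[F] H => ((L ⟨_, hwH⟩ : H) : Fin 3 → F)) h1
    rw [map_sub, map_smul, hχ, hx, one_smul] at h2
    exact sub_left_inj.1 h2
  have hcent : ∀ c, (∀ x, A x * A c = A c * A x) → ∀ x, x * c = c * x := fun c hc x => by
    refine (commutatorElement_eq_one_iff_mul_comm.1 (hinj _ ?_ ?_))
    · have hAi : ∀ y, A y * A y⁻¹ = 1 := fun y => by rw [← map_mul, mul_inv_cancel, map_one]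
      rw [commutatorElement_def, map_mul, map_mul, map_mul, hc x, mul_assoc (A c), hAi, mul_one, hAi]
    · have hχi : ∀ y, χ y * χ y⁻¹ = 1 := fun y => by rw [← map_mul, mul_inv_cancel, map_one]
      rw [commutatorElement_def, map_mul, map_mul, map_mul]
      linear_combination χ c * χ c⁻¹ * hχi x + hχi c
  -- non-scalar elements of `A(X)` are not central
  have hscal : ∀ c, (∀ x, x * c = c * x) → ∃ s : F, A c = s • 1 := fun c hc => by
    by_contra hns
    push Not at hns
    refine hnc ⟨⟨fun x y => hcent y (fun z => ?_) x⟩⟩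
    obtain ⟨s, t, hy⟩ := exists_add_smul hns (show A c * A y = A y * A c by
      rw [← map_mul, ← map_mul, hc y])
    rw [hy, mul_add, add_mul, mul_smul_comm, mul_smul_comm, smul_mul_assoc, smul_mul_assoc, mul_one,
      one_mul, ← map_mul, ← map_mul, hc z]
  have hneg1 : (-1 : F) ≠ 1 := fun h => h20 (by linear_combination -h)
  -- the involution `e`
  obtain ⟨e, he2, heA, heχ⟩ : ∃ e : ↥(X : Subgroup G), e * e = 1 ∧ A e = 1 ∧ χ e = -1 := by
    by_contra hcon
    have hEsq : ∀ u : ↥E, (⟨u, hE u.2⟩ : ↥(X : Subgroup G)) * ⟨u, hE u.2⟩ = 1 := fun u =>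
      Subtype.ext (by show (u : G) * u = 1; rw [← pow_two]; exact hEa.2 _ u.2)
    let ι : ↥E → ↥(X : Subgroup G) := fun u => ⟨u, hE u.2⟩
    have hιinj : Function.Injective (fun u => A (ι u)) := fun u u' h => by
      have hm : A (ι (u⁻¹ * u')) = 1 := by
        show A ((ι u)⁻¹ * ι u') = 1
        rw [map_mul]
        change A (ι u) = A (ι u') at h
        rw [← h, ← map_mul, inv_mul_cancel, map_one]
      have hχ2 : χ (ι (u⁻¹ * u')) * χ (ι (u⁻¹ * u')) = 1 := by rw [← map_mul, hEsq, map_one]
      rcases mul_self_eq_one_iff.1 hχ2 with h1 | h1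
      · exact inv_mul_eq_one.1 (Subtype.ext ((congrArg Subtype.val (hinj _ hm h1) :) :))
      · exact absurd ⟨_, hEsq _, hm, h1⟩ hcon
    have hsq : ∀ u, A (ι u) * A (ι u) = 1 := fun u => by rw [← map_mul, hEsq, map_one]
    obtain ⟨u₀, hu₀⟩ : ∃ u₀ : ↥E, ∀ u : ↥E, A (ι u) ∈
        ({1, -1, A (ι u₀), -A (ι u₀)} : Finset (Matrix (Fin 2) (Fin 2) F)) := by
      by_cases hall : ∀ u, ∃ s : F, A (ι u) = s • 1
      · refine ⟨1, fun u => ?_⟩
        obtain ⟨s, hs⟩ := hall u
        have h := hsq u
        rw [hs] at h ⊢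
        rcases scalar_sq h with rfl | rfl <;> simp
      push Not at hall
      obtain ⟨u₀, hu₀⟩ := hall
      refine ⟨u₀, fun u => ?_⟩
      obtain ⟨s, t, hu⟩ := exists_add_smul hu₀ (show A (ι u₀) * A (ι u) = A (ι u) * A (ι u₀) by
        rw [← map_mul, ← map_mul]
        exact congrArg A (Subtype.ext (congrArg Subtype.val (hEa.1.is_comm.comm u₀ u) :)))
      have h := hsq u
      rw [hu] at h ⊢
      have h' : (s * s + t * t) • (1 : Matrix (Fin 2) (Fin 2) F) + (2 * s * t) • A (ι u₀) = 1 := by
        conv_rhs => rw [← h, mul_add, add_mul, add_mul]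
        simp only [smul_mul_assoc, mul_smul_comm, mul_one, one_mul, smul_smul, hsq u₀]
        rw [add_smul, show 2 * s * t = s * t + t * s by ring, add_smul]
        abel
      by_cases hst : 2 * s * t = 0
      · rw [hst, zero_smul, add_zero] at h'
        have hsum : s * s + t * t = 1 := by
          have := congrFun (congrFun h' 0) 0
          simpa using this
        rcases mul_eq_zero.1 hst with h0 | rfl
        · have hs0 : s = 0 := (mul_eq_zero.1 h0).resolve_left h20
          subst hs0
          rcases mul_self_eq_one_iff.1 (show t * t = 1 by linear_combination hsum) with rfl | rfl <;> simp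
        · rcases mul_self_eq_one_iff.1 (show s * s = 1 by linear_combination hsum) with rfl | rfl <;> simp
      · exfalso
        refine hu₀ ((1 - (s * s + t * t)) / (2 * s * t)) ?_
        have h'' : (2 * s * t) • A (ι u₀) = (1 - (s * s + t * t)) • (1 : Matrix (Fin 2) (Fin 2) F) := by
          rw [sub_smul, one_smul, eq_sub_iff_add_eq, add_comm]; exact h'
        rw [div_eq_inv_mul, ← smul_smul, ← h'', inv_smul_smul₀ hst]
    have h := Nat.card_le_card_of_injective (fun u => (⟨A (ι u), hu₀ u⟩ :
      {m // m ∈ ({1, -1, A (ι u₀), -A (ι u₀)} : Finset (Matrix (Fin 2) (Fin 2) F))}))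
      (fun a b h => hιinj (congrArg Subtype.val h))
    rw [Nat.card_eq_finsetCard, hE8] at h
    have := h.trans Finset.card_le_four
    omega
  have hec : ∀ x, x * e = e * x := hcent e fun x => by rw [heA, mul_one, one_mul]
  -- the involution of the commutator subgroup
  have hder : ∀ d ∈ commutator ↥(X : Subgroup G), (A d).det = 1 ∧ χ d = 1 := by
    intro d hd
    rw [commutator_eq_closure] at hd
    induction hd using Subgroup.closure_induction with
    | mem d hd =>
      obtain ⟨a, c, rfl⟩ := hd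
      have hAi : ∀ y, (A y).det * (A y⁻¹).det = 1 := fun y => by
        rw [← Matrix.det_mul, ← map_mul, mul_inv_cancel, map_one, Matrix.det_one]
      have hχi : ∀ y, χ y * χ y⁻¹ = 1 := fun y => by rw [← map_mul, mul_inv_cancel, map_one]
      simp only [commutatorElement_def, map_mul, Matrix.det_mul]
      exact ⟨by linear_combination (A c).det * (A c⁻¹).det * hAi a + hAi c,
        by linear_combination χ c * χ c⁻¹ * hχi a + hχi c⟩
    | one => simp
    | mul a c _ _ ha hc => simp [map_mul, Matrix.det_mul, ha.1, ha.2, hc.1, hc.2]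
    | inv a _ ha =>
      have h1 : (A a).det * (A a⁻¹).det = 1 ∧ χ a * χ a⁻¹ = 1 := by
        rw [← Matrix.det_mul, ← map_mul, ← map_mul, mul_inv_cancel]; simp
      rw [ha.1, ha.2, one_mul, one_mul] at h1
      exact h1
  have hz : ∀ d ∈ commutator ↥(X : Subgroup G), d * d = 1 → d ≠ 1 → A d = -1 ∧ χ d = 1 := by
    intro d hd hd2 hd1
    obtain ⟨hdet, hχd⟩ := hder d hd
    refine ⟨?_, hχd⟩
    have hsq : A d * A d = 1 := by rw [← map_mul, hd2, map_one]
    by_cases hs : ∃ s : F, A d = s • 1
    · obtain ⟨s, hs⟩ := hs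
      rw [hs] at hsq
      rcases scalar_sq hsq with rfl | rfl
      · exact absurd (hinj d (by rw [hs, one_smul]) hχd) hd1
      · rw [hs]; simp
    · push Not at hs
      rw [det_eq_neg_one hs hsq] at hdet
      exact absurd hdet hneg1
  obtain ⟨z, hzX, hz2, hz1⟩ : ∃ z ∈ commutator ↥(X : Subgroup G), z * z = 1 ∧ z ≠ 1 := by
    obtain ⟨k, hk⟩ := IsPGroup.iff_card.1 (X.2.to_subgroup (commutator ↥(X : Subgroup G)))
    have hk0 : k ≠ 0 := fun h => hnc ⟨⟨fun x y => commutatorElement_eq_one_iff_mul_comm.1 (by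
      have : ⁅x, y⁆ ∈ commutator ↥(X : Subgroup G) := commutator_mem_commutator (mem_top x) (mem_top y)
      rwa [(card_eq_one.1 (by rw [hk, h, pow_zero]) : commutator ↥(X : Subgroup G) = ⊥), mem_bot] at this)⟩⟩
    obtain ⟨z, hz⟩ := exists_prime_orderOf_dvd_card' 2 (by rw [hk]; exact dvd_pow_self 2 hk0)
    refine ⟨z, z.2, ?_, fun h => ?_⟩
    · have h2 := pow_orderOf_eq_one z
      rw [hz] at h2
      exact congrArg Subtype.val ((pow_two z).symm.trans h2)
    · rw [(Subtype.ext h : z = 1), orderOf_one] at hz; norm_num at hz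
  -- the character
  let χu : ↥(X : Subgroup G) →* Fˣ := χ.toHomUnits
  have hval : ∀ x, ((χu.rangeRestrict x : Fˣ) : F) = χ x := fun x => rfl
  obtain ⟨H', hH'⟩ := exists_index_two X (A := ↥χu.range) (X.2.of_surjective _ χu.rangeRestrict_surjective)
    χu.rangeRestrict e he2 hec
    (fun h => hneg1 (by rw [← heχ, ← hval, h]; rfl))
    (fun a ha => by
      rcases mul_self_eq_one_iff.1 (congrArg (fun w : ↥χu.range => ((w : Fˣ) : F)) ha :) with h | h
      · exact Or.inl (Subtype.ext (Units.ext h))
      · exact Or.inr (Subtype.ext (Units.ext (by rw [hval, heχ]; exact h))))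
    (fun g hg h => by
      set c : ↥(X : Subgroup G) := ⟨g⁻¹ * (e : G) * g, h⟩ with hc
      let θ : ↥(X : Subgroup G) ≃* ↥(X : Subgroup G) := (X : Subgroup G).normalizerMonoidHom ⟨g, hg⟩
      have hθc : θ c = e := Subtype.ext (by
        show g * (g⁻¹ * (e : G) * g) * g⁻¹ = e
        group)
      have hc2 : c * c = 1 := θ.injective (by rw [map_mul, hθc, map_one, he2])
      have hcc : ∀ x, x * c = c * x := fun x => θ.injective (by rw [map_mul, map_mul, hθc, hec])
      refine Subtype.ext (Units.ext ?_)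
      rw [hval, hval, heχ]
      refine (mul_self_eq_one_iff.1 (by rw [← map_mul, hc2, map_one])).resolve_left fun hχc => ?_
      obtain ⟨s, hs⟩ := hscal c hcc
      have hs2 : (s • (1 : Matrix (Fin 2) (Fin 2) F)) * (s • 1) = 1 := by rw [← hs, ← map_mul, hc2, map_one]
      rcases scalar_sq hs2 with rfl | rfl
      · have := hinj c (by rw [hs, one_smul]) hχc
        rw [this, map_one] at hθc
        exact hneg1 (by rw [← heχ, ← hθc, map_one])
      · have hcz : c = z := by
          obtain ⟨hzA, hzχ⟩ := hz z hzX hz2 hz1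
          have := hinj (c * z) (by rw [map_mul, hs, hzA]; simp) (by rw [map_mul, hχc, hzχ, one_mul])
          calc c = c * (z * z) := by rw [hz2, mul_one]
            _ = z := by rw [← mul_assoc, this, one_mul]
        have hmem : e ∈ commutator ↥(X : Subgroup G) := by
          have hd : θ c ∈ (commutator ↥(X : Subgroup G)).map θ.toMonoidHom := mem_map_of_mem _ (hcz ▸ hzX)
          rw [Subgroup.characteristic_iff_map_eq.1 inferInstance θ, hθc] at hd
          exact hd
        exact hneg1 (by rw [← heχ, (hder e hmem).2]))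
  exact hG H' hH'

/-- Let G be a finite group with no subgroup of index 2 whose Sylow 2-subgroup X embeds in GL₃(F) for a finite field F of odd order. If X contains an elementary abelian subgroup of order 8, then X is abelian. -/
theorem result {G : Type*} [Group G] [Finite G] (hG : ∀ H : Subgroup G, H.index ≠ 2) (X : Sylow 2 G)
    {F : Type*} [Field F] [Fintype F] (hF : Odd (Fintype.card F))
    (f : ↥(X : Subgroup G) →* GL (Fin 3) F) (hf : Function.Injective f)
    (E : Subgroup G) (hE : E ≤ (X : Subgroup G)) (hEa : Cfsg.IsElementaryAbelian 2 E) (hE8 : Nat.card E = 8) :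
    IsMulCommutative (X : Subgroup G) := by
  exact main hG X hF f hf E hE hEa hE8

end Cfsg.Agent.S1906
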