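import Cfsg.Statements.S1910
import Cfsg.Agent.Lib.Sig.TightPair

set_option autoImplicit false
open Cfsg

namespace Cfsg.Agent.S1910

/-- Let Q be a tightly embedded subgroup of a finite group G, g an element outside N_G(Q), T a nontrivial Sylow 2-subgroup of Q^g ∩ N_G(Q), and S a Sylow 2-subgroup of QT containing T. Then T ∩ Q = 1, and N_S(T) is the direct product of T and N_S(T) ∩ Q, with N_S(T) ∩ Q isomorphic to T. -/
theorem result {G : Type*} [Group G] [Finite G] (Q : Subgroup G) (hQ : Cfsg.IsTightlyEmbedded Q)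
    (g : G) (hg : g ∉ Subgroup.normalizer (Q : Set G))
    (T : Subgroup G) (hT1 : T ≠ ⊥) (hT : T ≤ Q.map (MulAut.conj g).toMonoidHom ⊓ Subgroup.normalizer (Q : Set G))
    (hTsyl : IsPGroup 2 T ∧ ¬ 2 ∣ T.relIndex (Q.map (MulAut.conj g).toMonoidHom ⊓ Subgroup.normalizer (Q : Set G)))
    (S : Subgroup G) (hTS : T ≤ S) (hS : S ≤ Q ⊔ T) (hSsyl : IsPGroup 2 S ∧ ¬ 2 ∣ S.relIndex (Q ⊔ T)) :
    T ⊓ Q = ⊥ ∧
      T ⊓ (S ⊓ Subgroup.normalizer (T : Set G) ⊓ Q) = ⊥ ∧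
      ⁅T, S ⊓ Subgroup.normalizer (T : Set G) ⊓ Q⁆ = ⊥ ∧
      T ⊔ (S ⊓ Subgroup.normalizer (T : Set G) ⊓ Q) = S ⊓ Subgroup.normalizer (T : Set G) ∧
      Nonempty (↥(S ⊓ Subgroup.normalizer (T : Set G) ⊓ Q) ≃* T) := by
    classical
    obtain ⟨hdisj, hcomm, hsup, hN, hle, hiso⟩ := Cfsg.Lib.Sig.TightPair.key hQ hg hT1 (hT.trans inf_le_left)
      (hT.trans inf_le_right) hTsyl.1 hTS hS hSsyl.1 hSsyl.2
    set R := S ⊓ Subgroup.normalizer (T : Set G) ⊓ Q with hR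
    have hR1 : R ≠ ⊥ := by
      intro h
      rw [h, Subgroup.card_bot] at hle
      exact hT1 (Subgroup.eq_bot_of_card_le _ hle)
    have hge := Cfsg.Lib.Sig.TightPair.card_le hQ hg hTsyl.1 hTsyl.2 hT
      (hSsyl.1.to_le (inf_le_left.trans inf_le_left : R ≤ S)) hR1 inf_le_right hN
    refine ⟨hdisj, ?_, hcomm, hsup, hiso (le_antisymm hle hge)⟩
    exact eq_bot_iff.mpr ((inf_le_inf_left _ inf_le_right).trans hdisj.le)

end Cfsg.Agent.S1910
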