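import Cfsg.Statements.S1915
import Cfsg.Agent.Lib.SemisimpleRank.FourAction
import Cfsg.Agent.Lib.Core.Layer

set_option autoImplicit false
open Cfsg

namespace Cfsg.Agent.S1915

/-- Let A be a semisimple subgroup (A = E(A)) of a finite group and U a Klein four-group normalizing A. If the subgroup of A generated by the normalizers N_A(V) of the nontrivial subgroups V of U has 2-rank exactly 1, then A has 2-rank exactly 1. -/
theorem result {G : Type*} [Group G] [Finite G] (A : Subgroup G) (hA : Cfsg.layer ↥A = ⊤)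
    (U : Subgroup G) (hU : IsKleinFour U) (hUA : U ≤ Subgroup.normalizer (A : Set G))
    (hΓ : Cfsg.PRankLE 2 1 ↥(⨆ V : {V : Subgroup G // V ≤ U ∧ V ≠ ⊥}, A ⊓ Subgroup.normalizer ((V : Subgroup G) : Set G)) ∧
      ¬ Cfsg.PRankLE 2 0 ↥(⨆ V : {V : Subgroup G // V ≤ U ∧ V ≠ ⊥}, A ⊓ Subgroup.normalizer ((V : Subgroup G) : Set G))) :
    Cfsg.PRankLE 2 1 A ∧ ¬ Cfsg.PRankLE 2 0 A := by
  classical
  have hperf : (⊤ : Subgroup ↥A) = ⁅(⊤ : Subgroup ↥A), (⊤ : Subgroup ↥A)⁆ := by
    rw [← hA]; exact Cfsg.Lib.Core.layer_perfect.symm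
  set Γ : Subgroup G := ⨆ V : {V : Subgroup G // V ≤ U ∧ V ≠ ⊥}, A ⊓ Subgroup.normalizer ((V : Subgroup G) : Set G)
  have hΓA : Γ ≤ A := iSup_le fun _ => inf_le_left
  refine ⟨?_, fun h0 => hΓ.2 fun B hB hB2 => ?_⟩
  swap
  · have hinj := Subgroup.inclusion_injective hΓA
    have := h0 (B.map (Subgroup.inclusion hΓA)) ⟨⟨by
      rintro ⟨_, ⟨x, hx, rfl⟩⟩ ⟨_, ⟨y, hy, rfl⟩⟩
      exact Subtype.ext (by
        show Subgroup.inclusion hΓA x * Subgroup.inclusion hΓA y = Subgroup.inclusion hΓA y * Subgroup.inclusion hΓA x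
        rw [← map_mul, ← map_mul]
        exact congrArg _ (congrArg Subtype.val (hB.is_comm.comm ⟨x, hx⟩ ⟨y, hy⟩)))⟩⟩ (by
      rintro _ ⟨x, hx, rfl⟩
      rw [← map_pow, hB2 x hx, map_one])
    rwa [Subgroup.card_map_of_injective hinj] at this
  intro B hB hB2
  rw [pow_one]
  by_contra hcard
  haveI := Fintype.ofFinite B
  rw [Nat.card_eq_fintype_card] at hcard
  obtain ⟨p, q, r, hpq, hpr, hqr⟩ := Fintype.two_lt_card_iff.mp (not_le.mp hcard)
  obtain ⟨a, b, ha1, hb1, hab⟩ : ∃ a b : B, a ≠ 1 ∧ b ≠ 1 ∧ a ≠ b := by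
    by_cases h : p = 1
    · exact ⟨q, r, fun e => hpq (h.trans e.symm), fun e => hpr (h.trans e.symm), hqr⟩
    by_cases h' : q = 1
    · exact ⟨p, r, h, fun e => hqr (h'.trans e.symm), hpr⟩
    exact ⟨p, q, h, h', hpq⟩
  have sq2 : ∀ x : B, (((x : A) : G)) * ((x : A) : G) = 1 := fun x => by
    have := congrArg Subtype.val (hB2 x x.2)
    simpa [sq] using this
  set N := Subgroup.normalizer (A : Set G)
  have hAN : A ≤ N := Subgroup.le_normalizer
  have hUN : U ≤ N := hUA
  haveI : (A.subgroupOf N).Normal := Subgroup.normal_in_normalizer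
  haveI := hU
  haveI : Finite U := IsKleinFour.instFinite
  haveI := Fintype.ofFinite U
  obtain ⟨p', q', r', hpq', hpr', hqr'⟩ := Fintype.two_lt_card_iff.mp (show 2 < Fintype.card U by
    rw [← Nat.card_eq_fintype_card, IsKleinFour.card_four]; norm_num)
  obtain ⟨u₁, u₂, h₁, h₂, h12⟩ : ∃ a b : U, a ≠ 1 ∧ b ≠ 1 ∧ a ≠ b := by
    by_cases h : p' = 1
    · exact ⟨q', r', fun e => hpq' (h.trans e.symm), fun e => hpr' (h.trans e.symm), hqr'⟩
    by_cases h' : q' = 1
    · exact ⟨p', r', h, fun e => hqr' (h'.trans e.symm), hpr'⟩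
    exact ⟨p', q', h, h', hpq'⟩
  have usq : ∀ u : U, (u : G) * u = 1 := fun u => congrArg Subtype.val (IsKleinFour.mul_self u)
  refine hab ?_
  have key := Cfsg.Lib.SemisimpleRank.four_action (A.subgroupOf N) (U.subgroupOf N) ?_ ?_
    (u₁ := ⟨u₁, hUN u₁.2⟩) (u₂ := ⟨u₂, hUN u₂.2⟩) u₁.2 u₂.2 (Subtype.ext (usq u₁)) (Subtype.ext (usq u₂))
    (fun h => h₁ (Subtype.ext (congrArg Subtype.val h :))) (fun h => h₂ (Subtype.ext (congrArg Subtype.val h :)))
    (fun h => h12 (Subtype.ext (congrArg Subtype.val h :)))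
    (Subtype.ext (show (u₁ : G) * u₂ = u₂ * u₁ from
      congrArg Subtype.val ((IsKleinFour.isMulCommutative (G := U)).is_comm.comm u₁ u₂)))
    ?_ (a := ⟨((a : A) : G), hAN a.1.2⟩) (b := ⟨((b : A) : G), hAN b.1.2⟩) a.1.2 b.1.2
    (Subtype.ext (sq2 a)) (Subtype.ext (sq2 b))
    (fun h => ha1 (Subtype.ext (Subtype.ext (congrArg Subtype.val h :))))
    (fun h => hb1 (Subtype.ext (Subtype.ext (congrArg Subtype.val h :))))
    (Subtype.ext (congrArg (fun t : A => (t : G)) (congrArg Subtype.val (hB.is_comm.comm a b))))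
  · exact Subtype.ext (Subtype.ext (congrArg Subtype.val key :))
  · -- perfect
    intro x hx
    have hmap : (⊤ : Subgroup ↥A).map (Subgroup.inclusion hAN) = A.subgroupOf N := by
      refine le_antisymm ?_ ?_
      · rintro _ ⟨t, -, rfl⟩; exact t.2
      · intro t ht; exact ⟨⟨t, ht⟩, trivial, rfl⟩
    rw [← hmap] at hx ⊢
    rwa [← Subgroup.map_commutator, ← hperf]
  · refine IsPGroup.iff_orderOf.2 fun x => ?_
    have hx : x ^ 2 = 1 := Subtype.ext (Subtype.ext (by
      show ((x : N) : G) ^ 2 = 1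
      rw [sq]; exact usq ⟨_, x.2⟩))
    obtain ⟨k, -, hk⟩ := (Nat.dvd_prime_pow Nat.prime_two).1
      (show orderOf x ∣ 2 ^ 1 from orderOf_dvd_of_pow_eq_one (by rw [pow_one]; exact hx))
    exact ⟨k, hk⟩
  · intro u hu hu1 _ x hx y hy hx2 hy2 hx1 hy1 hxy hux huy
    by_contra hne
    have hV : Subgroup.zpowers (u : G) ≤ U ∧ Subgroup.zpowers (u : G) ≠ ⊥ :=
      ⟨Subgroup.zpowers_le.2 hu, fun h => hu1 (Subtype.ext (by simpa using h))⟩
    have memΓ : ∀ t : N, (t : G) ∈ A → u * t = t * u → (t : G) ∈ Γ := fun t ht htu =>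
      Subgroup.mem_iSup_of_mem ⟨_, hV⟩ ⟨ht, Subgroup.centralizer_le_normalizer _ (Subgroup.mem_centralizer_iff.2
        fun z hz => by
          obtain ⟨k, rfl⟩ := Subgroup.mem_zpowers_iff.1 hz
          exact ((show Commute (u : G) t from congrArg Subtype.val htu).zpow_left k).eq)⟩
    let x' : Γ := ⟨x, memΓ x hx hux⟩
    let y' : Γ := ⟨y, memΓ y hy huy⟩
    have hx'2 : x' ^ 2 = 1 := Subtype.ext (by
      show ((x : N) : G) ^ 2 = 1
      rw [sq]; exact congrArg Subtype.val hx2)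
    have hy'2 : y' ^ 2 = 1 := Subtype.ext (by
      show ((y : N) : G) ^ 2 = 1
      rw [sq]; exact congrArg Subtype.val hy2)
    have hxy' : Commute x' y' := Subtype.ext (show ((x : N) : G) * y = y * x from congrArg Subtype.val hxy)
    have hE : ∀ e ∈ Subgroup.closure ({x', y'} : Set Γ), e ^ 2 = 1 ∧ e ∈ Subgroup.centralizer ({x', y'} : Set Γ) := by
      intro e he
      induction he using Subgroup.closure_induction with
      | mem t ht =>
        refine ⟨?_, Subgroup.mem_centralizer_iff.2 fun z hz => ?_⟩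
        · rcases ht with rfl | rfl
          exacts [hx'2, hy'2]
        · rcases hz with rfl | rfl <;> rcases ht with rfl | rfl
          exacts [rfl, hxy'.eq, hxy'.eq.symm, rfl]
      | one => exact ⟨one_pow 2, one_mem _⟩
      | mul t t' ht ht' iht iht' =>
        refine ⟨?_, mul_mem iht.2 iht'.2⟩
        have hc : Commute t t' := (Subgroup.mem_centralizer_iff.1
          (Subgroup.closure_le (K := Subgroup.centralizer ({t'} : Set Γ)) |>.2 (fun z hz =>
            Subgroup.mem_centralizer_singleton_iff.2 (Subgroup.mem_centralizer_iff.1 iht'.2 z hz)) ht)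
          t' rfl).symm
        rw [hc.mul_pow, iht.1, iht'.1, one_mul]
      | inv t ht iht => exact ⟨by rw [inv_pow, iht.1, inv_one], inv_mem iht.2⟩
    set E := Subgroup.closure ({x', y'} : Set Γ)
    have hEc : IsMulCommutative E := Subgroup.le_centralizer_iff_isMulCommutative.1 fun t ht =>
      Subgroup.mem_centralizer_iff.2 fun z hz => ((Subgroup.mem_centralizer_iff.1
          (Subgroup.closure_le (K := Subgroup.centralizer ({t} : Set Γ)) |>.2 (fun w hw =>
            Subgroup.mem_centralizer_singleton_iff.2 (Subgroup.mem_centralizer_iff.1 (hE t ht).2 w hw)) hz)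
          t rfl).symm)
    have hle := hΓ.1 E hEc fun e he => (hE e he).1
    rw [pow_one] at hle
    haveI := Fintype.ofFinite E
    rw [Nat.card_eq_fintype_card] at hle
    refine absurd (Fintype.two_lt_card_iff.2 ⟨(1 : E), ⟨x', Subgroup.subset_closure (Or.inl rfl)⟩,
      ⟨y', Subgroup.subset_closure (Or.inr rfl)⟩, ?_, ?_, ?_⟩) (not_lt.2 hle)
    · exact fun h => hx1 (Subtype.ext (congrArg Subtype.val (congrArg Subtype.val h) :).symm)
    · exact fun h => hy1 (Subtype.ext (congrArg Subtype.val (congrArg Subtype.val h) :).symm)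
    · exact fun h => hne (Subtype.ext (congrArg Subtype.val (congrArg Subtype.val h) :))

end Cfsg.Agent.S1915
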