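import Cfsg.Statements.S1921
import Cfsg.Agent.Lib.Core.Layer

set_option autoImplicit false
open Cfsg

namespace Cfsg.Agent.S1921

/-- Let a be an involution of a finite group H and L a component of H with a L a⁻¹ ≠ L; put M = ⟨L, aLa⁻¹⟩ and let J be the subgroup generated by the elements x · a x a⁻¹ with x ∈ L (the diagonal). Then every element of M outside J·Z(M) generates M together with J. -/
theorem result {H : Type*} [Group H] [Finite H] (a : H) (ha : orderOf a = 2) (L : Subgroup H) (hL : Cfsg.IsComponent L)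
    (hLa : L.map (MulAut.conj a).toMonoidHom ≠ L) (x : H) (hxM : x ∈ L ⊔ L.map (MulAut.conj a).toMonoidHom)
    (hxJ : x ∉ Subgroup.closure {y : H | ∃ l ∈ L, y = l * (a * l * a⁻¹)} ⊔
      ((L ⊔ L.map (MulAut.conj a).toMonoidHom) ⊓ Subgroup.centralizer ((L ⊔ L.map (MulAut.conj a).toMonoidHom : Subgroup H) : Set H))) :
    Subgroup.closure {y : H | ∃ l ∈ L, y = l * (a * l * a⁻¹)} ⊔ Subgroup.zpowers x = L ⊔ L.map (MulAut.conj a).toMonoidHom := by
  classical
  set La := L.map (MulAut.conj a).toMonoidHom with hLa'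
  set J := Subgroup.closure {y : H | ∃ l ∈ L, y = l * (a * l * a⁻¹)} with hJ
  set S := J ⊔ Subgroup.zpowers x with hS
  have hcomm : ∀ u ∈ L, ∀ v ∈ La, u * v = v * u := fun u hu v hv =>
    (Subgroup.mem_centralizer_iff.1 ((Subgroup.commutator_eq_bot_iff_le_centralizer.1
      (Cfsg.Lib.Core.component_commute hL (Cfsg.Lib.Core.IsComponent.map_conj hL a) (Ne.symm hLa))) hu) v hv).symm
  have hLaN : La ≤ Subgroup.normalizer (L : Set H) := fun v hv => by
    refine Subgroup.centralizer_le_normalizer (L : Set H) ?_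
    exact Subgroup.mem_centralizer_iff.2 fun u hu => hcomm u hu v hv
  obtain ⟨w, hw, l, hl, hwl⟩ := (Cfsg.Lib.Core.mem_sup_of_le_normalizer hLaN).1
    (show x ∈ La ⊔ L by rwa [sup_comm])
  obtain ⟨m, hm, rfl⟩ := hw
  have hwl' : a * m * a⁻¹ * l = x := hwl
  set d := l * m⁻¹ with hd
  have hmJ : m * (a * m * a⁻¹) ∈ J := Subgroup.subset_closure ⟨m, hm, rfl⟩
  have hxe : x = d * (m * (a * m * a⁻¹)) := by
    rw [← hwl', ← hcomm l hl (a * m * a⁻¹) ⟨m, hm, rfl⟩, hd]
    group
  have hdS : d ∈ S := by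
    have : x * (m * (a * m * a⁻¹))⁻¹ ∈ S :=
      mul_mem (Subgroup.mem_sup_right (Subgroup.mem_zpowers x)) (inv_mem (Subgroup.mem_sup_left hmJ))
    rwa [hxe, mul_inv_cancel_right] at this
  have hdL : d ∈ L := mul_mem hl (inv_mem hm)
  haveI : (S.subgroupOf L).Normal := by
    refine ⟨fun u hu k => Subgroup.mem_subgroupOf.2 ?_⟩
    have hk : (k : H) * (a * (k : H) * a⁻¹) ∈ S := Subgroup.mem_sup_left (Subgroup.subset_closure ⟨k, k.2, rfl⟩)
    have h := mul_mem (mul_mem hk (Subgroup.mem_subgroupOf.1 hu)) (inv_mem hk)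
    have hc : (a * (k : H) * a⁻¹) * (u : H) * (a * (k : H) * a⁻¹)⁻¹ = u := by
      rw [← hcomm u u.2 (a * (k : H) * a⁻¹) ⟨k, k.2, rfl⟩, mul_inv_cancel_right]
    have e : (k : H) * (a * (k : H) * a⁻¹) * (u : H) * ((k : H) * (a * (k : H) * a⁻¹))⁻¹ =
        (k : H) * ((a * (k : H) * a⁻¹) * (u : H) * (a * (k : H) * a⁻¹)⁻¹) * (k : H)⁻¹ := by group
    rw [e, hc] at h
    exact h
  have hLS : L ≤ S := by
    rcases Cfsg.Lib.Core.quasisimple_normal hL.2 (N := S.subgroupOf L) with h | h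
    · exfalso
      apply hxJ
      have hdZ : d ∈ Subgroup.centralizer ((L ⊔ La : Subgroup H) : Set H) := by
        have hle : L ⊔ La ≤ Subgroup.centralizer ({d} : Set H) := sup_le
          (fun u hu => Subgroup.mem_centralizer_singleton_iff.2 (congrArg Subtype.val
            (Subgroup.mem_center_iff.1 (h (Subgroup.mem_subgroupOf.2 (show ((⟨d, hdL⟩ : ↥L) : H) ∈ S from hdS))) ⟨u, hu⟩)))
          (fun v hv => Subgroup.mem_centralizer_singleton_iff.2 (hcomm d hdL v hv).symm)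
        exact Subgroup.mem_centralizer_iff.2 fun u hu => Subgroup.mem_centralizer_singleton_iff.1 (hle hu)
      rw [hxe]
      exact mul_mem (Subgroup.mem_sup_right ⟨Subgroup.mem_sup_left hdL, hdZ⟩) (Subgroup.mem_sup_left hmJ)
    · exact Subgroup.subgroupOf_eq_top.1 h
  refine le_antisymm (sup_le ((Subgroup.closure_le _).2 ?_) (Subgroup.zpowers_le.2 hxM)) (sup_le hLS ?_)
  · rintro _ ⟨u, hu, rfl⟩
    exact mul_mem (Subgroup.mem_sup_left hu) (Subgroup.mem_sup_right ⟨u, hu, rfl⟩)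
  · rintro _ ⟨u, hu, rfl⟩
    have h := mul_mem (inv_mem (hLS hu))
      (Subgroup.mem_sup_left (T := Subgroup.zpowers x) (Subgroup.subset_closure ⟨u, hu, rfl⟩ : u * (a * u * a⁻¹) ∈ J))
    rw [inv_mul_cancel_left] at h
    exact h

end Cfsg.Agent.S1921
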