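import Cfsg.Statements.S1922
import Cfsg.Agent.Lib.Core.Basic
import Cfsg.Agent.Lib.Core.Smul
import Mathlib.GroupTheory.Perm.Cycle.Type
-- import your own Cfsg.Agent.* helpers here

set_option autoImplicit false
open Cfsg

namespace Cfsg.Agent.S1922

variable {G : Type*} [Group G] [Finite G]

open MulAction in
theorem odd_card_fixing {H : Subgroup G} (z : G) (hz : orderOf z = 2)
    (hu : ∀ x : G, IsConj z x → ∀ a b : G ⧸ H, x • a = a → x • b = b → a = b)
    (h1 : ∀ x y : G, IsConj z x → IsConj z y → x ≠ y → x * y = y * x →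
      ∀ a b : G ⧸ H, (x * y) • a = a → (x * y) • b = b → a = b)
    {x : G} (hx : IsConj z x) {a b : G ⧸ H} (hxa : x • a = a) (hab : a ≠ b) :
    ¬ 2 ∣ Nat.card {y : G // IsConj z y ∧ y • b = b} := by
  classical
  have hsq : ∀ y : G, IsConj z y → y * y = 1 := by
    intro y hy
    obtain ⟨c, rfl⟩ := isConj_iff.mp hy
    have hzz : z * z = 1 := by rw [← pow_two, ← hz, pow_orderOf_eq_one]
    calc c * z * c⁻¹ * (c * z * c⁻¹) = c * (z * z) * c⁻¹ := by group
      _ = 1 := by rw [hzz]; group
  have hinv : ∀ y : G, IsConj z y → y⁻¹ = y := fun y hy => inv_eq_of_mul_eq_one_right (hsq y hy)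
  have hconjK : ∀ (y c : G), IsConj z y → IsConj z (c * y * c⁻¹) := fun y c hy =>
    hy.trans (isConj_iff.mpr ⟨c, rfl⟩)
  -- two conjugates of `z` fixing different points have a product of odd order
  have hodd : ∀ y w : G, IsConj z y → IsConj z w → ∀ c d : G ⧸ H, y • c = c → w • d = d → c ≠ d →
      Odd (orderOf (y * w)) := by
    intro y w hy hw c d hyc hwd hcd
    by_contra hev
    obtain ⟨m, hm⟩ := even_iff_two_dvd.mp (Nat.not_odd_iff_even.mp hev)
    set e := y * w with he
    set i := e ^ m with hi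
    have hm0 : 0 < m := by have := orderOf_pos e; omega
    have hi1 : i ≠ 1 := pow_ne_one_of_lt_orderOf hm0.ne' (by omega)
    have hii : i⁻¹ = i := by
      refine inv_eq_of_mul_eq_one_right ?_
      rw [hi, ← pow_add, ← two_mul, ← hm, pow_orderOf_eq_one]
    have hye : y * e * y⁻¹ = e⁻¹ := by
      rw [he, mul_inv_rev y w, hinv y hy, hinv w hw, ← mul_assoc y y w, hsq y hy, one_mul]
    have hwe : w * e * w⁻¹ = e⁻¹ := by
      rw [he, mul_inv_rev y w, hinv y hy, hinv w hw, mul_assoc w (y * w) w, mul_assoc y w w, hsq w hw,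
        mul_one]
    have hyi : y * i = i * y := by
      have h := congrArg (· ^ m) hye
      simp only [conj_pow, inv_pow] at h
      rw [← hi, hii] at h
      calc y * i = y * i * y⁻¹ * y := by group
        _ = i * y := by rw [h]
    have hwi : w * i = i * w := by
      have h := congrArg (· ^ m) hwe
      simp only [conj_pow, inv_pow] at h
      rw [← hi, hii] at h
      calc w * i = w * i * w⁻¹ * w := by group
        _ = i * w := by rw [h]
    have hyiK : IsConj z (y * i) := by
      have hs : ∀ n : ℕ, y * e ^ n = (e ^ n)⁻¹ * y := by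
        intro n
        have h := congrArg (· ^ n) hye
        simp only [conj_pow, inv_pow] at h
        rw [← h]; group
      rcases Nat.even_or_odd' m with ⟨j, hj | hj⟩
      · have : y * i = (e ^ j)⁻¹ * y * (e ^ j)⁻¹⁻¹ := by
          rw [inv_inv, ← hs, hi, hj, two_mul, pow_add, mul_assoc]
        rw [this]; exact hconjK y _ hy
      · have : y * i = (e ^ j)⁻¹ * w * (e ^ j)⁻¹⁻¹ := by
          have hw' : w = y * e := by rw [he, ← mul_assoc, hsq y hy, one_mul]
          rw [inv_inv, hw', ← mul_assoc, ← hs, hi, hj, mul_assoc, mul_assoc, ← pow_succ', ← pow_add]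
          congr 2
          omega
        rw [this]; exact hconjK w _ hw
    have hne : y ≠ y * i := fun h => hi1 (mul_left_cancel (a := y) (by rw [← h, mul_one]))
    have hprod : y * (y * i) = i := by rw [← mul_assoc, hsq y hy, one_mul]
    have hcomm : y * (y * i) = y * i * y := by rw [mul_assoc y i y, ← hyi]
    have hic : i • c = c := hu y hy _ _ (by rw [← mul_smul, hyi, mul_smul, hyc]) hyc
    have hid : i • d = d := hu w hw _ _ (by rw [← mul_smul, hwi, mul_smul, hwd]) hwd
    exact hcd (h1 y (y * i) hy hyiK hne hcomm c d (by rw [hprod]; exact hic) (by rw [hprod]; exact hid))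
  have hxb : x • b ≠ b := fun h => hab (hu x hx _ _ hxa h)
  let R := {r : G // IsConj z r ∧ r • a = b}
  have hswap : ∀ r : R, (r : G) • b = a := fun r => by
    calc (r : G) • b = (r : G) • ((r : G) • a) := by rw [r.2.2]
      _ = a := by rw [← mul_smul, hsq _ r.2.1, one_smul]
  -- the elements moving `a` to `b` correspond to the conjugates fixing `b`
  let f : R → {y : G // IsConj z y ∧ y • b = b} := fun r =>
    ⟨(r : G) * x * (r : G)⁻¹, hconjK x _ hx, by
      rw [hinv _ r.2.1, mul_smul, mul_smul, hswap r, hxa, r.2.2]⟩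
  have hxr : ∀ r : R, Odd (orderOf (x * r)) := by
    intro r
    obtain ⟨c, hc⟩ : ∃ c : G ⧸ H, (r : G) • c = c ∧ c ≠ a := by
      obtain ⟨g, hg⟩ := isConj_iff.mp r.2.1
      obtain ⟨g', hg'⟩ := isConj_iff.mp hx
      refine ⟨(g * g'⁻¹) • a, ?_, fun h => ?_⟩
      · rw [← mul_smul, show (r : G) * (g * g'⁻¹) = g * g'⁻¹ * x by rw [← hg, ← hg']; group, mul_smul, hxa]
      · have h2 : (r : G) • a = a := by
          calc (r : G) • a = (r : G) • ((g * g'⁻¹) • a) := by rw [h]
            _ = a := by rw [← mul_smul, show (r : G) * (g * g'⁻¹) = g * g'⁻¹ * x by rw [← hg, ← hg']; group, mul_smul, hxa, h]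
        exact hab (h2.symm.trans r.2.2)
    exact hodd x r hx r.2.1 a c hxa hc.1 (Ne.symm hc.2)
  have hfinj : Function.Injective f := by
    intro r s hrs
    have h : (r : G) * x * (r : G)⁻¹ = (s : G) * x * (s : G)⁻¹ := congrArg Subtype.val hrs
    rw [hinv _ r.2.1, hinv _ s.2.1] at h
    have h2 : (x * (r : G)) ^ 2 = (x * (s : G)) ^ 2 := by
      calc (x * (r : G)) ^ 2 = x * ((r : G) * x * r) := by rw [pow_two]; group
        _ = x * ((s : G) * x * s) := by rw [h]
        _ = _ := by rw [pow_two]; group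
    obtain ⟨i, hi⟩ := hxr r
    obtain ⟨j, hj⟩ := hxr s
    have hi1 : (x * (r : G)) ^ (2 * i + 1) = 1 := by rw [← hi, pow_orderOf_eq_one]
    have hj1 : (x * (s : G)) ^ (2 * j + 1) = 1 := by rw [← hj, pow_orderOf_eq_one]
    -- common exponent
    set N := (2 * i + 1) * (2 * j + 1) with hN
    obtain ⟨l, hl⟩ : ∃ l, N = 2 * l + 1 := ⟨2 * i * j + i + j, by rw [hN]; ring⟩
    have hA : x * (r : G) = ((x * (r : G)) ^ 2) ^ (l + 1) := by
      rw [← pow_mul, show 2 * (l + 1) = N + 1 by omega, pow_succ, hN, pow_mul, hi1, one_pow, one_mul]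
    have hB : x * (s : G) = ((x * (s : G)) ^ 2) ^ (l + 1) := by
      rw [← pow_mul, show 2 * (l + 1) = N + 1 by omega, pow_succ, hN, mul_comm (2 * i + 1), pow_mul, hj1,
        one_pow, one_mul]
    exact Subtype.ext (mul_left_cancel (a := x) (by rw [hA, hB, h2]))
  have hfsurj : Function.Surjective f := by
    rintro ⟨y, hy, hyb⟩
    set e := x * y with he
    obtain ⟨j, hj⟩ := hodd x y hx hy a b hxa hyb hab
    rw [← he] at hj
    set r := x * e ^ (j + 1) with hr
    have hej : e ^ (2 * j + 2) = e := by rw [pow_succ, ← hj, pow_orderOf_eq_one, one_mul]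
    have hs : ∀ n : ℕ, x * e ^ n = (e ^ n)⁻¹ * x := by
      intro n
      have hxe : x * e * x⁻¹ = e⁻¹ := by
        rw [he, mul_inv_rev x y, hinv x hx, hinv y hy, ← mul_assoc x x y, hsq x hx, one_mul]
      have h := congrArg (· ^ n) hxe
      simp only [conj_pow, inv_pow] at h
      rw [← h]; group
    have hrK : IsConj z r := by
      have h2 : e ^ (j + 1) = e ^ ((j + 1) * (j + 1)) * e ^ ((j + 1) * (j + 1)) := by
        rw [← pow_add, show (j + 1) * (j + 1) + (j + 1) * (j + 1) = (2 * j + 2) * (j + 1) by ring, pow_mul e, hej]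
      have : r = (e ^ ((j + 1) * (j + 1)))⁻¹ * x * (e ^ ((j + 1) * (j + 1)))⁻¹⁻¹ := by
        rw [inv_inv, ← hs, hr, h2, mul_assoc]
      rw [this]; exact hconjK x _ hx
    have hrxr : r * x * r⁻¹ = y := by
      have hy' : y = x * e := by rw [he, ← mul_assoc, hsq x hx, one_mul]
      calc r * x * r⁻¹ = r * x * r := by rw [hinv r hrK]
        _ = x * (e ^ (j + 1) * (x * x) * e ^ (j + 1)) := by rw [hr]; group
        _ = y := by rw [hsq x hx, mul_one, ← pow_add, show j + 1 + (j + 1) = 2 * j + 2 by omega, hej, ← hy']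
    refine ⟨⟨r, hrK, hu y hy _ _ ?_ hyb⟩, Subtype.ext hrxr⟩
    rw [← mul_smul, ← hrxr, inv_mul_cancel_right, mul_smul, hxa]
  rw [← Nat.card_eq_of_bijective f ⟨hfinj, hfsurj⟩]
  -- conjugation by one of them has exactly one fixed point
  obtain ⟨r₀⟩ : Nonempty R := by
    by_cases h : ∃ y : G, IsConj z y ∧ y • b = b
    · obtain ⟨y, hy⟩ := h
      exact ⟨(hfsurj ⟨y, hy⟩).choose⟩
    · exfalso
      obtain ⟨g, hg⟩ := QuotientGroup.mk_surjective a
      obtain ⟨g', hg'⟩ := QuotientGroup.mk_surjective b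
      refine h ⟨(g' * g⁻¹) * x * (g' * g⁻¹)⁻¹, hconjK x _ hx, ?_⟩
      rw [mul_smul, mul_smul]
      have h2 : (g' * g⁻¹)⁻¹ • b = a := by rw [← hg', ← hg, MulAction.Quotient.smul_coe, smul_eq_mul]; group
      rw [h2, hxa, ← h2, smul_inv_smul]
  let σ : R → R := fun r => ⟨(r₀ : G) * r * (r₀ : G)⁻¹, hconjK _ _ r.2.1, by
    rw [hinv _ r₀.2.1, mul_smul, mul_smul, r₀.2.2, hswap r, r₀.2.2]⟩
  have hσ : Function.Involutive σ := fun r => Subtype.ext (by
    show (r₀ : G) * ((r₀ : G) * r * (r₀ : G)⁻¹) * (r₀ : G)⁻¹ = r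
    rw [hinv _ r₀.2.1]
    calc (r₀ : G) * ((r₀ : G) * r * r₀) * r₀ = ((r₀ : G) * r₀) * r * ((r₀ : G) * r₀) := by group
      _ = r := by rw [hsq _ r₀.2.1, one_mul, mul_one])
  haveI : Fintype R := Fintype.ofFinite R
  set π := hσ.toPerm σ with hπ
  have hfix : π.supportᶜ = {r₀} := by
    ext r
    rw [Finset.mem_compl, Equiv.Perm.notMem_support, Finset.mem_singleton]
    show σ r = r ↔ r = r₀
    constructor
    · intro h
      by_contra hne
      have hc : (r₀ : G) * r = r * r₀ := by
        have := congrArg Subtype.val h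
        calc (r₀ : G) * r = ((r₀ : G) * r * (r₀ : G)⁻¹) * r₀ := by group
          _ = r * r₀ := by rw [show (r₀ : G) * r * (r₀ : G)⁻¹ = r from this]
      refine hab (h1 r r₀ r.2.1 r₀.2.1 (fun h' => hne (Subtype.ext h')) hc.symm a b ?_ ?_)
      · rw [mul_smul, r₀.2.2, hswap]
      · rw [mul_smul, hswap, r.2.2]
    · rintro rfl
      exact Subtype.ext (by show (r : G) * r * (r : G)⁻¹ = r; group)
  have hmod := Equiv.Perm.card_compl_support_modEq (p := 2) (n := 1) (σ := π)
    (Equiv.ext fun r => by rw [pow_one, pow_two]; exact hσ r)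
  rw [hfix, Finset.card_singleton] at hmod
  rw [Nat.card_eq_fintype_card]
  intro hd
  have := Nat.modEq_zero_iff_dvd.mpr hd
  exact absurd (hmod.trans this) (by decide)

open MulAction in
theorem core (z : G) (hz : orderOf z = 2) (H : Subgroup G) (hH : H ≠ ⊤)
    (h0 : ∀ g : G, z ∈ H.map (MulAut.conj g).toMonoidHom ↔ g ∈ H) :
    (∀ t : G, IsConj z t → t ≠ z → t * z = z * t → ∀ g : G, z * t ∈ H.map (MulAut.conj g).toMonoidHom ↔ g ∈ H) ↔
      ((∃ P : Sylow 2 G, z ∈ (Subgroup.center ↥(P : Subgroup G)).map (P : Subgroup G).subtype) ∧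
        ∀ t : G, IsConj z t → t ≠ z → t * z = z * t → Subgroup.centralizer ({z * t} : Set G) ≤ H) := by
  classical
  haveI : Fact (Nat.Prime 2) := ⟨Nat.prime_two⟩
  set α : G ⧸ H := QuotientGroup.mk 1 with hα
  have hfix : ∀ (y g : G), y • (QuotientGroup.mk g : G ⧸ H) = QuotientGroup.mk g ↔
      y ∈ H.map (MulAut.conj g).toMonoidHom := by
    intro y g
    rw [Cfsg.Lib.Core.mem_map_conj, MulAction.Quotient.smul_coe, smul_eq_mul, eq_comm, QuotientGroup.eq, mul_assoc]
  have hmkα : ∀ g : G, (QuotientGroup.mk g : G ⧸ H) = α ↔ g ∈ H := by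
    intro g
    rw [eq_comm, hα, QuotientGroup.eq, inv_one, one_mul]
  have hz1 : ∀ w : G ⧸ H, z • w = w ↔ w = α := by
    intro w
    obtain ⟨g, rfl⟩ := QuotientGroup.mk_surjective w
    rw [hfix, h0, hmkα]
  have hzH : z ∈ H := by
    have := (h0 1).mpr H.one_mem
    simpa [Cfsg.Lib.Core.mem_map_conj] using this
  have hu : ∀ x : G, IsConj z x → ∀ a b : G ⧸ H, x • a = a → x • b = b → a = b := by
    intro x hx a b ha hb
    obtain ⟨c, rfl⟩ := isConj_iff.mp hx
    rw [mul_smul, mul_smul, smul_eq_iff_eq_inv_smul] at ha hb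
    exact smul_left_cancel c⁻¹ (((hz1 _).mp ha).trans ((hz1 _).mp hb).symm)
  have hCz : ∀ c : G, c * z = z * c → c ∈ H := by
    intro c hc
    have h : z • (c • α) = c • α := by rw [← mul_smul, ← hc, mul_smul, (hz1 α).mpr rfl]
    have h2 := (hz1 _).mp h
    rw [hα, MulAction.Quotient.smul_coe, smul_eq_mul, mul_one] at h2
    exact (hmkα c).mp h2
  constructor
  · intro h1
    have h1' : ∀ x y : G, IsConj z x → IsConj z y → x ≠ y → x * y = y * x →
        ∀ a b : G ⧸ H, (x * y) • a = a → (x * y) • b = b → a = b := by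
      intro x y hx hy hne hc a b ha hb
      obtain ⟨c, rfl⟩ := isConj_iff.mp hx
      set t := c⁻¹ * y * c with ht
      have hyt : y = c * t * c⁻¹ := by rw [ht]; group
      have hzt : ∀ w : G ⧸ H, (c * z * c⁻¹ * y) • w = w → c⁻¹ • w = α := by
        intro w hw
        have hw' : (z * t) • (c⁻¹ • w) = c⁻¹ • w := by
          rw [← mul_smul, show z * t * c⁻¹ = c⁻¹ * (c * z * c⁻¹ * y) by rw [ht]; group, mul_smul, hw]
        obtain ⟨g, hg⟩ := QuotientGroup.mk_surjective (c⁻¹ • w)
        rw [← hg] at hw' ⊢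
        refine (hmkα g).mpr ((h1 t ?_ ?_ ?_ g).mp ((hfix _ _).mp hw'))
        · exact hy.trans (isConj_iff.mpr ⟨c⁻¹, by rw [ht]; group⟩)
        · exact fun he => hne (by rw [hyt, he])
        · rw [hyt] at hc
          calc t * z = c⁻¹ * (c * t * c⁻¹ * (c * z * c⁻¹)) * c := by group
            _ = c⁻¹ * (c * z * c⁻¹ * (c * t * c⁻¹)) * c := by rw [hc]
            _ = z * t := by group
      exact smul_left_cancel c⁻¹ ((hzt a ha).trans (hzt b hb).symm)
    refine ⟨?_, ?_⟩
    · obtain ⟨g₁, hg₁⟩ : ∃ g : G, g ∉ H := by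
        by_contra! h
        exact hH (eq_top_iff.mpr fun g _ => h g)
      set a := g₁ • α with ha
      have hab : a ≠ α := fun h => hg₁ ((hmkα g₁).mp (by rwa [ha, hα, MulAction.Quotient.smul_coe, smul_eq_mul, mul_one] at h))
      have hxa : (g₁ * z * g₁⁻¹) • a = a := by
        rw [ha, ← mul_smul, inv_mul_cancel_right, mul_smul, (hz1 α).mpr rfl]
      have hodd := odd_card_fixing z hz hu h1' (isConj_iff.mpr ⟨g₁, rfl⟩) hxa hab
      -- a Sylow subgroup fixing `α`
      obtain ⟨P⟩ : Nonempty (Sylow 2 G) := inferInstance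
      have hzfix : fixedPoints (Subgroup.zpowers z) (G ⧸ H) = {α} := by
        ext w
        simp only [mem_fixedPoints, Set.mem_singleton_iff]
        refine ⟨fun h => (hz1 w).mp (h ⟨z, Subgroup.mem_zpowers z⟩), fun h m => ?_⟩
        obtain ⟨k, hk⟩ := Subgroup.mem_zpowers_iff.mp m.2
        show (m : G) • w = w
        rw [← hk]
        exact (stabilizer G w).zpow_mem (mem_stabilizer_iff.mpr ((hz1 w).mpr h)) k
      have hz2 : IsPGroup 2 (Subgroup.zpowers z) := IsPGroup.of_card (n := 1) (by rw [Nat.card_zpowers, hz, pow_one])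
      have hn : ¬ 2 ∣ Nat.card (G ⧸ H) := by
        intro hd
        have := hz2.card_modEq_card_fixedPoints (G ⧸ H)
        rw [hzfix, Nat.card_coe_set_eq, Set.ncard_singleton] at this
        exact absurd ((Nat.modEq_zero_iff_dvd.mpr hd).symm.trans this) (by decide)
      obtain ⟨w, hw⟩ := P.2.nonempty_fixed_point_of_prime_not_dvd_card (G ⧸ H) hn
      obtain ⟨g, hg⟩ := QuotientGroup.mk_surjective w
      have hgα : g • α = w := by rw [hα, MulAction.Quotient.smul_coe, smul_eq_mul, mul_one, hg]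
      let K := {y : G // IsConj z y ∧ y • α = α}
      letI : MulAction (P : Subgroup G) K :=
        { smul := fun m y => ⟨g⁻¹ * m * g * y * (g⁻¹ * m * g)⁻¹, y.2.1.trans (isConj_iff.mpr ⟨_, rfl⟩), by
            have hm : (g⁻¹ * (m : G) * g) • α = α := by
              rw [mul_smul, mul_smul, hgα, show (m : G) • w = w from hw m, ← hgα, inv_smul_smul]
            rw [mul_smul, mul_smul, show (g⁻¹ * (m : G) * g)⁻¹ • α = α from inv_smul_eq_iff.mpr hm.symm, y.2.2, hm]⟩
          one_smul := fun y => Subtype.ext (by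
            show g⁻¹ * ((1 : (P : Subgroup G)) : G) * g * y * (g⁻¹ * ((1 : (P : Subgroup G)) : G) * g)⁻¹ = y
            rw [Subgroup.coe_one]; group)
          mul_smul := fun m n y => Subtype.ext (by
            show g⁻¹ * ((m * n : (P : Subgroup G)) : G) * g * y * (g⁻¹ * ((m * n : (P : Subgroup G)) : G) * g)⁻¹ =
              g⁻¹ * (m : G) * g * (g⁻¹ * (n : G) * g * y * (g⁻¹ * (n : G) * g)⁻¹) * (g⁻¹ * (m : G) * g)⁻¹
            rw [Subgroup.coe_mul]; group) }
      obtain ⟨y, hy⟩ := P.2.nonempty_fixed_point_of_prime_not_dvd_card K hodd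
      obtain ⟨h, hh⟩ := isConj_iff.mp y.2.1
      refine ⟨(g * h)⁻¹ • P, Cfsg.Lib.Core.mem_center_map_iff.mpr ?_⟩
      set Q : Subgroup G := (((g * h)⁻¹ • P : Sylow 2 G) : Subgroup G) with hQ
      have hcz : ∀ q ∈ Q, q * z = z * q := by
        intro q hq
        rw [hQ, Sylow.coe_subgroup_smul, Cfsg.Lib.Core.mem_conj_smul, inv_inv] at hq
        have h3 := congrArg Subtype.val (hy ⟨_, hq⟩)
        change g⁻¹ * (g * h * q * (g * h)⁻¹) * g * y * (g⁻¹ * (g * h * q * (g * h)⁻¹) * g)⁻¹ = (y : G) at h3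
        rw [← hh] at h3
        calc q * z = h⁻¹ * (g⁻¹ * (g * h * q * (g * h)⁻¹) * g * (h * z * h⁻¹) *
              (g⁻¹ * (g * h * q * (g * h)⁻¹) * g)⁻¹) * h * q := by group
          _ = z * q := by rw [h3]; group
      refine ⟨?_, fun q hq => (hcz q hq).symm⟩
      -- `z` lies in every Sylow subgroup it centralises
      have hle : Q ⊔ Subgroup.zpowers z = Q := by
        haveI : (Subgroup.zpowers z).subgroupOf (Subgroup.centralizer ({z} : Set G)) |>.Normal :=
          ⟨fun a ha b => by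
            rw [Subgroup.mem_subgroupOf] at ha ⊢
            obtain ⟨k, hk⟩ := Subgroup.mem_zpowers_iff.mp ha
            have hb : Commute (b : G) z := Subgroup.mem_centralizer_singleton_iff.mp b.2
            show (b : G) * a * (b : G)⁻¹ ∈ _
            rw [← hk, (hb.zpow_right k).eq, mul_inv_cancel_right, hk]
            exact ha⟩
        have hQn : Q ≤ Subgroup.normalizer ((Subgroup.zpowers z : Subgroup G) : Set G) := fun q hq =>
          Subgroup.centralizer_le_normalizer _ (Subgroup.mem_centralizer_iff.mpr fun m hm => by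
            obtain ⟨k, hk⟩ := Subgroup.mem_zpowers_iff.mp hm
            rw [← hk]
            exact ((show Commute z q from (hcz q hq).symm).zpow_left k).eq)
        exact ((g * h)⁻¹ • P).3 (IsPGroup.to_sup_of_normal_right' ((g * h)⁻¹ • P).2 hz2 hQn) le_sup_left
      exact hle.le (Subgroup.mem_sup_right (Subgroup.mem_zpowers z))
    · intro t ht hne hc c hcc
      have hcc' : c * (z * t) = z * t * c := (Subgroup.mem_centralizer_singleton_iff.mp hcc)
      refine (h1 t ht hne hc c).mp ?_
      rw [Cfsg.Lib.Core.mem_map_conj, show c⁻¹ * (z * t) * c = z * t by rw [mul_assoc c⁻¹, ← hcc', inv_mul_cancel_left]]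
      exact H.mul_mem hzH (hCz t hc)
  · rintro ⟨⟨P, hzP⟩, h2⟩ t ht hne hc g
    obtain ⟨hzP', hzc⟩ := Cfsg.Lib.Core.mem_center_map_iff.mp hzP
    have hPH : (P : Subgroup G) ≤ H := fun q hq => hCz q (hzc q hq).symm
    have htH : t ∈ H := hCz t hc
    constructor
    · intro hv
      rw [Cfsg.Lib.Core.mem_map_conj] at hv
      set v := g⁻¹ * (z * t) * g with hvdef
      have htt : t * t = 1 := by
        obtain ⟨c, rfl⟩ := isConj_iff.mp ht
        have hzz : z * z = 1 := by rw [← pow_two, ← hz, pow_orderOf_eq_one]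
        calc c * z * c⁻¹ * (c * z * c⁻¹) = c * (z * z) * c⁻¹ := by group
          _ = 1 := by rw [hzz]; group
      have hv2 : v ^ 2 = 1 := by
        have hzz : z * z = 1 := by rw [← pow_two, ← hz, pow_orderOf_eq_one]
        calc v ^ 2 = g⁻¹ * (z * (t * z) * t) * g := by rw [pow_two, hvdef]; group
          _ = g⁻¹ * ((z * z) * (t * t)) * g := by rw [hc]; group
          _ = 1 := by rw [hzz, htt]; group
      have hvp : IsPGroup 2 (Subgroup.zpowers (⟨v, hv⟩ : H)) := by
        intro m
        refine ⟨1, Subtype.ext ?_⟩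
        obtain ⟨k, hk⟩ := Subgroup.mem_zpowers_iff.mp m.2
        have h4 : (⟨v, hv⟩ : H) ^ 2 = 1 := Subtype.ext hv2
        rw [pow_one, SubmonoidClass.coe_pow, ← hk, ← zpow_natCast ((⟨v, hv⟩ : H) ^ k), ← zpow_mul, mul_comm k,
          zpow_mul, zpow_natCast, h4, one_zpow]
        rfl
      obtain ⟨Q, hQ⟩ := hvp.exists_le_sylow
      obtain ⟨h, hh⟩ := MulAction.exists_smul_eq H (P.subtype hPH) Q
      have hm : (⟨v, hv⟩ : H) ∈ ((h • P.subtype hPH : Sylow 2 H) : Subgroup H) :=
        hh ▸ hQ (Subgroup.mem_zpowers _)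
      rw [Sylow.coe_subgroup_smul, Cfsg.Lib.Core.mem_conj_smul, Sylow.coe_subtype, Subgroup.mem_subgroupOf] at hm
      -- a conjugate of `z` at the point of `g` commuting with `z * t`
      have hcom : z * ((h : G)⁻¹ * v * h) = (h : G)⁻¹ * v * h * z := hzc _ hm
      set a := g * (h : G) with ha
      have hyv : a * z * a⁻¹ * (z * t) = z * t * (a * z * a⁻¹) := by
        calc a * z * a⁻¹ * (z * t) = a * (z * ((h : G)⁻¹ * v * h)) * a⁻¹ := by rw [ha, hvdef]; group
          _ = z * t * (a * z * a⁻¹) := by rw [hcom, ha, hvdef]; group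
      have hyH : a * z * a⁻¹ ∈ H := h2 t ht hne hc (Subgroup.mem_centralizer_singleton_iff.mpr hyv)
      have h5 : z ∈ H.map (MulAut.conj a⁻¹).toMonoidHom := by
        rw [Cfsg.Lib.Core.mem_map_conj, inv_inv]; exact hyH
      have haH : a ∈ H := by simpa using H.inv_mem ((h0 a⁻¹).mp h5)
      exact (H.mul_mem_cancel_right h.2).mp haH
    · intro hg
      rw [Cfsg.Lib.Core.mem_map_conj]
      exact H.mul_mem (H.mul_mem (H.inv_mem hg) (H.mul_mem hzH htH)) hg


/-- Let z be an involution of a finite group G and H a proper subgroup such that z lies in gHg⁻¹ exactly when g ∈ H. Then the following are equivalent: (1) for every conjugate t ≠ z of z commuting with z, the product zt lies in gHg⁻¹ exactly when g ∈ H; (2) z lies in the centre of some Sylow 2-subgroup of G, and for every conjugate t ≠ z of z commuting with z, the centralizer of zt is contained in H. -/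
theorem result {G : Type*} [Group G] [Finite G] (z : G) (hz : orderOf z = 2) (H : Subgroup G) (hH : H ≠ ⊤)
    (h0 : ∀ g : G, z ∈ H.map (MulAut.conj g).toMonoidHom ↔ g ∈ H) :
    (∀ t : G, IsConj z t → t ≠ z → t * z = z * t → ∀ g : G, z * t ∈ H.map (MulAut.conj g).toMonoidHom ↔ g ∈ H) ↔
      ((∃ P : Sylow 2 G, z ∈ (Subgroup.center ↥(P : Subgroup G)).map (P : Subgroup G).subtype) ∧
        ∀ t : G, IsConj z t → t ≠ z → t * z = z * t → Subgroup.centralizer ({z * t} : Set G) ≤ H) := by
  exact core z hz H hH h0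

end Cfsg.Agent.S1922
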