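import Cfsg.Statements.S1924
import Cfsg.Agent.Lib.Sig.SignTransfer
import Cfsg.Agent.Lib.Core.Smul
-- import your own Cfsg.Agent.* helpers here

set_option autoImplicit false
open Cfsg

namespace Cfsg.Agent.S1924

open Subgroup in
theorem core {G : Type*} [Group G] [Finite G] (L T S D C : Subgroup G) (hL : Cfsg.pResidual 2 ↥L = ⊤)
    (hTL : T ≤ L) (hT2 : IsPGroup 2 T) (hTsyl : ¬ 2 ∣ T.relIndex L)
    (hS2 : IsPGroup 2 S) (hSsyl : ¬ 2 ∣ S.index) (hTS : T ≤ S)
    (hDS : D ≤ S) (hDih : ∃ n : ℕ, 2 ≤ n ∧ Nonempty (↥D ≃* DihedralGroup n)) (hDT : D ⊓ T = ⊥) (hTD : T ⊔ D = S) (hTDc : Nat.card T * Nat.card D = Nat.card S)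
    (hCD : C ≤ D) (hC : IsCyclic ↥C) (hCi : C.relIndex D = 2)
    (h1 : ∀ x ∈ D, x ∉ C → orderOf x = 2 → ∀ g : G, g * x * g⁻¹ ∈ T ⊔ C → False)
    (h2 : ∀ c ∈ C, orderOf c = 2 → ∀ g : G, g * c * g⁻¹ ∈ T → False) :
    ∃ K : Subgroup G, K.Normal ∧ K ⊔ D = ⊤ ∧
      ∀ T' : Subgroup G, T' ≤ L → IsPGroup 2 T' → ¬ 2 ∣ T'.relIndex L → T' ≤ K ∧ ¬ 2 ∣ T'.relIndex K := by
  classical
  haveI : Fact (Nat.Prime 2) := ⟨Nat.prime_two⟩
  have hLhom : ∀ f : L →* ℤˣ, ∀ x : L, f x = 1 := fun f x => by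
    have h : Cfsg.pResidual 2 L ≤ f.ker :=
      (closure_le _).2 fun y hy => Cfsg.Lib.Sig.SignTransfer.hom_eq_one_of_odd f hy
    exact h (hL ▸ mem_top x)
  -- elements of `D` outside `C` are involutions
  have hinv : ∀ x ∈ D, x ∉ C → orderOf x = 2 := by
    intro x hxD hxC
    refine orderOf_eq_prime ?_ fun e => hxC (e ▸ one_mem C)
    obtain ⟨n, hn, ⟨e⟩⟩ := hDih
    haveI : NeZero n := ⟨by omega⟩
    have hcardC : Nat.card C = n := by
      have h := Cfsg.Lib.Core.card_mul_relIndex hCD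
      rw [hCi, Nat.card_congr e.toEquiv, DihedralGroup.nat_card] at h
      omega
    obtain ⟨g, hg⟩ := hC.exists_generator
    have hgo : orderOf (g : G) = n := by rw [orderOf_coe, orderOf_eq_card_of_forall_mem_zpowers hg, hcardC]
    set g' : DihedralGroup n := e ⟨g, hCD g.2⟩ with hg'
    have hg'o : orderOf g' = n := by rw [hg', e.orderOf_eq, Subgroup.orderOf_mk, hgo]
    rcases hval : g' with r | r
    · rcases hxe : e ⟨x, hxD⟩ with i | i
      · -- `x` would lie in `C`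
        exfalso
        refine hxC ?_
        have hgen : zpowers g' = zpowers (DihedralGroup.r 1 : DihedralGroup n) := by
          refine eq_of_le_of_card_ge (zpowers_le.2 ?_) (by rw [Nat.card_zpowers, Nat.card_zpowers, hg'o, DihedralGroup.orderOf_r_one])
          exact ⟨(r.val : ℤ), by simp [hval, DihedralGroup.r_one_pow]⟩
        have hmem : e ⟨x, hxD⟩ ∈ zpowers g' := by
          rw [hgen]; exact ⟨(i.val : ℤ), by simp [hxe, DihedralGroup.r_one_pow]⟩
        obtain ⟨k, hk⟩ := mem_zpowers_iff.1 hmem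
        rw [hg', ← map_zpow] at hk
        have h4 := congrArg Subtype.val (e.injective hk)
        simp only [SubgroupClass.coe_zpow] at h4
        exact h4 ▸ C.zpow_mem g.2 k
      · have h3 : e ⟨x, hxD⟩ ^ 2 = 1 := by rw [hxe, pow_two, DihedralGroup.sr_mul_self]
        have h4 : (⟨x, hxD⟩ : D) ^ 2 = 1 := e.injective (by rw [map_pow, h3, map_one])
        exact congrArg Subtype.val h4
    · have hn2 : n = 2 := by rw [← hg'o, hval, DihedralGroup.orderOf_sr]
      have h3 : e ⟨x, hxD⟩ ^ 2 = 1 := by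
        subst hn2
        rcases e ⟨x, hxD⟩ with i | i
        · rw [pow_two, DihedralGroup.r_mul_r, DihedralGroup.one_def]
          congr 1
          revert i; decide
        · rw [pow_two, DihedralGroup.sr_mul_self]
      have h4 : (⟨x, hxD⟩ : D) ^ 2 = 1 := e.injective (by rw [map_pow, h3, map_one])
      exact congrArg Subtype.val h4
  obtain ⟨x, hxD, hxC⟩ : ∃ x ∈ D, x ∉ C := by
    by_contra! h
    rw [relIndex_eq_one.2 h] at hCi
    exact absurd hCi (by norm_num)
  set M := T ⊔ C with hM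
  have hMS : M ≤ S := sup_le hTS (hCD.trans hDS)
  have hxM : x ∉ M := fun h => h1 x hxD hxC (hinv x hxD hxC) 1 (by simpa using h)
  have hCc : Nat.card D = Nat.card C * 2 := by rw [← hCi]; exact (Cfsg.Lib.Core.card_mul_relIndex hCD).symm
  have hMidx : M.relIndex S = 2 := by
    have hle : Nat.card T * Nat.card C ≤ Nat.card M := by
      rw [← Nat.card_prod]
      refine Nat.card_le_card_of_injective (fun q : T × C => (⟨q.1 * q.2,
        M.mul_mem (mem_sup_left q.1.2) (mem_sup_right q.2.2)⟩ : M)) ?_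
      rintro ⟨t, c⟩ ⟨t', c'⟩ h
      have h3 : (t : G) * c = t' * c' := congrArg Subtype.val h
      have h4 : (c : G) * (c' : G)⁻¹ = (t : G)⁻¹ * t' := by
        calc (c : G) * (c' : G)⁻¹ = (t : G)⁻¹ * ((t : G) * c) * (c' : G)⁻¹ := by group
          _ = _ := by rw [h3]; group
      have h5 : (c : G) * (c' : G)⁻¹ ∈ D ⊓ T :=
        ⟨D.mul_mem (hCD c.2) (D.inv_mem (hCD c'.2)), h4 ▸ T.mul_mem (T.inv_mem t.2) t'.2⟩
      rw [hDT, mem_bot] at h5
      have hc : c = c' := Subtype.ext (mul_inv_eq_one.1 h5)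
      subst hc
      exact Prod.ext (Subtype.ext (mul_right_cancel h3)) rfl
    have h := Cfsg.Lib.Core.card_mul_relIndex hMS
    rw [← hTDc, hCc, ← mul_assoc] at h
    have hne : M.relIndex S ≠ 1 := fun e => hxM (relIndex_eq_one.1 e (hDS hxD))
    have h0 : M.relIndex S ≠ 0 := index_ne_zero_of_finite
    have hTC : 0 < Nat.card T * Nat.card C := Nat.mul_pos Nat.card_pos Nat.card_pos
    by_contra hne2
    have h3 : 3 ≤ M.relIndex S := by omega
    nlinarith [Nat.mul_le_mul hle h3]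
  have hMindex : M.index = 2 * S.index := by rw [← relIndex_mul_index hMS, hMidx]
  have hSodd : Odd S.index := Nat.not_even_iff_odd.1 fun e => hSsyl (even_iff_two_dvd.1 e)
  set V := Cfsg.Lib.Sig.SignTransfer.cosetSign M with hV
  have hVx : ∀ y ∈ D, y ∉ C → V y = -1 := by
    intro y hyD hyC
    have ho := hinv y hyD hyC
    refine Cfsg.Lib.Sig.SignTransfer.cosetSign_eq_neg_one M y (j := S.index) (by rw [ho]; exact even_two)
      hSodd (by rw [ho, hMindex]) fun d a ha => ?_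
    rcases Nat.even_or_odd' d with ⟨k, rfl | rfl⟩
    · rw [pow_mul, ← ho, pow_orderOf_eq_one, one_pow]
    · exfalso
      rw [pow_succ, pow_mul, ← ho, pow_orderOf_eq_one, one_pow, one_mul] at ha
      exact h1 y hyD hyC ho a ha
  have hVC : ∀ c ∈ C, V c = 1 := by
    intro c hc
    have h3 := hVx (x * c) (D.mul_mem hxD (hCD hc)) (fun h => hxC ((C.mul_mem_cancel_right hc).1 h))
    rw [map_mul, hVx x hxD hxC] at h3
    simpa using h3
  set G₁ := V.ker with hG₁
  have hLG₁ : L ≤ G₁ := fun y hy => hLhom (V.comp L.subtype) ⟨y, hy⟩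
  have hresG₁ : Cfsg.pResidual 2 G ≤ G₁ :=
    (closure_le _).2 fun y hy => Cfsg.Lib.Sig.SignTransfer.hom_eq_one_of_odd V hy
  have hG₁idx : G₁.index = 2 := by
    have hr : V.range = ⊤ := eq_top_iff.2 fun u _ => by
      rcases Int.units_eq_one_or u with rfl | rfl
      · exact one_mem _
      · exact ⟨_, hVx x hxD hxC⟩
    rw [hG₁, index_ker, hr, card_top, Nat.card_eq_fintype_card, Fintype.card_units_int]
  obtain ⟨g, hg⟩ := hC.exists_generator
  obtain ⟨i, hi⟩ := ((hS2.to_le (hCD.trans hDS) : IsPGroup 2 C)).exists_card_eq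
  have hgo : orderOf (g : G) = 2 ^ i := by rw [orderOf_coe, orderOf_eq_card_of_forall_mem_zpowers hg, hi]
  obtain ⟨j, hj, hLj⟩ : ∃ j, Odd j ∧ L.relIndex G₁ = 2 ^ i * j := by
    have hTSr : T.relIndex S = Nat.card C * 2 := by
      have h := Cfsg.Lib.Core.card_mul_relIndex hTS
      rw [← hTDc, hCc] at h
      exact Nat.eq_of_mul_eq_mul_left Nat.card_pos h
    have h3 : T.relIndex L * L.relIndex G₁ = 2 ^ i * S.index := by
      have e1 := relIndex_mul_index hLG₁
      have e2 := relIndex_mul_index hTL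
      have e3 := relIndex_mul_index hTS
      rw [hTSr, hi] at e3
      rw [hG₁idx] at e1
      rw [← e1, ← e3] at e2
      refine Nat.eq_of_mul_eq_mul_right two_pos ?_
      rw [mul_assoc, e2]; ring
    have hcop : (2 ^ i).Coprime (T.relIndex L) := (Nat.prime_two.coprime_iff_not_dvd.2 hTsyl).pow_left i
    obtain ⟨j, hj⟩ := hcop.dvd_of_dvd_mul_left (h3 ▸ Dvd.intro _ rfl : 2 ^ i ∣ T.relIndex L * L.relIndex G₁)
    refine ⟨j, ?_, hj⟩
    rw [hj, ← mul_assoc, mul_comm (T.relIndex L), mul_assoc] at h3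
    have h4 := Nat.eq_of_mul_eq_mul_left (pow_pos two_pos i) h3
    exact (Nat.odd_mul.1 (h4 ▸ hSodd)).2
  have hfree : ∀ d : ℕ, ∀ a : G, a * (g : G) ^ d * a⁻¹ ∈ L → (g : G) ^ d = 1 := by
    intro d a ha
    by_contra hne
    -- the involution among the powers
    obtain ⟨k, hk⟩ := IsPGroup.iff_orderOf.1 hS2 ⟨(g : G) ^ d, S.pow_mem (hDS (hCD g.2)) d⟩
    rw [Subgroup.orderOf_mk] at hk
    have hk0 : k ≠ 0 := fun e => hne (by rwa [e, pow_zero, orderOf_eq_one_iff] at hk)
    set c := ((g : G) ^ d) ^ 2 ^ (k - 1) with hc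
    have hco : orderOf c = 2 := by
      refine orderOf_eq_prime ?_ ?_
      · rw [hc, ← pow_mul, ← pow_succ, Nat.sub_add_cancel (Nat.pos_of_ne_zero hk0), ← hk, pow_orderOf_eq_one]
      · intro e
        have h3 := orderOf_dvd_of_pow_eq_one e
        rw [hk, Nat.pow_dvd_pow_iff_le_right one_lt_two] at h3
        omega
    have hcL : a * c * a⁻¹ ∈ L := by rw [hc, ← conj_pow]; exact L.pow_mem ha _
    have hcC : c ∈ C := C.pow_mem (C.pow_mem g.2 d) _
    let PT : Sylow 2 L := (hT2.comap_subtype (K := L)).toSylow hTsyl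
    have hzp : IsPGroup 2 (zpowers (⟨a * c * a⁻¹, hcL⟩ : L)) :=
      IsPGroup.of_card (n := 1) (by rw [Nat.card_zpowers, Subgroup.orderOf_mk, ← MulAut.conj_apply,
        (MulAut.conj a).orderOf_eq, hco, pow_one])
    obtain ⟨Q, hQ⟩ := hzp.exists_le_sylow
    obtain ⟨l, hl⟩ := MulAction.exists_smul_eq L Q PT
    have h3 : l * ⟨a * c * a⁻¹, hcL⟩ * l⁻¹ ∈ (PT : Subgroup L) := by
      rw [← hl, Sylow.coe_subgroup_smul, Cfsg.Lib.Core.mem_conj_smul]
      simpa [mul_assoc] using hQ (mem_zpowers _)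
    exact h2 c hcC hco ((l : G) * a) (by simpa [mul_assoc] using mem_subgroupOf.1 h3)
  obtain ⟨H', hLH', hresH', hodd⟩ := Cfsg.Lib.Sig.SignTransfer.pResidual_le_descent L hLhom i G₁ hLG₁ hresG₁
    (g : G) (hVC g g.2) hgo hfree j hj hLj
  set K := Cfsg.pResidual 2 G with hK
  haveI hKn : K.Normal := Cfsg.Lib.Fusion.pResidual_normal 2 G
  have hLK : L ≤ K := by
    have h3 := Cfsg.Lib.Fusion.map_subtype_pResidual_le (p := 2) L
    rwa [hL, ← MonoidHom.range_eq_map, L.range_subtype] at h3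
  refine ⟨K, hKn, ?_, fun T' hT'L _ hT' => ⟨hT'L.trans hLK, ?_⟩⟩
  · have hq : IsPGroup 2 (G ⧸ K) := by
      intro q
      obtain ⟨y, rfl⟩ := QuotientGroup.mk_surjective q
      obtain ⟨k, m, hm, hkm⟩ := Nat.exists_eq_two_pow_mul_odd (orderOf_pos y).ne'
      refine ⟨k, ?_⟩
      rw [← QuotientGroup.mk_pow, QuotientGroup.eq_one_iff]
      refine Cfsg.Lib.Fusion.mem_pResidual_of_coprime ?_
      refine Nat.Coprime.coprime_dvd_left (orderOf_dvd_of_pow_eq_one ?_) (Nat.coprime_two_right.2 hm)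
      rw [← pow_mul, ← hkm, pow_orderOf_eq_one]
    obtain ⟨k, hk⟩ := hq.exists_card_eq
    rw [eq_top_iff]
    have h3 : (K ⊔ S).index = 1 := by
      refine Nat.eq_one_of_dvd_coprimes (a := 2 ^ k) ((Nat.prime_two.coprime_iff_not_dvd.2 hSsyl).pow_left k) ?_
        (index_dvd_of_le le_sup_right)
      rw [← hk]; exact index_dvd_of_le le_sup_left
    rw [← index_eq_one.1 h3]
    refine sup_le le_sup_left ?_
    rw [← hTD]
    exact sup_le ((hTL.trans hLK).trans le_sup_left) le_sup_right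
  · rw [← relIndex_mul_relIndex T' L K hT'L hLK]
    intro hd
    rcases Nat.prime_two.dvd_mul.1 hd with hd | hd
    · exact hT' hd
    · refine Nat.not_even_iff_odd.2 hodd (even_iff_two_dvd.2 (hd.trans ?_))
      rw [← relIndex_mul_relIndex L K H' hLK hresH']
      exact dvd_mul_right _ _


/-- A consequence of Thompson's transfer lemma. Let G be a finite group, L a subgroup with O²(L) = L, T a Sylow 2-subgroup of L and S a Sylow 2-subgroup of G containing T. Suppose D ≤ S is a dihedral subgroup of order at least 4 (the four-group counts) with D ∩ T = 1 and S = TD as a set of products (so |S| = |T|·|D|), and C ≤ D is cyclic of index 2 in D. If no involution of D outside C is G-conjugate to an involution of the subgroup generated by T and C, and the involution of C is not G-conjugate to any involution of T, then G has a normal subgroup K, containing every Sylow 2-subgroup of L as a Sylow 2-subgroup, with G = KD. -/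
theorem result {G : Type*} [Group G] [Finite G] (L T S D C : Subgroup G) (hL : Cfsg.pResidual 2 ↥L = ⊤)
    (hTL : T ≤ L) (hT2 : IsPGroup 2 T) (hTsyl : ¬ 2 ∣ T.relIndex L)
    (hS2 : IsPGroup 2 S) (hSsyl : ¬ 2 ∣ S.index) (hTS : T ≤ S)
    (hDS : D ≤ S) (hDih : ∃ n : ℕ, 2 ≤ n ∧ Nonempty (↥D ≃* DihedralGroup n)) (hDT : D ⊓ T = ⊥) (hTD : T ⊔ D = S) (hTDc : Nat.card T * Nat.card D = Nat.card S)
    (hCD : C ≤ D) (hC : IsCyclic ↥C) (hCi : C.relIndex D = 2)
    (h1 : ∀ x ∈ D, x ∉ C → orderOf x = 2 → ∀ g : G, g * x * g⁻¹ ∈ T ⊔ C → False)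
    (h2 : ∀ c ∈ C, orderOf c = 2 → ∀ g : G, g * c * g⁻¹ ∈ T → False) :
    ∃ K : Subgroup G, K.Normal ∧ K ⊔ D = ⊤ ∧
      ∀ T' : Subgroup G, T' ≤ L → IsPGroup 2 T' → ¬ 2 ∣ T'.relIndex L → T' ≤ K ∧ ¬ 2 ∣ T'.relIndex K := by
  exact core L T S D C hL hTL hT2 hTsyl hS2 hSsyl hTS hDS hDih hDT hTD hTDc hCD hC hCi h1 h2

end Cfsg.Agent.S1924
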