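import Cfsg.Statements.S5246
import Cfsg.Agent.Lib.FusionSys.OfGroup
import Cfsg.Agent.Lib.FusionSys.Basic
import Cfsg.Agent.Lib.Core.Cores

set_option autoImplicit false
open Cfsg

namespace Cfsg.Agent.S5246

/-- Let p be an odd prime, G a finite group and P a Sylow p-subgroup. Call a fusion system F p-stable when, for every fully normalized subgroup Q and every χ ∈ Aut_F(Q) acting quadratically on Q (that is, χ fixes a⁻¹χ(a) for every a ∈ Q; equivalently χ(a⁻¹)·a·χ(a⁻¹)·χ(χ(a)) = 1), χ lies in O_p(Aut_F(Q)). Then G is p-stable in the normalizer form (for every p-subgroup Q and x ∈ N_G(Q) with [Q, x, x] = 1, the image of x lies in O_p(N_G(Q)/C_G(Q))) if and only if the fusion system of G on P is p-stable. -/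
theorem result {Ω : Type*} [Group Ω] [Finite Ω] {p : ℕ} [Fact p.Prime] (hp : p ≠ 2) (P : Sylow p Ω) : Cfsg.IsNormalizerPStable p Ω ↔ (∀ Q : Subgroup Ω, (Cfsg.groupFusionSystem (P : Subgroup Ω)).IsFullyNormalized Q → ∀ χ : MulAut ↥Q, χ ∈ (Cfsg.groupFusionSystem (P : Subgroup Ω)).autGroup Q → (∀ a : ↥Q, (χ a⁻¹) * a * (χ a⁻¹) * (χ (χ a)) = 1) → χ ∈ ((Cfsg.pCore p ↥((Cfsg.groupFusionSystem (P : Subgroup Ω)).autGroup Q)).map ((Cfsg.groupFusionSystem (P : Subgroup Ω)).autGroup Q).subtype : Subgroup (MulAut ↥Q))) := by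
  classical
  have hquad : ∀ (Q : Subgroup Ω) (g : Ω) (hg : g ∈ Subgroup.normalizer (Q : Set Ω)),
      ⁅⁅Q, Subgroup.zpowers g⁆, Subgroup.zpowers g⁆ = ⊥ ↔
        ∀ a : ↥Q, (Q.normalizerMonoidHom ⟨g, hg⟩ a⁻¹) * a * (Q.normalizerMonoidHom ⟨g, hg⟩ a⁻¹) *
          (Q.normalizerMonoidHom ⟨g, hg⟩ (Q.normalizerMonoidHom ⟨g, hg⟩ a)) = 1 := by
    intro Q g hg
    have hform : ∀ a : ↥Q, ((Q.normalizerMonoidHom ⟨g, hg⟩ a⁻¹) * a *
        (Q.normalizerMonoidHom ⟨g, hg⟩ a⁻¹) *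
          (Q.normalizerMonoidHom ⟨g, hg⟩ (Q.normalizerMonoidHom ⟨g, hg⟩ a)) = 1) ↔
        g * ((a : Ω)⁻¹ * (g * a * g⁻¹)) = ((a : Ω)⁻¹ * (g * a * g⁻¹)) * g := by
      intro a
      rw [← Subtype.coe_inj]
      change g * (a : Ω)⁻¹ * g⁻¹ * a * (g * (a : Ω)⁻¹ * g⁻¹) * (g * (g * a * g⁻¹) * g⁻¹) = 1 ↔ _
      rw [show g * (a : Ω)⁻¹ * g⁻¹ * a * (g * (a : Ω)⁻¹ * g⁻¹) * (g * (g * a * g⁻¹) * g⁻¹) =
          ((a : Ω)⁻¹ * (g * a * g⁻¹))⁻¹ * (g * ((a : Ω)⁻¹ * (g * a * g⁻¹)) * g⁻¹) by group,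
        inv_mul_eq_one, eq_comm, mul_inv_eq_iff_eq_mul]
    simp only [hform]
    rw [Subgroup.commutator_eq_bot_iff_le_centralizer, Subgroup.commutator_le]
    constructor
    · intro h a
      have h1 := h (a : Ω)⁻¹ (inv_mem a.2) g (Subgroup.mem_zpowers g) g (Subgroup.mem_zpowers g)
      simpa [commutatorElement_def, mul_assoc] using h1
    · intro h a ha x hx
      obtain ⟨i, rfl⟩ := Subgroup.mem_zpowers_iff.1 hx
      set d := fun a : Ω => a⁻¹ * (g * a * g⁻¹) with hd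
      have hcd : ∀ b ∈ Q, Commute g (d b) := fun b hb => h ⟨b, hb⟩
      have hpow : ∀ b ∈ Q, g ^ i * b * (g ^ i)⁻¹ = b * d b ^ i := by
        intro b hb
        have h1 : g * b * g⁻¹ = b * d b := by simp [hd]
        clear hx
        induction i with
        | zero => simp
        | succ n ih =>
          calc g ^ ((n : ℤ) + 1) * b * (g ^ ((n : ℤ) + 1))⁻¹
              = g * (g ^ (n : ℤ) * b * (g ^ (n : ℤ))⁻¹) * g⁻¹ := by
                rw [zpow_add_one, ← (Commute.self_zpow g (n : ℤ)).eq]; group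
            _ = g * b * g⁻¹ * (g * d b ^ (n : ℤ) * g⁻¹) := by rw [ih]; group
            _ = b * d b ^ ((n : ℤ) + 1) := by
                rw [h1, ((hcd b hb).zpow_right (n : ℤ)).eq, mul_inv_cancel_right, mul_assoc,
                  ← zpow_one_add, add_comm]
        | pred n ih =>
          calc g ^ (-(n : ℤ) - 1) * b * (g ^ (-(n : ℤ) - 1))⁻¹
              = g⁻¹ * (g ^ (-(n : ℤ)) * b * (g ^ (-(n : ℤ)))⁻¹) * g := by
                rw [zpow_sub_one, ← ((Commute.self_zpow g (-(n : ℤ))).inv_left).eq]; group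
            _ = g⁻¹ * b * g * (g⁻¹ * d b ^ (-(n : ℤ)) * g) := by rw [ih]; group
            _ = b * d b ^ (-(n : ℤ) - 1) := by
                have h2 : g⁻¹ * b * g = b * (d b)⁻¹ := by
                  have h3 : g⁻¹ * d b * g = d b := by
                    rw [mul_assoc, ← (hcd b hb).eq, inv_mul_cancel_left]
                  calc g⁻¹ * b * g = g⁻¹ * (g * b * g⁻¹) * g * (g⁻¹ * (d b)⁻¹ * g) := by
                        rw [h1]; group
                    _ = b * (g⁻¹ * d b * g)⁻¹ := by group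
                    _ = _ := by rw [h3]
                rw [h2, mul_assoc g⁻¹, ← ((hcd b hb).zpow_right (-(n : ℤ))).eq, inv_mul_cancel_left,
                  mul_assoc, ← zpow_neg_one, ← zpow_add, show (-1 : ℤ) + -(n : ℤ) = -(n : ℤ) - 1 by ring]
      have h1 : a * g ^ i * a⁻¹ * (g ^ i)⁻¹ = d a⁻¹ ^ i := by
        calc a * g ^ i * a⁻¹ * (g ^ i)⁻¹ = a * (g ^ i * a⁻¹ * (g ^ i)⁻¹) := by group
          _ = _ := by rw [hpow _ (inv_mem ha), mul_inv_cancel_left]
      rw [commutatorElement_def, h1]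
      intro y hy
      obtain ⟨j, rfl⟩ := Subgroup.mem_zpowers_iff.1 hy
      exact ((hcd _ (inv_mem ha)).zpow_left j).zpow_right i
  have hrange : ∀ (Q : Subgroup Ω), Q ≤ (P : Subgroup Ω) →
      (Cfsg.groupFusionSystem (P : Subgroup Ω)).autGroup Q = Q.normalizerMonoidHom.range := by
    intro Q hQ
    ext χ
    rw [Cfsg.Lib.FusionSys.autGroup_groupFusionSystem _ hQ, Cfsg.Lib.FusionSys.mem_autInducedBy]
    constructor
    · rintro ⟨g, -, hg⟩
      have hgN : g ∈ Subgroup.normalizer (Q : Set Ω) := Subgroup.mem_normalizer_fintype fun x hx => by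
        show g * x * g⁻¹ ∈ Q
        rw [← hg ⟨x, hx⟩]
        exact (χ ⟨x, hx⟩).2
      exact ⟨⟨g, hgN⟩, MulEquiv.ext fun x => Subtype.ext (hg x).symm⟩
    · rintro ⟨g, rfl⟩
      exact ⟨g, Subgroup.mem_top _, fun x => rfl⟩
  have hcore : ∀ (Q : Subgroup Ω) (hQ : Q ≤ (P : Subgroup Ω)) (g : Ω)
      (hg : g ∈ Subgroup.normalizer (Q : Set Ω)),
      (QuotientGroup.mk (s := (Subgroup.centralizer (Q : Set Ω)).subgroupOf (Subgroup.normalizer (Q : Set Ω)))
          (⟨g, hg⟩ : ↥(Subgroup.normalizer (Q : Set Ω)))) ∈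
        Cfsg.pCore p (↥(Subgroup.normalizer (Q : Set Ω)) ⧸
          (Subgroup.centralizer (Q : Set Ω)).subgroupOf (Subgroup.normalizer (Q : Set Ω))) ↔
      Q.normalizerMonoidHom ⟨g, hg⟩ ∈
        ((Cfsg.pCore p ↥((Cfsg.groupFusionSystem (P : Subgroup Ω)).autGroup Q)).map
          ((Cfsg.groupFusionSystem (P : Subgroup Ω)).autGroup Q).subtype : Subgroup (MulAut ↥Q)) := by
    intro Q hQ g hg
    rw [hrange Q hQ]
    let e := ((QuotientGroup.quotientMulEquivOfEq (Subgroup.normalizerMonoidHom_ker Q).symm).trans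
      (QuotientGroup.quotientKerEquivRange Q.normalizerMonoidHom))
    rw [← Cfsg.Lib.Core.map_pCore_equiv (p := p) e]
    constructor
    · intro h
      exact ⟨e (QuotientGroup.mk ⟨g, hg⟩), ⟨_, h, rfl⟩, rfl⟩
    · rintro ⟨_, ⟨y, hy, rfl⟩, he⟩
      have : e y = e (QuotientGroup.mk ⟨g, hg⟩) := Subtype.ext he
      rwa [← e.injective this]
  constructor
  · intro hG Q hn χ hχ hq
    rw [hrange Q hn.1] at hχ
    obtain ⟨⟨g, hg⟩, rfl⟩ := hχ
    exact (hcore Q hn.1 g hg).1 (hG Q (P.isPGroup'.to_le hn.1) g hg ((hquad Q g hg).2 hq))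
  · intro hF Q hQp g hg hq
    obtain ⟨h, -, hh⟩ := Cfsg.Lib.FusionSys.pConjInto_sylow P Q le_top hQp
    have hQ1 : Q.map (MulAut.conj h).toMonoidHom ≤ (P : Subgroup Ω) := by
      rintro _ ⟨x, hx, rfl⟩
      exact hh x hx
    obtain ⟨Q', hconj, hn⟩ := Cfsg.Lib.FusionSys.exists_isFullyNormalized
      (Cfsg.groupFusionSystem (P : Subgroup Ω)) hQ1
    rw [Cfsg.Lib.FusionSys.groupFusionSystem_eq, Cfsg.Lib.FusionSys.isConj_ofSubgroup_iff hQ1] at hconj
    obtain ⟨-, a, -, rfl⟩ := hconj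
    have hcomp : (Q.map (MulAut.conj h).toMonoidHom).map (MulAut.conj a).toMonoidHom =
        Q.map (MulAut.conj (a * h)).toMonoidHom := by
      rw [Subgroup.map_map]
      congr 1
      ext x
      simp [mul_assoc]
    rw [hcomp] at hn
    set c := a * h with hc
    have hN : ∀ y, y ∈ Subgroup.normalizer (Q : Set Ω) →
        c * y * c⁻¹ ∈ Subgroup.normalizer ((Q.map (MulAut.conj c).toMonoidHom : Subgroup Ω) : Set Ω) := by
      intro y hy
      refine Subgroup.mem_normalizer_fintype fun x hx => ?_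
      obtain ⟨q, hq', rfl⟩ := hx
      exact ⟨y * q * y⁻¹, (Subgroup.mem_normalizer_iff.1 hy q).1 hq', by simp [mul_assoc]⟩
    have hN' : ∀ y, y ∈ Subgroup.normalizer ((Q.map (MulAut.conj c).toMonoidHom : Subgroup Ω) : Set Ω) →
        c⁻¹ * y * c ∈ Subgroup.normalizer (Q : Set Ω) := by
      intro y hy
      refine Subgroup.mem_normalizer_fintype fun x hx => ?_
      obtain ⟨q, hq', he⟩ := (Subgroup.mem_normalizer_iff.1 hy _).1 ⟨x, hx, rfl⟩
      have : q = c⁻¹ * y * c * x * (c⁻¹ * y * c)⁻¹ := by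
        apply (MulAut.conj c).injective
        rw [show (MulAut.conj c) q = _ from he]
        simp [mul_assoc]
      exact this ▸ hq'
    have hq' : ⁅⁅Q.map (MulAut.conj c).toMonoidHom, Subgroup.zpowers (c * g * c⁻¹)⁆,
        Subgroup.zpowers (c * g * c⁻¹)⁆ = ⊥ := by
      rw [show c * g * c⁻¹ = (MulAut.conj c).toMonoidHom g from rfl, ← MonoidHom.map_zpowers,
        ← Subgroup.map_commutator, ← Subgroup.map_commutator, hq, Subgroup.map_bot]
    have h1 := (hcore _ hn.1 _ (hN g hg)).2 (hF _ hn _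
      (by rw [hrange _ hn.1]; exact ⟨_, rfl⟩) ((hquad _ _ (hN g hg)).1 hq'))
    let e : ↥(Subgroup.normalizer ((Q.map (MulAut.conj c).toMonoidHom : Subgroup Ω) : Set Ω)) ≃*
        ↥(Subgroup.normalizer (Q : Set Ω)) :=
      { toFun := fun y => ⟨c⁻¹ * y * c, hN' y y.2⟩
        invFun := fun y => ⟨c * y * c⁻¹, hN y y.2⟩
        left_inv := fun y => Subtype.ext (by simp [mul_assoc])
        right_inv := fun y => Subtype.ext (by simp [mul_assoc])
        map_mul' := fun y z => Subtype.ext (show c⁻¹ * ((y : Ω) * z) * c = c⁻¹ * y * c * (c⁻¹ * z * c) by group) }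
    have he : ((Subgroup.centralizer ((Q.map (MulAut.conj c).toMonoidHom : Subgroup Ω) : Set Ω)).subgroupOf
        (Subgroup.normalizer ((Q.map (MulAut.conj c).toMonoidHom : Subgroup Ω) : Set Ω))).map
          e.toMonoidHom =
        (Subgroup.centralizer (Q : Set Ω)).subgroupOf (Subgroup.normalizer (Q : Set Ω)) := by
      ext y
      constructor
      · rintro ⟨x, hx, rfl⟩ q hq0
        have h3 : c * q * c⁻¹ * (x : Ω) = (x : Ω) * (c * q * c⁻¹) := hx _ ⟨q, hq0, rfl⟩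
        show q * (c⁻¹ * x * c) = c⁻¹ * x * c * q
        calc q * (c⁻¹ * (x : Ω) * c) = c⁻¹ * (c * q * c⁻¹ * x) * c := by group
          _ = _ := by rw [h3]; group
      · intro hy
        refine ⟨e.symm y, ?_, e.apply_symm_apply y⟩
        rintro _ ⟨q, hq0, rfl⟩
        show c * q * c⁻¹ * (c * y * c⁻¹) = c * y * c⁻¹ * (c * q * c⁻¹)
        have h3 : q * (y : Ω) = (y : Ω) * q := hy q hq0
        calc c * q * c⁻¹ * (c * (y : Ω) * c⁻¹) = c * (q * y) * c⁻¹ := by group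
          _ = _ := by rw [h3]; group
    let ē := QuotientGroup.congr _ _ e he
    rw [← Cfsg.Lib.Core.map_pCore_equiv (p := p) ē]
    refine ⟨_, h1, ?_⟩
    show QuotientGroup.mk (e ⟨c * g * c⁻¹, hN g hg⟩) = _
    congr 1
    exact Subtype.ext (show c⁻¹ * (c * g * c⁻¹) * c = g by group)

end Cfsg.Agent.S5246
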