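import Cfsg.Statements.S5280
import Cfsg.Agent.S5246
import Cfsg.Agent.Lib.Local.DStarFusion
import Cfsg.Agent.Lib.Local.PStableCentral
import Cfsg.Agent.Lib.FusionSys.SectionFree
-- import your own Cfsg.Agent.* helpers here

set_option autoImplicit false
open Cfsg

namespace Cfsg.Agent.S5280

open Subgroup Cfsg.FusionSystem Cfsg.Lib.FusionSys Cfsg.Lib.Local
open scoped commutatorElement Pointwise

/-- Let p be a prime greater than 3, G a finite group with Sylow p-subgroup P, and F the fusion system of G on P. Suppose F is p-stable: for every fully normalized subgroup Q and every χ in Aut_F(Q) acting quadratically on Q (χ(a⁻¹)·a·χ(a⁻¹)·χ(χ(a)) = 1 for all a in Q), χ lies in O_p(Aut_F(Q)). Then F is constrained: some subgroup normal in F is F-centric. -/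
theorem result {Ω : Type*} [Group Ω] [Finite Ω] (p : ℕ) [Fact p.Prime] (hp : 3 < p) (P : Sylow p Ω) (hst : (∀ Q : Subgroup Ω, (Cfsg.groupFusionSystem (P : Subgroup Ω)).IsFullyNormalized Q → ∀ χ : MulAut ↥Q, χ ∈ (Cfsg.groupFusionSystem (P : Subgroup Ω)).autGroup Q → (∀ a : ↥Q, (χ a⁻¹) * a * (χ a⁻¹) * (χ (χ a)) = 1) → χ ∈ ((Cfsg.pCore p ↥((Cfsg.groupFusionSystem (P : Subgroup Ω)).autGroup Q)).map ((Cfsg.groupFusionSystem (P : Subgroup Ω)).autGroup Q).subtype : Subgroup (MulAut ↥Q)))) : (Cfsg.groupFusionSystem (P : Subgroup Ω)).IsConstrained p := by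
  classical
  have h2 : p ≠ 2 := by omega
  have h5 : 5 ≤ p := by
    rcases (by omega : p = 4 ∨ 5 ≤ p) with rfl | h
    · exact absurd (Fact.out : Nat.Prime 4) (by norm_num)
    · exact h
  have hstG := (Cfsg.Agent.S5246.result h2 P).2 hst
  set F := Cfsg.groupFusionSystem (P : Subgroup Ω) with hFdef
  have hF : F.IsSaturated p := isSaturated_groupFusionSystem P
  have hRn : F.IsNormal F.core := isNormal_core F
  set R := F.core with hR
  have hRsc := isNormal_stronglyClosed hRn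
  set C := centralizerIn (P : Subgroup Ω) R with hCdef
  suffices hCR : C ≤ R by
    refine ⟨hF, R, hRn, hRn.1, fun Q hQ => ?_⟩
    obtain ⟨φ, hφ, rfl⟩ := hQ
    rw [range_eq_of_card_le hφ hRn.1 (fun x => hRsc.2 R le_rfl φ hφ x) le_rfl]
    exact hCR
  by_contra hCR
  obtain ⟨hfc, -⟩ := isFullyAutomized_and_fc_of_fn P.isPGroup' hF (isFullyNormalized_of_isNormal hRn)
  set G0 := Subgroup.centralizer (R : Set Ω) with hG0
  rw [hFdef, groupFusionSystem_eq] at hfc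
  obtain ⟨C0, hC0⟩ := exists_sylow_centralizer P.isPGroup' (pConjInto_sylow P) (K := G0)
    (fun g => ⟨fun h => ⟨mem_top g, h⟩, fun h => h.2⟩) hfc
  rw [← hCdef] at hC0
  have hCG0 : C ≤ G0 := inf_le_right
  have hcomm : ∀ c : G0, ∀ r ∈ R, r * (c : Ω) = c * r := fun c r hr => mem_centralizer_iff.1 c.2 r hr
  set Z := R ⊓ C with hZdef
  set Z0 := Z.subgroupOf G0 with hZ0def
  have hZ0c : Z0 ≤ center G0 := fun z hz => mem_center_iff.2 fun c => Subtype.ext (hcomm c _ hz.1).symm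
  haveI hZ0n : Z0.Normal := ⟨fun z hz c => by rw [mem_center_iff.1 (hZ0c hz) c, mul_inv_cancel_right]; exact hz⟩
  have hZ0p : IsPGroup p Z0 := C0.isPGroup'.to_le (fun z hz => hC0.ge hz.2)
  set q := QuotientGroup.mk' Z0 with hq
  have hqs : Function.Surjective q := QuotientGroup.mk'_surjective Z0
  have hstQ : Cfsg.IsNormalizerPStable p (G0 ⧸ Z0) :=
    PStableCentral.isNormalizerPStable_quotient_central h5
      (Cfsg.Lib.Sig.isNormalizerPStable_of_injective G0.subtype G0.subtype_injective hstG) Z0 hZ0c hZ0p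
  set Cb := C0.mapSurjective hqs with hCb
  set Db := Cfsg.dStarOf (Cb : Subgroup (G0 ⧸ Z0)) with hDb
  have hDbn := isNormal_stronglyClosed (DStarFusion.isNormal_dStarOf h2 hstQ Cb)
  have hCb' : (Cb : Subgroup (G0 ⧸ Z0)) = (C.subgroupOf G0).map q := by
    rw [hCb, Sylow.coe_mapSurjective, hC0]
  have hDbC : Db ≤ (Cb : Subgroup (G0 ⧸ Z0)) := DStarFusion.dStarOf_le _
  set D := (Db.comap q ⊓ C.subgroupOf G0).map G0.subtype with hDdef
  have hDC : D ≤ C := by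
    rintro _ ⟨d, hd, rfl⟩
    exact hd.2
  have hZD : Z ≤ D := fun z hz => ⟨⟨z, hCG0 hz.2⟩, ⟨by
    show q ⟨z, hCG0 hz.2⟩ ∈ Db
    rw [show q ⟨z, hCG0 hz.2⟩ = 1 from (QuotientGroup.eq_one_iff _).2 hz]
    exact one_mem _, hz.2⟩, rfl⟩
  -- `D` is strongly closed
  have hDsc : F.StronglyClosed D := by
    refine ⟨hDC.trans (centralizerIn_le R), ?_⟩
    rintro U hU φ hφ ⟨u, hu⟩
    obtain ⟨ψ, hψ, hψe, hψR⟩ := hRn.2 U φ hφ
    obtain ⟨-, hψv, g, hg⟩ := hψ
    have hgR : g ∈ Subgroup.normalizer (R : Set Ω) := mem_normalizer_fintype fun r hr => by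
      show g * r * g⁻¹ ∈ R
      rw [← hg ⟨r, mem_sup_right hr⟩]
      exact hψR.le (mem_map_subgroupOf.2 ⟨r, _, hr, rfl⟩)
    rw [← hψe]
    show ψ ⟨u, _⟩ ∈ D
    rw [hg]
    show g * u * g⁻¹ ∈ D
    have huS : g * u * g⁻¹ ∈ (P : Subgroup Ω) := by
      have := hψv ⟨u, mem_sup_left hu⟩
      rwa [hg] at this
    -- Frattini
    have hgG0 : g⁻¹ ∈ Subgroup.normalizer (G0 : Set Ω) := mem_normalizer_fintype fun c hc =>
      mem_centralizer_iff.2 fun r hr => by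
        have h1 : g * r * g⁻¹ ∈ R := (mem_normalizer_iff.1 hgR r).1 hr
        calc r * (g⁻¹ * c * g⁻¹⁻¹) = g⁻¹ * ((g * r * g⁻¹) * c) * g⁻¹⁻¹ := by group
          _ = g⁻¹ * (c * (g * r * g⁻¹)) * g⁻¹⁻¹ := by rw [mem_centralizer_iff.1 hc _ h1]
          _ = g⁻¹ * c * g⁻¹⁻¹ * r := by group
    set α : MulAut G0 := G0.normalizerMonoidHom ⟨g⁻¹, hgG0⟩ with hα
    obtain ⟨c, hc⟩ := MulAction.exists_smul_eq G0 (α • C0) C0
    set m := (c : Ω) * g⁻¹ with hm
    have hmC : m ∈ Subgroup.normalizer (C : Set Ω) := mem_normalizer_fintype fun x hx => by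
      have h1 : MulAut.conj c (α ⟨x, hCG0 hx⟩) ∈ (C0 : Subgroup G0) := by
        rw [← hc]
        exact ⟨_, ⟨⟨x, hCG0 hx⟩, hC0.ge hx, rfl⟩, rfl⟩
      have h3 := hC0.le h1
      show m * x * m⁻¹ ∈ C
      rw [hm, show (c : Ω) * g⁻¹ * x * ((c : Ω) * g⁻¹)⁻¹ = c * (g⁻¹ * x * g⁻¹⁻¹) * (c : Ω)⁻¹ by group]
      exact h3
    have hmR : m ∈ Subgroup.normalizer (R : Set Ω) :=
      mul_mem (centralizer_le_normalizer _ c.2) (inv_mem hgR)
    have hmG0 : m ∈ Subgroup.normalizer (G0 : Set Ω) := mul_mem (le_normalizer c.2) hgG0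
    -- `m` fixes `D`
    set β : MulAut G0 := G0.normalizerMonoidHom ⟨m, hmG0⟩ with hβ
    have hmem : ∀ (K : Subgroup Ω) (x : G0), m ∈ Subgroup.normalizer (K : Set Ω) →
        (β x ∈ K.subgroupOf G0 ↔ x ∈ K.subgroupOf G0) := fun K x hK => by
      rw [mem_subgroupOf, mem_subgroupOf]
      exact (mem_normalizer_iff.1 hK (x : Ω)).symm
    have hmap : ∀ K : Subgroup Ω, m ∈ Subgroup.normalizer (K : Set Ω) →
        (K.subgroupOf G0).map β.toMonoidHom = K.subgroupOf G0 := fun K hK => by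
      ext x
      refine ⟨?_, fun hx => ⟨β.symm x, (hmem K _ hK).1 (by rw [MulEquiv.apply_symm_apply]; exact hx),
        β.apply_symm_apply x⟩⟩
      rintro ⟨y, hy, rfl⟩
      exact (hmem K y hK).2 hy
    have hmZ : m ∈ Subgroup.normalizer (Z : Set Ω) := mem_normalizer_fintype fun z hz =>
      ⟨(mem_normalizer_iff.1 hmR z).1 hz.1, (mem_normalizer_iff.1 hmC z).1 hz.2⟩
    let βb : (G0 ⧸ Z0) ≃* (G0 ⧸ Z0) := QuotientGroup.congr Z0 Z0 β (hmap Z hmZ)
    have hβb : Db.map βb.toMonoidHom = Db := by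
      have h1 := DStarFusion.dStarOf_map_injOn βb.toMonoidHom (Cb : Subgroup (G0 ⧸ Z0)) βb.injective.injOn
      rw [hDb, ← h1]
      congr 1
      rw [hCb', Subgroup.map_map]
      conv_rhs => rw [← hmap C hmC, Subgroup.map_map]
      rfl
    have hDiff : ∀ x : G0, q (β x) ∈ Db ↔ q x ∈ Db := fun x => by
      conv_lhs => rw [← hβb]
      show βb.toMonoidHom (q x) ∈ _ ↔ _
      exact Subgroup.mem_map_iff_mem (f := βb.toMonoidHom) βb.injective
    obtain ⟨d, ⟨hdD, hdC⟩, rfl⟩ := hU hu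
    set e : G0 := ⟨(c : Ω), c.2⟩ with he
    -- `g = m⁻¹ c`
    have hgm : g * (d : Ω) * g⁻¹ = m⁻¹ * ((c * d * c⁻¹ : G0) : Ω) * m := by
      rw [hm]; simp only [Subgroup.coe_mul, Subgroup.coe_inv]; group
    have huC : g * (d : Ω) * g⁻¹ ∈ C := by
      refine ⟨huS, mem_centralizer_iff.2 fun r hr => ?_⟩
      have h1 := hcomm d (g⁻¹ * r * g) ((mem_normalizer_iff''.1 hgR r).1 hr)
      calc r * (g * d * g⁻¹) = g * ((g⁻¹ * r * g) * d) * g⁻¹ := by group
        _ = g * (d * (g⁻¹ * r * g)) * g⁻¹ := by rw [h1]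
        _ = g * d * g⁻¹ * r := by group
    have hcdC : (c * d * c⁻¹ : G0) ∈ C.subgroupOf G0 := by
      rw [hgm] at huC
      exact (mem_normalizer_iff''.1 hmC _).2 huC
    have hcd : q (c * d * c⁻¹) ∈ Db := by
      rw [map_mul, map_mul, map_inv]
      refine hDbn.2 (zpowers (q d)) (zpowers_le.2 hdD) (conjHom (zpowers (q d)) (q c))
        ⟨zpowers_le.2 (hDbC hdD), ?_, q c, fun _ => rfl⟩ ⟨q d, mem_zpowers _⟩
      rintro ⟨w, hw⟩
      obtain ⟨i, rfl⟩ := mem_zpowers_iff.1 hw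
      show q c * q d ^ i * (q c)⁻¹ ∈ (Cb : Subgroup (G0 ⧸ Z0))
      rw [← conj_zpow, ← map_inv, ← map_mul, ← map_mul, hCb']
      exact zpow_mem (Subgroup.mem_map_of_mem q hcdC) i
    show g * (d : Ω) * g⁻¹ ∈ D
    rw [hgm]
    refine ⟨β.symm (c * d * c⁻¹), ⟨(hDiff _).1 (by rw [MulEquiv.apply_symm_apply]; exact hcd),
      (hmem C _ hmC).1 (by rw [MulEquiv.apply_symm_apply]; exact hcdC)⟩, ?_⟩
    have h := congrArg Subtype.val (β.apply_symm_apply (c * d * c⁻¹))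
    change m * ((β.symm (c * d * c⁻¹) : G0) : Ω) * m⁻¹ = _ at h
    rw [← h]
    show ((β.symm (c * d * c⁻¹) : G0) : Ω) = _
    group
  have hZsc : F.StronglyClosed Z := by
    refine ⟨inf_le_left.trans hRn.1, fun U hU φ hφ x => ?_⟩
    exact ⟨hRsc.2 U (hU.trans inf_le_left) φ hφ x, hDC (hDsc.2 U (hU.trans hZD) φ hφ x)⟩
  have hDn : F.IsNormal D := by
    refine isNormal_of_series P.isPGroup' hF
      (fun i => if i = 0 then ⊥ else if i = 1 then Z else D) 2 rfl rfl (fun i _ => ?_) ?_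
    · split_ifs
      exacts [stronglyClosed_bot F, hZsc, hDsc]
    · intro i hi g hg y hy
      obtain rfl | rfl : i = 0 ∨ i = 1 := by omega
      · show ⁅g, y⁆ ∈ (⊥ : Subgroup Ω)
        rw [mem_bot, commutatorElement_eq_one_iff_mul_comm]
        exact (hcomm ⟨g, hCG0 (hDC hg)⟩ y hy.1).symm
      · obtain ⟨a, ⟨ha, haC⟩, rfl⟩ := hg
        obtain ⟨b, ⟨hb, hbC⟩, rfl⟩ := hy
        show ((⁅a, b⁆ : G0) : Ω) ∈ Z
        have h1 : q ⁅a, b⁆ = 1 := by
          rw [map_commutatorElement, commutatorElement_eq_one_iff_mul_comm]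
          exact DStarFusion.dStarOf_comm Cb.isPGroup' _ ha _ hb
        exact (QuotientGroup.eq_one_iff (N := Z0) ⁅a, b⁆).1 h1
  -- the contradiction
  have hCbne : (Cb : Subgroup (G0 ⧸ Z0)) ≠ ⊥ := by
    intro h
    refine hCR fun x hx => ?_
    have h1 : q ⟨x, hCG0 hx⟩ ∈ (Cb : Subgroup (G0 ⧸ Z0)) := by
      rw [hCb']; exact Subgroup.mem_map_of_mem q hx
    rw [h, mem_bot] at h1
    exact ((QuotientGroup.eq_one_iff _).1 h1).1
  obtain ⟨db, hdb, hdb1⟩ := Db.bot_or_exists_ne_one.resolve_left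
    (DStarFusion.dStarOf_ne_bot Cb.isPGroup' hCbne)
  obtain ⟨d, hd, rfl⟩ := hCb'.le (hDbC hdb)
  refine hdb1 ((QuotientGroup.eq_one_iff _).2 ⟨?_, hd⟩)
  exact (le_sSup hDn : D ≤ R) ⟨d, ⟨hdb, hd⟩, rfl⟩

end Cfsg.Agent.S5280
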