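import Cfsg.Statements.S1935
import Cfsg.Agent.S0599
import Cfsg.Agent.Lib.Sig.QuadraticOffender
import Cfsg.Agent.Lib.Local.TimmesfeldReplacement
import Cfsg.Agent.Lib.Thompson.Quadratic
import Cfsg.Agent.Lib.Core.Basic
import Mathlib.Data.ZMod.Basic
-- import your own Cfsg.Agent.* helpers here

set_option autoImplicit false
open Cfsg

namespace Cfsg.Agent.S1935

open Subgroup Cfsg.Lib Cfsg.Lib.Sig
open scoped IsMulCommutative commutatorElement

set_option linter.style.haveILetI false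

variable {Ω : Type*} [Group Ω] [Finite Ω] {p : ℕ} [hp : Fact p.Prime] {V G : Subgroup Ω}

theorem comm_of_quadratic {H : Type*} [Group H] {R : Type*} [Ring R] (ρ : H →* R) (hρi : Function.Injective ρ)
    {x z : H} (h1 : (ρ x - 1) * (ρ z - 1) = 0) (h2 : (ρ z - 1) * (ρ x - 1) = 0) : x * z = z * x := by
  refine hρi ?_
  have e1 : ρ x * ρ z = ρ x + ρ z - 1 := by
    rw [← sub_eq_zero, ← h1]; noncomm_ring
  have e2 : ρ z * ρ x = ρ x + ρ z - 1 := by
    rw [← sub_eq_zero, ← h2]; noncomm_ring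
  rw [map_mul, map_mul, e1, e2]

theorem pow_eq_one_of_quadratic {H : Type*} [Group H] {R : Type*} [Ring R] {q : ℕ} (hchar : (q : R) = 0) (ρ : H →* R)
    (hρi : Function.Injective ρ) {x : H} (h : (ρ x - 1) * (ρ x - 1) = 0) : x ^ q = 1 := by
  have hn : ∀ n : ℕ, ρ (x ^ n) = 1 + n • (ρ x - 1) := by
    intro n
    induction n with
    | zero => simp
    | succ n ih =>
      rw [pow_succ, map_mul, ih, succ_nsmul]
      obtain ⟨M, hM⟩ : ∃ M, ρ x = 1 + M := ⟨ρ x - 1, by simp⟩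
      have hMM : M * M = 0 := by simpa [hM] using h
      rw [hM, add_sub_cancel_left, mul_add, mul_one, add_mul, one_mul, smul_mul_assoc, hMM, smul_zero, add_zero]
      abel
  exact hρi (by rw [hn, nsmul_eq_mul, hchar, zero_mul, add_zero, map_one])

theorem quadratic_conj {H : Type*} [Group H] {R : Type*} [Ring R] (ρ : H →* R) (g : H) {x : H}
    (h : (ρ x - 1) * (ρ x - 1) = 0) : (ρ (g * x * g⁻¹) - 1) * (ρ (g * x * g⁻¹) - 1) = 0 := by
  have h1 : ρ g * ρ g⁻¹ = 1 := by rw [← map_mul, mul_inv_cancel, map_one]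
  have h2 : ρ g⁻¹ * ρ g = 1 := by rw [← map_mul, inv_mul_cancel, map_one]
  have e : ρ (g * x * g⁻¹) - 1 = ρ g * (ρ x - 1) * ρ g⁻¹ := by
    rw [map_mul, map_mul, mul_sub, sub_mul, mul_one, h1]
  rw [e]
  calc ρ g * (ρ x - 1) * ρ g⁻¹ * (ρ g * (ρ x - 1) * ρ g⁻¹)
      = ρ g * ((ρ x - 1) * (ρ g⁻¹ * ρ g) * (ρ x - 1)) * ρ g⁻¹ := by noncomm_ring
    _ = 0 := by rw [h2, mul_one, h, mul_zero, zero_mul]

/-- The extension of the action on `V` by a trivial summand. -/
def ext (V : Subgroup Ω) [IsMulCommutative V] (p : ℕ) :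
    normalizer (V : Set Ω) →* AddMonoid.End (Additive ↥V × ZMod p) where
  toFun n := AddMonoidHom.prodMap (Cfsg.Lib.Thompson.actionEnd V n) (AddMonoidHom.id (ZMod p))
  map_one' := by
    refine AddMonoidHom.ext fun w => ?_
    show (Cfsg.Lib.Thompson.actionEnd V 1 w.1, w.2) = w
    rw [map_one]; rfl
  map_mul' m n := by
    refine AddMonoidHom.ext fun w => ?_
    show (Cfsg.Lib.Thompson.actionEnd V (m * n) w.1, w.2) = _
    rw [map_mul]; rfl

theorem ext_apply (V : Subgroup Ω) [IsMulCommutative V] (n : normalizer (V : Set Ω)) (w : Additive ↥V × ZMod p) :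
    ext V p n w = (Cfsg.Lib.Thompson.actionEnd V n w.1, w.2) := rfl

theorem core (h5 : 5 ≤ p) (hV : Cfsg.IsElementaryAbelian p V) (hG : IsPGroup p ↥G)
    (hGV : G ≤ normalizer (V : Set Ω)) (hfaith : G ⊓ centralizer (V : Set Ω) = ⊥)
    (hF : ∃ E : Subgroup Ω, E ≤ G ∧ E ≠ ⊥ ∧ Cfsg.IsElementaryAbelian p E ∧
      Nat.card ↥V ≤ Nat.card ↥E * Nat.card ↥(V ⊓ centralizer (E : Set Ω))) :
    ∃ A : Subgroup Ω, A ≤ G ∧ A ≠ ⊥ ∧ Cfsg.IsElementaryAbelian p A ∧
      Nat.card ↥V ≤ Nat.card ↥A * Nat.card ↥(V ⊓ centralizer (A : Set Ω)) ∧ ⁅⁅V, A⁆, A⁆ = ⊥ ∧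
      ∀ g ∈ Subgroup.closure {x : Ω | ∃ h ∈ G, ∃ a ∈ A, x = h * a * h⁻¹}, ∀ a ∈ A, g * a * g⁻¹ ∈ A := by
  classical
  haveI := hV.1
  have hp2 : p ≠ 2 := by omega
  haveI : NeZero p := ⟨hp.out.ne_zero⟩
  haveI : Finite (AddMonoid.End (Additive ↥V × ZMod p)) := Finite.of_injective (fun f : (AddMonoid.End (Additive ↥V × ZMod p)) => (f : Additive ↥V × ZMod p → Additive ↥V × ZMod p))
    DFunLike.coe_injective
  let ρ : ↥G →* (AddMonoid.End (Additive ↥V × ZMod p)) := (ext V p).comp (Subgroup.inclusion hGV)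
  let N : ↥G → AddMonoid.End (Additive ↥V × ZMod p) := fun g => ρ g - 1
  have hVp : ∀ v : Additive ↥V, p • v = 0 := fun v => by
    apply Additive.toMul.injective
    apply Subtype.ext
    simpa using hV.2 _ (Additive.toMul v).2
  have hchar : (p : (AddMonoid.End (Additive ↥V × ZMod p))) = 0 := by
    refine AddMonoidHom.ext fun w => ?_
    refine (AddMonoid.End.natCast_apply p w).trans ?_
    show p • w = (0 : Additive ↥V × ZMod p)
    exact Prod.ext (hVp w.1) (by show p • w.2 = 0; rw [nsmul_eq_mul, ZMod.natCast_self, zero_mul])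
  have hρ : ∀ (g : ↥G) (w : Additive ↥V × ZMod p), ((Additive.toMul (ρ g w).1 : ↥V) : Ω) =
      (g : Ω) * ((Additive.toMul w.1 : ↥V) : Ω) * (g : Ω)⁻¹ := fun g w =>
    Cfsg.Lib.Thompson.actionEnd_apply V _ w.1
  have hρi : Function.Injective ρ := by
    refine (injective_iff_map_eq_one ρ).2 fun g hg => Subtype.ext ?_
    refine (Subgroup.mem_bot.1 (hfaith.le ⟨g.2, mem_centralizer_iff.2 fun v hv => ?_⟩))
    have h := hρ g (Additive.ofMul ⟨v, hv⟩, 0)
    rw [hg] at h
    exact (mul_inv_eq_iff_eq_mul.1 h.symm).symm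
  -- operators with values in `V`
  let lift : Additive ↥V → (ZMod p →+ Additive ↥V) := fun v => ZMod.lift p
    ⟨zmultiplesHom _ v, by show (p : ℤ) • v = 0; rw [natCast_zsmul]; exact hVp v⟩
  let op : Additive ↥V → (AddMonoid.End (Additive ↥V × ZMod p)) := fun v => ((AddMonoidHom.inl (Additive ↥V) (ZMod p)).comp (lift v)).comp
    (AddMonoidHom.snd (Additive ↥V) (ZMod p))
  have hlift : ∀ (v : Additive ↥V) (k : ℤ), lift v (k : ZMod p) = k • v := fun v k => by
    simp [lift]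
  have hop : ∀ (v : Additive ↥V) (u : Additive ↥V) (k : ℤ), op v (u, (k : ZMod p)) = (k • v, 0) := fun v u k => by
    show (lift v (k : ZMod p), (0 : ZMod p)) = _
    rw [hlift]
  have hRext : ∀ f g : (AddMonoid.End (Additive ↥V × ZMod p)), (∀ (u : Additive ↥V) (k : ℤ), f (u, (k : ZMod p)) = g (u, (k : ZMod p))) → f = g :=
    fun f g h => AddMonoidHom.ext fun w => by
      obtain ⟨k, hk⟩ := ZMod.intCast_surjective w.2
      have := h w.1 k
      rwa [hk] at this
  have hopinj : Function.Injective op := fun v w e => by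
    have h := congrArg (fun f : (AddMonoid.End (Additive ↥V × ZMod p)) => (f (0, ((1 : ℤ) : ZMod p))).1) e
    simp only [hop, one_smul] at h
    exact h
  let opHom : Additive ↥V →+ (AddMonoid.End (Additive ↥V × ZMod p)) :=
    { toFun := op
      map_zero' := hRext _ _ fun u k => by rw [hop]; simp
      map_add' := fun v w => hRext _ _ fun u k => by
        show op (v + w) _ = op v _ + op w _
        rw [hop, hop, hop, smul_add, Prod.mk_add_mk, add_zero] }
  let act : ↥G → Additive ↥V → Additive ↥V := fun g v => (ρ g (v, 0)).1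
  have hρop : ∀ g v, ρ g * op v = op (act g v) := fun g v => hRext _ _ fun u k => by
    show ρ g (op v (u, (k : ZMod p))) = op (act g v) (u, (k : ZMod p))
    rw [hop, hop]
    refine Prod.ext ?_ rfl
    show Cfsg.Lib.Thompson.actionEnd V _ (k • v) = k • Cfsg.Lib.Thompson.actionEnd V _ v
    exact map_zsmul _ k v
  have hNop : ∀ g v, N g * op v = 0 ↔ act g v = v := fun g v => by
    rw [show N g * op v = op (act g v) - op v by simp only [N, sub_mul, one_mul, hρop], sub_eq_zero, hopinj.eq_iff]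
  -- quadratic offenders
  let fix : Subgroup ↥G → AddSubgroup (Additive ↥V) := fun A =>
    { carrier := {v | ∀ x ∈ A, act x v = v}
      zero_mem' := fun x _ => by show (ρ x (0, 0)).1 = 0; rw [show ((0 : Additive ↥V), (0 : ZMod p)) = 0 from rfl, map_zero]; rfl
      add_mem' := fun {v w} hv hw x hx => by
        show (ρ x (v + w, 0)).1 = v + w
        rw [show (v + w, (0 : ZMod p)) = (v, 0) + (w, 0) by simp, map_add]
        exact congrArg₂ (· + ·) (hv x hx) (hw x hx)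
      neg_mem' := fun {v} hv x hx => by
        show (ρ x (-v, 0)).1 = -v
        rw [show (-v, (0 : ZMod p)) = -(v, 0) by simp, map_neg]
        exact congrArg Neg.neg (hv x hx) }
  have hfix : ∀ A : Subgroup ↥G, Nat.card (fix A) = Nat.card ↥(V ⊓ centralizer ((A.map G.subtype : Subgroup Ω) : Set Ω)) := by
    intro A
    refine Nat.card_congr
      { toFun := fun v => ⟨((Additive.toMul (v : Additive ↥V) : ↥V) : Ω), (Additive.toMul (v : Additive ↥V)).2, mem_centralizer_iff.2 ?_⟩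
        invFun := fun w => ⟨Additive.ofMul ⟨(w : Ω), w.2.1⟩, fun x hx => ?_⟩
        left_inv := fun v => rfl
        right_inv := fun w => rfl }
    · rintro _ ⟨x, hx, rfl⟩
      have h := congrArg (fun u : Additive ↥V => ((Additive.toMul u : ↥V) : Ω)) (v.2 x hx)
      simp only [act, hρ] at h
      exact mul_inv_eq_iff_eq_mul.1 h
    · refine Additive.toMul.injective (Subtype.ext ?_)
      show ((Additive.toMul (ρ x (Additive.ofMul ⟨(w : Ω), w.2.1⟩, 0)).1 : ↥V) : Ω) = w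
      rw [hρ]
      exact mul_inv_eq_iff_eq_mul.2 (mem_centralizer_iff.1 w.2.2 _ ⟨x, hx, rfl⟩)
  have hK : ∀ A : Subgroup ↥G, QuadraticOffender.fixK ρ opHom.range A = (fix A).map opHom := by
    intro A
    ext r
    constructor
    · rintro ⟨⟨v, rfl⟩, h⟩; exact ⟨v, fun x hx => (hNop x v).1 (h x hx), rfl⟩
    · rintro ⟨v, hv, rfl⟩; exact ⟨⟨v, rfl⟩, fun x hx => (hNop x v).2 (hv x hx)⟩
  have hKc : ∀ A : Subgroup ↥G, Nat.card (QuadraticOffender.fixK ρ opHom.range A) = Nat.card (fix A) := fun A => by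
    rw [hK A]; exact (Nat.card_congr ((fix A).equivMapOfInjective opHom hopinj).toEquiv).symm
  have hstart : ∃ A, QuadraticOffender.Off ρ opHom.range (Nat.card ↥V) A := by
    obtain ⟨E, hEG, hE1, hEe, hEc⟩ := hF
    obtain ⟨A₀, hA₀, hmax⟩ := Set.exists_max_image {B : Subgroup Ω | B ≤ E ∧ B ≠ ⊥}
      (fun B => Nat.card ↥B * Nat.card ↥(V ⊓ centralizer (B : Set Ω))) (Set.toFinite _) ⟨E, le_rfl, hE1⟩
    have hA₀G : A₀ ≤ G := hA₀.1.trans hEG
    have hVμ : Nat.card ↥V ≤ Nat.card ↥A₀ * Nat.card ↥(V ⊓ centralizer (A₀ : Set Ω)) :=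
      hEc.trans (hmax E ⟨le_rfl, hE1⟩)
    have hbest : Cfsg.IsBestOffenderOn p V A₀ := by
      refine ⟨fun B hB => ?_, ?_, fun a ha => ?_⟩
      · rcases eq_or_ne B ⊥ with rfl | hB1
        · rw [card_bot, one_mul]
          exact (card_le_of_le inf_le_left).trans hVμ
        · exact hmax B ⟨hB.trans hA₀.1, hB1⟩
      · rw [show ⁅A₀, A₀⁆ = ⊥ from Core.commutator_eq_bot_iff_forall.2 fun x hx y hy =>
          congrArg Subtype.val (hEe.1.is_comm.comm (⟨x, hA₀.1 hx⟩ : E) ⟨y, hA₀.1 hy⟩)]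
        exact bot_le
      · rw [hEe.2 a (hA₀.1 ha)]; exact one_mem _
    obtain ⟨hb, hbf, hbne⟩ := Cfsg.Agent.S0599.result V A₀ hV (hA₀G.trans hGV) hbest V le_rfl
    set A := A₀ ⊓ centralizer ((⁅V, A₀⁆ : Subgroup Ω) : Set Ω) with hA
    have hA₁ : ⁅V, A₀⁆ ≠ ⊥ := fun h => hA₀.2 (eq_bot_iff.2 (hfaith ▸ le_inf hA₀G
      (commutator_eq_bot_iff_le_centralizer.1 ((commutator_comm _ _).trans h))))
    have hAne : A ≠ ⊥ := fun h => hbne hA₁ (by rw [h]; exact commutator_bot_right V)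
    have hAq : ⁅⁅V, A⁆, A⁆ = ⊥ := by
      refine commutator_eq_bot_iff_le_centralizer.2 (le_centralizer_iff.1 (inf_le_right.trans ?_))
      exact centralizer_le (SetLike.coe_subset_coe.2 (commutator_mono le_rfl inf_le_left))
    have hAG : A ≤ G := inf_le_left.trans hA₀G
    refine ⟨A.subgroupOf G, ?_, ?_, ?_⟩
    · intro h
      exact hAne (by rw [← map_subgroupOf_eq_of_le hAG, h, Subgroup.map_bot])
    · intro x hx y hy
      refine hRext _ _ fun u k => ?_
      show (ρ x - 1 : (AddMonoid.End (Additive ↥V × ZMod p))) ((ρ y - 1 : (AddMonoid.End (Additive ↥V × ZMod p))) (u, (k : ZMod p))) = 0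
      set w : Additive ↥V := (ρ y (u, (k : ZMod p))).1 - u with hw
      have h1 : (ρ y - 1 : (AddMonoid.End (Additive ↥V × ZMod p))) (u, (k : ZMod p)) = (w, 0) := by
        show ρ y (u, (k : ZMod p)) - (u, (k : ZMod p)) = _
        exact Prod.ext rfl (sub_self (k : ZMod p))
      rw [h1]
      show ρ x (w, 0) - (w, 0) = 0
      refine Prod.ext (sub_eq_zero.2 (Additive.toMul.injective (Subtype.ext ?_))) (sub_self _)
      rw [hρ]
      have hwA : ((Additive.toMul w : ↥V) : Ω) ∈ ⁅V, A⁆ := by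
        rw [commutator_comm]
        have e : ((Additive.toMul w : ↥V) : Ω) = ⁅(y : Ω), ((Additive.toMul u : ↥V) : Ω)⁆ := by
          rw [hw, toMul_sub, div_eq_mul_inv, Subgroup.coe_mul, hρ, Subgroup.coe_inv, commutatorElement_def]
        rw [e]
        exact commutator_mem_commutator (mem_subgroupOf.1 hy) (Additive.toMul u).2
      have h2 := Core.commutator_eq_bot_iff_forall.1 hAq _ hwA _ (mem_subgroupOf.1 hx)
      show (x : Ω) * ((Additive.toMul w : ↥V) : Ω) * (x : Ω)⁻¹ = _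
      rw [← h2, mul_inv_cancel_right]
    · rw [hKc, hfix, map_subgroupOf_eq_of_le hAG, Nat.card_congr (subgroupOfEquivOfLe hAG).toEquiv]
      haveI : IsMulCommutative ↥V := hV.1
      have hr := (Cfsg.Lib.Local.Timmesfeld.replacement V A₀ (hA₀G.trans hGV) hbest.2.1 hbest.1 (U := V) le_rfl).2
      exact hVμ.trans hr.le
  obtain ⟨A, ⟨hA1, hAN, hAc⟩, hfinal⟩ := QuadraticOffender.exists_normal h5 hG hchar ρ hρi opHom.range (fun g k hk => by
    obtain ⟨v, rfl⟩ := hk; exact ⟨act g v, (hρop g v).symm⟩) _ hstart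
  rw [hKc] at hAc
  refine ⟨A.map G.subtype, map_subtype_le A, ?_, ⟨⟨⟨?_⟩⟩, ?_⟩, ?_, ?_, ?_⟩
  · exact fun h => hA1 ((Subgroup.map_eq_bot_iff_of_injective _ G.subtype_injective).1 h)
  · rintro ⟨_, x, hx, rfl⟩ ⟨_, z, hz, rfl⟩
    refine Subtype.ext ?_
    show (x : Ω) * z = z * x
    exact congrArg Subtype.val (comm_of_quadratic ρ hρi (hAN x hx z hz) (hAN z hz x hx))
  · rintro _ ⟨x, hx, rfl⟩
    exact congrArg Subtype.val (pow_eq_one_of_quadratic hchar ρ hρi (hAN x hx x hx))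
  · rw [← hfix, card_map_of_injective G.subtype_injective]; exact hAc
  · refine commutator_eq_bot_iff_le_centralizer.2 (commutator_le.2 fun v hv a ha => ?_)
    obtain ⟨x, hx, rfl⟩ := ha
    refine mem_centralizer_iff.2 ?_
    rintro _ ⟨z, hz, rfl⟩
    have h0 := congrArg (fun f : (AddMonoid.End (Additive ↥V × ZMod p)) => f (Additive.ofMul (⟨v, hv⟩ : ↥V), 0)) (hAN z hz x hx)
    set w : Additive ↥V × ZMod p := ρ x (Additive.ofMul (⟨v, hv⟩ : ↥V), 0) - (Additive.ofMul (⟨v, hv⟩ : ↥V), 0) with hw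
    have h1 : ρ z w - w = 0 := h0
    have h2 := congrArg (fun u : Additive ↥V × ZMod p => ((Additive.toMul u.1 : ↥V) : Ω)) (sub_eq_zero.1 h1)
    simp only [hρ] at h2
    have h3 : ((Additive.toMul w.1 : ↥V) : Ω) = ⁅(x : Ω), v⁆ := by
      rw [hw, Prod.fst_sub, toMul_sub, div_eq_mul_inv, Subgroup.coe_mul, hρ, Subgroup.coe_inv, commutatorElement_def]
      rfl
    rw [h3] at h2
    have h4 : Commute (z : Ω) ⁅(x : Ω), v⁆ := mul_inv_eq_iff_eq_mul.1 h2
    show (z : Ω) * ⁅v, (x : Ω)⁆ = ⁅v, (x : Ω)⁆ * z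
    rw [← commutatorElement_inv]
    exact h4.inv_right.eq
  · intro g hg
    have hle : Subgroup.closure {x : Ω | ∃ h ∈ G, ∃ a ∈ A.map G.subtype, x = h * a * h⁻¹} ≤
        (normalizer (A : Set ↥G)).map G.subtype := by
      refine (closure_le _).2 ?_
      rintro _ ⟨h, hh, _, ⟨a, ha, rfl⟩, rfl⟩
      have h1 := quadratic_conj ρ (⟨h, hh⟩ : ↥G) (hAN a ha a ha)
      have h2 := hfinal _ h1
      exact Subgroup.mem_map_of_mem G.subtype h2
    obtain ⟨g', hg', rfl⟩ := hle hg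
    rintro _ ⟨a, ha, rfl⟩
    exact ⟨g' * a * g'⁻¹, (mem_normalizer_iff.1 hg' a).1 ha, rfl⟩


/-- Let p ≥ 5 be a prime and, inside an ambient finite group, let G be a p-subgroup acting faithfully by conjugation on an elementary abelian p-subgroup V that it normalizes (only the identity of G centralizes V). Suppose V is an F-module for G: some nontrivial elementary abelian subgroup E of G satisfies #E · #C_V(E) ≥ #V. Then G contains such an offender A that moreover acts quadratically on V ([V, A, A] = 1) and is normal in its normal closure in G. -/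
theorem result {Ω : Type*} [Group Ω] [Finite Ω] (p : ℕ) [Fact p.Prime] (hp : 5 ≤ p) (V G : Subgroup Ω) (hV : Cfsg.IsElementaryAbelian p V) (hG : IsPGroup p ↥G) (hGV : G ≤ Subgroup.normalizer (V : Set Ω)) (hfaith : G ⊓ Subgroup.centralizer (V : Set Ω) = ⊥) (hF : ∃ E : Subgroup Ω, E ≤ G ∧ E ≠ ⊥ ∧ Cfsg.IsElementaryAbelian p E ∧ Nat.card ↥V ≤ Nat.card ↥E * Nat.card ↥(V ⊓ Subgroup.centralizer (E : Set Ω))) : ∃ A : Subgroup Ω, A ≤ G ∧ A ≠ ⊥ ∧ Cfsg.IsElementaryAbelian p A ∧ Nat.card ↥V ≤ Nat.card ↥A * Nat.card ↥(V ⊓ Subgroup.centralizer (A : Set Ω)) ∧ ⁅⁅V, A⁆, A⁆ = ⊥ ∧ ∀ g ∈ Subgroup.closure {x : Ω | ∃ h ∈ G, ∃ a ∈ A, x = h * a * h⁻¹}, ∀ a ∈ A, g * a * g⁻¹ ∈ A := by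
  exact core hp hV hG hGV hfaith hF

end Cfsg.Agent.S1935
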