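import Cfsg.Statements.S2015
import Cfsg.Agent.Lib.Sig.TransferApps

set_option autoImplicit false
universe u
open Cfsg

namespace Cfsg.Agent.S2015

/-- For p ≥ 5, every finite p-group P has a characteristic subgroup K containing Z(P), depending only on P, whose normalizer controls transfer wherever P is a Sylow subgroup: for every finite group G and every embedding ι of P onto a Sylow p-subgroup of G, the intersection of ι(P) with the derived subgroup of G equals its intersection with the derived subgroup of N_G(ι(K)). -/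
theorem result (p : ℕ) [Fact p.Prime] (hp : 5 ≤ p) (P : Type u) [Group P] [Finite P] (hP : IsPGroup p P) : ∃ K : Subgroup P, K.Characteristic ∧ Subgroup.center P ≤ K ∧ ∀ (G : Type u) [Group G] [Finite G] (ι : P →* G), Function.Injective ι → (∃ T : Sylow p G, (T : Subgroup G) = ι.range) → ι.range ⊓ commutator G = ι.range ⊓ (commutator ↥(Subgroup.normalizer ((K.map ι : Subgroup G) : Set G))).map (Subgroup.normalizer ((K.map ι : Subgroup G) : Set G)).subtype := by
  refine ⟨Cfsg.kInfLower P, Subgroup.characteristic_iff_map_eq.2 fun φ =>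
    Cfsg.Lib.Sig.map_kInfLower_equiv φ, (Cfsg.Lib.Sig.center_le_kInf P).1, ?_⟩
  intro G _ _ ι hι hT
  obtain ⟨T, hT⟩ := hT
  have e : (Cfsg.kInfLower P).map ι = Cfsg.inducedFunctor Cfsg.kInfLower ι.range := by
    show _ = (Cfsg.kInfLower ↥ι.range).map ι.range.subtype
    rw [← Cfsg.Lib.Sig.map_kInfLower_equiv (MonoidHom.ofInjective hι), Subgroup.map_map]
    rfl
  have h := (Cfsg.Lib.Sig.controlsTransferIn_of_step (Cfsg.Lib.Sig.isCharPFunctor_kInfLower p)
    (X := G) (fun _ _ _ _ _ _ _ => (Cfsg.Lib.Sig.transferStep_kInf hp).1)).2 T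
  rw [hT] at h
  rw [e, h, _root_.commutator_def, Subgroup.map_commutator, ← MonoidHom.range_eq_map,
    Subgroup.range_subtype]

end Cfsg.Agent.S2015
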