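import Cfsg.Statements.S1936
import Cfsg.Agent.Lib.Solv.AbelianPPrimeUniq
import Cfsg.Agent.S2015
import Cfsg.Agent.S0144

set_option autoImplicit false
open Cfsg

namespace Cfsg.Agent.S1936

open Subgroup Cfsg.Lib Cfsg.Lib.AbelianPPrime
open scoped Pointwise commutatorElement

set_option linter.unusedSectionVars false

universe u

theorem eq_top_of_sup_commutator {K : Type u} [Group K] [Group.IsSolvable K] (L : Subgroup K)
    [L.Normal] (h : L ⊔ commutator K = ⊤) : L = ⊤ := by
  by_contra hne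
  have : Nontrivial (K ⧸ L) := QuotientGroup.nontrivial_iff.2 hne
  refine (Group.IsSolvable.commutator_lt_top_of_nontrivial (K ⧸ L)).ne ?_
  have hs := QuotientGroup.mk'_surjective L
  rw [commutator_def, ← Subgroup.map_top_of_surjective _ hs, ← Subgroup.map_commutator,
    ← commutator_def]
  have h1 := congrArg (Subgroup.map (QuotientGroup.mk' L)) h
  rwa [Subgroup.map_sup, QuotientGroup.map_mk'_self, bot_sup_eq] at h1

/-- If a Sylow `p`-subgroup of a solvable member lies in the derived group, it is normal. -/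
theorem pGroup_le_pCore {K : Type u} [Group K] [Finite K] [Group.IsSolvable K] {p : ℕ}
    [hp : Fact p.Prime] (A : Subgroup K) [IsMulCommutative A] (hc : (Nat.card A).Coprime p) {n : ℕ}
    (hi : A.index = p ^ n) (P : Sylow p K) (hP : (P : Subgroup K) ≤ commutator K)
    (D : Subgroup K) (hD : IsPGroup p D) : D ≤ Cfsg.pCore p K := by
  obtain ⟨hn, -⟩ := solvable_structure A hc hi
  set L := Cfsg.pCore p K ⊔ A with hL
  have htop : (P : Subgroup K) ⊔ A = ⊤ := by
    refine eq_top_of_card_eq _ (Nat.le_antisymm (card_le_card_group _) ?_)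
    refine Nat.le_of_dvd Nat.card_pos ?_
    have hmul := A.card_mul_index
    rw [hi] at hmul
    rw [← hmul]
    refine (hc.pow_right n).mul_dvd_of_dvd_of_dvd (card_dvd_of_le le_sup_right) ?_
    refine dvd_trans ?_ (card_dvd_of_le (le_sup_left (a := (P : Subgroup K)) (b := A)))
    rw [P.card_eq_multiplicity]
    refine Nat.pow_dvd_pow _ ((hp.out.pow_dvd_iff_le_factorization Nat.card_pos.ne').1 ?_)
    rw [← hi]
    exact A.index_dvd_card
  have hLtop : L = ⊤ := by
    refine eq_top_of_sup_commutator L (top_le_iff.1 ?_)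
    rw [← htop]
    exact sup_le (hP.trans le_sup_right) (le_sup_right.trans le_sup_left)
  set f := QuotientGroup.mk' (Cfsg.pCore p K)
  have h1 : D.map f = ⊥ := by
    refine Subgroup.eq_bot_of_card_eq _ ?_
    obtain ⟨k, hk⟩ := (hD.map f).exists_card_eq
    have h2 : Nat.card (D.map f) ∣ Nat.card A := by
      refine (card_subgroup_dvd_card _).trans ?_
      have h3 : A.map f = ⊤ := by
        rw [← Subgroup.map_top_of_surjective f (QuotientGroup.mk'_surjective _), ← hLtop, hL,
          Subgroup.map_sup, QuotientGroup.map_mk'_self, bot_sup_eq]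
      rw [← card_top (G := K ⧸ Cfsg.pCore p K), ← h3]
      exact card_map_dvd A f
    rw [hk] at h2 ⊢
    exact Nat.eq_one_of_dvd_coprimes (hc.pow_right k) h2 dvd_rfl
  have := (map_eq_bot_iff D).1 h1
  rwa [QuotientGroup.ker_mk'] at this

theorem exists_hall {K : Type u} [Group K] [Finite K] [Group.IsSolvable K] {p : ℕ}
    [hp : Fact p.Prime] (h : Hyp p K) :
    ∃ A : Subgroup K, IsMulCommutative A ∧ (Nat.card A).Coprime p ∧
      A.index = p ^ (Nat.card K).factorization p := by
  have hN : Nat.card K ≠ 0 := Nat.card_pos.ne'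
  have hmul : Nat.card K = (Nat.card K / p ^ (Nat.card K).factorization p) *
      p ^ (Nat.card K).factorization p :=
    (Nat.div_mul_cancel (Nat.ordProj_dvd _ _)).symm
  obtain ⟨A, hA⟩ := Solv.hall_exists hmul ((Nat.coprime_ordCompl hp.out hN).pow_left _).symm
  have hc : (Nat.card A).Coprime p := hA ▸ (Nat.coprime_ordCompl hp.out hN).symm
  refine ⟨A, (h A hc).1, hc, ?_⟩
  have h3 := A.card_mul_index
  rw [hA] at h3
  exact Nat.eq_of_mul_eq_mul_left (hA ▸ Nat.card_pos) (h3.trans hmul)

variable {G : Type u} [Group G] [Finite G] {p : ℕ} [hp : Fact p.Prime]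

/-- The normaliser of a Sylow `p`-subgroup has no `p`-quotient. -/
theorem sylow_le_commutator (h : MinCase p G) (P : Sylow p G) (hP : (P : Subgroup G) ≠ ⊥) :
    (P : Subgroup G) ≤ ⁅normalizer ((P : Subgroup G) : Set G),
      normalizer ((P : Subgroup G) : Set G)⁆ := by
  obtain ⟨K, hKc, hKz, hK⟩ := Cfsg.Agent.S2015.result p h.five ↥(P : Subgroup G) P.2
  have hK' := hK G (P : Subgroup G).subtype (subtype_injective _) ⟨P, (range_subtype _).symm⟩
  rw [range_subtype, h.commutator_eq_top, inf_top_eq] at hK'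
  set W := K.map (P : Subgroup G).subtype with hW
  have : Nontrivial (P : Subgroup G) := (nontrivial_iff_ne_bot _).2 hP
  have hWne : W ≠ ⊥ := by
    rw [hW, Ne, map_eq_bot_iff_of_injective _ (subtype_injective _)]
    intro hb
    have := P.2.center_nontrivial
    exact (nontrivial_iff_ne_bot _).1 this (le_bot_iff.1 (hb ▸ hKz))
  have hWp : IsPGroup p W := (P.2.to_subgroup K).map _
  set N := normalizer (W : Set G) with hN
  have hNt : N ≠ ⊤ := h.normalizer_ne_top hWne (h.ne_top_of_pGroup hWp)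
  have := h.sol N hNt
  have hNP : normalizer ((P : Subgroup G) : Set G) ≤ N := Core.normalizer_le_normalizer_map_char K
  have hPN : (P : Subgroup G) ≤ N := le_normalizer.trans hNP
  have hPc : (P : Subgroup G) ≤ ⁅N, N⁆ := by
    rw [← map_subtype_commutator]
    exact hK'.le.trans inf_le_right
  obtain ⟨A, hAa, hAc, hAi⟩ := exists_hall (h.hyp.of_injective N.subtype N.subtype_injective)
  have hP' : (P.subtype hPN : Subgroup N) ≤ commutator N := by
    rw [Sylow.coe_subtype]
    intro x hx
    obtain ⟨z, hz, hzx⟩ : (x : G) ∈ (commutator N).map N.subtype := by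
      rw [map_subtype_commutator]; exact hPc hx
    exact (Subtype.ext hzx : z = x) ▸ hz
  have hle : (P.subtype hPN : Subgroup N) ≤ Cfsg.pCore p N :=
    pGroup_le_pCore A hAc hAi _ hP' _ (P.subtype hPN).2
  have heq : (P.subtype hPN : Subgroup N) = Cfsg.pCore p N :=
    le_antisymm hle (Core.pCore_le_sylow _)
  have hopIn : opIn p N = (P : Subgroup G) := by
    rw [opIn, ← heq, Sylow.coe_subtype, map_subgroupOf_eq_of_le hPN]
  have hNN : N = normalizer ((P : Subgroup G) : Set G) :=
    le_antisymm (hopIn ▸ le_normalizer_opIn N) hNP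
  rwa [hNN] at hPc

/-- The minimal nonsolvable example does not exist. -/
theorem false_of_minCase (h : MinCase p G) : False := by
  classical
  obtain ⟨P⟩ : Nonempty (Sylow p G) := inferInstance
  have hG0 : Nat.card G ≠ 0 := Nat.card_pos.ne'
  have hP : (P : Subgroup G) ≠ ⊥ := fun hb => by
    have h1 := P.not_dvd_index
    rw [hb, index_bot] at h1
    exact h.ne_top_of_coprime (H := ⊤)
      (by rw [card_top]; exact ((hp.out.coprime_iff_not_dvd).2 h1).symm) rfl
  set N := normalizer ((P : Subgroup G) : Set G) with hN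
  have hNt : N ≠ ⊤ := h.normalizer_ne_top hP (h.ne_top_of_pGroup P.2)
  have := h.sol N hNt
  have hPN : (P : Subgroup G) ≤ N := le_normalizer
  have hPc : (P : Subgroup G) ≤ ⁅N, N⁆ := sylow_le_commutator h P hP
  obtain ⟨B, hBa, hBc, hBi⟩ := exists_hall (h.hyp.of_injective N.subtype N.subtype_injective)
  set A₀ := B.map N.subtype with hA₀
  have hA₀c : (Nat.card A₀).Coprime p := by rwa [hA₀, Core.card_map_subtype]
  have hexp : ∀ n, Nat.card N = n → n.factorization p = (Nat.card G).factorization p := by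
    rintro n rfl
    refine Nat.pow_right_injective hp.out.two_le ?_
    show p ^ _ = p ^ _
    rw [← (P.subtype hPN).card_eq_multiplicity, ← P.card_eq_multiplicity, Sylow.coe_subtype,
      Nat.card_congr (subgroupOfEquivOfLe hPN).toEquiv]
  have hA₀mod : Nat.card A₀ ≡ 1 [MOD p] := by
    have h1 := B.card_mul_index
    rw [hBi, hexp _ rfl, ← Core.card_map_subtype, ← hA₀] at h1
    have h2 := N.card_mul_index
    rw [← h1] at h2
    have h3 : Nat.card G / p ^ (Nat.card G).factorization p = Nat.card A₀ * N.index := by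
      rw [Nat.div_eq_iff_eq_mul_left (Nat.pow_pos hp.out.pos) (Nat.ordProj_dvd _ _)]
      refine h2.symm.trans ?_
      ring
    have h4 := h.ordCompl_modEq_one
    rw [h3] at h4
    have h5 : N.index ≡ 1 [MOD p] := by
      have e : Nat.card (Sylow p G) = N.index := P.card_eq_index_normalizer
      rw [← e]
      exact card_sylow_modEq_one p G
    have h6 := (h5.mul_left (Nat.card A₀)).symm.trans h4
    simpa using h6
  have hA₀a : IsMulCommutative A₀ := (h.hyp _ hA₀c).1
  have hnc : ¬ IsCyclic A₀ := by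
    intro hcyc
    obtain ⟨g, hg⟩ := IsCyclic.exists_ofOrder_eq_natCard (α := A₀)
    have h1 : orderOf g ∣ p - 1 := by
      refine orderOf_dvd_of_pow_eq_one (Subtype.ext ?_)
      simpa using (h.hyp _ hA₀c).2 g g.2
    rw [hg] at h1
    have h2 := Nat.le_of_dvd (by have := h.five; omega) h1
    have h3 : Nat.card A₀ = 1 := by
      have h4 := hA₀mod
      rw [Nat.ModEq, Nat.mod_eq_of_lt (by have := h.five; omega),
        Nat.mod_eq_of_lt hp.out.one_lt] at h4
      exact h4
    have h4 : (P : Subgroup G) = N := by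
      refine eq_of_le_of_card_ge hPN (le_of_eq ?_)
      have h5 := B.card_mul_index
      rw [hBi, hexp _ rfl, ← Core.card_map_subtype, ← hA₀, h3, one_mul] at h5
      rw [← h5, P.card_eq_multiplicity]
    rw [← h4] at hPc
    have : Nontrivial (P : Subgroup G) := (nontrivial_iff_ne_bot _).2 hP
    have := P.2.isNilpotent
    refine (Group.IsSolvable.commutator_lt_top_of_nontrivial (P : Subgroup G)).ne
      (map_injective (subtype_injective _) ?_)
    rw [map_subtype_commutator, ← MonoidHom.range_eq_map, range_subtype]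
    exact le_antisymm (commutator_le.2 fun a ha b hb =>
      mul_mem (mul_mem (mul_mem ha hb) (inv_mem ha)) (inv_mem hb)) hPc
  -- `x` and `A`
  have hA₀1 : Nat.card A₀ ≠ 1 := fun e => hnc (by
    have : Subsingleton A₀ := (Nat.card_eq_one_iff_unique.1 e).1
    exact isCyclic_of_subsingleton)
  obtain ⟨r, hr, hrA⟩ := Nat.exists_prime_and_dvd hA₀1
  have := Fact.mk hr
  have hrp : r ≠ p := by
    rintro rfl
    exact (hr.coprime_iff_not_dvd.1 hA₀c.symm) hrA
  have hrG : r ∣ Nat.card G := hrA.trans (card_subgroup_dvd_card _)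
  obtain ⟨x, hx⟩ := exists_prime_orderOf_dvd_card' r hrA
  have hx1 : (x : G) ≠ 1 := fun e => by
    rw [← Subgroup.orderOf_coe, e, orderOf_one] at hx
    exact hr.one_lt.ne hx
  set C := centralizer ({(x : G)} : Set G) with hC
  have hCt : C ≠ ⊤ := h.centralizer_ne_top hx1
  have := h.sol C hCt
  have hA₀C : A₀ ≤ C := fun a ha => mem_centralizer_singleton_iff.2
    (congrArg Subtype.val (hA₀a.is_comm.comm ⟨a, ha⟩ x))
  have hC0 : Nat.card C ≠ 0 := Nat.card_pos.ne'
  have hmul : Nat.card C = (Nat.card C / p ^ (Nat.card C).factorization p) *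
      p ^ (Nat.card C).factorization p :=
    (Nat.div_mul_cancel (Nat.ordProj_dvd _ _)).symm
  have hcop := ((Nat.coprime_ordCompl hp.out hC0).pow_left ((Nat.card C).factorization p)).symm
  obtain ⟨A', hA', hA₀A'⟩ := Solv.hall_dominance hmul hcop (K := A₀.subgroupOf C)
    (by rw [Nat.card_congr (subgroupOfEquivOfLe hA₀C).toEquiv]; exact hA₀c.pow_right _)
  set A := A'.map C.subtype with hA
  have hAc : (Nat.card A).Coprime p := by
    rw [hA, Core.card_map_subtype, hA']
    exact (Nat.coprime_ordCompl hp.out hC0).symm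
  have hA₀A : A₀ ≤ A := by
    rw [← map_subgroupOf_eq_of_le hA₀C]
    exact map_mono hA₀A'
  have hAC : ∀ B : Subgroup G, (x : G) ∈ B → IsMulCommutative B → B ≤ C := fun B hxB hB b hb =>
    mem_centralizer_singleton_iff.2 (congrArg Subtype.val (hB.is_comm.comm ⟨b, hb⟩ ⟨x, hxB⟩))
  have hmax : IsMaxPPrime p A := by
    refine ⟨hAc, fun B hAB hB => (eq_of_le_of_card_ge hAB ?_).symm⟩
    have hBC : B ≤ C := hAC B (hAB (hA₀A x.2)) (h.hyp B hB).1
    rw [hA, Core.card_map_subtype, hA']
    refine Nat.le_of_dvd (Nat.ordCompl_pos p hC0) ?_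
    refine (hB.pow_right ((Nat.card C).factorization p)).dvd_of_dvd_mul_right ?_
    rw [← hmul]
    exact card_dvd_of_le hBC
  have hAa : IsMulCommutative A := (h.hyp A hAc).1
  -- a Sylow `r`-subgroup inside `A`
  obtain ⟨R, hRA⟩ : ∃ R : Sylow r G, (R : Subgroup G) ≤ A := by
    have hxr : IsPGroup r (zpowers (x : G)) :=
      IsPGroup.of_card (n := 1) (by rw [Nat.card_zpowers, pow_one, Subgroup.orderOf_coe, hx])
    obtain ⟨R₀, hR₀⟩ := hxr.exists_le_sylow
    have hR₀c : (Nat.card (R₀ : Subgroup G)).Coprime p := coprime_of_isPGroup_prime hrp R₀.2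
    have hR₀C : (R₀ : Subgroup G) ≤ C := hAC _ (hR₀ (mem_zpowers _)) (h.hyp _ hR₀c).1
    have hd : r ^ (Nat.card G).factorization r ∣ Nat.card A := by
      rw [← R₀.card_eq_multiplicity, hA, Core.card_map_subtype, hA']
      refine (hR₀c.pow_right ((Nat.card C).factorization p)).dvd_of_dvd_mul_right ?_
      rw [← hmul]
      exact card_dvd_of_le hR₀C
    obtain ⟨R₁, hR₁⟩ := Sylow.exists_subgroup_card_pow_prime r hd
    exact ⟨Sylow.ofCard (R₁.map A.subtype) (by rw [Core.card_map_subtype]; exact hR₁),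
      map_subtype_le _⟩
  obtain ⟨hRa, P₀, hP₀, hP₀N, hfix⟩ := h.sylow_facts hrp hrG R
  -- its elements of order dividing `r`
  let E : Subgroup G :=
    { carrier := {y | y ∈ (R : Subgroup G) ∧ y ^ r = 1}
      one_mem' := ⟨one_mem _, one_pow r⟩
      mul_mem' := fun {a b} ha hb => ⟨mul_mem ha.1 hb.1, by
        have hc : Commute a b := congrArg Subtype.val (hRa.is_comm.comm ⟨a, ha.1⟩ ⟨b, hb.1⟩)
        rw [hc.mul_pow, ha.2, hb.2, one_mul]⟩
      inv_mem' := fun {a} ha => ⟨inv_mem ha.1, by rw [inv_pow, ha.2, inv_one]⟩ }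
  have hER : E ≤ R := fun y hy => hy.1
  have hEnorm : normalizer ((R : Subgroup G) : Set G) ≤ normalizer (E : Set G) :=
    Subgroup.le_normalizer_iff.2 fun g hg y hy =>
      ⟨(mem_normalizer_iff.1 hg y).1 hy.1, by rw [conj_pow, hy.2, mul_one, mul_inv_cancel]⟩
  have hEmod := h.sylow_card_modEq_one hrp hrG R E hER hEnorm
  have hR1 : (R : Subgroup G) ≠ ⊥ := R.ne_bot_of_dvd_card hrG
  have hE3 : r ^ 3 ≤ Nat.card E := by
    obtain ⟨k, hk⟩ := (R.2.to_le hER).exists_card_eq
    have hk0 : k ≠ 0 := by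
      rintro rfl
      rw [pow_zero, card_eq_one] at hk
      obtain ⟨n, hn⟩ := R.2.exists_card_eq
      have hn0 : n ≠ 0 := by
        rintro rfl
        rw [pow_zero, card_eq_one] at hn
        exact hR1 hn
      obtain ⟨y, hy⟩ := exists_prime_orderOf_dvd_card' (G := (R : Subgroup G)) r
        (by rw [hn]; exact dvd_pow_self r hn0)
      have hyE : (y : G) ∈ E := ⟨y.2, orderOf_dvd_iff_pow_eq_one.1 (by rw [Subgroup.orderOf_coe, hy])⟩
      rw [hk, mem_bot] at hyE
      rw [← Subgroup.orderOf_coe, hyE, orderOf_one] at hy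
      exact hr.one_lt.ne hy
    rw [hk] at hEmod ⊢
    refine Nat.pow_le_pow_right hr.pos ?_
    have hlt := h.lt_prime hr hrp hrG
    by_contra hk3
    have h2 : k = 1 ∨ k = 2 := by omega
    rcases h2 with rfl | rfl
    · rw [pow_one, Nat.ModEq, Nat.mod_eq_of_lt hlt, Nat.mod_eq_of_lt hp.out.one_lt] at hEmod
      exact hr.one_lt.ne' hEmod
    · have h3 : p ∣ r ^ 2 - 1 := (Nat.modEq_iff_dvd' (Nat.one_le_pow _ _ hr.pos)).1 hEmod.symm
      have h4 : r ^ 2 - 1 = (r + 1) * (r - 1) := by simpa using Nat.sq_sub_sq r 1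
      rw [h4] at h3
      have h5 := h.dvd_sub_one hr hrp hrG
      have := hr.two_le
      rcases hp.out.dvd_mul.1 h3 with h6 | h6
      · have h7 := Nat.le_of_dvd (by omega) h6
        have h8 : r = p - 1 := by omega
        have h9 : ¬ r = 2 := by have := h.five; omega
        have h10 : Odd r := hr.odd_of_ne_two h9
        have h11 : Odd p := hp.out.odd_of_ne_two (by have := h.five; omega)
        obtain ⟨a, ha⟩ := h10
        obtain ⟨b, hb⟩ := h11
        omega
      · have := Nat.le_of_dvd (by omega) h6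
        omega
  obtain ⟨Q, hQ, hAQ, hQmax⟩ :=
    h.exists_max_invariant hmax hr E (hER.trans hRA) (fun y hy => hy.2) hE3
  -- the subgroup `M`
  have hA1 : A ≠ ⊥ := fun hb => hR1 (le_bot_iff.1 (hb ▸ hRA))
  have hAN : A ≤ normalizer (A : Set G) := le_normalizer
  have hNAQ : normalizer (A : Set G) ≤ normalizer (Q : Set G) := by
    intro n hn
    refine Fusion.le_normalizer_of_conj_mem fun y hy => ?_
    have hle : Q.map (MulAut.conj n).toMonoidHom ≤ Q := by
      refine hQmax _ (hQ.map _) (Subgroup.le_normalizer_iff.2 ?_)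
      rintro a ha _ ⟨z, hz, rfl⟩
      refine ⟨n⁻¹ * a * n * z * (n⁻¹ * a * n)⁻¹, ?_, by simp [mul_assoc]⟩
      exact Subgroup.le_normalizer_iff.1 hAQ _ ((mem_normalizer_iff''.1 hn a).1 ha) z hz
    exact hle ⟨y, hy, rfl⟩
  obtain ⟨M, hMt, hQM, hNAM⟩ : ∃ M : Subgroup G,
      M ≠ ⊤ ∧ Q ≤ M ∧ normalizer (A : Set G) ≤ M := by
    by_cases hQ1 : Q = ⊥
    · exact ⟨_, h.normalizer_ne_top hA1 (h.ne_top_of_coprime hAc), hQ1 ▸ bot_le, le_rfl⟩
    · exact ⟨_, h.normalizer_ne_top hQ1 (h.ne_top_of_pGroup hQ), le_normalizer, hNAQ⟩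
  have hMall : ∀ H : Subgroup G, A ≤ H → H ≠ ⊤ → H ≤ M := by
    intro H hAH hH y hy
    obtain ⟨hLn, -⟩ := h.hall_structure hmax hAH hH
    set O := opIn p H with hO
    have hAO : A ≤ normalizer (O : Set G) := hAH.trans (le_normalizer_opIn H)
    have hOM : O ≤ M := (hQmax O (isPGroup_opIn H) hAO).trans hQM
    have hLH : O ⊔ A ≤ H := sup_le (opIn_le H) hAH
    have hLt : O ⊔ A ≠ ⊤ := fun e => hH (top_le_iff.1 (e ▸ hLH))
    have := h.sol _ hLt
    obtain ⟨n, hn⟩ := h.exists_relIndex_pow hmax le_sup_right hLt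
    set A₁ := A.map (MulAut.conj y).toMonoidHom
    have hA₁L : A₁ ≤ O ⊔ A := by
      rintro _ ⟨a, ha, rfl⟩
      exact Subgroup.le_normalizer_iff.1 hLn y hy a (mem_sup_right ha)
    have hAcard : Nat.card (A.subgroupOf (O ⊔ A)) = Nat.card A :=
      Nat.card_congr (subgroupOfEquivOfLe le_sup_right).toEquiv
    obtain ⟨g, hg⟩ := Solv.hall_conj (m := Nat.card A) (k := p ^ n)
      (by rw [← hn, Core.card_mul_relIndex le_sup_right]) (hAc.pow_right n)
      hAcard (K := A₁.subgroupOf (O ⊔ A))
      (by rw [Nat.card_congr (subgroupOfEquivOfLe hA₁L).toEquiv,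
        card_map_of_injective (MulAut.conj y).injective])
    have hgy : (g : G)⁻¹ * y ∈ normalizer (A : Set G) := by
      refine Fusion.le_normalizer_of_conj_mem fun a ha => ?_
      have h1 : (⟨y * a * y⁻¹, hA₁L ⟨a, ha, rfl⟩⟩ : ↥(O ⊔ A)) ∈
          MulAut.conj g • A.subgroupOf (O ⊔ A) := by
        rw [hg]; exact ⟨a, ha, rfl⟩
      rw [mem_smul_pointwise_iff_exists] at h1
      obtain ⟨b, hb, hbe⟩ := h1
      have h2 : (g : G) * b * (g : G)⁻¹ = y * a * y⁻¹ := congrArg Subtype.val hbe
      have h3 : (g : G)⁻¹ * y * a * ((g : G)⁻¹ * y)⁻¹ = b := by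
        rw [show (b : G) = (g : G)⁻¹ * ((g : G) * b * (g : G)⁻¹) * g by group, h2]
        group
      rw [h3]
      exact hb
    have hgM : (g : G) ∈ M := sup_le hOM (hAN.trans hNAM) g.2
    simpa using M.mul_mem hgM (hNAM hgy)
  have hAM : A ≤ M := hAN.trans hNAM
  have hRN : normalizer ((R : Subgroup G) : Set G) ≤ M := by
    refine hMall _ ?_ (h.normalizer_ne_top hR1
      (h.ne_top_of_coprime (coprime_of_isPGroup_prime hrp R.2)))
    refine Subgroup.le_normalizer_iff.2 fun a ha y hy => ?_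
    have : a * y = y * a := congrArg Subtype.val (hAa.is_comm.comm ⟨a, ha⟩ ⟨y, hRA hy⟩)
    rwa [this, mul_inv_cancel_right]
  have hPM : (P : Subgroup G) ≤ M := by
    refine (Coprime.le_iSup_centralizer_of_not_isCyclic hnc (map_subtype_le B) ?_).trans ?_
    · obtain ⟨k, hk⟩ := P.2.exists_card_eq
      rw [hk]
      exact hA₀c.pow_right k
    · refine iSup_le fun a => inf_le_right.trans (hMall _ ?_ (h.centralizer_ne_top a.2.2))
      intro b hb
      exact mem_centralizer_singleton_iff.2
        (congrArg Subtype.val (hAa.is_comm.comm ⟨b, hb⟩ ⟨a, hA₀A a.2.1⟩))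
  have hNM : N ≤ M := by
    have hgen : (P.subtype hPN : Subgroup N) ⊔ B = ⊤ := by
      refine eq_top_of_card_eq _ (Nat.le_antisymm (card_le_card_group _) ?_)
      refine Nat.le_of_dvd Nat.card_pos ?_
      rw [← B.card_mul_index, hBi]
      refine (hBc.pow_right _).mul_dvd_of_dvd_of_dvd (card_dvd_of_le le_sup_right) ?_
      rw [← (P.subtype hPN).card_eq_multiplicity]
      exact card_dvd_of_le le_sup_left
    have := congrArg (Subgroup.map N.subtype) hgen
    rw [Subgroup.map_sup, Sylow.coe_subtype, map_subgroupOf_eq_of_le hPN, ← MonoidHom.range_eq_map,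
      range_subtype] at this
    rw [← this]
    exact sup_le hPM (hA₀A.trans hAM)
  -- `M` has a `p`-quotient
  have := h.sol M hMt
  obtain ⟨n, hn⟩ := h.exists_relIndex_pow hmax hAM hMt
  have : IsMulCommutative (A.subgroupOf M) :=
    ⟨⟨fun a b => Subtype.ext (Subtype.ext
      (congrArg Subtype.val (hAa.is_comm.comm ⟨(a : M).1, a.2⟩ ⟨(b : M).1, b.2⟩) :))⟩⟩
  have hPc' : (P.subtype hPM : Subgroup M) ≤ commutator M := by
    rw [Sylow.coe_subtype]
    intro z hz
    obtain ⟨w, hw, hwz⟩ : (z : G) ∈ (commutator M).map M.subtype := by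
      rw [map_subtype_commutator]; exact commutator_mono hNM hNM (hPc hz)
    exact (Subtype.ext hwz : w = z) ▸ hw
  have hP₀M : P₀ ≤ M := hP₀N.trans hRN
  have hle := pGroup_le_pCore (p := p) (A.subgroupOf M)
    (by rw [Nat.card_congr (subgroupOfEquivOfLe hAM).toEquiv]; exact hAc) (n := n) hn _ hPc'
    (P₀.subgroupOf M) (hP₀.of_equiv (subgroupOfEquivOfLe hP₀M).symm)
  refine hR1 ((eq_bot_iff_forall _).2 fun y hy => hfix y hy fun t ht => ?_)
  have ht' : t ∈ opIn p M :=
    ⟨⟨t, hP₀M ht⟩, hle (show (⟨t, hP₀M ht⟩ : M) ∈ P₀.subgroupOf M from ht), rfl⟩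
  have hmem : t * y * t⁻¹ * y⁻¹ ∈ opIn p M ⊓ (R : Subgroup G) := by
    refine ⟨?_, mul_mem ((mem_normalizer_iff.1 (hP₀N ht) y).1 hy) ((R : Subgroup G).inv_mem hy)⟩
    have := (mem_normalizer_iff.1 (le_normalizer_opIn M (hAM (hRA hy))) t⁻¹).1
      (Subgroup.inv_mem _ ht')
    simpa [mul_assoc] using mul_mem ht' this
  rw [inf_eq_bot_of_pGroup_coprime (isPGroup_opIn M) (coprime_of_isPGroup_prime hrp R.2),
    mem_bot, mul_inv_eq_one, mul_inv_eq_iff_eq_mul] at hmem
  exact hmem

theorem main (p : ℕ) [hp : Fact p.Prime] (n : ℕ) : ∀ (G : Type u) [Group G] [Finite G],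
    Nat.card G = n → Hyp p G → Group.IsSolvable G := by
  induction n using Nat.strong_induction_on with
  | _ n ih =>
    intro G _ _ hn hG
    subst hn
    by_contra hns
    have hsub : ∀ H : Subgroup G, H ≠ ⊤ → Group.IsSolvable H := fun H hH =>
      ih _ (Core.lt_card_of_ne_top hH) H rfl (hG.of_injective H.subtype H.subtype_injective)
    have hsimple : IsSimpleGroup G := by
      have : Nontrivial G := by
        by_contra hnt
        rw [not_nontrivial_iff_subsingleton] at hnt
        exact hns (Group.isSolvable_of_comm fun a b => Subsingleton.elim _ _)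
      refine ⟨fun N hN => ?_⟩
      by_contra hcon
      push Not at hcon
      have := hsub N hcon.2
      have : Group.IsSolvable (G ⧸ N) :=
        ih _ (Core.card_quotient_lt hcon.1) _ rfl
          (hG.of_surjective (QuotientGroup.mk' N) (QuotientGroup.mk'_surjective N))
      exact hns (Group.isSolvable_of_ker_le_range N.subtype (QuotientGroup.mk' N)
        (by rw [QuotientGroup.ker_mk', Subgroup.range_subtype]))
    have hdvd : ∀ r : ℕ, r.Prime → r ∣ Nat.card G → r = p ∨ r ∣ p - 1 := by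
      intro r hr hd
      by_cases hne : r = p
      · exact Or.inl hne
      have := Fact.mk hr
      obtain ⟨g, hg⟩ := exists_prime_orderOf_dvd_card' r hd
      refine Or.inr (hg ▸ orderOf_dvd_of_pow_eq_one ((hG _ ?_).2 g (mem_zpowers g)))
      rw [Nat.card_zpowers, hg]
      exact (Nat.coprime_primes hr hp.out).2 hne
    by_cases h5 : 5 ≤ p
    · exact false_of_minCase ⟨hG, hsimple, hns, hsub, h5⟩
    have hp2 := hp.out.two_le
    have h4 : p ≠ 4 := by
      rintro rfl
      exact (by decide : ¬ Nat.Prime 4) hp.out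
    have hG0 : Nat.card G ≠ 0 := Nat.card_pos.ne'
    set m := Nat.card G / p ^ (Nat.card G).factorization p with hm
    have hm2 : ∀ {d : ℕ}, d.Prime → d ∣ m → d = 2 := by
      intro d hd hdm
      rcases hdvd d hd (hdm.trans (Nat.ordCompl_dvd _ _)) with rfl | h1
      · exact absurd hdm (Nat.not_dvd_ordCompl hd hG0)
      · have := Nat.le_of_dvd (by omega) h1
        have := hd.two_le
        omega
    have hm' := Nat.eq_prime_pow_of_unique_prime_dvd (Nat.ordCompl_pos p hG0).ne' hm2
    refine hns (Cfsg.Agent.S0144.result p 2 ((Nat.card G).factorization p) m.primeFactorsList.length hp.out Nat.prime_two ?_)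
    rw [← hm']
    exact (Nat.mul_div_cancel' (Nat.ordProj_dvd _ _)).symm

/-- Let p be a prime and G a finite group in which every subgroup of order prime to p is abelian of exponent dividing p − 1. Then G is solvable. -/
theorem result {G : Type*} [Group G] [Finite G] (p : ℕ) [Fact p.Prime] (h : ∀ H : Subgroup G, (Nat.card ↥H).Coprime p → IsMulCommutative ↥H ∧ ∀ x ∈ H, x ^ (p - 1) = 1) : Group.IsSolvable G :=
  main p _ G rfl h

end Cfsg.Agent.S1936
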