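import Cfsg.Statements.S1939
import Cfsg.Agent.Lib.Sig.Small

set_option autoImplicit false
open Cfsg

namespace Cfsg.Agent.S1939

/-- Let S be a Sylow p-subgroup of the finite group G and a an element of S that is the only G-conjugate of a lying in S. Then every power of a has the same property: for every n, the only G-conjugate of a^n lying in S is a^n. -/
theorem result {G : Type*} [Group G] [Finite G] {p : ℕ} [Fact p.Prime] (S : Sylow p G) (a : G)
    (haS : a ∈ (S : Subgroup G)) (hwc : ∀ g : G, g * a * g⁻¹ ∈ (S : Subgroup G) → g * a * g⁻¹ = a) (n : ℕ) :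
    ∀ g : G, g * a ^ n * g⁻¹ ∈ (S : Subgroup G) → g * a ^ n * g⁻¹ = a ^ n := by
    intro g hb
    set b := g * a ^ n * g⁻¹ with hbdef
    have hcen : ∀ x ∈ (S : Subgroup G), a * x = x * a := by
      intro x hx
      have := hwc x (mul_mem (mul_mem hx haS) (inv_mem hx))
      calc a * x = (x * a * x⁻¹) * x := by rw [this]
        _ = x * a := by group
    have hab : a * b = b * a := hcen b hb
    have hga : (g * a * g⁻¹) * b = b * (g * a * g⁻¹) := by
      rw [hbdef]
      calc g * a * g⁻¹ * (g * a ^ n * g⁻¹) = g * (a * a ^ n) * g⁻¹ := by group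
        _ = g * (a ^ n * a) * g⁻¹ := by rw [← pow_succ', ← pow_succ]
        _ = _ := by group
    set C := Subgroup.centralizer ({b} : Set G)
    have pa : IsPGroup p ↥(Subgroup.zpowers a) := S.2.to_le (Subgroup.zpowers_le.2 haS)
    have haC : Subgroup.zpowers a ≤ C :=
      Subgroup.zpowers_le.2 (Subgroup.mem_centralizer_singleton_iff.2 hab)
    obtain ⟨R, hR⟩ := (pa.of_equiv (Subgroup.subgroupOfEquivOfLe haC).symm).exists_le_sylow
    have hgC : Subgroup.zpowers (g * a * g⁻¹) ≤ C :=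
      Subgroup.zpowers_le.2 (Subgroup.mem_centralizer_singleton_iff.2 hga)
    have pga : IsPGroup p ↥(Subgroup.zpowers (g * a * g⁻¹)) := by
      refine (pa.map (MulAut.conj g).toMonoidHom).to_le ?_
      rw [MonoidHom.map_zpowers]
      simp
    obtain ⟨c, hc⟩ := Cfsg.Lib.Sig.exists_conj_le_sylow R
      (pga.of_equiv (Subgroup.subgroupOfEquivOfLe hgC).symm)
    obtain ⟨x, hx⟩ := Cfsg.Lib.Sig.exists_conj_le_sylow S (R.2.map C.subtype)
    have h1 : x * a * x⁻¹ ∈ (S : Subgroup G) := hx (Cfsg.Lib.Sig.conj_mem_map_conj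
      ⟨⟨a, haC (Subgroup.mem_zpowers a)⟩, hR (Subgroup.mem_subgroupOf.2 (Subgroup.mem_zpowers a)), rfl⟩)
    have h2 : x * ((c : G) * (g * a * g⁻¹) * (c : G)⁻¹) * x⁻¹ ∈ (S : Subgroup G) :=
      hx (Cfsg.Lib.Sig.conj_mem_map_conj ⟨_, hc (Cfsg.Lib.Sig.conj_mem_map_conj
        (Subgroup.mem_subgroupOf.2 (Subgroup.mem_zpowers (g * a * g⁻¹)) :
          (⟨_, hgC (Subgroup.mem_zpowers _)⟩ : ↥C) ∈ (Subgroup.zpowers (g * a * g⁻¹)).subgroupOf C)), rfl⟩)
    have e1 := hwc x h1
    have e3 := hwc (x * ((c : G) * g)) (by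
      convert h2 using 1
      group)
    have e4 : (c : G) * g * a * ((c : G) * g)⁻¹ = a := by
      calc (c : G) * g * a * ((c : G) * g)⁻¹ = x⁻¹ * (x * ((c : G) * g) * a * (x * ((c : G) * g))⁻¹) * x := by group
        _ = x⁻¹ * a * x := by rw [e3]
        _ = x⁻¹ * (x * a * x⁻¹) * x := by rw [e1]
        _ = a := by group
    have hcb : (c : G) * b = b * c := Subgroup.mem_centralizer_singleton_iff.1 c.2
    calc b = (c : G) * b * (c : G)⁻¹ := by rw [hcb]; group
      _ = ((c : G) * g) * a ^ n * ((c : G) * g)⁻¹ := by rw [hbdef]; group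
      _ = ((c : G) * g * a * ((c : G) * g)⁻¹) ^ n := conj_pow.symm
      _ = a ^ n := by rw [e4]

end Cfsg.Agent.S1939
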