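import Cfsg.Statements.S1940
import Cfsg.Agent.Lib.Sig.Small
import Mathlib.GroupTheory.QuotientGroup.Defs
import Mathlib.Algebra.BigOperators.GroupWithZero.Action

set_option autoImplicit false
open Cfsg

namespace Cfsg.Agent.S1940

/-- Let the finite group L act by automorphisms on the finite abelian group M, and let N be an L-invariant subgroup of M such that M/N is a p-group on which L acts trivially (every l • m lies in the coset mN). If every element of M is a product of an element of N and an element fixed by a Sylow p-subgroup T of L, then every element of M is a product of an element of N and an element fixed by all of L. -/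
theorem result {L : Type*} [Group L] [Finite L] {M : Type*} [CommGroup M] [Finite M] [MulDistribMulAction L M]
    {p : ℕ} [Fact p.Prime] (N : Subgroup M) (hN : ∀ (l : L) (m : M), m ∈ N → l • m ∈ N)
    (hquot : IsPGroup p (M ⧸ N)) (htriv : ∀ (l : L) (m : M), (l • m) * m⁻¹ ∈ N) (T : Sylow p L)
    (hT : ∀ m : M, ∃ n ∈ N, ∃ c : M, (∀ t ∈ (T : Subgroup L), t • c = c) ∧ m = n * c) :
    ∀ m : M, ∃ n ∈ N, ∃ c : M, (∀ l : L, l • c = c) ∧ m = n * c := by
    intro m
    classical
    obtain ⟨n₀, hn₀, c, hc, rfl⟩ := hT m
    have := Fintype.ofFinite (L ⧸ (T : Subgroup L))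
    let act : L ⧸ (T : Subgroup L) → M := fun q => Quotient.liftOn' q (fun l => l • c) (by
      intro a b hab
      rw [QuotientGroup.leftRel_apply] at hab
      calc a • c = a • ((a⁻¹ * b) • c) := by rw [hc _ hab]
        _ = b • c := by rw [smul_smul, mul_inv_cancel_left])
    have hact : ∀ (l : L) (q : L ⧸ (T : Subgroup L)), l • act q = act (l • q) := fun l q =>
      Quotient.inductionOn' q fun a => smul_smul l a c
    set c' := ∏ q, act q with hc'
    have hfix : ∀ l : L, l • c' = c' := fun l => by
      rw [hc', Finset.smul_prod']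
      exact Fintype.prod_bijective (fun q => l • q) (MulAction.bijective l) _ _ (hact l)
    have hmod : ((c' : M) : M ⧸ N) = (c : M ⧸ N) ^ Fintype.card (L ⧸ (T : Subgroup L)) := by
      rw [hc', QuotientGroup.mk_prod, ← Finset.card_univ]
      refine Finset.prod_eq_pow_card fun q _ => Quotient.inductionOn' q fun a => ?_
      refine QuotientGroup.eq.2 ?_
      have h := htriv a c
      show (a • c)⁻¹ * c ∈ N
      have e : (a • c)⁻¹ * c = ((a • c) * c⁻¹)⁻¹ := by rw [mul_inv_rev, inv_inv, mul_comm]
      rw [e]
      exact inv_mem h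
    have hcop : (orderOf (c : M ⧸ N)).Coprime (Fintype.card (L ⧸ (T : Subgroup L))) := by
      obtain ⟨k, hk⟩ := IsPGroup.iff_orderOf.1 hquot (c : M ⧸ N)
      rw [hk, ← Nat.card_eq_fintype_card]
      refine Nat.Coprime.pow_left _ ?_
      exact (Fact.out : p.Prime).coprime_iff_not_dvd.2 T.not_dvd_index
    obtain ⟨j, hj⟩ := exists_pow_eq_self_of_coprime hcop.symm
    rw [← hmod] at hj
    refine ⟨n₀ * c * (c' ^ j)⁻¹, ?_, c' ^ j, fun l => by rw [smul_pow', hfix l], by group⟩
    rw [mul_assoc]
    refine mul_mem hn₀ ?_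
    rw [← QuotientGroup.eq_one_iff, QuotientGroup.mk_mul, QuotientGroup.mk_inv, QuotientGroup.mk_pow,
      hj, mul_inv_cancel]

end Cfsg.Agent.S1940
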