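import Cfsg.Statements.S1941
import Cfsg.Agent.Lib.Core.Layer
-- import your own Cfsg.Agent.* helpers here

set_option autoImplicit false
open Cfsg

namespace Cfsg.Agent.S1941

open Subgroup in
open scoped IsMulCommutative in
/-- Let G be a finite group with no nontrivial normal subgroup of order prime to p, T a Sylow p-subgroup of G and E(G) the layer of G (the subgroup generated by its components). An automorphism of G of p-power order that fixes T and E(G) elementwise is inner. -/
theorem result {G : Type*} [Group G] [Finite G] {p : ℕ} [Fact p.Prime] (hcore : Cfsg.pPrimeCore p G = ⊥)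
    (T : Sylow p G) (α : MulAut G) (hα : ∃ j : ℕ, orderOf α = p ^ j) (hfixT : ∀ x ∈ (T : Subgroup G), α x = x)
    (hfixE : ∀ x ∈ Cfsg.layer G, α x = x) : ∃ g : G, ∀ x : G, α x = g * x * g⁻¹ := by
  classical
  set Fs := Cfsg.generalizedFittingSubgroup G with hFs
  haveI : Fs.Normal := inferInstance
  set C := centralizer (Fs : Set G) with hC
  haveI : C.Normal := inferInstance
  have hCF : C ≤ Fs := Cfsg.Lib.Core.centralizer_generalizedFitting_le
  haveI : IsMulCommutative C := ⟨⟨fun a b => Subtype.ext (mem_centralizer_iff.mp b.2 a (hCF a.2))⟩⟩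
  have hFp : Cfsg.fittingSubgroup G ≤ Cfsg.pCore p G := by
    rw [Cfsg.Lib.Core.fittingSubgroup_eq_iSup_pCore]
    refine iSup_le fun r => ?_
    by_cases hr : (r : ℕ) = p
    · rw [hr]
    · refine le_trans (Cfsg.Lib.Core.le_pPrimeCore ?_) (hcore.le.trans bot_le)
      haveI : Fact (r : ℕ).Prime := ⟨r.2⟩
      obtain ⟨n, hn⟩ := (Cfsg.Lib.Core.pCore_isPGroup (r : ℕ) G).exists_card_eq
      rw [hn]
      exact ((Nat.coprime_primes r.2 Fact.out).mpr hr).pow_left n
  have hCp : IsPGroup p C := (Cfsg.Lib.Core.pCore_isPGroup p G).to_le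
    ((Cfsg.Lib.Core.le_fittingSubgroup (Cfsg.Lib.Core.isNilpotent_of_isMulCommutative C)).trans hFp)
  have hfixF : Fs ≤ (α.toMonoidHom).eqLocus (MonoidHom.id G) :=
    sup_le hfixE ((hFp.trans (Cfsg.Lib.Core.pCore_le_sylow T)).trans hfixT)
  have hδ : ∀ g : G, α g * g⁻¹ ∈ C := by
    intro g
    refine mem_centralizer_iff.mpr fun y hy => ?_
    have h1 : g⁻¹ * y * g ∈ Fs := by simpa using (inferInstance : Fs.Normal).conj_mem y hy g⁻¹
    have h2 : α (g⁻¹ * y * g) = g⁻¹ * y * g := hfixF h1
    have h3 : α y = y := hfixF hy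
    rw [map_mul, map_mul, map_inv, h3] at h2
    calc y * (α g * g⁻¹) = α g * ((α g)⁻¹ * y * α g) * g⁻¹ := by group
      _ = α g * g⁻¹ * y := by rw [h2]; group
  let d : G → C := fun g => ⟨α g * g⁻¹, hδ g⟩
  let conjC : G → (C →* C) := fun h =>
    { toFun := fun c => ⟨h * c * h⁻¹, (inferInstance : C.Normal).conj_mem c c.2 h⟩
      map_one' := Subtype.ext (by simp)
      map_mul' := fun a b => Subtype.ext (by simp [mul_assoc]) }
  have hdT : ∀ a b : G, (QuotientGroup.mk a : G ⧸ (T : Subgroup G)) = QuotientGroup.mk b → d a = d b := by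
    intro a b hab
    have h1 := hfixT _ (QuotientGroup.eq.mp hab)
    rw [map_mul, map_inv] at h1
    refine Subtype.ext ?_
    show α a * a⁻¹ = α b * b⁻¹
    calc α a * a⁻¹ = α a * (a⁻¹ * b) * b⁻¹ := by group
      _ = _ := by rw [← h1]; group
  have hmul : ∀ h g : G, d (h * g) = d h * conjC h (d g) := by
    intro h g
    refine Subtype.ext ?_
    show α (h * g) * (h * g)⁻¹ = α h * h⁻¹ * (h * (α g * g⁻¹) * h⁻¹)
    rw [map_mul]; group
  haveI : Fintype (G ⧸ (T : Subgroup G)) := Fintype.ofFinite _
  set u : C := ∏ q : G ⧸ (T : Subgroup G), d q.out with hu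
  have hum : ∀ h : G, u = d h ^ (T : Subgroup G).index * conjC h u := by
    intro h
    calc u = ∏ q : G ⧸ (T : Subgroup G), d ((h • q).out) :=
          (Fintype.prod_equiv (MulAction.toPerm h) _ _ (fun q => rfl)).symm
      _ = ∏ q : G ⧸ (T : Subgroup G), (d h * conjC h (d q.out)) := by
          refine Finset.prod_congr rfl fun q _ => ?_
          rw [← hmul]
          refine hdT _ _ ?_
          rw [QuotientGroup.out_eq']
          conv_lhs => rw [← QuotientGroup.out_eq' q]
          rfl
      _ = _ := by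
          rw [Finset.prod_mul_distrib, Finset.prod_const, Finset.card_univ, ← map_prod, ← hu,
            Subgroup.index, Nat.card_eq_fintype_card]
  have hcop : (Nat.card C).Coprime (T : Subgroup G).index := by
    obtain ⟨n, hn⟩ := hCp.exists_card_eq
    rw [hn]
    exact (((Fact.out : p.Prime).coprime_iff_not_dvd.mpr T.not_dvd_index)).pow_left n
  set e := powCoprime hcop with he
  set w : C := e.symm u with hw
  have hwu : w ^ (T : Subgroup G).index = u := e.apply_symm_apply u
  refine ⟨w, fun x => ?_⟩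
  have h1 := hum x
  rw [← hwu, map_pow, ← mul_pow] at h1
  have h2 : w = d x * conjC x w := e.injective h1
  have h3 : (w : G) = α x * x⁻¹ * (x * w * x⁻¹) := congrArg Subtype.val h2
  calc α x = (α x * x⁻¹ * (x * w * x⁻¹)) * x * (w : G)⁻¹ := by group
    _ = w * x * (w : G)⁻¹ := by rw [← h3]

end Cfsg.Agent.S1941
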