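import Cfsg.Statements.S1944
import Cfsg.Agent.Lib.Sig.PPrimePFusion
import Cfsg.Agent.Lib.Local.Norm

set_option autoImplicit false
open Cfsg

namespace Cfsg.Agent.S1944

/-- Let S be a Sylow p-subgroup of the finite group G and suppose that the centre Z(S) lies in O_{p',p}(G). The elements of S each of which is its only G-conjugate in S form a subgroup W of Z(S); W is then a direct factor of Z(S): there is a subgroup K of Z(S) with W ∩ K = 1 and WK = Z(S). -/
theorem result {G : Type*} [Group G] [Finite G] {p : ℕ} [Fact p.Prime] (S : Sylow p G)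
    (hZ : ((S : Subgroup G) ⊓ Subgroup.centralizer ((S : Subgroup G) : Set G)) ≤ Cfsg.pPrimePCore p G) :
    ∃ W K : Subgroup G, (∀ x : G, x ∈ W ↔ (x ∈ (S : Subgroup G) ∧ ∀ g : G, g * x * g⁻¹ ∈ (S : Subgroup G) → g * x * g⁻¹ = x)) ∧
      K ≤ ((S : Subgroup G) ⊓ Subgroup.centralizer ((S : Subgroup G) : Set G)) ∧ W ⊓ K = ⊥ ∧ W ⊔ K = ((S : Subgroup G) ⊓ Subgroup.centralizer ((S : Subgroup G) : Set G)) := by
  classical
  set P : Subgroup G := (S : Subgroup G) with hP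
  set H := P ⊓ Cfsg.pPrimePCore p G with hH
  set N := Cfsg.Lib.Sig.ppNormalizer S with hN
  set Z := P ⊓ Subgroup.centralizer (P : Set G) with hZdef
  set V := H ⊓ Subgroup.centralizer (H : Set G) with hV
  have hPN : P ≤ N := Cfsg.Lib.Sig.le_ppNormalizer S
  have hNV : N ≤ Subgroup.normalizer (V : Set G) := by
    intro n hn
    rw [Subgroup.mem_normalizer_iff_map_conj_eq]
    have hHn : H.map (MulAut.conj n).toMonoidHom = H := Subgroup.mem_normalizer_iff_map_conj_eq.mp hn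
    refine Subgroup.eq_of_le_of_card_ge ?_
      (Subgroup.card_map_of_injective (MulAut.conj n).injective).ge
    rintro _ ⟨v, ⟨hv1, hv2⟩, rfl⟩
    refine ⟨hHn.le ⟨v, hv1, rfl⟩, ?_⟩
    show MulAut.conj n v ∈ Subgroup.centralizer (H : Set G); rw [Subgroup.mem_centralizer_iff]
    intro h hh
    obtain ⟨h', hh', rfl⟩ := hHn.ge hh
    show MulAut.conj n h' * MulAut.conj n v = MulAut.conj n v * MulAut.conj n h'
    rw [← map_mul, ← map_mul, Subgroup.mem_centralizer_iff.mp hv2 h' hh']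
  haveI : IsMulCommutative V :=
    ⟨⟨fun a b => Subtype.ext (Subgroup.mem_centralizer_iff.mp b.2.2 a.1 a.2.1)⟩⟩
  have hZV : Z ≤ V := fun z hz =>
    ⟨⟨hz.1, hZ hz⟩, Subgroup.mem_centralizer_iff.mpr fun h hh => Subgroup.mem_centralizer_iff.mp hz.2 h hh.1⟩
  set W := V ⊓ Subgroup.centralizer (N : Set G) with hWdef
  have hWZ : W ≤ Z := fun w hw =>
    ⟨hw.1.1.1, Subgroup.mem_centralizer_iff.mpr fun s hs => Subgroup.mem_centralizer_iff.mp hw.2 s (hPN hs)⟩
  refine ⟨W, ?_⟩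
  set ν := Cfsg.Lib.Local.normHom (V := V) P (C := N) hNV with hν
  let K : Subgroup G := (ν.comp (Subgroup.inclusion hZV)).ker.map Z.subtype
  refine ⟨K, ?_, Subgroup.map_subtype_le _, ?_, ?_⟩
  · intro x
    constructor
    · intro hx
      refine ⟨(hWZ hx).1, fun g hg => ?_⟩
      obtain ⟨n, hn, hnx⟩ := Cfsg.Lib.Sig.exists_ppNormalizer_conj S (hWZ hx).1 hg
        (isConj_iff.mpr ⟨g, rfl⟩)
      rw [← hnx, Subgroup.mem_centralizer_iff.mp hx.2 n hn]
      group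
    · rintro ⟨hxP, hfix⟩
      have hxZ : x ∈ Z := ⟨hxP, Subgroup.mem_centralizer_iff.mpr fun s hs =>
        mul_inv_eq_iff_eq_mul.mp (hfix s (P.mul_mem (P.mul_mem hs hxP) (P.inv_mem hs)))⟩
      refine ⟨hZV hxZ, Subgroup.mem_centralizer_iff.mpr fun n hn => ?_⟩
      refine mul_inv_eq_iff_eq_mul.mp (hfix n ?_)
      exact ((Subgroup.mem_normalizer_iff.mp (hNV hn) x).mp (hZV hxZ)).1.1
  · rw [eq_bot_iff]
    rintro x ⟨hxW, ⟨z, hz, rfl⟩⟩
    have h1 : ν ⟨z, hZV z.2⟩ = ⟨z, hZV z.2⟩ ^ P.relIndex N := by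
      refine Cfsg.Lib.Local.normHom_of_fixed fun c hc => ?_
      exact Subgroup.mem_centralizer_iff.mp hxW.2 c hc
    have h2 : ν ⟨z, hZV z.2⟩ = 1 := hz
    rw [h2] at h1
    have h3 : (z : G) ^ P.relIndex N = 1 := (congrArg Subtype.val h1).symm
    obtain ⟨k, hk⟩ := S.2 ⟨z, z.2.1⟩
    have h4 : (P.relIndex N).Coprime (p ^ k) := by
      refine Nat.Coprime.pow_right k ?_
      rw [Nat.coprime_comm, (Fact.out : p.Prime).coprime_iff_not_dvd]
      exact fun h => S.not_dvd_index (h.trans (Subgroup.relIndex_dvd_index_of_le hPN))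
    have h5 : orderOf (z : G) ∣ 1 :=
      h4 ▸ Nat.dvd_gcd (orderOf_dvd_of_pow_eq_one h3) (orderOf_dvd_of_pow_eq_one (congrArg Subtype.val hk))
    rw [Nat.dvd_one, orderOf_eq_one_iff] at h5
    exact Subgroup.mem_bot.mpr h5
  · refine le_antisymm (sup_le hWZ (Subgroup.map_subtype_le _)) fun z hz => ?_
    have hzV : ∀ s ∈ P, s * ((⟨z, hZV hz⟩ : V) : G) = (⟨z, hZV hz⟩ : V) * s := fun s hs =>
      Subgroup.mem_centralizer_iff.mp hz.2 s hs
    set m := P.relIndex N with hm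
    have hcop : m.Coprime (orderOf z) := by
      obtain ⟨k, hk⟩ := S.2 ⟨z, hz.1⟩
      refine Nat.Coprime.coprime_dvd_right (orderOf_dvd_of_pow_eq_one (congrArg Subtype.val hk)) ?_
      refine Nat.Coprime.pow_right k ?_
      rw [Nat.coprime_comm, (Fact.out : p.Prime).coprime_iff_not_dvd]
      exact fun h => S.not_dvd_index (h.trans (Subgroup.relIndex_dvd_index_of_le hPN))
    set u : V := ν ⟨z, hZV hz⟩ with hu
    have huW : (u : G) ∈ W := ⟨u.2, Subgroup.mem_centralizer_iff.mpr fun c hc =>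
      Cfsg.Lib.Local.normHom_fixed hzV hc⟩
    have huu : ν u = u ^ m :=
      Cfsg.Lib.Local.normHom_of_fixed fun c hc => Subgroup.mem_centralizer_iff.mp huW.2 c hc
    obtain ⟨j, hj⟩ := exists_pow_eq_self_of_coprime hcop
    have hwW : ((u : G)) ^ j ∈ W := W.pow_mem huW j
    have hmem : ((z ^ m)⁻¹ * (u : G)) ∈ K := by
      refine ⟨⟨(z ^ m)⁻¹ * (u : G), Z.mul_mem (Z.inv_mem (Z.pow_mem hz m)) (hWZ huW)⟩, ?_, rfl⟩
      show ν ((⟨z, hZV hz⟩ ^ m)⁻¹ * u) = 1
      rw [map_mul, map_inv, map_pow, huu, ← hu, inv_mul_cancel]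
    have hzm : z ^ m ∈ W ⊔ K := by
      have h1 : z ^ m = (u : G) * ((z ^ m)⁻¹ * (u : G))⁻¹ := by group
      rw [h1]
      exact mul_mem (Subgroup.mem_sup_left huW) (inv_mem (Subgroup.mem_sup_right hmem))
    exact hj ▸ pow_mem hzm j

end Cfsg.Agent.S1944
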