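import Cfsg.Statements.S2799
import Cfsg.Agent.Lib.Local.CentralFusion
-- import your own Cfsg.Agent.* helpers here

set_option autoImplicit false
open Cfsg

namespace Cfsg.Agent.S2799

/-- Let S be a Sylow p-subgroup of the finite group G, J(S) the subgroup generated by the abelian subgroups of S of largest order, and x an element of S lying in the centre of N_G(J(S)). Assume that p is odd, or that x is a p-th power of an element of Z(S), or that the symmetric group of degree 4 is not involved in G. Then x is weakly closed in S with respect to G: every G-conjugate of x that lies in S equals x. -/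
theorem result {G : Type*} [Group G] [Finite G] {p : ℕ} [Fact p.Prime] (S : Sylow p G) (x : G) (hxS : x ∈ (S : Subgroup G)) (hxZ : x ∈ (Subgroup.center ↥(Subgroup.normalizer ((Cfsg.thompsonSubgroupAOf (S : Subgroup G)) : Set G))).map (Subgroup.normalizer ((Cfsg.thompsonSubgroupAOf (S : Subgroup G)) : Set G)).subtype) (h : p ≠ 2 ∨ (∃ z ∈ (S : Subgroup G) ⊓ Subgroup.centralizer ((S : Subgroup G) : Set G), z ^ p = x) ∨ ¬ Cfsg.Involves (Equiv.Perm (Fin 4)) G) : ∀ g : G, g * x * g⁻¹ ∈ (S : Subgroup G) → g * x * g⁻¹ = x := by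
  have hx : ∀ n ∈ Subgroup.normalizer ((Cfsg.thompsonSubgroupAOf (S : Subgroup G)) : Set G),
      n * x * n⁻¹ = x := by
    intro n hn
    obtain ⟨⟨y, hy⟩, hyc, rfl⟩ := hxZ
    have h1 : n * y = y * n := congrArg Subtype.val (Subgroup.mem_center_iff.mp hyc ⟨n, hn⟩)
    show n * y * n⁻¹ = y
    rw [h1, mul_inv_cancel_right]
  have hxc : ∀ s ∈ (S : Subgroup G), Commute s x := fun s hs =>
    mul_inv_eq_iff_eq_mul.mp (hx s (Cfsg.Lib.ThompsonA.normalizer_le_normalizer_thompsonSubgroupAOf _
      (Subgroup.le_normalizer hs)))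
  by_cases hp : p ≠ 2
  · exact Cfsg.Lib.Local.Central.weakly_closed S x 1 x (pow_one x).symm (Or.inl hp) hxS hxc hx
  have hp2 : p = 2 := not_not.mp hp
  rcases h with h | ⟨z, hz, hzp⟩ | h
  · exact absurd hp2 h
  · exact Cfsg.Lib.Local.Central.weakly_closed S z 2 x (by rw [← hzp, hp2])
      (Or.inr ⟨hp2, Or.inl rfl⟩) hz.1
      (fun s hs => Subgroup.mem_centralizer_iff.mp hz.2 s hs) hx
  · exact Cfsg.Lib.Local.Central.weakly_closed S x 1 x (pow_one x).symm
      (Or.inr ⟨hp2, Or.inr h⟩) hxS hxc hx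

end Cfsg.Agent.S2799
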