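import Cfsg.Statements.S1945
import Cfsg.Agent.S1944
import Cfsg.Agent.S2799
import Cfsg.Agent.Lib.Sig.PConstrained
import Cfsg.Agent.Lib.Sig.PLocal

set_option autoImplicit false
open Cfsg

namespace Cfsg.Agent.S1945

/-- The fixed points of an overgroup split off in the centre. -/
theorem split {G : Type*} [Group G] [Finite G] {p : ℕ} [Fact p.Prime] (S : Sylow p G) (N V : Subgroup G)
    [IsMulCommutative V] (hPN : (S : Subgroup G) ≤ N) (hNV : N ≤ Subgroup.normalizer (V : Set G))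
    (hZV : ((S : Subgroup G) ⊓ Subgroup.centralizer ((S : Subgroup G) : Set G)) ≤ V)
    (hVS : V ≤ (S : Subgroup G))
    (hW : ∀ x : G, x ∈ V ⊓ Subgroup.centralizer (N : Set G) ↔
      (x ∈ (S : Subgroup G) ∧ ∀ g : G, g * x * g⁻¹ ∈ (S : Subgroup G) → g * x * g⁻¹ = x)) :
    ∃ W K : Subgroup G, (∀ x : G, x ∈ W ↔ (x ∈ (S : Subgroup G) ∧ ∀ g : G, g * x * g⁻¹ ∈ (S : Subgroup G) → g * x * g⁻¹ = x)) ∧
      K ≤ ((S : Subgroup G) ⊓ Subgroup.centralizer ((S : Subgroup G) : Set G)) ∧ W ⊓ K = ⊥ ∧ W ⊔ K = ((S : Subgroup G) ⊓ Subgroup.centralizer ((S : Subgroup G) : Set G)) := by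
  classical
  set P : Subgroup G := (S : Subgroup G) with hP
  set Z := P ⊓ Subgroup.centralizer (P : Set G) with hZdef
  set W := V ⊓ Subgroup.centralizer (N : Set G) with hWdef
  have hWZ : W ≤ Z := fun w hw =>
    ⟨hVS hw.1, Subgroup.mem_centralizer_iff.mpr fun s hs => Subgroup.mem_centralizer_iff.mp hw.2 s (hPN hs)⟩
  refine ⟨W, ?_⟩
  set ν := Cfsg.Lib.Local.normHom (V := V) P (C := N) hNV with hν
  let K : Subgroup G := (ν.comp (Subgroup.inclusion hZV)).ker.map Z.subtype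
  refine ⟨K, ?_, Subgroup.map_subtype_le _, ?_, ?_⟩
  · exact hW
  · rw [eq_bot_iff]
    rintro x ⟨hxW, ⟨z, hz, rfl⟩⟩
    have h1 : ν ⟨z, hZV z.2⟩ = ⟨z, hZV z.2⟩ ^ P.relIndex N := by
      refine Cfsg.Lib.Local.normHom_of_fixed fun c hc => ?_
      exact Subgroup.mem_centralizer_iff.mp hxW.2 c hc
    have h2 : ν ⟨z, hZV z.2⟩ = 1 := hz
    rw [h2] at h1
    have h3 : (z : G) ^ P.relIndex N = 1 := (congrArg Subtype.val h1).symm
    obtain ⟨k, hk⟩ := S.2 ⟨z, z.2.1⟩
    have h4 : (P.relIndex N).Coprime (p ^ k) := by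
      refine Nat.Coprime.pow_right k ?_
      rw [Nat.coprime_comm, (Fact.out : p.Prime).coprime_iff_not_dvd]
      exact fun h => S.not_dvd_index (h.trans (Subgroup.relIndex_dvd_index_of_le hPN))
    have h5 : orderOf (z : G) ∣ 1 :=
      h4 ▸ Nat.dvd_gcd (orderOf_dvd_of_pow_eq_one h3) (orderOf_dvd_of_pow_eq_one (congrArg Subtype.val hk))
    rw [Nat.dvd_one, orderOf_eq_one_iff] at h5
    exact Subgroup.mem_bot.mpr h5
  · refine le_antisymm (sup_le hWZ (Subgroup.map_subtype_le _)) fun z hz => ?_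
    have hzV : ∀ s ∈ P, s * ((⟨z, hZV hz⟩ : V) : G) = (⟨z, hZV hz⟩ : V) * s := fun s hs =>
      Subgroup.mem_centralizer_iff.mp hz.2 s hs
    set m := P.relIndex N with hm
    have hcop : m.Coprime (orderOf z) := by
      obtain ⟨k, hk⟩ := S.2 ⟨z, hz.1⟩
      refine Nat.Coprime.coprime_dvd_right (orderOf_dvd_of_pow_eq_one (congrArg Subtype.val hk)) ?_
      refine Nat.Coprime.pow_right k ?_
      rw [Nat.coprime_comm, (Fact.out : p.Prime).coprime_iff_not_dvd]
      exact fun h => S.not_dvd_index (h.trans (Subgroup.relIndex_dvd_index_of_le hPN))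
    set u : V := ν ⟨z, hZV hz⟩ with hu
    have huW : (u : G) ∈ W := ⟨u.2, Subgroup.mem_centralizer_iff.mpr fun c hc =>
      Cfsg.Lib.Local.normHom_fixed hzV hc⟩
    have huu : ν u = u ^ m :=
      Cfsg.Lib.Local.normHom_of_fixed fun c hc => Subgroup.mem_centralizer_iff.mp huW.2 c hc
    obtain ⟨j, hj⟩ := exists_pow_eq_self_of_coprime hcop
    have hwW : ((u : G)) ^ j ∈ W := W.pow_mem huW j
    have hmem : ((z ^ m)⁻¹ * (u : G)) ∈ K := by
      refine ⟨⟨(z ^ m)⁻¹ * (u : G), Z.mul_mem (Z.inv_mem (Z.pow_mem hz m)) (hWZ huW)⟩, ?_, rfl⟩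
      show ν ((⟨z, hZV hz⟩ ^ m)⁻¹ * u) = 1
      rw [map_mul, map_inv, map_pow, huu, ← hu, inv_mul_cancel]
    have hzm : z ^ m ∈ W ⊔ K := by
      have h1 : z ^ m = (u : G) * ((z ^ m)⁻¹ * (u : G))⁻¹ := by group
      rw [h1]
      exact mul_mem (Subgroup.mem_sup_left huW) (inv_mem (Subgroup.mem_sup_right hmem))
    exact hj ▸ pow_mem hzm j


open Subgroup in
theorem main {G : Type*} [Group G] [Finite G] {p : ℕ} [Fact p.Prime] (S : Sylow p G) (h : p ≠ 2 ∨ Group.IsSolvable G) :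
    ∃ W K : Subgroup G, (∀ x : G, x ∈ W ↔ (x ∈ (S : Subgroup G) ∧ ∀ g : G, g * x * g⁻¹ ∈ (S : Subgroup G) → g * x * g⁻¹ = x)) ∧
      K ≤ ((S : Subgroup G) ⊓ Subgroup.centralizer ((S : Subgroup G) : Set G)) ∧ W ⊓ K = ⊥ ∧ W ⊔ K = ((S : Subgroup G) ⊓ Subgroup.centralizer ((S : Subgroup G) : Set G)) := by
  rcases h with hp | hsol
  · set P : Subgroup G := (S : Subgroup G) with hP
    set Z := P ⊓ centralizer (P : Set G) with hZ
    set N := normalizer ((Cfsg.thompsonSubgroupAOf P : Subgroup G) : Set G) with hN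
    set V := Cfsg.centerThompsonAOf P with hV
    have hJP : Cfsg.thompsonSubgroupAOf P ≤ P := map_subtype_le _
    have hVS : V ≤ P := inf_le_left.trans hJP
    haveI : IsMulCommutative V :=
      ⟨⟨fun a b => Subtype.ext (mem_centralizer_iff.mp b.2.2 a.1 a.2.1)⟩⟩
    have hZJ : Z ≤ Cfsg.thompsonSubgroupAOf P := by
      intro z hz
      obtain ⟨A, hA, hAmax⟩ := Set.Finite.exists_maximalFor (fun A : Subgroup ↥P => Nat.card A)
        {A : Subgroup ↥P | IsMulCommutative A} (Set.toFinite _) ⟨⊥, ⟨⟨fun a b => Subsingleton.elim _ _⟩⟩⟩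
      have hmax : A ∈ Cfsg.maxAbelianSubgroups ↥P := ⟨hA, fun B hB => by
        by_contra hlt
        exact hlt (hAmax hB (not_le.1 hlt).le)⟩
      set z' : ↥P := ⟨z, hz.1⟩
      have hcz : ∀ a : ↥P, a * z' = z' * a := fun a => Subtype.ext (mem_centralizer_iff.1 hz.2 a a.2)
      have hcomm : A ⊔ zpowers z' ≤ centralizer ((A ⊔ zpowers z' : Subgroup ↥P) : Set ↥P) := by
        have hz' : zpowers z' ≤ center ↥P := zpowers_le.2 (mem_center_iff.2 hcz)
        have hA' : A ≤ centralizer (A : Set ↥P) := fun a ha => mem_centralizer_iff.2 fun b hb =>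
          congrArg Subtype.val ((hA.is_comm).comm ⟨b, hb⟩ ⟨a, ha⟩)
        have h1 : A ⊔ zpowers z' ≤ centralizer (A : Set ↥P) := sup_le hA' (hz'.trans (center_le_centralizer _))
        exact sup_le (le_centralizer_iff.1 h1) (hz'.trans (center_le_centralizer _))
      have hab : IsMulCommutative ↥(A ⊔ zpowers z') :=
        ⟨⟨fun a b => Subtype.ext (mem_centralizer_iff.1 (hcomm b.2) a a.2)⟩⟩
      have heq := eq_of_le_of_card_ge (le_sup_left : A ≤ A ⊔ zpowers z') (hmax.2 _ hab)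
      exact ⟨z', (le_sSup hmax : A ≤ Cfsg.thompsonSubgroupA ↥P)
        (heq.ge (mem_sup_right (mem_zpowers z'))), rfl⟩
    have hZV : Z ≤ V := fun z hz => ⟨hZJ hz, mem_centralizer_iff.2 fun j hj =>
      mem_centralizer_iff.1 hz.2 j (hJP hj)⟩
    have hPN : P ≤ N :=
      le_normalizer.trans (Cfsg.Lib.ThompsonA.normalizer_le_normalizer_thompsonSubgroupAOf _)
    have hNV : N ≤ normalizer (V : Set G) := by
      intro n hn
      refine Cfsg.Lib.Sig.mem_normalizer_of_map_conj ?_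
      rw [hV, Cfsg.centerThompsonAOf, Subgroup.map_inf _ _ _ (MulAut.conj n).injective,
        Cfsg.Lib.Sig.map_centralizer_equiv, Cfsg.Lib.Core.map_conj_eq_of_mem_normalizer hn]
    refine split S N V hPN hNV hZV hVS fun x => ⟨fun hx => ⟨hVS hx.1, ?_⟩, fun hx => ?_⟩
    · refine Cfsg.Agent.S2799.result S x (hVS hx.1) ?_ (Or.inl hp)
      refine ⟨⟨x, ?_⟩, mem_center_iff.2 fun n => Subtype.ext (mem_centralizer_iff.1 hx.2 n n.2), rfl⟩
      exact le_normalizer hx.1.1
    · have hxZ : x ∈ Z := ⟨hx.1, mem_centralizer_iff.mpr fun s hs =>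
        mul_inv_eq_iff_eq_mul.mp (hx.2 s (P.mul_mem (P.mul_mem hs hx.1) (P.inv_mem hs)))⟩
      refine ⟨hZV hxZ, mem_centralizer_iff.mpr fun n hn => mul_inv_eq_iff_eq_mul.mp (hx.2 n ?_)⟩
      exact hVS ((mem_normalizer_iff.mp (hNV hn) x).mp (hZV hxZ))
  · refine Cfsg.Agent.S1944.result S ?_
    have hc : Cfsg.IsPConstrained p G :=
      Cfsg.Lib.Sig.isPConstrained_of_isPSolvable Cfsg.Lib.Core.isPSolvable_of_isSolvable
    set O := Cfsg.pPrimePCore p G with hO
    haveI : O.Normal := Subgroup.Normal.comap inferInstance _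
    obtain ⟨Q, hQ⟩ : ∃ Q : Sylow p ↥O, (Q : Subgroup ↥O) = (S : Subgroup G).subgroupOf O := by
      obtain ⟨Q, hQ⟩ := IsPGroup.exists_le_sylow
        (S.2.comap_of_injective O.subtype O.subtype_injective)
      refine ⟨Q, (eq_of_le_of_card_ge hQ ?_).symm⟩
      obtain ⟨T, hT⟩ := IsPGroup.exists_le_sylow (Q.2.map O.subtype)
      obtain ⟨g, hg⟩ := MulAction.exists_smul_eq G T S
      have hle : ((Q : Subgroup ↥O).map O.subtype).map (MulAut.conj g).toMonoidHom ≤ (S : Subgroup G) ⊓ O := by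
        refine le_inf ?_ ?_
        · rw [← hg, Sylow.coe_subgroup_smul]
          rintro _ ⟨x, hx, rfl⟩
          exact ⟨x, hT hx, rfl⟩
        · rintro _ ⟨x, hx, rfl⟩
          exact (inferInstance : O.Normal).conj_mem x (map_subtype_le _ hx) g
      calc Nat.card ↥(Q : Subgroup ↥O)
          = Nat.card ↥(((Q : Subgroup ↥O).map O.subtype).map (MulAut.conj g).toMonoidHom) := by
            rw [card_map_of_injective (MulAut.conj g).injective, card_map_of_injective O.subtype_injective]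
        _ ≤ Nat.card ↥((S : Subgroup G) ⊓ O : Subgroup G) := Nat.le_of_dvd Nat.card_pos (card_dvd_of_le hle)
        _ = _ := by
            show _ = Nat.card ↥((S : Subgroup G).subgroupOf O)
            rw [← inf_subgroupOf_right, Nat.card_congr (subgroupOfEquivOfLe inf_le_right).toEquiv]
    intro z hz
    refine hc Q (mem_centralizer_iff.2 fun q hq => mem_centralizer_iff.1 hz.2 q ?_)
    rw [hQ] at hq
    obtain ⟨w, hw, rfl⟩ := hq
    exact hw

/-- Let S be a Sylow p-subgroup of the finite group G, and assume that p is odd or that G is solvable. The elements of S each of which is its only G-conjugate in S form a subgroup W of Z(S); W is then a direct factor of Z(S): there is a subgroup K of Z(S) with W ∩ K = 1 and WK = Z(S). (For p = 2 and G not solvable this can fail.) -/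
theorem result {G : Type*} [Group G] [Finite G] {p : ℕ} [Fact p.Prime] (S : Sylow p G) (h : p ≠ 2 ∨ Group.IsSolvable G) :
    ∃ W K : Subgroup G, (∀ x : G, x ∈ W ↔ (x ∈ (S : Subgroup G) ∧ ∀ g : G, g * x * g⁻¹ ∈ (S : Subgroup G) → g * x * g⁻¹ = x)) ∧
      K ≤ ((S : Subgroup G) ⊓ Subgroup.centralizer ((S : Subgroup G) : Set G)) ∧ W ⊓ K = ⊥ ∧ W ⊔ K = ((S : Subgroup G) ⊓ Subgroup.centralizer ((S : Subgroup G) : Set G)) := by
  exact main S h

end Cfsg.Agent.S1945
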