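import Cfsg.Statements.S1946
import Cfsg.Agent.Lib.Sig.SmallElements

set_option autoImplicit false
open Cfsg

namespace Cfsg.Agent.S1946

/-- Let P be a Sylow p-subgroup of the finite group G. Then G has a normal p-complement if and only if P controls the fusion of its elements of order dividing p (dividing 4 when p = 2): whenever such an element a of P has a G-conjugate g a g⁻¹ in P, that conjugate is already x a x⁻¹ for some x in P. -/
theorem result {G : Type*} [Group G] [Finite G] {p : ℕ} [Fact p.Prime] (P : Sylow p G) :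
    Cfsg.HasNormalPComplement p G ↔
      ∀ a ∈ (P : Subgroup G), (a ^ p = 1 ∨ (p = 2 ∧ a ^ 4 = 1)) → ∀ g : G, g * a * g⁻¹ ∈ (P : Subgroup G) →
        ∃ x ∈ (P : Subgroup G), g * a * g⁻¹ = x * a * x⁻¹ := by
  refine ⟨fun h a ha _ g hg => ?_, fun h => Cfsg.Lib.Sig.hasNormalPComplement_of_controls_small P h⟩
  have hc := Cfsg.Lib.Fusion.isComplement'_pResidual h P
  haveI := Cfsg.Lib.Fusion.pResidual_normal p G
  obtain ⟨⟨r, u⟩, hru⟩ := (Subgroup.isComplement'_def.mp hc).surjective g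
  refine ⟨u.1, u.2, ?_⟩
  set b := u.1 * a * u.1⁻¹ with hb
  have hbP : b ∈ (P : Subgroup G) := mul_mem (mul_mem u.2 ha) (inv_mem u.2)
  have hgb : g * a * g⁻¹ = r.1 * b * r.1⁻¹ := by
    have hg' : r.1 * u.1 = g := hru
    rw [← hg', hb]; group
  have h1 : r.1 * b * r.1⁻¹ * b⁻¹ ∈ Cfsg.pResidual p G ⊓ (P : Subgroup G) := by
    refine ⟨?_, Subgroup.mul_mem (P : Subgroup G) (hgb ▸ hg) (Subgroup.inv_mem (P : Subgroup G) hbP)⟩
    have := mul_mem r.2 (Subgroup.Normal.conj_mem (Cfsg.Lib.Fusion.pResidual_normal p G) _ (inv_mem r.2) b)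
    simpa [mul_assoc] using this
  rw [disjoint_iff.mp hc.disjoint, Subgroup.mem_bot, mul_inv_eq_one] at h1
  rw [hgb, h1]

end Cfsg.Agent.S1946
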