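import Cfsg.Statements.S1947
import Cfsg.Agent.Lib.Sig.SmallElements

set_option autoImplicit false
open Cfsg

namespace Cfsg.Agent.S1947

/-- Let G be a finite group and p a prime. If every element of G of order dividing p (dividing 4 when p = 2) lies in some fixed term Z_n(G) of the upper central series, then G has a normal p-complement. -/
theorem result {G : Type*} [Group G] [Finite G] {p : ℕ} [Fact p.Prime] (n : ℕ)
    (h : ∀ a : G, (a ^ p = 1 ∨ (p = 2 ∧ a ^ 4 = 1)) → a ∈ Subgroup.upperCentralSeries G n) : Cfsg.HasNormalPComplement p G := by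
  classical
  let P : Sylow p G := Classical.arbitrary _
  refine (Cfsg.Lib.Fusion.frobenius P).mpr ?_
  intro Q hQP x hx hco
  refine Cfsg.Lib.Sig.mem_centralizer_of_small_filtration Q (P.2.to_le hQP) hx hco
    (fun i => Subgroup.upperCentralSeries G i) (n := n) ?_ ?_ ?_ (fun a _ hs => h a hs)
  · simp
  · intro i q _ z hz
    exact (inferInstance : (Subgroup.upperCentralSeries G i).Normal).conj_mem z hz q
  · intro i a _ _ ha
    refine ⟨(inferInstance : (Subgroup.upperCentralSeries G (i + 1)).Normal).conj_mem a ha x, ?_⟩
    have h2 := Subgroup.mem_upperCentralSeries_succ_iff.mp (inv_mem ha) x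
    simpa [mul_assoc, commutatorElement_def] using h2

end Cfsg.Agent.S1947
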