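import Cfsg.Statements.S1948
import Cfsg.Agent.Lib.Sig.PConstrained
import Cfsg.Agent.Lib.Fusion.Basic
import Cfsg.Agent.Lib.Solv.Nilpotent

set_option autoImplicit false
open Cfsg

namespace Cfsg.Agent.S1948

/-- Let S be a Sylow p-subgroup of the finite group G. Then G = N_G(S)·O_{p'}(G) if and only if G is p-constrained and N_G(S) controls fusion in S, in the sense that whenever a subgroup Q of S has a conjugate g Q g⁻¹ inside S, the element g is a product n c with n normalizing S and c centralizing Q. -/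
theorem result {G : Type*} [Group G] [Finite G] {p : ℕ} [Fact p.Prime] (S : Sylow p G) :
    Subgroup.normalizer ((S : Subgroup G) : Set G) ⊔ Cfsg.pPrimeCore p G = ⊤ ↔
      (Cfsg.IsPConstrained p G ∧
        ∀ Q : Subgroup G, Q ≤ (S : Subgroup G) → ∀ g : G, Q.map (MulAut.conj g).toMonoidHom ≤ (S : Subgroup G) →
          ∃ n ∈ Subgroup.normalizer ((S : Subgroup G) : Set G), ∃ c ∈ Subgroup.centralizer (Q : Set G), g = n * c) := by
    set M := Cfsg.pPrimeCore p G with hMdef
    set f := QuotientGroup.mk' M with hf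
    set S' : Subgroup G := (S : Subgroup G)
    have hsurj : Function.Surjective f := QuotientGroup.mk'_surjective M
    have hMS : S' ⊓ M = ⊥ :=
      Cfsg.Lib.Sig.disjoint_of_isPGroup_coprime S.2 (Cfsg.Lib.Core.pPrimeCore_coprime p G)
    constructor
    · intro hG
      refine ⟨Cfsg.Lib.Sig.isPConstrained_iff.2 (Cfsg.Lib.Core.centralizer_pCore_le_of_isPSolvable ?_
        Cfsg.Lib.Core.pPrimeCore_quotient_eq_bot), ?_⟩
      · have hN : (S'.map f).Normal := by
          rw [← Subgroup.normalizer_eq_top_iff, eq_top_iff,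
            ← Subgroup.map_top_of_surjective f hsurj, ← hG, Subgroup.map_sup,
            show M.map f = ⊥ from by rw [Subgroup.map_eq_bot_iff, hf, QuotientGroup.ker_mk'],
            sup_bot_eq]
          exact Subgroup.le_normalizer_map f
        have hN2 : IsPGroup p ↥(S'.map f) := S.2.map f
        obtain ⟨k, hk⟩ := IsPGroup.iff_card.mp hN2
        refine Cfsg.Lib.Core.HasFactorChain.extension (P := Cfsg.Lib.Core.PFactor p) (S'.map f) (Or.inl ⟨k, hk⟩) ?_
        refine ⟨1, ![⊥, ⊤], rfl, rfl, ?_, fun i => by fin_cases i <;> simp <;> infer_instance, fun i => ?_⟩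
        · intro a b hab
          fin_cases a <;> fin_cases b <;> simp_all
        · fin_cases i
          refine Or.inr ?_
          show ((⊥ : Subgroup ((G ⧸ M) ⧸ S'.map f)).relIndex ⊤).Coprime p
          rw [Subgroup.relIndex_bot_left, Subgroup.card_top, ← Subgroup.index_eq_card,
            Cfsg.Lib.Core.coprime_iff_not_dvd']
          exact fun hd => S.not_dvd_index (hd.trans (Subgroup.index_map_dvd S' hsurj))
      · intro Q hQ g hg
        obtain ⟨n, hn, m, hm, rfl⟩ := Subgroup.mem_sup_of_normal_right.1 (hG ▸ Subgroup.mem_top g)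
        refine ⟨n, hn, m, Subgroup.mem_centralizer_iff.2 fun q hq => ?_, rfl⟩
        have h1 : m * q * m⁻¹ ∈ S' := by
          have h := hg (Cfsg.Lib.Sig.conj_mem_map_conj hq)
          have e : n * m * q * (n * m)⁻¹ = n * (m * q * m⁻¹) * n⁻¹ := by group
          rw [e] at h
          exact (Subgroup.mem_normalizer_iff.1 hn _).2 h
        have h2 : m * q * m⁻¹ * q⁻¹ = 1 := by
          rw [← Subgroup.mem_bot, ← hMS]
          refine ⟨S'.mul_mem h1 (S'.inv_mem (hQ hq)), ?_⟩
          have : m * q * m⁻¹ * q⁻¹ = m * (q * m⁻¹ * q⁻¹) := by group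
          rw [this]
          exact mul_mem hm (Subgroup.Normal.conj_mem inferInstance _ (inv_mem hm) q)
        calc q * m = (m * q * m⁻¹ * q⁻¹) * q * m := by rw [h2, one_mul]
          _ = m * q := by group
    · rintro ⟨hpc, hctl⟩
      have hpn : (Cfsg.pPrimePCore p G).Normal := by unfold Cfsg.pPrimePCore; infer_instance
      have hle : Cfsg.pPrimePCore p G ≤ S' ⊔ M := fun x hx => by
        have h : f x ∈ S'.map f :=
          Cfsg.Lib.Core.pCore_le_sylow (S.mapSurjective hsurj) hx
        obtain ⟨s, hs, hsx⟩ := h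
        have hm : s⁻¹ * x ∈ M := QuotientGroup.eq.1 hsx
        have := mul_mem (Subgroup.mem_sup_left (T := M) hs) (Subgroup.mem_sup_right (S := S') hm)
        simpa using this
      set PC := Cfsg.pPrimePCore p G
      set Q₀ := S' ⊓ PC with hQ₀
      have hidx : ¬ p ∣ Q₀.relIndex PC := by
        rw [hQ₀, Subgroup.inf_relIndex_right]
        exact Cfsg.Lib.Solv.not_dvd_relIndex_of_isSubnormal S hpn.isSubnormal
      have hSN : S' ⊔ M ≤ Subgroup.normalizer (S' : Set G) ⊔ M :=
        sup_le_sup_right Subgroup.le_normalizer M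
      refine top_le_iff.1 fun g _ => ?_
      obtain ⟨c, hc, hcle⟩ := Cfsg.Lib.Sig.exists_conj_le_of_relIndex inf_le_right
        (S.2.to_le inf_le_left) hidx (R := Q₀.map (MulAut.conj g).toMonoidHom) (by
          rintro _ ⟨q, hq, rfl⟩
          exact hpn.conj_mem q hq.2 g)
        ((S.2.to_le inf_le_left : IsPGroup p ↥Q₀).map _)
      rw [Cfsg.Lib.Sig.map_conj_map_conj] at hcle
      obtain ⟨n, hn, d, hd, he⟩ := hctl Q₀ inf_le_left (c * g) (hcle.trans inf_le_left)
      have hP : d ∈ PC := hpc ((S.2.to_le inf_le_left : IsPGroup p ↥Q₀).of_equiv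
        (Subgroup.subgroupOfEquivOfLe inf_le_right).symm |>.toSylow hidx) (by
          show d ∈ Subgroup.centralizer (((Q₀.subgroupOf PC).map PC.subtype : Subgroup G) : Set G)
          rwa [Subgroup.map_subgroupOf_eq_of_le inf_le_right])
      have : g = c⁻¹ * (n * d) := by rw [← he]; group
      rw [this]
      exact mul_mem (inv_mem (hSN (hle hc))) (mul_mem (Subgroup.mem_sup_left hn) (hSN (hle hP)))

end Cfsg.Agent.S1948
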