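import Cfsg.Statements.S1949
import Mathlib.Data.Nat.Choose.Dvd
import Cfsg.Agent.S0093
import Cfsg.Agent.S0121
import Cfsg.Agent.Lib.PGroup.ClassTwo

set_option autoImplicit false
open Cfsg

namespace Cfsg.Agent.S1949

/-- Let P be a finite p-group and G a group of automorphisms of P containing the inner automorphisms. Then there is a G-invariant subgroup D of P, contained in the subgroup generated by the elements x⁻¹α(x) with x in P and α in O^p(G), of exponent dividing p when p is odd and dividing 4 when p = 2, with [D, P] ≤ Z(D), such that every automorphism in G of order prime to p that fixes D elementwise is the identity; moreover every maximal abelian subgroup A of D is normal in P and every automorphism in G fixing A elementwise has p-power order. -/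
theorem result {P : Type*} [Group P] [Finite P] {p : ℕ} [Fact p.Prime] (hP : IsPGroup p P)
    (G : Subgroup (MulAut P)) (hG : Cfsg.Inn P ≤ G) :
    ∃ D : Subgroup P,
      (∀ α ∈ G, D.map α.toMonoidHom = D) ∧
      D ≤ Subgroup.closure {y : P | ∃ α ∈ Cfsg.pResidual p ↥G, ∃ x : P, y = x⁻¹ * (α : MulAut P) x} ∧
      (∀ d ∈ D, d ^ p = 1 ∨ (p = 2 ∧ d ^ 4 = 1)) ∧
      ⁅D, (⊤ : Subgroup P)⁆ ≤ D ⊓ Subgroup.centralizer (D : Set P) ∧
      (∀ α ∈ G, (orderOf α).Coprime p → (∀ d ∈ D, α d = d) → α = 1) ∧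
      ∀ A : Subgroup P, A ≤ D → IsMulCommutative ↥A →
        (∀ B : Subgroup P, A ≤ B → B ≤ D → IsMulCommutative ↥B → B = A) →
        A.Normal ∧ ∀ α ∈ G, (∀ a ∈ A, α a = a) → ∃ k : ℕ, orderOf α = p ^ k := by
    classical
    open Subgroup in
    open scoped commutatorElement in
    have hp : p.Prime := Fact.out
    obtain ⟨C, hCc, hC1, hC2, hC3⟩ := Cfsg.Agent.S0093.result (P := P) hP
    haveI := hCc
    haveI hCn : C.Normal := inferInstance
    set W := Subgroup.closure {y : P | ∃ α ∈ Cfsg.pResidual p ↥G, ∃ x : P, y = x⁻¹ * (α : MulAut P) x} with hW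
    have hWinv : ∀ α ∈ G, ∀ w ∈ W, α w ∈ W := by
      intro α hα w hw
      have hle : W.map α.toMonoidHom ≤ W := by
        rw [hW, MonoidHom.map_closure]
        refine Subgroup.closure_mono ?_
        rintro _ ⟨_, ⟨β, hβ, x, rfl⟩, rfl⟩
        refine ⟨⟨α, hα⟩ * β * ⟨α, hα⟩⁻¹, ?_, α x, ?_⟩
        · have hle' : (Cfsg.pResidual p ↥G).map (MulAut.conj (⟨α, hα⟩ : G)).toMonoidHom ≤ Cfsg.pResidual p ↥G := by
            rw [Cfsg.pResidual, MonoidHom.map_closure]
            refine Subgroup.closure_mono ?_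
            rintro _ ⟨y, hy, rfl⟩
            show (orderOf (MulAut.conj (⟨α, hα⟩ : G) y)).Coprime p
            rw [MulEquiv.orderOf_eq]; exact hy
          exact hle' (Subgroup.mem_map_of_mem _ hβ)
        · simp
      exact hle (Subgroup.mem_map_of_mem _ hw)
    have hinn : ∀ g : P, MulAut.conj g ∈ G := fun g => hG ⟨g, rfl⟩
    haveI hWn : W.Normal := ⟨fun w hw g => hWinv _ (hinn g) w hw⟩
    have hfixC : ∀ α : MulAut P, ∀ c ∈ C, α c ∈ C := fun α c hc =>
      (Subgroup.characteristic_iff_map_eq.1 hCc α) ▸ Subgroup.mem_map_of_mem _ hc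
    set C₁ := C ⊓ W with hC₁
    set Z₁ := Subgroup.centralizer (C₁ : Set P) with hZ₁
    have hcomm : ∀ a ∈ C₁, ∀ b : P, ⁅a, b⁆ ∈ Z₁ := fun a ha b =>
      Subgroup.centralizer_le (SetLike.coe_subset_coe.2 inf_le_left)
        (hC2 (Subgroup.commutator_mem_commutator ha.1 (Subgroup.mem_top b))).2
    have hcl : commutator ↥C₁ ≤ Subgroup.center ↥C₁ := by
      rw [_root_.commutator_def, Subgroup.commutator_le]
      intro a _ b _
      exact Subgroup.mem_center_iff.2 fun g => Subtype.ext (Subgroup.mem_centralizer_iff.1 (hcomm a a.2 b) g g.2)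
    have hpow : ∀ a ∈ C₁, ∀ b ∈ C₁, ∀ n : ℕ, (a * b) ^ n = a ^ n * b ^ n * ⁅b, a⁆ ^ n.choose 2 := fun a ha b hb n =>
      congrArg Subtype.val (Cfsg.Lib.PGroup.mul_pow_of_class_two hcl (⟨a, ha⟩ : C₁) ⟨b, hb⟩ n)
    have hpl : ∀ a ∈ C₁, ∀ b ∈ C₁, ∀ n : ℕ, ⁅a ^ n, b⁆ = ⁅a, b⁆ ^ n := fun a ha b hb n =>
      congrArg Subtype.val (Cfsg.Lib.PGroup.commutatorElement_pow_left hcl (⟨a, ha⟩ : C₁) ⟨b, hb⟩ n)
    set q := if p = 2 then 4 else p with hq
    -- powers of the commutator in the two cases
    have hkey : ∀ a ∈ C₁, ∀ b ∈ C₁, ⁅b, a⁆ ^ p = 1 → a ^ p * b ^ p ∈ Z₁ → a ^ q * b ^ q = 1 →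
        (a * b) ^ q = 1 ∧ (a * b) ^ p ∈ Z₁ := by
      intro a ha b hb hc hz h1
      refine ⟨?_, ?_⟩
      · rw [hpow a ha b hb, h1, one_mul]
        by_cases h2 : p = 2
        · have h4 : q = 4 := by rw [hq, if_pos h2]
          rw [h4, show Nat.choose 4 2 = p * 3 from by rw [h2]; rfl, pow_mul, hc, one_pow]
        · have h4 : q = p := by rw [hq, if_neg h2]
          obtain ⟨j, hj⟩ := hp.dvd_choose_self (by decide : (2:ℕ) ≠ 0) (lt_of_le_of_ne hp.two_le (Ne.symm h2))
          rw [h4, hj, pow_mul, hc, one_pow]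
      · rw [hpow a ha b hb]
        exact Z₁.mul_mem hz (Z₁.pow_mem (hcomm b hb a) _)
    let D : Subgroup P :=
      { carrier := {x | x ∈ C₁ ∧ x ^ q = 1 ∧ x ^ p ∈ Z₁}
        one_mem' := ⟨one_mem _, one_pow _, by rw [one_pow]; exact one_mem _⟩
        mul_mem' := fun {a b} ha hb => by
          refine ⟨C₁.mul_mem ha.1 hb.1, hkey a ha.1 b hb.1 ?_ (Z₁.mul_mem ha.2.2 hb.2.2) (by rw [ha.2.1, hb.2.1, one_mul])⟩
          rw [← hpl b hb.1 a ha.1, commutatorElement_eq_one_iff_mul_comm]
          exact (Subgroup.mem_centralizer_iff.1 hb.2.2 a ha.1).symm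
        inv_mem' := fun {a} ha => ⟨C₁.inv_mem ha.1, by rw [inv_pow, ha.2.1, inv_one],
          by rw [inv_pow]; exact Z₁.inv_mem ha.2.2⟩ }
    have hDC : D ≤ C₁ := fun x hx => hx.1
    have hC₁inv : ∀ α ∈ G, ∀ x ∈ C₁, α x ∈ C₁ := fun α hα x hx => ⟨hfixC α x hx.1, hWinv α hα x hx.2⟩
    have hDinv : ∀ α ∈ G, ∀ x ∈ D, α x ∈ D := by
      intro α hα x hx
      refine ⟨hC₁inv α hα x hx.1, by rw [← map_pow, hx.2.1, map_one], ?_⟩
      refine Subgroup.mem_centralizer_iff.2 fun c hc => ?_
      rw [← map_pow]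
      have h1 := Subgroup.mem_centralizer_iff.1 hx.2.2 (α⁻¹ c) (hC₁inv _ (inv_mem hα) c hc)
      have h2 := congrArg α h1
      rw [map_mul, map_mul, MulAut.apply_inv_self] at h2
      exact h2
    haveI hDn : D.Normal := ⟨fun d hd g => hDinv _ (hinn g) d hd⟩
    have hDZ : ⁅D, (⊤ : Subgroup P)⁆ ≤ D ⊓ Subgroup.centralizer (D : Set P) :=
      le_inf (Subgroup.commutator_le_left D ⊤) (le_trans (Subgroup.commutator_le.2 fun a ha b _ => hcomm a (hDC ha) b)
        (Subgroup.centralizer_le (SetLike.coe_subset_coe.2 hDC)))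
    -- the elements moved by a constant amount
    have hiter : ∀ (α : MulAut P) (x y : P), (orderOf α).Coprime p → α x = x * y → α y = y → y = 1 := by
      intro α x y hcop hx hy
      have h : ∀ n : ℕ, (α ^ n) x = x * y ^ n := by
        intro n
        induction n with
        | zero => simp
        | succ n ih => rw [pow_succ', MulAut.mul_apply, ih, map_mul, map_pow, hx, hy, pow_succ', mul_assoc]
      have h1 := h (orderOf α)
      rw [pow_orderOf_eq_one, MulAut.one_apply, left_eq_mul] at h1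
      obtain ⟨k, hk⟩ := hP y
      exact orderOf_eq_one_iff.1 (Nat.eq_one_of_dvd_coprimes (hcop.pow_right k)
        (orderOf_dvd_of_pow_eq_one h1) (orderOf_dvd_of_pow_eq_one hk))
    have hfaith : ∀ α ∈ G, (orderOf α).Coprime p → (∀ d ∈ D, α d = d) → α = 1 := by
      intro α hα hcop hfix
      have h1 : ∀ n : ℕ, ∀ x ∈ C₁, orderOf x = n → α x = x := by
        intro n
        induction n using Nat.strong_induction_on with
        | _ n ih =>
          intro x hx hn
          rcases eq_or_ne x 1 with rfl | hx1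
          · exact map_one α
          set y := x⁻¹ * α x with hy
          have hlt : orderOf (x ^ p) < n := by
            obtain ⟨k, -, hk⟩ := (Nat.dvd_prime_pow hp).1 (orderOf_dvd_of_pow_eq_one (hP x).choose_spec)
            have hd : p ∣ orderOf x := by
              rcases k with _ | k
              · exact absurd (orderOf_eq_one_iff.1 (by simpa using hk)) hx1
              · exact hk ▸ dvd_pow_self p (Nat.succ_ne_zero k)
            rw [← hn, orderOf_pow_of_dvd hp.ne_zero hd]
            exact Nat.div_lt_self (orderOf_pos x) hp.one_lt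
          have hxp : α x ^ p = x ^ p := by rw [← map_pow]; exact ih _ hlt _ (C₁.pow_mem hx p) rfl
          have hax := hC₁inv α hα x hx
          have hxq : α x ^ q = x ^ q := by
            rcases (show p ∣ q by rw [hq]; split_ifs with h2 <;> [exact h2 ▸ ⟨2, rfl⟩; exact dvd_rfl]) with ⟨j, hj⟩
            rw [hj, pow_mul, pow_mul, hxp]
          have hyD : y ∈ D := by
            refine ⟨C₁.mul_mem (C₁.inv_mem hx) hax, hkey x⁻¹ (C₁.inv_mem hx) (α x) hax ?_ ?_ ?_⟩
            · rw [← hpl (α x) hax x⁻¹ (C₁.inv_mem hx), hxp, commutatorElement_eq_one_iff_mul_comm]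
              exact ((Commute.refl x).inv_right.pow_left p).eq
            · rw [inv_pow, hxp, inv_mul_cancel]; exact one_mem _
            · rw [inv_pow, hxq, inv_mul_cancel]
          have h2 : y = 1 := hiter α x y hcop (by rw [hy]; group) (hfix y hyD)
          exact (inv_mul_eq_one.1 h2).symm
      refine Cfsg.Agent.S0121.result hP C hCc hC1 hC2 hC3 α hcop fun x hx => ?_
      have hz : x⁻¹ * α x ∈ C₁ := by
        refine ⟨C.mul_mem (C.inv_mem hx) (hfixC α x hx), Subgroup.subset_closure
          ⟨⟨α, hα⟩, Subgroup.subset_closure ?_, x, rfl⟩⟩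
        show (orderOf (⟨α, hα⟩ : G)).Coprime p
        rwa [Subgroup.orderOf_mk]
      exact (inv_mul_eq_one.1 (hiter α x _ hcop (by group) (h1 _ _ hz rfl))).symm
    refine ⟨D, fun α hα => ?_, fun d hd => hd.1.2, fun d hd => ?_, hDZ, hfaith, fun A hAD hA hAmax => ?_⟩
    · refine le_antisymm ?_ fun d hd => ?_
      · rintro _ ⟨d, hd, rfl⟩; exact hDinv α hα d hd
      · exact ⟨α⁻¹ d, hDinv _ (inv_mem hα) d hd, MulAut.apply_inv_self P α d⟩
    · by_cases h2 : p = 2
      · exact Or.inr ⟨h2, by simpa [hq, h2] using hd.2.1⟩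
      · exact Or.inl (by simpa [hq, h2] using hd.2.1)
    have hAc : A ≤ Subgroup.centralizer (A : Set P) := fun a ha => Subgroup.mem_centralizer_iff.2 fun b hb =>
      congrArg Subtype.val (hA.is_comm.comm (⟨b, hb⟩ : A) ⟨a, ha⟩)
    have hcent : ∀ z ∈ D, z ∈ Subgroup.centralizer (A : Set P) → z ∈ A := by
      intro z hz hzA
      set B := Subgroup.closure ((A : Set P) ∪ {z}) with hB
      have hAB : A ≤ B := fun a ha => Subgroup.subset_closure (Or.inl ha)
      have hpair : ∀ x ∈ ((A : Set P) ∪ {z}), ∀ y ∈ ((A : Set P) ∪ {z}), x * y = y * x := by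
        rintro x (hx | rfl) y (hy | rfl)
        · exact Subgroup.mem_centralizer_iff.1 (hAc hy) x hx
        · exact Subgroup.mem_centralizer_iff.1 hzA x hx
        · exact (Subgroup.mem_centralizer_iff.1 hzA y hy).symm
        · rfl
      have hBc : IsMulCommutative ↥B := Subgroup.isMulCommutative_closure hpair
      exact hAmax B hAB ((Subgroup.closure_le D).2 (Set.union_subset hAD (Set.singleton_subset_iff.2 hz))) hBc ▸
        Subgroup.subset_closure (Or.inr rfl)
    have hAcomm : ∀ d ∈ D, ∀ b : P, ⁅d, b⁆ ∈ A := by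
      intro d hd b
      have h := hDZ (Subgroup.commutator_mem_commutator hd (Subgroup.mem_top b))
      exact hcent _ h.1 (Subgroup.centralizer_le (SetLike.coe_subset_coe.2 hAD) h.2)
    refine ⟨⟨fun a ha g => ?_⟩, fun α hα hfix => ?_⟩
    · have h := A.mul_mem (A.inv_mem (hAcomm a (hAD ha) g)) ha
      simpa [commutatorElement_def, mul_assoc] using h
    · have hn0 := (orderOf_pos α).ne'
      set k := (orderOf α).factorization p with hk
      have hdvd : p ^ k ∣ orderOf α := Nat.ordProj_dvd _ _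
      set β := α ^ (p ^ k) with hβ
      have hβc : (orderOf β).Coprime p := by
        rw [hβ, orderOf_pow_of_dvd (pow_ne_zero _ hp.ne_zero) hdvd]
        exact (Nat.coprime_ordCompl hp hn0).symm
      have hβfix : ∀ a ∈ A, β a = a := by
        intro a ha
        have : ∀ n : ℕ, (α ^ n) a = a := by
          intro n
          induction n with
          | zero => simp
          | succ n ih => rw [pow_succ, MulAut.mul_apply, hfix a ha, ih]
        exact this _
      have hβ1 : β = 1 := by
        refine hfaith β (G.pow_mem hα _) hβc fun d hd => ?_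
        have hz : d⁻¹ * β d ∈ D := D.mul_mem (D.inv_mem hd) (hDinv β (G.pow_mem hα _) d hd)
        have hzA : d⁻¹ * β d ∈ Subgroup.centralizer (A : Set P) := by
          refine Subgroup.mem_centralizer_iff.2 fun a ha => ?_
          have h1 : β (d * a * d⁻¹) = d * a * d⁻¹ := by
            refine hβfix _ ?_
            simpa [commutatorElement_def, mul_assoc] using A.mul_mem (hAcomm d hd a) ha
          rw [map_mul, map_mul, map_inv, hβfix a ha] at h1
          calc a * (d⁻¹ * β d) = d⁻¹ * (d * a * d⁻¹) * β d := by group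
            _ = d⁻¹ * (β d * a * (β d)⁻¹) * β d := by rw [h1]
            _ = d⁻¹ * β d * a := by group
        exact (inv_mul_eq_one.1 (hiter β d _ hβc (by group) (hβfix _ (hcent _ hz hzA)))).symm
      obtain ⟨j, -, hj⟩ := (Nat.dvd_prime_pow hp).1 (orderOf_dvd_of_pow_eq_one hβ1)
      exact ⟨j, hj⟩

end Cfsg.Agent.S1949
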