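import Cfsg.Statements.S1950
import Cfsg.Agent.Lib.Block.CyclicPairs.Main
-- import your own Cfsg.Agent.* helpers here

set_option autoImplicit false
open Cfsg

namespace Cfsg.Agent.S1950

open Cfsg.Lib

universe u

variable {p : ℕ} [Fact p.Prime]

theorem pfactor_of_coprime {G : Type u} [Group G] [Finite G] (h : (Nat.card G).Coprime p) :
    IsPSolvable p G := by
  refine (Core.isPSolvable_iff p).2 (Core.HasFactorChain.extension (⊤ : Subgroup G) ?_ ?_)
  · rw [Subgroup.card_top]; exact Or.inr h
  · haveI : Subsingleton (G ⧸ (⊤ : Subgroup G)) := QuotientGroup.subsingleton_quotient_top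
    exact Core.HasFactorChain.of_subsingleton _

theorem psolvable_extension {G : Type u} [Group G] [Finite G] (N : Subgroup G) [N.Normal]
    (hN : (∃ m : ℕ, Nat.card N = p ^ m) ∨ (Nat.card N).Coprime p) (hQ : IsPSolvable p (G ⧸ N)) :
    IsPSolvable p G :=
  (Core.isPSolvable_iff p).2 (Core.HasFactorChain.extension N hN ((Core.isPSolvable_iff p).1 hQ))

/-- Elements of order `p` of a quotient by a `p'`-subgroup lift to elements of order `p`. -/
theorem exists_lift {G : Type u} [Group G] [Finite G] (N : Subgroup G) [N.Normal]
    (hN : (Nat.card N).Coprime p) (a : G ⧸ N) (ha : orderOf a = p) :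
    ∃ x : G, orderOf x = p ∧ (x : G ⧸ N) = a := by
  have hp := Fact.out (p := p.Prime)
  obtain ⟨g, rfl⟩ := QuotientGroup.mk'_surjective N a
  set f := QuotientGroup.mk' N
  have hmem : f (Block.pReg p g) ∈ Subgroup.zpowers (f g) := by
    obtain ⟨i, hi⟩ := Subgroup.mem_zpowers_iff.1 (Block.pReg_mem_zpowers (p := p) g)
    exact Subgroup.mem_zpowers_iff.2 ⟨i, by rw [← map_zpow, hi]⟩
  have hr : f (Block.pReg p g) = 1 := by
    have h1 : orderOf (f (Block.pReg p g)) ∣ p :=
      (orderOf_dvd_of_mem_zpowers hmem).trans ha.dvd
    rcases (Nat.dvd_prime hp).1 h1 with h2 | h2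
    · exact orderOf_eq_one_iff.1 h2
    · exact absurd (h2.symm.dvd.trans (orderOf_map_dvd f _)) (Block.not_dvd_orderOf_pReg g)
  have hx : f (Block.pPt p g) = f g := by
    conv_rhs => rw [← Block.pPt_mul_pReg (p := p) g, map_mul, hr, mul_one]
  refine ⟨Block.pPt p g, ?_, hx⟩
  obtain ⟨k, hk⟩ := Block.exists_orderOf_pPt (p := p) g
  have hmem' : (Block.pPt p g) ^ p ∈ N := (QuotientGroup.eq_one_iff _).1 (by
    show f ((Block.pPt p g) ^ p) = 1
    rw [map_pow, hx]
    exact orderOf_dvd_iff_pow_eq_one.1 ha.dvd)
  have h1 : (Block.pPt p g) ^ p = 1 := by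
    have h2 : orderOf ((Block.pPt p g) ^ p) ∣ p ^ k := hk ▸ orderOf_pow_dvd p
    refine orderOf_eq_one_iff.1 (Nat.eq_one_of_dvd_coprimes ?_ h2
      (Subgroup.orderOf_dvd_natCard _ hmem'))
    exact hN.symm.pow_left k
  refine orderOf_eq_prime h1 fun h1' => ?_
  rw [h1', map_one] at hx
  rw [← hx, orderOf_one] at ha
  exact hp.one_lt.ne ha

theorem backward : ∀ (n : ℕ) (G : Type u) [Group G] [Finite G], Nat.card G ≤ n →
    ∀ P : Sylow p G, IsCyclic (P : Subgroup G) →
    (∀ x y : G, orderOf x = p → orderOf y = p →
      IsPSolvable p ↥(Subgroup.closure ({x, y} : Set G))) → IsPSolvable p G := by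
  intro n
  induction n with
  | zero => intro G _ _ h; have := Nat.card_pos (α := G); omega
  | succ n ih =>
    intro G _ _ hn P hc hpair
    classical
    haveI : Fintype G := Fintype.ofFinite G
    have hp := Fact.out (p := p.Prime)
    by_cases hdvd : p ∣ Nat.card G
    swap
    · exact pfactor_of_coprime ((hp.coprime_iff_not_dvd.2 hdvd).symm)
    by_cases hO : pPrimeCore p G ≠ ⊥
    · -- pass to the quotient
      set N := pPrimeCore p G with hN
      refine psolvable_extension N (Or.inr (Core.pPrimeCore_coprime p G)) ?_
      let P' : Sylow p (G ⧸ N) := P.mapSurjective (QuotientGroup.mk'_surjective N)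
      have hP' : IsCyclic (P' : Subgroup (G ⧸ N)) := by
        haveI := hc
        exact isCyclic_of_surjective ((QuotientGroup.mk' N).subgroupMap (P : Subgroup G))
          ((QuotientGroup.mk' N).subgroupMap_surjective (P : Subgroup G))
      refine ih _ ?_ P' hP' fun a b ha hb => ?_
      · have := Cfsg.Lib.Core.card_quotient_lt hO
        omega
      obtain ⟨x, hx, rfl⟩ := exists_lift N (Core.pPrimeCore_coprime p G) a ha
      obtain ⟨y, hy, rfl⟩ := exists_lift N (Core.pPrimeCore_coprime p G) b hb
      have hmap : (Subgroup.closure ({x, y} : Set G)).map (QuotientGroup.mk' N) =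
          Subgroup.closure ({(x : G ⧸ N), (y : G ⧸ N)} : Set (G ⧸ N)) := by
        rw [MonoidHom.map_closure, Set.image_pair]; rfl
      rw [← hmap]
      exact Core.isPSolvable_of_surjective
        ((QuotientGroup.mk' N).subgroupMap (Subgroup.closure ({x, y} : Set G)))
        (MonoidHom.subgroupMap_surjective _ _) (hpair x y hx hy)
    push Not at hO
    haveI : IsMulCommutative (P : Subgroup G) := by
      let _ : CommGroup (P : Subgroup G) := IsCyclic.commGroup
      exact ⟨⟨mul_comm⟩⟩
    -- a central element of order `p` gives a normal complement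
    have hburn : ∀ z ∈ (P : Subgroup G), z ≠ 1 → (∀ g : G, g * z = z * g) → IsPSolvable p G := by
      intro z hz hz1 hcen
      obtain ⟨Q, K, hK, hKQ⟩ := Fusion.hasNormalPComplement_of_normalizer_le_centralizer P
        fun g hg => Block.CyclicPairs.fixes P hc hg hz hz1 (hcen g)
      have hcard : Nat.card K * Nat.card (Q : Subgroup G) = Nat.card G := hKQ.card_mul
      have hKb : K = ⊥ := by
        refine le_bot_iff.1 (hO ▸ Core.le_pPrimeCore' hK ?_)
        refine (hp.coprime_iff_not_dvd.2 fun hd => ?_).symm
        have h1 : Nat.card (Q : Subgroup G) = p ^ (Nat.card G).factorization p :=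
          Q.card_eq_multiplicity
        have h2 : p ^ ((Nat.card G).factorization p + 1) ∣ Nat.card G := by
          rw [pow_succ', ← h1]
          exact (Nat.mul_dvd_mul hd dvd_rfl).trans hcard.dvd
        exact Nat.pow_succ_factorization_not_dvd Nat.card_pos.ne' hp h2
      rw [hKb, Subgroup.card_bot, one_mul] at hcard
      obtain ⟨m, hm⟩ := IsPGroup.iff_card.1 Q.2
      exact Core.isPSolvable_of_isPGroup (IsPGroup.of_card (hcard.symm.trans hm))
    by_cases hsimple : IsSimpleGroup G
    · by_cases hab : IsMulCommutative G
      · haveI := hab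
        let _ : CommGroup G := { (inferInstance : Group G) with
          mul_comm := fun a b => hab.is_comm.comm a b }
        exact Core.isPSolvable_of_isSolvable
      obtain ⟨⟨x, hxP⟩, hx⟩ := exists_prime_orderOf_dvd_card' p (P.dvd_card_of_dvd_card hdvd)
      have hx1 : x ≠ 1 := fun h => hp.one_lt.ne (by
        rw [← hx, ← orderOf_one (G := (P : Subgroup G))]; congr 1; exact (Subtype.ext h).symm)
      by_cases hp2 : p = 2
      · -- the involution of the Sylow subgroup is centralized by its normalizer
        subst hp2
        obtain ⟨Q, K, hK, hKQ⟩ := Fusion.hasNormalPComplement_of_normalizer_le_centralizer P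
          fun g hg => Block.CyclicPairs.fixes P hc hg hxP hx1 (by
            have hm := (Subgroup.mem_normalizer_iff.1 hg x).1 hxP
            have ho : orderOf (⟨g * x * g⁻¹, hm⟩ : (P : Subgroup G)) = 2 := by
              rw [← Subgroup.orderOf_coe]
              show orderOf (g * x * g⁻¹) = 2
              rw [← MulAut.conj_apply, MulEquiv.orderOf_eq]
              rw [← Subgroup.orderOf_coe] at hx
              exact hx
            haveI := hc
            haveI : Fintype (P : Subgroup G) := Fintype.ofFinite _
            have hle : (Finset.univ.filter fun c : (P : Subgroup G) => c ^ 2 = 1).card ≤ 2 :=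
              IsCyclic.card_pow_eq_one_le (by norm_num)
            by_contra hne
            have hsub : ({1, ⟨x, hxP⟩, ⟨g * x * g⁻¹, hm⟩} : Finset (P : Subgroup G)) ⊆
                Finset.univ.filter fun c : (P : Subgroup G) => c ^ 2 = 1 := by
              intro c hc
              simp only [Finset.mem_insert, Finset.mem_singleton] at hc
              rcases hc with rfl | rfl | rfl
              · exact Finset.mem_filter.2 ⟨Finset.mem_univ _, one_pow 2⟩
              · exact Finset.mem_filter.2 ⟨Finset.mem_univ _, orderOf_dvd_iff_pow_eq_one.1 hx.dvd⟩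
              · exact Finset.mem_filter.2 ⟨Finset.mem_univ _, orderOf_dvd_iff_pow_eq_one.1 ho.dvd⟩
            have h3 : ({1, ⟨x, hxP⟩, ⟨g * x * g⁻¹, hm⟩} : Finset (P : Subgroup G)).card = 3 := by
              refine Finset.card_eq_three.2 ⟨_, _, _, ?_, ?_, ?_, rfl⟩
              · exact fun h => by rw [← h, orderOf_one] at hx; omega
              · exact fun h => by rw [← h, orderOf_one] at ho; omega
              · exact fun h => hne (by
                  have h' : x = g * x * g⁻¹ := congrArg Subtype.val h
                  calc g * x = g * x * g⁻¹ * g := by group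
                    _ = x * g := by rw [← h'])
            have := Finset.card_le_card hsub
            omega)
        have hcard : Nat.card K * Nat.card (Q : Subgroup G) = Nat.card G := hKQ.card_mul
        obtain ⟨m, hm⟩ := IsPGroup.iff_card.1 Q.2
        rcases Subgroup.Normal.eq_bot_or_eq_top hK with h | h
        · rw [h, Subgroup.card_bot, one_mul] at hcard
          exact Core.isPSolvable_of_isPGroup (IsPGroup.of_card (hcard.symm.trans hm))
        · have h2 : 2 ∣ Nat.card (Q : Subgroup G) := Q.dvd_card_of_dvd_card hdvd
          rw [h, Subgroup.card_top] at hcard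
          have : Nat.card (Q : Subgroup G) = 1 :=
            Nat.eq_of_mul_eq_mul_left (Nat.card_pos (α := G)) (by rw [hcard, mul_one])
          omega
      · exact (Block.CyclicPairs.no_cyclic_pairs hab hdvd P hc hp2 hpair).elim
    · -- a proper nontrivial normal subgroup meets the Sylow subgroup
      haveI : Nontrivial G := by
        by_contra hnt
        rw [not_nontrivial_iff_subsingleton] at hnt
        rw [Nat.card_of_subsingleton (1 : G), Nat.dvd_one] at hdvd
        exact hp.ne_one hdvd
      obtain ⟨N, hN, hN1, hN2⟩ : ∃ N : Subgroup G, N.Normal ∧ N ≠ ⊥ ∧ N ≠ ⊤ := by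
        by_contra hno
        push Not at hno
        exact hsimple ⟨fun N hN => (em (N = ⊥)).imp id fun h => hno N hN h⟩
      have hcycN : ∀ S : Sylow p N, IsCyclic (S : Subgroup N) := fun S => by
        haveI := Block.CyclicPairs.isCyclic_of_isPGroup P hc (S.2.map N.subtype)
        exact isCyclic_of_injective
          ((Subgroup.equivMapOfInjective (S : Subgroup N) N.subtype N.subtype_injective).toMonoidHom)
          (MulEquiv.injective _)
      have hsub : ∀ M : Subgroup G, (∀ S : Sylow p M, IsCyclic (S : Subgroup M)) → M ≠ ⊤ →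
          IsPSolvable p M := by
        intro M hM hMt
        obtain ⟨S⟩ := (inferInstance : Nonempty (Sylow p M))
        refine ih M ?_ S (hM S) fun a b ha hb => ?_
        · have : Nat.card M < Nat.card G := lt_of_le_of_ne (Subgroup.card_le_card_group M)
            fun h => hMt (Subgroup.eq_top_of_card_eq M h)
          omega
        have hmap : (Subgroup.closure ({a, b} : Set M)).map M.subtype =
            Subgroup.closure ({(a : G), (b : G)} : Set G) := by
          rw [MonoidHom.map_closure, Set.image_pair]; rfl
        have h := hpair a b (by rw [Subgroup.orderOf_coe, ha]) (by rw [Subgroup.orderOf_coe, hb])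
        rw [← hmap] at h
        exact Core.isPSolvable_of_surjective
          (Subgroup.equivMapOfInjective (Subgroup.closure ({a, b} : Set M)) M.subtype
            M.subtype_injective).symm.toMonoidHom (MulEquiv.surjective _) h
      have hNs := hsub N hcycN hN2
      haveI : Nontrivial N := (Subgroup.nontrivial_iff_ne_bot N).2 hN1
      have hON : pPrimeCore p N = ⊥ := by
        have h := Core.pPrimeCore_map_le_of_normal (G := G) (p := p) (H := N) (K := ⊤) le_top
        by_contra hne
        have hn : ((pPrimeCore p N).map N.subtype).Normal :=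
          ConjAct.normal_of_characteristic_of_normal
        refine hne ((Subgroup.map_eq_bot_iff_of_injective _ N.subtype_injective).1
          (le_bot_iff.1 (hO ▸ Core.le_pPrimeCore' hn ?_)))
        rw [Subgroup.card_map_of_injective N.subtype_injective]
        exact Core.pPrimeCore_coprime p N
      have hOG : pCore p G ≠ ⊥ := fun hb => by
        refine Core.pCore_ne_bot_of_isPSolvable hNs hON ?_
        have hn : ((pCore p N).map N.subtype).Normal :=
          ConjAct.normal_of_characteristic_of_normal
        exact (Subgroup.map_eq_bot_iff_of_injective _ N.subtype_injective).1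
          (le_bot_iff.1 (hb ▸ Core.le_pCore' hn ((Core.pCore_isPGroup p N).map _)))
      obtain ⟨⟨z, hz⟩, hzo⟩ := exists_prime_orderOf_dvd_card' (G := pCore p G) p (by
        obtain ⟨m, hm⟩ := IsPGroup.iff_card.1 (Core.pCore_isPGroup p G)
        rw [hm]
        refine dvd_pow_self p fun h0 => hOG (Subgroup.eq_bot_of_card_eq _ ?_)
        rw [hm, h0, pow_zero])
      have hzP : z ∈ (P : Subgroup G) := Core.pCore_le_sylow P hz
      rw [← Subgroup.orderOf_coe] at hzo
      have hz1 : z ≠ 1 := fun h => hp.one_lt.ne (by rw [← hzo]; simp [h])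
      by_cases hcen : ∀ g : G, g * z = z * g
      · exact hburn z hzP hz1 hcen
      set C := Subgroup.centralizer ({z} : Set G)
      have hPC : (P : Subgroup G) ≤ C := fun g hg => Subgroup.mem_centralizer_singleton_iff.2
        (congrArg Subtype.val (mul_comm' (⟨g, hg⟩ : (P : Subgroup G)) ⟨z, hzP⟩))
      -- every conjugate of `z` is a power of it, so its centralizer is normal
      have hconj : ∀ g : G, ∃ i : ℕ, z ^ i = g * z * g⁻¹ := by
        intro g
        have hm : g * z * g⁻¹ ∈ (P : Subgroup G) :=
          Core.pCore_le_sylow P ((Subgroup.Normal.conj_mem inferInstance z hz g))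
        obtain ⟨i, hi⟩ : ∃ i : ℕ, (⟨z, hzP⟩ : (P : Subgroup G)) ^ i = ⟨g * z * g⁻¹, hm⟩ := by
          haveI := hc
          have hw : orderOf (⟨z, hzP⟩ : (P : Subgroup G)) = p := by
            rw [← Subgroup.orderOf_coe]; exact hzo
          have hinjOn : Set.InjOn (fun i : ℕ => (⟨z, hzP⟩ : (P : Subgroup G)) ^ i) (Finset.range p) :=
            fun i hi j hj h => pow_injOn_Iio_orderOf (x := (⟨z, hzP⟩ : (P : Subgroup G)))
              (by rw [Set.mem_Iio, hw]; exact Finset.mem_range.1 hi)
              (by rw [Set.mem_Iio, hw]; exact Finset.mem_range.1 hj) h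
          have himg : (Finset.range p).image (fun i : ℕ => (⟨z, hzP⟩ : (P : Subgroup G)) ^ i) =
              Finset.univ.filter fun c : (P : Subgroup G) => c ^ p = 1 := by
            refine Finset.eq_of_subset_of_card_le (fun c hc => ?_) ?_
            · obtain ⟨i, -, rfl⟩ := Finset.mem_image.1 hc
              refine Finset.mem_filter.2 ⟨Finset.mem_univ _, ?_⟩
              rw [← pow_mul, mul_comm, pow_mul, orderOf_dvd_iff_pow_eq_one.1 hw.dvd, one_pow]
            · rw [Finset.card_image_of_injOn hinjOn, Finset.card_range]
              exact IsCyclic.card_pow_eq_one_le hp.pos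
          have hb : (⟨g * z * g⁻¹, hm⟩ : (P : Subgroup G)) ^ p = 1 := Subtype.ext (by
            simp only [SubgroupClass.coe_pow, OneMemClass.coe_one]
            rw [conj_pow, orderOf_dvd_iff_pow_eq_one.1 hzo.dvd, mul_one, mul_inv_cancel])
          obtain ⟨i, -, hi⟩ := Finset.mem_image.1
            ((Finset.ext_iff.1 himg _).2 (Finset.mem_filter.2 ⟨Finset.mem_univ _, hb⟩))
          exact ⟨i, hi⟩
        exact ⟨i, by simpa using congrArg Subtype.val hi⟩
      haveI hCn : C.Normal := ⟨fun c hc' g => by
        obtain ⟨i, hi⟩ := hconj g⁻¹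
        rw [inv_inv] at hi
        have h : Commute c (g⁻¹ * z * g) :=
          hi ▸ ((show Commute c z from Subgroup.mem_centralizer_singleton_iff.1 hc').pow_right i)
        refine Subgroup.mem_centralizer_singleton_iff.2 ?_
        calc g * c * g⁻¹ * z = g * (c * (g⁻¹ * z * g)) * g⁻¹ := by group
          _ = g * ((g⁻¹ * z * g) * c) * g⁻¹ := by rw [h.eq]
          _ = z * (g * c * g⁻¹) := by group⟩
      -- Burnside in the centralizer
      obtain ⟨Q, K, hK, hKQ⟩ := Fusion.hasNormalPComplement_of_normalizer_le_centralizer
        (P.subtype hPC) fun g hg => by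
          rw [Sylow.coe_subtype] at hg ⊢
          have hgN : (g : G) ∈ Subgroup.normalizer ((P : Subgroup G) : Set G) := by
            refine Subgroup.mem_normalizer_iff.2 fun w => ⟨fun hw => ?_, fun hw => ?_⟩
            · exact (Subgroup.mem_normalizer_iff.1 hg ⟨w, hPC hw⟩).1 hw
            · have hwC : w ∈ C := by
                have h := mul_mem (mul_mem (inv_mem g.2) (hPC hw)) g.2
                simpa [mul_assoc] using h
              exact (Subgroup.mem_normalizer_iff.1 hg ⟨w, hwC⟩).2 hw
          have hgP := Block.CyclicPairs.fixes P hc hgN hzP hz1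
            (Subgroup.mem_centralizer_singleton_iff.1 g.2)
          exact Subgroup.mem_centralizer_iff.2 fun w hw =>
            Subtype.ext (Subgroup.mem_centralizer_iff.1 hgP (w : G) hw)
      have hcard : Nat.card K * Nat.card (Q : Subgroup C) = Nat.card C := hKQ.card_mul
      have hKb : K = ⊥ := by
        have hKc : (Nat.card K).Coprime p := by
          refine (hp.coprime_iff_not_dvd.2 fun hd => ?_).symm
          have h1 : Nat.card (Q : Subgroup C) = p ^ (Nat.card C).factorization p :=
            Q.card_eq_multiplicity
          have h2 : p ^ ((Nat.card C).factorization p + 1) ∣ Nat.card C := by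
            rw [pow_succ', ← h1]
            exact (Nat.mul_dvd_mul hd dvd_rfl).trans hcard.dvd
          exact Nat.pow_succ_factorization_not_dvd Nat.card_pos.ne' hp h2
        have hK' : K ≤ pPrimeCore p C := Core.le_pPrimeCore' hK hKc
        have hn : ((pPrimeCore p C).map C.subtype).Normal :=
          ConjAct.normal_of_characteristic_of_normal
        have hb : (pPrimeCore p C).map C.subtype = ⊥ := le_bot_iff.1 (hO ▸ Core.le_pPrimeCore' hn (by
          rw [Subgroup.card_map_of_injective C.subtype_injective]
          exact Core.pPrimeCore_coprime p C))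
        exact le_bot_iff.1 (hK'.trans ((Subgroup.map_eq_bot_iff_of_injective _
          C.subtype_injective).1 hb).le)
      rw [hKb, Subgroup.card_bot, one_mul] at hcard
      obtain ⟨m, hm⟩ := IsPGroup.iff_card.1 Q.2
      refine psolvable_extension C (Or.inl ⟨m, hcard.symm.trans hm⟩) (pfactor_of_coprime ?_)
      refine (hp.coprime_iff_not_dvd.2 fun hd => ?_).symm
      rw [← Subgroup.index_eq_card] at hd
      have h1 : (P : Subgroup G).index = (P : Subgroup G).relIndex C * C.index :=
        (Subgroup.relIndex_mul_index hPC).symm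
      exact P.not_dvd_index (h1 ▸ hd.mul_left _)

/-- Let G be a finite group whose Sylow p-subgroups are cyclic. Then G is p-solvable if and only if every two elements of order p of G generate a p-solvable subgroup. -/
theorem result {G : Type*} [Group G] [Finite G] {p : ℕ} [Fact p.Prime] (P : Sylow p G) (hP : IsCyclic ↥(P : Subgroup G)) :
    Cfsg.IsPSolvable p G ↔ ∀ x y : G, orderOf x = p → orderOf y = p → Cfsg.IsPSolvable p ↥(Subgroup.closure ({x, y} : Set G)) := by
  exact ⟨fun h x y _ _ => Core.isPSolvable_subgroup h _, fun h => backward _ G le_rfl P hP h⟩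

end Cfsg.Agent.S1950
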