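import Cfsg.Statements.S1951
import Cfsg.Agent.Lib.Block.OneClassMain
-- import your own Cfsg.Agent.* helpers here

set_option autoImplicit false
open Cfsg

namespace Cfsg.Agent.S1951

/-- Let p be a prime and P a nontrivial elementary abelian Sylow p-subgroup of a finite nonabelian simple group G whose nonidentity elements are all conjugate in G. Suppose that two elements of P are conjugate in G only if they are conjugate in N_G(P), that the centralizer of every element of order p of P has a normal p-complement, and that every two elements of order p of G generate a p-solvable subgroup. Then p = 2. -/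
theorem result {G : Type*} [Group G] [Finite G] [IsSimpleGroup G] (hG : ¬ IsMulCommutative G) {p : ℕ} [Fact p.Prime] (P : Sylow p G)
    (hP1 : (P : Subgroup G) ≠ ⊥) (hPe : Cfsg.IsElementaryAbelian p (P : Subgroup G))
    (hconj : ∀ x ∈ (P : Subgroup G), ∀ y ∈ (P : Subgroup G), x ≠ 1 → y ≠ 1 → ∃ g : G, g * x * g⁻¹ = y)
    (ha : ∀ x ∈ (P : Subgroup G), ∀ y ∈ (P : Subgroup G), (∃ g : G, g * x * g⁻¹ = y) →
      ∃ n ∈ Subgroup.normalizer ((P : Subgroup G) : Set G), n * x * n⁻¹ = y)
    (hb : ∀ x ∈ (P : Subgroup G), orderOf x = p → Cfsg.HasNormalPComplement p ↥(Subgroup.centralizer ({x} : Set G)))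
    (hc : ∀ x y : G, orderOf x = p → orderOf y = p → Cfsg.IsPSolvable p ↥(Subgroup.closure ({x, y} : Set G))) :
    p = 2 := by
  classical
  by_contra hp2
  have hp := Fact.out (p := p.Prime)
  haveI : Fintype G := Fintype.ofFinite G
  obtain ⟨hcm, hex⟩ := hPe
  have hexp : ∀ a ∈ (P : Subgroup G), a ≠ 1 → orderOf a = p := fun a ha' h1 =>
    (orderOf_eq_prime (hex a ha') h1)
  obtain ⟨⟨x, hxP⟩, hx1⟩ := Subgroup.ne_bot_iff_exists_ne_one.1 hP1
  have hx1' : x ≠ 1 := fun h => hx1 (Subtype.ext h)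
  have hx := hexp x hxP hx1'
  have hsyl : ∀ S : Subgroup G, IsPGroup p S →
      ∃ c : G, ∀ a ∈ S, c⁻¹ * a * c ∈ (P : Subgroup G) := by
    intro S hS
    obtain ⟨T, hT⟩ := hS.exists_le_sylow
    obtain ⟨c, hc⟩ := MulAction.exists_smul_eq G P T
    refine ⟨c, fun a ha' => ?_⟩
    have hm := hT ha'
    rw [← hc, Sylow.coe_subgroup_smul] at hm
    obtain ⟨w, hw, hwe⟩ := hm
    rw [← show c * w * c⁻¹ = a from hwe, show c⁻¹ * (c * w * c⁻¹) * c = w by group]
    exact hw
  refine Cfsg.Lib.Block.OneClass.no_one_class hG hp2 P hxP hx hexp (fun y hy => ?_)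
    (hb x hxP hx) hc ?_
  · obtain ⟨c, hc'⟩ := hsyl (Subgroup.zpowers y)
      (IsPGroup.of_card (n := 1) (by rw [Nat.card_zpowers, hy, pow_one]))
    have hw := hc' y (Subgroup.mem_zpowers y)
    have hw1 : c⁻¹ * y * c ≠ 1 := fun h => hp.one_lt.ne (by
      rw [← hy, show y = c * (c⁻¹ * y * c) * c⁻¹ by group, h, mul_one, mul_inv_cancel, orderOf_one])
    obtain ⟨g, hg⟩ := hconj x hxP _ hw hx1' hw1
    refine isConj_iff.2 ⟨c * g, ?_⟩
    rw [show (c * g) * x * (c * g)⁻¹ = c * (g * x * g⁻¹) * c⁻¹ by group, hg]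
    group
  · intro S hS a ha' b hb'
    obtain ⟨c, hc'⟩ := hsyl S hS
    have h := congrArg Subtype.val
      (hcm.is_comm.comm ⟨_, hc' a ha'⟩ ⟨_, hc' b hb'⟩)
    simp only [Subgroup.coe_mul] at h
    calc a * b = c * ((c⁻¹ * a * c) * (c⁻¹ * b * c)) * c⁻¹ := by group
      _ = c * ((c⁻¹ * b * c) * (c⁻¹ * a * c)) * c⁻¹ := by rw [h]
      _ = b * a := by group

end Cfsg.Agent.S1951
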