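import Cfsg.Statements.S1952
import Mathlib.GroupTheory.Perm.Cycle.Type
import Mathlib.NumberTheory.Padics.PadicVal.Basic
-- import your own Cfsg.Agent.* helpers here

set_option autoImplicit false
open Cfsg

namespace Cfsg.Agent.S1952

open Subgroup in
open scoped IsMulCommutative in
theorem core {P : Type*} [Group P] [Finite P] {p : ℕ} [Fact p.Prime] (hP : IsPGroup p P) (A : Subgroup P) [A.Normal]
    (hA : Cfsg.IsElementaryAbelian p A) (hidx : A.index = p) (x y : P) (hx : x ∈ A) (hy : y ∉ A)
    (hprod : ((List.range p).map (fun i => (y ^ i)⁻¹ * x * y ^ i)).prod ≠ 1) :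
    ∃ (Q : Sylow p (Equiv.Perm (Fin (p ^ 2)))) (f : P →* ↥(Q : Subgroup (Equiv.Perm (Fin (p ^ 2))))), Function.Surjective f := by
  classical
  have hp : p.Prime := Fact.out
  haveI : NeZero p := ⟨hp.ne_zero⟩
  haveI : IsMulCommutative A := hA.1
  have hconjA : ∀ (g a : P), a ∈ A → g⁻¹ * a * g ∈ A := fun g a ha => by
    simpa using (inferInstance : A.Normal).conj_mem a ha g⁻¹
  set N0 : A := ∏ i ∈ Finset.range p, ⟨(y ^ i)⁻¹ * x * y ^ i, hconjA _ _ hx⟩ with hN0
  have hN0ne : N0 ≠ 1 := by
    intro h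
    refine hprod ?_
    have h1 : ((List.range p).map (fun i => (⟨(y ^ i)⁻¹ * x * y ^ i, hconjA _ _ hx⟩ : A))).prod = 1 := h
    have h2 := congrArg A.subtype h1
    rw [map_list_prod, List.map_map, map_one] at h2
    exact h2
  have hexp : ∀ a : A, a ^ p = 1 := fun a => Subtype.ext (hA.2 a a.2)
  -- a maximal subgroup avoiding the norm
  obtain ⟨H₀, hH₀, hmax⟩ := Set.Finite.exists_maximal (s := {H : Subgroup A | N0 ∉ H}) (Set.toFinite _) ⟨⊥, hN0ne⟩
  have hH0 : N0 ∉ H₀ := hH₀
  have hgenH : ∀ a : A, a ∈ H₀ ⊔ zpowers N0 := by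
    intro a
    by_cases ha : a ∈ H₀
    · exact mem_sup_left ha
    have hN : N0 ∈ H₀ ⊔ zpowers a := by
      by_contra hN
      exact ha (hmax hN le_sup_left (mem_sup_right (mem_zpowers a)))
    obtain ⟨h, hh, b, hb, hhb⟩ := mem_sup.1 hN
    obtain ⟨k, -, rfl⟩ := mem_zpowers_iff_mem_range_orderOf.1 hb |> Finset.mem_image.1
    have hk : ¬ p ∣ k := by
      rintro ⟨l, rfl⟩
      rw [pow_mul, hexp, one_pow, mul_one] at hhb
      exact hH0 (hhb ▸ hh)
    obtain ⟨m, hm⟩ := exists_pow_eq_self_of_coprime (x := a) (n := k)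
      (((hp.coprime_iff_not_dvd.2 hk).symm).coprime_dvd_right (orderOf_dvd_of_pow_eq_one (hexp a)))
    have hak : a ^ k = h⁻¹ * N0 := by rw [← hhb, inv_mul_cancel_left]
    rw [← hm, hak]
    exact Subgroup.pow_mem _ (mul_mem (mem_sup_left (inv_mem hh)) (mem_sup_right (mem_zpowers N0))) m
  have hH₀idx : H₀.index = p := by
    have hbot : H₀ ⊓ zpowers N0 = ⊥ := by
      rw [eq_bot_iff]
      rintro b ⟨hb1, hb2⟩
      obtain ⟨k, -, rfl⟩ := mem_zpowers_iff_mem_range_orderOf.1 hb2 |> Finset.mem_image.1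
      by_cases hk : p ∣ k
      · obtain ⟨l, rfl⟩ := hk
        rw [pow_mul, hexp, one_pow]; exact one_mem _
      · exfalso
        obtain ⟨m, hm⟩ := exists_pow_eq_self_of_coprime (x := N0) (n := k)
          (((hp.coprime_iff_not_dvd.2 hk).symm).coprime_dvd_right (orderOf_dvd_of_pow_eq_one (hexp N0)))
        exact hH0 (hm ▸ H₀.pow_mem hb1 m)
    have hc : IsComplement' H₀ (zpowers N0) := by
      refine isComplement'_of_disjoint_and_mul_eq_univ (disjoint_iff.2 hbot) ?_
      rw [← normal_mul, show H₀ ⊔ zpowers N0 = ⊤ from eq_top_iff.2 fun a _ => hgenH a, coe_top]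
    rw [hc.symm.index_eq_card, Nat.card_zpowers, orderOf_eq_prime (hexp N0) hN0ne]
  set H : Subgroup P := H₀.map A.subtype with hH
  have hHidx : H.index = p ^ 2 := by
    rw [hH, index_map_of_injective _ A.subtype_injective, A.range_subtype, hidx, hH₀idx, pow_two]
  set K := H.normalCore with hK
  have hKA : K ≤ A := (normalCore_le H).trans (map_subtype_le _)
  set Kc : Subgroup A := K.subgroupOf A with hKc
  -- the cyclic module generated by `x`
  have hyp : y ^ p ∈ A := by
    have h := A.pow_index_mem y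
    rwa [hidx] at h
  have hper : ∀ i : ℕ, (y ^ (i + p))⁻¹ * x * y ^ (i + p) = (y ^ i)⁻¹ * x * y ^ i := by
    intro i
    have hc : (y ^ p)⁻¹ * x * y ^ p = x := by
      have h1 : x * y ^ p = y ^ p * x := congrArg Subtype.val (mul_comm (⟨x, hx⟩ : A) ⟨y ^ p, hyp⟩)
      rw [mul_assoc, h1, inv_mul_cancel_left]
    calc (y ^ (i + p))⁻¹ * x * y ^ (i + p) = (y ^ i)⁻¹ * ((y ^ p)⁻¹ * x * y ^ p) * y ^ i := by
          rw [show y ^ (i + p) = y ^ p * y ^ i by rw [← pow_add, add_comm]]; group
      _ = _ := by rw [hc]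
  have hmod : ∀ i : ℕ, (y ^ i)⁻¹ * x * y ^ i = (y ^ (i % p))⁻¹ * x * y ^ (i % p) := by
    intro i
    induction i using Nat.strong_induction_on with
    | _ i ih =>
      rcases lt_or_ge i p with h | h
      · rw [Nat.mod_eq_of_lt h]
      · obtain ⟨j, rfl⟩ : ∃ j, i = j + p := ⟨i - p, by omega⟩
        rw [hper, ih j (by have := hp.pos; omega), Nat.add_mod_right]
  let xs : ZMod p → A := fun i => ⟨(y ^ i.val)⁻¹ * x * y ^ i.val, hconjA _ _ hx⟩
  let π : A →* A ⧸ Kc := QuotientGroup.mk' Kc
  let Ψ : (ZMod p → Multiplicative (ZMod p)) →* A ⧸ Kc :=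
    { toFun := fun e => ∏ i : ZMod p, π (xs i) ^ (Multiplicative.toAdd (e i)).val
      map_one' := by simp
      map_mul' := fun e e' => by
        rw [← Finset.prod_mul_distrib]
        refine Finset.prod_congr rfl fun i _ => ?_
        rw [← pow_add, Pi.mul_apply, toAdd_mul, ZMod.val_add]
        refine pow_eq_pow_iff_modEq.2 (Nat.ModEq.of_dvd (orderOf_dvd_of_pow_eq_one ?_) (Nat.mod_modEq _ _))
        rw [← map_pow, hexp, map_one] }
  have hΨinj : Ψ.ker = ⊥ := by
    let σ : Equiv.Perm (ZMod p → Multiplicative (ZMod p)) :=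
      (Equiv.addRight (1 : ZMod p)).arrowCongr (Equiv.refl _)
    have hσ : ∀ e i, σ e i = e (i - 1) := fun e i => by simp [σ, Equiv.arrowCongr, sub_eq_add_neg]
    -- conjugation by `y`
    have hKy : ∀ a : A, a ∈ Kc → (⟨y⁻¹ * a * y, hconjA y a a.2⟩ : A) ∈ Kc := fun a ha => by
      rw [hKc, mem_subgroupOf] at ha ⊢
      simpa using (inferInstance : K.Normal).conj_mem _ ha y⁻¹
    let cy : A →* A :=
      { toFun := fun a => ⟨y⁻¹ * a * y, hconjA y a a.2⟩
        map_one' := Subtype.ext (by simp)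
        map_mul' := fun a b => Subtype.ext (by simp [mul_assoc]) }
    let cq : A ⧸ Kc →* A ⧸ Kc := QuotientGroup.map Kc Kc cy (fun a ha => hKy a ha)
    have hxs : ∀ i : ZMod p, cy (xs i) = xs (i + 1) := fun i => Subtype.ext (by
      show y⁻¹ * ((y ^ i.val)⁻¹ * x * y ^ i.val) * y = (y ^ (i + 1).val)⁻¹ * x * y ^ (i + 1).val
      rw [ZMod.val_add, ZMod.val_one, ← hmod (i.val + 1), pow_succ]
      group)
    have hcomm : ∀ e, Ψ (σ e) = cq (Ψ e) := by
      intro e
      show ∏ i : ZMod p, π (xs i) ^ (Multiplicative.toAdd (σ e i)).val = cq (∏ i : ZMod p, π (xs i) ^ (Multiplicative.toAdd (e i)).val)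
      rw [map_prod]
      symm
      refine Fintype.prod_equiv (Equiv.addRight (1 : ZMod p)) _ _ fun i => ?_
      rw [map_pow, hσ, Equiv.coe_addRight, add_sub_cancel_right]
      congr 1
      show QuotientGroup.mk (cy (xs i)) = QuotientGroup.mk (xs (i + 1))
      rw [hxs]
    have hcast : ∀ k : ℕ, ((k : ℕ) : ZMod p).val = k % p := ZMod.val_natCast p
    let τ : Ψ.ker → Ψ.ker := fun e => ⟨σ e, by
      rw [MonoidHom.mem_ker, hcomm, MonoidHom.mem_ker.1 e.2, map_one]⟩
    have hτ : Function.Bijective τ := Finite.injective_iff_bijective.1 fun a b h =>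
      Subtype.ext (σ.injective (congrArg Subtype.val h))
    let T : Equiv.Perm Ψ.ker := Equiv.ofBijective τ hτ
    have hTn : ∀ (n : ℕ) (e : Ψ.ker) (i : ZMod p), ((T ^ n) e).1 i = e.1 (i - n) := by
      intro n
      induction n with
      | zero => intro e i; simp
      | succ n ih =>
        intro e i
        rw [pow_succ', Equiv.Perm.mul_apply]
        show σ ((T ^ n) e).1 i = _
        rw [hσ, ih]
        congr 1
        push_cast
        ring
    haveI : Fintype Ψ.ker := Fintype.ofFinite _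
    have hfix : T.supportᶜ = {1} := by
      ext e
      rw [Finset.mem_compl, Equiv.Perm.notMem_support, Finset.mem_singleton]
      constructor
      · intro he
        have hconst : ∀ i, e.1 i = e.1 0 := fun i => by
          have hn : ∀ n : ℕ, (T ^ n) e = e := fun n => by
            induction n with
            | zero => rfl
            | succ n ih => rw [pow_succ, Equiv.Perm.mul_apply, he, ih]
          have h := congrArg (fun z : Ψ.ker => z.1 i) (hn i.val)
          simp only [hTn, ZMod.natCast_zmod_val, sub_self] at h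
          exact h.symm
        set k := (Multiplicative.toAdd (e.1 0)).val with hk
        have hker : π (N0 ^ k) = 1 := by
          have h : ∏ i : ZMod p, π (xs i) ^ (Multiplicative.toAdd (e.1 i)).val = 1 := MonoidHom.mem_ker.1 e.2
          simp only [hconst, ← hk, Finset.prod_pow] at h
          rw [map_pow, hN0, map_prod, ← h]
          congr 1
          refine Finset.prod_nbij' (fun i : ℕ => (i : ZMod p)) (fun i : ZMod p => i.val) (fun _ _ => Finset.mem_univ _)
            (fun i _ => Finset.mem_range.2 (ZMod.val_lt i)) ?_ (fun i _ => ZMod.natCast_zmod_val i) ?_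
          · intro i hi
            rw [hcast, Nat.mod_eq_of_lt (Finset.mem_range.1 hi)]
          · intro i hi
            refine congrArg π (Subtype.ext ?_)
            show (y ^ i)⁻¹ * x * y ^ i = (y ^ ((i : ℕ) : ZMod p).val)⁻¹ * x * y ^ ((i : ℕ) : ZMod p).val
            rw [hcast, Nat.mod_eq_of_lt (Finset.mem_range.1 hi)]
        have hin : N0 ^ k ∈ H₀ := by
          have h1 : N0 ^ k ∈ Kc := (QuotientGroup.eq_one_iff _).1 hker
          rw [hKc, mem_subgroupOf] at h1
          obtain ⟨a, ha, hae⟩ := normalCore_le H h1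
          rwa [A.subtype_injective (a₂ := N0 ^ k) hae] at ha
        have hk0 : k = 0 := by
          by_contra hk0
          have hlt : k < p := ZMod.val_lt _
          obtain ⟨m, hm⟩ := exists_pow_eq_self_of_coprime (x := N0) (n := k)
            ((((hp.coprime_iff_not_dvd.2 (Nat.not_dvd_of_pos_of_lt (Nat.pos_of_ne_zero hk0) hlt))).symm).coprime_dvd_right
              (orderOf_dvd_of_pow_eq_one (hexp N0)))
          exact hH0 (hm ▸ H₀.pow_mem hin m)
        refine Subtype.ext (funext fun i => ?_)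
        rw [hconst i]
        rw [hk, ZMod.val_eq_zero] at hk0
        exact Multiplicative.toAdd.injective (by simpa using hk0)
      · rintro rfl
        refine Subtype.ext (funext fun i => ?_)
        show σ 1 i = 1
        rw [hσ]; rfl
    have hmodc := Equiv.Perm.card_compl_support_modEq (p := p) (n := 1) (σ := T)
      (Equiv.ext fun e => Subtype.ext (funext fun i => by
        rw [pow_one, hTn, ZMod.natCast_self, sub_zero]; rfl))
    rw [hfix, Finset.card_singleton] at hmodc
    have hpg : IsPGroup p Ψ.ker := IsPGroup.to_subgroup (IsPGroup.of_card (n := p) (by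
      rw [Nat.card_fun, Nat.card_congr Multiplicative.toAdd, Nat.card_zmod])) _
    obtain ⟨n, hn⟩ := hpg.exists_card_eq
    refine eq_bot_of_card_eq _ ?_
    rw [hn]
    rcases n with _ | n
    · rfl
    · exfalso
      rw [← Nat.card_eq_fintype_card, hn] at hmodc
      have h1 : (p ^ (n + 1)) % p = 0 := Nat.mod_eq_zero_of_dvd (dvd_pow_self p (Nat.succ_ne_zero n)) |>.trans rfl
      have h2 : 1 % p = (p ^ (n + 1)) % p := hmodc
      rw [h1, Nat.one_mod_eq_one.2 hp.ne_one] at h2
      exact one_ne_zero h2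
  have hcardA : p ^ p ≤ Nat.card (A ⧸ Kc) := by
    refine le_trans (le_of_eq ?_) (Nat.card_le_card_of_injective Ψ ((MonoidHom.ker_eq_bot_iff Ψ).1 hΨinj))
    rw [Nat.card_fun, Nat.card_congr Multiplicative.toAdd, Nat.card_zmod]
  -- the action on the cosets of `H`
  let E : (P ⧸ H) ≃ Fin (p ^ 2) := Finite.equivFinOfCardEq hHidx
  let f₀ : P →* Equiv.Perm (Fin (p ^ 2)) := (E.permCongrHom.toMonoidHom).comp (MulAction.toPermHom P (P ⧸ H))
  have hker : f₀.ker = K := by
    rw [hK, normalCore_eq_ker]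
    ext g
    simp [f₀, MonoidHom.mem_ker]
  obtain ⟨Q, hQ⟩ := (hP.of_surjective f₀.rangeRestrict f₀.rangeRestrict_surjective : IsPGroup p f₀.range).exists_le_sylow
  refine ⟨Q, f₀.codRestrict _ fun g => hQ ⟨g, rfl⟩, ?_⟩
  have hQcard : Nat.card (Q : Subgroup (Equiv.Perm (Fin (p ^ 2)))) = p ^ (p + 1) := by
    rw [Q.card_eq_multiplicity, Nat.card_eq_fintype_card, Fintype.card_perm, Fintype.card_fin, Nat.factorization_def _ hp, pow_two,
      padicValNat_factorial_mul]
    congr 1
    have h1 := padicValNat_factorial_mul (p := p) 1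
    rw [mul_one, Nat.factorial_one, padicValNat_one_right] at h1
    rw [h1]; omega
  have hrange : f₀.range = (Q : Subgroup (Equiv.Perm (Fin (p ^ 2)))) := by
    refine eq_of_le_of_card_ge hQ ?_
    rw [hQcard, ← Nat.card_congr (QuotientGroup.quotientKerEquivRange f₀).toEquiv, hker]
    change _ ≤ K.index
    rw [← relIndex_mul_index hKA, hidx, pow_succ]
    exact Nat.mul_le_mul_right p hcardA
  intro q
  obtain ⟨g, hg⟩ : (q : Equiv.Perm (Fin (p ^ 2))) ∈ f₀.range := by rw [hrange]; exact q.2
  exact ⟨g, Subtype.ext hg⟩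


/-- Let P be a finite p-group with a normal elementary abelian subgroup A of index p, and let x ∈ A and y ∈ P with y outside A. If the product of the p conjugates y^(-i) x y^i (i = 0, …, p−1) is not the identity, then the wreath product Z_p ≀ Z_p, realised as a Sylow p-subgroup of the symmetric group of degree p², is a homomorphic image of P. -/
theorem result {P : Type*} [Group P] [Finite P] {p : ℕ} [Fact p.Prime] (hP : IsPGroup p P) (A : Subgroup P) [A.Normal]
    (hA : Cfsg.IsElementaryAbelian p A) (hidx : A.index = p) (x y : P) (hx : x ∈ A) (hy : y ∉ A)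
    (hprod : ((List.range p).map (fun i => (y ^ i)⁻¹ * x * y ^ i)).prod ≠ 1) :
    ∃ (Q : Sylow p (Equiv.Perm (Fin (p ^ 2)))) (f : P →* ↥(Q : Subgroup (Equiv.Perm (Fin (p ^ 2))))), Function.Surjective f := by
  exact core hP A hA hidx x y hx hy hprod

end Cfsg.Agent.S1952
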