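import Cfsg.Statements.S1953
import Cfsg.Agent.Lib.FusionSys.QdControl
import Cfsg.Agent.Lib.FusionSys.Solvable
import Cfsg.Agent.Lib.Sig.Small
import Cfsg.Agent.Lib.Local.Sylow
import Cfsg.Agent.Lib.Fusion.Abelian
import Cfsg.Agent.Lib.Core.Smul

set_option autoImplicit false
open Cfsg

namespace Cfsg.Agent.S1953

open Subgroup Cfsg.Lib Cfsg.Lib.FusionSys

universe u

variable {G : Type u} [Group G] [Finite G] {p : ℕ} [hp : Fact p.Prime]

omit [Finite G] hp in
theorem conj_mem_centralizer {H : Subgroup G} {n c : G} (hn : n ∈ normalizer (H : Set G))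
    (hc : c ∈ centralizer (H : Set G)) : n * c * n⁻¹ ∈ centralizer (H : Set G) := by
  refine mem_centralizer_iff.2 fun y hy => ?_
  have h := mem_centralizer_iff.1 hc (n⁻¹ * y * n) ((mem_normalizer_iff''.1 hn y).1 hy)
  calc y * (n * c * n⁻¹) = n * ((n⁻¹ * y * n) * c) * n⁻¹ := by group
    _ = _ := by rw [h]; group

omit [Finite G] hp in
theorem map_conj_eq_of_mem {H : Subgroup G} {n : G} (hn : n ∈ normalizer (H : Set G)) :
    H.map (MulAut.conj n).toMonoidHom = H := Core.map_conj_eq_of_mem_normalizer hn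

/-- An `SL₂(p)`-free normalizer condition excludes `Qd(p)`. -/
theorem not_involves_qd
    (hfree : ∀ Q : Subgroup G, IsPGroup p ↥Q → ¬ ∃ (H K : Subgroup G) (_ : (K.subgroupOf H).Normal),
      Subgroup.centralizer (Q : Set G) ≤ K ∧ K ≤ H ∧ H ≤ Subgroup.normalizer (Q : Set G) ∧
      Nonempty ((↥H ⧸ K.subgroupOf H) ≃* Matrix.SpecialLinearGroup (Fin 2) (ZMod p))) :
    ¬ Cfsg.Involves ↥(Cfsg.qd p) G := by
  rintro ⟨K, R, hR, ⟨e⟩⟩
  let η : ↥K →* ↥(Cfsg.qd p) := e.toMonoidHom.comp (QuotientGroup.mk' (R.subgroupOf K))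
  have hη : Function.Surjective η := e.surjective.comp (QuotientGroup.mk'_surjective _)
  set V := (Local.QdGroup.block p).ker with hV
  set W := V.comap η with hW
  haveI : W.Normal := (MonoidHom.normal_ker _).comap η
  obtain ⟨Q₀⟩ : Nonempty (Sylow p ↥W) := inferInstance
  set Q₁ := (Q₀ : Subgroup ↥W).map W.subtype with hQ₁
  set Q := Q₁.map K.subtype with hQ
  have hfr : normalizer (Q₁ : Set ↥K) ⊔ W = ⊤ := Sylow.normalizer_sup_eq_top Q₀
  set f := (Local.QdGroup.block p).comp η with hf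
  have hfs : Function.Surjective f := (Local.QdGroup.block_surjective p).comp hη
  have hfW : f.ker = W := MonoidHom.comap_ker _ _ |>.symm
  have hsub : ∀ x : ↥K, (x : G) ∈ normalizer (Q : Set G) → x ∈ normalizer (Q₁ : Set ↥K) := by
    intro x hx
    refine mem_normalizer_iff.2 fun y => ?_
    have h := mem_normalizer_iff.1 hx (y : G)
    rw [hQ, ← K.subtype_apply, mem_map_iff_mem K.subtype_injective,
      show (x : G) * K.subtype y * (x : G)⁻¹ = K.subtype (x * y * x⁻¹) by simp,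
      mem_map_iff_mem K.subtype_injective] at h
    exact h
  -- the centralizer lies in the preimage of the translations
  have hQV : V ≤ Q₁.map η := by
    intro v hv
    obtain ⟨w, rfl⟩ := hη v
    let ηW : ↥W →* ↥(Cfsg.qd p) := η.comp W.subtype
    have hrange : ηW.range = V := le_antisymm (by rintro _ ⟨⟨y, hy⟩, rfl⟩; exact hy)
      (fun y hy => by obtain ⟨z, rfl⟩ := hη y; exact ⟨⟨z, hy⟩, rfl⟩)
    have hVp : IsPGroup p ↥V := ker_block_isPGroup
    let g : ↥W →* ↥V := ηW.codRestrict V fun y => hrange.le ⟨y, rfl⟩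
    have hg : Function.Surjective g := fun y => by
      obtain ⟨z, hz⟩ := hrange.ge y.2
      exact ⟨z, Subtype.ext hz⟩
    have htop : ((Q₀.mapSurjective hg : Sylow p ↥V) : Subgroup ↥V) = ⊤ := by
      refine ((Q₀.mapSurjective hg).is_maximal' (hVp.to_subgroup ⊤) le_top).symm
    obtain ⟨z, hz, hze⟩ := htop.ge (mem_top (⟨η w, hv⟩ : ↥V))
    exact ⟨z, mem_map_of_mem _ hz, congrArg Subtype.val hze⟩
  have hcen : ∀ x : ↥K, (x : G) ∈ centralizer (Q : Set G) → x ∈ W := by
    intro x hx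
    refine MonoidHom.mem_ker.2 (block_eq_one_of_comm p (η x) fun v hv => ?_)
    obtain ⟨y, hy, rfl⟩ := hQV hv
    rw [← map_mul, ← map_mul]
    exact congrArg η (Subtype.ext (mem_centralizer_iff.1 hx y (mem_map_of_mem _ hy)).symm)
  set C := centralizer (Q : Set G) with hC
  set N := normalizer (Q : Set G) with hN
  set K₁ := normalizer (Q₁ : Set ↥K) with hK₁
  have hK₁N : K₁.map K.subtype ≤ N := (Subgroup.le_normalizer_map K.subtype)
  have hCN : C ≤ N := centralizer_le_normalizer _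
  set H := K₁.map K.subtype ⊔ C with hH
  set L := (K₁ ⊓ W).map K.subtype ⊔ C with hL
  have hHN : H ≤ N := sup_le hK₁N hCN
  have hLH : L ≤ H := sup_le_sup_right (map_mono inf_le_left) C
  have hnC : H ≤ normalizer (C : Set G) := hHN.trans fun n hn =>
    Core.le_normalizer_iff_conj_mem.2 (fun a ha c hc => conj_mem_centralizer ha hc) hn
  have hLn : (L.subgroupOf H).Normal := by
    refine (normal_subgroupOf_iff_le_normalizer hLH).2 (sup_le ?_ (le_sup_right.trans le_normalizer))
    refine le_trans ?_ (normalizer_inf_normalizer_le_normalizer_sup _ _)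
    refine le_inf ?_ (le_sup_left.trans hnC)
    refine le_trans (map_mono ?_) (Subgroup.le_normalizer_map K.subtype)
    exact fun a ha => (Core.le_normalizer_iff_conj_mem (H := K₁) (K := K₁ ⊓ W)).2
      (fun b hb c hc => ⟨K₁.mul_mem (K₁.mul_mem hb hc.1) (K₁.inv_mem hb), (inferInstance : W.Normal).conj_mem c hc.2 b⟩) ha
  let ν : ↥K₁ →* ↥H ⧸ L.subgroupOf H :=
    (QuotientGroup.mk' (L.subgroupOf H)).comp
      ((K.subtype.comp K₁.subtype).codRestrict H fun k => mem_sup_left (mem_map_of_mem _ k.2))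
  have hνs : Function.Surjective ν := by
    intro y
    obtain ⟨⟨h, hh⟩, rfl⟩ := QuotientGroup.mk'_surjective _ y
    obtain ⟨a, ha, c, hc, rfl⟩ := (Core.mem_sup_of_le_normalizer (le_sup_left.trans hnC)).1 hh
    obtain ⟨k, hk, rfl⟩ := ha
    refine ⟨⟨k, hk⟩, (QuotientGroup.eq).2 (mem_subgroupOf.2 ?_)⟩
    show ((k : G))⁻¹ * ((k : G) * c) ∈ L
    rw [inv_mul_cancel_left]; exact mem_sup_right hc
  have hνk : ν.ker = (f.comp K₁.subtype).ker := by
    ext k
    rw [MonoidHom.mem_ker, MonoidHom.mem_ker]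
    show ((QuotientGroup.mk' (L.subgroupOf H)) _ = 1) ↔ f (k : ↥K) = 1
    rw [QuotientGroup.mk'_apply, QuotientGroup.eq_one_iff, mem_subgroupOf, ← MonoidHom.mem_ker, hfW]
    constructor
    · intro h
      change ((k : ↥K) : G) ∈ L at h
      obtain ⟨a, ha, c, hc, he⟩ := (Core.mem_sup_of_le_normalizer
        (((map_mono inf_le_left).trans le_sup_left).trans hnC)).1 h
      obtain ⟨w, hw, rfl⟩ := ha
      have hck : ((w⁻¹ * (k : ↥K) : ↥K) : G) ∈ C := by
        rw [Subgroup.coe_mul, Subgroup.coe_inv, ← he, K.subtype_apply, inv_mul_cancel_left]; exact hc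
      have := mul_mem hw.2 (hcen _ hck)
      rwa [mul_inv_cancel_left] at this
    · intro h
      exact mem_sup_left (mem_map_of_mem K.subtype ⟨k.2, h⟩)
  have hfs' : Function.Surjective (f.comp K₁.subtype) := by
    intro y
    obtain ⟨x, rfl⟩ := hfs y
    obtain ⟨a, ha, b, hb, rfl⟩ := mem_sup_of_normal_right.1 (hfr.ge (mem_top x))
    exact ⟨⟨a, ha⟩, by rw [map_mul, show f b = 1 from MonoidHom.mem_ker.1 (hfW.ge hb), mul_one]; rfl⟩
  refine hfree Q ((Q₀.isPGroup'.map _).map _) ⟨H, L, hLn, le_sup_right, hLH, hHN, ⟨?_⟩⟩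
  exact ((QuotientGroup.quotientKerEquivOfSurjective ν hνs).symm.trans
    (QuotientGroup.quotientMulEquivOfEq hνk)).trans (QuotientGroup.quotientKerEquivOfSurjective _ hfs')

/-- A normal subgroup of the system with self-centralizing intersection: `C_G(Q) = Z(Q) × O_{p'}`. -/
theorem centralizer_split (P : Sylow p G) {Q : Subgroup G} (hQP : Q ≤ (P : Subgroup G))
    (hPQ : (P : Subgroup G) ≤ normalizer (Q : Set G))
    (hcen : (P : Subgroup G) ⊓ centralizer (Q : Set G) ≤ Q) :
    ¬ p ∣ (Q ⊓ centralizer (Q : Set G)).relIndex (centralizer (Q : Set G)) ∧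
      centralizer (Q : Set G) ≤ (Q ⊓ centralizer (Q : Set G)) ⊔
        (Cfsg.pPrimeCore p ↥(centralizer (Q : Set G))).map (centralizer (Q : Set G)).subtype := by
  set C := centralizer (Q : Set G) with hC
  set N := normalizer (Q : Set G) with hN
  haveI : (C.subgroupOf N).Normal := ⟨fun c hc n => conj_mem_centralizer n.2 hc⟩
  have hidx : ¬ p ∣ (Q ⊓ C).relIndex C := by
    have h1 := Local.not_dvd_relIndex_of_normal (P.subtype hPQ) (C.subgroupOf N)
    rw [Sylow.coe_subtype, relIndex_subgroupOf (centralizer_le_normalizer _)] at h1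
    have e : (Q ⊓ C).relIndex C = (P : Subgroup G).relIndex C := by
      rw [inf_relIndex_right]
      exact le_antisymm_iff.2 ⟨by
        rw [← inf_relIndex_right Q, ← inf_relIndex_right (P : Subgroup G),
          show (P : Subgroup G) ⊓ C = Q ⊓ C from le_antisymm (le_inf hcen inf_le_right) (inf_le_inf_right C hQP)],
        by
        rw [← inf_relIndex_right Q, ← inf_relIndex_right (P : Subgroup G),
          show (P : Subgroup G) ⊓ C = Q ⊓ C from le_antisymm (le_inf hcen inf_le_right) (inf_le_inf_right C hQP)]⟩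
    rwa [e]
  refine ⟨hidx, ?_⟩
  let R : Sylow p ↥C := (((P.isPGroup'.to_le (inf_le_left.trans hQP : Q ⊓ C ≤ (P : Subgroup G))).of_equiv
    (subgroupOfEquivOfLe (inf_le_right : Q ⊓ C ≤ C)).symm)).toSylow hidx
  have hRc : ∀ c : ↥C, c ∈ centralizer ((R : Subgroup ↥C) : Set ↥C) := fun c =>
    mem_centralizer_iff.2 fun r hr =>
      Subtype.ext (mem_centralizer_iff.1 c.2 r (mem_subgroupOf.1 hr).1)
  obtain ⟨R', M, hM, hMR⟩ :=
    Fusion.hasNormalPComplement_of_normalizer_le_centralizer R fun c _ => hRc c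
  haveI := hM
  have hcop : (Nat.card ↥M).Coprime p := by
    rw [← hMR.index_eq_card]
    exact ((Fact.out : p.Prime).coprime_iff_not_dvd.2 R'.not_dvd_index).symm
  have hR' : (R' : Subgroup ↥C) = (R : Subgroup ↥C) := by
    obtain ⟨g, hg⟩ := MulAction.exists_smul_eq ↥C R R'
    rw [← hg, Sylow.coe_subgroup_smul, Core.conj_smul_eq_map]
    exact Core.map_conj_eq_of_mem_normalizer (centralizer_le_normalizer _ (hRc g))
  intro c hc
  have hmem : (⟨c, hc⟩ : ↥C) ∈ (R : Subgroup ↥C) ⊔ Cfsg.pPrimeCore p ↥C := by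
    refine sup_le_sup le_rfl (Core.le_pPrimeCore hcop) (?_ : _ ∈ (R : Subgroup ↥C) ⊔ M)
    rw [← hR', sup_comm, hMR.sup_eq_top]
    exact mem_top _
  have := mem_map_of_mem C.subtype hmem
  rw [Subgroup.map_sup] at this
  have hR1 : (R : Subgroup ↥C).map C.subtype ≤ Q ⊓ C :=
    map_le_iff_le_comap.2 fun r hr => mem_subgroupOf.1 hr
  exact (sup_le_sup_right hR1 _) this

theorem core (hp2 : p ≠ 2) (P : Sylow p G)
    (hfree : ∀ Q : Subgroup G, IsPGroup p ↥Q → ¬ ∃ (H K : Subgroup G) (_ : (K.subgroupOf H).Normal),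
      Subgroup.centralizer (Q : Set G) ≤ K ∧ K ≤ H ∧ H ≤ Subgroup.normalizer (Q : Set G) ∧
      Nonempty ((↥H ⧸ K.subgroupOf H) ≃* Matrix.SpecialLinearGroup (Fin 2) (ZMod p)))
    (cr : Subgroup G → Prop)
    (hcr : ∀ Q : Subgroup G, cr Q ↔ (Q ≤ (P : Subgroup G) ∧
      (∃ R : Sylow p ↥(Subgroup.centralizer (Q : Set G)),
        (R : Subgroup ↥(Subgroup.centralizer (Q : Set G))).map (Subgroup.centralizer (Q : Set G)).subtype = Q ⊓ Subgroup.centralizer (Q : Set G)) ∧
      ∀ X : Subgroup G, X ≤ Subgroup.normalizer (Q : Set G) →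
        (∀ n ∈ Subgroup.normalizer (Q : Set G), X.map (MulAut.conj n).toMonoidHom = X) →
        Q ⊔ Subgroup.centralizer (Q : Set G) ≤ X → (∃ k : ℕ, (Q ⊔ Subgroup.centralizer (Q : Set G)).relIndex X = p ^ k) →
        X = Q ⊔ Subgroup.centralizer (Q : Set G))) :
    ∃ Q : Subgroup G, cr Q ∧ (∀ R : Subgroup G, cr R → Q ≤ R) ∧ (∀ x ∈ (P : Subgroup G), Q.map (MulAut.conj x).toMonoidHom = Q) ∧
      ∀ A : Subgroup G, A ≤ (P : Subgroup G) → ∀ g : G, A.map (MulAut.conj g).toMonoidHom ≤ (P : Subgroup G) →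
        ∃ h ∈ Subgroup.normalizer (Q : Set G), ∃ c ∈ Subgroup.centralizer (A : Set G), g = h * c := by
  set F := Cfsg.groupFusionSystem (P : Subgroup G) with hF
  have hsat : F.IsSaturated p := isSaturated_groupFusionSystem P
  have hcons : F.IsConstrained p := isConstrained_of_solvable P.isPGroup' hsat
    (isSolvableSystem_of_qdFree hp2 P.isPGroup' hsat
      (isSectionFree_groupFusionSystem P (not_involves_qd hfree)))
  set Q := F.core with hQ
  have hQn : F.IsNormal Q := isNormal_core F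
  have hQP : Q ≤ (P : Subgroup G) := hQn.1
  have hPQ : (P : Subgroup G) ≤ normalizer (Q : Set G) :=
    stronglyClosed_le_normalizer (isNormal_stronglyClosed hQn)
  have hcen : (P : Subgroup G) ⊓ centralizer (Q : Set G) ≤ Q := centralizerIn_core_le hcons
  have hctl : ∀ A : Subgroup G, A ≤ (P : Subgroup G) → ∀ g : G,
      A.map (MulAut.conj g).toMonoidHom ≤ (P : Subgroup G) →
      ∃ h ∈ normalizer (Q : Set G), ∀ a ∈ A, h * a * h⁻¹ = g * a * g⁻¹ := by
    intro A hA g hg
    obtain ⟨x, hx, hxa⟩ := (controls_of_isNormal hQn (A : Set G) hA).2 g (by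
      rintro _ ⟨a, ha, rfl⟩
      exact hg (mem_map_of_mem _ ha))
    exact ⟨x, hx, fun a ha => (hxa a ha).symm⟩
  obtain ⟨hidx, hsplit⟩ := centralizer_split P hQP hPQ hcen
  set C := centralizer (Q : Set G) with hC
  set N := normalizer (Q : Set G) with hN
  set K := (Cfsg.pPrimeCore p ↥C).map C.subtype with hK
  have hNC : N ≤ normalizer (C : Set G) := fun n hn =>
    Core.le_normalizer_iff_conj_mem.2 (fun a ha c hc => conj_mem_centralizer ha hc) hn
  have hNK : N ≤ normalizer (K : Set G) := hNC.trans (Core.normalizer_le_normalizer_map_char _)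
  have hKcop : (Nat.card ↥K).Coprime p := by
    rw [hK, Core.card_map_subtype]; exact Core.pPrimeCore_coprime p ↥C
  have hKP : ∀ x ∈ K, x ∈ (P : Subgroup G) → x = 1 := by
    intro x hxK hxP
    obtain ⟨k, hk⟩ := P.isPGroup' ⟨x, hxP⟩
    rw [← orderOf_eq_one_iff]
    refine Nat.Coprime.eq_one_of_dvd ?_ (orderOf_dvd_of_pow_eq_one (congrArg Subtype.val hk : x ^ p ^ k = 1))
    exact (Nat.Coprime.coprime_dvd_left (Subgroup.orderOf_dvd_natCard K hxK) hKcop).pow_right k
  refine ⟨Q, (hcr Q).2 ⟨hQP, ?_, ?_⟩, ?_, fun x hx => map_conj_eq_of_mem (hPQ hx), ?_⟩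
  · -- Sylow
    refine ⟨((P.isPGroup'.to_le (inf_le_left.trans hQP : Q ⊓ C ≤ (P : Subgroup G))).of_equiv
      (subgroupOfEquivOfLe (inf_le_right : Q ⊓ C ≤ C)).symm).toSylow hidx, ?_⟩
    exact map_subgroupOf_eq_of_le inf_le_right
  · -- radical
    intro X hXN hXinv hYX ⟨k, hk⟩
    set Q' := (P : Subgroup G) ⊓ X with hQ'
    haveI hXn : (X.subgroupOf N).Normal := ⟨fun x hx n => mem_subgroupOf.2 (by
      rw [← hXinv n n.2]; exact mem_map_of_mem _ (mem_subgroupOf.1 hx))⟩
    have hQ'idx : ¬ p ∣ Q'.relIndex X := by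
      have h1 := Local.not_dvd_relIndex_of_normal (P.subtype hPQ) (X.subgroupOf N)
      rw [Sylow.coe_subtype, relIndex_subgroupOf hXN] at h1
      rwa [hQ', inf_relIndex_right]
    have hQQ' : Q ≤ Q' := le_inf hQP (le_sup_left.trans hYX)
    have hKX : K ≤ X := (map_subtype_le _).trans (le_sup_right.trans hYX)
    have hQ'N : Q' ≤ N := inf_le_left.trans hPQ
    have hXeq : X = Q' ⊔ K := by
      refine le_antisymm ?_ (sup_le inf_le_right hKX)
      rw [← relIndex_eq_one]
      have h1 : (Q' ⊔ K).relIndex X ∣ Q'.relIndex X := relIndex_dvd_of_le_left X le_sup_left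
      have h2 : (Q' ⊔ K).relIndex X ∣ p ^ k := by
        rw [← hk]
        refine relIndex_dvd_of_le_left X (sup_le (hQQ'.trans le_sup_left) (hsplit.trans ?_))
        exact sup_le_sup_right (inf_le_left.trans hQQ') K
      obtain ⟨j, -, hj⟩ := (Nat.dvd_prime_pow hp.out).1 h2
      rw [hj]
      rcases j with _ | j
      · exact pow_zero p
      · exact absurd ((dvd_pow_self p j.succ_ne_zero).trans (hj ▸ h1)) hQ'idx
    suffices hn : F.IsNormal Q' by
      refine le_antisymm ?_ hYX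
      rw [hXeq]
      have hle : Q' ≤ Q := le_sSup (show Q' ∈ {W | F.IsNormal W} from hn)
      exact sup_le (hle.trans le_sup_left) ((map_subtype_le _).trans le_sup_right)
    have hPQ' : (P : Subgroup G) ≤ normalizer (Q' : Set G) :=
      (le_inf le_normalizer (hPQ.trans ((normal_subgroupOf_iff_le_normalizer hXN).1 hXn))).trans
        inf_normalizer_le_normalizer_inf
    refine ⟨inf_le_left, fun R φ hφ => ?_⟩
    obtain ⟨hRP, hφP, g, hg⟩ := hφ
    obtain ⟨n, hn, hna⟩ := hctl R hRP g (by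
      rintro _ ⟨r, hr, rfl⟩
      have := hφP ⟨r, hr⟩
      rw [hg] at this
      exact this)
    -- Frattini
    obtain ⟨x, hx, hxQ'⟩ := Cfsg.Lib.Sig.exists_conj_le_of_relIndex (H := X) (P := Q')
      (R := Q'.map (MulAut.conj n).toMonoidHom) inf_le_right (P.isPGroup'.to_le inf_le_left) hQ'idx
      (by rw [← hXinv n hn]; exact map_mono inf_le_right) ((P.isPGroup'.to_le inf_le_left).map _)
    rw [hXeq] at hx
    obtain ⟨q, hq, k₀, hk₀, rfl⟩ := (Core.mem_sup_of_le_normalizer (hQ'N.trans hNK)).1 hx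
    set m := k₀ * n with hm
    have hmem : ∀ y ∈ Q', m * y * m⁻¹ ∈ Q' := by
      intro y hy
      have h := hxQ' (mem_map_of_mem _ (mem_map_of_mem _ hy))
      have h2 := mul_mem (mul_mem (inv_mem hq) h) hq
      convert h2 using 1
      show m * y * m⁻¹ = q⁻¹ * (q * k₀ * (n * y * n⁻¹) * (q * k₀)⁻¹) * q
      rw [hm]; group
    have hmN : m ∈ N := mul_mem (hXN (hKX hk₀)) hn
    -- conjugating back into `P`
    set U := (K ⊔ (P : Subgroup G)) ⊓ normalizer (Q' : Set G) with hU
    have hmQ' : m ∈ normalizer (Q' : Set G) := Subgroup.mem_normalizer_fintype hmem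
    have hT : (R ⊔ Q').map (MulAut.conj m).toMonoidHom ≤ U := by
      rw [Subgroup.map_sup]
      refine sup_le (le_inf ?_ ?_) (le_inf ?_ ?_)
      · rintro _ ⟨r, hr, rfl⟩
        show m * r * m⁻¹ ∈ _
        have h1 : n * r * n⁻¹ ∈ (P : Subgroup G) := by
          rw [hna r hr, ← hg ⟨r, hr⟩]; exact hφP ⟨r, hr⟩
        have e : m * r * m⁻¹ = k₀ * (n * r * n⁻¹) * k₀⁻¹ := by rw [hm]; group
        rw [e]
        exact mul_mem (mul_mem (mem_sup_left hk₀) (mem_sup_right h1)) (inv_mem (mem_sup_left hk₀))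
      · rintro _ ⟨r, hr, rfl⟩
        exact mul_mem (mul_mem hmQ' (hPQ' (hRP hr))) (inv_mem hmQ')
      · rintro _ ⟨r, hr, rfl⟩
        exact mem_sup_right (hmem r hr).1
      · rintro _ ⟨r, hr, rfl⟩
        exact le_normalizer (hmem r hr)
    have hPU : (P : Subgroup G) ≤ U := le_inf le_sup_right hPQ'
    obtain ⟨v, hv, hvP⟩ := Cfsg.Lib.Sig.exists_conj_le_of_relIndex (H := U) hPU P.isPGroup'
      (fun h => P.not_dvd_index (h.trans (relIndex_dvd_index_of_le hPU))) hT
      ((P.isPGroup'.to_le (sup_le hRP inf_le_left)).map _)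
    obtain ⟨b, hb, a, ha, hba⟩ := (Core.mem_sup_of_le_normalizer (hPQ.trans hNK)).1
      ((sup_comm K (P : Subgroup G)).le hv.1)
    have haQ' : a ∈ normalizer (Q' : Set G) := by
      have := mul_mem (inv_mem (hPQ' hb)) hv.2
      rwa [← hba, inv_mul_cancel_left] at this
    set y := a * m with hy
    have hyP : ∀ z ∈ R ⊔ Q', y * z * y⁻¹ ∈ (P : Subgroup G) := by
      intro z hz
      have h := hvP (mem_map_of_mem _ (mem_map_of_mem _ hz))
      have h2 := mul_mem (mul_mem (inv_mem hb) h) hb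
      convert h2 using 1
      show y * z * y⁻¹ = b⁻¹ * (v * (m * z * m⁻¹) * v⁻¹) * b
      rw [hy, ← hba]; group
    have hyQ' : y ∈ normalizer (Q' : Set G) := mul_mem haQ' hmQ'
    refine ⟨conjHom (R ⊔ Q') y, ⟨sup_le hRP inf_le_left, fun z => hyP z z.2, y, fun z => rfl⟩,
      fun r => ?_, ?_⟩
    · rw [hg]
      show y * (r : G) * y⁻¹ = g * (r : G) * g⁻¹
      rw [← hna r r.2]
      set d := n * (r : G) * n⁻¹ with hd
      have hdP : d ∈ (P : Subgroup G) := by rw [hd, hna r r.2, ← hg r]; exact hφP r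
      set w := a * k₀ with hw
      have hwK : w ∈ K := mul_mem ha hk₀
      have e : y * (r : G) * y⁻¹ = w * d * w⁻¹ := by rw [hy, hm, hw, hd]; group
      rw [e]
      have h1 : w * (d * w⁻¹ * d⁻¹) ∈ K :=
        mul_mem hwK ((mem_normalizer_iff.1 (hNK (hPQ hdP)) w⁻¹).1 (inv_mem hwK))
      have h2 : w * (d * w⁻¹ * d⁻¹) ∈ (P : Subgroup G) := by
        have h3 : w * d * w⁻¹ ∈ (P : Subgroup G) := e ▸ hyP r (mem_sup_left r.2)
        simpa [mul_assoc] using mul_mem h3 (inv_mem hdP)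
      have h4 := hKP _ h1 h2
      rw [← mul_assoc, ← mul_assoc, mul_inv_eq_one] at h4
      exact h4
    · ext z
      rw [mem_map_subgroupOf]
      constructor
      · rintro ⟨x, hx', hxQ, rfl⟩
        exact (mem_normalizer_iff.1 hyQ' x).1 hxQ
      · intro hz
        refine ⟨y⁻¹ * z * y, mem_sup_right ((mem_normalizer_iff''.1 hyQ' z).1 hz),
          (mem_normalizer_iff''.1 hyQ' z).1 hz, ?_⟩
        show y * (y⁻¹ * z * y) * y⁻¹ = z
        group
  · -- minimality
    intro R hR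
    set D := centralizer (R : Set G) with hD
    set M := normalizer (R : Set G) with hM
    obtain ⟨hRP, ⟨S, hS⟩, hrad⟩ := (hcr R).1 hR
    have hMD : M ≤ normalizer (D : Set G) := fun n hn =>
      Core.le_normalizer_iff_conj_mem.2 (fun a ha c hc => conj_mem_centralizer ha hc) hn
    have hMY : M ≤ normalizer ((R ⊔ D : Subgroup G) : Set G) :=
      (le_inf le_rfl hMD).trans (normalizer_inf_normalizer_le_normalizer_sup _ _)
    set X := (Q ⊓ M) ⊔ (R ⊔ D) with hX
    have hYM : R ⊔ D ≤ M := sup_le le_normalizer (centralizer_le_normalizer _)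
    have hXM : X ≤ M := sup_le inf_le_right hYM
    have hXinv : ∀ n ∈ M, X.map (MulAut.conj n).toMonoidHom = X := by
      have hone : ∀ n ∈ M, X.map (MulAut.conj n).toMonoidHom ≤ X := by
        intro n hn
        obtain ⟨h, hh, hha⟩ := hctl R hRP n (by rw [map_conj_eq_of_mem hn]; exact hRP)
        have hhM : h ∈ M := Subgroup.mem_normalizer_fintype fun r hr => by
          rw [hha r hr]; exact (mem_normalizer_iff.1 hn r).1 hr
        rw [hX, Subgroup.map_sup, map_conj_eq_of_mem (hMY hn)]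
        refine sup_le ?_ le_sup_right
        rintro _ ⟨z, hz, rfl⟩
        show n * z * n⁻¹ ∈ (Q ⊓ M) ⊔ (R ⊔ D)
        have hcD : n * h⁻¹ ∈ D := by
          refine mem_centralizer_iff.2 fun r hr => ?_
          have hr' : h⁻¹ * r * h ∈ R := (mem_normalizer_iff''.1 hhM r).1 hr
          have h3 := hha _ hr'
          calc r * (n * h⁻¹) = (h * (h⁻¹ * r * h) * h⁻¹) * (n * h⁻¹) := by group
            _ = _ := by rw [h3]; group
        have e : n * z * n⁻¹ = (n * h⁻¹) * (h * z * h⁻¹) * (n * h⁻¹)⁻¹ := by group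
        rw [e]
        refine mul_mem (mul_mem (mem_sup_right (mem_sup_right hcD)) (mem_sup_left ⟨?_, ?_⟩))
          (inv_mem (mem_sup_right (mem_sup_right hcD)))
        · exact (mem_normalizer_iff.1 hh z).1 hz.1
        · exact M.mul_mem (M.mul_mem hhM hz.2) (M.inv_mem hhM)
      intro n hn
      exact eq_of_le_of_card_ge (hone n hn)
        (Nat.card_congr (X.equivMapOfInjective _ (MulAut.conj n).injective).toEquiv).le
    have hpow : ∃ j : ℕ, (R ⊔ D).relIndex X = p ^ j := by
      have h1 := P.isPGroup'.to_le ((inf_le_left : Q ⊓ M ≤ Q).trans hQP)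
      obtain ⟨j, hj⟩ := IsPGroup.iff_card.1 h1
      haveI : ((R ⊔ D).subgroupOf M).Normal :=
        (normal_subgroupOf_iff_le_normalizer hYM).2 hMY
      have e : (R ⊔ D).relIndex X = (R ⊔ D).relIndex (Q ⊓ M) := by
        rw [← relIndex_subgroupOf hXM, ← relIndex_subgroupOf (inf_le_right : Q ⊓ M ≤ M), hX,
          subgroupOf_sup inf_le_right hYM, relIndex_sup_right]
      obtain ⟨i, -, hi⟩ := (Nat.dvd_prime_pow hp.out).1 ((relIndex_dvd_card (R ⊔ D) (Q ⊓ M)).trans hj.dvd)
      exact ⟨i, e.trans hi⟩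
    have hXY := hrad X hXM hXinv le_sup_right hpow
    have hQMR : Q ⊓ M ≤ R := by
      intro z hz
      have hz' : z ∈ R ⊔ D := hXY.le (mem_sup_left hz)
      obtain ⟨r, hr, d, hd, rfl⟩ := (Core.mem_sup_of_le_normalizer (le_normalizer.trans hMD)).1 hz'
      refine mul_mem hr (?_ : d ∈ R)
      have hdP : d ∈ (P : Subgroup G) := by
        simpa using mul_mem (inv_mem (hRP hr)) (hQP hz.1)
      have hle : (S : Subgroup ↥D) ≤ ((P : Subgroup G) ⊓ D).subgroupOf D := fun s hs =>
        mem_subgroupOf.2 ⟨hRP (hS.le (mem_map_of_mem D.subtype hs)).1, s.2⟩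
      have heq := S.is_maximal'
        ((P.isPGroup'.to_le inf_le_left).of_equiv (subgroupOfEquivOfLe inf_le_right).symm) hle
      have hmem : (⟨d, hd⟩ : ↥D) ∈ (S : Subgroup ↥D) := heq.le (mem_subgroupOf.2 ⟨hdP, hd⟩)
      exact (hS.le (mem_map_of_mem D.subtype hmem)).1
    by_contra hnle
    have hlt : R < R ⊔ Q := lt_of_le_of_ne le_sup_left fun h => hnle (h.symm ▸ le_sup_right)
    set T := R ⊔ Q with hT
    have hTp : IsPGroup p ↥T := P.isPGroup'.to_le (sup_le hRP hQP)
    haveI : Group.IsNilpotent ↥T := hTp.isNilpotent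
    have hlt' : R.subgroupOf T < ⊤ := lt_top_iff_ne_top.2 fun h => hlt.not_ge (subgroupOf_eq_top.1 h)
    obtain ⟨t, ht, htn⟩ := SetLike.exists_of_lt (Group.normalizerCondition_of_isNilpotent _ hlt')
    have htM : (t : G) ∈ M := by
      refine Subgroup.mem_normalizer_fintype fun r hr => ?_
      exact (mem_normalizer_iff.1 ht ⟨r, mem_sup_left hr⟩).1 (mem_subgroupOf.2 hr)
    obtain ⟨r, hr, q, hq, hrq⟩ := (Core.mem_sup_of_le_normalizer (hRP.trans hPQ)).1 t.2
    refine htn (mem_subgroupOf.2 (hrq ▸ mul_mem hr (hQMR ⟨hq, ?_⟩)))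
    have := mul_mem (inv_mem (le_normalizer hr : r ∈ M)) htM
    rwa [← hrq, inv_mul_cancel_left] at this
  · intro A hA g hg
    obtain ⟨h, hh, hha⟩ := hctl A hA g hg
    refine ⟨h, hh, h⁻¹ * g, mem_centralizer_iff.2 fun a ha => ?_, by group⟩
    calc a * (h⁻¹ * g) = h⁻¹ * (h * a * h⁻¹) * g := by group
      _ = _ := by rw [hha a ha]; group

/-- Let p be an odd prime and P a Sylow p-subgroup of the finite group G, and suppose that for no p-subgroup Q of G does N_G(Q)/C_G(Q) have a section isomorphic to SL₂(p). Call a subgroup Q of P centric-radical when Z(Q) is a Sylow p-subgroup of C_G(Q) and the only normal subgroup X of N_G(Q) containing Q·C_G(Q) such that the index of Q·C_G(Q) in X is a power of p is Q·C_G(Q) itself (that is, N_G(Q)/Q·C_G(Q) has no nontrivial normal p-subgroup). Then there is a centric-radical subgroup Q of P contained in every centric-radical subgroup of P; it is normal in P, and N_G(Q) controls strong fusion in P: whenever a subgroup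 A of P has g A g⁻¹ ≤ P, the element g is a product h c with h in N_G(Q) and c centralizing A. -/
theorem result {G : Type*} [Group G] [Finite G] {p : ℕ} [Fact p.Prime] (hp : p ≠ 2) (P : Sylow p G)
    (hfree : ∀ Q : Subgroup G, IsPGroup p ↥Q → ¬ ∃ (H K : Subgroup G) (_ : (K.subgroupOf H).Normal),
      Subgroup.centralizer (Q : Set G) ≤ K ∧ K ≤ H ∧ H ≤ Subgroup.normalizer (Q : Set G) ∧
      Nonempty ((↥H ⧸ K.subgroupOf H) ≃* Matrix.SpecialLinearGroup (Fin 2) (ZMod p)))
    (cr : Subgroup G → Prop)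
    (hcr : ∀ Q : Subgroup G, cr Q ↔ (Q ≤ (P : Subgroup G) ∧
      (∃ R : Sylow p ↥(Subgroup.centralizer (Q : Set G)),
        (R : Subgroup ↥(Subgroup.centralizer (Q : Set G))).map (Subgroup.centralizer (Q : Set G)).subtype = Q ⊓ Subgroup.centralizer (Q : Set G)) ∧
      ∀ X : Subgroup G, X ≤ Subgroup.normalizer (Q : Set G) →
        (∀ n ∈ Subgroup.normalizer (Q : Set G), X.map (MulAut.conj n).toMonoidHom = X) →
        Q ⊔ Subgroup.centralizer (Q : Set G) ≤ X → (∃ k : ℕ, (Q ⊔ Subgroup.centralizer (Q : Set G)).relIndex X = p ^ k) →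
        X = Q ⊔ Subgroup.centralizer (Q : Set G))) :
    ∃ Q : Subgroup G, cr Q ∧ (∀ R : Subgroup G, cr R → Q ≤ R) ∧ (∀ x ∈ (P : Subgroup G), Q.map (MulAut.conj x).toMonoidHom = Q) ∧
      ∀ A : Subgroup G, A ≤ (P : Subgroup G) → ∀ g : G, A.map (MulAut.conj g).toMonoidHom ≤ (P : Subgroup G) →
        ∃ h ∈ Subgroup.normalizer (Q : Set G), ∃ c ∈ Subgroup.centralizer (A : Set G), g = h * c := by
    exact core hp P hfree cr hcr

end Cfsg.Agent.S1953
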