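import Cfsg.Statements.S1954
import Cfsg.Agent.Lib.Fusion.Alperin
import Cfsg.Agent.Lib.Solv.Nilpotent

set_option autoImplicit false
open Cfsg

namespace Cfsg.Agent.S1954

open Subgroup Cfsg.Lib.Fusion in
/-- Extension in `N`: a conjugation between subgroups of `S` is induced by an element normalizing all
the subgroups of a list of `N(V)`-like subgroups. -/
theorem extend_list {G : Type*} [Group G] (N S : Subgroup G) (L : List (Subgroup G))
    (hL : ∀ V ∈ L, V ≤ S ∧ ∀ A : Subgroup G, A ≤ S → ∀ n ∈ N, (∀ a ∈ A, n * a * n⁻¹ ∈ S) →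
      ∃ h ∈ N, (∀ v ∈ V, h * v * h⁻¹ ∈ V) ∧ ∀ a ∈ A, h * a * h⁻¹ = n * a * n⁻¹) :
    ∀ A : Subgroup G, A ≤ S → ∀ n ∈ N, (∀ a ∈ A, n * a * n⁻¹ ∈ S) →
      ∃ h ∈ N, (∀ V ∈ L, ∀ v ∈ V, h * v * h⁻¹ ∈ V) ∧ (∀ a ∈ A, h * a * h⁻¹ = n * a * n⁻¹) := by
  induction L with
  | nil => exact fun A _ n hn _ => ⟨n, hn, by simp, fun _ _ => rfl⟩
  | cons V L ih =>
    intro A hA n hn hnA
    obtain ⟨hVS, hV⟩ := hL V (by simp)
    obtain ⟨h₁, hh₁, hh₁V, hh₁A⟩ := hV A hA n hn hnA
    obtain ⟨h, hh, hhL, hheq⟩ := ih (fun U hU => hL U (by simp [hU])) (A ⊔ V) (sup_le hA hVS) h₁ hh₁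
      (by
        suffices hs : A ⊔ V ≤ S.comap (MulAut.conj h₁).toMonoidHom from fun a ha => hs ha
        refine sup_le (fun a ha => ?_) (fun v hv => hVS (hh₁V v hv))
        show h₁ * a * h₁⁻¹ ∈ S
        rw [hh₁A a ha]; exact hnA a ha)
    refine ⟨h, hh, ?_, fun a ha => (hheq a (mem_sup_left ha)).trans (hh₁A a ha)⟩
    intro U hU v hv
    rcases List.mem_cons.mp hU with rfl | hU
    · rw [hheq v (mem_sup_right hv)]; exact hh₁V v hv
    · exact hhL U hU v hv

open Subgroup Cfsg.Lib.Fusion in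
theorem good {G : Type*} [Group G] [Finite G] {p : ℕ} [Fact p.Prime] (N : Subgroup G) [N.Normal]
    (P : Sylow p G) (W : Subgroup G) (hWS : W ≤ (P : Subgroup G) ⊓ N)
    (hPW : (P : Subgroup G) ≤ normalizer (W : Set G))
    (hext : ∀ A : Subgroup G, A ≤ (P : Subgroup G) ⊓ N → ∀ x : G,
      (∀ a ∈ A, x⁻¹ * a * x ∈ (P : Subgroup G) ⊓ N) →
      ∃ h ∈ normalizer (W : Set G), ∀ a ∈ A, h⁻¹ * a * h = x⁻¹ * a * x) :
    ∀ (D : Subgroup G) (g : G), D ≤ (P : Subgroup G) → conjR g D ≤ (P : Subgroup G) →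
      ∃ h ∈ normalizer (W : Set G), ∀ a ∈ D, h⁻¹ * a * h = g⁻¹ * a * g := by
  classical
  intro D g
  induction hn : Nat.card G - Nat.card D using Nat.strong_induction_on generalizing D g with
  | _ m ih =>
  subst hn
  intro hD hDg
  obtain ⟨l, hl, rfl⟩ := alperin P D g hD hDg
  suffices main : ∀ (l : List (Sylow p G × G)) (F : Subgroup G), Nat.card D = Nat.card F → Chain P l F →
      ∃ h ∈ normalizer (W : Set G), ∀ a ∈ F, h⁻¹ * a * h = (chainProd l)⁻¹ * a * chainProd l from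
    main l D rfl hl
  intro l
  induction l with
  | nil => exact fun F _ _ => ⟨1, one_mem _, fun a _ => by simp [chainProd]⟩
  | cons b l ih' =>
    intro F hF hc
    obtain ⟨ht, hx, hFE, hrest⟩ := hc
    obtain ⟨Q, x⟩ := b
    set E := (P : Subgroup G) ⊓ (Q : Subgroup G) with hE
    have hEP : E ≤ (P : Subgroup G) := inf_le_left
    -- the step
    have hstep : ∃ h ∈ normalizer (W : Set G), ∀ a ∈ E, h⁻¹ * a * h = x⁻¹ * a * x := by
      by_cases hlt : Nat.card D < Nat.card E
      · refine ih _ ?_ E x rfl hEP ?_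
        · have := card_le_card_group E; omega
        · rw [conjR_eq_of_mem_normalizer hx]; exact hEP
      have hEN : ∀ y ∈ normalizer (E : Set G), ∀ a ∈ E ⊓ N, y⁻¹ * a * y ∈ E ⊓ N := by
        intro y hy a ha
        have h1 := (mem_normalizer_iff.mp ((normalizer (E : Set G)).inv_mem hy) a).mp ha.1
        have h2 := (inferInstance : N.Normal).conj_mem a ha.2 y⁻¹
        rw [inv_inv] at h1 h2
        exact ⟨h1, h2⟩
      have hEextend : ∀ y ∈ normalizer (E : Set G),
          ∃ h ∈ normalizer (W : Set G), ∀ a ∈ E ⊓ N, h⁻¹ * a * h = y⁻¹ * a * y := fun y hy =>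
        hext (E ⊓ N) (inf_le_inf_right N hEP) y fun a ha => ⟨hEP (hEN y hy a ha).1, (hEN y hy a ha).2⟩
      by_cases hWE : W ≤ E
      · refine ⟨x, ?_, fun _ _ => rfl⟩
        obtain ⟨h, hh, hha⟩ := hEextend x hx
        rw [← inv_mem_iff]
        refine le_normalizer_of_conj_mem fun w hw => ?_
        rw [inv_inv, ← hha w ⟨hWE hw, (hWS hw).2⟩]
        have h1 := (mem_normalizer_iff.mp ((normalizer (W : Set G)).inv_mem hh) w).mp hw
        rwa [inv_inv] at h1
      -- the elements acting on `E ⊓ N` as elements of `W` and trivially on `E / E ⊓ N`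
      set M := normalizer (E : Set G) with hM
      let K : Subgroup G :=
        { carrier := {y | y ∈ M ∧ (∀ a ∈ E, a⁻¹ * (y⁻¹ * a * y) ∈ E ⊓ N) ∧
            ∃ w ∈ W, ∀ a ∈ E ⊓ N, w⁻¹ * a * w = y⁻¹ * a * y}
          one_mem' := ⟨M.one_mem, fun a _ => by simp, 1, W.one_mem, fun a _ => by simp⟩
          mul_mem' := fun {y z} hy hz => by
            refine ⟨M.mul_mem hy.1 hz.1, fun a ha => ?_, ?_⟩
            · have h1 := hEN z hz.1 _ (hy.2.1 a ha)
              have h2 := (E ⊓ N).mul_mem (hz.2.1 a ha) h1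
              convert h2 using 1; group
            · obtain ⟨w, hw, hwe⟩ := hy.2.2
              obtain ⟨v, hv, hve⟩ := hz.2.2
              refine ⟨w * v, W.mul_mem hw hv, fun a ha => ?_⟩
              calc (w * v)⁻¹ * a * (w * v) = v⁻¹ * (w⁻¹ * a * w) * v := by group
                _ = z⁻¹ * (w⁻¹ * a * w) * z := hve _ (by rw [hwe a ha]; exact hEN y hy.1 a ha)
                _ = (y * z)⁻¹ * a * (y * z) := by rw [hwe a ha]; group
          inv_mem' := fun {y} hy => by
            refine ⟨M.inv_mem hy.1, fun a ha => ?_, ?_⟩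
            · have h1 := hEN y⁻¹ (M.inv_mem hy.1) _ ((E ⊓ N).inv_mem (hy.2.1 a ha))
              convert h1 using 1; group
            · obtain ⟨w, hw, hwe⟩ := hy.2.2
              refine ⟨w⁻¹, W.inv_mem hw, fun a ha => ?_⟩
              have h1 := hEN y⁻¹ (M.inv_mem hy.1) a ha
              have h2 := hwe _ h1
              have h3 : y⁻¹ * (y⁻¹⁻¹ * a * y⁻¹) * y = a := by group
              rw [h3] at h2
              calc w⁻¹⁻¹ * a * w⁻¹ = w⁻¹⁻¹ * (w⁻¹ * (y⁻¹⁻¹ * a * y⁻¹) * w) * w⁻¹ := by rw [h2]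
                _ = y⁻¹⁻¹ * a * y⁻¹ := by group }
      have hKM : K ≤ M := fun y hy => hy.1
      have hKconj : ∀ z ∈ M, ∀ y ∈ K, z * y * z⁻¹ ∈ K := by
        intro z hz y hy
        refine ⟨M.mul_mem (M.mul_mem hz hy.1) (M.inv_mem hz), fun a ha => ?_, ?_⟩
        · have haz : z⁻¹ * a * z ∈ E := by
            have h1 := (mem_normalizer_iff.mp (M.inv_mem hz) a).mp ha
            rwa [inv_inv] at h1
          have h1 := hEN z⁻¹ (M.inv_mem hz) _ (hy.2.1 _ haz)
          convert h1 using 1; group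
        · obtain ⟨w, hw, hwe⟩ := hy.2.2
          obtain ⟨h, hh, hhe⟩ := hEextend z hz
          refine ⟨h * w * h⁻¹, (mem_normalizer_iff.mp hh w).mp hw, fun a ha => ?_⟩
          have haz := hEN z hz a ha
          have hb : y⁻¹ * (z⁻¹ * a * z) * y ∈ E ⊓ N := hEN y hy.1 _ haz
          have hc : z * (y⁻¹ * (z⁻¹ * a * z) * y) * z⁻¹ ∈ E ⊓ N := by
            have := hEN z⁻¹ (M.inv_mem hz) _ hb
            rwa [inv_inv] at this
          have h4 := hhe _ hc
          have h5 : z⁻¹ * (z * (y⁻¹ * (z⁻¹ * a * z) * y) * z⁻¹) * z = y⁻¹ * (z⁻¹ * a * z) * y := by group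
          rw [h5] at h4
          calc (h * w * h⁻¹)⁻¹ * a * (h * w * h⁻¹) = h * (w⁻¹ * (h⁻¹ * a * h) * w) * h⁻¹ := by group
            _ = h * (y⁻¹ * (z⁻¹ * a * z) * y) * h⁻¹ := by rw [hhe a ha, hwe _ haz]
            _ = z * (y⁻¹ * (z⁻¹ * a * z) * y) * z⁻¹ := by
              rw [show z * (y⁻¹ * (z⁻¹ * a * z) * y) * z⁻¹ = h * (h⁻¹ * (z * (y⁻¹ * (z⁻¹ * a * z) * y) * z⁻¹) * h) * h⁻¹ by group, h4]
            _ = (z * y * z⁻¹)⁻¹ * a * (z * y * z⁻¹) := by group
      have hKn : (K.subgroupOf M).Normal := ⟨fun y hy z => hKconj z z.2 y hy⟩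
      -- `K / C(E)` is a `p`-group
      have hKp : ∀ y ∈ K, ∃ j : ℕ, ∀ a ∈ E, (y ^ p ^ j)⁻¹ * a * y ^ p ^ j = a := by
        intro y hy
        obtain ⟨w, hw, hwe⟩ := hy.2.2
        obtain ⟨i, hi⟩ := P.2 ⟨w, (hWS hw).1⟩
        have hiw : w ^ p ^ i = 1 := congrArg Subtype.val hi
        have hpow : ∀ k : ℕ, ∀ a ∈ E ⊓ N, (w ^ k)⁻¹ * a * w ^ k = (y ^ k)⁻¹ * a * y ^ k := by
          intro k
          induction k with
          | zero => intro a _; simp
          | succ k ihk =>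
            intro a ha
            have hyk := hEN (y ^ k) (M.pow_mem hy.1 k) a ha
            calc (w ^ (k + 1))⁻¹ * a * w ^ (k + 1) = w⁻¹ * ((w ^ k)⁻¹ * a * w ^ k) * w := by
                  rw [pow_succ]; group
              _ = y⁻¹ * ((y ^ k)⁻¹ * a * y ^ k) * y := by rw [ihk a ha, hwe _ hyk]
              _ = (y ^ (k + 1))⁻¹ * a * y ^ (k + 1) := by rw [pow_succ]; group
        set u := y ^ p ^ i with hu
        have hufix : ∀ a ∈ E ⊓ N, u⁻¹ * a * u = a := fun a ha => by
          rw [hu, ← hpow _ a ha, hiw]; simp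
        obtain ⟨j, hj⟩ := IsPGroup.iff_card.mp ((P.2.to_le hEP).to_le (inf_le_left : E ⊓ N ≤ E))
        refine ⟨i + j, fun a ha => ?_⟩
        set e := a⁻¹ * (u⁻¹ * a * u) with he
        have heE : e ∈ E ⊓ N := (K.pow_mem hy (p ^ i)).2.1 a ha
        have hk : ∀ k : ℕ, (u ^ k)⁻¹ * a * u ^ k = a * e ^ k := by
          intro k
          induction k with
          | zero => simp
          | succ k ihk =>
            have hek : u⁻¹ * e ^ k * u = e ^ k := hufix _ ((E ⊓ N).pow_mem heE k)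
            calc (u ^ (k + 1))⁻¹ * a * u ^ (k + 1) = u⁻¹ * ((u ^ k)⁻¹ * a * u ^ k) * u := by
                  rw [pow_succ]; group
              _ = (u⁻¹ * a * u) * (u⁻¹ * e ^ k * u) := by rw [ihk]; group
              _ = a * e ^ (k + 1) := by
                rw [hek, show u⁻¹ * a * u = a * e by rw [he]; group, pow_succ', mul_assoc]
        have hej : e ^ p ^ j = 1 := by
          have h := pow_card_eq_one' (x := (⟨e, heE⟩ : (E ⊓ N : Subgroup G)))
          rw [hj] at h
          exact congrArg Subtype.val h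
        rw [pow_add, pow_mul, ← hu, hk, hej, mul_one]
      set T := (P : Subgroup G) ⊓ K with hT
      have hPMnd : ¬ p ∣ ((P : Subgroup G) ⊓ M).relIndex M := ht.1
      let PS : Sylow p M := ((P.2.to_inf_left : IsPGroup p ↥((P : Subgroup G) ⊓ M)).of_equiv
        (subgroupOfEquivOfLe inf_le_right).symm).toSylow hPMnd
      have hTnd : ¬ p ∣ (T.subgroupOf K).index := by
        have h1 := Cfsg.Lib.Solv.not_dvd_relIndex_of_isSubnormal PS hKn.isSubnormal
        have h2 : ((PS : Subgroup M)).relIndex (K.subgroupOf M) = T.relIndex K := by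
          show (((P : Subgroup G) ⊓ M).subgroupOf M).relIndex (K.subgroupOf M) = _
          rw [relIndex_subgroupOf hKM, ← inf_relIndex_right]
          congr 1
          rw [hT, inf_assoc, inf_eq_right.mpr hKM]
        rw [h2] at h1; exact h1
      let TS : Sylow p K := ((P.2.to_inf_left : IsPGroup p T).of_equiv
        (subgroupOfEquivOfLe inf_le_right).symm).toSylow hTnd
      have hcover : ∀ k ∈ K, ∃ c ∈ K ⊓ centralizer (E : Set G), ∃ t ∈ T, k = c * t := by
        set C := (K ⊓ centralizer (E : Set G)).subgroupOf K with hC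
        haveI hCn : C.Normal := by
          refine ⟨fun c hc z => ⟨(z * c * z⁻¹).2, mem_centralizer_iff.mpr fun a ha => ?_⟩⟩
          have hzM := hKM z.2
          have ha' : (z : G)⁻¹ * a * z ∈ E := by
            have h1 := (mem_normalizer_iff.mp (M.inv_mem hzM) a).mp ha
            rwa [inv_inv] at h1
          have h2 : (z : G)⁻¹ * a * z * c = c * ((z : G)⁻¹ * a * z) := mem_centralizer_iff.mp hc.2 _ ha'
          show a * ((z : G) * c * (z : G)⁻¹) = (z : G) * c * (z : G)⁻¹ * a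
          calc a * ((z : G) * c * (z : G)⁻¹) = z * ((z : G)⁻¹ * a * z * c) * (z : G)⁻¹ := by group
            _ = z * (c * ((z : G)⁻¹ * a * z)) * (z : G)⁻¹ := by rw [h2]
            _ = _ := by group
        have hq : IsPGroup p (K ⧸ C) := by
          intro q
          induction q using QuotientGroup.induction_on with
          | _ y =>
            obtain ⟨j, hj⟩ := hKp y y.2
            refine ⟨j, ?_⟩
            rw [← QuotientGroup.mk_pow, QuotientGroup.eq_one_iff]
            refine ⟨(y ^ p ^ j).2, mem_centralizer_iff.mpr fun a ha => ?_⟩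
            show a * ((y ^ p ^ j : K) : G) = ((y ^ p ^ j : K) : G) * a
            rw [SubmonoidClass.coe_pow]
            calc a * (y : G) ^ p ^ j = (y : G) ^ p ^ j * (((y : G) ^ p ^ j)⁻¹ * a * (y : G) ^ p ^ j) := by group
              _ = _ := by rw [hj a ha]
        have htop : C ⊔ (TS : Subgroup K) = ⊤ := by
          rw [← index_eq_one]
          have h1 : (C ⊔ (TS : Subgroup K)).index ∣ C.index := index_dvd_of_le le_sup_left
          have h2 : (C ⊔ (TS : Subgroup K)).index ∣ (TS : Subgroup K).index := index_dvd_of_le le_sup_right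
          obtain ⟨i, hi⟩ := IsPGroup.iff_card.mp hq
          rw [index_eq_card C, hi] at h1
          obtain ⟨i', -, hi'⟩ := (Nat.dvd_prime_pow (Fact.out : p.Prime)).mp h1
          rcases Nat.eq_zero_or_pos i' with h0 | h0
          · rw [hi', h0, pow_zero]
          · exact absurd ((dvd_pow_self p h0.ne').trans (hi' ▸ h2)) TS.not_dvd_index
        intro k hk
        have hmem : (⟨k, hk⟩ : K) ∈ ((C ⊔ (TS : Subgroup K) : Subgroup K) : Set K) := by rw [htop]; trivial
        rw [coe_mul_of_right_le_normalizer_left _ _ (by rw [normalizer_eq_top]; exact le_top)] at hmem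
        obtain ⟨c, hc, t, ht', hct⟩ := hmem
        exact ⟨c, hc, t, ht', (congrArg Subtype.val hct).symm⟩
      -- Frattini
      obtain ⟨k, hk, y, hyN, hyT, hxky⟩ : ∃ k ∈ K, ∃ y ∈ M, y ∈ normalizer (T : Set G) ∧ x = k * y := by
        have hF := Sylow.normalizer_sup_eq_top (N := K.subgroupOf M)
          (TS.mapSurjective (f := ((subgroupOfEquivOfLe hKM).symm.toMonoidHom)) (subgroupOfEquivOfLe hKM).symm.surjective)
        have hx' : (⟨x, hx⟩ : M) ∈ (⊤ : Subgroup M) := trivial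
        rw [← hF, sup_comm, ← SetLike.mem_coe,
          coe_mul_of_right_le_normalizer_left _ _ (le_top.trans (normalizer_eq_top (H := K.subgroupOf M)).ge)] at hx'
        obtain ⟨k, hk, y, hy, hky⟩ := hx'
        refine ⟨k, hk, y, y.2, ?_, (congrArg Subtype.val hky).symm⟩
        refine le_normalizer_of_conj_mem fun t ht' => ?_
        have h1 := (mem_normalizer_iff.mp hy ⟨t, hKM ht'.2⟩).mp
          ⟨⟨⟨t, hKM ht'.2⟩, ht'.2⟩, ⟨⟨t, ht'.2⟩, ht', rfl⟩, rfl⟩
        obtain ⟨u', ⟨u, hu, rfl⟩, hue⟩ := h1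
        have h2 : (u : G) = (y : G) * t * (y : G)⁻¹ := congrArg Subtype.val hue
        rw [← h2]; exact hu
      obtain ⟨c, hc, t, ht', hkct⟩ := hcover k hk
      have hRn : t * y ∈ normalizer ((E ⊔ T : Subgroup G) : Set G) := by
        have hz : ∀ z : G, z ∈ M → z ∈ normalizer (T : Set G) →
            z ∈ normalizer ((E ⊔ T : Subgroup G) : Set G) := by
          intro z h1 h2
          rw [mem_normalizer_iff_map_conj_eq, Subgroup.map_sup, mem_normalizer_iff_map_conj_eq.mp h1,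
            mem_normalizer_iff_map_conj_eq.mp h2]
        exact (normalizer _).mul_mem (hz t (hKM ht'.2) (le_normalizer ht')) (hz y hyN hyT)
      have hlt' : Nat.card E < Nat.card ↥(E ⊔ T) := by
        refine card_lt_card_of_lt (lt_of_le_of_ne le_sup_left fun he => hWE ?_)
        by_contra hWE'
        have hlt2 : E < E ⊔ W := lt_of_le_of_ne le_sup_left fun he' => hWE' (he' ▸ le_sup_right)
        obtain ⟨z, hz, hzE⟩ := SetLike.exists_of_lt (lt_inf_normalizer
          (P.2.to_le (sup_le hEP (hWS.trans inf_le_left))) hlt2)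
        have hz1 : z ∈ ((E ⊔ W : Subgroup G) : Set G) := hz.1
        rw [coe_mul_of_left_le_normalizer_right _ _ (hEP.trans hPW)] at hz1
        obtain ⟨a, ha, w, hw, rfl⟩ := hz1
        apply hzE
        have hwM : w ∈ M := by
          have := M.mul_mem (M.inv_mem (le_normalizer (H := E) ha)) hz.2
          simpa using this
        have hwK : w ∈ K := by
          refine ⟨hwM, fun b hb => ?_, w, hw, fun _ _ => rfl⟩
          refine ⟨E.mul_mem (E.inv_mem hb) ?_, ?_⟩
          · have h1 := (mem_normalizer_iff.mp (M.inv_mem hwM) b).mp hb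
            rwa [inv_inv] at h1
          · have h1 := N.mul_mem ((inferInstance : N.Normal).conj_mem _ (N.inv_mem (hWS hw).2) b⁻¹) (hWS hw).2
            simpa [mul_assoc] using h1
        have : w ∈ E := by rw [he]; exact mem_sup_right ⟨(hWS hw).1, hwK⟩
        exact E.mul_mem ha this
      obtain ⟨h, hh, hhe⟩ := ih _ (by
          have h1 := card_le_card_group (E ⊔ T)
          have h2 : Nat.card F ≤ Nat.card E := card_le_of_le hFE
          omega)
        (E ⊔ T) (t * y) rfl (sup_le hEP inf_le_left)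
        (by rw [conjR_eq_of_mem_normalizer hRn]; exact sup_le hEP inf_le_left)
      refine ⟨h, hh, fun a ha => ?_⟩
      rw [hhe a (mem_sup_left ha), hxky, hkct]
      have hca : c⁻¹ * a * c = a := by
        rw [mul_assoc, mem_centralizer_iff.mp hc.2 a ha]; group
      calc (t * y)⁻¹ * a * (t * y) = (t * y)⁻¹ * (c⁻¹ * a * c) * (t * y) := by rw [hca]
        _ = (c * t * y)⁻¹ * a * (c * t * y) := by group
    obtain ⟨h₁, hh₁, hh₁e⟩ := hstep
    obtain ⟨h₂, hh₂, hh₂e⟩ := ih' (conjR x F) (hF.trans (card_conjR x F).symm) hrest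
    refine ⟨h₁ * h₂, mul_mem hh₁ hh₂, fun a ha => ?_⟩
    have h1 := hh₂e _ (conj_mem_conjR (g := x) ha)
    have h4 : chainProd ((Q, x) :: l) = x * chainProd l := by simp [chainProd]
    rw [h4]
    calc (h₁ * h₂)⁻¹ * a * (h₁ * h₂) = h₂⁻¹ * (h₁⁻¹ * a * h₁) * h₂ := by group
      _ = h₂⁻¹ * (x⁻¹ * a * x) * h₂ := by rw [hh₁e a (hFE ha)]
      _ = (x * chainProd l)⁻¹ * a * (x * chainProd l) := by rw [h1]; group

/-- Let N be a normal subgroup of the finite group G, P a Sylow p-subgroup of G, and V a subgroup of P ∩ N normal in P ∩ N such that N_N(V) controls strong fusion in P ∩ N with respect to N (whenever a subgroup A of P ∩ N has n A n⁻¹ ≤ P ∩ N for some n in N, then n = h c with h in N_N(V) and c in C_N(A)). Let W be the subgroup generated by the conjugates of V under N_G(P ∩ N). Then N_G(W) controls strong fusion in P with respect to G. -/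
theorem result {G : Type*} [Group G] [Finite G] {p : ℕ} [Fact p.Prime] (N : Subgroup G) [N.Normal] (P : Sylow p G) (V : Subgroup G)
    (hV : V ≤ (P : Subgroup G) ⊓ N) (hVn : ∀ x ∈ (P : Subgroup G) ⊓ N, V.map (MulAut.conj x).toMonoidHom = V)
    (hctrl : ∀ A : Subgroup G, A ≤ (P : Subgroup G) ⊓ N → ∀ n ∈ N, A.map (MulAut.conj n).toMonoidHom ≤ (P : Subgroup G) ⊓ N →
      ∃ h ∈ N ⊓ Subgroup.normalizer (V : Set G), ∃ c ∈ N ⊓ Subgroup.centralizer (A : Set G), n = h * c)
    (W : Subgroup G) (hW : W = Subgroup.closure (⋃ x ∈ Subgroup.normalizer (((P : Subgroup G) ⊓ N : Subgroup G) : Set G),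
      ((V.map (MulAut.conj x).toMonoidHom : Subgroup G) : Set G))) :
    ∀ A : Subgroup G, A ≤ (P : Subgroup G) → ∀ g : G, A.map (MulAut.conj g).toMonoidHom ≤ (P : Subgroup G) →
        ∃ h ∈ Subgroup.normalizer (W : Set G), ∃ c ∈ Subgroup.centralizer (A : Set G), g = h * c := by
  classical
  set S := (P : Subgroup G) ⊓ N with hS
  have hPn : (P : Subgroup G) ≤ Subgroup.normalizer (S : Set G) := by
    intro x hx
    refine Subgroup.mem_normalizer_fintype fun s hs => ⟨?_, (inferInstance : N.Normal).conj_mem s hs.2 x⟩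
    exact (P : Subgroup G).mul_mem ((P : Subgroup G).mul_mem hx hs.1) ((P : Subgroup G).inv_mem hx)
  have hgenW : ∀ x ∈ Subgroup.normalizer (S : Set G), ∀ v ∈ V, x * v * x⁻¹ ∈ W := fun x hx v hv => by
    rw [hW]
    exact Subgroup.subset_closure (Set.mem_biUnion hx ⟨v, hv, rfl⟩)
  have hWle : ∀ H : Subgroup G, (∀ x ∈ Subgroup.normalizer (S : Set G), ∀ v ∈ V, x * v * x⁻¹ ∈ H) → W ≤ H := by
    intro H hH
    rw [hW, Subgroup.closure_le]
    intro w hw
    obtain ⟨x, hx, v, hv, rfl⟩ := Set.mem_iUnion₂.mp hw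
    exact hH x hx v hv
  have hWS : W ≤ S := hWle S fun x hx v hv => (Subgroup.mem_normalizer_iff.mp hx v).mp (hV hv)
  have hNSW : Subgroup.normalizer (S : Set G) ≤ Subgroup.normalizer (W : Set G) := by
    intro u hu
    refine Subgroup.mem_normalizer_fintype fun w hw => ?_
    refine hWle (W.comap (MulAut.conj u).toMonoidHom) (fun x hx v hv => ?_) hw
    show u * (x * v * x⁻¹) * u⁻¹ ∈ W
    have h1 := hgenW (u * x) (mul_mem hu hx) v hv
    simpa [mul_assoc] using h1
  -- the list of conjugates of `V`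
  let L : List (Subgroup G) :=
    (Set.toFinite ((fun x => V.map (MulAut.conj x).toMonoidHom) ''
      (Subgroup.normalizer (S : Set G) : Set G))).toFinset.toList
  have hLmem : ∀ U, U ∈ L ↔ ∃ x ∈ Subgroup.normalizer (S : Set G), V.map (MulAut.conj x).toMonoidHom = U := by
    intro U; simp [L]
  have hL : ∀ U ∈ L, U ≤ S ∧ ∀ A : Subgroup G, A ≤ S → ∀ n ∈ N, (∀ a ∈ A, n * a * n⁻¹ ∈ S) →
      ∃ h ∈ N, (∀ v ∈ U, h * v * h⁻¹ ∈ U) ∧ ∀ a ∈ A, h * a * h⁻¹ = n * a * n⁻¹ := by
    intro U hU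
    obtain ⟨x, hx, rfl⟩ := (hLmem U).mp hU
    refine ⟨?_, fun A hA n hn hnA => ?_⟩
    · rintro _ ⟨v, hv, rfl⟩
      exact (Subgroup.mem_normalizer_iff.mp hx v).mp (hV hv)
    have hx' := (Subgroup.normalizer (S : Set G)).inv_mem hx
    have hn' : x⁻¹ * n * x ∈ N := by
      have h1 := (inferInstance : N.Normal).conj_mem n hn x⁻¹
      rwa [inv_inv] at h1
    obtain ⟨h, hh, c, hc, hnc⟩ := hctrl (A.map (MulAut.conj x⁻¹).toMonoidHom)
      (by
        rintro _ ⟨a, ha, rfl⟩
        exact (Subgroup.mem_normalizer_iff.mp hx' a).mp (hA ha)) (x⁻¹ * n * x) hn'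
      (by
        rintro _ ⟨_, ⟨a, ha, rfl⟩, rfl⟩
        have h1 := (Subgroup.mem_normalizer_iff.mp hx' _).mp (hnA a ha)
        simpa [mul_assoc] using h1)
    refine ⟨x * h * x⁻¹, (inferInstance : N.Normal).conj_mem h hh.1 x, ?_, fun a ha => ?_⟩
    · rintro _ ⟨v, hv, rfl⟩
      exact ⟨h * v * h⁻¹, (Subgroup.mem_normalizer_iff.mp hh.2 v).mp hv, by simp [mul_assoc]⟩
    · have h2 : c * (x⁻¹ * a * x) = (x⁻¹ * a * x) * c :=
        ((Subgroup.mem_centralizer_iff.mp hc.2) (x⁻¹ * a * x) ⟨a, ha, by simp⟩).symm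
      have h3 : n = x * (h * c) * x⁻¹ := by rw [← hnc]; group
      rw [h3]
      calc x * h * x⁻¹ * a * (x * h * x⁻¹)⁻¹ = x * h * (x⁻¹ * a * x * c) * c⁻¹ * h⁻¹ * x⁻¹ := by group
        _ = x * h * (c * (x⁻¹ * a * x)) * c⁻¹ * h⁻¹ * x⁻¹ := by rw [h2]
        _ = _ := by group
  -- Frattini
  have hnd : ¬ p ∣ (S.subgroupOf N).index := by
    have h1 := Cfsg.Lib.Solv.not_dvd_relIndex_of_isSubnormal P (Subgroup.Normal.isSubnormal (inferInstance : N.Normal))
    rwa [← Subgroup.inf_relIndex_right] at h1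
  let SS : Sylow p N := ((P.2.to_inf_left : IsPGroup p S).of_equiv
    (Subgroup.subgroupOfEquivOfLe inf_le_right).symm).toSylow hnd
  have hF := Sylow.normalizer_sup_eq_top SS
  rw [IsPGroup.toSylow_coe, Subgroup.map_subgroupOf_eq_of_le (inf_le_right : S ≤ N)] at hF
  have hext : ∀ A : Subgroup G, A ≤ S → ∀ x : G, (∀ a ∈ A, x⁻¹ * a * x ∈ S) →
      ∃ h ∈ Subgroup.normalizer (W : Set G), ∀ a ∈ A, h⁻¹ * a * h = x⁻¹ * a * x := by
    intro A hA x hxA
    have hx' : x⁻¹ ∈ ((Subgroup.normalizer (S : Set G) ⊔ N : Subgroup G) : Set G) := by rw [hF]; trivial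
    rw [Subgroup.coe_mul_of_left_le_normalizer_right _ _ (le_top.trans (Subgroup.normalizer_eq_top (H := N)).ge)] at hx'
    obtain ⟨u, hu, n, hn, hun⟩ := hx'
    have hun' : u * n = x⁻¹ := hun
    obtain ⟨h, -, hhL, hhA⟩ := extend_list N S L hL A hA n hn fun a ha => by
      have h1 := (Subgroup.mem_normalizer_iff.mp ((Subgroup.normalizer (S : Set G)).inv_mem hu) _).mp (hxA a ha)
      have h2 : x = (u * n)⁻¹ := by rw [hun', inv_inv]
      rw [h2] at h1
      simpa [mul_assoc] using h1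
    have hhW : h ∈ Subgroup.normalizer (W : Set G) := by
      refine Subgroup.mem_normalizer_fintype fun w hw => ?_
      refine hWle (W.comap (MulAut.conj h).toMonoidHom) (fun z hz v hv => ?_) hw
      obtain ⟨v', hv', he⟩ := hhL _ ((hLmem _).mpr ⟨z, hz, rfl⟩) _ ⟨v, hv, rfl⟩
      show h * (z * v * z⁻¹) * h⁻¹ ∈ W
      have he' : z * v' * z⁻¹ = h * (z * v * z⁻¹) * h⁻¹ := he
      rw [← he']
      exact hgenW z hz v' hv'
    refine ⟨(u * h)⁻¹, inv_mem (mul_mem (hNSW hu) hhW), fun a ha => ?_⟩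
    have h2 : x = (u * n)⁻¹ := by rw [hun', inv_inv]
    rw [h2]
    calc (u * h)⁻¹⁻¹ * a * (u * h)⁻¹ = u * (h * a * h⁻¹) * u⁻¹ := by group
      _ = _ := by rw [hhA a ha]; group
  intro A hA g hAg
  obtain ⟨h, hh, hhe⟩ := good N P W hWS (hPn.trans hNSW) hext A g⁻¹ hA
    (Cfsg.Lib.Fusion.conjR_le_iff.mpr fun a ha => by
      have := hAg ⟨a, ha, rfl⟩
      simpa using this)
  refine ⟨h⁻¹, inv_mem hh, h * g, Subgroup.mem_centralizer_iff.mpr fun a ha => ?_, by group⟩
  have h1 := hhe a ha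
  rw [inv_inv] at h1
  calc a * (h * g) = h * (h⁻¹ * a * h) * g := by group
    _ = h * g * a := by rw [h1]; group

end Cfsg.Agent.S1954
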