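import Cfsg.Statements.S1956
import Cfsg.Agent.Lib.Sig.Small

set_option autoImplicit false
open Cfsg

namespace Cfsg.Agent.S1956

/-- Let P be a Sylow p-subgroup of the finite group G such that every element of P of order dividing p (dividing 4 when p = 2) is central in P. Then the fusion of these elements is controlled by N_G(P): if such an element a of P has g a g⁻¹ in P, then g = n c with n normalizing P and c commuting with a. -/
theorem result {G : Type*} [Group G] [Finite G] {p : ℕ} [Fact p.Prime] (P : Sylow p G)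
    (hcen : ∀ a ∈ (P : Subgroup G), (a ^ p = 1 ∨ (p = 2 ∧ a ^ 4 = 1)) → ∀ y ∈ (P : Subgroup G), a * y = y * a) :
    ∀ a ∈ (P : Subgroup G), (a ^ p = 1 ∨ (p = 2 ∧ a ^ 4 = 1)) → ∀ g : G, g * a * g⁻¹ ∈ (P : Subgroup G) →
      ∃ n ∈ Subgroup.normalizer ((P : Subgroup G) : Set G), ∃ c : G, c * a = a * c ∧ g = n * c := by
    intro a ha ha2 g hb
    set b := g * a * g⁻¹ with hbdef
    have hb2 : b ^ p = 1 ∨ (p = 2 ∧ b ^ 4 = 1) := by
      rcases ha2 with h | ⟨h1, h2⟩
      · left; rw [hbdef, conj_pow, h]; simp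
      · right; exact ⟨h1, by rw [hbdef, conj_pow, h2]; simp⟩
    have haC : (P : Subgroup G) ≤ Subgroup.centralizer ({a} : Set G) := fun y hy =>
      Subgroup.mem_centralizer_singleton_iff.2 (hcen a ha ha2 y hy).symm
    have hgC : (P : Subgroup G).map (MulAut.conj g⁻¹).toMonoidHom ≤ Subgroup.centralizer ({a} : Set G) := by
      rintro _ ⟨y, hy, rfl⟩
      have h := hcen b hb hb2 y hy
      refine Subgroup.mem_centralizer_singleton_iff.2 ?_
      simp only [MulEquiv.coe_toMonoidHom, MulAut.conj_apply, inv_inv]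
      calc g⁻¹ * y * g * a = g⁻¹ * (y * b) * g := by rw [hbdef]; group
        _ = g⁻¹ * (b * y) * g := by rw [h]
        _ = a * (g⁻¹ * y * g) := by rw [hbdef]; group
    have hidx : ¬ p ∣ (P : Subgroup G).relIndex (Subgroup.centralizer ({a} : Set G)) := fun hdvd =>
      P.not_dvd_index (hdvd.trans (Subgroup.relIndex_dvd_index_of_le haC))
    obtain ⟨c, hc, hcle⟩ := Cfsg.Lib.Sig.exists_conj_le_of_relIndex haC P.2 hidx hgC (P.2.map _)
    rw [Cfsg.Lib.Sig.map_conj_map_conj] at hcle
    have heq := Subgroup.eq_of_le_of_card_ge hcle (le_of_eq (Cfsg.Lib.Sig.card_map_conj _ _).symm)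
    refine ⟨g * c⁻¹, ?_, c, Subgroup.mem_centralizer_singleton_iff.1 hc, by group⟩
    have := inv_mem (Cfsg.Lib.Sig.mem_normalizer_of_map_conj heq)
    simpa [mul_inv_rev] using this

end Cfsg.Agent.S1956
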