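import Cfsg.Statements.S1957
import Cfsg.Agent.Lib.Core.Cores
import Cfsg.Agent.Lib.PGroup.Basic
import Cfsg.Agent.Lib.Coprime.Generation
import Cfsg.Agent.Lib.Sig.Small
import Cfsg.Agent.Lib.Sig.PConstrained
import Mathlib.GroupTheory.SpecificGroups.KleinFour

set_option autoImplicit false
open Cfsg

namespace Cfsg.Agent.S1957

open Subgroup

set_option linter.style.haveILetI false

variable {G : Type*} [Group G] [Finite G]

theorem main (h2 : Cfsg.IsCharacteristicTwoType G) (P : Sylow 2 G) (U : Subgroup G)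
    (hUP : U ≤ (P : Subgroup G)) (hUn : (P : Subgroup G) ≤ normalizer (U : Set G))
    (hU4 : IsKleinFour ↥U)
    (hUZ : ¬ IsCyclic ↥((P : Subgroup G) ⊓ centralizer ((P : Subgroup G) : Set G)) →
      U ≤ centralizer ((P : Subgroup G) : Set G))
    (K : Subgroup G) (hK : Odd (Nat.card K)) (hUK : U ≤ normalizer (K : Set G)) :
    U ≤ centralizer (K : Set G) := by
  classical
  haveI : Fact (Nat.Prime 2) := ⟨Nat.prime_two⟩
  haveI := hU4
  have hUc : Nat.card ↥U = 4 := IsKleinFour.card_four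
  have hU2 : ∀ u ∈ U, u * u = 1 := fun u hu =>
    congrArg Subtype.val (IsKleinFour.mul_self (⟨u, hu⟩ : ↥U))
  have hUp : IsPGroup 2 ↥U := P.2.to_le hUP
  have hUab : ∀ a ∈ U, ∀ b ∈ U, a * b = b * a := fun a ha b hb => by
    have h := hU2 (a * b) (mul_mem ha hb)
    calc a * b = (a * b)⁻¹ := (inv_eq_of_mul_eq_one_right h).symm
      _ = b⁻¹ * a⁻¹ := mul_inv_rev a b
      _ = b * a := by
        rw [inv_eq_of_mul_eq_one_right (hU2 a ha), inv_eq_of_mul_eq_one_right (hU2 b hb)]
  haveI : IsMulCommutative ↥U := ⟨⟨fun a b => Subtype.ext (hUab a a.2 b b.2)⟩⟩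
  suffices key : ∀ x ∈ U, x ≠ 1 → ∀ y ∈ U, ∀ k ∈ K, k * x = x * k → k * y = y * k by
    have hnc : ¬ IsCyclic ↥U := IsKleinFour.not_isCyclic
    have hcop : (Nat.card ↥U).Coprime (Nat.card ↥K) := by
      rw [hUc, show (4 : ℕ) = 2 ^ 2 by norm_num]
      exact (Nat.coprime_two_left.2 hK).pow_left 2
    have h := Cfsg.Lib.Coprime.le_iSup_centralizer_of_not_isCyclic hnc hUK hcop
    refine le_centralizer_iff.1 (h.trans (iSup_le fun a => ?_))
    intro k hk
    exact mem_centralizer_iff.2 fun y hy =>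
      (key (a : G) a.2.1 a.2.2 y hy k hk.1 (mem_centralizer_singleton_iff.1 hk.2)).symm
  intro x hx hx1 y hy k hk hkx
  -- the 2-local subgroup of `x`
  set H := normalizer ((zpowers x : Subgroup G) : Set G) with hH
  have hxp : IsPGroup 2 ↥(zpowers x) := hUp.to_le (zpowers_le.2 hx)
  have hxo : orderOf x = 2 := orderOf_eq_prime (by rw [pow_two]; exact hU2 x hx) hx1
  have hxH : ∀ g ∈ H, g * x = x * g := by
    intro g hg
    have h := (mem_normalizer_iff.1 hg x).1 (mem_zpowers x)
    rw [mem_zpowers_iff_mem_range_orderOf, hxo] at h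
    simp only [Finset.mem_image, Finset.mem_range] at h
    obtain ⟨i, hi, he⟩ := h
    interval_cases i
    · rw [pow_zero, eq_comm, conj_eq_one_iff] at he
      exact absurd he hx1
    · rw [pow_one, eq_mul_inv_iff_mul_eq] at he
      exact he.symm
  have hCH : centralizer ((zpowers x : Subgroup G) : Set G) ≤ H := centralizer_le_normalizer _
  have hmemH : ∀ g, g * x = x * g → g ∈ H := fun g hg => hCH (by
    rw [zpowers_eq_closure, centralizer_closure]
    exact mem_centralizer_singleton_iff.2 hg)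
  have hchar := h2.2 (zpowers x) hxp fun h => hx1 (zpowers_eq_bot.1 h)
  set O := Cfsg.pCore 2 ↥H with hO
  -- a Sylow subgroup of `H` normalizing `U`
  obtain ⟨Q, hQH, hQ, hQidx, hQU⟩ : ∃ Q : Subgroup G, Q ≤ H ∧ IsPGroup 2 ↥Q ∧
      ¬ 2 ∣ Q.relIndex H ∧ Q ≤ normalizer (U : Set G) := by
    by_cases hxP : x ∈ centralizer ((P : Subgroup G) : Set G)
    · have hPH : (P : Subgroup G) ≤ H := fun g hg => hmemH g (mem_centralizer_iff.1 hxP g hg)
      exact ⟨P, hPH, P.2, fun h => P.not_dvd_index (h.trans (relIndex_dvd_index_of_le hPH)), hUn⟩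
    set Z := (P : Subgroup G) ⊓ centralizer ((P : Subgroup G) : Set G) with hZdef
    have hcyc : IsCyclic ↥Z := by
      by_contra h
      exact hxP (hUZ h hx)
    set P₀ := (P : Subgroup G) ⊓ centralizer (U : Set G) with hP₀
    have hP₀H : P₀ ≤ H := fun g hg => hmemH g (mem_centralizer_iff.1 hg.2 x hx).symm
    obtain ⟨S, hS⟩ := ((P.2.to_le inf_le_left : IsPGroup 2 ↥P₀).of_equiv
      (subgroupOfEquivOfLe hP₀H).symm).exists_le_sylow
    set Q := (S : Subgroup ↥H).map H.subtype with hQ'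
    have hQH : Q ≤ H := map_subtype_le _
    have hQp : IsPGroup 2 ↥Q := S.2.map _
    have hP₀Q : P₀ ≤ Q := fun g hg => ⟨⟨g, hP₀H hg⟩, hS (mem_subgroupOf.2 hg), rfl⟩
    have hidx : ¬ 2 ∣ Q.relIndex H := by
      rw [relIndex, hQ', subgroupOf, comap_map_eq_self_of_injective (subtype_injective _)]
      exact S.not_dvd_index
    by_cases hQP : Q = P₀
    · exact ⟨Q, hQH, hQp, hidx,
        hQP ▸ (inf_le_right.trans (centralizer_le_normalizer _))⟩
    refine ⟨Q, hQH, hQp, hidx, ?_⟩
    -- `U` is `Ω₁` of the centre of `P₀`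
    let V : Subgroup G :=
      { carrier := {v | v ∈ P₀ ∧ (∀ w ∈ P₀, v * w = w * v) ∧ v * v = 1}
        one_mem' := ⟨one_mem _, fun w _ => by rw [one_mul, mul_one], one_mul 1⟩
        mul_mem' := fun {a b} ha hb => ⟨mul_mem ha.1 hb.1, fun w hw => by
            rw [mul_assoc, hb.2.1 w hw, ← mul_assoc, ha.2.1 w hw, mul_assoc], by
            have e : a * b = b * a := ha.2.1 b hb.1
            calc a * b * (a * b) = a * b * (b * a) := by rw [← e]
              _ = a * (b * b) * a := by group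
              _ = 1 := by rw [hb.2.2, mul_one, ha.2.2]⟩
        inv_mem' := fun {a} ha => by
          rw [show a⁻¹ = a from inv_eq_of_mul_eq_one_right ha.2.2]; exact ha }
    have hUV : U ≤ V := fun u hu => ⟨⟨hUP hu, mem_centralizer_iff.2 fun w hw => hUab w hw u hu⟩,
      fun w hw => mem_centralizer_iff.1 hw.2 u hu, hU2 u hu⟩
    -- `P₀` has index two in `P`
    obtain ⟨t, htP, htx⟩ : ∃ t ∈ (P : Subgroup G), t * x ≠ x * t := by
      by_contra h
      push Not at h
      exact hxP (mem_centralizer_iff.2 h)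
    -- the images of `x`
    have hcard2 : (P₀.subgroupOf (P : Subgroup G)).index ≤ 2 := by
      -- a central involution of `P` in `U`
      obtain ⟨z, hzU, hzne, hzP⟩ : ∃ z ∈ U, z ≠ 1 ∧ ∀ g ∈ (P : Subgroup G), g * z = z * g := by
        haveI : (U.subgroupOf (P : Subgroup G)).Normal :=
          (normal_subgroupOf_iff_le_normalizer hUP).2 hUn
        have hne : U.subgroupOf (P : Subgroup G) ⊓ center ↥(P : Subgroup G) ≠ ⊥ :=
          Cfsg.Lib.PGroup.inf_center_ne_bot P.2 fun h => hx1 (by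
            have : (⟨x, hUP hx⟩ : ↥(P : Subgroup G)) ∈ U.subgroupOf (P : Subgroup G) := mem_subgroupOf.2 hx
            rw [h, mem_bot] at this
            exact congrArg Subtype.val this)
        obtain ⟨z, hz, hz1⟩ := (bot_or_exists_ne_one _).resolve_left hne
        exact ⟨z, mem_subgroupOf.1 hz.1, fun h => hz1 (Subtype.ext h), fun g hg =>
          congrArg Subtype.val (mem_center_iff.1 hz.2 ⟨g, hg⟩)⟩
      have hzx : z ≠ x := fun h => hxP (mem_centralizer_iff.2 fun g hg => h ▸ hzP g hg)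
      have hU4' : ∀ u ∈ U, u = 1 ∨ u = z ∨ u = x ∨ u = z * x := by
        intro u hu
        by_contra hcon
        push Not at hcon
        have : ({1, z, x, z * x, u} : Finset G).card ≤ 4 := by
          rw [← hUc, ← Nat.card_eq_finsetCard]
          refine Nat.card_le_card_of_injective (fun w => (⟨w.1, ?_⟩ : ↥U))
            fun a b h => Subtype.ext (congrArg Subtype.val h :)
          have hw := w.2
          simp only [Finset.mem_insert, Finset.mem_singleton] at hw
          rcases hw with h | h | h | h | h <;> rw [h]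
          exacts [one_mem _, hzU, hx, mul_mem hzU hx, hu]
        have h5 : ({1, z, x, z * x, u} : Finset G).card = 5 := by
          rw [Finset.card_insert_of_notMem, Finset.card_insert_of_notMem,
            Finset.card_insert_of_notMem, Finset.card_pair (Ne.symm hcon.2.2.2)] <;>
            simp only [Finset.mem_insert, Finset.mem_singleton, not_or]
          · exact ⟨fun h => hzne (by simpa using h), Ne.symm hcon.2.2.1⟩
          · exact ⟨hzx, fun h => hx1 (by simpa using h), Ne.symm hcon.2.1⟩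
          · refine ⟨Ne.symm hzne, Ne.symm hx1, fun h => hzx ?_, Ne.symm hcon.1⟩
            rw [mul_eq_one_iff_eq_inv.1 h.symm, inv_eq_of_mul_eq_one_right (hU2 x hx)]
        omega
      rw [index]
      classical
      refine le_trans (Nat.card_le_card_of_injective (fun q : ↥(P : Subgroup G) ⧸ P₀.subgroupOf (P : Subgroup G) =>
        (decide (((Quotient.out q : ↥(P : Subgroup G)) : G) * x = x * (Quotient.out q : ↥(P : Subgroup G))) : Bool))
        fun q r h => ?_) (by simp)
      rw [← QuotientGroup.out_eq' q, ← QuotientGroup.out_eq' r, QuotientGroup.eq]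
      set a := (Quotient.out q : ↥(P : Subgroup G))
      set b := (Quotient.out r : ↥(P : Subgroup G))
      simp only [decide_eq_decide] at h
      have himg : ∀ g : ↥(P : Subgroup G), (g : G) * x * (g : G)⁻¹ = x ∨
          (g : G) * x * (g : G)⁻¹ = z * x := by
        intro g
        have hg := (mem_normalizer_iff.1 (hUn g.2) x).1 hx
        rcases hU4' _ hg with e | e | e | e
        · exact absurd (conj_eq_one_iff.1 e) hx1
        · exact absurd (by
            calc z = (g : G)⁻¹ * ((g : G) * z) := by group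
              _ = (g : G)⁻¹ * (z * g) := by rw [hzP g g.2]
              _ = x := by rw [← e]; group) hzx
        · exact Or.inl e
        · exact Or.inr e
      have heq : (a : G) * x * (a : G)⁻¹ = (b : G) * x * (b : G)⁻¹ := by
        by_cases hb : (b : G) * x = x * b
        · rw [mul_inv_eq_iff_eq_mul.2 hb, mul_inv_eq_iff_eq_mul.2 (h.2 hb)]
        · have ha' : ¬ (a : G) * x = x * a := fun e => hb (h.1 e)
          rcases himg a with e | e
          · exact absurd (mul_inv_eq_iff_eq_mul.1 e) ha'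
          rcases himg b with e' | e'
          · exact absurd (mul_inv_eq_iff_eq_mul.1 e') hb
          rw [e, e']
      refine mem_subgroupOf.2 ⟨(a⁻¹ * b).2, mem_centralizer_iff.2 fun u hu => ?_⟩
      have hcx : Commute x ((a : G)⁻¹ * b) := by
        have : ((a : G)⁻¹ * b) * x * ((a : G)⁻¹ * b)⁻¹ = x := by
          calc ((a : G)⁻¹ * b) * x * ((a : G)⁻¹ * b)⁻¹ = (a : G)⁻¹ * ((b : G) * x * (b : G)⁻¹) * a := by group
            _ = x := by rw [← heq]; group
        exact (mul_inv_eq_iff_eq_mul.1 this).symm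
      have hcz : Commute z ((a : G)⁻¹ * b) := (hzP _ (mul_mem (inv_mem a.2) b.2)).symm
      rw [Subgroup.coe_mul, Subgroup.coe_inv]
      rcases hU4' u hu with rfl | rfl | rfl | rfl
      · rw [one_mul, mul_one]
      · exact hcz.eq
      · exact hcx.eq
      · exact (hcz.mul_left hcx).eq
    have hgen : ∀ g ∈ (P : Subgroup G), g ∈ P₀ ∨ t⁻¹ * g ∈ P₀ := by
      intro g hg
      by_contra hcon
      push Not at hcon
      set W := P₀.subgroupOf (P : Subgroup G)
      have h3 : ({QuotientGroup.mk 1, QuotientGroup.mk (⟨t, htP⟩ : ↥(P : Subgroup G)),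
          QuotientGroup.mk (⟨g, hg⟩ : ↥(P : Subgroup G))} : Finset (↥(P : Subgroup G) ⧸ W)).card = 3 := by
        have n1 : ((QuotientGroup.mk 1 : ↥(P : Subgroup G) ⧸ W)) ≠ QuotientGroup.mk ⟨t, htP⟩ := by
          rw [Ne, QuotientGroup.eq]
          intro h
          have h' := mem_subgroupOf.1 h
          simp only [inv_one, one_mul] at h'
          exact htx (mem_centralizer_iff.1 h'.2 x hx).symm
        have n2 : ((QuotientGroup.mk 1 : ↥(P : Subgroup G) ⧸ W)) ≠ QuotientGroup.mk ⟨g, hg⟩ := by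
          rw [Ne, QuotientGroup.eq]
          intro h
          have h' := mem_subgroupOf.1 h
          simp only [inv_one, one_mul] at h'
          exact hcon.1 h'
        have n3 : (QuotientGroup.mk (⟨t, htP⟩ : ↥(P : Subgroup G)) : ↥(P : Subgroup G) ⧸ W) ≠
            QuotientGroup.mk ⟨g, hg⟩ := by
          rw [Ne, QuotientGroup.eq]
          exact fun h => hcon.2 (mem_subgroupOf.1 h)
        rw [Finset.card_insert_of_notMem (by simp [n1, n2]), Finset.card_pair n3]
      haveI : Fintype (↥(P : Subgroup G) ⧸ W) := Fintype.ofFinite _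
      have := Finset.card_le_univ ({QuotientGroup.mk 1, QuotientGroup.mk (⟨t, htP⟩ : ↥(P : Subgroup G)),
          QuotientGroup.mk (⟨g, hg⟩ : ↥(P : Subgroup G))} : Finset (↥(P : Subgroup G) ⧸ W))
      rw [h3, ← Nat.card_eq_fintype_card, ← Subgroup.index] at this
      omega
    have hVP : ∀ v ∈ V, v ∈ (P : Subgroup G) := fun v hv => hv.1.1
    -- `|V| ≤ 4`
    have hVU : U = V := by
      refine eq_of_le_of_card_ge hUV ?_
      rw [hUc]
      have htn : ∀ v ∈ V, t * v * t⁻¹ ∈ V := by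
        intro v hv
        have hP₀n : ∀ w ∈ P₀, t⁻¹ * w * t ∈ P₀ := fun w hw => by
          refine mem_inf.2 ⟨mul_mem (mul_mem (inv_mem htP) hw.1) htP, mem_centralizer_iff.2 fun u hu => ?_⟩
          have h := mem_centralizer_iff.1 hw.2 _ ((mem_normalizer_iff.1 (hUn htP) u).1 hu)
          calc u * (t⁻¹ * w * t) = t⁻¹ * (t * u * t⁻¹ * w) * t := by group
            _ = t⁻¹ * w * t * u := by rw [h]; group
        refine ⟨mem_inf.2 ⟨mul_mem (mul_mem htP hv.1.1) (inv_mem htP), mem_centralizer_iff.2 fun u hu => ?_⟩,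
          fun w hw => ?_, ?_⟩
        · have h := mem_centralizer_iff.1 hv.1.2 _ ((mem_normalizer_iff''.1 (hUn htP) u).1 hu)
          calc u * (t * v * t⁻¹) = t * (t⁻¹ * u * t * v) * t⁻¹ := by group
            _ = t * v * t⁻¹ * u := by rw [h]; group
        · have h := hv.2.1 _ (hP₀n w hw)
          calc t * v * t⁻¹ * w = t * (v * (t⁻¹ * w * t)) * t⁻¹ := by group
            _ = w * (t * v * t⁻¹) := by rw [h]; group
        · calc t * v * t⁻¹ * (t * v * t⁻¹) = t * (v * v) * t⁻¹ := by group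
            _ = 1 := by rw [hv.2.2, mul_one, mul_inv_cancel]
      have hVc : ∀ a ∈ V, ∀ b ∈ V, a * b = b * a := fun a ha b hb => ha.2.1 b hb.1
      let f : ↥V →* ↥V := MonoidHom.mk' (fun v => ⟨t * v * t⁻¹ * (v : G)⁻¹, mul_mem (htn v v.2) (inv_mem v.2)⟩)
        fun a b => Subtype.ext (by
          show t * ((a : G) * b) * t⁻¹ * ((a : G) * b)⁻¹ = t * a * t⁻¹ * (a : G)⁻¹ * (t * b * t⁻¹ * (b : G)⁻¹)
          have h := hVc _ (inv_mem a.2) (t * b * t⁻¹ * (b : G)⁻¹) (mul_mem (htn b b.2) (inv_mem b.2))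
          calc t * ((a : G) * b) * t⁻¹ * ((a : G) * b)⁻¹
              = t * a * t⁻¹ * ((t * b * t⁻¹ * (b : G)⁻¹) * (a : G)⁻¹) := by group
            _ = _ := by rw [← h]; group)
      have hker : Nat.card ↥f.ker ≤ 2 := by
        haveI := hcyc
        have hmem : ∀ v : ↥f.ker, ((v : ↥V) : G) ∈ Z := by
          intro v
          refine mem_inf.2 ⟨hVP _ (v : ↥V).2, mem_centralizer_iff.2 fun g hg => ?_⟩
          have hvt : Commute t ((v : ↥V) : G) := by
            have : t * ((v : ↥V) : G) * t⁻¹ * ((v : ↥V) : G)⁻¹ = 1 := congrArg Subtype.val v.2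
            rw [mul_inv_eq_one, mul_inv_eq_iff_eq_mul] at this
            exact this
          rcases hgen g hg with h | h
          · exact ((v : ↥V).2.2.1 g h).symm
          · have hc : Commute (t⁻¹ * g) ((v : ↥V) : G) := ((v : ↥V).2.2.1 _ h).symm
            have := hvt.mul_left hc
            rwa [mul_inv_cancel_left] at this
        let g : ↥f.ker → {w : ↥Z // w ^ 2 = 1} := fun v => ⟨⟨_, hmem v⟩, Subtype.ext (by
          rw [pow_two]; exact (v : ↥V).2.2.2)⟩
        have hg : Function.Injective g := fun a b h =>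
          Subtype.ext (Subtype.ext (congrArg (fun w : {w : ↥Z // w ^ 2 = 1} => ((w : ↥Z) : G)) h :))
        haveI : Fintype ↥Z := Fintype.ofFinite _
        refine (Nat.card_le_card_of_injective g hg).trans ?_
        rw [Nat.card_eq_fintype_card, Fintype.card_subtype]
        exact IsCyclic.card_pow_eq_one_le two_pos
      have hrange : f.range ≤ f.ker := by
        rintro _ ⟨v, rfl⟩
        refine MonoidHom.mem_ker.2 (Subtype.ext ?_)
        show t * (t * v * t⁻¹ * (v : G)⁻¹) * t⁻¹ * (t * v * t⁻¹ * (v : G)⁻¹)⁻¹ = 1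
        rw [mul_inv_eq_one]
        have ht2 : t * t ∈ P₀ := by
          rcases hgen (t * t) (mul_mem htP htP) with h | h
          · exact h
          · rw [inv_mul_cancel_left] at h
            exact absurd (mem_centralizer_iff.1 h.2 x hx).symm htx
        have hw := v.2.2.1 _ ht2
        have hinv : (t * v * t⁻¹ * (v : G)⁻¹)⁻¹ = t * v * t⁻¹ * (v : G)⁻¹ :=
          inv_eq_of_mul_eq_one_right (mul_mem (htn v v.2) (inv_mem v.2) : _ ∈ V).2.2
        calc t * (t * v * t⁻¹ * (v : G)⁻¹) * t⁻¹ = t * t * v * (t * t)⁻¹ * (t * (v : G)⁻¹ * t⁻¹) := by group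
          _ = (v : G) * (t * (v : G)⁻¹ * t⁻¹) := by rw [← hw, mul_inv_cancel_right]
          _ = (t * v * t⁻¹ * (v : G)⁻¹)⁻¹ := by group
          _ = _ := hinv
      calc Nat.card ↥V = Nat.card ↥f.ker * f.ker.index := (card_mul_index _).symm
        _ = Nat.card ↥f.ker * Nat.card ↥f.range := by rw [index_ker]
        _ ≤ 2 * 2 := Nat.mul_le_mul hker ((card_le_of_le hrange).trans hker)
    -- `P₀` has index two in `Q`, so `Q` normalizes `V = U`
    have hlt : P₀ < Q := lt_of_le_of_ne hP₀Q (Ne.symm hQP)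
    have hQP₀ : (P₀.subgroupOf Q).index = 2 := by
      obtain ⟨m, hm⟩ := IsPGroup.iff_card.1 hQp
      obtain ⟨j, -, hj⟩ := (Nat.dvd_prime_pow Nat.prime_two).1 (hm ▸ (P₀.subgroupOf Q).index_dvd_card)
      rcases j with _ | j
      · exact absurd (subgroupOf_eq_top.1 (index_eq_one.1 (by rw [hj, pow_zero]))) (not_le_of_gt hlt)
      rcases j with _ | j
      · rw [hj, pow_one]
      exfalso
      -- `Q` would be larger than a Sylow subgroup
      have h1 := (P₀.subgroupOf Q).card_mul_index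
      rw [Nat.card_congr (subgroupOfEquivOfLe hP₀Q).toEquiv, hj] at h1
      have h2 := (P₀.subgroupOf (P : Subgroup G)).card_mul_index
      rw [Nat.card_congr (subgroupOfEquivOfLe (inf_le_left : P₀ ≤ (P : Subgroup G))).toEquiv] at h2
      obtain ⟨c, hc⟩ := Cfsg.Lib.Sig.exists_conj_le_sylow P hQp
      have h3 := card_le_of_le hc
      rw [Cfsg.Lib.Sig.card_map_conj] at h3
      have h4 : (4 : ℕ) ≤ 2 ^ (j + 1 + 1) := by
        calc (4 : ℕ) = 2 ^ 2 := by norm_num
          _ ≤ _ := Nat.pow_le_pow_right two_pos (by omega)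
      have h5 : Nat.card ↥P₀ * 4 ≤ Nat.card ↥Q := h1 ▸ Nat.mul_le_mul_left _ h4
      have h6 : Nat.card ↥(P : Subgroup G) ≤ Nat.card ↥P₀ * 2 := h2 ▸ Nat.mul_le_mul_left _ hcard2
      have : 0 < Nat.card ↥P₀ := Nat.card_pos
      omega
    haveI := normal_of_index_eq_two hQP₀
    intro g hg
    have hgn : ∀ w ∈ P₀, g * w * g⁻¹ ∈ P₀ := fun w hw =>
      mem_subgroupOf.1 ((inferInstance : (P₀.subgroupOf Q).Normal).conj_mem ⟨w, hP₀Q hw⟩
        (mem_subgroupOf.2 hw) ⟨g, hg⟩)
    have hgn' : ∀ w ∈ P₀, g⁻¹ * w * g ∈ P₀ := fun w hw => by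
      have h := (inferInstance : (P₀.subgroupOf Q).Normal).conj_mem ⟨w, hP₀Q hw⟩
        (mem_subgroupOf.2 hw) ⟨g⁻¹, inv_mem hg⟩
      simpa using mem_subgroupOf.1 h
    rw [hVU]
    refine Cfsg.Lib.Sig.mem_normalizer_of_map_conj (eq_of_le_of_card_ge ?_
      (Cfsg.Lib.Sig.card_map_conj _ _).ge)
    rintro _ ⟨v, hv, rfl⟩
    refine ⟨hgn v hv.1, fun w hw => ?_, ?_⟩
    · show g * v * g⁻¹ * w = w * (g * v * g⁻¹)
      have h := hv.2.1 _ (hgn' w hw)
      calc g * v * g⁻¹ * w = g * (v * (g⁻¹ * w * g)) * g⁻¹ := by group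
        _ = w * (g * v * g⁻¹) := by rw [h]; group
    · show g * v * g⁻¹ * (g * v * g⁻¹) = 1
      calc g * v * g⁻¹ * (g * v * g⁻¹) = g * (v * v) * g⁻¹ := by group
        _ = 1 := by rw [hv.2.2, mul_one, mul_inv_cancel]
  -- `O₂(H) ≤ Q`, so it normalizes `U`
  have hOQ : ∀ o ∈ O, ((o : ↥H) : G) ∈ normalizer (U : Set G) := fun o ho => by
    let S : Sylow 2 ↥H := (hQ.of_equiv (subgroupOfEquivOfLe hQH).symm).toSylow (by simpa [relIndex] using hQidx)
    exact hQU (mem_subgroupOf.1 (Cfsg.Lib.Core.pCore_le_sylow S ho))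
  have hyH : y ∈ H := hmemH y (hUab y hy x hx)
  set y' : ↥H := ⟨y, hyH⟩
  let Sst : Subgroup ↥H :=
    { carrier := {h | ∀ o ∈ O, ((o * h * o⁻¹ * h⁻¹ : ↥H) : G) ∈ zpowers x}
      one_mem' := fun o _ => by simp [one_mem]
      mul_mem' := fun {a b} ha hb o ho => by
        have e : o * (a * b) * o⁻¹ * (a * b)⁻¹ = (o * a * o⁻¹ * a⁻¹) * (a * (o * b * o⁻¹ * b⁻¹) * a⁻¹) := by group
        rw [e, Subgroup.coe_mul]
        refine mul_mem (ha o ho) ?_
        show (a : G) * ((o * b * o⁻¹ * b⁻¹ : ↥H) : G) * (a : G)⁻¹ ∈ zpowers x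
        exact (mem_normalizer_iff.1 a.2 _).1 (hb o ho)
      inv_mem' := fun {a} ha o ho => by
        have e : o * a⁻¹ * o⁻¹ * a⁻¹⁻¹ = a⁻¹ * (o * a * o⁻¹ * a⁻¹)⁻¹ * a := by group
        rw [e]
        show (a : G)⁻¹ * ((o * a * o⁻¹ * a⁻¹ : ↥H) : G)⁻¹ * (a : G) ∈ zpowers x
        exact (mem_normalizer_iff''.1 a.2 _).1 (inv_mem (ha o ho)) }
  have hSn : Sst.Normal := ⟨fun a ha g o ho => by
    have e : o * (g * a * g⁻¹) * o⁻¹ * (g * a * g⁻¹)⁻¹ =
        g * ((g⁻¹ * o * g) * a * (g⁻¹ * o * g)⁻¹ * a⁻¹) * g⁻¹ := by group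
    rw [e]
    show (g : G) * (((g⁻¹ * o * g) * a * (g⁻¹ * o * g)⁻¹ * a⁻¹ : ↥H) : G) * (g : G)⁻¹ ∈ zpowers x
    refine (mem_normalizer_iff.1 g.2 _).1 (ha _ ?_)
    have := (inferInstance : O.Normal).conj_mem o ho g⁻¹
    simpa using this⟩
  have hSp : IsPGroup 2 ↥Sst := by
    have hodd : ∀ s ∈ Sst, ∀ n : ℕ, Odd n → s ^ n = 1 → s = 1 := by
      intro s hs n hn hsn
      have hsO : s ∈ centralizer (O : Set ↥H) := by
        refine mem_centralizer_iff.2 fun o ho => ?_
        set c := o * s * o⁻¹ * s⁻¹ with hc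
        have hcx : (c : G) ∈ zpowers x := hs o ho
        have hcs : Commute c s := by
          obtain ⟨i, hi⟩ := hcx
          refine Subtype.ext ?_
          show (c : G) * s = s * c
          rw [← hi]
          exact ((Commute.zpow_right (hxH s s.2 : Commute (s : G) x) i).symm).eq
        have hc2 : c ^ 2 = 1 := by
          obtain ⟨i, hi⟩ := hcx
          refine Subtype.ext ?_
          rw [Subgroup.coe_pow, ← hi]
          show (x ^ i) ^ 2 = 1
          rw [← zpow_natCast, ← zpow_mul, mul_comm, zpow_mul, zpow_natCast, pow_two, hU2 x hx, one_zpow]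
        have e1 : o * s * o⁻¹ = c * s := by rw [hc]; group
        have h := congrArg (· ^ n) e1
        simp only [conj_pow, hcs.mul_pow, hsn, mul_one, mul_inv_cancel] at h
        have hc1 : c = 1 := by
          obtain ⟨m, rfl⟩ := hn
          rw [pow_succ, pow_mul, hc2, one_pow, one_mul] at h
          exact h.symm
        rw [hc1, one_mul] at e1
        exact mul_inv_eq_iff_eq_mul.1 e1
      obtain ⟨m, hm⟩ := (Cfsg.Lib.Core.pCore_isPGroup 2 ↥H) ⟨s, hchar hsO⟩
      have hm' : s ^ 2 ^ m = 1 := congrArg Subtype.val hm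
      exact orderOf_eq_one_iff.1 (Nat.eq_one_of_dvd_coprimes
        ((Nat.coprime_two_left.2 hn).pow_left m) (orderOf_dvd_of_pow_eq_one hm') (orderOf_dvd_of_pow_eq_one hsn))
    rw [IsPGroup.iff_orderOf]
    intro s
    obtain ⟨m, n, hn, hsn⟩ := Nat.exists_eq_two_pow_mul_odd (orderOf_pos s).ne'
    refine ⟨m, ?_⟩
    have h1 : (s : ↥H) ^ (2 ^ m) = 1 := hodd _ (Sst.pow_mem s.2 _) n hn (by
      rw [← pow_mul, ← hsn, ← Subgroup.coe_pow, pow_orderOf_eq_one, Subgroup.coe_one])
    have h2 : orderOf s ∣ 2 ^ m := by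
      rw [← Subgroup.orderOf_coe]; exact orderOf_dvd_of_pow_eq_one h1
    exact Nat.dvd_antisymm h2 (hsn ▸ dvd_mul_right _ _)
  have hyS : y' ∈ Sst := by
    intro o ho
    have h1 : (o : G) * y * (o : G)⁻¹ ∈ U := (mem_normalizer_iff.1 (hOQ o ho) y).1 hy
    show (o : G) * y * (o : G)⁻¹ * y⁻¹ ∈ zpowers x
    by_cases hyx : y ∈ zpowers x
    · exact mul_mem ((mem_normalizer_iff.1 o.2 y).1 hyx) (inv_mem hyx)
    have h2 : (o : G) * y * (o : G)⁻¹ ∉ zpowers x := fun h => hyx ((mem_normalizer_iff.1 o.2 y).2 h)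
    -- the index of `⟨x⟩` in `U` is two
    have hidx : ((zpowers x).subgroupOf U).index = 2 := by
      have h := ((zpowers x).subgroupOf U).card_mul_index
      rw [Nat.card_congr (subgroupOfEquivOfLe (zpowers_le.2 hx)).toEquiv, Nat.card_zpowers, hxo, hUc] at h
      omega
    have := mul_mem_iff_of_index_two hidx (a := ⟨_, h1⟩) (b := ⟨y⁻¹, inv_mem hy⟩)
    refine mem_subgroupOf.1 (this.2 ?_)
    simp only [mem_subgroupOf]
    exact iff_of_false h2 fun h => hyx (by simpa using h)
  have hyO : y' ∈ O := Cfsg.Lib.Core.le_pCore' hSn hSp hyS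
  set k' : ↥H := ⟨k, hmemH k hkx⟩
  have hmem : k' * y' * k'⁻¹ * y'⁻¹ ∈ O :=
    O.mul_mem ((inferInstance : O.Normal).conj_mem y' hyO k') (O.inv_mem hyO)
  have hK' : k * y * k⁻¹ * y⁻¹ ∈ K := by
    rw [show k * y * k⁻¹ * y⁻¹ = k * (y * k⁻¹ * y⁻¹) by group]
    exact mul_mem hk ((mem_normalizer_iff.1 (hUK hy) _).1 (inv_mem hk))
  have hbot : (O.map H.subtype) ⊓ K = ⊥ :=
    Cfsg.Lib.Sig.disjoint_of_isPGroup_coprime ((Cfsg.Lib.Core.pCore_isPGroup 2 _).map _)
      (Nat.coprime_two_right.2 hK)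
  have h1 : k * y * k⁻¹ * y⁻¹ = 1 := by
    rw [← mem_bot, ← hbot]
    exact mem_inf.2 ⟨⟨_, hmem, rfl⟩, hK'⟩
  rw [mul_inv_eq_one, mul_inv_eq_iff_eq_mul] at h1
  exact h1

/-- Let `G` be a finite non-abelian simple group in which every local subgroup is solvable and which is of characteristic 2 type. Let `P` be a Sylow 2-subgroup of `G` and `U` a normal subgroup of `P` that is a four-group, with `U` central in `P` if the centre of `P` is not cyclic. Then `U` centralizes every subgroup of odd order of `G` that it normalizes. -/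
theorem result {G : Type*} [Group G] [Finite G]
    [IsSimpleGroup G] (hna : ¬ IsMulCommutative G) (hN : Cfsg.IsNGroup G) (h2 : Cfsg.IsCharacteristicTwoType G)
    (P : Sylow 2 G) (U : Subgroup G) (hUP : U ≤ (P : Subgroup G)) (hUn : (P : Subgroup G) ≤ Subgroup.normalizer (U : Set G))
    (hU4 : IsKleinFour ↥U)
    (hUZ : ¬ IsCyclic ↥((P : Subgroup G) ⊓ Subgroup.centralizer ((P : Subgroup G) : Set G)) →
      U ≤ Subgroup.centralizer ((P : Subgroup G) : Set G))
    (K : Subgroup G) (hK : Odd (Nat.card K)) (hUK : U ≤ Subgroup.normalizer (K : Set G)) :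
    U ≤ Subgroup.centralizer (K : Set G) := by
    exact main h2 P U hUP hUn hU4 hUZ K hK hUK

end Cfsg.Agent.S1957
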