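import Cfsg.Statements.S1958
import Cfsg.Agent.Lib.Sig.PConstrained

set_option autoImplicit false
open Cfsg

namespace Cfsg.Agent.S1958

/-- Let `G` be a finite group, `p` a prime, and `x, y` commuting elements of order `p` whose centralizers `C_G(x)` and `C_G(y)` are both solvable. Then `O_{p'}(C_G(x)) ∩ C_G(y) = O_{p'}(C_G(y)) ∩ C_G(x)` (balance). -/
theorem result {G : Type*} [Group G] [Finite G]
    (p : ℕ) [Fact p.Prime] (x y : G) (hx : orderOf x = p) (hy : orderOf y = p) (hxy : x * y = y * x)
    (hCx : Group.IsSolvable ↥(Subgroup.centralizer ({x} : Set G))) (hCy : Group.IsSolvable ↥(Subgroup.centralizer ({y} : Set G))) :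
    Cfsg.centralizerPPrimeCore p x ⊓ Subgroup.centralizer {y} = Cfsg.centralizerPPrimeCore p y ⊓ Subgroup.centralizer {x} := by
    have key : ∀ a b : G, orderOf a = p → a * b = b * a →
        Group.IsSolvable ↥(Subgroup.centralizer ({b} : Set G)) →
        Cfsg.centralizerPPrimeCore p a ⊓ Subgroup.centralizer {b} ≤
          Cfsg.centralizerPPrimeCore p b ⊓ Subgroup.centralizer {a} := by
      intro a b ha hab hC
      have := hC
      have hap : IsPGroup p ↥(Subgroup.zpowers a) := IsPGroup.of_card (n := 1) (by
        rw [Nat.card_zpowers, ha, pow_one])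
      exact le_inf (Cfsg.Lib.Sig.centralizerPPrimeCore_inf_le hap hab
        (Cfsg.Lib.Sig.isPConstrained_of_isPSolvable Cfsg.Lib.Core.isPSolvable_of_isSolvable))
        (inf_le_left.trans (Subgroup.map_subtype_le _))
    exact le_antisymm (key x y hx hxy hCy) (key y x hy hxy.symm hCx)

end Cfsg.Agent.S1958
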