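import Cfsg.Statements.S1963
import Cfsg.Agent.Lib.Sig.Small

set_option autoImplicit false
open Cfsg

namespace Cfsg.Agent.S1963

/-- Let p be a prime, G a finite group with Sylow p-subgroup S, W a conjugacy functor for p on G and T a subgroup of S. Then some G-conjugate of T is well placed in S with respect to W. -/
theorem result {G : Type*} [Group G] [Finite G] {p : ℕ} [Fact p.Prime] (S : Sylow p G) (W : Subgroup G → Subgroup G) (hW : Cfsg.IsConjugacyFunctor p W) (T : Subgroup G) (hT : T ≤ (S : Subgroup G)) : ∃ g : G, Cfsg.IsWellPlaced p W (S : Subgroup G) (T.map (MulAut.conj g).toMonoidHom) := by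
    set S' : Subgroup G := (S : Subgroup G)
    let NS : Subgroup G → Subgroup G := fun U => S' ⊓ Subgroup.normalizer ((U : Subgroup G) : Set G)
    let U : Subgroup G → ℕ → Subgroup G := fun R i => Cfsg.functorTower W S' R i
    have hsucc : ∀ R i, U R (i + 1) = W (NS (U R i)) := fun R i => rfl
    have hNp : ∀ V : Subgroup G, IsPGroup p ↥(NS V) := fun V => S.2.to_le inf_le_left
    have hup : ∀ R i, NS (U R i) ≤ NS (U R (i + 1)) := fun R i => by
      refine le_inf inf_le_left fun x hx => Cfsg.Lib.Sig.mem_normalizer_of_map_conj ?_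
      rw [hsucc, ← (hW _ (hNp _)).2.2 x, Cfsg.Lib.Sig.map_conj_eq_of_mem_normalizer (Subgroup.le_normalizer hx)]
    let good : Subgroup G → ℕ → Prop := fun R i =>
      ¬ p ∣ (NS (U R i)).relIndex (Subgroup.normalizer ((U R i : Subgroup G) : Set G))
    have step : ∀ n, ∃ g : G, T.map (MulAut.conj g).toMonoidHom ≤ S' ∧
        ∀ i < n, good (T.map (MulAut.conj g).toMonoidHom) i := by
      intro n
      induction n with
      | zero => exact ⟨1, by rwa [Cfsg.Lib.Sig.map_conj_one], fun i hi => absurd hi (Nat.not_lt_zero i)⟩
      | succ n ih =>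
        obtain ⟨g, hgS, hgood⟩ := ih
        set R₀ := T.map (MulAut.conj g).toMonoidHom with hR₀
        set V := U R₀ n with hV
        have hle : NS V ≤ Subgroup.normalizer ((V : Subgroup G) : Set G) := inf_le_right
        obtain ⟨R, hR⟩ :=
          ((hNp V).of_equiv (Subgroup.subgroupOfEquivOfLe hle).symm).exists_le_sylow
        set R' := (R : Subgroup ↥(Subgroup.normalizer ((V : Subgroup G) : Set G))).map
          (Subgroup.normalizer ((V : Subgroup G) : Set G)).subtype with hR'
        have hR'le : R' ≤ Subgroup.normalizer ((V : Subgroup G) : Set G) := Subgroup.map_subtype_le _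
        have hR'idx : ¬ p ∣ R'.relIndex (Subgroup.normalizer ((V : Subgroup G) : Set G)) := by
          rw [hR', Subgroup.relIndex, Subgroup.subgroupOf,
            Subgroup.comap_map_eq_self_of_injective (Subgroup.subtype_injective _)]
          exact R.not_dvd_index
        have hNR : NS V ≤ R' := fun y hy =>
          ⟨⟨y, hle hy⟩, hR (Subgroup.mem_subgroupOf.2 hy), rfl⟩
        obtain ⟨x, hx⟩ := Cfsg.Lib.Sig.exists_conj_le_sylow S
          (R.2.map (Subgroup.normalizer ((V : Subgroup G) : Set G)).subtype : IsPGroup p ↥R')
        have hmono : ∀ i, i ≤ n → NS (U R₀ i) ≤ R' := fun i hi =>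
          (monotone_nat_of_le_succ (f := fun i => NS (U R₀ i)) (hup R₀) hi).trans hNR
        set R₁ := T.map (MulAut.conj (x * g)).toMonoidHom with hR₁
        have h01 : R₀.map (MulAut.conj x).toMonoidHom = R₁ := Cfsg.Lib.Sig.map_conj_map_conj T g x
        have hconjN : ∀ i, i ≤ n → U R₁ i = (U R₀ i).map (MulAut.conj x).toMonoidHom →
            (NS (U R₀ i)).map (MulAut.conj x).toMonoidHom ≤ NS (U R₁ i) := fun i hi he =>
          le_inf ((Subgroup.map_mono (hmono i hi)).trans hx) (by
            rw [he, ← Cfsg.Lib.Sig.map_conj_normalizer]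
            exact Subgroup.map_mono inf_le_right)
        have hNeq : ∀ i, i < n → U R₁ i = (U R₀ i).map (MulAut.conj x).toMonoidHom →
            NS (U R₁ i) = (NS (U R₀ i)).map (MulAut.conj x).toMonoidHom := by
          intro i hi he
          refine (Subgroup.eq_of_le_of_card_ge (hconjN i hi.le he) ?_).symm
          obtain ⟨c, hc, hcle⟩ := Cfsg.Lib.Sig.exists_conj_le_of_relIndex
            (inf_le_right : NS (U R₀ i) ≤ _) (hNp _) (hgood i hi)
            (R := (NS (U R₁ i)).map (MulAut.conj x⁻¹).toMonoidHom) (by
              refine (Subgroup.map_mono (inf_le_right :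
                NS (U R₁ i) ≤ Subgroup.normalizer ((U R₁ i : Subgroup G) : Set G))).trans ?_
              rw [Cfsg.Lib.Sig.map_conj_normalizer, he, Cfsg.Lib.Sig.map_conj_map_conj,
                inv_mul_cancel, Cfsg.Lib.Sig.map_conj_one])
            ((hNp _).map _)
          rw [Cfsg.Lib.Sig.card_map_conj]
          have := Subgroup.card_le_of_le hcle
          rwa [Cfsg.Lib.Sig.card_map_conj, Cfsg.Lib.Sig.card_map_conj] at this
        have heq : ∀ i, i ≤ n → U R₁ i = (U R₀ i).map (MulAut.conj x).toMonoidHom := by
          intro i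
          induction i with
          | zero => exact fun _ => h01.symm
          | succ i ihi =>
            intro hi
            rw [hsucc, hsucc, hNeq i (by omega) (ihi (by omega)), (hW _ (hNp _)).2.2 x]
        refine ⟨x * g, ?_, fun i hi => ?_⟩
        · rw [← Cfsg.Lib.Sig.map_conj_map_conj T g x]
          refine (Subgroup.map_mono ?_).trans hx
          refine le_trans ?_ (hmono 0 (Nat.zero_le n))
          exact le_inf hgS Subgroup.le_normalizer
        · show ¬ p ∣ (NS (U R₁ i)).relIndex (Subgroup.normalizer ((U R₁ i : Subgroup G) : Set G))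
          rw [heq i (by omega), ← Cfsg.Lib.Sig.map_conj_normalizer]
          rcases Nat.lt_succ_iff_lt_or_eq.1 hi with hi' | rfl
          · rw [← heq i (by omega), hNeq i hi' (heq i (by omega)),
              Subgroup.relIndex_map_map_of_injective _ _ (MulAut.conj x).injective]
            exact hgood i hi'
          · have hle2 : R'.map (MulAut.conj x).toMonoidHom ≤
                NS ((U R₀ i).map (MulAut.conj x).toMonoidHom) :=
              le_inf hx (by
                rw [← Cfsg.Lib.Sig.map_conj_normalizer]
                exact Subgroup.map_mono hR'le)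
            intro hdvd
            have h1 := hdvd.trans (Subgroup.relIndex_dvd_of_le_left
              ((Subgroup.normalizer ((U R₀ i : Subgroup G) : Set G)).map (MulAut.conj x).toMonoidHom) hle2)
            rw [Subgroup.relIndex_map_map_of_injective _ _ (MulAut.conj x).injective] at h1
            exact hR'idx h1
    obtain ⟨g, hgS, hg⟩ := step (Nat.card ↥S' + 2)
    refine ⟨g, hgS, ?_⟩
    set R₀ := T.map (MulAut.conj g).toMonoidHom
    obtain ⟨i, hi, heq⟩ : ∃ i ≤ Nat.card ↥S', NS (U R₀ i) = NS (U R₀ (i + 1)) := by
      by_contra! hne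
      have hlt : ∀ i, i ≤ Nat.card ↥S' + 1 → i ≤ Nat.card ↥(NS (U R₀ i)) := by
        intro i
        induction i with
        | zero => intro _; exact Nat.zero_le _
        | succ i ihi =>
          intro hi
          by_contra hcon
          exact hne i (by omega) (Subgroup.eq_of_le_of_card_ge (hup R₀ i) (by
            have := ihi (by omega)
            omega))
      have h1 := hlt (Nat.card ↥S' + 1) le_rfl
      have h2 : Nat.card ↥(NS (U R₀ (Nat.card ↥S' + 1))) ≤ Nat.card ↥S' := Subgroup.card_le_of_le inf_le_left
      omega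
    have hconst : ∀ j, U R₀ (i + 1 + j) = U R₀ (i + 1) := by
      intro j
      induction j with
      | zero => rfl
      | succ j ihj =>
        show U R₀ (i + 1 + j + 1) = U R₀ (i + 1)
        rw [hsucc, ihj, ← heq, ← hsucc]
    intro j
    rcases le_or_gt j (i + 1) with hj | hj
    · exact hg j (by omega)
    · obtain ⟨d, rfl⟩ := Nat.exists_eq_add_of_lt hj
      show good R₀ (i + 1 + (d + 1))
      unfold good
      rw [hconst]
      exact hg (i + 1) (by omega)

end Cfsg.Agent.S1963
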