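import Cfsg.Statements.S1961
import Cfsg.Agent.Lib.Sig.ConjFamily
import Cfsg.Agent.S1963

set_option autoImplicit false
open Cfsg

namespace Cfsg.Agent.S1961

/-- Local-to-global control of strong fusion through well-placed subgroups. Let p be a prime, G a finite group with Sylow p-subgroup S, and W a conjugacy functor for p on G. If W controls strong fusion in N_G(T) for every nonidentity subgroup T of S that is well placed in S with respect to W, then W controls strong fusion in G. -/
theorem result {G : Type*} [Group G] [Finite G] {p : ℕ} [Fact p.Prime] (S : Sylow p G) (W : Subgroup G → Subgroup G) (hW : Cfsg.IsConjugacyFunctor p W) (hloc : ∀ T : Subgroup G, T ≠ ⊥ → Cfsg.IsWellPlaced p W (S : Subgroup G) T → Cfsg.ControlsStrongFusionIn p W (Subgroup.normalizer ((T : Subgroup G) : Set G))) : Cfsg.ControlsStrongFusionIn p W ⊤ := by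
    have h : Cfsg.FamilyControlsStrongFusionIn p {W} ⊤ := by
      refine Cfsg.Lib.Sig.strongFusion_local_to_global S {W} (by rintro V rfl; exact hW)
        {U | Cfsg.IsWellPlaced p W (S : Subgroup G) U} (fun U hU => ⟨hU.1, hU.2 0⟩) (fun T hT => ?_)
        fun U hU hne => ?_
      · obtain ⟨g, hg⟩ := Cfsg.Agent.S1963.result S W hW T hT
        exact ⟨_, hg, g, rfl⟩
      · obtain ⟨T, h1, h2, h3, h4⟩ := hloc U hne hU
        refine ⟨T, h1, h2, h3, fun A k hk hA hA' => ?_⟩
        obtain ⟨x, hx, hxA⟩ := h4 A k hk hA hA'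
        refine ⟨1, ![1, x], rfl, fun i => ⟨W, rfl, by fin_cases i; simpa using hx⟩, fun i => ?_,
          fun a ha => hxA a ha⟩
        fin_cases i
        · simpa using hA
        · rintro _ ⟨a, ha, rfl⟩
          show x * a * x⁻¹ ∈ T
          rw [hxA a ha]
          exact hA' ⟨a, ha, rfl⟩
    obtain ⟨T, h1, h2, h3, h4⟩ := h
    refine ⟨T, h1, h2, h3, fun A k hk hA hA' => ?_⟩
    obtain ⟨n, c, h0, hs, -, hl⟩ := h4 A k hk hA hA'
    refine ⟨c (Fin.last n), ?_, hl⟩
    suffices h : ∀ i, c i ∈ (⊤ : Subgroup G) ⊓ Subgroup.normalizer ((W T : Subgroup G) : Set G) from h _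
    intro i
    induction i using Fin.induction with
    | zero => rw [h0]; exact one_mem _
    | succ i ih =>
      obtain ⟨V, rfl, hV⟩ := hs i
      simpa using mul_mem hV ih

end Cfsg.Agent.S1961
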