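import Cfsg.Statements.S1962
import Cfsg.Agent.Lib.Sig.ConjFamily
import Cfsg.Agent.S1963

set_option autoImplicit false
open Cfsg

namespace Cfsg.Agent.S1962

/-- Local-to-global control of transfer through well-placed subgroups. Let p be a prime, G a finite group with Sylow p-subgroup S, and W a conjugacy functor for p on G. If W controls transfer in N_G(T) for every nonidentity subgroup T of S that is well placed in S with respect to W, then W controls transfer in G: S ∩ G' = S ∩ (N_G(W(S)))'. -/
theorem result {G : Type*} [Group G] [Finite G] {p : ℕ} [Fact p.Prime] (S : Sylow p G) (W : Subgroup G → Subgroup G) (hW : Cfsg.IsConjugacyFunctor p W) (hloc : ∀ T : Subgroup G, T ≠ ⊥ → Cfsg.IsWellPlaced p W (S : Subgroup G) T → Cfsg.ControlsTransferIn p W (Subgroup.normalizer ((T : Subgroup G) : Set G))) : Cfsg.ControlsTransferIn p W ⊤ := by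
    have h : Cfsg.FamilyControlsTransferIn p {W} ⊤ := by
      refine Cfsg.Lib.Sig.transfer_local_to_global S {W} (by rintro V rfl; exact hW)
        {U | Cfsg.IsWellPlaced p W (S : Subgroup G) U} (fun U hU => ⟨hU.1, hU.2 0⟩) (fun T hT => ?_)
        fun U hU hne => ?_
      · obtain ⟨g, hg⟩ := Cfsg.Agent.S1963.result S W hW T hT
        exact ⟨_, hg, g, rfl⟩
      · obtain ⟨T, h1, h2, h3, h4⟩ := hloc U hne hU
        refine ⟨T, h1, h2, h3, ?_⟩
        rw [h4]
        simp only [Set.mem_singleton_iff, iSup_iSup_eq_left]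
    obtain ⟨T, h1, h2, h3, h4⟩ := h
    refine ⟨T, h1, h2, h3, ?_⟩
    rw [h4]
    simp only [Set.mem_singleton_iff, iSup_iSup_eq_left]

end Cfsg.Agent.S1962
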