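import Cfsg.Statements.S1966
import Cfsg.Agent.Lib.Sig.Small
import Cfsg.Agent.Lib.Core.Cores

set_option autoImplicit false
open Cfsg

namespace Cfsg.Agent.S1966

/-- Let p be a prime, G a finite group with Sylow p-subgroup S and 𝓕 a conjugation family for S in G. Then the members of 𝓕 containing O_p(G) still form a conjugation family for S in G. -/
theorem result {G : Type*} [Group G] [Finite G] {p : ℕ} [Fact p.Prime] (S : Sylow p G) (𝓕 : Set (Subgroup G)) (h : Cfsg.IsConjugationFamily 𝓕 (S : Subgroup G)) : Cfsg.IsConjugationFamily {T : Subgroup G | T ∈ 𝓕 ∧ Cfsg.pCore p G ≤ T} (S : Subgroup G) := by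
    refine ⟨fun T hT => h.1 T hT.1, ?_⟩
    intro A g hA hAS hgS
    set Q := Cfsg.pCore p G with hQdef
    have hQS : Q ≤ (S : Subgroup G) := by
      exact Cfsg.Lib.Core.pCore_le_sylow S
    have hQconj : ∀ (y : G), ∀ q ∈ Q, y⁻¹ * q * y ∈ Q := fun y q hq => by
      simpa using (inferInstance : (Cfsg.pCore p G).Normal).conj_mem q hq y⁻¹
    obtain ⟨n, T, x, hx1, hx2, hx3, hx4, hx5⟩ := h.2 (A ∪ (Q : Set G)) g (hA.mono Set.subset_union_left)
      (Set.union_subset hAS hQS) (by
        rintro _ ⟨a, ha | ha, rfl⟩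
        · exact hgS ⟨a, ha, rfl⟩
        · exact hQS (hQconj g a ha))
    have hQT : ∀ i, Q ≤ T i := by
      rintro ⟨i, hi⟩ q hq
      cases i with
      | zero => exact hx4 hi (Or.inr hq)
      | succ i =>
        set P := ((List.ofFn x).take (i + 1)).prod with hP
        refine hx5 ⟨i, by omega⟩ hi ⟨P * q * P⁻¹, Or.inr ?_, by simp only [← hP]; group⟩
        simpa using hQconj P⁻¹ q hq
    exact ⟨n, T, x, hx1, fun i => ⟨hx2 i, hQT i⟩, hx3, fun h0 => Set.subset_union_left.trans (hx4 h0),
      fun i hi => (Set.image_mono Set.subset_union_left).trans (hx5 i hi)⟩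

end Cfsg.Agent.S1966
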