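import Cfsg.Statements.S1967
import Cfsg.Agent.Lib.Sig.Small

set_option autoImplicit false
open Cfsg

namespace Cfsg.Agent.S1967

/-- Let p be a prime, G a finite group with Sylow p-subgroup S and W a conjugacy functor for p on G. Then W controls strong fusion in G if and only if, whenever T ≤ S and g ∈ G satisfy gTg⁻¹ ≤ S, one can write g = n c with n ∈ N_G(W(S)) and c ∈ C_G(T). -/
theorem result {G : Type*} [Group G] [Finite G] {p : ℕ} [Fact p.Prime] (S : Sylow p G) (W : Subgroup G → Subgroup G) (hW : Cfsg.IsConjugacyFunctor p W) : Cfsg.ControlsStrongFusionIn p W ⊤ ↔ ∀ (T : Subgroup G) (g : G), T ≤ (S : Subgroup G) → T.map (MulAut.conj g).toMonoidHom ≤ (S : Subgroup G) → ∃ n ∈ Subgroup.normalizer ((W (S : Subgroup G) : Subgroup G) : Set G), ∃ c ∈ Subgroup.centralizer (T : Set G), g = n * c := by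
    set S' : Subgroup G := (S : Subgroup G) with hS'
    constructor
    · rintro ⟨T', -, hp', hidx, hctl⟩ T g hT hgT
      obtain ⟨a, ha⟩ := Cfsg.Lib.Sig.exists_conj_le_sylow S hp'
      rw [Subgroup.relIndex_top_right] at hidx
      have haeq : T'.map (MulAut.conj a).toMonoidHom = S' := by
        refine Subgroup.eq_of_le_of_card_ge ha ?_
        rw [Cfsg.Lib.Sig.card_map_conj]
        exact le_of_eq (((hp'.toSylow hidx).card_eq_multiplicity).trans S.card_eq_multiplicity.symm).symm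
      have hmem : ∀ t ∈ S', a⁻¹ * t * a ∈ T' := fun t ht =>
        Cfsg.Lib.Sig.mem_map_conj_iff.1 (haeq ▸ ht)
      obtain ⟨x, ⟨-, hx⟩, hxA⟩ := hctl ((fun t => a⁻¹ * t * a) '' (T : Set G)) (a⁻¹ * g * a)
        trivial (by rintro _ ⟨t, ht, rfl⟩; exact hmem t (hT ht)) (by
          rintro _ ⟨_, ⟨t, ht, rfl⟩, rfl⟩
          have e : (a⁻¹ * g * a) * (a⁻¹ * t * a) * (a⁻¹ * g * a)⁻¹ = a⁻¹ * (g * t * g⁻¹) * a := by group
          simp only [e]
          exact hmem _ (hgT (Cfsg.Lib.Sig.conj_mem_map_conj ht)))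
      refine ⟨a * x * a⁻¹, ?_, (a * x * a⁻¹)⁻¹ * g, ?_, by group⟩
      · rw [← haeq, (hW T' hp').2.2 a, ← Cfsg.Lib.Sig.map_conj_normalizer]
        exact Cfsg.Lib.Sig.conj_mem_map_conj hx
      · refine Subgroup.mem_centralizer_iff.2 fun t ht => ?_
        have h := hxA _ ⟨t, ht, rfl⟩
        have h2 : (a * x * a⁻¹) * t * (a * x * a⁻¹)⁻¹ = g * t * g⁻¹ := by
          calc (a * x * a⁻¹) * t * (a * x * a⁻¹)⁻¹ = a * (x * (a⁻¹ * t * a) * x⁻¹) * a⁻¹ := by group
            _ = a * ((a⁻¹ * g * a) * (a⁻¹ * t * a) * (a⁻¹ * g * a)⁻¹) * a⁻¹ := by rw [h]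
            _ = g * t * g⁻¹ := by group
        calc t * ((a * x * a⁻¹)⁻¹ * g)
            = (a * x * a⁻¹)⁻¹ * ((a * x * a⁻¹) * t * (a * x * a⁻¹)⁻¹) * g := by group
          _ = (a * x * a⁻¹)⁻¹ * (g * t * g⁻¹) * g := by rw [h2]
          _ = (a * x * a⁻¹)⁻¹ * g * t := by group
    · intro h
      refine ⟨S', le_top, S.2, ?_, ?_⟩
      · rw [Subgroup.relIndex_top_right]; exact S.not_dvd_index
      intro A g _ hA hgA
      obtain ⟨n, hn, c, hc, rfl⟩ := h (Subgroup.closure A) g ((Subgroup.closure_le _).2 hA) (by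
        rw [MonoidHom.map_closure, Subgroup.closure_le]
        rintro _ ⟨y, hy, rfl⟩
        exact hgA ⟨y, hy, by simp⟩)
      refine ⟨n, ⟨trivial, hn⟩, fun a ha => ?_⟩
      have := Subgroup.mem_centralizer_iff.1 hc a (Subgroup.subset_closure ha)
      calc n * a * n⁻¹ = n * (c * a) * (n * c)⁻¹ := by rw [← this]; group
        _ = n * c * a * (n * c)⁻¹ := by group

end Cfsg.Agent.S1967
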