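import Cfsg.Statements.S1968
import Cfsg.Agent.Lib.Sig.ConjFamily
import Cfsg.Agent.S1964
import Mathlib.Data.Set.Finite.Lemmas

set_option autoImplicit false
open Cfsg

namespace Cfsg.Agent.S1968

/-- Let p be a prime, G a finite group with Sylow p-subgroup S and W a conjugacy functor for p on G with Z(P) ≤ W(P) for every p-subgroup P. Let A be a subgroup of Z(S) normalized by N_G(W(S)) that is not weakly closed in S with respect to G. Then there is a subgroup T of S, well placed in S with respect to W, such that: A ≤ T; N_G(W(N_S(T))) normalizes A; N_S(T) is a Sylow p-subgroup of N_G(T); A ≤ Z(N_S(T)); and A is not weakly closed in N_S(T) with respect to N_G(T), that is, some N_G(T)-conjugate of A other than A lies in N_S(T). -/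
theorem result {G : Type*} [Group G] [Finite G] {p : ℕ} [Fact p.Prime] (S : Sylow p G) (W : Subgroup G → Subgroup G) (hW : Cfsg.IsConjugacyFunctor p W) (hWZ : ∀ P : Subgroup G, IsPGroup p ↥P → P ⊓ Subgroup.centralizer (P : Set G) ≤ W P) (A : Subgroup G) (hAZ : A ≤ (S : Subgroup G) ⊓ Subgroup.centralizer ((S : Subgroup G) : Set G)) (hAN : Subgroup.normalizer ((W (S : Subgroup G) : Subgroup G) : Set G) ≤ Subgroup.normalizer ((A : Subgroup G) : Set G)) (hnwc : ¬ Cfsg.IsWeaklyClosed A (S : Subgroup G)) : ∃ T : Subgroup G, Cfsg.IsWellPlaced p W (S : Subgroup G) T ∧ A ≤ T ∧ Subgroup.normalizer ((W ((S : Subgroup G) ⊓ Subgroup.normalizer ((T : Subgroup G) : Set G)) : Subgroup G) : Set G) ≤ Subgroup.normalizer ((A : Subgroup G) : Set G) ∧ ¬ p ∣ ((S : Subgroup G) ⊓ Subgroup.normalizer ((T : Subgroup G) : Set G)).relIndex (Subgroup.normalizer ((T : Subgroup G) : Set G)) ∧ A ≤ Subgroup.centralizer (((S : Subgroup G) ⊓ Subgroup.normalizer ((T : Subgroup G) : Set G) : Subgroup G) : Set G) ∧ ∃ g ∈ Subgroup.normalizer ((T : Subgroup G) : Set G), A.map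 (MulAut.conj g).toMonoidHom ≤ (S : Subgroup G) ⊓ Subgroup.normalizer ((T : Subgroup G) : Set G) ∧ A.map (MulAut.conj g).toMonoidHom ≠ A := by
    set S' : Subgroup G := (S : Subgroup G) with hS'
    let NS : Subgroup G → Subgroup G := fun T => S' ⊓ Subgroup.normalizer (T : Set G)
    let cand : Set (Subgroup G) := {T | Cfsg.IsWellPlaced p W S' T ∧ A ≤ T ∧
      ∃ g ∈ Subgroup.normalizer (T : Set G), A.map (MulAut.conj g).toMonoidHom ≠ A}
    have hAS : A ≤ S' := hAZ.trans inf_le_left
    have hne : cand.Nonempty := by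
      by_contra hcand
      refine hnwc ⟨hAS, fun g hg => ?_⟩
      obtain ⟨n, T, x, hprod, hT, hx, h0, hnext⟩ := (Cfsg.Agent.S1964.result S W hW).2 (A : Set G) g⁻¹
        ⟨1, one_mem A⟩ hAS (by
          rintro _ ⟨a, ha, rfl⟩
          show g⁻¹⁻¹ * a * g⁻¹ ∈ S'
          rw [inv_inv]
          exact hg (Cfsg.Lib.Sig.conj_mem_map_conj ha))
      have key : ∀ i ≤ n, ((List.ofFn x).take i).prod ∈ Subgroup.normalizer (A : Set G) := by
        intro i
        induction i with
        | zero => intro _; simp
        | succ i ih =>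
          intro hi
          have hlt : i < (List.ofFn x).length := by simpa using hi
          rw [List.take_succ_eq_append_getElem hlt, List.prod_append, List.prod_singleton]
          refine mul_mem (ih (by omega)) ?_
          rw [List.getElem_ofFn]
          by_contra hcon
          refine hcand ⟨T ⟨i, by omega⟩, hT _, ?_, x ⟨i, by omega⟩, hx _,
            fun e => hcon (Cfsg.Lib.Sig.mem_normalizer_of_map_conj e)⟩
          intro a ha
          rcases i with _ | k
          · exact h0 (by omega) ha
          · set q := ((List.ofFn x).take (k + 1)).prod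
            exact hnext ⟨k, by omega⟩ hi ⟨q * a * q⁻¹,
              (Subgroup.mem_normalizer_iff.1 (ih (by omega)) a).1 ha, by simp [q, mul_assoc]⟩
      have := key n le_rfl
      rw [List.take_of_length_le (by simp), hprod] at this
      exact Cfsg.Lib.Sig.map_conj_eq_of_mem_normalizer (by simpa using inv_mem this)
    obtain ⟨T, ⟨hT, hAT, g, hg, hgA⟩, hmax⟩ := Set.exists_max_image cand
      (fun T => Nat.card ↥(NS T)) (Set.toFinite _) hne
    have hTN : T ≤ NS T := le_inf hT.1 Subgroup.le_normalizer
    have hAC : A ≤ Subgroup.centralizer ((NS T : Subgroup G) : Set G) :=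
      (hAZ.trans inf_le_right).trans (Subgroup.centralizer_le (inf_le_left : NS T ≤ S'))
    refine ⟨T, hT, hAT, ?_, hT.2 0, hAC, g, hg, ?_, hgA⟩
    · have hP : IsPGroup p ↥(NS T) := S.2.to_le inf_le_left
      by_cases hfull : NS T = S'
      · show Subgroup.normalizer ((W (NS T) : Subgroup G) : Set G) ≤ _
        rw [hfull]
        exact hAN
      · intro y hy
        by_contra hyA
        have hV : W (NS T) ∈ cand := by
          refine ⟨⟨(hW _ hP).1.trans inf_le_left, fun i => ?_⟩,
            (le_inf (hAT.trans hTN) hAC).trans (hWZ _ hP), y, hy,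
            fun e => hyA (Cfsg.Lib.Sig.mem_normalizer_of_map_conj e)⟩
          have key : ∀ j, Cfsg.functorTower W S' (W (NS T)) j = Cfsg.functorTower W S' T (j + 1) := by
            intro j
            induction j with
            | zero => rfl
            | succ j ih => show W _ = W _; rw [ih]
          rw [key]
          exact hT.2 (i + 1)
        have hle : NS (NS T) ≤ NS (W (NS T)) := le_inf inf_le_left fun z hz =>
          Cfsg.Lib.Sig.mem_normalizer_of_map_conj (by
            rw [← (hW _ hP).2.2 z, Cfsg.Lib.Sig.map_conj_eq_of_mem_normalizer hz.2])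
        have h1 : Nat.card ↥(NS T) < Nat.card ↥(NS (NS T)) :=
          Cfsg.Lib.Sig.card_lt_card_inf_normalizer S inf_le_left hfull
        have h2 : Nat.card ↥(NS (W (NS T))) ≤ Nat.card ↥(NS T) := hmax _ hV
        have h3 := Subgroup.card_le_of_le hle
        omega
    · refine le_trans ((Subgroup.map_mono hAT).trans ?_) hTN
      rw [Cfsg.Lib.Sig.map_conj_eq_of_mem_normalizer hg]

end Cfsg.Agent.S1968
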