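import Cfsg.Statements.S1969
import Cfsg.Agent.Lib.Sig.SectionControl

set_option autoImplicit false
universe u
open Cfsg

namespace Cfsg.Agent.S1969

/-- Let p be a prime, G a finite group and W an isomorphism-invariant p-group functor (W assigns to every group Q a subgroup W(Q), nontrivial whenever Q is a nontrivial finite p-group, and every isomorphism from a finite p-group Q onto a group R carries W(Q) onto W(R)). Suppose that W(S*) is normal in G* whenever G* = K/R is a section of G with C_{G*}(O_p(G*)) ≤ O_p(G*) and S* is a Sylow p-subgroup of G*. Then W controls strong fusion in every section of G: for every section K/R and every Sylow p-subgroup T of K/R, the subgroup W(T) controls strong fusion in K/R. -/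
theorem result {G : Type u} [Group G] [Finite G] {p : ℕ} [Fact p.Prime] (W : ∀ (Q : Type u) [Group Q], Subgroup Q) (hW : Cfsg.IsCharPFunctor.{u} p W) (hloc : ∀ (K R : Subgroup G) [hR : (R.subgroupOf K).Normal], Subgroup.centralizer ((Cfsg.pCore p (↥K ⧸ R.subgroupOf K) : Subgroup (↥K ⧸ R.subgroupOf K)) : Set (↥K ⧸ R.subgroupOf K)) ≤ Cfsg.pCore p (↥K ⧸ R.subgroupOf K) → ∀ T : Sylow p (↥K ⧸ R.subgroupOf K), (Cfsg.inducedFunctor (G := (↥K ⧸ R.subgroupOf K)) W ((T : Subgroup (↥K ⧸ R.subgroupOf K)))).Normal) : ∀ (K R : Subgroup G) [hR : (R.subgroupOf K).Normal], ∀ T : Sylow p (↥K ⧸ R.subgroupOf K), Cfsg.ControlsStrongFusion p (Cfsg.inducedFunctor (G := (↥K ⧸ R.subgroupOf K)) W ((T : Subgroup (↥K ⧸ R.subgroupOf K)))) := by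
    have h𝓦 : ∀ V ∈ ({W} : Set (∀ (Q : Type u) [Group Q], Subgroup Q)), Cfsg.IsCharPFunctor.{u} p V := by
      rintro V rfl; exact hW
    have hG : Cfsg.Lib.Sig.SectionHyp p (fun (Y : Type u) [Group Y] =>
        Cfsg.FamilyControlsStrongFusionIn p (Cfsg.Lib.Sig.inducedFamily {W} Y) ⊤) G := by
      refine Cfsg.Lib.Sig.sectionHyp_of_sections ?_ fun K R hR hc => ?_
      · intro Y Z _ _ _ _ e h
        have := Cfsg.Lib.Sig.familyControlsStrongFusionIn_map _ h𝓦 e.toMonoidHom e.injective h
        rwa [MonoidHom.range_eq_top.2 e.surjective] at this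
      obtain ⟨T⟩ : Nonempty (Sylow p (↥K ⧸ R.subgroupOf K)) := inferInstance
      refine ⟨T, le_top, T.2, by simpa using T.not_dvd_index, fun A x _ hA hA' => ?_⟩
      refine ⟨1, ![1, x], rfl, fun i => ⟨_, ⟨W, rfl, rfl⟩, ?_⟩, fun i => ?_, fun z _ => rfl⟩
      · have := hloc K R hc T
        refine Subgroup.mem_inf.2 ⟨Subgroup.mem_top _, ?_⟩
        rw [Subgroup.normalizer_eq_top_iff.2 this]
        exact Subgroup.mem_top _
      · fin_cases i
        · rintro _ ⟨z, hz, rfl⟩
          show 1 * z * 1⁻¹ ∈ (T : Subgroup _)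
          rw [one_mul, inv_one, mul_one]; exact hA hz
        · rintro _ ⟨z, hz, rfl⟩
          exact hA' ⟨z, hz, rfl⟩
    intro K R hR T
    set Y := ↥K ⧸ R.subgroupOf K
    have hY := Cfsg.Lib.Sig.strongFusion_of_sections {W} h𝓦 (Nat.card Y) Y le_rfl
      ((hG.subgroup K).quotient (R.subgroupOf K))
    refine ⟨T, Subgroup.map_subtype_le _, fun A hA => ⟨hA, fun g hg => ?_⟩⟩
    obtain ⟨n, c, h0, hs, -, hl⟩ := Cfsg.Lib.Sig.familyControlsStrongFusionIn_at
      (Cfsg.Lib.Sig.isConjugacyFunctor_inducedFamily {W} h𝓦 Y) hY le_top T.2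
      (by simpa using T.not_dvd_index) A g (Subgroup.mem_top g) hA hg
    refine ⟨c (Fin.last n), ?_, fun a ha => (hl a ha).symm⟩
    suffices h : ∀ i, c i ∈ Subgroup.normalizer
        ((Cfsg.inducedFunctor (G := Y) W (T : Subgroup Y) : Subgroup Y) : Set Y) from h _
    intro i
    induction i using Fin.induction with
    | zero => rw [h0]; exact one_mem _
    | succ i ih =>
      obtain ⟨_, ⟨V, rfl, rfl⟩, hV⟩ := hs i
      simpa using mul_mem (Subgroup.mem_inf.1 hV).2 ih

end Cfsg.Agent.S1969
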