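import Cfsg.Statements.S1970
import Cfsg.Agent.Lib.Sig.TransferApps

set_option autoImplicit false
universe u
open Cfsg

namespace Cfsg.Agent.S1970

/-- Let p be a prime, G a finite group and W an isomorphism-invariant p-group functor (W assigns to every group Q a subgroup W(Q), nontrivial whenever Q is a nontrivial finite p-group, and every isomorphism from a finite p-group Q onto a group R carries W(Q) onto W(R)). Suppose that for every section G* = K/R of G with C_{G*}(O_p(G*)) ≤ O_p(G*) and every Sylow p-subgroup S* of G*, one has O_p(G*) ∩ (G*)' = O_p(G*) ∩ (N_{G*}(W(S*)))'. Then W controls transfer in every section G* of G: S* ∩ (G*)' = S* ∩ (N_{G*}(W(S*)))' for a Sylow p-subgroup S* of G*. -/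
theorem result {G : Type u} [Group G] [Finite G] {p : ℕ} [Fact p.Prime] (W : ∀ (Q : Type u) [Group Q], Subgroup Q) (hW : Cfsg.IsCharPFunctor.{u} p W) (hloc : ∀ (K R : Subgroup G) [hR : (R.subgroupOf K).Normal], Subgroup.centralizer ((Cfsg.pCore p (↥K ⧸ R.subgroupOf K) : Subgroup (↥K ⧸ R.subgroupOf K)) : Set (↥K ⧸ R.subgroupOf K)) ≤ Cfsg.pCore p (↥K ⧸ R.subgroupOf K) → ∀ T : Sylow p (↥K ⧸ R.subgroupOf K), Cfsg.pCore p (↥K ⧸ R.subgroupOf K) ⊓ commutator (↥K ⧸ R.subgroupOf K) = Cfsg.pCore p (↥K ⧸ R.subgroupOf K) ⊓ ⁅Subgroup.normalizer ((Cfsg.inducedFunctor (G := (↥K ⧸ R.subgroupOf K)) W ((T : Subgroup (↥K ⧸ R.subgroupOf K))) : Subgroup (↥K ⧸ R.subgroupOf K)) : Set (↥K ⧸ R.subgroupOf K)), Subgroup.normalizer ((Cfsg.inducedFunctor (G := (↥K ⧸ R.subgroupOf K)) W ((T : Subgroup (↥K ⧸ R.subgroupOf K))) : Subgroup (↥K ⧸ R.subgroupOf K)) : Set (↥K ⧸ R.subgroupOf K))⁆) : ∀ (K R : Subgroup G) [hR : (R.subgroupOf K).Normal], Cfsg.ControlsTransferIn p (Cfsg.inducedFunctor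 (G := (↥K ⧸ R.subgroupOf K)) W) ⊤ := by
  intro K R _
  have hG : Cfsg.Lib.Sig.SectionHyp p (fun (Y : Type u) [Group Y] => ∀ T : Sylow p Y,
      Cfsg.pCore p Y ⊓ commutator Y = Cfsg.pCore p Y ⊓
        ⁅Subgroup.normalizer ((Cfsg.inducedFunctor (G := Y) W (T : Subgroup Y) : Subgroup Y) : Set Y),
          Subgroup.normalizer ((Cfsg.inducedFunctor (G := Y) W (T : Subgroup Y) : Subgroup Y) : Set Y)⁆) G := by
    refine Cfsg.Lib.Sig.sectionHyp_of_sections ?_ fun K R _ hc => hloc K R hc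
    intro Y Z _ _ _ _ e h T
    let T' : Sylow p Y := T.mapSurjective (f := e.symm.toMonoidHom) e.symm.surjective
    have hT : (T' : Subgroup Y).map e.toMonoidHom = (T : Subgroup Z) := by
      show ((T : Subgroup Z).map e.symm.toMonoidHom).map e.toMonoidHom = _
      rw [Subgroup.map_map, show e.toMonoidHom.comp e.symm.toMonoidHom =
        MonoidHom.id Z from MonoidHom.ext e.apply_symm_apply, Subgroup.map_id]
    have h1 := congrArg (Subgroup.map e.toMonoidHom) (h T')
    rw [Subgroup.map_inf _ _ _ e.injective, Subgroup.map_inf _ _ _ e.injective,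
      Cfsg.Lib.Core.map_pCore_equiv, _root_.commutator_def, Subgroup.map_commutator,
      Subgroup.map_commutator, Subgroup.map_top_of_surjective _ e.surjective,
      Subgroup.map_equiv_normalizer_eq, ← Cfsg.Lib.Sig.inducedFunctor_map hW e.toMonoidHom T'.2
        (by rw [(MonoidHom.ker_eq_bot_iff e.toMonoidHom).2 e.injective, inf_bot_eq]), hT,
      ← _root_.commutator_def] at h1
    exact h1
  refine (Cfsg.Lib.Sig.controlsTransferIn_of_step (X := ↥K ⧸ R.subgroupOf K) hW
    fun Y _ _ L f hf hc T _ => ?_).1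
  rw [Cfsg.Lib.Sig.transferSpan_singleton, ((hG.subgroup K).quotient (R.subgroupOf K)) Y L f hf hc T]
  exact inf_le_inf_right _ (Cfsg.Lib.Core.pCore_le_sylow T)

end Cfsg.Agent.S1970
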