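import Cfsg.Statements.S1971
import Cfsg.Agent.Lib.Sig.SectionControl
import Cfsg.Agent.Lib.Char.PDegree
import Cfsg.Agent.Lib.Fusion.Basic

set_option autoImplicit false
universe u
open Cfsg

namespace Cfsg.Agent.S1971

/-- Let p be a prime, G a finite group with nontrivial Sylow p-subgroup S, and W an isomorphism-invariant p-group functor (W assigns to every group Q a subgroup W(Q), nontrivial whenever Q is a nontrivial finite p-group, and every isomorphism from a finite p-group Q onto a group R carries W(Q) onto W(R)) that controls transfer in every section of G. If N_G(S)/C_G(S) is a p-group (every element of N_G(S) of order prime to p centralizes S), then G has a normal subgroup of index p. -/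
theorem result {G : Type u} [Group G] [Finite G] {p : ℕ} [Fact p.Prime] (W : ∀ (Q : Type u) [Group Q], Subgroup Q) (hW : Cfsg.IsCharPFunctor.{u} p W) (hctl : ∀ (K R : Subgroup G) [hR : (R.subgroupOf K).Normal], Cfsg.ControlsTransferIn p (Cfsg.inducedFunctor (G := (↥K ⧸ R.subgroupOf K)) W) ⊤) (S : Sylow p G) (hS : (S : Subgroup G) ≠ ⊥) (hN : ∀ g ∈ Subgroup.normalizer (((S : Subgroup G) : Subgroup G) : Set G), (orderOf g).Coprime p → g ∈ Subgroup.centralizer ((S : Subgroup G) : Set G)) : ∃ N : Subgroup G, N.Normal ∧ N.index = p := by
    have h𝓦 : ∀ V ∈ ({W} : Set (∀ (Q : Type u) [Group Q], Subgroup Q)), Cfsg.IsCharPFunctor.{u} p V := by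
      rintro V rfl; exact hW
    have hall : ∀ (Y : Type u) [Group Y] [Finite Y] (L : Subgroup G) (f : ↥L →* Y), Function.Surjective f →
        Cfsg.FamilyControlsTransferIn p (Cfsg.Lib.Sig.inducedFamily {W} Y) ⊤ := by
      intro Y _ _ L f hf
      set R := f.ker.map L.subtype with hR
      have hRL : R.subgroupOf L = f.ker := Subgroup.comap_map_eq_self_of_injective L.subtype_injective _
      haveI : (R.subgroupOf L).Normal := hRL ▸ inferInstance
      let e : (↥L ⧸ R.subgroupOf L) ≃* Y :=
        (QuotientGroup.quotientMulEquivOfEq hRL).trans (QuotientGroup.quotientKerEquivOfSurjective f hf)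
      have h : Cfsg.FamilyControlsTransferIn p (Cfsg.Lib.Sig.inducedFamily {W} (↥L ⧸ R.subgroupOf L)) ⊤ := by
        obtain ⟨T, h1, h2, h3, h4⟩ := hctl L R
        refine ⟨T, h1, h2, h3, ?_⟩
        rw [h4]
        simp [Cfsg.Lib.Sig.inducedFamily]
      have := Cfsg.Lib.Sig.familyControlsTransferIn_map _ h𝓦 e.toMonoidHom e.injective h
      rwa [MonoidHom.range_eq_top.2 e.surjective] at this
    suffices key : ∀ (n : ℕ) (X : Type u) [Group X] [Finite X], Nat.card X ≤ n →
        (∀ (Y : Type u) [Group Y] [Finite Y] (L : Subgroup X) (f : ↥L →* Y), Function.Surjective f →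
          Cfsg.FamilyControlsTransferIn p (Cfsg.Lib.Sig.inducedFamily {W} Y) ⊤) →
        ∀ S : Sylow p X, (S : Subgroup X) ≠ ⊥ →
          (∀ g ∈ Subgroup.normalizer ((S : Subgroup X) : Set X), (orderOf g).Coprime p →
            g ∈ Subgroup.centralizer ((S : Subgroup X) : Set X)) →
          ¬ (S : Subgroup X) ≤ commutator X by
      refine Cfsg.Lib.Char.exists_index_prime_of_dvd_abelianization ?_
      have h0 := key (Nat.card G) G le_rfl hall S hS hN
      have h1 : (commutator G).relIndex (S : Subgroup G) ≠ 1 := fun e => h0 (Subgroup.relIndex_eq_one.1 e)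
      obtain ⟨k, hk⟩ := IsPGroup.iff_card.mp S.2
      have h2 : (commutator G).relIndex (S : Subgroup G) ∣ p ^ k := hk ▸ Subgroup.index_dvd_card _
      obtain ⟨j, -, hj⟩ := (Nat.dvd_prime_pow Fact.out).1 h2
      have h3 := Subgroup.relIndex_dvd_index_of_normal (commutator G) (S : Subgroup G)
      rw [hj] at h3 h1
      exact (dvd_pow_self p (by rintro rfl; exact h1 (pow_zero p))).trans h3
    intro n
    induction n with
    | zero => intro X _ _ h; have : 0 < Nat.card X := Nat.card_pos; omega
    | succ n ih =>
      intro X _ _ hn hX S hS hN hle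
      set V := Cfsg.inducedFunctor (G := X) W (S : Subgroup X) with hV
      have hWc := Cfsg.Lib.Sig.isConjugacyFunctor_inducedFamily {W} h𝓦 X _ ⟨W, rfl, rfl⟩ _ S.2
      have hc := Cfsg.Lib.Sig.familyControlsTransferIn_at
        (Cfsg.Lib.Sig.isConjugacyFunctor_inducedFamily {W} h𝓦 X)
        (hX X ⊤ Subgroup.topEquiv.toMonoidHom (MulEquiv.surjective _)) le_top S.2
        (by simpa using S.not_dvd_index)
      rw [← _root_.commutator_def, inf_eq_left.2 hle] at hc
      simp only [Cfsg.Lib.Sig.inducedFamily, Set.image_singleton, Set.mem_singleton_iff,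
        iSup_iSup_eq_left, top_inf_eq] at hc
      by_cases hVn : Subgroup.normalizer ((V : Subgroup X) : Set X) = ⊤
      swap
      · set L := Subgroup.normalizer ((V : Subgroup X) : Set X) with hL
        have hSL : (S : Subgroup X) ≤ L := fun z hz => Cfsg.Lib.Sig.mem_normalizer_of_map_conj (by
          rw [hV, ← hWc.2.2 z, Cfsg.Lib.Sig.map_conj_eq_of_mem_normalizer (Subgroup.le_normalizer hz)])
        have hlt : Nat.card ↥L < Nat.card ↥(⊤ : Subgroup X) :=
          Cfsg.Lib.Fusion.card_lt_card_of_lt (lt_top_iff_ne_top.2 hVn)
        rw [Subgroup.card_top] at hlt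
        refine ih ↥L (by omega) (fun Y _ _ M f hf => hX Y (M.map L.subtype)
            (f.comp (M.equivMapOfInjective L.subtype L.subtype_injective).symm.toMonoidHom)
            (hf.comp (MulEquiv.surjective _))) (S.subtype hSL) ?_ ?_ ?_
        · intro e
          apply hS
          rw [← (by rw [Sylow.coe_subtype, Subgroup.map_subgroupOf_eq_of_le hSL] :
            (S.subtype hSL : Subgroup ↥L).map L.subtype = (S : Subgroup X)), e, Subgroup.map_bot]
        · intro g hg hgo
          refine Subgroup.mem_centralizer_iff.2 fun z hz => Subtype.ext ?_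
          have hg' : (g : X) ∈ Subgroup.normalizer ((S : Subgroup X) : Set X) := by
            rw [← (by rw [Sylow.coe_subtype, Subgroup.map_subgroupOf_eq_of_le hSL] :
            (S.subtype hSL : Subgroup ↥L).map L.subtype = (S : Subgroup X))]
            exact Subgroup.le_normalizer_map L.subtype (Subgroup.mem_map_of_mem _ hg)
          rw [Sylow.coe_subtype, SetLike.mem_coe, Subgroup.mem_subgroupOf] at hz
          exact Subgroup.mem_centralizer_iff.1 (hN g hg' (by rwa [Subgroup.orderOf_coe])) z hz
        · intro z hz
          rw [Sylow.coe_subtype, Subgroup.mem_subgroupOf] at hz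
          have h1 : (z : X) ∈ ⁅L, L⁆ := (hc.le hz).2
          have h2 : ⁅L, L⁆ = (commutator ↥L).map L.subtype := by
            rw [_root_.commutator_def, Subgroup.map_commutator, ← MonoidHom.range_eq_map,
              Subgroup.range_subtype]
          rw [h2] at h1
          exact (Subgroup.mem_map_iff_mem L.subtype_injective).1 h1
      · haveI hVnormal : V.Normal := Subgroup.normalizer_eq_top_iff.1 hVn
        set f := QuotientGroup.mk' V with hf
        have hVS : V ≤ (S : Subgroup X) := hWc.1
        by_cases hS₁ : (S : Subgroup X).map f = ⊥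
        · rw [Subgroup.map_eq_bot_iff, hf, QuotientGroup.ker_mk'] at hS₁
          have hSeq : (S : Subgroup X) = V := le_antisymm hS₁ hVS
          haveI : (S : Subgroup X).Normal := hSeq ▸ hVnormal
          have hcop : (Nat.card ↥(S : Subgroup X)).Coprime (S : Subgroup X).index := by
            obtain ⟨k, hk⟩ := IsPGroup.iff_card.mp S.2
            rw [hk]
            exact ((Fact.out : p.Prime).coprime_iff_not_dvd.2 S.not_dvd_index).pow_left k
          obtain ⟨H, hH⟩ := Subgroup.exists_right_complement'_of_coprime hcop
          have hHc : H ≤ Subgroup.centralizer ((S : Subgroup X) : Set X) := fun h hh => by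
            refine hN h ?_ ?_
            · rw [Subgroup.normalizer_eq_top_iff.2 inferInstance]; exact Subgroup.mem_top h
            · refine Nat.Coprime.coprime_dvd_left (?_ : orderOf h ∣ (S : Subgroup X).index) ?_
              · rw [hH.symm.index_eq_card, ← Subgroup.orderOf_mk h hh]
                exact orderOf_dvd_natCard _
              · exact Nat.Coprime.symm ((Fact.out : p.Prime).coprime_iff_not_dvd.2 S.not_dvd_index)
          haveI : H.Normal := by
            refine Subgroup.normalizer_eq_top_iff.1 (eq_top_iff.2 ?_)
            rw [← hH.sup_eq_top]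
            refine sup_le ((Subgroup.le_centralizer_iff.1 hHc).trans ?_) Subgroup.le_normalizer
            exact Subgroup.centralizer_le_normalizer _
          set φ := QuotientGroup.mk' H with hφ
          have htop : (S : Subgroup X).map φ = ⊤ := by
            have := congrArg (Subgroup.map φ) hH.sup_eq_top
            rwa [Subgroup.map_sup, QuotientGroup.map_mk'_self, sup_bot_eq,
              Subgroup.map_top_of_surjective _ (QuotientGroup.mk'_surjective H)] at this
          have hp : IsPGroup p (X ⧸ H) :=
            (htop ▸ S.2.map φ : IsPGroup p ↥(⊤ : Subgroup (X ⧸ H))).of_equiv Subgroup.topEquiv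
          haveI : Nontrivial (X ⧸ H) := by
            refine QuotientGroup.nontrivial_iff.2 fun e => hS ?_
            rw [e, Subgroup.isComplement'_top_right] at hH
            exact hH
          haveI := hp.isNilpotent
          haveI : Group.IsSolvable (X ⧸ H) := inferInstance
          refine (Group.IsSolvable.commutator_lt_top_of_nontrivial (X ⧸ H)).not_ge ?_
          rw [← htop, _root_.commutator_def (X ⧸ H), ← Subgroup.map_top_of_surjective φ
            (QuotientGroup.mk'_surjective H), ← Subgroup.map_commutator, ← _root_.commutator_def]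
          exact Subgroup.map_mono hle
        · have hlt : Nat.card (X ⧸ V) < Nat.card X := by
            rw [Subgroup.card_eq_card_quotient_mul_card_subgroup V]
            exact lt_mul_of_one_lt_right Nat.card_pos
              ((Subgroup.one_lt_card_iff_ne_bot V).2 (hWc.2.1 hS))
          let S₁ : Sylow p (X ⧸ V) := S.mapSurjective (f := f) (QuotientGroup.mk'_surjective V)
          have hcomap : ((S : Subgroup X).map f).comap f = (S : Subgroup X) := by
            rw [Subgroup.comap_map_eq, hf, QuotientGroup.ker_mk', sup_eq_left.2 hVS]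
          refine ih (X ⧸ V) (by omega) (fun Y _ _ M g hg => ?_) S₁ hS₁ ?_ ?_
          · let r : ↥(M.comap f) →* ↥M := (f.comp (M.comap f).subtype).codRestrict M fun x => x.2
            refine hX Y _ (g.comp r) (hg.comp ?_)
            rintro ⟨y, hy⟩
            obtain ⟨x, rfl⟩ := QuotientGroup.mk'_surjective V y
            exact ⟨⟨x, hy⟩, rfl⟩
          · intro y hy hyo
            obtain ⟨z, rfl⟩ := QuotientGroup.mk'_surjective V y
            obtain ⟨a, r, hr, he⟩ :=
              Nat.exists_eq_pow_mul_and_not_dvd (orderOf_pos z).ne' p (Fact.out : p.Prime).ne_one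
            obtain ⟨j, hj⟩ := exists_pow_eq_self_of_coprime (hyo.symm.pow_left a) (x := f z)
            have hzN : z ∈ Subgroup.normalizer ((S : Subgroup X) : Set X) := by
              rw [← hcomap, ← Subgroup.comap_normalizer_eq_of_surjective _ (QuotientGroup.mk'_surjective V)]
              exact hy
            have hw : (z ^ p ^ a) ^ j ∈ Subgroup.centralizer ((S : Subgroup X) : Set X) := by
              refine hN _ (pow_mem (pow_mem hzN _) _) ?_
              refine Nat.Coprime.coprime_dvd_left ((orderOf_pow_dvd _).trans ?_)
                (Nat.Coprime.symm ((Fact.out : p.Prime).coprime_iff_not_dvd.2 hr))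
              refine orderOf_dvd_of_pow_eq_one ?_
              rw [← pow_mul, ← he, pow_orderOf_eq_one]
            have hfw : f ((z ^ p ^ a) ^ j) = f z := by rw [map_pow, map_pow, hj]
            rw [← hfw]
            refine Subgroup.mem_centralizer_iff.2 ?_
            rintro _ ⟨s, hs, rfl⟩
            rw [← map_mul, Subgroup.mem_centralizer_iff.1 hw s hs, map_mul]
          · refine (Subgroup.map_mono hle).trans (le_of_eq ?_)
            rw [_root_.commutator_def, Subgroup.map_commutator,
              Subgroup.map_top_of_surjective _ (QuotientGroup.mk'_surjective V), ← _root_.commutator_def]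

end Cfsg.Agent.S1971
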