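import Cfsg.Statements.S1972
import Cfsg.Agent.Lib.Sig.TransferApps

set_option autoImplicit false
universe u
open Cfsg

namespace Cfsg.Agent.S1972

/-- Let p be a prime, G a finite group and W an isomorphism-invariant p-group functor (W assigns to every group Q a subgroup W(Q), nontrivial whenever Q is a nontrivial finite p-group, and every isomorphism from a finite p-group Q onto a group R carries W(Q) onto W(R)). Suppose that whenever G* = K/R is a section of G with C_{G*}(O_p(G*)) ≤ O_p(G*) and S* is a Sylow p-subgroup of G* with W(S*) not normal in G*, there is an element g of S* outside O_p(G*) such that [X, g, …, g] ≤ Y with p − 1 entries g, for every chief factor X/Y of G* with X ≤ O_p(G*). Then W controls transfer in every section of G. -/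
theorem result {G : Type u} [Group G] [Finite G] {p : ℕ} [Fact p.Prime] (W : ∀ (Q : Type u) [Group Q], Subgroup Q) (hW : Cfsg.IsCharPFunctor.{u} p W) (hloc : ∀ (K R : Subgroup G) [hR : (R.subgroupOf K).Normal], Subgroup.centralizer ((Cfsg.pCore p (↥K ⧸ R.subgroupOf K) : Subgroup (↥K ⧸ R.subgroupOf K)) : Set (↥K ⧸ R.subgroupOf K)) ≤ Cfsg.pCore p (↥K ⧸ R.subgroupOf K) → ∀ T : Sylow p (↥K ⧸ R.subgroupOf K), ¬ (Cfsg.inducedFunctor (G := (↥K ⧸ R.subgroupOf K)) W ((T : Subgroup (↥K ⧸ R.subgroupOf K)))).Normal → ∃ g : (↥K ⧸ R.subgroupOf K), g ∈ (T : Subgroup (↥K ⧸ R.subgroupOf K)) ∧ g ∉ Cfsg.pCore p (↥K ⧸ R.subgroupOf K) ∧ ∀ U V : Subgroup (↥K ⧸ R.subgroupOf K), Cfsg.IsChiefFactor U V → U ≤ Cfsg.pCore p (↥K ⧸ R.subgroupOf K) → Cfsg.iterCommutator U (Subgroup.zpowers g) (p - 1) ≤ V) : ∀ (K R : Subgroup G) [hR : (R.subgroupOf K).Normal], Cfsg.ControlsTransferIn p (Cfsg.inducedFunctor (G := (↥K ⧸ R.subgroupOf K)) W) ⊤ := by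
  intro K R _
  have hG : Cfsg.Lib.Sig.SectionHyp p (fun (Y : Type u) [Group Y] => ∀ T : Sylow p Y,
      ¬ (Cfsg.inducedFunctor (G := Y) W (T : Subgroup Y)).Normal →
      ∃ g : Y, g ∈ (T : Subgroup Y) ∧ g ∉ Cfsg.pCore p Y ∧ ∀ U V : Subgroup Y,
        Cfsg.IsChiefFactor U V → U ≤ Cfsg.pCore p Y →
          Cfsg.iterCommutator U (Subgroup.zpowers g) (p - 1) ≤ V) G := by
    refine Cfsg.Lib.Sig.sectionHyp_of_sections ?_ fun K R _ hc => hloc K R hc
    intro Y Z _ _ _ _ e h T hT
    obtain ⟨g, hg, hgQ, hdeg⟩ := h (T.mapSurjective (f := e.symm.toMonoidHom) e.symm.surjective)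
      fun hn => hT (Cfsg.Lib.Sig.normal_inducedFunctor_congr hW e T hn)
    have hQ : (Cfsg.pCore p Y).map e.toMonoidHom = Cfsg.pCore p Z := Cfsg.Lib.Core.map_pCore_equiv e
    refine ⟨e g, ?_, ?_, fun U V hUV hU => ?_⟩
    · change g ∈ (T : Subgroup Z).map e.symm.toMonoidHom at hg
      obtain ⟨z, hz', rfl⟩ := hg
      show e (e.symm z) ∈ (T : Subgroup Z)
      rw [e.apply_symm_apply]; exact hz'
    · rw [← hQ]
      exact fun hh => hgQ ((Subgroup.mem_map_iff_mem (f := e.toMonoidHom) e.injective).1 hh)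
    · have hback : ∀ A : Subgroup Z, (A.map e.symm.toMonoidHom).map e.toMonoidHom = A := fun A => by
        rw [Subgroup.map_map, show e.toMonoidHom.comp e.symm.toMonoidHom = MonoidHom.id Z from
          MonoidHom.ext e.apply_symm_apply, Subgroup.map_id]
      have h1 := Subgroup.map_mono (f := e.toMonoidHom)
        (hdeg _ _ (Cfsg.Lib.Sig.isChiefFactor_map_equiv e.symm hUV) (by
          rw [← Cfsg.Lib.Core.map_pCore_equiv e.symm]; exact Subgroup.map_mono hU))
      rw [Cfsg.Lib.Sig.map_iterCommutator, hback, hback, MonoidHom.map_zpowers] at h1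
      exact h1
  exact (Cfsg.Lib.Sig.controlsTransferIn_of_step (X := ↥K ⧸ R.subgroupOf K) hW fun Y _ _ L f hf hc =>
    Cfsg.Lib.Sig.transferStep_of_small_degree hW
      (((hG.subgroup K).quotient (R.subgroupOf K)) Y L f hf hc)).1

end Cfsg.Agent.S1972
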