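import Cfsg.Statements.S1979
import Cfsg.Agent.Lib.Sig.KInf

set_option autoImplicit false
open Cfsg

namespace Cfsg.Agent.S1979

/-- Let P be a finite p-group and Q a subgroup of P containing every term of the K-sequence of P of nonnegative index (every even-indexed term and every odd-indexed term after the initial term P). Then the K-infinity subgroups of Q, computed in Q and viewed in P, equal those of P. -/
theorem result {P : Type*} [Group P] [Finite P] {p : ℕ} [Fact p.Prime] (hP : IsPGroup p P) (Q : Subgroup P) (hQ : ∀ n : ℕ, Cfsg.kSeqEven P n ≤ Q ∧ Cfsg.kSeqOdd P (n + 1) ≤ Q) : (Cfsg.kInfLower ↥Q).map Q.subtype = Cfsg.kInfLower P ∧ (Cfsg.kInfUpper ↥Q).map Q.subtype = Cfsg.kInfUpper P := by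
    have h := Cfsg.Lib.Sig.kSeq_interleave hQ
    constructor
    · refine le_antisymm ?_ (iSup_le fun n => (h n).2.2.1.trans (Subgroup.map_mono (le_iSup (Cfsg.kSeqEven ↥Q) n)))
      rw [Cfsg.kInfLower, Subgroup.map_iSup]
      exact iSup_le fun n => (h n).2.2.2.trans (le_iSup (Cfsg.kSeqEven P) (n + 1))
    · rw [Cfsg.kInfUpper, Subgroup.map_iInf _ Q.subtype_injective]
      exact le_antisymm (le_iInf fun n => (iInf_le _ n).trans (h n).2.1)
        (le_iInf fun n => (iInf_le (Cfsg.kSeqOdd P) (n + 1)).trans (h n).1)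

end Cfsg.Agent.S1979
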