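import Cfsg.Statements.S1981
import Cfsg.Agent.Lib.Sig.KInf

set_option autoImplicit false
open Cfsg

namespace Cfsg.Agent.S1981

/-- Let P be a finite p-group generated by its abelian normal subgroups. Then both K-infinity subgroups of P equal P. -/
theorem result {P : Type*} [Group P] [Finite P] {p : ℕ} [Fact p.Prime] (hP : IsPGroup p P) (hgen : ⨆ A ∈ {A : Subgroup P | A.Normal ∧ IsMulCommutative ↥A}, A = ⊤) : Cfsg.kInfLower P = ⊤ ∧ Cfsg.kInfUpper P = ⊤ := by
    have hE : ∀ n, Cfsg.kSeqEven P n = ⊤ := fun n => by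
      refine top_le_iff.1 (hgen.symm.le.trans (iSup₂_le fun A hA => le_sSup ?_))
      have := hA.1
      exact (Cfsg.Lib.Sig.abelian_normal_mem_kFamilies A hA.2 _).2.1
    have hO : ∀ n, Cfsg.kSeqOdd P n = ⊤ := fun n => by
      cases n with
      | zero => rfl
      | succ n =>
        refine top_le_iff.1 (hgen.symm.le.trans (iSup₂_le fun A hA => le_sSup ?_))
        have := hA.1
        exact (Cfsg.Lib.Sig.abelian_normal_mem_kFamilies A hA.2 _).2.2
    exact ⟨by simp [Cfsg.kInfLower, hE], by simp [Cfsg.kInfUpper, hO]⟩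

end Cfsg.Agent.S1981
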