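import Cfsg.Statements.S1985
import Cfsg.Agent.Lib.Sig.KInfApps
import Cfsg.Agent.S1973

set_option autoImplicit false
universe u
open Cfsg

namespace Cfsg.Agent.S1985

/-- Let p be an odd prime and G a finite group. Then the lower K-infinity subgroup controls weak closure of elements in G: the lower K-infinity subgroup of every p-subgroup P of G contains Z(P), and for some (equivalently, every) Sylow p-subgroup S of G, with K the lower K-infinity subgroup of S, every element of S commuting with all of N_G(K) is weakly closed in S with respect to G (every G-conjugate of it lying in S equals it). -/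
theorem result {G : Type u} [Group G] [Finite G] {p : ℕ} [Fact p.Prime] (hp : p ≠ 2) : Cfsg.ControlsWeakClosureOfElementsIn p (Cfsg.inducedFunctor (G := G) Cfsg.kInfLower) ⊤ := by
  refine Cfsg.Agent.S1973.result (Cfsg.inducedFunctor (G := G) Cfsg.kInfLower)
    (Cfsg.Lib.Sig.isConjugacyFunctor_inducedFunctor (Cfsg.Lib.Sig.isCharPFunctor_kInfLower p))
    (fun P _ => Cfsg.Lib.Sig.center_le_inducedFunctor (fun Q _ => (Cfsg.Lib.Sig.center_le_kInf Q).1) P)
    (fun H T hTH hT hidx hn => ?_) ⊤
  obtain ⟨g, hgT, hgQ, hquad⟩ := Cfsg.Lib.Sig.exists_quadratic_of_not_le_normalizer H T hTH hT hidx hn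
  refine ⟨g, hgT, hgQ, fun U V hUV hU => ?_⟩
  have h2 : Cfsg.iterCommutator (U.map H.subtype) (Subgroup.zpowers g) 2 = ⊥ := le_bot_iff.1
    ((Subgroup.commutator_mono (Subgroup.commutator_mono hU le_rfl) le_rfl).trans hquad.le)
  obtain ⟨k, hk⟩ := Nat.exists_eq_add_of_le (show 2 ≤ p - 1 by have := (Fact.out : p.Prime).two_le; omega)
  rw [hk]
  refine le_trans ?_ (bot_le (a := V.map H.subtype))
  clear hk
  induction k with
  | zero => exact h2.le
  | succ k ih =>
    show ⁅Cfsg.iterCommutator (U.map H.subtype) (Subgroup.zpowers g) (2 + k), _⁆ ≤ ⊥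
    rw [le_bot_iff.1 ih, Subgroup.commutator_bot_left]

end Cfsg.Agent.S1985
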