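import Cfsg.Statements.S2006
import Cfsg.Agent.Lib.Sig.SmallDegreeGroup

set_option autoImplicit false
universe u
open Cfsg

namespace Cfsg.Agent.S2006

/-- Let p be a prime, G a finite group with Sylow p-subgroup S, and W an isomorphism-invariant p-group functor (W assigns to every group Q a subgroup W(Q), nontrivial whenever Q is a nontrivial finite p-group, and every isomorphism from a finite p-group Q onto a group R carries W(Q) onto W(R)). Suppose N_G(W(S)) has a normal p-complement, and that whenever G* = K/R is a section of G with C_{G*}(O_p(G*)) ≤ O_p(G*) and S* is a Sylow p-subgroup of G* with W(S*) not normal in G*, there are an element g of S* outside O_p(G*) and a chief factor X/Y of G* with X ≤ O_p(G*) such that [X, g, …, g] ≤ Y with p − 1 entries g but [X, g] ≰ Y. Then G has a normal p-complement. -/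
theorem result {G : Type u} [Group G] [Finite G] {p : ℕ} [Fact p.Prime] (W : ∀ (Q : Type u) [Group Q], Subgroup Q) (hW : Cfsg.IsCharPFunctor.{u} p W) (S : Sylow p G) (hN : Cfsg.HasNormalPComplement p ↥(Subgroup.normalizer ((Cfsg.inducedFunctor (G := G) W (S : Subgroup G) : Subgroup G) : Set G))) (hloc : ∀ (K R : Subgroup G) [hR : (R.subgroupOf K).Normal], Subgroup.centralizer ((Cfsg.pCore p (↥K ⧸ R.subgroupOf K) : Subgroup (↥K ⧸ R.subgroupOf K)) : Set (↥K ⧸ R.subgroupOf K)) ≤ Cfsg.pCore p (↥K ⧸ R.subgroupOf K) → ∀ T : Sylow p (↥K ⧸ R.subgroupOf K), ¬ (Cfsg.inducedFunctor (G := (↥K ⧸ R.subgroupOf K)) W ((T : Subgroup (↥K ⧸ R.subgroupOf K)))).Normal → ∃ g : (↥K ⧸ R.subgroupOf K), g ∈ (T : Subgroup (↥K ⧸ R.subgroupOf K)) ∧ g ∉ Cfsg.pCore p (↥K ⧸ R.subgroupOf K) ∧ ∃ U V : Subgroup (↥K ⧸ R.subgroupOf K), Cfsg.IsChiefFactor U V ∧ U ≤ Cfsg.pCore p (↥K ⧸ R.subgroupOf K) ∧ Cfsg.iterCommutator U (Subgroup.zpowers g) (p - 1) ≤ V ∧ ¬ ⁅U, Subgroup.zpowers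 g⁆ ≤ V) : Cfsg.HasNormalPComplement p G := by
    refine Cfsg.Lib.Sig.hasNormalPComplement_of_functor hW
      (fun (Y : Type u) [Group Y] => ∀ T : Sylow p Y,
        ¬ (Cfsg.inducedFunctor (G := Y) W (T : Subgroup Y)).Normal →
        ∃ g : Y, g ∈ (T : Subgroup Y) ∧ g ∉ Cfsg.pCore p Y ∧ ∃ U V : Subgroup Y,
          Cfsg.IsChiefFactor U V ∧ U ≤ Cfsg.pCore p Y ∧
          Cfsg.iterCommutator U (Subgroup.zpowers g) (p - 1) ≤ V ∧ ¬ ⁅U, Subgroup.zpowers g⁆ ≤ V)
      ?_ (Nat.card G) G le_rfl ?_ S hN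
    · intro Y _ _ h _ hq T hT
      by_contra hn
      obtain ⟨g, hg, -, U, V, hUV, hUQ, hit, hne⟩ := h T hn
      exact hne (Cfsg.Lib.Sig.no_small_degree_chief_factor hq T hT hg hUV hUQ hit)
    refine Cfsg.Lib.Sig.sectionHyp_of_sections ?_ fun K R hR hc => hloc K R hc
    intro Y Z _ _ _ _ e h T hT
    obtain ⟨g, hg, hgQ, U, V, hUV, hUQ, hit, hne⟩ := h (T.mapSurjective (f := e.symm.toMonoidHom) e.symm.surjective)
      fun hn => hT (Cfsg.Lib.Sig.normal_inducedFunctor_congr hW e T hn)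
    have hQ : (Cfsg.pCore p Y).map e.toMonoidHom = Cfsg.pCore p Z := Cfsg.Lib.Core.map_pCore_equiv e
    have hz : (Subgroup.zpowers g).map e.toMonoidHom = Subgroup.zpowers (e g) := MonoidHom.map_zpowers _ _
    refine ⟨e g, ?_, ?_, U.map e.toMonoidHom, V.map e.toMonoidHom,
      Cfsg.Lib.Sig.isChiefFactor_map_equiv e hUV, hQ ▸ Subgroup.map_mono hUQ, ?_, ?_⟩
    · change g ∈ (T : Subgroup Z).map e.symm.toMonoidHom at hg
      obtain ⟨z, hz', rfl⟩ := hg
      show e (e.symm z) ∈ (T : Subgroup Z)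
      rw [e.apply_symm_apply]; exact hz'
    · rw [← hQ]
      exact fun hh => hgQ ((Subgroup.mem_map_iff_mem (f := e.toMonoidHom) e.injective).1 hh)
    · rw [← hz, ← Cfsg.Lib.Sig.map_iterCommutator]
      exact Subgroup.map_mono hit
    · rw [← hz, ← Subgroup.map_commutator]
      exact fun hh => hne ((Subgroup.map_le_map_iff_of_injective (f := e.toMonoidHom) e.injective).1 hh)

end Cfsg.Agent.S2006
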