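import Cfsg.Statements.S1988
import Cfsg.Agent.Lib.Sig.KInfApps
import Cfsg.Agent.S2006
import Cfsg.Agent.Lib.Sig.WeakClosure

set_option autoImplicit false
universe u
open Cfsg

namespace Cfsg.Agent.S1988

/-- Let p be an odd prime, G a finite group with Sylow p-subgroup S and K the lower K-infinity subgroup of S. If N_G(K) has a normal p-complement, or if N_G(K)/C_G(K) is a p-group (every element of N_G(K) of order prime to p centralizes K), then G has a normal p-complement. -/
theorem result {G : Type u} [Group G] [Finite G] {p : ℕ} [Fact p.Prime] (hp : p ≠ 2) (S : Sylow p G) (h : Cfsg.HasNormalPComplement p ↥(Subgroup.normalizer ((Cfsg.inducedFunctor Cfsg.kInfLower (S : Subgroup G) : Subgroup G) : Set G)) ∨ ∀ g ∈ Subgroup.normalizer ((Cfsg.inducedFunctor Cfsg.kInfLower (S : Subgroup G) : Subgroup G) : Set G), (orderOf g).Coprime p → g ∈ Subgroup.centralizer ((Cfsg.inducedFunctor Cfsg.kInfLower (S : Subgroup G) : Subgroup G) : Set G)) : Cfsg.HasNormalPComplement p G := by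
  have hN : Cfsg.HasNormalPComplement p
      ↥(Subgroup.normalizer ((Cfsg.inducedFunctor Cfsg.kInfLower (S : Subgroup G) : Subgroup G) : Set G)) := by
    rcases h with h | h
    · exact h
    · exact Cfsg.Lib.Sig.hasNormalPComplement_normalizer_of_automizer S _
        (Cfsg.Lib.Sig.le_normalizer_functor
          (Cfsg.Lib.Sig.isConjugacyFunctor_inducedFunctor (Cfsg.Lib.Sig.isCharPFunctor_kInfLower p)) S.2)
        (Cfsg.Lib.Sig.inf_centralizer_kInfLower_le S.2) h
  refine Cfsg.Agent.S2006.result Cfsg.kInfLower (Cfsg.Lib.Sig.isCharPFunctor_kInfLower p) S hN ?_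
  intro K R _ hcons T hT
  obtain ⟨g, hgT, hgQ, -, -, hfac⟩ := Cfsg.Lib.Sig.exists_small_degree_of_kInf T (Or.inl hT)
  obtain ⟨U, V, hUV, hU, h2, h1⟩ := hfac hcons
  refine ⟨g, hgT, hgQ, U, V, hUV, hU, ?_, h1⟩
  haveI := hUV.2.2.1
  obtain ⟨k, hk⟩ := Nat.exists_eq_add_of_le (show 2 ≤ p - 1 by have := (Fact.out : p.Prime).two_le; omega)
  rw [hk]
  clear hk
  induction k with
  | zero => exact h2
  | succ k ih =>
    exact (Subgroup.commutator_mono ih le_rfl).trans (Subgroup.commutator_le_left V _)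

end Cfsg.Agent.S1988
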