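import Cfsg.Statements.S1989
import Cfsg.Agent.Lib.Sig.QdFusion
import Cfsg.Agent.Lib.Sig.KInfFusion
import Cfsg.Agent.Lib.Local.QdInvolved

set_option autoImplicit false
universe u
open Cfsg

namespace Cfsg.Agent.S1989

/-- Let p be an odd prime and G a finite group. Then Qd(p) (the natural semidirect product of an elementary abelian group of order p² by SL₂(p)) is not involved in G if and only if, in every section K/R of G and for every Sylow p-subgroup T of K/R, the lower K-infinity subgroup of T controls strong fusion in K/R. -/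
theorem result {G : Type u} [Group G] [Finite G] {p : ℕ} [Fact p.Prime] (hp : p ≠ 2) : ¬ Cfsg.Involves ↥(Cfsg.qd p) G ↔ ∀ (K R : Subgroup G) [hR : (R.subgroupOf K).Normal], ∀ T : Sylow p (↥K ⧸ R.subgroupOf K), Cfsg.ControlsStrongFusion p (Cfsg.inducedFunctor (G := (↥K ⧸ R.subgroupOf K)) Cfsg.kInfLower (T : Subgroup (↥K ⧸ R.subgroupOf K))) := by
  constructor
  · intro hfree K R _ T
    have hsec : ∀ (A B : Subgroup (↥K ⧸ R.subgroupOf K)) [(B.subgroupOf A).Normal],
        Cfsg.IsNormalizerPStable p (↥A ⧸ B.subgroupOf A) := fun A B _ =>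
      Cfsg.Lib.Local.QdInvolved.isNormalizerPStable_of_not_involves_qd hp fun hq => hfree
        (Cfsg.Lib.FusionSys.involves_of_injective K.subtype_injective
          (Cfsg.Lib.FusionSys.involves_of_surjective (QuotientGroup.mk'_surjective (R.subgroupOf K))
            (Cfsg.Lib.FusionSys.involves_of_injective A.subtype_injective
              (Cfsg.Lib.FusionSys.involves_of_surjective (QuotientGroup.mk'_surjective (B.subgroupOf A)) hq))))
    exact Cfsg.Lib.Sig.controlsStrongFusion_of_sectionHyp (Cfsg.Lib.Sig.isCharPFunctor_kInfLower p)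
      (fun Y _ _ L f hf hc S => (Cfsg.Lib.Sig.kInf_normal_sectionHyp hsec Y L f hf hc S).1) T
  · rintro h ⟨K, R, hn, ⟨e⟩⟩
    obtain ⟨T⟩ : Nonempty (Sylow p (↥K ⧸ R.subgroupOf K)) := inferInstance
    obtain ⟨T', -, hctl⟩ := h K R T
    obtain ⟨h1, h2⟩ := Cfsg.Lib.Sig.QdFusion.normalizer_inducedFunctor_eq p e
      (Cfsg.Lib.Sig.isCharPFunctor_kInfLower p) T
    obtain ⟨A, g, hA, hno⟩ := Cfsg.Lib.Sig.QdFusion.exists_not_realized p e T h2
    obtain ⟨-, hx⟩ := hctl A (hA T').1
    obtain ⟨x, hx1, hx2⟩ := hx g (hA T').2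
    rw [h1] at hx1
    exact hno x hx1 fun a ha => (hx2 a ha).symm

end Cfsg.Agent.S1989
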