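import Cfsg.Statements.S1990
import Cfsg.Agent.Lib.Sig.ComplementCriterion
import Cfsg.Agent.Lib.Coprime.Action
import Cfsg.Agent.Lib.Local.QdInvolved

set_option autoImplicit false
set_option linter.style.haveILetI false
universe u
open Cfsg Subgroup

namespace Cfsg.Agent.S1990

open scoped commutatorElement MatrixGroups Pointwise
open Matrix

variable {p : ℕ} [hp : Fact p.Prime]

/-- Commutators of `p'`-elements are `p`-elements. -/
def CommP (p : ℕ) (Y : Type*) [Group Y] : Prop :=
  ∀ x y : Y, (orderOf x).Coprime p → (orderOf y).Coprime p → ∃ k, ⁅x, y⁆ ^ p ^ k = 1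

theorem exists_coprime_lift {A B : Type*} [Group A] [Finite A] [Group B] (f : A →* B)
    (hf : Function.Surjective f) {x : B} (hx : (orderOf x).Coprime p) :
    ∃ y : A, (orderOf y).Coprime p ∧ f y = x := by
  obtain ⟨y, rfl⟩ := hf x
  obtain ⟨a, m, hm, hy⟩ := Nat.exists_eq_pow_mul_and_not_dvd (orderOf_pos y).ne' p hp.out.ne_one
  obtain ⟨n, hn⟩ := exists_pow_eq_self_of_coprime (n := p ^ a) (x := f y) (hx.symm.pow_left a)
  refine ⟨(y ^ p ^ a) ^ n, Nat.Coprime.coprime_dvd_left ?_ (hp.out.coprime_iff_not_dvd.2 hm).symm,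
    by rw [map_pow, map_pow, hn]⟩
  refine orderOf_dvd_of_pow_eq_one ?_
  rw [← pow_mul, ← pow_mul, show p ^ a * (n * m) = p ^ a * m * n by ring, pow_mul, ← hy,
    pow_orderOf_eq_one, one_pow]

theorem CommP.of_involves {A : Type*} [Group A] {Y : Type*} [Group Y] [Finite Y] (h : CommP p Y)
    (hA : Cfsg.Involves A Y) : CommP p A := by
  obtain ⟨K, R, hn, ⟨e⟩⟩ := hA
  set f : ↥K →* A := e.toMonoidHom.comp (QuotientGroup.mk' (R.subgroupOf K)) with hf
  have hfs : Function.Surjective f := e.surjective.comp (QuotientGroup.mk'_surjective _)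
  intro x y hx hy
  obtain ⟨x', hx', rfl⟩ := exists_coprime_lift f hfs hx
  obtain ⟨y', hy', rfl⟩ := exists_coprime_lift f hfs hy
  obtain ⟨k, hk⟩ := h (x' : Y) (y' : Y) (by rwa [orderOf_coe]) (by rwa [orderOf_coe])
  refine ⟨k, ?_⟩
  have h1 : ⁅x', y'⁆ ^ p ^ k = 1 := Subtype.ext (by simpa [commutatorElement_def] using hk)
  rw [← map_commutatorElement, ← map_pow, h1, map_one]

theorem two_ne_zero_zmod (h2 : p ≠ 2) : (2 : ZMod p) ≠ 0 := fun h0 => by
  have h0' : ((2 : ℕ) : ZMod p) = 0 := by exact_mod_cast h0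
  exact h2 ((Nat.prime_dvd_prime_iff_eq hp.out Nat.prime_two).1 ((ZMod.natCast_eq_zero_iff _ _).1 h0'))

omit hp in
theorem det_three : (!![1, 1; 1, -1] : Matrix (Fin 2) (Fin 2) (ZMod 3)).det = 1 := by decide

/-- An element of order four in `SL₂(3)`. -/
def aThree : SL(2, ZMod 3) := ⟨!![1, 1; 1, -1], det_three⟩

/-- The standard Weyl element of `SL₂(3)`. -/
def wThree : SL(2, ZMod 3) := ⟨!![0, 1; -1, 0], by decide⟩

omit hp in
theorem not_commP_sl_three : ¬ CommP 3 SL(2, ZMod 3) := by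
  intro h
  have ha : (orderOf aThree).Coprime 3 :=
    Nat.Coprime.coprime_dvd_left (orderOf_dvd_of_pow_eq_one (n := 4) (by decide)) (by decide)
  have hw : (orderOf wThree).Coprime 3 :=
    Nat.Coprime.coprime_dvd_left (orderOf_dvd_of_pow_eq_one (n := 4) (by decide)) (by decide)
  obtain ⟨k, hk⟩ := h wThree aThree hw ha
  rw [show ⁅wThree, aThree⁆ = -1 by decide, (Odd.pow (by decide : Odd 3)).neg_one_pow] at hk
  exact absurd hk (by decide)

theorem not_commP_sl (h2 : p ≠ 2) : ¬ CommP p SL(2, ZMod p) := by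
  intro h
  let w : SL(2, ZMod p) := ⟨!![0, 1; -1, 0], by simp⟩
  have hw : (orderOf w).Coprime p := by
    refine Nat.Coprime.coprime_dvd_left (orderOf_dvd_of_pow_eq_one (x := w) (n := 4) ?_) ?_
    · apply Subtype.ext
      show (!![0, 1; -1, 0] : Matrix (Fin 2) (Fin 2) (ZMod p)) ^ 4 = 1
      ext i j
      fin_cases i <;> fin_cases j <;> simp [pow_succ, Matrix.mul_apply, Fin.sum_univ_two]
    · exact (Nat.Coprime.pow_left 2 ((Nat.coprime_primes Nat.prime_two hp.out).2 h2.symm) : (2 ^ 2).Coprime p)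
  by_cases h3 : p = 3
  · subst h3
    exact not_commP_sl_three h
  · have ht : (2 : ZMod p) ≠ 0 := two_ne_zero_zmod h2
    let d : SL(2, ZMod p) := ⟨!![2, 0; 0, 2⁻¹], by simp [det_fin_two_of, mul_inv_cancel₀ ht]⟩
    have hd : (orderOf d).Coprime p := by
      refine Nat.Coprime.coprime_dvd_left (orderOf_dvd_of_pow_eq_one (x := d) (n := p - 1) ?_) ?_
      · have key : ∀ n : ℕ, ((d ^ n : SL(2, ZMod p)) : Matrix (Fin 2) (Fin 2) (ZMod p)) =
            !![(2 : ZMod p) ^ n, 0; 0, (2⁻¹ : ZMod p) ^ n] := fun n => by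
          induction n with
          | zero => simp [Matrix.one_fin_two]
          | succ n ih =>
            rw [pow_succ]
            show ((d ^ n : SL(2, ZMod p)) : Matrix (Fin 2) (Fin 2) (ZMod p)) *
              (!![2, 0; 0, 2⁻¹] : Matrix (Fin 2) (Fin 2) (ZMod p)) = _
            rw [ih]
            ext i j
            fin_cases i <;> fin_cases j <;> simp [Matrix.mul_apply, Fin.sum_univ_two, pow_succ]
        apply Subtype.ext
        rw [key, ZMod.pow_card_sub_one_eq_one ht, ZMod.pow_card_sub_one_eq_one (inv_ne_zero ht),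
          ← Matrix.one_fin_two]
        rfl
      · refine (hp.out.coprime_iff_not_dvd.2 fun hdvd => ?_).symm
        have h2le := hp.out.two_le
        have := Nat.le_of_dvd (by have := hp.out.two_le; omega) hdvd
        omega
    obtain ⟨k, hk⟩ := h w d hw hd
    let c : SL(2, ZMod p) := ⟨!![2⁻¹ * 2⁻¹, 0; 0, 2 * 2], by
      rw [det_fin_two_of]; field_simp; ring⟩
    have hc : ⁅w, d⁆ = c := by
      rw [commutatorElement_def, mul_inv_eq_iff_eq_mul, mul_inv_eq_iff_eq_mul]
      apply Subtype.ext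
      show (!![0, 1; -1, 0] : Matrix (Fin 2) (Fin 2) (ZMod p)) * !![2, 0; 0, 2⁻¹] =
        !![2⁻¹ * 2⁻¹, 0; 0, 2 * 2] * !![2, 0; 0, 2⁻¹] * !![0, 1; -1, 0]
      ext i j
      fin_cases i <;> fin_cases j <;> simp [Matrix.mul_apply, Fin.sum_univ_two] <;> field_simp
    have key : ∀ n : ℕ, ((c ^ n : SL(2, ZMod p)) : Matrix (Fin 2) (Fin 2) (ZMod p)) =
        !![(2⁻¹ * 2⁻¹ : ZMod p) ^ n, 0; 0, (2 * 2 : ZMod p) ^ n] := fun n => by
      induction n with
      | zero => simp [Matrix.one_fin_two]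
      | succ n ih =>
        rw [pow_succ]
        show ((c ^ n : SL(2, ZMod p)) : Matrix (Fin 2) (Fin 2) (ZMod p)) *
          (!![2⁻¹ * 2⁻¹, 0; 0, 2 * 2] : Matrix (Fin 2) (Fin 2) (ZMod p)) = _
        rw [ih]
        ext i j
        fin_cases i <;> fin_cases j <;> simp [Matrix.mul_apply, Fin.sum_univ_two, pow_succ]
    rw [hc] at hk
    have h4 := congrFun (congrFun (key (p ^ k)) 1) 1
    rw [hk] at h4
    simp [ZMod.pow_card_pow] at h4
    have h5 : ((3 : ℕ) : ZMod p) = 0 := by push_cast; linear_combination -h4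
    exact h3 ((Nat.prime_dvd_prime_iff_eq hp.out Nat.prime_three).1 ((ZMod.natCast_eq_zero_iff _ _).1 h5))

theorem not_involves_qd_of_coatom {Y : Type u} [Group Y] [Finite Y] (h2 : p ≠ 2)
    (hq : Cfsg.HasNormalPComplement p (Y ⧸ Cfsg.pCore p Y)) (T : Sylow p Y)
    (hT : IsCoatom (T : Subgroup Y)) : ¬ Cfsg.Involves ↥(Cfsg.qd p) Y := by
  intro hinv
  set Q := Cfsg.pCore p Y with hQ
  set f := QuotientGroup.mk' Q with hf
  have hfs : Function.Surjective f := QuotientGroup.mk'_surjective Q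
  set K := Cfsg.pResidual p (Y ⧸ Q) with hK
  haveI hKn : K.Normal := Cfsg.Lib.Fusion.pResidual_normal p _
  have hKcop : (Nat.card ↥K).Coprime p := Cfsg.Lib.Fusion.hasNormalPComplement_iff_coprime.1 hq
  set Tb := (T : Subgroup Y).map f with hTb
  have hTbp : IsPGroup p ↥Tb := T.2.map f
  obtain ⟨j, hj⟩ := IsPGroup.iff_card.1 hTbp
  have hcop : (Nat.card ↥Tb).Coprime (Nat.card ↥K) := by
    rw [hj]; exact hKcop.symm.pow_left j
  have hKT : K ⊓ Tb = ⊥ :=
    (disjoint_iff.1 (Cfsg.Lib.Coprime.disjoint_of_coprime_card hcop.symm))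
  -- subgroups of `Y / Q` over `T̄`
  have hover : ∀ L : Subgroup (Y ⧸ Q), Tb ≤ L → L = Tb ∨ L = ⊤ := by
    intro L hL
    rcases eq_or_lt_of_le (map_le_iff_le_comap.1 hL) with h | h
    · left
      rw [hTb, h, map_comap_eq_self_of_surjective hfs]
    · right
      have := congrArg (Subgroup.map f) (hT.2 _ h)
      rwa [map_comap_eq_self_of_surjective hfs, map_top_of_surjective _ hfs] at this
  have hinvsub : ∀ L : Subgroup (Y ⧸ Q), L ≤ K → Tb ≤ normalizer (L : Set (Y ⧸ Q)) → L = ⊥ ∨ L = K := by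
    intro L hLK hTL
    rcases hover (L ⊔ Tb) le_sup_right with h | h
    · exact Or.inl (le_bot_iff.1 (hKT ▸ le_inf hLK (le_sup_left.trans h.le)))
    · refine Or.inr (le_antisymm hLK fun k hk => ?_)
      obtain ⟨l, hl, t, ht, rfl⟩ : k ∈ (L : Set (Y ⧸ Q)) * (Tb : Set (Y ⧸ Q)) := by
        rw [← coe_mul_of_right_le_normalizer_left L Tb hTL, h]; trivial
      have h1 : t ∈ K ⊓ Tb := mem_inf.2 ⟨(mul_mem_cancel_left (hLK hl)).1 hk, ht⟩
      rw [hKT, mem_bot] at h1
      subst h1
      simpa using hl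
  have hTK : Tb ≤ normalizer (K : Set (Y ⧸ Q)) := by
    rw [normalizer_eq_top_iff.2 hKn]; exact le_top
  have hsolT : Group.IsSolvable ↥Tb := by
    have := hTbp.isNilpotent
    infer_instance
  have hab : ⁅K, K⁆ = ⊥ := by
    by_cases hK1 : K = ⊥
    · rw [hK1, commutator_bot_left]
    have h1 : Nat.card ↥K ≠ 1 := fun e => hK1 (eq_bot_of_card_eq _ e)
    set q := (Nat.card ↥K).minFac with hqdef
    haveI : Fact q.Prime := ⟨Nat.minFac_prime h1⟩
    obtain ⟨R, hR⟩ := Cfsg.Lib.Coprime.exists_invariant_sylow hTK hcop (Or.inl hsolT) q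
    have hRne : (R : Subgroup ↥K).map K.subtype ≠ ⊥ := by
      rw [Ne, map_eq_bot_iff_of_injective _ K.subtype_injective]
      exact R.ne_bot_of_dvd_card (Nat.minFac_dvd _)
    have hRK := (hinvsub _ (map_subtype_le _) hR).resolve_left hRne
    have hKq : IsPGroup q ↥K := by
      have h := R.2.map K.subtype
      rwa [hRK] at h
    haveI : Nontrivial ↥K := (nontrivial_iff_ne_bot K).2 hK1
    haveI := hKq.isNilpotent
    refine (hinvsub _ (commutator_le_left K K) ?_).resolve_right (fun e => ?_)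
    · rw [normalizer_eq_top_iff.2 (inferInstance : (⁅K, K⁆).Normal)]; exact le_top
    · have hcomm : commutator ↥K = ⊤ := by
        refine map_injective K.subtype_injective ?_
        rw [_root_.commutator_def, map_commutator, ← MonoidHom.range_eq_map, range_subtype, e]
      exact (ne_of_lt (Group.IsSolvable.commutator_lt_top_of_nontrivial ↥K)) hcomm
  have hC : CommP p Y := by
    intro x y hx hy
    have h1 : f ⁅x, y⁆ ∈ ⁅K, K⁆ := by
      rw [map_commutatorElement]
      exact commutator_mem_commutator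
        (Cfsg.Lib.Fusion.mem_pResidual_of_coprime (hx.coprime_dvd_left (orderOf_map_dvd f x)))
        (Cfsg.Lib.Fusion.mem_pResidual_of_coprime (hy.coprime_dvd_left (orderOf_map_dvd f y)))
    rw [hab, mem_bot] at h1
    have h1' : ⁅x, y⁆ ∈ Q := (QuotientGroup.eq_one_iff _).1 h1
    obtain ⟨k, hk⟩ := Cfsg.Lib.Core.pCore_isPGroup p Y ⟨_, h1'⟩
    exact ⟨k, congrArg Subtype.val hk⟩
  refine not_commP_sl h2 ((hC.of_involves hinv).of_involves ?_)
  exact Cfsg.Lib.FusionSys.involves_of_surjective (Cfsg.Lib.Local.QdGroup.block_surjective p)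
    (Cfsg.Lib.FusionSys.involves_iff_exists_hom.2 ⟨⊤, (⊤ : Subgroup SL(2, ZMod p)).subtype, fun y => ⟨⟨y, mem_top y⟩, rfl⟩⟩)

/-- The functor realises all fusion on `O_p`. -/
def CoreFusion (p : ℕ) (W : ∀ (Q : Type u) [Group Q], Subgroup Q) (Y : Type u) [Group Y] : Prop :=
  ¬ Cfsg.Involves ↥(Cfsg.qd p) Y → ∀ (T : Sylow p Y) (h : Y),
    ∃ x ∈ normalizer ((Cfsg.inducedFunctor (G := Y) W (T : Subgroup Y) : Subgroup Y) : Set Y),
      ∀ a ∈ Cfsg.pCore p Y, x * a * x⁻¹ = h * a * h⁻¹

/-- Let p be an odd prime, G a finite group with Sylow p-subgroup S, and W an isomorphism-invariant p-group functor (W assigns to every group Q a subgroup W(Q), nontrivial whenever Q is a nontrivial finite p-group, and every isomorphism from a finite p-group Q onto a group R carries W(Q) onto W(R)). Suppose N_G(W(S)) has a normal p-complement, and W(T) controls strong fusion in every section G* = K/R of G all of whose sections are p-stable in the normalizer form, for every Sylow p-subgroup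 T of G*. Then G has a normal p-complement. -/
theorem result {G : Type u} [Group G] [Finite G] {p : ℕ} [Fact p.Prime] (hp : p ≠ 2) (W : ∀ (Q : Type u) [Group Q], Subgroup Q) (hW : Cfsg.IsCharPFunctor.{u} p W) (S : Sylow p G) (hN : Cfsg.HasNormalPComplement p ↥(Subgroup.normalizer ((Cfsg.inducedFunctor (G := G) W (S : Subgroup G) : Subgroup G) : Set G))) (hctl : ∀ (K R : Subgroup G) [hR : (R.subgroupOf K).Normal], (∀ (K' R' : Subgroup (↥K ⧸ R.subgroupOf K)) [hR' : (R'.subgroupOf K').Normal], Cfsg.IsNormalizerPStable p (↥K' ⧸ R'.subgroupOf K')) → ∀ T : Sylow p (↥K ⧸ R.subgroupOf K), Cfsg.ControlsStrongFusion p (Cfsg.inducedFunctor (G := (↥K ⧸ R.subgroupOf K)) W (T : Subgroup (↥K ⧸ R.subgroupOf K)))) : Cfsg.HasNormalPComplement p G := by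
  refine Cfsg.Lib.Sig.hasNormalPComplement_of_functor hW
    (fun (Y : Type u) [Group Y] => CoreFusion p W Y) ?_ (Nat.card G) G le_rfl ?_ S hN
  · intro Y _ _ hY hC hq T hT
    by_contra hn
    have hfree := not_involves_qd_of_coatom hp hq T hT
    set N := normalizer ((Cfsg.inducedFunctor (G := Y) W (T : Subgroup Y) : Subgroup Y) : Set Y) with hNdef
    have hTN : (T : Subgroup Y) ≤ N := fun z hz => Cfsg.Lib.Sig.mem_normalizer_of_map_conj (by
      rw [← (Cfsg.Lib.Sig.isConjugacyFunctor_inducedFunctor hW _ T.2).2.2 z,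
        Cfsg.Lib.Sig.map_conj_eq_of_mem_normalizer (le_normalizer hz)])
    have hNT : N = (T : Subgroup Y) := by
      rcases eq_or_lt_of_le hTN with h | h
      · exact h.symm
      · exact absurd (normalizer_eq_top_iff.1 (hT.2 _ h)) hn
    refine hT.1 (eq_top_iff.2 fun h _ => ?_)
    obtain ⟨x, hx, hxh⟩ := hY hfree T h
    replace hx : x ∈ N := hx
    rw [hNT] at hx
    have h1 : h⁻¹ * x ∈ centralizer (Cfsg.pCore p Y : Set Y) := mem_centralizer_iff.2 fun a ha => by
      calc a * (h⁻¹ * x) = h⁻¹ * (h * a * h⁻¹) * x := by group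
        _ = h⁻¹ * x * a := by rw [← hxh a ha]; group
    have := mul_mem hx (inv_mem (Cfsg.Lib.Core.pCore_le_sylow T (hC h1)))
    simpa using this
  · refine Cfsg.Lib.Sig.sectionHyp_of_sections ?_ fun K R _ _ hfree T h => ?_
    · intro Y Z _ _ _ _ e hY hZ T h
      obtain ⟨x, hx, hxh⟩ := hY (fun hI => hZ (Cfsg.Lib.FusionSys.involves_of_injective
          (f := e.toMonoidHom) e.injective hI))
        (T.mapSurjective (f := e.symm.toMonoidHom) e.symm.surjective) (e.symm h)
      refine ⟨e x, ?_, fun a ha => ?_⟩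
      · have hx' := Cfsg.Lib.Sig.mem_normalizer_map_subgroup e.toMonoidHom hx
        rw [← Cfsg.Lib.Sig.inducedFunctor_map hW _ (Sylow.isPGroup' _)
          (by rw [(MonoidHom.ker_eq_bot_iff _).2 e.injective, inf_bot_eq])] at hx'
        erw [Sylow.coe_mapSurjective, Subgroup.map_map,
          show e.toMonoidHom.comp e.symm.toMonoidHom = MonoidHom.id Z from
            MonoidHom.ext fun z => e.apply_symm_apply z, Subgroup.map_id] at hx'
        exact hx'
      · rw [← Cfsg.Lib.Core.map_pCore_equiv (p := p) e] at ha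
        obtain ⟨b, hb, rfl⟩ := ha
        have := congrArg e (hxh b hb)
        simpa using this
    · obtain ⟨T', -, hT'⟩ := hctl K R (fun K' R' _ =>
        Cfsg.Lib.Local.QdInvolved.isNormalizerPStable_of_not_involves_qd hp fun hq =>
          hfree (Cfsg.Lib.FusionSys.involves_of_injective K'.subtype_injective
            (Cfsg.Lib.FusionSys.involves_of_surjective
              (QuotientGroup.mk'_surjective (R'.subgroupOf K')) hq))) T
      obtain ⟨-, h2⟩ := hT' ((Cfsg.pCore p (↥K ⧸ R.subgroupOf K) : Subgroup (↥K ⧸ R.subgroupOf K)) : Set (↥K ⧸ R.subgroupOf K)) (fun a ha => Cfsg.Lib.Core.pCore_le_sylow T' ha)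
      obtain ⟨x, hx, hxe⟩ := h2 h (by
        rintro _ ⟨a, ha, rfl⟩
        exact Cfsg.Lib.Core.pCore_le_sylow T' (Subgroup.Normal.conj_mem inferInstance a ha h))
      exact ⟨x, hx, fun a ha => (hxe a ha).symm⟩

end Cfsg.Agent.S1990
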