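import Cfsg.Statements.S1992
import Cfsg.Agent.S1991
import Cfsg.Agent.S0144
import Cfsg.Agent.Lib.Sig.Small
import Cfsg.Agent.Lib.Core.Basic

set_option autoImplicit false
set_option linter.style.haveILetI false
universe u
open Cfsg Subgroup

namespace Cfsg.Agent.S1992

theorem mem_normalizer_sylow_mul {G : Type u} [Group G] [Finite G] {q : ℕ} [Fact q.Prime] (N : Subgroup G)
    [N.Normal] (Q : Sylow q G) {x : G}
    (hx : x ∈ normalizer (((Q : Subgroup G) ⊔ N : Subgroup G) : Set G)) :
    ∃ n ∈ (Q : Subgroup G) ⊔ N, n * x ∈ normalizer ((Q : Subgroup G) : Set G) := by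
  have hidx : ¬ q ∣ (Q : Subgroup G).relIndex ((Q : Subgroup G) ⊔ N) := fun h =>
    Q.not_dvd_index (h.trans (relIndex_dvd_index_of_le le_sup_left))
  have hR : (Q : Subgroup G).map (MulAut.conj x).toMonoidHom ≤ (Q : Subgroup G) ⊔ N := by
    rintro _ ⟨a, ha, rfl⟩
    exact (mem_normalizer_iff.1 hx a).1 (mem_sup_left ha)
  obtain ⟨c, hc, hle⟩ := Cfsg.Lib.Sig.exists_conj_le_of_relIndex le_sup_left Q.2 hidx hR (Q.2.map _)
  rw [Cfsg.Lib.Sig.map_conj_map_conj] at hle
  exact ⟨c, hc, Cfsg.Lib.Sig.mem_normalizer_of_map_conj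
    (eq_of_le_of_card_ge hle (le_of_eq (Cfsg.Lib.Sig.card_map_conj _ _).symm))⟩

theorem inherit {G : Type u} [Group G] [Finite G] (N : Subgroup G) [N.Normal]
    (h : ∀ q : ℕ, q.Prime → q ∣ Nat.card G → ∀ Q : Sylow q G,
      normalizer ((Q : Subgroup G) : Set G) = Q) :
    ∀ q : ℕ, q.Prime → q ∣ Nat.card (G ⧸ N) → ∀ Q : Sylow q (G ⧸ N),
      normalizer ((Q : Subgroup (G ⧸ N)) : Set (G ⧸ N)) = Q := by
  intro q hq hd R
  haveI := Fact.mk hq
  have hfs : Function.Surjective (QuotientGroup.mk' N) := QuotientGroup.mk'_surjective N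
  obtain ⟨Q, rfl⟩ := Sylow.mapSurjective_surjective hfs q R
  refine le_antisymm (fun y hy => ?_) le_normalizer
  obtain ⟨x, rfl⟩ := hfs y
  erw [Sylow.coe_mapSurjective] at hy ⊢
  have hx : x ∈ normalizer (((Q : Subgroup G) ⊔ N : Subgroup G) : Set G) := by
    have := comap_normalizer_eq_of_le_range (f := QuotientGroup.mk' N)
      (H := (Q : Subgroup G).map (QuotientGroup.mk' N))
    rw [comap_map_eq, QuotientGroup.ker_mk'] at this
    exact (this (by rw [MonoidHom.range_eq_top.2 hfs]; exact le_top)) ▸ (mem_comap.2 hy)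
  obtain ⟨n, hn, hnx⟩ := mem_normalizer_sylow_mul N Q hx
  rw [h q hq (hd.trans (Subgroup.card_quotient_dvd_card N)) Q] at hnx
  have : x ∈ (Q : Subgroup G) ⊔ N := by
    simpa using mul_mem (inv_mem hn) (mem_sup_left hnx : n * x ∈ (Q : Subgroup G) ⊔ N)
  have h2 := mem_map_of_mem (QuotientGroup.mk' N) this
  rwa [Subgroup.map_sup, QuotientGroup.map_mk'_self, sup_bot_eq] at h2

theorem main : ∀ (n : ℕ) (G : Type u) [Group G] [Finite G], Nat.card G ≤ n →
    (∀ q : ℕ, q.Prime → q ∣ Nat.card G → ∀ Q : Sylow q G, normalizer ((Q : Subgroup G) : Set G) = Q) →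
    ∃ q : ℕ, q.Prime ∧ IsPGroup q G := by
  intro n
  induction n with
  | zero => intro G _ _ h; have : 0 < Nat.card G := Nat.card_pos; omega
  | succ n ih =>
    intro G _ _ hn h
    rcases subsingleton_or_nontrivial G with hG | hG
    · exact ⟨2, Nat.prime_two, fun x => ⟨0, Subsingleton.elim _ _⟩⟩
    by_cases hN : ∃ N : Subgroup G, N.Normal ∧ N ≠ ⊥ ∧ N ≠ ⊤
    · obtain ⟨N, hNn, hNb, hNt⟩ := hN
      have hlt : Nat.card (G ⧸ N) < Nat.card G := Cfsg.Lib.Core.card_quotient_lt hNb
      obtain ⟨q, hq, hqG⟩ := ih (G ⧸ N) (by omega) (inherit N h)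
      haveI := Fact.mk hq
      refine ⟨q, hq, IsPGroup.of_card (n := (Nat.card G).primeFactorsList.length)
        (Nat.eq_prime_pow_of_unique_prime_dvd Nat.card_pos.ne' fun {s} hs hsd => ?_)⟩
      by_contra hne
      haveI := Fact.mk hs
      obtain ⟨S⟩ : Nonempty (Sylow s G) := inferInstance
      have hSN : (S : Subgroup G) ≤ N := by
        intro x hx
        obtain ⟨k, hk⟩ := S.2 ⟨x, hx⟩
        obtain ⟨j, hj⟩ := hqG (QuotientGroup.mk x)
        refine (QuotientGroup.eq_one_iff x).1 (orderOf_eq_one_iff.1 (Nat.eq_one_of_dvd_coprimes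
          (Nat.coprime_pow_primes k j hs hq hne)
          (orderOf_dvd_of_pow_eq_one ?_) (orderOf_dvd_of_pow_eq_one hj)))
        rw [← QuotientGroup.mk_pow, show x ^ s ^ k = 1 from congrArg Subtype.val hk, QuotientGroup.mk_one]
      have hfr := Sylow.normalizer_sup_eq_top (S.subtype hSN)
      rw [Sylow.coe_subtype, map_subgroupOf_eq_of_le hSN, h s hs hsd S, sup_eq_right.2 hSN] at hfr
      exact hNt hfr
    push Not at hN
    haveI : IsSimpleGroup G := ⟨fun N hNn => or_iff_not_imp_left.2 fun hb => hN N hNn hb⟩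
    suffices hp : ∃ r : ℕ, r.Prime ∧ Nat.card G = r by
      obtain ⟨r, hr, hc⟩ := hp
      haveI := Fact.mk hr
      exact ⟨r, hr, IsPGroup.of_card (n := 1) (by rw [hc, pow_one])⟩
    by_cases hr : ∃ r : ℕ, r.Prime ∧ 5 ≤ r ∧ r ∣ Nat.card G
    · obtain ⟨r, hr, h5, hd⟩ := hr
      haveI := Fact.mk hr
      obtain ⟨S⟩ : Nonempty (Sylow r G) := inferInstance
      obtain ⟨N, hNn, hNi⟩ := Cfsg.Agent.S1991.result h5 S (S.ne_bot_of_dvd_card hd) fun g hg hcop => by
        rw [h r hr hd S] at hg
        obtain ⟨k, hk⟩ := S.2 ⟨g, hg⟩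
        have : g = 1 := orderOf_eq_one_iff.1 (Nat.eq_one_of_dvd_coprimes (hcop.symm.pow_left k)
          (orderOf_dvd_of_pow_eq_one (congrArg Subtype.val hk :)) dvd_rfl)
        rw [this]; exact one_mem _
      refine ⟨r, hr, ?_⟩
      rcases hNn.eq_bot_or_eq_top with rfl | rfl
      · rwa [index_bot] at hNi
      · rw [index_top] at hNi; exact absurd hNi hr.one_lt.ne
    · push Not at hr
      have hsol : Group.IsSolvable G := by
        refine Cfsg.Agent.S0144.result 2 3 ((Nat.card G).factorization 2) ((Nat.card G).factorization 3)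
          Nat.prime_two Nat.prime_three ?_
        have hsupp : (Nat.card G).factorization.support ⊆ {2, 3} := by
          intro r hrm
          rw [Nat.support_factorization, Nat.mem_primeFactors] at hrm
          obtain ⟨hrp, hrd, -⟩ := hrm
          have h5 : ¬ 5 ≤ r := fun h5 => hr r hrp h5 hrd
          have h2 := hrp.two_le
          interval_cases r <;> first | decide | (exact absurd hrp (by norm_num))
        conv_lhs => rw [← Nat.factorization_prod_pow_eq_self (n := Nat.card G) Nat.card_pos.ne']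
        rw [Finsupp.prod_of_support_subset _ hsupp _ (fun i _ => pow_zero i),
          Finset.prod_pair (by norm_num)]
      haveI := hsol
      haveI hc : IsCyclic G := by
        letI : CommGroup G :=
          { (inferInstance : Group G) with
            mul_comm := (IsSimpleGroup.comm_iff_isSolvable).2 hsol }
        exact IsSimpleGroup.isCyclic
      letI : CommGroup G := IsCyclic.commGroup
      exact ⟨_, IsSimpleGroup.prime_card, rfl⟩

/-- Let G be a finite group in which, for every prime q dividing the order of G, every Sylow q-subgroup is its own normalizer. Then the order of G is a power of a single prime (G is a q-group for some prime q; for G trivial any prime works). -/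
theorem result {G : Type*} [Group G] [Finite G] (h : ∀ q : ℕ, q.Prime → q ∣ Nat.card G → ∀ Q : Sylow q G, Subgroup.normalizer ((Q : Subgroup G) : Set G) = Q) : ∃ q : ℕ, q.Prime ∧ IsPGroup q G :=
  main (Nat.card G) G le_rfl h

end Cfsg.Agent.S1992
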