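import Cfsg.Statements.S1997
import Cfsg.Agent.Lib.Sig.TripleFactorFusion
import Cfsg.Agent.S1996

set_option autoImplicit false
universe u
open Cfsg

namespace Cfsg.Agent.S1997

/-- Let p be a prime, G a finite group with Sylow p-subgroup S, and W₁, W₂ two isomorphism-invariant p-group functors (W assigns to every group Q a subgroup W(Q), nontrivial whenever Q is a nontrivial finite p-group, and every isomorphism from a finite p-group Q onto a group R carries W(Q) onto W(R)). Suppose that G* = C_{G*}(Ω₁Z(S*)) N_{G*}(W₁(S*)) = C_{G*}(Ω₁Z(S*)) N_{G*}(W₂(S*)) = N_{G*}(W₁(S*)) N_{G*}(W₂(S*)) whenever G* = K/R is a section of G with C_{G*}(O_p(G*)) ≤ O_p(G*) and S* is a Sylow p-subgroup of G*, where Ω₁Z denotes the subgroup generated by the elements of order dividing p in the centre. Suppose also Ω₁Z(S) ≤ W₁(S) ∩ W₂(S), and let A be the normal closure of Ω₁Z(S) in N_G(W₁(S)). Then A is an elementary abelian subgroup of S,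 strongly closed in S with respect to G, and A controls strong fusion in G. -/
theorem result {G : Type u} [Group G] [Finite G] {p : ℕ} [Fact p.Prime] (S : Sylow p G) (W₁ W₂ : ∀ (Q : Type u) [Group Q], Subgroup Q) (hW₁ : Cfsg.IsCharPFunctor.{u} p W₁) (hW₂ : Cfsg.IsCharPFunctor.{u} p W₂) (hfac : ∀ (K R : Subgroup G) [hR : (R.subgroupOf K).Normal], Subgroup.centralizer ((Cfsg.pCore p (↥K ⧸ R.subgroupOf K) : Subgroup (↥K ⧸ R.subgroupOf K)) : Set (↥K ⧸ R.subgroupOf K)) ≤ Cfsg.pCore p (↥K ⧸ R.subgroupOf K) → ∀ T : Sylow p (↥K ⧸ R.subgroupOf K), (∀ x : (↥K ⧸ R.subgroupOf K), ∃ a ∈ Subgroup.centralizer ((Cfsg.omegaOne p ((T : Subgroup (↥K ⧸ R.subgroupOf K)) ⊓ Subgroup.centralizer (((T : Subgroup (↥K ⧸ R.subgroupOf K)) : Subgroup (↥K ⧸ R.subgroupOf K)) : Set (↥K ⧸ R.subgroupOf K))) : Subgroup (↥K ⧸ R.subgroupOf K)) : Set (↥K ⧸ R.subgroupOf K)), ∃ b ∈ Subgroup.normalizer ((Cfsg.inducedFunctor (G := (↥K ⧸ R.subgroupOf K)) W₁ (T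 : Subgroup (↥K ⧸ R.subgroupOf K)) : Subgroup (↥K ⧸ R.subgroupOf K)) : Set (↥K ⧸ R.subgroupOf K)), x = a * b) ∧ (∀ x : (↥K ⧸ R.subgroupOf K), ∃ a ∈ Subgroup.centralizer ((Cfsg.omegaOne p ((T : Subgroup (↥K ⧸ R.subgroupOf K)) ⊓ Subgroup.centralizer (((T : Subgroup (↥K ⧸ R.subgroupOf K)) : Subgroup (↥K ⧸ R.subgroupOf K)) : Set (↥K ⧸ R.subgroupOf K))) : Subgroup (↥K ⧸ R.subgroupOf K)) : Set (↥K ⧸ R.subgroupOf K)), ∃ b ∈ Subgroup.normalizer ((Cfsg.inducedFunctor (G := (↥K ⧸ R.subgroupOf K)) W₂ (T : Subgroup (↥K ⧸ R.subgroupOf K)) : Subgroup (↥K ⧸ R.subgroupOf K)) : Set (↥K ⧸ R.subgroupOf K)), x = a * b) ∧ (∀ x : (↥K ⧸ R.subgroupOf K), ∃ a ∈ Subgroup.normalizer ((Cfsg.inducedFunctor (G := (↥K ⧸ R.subgroupOf K)) W₁ (T : Subgroup (↥K ⧸ R.subgroupOf K)) : Subgroup (↥K ⧸ R.subgroupOf K)) : Set (↥K ⧸ R.subgroupOf K)), ∃ b ∈ Subgroup.normalizer ((Cfsg.inducedFunctor (G := (↥K ⧸ R.subgroupOf K)) W₂ (T : Subgroup (↥K ⧸ R.subgroupOf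 K)) : Subgroup (↥K ⧸ R.subgroupOf K)) : Set (↥K ⧸ R.subgroupOf K)), x = a * b)) (hZ : Cfsg.omegaOne p ((S : Subgroup G) ⊓ Subgroup.centralizer (((S : Subgroup G) : Subgroup G) : Set G)) ≤ Cfsg.inducedFunctor (G := G) W₁ (S : Subgroup G) ⊓ Cfsg.inducedFunctor (G := G) W₂ (S : Subgroup G)) (N₁ : Subgroup G) (hN₁ : N₁ = Subgroup.normalizer ((Cfsg.inducedFunctor (G := G) W₁ (S : Subgroup G) : Subgroup G) : Set G)) (A : Subgroup G) (hA : A = (Subgroup.normalClosure (((Cfsg.omegaOne p ((S : Subgroup G) ⊓ Subgroup.centralizer (((S : Subgroup G) : Subgroup G) : Set G))).subgroupOf N₁ : Subgroup ↥N₁) : Set ↥N₁)).map N₁.subtype) : A ≤ (S : Subgroup G) ∧ Cfsg.IsElementaryAbelian p A ∧ Cfsg.IsStronglyClosed A (S : Subgroup G) ∧ Cfsg.ControlsStrongFusion p A := by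
    subst hN₁ hA
    set Z := Cfsg.omegaOne p ((S : Subgroup G) ⊓ Subgroup.centralizer ((S : Subgroup G) : Set G)) with hZdef
    set X₁ := Cfsg.inducedFunctor (G := G) W₁ (S : Subgroup G) with hX₁
    set X₂ := Cfsg.inducedFunctor (G := G) W₂ (S : Subgroup G) with hX₂
    set N₁ := Subgroup.normalizer (X₁ : Set G) with hN₁
    set N₂ := Subgroup.normalizer (X₂ : Set G) with hN₂
    set A := (Subgroup.normalClosure ((Z.subgroupOf N₁ : Subgroup ↥N₁) : Set ↥N₁)).map N₁.subtype with hA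
    set A₂ := (Subgroup.normalClosure ((Z.subgroupOf N₂ : Subgroup ↥N₂) : Set ↥N₂)).map N₂.subtype with hA₂
    have hpair : ∀ W ∈ ({Cfsg.inducedFunctor (G := G) W₁, Cfsg.inducedFunctor (G := G) W₂} :
        Set (Subgroup G → Subgroup G)), Cfsg.IsConjugacyFunctor p W := by
      intro W hW
      refine Cfsg.Lib.Sig.isConjugacyFunctor_inducedFamily {W₁, W₂} ?_ G W ?_
      · rintro V (rfl | rfl)
        exacts [hW₁, hW₂]
      · simpa [Cfsg.Lib.Sig.inducedFamily, Set.image_insert_eq, Set.image_singleton] using hW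
    have hSN : ∀ W ∈ ({Cfsg.inducedFunctor (G := G) W₁, Cfsg.inducedFunctor (G := G) W₂} :
        Set (Subgroup G → Subgroup G)), (S : Subgroup G) ≤ Subgroup.normalizer ((W (S : Subgroup G) :
          Subgroup G) : Set G) := fun W hW s hs => Cfsg.Lib.Sig.mem_normalizer_of_map_conj (by
      rw [← (hpair W hW _ S.2).2.2 s,
        Cfsg.Lib.Sig.map_conj_eq_of_mem_normalizer (Subgroup.le_normalizer hs)])
    have hS₁ : (S : Subgroup G) ≤ N₁ := hSN _ (Or.inl rfl)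
    have hS₂ : (S : Subgroup G) ≤ N₂ := hSN _ (Or.inr rfl)
    have hX₁S : X₁ ≤ (S : Subgroup G) := Subgroup.map_subtype_le _
    have hX₂S : X₂ ≤ (S : Subgroup G) := Subgroup.map_subtype_le _
    have hmem : ∀ (N : Subgroup G), (S : Subgroup G) ≤ N → ∀ m ∈ N, ∀ z ∈ Z, m * z * m⁻¹ ∈
        (Subgroup.normalClosure ((Z.subgroupOf N : Subgroup ↥N) : Set ↥N)).map N.subtype := by
      intro N hN m hm z hz
      exact ⟨⟨m, hm⟩ * ⟨z, hN (Cfsg.Lib.Sig.mem_omegaOne_center hz).1⟩ * ⟨m, hm⟩⁻¹,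
        Subgroup.normalClosure_normal.conj_mem _
          (Subgroup.subset_normalClosure (Subgroup.mem_subgroupOf.2 hz)) _, rfl⟩
    have hleast : ∀ (N : Subgroup G) (B : Subgroup G), (∀ m ∈ N, ∀ z ∈ Z, m * z * m⁻¹ ∈ B) →
        (Subgroup.normalClosure ((Z.subgroupOf N : Subgroup ↥N) : Set ↥N)).map N.subtype ≤ B := by
      intro N B hB
      rw [Subgroup.map_le_iff_le_comap, Subgroup.normalClosure, Subgroup.closure_le]
      intro x hx
      obtain ⟨a, ha, hax⟩ := Group.mem_conjugatesOfSet_iff.1 hx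
      obtain ⟨c, rfl⟩ := isConj_iff.1 hax
      exact hB (c : G) c.2 (a : G) (Subgroup.mem_subgroupOf.1 ha)
    have h12 : A₂ ≤ A := hleast N₂ A fun n hn z hz =>
      Cfsg.Lib.Sig.omegaOne_center_conj_mem hW₁ (fun K R _ hc T x => (hfac K R hc T).1 x) S
        (hmem N₁ hS₁) X₂ hX₂S hS₂ (hZ.trans inf_le_right) n hn z hz
    have h21 : A ≤ A₂ := hleast N₁ A₂ fun n hn z hz =>
      Cfsg.Lib.Sig.omegaOne_center_conj_mem hW₂ (fun K R _ hc T x => (hfac K R hc T).2.1 x) S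
        (hmem N₂ hS₂) X₁ hX₁S hS₁ (hZ.trans inf_le_left) n hn z hz
    have hAeq : A = A₂ := le_antisymm h21 h12
    have hnorm : ∀ (N : Subgroup G),
        N ≤ Subgroup.normalizer (((Subgroup.normalClosure ((Z.subgroupOf N : Subgroup ↥N) :
          Set ↥N)).map N.subtype : Subgroup G) : Set G) := by
      intro N
      refine le_trans ?_ (Subgroup.le_normalizer_map N.subtype)
      rw [Subgroup.normalizer_eq_top_iff.2 Subgroup.normalClosure_normal, ← MonoidHom.range_eq_map,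
        Subgroup.range_subtype]
    have hNA₁ : N₁ ≤ Subgroup.normalizer (A : Set G) := hnorm N₁
    have hNA₂ : N₂ ≤ Subgroup.normalizer (A : Set G) := by rw [hAeq]; exact hnorm N₂
    have hAX : ∀ a ∈ A, a ∈ X₁ ∧ a ∈ Subgroup.centralizer (X₁ : Set G) ∧ a ^ p = 1 := by
      let B : Subgroup G :=
        { carrier := {a | a ∈ X₁ ∧ a ∈ Subgroup.centralizer (X₁ : Set G) ∧ a ^ p = 1}
          one_mem' := ⟨one_mem _, one_mem _, one_pow _⟩
          mul_mem' := fun {a b} ha hb => ⟨mul_mem ha.1 hb.1, mul_mem ha.2.1 hb.2.1, by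
            have hc : Commute a b := Subgroup.mem_centralizer_iff.1 hb.2.1 a ha.1
            rw [hc.mul_pow, ha.2.2, hb.2.2, one_mul]⟩
          inv_mem' := fun {a} ha => ⟨inv_mem ha.1, inv_mem ha.2.1, by rw [inv_pow, ha.2.2, inv_one]⟩ }
      refine hleast N₁ B fun m hm z hz => ?_
      obtain ⟨hzS, hzC, hzp⟩ := Cfsg.Lib.Sig.mem_omegaOne_center hz
      refine ⟨(Subgroup.mem_normalizer_iff.1 hm z).1 (hZ hz).1,
        Subgroup.mem_centralizer_iff.2 fun w hw => ?_, by rw [conj_pow, hzp, mul_one, mul_inv_cancel]⟩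
      have h : m⁻¹ * w * m * z = z * (m⁻¹ * w * m) := Subgroup.mem_centralizer_iff.1 hzC _
        (hX₁S ((Subgroup.mem_normalizer_iff''.1 hm w).1 hw))
      calc w * (m * z * m⁻¹) = m * (m⁻¹ * w * m * z) * m⁻¹ := by group
        _ = m * z * m⁻¹ * w := by rw [h]; group
    have hAS : A ≤ (S : Subgroup G) := fun a ha => hX₁S (hAX a ha).1
    have hfus : ∀ (T : Set G) (g : G), T ⊆ ((S : Subgroup G) : Set G) →
        (fun a => g * a * g⁻¹) '' T ⊆ ((S : Subgroup G) : Set G) →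
        ∃ x ∈ Subgroup.normalizer (A : Set G), ∀ a ∈ T, g * a * g⁻¹ = x * a * x⁻¹ := by
      intro T g hT hT'
      obtain ⟨n, c, h0, hs, -, hl⟩ := Cfsg.Lib.Sig.familyControlsStrongFusionIn_at hpair
        (Cfsg.Agent.S1996.result W₁ W₂ hW₁ hW₂ fun K R _ hc T x => (hfac K R hc T).2.2 x)
        le_top S.2 (by simpa using S.not_dvd_index) T g (Subgroup.mem_top g) hT hT'
      have hc : ∀ i : Fin (n + 1), c i ∈ Subgroup.normalizer (A : Set G) := by
        intro i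
        induction i using Fin.induction with
        | zero => rw [h0]; exact one_mem _
        | succ i ih =>
          obtain ⟨W, hW, hi⟩ := hs i
          have hmem' : c i.succ * (c i.castSucc)⁻¹ ∈ Subgroup.normalizer (A : Set G) := by
            rcases hW with rfl | rfl
            · exact hNA₁ hi.2
            · exact hNA₂ hi.2
          simpa using mul_mem hmem' ih
      exact ⟨c (Fin.last n), hc _, fun a ha => (hl a ha).symm⟩
    refine ⟨hAS, ⟨⟨⟨fun a b => Subtype.ext ?_⟩⟩, fun a ha => (hAX a ha).2.2⟩, ⟨hAS, ?_⟩,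
      ⟨S, hAS, fun T hT => ⟨hT, fun g hg => hfus T g hT hg⟩⟩⟩
    · exact Subgroup.mem_centralizer_iff.1 (hAX b b.2).2.1 a (hAX a a.2).1
    · intro x hx g hg
      obtain ⟨y, hy, he⟩ := hfus {x} g (Set.singleton_subset_iff.2 (hAS hx)) (by
        rw [Set.image_singleton]; exact Set.singleton_subset_iff.2 hg)
      rw [he x rfl]
      exact (Subgroup.mem_normalizer_iff.1 hy x).1 hx

end Cfsg.Agent.S1997
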