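import Cfsg.Statements.S1998
import Cfsg.Agent.Lib.Sig.TransferApps

set_option autoImplicit false
universe u
open Cfsg

namespace Cfsg.Agent.S1998

/-- Let p be a prime, G a finite group with Sylow p-subgroup S, and 𝓦 a nonempty set of isomorphism-invariant p-group functors (W assigns to every group Q a subgroup W(Q), nontrivial whenever Q is a nontrivial finite p-group, and every isomorphism from a finite p-group Q onto a group R carries W(Q) onto W(R)). Suppose the induced conjugacy functors control transfer in every section of G other than G itself, but not in G. Let T be the subgroup generated by the S ∩ (N_G(W(S)))', W ∈ 𝓦, and M = N_G(T ∩ O_p(G)). Then: C_G(O_p(G)) ≤ O_p(G); M is a proper subgroup of G containing every proper subgroup of G that contains S (the unique maximal subgroup over S); [O_p(G), M] ≤ O_p(G) ∩ M' ≤ O_p(G) ∩ T; and every element u of S outside O_p(G) satisfies [X, u, …, u] ≰ Y with p − 1 entries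 u, for some chief factor X/Y of G with X ≤ O_p(G). -/
theorem result {G : Type u} [Group G] [Finite G] {p : ℕ} [Fact p.Prime] (S : Sylow p G) (𝓦 : Set (∀ (Q : Type u) [Group Q], Subgroup Q)) (h𝓦 : ∀ W ∈ 𝓦, Cfsg.IsCharPFunctor.{u} p W) (hne : 𝓦.Nonempty) (hsec : ∀ (K R : Subgroup G) [hR : (R.subgroupOf K).Normal], (K = ⊤ → R ≠ ⊥) → Cfsg.FamilyControlsTransferIn p ((fun W => Cfsg.inducedFunctor (G := (↥K ⧸ R.subgroupOf K)) W) '' 𝓦) ⊤) (hG : ¬ Cfsg.FamilyControlsTransferIn p ((fun W => Cfsg.inducedFunctor (G := G) W) '' 𝓦) ⊤) (T M : Subgroup G) (hT : T = (⨆ W ∈ 𝓦, (S : Subgroup G) ⊓ ⁅Subgroup.normalizer ((Cfsg.inducedFunctor (G := G) W (S : Subgroup G) : Subgroup G) : Set G), Subgroup.normalizer ((Cfsg.inducedFunctor (G := G) W (S : Subgroup G) : Subgroup G) : Set G)⁆)) (hM : M = Subgroup.normalizer ((T ⊓ Cfsg.pCore p G : Subgroup G) : Set G)) : Subgroup.centralizer ((Cfsg.pCore p G : Subgroup G) : Set G) ≤ Cfsg.pCore p G ∧ (M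 ≠ ⊤ ∧ ∀ H : Subgroup G, (S : Subgroup G) ≤ H → H ≠ ⊤ → H ≤ M) ∧ (⁅Cfsg.pCore p G, M⁆ ≤ Cfsg.pCore p G ⊓ ⁅M, M⁆ ∧ Cfsg.pCore p G ⊓ ⁅M, M⁆ ≤ Cfsg.pCore p G ⊓ T) ∧ ∀ u : G, u ∈ (S : Subgroup G) → u ∉ Cfsg.pCore p G → ∃ U V : Subgroup G, Cfsg.IsChiefFactor U V ∧ U ≤ Cfsg.pCore p G ∧ ¬ Cfsg.iterCommutator U (Subgroup.zpowers u) (p - 1) ≤ V := by
  set 𝓕 := Cfsg.Lib.Sig.inducedFamily 𝓦 G with h𝓕def
  have h𝓕 := Cfsg.Lib.Sig.isConjugacyFunctor_inducedFamily 𝓦 h𝓦 G
  set Q := Cfsg.pCore p G with hQdef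
  -- sections other than `G` itself
  have hs : ∀ (Y : Type u) [Group Y] [Finite Y] (L : Subgroup G) (f : ↥L →* Y),
      Function.Surjective f → (L = ⊤ → f.ker ≠ ⊥) →
        Cfsg.FamilyControlsTransferIn p (Cfsg.Lib.Sig.inducedFamily 𝓦 Y) ⊤ := by
    intro Y _ _ L f hf hne'
    set R := f.ker.map L.subtype with hR
    have hRL : R.subgroupOf L = f.ker :=
      Subgroup.comap_map_eq_self_of_injective L.subtype_injective _
    haveI : (R.subgroupOf L).Normal := hRL ▸ inferInstance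
    let e : (↥L ⧸ R.subgroupOf L) ≃* Y :=
      (QuotientGroup.quotientMulEquivOfEq hRL).trans (QuotientGroup.quotientKerEquivOfSurjective f hf)
    have h1 := hsec L R fun hL e0 => hne' hL
      ((Subgroup.map_eq_bot_iff_of_injective _ L.subtype_injective).1 e0)
    have h2 := Cfsg.Lib.Sig.familyControlsTransferIn_map 𝓦 h𝓦 e.toMonoidHom e.injective h1
    rwa [MonoidHom.range_eq_top.2 e.surjective] at h2
  -- constrained
  have hconstr : Subgroup.centralizer (Q : Set G) ≤ Q := by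
    by_contra hnc
    refine hG (Cfsg.Lib.Sig.transfer_of_sections 𝓦 h𝓦 (Nat.card G) G le_rfl ?_)
    intro Y _ _ L f hf hY
    by_cases h : L = ⊤ → f.ker ≠ ⊥
    · exact hs Y L f hf h
    exfalso
    push Not at h
    obtain ⟨hL, hker⟩ := h
    subst hL
    let e : G ≃* Y := Subgroup.topEquiv.symm.trans
      (MulEquiv.ofBijective f ⟨(MonoidHom.ker_eq_bot_iff f).1 hker, hf⟩)
    refine hnc fun z hz => ?_
    have h1 : e z ∈ Subgroup.centralizer (Cfsg.pCore p Y : Set Y) := by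
      refine Subgroup.mem_centralizer_iff.2 fun w hw => ?_
      rw [← Cfsg.Lib.Core.map_pCore_equiv (p := p) e] at hw
      obtain ⟨v, hv, rfl⟩ := hw
      show e v * e z = e z * e v
      rw [← map_mul, Subgroup.mem_centralizer_iff.1 hz v hv, map_mul]
    have h2 := hY h1
    rw [← Cfsg.Lib.Core.map_pCore_equiv (p := p) e] at h2
    exact (Subgroup.mem_map_iff_mem e.injective).1 h2
  -- proper subgroups
  have hfrom : ∀ L : Subgroup G, L ≠ ⊤ → (S : Subgroup G) ≤ L →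
      (S : Subgroup G) ⊓ ⁅L, L⁆ ≤ Cfsg.Lib.Sig.transferSpan 𝓕 (S : Subgroup G) := by
    intro L hL hSL
    have h2 := Cfsg.Lib.Sig.familyControlsTransferIn_map 𝓦 h𝓦 L.subtype L.subtype_injective
      (hs ↥L L (MonoidHom.id _) (fun y => ⟨y, rfl⟩) fun h => absurd h hL)
    rw [Subgroup.range_subtype] at h2
    exact Cfsg.Lib.Sig.inf_commutator_le_of_subgroup h𝓕 S hSL h2
  have hQne : Q ≠ ⊥ := by
    intro hQ
    refine hG (Cfsg.Lib.Sig.familyControlsTransferIn_of_le S 𝓕 ?_)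
    intro x _
    have h : x ∈ Q := hconstr (Subgroup.mem_centralizer_iff.2 fun y hy => by
      rw [hQ, SetLike.mem_coe, Subgroup.mem_bot] at hy; subst hy; simp)
    rw [hQ, Subgroup.mem_bot] at h
    subst h; exact one_mem _
  have hquot : Cfsg.FamilyControlsTransferIn p (Cfsg.Lib.Sig.inducedFamily 𝓦 (G ⧸ Q)) ⊤ := by
    refine hs (G ⧸ Q) ⊤ ((QuotientGroup.mk' Q).comp (⊤ : Subgroup G).subtype) ?_ ?_
    · intro y
      obtain ⟨x, rfl⟩ := QuotientGroup.mk'_surjective Q y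
      exact ⟨⟨x, Subgroup.mem_top x⟩, rfl⟩
    · intro _ hk
      refine hQne ((Subgroup.eq_bot_iff_forall _).2 fun q hq => ?_)
      have h1 : (⟨q, Subgroup.mem_top q⟩ : (⊤ : Subgroup G)) ∈
          ((QuotientGroup.mk' Q).comp (⊤ : Subgroup G).subtype).ker :=
        MonoidHom.mem_ker.2 ((QuotientGroup.eq_one_iff q).2 hq)
      rw [hk, Subgroup.mem_bot] at h1
      exact congrArg Subtype.val h1
  have hfail : ¬ Q ⊓ commutator G ≤ Cfsg.Lib.Sig.transferSpan 𝓕 (S : Subgroup G) := fun h =>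
    hG (Cfsg.Lib.Sig.familyControlsTransferIn_of_le S 𝓕
      (Cfsg.Lib.Sig.inf_commutator_le_of_pCore 𝓦 h𝓦 S hfrom hquot h))
  have hne' : 𝓕.Nonempty := hne.image _
  have hTR : T = Cfsg.Lib.Sig.transferSpan 𝓕 (S : Subgroup G) := by
    rw [hT, h𝓕def]; simp only [Cfsg.Lib.Sig.transferSpan, Cfsg.Lib.Sig.inducedFamily, iSup_image]
  obtain ⟨_, hMtop, hover, hQM, hM'⟩ := Cfsg.Lib.Sig.transferFailure_maximal h𝓕 hne' S hfrom hfail
  rw [hTR] at hM ⊢
  subst hM
  exact ⟨hconstr, ⟨hMtop, hover⟩, ⟨hQM, hM'⟩, fun u hu huQ =>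
    Cfsg.Lib.Sig.transferFailure_degree h𝓕 hne' S hfrom hfail u hu huQ⟩

end Cfsg.Agent.S1998
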