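import Cfsg.Statements.S1999
import Cfsg.Agent.Lib.Local.SFourFF.Control
import Cfsg.Agent.S2761

set_option autoImplicit false
open Cfsg

namespace Cfsg.Agent.S1999

/-- Let G be a finite group. The symmetric group of degree 4 is not involved in G if and only if, in every section K/R of G, the pair of conjugacy functors {Z, J_e} controls strong fusion (for the prime 2): here Z(P) is the centre and J_e(P) the subgroup generated by the elementary abelian subgroups of P of largest order, and control by the pair means that 2-fusion of tuples inside a Sylow 2-subgroup T of the section is generated, staying inside T, by conjugation inside N(Z(T)) and N(J_e(T)). -/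
theorem result {G : Type*} [Group G] [Finite G] : ¬ Cfsg.Involves (Equiv.Perm (Fin 4)) G ↔ ∀ (K R : Subgroup G) [hR : (R.subgroupOf K).Normal], Cfsg.FamilyControlsStrongFusionIn 2 ({fun P : Subgroup (↥K ⧸ R.subgroupOf K) => P ⊓ Subgroup.centralizer ((P : Subgroup (↥K ⧸ R.subgroupOf K)) : Set (↥K ⧸ R.subgroupOf K)), fun P : Subgroup (↥K ⧸ R.subgroupOf K) => Cfsg.thompsonSubgroupOf 2 P} : Set (Subgroup (↥K ⧸ R.subgroupOf K) → Subgroup (↥K ⧸ R.subgroupOf K))) ⊤ := by
  open Cfsg.Lib.Local.SFourFF in
  constructor
  · intro hfree K R hR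
    have h := zj_controls (Y := ↥K ⧸ R.subgroupOf K) (fun h => hfree
      (Cfsg.Lib.FusionSys.involves_of_injective K.subtype_injective
        (Cfsg.Lib.FusionSys.involves_of_surjective (QuotientGroup.mk'_surjective _) h)))
    rw [inducedFunctor_ctrFun, inducedFunctor_jFun] at h
    exact h
  · rintro h ⟨K, R, hR, ⟨e⟩⟩
    haveI : Fact (Nat.Prime 2) := ⟨Nat.prime_two⟩
    obtain ⟨e'⟩ := Cfsg.Agent.S2761.result
    refine not_controls_of_qd (p := 2) (e.trans e'.symm) {ctrFun, jFun}
      (by rintro W (rfl | rfl); exacts [isCharPFunctor_ctrFun, isCharPFunctor_jFun]) ?_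
    rw [Set.image_insert_eq, Set.image_singleton, inducedFunctor_ctrFun, inducedFunctor_jFun]
    exact h K R

end Cfsg.Agent.S1999
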