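import Cfsg.Statements.S2000
import Cfsg.Agent.Lib.Local.SFourFF.Control
import Cfsg.Agent.S2761
import Cfsg.Agent.Lib.FusionSys.QdFreeElementary

set_option autoImplicit false
universe u
open Cfsg

namespace Cfsg.Agent.S2000

/-- Let p be a prime and G a finite group. Then Qd(p) (the natural semidirect product of an elementary abelian group of order p² by SL₂(p)) is not involved in G if and only if there is a set 𝓦 of isomorphism-invariant p-group functors (each nontrivial on nontrivial finite p-groups and carried onto W(R) by every isomorphism from a finite p-group Q onto R, hence with characteristic values on finite p-groups) whose induced conjugacy functors control strong fusion in every section of G. -/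
theorem result {G : Type u} [Group G] [Finite G] {p : ℕ} [Fact p.Prime] : ¬ Cfsg.Involves ↥(Cfsg.qd p) G ↔ ∃ 𝓦 : Set (∀ (Q : Type u) [Group Q], Subgroup Q), (∀ W ∈ 𝓦, Cfsg.IsCharPFunctor.{u} p W) ∧ ∀ (K R : Subgroup G) [hR : (R.subgroupOf K).Normal], Cfsg.FamilyControlsStrongFusionIn p ((fun W => Cfsg.inducedFunctor (G := (↥K ⧸ R.subgroupOf K)) W) '' 𝓦) ⊤ := by
  open Cfsg.Lib.Local.SFourFF in
  constructor
  · intro hfree
    by_cases h2 : p = 2
    · subst h2
      refine ⟨{ctrFun, jFun},
        (by rintro W (rfl | rfl); exacts [isCharPFunctor_ctrFun, isCharPFunctor_jFun]), fun K R hR => ?_⟩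
      rw [Set.image_insert_eq, Set.image_singleton]
      refine zj_controls fun h => hfree ?_
      obtain ⟨e'⟩ := Cfsg.Agent.S2761.result
      have h1 := Cfsg.Lib.FusionSys.involves_of_injective K.subtype_injective
        (Cfsg.Lib.FusionSys.involves_of_surjective (QuotientGroup.mk'_surjective _) h)
      obtain ⟨K', f, hf⟩ := Cfsg.Lib.FusionSys.involves_iff_exists_hom.1 h1
      exact Cfsg.Lib.FusionSys.involves_iff_exists_hom.2
        ⟨K', e'.symm.toMonoidHom.comp f, e'.symm.surjective.comp hf⟩
    · refine ⟨{(Cfsg.Lib.FusionSys.zjeFamily.{u} p : ∀ (Q : Type u) [Group Q], Subgroup Q)}, ?_, fun K R hR => ?_⟩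
      · rintro W rfl
        refine ⟨fun Q _ _ hQ hnt => ?_, fun Q R _ _ _ _ φ => ?_⟩
        · refine Cfsg.Lib.Local.GlaubermanZJ.centerThompsonOf_ne_bot (hQ.to_subgroup ⊤) ?_
          rw [← Subgroup.nontrivial_iff_ne_bot]
          exact Subgroup.topEquiv.toEquiv.nontrivial
        · rw [Cfsg.Lib.FusionSys.zjeFamily, Cfsg.Lib.FusionSys.map_centerThompsonOf_injOn φ.toMonoidHom ⊤
            φ.injective.injOn, Subgroup.map_top_of_surjective _ φ.surjective]
          rfl
      · rw [Set.image_singleton]
        set Y := ↥K ⧸ R.subgroupOf K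
        have hfree' : ¬ Cfsg.Involves ↥(Cfsg.qd p) Y := fun h =>
          hfree (Cfsg.Lib.FusionSys.involves_of_injective K.subtype_injective
            (Cfsg.Lib.FusionSys.involves_of_surjective (QuotientGroup.mk'_surjective _) h))
        obtain ⟨T⟩ : Nonempty (Sylow p Y) := inferInstance
        refine ⟨T, le_top, T.2, by simpa using T.not_dvd_index, fun A h _ hA hA' => ?_⟩
        obtain ⟨x, hx, hxA⟩ := (Cfsg.Lib.FusionSys.controls_zje_of_qdFree h2 T hfree' A hA).2 h hA'
        refine ⟨1, ![1, x], rfl, fun i => ⟨_, rfl, Subgroup.mem_inf.2 ⟨Subgroup.mem_top _, ?_⟩⟩,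
          fun i => ?_, fun a ha => (hxA a ha).symm⟩
        · fin_cases i
          rw [show Cfsg.inducedFunctor (Cfsg.Lib.FusionSys.zjeFamily p) (T : Subgroup Y) =
            Cfsg.centerThompsonOf p (T : Subgroup Y) from Cfsg.Lib.FusionSys.functorOf_zjeFamily _]
          simpa using hx
        · fin_cases i
          · simpa using hA
          · rintro _ ⟨a, ha, rfl⟩
            show x * a * x⁻¹ ∈ (T : Subgroup Y)
            rw [← hxA a ha]
            exact hA' ⟨a, ha, rfl⟩
  · rintro ⟨𝓦, h𝓦, h⟩ ⟨K, R, hR, ⟨e⟩⟩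
    exact not_controls_of_qd e 𝓦 h𝓦 (h K R)

end Cfsg.Agent.S2000
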