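import Cfsg.Statements.S2001
import Cfsg.Agent.Lib.Sig.CentralPair

set_option autoImplicit false
open Cfsg

namespace Cfsg.Agent.S2001

/-- Let p be a prime dividing the order of the finite group G, P a Sylow p-subgroup, W a conjugacy functor for p on G with Z(H) ≤ W(H) for every nontrivial p-subgroup H, and V a central functor: a conjugacy functor with V(H) ≤ Z(H), and V(H) ≤ V(K) whenever Z(H) ≤ Z(K), for nontrivial p-subgroups H, K. Say that W with V controls transfer in a subgroup L when some Sylow p-subgroup Q of L satisfies Q ∩ L' = (Q ∩ (N_L(W(Q)))')·(Q ∩ (C_L(V(Q)))') as a product of two subgroups. If W with V controls transfer in N_G(H) for every subgroup H with Z(P) ≤ H ≤ P, then W with V controls transfer in G. -/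
theorem result {G : Type*} [Group G] [Finite G] {p : ℕ} [Fact p.Prime] (hdiv : p ∣ Nat.card G) (P : Sylow p G) (W V : Subgroup G → Subgroup G) (hW : Cfsg.IsConjugacyFunctor p W) (hV : Cfsg.IsConjugacyFunctor p V) (hWZ : ∀ H : Subgroup G, IsPGroup p ↥H → H ⊓ Subgroup.centralizer ((H : Subgroup G) : Set G) ≤ W H) (hVZ : ∀ H : Subgroup G, IsPGroup p ↥H → V H ≤ H ⊓ Subgroup.centralizer ((H : Subgroup G) : Set G)) (hVmono : ∀ H K : Subgroup G, IsPGroup p ↥H → IsPGroup p ↥K → H ≠ ⊥ → K ≠ ⊥ → H ⊓ Subgroup.centralizer ((H : Subgroup G) : Set G) ≤ K ⊓ Subgroup.centralizer ((K : Subgroup G) : Set G) → V H ≤ V K) (hloc : ∀ H : Subgroup G, (P : Subgroup G) ⊓ Subgroup.centralizer (((P : Subgroup G) : Subgroup G) : Set G) ≤ H → H ≤ (P : Subgroup G) → ∃ Q : Subgroup G, Q ≤ Subgroup.normalizer ((H : Subgroup G) : Set G) ∧ IsPGroup p ↥Q ∧ ¬ p ∣ (Q).relIndex (Subgroup.normalizer ((H : Subgroup G) : Set G)) ∧ ∀ x : G, x ∈ Q ⊓ ⁅Subgroup.normalizer ((H : Subgroup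 G) : Set G), Subgroup.normalizer ((H : Subgroup G) : Set G)⁆ ↔ ∃ a ∈ Q ⊓ ⁅Subgroup.normalizer ((H : Subgroup G) : Set G) ⊓ Subgroup.normalizer ((W Q : Subgroup G) : Set G), Subgroup.normalizer ((H : Subgroup G) : Set G) ⊓ Subgroup.normalizer ((W Q : Subgroup G) : Set G)⁆, ∃ b ∈ Q ⊓ ⁅Subgroup.normalizer ((H : Subgroup G) : Set G) ⊓ Subgroup.centralizer ((V Q : Subgroup G) : Set G), Subgroup.normalizer ((H : Subgroup G) : Set G) ⊓ Subgroup.centralizer ((V Q : Subgroup G) : Set G)⁆, x = a * b) : ∃ Q : Subgroup G, IsPGroup p ↥Q ∧ ¬ p ∣ Q.index ∧ ∀ x : G, x ∈ Q ⊓ commutator G ↔ ∃ a ∈ Q ⊓ ⁅Subgroup.normalizer ((W Q : Subgroup G) : Set G), Subgroup.normalizer ((W Q : Subgroup G) : Set G)⁆, ∃ b ∈ Q ⊓ ⁅Subgroup.centralizer ((V Q : Subgroup G) : Set G), Subgroup.centralizer ((V Q : Subgroup G) : Set G)⁆, x = a * b := by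
    have hloc' : ∀ H : Subgroup G, (P : Subgroup G) ⊓ Subgroup.centralizer ((P : Subgroup G) : Set G) ≤ H →
        H ≤ (P : Subgroup G) → ∃ Q : Subgroup G, Q ≤ Subgroup.normalizer (H : Set G) ∧ IsPGroup p ↥Q ∧
          ¬ p ∣ Q.relIndex (Subgroup.normalizer (H : Set G)) ∧
        Q ⊓ ⁅Subgroup.normalizer (H : Set G), Subgroup.normalizer (H : Set G)⁆ ≤
          (Q ⊓ ⁅Subgroup.normalizer (H : Set G) ⊓ Subgroup.normalizer (W Q : Set G),
              Subgroup.normalizer (H : Set G) ⊓ Subgroup.normalizer (W Q : Set G)⁆) ⊔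
          (Q ⊓ ⁅Subgroup.normalizer (H : Set G) ⊓ Subgroup.centralizer (V Q : Set G),
              Subgroup.normalizer (H : Set G) ⊓ Subgroup.centralizer (V Q : Set G)⁆) := fun H h1 h2 => by
      obtain ⟨Q, hQ1, hQ2, hQ3, hQ4⟩ := hloc H h1 h2
      exact ⟨Q, hQ1, hQ2, hQ3, fun x hx => by
        obtain ⟨a, ha, b, hb, rfl⟩ := (hQ4 x).1 hx
        exact Subgroup.mul_mem_sup ha hb⟩
    have key := Cfsg.Lib.Sig.transfer_pair_local_to_global P W V hW hV hWZ hVmono hloc'
    refine ⟨P, P.2, P.not_dvd_index, fun x => ⟨fun hx => ?_, ?_⟩⟩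
    · set A := (P : Subgroup G) ⊓ ⁅Subgroup.normalizer (W (P : Subgroup G) : Set G),
        Subgroup.normalizer (W (P : Subgroup G) : Set G)⁆ with hA
      set B := (P : Subgroup G) ⊓ ⁅Subgroup.centralizer (V (P : Subgroup G) : Set G),
        Subgroup.centralizer (V (P : Subgroup G) : Set G)⁆ with hB
      have hAB : A ≤ Subgroup.normalizer (B : Set G) := fun z hz => by
        have hzC : z ∈ Subgroup.centralizer (V (P : Subgroup G) : Set G) :=
          Subgroup.mem_centralizer_iff.2 fun v hv =>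
            (Subgroup.mem_centralizer_iff.1 (hVZ _ P.2 hv).2 z hz.1).symm
        refine Cfsg.Lib.Sig.mem_normalizer_of_map_conj ?_
        rw [hB, Subgroup.map_inf _ _ _ (MulAut.conj z).injective, Subgroup.map_commutator,
          Cfsg.Lib.Sig.map_conj_eq_of_mem_normalizer (Subgroup.le_normalizer hz.1),
          Cfsg.Lib.Sig.map_conj_eq_of_mem_normalizer (Subgroup.le_normalizer hzC)]
      have hx' := key hx
      rw [← SetLike.mem_coe, Subgroup.coe_mul_of_left_le_normalizer_right A B hAB] at hx'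
      obtain ⟨a, ha, b, hb, rfl⟩ := hx'
      exact ⟨a, ha, b, hb, rfl⟩
    · rintro ⟨a, ha, b, hb, rfl⟩
      exact ⟨mul_mem ha.1 hb.1, mul_mem (Subgroup.commutator_mono le_top le_top ha.2)
        (Subgroup.commutator_mono le_top le_top hb.2)⟩

end Cfsg.Agent.S2001
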