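import Cfsg.Statements.S2002
import Cfsg.Agent.Lib.Sig.CentralPair

set_option autoImplicit false
open Cfsg

namespace Cfsg.Agent.S2002

/-- Let p be a prime dividing the order of the finite group G, P a Sylow p-subgroup, W a conjugacy functor for p on G with Z(H) ≤ W(H) for every nontrivial p-subgroup H, and V a central functor (a conjugacy functor with V(H) ≤ Z(H), and V(H) ≤ V(K) whenever Z(H) ≤ Z(K)). Say that W with V controls strong fusion in a subgroup L when some Sylow p-subgroup Q of L has the property: whenever X ⊆ Q and a ∈ L with a⁻¹Xa ⊆ Q, then a = c b with c ∈ C_L(X) and b = b₁ ⋯ bₙ a product of elements each in N_L(W(Q)) or in C_L(V(Q)) such that every partial conjugate (b₁ ⋯ bₖ)⁻¹ X (b₁ ⋯ bₖ) lies in Q. If W with V controls strong fusion in N_G(H) for every subgroup H with Z(P) ≤ H ≤ P, then W with V controls strong fusion in G. -/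
theorem result {G : Type*} [Group G] [Finite G] {p : ℕ} [Fact p.Prime] (hdiv : p ∣ Nat.card G) (P : Sylow p G) (W V : Subgroup G → Subgroup G) (hW : Cfsg.IsConjugacyFunctor p W) (hV : Cfsg.IsConjugacyFunctor p V) (hWZ : ∀ H : Subgroup G, IsPGroup p ↥H → H ⊓ Subgroup.centralizer ((H : Subgroup G) : Set G) ≤ W H) (hVZ : ∀ H : Subgroup G, IsPGroup p ↥H → V H ≤ H ⊓ Subgroup.centralizer ((H : Subgroup G) : Set G)) (hVmono : ∀ H K : Subgroup G, IsPGroup p ↥H → IsPGroup p ↥K → H ≠ ⊥ → K ≠ ⊥ → H ⊓ Subgroup.centralizer ((H : Subgroup G) : Set G) ≤ K ⊓ Subgroup.centralizer ((K : Subgroup G) : Set G) → V H ≤ V K) (hloc : ∀ H : Subgroup G, (P : Subgroup G) ⊓ Subgroup.centralizer (((P : Subgroup G) : Subgroup G) : Set G) ≤ H → H ≤ (P : Subgroup G) → ∃ Q : Subgroup G, Q ≤ Subgroup.normalizer ((H : Subgroup G) : Set G) ∧ IsPGroup p ↥Q ∧ ¬ p ∣ (Q).relIndex (Subgroup.normalizer ((H : Subgroup G) : Set G)) ∧ ∀ (X : Set G) (a : G), X ⊆ Q →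 a ∈ Subgroup.normalizer ((H : Subgroup G) : Set G) → (fun x => a⁻¹ * x * a) '' X ⊆ Q → ∃ c ∈ Subgroup.normalizer ((H : Subgroup G) : Set G) ⊓ Subgroup.centralizer X, ∃ (n : ℕ) (b : Fin n → G), (∀ i, b i ∈ Subgroup.normalizer ((H : Subgroup G) : Set G) ⊓ Subgroup.normalizer ((W Q : Subgroup G) : Set G) ∨ b i ∈ Subgroup.normalizer ((H : Subgroup G) : Set G) ⊓ Subgroup.centralizer ((V Q : Subgroup G) : Set G)) ∧ a = c * (List.ofFn b).prod ∧ ∀ k : ℕ, k ≤ n → (fun x => (((List.ofFn b).take k).prod)⁻¹ * x * ((List.ofFn b).take k).prod) '' ((fun x => c⁻¹ * x * c) '' X) ⊆ Q) : ∃ Q : Subgroup G, IsPGroup p ↥Q ∧ ¬ p ∣ Q.index ∧ ∀ (X : Set G) (a : G), X ⊆ Q → (fun x => a⁻¹ * x * a) '' X ⊆ Q → ∃ c ∈ Subgroup.centralizer X, ∃ (n : ℕ) (b : Fin n → G), (∀ i, b i ∈ ⊤ ⊓ Subgroup.normalizer ((W Q : Subgroup G) : Set G) ∨ b i ∈ ⊤ ⊓ Subgroup.centralizer ((V Q : Subgroup G) : Set G)) ∧ a = c * (List.ofFn b).prod ∧ ∀ k : ℕ, k ≤ n → (fun x =>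 (((List.ofFn b).take k).prod)⁻¹ * x * ((List.ofFn b).take k).prod) '' ((fun x => c⁻¹ * x * c) '' X) ⊆ Q := by
    refine ⟨P, P.2, P.not_dvd_index, fun X a hX hX' => ?_⟩
    obtain ⟨g, hg, e⟩ := Cfsg.Lib.Sig.strongFusion_pair_local_to_global P W V hW hV hWZ hVmono hloc
      (A := X) (h := a⁻¹) hX (by simpa using hX')
    obtain ⟨l, hl, hprod, hpre⟩ := hg.exists_list (fun x hx => hx.imp inv_mem inv_mem)
    have hfix : ∀ x ∈ X, (a * g)⁻¹ * x * (a * g) = x := fun x hx => by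
      have h1 := e x hx
      rw [inv_inv] at h1
      calc (a * g)⁻¹ * x * (a * g) = g⁻¹ * (a⁻¹ * x * a) * g := by group
        _ = x := by rw [← h1]; group
    refine ⟨a * g, Subgroup.mem_centralizer_iff.2 fun x hx => ?_, l.length, fun i => l[(i : ℕ)], ?_, ?_, ?_⟩
    · calc x * (a * g) = (a * g) * ((a * g)⁻¹ * x * (a * g)) := by group
        _ = a * g * x := by rw [hfix x hx]
    · intro i
      rcases hl _ (List.getElem_mem i.2) with h | h
      · exact Or.inl ⟨Subgroup.mem_top _, h⟩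
      · exact Or.inr ⟨Subgroup.mem_top _, h⟩
    · have : List.ofFn (fun i : Fin l.length => l[(i : ℕ)]) = l := List.ofFn_getElem
      rw [this, hprod, mul_inv_cancel_right]
    · intro k hk
      have : List.ofFn (fun i : Fin l.length => l[(i : ℕ)]) = l := List.ofFn_getElem
      rw [this]
      rintro _ ⟨_, ⟨x, hx, rfl⟩, rfl⟩
      simp only [hfix x hx]
      exact hpre k hk ⟨x, hx, rfl⟩

end Cfsg.Agent.S2002
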