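import Cfsg.Statements.S2004
import Cfsg.Agent.Lib.Local.QdInvolved

set_option autoImplicit false
open Cfsg

namespace Cfsg.Agent.S2004

/-- Let p be an odd prime and G a finite group such that SL₂(p) is not involved in N_G(P) for any nonidentity p-subgroup P of G. Then every section of G is p-stable in the normalizer form: in each section, whenever an element of the normalizer of a p-subgroup Q acts quadratically on Q, its image in N(Q)/C(Q) lies in O_p(N(Q)/C(Q)). -/
theorem result {G : Type*} [Group G] [Finite G] {p : ℕ} [Fact p.Prime] (hp : p ≠ 2) (h : ∀ P : Subgroup G, IsPGroup p ↥P → P ≠ ⊥ → ¬ Cfsg.Involves (Matrix.SpecialLinearGroup (Fin 2) (ZMod p)) ↥(Subgroup.normalizer ((P : Subgroup G) : Set G))) : ∀ (K R : Subgroup G) [hR : (R.subgroupOf K).Normal], Cfsg.IsNormalizerPStable p (↥K ⧸ R.subgroupOf K) := by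
  have hfree : ¬ Cfsg.Involves ↥(Cfsg.qd p) G := by
    intro hq
    obtain ⟨Q, hQp, hQc, J, ψ, hJ, hψ⟩ := Cfsg.Lib.FusionSys.exists_centric_qd hp hq
    refine h Q hQp (fun hQ => ?_) ?_
    · have h1 : p ∣ Nat.card G := by
        refine dvd_trans ?_ ((Subgroup.card_dvd_of_surjective ψ hψ).trans (Subgroup.card_subgroup_dvd_card J))
        refine dvd_trans ?_ (Subgroup.card_subgroup_dvd_card (Cfsg.Lib.Local.QdGroup.block p).ker)
        rw [Cfsg.Lib.Local.QdGroup.card_ker_block]
        exact dvd_pow_self p two_ne_zero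
      obtain ⟨x, hx⟩ := exists_prime_orderOf_dvd_card' p h1
      have h2 := hQc x (by
          rw [hQ]
          exact Subgroup.mem_centralizer_iff.2 fun y hy => by simp [Subgroup.mem_bot.1 hy])
        (IsPGroup.of_card (n := 1) (by rw [Nat.card_zpowers, hx, pow_one]))
      rw [hQ, Subgroup.mem_bot] at h2
      rw [h2, orderOf_one] at hx
      exact (Fact.out : p.Prime).one_lt.ne hx
    · refine Cfsg.Lib.FusionSys.involves_iff_exists_hom.2
        ⟨J.subgroupOf _, ((Cfsg.Lib.Local.QdGroup.block p).comp ψ).comp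
          (Subgroup.subgroupOfEquivOfLe hJ).toMonoidHom,
          ((Cfsg.Lib.Local.QdGroup.block_surjective p).comp hψ).comp
            (Subgroup.subgroupOfEquivOfLe hJ).surjective⟩
  intro K R hR
  refine Cfsg.Lib.Local.QdInvolved.isNormalizerPStable_of_not_involves_qd hp fun hq => hfree ?_
  exact Cfsg.Lib.FusionSys.involves_of_injective K.subtype_injective
    (Cfsg.Lib.FusionSys.involves_of_surjective (QuotientGroup.mk'_surjective (R.subgroupOf K)) hq)

end Cfsg.Agent.S2004
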