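import Cfsg.Statements.S2005
import Cfsg.Agent.Lib.Sig.ComplementCriterion

set_option autoImplicit false
universe u
open Cfsg

namespace Cfsg.Agent.S2005

/-- Thompson's normal p-complement criterion in functor form. Let p be a prime, G a finite group with Sylow p-subgroup S, and W an isomorphism-invariant p-group functor (W assigns to every group Q a subgroup W(Q), nontrivial whenever Q is a nontrivial finite p-group, and every isomorphism from a finite p-group Q onto a group R carries W(Q) onto W(R)). Suppose N_G(W(S)) has a normal p-complement, and that W(S*) is normal in G* whenever G* = K/R is a section of G with C_{G*}(O_p(G*)) ≤ O_p(G*) such that G*/O_p(G*) has a normal p-complement, and S* is a Sylow p-subgroup of G* that is a maximal subgroup of G*. Then G has a normal p-complement. -/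
theorem result {G : Type u} [Group G] [Finite G] {p : ℕ} [Fact p.Prime] (W : ∀ (Q : Type u) [Group Q], Subgroup Q) (hW : Cfsg.IsCharPFunctor.{u} p W) (S : Sylow p G) (hN : Cfsg.HasNormalPComplement p ↥(Subgroup.normalizer ((Cfsg.inducedFunctor (G := G) W (S : Subgroup G) : Subgroup G) : Set G))) (hloc : ∀ (K R : Subgroup G) [hR : (R.subgroupOf K).Normal], Subgroup.centralizer ((Cfsg.pCore p (↥K ⧸ R.subgroupOf K) : Subgroup (↥K ⧸ R.subgroupOf K)) : Set (↥K ⧸ R.subgroupOf K)) ≤ Cfsg.pCore p (↥K ⧸ R.subgroupOf K) → Cfsg.HasNormalPComplement p ((↥K ⧸ R.subgroupOf K) ⧸ Cfsg.pCore p (↥K ⧸ R.subgroupOf K)) → ∀ T : Sylow p (↥K ⧸ R.subgroupOf K), IsCoatom (T : Subgroup (↥K ⧸ R.subgroupOf K)) → (Cfsg.inducedFunctor (G := (↥K ⧸ R.subgroupOf K)) W ((T : Subgroup (↥K ⧸ R.subgroupOf K)))).Normal) : Cfsg.HasNormalPComplement p G := by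
    refine Cfsg.Lib.Sig.hasNormalPComplement_of_functor hW
      (fun (Y : Type u) [Group Y] => Cfsg.HasNormalPComplement p (Y ⧸ Cfsg.pCore p Y) →
        ∀ T : Sylow p Y, IsCoatom (T : Subgroup Y) →
          (Cfsg.inducedFunctor (G := Y) W (T : Subgroup Y)).Normal)
      (fun Y _ _ h _ hq T hT => h hq T hT) (Nat.card G) G le_rfl ?_ S hN
    refine Cfsg.Lib.Sig.sectionHyp_of_sections ?_ fun K R hR hc => hloc K R hc
    intro Y Z _ _ _ _ e h hq T hT
    refine Cfsg.Lib.Sig.normal_inducedFunctor_congr hW e T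
      (h (Cfsg.Lib.Sig.hasNormalPComplement_quotient_pCore_congr e hq) _ ?_)
    change IsCoatom ((T : Subgroup Z).map e.symm.toMonoidHom)
    exact (e.symm.mapSubgroup.isCoatom_iff _).2 hT

end Cfsg.Agent.S2005
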