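import Cfsg.Statements.S2007
import Cfsg.Agent.Lib.Fusion.Abelian
import Cfsg.Agent.Lib.Solv.Nilpotent
import Cfsg.Agent.Lib.Sig.Small

set_option autoImplicit false
open Cfsg

namespace Cfsg.Agent.S2007

/-- Let p be a prime, G a finite group with Sylow p-subgroup S, and T a normal subgroup of S containing C_S(T). If N_G(T)/C_G(T) is a p-group (every element of N_G(T) of order prime to p centralizes T), then N_G(T) has a normal p-complement. -/
theorem result {G : Type*} [Group G] [Finite G] {p : ℕ} [Fact p.Prime] (S : Sylow p G) (T : Subgroup G) (hTS : T ≤ (S : Subgroup G)) (hTn : (S : Subgroup G) ≤ Subgroup.normalizer ((T : Subgroup G) : Set G)) (hC : (S : Subgroup G) ⊓ Subgroup.centralizer ((T : Subgroup G) : Set G) ≤ T) (hN : ∀ g ∈ Subgroup.normalizer ((T : Subgroup G) : Set G), (orderOf g).Coprime p → g ∈ Subgroup.centralizer ((T : Subgroup G) : Set G)) : Cfsg.HasNormalPComplement p ↥(Subgroup.normalizer ((T : Subgroup G) : Set G)) := by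
    set N := Subgroup.normalizer (T : Set G) with hNdef
    set C := (Subgroup.centralizer (T : Set G)).subgroupOf N with hCdef
    have hCn : C.Normal := by
      refine ⟨fun c hc g => ?_⟩
      rw [hCdef, Subgroup.mem_subgroupOf] at hc ⊢
      refine Subgroup.mem_centralizer_iff.2 fun t ht => ?_
      have e : (g : G) * ((g : G)⁻¹ * t * g) * (g : G)⁻¹ = t := by group
      have h := Subgroup.mem_centralizer_iff.1 hc _ ((Subgroup.mem_normalizer_iff.1 g.2 _).2 (e.symm ▸ ht))
      push_cast
      calc t * (g * c * (g : G)⁻¹) = g * (((g : G)⁻¹ * t * g) * c) * (g : G)⁻¹ := by group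
        _ = g * (c * ((g : G)⁻¹ * t * g)) * (g : G)⁻¹ := by rw [h]
        _ = g * c * (g : G)⁻¹ * t := by group
    have hres : Cfsg.pResidual p ↥N ≤ C :=
      (Subgroup.closure_le _).2 fun x hx =>
        Subgroup.mem_subgroupOf.2 (hN x x.2 (by rwa [Subgroup.orderOf_coe]))
    set S₁ : Sylow p ↥N := S.subtype hTn with hS₁
    set Q := ((S₁ : Subgroup ↥N)).subgroupOf C with hQ
    have hQp : IsPGroup p ↥Q := S₁.2.comap_of_injective C.subtype C.subtype_injective
    let Q' : Sylow p ↥C := hQp.toSylow (Cfsg.Lib.Solv.not_dvd_relIndex_of_isSubnormal S₁ hCn.isSubnormal)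
    have hQz : (Q' : Subgroup ↥C) ≤ Subgroup.center ↥C := by
      intro q hq
      have h1 : ((q : ↥N) : G) ∈ (S : Subgroup G) := Subgroup.mem_subgroupOf.1 hq
      have h2 : ((q : ↥N) : G) ∈ Subgroup.centralizer (T : Set G) := Subgroup.mem_subgroupOf.1 q.2
      have hT : ((q : ↥N) : G) ∈ T := hC ⟨h1, h2⟩
      refine Subgroup.mem_center_iff.2 fun c => Subtype.ext (Subtype.ext ?_)
      exact (Subgroup.mem_centralizer_iff.1 (Subgroup.mem_subgroupOf.1 c.2) _ hT).symm
    have hC2 : Cfsg.HasNormalPComplement p ↥C :=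
      Cfsg.Lib.Fusion.hasNormalPComplement_of_normalizer_le_centralizer Q' fun c _ =>
        Subgroup.mem_centralizer_iff.2 fun q hq => (Subgroup.mem_center_iff.1 (hQz hq) c).symm
    refine Cfsg.Lib.Fusion.hasNormalPComplement_iff_coprime.2 ?_
    refine Nat.Coprime.coprime_dvd_left ?_ (Cfsg.Lib.Fusion.hasNormalPComplement_iff_coprime.1 hC2)
    refine dvd_trans (Subgroup.card_dvd_of_le ((Subgroup.closure_le _).2 fun x hx => ?_)) (Subgroup.card_map_dvd _ C.subtype)
    refine ⟨⟨x, hres (Subgroup.subset_closure hx)⟩, Subgroup.subset_closure ?_, rfl⟩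
    show (orderOf (⟨x, _⟩ : ↥C)).Coprime p
    rwa [Subgroup.orderOf_mk]

end Cfsg.Agent.S2007
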