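import Cfsg.Statements.S2008
import Cfsg.Agent.Lib.Sig.Small
import Mathlib.GroupTheory.SpecificGroups.KleinFour

set_option autoImplicit false
open Cfsg

namespace Cfsg.Agent.S2008

/-- Let H be a finite group and z an involution such that every proper normal subgroup of H meets the centralizer of z trivially, and suppose z lies in a Klein four-subgroup E of H all three of whose involutions are conjugate to z in H. Then H has no non-trivial abelian normal subgroup. -/
theorem result {H : Type*} [Group H] [Finite H] (z : H) (hz : orderOf z = 2) (hN : ∀ N : Subgroup H, N.Normal → N ≠ ⊤ → N ⊓ Subgroup.centralizer ({z} : Set H) = ⊥) (E : Subgroup H) (hE : IsKleinFour ↥E) (hzE : z ∈ E) (hc : ∀ e ∈ E, e ≠ 1 → IsConj z e) (N : Subgroup H) [N.Normal] (hab : IsMulCommutative ↥N) : N = ⊥ := by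
    by_contra hne
    by_cases htop : N = ⊤
    · obtain ⟨e, he, hez⟩ : ∃ e ∈ E, e ≠ 1 ∧ e ≠ z := by
        by_contra! hall
        have hsub : E ≤ Subgroup.zpowers z := fun e he => by
          by_cases h1 : e = 1
          · rw [h1]; exact one_mem _
          · rw [hall e he h1]; exact Subgroup.mem_zpowers z
        have h := Subgroup.card_le_of_le hsub
        rw [Nat.card_zpowers, hz, IsKleinFour.card_four (G := ↥E)] at h
        omega
      obtain ⟨g, hg⟩ := isConj_iff.1 (hc e he hez.1)
      have hcomm : ∀ a b : H, a * b = b * a := fun a b =>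
        congrArg Subtype.val (mul_comm' (⟨a, htop ▸ Subgroup.mem_top a⟩ : ↥N) ⟨b, htop ▸ Subgroup.mem_top b⟩)
      rw [hcomm g z] at hg
      exact hez.2 (by rw [← hg]; group)
    have hz2 : z * z = 1 := by
      have := pow_orderOf_eq_one z
      rwa [hz, pow_two] at this
    have inv : ∀ e ∈ E, e ≠ 1 → ∀ m ∈ N, e * m * e⁻¹ = m⁻¹ := by
      intro e he he1 m hm
      obtain ⟨g, hg⟩ := isConj_iff.1 (hc e he he1)
      have h := Cfsg.Lib.Sig.conj_eq_inv_of_fixedPointFree hz2 (fun n hn => Subgroup.Normal.conj_mem ‹_› n hn z)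
        (hN N ‹_› htop) (show g⁻¹ * m * g ∈ N by simpa using Subgroup.Normal.conj_mem ‹N.Normal› m hm g⁻¹)
      rw [← hg]
      calc g * z * g⁻¹ * m * (g * z * g⁻¹)⁻¹ = g * (z * (g⁻¹ * m * g) * z⁻¹) * g⁻¹ := by group
        _ = g * (g⁻¹ * m * g)⁻¹ * g⁻¹ := by rw [h]
        _ = m⁻¹ := by group
    obtain ⟨e, he, he1, hez⟩ : ∃ e ∈ E, e ≠ 1 ∧ e ≠ z := by
      by_contra! hall
      have hsub : E ≤ Subgroup.zpowers z := fun e he => by
        by_cases h1 : e = 1
        · rw [h1]; exact one_mem _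
        · rw [hall e he h1]; exact Subgroup.mem_zpowers z
      have h := Subgroup.card_le_of_le hsub
      rw [Nat.card_zpowers, hz, IsKleinFour.card_four (G := ↥E)] at h
      omega
    obtain ⟨m, hm, hm1⟩ := N.bot_or_exists_ne_one.resolve_left hne
    have hez1 : z * e ≠ 1 := fun h => hez (by
      have := mul_left_cancel (h.trans hz2.symm)
      exact this)
    have hz1 : z ≠ 1 := fun h => by simp [h] at hz
    have hcen : (z * e) * m * (z * e)⁻¹ = m := by
      calc (z * e) * m * (z * e)⁻¹ = z * (e * m * e⁻¹) * z⁻¹ := by group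
        _ = m := by rw [inv e he he1 m hm, inv z hzE hz1 m⁻¹ (inv_mem hm), inv_inv]
    obtain ⟨g, hg⟩ := isConj_iff.1 (hc _ (mul_mem hzE he) hez1)
    have hfix : g⁻¹ * m * g ∈ N ⊓ Subgroup.centralizer ({z} : Set H) := by
      refine ⟨by simpa using Subgroup.Normal.conj_mem ‹N.Normal› m hm g⁻¹, Subgroup.mem_centralizer_singleton_iff.2 ?_⟩
      calc g⁻¹ * m * g * z = g⁻¹ * (m * (g * z * g⁻¹)) * g := by group
        _ = g⁻¹ * ((z * e) * m * (z * e)⁻¹ * (z * e)) * g := by rw [hg, hcen]
        _ = g⁻¹ * ((g * z * g⁻¹) * m) * g := by rw [hg]; group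
        _ = z * (g⁻¹ * m * g) := by group
    rw [hN N ‹_› htop, Subgroup.mem_bot] at hfix
    refine hm1 ?_
    calc m = g * (g⁻¹ * m * g) * g⁻¹ := by group
      _ = 1 := by rw [hfix]; group

end Cfsg.Agent.S2008
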