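import Cfsg.Statements.S2011
import Cfsg.Agent.Lib.FusionSys.OfGroup
import Cfsg.Agent.Lib.Fusion.Abelian
import Cfsg.Agent.Lib.Core.Cores

set_option autoImplicit false
open Cfsg

namespace Cfsg.Agent.S2011

/-- Let G be a finite group with Sylow p-subgroup P and Q ≤ P. Then Q is centric in the fusion system of G on P (C_P(R) ≤ R for every G-conjugate R of Q lying in P) if and only if C_G(Q) is the internal direct product of Z(Q) = Q ∩ C_G(Q) and the largest normal subgroup of C_G(Q) of order prime to p. -/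
theorem result {G : Type*} [Group G] [Finite G] (p : ℕ) [Fact p.Prime] (P : Sylow p G) (Q : Subgroup G) (hQ : Q ≤ P) : (Cfsg.groupFusionSystem (P : Subgroup G)).IsCentric Q ↔ Cfsg.IsInternalDirectProduct (Q ⊓ Subgroup.centralizer (Q : Set G)) ((Cfsg.pPrimeCore p ↥(Subgroup.centralizer (Q : Set G))).map (Subgroup.centralizer (Q : Set G)).subtype) (Subgroup.centralizer (Q : Set G)) := by
  classical
  set C := Subgroup.centralizer (Q : Set G) with hC
  haveI : (Cfsg.pPrimeCore p C).Normal := inferInstance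
  constructor
  · intro hc
    let R : Sylow p C := Classical.arbitrary _
    set U := (R : Subgroup C).map C.subtype with hU
    have hUC : U ≤ C := Subgroup.map_subtype_le _
    have hUQ : IsPGroup p (U ⊔ Q : Subgroup G) :=
      (R.isPGroup'.map _).to_sup_of_normal_right' (P.2.to_le hQ)
        (hUC.trans (Subgroup.centralizer_le_normalizer _))
    obtain ⟨g, -, hg⟩ := Cfsg.Lib.FusionSys.pConjInto_sylow P _ le_top hUQ
    have hconj : (Cfsg.groupFusionSystem (P : Subgroup G)).IsConj Q (Q.map (MulAut.conj g).toMonoidHom) := by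
      refine ⟨Cfsg.conjHom Q g, ⟨hQ, fun x => hg _ (Subgroup.mem_sup_right x.2), g, fun _ => rfl⟩,
        Cfsg.Lib.FusionSys.range_conjHom Q g⟩
    have hUZ : U ≤ Q ⊓ C := by
      intro u hu
      refine ⟨?_, hUC hu⟩
      have h1 : g * u * g⁻¹ ∈ Q.map (MulAut.conj g).toMonoidHom := by
        refine hc.2 _ hconj ⟨hg _ (Subgroup.mem_sup_left hu), ?_⟩
        rintro _ ⟨q, hq, rfl⟩
        show g * q * g⁻¹ * (g * u * g⁻¹) = g * u * g⁻¹ * (g * q * g⁻¹)
        have := Subgroup.mem_centralizer_iff.mp (hUC hu) q hq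
        calc g * q * g⁻¹ * (g * u * g⁻¹) = g * (q * u) * g⁻¹ := by group
          _ = g * (u * q) * g⁻¹ := by rw [this]
          _ = _ := by group
      obtain ⟨q, hq, he⟩ := h1
      have : q = u := (MulAut.conj g).injective he
      exact this ▸ hq
    have hcen : ∀ r ∈ (R : Subgroup C), ∀ c : C, c * r = r * c := fun r hr c =>
      Subtype.ext (Subgroup.mem_centralizer_iff.mp c.2 r.1 (hUZ ⟨r, hr, rfl⟩).1).symm
    have hnpc : Cfsg.HasNormalPComplement p C :=
      Cfsg.Lib.Fusion.hasNormalPComplement_of_normalizer_le_centralizer R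
        fun c _ => Subgroup.mem_centralizer_iff.mpr fun r hr => (hcen r hr c).symm
    have hcomp := Cfsg.Lib.Fusion.isComplement'_pResidual hnpc R
    haveI := Cfsg.Lib.Fusion.pResidual_normal p C
    have hN : Cfsg.pResidual p C ≤ Cfsg.pPrimeCore p C :=
      Cfsg.Lib.Core.le_pPrimeCore (Cfsg.Lib.Fusion.hasNormalPComplement_iff_coprime.mp hnpc)
    refine ⟨inf_le_right, Subgroup.map_subtype_le _, ?_, ?_, ?_⟩
    · rintro a ⟨haQ, -⟩ b ⟨b', -, rfl⟩
      exact Subgroup.mem_centralizer_iff.mp b'.2 a haQ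
    · rw [eq_bot_iff]
      rintro z ⟨⟨hzQ, -⟩, b, hb, rfl⟩
      obtain ⟨k, hk⟩ := P.2 ⟨_, hQ hzQ⟩
      have h1 : orderOf b ∣ p ^ k := orderOf_dvd_of_pow_eq_one (C.subtype_injective (by rw [map_pow, map_one]; exact congrArg Subtype.val hk))
      have h2 : orderOf b ∣ Nat.card (Cfsg.pPrimeCore p C) := by
        rw [← Subgroup.orderOf_mk b hb]; exact orderOf_dvd_natCard _
      have h3 : orderOf b ∣ 1 :=
        (Nat.Coprime.pow_right k (Cfsg.Lib.Core.pPrimeCore_coprime p C)) ▸ Nat.dvd_gcd h2 h1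
      rw [Nat.dvd_one, orderOf_eq_one_iff] at h3
      simp [h3]
    · refine le_antisymm (sup_le inf_le_right (Subgroup.map_subtype_le _)) fun c hc' => ?_
      obtain ⟨⟨n, r⟩, hnr⟩ := (Subgroup.isComplement'_def.mp hcomp).surjective ⟨c, hc'⟩
      have h1 : c = (n.1 : G) * (r.1 : G) := (congrArg Subtype.val hnr).symm
      rw [h1]
      exact mul_mem (Subgroup.mem_sup_right ⟨n.1, hN n.2, rfl⟩)
        (Subgroup.mem_sup_left (hUZ ⟨r.1, r.2, rfl⟩))
  · rintro ⟨-, -, hcomm, hbot, hsup⟩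
    refine ⟨hQ, ?_⟩
    rintro _ ⟨φ, ⟨-, -, g, hg⟩, rfl⟩ x ⟨hxP, hxC⟩
    have hy : g⁻¹ * x * g ∈ C := by
      rw [hC, Subgroup.mem_centralizer_iff]
      intro q hq
      have h1 := Subgroup.mem_centralizer_iff.mp hxC (φ ⟨q, hq⟩) ⟨_, rfl⟩
      rw [hg] at h1
      calc q * (g⁻¹ * x * g) = g⁻¹ * (g * q * g⁻¹ * x) * g := by group
        _ = g⁻¹ * (x * (g * q * g⁻¹)) * g := by rw [h1]
        _ = g⁻¹ * x * g * q := by group
    haveI : ((Cfsg.pPrimeCore p C).map C.subtype).subgroupOf C |>.Normal := by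
      rw [← Subgroup.comap_subtype, Subgroup.comap_map_eq_self_of_injective C.subtype_injective]
      infer_instance
    have hmem : g⁻¹ * x * g ∈ (((Q ⊓ C) ⊔ (Cfsg.pPrimeCore p C).map C.subtype : Subgroup G) : Set G) := by
      rw [SetLike.mem_coe, hsup]; exact hy
    have hnorm : Q ⊓ C ≤ Subgroup.normalizer (((Cfsg.pPrimeCore p C).map C.subtype : Subgroup G) : Set G) := by
      refine le_trans ?_ (Subgroup.centralizer_le_normalizer _)
      intro a ha
      exact Subgroup.mem_centralizer_iff.mpr fun b hb => (hcomm a ha b hb).symm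
    rw [Subgroup.coe_mul_of_left_le_normalizer_right _ _ hnorm] at hmem
    obtain ⟨z, hz, n, hn, hzn⟩ := hmem
    obtain ⟨k, hk⟩ := P.2 ⟨x, hxP⟩
    have hk' : x ^ p ^ k = 1 := congrArg Subtype.val hk
    have hn1 : n = 1 := by
      obtain ⟨j, hj⟩ := P.2 ⟨z, hQ hz.1⟩
      have hj' : z ^ p ^ j = 1 := congrArg Subtype.val hj
      obtain ⟨b, hb, rfl⟩ := hn
      have hcm : Commute z (C.subtype b) := hcomm z hz _ ⟨b, hb, rfl⟩
      have h1 : (z * C.subtype b) ^ p ^ (k + j) = 1 := by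
        show (z * C.subtype b) ^ p ^ (k + j) = 1
        have hzn' : z * C.subtype b = g⁻¹ * x * g := hzn
        rw [hzn', pow_add, pow_mul]
        have : (g⁻¹ * x * g) ^ p ^ k = 1 := by
          have h0 := conj_pow (a := g⁻¹) (b := x) (i := p ^ k)
          simp only [inv_inv] at h0
          rw [h0, hk']; group
        rw [this, one_pow]
      have hz2 : z ^ p ^ (k + j) = 1 := by rw [add_comm, pow_add, pow_mul, hj', one_pow]
      rw [hcm.mul_pow, hz2, one_mul, ← map_pow, ← map_one C.subtype] at h1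
      have h2 : orderOf b ∣ Nat.card (Cfsg.pPrimeCore p C) := by
        rw [← Subgroup.orderOf_mk b hb]; exact orderOf_dvd_natCard _
      have h3 : orderOf b ∣ 1 :=
        (Nat.Coprime.pow_right (k + j) (Cfsg.Lib.Core.pPrimeCore_coprime p C)) ▸
          Nat.dvd_gcd h2 (orderOf_dvd_of_pow_eq_one (C.subtype_injective h1))
      rw [Nat.dvd_one, orderOf_eq_one_iff] at h3
      simp [h3]
    refine ⟨⟨z, hz.1⟩, ?_⟩
    rw [hg]
    have hzn' : z * n = g⁻¹ * x * g := hzn
    rw [hn1, mul_one] at hzn'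
    simp [hzn', mul_assoc]

end Cfsg.Agent.S2011
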