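import Cfsg.Statements.S2014
import Cfsg.Agent.Lib.Fusion.Basic
import Cfsg.Agent.Lib.Sig.Small

set_option autoImplicit false
open Cfsg

namespace Cfsg.Agent.S2014

/-- Let P be a Sylow p-subgroup of a finite group G and A, C ≤ P subgroups conjugate in G, with C extremal: N_P(C) is a Sylow p-subgroup of N_G(C). Then there is g with gAg⁻¹ = C and g N_P(A) g⁻¹ ≤ N_P(C); moreover, given any h with hAh⁻¹ = C, g can be chosen so that h g⁻¹ lies in O^p(N_G(C)), the subgroup of N_G(C) generated by its elements of order prime to p. -/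
theorem result {G : Type*} [Group G] [Finite G] (p : ℕ) [Fact p.Prime] (P : Sylow p G) (A C : Subgroup G) (hA : A ≤ P) (hC : C ≤ P) (hext : ¬ p ∣ ((P : Subgroup G) ⊓ Subgroup.normalizer ((C : Subgroup G) : Set G)).relIndex (Subgroup.normalizer ((C : Subgroup G) : Set G))) (h : G) (hh : A.map (MulAut.conj h).toMonoidHom = C) : ∃ g : G, A.map (MulAut.conj g).toMonoidHom = C ∧ ((P : Subgroup G) ⊓ Subgroup.normalizer ((A : Subgroup G) : Set G)).map (MulAut.conj g).toMonoidHom ≤ (P : Subgroup G) ⊓ Subgroup.normalizer ((C : Subgroup G) : Set G) ∧ h * g⁻¹ ∈ (Cfsg.pResidual p ↥(Subgroup.normalizer ((C : Subgroup G) : Set G))).map (Subgroup.normalizer ((C : Subgroup G) : Set G)).subtype := by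
    set N := Subgroup.normalizer (C : Set G) with hNdef
    set P₀ := (P : Subgroup G) ⊓ N with hP₀
    have hP₀N : P₀ ≤ N := inf_le_right
    have hp₀ : IsPGroup p ↥P₀ := P.2.to_le inf_le_left
    set R := ((P : Subgroup G) ⊓ Subgroup.normalizer (A : Set G)).map (MulAut.conj h).toMonoidHom with hR
    have hRp : IsPGroup p ↥R := (P.2.to_le inf_le_left).map _
    have hRN : R ≤ N := by
      refine (Subgroup.map_mono inf_le_right).trans (le_of_eq ?_)
      rw [Cfsg.Lib.Sig.map_conj_normalizer, hh]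
    obtain ⟨y, hy, hyle⟩ := Cfsg.Lib.Sig.exists_conj_le_of_relIndex hP₀N hp₀ hext hRN hRp
    obtain ⟨u, hu, m, hm, hum⟩ := Cfsg.Lib.Fusion.exists_mul_of_sylow
      ((hp₀.of_equiv (Subgroup.subgroupOfEquivOfLe hP₀N).symm).toSylow hext) ⟨y, hy⟩
    have hu' : (u : G) ∈ P₀ := Subgroup.mem_subgroupOf.1 hu
    have hy' : y = (u : G) * (m : G) := congrArg Subtype.val hum
    refine ⟨(m : G) * h, ?_, ?_, ?_⟩
    · rw [← Cfsg.Lib.Sig.map_conj_map_conj, hh]
      exact Cfsg.Lib.Sig.map_conj_eq_of_mem_normalizer m.2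
    · rw [← Cfsg.Lib.Sig.map_conj_map_conj, show (m : G) = (u : G)⁻¹ * y from by rw [hy']; group,
        ← Cfsg.Lib.Sig.map_conj_map_conj]
      exact (Subgroup.map_mono hyle).trans
        (le_of_eq (Cfsg.Lib.Sig.map_conj_eq_of_mem_normalizer (Subgroup.le_normalizer (inv_mem hu'))))
    · exact ⟨m⁻¹, inv_mem hm, by simp⟩

end Cfsg.Agent.S2014
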