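import Cfsg.Statements.S2029
import Cfsg.Agent.Lib.Sig.KlingerMason.Main

set_option autoImplicit false
open Cfsg

namespace Cfsg.Agent.S2029

/-- Let p be an odd prime and G a finite group that is both of local characteristic p (p divides its order and every p-local subgroup N satisfies C_N(O_p(N)) ≤ O_p(N)) and of characteristic 2 type (even order and every 2-local subgroup M satisfies C_M(O_2(M)) ≤ O_2(M)). Then every 2-local subgroup of G has p-rank at most 2. -/
theorem result {G : Type*} [Group G] [Finite G] (p : ℕ) [Fact p.Prime] (hp : p ≠ 2) (hGp : Cfsg.IsOfLocalCharacteristic p G) (hG2 : Cfsg.IsCharacteristicTwoType G) : Cfsg.TwoLocalPRankLE p 2 G := by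
  classical
  intro H hH A hAc hAp
  obtain ⟨T, hT, hT1, rfl⟩ := hH
  set E := A.map (Subgroup.normalizer (T : Set G)).subtype with hEdef
  have hE : Cfsg.IsElementaryAbelian p E := by
    refine Cfsg.Lib.PGroup.isElementaryAbelian_map ⟨hAc, hAp⟩ _
  have hcard : Nat.card E = Nat.card A := Cfsg.Lib.Core.card_map_subtype A
  have hET : E ≤ Subgroup.normalizer (T : Set G) := Subgroup.map_subtype_le _
  rw [← hcard]
  by_contra hlt
  let P : ℕ → Prop := fun n => ∃ (E T : Subgroup G), Cfsg.IsElementaryAbelian p E ∧ Nat.card E = p ^ n ∧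
    IsPGroup 2 T ∧ T ≠ ⊥ ∧ E ≤ Subgroup.normalizer (T : Set G)
  have hbound : ∀ n, P n → n ≤ Nat.card G := by
    rintro n ⟨E', -, -, hn, -⟩
    have := Subgroup.card_le_card_group E'
    rw [hn] at this
    exact (Nat.lt_pow_self (Fact.out : p.Prime).one_lt).le.trans this
  obtain ⟨n, hn⟩ := (Cfsg.Lib.PGroup.isPGroup_of_isElementaryAbelian hE).exists_card_eq
  have hPn : P n := ⟨E, T, hE, hn, hT, hT1, hET⟩
  set k := Nat.findGreatest P (Nat.card G) with hk
  obtain ⟨E', T', hE', hE'c, hT', hT'1, hE'T⟩ : P k := Nat.findGreatest_spec (hbound n hPn) hPn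
  have hnk : n ≤ k := Nat.le_findGreatest (hbound n hPn) hPn
  have hn3 : 3 ≤ n := by
    by_contra h
    exact hlt (hn ▸ Nat.pow_le_pow_right (Fact.out : p.Prime).pos (by omega))
  have h : Cfsg.Lib.Sig.KlingerMason.Hyp G p k := by
    refine ⟨hp, fun F hF hF1 => (Cfsg.Lib.Local.isCharP_iff _).2 (hGp.2 F hF hF1),
      fun T hT hT1 => (Cfsg.Lib.Local.isCharP_iff _).2 (hG2.2 T hT hT1), hn3.trans hnk, ?_⟩
    intro E₁ hE₁ T₁ hT₁ hT₁1 hE₁T
    obtain ⟨m, hm⟩ := (Cfsg.Lib.PGroup.isPGroup_of_isElementaryAbelian hE₁).exists_card_eq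
    have hPm : P m := ⟨E₁, T₁, hE₁, hm, hT₁, hT₁1, hE₁T⟩
    rw [hm]
    exact Nat.pow_le_pow_right (Fact.out : p.Prime).pos (Nat.le_findGreatest (hbound m hPm) hPm)
  exact h.false hE' hE'c hT' hT'1 hE'T

end Cfsg.Agent.S2029
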