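import Cfsg.Statements.S2041
import Cfsg.Agent.Lib.JThree.Transport
-- import your own Cfsg.Agent.* helpers here

set_option autoImplicit false
open Cfsg

namespace Cfsg.Agent.S2041

/-- For any field with 4 elements and any element ω of it with ω² + ω + 1 = 0: the Schur multiplier of the Janko group J₃ (the group generated by explicit 9 × 9 matrices over that field built from ω, taken modulo its centre) is cyclic of order 3; here the Schur multiplier is described through stem extensions, as in the definitions: surjective homomorphisms onto the group from a finite group, whose kernel is central in that finite group and contained in that finite group's commutator subgroup. -/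
theorem result {F : Type*} [Field F] [Fintype F] (hF : Fintype.card F = 4) (ω : F) (hω : ω ^ 2 + ω + 1 = 0) : Cfsg.HasCyclicSchurMultiplier (Cfsg.Spor.J3 F ω) 3 := by
  classical
  haveI : Fact (Nat.Prime 2) := ⟨Nat.prime_two⟩
  let K := GaloisField 2 2
  letI : Fintype K := Fintype.ofFinite K
  have hK : Fintype.card K = 4 := by
    rw [← Nat.card_eq_fintype_card, GaloisField.card 2 2 (by norm_num)]; norm_num
  let e : K ≃+* F := FiniteField.ringEquivOfCardEq (hK.trans hF.symm)
  have hω' : (e.symm ω) ^ 2 + e.symm ω + 1 = 0 := e.injective (by simp [hω])
  have h := Cfsg.Lib.JThree.multiplier (F := K) (ω := e.symm ω) hK hω'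
  obtain ⟨φ⟩ := Cfsg.Lib.JThree.nonempty_J3_equiv e (e.apply_symm_apply ω)
  exact Cfsg.Lib.Schur.hasSchur_of_equiv φ h

end Cfsg.Agent.S2041
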