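import Cfsg.Statements.S2067
import Cfsg.Agent.Lib.JThree.Transport
import Cfsg.Agent.Lib.JThree.Outer
-- import your own Cfsg.Agent.* helpers here

set_option autoImplicit false
open Cfsg

namespace Cfsg.Agent.S2067

/-- For any field with 4 elements and any element ω of it with ω² + ω + 1 = 0, the outer automorphism group of the Janko group J₃ (the group generated by explicit 9 × 9 matrices over that field built from ω, taken modulo its centre) has order 2. -/
theorem result {F : Type*} [Field F] [Fintype F] (hF : Fintype.card F = 4) (ω : F) (hω : ω ^ 2 + ω + 1 = 0) : Nat.card (Cfsg.Out (Cfsg.Spor.J3 F ω)) = 2 := by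
  classical
  haveI : Fact (Nat.Prime 2) := ⟨Nat.prime_two⟩
  let K := GaloisField 2 2
  letI : Fintype K := Fintype.ofFinite K
  have hK : Fintype.card K = 4 := by
    rw [← Nat.card_eq_fintype_card, GaloisField.card 2 2 (by norm_num)]; norm_num
  let e : K ≃+* F := FiniteField.ringEquivOfCardEq (hK.trans hF.symm)
  have hω' : (e.symm ω) ^ 2 + e.symm ω + 1 = 0 := e.injective (by simp [hω])
  obtain ⟨φ⟩ := Cfsg.Lib.JThree.nonempty_J3_equiv e (e.apply_symm_apply ω)
  let ψ : MulAut (Cfsg.Spor.J3 K (e.symm ω)) ≃* MulAut (Cfsg.Spor.J3 F ω) := MulAut.congr φ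
  have hψ : (Cfsg.Inn (Cfsg.Spor.J3 K (e.symm ω))).map (ψ : MulAut _ →* MulAut _) = Cfsg.Inn (Cfsg.Spor.J3 F ω) := by
    ext a
    constructor
    · rintro ⟨_, ⟨g, rfl⟩, rfl⟩
      refine ⟨φ g, MulEquiv.ext fun x => ?_⟩
      simp [ψ, MulAut.congr, MulAut.conj_apply]
    · rintro ⟨g, rfl⟩
      refine ⟨MulAut.conj (φ.symm g), ⟨_, rfl⟩, MulEquiv.ext fun x => ?_⟩
      simp [ψ, MulAut.congr, MulAut.conj_apply]
  rw [← Nat.card_congr (QuotientGroup.congr _ _ ψ hψ).toEquiv]
  exact Cfsg.Lib.JThree.card_out hK (.of_card hK hω')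

end Cfsg.Agent.S2067
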