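import Cfsg.Statements.S2069
import Cfsg.Agent.Lib.Co1Out.Main

set_option autoImplicit false
open Cfsg

namespace Cfsg.Agent.S2069

/-- The outer automorphism group of the Conway group Co₁ (the automorphism group of the rank-24 lattice modulo its centre) is trivial: every automorphism is inner. -/
theorem result : Nat.card (Cfsg.Out Cfsg.Spor.Co1) = 1 := by
  refine Nat.card_eq_one_iff_unique.2 ⟨⟨fun a b => ?_⟩, ⟨1⟩⟩
  have key : ∀ q : Cfsg.Out Cfsg.Spor.Co1, q = 1 := fun q => by
    obtain ⟨f, rfl⟩ := QuotientGroup.mk_surjective q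
    exact (QuotientGroup.eq_one_iff f).2 (Cfsg.Lib.Co1Out.mem_inn f)
  rw [key a, key b]

end Cfsg.Agent.S2069
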