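import Cfsg.Statements.S2072
import Cfsg.Agent.Lib.PermAut.Hs
-- import your own Cfsg.Agent.* helpers here

set_option autoImplicit false
open Cfsg

namespace Cfsg.Agent.S2072

/-- The outer automorphism group of the Higman–Sims group (as a two-vector stabiliser in the automorphism group of the rank-24 lattice) has order 2. -/
theorem result : Nat.card (Cfsg.Out ↥Cfsg.Spor.HS) = 2 := by
  exact Cfsg.Lib.PermAut.Hs.card_out_hs

end Cfsg.Agent.S2072
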