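import Cfsg.Statements.S2077
import Cfsg.Agent.Lib.Ru4060.Out
import Cfsg.Agent.Lib.RuMin.Aut

set_option autoImplicit false
open Cfsg

namespace Cfsg.Agent.S2077

/-- The outer automorphism group of the Rudvalis group (the unitary automorphism group of the rank-28 Gaussian lattice modulo its centre) is trivial: every automorphism is inner. -/
theorem result : Nat.card (Cfsg.Out Cfsg.Spor.Ru) = 1 := by
  refine Nat.card_eq_one_iff_unique.2 ⟨⟨fun a b => ?_⟩, ⟨1⟩⟩
  have key : ∀ q : Cfsg.Out Cfsg.Spor.Ru, q = 1 := fun q => by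
    obtain ⟨α, rfl⟩ := QuotientGroup.mk_surjective q
    refine (QuotientGroup.eq_one_iff α).2 ?_
    set e := Cfsg.Lib.RuMin.ruEquiv
    obtain ⟨g, hg⟩ := Cfsg.Lib.Ru4060.OutRu.exists_inner ((e.symm.trans α).trans e)
    refine ⟨(e.symm g)⁻¹, MulEquiv.ext fun y => ?_⟩
    have h := congrArg e.symm (hg (e y))
    simp only [MulEquiv.trans_apply, map_mul, map_inv, MulEquiv.symm_apply_apply] at h
    show (e.symm g)⁻¹ * y * ((e.symm g)⁻¹)⁻¹ = α y
    conv_lhs => rw [← h]
    group
  rw [key a, key b]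

end Cfsg.Agent.S2077
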