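import Cfsg.Statements.S2081
import Cfsg.Agent.Lib.Fischer.Relations.TwentyFour.DerivedAut.Main
import Cfsg.Agent.Lib.Fischer.M24Exist.Fi24Type

set_option autoImplicit false
open Cfsg

namespace Cfsg.Agent.S2081

/-- The outer automorphism group of the Fischer group Fi₂₄′ (the commutator subgroup of the presented group Fi₂₄) has order 2. -/
theorem result : Nat.card (Cfsg.Out Cfsg.Spor.Fi24') = 2 := by
  haveI := Cfsg.Lib.BigPerm.Fi24.finite_Fi24
  obtain ⟨d, K⟩ := Cfsg.Lib.Fischer.Relations.m24_data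
    (Cfsg.Lib.Fischer.trans_of_class Cfsg.Lib.BigPerm.Fi24.isClass)
    Cfsg.Lib.BigPerm.Fi24.isPrimitive Cfsg.Lib.BigPerm.Fi24.isOfTypeM24'
  exact K.card_out_derived

end Cfsg.Agent.S2081
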