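import Cfsg.Statements.S2087
import Cfsg.Agent.Lib.Linear.PSLSmall
import Cfsg.Agent.Lib.Small.PSLTwoRecog
import Cfsg.Agent.Lib.Small.Order168Classes
import Cfsg.Agent.Lib.Linear.SLBasic
import Cfsg.Agent.Lib.Linear.SLPerfect
import Cfsg.Agent.S3953
import Cfsg.Agent.S3965
import Cfsg.Agent.S3979

set_option linter.style.haveILetI false

set_option autoImplicit false
open Cfsg

namespace Cfsg.Agent.S2087

open Cfsg.Lib.Schur

/-- Presentations with the same kernel have the same multiplier. -/
theorem mult_congr {F Q Q' : Type*} [Group F] [IsFreeGroup F] [Group Q] [Group Q'] (π₀ : F →* Q) (π₁ : F →* Q')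
    (h : π₁.ker = π₀.ker) : Nonempty (mult π₀ ≃* mult π₁) := by
  have hr : rel π₀ = rel π₁ := by unfold rel; rw [h]
  let E := QuotientGroup.quotientMulEquivOfEq hr
  have hmap : (mult π₀).map E.toMonoidHom = mult π₁ := by
    have hk : ∀ y, covMap π₁ (E y) = 1 ↔ covMap π₀ y = 1 := by
      intro y
      induction y using QuotientGroup.induction_on with
      | _ x =>
        show π₁ x = 1 ↔ π₀ x = 1
        rw [← MonoidHom.mem_ker, h, MonoidHom.mem_ker]
    have hcm : (commutator (Cov π₀)).map E.toMonoidHom = commutator (Cov π₁) := by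
      rw [commutator_def, Subgroup.map_commutator, Subgroup.map_top_of_surjective _ E.surjective, ← commutator_def]
    rw [mult, mult, Subgroup.map_inf _ _ _ E.injective, hcm]
    congr 1
    ext y
    obtain ⟨y, rfl⟩ := E.surjective y
    rw [MonoidHom.mem_ker, hk]
    exact ⟨fun ⟨a, ha, e⟩ => E.injective e ▸ ha, fun hy => ⟨y, hy, rfl⟩⟩
  exact ⟨((mult π₀).equivMapOfInjective _ E.injective).trans (MulEquiv.subgroupCongr hmap)⟩

/-- The multiplier along an isomorphism. -/
theorem has_congr {P D : Type*} [Group P] [Group D] [Finite P] [Finite D] (e : P ≃* D) {A : Type*} [CommGroup A]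
    (hA : Cfsg.HasSchurMultiplier D A) : Cfsg.HasSchurMultiplier P A := by
  obtain ⟨a⟩ := nonempty_equiv_of_has hA
  obtain ⟨b⟩ := mult_congr (canon P) (e.toMonoidHom.comp (canon P))
    (by ext x; simp [MonoidHom.mem_ker])
  obtain ⟨c⟩ := nonempty_mult_equiv (e.toMonoidHom.comp (canon P)) (canon D)
    (e.surjective.comp canon_surjective) canon_surjective
  exact has_iff.mpr ⟨a.trans (b.trans c).symm⟩

/-- Exceptional Schur multiplier: over the field with 2 elements, PSL₃ has Schur multiplier cyclic of order 2 (here the Schur multiplier is described through stem extensions, as in the definitions). -/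
theorem result {F : Type*} [Field F] [Fintype F] (hF : Fintype.card F = 2) : Cfsg.HasCyclicSchurMultiplier (Matrix.ProjectiveSpecialLinearGroup (Fin 3) F) 2 := by
  classical
  haveI := Cfsg.Lib.Linear.PSL_simple (F := F) 3 (by norm_num) (fun h => absurd h (by norm_num))
  haveI : Fact (Nat.Prime 7) := ⟨by norm_num⟩
  haveI : Fact (Nat.Prime 3) := ⟨by norm_num⟩
  haveI : Fact (Nat.Prime 2) := ⟨Nat.prime_two⟩
  have h := Cfsg.Lib.Linear.card_SL_mul (F := F) 3 (by norm_num)
  rw [hF, Fin.prod_univ_three, Cfsg.Lib.Linear.card_SL_eq_gcd_mul_card_PSL, hF] at h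
  have h168 : Nat.card (Matrix.ProjectiveSpecialLinearGroup (Fin 3) F) = 168 := by simpa using h
  set G := Matrix.ProjectiveSpecialLinearGroup (Fin 3) F
  have hA := hasSchurMultiplier (Q := G)
  haveI : Finite (M G) := finite_of_has hA
  -- odd primary parts vanish
  have hodd : ∀ p : ℕ, p.Prime → p ≠ 2 → ∀ x : M G, (∃ k : ℕ, orderOf x = p ^ k) → x = 1 := by
    intro p hp hp2 x hx
    haveI : Fact p.Prime := ⟨hp⟩
    obtain ⟨P⟩ := (inferInstance : Nonempty (Sylow p G))
    haveI : IsCyclic (P : Subgroup G) := by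
      by_cases hd : p ∣ Nat.card G
      · rw [h168, show (168 : ℕ) = 2 ^ 3 * 3 * 7 from rfl] at hd
        rcases hp.dvd_mul.1 hd with hd | hd
        · rcases hp.dvd_mul.1 hd with hd | hd
          · exact absurd ((Nat.prime_dvd_prime_iff_eq hp Nat.prime_two).1 (hp.dvd_of_dvd_pow hd)) hp2
          · obtain rfl := (Nat.prime_dvd_prime_iff_eq hp Nat.prime_three).1 hd
            exact isCyclic_of_prime_card (Cfsg.Lib.Small.Order168.sylow_three_card h168 P)
        · obtain rfl := (Nat.prime_dvd_prime_iff_eq hp (by norm_num)).1 hd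
          exact isCyclic_of_prime_card (Cfsg.Lib.Small.Order168.sylow_seven_card h168 P)
      · haveI : Subsingleton (P : Subgroup G) := Finite.card_le_one_iff_subsingleton.1 (by
          rw [P.card_eq_multiplicity, Nat.factorization_eq_zero_of_not_dvd hd, pow_zero])
        infer_instance
    obtain ⟨C, D, -, -, ⟨f⟩⟩ := Cfsg.Agent.S3953.result p P hA (Cfsg.Agent.S3979.result (G := ↥(P : Subgroup G)))
    have hx' : x ∈ CommGroup.primaryComponent (M G) p := by
      obtain ⟨k, hk⟩ := hx
      exact ⟨k, by rw [← hk, pow_orderOf_eq_one]⟩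
    haveI : Subsingleton (Multiplicative (ZMod 1)) := inferInstance
    exact congrArg Subtype.val (f.injective (Subtype.ext (Subsingleton.elim _ _)) :
      (⟨x, hx'⟩ : CommGroup.primaryComponent (M G) p) = 1)
  -- the multiplier is a 2-group of order at most two
  have htwo : ∀ x : M G, x ∈ CommGroup.primaryComponent (M G) 2 := by
    intro x
    have hn : ∀ p : ℕ, p.Prime → p ∣ orderOf x → p = 2 := by
      intro p hp hd
      by_contra hp2
      have hy : orderOf (x ^ (orderOf x / p)) = p := by
        rw [orderOf_pow_of_dvd (Nat.div_pos (Nat.le_of_dvd (orderOf_pos x) hd) hp.pos).ne'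
          (Nat.div_dvd_of_dvd hd), Nat.div_div_self hd (orderOf_pos x).ne']
      have := hodd p hp hp2 _ ⟨1, by rw [hy, pow_one]⟩
      rw [this, orderOf_one] at hy
      exact hp.ne_one hy.symm
    refine ⟨(orderOf x).primeFactorsList.length, ?_⟩
    rw [← Nat.eq_prime_pow_of_unique_prime_dvd (orderOf_pos x).ne' fun {d} hd hdvd => hn d hd hdvd, pow_orderOf_eq_one]
  obtain ⟨T⟩ := (inferInstance : Nonempty (Sylow 2 G))
  obtain ⟨eT⟩ := Cfsg.Lib.Small.Order168.dihedral h168 T
  have hB : Cfsg.HasSchurMultiplier ↥(T : Subgroup G) (Multiplicative (ZMod 2)) :=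
    has_congr eT (Cfsg.Agent.S3965.result 4 (by decide))
  obtain ⟨C, D, -, -, ⟨f⟩⟩ := Cfsg.Agent.S3953.result 2 T hA hB
  have hle : Nat.card (M G) ≤ 2 := by
    have hi : Function.Injective (fun x : M G => (f ⟨x, htwo x⟩).1) := fun a b hab =>
      congrArg Subtype.val (f.injective (Subtype.ext hab))
    refine le_trans (Nat.card_le_card_of_injective _ hi) (le_of_eq ?_)
    rw [Nat.card_congr Multiplicative.toAdd, Nat.card_zmod]
  -- the double cover from SL(2, 7)
  haveI := Cfsg.Lib.Linear.PSL_simple (F := ZMod 7) 2 le_rfl (fun _ => by rw [Nat.card_zmod]; norm_num)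
  obtain ⟨e⟩ : Nonempty (G ≃* Matrix.ProjectiveSpecialLinearGroup (Fin 2) (ZMod 7)) :=
    Cfsg.Lib.Small.PSLTwoRecog.iso_psl (p := 7) (G := G) (by norm_num) (by rw [h168]; norm_num)
      (by rw [Cfsg.Lib.Small.Order168.card_seven h168]) (F := ZMod 7) (ZMod.card 7)
  set S := Matrix.SpecialLinearGroup (Fin 2) (ZMod 7)
  let σ : S →* G := e.symm.toMonoidHom.comp (QuotientGroup.mk' (Subgroup.center S))
  have hker : σ.ker = Subgroup.center S := by
    ext x
    simp [σ, MonoidHom.mem_ker]
  have hperf : commutator S = ⊤ := Cfsg.Lib.Linear.commutator_SL_eq_top' (Or.inr (by rw [ZMod.card]; norm_num))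
  have hstem : Cfsg.IsStemExtension σ :=
    ⟨e.symm.surjective.comp (QuotientGroup.mk'_surjective _), hker.le, hperf ▸ le_top⟩
  let U := ULift.{u_1} S
  let τ : U →* G := σ.comp MulEquiv.ulift.toMonoidHom
  have hτ : Cfsg.IsStemExtension τ := by
    refine ⟨hstem.1.comp MulEquiv.ulift.surjective, fun x hx => ?_, ?_⟩
    · have h1 : MulEquiv.ulift x ∈ Subgroup.center S := hker ▸ hx
      exact Subgroup.mem_center_iff.2 fun y => MulEquiv.ulift.injective (by
        rw [map_mul, map_mul, Subgroup.mem_center_iff.1 h1])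
    · have hU : commutator U = ⊤ := by
        have := congrArg (Subgroup.map MulEquiv.ulift.symm.toMonoidHom) hperf
        rw [commutator_def, Subgroup.map_commutator,
          Subgroup.map_top_of_surjective _ MulEquiv.ulift.symm.surjective, ← commutator_def] at this
        exact this
      exact hU ▸ le_top
  obtain ⟨ψ, hψ⟩ := hA.2 U τ hτ
  have hcard2 : Nat.card τ.ker = 2 := by
    have : τ.ker = σ.ker.comap MulEquiv.ulift.toMonoidHom := (MonoidHom.comap_ker _ _).symm
    rw [this, hker]
    rw [show Nat.card ((Subgroup.center S).comap MulEquiv.ulift.toMonoidHom : Subgroup U) = Nat.card (Subgroup.center S) from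
      Nat.card_congr (MulEquiv.ulift.toEquiv.subtypeEquiv fun x => Iff.rfl)]
    rw [Cfsg.Lib.Linear.card_center_SL, ZMod.card, Fintype.card_fin]
    rfl
  have h2 : Nat.card (M G) = 2 := le_antisymm hle (hcard2 ▸ Nat.card_le_card_of_surjective ψ hψ)
  exact has_iff.mpr ⟨(mulEquivOfPrimeCardEq (p := 2) (by rw [Nat.card_congr Multiplicative.toAdd, Nat.card_zmod]) h2)⟩

end Cfsg.Agent.S2087
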