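import Cfsg.Statements.S2094
import Cfsg.Agent.Lib.OrthMult.Cover
import Cfsg.Agent.Lib.Linear.OrthOdd

set_option autoImplicit false
open Cfsg

namespace Cfsg.Agent.S2094

/-- Schur multipliers of the odd-dimensional orthogonal groups: for m ≥ 3 and a field F of odd order q with (m, q) ≠ (3, 3), the Schur multiplier of PΩ_(2m+1)(F) (for the form x₀² + Σ xᵢyᵢ) is cyclic of order 2 = gcd(2, q − 1); here the Schur multiplier is described through stem extensions, as in the definitions. -/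
theorem result {F : Type*} [Field F] [Fintype F] {q : ℕ} (hF : Fintype.card F = q) (hq : Odd q) (m : ℕ) (hm : 3 ≤ m) (hexc : ¬ (m = 3 ∧ q = 3)) : Cfsg.HasCyclicSchurMultiplier (Cfsg.POmega F (Cfsg.quadFormOdd m F)) 2 := by
  subst hF
  have h2 := Cfsg.Lib.Linear.Orth.two_ne_zero_of_odd_card (F := F) hq
  obtain ⟨B, C⟩ := Cfsg.Lib.Linear.Orth.exists_space (Cfsg.Lib.Linear.Orth.isQuad_odd m h2)
  have hn := Cfsg.Lib.Linear.Orth.card_odd_index m
  have h7 : 7 ≤ Fintype.card (Unit ⊕ (Fin m ⊕ Fin m)) := by omega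
  have hq' : 9 ≤ Fintype.card (Unit ⊕ (Fin m ⊕ Fin m)) ∨ 4 ≤ Fintype.card F := by
    by_cases h : m = 3
    · refine Or.inr ?_
      have h1 := Fintype.one_lt_card (α := F)
      have h3 : Fintype.card F ≠ 3 := fun e => hexc ⟨h, e⟩
      have h4 : Fintype.card F ≠ 2 := fun e => by rw [e] at hq; exact absurd hq (by decide)
      omega
    · exact Or.inl (by omega)
  refine Cfsg.Lib.OrthMult.multiplier_two C h2 h7 (Cfsg.Lib.OrthMult.stemLeTwo_omega C h2 h7 hq') ?_
  rintro ⟨g, hg, hgv⟩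
  have h3 : g ∈ commutator _ := hg
  rw [(Cfsg.Lib.Linear.Orth.omega_odd C h2 (by omega)).1] at h3
  have h4 : (g : Matrix.GeneralLinearGroup (Unit ⊕ (Fin m ⊕ Fin m)) F).val.det = 1 :=
    congrArg (fun p : Fˣ × ℤˣ => (p.1 : F)) h3
  rw [hgv, Matrix.det_neg, Matrix.det_one, hn, Odd.neg_one_pow ⟨m, rfl⟩] at h4
  exact h2 (by linear_combination -h4)

end Cfsg.Agent.S2094
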