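import Cfsg.Statements.S2096
import Cfsg.Agent.Lib.OrthMult.Cover
import Cfsg.Agent.Lib.OrthMult.Two.Main
import Cfsg.Agent.Lib.Linear.OrthOdd
import Cfsg.Agent.Lib.Linear.OrthForms
import Cfsg.Agent.S0293

set_option autoImplicit false
open Cfsg

namespace Cfsg.Agent.S2096

/-- Schur multipliers of the even-dimensional orthogonal groups of plus type and odd rank: for odd l ≥ 5 and a field F with q elements, the Schur multiplier of PΩ⁺_2l(F) (for the form Σ xᵢyᵢ) is cyclic of order gcd(4, q^l − 1); here the Schur multiplier is described through stem extensions, as in the definitions. -/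
theorem result {F : Type*} [Field F] [Fintype F] {q : ℕ} (hF : Fintype.card F = q) (l : ℕ) (hl : 5 ≤ l) (hodd : Odd l) : Cfsg.HasCyclicSchurMultiplier (Cfsg.POmega F (Cfsg.quadFormPlus l F)) (Nat.gcd 4 (q ^ l - 1)) := by
  subst hF
  classical
  obtain ⟨B, C⟩ := Cfsg.Lib.Linear.Orth.exists_space_plus (F := F) l
  have hn : Fintype.card (Fin l ⊕ Fin l) = 2 * l := by simp; omega
  by_cases hq : Odd (Fintype.card F)
  · have h2 := Cfsg.Lib.Linear.Orth.two_ne_zero_of_odd_card (F := F) hq
    have hle := Cfsg.Lib.OrthMult.stemLeTwo_omega C h2 (by omega) (Or.inl (by omega))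
    have hiff := Cfsg.Agent.S0790.result (F := F) rfl hq l (by omega)
    by_cases hc : Fintype.card F ^ l % 4 = 1
    · rw [((Cfsg.Agent.S0293.gcd_four hq l).1 hc).1]
      exact Cfsg.Lib.OrthMult.multiplier_four C h2 (by omega) hle l hn hodd (hiff.mpr hc)
    · rw [((Cfsg.Agent.S0293.gcd_four hq l).2 hc).1]
      exact Cfsg.Lib.OrthMult.multiplier_two C h2 (by omega) hle (fun h => hc (hiff.mp h))
  · have h2 := Cfsg.Agent.S0293.two_eq hq
    have hg : Nat.gcd 4 (Fintype.card F ^ l - 1) = 1 := by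
      have h1 : 1 ≤ Fintype.card F ^ l := Nat.one_le_pow _ _ Fintype.card_pos
      have hev : ¬ Odd (Fintype.card F ^ l) := fun ho => hq ((Nat.odd_pow_iff (by omega)).mp ho)
      rw [Nat.odd_iff] at hev
      rw [Nat.gcd_rec]
      rcases (by omega : (Fintype.card F ^ l - 1) % 4 = 1 ∨ (Fintype.card F ^ l - 1) % 4 = 3) with
        h' | h' <;> rw [h'] <;> rfl
    rw [hg]
    exact Cfsg.Lib.OrthMult.Two.multiplier_trivial C h2 (m := l - 1) (by omega) (by omega)
      (Or.inl (by omega))

end Cfsg.Agent.S2096
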