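import Cfsg.Statements.S2097
import Cfsg.Agent.Lib.OrthMult.Cover
import Cfsg.Agent.Lib.OrthMult.Two.Main
import Cfsg.Agent.Lib.Linear.OrthOdd
import Cfsg.Agent.Lib.Linear.OrthForms
import Cfsg.Agent.S0293

set_option autoImplicit false
open Cfsg

namespace Cfsg.Agent.S2097

/-- Schur multipliers of the even-dimensional orthogonal groups of plus type and even rank: for even l ≥ 4 and a field F with q elements, (l, q) ≠ (4, 2), the Schur multiplier of PΩ⁺_2l(F) (for the form Σ xᵢyᵢ) is the product of two cyclic groups of order gcd(2, q^l − 1) (so trivial for q even and a four-group for q odd; here the Schur multiplier is described through stem extensions, as in the definitions). -/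
theorem result {F : Type*} [Field F] [Fintype F] {q : ℕ} (hF : Fintype.card F = q) (l : ℕ) (hl : 4 ≤ l) (heven : Even l) (hexc : ¬ (l = 4 ∧ q = 2)) : Cfsg.HasSchurMultiplier (Cfsg.POmega F (Cfsg.quadFormPlus l F)) (Multiplicative (ZMod (Nat.gcd 2 (q ^ l - 1)) × ZMod (Nat.gcd 2 (q ^ l - 1)))) := by
  subst hF
  classical
  obtain ⟨B, C⟩ := Cfsg.Lib.Linear.Orth.exists_space_plus (F := F) l
  have hn : Fintype.card (Fin l ⊕ Fin l) = 2 * l := by simp; omega
  have h1 : 1 ≤ Fintype.card F ^ l := Nat.one_le_pow _ _ Fintype.card_pos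
  by_cases hq : Odd (Fintype.card F)
  · have h2 := Cfsg.Lib.Linear.Orth.two_ne_zero_of_odd_card (F := F) hq
    have hle : Cfsg.Lib.OrthMult.StemLeTwo ↥(Cfsg.Omega F (Cfsg.quadFormPlus l F)) := by
      rcases eq_or_ne l 4 with rfl | hl4
      · exact Cfsg.Lib.OrthMult.stemLeTwo_plus_eight h2
      · exact Cfsg.Lib.OrthMult.stemLeTwo_omega C h2 (by omega) (Or.inl (by omega))
    have hc : Fintype.card F ^ l % 4 = 1 := by
      obtain ⟨k, rfl⟩ := heven
      obtain ⟨r, hr⟩ := hq
      rw [← two_mul, pow_mul, Nat.pow_mod, hr]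
      rw [show (2 * r + 1) ^ 2 = 4 * (r * r + r) + 1 by ring, Nat.mul_add_mod]
      simp
    have hneg := (Cfsg.Agent.S0790.result (F := F) rfl hq l (by omega)).mpr hc
    have hg : Nat.gcd 2 (Fintype.card F ^ l - 1) = 2 :=
      Nat.gcd_eq_left (Nat.dvd_of_mod_eq_zero (by omega))
    rw [hg]
    exact Cfsg.Lib.OrthMult.multiplier_klein C h2 (by omega) hle l hn heven hneg
  · have h2 := Cfsg.Agent.S0293.two_eq hq
    have hg : Nat.gcd 2 (Fintype.card F ^ l - 1) = 1 := by
      have hev : ¬ Odd (Fintype.card F ^ l) := fun ho => hq ((Nat.odd_pow_iff (by omega)).mp ho)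
      rw [Nat.odd_iff] at hev
      rw [Nat.gcd_rec, show (Fintype.card F ^ l - 1) % 2 = 1 by omega]
      rfl
    rw [hg]
    have hq4 : 4 ≤ l - 1 ∨ 4 ≤ Fintype.card F := by
      rcases eq_or_ne l 4 with rfl | hl4
      · have hq2 : Fintype.card F ≠ 2 := fun e => hexc ⟨rfl, e⟩
        have := Fintype.one_lt_card (α := F)
        have : Fintype.card F % 2 = 0 := by rw [Nat.odd_iff] at hq; omega
        exact Or.inr (by omega)
      · rw [Nat.even_iff] at heven
        exact Or.inl (by omega)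
    obtain ⟨⟨Γ, iG, iF, σ, hσ, ⟨e⟩⟩, hall⟩ := Cfsg.Lib.OrthMult.Two.multiplier_trivial C h2
      (m := l - 1) (by omega) (by omega) hq4
    let t : Multiplicative (ZMod 1) ≃* Multiplicative (ZMod 1 × ZMod 1) :=
      { toFun := fun _ => 1, invFun := fun _ => 1, left_inv := fun _ => Subsingleton.elim _ _,
        right_inv := fun _ => Subsingleton.elim _ _, map_mul' := fun _ _ => by simp }
    refine ⟨⟨Γ, iG, iF, σ, hσ, ⟨e.trans t⟩⟩, fun Δ _ _ τ hτ => ?_⟩
    obtain ⟨π, hπ⟩ := hall Δ τ hτ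
    exact ⟨π.comp t.symm.toMonoidHom, hπ.comp t.symm.surjective⟩

end Cfsg.Agent.S2097
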