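import Cfsg.Statements.S2099
import Cfsg.Agent.Lib.OrthMult.Cover
import Cfsg.Agent.Lib.OrthMult.Two.Main
import Cfsg.Agent.Lib.OrthMult.Two.Eight.Transfer
import Cfsg.Agent.Lib.OrthMult.Three.Transfer
import Cfsg.Agent.S0294

set_option autoImplicit false
open Cfsg

namespace Cfsg.Agent.S2099

/-- Schur multipliers of the even-dimensional orthogonal groups of minus type: for l ≥ 4 and a field F with q elements, the Schur multiplier of PΩ⁻_2l(F) (for the form Σ_{i<l−1} xᵢyᵢ + z₁² + a z₁z₂ + b z₂² with the binary part anisotropic) is cyclic of order gcd(4, q^l + 1); here the Schur multiplier is described through stem extensions, as in the definitions. -/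
theorem result {F : Type*} [Field F] [Fintype F] {q : ℕ} (hF : Fintype.card F = q) (l : ℕ) (hl : 4 ≤ l) (a b : F) (hab : ∀ z₁ z₂ : F, z₁ ^ 2 + a * z₁ * z₂ + b * z₂ ^ 2 = 0 → z₁ = 0 ∧ z₂ = 0) : Cfsg.HasCyclicSchurMultiplier (Cfsg.POmega F (Cfsg.quadFormMinus (l - 1) F a b)) (Nat.gcd 4 (q ^ l + 1)) := by
  subst hF
  classical
  obtain ⟨B, C⟩ := Cfsg.Lib.Linear.Orth.exists_space_minus (F := F) (l - 1) a b hab
  have hn : Fintype.card ((Fin (l - 1) ⊕ Fin (l - 1)) ⊕ Fin 2) = 2 * l := by
    simp only [Fintype.card_sum, Fintype.card_fin]; omega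
  by_cases hq : Odd (Fintype.card F)
  · have h2 := Cfsg.Lib.Linear.Orth.two_ne_zero_of_odd_card (F := F) hq
    have hle : Cfsg.Lib.OrthMult.StemLeTwo ↥(Cfsg.Omega F (Cfsg.quadFormMinus (l - 1) F a b)) := by
      by_cases hs : l = 4 ∧ Fintype.card F = 3
      · obtain ⟨rfl, hF3⟩ := hs
        exact Cfsg.Lib.OrthMult.Three.stemLeTwo_of_card hF3 a b hab
      · refine Cfsg.Lib.OrthMult.stemLeTwo_omega C h2 (by omega) ?_
        rcases eq_or_ne l 4 with rfl | hl4
        · have h1 := Fintype.one_lt_card (α := F)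
          have hne : Fintype.card F ≠ 3 := fun e => hs ⟨rfl, e⟩
          have := Nat.odd_iff.mp hq
          exact Or.inr (by omega)
        · exact Or.inl (by omega)
    have hiff := Cfsg.Agent.S0791.result (F := F) rfl hq l (by omega) a b hab
    by_cases hc : Fintype.card F ^ l % 4 = 1
    · rw [((Cfsg.Agent.S0294.gcd_four hq l).1 hc).2]
      exact Cfsg.Lib.OrthMult.multiplier_two C h2 (by omega) hle (fun h => by have := hiff.mp h; omega)
    · obtain ⟨-, hg, h3⟩ := (Cfsg.Agent.S0294.gcd_four hq l).2 hc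
      rw [hg]
      refine Cfsg.Lib.OrthMult.multiplier_four C h2 (by omega) hle l hn ?_ (hiff.mpr h3)
      rw [← Nat.not_even_iff_odd]
      rintro ⟨k, rfl⟩
      obtain ⟨r, hr⟩ := hq
      rw [hr, ← two_mul, pow_mul, Nat.pow_mod, show (2 * r + 1) ^ 2 = 4 * (r * r + r) + 1 by ring,
        Nat.mul_add_mod] at h3
      simp at h3
  · have h2 := Cfsg.Agent.S0294.two_eq hq
    have hg : Nat.gcd 4 (Fintype.card F ^ l + 1) = 1 := by
      have hev : ¬ Odd (Fintype.card F ^ l) := fun ho => hq ((Nat.odd_pow_iff (by omega)).mp ho)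
      rw [Nat.odd_iff] at hev
      rw [Nat.gcd_rec]
      rcases (by omega : (Fintype.card F ^ l + 1) % 4 = 1 ∨ (Fintype.card F ^ l + 1) % 4 = 3) with
        h' | h' <;> rw [h'] <;> rfl
    rw [hg]
    by_cases hs : l = 4 ∧ Fintype.card F = 2
    · obtain ⟨rfl, hF2⟩ := hs
      exact Cfsg.Lib.OrthMult.Two.Eight.multiplier_of_card hF2 a b hab
    · refine Cfsg.Lib.OrthMult.Two.multiplier_trivial C h2 (m := l - 1) (by omega) (by omega) ?_
      rcases eq_or_ne l 4 with rfl | hl4
      · have h1 := Fintype.one_lt_card (α := F)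
        have hne : Fintype.card F ≠ 2 := fun e => hs ⟨rfl, e⟩
        have : Fintype.card F % 2 = 0 := by rw [Nat.odd_iff] at hq; omega
        exact Or.inr (by omega)
      · exact Or.inl (by omega)

end Cfsg.Agent.S2099
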