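import Cfsg.Statements.S2102
import Cfsg.Agent.S5746
import Cfsg.Agent.S1055
import Cfsg.Agent.S1059
import Cfsg.Agent.Lib.GTwoFour416.Cover

set_option autoImplicit false
open Cfsg
open scoped commutatorElement

namespace Cfsg.Agent.S2102

/-- Exceptional Schur multiplier: over the field with 4 elements the Chevalley group of type G₂ has Schur multiplier cyclic of order 2 (here the Schur multiplier is described through stem extensions, as in the definitions). -/
theorem result {F : Type*} [Field F] [Fintype F] (hF : Fintype.card F = 4) : Cfsg.HasCyclicSchurMultiplier ↥(Cfsg.Lie.chevG2.group F) 2 := by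
  classical
  obtain ⟨e⟩ := S5746.nonempty_equiv hF
  have hcard : Nat.card Cfsg.Lib.GTwoFour416.grp = 251596800 := by
    rw [← Nat.card_congr e.toEquiv, S1059.result hF]
    norm_num
  have hperf : commutator Cfsg.Lib.GTwoFour416.grp = ⊤ := by
    obtain ⟨hs, hn⟩ := S1055.result (F := F) (by
      by_contra hcon
      push Not at hcon
      have : (Finset.univ : Finset F) ⊆ {0, 1} := fun a _ => by
        rw [Finset.mem_insert, Finset.mem_singleton]
        by_cases h : a = 0
        exacts [Or.inl h, Or.inr (hcon a h)]
      have := (Finset.card_le_card this).trans Finset.card_le_two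
      rw [Finset.card_univ, hF] at this
      omega)
    haveI := hs
    rcases IsSimpleGroup.eq_bot_or_eq_top_of_normal (commutator ↥(Cfsg.Lie.chevG2.group F)) inferInstance with h | h
    · exfalso
      refine hn ⟨⟨fun a b => ?_⟩⟩
      have hm : ⁅a, b⁆ ∈ commutator ↥(Cfsg.Lie.chevG2.group F) :=
        Subgroup.commutator_mem_commutator (Subgroup.mem_top a) (Subgroup.mem_top b)
      rw [h, Subgroup.mem_bot] at hm
      exact commutatorElement_eq_one_iff_mul_comm.1 hm
    · rw [commutator_def, ← Subgroup.map_top_of_surjective e.toMonoidHom e.surjective,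
        ← Subgroup.map_commutator, ← commutator_def, h, Subgroup.map_top_of_surjective _ e.surjective]
  exact Cfsg.Lib.Schur.hasSchur_of_equiv e.symm
    (Cfsg.Lib.GTwoFour416.Cover.multiplier_grp hcard hperf)

end Cfsg.Agent.S2102
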