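import Cfsg.Statements.S2110
import Cfsg.Agent.Lib.Chev.TwMult.Triality.Rank
import Cfsg.Agent.Lib.Chev.TwMult.Triality.TwoPart

set_option autoImplicit false
open Cfsg

namespace Cfsg.Agent.S2110

open Cfsg.Lib.Chev Cfsg.Lib.Chev.TwMult Cfsg.Lib.Chev.TwMult.Tri in
/-- Schur multipliers of the triality-twisted groups ³D₄: for every prime power q, with the group realised over the field with q³ elements, the Schur multiplier of ³D₄(q) is trivial (here the Schur multiplier is described through stem extensions, as in the definitions). -/
theorem result {K : Type*} [Field K] [Fintype K] {q : ℕ} (hq : IsPrimePow q) (hK : Fintype.card K = q ^ 3) : Cfsg.HasCyclicSchurMultiplier ↥(Cfsg.Lie.twistedD4 K q) 1 := by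
  obtain ⟨M, rfl⟩ := exists_frame hq hK
  rw [grp_eq M]
  haveI : Finite ↥(grp M) := inferInstance
  refine MultW.trivial_multiplier fun r hr Γ _ _ σ hs hc hcard => ?_
  obtain ⟨p, hchar⟩ := CharP.exists K
  haveI := hchar
  haveI hp : Fact p.Prime := ⟨CharP.char_is_prime K p⟩
  by_cases hrp : r = p
  · subst hrp
    rcases Nat.lt_or_ge M.q 3 with h | h
    · have h2 : M.q = 2 := by have := hq.two_le; omega
      haveI := charP_two M h2
      obtain rfl : r = 2 := CharP.eq K hchar inferInstance
      exact two_part M h2 σ hs hc hcard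
    · exact p_part M h σ hs hc hcard
  · exact cross_part M hr hrp σ hs hc hcard

end Cfsg.Agent.S2110
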