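import Cfsg.Statements.S2111
import Cfsg.Agent.Lib.Chev.MultSuzuki

set_option autoImplicit false
open Cfsg

namespace Cfsg.Agent.S2111

/-- Schur multipliers of the Suzuki groups: for q = 2^(2m+1) with m ≥ 2 the Schur multiplier of Sz(q) is trivial (here the Schur multiplier is described through stem extensions, as in the definitions); q = 8 is exceptional. -/
theorem result {F : Type*} [Field F] [Fintype F] {m : ℕ} (hm : 2 ≤ m) (hF : Fintype.card F = 2 ^ (2 * m + 1)) : Cfsg.HasCyclicSchurMultiplier ↥(Cfsg.Lie.Sz F (2 ^ (m + 1))) 1 := by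
  have h : Cfsg.Lib.Linear.Suz.Params F m := ⟨by omega, hF⟩
  obtain ⟨e, -⟩ := Cfsg.Lib.Linear.Suz.exists_lie_equiv h
  obtain ⟨⟨Γ, i1, i2, σ, ⟨hs, hc, hle⟩, hiso⟩, hall⟩ := Cfsg.Lib.Chev.MultW.suzuki_multiplier h hm
  have hk : ∀ {Δ : Type _} [Group Δ] (τ : Δ →* ↥(Cfsg.Sz F m)), (e.toMonoidHom.comp τ).ker = τ.ker := by
    intro Δ _ τ; ext x; simp [MonoidHom.mem_ker]
  refine ⟨⟨Γ, i1, i2, e.toMonoidHom.comp σ, ⟨e.surjective.comp hs, by rw [hk]; exact hc, by rw [hk]; exact hle⟩, ?_⟩,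
    fun Δ _ _ τ hτ => ?_⟩
  · exact hiso.map fun f => (MulEquiv.subgroupCongr (hk σ)).trans f
  · obtain ⟨hs', hc', hle'⟩ := hτ
    have hk' : (e.symm.toMonoidHom.comp τ).ker = τ.ker := by ext x; simp [MonoidHom.mem_ker]
    obtain ⟨π, hπ⟩ := hall Δ (e.symm.toMonoidHom.comp τ)
      ⟨e.symm.surjective.comp hs', by rw [hk']; exact hc', by rw [hk']; exact hle'⟩
    exact ⟨(MulEquiv.subgroupCongr hk').toMonoidHom.comp π, (MulEquiv.subgroupCongr hk').surjective.comp hπ⟩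

end Cfsg.Agent.S2111
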