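import Cfsg.Statements.S2122
import Cfsg.Agent.Lib.Chev.AutTypes

set_option autoImplicit false
open Cfsg

namespace Cfsg.Agent.S2122

/-- Outer automorphisms of the Chevalley groups of type F₄: over a field with q = p^f (p prime) elements, the outer automorphism group of F₄(q) has order gcd(2, p) · f (field automorphisms, and in characteristic 2 also the exceptional graph automorphism). -/
theorem result {F : Type*} [Field F] [Fintype F] (p f : ℕ) [Fact p.Prime] [CharP F p] (hF : Fintype.card F = p ^ f) : Nat.card (Cfsg.Out ↥(Cfsg.Lie.chevF4.group F)) = Nat.gcd 2 p * f := by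
  have hN : Nat.card F = p ^ f := by rw [Nat.card_eq_fintype_card]; exact hF
  have key : ∀ n : ℕ, (∏ k : Fin 4, n.gcd ((![1, 1, 1, 1] : Fin 4 → ℕ) k)) = 1 := fun n => by
    simp [Fin.prod_univ_succ]
  rw [Cfsg.Lib.Chev.card_out _ Cfsg.Lib.Chev.autDataF4 Cfsg.Lib.Chev.special_F4.1,
    Cfsg.Lib.Chev.card_ker_cartan Cfsg.Lib.Chev.torusCertF4,
    (Cfsg.Lib.Chev.special_F4 (F := F)).2 p inferInstance, (Cfsg.Lib.Chev.card_ringAut_field p f hN).2]
  erw [key]
  rcases (Fact.out : p.Prime).eq_two_or_odd' with rfl | hodd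
  · simp
  · have h2 : p ≠ 2 := fun e => by subst e; exact absurd hodd (by decide)
    rw [if_neg h2, (Nat.coprime_two_left.2 hodd).gcd_eq_one]

end Cfsg.Agent.S2122
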