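import Cfsg.Statements.S2123
import Cfsg.Agent.Lib.Chev.AutTypes

set_option autoImplicit false
open Cfsg

namespace Cfsg.Agent.S2123

/-- Outer automorphisms of the (adjoint, simple) Chevalley groups of type E₆: over a field with q = p^f (p prime) elements, the outer automorphism group of E₆(q) has order 2 · gcd(3, q − 1) · f (diagonal, field and graph automorphisms). -/
theorem result {F : Type*} [Field F] [Fintype F] (p f : ℕ) [Fact p.Prime] [CharP F p] (hF : Fintype.card F = p ^ f) : Nat.card (Cfsg.Out ↥(Cfsg.Lie.chevE6.group F)) = 2 * Nat.gcd 3 (p ^ f - 1) * f := by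
  have hN : Nat.card F = p ^ f := by rw [Nat.card_eq_fintype_card]; exact hF
  have key : ∀ n : ℕ, (∏ k : Fin 6, n.gcd ((![1, 1, 1, 1, 1, 3] : Fin 6 → ℕ) k)) = n.gcd 3 := fun n => by
    simp [Fin.prod_univ_succ]
  rw [Cfsg.Lib.Chev.card_out _ Cfsg.Lib.Chev.autDataE6 (Cfsg.Lib.Chev.graphData_of_all Cfsg.Lib.Chev.graphOK_E6),
    Cfsg.Lib.Chev.card_ker_cartan Cfsg.Lib.Chev.torusCertE6,
    Cfsg.Lib.Chev.graphPerm_of_all Cfsg.Lib.Chev.autDataE6 Cfsg.Lib.Chev.graphOK_E6 Cfsg.Lib.Chev.symExtE6 (by decide),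
    (Cfsg.Lib.Chev.card_ringAut_field p f hN).2, hN]
  erw [key]
  rw [Nat.gcd_comm, List.length_cons, List.length_singleton, mul_comm (Nat.gcd _ _) (1 + 1)]

end Cfsg.Agent.S2123
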