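import Cfsg.Statements.S2125
import Cfsg.Agent.Lib.Chev.AutTypes

set_option autoImplicit false
open Cfsg

namespace Cfsg.Agent.S2125

/-- Outer automorphisms of the Chevalley groups of type E₈: over a field with p^f elements, p prime, the outer automorphism group of E₈(p^f) has order f (field automorphisms only). -/
theorem result {F : Type*} [Field F] [Fintype F] (p f : ℕ) [Fact p.Prime] [CharP F p] (hF : Fintype.card F = p ^ f) : Nat.card (Cfsg.Out ↥(Cfsg.Lie.chevE8.group F)) = f := by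
  have hN : Nat.card F = p ^ f := by rw [Nat.card_eq_fintype_card]; exact hF
  have key : ∀ n : ℕ, (∏ k : Fin 8, n.gcd ((![1, 1, 1, 1, 1, 1, 1, 1] : Fin 8 → ℕ) k)) = 1 := fun n => by
    simp [Fin.prod_univ_succ]
  rw [Cfsg.Lib.Chev.card_out _ Cfsg.Lib.Chev.autDataE8 (Cfsg.Lib.Chev.graphData_of_all Cfsg.Lib.Chev.all_E8),
    Cfsg.Lib.Chev.card_ker_cartan Cfsg.Lib.Chev.torusCertE8,
    Cfsg.Lib.Chev.graphPerm_of_all Cfsg.Lib.Chev.autDataE8 Cfsg.Lib.Chev.all_E8 Cfsg.Lib.Chev.symExtE8 (by decide),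
    (Cfsg.Lib.Chev.card_ringAut_field p f hN).2]
  erw [key]
  rw [List.length_singleton, one_mul, one_mul]

end Cfsg.Agent.S2125
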