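import Cfsg.Statements.S2140
import Cfsg.Agent.Lib.Linear.MinIndexPSL

set_option autoImplicit false
open Cfsg

namespace Cfsg.Agent.S2140

/-- Minimal index of a proper subgroup of the linear groups: for n ≥ 3 and a field F with q elements, (n, q) ≠ (4, 2), every proper subgroup of PSL_n(F) has index at least (q^n − 1)/(q − 1), and some subgroup has exactly that index (the stabiliser of a point of the projective space). -/
theorem result {F : Type*} [Field F] [Fintype F] {q : ℕ} (hF : Fintype.card F = q) (n : ℕ) (hn : 3 ≤ n) (hexc : ¬ (n = 4 ∧ q = 2)) : (∀ H : Subgroup (Matrix.ProjectiveSpecialLinearGroup (Fin n) F), H ≠ ⊤ → (q ^ n - 1) / (q - 1) ≤ H.index) ∧ (∃ H : Subgroup (Matrix.ProjectiveSpecialLinearGroup (Fin n) F), H.index = (q ^ n - 1) / (q - 1)) := by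
  classical
  subst hF
  have : NeZero n := ⟨by omega⟩
  set q := Fintype.card F
  have hq : 2 ≤ q := Fintype.one_lt_card
  have : ∀ m, m ≠ 0 → (q ^ n - 1) = m * (q - 1) → (q ^ n - 1) / (q - 1) = m := fun m _ h => by
    rw [h, Nat.mul_div_cancel _ (by omega)]
  constructor
  · intro H hH
    obtain ⟨p, hc⟩ := CharP.exists F
    have : Fact p.Prime := ⟨CharP.char_is_prime F p⟩
    set K := H.comap (QuotientGroup.mk' (Subgroup.center (Matrix.SpecialLinearGroup (Fin n) F)))
    have hidx : K.index = H.index := Subgroup.index_comap_of_surjective _ (QuotientGroup.mk'_surjective _)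
    have hK : K ≠ ⊤ := fun h => hH (Subgroup.index_eq_one.1 (by rw [← hidx, h, Subgroup.index_top]))
    have h := Cfsg.Lib.Linear.MinIndex.le_index (P := K) p (by rw [Fintype.card_fin]; exact hn)
      (by rw [Fintype.card_fin]; exact hexc) hK
    rw [Fintype.card_fin, hidx] at h
    refine Nat.div_le_of_le_mul ?_
    rw [mul_comm]
    exact Nat.sub_le_of_le_add h
  · have he : (Pi.single ⟨0, by omega⟩ 1 : Fin n → F) ≠ 0 := Pi.single_ne_zero_iff.2 one_ne_zero
    refine ⟨(Cfsg.Lib.Linear.AutPSL.St (Pi.single ⟨0, by omega⟩ (1 : F))).map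
      (QuotientGroup.mk' (Subgroup.center (Matrix.SpecialLinearGroup (Fin n) F))), ?_⟩
    rw [Subgroup.index_map_eq _ (QuotientGroup.mk'_surjective _)
      ((QuotientGroup.ker_mk' _).trans_le (Cfsg.Lib.Linear.AutPSL.center_le_St _)),
      Cfsg.Lib.Linear.AutPSL.index_St he]
    refine (this _ Nat.card_pos.ne' ?_).symm
    have := Cfsg.Lib.Linear.AutPSL.card_points (ι := Fin n) (F := F)
    rw [Fintype.card_fin] at this
    simp only [q]
    omega

end Cfsg.Agent.S2140
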