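import Cfsg.Statements.S2143
import Cfsg.Agent.Lib.Linear.MinIndexOrth.Main
import Cfsg.Agent.Lib.Linear.OrthOrderStd

set_option autoImplicit false
open Cfsg

namespace Cfsg.Agent.S2143

/-- Minimal index of a proper subgroup of the odd-dimensional orthogonal groups: for m ≥ 3 and a field F with q elements, q odd and q ≥ 5, every proper subgroup of PΩ_(2m+1)(F) (for the form x₀² + Σ xᵢyᵢ) has index at least (q^(2m) − 1)/(q − 1), and that index is attained. -/
theorem result {F : Type*} [Field F] [Fintype F] {q : ℕ} (hF : Fintype.card F = q) (hodd : Odd q) (h5 : 5 ≤ q) (m : ℕ) (hm : 3 ≤ m) : (∀ H : Subgroup (Cfsg.POmega F (Cfsg.quadFormOdd m F)), H ≠ ⊤ → (q ^ (2 * m) - 1) / (q - 1) ≤ H.index) ∧ (∃ H : Subgroup (Cfsg.POmega F (Cfsg.quadFormOdd m F)), H.index = (q ^ (2 * m) - 1) / (q - 1)) := by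
  have hq : Nat.card F = q := by rw [Nat.card_eq_fintype_card, hF]
  have h2 : (2 : F) ≠ 0 := Lib.Linear.Orth.two_ne_zero_of_odd_card (hF ▸ hodd)
  obtain ⟨B, C⟩ := Lib.Linear.Orth.exists_space (Lib.Linear.Orth.isQuad_odd (F := F) m h2)
  have hι := Lib.Linear.Orth.card_odd_index m
  have hz : Lib.Linear.MinIndexOrth.singNum (Cfsg.quadFormOdd m F) = q ^ (2 * m) - 1 := by
    have h1 := (Lib.Linear.Orth.counts_odd (F := F) h2 m).1 (by omega)
    rw [← Lib.Linear.MinIndexOrth.singNum_add_one C, hq,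
      show 1 + m - 1 = m by omega] at h1
    push_cast at h1
    have h3 : 1 ≤ q ^ (2 * m) := Nat.one_le_pow _ _ (by omega)
    zify [h3]
    rw [pow_mul' (q : ℤ) 2 m]
    linear_combination h1
  refine ⟨fun H hH => ?_, ?_⟩
  · have h := Lib.Linear.MinIndexOrth.index_lower C (by omega) (by omega) ?_ ?_ ?_ H hH
    · rw [hz, hq, mul_comm H.index] at h
      exact Nat.div_le_of_le_mul h
    · rw [hz, hq, hι, show 2 * m + 1 - 1 = 2 * m by omega]; omega
    · intro h7
      have h3 : 1 ≤ q ^ 6 := Nat.one_le_pow _ _ (by omega)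
      rw [hz, hq, show 2 * m = 6 by omega]; omega
    · intro h8; omega
  · obtain ⟨H, hH⟩ := Lib.Linear.MinIndexOrth.exists_index_eq C (by omega)
    refine ⟨H, ?_⟩
    rw [hz, hq] at hH
    rw [← hH, Nat.mul_div_cancel _ (by omega)]

end Cfsg.Agent.S2143
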