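import Cfsg.Statements.S2144
import Cfsg.Agent.Lib.Linear.MinIndexOrth.Small.Odd
import Cfsg.Agent.Lib.Linear.OrthOrderStd

set_option autoImplicit false
open Cfsg

namespace Cfsg.Agent.S2144

/-- Minimal index of a proper subgroup of the odd-dimensional orthogonal groups over the field with 3 elements: for m ≥ 3, every proper subgroup of PΩ_(2m+1)(3) (for the form x₀² + Σ xᵢyᵢ) has index at least 3^m(3^m − 1)/2, and that index is attained. -/
theorem result {F : Type*} [Field F] [Fintype F] (hF : Fintype.card F = 3) (m : ℕ) (hm : 3 ≤ m) : (∀ H : Subgroup (Cfsg.POmega F (Cfsg.quadFormOdd m F)), H ≠ ⊤ → 3 ^ m * (3 ^ m - 1) / 2 ≤ H.index) ∧ (∃ H : Subgroup (Cfsg.POmega F (Cfsg.quadFormOdd m F)), H.index = 3 ^ m * (3 ^ m - 1) / 2) := by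
  have hq : Nat.card F = 3 := by rw [Nat.card_eq_fintype_card, hF]
  have h2 : (2 : F) ≠ 0 := Lib.Linear.MinIndexOrth.char_ne_two_of_three hq
  obtain ⟨B, C⟩ := Lib.Linear.Orth.exists_space (Lib.Linear.Orth.isQuad_odd (F := F) m h2)
  have hι := Lib.Linear.Orth.card_odd_index m
  have hz : Lib.Linear.MinIndexOrth.singNum (Cfsg.quadFormOdd m F) + 1 = 9 ^ m := by
    have h1 := (Lib.Linear.Orth.counts_odd (F := F) h2 m).1 (by omega)
    rw [← Lib.Linear.MinIndexOrth.singNum_add_one C, hq,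
      show 1 + m - 1 = m by omega] at h1
    push_cast at h1
    zify
    rw [show (9 : ℤ) = 3 * 3 by norm_num, mul_pow]
    linear_combination h1
  refine ⟨fun H hH => ?_, ?_⟩
  · have h := Lib.Linear.MinIndexOrth.index_lower_odd_three C hq hm hι hz H hH
    exact Nat.div_le_of_le_mul (by omega)
  · obtain ⟨H, hH⟩ := Lib.Linear.MinIndexOrth.exists_index_odd_three C hq hm hι hz
    exact ⟨H, by omega⟩

end Cfsg.Agent.S2144
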