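import Cfsg.Statements.S2145
import Cfsg.Agent.Lib.Linear.MinIndexOrth.Main
import Cfsg.Agent.Lib.Linear.OrthOrderStd

set_option autoImplicit false
open Cfsg

namespace Cfsg.Agent.S2145

/-- Minimal index of a proper subgroup of the even-dimensional orthogonal groups of plus type: for m ≥ 4 and a field F with q ≥ 4 elements, every proper subgroup of PΩ⁺_2m(F) (for the form Σ xᵢyᵢ) has index at least (q^m − 1)(q^(m−1) + 1)/(q − 1), and that index is attained (the singular points). -/
theorem result {F : Type*} [Field F] [Fintype F] {q : ℕ} (hF : Fintype.card F = q) (hq : 4 ≤ q) (m : ℕ) (hm : 4 ≤ m) : (∀ H : Subgroup (Cfsg.POmega F (Cfsg.quadFormPlus m F)), H ≠ ⊤ → (q ^ m - 1) * (q ^ (m - 1) + 1) / (q - 1) ≤ H.index) ∧ (∃ H : Subgroup (Cfsg.POmega F (Cfsg.quadFormPlus m F)), H.index = (q ^ m - 1) * (q ^ (m - 1) + 1) / (q - 1)) := by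
  have hq' : Nat.card F = q := by rw [Nat.card_eq_fintype_card, hF]
  obtain ⟨B, C⟩ := Lib.Linear.Orth.exists_space_plus (F := F) m
  have hι : Fintype.card (Fin m ⊕ Fin m) = 2 * m := by simp; omega
  have hz : Lib.Linear.MinIndexOrth.singNum (Cfsg.quadFormPlus m F) =
      (q ^ m - 1) * (q ^ (m - 1) + 1) := by
    have h1 := (Lib.Linear.Orth.counts_plus (F := F) m).1 (by omega)
    rw [← Lib.Linear.MinIndexOrth.singNum_add_one C, hq', Nat.zero_add] at h1
    push_cast at h1
    have h3 : 1 ≤ q ^ m := Nat.one_le_pow _ _ (by omega)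
    zify [h3]
    linear_combination h1
  refine ⟨fun H hH => ?_, ?_⟩
  · have h := Lib.Linear.MinIndexOrth.index_lower C (by omega) (by omega) ?_ ?_ ?_ H hH
    · rw [hz, hq', mul_comm _ (q - 1)] at h
      exact Nat.div_le_of_le_mul h
    · rw [hz, hq', hι]
      have h4 : q ^ m * q ^ (m - 1) = q ^ (2 * m - 1) := by rw [← pow_add]; congr 1; omega
      have h5 : q ^ m ≤ q ^ (2 * m - 4) := Nat.pow_le_pow_right (by omega) (by omega)
      calc (q ^ m - 1) * (q ^ (m - 1) + 1) ≤ q ^ m * (q ^ (m - 1) + 1) :=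
            Nat.mul_le_mul_right _ (Nat.sub_le _ _)
        _ ≤ _ := by rw [mul_add, mul_one, h4]; omega
    · intro h7; omega
    · intro h8
      obtain rfl : m = 4 := by omega
      rw [hz, hq']
      have h3 : 1 ≤ q ^ 4 := Nat.one_le_pow _ _ (by omega)
      zify [h3]
      ring_nf
      omega
  · obtain ⟨H, hH⟩ := Lib.Linear.MinIndexOrth.exists_index_eq C (by omega)
    refine ⟨H, ?_⟩
    rw [hz, hq'] at hH
    rw [← hH, Nat.mul_div_cancel _ (by omega)]

end Cfsg.Agent.S2145
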