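import Cfsg.Statements.S2146
import Cfsg.Agent.Lib.Linear.MinIndexOrth.Small.Plus
import Cfsg.Agent.Lib.Linear.OrthOrderStd

set_option autoImplicit false
open Cfsg

namespace Cfsg.Agent.S2146

/-- Minimal index of a proper subgroup of the even-dimensional orthogonal groups of plus type over the field with 2 elements: for m ≥ 4, every proper subgroup of Ω⁺_2m(2) (for the form Σ xᵢyᵢ) has index at least 2^(m−1)(2^m − 1), and that index is attained. -/
theorem result {F : Type*} [Field F] [Fintype F] (hF : Fintype.card F = 2) (m : ℕ) (hm : 4 ≤ m) : (∀ H : Subgroup (Cfsg.POmega F (Cfsg.quadFormPlus m F)), H ≠ ⊤ → 2 ^ (m - 1) * (2 ^ m - 1) ≤ H.index) ∧ (∃ H : Subgroup (Cfsg.POmega F (Cfsg.quadFormPlus m F)), H.index = 2 ^ (m - 1) * (2 ^ m - 1)) := by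
  have hq : Nat.card F = 2 := by rw [Nat.card_eq_fintype_card, hF]
  obtain ⟨B, C⟩ := Lib.Linear.Orth.exists_space_plus (F := F) m
  have hι : Fintype.card (Fin m ⊕ Fin m) = 2 * m := by simp; omega
  have hz : Lib.Linear.MinIndexOrth.singNum (Cfsg.quadFormPlus m F) =
      (2 ^ m - 1) * (2 ^ (m - 1) + 1) := by
    have h1 := (Lib.Linear.Orth.counts_plus (F := F) m).1 (by omega)
    rw [← Lib.Linear.MinIndexOrth.singNum_add_one C, hq, Nat.zero_add] at h1
    push_cast at h1
    have h3 : 1 ≤ 2 ^ m := Nat.one_le_pow _ _ (by omega)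
    zify [h3]
    linear_combination h1
  exact ⟨fun H hH => Lib.Linear.MinIndexOrth.index_lower_plus_two C hq hm hι hz H hH,
    Lib.Linear.MinIndexOrth.exists_index_plus_two C hq hm hι hz⟩

end Cfsg.Agent.S2146
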