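import Cfsg.Statements.S2147
import Cfsg.Agent.Lib.Linear.MinIndexOrth.Small.Index
import Cfsg.Agent.Lib.Linear.OrthOrderStd

set_option autoImplicit false
open Cfsg

namespace Cfsg.Agent.S2147

/-- Minimal index of a proper subgroup of the even-dimensional orthogonal groups of minus type: for m ≥ 4 and a field F with q elements, every proper subgroup of PΩ⁻_2m(F) (for the form Σ_{i<m−1} xᵢyᵢ + z₁² + a z₁z₂ + b z₂² with anisotropic binary part) has index at least (q^m + 1)(q^(m−1) − 1)/(q − 1), and that index is attained. -/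
theorem result {F : Type*} [Field F] [Fintype F] {q : ℕ} (hF : Fintype.card F = q) (m : ℕ) (hm : 4 ≤ m) (a b : F) (hab : ∀ z₁ z₂ : F, z₁ ^ 2 + a * z₁ * z₂ + b * z₂ ^ 2 = 0 → z₁ = 0 ∧ z₂ = 0) : (∀ H : Subgroup (Cfsg.POmega F (Cfsg.quadFormMinus (m - 1) F a b)), H ≠ ⊤ → (q ^ m + 1) * (q ^ (m - 1) - 1) / (q - 1) ≤ H.index) ∧ (∃ H : Subgroup (Cfsg.POmega F (Cfsg.quadFormMinus (m - 1) F a b)), H.index = (q ^ m + 1) * (q ^ (m - 1) - 1) / (q - 1)) := by
  have hq' : Nat.card F = q := by rw [Nat.card_eq_fintype_card, hF]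
  have hq2 : 2 ≤ q := by rw [← hF]; exact Fintype.one_lt_card
  obtain ⟨B, C⟩ := Lib.Linear.Orth.exists_space_minus (F := F) (m - 1) a b hab
  have hι : Fintype.card ((Fin (m - 1) ⊕ Fin (m - 1)) ⊕ Fin 2) = 2 * m := by simp; omega
  have hzint : (Lib.Linear.MinIndexOrth.singNum (Cfsg.quadFormMinus (m - 1) F a b) : ℤ) =
      ((q : ℤ) ^ m + 1) * ((q : ℤ) ^ (m - 1) - 1) := by
    have h1 := (Lib.Linear.Orth.counts_minus (F := F) (a := a) (b := b) (m - 1) hab).1 (by omega)
    rw [← Lib.Linear.MinIndexOrth.singNum_add_one C, hq', show 2 + (m - 1) - 1 = m by omega] at h1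
    push_cast at h1
    linear_combination h1
  have hz : Lib.Linear.MinIndexOrth.singNum (Cfsg.quadFormMinus (m - 1) F a b) =
      (q ^ m + 1) * (q ^ (m - 1) - 1) := by
    have h3 : 1 ≤ q ^ (m - 1) := Nat.one_le_pow _ _ (by omega)
    zify [h3]
    exact hzint
  refine ⟨fun H hH => ?_, ?_⟩
  · have h : Lib.Linear.MinIndexOrth.singNum (Cfsg.quadFormMinus (m - 1) F a b) ≤
        H.index * (Nat.card F - 1) := by
      by_cases hq4 : 4 ≤ q
      · refine Lib.Linear.MinIndexOrth.index_lower C (by omega) (by omega) ?_ ?_ ?_ H hH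
        · rw [hz, hq', hι]
          have h4 : q ^ m * q ^ (m - 1) = q ^ (2 * m - 1) := by rw [← pow_add]; congr 1; omega
          have h5 : q ^ (m - 1) ≤ q ^ (2 * m - 4) := Nat.pow_le_pow_right (by omega) (by omega)
          calc (q ^ m + 1) * (q ^ (m - 1) - 1) ≤ (q ^ m + 1) * q ^ (m - 1) :=
                Nat.mul_le_mul_left _ (Nat.sub_le _ _)
            _ ≤ _ := by rw [add_mul, one_mul, h4]; omega
        · intro h7; omega
        · intro h8
          obtain rfl : m = 4 := by omega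
          rw [hz, hq', show 4 - 1 = 3 from rfl]
          have h3 : 1 ≤ q ^ 3 := Nat.one_le_pow _ _ (by omega)
          zify [h3]
          ring_nf
          have h7 : (q : ℤ) ^ 3 ≤ (q : ℤ) ^ 4 := pow_le_pow_right₀ (by omega) (by omega)
          omega
      · exact Lib.Linear.MinIndexOrth.index_lower_minus C (by omega) hm hι
          (by rw [hq']; exact hzint) H hH
    rw [hz, hq', mul_comm _ (q - 1)] at h
    exact Nat.div_le_of_le_mul h
  · obtain ⟨H, hH⟩ := Lib.Linear.MinIndexOrth.exists_index_eq C (by omega)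
    refine ⟨H, ?_⟩
    rw [hz, hq'] at hH
    rw [← hH, Nat.mul_div_cancel _ (by omega)]

end Cfsg.Agent.S2147
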