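import Cfsg.Statements.S2160
import Cfsg.Agent.Lib.Chev.FullAll
import Cfsg.Agent.Lib.Chev.GraphGen

set_option autoImplicit false
open Cfsg

namespace Cfsg.Agent.S2160

/-- In a Chevalley group of type G₂, B₂, D₄, F₄, E₆, E₇ or E₈ over a finite field, every field automorphism commutes with every graph automorphism. -/
theorem result {F : Type*} [Field F] [Finite F] (D : Cfsg.Lie.ChevalleyDatum) (hD : D ∈ [Cfsg.Lie.chevG2, Cfsg.Lie.chevB2, Cfsg.Lie.chevD4, Cfsg.Lie.chevF4, Cfsg.Lie.chevE6, Cfsg.Lie.chevE7, Cfsg.Lie.chevE8]) (f g : ↥(D.group F) ≃* ↥(D.group F))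
    (hf : D.IsFieldAut f) (hg : D.IsGraphAut g) (y : ↥(D.group F)) : f (g y) = g (f y) := by
  obtain ⟨T, K⟩ := Cfsg.Lib.Chev.exists_fullCert hD
  have C := K.comm.cert
  obtain ⟨σ, hσ⟩ := hf
  obtain ⟨π, -, hπ⟩ := hg
  have key : f.toMonoidHom.comp g.toMonoidHom = g.toMonoidHom.comp f.toMonoidHom := by
    refine Cfsg.Lib.Chev.hom_ext_simple C fun i hi x t => ?_
    have hp := C.spec.simp_lt i hi
    have hq := C.spec.simp_lt _ (π ⟨i, hi⟩).2
    have hnn : D.neg (D.simple (π ⟨i, hi⟩)) < D.nroots := by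
      rw [C.spec.shape.simple_eq _ (π ⟨i, hi⟩).2, C.spec.shape.neg_eq _ hq]; exact C.spec.neg_lt _ hq
    have hs : D.simple (π ⟨i, hi⟩) < D.nroots := by rw [C.spec.shape.simple_eq _ (π ⟨i, hi⟩).2]; exact hq
    have hsi : D.simple i = T.simp' i := C.spec.shape.simple_eq i hi
    have hni : D.neg (D.simple i) = T.neg (T.simp' i) := by rw [hsi, C.spec.shape.neg_eq _ hp]
    refine ⟨fun e => ?_, fun e => ?_⟩ <;> refine Subtype.ext (Units.ext ?_)
    · have e1 : ((x : GL D.Idx F) : Matrix D.Idx D.Idx F) = D.x F (D.simple i) t := by rw [hsi, e, Cfsg.Lib.Chev.coe_xg]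
      have e2 := (hπ x ⟨i, hi⟩ t).1 e1
      have e3 := hσ (g x) _ _ hs e2
      have e4 := hσ x _ _ (hsi ▸ hp) e1
      have e5 := (hπ (f x) ⟨i, hi⟩ (σ t)).1 e4
      rw [map_pow] at e3
      exact e3.trans e5.symm
    · have e1 : ((x : GL D.Idx F) : Matrix D.Idx D.Idx F) = D.x F (D.neg (D.simple i)) t := by rw [hni, e, Cfsg.Lib.Chev.coe_xg]
      have e2 := (hπ x ⟨i, hi⟩ t).2 e1
      have e3 := hσ (g x) _ _ hnn e2
      have e4 := hσ x _ _ (hni ▸ C.spec.neg_lt _ hp) e1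
      have e5 := (hπ (f x) ⟨i, hi⟩ (σ t)).2 e4
      rw [map_pow] at e3
      exact e3.trans e5.symm
  exact DFunLike.congr_fun key y

end Cfsg.Agent.S2160
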