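import Cfsg.Statements.S2161
import Cfsg.Agent.Lib.Chev.GraphPerm

set_option autoImplicit false
open Cfsg

namespace Cfsg.Agent.S2161

/-- For the Chevalley groups of types D₄ and E₆ (one root length) over any field: if `π` is a symmetry of the Dynkin diagram and `φ` is an automorphism sending `x_{p_i}(t)` to `x_{p_{π i}}(t)` and `x_{-p_i}(t)` to `x_{-p_{π i}}(t)` for every fundamental root `p_i`, then for every root `r` there is a sign `ε = ±1` with `φ(x_r(t)) = x_{π·r}(ε t)` for all `t`, where `π·r` is the root whose coefficients are those of `r` permuted by `π`. -/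
theorem result {F : Type*} [Field F] (D : Cfsg.Lie.ChevalleyDatum) (hD : D ∈ [Cfsg.Lie.chevD4, Cfsg.Lie.chevE6])
    (π : Equiv.Perm (Fin D.rank)) (hπ : D.IsDiagramSymmetry π) (φ : ↥(D.group F) ≃* ↥(D.group F))
    (hφ : ∀ (g : ↥(D.group F)) (i : Fin D.rank) (t : F),
      (((g : GL D.Idx F) : Matrix D.Idx D.Idx F) = D.x F (D.simple i) t →
        ((φ g : GL D.Idx F) : Matrix D.Idx D.Idx F) = D.x F (D.simple (π i)) t) ∧
      (((g : GL D.Idx F) : Matrix D.Idx D.Idx F) = D.x F (D.neg (D.simple i)) t →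
        ((φ g : GL D.Idx F) : Matrix D.Idx D.Idx F) = D.x F (D.neg (D.simple (π i))) t))
    (r : ℕ) (hr : r < D.nroots) :
    ∃ ε : F, (ε = 1 ∨ ε = -1) ∧ ∀ (g : ↥(D.group F)) (t : F),
      ((g : GL D.Idx F) : Matrix D.Idx D.Idx F) = D.x F r t →
        ((φ g : GL D.Idx F) : Matrix D.Idx D.Idx F) = D.x F (D.permRoot π r) (ε * t) := by
  obtain ⟨T, S, C, h, hnode, hroot⟩ := Cfsg.Lib.Chev.exists_symOK_of_symmetry hD hπ
  obtain ⟨α, hα, hα'⟩ := Cfsg.Lib.Chev.exists_graphAut C h (F := F)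
  have key : φ.toMonoidHom = α.toMonoidHom := by
    refine Cfsg.Lib.Chev.hom_ext_simple C fun i hi x u => ?_
    have hp := C.spec.simp_lt i hi
    have hsi : D.simple i = T.simp' i := C.spec.shape.simple_eq i hi
    have hni : D.neg (D.simple i) = T.neg (T.simp' i) := by rw [hsi, C.spec.shape.neg_eq _ hp]
    have hpi : (π ⟨i, hi⟩).val = S.node i := hnode ⟨i, hi⟩
    refine ⟨fun e => ?_, fun e => ?_⟩ <;> refine Subtype.ext (Units.ext ?_)
    · have e1 : ((x : GL D.Idx F) : Matrix D.Idx D.Idx F) = D.x F (D.simple i) u := by rw [hsi, e, Cfsg.Lib.Chev.coe_xg]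
      have a1 := (hφ x ⟨i, hi⟩ u).1 e1
      rw [hpi] at a1
      exact a1.trans ((hα' x i u hi).1 e1).symm
    · have e1 : ((x : GL D.Idx F) : Matrix D.Idx D.Idx F) = D.x F (D.neg (D.simple i)) u := by rw [hni, e, Cfsg.Lib.Chev.coe_xg]
      have a1 := (hφ x ⟨i, hi⟩ u).2 e1
      rw [hpi] at a1
      exact a1.trans ((hα' x i u hi).2 e1).symm
  refine ⟨(S.eps r : ℤ), ?_, fun g t e => ?_⟩
  · rcases h.eps_cases r hr with e | e <;> rw [e] <;> simp
  · have e' : φ g = α g := DFunLike.congr_fun key g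
    rw [e', hα, Cfsg.Lib.Chev.eq_xg C e, h.glHom_xg C hr, hroot r hr, Cfsg.Lib.Chev.coe_xg]

end Cfsg.Agent.S2161
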