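import Cfsg.Statements.S2162
import Cfsg.Agent.Lib.Linear.UnipotentCommutant

set_option autoImplicit false
open Cfsg

namespace Cfsg.Agent.S2162

open Polynomial
open Cfsg.Lib
open Cfsg.Agent.Lib.Linear

universe u

variable {F : Type u} [Field F] [Fintype F]

theorem sum_pred {ι : Type*} [Fintype ι] (e : ι → ℕ) (he : ∀ i, 1 ≤ e i) :
    ∑ i, e i = ∑ i, (e i - 1) + Fintype.card ι := by
  rw [← Finset.card_univ, Finset.card_eq_sum_ones, ← Finset.sum_add_distrib]
  exact Finset.sum_congr rfl fun i _ => by have := he i; omega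

theorem counts (s : Multiset ℕ) (hs : ∀ x ∈ s, 0 < x ∧ x ≤ 2) :
    s.sum = s.count 1 + 2 * s.count 2 ∧ (s.map fun x => x - 1).sum = s.count 2 := by
  induction s using Multiset.induction_on with
  | empty => simp
  | cons a s ih =>
    obtain ⟨h1, h2⟩ := ih fun x hx => hs x (Multiset.mem_cons_of_mem hx)
    obtain ⟨h3, h4⟩ := hs a (Multiset.mem_cons_self a s)
    interval_cases a <;> simp [h1, h2] <;> omega

/-- Conjugacy of involutions in the special linear group over a finite field of characteristic two, in dimension at least 3: two elements of order 2 of SL_n(F) are conjugate in SL_n(F) exactly when the matrices a − 1 and b − 1 have the same rank (the rank of a − 1 is the dimension of the commutator space [V, a]). -/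
theorem result {F : Type*} [Field F] [Fintype F] [CharP F 2] {n : ℕ} (hn : 3 ≤ n) (a b : Matrix.SpecialLinearGroup (Fin n) F) (ha : orderOf a = 2) (hb : orderOf b = 2) :
    IsConj a b ↔ ((a : Matrix (Fin n) (Fin n) F) - 1).rank = ((b : Matrix (Fin n) (Fin n) F) - 1).rank := by
  classical
  have hsq : ∀ x : Matrix.SpecialLinearGroup (Fin n) F, orderOf x = 2 →
      ((x : Matrix (Fin n) (Fin n) F) - 1) ^ 2 = 0 := by
    intro x hx
    have h1 : (x : Matrix (Fin n) (Fin n) F) ^ 2 ^ 1 = 1 := by
      rw [pow_one, ← Matrix.SpecialLinearGroup.coe_pow, ← hx, pow_orderOf_eq_one]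
      rfl
    simpa using (UnipotentClasses.pow_eq_one_iff _ 1).mp h1
  constructor
  · intro h
    obtain ⟨c, hc⟩ := isConj_iff.mp h
    have h1 : (c : Matrix (Fin n) (Fin n) F) * ((a : Matrix (Fin n) (Fin n) F) - 1) =
        ((b : Matrix (Fin n) (Fin n) F) - 1) * (c : Matrix (Fin n) (Fin n) F) := by
      rw [mul_sub, sub_mul, mul_one, one_mul, ← hc, Matrix.SpecialLinearGroup.coe_mul,
        Matrix.SpecialLinearGroup.coe_mul, mul_assoc, ← Matrix.SpecialLinearGroup.coe_mul c⁻¹,
        inv_mul_cancel, Matrix.SpecialLinearGroup.coe_one, mul_one]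
    have hu : IsUnit (c : Matrix (Fin n) (Fin n) F).det := by rw [c.2]; exact isUnit_one
    rw [← Matrix.rank_mul_eq_right_of_isUnit_det _ ((a : Matrix (Fin n) (Fin n) F) - 1) hu, h1,
      Matrix.rank_mul_eq_left_of_isUnit_det _ _ hu]
  · intro h
    obtain ⟨μ, hμ, ι, hι, e, he, hmap, hA⟩ := UnipotentClasses.exists_type 2 (hsq a ha)
    obtain ⟨ν, hν, κ, hκ, d, hd, hmap', hB⟩ := UnipotentClasses.exists_type 2 (hsq b hb)
    rw [UnipotentCommutant.rank_sub_one hA, UnipotentCommutant.rank_sub_one hB] at h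
    have h1 := counts μ.parts fun x hx => ⟨μ.parts_pos hx, hμ x hx⟩
    have h2 := counts ν.parts fun x hx => ⟨ν.parts_pos hx, hν x hx⟩
    rw [μ.parts_sum] at h1
    rw [ν.parts_sum] at h2
    have h3 : (μ.parts.map fun x => x - 1).sum = (ν.parts.map fun x => x - 1).sum := by
      rw [← hmap, ← hmap', Multiset.map_map, Multiset.map_map]
      exact h
    have hpe : μ.parts = ν.parts := by
      refine Multiset.ext.mpr fun x => ?_
      rcases x with _ | _ | _ | x
      · rw [Multiset.count_eq_zero.mpr fun hx => lt_irrefl _ (μ.parts_pos hx),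
          Multiset.count_eq_zero.mpr fun hx => lt_irrefl _ (ν.parts_pos hx)]
      · show μ.parts.count 1 = ν.parts.count 1
        omega
      · show μ.parts.count 2 = ν.parts.count 2
        omega
      · rw [Multiset.count_eq_zero.mpr fun hx => by have := hμ _ hx; omega,
          Multiset.count_eq_zero.mpr fun hx => by have := hν _ hx; omega]
    have hmm := congrArg (Multiset.map fun k => (X - C (1 : F)) ^ k) ((hmap.trans hpe).trans hmap'.symm)
    rw [Multiset.map_map, Multiset.map_map] at hmm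
    obtain ⟨P, hP⟩ := CanonicalForm.isConj_of_map_eq hA hB hmm
    have hP' : (P : Matrix (Fin n) (Fin n) F) * (a : Matrix (Fin n) (Fin n) F) =
        (b : Matrix (Fin n) (Fin n) F) * (P : Matrix (Fin n) (Fin n) F) := hP
    obtain ⟨i₀⟩ : Nonempty ι := by
      by_contra hn0
      haveI : IsEmpty ι := not_nonempty_iff.mp hn0
      have := μ.parts_sum
      rw [← hmap] at this
      simp at this
      omega
    have hdP : (P : Matrix (Fin n) (Fin n) F).det ≠ 0 := ((Matrix.isUnit_iff_isUnit_det _).mp P.isUnit).ne_zero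
    obtain ⟨y, hy⟩ := FiniteField.isSquare_of_char_two (ringChar.eq F 2) ((P : Matrix (Fin n) (Fin n) F).det)⁻¹
    have hei : e i₀ ≤ 2 := hμ _ (hmap ▸ Multiset.mem_map_of_mem _ (Finset.mem_univ i₀))
    obtain ⟨x, hx⟩ : ∃ x : F, x ^ e i₀ = ((P : Matrix (Fin n) (Fin n) F).det)⁻¹ := by
      rcases Nat.lt_or_ge 1 (e i₀) with h' | h'
      · exact ⟨y, by rw [show e i₀ = 2 by omega, hy, pow_two]⟩
      · exact ⟨_, by rw [show e i₀ = 1 by have := he i₀; omega, pow_one]⟩
    obtain ⟨T, hT, hTd⟩ := UnipotentCommutant.exists_scale hA (fun i => UnipotentClasses.monic_Y.pow _) i₀ x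
    rw [UnipotentClasses.monic_Y.natDegree_pow, UnipotentClasses.natDegree_Y, mul_one, hx] at hTd
    obtain ⟨C', hC'⟩ : ∃ C' : Matrix.SpecialLinearGroup (Fin n) F,
        (C' : Matrix (Fin n) (Fin n) F) = (P : Matrix (Fin n) (Fin n) F) * T :=
      ⟨⟨_, by rw [Matrix.det_mul, hTd, mul_inv_cancel₀ hdP]⟩, rfl⟩
    refine isConj_iff.mpr ⟨C', ?_⟩
    · rw [mul_inv_eq_iff_eq_mul]
      apply Subtype.ext
      rw [Matrix.SpecialLinearGroup.coe_mul, Matrix.SpecialLinearGroup.coe_mul, hC']
      show (P : Matrix (Fin n) (Fin n) F) * T * (a : Matrix (Fin n) (Fin n) F) =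
        (b : Matrix (Fin n) (Fin n) F) * ((P : Matrix (Fin n) (Fin n) F) * T)
      rw [mul_assoc, hT, ← mul_assoc, hP', mul_assoc]

end Cfsg.Agent.S2162
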