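import Cfsg.Statements.S2163


set_option autoImplicit false
open Cfsg

namespace Cfsg.Agent.S2163

/-- Over a finite field of characteristic two and for n ≥ 3: for every ℓ with 1 ≤ ℓ and 2ℓ ≤ n, the matrix j_ℓ that is the identity plus the entries 1 in positions (n − ℓ + i, i) for i < ℓ (an identity block of size ℓ in the lower left corner) lies in SL_n(F), has order 2, and j_ℓ − 1 has rank ℓ. Together with the conjugacy criterion by rank, these matrices represent the conjugacy classes of involutions of SL_n(F). -/
theorem result {F : Type*} [Field F] [Fintype F] [CharP F 2] {n : ℕ} (hn : 3 ≤ n) (ℓ : ℕ) (h1 : 1 ≤ ℓ) (h2 : 2 * ℓ ≤ n) :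
    ∃ a : Matrix.SpecialLinearGroup (Fin n) F, (a : Matrix (Fin n) (Fin n) F) = 1 + Matrix.of (fun i j : Fin n => if j.val < ℓ ∧ i.val = j.val + (n - ℓ) then (1 : F) else 0) ∧ orderOf a = 2 ∧ ((a : Matrix (Fin n) (Fin n) F) - 1).rank = ℓ := by
  classical
  let P : Matrix (Fin n) (Fin ℓ) F := Matrix.of fun i k => if i.val = k.val + (n - ℓ) then 1 else 0
  let Q : Matrix (Fin ℓ) (Fin n) F := Matrix.of fun k j => if j.val = k.val then 1 else 0
  set E := Matrix.of (fun i j : Fin n => if j.val < ℓ ∧ i.val = j.val + (n - ℓ) then (1 : F) else 0) with hE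
  have hEPQ : E = P * Q := by
    ext i j
    rw [hE, Matrix.of_apply, Matrix.mul_apply]
    by_cases hj : j.val < ℓ
    · rw [Finset.sum_eq_single ⟨j.val, hj⟩]
      · simp [P, Q, hj]
      · intro x _ hx
        have : j.val ≠ x.val := fun e => hx (Fin.ext e.symm)
        simp [P, Q, this]
      · simp
    · rw [if_neg (fun h => hj h.1)]
      refine (Finset.sum_eq_zero fun x _ => ?_).symm
      have : j.val ≠ x.val := by omega
      simp [Q, this]
  have hQP : Q * P = 0 := by
    ext k k'
    rw [Matrix.mul_apply, Matrix.zero_apply]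
    refine Finset.sum_eq_zero fun x _ => ?_
    simp only [P, Q, Matrix.of_apply]
    split_ifs <;> first | omega | simp
  have hdet : (1 + E).det = 1 := by
    rw [Matrix.det_of_lowerTriangular, Finset.prod_eq_one]
    · intro i _
      rw [Matrix.add_apply, Matrix.one_apply_eq, hE, Matrix.of_apply, if_neg (by omega), add_zero]
    · intro i j hij
      have hij' : i < j := hij
      rw [Matrix.add_apply, Matrix.one_apply_ne hij'.ne, hE, Matrix.of_apply, if_neg, add_zero]
      intro h
      have : i.val < j.val := hij'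
      omega
  have hrank : E.rank = ℓ := by
    refine le_antisymm ?_ ?_
    · rw [hEPQ]
      exact (Matrix.rank_mul_le_left _ _).trans ((Matrix.rank_le_width P).trans le_rfl)
    · have h1 : (1 : Matrix (Fin ℓ) (Fin ℓ) F) = P.transpose * E * Q.transpose := by
        have hP : P.transpose * P = 1 := by
          ext k k'
          rw [Matrix.mul_apply, Finset.sum_eq_single (⟨k.val + (n - ℓ), by omega⟩ : Fin n)]
          · simp [P, Matrix.one_apply, Fin.ext_iff]
          · intro x _ hx
            have : x.val ≠ k.val + (n - ℓ) := fun e => hx (Fin.ext e)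
            simp [P, this]
          · simp
        have hQ : Q * Q.transpose = 1 := by
          ext k k'
          rw [Matrix.mul_apply, Finset.sum_eq_single (⟨k.val, by omega⟩ : Fin n)]
          · simp [Q, Matrix.one_apply, Fin.ext_iff]
          · intro x _ hx
            have : x.val ≠ k.val := fun e => hx (Fin.ext e)
            simp [Q, this]
          · simp
        rw [hEPQ, Matrix.mul_assoc, Matrix.mul_assoc P, hQ, Matrix.mul_one, hP]
      calc ℓ = (1 : Matrix (Fin ℓ) (Fin ℓ) F).rank := by rw [Matrix.rank_one, Fintype.card_fin]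
        _ ≤ (P.transpose * E).rank := h1 ▸ Matrix.rank_mul_le_left _ _
        _ ≤ E.rank := Matrix.rank_mul_le_right _ _
  obtain ⟨a, ha⟩ : ∃ a : Matrix.SpecialLinearGroup (Fin n) F, (a : Matrix (Fin n) (Fin n) F) = 1 + E := ⟨⟨1 + E, hdet⟩, rfl⟩
  refine ⟨a, ha, ?_, ?_⟩
  · have : Fact (Nat.Prime 2) := ⟨Nat.prime_two⟩
    refine orderOf_eq_prime ?_ ?_
    · refine Subtype.ext ?_
      rw [Matrix.SpecialLinearGroup.coe_pow, Matrix.SpecialLinearGroup.coe_one]
      rw [ha]
      have hEE : E * E = 0 := by rw [hEPQ, Matrix.mul_assoc, ← Matrix.mul_assoc Q, hQP, Matrix.zero_mul, Matrix.mul_zero]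
      have hadd : E + E = 0 := by ext i j; exact CharTwo.add_self_eq_zero _
      rw [sq, add_mul, one_mul, mul_add, mul_one, hEE, add_zero, add_assoc, hadd, add_zero]
    · intro h
      have h' : E = 0 := by
        rw [h, Matrix.SpecialLinearGroup.coe_one] at ha
        exact add_left_cancel (ha.symm.trans (add_zero _).symm)
      rw [h', Matrix.rank_zero] at hrank
      omega
  · rw [ha]
    rw [add_sub_cancel_left, hrank]

end Cfsg.Agent.S2163
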