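import Cfsg.Statements.S2164
import Cfsg.Agent.S2587
import Cfsg.Agent.S2162
import Cfsg.Agent.Lib.Linear.HermStandard

/-! Involutions of special unitary groups in characteristic two. -/

set_option autoImplicit false
open Cfsg
open scoped Matrix

namespace Cfsg.Agent.S2164

open Cfsg.Lib.Linear.Herm Module

variable {F : Type*} [Field F] [Fintype F] {q : ℕ}

theorem det_id_add_comp {V : Type*} [AddCommGroup V] [Module F V] [FiniteDimensional F V] {k : ℕ}
    (π : V →ₗ[F] (Fin k → F)) (A : (Fin k → F) →ₗ[F] V) :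
    LinearMap.det (LinearMap.id + A.comp π) = LinearMap.det (LinearMap.id + π.comp A) := by
  classical
  let b := finBasis F V
  let c := Pi.basisFun F (Fin k)
  rw [← LinearMap.det_toMatrix b, ← LinearMap.det_toMatrix c, map_add, map_add, LinearMap.toMatrix_id,
    LinearMap.toMatrix_id, LinearMap.toMatrix_comp b c b, LinearMap.toMatrix_comp c b c,
    Matrix.det_one_add_mul_comm]

/-- A self-adjoint square-zero map commutes with isometries of prescribed square determinant. -/
theorem exists_comm (hF : Fintype.card F = q ^ 2) {n : ℕ} (N : End F (Fin n → F)) (hN0 : N ≠ 0) (hN2 : N * N = 0)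
    (hadj : ∀ u v, hB hF n (N u) v = hB hF n u (N v)) {w : F} (hw : frob hF w * w = 1) :
    ∃ x : End F (Fin n → F), (∀ u v, hB hF n (x u) (x v) = hB hF n u v) ∧ x * N = N * x ∧ LinearMap.det x = w ^ 2 := by
  classical
  have hsym := (hB_isSymm hF n).eq
  have hNN : ∀ u, N (N u) = 0 := fun u => by rw [← End.mul_apply, hN2]; rfl
  let β : (Fin n → F) →ₛₗ[frob hF] (Fin n → F) →ₗ[F] F := (hB hF n).compl₂ N
  have hβ : ∀ u v, β u v = hB hF n u (N v) := fun u v => rfl
  obtain ⟨v, hc⟩ : ∃ v, β v v ≠ 0 := by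
    by_contra hcon
    push Not at hcon
    have h0 := eq_zero_of_self (frob_ne_id hF) (B := β) ⟨fun x y => by rw [hβ, hβ, hsym, hadj]⟩ hcon
    refine hN0 (LinearMap.ext fun u => (hB_nondegenerate hF n).2 _ fun y => ?_)
    rw [← hβ, h0]; rfl
  set c := β v v with hcdef
  rw [hβ] at hcdef
  have hc1 : hB hF n v (N v) = c := hcdef.symm
  have hc2 : hB hF n (N v) v = c := by rw [hadj, hc1]
  have hc0 : hB hF n (N v) (N v) = 0 := by rw [hadj, hNN, map_zero]
  set d := hB hF n v v
  let π : (Fin n → F) →ₗ[F] (Fin 2 → F) := LinearMap.pi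
    ![c⁻¹ • hB hF n (N v), c⁻¹ • (hB hF n v - (d / c) • hB hF n (N v))]
  have hπ0 : ∀ u, π u 0 = c⁻¹ * hB hF n (N v) u := fun u => rfl
  have hπ1 : ∀ u, π u 1 = c⁻¹ * (hB hF n v u - d / c * hB hF n (N v) u) := fun u => rfl
  let A : (Fin 2 → F) →ₗ[F] (Fin n → F) :=
    (w - 1) • ((LinearMap.proj 0).smulRight v + (LinearMap.proj 1).smulRight (N v))
  have hA : ∀ a, A a = (w - 1) • (a 0 • v + a 1 • N v) := fun a => rfl
  let P : (Fin n → F) → (Fin n → F) := fun u => π u 0 • v + π u 1 • N v
  have hP1 : ∀ u, hB hF n (N v) (P u) = hB hF n (N v) u := fun u => by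
    simp only [P, map_add, map_smul, smul_eq_mul, hc2, hc0, hπ0]
    field_simp
    ring
  have hP2 : ∀ u, hB hF n v (P u) = hB hF n v u := fun u => by
    simp only [P, map_add, map_smul, smul_eq_mul, hc1, hπ0, hπ1]
    rw [show hB hF n v v = d from rfl]
    field_simp
    ring
  have hperp : ∀ u y, hB hF n (P y) (u - P u) = 0 := fun u y => by
    show hB hF n (π y 0 • v + π y 1 • N v) (u - P u) = 0
    simp only [map_add, LinearMap.add_apply, LinearMap.map_smulₛₗ, LinearMap.smul_apply, map_sub, hP1, hP2,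
      sub_self, smul_zero, add_zero]
  let x : End F (Fin n → F) := LinearMap.id + A.comp π
  have hx : ∀ u, x u = (u - P u) + w • P u := fun u => by
    show u + (w - 1) • (π u 0 • v + π u 1 • N v) = _
    rw [sub_smul, one_smul]
    show u + (w • P u - P u) = _
    abel
  refine ⟨x, fun u y => ?_, ?_, ?_⟩
  · rw [hx, hx]
    conv_rhs => rw [← sub_add_cancel u (P u), ← sub_add_cancel y (P y)]
    have h1 : hB hF n (u - P u) (P y) = 0 := by rw [← hsym, hperp, map_zero]
    have h2 := hperp y u
    generalize u - P u = ru at h1 ⊢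
    generalize y - P y = ry at h2 ⊢
    simp only [map_add, LinearMap.add_apply, LinearMap.map_smulₛₗ, map_smul, LinearMap.smul_apply, smul_eq_mul,
      RingHom.id_apply, h1, h2, mul_zero, add_zero, zero_add]
    linear_combination hB hF n (P u) (P y) * hw
  · refine LinearMap.ext fun u => ?_
    have hPN : P (N u) = N (P u) := by
      simp only [P, map_add, map_smul, hNN, smul_zero, add_zero, hπ0, hπ1]
      rw [show hB hF n (N v) (N u) = 0 by rw [hadj, hNN, map_zero], ← hadj v u]
      simp
    show x (N u) = N (x u)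
    simp only [hx, hPN, map_add, map_sub, map_smul]
  · rw [show x = LinearMap.id + A.comp π from rfl, det_id_add_comp,
      show LinearMap.id + π.comp A = w • (LinearMap.id : (Fin 2 → F) →ₗ[F] (Fin 2 → F)) from ?_,
      LinearMap.det_smul, LinearMap.det_id, mul_one, finrank_fin_fun]
    refine LinearMap.ext fun a => ?_
    have hv0 : π v 0 = 1 := by rw [hπ0, hc2, inv_mul_cancel₀ hc]
    have hv1 : π v 1 = 0 := by
      rw [hπ1, hc2, show hB hF n v v = d from rfl, div_mul_cancel₀ _ hc, sub_self, mul_zero]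
    have hn0 : π (N v) 0 = 0 := by rw [hπ0, hc0, mul_zero]
    have hn1 : π (N v) 1 = 1 := by rw [hπ1, hc0, hc1, mul_zero, sub_zero, inv_mul_cancel₀ hc]
    funext i
    rw [LinearMap.add_apply, LinearMap.comp_apply, hA, map_smul, map_add, map_smul, map_smul]
    fin_cases i <;> simp [hv0, hv1, hn0, hn1] <;> ring

theorem main [CharP F 2] {n : ℕ} (hF : Fintype.card F = q ^ 2) (hn : 3 ≤ n)
    (a b : ↥(Cfsg.SU n F q)) (ha : orderOf a = 2) (hb : orderOf b = 2) :
    (IsConj a b ↔ IsConj (a : Matrix.SpecialLinearGroup (Fin n) F) (b : Matrix.SpecialLinearGroup (Fin n) F)) ∧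
    (IsConj a b ↔ (((a : Matrix.SpecialLinearGroup (Fin n) F) : Matrix (Fin n) (Fin n) F) - 1).rank = (((b : Matrix.SpecialLinearGroup (Fin n) F) : Matrix (Fin n) (Fin n) F) - 1).rank) := by
  classical
  have h2162 := Cfsg.Agent.S2162.result hn (a : Matrix.SpecialLinearGroup (Fin n) F) b
    ((orderOf_injective (Cfsg.SU n F q).subtype Subtype.val_injective a).trans ha)
    ((orderOf_injective (Cfsg.SU n F q).subtype Subtype.val_injective b).trans hb)
  suffices h : IsConj (a : Matrix.SpecialLinearGroup (Fin n) F) (b : Matrix.SpecialLinearGroup (Fin n) F) → IsConj a b from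
    ⟨⟨fun h' => (Cfsg.SU n F q).subtype.map_isConj h', h⟩,
      ⟨fun h' => h2162.1 ((Cfsg.SU n F q).subtype.map_isConj h'), fun h' => h (h2162.2 h')⟩⟩
  intro hab
  let φ : ↥(Cfsg.SU n F q) →* ↥(Cfsg.GU n F q) :=
    (Matrix.SpecialLinearGroup.toGL.comp (Cfsg.SU n F q).subtype).codRestrict _ fun a => a.2
  have hφ : Function.Injective φ := fun a b hab =>
    Subtype.ext (Matrix.SpecialLinearGroup.toGL_injective (congrArg Subtype.val hab))
  obtain ⟨T, hT⟩ := isConj_iff.1 ((Cfsg.Agent.S2587.result hF (φ a) (φ b)).2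
    (Matrix.SpecialLinearGroup.toGL.map_isConj hab))
  set A := ((a : Matrix.SpecialLinearGroup (Fin n) F) : Matrix (Fin n) (Fin n) F) with hA
  have hAA : A * A = 1 := by
    have h := congrArg (fun g : ↥(Cfsg.SU n F q) => ((g : Matrix.SpecialLinearGroup (Fin n) F) : Matrix (Fin n) (Fin n) F))
      (pow_orderOf_eq_one a)
    simp only [ha, pow_two] at h
    exact h
  set f : End F (Fin n → F) := Matrix.toLinAlgEquiv' A with hf
  have hff : f * f = 1 := by rw [hf, ← map_mul, hAA, map_one]
  have hiso : ∀ u v, hB hF n (f u) (f v) = hB hF n u v := fun u v => (φ a).2 v u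
  have hinv : ∀ u, f (f u) = u := fun u => by rw [← End.mul_apply, hff]; rfl
  obtain ⟨k, hk⟩ : ∃ k, q + 2 = 2 * k := by
    have hcard : (Fintype.card F : F) = 0 := Nat.cast_card_eq_zero F
    rw [CharP.cast_eq_zero_iff F 2, hF] at hcard
    obtain ⟨l, hl⟩ := Nat.prime_two.dvd_of_dvd_pow hcard
    exact ⟨l + 1, by omega⟩
  set z := (((T⁻¹ : Cfsg.GU n F q) : GL (Fin n) F) : Matrix (Fin n) (Fin n) F).det with hzdef
  have hz : z ^ (q + 1) = 1 := det_GU_pow hF T⁻¹
  obtain ⟨x, hx1, hx2, hx3⟩ := exists_comm hF (f - 1) (fun h => by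
      have : A = 1 := Matrix.toLinAlgEquiv'.injective (by rw [map_one]; exact sub_eq_zero.1 h)
      have ha1 : a = 1 := Subtype.ext (Subtype.ext this)
      rw [ha1, orderOf_one] at ha
      omega)
    (by
      rw [sub_mul, mul_sub, mul_sub, hff, mul_one, one_mul, mul_one]
      have h2 : ∀ y : End F (Fin n → F), y + y = 0 := fun y => by
        rw [← two_smul F y, CharTwo.two_eq_zero, zero_smul]
      rw [show (1 : End F (Fin n → F)) - f - (f - 1) = (1 + 1) - (f + f) by abel, h2, h2, sub_zero])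
    (fun u v => by
      simp only [LinearMap.sub_apply, End.one_apply, map_sub]
      congr 1
      conv_lhs => rw [← hinv v, hiso])
    (w := z ^ k) (by rw [frob_apply, ← pow_succ, ← pow_mul, mul_comm, pow_mul, hz, one_pow])
  have hxd : LinearMap.det x = z := by
    rw [hx3, ← pow_mul, mul_comm, ← hk, show q + 2 = q + 1 + 1 from rfl, pow_succ, hz, one_mul]
  have hdet : (LinearMap.toMatrix' x).det = z := by rw [LinearMap.det_toMatrix', hxd]
  have hz0 : z ≠ 0 := fun h => zero_ne_one (α := F) (by rw [← hz, h, zero_pow (Nat.succ_ne_zero q)])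
  let X : Cfsg.GU n F q := ⟨Matrix.GeneralLinearGroup.mkOfDetNeZero (LinearMap.toMatrix' x) (by rw [hdet]; exact hz0),
    fun u v => by
      show Cfsg.hermForm n F q (LinearMap.toMatrix' x *ᵥ u) (LinearMap.toMatrix' x *ᵥ v) = _
      rw [LinearMap.toMatrix'_mulVec, LinearMap.toMatrix'_mulVec]
      exact hx1 v u⟩
  have hX : X * φ a = φ a * X := by
    refine Subtype.ext (Units.ext ?_)
    show LinearMap.toMatrix' x * A = A * LinearMap.toMatrix' x
    have hxf : x * f = f * x := by
      have := hx2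
      rw [mul_sub, sub_mul, mul_one, one_mul] at this
      exact sub_left_inj.1 this
    conv_lhs => rw [← LinearMap.toMatrix'_toLin' A, ← LinearMap.toMatrix'_comp]
    conv_rhs => rw [← LinearMap.toMatrix'_toLin' A, ← LinearMap.toMatrix'_comp]
    exact congrArg _ hxf
  have hd : (((T * X : Cfsg.GU n F q) : GL (Fin n) F) : Matrix (Fin n) (Fin n) F).det = 1 := by
    rw [Subgroup.coe_mul, Units.val_mul, Matrix.det_mul]
    show _ * (LinearMap.toMatrix' x).det = 1
    rw [hdet, hzdef, ← Matrix.det_mul, ← Units.val_mul, ← Subgroup.coe_mul,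
      mul_inv_cancel, Subgroup.coe_one, Units.val_one, Matrix.det_one]
  let c : ↥(Cfsg.SU n F q) := ⟨⟨_, hd⟩, (T * X).2⟩
  have hcφ : φ c = T * X := Subtype.ext (Units.ext rfl)
  refine isConj_iff.2 ⟨c, hφ ?_⟩
  rw [map_mul, map_mul, map_inv, hcφ, ← hT, mul_assoc T X, hX, mul_inv_rev, mul_assoc, mul_assoc, mul_assoc,
    mul_inv_cancel_left]

/-- Conjugacy of involutions in the special unitary group SU_n(q), q even, n ≥ 3, realised over the field F with q² elements as the matrices of determinant 1 preserving the form Σ u_i v_i^q: for two elements of order 2 of SU_n(q) the following are equivalent — they are conjugate in SU_n(q); they are conjugate in SL_n(F); the matrices a − 1 and b − 1 have the same rank. -/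
theorem result {F : Type*} [Field F] [Fintype F] [CharP F 2] {n q : ℕ} (hF : Fintype.card F = q ^ 2) (hn : 3 ≤ n) (a b : ↥(Cfsg.SU n F q)) (ha : orderOf a = 2) (hb : orderOf b = 2) :
    (IsConj a b ↔ IsConj (a : Matrix.SpecialLinearGroup (Fin n) F) (b : Matrix.SpecialLinearGroup (Fin n) F)) ∧
    (IsConj a b ↔ (((a : Matrix.SpecialLinearGroup (Fin n) F) : Matrix (Fin n) (Fin n) F) - 1).rank = (((b : Matrix.SpecialLinearGroup (Fin n) F) : Matrix (Fin n) (Fin n) F) - 1).rank) := by
  exact main hF hn a b ha hb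

end Cfsg.Agent.S2164
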