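import Cfsg.Statements.S2165


set_option linter.style.haveILetI false

set_option autoImplicit false
open Cfsg

namespace Cfsg.Agent.S2165

/-- the swap of the first and last `ℓ` indices -/
def swapFn (n ℓ : ℕ) (h2 : 2 * ℓ ≤ n) (i : Fin n) : Fin n :=
  if h : i.val < ℓ then ⟨i.val + (n - ℓ), by omega⟩
  else if h' : n - ℓ ≤ i.val then ⟨i.val - (n - ℓ), by omega⟩ else i

theorem swapFn_involutive (n ℓ : ℕ) (h2 : 2 * ℓ ≤ n) : Function.Involutive (swapFn n ℓ h2) := by
  intro i
  have := i.isLt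
  apply Fin.ext
  have key : ∀ j : Fin n, (swapFn n ℓ h2 j : ℕ) =
      if j.val < ℓ then j.val + (n - ℓ) else if n - ℓ ≤ j.val then j.val - (n - ℓ) else j.val := by
    intro j; unfold swapFn; split_ifs <;> rfl
  rw [key, key]
  split_ifs <;> omega

/-- the swap as a permutation -/
def swapPerm (n ℓ : ℕ) (h2 : 2 * ℓ ≤ n) : Equiv.Perm (Fin n) :=
  (swapFn_involutive n ℓ h2).toPerm

theorem swapPerm_apply (n ℓ : ℕ) (h2 : 2 * ℓ ≤ n) (i : Fin n) :
    ((swapPerm n ℓ h2 i : Fin n) : ℕ) =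
      if i.val < ℓ then i.val + (n - ℓ) else if n - ℓ ≤ i.val then i.val - (n - ℓ) else i.val := by
  show ((swapFn n ℓ h2 i : Fin n) : ℕ) = _
  unfold swapFn
  split_ifs <;> rfl

theorem mulVec_swap {F : Type*} [Field F] (n ℓ : ℕ) (h2 : 2 * ℓ ≤ n) (v : Fin n → F) (i : Fin n) :
    ((swapPerm n ℓ h2).permMatrix F).mulVec v i = v (swapPerm n ℓ h2 i) := by
  rw [Matrix.permMatrix_mulVec]; rfl

theorem rank_swap_sub_one {F : Type*} [Field F] (n ℓ : ℕ) (h2 : 2 * ℓ ≤ n) :
    ((swapPerm n ℓ h2).permMatrix F - 1).rank = ℓ := by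
  set σ := swapPerm n ℓ h2 with hσ
  set A := σ.permMatrix F - 1 with hA
  have hap : ∀ (v : Fin n → F) (i : Fin n), A.mulVecLin v i = v (σ i) - v i := by
    intro v i
    rw [hA, Matrix.mulVecLin_apply, Matrix.sub_mulVec, Matrix.one_mulVec, Pi.sub_apply, mulVec_swap]
  let π : (Fin n → F) →ₗ[F] (Fin ℓ → F) := LinearMap.funLeft F F (fun j : Fin ℓ => (⟨j.val, by omega⟩ : Fin n))
  have hinj : ∀ w ∈ LinearMap.range A.mulVecLin, π w = 0 → w = 0 := by
    rintro w ⟨v, rfl⟩ h0
    funext i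
    have key : ∀ k : Fin n, k.val < ℓ → v (σ k) - v k = 0 := by
      intro k hk
      have := congrFun h0 ⟨k.val, hk⟩
      simp only [π, LinearMap.funLeft_apply, hap, Pi.zero_apply] at this
      exact this
    rw [hap]
    have hv := swapPerm_apply n ℓ h2 i
    rw [← hσ] at hv
    by_cases h : i.val < ℓ
    · simpa using key i h
    · rw [if_neg h] at hv
      by_cases h' : n - ℓ ≤ i.val
      · rw [if_pos h'] at hv
        have hk := key (σ i) (by have := i.isLt; omega)
        rw [show σ (σ i) = i from swapFn_involutive n ℓ h2 i] at hk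
        simp only [Pi.zero_apply]
        linear_combination -hk
      · rw [if_neg h'] at hv
        rw [Fin.ext hv]; simp
  have hsurj : ∀ u : Fin ℓ → F, ∃ w ∈ LinearMap.range A.mulVecLin, π w = u := by
    intro u
    refine ⟨_, ⟨fun i => if h : i.val < ℓ then -u ⟨i.val, h⟩ else 0, rfl⟩, ?_⟩
    funext j
    simp only [π, LinearMap.funLeft_apply, hap]
    have hv := swapPerm_apply n ℓ h2 ⟨j.val, by omega⟩
    rw [← hσ, if_pos j.isLt] at hv
    simp only [] at hv ⊢
    rw [dif_neg (by omega), dif_pos j.isLt]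
    simp
  have e : LinearMap.range A.mulVecLin ≃ₗ[F] (Fin ℓ → F) :=
    LinearEquiv.ofBijective (π.comp (LinearMap.range A.mulVecLin).subtype) ⟨by
      rw [injective_iff_map_eq_zero]
      intro w h0
      exact Subtype.ext (hinj w.1 w.2 h0), by
      intro u
      obtain ⟨w, hw, hwu⟩ := hsurj u
      exact ⟨⟨w, hw⟩, hwu⟩⟩
  show Module.finrank F (LinearMap.range A.mulVecLin) = ℓ
  rw [e.finrank_eq, Module.finrank_fin_fun]

/-- In SU_n(q), q even, n ≥ 3 (matrices of determinant 1 over the field with q² elements preserving Σ u_i v_i^q): for every ℓ with 1 ≤ ℓ and 2ℓ ≤ n, the permutation matrix of the involution of {0, …, n−1} exchanging i and n − ℓ + i for each i < ℓ lies in SU_n(q), has order 2, and differs from the identity by a matrix of rank ℓ. So every rank between 1 and n/2 occurs for involutions of SU_n(q). -/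
theorem result {F : Type*} [Field F] [Fintype F] [CharP F 2] {n q : ℕ} (hF : Fintype.card F = q ^ 2) (hn : 3 ≤ n) (ℓ : ℕ) (h1 : 1 ≤ ℓ) (h2 : 2 * ℓ ≤ n) :
    ∃ a : ↥(Cfsg.SU n F q), (((a : Matrix.SpecialLinearGroup (Fin n) F) : Matrix (Fin n) (Fin n) F) = Matrix.of (fun i j : Fin n => if (j.val < ℓ ∧ i.val = j.val + (n - ℓ)) ∨ (i.val < ℓ ∧ j.val = i.val + (n - ℓ)) ∨ (i = j ∧ ℓ ≤ i.val ∧ i.val < n - ℓ) then (1 : F) else 0)) ∧ orderOf a = 2 ∧ ((((a : Matrix.SpecialLinearGroup (Fin n) F) : Matrix (Fin n) (Fin n) F)) - 1).rank = ℓ := by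
  classical
  set σ := swapPerm n ℓ h2 with hσ
  have hdet : (σ.permMatrix F).det = 1 := by
    rw [Matrix.det_permutation]
    rcases Int.units_eq_one_or (Equiv.Perm.sign σ) with h | h <;> rw [h] <;> simp [CharTwo.neg_eq]
  let b : Matrix.SpecialLinearGroup (Fin n) F := ⟨σ.permMatrix F, hdet⟩
  have hb : b ∈ Cfsg.SU n F q := by
    intro u v
    show Cfsg.hermForm n F q ((σ.permMatrix F).mulVec u) ((σ.permMatrix F).mulVec v) = _
    unfold Cfsg.hermForm
    simp only [hσ, mulVec_swap]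
    exact Equiv.sum_comp σ (fun i => u i * v i ^ q)
  refine ⟨⟨b, hb⟩, ?_, ?_, ?_⟩
  · show σ.permMatrix F = _
    ext i j
    rw [Equiv.Perm.permMatrix, PEquiv.toMatrix_apply, Matrix.of_apply]
    have hv := swapPerm_apply n ℓ h2 i
    rw [← hσ] at hv
    have hi := i.isLt
    have hj := j.isLt
    refine if_congr ?_ rfl rfl
    simp only [Equiv.toPEquiv_apply, Option.mem_def, Option.some.injEq, Fin.ext_iff]
    rw [hv]
    split_ifs <;> omega
  · apply orderOf_eq_prime
    · apply Subtype.ext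
      apply Subtype.ext
      show ((b ^ 2 : Matrix.SpecialLinearGroup (Fin n) F) : Matrix (Fin n) (Fin n) F) = 1
      rw [Matrix.SpecialLinearGroup.coe_pow]
      show σ.permMatrix F ^ 2 = 1
      refine Matrix.ext_of_mulVec_single fun k => ?_
      funext i
      rw [pow_two, ← Matrix.mulVec_mulVec, Matrix.one_mulVec, hσ, mulVec_swap, mulVec_swap,
        show swapPerm n ℓ h2 (swapPerm n ℓ h2 i) = i from swapFn_involutive n ℓ h2 i]
    · intro h
      have h' : σ.permMatrix F = 1 := congrArg (fun x : ↥(Cfsg.SU n F q) =>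
        ((x : Matrix.SpecialLinearGroup (Fin n) F) : Matrix (Fin n) (Fin n) F)) h
      have hr := rank_swap_sub_one (F := F) n ℓ h2
      rw [← hσ, h', sub_self, Matrix.rank_zero] at hr
      omega
  · exact rank_swap_sub_one n ℓ h2

end Cfsg.Agent.S2165
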