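import Cfsg.Statements.S2167
import Cfsg.Agent.Lib.Linear.SymplecticGroup

set_option autoImplicit false
open Cfsg Cfsg.Lib.Linear Cfsg.Lib.Linear.Symp Module

namespace Cfsg.Agent.S2167

theorem even_of_alt {F V : Type*} [Field F] [AddCommGroup V] [Module F V] [FiniteDimensional F V]
    (B : LinearMap.BilinForm F V) (hA : B.IsAlt) : ∀ (d : ℕ) (W : Submodule F V), finrank F W = d →
    (∀ x ∈ W, (∀ y ∈ W, B x y = 0) → x = 0) → Even d := by
  intro d
  induction d using Nat.strong_induction_on with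
  | _ d ih =>
  intro W hW hnd
  rcases Nat.eq_zero_or_pos d with rfl | hd
  · exact ⟨0, rfl⟩
  obtain ⟨a, haW, ha⟩ := W.exists_mem_ne_zero_of_ne_bot (fun h => by rw [h, finrank_bot] at hW; omega)
  obtain ⟨b₀, hb₀W, hb₀⟩ : ∃ y ∈ W, B a y ≠ 0 := by
    by_contra h
    push Not at h
    exact ha (hnd a haW h)
  set b := (B a b₀)⁻¹ • b₀ with hb
  have hbW : b ∈ W := W.smul_mem _ hb₀W
  have hab : B a b = 1 := by rw [hb, map_smul, smul_eq_mul, inv_mul_cancel₀ hb₀]
  have hba : B b a = -1 := by rw [← LinearMap.IsAlt.neg hA a b, hab]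
  let Φ : W →ₗ[F] F × F := ((B a).prod (B b)).comp W.subtype
  have hΦ : Function.Surjective Φ := fun ⟨s, t⟩ => by
    refine ⟨⟨s • b - t • a, W.sub_mem (W.smul_mem _ hbW) (W.smul_mem _ haW)⟩, ?_⟩
    simp [Φ, hab, hba, hA a, hA b]
  have hker : finrank F (LinearMap.ker Φ) + 2 = d := by
    have h := LinearMap.finrank_range_add_finrank_ker Φ
    rw [LinearMap.range_eq_top.2 hΦ, finrank_top, Module.finrank_prod, Module.finrank_self, hW] at h
    omega
  set W' := (LinearMap.ker Φ).map W.subtype with hW'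
  have hmem : ∀ x, x ∈ W' ↔ x ∈ W ∧ B a x = 0 ∧ B b x = 0 := fun x => by
    constructor
    · rintro ⟨⟨z, hz⟩, hk, rfl⟩
      exact ⟨hz, congrArg Prod.fst hk, congrArg Prod.snd hk⟩
    · rintro ⟨hz, h1, h2⟩
      exact ⟨⟨x, hz⟩, Prod.ext h1 h2, rfl⟩
  obtain ⟨e, he⟩ := ih (finrank F (LinearMap.ker Φ)) (by omega) W'
    (Submodule.finrank_map_subtype_eq W (LinearMap.ker Φ)) fun x hx h0 => by
      obtain ⟨hxW, hxa, hxb⟩ := (hmem x).1 hx
      refine hnd x hxW fun y hy => ?_
      have hy' : y - B a y • b + B b y • a ∈ W' := (hmem _).2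
        ⟨W.add_mem (W.sub_mem hy (W.smul_mem _ hbW)) (W.smul_mem _ haW),
          by simp [hab, hA a], by simp [hba, hA b]⟩
      have h := h0 _ hy'
      have e1 : B x a = 0 := by rw [← LinearMap.IsAlt.neg hA a x, hxa, neg_zero]
      have e2 : B x b = 0 := by rw [← LinearMap.IsAlt.neg hA b x, hxb, neg_zero]
      simpa [e1, e2] using h
  exact ⟨e + 1, by omega⟩

theorem main {F : Type*} [Field F] [Fintype F] [CharP F 2] {m : ℕ} (a : ↥(Matrix.symplecticGroup (Fin m) F)) (ha : orderOf a = 2) :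
    (Nat.card {v : Fin m ⊕ Fin m → F // Cfsg.sympForm m F v (Matrix.mulVec ((a : ↥(Matrix.symplecticGroup (Fin m) F)) : Matrix (Fin m ⊕ Fin m) (Fin m ⊕ Fin m) F) v) = 0} = Fintype.card F ^ (2 * m) ∨ Nat.card {v : Fin m ⊕ Fin m → F // Cfsg.sympForm m F v (Matrix.mulVec ((a : ↥(Matrix.symplecticGroup (Fin m) F)) : Matrix (Fin m ⊕ Fin m) (Fin m ⊕ Fin m) F) v) = 0} * Fintype.card F = Fintype.card F ^ (2 * m)) ∧
    ((∀ v : Fin m ⊕ Fin m → F, Cfsg.sympForm m F v (Matrix.mulVec ((a : ↥(Matrix.symplecticGroup (Fin m) F)) : Matrix (Fin m ⊕ Fin m) (Fin m ⊕ Fin m) F) v) = 0) → Even (((a : ↥(Matrix.symplecticGroup (Fin m) F)) : Matrix (Fin m ⊕ Fin m) (Fin m ⊕ Fin m) F) - 1).rank) := by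
  classical
  set A := (a : Matrix (Fin m ⊕ Fin m) (Fin m ⊕ Fin m) F)
  let B := spB m F
  have hA : B.IsAlt := spB_isAlt m F
  have hnd : B.Nondegenerate := spB_nondegenerate m F
  have hsp : ∀ u v, B (A.mulVec u) (A.mulVec v) = B u v := (mem_symplecticGroup_iff _).1 a.2
  have hAA : ∀ v, A.mulVec (A.mulVec v) = v := fun v => by
    have h1 : a * a = 1 := by rw [← pow_two, ← ha, pow_orderOf_eq_one]
    rw [Matrix.mulVec_mulVec, show A * A = 1 from congrArg Subtype.val h1, Matrix.one_mulVec]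
  have hsym : ∀ u v, B u v = B v u := fun u v => by rw [← LinearMap.IsAlt.neg hA v u, CharTwo.neg_eq]
  have hswap : ∀ u v, B v (A.mulVec u) = B u (A.mulVec v) := fun u v => by
    rw [← hsp v (A.mulVec u), hAA, hsym]
  set f : (Fin m ⊕ Fin m → F) → F := fun v => B v (A.mulVec v) with hf
  have hfadd : ∀ u v, f (u + v) = f u + f v := fun u v => by
    simp only [hf, Matrix.mulVec_add, map_add, LinearMap.add_apply, hswap v u]
    have h2 : (2 : F) = 0 := by exact_mod_cast CharP.cast_eq_zero F 2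
    linear_combination (B v (A.mulVec u)) * h2
  let r : F → F := fun c => (frobeniusEquiv F 2).symm c
  have hr : ∀ c, r c ^ 2 = c := fun c => by
    have h := (frobeniusEquiv F 2).apply_symm_apply c
    rwa [frobeniusEquiv_def] at h
  have hrs : ∀ c, r (c ^ 2) = c := fun c => by
    have h := (frobeniusEquiv F 2).symm_apply_apply c
    rwa [frobeniusEquiv_def] at h
  let φ : (Fin m ⊕ Fin m → F) →ₗ[F] F :=
    { toFun := fun v => r (f v)
      map_add' := fun u v => by rw [hfadd]; exact map_add (frobeniusEquiv F 2).symm _ _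
      map_smul' := fun c v => by
        have h1 : f (c • v) = c ^ 2 * f v := by
          simp only [hf, Matrix.mulVec_smul, map_smul, LinearMap.smul_apply, smul_eq_mul]; ring
        rw [h1]
        show r (c ^ 2 * f v) = c * r (f v)
        rw [show r (c ^ 2 * f v) = r (c ^ 2) * r (f v) from map_mul (frobeniusEquiv F 2).symm _ _, hrs] }
  have hset : ∀ v, Cfsg.sympForm m F v (A.mulVec v) = 0 ↔ v ∈ LinearMap.ker φ := fun v => by
    rw [LinearMap.mem_ker, ← spB_apply]
    show f v = 0 ↔ r (f v) = 0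
    exact (map_eq_zero _).symm
  have hcard : Nat.card {v : Fin m ⊕ Fin m → F // Cfsg.sympForm m F v (A.mulVec v) = 0} =
      Fintype.card F ^ finrank F (LinearMap.ker φ) := by
    rw [Nat.card_congr (Equiv.subtypeEquivRight hset), ← Nat.card_eq_fintype_card]
    exact Module.natCard_eq_pow_finrank (K := F)
  have hrk := LinearMap.finrank_range_add_finrank_ker φ
  have hle : finrank F (LinearMap.range φ) ≤ 1 := (Submodule.finrank_le _).trans_eq (Module.finrank_self F)
  rw [finrank_space] at hrk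
  refine ⟨?_, fun h0 => ?_⟩
  · rw [hcard]
    rcases Nat.le_one_iff_eq_zero_or_eq_one.1 hle with h | h <;> rw [h] at hrk
    · left; congr 1; omega
    · right; rw [← pow_succ]; congr 1; omega
  · set N : (Fin m ⊕ Fin m → F) →ₗ[F] (Fin m ⊕ Fin m → F) := Matrix.mulVecLin (A - 1)
    have hN : ∀ x, N x = A.mulVec x - x := fun x => by
      show (A - 1).mulVec x = _
      rw [Matrix.sub_mulVec, Matrix.one_mulVec]
    let B' : LinearMap.BilinForm F (Fin m ⊕ Fin m → F) := B ∘ₗ N
    have hB' : B'.IsAlt := fun x => by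
      show B (N x) x = 0
      rw [hN, map_sub, LinearMap.sub_apply, hA x, sub_zero, hsym]
      exact (spB_apply m F _ _).trans (h0 x)
    obtain ⟨W, hW⟩ := (LinearMap.ker N).exists_isCompl
    have hrank : (A - 1).rank = finrank F W := by
      have h1 := LinearMap.finrank_range_add_finrank_ker N
      have h2 := Submodule.finrank_add_eq_of_isCompl hW
      show finrank F (LinearMap.range N) = _
      omega
    rw [hrank]
    refine even_of_alt B' hB' _ W rfl fun x hx hz => ?_
    have h1 : ∀ y, B (N x) y = 0 := fun y => by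
      obtain ⟨k, hk, w, hw, rfl⟩ := Submodule.mem_sup.1 (hW.sup_eq_top ▸ Submodule.mem_top (x := y))
      have h2 : B' x k = 0 := by
        rw [← LinearMap.IsAlt.neg hB' k x, neg_eq_zero]
        show B (N k) x = 0
        rw [LinearMap.mem_ker.1 hk, map_zero, LinearMap.zero_apply]
      show B' x (k + w) = 0
      rw [map_add, h2, hz w hw, add_zero]
    exact Submodule.disjoint_def.1 hW.disjoint x (LinearMap.mem_ker.2 (hnd.1 _ h1)) hx

/-- For an involution t of the symplectic group Sp_{2m}(F), m ≥ 2, F a finite field of characteristic two (matrices A with A J Aᵀ = J acting on column vectors, alternating form f(u, v) = u ⬝ (J v)): the set V(t) of vectors v with f(v, t v) = 0 has either q^{2m} or q^{2m−1} elements, q the order of F (it is a subspace of codimension at most 1), and if it is the whole space then t − 1 has even rank. -/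
theorem result {F : Type*} [Field F] [Fintype F] [CharP F 2] {m : ℕ} (hm : 2 ≤ m) (a : ↥(Matrix.symplecticGroup (Fin m) F)) (ha : orderOf a = 2) :
    (Nat.card {v : Fin m ⊕ Fin m → F // Cfsg.sympForm m F v (Matrix.mulVec ((a : ↥(Matrix.symplecticGroup (Fin m) F)) : Matrix (Fin m ⊕ Fin m) (Fin m ⊕ Fin m) F) v) = 0} = Fintype.card F ^ (2 * m) ∨ Nat.card {v : Fin m ⊕ Fin m → F // Cfsg.sympForm m F v (Matrix.mulVec ((a : ↥(Matrix.symplecticGroup (Fin m) F)) : Matrix (Fin m ⊕ Fin m) (Fin m ⊕ Fin m) F) v) = 0} * Fintype.card F = Fintype.card F ^ (2 * m)) ∧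
    ((∀ v : Fin m ⊕ Fin m → F, Cfsg.sympForm m F v (Matrix.mulVec ((a : ↥(Matrix.symplecticGroup (Fin m) F)) : Matrix (Fin m ⊕ Fin m) (Fin m ⊕ Fin m) F) v) = 0) → Even (((a : ↥(Matrix.symplecticGroup (Fin m) F)) : Matrix (Fin m ⊕ Fin m) (Fin m ⊕ Fin m) F) - 1).rank) := by
  exact main a ha

end Cfsg.Agent.S2167
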