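import Cfsg.Statements.S2172
import Cfsg.Agent.Lib.H3.OmegaTwoSplit
import Cfsg.Agent.Lib.Linear.OrthForms

set_option linter.style.haveILetI false

set_option autoImplicit false
open Cfsg

namespace Cfsg.Agent.S2172

/-- Splitting of involution classes from O to Ω for the hyperbolic quadratic form Q = Σ x_i y_i in dimension 2m over a finite field F of characteristic two, m ≥ 4. Let t, s be involutions of the commutator subgroup Ω that are conjugate in the full isometry group O. If it is not the case that t − 1 has rank m and Q(v + t v) = 0 for every vector v, then t and s are conjugate by an element of Ω. If t − 1 has rank m and Q(v + t v) = 0 for all v, then t and s are conjugate by an element of Ω exactly when the intersection of the images of t − 1 and s − 1 has even dimension (so the class of t in O meets at most two classes of Ω). -/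
theorem result {F : Type*} [Field F] [Fintype F] [CharP F 2] {m : ℕ} (hm : 4 ≤ m) (t s : ↥(Cfsg.isometryGroup F (Cfsg.quadFormPlus m F))) (ht : orderOf t = 2) (hs : orderOf s = 2) (htO : t ∈ Cfsg.Omega F (Cfsg.quadFormPlus m F)) (hsO : s ∈ Cfsg.Omega F (Cfsg.quadFormPlus m F)) (hconj : IsConj t s) :
    (¬ (((((t : ↥(Cfsg.isometryGroup F (Cfsg.quadFormPlus m F))) : GL (Fin m ⊕ Fin m) F) : Matrix (Fin m ⊕ Fin m) (Fin m ⊕ Fin m) F) - 1).rank = m ∧ ∀ v : Fin m ⊕ Fin m → F, Cfsg.quadFormPlus m F (v + Matrix.mulVec (((t : ↥(Cfsg.isometryGroup F (Cfsg.quadFormPlus m F))) : GL (Fin m ⊕ Fin m) F) : Matrix (Fin m ⊕ Fin m) (Fin m ⊕ Fin m) F) v) = 0) →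
      ∃ g ∈ Cfsg.Omega F (Cfsg.quadFormPlus m F), g * t * g⁻¹ = s) ∧
    ((((((t : ↥(Cfsg.isometryGroup F (Cfsg.quadFormPlus m F))) : GL (Fin m ⊕ Fin m) F) : Matrix (Fin m ⊕ Fin m) (Fin m ⊕ Fin m) F) - 1).rank = m ∧ ∀ v : Fin m ⊕ Fin m → F, Cfsg.quadFormPlus m F (v + Matrix.mulVec (((t : ↥(Cfsg.isometryGroup F (Cfsg.quadFormPlus m F))) : GL (Fin m ⊕ Fin m) F) : Matrix (Fin m ⊕ Fin m) (Fin m ⊕ Fin m) F) v) = 0) →
      ((∃ g ∈ Cfsg.Omega F (Cfsg.quadFormPlus m F), g * t * g⁻¹ = s) ↔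
        Even (Module.finrank F ↥(LinearMap.range (Matrix.toLin' ((((t : ↥(Cfsg.isometryGroup F (Cfsg.quadFormPlus m F))) : GL (Fin m ⊕ Fin m) F) : Matrix (Fin m ⊕ Fin m) (Fin m ⊕ Fin m) F) - 1)) ⊓ LinearMap.range (Matrix.toLin' ((((s : ↥(Cfsg.isometryGroup F (Cfsg.quadFormPlus m F))) : GL (Fin m ⊕ Fin m) F) : Matrix (Fin m ⊕ Fin m) (Fin m ⊕ Fin m) F) - 1)))))) := by
  classical
  obtain ⟨B, C⟩ := Cfsg.Lib.Linear.Orth.exists_space_plus (F := F) m
  have h2 : (2 : F) = 0 := CharTwo.two_eq_zero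
  have hcard : Fintype.card (Fin m ⊕ Fin m) = 2 * m := by
    simp only [Fintype.card_sum, Fintype.card_fin]; omega
  have hn : 2 ≤ Fintype.card (Fin m ⊕ Fin m) := by omega
  have hh : Fintype.card F ≠ 2 ∨ Fintype.card (Fin m ⊕ Fin m) ≠ 4 := Or.inr (by omega)
  have ht2 : (t : GL (Fin m ⊕ Fin m) F) * (t : GL _ F) = 1 := by
    rw [← Subgroup.coe_mul, ← pow_two, orderOf_dvd_iff_pow_eq_one.1 (dvd_of_eq ht),
      OneMemClass.coe_one]
  have hplus : ∀ v : Fin m ⊕ Fin m → F, v + (t : GL (Fin m ⊕ Fin m) F).val.mulVec v =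
      Matrix.toLin' ((t : GL (Fin m ⊕ Fin m) F).val - 1) v := fun v => by
    rw [Matrix.toLin'_apply, Matrix.sub_mulVec, Matrix.one_mulVec]
    funext i
    simp only [Pi.add_apply, Pi.sub_apply]
    linear_combination (v i) * h2
  refine ⟨fun hnot => ?_, fun ⟨hr, hsing⟩ => ?_⟩
  · by_cases hex : ∃ v, Cfsg.quadFormPlus m F v ≠ 0 ∧ (t : GL (Fin m ⊕ Fin m) F).val.mulVec v = v
    · obtain ⟨v, hv, htv⟩ := hex
      exact Cfsg.Lib.H3.exists_omega_conj C h2 hn hh hconj hv htv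
    · exfalso
      obtain ⟨hA, hrange⟩ := Cfsg.Lib.H3.isHalf_fixSpace C h2 ht2 (fun v hv => by
        by_contra hne; exact hex ⟨v, hne, hv⟩)
      refine hnot ⟨?_, fun v => ?_⟩
      · show Module.finrank F (LinearMap.range (Matrix.toLin' ((t : GL (Fin m ⊕ Fin m) F).val - 1))) = m
        have h1 := hA.2
        refine ((LinearEquiv.ofEq _ _ hrange).finrank_eq).trans ?_
        omega
      · rw [hplus]
        exact hA.1 _ (hrange ▸ LinearMap.mem_range_self _ v)
  · set U := LinearMap.range (Matrix.toLin' ((t : GL (Fin m ⊕ Fin m) F).val - 1)) with hU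
    have hUr : Module.finrank F U = m := hr
    have hUh : Cfsg.Lib.Linear.Orth.IsHalf (Cfsg.quadFormPlus m F) U := by
      refine ⟨?_, by omega⟩
      rintro _ ⟨v, rfl⟩
      rw [← hplus]; exact hsing v
    obtain ⟨δ, hδ, hiff⟩ := Cfsg.Lib.H3.omega_char_two C h2 hn hh
    have hteven : Even m := hr ▸ (Cfsg.Lib.H3.mem_omega_iff_even_rank C h2 hn hh t).1 htO
    have key : ∀ g : ↥(Cfsg.isometryGroup F (Cfsg.quadFormPlus m F)),
        (δ g = 1 ∧ Module.finrank F (U ⊓ Cfsg.Lib.Linear.Orth.img (g : GL (Fin m ⊕ Fin m) F) U :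
            Submodule F (Fin m ⊕ Fin m → F)) % 2 = m % 2) ∨
        (δ g = -1 ∧ Module.finrank F (U ⊓ Cfsg.Lib.Linear.Orth.img (g : GL (Fin m ⊕ Fin m) F) U :
            Submodule F (Fin m ⊕ Fin m → F)) % 2 = (m + 1) % 2) := by
      refine Cfsg.Lib.Linear.Orth.refl_induction C hh _ ?_ ?_
      · left
        refine ⟨map_one δ, ?_⟩
        rw [OneMemClass.coe_one, Cfsg.Lib.Linear.Orth.img_one, inf_idem, hUr]
      · intro v hv g ih
        have hf := Cfsg.Lib.Linear.Orth.parity_flip C hUh (hUh.img g.2) hv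
        rw [← Cfsg.Lib.Linear.Orth.img_mul] at hf
        rw [Subgroup.coe_mul, Cfsg.Lib.Linear.Orth.rI_val C hv, map_mul, hδ]
        rcases ih with ⟨hd, hp⟩ | ⟨hd, hp⟩
        · right; rw [hd]; exact ⟨mul_one _, by omega⟩
        · left; rw [hd]; exact ⟨by norm_num, by omega⟩
    have himg : ∀ g : ↥(Cfsg.isometryGroup F (Cfsg.quadFormPlus m F)), g * t * g⁻¹ = s →
        Cfsg.Lib.Linear.Orth.img (g : GL (Fin m ⊕ Fin m) F) U =
          LinearMap.range (Matrix.toLin' ((s : GL (Fin m ⊕ Fin m) F).val - 1)) := fun g hg =>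
      Cfsg.Lib.H3.img_range_conj (congrArg Subtype.val hg)
    rw [Nat.even_iff]
    rw [Nat.even_iff] at hteven
    constructor
    · rintro ⟨g, hgO, hg⟩
      rcases key g with ⟨-, hp⟩ | ⟨hd, -⟩
      · rw [himg g hg] at hp; omega
      · exfalso
        have := (hiff g).1 hgO
        rw [hd] at this
        exact absurd this (by decide)
    · intro hev
      obtain ⟨g, hg⟩ := isConj_iff.1 hconj
      rcases key g with ⟨hd, -⟩ | ⟨-, hp⟩
      · exact ⟨g, (hiff g).2 hd, hg⟩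
      · rw [himg g hg] at hp; omega

end Cfsg.Agent.S2172
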