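import Cfsg.Statements.S2173
import Cfsg.Agent.Lib.H3.OmegaTwoSplit
import Cfsg.Agent.Lib.Linear.OrthForms

set_option linter.style.haveILetI false

set_option autoImplicit false
open Cfsg

namespace Cfsg.Agent.S2173

/-- For the quadratic form Σ x_i y_i + (z₁² + c z₁ z₂ + d z₂²) in dimension 2m with anisotropic binary part over a finite field F of characteristic two, m ≥ 4 (minus type): two involutions of the commutator subgroup Ω that are conjugate in the full isometry group O are conjugate by an element of Ω (no class of involutions of O inside Ω splits). -/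
theorem result {F : Type*} [Field F] [Fintype F] [CharP F 2] {m : ℕ} (hm : 4 ≤ m) (c d : F) (hcd : ∀ z₁ z₂ : F, z₁ ^ 2 + c * z₁ * z₂ + d * z₂ ^ 2 = 0 → z₁ = 0 ∧ z₂ = 0) (t s : ↥(Cfsg.isometryGroup F (Cfsg.quadFormMinus (m - 1) F c d))) (ht : orderOf t = 2) (hs : orderOf s = 2) (htO : t ∈ Cfsg.Omega F (Cfsg.quadFormMinus (m - 1) F c d)) (hsO : s ∈ Cfsg.Omega F (Cfsg.quadFormMinus (m - 1) F c d)) (hconj : IsConj t s) :
    ∃ g ∈ Cfsg.Omega F (Cfsg.quadFormMinus (m - 1) F c d), g * t * g⁻¹ = s := by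
  classical
  obtain ⟨B, C⟩ := Cfsg.Lib.Linear.Orth.exists_space_minus (F := F) (m - 1) c d hcd
  have h2 : (2 : F) = 0 := CharTwo.two_eq_zero
  have hcard : Fintype.card ((Fin (m - 1) ⊕ Fin (m - 1)) ⊕ Fin 2) = 2 * m := by
    simp only [Fintype.card_sum, Fintype.card_fin]; omega
  have ht2 : (t : GL ((Fin (m - 1) ⊕ Fin (m - 1)) ⊕ Fin 2) F) * (t : GL _ F) = 1 := by
    rw [← Subgroup.coe_mul, ← pow_two, orderOf_dvd_iff_pow_eq_one.1 (dvd_of_eq ht),
      OneMemClass.coe_one]
  by_cases hex : ∃ v, Cfsg.quadFormMinus (m - 1) F c d v ≠ 0 ∧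
      (t : GL ((Fin (m - 1) ⊕ Fin (m - 1)) ⊕ Fin 2) F).val.mulVec v = v
  · obtain ⟨v, hv, htv⟩ := hex
    exact Cfsg.Lib.H3.exists_omega_conj C h2 (by omega) (Or.inr (by omega)) hconj hv htv
  · exfalso
    obtain ⟨hA, -⟩ := Cfsg.Lib.H3.isHalf_fixSpace C h2 ht2 (fun v hv => by
      by_contra hne; exact hex ⟨v, hne, hv⟩)
    set A := Cfsg.Lib.Linear.Orth.fixSpace (t : GL ((Fin (m - 1) ⊕ Fin (m - 1)) ⊕ Fin 2) F)
    let W : Submodule F ((Fin (m - 1) ⊕ Fin (m - 1)) ⊕ Fin 2 → F) :=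
      LinearMap.range (LinearMap.pi (fun j => Sum.elim (Sum.elim (fun i => LinearMap.proj i) (fun _ => 0))
        (fun _ => 0) j) : (Fin (m - 1) → F) →ₗ[F] ((Fin (m - 1) ⊕ Fin (m - 1)) ⊕ Fin 2 → F))
    have hW : Module.finrank F W < Module.finrank F A := by
      have h1 := LinearMap.finrank_range_le (LinearMap.pi (fun j => Sum.elim (Sum.elim (fun i => LinearMap.proj i) (fun _ => 0))
        (fun _ => 0) j) : (Fin (m - 1) → F) →ₗ[F] ((Fin (m - 1) ⊕ Fin (m - 1)) ⊕ Fin 2 → F))
      rw [Module.finrank_fintype_fun_eq_card, Fintype.card_fin] at h1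
      have := hA.2
      show Module.finrank F (LinearMap.range _) < _
      omega
    obtain ⟨a, haA, haW, hperp⟩ := Cfsg.Lib.Linear.Orth.exists_mem_perp C hA hW
    have hy : ∀ i, a (Sum.inl (Sum.inr i)) = 0 := by
      intro i
      have h := hperp _ ⟨Pi.single i 1, rfl⟩
      rw [← C.polar] at h
      simp only [QuadraticMap.polar, Cfsg.quadFormMinus, Pi.add_apply, LinearMap.pi_apply,
        Sum.elim_inl, Sum.elim_inr, LinearMap.proj_apply, LinearMap.zero_apply, zero_add,
        mul_zero, zero_mul, Finset.sum_const_zero, add_zero] at h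
      simp only [add_mul, Finset.sum_add_distrib] at h
      rw [Finset.sum_eq_single i (fun b _ hb => by rw [Pi.single_eq_of_ne hb, zero_mul]) (by simp),
        Pi.single_eq_same, one_mul] at h
      linear_combination h
    have hQ := hA.1 a haA
    simp only [Cfsg.quadFormMinus, hy, mul_zero, Finset.sum_const_zero, zero_add] at hQ
    obtain ⟨z0, z1⟩ := hcd _ _ hQ
    refine haW ⟨fun i => a (Sum.inl (Sum.inl i)), ?_⟩
    funext j
    rcases j with (j | j) | j
    · simp
    · simp [hy]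
    · fin_cases j <;> simp [z0, z1]

end Cfsg.Agent.S2173
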