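import Cfsg.Prelude.Def_ChevStructure
import Cfsg.Prelude.Def_LieChev
import Cfsg.Agent.Lib.Chev.InvClassesE8
-- import your own Cfsg.Agent.* helpers here

set_option autoImplicit false
open Cfsg

namespace Cfsg.Agent.S2176

/-- Conjugacy classes of involutions in the Chevalley group of type E₈ over a finite field F of characteristic two (the matrix group generated by the root elements x_r(t)). In this problem's root numbering for type E₈ (the Chevalley data module; fundamental roots numbered so that p₁–p₃–p₄–p₅–p₆–p₇–p₈ is the long chain of the diagram and p₂ is joined to p₄; roots indexed by their coefficient vectors in increasing order) let r = 239 be the highest root (2,3,4,6,5,4,3,2), α = 232 = (2,2,4,5,4,3,2,1), β = 233 = (2,3,3,5,4,3,2,1), γ = 228 = (2,2,3,4,3,2,2,1), δ = 222 = (1,2,3,4,3,3,2,1), ε = 218 = (1,2,2,4,4,3,2,1),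 φ = 226 = (2,2,3,4,3,2,1,0), ψ = 220 = (1,2,3,4,3,2,1,1), θ = 213 = (1,2,2,3,3,3,2,1), ω = 216 = (1,2,2,4,3,2,2,1) (the roots within each of {α, β}, {γ, δ, ε}, {φ, ψ, θ, ω} pairwise orthogonal); consider x_r(1), x_α(1)x_β(1), x_γ(1)x_δ(1)x_ε(1) and x_φ(1)x_ψ(1)x_θ(1)x_ω(1). Then: each invertible matrix equal to one of these four products lies in the group and has order 2; every element of order 2 of the group is conjugate in the group to one of them; and no two of them are conjugate in the group (so, the four matrices being distinct, the group has exactly four conjugacy classes of involutions). -/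
theorem result {F : Type*} [Field F] [Fintype F] [CharP F 2] :
    (∀ y : GL Cfsg.Lie.chevE8.Idx F, ((y : GL Cfsg.Lie.chevE8.Idx F) : Matrix Cfsg.Lie.chevE8.Idx Cfsg.Lie.chevE8.Idx F) ∈ [Cfsg.Lie.chevE8.x F 239 1, Cfsg.Lie.chevE8.x F 232 1 * Cfsg.Lie.chevE8.x F 233 1, Cfsg.Lie.chevE8.x F 228 1 * Cfsg.Lie.chevE8.x F 222 1 * Cfsg.Lie.chevE8.x F 218 1, Cfsg.Lie.chevE8.x F 226 1 * Cfsg.Lie.chevE8.x F 220 1 * Cfsg.Lie.chevE8.x F 213 1 * Cfsg.Lie.chevE8.x F 216 1] → y ∈ Cfsg.Lie.chevE8.group F ∧ orderOf y = 2) ∧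
    (∀ g ∈ Cfsg.Lie.chevE8.group F, orderOf g = 2 → ∃ y ∈ Cfsg.Lie.chevE8.group F, ((y : GL Cfsg.Lie.chevE8.Idx F) : Matrix Cfsg.Lie.chevE8.Idx Cfsg.Lie.chevE8.Idx F) ∈ [Cfsg.Lie.chevE8.x F 239 1, Cfsg.Lie.chevE8.x F 232 1 * Cfsg.Lie.chevE8.x F 233 1, Cfsg.Lie.chevE8.x F 228 1 * Cfsg.Lie.chevE8.x F 222 1 * Cfsg.Lie.chevE8.x F 218 1, Cfsg.Lie.chevE8.x F 226 1 * Cfsg.Lie.chevE8.x F 220 1 * Cfsg.Lie.chevE8.x F 213 1 * Cfsg.Lie.chevE8.x F 216 1] ∧ ∃ h ∈ Cfsg.Lie.chevE8.group F, h * g * h⁻¹ = y) ∧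
    (∀ y₁ ∈ Cfsg.Lie.chevE8.group F, ∀ y₂ ∈ Cfsg.Lie.chevE8.group F, ((y₁ : GL Cfsg.Lie.chevE8.Idx F) : Matrix Cfsg.Lie.chevE8.Idx Cfsg.Lie.chevE8.Idx F) ∈ [Cfsg.Lie.chevE8.x F 239 1, Cfsg.Lie.chevE8.x F 232 1 * Cfsg.Lie.chevE8.x F 233 1, Cfsg.Lie.chevE8.x F 228 1 * Cfsg.Lie.chevE8.x F 222 1 * Cfsg.Lie.chevE8.x F 218 1, Cfsg.Lie.chevE8.x F 226 1 * Cfsg.Lie.chevE8.x F 220 1 * Cfsg.Lie.chevE8.x F 213 1 * Cfsg.Lie.chevE8.x F 216 1] → ((y₂ : GL Cfsg.Lie.chevE8.Idx F) : Matrix Cfsg.Lie.chevE8.Idx Cfsg.Lie.chevE8.Idx F) ∈ [Cfsg.Lie.chevE8.x F 239 1, Cfsg.Lie.chevE8.x F 232 1 * Cfsg.Lie.chevE8.x F 233 1, Cfsg.Lie.chevE8.x F 228 1 * Cfsg.Lie.chevE8.x F 222 1 * Cfsg.Lie.chevE8.x F 218 1, Cfsg.Lie.chevE8.x F 226 1 * Cfsg.Lie.chevE8.x F 220 1 * Cfsg.Lie.chevE8.x F 213 1 * Cfsg.Lie.chevE8.x F 216 1] →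
      (∃ h ∈ Cfsg.Lie.chevE8.group F, h * y₁ * h⁻¹ = y₂) → ((y₁ : GL Cfsg.Lie.chevE8.Idx F) : Matrix Cfsg.Lie.chevE8.Idx Cfsg.Lie.chevE8.Idx F) = ((y₂ : GL Cfsg.Lie.chevE8.Idx F) : Matrix Cfsg.Lie.chevE8.Idx Cfsg.Lie.chevE8.Idx F)) := by
  classical
  open Cfsg.Lib.Chev in
  have hrep : ∀ y : GL Cfsg.Lie.chevE8.Idx F, ((y : GL Cfsg.Lie.chevE8.Idx F) : Matrix Cfsg.Lie.chevE8.Idx Cfsg.Lie.chevE8.Idx F) ∈ [Cfsg.Lie.chevE8.x F 239 1, Cfsg.Lie.chevE8.x F 232 1 * Cfsg.Lie.chevE8.x F 233 1, Cfsg.Lie.chevE8.x F 228 1 * Cfsg.Lie.chevE8.x F 222 1 * Cfsg.Lie.chevE8.x F 218 1, Cfsg.Lie.chevE8.x F 226 1 * Cfsg.Lie.chevE8.x F 220 1 * Cfsg.Lie.chevE8.x F 213 1 * Cfsg.Lie.chevE8.x F 216 1] ↔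
      ∃ l ∈ enE8L, y = lprod certE8 l (fun _ => (1 : F)) := by
    intro y
    simp [Cfsg.Lib.Chev.enE8L, Cfsg.Lib.Chev.lprod, Units.ext_iff, Cfsg.Lib.Chev.coe_xg, mul_assoc]
  refine ⟨fun y hy => ?_, fun g hg hord => ?_, fun y₁ _ y₂ _ h1 h2 h => ?_⟩
  · obtain ⟨l, hl, rfl⟩ := (hrep y).1 hy
    exact Cfsg.Lib.Chev.reps_group_two Cfsg.Lib.Chev.certE8 Cfsg.Lib.Chev.fullCertE8 Cfsg.Lib.Chev.chkEn_E8
      Cfsg.Lib.Chev.enE8L_ok hl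
  · obtain ⟨h, hh, l, hl, e⟩ := Cfsg.Lib.Chev.reps_reach Cfsg.Lib.Chev.certE8 Cfsg.Lib.Chev.fullCertE8
      Cfsg.Lib.Chev.chkEn_E8 Cfsg.Lib.Chev.enE8L_ok Cfsg.Lib.Chev.enE8M3_ok Cfsg.Lib.Chev.enE8M_full
      Cfsg.Lib.Chev.enE8_reach hg hord
    exact ⟨_, (Cfsg.Lib.Chev.reps_group_two Cfsg.Lib.Chev.certE8 Cfsg.Lib.Chev.fullCertE8 Cfsg.Lib.Chev.chkEn_E8
      Cfsg.Lib.Chev.enE8L_ok hl).1, (hrep _).2 ⟨l, hl, rfl⟩, h, hh, e⟩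
  · obtain ⟨c, -, e⟩ := h
    obtain ⟨l₁, hl₁, rfl⟩ := (hrep y₁).1 h1
    obtain ⟨l₂, hl₂, rfl⟩ := (hrep y₂).1 h2
    rw [Cfsg.Lib.Chev.reps_separated Cfsg.Lib.Chev.certE8 Cfsg.Lib.Chev.enE8_ranks
      Cfsg.Lib.Chev.enE8_ranks_nodup hl₁ hl₂ e]


end Cfsg.Agent.S2176
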