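import Cfsg.Prelude.Def_ChevStructure
import Cfsg.Prelude.Def_LieChev
import Cfsg.Agent.Lib.Chev.G2Cent
-- import your own Cfsg.Agent.* helpers here

set_option autoImplicit false
open Cfsg

namespace Cfsg.Agent.S2177

/-- Conjugacy classes of involutions in the Chevalley group of type G₂ over a finite field F of characteristic two with at least four elements (the matrix group generated by the root elements x_r(t)). In this problem's root numbering for type G₂ (the Chevalley data module; p₁ = a short, p₂ = b long; roots indexed by coefficient vectors in increasing order) let 11 be the highest root 3a + 2b (long) and 9 the short root 2a + b; consider x_{3a+2b}(1) and x_{2a+b}(1). Then: each invertible matrix equal to one of these two products lies in the group and has order 2; every element of order 2 of the group is conjugate in the group to one of them; and no two of them are conjugate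 in the group (so, the two matrices being distinct, the group has exactly two conjugacy classes of involutions). -/
theorem result {F : Type*} [Field F] [Fintype F] [CharP F 2] (hF : 4 ≤ Fintype.card F) :
    (∀ y : GL Cfsg.Lie.chevG2.Idx F, ((y : GL Cfsg.Lie.chevG2.Idx F) : Matrix Cfsg.Lie.chevG2.Idx Cfsg.Lie.chevG2.Idx F) ∈ [Cfsg.Lie.chevG2.x F 11 1, Cfsg.Lie.chevG2.x F 9 1] → y ∈ Cfsg.Lie.chevG2.group F ∧ orderOf y = 2) ∧
    (∀ g ∈ Cfsg.Lie.chevG2.group F, orderOf g = 2 → ∃ y ∈ Cfsg.Lie.chevG2.group F, ((y : GL Cfsg.Lie.chevG2.Idx F) : Matrix Cfsg.Lie.chevG2.Idx Cfsg.Lie.chevG2.Idx F) ∈ [Cfsg.Lie.chevG2.x F 11 1, Cfsg.Lie.chevG2.x F 9 1] ∧ ∃ h ∈ Cfsg.Lie.chevG2.group F, h * g * h⁻¹ = y) ∧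
    (∀ y₁ ∈ Cfsg.Lie.chevG2.group F, ∀ y₂ ∈ Cfsg.Lie.chevG2.group F, ((y₁ : GL Cfsg.Lie.chevG2.Idx F) : Matrix Cfsg.Lie.chevG2.Idx Cfsg.Lie.chevG2.Idx F) ∈ [Cfsg.Lie.chevG2.x F 11 1, Cfsg.Lie.chevG2.x F 9 1] → ((y₂ : GL Cfsg.Lie.chevG2.Idx F) : Matrix Cfsg.Lie.chevG2.Idx Cfsg.Lie.chevG2.Idx F) ∈ [Cfsg.Lie.chevG2.x F 11 1, Cfsg.Lie.chevG2.x F 9 1] →
      (∃ h ∈ Cfsg.Lie.chevG2.group F, h * y₁ * h⁻¹ = y₂) → ((y₁ : GL Cfsg.Lie.chevG2.Idx F) : Matrix Cfsg.Lie.chevG2.Idx Cfsg.Lie.chevG2.Idx F) = ((y₂ : GL Cfsg.Lie.chevG2.Idx F) : Matrix Cfsg.Lie.chevG2.Idx Cfsg.Lie.chevG2.Idx F)) := by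
  have hy : ∀ y : GL Cfsg.Lie.chevG2.Idx F, ((y : GL Cfsg.Lie.chevG2.Idx F) : Matrix Cfsg.Lie.chevG2.Idx Cfsg.Lie.chevG2.Idx F) ∈ [Cfsg.Lie.chevG2.x F 11 1, Cfsg.Lie.chevG2.x F 9 1] →
      y = Cfsg.Lib.Chev.xg Cfsg.Lib.Chev.certG2 11 (1 : F) ∨ y = Cfsg.Lib.Chev.xg Cfsg.Lib.Chev.certG2 9 (1 : F) := by
    intro y hy
    simp only [List.mem_cons, List.not_mem_nil, or_false] at hy
    exact hy.imp (Cfsg.Lib.Chev.eq_xg _) (Cfsg.Lib.Chev.eq_xg _)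
  refine ⟨fun y h => ?_, fun g hg ho => ?_, fun y₁ h₁ y₂ h₂ m₁ m₂ hc => ?_⟩
  · rcases hy y h with rfl | rfl
    · exact ⟨Cfsg.Lib.Chev.xg_mem_group _ _ _, Cfsg.Lib.Chev.gt_order_two (by norm_num)⟩
    · exact ⟨Cfsg.Lib.Chev.xg_mem_group _ _ _, Cfsg.Lib.Chev.gt_order_two (by norm_num)⟩
  · rcases Cfsg.Lib.Chev.gt_involution_classes hg ho with ⟨h, hh, e⟩ | ⟨h, hh, e⟩
    · exact ⟨_, Cfsg.Lib.Chev.xg_mem_group _ _ _, by simp [Cfsg.Lib.Chev.coe_xg], h, hh, mul_inv_eq_iff_eq_mul.2 e⟩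
    · exact ⟨_, Cfsg.Lib.Chev.xg_mem_group _ _ _, by simp [Cfsg.Lib.Chev.coe_xg], h, hh, mul_inv_eq_iff_eq_mul.2 e⟩
  · obtain ⟨h, hh, e⟩ := hc
    rw [mul_inv_eq_iff_eq_mul] at e
    rcases hy y₁ m₁ with rfl | rfl <;> rcases hy y₂ m₂ with rfl | rfl
    · rfl
    · exact absurd e (Cfsg.Lib.Chev.gt_not_conj hh)
    · refine absurd ?_ (Cfsg.Lib.Chev.gt_not_conj (inv_mem hh))
      rw [inv_mul_eq_iff_eq_mul, ← mul_assoc, e, mul_inv_cancel_right]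
    · rfl

end Cfsg.Agent.S2177
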