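import Cfsg.Prelude.Def_LieChev
import Cfsg.Agent.Lib.Chev.F4PairCent
-- import your own Cfsg.Agent.* helpers here

set_option autoImplicit false
open Cfsg

namespace Cfsg.Agent.S2179

/-- Centralizers of the two remaining classes of involutions in the Chevalley group G of type F₄ over a finite field F of characteristic two (this problem's root numbering for type F₄, from the Chevalley data module: p₁, p₂ short, p₃, p₄ long with indices 33, 27, 25, 24 and negatives 14, 20, 22, 23; U generated by the positive root subgroups). For an element of G with matrix x_47(1)x_44(1) (highest root times highest short root): its centralizer in G is generated by U, X_{−p₂} and X_{−p₃}. For an element of G with matrix x_39(1)x_45(1) (roots (1,2,2,1) and (2,4,2,1), an orthogonal short/long pair): its centralizer in G is generated by X_{p₁}, X_{−p₁}, X_{p₄}, X_{−p₄} and the root subgroups of all positive roots other than p₂ (27), p₃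 (25), p₁ + p₂ (34) and p₃ + p₄ (26). -/
theorem result {F : Type*} [Field F] [Fintype F] [CharP F 2] (w v : GL Cfsg.Lie.chevF4.Idx F) (hw : (w : Matrix Cfsg.Lie.chevF4.Idx Cfsg.Lie.chevF4.Idx F) = Cfsg.Lie.chevF4.x F 47 1 * Cfsg.Lie.chevF4.x F 44 1) (hv : (v : Matrix Cfsg.Lie.chevF4.Idx Cfsg.Lie.chevF4.Idx F) = Cfsg.Lie.chevF4.x F 39 1 * Cfsg.Lie.chevF4.x F 45 1) :
    Cfsg.Lie.chevF4.group F ⊓ Subgroup.centralizer {w} = Cfsg.Lie.chevF4.posUnipotent F ⊔ Cfsg.Lie.chevF4.rootSubgroup F 20 ⊔ Cfsg.Lie.chevF4.rootSubgroup F 22 ∧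
    Cfsg.Lie.chevF4.group F ⊓ Subgroup.centralizer {v} = Cfsg.Lie.chevF4.rootSubgroup F 33 ⊔ Cfsg.Lie.chevF4.rootSubgroup F 14 ⊔ Cfsg.Lie.chevF4.rootSubgroup F 24 ⊔ Cfsg.Lie.chevF4.rootSubgroup F 23 ⊔
      Subgroup.closure {g : GL Cfsg.Lie.chevF4.Idx F | ∃ (r : ℕ) (c : F), Cfsg.Lie.chevF4.IsPosRoot r ∧ r ∉ [27, 25, 34, 26] ∧ (g : Matrix Cfsg.Lie.chevF4.Idx Cfsg.Lie.chevF4.Idx F) = Cfsg.Lie.chevF4.x F r c} := by
  open Cfsg.Lib.Chev Cfsg.Lie in
  have hroot : ∀ r : ℕ, r < 48 → (chevF4.IsPosRoot r ↔ 24 ≤ r) := by decide +kernel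
  open Cfsg.Lib.Chev Cfsg.Lie in
  have hx : ∀ (r : ℕ) (t : F), chevF4.IsPosRoot r → xg certF4 r t ∈ chevF4.posUnipotent F := fun r t hr =>
    Subgroup.subset_closure ⟨r, t, hr, coe_xg certF4 r t⟩
  refine ⟨?_, ?_⟩
  · have e : w = Cfsg.Lib.Chev.lprod Cfsg.Lib.Chev.certF4 [47, 44] (Cfsg.Lib.Chev.f4Phi2 1 1) := by
      rw [← Cfsg.Lib.Chev.f4W_eq]
      exact Units.ext (by rw [Units.val_mul, Cfsg.Lib.Chev.coe_xg, Cfsg.Lib.Chev.coe_xg]; exact hw)
    rw [e, Cfsg.Lib.Chev.f4_cent_w_eq]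
    refine le_antisymm ((Subgroup.closure_le _).2 ?_) (sup_le (sup_le Cfsg.Lib.Chev.f4_pos_le_Ww ?_) ?_)
    · rintro g ⟨r, t, hr, hP, rfl⟩
      rcases of_decide_eq_true hP with h | h
      · simp only [List.mem_cons, List.not_mem_nil, or_false] at h
        rcases h with rfl | rfl
        · exact Subgroup.mem_sup_left (Subgroup.mem_sup_right (Cfsg.Lib.Chev.mem_rootSubgroup Cfsg.Lib.Chev.certF4 |>.2 ⟨t, rfl⟩))
        · exact Subgroup.mem_sup_right (Cfsg.Lib.Chev.mem_rootSubgroup Cfsg.Lib.Chev.certF4 |>.2 ⟨t, rfl⟩)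
      · exact Subgroup.mem_sup_left (Subgroup.mem_sup_left (hx r t ((hroot r h.2).2 h.1)))
    · intro g hg
      obtain ⟨t, rfl⟩ := (Cfsg.Lib.Chev.mem_rootSubgroup Cfsg.Lib.Chev.certF4).1 hg
      exact Cfsg.Lib.Chev.f4Ww_mem (Or.inl (by simp)) t
    · intro g hg
      obtain ⟨t, rfl⟩ := (Cfsg.Lib.Chev.mem_rootSubgroup Cfsg.Lib.Chev.certF4).1 hg
      exact Cfsg.Lib.Chev.f4Ww_mem (Or.inl (by simp)) t
  · have e : v = Cfsg.Lib.Chev.f4V 0 0 0 0 := by
      rw [Cfsg.Lib.Chev.f4V_zero]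
      exact Units.ext (by rw [Units.val_mul, Cfsg.Lib.Chev.coe_xg, Cfsg.Lib.Chev.coe_xg]; exact hv)
    rw [e, Cfsg.Lib.Chev.f4_cent_v_eq]
    refine le_antisymm ((Subgroup.closure_le _).2 ?_) ?_
    · rintro g ⟨r, t, hr, hP, rfl⟩
      rcases of_decide_eq_true hP with h | h
      · simp only [List.mem_cons, List.not_mem_nil, or_false] at h
        have hm := (Cfsg.Lib.Chev.mem_rootSubgroup (F := F) (r := r) Cfsg.Lib.Chev.certF4).2 ⟨t, rfl⟩
        rcases h with rfl | rfl | rfl | rfl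
        · exact Subgroup.mem_sup_left (Subgroup.mem_sup_left (Subgroup.mem_sup_left (Subgroup.mem_sup_left hm)))
        · exact Subgroup.mem_sup_left (Subgroup.mem_sup_left (Subgroup.mem_sup_left (Subgroup.mem_sup_right hm)))
        · exact Subgroup.mem_sup_left (Subgroup.mem_sup_left (Subgroup.mem_sup_right hm))
        · exact Subgroup.mem_sup_left (Subgroup.mem_sup_right hm)
      · exact Subgroup.mem_sup_right (Subgroup.subset_closure ⟨r, t, (hroot r h.2.1).2 h.1, h.2.2, Cfsg.Lib.Chev.coe_xg _ r t⟩)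
    · refine sup_le (sup_le (sup_le (sup_le ?_ ?_) ?_) ?_) ((Subgroup.closure_le _).2 ?_)
      iterate 4
        · intro g hg
          obtain ⟨t, rfl⟩ := (Cfsg.Lib.Chev.mem_rootSubgroup Cfsg.Lib.Chev.certF4).1 hg
          exact Cfsg.Lib.Chev.f4Wv_mem (Or.inl (by simp)) t
      rintro g ⟨r, c, hr, hne, hg⟩
      rw [SetLike.mem_coe, Cfsg.Lib.Chev.eq_xg Cfsg.Lib.Chev.certF4 hg]
      exact Cfsg.Lib.Chev.f4Wv_mem (Or.inr ⟨(hroot r hr.1).1 hr, hr.1, hne⟩) c

end Cfsg.Agent.S2179
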