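import Cfsg.Prelude.Def_LieChev
import Cfsg.Agent.Lib.Chev.InvClassesE7
-- import your own Cfsg.Agent.* helpers here

set_option autoImplicit false
open Cfsg

namespace Cfsg.Agent.S2181

/-- The Chevalley group of type E₇ over a finite field of characteristic two (the matrix group generated by the root elements) has exactly five conjugacy classes of elements of order 2. -/
theorem result {F : Type*} [Field F] [Fintype F] [CharP F 2] :
    (ConjClasses.mk '' {g : ↥(Cfsg.Lie.chevE7.group F) | orderOf g = 2}).ncard = 5 := by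
  classical
  rw [Cfsg.Lib.Chev.reps_ncard Cfsg.Lib.Chev.certE7 Cfsg.Lib.Chev.fullCertE7 Cfsg.Lib.Chev.chkEn_E7
    Cfsg.Lib.Chev.enE7L_ok (by decide) Cfsg.Lib.Chev.enE7M2_ok Cfsg.Lib.Chev.enE7M_full Cfsg.Lib.Chev.enE7_reach
    Cfsg.Lib.Chev.enE7_ranks Cfsg.Lib.Chev.enE7_ranks_nodup]
  rfl


end Cfsg.Agent.S2181
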