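import Cfsg.Statements.S2189
import Cfsg.Agent.Lib.Chev.Overgroup.Apply

set_option autoImplicit false
open Cfsg

namespace Cfsg.Agent.S2189

/-- Finite subgroups of an adjoint Chevalley group over an algebraically closed field that contain the group over a finite subfield. Let k be an algebraically closed field of prime characteristic p, G the Chevalley group of type G₂, B₂, D₄, F₄, E₆, E₇ or E₈ over k (the matrix group generated by the root elements x_s(t), t ∈ k), and q = p^a with a ≥ 1. Let L be the subgroup generated by the root elements x_s(t) with t^q = t (the Chevalley group over the field of q elements inside G), and let M be a finite subgroup of G containing L. Then for some r ≥ 1, M contains every root element x_s(t) with t^(q^r) = t and every element of M is a matrix all of whose entries c satisfy c^(q^r) = c (so M lies between the Chevalley group over the field with q^r elements and the group of points of G fixed by the q^r-th power map). -/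
theorem result {k : Type*} [Field k] [IsAlgClosed k] (p : ℕ) [Fact p.Prime] [CharP k p] (D : Cfsg.Lie.ChevalleyDatum) (hD : D ∈ [Cfsg.Lie.chevG2, Cfsg.Lie.chevB2, Cfsg.Lie.chevD4, Cfsg.Lie.chevF4, Cfsg.Lie.chevE6, Cfsg.Lie.chevE7, Cfsg.Lie.chevE8]) (a : ℕ) (ha : 1 ≤ a) (M : Subgroup (GL D.Idx k)) (hMfin : Finite ↥M) (hMG : M ≤ D.group k)
    (hLM : Subgroup.closure {g : GL D.Idx k | ∃ (s : ℕ) (t : k), t ^ (p ^ a) = t ∧ (g : Matrix D.Idx D.Idx k) = D.x k s t} ≤ M) :
    ∃ r : ℕ, 1 ≤ r ∧ Subgroup.closure {g : GL D.Idx k | ∃ (s : ℕ) (t : k), t ^ ((p ^ a) ^ r) = t ∧ (g : Matrix D.Idx D.Idx k) = D.x k s t} ≤ M ∧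
      ∀ g ∈ M, ∀ i j : D.Idx, ((g : Matrix D.Idx D.Idx k) i j) ^ ((p ^ a) ^ r) = (g : Matrix D.Idx D.Idx k) i j := by
  obtain ⟨T, C, hn⟩ := Cfsg.Lib.Chev.Ovg.exists_cert hD
  have hfix : ∀ (s : ℕ) (t : k) (g : GL D.Idx k), iterateFrobenius k p a t = t →
      (g : Matrix D.Idx D.Idx k) = D.x k s t → g ∈ M := fun s t g ht e =>
    hLM (Subgroup.subset_closure ⟨s, t, by rwa [iterateFrobenius_def] at ht, e⟩)
  obtain ⟨m, hm1, hroots, hentries⟩ :=
    Cfsg.Lib.Chev.Ovg.exists_field hD p (iterateFrobenius k p a) M hMG hMfin hfix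
  have hpa : 1 < p ^ a := Nat.one_lt_pow (by omega) (Fact.out : p.Prime).one_lt
  haveI : NeZero ((p ^ a - 1 : ℕ) : k) := ⟨by
    rw [Nat.cast_sub hpa.le, Nat.cast_one, Nat.cast_pow, CharP.cast_eq_zero k p, zero_pow (by omega), zero_sub]
    exact neg_ne_zero.2 one_ne_zero⟩
  haveI : NeZero (p ^ a - 1) := ⟨by omega⟩
  obtain ⟨u, hu⟩ := HasEnoughRootsOfUnity.exists_primitiveRoot k (p ^ a - 1)
  have hua : u ^ p ^ a = u := by
    rw [show p ^ a = p ^ a - 1 + 1 by omega, pow_succ, hu.pow_eq_one, one_mul]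
  have hum : u ^ p ^ m = u := by
    refine Cfsg.Lib.Chev.Ovg.param_fixed C (r := D.nroots - 1) (by omega) fun i j => hentries _ ?_ i j
    exact hfix _ u _ (by rw [iterateFrobenius_def]; exact hua) (Cfsg.Lib.Chev.coe_xg C _ _)
  obtain ⟨r, hr⟩ := Cfsg.Lib.Chev.Ovg.dvd_of_fixed ha hu.eq_orderOf.symm hum
  have e : (p ^ a) ^ r = p ^ m := by rw [← pow_mul, ← hr]
  refine ⟨r, Nat.one_le_iff_ne_zero.2 fun h => by simp [h] at hr; omega, ?_, ?_⟩
  · refine (Subgroup.closure_le _).2 ?_
    rintro g ⟨s, t, ht, hg⟩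
    exact hroots s t g (e ▸ ht) hg
  · intro g hg i j
    rw [e]
    exact hentries g hg i j

end Cfsg.Agent.S2189
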