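import Cfsg.Statements.S2190
import Cfsg.Agent.Lib.Chev.Overgroup.Apply

set_option autoImplicit false
open Cfsg

namespace Cfsg.Agent.S2190

/-- Subfield subgroups of prime degree are maximal. Let K be a finite field with q^r elements, r a prime, q a power of the characteristic, and G the Chevalley group of type G₂, B₂, D₄, F₄, E₆, E₇ or E₈ over K (the matrix group generated by the root elements). Let M be the subgroup of G consisting of the matrices all of whose entries lie in the subfield with q elements (entries c with c^q = c). Then M is a proper subgroup of G and is maximal: every subgroup of G containing M is M or G. -/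
theorem result {K : Type*} [Field K] [Fintype K] (p : ℕ) [Fact p.Prime] [CharP K p] (D : Cfsg.Lie.ChevalleyDatum) (hD : D ∈ [Cfsg.Lie.chevG2, Cfsg.Lie.chevB2, Cfsg.Lie.chevD4, Cfsg.Lie.chevF4, Cfsg.Lie.chevE6, Cfsg.Lie.chevE7, Cfsg.Lie.chevE8]) (a r : ℕ) (ha : 1 ≤ a) (hr : r.Prime) (hK : Fintype.card K = (p ^ a) ^ r) (M : Subgroup (GL D.Idx K))
    (hM : ∀ g : GL D.Idx K, g ∈ M ↔ g ∈ D.group K ∧ ∀ i j : D.Idx, ((g : Matrix D.Idx D.Idx K) i j) ^ (p ^ a) = (g : Matrix D.Idx D.Idx K) i j) :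
    M ≠ D.group K ∧ ∀ H : Subgroup (GL D.Idx K), M ≤ H → H ≤ D.group K → H = M ∨ H = D.group K := by
  obtain ⟨T, C, hn⟩ := Cfsg.Lib.Chev.Ovg.exists_cert hD
  have hp := (Fact.out : p.Prime).one_lt
  have hpar : 1 ≤ a * r := Nat.mul_pos ha hr.pos
  have hcard : Fintype.card K = p ^ (a * r) := by rw [hK, ← pow_mul]
  have hall : ∀ t : K, t ^ p ^ (a * r) = t := fun t => by rw [← hcard]; exact FiniteField.pow_card t
  obtain ⟨z, hz⟩ := IsCyclic.exists_ofOrder_eq_natCard (α := Kˣ)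
  rw [Nat.card_units, Nat.card_eq_fintype_card, hcard] at hz
  have hzo : orderOf (z : K) = p ^ (a * r) - 1 := by rw [orderOf_units, hz]
  refine ⟨fun hMe => ?_, fun H hMH hH => ?_⟩
  · have hz' : Cfsg.Lib.Chev.xg C (D.nroots - 1) (z : K) ∈ M := by
      rw [hMe]; exact Cfsg.Lib.Chev.xg_mem_group C _ _
    have h := Cfsg.Lib.Chev.Ovg.param_fixed C (r := D.nroots - 1) (by omega) ((hM _).1 hz').2
    have h2 := Nat.le_of_dvd (by omega) (Cfsg.Lib.Chev.Ovg.dvd_of_fixed hpar hzo h)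
    have h3 : a * 2 ≤ a * r := Nat.mul_le_mul_left a hr.two_le
    omega
  · have hfix : ∀ (s : ℕ) (t : K) (g : GL D.Idx K), iterateFrobenius K p a t = t →
        (g : Matrix D.Idx D.Idx K) = D.x K s t → g ∈ H := fun s t g ht e => by
      refine hMH ((hM g).2 ?_)
      rw [Cfsg.Lib.Chev.eq_xg C e]
      rw [iterateFrobenius_def] at ht
      exact ⟨Cfsg.Lib.Chev.xg_mem_group C _ _, Cfsg.Lib.Chev.Ovg.entry_fixed C ht⟩
    obtain ⟨m, hm1, hroots, hentries⟩ :=
      Cfsg.Lib.Chev.Ovg.exists_field hD p (iterateFrobenius K p a) H hH inferInstance hfix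
    have hpa : 1 < p ^ a := Nat.one_lt_pow (by omega) hp
    obtain ⟨u, hu⟩ : ∃ u : K, orderOf u = p ^ a - 1 := by
      obtain ⟨d, hd⟩ : p ^ a - 1 ∣ p ^ (a * r) - 1 := by
        rw [pow_mul]
        simpa using Nat.sub_dvd_pow_sub_pow (p ^ a) 1 r
      have h0 : 0 < p ^ (a * r) - 1 := by
        have := Nat.one_lt_pow (n := a * r) (by omega) hp
        omega
      refine ⟨(z : K) ^ d, ?_⟩
      have hd0 : d ≠ 0 := fun h => by rw [h, mul_zero] at hd; omega
      rw [orderOf_pow_of_dvd hd0 (by rw [hzo, hd]; exact dvd_mul_left _ _), hzo, hd,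
        Nat.mul_div_cancel _ (Nat.pos_of_ne_zero hd0)]
    have hua : u ^ p ^ a = u := by
      rw [show p ^ a = p ^ a - 1 + 1 by omega, pow_succ, ← hu, pow_orderOf_eq_one, one_mul]
    have hum : u ^ p ^ m = u := by
      refine Cfsg.Lib.Chev.Ovg.param_fixed C (r := D.nroots - 1) (by omega) fun i j => hentries _ ?_ i j
      exact hfix _ u _ (by rw [iterateFrobenius_def]; exact hua) (Cfsg.Lib.Chev.coe_xg C _ _)
    have ham := Cfsg.Lib.Chev.Ovg.dvd_of_fixed ha hu hum
    obtain ⟨s, hs⟩ : a ∣ Nat.gcd m (a * r) := Nat.dvd_gcd ham (dvd_mul_right a r)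
    have hsr : s ∣ r := Nat.dvd_of_mul_dvd_mul_left ha (hs ▸ Nat.gcd_dvd_right m (a * r))
    rcases (Nat.dvd_prime hr).1 hsr with rfl | rfl
    · left
      refine le_antisymm (fun g hg => (hM g).2 ⟨hH hg, fun i j => ?_⟩) hMH
      have h := Cfsg.Lib.Chev.Ovg.fixed_gcd (hentries g hg i j) (hall _)
      rwa [hs, mul_one] at h
    · right
      refine le_antisymm hH ((Subgroup.closure_le _).2 ?_)
      rintro g ⟨i, t, e⟩
      refine hroots i.1 t g (Cfsg.Lib.Chev.Ovg.fixed_of_dvd (hall t) (hs ▸ Nat.gcd_dvd_left m (a * s))) ?_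
      exact e.trans (by rw [Cfsg.Lie.ChevalleyDatum.x, dif_pos i.2])

end Cfsg.Agent.S2190
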