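import Cfsg.Statements.S2197
import Cfsg.Agent.Lib.Chev.TitsTwoTrans

set_option autoImplicit false
open Cfsg

namespace Cfsg.Agent.S2197

/-- The Tits group (the commutator subgroup of ²F₄(2)) has no faithful 2-transitive action on a finite set with more than two points. -/
theorem result {Ω : Type*} [Fintype Ω] [MulAction Cfsg.Lie.TitsGroup Ω] [FaithfulSMul Cfsg.Lie.TitsGroup Ω] (hΩ : 3 ≤ Fintype.card Ω) :
    ¬ MulAction.IsMultiplyPretransitive Cfsg.Lie.TitsGroup Ω 2 := by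
  haveI : CharP (ZMod 2) Cfsg.Lib.Chev.esymF4.p := ZMod.charP 2
  have hK : Fintype.card (ZMod 2) = 2 ^ (2 * 0 + 1) := ZMod.card 2
  have e : Cfsg.Lie.twistedF4 (ZMod 2) 1 = Cfsg.Lib.Chev.titsG (ZMod 2) :=
    Cfsg.Lib.Chev.twistedF4_eq (m := 0) hK
  revert ‹FaithfulSMul Cfsg.Lie.TitsGroup Ω›
  revert ‹MulAction Cfsg.Lie.TitsGroup Ω›
  unfold Cfsg.Lie.TitsGroup
  rw [e]
  intro _ _
  exact Cfsg.Lib.Chev.tits_no_two_transitive hK hΩ

end Cfsg.Agent.S2197
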