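import Cfsg.Statements.S2205
import Cfsg.Agent.Lib.Perm.PSqOne.Main

set_option autoImplicit false
open Cfsg

open MulAction
open scoped Pointwise

namespace Cfsg.Agent.S2205

open Cfsg.Agent.PSqOne

variable {G Ω : Type*} [Group G] [MulAction G Ω] {p : ℕ}

/-- Restriction of a block system to a subgroup. -/
def restrict (S : BlockSys G Ω p) (H : Subgroup G) : BlockSys H Ω p where
  blk := S.blk
  mem := S.mem
  notMem := S.notMem
  ncard := S.ncard
  eq_of_mem := S.eq_of_mem
  smul_mem g u v w h := S.smul_mem (g : G) u v w h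

/-- An imprimitive point stabiliser gives a block system. -/
theorem exists_blockSys [Fintype Ω] [Finite G] (hp : p.Prime) (hΩ : Fintype.card Ω = p ^ 2 + 1)
    (h2 : IsMultiplyPretransitive G Ω 2) (a : Ω)
    (hprim : ¬ IsPreprimitive (stabilizer G a) (SubMulAction.ofStabilizer G a)) :
    Nonempty (BlockSys G Ω p) := by
  classical
  have h2' : ∀ {u v c d : Ω}, u ≠ v → c ≠ d → ∃ g : G, g • u = c ∧ g • v = d :=
    is_two_pretransitive_iff.mp h2
  haveI : IsPretransitive (stabilizer G a) (SubMulAction.ofStabilizer G a) := ⟨fun x y => by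
    obtain ⟨g, hga, hgx⟩ := h2' (Ne.symm x.2) (Ne.symm y.2)
    exact ⟨⟨g, hga⟩, Subtype.ext hgx⟩⟩
  obtain ⟨B, hB, hnt⟩ : ∃ B : Set (SubMulAction.ofStabilizer G a),
      IsBlock (stabilizer G a) B ∧ ¬ IsTrivialBlock B := by
    by_contra hne
    push Not at hne
    exact hprim { isTrivialBlock_of_isBlock := fun {B} hB => hne B hB }
  rw [IsTrivialBlock, not_or] at hnt
  have hBne : B.Nonempty := (Set.not_subsingleton_iff.mp hnt.1).nonempty
  have hcardT : Nat.card (SubMulAction.ofStabilizer G a) = p ^ 2 := by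
    show Nat.card {v : Ω // v ≠ a} = p ^ 2
    rw [Nat.card_eq_fintype_card, Fintype.card_subtype_compl, Fintype.card_subtype_eq, hΩ,
      Nat.add_sub_cancel]
  have hBc : B.ncard = p := by
    obtain ⟨i, hi2, hi⟩ := (Nat.dvd_prime_pow hp).mp (hcardT ▸ hB.ncard_dvd_card hBne)
    interval_cases i
    · exfalso
      rw [pow_zero, Set.ncard_eq_one] at hi
      obtain ⟨x, rfl⟩ := hi
      exact hnt.1 Set.subsingleton_singleton
    · rw [hi, pow_one]
    · exfalso
      exact hnt.2 (Set.eq_of_subset_of_ncard_le (Set.subset_univ _)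
        (by rw [Set.ncard_univ, hcardT, hi]))
  let B' : Set Ω := Subtype.val '' B
  have hB'a : a ∉ B' := by
    rintro ⟨x, -, hx⟩
    exact x.2 hx
  have hclosed : ∀ k : G, k • a = a → ∀ x ∈ B', k • x ∈ B' → ∀ z, k • z ∈ B' ↔ z ∈ B' := by
    rintro k hk x ⟨x', hx', rfl⟩ ⟨y', hy', hy⟩
    have hne : ¬ Disjoint ((⟨k, hk⟩ : stabilizer G a) • B) B := fun hd =>
      Set.disjoint_left.mp hd ⟨x', hx', Subtype.ext hy.symm⟩ hy'
    have heq := hB.smul_eq_of_nonempty (Set.not_disjoint_iff_nonempty_inter.mp hne)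
    intro z
    constructor
    · rintro ⟨w, hw, he⟩
      rw [← heq] at hw
      obtain ⟨u, hu, rfl⟩ := hw
      exact ⟨u, hu, smul_left_cancel k he⟩
    · rintro ⟨u, hu, rfl⟩
      refine ⟨(⟨k, hk⟩ : stabilizer G a) • u, ?_, rfl⟩
      rw [← heq]
      exact ⟨u, hu, rfl⟩
  obtain ⟨b, hbB⟩ : B'.Nonempty := hBne.image _
  have hba : b ≠ a := fun h => hB'a (h ▸ hbB)
  let blk : Ω → Ω → Set Ω := fun u v => {w | ∃ g : G, g • a = u ∧ g⁻¹ • v ∈ B' ∧ g⁻¹ • w ∈ B'}
  have hex : ∀ u v, u ≠ v → ∃ g : G, g • a = u ∧ g⁻¹ • v ∈ B' := by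
    intro u v huv
    obtain ⟨g, hga, hgb⟩ := h2' hba.symm huv
    exact ⟨g, hga, by rw [← hgb, inv_smul_smul]; exact hbB⟩
  have hiff : ∀ (g : G) (u v w : Ω), g • a = u → g⁻¹ • v ∈ B' →
      (w ∈ blk u v ↔ g⁻¹ • w ∈ B') := by
    intro g u v w hg hv
    refine ⟨?_, fun hw => ⟨g, hg, hv, hw⟩⟩
    rintro ⟨h, hh, hv', hw'⟩
    have hk : (g⁻¹ * h) • a = a := by rw [mul_smul, hh, ← hg, inv_smul_smul]
    have := (hclosed _ hk _ hv' (by rwa [mul_smul, smul_inv_smul]) (h⁻¹ • w)).mpr hw'
    rwa [mul_smul, smul_inv_smul] at this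
  refine ⟨{ blk := blk, mem := ?_, notMem := ?_, ncard := ?_, eq_of_mem := ?_, smul_mem := ?_ }⟩
  · intro u v huv
    obtain ⟨g, hg, hv⟩ := hex u v huv
    exact ⟨g, hg, hv, hv⟩
  · rintro u v huv ⟨g, hg, -, hu⟩
    rw [← hg, inv_smul_smul] at hu
    exact hB'a hu
  · intro u v huv
    obtain ⟨g, hg, hv⟩ := hex u v huv
    have : blk u v = (fun z => g • z) '' B' := by
      ext w
      rw [hiff g u v w hg hv]
      exact ⟨fun h => ⟨_, h, smul_inv_smul g w⟩, by rintro ⟨z, hz, rfl⟩; rwa [inv_smul_smul]⟩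
    rw [this, Set.ncard_image_of_injective _ (MulAction.injective g),
      Set.ncard_image_of_injective _ Subtype.val_injective, hBc]
  · intro u v w huv hw
    obtain ⟨g, hg, hv⟩ := hex u v huv
    have hw' := (hiff g u v w hg hv).mp hw
    ext z
    rw [hiff g u v z hg hv, hiff g u w z hg hw']
  · intro k u v w huv
    obtain ⟨g, hg, hv⟩ := hex u v huv
    have e : ∀ z : Ω, (k * g)⁻¹ • (k • z) = g⁻¹ • z := fun z => by
      rw [← mul_smul]; congr 1; group
    rw [hiff g u v w hg hv, hiff (k * g) (k • u) (k • v) (k • w) (by rw [mul_smul, hg])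
      (by rw [e]; exact hv), e]

/-- The exceptional degree five. -/
theorem card_eq_twenty [Fintype Ω] [Finite G] [FaithfulSMul G Ω] (S : BlockSys G Ω 2)
    (hΩ : Fintype.card Ω = 2 ^ 2 + 1) (h2 : IsMultiplyPretransitive G Ω 2) (a : Ω) :
    Nat.card G = 20 := by
  classical
  haveI : Fact (Nat.Prime 2) := ⟨Nat.prime_two⟩
  obtain ⟨P, P₀, hS⟩ := S.exists_setup hΩ h2 a
  obtain ⟨b, hb⟩ := Fintype.exists_ne_of_one_lt_card (by rw [hΩ]; norm_num) a
  obtain ⟨c, hc, hca, hcout⟩ := S.exists_asymm le_rfl hΩ h2 a b hb.symm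
  set L : Subgroup G := stabilizer G a ⊓ stabilizer G b with hL
  let rest : Set Ω := {v | v ≠ a ∧ v ∉ S.blk a b}
  have hrest : rest.ncard = 2 := by
    have : rest = (insert a (S.blk a b))ᶜ := by ext v; simp [rest]
    rw [this, Set.ncard_compl, Set.ncard_insert_of_notMem (S.notMem a b hb.symm),
      S.ncard a b hb.symm, Nat.card_eq_fintype_card, hΩ]
    norm_num
  have hmaps : ∀ l ∈ L, ∀ v ∈ rest, l • v ∈ rest := by
    intro l hl v hv
    refine ⟨fun h => hv.1 (smul_left_cancel _ (h.trans hl.1.symm)), fun h => hv.2 ?_⟩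
    have := S.smul_mem l a b v hb.symm
    rw [show l • a = a from hl.1, show l • b = b from hl.2] at this
    exact this.mp h
  have hle : Nat.card L ≤ 2 := by
    refine le_trans ?_ hrest.le
    rw [← Nat.card_coe_set_eq]
    refine Nat.card_le_card_of_injective
      (fun l : L => (⟨(l : G) • c, hmaps l l.2 c ⟨hca, hcout⟩⟩ : rest)) fun l l' he => ?_
    have he' : (l : G) • c = (l' : G) • c := congrArg Subtype.val he
    refine Subtype.ext (inv_mul_eq_one.mp ?_)
    set m := (l : G)⁻¹ * l' with hm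
    have hmL : m ∈ L := L.mul_mem (L.inv_mem l.2) l'.2
    have hmc : m • c = c := by rw [hm, mul_smul, ← he', inv_smul_smul]
    refine eq_of_smul_eq_smul (α := Ω) fun v => ?_
    rw [one_smul]
    by_cases hva : v = a
    · rw [hva]; exact hmL.1
    by_cases hvb : v ∈ S.blk a b
    · by_cases h : v = b
      · rw [h]; exact hmL.2
      · obtain ⟨u, w, huw, hset⟩ := Set.ncard_eq_two.mp (S.ncard a b hb.symm)
        have h1 : m • v ∈ S.blk a b := by
          have := S.smul_mem m a b v hb.symm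
          rw [show m • a = a from hmL.1, show m • b = b from hmL.2] at this
          exact this.mpr hvb
        have h2 : m • v ≠ b := fun e => h (smul_left_cancel m (e.trans hmL.2.symm))
        have hbm := S.mem a b hb.symm
        rw [hset] at hvb h1 hbm
        rcases hvb with rfl | rfl <;> rcases h1 with h1 | h1 <;> rcases hbm with hbm | hbm <;>
          simp_all
    · obtain ⟨u, w, huw, hset⟩ := Set.ncard_eq_two.mp hrest
      have h1 : m • v ∈ rest := hmaps m hmL v ⟨hva, hvb⟩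
      have h3 : c ∈ rest := ⟨hca, hcout⟩
      have h4 : v ∈ rest := ⟨hva, hvb⟩
      rw [hset] at h1 h3 h4
      by_cases h : v = c
      · rw [h, hmc]
      · have h2 : m • v ≠ c := fun e => h (smul_left_cancel m (e.trans hmc.symm))
        rcases h1 with h1 | h1 <;> rcases h3 with h3 | h3 <;> rcases h4 with h4 | h4 <;> simp_all
  have hL1 : Nat.card L = 1 := by
    have h1 := hS.coprime b hb
    have h0 : 0 < Nat.card L := Nat.card_pos
    rw [← hL] at h1
    omega
  have hA : Nat.card (stabilizer G a) = 4 := by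
    rw [BlockSys.card_stab hS hb, hS.card, ← hL, hL1]
    norm_num
  haveI : IsPretransitive G Ω := isPretransitive_of_is_two_pretransitive
  rw [← (stabilizer G a).card_mul_index, hA, index_stabilizer_of_transitive,
    Nat.card_eq_fintype_card, hΩ]
  norm_num

/-- A finite group acting faithfully and 2-transitively on a set with p² + 1 points, p a prime, is doubly primitive — a point stabilizer acts primitively on the remaining p² points — unless p = 2 and the group is the Frobenius group of order 20. -/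
theorem result {G Ω : Type*} [Group G] [Finite G] [Fintype Ω] [MulAction G Ω] [FaithfulSMul G Ω] (p : ℕ) (hp : p.Prime) (hΩ : Fintype.card Ω = p ^ 2 + 1) (h2 : MulAction.IsMultiplyPretransitive G Ω 2) (a : Ω) :
    MulAction.IsPreprimitive ↥(MulAction.stabilizer G a) ↥(SubMulAction.ofStabilizer G a) ∨ (p = 2 ∧ Nat.card G = 20) := by
  classical
  haveI : Fact p.Prime := ⟨hp⟩
  by_contra hcon
  rw [not_or] at hcon
  obtain ⟨S⟩ := exists_blockSys hp hΩ h2 a hcon.1
  by_cases hp2 : p = 2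
  · subst hp2
    exact hcon.2 ⟨rfl, card_eq_twenty S hΩ h2 a⟩
  let H : Subgroup G := ((Equiv.Perm.sign (α := Ω)).comp (MulAction.toPermHom G Ω)).ker
  have hHmem : ∀ (w : Ω) (u v : Ω), u ≠ w → v ≠ w → ∃ h : H, h • w = w ∧ h • u = v := by
    intro w u v hu hv
    obtain ⟨P, hPA, hPp, htr, -⟩ := BlockSys.exists_transitive_sylow hΩ h2 w
    obtain ⟨y, hy, hyu⟩ := htr u v hu hv
    obtain ⟨k, hk⟩ := hPp ⟨y, hy⟩
    refine ⟨⟨y, MonoidHom.mem_ker.mpr ?_⟩, hPA hy, hyu⟩
    have h1 : (((Equiv.Perm.sign (α := Ω)).comp (MulAction.toPermHom G Ω)) y) ^ p ^ k = 1 := by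
      rw [← map_pow, show y ^ p ^ k = 1 from congrArg Subtype.val hk, map_one]
    rcases Int.units_eq_one_or (((Equiv.Perm.sign (α := Ω)).comp (MulAction.toPermHom G Ω)) y)
      with h | h
    · exact h
    · rw [h, ((hp.odd_of_ne_two hp2).pow).neg_one_pow] at h1
      exact absurd h1 (by decide)
  haveI : FaithfulSMul H Ω := ⟨fun h => Subtype.ext (eq_of_smul_eq_smul (α := Ω) h)⟩
  have hH2 : MulAction.IsMultiplyPretransitive H Ω 2 := by
    rw [is_two_pretransitive_iff]
    intro u v u' v' huv hu'v'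
    have hcard : 2 < Fintype.card Ω := by
      rw [hΩ]; have := Nat.pow_le_pow_left hp.two_le 2; omega
    obtain ⟨w, hwu, hwu'⟩ : ∃ w, w ≠ u ∧ w ≠ u' := by
      by_contra hne
      push Not at hne
      have hsub : (Finset.univ : Finset Ω) ⊆ {u, u'} := fun w _ => by
        by_cases h : w = u
        · simp [h]
        · simp [hne w h]
      have := (Finset.card_le_card hsub).trans Finset.card_le_two
      rw [Finset.card_univ] at this
      omega
    obtain ⟨h₁, -, hh₁⟩ := hHmem w u u' hwu.symm hwu'.symm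
    have hv₁ : h₁ • v ≠ u' := fun h => huv (smul_left_cancel h₁ (hh₁.trans h.symm))
    obtain ⟨h₂, hh₂u, hh₂v⟩ := hHmem u' (h₁ • v) v' hv₁ hu'v'.symm
    exact ⟨h₂ * h₁, by rw [mul_smul, hh₁, hh₂u], by rw [mul_smul, hh₂v]⟩
  exact (restrict S H).false_of_blockSys hp2 hΩ hH2 fun g => g.2

end Cfsg.Agent.S2205
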