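import Cfsg.Statements.S2212
import Cfsg.Agent.Lib.PGU3Even.Setup
import Cfsg.Agent.Lib.PGU3Even.Model

set_option autoImplicit false
open Cfsg

namespace Cfsg.Agent.S2212

/-- Characterization of the three-dimensional projective unitary groups over finite fields of characteristic two by the centralizer of an involution. Let q = 2^n > 2 and let PGU₃(q) be the quotient of the full unitary group of a non-degenerate Hermitian form in three variables over the field with q² elements by its centre. Let G be a finite group of even order in which all involutions are conjugate, the centralizer of an involution is isomorphic to the centralizer of an involution in PGU₃(q), and a Sylow 2-subgroup is not normal. Then G ≅ PGU₃(q). -/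
theorem result {G : Type*} [Group G] [Finite G] {F : Type*} [Field F] [Fintype F] [CharP F 2] (q : ℕ) (hq : 2 < q) (hF : Fintype.card F = q ^ 2)
    (heven : Even (Nat.card G)) (hconj : ∀ s t : G, orderOf s = 2 → orderOf t = 2 → IsConj s t)
    (hC : ∀ (x : G) (y : (↥(Cfsg.GU 3 F q) ⧸ Subgroup.center ↥(Cfsg.GU 3 F q))), orderOf x = 2 → orderOf y = 2 →
      Nonempty (↥(Subgroup.centralizer ({x} : Set G)) ≃* ↥(Subgroup.centralizer ({y} : Set (↥(Cfsg.GU 3 F q) ⧸ Subgroup.center ↥(Cfsg.GU 3 F q))))))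
    (hS : ∀ P : Sylow 2 G, ¬ (P : Subgroup G).Normal) :
    Nonempty (G ≃* (↥(Cfsg.GU 3 F q) ⧸ Subgroup.center ↥(Cfsg.GU 3 F q))) := by
  haveI : Fact (Nat.Prime 2) := ⟨Nat.prime_two⟩
  obtain ⟨m, -, hm⟩ := FiniteField.card F 2
  obtain ⟨n, -, rfl⟩ : ∃ n, n ≤ (m : ℕ) ∧ q = 2 ^ n :=
    (Nat.dvd_prime_pow Nat.prime_two).1 (by rw [← hm, hF]; exact dvd_pow_self q two_ne_zero)
  have hn : 2 ≤ n := by
    by_contra hlt
    have : 2 ^ n ≤ 2 ^ 1 := Nat.pow_le_pow_right (by norm_num) (by omega)
    omega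
  obtain ⟨y, hy, hshape⟩ := Cfsg.Lib.PGU3Even.exists_involution (F := F) (n := n) (by omega) hF
  have hCs : ∀ x : G, orderOf x = 2 → Cfsg.Lib.PGU3Even.Shape (Subgroup.centralizer ({x} : Set G)) n :=
    fun x hx => (hC x y hx hy).elim fun e => hshape.congr e
  obtain ⟨d⟩ := Cfsg.Lib.PGU3Even.exists_cdata hn heven hconj hCs hS
  obtain ⟨t, hfaith, hyp, hQ, hZ, W, hWc, hWle, hWab, hWz, hdec⟩ := d.exists_hyp
  exact Cfsg.Lib.PGU3Even.iso_of_hyp (by omega) hyp hQ hZ W hWc hWle hWab hWz hdec hF

end Cfsg.Agent.S2212
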