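import Cfsg.Statements.S2214
import Cfsg.Agent.Lib.Chev.FullAll
import Cfsg.Agent.Lib.Chev.DescentNormal

set_option autoImplicit false
open Cfsg

namespace Cfsg.Agent.S2214

open Cfsg.Lib.Chev Cfsg.Lie


/-- Let k be an algebraically closed field of prime characteristic p, G the adjoint Chevalley group of type G₂, B₂, D₄, F₄, E₆, E₇ or E₈ over k (the matrix group generated by the root elements x_s(t), t ∈ k, acting on the Lie algebra), q = p^a with a ≥ 1, and K a subgroup of G containing every root element x_s(t) with t^q = t and consisting of matrices all of whose entries c satisfy c^q = c. Then the centralizer of K in G is trivial, and the normalizer of K in G is exactly the set of elements of G all of whose entries c satisfy c^q = c. -/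
theorem result {k : Type*} [Field k] [IsAlgClosed k] (p : ℕ) [Fact p.Prime] [CharP k p] (D : Cfsg.Lie.ChevalleyDatum) (hD : D ∈ [Cfsg.Lie.chevG2, Cfsg.Lie.chevB2, Cfsg.Lie.chevD4, Cfsg.Lie.chevF4, Cfsg.Lie.chevE6, Cfsg.Lie.chevE7, Cfsg.Lie.chevE8]) (a : ℕ) (ha : 1 ≤ a) (K : Subgroup (GL D.Idx k)) (hKG : K ≤ D.group k)
    (hLK : Subgroup.closure {g : GL D.Idx k | ∃ (s : ℕ) (t : k), t ^ (p ^ a) = t ∧ (g : Matrix D.Idx D.Idx k) = D.x k s t} ≤ K)
    (hKfix : ∀ g ∈ K, ∀ i j : D.Idx, ((g : Matrix D.Idx D.Idx k) i j) ^ (p ^ a) = (g : Matrix D.Idx D.Idx k) i j) :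
    D.group k ⊓ Subgroup.centralizer (K : Set (GL D.Idx k)) = ⊥ ∧
    ∀ g : GL D.Idx k, g ∈ D.group k → (g ∈ Subgroup.normalizer (K : Set (GL D.Idx k)) ↔ ∀ i j : D.Idx, ((g : Matrix D.Idx D.Idx k) i j) ^ (p ^ a) = (g : Matrix D.Idx D.Idx k) i j) := by
  classical
  obtain ⟨T, hK⟩ := exists_fullCert hD
  have C : Cert D T := hK.comm.cert
  let σ : k →+* k := iterateFrobenius k p a
  have hfix : ∀ g : GL D.Idx k, (∀ i j : D.Idx, ((g : Matrix D.Idx D.Idx k) i j) ^ (p ^ a) =
      (g : Matrix D.Idx D.Idx k) i j) ↔ Matrix.GeneralLinearGroup.map σ g = g := by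
    intro g
    constructor
    · exact fun h => Units.ext (Matrix.ext fun i j => h i j)
    · exact fun h i j => congrFun (congrFun (congrArg (fun y : GL D.Idx k => (y : Matrix D.Idx D.Idx k)) h) i) j
  have hL : fixedRoots C σ ≤ K := by
    refine le_trans ?_ hLK
    refine (Subgroup.closure_le _).2 ?_
    rintro g ⟨r, t, ht, rfl⟩
    exact Subgroup.subset_closure ⟨r, t, ht, coe_xg C r t⟩
  have hcent : ∀ g ∈ D.group k, (∀ x ∈ K, x * g = g * x) → g = 1 := fun g hg hc =>
    eq_one_of_comm C hK hg fun r _ => (hc _ (hL (xg_mem_fixedRoots C σ (map_one σ)))).symm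
  refine ⟨(Subgroup.eq_bot_iff_forall _).2 fun g hg =>
    hcent g hg.1 (Subgroup.mem_centralizer_iff.1 hg.2), fun g hg => ⟨fun hn => ?_, fun hf => ?_⟩⟩
  · rw [hfix]
    have hσg := map_group_le C σ hg
    have h1 : g⁻¹ * Matrix.GeneralLinearGroup.map σ g = 1 := by
      refine hcent _ (mul_mem (inv_mem hg) hσg) fun x hx => ?_
      have e := (hfix _).1 (hKfix _ ((Subgroup.mem_normalizer_iff.1 hn x).1 hx))
      rw [map_mul, map_mul, map_inv, (hfix x).1 (hKfix x hx)] at e
      calc x * (g⁻¹ * Matrix.GeneralLinearGroup.map σ g)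
          = g⁻¹ * (g * x * g⁻¹) * Matrix.GeneralLinearGroup.map σ g := by group
        _ = _ := by rw [← e]; group
    exact (inv_mul_eq_one.1 h1).symm
  · have key : ∀ y ∈ D.group k, Matrix.GeneralLinearGroup.map σ y = y → ∀ x ∈ K, y * x * y⁻¹ ∈ K := by
      intro y hy hyf x hx
      have := mul_mem (hL (commutator_fixed_mem C hK σ hy hyf (hKG hx) ((hfix x).1 (hKfix x hx)))) hx
      simpa [mul_assoc] using this
    have hgf := (hfix g).1 hf
    refine Subgroup.mem_normalizer_iff.2 fun x => ⟨key g hg hgf x, fun hx => ?_⟩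
    have := key g⁻¹ (inv_mem hg) (by rw [map_inv, hgf]) _ hx
    simpa [mul_assoc] using this

end Cfsg.Agent.S2214
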