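import Cfsg.Statements.S2219
import Cfsg.Agent.Lib.AbSection.SmallPrime
import Cfsg.Agent.Lib.Small.Gap.SimpleData
import Cfsg.Agent.S0997

set_option autoImplicit false
open Cfsg

namespace Cfsg.Agent.S2219

open Subgroup Cfsg.Lib.AbSection

universe u

variable {G : Type u} [Group G] [Fintype G]

/-- A subgroup of index three of the Sylow 3-subgroup normalized by its normalizer. -/
theorem exists_invariant (P : Sylow 3 G) (hP : Nat.card (P : Subgroup G) = 9)
    [IsMulCommutative (P : Subgroup G)]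
    (h3 : 3 ≤ Nat.card {C : ConjClasses G // ∃ g ∈ C.carrier, g ≠ 1 ∧ orderOf g ∣ 9}) :
    ∃ K : Subgroup G, K ≤ (P : Subgroup G) ∧ K.relIndex (P : Subgroup G) = 3 ∧
      ∀ n ∈ normalizer ((P : Subgroup G) : Set G), ∀ x ∈ K, n * x * n⁻¹ ∈ K := by
  classical
  haveI : Fact (Nat.Prime 3) := ⟨by norm_num⟩
  suffices h : ∃ w : (P : Subgroup G), orderOf w = 3 ∧
      ∀ n ∈ normalizer ((P : Subgroup G) : Set G), n * (w : G) * n⁻¹ ∈ zpowers (w : G) by
    obtain ⟨w, hw, hn⟩ := h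
    have hle : zpowers (w : G) ≤ (P : Subgroup G) := zpowers_le.2 w.2
    refine ⟨_, hle, ?_, fun n hnN x hx => ?_⟩
    · have h1 := relIndex_mul_relIndex ⊥ (zpowers (w : G)) (P : Subgroup G) bot_le hle
      rw [relIndex_bot_left, relIndex_bot_left, Nat.card_zpowers, orderOf_coe, hw, hP] at h1
      omega
    · obtain ⟨k, rfl⟩ := hx
      show n * (w : G) ^ k * n⁻¹ ∈ _
      rw [← conj_zpow]
      exact zpow_mem (hn n hnN) k
  have h9 : ∀ x : (P : Subgroup G), orderOf x ∣ 9 := fun x => hP ▸ _root_.orderOf_dvd_natCard x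
  by_cases hexp : ∀ x : (P : Subgroup G), x ^ 3 = 1
  swap
  · push Not at hexp
    obtain ⟨g, hg⟩ := hexp
    have hg9 : orderOf g = 9 := by
      rcases (Nat.dvd_prime_pow Nat.prime_three (m := 2)).1 (h9 g) with ⟨i, hi, hi'⟩
      interval_cases i
      · exact absurd (by rw [orderOf_eq_one_iff.1 hi', one_pow]) hg
      · exact absurd (orderOf_dvd_iff_pow_eq_one.1 hi'.dvd) hg
      · exact hi'
    refine ⟨g ^ 3, by rw [orderOf_pow, hg9]; rfl, fun n hn => ?_⟩
    have htop : zpowers g = ⊤ := eq_top_of_card_eq _ (by rw [Nat.card_zpowers, hg9, hP])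
    obtain ⟨i, hi⟩ : (⟨n * g * n⁻¹, (mem_normalizer_iff.1 hn g).1 g.2⟩ : (P : Subgroup G)) ∈
        zpowers g := htop ▸ mem_top _
    refine ⟨i, ?_⟩
    have h1 : (g : G) ^ i = n * g * n⁻¹ := by simpa using congrArg Subtype.val hi
    show ((g ^ 3 : (P : Subgroup G)) : G) ^ i = _
    rw [SubmonoidClass.coe_pow, ← conj_pow, ← h1, ← zpow_natCast, ← zpow_natCast, ← zpow_mul,
      ← zpow_mul, mul_comm]
  set s := (Finset.univ : Finset (P : Subgroup G)).erase 1 with hs
  set f : ↥(P : Subgroup G) → ConjClasses G := fun x => ConjClasses.mk (x : G) with hf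
  have hscard : s.card = 8 := by
    rw [hs, Finset.card_erase_of_mem (Finset.mem_univ _), Finset.card_univ, ← Nat.card_eq_fintype_card, hP]
  have himg : 3 ≤ (s.image f).card := by
    refine h3.trans ?_
    rw [Nat.card_eq_fintype_card, Fintype.card_subtype]
    refine Finset.card_le_card fun C hC => ?_
    obtain ⟨g, hgC, hg1, hg9⟩ := (Finset.mem_filter.1 hC).2
    have hp : IsPGroup 3 (zpowers g) := by
      obtain ⟨i, -, hi⟩ := (Nat.dvd_prime_pow Nat.prime_three (m := 2)).1 (by simpa using hg9)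
      exact IsPGroup.of_card (n := i) (by rw [Nat.card_zpowers, hi])
    obtain ⟨S, hS⟩ := hp.exists_le_sylow
    obtain ⟨c, rfl⟩ := MulAction.exists_smul_eq G P S
    obtain ⟨x, hx, hxg⟩ := hS (mem_zpowers g)
    refine Finset.mem_image.2 ⟨⟨x, hx⟩, Finset.mem_erase.2 ⟨fun h => hg1 ?_, Finset.mem_univ _⟩, ?_⟩
    · rw [← hxg, show x = 1 from congrArg Subtype.val h]; exact map_one _
    · rw [← ConjClasses.mem_carrier_iff_mk_eq.1 hgC, ← hxg]
      exact ConjClasses.mk_eq_mk_iff_isConj.2 (isConj_iff.2 ⟨c, rfl⟩)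
  obtain ⟨C, hC, hC2⟩ : ∃ C ∈ s.image f, (s.filter fun x => f x = C).card ≤ 2 := by
    by_contra! hcon
    have := Finset.sum_le_sum (f := fun _ => 3) fun C hC => hcon C hC
    rw [← Finset.card_eq_sum_card_image f s, Finset.sum_const, smul_eq_mul, hscard] at this
    omega
  set O := s.filter fun x => f x = C with hO
  have hOn : ∀ n (hn : n ∈ normalizer ((P : Subgroup G) : Set G)), ∀ x ∈ O,
      (⟨n * x * n⁻¹, (mem_normalizer_iff.1 hn (x : G)).1 x.2⟩ : (P : Subgroup G)) ∈ O := by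
    intro n hn x hx
    obtain ⟨hxs, hxC⟩ := Finset.mem_filter.1 hx
    refine Finset.mem_filter.2 ⟨Finset.mem_erase.2 ⟨fun h => Finset.ne_of_mem_erase hxs ?_,
      Finset.mem_univ _⟩, ?_⟩
    · exact Subtype.ext (conj_eq_one_iff.1 (congrArg Subtype.val h))
    · rw [← hxC]
      exact (ConjClasses.mk_eq_mk_iff_isConj.2 (isConj_iff.2 ⟨n, rfl⟩)).symm
  obtain ⟨k, hk⟩ : O.Nonempty := by
    obtain ⟨x, hx, hxC⟩ := Finset.mem_image.1 hC
    exact ⟨x, Finset.mem_filter.2 ⟨hx, hxC⟩⟩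
  have hk1 : k ≠ 1 := Finset.ne_of_mem_erase (Finset.mem_filter.1 hk).1
  have h3' : ∀ x : (P : Subgroup G), x ≠ 1 → orderOf x = 3 := fun x hx =>
    orderOf_eq_prime (hexp x) hx
  by_cases hone : ∀ x ∈ O, x ∈ zpowers k
  · refine ⟨k, h3' k hk1, fun n hn => ?_⟩
    obtain ⟨i, hi⟩ := hone _ (hOn n hn k hk)
    exact ⟨i, by simpa using congrArg Subtype.val hi⟩
  push Not at hone
  obtain ⟨k', hk', hkk⟩ := hone
  have hne : k ≠ k' := fun h => hkk (h ▸ mem_zpowers k)
  have hOeq : O = {k, k'} := (Finset.eq_of_subset_of_card_le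
    (Finset.insert_subset hk (Finset.singleton_subset_iff.2 hk'))
    (by rw [Finset.card_pair hne]; exact hC2)).symm
  refine ⟨k * k', h3' _ fun h => hkk ?_, fun n hn => ?_⟩
  · rw [eq_inv_of_mul_eq_one_right h]; exact inv_mem (mem_zpowers k)
  have e1 := hOn n hn k hk
  have e2 := hOn n hn k' hk'
  rw [hOeq, Finset.mem_insert, Finset.mem_singleton] at e1 e2
  rw [Subgroup.coe_mul, show n * ((k : G) * k') * n⁻¹ = n * k * n⁻¹ * (n * k' * n⁻¹) by group]
  have hinj : n * (k : G) * n⁻¹ ≠ n * k' * n⁻¹ := fun h =>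
    hne (Subtype.ext (mul_left_cancel (mul_right_cancel h)))
  have hcomm : (k' : G) * k = k * k' := congrArg Subtype.val (mul_comm' k' k)
  rcases e1 with e1 | e1 <;> rcases e2 with e2 | e2 <;>
    (have a1 := congrArg Subtype.val e1; have a2 := congrArg Subtype.val e2
     simp only at a1 a2)
  · exact absurd (a1.trans a2.symm) hinj
  · rw [a1, a2]; exact mem_zpowers _
  · rw [a1, a2, hcomm]; exact mem_zpowers _
  · exact absurd (a1.trans a2.symm) hinj

/-- The odd parts agree. -/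
theorem odd_part {x y u w : ℕ} (hu : Odd u) (hw : Odd w) (h : 2 ^ x * u = 2 ^ y * w) : u = w := by
  have h1 : x = y := by
    by_contra hne
    rcases Nat.lt_or_gt_of_ne hne with hlt | hlt
    · obtain ⟨d, rfl⟩ := Nat.exists_eq_add_of_lt hlt
      rw [add_assoc, pow_add, mul_assoc] at h
      have h2 := Nat.eq_of_mul_eq_mul_left (Nat.two_pow_pos x) h
      exact (Nat.not_even_iff_odd.2 hu) (h2 ▸ (Nat.even_pow.2 ⟨even_two, by omega⟩).mul_right w)
    · obtain ⟨d, rfl⟩ := Nat.exists_eq_add_of_lt hlt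
      rw [add_assoc, pow_add, mul_assoc] at h
      have h2 := Nat.eq_of_mul_eq_mul_left (Nat.two_pow_pos y) h
      exact (Nat.not_even_iff_odd.2 hw) (h2.symm ▸ (Nat.even_pow.2 ⟨even_two, by omega⟩).mul_right u)
  subst h1
  exact Nat.eq_of_mul_eq_mul_left (Nat.two_pow_pos x) h

theorem main [IsSimpleGroup G] (hG : ¬ IsMulCommutative G)
    (q a b : ℕ) (hq : q.Prime) (hq2 : q ≠ 2) (hq3 : q ≠ 3) (hcard : Nat.card G = 9 * 2 ^ a * q ^ b)
    (h3 : 3 ≤ Nat.card {C : ConjClasses G // ∃ g ∈ C.carrier, g ≠ 1 ∧ orderOf g ∣ 9}) :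
    (∃ (F : Type) (_ : Field F) (_ : Fintype F), Fintype.card F = 8 ∧
        Nonempty (G ≃* Matrix.ProjectiveSpecialLinearGroup (Fin 2) F)) ∨
      Nonempty (G ≃* Matrix.ProjectiveSpecialLinearGroup (Fin 2) (ZMod 17)) := by
  classical
  haveI : Fact (Nat.Prime 3) := ⟨by norm_num⟩
  have hnc : ¬ ∀ x y : G, x * y = y * x := fun h => hG ⟨⟨h⟩⟩
  have hcyc : ¬ IsCyclic G := fun h => hnc fun x y => by
    letI := IsCyclic.commGroup (α := G); exact mul_comm x y
  have hk3 : ¬ 3 ∣ 2 ^ a * q ^ b := fun h => by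
    rcases Nat.prime_three.dvd_mul.1 h with h1 | h1
    · exact absurd ((Nat.prime_dvd_prime_iff_eq Nat.prime_three Nat.prime_two).1
        (Nat.prime_three.dvd_of_dvd_pow h1)) (by norm_num)
    · exact hq3 ((Nat.prime_dvd_prime_iff_eq Nat.prime_three hq).1 (Nat.prime_three.dvd_of_dvd_pow h1)).symm
  obtain ⟨P⟩ : Nonempty (Sylow 3 G) := inferInstance
  have hP : Nat.card (P : Subgroup G) = 9 :=
    Cfsg.Lib.Small.card_sylow 2 (2 ^ a * q ^ b) (by rw [hcard]; ring) hk3 P
  haveI : IsMulCommutative (P : Subgroup G) :=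
    ⟨⟨IsPGroup.commutative_of_card_eq_prime_sq (p := 3) (by rw [hP]; norm_num)⟩⟩
  obtain ⟨K, hKP, hidx, hinv⟩ := exists_invariant P hP h3
  obtain ⟨C, -⟩ := exists_cfg3 P K hKP hidx hinv
  obtain rfl : b = 1 := C.exponent_one hnc hq hq2 hq3 hcard
  rw [pow_one] at hcard
  by_cases h5 : q = 5
  · subst h5; exact (five_false C hnc hcard).elim
  by_cases h7 : q = 7
  · subst h7
    have ha := seven_le C hnc hcard
    have hlt : Nat.card G < 6000 := by rw [hcard]; interval_cases a <;> norm_num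
    have hmem := Cfsg.Lib.Small.Gap.mem_orders hG hlt
    have h504 : Nat.card G = 504 := by
      rw [hcard] at hmem ⊢
      interval_cases a <;> simp_all [Cfsg.Lib.Small.Gap.orders]
    haveI : Fact (Nat.Prime 2) := ⟨Nat.prime_two⟩
    haveI : Fintype (GaloisField 2 3) := Fintype.ofFinite _
    have h8 : Fintype.card (GaloisField 2 3) = 8 := by
      rw [← Nat.card_eq_fintype_card, GaloisField.card 2 3 (by norm_num)]; norm_num
    exact Or.inl ⟨GaloisField 2 3, inferInstance, inferInstance, h8, Cfsg.Agent.S1011.result h504 h8⟩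
  have hq11 : 11 ≤ q := by
    have := hq.two_le
    by_contra hlt
    interval_cases q <;> first | omega | exact absurd hq (by norm_num)
  rcases Cfsg.Agent.S0997.result hcyc q 2 a 9 hq Nat.prime_two hq2 (by rw [hcard]; ring) (by omega)
    with ⟨m, F, _, _, hF, hqm, ⟨e⟩⟩ | ⟨m, F, _, _, hF, hqm, -, ⟨e⟩⟩
  · have hc := Cfsg.Lib.Linear.Two.card_PSL_two (F := F)
    have hodd : Odd q := hq.odd_of_ne_two hq2
    rw [← Nat.card_congr e.toEquiv, hF, hcard] at hc
    have hg : Nat.gcd 2 (q - 1) = 2 := Nat.gcd_eq_left (by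
      obtain ⟨t, ht⟩ := hodd
      exact ⟨t, by omega⟩)
    rw [hg] at hc
    have hc' : 2 * (9 * 2 ^ a) = q ^ 2 - 1 := by
      refine Nat.eq_of_mul_eq_mul_left hq.pos ?_
      rw [← hc]; ring
    have hm2 : 2 ≤ m := by
      by_contra hm
      interval_cases m <;> rcases hqm with h | h <;> omega
    obtain ⟨l, rfl⟩ : ∃ l, m = l + 2 := ⟨m - 2, by omega⟩
    have hd : (q - 1) * (q + 1) = 2 * (9 * 2 ^ a) := by
      rw [hc', mul_comm, ← Nat.sq_sub_sq, one_pow]
    have hodd1 : ∀ t : ℕ, Odd (2 * 2 ^ t + 1) := fun t => ⟨2 ^ t, rfl⟩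
    have hq17 : q = 17 := by
      rcases hqm with h | h
      · have h9 : 9 = 2 * 2 ^ l + 1 := odd_part (x := a + 1) (y := l + 2 + 1) (by decide) (hodd1 l) (by
          rw [h, Nat.add_sub_cancel] at hd
          rw [pow_succ, pow_succ 2 (l + 2)]
          calc 2 ^ a * 2 * 9 = 2 * (9 * 2 ^ a) := by ring
            _ = 2 ^ (l + 2) * (2 ^ (l + 2) + 1 + 1) := hd.symm
            _ = _ := by ring)
        have : 2 ^ (l + 2) = 4 * 2 ^ l := by ring
        omega
      · exfalso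
        have h4 : 2 ^ (l + 2) = 4 * 2 ^ l := by ring
        have hpos := Nat.two_pow_pos l
        have hodd2 : Odd (2 * 2 ^ l - 1) := ⟨2 ^ l - 1, by omega⟩
        have h9 : 9 = 2 * 2 ^ l - 1 := odd_part (x := a + 1) (y := l + 2 + 1) (by decide) hodd2 (by
          rw [h, Nat.sub_add_cancel (Nat.one_le_two_pow), h4,
            show 4 * 2 ^ l - 1 - 1 = 2 * (2 * 2 ^ l - 1) by omega] at hd
          rw [pow_succ, pow_succ 2 (l + 2), h4]
          calc 2 ^ a * 2 * 9 = 2 * (9 * 2 ^ a) := by ring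
            _ = 2 * (2 * 2 ^ l - 1) * (4 * 2 ^ l) := hd.symm
            _ = _ := by ring)
        rcases Nat.lt_or_ge l 3 with hl | hl
        · interval_cases l <;> omega
        · have : 2 ^ 3 ≤ 2 ^ l := Nat.pow_le_pow_right (by norm_num) hl
          omega
    subst hq17
    haveI : Fact (Nat.Prime 17) := ⟨by norm_num⟩
    have ha : 2 * (9 * 2 ^ a) = 2 * (9 * 2 ^ 4) := by rw [hc']; norm_num
    have h2448 : Nat.card G = 2448 := by
      have : 2 ^ a = 2 ^ 4 := by omega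
      rw [hcard, this]; norm_num
    exact Or.inr (Cfsg.Agent.S1020.result h2448 (ZMod.card 17))
  · exfalso
    have hc := Cfsg.Lib.Linear.Two.card_PSL_two (F := F)
    rw [← Nat.card_congr e.toEquiv, hF, hcard] at hc
    have hm2 : 3 ≤ m := by
      by_contra hm
      interval_cases m <;> omega
    have hg : Nat.gcd 2 (2 ^ m - 1) = 1 := by
      obtain ⟨l, rfl⟩ : ∃ l, m = l + 1 := ⟨m - 1, by omega⟩
      have := Nat.two_pow_pos l
      rw [pow_succ]
      refine (Nat.Prime.coprime_iff_not_dvd Nat.prime_two).2 ?_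
      omega
    rw [hg, one_mul] at hc
    have hsq : (2 ^ m) ^ 2 - 1 = (2 ^ m + 1) * (2 ^ m - 1) := by
      rw [← Nat.sq_sub_sq, one_pow]
    rw [hsq, ← hqm] at hc
    have hc' : 9 * 2 ^ a = 2 ^ m * (2 ^ m - 1) := by
      refine Nat.eq_of_mul_eq_mul_right hq.pos ?_
      rw [hc]; ring
    have hpos : 2 ^ 3 ≤ 2 ^ m := Nat.pow_le_pow_right (by norm_num) hm2
    obtain ⟨l, rfl⟩ : ∃ l, m = l + 1 := ⟨m - 1, by omega⟩
    have h2l := Nat.two_pow_pos l
    have h4 : 2 ^ (l + 1) = 2 * 2 ^ l := by ring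
    have h9 : 9 = 2 ^ (l + 1) - 1 := odd_part (x := a) (y := l + 1) (by decide)
      ⟨2 ^ l - 1, by omega⟩ (by rw [mul_comm, hc'])
    rcases Nat.lt_or_ge l 3 with hl | hl
    · interval_cases l <;> omega
    · have : 2 ^ 3 ≤ 2 ^ l := Nat.pow_le_pow_right (by norm_num) hl
      omega

/-- Let G be a non-abelian finite simple group of order 9·2ᵃ·qᵇ for a prime q other than 2 and 3, having at least three conjugacy classes of nonidentity 3-elements (elements of order 3 or 9). Then G is isomorphic to PSL(2,8) or to PSL(2,17). -/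
theorem result {G : Type*} [Group G] [Finite G] [IsSimpleGroup G] (hG : ¬ IsMulCommutative G)
    (q a b : ℕ) (hq : q.Prime) (hq2 : q ≠ 2) (hq3 : q ≠ 3) (hcard : Nat.card G = 9 * 2 ^ a * q ^ b)
    (h3 : 3 ≤ Nat.card {C : ConjClasses G // ∃ g ∈ C.carrier, g ≠ 1 ∧ orderOf g ∣ 9}) :
    (∃ (F : Type) (_ : Field F) (_ : Fintype F), Fintype.card F = 8 ∧
        Nonempty (G ≃* Matrix.ProjectiveSpecialLinearGroup (Fin 2) F)) ∨
      Nonempty (G ≃* Matrix.ProjectiveSpecialLinearGroup (Fin 2) (ZMod 17)) := by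
  haveI := Fintype.ofFinite G
  exact main hG q a b hq hq2 hq3 hcard h3

end Cfsg.Agent.S2219
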