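import Cfsg.Statements.S2221
-- import your own Cfsg.Agent.* helpers here

set_option autoImplicit false
open Cfsg

namespace Cfsg.Agent.S2221

open Equiv
open scoped commutatorElement

theorem five : ∀ g : Perm (Fin 5), Perm.sign g = 1 → g ^ 4 = 1 → g ^ 2 = 1 := by decide +kernel

theorem four : ∀ g : Perm (Fin 4), Perm.sign g = 1 → g ^ 4 = 1 → g ^ 2 = 1 := by decide +kernel

/-- A subgroup of exponent two generated by commuting involutions. -/
theorem isPGroup_closure {G : Type*} [Group G] {k : Set G} (hc : ∀ x ∈ k, ∀ y ∈ k, x * y = y * x)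
    (h2 : ∀ x ∈ k, x * x = 1) : IsPGroup 2 (Subgroup.closure k) := by
  haveI := Subgroup.isMulCommutative_closure hc
  have key : ∀ g ∈ Subgroup.closure k, g * g = 1 := by
    intro g hg
    induction hg using Subgroup.closure_induction with
    | mem x hx => exact h2 x hx
    | one => exact one_mul 1
    | mul a b ha hb iha ihb =>
      have hab : a * b = b * a := congrArg Subtype.val (mul_comm' (⟨a, ha⟩ : Subgroup.closure k) ⟨b, hb⟩)
      calc a * b * (a * b) = a * b * (b * a) := by rw [← hab]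
        _ = a * (b * b) * a := by group
        _ = 1 := by rw [ihb, mul_one, iha]
    | inv a _ iha => rw [← mul_inv_rev, iha, inv_one]
  exact fun g => ⟨1, Subtype.ext (by rw [pow_one, pow_two]; exact key g g.2)⟩

/-- A nontrivial subgroup normalized by a `p`-group containing it meets its centre. -/
theorem exists_central {G : Type*} [Group G] [Finite G] {p : ℕ} [Fact p.Prime] {Q A : Subgroup G} (hQ : IsPGroup p Q)
    (hAQ : A ≤ Q) (hn : ∀ q ∈ Q, ∀ a ∈ A, q * a * q⁻¹ ∈ A) (hA : A ≠ ⊥) :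
    ∃ c ∈ A, c ≠ 1 ∧ ∀ q ∈ Q, q * c = c * q := by
  letI : MulAction Q A :=
    { smul := fun q a => ⟨q * a * (q : G)⁻¹, hn q q.2 a a.2⟩
      one_smul := fun a => Subtype.ext (show ((1 : Q) : G) * (a : G) * ((1 : Q) : G)⁻¹ = a by simp)
      mul_smul := fun q q' a => Subtype.ext (show ((q * q' : Q) : G) * (a : G) * ((q * q' : Q) : G)⁻¹ =
        (q : G) * ((q' : G) * (a : G) * (q' : G)⁻¹) * (q : G)⁻¹ by simp [mul_assoc]) }
  haveI : Nontrivial A := (Subgroup.nontrivial_iff_ne_bot A).2 hA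
  have hd : p ∣ Nat.card A := by
    obtain ⟨j, hj⟩ := (IsPGroup.iff_card (p := p)).1 (hQ.to_le hAQ)
    have h1 : 1 < Nat.card A := Finite.one_lt_card
    rcases j with _ | j
    · rw [hj, pow_zero] at h1; omega
    · exact hj ▸ dvd_pow_self p j.succ_ne_zero
  obtain ⟨c, hc, hc1⟩ := hQ.exists_fixed_point_of_prime_dvd_card_of_fixed_point A hd (a := (1 : A))
    (fun q => Subtype.ext (show (q : G) * ((1 : A) : G) * (q : G)⁻¹ = 1 by simp))
  refine ⟨c, c.2, fun h => hc1 (Subtype.ext h.symm), fun q hq => ?_⟩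
  exact mul_inv_eq_iff_eq_mul.1 (congrArg Subtype.val (hc ⟨q, hq⟩))

theorem sign_of_sq {X : Type*} [Fintype X] [DecidableEq X] {w : Perm X} (h2 : w * w = 1) (h4 : 4 ∣ w.support.card) :
    Perm.sign w = 1 := by
  haveI : Fact (Nat.Prime 2) := ⟨Nat.prime_two⟩
  have hall : ∀ c ∈ w.cycleType, c = 2 := Perm.pow_prime_eq_one_iff.1 (by rw [pow_two, h2])
  obtain ⟨m, hm⟩ : ∃ m, m = w.cycleType.card := ⟨_, rfl⟩
  have hrep : w.cycleType = Multiset.replicate m 2 := Multiset.eq_replicate.2 ⟨hm.symm, hall⟩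
  have hsum : w.cycleType.sum = 2 * m := by rw [hrep, Multiset.sum_replicate, smul_eq_mul, mul_comm]
  rw [← Perm.sum_cycleType, hsum] at h4
  obtain ⟨j, rfl⟩ : 2 ∣ m := by omega
  rw [Perm.sign_of_cycleType, hsum, ← hm, show 2 * (2 * j) + 2 * j = 2 * (3 * j) by ring, pow_mul]
  simp

section

variable {n : ℕ}

/-- The orbit of a point. -/
def orb (W : Subgroup (Perm (Fin n))) (a : Fin n) : Set (Fin n) := {x | ∃ w ∈ W, w a = x}

/-- A Sylow `2`-subgroup of the symmetric group. -/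
structure Max (W : Subgroup (Perm (Fin n))) : Prop where
  isPGroup : IsPGroup 2 W
  maximal : ∀ R : Subgroup (Perm (Fin n)), IsPGroup 2 R → W ≤ R → R = W

variable {W : Subgroup (Perm (Fin n))} {a b : Fin n}

theorem self_mem_orb (a : Fin n) : a ∈ orb W a := ⟨1, one_mem _, rfl⟩

theorem orb_iff {w : Perm (Fin n)} (hw : w ∈ W) (x : Fin n) : w x ∈ orb W a ↔ x ∈ orb W a := by
  constructor
  · rintro ⟨v, hv, h⟩; exact ⟨w⁻¹ * v, mul_mem (inv_mem hw) hv, by rw [Perm.mul_apply, h]; exact w.symm_apply_apply x⟩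
  · rintro ⟨v, hv, h⟩; exact ⟨w * v, mul_mem hw hv, by rw [Perm.mul_apply, h]⟩

theorem orb_eq {x : Fin n} (h : x ∈ orb W a) : orb W x = orb W a := by
  obtain ⟨v, hv, rfl⟩ := h
  ext y
  constructor
  · rintro ⟨w, hw, rfl⟩; exact ⟨w * v, mul_mem hw hv, rfl⟩
  · rintro ⟨w, hw, rfl⟩; exact ⟨w * v⁻¹, mul_mem hw (inv_mem hv), by rw [Perm.mul_apply, Perm.coe_inv, Equiv.symm_apply_apply]⟩

theorem orb_trans {x y : Fin n} (hx : x ∈ orb W a) (hy : y ∈ orb W a) : ∃ w ∈ W, w x = y := by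
  rw [← orb_eq hx] at hy; exact hy

theorem card_orb (hW : Max W) (a : Fin n) : ∃ k, Nat.card (orb W a) = 2 ^ k := by
  obtain ⟨k, hk⟩ := hW.isPGroup.card_orbit (p := 2) (α := Fin n) a
  refine ⟨k, ?_⟩
  rw [← hk]
  exact Nat.card_congr (Equiv.setCongr (Set.ext fun x =>
    ⟨fun ⟨w, hw, h⟩ => ⟨⟨w, hw⟩, h⟩, fun ⟨w, h⟩ => ⟨w, w.2, h⟩⟩))

theorem le_of_normalized (hW : Max W) {R : Subgroup (Perm (Fin n))} (hR : IsPGroup 2 R)
    (h : ∀ w ∈ W, ∀ r ∈ R, w * r * w⁻¹ ∈ R) : R ≤ W := by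
  have hn : W ≤ Subgroup.normalizer (R : Set (Perm (Fin n))) := fun w hw => Subgroup.mem_normalizer_iff.2 fun r =>
    ⟨h w hw r, fun hr => by have := h w⁻¹ (inv_mem hw) _ hr; simpa [mul_assoc] using this⟩
  have h1 := hW.maximal _ (hW.isPGroup.to_sup_of_normal_right' hR hn) le_sup_left
  exact h1 ▸ le_sup_right

/-- Restriction to an orbit. -/
noncomputable def res (W : Subgroup (Perm (Fin n))) (a : Fin n) : W →* Perm (Fin n) := by
  classical
  exact
  { toFun := fun w => Perm.ofSubtype ((w : Perm (Fin n)).subtypePerm (p := (· ∈ orb W a)) fun x => orb_iff w.2 x)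
    map_one' := by
      rw [show ((1 : W) : Perm (Fin n)).subtypePerm (p := (· ∈ orb W a)) (fun x => orb_iff (one_mem W) x) = 1 from rfl,
        map_one]
    map_mul' := fun v w => by
      rw [← map_mul]
      rfl }

theorem res_in (w : W) {x : Fin n} (hx : x ∈ orb W a) : res W a w x = (w : Perm (Fin n)) x := by
  classical
  exact Perm.ofSubtype_apply_of_mem _ hx

theorem res_out (w : W) {x : Fin n} (hx : x ∉ orb W a) : res W a w x = x := by
  classical
  exact Perm.ofSubtype_apply_of_not_mem _ hx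

theorem res_range_le (hW : Max W) (a : Fin n) : (res W a).range ≤ W := by
  refine le_of_normalized hW (hW.isPGroup.of_surjective _ (res W a).rangeRestrict_surjective) ?_
  rintro w hw _ ⟨v, rfl⟩
  refine ⟨⟨w, hw⟩ * v * ⟨w, hw⟩⁻¹, ?_⟩
  ext x
  rw [Perm.mul_apply, Perm.mul_apply]
  by_cases hx : x ∈ orb W a
  · rw [res_in _ hx, res_in _ ((orb_iff (inv_mem hw) x).2 hx)]
    rfl
  · rw [res_out _ hx, res_out _ (fun h => hx ((orb_iff (inv_mem hw) x).1 h)), Perm.coe_inv, Equiv.apply_symm_apply]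

/-- The central involution of an orbit. -/
def IsZ (W : Subgroup (Perm (Fin n))) (a : Fin n) (z : Perm (Fin n)) : Prop :=
  z ∈ W ∧ z * z = 1 ∧ (∀ w ∈ W, w * z = z * w) ∧ (∀ x ∈ orb W a, z x ≠ x) ∧ ∀ x ∉ orb W a, z x = x

theorem exists_z (hW : Max W) (ha : 1 < Nat.card (orb W a)) : ∃ z, IsZ W a z := by
  haveI : Fact (Nat.Prime 2) := ⟨Nat.prime_two⟩
  have hne : (res W a).range ≠ ⊥ := by
    intro h
    haveI := Finite.one_lt_card_iff_nontrivial.1 ha
    obtain ⟨⟨x, hx⟩, hxa⟩ := exists_ne (⟨a, self_mem_orb a⟩ : orb W a)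
    obtain ⟨w, hw, hwx⟩ := hx
    have h1 : res W a ⟨w, hw⟩ = 1 := Subgroup.mem_bot.1 (h.le ⟨_, rfl⟩)
    have h2 := res_in (a := a) ⟨w, hw⟩ (self_mem_orb a)
    rw [h1] at h2
    exact hxa (Subtype.ext (hwx.symm.trans h2.symm))
  have hR := hW.isPGroup.to_le (res_range_le hW a)
  obtain ⟨c, hc, hc1, hcc⟩ := exists_central hR le_rfl (fun q hq x hx => mul_mem (mul_mem hq hx) (inv_mem hq)) hne
  obtain ⟨j, hj⟩ := IsPGroup.iff_orderOf.1 hR ⟨c, hc⟩
  rw [Subgroup.orderOf_mk] at hj
  rcases j with _ | j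
  · exact absurd (orderOf_eq_one_iff.1 (hj.trans (pow_zero 2))) hc1
  obtain ⟨z, hzdef⟩ : ∃ z, z = c ^ 2 ^ j := ⟨_, rfl⟩
  have hz1 : z ≠ 1 := fun h => by
    have := orderOf_dvd_of_pow_eq_one (hzdef ▸ h)
    rw [hj] at this
    have := Nat.le_of_dvd (by positivity) this
    rw [pow_succ] at this
    have : 0 < 2 ^ j := by positivity
    omega
  have hzz : z * z = 1 := by rw [hzdef, ← pow_add, ← two_mul, ← pow_succ', ← hj, pow_orderOf_eq_one]
  have hzR : z ∈ (res W a).range := hzdef ▸ pow_mem hc _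
  obtain ⟨v, hv⟩ := hzR
  have hout : ∀ x ∉ orb W a, z x = x := fun x hx => hv ▸ res_out v hx
  have hin : ∀ x ∈ orb W a, z x ∈ orb W a := fun x hx => by rw [← hv, res_in v hx]; exact (orb_iff v.2 x).2 hx
  have hcomm : ∀ w ∈ W, w * z = z * w := fun w hw => by
    have h1 : res W a ⟨w, hw⟩ * z = z * res W a ⟨w, hw⟩ := by
      rw [hzdef]; exact ((show Commute (res W a ⟨w, hw⟩) c from hcc _ ⟨_, rfl⟩).pow_right _).eq
    ext x
    rw [Perm.mul_apply, Perm.mul_apply]
    by_cases hx : x ∈ orb W a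
    · have := Equiv.congr_fun h1 x
      rw [Perm.mul_apply, Perm.mul_apply, res_in _ hx, res_in _ (hin x hx)] at this
      exact congrArg Fin.val this
    · rw [hout x hx, hout (w x) fun h => hx ((orb_iff hw x).1 h)]
  refine ⟨z, res_range_le hW a ⟨v, hv⟩, hzz, hcomm, fun x hx hzx => hz1 ?_, hout⟩
  ext y
  by_cases hy : y ∈ orb W a
  · obtain ⟨w, hw, rfl⟩ := orb_trans hx hy
    have := Equiv.congr_fun (hcomm w hw) x
    rw [Perm.mul_apply, Perm.mul_apply, hzx] at this
    exact congrArg Fin.val this.symm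
  · rw [hout y hy]; rfl

theorem z_invol {z : Perm (Fin n)} (hz : IsZ W a z) (x : Fin n) : z (z x) = x := by
  rw [← Perm.mul_apply, hz.2.1]; rfl

theorem z_comm {z w : Perm (Fin n)} (hz : IsZ W a z) (hw : w ∈ W) (x : Fin n) : w (z x) = z (w x) := by
  rw [← Perm.mul_apply, hz.2.2.1 w hw]; rfl

theorem swap_mem (hW : Max W) {z : Perm (Fin n)} (hz : IsZ W a z) {x : Fin n} (hx : x ∈ orb W a) :
    swap x (z x) ∈ W := by
  have hle : Subgroup.closure ((fun y => swap y (z y)) '' orb W a) ≤ W := by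
    refine le_of_normalized hW (isPGroup_closure ?_ ?_) ?_
    · rintro _ ⟨x, -, rfl⟩ _ ⟨y, -, rfl⟩
      by_cases h1 : y = x
      · rw [h1]
      by_cases h2 : y = z x
      · simp only [h2, z_invol hz, swap_comm (z x) x]
      · refine (Perm.Disjoint.commute fun w => ?_).eq
        by_cases hw : w = x ∨ w = z x
        · right
          refine swap_apply_of_ne_of_ne ?_ ?_
          · rcases hw with rfl | rfl
            · exact Ne.symm h1
            · exact Ne.symm h2
          · rcases hw with rfl | rfl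
            · exact fun h => h2 (by rw [h, z_invol hz])
            · exact fun h => h1 (z.injective h).symm
        · push Not at hw
          exact Or.inl (swap_apply_of_ne_of_ne hw.1 hw.2)
    · rintro _ ⟨x, -, rfl⟩; exact swap_mul_self _ _
    · intro w hw r hr
      induction hr using Subgroup.closure_induction with
      | mem r hr =>
        obtain ⟨y, hy, rfl⟩ := hr
        refine Subgroup.subset_closure ⟨w y, (orb_iff hw y).2 hy, ?_⟩
        simp only [← swap_apply_apply, z_comm hz hw]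
      | one => simp
      | mul r s _ _ ihr ihs =>
        rw [show w * (r * s) * w⁻¹ = w * r * w⁻¹ * (w * s * w⁻¹) by group]
        exact mul_mem ihr ihs
      | inv r _ ihr =>
        rw [show w * r⁻¹ * w⁻¹ = (w * r * w⁻¹)⁻¹ by group]
        exact inv_mem ihr
  exact hle (Subgroup.subset_closure ⟨x, hx, rfl⟩)

theorem swap_out {z : Perm (Fin n)} (hz : IsZ W a z) {x y : Fin n} (hx : x ∈ orb W a) (hy : y ∉ orb W a) :
    swap x (z x) y = y := by
  refine swap_apply_of_ne_of_ne (fun h => hy (h ▸ hx)) fun h => hy ?_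
  rw [h]; exact (orb_iff hz.1 x).2 hx

theorem mem_cyc_of_commute {z c : Perm (Fin n)} {x : Fin n} (hzx : z x ≠ x)
    (h : c * swap x (z x) = swap x (z x) * c) : c x = x ∨ c x = z x := by
  by_contra hne
  push Not at hne
  have h1 := Equiv.congr_fun h x
  rw [Perm.mul_apply, Perm.mul_apply, swap_apply_left, swap_apply_of_ne_of_ne hne.1 hne.2] at h1
  exact hzx (c.injective h1)

theorem eq_or_eq {z c : Perm (Fin n)} (hz : IsZ W a z) (hc : c a = a ∨ c a = z a)
    (htr : ∀ y ∈ orb W a, ∃ w ∈ W, w a = y ∧ c (w a) = w (c a)) :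
    (∀ y ∈ orb W a, c y = y) ∨ (∀ y ∈ orb W a, c y = z y) := by
  rcases hc with h | h
  · left; intro y hy; obtain ⟨w, -, rfl, hw⟩ := htr y hy; rw [hw, h]
  · right; intro y hy; obtain ⟨w, hw', rfl, hw⟩ := htr y hy; rw [hw, h, z_comm hz hw']

/-- A big orbit. -/
def Big (W : Subgroup (Perm (Fin n))) (a : Fin n) : Prop := 4 ≤ Nat.card (orb W a)

/-- Fixed or flipped by `z` on the orbit. -/
def Cen (W : Subgroup (Perm (Fin n))) (a : Fin n) (z g : Perm (Fin n)) : Prop :=
  (∀ x ∈ orb W a, g x = x) ∨ (∀ x ∈ orb W a, g x = z x)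

theorem cen_comm {z g w : Perm (Fin n)} (hz : IsZ W a z) (hg : Cen W a z g) (hw : w ∈ W) {x : Fin n}
    (hx : x ∈ orb W a) : g (w x) = w (g x) := by
  rcases hg with h | h
  · rw [h x hx, h _ ((orb_iff hw x).2 hx)]
  · rw [h x hx, h _ ((orb_iff hw x).2 hx), z_comm hz hw]

theorem exists_off (hab : Big W a) {z : Perm (Fin n)} (x u : Fin n) :
    ∃ y ∈ orb W a, y ≠ x ∧ y ≠ z x ∧ y ≠ u := by
  classical
  by_contra h
  push Not at h
  have hsub : orb W a ⊆ (({x, z x, u} : Finset (Fin n)) : Set (Fin n)) := fun y hy => by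
    simp only [Finset.coe_insert, Finset.coe_singleton, Set.mem_insert_iff, Set.mem_singleton_iff]
    by_cases h1 : y = x
    · exact Or.inl h1
    by_cases h2 : y = z x
    · exact Or.inr (Or.inl h2)
    exact Or.inr (Or.inr (h y hy h1 h2))
  have h1 := Nat.card_mono (Finset.finite_toSet _) hsub
  rw [Nat.card_eq_fintype_card (α := ↥(({x, z x, u} : Finset (Fin n)) : Set (Fin n)))] at h1
  have h3 : ({x, z x, u} : Finset (Fin n)).card ≤ 3 := Finset.card_le_three
  simp only [Finset.coe_sort_coe, Fintype.card_coe] at h1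
  unfold Big at hab
  omega

/-- Of two commuting factors one is central on a big orbit. -/
theorem cen_or_cen {z : Perm (Fin n)} (hz : IsZ W a z) (hbig : Big W a) (hsw : ∀ x ∈ orb W a, swap x (z x) ∈ W)
    (Q A B : Subgroup (Perm (Fin n))) (hQ : Q ≤ W) (hfull : ∀ w ∈ W, ∃ q ∈ Q, ∀ x ∈ orb W a, q x = w x)
    (hA : A ≤ Q) (hB : B ≤ Q) (hAn : ∀ q ∈ Q, ∀ g ∈ A, q * g * q⁻¹ ∈ A)
    (hBn : ∀ q ∈ Q, ∀ g ∈ B, q * g * q⁻¹ ∈ B) (hcomm : ∀ g ∈ A, ∀ h ∈ B, g * h = h * g) (hsup : Q ≤ A ⊔ B) :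
    (∀ h ∈ B, Cen W a z h) ∨ (∀ g ∈ A, Cen W a z g) := by
  have hAW : ∀ g ∈ A, g ∈ W := fun g hg => hQ (hA hg)
  have hBW : ∀ g ∈ B, g ∈ W := fun g hg => hQ (hB hg)
  have hab : ∀ g ∈ A, ∀ h ∈ B, ∀ x, g (h x) = h (g x) := fun g hg h hh x => by
    rw [← Perm.mul_apply, hcomm g hg h hh]; rfl
  -- a movers' set
  have step : ∀ g ∈ A, ∀ x ∈ orb W a, g x ≠ x → g x ≠ z x → ∀ h ∈ B, h x ≠ x → h x ≠ z x →
      (h x = g x ∨ h x = z (g x)) := by
    intro g hg x hx hg1 hg2 h hh hh1 hh2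
    obtain ⟨q, hq, hqx⟩ := hfull _ (hsw x hx)
    have hqinv : ∀ y ∈ orb W a, q⁻¹ y = swap x (z x) y := fun y hy => by
      rw [Perm.inv_eq_iff_eq, hqx _ ((orb_iff (hsw x hx) y).2 hy), ← Perm.mul_apply, swap_mul_self]; rfl
    have hgxO : g x ∈ orb W a := (orb_iff (hAW g hg) x).2 hx
    obtain ⟨c, hcdef⟩ : ∃ c, c = q * g * q⁻¹ * g⁻¹ := ⟨_, rfl⟩
    have hc : c ∈ A := hcdef ▸ mul_mem (hAn q hq g hg) (inv_mem hg)
    have hcy : ∀ y ∈ orb W a, c y = swap x (z x) (swap (g x) (z (g x)) y) := fun y hy => by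
      have h1 : g⁻¹ y ∈ orb W a := (orb_iff (inv_mem (hAW g hg)) y).2 hy
      have h2 : swap x (z x) (g⁻¹ y) ∈ orb W a := (orb_iff (hsw x hx) _).2 h1
      rw [hcdef, Perm.mul_apply, Perm.mul_apply, Perm.mul_apply, hqinv _ h1,
        hqx _ ((orb_iff (hAW g hg) _).2 h2), ← z_comm hz (hAW g hg), swap_apply_apply, Perm.mul_apply, Perm.mul_apply]
    have hgz : z x ≠ g x := Ne.symm hg2
    have hcx : c x = z x := by
      rw [hcy x hx, swap_apply_of_ne_of_ne (Ne.symm hg1), swap_apply_left]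
      exact fun e => hg2 ((z_invol hz (g x)).symm.trans (congrArg z e.symm))
    have hhx : h x ∈ orb W a := (orb_iff (hBW h hh) x).2 hx
    by_contra hne
    push Not at hne
    have hfix : c (h x) = h x := by
      rw [hcy _ hhx, swap_apply_of_ne_of_ne hne.1 hne.2, swap_apply_of_ne_of_ne hh1 hh2]
    rw [hab c hc h hh, hcx] at hfix
    exact hz.2.2.2.1 x hx (h.injective hfix)
  have nomove : ∀ g ∈ A, ∀ h ∈ B, ∀ x ∈ orb W a, (g x = x ∨ g x = z x) ∨ (h x = x ∨ h x = z x) := by
    intro g hg h hh x hx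
    by_contra hne
    push Not at hne
    obtain ⟨⟨hg1, hg2⟩, hh1, hh2⟩ := hne
    have hhC := step g hg x hx hg1 hg2 h hh hh1 hh2
    -- the four points
    let M : Set (Fin n) := {y | y = x ∨ y = z x ∨ y = g x ∨ y = z (g x)}
    have hzM : ∀ y ∈ M, z y ∈ M := by
      rintro y (rfl | rfl | rfl | rfl)
      · exact Or.inr (Or.inl rfl)
      · exact Or.inl (z_invol hz x)
      · exact Or.inr (Or.inr (Or.inr rfl))
      · exact Or.inr (Or.inr (Or.inl (z_invol hz _)))
    have hA0 : ∀ g' ∈ A, g' x ∈ M := fun g' hg' => by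
      by_cases e1 : g' x = x
      · exact Or.inl e1
      by_cases e2 : g' x = z x
      · exact Or.inr (Or.inl e2)
      rcases hhC with e | e <;> rcases step g' hg' x hx e1 e2 h hh hh1 hh2 with e' | e'
      · exact Or.inr (Or.inr (Or.inl (e'.symm.trans e)))
      · exact Or.inr (Or.inr (Or.inr (by rw [← e, e', z_invol hz])))
      · exact Or.inr (Or.inr (Or.inr (e'.symm.trans e)))
      · exact Or.inr (Or.inr (Or.inl (z.injective (e'.symm.trans e))))
    have hB0 : ∀ h' ∈ B, h' x ∈ M := fun h' hh' => by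
      by_cases e1 : h' x = x
      · exact Or.inl e1
      by_cases e2 : h' x = z x
      · exact Or.inr (Or.inl e2)
      exact (step g hg x hx hg1 hg2 h' hh' e1 e2).elim (fun e => Or.inr (Or.inr (Or.inl e))) fun e =>
        Or.inr (Or.inr (Or.inr e))
    have hhM : h (g x) ∈ M := by
      rw [← hab g hg h hh]
      have hgg : g (g x) ≠ g x ∧ g (g x) ≠ z (g x) :=
        ⟨fun e => hg1 (g.injective e), fun e => hg2 (g.injective (e.trans (z_comm hz (hAW g hg) x).symm))⟩
      have h2 : g (g x) = x ∨ g (g x) = z x := by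
        rcases hA0 (g * g) (mul_mem hg hg) with e | e | e | e
        exacts [Or.inl e, Or.inr e, absurd e hgg.1, absurd e hgg.2]
      rcases hhC with e | e <;> rw [e] <;> rcases h2 with e' | e'
      · exact Or.inl e'
      · exact Or.inr (Or.inl e')
      · exact Or.inr (Or.inl (by rw [z_comm hz (hAW g hg), e']))
      · exact Or.inl (by rw [z_comm hz (hAW g hg), e', z_invol hz])
    have hhMset : ∀ y ∈ M, h y ∈ M := by
      rintro y (rfl | rfl | rfl | rfl)
      · exact hB0 h hh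
      · rw [z_comm hz (hBW h hh)]; exact hzM _ (hB0 h hh)
      · exact hhM
      · rw [z_comm hz (hBW h hh)]; exact hzM _ hhM
    have hgMset : ∀ y ∈ M, g y ∈ M := by
      rintro y (rfl | rfl | rfl | rfl)
      · exact hA0 g hg
      · rw [z_comm hz (hAW g hg)]; exact hzM _ (hA0 g hg)
      · exact hA0 (g * g) (mul_mem hg hg)
      · rw [z_comm hz (hAW g hg)]; exact hzM _ (hA0 (g * g) (mul_mem hg hg))
    have hMA : ∀ g' ∈ A, ∀ y ∈ M, g' y ∈ M := by
      intro g' hg'
      have hgx : g' (g x) ∈ M := hA0 (g' * g) (mul_mem hg' hg)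
      rintro y (rfl | rfl | rfl | rfl)
      · exact hA0 g' hg'
      · rw [z_comm hz (hAW g' hg')]; exact hzM _ (hA0 g' hg')
      · exact hgx
      · rw [z_comm hz (hAW g' hg')]; exact hzM _ hgx
    have hMB : ∀ h' ∈ B, ∀ y ∈ M, h' y ∈ M := by
      intro h' hh'
      have hgx : h' (g x) ∈ M := by rw [← hab g hg h' hh']; exact hgMset _ (hB0 h' hh')
      rintro y (rfl | rfl | rfl | rfl)
      · exact hB0 h' hh'
      · rw [z_comm hz (hBW h' hh')]; exact hzM _ (hB0 h' hh')
      · exact hgx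
      · rw [z_comm hz (hBW h' hh')]; exact hzM _ hgx
    have hMQ : ∀ q ∈ Q, q x ∈ M := by
      intro q hq
      suffices ∀ y ∈ M, q y ∈ M from this x (Or.inl rfl)
      have hcl : q ∈ Subgroup.closure ((A : Set (Perm (Fin n))) ∪ B) := by
        rw [Subgroup.closure_union, Subgroup.closure_eq, Subgroup.closure_eq]; exact hsup hq
      clear hq
      induction hcl using Subgroup.closure_induction'' with
      | mem u hu => exact hu.elim (fun hu => hMA u hu) fun hu => hMB u hu
      | inv_mem u hu => exact hu.elim (fun hu => hMA _ (inv_mem hu)) fun hu => hMB _ (inv_mem hu)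
      | one => exact fun y hy => hy
      | mul u v _ _ hu hv => exact fun y hy => hu _ (hv y hy)
    have horb : ∀ y ∈ orb W a, y ∈ M := fun y hy => by
      obtain ⟨w, hw, rfl⟩ := orb_trans hx hy
      obtain ⟨q, hq, hqx⟩ := hfull w hw
      rw [← hqx x hx]; exact hMQ q hq
    have hBcomm : ∀ h₁ ∈ B, ∀ h₂ ∈ B, ∀ y ∈ orb W a, h₁ (h₂ y) = h₂ (h₁ y) := by
      intro h₁ hh₁ h₂ hh₂
      -- each is determined by the image of `x`
      have hdet : ∀ h' ∈ B, ∃ k ∈ ({1, z, g, z * g} : Set (Perm (Fin n))), h' x = k x := fun h' hh' => by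
        rcases hB0 h' hh' with e | e | e | e
        exacts [⟨1, by simp, e⟩, ⟨z, by simp, e⟩, ⟨g, by simp, e⟩, ⟨z * g, by simp, e⟩]
      have hkc : ∀ k ∈ ({1, z, g, z * g} : Set (Perm (Fin n))), ∀ h' ∈ B, ∀ y, h' (k y) = k (h' y) := by
        intro k hk h' hh' y
        simp only [Set.mem_insert_iff, Set.mem_singleton_iff] at hk
        rcases hk with rfl | rfl | rfl | rfl
        · rfl
        · exact z_comm hz (hBW h' hh') y
        · exact (hab _ hg h' hh' y).symm
        · rw [Perm.mul_apply, Perm.mul_apply, z_comm hz (hBW h' hh'), hab g hg h' hh']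
      obtain ⟨k₁, hk₁, e₁⟩ := hdet h₁ hh₁
      obtain ⟨k₂, hk₂, e₂⟩ := hdet h₂ hh₂
      have hk12 : k₂ (k₁ x) = k₁ (k₂ x) := by
        simp only [Set.mem_insert_iff, Set.mem_singleton_iff] at hk₁ hk₂
        rcases hk₁ with a₁ | a₁ | a₁ | a₁ <;> rcases hk₂ with a₂ | a₂ | a₂ | a₂ <;>
          simp only [a₁, a₂, Perm.mul_apply, Perm.one_apply, z_comm hz (hAW g hg), z_invol hz]
      have hx' : h₁ (h₂ x) = h₂ (h₁ x) := by
        rw [e₂, hkc k₂ hk₂ h₁ hh₁, e₁, hkc k₁ hk₁ h₂ hh₂, e₂, hk12]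
      intro y hy
      rcases horb y hy with rfl | rfl | rfl | rfl
      · exact hx'
      · rw [z_comm hz (hBW h₂ hh₂), z_comm hz (hBW h₁ hh₁), hx', z_comm hz (hBW h₁ hh₁), z_comm hz (hBW h₂ hh₂)]
      · rw [← hab g hg h₂ hh₂, ← hab g hg h₁ hh₁, hx', hab g hg h₂ hh₂, ← hab g hg h₂ hh₂, ← hab g hg h₁ hh₁,
          hab g hg h₂ hh₂]
      · rw [z_comm hz (hBW h₂ hh₂), z_comm hz (hBW h₁ hh₁), z_comm hz (hBW h₁ hh₁), z_comm hz (hBW h₂ hh₂),
          ← hab g hg h₂ hh₂, ← hab g hg h₁ hh₁, hx', hab g hg h₂ hh₂, ← hab g hg h₂ hh₂, ← hab g hg h₁ hh₁,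
          hab g hg h₂ hh₂]
    -- then `h` is central on the orbit
    have hcen : ∀ q ∈ Q, ∀ y ∈ orb W a, h (q y) = q (h y) := by
      intro q hq
      have hcl : q ∈ Subgroup.closure ((A : Set (Perm (Fin n))) ∪ B) := by
        rw [Subgroup.closure_union, Subgroup.closure_eq, Subgroup.closure_eq]; exact hsup hq
      suffices q ∈ W ∧ ∀ y ∈ orb W a, h (q y) = q (h y) from this.2
      clear hq
      induction hcl using Subgroup.closure_induction'' with
      | mem u hu =>
        exact hu.elim (fun hu => ⟨hAW u hu, fun y _ => (hab u hu h hh y).symm⟩) fun hu =>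
          ⟨hBW u hu, fun y hy => hBcomm h hh u hu y hy⟩
      | inv_mem u hu =>
        exact hu.elim (fun hu => ⟨hAW _ (inv_mem hu), fun y _ => (hab _ (inv_mem hu) h hh y).symm⟩) fun hu =>
          ⟨hBW _ (inv_mem hu), fun y hy => hBcomm h hh _ (inv_mem hu) y hy⟩
      | one => exact ⟨one_mem _, fun y _ => rfl⟩
      | mul u v _ _ hu hv =>
        exact ⟨mul_mem hu.1 hv.1, fun y hy => by
          rw [Perm.mul_apply, hu.2 _ ((orb_iff hv.1 y).2 hy), hv.2 y hy]; rfl⟩
    obtain ⟨q, hq, hqx⟩ := hfull _ (hsw x hx)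
    have h1 := hcen q hq x hx
    rw [hqx x hx, hqx _ ((orb_iff (hBW h hh) x).2 hx), swap_apply_left, swap_apply_of_ne_of_ne hh1 hh2] at h1
    exact hz.2.2.2.1 x hx (h.injective h1)
  -- one factor preserves every pair
  have pres : ∀ (C : Subgroup (Perm (Fin n))), (∀ g ∈ C, g ∈ W) →
      (∀ g ∈ C, ∀ x ∈ orb W a, g x = x ∨ g x = z x) → ∀ g ∈ C, ∀ g' ∈ C, ∀ x ∈ orb W a, g (g' x) = g' (g x) := by
    intro C hCW hC g hg g' hg' x hx
    rcases hC g hg x hx with e | e <;> rcases hC g' hg' x hx with e' | e' <;>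
      simp only [e, e', z_comm hz (hCW g hg), z_comm hz (hCW g' hg'), z_invol hz]
  have central : ∀ (C D : Subgroup (Perm (Fin n))), (∀ g ∈ C, g ∈ W) → (∀ g ∈ D, g ∈ W) →
      (∀ g ∈ C, ∀ h ∈ D, ∀ x, g (h x) = h (g x)) → Q ≤ C ⊔ D →
      (∀ g ∈ C, ∀ x ∈ orb W a, g x = x ∨ g x = z x) → ∀ g ∈ C, Cen W a z g := by
    intro C D hCW hDW hCD hCDQ hC g hg
    refine eq_or_eq hz (hC g hg a (self_mem_orb a)) fun y hy => ?_
    obtain ⟨w, hw, rfl⟩ := hy
    refine ⟨w, hw, rfl, ?_⟩
    obtain ⟨q, hq, hqx⟩ := hfull w hw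
    rw [← hqx a (self_mem_orb a), ← hqx _ ((orb_iff (hCW g hg) a).2 (self_mem_orb a))]
    have hcl : q ∈ Subgroup.closure ((C : Set (Perm (Fin n))) ∪ D) := by
      rw [Subgroup.closure_union, Subgroup.closure_eq, Subgroup.closure_eq]; exact hCDQ hq
    suffices q ∈ W ∧ ∀ y ∈ orb W a, g (q y) = q (g y) from this.2 a (self_mem_orb a)
    clear hq hqx
    induction hcl using Subgroup.closure_induction'' with
    | mem u hu =>
      exact hu.elim (fun hu => ⟨hCW u hu, fun y hy => pres C hCW hC g hg u hu y hy⟩) fun hu =>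
        ⟨hDW u hu, fun y _ => hCD g hg u hu y⟩
    | inv_mem u hu =>
      exact hu.elim (fun hu => ⟨hCW _ (inv_mem hu), fun y hy => pres C hCW hC g hg _ (inv_mem hu) y hy⟩) fun hu =>
        ⟨hDW _ (inv_mem hu), fun y _ => hCD g hg _ (inv_mem hu) y⟩
    | one => exact ⟨one_mem _, fun y _ => rfl⟩
    | mul u v _ _ hu hv =>
      exact ⟨mul_mem hu.1 hv.1, fun y hy => by
        rw [Perm.mul_apply, hu.2 _ ((orb_iff hv.1 y).2 hy), hv.2 y hy]; rfl⟩
  by_cases hBc : ∀ h ∈ B, ∀ x ∈ orb W a, h x = x ∨ h x = z x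
  · exact Or.inl (central B A hBW hAW (fun h hh g hg x => (hab g hg h hh x).symm) (sup_comm A B ▸ hsup) hBc)
  · push Not at hBc
    obtain ⟨h, hh, x, hx, hh1, hh2⟩ := hBc
    refine Or.inr (central A B hAW hBW hab hsup fun g hg y hy => ?_)
    obtain ⟨w, hw, rfl⟩ := orb_trans hx hy
    obtain ⟨q, hq, hqx⟩ := hfull w hw
    rw [← hqx x hx]
    have hg' : q⁻¹ * g * q ∈ A := by simpa using hAn q⁻¹ (inv_mem hq) g hg
    have := (nomove _ hg' h hh x hx).resolve_right (not_or.2 ⟨hh1, hh2⟩)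
    rw [Perm.mul_apply, Perm.mul_apply] at this
    rcases this with e | e
    · exact Or.inl (Perm.inv_eq_iff_eq.1 e)
    · exact Or.inr (by rw [Perm.inv_eq_iff_eq.1 e, z_comm hz (hQ hq)])

theorem four_dvd_card (hW : Max W) (T : Finset (Fin n)) (hinv : ∀ w ∈ W, ∀ x ∈ T, w x ∈ T)
    (hbig : ∀ x ∈ T, Big W x) : 4 ∣ T.card := by
  classical
  rw [Finset.card_eq_sum_card_image (fun x => orb W x) T]
  refine Finset.dvd_sum fun S hS => ?_
  obtain ⟨x, hx, rfl⟩ := Finset.mem_image.1 hS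
  have e : T.filter (fun y => orb W y = orb W x) = (orb W x).toFinset := by
    ext y
    simp only [Finset.mem_filter, Set.mem_toFinset]
    exact ⟨fun h => h.2 ▸ self_mem_orb y, fun h => ⟨by obtain ⟨w, hw, rfl⟩ := h; exact hinv w hw x hx, orb_eq h⟩⟩
  rw [e, Set.toFinset_card, ← Nat.card_eq_fintype_card]
  obtain ⟨k, hk⟩ := card_orb hW x
  have h4 := hbig x hx
  unfold Big at h4
  rw [hk] at h4 ⊢
  rcases k with _ | _ | k
  · norm_num at h4
  · norm_num at h4
  · exact ⟨2 ^ k, by ring⟩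

/-- Elements acting by `1` or the central involution on every big orbit and trivially elsewhere are even. -/
theorem sign_of_cen (hW : Max W) {v : Perm (Fin n)} (hv : v ∈ W)
    (h : ∀ x, (v x = x) ∨ (Big W x ∧ ∃ z, IsZ W x z ∧ ∀ y ∈ orb W x, v y = z y)) : Perm.sign v = 1 := by
  refine sign_of_sq ?_ (four_dvd_card hW _ ?_ ?_)
  · ext x
    rw [Perm.mul_apply]
    rcases h x with e | ⟨-, z, hz, e⟩
    · rw [e, e]; rfl
    · rw [e x (self_mem_orb x), e _ ((orb_iff hz.1 x).2 (self_mem_orb x)), z_invol hz]; rfl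
  · intro w hw x hx
    rw [Perm.mem_support] at hx ⊢
    obtain ⟨-, z, hz, e⟩ := (h x).resolve_left hx
    rw [e _ ((orb_iff hw x).2 (self_mem_orb x))]
    exact hz.2.2.2.1 _ ((orb_iff hw x).2 (self_mem_orb x))
  · exact fun x hx => ((h x).resolve_left (Perm.mem_support.1 hx)).1

theorem small_cases (hW : Max W) (a : Fin n) (h : ¬ Big W a) : Nat.card (orb W a) = 1 ∨ Nat.card (orb W a) = 2 := by
  obtain ⟨k, hk⟩ := card_orb hW a
  unfold Big at h
  rw [hk] at h ⊢
  rcases k with _ | _ | k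
  · exact Or.inl rfl
  · exact Or.inr rfl
  · exact absurd (by rw [show k + 1 + 1 = k + 2 from rfl, pow_add]; have : 0 < 2 ^ k := (by positivity); omega) h

theorem orb_single (h : Nat.card (orb W a) = 1) {x : Fin n} (hx : x ∈ orb W a) : x = a := by
  haveI := (Nat.card_eq_one_iff_unique.1 h).1
  exact congrArg Subtype.val (Subsingleton.elim (⟨x, hx⟩ : orb W a) ⟨a, self_mem_orb a⟩)

theorem fixed_of_single (h : Nat.card (orb W a) = 1) {w : Perm (Fin n)} (hw : w ∈ W) : w a = a :=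
  orb_single h ((orb_iff hw a).2 (self_mem_orb a))

theorem orb_two (h : Nat.card (orb W a) = 2) {z : Perm (Fin n)} (hz : IsZ W a z) {x : Fin n} (hx : x ∈ orb W a) :
    x = a ∨ x = z a := by
  classical
  by_contra hne
  push Not at hne
  have hsub : (({x, a, z a} : Finset (Fin n)) : Set (Fin n)) ⊆ orb W a := by
    intro y hy
    simp only [Finset.coe_insert, Finset.coe_singleton, Set.mem_insert_iff, Set.mem_singleton_iff] at hy
    rcases hy with rfl | rfl | rfl
    exacts [hx, self_mem_orb _, (orb_iff hz.1 a).2 (self_mem_orb a)]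
  have h1 := Nat.card_mono (Set.toFinite _) hsub
  rw [h, Nat.card_eq_fintype_card, show Fintype.card ↥(({x, a, z a} : Finset (Fin n)) : Set (Fin n)) =
    ({x, a, z a} : Finset (Fin n)).card from Fintype.card_coe _] at h1
  have h3 : ({x, a, z a} : Finset (Fin n)).card = 3 :=
    Finset.card_eq_three.2 ⟨x, a, z a, hne.1, hne.2, (hz.2.2.2.1 a (self_mem_orb a)).symm, rfl⟩
  omega

theorem single_unique (hW : Max W) (ha : Nat.card (orb W a) = 1) (hb : Nat.card (orb W b) = 1) : a = b := by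
  by_contra hne
  have hle : Subgroup.closure ({swap a b} : Set (Perm (Fin n))) ≤ W := by
    refine le_of_normalized hW (isPGroup_closure ?_ ?_) fun w hw r hr => ?_
    · simp
    · simp
    induction hr using Subgroup.closure_induction with
    | mem r hr =>
      rw [Set.mem_singleton_iff.1 hr, ← swap_apply_apply, fixed_of_single ha hw, fixed_of_single hb hw]
      exact Subgroup.subset_closure rfl
    | one => simp
    | mul r s _ _ ihr ihs =>
      rw [show w * (r * s) * w⁻¹ = w * r * w⁻¹ * (w * s * w⁻¹) by group]; exact mul_mem ihr ihs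
    | inv r _ ihr => rw [show w * r⁻¹ * w⁻¹ = (w * r * w⁻¹)⁻¹ by group]; exact inv_mem ihr
  have := fixed_of_single ha (hle (Subgroup.subset_closure rfl))
  rw [swap_apply_left] at this
  exact hne this.symm

theorem pair_unique (hW : Max W) (ha : Nat.card (orb W a) = 2) (hb : Nat.card (orb W b) = 2) :
    b ∈ orb W a := by
  by_contra hne
  obtain ⟨z, hz⟩ := exists_z hW (a := a) (by omega)
  obtain ⟨z', hz'⟩ := exists_z hW (a := b) (by omega)
  have hza := (orb_iff hz.1 a).2 (self_mem_orb (W := W) a)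
  have hzb := (orb_iff hz'.1 b).2 (self_mem_orb (W := W) b)
  have hdis : ∀ x ∈ orb W a, ∀ y ∈ orb W b, x ≠ y := fun x hx y hy e => by
    subst e
    exact hne (by rw [← orb_eq hx, orb_eq hy]; exact self_mem_orb b)
  have d1 : a ≠ b := hdis _ (self_mem_orb a) _ (self_mem_orb b)
  have d2 : a ≠ z' b := hdis _ (self_mem_orb a) _ hzb
  have d3 : z a ≠ b := hdis _ hza _ (self_mem_orb b)
  have d4 : z a ≠ z' b := hdis _ hza _ hzb
  have d5 : z a ≠ a := hz.2.2.2.1 a (self_mem_orb a)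
  have d6 : z' b ≠ b := hz'.2.2.2.1 b (self_mem_orb b)
  obtain ⟨s, hs⟩ : ∃ s, s = swap a b * swap (z a) (z' b) := ⟨_, rfl⟩
  obtain ⟨u, hu⟩ : ∃ u, u = swap a (z a) * swap b (z' b) := ⟨_, rfl⟩
  have hsu : s * u = swap a (z' b) * swap (z a) b := by
    subst hs hu
    ext y
    simp only [Perm.mul_apply, swap_apply_def]
    grind
  have hle : Subgroup.closure ({s, u} : Set (Perm (Fin n))) ≤ W := by
    refine le_of_normalized hW (isPGroup_closure ?_ ?_) fun w hw r hr => ?_
    · have : s * u = u * s := by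
        subst hs hu
        ext y
        simp only [Perm.mul_apply, swap_apply_def]
        grind
      rintro x (rfl | rfl) y (rfl | rfl) <;> first | rfl | exact this | exact this.symm
    · rintro x (rfl | rfl) <;> subst_vars <;> ext y <;> simp only [Perm.mul_apply, swap_apply_def, Perm.one_apply] <;> grind
    induction hr using Subgroup.closure_induction with
    | mem r hr =>
      have ea := orb_two ha hz ((orb_iff hw a).2 (self_mem_orb a))
      have eb := orb_two hb hz' ((orb_iff hw b).2 (self_mem_orb b))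
      rcases hr with hr | hr
      · rw [hr, show w * s * w⁻¹ = swap (w a) (w b) * swap (z (w a)) (z' (w b)) by
          rw [hs, ← z_comm hz hw, ← z_comm hz' hw, swap_apply_apply, swap_apply_apply]; group]
        rcases ea with ea | ea <;> rcases eb with eb | eb <;> rw [ea, eb]
        · exact Subgroup.subset_closure (Or.inl hs.symm)
        · rw [z_invol hz', ← hsu]; exact mul_mem (Subgroup.subset_closure (Or.inl rfl)) (Subgroup.subset_closure (Or.inr rfl))
        · rw [z_invol hz, show swap (z a) b * swap a (z' b) = s * u by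
            rw [hsu]; ext y; simp only [Perm.mul_apply, swap_apply_def]; grind]
          exact mul_mem (Subgroup.subset_closure (Or.inl rfl)) (Subgroup.subset_closure (Or.inr rfl))
        · rw [z_invol hz, z_invol hz', show swap (z a) (z' b) * swap a b = s by
            rw [hs]; ext y; simp only [Perm.mul_apply, swap_apply_def]; grind]
          exact Subgroup.subset_closure (Or.inl rfl)
      · rw [Set.mem_singleton_iff.1 hr, show w * u * w⁻¹ = swap (w a) (z (w a)) * swap (w b) (z' (w b)) by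
          rw [hu, ← z_comm hz hw, ← z_comm hz' hw, swap_apply_apply, swap_apply_apply]; group]
        rcases ea with ea | ea <;> rcases eb with eb | eb <;> rw [ea, eb] <;>
          (try simp only [z_invol hz, z_invol hz', swap_comm (z a) a, swap_comm (z' b) b]) <;>
          rw [← hu] <;> exact Subgroup.subset_closure (Or.inr rfl)
    | one => simp
    | mul r s _ _ ihr ihs =>
      rw [show w * (r * s) * w⁻¹ = w * r * w⁻¹ * (w * s * w⁻¹) by group]; exact mul_mem ihr ihs
    | inv r _ ihr => rw [show w * r⁻¹ * w⁻¹ = (w * r * w⁻¹)⁻¹ by group]; exact inv_mem ihr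
  apply hne
  have := (orb_iff (hle (Subgroup.subset_closure (Or.inl rfl))) a).2 (self_mem_orb (W := W) a)
  rwa [hs, Perm.mul_apply, swap_apply_of_ne_of_ne d5.symm d2, swap_apply_left] at this

open scoped Classical in
/-- The shape of the degree. -/
theorem degree_eq (hW : Max W) : ∃ e₁ e₂ : ℕ, e₁ ≤ 1 ∧ e₂ ≤ 1 ∧
    n = (Finset.univ.filter (Big W)).card + e₁ + 2 * e₂ ∧ 4 ∣ (Finset.univ.filter (Big W)).card ∧
    (e₂ = 1 ↔ ∃ a, Nat.card (orb W a) = 2) := by
  classical
  let T : ℕ → Finset (Fin n) := fun j => Finset.univ.filter fun a => Nat.card (orb W a) = j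
  have hsplit := Finset.card_filter_add_card_filter_not (s := (Finset.univ : Finset (Fin n))) (Big W)
  rw [Finset.card_univ, Fintype.card_fin] at hsplit
  have hs : Finset.univ.filter (fun a => ¬ Big W a) = T 1 ∪ T 2 := by
    ext a
    simp only [T, Finset.mem_filter, Finset.mem_union, Finset.mem_univ, true_and]
    exact ⟨small_cases hW a, fun h => by unfold Big; omega⟩
  rw [hs, Finset.card_union_of_disjoint (Finset.disjoint_filter.2 fun a _ h1 h2 => by omega)] at hsplit
  have h1 : (T 1).card ≤ 1 := Finset.card_le_one.2 fun a ha b hb =>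
    single_unique hW (Finset.mem_filter.1 ha).2 (Finset.mem_filter.1 hb).2
  have h2 : (T 2).card = 0 ∨ ((T 2).card = 2 ∧ ∃ a, Nat.card (orb W a) = 2) := by
    rcases (T 2).eq_empty_or_nonempty with h | ⟨a, ha⟩
    · exact Or.inl (Finset.card_eq_zero.2 h)
    · right
      replace ha := (Finset.mem_filter.1 ha).2
      refine ⟨?_, a, ha⟩
      rw [show T 2 = (orb W a).toFinset from Finset.ext fun b => by
        simp only [T, Finset.mem_filter, Finset.mem_univ, true_and, Set.mem_toFinset]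
        exact ⟨pair_unique hW ha, fun h => by rw [orb_eq h, ha]⟩, Set.toFinset_card, ← Nat.card_eq_fintype_card, ha]
  refine ⟨(T 1).card, (T 2).card / 2, h1, by omega, by simp only [T] at *; omega, four_dvd_card hW _ (fun w hw x hx => ?_) fun x hx => (Finset.mem_filter.1 hx).2, ?_⟩
  · simp only [Finset.mem_filter, Finset.mem_univ, true_and, Big] at hx ⊢
    rwa [orb_eq ((orb_iff hw x).2 (self_mem_orb x))]
  · constructor
    · intro h
      rcases h2 with h2 | ⟨-, h2⟩
      · omega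
      · exact h2
    · rintro ⟨a, ha⟩
      rcases h2 with h2 | ⟨h2, -⟩
      · have : a ∈ T 2 := Finset.mem_filter.2 ⟨Finset.mem_univ _, ha⟩
        rw [Finset.card_eq_zero.1 h2] at this
        exact absurd this (Finset.notMem_empty _)
      · omega

theorem alt_mem {g : Perm (Fin n)} : g ∈ alternatingGroup (Fin n) ↔ Perm.sign g = 1 := Perm.mem_alternatingGroup

theorem sign_swap_z {z : Perm (Fin n)} (hz : IsZ W a z) {x : Fin n} (hx : x ∈ orb W a) :
    Perm.sign (swap x (z x)) = -1 := Perm.sign_swap (hz.2.2.2.1 x hx).symm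

/-- Adjust the parity away from an orbit. -/
theorem exists_even (hW : Max W) {w : Perm (Fin n)} (hw : w ∈ W) {c : Fin n} (hc : 1 < Nat.card (orb W c))
    (hca : c ∉ orb W a) : ∃ q ∈ W ⊓ alternatingGroup (Fin n), ∀ x ∈ orb W a, q x = w x := by
  obtain ⟨r, hr⟩ : ∃ r, r = res W a ⟨w, hw⟩ := ⟨_, rfl⟩
  have hrW : r ∈ W := hr ▸ res_range_le hW a ⟨_, rfl⟩
  have hrx : ∀ x ∈ orb W a, r x = w x := fun x hx => hr ▸ res_in _ hx
  rcases Int.units_eq_one_or (Perm.sign r) with h | h
  · exact ⟨r, ⟨hrW, alt_mem.2 h⟩, hrx⟩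
  · obtain ⟨z, hz⟩ := exists_z hW hc
    refine ⟨r * swap c (z c), ⟨mul_mem hrW (swap_mem hW hz (self_mem_orb c)), alt_mem.2 ?_⟩, fun x hx => ?_⟩
    · rw [map_mul, h, sign_swap_z hz (self_mem_orb c)]; rfl
    · rw [Perm.mul_apply, swap_out hz (self_mem_orb c) (fun h => hca (by
        rw [← orb_eq hx, orb_eq h]; exact self_mem_orb c)), hrx x hx]

open scoped Classical in
/-- If one factor is central on every big orbit, it is trivial. -/
theorem eq_bot_of_oneType (hW : Max W) (A B : Subgroup (Perm (Fin n)))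
    (hA : A ≤ W ⊓ alternatingGroup (Fin n)) (hB : B ≤ W ⊓ alternatingGroup (Fin n))
    (hcomm : ∀ g ∈ A, ∀ h ∈ B, g * h = h * g) (hinf : A ⊓ B = ⊥) (hsup : W ⊓ alternatingGroup (Fin n) ≤ A ⊔ B)
    (hother : ∀ a, Big W a → ∃ c, c ∉ orb W a ∧ 1 < Nat.card (orb W c))
    (hcen : ∀ a, Big W a → ∀ z, IsZ W a z → ∀ h ∈ B, Cen W a z h) : B = ⊥ := by
  haveI : Fact (Nat.Prime 2) := ⟨Nat.prime_two⟩
  let Q := W ⊓ alternatingGroup (Fin n)
  -- elements of `B` are central in `W`
  have hshape : ∀ h ∈ B, ∀ x, h x = x ∨ (Big W x ∧ ∃ z, IsZ W x z ∧ ∀ y ∈ orb W x, h y = z y) := by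
    intro h hh x
    by_cases hb : Big W x
    · obtain ⟨z, hz⟩ := exists_z hW (a := x) (by unfold Big at hb; omega)
      rcases hcen x hb z hz h hh with e | e
      · exact Or.inl (e x (self_mem_orb x))
      · exact Or.inr ⟨hb, z, hz, e⟩
    · left
      rcases small_cases hW x hb with hc | hc
      · exact fixed_of_single hc (hB hh).1
      · obtain ⟨z, hz⟩ := exists_z hW (a := x) (by omega)
        rcases orb_two hc hz ((orb_iff (hB hh).1 x).2 (self_mem_orb x)) with e | e
        · exact e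
        · exfalso
          -- otherwise `h` would be odd
          have hsgn := sign_of_cen hW (v := h * swap x (z x)) (mul_mem (hB hh).1 (swap_mem hW hz (self_mem_orb x))) ?_
          · rw [map_mul, alt_mem.1 (hB hh).2, sign_swap_z hz (self_mem_orb x)] at hsgn
            exact absurd hsgn (by decide)
          intro y
          by_cases hby : Big W y
          · obtain ⟨z', hz'⟩ := exists_z hW (a := y) (by unfold Big at hby; omega)
            have hout : ∀ y' ∈ orb W y, swap x (z x) y' = y' := fun y' hy' => swap_out hz (self_mem_orb x)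
              (fun h => hb (by unfold Big at hby ⊢; rw [← orb_eq h, orb_eq hy']; exact hby))
            rcases hcen y hby z' hz' h hh with e' | e'
            · exact Or.inl (by rw [Perm.mul_apply, hout y (self_mem_orb y), e' y (self_mem_orb y)])
            · exact Or.inr ⟨hby, z', hz', fun y' hy' => by rw [Perm.mul_apply, hout y' hy', e' y' hy']⟩
          · left
            rcases small_cases hW y hby with hcy | hcy
            · rw [Perm.mul_apply, swap_out hz (self_mem_orb x) (fun h => by rw [orb_eq h] at hcy; omega),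
                fixed_of_single hcy (hB hh).1]
            · rcases orb_two hc hz (pair_unique hW hc hcy) with rfl | rfl
              · rw [Perm.mul_apply, swap_apply_left, z_comm hz (hB hh).1, e, z_invol hz]
              · rw [Perm.mul_apply, swap_apply_right, e]
  have hBZ : ∀ h ∈ B, ∀ w ∈ W, w * h = h * w := fun h hh w hw => by
    ext x
    rw [Perm.mul_apply, Perm.mul_apply]
    rcases hshape h hh x with e | ⟨-, z, hz, e⟩
    · rw [e]
      rcases hshape h hh (w x) with e' | ⟨-, z', hz', e'⟩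
      · rw [e']
      · exfalso
        have hxo : x ∈ orb W (w x) := (orb_iff hw x).1 (self_mem_orb _)
        exact hz'.2.2.2.1 x hxo ((e' x hxo).symm.trans e)
    · rw [e x (self_mem_orb x), z_comm hz hw, e _ ((orb_iff hw x).2 (self_mem_orb x))]
  obtain ⟨D, hD⟩ : ∃ D, D = ⁅Q, Q⁆ := ⟨_, rfl⟩
  have hDA : D ≤ A := by
    rw [hD, Subgroup.commutator_le]
    have hdec : ∀ q ∈ Q, ∃ g ∈ A, ∃ h ∈ B, q = g * h := fun q hq => by
      have hBn : B ≤ Subgroup.normalizer (A : Set (Perm (Fin n))) := fun h hh =>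
        Subgroup.mem_normalizer_iff.2 fun g => ⟨fun hg => by rw [← hcomm g hg h hh, mul_inv_cancel_right]; exact hg,
          fun hg => by
            have := hcomm _ hg h hh
            have e : g = h * g * h⁻¹ := by
              calc g = h⁻¹ * (h * g * h⁻¹ * h) := by group
                _ = h⁻¹ * (h * (h * g * h⁻¹)) := by rw [this]
                _ = h * g * h⁻¹ := by group
            rwa [e]⟩
      have := hsup hq
      rw [← SetLike.mem_coe, Subgroup.coe_mul_of_right_le_normalizer_left A B hBn] at this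
      obtain ⟨g, hg, h, hh, rfl⟩ := Set.mem_mul.1 this
      exact ⟨g, hg, h, hh, rfl⟩
    intro q hq q' hq'
    obtain ⟨g, hg, h, hh, rfl⟩ := hdec q hq
    obtain ⟨g', hg', h', hh', rfl⟩ := hdec q' hq'
    have c1 : ∀ w ∈ W, ∀ b ∈ B, Commute w b := fun w hw b hb => hBZ b hb w hw
    have e : ⁅g * h, g' * h'⁆ = ⁅g, g'⁆ := by
      simp only [commutatorElement_def, mul_inv_rev]
      have a1 := (c1 g' (hA hg').1 h hh).eq
      calc g * h * (g' * h') * (h⁻¹ * g⁻¹) * (h'⁻¹ * g'⁻¹)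
          = g * (h * g') * (h' * h⁻¹) * (g⁻¹ * h'⁻¹) * g'⁻¹ := by group
        _ = g * (g' * h) * (h⁻¹ * h') * (h'⁻¹ * g⁻¹) * g'⁻¹ := by
            rw [a1, (c1 h⁻¹ (inv_mem (hB hh).1) h' hh').eq, (c1 g⁻¹ (inv_mem (hA hg).1) h'⁻¹ (inv_mem hh')).eq]
        _ = _ := by group
    show ⁅g * h, g' * h'⁆ ∈ A
    rw [e, commutatorElement_def]
    exact mul_mem (mul_mem (mul_mem hg hg') (inv_mem hg)) (inv_mem hg')
  -- the central involution of each big orbit is a commutator
  have hzD : ∀ a, Big W a → ∀ z, IsZ W a z → z ∈ D := by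
    intro a ha z hz
    let K : Subgroup (Perm (Fin n)) :=
      { carrier := {g | g ∈ D ∧ ∀ x ∉ orb W a, g x = x}
        one_mem' := ⟨one_mem _, fun x _ => rfl⟩
        mul_mem' := fun {g h} hg hh => ⟨mul_mem hg.1 hh.1, fun x hx => by rw [Perm.mul_apply, hh.2 x hx, hg.2 x hx]⟩
        inv_mem' := fun {g} hg => ⟨inv_mem hg.1, fun x hx => Perm.inv_eq_iff_eq.2 (hg.2 x hx).symm⟩ }
    have hDQ : D ≤ Q := hD ▸ Subgroup.commutator_le_self Q
    have hQn : ∀ w ∈ W, ∀ q ∈ Q, w * q * w⁻¹ ∈ Q := fun w hw q hq =>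
      Subgroup.mem_inf.2 ⟨W.mul_mem (W.mul_mem hw hq.1) (W.inv_mem hw), alt_mem.2 (by
        rw [map_mul, map_mul, map_inv, alt_mem.1 hq.2, mul_one, mul_inv_cancel])⟩
    have hKn : ∀ w ∈ W, ∀ g ∈ K, w * g * w⁻¹ ∈ K := fun w hw g hg => by
      refine ⟨?_, fun x hx => ?_⟩
      · have hle : D.map (MulAut.conj w).toMonoidHom ≤ D := by
          have hQle : Q.map (MulAut.conj w).toMonoidHom ≤ Q := by
            rintro _ ⟨q, hq, rfl⟩; exact hQn w hw q hq
          rw [hD, Subgroup.map_commutator]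
          exact Subgroup.commutator_mono hQle hQle
        exact hle ⟨g, hg.1, rfl⟩
      · rw [Perm.mul_apply, Perm.mul_apply, hg.2 _ (fun h => hx ((orb_iff (inv_mem hw) x).1 h)), Perm.coe_inv, Equiv.apply_symm_apply]
    obtain ⟨c₀, hc₀, hc₀'⟩ := hother a ha
    obtain ⟨z₀, hz₀⟩ := exists_z hW hc₀'
    have hK : K ≠ ⊥ := by
      obtain ⟨y, hy, hy1, hy2, -⟩ := exists_off ha (z := z) a a
      obtain ⟨w, hw, rfl⟩ := hy
      obtain ⟨r, hr⟩ : ∃ r, r = res W a ⟨w, hw⟩ := ⟨_, rfl⟩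
      have hrW : r ∈ W := hr ▸ res_range_le hW a ⟨_, rfl⟩
      have hs₀ : ∀ x ∈ orb W a, swap c₀ (z₀ c₀) x = x := fun x hx => swap_out hz₀ (self_mem_orb c₀) fun h => hc₀ (by
        rw [← orb_eq hx, orb_eq h]; exact self_mem_orb c₀)
      have hr₀ : r * swap c₀ (z₀ c₀) * r⁻¹ = swap c₀ (z₀ c₀) := by
        rw [← swap_apply_apply, hr, res_out _ hc₀, res_out _ (fun h => hc₀ ((orb_iff hz₀.1 c₀).1 h))]
      obtain ⟨p, hp, hpa, hp0⟩ : ∃ p ∈ Q, p a = w a ∧ p * swap c₀ (z₀ c₀) * p⁻¹ = swap c₀ (z₀ c₀) := by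
        rcases Int.units_eq_one_or (Perm.sign r) with h | h
        · exact ⟨r, ⟨hrW, alt_mem.2 h⟩, hr ▸ res_in _ (self_mem_orb a), hr₀⟩
        · refine ⟨r * swap c₀ (z₀ c₀), ⟨mul_mem hrW (swap_mem hW hz₀ (self_mem_orb c₀)), alt_mem.2 ?_⟩, ?_, ?_⟩
          · rw [map_mul, h, sign_swap_z hz₀ (self_mem_orb c₀)]; rfl
          · rw [Perm.mul_apply, hs₀ a (self_mem_orb a), hr, res_in _ (self_mem_orb a)]
          · rw [mul_inv_rev, swap_inv]
            calc r * swap c₀ (z₀ c₀) * swap c₀ (z₀ c₀) * (swap c₀ (z₀ c₀) * r⁻¹)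
                = r * (swap c₀ (z₀ c₀) * swap c₀ (z₀ c₀)) * (swap c₀ (z₀ c₀) * r⁻¹) := by group
              _ = _ := by rw [swap_mul_self, mul_one, ← mul_assoc, hr₀]
      obtain ⟨q, hq⟩ : ∃ q, q = swap a (z a) * swap c₀ (z₀ c₀) := ⟨_, rfl⟩
      have hqQ : q ∈ Q := hq ▸ ⟨mul_mem (swap_mem hW hz (self_mem_orb a)) (swap_mem hW hz₀ (self_mem_orb c₀)),
        alt_mem.2 (by rw [map_mul, sign_swap_z hz (self_mem_orb a), sign_swap_z hz₀ (self_mem_orb c₀)]; rfl)⟩
      have he : ⁅p, q⁆ = swap (w a) (z (w a)) * swap a (z a) := by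
        rw [commutatorElement_def, hq, mul_inv_rev, swap_inv, swap_inv, ← hpa, ← z_comm hz hp.1, swap_apply_apply]
        calc p * (swap a (z a) * swap c₀ (z₀ c₀)) * p⁻¹ * (swap c₀ (z₀ c₀) * swap a (z a))
            = p * swap a (z a) * p⁻¹ * ((p * swap c₀ (z₀ c₀) * p⁻¹) * swap c₀ (z₀ c₀)) * swap a (z a) := by group
          _ = _ := by rw [hp0, swap_mul_self, mul_one]
      intro hbot
      have hmem : ⁅p, q⁆ ∈ K := ⟨hD ▸ Subgroup.commutator_mem_commutator hp hqQ, fun x hx => by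
        rw [he, Perm.mul_apply, swap_out hz (self_mem_orb a) hx, swap_out hz ((orb_iff hw a).2 (self_mem_orb a)) hx]⟩
      rw [hbot, Subgroup.mem_bot] at hmem
      rw [hmem] at he
      have := Equiv.congr_fun he a
      rw [Perm.one_apply, Perm.mul_apply, swap_apply_left] at this
      have hne : z a ≠ w a := Ne.symm hy2
      rw [swap_apply_of_ne_of_ne hne (fun h => hy1 (z.injective h).symm)] at this
      exact hz.2.2.2.1 a (self_mem_orb a) this.symm
    obtain ⟨c, hcK, hc1, hcc⟩ := exists_central (A := K) hW.isPGroup (fun g (hg : g ∈ K) => (hDQ hg.1).1) hKn hK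
    have hcW : c ∈ W := (hDQ hcK.1).1
    have hcz : c = z := by
      rcases eq_or_eq hz (mem_cyc_of_commute (hz.2.2.2.1 a (self_mem_orb a))
        (hcc _ (swap_mem hW hz (self_mem_orb a))).symm) (fun y hy => by
          obtain ⟨w, hw, rfl⟩ := hy
          exact ⟨w, hw, rfl, by rw [← Perm.mul_apply, ← hcc w hw]; rfl⟩) with e | e
      · exfalso
        apply hc1
        ext x
        by_cases hx : x ∈ orb W a
        · rw [e x hx]; rfl
        · rw [hcK.2 x hx]; rfl
      · ext x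
        by_cases hx : x ∈ orb W a
        · rw [e x hx]
        · rw [hcK.2 x hx, hz.2.2.2.2 x hx]
    exact hcz ▸ hcK.1
  have hBD : ∀ m, ∀ v : Perm (Fin n), v.support.card = m → v ∈ W →
      (∀ x, v x = x ∨ (Big W x ∧ ∃ z, IsZ W x z ∧ ∀ y ∈ orb W x, v y = z y)) → v ∈ D := by
    intro m
    induction m using Nat.strong_induction_on with
    | _ m ih =>
      intro v hm hv hs
      by_cases hv1 : v = 1
      · rw [hv1]; exact one_mem _
      obtain ⟨x, hx⟩ : ∃ x, v x ≠ x := by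
        by_contra h
        push Not at h
        exact hv1 (Equiv.ext h)
      obtain ⟨hbx, z, hz, he⟩ := (hs x).resolve_left hx
      have hlt : (v * z).support.card < v.support.card := by
        refine Finset.card_lt_card ((Finset.ssubset_iff_of_subset fun y hy => ?_).2 ⟨x, Perm.mem_support.2 hx, ?_⟩)
        · rw [Perm.mem_support] at hy ⊢
          by_cases hyo : y ∈ orb W x
          · rw [Perm.mul_apply, he _ ((orb_iff hz.1 y).2 hyo), z_invol hz] at hy
            exact absurd rfl hy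
          · rwa [Perm.mul_apply, hz.2.2.2.2 y hyo] at hy
        · rw [Perm.mem_support, not_not, Perm.mul_apply, he _ ((orb_iff hz.1 x).2 (self_mem_orb x)), z_invol hz]
      have hvz : v * z ∈ D := ih _ (hm ▸ hlt) _ rfl (mul_mem hv hz.1) fun y => by
        by_cases hyo : y ∈ orb W x
        · exact Or.inl (by rw [Perm.mul_apply, he _ ((orb_iff hz.1 y).2 hyo), z_invol hz])
        · rcases hs y with e | ⟨hby, z', hz', e⟩
          · exact Or.inl (by rw [Perm.mul_apply, hz.2.2.2.2 y hyo, e])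
          · refine Or.inr ⟨hby, z', hz', fun y' hy' => ?_⟩
            rw [Perm.mul_apply, hz.2.2.2.2 y' (fun h => hyo (by rw [← orb_eq h, orb_eq hy']; exact self_mem_orb y)),
              e y' hy']
      have := mul_mem hvz (inv_mem (hzD x hbx z hz))
      rwa [mul_inv_cancel_right] at this
  rw [eq_bot_iff, ← hinf]
  exact fun h hh => ⟨hDA (hBD _ h rfl (hB hh).1 (hshape h hh)), hh⟩

open scoped Classical in
theorem exists_big (hW : Max W) (hn : 4 ≤ n) : ∃ a, Big W a := by
  obtain ⟨e₁, e₂, h1, h2, he, -, -⟩ := degree_eq hW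
  by_contra h
  push Not at h
  rw [Finset.filter_false_of_mem fun x _ => h x, Finset.card_empty] at he
  omega

theorem isZ_of_mem {z : Perm (Fin n)} (hz : IsZ W a z) {x : Fin n} (hx : x ∈ orb W a) : IsZ W x z := by
  unfold IsZ at hz ⊢
  rwa [orb_eq hx]

theorem cen_of_mem {z g : Perm (Fin n)} (hg : Cen W a z g) {x : Fin n} (hx : x ∈ orb W a) : Cen W x z g := by
  unfold Cen at hg ⊢
  rwa [orb_eq hx]

theorem big_of_mem (ha : Big W a) {x : Fin n} (hx : x ∈ orb W a) : Big W x := by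
  unfold Big at ha ⊢
  rwa [orb_eq hx]

theorem isZ_unique (hW : Max W) {z z' : Perm (Fin n)} (hz : IsZ W a z) (hz' : IsZ W a z') :
    ∀ x ∈ orb W a, z' x = z x := by
  intro x hx
  obtain ⟨w, hw, rfl⟩ := hx
  rw [← z_comm hz hw, ← z_comm hz' hw]
  congr 1
  exact (mem_cyc_of_commute (hz.2.2.2.1 a (self_mem_orb a))
    (hz'.2.2.1 _ (swap_mem hW hz (self_mem_orb a))).symm).resolve_left (hz'.2.2.2.1 a (self_mem_orb a))

theorem normal_of_dec {A B Q : Subgroup (Perm (Fin n))} (hcomm : ∀ g ∈ A, ∀ h ∈ B, g * h = h * g)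
    (hsup : Q ≤ A ⊔ B) : ∀ q ∈ Q, ∀ g ∈ A, q * g * q⁻¹ ∈ A := by
  have hB : B ≤ Subgroup.normalizer (A : Set (Perm (Fin n))) := fun h hh => Subgroup.mem_normalizer_iff.2 fun g =>
    ⟨fun hg => by rw [← hcomm g hg h hh, mul_inv_cancel_right]; exact hg, fun hg => by
      have := hcomm _ hg h hh
      have e : g = h * g * h⁻¹ := by
        calc g = h⁻¹ * (h * g * h⁻¹ * h) := by group
          _ = h⁻¹ * (h * (h * g * h⁻¹)) := by rw [this]
          _ = h * g * h⁻¹ := by group
      rwa [e]⟩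
  exact fun q hq g hg => (Subgroup.mem_normalizer_iff.1 (sup_le Subgroup.le_normalizer hB (hsup hq)) g).1 hg

theorem exists_dec {A B Q : Subgroup (Perm (Fin n))} (hcomm : ∀ g ∈ A, ∀ h ∈ B, g * h = h * g)
    (hsup : Q ≤ A ⊔ B) {q : Perm (Fin n)} (hq : q ∈ Q) : ∃ g ∈ A, ∃ h ∈ B, q = g * h := by
  have hB : B ≤ Subgroup.normalizer (A : Set (Perm (Fin n))) := fun h hh => Subgroup.mem_normalizer_iff.2 fun g =>
    ⟨fun hg => normal_of_dec hcomm le_rfl h (Subgroup.mem_sup_right hh) g hg, fun hg => by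
      have := normal_of_dec hcomm le_rfl h⁻¹ (inv_mem (Subgroup.mem_sup_right hh)) _ hg
      simpa [mul_assoc] using this⟩
  have h1 := hsup hq
  rw [← SetLike.mem_coe, Subgroup.coe_mul_of_right_le_normalizer_left A B hB] at h1
  obtain ⟨g, hg, h, hh, rfl⟩ := Set.mem_mul.1 h1
  exact ⟨g, hg, h, hh, rfl⟩

theorem exists_notin (s : Finset (Fin n)) (h : s.card < Nat.card (orb W a)) : ∃ y ∈ orb W a, y ∉ s := by
  by_contra hne
  push Not at hne
  have h1 := Nat.card_mono s.finite_toSet (fun y hy => hne y hy)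
  rw [Nat.card_eq_fintype_card (α := ↥(s : Set (Fin n)))] at h1
  simp only [Finset.coe_sort_coe, Fintype.card_coe] at h1
  omega

/-- With one long orbit, the centre of the Sylow subgroup has order two. -/
theorem eq_z_of_central (hW : Max W) (h5 : 5 ≤ Nat.card (orb W a)) {z : Perm (Fin n)} (hz : IsZ W a z)
    (hout : ∀ x ∉ orb W a, Nat.card (orb W x) = 1) {c : Perm (Fin n)} (hc : c ∈ W) (hc1 : c ≠ 1)
    (hcc : ∀ q ∈ W ⊓ alternatingGroup (Fin n), q * c = c * q) : c = z := by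
  have hpq : ∀ x ∈ orb W a, ∀ y ∈ orb W a, swap x (z x) * swap y (z y) ∈ W ⊓ alternatingGroup (Fin n) :=
    fun x hx y hy => Subgroup.mem_inf.2 ⟨W.mul_mem (swap_mem hW hz hx) (swap_mem hW hz hy),
      alt_mem.2 (by rw [map_mul, sign_swap_z hz hx, sign_swap_z hz hy]; rfl)⟩
  have hpair : ∀ x ∈ orb W a, c x = x ∨ c x = z x := by
    intro x hx
    have key : ∀ y ∈ orb W a, y ≠ x → y ≠ z x → c x = x ∨ c x = z x ∨ c x = y ∨ c x = z y := by
      intro y hy h1 h2
      by_contra hne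
      push Not at hne
      have h3 : x ≠ z y := fun e => h2 (by rw [e, z_invol hz])
      have h4 : z x ≠ z y := fun e => h1 (z.injective e).symm
      have e := Equiv.congr_fun (hcc _ (hpq x hx y hy)) x
      simp only [Perm.mul_apply] at e
      rw [swap_apply_of_ne_of_ne hne.2.2.1 hne.2.2.2, swap_apply_of_ne_of_ne hne.1 hne.2.1,
        swap_apply_of_ne_of_ne (Ne.symm h1) h3, swap_apply_left] at e
      exact hz.2.2.2.1 x hx (c.injective e).symm
    obtain ⟨y, hy, hy'⟩ := exists_notin ({x, z x} : Finset (Fin n)) (a := a) (W := W)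
      (lt_of_le_of_lt Finset.card_le_two (by omega))
    obtain ⟨u, hu, hu'⟩ := exists_notin ({x, z x, y, z y} : Finset (Fin n)) (a := a) (W := W)
      (lt_of_le_of_lt Finset.card_le_four (by omega))
    simp only [Finset.mem_insert, Finset.mem_singleton, not_or] at hy' hu'
    rcases key y hy hy'.1 hy'.2 with e | e | e | e
    · exact Or.inl e
    · exact Or.inr e
    all_goals
      rcases key u hu hu'.1 hu'.2.1 with e' | e' | e' | e'
      · exact Or.inl e'
      · exact Or.inr e'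
      all_goals exfalso; rw [e] at e'
    · exact hu'.2.2.1 e'.symm
    · exact hu'.2.2.2 (by rw [e', z_invol hz])
    · exact hu'.2.2.2 e'.symm
    · exact hu'.2.2.1 (z.injective e').symm
  have htr : ∀ y ∈ orb W a, ∃ q ∈ W, q a = y ∧ c (q a) = q (c a) := by
    intro y hy
    obtain ⟨w, hw, rfl⟩ := hy
    obtain ⟨q, hq, hqa⟩ : ∃ q ∈ W ⊓ alternatingGroup (Fin n), q a = w a := by
      rcases Int.units_eq_one_or (Perm.sign w) with h | h
      · exact ⟨w, Subgroup.mem_inf.2 ⟨hw, alt_mem.2 h⟩, rfl⟩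
      · obtain ⟨b, hb, hb'⟩ := exists_notin ({a, z a} : Finset (Fin n)) (a := a) (W := W)
          (lt_of_le_of_lt Finset.card_le_two (by omega))
        simp only [Finset.mem_insert, Finset.mem_singleton, not_or] at hb'
        refine ⟨w * swap b (z b), Subgroup.mem_inf.2 ⟨W.mul_mem hw (swap_mem hW hz hb), alt_mem.2 ?_⟩, ?_⟩
        · rw [map_mul, h, sign_swap_z hz hb]; rfl
        · rw [Perm.mul_apply, swap_apply_of_ne_of_ne (Ne.symm hb'.1) (fun e => hb'.2 (by rw [e, z_invol hz]))]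
    exact ⟨q, hq.1, hqa, by rw [← Perm.mul_apply, ← hcc q hq]; rfl⟩
  have hfix : ∀ x ∉ orb W a, c x = x := fun x hx => fixed_of_single (hout x hx) hc
  rcases eq_or_eq hz (hpair a (self_mem_orb a)) htr with e | e
  · exfalso
    refine hc1 (Equiv.ext fun x => ?_)
    by_cases hx : x ∈ orb W a
    · rw [e x hx]; rfl
    · rw [hfix x hx]; rfl
  · refine Equiv.ext fun x => ?_
    by_cases hx : x ∈ orb W a
    · exact e x hx
    · rw [hfix x hx, hz.2.2.2.2 x hx]

theorem exists_orbit_ge (S : Sylow 2 (Perm (Fin n))) (r : ℕ) (hr : 2 ^ r ≤ n) :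
    ∃ x, 2 ^ r ≤ Nat.card (orb (S : Subgroup (Perm (Fin n))) x) := by
  haveI : Fact (Nat.Prime 2) := ⟨Nat.prime_two⟩
  haveI : NeZero (2 ^ r) := ⟨by positivity⟩
  let f : Fin (2 ^ r) ≃ {x : Fin n // (x : ℕ) < 2 ^ r} :=
    { toFun := fun i => ⟨Fin.castLE hr i, i.2⟩
      invFun := fun x => ⟨x.1, x.2⟩
      left_inv := fun i => rfl
      right_inv := fun x => rfl }
  let φ : Multiplicative (Fin (2 ^ r)) →* Perm (Fin n) :=
    (Perm.extendDomainHom f).comp (MulAction.toPermHom (Multiplicative (Fin (2 ^ r))) (Fin (2 ^ r)))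
  have hp : IsPGroup 2 φ.range := (IsPGroup.of_card (n := r) (by
    rw [Nat.card_congr Multiplicative.toAdd, Nat.card_eq_fintype_card, Fintype.card_fin])).of_surjective
      φ.rangeRestrict φ.rangeRestrict_surjective
  obtain ⟨S', hS'⟩ := hp.exists_le_sylow
  obtain ⟨g, hg⟩ := MulAction.exists_smul_eq (Perm (Fin n)) S' S
  have key : ∀ i : Fin (2 ^ r), φ (Multiplicative.ofAdd i) (f 0) = f i := fun i => by
    show Perm.extendDomain (MulAction.toPermHom (Multiplicative (Fin (2 ^ r))) (Fin (2 ^ r))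
      (Multiplicative.ofAdd i)) f _ = _
    rw [Perm.extendDomain_apply_image]
    show (f (i + 0) : Fin n) = f i
    rw [add_zero]
  refine ⟨g (f 0), ?_⟩
  have hmem : ∀ i, g (f i : Fin n) ∈ orb (S : Subgroup (Perm (Fin n))) (g (f 0)) := fun i =>
    ⟨g * φ (Multiplicative.ofAdd i) * g⁻¹, by
      rw [← hg, Sylow.coe_subgroup_smul]
      exact ⟨_, hS' ⟨_, rfl⟩, rfl⟩, by
      rw [Perm.mul_apply, Perm.mul_apply, Perm.coe_inv, Equiv.symm_apply_apply, key]⟩
  have := Nat.card_le_card_of_injective (fun i : Fin (2 ^ r) => (⟨_, hmem i⟩ : orb (S : Subgroup (Perm (Fin n))) (g (f 0))))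
    (fun i j h => f.injective (Subtype.ext (g.injective (congrArg Subtype.val h))))
  rwa [Nat.card_eq_fintype_card, Fintype.card_fin] at this

open scoped Classical in
/-- The conditions are necessary. -/
theorem forward (S : Sylow 2 (Perm (Fin n))) (hn : 4 ≤ n) (A B : Subgroup (Perm (Fin n))) (hA0 : A ≠ ⊥) (hB0 : B ≠ ⊥)
    (hcomm : ∀ g ∈ A, ∀ h ∈ B, g * h = h * g) (hinf : A ⊓ B = ⊥)
    (hsup : A ⊔ B = (S : Subgroup (Perm (Fin n))) ⊓ alternatingGroup (Fin n)) :
    n = 4 ∨ n = 5 ∨ ((n % 4 = 2 ∨ n % 4 = 3) ∧ ∀ r : ℕ, 4 * (n / 4) ≠ 2 ^ r) := by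
  haveI : Fact (Nat.Prime 2) := ⟨Nat.prime_two⟩
  obtain ⟨W, hWdef⟩ : ∃ W : Subgroup (Perm (Fin n)), W = (S : Subgroup (Perm (Fin n))) := ⟨_, rfl⟩
  have hW : Max W := hWdef ▸ ⟨S.isPGroup', fun R hR h => S.is_maximal' hR h⟩
  rw [← hWdef] at hsup
  have hAQ : A ≤ W ⊓ alternatingGroup (Fin n) := hsup ▸ le_sup_left
  have hBQ : B ≤ W ⊓ alternatingGroup (Fin n) := hsup ▸ le_sup_right
  have hQp : IsPGroup 2 ↥(W ⊓ alternatingGroup (Fin n)) := hW.isPGroup.to_le inf_le_left
  have hcomm' : ∀ h ∈ B, ∀ g ∈ A, h * g = g * h := fun h hh g hg => (hcomm g hg h hh).symm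
  by_cases hother : ∀ a, Big W a → ∃ c, c ∉ orb W a ∧ 1 < Nat.card (orb W c)
  swap
  · -- a single long orbit
    push Not at hother
    obtain ⟨a, ha, hs⟩ := hother
    have hout : ∀ x ∉ orb W a, Nat.card (orb W x) = 1 := fun x hx => le_antisymm (hs x hx) (Nat.card_pos_iff.2
      ⟨⟨⟨x, self_mem_orb x⟩⟩, inferInstance⟩)
    obtain ⟨z, hz⟩ := exists_z hW (a := a) (by unfold Big at ha; omega)
    by_cases h5 : 5 ≤ Nat.card (orb W a)
    · exfalso
      have hzmem : ∀ C, C ≤ W ⊓ alternatingGroup (Fin n) → C ≠ ⊥ →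
          (∀ q ∈ W ⊓ alternatingGroup (Fin n), ∀ g ∈ C, q * g * q⁻¹ ∈ C) → z ∈ C := fun C hC hC0 hCn => by
        obtain ⟨c, hc, hc1, hcc⟩ := exists_central hQp hC hCn hC0
        exact eq_z_of_central hW h5 hz hout (hC hc).1 hc1 hcc ▸ hc
      have h1 : z ∈ A ⊓ B := Subgroup.mem_inf.2 ⟨hzmem A hAQ hA0 (normal_of_dec hcomm hsup.ge),
        hzmem B hBQ hB0 (normal_of_dec hcomm' (sup_comm A B ▸ hsup.ge))⟩
      rw [hinf, Subgroup.mem_bot] at h1
      exact hz.2.2.2.1 a (self_mem_orb a) (by rw [h1]; rfl)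
    · have h4 : Nat.card (orb W a) = 4 := by unfold Big at ha; omega
      have h1 : (Finset.univ.filter fun x => x ∉ orb W a).card ≤ 1 := Finset.card_le_one.2 fun x hx y hy =>
        single_unique hW (hout x (Finset.mem_filter.1 hx).2) (hout y (Finset.mem_filter.1 hy).2)
      have h2 := Finset.card_filter_add_card_filter_not (s := (Finset.univ : Finset (Fin n))) (· ∈ orb W a)
      have h3 : (Finset.univ.filter (· ∈ orb W a)).card = 4 := by
        rw [← h4, Nat.card_eq_fintype_card, Fintype.card_subtype]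
      rw [h3, Finset.card_univ, Fintype.card_fin] at h2
      omega
  -- every long orbit has company
  have hcc : ∀ a, Big W a → ∀ z, IsZ W a z → (∀ h ∈ B, Cen W a z h) ∨ (∀ g ∈ A, Cen W a z g) := by
    intro a ha z hz
    obtain ⟨c₀, hc₀, hc₀'⟩ := hother a ha
    exact cen_or_cen hz ha (fun x hx => swap_mem hW hz hx) _ A B inf_le_left
      (fun w hw => exists_even hW hw hc₀' hc₀) hAQ hBQ (normal_of_dec hcomm hsup.ge)
      (normal_of_dec hcomm' (sup_comm A B ▸ hsup.ge)) hcomm hsup.ge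
  obtain ⟨a, ha, za, hza, hAa, h₀, hh₀, hh₀'⟩ : ∃ a, Big W a ∧ ∃ z, IsZ W a z ∧ (∀ g ∈ A, Cen W a z g) ∧
      ∃ h ∈ B, ¬ Cen W a z h := by
    by_contra hne
    push Not at hne
    refine hB0 (eq_bot_of_oneType hW A B hAQ hBQ hcomm hinf hsup.ge hother fun a ha z hz => ?_)
    rcases hcc a ha z hz with h | h
    exacts [h, hne a ha z hz h]
  obtain ⟨c, hc, zc, hzc, hBc, g₀, hg₀, hg₀'⟩ : ∃ a, Big W a ∧ ∃ z, IsZ W a z ∧ (∀ h ∈ B, Cen W a z h) ∧
      ∃ g ∈ A, ¬ Cen W a z g := by
    by_contra hne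
    push Not at hne
    refine hA0 (eq_bot_of_oneType hW B A hBQ hAQ hcomm' (inf_comm A B ▸ hinf) (sup_comm A B ▸ hsup.ge) hother
      fun a ha z hz => ?_)
    rcases hcc a ha z hz with h | h
    exacts [hne a ha z hz h, h]
  have hca : c ∉ orb W a := fun hca => hg₀' (by
    have hu := isZ_unique hW (isZ_of_mem hza hca) hzc
    rcases cen_of_mem (hAa g₀ hg₀) hca with e | e
    · exact Or.inl e
    · exact Or.inr fun x hx => (e x hx).trans (hu x hx).symm)
  obtain ⟨p₀, hp₀⟩ : ∃ p₀, Nat.card (orb W p₀) = 2 := by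
    by_contra hno
    push Not at hno
    have hqQ : swap a (za a) * swap c (zc c) ∈ W ⊓ alternatingGroup (Fin n) := Subgroup.mem_inf.2
      ⟨W.mul_mem (swap_mem hW hza (self_mem_orb a)) (swap_mem hW hzc (self_mem_orb c)),
        alt_mem.2 (by rw [map_mul, sign_swap_z hza (self_mem_orb a), sign_swap_z hzc (self_mem_orb c)]; rfl)⟩
    obtain ⟨α, hα, β, hβ, he⟩ := exists_dec hcomm hsup.ge hqQ
    have hdis : ∀ x ∈ orb W c, x ∉ orb W a := fun x hx hxa => hca (by
      rw [← orb_eq hxa, orb_eq hx]; exact self_mem_orb c)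
    have hsgn := sign_of_cen hW (v := α * swap c (zc c))
      (W.mul_mem (hAQ hα).1 (swap_mem hW hzc (self_mem_orb c))) fun x => ?_
    · rw [map_mul, alt_mem.1 (hAQ hα).2, sign_swap_z hzc (self_mem_orb c)] at hsgn
      exact absurd hsgn (by decide)
    by_cases hx : Big W x
    swap
    · left
      rcases small_cases hW x hx with h | h
      · exact fixed_of_single h (W.mul_mem (hAQ hα).1 (swap_mem hW hzc (self_mem_orb c)))
      · exact absurd h (hno x)
    by_cases hxc : x ∈ orb W c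
    · -- on the orbit of `c`
      have hout : ∀ y ∈ orb W c, α (β y) = swap c (zc c) y := fun y hy => by
        rw [← Perm.mul_apply, ← he, Perm.mul_apply,
          swap_out hza (self_mem_orb a) (hdis _ ((orb_iff (swap_mem hW hzc (self_mem_orb c)) y).2 hy))]
      have hsw' := fun (y : Fin n) (hy : y ∈ orb W c) => (orb_iff (swap_mem hW hzc (self_mem_orb c)) y).2 hy
      rcases hBc β hβ with e | e
      · left
        have := hout _ (hsw' x hxc)
        rw [e _ (hsw' x hxc), ← Perm.mul_apply (swap c (zc c)), swap_mul_self] at this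
        exact this
      · refine Or.inr ⟨hx, zc, isZ_of_mem hzc hxc, fun y hy => ?_⟩
        rw [orb_eq hxc] at hy
        have h2 : zc (swap c (zc c) y) ∈ orb W c := (orb_iff hzc.1 _).2 (hsw' y hy)
        have := hout _ h2
        rw [e _ h2, z_invol hzc] at this
        rw [Perm.mul_apply, this, z_comm hzc (swap_mem hW hzc (self_mem_orb c)), ← Perm.mul_apply (swap c (zc c)),
          swap_mul_self]
        rfl
    have hxc' : ∀ y ∈ orb W x, y ∉ orb W c := fun y hy hyc => hxc (by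
      rw [← orb_eq hyc, orb_eq hy]; exact self_mem_orb x)
    obtain ⟨z, hz, hcenα⟩ : ∃ z, IsZ W x z ∧ Cen W x z α := by
      by_cases hxa : x ∈ orb W a
      · exact ⟨za, isZ_of_mem hza hxa, cen_of_mem (hAa α hα) hxa⟩
      obtain ⟨z, hz⟩ := exists_z hW (a := x) (by unfold Big at hx; omega)
      refine ⟨z, hz, ?_⟩
      rcases hcc x hx z hz with h | h
      swap
      · exact h α hα
      have hout : ∀ y ∈ orb W x, α (β y) = y := fun y hy => by
        rw [← Perm.mul_apply, ← he, Perm.mul_apply, swap_out hzc (self_mem_orb c) (hxc' y hy),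
          swap_out hza (self_mem_orb a) fun h => hxa (by rw [← orb_eq h, orb_eq hy]; exact self_mem_orb x)]
      rcases h β hβ with e | e
      · refine Or.inl fun y hy => ?_
        have := hout y hy
        rwa [e y hy] at this
      · refine Or.inr fun y hy => ?_
        have h2 : z y ∈ orb W x := (orb_iff hz.1 y).2 hy
        have := hout _ h2
        rwa [e _ h2, z_invol hz] at this
    have hv : ∀ y ∈ orb W x, (α * swap c (zc c)) y = α y := fun y hy => by
      rw [Perm.mul_apply, swap_out hzc (self_mem_orb c) (hxc' y hy)]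
    rcases hcenα with e | e
    · exact Or.inl (by rw [hv x (self_mem_orb x), e x (self_mem_orb x)])
    · exact Or.inr ⟨hx, z, hz, fun y hy => by rw [hv y hy, e y hy]⟩
  obtain ⟨e₁, e₂, he₁, he₂, heq, h4, h2⟩ := degree_eq hW
  have he2 : e₂ = 1 := h2.2 ⟨p₀, hp₀⟩
  refine Or.inr (Or.inr ⟨by omega, fun r hr => ?_⟩)
  obtain ⟨x, hx⟩ := exists_orbit_ge S r (by omega)
  rw [← hWdef, ← hr] at hx
  have hxb : Big W x := by unfold Big; omega
  have hcard : (orb W x).toFinset = Finset.univ.filter (Big W) := by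
    refine Finset.eq_of_subset_of_card_le (fun y hy => Finset.mem_filter.2
      ⟨Finset.mem_univ _, big_of_mem hxb (Set.mem_toFinset.1 hy)⟩) ?_
    rw [Set.toFinset_card, ← Nat.card_eq_fintype_card]
    omega
  have hmem : ∀ y, Big W y → y ∈ orb W x := fun y hy => by
    rw [← Set.mem_toFinset, hcard]; exact Finset.mem_filter.2 ⟨Finset.mem_univ _, hy⟩
  exact hca (by rw [orb_eq (hmem a ha)]; exact hmem c hc)

open scoped Classical in
/-- The conditions are sufficient for `6 ≤ n`. -/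
theorem backward (hW : Max W) (hn : 4 ≤ n) (h23 : n % 4 = 2 ∨ n % 4 = 3) (hpow : ∀ r : ℕ, 4 * (n / 4) ≠ 2 ^ r) :
    ∃ A B : Subgroup (Perm (Fin n)), A ≠ ⊥ ∧ B ≠ ⊥ ∧ (∀ g ∈ A, ∀ h ∈ B, g * h = h * g) ∧ A ⊓ B = ⊥ ∧
      A ⊔ B = W ⊓ alternatingGroup (Fin n) := by
  obtain ⟨e₁, e₂, he₁, he₂, heq, h4, h2⟩ := degree_eq hW
  obtain ⟨c, hc⟩ := h2.1 (by omega)
  obtain ⟨a, ha⟩ := exists_big hW hn
  obtain ⟨a', ha', haa'⟩ : ∃ a', Big W a' ∧ a' ∉ orb W a := by
    by_contra hne
    push Not at hne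
    obtain ⟨k, hk⟩ := card_orb hW a
    refine hpow k ?_
    have hcard : (orb W a).toFinset = Finset.univ.filter (Big W) := Finset.ext fun y => by
      simp only [Set.mem_toFinset, Finset.mem_filter, Finset.mem_univ, true_and]
      exact ⟨big_of_mem ha, hne y⟩
    rw [← hk, Nat.card_eq_fintype_card, ← Set.toFinset_card, hcard]
    omega
  obtain ⟨z, hz⟩ := exists_z hW (a := c) (by omega)
  obtain ⟨za, hza⟩ := exists_z hW (a := a) (by unfold Big at ha; omega)
  obtain ⟨za', hza'⟩ := exists_z hW (a := a') (by unfold Big at ha'; omega)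
  obtain ⟨t, ht⟩ : ∃ t, t = swap c (z c) := ⟨_, rfl⟩
  have htW : t ∈ W := ht ▸ swap_mem hW hz (self_mem_orb c)
  have htout : ∀ y ∉ orb W c, t y = y := fun y hy => ht ▸ swap_out hz (self_mem_orb c) hy
  have hbc : ∀ x, Big W x → ∀ y ∈ orb W x, y ∉ orb W c := fun x hx y hy hyc => by
    have := big_of_mem hx hy
    unfold Big at this
    rw [orb_eq hyc] at this
    omega
  let A : Subgroup (Perm (Fin n)) :=
    { carrier := {g | g ∈ W ⊓ alternatingGroup (Fin n) ∧ ∀ x ∉ orb W a, x ∉ orb W c → g x = x}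
      one_mem' := ⟨one_mem _, fun x _ _ => rfl⟩
      mul_mem' := fun {g h} hg hh => ⟨mul_mem hg.1 hh.1, fun x h1 h2 => by
        rw [Perm.mul_apply, hh.2 x h1 h2, hg.2 x h1 h2]⟩
      inv_mem' := fun {g} hg => ⟨inv_mem hg.1, fun x h1 h2 => Perm.inv_eq_iff_eq.2 (hg.2 x h1 h2).symm⟩ }
  let B : Subgroup (Perm (Fin n)) :=
    { carrier := {g | g ∈ W ⊓ alternatingGroup (Fin n) ∧ ∀ x ∈ orb W a, g x = x}
      one_mem' := ⟨one_mem _, fun x _ => rfl⟩
      mul_mem' := fun {g h} hg hh => ⟨mul_mem hg.1 hh.1, fun x h1 => by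
        rw [Perm.mul_apply, hh.2 x h1, hg.2 x h1]⟩
      inv_mem' := fun {g} hg => ⟨inv_mem hg.1, fun x h1 => Perm.inv_eq_iff_eq.2 (hg.2 x h1).symm⟩ }
  refine ⟨A, B, ?_, ?_, ?_, ?_, le_antisymm (sup_le (fun g hg => hg.1) fun g hg => hg.1) ?_⟩
  · intro hbot
    have hmem : swap a (za a) * t ∈ A := ⟨Subgroup.mem_inf.2 ⟨W.mul_mem (swap_mem hW hza (self_mem_orb a)) htW,
      alt_mem.2 (by rw [map_mul, ht, sign_swap_z hza (self_mem_orb a), sign_swap_z hz (self_mem_orb c)]; rfl)⟩,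
      fun x h1 h2 => by rw [Perm.mul_apply, htout x h2, swap_out hza (self_mem_orb a) h1]⟩
    rw [hbot, Subgroup.mem_bot] at hmem
    have := Equiv.congr_fun hmem a
    rw [Perm.mul_apply, htout a (hbc a ha a (self_mem_orb a)), swap_apply_left] at this
    exact hza.2.2.2.1 a (self_mem_orb a) this
  · intro hbot
    have hmem : swap a' (za' a') * t ∈ B := ⟨Subgroup.mem_inf.2 ⟨W.mul_mem (swap_mem hW hza' (self_mem_orb a')) htW,
      alt_mem.2 (by rw [map_mul, ht, sign_swap_z hza' (self_mem_orb a'), sign_swap_z hz (self_mem_orb c)]; rfl)⟩,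
      fun x h1 => by
        rw [Perm.mul_apply, htout x (hbc a ha x h1), swap_out hza' (self_mem_orb a') fun h => haa' (by
          rw [← orb_eq h1, orb_eq h]; exact self_mem_orb a')]⟩
    rw [hbot, Subgroup.mem_bot] at hmem
    have := Equiv.congr_fun hmem a'
    rw [Perm.mul_apply, htout a' (hbc a' ha' a' (self_mem_orb a')), swap_apply_left] at this
    exact hza'.2.2.2.1 a' (self_mem_orb a') this
  · intro g hg h hh
    ext x
    rw [Perm.mul_apply, Perm.mul_apply]
    by_cases h1 : x ∈ orb W a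
    · rw [hh.2 x h1, hh.2 _ ((orb_iff hg.1.1 x).2 h1)]
    by_cases h2 : x ∈ orb W c
    · have hx2 : Nat.card (orb W x) = 2 := by rw [orb_eq h2, hc]
      rcases orb_two hx2 (isZ_of_mem hz h2) ((orb_iff hg.1.1 x).2 (self_mem_orb x)) with e | e <;>
        rcases orb_two hx2 (isZ_of_mem hz h2) ((orb_iff hh.1.1 x).2 (self_mem_orb x)) with e' | e' <;>
        simp only [e, e', z_comm hz hg.1.1, z_comm hz hh.1.1, z_invol hz]
    · rw [hg.2 x h1 h2, hg.2 (h x) (fun h3 => h1 ((orb_iff hh.1.1 x).1 h3)) fun h3 => h2 ((orb_iff hh.1.1 x).1 h3)]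
  · refine eq_bot_iff.2 fun g hg => ?_
    obtain ⟨hgA, hgB⟩ := Subgroup.mem_inf.1 hg
    rw [Subgroup.mem_bot]
    rcases orb_two hc hz ((orb_iff hgA.1.1 c).2 (self_mem_orb c)) with e | e
    · refine Equiv.ext fun x => ?_
      by_cases h1 : x ∈ orb W a
      · exact hgB.2 x h1
      by_cases h2 : x ∈ orb W c
      · rcases orb_two hc hz h2 with rfl | rfl
        · exact e
        · rw [z_comm hz hgA.1.1, e]; rfl
      · exact hgA.2 x h1 h2
    · exfalso
      have hgt : g = t := Equiv.ext fun x => by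
        by_cases h2 : x ∈ orb W c
        · rcases orb_two hc hz h2 with rfl | rfl
          · rw [e, ht, swap_apply_left]
          · rw [z_comm hz hgA.1.1, e, z_invol hz, ht, swap_apply_right]
        · rw [htout x h2]
          by_cases h1 : x ∈ orb W a
          · exact hgB.2 x h1
          · exact hgA.2 x h1 h2
      have := alt_mem.1 hgA.1.2
      rw [hgt, ht, sign_swap_z hz (self_mem_orb c)] at this
      exact absurd this (by decide)
  · intro q hq
    obtain ⟨hqW, hqs⟩ := Subgroup.mem_inf.1 hq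
    obtain ⟨r, hr⟩ : ∃ r, r = res W a ⟨q, hqW⟩ := ⟨_, rfl⟩
    have hrW : r ∈ W := hr ▸ res_range_le hW a ⟨_, rfl⟩
    obtain ⟨u, huA, hu⟩ : ∃ u ∈ A, ∀ x ∈ orb W a, u x = q x := by
      rcases Int.units_eq_one_or (Perm.sign r) with h | h
      · exact ⟨r, ⟨Subgroup.mem_inf.2 ⟨hrW, alt_mem.2 h⟩, fun x h1 _ => hr ▸ res_out _ h1⟩,
          fun x hx => hr ▸ res_in _ hx⟩
      · refine ⟨r * t, ⟨Subgroup.mem_inf.2 ⟨W.mul_mem hrW htW, alt_mem.2 ?_⟩, fun x h1 h2 => ?_⟩, fun x hx => ?_⟩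
        · rw [map_mul, h, ht, sign_swap_z hz (self_mem_orb c)]; rfl
        · rw [Perm.mul_apply, htout x h2, hr, res_out _ h1]
        · rw [Perm.mul_apply, htout x (hbc a ha x hx), hr, res_in _ hx]
    have hB' : u⁻¹ * q ∈ B := ⟨mul_mem (inv_mem huA.1) hq, fun x hx => by
      rw [Perm.mul_apply]; exact Perm.inv_eq_iff_eq.2 (hu x hx).symm⟩
    have := mul_mem (Subgroup.mem_sup_left (T := B) huA) (Subgroup.mem_sup_right (S := A) hB')
    rwa [mul_inv_cancel_left] at this

theorem zpowers_two {G : Type*} [Group G] {g x : G} (h : g * g = 1) (hx : x ∈ Subgroup.zpowers g) : x = 1 ∨ x = g := by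
  obtain ⟨k, rfl⟩ := Subgroup.mem_zpowers_iff.1 hx
  rcases Int.even_or_odd k with ⟨j, rfl⟩ | ⟨j, rfl⟩
  · exact Or.inl (by rw [zpow_add, ← (Commute.refl g).mul_zpow, h, one_zpow])
  · refine Or.inr ?_
    rw [zpow_add_one, two_mul, zpow_add, ← (Commute.refl g).mul_zpow, h, one_zpow, one_mul]

theorem klein {G : Type*} [Group G] [Finite G] (P : Subgroup G) (h4 : Nat.card P = 4) (h2 : ∀ g ∈ P, g * g = 1) :
    ∃ A B : Subgroup G, A ≠ ⊥ ∧ B ≠ ⊥ ∧
      A ≤ P ∧ B ≤ P ∧ (∀ a ∈ A, ∀ b ∈ B, a * b = b * a) ∧ A ⊓ B = ⊥ ∧ A ⊔ B = P := by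
  classical
  haveI := Fintype.ofFinite P
  obtain ⟨g, -, hg⟩ := Finset.exists_mem_notMem_of_card_lt_card (s := ({1} : Finset P)) (t := Finset.univ)
    (by rw [Finset.card_singleton, Finset.card_univ, ← Nat.card_eq_fintype_card, h4]; norm_num)
  rw [Finset.mem_singleton] at hg
  obtain ⟨h, -, hh⟩ := Finset.exists_mem_notMem_of_card_lt_card (s := ({1, g} : Finset P)) (t := Finset.univ)
    (by rw [Finset.card_univ, ← Nat.card_eq_fintype_card, h4]; exact lt_of_le_of_lt Finset.card_le_two (by norm_num))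
  simp only [Finset.mem_insert, Finset.mem_singleton, not_or] at hh
  have sq : ∀ x : P, x * x = 1 := fun x => Subtype.ext (h2 x x.2)
  have hg2 := h2 g g.2
  have hh2 := h2 h h.2
  have hcomm : ∀ a ∈ P, ∀ b ∈ P, a * b = b * a := fun a ha b hb => by
    have e1 := eq_inv_of_mul_eq_one_left (h2 _ (mul_mem ha hb))
    rw [mul_inv_rev, ← eq_inv_of_mul_eq_one_left (h2 a ha), ← eq_inv_of_mul_eq_one_left (h2 b hb)] at e1
    exact e1
  have hgP : Subgroup.zpowers (g : G) ≤ P := (Subgroup.zpowers_le).2 g.2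
  have hhP : Subgroup.zpowers (h : G) ≤ P := (Subgroup.zpowers_le).2 h.2
  refine ⟨Subgroup.zpowers (g : G), Subgroup.zpowers (h : G), fun e => hg (Subtype.ext (Subgroup.zpowers_eq_bot.1 e)),
    fun e => hh.1 (Subtype.ext (Subgroup.zpowers_eq_bot.1 e)), hgP, hhP,
    fun a ha b hb => hcomm a (hgP ha) b (hhP hb), eq_bot_iff.2 fun x hx => ?_, le_antisymm (sup_le hgP hhP) ?_⟩
  · obtain ⟨hx1, hx2⟩ := Subgroup.mem_inf.1 hx
    rcases zpowers_two hg2 hx1 with e | e
    · exact Subgroup.mem_bot.2 e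
    rcases zpowers_two hh2 hx2 with e' | e'
    · exact Subgroup.mem_bot.2 e'
    exact absurd (Subtype.ext (e'.symm.trans e)) hh.2
  · have hs : (Finset.univ : Finset P) = {1, g, h, g * h} := (Finset.eq_univ_of_card _ (by
      rw [← Nat.card_eq_fintype_card, h4, Finset.card_eq_four]
      exact ⟨1, g, h, g * h, Ne.symm hg, Ne.symm hh.1, fun e => hh.2 ((eq_inv_of_mul_eq_one_right e.symm).trans
        (eq_inv_of_mul_eq_one_right (sq g)).symm), Ne.symm hh.2, fun e => hh.1 (mul_eq_left.1 e.symm),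
        fun e => hg (mul_eq_right.1 e.symm), rfl⟩)).symm
    intro x hx
    have := Finset.mem_univ (⟨x, hx⟩ : P)
    rw [hs] at this
    simp only [Finset.mem_insert, Finset.mem_singleton, Subtype.ext_iff] at this
    rcases this with e | e | e | e
    · exact e.symm ▸ one_mem _
    · exact e.symm ▸ Subgroup.mem_sup_left (Subgroup.mem_zpowers _)
    · exact e.symm ▸ Subgroup.mem_sup_right (Subgroup.mem_zpowers _)
    · exact e.symm ▸ mul_mem (Subgroup.mem_sup_left (Subgroup.mem_zpowers _))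
        (Subgroup.mem_sup_right (Subgroup.mem_zpowers _))

end

/-- Direct decomposability of the Sylow 2-subgroups of the alternating groups. Let n ≥ 4 and let P be a Sylow 2-subgroup of the alternating group of degree n. Then P is the internal direct product of two nontrivial subgroups if and only if n = 4, n = 5, or n ≡ 2, 3 (mod 4) with 4⌊n/4⌋ not a power of 2. In the remaining cases (n ≡ 0, 1 (mod 4) with n ≥ 8, or n ≡ 2, 3 (mod 4) with 4⌊n/4⌋ a power of 2) P is directly indecomposable. -/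
theorem result (n : ℕ) (hn : 4 ≤ n)
    (P : Sylow 2 (alternatingGroup (Fin n))) :
    (∃ S₁ S₂ : Subgroup (alternatingGroup (Fin n)), S₁ ≠ ⊥ ∧ S₂ ≠ ⊥ ∧
        Cfsg.IsInternalDirectProduct S₁ S₂ (P : Subgroup (alternatingGroup (Fin n)))) ↔
      (n = 4 ∨ n = 5 ∨ ((n % 4 = 2 ∨ n % 4 = 3) ∧ ∀ r : ℕ, 4 * (n / 4) ≠ 2 ^ r)) := by
  classical
  haveI : Fact (Nat.Prime 2) := ⟨Nat.prime_two⟩
  obtain ⟨S, hS⟩ := (P.isPGroup'.map (alternatingGroup (Fin n)).subtype).exists_le_sylow
  have hPW : (P : Subgroup (alternatingGroup (Fin n))).map (alternatingGroup (Fin n)).subtype =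
      (S : Subgroup (Equiv.Perm (Fin n))) ⊓ alternatingGroup (Fin n) := by
    refine le_antisymm (le_inf hS (Subgroup.map_subtype_le _)) fun g hg => ?_
    obtain ⟨hgS, hgA⟩ := Subgroup.mem_inf.1 hg
    have hp : IsPGroup 2 ((S : Subgroup (Equiv.Perm (Fin n))).subgroupOf (alternatingGroup (Fin n))) :=
      S.isPGroup'.comap_of_injective _ (Subgroup.subtype_injective _)
    have e := P.is_maximal' hp fun x hx => hS ⟨x, hx, rfl⟩
    exact ⟨⟨g, hgA⟩, (SetLike.ext_iff.1 e ⟨g, hgA⟩).1 hgS, rfl⟩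
  have hinj := Subgroup.subtype_injective (alternatingGroup (Fin n))
  constructor
  · rintro ⟨S₁, S₂, h1, h2, -, -, hcomm, hinf, hsup⟩
    refine forward S hn (S₁.map (alternatingGroup (Fin n)).subtype) (S₂.map (alternatingGroup (Fin n)).subtype)
      (fun e => h1 ((Subgroup.map_eq_bot_iff_of_injective _ hinj).1 e))
      (fun e => h2 ((Subgroup.map_eq_bot_iff_of_injective _ hinj).1 e)) ?_ ?_ ?_
    · rintro _ ⟨a, ha, rfl⟩ _ ⟨b, hb, rfl⟩
      rw [← map_mul, ← map_mul, hcomm a ha b hb]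
    · rw [← Subgroup.map_inf _ _ _ hinj, hinf, Subgroup.map_bot]
    · rw [← Subgroup.map_sup, hsup, hPW]
  · intro hc
    by_cases h45 : n = 4 ∨ n = 5
    · have hcard : Nat.card (P : Subgroup (alternatingGroup (Fin n))) = 4 := by
        haveI : Nontrivial (Fin n) := Fin.nontrivial_iff_two_le.2 (by omega)
        rw [P.card_eq_multiplicity, nat_card_alternatingGroup, Nat.card_fin]
        rcases h45 with rfl | rfl
        · rw [show Nat.factorial 4 / 2 = 2 ^ 2 * 3 by rfl, Nat.factorization_mul (by norm_num) (by norm_num),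
            Nat.factorization_pow]
          simp [Nat.prime_two.factorization_self, Nat.factorization_eq_zero_of_not_dvd]
        · rw [show Nat.factorial 5 / 2 = 2 ^ 2 * 15 by rfl, Nat.factorization_mul (by norm_num) (by norm_num),
            Nat.factorization_pow]
          simp [Nat.prime_two.factorization_self, Nat.factorization_eq_zero_of_not_dvd]
      obtain ⟨A, B, h1, h2, h3, h4, h5, h6, h7⟩ := klein (P : Subgroup (alternatingGroup (Fin n))) hcard fun g hg => by
        have h4 : g ^ 4 = 1 := by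
          have := congrArg Subtype.val (pow_card_eq_one' (x := (⟨g, hg⟩ : (P : Subgroup (alternatingGroup (Fin n))))))
          rwa [hcard] at this
        apply Subtype.ext
        have e4 : (g : Equiv.Perm (Fin n)) ^ 4 = 1 := congrArg Subtype.val h4
        rw [← pow_two]
        rcases h45 with rfl | rfl
        · exact four g.1 (alt_mem.1 g.2) e4
        · exact five g.1 (alt_mem.1 g.2) e4
      exact ⟨A, B, h1, h2, h3, h4, h5, h6, h7⟩
    obtain ⟨h23, hpow⟩ := (hc.resolve_left fun h => h45 (Or.inl h)).resolve_left fun h => h45 (Or.inr h)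
    obtain ⟨A, B, hA, hB, hcomm, hinf, hsup⟩ := backward ⟨S.isPGroup', fun R hR h => S.is_maximal' hR h⟩ hn h23 hpow
    have hA' : A ≤ alternatingGroup (Fin n) := (le_sup_left.trans hsup.le).trans inf_le_right
    have hB' : B ≤ alternatingGroup (Fin n) := (le_sup_right.trans hsup.le).trans inf_le_right
    have eA := Subgroup.map_subgroupOf_eq_of_le hA'
    have eB := Subgroup.map_subgroupOf_eq_of_le hB'
    have hPs : A.subgroupOf _ ⊔ B.subgroupOf _ = (P : Subgroup (alternatingGroup (Fin n))) :=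
      Subgroup.map_injective hinj (by rw [Subgroup.map_sup, eA, eB, hsup, hPW])
    refine ⟨_, _, fun e => hA ?_, fun e => hB ?_, hPs ▸ le_sup_left, hPs ▸ le_sup_right, ?_, ?_, hPs⟩
    · rw [← eA, e, Subgroup.map_bot]
    · rw [← eB, e, Subgroup.map_bot]
    · exact fun a ha b hb => Subtype.ext (hcomm a ha b hb)
    · exact Subgroup.map_injective hinj (by rw [Subgroup.map_inf _ _ _ hinj, eA, eB, hinf, Subgroup.map_bot])

end Cfsg.Agent.S2221
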