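import Cfsg.Statements.S2222
import Mathlib

set_option autoImplicit false
open Cfsg

namespace Cfsg.Agent.S2222

def dd (a b : ℕ) : ℕ := Nat.size (a ^^^ b)

theorem dd_le {a b j : ℕ} : dd a b ≤ j ↔ a >>> j = b >>> j := by
  rw [dd, Nat.size_le, ← Nat.xor_eq_zero_iff, ← Nat.shiftRight_xor_distrib,
    Nat.shiftRight_eq_div_pow, Nat.div_eq_zero_iff]
  simp

theorem dd_lt {a b j : ℕ} : j < dd a b ↔ a >>> j ≠ b >>> j := by
  rw [← not_le, dd_le]

theorem dd_comm (a b : ℕ) : dd a b = dd b a := by simp [dd, Nat.xor_comm]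

theorem shiftRight_of_le {a b i j : ℕ} (h : a >>> i = b >>> i) (hij : i ≤ j) :
    a >>> j = b >>> j := dd_le.1 ((dd_le.2 h).trans hij)

theorem shiftRight_succ_eq {a b j : ℕ} (h : a >>> j = b >>> j) : a >>> (j+1) = b >>> (j+1) :=
  shiftRight_of_le h (Nat.le_succ j)

theorem block_le {n y i : ℕ} (hy : y < n) (h : i < dd y n) : (y >>> i + 1) * 2 ^ i ≤ n := by
  have h1 : y >>> i ≠ n >>> i := dd_lt.1 h
  have h2 : y >>> i ≤ n >>> i := by
    simp only [Nat.shiftRight_eq_div_pow]; exact Nat.div_le_div_right hy.le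
  calc (y >>> i + 1) * 2 ^ i ≤ (n >>> i) * 2 ^ i := Nat.mul_le_mul_right _ (by omega)
    _ ≤ n := by rw [Nat.shiftRight_eq_div_pow]; exact Nat.div_mul_le_self n _

theorem dd_pos {n y : ℕ} (hy : y < n) : 0 < dd y n := by
  rw [dd_lt]; simpa using hy.ne

variable {n : ℕ}

def DP (n : ℕ) : Subgroup (Equiv.Perm (Fin n)) where
  carrier := {f | (∀ x y : Fin n, dd (f x : ℕ) (f y) = dd x y) ∧ ∀ x : Fin n, dd (f x : ℕ) n = dd x n}
  one_mem' := ⟨fun _ _ => rfl, fun _ => rfl⟩
  mul_mem' := fun {f g} hf hg => ⟨fun x y => (hf.1 (g x) (g y)).trans (hg.1 x y),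
    fun x => (hf.2 (g x)).trans (hg.2 x)⟩
  inv_mem' := fun {f} hf => ⟨fun x y => by simpa using (hf.1 (f⁻¹ x) (f⁻¹ y)).symm,
    fun x => by simpa using (hf.2 (f⁻¹ x)).symm⟩

theorem DP_pow {f : Equiv.Perm (Fin n)} (hf : f ∈ DP n) : f ^ (2 ^ n) = 1 := by
  have key : ∀ m ≤ n, ∀ x : Fin n, ((f ^ (2 ^ m)) x : ℕ) >>> (n - m) = (x : ℕ) >>> (n - m) := by
    intro m
    induction m with
    | zero =>
      intro _ x
      have h : ∀ z : Fin n, (z : ℕ) >>> n = 0 := fun z => by
        rw [Nat.shiftRight_eq_div_pow]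
        exact Nat.div_eq_of_lt (z.2.trans Nat.lt_two_pow_self)
      simp [h]
    | succ m ih =>
      intro hm x
      have hg : f ^ (2 ^ m) ∈ DP n := (DP n).pow_mem hf _
      set g := f ^ (2 ^ m) with hgdef
      have e : f ^ (2 ^ (m + 1)) = g * g := by rw [hgdef, ← pow_add, pow_succ, mul_two]
      rw [e, Equiv.Perm.mul_apply]
      have ihm : ∀ z : Fin n, (g z : ℕ) >>> (n - m) = (z : ℕ) >>> (n - m) := ih (by omega)
      have e2 : n - m = (n - (m + 1)) + 1 := by omega
      generalize n - (m + 1) = j at e2 ⊢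
      rw [e2] at ihm
      by_contra hne
      by_cases h1 : (g x : ℕ) >>> j = (x : ℕ) >>> j
      · apply hne
        have h2 : (g (g x) : ℕ) >>> j = (g x : ℕ) >>> j :=
          dd_le.1 ((hg.1 (g x) x).le.trans (dd_le.2 h1))
        rw [h2, h1]
      · have h2 : (g (g x) : ℕ) >>> j ≠ (g x : ℕ) >>> j := fun h =>
          h1 (dd_le.1 ((hg.1 (g x) x).symm.le.trans (dd_le.2 h)))
        have h3 := ihm x
        have h4 := ihm (g x)
        simp only [Nat.shiftRight_succ] at h3 h4
        omega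
  refine Equiv.ext fun x => Fin.ext ?_
  simpa using key n le_rfl x

theorem flip_exists (x y : Fin n) (i : ℕ) (hi : i < dd x n)
    (hxy : (x : ℕ) >>> i = (y : ℕ) >>> i) :
    ∃ s ∈ DP n, s x = y ∧ ∀ z : Fin n, (z : ℕ) >>> i ≠ (x : ℕ) >>> i → s z = z := by
  set a := (x : ℕ) >>> i with ha
  set c := (x : ℕ) ^^^ (y : ℕ) with hcdef
  have hc0 : c >>> i = 0 := by rw [hcdef, Nat.shiftRight_xor_distrib, ← ha, ← hxy, Nat.xor_self]
  let F : ℕ → ℕ := fun z => if z >>> i = a then z ^^^ c else z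
  have hFs : ∀ j, i ≤ j → ∀ z, F z >>> j = z >>> j := by
    intro j hj z
    simp only [F]
    split_ifs with h
    · refine shiftRight_of_le ?_ hj
      rw [Nat.shiftRight_xor_distrib, hc0, Nat.xor_zero]
    · rfl
  have hFlt : ∀ z, z < n → F z < n := by
    intro z hz
    simp only [F]
    split_ifs with h
    · refine lt_of_lt_of_le ?_ (block_le x.2 hi)
      have h2 : (z ^^^ c) >>> i = a := by rw [Nat.shiftRight_xor_distrib, hc0, Nat.xor_zero, h]
      rw [Nat.shiftRight_eq_div_pow] at h2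
      rw [← ha]
      exact (Nat.div_lt_iff_lt_mul (by positivity)).1 (by omega)
    · exact hz
  have hFinv : ∀ z, F (F z) = z := by
    intro z
    by_cases h : z >>> i = a
    · have h2 : F z >>> i = a := by rw [hFs i le_rfl, h]
      have h3 : F z = z ^^^ c := if_pos h
      have h4 : F (F z) = F z ^^^ c := if_pos h2
      rw [h4, h3, Nat.xor_assoc, Nat.xor_self, Nat.xor_zero]
    · have h3 : F z = z := if_neg h
      rw [h3, h3]
  have hiso : ∀ z w, dd (F z) (F w) = dd z w := by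
    intro z w
    by_cases hz : z >>> i = w >>> i
    · by_cases ha' : z >>> i = a
      · simp only [F, if_pos ha', if_pos (hz ▸ ha'), dd]
        congr 1
        rw [Nat.xor_assoc, Nat.xor_comm w c, ← Nat.xor_assoc c c w, Nat.xor_self, Nat.zero_xor]
      · simp only [F, if_neg ha', if_neg (hz ▸ ha')]
    · have hz' : F z >>> i ≠ F w >>> i := by rwa [hFs i le_rfl, hFs i le_rfl]
      apply le_antisymm
      · have hlt : i < dd z w := dd_lt.2 hz
        rw [dd_le, hFs _ hlt.le, hFs _ hlt.le]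
        exact dd_le.1 le_rfl
      · have hlt : i < dd (F z) (F w) := dd_lt.2 hz'
        rw [dd_le, ← hFs _ hlt.le z, ← hFs _ hlt.le w]
        exact dd_le.1 le_rfl
  let s : Equiv.Perm (Fin n) :=
    ⟨fun z => ⟨F z, hFlt _ z.2⟩, fun z => ⟨F z, hFlt _ z.2⟩,
      fun z => Fin.ext (hFinv z), fun z => Fin.ext (hFinv z)⟩
  refine ⟨s, ⟨fun z w => hiso z w, fun z => ?_⟩, ?_, fun z hz => Fin.ext (if_neg hz)⟩
  · by_cases h : (z : ℕ) >>> i = a
    · change dd (F z) n = dd z n
      have hlt : i < dd (z : ℕ) n := dd_lt.2 (by rw [h, ha]; exact dd_lt.1 hi)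
      apply le_antisymm
      · rw [dd_le, hFs _ hlt.le]
        exact dd_le.1 le_rfl
      · have hlt' : i < dd (F z) n := dd_lt.2 (by rw [hFs i le_rfl, h, ha]; exact dd_lt.1 hi)
        rw [dd_le, ← hFs _ hlt'.le z]
        exact dd_le.1 le_rfl
    · change dd (F z) n = dd z n
      simp only [F, if_neg h]
  · apply Fin.ext
    change F x = y
    simp only [F, ← ha, if_true, hcdef]
    rw [← Nat.xor_assoc, Nat.xor_self, Nat.zero_xor]

theorem odd_fixing (hn : 6 ≤ n) (x y : Fin n) :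
    ∃ τ ∈ DP n, Equiv.Perm.sign τ = -1 ∧ τ x = x ∧ τ y = y := by
  obtain ⟨a, ha, hax, hay⟩ : ∃ a, a < 3 ∧ (x : ℕ) >>> 1 ≠ a ∧ (y : ℕ) >>> 1 ≠ a := by
    by_cases h0 : (x : ℕ) >>> 1 ≠ 0 ∧ (y : ℕ) >>> 1 ≠ 0
    · exact ⟨0, by omega, h0⟩
    by_cases h1 : (x : ℕ) >>> 1 ≠ 1 ∧ (y : ℕ) >>> 1 ≠ 1
    · exact ⟨1, by omega, h1⟩
    exact ⟨2, by omega, by omega, by omega⟩
  let u : Fin n := ⟨2 * a, by omega⟩
  let v : Fin n := ⟨2 * a + 1, by omega⟩
  have hu : (u : ℕ) >>> 1 = a := by simp [u, Nat.shiftRight_eq_div_pow]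
  have hv : (v : ℕ) >>> 1 = a := by simp [v, Nat.shiftRight_eq_div_pow]; omega
  have hi : 1 < dd (u : ℕ) n := dd_lt.2 (by rw [hu, Nat.shiftRight_eq_div_pow]; omega)
  obtain ⟨s, hs, hsu, hsfix⟩ := flip_exists u v 1 hi (hu.trans hv.symm)
  have hsv : s v = u := by
    by_contra h
    have h1 : ((s v : Fin n) : ℕ) >>> 1 = a := by
      have := dd_le.2 (show (u : ℕ) >>> 1 = (v : ℕ) >>> 1 from hu.trans hv.symm)
      rw [← hs.1 u v, hsu, dd_le, hv] at this
      exact this.symm
    have h2 : s v ≠ v := fun h2 => by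
      have : v = u := s.injective (h2.trans hsu.symm)
      simp [u, v, Fin.ext_iff] at this
    have h' : ((s v : Fin n) : ℕ) ≠ 2 * a := fun e => h (Fin.ext e)
    have h2' : ((s v : Fin n) : ℕ) ≠ 2 * a + 1 := fun e => h2 (Fin.ext e)
    generalize ((s v : Fin n) : ℕ) = w at h1 h' h2'
    rw [Nat.shiftRight_eq_div_pow, pow_one] at h1
    omega
  have hse : s = Equiv.swap u v := by
    refine Equiv.ext fun z => ?_
    by_cases hz : (z : ℕ) >>> 1 = a
    · rcases (show z = u ∨ z = v by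
        simp only [Nat.shiftRight_eq_div_pow] at hz
        simp only [u, v, Fin.ext_iff]; omega) with rfl | rfl
      · rw [hsu, Equiv.swap_apply_left]
      · rw [hsv, Equiv.swap_apply_right]
    · rw [hsfix z (by rwa [hu]), Equiv.swap_apply_of_ne_of_ne]
      · rintro rfl; exact hz hu
      · rintro rfl; exact hz hv
  refine ⟨s, hs, ?_, hsfix x (by rwa [hu]), hsfix y (by rwa [hu])⟩
  rw [hse, Equiv.Perm.sign_swap]
  simp [u, v, Fin.ext_iff]

theorem even_adjust (hn : 6 ≤ n) {s : Equiv.Perm (Fin n)} (hs : s ∈ DP n) (x y : Fin n) :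
    ∃ t ∈ DP n, Equiv.Perm.sign t = 1 ∧ t x = s x ∧ t y = s y := by
  rcases Int.units_eq_one_or (Equiv.Perm.sign s) with h | h
  · exact ⟨s, hs, h, rfl, rfl⟩
  · obtain ⟨τ, hτ, hsg, hx, hy⟩ := odd_fixing hn (s x) (s y)
    exact ⟨τ * s, mul_mem hτ hs, by simp [hsg, h], hx, hy⟩

theorem block_card (x : Fin n) (i : ℕ) (hi : i < dd x n) :
    Nat.card {z : Fin n // (z : ℕ) >>> i = (x : ℕ) >>> i} = 2 ^ i := by
  set a := (x : ℕ) >>> i
  have hle := block_le x.2 hi
  have hpos : 0 < 2 ^ i := by positivity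
  let e : {z : Fin n // (z : ℕ) >>> i = a} ≃ Fin (2 ^ i) :=
    { toFun := fun z => ⟨(z.1 : ℕ) % 2 ^ i, Nat.mod_lt _ hpos⟩
      invFun := fun r => ⟨⟨a * 2 ^ i + r, by
          have := r.2
          rw [Nat.add_mul, one_mul] at hle
          exact lt_of_lt_of_le (Nat.add_lt_add_left this _) hle⟩, by
          change (a * 2 ^ i + r) >>> i = a
          rw [Nat.shiftRight_eq_div_pow, Nat.mul_comm, Nat.mul_add_div hpos,
            Nat.div_eq_of_lt r.2, Nat.add_zero]⟩
      left_inv := fun z => by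
        apply Subtype.ext; apply Fin.ext
        change a * 2 ^ i + (z.1 : ℕ) % 2 ^ i = z.1
        have := z.2
        rw [Nat.shiftRight_eq_div_pow] at this
        have h := Nat.div_add_mod (z.1 : ℕ) (2 ^ i)
        rw [this, Nat.mul_comm] at h
        exact h
      right_inv := fun r => by
        apply Fin.ext
        change (a * 2 ^ i + r) % 2 ^ i = r
        rw [Nat.mul_comm, Nat.mul_add_mod, Nat.mod_eq_of_lt r.2] }
  rw [Nat.card_congr e, Nat.card_fin]

/-- points with equal distance to `n` form the block of `x` -/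
theorem class_eq (x : Fin n) (k : ℕ) (hk : dd x n = k + 1) (z : Fin n) :
    dd z n = k + 1 ↔ (z : ℕ) >>> k = (x : ℕ) >>> k := by
  have hlt : ∀ w : Fin n, dd w n = k + 1 →
      (w : ℕ) >>> (k+1) = n >>> (k+1) ∧ (w : ℕ) >>> k < n >>> k := by
    intro w hw
    refine ⟨dd_le.1 hw.le, lt_of_le_of_ne ?_ (dd_lt.1 (by omega))⟩
    simp only [Nat.shiftRight_eq_div_pow]; exact Nat.div_le_div_right w.2.le
  obtain ⟨a1, a2⟩ := hlt x hk
  constructor
  · intro hz
    obtain ⟨b1, b2⟩ := hlt z hz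
    simp only [Nat.shiftRight_succ] at a1 b1
    omega
  · intro h
    apply le_antisymm
    · rw [dd_le, shiftRight_succ_eq h, a1]
    · exact dd_lt.2 (by rw [h]; omega)

theorem orbit_card (hn : 6 ≤ n) (x : Fin n) :
    Nat.card {y : Fin n // ∃ s ∈ DP n, Equiv.Perm.sign s = 1 ∧ s x = y} =
      2 ^ (dd x n - 1) := by
  obtain ⟨k, hk⟩ : ∃ k, dd x n = k + 1 := ⟨dd x n - 1, by have := dd_pos x.2; omega⟩
  rw [hk, Nat.add_sub_cancel, ← block_card x k (by omega)]
  refine Nat.card_congr (Equiv.subtypeEquivRight fun y => ?_)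
  constructor
  · rintro ⟨s, hs, -, rfl⟩
    exact (class_eq x k hk _).1 ((hs.2 x).trans hk)
  · intro h
    obtain ⟨s, hs, hsx, -⟩ := flip_exists x y k (by omega) h.symm
    obtain ⟨t, ht, hsg, htx, -⟩ := even_adjust hn hs x x
    exact ⟨t, ht, hsg, htx.trans hsx⟩

theorem suborbit_card (hn : 6 ≤ n) {x y : Fin n} (hxy : x ≠ y) (hK : dd x n = dd y n) :
    Nat.card {z : Fin n // ∃ s ∈ DP n, Equiv.Perm.sign s = 1 ∧ s x = x ∧ s y = z} =
      2 ^ (dd (x : ℕ) y - 1) := by
  obtain ⟨k, hk⟩ : ∃ k, dd x n = k + 1 := ⟨dd x n - 1, by have := dd_pos x.2; omega⟩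
  have hblk : (y : ℕ) >>> k = (x : ℕ) >>> k := (class_eq x k hk y).1 (hK ▸ hk)
  have hjk : dd (x : ℕ) y ≤ k := dd_le.2 hblk.symm
  obtain ⟨i, hi⟩ : ∃ i, dd (x : ℕ) y = i + 1 := by
    refine ⟨dd (x : ℕ) y - 1, ?_⟩
    have : dd (x : ℕ) y ≠ 0 := fun h => hxy (Fin.ext (by simpa using dd_le.1 h.le))
    omega
  rw [hi, Nat.add_sub_cancel, ← block_card y i (by omega)]
  have h1 : (x : ℕ) >>> (i+1) = (y : ℕ) >>> (i+1) := dd_le.1 hi.le
  have h2 : (x : ℕ) >>> i ≠ (y : ℕ) >>> i := dd_lt.1 (by omega)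
  refine Nat.card_congr (Equiv.subtypeEquivRight fun z => ?_)
  constructor
  · rintro ⟨s, hs, -, hsx, rfl⟩
    have h3 : dd (x : ℕ) (s y) = i + 1 := by
      have := hs.1 x y
      rw [hsx] at this; omega
    have h4 : (x : ℕ) >>> (i+1) = (s y : ℕ) >>> (i+1) := dd_le.1 h3.le
    have h5 : (x : ℕ) >>> i ≠ (s y : ℕ) >>> i := dd_lt.1 (by omega)
    simp only [Nat.shiftRight_succ] at h1 h4
    omega
  · intro hz
    obtain ⟨s, hs, hsy, hfix⟩ := flip_exists y z i (by omega) hz.symm
    obtain ⟨t, ht, hsg, htx, hty⟩ := even_adjust hn hs x y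
    exact ⟨t, ht, hsg, htx.trans (hfix x h2), hty.trans hsy⟩

theorem dd_of_lt {x y : Fin n} (h : dd x n < dd y n) : dd (x : ℕ) y = dd y n := by
  have hx : ∀ j, dd x n ≤ j → (x : ℕ) >>> j = n >>> j := fun j hj => dd_le.1 hj
  apply le_antisymm
  · rw [dd_le, hx _ h.le]
    exact (dd_le.1 le_rfl).symm
  · obtain ⟨k, hk⟩ : ∃ k, dd y n = k + 1 := ⟨dd y n - 1, by omega⟩
    rw [hk]
    refine dd_lt.2 ?_
    rw [hx k (by omega)]
    exact (dd_lt.1 (by omega)).symm

theorem mem_DP_of_normalizes (hn : 6 ≤ n) (g : Equiv.Perm (Fin n))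
    (hg : ∀ s, (s ∈ DP n ∧ Equiv.Perm.sign s = 1) ↔
      (g * s * g⁻¹ ∈ DP n ∧ Equiv.Perm.sign (g * s * g⁻¹) = 1)) : g ∈ DP n := by
  have hpow : ∀ {a b : ℕ}, 0 < a → 0 < b → 2 ^ (a - 1) = 2 ^ (b - 1) → a = b := by
    intro a b ha hb h
    have := Nat.pow_right_injective le_rfl h
    omega
  have hK : ∀ x : Fin n, dd (g x : ℕ) n = dd x n := by
    intro x
    refine hpow (dd_pos (g x).2) (dd_pos x.2) ?_
    rw [← orbit_card hn (g x), ← orbit_card hn x]
    symm
    refine Nat.card_congr (Equiv.subtypeEquiv g fun y => ?_)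
    constructor
    · rintro ⟨s, hs, hsg, rfl⟩
      obtain ⟨a, b⟩ := (hg s).1 ⟨hs, hsg⟩
      exact ⟨_, a, b, by simp⟩
    · rintro ⟨s, hs, hsg, hy⟩
      have e : g * (g⁻¹ * s * g) * g⁻¹ = s := by group
      obtain ⟨a, b⟩ := (hg (g⁻¹ * s * g)).2 ⟨by rwa [e], by rw [e]; exact hsg⟩
      exact ⟨_, a, b, by simp [hy]⟩
  refine ⟨fun x y => ?_, hK⟩
  rcases eq_or_ne x y with rfl | hxy
  · simp [dd]
  rcases lt_trichotomy (dd (x : ℕ) n) (dd y n) with h | h | h
  · rw [dd_of_lt h, dd_of_lt (x := g x) (y := g y) (by rw [hK, hK]; exact h), hK]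
  · have p1 : 0 < dd (x : ℕ) y := by
      refine dd_lt.2 ?_; simpa [Fin.val_inj] using hxy
    have p2 : 0 < dd (g x : ℕ) (g y) := by
      refine dd_lt.2 ?_; simpa [Fin.val_inj] using hxy
    refine hpow p2 p1 ?_
    rw [← suborbit_card hn hxy h,
      ← suborbit_card hn (g.injective.ne hxy) (by rw [hK, hK]; exact h)]
    symm
    refine Nat.card_congr (Equiv.subtypeEquiv g fun z => ?_)
    constructor
    · rintro ⟨s, hs, hsg, hsx, rfl⟩
      obtain ⟨a, b⟩ := (hg s).1 ⟨hs, hsg⟩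
      exact ⟨_, a, b, by simp [hsx], by simp⟩
    · rintro ⟨s, hs, hsg, hsx, hy⟩
      have e : g * (g⁻¹ * s * g) * g⁻¹ = s := by group
      obtain ⟨a, b⟩ := (hg (g⁻¹ * s * g)).2 ⟨by rwa [e], by rw [e]; exact hsg⟩
      exact ⟨_, a, b, by simp [hsx], by simp [hy]⟩
  · rw [dd_comm (g x : ℕ), dd_of_lt (x := g y) (y := g x) (by rw [hK, hK]; exact h),
      dd_comm (x : ℕ), dd_of_lt h, hK]

open Pointwise in
theorem sylow_self_normalizing (hn : 6 ≤ n) (T : Sylow 2 (alternatingGroup (Fin n))) :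
    Subgroup.normalizer ((T : Subgroup (alternatingGroup (Fin n))) : Set (alternatingGroup (Fin n))) ≤
      T := by
  set S : Subgroup (alternatingGroup (Fin n)) := (DP n).subgroupOf (alternatingGroup (Fin n))
  have hN : Subgroup.normalizer (S : Set (alternatingGroup (Fin n))) ≤ S := by
    intro g hg
    rw [Subgroup.mem_subgroupOf]
    refine mem_DP_of_normalizes hn (g : Equiv.Perm (Fin n)) fun s => ?_
    have hgs : Equiv.Perm.sign (g : Equiv.Perm (Fin n)) = 1 :=
      Equiv.Perm.mem_alternatingGroup.1 g.2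
    constructor
    · rintro ⟨hs, hsg⟩
      have h := (Subgroup.mem_normalizer_iff.1 hg ⟨s, Equiv.Perm.mem_alternatingGroup.2 hsg⟩).1
        (Subgroup.mem_subgroupOf.2 hs)
      exact ⟨Subgroup.mem_subgroupOf.1 h, by simp [hgs, hsg]⟩
    · rintro ⟨hs, hsg⟩
      have hsg' : Equiv.Perm.sign s = 1 := by simpa [hgs] using hsg
      exact ⟨Subgroup.mem_subgroupOf.1
        ((Subgroup.mem_normalizer_iff.1 hg ⟨s, Equiv.Perm.mem_alternatingGroup.2 hsg'⟩).2
          (Subgroup.mem_subgroupOf.2 hs)), hsg'⟩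
  have hp : IsPGroup 2 S := by
    intro g
    refine ⟨n, ?_⟩
    apply Subtype.ext; apply Subtype.ext
    simpa using DP_pow (Subgroup.mem_subgroupOf.1 g.2)
  obtain ⟨T', hT'⟩ := hp.exists_le_sylow
  have hS : S = (T' : Subgroup _) := by
    by_contra hne
    have hlt : S.subgroupOf (T' : Subgroup (alternatingGroup (Fin n))) < ⊤ := by
      rw [lt_top_iff_ne_top, Ne, Subgroup.subgroupOf_eq_top]
      exact fun h => hne (le_antisymm hT' h)
    have : Group.IsNilpotent (T' : Subgroup (alternatingGroup (Fin n))) := T'.isPGroup'.isNilpotent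
    have hlt2 := Group.normalizerCondition_of_isNilpotent _ hlt
    obtain ⟨g, hg1, hg2⟩ := SetLike.exists_of_lt hlt2
    refine hg2 (Subgroup.mem_subgroupOf.2 (hN ?_))
    rw [Subgroup.mem_normalizer_iff] at hg1 ⊢
    intro s
    by_cases hs : s ∈ (T' : Subgroup (alternatingGroup (Fin n)))
    · exact hg1 ⟨s, hs⟩
    · constructor
      · exact fun h => absurd (hT' h) hs
      · intro h
        refine absurd ?_ hs
        have h' := hT' h
        have := mul_mem (mul_mem (inv_mem g.2) h') g.2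
        simpa [mul_assoc] using this
  obtain ⟨a, rfl⟩ := MulAction.exists_smul_eq (alternatingGroup (Fin n)) T' T
  intro g hg
  have h1 : a⁻¹ * g * a ∈ Subgroup.normalizer (S : Set (alternatingGroup (Fin n))) := by
    rw [hS]
    refine Sylow.smul_eq_iff_mem_normalizer.1 ?_
    have hg' := Sylow.smul_eq_iff_mem_normalizer.2 hg
    rw [mul_smul, mul_smul, hg', inv_smul_smul]
  have h2 := hN h1
  rw [hS] at h2
  rw [Sylow.coe_subgroup_smul, Subgroup.mem_pointwise_smul_iff_inv_smul_mem]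
  simpa [mul_assoc] using h2


/-- In the alternating group of degree n ≥ 5 every subgroup H of odd index is pronormal: for every element g, the subgroups H and gHg⁻¹ are conjugate by an element of the subgroup they generate. -/
theorem result (n : ℕ) (hn : 5 ≤ n)
    (H : Subgroup (alternatingGroup (Fin n))) (hH : Odd H.index) : Cfsg.IsPronormal H := by
  classical
  intro g
  have hodd : ¬ 2 ∣ H.index := by rw [← even_iff_two_dvd, Nat.not_even_iff_odd]; exact hH
  obtain ⟨T₀⟩ : Nonempty (Sylow 2 H) := inferInstance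
  obtain ⟨T, hTH⟩ : ∃ T : Sylow 2 (alternatingGroup (Fin n)),
      (T : Subgroup (alternatingGroup (Fin n))) = (T₀ : Subgroup H).map H.subtype := by
    refine ⟨IsPGroup.toSylow (T₀.isPGroup'.map H.subtype) ?_, rfl⟩
    rw [Subgroup.index_map_subtype]
    exact Nat.prime_two.not_dvd_mul T₀.not_dvd_index hodd
  have hTle : (T : Subgroup (alternatingGroup (Fin n))) ≤ H := hTH ▸ Subgroup.map_subtype_le _
  set H' := H.map (MulAut.conj g).toMonoidHom with hH'
  set K := H ⊔ H' with hKdef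
  by_cases hcase : 6 ≤ n ∨ (T : Subgroup (alternatingGroup (Fin n))) = H
  · open Pointwise in
    have hgT : ((g • T : Sylow 2 (alternatingGroup (Fin n))) : Subgroup _) ≤ K := by
      refine le_trans ?_ le_sup_right
      rw [Sylow.coe_subgroup_smul]
      exact Subgroup.map_mono hTle
    obtain ⟨k, hk⟩ := MulAction.exists_smul_eq K (T.subtype (hTle.trans le_sup_left))
      ((g • T).subtype hgT)
    rw [Sylow.smul_subtype] at hk
    replace hk := Sylow.subtype_injective hk
    refine ⟨(k : alternatingGroup (Fin n)), k.2, ?_⟩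
    have hfix : ((k : alternatingGroup (Fin n))⁻¹ * g) • T = T := by
      rw [mul_smul, ← hk]; exact inv_smul_smul _ _
    have hN : H.map (MulAut.conj ((k : alternatingGroup (Fin n))⁻¹ * g)).toMonoidHom = H := by
      rcases hcase with h6 | heq
      · have hmem : (k : alternatingGroup (Fin n))⁻¹ * g ∈ H :=
          hTle (sylow_self_normalizing h6 T (Sylow.smul_eq_iff_mem_normalizer.1 hfix))
        exact Subgroup.mem_normalizer_iff_map_conj_eq.1 (Subgroup.le_normalizer hmem)
      · rw [← heq]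
        exact congrArg Sylow.toSubgroup hfix
    calc H' = (H.map (MulAut.conj ((k : alternatingGroup (Fin n))⁻¹ * g)).toMonoidHom).map
          (MulAut.conj (k : alternatingGroup (Fin n))).toMonoidHom := by
          rw [hH', Subgroup.map_map]
          congr 1
          ext x
          simp [mul_assoc]
      _ = _ := by rw [hN]
  · push Not at hcase
    obtain ⟨hn6, hne⟩ := hcase
    have hn5 : n = 5 := by omega
    subst hn5
    have hcard : Nat.card (alternatingGroup (Fin 5)) = 60 := by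
      rw [nat_card_alternatingGroup, Nat.card_fin]; decide
    have hT4 : Nat.card T = 4 := by
      obtain ⟨j, hj⟩ := T.isPGroup'.exists_card_eq
      have h1 : Nat.card T * (T : Subgroup (alternatingGroup (Fin 5))).index = 60 :=
        hcard ▸ (T : Subgroup (alternatingGroup (Fin 5))).card_mul_index
      have h2 := T.not_dvd_index
      have h3 : j < 6 := (Nat.pow_lt_pow_iff_right (by norm_num : 1 < 2)).1
        (lt_of_le_of_lt (hj ▸ Nat.le_of_dvd (by norm_num) (Dvd.intro _ h1)) (by norm_num))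
      rw [hj] at h1 ⊢
      interval_cases j <;> omega
    have hidx15 : H.index ∣ 15 := by
      have h1 : (T : Subgroup (alternatingGroup (Fin 5))).index = 15 := by
        have := (T : Subgroup (alternatingGroup (Fin 5))).card_mul_index
        rw [hcard, show Nat.card (T : Subgroup (alternatingGroup (Fin 5))) = 4 from hT4] at this
        omega
      exact h1 ▸ Subgroup.index_dvd_of_le hTle
    have hne15 : H.index ≠ 15 := by
      intro h
      apply hne
      refine Subgroup.eq_of_le_of_card_ge hTle ?_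
      have := H.card_mul_index
      rw [hcard, h] at this; omega
    have hdiv : ∀ m : ℕ, m ∣ H.index → m = 1 ∨ m = H.index := by
      intro m hm
      have hmem : H.index ∈ Nat.divisors 15 := Nat.mem_divisors.2 ⟨hidx15, by norm_num⟩
      rw [show Nat.divisors 15 = {1, 3, 5, 15} by decide] at hmem
      simp only [Finset.mem_insert, Finset.mem_singleton] at hmem
      rcases hmem with h | h | h | h
      · left; rw [h] at hm; exact Nat.dvd_one.1 hm
      · rw [h] at hm ⊢; exact (Nat.dvd_prime Nat.prime_three).1 hm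
      · rw [h] at hm ⊢; exact (Nat.dvd_prime (by norm_num)).1 hm
      · exact absurd h hne15
    rcases hdiv K.index (Subgroup.index_dvd_of_le le_sup_left) with h | h
    · exact ⟨g, by rw [Subgroup.index_eq_one.1 h]; trivial, rfl⟩
    · have hKH : H = K := by
        refine Subgroup.eq_of_le_of_card_ge le_sup_left ?_
        have h1 := H.card_mul_index
        have h2 := K.card_mul_index
        have h3 : 0 < H.index := Nat.pos_of_ne_zero Subgroup.index_ne_zero_of_finite
        rw [h] at h2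
        exact (Nat.eq_of_mul_eq_mul_right h3 (h2.trans h1.symm)).le
      have hle : H' ≤ H := by rw [hKH]; exact le_sup_right
      refine ⟨1, one_mem _, ?_⟩
      rw [show H.map (MulAut.conj (1 : alternatingGroup (Fin 5))).toMonoidHom = H by
        ext x; simp]
      refine Subgroup.eq_of_le_of_card_ge hle (le_of_eq ?_)
      exact (Subgroup.card_map_of_injective (MulAut.conj g).injective).symm

end Cfsg.Agent.S2222
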