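import Cfsg.Statements.S2225
import Cfsg.Agent.Lib.Linear.Pronormal.SylowTwoSL
import Cfsg.Agent.Lib.Linear.Pronormal.PSLTwo
-- import your own Cfsg.Agent.* helpers here

set_option autoImplicit false
open Cfsg

namespace Cfsg.Agent.S2225

/-- Let F be a finite field and d = 2^w ≥ 2 a power of 2 such that PSL_d(F) is simple. Then every subgroup H of PSL_d(F) of odd index is pronormal: for every g, H and gHg⁻¹ are conjugate by an element of the subgroup they generate. -/
theorem result {F : Type*} [Field F] [Fintype F]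
    (w : ℕ) (hw : 1 ≤ w) (hs : IsSimpleGroup (Matrix.ProjectiveSpecialLinearGroup (Fin (2 ^ w)) F))
    (H : Subgroup (Matrix.ProjectiveSpecialLinearGroup (Fin (2 ^ w)) F)) (hH : Odd H.index) : Cfsg.IsPronormal H := by
  classical
  haveI : Fact (Nat.Prime 2) := ⟨Nat.prime_two⟩
  have h2 : ¬ 2 ∣ H.index := fun h => by rw [Nat.odd_iff] at hH; omega
  rcases Nat.even_or_odd (Fintype.card F) with he | ho
  · -- characteristic two
    obtain ⟨p, hp⟩ := CharP.exists F
    haveI := hp
    haveI : Fact p.Prime := ⟨CharP.char_is_prime F p⟩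
    obtain ⟨k, -, hk⟩ := FiniteField.card F p
    have hp2 : p = 2 := by
      have h : 2 ∣ p ^ (k : ℕ) := hk ▸ he.two_dvd
      exact ((Nat.prime_dvd_prime_iff_eq Nat.prime_two Fact.out).1 (Nat.prime_two.dvd_of_dvd_pow h)).symm
    subst hp2
    let π := QuotientGroup.mk' (Subgroup.center (Matrix.SpecialLinearGroup (Fin (2 ^ w)) F))
    have hπ : Function.Surjective π := QuotientGroup.mk'_surjective _
    refine Cfsg.Lib.Linear.Pronormal.pronormal_of_comap π hπ
      (Cfsg.Lib.Linear.Pronormal.pronormal_defining 2 ?_)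
    rwa [Subgroup.index_comap_of_surjective H hπ]
  · obtain ⟨k, rfl⟩ : ∃ k, w = k + 1 := ⟨w - 1, by omega⟩
    match k, hs, H, hH, h2 with
    | 0, _, H, hH, _ => exact Cfsg.Lib.Linear.Pronormal.pronormal_psl_two (F := F) ho hH
    | k + 1, _, H, hH, h2 =>
      obtain ⟨P, hP⟩ := Cfsg.Lib.Linear.Pronormal.exists_sylow_le h2
      exact (Cfsg.Lib.Fusion.Pronormal.self_normalizing_overgroup P
        (Cfsg.Lib.Linear.Pronormal.psl_normalizer_eq ho k P) hP).2

end Cfsg.Agent.S2225
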