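import Cfsg.Statements.S2226
import Cfsg.Agent.Lib.Linear.Pronormal.UnitaryEven
import Cfsg.Agent.Lib.Linear.Pronormal.UnitaryOdd
-- import your own Cfsg.Agent.* helpers here

set_option autoImplicit false
open Cfsg

namespace Cfsg.Agent.S2226

/-- Let F be a finite field with q² elements and d = 2^w ≥ 4 a power of 2 such that the unitary group PSU_d(q) (realised over F) is simple. Then every subgroup H of PSU_d(q) of odd index is pronormal: for every g, H and gHg⁻¹ are conjugate by an element of the subgroup they generate. -/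
theorem result {F : Type*} [Field F] [Fintype F] (q : ℕ)
    (hF : Fintype.card F = q ^ 2) (w : ℕ) (hw : 2 ≤ w) (hs : IsSimpleGroup (Cfsg.PSU (2 ^ w) F q))
    (H : Subgroup (Cfsg.PSU (2 ^ w) F q)) (hH : Odd H.index) : Cfsg.IsPronormal H := by
  classical
  haveI : Fact (Nat.Prime 2) := ⟨Nat.prime_two⟩
  have h2 : ¬ 2 ∣ H.index := fun h => by rw [Nat.odd_iff] at hH; omega
  rcases Nat.even_or_odd q with he | ho
  · obtain ⟨p, hp⟩ := CharP.exists F
    haveI := hp
    haveI : Fact p.Prime := ⟨CharP.char_is_prime F p⟩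
    obtain ⟨k, -, hk⟩ := FiniteField.card F p
    have hp2 : p = 2 := by
      have h : 2 ∣ p ^ (k : ℕ) := by
        rw [← hk, hF]
        exact he.two_dvd.trans (dvd_pow_self q two_ne_zero)
      exact ((Nat.prime_dvd_prime_iff_eq Nat.prime_two Fact.out).1 (Nat.prime_two.dvd_of_dvd_pow h)).symm
    subst hp2
    have hn : Even (2 ^ w) := Nat.even_pow.2 ⟨even_two, by omega⟩
    obtain ⟨e⟩ := Cfsg.Lib.Linear.Pronormal.Twisted.exists_equiv (n := 2 ^ w) hF hn
    let π : Cfsg.Lib.Linear.Pronormal.Twisted.Fix (n := 2 ^ w) (Cfsg.Lib.Linear.Herm.frob hF) →* Cfsg.PSU (2 ^ w) F q :=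
      (QuotientGroup.mk' (Subgroup.center (Cfsg.SU (2 ^ w) F q))).comp e.toMonoidHom
    have hπ : Function.Surjective π := (QuotientGroup.mk'_surjective _).comp e.surjective
    have hne : ∃ x, Cfsg.Lib.Linear.Herm.frob hF x ≠ x := by
      by_contra hcon
      push Not at hcon
      have hq2 := Cfsg.Lib.Linear.Herm.two_le_q hF
      have h1 := Cfsg.Lib.Linear.Herm.card_norm_eq hF (one_ne_zero (α := F)) (one_pow q)
      have h3 : Nat.card {x : F // x ^ (q + 1) = 1} ≤ 2 := by
        refine le_trans (Nat.card_le_card_of_injective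
          (fun x => (⟨x.1, by
            have h := x.2
            rw [pow_succ, ← Cfsg.Lib.Linear.Herm.frob_apply hF, hcon] at h
            exact mul_self_eq_one_iff.1 h⟩ : {y : F // y = 1 ∨ y = -1}))
          (fun a b h => Subtype.ext (congrArg (fun z : {y : F // y = 1 ∨ y = -1} => z.1) h))) ?_
        rw [Nat.card_eq_fintype_card, Fintype.card_subtype]
        exact (Finset.card_le_card (fun x hx => by simpa using hx : _ ⊆ ({1, -1} : Finset F))).trans Finset.card_le_two
      omega
    refine Cfsg.Lib.Linear.Pronormal.pronormal_of_comap π hπ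
      (Cfsg.Lib.Linear.Pronormal.Twisted.pronormal_fix _ (Cfsg.Lib.Linear.Herm.frob_frob hF) hne hn ?_)
    rwa [Subgroup.index_comap_of_surjective H hπ]
  · obtain ⟨k, rfl⟩ : ∃ k, w = k + 2 := ⟨w - 2, by omega⟩
    obtain ⟨P, hP⟩ := Cfsg.Lib.Linear.Pronormal.exists_sylow_le h2
    exact (Cfsg.Lib.Fusion.Pronormal.self_normalizing_overgroup P
      (Cfsg.Lib.Linear.Pronormal.UOdd.psu_normalizer_eq F hF ho k P) hP).2

end Cfsg.Agent.S2226
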