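import Cfsg.Statements.S2228
import Cfsg.Agent.Lib.J3Type.Dichotomy
import Cfsg.Agent.Lib.J3Type.SeventeenNineteen
import Cfsg.Agent.S1658

set_option autoImplicit false
open Cfsg

namespace Cfsg.Agent.S2228

/-- Let G be a finite simple group in which all involutions are conjugate and the centralizer of an involution has a normal extraspecial subgroup of order 32 complemented by a subgroup isomorphic to the alternating group of degree 5 (a group of J₃-type). Then a Sylow 19-subgroup of G is self-centralizing with normalizer-quotient cyclic of order 9, and a Sylow 17-subgroup is self-centralizing with normalizer-quotient cyclic of order 8. -/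
theorem result {G : Type*} [Group G] [Finite G] [IsSimpleGroup G]
    (hone : ∀ x y : G, orderOf x = 2 → orderOf y = 2 → IsConj x y)
    (t : G) (ht : orderOf t = 2) (E A : Subgroup ↥(Subgroup.centralizer ({t} : Set G))) [E.Normal]
    (hE : Cfsg.IsExtraspecial 2 ↥E) (hE32 : Nat.card ↥E = 32) (hEA : E.IsComplement' A)
    (eA : ↥A ≃* ↥(alternatingGroup (Fin 5))) :
    (∀ X : Sylow 19 G, Subgroup.centralizer ((X : Subgroup G) : Set G) = X ∧
        ∃ h : ((X : Subgroup G).subgroupOf (Subgroup.normalizer ((X : Subgroup G) : Set G))).Normal,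
          IsCyclic (↥(Subgroup.normalizer ((X : Subgroup G) : Set G)) ⧸ (X : Subgroup G).subgroupOf _) ∧
          Nat.card (↥(Subgroup.normalizer ((X : Subgroup G) : Set G)) ⧸ (X : Subgroup G).subgroupOf _) = 9) ∧
    (∀ Y : Sylow 17 G, Subgroup.centralizer ((Y : Subgroup G) : Set G) = Y ∧
        ∃ h : ((Y : Subgroup G).subgroupOf (Subgroup.normalizer ((Y : Subgroup G) : Set G))).Normal,
          IsCyclic (↥(Subgroup.normalizer ((Y : Subgroup G) : Set G)) ⧸ (Y : Subgroup G).subgroupOf _) ∧
          Nat.card (↥(Subgroup.normalizer ((Y : Subgroup G) : Set G)) ⧸ (Y : Subgroup G).subgroupOf _) = 8) := by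
  classical
  have e : ↥(Subgroup.centralizer ({t} : Set G)) ⧸ E ≃* ↥(alternatingGroup (Fin 5)) :=
    (hEA.symm.QuotientMulEquiv).trans eA
  obtain ⟨hminus, h2c⟩ :=
    Cfsg.Lib.J3Type.reduce t (Cfsg.Lib.J3Type.twoCentral_of_one_class hone ht) E hE32 hE e
  obtain ⟨F, _, _, ω, hF, hω, ⟨φ⟩⟩ := Cfsg.Agent.S1658.result t ht E hE hE32 hminus h2c e hone
  have H := Cfsg.Lib.JThree.Hyp.of_card hF hω
  have hcard : Nat.card G = 50232960 := (Nat.card_congr φ.toEquiv).trans (Cfsg.Lib.JThree.card_J3 hF H)
  have hA : Nat.card A = 60 := by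
    rw [Nat.card_congr eA.toEquiv, nat_card_alternatingGroup, Nat.card_fin]
    rfl
  have hC : Nat.card ↥(Subgroup.centralizer ({t} : Set G)) = 1920 := by
    rw [← hEA.card_mul_card, hE32, hA]
  refine Cfsg.Lib.J3Type.syl_facts hcard ?_ ?_ (Cfsg.Lib.J3Type.no_sixteen hone t ht E hE e)
  · intro x hx
    rw [← Cfsg.Lib.J3Type.cent_nineteen hF H (show orderOf (φ x) = 19 by rw [MulEquiv.orderOf_eq, hx])]
    exact Nat.card_congr
      { toFun := fun w => ⟨φ w, Subgroup.mem_centralizer_singleton_iff.2 (by
          rw [← map_mul, Subgroup.mem_centralizer_singleton_iff.1 w.2, map_mul])⟩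
        invFun := fun w => ⟨φ.symm w, Subgroup.mem_centralizer_singleton_iff.2 (φ.injective (by
          rw [map_mul, map_mul, φ.apply_symm_apply]
          exact Subgroup.mem_centralizer_singleton_iff.1 w.2))⟩
        left_inv := fun w => Subtype.ext (φ.symm_apply_apply w)
        right_inv := fun w => Subtype.ext (φ.apply_symm_apply w) }
  · intro x hx
    obtain ⟨g, hg⟩ := isConj_iff.1 (hone t x ht hx)
    rw [← hg, ← hC]
    refine Nat.card_congr
      { toFun := fun w => ⟨g⁻¹ * w * g, Subgroup.mem_centralizer_singleton_iff.2 ?_⟩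
        invFun := fun w => ⟨g * w * g⁻¹, Subgroup.mem_centralizer_singleton_iff.2 ?_⟩
        left_inv := fun w => Subtype.ext (by simp [mul_assoc])
        right_inv := fun w => Subtype.ext (by simp [mul_assoc]) }
    · have h := Subgroup.mem_centralizer_singleton_iff.1 w.2
      calc g⁻¹ * (w : G) * g * t = g⁻¹ * ((w : G) * (g * t * g⁻¹)) * g := by group
        _ = g⁻¹ * (g * t * g⁻¹ * (w : G)) * g := by rw [h]
        _ = t * (g⁻¹ * (w : G) * g) := by group
    · have h := Subgroup.mem_centralizer_singleton_iff.1 w.2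
      calc g * (w : G) * g⁻¹ * (g * t * g⁻¹) = g * ((w : G) * t) * g⁻¹ := by group
        _ = g * (t * (w : G)) * g⁻¹ := by rw [h]
        _ = g * t * g⁻¹ * (g * (w : G) * g⁻¹) := by group

end Cfsg.Agent.S2228
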