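import Cfsg.Statements.S2231
import Cfsg.Agent.Lib.Linear.GLTwo
import Cfsg.Agent.Lib.Local.SL2Involved

set_option autoImplicit false
open Cfsg Matrix
open scoped MatrixGroups

namespace Cfsg.Agent.S2231

theorem sylow_comm {p : ℕ} [Fact p.Prime] {K : Type*} [Field K] [Fintype K] [CharP K p]
    (Q : Sylow p (Matrix.ProjectiveSpecialLinearGroup (Fin 2) K)) : IsMulCommutative (Q : Subgroup (Matrix.ProjectiveSpecialLinearGroup (Fin 2) K)) := by
  classical
  set q := Fintype.card K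
  obtain ⟨n, hp, hq⟩ := FiniteField.card K p
  have h01 : (0 : Fin 2) ≠ 1 := by decide
  let τ : Multiplicative K →* SL(2, K) :=
    { toFun := fun c => SpecialLinearGroup.transvection h01 c.toAdd
      map_one' := by
        apply Matrix.SpecialLinearGroup.ext
        intro i j
        simp [Matrix.SpecialLinearGroup.transvection_coe]
      map_mul' := fun a b => by
        apply Matrix.SpecialLinearGroup.ext
        intro i j
        simp [Matrix.SpecialLinearGroup.transvection_coe]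
        fin_cases i <;> fin_cases j <;> simp [Matrix.mul_apply, Fin.sum_univ_two, Matrix.single_apply, add_comm] }
  let π := QuotientGroup.mk' (Subgroup.center SL(2, K))
  have hinj : Function.Injective (π.comp τ) := by
    rw [injective_iff_map_eq_one]
    intro c hc
    have h1 := (QuotientGroup.eq_one_iff _).1 hc
    obtain ⟨r, -, hr⟩ := Matrix.SpecialLinearGroup.mem_center_iff.1 h1
    have h2 := congrFun (congrFun hr 0) 1
    simp [τ, Matrix.SpecialLinearGroup.transvection_coe, Matrix.scalar_apply] at h2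
    apply Multiplicative.toAdd.injective
    simpa using h2.symm
  set T := (π.comp τ).range
  have hT : Nat.card T = q := by
    rw [← Nat.card_congr (MonoidHom.ofInjective hinj).toEquiv, Nat.card_eq_fintype_card,
      Fintype.card_multiplicative]
  have hTp : IsPGroup p T := IsPGroup.of_card (n := n) (hT.trans hq)
  obtain ⟨Q₀, hQ₀⟩ := hTp.exists_le_sylow
  obtain ⟨a, ha⟩ := (IsPGroup.iff_card (p := p)).1 Q₀.isPGroup'
  have hdvd : Nat.card (Q₀ : Subgroup (Matrix.ProjectiveSpecialLinearGroup (Fin 2) K)) ∣ q * (q ^ 2 - 1) := by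
    rw [← Cfsg.Lib.Linear.Two.card_SL_two]
    exact (Subgroup.card_subgroup_dvd_card _).trans (Subgroup.card_quotient_dvd_card _)
  have hle : Nat.card (Q₀ : Subgroup (Matrix.ProjectiveSpecialLinearGroup (Fin 2) K)) ≤ q := by
    refine Nat.le_of_dvd Fintype.card_pos ((Nat.Coprime.dvd_mul_right ?_).1 hdvd)
    rw [ha]
    refine Nat.Coprime.pow_left a ((hp.coprime_iff_not_dvd).2 fun h => ?_)
    have hpq : p ∣ q ^ 2 := dvd_pow (by show p ∣ Fintype.card K; rw [hq]; exact dvd_pow_self p n.pos.ne') two_ne_zero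
    have h1 : p ∣ q ^ 2 - (q ^ 2 - 1) := Nat.dvd_sub hpq h
    have h2 : 0 < q ^ 2 := pow_pos Fintype.card_pos 2
    rw [show q ^ 2 - (q ^ 2 - 1) = 1 by omega] at h1
    exact hp.not_dvd_one h1
  have heq : T = (Q₀ : Subgroup (Matrix.ProjectiveSpecialLinearGroup (Fin 2) K)) :=
    Subgroup.eq_of_le_of_card_ge hQ₀ (hT ▸ hle)
  have hT0 : IsMulCommutative T := ⟨⟨fun x y => by
    obtain ⟨_, a, rfl⟩ := x
    obtain ⟨_, b, rfl⟩ := y
    apply Subtype.ext
    show π.comp τ a * π.comp τ b = π.comp τ b * π.comp τ a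
    rw [← map_mul, mul_comm, map_mul]⟩⟩
  obtain ⟨g, hg⟩ := MulAction.exists_smul_eq (Matrix.ProjectiveSpecialLinearGroup (Fin 2) K) Q₀ Q
  rw [← hg, Sylow.coe_subgroup_smul, ← heq]
  exact Subgroup.map_isMulCommutative _ _

theorem main {p : ℕ} [Fact p.Prime] {K : Type*} [Field K] [Fintype K] [CharP K p] :
    ¬ Cfsg.Involves ↥(Cfsg.qd p) (Matrix.ProjectiveSpecialLinearGroup (Fin 2) K) := by
  classical
  intro h
  set G := Matrix.ProjectiveSpecialLinearGroup (Fin 2) K
  obtain ⟨X, f, hf⟩ := Cfsg.Lib.FusionSys.involves_iff_exists_hom.1 h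
  haveI : Finite ↥(Cfsg.qd p) := Finite.of_surjective f hf
  obtain ⟨T₀⟩ : Nonempty (Sylow p X) := inferInstance
  obtain ⟨T, hT⟩ := (T₀.isPGroup'.map X.subtype).exists_le_sylow
  haveI := sylow_comm T
  haveI : IsMulCommutative (T₀ : Subgroup X) := ⟨⟨fun x y => by
    apply Subtype.ext; apply Subtype.ext
    have h := congrArg Subtype.val ((sylow_comm T).is_comm.comm ⟨_, hT ⟨x.1, x.2, rfl⟩⟩ ⟨_, hT ⟨y.1, y.2, rfl⟩⟩)
    simpa using h⟩⟩
  -- upper unitriangular matrices
  let S : Submonoid (Matrix.SpecialLinearGroup (Fin 3) (ZMod p)) :=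
    { carrier := {M | M.1 1 0 = 0 ∧ M.1 2 0 = 0 ∧ M.1 2 1 = 0 ∧ M.1 0 0 = 1 ∧ M.1 1 1 = 1 ∧ M.1 2 2 = 1}
      one_mem' := by simp
      mul_mem' := by
        rintro A B ⟨a1, a2, a3, a4, a5, a6⟩ ⟨b1, b2, b3, b4, b5, b6⟩
        simp [Matrix.SpecialLinearGroup.coe_mul, Matrix.mul_apply, Fin.sum_univ_three, a1, a2, a3, a4, a5, a6, b1, b2, b3, b4, b5, b6] }
  let U : Subgroup (Matrix.SpecialLinearGroup (Fin 3) (ZMod p)) :=
    { S with
      inv_mem' := fun {x} hx => by
        rw [← mul_one x⁻¹, ← pow_orderOf_eq_one x]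
        obtain ⟨k, hk⟩ : ∃ k, orderOf x = k + 1 := ⟨orderOf x - 1, by have := orderOf_pos x; omega⟩
        rw [hk, pow_succ', inv_mul_cancel_left]
        exact S.pow_mem hx k }
  have hUq : U ≤ Cfsg.qd p := fun M hM => Subgroup.subset_closure ⟨hM.2.1, hM.2.2.1, hM.2.2.2.2.2⟩
  have hU : Nat.card U ∣ p ^ 3 := by
    let φ : U → ZMod p × ZMod p × ZMod p := fun M => (M.1.1 0 1, M.1.1 0 2, M.1.1 1 2)
    have hb : Function.Bijective φ := by
      constructor
      · rintro ⟨A, a1, a2, a3, a4, a5, a6⟩ ⟨B, b1, b2, b3, b4, b5, b6⟩ h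
        simp [φ] at h
        apply Subtype.ext
        apply Matrix.SpecialLinearGroup.ext
        intro i j
        fin_cases i <;> fin_cases j <;> simp_all
      · rintro ⟨x, y, z⟩
        refine ⟨⟨⟨!![1, x, y; 0, 1, z; 0, 0, 1], by simp [Matrix.det_fin_three]⟩, ?_⟩, ?_⟩
        · exact ⟨rfl, rfl, rfl, rfl, rfl, rfl⟩
        · rfl
    rw [Nat.card_congr (Equiv.ofBijective φ hb)]
    simp [Nat.card_prod, Nat.card_zmod, pow_succ, mul_assoc]
  have hUp : IsPGroup p (U.subgroupOf (Cfsg.qd p)) := by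
    obtain ⟨k, -, hk⟩ := (Nat.dvd_prime_pow (Fact.out : p.Prime)).1 hU
    exact IsPGroup.of_card (n := k) ((Nat.card_congr (Subgroup.subgroupOfEquivOfLe hUq).toEquiv).trans hk)
  obtain ⟨P, hP⟩ := hUp.exists_le_sylow
  obtain ⟨g, hg⟩ := MulAction.exists_smul_eq ↥(Cfsg.qd p) (T₀.mapSurjective hf) P
  have hPc : IsMulCommutative (P : Subgroup ↥(Cfsg.qd p)) := by
    rw [← hg, Sylow.coe_subgroup_smul, Sylow.coe_mapSurjective]
    exact Subgroup.map_isMulCommutative _ _
  let A : Matrix.SpecialLinearGroup (Fin 3) (ZMod p) := ⟨!![1, 1, 0; 0, 1, 0; 0, 0, 1], by simp [Matrix.det_fin_three]⟩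
  let B : Matrix.SpecialLinearGroup (Fin 3) (ZMod p) := ⟨!![1, 0, 0; 0, 1, 1; 0, 0, 1], by simp [Matrix.det_fin_three]⟩
  have hA : A ∈ U := ⟨rfl, rfl, rfl, rfl, rfl, rfl⟩
  have hB : B ∈ U := ⟨rfl, rfl, rfl, rfl, rfl, rfl⟩
  have h1 := congrArg Subtype.val (hPc.is_comm.comm ⟨⟨A, hUq hA⟩, hP hA⟩ ⟨⟨B, hUq hB⟩, hP hB⟩)
  have h3 : A * B = B * A := congrArg Subtype.val h1
  have h2 := congrFun (congrFun (congrArg Subtype.val h3) 0) 2
  rw [Matrix.SpecialLinearGroup.coe_mul, Matrix.SpecialLinearGroup.coe_mul] at h2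
  simp [A, B, Matrix.mul_apply, Fin.sum_univ_three] at h2

/-- Let p be an odd prime and K a finite field of characteristic p. Then Qd(p) (the natural semidirect product of an elementary abelian group of order p² by SL₂(p)) is not involved in the projective special linear group PSL₂(K). -/
theorem result {p : ℕ} [Fact p.Prime] (hp : p ≠ 2) {K : Type*} [Field K] [Fintype K] [CharP K p] : ¬ Cfsg.Involves ↥(Cfsg.qd p) (Matrix.ProjectiveSpecialLinearGroup (Fin 2) K) := by
  exact main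

end Cfsg.Agent.S2231
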