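import Cfsg.Statements.S2232
import Cfsg.Agent.Lib.U3Qd.Unitary
import Cfsg.Agent.Lib.Local.QdInvolved

set_option autoImplicit false
open Cfsg

namespace Cfsg.Agent.S2232

/-- Let p be an odd prime, q a power of p and K a finite field with q² elements. Then Qd(p) (the natural semidirect product of an elementary abelian group of order p² by SL₂(p)) is not involved in the projective special unitary group PSU₃(q) realised over K. -/
theorem result {p : ℕ} [Fact p.Prime] (hp : p ≠ 2) {K : Type*} [Field K] [Fintype K] [CharP K p] (n : ℕ) (hn : 1 ≤ n) (hK : Fintype.card K = (p ^ n) ^ 2) : ¬ Cfsg.Involves ↥(Cfsg.qd p) (Cfsg.PSU 3 K (p ^ n)) := by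
  intro h
  have hsec : Cfsg.Involves (Cfsg.PSU 3 K (p ^ n)) (Cfsg.SU 3 K (p ^ n)) :=
    Cfsg.Lib.FusionSys.involves_iff_exists_hom.2 ⟨⊤, (QuotientGroup.mk' _).comp (Subgroup.topEquiv.toMonoidHom),
      fun y => by
      obtain ⟨x, rfl⟩ := QuotientGroup.mk'_surjective (Subgroup.center (Cfsg.SU 3 K (p ^ n))) y
      exact ⟨⟨x, Subgroup.mem_top x⟩, rfl⟩⟩
  exact Cfsg.Lib.U3Qd.not_involves_qd
    (fun P hP hne a ha b hb => Cfsg.Lib.U3Qd.local_pclosed hK P hP hne a ha b hb)
    (Cfsg.Lib.Local.QdInvolved.involves_trans h hsec)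

end Cfsg.Agent.S2232
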