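import Cfsg.Statements.S2240
import Cfsg.Agent.Lib.Linear.Suzuki.Struct

set_option autoImplicit false
open Cfsg

namespace Cfsg.Agent.S2240

open Cfsg.Lib.Linear

/-- Elementary abelian TI-subgroups of the Suzuki group: let q = 2^(2m+1) with m ≥ 1, the group realised as the stabiliser in SL₄ of the Suzuki–Tits ovoid, and n ≥ 2. There is an elementary abelian 2-subgroup E of order 2^n that is a TI-subgroup (every conjugate of E meeting E nontrivially is E itself) if and only if n divides 2m + 1. -/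
theorem result {F : Type*} [Field F] [Fintype F] {m : ℕ} (hm : 1 ≤ m) (hF : Fintype.card F = 2 ^ (2 * m + 1)) (n : ℕ) (hn : 2 ≤ n) :
    (∃ E : Subgroup ↥(Cfsg.Sz F m), Cfsg.IsElementaryAbelian 2 E ∧ Nat.card ↥E = 2 ^ n ∧
      ∀ x : ↥(Cfsg.Sz F m), E ⊓ E.map (MulAut.conj x).toMonoidHom ≠ ⊥ → x ∈ Subgroup.normalizer (E : Set ↥(Cfsg.Sz F m))) ↔ n ∣ 2 * m + 1 := by
  classical
  have h : Suz.Params F m := ⟨hm, hF⟩
  haveI := Suz.charP_two h
  haveI : Fact (Nat.Prime 2) := ⟨Nat.prime_two⟩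
  have hscale : ∀ (a b : F) (k : Fˣ) (β : F), Suz.uS h a b * Suz.dS h k * Suz.uS h 0 β * (Suz.uS h a b * Suz.dS h k)⁻¹ =
      Suz.uS h 0 ((k : F) * Suz.th m (k : F) * β) := fun a b k β => by
    rw [show Suz.uS h a b * Suz.dS h k * Suz.uS h 0 β * (Suz.uS h a b * Suz.dS h k)⁻¹ =
        Suz.uS h a b * (Suz.dS h k * Suz.uS h 0 β * (Suz.dS h k)⁻¹) * (Suz.uS h a b)⁻¹ by group,
      Suz.dS_mul_uS h, mul_inv_cancel_right, mul_inv_eq_iff_eq_mul, Suz.uS_mul h, Suz.uS_mul h]
    simp only [mul_zero, add_zero, zero_add, Suz.th_zero h, zero_mul]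
    rw [add_comm b]
  constructor
  · rintro ⟨E, ⟨-, hE⟩, hcard, hTI⟩
    have hp : IsPGroup 2 ↥E := IsPGroup.of_card (n := n) hcard
    obtain ⟨P, hPle⟩ := hp.exists_le_sylow
    obtain ⟨g, hP⟩ := Suz.sylow_conj h P
    obtain ⟨φ, hφ⟩ : ∃ φ, φ = MulAut.conj g := ⟨_, rfl⟩
    rw [← hφ] at hP
    have hE' : ∀ e ∈ E, ∃ b, e = φ (Suz.uS h 0 b) := fun e he => by
      obtain ⟨u, ⟨a, b, rfl⟩, hu⟩ := hP.le (hPle he)
      refine ⟨b, ?_⟩
      have h2 : Suz.uS h a b * Suz.uS h a b = 1 := by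
        apply φ.injective
        rw [map_mul, map_one, ← sq]
        exact hu.symm ▸ hE e he
      rw [Suz.uS_mul h, Suz.add_self h, Suz.add_self h, zero_add, ← Suz.uS_zero h] at h2
      have ha : a = 0 := by
        rcases mul_eq_zero.mp (Suz.uS_inj h h2).2 with e' | e'
        exacts [(Suz.th_eq_zero h).mp e', e']
      rw [← hu, ha]
      rfl
    let A : Set F := {b | φ (Suz.uS h 0 b) ∈ E}
    have hbij : Function.Bijective (fun b : A => (⟨φ (Suz.uS h 0 b.1), b.2⟩ : ↥E)) := by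
      refine ⟨fun x y e => Subtype.ext (Suz.uS_inj h (φ.injective (congrArg Subtype.val e))).2, fun ⟨e, he⟩ => ?_⟩
      obtain ⟨b, rfl⟩ := hE' e he
      exact ⟨⟨b, he⟩, rfl⟩
    have hA : Nat.card A = 2 ^ n := (Nat.card_eq_of_bijective _ hbij).trans hcard
    have hzero : (0 : F) ∈ A := by
      show φ (Suz.uS h 0 0) ∈ E
      rw [Suz.uS_zero h, map_one]; exact one_mem E
    have hadd : ∀ x ∈ A, ∀ y ∈ A, x + y ∈ A := fun x hx y hy => by
      show φ (Suz.uS h 0 (x + y)) ∈ E
      rw [show Suz.uS h 0 (x + y) = Suz.uS h 0 x * Suz.uS h 0 y by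
        rw [Suz.uS_mul h, add_zero, mul_zero, add_zero], map_mul]
      exact mul_mem hx hy
    obtain ⟨a0, ha0, ha0'⟩ : ∃ a0 ∈ A, a0 ≠ 0 := by
      by_contra hc
      push Not at hc
      have : Nat.card A ≤ 1 :=
        (Finite.card_le_one_iff_subsingleton.mpr ⟨fun x y => Subtype.ext ((hc _ x.2).trans (hc _ y.2).symm)⟩)
      rw [hA] at this
      have := Nat.one_lt_two_pow (n := n) (by omega)
      omega
    have hstab : ∀ lam : F, lam * a0 ∈ A → ∀ a ∈ A, lam * a ∈ A := fun lam hl a ha => by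
      by_cases h0 : lam = 0
      · rw [h0, zero_mul]; exact hzero
      obtain ⟨t, ht⟩ := Suz.mul_th_surjective h lam
      have ht0 : t ≠ 0 := fun e => h0 (by rw [← ht, e, zero_mul])
      obtain ⟨k, hk⟩ : ∃ k : Fˣ, (k : F) = t := ⟨Units.mk0 t ht0, rfl⟩
      have hconj : ∀ β, φ (Suz.dS h k) * φ (Suz.uS h 0 β) * (φ (Suz.dS h k))⁻¹ = φ (Suz.uS h 0 (lam * β)) :=
        fun β => by
          rw [← map_mul, ← map_inv, ← map_mul, Suz.dS_mul_uS h, mul_inv_cancel_right, mul_zero, hk, ht]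
      have hn' := hTI (φ (Suz.dS h k)) fun e => by
        have hmem : φ (Suz.uS h 0 (lam * a0)) ∈ E ⊓ E.map (MulAut.conj (φ (Suz.dS h k))).toMonoidHom :=
          ⟨hl, φ (Suz.uS h 0 a0), ha0, hconj a0⟩
        rw [e, Subgroup.mem_bot, ← map_one φ, φ.apply_eq_iff_eq, ← Suz.uS_zero h] at hmem
        exact mul_ne_zero h0 ha0' (Suz.uS_inj h hmem).2
      have := (Subgroup.mem_normalizer_iff.mp hn' _).mp ha
      rw [hconj] at this
      exact this
    let K : Subfield F :=
      { carrier := {lam | ∀ a ∈ A, lam * a ∈ A}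
        one_mem' := fun a ha => by rw [one_mul]; exact ha
        zero_mem' := fun a _ => by rw [zero_mul]; exact hzero
        add_mem' := fun {x y} hx hy a ha => by rw [add_mul]; exact hadd _ (hx a ha) _ (hy a ha)
        mul_mem' := fun {x y} hx hy a ha => by rw [mul_assoc]; exact hx _ (hy a ha)
        neg_mem' := fun {x} hx a ha => by rw [Suz.neg_eq h]; exact hx a ha
        inv_mem' := fun x hx => by
          by_cases h0 : x = 0
          · rw [h0, inv_zero]; intro a _; rw [zero_mul]; exact hzero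
          have hp : ∀ i : ℕ, ∀ a ∈ A, x ^ i * a ∈ A := fun i => by
            induction i with
            | zero => intro a ha; rw [pow_zero, one_mul]; exact ha
            | succ i ih => intro a ha; rw [pow_succ, mul_assoc]; exact ih _ (hx a ha)
          have : x⁻¹ = x ^ (Fintype.card F - 2) := by
            refine inv_eq_of_mul_eq_one_left ?_
            rw [← pow_succ, show Fintype.card F - 2 + 1 = Fintype.card F - 1 by
              have := Fintype.one_lt_card (α := F); omega]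
            exact FiniteField.pow_card_sub_one_eq_one x h0
          rw [this]
          exact hp _ }
    have hbij2 : Function.Bijective (fun lam : K => (⟨lam.1 * a0, lam.2 a0 ha0⟩ : A)) := by
      refine ⟨fun x y e => Subtype.ext (mul_right_cancel₀ ha0' (congrArg Subtype.val e)), fun ⟨b, hb⟩ => ?_⟩
      refine ⟨⟨b / a0, hstab _ (by rw [div_mul_cancel₀ _ ha0']; exact hb)⟩, Subtype.ext ?_⟩
      exact div_mul_cancel₀ _ ha0'
    have hK : Nat.card K = 2 ^ n := (Nat.card_eq_of_bijective _ hbij2).trans hA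
    haveI := Fintype.ofFinite K
    have hr := Module.card_eq_pow_finrank (K := K) (V := F)
    rw [hF, ← Nat.card_eq_fintype_card, hK, ← pow_mul] at hr
    exact ⟨_, Nat.pow_right_injective le_rfl hr⟩
  · intro hdvd
    obtain ⟨A, hA⟩ : ∃ A : Set F, A = {b | b ^ 2 ^ n = b} := ⟨_, rfl⟩
    have hadd : ∀ x ∈ A, ∀ y ∈ A, x + y ∈ A := fun x hx y hy => by
      rw [hA] at *
      show (x + y) ^ 2 ^ n = x + y
      rw [add_pow_char_pow x y 2 n, hx, hy]
    have hmul : ∀ x ∈ A, ∀ y ∈ A, x * y ∈ A := fun x hx y hy => by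
      rw [hA] at *
      show (x * y) ^ 2 ^ n = x * y
      rw [mul_pow, hx, hy]
    have hinv : ∀ x ∈ A, x⁻¹ ∈ A := fun x hx => by
      rw [hA] at *
      show x⁻¹ ^ 2 ^ n = x⁻¹
      rw [inv_pow, hx]
    have hzero : (0 : F) ∈ A := by rw [hA]; exact zero_pow (by positivity)
    have hAcard : Nat.card A = 2 ^ n := by
      have hker : Nat.card (powMonoidHom (α := Fˣ) (2 ^ n - 1)).ker = 2 ^ n - 1 := by
        rw [IsCyclic.card_powMonoidHom_ker, Nat.card_eq_fintype_card, Fintype.card_units, hF]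
        refine Nat.gcd_eq_right ?_
        obtain ⟨r, hr⟩ := hdvd
        rw [hr, pow_mul]
        simpa using Nat.sub_dvd_pow_sub_pow (2 ^ n) 1 r
      have e : A = insert 0 ((fun u : Fˣ => (u : F)) '' ((powMonoidHom (α := Fˣ) (2 ^ n - 1)).ker : Set Fˣ)) := by
        ext b
        rw [hA]
        by_cases hb : b = 0
        · subst hb; simp
        · simp only [Set.mem_setOf_eq, Set.mem_insert_iff, hb, false_or, Set.mem_image, SetLike.mem_coe,
            MonoidHom.mem_ker, powMonoidHom_apply]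
          have h1 : 2 ^ n - 1 + 1 = 2 ^ n := by have := Nat.one_le_two_pow (n := n); omega
          constructor
          · intro e
            refine ⟨Units.mk0 b hb, Units.ext ?_, rfl⟩
            rw [← h1, pow_succ] at e
            simpa using mul_right_cancel₀ hb (e.trans (one_mul b).symm)
          · rintro ⟨u, hu, rfl⟩
            rw [← h1, pow_succ, ← Units.val_pow_eq_pow_val, hu, Units.val_one, one_mul]
      rw [e, Nat.card_coe_set_eq, Set.ncard_insert_of_notMem (by simp) (Set.toFinite _),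
        Set.ncard_image_of_injective _ Units.val_injective, ← Nat.card_coe_set_eq]
      have := Nat.one_le_two_pow (n := n)
      show Nat.card (powMonoidHom (α := Fˣ) (2 ^ n - 1)).ker + 1 = _
      omega
    let E : Subgroup ↥(Cfsg.Sz F m) :=
      { carrier := {g | ∃ b ∈ A, g = Suz.uS h 0 b}
        one_mem' := ⟨0, hzero, (Suz.uS_zero h).symm⟩
        mul_mem' := by
          rintro _ _ ⟨x, hx, rfl⟩ ⟨y, hy, rfl⟩
          exact ⟨x + y, hadd x hx y hy, by rw [Suz.uS_mul h, add_zero, mul_zero, add_zero]⟩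
        inv_mem' := by
          rintro _ ⟨x, hx, rfl⟩
          exact ⟨x, hx, by rw [Suz.uS_inv h, mul_zero, add_zero]⟩ }
    refine ⟨E, ⟨⟨⟨?_⟩⟩, ?_⟩, ?_, ?_⟩
    · rintro ⟨_, x, hx, rfl⟩ ⟨_, y, hy, rfl⟩
      refine Subtype.ext ?_
      show Suz.uS h 0 x * Suz.uS h 0 y = Suz.uS h 0 y * Suz.uS h 0 x
      rw [Suz.uS_mul h, Suz.uS_mul h, Suz.th_zero h, zero_mul, add_comm x y]
    · rintro _ ⟨x, hx, rfl⟩
      rw [sq, Suz.uS_mul h, Suz.add_self h, Suz.add_self h, mul_zero, add_zero, Suz.uS_zero h]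
    · have hb : Function.Bijective (fun b : A => (⟨Suz.uS h 0 b.1, b.1, b.2, rfl⟩ : ↥E)) := by
        refine ⟨fun x y e => Subtype.ext (Suz.uS_inj h (congrArg Subtype.val e)).2, ?_⟩
        rintro ⟨_, x, hx, rfl⟩
        exact ⟨⟨x, hx⟩, rfl⟩
      rw [← Nat.card_eq_of_bijective _ hb, hAcard]
    · intro x hx
      obtain ⟨e, he, hne⟩ := (Subgroup.bot_or_exists_ne_one _).resolve_left hx
      obtain ⟨⟨β, hβ, rfl⟩, u, ⟨β', hβ', rfl⟩, hconj⟩ := he
      change x * Suz.uS h 0 β' * x⁻¹ = Suz.uS h 0 β at hconj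
      have hne' : Suz.uS h 0 β' ≠ 1 := fun e => hne (by rw [← hconj, e]; group)
      obtain ⟨a, b, k, rfl⟩ := (Suz.mem_stab_inf_iff h).mp
        (Suz.conj_mem_stab h ⟨_, _, rfl⟩ ⟨_, _, rfl⟩ hne' hconj)
      rw [hscale] at hconj
      have hβ0 : β' ≠ 0 := fun e => hne' (by rw [e, Suz.uS_zero h])
      have hlam : (k : F) * Suz.th m (k : F) ∈ A := by
        rw [show (k : F) * Suz.th m (k : F) = β * β'⁻¹ by
          rw [← (Suz.uS_inj h hconj).2, mul_inv_cancel_right₀ hβ0]]
        exact hmul _ hβ _ (hinv _ hβ')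
      refine Subgroup.mem_normalizer_fintype fun w hw => ?_
      obtain ⟨c, hc, rfl⟩ := hw
      exact ⟨_, hmul _ hlam c hc, hscale a b k c⟩

end Cfsg.Agent.S2240
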