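import Cfsg.Statements.S2241
import Cfsg.Agent.Lib.Linear.Suzuki.Struct

set_option autoImplicit false
open Cfsg

namespace Cfsg.Agent.S2241

open Cfsg.Lib.Linear

/-- Real 2-elements of the Suzuki group: with q = 2^(2m+1), m ≥ 1, and the group realised as the stabiliser in SL₄ of the Suzuki–Tits ovoid, a non-identity element of a Sylow 2-subgroup is conjugate to its inverse if and only if it is an involution; in particular no element of order 4 is conjugate to its inverse. -/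
theorem result {F : Type*} [Field F] [Fintype F] {m : ℕ} (hm : 1 ≤ m) (hF : Fintype.card F = 2 ^ (2 * m + 1)) (P : Sylow 2 ↥(Cfsg.Sz F m)) (g : ↥(Cfsg.Sz F m)) (hg : g ∈ (P : Subgroup ↥(Cfsg.Sz F m))) (h1 : g ≠ 1) :
    IsConj g g⁻¹ ↔ orderOf g = 2 := by
  classical
  have h : Suz.Params F m := ⟨hm, hF⟩
  obtain ⟨σ, hP⟩ := Suz.sylow_conj h P
  rw [hP] at hg
  obtain ⟨u, ⟨a, b, rfl⟩, rfl⟩ := hg
  obtain ⟨φ, hφ⟩ : ∃ φ, φ = MulAut.conj σ := ⟨_, rfl⟩
  rw [← hφ] at h1 ⊢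
  rw [show φ.toMonoidHom (Suz.uS h a b) = φ (Suz.uS h a b) from rfl] at h1 ⊢
  have hne : Suz.uS h a b ≠ 1 := fun e => h1 (by rw [e, map_one])
  rw [MulEquiv.orderOf_eq]
  have hsq : Suz.uS h a b * Suz.uS h a b = 1 ↔ a = 0 := by
    rw [Suz.uS_mul h, Suz.add_self h, Suz.add_self h, zero_add, ← Suz.uS_zero h]
    refine ⟨fun e => ?_, fun e => by rw [e, mul_zero]⟩
    rcases mul_eq_zero.mp (Suz.uS_inj h e).2 with e' | e'
    exacts [(Suz.th_eq_zero h).mp e', e']
  constructor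
  · intro hc
    haveI : Fact (Nat.Prime 2) := ⟨Nat.prime_two⟩
    refine orderOf_eq_prime ?_ hne
    rw [sq, hsq]
    by_contra ha
    obtain ⟨c, hc⟩ := isConj_iff.mp hc
    have hc' : φ.symm c * Suz.uS h a b * (φ.symm c)⁻¹ = (Suz.uS h a b)⁻¹ := by
      apply φ.injective
      rw [map_mul, map_mul, map_inv, map_inv, φ.apply_symm_apply, hc]
    obtain ⟨x, y, k, e⟩ := (Suz.mem_stab_inf_iff h).mp
      (Suz.conj_mem_stab h ⟨a, b, rfl⟩ (inv_mem ⟨a, b, rfl⟩) hne hc')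
    rw [e, show Suz.uS h x y * Suz.dS h k * Suz.uS h a b * (Suz.uS h x y * Suz.dS h k)⁻¹ =
        Suz.uS h x y * (Suz.dS h k * Suz.uS h a b * (Suz.dS h k)⁻¹) * (Suz.uS h x y)⁻¹ by group,
      Suz.dS_mul_uS h, mul_inv_cancel_right, Suz.uS_inv h, Suz.uS_inv h, Suz.uS_mul h, Suz.uS_mul h] at hc'
    obtain ⟨e1, e2⟩ := Suz.uS_inj h hc'
    have hk : (k : F) = 1 := mul_right_cancel₀ ha (by linear_combination e1 - x * Suz.two_eq h)
    rw [hk, Suz.th_one h, one_mul, one_mul, one_mul, Suz.th_add h] at e2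
    obtain ⟨t, ht⟩ : ∃ t, x = t * a := ⟨x / a, (div_mul_cancel₀ _ ha).symm⟩
    rw [ht, Suz.th_mul h] at e2
    have ht1 : t + Suz.th m t = 1 := by
      refine mul_left_cancel₀ (mul_ne_zero ha fun e => ha ((Suz.th_eq_zero h).mp e)) (b := t + Suz.th m t) ?_
      linear_combination e2 - (y + Suz.th m t * Suz.th m a * t * a) * Suz.two_eq h
    have ht2 := congrArg (Suz.th m) ht1
    rw [Suz.th_add h, Suz.th_th h, Suz.th_one h] at ht2
    have ht3 : t * (t - 1) = 0 := by linear_combination ht2 - ht1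
    rcases mul_eq_zero.mp ht3 with e' | e'
    · rw [e', Suz.th_zero h, add_zero] at ht1
      exact zero_ne_one ht1
    · rw [sub_eq_zero.mp e', Suz.th_one h, Suz.add_self h] at ht1
      exact zero_ne_one ht1
  · intro ho
    have h2 : Suz.uS h a b * Suz.uS h a b = 1 := by
      rw [← sq, ← ho]; exact pow_orderOf_eq_one _
    rw [← map_inv, inv_eq_of_mul_eq_one_right h2]

end Cfsg.Agent.S2241
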