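import Cfsg.Statements.S2244
import Cfsg.Agent.Lib.Chev.WeakClosed
import Cfsg.Agent.Lib.Chev.WeakClosedCert

set_option autoImplicit false
open Cfsg

namespace Cfsg.Agent.S2244

/-- Weakly closed unipotent subgroups of Chevalley groups: let G be the Chevalley group of type G₂, B₂, D₄, F₄, E₆, E₇ or E₈ over a finite field F (the matrix group generated by the root elements), with |F| ≠ 2, and |F| ≠ 3 as well for the types G₂, B₂, D₄, F₄. Let U be the subgroup generated by the positive root subgroups. If X ≤ U is weakly closed in U with respect to G (every G-conjugate of X lying in U equals X), then X is the unipotent radical U_J of a standard parabolic subgroup for some set J of fundamental roots. -/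
theorem result {F : Type*} [Field F] [Fintype F] (D : Cfsg.Lie.ChevalleyDatum) (hD : D ∈ [Cfsg.Lie.chevG2, Cfsg.Lie.chevB2, Cfsg.Lie.chevD4, Cfsg.Lie.chevF4, Cfsg.Lie.chevE6, Cfsg.Lie.chevE7, Cfsg.Lie.chevE8])
    (h2 : Fintype.card F ≠ 2) (h3 : D ∈ [Cfsg.Lie.chevG2, Cfsg.Lie.chevB2, Cfsg.Lie.chevD4, Cfsg.Lie.chevF4] → Fintype.card F ≠ 3)
    (X : Subgroup (GL D.Idx F)) (hXU : X ≤ D.posUnipotent F)
    (hwc : ∀ g ∈ D.group F, X.map (MulAut.conj g).toMonoidHom ≤ D.posUnipotent F → X.map (MulAut.conj g).toMonoidHom = X) :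
    ∃ J : Set ℕ, (∀ j ∈ J, j < D.rank) ∧ X = D.unipotentRadical F J := by
  classical
  have hq : 2 < Fintype.card F := by have := Fintype.one_lt_card (α := F); omega
  have hm1 : ∀ n, 1 ≤ n → n ≤ 1 → ∃ l : F, l ≠ 0 ∧ l ^ n ≠ 1 := fun n h1 hn =>
    Lib.Chev.exists_pow_ne_one h1 (by rw [Nat.card_eq_fintype_card]; omega)
  have hm2 : Fintype.card F ≠ 3 → ∀ n, 1 ≤ n → n ≤ 2 → ∃ l : F, l ≠ 0 ∧ l ^ n ≠ 1 := fun h n h1 hn =>
    Lib.Chev.exists_pow_ne_one h1 (by rw [Nat.card_eq_fintype_card]; omega)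
  simp only [List.mem_cons, List.not_mem_nil, or_false] at hD
  rcases hD with rfl | rfl | rfl | rfl | rfl | rfl | rfl
  · exact Lib.Chev.weakly_closed_eq_radical Lib.Chev.fullCertG2.comm.cert Lib.Chev.fullCertG2 Lib.Chev.wcCertG2
      (hm2 (h3 (by simp))) X hXU hwc
  · exact Lib.Chev.weakly_closed_eq_radical Lib.Chev.fullCertB2.comm.cert Lib.Chev.fullCertB2 Lib.Chev.wcCertB2
      (hm2 (h3 (by simp))) X hXU hwc
  · exact Lib.Chev.weakly_closed_eq_radical Lib.Chev.fullCertD4.comm.cert Lib.Chev.fullCertD4 Lib.Chev.wcCertD4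
      (hm2 (h3 (by simp))) X hXU hwc
  · exact Lib.Chev.weakly_closed_eq_radical Lib.Chev.fullCertF4.comm.cert Lib.Chev.fullCertF4 Lib.Chev.wcCertF4
      (hm2 (h3 (by simp))) X hXU hwc
  · exact Lib.Chev.weakly_closed_eq_radical Lib.Chev.fullCertE6.comm.cert Lib.Chev.fullCertE6 Lib.Chev.wcCertE6
      hm1 X hXU hwc
  · exact Lib.Chev.weakly_closed_eq_radical Lib.Chev.fullCertE7.comm.cert Lib.Chev.fullCertE7 Lib.Chev.wcCertE7
      hm1 X hXU hwc
  · exact Lib.Chev.weakly_closed_eq_radical Lib.Chev.fullCertE8.comm.cert Lib.Chev.fullCertE8 Lib.Chev.wcCertE8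
      hm1 X hXU hwc

end Cfsg.Agent.S2244
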