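import Cfsg.Statements.S2245
import Cfsg.Agent.Lib.Perm.OddIndexOvergroup
-- import your own Cfsg.Agent.* helpers here

set_option autoImplicit false
open Cfsg

namespace Cfsg.Agent.S2245

/-- For n ≥ 5 with n ≠ 6, a Sylow 2-subgroup of the alternating group A_n lies in exactly one maximal subgroup of A_n if and only if n = 2^k + 1 for some k ≥ 2; the same holds for the symmetric group S_n. -/
theorem result (n : ℕ) (hn : 5 ≤ n) (h6 : n ≠ 6) :
    ((∀ R : Sylow 2 ↥(alternatingGroup (Fin n)), (∃! M : Subgroup ↥(alternatingGroup (Fin n)), IsCoatom M ∧ (R : Subgroup ↥(alternatingGroup (Fin n))) ≤ M) ↔ ∃ k : ℕ, 2 ≤ k ∧ n = 2 ^ k + 1) ∧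
    (∀ R : Sylow 2 (Equiv.Perm (Fin n)), (∃! M : Subgroup (Equiv.Perm (Fin n)), IsCoatom M ∧ (R : Subgroup (Equiv.Perm (Fin n))) ≤ M) ↔ ∃ k : ℕ, 2 ≤ k ∧ n = 2 ^ k + 1)) := by
  classical
  haveI : Fact (Nat.Prime 2) := ⟨Nat.prime_two⟩
  have hn' : 5 ≤ Nat.card (Fin n) := by rw [Nat.card_fin]; exact hn
  open Cfsg.Lib.Perm.OddIndex in
  refine ⟨fun R => ?_, fun P => ?_⟩
  · -- lift to a Sylow subgroup of the symmetric group
    obtain ⟨P, hP⟩ := (R.2.map (alternatingGroup (Fin n)).subtype).exists_le_sylow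
    have hRP : (R : Subgroup ↥(alternatingGroup (Fin n))) = (P : Subgroup (Equiv.Perm (Fin n))).subgroupOf _ := by
      refine (R.is_maximal' (P.2.comap_of_injective _ Subtype.val_injective) fun x hx => hP ⟨x, hx, rfl⟩).symm
    have hlift : ∀ M : Subgroup ↥(alternatingGroup (Fin n)), (R : Subgroup _) ≤ M →
        (P : Subgroup (Equiv.Perm (Fin n))) ⊓ alternatingGroup (Fin n) ≤ M.map (alternatingGroup (Fin n)).subtype := by
      intro M hM x hx
      exact ⟨⟨x, (Subgroup.mem_inf.1 hx).2⟩, hM (hRP ▸ (Subgroup.mem_inf.1 hx).1), rfl⟩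
    constructor
    · intro hu
      rcases dichotomy P hn' with h | h
      · exfalso
        obtain ⟨K₁, K₂, h1, h2, n1, n2, htop⟩ := h
        refine not_existsUnique (K₁ := K₁.subgroupOf (alternatingGroup (Fin n)))
          (K₂ := K₂.subgroupOf (alternatingGroup (Fin n))) (hRP ▸ fun x hx => h1 hx) (hRP ▸ fun x hx => h2 hx)
          (fun e => n1 (Subgroup.subgroupOf_eq_top.1 e)) (fun e => n2 (Subgroup.subgroupOf_eq_top.1 e)) ?_ hu
        apply Subgroup.map_injective (alternatingGroup (Fin n)).subtype_injective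
        rw [Subgroup.map_sup, Subgroup.subgroupOf_map_subtype, Subgroup.subgroupOf_map_subtype,
          ← MonoidHom.range_eq_map, Subgroup.range_subtype]
        exact le_antisymm (sup_le inf_le_right inf_le_right) htop
      · simpa using card_of_pointAndRest P hn' h
    · rintro ⟨k, hk, hnk⟩
      obtain ⟨o, ho, htr⟩ := pointAndRest_of_card P (k := k) (by rw [Nat.card_fin, hnk]) (by omega)
      obtain ⟨a, ha⟩ : ∃ a : Fin n, a ≠ o := haveI : Nontrivial (Fin n) := Fin.nontrivial_iff_two_le.2 (by omega); exists_ne o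
      have hmove : ∃ g ∈ alternatingGroup (Fin n), g o ≠ o := by
        obtain ⟨b, -, hba, hbo⟩ := exists_third (X := (Set.univ : Set (Fin n))) (by rw [Set.ncard_univ]; omega) a o
        refine ⟨_, cycle3_mem_alt (a := o) (b := a) (c := b) ha.symm hbo.symm, ?_⟩
        rw [Equiv.Perm.mul_apply, Equiv.swap_apply_left, Equiv.swap_apply_of_ne_of_ne hbo hba]
        exact hbo
      refine existsUnique_of_top
        (M₀ := (MulAction.stabilizer (Equiv.Perm (Fin n)) o).subgroupOf (alternatingGroup (Fin n)))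
        (hRP ▸ fun x hx => ho x.1 hx) (fun e => ?_) fun M hM hMtop => ?_
      · obtain ⟨g, hg, hgo⟩ := hmove
        exact hgo ((Subgroup.subgroupOf_eq_top.1 e) hg)
      · rcases fix_or_alt P hn' ho htr (hlift M hM) with h | h
        · exact fun x hx => h x.1 ⟨x, hx, rfl⟩
        · exfalso
          refine hMtop (eq_top_iff.2 fun x _ => ?_)
          obtain ⟨y, hy, e⟩ := h x.2
          exact (Subtype.ext e : y = x) ▸ hy
  · constructor
    · intro hu
      rcases dichotomy P hn' with h | h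
      · exfalso
        obtain ⟨K₁, K₂, h1, h2, n1, n2, htop⟩ := h
        refine not_existsUnique h1 h2 (fun e => n1 (e ▸ le_top)) (fun e => n2 (e ▸ le_top)) ?_ hu
        obtain ⟨g, hg, hodd⟩ := SetLike.not_le_iff_exists.1 (not_le_alt P (by omega))
        exact eq_top_of_alt_lt (htop.trans (sup_le_sup inf_le_left inf_le_left)) (Subgroup.mem_sup_left (h1 hg)) hodd
      · simpa using card_of_pointAndRest P hn' h
    · rintro ⟨k, hk, hnk⟩
      obtain ⟨o, ho, htr⟩ := pointAndRest_of_card P (k := k) (by rw [Nat.card_fin, hnk]) (by omega)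
      obtain ⟨a, ha⟩ : ∃ a : Fin n, a ≠ o := haveI : Nontrivial (Fin n) := Fin.nontrivial_iff_two_le.2 (by omega); exists_ne o
      refine existsUnique_of_top (M₀ := MulAction.stabilizer (Equiv.Perm (Fin n)) o) ho (fun e => ?_) fun M hM hMtop => ?_
      · exact ha (by simpa using (e ▸ Subgroup.mem_top (Equiv.swap o a) : Equiv.swap o a ∈ MulAction.stabilizer (Equiv.Perm (Fin n)) o))
      · rcases fix_or_alt P hn' ho htr (inf_le_left.trans hM) with h | h
        · exact h
        · obtain ⟨g, hg, hodd⟩ := SetLike.not_le_iff_exists.1 (not_le_alt P (by omega))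
          exact absurd (eq_top_of_alt_lt h (hM hg) hodd) hMtop

end Cfsg.Agent.S2245
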