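import Cfsg.Statements.S2247
import Cfsg.Agent.Lib.Linear.Suzuki.Struct

set_option autoImplicit false
open Cfsg

namespace Cfsg.Agent.S2247

open Cfsg.Lib.Linear

/-- In the Suzuki group with q = 2^(2m+1), m ≥ 1 (realised as the stabiliser in SL₄ of the Suzuki–Tits ovoid), the normalizer of a Sylow 2-subgroup P is a maximal subgroup and is the only maximal subgroup containing P. -/
theorem result {F : Type*} [Field F] [Fintype F] {m : ℕ} (hm : 1 ≤ m) (hF : Fintype.card F = 2 ^ (2 * m + 1)) (P : Sylow 2 ↥(Cfsg.Sz F m)) :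
    IsCoatom (Subgroup.normalizer ((P : Subgroup ↥(Cfsg.Sz F m)) : Set ↥(Cfsg.Sz F m))) ∧
    ∀ M : Subgroup ↥(Cfsg.Sz F m), IsCoatom M → (P : Subgroup ↥(Cfsg.Sz F m)) ≤ M → M = Subgroup.normalizer ((P : Subgroup ↥(Cfsg.Sz F m)) : Set ↥(Cfsg.Sz F m)) := by
  classical
  have h : Suz.Params F m := ⟨hm, hF⟩
  obtain ⟨g, hP⟩ := Suz.sylow_conj h P
  have hN : Subgroup.normalizer ((P : Subgroup ↥(Cfsg.Sz F m)) : Set ↥(Cfsg.Sz F m)) =
      (MulAut.conj g).mapSubgroup (MulAction.stabilizer ↥(Cfsg.Sz F m) (Cfsg.suzukiPointInfinity F)) := by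
    rw [← Suz.normalizer_US h, hP]
    exact (Subgroup.map_equiv_normalizer_eq _ _).symm
  have hco : IsCoatom (Subgroup.normalizer ((P : Subgroup ↥(Cfsg.Sz F m)) : Set ↥(Cfsg.Sz F m))) := by
    rw [hN]
    exact (OrderIso.isCoatom_iff _ _).mpr (Suz.stab_inf_isCoatom h)
  refine ⟨hco, fun M hM hPM => ?_⟩
  have hU : Suz.US h ≤ (MulAut.conj g).mapSubgroup.symm M := by
    rw [← (MulAut.conj g).mapSubgroup.le_iff_le, OrderIso.apply_symm_apply]
    rw [hP] at hPM
    exact hPM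
  rcases Suz.overgroup_US h hU with h' | h'
  · rw [← (MulAut.conj g).mapSubgroup.le_iff_le, OrderIso.apply_symm_apply, ← hN] at h'
    rcases eq_or_lt_of_le h' with e | e
    · exact e
    · exact absurd (hM.2 _ e) hco.1
  · refine absurd ?_ hM.1
    rw [← (MulAut.conj g).mapSubgroup.apply_symm_apply M, h']
    exact (MulAut.conj g).mapSubgroup.map_top

end Cfsg.Agent.S2247
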