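import Cfsg.Statements.S4627
import Cfsg.Agent.Lib.H3.SylTwoSL
import Mathlib.LinearAlgebra.Matrix.Permutation
import Mathlib.FieldTheory.Finite.Basic

set_option linter.style.haveILetI false

set_option autoImplicit false
open Cfsg

namespace Cfsg.Agent.S4627


open Cfsg.Lib.H3.SylTwo
open scoped Matrix commutatorElement

variable {F : Type*} [Field F]

/-! ## The case `q ≡ 3 (mod 4)` -/

/-- The product of the determinants of a family of invertible matrices. -/
def prodDet (k : ℕ) (F : Type*) [Field F] : (Fin k → GL (Fin 2) F) →* Fˣ where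
  toFun h := ∏ i, Matrix.GeneralLinearGroup.det (h i)
  map_one' := by simp
  map_mul' g h := by simp [Finset.prod_mul_distrib]

/-- Signs as powers of an involution. -/
def signPow {H : Type*} [Group H] (r : H) (hr : r * r = 1) : ℤˣ →* H where
  toFun s := if s = 1 then 1 else r
  map_one' := if_pos rfl
  map_mul' s t := by
    rcases Int.units_eq_one_or s with rfl | rfl <;> rcases Int.units_eq_one_or t with rfl | rfl <;>
      simp [hr]

theorem det_signPow (r : GL (Fin 2) F) (hr : r * r = 1) (hd : Matrix.GeneralLinearGroup.det r = -1) (s : ℤˣ) :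
    Matrix.GeneralLinearGroup.det (signPow r hr s) = Units.map (Int.castRingHom F).toMonoidHom s := by
  rcases Int.units_eq_one_or s with rfl | rfl
  · simp
  · refine Units.ext ?_
    simp [signPow, hd]

/-- Completing signs to product one. -/
def closeSigns (k : ℕ) : (Fin k → ℤˣ) →* (Fin (k + 1) → ℤˣ) where
  toFun e := Fin.snoc e (∏ i, e i)
  map_one' := funext fun i => by
    refine Fin.lastCases ?_ (fun l => ?_) i <;> simp
  map_mul' e e' := funext fun i => by
    refine Fin.lastCases ?_ (fun l => ?_) i <;> simp [Finset.prod_mul_distrib]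

theorem sl_three [Fintype F] (hF : Odd (Fintype.card F)) (h4 : 4 ∣ Fintype.card F + 1) (k : ℕ)
    (P : Sylow 2 (Matrix.SpecialLinearGroup (Fin (2 * (k + 1))) F)) :
    ∀ x : (P : Subgroup (Matrix.SpecialLinearGroup (Fin (2 * (k + 1))) F)),
      x ^ 2 ∈ commutator (P : Subgroup (Matrix.SpecialLinearGroup (Fin (2 * (k + 1))) F)) := by
  classical
  haveI : Fact (Nat.Prime 2) := ⟨Nat.prime_two⟩
  have h2 := Cfsg.Lib.Linear.Orth.two_ne_zero_of_odd_card hF
  obtain ⟨Q, D, r, hD2, hQD, hrD, hQd, hQs, -, hQc, -, hrr, hrd, hDQ⟩ := plane_full (F := F) hF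
  set ρ := signPow r hrr with hρ
  let u : ℤˣ →* Fˣ := Units.map (Int.castRingHom F).toMonoidHom
  have hu : ∀ s, u s = 1 → s = 1 := by
    intro s hs
    rcases Int.units_eq_one_or s with rfl | rfl
    · rfl
    · exfalso
      have e : (-1 : F) = 1 := by simpa [u] using congrArg Units.val hs
      exact h2 (by linear_combination -e)
  have hρD : ∀ s, ρ s ∈ D := by
    intro s
    rcases Int.units_eq_one_or s with rfl | rfl
    · simp [one_mem]
    · simpa [hρ, signPow] using hrD
  set S := Subgroup.pi Set.univ (fun _ : Fin (k + 1) => D) ⊓ (prodDet (k + 1) F).ker with hS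
  set ψ : (Fin k → ℤˣ) →* (Fin (k + 1) → GL (Fin 2) F) := (ρ.compLeft (Fin (k + 1))).comp (closeSigns k) with hψ
  have hψS : ∀ e, ψ e ∈ S := by
    intro e
    refine ⟨fun i _ => hρD _, MonoidHom.mem_ker.2 ?_⟩
    show ∏ i, Matrix.GeneralLinearGroup.det (ρ (closeSigns k e i)) = 1
    simp only [hρ, det_signPow r hrr hrd, ← map_prod]
    rw [Fin.prod_univ_castSucc]
    simp [closeSigns, Int.units_mul_self]
  set piQ := Subgroup.pi Set.univ (fun _ : Fin (k + 1) => Q) with hpiQ
  have hQS : piQ ≤ S := fun h hh => ⟨fun i _ => hQD (hh i trivial), MonoidHom.mem_ker.2 (by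
    show ∏ i, Matrix.GeneralLinearGroup.det (h i) = 1
    exact Finset.prod_eq_one fun i _ => hQd _ (hh i trivial))⟩
  have hsplit : ∀ h ∈ S, ∃ y ∈ piQ, ∃ e, h = y * ψ e := by
    intro h hh
    have hex : ∀ i, ∃ y ∈ Q, ∃ s : ℤˣ, h i = y * ρ s := fun i => by
      obtain ⟨y, hy, e | e⟩ := hDQ _ (hh.1 i trivial)
      · exact ⟨y, hy, 1, by rw [e, map_one, mul_one]⟩
      · exact ⟨y, hy, -1, by rw [e]; simp [hρ, signPow]⟩
    choose y hy s hs using hex
    refine ⟨y, fun i _ => hy i, fun i => s i.castSucc, funext fun i => ?_⟩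
    have hp : ∏ i, s i = 1 := hu _ (by
      rw [map_prod, ← MonoidHom.mem_ker.1 hh.2]
      refine Finset.prod_congr rfl fun i _ => ?_
      show _ = Matrix.GeneralLinearGroup.det (h i)
      rw [hs i, map_mul, hQd _ (hy i), one_mul, hρ, det_signPow r hrr hrd])
    have he : closeSigns k (fun i => s i.castSucc) = s := funext fun i => by
      refine Fin.lastCases ?_ (fun l => ?_) i
      · rw [Fin.prod_univ_castSucc] at hp
        show Fin.snoc (α := fun _ => ℤˣ) (fun i : Fin k => s i.castSucc) (∏ i : Fin k, s i.castSucc) (Fin.last k) = s (Fin.last k)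
        rw [Fin.snoc_last, mul_eq_one_iff_eq_inv.1 hp, Int.units_inv_eq_self]
      · simp [closeSigns]
    show h i = y i * ρ (closeSigns k (fun i => s i.castSucc) i)
    rw [he]
    exact hs i
  have hSq : ∀ h ∈ S, h * h ∈ ⁅S, S⁆ := by
    suffices hle : S ≤ sqGood S from fun h hh => (hle hh).2
    intro h hh
    obtain ⟨y, hy, e, rfl⟩ := hsplit h hh
    refine mul_mem ⟨hQS hy, Subgroup.commutator_mono hQS hQS (pi_squares Q hQs y hy)⟩ ⟨hψS e, ?_⟩
    rw [← map_mul, show e * e = 1 from funext fun i => Int.units_mul_self _, map_one]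
    exact one_mem _
  have hS2 : IsPGroup 2 ↥S := (isPGroup_pi D hD2).to_le inf_le_left
  obtain ⟨T, hT, hTc, hTs, hTle⟩ := wreath_good (blockGL (F := F) (k := k + 1)) (permGL (F := F)) gl_conj_block
    (fun h h' σ σ' he => glBlockPerm_injective he) S hS2
    (fun σ h hh => ⟨fun i _ => hh.1 (σ i) trivial, MonoidHom.mem_ker.2 ((Equiv.prod_comp σ
      (fun i => Matrix.GeneralLinearGroup.det (h i))).trans (MonoidHom.mem_ker.1 hh.2))⟩) hSq
  let e : Fin 2 × Fin (k + 1) ≃ Fin (2 * (k + 1)) := finProdFinEquiv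
  have hker : T ≤ (intoGL (F := F) e).range := by
    refine fun x hx => mem_range_intoGL e ?_
    suffices h : (permGL (F := F)).range ⊔ S.map blockGL ≤ Matrix.GeneralLinearGroup.det.ker from h (hTle hx)
    refine sup_le ?_ ?_
    · rintro _ ⟨σ, rfl⟩
      exact MonoidHom.mem_ker.2 (Units.ext (det_permMat σ))
    · rintro _ ⟨h, hh, rfl⟩
      refine MonoidHom.mem_ker.2 (Units.ext ?_)
      show (blockGL h).val.det = 1
      rw [blockGL_val, Matrix.det_blockDiagonal]
      have := congrArg Units.val (MonoidHom.mem_ker.1 hh.2)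
      simpa [prodDet] using this
  have hq1 : 1 < Fintype.card F := Fintype.one_lt_card
  have ha : padicValNat 2 (Fintype.card F - 1) = 1 := val_of_mod_four (by omega)
  refine sylow_squares_pullback (intoGL e) (intoGL_injective e) T hker hT
    (v := (k + 1) * twoT (Fintype.card F) + k + padicValNat 2 (Nat.factorial (k + 1))) ?_ ?_ hTs P
  · have h1 := val_card_SL (F := F) hF (n := 2 * (k + 1)) (by omega)
    rw [val_glProd_two_mul hF hq1, ha] at h1
    omega
  · refine le_trans ?_ hTc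
    rw [pow_add]
    refine Nat.mul_le_mul_right _ ?_
    let Φ : (Fin (k + 1) → ↥Q) × (Fin k → ℤˣ) → ↥S := fun p => ⟨(fun i => (p.1 i).1) * ψ p.2,
      mul_mem (hQS fun i _ => (p.1 i).2) (hψS _)⟩
    have hΦ : Function.Injective Φ := by
      rintro ⟨y, s⟩ ⟨y', s'⟩ h
      have h1 : ∀ i, (y i).1 * ρ (closeSigns k s i) = (y' i).1 * ρ (closeSigns k s' i) :=
        fun i => congrFun (congrArg Subtype.val h) i
      have hss : closeSigns k s = closeSigns k s' := funext fun i => by
        have h3 := congrArg Matrix.GeneralLinearGroup.det (h1 i)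
        rw [map_mul, map_mul, hQd _ (y i).2, hQd _ (y' i).2, one_mul, one_mul, hρ, det_signPow r hrr hrd,
          det_signPow r hrr hrd] at h3
        have h4 : u (closeSigns k s i * (closeSigns k s' i)⁻¹) = 1 := by
          rw [map_mul, map_inv]; exact mul_inv_eq_one.2 h3
        exact mul_inv_eq_one.1 (hu _ h4)
      refine Prod.ext (funext fun i => Subtype.ext ?_) (funext fun l => ?_)
      · have := h1 i
        rw [hss] at this
        exact mul_right_cancel this
      · have := congrFun hss l.castSucc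
        simpa [closeSigns] using this
    refine le_trans ?_ (Nat.card_le_card_of_injective Φ hΦ)
    rw [Nat.card_prod, Nat.card_fun, Nat.card_fin, Nat.card_fun, Nat.card_fin,
      Nat.card_eq_fintype_card (α := ℤˣ), Fintype.card_units_int, pow_add, mul_comm (k + 1), pow_mul]
    exact Nat.mul_le_mul_right _ (Nat.pow_le_pow_left hQc _)

/-! ## The case `q ≡ 1 (mod 4)` -/

variable {κ : Type*} [Fintype κ] [DecidableEq κ]

/-- Diagonal invertible matrices. -/
def diagU : (κ → Fˣ) →* GL κ F :=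
  MonoidHom.toHomUnits
    { toFun := fun d => Matrix.diagonal fun i => (d i : F)
      map_one' := by simp
      map_mul' := fun d d' => by simp [Matrix.diagonal_mul_diagonal] }

/-- The permutation matrices acting on coordinates. -/
def permU : Equiv.Perm κ →* GL κ F :=
  MonoidHom.toHomUnits
    { toFun := fun σ => Equiv.Perm.permMatrix F σ⁻¹
      map_one' := by simp
      map_mul' := fun σ τ => by rw [mul_inv_rev, Matrix.permMatrix_mul] }

theorem diagU_act (d : κ → Fˣ) (v : κ → F) (i : κ) : ((diagU d).val *ᵥ v) i = d i * v i :=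
  Matrix.mulVec_diagonal _ _ i

theorem permU_act (σ : Equiv.Perm κ) (v : κ → F) (i : κ) : ((permU σ).val *ᵥ v) i = v (σ⁻¹ i) := by
  show (Equiv.Perm.permMatrix F σ⁻¹ *ᵥ v) i = _
  rw [Matrix.permMatrix_mulVec]
  rfl

theorem permU_diagU (σ : Equiv.Perm κ) (d : κ → Fˣ) :
    permU σ * diagU d = diagU (fun i => d (σ⁻¹ i)) * permU σ := by
  refine Units.ext (Matrix.ext_of_mulVec_single fun l => funext fun i => ?_)
  simp only [Units.val_mul, ← Matrix.mulVec_mulVec, permU_act, diagU_act]

theorem mono_inj {d d' : κ → Fˣ} {σ σ' : Equiv.Perm κ} (h : diagU d * permU σ = diagU d' * permU σ') :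
    d = d' ∧ σ = σ' := by
  have key : ∀ i l, (d i : F) * (if σ⁻¹ i = l then 1 else 0) = d' i * (if σ'⁻¹ i = l then 1 else 0) := by
    intro i l
    have h1 := congrFun (congrArg (fun x : GL κ F => x.val *ᵥ Pi.single l 1) h) i
    simp only [Units.val_mul, ← Matrix.mulVec_mulVec, permU_act, diagU_act] at h1
    simpa [Pi.single_apply] using h1
  have hσ : ∀ i, σ⁻¹ i = σ'⁻¹ i := fun i => by
    by_contra hne
    have h1 := key i (σ⁻¹ i)
    rw [if_pos rfl, if_neg (Ne.symm hne), mul_one, mul_zero] at h1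
    exact (d i).ne_zero h1
  refine ⟨funext fun i => Units.ext ?_, inv_injective (Equiv.ext hσ)⟩
  have h1 := key i (σ⁻¹ i)
  rwa [if_pos rfl, if_pos (hσ i).symm, mul_one, mul_one] at h1

theorem det_diagU (d : κ → Fˣ) : Matrix.GeneralLinearGroup.det (diagU d) = ∏ i, d i := by
  refine Units.ext ?_
  show (Matrix.diagonal fun i => (d i : F)).det = _
  rw [Matrix.det_diagonal, Units.coe_prod]

/-- The sign of a permutation as a unit of the field. -/
def signU (F : Type*) [Field F] (κ : Type*) [Fintype κ] [DecidableEq κ] : Equiv.Perm κ →* Fˣ :=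
  (Units.map (Int.castRingHom F).toMonoidHom).comp Equiv.Perm.sign

theorem det_permU (σ : Equiv.Perm κ) : Matrix.GeneralLinearGroup.det (permU σ) = signU F κ σ := by
  refine Units.ext ?_
  show (Equiv.Perm.permMatrix F σ⁻¹).det = _
  rw [Matrix.det_permutation, Equiv.Perm.sign_inv]
  rfl

theorem sl_one [Fintype F] (hF : Odd (Fintype.card F)) (h4 : 4 ∣ Fintype.card F - 1) (m j : ℕ) (hm : m = 2 ^ j)
    (P : Sylow 2 (Matrix.SpecialLinearGroup (Fin (2 * m)) F)) :
    ∀ x : (P : Subgroup (Matrix.SpecialLinearGroup (Fin (2 * m)) F)),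
      x ^ 2 ∈ commutator (P : Subgroup (Matrix.SpecialLinearGroup (Fin (2 * m)) F)) := by
  classical
  haveI : Fact (Nat.Prime 2) := ⟨Nat.prime_two⟩
  have hq1 : 1 < Fintype.card F := Fintype.one_lt_card
  let U : Subgroup Fˣ :=
    { carrier := {x | ∃ n : ℕ, x ^ 2 ^ n = 1}
      one_mem' := ⟨0, one_pow _⟩
      mul_mem' := fun {x y} ⟨a, ha⟩ ⟨b, hb⟩ => ⟨a + b, by
        rw [mul_pow, pow_add, pow_mul, ha, one_pow, one_mul, mul_comm, pow_mul, hb, one_pow]⟩
      inv_mem' := fun {x} ⟨a, ha⟩ => ⟨a, by rw [inv_pow, ha, inv_one]⟩ }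
  have hU : 2 ^ padicValNat 2 (Fintype.card F - 1) ≤ Nat.card ↥U := by
    obtain ⟨R⟩ : Nonempty (Sylow 2 Fˣ) := inferInstance
    have h1 : Nat.card ↥(R : Subgroup Fˣ) = 2 ^ padicValNat 2 (Fintype.card F - 1) := by
      rw [R.card_eq_multiplicity, Nat.factorization_def _ Nat.prime_two, Cfsg.Lib.Linear.card_units_eq]
    rw [← h1]
    refine Subgroup.card_le_of_le fun x hx => ?_
    obtain ⟨n, hn⟩ := R.isPGroup' ⟨x, hx⟩
    exact ⟨n, congrArg Subtype.val hn⟩
  have hiU : ∃ ι ∈ U, ι * ι = (-1 : Fˣ) := by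
    obtain ⟨i, hi⟩ := (FiniteField.isSquare_neg_one_iff (F := F)).2 (by omega)
    have hi0 : i ≠ 0 := fun h => by simp [h] at hi
    refine ⟨Units.mk0 i hi0, ⟨2, Units.ext ?_⟩, Units.ext (by simpa using hi.symm)⟩
    show i ^ 2 ^ 2 = 1
    linear_combination (-i * i + 1) * hi
  obtain ⟨ι, hιU, hι⟩ := hiU
  -- coordinates and a Sylow subgroup of permutations containing the translations
  let τ : Multiplicative (Fin (j + 1) → ZMod 2) →* Equiv.Perm (Fin (j + 1) → ZMod 2) :=
    { toFun := fun t => Equiv.addLeft t.toAdd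
      map_one' := Equiv.ext fun x => zero_add x
      map_mul' := fun s t => Equiv.ext fun x => add_assoc s.toAdd t.toAdd x }
  have hτ2 : IsPGroup 2 ↥τ.range := by
    rintro ⟨_, t, rfl⟩
    refine ⟨1, Subtype.ext ?_⟩
    show τ t ^ 2 ^ 1 = 1
    rw [← map_pow, show t ^ 2 ^ 1 = 1 from Multiplicative.toAdd.injective (funext fun l => ?_), map_one]
    show ((2 ^ 1 : ℕ) • t.toAdd) l = 0
    rw [Pi.smul_apply, nsmul_eq_mul, show ((2 ^ 1 : ℕ) : ZMod 2) = 0 from rfl, zero_mul]
  obtain ⟨W, hW⟩ := hτ2.exists_le_sylow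
  obtain ⟨o, hoz⟩ : ∃ o : Fin (j + 1) → ZMod 2, o = 0 := ⟨0, rfl⟩
  have hswap : ∀ i : Fin (j + 1) → ZMod 2, ∃ σ ∈ (W : Subgroup (Equiv.Perm (Fin (j + 1) → ZMod 2))),
      σ⁻¹ i = o ∧ σ⁻¹ o = i := by
    intro i
    have hmem : τ (Multiplicative.ofAdd i) ∈ (W : Subgroup (Equiv.Perm (Fin (j + 1) → ZMod 2))) := hW ⟨_, rfl⟩
    have hii : i + i = 0 := funext fun l => by
      exact CharTwo.add_self_eq_zero _
    refine ⟨_, hmem, ?_, ?_⟩ <;> rw [hoz]
    · rw [Equiv.Perm.inv_eq_iff_eq]
      exact (add_zero i).symm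
    · rw [Equiv.Perm.inv_eq_iff_eq]
      exact hii.symm
  let ε : Equiv.Perm (Fin (j + 1) → ZMod 2) → (Fin (j + 1) → ZMod 2) → Fˣ := fun σ => Pi.mulSingle o (signU F _ σ)
  let K : Subgroup (GL (Fin (j + 1) → ZMod 2) F) :=
    { carrier := {x | ∃ d σ, σ ∈ (W : Subgroup (Equiv.Perm (Fin (j + 1) → ZMod 2))) ∧ (∀ i, d i ∈ U) ∧
        (∏ i, d i) * signU F _ σ = 1 ∧ x = diagU d * permU σ}
      one_mem' := ⟨1, 1, one_mem _, fun _ => one_mem _, by simp, by simp⟩
      mul_mem' := by
        rintro _ _ ⟨d, σ, hσ, hd, hp, rfl⟩ ⟨d', σ', hσ', hd', hp', rfl⟩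
        refine ⟨d * fun i => d' (σ⁻¹ i), σ * σ', mul_mem hσ hσ', fun i => mul_mem (hd i) (hd' _), ?_, ?_⟩
        · simp only [Pi.mul_apply, Finset.prod_mul_distrib, map_mul, Equiv.prod_comp σ⁻¹ d']
          rw [show ∀ a b c e : Fˣ, a * b * (c * e) = (a * c) * (b * e) from fun a b c e => mul_mul_mul_comm a b c e,
            hp, hp', one_mul]
        · rw [map_mul, map_mul]
          calc diagU d * permU σ * (diagU d' * permU σ') = diagU d * (permU σ * diagU d') * permU σ' := by group
            _ = _ := by rw [permU_diagU]; group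
      inv_mem' := by
        rintro _ ⟨d, σ, hσ, hd, hp, rfl⟩
        refine ⟨(fun i => d (σ i))⁻¹, σ⁻¹, inv_mem hσ, fun i => inv_mem (hd _), ?_, ?_⟩
        · simp only [Pi.inv_apply, Finset.prod_inv_distrib, map_inv, Equiv.prod_comp σ d]
          rw [← mul_inv, hp, inv_one]
        · rw [mul_inv_rev, ← map_inv, ← map_inv, permU_diagU]
          simp only [inv_inv]
          rfl }
  have hdiagK : ∀ d, (∀ i, d i ∈ U) → ∏ i, d i = 1 → diagU d ∈ K := fun d hd hp =>
    ⟨d, 1, one_mem _, hd, by rw [hp, map_one, one_mul], by rw [map_one, mul_one]⟩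
  have hεU : ∀ σ i, ε σ i ∈ U := by
    intro σ i
    by_cases h : i = o
    · rw [h]
      refine ⟨1, ?_⟩
      show Pi.mulSingle (M := fun _ => Fˣ) o (signU F _ σ) o ^ 2 ^ 1 = 1
      rw [Pi.mulSingle_eq_same, pow_one, sq, ← map_mul]
      show Units.map (Int.castRingHom F).toMonoidHom (Equiv.Perm.sign (σ * σ)) = 1
      rw [map_mul, Int.units_mul_self, map_one]
    · simp [ε, h, one_mem]
  have hεp : ∀ σ, (∏ i, ε σ i) * signU F _ σ = 1 := by
    intro σ
    rw [Finset.prod_pi_mulSingle', if_pos (Finset.mem_univ o), ← map_mul]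
    show Units.map (Int.castRingHom F).toMonoidHom (Equiv.Perm.sign (σ * σ)) = 1
    rw [map_mul, Int.units_mul_self, map_one]
  have hliftK : ∀ σ ∈ (W : Subgroup (Equiv.Perm (Fin (j + 1) → ZMod 2))), diagU (ε σ) * permU σ ∈ K :=
    fun σ hσ => ⟨_, σ, hσ, hεU σ, hεp σ, rfl⟩
  -- the pairs
  let pr : (Fin (j + 1) → ZMod 2) → Fˣ →* ((Fin (j + 1) → ZMod 2) → Fˣ) := fun i =>
    (MonoidHom.mulSingle (fun _ => Fˣ) i) * (MonoidHom.mulSingle (fun _ => Fˣ) o).comp (invMonoidHom : Fˣ →* Fˣ)
  have hprU : ∀ i, ∀ x ∈ U, ∀ l, pr i x l ∈ U := by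
    intro i x hx l
    refine mul_mem ?_ ?_
    · by_cases h : l = i
      · subst h; simpa using hx
      · simp [h, one_mem]
    · by_cases h : l = o
      · subst h; simpa using hx
      · simp [h, one_mem]
  have hprp : ∀ i x, ∏ l, pr i x l = 1 := by
    intro i x
    simp [pr, Finset.prod_mul_distrib, Finset.prod_pi_mulSingle']
  have hpr : ∀ i, ∀ x ∈ U, diagU (pr i x) * diagU (pr i x) ∈ ⁅K, K⁆ := by
    intro i x hx
    obtain ⟨σ, hσ, hσ1, hσ2⟩ := hswap i
    have hflip : (fun l => (pr i x)⁻¹ (σ⁻¹ l)) = pr i x := by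
      funext l
      generalize σ⁻¹ = π at hσ1 hσ2 ⊢
      by_cases hio : i = o
      · have e : pr i x = 1 := funext fun l => by
          rw [hio]
          by_cases hlo : l = o
          · rw [hlo]; simp [pr]
          · simp [pr, hlo]
        simp [e]
      · by_cases hli : l = i
        · rw [hli]
          simp [pr, hσ1, hio, Ne.symm hio]
        · by_cases hlo : l = o
          · rw [hlo]
            simp [pr, hσ2, hio, Ne.symm hio]
          · have e1 : π l ≠ o := fun h => hli (π.injective (h.trans hσ1.symm))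
            have e2 : π l ≠ i := fun h => hlo (π.injective (h.trans hσ2.symm))
            simp [pr, e1, e2, hli, hlo]
    set L := diagU (ε σ) * permU σ with hL
    have hc : L * (diagU (pr i x))⁻¹ * L⁻¹ = diagU (pr i x) := by
      rw [← map_inv]
      calc L * diagU (pr i x)⁻¹ * L⁻¹
          = diagU (ε σ) * (permU σ * diagU (pr i x)⁻¹ * (permU σ)⁻¹) * (diagU (ε σ))⁻¹ := by rw [hL]; group
        _ = diagU (ε σ) * diagU (pr i x) * (diagU (ε σ))⁻¹ := by rw [permU_diagU, hflip, mul_inv_cancel_right]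
        _ = diagU (pr i x) := by rw [← map_mul, mul_comm (ε σ), map_mul, mul_inv_cancel_right]
    have e : ⁅diagU (pr i x), L⁆ = diagU (pr i x) * diagU (pr i x) := by
      rw [commutatorElement_def]
      calc diagU (pr i x) * L * (diagU (pr i x))⁻¹ * L⁻¹ = diagU (pr i x) * (L * (diagU (pr i x))⁻¹ * L⁻¹) := by group
        _ = _ := by rw [hc]
    rw [← e]
    exact Subgroup.commutator_mem_commutator (hdiagK _ (hprU i x hx) (hprp i x)) (hliftK σ hσ)
  have hdiag : ∀ d : (Fin (j + 1) → ZMod 2) → Fˣ, (∀ i, d i ∈ U) → ∏ i, d i = 1 → diagU d ∈ sqGood K := by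
    let ψ : ((Fin (j + 1) → ZMod 2) → Fˣ) →* ((Fin (j + 1) → ZMod 2) → Fˣ) :=
      { toFun := fun d => d * Pi.mulSingle o (∏ i, d i)⁻¹
        map_one' := by simp
        map_mul' := fun d d' => by
          simp only [Pi.mul_apply, Finset.prod_mul_distrib, mul_inv, Pi.mulSingle_mul]
          exact mul_mul_mul_comm _ _ _ _ }
    have hle : Subgroup.pi Set.univ (fun _ : Fin (j + 1) → ZMod 2 => U) ≤
        (sqGood K).comap ((diagU (F := F) (κ := Fin (j + 1) → ZMod 2)).comp ψ) :=
      Subgroup.pi_le_iff.2 fun i => by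
        rintro _ ⟨x, hx, rfl⟩
        have e : ψ (MonoidHom.mulSingle (fun _ => Fˣ) i x) = pr i x := by
          simp [ψ, pr, Finset.prod_pi_mulSingle', Pi.mulSingle_inv]
        rw [Subgroup.mem_comap, MonoidHom.comp_apply, e]
        exact ⟨hdiagK _ (hprU i x hx) (hprp i x), hpr i x hx⟩
    intro d hd hp
    have h1 := hle (fun i _ => hd i : d ∈ Subgroup.pi Set.univ fun _ => U)
    have e : ψ d = d := by simp [ψ, hp]
    rwa [Subgroup.mem_comap, MonoidHom.comp_apply, e] at h1
  have hinvol : ∀ σ ∈ (W : Subgroup (Equiv.Perm (Fin (j + 1) → ZMod 2))), σ * σ = 1 →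
      diagU (ε σ) * permU σ ∈ sqGood K := by
    intro σ hσ hσ2
    refine ⟨hliftK σ hσ, ?_⟩
    have e : diagU (ε σ) * permU σ * (diagU (ε σ) * permU σ) = diagU (ε σ * fun i => ε σ (σ⁻¹ i)) := by
      calc diagU (ε σ) * permU σ * (diagU (ε σ) * permU σ)
          = diagU (ε σ) * (permU σ * diagU (ε σ)) * permU σ := by group
        _ = diagU (ε σ) * diagU (fun i => ε σ (σ⁻¹ i)) * (permU σ * permU σ) := by rw [permU_diagU]; group
        _ = _ := by rw [← map_mul, ← map_mul, hσ2, map_one, mul_one]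
    rw [e]
    set s := signU F (Fin (j + 1) → ZMod 2) σ with hs
    have hss : s * s = 1 := by
      rw [hs, ← map_mul, hσ2, map_one]
    have hs' : s = 1 ∨ s = -1 := by
      rcases Int.units_eq_one_or (Equiv.Perm.sign σ) with h | h
      · exact Or.inl (by rw [hs]; simp [signU, h])
      · exact Or.inr (by rw [hs]; exact Units.ext (by simp [signU, h]))
    have hfix : ∀ i, σ⁻¹ i = o ↔ i = σ o := fun i => Equiv.Perm.inv_eq_iff_eq
    rcases hs' with h1 | h1
    · have : (ε σ * fun i => ε σ (σ⁻¹ i)) = 1 := by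
        funext i
        simp [ε, ← hs, h1]
      rw [this, map_one]
      exact one_mem _
    · have hval : ∀ i, (ε σ * fun i => ε σ (σ⁻¹ i)) i = (if i = o then s else 1) * (if i = σ o then s else 1) := by
        intro i
        show ε σ i * ε σ (σ⁻¹ i) = _
        simp only [ε, Pi.mulSingle_apply, ← hs, hfix i]
      by_cases ho : σ o = o
      · have : (ε σ * fun i => ε σ (σ⁻¹ i)) = 1 := by
          funext i
          rw [hval, ho, Pi.one_apply]
          split_ifs <;> simp [hss]
        rw [this, map_one]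
        exact one_mem _
      · have : (ε σ * fun i => ε σ (σ⁻¹ i)) = pr (σ o) ι * pr (σ o) ι := by
          rw [← map_mul, hι]
          funext i
          rw [hval]
          by_cases hi : i = o
          · rw [hi]
            simp [pr, h1, Ne.symm ho]
          · by_cases hi' : i = σ o
            · rw [hi']
              simp [pr, h1, ho]
            · simp [pr, hi, hi']
        rw [this, map_mul]
        exact hpr _ ι hιU
  -- every element is good
  have hd1 : ∀ d, diagU d ∈ K → diagU d ∈ sqGood K := by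
    intro d hd
    obtain ⟨d', σ', -, hd', hp', he'⟩ := hd
    rw [← mul_one (diagU d), ← map_one (permU (F := F) (κ := Fin (j + 1) → ZMod 2))] at he'
    obtain ⟨e1, e2⟩ := mono_inj he'
    subst e1
    rw [← e2, map_one, mul_one] at hp'
    exact hdiag d hd' hp'
  let Wg : Subgroup (Equiv.Perm (Fin (j + 1) → ZMod 2)) :=
    { carrier := {σ | σ ∈ (W : Subgroup (Equiv.Perm (Fin (j + 1) → ZMod 2))) ∧
        ∀ d, diagU d * permU σ ∈ K → diagU d * permU σ ∈ sqGood K}
      one_mem' := ⟨one_mem _, fun d hd => by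
        rw [map_one, mul_one] at hd ⊢
        exact hd1 d hd⟩
      mul_mem' := by
        rintro σ τ ⟨hσ, gσ⟩ ⟨hτ, gτ⟩
        refine ⟨mul_mem hσ hτ, fun d hd => ?_⟩
        have hL := gτ _ (hliftK τ hτ)
        have e : diagU d * permU (σ * τ) * (diagU (ε τ) * permU τ)⁻¹ =
            diagU (d * fun i => (ε τ)⁻¹ (σ⁻¹ i)) * permU σ := by
          rw [map_mul, map_mul, mul_inv_rev, ← map_inv diagU]
          calc diagU d * (permU σ * permU τ) * ((permU τ)⁻¹ * diagU (ε τ)⁻¹)
              = diagU d * (permU σ * diagU (ε τ)⁻¹) := by group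
            _ = _ := by rw [permU_diagU, mul_assoc]
        have h1 : diagU (d * fun i => (ε τ)⁻¹ (σ⁻¹ i)) * permU σ ∈ K := e ▸ mul_mem hd (inv_mem hL.1)
        have := mul_mem (gσ _ h1) hL
        rwa [← e, inv_mul_cancel_right] at this
      inv_mem' := by
        rintro σ ⟨hσ, gσ⟩
        refine ⟨inv_mem hσ, fun d hd => ?_⟩
        have e : (diagU d * permU σ⁻¹)⁻¹ = diagU (fun i => d⁻¹ (σ⁻¹ i)) * permU σ := by
          rw [mul_inv_rev, ← map_inv, ← map_inv, inv_inv, permU_diagU]
        have := inv_mem (gσ _ (e ▸ inv_mem hd))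
        rwa [← e, inv_inv] at this }
  have hWg : ∀ σ ∈ (W : Subgroup (Equiv.Perm (Fin (j + 1) → ZMod 2))), σ ∈ Wg := by
    intro σ hσ
    have h1 := Cfsg.Lib.FusionSys.AltWreath.sylow_le_closure_order_p (p := 2) _ (Fin (j + 1) → ZMod 2) rfl W hσ
    refine (Subgroup.closure_le Wg).2 ?_ h1
    rintro u ⟨hu, hu2⟩
    refine ⟨hu, fun d hd => ?_⟩
    have e : diagU d * permU u * (diagU (ε u) * permU u)⁻¹ = diagU (d * (ε u)⁻¹) := by
      rw [map_mul, map_inv]; group
    have h3 := mul_mem (hd1 _ (e ▸ mul_mem hd (inv_mem (hliftK u hu)))) (hinvol u hu ((sq u).symm.trans hu2))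
    rwa [← e, inv_mul_cancel_right] at h3
  have hKs : ∀ x ∈ K, x * x ∈ ⁅K, K⁆ := by
    intro x hx
    have hx' := hx
    obtain ⟨d, σ, hσ, -, -, hxd⟩ := hx'
    rw [hxd] at hx ⊢
    exact ((hWg σ hσ).2 d hx).2
  have hK2 : IsPGroup 2 ↥K := by
    rintro ⟨x, d, σ, hσ, hd, hp, rfl⟩
    obtain ⟨n, hn⟩ := W.isPGroup' ⟨σ, hσ⟩
    have hn' : σ ^ 2 ^ n = 1 := congrArg Subtype.val hn
    have hxK : (diagU d * permU σ) ^ 2 ^ n ∈ K := pow_mem (show diagU d * permU σ ∈ K from ⟨d, σ, hσ, hd, hp, rfl⟩) _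
    have hform : ∀ l : ℕ, ∃ c, (diagU d * permU σ) ^ l = diagU c * permU (σ ^ l) := by
      intro l
      induction l with
      | zero => exact ⟨1, by simp⟩
      | succ l ih =>
        obtain ⟨c, hc⟩ := ih
        refine ⟨c * fun i => d ((σ ^ l)⁻¹ i), ?_⟩
        rw [pow_succ, hc, pow_succ, map_mul, map_mul]
        calc diagU c * permU (σ ^ l) * (diagU d * permU σ) = diagU c * (permU (σ ^ l) * diagU d) * permU σ := by group
          _ = _ := by rw [permU_diagU]; group
    obtain ⟨c, hc⟩ := hform (2 ^ n)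
    obtain ⟨c', σ', -, hc', -, he⟩ := hxK
    rw [hc] at he
    obtain ⟨e1, -⟩ := mono_inj he
    choose a ha using fun i => hc' i
    refine ⟨n + ∑ i, a i, Subtype.ext ?_⟩
    show (diagU d * permU σ) ^ 2 ^ (n + ∑ i, a i) = 1
    rw [pow_add, pow_mul, hc, hn', map_one, mul_one, ← map_pow, e1,
      show c' ^ 2 ^ (∑ i, a i) = 1 from funext fun i => ?_, map_one]
    obtain ⟨b, hb⟩ := pow_dvd_pow 2 (Finset.single_le_sum (f := a) (fun l _ => Nat.zero_le _) (Finset.mem_univ i))
    rw [Pi.pow_apply, hb, pow_mul, ha, one_pow, Pi.one_apply]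
  let e : (Fin (j + 1) → ZMod 2) ≃ Fin (2 * m) :=
    Fintype.equivOfCardEq (by simp [hm, pow_succ, mul_comm])
  have hker : K ≤ (intoGL (F := F) e).range := by
    rintro _ ⟨d, σ, -, -, hp, rfl⟩
    refine mem_range_intoGL e ?_
    rw [map_mul, det_diagU, det_permU, hp]
  refine sylow_squares_pullback (intoGL e) (intoGL_injective e) K hker hK2
    (v := (2 * m - 1) * padicValNat 2 (Fintype.card F - 1) + padicValNat 2 (Nat.factorial (2 * m))) ?_ ?_ hKs P
  · have h1 := val_card_SL (F := F) hF (n := 2 * m) (by subst hm; have := Nat.one_le_two_pow (n := j); omega)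
    rw [val_glProd_two_mul hF hq1] at h1
    have h3 := (val_pair hF hq1 (m := 1) one_ne_zero).1 (by rw [pow_one]; have := hq1; omega)
    rw [pow_one, padicValNat_one_right] at h3
    have h5 := h3.2
    rw [Nat.add_zero] at h5
    have hf : padicValNat 2 (Nat.factorial (2 * m)) = padicValNat 2 (Nat.factorial m) + m := padicValNat_factorial_mul m
    have hm1 : 1 ≤ m := by subst hm; exact Nat.one_le_two_pow
    obtain ⟨a, ha⟩ : ∃ a, padicValNat 2 (Fintype.card F - 1) = a := ⟨_, rfl⟩
    obtain ⟨l, rfl⟩ : ∃ l, m = l + 1 := ⟨m - 1, by omega⟩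
    rw [ha] at h1 h5 ⊢
    rw [show 2 * (l + 1) - 1 = 2 * l + 1 by omega]
    have h6 : (l + 1) * twoT (Fintype.card F) = (l + 1) * a + (l + 1) := by
      rw [show twoT (Fintype.card F) = a + 1 by omega]; ring
    have h7 : (2 * l + 1) * a + a = (l + 1) * a + (l + 1) * a := by ring
    omega
  · let f : ({i : Fin (j + 1) → ZMod 2 // i ≠ o} → ↥U) → (Fin (j + 1) → ZMod 2) → Fˣ := fun g i =>
      if h : i = o then 1 else (g ⟨i, h⟩).1
    have hfU : ∀ g i, f g i ∈ U := fun g i => by
      by_cases h : i = o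
      · simp [f, h, one_mem]
      · simp [f, h]
    let Φ : ({i : Fin (j + 1) → ZMod 2 // i ≠ o} → ↥U) × ↥(W : Subgroup (Equiv.Perm (Fin (j + 1) → ZMod 2))) → ↥K :=
      fun p => ⟨diagU (f p.1 * Pi.mulSingle o ((∏ l, f p.1 l) * signU F _ p.2.1)⁻¹) * permU p.2.1,
        ⟨_, p.2.1, p.2.2, fun i => mul_mem (hfU _ i) (by
          by_cases h : i = o
          · rw [h, Pi.mulSingle_eq_same]
            refine inv_mem (mul_mem (Subgroup.prod_mem U fun l _ => hfU _ l) ?_)
            simpa [ε] using hεU p.2.1 o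
          · simp [h, one_mem]), by
          simp only [Pi.mul_apply, Finset.prod_mul_distrib, Finset.prod_pi_mulSingle', Finset.mem_univ, if_true]
          rw [mul_inv_rev, mul_comm (signU F _ p.2.1)⁻¹, ← mul_assoc, mul_inv_cancel, one_mul, inv_mul_cancel], rfl⟩⟩
    have hΦ : Function.Injective Φ := by
      rintro ⟨g, w⟩ ⟨g', w'⟩ h
      obtain ⟨e1, e2⟩ := mono_inj (congrArg Subtype.val h)
      refine Prod.ext (funext fun i => Subtype.ext ?_) (Subtype.ext e2)
      have := congrFun e1 i.1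
      simpa [f, i.2] using this
    refine le_trans ?_ (Nat.card_le_card_of_injective Φ hΦ)
    rw [Nat.card_prod, Nat.card_fun, pow_add, W.card_eq_multiplicity, Nat.factorization_def _ Nat.prime_two,
      Nat.card_perm, mul_comm (2 * m - 1), pow_mul,
      show Nat.card (Fin (j + 1) → ZMod 2) = 2 * m by rw [Nat.card_congr e, Nat.card_fin],
      show Nat.card {i : Fin (j + 1) → ZMod 2 // i ≠ o} = 2 * m - 1 by
        rw [Nat.card_eq_fintype_card, Fintype.card_subtype_compl, Fintype.card_subtype_eq, Fintype.card_congr e,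
          Fintype.card_fin]]
    exact Nat.mul_le_mul_right _ (Nat.pow_le_pow_left hU _)
/-- Let F be a finite field of odd order q and m ≥ 1. If 4 divides q + 1, or if 4 divides q − 1 and m is a power of 2, then a Sylow 2-subgroup P of SL_{2m}(F) has P/P' elementary abelian: the square of every element of P lies in the derived subgroup of P. -/
theorem result {F : Type*} [Field F] [Fintype F] (hF : Odd (Fintype.card F)) (m : ℕ) (hm : 1 ≤ m)
    (hq : 4 ∣ Fintype.card F + 1 ∨ (4 ∣ Fintype.card F - 1 ∧ ∃ j : ℕ, m = 2 ^ j)) (P : Sylow 2 (Matrix.SpecialLinearGroup (Fin (2 * m)) F)) :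
    ∀ x : (P : Subgroup (Matrix.SpecialLinearGroup (Fin (2 * m)) F)), x ^ 2 ∈ commutator (P : Subgroup (Matrix.SpecialLinearGroup (Fin (2 * m)) F)) := by
  rcases hq with h4 | ⟨h4, j, hj⟩
  · obtain ⟨k, rfl⟩ : ∃ k, m = k + 1 := ⟨m - 1, by omega⟩
    exact sl_three hF h4 k P
  · exact sl_one hF h4 m j hj P
end Cfsg.Agent.S4627
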