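import Cfsg.Statements.S2249
import Cfsg.Agent.Lib.H3.SylTwoNormalRank
import Cfsg.Agent.Lib.H3.SylTwoEigenLines
import Cfsg.Agent.S4627

set_option linter.style.haveILetI false

set_option autoImplicit false
open Cfsg

namespace Cfsg.Agent.S2249


open Module Cfsg.Lib.H3.SylTwo Cfsg.Lib.Linear.Orth Cfsg.Agent.S4627
open scoped Matrix

variable {F : Type*} [Field F] [Fintype F]

theorem exists_one (hF : Odd (Fintype.card F)) (h1 : Fintype.card F % 4 = 1) (n : ℕ)
    (S : Sylow 2 (Matrix.GeneralLinearGroup (Fin n) F)) :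
    ∃ E : Subgroup ↥(S : Subgroup (Matrix.GeneralLinearGroup (Fin n) F)), E.Normal ∧ Cfsg.IsElementaryAbelian 2 E ∧
      2 ^ n ≤ Nat.card ↥E := by
  classical
  haveI : Fact (Nat.Prime 2) := ⟨Nat.prime_two⟩
  have h2 := Cfsg.Lib.Linear.Orth.two_ne_zero_of_odd_card hF
  have hq1 : 1 < Fintype.card F := Fintype.one_lt_card
  obtain ⟨R⟩ : Nonempty (Sylow 2 Fˣ) := inferInstance
  obtain ⟨W⟩ : Nonempty (Sylow 2 (Equiv.Perm (Fin n))) := inferInstance
  set A := (Subgroup.pi Set.univ fun _ : Fin n => (R : Subgroup Fˣ)).map (diagU (F := F) (κ := Fin n))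
  set Wm := (W : Subgroup (Equiv.Perm (Fin n))).map (permU (F := F))
  have hconj : ∀ σ d, permU σ * diagU d * (permU σ)⁻¹ = (diagU fun i => d (σ⁻¹ i) : GL (Fin n) F) := fun σ d => by
    rw [permU_diagU, mul_inv_cancel_right]
  have hN : Wm ≤ Subgroup.normalizer (A : Set (GL (Fin n) F)) := by
    have h1 : ∀ σ a, a ∈ A → permU σ * a * (permU σ)⁻¹ ∈ A := by
      rintro σ _ ⟨d, hd, rfl⟩
      exact ⟨_, fun i _ => hd _ trivial, (hconj σ d).symm⟩
    rintro _ ⟨σ, -, rfl⟩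
    rw [Subgroup.mem_normalizer_iff]
    refine fun a => ⟨h1 σ a, fun h => ?_⟩
    have h' := h1 σ⁻¹ _ h
    rwa [map_inv, inv_inv, ← mul_assoc, ← mul_assoc, inv_mul_cancel, one_mul, inv_mul_cancel_right] at h'
  have hT : IsPGroup 2 ↥(Wm ⊔ A) :=
    IsPGroup.to_sup_of_normal_right' (W.isPGroup'.map _) ((isPGroup_pi _ R.isPGroup').map _) hN
  let η : (Fin n → ℤˣ) →* GL (Fin n) F :=
    (diagU (F := F) (κ := Fin n)).comp ((Units.map (Int.castRingHom F).toMonoidHom).compLeft (Fin n))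
  have hη : Function.Injective η := fun e e' h => by
    have h' := (mono_inj (σ := 1) (σ' := 1) (congrArg (· * permU (F := F) 1) h)).1
    funext i
    have h1 := congrArg Units.val (congrFun h' i)
    have hne : (-1 : F) ≠ 1 := fun h => h2 (by linear_combination -h)
    rcases Int.units_eq_one_or (e i) with h | h <;> rcases Int.units_eq_one_or (e' i) with h' | h' <;>
      simp [MonoidHom.compLeft, h, h', hne, hne.symm] at h1 ⊢
  have hnorm : ∀ t ∈ Wm ⊔ A, ∀ a ∈ η.range, t * a * t⁻¹ ∈ η.range := by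
    suffices hh : Wm ⊔ A ≤ Subgroup.normalizer (η.range : Set _) from
      fun t ht a ha => (Subgroup.mem_normalizer_iff.1 (hh ht) a).1 ha
    have key : ∀ t, (∀ e, t * η e * t⁻¹ ∈ η.range) → (∀ e, t⁻¹ * η e * t⁻¹⁻¹ ∈ η.range) →
        t ∈ Subgroup.normalizer (η.range : Set _) := by
      intro t h1 h1'
      rw [Subgroup.mem_normalizer_iff]
      refine fun a => ⟨?_, ?_⟩
      · rintro ⟨e, rfl⟩; exact h1 e
      · rintro ⟨e, he⟩
        obtain ⟨e', he'⟩ := h1' e
        refine ⟨e', ?_⟩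
        rw [he', he]; group
    refine sup_le ?_ ?_
    · rintro _ ⟨σ, -, rfl⟩
      have hp : ∀ σ e, permU σ * η e * (permU σ)⁻¹ ∈ η.range := fun σ e => ⟨fun i => e (σ⁻¹ i), by
        show diagU (fun i => Units.map (Int.castRingHom F).toMonoidHom (e (σ⁻¹ i))) =
          permU σ * diagU (fun i => Units.map (Int.castRingHom F).toMonoidHom (e i)) * (permU σ)⁻¹
        rw [hconj]⟩
      exact key _ (hp σ) fun e => by rw [← map_inv]; exact hp σ⁻¹ e
    · rintro _ ⟨d, -, rfl⟩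
      have hc : ∀ d e, diagU d * η e * (diagU d)⁻¹ ∈ η.range := fun d e => ⟨e, by
        show η e = diagU d * diagU _ * (diagU d)⁻¹
        rw [← map_mul, mul_comm, map_mul, mul_inv_cancel_right]; rfl⟩
      exact key _ (hc d) fun e => by rw [← map_inv]; exact hc d⁻¹ e
  have hv : padicValNat 2 (Nat.card (GL (Fin n) F)) ≤ n * padicValNat 2 (Fintype.card F - 1) + padicValNat 2 (Nat.factorial n) := by
    rw [Matrix.card_GL_field, ← glProd, val_glProd_eq hF hq1, val_factorial_half n]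
    have h5 := ((val_pair hF hq1 (m := 1) one_ne_zero).1 (by rw [pow_one]; exact h1)).2
    rw [pow_one, padicValNat_one_right, Nat.add_zero] at h5
    rw [show twoT (Fintype.card F) = padicValNat 2 (Fintype.card F - 1) + 1 by omega]
    obtain ⟨a, ha⟩ : ∃ a, padicValNat 2 (Fintype.card F - 1) = a := ⟨_, rfl⟩
    rw [ha]
    obtain ⟨k, hk⟩ : ∃ k, n / 2 = k := ⟨_, rfl⟩
    obtain ⟨r, hr⟩ : ∃ r, n % 2 = r := ⟨_, rfl⟩
    rw [hk, hr, show n = 2 * k + r by omega]
    simp only [Nat.mul_add, Nat.add_mul, Nat.mul_one]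
    have : 2 * k * a = k * a + k * a := by ring
    omega
  have hc : 2 ^ (n * padicValNat 2 (Fintype.card F - 1) + padicValNat 2 (Nat.factorial n)) ≤ Nat.card ↥(Wm ⊔ A) := by
    let Φ : (Fin n → ↥(R : Subgroup Fˣ)) × ↥(W : Subgroup (Equiv.Perm (Fin n))) → ↥(Wm ⊔ A) := fun p =>
      ⟨diagU (fun i => (p.1 i).1) * permU p.2.1, mul_mem (Subgroup.mem_sup_right ⟨_, fun i _ => (p.1 i).2, rfl⟩)
        (Subgroup.mem_sup_left ⟨_, p.2.2, rfl⟩)⟩
    have hΦ : Function.Injective Φ := fun p p' h => by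
      obtain ⟨e1, e2⟩ := mono_inj (congrArg Subtype.val h)
      exact Prod.ext (funext fun i => Subtype.ext (congrFun e1 i)) (Subtype.ext e2)
    refine le_trans (le_of_eq ?_) (Nat.card_le_card_of_injective Φ hΦ)
    rw [Nat.card_prod, Nat.card_fun, Nat.card_fin, R.card_eq_multiplicity, W.card_eq_multiplicity,
      Nat.factorization_def _ Nat.prime_two, Nat.factorization_def _ Nat.prime_two, Nat.card_perm, Nat.card_fin,
      Cfsg.Lib.Linear.card_units_eq, ← pow_mul, ← pow_add, mul_comm]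
  obtain ⟨E, hE, hEe, hEc⟩ := normal_elem_sylow
    (v := n * padicValNat 2 (Fintype.card F - 1) + padicValNat 2 (Nat.factorial n)) (Wm ⊔ A) hT hv hc η.range
    (by rintro _ ⟨a, rfl⟩ _ ⟨b, rfl⟩; rw [← map_mul, ← map_mul]; exact congrArg η (mul_comm a b))
    (by rintro _ ⟨a, rfl⟩; rw [← map_mul, show a * a = 1 from funext fun i => Int.units_mul_self _, map_one]) hnorm S
  refine ⟨E, hE, hEe, le_trans (le_of_eq ?_) hEc⟩
  rw [← Nat.card_congr (MonoidHom.ofInjective hη).toEquiv, Nat.card_fun, Nat.card_fin,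
    Nat.card_eq_fintype_card (α := ℤˣ), Fintype.card_units_int]


theorem exists_three (hF : Odd (Fintype.card F)) (h3 : Fintype.card F % 4 = 3) (n : ℕ)
    (S : Sylow 2 (Matrix.GeneralLinearGroup (Fin n) F)) :
    ∃ E : Subgroup ↥(S : Subgroup (Matrix.GeneralLinearGroup (Fin n) F)), E.Normal ∧ Cfsg.IsElementaryAbelian 2 E ∧
      2 ^ ((n + 1) / 2) ≤ Nat.card ↥E := by
  classical
  haveI : Fact (Nat.Prime 2) := ⟨Nat.prime_two⟩
  have h2 := Cfsg.Lib.Linear.Orth.two_ne_zero_of_odd_card hF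
  have hq1 : 1 < Fintype.card F := Fintype.one_lt_card
  have hne : (-1 : F) ≠ 1 := fun h => h2 (by linear_combination -h)
  obtain ⟨m, r, hr, rfl⟩ : ∃ m r, r < 2 ∧ n = 2 * m + r := ⟨n / 2, n % 2, Nat.mod_lt _ two_pos, (Nat.div_add_mod n 2).symm⟩
  obtain ⟨Q, D, x, hD2, -, -, -, -, hDs, -, hDc, -, -, -⟩ := plane_full (F := F) hF
  obtain ⟨T0, hT0, hT0c, -, hT0le⟩ := wreath_good (blockGL (F := F) (k := m)) (permGL (F := F)) gl_conj_block
    (fun h h' σ σ' he => glBlockPerm_injective he) (Subgroup.pi Set.univ fun _ : Fin m => D) (isPGroup_pi D hD2)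
    (fun σ h hh i _ => hh (σ i) trivial) (pi_squares D hDs)
  let e : (Fin 2 × Fin m) ⊕ Fin r ≃ Fin (2 * m + r) :=
    Fintype.equivOfCardEq (by simp [Fintype.card_sum, Fintype.card_prod])
  let sg : (Fin r → ℤˣ) →* Matrix (Fin r) (Fin r) F :=
    { toFun := fun s => Matrix.diagonal fun i => ((s i : ℤ) : F)
      map_one' := by simp
      map_mul' := fun s t => by simp [Matrix.diagonal_mul_diagonal] }
  let Ψ : GL (Fin 2 × Fin m) F × (Fin r → ℤˣ) →* GL (Fin (2 * m + r)) F := MonoidHom.toHomUnits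
    { toFun := fun p => Matrix.reindexAlgEquiv F F e (Matrix.fromBlocks p.1.val 0 0 (sg p.2))
      map_one' := by simp
      map_mul' := fun p p' => by
        rw [← map_mul, Matrix.fromBlocks_multiply]
        simp [map_mul] }
  have hΨ : Function.Injective Ψ := fun p p' h => by
    obtain ⟨e1, -, -, e4⟩ := Matrix.fromBlocks_inj.1 ((Matrix.reindexAlgEquiv F F e).injective (congrArg Units.val h))
    refine Prod.ext (Units.ext e1) (funext fun i => ?_)
    have h1 := congrFun (Matrix.diagonal_injective e4) i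
    rcases Int.units_eq_one_or (p.2 i) with h | h <;> rcases Int.units_eq_one_or (p'.2 i) with h' | h' <;>
      simp [h, h', hne, hne.symm] at h1 ⊢
  let u : ℤˣ →* GL (Fin 2) F := scal.comp (Units.map (Int.castRingHom F).toMonoidHom)
  let z : (Fin m → ℤˣ) →* GL (Fin 2 × Fin m) F := (blockGL (F := F) (k := m)).comp (u.compLeft (Fin m))
  let η : (Fin m → ℤˣ) × (Fin r → ℤˣ) →* GL (Fin (2 * m + r)) F := Ψ.comp (MonoidHom.prodMap z (MonoidHom.id _))
  have hz : Function.Injective z := fun a b h => by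
    obtain ⟨e1, -⟩ := glBlockPerm_injective (σ := 1) (σ' := 1) (congrArg (· * permGL (F := F) 1) h)
    funext i
    have h1 := congrArg (fun g : GL (Fin 2) F => g.val 0 0) (congrFun e1 i)
    rcases Int.units_eq_one_or (a i) with h | h <;> rcases Int.units_eq_one_or (b i) with h' | h' <;>
      simp [u, scal, MonoidHom.compLeft, h, h', hne, hne.symm] at h1 ⊢
  have hη : Function.Injective η := fun p p' h => by
    have h1 : (z p.1, p.2) = (z p'.1, p'.2) := hΨ h
    obtain ⟨e1, e2⟩ := Prod.mk.injEq .. ▸ h1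
    exact Prod.ext (hz e1) e2
  have hperm : ∀ σ a, permGL σ * z a * (permGL σ)⁻¹ = z fun i => a (σ⁻¹ i) := fun σ a => gl_conj_block σ _
  have hblock : ∀ h a, blockGL (F := F) (k := m) h * z a * (blockGL h)⁻¹ = z a := fun h a => by
    rw [mul_inv_eq_iff_eq_mul]
    show blockGL h * blockGL _ = blockGL _ * blockGL h
    rw [← map_mul, ← map_mul]
    congr 1
    funext i
    exact (scal_comm _ (h i)).eq.symm
  have hnorm : ∀ t ∈ (T0.prod (⊤ : Subgroup (Fin r → ℤˣ))).map Ψ, ∀ a ∈ η.range, t * a * t⁻¹ ∈ η.range := by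
    suffices hh : ((permGL (F := F)).range ⊔ (Subgroup.pi Set.univ fun _ : Fin m => D).map blockGL) ≤
        Subgroup.normalizer (z.range : Set _) by
      rintro _ ⟨⟨t, s⟩, ⟨ht, -⟩, rfl⟩ _ ⟨⟨a, b⟩, rfl⟩
      obtain ⟨a', ha'⟩ := (Subgroup.mem_normalizer_iff.1 (hh (hT0le ht)) (z a)).1 ⟨a, rfl⟩
      refine ⟨(a', b), ?_⟩
      show Ψ (z a', b) = Ψ (t, s) * Ψ (z a, b) * (Ψ (t, s))⁻¹
      rw [← map_inv, ← map_mul, ← map_mul, ha']
      congr 1
      exact Prod.ext rfl (by simp [mul_comm s b])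
    have key : ∀ t, (∀ a, t * z a * t⁻¹ ∈ z.range) → (∀ a, t⁻¹ * z a * t⁻¹⁻¹ ∈ z.range) →
        t ∈ Subgroup.normalizer (z.range : Set _) := by
      intro t h1 h1'
      rw [Subgroup.mem_normalizer_iff]
      refine fun a => ⟨?_, ?_⟩
      · rintro ⟨e, rfl⟩; exact h1 e
      · rintro ⟨e, he⟩
        obtain ⟨e', he'⟩ := h1' e
        refine ⟨e', ?_⟩
        rw [he', he]; group
    refine sup_le ?_ ?_
    · rintro _ ⟨σ, rfl⟩
      exact key _ (fun a => ⟨_, (hperm σ a).symm⟩) fun a => by rw [← map_inv]; exact ⟨_, (hperm σ⁻¹ a).symm⟩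
    · rintro _ ⟨h, -, rfl⟩
      exact key _ (fun a => ⟨a, (hblock h a).symm⟩) fun a => by rw [← map_inv]; exact ⟨a, (hblock h⁻¹ a).symm⟩
  have ha : padicValNat 2 (Fintype.card F - 1) = 1 := val_of_mod_four (by omega)
  have hS2 : IsPGroup 2 ↥(T0.prod (⊤ : Subgroup (Fin r → ℤˣ))) := fun g => by
    obtain ⟨k, hk⟩ := hT0 ⟨g.1.1, g.2.1⟩
    refine ⟨k + 1, Subtype.ext (Prod.ext ?_ (funext fun i => ?_))⟩
    · have hk' : g.1.1 ^ 2 ^ k = 1 := congrArg Subtype.val hk
      show g.1.1 ^ 2 ^ (k + 1) = 1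
      rw [pow_succ, pow_mul, hk', one_pow]
    · show g.1.2 i ^ 2 ^ (k + 1) = 1
      rw [pow_succ', pow_mul, Int.units_sq, one_pow]
  have hv : padicValNat 2 (Nat.card (GL (Fin (2 * m + r)) F)) ≤ m * (twoT (Fintype.card F) + 1) + padicValNat 2 (Nat.factorial m) + r := by
    rw [Matrix.card_GL_field, ← glProd, val_glProd_eq hF hq1, ha, show (2 * m + r) / 2 = m by omega,
      show (2 * m + r) % 2 = r by omega, Nat.mul_add, Nat.mul_add]
    omega
  have hc : 2 ^ (m * (twoT (Fintype.card F) + 1) + padicValNat 2 (Nat.factorial m) + r) ≤ Nat.card ↥((T0.prod (⊤ : Subgroup (Fin r → ℤˣ))).map Ψ) := by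
    rw [Subgroup.card_map_of_injective hΨ, Nat.card_congr (Subgroup.prodEquiv T0 ⊤).toEquiv, Nat.card_prod,
      Subgroup.card_top, Nat.card_fun, Nat.card_fin, Nat.card_eq_fintype_card (α := ℤˣ), Fintype.card_units_int,
      pow_add]
    refine Nat.mul_le_mul_right _ (le_trans ?_ hT0c)
    rw [pow_add, card_pi, mul_comm m, pow_mul]
    exact Nat.mul_le_mul_right _ (Nat.pow_le_pow_left hDc m)
  obtain ⟨E, hE, hEe, hEc⟩ := normal_elem_sylow
    (v := m * (twoT (Fintype.card F) + 1) + padicValNat 2 (Nat.factorial m) + r)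
    ((T0.prod (⊤ : Subgroup (Fin r → ℤˣ))).map Ψ) (hS2.map Ψ) hv hc η.range
    (by rintro _ ⟨a, rfl⟩ _ ⟨b, rfl⟩; rw [← map_mul, ← map_mul]; exact congrArg η (mul_comm a b))
    (by rintro _ ⟨a, rfl⟩; rw [← map_mul, show a * a = 1 from Prod.ext (funext fun i => Int.units_mul_self _) (funext fun i => Int.units_mul_self _), map_one]) hnorm S
  refine ⟨E, hE, hEe, le_trans (le_of_eq ?_) hEc⟩
  rw [← Nat.card_congr (MonoidHom.ofInjective hη).toEquiv, Nat.card_prod, Nat.card_fun, Nat.card_fun, Nat.card_fin,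
    Nat.card_fin, Nat.card_eq_fintype_card (α := ℤˣ), Fintype.card_units_int, ← pow_add]
  congr 1; omega
set_option maxHeartbeats 2000000 in
/-- The normal 2-rank of the general linear group over a finite field of odd order q: for n ≥ 1 and S a Sylow 2-subgroup of GL_n(F), the largest rank of an elementary abelian subgroup of S that is normal in S equals n when q ≡ 1 (mod 4) and ⌊(n + 1)/2⌋ when q ≡ 3 (mod 4). -/
theorem result {F : Type*} [Field F] [Fintype F] {q : ℕ} (hF : Fintype.card F = q) (hodd : Odd q) (n : ℕ) (hn : 1 ≤ n) (S : Sylow 2 (Matrix.GeneralLinearGroup (Fin n) F)) :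
    (q % 4 = 1 → ((∃ E : Subgroup ↥(S : Subgroup (Matrix.GeneralLinearGroup (Fin n) F)), E.Normal ∧ Cfsg.IsElementaryAbelian 2 E ∧ 2 ^ (n) ≤ Nat.card ↥E) ∧
      ∀ E : Subgroup ↥(S : Subgroup (Matrix.GeneralLinearGroup (Fin n) F)), E.Normal → Cfsg.IsElementaryAbelian 2 E → Nat.card ↥E ≤ 2 ^ (n))) ∧
    (q % 4 = 3 → ((∃ E : Subgroup ↥(S : Subgroup (Matrix.GeneralLinearGroup (Fin n) F)), E.Normal ∧ Cfsg.IsElementaryAbelian 2 E ∧ 2 ^ ((n + 1) / 2) ≤ Nat.card ↥E) ∧
      ∀ E : Subgroup ↥(S : Subgroup (Matrix.GeneralLinearGroup (Fin n) F)), E.Normal → Cfsg.IsElementaryAbelian 2 E → Nat.card ↥E ≤ 2 ^ ((n + 1) / 2))) := by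
  subst hF
  have h2 := Cfsg.Lib.Linear.Orth.two_ne_zero_of_odd_card hodd
  have hup : ∀ E : Subgroup ↥(S : Subgroup (Matrix.GeneralLinearGroup (Fin n) F)), Cfsg.IsElementaryAbelian 2 E →
      Nat.card ↥E ≤ 2 ^ n := fun E hE => card_elem_le
    ((Units.coeHom _).comp ((S : Subgroup (Matrix.GeneralLinearGroup (Fin n) F)).subtype.comp E.subtype))
    (fun a b h => Subtype.ext (Subtype.ext (Units.ext h))) (fun a b => hE.1.is_comm.comm a b)
    (fun a => Subtype.ext (by simpa using hE.2 a.1 a.2)) h2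
  refine ⟨fun h1 => ⟨exists_one hodd h1 n S, fun E _ hE => hup E hE⟩, fun h3 => ⟨exists_three hodd h3 n S, ?_⟩⟩
  intro E hN hE
  haveI : Fact (Nat.Prime 2) := ⟨Nat.prime_two⟩
  have ha : padicValNat 2 (Fintype.card F - 1) = 1 := val_of_mod_four (by omega)
  have hcard : Nat.card ↥(S : Subgroup (Matrix.GeneralLinearGroup (Fin n) F)) =
      2 ^ padicValNat 2 (glProd (Fintype.card F) n) := by
    rw [S.card_eq_multiplicity, Nat.factorization_def _ Nat.prime_two, glProd, Matrix.card_GL_field]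
  have h := card_elem_le_half hodd ha _ hcard (E.map (S : Subgroup (Matrix.GeneralLinearGroup (Fin n) F)).subtype)
    (by
      rintro _ ⟨a, ha', rfl⟩ _ ⟨b, hb, rfl⟩
      exact congrArg (fun z : ↥E => ((z : ↥(S : Subgroup (Matrix.GeneralLinearGroup (Fin n) F))) : GL (Fin n) F))
        (hE.1.is_comm.comm ⟨a, ha'⟩ ⟨b, hb⟩))
    (by rintro _ ⟨a, ha', rfl⟩; rw [← map_pow, hE.2 a ha', map_one])
    (by
      rintro t ht _ ⟨a, ha', rfl⟩
      exact ⟨⟨t, ht⟩ * a * ⟨t, ht⟩⁻¹, hN.conj_mem a ha' _, rfl⟩)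
  rwa [Subgroup.card_map_of_injective (Subgroup.subtype_injective _)] at h
end Cfsg.Agent.S2249
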