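import Cfsg.Statements.S4624
import Cfsg.Agent.Lib.H3.SylTwoBlocks
import Cfsg.Agent.S0245
import Mathlib.LinearAlgebra.SymplecticGroup

set_option linter.style.haveILetI false

set_option autoImplicit false
open Cfsg

namespace Cfsg.Agent.S4624


open Module Cfsg.Lib.H3.SylTwo Cfsg.Lib.Linear.Orth
open scoped Matrix

variable {F : Type*} [Field F] {n : ℕ}

/-- The planes of the symplectic space. -/
def planesEquiv (n : ℕ) : Fin 2 × Fin n ≃ Fin n ⊕ Fin n where
  toFun p := if p.1 = 0 then Sum.inl p.2 else Sum.inr p.2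
  invFun := Sum.elim (fun i => (0, i)) fun i => (1, i)
  left_inv p := by
    obtain ⟨a, i⟩ := p
    fin_cases a <;> simp
  right_inv s := by rcases s with i | i <;> simp

theorem J_reindex : Matrix.J (Fin n) F =
    Matrix.reindex (planesEquiv n) (planesEquiv n) (Matrix.blockDiagonal fun _ => !![0, -1; 1, 0]) := by
  ext (i | i) (j | j) <;> simp [Matrix.J, planesEquiv, Matrix.blockDiagonal_apply, Matrix.one_apply] <;>
    split_ifs <;> simp_all

theorem reindex_mem (M : Matrix (Fin 2 × Fin n) (Fin 2 × Fin n) F)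
    (hM : M * (Matrix.blockDiagonal fun _ => !![0, -1; 1, 0]) * Mᵀ = Matrix.blockDiagonal fun _ => !![0, -1; 1, 0]) :
    Matrix.reindex (planesEquiv n) (planesEquiv n) M ∈ Matrix.symplecticGroup (Fin n) F := by
  rw [SymplecticGroup.mem_iff, J_reindex]
  simp only [Matrix.reindex_apply, Matrix.transpose_submatrix, Matrix.submatrix_mul_equiv]
  rw [hM]

/-- Matrices of the planes in the symplectic coordinates. -/
def toSpace (n : ℕ) (F : Type*) [Field F] :
    GL (Fin 2 × Fin n) F →* Matrix (Fin n ⊕ Fin n) (Fin n ⊕ Fin n) F :=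
  (Matrix.reindexAlgEquiv F F (planesEquiv n)).toMonoidHom.comp (Units.coeHom _)

theorem toSpace_apply (x : GL (Fin 2 × Fin n) F) :
    toSpace n F x = Matrix.reindex (planesEquiv n) (planesEquiv n) (x : Matrix (Fin 2 × Fin n) (Fin 2 × Fin n) F) := rfl

theorem block_mem (g : Fin n → ↥(Matrix.GeneralLinearGroup.det (R := F) (n := Fin 2)).ker) :
    toSpace n F (blockGL fun i => (g i).1) ∈ Matrix.symplecticGroup (Fin n) F := by
  rw [toSpace_apply]
  refine reindex_mem _ ?_
  rw [blockGL_val, Matrix.blockDiagonal_transpose, ← Matrix.blockDiagonal_mul, ← Matrix.blockDiagonal_mul]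
  congr 1
  funext i
  have hd := congrArg Units.val (MonoidHom.mem_ker.1 (g i).2)
  simp [Matrix.det_fin_two] at hd
  refine Matrix.ext fun a b => ?_
  fin_cases a <;> fin_cases b <;> simp [Matrix.mul_apply, Fin.sum_univ_two, Matrix.vecMul, dotProduct]
  all_goals first
    | linear_combination hd
    | linear_combination -hd
    | ring

theorem perm_mem (σ : Equiv.Perm (Fin n)) : toSpace n F (permGL σ) ∈ Matrix.symplecticGroup (Fin n) F := by
  rw [toSpace_apply, permGL_val]
  refine reindex_mem _ ?_
  rw [permMat_blockDiagonal, permMat_transpose, mul_assoc,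
    show (permMat σ : Matrix (Fin 2 × Fin n) (Fin 2 × Fin n) F) * permMat σ⁻¹ = permMatHom (σ * σ⁻¹) from
      ((permMatHom (F := F)).map_mul σ σ⁻¹).symm, mul_inv_cancel, map_one, mul_one]

/-- The product of the special linear groups of the planes. -/
def spBlock (n : ℕ) (F : Type*) [Field F] :
    (Fin n → ↥(Matrix.GeneralLinearGroup.det (R := F) (n := Fin 2)).ker) →* ↥(Matrix.symplecticGroup (Fin n) F) :=
  ((toSpace n F).comp ((blockGL (F := F)).comp
    (MonoidHom.compLeft (Matrix.GeneralLinearGroup.det (R := F) (n := Fin 2)).ker.subtype (Fin n)))).codRestrict _ block_mem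

/-- The permutations of the planes. -/
def spPerm (n : ℕ) (F : Type*) [Field F] : Equiv.Perm (Fin n) →* ↥(Matrix.symplecticGroup (Fin n) F) :=
  ((toSpace n F).comp (permGL (F := F))).codRestrict _ perm_mem

theorem toSpace_injective : Function.Injective (toSpace n F) := fun _ _ h =>
  Units.ext ((Matrix.reindexAlgEquiv F F (planesEquiv n)).injective h)
/-- Let F be a finite field of odd order and n ≥ 1. A Sylow 2-subgroup P of the symplectic group Sp_{2n}(F) has P/P' elementary abelian: the square of every element of P lies in the derived subgroup of P. -/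
theorem result {F : Type*} [Field F] [Fintype F] (hF : Odd (Fintype.card F)) (n : ℕ) (hn : 1 ≤ n) (P : Sylow 2 (Matrix.symplecticGroup (Fin n) F)) :
    ∀ x : (P : Subgroup (Matrix.symplecticGroup (Fin n) F)), x ^ 2 ∈ commutator (P : Subgroup (Matrix.symplecticGroup (Fin n) F)) := by
  classical
  obtain ⟨Q, r, hQ, hQd, hQs, hQc, -, -, -, -⟩ := plane_groups (F := F) hF
  set K := (Matrix.GeneralLinearGroup.det (R := F) (n := Fin 2)).ker with hK
  have hQK : Q ≤ K := fun x hx => MonoidHom.mem_ker.2 (hQd x hx)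
  have hmap : (Q.subgroupOf K).map K.subtype = Q := by
    rw [Subgroup.subgroupOf_map_subtype]; exact inf_eq_left.2 hQK
  set S := Subgroup.pi Set.univ fun _ : Fin n => Q.subgroupOf K with hS
  have hS2 : IsPGroup 2 ↥S := isPGroup_pi _ (hQ.of_equiv (Subgroup.subgroupOfEquivOfLe hQK).symm)
  have hSq : ∀ h ∈ S, h * h ∈ ⁅S, S⁆ := pi_squares _ fun x hx => by
    have h1 : K.subtype (x * x) ∈ ⁅Q.subgroupOf K, Q.subgroupOf K⁆.map K.subtype := by
      rw [Subgroup.map_commutator, hmap, map_mul]
      exact hQs _ hx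
    exact (Subgroup.mem_map_iff_mem (Subgroup.subtype_injective K)).1 h1
  have hconj : ∀ σ h, spPerm n F σ * spBlock n F h * (spPerm n F σ)⁻¹ = spBlock n F fun i => h (σ⁻¹ i) := by
    intro σ h
    rw [mul_inv_eq_iff_eq_mul]
    refine Subtype.ext ?_
    show toSpace n F (permGL σ) * toSpace n F (blockGL fun i => (h i).1) =
      toSpace n F (blockGL fun i => (h (σ⁻¹ i)).1) * toSpace n F (permGL σ)
    rw [← map_mul, ← map_mul, ← gl_conj_block σ fun i => (h i).1, inv_mul_cancel_right]
  have hinj : ∀ h h' σ σ', spBlock n F h * spPerm n F σ = spBlock n F h' * spPerm n F σ' → h = h' ∧ σ = σ' := by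
    intro h h' σ σ' he
    have h1 := congrArg Subtype.val he
    change toSpace n F (blockGL fun i => (h i).1) * toSpace n F (permGL σ) =
      toSpace n F (blockGL fun i => (h' i).1) * toSpace n F (permGL σ') at h1
    rw [← map_mul, ← map_mul] at h1
    obtain ⟨e1, e2⟩ := glBlockPerm_injective (toSpace_injective h1)
    exact ⟨funext fun i => Subtype.ext (congrFun e1 i), e2⟩
  obtain ⟨T, hT, hTc, hTs, -⟩ := wreath_good (spBlock n F) (spPerm n F) hconj hinj S hS2
    (fun σ h hh i _ => hh (σ i) trivial) hSq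
  have hq1 : 1 < Fintype.card F := Fintype.one_lt_card
  refine sylow_squares (v := n * twoT (Fintype.card F) + padicValNat 2 (Nat.factorial n)) T hT ?_ ?_ hTs P
  · rw [Cfsg.Agent.S0245.result rfl n, ← prodSq, val_pow_mul hF _ _ (prodSq_ne_zero hq1 n), val_prodSq hF hq1]
  · refine le_trans ?_ hTc
    rw [pow_add, hS, card_pi, mul_comm n, pow_mul, Nat.card_congr (Subgroup.subgroupOfEquivOfLe hQK).toEquiv]
    exact Nat.mul_le_mul_right _ (Nat.pow_le_pow_left hQc n)
end Cfsg.Agent.S4624
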