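import Cfsg.Statements.S2250
import Cfsg.Agent.Lib.H3.SylTwoNormalRank
import Cfsg.Agent.S4624
import Cfsg.Agent.S2234

set_option linter.style.haveILetI false

set_option autoImplicit false
open Cfsg

namespace Cfsg.Agent.S2250


open Module Cfsg.Lib.H3.SylTwo Cfsg.Lib.Linear.Orth Cfsg.Agent.S4624
open scoped Matrix
/-- The normal 2-rank of the symplectic group over a finite field of odd order: for n ≥ 1 and S a Sylow 2-subgroup of Sp_{2n}(F), the largest rank of an elementary abelian subgroup of S that is normal in S equals n. -/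
theorem result {F : Type*} [Field F] [Fintype F] (hF : Odd (Fintype.card F)) (n : ℕ) (hn : 1 ≤ n) (S : Sylow 2 ↥(Matrix.symplecticGroup (Fin n) F)) :
    ((∃ E : Subgroup ↥(S : Subgroup ↥(Matrix.symplecticGroup (Fin n) F)), E.Normal ∧ Cfsg.IsElementaryAbelian 2 E ∧ 2 ^ (n) ≤ Nat.card ↥E) ∧
      ∀ E : Subgroup ↥(S : Subgroup ↥(Matrix.symplecticGroup (Fin n) F)), E.Normal → Cfsg.IsElementaryAbelian 2 E → Nat.card ↥E ≤ 2 ^ (n)) := by
  classical
  obtain ⟨Q, r, hQ, hQd, hQs, hQc, -, -, -, -⟩ := plane_groups (F := F) hF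
  have h2 := Cfsg.Lib.Linear.Orth.two_ne_zero_of_odd_card hF
  set K := (Matrix.GeneralLinearGroup.det (R := F) (n := Fin 2)).ker with hK
  have hQK : Q ≤ K := fun x hx => MonoidHom.mem_ker.2 (hQd x hx)
  have hmap : (Q.subgroupOf K).map K.subtype = Q := by
    rw [Subgroup.subgroupOf_map_subtype]; exact inf_eq_left.2 hQK
  set A := Subgroup.pi Set.univ fun _ : Fin n => Q.subgroupOf K with hA
  have hA2 : IsPGroup 2 ↥A := isPGroup_pi _ (hQ.of_equiv (Subgroup.subgroupOfEquivOfLe hQK).symm)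
  have hAq : ∀ h ∈ A, h * h ∈ ⁅A, A⁆ := pi_squares _ fun x hx => by
    have h1 : K.subtype (x * x) ∈ ⁅Q.subgroupOf K, Q.subgroupOf K⁆.map K.subtype := by
      rw [Subgroup.map_commutator, hmap, map_mul]
      exact hQs _ hx
    exact (Subgroup.mem_map_iff_mem (Subgroup.subtype_injective K)).1 h1
  have hconj : ∀ σ h, spPerm n F σ * spBlock n F h * (spPerm n F σ)⁻¹ = spBlock n F fun i => h (σ⁻¹ i) := by
    intro σ h
    rw [mul_inv_eq_iff_eq_mul]
    refine Subtype.ext ?_
    show toSpace n F (permGL σ) * toSpace n F (blockGL fun i => (h i).1) =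
      toSpace n F (blockGL fun i => (h (σ⁻¹ i)).1) * toSpace n F (permGL σ)
    rw [← map_mul, ← map_mul, ← gl_conj_block σ fun i => (h i).1, inv_mul_cancel_right]
  have hinj : ∀ h h' σ σ', spBlock n F h * spPerm n F σ = spBlock n F h' * spPerm n F σ' → h = h' ∧ σ = σ' := by
    intro h h' σ σ' he
    have h1 := congrArg Subtype.val he
    change toSpace n F (blockGL fun i => (h i).1) * toSpace n F (permGL σ) =
      toSpace n F (blockGL fun i => (h' i).1) * toSpace n F (permGL σ') at h1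
    rw [← map_mul, ← map_mul] at h1
    obtain ⟨e1, e2⟩ := glBlockPerm_injective (toSpace_injective h1)
    exact ⟨funext fun i => Subtype.ext (congrFun e1 i), e2⟩
  obtain ⟨T, hT, hTc, -, hTle⟩ := wreath_good (spBlock n F) (spPerm n F) hconj hinj A hA2
    (fun σ h hh i _ => hh (σ i) trivial) hAq
  -- the sign changes
  let u : ℤˣ →* GL (Fin 2) F := scal.comp (Units.map (Int.castRingHom F).toMonoidHom)
  have hud : ∀ e, u e ∈ K := by
    intro e
    refine MonoidHom.mem_ker.2 (Units.ext ?_)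
    rcases Int.units_eq_one_or e with rfl | rfl <;> simp [u, scal, Matrix.det_fin_two]
  let η : (Fin n → ℤˣ) →* ↥(Matrix.symplecticGroup (Fin n) F) :=
    (spBlock n F).comp ((u.codRestrict K hud).compLeft (Fin n))
  have hη : Function.Injective η := by
    intro e e' h
    obtain ⟨e1, -⟩ := hinj _ _ 1 1 (congrArg (· * spPerm n F 1) h)
    funext i
    have h1 := congrArg (fun x : ↥K => x.1.val 0 0) (congrFun e1 i)
    have hne : (-1 : F) ≠ 1 := fun h => h2 (by linear_combination -h)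
    rcases Int.units_eq_one_or (e i) with h | h <;> rcases Int.units_eq_one_or (e' i) with h' | h' <;>
      simp [u, scal, MonoidHom.compLeft, h, h', hne, hne.symm] at h1 ⊢
  have hnorm : ∀ t ∈ T, ∀ a ∈ η.range, t * a * t⁻¹ ∈ η.range := by
    suffices hh : (spPerm n F).range ⊔ A.map (spBlock n F) ≤ Subgroup.normalizer (η.range : Set _) from
      fun t ht a ha => (Subgroup.mem_normalizer_iff.1 (hh (hTle ht)) a).1 ha
    have key : ∀ t, (∀ e, ∃ e', t * η e * t⁻¹ = η e') → (∀ e, ∃ e', t⁻¹ * η e * t⁻¹⁻¹ = η e') →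
        t ∈ Subgroup.normalizer (η.range : Set _) := by
      intro t h1 h1'
      rw [Subgroup.mem_normalizer_iff]
      refine fun a => ⟨?_, ?_⟩
      · rintro ⟨e, rfl⟩
        obtain ⟨e', he'⟩ := h1 e
        exact ⟨e', he'.symm⟩
      · rintro ⟨e, he⟩
        obtain ⟨e', he'⟩ := h1' e
        refine ⟨e', ?_⟩
        rw [← he', he]; group
    refine sup_le ?_ ?_
    · rintro _ ⟨σ, rfl⟩
      have hp : ∀ σ e, spPerm n F σ * η e * (spPerm n F σ)⁻¹ = η fun i => e (σ⁻¹ i) := fun σ e => hconj σ _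
      refine key _ (fun e => ⟨_, hp σ e⟩) fun e => ?_
      rw [← map_inv]
      exact ⟨_, hp σ⁻¹ e⟩
    · rintro _ ⟨h, -, rfl⟩
      have hc : ∀ h' e, spBlock n F h' * η e * (spBlock n F h')⁻¹ = η e := by
        intro h' e
        rw [mul_inv_eq_iff_eq_mul]
        show spBlock n F h' * spBlock n F _ = spBlock n F _ * spBlock n F h'
        rw [← map_mul, ← map_mul]
        congr 1
        funext i
        exact Subtype.ext ((scal_comm _ (h' i).1).eq.symm)
      refine key _ (fun e => ⟨e, hc h e⟩) fun e => ⟨e, ?_⟩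
      rw [← map_inv]
      exact hc h⁻¹ e
  have hq1 : 1 < Fintype.card F := Fintype.one_lt_card
  obtain ⟨E, hE, hEe, hEc⟩ := normal_elem_sylow (v := n * twoT (Fintype.card F) + padicValNat 2 (Nat.factorial n))
    T hT (by rw [Cfsg.Agent.S0245.result rfl n, ← prodSq, val_pow_mul hF _ _ (prodSq_ne_zero hq1 n), val_prodSq hF hq1])
    (le_trans (by
      rw [pow_add, hA, card_pi, mul_comm n, pow_mul, Nat.card_congr (Subgroup.subgroupOfEquivOfLe hQK).toEquiv]
      exact Nat.mul_le_mul_right _ (Nat.pow_le_pow_left hQc n)) hTc) η.range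
    (by rintro _ ⟨a, rfl⟩ _ ⟨b, rfl⟩; rw [← map_mul, ← map_mul, mul_comm])
    (by rintro _ ⟨a, rfl⟩; rw [← map_mul, show a * a = 1 from funext fun i => Int.units_mul_self _, map_one]) hnorm S
  refine ⟨⟨E, hE, hEe, le_trans (le_of_eq ?_) hEc⟩, fun E' _ hE' => ?_⟩
  · rw [← Nat.card_congr (MonoidHom.ofInjective hη).toEquiv, Nat.card_fun, Nat.card_fin,
      Nat.card_eq_fintype_card (α := ℤˣ), Fintype.card_units_int]
  · have h := (Cfsg.Agent.S2234.result hF n hn).2
      (E'.map (S : Subgroup ↥(Matrix.symplecticGroup (Fin n) F)).subtype) ⟨⟨?_⟩⟩ ?_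
    · rwa [Subgroup.card_map_of_injective (Subgroup.subtype_injective _)] at h
    · rintro ⟨_, a, ha, rfl⟩ ⟨_, b, hb, rfl⟩
      refine Subtype.ext ?_
      exact congrArg (fun z : ↥E' => ((z : ↥(S : Subgroup ↥(Matrix.symplecticGroup (Fin n) F))) : ↥(Matrix.symplecticGroup (Fin n) F)))
        (hE'.1.is_comm.comm ⟨a, ha⟩ ⟨b, hb⟩)
    · rintro _ ⟨a, ha, rfl⟩
      rw [← map_pow, hE'.2 a ha, map_one]
end Cfsg.Agent.S2250
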