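import Cfsg.Statements.S2251
import Cfsg.Agent.Lib.Linear.Suzuki.SubgroupApps

set_option autoImplicit false
open Cfsg

namespace Cfsg.Agent.S2251

/-- The subgroups of the Suzuki group: with q = 2^(2m+1), m ≥ 1, r = 2^m and the group realised as the stabiliser in SL₄ of the Suzuki–Tits ovoid, every proper subgroup is contained in the normalizer of a Sylow 2-subgroup, or in the normalizer of a cyclic subgroup of order q − 1, q + 2r + 1 or q − 2r + 1, or in a subgroup isomorphic to a smaller Suzuki group Sz(s) with s = 2^(2k+1) ≥ 8 and 2k+1 a proper divisor of 2m+1. -/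
theorem result {F : Type*} [Field F] [Fintype F] {m : ℕ} (hm : 1 ≤ m) (hF : Fintype.card F = 2 ^ (2 * m + 1)) (M : Subgroup ↥(Cfsg.Sz F m)) (hM : M ≠ ⊤) :
    (∃ P : Sylow 2 ↥(Cfsg.Sz F m), M ≤ Subgroup.normalizer ((P : Subgroup ↥(Cfsg.Sz F m)) : Set ↥(Cfsg.Sz F m))) ∨
    (∃ U : Subgroup ↥(Cfsg.Sz F m), IsCyclic ↥U ∧ Nat.card ↥U ∈ ({2 ^ (2 * m + 1) - 1, 2 ^ (2 * m + 1) + 2 ^ (m + 1) + 1, 2 ^ (2 * m + 1) - 2 ^ (m + 1) + 1} : Set ℕ) ∧
      M ≤ Subgroup.normalizer (U : Set ↥(Cfsg.Sz F m))) ∨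
    (∃ (K : Type) (_ : Field K) (_ : Fintype K) (k : ℕ), 1 ≤ k ∧ k < m ∧ Fintype.card K = 2 ^ (2 * k + 1) ∧ 2 * k + 1 ∣ 2 * m + 1 ∧
      ∃ S : Subgroup ↥(Cfsg.Sz F m), Nonempty (↥S ≃* ↥(Cfsg.Sz K k)) ∧ M ≤ S) := by
  have h : Cfsg.Lib.Linear.Suz.Params F m := ⟨hm, hF⟩
  classical
  rcases Cfsg.Lib.Linear.Suz.subgroup_cases h M with ⟨g, hg⟩ | ⟨U, hU, hcard, hle⟩ | ⟨k, g, hk, hdiv, hMk⟩
  · haveI : Fact (Nat.Prime 2) := ⟨Nat.prime_two⟩
    obtain ⟨P, hP⟩ : ∃ P : Sylow 2 ↥(Cfsg.Sz F m),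
        (P : Subgroup ↥(Cfsg.Sz F m)) = Cfsg.Lib.Linear.Suz.US h := by
      obtain ⟨Q⟩ : Nonempty (Sylow 2 ↥(Cfsg.Sz F m)) := inferInstance
      obtain ⟨σ, hσ⟩ := Cfsg.Lib.Linear.Suz.sylow_conj h Q
      refine ⟨σ⁻¹ • Q, ?_⟩
      rw [Sylow.coe_subgroup_smul, hσ]
      ext x
      simp [Subgroup.mem_pointwise_smul_iff_inv_smul_mem, mul_assoc]
    refine Or.inl ⟨g⁻¹ • P, fun x hx => ?_⟩
    have hn := hg x hx
    rw [← Cfsg.Lib.Linear.Suz.normalizer_US h, ← hP] at hn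
    replace hn := Sylow.smul_eq_iff_mem_normalizer.mpr hn
    refine Sylow.smul_eq_iff_mem_normalizer.mp ?_
    calc x • g⁻¹ • P = g⁻¹ • (g * x * g⁻¹) • P := by rw [← mul_smul, ← mul_smul]; congr 1; group
      _ = g⁻¹ • P := by rw [hn]
  · exact Or.inr (Or.inl ⟨U, hU, hcard, hle⟩)
  · refine Or.inr (Or.inr ?_)
    have hle : 2 * k + 1 ≤ 2 * m + 1 := Nat.le_of_dvd (by omega) hdiv
    have hlt : k < m := by
      rcases Nat.lt_or_ge k m with h' | h'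
      · exact h'
      · exfalso
        obtain rfl : k = m := by omega
        refine hM ?_
        rw [hMk, Cfsg.Lib.Linear.Suz.SubG_top h, eq_top_iff]
        exact fun x _ => ⟨g⁻¹ * x * g, trivial, by simp [mul_assoc]⟩
    obtain ⟨K, iK, iK', hg⟩ := Cfsg.Lib.Linear.Suz.exists_params_galois h k hk
    obtain ⟨ψ, hinj, hr⟩ := Cfsg.Lib.Linear.Suz.exists_sub_hom h hg hdiv
    refine ⟨K, iK, iK', k, hk, hlt, hg.card, hdiv, M, ⟨?_⟩, le_rfl⟩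
    exact ((MulEquiv.subgroupCongr hMk).trans
      ((Cfsg.Lib.Linear.Suz.SubG h k).equivMapOfInjective _ (MulAut.conj g).injective).symm).trans
      ((MulEquiv.subgroupCongr hr).symm.trans (MonoidHom.ofInjective hinj).symm)

end Cfsg.Agent.S2251
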