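import Mathlib
import Cfsg.Agent.Lib.Perm.NilpotentExtremal

set_option autoImplicit false

namespace Cfsg.Agent.S2254

open Equiv Cfsg.Lib.NilpotentPerm

theorem main (n : ℕ) (hn : n % 4 = 3) (P : Sylow 2 (Perm (Fin (n - 3)))) :
    (∀ N : Subgroup (Perm (Fin n)), Group.IsNilpotent N → Nat.card N ≤ 3 * Nat.card P) ∧
    (∃ M : Subgroup (Perm (Fin n)), Group.IsNilpotent M ∧ Nat.card M = 3 * Nat.card P ∧
      Nonempty (M ≃* (↥(P : Subgroup (Perm (Fin (n - 3)))) × Multiplicative (ZMod 3)))) ∧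
    (∀ N₁ N₂ : Subgroup (Perm (Fin n)), Group.IsNilpotent N₁ → Group.IsNilpotent N₂ →
      Nat.card N₁ = 3 * Nat.card P → Nat.card N₂ = 3 * Nat.card P →
      ∃ g : Perm (Fin n), N₂ = N₁.map (MulAut.conj g).toMonoidHom) := by
  classical
  have hP : Nat.card P = 2 ^ twoExp (n - 3) := by rw [card_sylow, Nat.card_fin]
  refine ⟨fun N hN => ?_, ?_, fun N₁ N₂ hN₁ hN₂ h₁ h₂ => ?_⟩
  · refine (card_le N hN).trans (le_of_eq ?_)
    rw [Fintype.card_fin, nilBound_of_eq hn, twoExp_sub_three hn, Nat.add_sub_cancel, hP]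
  · refine exists_extremal (Z := alternatingGroup (Fin 3)) ?_
      ((joinThree (show 3 ≤ n by omega)).comp ((MonoidHom.id _).prodMap (alternatingGroup (Fin 3)).subtype)) ?_ P
    · rw [nat_card_alternatingGroup, Nat.card_fin]; rfl
    · exact (joinThree_injective (show 3 ≤ n by omega)).comp fun a b h =>
        Prod.ext (congrArg Prod.fst h :) (Subtype.ext (congrArg Prod.snd h :))
  · rw [hP] at h₁ h₂
    obtain ⟨σ₁, Q₁, o₁, -, c₁, z₁, e₁⟩ := structure_three_two N₁ hN₁ _ h₁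
    obtain ⟨σ₂, Q₂, o₂, -, c₂, z₂, e₂⟩ := structure_three_two N₂ hN₂ _ h₂
    have t₁ := isThreeCycle_of_large hn o₁ Q₁ z₁ c₁ (Nat.le_succ _)
    have t₂ := isThreeCycle_of_large hn o₂ Q₂ z₂ c₂ (Nat.le_succ _)
    have hv := factorization_centralizer t₂
    obtain ⟨g, hg⟩ := isConj_iff.1 (Perm.isConj_iff_cycleType_eq.2 (t₁.trans t₂.symm))
    obtain ⟨k, hk⟩ := exists_conj σ₁ σ₂ Q₁ Q₂ ⟨g, hg⟩ z₁ z₂ (by rw [hv, c₁]) (by rw [hv, c₂])
    exact ⟨k, by rw [← e₁, ← e₂, hk]⟩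

/-- Let n ≡ 3 (mod 4). Then every nilpotent subgroup of the symmetric group on n letters has order at most 3 times the order of a Sylow 2-subgroup of the symmetric group on n − 3 letters; the bound is attained by a nilpotent subgroup isomorphic to the direct product of such a Sylow 2-subgroup with a cyclic group of order 3; and any two nilpotent subgroups attaining the bound are conjugate. -/
theorem result  (n : ℕ) (hn : n % 4 = 3)
    (P : Sylow 2 (Equiv.Perm (Fin (n - 3)))) :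
    (∀ N : Subgroup (Equiv.Perm (Fin n)), Group.IsNilpotent N → Nat.card N ≤ 3 * Nat.card P) ∧
    (∃ M : Subgroup (Equiv.Perm (Fin n)), Group.IsNilpotent M ∧ Nat.card M = 3 * Nat.card P ∧
      Nonempty (M ≃* (↥(P : Subgroup (Equiv.Perm (Fin (n - 3)))) × Multiplicative (ZMod 3)))) ∧
    (∀ N₁ N₂ : Subgroup (Equiv.Perm (Fin n)), Group.IsNilpotent N₁ → Group.IsNilpotent N₂ →
      Nat.card N₁ = 3 * Nat.card P → Nat.card N₂ = 3 * Nat.card P →
      ∃ g : Equiv.Perm (Fin n), N₂ = N₁.map (MulAut.conj g).toMonoidHom) := by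
  exact main n hn P

end Cfsg.Agent.S2254
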