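import Cfsg.Statements.S2255
import Cfsg.Agent.Lib.Perm.NilpotentEvenBound

set_option autoImplicit false
open Cfsg

namespace Cfsg.Agent.S2255

/-- Let n be a natural number not congruent to 3 modulo 4, with n ∉ {5, 6, 9}. Then every nilpotent subgroup of the alternating group on n letters has order at most the order of a Sylow 2-subgroup of the alternating group (so the nilpotent subgroups of largest order are exactly the Sylow 2-subgroups). -/
theorem result  (n : ℕ) (hn : n % 4 ≠ 3)
    (h5 : n ≠ 5) (h6 : n ≠ 6) (h9 : n ≠ 9)
    (N : Subgroup (alternatingGroup (Fin n))) (hN : Group.IsNilpotent N)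
    (P : Sylow 2 (alternatingGroup (Fin n))) :
    Nat.card N ≤ Nat.card P := by
    classical
    rcases Nat.lt_or_ge n 4 with hlt | hge
    · have hsub : Nat.card (alternatingGroup (Fin n)) = 1 := by
        have hle : n ≤ 2 := by omega
        interval_cases n <;> simp [Nat.card_eq_fintype_card] <;> rfl
      refine (Nat.le_of_dvd Nat.card_pos (Subgroup.card_subgroup_dvd_card N)).trans ?_
      rw [hsub]
      exact Nat.card_pos
    haveI : Nontrivial (Fin n) := Fin.nontrivial_iff_two_le.2 (by omega)
    have hex : ¬ Cfsg.Lib.NilpotentPerm.Exceptional (Fintype.card (Fin n)) := by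
      rw [Fintype.card_fin]; unfold Cfsg.Lib.NilpotentPerm.Exceptional; omega
    haveI : Group.IsNilpotent (N.map (alternatingGroup (Fin n)).subtype) :=
      Group.nilpotent_of_surjective (N.equivMapOfInjective _ (alternatingGroup (Fin n)).subtype_injective).toMonoidHom
        (N.equivMapOfInjective _ (alternatingGroup (Fin n)).subtype_injective).surjective
    have h := Cfsg.Lib.NilpotentPerm.two_mul_card_le (N.map (alternatingGroup (Fin n)).subtype) inferInstance
      (by rintro _ ⟨a, -, rfl⟩; exact a.2) hex
    rw [Subgroup.card_map_of_injective (alternatingGroup (Fin n)).subtype_injective, Fintype.card_fin,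
      Cfsg.Lib.NilpotentPerm.nilBound_of_ne hn] at h
    haveI : Fact (Nat.Prime 2) := ⟨Nat.prime_two⟩
    have hP : 2 * Nat.card P = 2 ^ Cfsg.Lib.NilpotentPerm.twoExp n := by
      rw [Sylow.card_eq_multiplicity P, ← pow_succ']
      congr 1
      have h2 : 2 * Nat.card (alternatingGroup (Fin n)) = n.factorial := by
        rw [Nat.card_eq_fintype_card, two_mul_card_alternatingGroup, Fintype.card_perm, Fintype.card_fin]
      rw [Cfsg.Lib.NilpotentPerm.twoExp, ← Nat.factorization_def _ Nat.prime_two, ← h2,
        Nat.factorization_mul two_ne_zero Nat.card_pos.ne', Finsupp.add_apply, Nat.prime_two.factorization_self,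
        add_comm]
    omega

end Cfsg.Agent.S2255
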