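import Mathlib
import Cfsg.Agent.Lib.Perm.NilpotentExtremal

set_option autoImplicit false

namespace Cfsg.Agent.S2256

open Equiv Cfsg.Lib.NilpotentPerm

theorem two_mul_sylow {m : ℕ} (hm : 2 ≤ m) (P : Sylow 2 (alternatingGroup (Fin m))) :
    2 * Nat.card P = 2 ^ twoExp m := by
  classical
  have : Fact (Nat.Prime 2) := ⟨Nat.prime_two⟩
  have : Nontrivial (Fin m) := Fin.nontrivial_iff_two_le.2 hm
  rw [Sylow.card_eq_multiplicity P, ← pow_succ']
  congr 1
  have h2 : 2 * Nat.card (alternatingGroup (Fin m)) = m.factorial := by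
    rw [Nat.card_eq_fintype_card, two_mul_card_alternatingGroup, Fintype.card_perm, Fintype.card_fin]
  rw [twoExp, ← Nat.factorization_def _ Nat.prime_two, ← h2,
    Nat.factorization_mul two_ne_zero Nat.card_pos.ne', Finsupp.add_apply,
    Nat.prime_two.factorization_self, add_comm]

/-- The centralizer of a three-cycle in the alternating group has index two in that in the symmetric
group. -/
theorem card_centralizer_alt {n : ℕ} (h5 : 5 ≤ n) (s : alternatingGroup (Fin n))
    (hs : (s : Perm (Fin n)).IsThreeCycle) :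
    (Nat.card (Subgroup.centralizer ({s} : Set (alternatingGroup (Fin n))))).factorization 2 + 1 =
      twoExp (n - 3) := by
  classical
  set C := Subgroup.centralizer ({(s : Perm (Fin n))} : Set (Perm (Fin n)))
  let f : C →* ℤˣ := Perm.sign.comp C.subtype
  have hsurj : Function.Surjective f := by
    intro u
    rcases Int.units_eq_one_or u with rfl | rfl
    · exact ⟨1, map_one f⟩
    have hc : 1 < ((s : Perm (Fin n)).supportᶜ).card := by
      rw [Finset.card_compl, hs.card_support, Fintype.card_fin]; omega
    obtain ⟨a, ha, b, hb, hab⟩ := Finset.one_lt_card.1 hc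
    refine ⟨⟨swap a b, ?_⟩, by simp [f, Perm.sign_swap hab]⟩
    refine Subgroup.mem_centralizer_singleton_iff.2 (Perm.Disjoint.commute ?_).eq
    rw [Perm.disjoint_iff_disjoint_support, Perm.support_swap hab, Finset.disjoint_left]
    intro x hx
    rcases Finset.mem_insert.1 hx with rfl | hx
    · exact Finset.mem_compl.1 ha
    · rw [Finset.mem_singleton.1 hx]; exact Finset.mem_compl.1 hb
  have hidx : f.ker.index = 2 := by
    rw [Subgroup.index_ker, MonoidHom.range_eq_top.2 hsurj, Subgroup.card_top, Nat.card_eq_fintype_card,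
      Fintype.card_units_int]
  have hker : Nat.card f.ker =
      Nat.card (Subgroup.centralizer ({s} : Set (alternatingGroup (Fin n)))) := by
    refine Nat.card_congr
      { toFun := fun x => ⟨⟨(x : C), Perm.mem_alternatingGroup.2 x.2⟩,
          Subgroup.mem_centralizer_singleton_iff.2
            (Subtype.ext (Subgroup.mem_centralizer_singleton_iff.1 (x : C).2))⟩
        invFun := fun x => ⟨⟨((x : alternatingGroup (Fin n)) : Perm (Fin n)),
          Subgroup.mem_centralizer_singleton_iff.2
            (congrArg Subtype.val (Subgroup.mem_centralizer_singleton_iff.1 x.2))⟩,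
          Perm.mem_alternatingGroup.1 (x : alternatingGroup (Fin n)).2⟩
        left_inv := fun x => rfl
        right_inv := fun x => rfl }
  have h := f.ker.card_mul_index
  rw [hidx, hker] at h
  rw [← factorization_centralizer hs, ← h, Nat.factorization_mul Nat.card_pos.ne' two_ne_zero,
    Finsupp.add_apply, Nat.prime_two.factorization_self]

theorem main (n : ℕ) (hn : n % 4 = 3) (h7 : 7 ≤ n) (P : Sylow 2 (alternatingGroup (Fin (n - 3)))) :
    (∀ N : Subgroup (alternatingGroup (Fin n)), Group.IsNilpotent N → Nat.card N ≤ 3 * Nat.card P) ∧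
    (∃ M : Subgroup (alternatingGroup (Fin n)), Group.IsNilpotent M ∧ Nat.card M = 3 * Nat.card P ∧
      Nonempty (M ≃* (↥(P : Subgroup (alternatingGroup (Fin (n - 3)))) × Multiplicative (ZMod 3)))) ∧
    (∀ N₁ N₂ : Subgroup (alternatingGroup (Fin n)), Group.IsNilpotent N₁ → Group.IsNilpotent N₂ →
      Nat.card N₁ = 3 * Nat.card P → Nat.card N₂ = 3 * Nat.card P →
      ∃ g : alternatingGroup (Fin n), N₂ = N₁.map (MulAut.conj g).toMonoidHom) := by
  classical
  have hP := two_mul_sylow (show 2 ≤ n - 3 by omega) P
  refine ⟨fun N hN => ?_, ?_, fun N₁ N₂ hN₁ hN₂ h₁ h₂ => ?_⟩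
  · have : Group.IsNilpotent (N.map (alternatingGroup (Fin n)).subtype) :=
      Group.nilpotent_of_surjective
        (N.equivMapOfInjective _ (alternatingGroup (Fin n)).subtype_injective).toMonoidHom
        (N.equivMapOfInjective _ (alternatingGroup (Fin n)).subtype_injective).surjective
    have hex : ¬ Exceptional (Fintype.card (Fin n)) := by
      rw [Fintype.card_fin]; unfold Exceptional; omega
    have h := two_mul_card_le (N.map (alternatingGroup (Fin n)).subtype) this
      (by rintro _ ⟨a, -, rfl⟩; exact a.2) hex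
    rw [Subgroup.card_map_of_injective (alternatingGroup (Fin n)).subtype_injective, Fintype.card_fin,
      nilBound_of_eq hn, twoExp_sub_three hn, Nat.add_sub_cancel, ← hP] at h
    linarith
  · let ι : alternatingGroup (Fin (n - 3)) × alternatingGroup (Fin 3) →* alternatingGroup (Fin n) :=
      MonoidHom.codRestrict ((joinThree (show 3 ≤ n by omega)).comp
        ((alternatingGroup (Fin (n - 3))).subtype.prodMap (alternatingGroup (Fin 3)).subtype)) _
        (fun x => by
          rw [Perm.mem_alternatingGroup]
          show Perm.sign (joinThree (show 3 ≤ n by omega) ((x.1 : Perm (Fin (n - 3))), (x.2 : Perm (Fin 3)))) = 1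
          rw [sign_joinThree, Perm.mem_alternatingGroup.1 x.1.2, Perm.mem_alternatingGroup.1 x.2.2,
            one_mul])
    refine exists_extremal (Z := alternatingGroup (Fin 3)) ?_ ι ?_ P
    · rw [nat_card_alternatingGroup, Nat.card_fin]; rfl
    · intro a b h
      have h' := joinThree_injective (show 3 ≤ n by omega) (congrArg Subtype.val h)
      exact Prod.ext (Subtype.ext (congrArg Prod.fst h' :)) (Subtype.ext (congrArg Prod.snd h' :))
  · obtain ⟨k, hk⟩ := IsPGroup.iff_card.1 P.2
    have : Fact (Nat.Prime 2) := ⟨Nat.prime_two⟩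
    have hk1 : k + 1 = twoExp (n - 3) := by
      rw [hk, ← pow_succ'] at hP
      exact Nat.pow_right_injective le_rfl hP
    rw [hk] at h₁ h₂
    obtain ⟨σ₁, Q₁, o₁, -, c₁, z₁, e₁⟩ := structure_three_two N₁ hN₁ _ h₁
    obtain ⟨σ₂, Q₂, o₂, -, c₂, z₂, e₂⟩ := structure_three_two N₂ hN₂ _ h₂
    have three : ∀ (σ : alternatingGroup (Fin n)) (Q : Subgroup (alternatingGroup (Fin n))),
        orderOf σ = 3 → Nat.card Q = 2 ^ k →
        Q ≤ Subgroup.centralizer ({σ} : Set (alternatingGroup (Fin n))) →
        (σ : Perm (Fin n)).IsThreeCycle := by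
      intro σ Q o c z
      refine isThreeCycle_of_large hn (by rw [Subgroup.orderOf_coe, o])
        (Q.map (alternatingGroup (Fin n)).subtype) ?_ (by rw [Subgroup.card_subtype, c]) hk1.ge
      rintro _ ⟨x, hx, rfl⟩
      exact Subgroup.mem_centralizer_singleton_iff.2
        (congrArg Subtype.val (Subgroup.mem_centralizer_singleton_iff.1 (z hx)))
    have t₁ := three σ₁ Q₁ o₁ c₁ z₁
    have t₂ := three σ₂ Q₂ o₂ c₂ z₂
    have hv := card_centralizer_alt (by omega) σ₂ t₂
    have hv' : (Nat.card (Subgroup.centralizer ({σ₂} : Set (alternatingGroup (Fin n))))).factorization 2 = k := by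
      omega
    obtain ⟨g, hg⟩ := isConj_iff.1
      (alternatingGroup.isThreeCycle_isConj (by rw [Nat.card_fin]; omega) t₁ t₂)
    obtain ⟨h, hh⟩ := exists_conj σ₁ σ₂ Q₁ Q₂ ⟨g, hg⟩ z₁ z₂ (by rw [hv', c₁]) (by rw [hv', c₂])
    exact ⟨h, by rw [← e₁, ← e₂, hh]⟩

/-- Let n ≡ 3 (mod 4) with n ≥ 7. Then every nilpotent subgroup of the alternating group on n letters has order at most 3 times the order of a Sylow 2-subgroup of the alternating group on n − 3 letters; the bound is attained by a nilpotent subgroup isomorphic to the direct product of such a Sylow 2-subgroup with a cyclic group of order 3; and any two nilpotent subgroups of the alternating group attaining the bound are conjugate in it. -/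
theorem result  (n : ℕ) (hn : n % 4 = 3) (h7 : 7 ≤ n)
    (P : Sylow 2 (alternatingGroup (Fin (n - 3)))) :
    (∀ N : Subgroup (alternatingGroup (Fin n)), Group.IsNilpotent N → Nat.card N ≤ 3 * Nat.card P) ∧
    (∃ M : Subgroup (alternatingGroup (Fin n)), Group.IsNilpotent M ∧ Nat.card M = 3 * Nat.card P ∧
      Nonempty (M ≃* (↥(P : Subgroup (alternatingGroup (Fin (n - 3)))) × Multiplicative (ZMod 3)))) ∧
    (∀ N₁ N₂ : Subgroup (alternatingGroup (Fin n)), Group.IsNilpotent N₁ → Group.IsNilpotent N₂ →
      Nat.card N₁ = 3 * Nat.card P → Nat.card N₂ = 3 * Nat.card P →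
      ∃ g : alternatingGroup (Fin n), N₂ = N₁.map (MulAut.conj g).toMonoidHom) := by
  exact main n hn h7 P

end Cfsg.Agent.S2256
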