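import Cfsg.Statements.S2257
import Cfsg.Agent.S0810
import Cfsg.Agent.Lib.Dickson.CentralizerCard
import Cfsg.Agent.Lib.Dickson.TraceClass
import Cfsg.Agent.Lib.Dickson.Maximal.Common
-- import your own Cfsg.Agent.* helpers here

set_option autoImplicit false
set_option maxHeartbeats 800000
open Cfsg

namespace Cfsg.Agent.S2257

open Matrix Cfsg.Lib.Dickson

section general

variable {G : Type*} [Group G]

theorem closure_pair_conj (c x y : G) :
    Subgroup.closure ({c * x * c⁻¹, c * y * c⁻¹} : Set G) =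
      (Subgroup.closure ({x, y} : Set G)).map (MulAut.conj c).toMonoidHom := by
  rw [MonoidHom.map_closure, Set.image_pair]
  rfl

theorem card_sol_conj (c x : G) :
    Nat.card {y : G // Group.IsSolvable ↥(Subgroup.closure ({c * x * c⁻¹, y} : Set G))} =
      Nat.card {y : G // Group.IsSolvable ↥(Subgroup.closure ({x, y} : Set G))} := by
  refine (Nat.card_congr ((MulAut.conj c).toEquiv.subtypeEquiv fun y => ?_)).symm
  simp only [MulEquiv.toEquiv_eq_coe, EquivLike.coe_coe, MulAut.conj_apply]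
  let e := (Subgroup.equivMapOfInjective (Subgroup.closure ({x, y} : Set G)) (MulAut.conj c).toMonoidHom
    (MulAut.conj c).injective).trans (MulEquiv.subgroupCongr (closure_pair_conj c x y).symm)
  exact ⟨fun h => Cfsg.Lib.Dickson.isSolvable_congr e.symm h, fun h => Cfsg.Lib.Dickson.isSolvable_congr e h⟩

/-- Two elements normalising a cyclic subgroup generate a proper subgroup of a non-abelian simple group. -/
theorem closure_ne_top_of_normalize [IsSimpleGroup G] (hns : ¬ Group.IsSolvable G) {a b m : G} (hm : m ≠ 1)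
    (ha : a * m * a⁻¹ = m ∨ a * m * a⁻¹ = m⁻¹) (hb : b * m * b⁻¹ = m ∨ b * m * b⁻¹ = m⁻¹) :
    Subgroup.closure ({a, b} : Set G) ≠ ⊤ := by
  intro htop
  have key : ∀ g : G, ∀ i : ℤ, g * m ^ i * g⁻¹ ∈ Subgroup.zpowers m := by
    intro g i
    have hg : g ∈ Subgroup.closure ({a, b} : Set G) := htop ▸ Subgroup.mem_top _
    refine (Subgroup.closure_induction (p := fun g _ => g * m * g⁻¹ = m ∨ g * m * g⁻¹ = m⁻¹) ?_ ?_ ?_ ?_ hg).elim
      (fun h => ?_) (fun h => ?_)
    · intro g hg
      rcases hg with rfl | hg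
      · exact ha
      · rw [Set.mem_singleton_iff] at hg; rw [hg]; exact hb
    · exact Or.inl (by simp)
    · intro u v _ _ hu hv
      have e : u * v * m * (u * v)⁻¹ = u * (v * m * v⁻¹) * u⁻¹ := by group
      have e' : u * m⁻¹ * u⁻¹ = (u * m * u⁻¹)⁻¹ := by group
      rw [e]
      rcases hv with hv | hv <;> rw [hv]
      · exact hu
      · rw [e']
        rcases hu with hu | hu <;> rw [hu]
        · exact Or.inr rfl
        · exact Or.inl (inv_inv m)
    · intro u _ hu
      rcases hu with hu | hu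
      · left; nth_rewrite 1 [← hu]; group
      · right
        have : u * m⁻¹ * u⁻¹ = m := by rw [show u * m⁻¹ * u⁻¹ = (u * m * u⁻¹)⁻¹ by group, hu, inv_inv]
        nth_rewrite 1 [← this]
        group
    · rw [← conj_zpow, h]; exact Subgroup.zpow_mem _ (Subgroup.mem_zpowers m) i
    · rw [← conj_zpow, h, _root_.inv_zpow]; exact inv_mem (Subgroup.zpow_mem _ (Subgroup.mem_zpowers m) i)
  haveI : (Subgroup.zpowers m).Normal := ⟨fun x hx g => by
    obtain ⟨i, rfl⟩ := Subgroup.mem_zpowers_iff.mp hx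
    exact key g i⟩
  rcases IsSimpleGroup.eq_bot_or_eq_top_of_normal (Subgroup.zpowers m) this with h | h
  · exact hm (Subgroup.zpowers_eq_bot.mp h)
  · refine hns ?_
    haveI : Group.IsSolvable (Subgroup.zpowers m) := Group.isSolvable_of_comm fun u v => by
      obtain ⟨i, hi⟩ := Subgroup.mem_zpowers_iff.mp u.2
      obtain ⟨j, hj⟩ := Subgroup.mem_zpowers_iff.mp v.2
      exact Subtype.ext (by rw [Subgroup.coe_mul, Subgroup.coe_mul, ← hi, ← hj]; exact (Commute.zpow_zpow_self m i j).eq)
    exact Cfsg.Lib.Dickson.isSolvable_congr ((Subgroup.topEquiv.symm.trans (MulEquiv.subgroupCongr h.symm))) this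

theorem closure_involutions_ne_top [IsSimpleGroup G] (hns : ¬ Group.IsSolvable G) {a b : G}
    (ha : a * a = 1) (hb : b * b = 1) : Subgroup.closure ({a, b} : Set G) ≠ ⊤ := by
  have ha' : a⁻¹ = a := inv_eq_of_mul_eq_one_right ha
  have hb' : b⁻¹ = b := inv_eq_of_mul_eq_one_right hb
  by_cases hab : a * b = 1
  · intro htop
    have hba : b = a := by
      calc b = (a * a) * b := by rw [ha, one_mul]
        _ = a := by rw [mul_assoc, hab, mul_one]
    rw [hba, Set.pair_eq_singleton, ← Subgroup.zpowers_eq_closure] at htop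
    refine hns ?_
    haveI : Group.IsSolvable (Subgroup.zpowers a) := Group.isSolvable_of_comm fun u v => by
      obtain ⟨i, hi⟩ := Subgroup.mem_zpowers_iff.mp u.2
      obtain ⟨j, hj⟩ := Subgroup.mem_zpowers_iff.mp v.2
      exact Subtype.ext (by rw [Subgroup.coe_mul, Subgroup.coe_mul, ← hi, ← hj]; exact (Commute.zpow_zpow_self a i j).eq)
    exact Cfsg.Lib.Dickson.isSolvable_congr ((Subgroup.topEquiv.symm.trans (MulEquiv.subgroupCongr htop.symm))) this
  · refine closure_ne_top_of_normalize hns hab (Or.inr ?_) (Or.inr ?_)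
    · rw [_root_.mul_inv_rev, ha', hb']
      calc a * (a * b) * a = (a * a) * b * a := by group
        _ = b * a := by rw [ha, one_mul]
    · rw [_root_.mul_inv_rev, ha', hb']
      calc b * (a * b) * b = b * a * (b * b) := by group
        _ = b * a := by rw [hb, mul_one]

end general

variable {F : Type*} [Field F] [Fintype F]

local notation "SL2" => Matrix.SpecialLinearGroup (Fin 2) F
local notation "PSL2" => Matrix.ProjectiveSpecialLinearGroup (Fin 2) F

theorem mk_injective [CharP F 2] : Function.Injective (QuotientGroup.mk : SL2 → PSL2) := fun a b h => by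
  have h' := QuotientGroup.eq.mp h
  rw [Cfsg.Lib.Spec.center_eq_bot_of_char_two, Subgroup.mem_bot, inv_mul_eq_one] at h'
  exact h'

theorem trace_zero_of_sq [CharP F 2] {g : SL2} (h : g * g = 1) : g.1 0 0 + g.1 1 1 = 0 := by
  have e00 : g.1 0 0 * g.1 0 0 + g.1 0 1 * g.1 1 0 = 1 := by
    have := congrArg (fun A : SL2 => A.1 0 0) h
    simpa [Matrix.mul_apply, Fin.sum_univ_two] using this
  have e01 : g.1 0 0 * g.1 0 1 + g.1 0 1 * g.1 1 1 = 0 := by
    have := congrArg (fun A : SL2 => A.1 0 1) h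
    simpa [Matrix.mul_apply, Fin.sum_univ_two] using this
  have e11 : g.1 1 0 * g.1 0 1 + g.1 1 1 * g.1 1 1 = 1 := by
    have := congrArg (fun A : SL2 => A.1 1 1) h
    simpa [Matrix.mul_apply, Fin.sum_univ_two] using this
  refine CharTwo.sq_inj.mp ?_
  rw [zero_pow two_ne_zero]
  linear_combination e00 + e11 + (g.1 0 0 * g.1 1 1 - g.1 0 1 * g.1 1 0 + 1) * CharTwo.two_eq_zero (R := F)

theorem sq_one_of_trace [CharP F 2] {g : SL2} (h : g.1 0 0 + g.1 1 1 = 0) :
    (QuotientGroup.mk g : PSL2) * QuotientGroup.mk g = 1 := mk_sq_eq_one_of_trace h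

theorem closure_ne_top_iff (hmin : Cfsg.IsMinimalSimple PSL2) (h4 : 4 ≤ Fintype.card F) (x y : PSL2) :
    Group.IsSolvable ↥(Subgroup.closure ({x, y} : Set PSL2)) ↔ Subgroup.closure ({x, y} : Set PSL2) ≠ ⊤ := by
  refine ⟨fun h htop => not_isSolvable_psl (K := F) h4 ?_, fun h => hmin.2.2 _ h⟩
  exact Cfsg.Lib.Dickson.isSolvable_congr ((Subgroup.topEquiv.symm.trans (MulEquiv.subgroupCongr htop.symm))) h

theorem closure_ne_top_of_le {T : Subgroup PSL2} (h4 : 4 ≤ Fintype.card F) (hT : Group.IsSolvable T) {x y : PSL2}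
    (hx : x ∈ T) (hy : y ∈ T) : Subgroup.closure ({x, y} : Set PSL2) ≠ ⊤ := by
  intro htop
  have hle : Subgroup.closure ({x, y} : Set PSL2) ≤ T := by
    rw [Subgroup.closure_le]
    rintro z (rfl | hz)
    · exact hx
    · rw [Set.mem_singleton_iff] at hz; rw [hz]; exact hy
  rw [htop, top_le_iff] at hle
  exact not_isSolvable_psl (K := F) h4
    (Cfsg.Lib.Dickson.isSolvable_congr ((Subgroup.topEquiv.symm.trans (MulEquiv.subgroupCongr hle.symm))) hT)

/-- The shapes of proper subgroups. -/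
theorem proper_cases [CharP F 2] (hmin : Cfsg.IsMinimalSimple PSL2) (h4 : 4 ≤ Fintype.card F) {x y : PSL2}
    (hne : Subgroup.closure ({x, y} : Set PSL2) ≠ ⊤) :
    (∃ P : Sylow 2 PSL2, x ∈ Subgroup.normalizer ((P : Subgroup PSL2) : Set PSL2) ∧
      y ∈ Subgroup.normalizer ((P : Subgroup PSL2) : Set PSL2)) ∨
    (x * y = y * x ∧ ¬ 2 ∣ orderOf x) ∨ (y * y = 1 ∧ x * y * (x * y) = 1) ∨ (x * x = 1 ∧ x * y * (x * y) = 1) ∨
    (x * x = 1 ∧ y * y = 1) := by
  haveI := Fact.mk Nat.prime_two
  set K := Subgroup.closure ({x, y} : Set PSL2)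
  have hxK : x ∈ K := Subgroup.subset_closure (Or.inl rfl)
  have hyK : y ∈ K := Subgroup.subset_closure (Or.inr rfl)
  have hsol := hmin.2.2 K hne
  have fin : (∃ P : Sylow 2 PSL2, K ≤ Subgroup.normalizer ((P : Subgroup PSL2) : Set PSL2)) →
      ∃ P : Sylow 2 PSL2, x ∈ Subgroup.normalizer ((P : Subgroup PSL2) : Set PSL2) ∧
      y ∈ Subgroup.normalizer ((P : Subgroup PSL2) : Set PSL2) := fun ⟨P, hP⟩ => ⟨P, hP hxK, hP hyK⟩
  have hq : Fintype.card F % 2 = 0 := by
    obtain ⟨n, -, hn⟩ := FiniteField.card F 2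
    rw [hn, Nat.pow_mod, Nat.mod_self, Nat.zero_pow n.pos]
  rcases psl_subgroup_cases 2 K with ⟨k, hk, hH⟩ | ⟨-, P, hP⟩ | ⟨-, hc⟩
  · have hko : ¬ 2 ∣ k := by
      rw [((Nat.Prime.coprime_iff_not_dvd Nat.prime_two).mpr (by omega) :
        Nat.gcd 2 (Fintype.card F - 1) = 1), Nat.div_one, Nat.div_one] at hk
      rcases hk with hk | hk <;> intro h <;> have := h.trans hk <;> omega
    rcases hH with ⟨hcyc, hcard⟩ | ⟨⟨e⟩⟩
    · refine Or.inr (Or.inl ⟨?_, ?_⟩)
      · haveI := hcyc
        exact congrArg Subtype.val ((IsCyclic.commutative (α := K)).is_comm.comm (⟨x, hxK⟩ : K) ⟨y, hyK⟩)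
      · intro h
        exact hko (hcard ▸ h.trans (Subgroup.orderOf_dvd_natCard _ hxK))
    · have hk0 : k ≠ 0 := fun h => hko (h ▸ dvd_zero 2)
      haveI : NeZero k := ⟨hk0⟩
      have back : ∀ u v : K, e u * e v = e v * e u → (u : PSL2) * v = v * u := fun u v h => by
        rw [← map_mul, ← map_mul] at h
        exact congrArg Subtype.val (e.injective h)
      have one : ∀ u : K, e u * e u = 1 → (u : PSL2) * u = 1 := fun u h => by
        rw [← map_mul, MulEquiv.map_eq_one_iff] at h
        exact congrArg Subtype.val h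
      have hmul : e (⟨x, hxK⟩ * ⟨y, hyK⟩) = e ⟨x, hxK⟩ * e ⟨y, hyK⟩ := map_mul e _ _
      cases hx : e ⟨x, hxK⟩ with
      | r i =>
        cases hy : e ⟨y, hyK⟩ with
        | r j =>
          refine Or.inr (Or.inl ⟨back ⟨x, hxK⟩ ⟨y, hyK⟩ (by rw [hx, hy, DihedralGroup.r_mul_r, DihedralGroup.r_mul_r, add_comm]), ?_⟩)
          intro h
          refine hko (h.trans ?_)
          rw [show orderOf x = orderOf (e ⟨x, hxK⟩) by rw [e.orderOf_eq, Subgroup.orderOf_mk], hx, DihedralGroup.orderOf_r]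
          exact Nat.div_dvd_of_dvd (Nat.gcd_dvd_left _ _)
        | sr j =>
          refine Or.inr (Or.inr (Or.inl ⟨one ⟨y, hyK⟩ (by rw [hy, DihedralGroup.sr_mul_sr, sub_self, DihedralGroup.one_def]),
            one (⟨x, hxK⟩ * ⟨y, hyK⟩) (by rw [hmul, hx, hy, DihedralGroup.r_mul_sr, DihedralGroup.sr_mul_sr, sub_self, DihedralGroup.one_def])⟩))
      | sr i =>
        cases hy : e ⟨y, hyK⟩ with
        | r j =>
          refine Or.inr (Or.inr (Or.inr (Or.inl ⟨one ⟨x, hxK⟩ (by rw [hx, DihedralGroup.sr_mul_sr, sub_self, DihedralGroup.one_def]),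
            one (⟨x, hxK⟩ * ⟨y, hyK⟩) (by rw [hmul, hx, hy, DihedralGroup.sr_mul_r, DihedralGroup.sr_mul_sr, sub_self, DihedralGroup.one_def])⟩)))
        | sr j =>
          exact Or.inr (Or.inr (Or.inr (Or.inr ⟨one ⟨x, hxK⟩ (by rw [hx, DihedralGroup.sr_mul_sr, sub_self, DihedralGroup.one_def]),
            one ⟨y, hyK⟩ (by rw [hy, DihedralGroup.sr_mul_sr, sub_self, DihedralGroup.one_def])⟩)))
  · exact Or.inl (fin ⟨P, hP⟩)
  · rcases hc with ⟨⟨e⟩⟩ | ⟨⟨e⟩⟩ | ⟨⟨e⟩⟩ | ⟨K', _, _, m, hK', h3, -, hiso⟩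
    · exact Or.inl (fin (le_normalizer_of_iso_two e _ fourFour_sub_ne_bot fun a ha => Subtype.ext ha.1))
    · exact Or.inl (fin (le_normalizer_of_iso_two e fourFour fourFour_ne_bot fun a ha => ha.1))
    · exact absurd (Cfsg.Lib.Dickson.isSolvable_congr e.symm hsol) not_isSolvable_alternating_five
    · exfalso
      haveI := hK'
      have h4K : 4 ≤ Fintype.card K' := by
        obtain ⟨n, -, hn⟩ := FiniteField.card K' 2
        have : 2 ∣ Fintype.card K' := hn ▸ dvd_pow_self 2 n.pos.ne'
        omega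
      refine not_isSolvable_psl (K := K') h4K ?_
      rcases hiso with ⟨⟨e⟩, -⟩ | ⟨⟨e⟩⟩
      · exact Cfsg.Lib.Dickson.isSolvable_congr e.symm hsol
      · haveI : Group.IsSolvable (Matrix.ProjGenLinGroup (Fin 2) K') := Cfsg.Lib.Dickson.isSolvable_congr e.symm hsol
        exact Group.isSolvable_of_isSolvable_injective
          (f := Matrix.ProjectiveSpecialLinearGroup.toPGL) Matrix.ProjectiveSpecialLinearGroup.toPGL_injective

/-- Let G = PSL_2(F) with F a field of order q = 2^p, p prime, and for x ∈ G call the solubilizer of x the set of y ∈ G such that x and y generate a solvable subgroup. Then the solubilizer of an involution has 3q(q − 1) elements; that of a non-identity element of order dividing q − 1 has 2q(q − 1) elements; and that of a non-identity element of order dividing q + 1 has 2(q + 1) elements. -/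
theorem result (p : ℕ) (hp : p.Prime) {F : Type*} [Field F] [Fintype F]
    (hF : Fintype.card F = 2 ^ p) (x : Matrix.ProjectiveSpecialLinearGroup (Fin 2) F) :
    (orderOf x = 2 → Nat.card {y : Matrix.ProjectiveSpecialLinearGroup (Fin 2) F // Group.IsSolvable ↥(Subgroup.closure ({x, y} : Set (Matrix.ProjectiveSpecialLinearGroup (Fin 2) F)))} = 3 * 2 ^ p * (2 ^ p - 1)) ∧
    (x ≠ 1 → orderOf x ∣ 2 ^ p - 1 → Nat.card {y : Matrix.ProjectiveSpecialLinearGroup (Fin 2) F // Group.IsSolvable ↥(Subgroup.closure ({x, y} : Set (Matrix.ProjectiveSpecialLinearGroup (Fin 2) F)))} = 2 * 2 ^ p * (2 ^ p - 1)) ∧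
    (x ≠ 1 → orderOf x ∣ 2 ^ p + 1 → Nat.card {y : Matrix.ProjectiveSpecialLinearGroup (Fin 2) F // Group.IsSolvable ↥(Subgroup.closure ({x, y} : Set (Matrix.ProjectiveSpecialLinearGroup (Fin 2) F)))} = 2 * (2 ^ p + 1)) := by
  classical
  haveI : Fact p.Prime := ⟨hp⟩
  haveI := Fact.mk Nat.prime_two
  obtain ⟨r0, hr0⟩ := CharP.exists F
  haveI := Fact.mk (CharP.char_is_prime F r0)
  obtain ⟨n, hpp, hn⟩ := FiniteField.card F r0
  obtain rfl : r0 = 2 := ((Nat.prime_dvd_prime_iff_eq Nat.prime_two hpp).mp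
    (Nat.prime_two.dvd_of_dvd_pow (hn ▸ hF ▸ dvd_pow_self 2 hp.ne_zero))).symm
  have h4 : 4 ≤ Fintype.card F := by
    rw [hF]
    calc 4 = 2 ^ 2 := rfl
      _ ≤ 2 ^ p := Nat.pow_le_pow_right (by norm_num) hp.two_le
  have hmin := (Cfsg.Agent.S0810.result hF).mpr (Or.inl ⟨p, hp, rfl⟩)
  haveI := isSimpleGroup_psl_two (F := F) h4
  have hns := not_isSolvable_psl (K := F) h4
  have h20 : (2 : F) = 0 := CharTwo.two_eq_zero
  set q := Fintype.card F with hq
  rw [← hF]
  have hd : Nat.gcd 2 (q - 1) = 1 :=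
    (Nat.Prime.coprime_iff_not_dvd Nat.prime_two).mpr (by
      have : 2 ∣ q := hF ▸ dvd_pow_self 2 hp.ne_zero
      omega)
  set π := fun g : Matrix.SpecialLinearGroup (Fin 2) F => (QuotientGroup.mk g : Matrix.ProjectiveSpecialLinearGroup (Fin 2) F)
  have hπ : Function.Bijective π := ⟨mk_injective, QuotientGroup.mk_surjective⟩
  -- transfer the count to matrices
  have hcount : ∀ (X : Matrix.SpecialLinearGroup (Fin 2) F) (P : Matrix.SpecialLinearGroup (Fin 2) F → Prop),
      (∀ Y, Subgroup.closure ({π X, π Y} : Set (Matrix.ProjectiveSpecialLinearGroup (Fin 2) F)) ≠ ⊤ ↔ P Y) →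
      Nat.card {y : Matrix.ProjectiveSpecialLinearGroup (Fin 2) F // Group.IsSolvable ↥(Subgroup.closure ({π X, y} : Set (Matrix.ProjectiveSpecialLinearGroup (Fin 2) F)))} = Nat.card {Y // P Y} := by
    intro X P h
    refine (Nat.card_congr ((Equiv.ofBijective π hπ).subtypeEquiv fun Y => ?_)).symm
    rw [closure_ne_top_iff hmin h4]
    exact (h Y).symm
  have hUsol : Group.IsSolvable ((borelSL F).map (QuotientGroup.mk' (Subgroup.center (Matrix.SpecialLinearGroup (Fin 2) F)))) := by
    haveI := isSolvable_borelSL (F := F)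
    exact Group.isSolvable_of_surjective ((QuotientGroup.mk' (Subgroup.center (Matrix.SpecialLinearGroup (Fin 2) F))).subgroupMap_surjective (borelSL F))
  have hstd : ∀ Y : Matrix.SpecialLinearGroup (Fin 2) F,
      π Y ∈ Subgroup.normalizer (((stdSylow (F := F) 2) : Subgroup (Matrix.ProjectiveSpecialLinearGroup (Fin 2) F)) : Set (Matrix.ProjectiveSpecialLinearGroup (Fin 2) F)) ↔ Y.1 1 0 = 0 := by
    intro Y
    rw [normalizer_stdSylow]
    constructor
    · rintro ⟨b, hb, he⟩
      rw [← hπ.1 he]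
      exact hb
    · exact fun h => ⟨Y, h, rfl⟩
  have hdet : ∀ Y : Matrix.SpecialLinearGroup (Fin 2) F, Y.1 0 0 * Y.1 1 1 - Y.1 0 1 * Y.1 1 0 = 1 := fun Y => by
    rw [← Matrix.det_fin_two]; exact Y.2
  have cC0 : Nat.card {Y : Matrix.SpecialLinearGroup (Fin 2) F // Y.1 1 0 = 0} = q * (q - 1) := card_borelSL
  refine ⟨fun hx2 => ?_, fun hx1 hxm => ?_, fun hx1 hxp => ?_⟩
  · -- involutions
    obtain ⟨P, hP⟩ := (IsPGroup.of_card (p := 2) (n := 1) (by rw [Nat.card_zpowers, hx2, pow_one]) :
      IsPGroup 2 (Subgroup.zpowers x)).exists_le_sylow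
    obtain ⟨g, hg⟩ := MulAction.exists_smul_eq (Matrix.ProjectiveSpecialLinearGroup (Fin 2) F) P (stdSylow (F := F) 2)
    have hxs : g * x * g⁻¹ ∈ ((stdSylow (F := F) 2) : Subgroup (Matrix.ProjectiveSpecialLinearGroup (Fin 2) F)) := by
      rw [← hg, Sylow.coe_subgroup_smul]
      exact ⟨x, hP (Subgroup.mem_zpowers x), by simp⟩
    rw [← card_sol_conj g x]
    have hx' : g * x * g⁻¹ ≠ 1 := fun h => by
      rw [conj_eq_one_iff] at h; rw [h, orderOf_one] at hx2; omega
    have hxx : (g * x * g⁻¹) * (g * x * g⁻¹) = 1 := by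
      have := pow_orderOf_eq_one x
      rw [hx2, sq] at this
      calc g * x * g⁻¹ * (g * x * g⁻¹) = g * (x * x) * g⁻¹ := by group
        _ = 1 := by rw [this]; group
    have hxs' := hxs
    rw [stdSylow_coe] at hxs'
    obtain ⟨X, hX, hXe⟩ := hxs'
    obtain ⟨X00, X11, X10⟩ := Cfsg.Lib.Linear.Two.mem_UT.mp hX
    change π X = _ at hXe
    rw [← hXe] at hxx hx' hxs ⊢
    have hs : X.1 0 1 ≠ 0 := by
      intro h
      refine hx' ?_
      rw [show X = 1 from Subtype.ext (by ext i j; fin_cases i <;> fin_cases j <;> simp [X00, X11, X10, h])]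
      rfl
    have htr : ∀ Y : Matrix.SpecialLinearGroup (Fin 2) F,
        (X * Y).1 0 0 + (X * Y).1 1 1 = Y.1 0 0 + Y.1 1 1 + X.1 0 1 * Y.1 1 0 := fun Y => by
      show (X.1 * Y.1) 0 0 + (X.1 * Y.1) 1 1 = _
      simp [Matrix.mul_apply, Fin.sum_univ_two, X00, X11, X10]
      ring
    rw [hcount X (fun Y => Y.1 1 0 = 0 ∨ (Y.1 1 0 ≠ 0 ∧ (Y.1 0 0 + Y.1 1 1 = 0 ∨ Y.1 0 0 + Y.1 1 1 = X.1 0 1 * Y.1 1 0))) fun Y => ?_]
    · rw [Nat.card_congr (subtypeOrEquiv _ _ (Pi.disjoint_iff.mpr fun Y => Prop.disjoint_iff.mpr (not_and.mpr fun h h' => h'.1 h))),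
        Nat.card_sum, cC0]
      let f : Fˣ × F × Bool → {Y : Matrix.SpecialLinearGroup (Fin 2) F //
          Y.1 1 0 ≠ 0 ∧ (Y.1 0 0 + Y.1 1 1 = 0 ∨ Y.1 0 0 + Y.1 1 1 = X.1 0 1 * Y.1 1 0)} := fun z =>
        ⟨⟨!![z.2.1, (z.2.1 * ((if z.2.2 then 0 else X.1 0 1 * z.1) - z.2.1) - 1) / (z.1 : F);
            (z.1 : F), (if z.2.2 then 0 else X.1 0 1 * z.1) - z.2.1], by
          rw [Matrix.det_fin_two_of]; field_simp; ring⟩, by
          refine ⟨by simp, ?_⟩
          cases z.2.2 <;> simp⟩
      have hf : Function.Bijective f := by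
        constructor
        · rintro ⟨c, a, b⟩ ⟨c', a', b'⟩ h
          have h10 := congrArg (fun Y : {Y : Matrix.SpecialLinearGroup (Fin 2) F //
            Y.1 1 0 ≠ 0 ∧ (Y.1 0 0 + Y.1 1 1 = 0 ∨ Y.1 0 0 + Y.1 1 1 = X.1 0 1 * Y.1 1 0)} => Y.1.1 1 0) h
          have h00 := congrArg (fun Y : {Y : Matrix.SpecialLinearGroup (Fin 2) F //
            Y.1 1 0 ≠ 0 ∧ (Y.1 0 0 + Y.1 1 1 = 0 ∨ Y.1 0 0 + Y.1 1 1 = X.1 0 1 * Y.1 1 0)} => Y.1.1 0 0) h
          have h11 := congrArg (fun Y : {Y : Matrix.SpecialLinearGroup (Fin 2) F //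
            Y.1 1 0 ≠ 0 ∧ (Y.1 0 0 + Y.1 1 1 = 0 ∨ Y.1 0 0 + Y.1 1 1 = X.1 0 1 * Y.1 1 0)} => Y.1.1 1 1) h
          simp [f] at h10 h00 h11
          obtain rfl : c = c' := Units.ext h10
          subst h00
          cases b <;> cases b' <;> simp at h11 ⊢ <;>
            first | exact absurd h11 hs | exact absurd h11.symm hs | exact absurd (by linear_combination h11) (mul_ne_zero hs c.ne_zero) | exact absurd (by linear_combination -h11) (mul_ne_zero hs c.ne_zero)
        · rintro ⟨Y, hc, hY⟩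
          rcases hY with hY | hY
          · refine ⟨(Units.mk0 _ hc, Y.1 0 0, true), Subtype.ext (Subtype.ext ?_)⟩
            ext i j
            fin_cases i <;> fin_cases j <;> simp [f]
            · field_simp
              linear_combination hdet Y - Y.1 0 0 * hY
            · linear_combination -hY
          · refine ⟨(Units.mk0 _ hc, Y.1 0 0, false), Subtype.ext (Subtype.ext ?_)⟩
            ext i j
            fin_cases i <;> fin_cases j <;> simp [f]
            · field_simp
              linear_combination hdet Y - Y.1 0 0 * hY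
            · linear_combination -hY
      rw [← Nat.card_eq_of_bijective f hf, Nat.card_prod, Nat.card_prod, Nat.card_eq_fintype_card (α := Fˣ),
        Fintype.card_units, Nat.card_eq_fintype_card (α := F), Nat.card_eq_fintype_card (α := Bool), Fintype.card_bool, ← hq]
      ring
    constructor
    · intro hne
      by_cases hc : Y.1 1 0 = 0
      · exact Or.inl hc
      refine Or.inr ⟨hc, ?_⟩
      rcases proper_cases hmin h4 hne with ⟨P, hPx, hPy⟩ | ⟨-, hodd⟩ | ⟨hy, -⟩ | ⟨-, hxy⟩ | ⟨-, hy⟩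
      · exfalso
        have hxP := mem_of_pow_eq_one_normalizer P hPx (k := 1) (by rw [pow_one, sq]; exact hxx)
        have e : (P : Subgroup (Matrix.ProjectiveSpecialLinearGroup (Fin 2) F)) =
            ((stdSylow (F := F) 2) : Subgroup (Matrix.ProjectiveSpecialLinearGroup (Fin 2) F)) := by
          rw [← centralizer_eq_sylow 2 P hxP hx', centralizer_eq_sylow 2 (stdSylow (F := F) 2) hxs hx']
        rw [e] at hPy
        exact hc ((hstd Y).mp hPy)
      · refine absurd ?_ hodd
        rw [orderOf_eq_prime (p := 2) (by rw [sq]; exact hxx) hx']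
      · exact Or.inl (trace_zero_of_sq (hπ.1 hy))
      · exact Or.inr (by
          have := trace_zero_of_sq (g := X * Y) (hπ.1 hxy)
          rw [htr] at this
          rwa [CharTwo.add_eq_zero] at this)
      · exact Or.inl (trace_zero_of_sq (hπ.1 hy))
    · intro hY
      rcases hY with hc | ⟨-, hY | hY⟩
      · exact closure_ne_top_of_le h4 hUsol ⟨X, X10, rfl⟩ ⟨Y, hc, rfl⟩
      · exact closure_involutions_ne_top hns hxx (sq_one_of_trace hY)
      · have h2 : π (X * Y) * π (X * Y) = 1 := sq_one_of_trace (by rw [htr, hY, CharTwo.add_self_eq_zero])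
        have h3 := closure_involutions_ne_top hns hxx h2
        refine fun htop => h3 (eq_top_iff.mpr (htop ▸ ?_))
        rw [Subgroup.closure_le]
        rintro z (rfl | hz)
        · exact Subgroup.subset_closure (Or.inl rfl)
        · rw [Set.mem_singleton_iff] at hz
          rw [hz, show π Y = (π X)⁻¹ * π (X * Y) from (inv_mul_cancel_left (π X) (π Y)).symm]
          exact mul_mem (inv_mem (Subgroup.subset_closure (Or.inl rfl))) (Subgroup.subset_closure (Or.inr rfl))
  · -- split torus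
    obtain ⟨X0, rfl⟩ := QuotientGroup.mk_surjective x
    have hodd : ¬ 2 ∣ orderOf (π X0) := fun h => by
      have h' := h.trans hxm
      have : 2 ∣ q := hF ▸ dvd_pow_self 2 hp.ne_zero
      omega
    have hsq : (QuotientGroup.mk X0 : Matrix.ProjectiveSpecialLinearGroup (Fin 2) F) ^ 2 ≠ 1 := fun h => by
      rcases (Nat.dvd_prime Nat.prime_two).mp (orderOf_dvd_of_pow_eq_one h) with h' | h'
      · exact hx1 (orderOf_eq_one_iff.mp h')
      · exact hodd (by rw [h'])
    have hs0 := trace_ne_zero_of_sq_ne_one hsq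
    set s := X0.1 0 0 + X0.1 1 1 with hsdef
    obtain ⟨r, hr⟩ : ∃ r : F, r ^ 2 - s * r + 1 = 0 := by
      set K := AlgebraicClosure F
      set t := algebraMap F K s with ht
      obtain ⟨r, hr⟩ := IsAlgClosed.exists_root
        (Polynomial.X ^ 2 - Polynomial.C t * Polynomial.X + Polynomial.C 1 : Polynomial K) (by
          have : (Polynomial.X ^ 2 - Polynomial.C t * Polynomial.X + Polynomial.C 1 :
              Polynomial K).degree = 2 := by compute_degree!
          rw [this]; norm_num)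
      simp only [Polynomial.IsRoot, Polynomial.eval_add, Polynomial.eval_sub, Polynomial.eval_pow,
        Polynomial.eval_X, Polynomial.eval_mul, Polynomial.eval_C] at hr
      have hr' : r ^ 2 = t * r - 1 := by linear_combination hr
      have hr0 : r ≠ 0 := by rintro rfl; simp at hr'
      haveI : CharP K 2 := charP_of_injective_algebraMap (algebraMap F K).injective 2
      have hne : r * r ≠ 1 := by
        intro h
        have h1 : t * r = 0 := by linear_combination -hr' + h + CharTwo.two_eq_zero (R := K)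
        exact hs0 ((algebraMap F K).injective (by rw [map_zero]; exact (mul_eq_zero.mp h1).resolve_right hr0))
      have hfrob : (r ^ q) ^ 2 = t * r ^ q - 1 := by
        have htq : t ^ q = t := by rw [ht, ← map_pow, FiniteField.pow_card]
        rw [← pow_mul, mul_comm, pow_mul, hr', hn, sub_pow_char_pow, mul_pow, one_pow, ← hn, htq]
      have hsplit : (r ^ q - r) * (r ^ q - r⁻¹) = 0 := by
        apply mul_left_cancel₀ hr0
        rw [mul_zero]
        linear_combination r * hfrob - r ^ q * hr' + (r - r ^ q) * mul_inv_cancel₀ hr0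
      rcases mul_eq_zero.mp hsplit with h | h
      · obtain ⟨a, ha⟩ := Cfsg.Lib.Spec.mem_range_algebraMap_of_pow_card (F := F) (sub_eq_zero.mp h)
        refine ⟨a, (algebraMap F K).injective ?_⟩
        rw [map_add, map_sub, map_mul, map_pow, map_one, map_zero, ha]
        exact hr
      · exfalso
        have h1 : orderOf (π X0) ∣ q + 1 := orderOf_dvd_of_pow_eq_one (by
          rw [Cfsg.Lib.Spec.mk_pow_eq_one_iff]
          refine Cfsg.Lib.Spec.pow_scalar_of_root X0 hr' hne ?_
          rw [pow_succ r, sub_eq_zero.mp h, inv_mul_cancel₀ hr0, one_pow])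
        have h2 := Nat.dvd_sub h1 hxm
        rw [show q + 1 - (q - 1) = 2 by omega] at h2
        exact hsq (orderOf_dvd_iff_pow_eq_one.mp h2)
    have hr0 : r ≠ 0 := by rintro rfl; simp at hr
    have hrr : r * r ≠ 1 := fun h => hs0 (mul_right_cancel₀ (b := r) hr0 (by linear_combination h - hr + h20))
    let X : Matrix.SpecialLinearGroup (Fin 2) F := ⟨!![r, 0; 0, r⁻¹], by simp [Matrix.det_fin_two_of, hr0]⟩
    have hXt : X.1 0 0 + X.1 1 1 = s := by
      refine mul_right_cancel₀ hr0 ?_
      show (r + r⁻¹) * r = s * r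
      linear_combination hr + mul_inv_cancel₀ hr0
    obtain ⟨c, hc⟩ := exists_conj_of_trace (g := X0) (h := X) (by rw [hXt]) (by
      rw [← hsdef, show (4 : F) = 2 * 2 by norm_num, h20, mul_zero]
      exact pow_ne_zero 2 hs0)
    rw [← card_sol_conj (π c) (π X0), show π c * π X0 * (π c)⁻¹ = π X by rw [← hc]; rfl]
    have hX1 : π X ≠ 1 := fun h => hrr (by
      have : X = 1 := hπ.1 h
      have := congrArg (fun A : Matrix.SpecialLinearGroup (Fin 2) F => A.1 0 0) this
      simp [X] at this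
      rw [this, one_mul])
    have hXodd : ¬ 2 ∣ orderOf (π X) := by
      rw [← hc]
      show ¬ 2 ∣ orderOf (π c * π X0 * (π c)⁻¹)
      rwa [show π c * π X0 * (π c)⁻¹ = MulAut.conj (π c) (π X0) from rfl, MulEquiv.orderOf_eq]
    let W : Matrix.SpecialLinearGroup (Fin 2) F := ⟨!![0, 1; -1, 0], by simp [Matrix.det_fin_two_of]⟩
    rw [hcount X (fun Y => Y.1 1 0 = 0 ∨ (Y.1 1 0 ≠ 0 ∧ (Y.1 0 1 = 0 ∨ (Y.1 0 1 ≠ 0 ∧ Y.1 0 0 = 0 ∧ Y.1 1 1 = 0)))) fun Y => ?_]
    · rw [Nat.card_congr (subtypeOrEquiv _ _ (Pi.disjoint_iff.mpr fun Y => Prop.disjoint_iff.mpr (not_and.mpr fun h h' => h'.1 h))),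
        Nat.card_sum, cC0]
      let f : (Fˣ × Fˣ) ⊕ Fˣ → {Y : Matrix.SpecialLinearGroup (Fin 2) F //
          Y.1 1 0 ≠ 0 ∧ (Y.1 0 1 = 0 ∨ (Y.1 0 1 ≠ 0 ∧ Y.1 0 0 = 0 ∧ Y.1 1 1 = 0))} := fun z => z.elim
        (fun (z : Fˣ × Fˣ) => ⟨⟨!![(z.1 : F), 0; (z.2 : F), (z.1 : F)⁻¹], by simp [Matrix.det_fin_two_of]⟩, by simp, Or.inl (by simp)⟩)
        (fun (z : Fˣ) => ⟨⟨!![0, -(z : F)⁻¹; (z : F), 0], by simp [Matrix.det_fin_two_of]⟩, by simp, Or.inr (by simp)⟩)
      have hf : Function.Bijective f := by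
        constructor
        · intro u v h
          have e : ∀ i j, (f u).1.1 i j = (f v).1.1 i j := fun i j => by rw [h]
          rcases u with ⟨a, c⟩ | c <;> rcases v with ⟨a', c'⟩ | c'
          · have h1 := e 0 0; have h2 := e 1 0
            simp [f] at h1 h2
            rw [Units.ext h1, Units.ext h2]
          · have h1 := e 0 0; simp [f] at h1
          · have h1 := e 0 0; simp [f] at h1; exact absurd h1.symm a'.ne_zero
          · have h2 := e 1 0; simp [f] at h2; rw [Units.ext h2]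
        · rintro ⟨Y, hc, hY⟩
          rcases hY with hb | ⟨-, ha, hd'⟩
          · have had := hdet Y
            rw [hb, zero_mul, sub_zero] at had
            refine ⟨Sum.inl (Units.mk0 _ (left_ne_zero_of_mul_eq_one had), Units.mk0 _ hc), Subtype.ext (Subtype.ext ?_)⟩
            ext i j
            fin_cases i <;> fin_cases j <;> simp [f, hb]
            exact inv_eq_of_mul_eq_one_right had
          · have hbc := hdet Y
            rw [ha, hd', mul_zero, zero_sub] at hbc
            refine ⟨Sum.inr (Units.mk0 _ hc), Subtype.ext (Subtype.ext ?_)⟩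
            ext i j
            fin_cases i <;> fin_cases j <;> simp [f, ha, hd']
            field_simp
            linear_combination hbc
      rw [← Nat.card_eq_of_bijective f hf, Nat.card_sum, Nat.card_prod, Nat.card_eq_fintype_card (α := Fˣ),
        Fintype.card_units, ← hq]
      obtain ⟨m, hm⟩ : ∃ m, q = m + 1 := ⟨q - 1, by omega⟩
      rw [hm, Nat.add_sub_cancel]
      ring
    constructor
    · intro hne
      have hcomm : π X * π Y = π Y * π X → Y.1 1 0 = 0 := fun h => by
        have h' : X * Y = Y * X := hπ.1 h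
        have := congrArg (fun A : Matrix.SpecialLinearGroup (Fin 2) F => A.1 1 0) h'
        change (X.1 * Y.1) 1 0 = (Y.1 * X.1) 1 0 at this
        simp [X, Matrix.mul_apply, Fin.sum_univ_two] at this
        by_contra hc
        refine hrr ?_
        have h1 : r⁻¹ = r := mul_left_cancel₀ hc (by linear_combination this)
        nth_rewrite 1 [← h1]
        exact inv_mul_cancel₀ hr0
      by_cases hc : Y.1 1 0 = 0
      · exact Or.inl hc
      refine Or.inr ⟨hc, ?_⟩
      rcases proper_cases hmin h4 hne with ⟨P, hPx, hPy⟩ | ⟨hcm, -⟩ | ⟨hy, hxy⟩ | ⟨hx, -⟩ | ⟨hx, -⟩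
      · left
        obtain ⟨g, hg⟩ := MulAction.exists_smul_eq (Matrix.ProjectiveSpecialLinearGroup (Fin 2) F) (stdSylow (F := F) 2) P
        obtain ⟨g, rfl⟩ := QuotientGroup.mk_surjective g
        subst hg
        have hn' : ∀ Z : Matrix.SpecialLinearGroup (Fin 2) F, π Z ∈ Subgroup.normalizer (((π g • stdSylow (F := F) 2 : Sylow 2 _) : Subgroup (Matrix.ProjectiveSpecialLinearGroup (Fin 2) F)) : Set (Matrix.ProjectiveSpecialLinearGroup (Fin 2) F)) → (g⁻¹ * Z * g).1 1 0 = 0 := fun Z hZ => by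
          refine (hstd _).mp (Sylow.smul_eq_iff_mem_normalizer.mp ?_)
          show ((π g)⁻¹ * π Z * π g) • stdSylow (F := F) 2 = stdSylow (F := F) 2
          rw [mul_smul, mul_smul, Sylow.smul_eq_iff_mem_normalizer.mpr hZ, inv_smul_smul]
        have hX' := hn' X hPx
        have hY' := hn' Y hPy
        change (Matrix.adjugate g.1 * X.1 * g.1) 1 0 = 0 at hX'
        change (Matrix.adjugate g.1 * Y.1 * g.1) 1 0 = 0 at hY'
        simp [X, Matrix.adjugate_fin_two, Matrix.mul_apply, Fin.sum_univ_two, Matrix.vecMul, dotProduct] at hX' hY'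
        have h00 : g.1 0 0 * g.1 1 0 = 0 := by
          have h1 : g.1 0 0 * g.1 1 0 * (r⁻¹ - r) = 0 := by linear_combination hX'
          refine (mul_eq_zero.mp h1).resolve_right fun h => hrr ?_
          nth_rewrite 1 [← sub_eq_zero.mp h]
          exact inv_mul_cancel₀ hr0
        rcases mul_eq_zero.mp h00 with h | h
        · have hg10 : g.1 1 0 ≠ 0 := fun h' => by
            have := hdet g; rw [h, h'] at this; simp at this
          rw [h] at hY'
          exact (mul_eq_zero.mp (mul_eq_zero.mp (by linear_combination -hY' : g.1 1 0 * g.1 1 0 * Y.1 0 1 = 0) |>.elim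
            (fun h' => absurd (mul_self_eq_zero.mp h') hg10) (fun h' => by rw [h']; exact mul_zero (1 : F)))).resolve_left one_ne_zero
        · have hg00 : g.1 0 0 ≠ 0 := fun h' => by
            have := hdet g; rw [h, h'] at this; simp at this
          rw [h] at hY'
          exact absurd ((mul_eq_zero.mp (by linear_combination hY' : g.1 0 0 * g.1 0 0 * Y.1 1 0 = 0)).resolve_left
            (mul_ne_zero hg00 hg00)) hc
      · exact absurd (hcomm hcm) hc
      · have h1 := trace_zero_of_sq (hπ.1 hy)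
        have h2 := trace_zero_of_sq (g := X * Y) (hπ.1 hxy)
        change (X.1 * Y.1) 0 0 + (X.1 * Y.1) 1 1 = 0 at h2
        simp [X, Matrix.mul_apply, Fin.sum_univ_two] at h2
        have ha : Y.1 0 0 = 0 := by
          have : Y.1 0 0 * (r - r⁻¹) = 0 := by linear_combination h2 - r⁻¹ * h1
          refine (mul_eq_zero.mp this).resolve_right fun h => hrr ?_
          nth_rewrite 2 [sub_eq_zero.mp h]
          exact mul_inv_cancel₀ hr0
        by_cases hb : Y.1 0 1 = 0
        · exact Or.inl hb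
        · exact Or.inr ⟨hb, ha, by rw [ha, zero_add] at h1; exact h1⟩
      · exact absurd (by rw [orderOf_eq_prime (p := 2) (by rw [sq]; exact hx) hX1]) hXodd
      · exact absurd (by rw [orderOf_eq_prime (p := 2) (by rw [sq]; exact hx) hX1]) hXodd
    · intro hY
      rcases hY with hc | ⟨-, hb | ⟨-, ha, hd'⟩⟩
      · exact closure_ne_top_of_le h4 hUsol ⟨X, show X.1 1 0 = 0 by simp [X], rfl⟩ ⟨Y, hc, rfl⟩
      · intro htop
        refine closure_ne_top_of_le h4 hUsol (x := π W * π X * (π W)⁻¹) (y := π W * π Y * (π W)⁻¹)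
          ⟨W * X * W⁻¹, ?_, rfl⟩ ⟨W * Y * W⁻¹, ?_, rfl⟩ ?_
        · show (W.1 * X.1 * Matrix.adjugate W.1) 1 0 = 0
          simp [W, X, Matrix.adjugate_fin_two, Matrix.mul_apply, Fin.sum_univ_two]
        · show (W.1 * Y.1 * Matrix.adjugate W.1) 1 0 = 0
          simp [W, Matrix.adjugate_fin_two, Matrix.mul_apply, Fin.sum_univ_two, Matrix.vecMul, dotProduct, hb]
        · rw [closure_pair_conj, htop, Subgroup.map_top_of_surjective _ (MulEquiv.surjective _)]
      · have hy : π Y * π Y = 1 := sq_one_of_trace (by rw [ha, hd', add_zero])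
        have hxy : π (X * Y) * π (X * Y) = 1 := sq_one_of_trace (by
          show (X.1 * Y.1) 0 0 + (X.1 * Y.1) 1 1 = 0
          simp [X, Matrix.mul_apply, Fin.sum_univ_two, ha, hd'])
        intro htop
        refine closure_involutions_ne_top hns hxy hy (eq_top_iff.mpr (htop ▸ ?_))
        rw [Subgroup.closure_le]
        rintro z (rfl | hz)
        · rw [show π X = π (X * Y) * (π Y)⁻¹ from (mul_inv_cancel_right (π X) (π Y)).symm]
          exact mul_mem (Subgroup.subset_closure (Or.inl rfl)) (inv_mem (Subgroup.subset_closure (Or.inr rfl)))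
        · rw [Set.mem_singleton_iff] at hz; rw [hz]; exact Subgroup.subset_closure (Or.inr rfl)
  · -- nonsplit torus
    have h2q : 2 ∣ q := hF ▸ dvd_pow_self 2 hp.ne_zero
    have hodd : ¬ 2 ∣ orderOf x := fun h => by
      have h' := h.trans hxp
      omega
    have hsq : x ^ 2 ≠ 1 := fun h => by
      rcases (Nat.dvd_prime Nat.prime_two).mp (orderOf_dvd_of_pow_eq_one h) with h' | h'
      · exact hx1 (orderOf_eq_one_iff.mp h')
      · exact hodd (by rw [h'])
    have hC : Nat.card (Subgroup.centralizer ({x} : Set (Matrix.ProjectiveSpecialLinearGroup (Fin 2) F))) = q + 1 := by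
      have h := card_centralizer_semisimple h4 2 hsq hodd
      rw [← hq, hd, Nat.div_one, Nat.div_one] at h
      rcases h with ⟨h, -⟩ | ⟨-, h⟩
      · exact h
      · exfalso
        have h2 := Nat.dvd_sub hxp h
        rw [show q + 1 - (q - 1) = 2 by omega] at h2
        exact hsq (orderOf_dvd_iff_pow_eq_one.mp h2)
    obtain ⟨X, rfl⟩ := QuotientGroup.mk_surjective x
    obtain ⟨w, hw, hwx⟩ := exists_inverting 2 X hsq
    set x := (QuotientGroup.mk X : Matrix.ProjectiveSpecialLinearGroup (Fin 2) F) with hx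
    have hiff : ∀ y, Group.IsSolvable ↥(Subgroup.closure ({x, y} : Set (Matrix.ProjectiveSpecialLinearGroup (Fin 2) F))) ↔
        (y * x * y⁻¹ = x ∨ y * x * y⁻¹ = x⁻¹) := by
      intro y
      rw [closure_ne_top_iff hmin h4]
      constructor
      · intro hne
        rcases proper_cases hmin h4 hne with ⟨P, hPx, -⟩ | ⟨hcm, -⟩ | ⟨hy, hxy⟩ | ⟨hx', -⟩ | ⟨hx', -⟩
        · exfalso
          have h1 := (Subgroup.orderOf_dvd_natCard _ hPx).trans (dvd_mul_left _ (Nat.gcd 2 (q - 1)))
          rw [card_normalizer_sylow_psl 2 P, ← hq] at h1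
          have hco : (orderOf x).Coprime q := by
            rw [hn]
            exact Nat.Coprime.pow_right _ ((Nat.Prime.coprime_iff_not_dvd Nat.prime_two).mpr hodd).symm
          have h2 := Nat.dvd_sub hxp (hco.dvd_of_dvd_mul_left h1)
          rw [show q + 1 - (q - 1) = 2 by omega] at h2
          exact hsq (orderOf_dvd_iff_pow_eq_one.mp h2)
        · exact Or.inl (by rw [← hcm, mul_inv_cancel_right])
        · right
          rw [inv_eq_of_mul_eq_one_right hy]
          exact eq_inv_of_mul_eq_one_left (by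
            calc y * x * y * x = x⁻¹ * (x * y * (x * y)) * x := by group
              _ = 1 := by rw [hxy]; group)
        · exact absurd (by rw [sq]; exact hx') hsq
        · exact absurd (by rw [sq]; exact hx') hsq
      · exact fun h => closure_ne_top_of_normalize hns hx1 (Or.inl (mul_inv_cancel_right x x)) h
    rw [Nat.card_congr (Equiv.subtypeEquivRight hiff), Nat.card_congr (subtypeOrEquiv _ _ (Pi.disjoint_iff.mpr fun y =>
      Prop.disjoint_iff.mpr (not_and.mpr fun h h' => hsq (by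
        rw [h] at h'
        rw [sq]; nth_rewrite 1 [h']; exact inv_mul_cancel _)))), Nat.card_sum]
    have e1 : Nat.card {y // y * x * y⁻¹ = x} = q + 1 := by
      rw [← hC]
      exact Nat.card_congr (Equiv.subtypeEquivRight fun y => by
        rw [Subgroup.mem_centralizer_singleton_iff, mul_inv_eq_iff_eq_mul])
    have e2 : Nat.card {y // y * x * y⁻¹ = x⁻¹} = q + 1 := by
      rw [← e1]
      refine Nat.card_congr ((Equiv.mulLeft w).subtypeEquiv fun y => ?_)
      simp only [Equiv.coe_mulLeft]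
      rw [show w * y * x * (w * y)⁻¹ = w * (y * x * y⁻¹) * w⁻¹ by group]
      constructor
      · intro h
        rw [h, show w * x⁻¹ * w⁻¹ = (w * x * w⁻¹)⁻¹ by group, hwx, inv_inv]
      · intro h
        calc y * x * y⁻¹ = w⁻¹ * (w * (y * x * y⁻¹) * w⁻¹) * w := by group
          _ = x⁻¹ := by
            rw [h, inv_eq_of_mul_eq_one_right hw]
            nth_rewrite 2 [← inv_eq_of_mul_eq_one_right hw]
            exact hwx
    rw [e1, e2]; ring

end Cfsg.Agent.S2257
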