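import Cfsg.Statements.S2258
import Cfsg.Agent.S2257
import Cfsg.Agent.Lib.Dickson.Maximal.Conj
import Cfsg.Agent.Lib.Dickson.KleinClasses
-- import your own Cfsg.Agent.* helpers here

set_option autoImplicit false
set_option maxHeartbeats 1000000
open Cfsg

namespace Cfsg.Agent.S2258

open Matrix Cfsg.Lib.Dickson
open Cfsg.Agent.S2257 (card_sol_conj closure_pair_conj closure_ne_top_of_normalize closure_involutions_ne_top closure_ne_top_iff closure_ne_top_of_le)

section general

variable {G : Type*} [Group G]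

/-- An involution and an element of order three with product of order three generate a proper subgroup. -/
theorem closure_ne_top_of_tetra [IsSimpleGroup G] (hns : ¬ Group.IsSolvable G) {x y : G} (hx : x * x = 1)
    (hx1 : x ≠ 1) (hy : y * y * y = 1) (hxy : x * y * (x * y) * (x * y) = 1) :
    Subgroup.closure ({x, y} : Set G) ≠ ⊤ := by
  intro htop
  have hx' : x⁻¹ = x := inv_eq_of_mul_eq_one_right hx
  have hy' : y⁻¹ = y * y := inv_eq_of_mul_eq_one_left hy
  set b := y * x * y⁻¹ with hb
  set c := y⁻¹ * x * y with hc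
  have hb2 : b * b = 1 := by
    rw [hb, show y * x * y⁻¹ * (y * x * y⁻¹) = y * (x * x) * y⁻¹ by group, hx]; group
  have hc2 : c * c = 1 := by
    rw [hc, show y⁻¹ * x * y * (y⁻¹ * x * y) = y⁻¹ * (x * x) * y by group, hx]; group
  have hyy : y⁻¹ * y⁻¹ = y := by
    calc y⁻¹ * y⁻¹ = y⁻¹ * y⁻¹ * (y * y * y) := by rw [hy, mul_one]
      _ = y := by group
  have habc : x * b * c = 1 := by
    rw [hb, hc, show x * (y * x * y⁻¹) * (y⁻¹ * x * y) = x * y * x * (y⁻¹ * y⁻¹) * x * y by group, hyy,
      show x * y * x * y * x * y = x * y * (x * y) * (x * y) by group, hxy]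
  have hab : x * b = c := by
    calc x * b = x * b * (c * c) := by rw [hc2, mul_one]
      _ = x * b * c * c := by group
      _ = c := by rw [habc, one_mul]
  have hba : b * x = x * b := by
    calc b * x = b⁻¹ * x⁻¹ := by rw [hx', inv_eq_of_mul_eq_one_right hb2]
      _ = (x * b)⁻¹ := by group
      _ = x * b := by rw [hab]; exact inv_eq_of_mul_eq_one_right hc2
  set V := Subgroup.closure ({x, b} : Set G) with hV
  have hxV : x ∈ V := Subgroup.subset_closure (Or.inl rfl)
  have hbV : b ∈ V := Subgroup.subset_closure (Or.inr rfl)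
  have key : ∀ g : G, g * x * g⁻¹ ∈ V → g * b * g⁻¹ ∈ V → ∀ v ∈ V, g * v * g⁻¹ ∈ V := by
    intro g h1 h2 v hv
    have hle : V ≤ V.comap (MulAut.conj g).toMonoidHom := by
      rw [hV, Subgroup.closure_le]
      rintro z (rfl | hz)
      · exact h1
      · rw [Set.mem_singleton_iff] at hz; rw [hz]; exact h2
    exact hle hv
  have kx : ∀ v ∈ V, x * v * x⁻¹ ∈ V := key x (by rwa [mul_inv_cancel_right])
    (by rw [← hba, mul_inv_cancel_right]; exact hbV)
  have ky : ∀ v ∈ V, y * v * y⁻¹ ∈ V := key y (by rw [← hb]; exact hbV) (by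
    rw [hb, show y * (y * x * y⁻¹) * y⁻¹ = y * y * x * (y⁻¹ * y⁻¹) by group, hyy, ← hy', ← hc, ← hab]
    exact mul_mem hxV hbV)
  haveI hN : V.Normal := ⟨fun v hv g => by
    have hg : g ∈ Subgroup.closure ({x, y} : Set G) := htop ▸ Subgroup.mem_top _
    refine (Subgroup.closure_induction (p := fun g _ => ∀ v ∈ V, g * v * g⁻¹ ∈ V ∧ g⁻¹ * v * g ∈ V) ?_ ?_ ?_ ?_ hg
      v hv).1
    · intro g hg v hv
      rcases hg with rfl | hg
      · refine ⟨kx v hv, ?_⟩
        have := kx v hv
        rw [hx'] at this ⊢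
        exact this
      · rw [Set.mem_singleton_iff] at hg
        rw [hg]
        refine ⟨ky v hv, ?_⟩
        rw [show y⁻¹ * v * y = y * (y * v * y⁻¹) * y⁻¹ by
          rw [show y * (y * v * y⁻¹) * y⁻¹ = y * y * v * (y⁻¹ * y⁻¹) by group, hyy, hy']]
        exact ky _ (ky v hv)
    · exact fun v hv => ⟨by simpa using hv, by simpa using hv⟩
    · intro u w _ _ hu hw v hv
      exact ⟨by rw [show u * w * v * (u * w)⁻¹ = u * (w * v * w⁻¹) * u⁻¹ by group]; exact (hu _ (hw v hv).1).1,
        by rw [show (u * w)⁻¹ * v * (u * w) = w⁻¹ * (u⁻¹ * v * u) * w by group]; exact (hw _ (hu v hv).2).2⟩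
    · intro u _ hu v hv
      exact ⟨by rw [inv_inv]; exact (hu v hv).2, by rw [inv_inv]; exact (hu v hv).1⟩⟩
  rcases IsSimpleGroup.eq_bot_or_eq_top_of_normal V hN with h | h
  · exact hx1 (by rwa [h, Subgroup.mem_bot] at hxV)
  · have hle : V ≤ Subgroup.centralizer ({x} : Set G) := by
      rw [hV, Subgroup.closure_le]
      rintro z (rfl | hz)
      · exact Subgroup.mem_centralizer_singleton_iff.mpr rfl
      · rw [Set.mem_singleton_iff] at hz; rw [hz]; exact Subgroup.mem_centralizer_singleton_iff.mpr hba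
    refine closure_ne_top_of_normalize hns hx1 (a := x) (b := y) (Or.inl (mul_inv_cancel_right x x)) (Or.inl ?_) htop
    rw [mul_inv_eq_iff_eq_mul]
    exact Subgroup.mem_centralizer_singleton_iff.mp (hle (h ▸ Subgroup.mem_top y))

theorem closure_ne_top_mono {x y u w : G} (hx : x ∈ Subgroup.closure ({u, w} : Set G))
    (hy : y ∈ Subgroup.closure ({u, w} : Set G)) (h : Subgroup.closure ({u, w} : Set G) ≠ ⊤) :
    Subgroup.closure ({x, y} : Set G) ≠ ⊤ := by
  refine fun htop => h (eq_top_iff.mpr (htop ▸ ?_))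
  rw [Subgroup.closure_le]
  rintro z (rfl | hz)
  · exact hx
  · rw [Set.mem_singleton_iff] at hz; rw [hz]; exact hy

end general

variable {F : Type*} [Field F] [Fintype F]

local notation "SL2" => Matrix.SpecialLinearGroup (Fin 2) F
local notation "PSL2" => Matrix.ProjectiveSpecialLinearGroup (Fin 2) F

theorem one_entries {g : SL2} (h : (QuotientGroup.mk g : PSL2) = 1) :
    g.1 0 1 = 0 ∧ g.1 1 0 = 0 ∧ g.1 1 1 = g.1 0 0 :=
  mem_center_sl ((QuotientGroup.eq_one_iff g).mp h)

theorem three_zero [CharP F 3] : (3 : F) = 0 := by simpa using CharP.cast_eq_zero F 3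

theorem two_ne [CharP F 3] : (2 : F) ≠ 0 := fun h => one_ne_zero (α := F) (by linear_combination three_zero (F := F) - h)

theorem cube_trace [CharP F 3] {g : SL2}
    (h : (QuotientGroup.mk g : PSL2) * QuotientGroup.mk g * QuotientGroup.mk g = 1) :
    (g.1 0 0 + g.1 1 1) * (g.1 0 0 + g.1 1 1) = 1 := by
  rcases trace_of_exponent (k := 2) (g := g) (by rw [pow_succ, pow_two]; exact h) with (ht | ht) | ht
  · rw [ht]; linear_combination three_zero (F := F)
  · rw [ht]; linear_combination three_zero (F := F)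
  · simp [Cfsg.Lib.Spec.chCoef] at ht
    linear_combination ht

theorem sq_trace [CharP F 3] {g : SL2} (h : (QuotientGroup.mk g : PSL2) * QuotientGroup.mk g = 1) :
    g.1 0 0 + g.1 1 1 = 0 ∨ (QuotientGroup.mk g : PSL2) = 1 :=
  or_iff_not_imp_right.mpr fun h1 => trace_zero_of_involution two_ne (by rw [pow_two]; exact h) h1

theorem small_trace [CharP F 3] {g : SL2} (h : (QuotientGroup.mk g : PSL2) * QuotientGroup.mk g = 1 ∨
    (QuotientGroup.mk g : PSL2) * QuotientGroup.mk g * QuotientGroup.mk g = 1) :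
    g.1 0 0 + g.1 1 1 = 0 ∨ (g.1 0 0 + g.1 1 1) * (g.1 0 0 + g.1 1 1) = 1 := by
  rcases h with h | h
  · exact (sq_trace h).imp_right fun h1 => cube_trace (by rw [h1, one_mul, one_mul])
  · exact Or.inr (cube_trace h)

theorem mk_cube [CharP F 3] {g : SL2} (h : (g.1 0 0 + g.1 1 1) * (g.1 0 0 + g.1 1 1) = 1) :
    (QuotientGroup.mk g : PSL2) * QuotientGroup.mk g * QuotientGroup.mk g = 1 := by
  rw [← pow_two, ← pow_succ, ← QuotientGroup.mk_pow, QuotientGroup.eq_one_iff]
  have h2 : Cfsg.Lib.Spec.chCoef (Cfsg.Lib.Spec.trc g) 3 = 0 := by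
    simp [Cfsg.Lib.Spec.chCoef, Cfsg.Lib.Spec.trc]
    linear_combination h
  have h3 := Cfsg.Lib.Spec.pow_eq_scalar g (n := 2) h2
  refine mem_center_of_eq_scalar (c := -(g.1 0 0 + g.1 1 1)) (by linear_combination h) ?_
  rw [h3]
  ext i j
  fin_cases i <;> fin_cases j <;> simp [Cfsg.Lib.Spec.chCoef, Cfsg.Lib.Spec.trc]

theorem mul_trace (A B : SL2) : (A * B).1 0 0 + (A * B).1 1 1 =
    A.1 0 0 * B.1 0 0 + A.1 0 1 * B.1 1 0 + A.1 1 0 * B.1 0 1 + A.1 1 1 * B.1 1 1 := by
  show (A.1 * B.1) 0 0 + (A.1 * B.1) 1 1 = _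
  simp [Matrix.mul_apply, Fin.sum_univ_two]
  ring

theorem det_eq (g : SL2) : g.1 0 0 * g.1 1 1 - g.1 0 1 * g.1 1 0 = 1 := by
  rw [← Matrix.det_fin_two]; exact g.2

theorem conj_corner (g Z : SL2) : (g⁻¹ * Z * g).1 1 0 =
    g.1 0 0 * g.1 0 0 * Z.1 1 0 - g.1 1 0 * g.1 1 0 * Z.1 0 1 + g.1 0 0 * g.1 1 0 * (Z.1 1 1 - Z.1 0 0) := by
  show (Matrix.adjugate g.1 * Z.1 * g.1) 1 0 = _
  simp [Matrix.adjugate_fin_two, Matrix.mul_apply, Fin.sum_univ_two, Matrix.vecMul, dotProduct]
  ring

/-- The shapes of solvable proper subgroups in characteristic three and odd degree. -/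
theorem proper_cases [CharP F 3] (hmin : Cfsg.IsMinimalSimple PSL2) (h4 : 4 ≤ Fintype.card F)
    (h8 : Fintype.card F % 8 = 3) {x y : PSL2} (hne : Subgroup.closure ({x, y} : Set PSL2) ≠ ⊤) :
    (∃ P : Sylow 3 PSL2, x ∈ Subgroup.normalizer ((P : Subgroup PSL2) : Set PSL2) ∧
      y ∈ Subgroup.normalizer ((P : Subgroup PSL2) : Set PSL2)) ∨
    x * y = y * x ∨ (y * y = 1 ∧ x * y * (x * y) = 1) ∨ (x * x = 1 ∧ x * y * (x * y) = 1) ∨
    (x * x = 1 ∧ y * y = 1) ∨
    (∀ z ∈ Subgroup.closure ({x, y} : Set PSL2), z * z = 1 ∨ z * z * z = 1) := by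
  haveI := Fact.mk Nat.prime_three
  set K := Subgroup.closure ({x, y} : Set PSL2)
  have hxK : x ∈ K := Subgroup.subset_closure (Or.inl rfl)
  have hyK : y ∈ K := Subgroup.subset_closure (Or.inr rfl)
  have hsol := hmin.2.2 K hne
  have h24 : ¬ 24 ∣ Nat.card K := by
    intro h
    have h' := mul_dvd_mul_left 2 (h.trans (Subgroup.card_subgroup_dvd_card K))
    rw [card_psl_mul (K := F) (by omega)] at h'
    obtain ⟨m, hm⟩ : ∃ m, Fintype.card F = 8 * m + 3 := ⟨Fintype.card F / 8, by omega⟩
    have h2 : (16 : ℕ) ∣ Fintype.card F * (Fintype.card F ^ 2 - 1) := (by norm_num : 16 ∣ 2 * 24).trans h'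
    have h3 : 16 ∣ Fintype.card F ^ 2 - 1 :=
      (Nat.Coprime.pow_left 4 ((Nat.Prime.coprime_iff_not_dvd Nat.prime_two).mpr (by omega))).dvd_of_dvd_mul_left h2
    rw [hm, show (8 * m + 3) ^ 2 - 1 = 16 * (4 * m ^ 2 + 3 * m) + 8 by
      rw [show (8 * m + 3) ^ 2 = 16 * (4 * m ^ 2 + 3 * m) + 8 + 1 by ring]; omega] at h3
    omega
  have back : ∀ {T : Type} [Group T] (e : K ≃* T), (∀ a : T, a * a = 1 ∨ a * a * a = 1) →
      ∀ z ∈ K, z * z = 1 ∨ z * z * z = 1 := by
    intro T _ e hT z hz
    refine (hT (e ⟨z, hz⟩)).imp (fun h => ?_) (fun h => ?_)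
    · rw [← map_mul, MulEquiv.map_eq_one_iff] at h
      exact congrArg Subtype.val h
    · rw [← map_mul, ← map_mul, MulEquiv.map_eq_one_iff] at h
      exact congrArg Subtype.val h
  rcases psl_subgroup_cases 3 K with ⟨k, hk, hH⟩ | ⟨-, P, hP⟩ | ⟨-, hc⟩
  · rcases hH with ⟨hcyc, hcard⟩ | ⟨⟨e⟩⟩
    · refine Or.inr (Or.inl ?_)
      haveI := hcyc
      exact congrArg Subtype.val ((IsCyclic.commutative (α := K)).is_comm.comm (⟨x, hxK⟩ : K) ⟨y, hyK⟩)
    · have back' : ∀ u v : K, e u * e v = e v * e u → (u : PSL2) * v = v * u := fun u v h => by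
        rw [← map_mul, ← map_mul] at h
        exact congrArg Subtype.val (e.injective h)
      have one : ∀ u : K, e u * e u = 1 → (u : PSL2) * u = 1 := fun u h => by
        rw [← map_mul, MulEquiv.map_eq_one_iff] at h
        exact congrArg Subtype.val h
      have hmul : e (⟨x, hxK⟩ * ⟨y, hyK⟩) = e ⟨x, hxK⟩ * e ⟨y, hyK⟩ := map_mul e _ _
      cases hx : e ⟨x, hxK⟩ with
      | r i =>
        cases hy : e ⟨y, hyK⟩ with
        | r j =>
          exact Or.inr (Or.inl (back' ⟨x, hxK⟩ ⟨y, hyK⟩
            (by rw [hx, hy, DihedralGroup.r_mul_r, DihedralGroup.r_mul_r, add_comm])))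
        | sr j =>
          refine Or.inr (Or.inr (Or.inl ⟨one ⟨y, hyK⟩ (by rw [hy, DihedralGroup.sr_mul_sr, sub_self, DihedralGroup.one_def]),
            one (⟨x, hxK⟩ * ⟨y, hyK⟩) (by rw [hmul, hx, hy, DihedralGroup.r_mul_sr, DihedralGroup.sr_mul_sr, sub_self, DihedralGroup.one_def])⟩))
      | sr i =>
        cases hy : e ⟨y, hyK⟩ with
        | r j =>
          refine Or.inr (Or.inr (Or.inr (Or.inl ⟨one ⟨x, hxK⟩ (by rw [hx, DihedralGroup.sr_mul_sr, sub_self, DihedralGroup.one_def]),
            one (⟨x, hxK⟩ * ⟨y, hyK⟩) (by rw [hmul, hx, hy, DihedralGroup.sr_mul_r, DihedralGroup.sr_mul_sr, sub_self, DihedralGroup.one_def])⟩)))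
        | sr j =>
          exact Or.inr (Or.inr (Or.inr (Or.inr (Or.inl ⟨one ⟨x, hxK⟩ (by rw [hx, DihedralGroup.sr_mul_sr, sub_self, DihedralGroup.one_def]),
            one ⟨y, hyK⟩ (by rw [hy, DihedralGroup.sr_mul_sr, sub_self, DihedralGroup.one_def])⟩))))
  · exact Or.inl ⟨P, hP hxK, hP hyK⟩
  · rcases hc with ⟨⟨e⟩⟩ | ⟨⟨e⟩⟩ | ⟨⟨e⟩⟩ | ⟨K', _, _, m, hK', h3, -, hiso⟩
    · exact Or.inr (Or.inr (Or.inr (Or.inr (Or.inr (back e (by decide +kernel))))))
    · exfalso
      refine h24 ?_
      rw [Nat.card_congr e.toEquiv, Nat.card_perm, Nat.card_fin]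
      decide
    · exact absurd (Cfsg.Lib.Dickson.isSolvable_congr e.symm hsol) not_isSolvable_alternating_five
    · haveI := hK'
      rcases Nat.lt_or_ge (Fintype.card K') 4 with hK3 | hK4
      · have hcard : Fintype.card K' = 3 := by omega
        rcases hiso with ⟨⟨e⟩, -⟩ | ⟨⟨e⟩⟩
        · refine Or.inr (Or.inr (Or.inr (Or.inr (Or.inr (back e fun a => ?_)))))
          obtain ⟨g, rfl⟩ := QuotientGroup.mk_surjective a
          have hs : g.1 0 0 + g.1 1 1 = 0 ∨ (g.1 0 0 + g.1 1 1) * (g.1 0 0 + g.1 1 1) = 1 := by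
            by_cases h0 : g.1 0 0 + g.1 1 1 = 0
            · exact Or.inl h0
            · right
              have := FiniteField.pow_card_sub_one_eq_one _ h0
              rw [hcard] at this
              linear_combination this
          exact hs.imp (fun h => mk_sq_eq_one_of_trace h) (fun h => mk_cube h)
        · exfalso
          refine h24 ?_
          rw [Nat.card_congr e.toEquiv, Cfsg.Lib.Dickson.card_PGL_two_eq, hcard]
          norm_num
      · exfalso
        refine not_isSolvable_psl (K := K') hK4 ?_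
        rcases hiso with ⟨⟨e⟩, -⟩ | ⟨⟨e⟩⟩
        · exact Cfsg.Lib.Dickson.isSolvable_congr e.symm hsol
        · haveI : Group.IsSolvable (Matrix.ProjGenLinGroup (Fin 2) K') := Cfsg.Lib.Dickson.isSolvable_congr e.symm hsol
          exact Group.isSolvable_of_isSolvable_injective
            (f := Matrix.ProjectiveSpecialLinearGroup.toPGL) Matrix.ProjectiveSpecialLinearGroup.toPGL_injective

section circle

variable (hns1 : ¬ IsSquare (-1 : F))
include hns1

omit [Fintype F] in
theorem circle_zero {u v : F} (h : u * u + v * v = 0) : u = 0 ∧ v = 0 := by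
  by_cases hv : v = 0
  · rw [hv, mul_zero, add_zero, mul_self_eq_zero] at h
    exact ⟨h, hv⟩
  · refine absurd ⟨u / v, ?_⟩ hns1
    field_simp
    linear_combination -h

theorem card_circle [DecidableEq F] (hodd : Fintype.card F % 2 = 1) (k : F) :
    Nat.card {w : F × F // w.1 * w.1 + w.2 * w.2 = k} = if k = 0 then 1 else Fintype.card F + 1 := by
  classical
  have h0 : Nat.card {w : F × F // w.1 * w.1 + w.2 * w.2 = 0} = 1 := by
    rw [Nat.card_eq_one_iff_unique]
    refine ⟨⟨fun a b => Subtype.ext (Prod.ext ?_ ?_)⟩, ⟨⟨(0, 0), by simp⟩⟩⟩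
    · rw [(circle_zero hns1 a.2).1, (circle_zero hns1 b.2).1]
    · rw [(circle_zero hns1 a.2).2, (circle_zero hns1 b.2).2]
  have heq : ∀ k : F, k ≠ 0 → Nat.card {w : F × F // w.1 * w.1 + w.2 * w.2 = 1} =
      Nat.card {w : F × F // w.1 * w.1 + w.2 * w.2 = k} := by
    intro k hk
    obtain ⟨a, b, hab⟩ := FiniteField.exists_root_sum_quadratic (f := (Polynomial.X ^ 2 : Polynomial F))
      (g := Polynomial.X ^ 2 - Polynomial.C k) (Polynomial.degree_X_pow 2)
      (Polynomial.degree_X_pow_sub_C (by norm_num) k) hodd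
    simp at hab
    refine Nat.card_congr
      { toFun := fun w => ⟨(a * w.1.1 - b * w.1.2, a * w.1.2 + b * w.1.1), by
          linear_combination k * w.2 + (w.1.1 * w.1.1 + w.1.2 * w.1.2) * hab⟩
        invFun := fun w => ⟨((a * w.1.1 + b * w.1.2) / k, (a * w.1.2 - b * w.1.1) / k), by
          field_simp
          linear_combination k * w.2 + (w.1.1 * w.1.1 + w.1.2 * w.1.2) * hab⟩
        left_inv := fun w => Subtype.ext (Prod.ext
          (by simp only; field_simp; linear_combination w.1.1 * hab)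
          (by simp only; field_simp; linear_combination w.1.2 * hab))
        right_inv := fun w => Subtype.ext (Prod.ext
          (by simp only; field_simp; linear_combination w.1.1 * hab)
          (by simp only; field_simp; linear_combination w.1.2 * hab)) }
  split_ifs with hk
  · rw [hk]; exact h0
  · rw [← heq k hk]
    have htot := Nat.card_congr (Equiv.sigmaFiberEquiv fun w : F × F => w.1 * w.1 + w.2 * w.2)
    rw [Nat.card_sigma, Nat.card_prod, Nat.card_eq_fintype_card (α := F),
      ← Finset.add_sum_erase _ _ (Finset.mem_univ (0 : F)), h0,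
      Finset.sum_congr rfl fun k hk => (heq k (Finset.ne_of_mem_erase hk)).symm, Finset.sum_const,
      Finset.card_erase_of_mem (Finset.mem_univ _), Finset.card_univ, smul_eq_mul] at htot
    obtain ⟨m, hm⟩ : ∃ m, Fintype.card F = m + 1 := ⟨Fintype.card F - 1, by omega⟩
    rw [hm, Nat.add_sub_cancel] at htot
    rw [hm]
    refine Nat.eq_of_mul_eq_mul_left (n := m) (by have := Fintype.one_lt_card (α := F); omega) ?_
    nlinarith

end circle

/-- Let G = PSL_2(F) with F a field of order q = 3^p, p an odd prime, and for x ∈ G call the solubilizer of x the set of y ∈ G such that x and y generate a solvable subgroup. Then the solubilizer of an involution has q(q + 1) elements; that of an element of order 3 has q(q + 5)/2 elements; that of an element of order neither 1 nor 2 dividing q − 1 has q(q − 1) elements; and that of an element of order neither 1 nor 2 dividing q + 1 has q + 1 elements. -/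
theorem result (p : ℕ) (hp : p.Prime) (hodd : Odd p) {F : Type*} [Field F] [Fintype F]
    (hF : Fintype.card F = 3 ^ p) (x : Matrix.ProjectiveSpecialLinearGroup (Fin 2) F) :
    (orderOf x = 2 → Nat.card {y : Matrix.ProjectiveSpecialLinearGroup (Fin 2) F // Group.IsSolvable ↥(Subgroup.closure ({x, y} : Set (Matrix.ProjectiveSpecialLinearGroup (Fin 2) F)))} = 3 ^ p * (3 ^ p + 1)) ∧
    (orderOf x = 3 → 2 * Nat.card {y : Matrix.ProjectiveSpecialLinearGroup (Fin 2) F // Group.IsSolvable ↥(Subgroup.closure ({x, y} : Set (Matrix.ProjectiveSpecialLinearGroup (Fin 2) F)))} = 3 ^ p * (3 ^ p + 5)) ∧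
    (x ≠ 1 → orderOf x ≠ 2 → orderOf x ∣ 3 ^ p - 1 → Nat.card {y : Matrix.ProjectiveSpecialLinearGroup (Fin 2) F // Group.IsSolvable ↥(Subgroup.closure ({x, y} : Set (Matrix.ProjectiveSpecialLinearGroup (Fin 2) F)))} = 3 ^ p * (3 ^ p - 1)) ∧
    (x ≠ 1 → orderOf x ≠ 2 → orderOf x ∣ 3 ^ p + 1 → Nat.card {y : Matrix.ProjectiveSpecialLinearGroup (Fin 2) F // Group.IsSolvable ↥(Subgroup.closure ({x, y} : Set (Matrix.ProjectiveSpecialLinearGroup (Fin 2) F)))} = 3 ^ p + 1) := by
  classical
  haveI : Fact p.Prime := ⟨hp⟩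
  haveI := Fact.mk Nat.prime_three
  obtain ⟨r0, hr0⟩ := CharP.exists F
  haveI := Fact.mk (CharP.char_is_prime F r0)
  obtain ⟨n, hpp, hn⟩ := FiniteField.card F r0
  obtain rfl : r0 = 3 := ((Nat.prime_dvd_prime_iff_eq Nat.prime_three hpp).mp
    (Nat.prime_three.dvd_of_dvd_pow (hn ▸ hF ▸ dvd_pow_self 3 hp.ne_zero))).symm
  have hp2 : p ≠ 2 := by
    rintro rfl
    exact absurd hodd (by decide)
  have h8 : Fintype.card F % 8 = 3 := by
    obtain ⟨j, hj⟩ := hodd
    rw [hF, hj, pow_succ, pow_mul, Nat.mul_mod, Nat.pow_mod]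
    norm_num
  have h3q : 3 ∣ Fintype.card F := hF ▸ dvd_pow_self 3 hp.ne_zero
  have h4 : 4 ≤ Fintype.card F := by
    rw [hF]
    calc 4 ≤ 3 ^ 2 := by norm_num
      _ ≤ 3 ^ p := Nat.pow_le_pow_right (by norm_num) hp.two_le
  have hmin := (Cfsg.Agent.S0810.result hF).mpr (Or.inr (Or.inl ⟨p, hp, hp2, rfl⟩))
  haveI := isSimpleGroup_psl_two (F := F) h4
  have hns := not_isSolvable_psl (K := F) h4
  have h30 : (3 : F) = 0 := three_zero
  have hns1 : ¬ IsSquare (-1 : F) := fun h => (FiniteField.isSquare_neg_one_iff.mp h) (by omega)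
  set q := Fintype.card F with hq
  rw [← hF]
  have hd : Nat.gcd 2 (q - 1) = 2 := Nat.gcd_eq_left (by omega)
  set π := fun g : Matrix.SpecialLinearGroup (Fin 2) F => (QuotientGroup.mk g : Matrix.ProjectiveSpecialLinearGroup (Fin 2) F)
  have hpi : ∀ g h, π (g * h) = π g * π h := fun g h => rfl
  -- transfer the count to matrices
  have hcenter : Nat.card (Subgroup.center (Matrix.SpecialLinearGroup (Fin 2) F)) = 2 := by
    rw [Cfsg.Lib.Linear.card_center_SL, Fintype.card_fin, ← hq, hd]
  have hcount : ∀ (X : Matrix.SpecialLinearGroup (Fin 2) F) (P : Matrix.SpecialLinearGroup (Fin 2) F → Prop),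
      (∀ Y, Subgroup.closure ({π X, π Y} : Set (Matrix.ProjectiveSpecialLinearGroup (Fin 2) F)) ≠ ⊤ ↔ P Y) →
      2 * Nat.card {y : Matrix.ProjectiveSpecialLinearGroup (Fin 2) F // Group.IsSolvable ↥(Subgroup.closure ({π X, y} : Set (Matrix.ProjectiveSpecialLinearGroup (Fin 2) F)))} = Nat.card {Y // P Y} := by
    intro X P h
    refine Eq.trans (congrArg (· * _) hcenter.symm) ?_
    rw [← Nat.card_prod]
    refine ((Nat.card_congr (Equiv.subtypeEquivRight fun Y => ?_)).trans
      (Nat.card_congr (QuotientGroup.preimageMkEquivSubgroupProdSet _ {y : Matrix.ProjectiveSpecialLinearGroup (Fin 2) F |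
        Group.IsSolvable ↥(Subgroup.closure ({π X, y} : Set (Matrix.ProjectiveSpecialLinearGroup (Fin 2) F)))}))).symm
    rw [← h Y, ← closure_ne_top_iff hmin h4]
    rfl
  have hUsol : Group.IsSolvable ((borelSL F).map (QuotientGroup.mk' (Subgroup.center (Matrix.SpecialLinearGroup (Fin 2) F)))) := by
    haveI := isSolvable_borelSL (F := F)
    exact Group.isSolvable_of_surjective ((QuotientGroup.mk' (Subgroup.center (Matrix.SpecialLinearGroup (Fin 2) F))).subgroupMap_surjective (borelSL F))
  have hstd : ∀ Y : Matrix.SpecialLinearGroup (Fin 2) F,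
      π Y ∈ Subgroup.normalizer (((stdSylow (F := F) 3) : Subgroup (Matrix.ProjectiveSpecialLinearGroup (Fin 2) F)) : Set (Matrix.ProjectiveSpecialLinearGroup (Fin 2) F)) → Y.1 1 0 = 0 := by
    intro Y
    rw [normalizer_stdSylow]
    rintro ⟨b, hb, he⟩
    have hb' : b.1 1 0 = 0 := hb
    rcases KleinClasses.mk_eq_iff.mp he with h | h <;> rw [h] <;> simp [hb']
  have hborel : ∀ (P : Sylow 3 (Matrix.ProjectiveSpecialLinearGroup (Fin 2) F)) X Y,
      π X ∈ Subgroup.normalizer ((P : Subgroup (Matrix.ProjectiveSpecialLinearGroup (Fin 2) F)) : Set (Matrix.ProjectiveSpecialLinearGroup (Fin 2) F)) →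
      π Y ∈ Subgroup.normalizer ((P : Subgroup (Matrix.ProjectiveSpecialLinearGroup (Fin 2) F)) : Set (Matrix.ProjectiveSpecialLinearGroup (Fin 2) F)) →
      ∃ g : Matrix.SpecialLinearGroup (Fin 2) F, (g⁻¹ * X * g).1 1 0 = 0 ∧ (g⁻¹ * Y * g).1 1 0 = 0 := by
    intro P X Y hX hY
    obtain ⟨g, hg⟩ := MulAction.exists_smul_eq (Matrix.ProjectiveSpecialLinearGroup (Fin 2) F) (stdSylow (F := F) 3) P
    obtain ⟨g, rfl⟩ := QuotientGroup.mk_surjective g
    subst hg
    refine ⟨g, ?_, ?_⟩ <;> refine hstd _ (Sylow.smul_eq_iff_mem_normalizer.mp ?_)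
    · show ((π g)⁻¹ * π X * π g) • stdSylow (F := F) 3 = stdSylow (F := F) 3
      rw [mul_smul, mul_smul, Sylow.smul_eq_iff_mem_normalizer.mpr hX, inv_smul_smul]
    · show ((π g)⁻¹ * π Y * π g) • stdSylow (F := F) 3 = stdSylow (F := F) 3
      rw [mul_smul, mul_smul, Sylow.smul_eq_iff_mem_normalizer.mpr hY, inv_smul_smul]
  have cC0 : Nat.card {Y : Matrix.SpecialLinearGroup (Fin 2) F // Y.1 1 0 = 0} = q * (q - 1) := card_borelSL
  have hone : ∀ Y, π Y = 1 → Y.1 1 0 = 0 := fun Y h => (one_entries h).2.1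
  let W : Matrix.SpecialLinearGroup (Fin 2) F := ⟨!![0, 1; -1, 0], by simp [Matrix.det_fin_two_of]⟩
  refine ⟨fun hx2 => ?_, fun hx3 => ?_, fun hx1 hxne hxm => ?_, fun hx1 hxne hxp => ?_⟩
  · -- involutions
    obtain ⟨X0, rfl⟩ := QuotientGroup.mk_surjective x
    have hx0 : π X0 ≠ 1 := fun h => by rw [show (QuotientGroup.mk X0 : Matrix.ProjectiveSpecialLinearGroup (Fin 2) F) = 1 from h, orderOf_one] at hx2; omega
    have ht0 : X0.1 0 0 + X0.1 1 1 = 0 := (sq_trace (by
      have h := pow_orderOf_eq_one (QuotientGroup.mk X0 : Matrix.ProjectiveSpecialLinearGroup (Fin 2) F)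
      rw [hx2, pow_two] at h
      exact h)).resolve_right hx0
    obtain ⟨c, hc⟩ := exists_conj_of_trace (g := X0) (h := W) (by rw [ht0]; simp [W]) (by
      rw [ht0]; intro h; exact one_ne_zero (α := F) (by linear_combination -h - h30))
    rw [← card_sol_conj (π c) (π X0), show π c * π X0 * (π c)⁻¹ = π W by rw [← hc]; rfl]
    have hW2 : π W * π W = 1 := mk_sq_eq_one_of_trace (by simp [W])
    have hW1 : π W ≠ 1 := fun h => by have := hone W h; simp [W] at this
    have htr : ∀ Y, (W * Y).1 0 0 + (W * Y).1 1 1 = Y.1 1 0 - Y.1 0 1 := fun Y => by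
      rw [mul_trace]; simp [W]; ring
    refine Nat.eq_of_mul_eq_mul_left (show 0 < 2 by norm_num) ?_
    rw [hcount W (fun Y => (Y.1 0 0 = Y.1 1 1 ∧ Y.1 1 0 + Y.1 0 1 = 0) ∨ Y.1 0 0 + Y.1 1 1 = 0 ∨
      Y.1 1 0 - Y.1 0 1 = 0 ∨ ((Y.1 0 0 + Y.1 1 1) * (Y.1 0 0 + Y.1 1 1) = 1 ∧
        (Y.1 1 0 - Y.1 0 1) * (Y.1 1 0 - Y.1 0 1) = 1)) fun Y => ?_]
    · let R : F × F → Prop := fun w => w.1 * w.1 + w.2 * w.2 - 1 = 0 ∨ w.1 = 0 ∨ w.2 = 0 ∨
        (w.1 * w.1 = 1 ∧ w.2 * w.2 = 1)
      let e : {Y : Matrix.SpecialLinearGroup (Fin 2) F // (Y.1 0 0 = Y.1 1 1 ∧ Y.1 1 0 + Y.1 0 1 = 0) ∨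
          Y.1 0 0 + Y.1 1 1 = 0 ∨ Y.1 1 0 - Y.1 0 1 = 0 ∨ ((Y.1 0 0 + Y.1 1 1) * (Y.1 0 0 + Y.1 1 1) = 1 ∧
          (Y.1 1 0 - Y.1 0 1) * (Y.1 1 0 - Y.1 0 1) = 1)} ≃
          Σ w : {w : F × F // R w}, {u : F × F // u.1 * u.1 + u.2 * u.2 = w.1.1 * w.1.1 + w.1.2 * w.1.2 - 1} :=
        { toFun := fun Y => ⟨⟨(Y.1.1 0 0 + Y.1.1 1 1, Y.1.1 1 0 - Y.1.1 0 1), by
              refine Y.2.imp_left fun h => ?_
              simp only
              linear_combination (Y.1.1 0 0 - Y.1.1 1 1) * h.1 + (Y.1.1 1 0 + Y.1.1 0 1) * h.2 + 4 * det_eq Y.1 + h30⟩,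
            ⟨(Y.1.1 0 0 - Y.1.1 1 1, Y.1.1 0 1 + Y.1.1 1 0), by
              simp only
              linear_combination -4 * det_eq Y.1 - h30⟩⟩
          invFun := fun z => ⟨⟨!![-(z.1.1.1 + z.2.1.1), -(z.2.1.2 - z.1.1.2); -(z.2.1.2 + z.1.1.2), -(z.1.1.1 - z.2.1.1)], by
              rw [Matrix.det_fin_two_of]; linear_combination -z.2.2⟩, by
              rcases z.1.2 with h | h | h | ⟨h, h'⟩
              · obtain ⟨h1, h2⟩ := circle_zero hns1 (z.2.2.trans h)
                left
                simp [h1, h2]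
              · right; left
                simp
                linear_combination -2 * h
              · right; right; left
                simp
                linear_combination -2 * h
              · right; right; right
                constructor <;> simp
                · linear_combination 4 * h + h30
                · linear_combination 4 * h' + h30⟩
          left_inv := fun Y => Subtype.ext (Subtype.ext (by
            ext i j
            fin_cases i <;> fin_cases j <;> simp
            · linear_combination -Y.1.1 0 0 * h30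
            · linear_combination -Y.1.1 0 1 * h30
            · linear_combination -Y.1.1 1 0 * h30
            · linear_combination -Y.1.1 1 1 * h30))
          right_inv := fun z => by
            refine Sigma.subtype_ext (Subtype.ext (Prod.ext ?_ ?_)) (Prod.ext ?_ ?_) <;> simp
            · linear_combination -z.1.1.1 * h30
            · linear_combination -z.1.1.2 * h30
            · linear_combination -z.2.1.1 * h30
            · linear_combination -z.2.1.2 * h30 }
      rw [Nat.card_congr e, Nat.card_sigma]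
      simp only [card_circle hns1 (by omega : Fintype.card F % 2 = 1)]
      rw [← Finset.sum_subtype ((Finset.univ : Finset (F × F)).filter R) (fun w => by simp)
        (fun w => if w.1 * w.1 + w.2 * w.2 - 1 = 0 then 1 else q + 1)]
      rw [Finset.sum_ite, Finset.sum_const, Finset.sum_const, smul_eq_mul, smul_eq_mul, Finset.filter_filter,
        Finset.filter_filter]
      have hK0 : ((Finset.univ : Finset (F × F)).filter fun w => R w ∧ w.1 * w.1 + w.2 * w.2 - 1 = 0).card = q + 1 := by
        have h := card_circle hns1 (by omega : Fintype.card F % 2 = 1) 1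
        rw [if_neg one_ne_zero, Nat.card_eq_fintype_card, Fintype.card_subtype] at h
        rw [hq, ← h]
        congr 1
        ext w
        simp only [Finset.mem_filter, Finset.mem_univ, true_and]
        exact ⟨fun h => sub_eq_zero.mp h.2, fun h => ⟨Or.inl (sub_eq_zero.mpr h), sub_eq_zero.mpr h⟩⟩
      have h11 : (1 : F) ≠ -1 := fun h => two_ne (F := F) (by linear_combination h)
      have hR' : ((Finset.univ : Finset (F × F)).filter fun w => R w ∧ ¬ w.1 * w.1 + w.2 * w.2 - 1 = 0) =
          ({0} ×ˢ ({1, -1} : Finset F)ᶜ) ∪ ((({0, 1, -1} : Finset F)ᶜ ×ˢ {0}) ∪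
            (({1, -1} : Finset F) ×ˢ ({1, -1} : Finset F))) := by
        ext ⟨s, t⟩
        simp only [Finset.mem_filter, Finset.mem_univ, true_and, Finset.mem_union, Finset.mem_product,
          Finset.mem_singleton, Finset.mem_compl, Finset.mem_insert, R, ← mul_self_eq_one_iff]
        constructor
        · rintro ⟨h | h | h | h, hk⟩
          · exact absurd h hk
          · exact Or.inl ⟨h, fun h' => hk (by rw [h]; linear_combination h')⟩
          · by_cases hs : s = 0
            · exact Or.inl ⟨hs, fun h' => hk (by rw [hs]; linear_combination h')⟩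
            · exact Or.inr (Or.inl ⟨fun h' => h'.elim hs fun h' => hk (by rw [h]; linear_combination h'), h⟩)
          · exact Or.inr (Or.inr h)
        · rintro (⟨h, h'⟩ | ⟨h', h⟩ | ⟨h, h'⟩)
          · exact ⟨Or.inr (Or.inl h), fun hk => h' (by rw [h] at hk; linear_combination hk)⟩
          · exact ⟨Or.inr (Or.inr (Or.inl h)), fun hk => h' (Or.inr (by rw [h] at hk; linear_combination hk))⟩
          · exact ⟨Or.inr (Or.inr (Or.inr ⟨h, h'⟩)), fun hk => one_ne_zero (α := F) (by linear_combination hk - h - h')⟩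
      rw [hK0, hR', Finset.card_union_of_disjoint, Finset.card_union_of_disjoint, Finset.card_product,
        Finset.card_product, Finset.card_product, Finset.card_singleton, Finset.card_compl, Finset.card_compl,
        Finset.card_pair h11, Finset.card_insert_of_notMem (by simp), Finset.card_pair h11, ← hq]
      · obtain ⟨m, hm⟩ : ∃ m, q = m + 3 := ⟨q - 3, by omega⟩
        rw [hm, show m + 3 - (2 + 1) = m by omega, show m + 3 - 2 = m + 1 by omega]
        ring
      · rw [Finset.disjoint_left]
        rintro ⟨s, t⟩ h h'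
        simp only [Finset.mem_product, Finset.mem_singleton, Finset.mem_compl, Finset.mem_insert,
          not_or] at h h'
        exact h'.1.elim h.1.2.1 h.1.2.2
      · rw [Finset.disjoint_left]
        rintro ⟨s, t⟩ h h'
        simp only [Finset.mem_product, Finset.mem_singleton, Finset.mem_compl, Finset.mem_insert, Finset.mem_union,
          not_or] at h h'
        rcases h' with h' | ⟨h' | h', -⟩
        · exact h'.1.1 h.1
        · exact zero_ne_one (α := F) (h.1.symm.trans h')
        · exact neg_ne_zero.mpr (one_ne_zero (α := F)) (h'.symm.trans h.1)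
    constructor
    · intro hne
      rcases proper_cases hmin h4 h8 hne with ⟨P, hPx, -⟩ | hcm | ⟨hy, -⟩ | ⟨-, hxy⟩ | ⟨-, hy⟩ | hall
      · exfalso
        have h1 := mul_dvd_mul_left 2 (Subgroup.orderOf_dvd_natCard _ hPx)
        rw [orderOf_eq_prime (p := 2) (by rw [pow_two]; exact hW2) hW1] at h1
        have h2 := card_normalizer_sylow_psl 3 P
        rw [← hq, hd] at h2
        rw [h2] at h1
        have h3 : 4 ∣ q - 1 := (Nat.Coprime.pow_left 2 ((Nat.Prime.coprime_iff_not_dvd Nat.prime_two).mpr (by omega)) :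
          Nat.Coprime (2 ^ 2) q).dvd_of_dvd_mul_left h1
        omega
      · rcases KleinClasses.mk_eq_iff.mp (show π (W * Y) = π (Y * W) from hcm) with h | h
        · left
          rw [Matrix.SpecialLinearGroup.coe_mul, Matrix.SpecialLinearGroup.coe_mul] at h
          have e0 := congrFun (congrFun h 0) 0
          have e1 := congrFun (congrFun h 0) 1
          simp [W, Matrix.vecMul, dotProduct, Matrix.mul_apply, Fin.sum_univ_two] at e0 e1
          exact ⟨e1, by linear_combination -e0⟩
        · right; left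
          rw [Matrix.SpecialLinearGroup.coe_mul, Matrix.SpecialLinearGroup.coe_mul] at h
          have e1 := congrFun (congrFun h 0) 1
          simp [W, Matrix.vecMul, dotProduct, Matrix.mul_apply, Fin.sum_univ_two] at e1
          linear_combination e1
      · rcases sq_trace hy with h | h
        · exact Or.inr (Or.inl h)
        · obtain ⟨h1, h2, h3⟩ := one_entries h
          exact Or.inl ⟨h3.symm, by rw [h1, h2, add_zero]⟩
      · rcases sq_trace (g := W * Y) hxy with h | h
        · exact Or.inr (Or.inr (Or.inl ((htr Y).symm.trans h)))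
        · obtain ⟨h1, h2, h3⟩ := one_entries h
          rw [Matrix.SpecialLinearGroup.coe_mul] at h1 h2
          simp [W, Matrix.vecMul, dotProduct, Matrix.mul_apply, Fin.sum_univ_two] at h1 h2
          exact Or.inr (Or.inl (by linear_combination h1 + h2))
      · rcases sq_trace hy with h | h
        · exact Or.inr (Or.inl h)
        · obtain ⟨h1, h2, h3⟩ := one_entries h
          exact Or.inl ⟨h3.symm, by rw [h1, h2, add_zero]⟩
      · rcases small_trace (hall _ (Subgroup.subset_closure (Or.inr rfl))) with h | h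
        · exact Or.inr (Or.inl h)
        · rcases small_trace (g := W * Y) (hall (π W * π Y) (mul_mem (Subgroup.subset_closure (Or.inl rfl))
            (Subgroup.subset_closure (Or.inr rfl)))) with h' | h'
          · exact Or.inr (Or.inr (Or.inl ((htr Y).symm.trans h')))
          · exact Or.inr (Or.inr (Or.inr ⟨h, by rw [← htr Y]; exact h'⟩))
    · intro hY
      rcases hY with ⟨hu, hv⟩ | hs | ht | ⟨hs, ht⟩
      · refine closure_ne_top_of_normalize hns hW1 (Or.inl (mul_inv_cancel_right _ _)) (Or.inl ?_)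
        rw [mul_inv_eq_iff_eq_mul, ← hpi, ← hpi]
        refine congrArg π (Subtype.ext ?_)
        rw [Matrix.SpecialLinearGroup.coe_mul, Matrix.SpecialLinearGroup.coe_mul]
        ext i j
        fin_cases i <;> fin_cases j <;> simp [W, Matrix.vecMul, dotProduct, Matrix.mul_apply, Fin.sum_univ_two, hu]
        · linear_combination -hv
        · linear_combination hv
      · exact closure_involutions_ne_top hns hW2 (mk_sq_eq_one_of_trace hs)
      · refine closure_ne_top_mono (Subgroup.subset_closure (Or.inl rfl)) ?_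
          (closure_involutions_ne_top hns hW2 (mk_sq_eq_one_of_trace (A := W * Y) ((htr Y).trans ht)))
        show π Y ∈ _
        rw [show π Y = (π W)⁻¹ * π (W * Y) from (inv_mul_cancel_left (π W) (π Y)).symm]
        exact mul_mem (inv_mem (Subgroup.subset_closure (Or.inl rfl))) (Subgroup.subset_closure (Or.inr rfl))
      · exact closure_ne_top_of_tetra hns hW2 hW1 (mk_cube hs) (mk_cube (g := W * Y) (by rw [htr Y]; exact ht))
  · -- elements of order three
    obtain ⟨P, hP⟩ := (IsPGroup.of_card (p := 3) (n := 1) (by rw [Nat.card_zpowers, hx3, pow_one]) :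
      IsPGroup 3 (Subgroup.zpowers x)).exists_le_sylow
    obtain ⟨g, hg⟩ := MulAction.exists_smul_eq (Matrix.ProjectiveSpecialLinearGroup (Fin 2) F) P (stdSylow (F := F) 3)
    have hxs : g * x * g⁻¹ ∈ ((stdSylow (F := F) 3) : Subgroup (Matrix.ProjectiveSpecialLinearGroup (Fin 2) F)) := by
      rw [← hg, Sylow.coe_subgroup_smul]
      exact ⟨x, hP (Subgroup.mem_zpowers x), by simp⟩
    rw [← card_sol_conj g x]
    have hx' : g * x * g⁻¹ ≠ 1 := fun h => by
      rw [conj_eq_one_iff] at h; rw [h, orderOf_one] at hx3; omega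
    have hxs' := hxs
    rw [stdSylow_coe] at hxs'
    obtain ⟨X, hX, hXe⟩ := hxs'
    obtain ⟨X00, X11, X10⟩ := Cfsg.Lib.Linear.Two.mem_UT.mp hX
    change π X = _ at hXe
    rw [← hXe] at hx' ⊢
    have hb : X.1 0 1 ≠ 0 := by
      intro h
      refine hx' ?_
      rw [show X = 1 from Subtype.ext (by ext i j; fin_cases i <;> fin_cases j <;> simp [X00, X11, X10, h])]
      rfl
    have hX3 : π X * π X * π X = 1 := mk_cube (by rw [X00, X11]; linear_combination h30)
    have htr : ∀ Y, (X * Y).1 0 0 + (X * Y).1 1 1 = Y.1 0 0 + Y.1 1 1 + X.1 0 1 * Y.1 1 0 := fun Y => by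
      rw [mul_trace, X00, X11, X10]; ring
    set β := X.1 0 1 with hβ
    rw [hcount X (fun Y => Y.1 1 0 = 0 ∨ (Y.1 1 0 ≠ 0 ∧ (β * Y.1 1 0) * (β * Y.1 1 0) = 1 ∧
      (Y.1 0 0 + Y.1 1 1 = 0 ∨ (Y.1 0 0 + Y.1 1 1) * (Y.1 0 0 + Y.1 1 1) = 1))) fun Y => ?_]
    · rw [Nat.card_congr (subtypeOrEquiv _ _ (Pi.disjoint_iff.mpr fun Y => Prop.disjoint_iff.mpr (not_and.mpr fun h h' => h'.1 h))),
        Nat.card_sum, cC0]
      let f : {w : F // w * w = 1} × {s : F // s = 0 ∨ s * s = 1} × F → {Y : Matrix.SpecialLinearGroup (Fin 2) F //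
          Y.1 1 0 ≠ 0 ∧ (β * Y.1 1 0) * (β * Y.1 1 0) = 1 ∧
            (Y.1 0 0 + Y.1 1 1 = 0 ∨ (Y.1 0 0 + Y.1 1 1) * (Y.1 0 0 + Y.1 1 1) = 1)} := fun z =>
        ⟨⟨!![z.2.2, (z.2.2 * (z.2.1.1 - z.2.2) - 1) / (z.1.1 / β); z.1.1 / β, z.2.1.1 - z.2.2], by
          have := left_ne_zero_of_mul_eq_one z.1.2
          rw [Matrix.det_fin_two_of]; field_simp; ring⟩, by
          have := left_ne_zero_of_mul_eq_one z.1.2
          refine ⟨by simp [this, hb], ?_, ?_⟩
          · simp [mul_div_cancel₀ _ hb, z.1.2]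
          · simpa using z.2.1.2⟩
      have hf : Function.Bijective f := by
        constructor
        · rintro ⟨w, s, a⟩ ⟨w', s', a'⟩ h
          have e : ∀ i j, (f (w, s, a)).1.1 i j = (f (w', s', a')).1.1 i j := fun i j => by rw [h]
          have h00 := e 0 0; have h10 := e 1 0; have h11 := e 1 1
          simp [f, hb] at h00 h10 h11
          subst h00
          obtain rfl : w = w' := Subtype.ext h10
          obtain rfl : s = s' := Subtype.ext (by linear_combination h11)
          rfl
        · rintro ⟨Y, hc, hw, hs⟩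
          refine ⟨(⟨β * Y.1 1 0, hw⟩, ⟨Y.1 0 0 + Y.1 1 1, hs⟩, Y.1 0 0), Subtype.ext (Subtype.ext ?_)⟩
          ext i j
          fin_cases i <;> fin_cases j <;> simp [f, hb]
          field_simp
          linear_combination det_eq Y
      have hw2 : Nat.card {w : F // w * w = 1} = 2 := by
        rw [Nat.card_eq_fintype_card, Fintype.card_subtype,
          show (Finset.univ.filter fun w : F => w * w = 1) = {1, -1} by ext w; simp [mul_self_eq_one_iff]]
        exact Finset.card_pair fun h => two_ne (F := F) (by linear_combination h)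
      have hs3 : Nat.card {s : F // s = 0 ∨ s * s = 1} = 3 := by
        rw [Nat.card_eq_fintype_card, Fintype.card_subtype,
          show (Finset.univ.filter fun s : F => s = 0 ∨ s * s = 1) = {0, 1, -1} by ext s; simp [mul_self_eq_one_iff]]
        rw [Finset.card_insert_of_notMem (by simp), Finset.card_pair fun h => two_ne (F := F) (by linear_combination h)]
      rw [← Nat.card_eq_of_bijective f hf, Nat.card_prod, Nat.card_prod, hw2, hs3, Nat.card_eq_fintype_card, ← hq]
      obtain ⟨m, hm⟩ : ∃ m, q = m + 1 := ⟨q - 1, by omega⟩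
      rw [hm, Nat.add_sub_cancel]
      ring
    constructor
    · intro hne
      by_cases hc : Y.1 1 0 = 0
      · exact Or.inl hc
      refine Or.inr ⟨hc, ?_⟩
      have hXY10 : (X * Y).1 1 0 = Y.1 1 0 := by
        show (X.1 * Y.1) 1 0 = _
        simp [Matrix.mul_apply, Fin.sum_univ_two, X11, X10]
      have hx2' : ¬ π X * π X = 1 := fun h => hx' (by rwa [h, one_mul] at hX3)
      rcases proper_cases hmin h4 h8 hne with ⟨P, hPx, hPy⟩ | hcm | ⟨hy, hxy⟩ | ⟨hx, -⟩ | ⟨hx, -⟩ | hall
      · exfalso
        obtain ⟨g, hgX, hgY⟩ := hborel P X Y hPx hPy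
        rw [conj_corner, X00, X11, X10, ← hβ] at hgX
        rw [conj_corner] at hgY
        have hg10 : g.1 1 0 = 0 := mul_self_eq_zero.mp ((mul_eq_zero.mp (by linear_combination -hgX :
          g.1 1 0 * g.1 1 0 * β = 0)).resolve_right hb)
        have hg00 : g.1 0 0 ≠ 0 := fun h => by
          have := det_eq g; rw [h, hg10] at this; simp at this
        rw [hg10] at hgY
        exact mul_ne_zero (mul_ne_zero hg00 hg00) hc (by linear_combination hgY)
      · exfalso
        rcases KleinClasses.mk_eq_iff.mp (show π (X * Y) = π (Y * X) from hcm) with h | h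
        · have e := congrFun (congrFun h 0) 0
          simp [Matrix.mul_apply, Fin.sum_univ_two, X00, X10, ← hβ] at e
          tauto
        · have e := congrFun (congrFun h 1) 0
          simp [Matrix.mul_apply, Fin.sum_univ_two, X00, X11, X10] at e
          exact hc ((mul_eq_zero.mp (show (2 : F) * Y.1 1 0 = 0 by linear_combination e)).resolve_left two_ne)
      · exfalso
        have h1 := (sq_trace hy).resolve_right fun h => hc (hone Y h)
        have h2 := (sq_trace (g := X * Y) hxy).resolve_right fun h => hc (hXY10 ▸ hone _ h)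
        rw [htr, h1, zero_add] at h2
        exact mul_ne_zero hb hc h2
      · exact absurd hx hx2'
      · exact absurd hx hx2'
      · have h1 := small_trace (hall _ (Subgroup.subset_closure (Or.inr rfl)))
        have h2 := small_trace (g := X * Y) (hall (π X * π Y) (mul_mem (Subgroup.subset_closure (Or.inl rfl))
            (Subgroup.subset_closure (Or.inr rfl))))
        rw [htr] at h2
        refine ⟨?_, h1⟩
        have hbc := mul_ne_zero hb hc
        simp only [mul_self_eq_one_iff] at h1 h2 ⊢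
        rcases h1 with h1 | h1 | h1 <;> rw [h1] at h2 <;> rcases h2 with h2 | h2 | h2 <;>
          first
          | exact absurd (by linear_combination h2) hbc
          | exact Or.inl (by linear_combination h2)
          | exact Or.inl (by linear_combination h2 + h30)
          | exact Or.inl (by linear_combination h2 - h30)
          | exact Or.inr (by linear_combination h2)
          | exact Or.inr (by linear_combination h2 + h30)
          | exact Or.inr (by linear_combination h2 - h30)
    · intro hY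
      rcases hY with hc | ⟨hc, he, hs⟩
      · exact closure_ne_top_of_le h4 hUsol ⟨X, X10, rfl⟩ ⟨Y, hc, rfl⟩
      have hx1 : π X ∈ Subgroup.closure ({π X, π Y} : Set (Matrix.ProjectiveSpecialLinearGroup (Fin 2) F)) :=
        Subgroup.subset_closure (Or.inl rfl)
      have go : ∀ V : Matrix.SpecialLinearGroup (Fin 2) F, V.1 0 0 + V.1 1 1 = 0 → V.1 1 0 = Y.1 1 0 →
          ((V * X).1 0 0 + (V * X).1 1 1) * ((V * X).1 0 0 + (V * X).1 1 1) = 1 →
          π Y ∈ Subgroup.closure ({π V, π X} : Set (Matrix.ProjectiveSpecialLinearGroup (Fin 2) F)) →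
          Subgroup.closure ({π X, π Y} : Set (Matrix.ProjectiveSpecialLinearGroup (Fin 2) F)) ≠ ⊤ :=
        fun V hV hV10 hVX hmem => closure_ne_top_mono (Subgroup.subset_closure (Or.inr rfl)) hmem
          (closure_ne_top_of_tetra hns (mk_sq_eq_one_of_trace hV) (fun h => hc (hV10 ▸ hone V h)) hX3 (mk_cube hVX))
      have hmV : ∀ V, π V ∈ Subgroup.closure ({π V, π X} : Set (Matrix.ProjectiveSpecialLinearGroup (Fin 2) F)) :=
        fun V => Subgroup.subset_closure (Or.inl rfl)
      have hmX : ∀ V, π X ∈ Subgroup.closure ({π V, π X} : Set (Matrix.ProjectiveSpecialLinearGroup (Fin 2) F)) :=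
        fun V => Subgroup.subset_closure (Or.inr rfl)
      rcases hs with hs | hs
      · refine go Y hs rfl ?_ (hmV Y)
        rw [mul_trace, X00, X11, X10, ← hβ]
        linear_combination he + (Y.1 0 0 + Y.1 1 1 + 2 * β * Y.1 1 0) * hs
      rcases mul_self_eq_mul_self_iff.mp (hs.trans he.symm) with hs' | hs'
      · refine go (X⁻¹ * Y) ?_ ?_ ?_ ?_
        · rw [mul_trace]; simp [Matrix.adjugate_fin_two, X00, X11, X10, ← hβ]; linear_combination hs'
        · show (Matrix.adjugate X.1 * Y.1) 1 0 = _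
          simp [Matrix.adjugate_fin_two, Matrix.mul_apply, Fin.sum_univ_two, X00, X10]
        · rw [mul_trace]
          simp [Matrix.mul_apply, Matrix.adjugate_fin_two, Fin.sum_univ_two, Matrix.vecMul, dotProduct,
            X00, X11, X10, ← hβ]
          linear_combination hs
        · rw [show π Y = π X * π (X⁻¹ * Y) from (mul_inv_cancel_left (π X) (π Y)).symm]
          exact mul_mem (hmX _) (hmV _)
      · refine go (X * Y) ?_ ?_ ?_ ?_
        · rw [htr]; linear_combination hs'
        · show (X.1 * Y.1) 1 0 = _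
          simp [Matrix.mul_apply, Fin.sum_univ_two, X11, X10]
        · rw [mul_trace]
          simp [Matrix.mul_apply, Fin.sum_univ_two, X00, X11, X10, ← hβ]
          linear_combination he + (Y.1 0 0 + Y.1 1 1 + 3 * β * Y.1 1 0) * hs'
        · rw [show π Y = (π X)⁻¹ * π (X * Y) from (inv_mul_cancel_left (π X) (π Y)).symm]
          exact mul_mem (inv_mem (hmX _)) (hmV _)
  · -- split torus
    obtain ⟨X0, rfl⟩ := QuotientGroup.mk_surjective x
    have hsq : (QuotientGroup.mk X0 : Matrix.ProjectiveSpecialLinearGroup (Fin 2) F) ^ 2 ≠ 1 := fun h => by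
      rcases (Nat.dvd_prime Nat.prime_two).mp (orderOf_dvd_of_pow_eq_one h) with h' | h'
      · exact hx1 (orderOf_eq_one_iff.mp h')
      · exact hxne h'
    have hcube : ¬ π X0 * π X0 * π X0 = 1 := fun h => by
      rcases (Nat.dvd_prime Nat.prime_three).mp (orderOf_dvd_of_pow_eq_one (x := π X0) (n := 3)
        (by rw [pow_succ, pow_two]; exact h)) with h' | h'
      · exact hx1 (orderOf_eq_one_iff.mp h')
      · have h'' : 3 ∣ q - 1 := h' ▸ hxm
        omega
    set s := X0.1 0 0 + X0.1 1 1 with hsdef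
    have hs4 : s ^ 2 ≠ 4 := fun h => hcube (mk_cube (by linear_combination h + h30))
    obtain ⟨r, hr⟩ : ∃ r : F, r ^ 2 - s * r + 1 = 0 := by
      set K := AlgebraicClosure F
      set t := algebraMap F K s with ht
      obtain ⟨r, hr⟩ := IsAlgClosed.exists_root
        (Polynomial.X ^ 2 - Polynomial.C t * Polynomial.X + Polynomial.C 1 : Polynomial K) (by
          have : (Polynomial.X ^ 2 - Polynomial.C t * Polynomial.X + Polynomial.C 1 :
              Polynomial K).degree = 2 := by compute_degree!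
          rw [this]; norm_num)
      simp only [Polynomial.IsRoot, Polynomial.eval_add, Polynomial.eval_sub, Polynomial.eval_pow,
        Polynomial.eval_X, Polynomial.eval_mul, Polynomial.eval_C] at hr
      have hr' : r ^ 2 = t * r - 1 := by linear_combination hr
      have hr0 : r ≠ 0 := by rintro rfl; simp at hr'
      haveI : CharP K 3 := charP_of_injective_algebraMap (algebraMap F K).injective 3
      have hne : r * r ≠ 1 := by
        intro h
        have ht2 : t = 2 * r := mul_right_cancel₀ hr0 (by linear_combination -hr' - h)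
        refine hs4 ((algebraMap F K).injective ?_)
        rw [map_pow, map_ofNat, ← ht, ht2]
        linear_combination 4 * h
      have hfrob : (r ^ q) ^ 2 = t * r ^ q - 1 := by
        have htq : t ^ q = t := by rw [ht, ← map_pow, FiniteField.pow_card]
        rw [← pow_mul, mul_comm, pow_mul, hr', hn, sub_pow_char_pow, mul_pow, one_pow, ← hn, htq]
      have hsplit : (r ^ q - r) * (r ^ q - r⁻¹) = 0 := by
        apply mul_left_cancel₀ hr0
        rw [mul_zero]
        linear_combination r * hfrob - r ^ q * hr' + (r - r ^ q) * mul_inv_cancel₀ hr0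
      rcases mul_eq_zero.mp hsplit with h | h
      · obtain ⟨a, ha⟩ := Cfsg.Lib.Spec.mem_range_algebraMap_of_pow_card (F := F) (sub_eq_zero.mp h)
        refine ⟨a, (algebraMap F K).injective ?_⟩
        rw [map_add, map_sub, map_mul, map_pow, map_one, map_zero, ha]
        exact hr
      · exfalso
        have h1 : orderOf (π X0) ∣ q + 1 := orderOf_dvd_of_pow_eq_one (by
          rw [Cfsg.Lib.Spec.mk_pow_eq_one_iff]
          refine Cfsg.Lib.Spec.pow_scalar_of_root X0 hr' hne ?_
          rw [pow_succ r, sub_eq_zero.mp h, inv_mul_cancel₀ hr0, one_pow])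
        have h2 := Nat.dvd_sub h1 hxm
        rw [show q + 1 - (q - 1) = 2 by omega] at h2
        exact hsq (orderOf_dvd_iff_pow_eq_one.mp h2)
    have hr0 : r ≠ 0 := by rintro rfl; simp at hr
    have hrr : r * r ≠ 1 := fun h => hs4 (by
      have hs2 : s = 2 * r := mul_right_cancel₀ hr0 (by linear_combination -hr - h)
      rw [hs2]; linear_combination 4 * h)
    have hrn : r * r ≠ -1 := fun h => hns1 ⟨r, h.symm⟩
    let X : Matrix.SpecialLinearGroup (Fin 2) F := ⟨!![r, 0; 0, r⁻¹], by simp [Matrix.det_fin_two_of, hr0]⟩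
    have hXt : X.1 0 0 + X.1 1 1 = s := by
      refine mul_right_cancel₀ hr0 ?_
      show (r + r⁻¹) * r = s * r
      linear_combination hr + mul_inv_cancel₀ hr0
    obtain ⟨c, hc⟩ := exists_conj_of_trace (g := X0) (h := X) (by rw [hXt]) (by rw [← hsdef]; exact hs4)
    rw [← card_sol_conj (π c) (π X0), show π c * π X0 * (π c)⁻¹ = π X by rw [← hc]; rfl]
    have hX3 : ¬ π X * π X * π X = 1 := fun h => by
      have := cube_trace h
      rw [hXt] at this
      exact hs4 (by linear_combination this - h30)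
    have hX2 : ¬ π X * π X = 1 := fun h => by
      rcases sq_trace h with h' | h'
      · rw [hXt] at h'
        exact hsq (by rw [pow_two]; exact mk_sq_eq_one_of_trace h')
      · exact hX3 (by rw [show π X = 1 from h', one_mul, one_mul])
    refine Nat.eq_of_mul_eq_mul_left (show 0 < 2 by norm_num) ?_
    rw [hcount X (fun Y => Y.1 1 0 = 0 ∨ (Y.1 1 0 ≠ 0 ∧ (Y.1 0 1 = 0 ∨ (Y.1 0 1 ≠ 0 ∧ Y.1 0 0 = 0 ∧ Y.1 1 1 = 0)))) fun Y => ?_]
    · rw [Nat.card_congr (subtypeOrEquiv _ _ (Pi.disjoint_iff.mpr fun Y => Prop.disjoint_iff.mpr (not_and.mpr fun h h' => h'.1 h))),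
        Nat.card_sum, cC0]
      let f : (Fˣ × Fˣ) ⊕ Fˣ → {Y : Matrix.SpecialLinearGroup (Fin 2) F //
          Y.1 1 0 ≠ 0 ∧ (Y.1 0 1 = 0 ∨ (Y.1 0 1 ≠ 0 ∧ Y.1 0 0 = 0 ∧ Y.1 1 1 = 0))} := fun z => z.elim
        (fun (z : Fˣ × Fˣ) => ⟨⟨!![(z.1 : F), 0; (z.2 : F), (z.1 : F)⁻¹], by simp [Matrix.det_fin_two_of]⟩, by simp, Or.inl (by simp)⟩)
        (fun (z : Fˣ) => ⟨⟨!![0, -(z : F)⁻¹; (z : F), 0], by simp [Matrix.det_fin_two_of]⟩, by simp, Or.inr (by simp)⟩)
      have hf : Function.Bijective f := by
        constructor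
        · intro u v h
          have e : ∀ i j, (f u).1.1 i j = (f v).1.1 i j := fun i j => by rw [h]
          rcases u with ⟨a, c⟩ | c <;> rcases v with ⟨a', c'⟩ | c'
          · have h1 := e 0 0; have h2 := e 1 0
            simp [f] at h1 h2
            rw [Units.ext h1, Units.ext h2]
          · have h1 := e 0 0; simp [f] at h1
          · have h1 := e 0 0; simp [f] at h1; exact absurd h1.symm a'.ne_zero
          · have h2 := e 1 0; simp [f] at h2; rw [Units.ext h2]
        · rintro ⟨Y, hc, hY⟩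
          rcases hY with hb | ⟨-, ha, hd'⟩
          · have had := det_eq Y
            rw [hb, zero_mul, sub_zero] at had
            refine ⟨Sum.inl (Units.mk0 _ (left_ne_zero_of_mul_eq_one had), Units.mk0 _ hc), Subtype.ext (Subtype.ext ?_)⟩
            ext i j
            fin_cases i <;> fin_cases j <;> simp [f, hb]
            exact inv_eq_of_mul_eq_one_right had
          · have hbc := det_eq Y
            rw [ha, hd', mul_zero, zero_sub] at hbc
            refine ⟨Sum.inr (Units.mk0 _ hc), Subtype.ext (Subtype.ext ?_)⟩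
            ext i j
            fin_cases i <;> fin_cases j <;> simp [f, ha, hd']
            field_simp
            linear_combination hbc
      rw [← Nat.card_eq_of_bijective f hf, Nat.card_sum, Nat.card_prod, Nat.card_eq_fintype_card (α := Fˣ),
        Fintype.card_units, ← hq]
      obtain ⟨m, hm⟩ : ∃ m, q = m + 1 := ⟨q - 1, by omega⟩
      rw [hm, Nat.add_sub_cancel]
      ring
    constructor
    · intro hne
      by_cases hc : Y.1 1 0 = 0
      · exact Or.inl hc
      refine Or.inr ⟨hc, ?_⟩
      rcases proper_cases hmin h4 h8 hne with ⟨P, hPx, hPy⟩ | hcm | ⟨hy, hxy⟩ | ⟨hx, -⟩ | ⟨hx, -⟩ | hall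
      · left
        obtain ⟨g, hgX, hgY⟩ := hborel P X Y hPx hPy
        rw [conj_corner] at hgX hgY
        simp [X] at hgX
        have h00 : g.1 0 0 * g.1 1 0 = 0 := by
          refine mul_eq_zero.mpr (hgX.resolve_right fun h => hrr ?_)
          nth_rewrite 1 [← sub_eq_zero.mp h]
          exact inv_mul_cancel₀ hr0
        rcases mul_eq_zero.mp h00 with h | h
        · have hg10 : g.1 1 0 ≠ 0 := fun h' => by
            have := det_eq g; rw [h, h'] at this; simp at this
          rw [h] at hgY
          exact (mul_eq_zero.mp (by linear_combination -hgY : g.1 1 0 * g.1 1 0 * Y.1 0 1 = 0)).resolve_left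
            (mul_ne_zero hg10 hg10)
        · have hg00 : g.1 0 0 ≠ 0 := fun h' => by
            have := det_eq g; rw [h, h'] at this; simp at this
          rw [h] at hgY
          exact absurd (by linear_combination hgY) (mul_ne_zero (mul_ne_zero hg00 hg00) hc)
      · exfalso
        rcases KleinClasses.mk_eq_iff.mp (show π (X * Y) = π (Y * X) from hcm) with h | h <;>
        · rw [Matrix.SpecialLinearGroup.coe_mul, Matrix.SpecialLinearGroup.coe_mul] at h
          have e := congrFun (congrFun h 1) 0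
          simp [X, Matrix.vecMul, dotProduct, Matrix.mul_apply, Fin.sum_univ_two] at e
          first
          | exact hrr (mul_left_cancel₀ hc (by linear_combination r * e + Y.1 1 0 * mul_inv_cancel₀ hr0))
          | exact hrn (mul_left_cancel₀ hc (by linear_combination r * e - Y.1 1 0 * mul_inv_cancel₀ hr0))
      · have h1 := (sq_trace hy).resolve_right fun h => hc (hone Y h)
        have h2 := (sq_trace (g := X * Y) hxy).resolve_right fun h => hc (by
          have := hone _ h
          change (X.1 * Y.1) 1 0 = 0 at this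
          simpa [X, Matrix.mul_apply, Fin.sum_univ_two, hr0] using this)
        rw [mul_trace] at h2
        simp [X] at h2
        have ha : Y.1 0 0 = 0 := by
          have : Y.1 0 0 * (r - r⁻¹) = 0 := by linear_combination h2 - r⁻¹ * h1
          refine (mul_eq_zero.mp this).resolve_right fun h => hrr ?_
          nth_rewrite 2 [sub_eq_zero.mp h]
          exact mul_inv_cancel₀ hr0
        by_cases hb : Y.1 0 1 = 0
        · exact Or.inl hb
        · exact Or.inr ⟨hb, ha, by rw [ha, zero_add] at h1; exact h1⟩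
      · exact absurd hx hX2
      · exact absurd hx hX2
      · exact absurd (hall _ (Subgroup.subset_closure (Or.inl rfl))) (not_or.mpr ⟨hX2, hX3⟩)
    · intro hY
      rcases hY with hc | ⟨-, hb | ⟨-, ha, hd'⟩⟩
      · exact closure_ne_top_of_le h4 hUsol ⟨X, show X.1 1 0 = 0 by simp [X], rfl⟩ ⟨Y, hc, rfl⟩
      · intro htop
        refine closure_ne_top_of_le h4 hUsol (x := π W * π X * (π W)⁻¹) (y := π W * π Y * (π W)⁻¹)
          ⟨W * X * W⁻¹, ?_, rfl⟩ ⟨W * Y * W⁻¹, ?_, rfl⟩ ?_
        · show (W.1 * X.1 * Matrix.adjugate W.1) 1 0 = 0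
          simp [W, X, Matrix.adjugate_fin_two, Matrix.mul_apply, Fin.sum_univ_two]
        · show (W.1 * Y.1 * Matrix.adjugate W.1) 1 0 = 0
          simp [W, Matrix.adjugate_fin_two, Matrix.mul_apply, Fin.sum_univ_two, Matrix.vecMul, dotProduct, hb]
        · rw [closure_pair_conj, htop, Subgroup.map_top_of_surjective _ (MulEquiv.surjective _)]
      · have hy : π Y * π Y = 1 := mk_sq_eq_one_of_trace (by rw [ha, hd', add_zero])
        have hxy : π (X * Y) * π (X * Y) = 1 := mk_sq_eq_one_of_trace (by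
          rw [mul_trace]; simp [X, ha, hd'])
        refine closure_ne_top_mono ?_ (Subgroup.subset_closure (Or.inr rfl)) (closure_involutions_ne_top hns hxy hy)
        show π X ∈ _
        rw [show π X = π (X * Y) * (π Y)⁻¹ from (mul_inv_cancel_right (π X) (π Y)).symm]
        exact mul_mem (Subgroup.subset_closure (Or.inl rfl)) (inv_mem (Subgroup.subset_closure (Or.inr rfl)))
  · -- nonsplit torus
    have hsq : x ^ 2 ≠ 1 := fun h => by
      rcases (Nat.dvd_prime Nat.prime_two).mp (orderOf_dvd_of_pow_eq_one h) with h' | h'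
      · exact hx1 (orderOf_eq_one_iff.mp h')
      · exact hxne h'
    have h3x : ¬ 3 ∣ orderOf x := fun h => by
      have h' := h.trans hxp
      omega
    have hcube : x ^ 3 ≠ 1 := fun h => by
      rcases (Nat.dvd_prime Nat.prime_three).mp (orderOf_dvd_of_pow_eq_one h) with h' | h'
      · exact hx1 (orderOf_eq_one_iff.mp h')
      · exact h3x (by rw [h'])
    have hC : 2 * Nat.card (Subgroup.centralizer ({x} : Set (Matrix.ProjectiveSpecialLinearGroup (Fin 2) F))) = q + 1 := by
      have h := card_centralizer_semisimple h4 3 hsq h3x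
      rw [← hq, hd] at h
      rcases h with ⟨h, -⟩ | ⟨-, h⟩
      · omega
      · exfalso
        have h2 := Nat.dvd_sub hxp (h.trans (Nat.div_dvd_of_dvd (by omega : 2 ∣ q - 1)))
        rw [show q + 1 - (q - 1) = 2 by omega] at h2
        exact hsq (orderOf_dvd_iff_pow_eq_one.mp h2)
    obtain ⟨X, rfl⟩ := QuotientGroup.mk_surjective x
    obtain ⟨w, hw, hwx⟩ := exists_inverting 3 X hcube
    set x := (QuotientGroup.mk X : Matrix.ProjectiveSpecialLinearGroup (Fin 2) F) with hx
    have hiff : ∀ y, Group.IsSolvable ↥(Subgroup.closure ({x, y} : Set (Matrix.ProjectiveSpecialLinearGroup (Fin 2) F))) ↔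
        (y * x * y⁻¹ = x ∨ y * x * y⁻¹ = x⁻¹) := by
      intro y
      rw [closure_ne_top_iff hmin h4]
      constructor
      · intro hne
        rcases proper_cases hmin h4 h8 hne with ⟨P, hPx, -⟩ | hcm | ⟨hy, hxy⟩ | ⟨hx', -⟩ | ⟨hx', -⟩ | hall
        · exfalso
          have h1 := (Subgroup.orderOf_dvd_natCard _ hPx).trans (dvd_mul_left _ (Nat.gcd 2 (q - 1)))
          rw [card_normalizer_sylow_psl 3 P, ← hq] at h1
          have hco : (orderOf x).Coprime q := by
            rw [hn]
            exact Nat.Coprime.pow_right _ ((Nat.Prime.coprime_iff_not_dvd Nat.prime_three).mpr h3x).symm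
          have h2 := Nat.dvd_sub hxp (hco.dvd_of_dvd_mul_left h1)
          rw [show q + 1 - (q - 1) = 2 by omega] at h2
          exact hsq (orderOf_dvd_iff_pow_eq_one.mp h2)
        · exact Or.inl (by rw [← hcm, mul_inv_cancel_right])
        · right
          rw [inv_eq_of_mul_eq_one_right hy]
          exact eq_inv_of_mul_eq_one_left (by
            calc y * x * y * x = x⁻¹ * (x * y * (x * y)) * x := by group
              _ = 1 := by rw [hxy]; group)
        · exact absurd (by rw [sq]; exact hx') hsq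
        · exact absurd (by rw [sq]; exact hx') hsq
        · rcases hall x (Subgroup.subset_closure (Or.inl rfl)) with h | h
          · exact absurd (by rw [sq]; exact h) hsq
          · exact absurd (by rw [pow_succ, sq]; exact h) hcube
      · exact fun h => closure_ne_top_of_normalize hns hx1 (Or.inl (mul_inv_cancel_right x x)) h
    rw [Nat.card_congr (Equiv.subtypeEquivRight hiff), Nat.card_congr (subtypeOrEquiv _ _ (Pi.disjoint_iff.mpr fun y =>
      Prop.disjoint_iff.mpr (not_and.mpr fun h h' => hsq (by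
        rw [h] at h'
        rw [sq]; nth_rewrite 1 [h']; exact inv_mul_cancel _)))), Nat.card_sum]
    have e1 : Nat.card {y // y * x * y⁻¹ = x} =
        Nat.card (Subgroup.centralizer ({x} : Set (Matrix.ProjectiveSpecialLinearGroup (Fin 2) F))) :=
      Nat.card_congr (Equiv.subtypeEquivRight fun y => by
        rw [Subgroup.mem_centralizer_singleton_iff, mul_inv_eq_iff_eq_mul])
    have e2 : Nat.card {y // y * x * y⁻¹ = x⁻¹} = Nat.card {y // y * x * y⁻¹ = x} := by
      refine Nat.card_congr ((Equiv.mulLeft w).subtypeEquiv fun y => ?_)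
      simp only [Equiv.coe_mulLeft]
      rw [show w * y * x * (w * y)⁻¹ = w * (y * x * y⁻¹) * w⁻¹ by group]
      constructor
      · intro h
        rw [h, show w * x⁻¹ * w⁻¹ = (w * x * w⁻¹)⁻¹ by group, hwx, inv_inv]
      · intro h
        calc y * x * y⁻¹ = w⁻¹ * (w * (y * x * y⁻¹) * w⁻¹) * w := by group
          _ = x⁻¹ := by
            rw [h, inv_eq_of_mul_eq_one_right hw]
            nth_rewrite 2 [← inv_eq_of_mul_eq_one_right hw]
            exact hwx
    rw [e2, e1, ← two_mul, hC]

end Cfsg.Agent.S2258
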