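import Cfsg.Statements.S2261
import Mathlib

set_option autoImplicit false
open Cfsg

namespace Cfsg.Agent.S2261

open Matrix Polynomial

theorem mk_pow_eq_one_iff {d : ℕ} {F : Type*} [Field F] (A : GL (Fin d) F) (N : ℕ) :
    (QuotientGroup.mk A : GL (Fin d) F ⧸ Subgroup.center (GL (Fin d) F)) ^ N = 1 ↔
      ∃ c : Fˣ, A.val ^ N = Matrix.scalar (Fin d) (c : F) := by
  rw [← QuotientGroup.mk_pow, QuotientGroup.eq_one_iff, Matrix.GeneralLinearGroup.center_eq_range_scalar,
    MonoidHom.mem_range]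
  constructor
  · rintro ⟨c, hc⟩
    refine ⟨c, ?_⟩
    rw [← Units.val_pow_eq_pow_val, ← hc]
    rfl
  · rintro ⟨c, hc⟩
    exact ⟨c, Units.ext (by rw [Units.val_pow_eq_pow_val, hc]; rfl)⟩

theorem bound {d : ℕ} {F : Type*} [Field F] [Fintype F] (hd : 1 ≤ d)
    (g : GL (Fin d) F ⧸ Subgroup.center (GL (Fin d) F)) :
    (Fintype.card F - 1) * orderOf g ≤ Fintype.card F ^ d - 1 := by
  classical
  have : NeZero d := ⟨by omega⟩
  obtain ⟨A, rfl⟩ := QuotientGroup.mk_surjective g
  set N := orderOf (QuotientGroup.mk A : GL (Fin d) F ⧸ Subgroup.center (GL (Fin d) F)) with hN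
  let M : Matrix (Fin d) (Fin d) F := A.val
  have hP : ∀ x : Fˣ × Fin N, ∃ P : Polynomial.degreeLT F d, P ≠ 0 ∧ aeval M (P : F[X]) = (x.1 : F) • M ^ (x.2 : ℕ) := by
    intro x
    let Q : F[X] := C (x.1 : F) * X ^ (x.2 : ℕ)
    have hdeg : Q %ₘ M.charpoly ∈ Polynomial.degreeLT F d := by
      rw [Polynomial.mem_degreeLT]
      refine lt_of_lt_of_le (Polynomial.degree_modByMonic_lt Q M.charpoly_monic) ?_
      rw [Matrix.charpoly_degree_eq_dim, Fintype.card_fin]
    have hev : aeval M (Q %ₘ M.charpoly) = (x.1 : F) • M ^ (x.2 : ℕ) := by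
      rw [Polynomial.aeval_modByMonic_eq_self_of_root (M.aeval_self_charpoly)]
      simp [Q, Algebra.smul_def]
    refine ⟨⟨_, hdeg⟩, fun h0 => ?_, hev⟩
    have h1 : (x.1 : F) • M ^ (x.2 : ℕ) = 0 := by
      rw [← hev, show Q %ₘ M.charpoly = 0 from congrArg Subtype.val h0, map_zero]
    rw [smul_eq_zero] at h1
    have h2 := h1.resolve_left x.1.ne_zero
    have h3 := (A ^ (x.2 : ℕ)).ne_zero
    rw [Units.val_pow_eq_pow_val] at h3
    exact h3 h2
  choose P hP0 hP using hP
  have key : ∀ x y : Fˣ × Fin N, y.2 ≤ x.2 → P x = P y → x = y := by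
    intro x y hle h
    have h1 := (hP x).symm.trans ((congrArg (fun p : Polynomial.degreeLT F d => aeval M (p : F[X])) h).trans (hP y))
    obtain ⟨k, hk⟩ : ∃ k, (x.2 : ℕ) = k + y.2 := ⟨x.2 - y.2, (Nat.sub_add_cancel hle).symm⟩
    rw [hk, pow_add, ← smul_mul_assoc] at h1
    have hu : IsUnit (M ^ (y.2 : ℕ)) := A.isUnit.pow _
    have h2 : (x.1 : F) • M ^ k = (y.1 : F) • 1 := by
      exact hu.mul_right_cancel (h1.trans (by rw [smul_mul_assoc, one_mul]))
    have hk0 : k = 0 := by
      have h3 : (QuotientGroup.mk A : GL (Fin d) F ⧸ Subgroup.center (GL (Fin d) F)) ^ k = 1 := by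
        refine (mk_pow_eq_one_iff A k).2 ⟨x.1⁻¹ * y.1, ?_⟩
        show M ^ k = _
        calc M ^ k = ((x.1⁻¹ : Fˣ) : F) • ((x.1 : F) • M ^ k) := by
              rw [smul_smul, ← Units.val_mul, inv_mul_cancel, Units.val_one, one_smul]
          _ = _ := by rw [h2, smul_smul, ← Units.val_mul, Matrix.smul_one_eq_diagonal]; rfl
      by_contra hk0
      have h4 := Nat.le_of_dvd (Nat.pos_of_ne_zero hk0) (orderOf_dvd_of_pow_eq_one h3)
      have := x.2.isLt
      omega
    rw [hk0, pow_zero] at h2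
    have h5 := congrFun (congrFun h2 ⟨0, by omega⟩) ⟨0, by omega⟩
    simp at h5
    exact Prod.ext (Units.ext h5) (Fin.ext (by omega))
  have hinj : Function.Injective fun x => (⟨P x, hP0 x⟩ : {p : Polynomial.degreeLT F d // p ≠ 0}) := fun x y h => by
    have h' : P x = P y := congrArg Subtype.val h
    rcases le_total y.2 x.2 with hle | hle
    · exact key x y hle h'
    · exact (key y x hle h'.symm).symm
  let : Fintype (Polynomial.degreeLT F d) := Fintype.ofEquiv _ (Polynomial.degreeLTEquiv F d).toEquiv.symm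
  have h := Fintype.card_le_of_injective _ hinj
  rw [Fintype.card_prod, Fintype.card_units, Fintype.card_fin, Fintype.card_subtype_compl, Fintype.card_subtype_eq,
    Fintype.card_congr (Polynomial.degreeLTEquiv F d).toEquiv, Fintype.card_fun, Fintype.card_fin] at h
  exact h

theorem exists_singer {d : ℕ} {F : Type*} [Field F] [Fintype F] (hd : 1 ≤ d) :
    ∃ g : GL (Fin d) F ⧸ Subgroup.center (GL (Fin d) F), Fintype.card F ^ d - 1 ≤ (Fintype.card F - 1) * orderOf g := by
  classical
  have : NeZero d := ⟨by omega⟩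
  obtain ⟨p, hc⟩ := CharP.exists F
  have : Fact p.Prime := ⟨CharP.char_is_prime F p⟩
  let K := FiniteField.Extension F p d
  let b : Module.Basis (Fin d) F K := (Module.finBasis F K).reindex (finCongr (FiniteField.finrank_extension F p d))
  obtain ⟨ω, hω⟩ := IsCyclic.exists_ofOrder_eq_natCard (α := Kˣ)
  rw [Nat.card_units, FiniteField.natCard_extension, Nat.card_eq_fintype_card] at hω
  let A : GL (Fin d) F := Units.map (Algebra.leftMulMatrix b).toRingHom.toMonoidHom ω
  refine ⟨QuotientGroup.mk A, ?_⟩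
  obtain ⟨c, hc⟩ := (mk_pow_eq_one_iff A _).1 (pow_orderOf_eq_one _)
  set N := orderOf (QuotientGroup.mk A : GL (Fin d) F ⧸ Subgroup.center (GL (Fin d) F)) with hN
  have hN0 : 0 < N := orderOf_pos _
  have h1 : (ω : K) ^ N = algebraMap F K c := by
    refine Algebra.leftMulMatrix_injective b ?_
    rw [map_pow, AlgHom.commutes]
    exact hc
  have hq : 1 < Fintype.card F := Fintype.one_lt_card
  have h2 : ω ^ ((Fintype.card F - 1) * N) = 1 := by
    refine Units.ext ?_
    rw [Units.val_pow_eq_pow_val, mul_comm, pow_mul, h1, ← map_pow, FiniteField.pow_card_sub_one_eq_one _ c.ne_zero,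
      map_one, Units.val_one]
  rw [← hω]
  exact Nat.le_of_dvd (Nat.mul_pos (by omega) hN0) (orderOf_dvd_of_pow_eq_one h2)

/-- Let F be a finite field with q elements and d ≥ 1. Then every element of PGL_d(F) = GL_d(F)/Z has order at most (q^d − 1)/(q − 1), and some element (the image of a Singer cycle) has exactly this order. -/
theorem result {F : Type*} [Field F] [Fintype F] (d : ℕ) (hd : 1 ≤ d) :
    (∀ g : (GL (Fin d) F ⧸ Subgroup.center (GL (Fin d) F)), (Fintype.card F - 1) * orderOf g ≤ Fintype.card F ^ d - 1) ∧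
    (∃ g : (GL (Fin d) F ⧸ Subgroup.center (GL (Fin d) F)), (Fintype.card F - 1) * orderOf g = Fintype.card F ^ d - 1) := by
  refine ⟨bound hd, ?_⟩
  obtain ⟨g, hg⟩ := exists_singer (F := F) hd
  exact ⟨g, le_antisymm (bound hd g) hg⟩

end Cfsg.Agent.S2261
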