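import Cfsg.Statements.S2262
import Cfsg.Agent.Lib.Linear.AutPSLOrder
import Cfsg.Agent.Lib.Linear.AutPSL.Out
import Cfsg.Agent.S2261

set_option autoImplicit false
open Cfsg

namespace Cfsg.Agent.S2262

open Matrix Cfsg.Lib.Linear.AutPSL Cfsg.Lib.Linear.AutPSLOrder

theorem pred_mul_sum (x d : ℕ) (hx : 1 ≤ x) : (x - 1) * ∑ i ∈ Finset.range d, x ^ i = x ^ d - 1 := by
  have := geom_sum_mul_add (x - 1) d
  rw [Nat.sub_add_cancel hx] at this
  rw [mul_comm, ← this, Nat.add_sub_cancel]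

theorem le_two_pow_pred (r : ℕ) : r + 1 ≤ 2 ^ r := Nat.lt_two_pow_self

theorem four_pow_bound : ∀ s : ℕ, 2 * (s + 2) ≤ 4 ^ (s + 1) := by
  intro s
  induction s with
  | zero => norm_num
  | succ s ih => rw [pow_succ 4 (s + 1)]; omega

theorem pow_two_mul_sub (q s : ℕ) : (q ^ 2) ^ (s + 1) * q ^ 2 = (q ^ (s + 2)) ^ 2 := by
  rw [← pow_succ, ← pow_mul, ← pow_mul, mul_comm]

theorem three_terms_le (q : ℕ) (hq : 2 ≤ q) : 1 + q + q ^ 2 ≤ 2 * q ^ 2 := by
  have : 2 * q ≤ q * q := Nat.mul_le_mul_right q hq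
  rw [sq]
  omega

theorem mul_pow_le_pow_mul (r c q i : ℕ) (hc : c ≤ q ^ ((r - 1) * i)) (hr : 1 ≤ r) :
    c * q ^ i ≤ (q ^ r) ^ i := by
  obtain ⟨s, rfl⟩ : ∃ s, r = s + 1 := ⟨r - 1, by omega⟩
  have : (q ^ (s + 1)) ^ i = q ^ (s * i) * q ^ i := by rw [← pow_mul, add_mul, one_mul, pow_add]
  rw [this]
  exact Nat.mul_le_mul_right _ hc

theorem two_terms (r q : ℕ) (hr : 2 ≤ r) (hq : 2 ≤ q) (hex : r = 2 → 3 ≤ q) : r * (1 + q) ≤ 1 + q ^ r := by
  rcases eq_or_ne r 2 with rfl | hr2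
  · have : 3 * q ≤ q * q := Nat.mul_le_mul_right q (hex rfl)
    have := hex rfl
    rw [sq]
    omega
  obtain ⟨s, rfl⟩ : ∃ s, r = s + 3 := ⟨r - 3, by omega⟩
  clear hr hr2 hex
  have h4 : ∀ t, 4 * q ≤ q ^ (t + 3) := fun t => by
    calc 4 * q ≤ q ^ (t + 2) * q := Nat.mul_le_mul_right q
          (((Nat.pow_le_pow_left hq 2)).trans (Nat.pow_le_pow_right (by omega) (by omega)))
      _ = q ^ (t + 3) := (pow_succ q (t + 2)).symm
  induction s with
  | zero => have := h4 0; rw [zero_add] at this ⊢; rw [Nat.mul_add, Nat.mul_one]; omega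
  | succ s ih =>
    have h5 := h4 s
    have h6 : 2 * q ^ (s + 3) ≤ q ^ (s + 1 + 3) := by
      rw [show s + 1 + 3 = s + 3 + 1 from rfl, pow_succ, mul_comm 2]
      exact Nat.mul_le_mul_left _ hq
    rw [show (s + 1 + 3) * (1 + q) = (s + 3) * (1 + q) + (1 + q) by ring]
    omega

theorem sum_bound_field (r q d : ℕ) (hr : 1 ≤ r) (hq : 2 ≤ q) (hd : 2 ≤ d) (hex : ¬ (d = 2 ∧ r = 2 ∧ q = 2)) :
    r * ∑ i ∈ Finset.range d, q ^ i ≤ ∑ i ∈ Finset.range d, (q ^ r) ^ i := by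
  rcases eq_or_ne r 1 with rfl | hr1
  · simp
  rcases eq_or_lt_of_le hd with rfl | hd3
  · simp only [Finset.sum_range_succ, Finset.sum_range_zero, zero_add, pow_zero, pow_one]
    exact two_terms r q (by omega) hq fun h => by
      rcases Nat.lt_or_ge q 3 with h3 | h3
      · exact absurd ⟨rfl, h, by omega⟩ hex
      · exact h3
  obtain ⟨e, rfl⟩ : ∃ e, d = e + 3 := ⟨d - 3, by omega⟩
  clear hex hd hd3
  induction e with
  | zero =>
    simp only [Finset.sum_range_succ, Finset.sum_range_zero, zero_add, pow_zero, pow_one]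
    obtain ⟨s, rfl⟩ : ∃ s, r = s + 2 := ⟨r - 2, by omega⟩
    calc (s + 2) * (1 + q + q ^ 2) ≤ (s + 2) * (2 * q ^ 2) := Nat.mul_le_mul_left _ (three_terms_le q hq)
      _ = 2 * (s + 2) * q ^ 2 := by ring
      _ ≤ (q ^ 2) ^ (s + 1) * q ^ 2 :=
        Nat.mul_le_mul_right _ ((four_pow_bound s).trans (Nat.pow_le_pow_left (Nat.pow_le_pow_left hq 2) _))
      _ = (q ^ (s + 2)) ^ 2 := pow_two_mul_sub q s
      _ ≤ _ := Nat.le_add_left _ _
  | succ e ih =>
    rw [show e + 1 + 3 = e + 3 + 1 from rfl, Finset.sum_range_succ _ (e + 3), Finset.sum_range_succ _ (e + 3), mul_add]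
    refine Nat.add_le_add ih (mul_pow_le_pow_mul r r q _ ?_ hr)
    obtain ⟨s, rfl⟩ : ∃ s, r = s + 1 := ⟨r - 1, by omega⟩
    rw [Nat.add_sub_cancel]
    exact ((le_two_pow_pred s).trans (Nat.pow_le_pow_left hq s)).trans
      (Nat.pow_le_pow_right (by omega) (Nat.le_mul_of_pos_right s (by omega)))

theorem sum_bound_graph (r q d : ℕ) (hr : 2 ≤ r) (hq : 2 ≤ q) (hd : 3 ≤ d) (hex : r = 2 → 3 ≤ q) :
    2 * r * ∑ i ∈ Finset.range d, q ^ i ≤ ∑ i ∈ Finset.range d, (q ^ r) ^ i := by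
  obtain ⟨e, rfl⟩ : ∃ e, d = e + 3 := ⟨d - 3, by omega⟩
  clear hd
  induction e with
  | zero =>
    simp only [Finset.sum_range_succ, Finset.sum_range_zero, zero_add, pow_zero, pow_one]
    obtain ⟨s, rfl⟩ : ∃ s, r = s + 2 := ⟨r - 2, by omega⟩
    have hc : 4 * (s + 2) ≤ (q ^ 2) ^ (s + 1) := by
      rcases s with _ | s
      · have : 3 ^ 2 ≤ q ^ 2 := Nat.pow_le_pow_left (hex rfl) 2
        rw [zero_add, pow_one]
        omega
      · refine le_trans ?_ (Nat.pow_le_pow_left (Nat.pow_le_pow_left hq 2) _)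
        have := four_pow_bound s
        rw [show (2 : ℕ) ^ 2 = 4 from rfl, pow_succ 4 (s + 1)]
        omega
    calc 2 * (s + 2) * (1 + q + q ^ 2) ≤ 2 * (s + 2) * (2 * q ^ 2) := Nat.mul_le_mul_left _ (three_terms_le q hq)
      _ = 4 * (s + 2) * q ^ 2 := by ring
      _ ≤ (q ^ 2) ^ (s + 1) * q ^ 2 := Nat.mul_le_mul_right _ hc
      _ = (q ^ (s + 2)) ^ 2 := pow_two_mul_sub q s
      _ ≤ _ := Nat.le_add_left _ _
  | succ e ih =>
    rw [show e + 1 + 3 = e + 3 + 1 from rfl, Finset.sum_range_succ _ (e + 3), Finset.sum_range_succ _ (e + 3), mul_add]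
    refine Nat.add_le_add ih (mul_pow_le_pow_mul r (2 * r) q _ ?_ (by omega))
    obtain ⟨s, rfl⟩ : ∃ s, r = s + 1 := ⟨r - 1, by omega⟩
    rw [Nat.add_sub_cancel]
    have h2 := le_two_pow_pred s
    have h3 : 2 ≤ 2 ^ s := Nat.le_self_pow (by omega) 2
    calc 2 * (s + 1) ≤ 2 ^ s * 2 ^ s := Nat.mul_le_mul h3 h2
      _ = 2 ^ (s * 2) := by rw [← pow_add, mul_two]
      _ ≤ q ^ (s * 2) := Nat.pow_le_pow_left hq _
      _ ≤ _ := Nat.pow_le_pow_right (by omega) (Nat.mul_le_mul_left s (by omega))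

variable {F : Type*} [Field F] [Fintype F]

/-- From a bound over the fixed field to a bound over the field. -/
theorem finish {d r c q₀ N M : ℕ} (hq₀ : 2 ≤ q₀) (hF : q₀ ^ r = Fintype.card F) (hN : N ≤ c * M)
    (hM : (q₀ - 1) * M ≤ q₀ ^ d - 1)
    (hsum : c * ∑ i ∈ Finset.range d, q₀ ^ i ≤ ∑ i ∈ Finset.range d, (q₀ ^ r) ^ i) :
    (Fintype.card F - 1) * N ≤ Fintype.card F ^ d - 1 := by
  rw [← pred_mul_sum q₀ d (by omega)] at hM
  have hM' := Nat.le_of_mul_le_mul_left hM (show 0 < q₀ - 1 by omega)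
  rw [← pred_mul_sum (Fintype.card F) d Fintype.card_pos, ← hF]
  exact Nat.mul_le_mul_left _ (hN.trans ((Nat.mul_le_mul_left c hM').trans hsum))

theorem two_le_card_fixed (σ : F ≃+* F) : 2 ≤ Nat.card (fixedF σ) := by
  let : Fintype (fixedF σ) := Fintype.ofFinite _
  rw [Nat.card_eq_fintype_card]
  exact Fintype.one_lt_card

theorem bound_field {d : ℕ} (hd : 2 ≤ d) (h24 : ¬ (d = 2 ∧ Fintype.card F = 4)) (g : GL (Fin d) F) (σ : F ≃+* F) :
    (Fintype.card F - 1) * orderOf (innd g * fld σ : MulAut (ProjectiveSpecialLinearGroup (Fin d) F)) ≤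
      Fintype.card F ^ d - 1 := by
  obtain ⟨M, hN, hM⟩ := field_bound hd g σ
  haveI : Finite (RingAut F) := Finite.of_injective (fun τ : RingAut F => (τ : F → F)) DFunLike.coe_injective
  refine finish (two_le_card_fixed σ) (card_fixedF_pow σ) hN hM
    (sum_bound_field _ _ _ (orderOf_pos σ) (two_le_card_fixed σ) hd fun h => h24 ⟨h.1, ?_⟩)
  rw [← card_fixedF_pow σ, h.2.1, h.2.2]; norm_num

theorem bound_graph {d : ℕ} (hd : 3 ≤ d) (h32 : ¬ (d = 3 ∧ Fintype.card F = 2)) (g : GL (Fin d) F) (σ : F ≃+* F) :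
    (Fintype.card F - 1) * orderOf (innd g * fld σ * gr : MulAut (ProjectiveSpecialLinearGroup (Fin d) F)) ≤
      Fintype.card F ^ d - 1 := by
  haveI : Finite (RingAut F) := Finite.of_injective (fun τ : RingAut F => (τ : F → F)) DFunLike.coe_injective
  haveI : Finite (MulAut (ProjectiveSpecialLinearGroup (Fin d) F)) :=
    Finite.of_injective (fun e : MulAut _ => (e : _ → _)) DFunLike.coe_injective
  set φ : MulAut (ProjectiveSpecialLinearGroup (Fin d) F) := innd g * fld σ * gr with hφ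
  set g₂ := g * GeneralLinearGroup.map σ.toRingHom (dual g) with hg₂
  have hsq : φ ^ 2 = innd g₂ * fld (σ ^ 2) := by
    rw [sq, hφ, hg₂, map_mul innd, sq σ, map_mul fld]
    calc innd g * fld σ * gr * (innd g * fld σ * gr)
        = innd g * (fld σ * (gr * innd g)) * (fld σ * gr) := by simp only [mul_assoc]
      _ = innd g * (fld σ * innd (dual g)) * (gr * (fld σ * gr)) := by rw [gr_mul_innd]; simp only [mul_assoc]
      _ = _ := by
        rw [fld_mul_innd, ← mul_assoc gr, gr_mul_fld, mul_assoc (fld σ) gr gr, gr_mul_gr, mul_one]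
        simp only [mul_assoc]
  have hle : orderOf φ ≤ 2 * orderOf (φ ^ 2) := by
    refine Nat.le_of_dvd (Nat.mul_pos two_pos (orderOf_pos _)) (orderOf_dvd_of_pow_eq_one ?_)
    rw [pow_mul, pow_orderOf_eq_one]
  by_cases h1 : σ ^ 2 = 1
  · rw [h1, map_one, mul_one] at hsq
    rw [hsq] at hle
    refine le_trans (Nat.mul_le_mul_left _ hle) ?_
    rw [mul_left_comm]
    refine twisted_bound hd h32 g g₂ σ ?_
    have hd2 : dual g₂ = dual g * GeneralLinearGroup.map σ.toRingHom g := by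
      refine Units.ext ?_
      show ((g₂⁻¹).val)ᵀ = ((g⁻¹).val)ᵀ * g.val.map σ
      rw [hg₂, _root_.mul_inv_rev, ← map_inv, Units.val_mul, Matrix.transpose_mul]
      rfl
    have hσσ : GeneralLinearGroup.map σ.toRingHom (GeneralLinearGroup.map σ.toRingHom g) = g := by
      refine Units.ext (Matrix.ext fun i j => ?_)
      show (σ * σ) (g.val i j) = g.val i j
      rw [← sq, h1]; rfl
    rw [hd2, map_mul, hσσ, ← mul_assoc, mul_inv_cancel_right]
  obtain ⟨M, hN, hM⟩ := field_bound (by omega) g₂ (σ ^ 2)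
  rw [← hsq] at hN
  have hr : 2 ≤ orderOf (σ ^ 2) := by
    have := orderOf_pos (σ ^ 2)
    have : orderOf (σ ^ 2) ≠ 1 := fun h => h1 (orderOf_eq_one_iff.1 h)
    omega
  refine finish (c := 2 * orderOf (σ ^ 2)) (two_le_card_fixed _) (card_fixedF_pow (σ ^ 2))
    (by rw [mul_assoc]; exact hle.trans (Nat.mul_le_mul_left 2 hN)) hM
    (sum_bound_graph _ _ _ hr (two_le_card_fixed _) hd fun h2 => ?_)
  have h4 : orderOf σ = 4 := by
    rw [orderOf_pow' σ two_ne_zero] at h2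
    have := Nat.gcd_dvd_right (orderOf σ) 2
    have hg := (Nat.dvd_prime Nat.prime_two).1 this
    have hdv := Nat.gcd_dvd_left (orderOf σ) 2
    rcases hg with hg | hg <;> rw [hg] at h2 hdv
    · exfalso
      have : orderOf σ = 2 := by omega
      rw [this] at hg
      simp at hg
    · omega
  have h5 := card_fixedF_pow σ
  have h6 := card_fixedF_pow (σ ^ 2)
  rw [h2] at h6
  rw [h4] at h5
  have h7 : (Nat.card (fixedF σ) ^ 2) ^ 2 = Nat.card (fixedF (σ ^ 2)) ^ 2 := by rw [← pow_mul, h5, h6]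
  rw [← Nat.pow_left_injective two_ne_zero h7]
  have := two_le_card_fixed σ
  nlinarith

/-- Let F be a finite field with q elements and d ≥ 2, with q ≥ 4 when d = 2, and (d, q) ∉ {(2, 4), (3, 2)}. Then every automorphism of the simple group PSL_d(F) has order at most (q^d − 1)/(q − 1) as an element of the automorphism group, and some automorphism has exactly this order. -/
theorem result {F : Type*} [Field F] [Fintype F] (d : ℕ) (hd : 2 ≤ d)
    (h2 : d = 2 → 4 ≤ Fintype.card F) (h24 : ¬ (d = 2 ∧ Fintype.card F = 4)) (h32 : ¬ (d = 3 ∧ Fintype.card F = 2)) :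
    (∀ φ : MulAut (Matrix.ProjectiveSpecialLinearGroup (Fin d) F),
      (Fintype.card F - 1) * orderOf φ ≤ Fintype.card F ^ d - 1) ∧
    (∃ φ : MulAut (Matrix.ProjectiveSpecialLinearGroup (Fin d) F),
      (Fintype.card F - 1) * orderOf φ = Fintype.card F ^ d - 1) := by
  obtain ⟨p, hc⟩ := CharP.exists F
  haveI : Fact p.Prime := ⟨CharP.char_is_prime F p⟩
  have hfld := fun g σ => bound_field (F := F) hd h24 g σ
  refine ⟨fun φ => ?_, ?_⟩
  · obtain ⟨g, σ, rfl | rfl⟩ := exists_decomp (p := p) hd φ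
    · exact hfld g σ
    · rcases eq_or_lt_of_le hd with hd2 | hd2
      · subst hd2
        obtain ⟨g₀, hg₀⟩ := gr_eq_innd_two (F := F)
        rw [hg₀, mul_assoc, fld_mul_innd, ← mul_assoc, ← map_mul]
        exact hfld _ σ
      · exact bound_graph hd2 h32 g σ
  · obtain ⟨x, hx⟩ := Cfsg.Agent.S2261.exists_singer (F := F) (d := d) (by omega)
    obtain ⟨A, rfl⟩ := QuotientGroup.mk_surjective x
    haveI : Nontrivial (Fin d) := Fin.nontrivial_iff_two_le.2 hd
    refine ⟨innd A, le_antisymm (by simpa using hfld A 1) (hx.trans (le_of_eq ?_))⟩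
    congr 1
    refine orderOf_eq_orderOf_iff.2 fun k => ?_
    rw [Cfsg.Agent.S2261.mk_pow_eq_one_iff, ← map_pow]
    constructor
    · rintro ⟨c, hc⟩
      exact innd_scalar ⟨c, by rw [Units.val_pow_eq_pow_val, hc]⟩
    · intro h
      obtain ⟨c, hc⟩ := innd_eq_one h
      rw [Units.val_pow_eq_pow_val] at hc
      have hc0 : c ≠ 0 := by
        rintro rfl
        rw [map_zero] at hc
        exact (A.isUnit.pow k).ne_zero hc.symm
      exact ⟨Units.mk0 c hc0, hc.symm⟩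

end Cfsg.Agent.S2262
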