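import Cfsg.Statements.S2263
import Cfsg.Agent.Lib.PGUOrder.Bound
import Cfsg.Agent.Lib.PGUOrder.Exists

set_option autoImplicit false
open Cfsg

namespace Cfsg.Agent.S2263

/-- Let q = p^f with p prime and f ≥ 1, F a field with q² elements, d ≥ 3 with (d, q) ≠ (3, 2), and PGU_d(q) the general unitary group of the standard Hermitian form modulo its centre. Then the largest order of an element of PGU_d(q) is: q^(d−1) − 1 if d is odd and f ≥ 2; (p^(d−2) + 1)p if d is odd and f = 1; q^(d−1) + 1 if d is even and q > 2; 4(2^(d−3) + 1) if d is even and q = 2. -/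
theorem result {F : Type*} [Field F] [Fintype F] (p f d : ℕ) (hp : p.Prime) (hf : 1 ≤ f) (q : ℕ) (hq : q = p ^ f)
    (hF : Fintype.card F = q ^ 2) (hd : 3 ≤ d) (h32 : ¬ (d = 3 ∧ q = 2)) :
    (Odd d → 2 ≤ f → (∀ g : (↥(Cfsg.GU d F q) ⧸ Subgroup.center ↥(Cfsg.GU d F q)), orderOf g ≤ q ^ (d - 1) - 1) ∧ ∃ g : (↥(Cfsg.GU d F q) ⧸ Subgroup.center ↥(Cfsg.GU d F q)), orderOf g = q ^ (d - 1) - 1) ∧
    (Odd d → f = 1 → (∀ g : (↥(Cfsg.GU d F q) ⧸ Subgroup.center ↥(Cfsg.GU d F q)), orderOf g ≤ (p ^ (d - 2) + 1) * p) ∧ ∃ g : (↥(Cfsg.GU d F q) ⧸ Subgroup.center ↥(Cfsg.GU d F q)), orderOf g = (p ^ (d - 2) + 1) * p) ∧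
    (Even d → 2 < q → (∀ g : (↥(Cfsg.GU d F q) ⧸ Subgroup.center ↥(Cfsg.GU d F q)), orderOf g ≤ q ^ (d - 1) + 1) ∧ ∃ g : (↥(Cfsg.GU d F q) ⧸ Subgroup.center ↥(Cfsg.GU d F q)), orderOf g = q ^ (d - 1) + 1) ∧
    (Even d → q = 2 → (∀ g : (↥(Cfsg.GU d F q) ⧸ Subgroup.center ↥(Cfsg.GU d F q)), orderOf g ≤ 4 * (2 ^ (d - 3) + 1)) ∧ ∃ g : (↥(Cfsg.GU d F q) ⧸ Subgroup.center ↥(Cfsg.GU d F q)), orderOf g = 4 * (2 ^ (d - 3) + 1)) := by
  classical
  haveI : Fact p.Prime := ⟨hp⟩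
  haveI : CharP F p := charP_of_card_eq_prime_pow (f := f * 2) (by rw [hF, hq, ← pow_mul])
  have hq2 := Cfsg.Lib.Linear.Herm.two_le_q hF
  have hmem : ∀ g : ↥(Cfsg.GU d F q),
      (((g : GL (Fin d) F) : Matrix (Fin d) (Fin d) F).map (Cfsg.Lib.Linear.Herm.frob hF)).transpose *
        ((g : GL (Fin d) F) : Matrix (Fin d) (Fin d) F) = 1 :=
    fun g => (Cfsg.Agent.S2496.mem_GU_iff_ad hF _).1 g.2
  have bound := fun B h1 h2 h3 h4 => Cfsg.Lib.PGUOrder.order_le (p := p) (f := f) (B := B) hF hf hq hd h32 h1 h2 h3 h4 hmem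
  obtain ⟨N₁, hN₁, hN₁o⟩ := Cfsg.Lib.PGUOrder.exists_unitary hF p (k := d - 1) (by omega)
  obtain ⟨N₁', hN₁', hN₁o'⟩ := Cfsg.Lib.PGUOrder.exists_unitary hF p (k := d - 2) (by omega)
  have h1o : Odd d → Cfsg.Lib.PGUOrder.T q (d - 1) = q ^ (d - 1) - 1 := fun h =>
    if_pos (Nat.Odd.sub_odd h odd_one)
  have h1e : Even d → Cfsg.Lib.PGUOrder.T q (d - 1) = q ^ (d - 1) + 1 := fun h =>
    if_neg (Nat.not_even_iff_odd.2 (Nat.Even.sub_odd (by omega) h odd_one))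
  have wit : ∃ g : (↥(Cfsg.GU d F q) ⧸ Subgroup.center ↥(Cfsg.GU d F q)),
      orderOf g = Cfsg.Lib.PGUOrder.T q (d - 1) := by
    obtain ⟨g, hg⟩ := Cfsg.Lib.PGUOrder.exists_class (q := q) (d := d) hF p (s := 0) (le_refl 1)
      (by omega) (by omega) hN₁ (N₂ := 1) (by simp [Cfsg.Lib.Linear.AbsorbPSU.ad_one]) (by simp)
      (Nat.coprime_one_right _)
    exact ⟨g, by rw [hg, hN₁o, pow_zero, mul_one]⟩
  refine ⟨fun hodd hf2 => ⟨bound _ ?_ ?_ ?_ ?_, h1o hodd ▸ wit⟩,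
    fun hodd hf1 => ⟨bound _ ?_ ?_ ?_ ?_, ?_⟩,
    fun hev hq3 => ⟨bound _ ?_ ?_ ?_ ?_, h1e hev ▸ wit⟩,
    fun hev hq0 => ⟨bound _ ?_ ?_ ?_ ?_, ?_⟩⟩
  · omega
  · exact fun h => absurd h (Nat.not_even_iff_odd.2 hodd)
  · intro h
    have := Nat.pow_right_injective hp.two_le (show p ^ f = p ^ 1 by rw [pow_one, ← hq, h])
    omega
  · exact fun _ h => absurd h (Nat.not_even_iff_odd.2 hodd)
  · rw [show q = p by rw [hq, hf1, pow_one], add_mul, ← pow_succ, one_mul,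
      show d - 2 + 1 = d - 1 by omega]
    omega
  · exact fun h => absurd h (Nat.not_even_iff_odd.2 hodd)
  · exact fun _ _ => le_rfl
  · exact fun _ h => absurd h (Nat.not_even_iff_odd.2 hodd)
  · obtain ⟨U, hU, hUo⟩ := Cfsg.Lib.PGUOrder.exists_unipotent_two hF p
    obtain ⟨g, hg⟩ := Cfsg.Lib.PGUOrder.exists_class (q := q) (d := d) hF p (s := 1) (a := d - 2)
      (by omega) (by omega) (by omega) hN₁' hU (by rw [hUo, pow_one]) (by
        rw [hN₁o', hq]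
        exact Cfsg.Lib.PGUOrder.coprime_T hp hf (by omega) 1)
    refine ⟨g, ?_⟩
    rw [hg, hN₁o', pow_one, Cfsg.Lib.PGUOrder.T, if_neg (Nat.not_even_iff_odd.2
      (Nat.Odd.sub_even (by omega) hodd even_two)), show q = p by rw [hq, hf1, pow_one]]
  · omega
  · exact fun _ => le_rfl
  · exact fun _ h => absurd hev (Nat.not_even_iff_odd.2 h)
  · exact fun h => absurd h (by omega)
  · subst hq0
    rw [show d - 1 = d - 3 + 2 by omega, pow_add]
    omega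
  · intro _
    subst hq0
    rw [show d - 1 = d - 3 + 2 by omega, pow_add]
    omega
  · exact fun _ h => absurd hev (Nat.not_even_iff_odd.2 h)
  · exact fun _ _ => le_rfl
  · obtain ⟨U, hU, hUo⟩ := Cfsg.Lib.PGUOrder.exists_unipotent_three hF hq0
    have hd4 : 4 ≤ d := by
      obtain ⟨k, hk⟩ := hev
      omega
    obtain ⟨N, hN, hNo⟩ := Cfsg.Lib.PGUOrder.exists_unitary hF p (k := d - 3) (by omega)
    have hp2 : p = 2 := by
      have h : p ∣ 2 := by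
        rw [← hq0, hq]
        exact dvd_pow_self p (by omega)
      exact (Nat.prime_dvd_prime_iff_eq hp Nat.prime_two).1 h
    obtain ⟨g, hg⟩ := Cfsg.Lib.PGUOrder.exists_class (q := q) (d := d) hF p (s := 2) (a := d - 3)
      (by omega) (by omega) (by omega) hN hU (by rw [hUo, hp2]) (by
        rw [hNo, hq]
        exact Cfsg.Lib.PGUOrder.coprime_T hp hf (by omega) 2)
    refine ⟨g, ?_⟩
    rw [hg, hNo, Cfsg.Lib.PGUOrder.T, if_neg (Nat.not_even_iff_odd.2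
      (Nat.Even.sub_odd (by omega) hev (by decide))), hp2, hq0]
    ring

end Cfsg.Agent.S2263
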