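import Cfsg.Statements.S2268


set_option autoImplicit false
open Cfsg

namespace Cfsg.Agent.S2268

/-- Let G be a finite group with an abelian Sylow p-subgroup P and let Q ≤ P. Then N_G(Q) = (N_G(Q) ∩ N_G(P))·C_G(Q), so that N_G(Q)/C_G(Q) is a homomorphic image of the subgroup (N_G(Q) ∩ N_G(P))/C_G(P) of N_G(P)/C_G(P); in particular the order of N_G(Q)/C_G(Q) divides the order of N_G(P)/C_G(P). -/
theorem result {G : Type*} [Group G] [Finite G] {p : ℕ} [Fact p.Prime]
    (P : Sylow p G) (hP : IsMulCommutative (P : Subgroup G)) (Q : Subgroup G) (hQ : Q ≤ (P : Subgroup G)) :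
    Subgroup.normalizer (Q : Set G) =
      (Subgroup.normalizer (Q : Set G) ⊓ Subgroup.normalizer ((P : Subgroup G) : Set G)) ⊔ Subgroup.centralizer (Q : Set G) ∧
    ((Subgroup.centralizer (Q : Set G)).subgroupOf (Subgroup.normalizer (Q : Set G))).index ∣ ((Subgroup.centralizer ((P : Subgroup G) : Set G)).subgroupOf (Subgroup.normalizer ((P : Subgroup G) : Set G))).index := by
  set C := Subgroup.centralizer (Q : Set G) with hC
  set N := Subgroup.normalizer (Q : Set G) with hN
  set M := N ⊓ Subgroup.normalizer ((P : Subgroup G) : Set G) with hM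
  set D := Subgroup.centralizer ((P : Subgroup G) : Set G) with hD
  have hPC : (P : Subgroup G) ≤ C := fun x hx => Subgroup.mem_centralizer_iff.2 fun y hy =>
    setLike_mul_comm (hQ hy) hx
  have hCN : C ≤ N := Subgroup.centralizer_le_normalizer _
  have hDC : D ≤ C := Subgroup.centralizer_le (SetLike.coe_subset_coe.2 hQ)
  have hDM : D ≤ M := le_inf (hDC.trans hCN) (Subgroup.centralizer_le_normalizer _)
  have : (C.subgroupOf N).Normal := Subgroup.normal_subgroupOf_centralizer_normalizer _
  have heq : N = M ⊔ C := by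
    refine le_antisymm (fun x hx => ?_) (sup_le inf_le_left hCN)
    let Q' : Sylow p C := P.subtype hPC
    let xN : N := ⟨x, hx⟩
    have hle : ((x • P : Sylow p G) : Subgroup G) ≤ C := by
      rintro y ⟨z, hz, rfl⟩
      exact (inferInstance : (C.subgroupOf N).Normal).conj_mem ⟨z, hCN (hPC hz)⟩ (hPC hz) xN
    obtain ⟨c, hc⟩ := MulAction.exists_smul_eq C ((x • P).subtype hle) (P.subtype hPC)
    rw [Sylow.smul_subtype] at hc
    have h2 : ((c : G) * x) • P = P := by
      rw [mul_smul]; exact Sylow.subtype_injective hc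
    rw [Sylow.smul_eq_iff_mem_normalizer] at h2
    have h3 : x = (c : G)⁻¹ * ((c : G) * x) := by group
    rw [h3]
    exact Subgroup.mul_mem _ (Subgroup.mem_sup_right (C.inv_mem c.2))
      (Subgroup.mem_sup_left ⟨N.mul_mem (hCN c.2) hx, h2⟩)
  refine ⟨heq, ?_⟩
  show C.relIndex N ∣ D.relIndex (Subgroup.normalizer ((P : Subgroup G) : Set G))
  have hrel : C.relIndex N = C.relIndex M := by
    conv_lhs => rw [← Subgroup.relIndex_subgroupOf (le_refl N), Subgroup.subgroupOf_self]
    rw [← Subgroup.relIndex_subgroupOf (inf_le_left : M ≤ N)]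
    have : (⊤ : Subgroup N) = M.subgroupOf N ⊔ C.subgroupOf N := by
      rw [← Subgroup.subgroupOf_sup inf_le_left hCN, ← heq, Subgroup.subgroupOf_self]
    rw [this, Subgroup.relIndex_sup_right]
  rw [hrel]
  refine (Subgroup.relIndex_dvd_of_le_left M hDC).trans ?_
  rw [← Subgroup.relIndex_mul_relIndex D M _ hDM inf_le_right]
  exact dvd_mul_right _ _

end Cfsg.Agent.S2268
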