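import Cfsg.Statements.S2269
import Cfsg.Agent.Lib.Perm.AbelianBound
import Mathlib.GroupTheory.SpecificGroups.Alternating
import Mathlib.GroupTheory.SpecificGroups.Alternating.Simple
import Mathlib.GroupTheory.SpecificGroups.KleinFour
import Mathlib.GroupTheory.Transfer
import Mathlib.GroupTheory.GroupAction.Quotient
import Mathlib.NumberTheory.Padics.PadicVal.Basic
import Mathlib.Data.Finite.Perm

set_option autoImplicit false
open Cfsg

namespace Cfsg.Agent.S2269

open Subgroup MulAction

set_option linter.style.haveILetI false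

variable {n : ℕ} {p : ℕ} [hp : Fact p.Prime]

theorem card_sylow_alt (hn : 5 ≤ n) (P : Sylow p (alternatingGroup (Fin n))) :
    Nat.card P = if p = 2 then 2 ^ (padicValNat 2 n.factorial - 1) else p ^ padicValNat p n.factorial := by
  haveI : Nontrivial (Fin n) := Fin.nontrivial_iff_two_le.2 (by omega)
  have h2 : 2 * Nat.card (alternatingGroup (Fin n)) = n.factorial := by
    rw [Nat.card_eq_fintype_card, two_mul_card_alternatingGroup, Fintype.card_perm, Fintype.card_fin]
  have hf : (n.factorial).factorization p =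
      (2 : ℕ).factorization p + (Nat.card (alternatingGroup (Fin n))).factorization p := by
    rw [← h2, Nat.factorization_mul two_ne_zero Nat.card_pos.ne', Finsupp.add_apply]
  rw [Sylow.card_eq_multiplicity P]
  split_ifs with h
  · subst h
    rw [← Nat.factorization_def _ Nat.prime_two, hf, Nat.prime_two.factorization_self, Nat.add_sub_cancel_left]
  · have h0 : (2 : ℕ).factorization p = 0 := Nat.factorization_eq_zero_of_not_dvd fun hd =>
      h ((Nat.prime_dvd_prime_iff_eq hp.out Nat.prime_two).1 hd)
    rw [← Nat.factorization_def _ hp.out, hf, h0, zero_add]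

/-- An abelian `p`-group of permutations has order at most `p ^ (n / p)`. -/
theorem card_le_pow {α : Type*} [Fintype α] (A : Subgroup (Equiv.Perm α)) (hA : IsMulCommutative A)
    (hp' : IsPGroup p A) : Nat.card A ≤ p ^ (Fintype.card α / p) := by
  classical
  haveI := Fintype.ofFinite (orbitRel.Quotient A α)
  have key : ∀ ω : orbitRel.Quotient A α, ∃ a, Nat.card ω.orbit = p ^ a := fun ω => by
    have h : ω.orbit = MulAction.orbit A ω.out := orbitRel.Quotient.orbit_eq_orbit_out ω Quotient.out_eq'
    rw [h, Nat.card_congr (orbitEquivQuotientStabilizer A ω.out)]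
    exact hp'.index (stabilizer A ω.out)
  choose a ha using key
  refine (Cfsg.Lib.AbelianPerm.card_le_prod_orbits A hA).trans ?_
  rw [Finset.prod_congr rfl fun ω _ => ha ω, Finset.prod_pow_eq_pow_sum]
  refine Nat.pow_le_pow_right hp.out.pos ?_
  rw [Nat.le_div_iff_mul_le hp.out.pos, Finset.sum_mul, ← Cfsg.Lib.AbelianPerm.sum_orbits A]
  refine Finset.sum_le_sum fun ω _ => ?_
  rw [ha ω]
  rcases Nat.eq_zero_or_pos (a ω) with h | h
  · simp [h]
  obtain ⟨c, hc⟩ : ∃ c, a ω = c + 1 := ⟨a ω - 1, by omega⟩
  rw [hc, pow_succ]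
  exact Nat.mul_le_mul_right _ (Nat.lt_pow_self hp.out.one_lt)

theorem map_comm {A : Subgroup (alternatingGroup (Fin n))} (hA : IsMulCommutative A) :
    IsMulCommutative (A.map (alternatingGroup (Fin n)).subtype) := ⟨⟨fun a b => Subtype.ext (by
  obtain ⟨x, hx, hxa⟩ := a.2
  obtain ⟨y, hy, hyb⟩ := b.2
  rw [Subgroup.coe_mul, Subgroup.coe_mul, ← hxa, ← hyb, ← map_mul, ← map_mul,
    show x * y = y * x from congrArg Subtype.val (hA.is_comm.comm ⟨x, hx⟩ ⟨y, hy⟩)])⟩⟩

theorem index_eq {G : Type*} [Group G] (P : Subgroup G) :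
    ((centralizer (P : Set G)).subgroupOf (normalizer (P : Set G))).index = Nat.card P.normalizerMonoidHom.range := by
  rw [← P.normalizerMonoidHom_ker, index_ker]

theorem even_index_of {G : Type*} [Group G] [Finite G] (P : Subgroup G) {g y : G}
    (hg : g ∈ normalizer (P : Set G)) (hy : y ∈ P) (hne : g * y * g⁻¹ ≠ y)
    (h2 : ∀ x ∈ P, g * (g * x * g⁻¹) * g⁻¹ = x) :
    2 ∣ ((centralizer (P : Set G)).subgroupOf (normalizer (P : Set G))).index := by
  rw [index_eq]
  haveI : Finite (MulAut P) := Finite.of_injective (fun σ : MulAut P => (σ : P → P)) DFunLike.coe_injective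
  set γ : P.normalizerMonoidHom.range := P.normalizerMonoidHom.rangeRestrict ⟨g, hg⟩
  have hγ : orderOf γ = 2 := by
    refine orderOf_eq_prime (Subtype.ext (MulEquiv.ext fun x => Subtype.ext ?_)) fun h => hne ?_
    · rw [pow_two]
      exact h2 x x.2
    · exact congrArg (fun σ : P.normalizerMonoidHom.range => (((σ : MulAut P) ⟨y, hy⟩ : P) : G)) h
  rw [← hγ]
  exact orderOf_dvd_natCard γ

/-- A regular product of `k` cycles of length `p` and the permutation inverting the first two. -/
theorem exists_model (hp2 : p ≠ 2) {k : ℕ} (hk : 2 ≤ k) (hkn : p * k ≤ n) :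
    ∃ (Q : Subgroup (alternatingGroup (Fin n))) (g y : alternatingGroup (Fin n)),
      IsPGroup p Q ∧ Nat.card Q = p ^ k ∧ g ∈ normalizer (Q : Set (alternatingGroup (Fin n))) ∧ y ∈ Q ∧
        g * y * g⁻¹ ≠ y ∧ ∀ x ∈ Q, g * (g * x * g⁻¹) * g⁻¹ = x := by
  classical
  haveI : NeZero p := ⟨hp.out.ne_zero⟩
  let f : Fin k × ZMod p ↪ Fin n :=
    (Fintype.equivFin _).toEmbedding.trans (Fin.castLEEmb (by simp [ZMod.card, mul_comm]; exact hkn))
  let E : Equiv.Perm (Fin k × ZMod p) →* Equiv.Perm (Fin n) := Equiv.Perm.viaEmbeddingHom f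
  let T : Multiplicative (Fin k → ZMod p) →* Equiv.Perm (Fin k × ZMod p) :=
    { toFun := fun v => Equiv.prodCongrRight fun i => Equiv.addLeft (v.toAdd i)
      map_one' := Equiv.ext fun ⟨i, z⟩ => Prod.ext rfl (zero_add z)
      map_mul' := fun v w => Equiv.ext fun ⟨i, z⟩ => Prod.ext rfl (add_assoc (v.toAdd i) (w.toAdd i) z) }
  have hEinj : Function.Injective E := Equiv.Perm.viaEmbeddingHom_injective f
  have hsign : ∀ σ, Equiv.Perm.sign (E σ) = Equiv.Perm.sign σ := fun σ => by
    simp [E, Equiv.Perm.viaEmbeddingHom_apply, Equiv.Perm.viaEmbedding, Equiv.Perm.sign_extendDomain]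
  have hTe : ∀ v, E (T v) ∈ alternatingGroup (Fin n) := fun v => by
    rw [Equiv.Perm.mem_alternatingGroup, hsign]
    have h1 : v ^ p = 1 := by
      show p • v.toAdd = 0
      funext i
      simp
    have h2 := congrArg Equiv.Perm.sign (congrArg T h1)
    rw [map_pow, map_pow, map_one, map_one] at h2
    rcases Int.units_eq_one_or (Equiv.Perm.sign (T v)) with h | h
    · exact h
    · rw [h, (hp.out.odd_of_ne_two hp2).neg_one_pow] at h2
      exact absurd h2 (by decide)
  let φ : Multiplicative (Fin k → ZMod p) →* alternatingGroup (Fin n) := (E.comp T).codRestrict _ hTe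
  have hφ : Function.Injective φ := fun v w h => by
    have h' := hEinj (congrArg Subtype.val h)
    refine Multiplicative.toAdd.injective (funext fun i => ?_)
    have h'' := congrArg Prod.snd (Equiv.ext_iff.1 h' (i, 0))
    change v.toAdd i + 0 = w.toAdd i + 0 at h''
    simpa using h''
  let i0 : Fin k := ⟨0, by omega⟩
  let i1 : Fin k := ⟨1, by omega⟩
  let ε : Fin k → Equiv.Perm (ZMod p) := fun i => if i = i0 ∨ i = i1 then Equiv.neg _ else 1
  let σ : Equiv.Perm (Fin k × ZMod p) := Equiv.prodCongrRight ε
  have hσ : E σ ∈ alternatingGroup (Fin n) := by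
    rw [Equiv.Perm.mem_alternatingGroup, hsign, Equiv.Perm.sign_prodCongrRight,
      ← Finset.prod_subset (Finset.subset_univ ({i0, i1} : Finset (Fin k))) (fun i _ hi => by
        simp only [Finset.mem_insert, Finset.mem_singleton] at hi
        simp [ε, hi]), Finset.prod_pair (by simp [i0, i1])]
    simp [ε]
  let sgn : (Fin k → ZMod p) → (Fin k → ZMod p) := fun v i => if i = i0 ∨ i = i1 then -v i else v i
  have hconj : ∀ v, (⟨E σ, hσ⟩ : alternatingGroup (Fin n)) * φ v * (⟨E σ, hσ⟩ : alternatingGroup (Fin n))⁻¹ =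
      φ (Multiplicative.ofAdd (sgn v.toAdd)) := fun v => by
    refine mul_inv_eq_iff_eq_mul.2 (Subtype.ext ?_)
    show E σ * E (T v) = E (T _) * E σ
    rw [← map_mul, ← map_mul]
    refine congrArg E (Equiv.ext fun ⟨i, z⟩ => Prod.ext rfl ?_)
    show ε i (v.toAdd i + z) = sgn v.toAdd i + ε i z
    simp only [ε, sgn]
    split_ifs <;> simp [add_comm]
  have hss : ∀ v, sgn (sgn v) = v := fun v => funext fun i => by simp only [sgn]; split_ifs <;> simp
  refine ⟨φ.range, ⟨E σ, hσ⟩, φ (Multiplicative.ofAdd fun _ => 1), ?_, ?_, ?_, ⟨_, rfl⟩, ?_, ?_⟩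
  · refine IsPGroup.of_card (n := k) ?_
    rw [← Nat.card_congr (MonoidHom.ofInjective hφ).toEquiv]
    show Nat.card (Fin k → ZMod p) = _
    simp
  · rw [← Nat.card_congr (MonoidHom.ofInjective hφ).toEquiv]
    show Nat.card (Fin k → ZMod p) = _
    simp
  · rw [mem_normalizer_iff]
    intro x
    refine ⟨?_, fun hx => ?_⟩
    · rintro ⟨v, rfl⟩
      exact ⟨_, (hconj v).symm⟩
    · obtain ⟨v, hv⟩ := hx
      refine ⟨Multiplicative.ofAdd (sgn v.toAdd), ?_⟩
      have h := hconj (Multiplicative.ofAdd (sgn v.toAdd))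
      rw [toAdd_ofAdd, hss, ofAdd_toAdd, hv] at h
      exact mul_left_cancel (mul_right_cancel h)
  · rw [hconj]
    intro h
    have h' := congrFun (congrArg Multiplicative.toAdd (hφ h)) i0
    simp [sgn] at h'
    have h2 : (2 : ZMod p) = 0 := by linear_combination (-1 : ZMod p) * h'
    exact hp2 (((Nat.prime_dvd_prime_iff_eq hp.out Nat.prime_two).1
      ((ZMod.natCast_eq_zero_iff _ _).1 (by exact_mod_cast h2))))
  · rintro _ ⟨v, rfl⟩
    rw [hconj, hconj, toAdd_ofAdd, hss, ofAdd_toAdd]

theorem main (hn : 5 ≤ n) (P : Sylow p (alternatingGroup (Fin n)))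
    (hP : IsMulCommutative (P : Subgroup (alternatingGroup (Fin n)))) :
    (¬ (n = 5 ∧ p = 2) → 2 ∣ ((centralizer ((P : Subgroup (alternatingGroup (Fin n))) : Set (alternatingGroup (Fin n)))).subgroupOf (normalizer ((P : Subgroup (alternatingGroup (Fin n))) : Set (alternatingGroup (Fin n))))).index ∨ IsCyclic (P : Subgroup (alternatingGroup (Fin n)))) ∧
    ((n = 5 ∧ p = 2) → ((centralizer ((P : Subgroup (alternatingGroup (Fin n))) : Set (alternatingGroup (Fin n)))).subgroupOf (normalizer ((P : Subgroup (alternatingGroup (Fin n))) : Set (alternatingGroup (Fin n))))).index = 3 ∧ IsKleinFour (P : Subgroup (alternatingGroup (Fin n)))) := by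
  classical
  haveI : Nontrivial (Fin n) := Fin.nontrivial_iff_two_le.2 (by omega)
  refine ⟨fun hne => ?_, ?_⟩
  · by_cases hp2 : p = 2
    · -- for `p = 2` and `n ≥ 6` the Sylow subgroup is not abelian
      subst hp2
      have h6 : 6 ≤ n := by omega
      exfalso
      let a : Fin 6 ↪ Fin n := Fin.castLEEmb h6
      let E : Equiv.Perm (Fin 6) →* Equiv.Perm (Fin n) := Equiv.Perm.viaEmbeddingHom a
      have hsign : ∀ σ, Equiv.Perm.sign σ = 1 → E σ ∈ alternatingGroup (Fin n) := fun σ hσ => by
        rw [Equiv.Perm.mem_alternatingGroup]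
        simp [E, Equiv.Perm.viaEmbeddingHom_apply, Equiv.Perm.viaEmbedding, Equiv.Perm.sign_extendDomain, hσ]
      let g : alternatingGroup (Fin n) := ⟨E (Equiv.swap 0 1 * Equiv.swap 2 3), hsign _ (by decide)⟩
      let g' : alternatingGroup (Fin n) := ⟨E (Equiv.swap 2 1 * Equiv.swap 0 3), hsign _ (by decide)⟩
      let h : alternatingGroup (Fin n) := ⟨E (Equiv.swap 0 2 * Equiv.swap 4 5), hsign _ (by decide)⟩
      have hE : ∀ {σ τ : Equiv.Perm (Fin 6)}, σ = τ → E σ = E τ := fun h => congrArg E h
      have hgg : g * g = 1 := Subtype.ext (by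
        show E _ * E _ = 1; rw [← map_mul, ← map_one E]; exact hE (by decide))
      have hgg' : g' * g' = 1 := Subtype.ext (by
        show E _ * E _ = 1; rw [← map_mul, ← map_one E]; exact hE (by decide))
      have hhh : h * h = 1 := Subtype.ext (by
        show E _ * E _ = 1; rw [← map_mul, ← map_one E]; exact hE (by decide))
      have hcomm : g * g' = g' * g := Subtype.ext (by
        show E _ * E _ = E _ * E _; rw [← map_mul, ← map_mul]; exact hE (by decide))
      have hhg : h * g * h⁻¹ = g' := mul_inv_eq_iff_eq_mul.2 (Subtype.ext (by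
        show E _ * E _ = E _ * E _; rw [← map_mul, ← map_mul]; exact hE (by decide)))
      have hhg' : h * g' * h⁻¹ = g := mul_inv_eq_iff_eq_mul.2 (Subtype.ext (by
        show E _ * E _ = E _ * E _; rw [← map_mul, ← map_mul]; exact hE (by decide)))
      have hne' : h * g ≠ g * h := fun e => absurd (Equiv.Perm.viaEmbeddingHom_injective a
        ((map_mul E _ _).trans ((congrArg Subtype.val e).trans (map_mul E _ _).symm))) (by decide)
      have hpg : ∀ {u : alternatingGroup (Fin n)}, u * u = 1 → IsPGroup 2 (zpowers u) := fun {u} hu =>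
        fun ⟨w, i, hw⟩ => ⟨1, Subtype.ext (by
          subst hw
          show (u ^ i) ^ (2 ^ 1) = 1
          rw [pow_one, pow_two, ← (Commute.refl u).mul_zpow, hu, one_zpow])⟩
      set V := zpowers g ⊔ zpowers g'
      have hV : IsPGroup 2 V := IsPGroup.to_sup_of_normal_right' (hpg hgg) (hpg hgg')
        (zpowers_le.2 (centralizer_le_normalizer _ (by
          rw [zpowers_eq_closure, centralizer_closure]
          exact mem_centralizer_singleton_iff.2 hcomm)))
      have hnV : h ∈ normalizer (V : Set (alternatingGroup (Fin n))) := by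
        have hle : V ≤ V.comap (MulAut.conj h).toMonoidHom := by
          refine sup_le (zpowers_le.2 ?_) (zpowers_le.2 ?_)
          · show h * g * h⁻¹ ∈ V
            rw [hhg]; exact (le_sup_right : zpowers g' ≤ V) (mem_zpowers g')
          · show h * g' * h⁻¹ ∈ V
            rw [hhg']; exact (le_sup_left : zpowers g ≤ V) (mem_zpowers g)
        exact mem_normalizer_fintype fun x hx => hle hx
      obtain ⟨R, hR⟩ := (IsPGroup.to_sup_of_normal_right' (hpg hhh) hV (zpowers_le.2 hnV)).exists_le_sylow
      haveI := hP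
      haveI hRc : IsMulCommutative (R : Subgroup (alternatingGroup (Fin n))) := ⟨⟨fun x y =>
        (Sylow.equiv R P).injective (by rw [map_mul, map_mul, hP.is_comm.comm])⟩⟩
      exact hne' (congrArg Subtype.val (hRc.is_comm.comm
        ⟨h, hR ((le_sup_left : zpowers h ≤ zpowers h ⊔ V) (mem_zpowers h))⟩
        ⟨g, hR ((le_sup_right : V ≤ zpowers h ⊔ V) ((le_sup_left : zpowers g ≤ V) (mem_zpowers g)))⟩))
    · -- odd `p`
      by_cases hcyc : IsCyclic (P : Subgroup (alternatingGroup (Fin n)))
      · exact Or.inr hcyc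
      refine Or.inl ?_
      set k := padicValNat p n.factorial with hk
      have hPk : Nat.card P = p ^ k := by rw [card_sylow_alt hn P, if_neg hp2]
      have hk2 : 2 ≤ k := by
        by_contra h
        refine hcyc ?_
        interval_cases k
        · haveI : Subsingleton (P : Subgroup (alternatingGroup (Fin n))) :=
            (Nat.card_eq_one_iff_unique.1 (by rw [hPk, pow_zero])).1
          exact isCyclic_of_subsingleton
        · exact isCyclic_of_prime_card (p := p) (by rw [hPk, pow_one])
      have hle : k ≤ n / p := by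
        have h := card_le_pow (p := p) ((P : Subgroup (alternatingGroup (Fin n))).map
          (alternatingGroup (Fin n)).subtype) (map_comm hP) (P.2.map _)
        rw [card_map_of_injective (alternatingGroup (Fin n)).subtype_injective, hPk, Fintype.card_fin] at h
        exact (Nat.pow_le_pow_iff_right hp.out.one_lt).1 h
      obtain ⟨Q, g, y, hQ, hQc, hg, hy, hne, h2⟩ := exists_model (n := n) hp2 hk2
        (by rw [mul_comm]; exact (Nat.mul_le_mul_right p hle).trans (Nat.div_mul_le_self n p))
      obtain ⟨R, hR⟩ := hQ.exists_le_sylow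
      have hRQ : (R : Subgroup (alternatingGroup (Fin n))) = Q :=
        (eq_of_le_of_card_ge hR (by rw [hQc, card_sylow_alt hn R, if_neg hp2])).symm
      obtain ⟨c, hc⟩ := MulAction.exists_smul_eq (alternatingGroup (Fin n)) R P
      have hPe : (P : Subgroup (alternatingGroup (Fin n))) = Q.map (MulAut.conj c).toMonoidHom := by
        rw [← hc, ← hRQ]; rfl
      have hcn : ∀ {w}, MulAut.conj c w ∈ (P : Subgroup (alternatingGroup (Fin n))) ↔ w ∈ Q := fun {w} => by
        rw [hPe]; exact mem_map_iff_mem (MulAut.conj c).injective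
      refine even_index_of _ (g := MulAut.conj c g) (y := MulAut.conj c y) ?_ (hcn.2 hy) ?_ ?_
      · rw [mem_normalizer_iff]
        intro w
        obtain ⟨w', rfl⟩ := (MulAut.conj c).surjective w
        rw [← map_inv, ← map_mul, ← map_mul, hcn, hcn]
        exact mem_normalizer_iff.1 hg w'
      · rw [← map_inv, ← map_mul, ← map_mul]
        exact fun e => hne ((MulAut.conj c).injective e)
      · intro w hw
        obtain ⟨w', rfl⟩ := (MulAut.conj c).surjective w
        rw [← map_inv, ← map_mul, ← map_mul, ← map_mul, ← map_mul, h2 w' (hcn.1 hw)]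
  · rintro ⟨rfl, rfl⟩
    haveI := alternatingGroup.isSimpleGroup_five
    have hG : Nat.card (alternatingGroup (Fin 5)) = 60 := by
      have := two_mul_card_alternatingGroup (α := Fin 5)
      rw [Fintype.card_perm, Fintype.card_fin, ← Nat.card_eq_fintype_card] at this
      rw [show Nat.factorial 5 = 120 from rfl] at this
      omega
    have hP4 : Nat.card P = 4 := by
      have h := Sylow.card_eq_multiplicity P
      have hc : 2 * Nat.card (alternatingGroup (Fin 5)) = 120 := by omega
      rw [hG] at h
      rw [h, show (60 : ℕ) = 2 ^ 2 * 15 by norm_num, Nat.factorization_mul (by norm_num) (by norm_num),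
        Finsupp.add_apply, Nat.prime_two.factorization_pow, Finsupp.single_eq_same,
        Nat.factorization_eq_zero_of_not_dvd (by norm_num : ¬ 2 ∣ 15)]
      norm_num
    have hburn : ¬ normalizer ((P : Subgroup (alternatingGroup (Fin 5))) : Set (alternatingGroup (Fin 5))) ≤ centralizer ((P : Subgroup (alternatingGroup (Fin 5))) : Set (alternatingGroup (Fin 5))) := by
      intro hle
      haveI : (P : Subgroup (alternatingGroup (Fin 5))).FiniteIndex := inferInstance
      have hc := MonoidHom.ker_transferSylow_isComplement' P hle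
      have h := hc.card_mul
      rw [hP4, hG] at h
      rcases (MonoidHom.transferSylow P hle).normal_ker.eq_bot_or_eq_top with e | e <;> rw [e] at h
      · rw [card_bot] at h; norm_num at h
      · rw [card_top, hG] at h; norm_num at h
    have hncyc : ¬ IsCyclic (P : Subgroup (alternatingGroup (Fin 5))) := fun h => hburn (h.normalizer_le_centralizer (by rw [hG]; norm_num))
    have hexp : ∀ x : (P : Subgroup (alternatingGroup (Fin 5))), x ^ 2 = 1 := by
      intro x
      have h4 : orderOf x ∣ 2 ^ 2 := by rw [show (2 : ℕ) ^ 2 = 4 by norm_num, ← hP4]; exact orderOf_dvd_natCard x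
      obtain ⟨i, hi, hx⟩ := (Nat.dvd_prime_pow Nat.prime_two).1 h4
      have hi2 : i ≠ 2 := fun e => hncyc (isCyclic_of_orderOf_eq_card x (by rw [hx, e, hP4]; rfl))
      exact orderOf_dvd_iff_pow_eq_one.1 (hx ▸ (pow_dvd_pow 2 (show i ≤ 1 by omega)))
    refine ⟨?_, ⟨hP4, ?_⟩⟩
    · rw [index_eq]
      haveI : Finite (MulAut (P : Subgroup (alternatingGroup (Fin 5)))) :=
        Finite.of_injective (fun σ : MulAut (P : Subgroup (alternatingGroup (Fin 5))) => (σ : _ → _)) DFunLike.coe_injective
      have hne : Nat.card (P : Subgroup (alternatingGroup (Fin 5))).normalizerMonoidHom.range ≠ 1 := fun h => hburn (by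
        have h' := card_eq_one.1 h
        rw [MonoidHom.range_eq_bot_iff, ← MonoidHom.ker_eq_top_iff, normalizerMonoidHom_ker, subgroupOf_eq_top] at h'
        exact h')
      have hodd : ¬ 2 ∣ Nat.card (P : Subgroup (alternatingGroup (Fin 5))).normalizerMonoidHom.range := by
        rw [← index_eq]
        intro hd
        refine P.not_dvd_index (hd.trans ?_)
        refine dvd_trans ?_ (relIndex_dvd_index_of_le (le_normalizer (H := (P : Subgroup (alternatingGroup (Fin 5))))))
        exact index_dvd_of_le (fun w hw => mem_centralizer_iff.2 fun v hv =>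
          congrArg Subtype.val (hP.is_comm.comm ⟨v, hv⟩ ⟨_, hw⟩))
      let ι : MulAut (P : Subgroup (alternatingGroup (Fin 5))) →* Equiv.Perm {x : (P : Subgroup (alternatingGroup (Fin 5))) // x ≠ 1} :=
        { toFun := fun σ => Equiv.Perm.subtypePerm σ.toEquiv fun x => not_congr (MulEquiv.map_eq_one_iff σ)
          map_one' := rfl
          map_mul' := fun _ _ => rfl }
      have hι : Function.Injective ι := fun σ τ h => MulEquiv.ext fun x => by
        by_cases hx : x = 1
        · rw [hx, map_one, map_one]
        · exact congrArg Subtype.val (Equiv.ext_iff.1 h ⟨x, hx⟩)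
      have h6 : Nat.card (P : Subgroup (alternatingGroup (Fin 5))).normalizerMonoidHom.range ∣ 6 := by
        refine (card_subgroup_dvd_card _).trans ((card_dvd_of_injective ι hι).trans (dvd_of_eq ?_))
        rw [Nat.card_perm, Nat.card_eq_fintype_card, Fintype.card_subtype_compl, Fintype.card_subtype_eq,
          ← Nat.card_eq_fintype_card, hP4]
        rfl
      have hle := Nat.le_of_dvd (by norm_num) h6
      interval_cases Nat.card (P : Subgroup (alternatingGroup (Fin 5))).normalizerMonoidHom.range <;> omega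
    · haveI : Nontrivial (P : Subgroup (alternatingGroup (Fin 5))) :=
        Finite.one_lt_card_iff_nontrivial.1 (by rw [hP4]; norm_num)
      refine (Monoid.exponent_eq_prime_iff Nat.prime_two).2 fun x hx => orderOf_eq_prime (hexp x) hx

/-- Let n ≥ 5 and let P be an abelian Sylow p-subgroup of the alternating group A_n. Then N(P)/C(P) (taken in A_n) has even order, or P is cyclic, except when n = 5 and p = 2, where P is a four-group and N(P)/C(P) has order 3. -/
theorem result (n : ℕ) (hn : 5 ≤ n) {p : ℕ} [Fact p.Prime]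
    (P : Sylow p (alternatingGroup (Fin n))) (hP : IsMulCommutative (P : Subgroup (alternatingGroup (Fin n)))) :
    (¬ (n = 5 ∧ p = 2) → 2 ∣ ((Subgroup.centralizer ((P : Subgroup (alternatingGroup (Fin n))) : Set (alternatingGroup (Fin n)))).subgroupOf (Subgroup.normalizer ((P : Subgroup (alternatingGroup (Fin n))) : Set (alternatingGroup (Fin n))))).index ∨ IsCyclic (P : Subgroup (alternatingGroup (Fin n)))) ∧
    ((n = 5 ∧ p = 2) → ((Subgroup.centralizer ((P : Subgroup (alternatingGroup (Fin n))) : Set (alternatingGroup (Fin n)))).subgroupOf (Subgroup.normalizer ((P : Subgroup (alternatingGroup (Fin n))) : Set (alternatingGroup (Fin n))))).index = 3 ∧ IsKleinFour (P : Subgroup (alternatingGroup (Fin n)))) := by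
  exact main hn P hP

end Cfsg.Agent.S2269
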