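import Cfsg.Statements.S2270


set_option autoImplicit false
open Cfsg

namespace Cfsg.Agent.S2270

/-- Let n ≥ 3, p an odd prime, and P an abelian Sylow p-subgroup of the symmetric group S_n (with p dividing n!, so that P ≠ 1). Then N(P)/C(P) has even order. -/
theorem result (n : ℕ) (hn : 3 ≤ n) {p : ℕ} [Fact p.Prime] (hp : p ≠ 2) (hpn : p ≤ n)
    (P : Sylow p (Equiv.Perm (Fin n))) (hP : IsMulCommutative (P : Subgroup (Equiv.Perm (Fin n)))) :
    2 ∣ ((Subgroup.centralizer ((P : Subgroup (Equiv.Perm (Fin n))) : Set (Equiv.Perm (Fin n)))).subgroupOf (Subgroup.normalizer ((P : Subgroup (Equiv.Perm (Fin n))) : Set (Equiv.Perm (Fin n))))).index := by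
  classical
  have hpdvd : p ∣ Nat.card (Equiv.Perm (Fin n)) := by
    rw [Nat.card_perm, Nat.card_fin]
    exact (Nat.Prime.dvd_factorial (Fact.out : p.Prime)).2 hpn
  have hne : (P : Subgroup (Equiv.Perm (Fin n))) ≠ ⊥ := P.ne_bot_of_dvd_card hpdvd
  have hnt := (Subgroup.nontrivial_iff_ne_bot _).2 hne
  obtain ⟨⟨g, hg⟩, hg1⟩ := exists_ne (1 : ↥(P : Subgroup (Equiv.Perm (Fin n))))
  have hgne : g ≠ 1 := fun h => hg1 (Subtype.ext h)
  have hconj : IsConj g g⁻¹ := Equiv.Perm.isConj_iff_cycleType_eq.2 (Equiv.Perm.cycleType_inv g).symm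
  obtain ⟨c, hc⟩ := isConj_iff.1 hconj
  have hy : (c⁻¹)⁻¹ * g * c⁻¹ ∈ P := by rw [inv_inv, hc]; exact (P : Subgroup (Equiv.Perm (Fin n))).inv_mem hg
  obtain ⟨x, hx, hxe⟩ := P.conj_eq_normalizer_conj_of_mem g c⁻¹ hg hy
  rw [inv_inv, hc] at hxe
  set N := Subgroup.normalizer ((P : Subgroup (Equiv.Perm (Fin n))) : Set (Equiv.Perm (Fin n))) with hN
  set C := (Subgroup.centralizer ((P : Subgroup (Equiv.Perm (Fin n))) : Set (Equiv.Perm (Fin n)))).subgroupOf N with hC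
  haveI : C.Normal := Subgroup.normal_subgroupOf_centralizer_normalizer _
  obtain ⟨k, hk⟩ : ∃ k, k = C.index := ⟨_, rfl⟩
  rw [← hk]
  by_contra hodd
  have hmem : (⟨x, hx⟩ : N) ^ k ∈ C := hk ▸ C.pow_index_mem _
  have hcomm : Commute g (x ^ k) := (Subgroup.mem_centralizer_iff.1 hmem g hg)
  have hpow : ∀ j : ℕ, (x ^ j)⁻¹ * g * x ^ j = if j % 2 = 0 then g else g⁻¹ := by
    intro j
    induction j with
    | zero => simp
    | succ j ih =>
      rw [pow_succ, mul_inv_rev, show x⁻¹ * (x ^ j)⁻¹ * g * (x ^ j * x) = x⁻¹ * ((x ^ j)⁻¹ * g * x ^ j) * x by group, ih]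
      rcases Nat.mod_two_eq_zero_or_one j with h | h
      · rw [if_pos h, if_neg (by omega), ← hxe]
      · rw [if_neg (by omega), if_pos (by omega)]
        calc x⁻¹ * g⁻¹ * x = (x⁻¹ * g * x)⁻¹ := by group
          _ = (g⁻¹)⁻¹ := by rw [← hxe]
          _ = g := inv_inv g
  have h2 := hpow k
  rw [if_neg (fun h => hodd (Nat.dvd_of_mod_eq_zero h)), mul_assoc, hcomm.eq, inv_mul_cancel_left] at h2
  have h3 : g ^ 2 = 1 := by rw [sq]; nth_rewrite 2 [h2]; rw [mul_inv_cancel]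
  have h4 : orderOf g ∣ 2 := orderOf_dvd_of_pow_eq_one h3
  obtain ⟨j, hj⟩ := (IsPGroup.iff_orderOf.1 P.2) ⟨g, hg⟩
  have hgo : orderOf g = p ^ j := by rw [← hj]; exact (Subgroup.orderOf_coe (⟨g, hg⟩ : ↥(P : Subgroup (Equiv.Perm (Fin n))))).symm ▸ rfl
  rw [hgo] at h4
  rcases j with _ | j
  · exact hgne (orderOf_eq_one_iff.1 (by rw [hgo, pow_zero]))
  · have := Nat.le_of_dvd (by norm_num) ((dvd_pow_self p (by omega : j + 1 ≠ 0)).trans h4)
    have := (Fact.out : p.Prime).two_le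
    omega

end Cfsg.Agent.S2270
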