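import Mathlib

set_option autoImplicit false

namespace Cfsg.Agent.S2271

open Equiv Finset

variable {n : ℕ}

/-- The points at which two permutations agree. -/
def agr (b c : Perm (Fin n)) : ℕ := (univ.filter fun x => b x = c x).card

theorem exists_extend {ι : Type*} [Fintype ι] (e₁ e₂ : ι → Fin n) (h₁ : Function.Injective e₁)
    (h₂ : Function.Injective e₂) : ∃ σ : Perm (Fin n), ∀ i, σ (e₁ i) = e₂ i := by
  classical
  let e : {x // x ∈ Set.range e₁} ≃ {x // x ∈ Set.range e₂} :=
    (Equiv.ofInjective e₁ h₁).symm.trans (Equiv.ofInjective e₂ h₂)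
  refine ⟨e.extendSubtype, fun i => ?_⟩
  rw [Equiv.extendSubtype_apply_of_mem e _ ⟨i, rfl⟩]
  show ((Equiv.ofInjective e₂ h₂) ((Equiv.ofInjective e₁ h₁).symm ⟨e₁ i, ⟨i, rfl⟩⟩) : Fin n) = e₂ i
  have : (Equiv.ofInjective e₁ h₁).symm ⟨e₁ i, ⟨i, rfl⟩⟩ = i := by
    rw [Equiv.symm_apply_eq]; rfl
  rw [this]; rfl

theorem exists_even {ι : Type*} [Fintype ι] (e₁ e₂ : ι → Fin n) (h₁ : Function.Injective e₁)
    (h₂ : Function.Injective e₂) (hk : Fintype.card ι + 2 ≤ n) :
    ∃ σ : Perm (Fin n), Perm.sign σ = 1 ∧ ∀ i, σ (e₁ i) = e₂ i := by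
  classical
  obtain ⟨σ, hσ⟩ := exists_extend e₁ e₂ h₁ h₂
  rcases Int.units_eq_one_or (Perm.sign σ) with h | h
  · exact ⟨σ, h, hσ⟩
  · have hc : 1 < ((univ : Finset (Fin n)) \ univ.image e₂).card := by
      rw [Finset.card_univ_diff, Fintype.card_fin]
      have := Finset.card_image_le (s := (univ : Finset ι)) (f := e₂)
      rw [Finset.card_univ] at this
      omega
    obtain ⟨p, hp, q, hq, hpq⟩ := Finset.one_lt_card.1 hc
    refine ⟨swap p q * σ, by simp [Perm.sign_swap hpq, h], fun i => ?_⟩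
    simp only [Finset.mem_sdiff, Finset.mem_image, Finset.mem_univ, true_and, not_exists] at hp hq
    rw [Perm.mul_apply, hσ, swap_apply_of_ne_of_ne]
    · exact hp i
    · exact hq i

theorem agr_ge {ι : Type*} [Fintype ι] (b c σ : Perm (Fin n)) (e₁ e₂ : ι → Fin n)
    (h₂ : Function.Injective e₂) (hσ : ∀ i, σ (e₁ i) = e₂ i)
    (hσb : ∀ i, σ (b (e₁ i)) = c (e₂ i)) : Fintype.card ι ≤ agr (σ * b * σ⁻¹) c := by
  classical
  rw [← Finset.card_univ, ← Finset.card_image_of_injective univ h₂, agr]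
  refine Finset.card_le_card fun y hy => ?_
  obtain ⟨i, -, rfl⟩ := Finset.mem_image.1 hy
  refine Finset.mem_filter.2 ⟨Finset.mem_univ _, ?_⟩
  rw [Perm.mul_apply, Perm.mul_apply, show σ⁻¹ (e₂ i) = e₁ i by rw [← hσ i]; simp]
  exact hσb i

/-- The number of fixed points. -/
def nfix (b : Perm (Fin n)) : ℕ := (univ.filter fun x => b x = x).card

theorem average (hn : 5 ≤ n) (b c : Perm (Fin n)) (K : ℕ)
    (hK : ∀ h : Perm (Fin n), Perm.sign h = 1 → agr (h * b * h⁻¹) c = K) :
    K * (n - 1) + nfix b + nfix c = nfix b * nfix c + n := by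
  classical
  set A : Finset (Perm (Fin n)) := univ.filter fun h => Perm.sign h = 1 with hAdef
  let N : Fin n → Fin n → ℕ := fun x y => (A.filter fun h => (h * b * h⁻¹) x = y).card
  have hinv : ∀ g : Perm (Fin n), Perm.sign g = 1 → ∀ x y, N (g x) (g y) = N x y := by
    intro g hg x y
    refine Finset.card_bij' (fun h _ => g⁻¹ * h) (fun h _ => g * h) ?_ ?_
      (fun h _ => mul_inv_cancel_left g h) (fun h _ => inv_mul_cancel_left g h)
    · intro h hh
      simp only [Finset.mem_filter, hAdef, Finset.mem_univ, true_and] at hh ⊢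
      refine ⟨by simp [hg, hh.1], ?_⟩
      apply g.injective
      rw [← hh.2]
      simp [mul_assoc]
    · intro h hh
      simp only [Finset.mem_filter, hAdef, Finset.mem_univ, true_and] at hh ⊢
      refine ⟨by simp [hg, hh.1], ?_⟩
      rw [← hh.2]
      simp [mul_assoc]
  have x₀ : Fin n := ⟨0, by omega⟩
  have y₀ : Fin n := ⟨0, by omega⟩
  have hdiag : ∀ x y, N x x = N y y := by
    intro x y
    obtain ⟨g, hg, hgx⟩ := exists_even (fun _ : Unit => x) (fun _ : Unit => y)
      (Function.injective_of_subsingleton _) (Function.injective_of_subsingleton _)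
      (by simp; omega)
    have hgx' : g x = y := hgx ()
    rw [← hinv g hg x x, hgx']
  have hinj : ∀ x y : Fin n, x ≠ y → Function.Injective ![x, y] := by
    intro x y hxy i j hij
    fin_cases i <;> fin_cases j <;> simp_all
  have hoff : ∀ x y u v, x ≠ y → u ≠ v → N x y = N u v := by
    intro x y u v hxy huv
    obtain ⟨g, hg, hgx⟩ := exists_even ![x, y] ![u, v] (hinj x y hxy) (hinj u v huv)
      (by simp; omega)
    have h0 : g x = u := hgx 0
    have h1 : g y = v := hgx 1
    rw [← hinv g hg x y, h0, h1]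
  let z0 : Fin n := ⟨0, by omega⟩
  let z1 : Fin n := ⟨1, by omega⟩
  have hz : z0 ≠ z1 := by simp [z0, z1]
  set D := N z0 z0 with hD
  set E := N z0 z1 with hE
  have hrow : D + (n - 1) * E = A.card := by
    have h := Finset.card_eq_sum_card_fiberwise (s := A) (t := (univ : Finset (Fin n)))
      (f := fun h => (h * b * h⁻¹) z0) (fun _ _ => Finset.mem_univ _)
    rw [h, ← Finset.add_sum_erase _ _ (Finset.mem_univ z0)]
    have : ∀ y ∈ (univ : Finset (Fin n)).erase z0, N z0 y = E := fun y hy =>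
      hoff _ _ _ _ (Finset.ne_of_mem_erase hy).symm hz
    rw [Finset.sum_congr rfl this, Finset.sum_const, Finset.card_erase_of_mem (Finset.mem_univ _),
      Finset.card_univ, Fintype.card_fin, smul_eq_mul]
  have hswap : ∀ f : Fin n → Fin n, ∑ x, N x (f x) =
      ∑ h ∈ A, (univ.filter fun x => (h * b * h⁻¹) x = f x).card := by
    intro f
    simp only [N, Finset.card_filter]
    rw [Finset.sum_comm]
  have hfixc : ∀ h : Perm (Fin n),
      (univ.filter fun x => (h * b * h⁻¹) x = id x).card = nfix b := by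
    intro h
    refine Finset.card_bij' (fun x _ => h⁻¹ x) (fun x _ => h x) ?_ ?_ (fun x _ => by simp)
      (fun x _ => by simp)
    · intro x hx
      have hx' : h (b (h⁻¹ x)) = x := (Finset.mem_filter.1 hx).2
      refine Finset.mem_filter.2 ⟨Finset.mem_univ _, ?_⟩
      apply h.injective
      rw [hx']; simp
    · intro x hx
      have hx' : b x = x := (Finset.mem_filter.1 hx).2
      refine Finset.mem_filter.2 ⟨Finset.mem_univ _, ?_⟩
      simp [hx']
  have hDn : n * D = nfix b * A.card := by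
    have h := hswap id
    have e1 : ∑ x, N x (id x) = ∑ _x : Fin n, D := Finset.sum_congr rfl fun x _ => hdiag x z0
    rw [e1, Finset.sum_const,
      Finset.card_univ, Fintype.card_fin, smul_eq_mul,
      Finset.sum_congr rfl (fun x _ => hfixc x), Finset.sum_const, smul_eq_mul] at h
    rw [h]; ring
  have hcn : nfix c ≤ n := le_trans (Finset.card_le_univ _) (le_of_eq (Fintype.card_fin n))
  have htot : nfix c * D + (n - nfix c) * E = K * A.card := by
    have h := hswap c
    have h' : ∀ g ∈ A, (univ.filter fun x => (g * b * g⁻¹) x = c x).card = K := fun g hg =>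
      hK g (Finset.mem_filter.1 hg).2
    rw [Finset.sum_congr rfl h', Finset.sum_const, smul_eq_mul,
      ← Finset.sum_filter_add_sum_filter_not univ (fun x => c x = x)] at h
    rw [Finset.sum_congr rfl (g := fun _ => D) (fun x hx => by
        rw [(Finset.mem_filter.1 hx).2]; exact hdiag x z0),
      Finset.sum_congr rfl (g := fun _ => E) (fun x hx =>
        hoff _ _ _ _ (Ne.symm (Finset.mem_filter.1 hx).2) hz),
      Finset.sum_const, Finset.sum_const, smul_eq_mul, smul_eq_mul] at h
    have hcompl : (univ.filter fun x => ¬ c x = x).card = n - nfix c := by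
      have := Finset.card_filter_add_card_filter_not (s := (univ : Finset (Fin n)))
        (fun x => c x = x)
      rw [Finset.card_univ, Fintype.card_fin] at this
      simp only [nfix]; omega
    rw [hcompl] at h
    rw [mul_comm K]; exact h
  have hApos : 0 < A.card := Finset.card_pos.2 ⟨1, by simp [hAdef]⟩
  zify [hcn, show 1 ≤ n by omega] at hrow hDn htot ⊢
  have key : ((K : ℤ) * ((n : ℤ) - 1) + nfix b + nfix c - (nfix b * nfix c + n)) *
      ((n : ℤ) * A.card) = 0 := by
    linear_combination (-(n : ℤ) * ((n : ℤ) - 1)) * htot +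
      ((nfix c : ℤ) * ((n : ℤ) - 1) - ((n : ℤ) - nfix c)) * hDn +
      ((n : ℤ) * ((n : ℤ) - nfix c)) * hrow
  rcases mul_eq_zero.1 key with h | h
  · linarith
  · exfalso
    have : (0 : ℤ) < (n : ℤ) * A.card := by positivity
    linarith

theorem nfix_le (b : Perm (Fin n)) (hb : b ≠ 1) : nfix b + 2 ≤ n := by
  classical
  have h := Finset.card_filter_add_card_filter_not (s := (univ : Finset (Fin n)))
    (fun x => b x = x)
  have h2 : (univ.filter fun x => ¬ b x = x) = b.support := by ext; simp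
  rw [h2, Finset.card_univ, Fintype.card_fin] at h
  have := (Perm.two_le_card_support_of_ne_one hb : 2 ≤ b.support.card)
  simp only [nfix]; omega

theorem fixed_enum (b : Perm (Fin n)) (k : ℕ) (hk : k ≤ nfix b) :
    ∃ e : Fin k → Fin n, Function.Injective e ∧ ∀ i, b (e i) = e i := by
  classical
  obtain ⟨s, hs, hsc⟩ := Finset.exists_subset_card_eq
    (s := univ.filter fun x => b x = x) (n := k) hk
  refine ⟨fun i => (s.equivFinOfCardEq hsc).symm i, fun i j h => ?_, fun i => ?_⟩
  · exact (s.equivFinOfCardEq hsc).symm.injective (Subtype.ext h)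
  · exact (Finset.mem_filter.1 (hs ((s.equivFinOfCardEq hsc).symm i).2)).2

theorem two_edges (hn : 5 ≤ n) (b : Perm (Fin n)) (hb : nfix b ≤ 1) :
    ∃ x y : Fin n, Function.Injective ![x, b x, y, b y] := by
  classical
  have h := Finset.card_filter_add_card_filter_not (s := (univ : Finset (Fin n)))
    (fun x => b x = x)
  have h2 : (univ.filter fun x => ¬ b x = x) = b.support := by ext; simp
  rw [h2, Finset.card_univ, Fintype.card_fin] at h
  have h4 : 4 ≤ b.support.card := by simp only [nfix] at hb; omega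
  obtain ⟨x, hx⟩ := Finset.card_pos.1 (show 0 < b.support.card by omega)
  have h3 : ({b⁻¹ x, x, b x} : Finset (Fin n)).card ≤ 3 := Finset.card_le_three
  obtain ⟨y, hy⟩ := Finset.card_pos.1 (show 0 < (b.support \ {b⁻¹ x, x, b x}).card by
    have := Finset.le_card_sdiff ({b⁻¹ x, x, b x} : Finset (Fin n)) b.support
    omega)
  simp only [Finset.mem_sdiff, Perm.mem_support, Finset.mem_insert, Finset.mem_singleton,
    not_or] at hy hx
  obtain ⟨hy1, hy2, hy3, hy4⟩ := hy
  have e1 : b y ≠ x := fun h => hy2 (by rw [← h]; simp)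
  have e2 : b y ≠ b x := fun h => hy3 (b.injective h)
  refine ⟨x, y, ?_⟩
  intro i j hij
  fin_cases i <;> fin_cases j <;> simp_all [eq_comm]

theorem small_centralizer : ∀ b : Perm (Fin 5), (univ.filter fun x => b x = x).card = 1 →
    ∃ z : Perm (Fin 5), Perm.sign z = -1 ∧ z * b = b * z := by
  decide +kernel

theorem edges_conj (hn : 5 ≤ n) (b c : Perm (Fin n)) (hb : nfix b ≤ 1) (hc : nfix c ≤ 1)
    (h1 : nfix b = 1 ∨ nfix c = 1) :
    ∃ h : Perm (Fin n), Perm.sign h = 1 ∧ 2 ≤ agr (h * b * h⁻¹) c := by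
  classical
  obtain ⟨x, y, hxy⟩ := two_edges hn b hb
  obtain ⟨u, v, huv⟩ := two_edges hn c hc
  have fin : ∀ σ : Perm (Fin n), (∀ i, σ (![x, b x, y, b y] i) = ![u, c u, v, c v] i) →
      2 ≤ agr (σ * b * σ⁻¹) c := by
    intro σ hσ
    have h := agr_ge b c σ ![x, y] ![u, v]
      (fun i j hij => by
        have := @huv
        fin_cases i <;> fin_cases j <;> simp at hij ⊢
        · exact absurd (@huv 0 2 (by simpa using hij)) (by decide)
        · exact absurd (@huv 2 0 (by simpa using hij)) (by decide))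
      (fun i => by fin_cases i <;> [exact hσ 0; exact hσ 2])
      (fun i => by fin_cases i <;> [exact hσ 1; exact hσ 3])
    simpa using h
  by_cases hn6 : 6 ≤ n
  · obtain ⟨σ, hs, hσ⟩ := exists_even ![x, b x, y, b y] ![u, c u, v, c v] hxy huv (by simp; omega)
    exact ⟨σ, hs, fin σ hσ⟩
  obtain rfl : n = 5 := by omega
  obtain ⟨σ, hσ⟩ := exists_extend ![x, b x, y, b y] ![u, c u, v, c v] hxy huv
  rcases Int.units_eq_one_or (Perm.sign σ) with h | h
  · exact ⟨σ, h, fin σ hσ⟩
  rcases h1 with h1 | h1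
  · obtain ⟨z, hz, hzc⟩ := small_centralizer b h1
    refine ⟨σ * z, by simp [h, hz], le_of_le_of_eq (fin σ hσ) ?_⟩
    congr 1
    rw [mul_inv_rev, ← mul_assoc, mul_assoc σ z b, hzc]; group
  · obtain ⟨z, hz, hzc⟩ := small_centralizer c h1
    refine ⟨z * σ, by simp [h, hz], le_of_le_of_eq (fin σ hσ) ?_⟩
    have hzc' : ∀ t, c (z t) = z (c t) := fun t => by
      have := congrArg (fun p : Perm (Fin 5) => p t) hzc
      simpa using this.symm
    refine Finset.card_bij' (fun t _ => z t) (fun t _ => z⁻¹ t) ?_ ?_ (fun t _ => by simp)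
      (fun t _ => by simp)
    · intro t ht
      have ht' : σ (b (σ⁻¹ t)) = c t := (Finset.mem_filter.1 ht).2
      refine Finset.mem_filter.2 ⟨Finset.mem_univ _, ?_⟩
      rw [hzc', ← ht', mul_inv_rev]
      simp
    · intro t ht
      have ht' : (z * σ * b * (z * σ)⁻¹) t = c t := (Finset.mem_filter.1 ht).2
      refine Finset.mem_filter.2 ⟨Finset.mem_univ _, ?_⟩
      apply z.injective
      rw [← hzc']
      simpa [mul_inv_rev] using ht'

theorem inj2 {a b : Fin n} (h : a ≠ b) : Function.Injective ![a, b] := by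
  have h' := h.symm
  intro i j hij
  fin_cases i <;> fin_cases j <;> simp [h, h'] at hij ⊢

theorem inj3 {a b c : Fin n} (h : a ≠ b) (k : a ≠ c) (l : b ≠ c) :
    Function.Injective ![a, b, c] := by
  have h' := h.symm; have k' := k.symm; have l' := l.symm
  intro i j hij
  fin_cases i <;> fin_cases j <;> simp [h, h', k, k', l, l'] at hij ⊢

theorem not_const (hn : 5 ≤ n) (b c : Perm (Fin n)) (hb : b ≠ 1) (hc : c ≠ 1) (K : ℕ)
    (hK : ∀ h : Perm (Fin n), Perm.sign h = 1 → agr (h * b * h⁻¹) c = K) : False := by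
  classical
  have hav := average hn b c K hK
  have hb2 := nfix_le b hb
  have hc2 := nfix_le c hc
  set f := nfix b with hf
  set g := nfix c with hg
  by_cases h22 : 2 ≤ f ∧ 2 ≤ g
  · obtain ⟨e₁, he₁, hfix₁⟩ := fixed_enum b (min f g) (min_le_left _ _)
    obtain ⟨e₂, he₂, hfix₂⟩ := fixed_enum c (min f g) (min_le_right _ _)
    obtain ⟨σ, hs, hσ⟩ := exists_even e₁ e₂ he₁ he₂ (by simp; omega)
    have h := agr_ge b c σ e₁ e₂ he₂ hσ (fun i => by rw [hfix₁, hfix₂, hσ])
    rw [hK σ hs, Fintype.card_fin] at h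
    rcases le_total f g with hle | hle
    · rw [min_eq_left hle] at h
      nlinarith [Nat.mul_le_mul_right (n - 1) h, Nat.sub_add_cancel (show 1 ≤ n by omega)]
    · rw [min_eq_right hle] at h
      nlinarith [Nat.mul_le_mul_right (n - 1) h, Nat.sub_add_cancel (show 1 ≤ n by omega)]
  have hmoved : ∀ d : Perm (Fin n), d ≠ 1 → ∃ x, d x ≠ x := fun d hd => by
    by_contra h
    push Not at h
    exact hd (Equiv.ext fun x => by simpa using h x)
  obtain ⟨y, hy⟩ := hmoved b hb
  obtain ⟨x, hx⟩ := hmoved c hc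
  have hK1 : 1 ≤ K := by
    obtain ⟨σ, hs, hσ⟩ := exists_even ![y, b y] ![x, c x]
      (inj2 (Ne.symm hy)) (inj2 (Ne.symm hx)) (by simp; omega)
    have h := agr_ge b c σ (fun _ : Unit => y) (fun _ => x)
      (Function.injective_of_subsingleton _) (fun _ => hσ 0) (fun _ => hσ 1)
    rw [hK σ hs] at h
    simpa using h
  rcases Nat.lt_or_ge K 2 with hKlt | hKge
  · obtain rfl : K = 1 := by omega
    -- then one of the fixed point numbers is one
    have h1 : f = 1 ∨ g = 1 := by
      rcases Nat.eq_zero_or_pos f with h0 | h0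
      · rw [h0] at hav; simp at hav; right; omega
      rcases Nat.eq_zero_or_pos g with h0' | h0'
      · rw [h0'] at hav; simp at hav; left; omega
      omega
    by_cases hpos : 1 ≤ f ∧ 1 ≤ g
    · obtain ⟨p, -, hp⟩ := fixed_enum b 1 hpos.1
      obtain ⟨q, -, hq⟩ := fixed_enum c 1 hpos.2
      have d1 : p 0 ≠ y := fun h => hy (by rw [← h]; exact hp 0)
      have d2 : p 0 ≠ b y := fun h => hy (b.injective (by rw [← h, hp 0, h]))
      have d3 : q 0 ≠ x := fun h => hx (by rw [← h]; exact hq 0)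
      have d4 : q 0 ≠ c x := fun h => hx (c.injective (by rw [← h, hq 0, h]))
      obtain ⟨σ, hs, hσ⟩ := exists_even ![p 0, y, b y] ![q 0, x, c x]
        (inj3 d1 d2 (Ne.symm hy)) (inj3 d3 d4 (Ne.symm hx)) (by simp; omega)
      have h := agr_ge b c σ ![p 0, y] ![q 0, x] (inj2 d3)
        (fun i => by fin_cases i <;> [exact hσ 0; exact hσ 1])
        (fun i => by
          fin_cases i
          · simpa [hp 0, hq 0] using hσ 0
          · exact hσ 2)
      rw [hK σ hs] at h
      simp at h
    · obtain ⟨σ, hs, h⟩ := edges_conj hn b c (by omega) (by omega) h1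
      rw [hK σ hs] at h
      omega
  · -- K ≥ 2 is too large
    have hle : f ≤ 1 ∨ g ≤ 1 := by omega
    have := Nat.mul_le_mul_right (n - 1) hKge
    rcases hle with hle | hle <;> rcases Nat.le_one_iff_eq_zero_or_eq_one.1 hle with e | e <;>
      rw [e] at hav <;> simp at hav <;> omega

theorem main (hn : 5 ≤ n) (a b : Perm (Fin n)) (ha : a ≠ 1) (hb : b ≠ 1) :
    ∃ g₁ h₁ g₂ h₂ : Perm (Fin n), g₁ ∈ alternatingGroup (Fin n) ∧ h₁ ∈ alternatingGroup (Fin n) ∧
      g₂ ∈ alternatingGroup (Fin n) ∧ h₂ ∈ alternatingGroup (Fin n) ∧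
      Nat.card (Function.fixedPoints ⇑(g₁ * a * g₁⁻¹ * (h₁ * b * h₁⁻¹))) ≠
        Nat.card (Function.fixedPoints ⇑(g₂ * a * g₂⁻¹ * (h₂ * b * h₂⁻¹))) := by
  classical
  by_contra hne
  push Not at hne
  have hcount : ∀ h : Perm (Fin n),
      Nat.card (Function.fixedPoints ⇑(1 * a * 1⁻¹ * (h * b * h⁻¹))) =
        agr (h * b * h⁻¹) a⁻¹ := by
    intro h
    rw [one_mul, inv_one, mul_one, agr, Nat.card_coe_set_eq, ← Set.ncard_coe_finset]
    congr 1
    ext t
    simp only [Finset.coe_filter, Finset.mem_univ, true_and, Function.mem_fixedPoints,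
      Function.IsFixedPt]
    rw [Set.mem_ofPred_eq, Perm.mul_apply]
    exact (Perm.eq_inv_iff_eq).symm
  refine not_const hn b a⁻¹ hb (inv_ne_one.2 ha) (agr (1 * b * 1⁻¹) a⁻¹) fun h hh => ?_
  rw [← hcount h, ← hcount 1]
  exact hne 1 h 1 1 (one_mem _) (Perm.mem_alternatingGroup.2 hh) (one_mem _) (one_mem _)

/-- Let n ≥ 5 and let a, b be non-identity permutations in the symmetric group S_n. Then the number of fixed points is not constant on the set of products a′b′ with a′ conjugate to a and b′ conjugate to b under the alternating group: there are even permutations g₁, h₁, g₂, h₂ such that (g₁ a g₁⁻¹)(h₁ b h₁⁻¹) and (g₂ a g₂⁻¹)(h₂ b h₂⁻¹) have different numbers of fixed points. -/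
theorem result (n : ℕ) (hn : 5 ≤ n) (a b : Equiv.Perm (Fin n)) (ha : a ≠ 1) (hb : b ≠ 1) :
    ∃ g₁ h₁ g₂ h₂ : Equiv.Perm (Fin n), g₁ ∈ alternatingGroup (Fin n) ∧ h₁ ∈ alternatingGroup (Fin n) ∧ g₂ ∈ alternatingGroup (Fin n) ∧ h₂ ∈ alternatingGroup (Fin n) ∧
      Nat.card (Function.fixedPoints ⇑(g₁ * a * g₁⁻¹ * (h₁ * b * h₁⁻¹))) ≠
        Nat.card (Function.fixedPoints ⇑(g₂ * a * g₂⁻¹ * (h₂ * b * h₂⁻¹))) := by
  exact main hn a b ha hb

end Cfsg.Agent.S2271
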