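import Cfsg.Statements.S2276
import Mathlib
import Cfsg.Agent.Lib.PGroup.Basic
import Cfsg.Agent.Lib.Core.Basic
-- import your own Cfsg.Agent.* helpers here

set_option autoImplicit false
open Cfsg

namespace Cfsg.Agent.S2276

open Subgroup
open scoped commutatorElement

/-- A nontrivial `(2, 3, 5)` pair generates a non-solvable group. -/
theorem not_solvable_of_triangle {G : Type*} [Group G] (H : Subgroup G) {a b : G} (ha : a ∈ H) (hb : b ∈ H)
    (ha2 : a ^ 2 = 1) (hb3 : b ^ 3 = 1) (hab : (a * b) ^ 5 = 1) (ha1 : a ≠ 1) : ¬ Group.IsSolvable H := by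
  intro hs
  haveI := hs
  set K := closure ({a, b} : Set G) with hK
  have hKH : K ≤ H := (closure_le _).2 (by simp [Set.insert_subset_iff, ha, hb])
  haveI : Group.IsSolvable K := Group.isSolvable_of_isSolvable_injective (f := inclusion hKH) (inclusion_injective hKH)
  have haK : a ∈ K := subset_closure (Set.mem_insert _ _)
  have hbK : b ∈ K := subset_closure (Set.mem_insert_of_mem _ rfl)
  haveI : Nontrivial K := ⟨⟨⟨a, haK⟩, 1, fun e => ha1 (congrArg Subtype.val e)⟩⟩
  apply (IsSolvable.commutator_lt_top_of_nontrivial (G := K)).ne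
  rw [eq_top_iff]
  set A : Abelianization K := Abelianization.of ⟨a, haK⟩ with hA
  set B : Abelianization K := Abelianization.of ⟨b, hbK⟩ with hB
  have hA2 : A ^ 2 = 1 := by rw [hA, ← map_pow]; exact (congrArg _ (Subtype.ext ha2)).trans (map_one _)
  have hB3 : B ^ 3 = 1 := by rw [hB, ← map_pow]; exact (congrArg _ (Subtype.ext hb3)).trans (map_one _)
  have hAB : (A * B) ^ 5 = 1 := by
    rw [hA, hB, ← map_mul, ← map_pow]; exact (congrArg _ (Subtype.ext hab)).trans (map_one _)
  rw [mul_pow, pow_succ A 4, pow_mul A 2 2, hA2, one_pow, one_mul] at hAB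
  rw [pow_add B 3 2, hB3, one_mul] at hAB
  have hA1 : A = (B ^ 2)⁻¹ := eq_inv_of_mul_eq_one_left hAB
  have hA3 : A ^ 3 = 1 := by rw [hA1, inv_pow, ← pow_mul, mul_comm 2 3, pow_mul, hB3, one_pow, inv_one]
  have hA0 : A = 1 := by rwa [pow_succ, hA2, one_mul] at hA3
  have hB0 : B = 1 := by
    rw [hA0, one_mul] at hAB
    rwa [pow_succ, hAB, one_mul] at hB3
  intro x _
  suffices h : ∀ y (hy : y ∈ K), Abelianization.of (⟨y, hy⟩ : K) = 1 by
    exact (QuotientGroup.eq_one_iff x).1 (h x.1 x.2)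
  intro y hy
  induction hy using closure_induction with
  | mem z hz =>
    rcases hz with rfl | rfl
    · exact hA0
    · exact hB0
  | one => exact map_one _
  | mul z z' hz hz' h1 h2 => rw [show (⟨z * z', mul_mem hz hz'⟩ : K) = ⟨z, hz⟩ * ⟨z', hz'⟩ from rfl, map_mul, h1, h2, mul_one]
  | inv z hz h1 => rw [show (⟨z⁻¹, inv_mem hz⟩ : K) = ⟨z, hz⟩⁻¹ from rfl, map_inv, h1, inv_one]

/-- What is asked of the pair on a set of points. -/
def Good (p : ℕ) {X : Type*} (c σ : Equiv.Perm X) : Prop :=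
  (∃ (x : X) (k : ℕ), ¬ p ∣ k ∧ ((c * σ) ^ k) x = x ∧ (c * σ) x ≠ x) ∧
    ¬ Group.IsSolvable (closure ({c, σ} : Set (Equiv.Perm X)))

/-- The conclusion, for permutations. -/
def Conc (p : ℕ) {n : ℕ} (u w : Equiv.Perm (Fin n)) : Prop :=
  ∃ g : Equiv.Perm (Fin n), Equiv.Perm.sign g = 1 ∧ (∀ k, orderOf (u * (g * w * g⁻¹)) ≠ p ^ k) ∧
    ¬ Group.IsSolvable (closure ({u, g * w * g⁻¹} : Set (Equiv.Perm (Fin n))))

theorem conc_swap {p n : ℕ} {u w : Equiv.Perm (Fin n)} (h : Conc p w u) : Conc p u w := by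
  obtain ⟨g, hg, ho, hs⟩ := h
  refine ⟨g⁻¹, by rw [map_inv, hg, inv_one], fun k hk => ho k ?_, fun hsol => hs ?_⟩
  · rw [← hk]
    refine SemiconjBy.orderOf_eq (u * g⁻¹) ?_
    show _ = _
    group
  · haveI := hsol
    have e : closure ({w, g * u * g⁻¹} : Set (Equiv.Perm (Fin n))) =
        (closure ({u, g⁻¹ * w * g⁻¹⁻¹} : Set (Equiv.Perm (Fin n)))).map (MulAut.conj g).toMonoidHom := by
      rw [MonoidHom.map_closure, Set.image_pair, Set.pair_comm]
      congr 2
      simp [mul_assoc]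
    rw [e]
    exact Group.isSolvable_of_surjective (MonoidHom.subgroupMap_surjective _ _)

theorem orderOf_ne_of_good {p : ℕ} (hp : p.Prime) {X : Type*} {f : Equiv.Perm X} {x : X} {k : ℕ} (hk : ¬ p ∣ k)
    (hx : (f ^ k) x = x) (hne : f x ≠ x) (j : ℕ) : f ^ p ^ j ≠ 1 := by
  intro h
  have h1 : Function.IsPeriodicPt f k x := by
    show f^[k] x = x
    rw [← Equiv.Perm.coe_pow]; exact hx
  have h2 : Function.IsPeriodicPt f (p ^ j) x := by
    show f^[p ^ j] x = x
    rw [← Equiv.Perm.coe_pow, h]; rfl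
  have h3 := h1.gcd h2
  rw [((hp.coprime_iff_not_dvd.2 hk).symm.pow_right j).gcd_eq_one] at h3
  exact hne h3

/-- A pair on a set of points extends to the whole. -/
theorem finish {p : ℕ} (hp : p.Prime) {n : ℕ} {u w : Equiv.Perm (Fin n)}
    {X : Type} [Fintype X] [DecidableEq X] (ι : X ↪ Fin n) (c : Equiv.Perm X) (hu : ∀ x, u (ι x) = ι (c x))
    (B : Finset (Fin n)) (hB : B.card = Fintype.card X) (hBw : ∀ y ∈ B, w y ∈ B)
    {k : ℕ} (z : Fin k ↪ Fin n) (hz : ∀ i, z i ∈ B) (t : Fin k ↪ X) (τ : Equiv.Perm X)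
    (hτ : Equiv.Perm.sign τ = -1)
    (h1 : ∀ σ : Equiv.Perm X, (∀ i j, w (z i) = z j → σ (t i) = t j) → Good p c σ)
    (h2 : ∀ σ : Equiv.Perm X, (∀ i j, w (z i) = z j → σ (τ (t i)) = τ (t j)) → Good p c σ) :
    Conc p u w := by
  classical
  have hcard : Fintype.card {y // y ∈ B} = Fintype.card X := by rw [Fintype.card_coe, hB]
  set e₀ := Fintype.equivOfCardEq hcard with he₀
  obtain ⟨π, hπ⟩ : ∃ π : Equiv.Perm X, ∀ i, π (e₀ ⟨z i, hz i⟩) = t i := by
    haveI := Equiv.Perm.isMultiplyPretransitive X k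
    let a : Fin k ↪ X := ⟨fun i => e₀ ⟨z i, hz i⟩, fun i j e => z.injective (congrArg Subtype.val (e₀.injective e))⟩
    obtain ⟨π, hπ⟩ := MulAction.exists_smul_eq (Equiv.Perm X) a t
    exact ⟨π, fun i => congrArg (fun f : Fin k ↪ X => f i) hπ⟩
  let e : {y // y ∈ B} ≃ {y // y ∈ Set.range ι} :=
    (e₀.trans π).trans (Equiv.ofInjective ι ι.injective)
  set g₀ := e.extendSubtype with hg₀
  have hval : ∀ (y : Fin n) (hy : y ∈ B), g₀ y = ι (π (e₀ ⟨y, hy⟩)) := fun y hy => by
    rw [hg₀, Equiv.extendSubtype_apply_of_mem e y hy]; rfl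
  have core : ∀ (g : Equiv.Perm (Fin n)) (θ : Equiv.Perm X), Equiv.Perm.sign g = 1 →
      (∀ (y : Fin n) (hy : y ∈ B), g y = ι (θ (π (e₀ ⟨y, hy⟩)))) →
      (∀ σ : Equiv.Perm X, (∀ i j, w (z i) = z j → σ (θ (t i)) = θ (t j)) → Good p c σ) → Conc p u w := by
    intro g θ hg hgv hgood
    set v := g * w * g⁻¹ with hv
    let ψ : {y // y ∈ B} ≃ X := (e₀.trans π).trans θ
    let wB : {y // y ∈ B} → {y // y ∈ B} := fun y => ⟨w y.1, hBw y.1 y.2⟩
    have hwB : Function.Bijective wB := Finite.injective_iff_bijective.1 fun y y' h =>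
      Subtype.ext (w.injective (congrArg Subtype.val h))
    let σ : Equiv.Perm X := (ψ.symm.trans (Equiv.ofBijective wB hwB)).trans ψ
    have hσ : ∀ x, v (ι x) = ι (σ x) := by
      intro x
      obtain ⟨y, rfl⟩ := ψ.surjective x
      have e1 : ι (ψ y) = g y.1 := (hgv y.1 y.2).symm
      rw [e1, hv, Equiv.Perm.mul_apply, Equiv.Perm.mul_apply, Equiv.Perm.coe_inv, Equiv.symm_apply_apply,
        hgv _ (hBw y.1 y.2)]
      simp [σ, ψ, wB]
    have hσz : ∀ i j, w (z i) = z j → σ (θ (t i)) = θ (t j) := fun i j hij => by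
      apply ι.injective
      rw [← hσ, ← hπ i, ← hπ j, ← hgv _ (hz i), ← hgv _ (hz j), hv]
      simp [hij]
    obtain ⟨⟨x, m, hm, hx, hne⟩, hns⟩ := hgood σ hσz
    refine ⟨g, hg, fun j hj => ?_, fun hsol => ?_⟩
    · have hprod : ∀ y, (u * v) (ι y) = ι ((c * σ) y) := fun y => by
        show u (v (ι y)) = _
        rw [hσ, hu]; rfl
      have hpow : ∀ (l : ℕ) y, ((u * v) ^ l) (ι y) = ι (((c * σ) ^ l) y) := fun l => by
        induction l with
        | zero => intro y; rfl
        | succ l ih => intro y; rw [pow_succ', pow_succ', Equiv.Perm.mul_apply, ih, hprod]; rfl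
      exact orderOf_ne_of_good hp hm (x := ι x) (f := u * v) (by rw [hpow, hx])
        (by rw [hprod]; exact fun e => hne (ι.injective e)) j (by rw [← hj, pow_orderOf_eq_one])
    · let T : Subgroup (Equiv.Perm (Fin n)) :=
        { carrier := {f | ∃ h : Equiv.Perm X, ∀ y, f (ι y) = ι (h y)}
          one_mem' := ⟨1, fun _ => rfl⟩
          mul_mem' := by
            rintro f f' ⟨h, hh⟩ ⟨h', hh'⟩
            exact ⟨h * h', fun y => by rw [Equiv.Perm.mul_apply, hh', hh, Equiv.Perm.mul_apply]⟩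
          inv_mem' := by
            rintro f ⟨h, hh⟩
            refine ⟨h⁻¹, fun y => ?_⟩
            rw [Equiv.Perm.inv_eq_iff_eq, hh, Equiv.Perm.coe_inv, Equiv.apply_symm_apply] }
      have hle : closure ({u, v} : Set (Equiv.Perm (Fin n))) ≤ T := by
        rw [closure_le, Set.insert_subset_iff, Set.singleton_subset_iff]
        exact ⟨⟨c, hu⟩, ⟨σ, hσ⟩⟩
      let φ : closure ({u, v} : Set (Equiv.Perm (Fin n))) →* Equiv.Perm X :=
        MonoidHom.mk' (fun f => Classical.choose (hle f.2)) fun f f' => Equiv.ext fun y => ι.injective (by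
          rw [← Classical.choose_spec (hle (f * f').2), Equiv.Perm.mul_apply, ← Classical.choose_spec (hle f.2),
            ← Classical.choose_spec (hle f'.2)]
          rfl)
      have hφ : ∀ (f : closure ({u, v} : Set (Equiv.Perm (Fin n)))) (h : Equiv.Perm X),
          (∀ y, (f : Equiv.Perm (Fin n)) (ι y) = ι (h y)) → φ f = h :=
        fun f h hh => Equiv.ext fun y => ι.injective (by
          show ι (Classical.choose (hle f.2) y) = _
          rw [← Classical.choose_spec (hle f.2), hh])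
      haveI := hsol
      haveI : Group.IsSolvable φ.range := Group.isSolvable_of_surjective φ.rangeRestrict_surjective
      refine hns (Group.isSolvable_of_isSolvable_injective (f := inclusion (?_ : _ ≤ φ.range))
        (inclusion_injective _))
      rw [closure_le, Set.insert_subset_iff, Set.singleton_subset_iff]
      exact ⟨⟨⟨u, subset_closure (Set.mem_insert _ _)⟩, hφ _ c hu⟩,
        ⟨⟨v, subset_closure (Set.mem_insert_of_mem _ rfl)⟩, hφ _ σ hσ⟩⟩
  rcases Int.units_eq_one_or (Equiv.Perm.sign g₀) with hs | hs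
  · exact core g₀ 1 hs hval h1
  · refine core (τ.viaFintypeEmbedding ι * g₀) τ ?_ (fun y hy => ?_) h2
    · rw [map_mul, Equiv.Perm.viaFintypeEmbedding_sign, hτ, hs]; rfl
    · rw [Equiv.Perm.mul_apply, hval y hy, Equiv.Perm.viaFintypeEmbedding_apply_image]

/-! ### Solvable groups containing a full cycle of prime power length -/

theorem exists_normal_elementary {G : Type*} [Group G] [Finite G] [Group.IsSolvable G] [Nontrivial G] :
    ∃ (r : ℕ) (M : Subgroup G), r.Prime ∧ M.Normal ∧ M ≠ ⊥ ∧ (∀ a ∈ M, ∀ b ∈ M, a * b = b * a) ∧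
      ∀ m ∈ M, m ^ r = 1 := by
  classical
  have hex : ∃ n, derivedSeries G n = ⊥ := (Group.isSolvable_def G).1 inferInstance
  have hn0 : Nat.find hex ≠ 0 := fun h => by
    have := Nat.find_spec hex
    rw [h, derivedSeries_zero] at this
    exact top_ne_bot this
  obtain ⟨k, hk⟩ := Nat.exists_eq_succ_of_ne_zero hn0
  have hA : derivedSeries G k ≠ ⊥ := Nat.find_min hex (by omega)
  have hA2 : derivedSeries G (k + 1) = ⊥ := by have := Nat.find_spec hex; rwa [hk] at this
  set A := derivedSeries G k with hAdef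
  haveI hAn : A.Normal := derivedSeries_normal G k
  have hcomm : ∀ a ∈ A, ∀ b ∈ A, a * b = b * a := by
    intro a ha b hb
    have : ⁅a, b⁆ ∈ derivedSeries G (k + 1) := by
      rw [derivedSeries_succ]; exact commutator_mem_commutator ha hb
    rwa [hA2, mem_bot, commutatorElement_eq_one_iff_mul_comm] at this
  obtain ⟨r, hr, hrd⟩ := Nat.exists_prime_and_dvd
    (fun h => hA ((Subgroup.card_eq_one).1 h) : Nat.card A ≠ 1)
  haveI := Fact.mk hr
  obtain ⟨a, ha⟩ := exists_prime_orderOf_dvd_card' r hrd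
  let M : Subgroup G :=
    { carrier := {x | x ∈ A ∧ x ^ r = 1}
      one_mem' := ⟨A.one_mem, one_pow _⟩
      mul_mem' := fun {x y} hx hy => ⟨A.mul_mem hx.1 hy.1, by
        rw [(show Commute x y from hcomm x hx.1 y hy.1).mul_pow, hx.2, hy.2, one_mul]⟩
      inv_mem' := fun {x} hx => ⟨A.inv_mem hx.1, by rw [inv_pow, hx.2, inv_one]⟩ }
  refine ⟨r, M, hr, ⟨fun x hx g => ⟨hAn.conj_mem x hx.1 g, by rw [conj_pow, hx.2]; group⟩⟩,
    fun hM => ?_, fun x hx y hy => hcomm x hx.1 y hy.1, fun m hm => hm.2⟩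
  have : (a : G) ∈ M := ⟨a.2, by rw [← ha, ← orderOf_coe, pow_orderOf_eq_one]⟩
  rw [hM, mem_bot] at this
  rw [← orderOf_coe, this, orderOf_one] at ha
  exact hr.one_lt.ne ha

/-- The rotation of `ZMod m`. -/
def rot (m : ℕ) : Equiv.Perm (ZMod m) := Equiv.addRight 1

theorem rot_pow_apply {m : ℕ} (k : ℕ) (x : ZMod m) : ((rot m) ^ k) x = x + k := by
  induction k with
  | zero => simp
  | succ k ih => rw [pow_succ', Equiv.Perm.mul_apply, ih]; simp [rot, add_assoc]

theorem rot_pow_inv_apply {m : ℕ} (k : ℕ) (x : ZMod m) : (((rot m) ^ k)⁻¹) x = x - k := by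
  rw [Equiv.Perm.inv_eq_iff_eq, rot_pow_apply, sub_add_cancel]

/-- The transitive abelian case. -/
theorem regular_case {p : ℕ} [hp : Fact p.Prime] (hp2 : p ≠ 2) (a : ℕ) {m : ℕ} (hm : m = p ^ (a + 1))
    (N : Subgroup (Equiv.Perm (ZMod m)))
    (hab : ∀ u ∈ N, ∀ v ∈ N, u * v = v * u) {r : ℕ} (hr : r.Prime) (hexp : ∀ v ∈ N, v ^ r = 1)
    (hrot : rot m ∈ normalizer (N : Set (Equiv.Perm (ZMod m))))
    (htr : ∀ x, ∃ v ∈ N, v 0 = x) : a = 0 ∧ rot m ∈ N ∧ N ≤ zpowers (rot m) := by
  classical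
  haveI : NeZero m := ⟨by rw [hm]; exact pow_ne_zero _ hp.out.ne_zero⟩
  set R := rot m with hR
  have hfix : ∀ v ∈ N, ∀ u ∈ N, v 0 = u 0 → v = u := fun v hv u hu h => Equiv.ext fun x => by
    obtain ⟨f, hf, rfl⟩ := htr x
    rw [← Equiv.Perm.mul_apply, hab v hv f hf, Equiv.Perm.mul_apply, h, ← Equiv.Perm.mul_apply, hab f hf u hu,
      Equiv.Perm.mul_apply]
  have hcard : Nat.card N = m := by
    rw [Nat.card_eq_of_bijective (fun v : N => (v : Equiv.Perm (ZMod m)) 0)
      ⟨fun v u h => Subtype.ext (hfix v v.2 u u.2 h), fun x => by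
        obtain ⟨v, hv, rfl⟩ := htr x; exact ⟨⟨v, hv⟩, rfl⟩⟩, Nat.card_zmod]
  have hrp : r = p := by
    obtain ⟨⟨v, hv⟩, ho⟩ := exists_prime_orderOf_dvd_card' p (G := N) (by rw [hcard, hm]; exact dvd_pow_self p (by omega))
    rw [Subgroup.orderOf_mk] at ho
    exact ((Nat.prime_dvd_prime_iff_eq hp.out hr).1 (ho ▸ orderOf_dvd_of_pow_eq_one (hexp v hv))).symm
  subst hrp
  have hNp : IsPGroup r N := IsPGroup.of_card (n := a + 1) (hcard.trans hm)
  have hRord : R ^ m = 1 := Equiv.ext fun x => by rw [hR, rot_pow_apply, ZMod.natCast_self, add_zero]; rfl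
  have hRp : IsPGroup r (zpowers R) := by
    obtain ⟨i, -, hi⟩ := (Nat.dvd_prime_pow hp.out).1 ((orderOf_dvd_of_pow_eq_one hRord).trans (dvd_of_eq hm))
    exact IsPGroup.of_card (n := i) (by rw [Nat.card_zpowers, hi])
  have hRN : zpowers R ≤ normalizer (N : Set (Equiv.Perm (ZMod m))) := zpowers_le.2 hrot
  -- elements of `N` commuting with the rotation are its powers
  have hcent : ∀ v ∈ N, R * v = v * R → v = R ^ (v 0).val := fun v hv hc => Equiv.ext fun x => by
    have h1 : v * R ^ x.val = R ^ x.val * v := ((show Commute R v from hc).pow_left x.val).eq.symm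
    have h2 := congrArg (fun f : Equiv.Perm (ZMod m) => f 0) h1
    simp only [Equiv.Perm.mul_apply, hR, rot_pow_apply, ZMod.natCast_zmod_val, zero_add] at h2
    rw [hR, rot_pow_apply, ZMod.natCast_zmod_val, h2, add_comm]
  -- a central element
  have hP := hRp.to_sup_of_normal_right' hNp hRN
  set P := zpowers R ⊔ N with hPdef
  have hRP : R ∈ P := mem_sup_left (mem_zpowers R)
  haveI : (N.subgroupOf P).Normal :=
    (normal_subgroupOf_iff_le_normalizer le_sup_right).2 (sup_le hRN le_normalizer)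
  have hmul : 1 < m := hm ▸ Nat.one_lt_pow (by omega) hp.out.one_lt
  have hNne : N.subgroupOf P ≠ ⊥ := fun e => by
    have h1 : N = ⊥ := by rw [← map_subgroupOf_eq_of_le (le_sup_right : N ≤ P), e, Subgroup.map_bot]
    rw [h1, card_bot] at hcard
    omega
  obtain ⟨z₀, hz₀N, hz₀c, hz₀o⟩ : ∃ z ∈ N, R * z = z * R ∧ orderOf z = r := by
    obtain ⟨⟨z, hz⟩, hz1⟩ := (Subgroup.bot_or_exists_ne_one (N.subgroupOf P ⊓ center P)).resolve_left
      (Cfsg.Lib.PGroup.inf_center_ne_bot hP hNne)
    refine ⟨z, mem_subgroupOf.1 (Subgroup.mem_inf.1 hz1.1).1, ?_, orderOf_eq_prime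
      (hexp _ (mem_subgroupOf.1 (Subgroup.mem_inf.1 hz1.1).1)) (fun e => hz1.2 (Subtype.ext e))⟩
    exact congrArg Subtype.val (mem_center_iff.1 (Subgroup.mem_inf.1 hz1.1).2 ⟨R, hRP⟩)
  have hz₀R : z₀ ∈ zpowers R := by rw [hcent z₀ hz₀N hz₀c]; exact pow_mem (mem_zpowers R) _
  rcases Nat.eq_zero_or_pos a with ha | ha
  · subst ha
    have hle : zpowers z₀ = N := eq_of_le_of_card_ge (zpowers_le.2 hz₀N) (by rw [Nat.card_zpowers, hz₀o, hcard, hm]; simp)
    have hRz : zpowers z₀ = zpowers R := eq_of_le_of_card_ge (zpowers_le.2 hz₀R) (by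
      rw [Nat.card_zpowers, Nat.card_zpowers, hz₀o]
      exact Nat.le_of_dvd hp.out.pos (by simpa [hm] using orderOf_dvd_of_pow_eq_one hRord))
    exact ⟨rfl, by rw [← hle, hRz]; exact mem_zpowers R, by rw [← hle, hRz]⟩
  exfalso
  -- the fixed part is small
  set C := N ⊓ centralizer ({R} : Set (Equiv.Perm (ZMod m))) with hC
  have hdiv : ∀ l : ℕ, ((R ^ l) ^ r) 0 = 0 → r ^ a ∣ l := fun l h => by
    rw [← pow_mul, hR, rot_pow_apply, zero_add, ZMod.natCast_eq_zero_iff, hm, pow_succ] at h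
    exact Nat.dvd_of_mul_dvd_mul_right hp.out.pos h
  have hCdiv : ∀ v ∈ C, r ^ a ∣ (v 0).val := by
    intro v hv
    have h1 := hcent v hv.1 (mem_centralizer_singleton_iff.1 hv.2).symm
    have h2 : ((R ^ (v 0).val) ^ r) 0 = 0 := by rw [← h1, hexp v hv.1]; rfl
    exact hdiv _ h2
  obtain ⟨v, hvN, hv0⟩ := htr 1
  have hvC : v ∉ C := fun h => by
    have h5 := hCdiv v h
    haveI : Fact (1 < m) := ⟨hmul⟩
    rw [hv0, ZMod.val_one, Nat.dvd_one] at h5
    exact absurd h5 (Nat.one_lt_pow (by omega) hp.out.one_lt).ne'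
  obtain ⟨M, ⟨hMN, hMR, hMC⟩, hMmin⟩ := (inferInstance : WellFoundedLT (Subgroup (Equiv.Perm (ZMod m)))).wf.has_min
    {M | M ≤ N ∧ zpowers R ≤ normalizer (M : Set (Equiv.Perm (ZMod m))) ∧ ¬ M ≤ C}
    ⟨N, le_rfl, hRN, fun h => hvC (h hvN)⟩
  have hMne : M ≠ ⊥ := fun e => hMC (e ▸ bot_le)
  have hlt := Cfsg.Lib.PGroup.commutator_lt_of_isPGroup (hNp.to_le hMN) hRp hMR hMne
  have hMMC : ⁅M, zpowers R⁆ ≤ C := by
    by_contra hcon
    refine hMmin _ ⟨hlt.le.trans hMN, ?_, hcon⟩ hlt
    refine fun g hg => (Cfsg.Lib.Core.mem_normalizer_iff_map_conj).2 ?_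
    rw [map_commutator, Cfsg.Lib.Core.map_conj_eq_of_mem_normalizer (hMR hg),
      Cfsg.Lib.Core.map_conj_eq_of_mem_normalizer (le_normalizer hg)]
  obtain ⟨v, hvM, hvC⟩ := SetLike.not_le_iff_exists.1 hMC
  have hv : v ∈ N := hMN hvM
  set k := (v 0).val with hk
  set z := ⁅v, R⁆⁻¹ with hz
  have hzC : z ∈ C := inv_mem (hMMC (commutator_mem_commutator hvM (mem_zpowers R)))
  have hzR : Commute z R := mem_centralizer_singleton_iff.1 hzC.2
  have hzv : Commute z v := hab z hzC.1 v hv
  have hRv : R * v * R⁻¹ = z * v := by rw [hz, commutatorElement_def]; group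
  have hRkv : ∀ l : ℕ, R ^ l * v = z ^ l * v * R ^ l := by
    intro l
    induction l with
    | zero => simp
    | succ l ih =>
      calc R ^ (l + 1) * v = R * (R ^ l * v) := by rw [pow_succ', mul_assoc]
        _ = R * (z ^ l * v * R ^ l) := by rw [ih]
        _ = z ^ l * (R * v) * R ^ l := by
          rw [← mul_assoc, ← mul_assoc, ← ((hzR.pow_left l).eq), mul_assoc (z ^ l) R v]
        _ = z ^ l * (z * v * R) * R ^ l := by rw [← hRv]; group
        _ = z ^ (l + 1) * v * R ^ (l + 1) := by rw [pow_succ, pow_succ']; group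
  set g := v⁻¹ * R ^ k with hg
  have hg0 : g 0 = 0 := by
    rw [hg, Equiv.Perm.mul_apply, hR, rot_pow_apply, zero_add, hk, ZMod.natCast_zmod_val,
      Equiv.Perm.coe_inv, Equiv.symm_apply_apply]
  set W := z ^ k with hW
  have hWv : Commute W v := hzv.pow_left k
  have hWR : Commute W R := hzR.pow_left k
  have hWg : Commute W g := (hWv.inv_right).mul_right (hWR.pow_right k)
  have hgv : g * v = W * v * g := by
    calc g * v = v⁻¹ * (R ^ k * v) := by rw [hg, mul_assoc]
      _ = v⁻¹ * (W * v * R ^ k) := by rw [hRkv k]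
      _ = v⁻¹ * (v * W * R ^ k) := by rw [hWv.eq]
      _ = W * v * g := by rw [hg]; group
  have hgpv : ∀ i : ℕ, g ^ i * v = W ^ i * v * g ^ i := by
    intro i
    induction i with
    | zero => simp
    | succ i ih =>
      calc g ^ (i + 1) * v = g * (g ^ i * v) := by rw [pow_succ', mul_assoc]
        _ = g * (W ^ i * v * g ^ i) := by rw [ih]
        _ = W ^ i * (g * v) * g ^ i := by
          rw [← mul_assoc, ← mul_assoc, ← ((hWg.pow_left i).eq), mul_assoc (W ^ i) g v]
        _ = W ^ i * (W * v * g) * g ^ i := by rw [hgv]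
        _ = W ^ (i + 1) * v * g ^ (i + 1) := by rw [pow_succ, pow_succ']; group
  have hvg : ∀ i : ℕ, (v * g) ^ i = W ^ (i.choose 2) * v ^ i * g ^ i := by
    intro i
    induction i with
    | zero => simp
    | succ i ih =>
      calc (v * g) ^ (i + 1) = W ^ (i.choose 2) * v ^ i * (g ^ i * v) * g := by rw [pow_succ, ih]; group
        _ = W ^ (i.choose 2) * (v ^ i * W ^ i) * v * (g ^ i * g) := by rw [hgpv i]; group
        _ = W ^ (i.choose 2) * W ^ i * (v ^ i * v) * (g ^ i * g) := by rw [((hWv.pow_pow i i).eq).symm]; group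
        _ = W ^ ((i + 1).choose 2) * v ^ (i + 1) * g ^ (i + 1) := by
          rw [← pow_add, ← pow_succ, ← pow_succ, show (i + 1).choose 2 = i.choose 2 + i by
            rw [Nat.choose_succ_succ' i 1, Nat.choose_one_right, add_comm]]
  have hWr : W ^ (r.choose 2) = 1 := by
    obtain ⟨j, hj⟩ := hp.out.dvd_choose_self (k := 2) two_ne_zero
      (lt_of_le_of_ne hp.out.two_le (Ne.symm hp2))
    rw [hW, ← pow_mul, hj, mul_left_comm, pow_mul, hexp z hzC.1, one_pow]
  have hgr : ∀ i : ℕ, (g ^ i) 0 = 0 := by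
    intro i
    induction i with
    | zero => rfl
    | succ i ih => rw [pow_succ, Equiv.Perm.mul_apply, hg0, ih]
  have hfin : ((R ^ k) ^ r) 0 = 0 := by
    have e : R ^ k = v * g := by rw [hg, mul_inv_cancel_left]
    rw [e, hvg r, hWr, hexp v hv, one_mul, one_mul, hgr]
  -- so `v` is a power of the rotation in `N`
  have hpow : R ^ r ^ a ∈ N := by
    have hle : zpowers z₀ ≤ zpowers (R ^ r ^ a) := zpowers_le.2 (by
      obtain ⟨j, hj⟩ := hCdiv z₀ (Subgroup.mem_inf.2 ⟨hz₀N, mem_centralizer_singleton_iff.2 hz₀c.symm⟩)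
      rw [hcent z₀ hz₀N hz₀c, hj, pow_mul]
      exact pow_mem (mem_zpowers _) _)
    have heq : zpowers z₀ = zpowers (R ^ r ^ a) := eq_of_le_of_card_ge hle (by
      rw [Nat.card_zpowers, Nat.card_zpowers, hz₀o]
      refine Nat.le_of_dvd hp.out.pos (orderOf_dvd_of_pow_eq_one ?_)
      rw [← pow_mul, ← pow_succ, ← hm, hRord])
    exact zpowers_le.2 hz₀N (heq ▸ mem_zpowers _)
  obtain ⟨q, hq⟩ := hdiv k hfin
  have hveq : v = R ^ k := hfix v hv _ (by rw [hq, pow_mul]; exact pow_mem hpow q)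
    (by rw [hR, rot_pow_apply, zero_add, hk, ZMod.natCast_zmod_val])
  exact hvC (Subgroup.mem_inf.2 ⟨hv, mem_centralizer_singleton_iff.2
    (by rw [hveq]; exact ((Commute.refl R).pow_right k).eq.symm)⟩)

theorem exists_level {p : ℕ} [hp : Fact p.Prime] (a : ℕ) {m : ℕ} (hm : m = p ^ (a + 1))
    (K : AddSubgroup (ZMod m)) :
    ∃ l, l ≤ a + 1 ∧ ∀ x : ZMod m, x ∈ K ↔ p ^ l ∣ x.val := by
  classical
  haveI : NeZero m := ⟨by rw [hm]; exact pow_ne_zero _ hp.out.ne_zero⟩
  have hex : ∃ l, ((p ^ l : ℕ) : ZMod m) ∈ K := ⟨a + 1, by rw [← hm, ZMod.natCast_self]; exact K.zero_mem⟩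
  refine ⟨Nat.find hex, Nat.find_min' hex (by rw [← hm, ZMod.natCast_self]; exact K.zero_mem), fun x => ⟨fun hx => ?_, ?_⟩⟩
  · by_contra hdvd
    by_cases h0 : x.val = 0
    · exact hdvd (h0 ▸ dvd_zero _)
    obtain ⟨i, c, hc, hxc⟩ := Nat.exists_eq_pow_mul_and_not_dvd h0 p hp.out.ne_one
    have hi : i < Nat.find hex := by
      by_contra hge
      exact hdvd (hxc ▸ (pow_dvd_pow p (not_lt.1 hge)).mul_right c)
    apply Nat.find_min hex hi
    have hcu : IsUnit ((c : ℕ) : ZMod m) := by
      rw [ZMod.isUnit_iff_coprime, hm]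
      exact ((hp.out.coprime_iff_not_dvd.2 hc).symm).pow_right _
    obtain ⟨e, he⟩ := hcu
    have e1 : ((p ^ i : ℕ) : ZMod m) = ((e⁻¹ : (ZMod m)ˣ) : ZMod m).val • x := by
      rw [nsmul_eq_mul, ZMod.natCast_zmod_val]
      conv_rhs => rw [← ZMod.natCast_zmod_val x, hxc, Nat.cast_mul, ← he, mul_comm ((p ^ i : ℕ) : ZMod m), ← mul_assoc]
      simp
    rw [e1]
    exact K.nsmul_mem hx _
  · rintro ⟨j, hj⟩
    rw [← ZMod.natCast_zmod_val x, hj, mul_comm, Nat.cast_mul, ← nsmul_eq_mul]
    exact K.nsmul_mem (Nat.find_spec hex) _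

/-- A solvable group containing a cycle of length `p ^ (a + 1)` respects residues modulo `p`, and is affine if `a = 0`. -/
theorem structure_main {p : ℕ} [hp : Fact p.Prime] (hp2 : p ≠ 2) : ∀ (a : ℕ) {m : ℕ}, m = p ^ (a + 1) → ∀ (hd : p ∣ m) (H : Subgroup (Equiv.Perm (ZMod m))),
    Group.IsSolvable H → rot m ∈ H → ∀ σ ∈ H,
      (∀ x y, ZMod.castHom hd (ZMod p) x = ZMod.castHom hd (ZMod p) y →
        ZMod.castHom hd (ZMod p) (σ x) = ZMod.castHom hd (ZMod p) (σ y)) ∧
      (a = 0 → ∃ k : ZMod m, ∀ x, σ (x + 1) = σ x + k) := by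
  intro a
  induction a using Nat.strong_induction_on with
  | _ a ih =>
  intro m hm hd H hsol hrot σ hσ
  classical
  haveI := hsol
  haveI : NeZero m := ⟨by rw [hm]; exact pow_ne_zero _ hp.out.ne_zero⟩
  haveI : Fact (1 < m) := ⟨by rw [hm]; exact Nat.one_lt_pow (by omega) hp.out.one_lt⟩
  haveI : Nontrivial H := ⟨⟨⟨rot m, hrot⟩, 1, fun e => by
    have := congrArg (fun f : Equiv.Perm (ZMod m) => f 0) (congrArg Subtype.val e)
    simp [rot] at this⟩⟩
  obtain ⟨r, N₀, hr, hN₀n, hN₀ne, hN₀c, hN₀e⟩ := exists_normal_elementary (G := H)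
  set N := N₀.map H.subtype with hN
  have hnorm : H ≤ normalizer (N : Set (Equiv.Perm (ZMod m))) :=
    (fun h hh => by
      rw [Cfsg.Lib.Core.mem_normalizer_iff_map_conj, hN, Subgroup.map_map]
      have e : (MulAut.conj h).toMonoidHom.comp H.subtype = H.subtype.comp (MulAut.conj (⟨h, hh⟩ : H)).toMonoidHom := by
        ext f : 1; rfl
      rw [e, ← Subgroup.map_map, Cfsg.Lib.Core.normal_iff_map_conj.1 hN₀n])
  have hab : ∀ u ∈ N, ∀ v ∈ N, u * v = v * u := by
    rintro _ ⟨u, hu, rfl⟩ _ ⟨v, hv, rfl⟩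
    exact congrArg Subtype.val (hN₀c u hu v hv)
  have hexp : ∀ v ∈ N, v ^ r = 1 := by
    rintro _ ⟨v, hv, rfl⟩
    rw [← map_pow, hN₀e v hv, map_one]
  have hconj : ∀ h ∈ H, ∀ v ∈ N, h * v * h⁻¹ ∈ N := fun h hh v hv => (mem_normalizer_iff.1 (hnorm hh) v).1 hv
  set R := rot m with hR
  let K : AddSubgroup (ZMod m) :=
    { carrier := {k | ∃ v ∈ N, v 0 = k}
      zero_mem' := ⟨1, one_mem N, rfl⟩
      add_mem' := by
        rintro _ l ⟨v, hv, rfl⟩ ⟨w, hw, rfl⟩
        refine ⟨R ^ (v 0).val * w * (R ^ (v 0).val)⁻¹ * v, mul_mem (hconj _ (pow_mem hrot _) w hw) hv, ?_⟩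
        rw [Equiv.Perm.mul_apply, Equiv.Perm.mul_apply, Equiv.Perm.mul_apply, hR, rot_pow_inv_apply,
          ZMod.natCast_zmod_val, sub_self, rot_pow_apply, ZMod.natCast_zmod_val, add_comm]
      neg_mem' := by
        rintro _ ⟨v, hv, rfl⟩
        refine ⟨(R ^ (v 0).val)⁻¹ * v⁻¹ * ((R ^ (v 0).val)⁻¹)⁻¹, hconj _ (inv_mem (pow_mem hrot _)) _ (inv_mem hv), ?_⟩
        rw [Equiv.Perm.mul_apply, Equiv.Perm.mul_apply, inv_inv, hR, rot_pow_apply, zero_add, ZMod.natCast_zmod_val,
          Equiv.Perm.coe_inv v, Equiv.symm_apply_apply, rot_pow_inv_apply, zero_sub, ZMod.natCast_zmod_val] }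
  have hblock : ∀ x y, x - y ∈ K ↔ ∃ v ∈ N, v y = x := by
    intro x y
    constructor
    · rintro ⟨v, hv, hv0⟩
      refine ⟨R ^ y.val * v * (R ^ y.val)⁻¹, hconj _ (pow_mem hrot _) v hv, ?_⟩
      rw [Equiv.Perm.mul_apply, Equiv.Perm.mul_apply, hR, rot_pow_inv_apply, ZMod.natCast_zmod_val, sub_self,
        rot_pow_apply, hv0, ZMod.natCast_zmod_val, sub_add_cancel]
    · rintro ⟨v, hv, rfl⟩
      refine ⟨(R ^ y.val)⁻¹ * v * ((R ^ y.val)⁻¹)⁻¹, hconj _ (inv_mem (pow_mem hrot _)) v hv, ?_⟩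
      rw [Equiv.Perm.mul_apply, Equiv.Perm.mul_apply, inv_inv, hR, rot_pow_apply, ZMod.natCast_zmod_val, zero_add,
        rot_pow_inv_apply, ZMod.natCast_zmod_val]
  have hcompat : ∀ h ∈ H, ∀ x y, x - y ∈ K → h x - h y ∈ K := by
    intro h hh x y hxy
    obtain ⟨v, hv, rfl⟩ := (hblock x y).1 hxy
    refine (hblock _ _).2 ⟨h * v * h⁻¹, hconj h hh v hv, ?_⟩
    simp
  obtain ⟨l, hl, hlK⟩ := exists_level a hm K
  have hKne : l ≠ a + 1 := by
    intro e
    obtain ⟨w, hw, hw1⟩ := (Subgroup.bot_or_exists_ne_one N₀).resolve_left hN₀ne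
    refine hw1 (Subtype.ext (Equiv.ext fun y => ?_))
    have h1 : (w : Equiv.Perm (ZMod m)) y - y ∈ K := (hblock _ _).2 ⟨w, ⟨w, hw, rfl⟩, rfl⟩
    rw [hlK, e, ← hm] at h1
    have h2 := Nat.eq_zero_of_dvd_of_lt h1 (ZMod.val_lt _)
    rw [ZMod.val_eq_zero, sub_eq_zero] at h2
    exact h2
  rcases l with _ | j
  · obtain ⟨ha0, hRN, hNR⟩ := regular_case hp2 a hm N hab hr hexp (hnorm hrot) (fun x => (hlK x).2 (by simp))
    subst ha0
    refine ⟨fun x y hxy => ?_, fun _ => ?_⟩
    · suffices e : x = y by rw [e]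
      apply ZMod.val_injective _
      rw [ZMod.castHom_apply, ZMod.castHom_apply, ← ZMod.natCast_val, ← ZMod.natCast_val,
        ZMod.natCast_eq_natCast_iff'] at hxy
      have hb : ∀ u : ZMod m, u.val < p := fun u => by have := ZMod.val_lt u; simpa [hm] using this
      rwa [Nat.mod_eq_of_lt (hb x), Nat.mod_eq_of_lt (hb y)] at hxy
    · obtain ⟨i, hi⟩ := mem_powers_iff_mem_zpowers.2 (hNR (hconj σ hσ _ hRN))
      refine ⟨(i : ZMod m), fun x => ?_⟩
      have h := congrArg (fun f : Equiv.Perm (ZMod m) => f (σ x)) hi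
      simp only [hR, rot_pow_apply, Equiv.Perm.mul_apply, Equiv.Perm.coe_inv, Equiv.symm_apply_apply] at h
      rw [h]; rfl
  have hja : j < a := by omega
  refine ⟨?_, fun h0 => absurd hja (by omega)⟩
  obtain ⟨m', hm'⟩ : ∃ m' : ℕ, m' = p ^ (j + 1) := ⟨_, rfl⟩
  have hd' : p ∣ m' := hm' ▸ dvd_pow_self p j.succ_ne_zero
  haveI : NeZero m' := ⟨by rw [hm']; exact pow_ne_zero _ hp.out.ne_zero⟩
  have hdvd : m' ∣ m := by rw [hm, hm']; exact pow_dvd_pow p (by omega)
  set f := ZMod.castHom hdvd (ZMod m') with hf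
  have hfK : ∀ x y, f x = f y ↔ x - y ∈ K := fun x y => by
    rw [hlK, ← sub_eq_zero, ← map_sub, hf, ZMod.castHom_apply, ← ZMod.natCast_val, ZMod.natCast_eq_zero_iff, hm']
  have hlift : ∀ y : ZMod m', f (y.val : ZMod m) = y := fun y => by rw [map_natCast, ZMod.natCast_zmod_val]
  have hact : ∀ h ∈ H, ∀ x y, f x = f y → f (h x) = f (h y) := fun h hh x y e =>
    (hfK _ _).2 (hcompat h hh x y ((hfK x y).1 e))
  let φ : H → Equiv.Perm (ZMod m') := fun h =>
    { toFun := fun y => f ((h : Equiv.Perm (ZMod m)) (y.val : ZMod m))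
      invFun := fun y => f ((h : Equiv.Perm (ZMod m))⁻¹ (y.val : ZMod m))
      left_inv := fun y => by
        show f ((h : Equiv.Perm (ZMod m))⁻¹ _) = y
        rw [hact _ (inv_mem h.2) _ ((h : Equiv.Perm (ZMod m)) (y.val : ZMod m)) (hlift _), Equiv.Perm.coe_inv,
          Equiv.symm_apply_apply, hlift]
      right_inv := fun y => by
        show f ((h : Equiv.Perm (ZMod m)) _) = y
        rw [hact _ h.2 _ ((h : Equiv.Perm (ZMod m))⁻¹ (y.val : ZMod m)) (hlift _), Equiv.Perm.coe_inv,
          Equiv.apply_symm_apply, hlift] }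
  have hφ : ∀ (h : H) x, φ h (f x) = f ((h : Equiv.Perm (ZMod m)) x) := fun h x => hact _ h.2 _ _ (hlift (f x))
  let ψ : H →* Equiv.Perm (ZMod m') := MonoidHom.mk' φ fun h h' => Equiv.ext fun y => by
    rw [← hlift y, hφ, Equiv.Perm.mul_apply, hφ, hφ]; rfl
  haveI : Group.IsSolvable ψ.range := Group.isSolvable_of_surjective ψ.rangeRestrict_surjective
  have hrot' : rot m' ∈ ψ.range := ⟨⟨R, hrot⟩, Equiv.ext fun y => by
    show φ _ y = _
    conv_lhs => rw [← hlift y, hφ]
    show f (((y.val : ℕ) : ZMod m) + 1) = y + 1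
    rw [map_add, map_one, hlift]⟩
  intro x y hxy
  obtain ⟨ih1, -⟩ := ih j hja hm' hd' ψ.range inferInstance hrot' (ψ ⟨σ, hσ⟩) ⟨_, rfl⟩
  set g := ZMod.castHom hd' (ZMod p) with hg
  have hgf : ∀ w, g (f w) = ZMod.castHom hd (ZMod p) w := fun w => by
    rw [← RingHom.comp_apply, RingHom.ext_zmod (g.comp f) (ZMod.castHom hd (ZMod p))]
  have h := ih1 (f x) (f y) (by rw [hgf, hgf]; exact hxy)
  rw [show ψ ⟨σ, hσ⟩ (f x) = f (σ x) from hφ _ x, show ψ ⟨σ, hσ⟩ (f y) = f (σ y) from hφ _ y, hgf, hgf] at h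
  exact h

/-! ### Invariant sets made of cycles -/

section Orbits

variable {n : ℕ} (w : Equiv.Perm (Fin n))

/-- The period of a point. -/
noncomputable def per (x : Fin n) : ℕ := Function.minimalPeriod w x

/-- The cycle of a point. -/
noncomputable def cyc (x : Fin n) : Finset (Fin n) := (Finset.range (per w x)).image fun i => w^[i] x

theorem per_pos (x : Fin n) : 0 < per w x :=
  Function.minimalPeriod_pos_of_mem_periodicPts
    ⟨orderOf w, orderOf_pos w, show w^[orderOf w] x = x by rw [← Equiv.Perm.coe_pow, pow_orderOf_eq_one]; rfl⟩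

theorem iterate_per (x : Fin n) : w^[per w x] x = x := Function.iterate_minimalPeriod

theorem card_cyc (x : Fin n) : (cyc w x).card = per w x := by
  rw [cyc, Finset.card_image_of_injOn, Finset.card_range]
  intro i hi j hj h
  exact Function.iterate_injOn_Iio_minimalPeriod (by simpa [per] using hi) (by simpa [per] using hj) h

theorem iterate_mem_cyc (x : Fin n) (i : ℕ) : w^[i] x ∈ cyc w x :=
  Finset.mem_image.2 ⟨i % per w x, Finset.mem_range.2 (Nat.mod_lt _ (per_pos w x)),
    Function.iterate_mod_minimalPeriod_eq⟩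

theorem self_mem_cyc (x : Fin n) : x ∈ cyc w x := iterate_mem_cyc w x 0

theorem cyc_invariant (x : Fin n) : ∀ y ∈ cyc w x, w y ∈ cyc w x := by
  intro y hy
  obtain ⟨i, -, rfl⟩ := Finset.mem_image.1 hy
  rw [← Function.iterate_succ_apply' w]
  exact iterate_mem_cyc w x _

theorem cyc_subset {X : Finset (Fin n)} (hX : ∀ y ∈ X, w y ∈ X) {x : Fin n} (hx : x ∈ X) : cyc w x ⊆ X := by
  intro y hy
  obtain ⟨i, -, rfl⟩ := Finset.mem_image.1 hy
  clear hy
  induction i with
  | zero => exact hx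
  | succ i ih => rw [Function.iterate_succ_apply']; exact hX _ ih

theorem sdiff_invariant {X B : Finset (Fin n)} (hX : ∀ y ∈ X, w y ∈ X) (hB : ∀ y ∈ B, w y ∈ B) :
    ∀ y ∈ X \ B, w y ∈ X \ B := by
  intro y hy
  rw [Finset.mem_sdiff] at hy ⊢
  refine ⟨hX y hy.1, fun h => hy.2 ?_⟩
  have he : B.image w = B := Finset.eq_of_subset_of_card_le (Finset.image_subset_iff.2 hB)
    (by rw [Finset.card_image_of_injective _ w.injective])
  rw [← he, Finset.mem_image] at h
  obtain ⟨y', hy', e⟩ := h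
  rwa [← w.injective e]

variable {p : ℕ} (hp : p.Prime)
include hp

theorem per_eq_pow {k : ℕ} (hw : orderOf w = p ^ k) (x : Fin n) : ∃ i, per w x = p ^ i := by
  have h : per w x ∣ p ^ k := Function.IsPeriodicPt.minimalPeriod_dvd
    (show w^[p ^ k] x = x by rw [← Equiv.Perm.coe_pow, ← hw, pow_orderOf_eq_one]; rfl)
  obtain ⟨i, -, hi⟩ := (Nat.dvd_prime_pow hp).1 h
  exact ⟨i, hi⟩

theorem repeat_block {b : ℕ} (h : ∀ X : Finset (Fin n), (∀ y ∈ X, w y ∈ X) → (∀ y ∈ X, per w y ≤ p ^ b) →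
      p ^ b ≤ X.card → ∃ B ⊆ X, (∀ y ∈ B, w y ∈ B) ∧ B.card = p ^ b) :
    ∀ (k : ℕ) (X : Finset (Fin n)), (∀ y ∈ X, w y ∈ X) → (∀ y ∈ X, per w y ≤ p ^ b) → k * p ^ b ≤ X.card →
      ∃ B ⊆ X, (∀ y ∈ B, w y ∈ B) ∧ B.card = k * p ^ b := by
  intro k
  induction k with
  | zero => intro X _ _ _; exact ⟨∅, Finset.empty_subset X, by simp, by simp⟩
  | succ k ih =>
    intro X hX hper hc
    obtain ⟨B, hBX, hBi, hBc⟩ := h X hX hper (le_trans (Nat.le_mul_of_pos_left _ k.succ_pos) hc)
    obtain ⟨B', hB'X, hB'i, hB'c⟩ := ih (X \ B) (sdiff_invariant w hX hBi)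
      (fun y hy => hper y (Finset.mem_sdiff.1 hy).1) (by
        rw [Finset.card_sdiff_of_subset hBX, hBc]
        rw [Nat.succ_mul] at hc
        omega)
    refine ⟨B ∪ B', Finset.union_subset hBX (hB'X.trans Finset.sdiff_subset), fun y hy => ?_, ?_⟩
    · rcases Finset.mem_union.1 hy with hy | hy
      · exact Finset.mem_union_left _ (hBi y hy)
      · exact Finset.mem_union_right _ (hB'i y hy)
    · rw [Finset.card_union_of_disjoint ((Finset.disjoint_sdiff).mono_right hB'X), hBc, hB'c, Nat.succ_mul, add_comm]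

theorem take_block {k : ℕ} (hw : orderOf w = p ^ k) : ∀ (b : ℕ) (X : Finset (Fin n)), (∀ y ∈ X, w y ∈ X) →
    (∀ y ∈ X, per w y ≤ p ^ b) → p ^ b ≤ X.card → ∃ B ⊆ X, (∀ y ∈ B, w y ∈ B) ∧ B.card = p ^ b := by
  intro b
  induction b with
  | zero =>
    intro X hX hper hc
    obtain ⟨x, hx⟩ := Finset.card_pos.1 (lt_of_lt_of_le (by simp) hc)
    refine ⟨cyc w x, cyc_subset w hX hx, cyc_invariant w x, ?_⟩
    rw [card_cyc]
    exact le_antisymm (hper x hx) (by rw [pow_zero]; exact per_pos w x)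
  | succ b ih =>
    intro X hX hper hc
    by_cases hbig : ∃ x ∈ X, per w x = p ^ (b + 1)
    · obtain ⟨x, hx, hxp⟩ := hbig
      exact ⟨cyc w x, cyc_subset w hX hx, cyc_invariant w x, by rw [card_cyc, hxp]⟩
    · push Not at hbig
      obtain ⟨B, h1, h2, h3⟩ := repeat_block w hp ih p X hX (fun y hy => by
        obtain ⟨i, hi⟩ := per_eq_pow w hp hw y
        have hle := hper y hy
        have hne := hbig y hy
        rw [hi] at hle hne ⊢
        refine Nat.pow_le_pow_right hp.pos ?_
        have h1 := (Nat.pow_le_pow_iff_right hp.one_lt).1 hle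
        have h2 : i ≠ b + 1 := fun e => hne (by rw [e])
        omega) (by rwa [← pow_succ'])
      exact ⟨B, h1, h2, by rw [h3, pow_succ']⟩

end Orbits

/-! ### The long cycle case -/

theorem zero_ne_two5 : ¬ ((0 : ZMod 5) = 1 + 1) := by decide

theorem three_one5 : (3 : ZMod 5) + 1 ≠ 1 := by decide

theorem five_sign : Equiv.Perm.sign (⟨(![2, 1, 3, 4, 0] : Fin 5 → ZMod 5), (![4, 1, 0, 2, 3] : Fin 5 → ZMod 5),
    by unfold Function.LeftInverse; decide, by unfold Function.RightInverse Function.LeftInverse; decide⟩ :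
      Equiv.Perm (ZMod 5)) = -1 := by decide

/-- The patterns on five points. -/
theorem five_data {m : ℕ} [hm0 : NeZero m] (hm : m = 5) : ∃ (t : Fin 5 ↪ ZMod m) (τ : Equiv.Perm (ZMod m)),
    Equiv.Perm.sign τ = -1 ∧ ∀ σ : Equiv.Perm (ZMod m),
      ((∀ i, σ (t i) = t (i + 1)) ∨ ∀ i, σ (τ (t i)) = τ (t (i + 1))) →
        (∃ (x : ZMod m) (k : ℕ), ¬ 5 ∣ k ∧ ((rot m * σ) ^ k) x = x ∧ (rot m * σ) x ≠ x) ∧
          ∀ k, ¬ ∀ x, σ (x + 1) = σ x + k := by
  subst hm
  refine ⟨⟨(![0, 1, 2, 4, 3] : Fin 5 → ZMod 5), ?_⟩,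
    ⟨(![2, 1, 3, 4, 0] : Fin 5 → ZMod 5), (![4, 1, 0, 2, 3] : Fin 5 → ZMod 5), ?_, ?_⟩, ?_, ?_⟩
  · clear hm0
    decide
  · clear hm0
    unfold Function.LeftInverse
    decide
  · clear hm0
    unfold Function.RightInverse Function.LeftInverse
    decide
  · exact five_sign
  · intro σ h
    have k1 : ∀ k : ZMod 5, (2 : ZMod 5) = 1 + k → (4 : ZMod 5) = 2 + k → False := by clear hm0; decide
    have k2 : ∀ k : ZMod 5, (1 : ZMod 5) = 3 + k → (0 : ZMod 5) = 1 + k → False := by clear hm0; decide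
    rcases h with h | h
    · have e0 : σ 0 = 1 := h 0
      have e1 : σ 1 = 2 := h 1
      have e2 : σ 2 = 4 := h 2
      refine ⟨⟨0, 2, by norm_num, ?_, ?_⟩, fun k hk => k1 k ?_ ?_⟩
      · show σ (σ 0 + 1) + 1 = 0
        rw [e0, show (1 : ZMod 5) + 1 = 2 from rfl, e2]; rfl
      · show σ 0 + 1 ≠ 0
        rw [e0]; exact fun e => absurd e.symm (zero_ne_two5)
      · have := hk 0
        rwa [zero_add, e1, e0] at this
      · have := hk 1
        rwa [show (1 : ZMod 5) + 1 = 2 from rfl, e2, e1] at this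
    · have e0 : σ 2 = 1 := h 0
      have e1 : σ 1 = 3 := h 1
      have e2 : σ 3 = 0 := h 2
      have e4 : σ 4 = 2 := h 4
      refine ⟨⟨1, 3, by norm_num, ?_, ?_⟩, fun k hk => k2 k ?_ ?_⟩
      · show σ (σ (σ 1 + 1) + 1) + 1 = 1
        rw [e1, show (3 : ZMod 5) + 1 = 4 from rfl, e4, show (2 : ZMod 5) + 1 = 3 from rfl, e2]; rfl
      · show σ 1 + 1 ≠ 1
        rw [e1]; exact three_one5
      · have := hk 1
        rwa [show (1 : ZMod 5) + 1 = 2 from rfl, e0, e1] at this
      · have := hk 2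
        rwa [show (2 : ZMod 5) + 1 = 3 from rfl, e2, e0] at this

set_option maxHeartbeats 1000000 in
theorem general_case {p : ℕ} [hp : Fact p.Prime] (hp3 : 3 ≤ p) {n : ℕ} (u w : Equiv.Perm (Fin n)) {ku kw : ℕ}
    (hku : orderOf u = p ^ ku) (hkw : orderOf w = p ^ kw) {x₀ z₀ : Fin n} {a : ℕ} (hm5 : 5 ≤ p ^ (a + 1))
    (hx₀ : per u x₀ = p ^ (a + 1)) (hz₁ : 1 < per w z₀) (hle : ∀ y, per w y ≤ per w z₀)
    (hwu : per w z₀ ≤ p ^ (a + 1)) : Conc p u w := by
  classical
  have hpp := hp.out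
  have hp2 : p ≠ 2 := by omega
  set m := p ^ (a + 1) with hm
  haveI : NeZero m := ⟨by omega⟩
  haveI : Fact (1 < m) := ⟨by omega⟩
  obtain ⟨i, hi⟩ := per_eq_pow w hpp hkw z₀
  obtain ⟨b, rfl⟩ : ∃ b, i = b + 1 := Nat.exists_eq_succ_of_ne_zero fun e => by rw [hi, e, pow_zero] at hz₁; omega
  have hba : b ≤ a := by
    rw [hi, hm] at hwu
    have := (Nat.pow_le_pow_iff_right hpp.one_lt).1 hwu
    omega
  -- the block
  have hcount : (cyc w z₀).card ≤ m := by rw [card_cyc]; exact hwu
  obtain ⟨B', hB'X, hB'i, hB'c⟩ := repeat_block w hpp (take_block w hpp hkw (b + 1)) (p ^ (a - b) - 1)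
    (Finset.univ \ cyc w z₀) (sdiff_invariant w (fun y _ => Finset.mem_univ _) (cyc_invariant w z₀))
    (fun y _ => hi ▸ hle y) (by
      rw [Finset.card_sdiff_of_subset (Finset.subset_univ _), Finset.card_univ, Fintype.card_fin, card_cyc, hi, Nat.sub_mul,
        one_mul, ← pow_add, show a - b + (b + 1) = a + 1 by omega]
      have := Finset.card_le_univ (cyc u x₀)
      rw [card_cyc, hx₀, Fintype.card_fin] at this
      rw [← hm]
      omega)
  set B := cyc w z₀ ∪ B' with hBdef
  have hB : B.card = Fintype.card (ZMod m) := by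
    rw [hBdef, Finset.card_union_of_disjoint (Finset.disjoint_sdiff.mono_right hB'X), hB'c, card_cyc, hi, ZMod.card,
      Nat.sub_mul, one_mul, ← pow_add, show a - b + (b + 1) = a + 1 by omega, ← hm]
    have : p ^ (b + 1) ≤ m := Nat.pow_le_pow_right hpp.pos (by omega)
    omega
  have hBi : ∀ y ∈ B, w y ∈ B := fun y hy => by
    rcases Finset.mem_union.1 hy with h | h
    · exact Finset.mem_union_left _ (cyc_invariant w z₀ y h)
    · exact Finset.mem_union_right _ (hB'i y h)
  -- the long cycle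
  let ι : ZMod m ↪ Fin n := ⟨fun x => u^[x.val] x₀, fun x y h => ZMod.val_injective m
    (Function.iterate_injOn_Iio_minimalPeriod (f := u) (x := x₀)
      (show x.val < per u x₀ by rw [hx₀]; exact ZMod.val_lt x)
      (show y.val < per u x₀ by rw [hx₀]; exact ZMod.val_lt y) h)⟩
  have hu : ∀ x, u (ι x) = ι (rot m x) := fun x => by
    show u (u^[x.val] x₀) = u^[(x + 1).val] x₀
    rw [← Function.iterate_succ_apply' u, ZMod.val_add, ZMod.val_one, ← Function.iterate_mod_minimalPeriod_eq (n := x.val + 1)]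
    show u^[(x.val + 1) % per u x₀] x₀ = _
    rw [hx₀]
  have hnat : ∀ k : ℕ, 0 < k → k < m → (k : ZMod m) ≠ 0 := fun k h0 hk e =>
    absurd (Nat.le_of_dvd h0 ((ZMod.natCast_eq_zero_iff k m).1 e)) (by omega)
  have h1ne : (1 : ZMod m) ≠ 0 := by simpa using hnat 1 (by omega) (by omega)
  have h2ne : (2 : ZMod m) ≠ 0 := by simpa using hnat 2 (by omega) (by omega)
  have h3ne : (3 : ZMod m) ≠ 0 := by simpa using hnat 3 (by omega) (by omega)
  have h4ne : (4 : ZMod m) ≠ 0 := by simpa using hnat 4 (by omega) (by omega)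
  set π := ZMod.castHom (dvd_pow_self p a.succ_ne_zero) (ZMod p) with hπ
  have hpnat : ∀ k : ℕ, 0 < k → k < p → (k : ZMod p) ≠ 0 := fun k h0 hk e =>
    absurd (Nat.le_of_dvd h0 ((ZMod.natCast_eq_zero_iff k p).1 e)) (by omega)
  have p2ne : (2 : ZMod p) ≠ 0 := by simpa using hpnat 2 (by omega) (by omega)
  -- what a bad permutation would satisfy
  have hstruct : ∀ σ : Equiv.Perm (ZMod m), Group.IsSolvable (closure ({rot m, σ} : Set (Equiv.Perm (ZMod m)))) →
      (∀ x y, π x = π y → π (σ x) = π (σ y)) ∧ (∀ x y, π (σ x) = π (σ y) → π x = π y) ∧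
        (a = 0 → ∃ k, ∀ x, σ (x + 1) = σ x + k) := by
    intro σ hs
    have hr : rot m ∈ closure ({rot m, σ} : Set (Equiv.Perm (ZMod m))) := subset_closure (Set.mem_insert _ _)
    have hσ : σ ∈ closure ({rot m, σ} : Set (Equiv.Perm (ZMod m))) := subset_closure (Set.mem_insert_of_mem _ rfl)
    obtain ⟨h1, h2⟩ := structure_main hp2 a hm (dvd_pow_self p a.succ_ne_zero) _ hs hr σ hσ
    obtain ⟨h3, -⟩ := structure_main hp2 a hm (dvd_pow_self p a.succ_ne_zero) _ hs hr σ⁻¹ (inv_mem hσ)
    refine ⟨h1, fun x y e => ?_, h2⟩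
    have := h3 _ _ e
    rwa [Equiv.Perm.coe_inv, Equiv.symm_apply_apply, Equiv.symm_apply_apply] at this
  have hgoodper : ∀ σ : Equiv.Perm (ZMod m), ∀ x y, σ x + 1 = y → σ y + 1 = x → x ≠ y →
      ∃ (x : ZMod m) (k : ℕ), ¬ p ∣ k ∧ ((rot m * σ) ^ k) x = x ∧ (rot m * σ) x ≠ x := by
    intro σ x y hxy hyx hne
    refine ⟨x, 2, fun h => absurd (Nat.le_of_dvd (by norm_num) h) (by omega), ?_, ?_⟩
    · rw [pow_two, Equiv.Perm.mul_apply, Equiv.Perm.mul_apply, Equiv.Perm.mul_apply]
      show σ (σ x + 1) + 1 = x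
      rw [hxy, hyx]
    · show σ x + 1 ≠ x
      rw [hxy]; exact hne.symm
  have hit : ∀ i, w^[i] z₀ ∈ B := fun i => Finset.mem_union_left _ (iterate_mem_cyc w z₀ i)
  have hinj : ∀ i j, i < p ^ (b + 1) → j < p ^ (b + 1) → w^[i] z₀ = w^[j] z₀ → i = j := fun i j h1 h2 e =>
    Function.iterate_injOn_Iio_minimalPeriod (show i < per w z₀ by omega) (show j < per w z₀ by omega) e
  by_cases hq : 5 ≤ p ^ (b + 1)
  · let z4 : Fin 4 ↪ Fin n := ⟨fun i => w^[(i : ℕ)] z₀, fun i j e => Fin.ext (hinj _ _ (by omega) (by omega) e)⟩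
    let z5 : Fin 5 ↪ Fin n := ⟨fun i => w^[(i : ℕ)] z₀, fun i j e => Fin.ext (hinj _ _ (by omega) (by omega) e)⟩
    have hz4 : ∀ i, z4 i ∈ B := fun i => hit _
    have hz5 : ∀ i, z5 i ∈ B := fun i => hit _
    rcases Nat.eq_zero_or_pos a with ha | ha
    · -- prime degree
      subst ha
      have hp5 : 5 ≤ p := by simpa [hm] using hm5
      by_cases hp6 : p = 5
      · subst hp6
        obtain ⟨t, τ, hτ, ht⟩ := five_data (m := m) (by rw [hm]; norm_num)
        have hp5' : per w z₀ = 5 := by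
          rw [hi, show b = 0 by omega]; norm_num
        have hw5 : ∀ i, w (z5 i) = z5 (i + 1) := by
          intro i
          have h5 : w^[5] z₀ = z₀ := by rw [← hp5']; exact iterate_per w z₀
          fin_cases i
          exacts [rfl, rfl, rfl, rfl, h5]
        have main : ∀ σ : Equiv.Perm (ZMod m), ((∀ i, σ (t i) = t (i + 1)) ∨ ∀ i, σ (τ (t i)) = τ (t (i + 1))) →
            Good 5 (rot m) σ := fun σ h => ⟨(ht σ h).1, fun hs => by
          obtain ⟨k, hk⟩ := (hstruct σ hs).2.2 rfl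
          exact (ht σ h).2 k hk⟩
        exact finish hpp ι (rot m) hu B hB hBi z5 hz5 t τ hτ (fun σ h => main σ (Or.inl fun i => h i _ (hw5 i)))
          (fun σ h => main σ (Or.inr fun i => h i _ (hw5 i)))
      · have hp7 : 7 ≤ p := by
          rcases Nat.lt_or_ge p 7 with h | h
          · rcases (show p = 5 ∨ p = 6 by omega) with h | h
            · exact absurd h hp6
            · exact absurd (h ▸ hpp) (by norm_num)
          · exact h
        have h5ne : (5 : ZMod m) ≠ 0 := by simpa using hnat 5 (by omega) (by rw [hm]; simpa using (by omega : 5 < p))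
        have h6ne : (6 : ZMod m) ≠ 0 := by simpa using hnat 6 (by omega) (by rw [hm]; simpa using (by omega : 6 < p))
        let t : Fin 4 ↪ ZMod m := ⟨![0, 1, 2, -1], by
          intro i j e
          fin_cases i <;> fin_cases j <;> simp at e ⊢
          all_goals first
            | exact h1ne (by linear_combination e)
            | exact h1ne (by linear_combination -e)
            | exact h2ne (by linear_combination e)
            | exact h2ne (by linear_combination -e)
            | exact h3ne (by linear_combination e)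
            | exact h3ne (by linear_combination -e)⟩
        have hfix : ∀ i, Equiv.swap (3 : ZMod m) 4 (t i) = t i := fun i => by
          refine Equiv.swap_apply_of_ne_of_ne ?_ ?_ <;> intro e <;>
            replace e : (![0, 1, 2, -1] : Fin 4 → ZMod m) i = _ := e <;> fin_cases i <;> simp at e
          all_goals first
            | exact h1ne (by linear_combination e)
            | exact h1ne (by linear_combination -e)
            | exact h2ne (by linear_combination e)
            | exact h2ne (by linear_combination -e)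
            | exact h3ne (by linear_combination e)
            | exact h3ne (by linear_combination -e)
            | exact h4ne (by linear_combination e)
            | exact h4ne (by linear_combination -e)
            | exact h5ne (by linear_combination e)
            | exact h5ne (by linear_combination -e)
        have main : ∀ σ : Equiv.Perm (ZMod m), (∀ i j, w (z4 i) = z4 j → σ (t i) = t j) → Good p (rot m) σ := by
          intro σ h
          have e0 : σ 0 = 1 := h 0 1 rfl
          have e1 : σ 1 = 2 := h 1 2 rfl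
          have e2 : σ 2 = -1 := h 2 3 rfl
          refine ⟨hgoodper σ 0 2 (by rw [e0]; norm_num) (by rw [e2]; simp) h2ne.symm, fun hs => ?_⟩
          obtain ⟨k, hk⟩ := (hstruct σ hs).2.2 rfl
          have k1 := hk 0
          have k2 := hk 1
          rw [zero_add, e1, e0] at k1
          rw [one_add_one_eq_two, e2, e1] at k2
          exact h4ne (by linear_combination k1 - k2)
        exact finish hpp ι (rot m) hu B hB hBi z4 hz4 t (Equiv.swap 3 4)
          (Equiv.Perm.sign_swap (fun e => h1ne (by linear_combination -e))) main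
          (fun σ h => main σ (fun i j hij => by simpa [hfix] using h i j hij))
    · -- prime power degree
      have hp9 : p * p ≤ m := by rw [← pow_two, hm]; exact Nat.pow_le_pow_right hpp.pos (by omega)
      have h9 : 9 ≤ m := le_trans (Nat.mul_le_mul hp3 hp3) hp9
      have hpm : p + 3 < m := by have := Nat.mul_le_mul_right p hp3; omega
      have hy : ∀ k : ℕ, k ≤ 3 → ((p + k : ℕ) : ZMod m) ≠ 0 := fun k hk => hnat _ (by omega) (by omega)
      have hy0 : (p : ZMod m) ≠ 0 := by simpa using hy 0 (by omega)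
      have hy1 : (p : ZMod m) + 1 ≠ 0 := by simpa using hy 1 (by omega)
      have hy2 : (p : ZMod m) + 2 ≠ 0 := by simpa using hy 2 (by omega)
      have hy3 : (p : ZMod m) + 3 ≠ 0 := by simpa using hy 3 (by omega)
      have hym : (p : ZMod m) - 1 ≠ 0 := by
        intro e
        apply hnat (p - 1) (by omega) (by omega)
        rw [Nat.cast_sub (by omega)]; simpa using e
      obtain ⟨o, o', hoo, ho⟩ : ∃ o o' : ZMod m, o ≠ o' ∧ ∀ x ∈ ({0, 1, 2, -1, (p : ZMod m) + 1} : Finset (ZMod m)),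
          x ≠ o ∧ x ≠ o' := by
        have hc : 2 ≤ (Finset.univ \ ({0, 1, 2, -1, (p : ZMod m) + 1} : Finset (ZMod m))).card := by
          rw [Finset.card_sdiff_of_subset (Finset.subset_univ _), Finset.card_univ, ZMod.card]
          have : ({0, 1, 2, -1, (p : ZMod m) + 1} : Finset (ZMod m)).card ≤ 5 := Finset.card_le_five
          omega
        obtain ⟨o, ho, o', ho', hne⟩ := Finset.one_lt_card.1 hc
        exact ⟨o, o', hne, fun x hx => ⟨fun e => (Finset.mem_sdiff.1 ho).2 (e ▸ hx),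
          fun e => (Finset.mem_sdiff.1 ho').2 (e ▸ hx)⟩⟩
      let t : Fin 5 ↪ ZMod m := ⟨![0, 1, 2, -1, (p : ZMod m) + 1], by
        intro i j e
        fin_cases i <;> fin_cases j <;> simp at e ⊢
        all_goals first
          | exact h1ne (by linear_combination e)
          | exact h1ne (by linear_combination -e)
          | exact h2ne (by linear_combination e)
          | exact h2ne (by linear_combination -e)
          | exact h3ne (by linear_combination e)
          | exact h3ne (by linear_combination -e)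
          | exact hy0 (by linear_combination e)
          | exact hy0 (by linear_combination -e)
          | exact hy1 (by linear_combination e)
          | exact hy1 (by linear_combination -e)
          | exact hy2 (by linear_combination e)
          | exact hy2 (by linear_combination -e)
          | exact hym (by linear_combination e)
          | exact hym (by linear_combination -e)⟩
      have hmem : ∀ i : Fin 5, (![0, 1, 2, -1, (p : ZMod m) + 1] : Fin 5 → ZMod m) i ∈ ({0, 1, 2, -1, (p : ZMod m) + 1} : Finset (ZMod m)) := by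
        intro i
        fin_cases i <;> simp
      have hfix : ∀ i, Equiv.swap o o' (t i) = t i := fun i => by
        obtain ⟨h1, h2⟩ := ho (t i) (hmem i)
        exact Equiv.swap_apply_of_ne_of_ne h1 h2
      have main : ∀ σ : Equiv.Perm (ZMod m), (∀ i j, w (z5 i) = z5 j → σ (t i) = t j) → Good p (rot m) σ := by
        intro σ h
        have e0 : σ 0 = 1 := h 0 1 rfl
        have e2 : σ 2 = -1 := h 2 3 rfl
        have e3 : σ (-1) = (p : ZMod m) + 1 := h 3 4 rfl
        refine ⟨hgoodper σ 0 2 (by rw [e0]; norm_num) (by rw [e2]; simp) h2ne.symm, fun hs => ?_⟩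
        have h1 := (hstruct σ hs).2.1 (-1) 0 (by rw [e3, e0, map_add, map_natCast, ZMod.natCast_self, zero_add])
        rw [map_neg, map_one, map_zero, neg_eq_zero] at h1
        exact one_ne_zero h1
      exact finish hpp ι (rot m) hu B hB hBi z5 hz5 t (Equiv.swap o o') (Equiv.Perm.sign_swap hoo) main
        (fun σ h => main σ (fun i j hij => by simpa [hfix] using h i j hij))
  · -- cycles of length three
    push Not at hq
    have hpb : p ≤ p ^ (b + 1) := Nat.le_self_pow (by omega) p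
    obtain rfl : p = 3 := by
      rcases (show p = 3 ∨ p = 4 by omega) with h | h
      · exact h
      · exact absurd (h ▸ hpp) (by norm_num)
    obtain rfl : b = 0 := by
      by_contra h
      have : 3 ^ 2 ≤ 3 ^ (b + 1) := Nat.pow_le_pow_right (by norm_num) (by omega)
      omega
    have ha : 1 ≤ a := by
      by_contra h
      obtain rfl : a = 0 := by omega
      norm_num [hm] at hm5
    have h9 : 9 ≤ m := by rw [hm]; exact Nat.pow_le_pow_right (show 0 < 3 by norm_num) (show 2 ≤ a + 1 by omega)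
    have hd : ∀ k : ℕ, 0 < k → k < 9 → (k : ZMod m) ≠ 0 := fun k h1 h2 => hnat k h1 (by omega)
    have h5ne : (5 : ZMod m) ≠ 0 := by simpa using hd 5 (by omega) (by omega)
    have h6ne : (6 : ZMod m) ≠ 0 := by simpa using hd 6 (by omega) (by omega)
    obtain ⟨o, o', hoo, ho⟩ : ∃ o o' : ZMod m, o ≠ o' ∧ ∀ x ∈ ({0, 1, 2, -1, 3} : Finset (ZMod m)), x ≠ o ∧ x ≠ o' := by
      refine ⟨4, 5, fun e => h1ne (by linear_combination -e), fun x hx => ?_⟩
      simp only [Finset.mem_insert, Finset.mem_singleton] at hx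
      rcases hx with rfl | rfl | rfl | rfl | rfl <;> constructor <;> intro e
      all_goals first
        | exact h1ne (by linear_combination e)
        | exact h1ne (by linear_combination -e)
        | exact h2ne (by linear_combination e)
        | exact h2ne (by linear_combination -e)
        | exact h3ne (by linear_combination e)
        | exact h3ne (by linear_combination -e)
        | exact h4ne (by linear_combination e)
        | exact h4ne (by linear_combination -e)
        | exact h5ne (by linear_combination e)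
        | exact h5ne (by linear_combination -e)
        | exact h6ne (by linear_combination e)
        | exact h6ne (by linear_combination -e)
    obtain ⟨y, hyB, hyc⟩ : ∃ y ∈ B, y ∉ cyc w z₀ := by
      by_contra hcon
      push Not at hcon
      have := Finset.card_le_card (show B ⊆ cyc w z₀ from hcon)
      rw [hB, ZMod.card, card_cyc, hi] at this
      omega
    have hw3 : w^[3] z₀ = z₀ := by
      have := iterate_per w z₀
      rwa [hi] at this
    have hπ3 : π (3 : ZMod m) = 0 := by rw [map_ofNat]; rfl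
    have p1ne : (1 : ZMod 3) ≠ 0 := one_ne_zero
    by_cases hyw : w y = y
    · have hne : ∀ i, w^[i] z₀ ≠ y := fun i e => hyc (e ▸ iterate_mem_cyc w z₀ i)
      let z : Fin 4 ↪ Fin n := ⟨![y, z₀, w z₀, w (w z₀)], by
        intro i j e
        fin_cases i <;> fin_cases j <;> simp at e ⊢
        all_goals first
          | exact hne 0 e | exact hne 0 e.symm | exact hne 1 e | exact hne 1 e.symm
          | exact hne 2 e | exact hne 2 e.symm
          | exact absurd (hinj 0 1 (by norm_num) (by norm_num) e) (by norm_num)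
          | exact absurd (hinj 1 0 (by norm_num) (by norm_num) e) (by norm_num)
          | exact absurd (hinj 0 2 (by norm_num) (by norm_num) e) (by norm_num)
          | exact absurd (hinj 2 0 (by norm_num) (by norm_num) e) (by norm_num)
          | exact absurd (hinj 1 2 (by norm_num) (by norm_num) e) (by norm_num)
          | exact absurd (hinj 2 1 (by norm_num) (by norm_num) e) (by norm_num)⟩
      have hz : ∀ i, z i ∈ B := by
        intro i
        fin_cases i
        exacts [hyB, hit 0, hit 1, hit 2]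
      let t : Fin 4 ↪ ZMod m := ⟨![0, 1, -1, 3], by
        intro i j e
        fin_cases i <;> fin_cases j <;> simp at e ⊢
        all_goals first
          | exact h1ne (by linear_combination e)
          | exact h1ne (by linear_combination -e)
          | exact h2ne (by linear_combination e)
          | exact h2ne (by linear_combination -e)
          | exact h3ne (by linear_combination e)
          | exact h3ne (by linear_combination -e)
          | exact h4ne (by linear_combination e)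
          | exact h4ne (by linear_combination -e)⟩
      have hmem : ∀ i : Fin 4, (![0, 1, -1, 3] : Fin 4 → ZMod m) i ∈ ({0, 1, 2, -1, 3} : Finset (ZMod m)) := by
        intro i
        fin_cases i <;> simp
      have hfix : ∀ i, Equiv.swap o o' (t i) = t i := fun i => by
        obtain ⟨h1, h2⟩ := ho (t i) (hmem i)
        exact Equiv.swap_apply_of_ne_of_ne h1 h2
      have main : ∀ σ : Equiv.Perm (ZMod m), (∀ i j, w (z i) = z j → σ (t i) = t j) → Good 3 (rot m) σ := by
        intro σ h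
        have e0 : σ 0 = 0 := h 0 0 hyw
        have e1 : σ 1 = -1 := h 1 2 rfl
        have e3 : σ 3 = 1 := h 3 1 hw3
        refine ⟨hgoodper σ 0 1 (by rw [e0, zero_add]) (by rw [e1, neg_add_cancel]) h1ne.symm, fun hs => ?_⟩
        have h1 := (hstruct σ hs).1 3 0 (by rw [hπ3, map_zero])
        rw [e3, e0, map_one, map_zero] at h1
        exact p1ne h1
      exact finish hpp ι (rot m) hu B hB hBi z hz t (Equiv.swap o o') (Equiv.Perm.sign_swap hoo) main
        (fun σ h => main σ (fun i j hij => by simpa [hfix] using h i j hij))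
    · have hne : ∀ i, w^[i] z₀ ≠ y := fun i e => hyc (e ▸ iterate_mem_cyc w z₀ i)
      have hne' : ∀ i, w^[i] z₀ ≠ w y := fun i e => hne (2 + i) (by
        rw [Function.iterate_add_apply, e]
        have hpy : per w y = 3 := by
          obtain ⟨j, hj⟩ := per_eq_pow w hpp hkw y
          have h1 : per w y ≤ 3 := by have := hle y; rw [hi] at this; simpa using this
          rcases j with _ | _ | j
          · exfalso
            have := iterate_per w y
            rw [hj] at this
            exact hyw (by simpa using this)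
          · simpa using hj
          · rw [hj] at h1
            have : 3 ^ 2 ≤ 3 ^ (j + 1 + 1) := Nat.pow_le_pow_right (by norm_num) (by omega)
            omega
        have := iterate_per w y
        rwa [hpy] at this)
      let z : Fin 5 ↪ Fin n := ⟨![z₀, w z₀, w (w z₀), y, w y], by
        intro i j e
        fin_cases i <;> fin_cases j <;> simp at e ⊢
        all_goals first
          | exact hne 0 e | exact hne 0 e.symm | exact hne 1 e | exact hne 1 e.symm
          | exact hne 2 e | exact hne 2 e.symm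
          | exact hne' 0 e | exact hne' 0 e.symm | exact hne' 1 e | exact hne' 1 e.symm
          | exact hne' 2 e | exact hne' 2 e.symm
          | exact hyw e | exact hyw e.symm
          | exact absurd (hinj 0 1 (by norm_num) (by norm_num) e) (by norm_num)
          | exact absurd (hinj 1 0 (by norm_num) (by norm_num) e) (by norm_num)
          | exact absurd (hinj 0 2 (by norm_num) (by norm_num) e) (by norm_num)
          | exact absurd (hinj 2 0 (by norm_num) (by norm_num) e) (by norm_num)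
          | exact absurd (hinj 1 2 (by norm_num) (by norm_num) e) (by norm_num)
          | exact absurd (hinj 2 1 (by norm_num) (by norm_num) e) (by norm_num)⟩
      have hz : ∀ i, z i ∈ B := by
        intro i
        fin_cases i
        exacts [hit 0, hit 1, hit 2, hyB, hBi y hyB]
      let t : Fin 5 ↪ ZMod m := ⟨![0, 1, 3, 2, -1], by
        intro i j e
        fin_cases i <;> fin_cases j <;> simp at e ⊢
        all_goals first
          | exact h1ne (by linear_combination e)
          | exact h1ne (by linear_combination -e)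
          | exact h2ne (by linear_combination e)
          | exact h2ne (by linear_combination -e)
          | exact h3ne (by linear_combination e)
          | exact h3ne (by linear_combination -e)
          | exact h4ne (by linear_combination e)
          | exact h4ne (by linear_combination -e)⟩
      have hmem : ∀ i : Fin 5, (![0, 1, 3, 2, -1] : Fin 5 → ZMod m) i ∈ ({0, 1, 2, -1, 3} : Finset (ZMod m)) := by
        intro i
        fin_cases i <;> simp
      have hfix : ∀ i, Equiv.swap o o' (t i) = t i := fun i => by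
        obtain ⟨h1, h2⟩ := ho (t i) (hmem i)
        exact Equiv.swap_apply_of_ne_of_ne h1 h2
      have main : ∀ σ : Equiv.Perm (ZMod m), (∀ i j, w (z i) = z j → σ (t i) = t j) → Good 3 (rot m) σ := by
        intro σ h
        have e0 : σ 0 = 1 := h 0 1 rfl
        have e3 : σ 3 = 0 := h 2 0 hw3
        have e2 : σ 2 = -1 := h 3 4 rfl
        refine ⟨hgoodper σ 0 2 (by rw [e0]; norm_num) (by rw [e2]; simp) h2ne.symm, fun hs => ?_⟩
        have h1 := (hstruct σ hs).1 3 0 (by rw [hπ3, map_zero])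
        rw [e3, e0, map_one, map_zero] at h1
        exact p1ne h1.symm
      exact finish hpp ι (rot m) hu B hB hBi z hz t (Equiv.swap o o') (Equiv.Perm.sign_swap hoo) main
        (fun σ h => main σ (fun i j hij => by simpa [hfix] using h i j hij))

/-! ### The three-cycle case -/

/-- `(0 1 2)` on five points. -/
def c5 : Equiv.Perm (Fin 5) := ⟨![1, 2, 0, 3, 4], ![2, 0, 1, 3, 4], by decide, by decide⟩
/-- `(0 1 2)` on six points. -/
def c6 : Equiv.Perm (Fin 6) := ⟨![1, 2, 0, 3, 4, 5], ![2, 0, 1, 3, 4, 5], by decide, by decide⟩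
/-- `(0 1 2)(3 4 5)`. -/
def d6 : Equiv.Perm (Fin 6) := ⟨![1, 2, 0, 4, 5, 3], ![2, 0, 1, 5, 3, 4], by decide, by decide⟩

theorem good_explicit {k : ℕ} (c σ : Equiv.Perm (Fin k)) (x : Fin k) (l : ℕ) (hl : ¬ 3 ∣ l)
    (hx : ((c * σ) ^ l) x = x) (hne : (c * σ) x ≠ x) (a : Equiv.Perm (Fin k))
    (ha : a = c * c * σ * c * σ ∨ a = c * σ * c * σ) (ha2 : a ^ 2 = 1) (hb3 : c ^ 3 = 1) (hab : (a * c) ^ 5 = 1)
    (ha1 : a ≠ 1) : Good 3 c σ := by
  have hc : c ∈ closure ({c, σ} : Set (Equiv.Perm (Fin k))) := subset_closure (Set.mem_insert _ _)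
  have hσ : σ ∈ closure ({c, σ} : Set (Equiv.Perm (Fin k))) := subset_closure (Set.mem_insert_of_mem _ rfl)
  refine ⟨⟨x, l, hl, hx, hne⟩, not_solvable_of_triangle _ ?_ hc ha2 hb3 hab ha1⟩
  rcases ha with rfl | rfl
  · exact mul_mem (mul_mem (mul_mem (mul_mem hc hc) hσ) hc) hσ
  · exact mul_mem (mul_mem (mul_mem hc hσ) hc) hσ

theorem sigma_eq {n k : ℕ} {w : Equiv.Perm (Fin n)} (z : Fin k ↪ Fin n) (d : Equiv.Perm (Fin k))
    (hd : ∀ i, w (z i) = z (d i)) (s σ : Equiv.Perm (Fin k))
    (h : ∀ i j, w (z i) = z j → σ (s i) = s j) : σ = s * d * s⁻¹ :=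
  Equiv.ext fun x => by
    have := h (s.symm x) _ (hd (s.symm x))
    rw [Equiv.apply_symm_apply] at this
    rw [this]; rfl

theorem finish_small {n k : ℕ} {u w : Equiv.Perm (Fin n)} (ι z : Fin k ↪ Fin n) (c d : Equiv.Perm (Fin k))
    (hu : ∀ x, u (ι x) = ι (c x)) (hd : ∀ i, w (z i) = z (d i)) (s s' : Equiv.Perm (Fin k))
    (hs : Equiv.Perm.sign (s' * s⁻¹) = -1) (h1 : Good 3 c (s * d * s⁻¹)) (h2 : Good 3 c (s' * d * s'⁻¹)) :
    Conc 3 u w := by
  refine finish Nat.prime_three ι c hu (Finset.univ.map z) (by simp) ?_ z (fun i => by simp) s.toEmbedding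
    (s' * s⁻¹) hs (fun σ h => ?_) (fun σ h => ?_)
  · intro y hy
    obtain ⟨i, -, rfl⟩ := Finset.mem_map.1 hy
    rw [hd]; simp
  · rw [sigma_eq z d hd s σ h]; exact h1
  · rw [sigma_eq z d hd s' σ (fun i j hij => by simpa using h i j hij)]; exact h2

set_option maxRecDepth 10000 in
theorem pat_five {n : ℕ} {u w : Equiv.Perm (Fin n)} (ι z : Fin 5 ↪ Fin n)
    (hu : ∀ x, u (ι x) = ι (c5 x)) (hw : ∀ x, w (z x) = z (c5 x)) : Conc 3 u w := by
  refine finish_small ι z c5 c5 hu hw ⟨![0, 3, 4, 1, 2], ![0, 3, 4, 1, 2], by decide, by decide⟩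
    ⟨![0, 3, 4, 2, 1], ![0, 4, 3, 1, 2], by decide, by decide⟩ (by decide) ?_ ?_ <;>
  exact good_explicit _ _ 0 5 (by decide) (by decide) (by decide) _ (Or.inl rfl) (by decide) (by decide) (by decide)
    (by decide)

set_option maxRecDepth 10000 in
theorem pat_six_one {n : ℕ} {u w : Equiv.Perm (Fin n)} (ι z : Fin 6 ↪ Fin n)
    (hu : ∀ x, u (ι x) = ι (d6 x)) (hw : ∀ x, w (z x) = z (c6 x)) : Conc 3 u w := by
  refine finish_small ι z d6 c6 hu hw ⟨![0, 1, 3, 2, 4, 5], ![0, 1, 3, 2, 4, 5], by decide, by decide⟩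
    ⟨![0, 1, 3, 4, 2, 5], ![0, 1, 4, 2, 3, 5], by decide, by decide⟩ (by decide) ?_ ?_ <;>
  exact good_explicit _ _ 0 2 (by decide) (by decide) (by decide) _ (Or.inr rfl) (by decide) (by decide) (by decide)
    (by decide)

set_option maxRecDepth 10000 in
theorem pat_six_two {n : ℕ} {u w : Equiv.Perm (Fin n)} (ι z : Fin 6 ↪ Fin n)
    (hu : ∀ x, u (ι x) = ι (d6 x)) (hw : ∀ x, w (z x) = z (d6 x)) : Conc 3 u w := by
  refine finish_small ι z d6 d6 hu hw ⟨![0, 1, 3, 4, 2, 5], ![0, 1, 4, 2, 3, 5], by decide, by decide⟩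
    ⟨![0, 3, 4, 2, 1, 5], ![0, 4, 3, 1, 2, 5], by decide, by decide⟩ (by decide) ?_ ?_ <;>
  exact good_explicit _ _ 0 5 (by decide) (by decide) (by decide) _ (Or.inl rfl) (by decide) (by decide) (by decide)
    (by decide)

/-- One cycle and fixed points, or two cycles. -/
theorem shapes {n : ℕ} (w : Equiv.Perm (Fin n)) (hn : 5 ≤ n) {k : ℕ} (hk : orderOf w = 3 ^ k)
    (hle : ∀ y, per w y ≤ 3) (hne : w ≠ 1) :
    ((∃ z : Fin 5 ↪ Fin n, ∀ x, w (z x) = z (c5 x)) ∧ (6 ≤ n → ∃ z : Fin 6 ↪ Fin n, ∀ x, w (z x) = z (c6 x))) ∨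
      (6 ≤ n ∧ ∃ z : Fin 6 ↪ Fin n, ∀ x, w (z x) = z (d6 x)) := by
  classical
  have h3 : ∀ y, w y ≠ y → per w y = 3 := by
    intro y hy
    obtain ⟨j, hj⟩ := per_eq_pow w Nat.prime_three hk y
    have h1 := hle y
    rcases j with _ | _ | j
    · exfalso
      have := iterate_per w y
      rw [hj] at this
      exact hy (by simpa using this)
    · simpa using hj
    · rw [hj] at h1
      have : 3 ^ 2 ≤ 3 ^ (j + 1 + 1) := Nat.pow_le_pow_right (by norm_num) (by omega)
      omega
  obtain ⟨x, hx⟩ : ∃ x, w x ≠ x := by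
    by_contra h
    push Not at h
    exact hne (Equiv.ext h)
  have hc : ∀ y, w y ≠ y → w (w (w y)) = y := fun y hy => by
    have := iterate_per w y
    rwa [h3 y hy] at this
  have hd : ∀ y, w y ≠ y → w (w y) ≠ y := fun y hy e => hy (by
    have := hc y hy
    rwa [e] at this)
  by_cases htwo : ∃ y, w y ≠ y ∧ y ∉ cyc w x
  · right
    obtain ⟨y, hy, hyc⟩ := htwo
    have q0 : x ≠ y := fun e => hyc (e ▸ self_mem_cyc w x)
    have q1 : w x ≠ y := fun e => hyc (e ▸ iterate_mem_cyc w x 1)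
    have q2 : w (w x) ≠ y := fun e => hyc (e ▸ iterate_mem_cyc w x 2)
    have r1 : x ≠ w y := fun e => q2 (by rw [e, hc y hy])
    have r2 : x ≠ w (w y) := fun e => q1 (by rw [e, hc y hy])
    let z : Fin 6 ↪ Fin n := ⟨![x, w x, w (w x), y, w y, w (w y)], by
      intro i j e
      fin_cases i <;> fin_cases j <;> simp at e ⊢
      all_goals first
        | exact hx e | exact hx e.symm | exact hy e | exact hy e.symm
        | exact hd x hx e | exact hd x hx e.symm | exact hd y hy e | exact hd y hy e.symm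
        | exact hx (w.injective e) | exact hx (w.injective e).symm
        | exact hy (w.injective e) | exact hy (w.injective e).symm
        | exact q0 e | exact q0 e.symm | exact q1 e | exact q1 e.symm | exact q2 e | exact q2 e.symm
        | exact r1 e | exact r1 e.symm | exact r2 e | exact r2 e.symm
        | exact q0 (w.injective e) | exact q0 (w.injective e).symm
        | exact q0 (w.injective (w.injective e)) | exact q0 (w.injective (w.injective e)).symm
        | exact q1 (w.injective e) | exact q1 (w.injective e).symm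
        | exact r1 (w.injective e) | exact r1 (w.injective e).symm⟩
    refine ⟨?_, z, fun i => ?_⟩
    · have := Fintype.card_le_of_embedding z
      simpa using this
    · fin_cases i
      exacts [rfl, rfl, hc x hx, rfl, rfl, hc y hy]
  · left
    push Not at htwo
    have hfix : ∀ y, y ∈ Finset.univ \ cyc w x → w y = y := fun y hy => by
      by_contra h
      exact (Finset.mem_sdiff.1 hy).2 (htwo y h)
    have hcard : (Finset.univ \ cyc w x).card = n - 3 := by
      rw [Finset.card_sdiff_of_subset (Finset.subset_univ _), Finset.card_univ, Fintype.card_fin, card_cyc, h3 x hx]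
    have hF : ∀ y, y ∈ Finset.univ \ cyc w x → x ≠ y ∧ w x ≠ y ∧ w (w x) ≠ y := fun y hy => by
      have := (Finset.mem_sdiff.1 hy).2
      exact ⟨fun e => this (e ▸ self_mem_cyc w x), fun e => this (e ▸ iterate_mem_cyc w x 1),
        fun e => this (e ▸ iterate_mem_cyc w x 2)⟩
    refine ⟨?_, fun hn6 => ?_⟩
    · obtain ⟨f, hf, g, hg, hfg⟩ := Finset.one_lt_card.1 (show 1 < (Finset.univ \ cyc w x).card by omega)
      obtain ⟨a1, a2, a3⟩ := hF f hf
      obtain ⟨b1, b2, b3⟩ := hF g hg
      let z : Fin 5 ↪ Fin n := ⟨![x, w x, w (w x), f, g], by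
        intro i j e
        fin_cases i <;> fin_cases j <;> simp at e ⊢
        all_goals first
          | exact hx e | exact hx e.symm | exact hd x hx e | exact hd x hx e.symm
          | exact hx (w.injective e) | exact hx (w.injective e).symm
          | exact a1 e | exact a1 e.symm | exact a2 e | exact a2 e.symm | exact a3 e | exact a3 e.symm
          | exact b1 e | exact b1 e.symm | exact b2 e | exact b2 e.symm | exact b3 e | exact b3 e.symm
          | exact hfg e | exact hfg e.symm⟩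
      refine ⟨z, fun i => ?_⟩
      fin_cases i
      exacts [rfl, rfl, hc x hx, hfix f hf, hfix g hg]
    · obtain ⟨f, g, l, hf, hg, hl, hfg, hfl, hgl⟩ :=
        Finset.two_lt_card_iff.1 (show 2 < (Finset.univ \ cyc w x).card by omega)
      obtain ⟨a1, a2, a3⟩ := hF f hf
      obtain ⟨b1, b2, b3⟩ := hF g hg
      obtain ⟨l1, l2, l3⟩ := hF l hl
      let z : Fin 6 ↪ Fin n := ⟨![x, w x, w (w x), f, g, l], by
        intro i j e
        fin_cases i <;> fin_cases j <;> simp at e ⊢
        all_goals first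
          | exact hx e | exact hx e.symm | exact hd x hx e | exact hd x hx e.symm
          | exact hx (w.injective e) | exact hx (w.injective e).symm
          | exact a1 e | exact a1 e.symm | exact a2 e | exact a2 e.symm | exact a3 e | exact a3 e.symm
          | exact b1 e | exact b1 e.symm | exact b2 e | exact b2 e.symm | exact b3 e | exact b3 e.symm
          | exact l1 e | exact l1 e.symm | exact l2 e | exact l2 e.symm | exact l3 e | exact l3 e.symm
          | exact hfg e | exact hfg e.symm | exact hfl e | exact hfl e.symm | exact hgl e | exact hgl e.symm⟩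
      refine ⟨z, fun i => ?_⟩
      fin_cases i
      exacts [rfl, rfl, hc x hx, hfix f hf, hfix g hg, hfix l hl]

/-- The statement for permutations. -/
theorem conc_main {p n : ℕ} [hp : Fact p.Prime] (hp3 : 3 ≤ p) (hn : 5 ≤ n) (u w : Equiv.Perm (Fin n))
    (hu : u ≠ 1) (hw : w ≠ 1) {ku kw : ℕ} (hku : orderOf u = p ^ ku) (hkw : orderOf w = p ^ kw) : Conc p u w := by
  classical
  haveI : Nonempty (Fin n) := ⟨⟨0, by omega⟩⟩
  have hmax : ∀ (f : Equiv.Perm (Fin n)) {k : ℕ}, f ≠ 1 → orderOf f = p ^ k →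
      ∃ x, (∀ y, per f y ≤ per f x) ∧ ∃ a, per f x = p ^ (a + 1) := by
    intro f k hf hk
    obtain ⟨x, hx⟩ := Finite.exists_max (per f)
    obtain ⟨i, hi⟩ := per_eq_pow f hp.out hk x
    rcases i with _ | a
    · exfalso
      refine hf (Equiv.ext fun y => ?_)
      have h1 : per f y = 1 := le_antisymm (by simpa [hi] using hx y) (per_pos f y)
      simpa [h1] using iterate_per f y
    · exact ⟨x, hx, a, hi⟩
  obtain ⟨x, hx, a, ha⟩ := hmax u hu hku
  obtain ⟨z, hz, b, hb⟩ := hmax w hw hkw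
  have hone : ∀ i : ℕ, 1 < p ^ (i + 1) := fun i => Nat.one_lt_pow (by omega) hp.out.one_lt
  by_cases h5 : 5 ≤ p ^ (a + 1) ∨ 5 ≤ p ^ (b + 1)
  · rcases le_total (p ^ (b + 1)) (p ^ (a + 1)) with h | h
    · exact general_case hp3 u w hku hkw (a := a) (by omega) ha (hb ▸ hone b) hz (hb ▸ h)
    · exact conc_swap (general_case hp3 w u hkw hku (a := b) (by omega) hb (ha ▸ hone a) hx (ha ▸ h))
  push Not at h5
  obtain rfl : p = 3 := by
    have := Nat.le_self_pow (show a + 1 ≠ 0 by omega) p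
    rcases (show p = 3 ∨ p = 4 by omega) with h | h
    · exact h
    · exact absurd (h ▸ hp.out) (by norm_num)
  have hsm : ∀ i : ℕ, 3 ^ (i + 1) < 5 → 3 ^ (i + 1) ≤ 3 := fun i h => by
    rcases i with _ | i
    · norm_num
    · have : 3 ^ 2 ≤ 3 ^ (i + 2) := Nat.pow_le_pow_right (by norm_num) (by omega)
      omega
  have hu3 : ∀ y, per u y ≤ 3 := fun y => (hx y).trans (ha ▸ hsm a h5.1)
  have hw3 : ∀ y, per w y ≤ 3 := fun y => (hz y).trans (hb ▸ hsm b h5.2)
  rcases shapes u hn hku hu3 hu with ⟨⟨i5, h5u⟩, h6u⟩ | ⟨hn6, i6, h6u⟩ <;>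
    rcases shapes w hn hkw hw3 hw with ⟨⟨j5, h5w⟩, h6w⟩ | ⟨hn6', j6, h6w⟩
  · exact pat_five i5 j5 h5u h5w
  · obtain ⟨i6, hi6⟩ := h6u hn6'
    exact conc_swap (pat_six_one j6 i6 h6w hi6)
  · obtain ⟨j6, hj6⟩ := h6w hn6
    exact pat_six_one i6 j6 h6u hj6
  · exact pat_six_two i6 j6 h6u h6w

/-- Let n ≥ 5, p ≥ 3 a prime, and u, w non-identity elements of p-power order in the alternating group A_n. Then there is g ∈ A_n such that u·(g w g⁻¹) does not have p-power order and ⟨u, g w g⁻¹⟩ is not solvable. -/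
theorem result (n : ℕ) (hn : 5 ≤ n) (p : ℕ) (hp : p.Prime) (hp3 : 3 ≤ p) (u w : alternatingGroup (Fin n)) (hu : u ≠ 1) (hw : w ≠ 1)
    (hu' : ∃ k : ℕ, orderOf u = p ^ k) (hw' : ∃ k : ℕ, orderOf w = p ^ k) :
    ∃ g : alternatingGroup (Fin n), (¬ ∃ k : ℕ, orderOf (u * (g * w * g⁻¹)) = p ^ k) ∧
      ¬ Group.IsSolvable ↥(Subgroup.closure ({u, g * w * g⁻¹} : Set (alternatingGroup (Fin n)))) := by
  haveI := Fact.mk hp
  obtain ⟨ku, hku⟩ := hu'
  obtain ⟨kw, hkw⟩ := hw'
  obtain ⟨g, hg, ho, hs⟩ := conc_main hp3 hn (u : Equiv.Perm (Fin n)) w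
    (fun e => hu (Subtype.ext e)) (fun e => hw (Subtype.ext e))
    ((Subgroup.orderOf_coe u).trans hku) ((Subgroup.orderOf_coe w).trans hkw)
  refine ⟨⟨g, Equiv.Perm.mem_alternatingGroup.2 hg⟩, fun ⟨k, hk⟩ => ho k ?_, fun hsol => hs ?_⟩
  · rw [← hk, ← Subgroup.orderOf_coe]; rfl
  · haveI := hsol
    let e : Subgroup.closure ({(u : Equiv.Perm (Fin n)), g * w * g⁻¹} : Set (Equiv.Perm (Fin n))) =
        (Subgroup.closure ({u, (⟨g, Equiv.Perm.mem_alternatingGroup.2 hg⟩ : alternatingGroup (Fin n)) * w *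
          (⟨g, Equiv.Perm.mem_alternatingGroup.2 hg⟩ : alternatingGroup (Fin n))⁻¹} :
            Set (alternatingGroup (Fin n)))).map (alternatingGroup (Fin n)).subtype := by
      rw [MonoidHom.map_closure, Set.image_pair]; rfl
    rw [e]
    exact Group.isSolvable_of_surjective (MonoidHom.subgroupMap_surjective _ _)

end Cfsg.Agent.S2276
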