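import Cfsg.Statements.S2277
import Cfsg.Agent.Lib.Coprime.Action
import Cfsg.Agent.Lib.PGroup.NormalSq
import Cfsg.Agent.Lib.PGroup.Noncyclic
import Cfsg.Agent.Lib.PGroup.FrattiniStab
-- import your own Cfsg.Agent.* helpers here

set_option autoImplicit false
open Cfsg

namespace Cfsg.Agent.S2277

open scoped commutatorElement

universe u

section Core

variable {p : ℕ} [hp : Fact p.Prime] {V : Type u} [CommGroup V]

/-- Fixed points of one automorphism. -/
def fixd (g : MulAut V) : Subgroup V where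
  carrier := {v | g v = v}
  one_mem' := map_one g
  mul_mem' {a b} (ha : g a = a) (hb : g b = b) := by
    show g (a * b) = a * b
    rw [map_mul, ha, hb]
  inv_mem' {a} (ha : g a = a) := by
    show g a⁻¹ = a⁻¹
    rw [map_inv, ha]

theorem mem_fixd {g : MulAut V} {v : V} : v ∈ fixd g ↔ g v = v := Iff.rfl

theorem fixd_pow {g : MulAut V} {v : V} (h : g v = v) : ∀ n : ℕ, (g ^ n) v = v
  | 0 => by simp
  | n + 1 => by rw [pow_succ, MulAut.mul_apply, h, fixd_pow h n]

/-- The orbit product. -/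
def orbProd (p : ℕ) (g : MulAut V) (v : V) : V := ∏ i ∈ Finset.range p, (g ^ i) v

theorem orbProd_fixed {g : MulAut V} (hg : g ^ p = 1) (v : V) : g (orbProd p g v) = orbProd p g v := by
  rw [orbProd, map_prod]
  simp_rw [← MulAut.mul_apply, ← pow_succ']
  have h1 := Finset.prod_range_succ (fun i => (g ^ i) v) p
  have h2 := Finset.prod_range_succ' (fun i => (g ^ i) v) p
  rw [h1, hg, pow_zero] at h2
  exact (mul_right_cancel h2).symm

theorem orbProd_of_fixed {g : MulAut V} {v : V} (h : g v = v) : orbProd p g v = v ^ p := by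
  rw [orbProd, Finset.prod_congr rfl fun i _ => fixd_pow h i, Finset.prod_const, Finset.card_range]

theorem orbProd_conj {g h c : MulAut V} (e : h * c = c * g) (v : V) : orbProd p h (c v) = c (orbProd p g v) := by
  rw [orbProd, orbProd, map_prod]
  refine Finset.prod_congr rfl fun i _ => ?_
  rw [← MulAut.mul_apply, ← MulAut.mul_apply]
  congr 1
  exact (SemiconjBy.pow_right (show SemiconjBy c g h from e.symm) i).eq.symm

theorem pow_inj_of_coprime [Finite V] (hcop : (Nat.card V).Coprime p) {v : V} (h : v ^ p = 1) : v = 1 :=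
  (powCoprime hcop).injective (h.trans (one_pow p).symm)

/-- Every element of a module with a fixed-point-free central element of order `p` is built from eigen-pieces. -/
theorem decompose {z e : MulAut V} (hze : Commute z e) (hzp : z ^ p = 1) (hz : fixd z = ⊥) (v : V) :
    v ^ p = ∏ j ∈ Finset.range p, orbProd p (e * z ^ j) v := by
  simp_rw [orbProd]
  rw [Finset.prod_comm]
  have hin : ∀ i ∈ Finset.range p, i ≠ 0 → ∏ j ∈ Finset.range p, ((e * z ^ j) ^ i) v = 1 := by
    intro i hi hi0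
    have hw : ∀ j, ((e * z ^ j) ^ i) v = (e ^ i) (((z ^ i) ^ j) v) := fun j => by
      rw [((hze.pow_left j).symm).mul_pow, MulAut.mul_apply, ← pow_mul, ← pow_mul, mul_comm]
    simp_rw [hw]
    rw [← map_prod]
    have hfix : ∏ j ∈ Finset.range p, ((z ^ i) ^ j) v = 1 := by
      have h1 := orbProd_fixed (g := z ^ i) (p := p) (by rw [← pow_mul, mul_comm, pow_mul, hzp, one_pow]) v
      have hcop : Nat.Coprime i p := (Nat.coprime_of_lt_prime hi0 (Finset.mem_range.1 hi) hp.out).symm
      obtain ⟨m, -, hm⟩ := Nat.exists_mul_mod_eq_one_of_coprime hcop hp.out.one_lt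
      have hz' : z = (z ^ i) ^ m := by
        rw [← pow_mul, ← Nat.mod_add_div (i * m) p, hm, pow_add, pow_one, pow_mul, hzp, one_pow, mul_one]
      have : orbProd p (z ^ i) v ∈ fixd z := by
        rw [mem_fixd]
        nth_rw 1 [hz']
        exact fixd_pow h1 m
      rw [hz, Subgroup.mem_bot] at this
      exact this
    rw [hfix, map_one]
  rw [Finset.prod_eq_single_of_mem 0 (Finset.mem_range.2 hp.out.pos) hin]
  simp

/-- Different pieces annihilate each other. -/
theorem orbProd_cross {z e : MulAut V} (hze : Commute z e) (hzp : z ^ p = 1) (hz : fixd z = ⊥)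
    {a b : ℕ} (hab : (a : ZMod p) ≠ b) (he : e ^ p = 1) {w : V} (hw : w ∈ fixd (e * z ^ a)) :
    orbProd p (e * z ^ b) w = 1 := by
  set g := e * z ^ b with hg
  have hgp : g ^ p = 1 := by
    rw [hg, ((hze.pow_left b).symm).mul_pow, he, one_mul, ← pow_mul, mul_comm, pow_mul, hzp, one_pow]
  have hfb := orbProd_fixed hgp w
  have hcomm : Commute (e * z ^ a) g :=
    ((Commute.refl e).mul_right ((hze.pow_left b).symm)).mul_left
      (((hze.pow_left a)).mul_right (Commute.pow_pow_self z a b))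
  have hfa : (e * z ^ a) (orbProd p g w) = orbProd p g w := by
    rw [← orbProd_conj (c := e * z ^ a) (g := g) (h := g) hcomm.symm.eq w, mem_fixd.1 hw]
  have hza : (z ^ a) (orbProd p g w) = (z ^ b) (orbProd p g w) := by
    apply e.injective
    rw [← MulAut.mul_apply, ← MulAut.mul_apply, hfa, ← hg, hfb]
  set x := orbProd p g w with hx
  obtain ⟨t, ht⟩ : ∃ t : ℕ, (t : ZMod p) * ((a : ZMod p) - b) = 1 :=
    ⟨((((a : ZMod p) - b))⁻¹).val, by rw [ZMod.natCast_zmod_val, inv_mul_cancel₀ (sub_ne_zero.2 hab)]⟩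
  have hd : (z ^ (a + (p - 1) * b)) x = x := by
    rw [add_comm, pow_add, MulAut.mul_apply, hza, ← MulAut.mul_apply, ← pow_add,
      show (p - 1) * b + b = p * b by
        rw [← Nat.succ_mul, Nat.succ_eq_add_one, Nat.sub_add_cancel hp.out.one_le],
      pow_mul, hzp, one_pow]
    rfl
  have hmod : ((a + (p - 1) * b) * t : ℕ) % p = 1 := by
    have h1 : (((a + (p - 1) * b) * t : ℕ) : ZMod p) = ((1 : ℕ) : ZMod p) := by
      push_cast [Nat.cast_sub hp.out.one_le]
      rw [ZMod.natCast_self]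
      linear_combination ht
    have := (ZMod.natCast_eq_natCast_iff' _ _ _).1 h1
    rwa [Nat.one_mod_eq_one.2 hp.out.ne_one] at this
  have hzx : z x = x := by
    have h2 := fixd_pow hd t
    rw [← pow_mul, ← Nat.mod_add_div ((a + (p - 1) * b) * t) p, hmod, pow_add, pow_one, pow_mul, hzp, one_pow,
      mul_one] at h2
    exact h2
  have : x ∈ fixd z := hzx
  rwa [hz, Subgroup.mem_bot] at this

/-- Invariant subgroups. -/
def Inv (Q : Subgroup (MulAut V)) (W : Subgroup V) : Prop := ∀ g ∈ Q, ∀ w ∈ W, g w ∈ W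

end Core

/-- The core: a `p`-group of automorphisms, `p` odd, with all `V = C_V(d) C_V(c)` is trivial. -/
theorem core {p : ℕ} [hp : Fact p.Prime] (hp3 : 3 ≤ p) :
    ∀ (m : ℕ) (V : Type u) [CommGroup V] [Finite V], Nat.card V = m → (Nat.card V).Coprime p →
    ∀ (Q : Subgroup (MulAut V)), IsPGroup p Q → ∀ (C D : Set (MulAut V)),
    Subgroup.closure C = Q → Subgroup.closure D = Q →
    (∀ c ∈ C, ∀ d ∈ D, ∀ v : V, ∃ y z : V, d y = y ∧ c z = z ∧ v = y * z) → Q = ⊥ := by
  intro m
  induction m using Nat.strong_induction_on with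
  | _ m ih =>
  intro V _ _ hm hcop Q hQ C D hC hD H
  classical
  by_contra hne
  have : Finite (MulAut V) := Finite.of_injective (fun a : MulAut V => (a : V → V)) DFunLike.coe_injective
  have : Fintype ↥Q := Fintype.ofFinite _
  have hpow : ∀ g ∈ Q, ∀ v : V, ∀ n : ℕ, v ^ n = 1 → n = Nat.card ↥Q → v = 1 := by
    intro g _ v n hn e
    obtain ⟨k, hk⟩ := IsPGroup.iff_card.1 hQ
    rw [e, hk] at hn
    exact (powCoprime (hcop.pow_right k)).injective (hn.trans (one_pow _).symm)
  have hCne : ∀ S : Set (MulAut V), Subgroup.closure S = Q → ∃ s ∈ S, s ≠ 1 := by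
    intro S hS
    by_contra! hall
    exact hne (hS ▸ (Subgroup.closure_eq_bot_iff.2 fun s hs => hall s hs))
  -- reduction to a module with no proper invariant subgroup
  have hirr : ∀ W : Subgroup V, Inv Q W → W = ⊥ ∨ W = ⊤ := by
    intro W hW
    by_contra! hW'
    have hmap : ∀ g ∈ Q, W.map (g : V ≃* V).toMonoidHom = W := by
      intro g hg
      refine le_antisymm ?_ fun w hw => ⟨g⁻¹ w, hW _ (Q.inv_mem hg) _ hw, MulEquiv.apply_symm_apply g w⟩
      rintro _ ⟨w, hw, rfl⟩
      exact hW g hg w hw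
    let ψ : ↥Q →* MulAut (V ⧸ W) :=
      { toFun := fun g => QuotientGroup.congr W W (g : MulAut V) (hmap _ g.2)
        map_one' := MulEquiv.ext fun x => QuotientGroup.induction_on x fun v => rfl
        map_mul' := fun a b => MulEquiv.ext fun x => QuotientGroup.induction_on x fun v => rfl }
    have hlt : Nat.card (V ⧸ W) < m := by
      rw [← hm, ← W.index_eq_card, ← W.card_mul_index]
      exact lt_mul_of_one_lt_left (Nat.pos_of_ne_zero Subgroup.index_ne_zero_of_finite)
        (Subgroup.one_lt_card_iff_ne_bot W |>.2 hW'.1)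
    have himg : ∀ S : Set (MulAut V), Subgroup.closure S = Q →
        Subgroup.closure (ψ '' (Q.subtype ⁻¹' S)) = ψ.range := by
      intro S hS
      rw [← MonoidHom.map_closure, MonoidHom.range_eq_map]
      congr 1
      refine Subgroup.map_injective Q.subtype_injective ?_
      rw [MonoidHom.map_closure, ← MonoidHom.range_eq_map, Subgroup.range_subtype, Set.image_preimage_eq_of_subset, hS]
      intro s hs
      exact ⟨⟨s, hS ▸ Subgroup.subset_closure hs⟩, rfl⟩
    have hb : ψ.range = ⊥ := by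
      refine ih _ hlt (V ⧸ W) rfl (hcop.coprime_dvd_left ?_) ψ.range
        (hQ.of_surjective ψ.rangeRestrict ψ.rangeRestrict_surjective) _ _ (himg C hC) (himg D hD) ?_
      · rw [← W.index_eq_card]; exact W.index_dvd_card
      · rintro _ ⟨c, hc, rfl⟩ _ ⟨d, hd, rfl⟩ x
        induction x using QuotientGroup.induction_on with | H v => ?_
        obtain ⟨y, z, hy, hz, rfl⟩ := H c hc d hd v
        exact ⟨QuotientGroup.mk y, QuotientGroup.mk z, congrArg QuotientGroup.mk hy, congrArg QuotientGroup.mk hz, rfl⟩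
    have hdiff : ∀ g ∈ Q, ∀ v : V, v⁻¹ * g v ∈ W := by
      intro g hg v
      have h1 : ψ ⟨g, hg⟩ = 1 := Subgroup.mem_bot.1 (hb ▸ ⟨⟨g, hg⟩, rfl⟩)
      exact QuotientGroup.eq.1 (DFunLike.congr_fun h1 (QuotientGroup.mk v)).symm
    -- the fixed points of the whole group
    let Fx : Subgroup V := ⨅ g ∈ Q, fixd g
    have hFx : ∀ v, v ∈ Fx ↔ ∀ g ∈ Q, g v = v := fun v => by simp [Fx, Subgroup.mem_iInf, mem_fixd]
    have hθ : ∀ v : V, ∏ g : ↥Q, (g : MulAut V) v ∈ Fx := by
      intro v
      rw [hFx]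
      intro g hg
      rw [map_prod]
      exact Fintype.prod_equiv (Equiv.mulLeft (⟨g, hg⟩ : ↥Q)) _ _ fun h => rfl
    by_cases hF : Fx = ⊥
    · apply hW'.2
      rw [Subgroup.eq_top_iff']
      intro v
      have h1 : ∏ g : ↥Q, (v⁻¹ * (g : MulAut V) v) ∈ W := W.prod_mem fun g _ => hdiff _ g.2 v
      have h2 : ∏ g : ↥Q, (g : MulAut V) v = 1 := Subgroup.mem_bot.1 (hF ▸ hθ v)
      rw [Finset.prod_mul_distrib, h2, mul_one, Finset.prod_const, Finset.card_univ, ← Nat.card_eq_fintype_card,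
        inv_pow] at h1
      have h3 : v ^ Nat.card ↥Q ∈ W := inv_mem_iff.1 h1
      obtain ⟨k, hk⟩ := IsPGroup.iff_card.1 hQ
      have h4 : (Nat.card ↥Q).Coprime (orderOf v) := by
        rw [hk]
        exact (hcop.coprime_dvd_left (orderOf_dvd_natCard v)).symm.pow_left k
      obtain ⟨j, hj⟩ := exists_pow_eq_self_of_coprime h4
      exact hj ▸ W.pow_mem h3 j
    · have hFtop : Fx ≠ ⊤ := fun e => hne ((Subgroup.eq_bot_iff_forall _).2 fun g hg =>
        MulEquiv.ext fun v => (hFx v).1 (e ▸ Subgroup.mem_top v) g hg)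
      have hmapF : ∀ g ∈ Q, Fx.map (g : V ≃* V).toMonoidHom = Fx := by
        intro g hg
        refine le_antisymm ?_ fun w hw => ⟨w, hw, (hFx w).1 hw g hg⟩
        rintro _ ⟨w, hw, rfl⟩
        show g w ∈ Fx
        rwa [(hFx w).1 hw g hg]
      let ψ' : ↥Q →* MulAut (V ⧸ Fx) :=
        { toFun := fun g => QuotientGroup.congr Fx Fx (g : MulAut V) (hmapF _ g.2)
          map_one' := MulEquiv.ext fun x => QuotientGroup.induction_on x fun v => rfl
          map_mul' := fun a b => MulEquiv.ext fun x => QuotientGroup.induction_on x fun v => rfl }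
      have hlt' : Nat.card (V ⧸ Fx) < m := by
        rw [← hm, ← Fx.index_eq_card, ← Fx.card_mul_index]
        exact lt_mul_of_one_lt_left (Nat.pos_of_ne_zero Subgroup.index_ne_zero_of_finite)
          (Subgroup.one_lt_card_iff_ne_bot Fx |>.2 hF)
      have himg' : ∀ S : Set (MulAut V), Subgroup.closure S = Q →
          Subgroup.closure (ψ' '' (Q.subtype ⁻¹' S)) = ψ'.range := by
        intro S hS
        rw [← MonoidHom.map_closure, MonoidHom.range_eq_map]
        congr 1
        refine Subgroup.map_injective Q.subtype_injective ?_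
        rw [MonoidHom.map_closure, ← MonoidHom.range_eq_map, Subgroup.range_subtype, Set.image_preimage_eq_of_subset, hS]
        intro s hs
        exact ⟨⟨s, hS ▸ Subgroup.subset_closure hs⟩, rfl⟩
      have hb' : ψ'.range = ⊥ := by
        refine ih _ hlt' (V ⧸ Fx) rfl (hcop.coprime_dvd_left ?_) ψ'.range
          (hQ.of_surjective ψ'.rangeRestrict ψ'.rangeRestrict_surjective) _ _ (himg' C hC) (himg' D hD) ?_
        · rw [← Fx.index_eq_card]; exact Fx.index_dvd_card
        · rintro _ ⟨c, hc, rfl⟩ _ ⟨d, hd, rfl⟩ x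
          induction x using QuotientGroup.induction_on with | H v => ?_
          obtain ⟨y, z, hy, hz, rfl⟩ := H c hc d hd v
          exact ⟨QuotientGroup.mk y, QuotientGroup.mk z, congrArg QuotientGroup.mk hy, congrArg QuotientGroup.mk hz, rfl⟩
      refine hne ((Subgroup.eq_bot_iff_forall _).2 fun g hg => MulEquiv.ext fun v => ?_)
      have h1 : ψ' ⟨g, hg⟩ = 1 := Subgroup.mem_bot.1 (hb' ▸ ⟨⟨g, hg⟩, rfl⟩)
      have hw : v⁻¹ * g v ∈ Fx := QuotientGroup.eq.1 (DFunLike.congr_fun h1 (QuotientGroup.mk v)).symm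
      set w := v⁻¹ * g v with hwdef
      have hgw : g w = w := (hFx w).1 hw g hg
      have hiter : ∀ i : ℕ, (g ^ i) v = v * w ^ i := by
        intro i
        induction i with
        | zero => simp
        | succ i hi => rw [pow_succ', MulAut.mul_apply, hi, map_mul, map_pow, hgw, pow_succ', ← mul_assoc,
            show v * w = g v by rw [hwdef, mul_inv_cancel_left]]
      have h2 := hiter (Nat.card ↥Q)
      rw [show g ^ Nat.card ↥Q = 1 from congrArg Subtype.val (pow_card_eq_one' (x := (⟨g, hg⟩ : ↥Q))),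
        MulAut.one_apply, eq_comm, mul_eq_left] at h2
      have h3 := hpow g hg w _ h2 rfl
      rw [hwdef, inv_mul_eq_one] at h3
      exact h3.symm
  -- fixed points of elements commuting with the group
  have hcentral : ∀ g ∈ Q, g ≠ 1 → (∀ h ∈ Q, Commute h g) → fixd g = ⊥ := by
    intro g _ hg1 hcomm
    refine (hirr _ fun h hh w hw => ?_).resolve_right fun e => hg1 (MulEquiv.ext fun v =>
      mem_fixd.1 (e ▸ Subgroup.mem_top v))
    rw [mem_fixd, ← MulAut.mul_apply, ← (hcomm h hh).eq, MulAut.mul_apply, mem_fixd.1 hw]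
  have hVone : (∀ v : V, v = 1) → False := fun h => hne ((Subgroup.eq_bot_iff_forall _).2 fun g _ =>
    MulEquiv.ext fun v => by rw [h v, map_one, map_one])
  by_cases hab : ∀ g ∈ Q, ∀ h ∈ Q, Commute g h
  · obtain ⟨c, hc, hc1⟩ := hCne C hC
    obtain ⟨d, hd, hd1⟩ := hCne D hD
    have hcQ : c ∈ Q := hC ▸ Subgroup.subset_closure hc
    have hdQ : d ∈ Q := hD ▸ Subgroup.subset_closure hd
    refine hVone fun v => ?_
    obtain ⟨y, z, hy, hz, rfl⟩ := H c hc d hd v
    have h1 : y ∈ fixd d := hy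
    have h2 : z ∈ fixd c := hz
    rw [hcentral d hdQ hd1 fun h hh => hab h hh d hdQ, Subgroup.mem_bot] at h1
    rw [hcentral c hcQ hc1 fun h hh => hab h hh c hcQ, Subgroup.mem_bot] at h2
    rw [h1, h2, mul_one]
  have hexE : ∃ E : Subgroup ↥Q, E.Normal ∧ Cfsg.IsElementaryAbelian p E ∧ Nat.card E = p ^ 2 := by
    by_contra hno
    obtain ⟨a, -, ha | ⟨h2, -⟩⟩ := Cfsg.Lib.PGroup.NormalSq.cyclic_or_three_mod_four hQ hno
    · apply hab
      intro g hg h hh
      obtain ⟨i, hi⟩ := Subgroup.mem_zpowers_iff.1 (ha ▸ Subgroup.mem_top (⟨g, hg⟩ : ↥Q) : (⟨g, hg⟩ : ↥Q) ∈ Subgroup.zpowers a)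
      obtain ⟨j, hj⟩ := Subgroup.mem_zpowers_iff.1 (ha ▸ Subgroup.mem_top (⟨h, hh⟩ : ↥Q) : (⟨h, hh⟩ : ↥Q) ∈ Subgroup.zpowers a)
      have := Commute.zpow_zpow_self a i j
      rw [hi, hj] at this
      exact congrArg Subtype.val this.eq
    · omega
  obtain ⟨E, hEn, hEea, hEc⟩ := hexE
  have hEne : E ≠ ⊥ := fun e => by
    rw [e, Subgroup.card_bot] at hEc
    have : 3 ^ 2 ≤ p ^ 2 := Nat.pow_le_pow_left hp3 2
    omega
  obtain ⟨z', hz'E, hz'c, hz'o⟩ := Cfsg.Lib.PGroup.exists_mem_center_orderOf_eq hQ hEne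
  obtain ⟨e', he'E, he'z⟩ : ∃ e' ∈ E, e' ∉ Subgroup.zpowers z' := by
    by_contra! hall
    have := Subgroup.card_dvd_of_le (show E ≤ Subgroup.zpowers z' from hall)
    rw [Nat.card_zpowers, hz'o, hEc] at this
    have := Nat.le_of_dvd hp.out.pos this
    have : 3 * p ≤ p ^ 2 := by rw [sq]; exact Nat.mul_le_mul_right p hp3
    omega
  have hEcomm : ∀ a ∈ E, ∀ b ∈ E, Commute a b := fun a ha b hb =>
    congrArg Subtype.val (hEea.1.is_comm.comm ⟨a, ha⟩ ⟨b, hb⟩)
  have hepow : ∀ a ∈ E, a ^ p = 1 := fun a ha => hEea.2 a ha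
  set z : MulAut V := (z' : MulAut V) with hzdef
  set e : MulAut V := (e' : MulAut V) with hedef
  have hze : Commute z e := congrArg Subtype.val (hEcomm z' hz'E e' he'E).eq
  have hzp : z ^ p = 1 := congrArg Subtype.val (hepow z' hz'E)
  have hep : e ^ p = 1 := congrArg Subtype.val (hepow e' he'E)
  have hzQ : ∀ h ∈ Q, Commute h z := fun h hh =>
    congrArg Subtype.val (Subgroup.mem_center_iff.1 hz'c ⟨h, hh⟩)
  have hz1 : z ≠ 1 := fun h => by
    rw [show z' = 1 from Subtype.ext h, orderOf_one] at hz'o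
    exact hp.out.ne_one hz'o.symm
  have hz := hcentral z z'.2 hz1 hzQ
  -- `E` is spanned by `z` and `e`
  have hspan : ∀ x ∈ E, ∃ a t : ℕ, x = e' ^ a * z' ^ t := by
    intro x hx
    let f : Fin p × Fin p → ↥E := fun ab => ⟨e' ^ (ab.1 : ℕ) * z' ^ (ab.2 : ℕ),
      E.mul_mem (E.pow_mem he'E _) (E.pow_mem hz'E _)⟩
    have hf : Function.Bijective f := by
      refine (Nat.bijective_iff_injective_and_card f).2 ⟨?_, by rw [hEc, Nat.card_prod, Nat.card_fin, sq]⟩
      rintro ⟨a, b⟩ ⟨a', b'⟩ he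
      have h0 : e' ^ (a : ℕ) * z' ^ (b : ℕ) = e' ^ (a' : ℕ) * z' ^ (b' : ℕ) := congrArg Subtype.val he
      have hord : orderOf e' = p := orderOf_eq_prime (hepow e' he'E) fun h => he'z (h ▸ one_mem _)
      have haa : a = a' := by
        by_contra hna
        apply he'z
        have h1 : e' ^ ((a : ℤ) - (a' : ℤ)) ∈ Subgroup.zpowers z' := by
          refine ⟨(b' : ℤ) - b, ?_⟩
          show z' ^ ((b' : ℤ) - b) = _
          rw [zpow_sub, zpow_sub, zpow_natCast, zpow_natCast, zpow_natCast, zpow_natCast, eq_comm,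
            mul_inv_eq_iff_eq_mul,
            (hEcomm _ (E.mul_mem (E.pow_mem hz'E (b' : ℕ)) (E.inv_mem (E.pow_mem hz'E (b : ℕ)))) _
              (E.pow_mem he'E (a' : ℕ))).eq, ← mul_assoc]
          exact eq_mul_inv_of_mul_eq h0
        have hcop' : IsCoprime ((a : ℤ) - (a' : ℤ)) (p : ℤ) := by
          refine ((Nat.prime_iff_prime_int.1 hp.out).coprime_iff_not_dvd.2 fun hdvd => hna (Fin.ext ?_)).symm
          have ha := a.2
          have ha' := a'.2
          have := Int.eq_zero_of_dvd_of_natAbs_lt_natAbs hdvd (by omega)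
          omega
        obtain ⟨u, v, huv⟩ := hcop'
        have h2 : e' = (e' ^ ((a : ℤ) - (a' : ℤ))) ^ u := by
          rw [← zpow_mul, mul_comm, show u * ((a : ℤ) - a') = 1 - v * p by linear_combination huv, zpow_sub, zpow_one,
            mul_comm v, zpow_mul, zpow_natCast, hepow e' he'E, one_zpow, inv_one, mul_one]
        rw [h2]
        exact Subgroup.zpow_mem _ h1 u
      subst haa
      refine Prod.ext rfl (Fin.ext ?_)
      exact pow_injOn_Iio_orderOf (hz'o.symm ▸ b.2 : (b : ℕ) < orderOf z') (hz'o.symm ▸ b'.2 : (b' : ℕ) < orderOf z')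
        (mul_left_cancel h0)
    obtain ⟨⟨a, t⟩, hat⟩ := hf.2 ⟨x, hx⟩
    exact ⟨a, t, (congrArg Subtype.val hat).symm⟩
  -- conjugation moves `e` inside its coset
  have hconj : ∀ c ∈ Q, ∃ t : ℕ, c * e = e * z ^ t * c := by
    intro c hc
    obtain ⟨a, t, hat⟩ := hspan _ (hEn.conj_mem e' he'E ⟨c, hc⟩)
    have hiter : ∀ n : ℕ, ∃ s : ℕ, (⟨c, hc⟩ : ↥Q) ^ n * e' * ((⟨c, hc⟩ : ↥Q) ^ n)⁻¹ = e' ^ (a ^ n) * z' ^ s := by
      intro n
      induction n with
      | zero => exact ⟨0, by simp⟩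
      | succ n hn =>
        obtain ⟨s, hs⟩ := hn
        refine ⟨t * a ^ n + s, ?_⟩
        have hzc : (⟨c, hc⟩ : ↥Q) * z' ^ s * (⟨c, hc⟩ : ↥Q)⁻¹ = z' ^ s := by
          rw [Subgroup.mem_center_iff.1 (Subgroup.pow_mem _ hz'c s), mul_inv_cancel_right]
        calc (⟨c, hc⟩ : ↥Q) ^ (n + 1) * e' * ((⟨c, hc⟩ : ↥Q) ^ (n + 1))⁻¹
            = (⟨c, hc⟩ : ↥Q) * ((⟨c, hc⟩ : ↥Q) ^ n * e' * ((⟨c, hc⟩ : ↥Q) ^ n)⁻¹) * (⟨c, hc⟩ : ↥Q)⁻¹ := by
              rw [pow_succ']; group
          _ = ((⟨c, hc⟩ : ↥Q) * e' * (⟨c, hc⟩ : ↥Q)⁻¹) ^ (a ^ n) * ((⟨c, hc⟩ : ↥Q) * z' ^ s * (⟨c, hc⟩ : ↥Q)⁻¹) := by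
              rw [hs, conj_pow]; group
          _ = e' ^ (a ^ (n + 1)) * z' ^ (t * a ^ n + s) := by
              rw [hzc, hat, ((hEcomm _ (E.pow_mem he'E a) _ (E.pow_mem hz'E t))).mul_pow, ← pow_mul, ← pow_mul,
                mul_assoc, ← pow_add, pow_succ']
    obtain ⟨k, hk⟩ := IsPGroup.iff_card.1 hQ
    obtain ⟨s, hs⟩ := hiter (Nat.card ↥Q)
    rw [pow_card_eq_one', one_mul, inv_one, mul_one] at hs
    have hord : orderOf e' = p := orderOf_eq_prime (hepow e' he'E) fun h => he'z (h ▸ one_mem _)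
    have ha1 : e' ^ a = e' := by
      have hmod : ((a ^ Nat.card ↥Q : ℕ) : ZMod p) = a := by
        push_cast
        rw [hk, ZMod.pow_card_pow]
      have h1 : e' ^ (a ^ Nat.card ↥Q) = e' ^ a := by
        rw [pow_eq_pow_iff_modEq, hord]
        exact (ZMod.natCast_eq_natCast_iff _ _ _).1 hmod
      rw [h1] at hs
      by_contra hne'
      apply he'z
      have hcop' : Nat.Coprime (if a % p = 0 then p - 1 else a % p - 1) p := by
        have hlt := Nat.mod_lt a hp.out.pos
        have hne1 : a % p ≠ 1 := fun h => hne' (by rw [← pow_mod_orderOf, hord, h, pow_one])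
        split_ifs with h0
        · exact (Nat.coprime_of_lt_prime (by omega) (by omega) hp.out).symm
        · exact (Nat.coprime_of_lt_prime (by omega) (by omega) hp.out).symm
      obtain ⟨u, -, hu⟩ := Nat.exists_mul_mod_eq_one_of_coprime hcop' hp.out.one_lt
      have h2 : e' ^ (if a % p = 0 then p - 1 else a % p - 1) ∈ Subgroup.zpowers z' := by
        have hmem : e'⁻¹ * e' ^ (a % p) ∈ Subgroup.zpowers z' := by
          rw [← hord, pow_mod_orderOf]
          have h3 : e'⁻¹ * e' ^ a = (z' ^ s)⁻¹ := by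
            rw [inv_mul_eq_iff_eq_mul, eq_mul_inv_iff_mul_eq, ← hs]
          rw [h3]
          exact Subgroup.inv_mem _ (Subgroup.pow_mem _ (Subgroup.mem_zpowers _) _)
        split_ifs with h0
        · rw [h0, pow_zero, mul_one] at hmem
          have : e' ^ (p - 1) = e'⁻¹ := eq_inv_of_mul_eq_one_left (by
            rw [← pow_succ, Nat.sub_add_cancel hp.out.one_le, hepow e' he'E])
          rw [this]
          exact hmem
        · rwa [← Nat.sub_add_cancel (show 1 ≤ a % p by omega), pow_succ', inv_mul_cancel_left] at hmem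
      have h4 : e' = (e' ^ (if a % p = 0 then p - 1 else a % p - 1)) ^ u := by
        rw [← pow_mul, ← pow_mod_orderOf, hord, hu, pow_one]
      rw [h4]
      exact Subgroup.pow_mem _ h2 u
    refine ⟨t, ?_⟩
    rw [ha1] at hat
    have := congrArg (fun x : ↥Q => (x : MulAut V)) (mul_inv_eq_iff_eq_mul.1 hat)
    simpa using this
  -- the eigen-pieces
  set W : ℕ → Subgroup V := fun j => fixd (e * z ^ j) with hWdef
  have hgp : ∀ j, (e * z ^ j) ^ p = 1 := fun j => by
    rw [((hze.pow_left j).symm).mul_pow, hep, one_mul, ← pow_mul, mul_comm, pow_mul, hzp, one_pow]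
  have hnone : ∀ j, e * z ^ j ≠ 1 := fun j h => he'z (by
    have h1 : e' * z' ^ j = 1 := Subtype.ext (by simpa using h)
    rw [eq_inv_of_mul_eq_one_left h1]
    exact Subgroup.inv_mem _ (Subgroup.pow_mem _ (Subgroup.mem_zpowers _) _))
  by_cases hecen : ∀ h ∈ Q, Commute h e
  · refine hVone fun v => pow_inj_of_coprime hcop ?_
    rw [decompose hze hzp hz v]
    refine Finset.prod_eq_one fun j _ => ?_
    have h1 : orbProd p (e * z ^ j) v ∈ fixd (e * z ^ j) := orbProd_fixed (hgp j) v
    rwa [hcentral _ (Q.mul_mem e'.2 (Q.pow_mem z'.2 j)) (hnone j) fun h hh => (hecen h hh).mul_right ((hzQ h hh).pow_right j),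
      Subgroup.mem_bot] at h1
  have hmove : ∀ S : Set (MulAut V), Subgroup.closure S = Q → ∃ c ∈ S, ∃ t : ℕ, (t : ZMod p) ≠ 0 ∧ c * e = e * z ^ t * c := by
    intro S hS
    by_contra! hall
    refine hecen fun h hh => ?_
    have hle : Q ≤ Subgroup.centralizer {e} := by
      rw [← hS, Subgroup.closure_le]
      intro c hc
      obtain ⟨t, ht⟩ := hconj c (hS ▸ Subgroup.subset_closure hc)
      rw [SetLike.mem_coe, Subgroup.mem_centralizer_singleton_iff]
      by_cases h0 : (t : ZMod p) = 0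
      · obtain ⟨r, rfl⟩ := (ZMod.natCast_eq_zero_iff _ _).1 h0
        rw [ht, pow_mul, hzp, one_pow, mul_one]
      · exact absurd ht (hall c hc t h0)
    exact (Subgroup.mem_centralizer_singleton_iff.1 (hle hh))
  -- one moving element gives both bounds
  have hbound : ∀ c ∈ Q, ∀ t : ℕ, (t : ZMod p) ≠ 0 → c * e = e * z ^ t * c →
      Nat.card ↥(fixd c) ≤ Nat.card ↥(W 0) ∧ Nat.card ↥(W 0) ^ p ≤ Nat.card V := by
    intro c hc t ht hct
    have hstep : ∀ k : ℕ, e * z ^ (k * t) * c ^ k = c ^ k * (e * z ^ 0) := by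
      intro k
      induction k with
      | zero => simp
      | succ k hk =>
        calc e * z ^ ((k + 1) * t) * c ^ (k + 1) = e * z ^ t * (z ^ (k * t) * c) * c ^ k := by
              rw [pow_succ' c k, show (k + 1) * t = t + k * t by ring, pow_add]; simp only [mul_assoc]
          _ = c * (e * z ^ (k * t) * c ^ k) := by
              rw [← ((hzQ c hc).pow_right (k * t)).eq, ← mul_assoc, ← hct]; simp only [mul_assoc]
          _ = c ^ (k + 1) * (e * z ^ 0) := by rw [hk, ← mul_assoc, ← pow_succ']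
    obtain ⟨ti, hti⟩ : ∃ ti : ℕ, (ti : ZMod p) * t = 1 :=
      ⟨((t : ZMod p)⁻¹).val, by rw [ZMod.natCast_zmod_val, inv_mul_cancel₀ ht]⟩
    have hred : ∀ j : ℕ, z ^ (j * ti * t) = z ^ j := by
      intro j
      have hm : ((j * ti * t : ℕ) : ZMod p) = (j : ZMod p) := by push_cast; rw [mul_assoc, hti, mul_one]
      have ho : orderOf z = p := by rw [hzdef, Subgroup.orderOf_coe, hz'o]
      rw [pow_eq_pow_iff_modEq, ho]
      exact (ZMod.natCast_eq_natCast_iff _ _ _).1 hm
    constructor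
    · let f : ↥(fixd c) → ↥(W 0) := fun v => ⟨orbProd p (e * z ^ 0) v, orbProd_fixed (hgp 0) _⟩
      refine Nat.card_le_card_of_injective f fun v v' hvv => ?_
      have hkey : ∀ v : V, c v = v → orbProd p (e * z ^ 0) v = 1 → v = 1 := by
        intro v hv h0
        refine pow_inj_of_coprime hcop ?_
        rw [decompose hze hzp hz v]
        refine Finset.prod_eq_one fun j _ => ?_
        have h1 := orbProd_conj (p := p) (hstep (j * ti)) v
        rw [fixd_pow hv, hred, h0, map_one] at h1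
        exact h1
      have hmul : ∀ g : MulAut V, ∀ x y : V, orbProd p g (x * y⁻¹) = orbProd p g x * (orbProd p g y)⁻¹ := by
        intro g x y
        simp [orbProd, Finset.prod_mul_distrib]
      have h2 := hkey ((v : V) * (v' : V)⁻¹) (by rw [map_mul, map_inv, mem_fixd.1 v.2, mem_fixd.1 v'.2]) (by
        rw [hmul, show orbProd p (e * z ^ 0) (v : V) = orbProd p (e * z ^ 0) (v' : V) from congrArg Subtype.val hvv,
          mul_inv_cancel])
      exact Subtype.ext (mul_inv_eq_one.1 h2)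
    · have hmem : ∀ (k : ℕ) (w : ↥(W 0)), (c ^ k) w ∈ fixd (e * z ^ (k * t)) := by
        intro k w
        rw [mem_fixd, ← MulAut.mul_apply, hstep, MulAut.mul_apply, mem_fixd.1 w.2]
      let g : (Fin p → ↥(W 0)) → V := fun f => ∏ k : Fin p, (c ^ (k : ℕ)) (f k)
      rw [show Nat.card ↥(W 0) ^ p = Nat.card (Fin p → ↥(W 0)) by rw [Nat.card_fun, Nat.card_fin]]
      refine Nat.card_le_card_of_injective g fun f f' hff => funext fun l => ?_
      have hproj : ∀ f : Fin p → ↥(W 0), orbProd p (e * z ^ ((l : ℕ) * t)) (g f) = ((c ^ (l : ℕ)) (f l)) ^ p := by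
        intro f
        have hdist : orbProd p (e * z ^ ((l : ℕ) * t)) (g f) =
            ∏ k : Fin p, orbProd p (e * z ^ ((l : ℕ) * t)) ((c ^ (k : ℕ)) (f k)) := by
          simp only [orbProd, g, map_prod]
          exact Finset.prod_comm
        rw [hdist, Finset.prod_eq_single l]
        · exact orbProd_of_fixed (hmem l (f l))
        · intro k _ hkl
          refine orbProd_cross hze hzp hz (fun h => hkl ?_) hep (hmem k (f k))
          push_cast at h
          have h' := mul_right_cancel₀ ht h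
          have h'' := (ZMod.natCast_eq_natCast_iff' _ _ _).1 h'
          rw [Nat.mod_eq_of_lt k.2, Nat.mod_eq_of_lt l.2] at h''
          exact Fin.ext h''
        · exact fun h => absurd (Finset.mem_univ l) h
      have h1 := (hproj f).symm.trans ((congrArg _ hff).trans (hproj f'))
      have h2 : (c ^ (l : ℕ)) (f l) = (c ^ (l : ℕ)) (f' l) := (powCoprime hcop).injective h1
      exact Subtype.ext ((c ^ (l : ℕ)).injective h2)
  obtain ⟨c, hc, t, ht, hct⟩ := hmove C hC
  obtain ⟨d, hd, t', ht', hdt⟩ := hmove D hD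
  obtain ⟨hcle, hpw⟩ := hbound c (hC ▸ Subgroup.subset_closure hc) t ht hct
  obtain ⟨hdle, -⟩ := hbound d (hD ▸ Subgroup.subset_closure hd) t' ht' hdt
  have hVle : Nat.card V ≤ Nat.card ↥(fixd d) * Nat.card ↥(fixd c) := by
    rw [← Nat.card_prod]
    refine Nat.card_le_card_of_surjective (fun x : ↥(fixd d) × ↥(fixd c) => (x.1 : V) * x.2) fun v => ?_
    obtain ⟨y, w, hy, hw, rfl⟩ := H c hc d hd v
    exact ⟨(⟨y, hy⟩, ⟨w, hw⟩), rfl⟩
  set n0 := Nat.card ↥(W 0)
  have hn0 : n0 = 1 := by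
    have hpos : 0 < n0 := Nat.card_pos
    have h1 : n0 ^ p ≤ n0 ^ 2 := by
      calc n0 ^ p ≤ Nat.card V := hpw
        _ ≤ n0 * n0 := hVle.trans (Nat.mul_le_mul hdle hcle)
        _ = n0 ^ 2 := (sq n0).symm
    by_contra hn1
    have := (Nat.pow_le_pow_iff_right (show 1 < n0 by omega)).1 h1
    omega
  rw [hn0] at hcle hdle
  refine hVone fun v => ?_
  have hc1 := Subgroup.eq_bot_of_card_le _ hcle
  have hd1 := Subgroup.eq_bot_of_card_le _ hdle
  obtain ⟨y, w, hy, hw, rfl⟩ := H c hc d hd v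
  have h1 : y ∈ fixd d := hy
  have h2 : w ∈ fixd c := hw
  rw [hd1, Subgroup.mem_bot] at h1
  rw [hc1, Subgroup.mem_bot] at h2
  rw [h1, h2, mul_one]

/-- Let p ≥ 3 be prime and G a finite group with a Sylow p-subgroup P and a normal p-complement N (N normal, of order prime to p, with NP = G). Suppose P is generated by a subset C and also by a subset D, and that ⟨x c x⁻¹, d⟩ is a p-group for all x ∈ N, c ∈ C, d ∈ D. Then P centralizes N, so that G = N × P. -/
theorem result {G : Type*} [Group G] [Finite G] (p : ℕ) [Fact p.Prime] (hp3 : 3 ≤ p) (P : Sylow p G)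
    (N : Subgroup G) [N.Normal] (hN : (Nat.card N).Coprime p) (hNP : N ⊔ (P : Subgroup G) = ⊤)
    (C D : Set G) (hC : Subgroup.closure C = (P : Subgroup G)) (hD : Subgroup.closure D = (P : Subgroup G))
    (h : ∀ x ∈ N, ∀ c ∈ C, ∀ d ∈ D, IsPGroup p ↥(Subgroup.closure ({x * c * x⁻¹, d} : Set G))) :
    ⁅(P : Subgroup G), N⁆ = ⊥ := by
  classical
  have hpodd : p ≠ 2 := by omega
  have hPN : (P : Subgroup G) ≤ Subgroup.normalizer (N : Set G) := by
    rw [Subgroup.normalizer_eq_top_iff.2 ‹N.Normal›]; exact le_top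
  obtain ⟨k, hk⟩ := IsPGroup.iff_card.1 P.2
  have hcopNP : (Nat.card ↥(P : Subgroup G)).Coprime (Nat.card N) := by
    rw [hk]; exact hN.symm.pow_left k
  have hPsol : Group.IsSolvable ↥(P : Subgroup G) :=
    have := P.2.isNilpotent
    inferInstance
  have hmain : ∀ r : ℕ, r.Prime → ∀ R : Subgroup G, R ≤ N → IsPGroup r ↥R →
      (P : Subgroup G) ≤ Subgroup.normalizer (R : Set G) → (P : Subgroup G) ≤ Subgroup.centralizer (R : Set G) := by
    intro r hr R hRN hRr hPR
    have : Fact r.Prime := ⟨hr⟩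
    have hcopR : (Nat.card ↥(P : Subgroup G)).Coprime (Nat.card ↥R) :=
      hcopNP.coprime_dvd_right (Subgroup.card_dvd_of_le hRN)
    have hdisj : Disjoint R (P : Subgroup G) := (Subgroup.disjoint_of_coprime_natCard hcopR.symm)
    have hCP : C ⊆ (P : Subgroup G) := fun c hc => hC ▸ Subgroup.subset_closure hc
    have hDP : D ⊆ (P : Subgroup G) := fun d hd => hD ▸ Subgroup.subset_closure hd
    -- elements decompose
    have hsplit : ∀ c ∈ C, ∀ d ∈ D, ∀ x ∈ R, ∃ y ∈ R, ∃ z ∈ R, d * y = y * d ∧ c * z = z * c ∧ x = y * z := by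
      intro c hc d hd x hx
      set S := Subgroup.closure ({x * c * x⁻¹, d} : Set G) with hS
      set K := R ⊔ (P : Subgroup G) with hK
      have hSK : S ≤ K := by
        rw [hS, Subgroup.closure_le]
        rintro _ (rfl | rfl)
        · exact K.mul_mem (K.mul_mem (Subgroup.mem_sup_left hx) (Subgroup.mem_sup_right (hCP hc)))
            (K.inv_mem (Subgroup.mem_sup_left hx))
        · exact Subgroup.mem_sup_right (hDP hd)
      have hSp : IsPGroup p ↥S := h x (hRN hx) c hc d hd
      obtain ⟨Qs, hQs⟩ := (hSp.of_equiv (Subgroup.subgroupOfEquivOfLe hSK).symm).exists_le_sylow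
      obtain ⟨g, hg⟩ := MulAction.exists_smul_eq ↥K (P.subtype (le_sup_right : (P : Subgroup G) ≤ K)) Qs
      obtain ⟨y, hy, w, hw, hgyw⟩ := Cfsg.Lib.Coprime.exists_mul_of_mem_sup hPR g.2
      have hin : ∀ s ∈ S, y⁻¹ * s * y ∈ (P : Subgroup G) := by
        intro s hs
        have h1 : (⟨s, hSK hs⟩ : ↥K) ∈ (Qs : Subgroup ↥K) := hQs (Subgroup.mem_subgroupOf.2 hs)
        rw [← hg, Sylow.coe_subgroup_smul, Subgroup.mem_pointwise_smul_iff_inv_smul_mem] at h1
        have h2 : (g : G)⁻¹ * s * g ∈ (P : Subgroup G) := by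
          simpa [Sylow.coe_subtype, Subgroup.mem_subgroupOf, MulAut.smul_def] using h1
        rw [hgyw] at h2
        have h3 := (P : Subgroup G).mul_mem ((P : Subgroup G).mul_mem hw h2) ((P : Subgroup G).inv_mem hw)
        rwa [show w * ((y * w)⁻¹ * s * (y * w)) * w⁻¹ = y⁻¹ * s * y by group] at h3
      have hfix : ∀ a ∈ (P : Subgroup G), ∀ u ∈ R, u⁻¹ * a * u ∈ (P : Subgroup G) → a * u = u * a := by
        intro a ha u hu hau
        have hau' : a * u * a⁻¹ ∈ R := (Subgroup.mem_normalizer_iff.1 (hPR ha) u).1 hu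
        have h1 : u⁻¹ * (a * u * a⁻¹) ∈ R := R.mul_mem (R.inv_mem hu) hau'
        have h2 : u⁻¹ * (a * u * a⁻¹) ∈ (P : Subgroup G) := by
          rw [show u⁻¹ * (a * u * a⁻¹) = u⁻¹ * a * u * a⁻¹ by group]
          exact (P : Subgroup G).mul_mem hau ((P : Subgroup G).inv_mem ha)
        have h3 := Subgroup.disjoint_def.1 hdisj h1 h2
        rw [inv_mul_eq_one, eq_mul_inv_iff_mul_eq] at h3
        exact h3.symm
      have hdy := hfix d (hDP hd) y hy (hin d (Subgroup.subset_closure (by simp)))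
      have hu := hfix c (hCP hc) (x⁻¹ * y) (R.mul_mem (R.inv_mem hx) hy) (by
        rw [show (x⁻¹ * y)⁻¹ * c * (x⁻¹ * y) = y⁻¹ * (x * c * x⁻¹) * y by group]
        exact hin _ (Subgroup.subset_closure (by simp)))
      refine ⟨y, hy, y⁻¹ * x, R.mul_mem (R.inv_mem hy) hx, hdy, ?_, (mul_inv_cancel_left y x).symm⟩
      have h4 : Commute c (x⁻¹ * y) := hu
      have h5 := h4.inv_right
      rwa [show (x⁻¹ * y)⁻¹ = y⁻¹ * x by group] at h5
    -- the Frattini quotient
    letI : CommGroup (↥R ⧸ frattini ↥R) :=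
      { (inferInstance : Group (↥R ⧸ frattini ↥R)) with
        mul_comm := fun a b => ((Cfsg.Lib.PGroup.isElementaryAbelian_quotient_frattini hRr).1.is_comm.comm
          ⟨a, Subgroup.mem_top a⟩ ⟨b, Subgroup.mem_top b⟩) |> congrArg Subtype.val }
    have hmap : ∀ g : MulAut ↥R, (frattini ↥R).map (g : ↥R ≃* ↥R).toMonoidHom = frattini ↥R := by
      intro g
      refine le_antisymm ?_ fun x hx => ⟨g⁻¹ x, Cfsg.Lib.PGroup.apply_mem_frattini g⁻¹ hx, MulEquiv.apply_symm_apply g x⟩
      rintro _ ⟨x, hx, rfl⟩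
      exact Cfsg.Lib.PGroup.apply_mem_frattini g hx
    let ψ : ↥(Subgroup.normalizer (R : Set G)) →* MulAut (↥R ⧸ frattini ↥R) :=
      { toFun := fun g => QuotientGroup.congr _ _ (R.normalizerMonoidHom g) (hmap _)
        map_one' := MulEquiv.ext fun x => QuotientGroup.induction_on x fun v => by
          simp [map_one]
        map_mul' := fun a b => MulEquiv.ext fun x => QuotientGroup.induction_on x fun v =>
          congrArg QuotientGroup.mk (DFunLike.congr_fun (map_mul R.normalizerMonoidHom a b) v) }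
    have hφdef : ∀ (g : ↥(Subgroup.normalizer (R : Set G))) (v : ↥R),
        ψ g (QuotientGroup.mk v) = QuotientGroup.mk (R.normalizerMonoidHom g v) := fun g v => rfl
    set φ : ↥(P : Subgroup G) →* MulAut (↥R ⧸ frattini ↥R) := ψ.comp (Subgroup.inclusion hPR) with hφ
    have himg : ∀ S : Set G, Subgroup.closure S = (P : Subgroup G) →
        Subgroup.closure (φ '' ((P : Subgroup G).subtype ⁻¹' S)) = φ.range := by
      intro S hS
      rw [← MonoidHom.map_closure, MonoidHom.range_eq_map]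
      congr 1
      refine Subgroup.map_injective (P : Subgroup G).subtype_injective ?_
      rw [MonoidHom.map_closure, ← MonoidHom.range_eq_map, Subgroup.range_subtype, Set.image_preimage_eq_of_subset, hS]
      intro s hs
      exact ⟨⟨s, hS ▸ Subgroup.subset_closure hs⟩, rfl⟩
    have hb : φ.range = ⊥ := by
      refine core hp3 _ (↥R ⧸ frattini ↥R) rfl ?_ φ.range (P.2.of_surjective φ.rangeRestrict φ.rangeRestrict_surjective)
        _ _ (himg C hC) (himg D hD) ?_
      · refine (hN.coprime_dvd_left ((?_ : _ ∣ Nat.card ↥R).trans (Subgroup.card_dvd_of_le hRN)))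
        rw [← Subgroup.index_eq_card]
        exact Subgroup.index_dvd_card _
      · rintro _ ⟨c, hc, rfl⟩ _ ⟨d, hd, rfl⟩ x
        induction x using QuotientGroup.induction_on with | H v => ?_
        obtain ⟨y, hy, z, hz, hdy, hcz, hv⟩ := hsplit c hc d hd v v.2
        refine ⟨QuotientGroup.mk ⟨y, hy⟩, QuotientGroup.mk ⟨z, hz⟩, ?_, ?_, congrArg QuotientGroup.mk (Subtype.ext hv)⟩
        · refine (hφdef _ _).trans (congrArg QuotientGroup.mk (Subtype.ext ?_))
          show (d : G) * y * (d : G)⁻¹ = y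
          rw [mul_inv_eq_iff_eq_mul]
          exact hdy
        · refine (hφdef _ _).trans (congrArg QuotientGroup.mk (Subtype.ext ?_))
          show (c : G) * z * (c : G)⁻¹ = z
          rw [mul_inv_eq_iff_eq_mul]
          exact hcz
    refine Cfsg.Lib.Coprime.le_centralizer_of_commutator_le_frattini hPR hcopR (Or.inl hPsol) ?_
    rw [Subgroup.commutator_le]
    intro x hx a ha
    have h1 : φ ⟨a, ha⟩ = 1 := Subgroup.mem_bot.1 (hb ▸ ⟨⟨a, ha⟩, rfl⟩)
    have h2 := DFunLike.congr_fun h1 (QuotientGroup.mk (⟨x, hx⟩ : ↥R))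
    have h3 : (R.normalizerMonoidHom (Subgroup.inclusion hPR ⟨a, ha⟩) ⟨x, hx⟩)⁻¹ * ⟨x, hx⟩ ∈ frattini ↥R :=
      QuotientGroup.eq.1 ((hφdef _ _).symm.trans h2)
    have h4 := (inferInstance : (frattini ↥R).Normal).mem_comm h3
    refine ⟨_, h4, ?_⟩
    show x * (a * x * a⁻¹)⁻¹ = ⁅x, a⁆
    rw [commutatorElement_def]
    group
  rw [Subgroup.commutator_eq_bot_iff_le_centralizer]
  have htop : N ≤ Subgroup.centralizer ((P : Subgroup G) : Set G) := by
    set Z := N ⊓ Subgroup.centralizer ((P : Subgroup G) : Set G) with hZ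
    have hdvd : Nat.card N ∣ Nat.card Z := by
      rw [← Nat.factorization_prime_le_iff_dvd Nat.card_pos.ne' Nat.card_pos.ne']
      intro r hr
      have : Fact r.Prime := ⟨hr⟩
      obtain ⟨R, hR⟩ := Cfsg.Lib.Coprime.exists_invariant_sylow hPN hcopNP (Or.inl hPsol) r
      have hRN : (R : Subgroup N).map N.subtype ≤ N := Subgroup.map_subtype_le _
      have hc := hmain r hr _ hRN (R.2.map N.subtype) hR
      have hRZ : (R : Subgroup N).map N.subtype ≤ Z := le_inf hRN (Subgroup.le_centralizer_iff.1 hc)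
      have h1 := Subgroup.card_dvd_of_le hRZ
      rw [Subgroup.card_map_of_injective N.subtype_injective, Sylow.card_eq_multiplicity] at h1
      exact (Nat.Prime.pow_dvd_iff_le_factorization hr Nat.card_pos.ne').1 h1
    have := Subgroup.eq_of_le_of_card_ge (inf_le_left : Z ≤ N) (Nat.le_of_dvd Nat.card_pos hdvd)
    exact this ▸ inf_le_right
  exact Subgroup.le_centralizer_iff.1 htop

end Cfsg.Agent.S2277
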