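import Cfsg.Statements.S2281
import Cfsg.Agent.Lib.Linear.SpThree.Designs
import Cfsg.Agent.Lib.Linear.TwoReg.Core
import Cfsg.Agent.Lib.Linear.AutPSp.Field

set_option linter.style.haveILetI false

set_option autoImplicit false
open Cfsg

namespace Cfsg.Agent.S2281

open Matrix Cfsg.Lib.Linear Cfsg.Lib.Linear.TwoReg Cfsg.Lib.Linear.TVec Cfsg.Lib.Linear.AutPSL Cfsg.Lib.Linear.MinIndex
open Cfsg.Lib.Linear.RegUnipotentGen

/-- The Toeplitz coefficients of the invariant alternating form, as integers. -/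
def phiZ (n : ℕ) (k : ℤ) : ℤ := Ring.choose (k + ((n - 1 : ℕ) : ℤ)) (2 * n - 1)

theorem fwdDiff_choose_zero (j : ℕ) (c : ℤ) :
    (fwdDiff (1 : ℤ))^[j + 1] (fun k : ℤ => Ring.choose (k + c) j) = 0 := by
  induction j with
  | zero => funext k; simp [fwdDiff, Ring.choose_zero_right]
  | succ j ih =>
    rw [Function.iterate_succ_apply]
    convert ih using 2
    funext k
    rw [fwdDiff, show k + 1 + c = k + c + 1 by ring, Ring.choose_succ_succ, add_sub_cancel_right]

theorem phiZ_rec {n : ℕ} (hn : 0 < n) (y : ℤ) :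
    ∑ k ∈ Finset.range (2 * n + 1), ((-1 : ℤ) ^ (2 * n - k) * (2 * n).choose k) * phiZ n (y + k) = 0 := by
  have h := fwdDiff_iter_eq_sum_shift (1 : ℤ) (phiZ n) (2 * n) y
  have h0 : (fwdDiff (1 : ℤ))^[2 * n] (phiZ n) = 0 := by
    have h' := fwdDiff_choose_zero (2 * n - 1) ((n - 1 : ℕ) : ℤ)
    rwa [show 2 * n - 1 + 1 = 2 * n by omega] at h'
  rw [h0] at h
  simpa using h.symm

variable (n : ℕ) (F : Type*) [Field F]

/-- The form matrix. -/
def phiM : Matrix (Fin (2 * n)) (Fin (2 * n)) F :=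
  Matrix.of fun i l => ((phiZ n ((l.val : ℤ) - i.val) : ℤ) : F)

/-- The invariant alternating form. -/
noncomputable def form0 : LinearMap.BilinForm F (Fin (2 * n) → F) := Matrix.toBilin' (phiM n F)

variable {n F}

theorem phiZ_neg (hn : 0 < n) (k : ℤ) : phiZ n (-k) = -phiZ n k := by
  rw [phiZ, show -k + ((n - 1 : ℕ) : ℤ) = -(k - ((n - 1 : ℕ) : ℤ)) by ring, Ring.choose_neg, phiZ,
    show k - ((n - 1 : ℕ) : ℤ) + ((2 * n - 1 : ℕ) : ℤ) - 1 = k + ((n - 1 : ℕ) : ℤ) by omega,
    Int.negOnePow_odd _ (by exact ⟨(n : ℤ) - 1, by omega⟩), Units.neg_smul, one_smul]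

theorem phiZ_eq_zero {k : ℤ} (h1 : -(n : ℤ) < k) (h2 : k < n) : phiZ n k = 0 := by
  obtain ⟨m, hm⟩ : ∃ m : ℕ, k + ((n - 1 : ℕ) : ℤ) = m := ⟨(k + ((n - 1 : ℕ) : ℤ)).toNat, by omega⟩
  rw [phiZ, hm, Ring.choose_natCast, Nat.choose_eq_zero_of_lt (by omega), Nat.cast_zero]

theorem phiZ_self (hn : 0 < n) : phiZ n (n : ℤ) = 1 := by
  rw [phiZ, show (n : ℤ) + ((n - 1 : ℕ) : ℤ) = ((2 * n - 1 : ℕ) : ℤ) by omega, Ring.choose_natCast,
    Nat.choose_self, Nat.cast_one]

theorem bas_eq (i : Fin (2 * n)) : (bas i.val : Fin (2 * n) → F) = Pi.single i 1 := by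
  funext k
  simp [bas_apply, Pi.single_apply, Fin.ext_iff]

theorem form0_bas {i l : ℕ} (hi : i < 2 * n) (hl : l < 2 * n) :
    form0 n F (bas i) (bas l) = ((phiZ n ((l : ℤ) - i) : ℤ) : F) := by
  rw [show (bas i : Fin (2 * n) → F) = Pi.single ⟨i, hi⟩ 1 from bas_eq ⟨i, hi⟩,
    show (bas l : Fin (2 * n) → F) = Pi.single ⟨l, hl⟩ 1 from bas_eq ⟨l, hl⟩, form0, Matrix.toBilin'_single]
  rfl

theorem form0_alt (hn : 0 < n) : (form0 n F).IsAlt := by
  intro x
  have hswap : ∀ i l : Fin (2 * n), phiM n F i l = -phiM n F l i := fun i l => by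
    simp only [phiM, Matrix.of_apply]
    rw [show ((l.val : ℤ) - i.val) = -((i.val : ℤ) - l.val) by ring, phiZ_neg hn]
    push_cast
    rfl
  have hdiag : ∀ i : Fin (2 * n), phiM n F i i = 0 := fun i => by
    simp only [phiM, Matrix.of_apply, sub_self]
    rw [phiZ_eq_zero (by omega) (by omega), Int.cast_zero]
  rw [form0, Matrix.toBilin'_apply, ← Finset.sum_product']
  refine Finset.sum_involution (fun p _ => (p.2, p.1)) ?_ ?_ (fun p _ => by simp) (fun p _ => by simp)
  · intro p _
    rw [hswap p.2 p.1]; ring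
  · intro p _ hne he
    apply hne
    have : p.1 = p.2 := (congrArg Prod.fst he).symm
    rw [this, hdiag]; ring

theorem form0_nondeg (hn : 0 < n) : (form0 n F).Nondegenerate := by
  have key : ∀ v : Fin (2 * n) → F, (∀ l, l < 2 * n → form0 n F v (bas l) = 0) → v = 0 := by
    intro v hv
    have he : ∀ l, l < 2 * n → ∑ i : Fin (2 * n), v i * ((phiZ n ((l : ℤ) - i.val) : ℤ) : F) = 0 := fun l hl => by
      have h := hv l hl
      rw [show (bas l : Fin (2 * n) → F) = Pi.single ⟨l, hl⟩ 1 from bas_eq ⟨l, hl⟩, form0,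
        Matrix.toBilin'_apply', Matrix.mulVec_single_one] at h
      exact h
    funext ⟨m, hm⟩
    suffices hh : (∀ d (h : d < n), v ⟨d, by omega⟩ = 0) ∧ ∀ d (h : d < n), v ⟨n + d, by omega⟩ = 0 by
      rcases Nat.lt_or_ge m n with h | h
      · exact hh.1 m h
      · obtain ⟨d, rfl⟩ := Nat.exists_eq_add_of_le h
        exact hh.2 d (by omega)
    constructor
    · intro d
      induction d using Nat.strong_induction_on with
      | _ d ih =>
        intro h
        have h1 := he (n + d) (by omega)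
        rw [Finset.sum_eq_single ⟨d, by omega⟩ (fun i _ hi => ?_) (fun hc => absurd (Finset.mem_univ _) hc)] at h1
        · rw [show ((n + d : ℕ) : ℤ) - (d : ℤ) = n by push_cast; ring, phiZ_self hn, Int.cast_one, mul_one] at h1
          exact h1
        · rcases Nat.lt_or_gt_of_ne (Fin.val_ne_iff.2 hi) with hlt | hgt
          · rw [show v i = 0 from ih i.val hlt (Nat.lt_trans hlt h), zero_mul]
          · have := i.isLt
            change d < i.val at hgt
            rw [phiZ_eq_zero (by omega) (by omega), Int.cast_zero, mul_zero]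
    · suffices ∀ k d (h : d < n), n ≤ d + k + 1 → v ⟨n + d, by omega⟩ = 0 from fun d h => this n d h (by omega)
      intro k
      induction k with
      | zero =>
        intro d h hk
        have h1 := he d (by omega)
        rw [Finset.sum_eq_single ⟨n + d, by omega⟩ (fun i _ hi => ?_) (fun hc => absurd (Finset.mem_univ _) hc)] at h1
        · rw [show ((d : ℕ) : ℤ) - ((n + d : ℕ) : ℤ) = -(n : ℤ) by push_cast; ring, phiZ_neg hn, phiZ_self hn] at h1
          simpa using h1
        · have := i.isLt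
          have hne : i.val ≠ n + d := fun e => hi (Fin.ext e)
          rw [phiZ_eq_zero (by omega) (by omega), Int.cast_zero, mul_zero]
      | succ k ih =>
        intro d h hk
        have h1 := he d (by omega)
        rw [Finset.sum_eq_single ⟨n + d, by omega⟩ (fun i _ hi => ?_) (fun hc => absurd (Finset.mem_univ _) hc)] at h1
        · rw [show ((d : ℕ) : ℤ) - ((n + d : ℕ) : ℤ) = -(n : ℤ) by push_cast; ring, phiZ_neg hn, phiZ_self hn] at h1
          simpa using h1
        · have := i.isLt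
          have hne : i.val ≠ n + d := fun e => hi (Fin.ext e)
          rcases Nat.lt_or_gt_of_ne hne with hlt | hgt
          · rw [phiZ_eq_zero (by omega) (by omega), Int.cast_zero, mul_zero]
          · obtain ⟨e, he'⟩ := Nat.exists_eq_add_of_le (show n ≤ i.val by omega)
            rw [show v i = 0 from (congrArg v (Fin.ext he')).trans (ih e (by omega) (by omega)), zero_mul]
  have hsep : ∀ v, (∀ w, form0 n F v w = 0) → v = 0 := fun v hv => key v fun l _ => hv _
  refine ⟨hsep, fun v hv => hsep v fun w => ?_⟩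
  rw [← LinearMap.IsAlt.neg (form0_alt (F := F) hn) w v, hv, neg_zero]

theorem form0_inv (hn : 0 < n) (a b : Fin (2 * n) → F) :
    form0 n F (cm (2 * n) F *ᵥ a) (cm (2 * n) F *ᵥ b) = form0 n F a b := by
  have last : ∀ i, i < 2 * n → form0 n F (bas i) (cm (2 * n) F *ᵥ bas (2 * n - 1)) =
      ((phiZ n (((2 * n : ℕ) : ℤ) - i) : ℤ) : F) := by
    intro i hi
    have hr := congrArg (Int.cast : ℤ → F) (phiZ_rec hn (-(i : ℤ)))
    rw [cm_last (by omega), show (bas i : Fin (2 * n) → F) = Pi.single ⟨i, hi⟩ 1 from bas_eq ⟨i, hi⟩, form0,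
      Matrix.toBilin'_apply', single_one_dotProduct, Matrix.mulVec, dotProduct]
    rw [Finset.sum_range_succ] at hr
    push_cast at hr
    rw [Nat.sub_self, pow_zero, Nat.choose_self, Nat.cast_one, one_mul, one_mul, ← Fin.sum_univ_eq_sum_range] at hr
    simp only [phiM, Matrix.of_apply, cc]
    push_cast
    rw [show (-(i : ℤ) + 2 * (n : ℤ)) = 2 * (n : ℤ) - i by ring] at hr
    calc _ = -∑ x : Fin (2 * n), ((-1 : F) ^ (2 * n - x.val) * ((2 * n).choose x.val : F)) *
          ((phiZ n (-(i : ℤ) + (x.val : ℤ)) : ℤ) : F) := by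
            rw [← Finset.sum_neg_distrib]
            refine Finset.sum_congr rfl fun x _ => ?_
            rw [show (x.val : ℤ) - i = -(i : ℤ) + x.val by ring]
            ring
      _ = _ := by linear_combination -hr
  have pair : ∀ i l, i < 2 * n → l < 2 * n → i ≤ l →
      form0 n F (cm (2 * n) F *ᵥ bas i) (cm (2 * n) F *ᵥ bas l) = form0 n F (bas i) (bas l) := by
    intro i l hi hl hil
    rcases Nat.eq_or_lt_of_le hil with rfl | hlt
    · rw [(form0_alt (F := F) hn).self_eq_zero, (form0_alt (F := F) hn).self_eq_zero]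
    rw [cm_bas (show i + 1 < 2 * n by omega), form0_bas hi hl]
    rcases Nat.lt_or_ge (l + 1) (2 * n) with h | h
    · rw [cm_bas h, form0_bas (by omega) h]
      congr 2
      push_cast; ring
    · obtain rfl : l = 2 * n - 1 := by omega
      rw [last (i + 1) (by omega)]
      congr 2
      push_cast [Nat.cast_sub (show 1 ≤ 2 * n by omega)]
      ring
  have : LinearMap.compl₁₂ (form0 n F) (cm (2 * n) F).mulVecLin (cm (2 * n) F).mulVecLin = form0 n F := by
    refine LinearMap.ext_basis (Pi.basisFun F _) (Pi.basisFun F _) fun i l => ?_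
    rw [LinearMap.compl₁₂_apply, Pi.basisFun_apply, Pi.basisFun_apply, ← bas_eq, ← bas_eq, Matrix.mulVecLin_apply,
      Matrix.mulVecLin_apply]
    rcases le_total i.val l.val with h | h
    · exact pair _ _ i.isLt l.isLt h
    · rw [← LinearMap.IsAlt.neg (form0_alt (F := F) hn) (cm (2 * n) F *ᵥ bas l.val), pair _ _ l.isLt i.isLt h,
        LinearMap.IsAlt.neg (form0_alt (F := F) hn)]
  exact LinearMap.congr_fun₂ this a b

/-- The standard symplectic space carries a regular unipotent model. -/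
theorem exists_model (hn : 2 ≤ n) : Nonempty (SpThree.Model n (Symp.spB n F)) := by
  classical
  have hn0 : 0 < n := by omega
  let ρ : (Fin n ⊕ Fin n → F) ≃ₗ[F] (Fin (2 * n) → F) :=
    LinearEquiv.funCongrLeft F F (finSumFinEquiv.trans (finCongr (by omega))).symm
  let ω : LinearMap.BilinForm F (Fin n ⊕ Fin n → F) := (form0 n F).compl₁₂ ρ.toLinearMap ρ.toLinearMap
  have hωA : ω.IsAlt := fun x => form0_alt hn0 _
  have hωN : ω.Nondegenerate :=
    ⟨fun v hv => ρ.map_eq_zero_iff.1 ((form0_nondeg hn0).1 _ fun w => by simpa [ω] using hv (ρ.symm w)),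
      fun v hv => ρ.map_eq_zero_iff.1 ((form0_nondeg hn0).2 _ fun w => by simpa [ω] using hv (ρ.symm w))⟩
  obtain ⟨C, hC⟩ := AutPSp.exists_std_coords hωA hωN
  let L : (Fin n ⊕ Fin n → F) ≃ₗ[F] (Fin (2 * n) → F) :=
    (LinearEquiv.ofInjectiveEndo C.1.mulVecLin (fun a b hab => by
      have h := congrArg (fun z => ((C⁻¹ : GL (Fin n ⊕ Fin n) F)).1 *ᵥ z) hab
      simp only [Matrix.mulVecLin_apply, Matrix.mulVec_mulVec, Units.inv_mul, Matrix.one_mulVec] at h
      exact h)).trans ρ
  have hL : ∀ a b, form0 n F (L a) (L b) = Symp.spB n F a b := fun a b => hC a b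
  have hLs : ∀ a b, Symp.spB n F (L.symm a) (L.symm b) = form0 n F a b := fun a b => by
    rw [← hL, L.apply_symm_apply, L.apply_symm_apply]
  obtain ⟨U, hU, hUa⟩ := SpThree.exists_iso_of_preserves (form0_nondeg (F := F) hn0)
    (cm (2 * n) F).mulVecLin (form0_inv hn0)
  let u : (Fin n ⊕ Fin n → F) ≃ₗ[F] (Fin n ⊕ Fin n → F) := (L.trans U).trans L.symm
  have hua : ∀ x, u x = L.symm (cm (2 * n) F *ᵥ L x) := fun x => congrArg L.symm (hUa _)
  have hpow : ∀ (k : ℕ), (u ^ k) (L.symm (bas 0)) = L.symm ((cm (2 * n) F ^ k) *ᵥ bas 0) := by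
    intro k
    induction k with
    | zero => simp
    | succ k ih => rw [pow_succ', LinearEquiv.mul_apply, ih, hua, L.apply_symm_apply, mulVec_mulVec, pow_succ']
  refine ⟨{
    u := u
    e := L.symm (bas 0)
    n2 := hn
    hA := Symp.spB_isAlt n F
    hB := Symp.spB_nondegenerate n F
    dim := Symp.finrank_space
    hu := fun a b => by rw [hua, hua, hLs, form0_inv hn0, hL]
    nil := ?_
    cyc := ?_
    low := fun i l hi hl => ?_
    mid := fun i hi => ?_ }⟩
  · have h : ∀ k, (((u : (Fin n ⊕ Fin n → F) →ₗ[F] _) - 1 : Module.End F _) ^ k) (L.symm (bas 0)) =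
        L.symm (((cm (2 * n) F - 1) ^ k) *ᵥ bas 0) := by
      intro k
      induction k with
      | zero => simp
      | succ k ih =>
        rw [pow_succ', Module.End.mul_apply, ih]
        show u _ - _ = _
        rw [hua, L.apply_symm_apply, Module.End.one_apply, ← map_sub, pow_succ', ← mulVec_mulVec, sub_mulVec, one_mulVec]
    rw [h, cm_sub_one_pow, zero_mulVec, map_zero]
  · have h : Submodule.span F (Set.range fun i : Fin (2 * n) => L.symm (Pi.single i 1)) = ⊤ := by
      have hb := ((Pi.basisFun F (Fin (2 * n))).map L.symm).span_eq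
      convert hb using 3
      funext i
      simp
    rw [eq_top_iff, ← h, Submodule.span_le]
    rintro _ ⟨i, rfl⟩
    refine Submodule.subset_span ⟨i.val, ?_⟩
    show (u ^ i.val) (L.symm (bas 0)) = _
    rw [hpow, cm_pow_bas i.isLt, bas_eq]
  · rw [hpow, hpow, hLs, cm_pow_bas (by omega), cm_pow_bas (by omega), form0_bas (by omega) (by omega),
      phiZ_eq_zero (by omega) (by omega), Int.cast_zero]
  · rw [hpow, hpow, hLs, cm_pow_bas (by omega), cm_pow_bas (by omega), form0_bas (by omega) (by omega)]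
    split_ifs with h
    · subst h; rw [Nat.cast_zero, sub_zero, phiZ_self hn0, Int.cast_one]
    · rw [phiZ_eq_zero (by omega) (by omega), Int.cast_zero]

/-- Let F be a finite field and n ≥ 2, excluding the case n = 2 with F of two elements (where the group is not quasisimple). Then the symplectic group Sp_2n(F) is generated by three conjugate regular unipotent elements: there are u ∈ Sp_2n(F) with u − 1 nilpotent and (u − 1)^(2n−1) ≠ 0, and g, h ∈ Sp_2n(F), such that u, g u g⁻¹ and h u h⁻¹ generate Sp_2n(F). -/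
theorem result {F : Type*} [Field F] [Fintype F] (n : ℕ) (hn : 2 ≤ n) (h22 : ¬ (n = 2 ∧ Fintype.card F = 2)) :
    ∃ u g h : Matrix.symplecticGroup (Fin n) F,
      IsNilpotent ((u : Matrix (Fin n ⊕ Fin n) (Fin n ⊕ Fin n) F) - 1) ∧
      ((u : Matrix (Fin n ⊕ Fin n) (Fin n ⊕ Fin n) F) - 1) ^ (2 * n - 1) ≠ 0 ∧
      Subgroup.closure ({u, g * u * g⁻¹, h * u * h⁻¹} : Set (Matrix.symplecticGroup (Fin n) F)) = ⊤ := by
  classical
  obtain ⟨Q⟩ := exists_model (n := n) (F := F) hn
  obtain ⟨g, hg, h, hh, hgen⟩ := Q.threeGen h22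
  let e : Matrix.symplecticGroup (Fin n) F ≃* Symp.iso (Symp.spB n F) := Symp.spEquiv
  obtain ⟨u', hu'⟩ := e.surjective ⟨Q.u, Q.hu⟩
  obtain ⟨g', hg'⟩ := e.surjective ⟨g, hg⟩
  obtain ⟨h', hh'⟩ := e.surjective ⟨h, hh⟩
  have hlin : Matrix.toLin' ((u' : Matrix (Fin n ⊕ Fin n) (Fin n ⊕ Fin n) F) - 1) = Q.N := by
    refine LinearMap.ext fun x => ?_
    have hx := congrArg (fun z : Symp.iso (Symp.spB n F) => z.1 x) hu'
    simp only [e, Symp.spEquiv_apply] at hx
    rw [Matrix.toLin'_apply, Matrix.sub_mulVec, Matrix.one_mulVec, hx, SpThree.Model.N_apply]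
  refine ⟨u', g', h', ⟨2 * n, Matrix.toLin'.injective ?_⟩, ?_, ?_⟩
  · rw [Matrix.toLin'_pow, hlin, Q.N_pow, map_zero]
  · intro h0
    apply Q.eps_ne
    have h1 := congrArg Matrix.toLin' h0
    rw [Matrix.toLin'_pow, hlin, map_zero] at h1
    exact LinearMap.congr_fun h1 Q.e
  · rw [Subgroup.eq_top_iff']
    intro A
    set ψ := (Symp.iso (Symp.spB n F)).subtype.comp e.toMonoidHom with hψ
    have hψi : Function.Injective ψ := Subtype.val_injective.comp e.injective
    set S : Set (Matrix.symplecticGroup (Fin n) F) := {u', g' * u' * g'⁻¹, h' * u' * h'⁻¹}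
    have hval : ψ u' = Q.u ∧ ψ g' = g ∧ ψ h' = h :=
      ⟨congrArg Subtype.val hu', congrArg Subtype.val hg', congrArg Subtype.val hh'⟩
    have hP := hgen ((Subgroup.closure S).map ψ) (by
        rintro _ ⟨z, -, rfl⟩
        exact (e z).2)
      ⟨u', Subgroup.subset_closure (by simp [S]), hval.1⟩
      ⟨g' * u' * g'⁻¹, Subgroup.subset_closure (by simp [S]), by simp [hval.1, hval.2.1]⟩
      ⟨h' * u' * h'⁻¹, Subgroup.subset_closure (by simp [S]), by simp [hval.1, hval.2.2]⟩
    obtain ⟨z, hz, hze⟩ := hP (e A).2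
    rwa [← hψi hze]

end Cfsg.Agent.S2281
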