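import Cfsg.Statements.S2283
import Cfsg.Agent.Lib.Linear.SUThree.Translate

set_option autoImplicit false
open Cfsg

namespace Cfsg.Agent.S2283

/-- Let F be a field with q² elements, q ≥ 3, and SU_3(q) the special unitary group of the standard Hermitian form. Then SU_3(q) is generated by two conjugate regular unipotent elements: there are u ∈ SU_3(q) with u − 1 nilpotent and (u − 1)² ≠ 0, and g ∈ SU_3(q), such that u and g u g⁻¹ generate SU_3(q). -/
theorem result {F : Type*} [Field F] [Fintype F] (q : ℕ) (hq : 3 ≤ q) (hF : Fintype.card F = q ^ 2) :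
    ∃ u g : ↥(Cfsg.SU 3 F q), (IsNilpotent (((u : Matrix.SpecialLinearGroup (Fin 3) F) : Matrix (Fin 3) (Fin 3) F) - 1) ∧ (((u : Matrix.SpecialLinearGroup (Fin 3) F) : Matrix (Fin 3) (Fin 3) F) - 1) ^ (3 - 1) ≠ 0) ∧
      Subgroup.closure ({u, g * u * g⁻¹} : Set ↥(Cfsg.SU 3 F q)) = ⊤ := by
  classical
  obtain ⟨γ, hγ⟩ := Cfsg.Lib.Linear.SUThree.exists_gen hF
  set σ := Cfsg.Lib.Linear.Herm.frob hF
  have hσq : ∀ x, σ x = x ^ q := Cfsg.Lib.Linear.Herm.frob_apply hF
  have hγ1 : ∀ k, 0 < k → k < q ^ 2 - 1 → (γ : F) ^ k ≠ 1 := fun k h1 h2 h => by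
    have h' : γ ^ k = 1 := Units.ext (by rw [Units.val_pow_eq_pow_val, h, Units.val_one])
    have := Nat.le_of_dvd h1 (orderOf_dvd_of_pow_eq_one h')
    omega
  have hγtop : (γ : F) ^ (q ^ 2 - 1) = 1 := by
    rw [← Units.val_pow_eq_pow_val, ← hγ, pow_orderOf_eq_one, Units.val_one]
  have hq9 : 3 * q ≤ q ^ 2 := by rw [pow_two]; exact Nat.mul_le_mul_right _ hq
  have hfixpow : σ ((γ : F) ^ (q + 1)) = (γ : F) ^ (q + 1) := by
    rw [hσq, ← pow_mul, show (q + 1) * q = (q ^ 2 - 1) + (q + 1) by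
      have : 1 ≤ q ^ 2 := by omega
      zify [this]; ring, pow_add, hγtop, one_mul]
  suffices hmain : ∃ α : F, α + σ α = 1 ∧
      ∀ Q : Cfsg.Lib.Linear.SUThree.HModel 1 α (Cfsg.Lib.Linear.Herm.hB hF (2 * 1 + 1)), Q.TwoGen by
    obtain ⟨α, htr, hQ⟩ := hmain
    obtain ⟨Q⟩ := Cfsg.Lib.Linear.SUThree.exists_model hF le_rfl htr
    obtain ⟨y, hy0, hy⟩ := Cfsg.Lib.Linear.Herm.exists_trace_zero (Cfsg.Lib.Linear.Herm.frob_ne_id hF)
      (Cfsg.Lib.Linear.Herm.frob_frob hF)
    refine Cfsg.Lib.Linear.SUThree.exists_SU_two (Or.inr ⟨by omega, y, (γ : F) ^ (q + 1) * y, hy0,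
      mul_ne_zero (pow_ne_zero _ γ.ne_zero) hy0, fun h => ?_, hy, ?_⟩) Q (hQ Q)
    · exact hγ1 (q + 1) (by omega) (by omega) (mul_right_cancel₀ hy0 (h.symm.trans (one_mul y).symm))
    · rw [map_mul, hfixpow, ← mul_add, hy, mul_zero]
  by_cases h5 : q = 5
  · subst h5
    have h25 := FiniteField.cast_card_eq_zero F
    rw [hF] at h25
    push_cast at h25
    have hc5 : (5 : F) = 0 := mul_self_eq_zero.1 (show (5 : F) * 5 = 0 by linear_combination h25)
    set ω := (γ : F) ^ 8 with hω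
    have hω3 : ω ^ 3 = 1 := by rw [hω, ← pow_mul]; exact hγtop
    have hω1 : ω - 1 ≠ 0 := sub_ne_zero.2 (hγ1 8 (by norm_num) (by norm_num))
    have hω2 : ω ^ 2 + ω + 1 = 0 := (mul_eq_zero.1
      (show (ω - 1) * (ω ^ 2 + ω + 1) = 0 by linear_combination hω3)).resolve_left hω1
    have hσω : σ ω = ω ^ 2 := by rw [hσq]; linear_combination ω ^ 2 * hω3
    refine ⟨4 + 2 * ω, ?_, fun Q => Q.twoGen_five hω2 hc5 hσω rfl fun r hr hr0 => ?_⟩
    · rw [map_add, map_mul, map_ofNat, map_ofNat, hσω]; linear_combination 2 * hω2 + hc5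
    · rw [show σ r = r ^ 5 from hσq r] at hr
      have hr4 : (r - 1) * (r + 1) * (r - 2) * (r + 2) = 0 := by
        refine (mul_eq_zero.1 (show r * ((r - 1) * (r + 1) * (r - 2) * (r + 2)) = 0 from ?_)).resolve_left hr0
        linear_combination hr + (r - r ^ 3) * hc5
      simp only [mul_eq_zero] at hr4
      rcases hr4 with ((h | h) | h) | h
      · exact ⟨0, by linear_combination h⟩
      · exact ⟨2, by linear_combination h - 2 * hc5⟩
      · exact ⟨3, by linear_combination h - 5 * hc5⟩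
      · exact ⟨1, by linear_combination h - hc5⟩
  by_cases h8 : q = 8
  · subst h8
    have h64 := FiniteField.cast_card_eq_zero F
    rw [hF] at h64
    push_cast at h64
    have h2 : (2 : F) = 0 :=
      pow_eq_zero_iff (show (6 : ℕ) ≠ 0 by norm_num) |>.1 (show (2 : F) ^ 6 = 0 by linear_combination h64)
    set a := (γ : F) ^ 21 with ha
    set ζ := (γ : F) ^ 7 with hζ
    set g := (γ : F) ^ 9 with hg
    have ha3 : a ^ 3 = 1 := by rw [ha, ← pow_mul]; exact hγtop
    have ha1 : a - 1 ≠ 0 := sub_ne_zero.2 (hγ1 21 (by norm_num) (by norm_num))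
    have ha2 : a ^ 2 + a + 1 = 0 := (mul_eq_zero.1
      (show (a - 1) * (a ^ 2 + a + 1) = 0 by linear_combination ha3)).resolve_left ha1
    have hσa : σ a = a ^ 2 := by rw [hσq]; linear_combination (a ^ 5 + a ^ 2) * ha3
    have hζ3 : ζ ^ 3 = a := by rw [hζ, ha, ← pow_mul]
    have hζn : σ ζ * ζ = 1 := by rw [hσq, ← pow_succ, hζ, ← pow_mul]; exact hγtop
    have hg7 : g ^ 7 = 1 := by rw [hg, ← pow_mul]; exact hγtop
    have hg1 : g - 1 ≠ 0 := sub_ne_zero.2 (hγ1 9 (by norm_num) (by norm_num))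
    have hσg : σ g = g := hfixpow
    have htr : ∀ n, σ n = n → a + n + σ (a + n) = 1 := fun n hn => by
      rw [map_add, hσa, hn]; linear_combination ha2 + (n - 1) * h2
    have hfix : ∀ (A : AddSubgroup F), (∀ k : ℕ, g ^ k ∈ A) → ∀ r, σ r = r → r ∈ A := by
      intro A hA r hr
      by_cases hr0 : r = 0
      · rw [hr0]; exact A.zero_mem
      · obtain ⟨k, hk⟩ := Cfsg.Lib.Linear.SUThree.fixed_eq_pow hF (by norm_num) hγ hσq hr hr0
        rw [hk]; exact hA k
    rcases mul_eq_zero.1 (show (g - 1) * (g ^ 3 + g + 1) * (g ^ 3 + g ^ 2 + 1) = 0 by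
      linear_combination hg7 + (g ^ 4 - g ^ 3) * h2) with h | h
    · have h' : g ^ 3 + g + 1 = 0 := (mul_eq_zero.1 h).resolve_left hg1
      refine ⟨a + g, htr g hσg, fun Q => Q.twoGen_eight h2 rfl hσg (by linear_combination h' - (g + 1) * h2)
        ha2 hσa hζ3 hζn fun A h0 h1 h2' => hfix A fun k => ?_⟩
      suffices g ^ k ∈ A ∧ g ^ (k + 1) ∈ A ∧ g ^ (k + 2) ∈ A from this.1
      induction k with
      | zero => exact ⟨by simpa using h0, by simpa using h1, by simpa using h2'⟩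
      | succ k ih =>
        refine ⟨ih.2.1, ih.2.2, ?_⟩
        rw [show g ^ (k + 1 + 2) = g ^ (k + 1) + g ^ k by
          linear_combination g ^ k * h' - (g ^ (k + 1) + g ^ k) * h2]
        exact add_mem ih.2.1 ih.1
    · have hσn : σ (g + 1) = g + 1 := by rw [map_add, hσg, map_one]
      refine ⟨a + (g + 1), htr _ hσn, fun Q => Q.twoGen_eight h2 rfl hσn
        (by linear_combination h + (g ^ 2 + g - 1) * h2)
        ha2 hσa hζ3 hζn fun A h0 h1 h2' => hfix A fun k => ?_⟩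
      suffices g ^ k ∈ A ∧ g ^ (k + 1) ∈ A ∧ g ^ (k + 2) ∈ A from this.1
      induction k with
      | zero =>
        refine ⟨by simpa using h0, ?_, ?_⟩
        · simpa using sub_mem h1 h0
        · rw [show g ^ (0 + 2) = (g + 1) ^ 2 + 1 by linear_combination -(g + 1) * h2]
          exact add_mem h2' h0
      | succ k ih =>
        refine ⟨ih.2.1, ih.2.2, ?_⟩
        rw [show g ^ (k + 1 + 2) = g ^ (k + 2) + g ^ k by
          linear_combination g ^ k * h - (g ^ (k + 2) + g ^ k) * h2]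
        exact add_mem ih.2.2 ih.1
  · set β : Fˣ := γ ^ (q - 1) with hβ
    have hdvd : q ^ 2 - 1 = (q + 1) * (q - 1) := Cfsg.Lib.Linear.SUThree.sq_sub_one q
    have hβo : orderOf β = q + 1 := by
      rw [hβ, orderOf_pow_of_dvd (by omega) (by rw [hγ, hdvd]; exact dvd_mul_left _ _), hγ, hdvd,
        Nat.mul_div_cancel _ (by omega)]
    set l : F := (β : F) with hl
    have hl0 : l ≠ 0 := β.ne_zero
    have hnorm : σ l * l = 1 := by
      rw [hσq, ← pow_succ, hl, ← Units.val_pow_eq_pow_val, ← hβo, pow_orderOf_eq_one, Units.val_one]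
    have hσl : σ l = l⁻¹ := eq_inv_of_mul_eq_one_left hnorm
    have hl1 : 1 + l ≠ 0 := fun h => by
      have h2 : β ^ 2 = 1 := Units.ext (by
        rw [Units.val_pow_eq_pow_val, Units.val_one, ← hl]; linear_combination (l - 1) * h)
      have := Nat.le_of_dvd (by norm_num) (orderOf_dvd_of_pow_eq_one h2)
      omega
    have hσα : σ (l / (1 + l)) = 1 / (1 + l) := by
      have h' : σ (1 + l) = (1 + l) * l⁻¹ := by
        rw [map_add, map_one, hσl, add_mul, one_mul, mul_inv_cancel₀ hl0, add_comm]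
      rw [map_div₀, h', hσl, one_div, div_eq_mul_inv, mul_inv, inv_inv, mul_comm (1 + l)⁻¹ l, ← mul_assoc,
        inv_mul_cancel₀ hl0, one_mul]
    refine ⟨l / (1 + l), ?_, fun Q => Q.twoGen_generic ?_
      (Cfsg.Lib.Linear.SUThree.closure_cube_eq_top hF hq h5 h8 hβo) hfixpow
      (pow_ne_zero _ γ.ne_zero) (hγ1 (q + 1) (by omega) (by omega))⟩
    · rw [hσα, ← add_div, add_comm l 1, div_self hl1]
    · rw [hσα, mul_one_div]

end Cfsg.Agent.S2283
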