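import Cfsg.Statements.S2282
import Cfsg.Agent.Lib.Linear.SUThree.Translate
import Cfsg.Agent.S2283

set_option autoImplicit false
open Cfsg

namespace Cfsg.Agent.S2282

/-- Let F be a field with q² elements, n ≥ 3 odd with (n, q) ≠ (3, 2), and SU_n(q) the special unitary group of the standard Hermitian form Σ u_i v_i^q. Then SU_n(q) is generated by three conjugate regular unipotent elements: there are u ∈ SU_n(q) with u − 1 nilpotent and (u − 1)^(n−1) ≠ 0, and g, h ∈ SU_n(q), such that u, g u g⁻¹ and h u h⁻¹ generate SU_n(q). -/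
theorem result {F : Type*} [Field F] [Fintype F] (q : ℕ) (hF : Fintype.card F = q ^ 2) (n : ℕ) (hn : 3 ≤ n) (hodd : Odd n) (h32 : ¬ (n = 3 ∧ q = 2)) :
    ∃ u g h : ↥(Cfsg.SU n F q), (IsNilpotent (((u : Matrix.SpecialLinearGroup (Fin n) F) : Matrix (Fin n) (Fin n) F) - 1) ∧ (((u : Matrix.SpecialLinearGroup (Fin n) F) : Matrix (Fin n) (Fin n) F) - 1) ^ (n - 1) ≠ 0) ∧
      Subgroup.closure ({u, g * u * g⁻¹, h * u * h⁻¹} : Set ↥(Cfsg.SU n F q)) = ⊤ := by
  classical
  obtain ⟨m, rfl⟩ := hodd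
  by_cases hm1 : m = 1
  · subst hm1
    have hq1 : 1 < q := by
      by_contra h
      have := Fintype.one_lt_card (α := F)
      rcases (show q = 0 ∨ q = 1 by omega) with rfl | rfl <;> simp at hF <;> omega
    have hq : 3 ≤ q := by
      by_contra h
      exact h32 ⟨rfl, by omega⟩
    obtain ⟨u, g, hu, hgen⟩ := Cfsg.Agent.S2283.result q hq hF
    refine ⟨u, g, g, hu, ?_⟩
    rw [show ({u, g * u * g⁻¹, g * u * g⁻¹} : Set ↥(Cfsg.SU (2 * 1 + 1) F q)) = {u, g * u * g⁻¹} by
      ext; simp]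
    exact hgen
  · have hm2 : 2 ≤ m := by omega
    set σ := Cfsg.Lib.Linear.Herm.frob hF
    have hσ2 : ∀ a, σ (σ a) = a := Cfsg.Lib.Linear.Herm.frob_frob hF
    have hσ : σ ≠ RingHom.id F := Cfsg.Lib.Linear.Herm.frob_ne_id hF
    obtain ⟨x, hx⟩ : ∃ x : F, x + σ x ≠ 0 := by
      by_contra hc
      push Not at hc
      refine hσ (RingHom.ext fun a => ?_)
      have h1 := hc 1
      rw [map_one] at h1
      rw [RingHom.id_apply]
      linear_combination hc a - a * h1
    have htr : x / (x + σ x) + σ (x / (x + σ x)) = 1 := by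
      rw [map_div₀, map_add, hσ2, add_comm (σ x) x, ← add_div, div_self hx]
    obtain ⟨Q⟩ := Cfsg.Lib.Linear.SUThree.exists_model hF (show 1 ≤ m by omega) htr
    refine Cfsg.Lib.Linear.SUThree.exists_SU_three (Or.inl (by omega)) Q ?_
    rcases Nat.lt_or_ge q 3 with hq | hq
    · refine Q.threeGen_two (fun a ha => ?_) hm2
      have hq2 : q = 2 := by
        have := Fintype.one_lt_card (α := F)
        rcases (show q = 0 ∨ q = 1 ∨ q = 2 by omega) with rfl | rfl | rfl <;> simp at hF <;> omega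
      rw [Cfsg.Lib.Linear.Herm.frob_apply hF, hq2] at ha
      rcases mul_eq_zero.1 (show a * (a - 1) = 0 by linear_combination ha) with h | h
      · exact Or.inl h
      · exact Or.inr (sub_eq_zero.1 h)
    · exact Q.threeGen_big hF hq (Cfsg.Lib.Linear.Herm.frob_apply hF) hm2

end Cfsg.Agent.S2282
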