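import Cfsg.Statements.S2284
import Cfsg.Agent.Lib.PresSymAlt.Choice
import Cfsg.Agent.Lib.PresSymAlt.Transfer
import Cfsg.Agent.Lib.PresSymAlt.Small

set_option autoImplicit false
open Cfsg

namespace Cfsg.Agent.S2284

/-- For every n, the symmetric group S_n and the alternating group A_n each have a presentation with 2 generators and at most 8 relations. -/
theorem result (n : ℕ) : (∃ rels : Finset (FreeGroup (Fin 2)), rels.card ≤ 8 ∧ Nonempty (PresentedGroup (↑rels : Set (FreeGroup (Fin 2))) ≃* Equiv.Perm (Fin n))) ∧ (∃ rels : Finset (FreeGroup (Fin 2)), rels.card ≤ 8 ∧ Nonempty (PresentedGroup (↑rels : Set (FreeGroup (Fin 2))) ≃* ↥(alternatingGroup (Fin n)))) := by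
  by_cases hn : n ≤ 4
  · exact Cfsg.Lib.PresSymAlt.pres2_small hn
  · have key : ∀ {T : Type} [Group T], Cfsg.Lib.PresSymAlt.Pres3 T → ∃ rels : Finset (FreeGroup (Fin 2)),
        rels.card ≤ 8 ∧ Nonempty (PresentedGroup (↑rels : Set (FreeGroup (Fin 2))) ≃* T) := by
      intro T _ h
      obtain ⟨R, hR, ⟨φ⟩, hgen⟩ := h
      obtain ⟨R', hR', he⟩ := Cfsg.Lib.PresSymAlt.presentation_restrict R φ ![(1 : Fin 3), 2]
        (by decide) (by
          rw [← hgen]
          congr 1
          ext z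
          simp [Fin.exists_fin_two, eq_comm])
      exact ⟨R', by omega, he⟩
    exact ⟨key (Cfsg.Lib.PresSymAlt.pres3_sym (by omega)), key (Cfsg.Lib.PresSymAlt.pres3_alt (by omega))⟩

end Cfsg.Agent.S2284
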