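import Cfsg.Statements.S2412
import Cfsg.Agent.Lib.Linear.TwoGen.Herm.Main
import Cfsg.Agent.S2283


set_option autoImplicit false
open Cfsg

namespace Cfsg.Agent.S2412



/-- The projective special unitary group `PSU_n(q)` with `n ≥ 3`, realised over the field with `q²` elements, `(n, q) ≠ (3, 2)`, is generated by two of its elements. -/
theorem result {F : Type*} [Field F] [Fintype F] {q : ℕ} (hq : IsPrimePow q) (hF : Fintype.card F = q ^ 2) (n : ℕ) (hn : 3 ≤ n) (h32 : n = 3 → q ≠ 2) :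
    ∃ a b : Cfsg.PSU n F q, Subgroup.closure ({a, b} : Set (Cfsg.PSU n F q)) = ⊤ := by
  classical
  obtain ⟨a, b, hab⟩ : ∃ a b : ↥(Cfsg.SU n F q), Subgroup.closure ({a, b} : Set ↥(Cfsg.SU n F q)) = ⊤ := by
    rcases hn.eq_or_lt with rfl | h4
    · have h2 := Cfsg.Lib.Linear.Herm.two_le_q hF
      have := h32 rfl
      obtain ⟨u, g, -, hgen⟩ := Cfsg.Agent.S2283.result q (by omega) hF
      exact ⟨u, g * u * g⁻¹, hgen⟩
    · exact Cfsg.Lib.Linear.TwoGen.Unitary.two_gen_su hF h4
  refine ⟨QuotientGroup.mk' _ a, QuotientGroup.mk' _ b, ?_⟩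
  have := congrArg (Subgroup.map (QuotientGroup.mk' (Subgroup.center ↥(Cfsg.SU n F q)))) hab
  rw [MonoidHom.map_closure, Subgroup.map_top_of_surjective _ (QuotientGroup.mk'_surjective _)] at this
  simpa [Set.image_pair] using this

end Cfsg.Agent.S2412
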