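import Cfsg.Statements.S2411
import Cfsg.Agent.Lib.Linear.TwoGen.Symp
import Cfsg.Agent.Lib.Chev.TwoGenAll
import Cfsg.Agent.Lib.Chev.B2Sp


set_option autoImplicit false
open Cfsg

namespace Cfsg.Agent.S2411



/-- The projective symplectic group `PSp_{2m}(q)` with `m ≥ 2` (and `q > 2` if `m = 2`) is generated by two of its elements. -/
theorem result {F : Type*} [Field F] [Fintype F] (m : ℕ) (hm : 2 ≤ m) (hF : m = 2 → 2 < Fintype.card F) :
    ∃ a b : Cfsg.PSp m F, Subgroup.closure ({a, b} : Set (Cfsg.PSp m F)) = ⊤ := by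
  classical
  rcases hm.eq_or_lt with rfl | hlt
  · obtain ⟨e⟩ := Cfsg.Lib.Chev.B2Sp.nonempty_equiv_psp (F := F)
    obtain ⟨a, b, hab⟩ := Cfsg.Lib.Chev.TwoGen.two_all (F := F) (D := Cfsg.Lie.chevB2) (by simp) (fun _ => by
      by_contra h
      push Not at h
      have : Fintype.card F ≤ 2 := by
        calc Fintype.card F = (Finset.univ : Finset F).card := rfl
          _ ≤ ({0, 1} : Finset F).card := Finset.card_le_card fun x _ => by
              rcases eq_or_ne x 0 with hx | hx
              · simp [hx]
              · simp [h x hx]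
          _ ≤ 2 := Finset.card_le_two
      have := hF rfl
      omega)
    refine ⟨e a, e b, ?_⟩
    have := congrArg (Subgroup.map e.toMonoidHom) hab
    rw [MonoidHom.map_closure, Subgroup.map_top_of_surjective e.toMonoidHom e.surjective] at this
    simpa [Set.image_pair] using this
  · obtain ⟨n, rfl⟩ : ∃ n, m = n + 3 := ⟨m - 3, by omega⟩
    obtain ⟨a, b, hab⟩ := Cfsg.Lib.Linear.TwoGen.two_generated_sp (n := n) (F := F)
    refine ⟨QuotientGroup.mk' _ a, QuotientGroup.mk' _ b, ?_⟩
    have := congrArg (Subgroup.map (QuotientGroup.mk' (Subgroup.center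
      ↥(Matrix.symplecticGroup (Fin (n + 3)) F)))) hab
    rw [MonoidHom.map_closure, Subgroup.map_top_of_surjective _ (QuotientGroup.mk'_surjective _)] at this
    simpa [Set.image_pair] using this

end Cfsg.Agent.S2411
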