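import Cfsg.Statements.S2292
import Cfsg.Agent.Lib.Linear.ShortPres.SpN.Main
import Cfsg.Agent.S2293
import Cfsg.Agent.S2411
-- import your own Cfsg.Agent.* helpers here

set_option autoImplicit false
open Cfsg

namespace Cfsg.Agent.S2292

/-- Let F be a finite field with q elements and m ≥ 2 with (m, q) ≠ (2, 2). Then the simple group PSp_2m(F) has a presentation with 2 generators and at most 80 relations. -/
theorem result {F : Type*} [Field F] [Fintype F] (m : ℕ) (hm : 2 ≤ m) (h22 : ¬ (m = 2 ∧ Fintype.card F = 2)) :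
    ∃ rels : Finset (FreeGroup (Fin 2)), rels.card ≤ 80 ∧ Nonempty (PresentedGroup (↑rels : Set (FreeGroup (Fin 2))) ≃* Cfsg.PSp m F) := by
  classical
  obtain ⟨a, b, hab⟩ := Cfsg.Agent.S2411.result (F := F) m hm (fun h => by
    have := Fintype.one_lt_card (α := F)
    have : Fintype.card F ≠ 2 := fun e => h22 ⟨h, e⟩
    omega)
  rcases hm.eq_or_lt with rfl | h3
  · obtain ⟨R, hR, he⟩ := (Cfsg.Agent.S2293.result (F := F)).2
    have h : Cfsg.Lib.Linear.ShortPres.Bdd (Cfsg.PSp 2 F) 36 := ⟨6, R, hR, he⟩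
    obtain ⟨S, hS, e, -⟩ := h.two_generated a b hab
    exact ⟨S, hS.trans (by omega), ⟨e⟩⟩
  · exact Cfsg.Lib.Linear.ShortPres.SpN.psp_two_gen h3 hab

end Cfsg.Agent.S2292
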