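import Cfsg.Statements.S2297
import Cfsg.Agent.Lib.PresSymAlt.Choice
import Cfsg.Agent.Lib.PresSymAlt.Transfer

set_option autoImplicit false
open Cfsg

namespace Cfsg.Agent.S2297

/-- Let n ≥ 5 and let G be the symmetric group S_n or the alternating group A_n. If a and b generate G, then G has a presentation on two generators mapping to a and b with at most 9 relations: there is a set of at most 9 relators in the free group on two letters and an isomorphism from the presented group onto G sending the two letters to a and b. -/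
theorem result (n : ℕ) (hn : 5 ≤ n) :
    (∀ a b : Equiv.Perm (Fin n), Subgroup.closure ({a, b} : Set (Equiv.Perm (Fin n))) = ⊤ →
      ∃ rels : Finset (FreeGroup (Fin 2)), rels.card ≤ 9 ∧
        ∃ e : PresentedGroup (↑rels : Set (FreeGroup (Fin 2))) ≃* Equiv.Perm (Fin n),
          e (PresentedGroup.of 0) = a ∧ e (PresentedGroup.of 1) = b) ∧
    (∀ a b : ↥(alternatingGroup (Fin n)), Subgroup.closure ({a, b} : Set ↥(alternatingGroup (Fin n))) = ⊤ →
      ∃ rels : Finset (FreeGroup (Fin 2)), rels.card ≤ 9 ∧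
        ∃ e : PresentedGroup (↑rels : Set (FreeGroup (Fin 2))) ≃* ↥(alternatingGroup (Fin n)),
          e (PresentedGroup.of 0) = a ∧ e (PresentedGroup.of 1) = b) := by
  have key : ∀ {T : Type} [Group T], Cfsg.Lib.PresSymAlt.Pres3 T → ∀ a b : T,
      Subgroup.closure ({a, b} : Set T) = ⊤ → ∃ rels : Finset (FreeGroup (Fin 2)), rels.card ≤ 9 ∧
        ∃ e : PresentedGroup (↑rels : Set (FreeGroup (Fin 2))) ≃* T,
          e (PresentedGroup.of 0) = a ∧ e (PresentedGroup.of 1) = b := by
    intro T _ h a b hab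
    obtain ⟨R, hR, ⟨φ⟩, -⟩ := h
    obtain ⟨R', hR', e, he⟩ := Cfsg.Lib.PresSymAlt.presentation_transfer R φ ![a, b]
      (by simpa [Matrix.range_cons, Matrix.range_empty, Set.pair_comm] using hab)
    refine ⟨R', ?_, e, he 0, he 1⟩
    simp only [Fintype.card_fin] at hR'
    omega
  exact ⟨key (Cfsg.Lib.PresSymAlt.pres3_sym hn), key (Cfsg.Lib.PresSymAlt.pres3_alt hn)⟩

end Cfsg.Agent.S2297
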