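import Cfsg.Statements.S2298
import Cfsg.Agent.Lib.TwoDim.GL
-- import your own Cfsg.Agent.* helpers here

set_option autoImplicit false
open Cfsg

namespace Cfsg.Agent.S2298

open Cfsg.Lib.TwoDim in
theorem degree_cases {F : Type*} [Field F] [Fintype F] [DecidableEq F] {χ : GL (Fin 2) F → ℂ}
    (h : χ ∈ glSet F) :
    (χ ∈ linSet F ∧ χ 1 = ((1 : ℕ) : ℂ)) ∨ (χ ∈ stSet F ∧ χ 1 = ((Fintype.card F : ℕ) : ℂ)) ∨
      (χ ∈ psSet F ∧ χ 1 = ((Fintype.card F + 1 : ℕ) : ℂ)) ∨ (χ ∈ cuSet F ∧ χ 1 = ((Fintype.card F - 1 : ℕ) : ℂ)) := by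
  rcases mem_glSet.1 h with h | h | h | h
  · obtain ⟨l, rfl⟩ := mem_linSet.1 h; exact Or.inl ⟨h, linF_one l⟩
  · obtain ⟨l, rfl⟩ := mem_stSet.1 h; exact Or.inr (Or.inl ⟨h, stF_one l⟩)
  · obtain ⟨a, b, h', rfl⟩ := mem_psSet.1 h; exact Or.inr (Or.inr (Or.inl ⟨h, psF_one a b⟩))
  · obtain ⟨a, h', rfl⟩ := mem_cuSet.1 h; exact Or.inr (Or.inr (Or.inr ⟨h, cuF_one a⟩))

/-- Over a finite field F with q elements, every irreducible complex character of GL₂ has degree 1, q − 1, q or q + 1; and when q ≥ 3 (so that these four numbers are distinct) there are exactly q − 1 irreducible characters of degree 1, exactly q − 1 of degree q, exactly (q − 1)(q − 2)/2 of degree q + 1 and exactly q(q − 1)/2 of degree q − 1. -/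
theorem result {F : Type*} [Field F] [Fintype F] :
    (∀ χ : Matrix.GeneralLinearGroup (Fin 2) F → ℂ, Cfsg.IsIrrCharacter (Matrix.GeneralLinearGroup (Fin 2) F) χ →
      χ 1 = 1 ∨ χ 1 = (Fintype.card F : ℂ) - 1 ∨ χ 1 = (Fintype.card F : ℂ) ∨ χ 1 = (Fintype.card F : ℂ) + 1) ∧
    (3 ≤ Fintype.card F →
      Nat.card {χ : Cfsg.IrrCharacter (Matrix.GeneralLinearGroup (Fin 2) F) // (χ : Matrix.GeneralLinearGroup (Fin 2) F → ℂ) 1 = 1} = Fintype.card F - 1 ∧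
      Nat.card {χ : Cfsg.IrrCharacter (Matrix.GeneralLinearGroup (Fin 2) F) // (χ : Matrix.GeneralLinearGroup (Fin 2) F → ℂ) 1 = (Fintype.card F : ℂ)} = Fintype.card F - 1 ∧
      Nat.card {χ : Cfsg.IrrCharacter (Matrix.GeneralLinearGroup (Fin 2) F) // (χ : Matrix.GeneralLinearGroup (Fin 2) F → ℂ) 1 = (Fintype.card F : ℂ) + 1} = (Fintype.card F - 1) * (Fintype.card F - 2) / 2 ∧
      Nat.card {χ : Cfsg.IrrCharacter (Matrix.GeneralLinearGroup (Fin 2) F) // (χ : Matrix.GeneralLinearGroup (Fin 2) F → ℂ) 1 = (Fintype.card F : ℂ) - 1} = Fintype.card F * (Fintype.card F - 1) / 2) := by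
  classical
  set q := Fintype.card F with hq
  have h1 : 1 ≤ q := Fintype.card_pos
  refine ⟨fun χ hχ => ?_, fun h3 => ?_⟩
  · rcases degree_cases ((Cfsg.Lib.TwoDim.isIrr_gl_iff χ).1 hχ) with ⟨-, h⟩ | ⟨-, h⟩ | ⟨-, h⟩ | ⟨-, h⟩ <;> rw [h]
    · exact Or.inl Nat.cast_one
    · exact Or.inr (Or.inr (Or.inl rfl))
    · exact Or.inr (Or.inr (Or.inr (by push_cast; rfl)))
    · exact Or.inr (Or.inl (by rw [Nat.cast_sub h1, Nat.cast_one]))
  have key : ∀ (c : ℕ), Nat.card {χ : Cfsg.IrrCharacter (Matrix.GeneralLinearGroup (Fin 2) F) //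
      (χ : Matrix.GeneralLinearGroup (Fin 2) F → ℂ) 1 = (c : ℂ)} =
      ((Cfsg.Lib.TwoDim.glSet F).filter fun f => f 1 = (c : ℂ)).card := fun c =>
    Cfsg.Lib.TwoDim.card_irr_filter (fun f => Cfsg.Lib.TwoDim.isIrr_gl_iff f) (fun f => f 1 = (c : ℂ))
  have fil : ∀ (c : ℕ) (S : Finset (GL (Fin 2) F → ℂ)), S ⊆ Cfsg.Lib.TwoDim.glSet F →
      (∀ f ∈ S, f 1 = (c : ℂ)) → (∀ f ∈ Cfsg.Lib.TwoDim.glSet F, f 1 = (c : ℂ) → f ∈ S) →
      (Cfsg.Lib.TwoDim.glSet F).filter (fun f => f 1 = (c : ℂ)) = S := fun c S a b d => by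
    ext f; rw [Finset.mem_filter]; exact ⟨fun h => d f h.1 h.2, fun h => ⟨a h, b f h⟩⟩
  have sub : Cfsg.Lib.TwoDim.linSet F ⊆ Cfsg.Lib.TwoDim.glSet F ∧ Cfsg.Lib.TwoDim.stSet F ⊆ Cfsg.Lib.TwoDim.glSet F ∧
      Cfsg.Lib.TwoDim.psSet F ⊆ Cfsg.Lib.TwoDim.glSet F ∧ Cfsg.Lib.TwoDim.cuSet F ⊆ Cfsg.Lib.TwoDim.glSet F := by
    refine ⟨?_, ?_, ?_, ?_⟩ <;> intro f hf <;> rw [Cfsg.Lib.TwoDim.mem_glSet] <;> tauto
  refine ⟨?_, ?_, ?_, ?_⟩
  · have := key 1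
    rw [Nat.cast_one] at this
    rw [this, ← Cfsg.Lib.TwoDim.card_linSet]
    congr 1
    have := fil 1 _ sub.1 (fun f hf => by
      obtain ⟨l, rfl⟩ := Cfsg.Lib.TwoDim.mem_linSet.1 hf; exact Cfsg.Lib.TwoDim.linF_one l) (fun f hf he => by
      rcases degree_cases hf with ⟨h, h'⟩ | ⟨h, h'⟩ | ⟨h, h'⟩ | ⟨h, h'⟩ <;>
        first | exact h | (rw [he, Nat.cast_inj] at h'; omega))
    simpa using this
  · rw [key q, ← Cfsg.Lib.TwoDim.card_stSet, fil q _ sub.2.1 (fun f hf => by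
      obtain ⟨l, rfl⟩ := Cfsg.Lib.TwoDim.mem_stSet.1 hf; exact Cfsg.Lib.TwoDim.stF_one l) (fun f hf he => by
      rcases degree_cases hf with ⟨h, h'⟩ | ⟨h, h'⟩ | ⟨h, h'⟩ | ⟨h, h'⟩ <;>
        first | exact h | (rw [he, Nat.cast_inj] at h'; omega))]
  · have := key (q + 1)
    rw [Nat.cast_add, Nat.cast_one] at this
    rw [this, ← Cfsg.Lib.TwoDim.two_mul_card_psSet, Nat.mul_div_cancel_left _ (by norm_num : 0 < 2)]
    congr 1
    have := fil (q + 1) _ sub.2.2.1 (fun f hf => by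
      obtain ⟨a, b, -, rfl⟩ := Cfsg.Lib.TwoDim.mem_psSet.1 hf; exact Cfsg.Lib.TwoDim.psF_one a b) (fun f hf he => by
      rcases degree_cases hf with ⟨h, h'⟩ | ⟨h, h'⟩ | ⟨h, h'⟩ | ⟨h, h'⟩ <;>
        first | exact h | (rw [he, Nat.cast_inj] at h'; omega))
    simpa using this
  · have := key (q - 1)
    rw [Nat.cast_sub h1, Nat.cast_one] at this
    rw [this, hq, ← Cfsg.Lib.TwoDim.two_mul_card_cuSet, Nat.mul_div_cancel_left _ (by norm_num : 0 < 2)]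
    congr 1
    have := fil (q - 1) _ sub.2.2.2 (fun f hf => by
      obtain ⟨a, -, rfl⟩ := Cfsg.Lib.TwoDim.mem_cuSet.1 hf; exact Cfsg.Lib.TwoDim.cuF_one a) (fun f hf he => by
      rcases degree_cases hf with ⟨h, h'⟩ | ⟨h, h'⟩ | ⟨h, h'⟩ | ⟨h, h'⟩ <;>
        first | exact h | (rw [he, Nat.cast_inj] at h'; omega))
    rw [Nat.cast_sub h1, Nat.cast_one] at this
    exact this

end Cfsg.Agent.S2298
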