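import Cfsg.Statements.S2299
import Cfsg.Agent.Lib.TwoDim.SLValues
-- import your own Cfsg.Agent.* helpers here

set_option autoImplicit false
open Cfsg

namespace Cfsg.Agent.S2299


/-- Over a finite field F with q elements, q odd, every irreducible complex character of SL₂ has degree 1, q, q + 1, q − 1, (q + 1)/2 or (q − 1)/2; and when q ≥ 5 (so that these six numbers are distinct) there are exactly one irreducible character of degree 1, one of degree q, (q − 3)/2 of degree q + 1, (q − 1)/2 of degree q − 1, two of degree (q + 1)/2 and two of degree (q − 1)/2. -/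
theorem result {F : Type*} [Field F] [Fintype F] (hodd : Odd (Fintype.card F)) :
    (∀ χ : Matrix.SpecialLinearGroup (Fin 2) F → ℂ, Cfsg.IsIrrCharacter (Matrix.SpecialLinearGroup (Fin 2) F) χ →
      χ 1 = 1 ∨ χ 1 = (Fintype.card F : ℂ) ∨ χ 1 = (Fintype.card F : ℂ) + 1 ∨ χ 1 = (Fintype.card F : ℂ) - 1 ∨
        χ 1 = (((Fintype.card F + 1) / 2 : ℕ) : ℂ) ∨ χ 1 = (((Fintype.card F - 1) / 2 : ℕ) : ℂ)) ∧
    (5 ≤ Fintype.card F →
      Nat.card {χ : Cfsg.IrrCharacter (Matrix.SpecialLinearGroup (Fin 2) F) // (χ : Matrix.SpecialLinearGroup (Fin 2) F → ℂ) 1 = 1} = 1 ∧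
      Nat.card {χ : Cfsg.IrrCharacter (Matrix.SpecialLinearGroup (Fin 2) F) // (χ : Matrix.SpecialLinearGroup (Fin 2) F → ℂ) 1 = (Fintype.card F : ℂ)} = 1 ∧
      Nat.card {χ : Cfsg.IrrCharacter (Matrix.SpecialLinearGroup (Fin 2) F) // (χ : Matrix.SpecialLinearGroup (Fin 2) F → ℂ) 1 = (Fintype.card F : ℂ) + 1} = (Fintype.card F - 3) / 2 ∧
      Nat.card {χ : Cfsg.IrrCharacter (Matrix.SpecialLinearGroup (Fin 2) F) // (χ : Matrix.SpecialLinearGroup (Fin 2) F → ℂ) 1 = (Fintype.card F : ℂ) - 1} = (Fintype.card F - 1) / 2 ∧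
      Nat.card {χ : Cfsg.IrrCharacter (Matrix.SpecialLinearGroup (Fin 2) F) // (χ : Matrix.SpecialLinearGroup (Fin 2) F → ℂ) 1 = (((Fintype.card F + 1) / 2 : ℕ) : ℂ)} = 2 ∧
      Nat.card {χ : Cfsg.IrrCharacter (Matrix.SpecialLinearGroup (Fin 2) F) // (χ : Matrix.SpecialLinearGroup (Fin 2) F → ℂ) 1 = (((Fintype.card F - 1) / 2 : ℕ) : ℂ)} = 2) := by
  classical
  set q := Fintype.card F with hq
  have h1 : 2 ≤ q := Cfsg.Lib.TwoDim.two_le_q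
  obtain ⟨D⟩ := Cfsg.Lib.TwoDim.exists_halfData (F := F) hodd
  have hq2 : q % 2 = 1 := Nat.odd_iff.1 hodd
  have e1 : ((1 : ℕ) : ℂ) = 1 := Nat.cast_one
  have e2 : ((q + 1 : ℕ) : ℂ) = (q : ℂ) + 1 := by push_cast; rfl
  have e3 : ((q - 1 : ℕ) : ℂ) = (q : ℂ) - 1 := by rw [Nat.cast_sub (by omega), Nat.cast_one]
  refine ⟨fun χ hχ => ?_, fun h5 => ?_⟩
  · rcases Cfsg.Lib.TwoDim.odd_cases D hχ with ⟨-, h⟩ | ⟨-, h⟩ | ⟨-, h⟩ | ⟨-, h⟩ | ⟨-, h⟩ | ⟨-, h⟩ <;> rw [h]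
    · exact Or.inl e1
    · exact Or.inr (Or.inl rfl)
    · exact Or.inr (Or.inr (Or.inl e2))
    · exact Or.inr (Or.inr (Or.inr (Or.inl e3)))
    · exact Or.inr (Or.inr (Or.inr (Or.inr (Or.inl rfl))))
    · exact Or.inr (Or.inr (Or.inr (Or.inr (Or.inr rfl))))
  have key : ∀ (c : ℕ) (S : Finset (Matrix.SpecialLinearGroup (Fin 2) F → ℂ)),
      (∀ f, f ∈ S → Cfsg.IsIrrCharacter (Matrix.SpecialLinearGroup (Fin 2) F) f ∧ f 1 = (c : ℂ)) →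
      (∀ f, Cfsg.IsIrrCharacter (Matrix.SpecialLinearGroup (Fin 2) F) f → f 1 = (c : ℂ) → f ∈ S) →
      Nat.card {χ : Cfsg.IrrCharacter (Matrix.SpecialLinearGroup (Fin 2) F) //
        (χ : Matrix.SpecialLinearGroup (Fin 2) F → ℂ) 1 = (c : ℂ)} = S.card := fun c S hS hS' => by
    rw [Cfsg.Lib.TwoDim.card_irr_filter (fun f => Cfsg.Lib.TwoDim.isIrr_sl_odd D f) (fun f => f 1 = (c : ℂ))]
    congr 1
    ext f
    rw [Finset.mem_filter]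
    exact ⟨fun h => hS' f ((Cfsg.Lib.TwoDim.isIrr_sl_odd D f).2 h.1) h.2,
      fun h => ⟨(Cfsg.Lib.TwoDim.isIrr_sl_odd D f).1 (hS f h).1, (hS f h).2⟩⟩
  have k1 := key 1 {Cfsg.Lib.TwoDim.oneR F} (fun f h => by
      rw [Finset.mem_singleton] at h; subst h
      exact ⟨Cfsg.Lib.TwoDim.irr_oneR, Cfsg.Lib.TwoDim.oneR_one⟩) (fun f hf hd => by
      rw [Finset.mem_singleton]
      rcases Cfsg.Lib.TwoDim.odd_cases D hf with ⟨a, b⟩ | ⟨a, b⟩ | ⟨a, b⟩ | ⟨a, b⟩ | ⟨a, b⟩ | ⟨a, b⟩ <;>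
        first | exact a | (rw [hd, Nat.cast_inj] at b; omega))
  have k2 := key q {Cfsg.Lib.TwoDim.stR F} (fun f h => by
      rw [Finset.mem_singleton] at h; subst h
      exact ⟨Cfsg.Lib.TwoDim.irr_stR, Cfsg.Lib.TwoDim.stR_one⟩) (fun f hf hd => by
      rw [Finset.mem_singleton]
      rcases Cfsg.Lib.TwoDim.odd_cases D hf with ⟨a, b⟩ | ⟨a, b⟩ | ⟨a, b⟩ | ⟨a, b⟩ | ⟨a, b⟩ | ⟨a, b⟩ <;>
        first | exact a | (rw [hd, Nat.cast_inj] at b; omega))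
  have k3 := key (q + 1) (Cfsg.Lib.TwoDim.psSet1 F) (fun f h => by
      obtain ⟨a, ha, rfl⟩ := Cfsg.Lib.TwoDim.mem_psSet1.1 h
      exact ⟨Cfsg.Lib.TwoDim.irr_psR ha, Cfsg.Lib.TwoDim.psR_one a⟩) (fun f hf hd => by
      rcases Cfsg.Lib.TwoDim.odd_cases D hf with ⟨a, b⟩ | ⟨a, b⟩ | ⟨a, b⟩ | ⟨a, b⟩ | ⟨a, b⟩ | ⟨a, b⟩ <;>
        first | exact a | (rw [hd, Nat.cast_inj] at b; omega))
  have k4 := key (q - 1) (Cfsg.Lib.TwoDim.cuSet1 F) (fun f h => by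
      obtain ⟨a, ha, rfl⟩ := Cfsg.Lib.TwoDim.mem_cuSet1.1 h
      exact ⟨Cfsg.Lib.TwoDim.irr_cuQ ha, Cfsg.Lib.TwoDim.cuR_one _⟩) (fun f hf hd => by
      rcases Cfsg.Lib.TwoDim.odd_cases D hf with ⟨a, b⟩ | ⟨a, b⟩ | ⟨a, b⟩ | ⟨a, b⟩ | ⟨a, b⟩ | ⟨a, b⟩ <;>
        first | exact a | (rw [hd, Nat.cast_inj] at b; omega))
  have k5 := key ((q + 1) / 2) {D.p1, D.p2} (fun f h => by
      rw [Finset.mem_insert, Finset.mem_singleton] at h
      refine ⟨?_, Cfsg.Lib.TwoDim.IsHalf.degree_ps (D.p_half h) hodd⟩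
      rcases h with rfl | rfl
      exacts [D.psplit.irr, D.psplit.irr']) (fun f hf hd => by
      rw [Finset.mem_insert, Finset.mem_singleton]
      rcases Cfsg.Lib.TwoDim.odd_cases D hf with ⟨a, b⟩ | ⟨a, b⟩ | ⟨a, b⟩ | ⟨a, b⟩ | ⟨a, b⟩ | ⟨a, b⟩ <;>
        first | exact a | (rw [hd, Nat.cast_inj] at b; omega))
  have k6 := key ((q - 1) / 2) {D.c1, D.c2} (fun f h => by
      rw [Finset.mem_insert, Finset.mem_singleton] at h
      refine ⟨?_, Cfsg.Lib.TwoDim.IsHalf.degree_cu (D.c_half h) hodd⟩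
      rcases h with rfl | rfl
      exacts [D.csplit.irr, D.csplit.irr']) (fun f hf hd => by
      rw [Finset.mem_insert, Finset.mem_singleton]
      rcases Cfsg.Lib.TwoDim.odd_cases D hf with ⟨a, b⟩ | ⟨a, b⟩ | ⟨a, b⟩ | ⟨a, b⟩ | ⟨a, b⟩ | ⟨a, b⟩ <;>
        first | exact a | (rw [hd, Nat.cast_inj] at b; omega))
  have hA := Cfsg.Lib.TwoDim.two_mul_card_psSet1 (F := F)
  have hB := Cfsg.Lib.TwoDim.two_mul_card_cuSet1 (F := F)
  rw [← hq] at hA hB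
  rw [Nat.gcd_eq_right (Nat.dvd_of_mod_eq_zero (by omega : (q - 1) % 2 = 0))] at hA
  rw [Nat.gcd_eq_right (Nat.dvd_of_mod_eq_zero (by omega : (q + 1) % 2 = 0))] at hB
  rw [e1] at k1
  rw [e2] at k3
  rw [e3] at k4
  rw [k1, k2, k3, k4, k5, k6, Finset.card_singleton, Finset.card_singleton, Finset.card_pair D.psplit.ne,
    Finset.card_pair D.csplit.ne]
  exact ⟨rfl, rfl, by omega, by omega, rfl, rfl⟩

end Cfsg.Agent.S2299
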