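import Cfsg.Statements.S2301
import Cfsg.Agent.Lib.Linear.TwoClasses
import Cfsg.Agent.Lib.Linear.UnipotentClasses
import Cfsg.Agent.Lib.Linear.GLTwo

set_option autoImplicit false
open Cfsg

namespace Cfsg.Agent.S2301

open Cfsg.Agent.Lib.Linear.TwoClasses
open Cfsg.Agent.Lib.Linear
open scoped MatrixGroups

universe u

variable {F : Type u} [Field F] [Fintype F]

theorem carrier_mul_centralizer {G : Type*} [Group G] [Finite G] (g : G) :
    Nat.card (ConjClasses.mk g).carrier * Nat.card ↥(Subgroup.centralizer ({g} : Set G)) = Nat.card G := by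
  rw [← ConjAct.orbit_eq_carrier_conjClasses,
    Nat.card_congr (MulAction.orbitEquivQuotientStabilizer (ConjAct G) g),
    show Nat.card G = Nat.card (ConjAct G) from Nat.card_congr ConjAct.toConjAct.toEquiv,
    Subgroup.card_eq_card_quotient_mul_card_subgroup (MulAction.stabilizer (ConjAct G) g),
    ConjAct.stabilizer_eq_centralizer]
  rfl

theorem order_p_iff (p : ℕ) [Fact p.Prime] [CharP F p] (hp : p ≠ 2) (g : SL(2, F)) :
    orderOf g = p ↔
      (g : Matrix (Fin 2) (Fin 2) F).trace = 2 ∧ ∀ c : F, (g : Matrix (Fin 2) (Fin 2) F) ≠ c • 1 := by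
  set A := (g : Matrix (Fin 2) (Fin 2) F) with hA
  have hg1 : g ^ p = 1 ↔ (A - 1) ^ p = 0 := by
    have h := UnipotentClasses.pow_eq_one_iff (p := p) A 1
    rw [pow_one] at h
    rw [← h, hA, ← Matrix.SpecialLinearGroup.coe_pow]
    exact ⟨fun e => by rw [e]; rfl, fun e => Subtype.ext e⟩
  have hch : A * A = A.trace • A - 1 := by
    have h := g.2
    rw [← hA, Matrix.det_fin_two] at h
    ext i j
    fin_cases i <;> fin_cases j <;> simp [Matrix.mul_apply, Fin.sum_univ_two, Matrix.trace_fin_two] <;>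
      first | ring1 | linear_combination -h | linear_combination h
  rw [orderOf_eq_prime_iff, hg1]
  constructor
  · rintro ⟨h1, h2⟩
    have h3 := UnipotentClasses.pow_card_eq_zero p h1
    have h4 : A.trace • A = (2 : F) • A := by
      have : (A - 1) ^ 2 = A * A - (2 : F) • A + 1 := by rw [pow_two, two_smul]; noncomm_ring
      rw [this, hch] at h3
      calc A.trace • A = (A.trace • A - 1 - (2 : F) • A + 1) + (2 : F) • A := by abel
        _ = _ := by rw [h3, zero_add]
    refine ⟨?_, fun c hc => h2 (Subtype.ext ?_)⟩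
    · by_contra hne
      have h5 : (A.trace - 2) • A = 0 := by rw [sub_smul, h4, sub_self]
      have h6 := g.2
      rw [← hA, (smul_eq_zero.mp h5).resolve_left (sub_ne_zero.mpr hne), Matrix.det_zero] at h6
      exact zero_ne_one h6
    · show A = 1
      have h5 : (c - 1) ^ 2 = 0 := by
        have h7 : (A - 1) ^ 2 = (c - 1) ^ 2 • (1 : Matrix (Fin 2) (Fin 2) F) := by
          rw [hc, show c • (1 : Matrix (Fin 2) (Fin 2) F) - 1 = (c - 1) • 1 by rw [sub_smul, one_smul],
            smul_pow, one_pow]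
        rw [h7] at h3
        simpa using congrFun₂ h3 0 0
      rw [hc, sub_eq_zero.mp (pow_eq_zero_iff (two_ne_zero) |>.mp h5), one_smul]
  · rintro ⟨h1, h2⟩
    refine ⟨pow_eq_zero_of_le (show 2 ≤ p from (Fact.out : p.Prime).two_le) ?_, fun h => h2 1 ?_⟩
    · rw [pow_two, sub_mul, mul_sub, mul_sub, hch, h1]
      simp only [mul_one, one_mul, two_smul]
      abel
    · rw [hA, h, one_smul]
      rfl

theorem card_centralizer (h2 : ringChar F ≠ 2) (g : SL(2, F))
    (ht : (g : Matrix (Fin 2) (Fin 2) F).trace = 2)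
    (hg : ∀ c : F, (g : Matrix (Fin 2) (Fin 2) F) ≠ c • 1) :
    Nat.card ↥(Subgroup.centralizer ({g} : Set SL(2, F))) = 2 * Fintype.card F := by
  classical
  obtain ⟨A, hA⟩ : ∃ A, A = (g : Matrix (Fin 2) (Fin 2) F) := ⟨_, rfl⟩
  obtain ⟨v, hv⟩ := exists_cyc A (hA ▸ hg)
  have hcyc : A * cyc A v = cyc A v * TwoClasses.cmp (2 : F) 1 := by
    rw [mul_cyc, hA, ht, g.2]
  have hu : IsUnit (cyc A v).det := Ne.isUnit hv
  have hdet : ∀ x y : F, (x • 1 + y • A : Matrix (Fin 2) (Fin 2) F).det = (x + y) ^ 2 := by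
    intro x y
    have h : (x • 1 + y • A) * cyc A v = cyc A v * (x • 1 + y • TwoClasses.cmp (2 : F) 1) := by
      rw [add_mul, mul_add, smul_mul_assoc, smul_mul_assoc, one_mul, hcyc, mul_smul_comm, mul_smul_comm, mul_one]
    have h' := congrArg Matrix.det h
    rw [Matrix.det_mul, Matrix.det_mul, det_comm_cmp, mul_comm] at h'
    rw [mul_left_cancel₀ hv h']
    ring
  have hmem : ∀ x : SL(2, F), x ∈ Subgroup.centralizer ({g} : Set SL(2, F)) ↔
      ∃ a b : F, (x : Matrix (Fin 2) (Fin 2) F) = a • 1 + b • A := by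
    intro x
    rw [Subgroup.mem_centralizer_singleton_iff]
    constructor
    · intro h
      have h' : (x : Matrix (Fin 2) (Fin 2) F) * A = A * (x : Matrix (Fin 2) (Fin 2) F) := by
        rw [hA]
        exact congrArg Subtype.val h
      obtain ⟨W, hW⟩ : ∃ W, (x : Matrix (Fin 2) (Fin 2) F) * cyc A v = cyc A v * W :=
        ⟨(cyc A v)⁻¹ * ((x : Matrix (Fin 2) (Fin 2) F) * cyc A v), (Matrix.mul_nonsing_inv_cancel_left _ _ hu).symm⟩
      have hc : W * TwoClasses.cmp (2 : F) 1 = TwoClasses.cmp (2 : F) 1 * W := by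
        have e : cyc A v * (W * TwoClasses.cmp (2 : F) 1) = cyc A v * (TwoClasses.cmp (2 : F) 1 * W) := by
          rw [← mul_assoc, ← hW, mul_assoc, ← hcyc, ← mul_assoc, h', mul_assoc, hW, ← mul_assoc, hcyc, mul_assoc]
        simpa [Matrix.nonsing_inv_mul_cancel_left _ _ hu] using congrArg ((cyc A v)⁻¹ * ·) e
      have hW' : W = W 0 0 • 1 + W 1 0 • TwoClasses.cmp (2 : F) 1 := by
        have e1 := congrFun₂ hc 0 0
        have e2 := congrFun₂ hc 1 0
        simp [TwoClasses.cmp, Matrix.mul_apply, Fin.sum_univ_two] at e1 e2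
        ext i j
        fin_cases i <;> fin_cases j <;> simp [TwoClasses.cmp]
        · linear_combination e1
        · linear_combination e2
      refine ⟨W 0 0, W 1 0, ?_⟩
      rw [← Matrix.mul_nonsing_inv_cancel_right _ (x : Matrix (Fin 2) (Fin 2) F) hu, hW]
      conv_lhs => rw [hW']
      rw [mul_add, mul_smul_comm, mul_smul_comm, mul_one, ← hcyc, add_mul, smul_mul_assoc, smul_mul_assoc,
        Matrix.mul_nonsing_inv _ hu, Matrix.mul_nonsing_inv_cancel_right _ _ hu]
    · rintro ⟨a, b, h⟩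
      apply Subtype.ext
      show (x : Matrix (Fin 2) (Fin 2) F) * (g : Matrix (Fin 2) (Fin 2) F) = (g : Matrix (Fin 2) (Fin 2) F) * (x : Matrix (Fin 2) (Fin 2) F)
      rw [h, ← hA]
      simp [add_mul, mul_add]
  have hone : ∀ z : {e : F // e ^ 2 = 1} × F, ((z.1.1 - z.2) • 1 + z.2 • A : Matrix (Fin 2) (Fin 2) F).det = 1 :=
    fun z => by rw [hdet, sub_add_cancel]; exact z.1.2
  have hbij : Function.Bijective (fun z : {e : F // e ^ 2 = 1} × F =>
      (⟨⟨_, hone z⟩, (hmem _).mpr ⟨_, _, rfl⟩⟩ : ↥(Subgroup.centralizer ({g} : Set SL(2, F))))) := by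
    constructor
    · intro z w h
      have h' : (z.1.1 - z.2) • (1 : Matrix (Fin 2) (Fin 2) F) + z.2 • A = (w.1.1 - w.2) • 1 + w.2 • A :=
        congrArg (fun x : ↥(Subgroup.centralizer ({g} : Set SL(2, F))) => (x.1 : Matrix (Fin 2) (Fin 2) F)) h
      have hy : z.2 = w.2 := by
        by_contra hne
        refine hg (((w.1.1 - w.2) - (z.1.1 - z.2)) / (z.2 - w.2)) ?_
        rw [← hA]
        have h1 : (z.2 - w.2) • A = ((w.1.1 - w.2) - (z.1.1 - z.2)) • (1 : Matrix (Fin 2) (Fin 2) F) := by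
          ext i j
          have := congrFun₂ h' i j
          simp only [Matrix.add_apply, Matrix.smul_apply, smul_eq_mul] at this ⊢
          linear_combination this
        rw [div_eq_inv_mul, mul_smul, ← h1, inv_smul_smul₀ (sub_ne_zero.mpr hne)]
      rw [hy, add_left_inj] at h'
      exact Prod.ext (Subtype.ext (sub_left_inj.mp (scalar_unique h'))) hy
    · rintro ⟨x, hx⟩
      obtain ⟨a, b, hab⟩ := (hmem x).mp hx
      have he : (a + b) ^ 2 = 1 := by rw [← hdet, ← hab]; exact x.2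
      refine ⟨(⟨a + b, he⟩, b), Subtype.ext (Subtype.ext ?_)⟩
      show (a + b - b) • (1 : Matrix (Fin 2) (Fin 2) F) + b • A = _
      rw [add_sub_cancel_right, hab]
  rw [← Nat.card_eq_of_bijective _ hbij, Nat.card_prod, Nat.card_eq_fintype_card (α := F)]
  congr 1
  have : {c : F | c ^ 2 = 1} = {1, -1} := by
    ext c
    simp
  show Nat.card ↥{c : F | c ^ 2 = 1} = 2
  rw [this, Nat.card_coe_set_eq, Set.ncard_pair]
  intro h
  exact Ring.two_ne_zero h2 (by linear_combination h)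

theorem isConj_upper_R (g : SL(2, F)) (h00 : (g : Matrix (Fin 2) (Fin 2) F) 0 0 = 1)
    (h11 : (g : Matrix (Fin 2) (Fin 2) F) 1 1 = 1) (h10 : (g : Matrix (Fin 2) (Fin 2) F) 1 0 = 0)
    (h01 : (g : Matrix (Fin 2) (Fin 2) F) 0 1 ≠ 0) :
    IsConj g (R 2 (Units.mk0 (-((g : Matrix (Fin 2) (Fin 2) F) 0 1)) (neg_ne_zero.mpr h01))) := by
  refine isConj_R g !![0, (g : Matrix (Fin 2) (Fin 2) F) 0 1; 1, 1] 2 _ ?_ ?_
  · ext i j
    fin_cases i <;> fin_cases j <;> simp [TwoClasses.cmp, Matrix.mul_apply, Fin.sum_univ_two, h00, h11, h10] <;> ring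
  · simp [Matrix.det_fin_two]

/-- Over a finite field with q elements of odd characteristic p, the elements of order p of SL₂ (the non-identity unipotent elements) fall into exactly two conjugacy classes, each of size (q² − 1)/2; two upper unitriangular matrices with non-zero off-diagonal entries b and b′ are conjugate exactly when bb′ is a square. -/
theorem result {F : Type*} [Field F] [Fintype F] (p : ℕ) [Fact p.Prime] [CharP F p] (hp : p ≠ 2) :
    Nat.card {C : ConjClasses (Matrix.SpecialLinearGroup (Fin 2) F) // ∃ g : Matrix.SpecialLinearGroup (Fin 2) F, orderOf g = p ∧ ConjClasses.mk g = C} = 2 ∧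
    (∀ g : Matrix.SpecialLinearGroup (Fin 2) F, orderOf g = p → Nat.card (ConjClasses.mk g).carrier = (Fintype.card F ^ 2 - 1) / 2) ∧
    ∀ g h : Matrix.SpecialLinearGroup (Fin 2) F, (g : Matrix (Fin 2) (Fin 2) F) 0 0 = 1 → (g : Matrix (Fin 2) (Fin 2) F) 1 1 = 1 → (g : Matrix (Fin 2) (Fin 2) F) 1 0 = 0 → (g : Matrix (Fin 2) (Fin 2) F) 0 1 ≠ 0 →
      (h : Matrix (Fin 2) (Fin 2) F) 0 0 = 1 → (h : Matrix (Fin 2) (Fin 2) F) 1 1 = 1 → (h : Matrix (Fin 2) (Fin 2) F) 1 0 = 0 → (h : Matrix (Fin 2) (Fin 2) F) 0 1 ≠ 0 →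
      (IsConj g h ↔ IsSquare ((g : Matrix (Fin 2) (Fin 2) F) 0 1 * (h : Matrix (Fin 2) (Fin 2) F) 0 1)) := by
  classical
  have h2 : ringChar F ≠ 2 := by rw [ringChar.eq F p]; exact hp
  have h20 : (2 : F) ≠ 0 := Ring.two_ne_zero h2
  obtain ⟨a, ha⟩ := FiniteField.exists_nonsquare h2
  obtain ⟨ν, rfl⟩ : ∃ ν : Fˣ, (ν : F) = a := ⟨Units.mk0 a (fun h => ha (h ▸ IsSquare.zero)), rfl⟩
  have hR : ∀ δ : Fˣ, orderOf (R (2 : F) δ) = p := fun δ =>
    (order_p_iff p hp _).mpr ⟨trace_R _ _, R_ne_smul _ _⟩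
  refine ⟨?_, ?_, ?_⟩
  · have : {C : ConjClasses SL(2, F) | ∃ g : SL(2, F), orderOf g = p ∧ ConjClasses.mk g = C} =
        {ConjClasses.mk (R (2 : F) ν), ConjClasses.mk (R (2 : F) 1)} := by
      ext C
      constructor
      · rintro ⟨g, hg, rfl⟩
        obtain ⟨ht, hns⟩ := (order_p_iff p hp g).mp hg
        rcases exists_normal_form h2 ν ha g hns with h | ⟨-, h⟩ <;> rw [ht] at h
        · exact Or.inr (ConjClasses.mk_eq_mk_iff_isConj.mpr h)
        · exact Or.inl (ConjClasses.mk_eq_mk_iff_isConj.mpr h)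
      · rintro (rfl | rfl) <;> exact ⟨_, hR _, rfl⟩
    show Nat.card ↥{C : ConjClasses SL(2, F) | ∃ g : SL(2, F), orderOf g = p ∧ ConjClasses.mk g = C} = 2
    rw [this, Nat.card_coe_set_eq, Set.ncard_pair]
    exact fun h => not_isConj_R h2 ν ha 2 (by norm_num) (ConjClasses.mk_eq_mk_iff_isConj.mp h)
  · intro g hg
    obtain ⟨ht, hns⟩ := (order_p_iff p hp g).mp hg
    have h := carrier_mul_centralizer g
    rw [card_centralizer h2 g ht hns, Cfsg.Lib.Linear.Two.card_SL_two] at h
    have hq : 0 < Fintype.card F := Fintype.card_pos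
    have h' : Fintype.card F * (Nat.card (ConjClasses.mk g).carrier * 2) =
        Fintype.card F * (Fintype.card F ^ 2 - 1) := by rw [← h]; ring
    have := Nat.eq_of_mul_eq_mul_left hq h'
    omega
  · intro g h g00 g11 g10 g01 h00 h11 h10 h01
    have hg := isConj_upper_R g g00 g11 g10 g01
    have hh := isConj_upper_R h h00 h11 h10 h01
    constructor
    · intro hc
      obtain ⟨-, x, y, hxy⟩ := of_isConj_R ((hg.symm.trans hc).trans hh)
      refine ⟨(h : Matrix (Fin 2) (Fin 2) F) 0 1 * (x + y), ?_⟩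
      simp only [Units.val_mk0] at hxy
      linear_combination -((h : Matrix (Fin 2) (Fin 2) F) 0 1) * hxy
    · rintro ⟨s, hs⟩
      have hs0 : s ≠ 0 := fun h0 => mul_ne_zero g01 h01 (by rw [hs, h0, mul_zero])
      refine hg.trans (IsConj.trans ?_ hh.symm)
      refine isConj_R _ (!![-((g : Matrix (Fin 2) (Fin 2) F) 0 1), 0; 0, 1] *
        (((h : Matrix (Fin 2) (Fin 2) F) 0 1 / s) • 1)) 2 _ ?_ ?_
      · rw [mul_smul_comm, mul_one, mul_smul_comm, smul_mul_assoc]
        congr 1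
        exact R_mul (2 : F) (Units.mk0 _ (neg_ne_zero.mpr g01))
      · rw [Matrix.det_mul, Matrix.det_smul, Matrix.det_one, Fintype.card_fin]
        simp [Matrix.det_fin_two]
        field_simp
        linear_combination hs

end Cfsg.Agent.S2301
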