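import Cfsg.Statements.S2302
import Cfsg.Agent.Lib.Concrete.SL2Unipotent

set_option autoImplicit false
open Cfsg Cfsg.Lib.Concrete

namespace Cfsg.Agent.S2302

/-- Over a finite field with q elements of characteristic 2, the involutions of SL₂ (the non-identity unipotent elements) form a single conjugacy class, of size q² − 1. -/
theorem result {F : Type*} [Field F] [Fintype F] [CharP F 2] (g h : Matrix.SpecialLinearGroup (Fin 2) F) (hg : orderOf g = 2) (hh : orderOf h = 2) :
    IsConj g h ∧ Nat.card (ConjClasses.mk g).carrier = Fintype.card F ^ 2 - 1 := by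
  classical
  have hchar : ringChar F = 2 := ringChar.eq F 2
  have h2 : (2 : F) = 0 := CharTwo.two_eq_zero
  let u : Matrix.SpecialLinearGroup (Fin 2) F := ⟨!![(1 : F), 1; 0, 1], by simp [Matrix.det_fin_two_of]⟩
  have key : ∀ x : Matrix.SpecialLinearGroup (Fin 2) F, orderOf x = 2 → ∃ c, x = c * u * c⁻¹ := by
    intro x hx
    have hp : (x : Matrix (Fin 2) (Fin 2) F) ^ 2 = 1 := by
      rw [← Matrix.SpecialLinearGroup.coe_pow, orderOf_dvd_iff_pow_eq_one.1 hx.dvd, Matrix.SpecialLinearGroup.coe_one]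
    obtain ⟨P, hP, hPx⟩ := exists_conj_std (sub_one_sq_eq_zero_of_pow 2 hp) fun h1 => by
      have : x = 1 := Subtype.ext h1
      rw [this, orderOf_one] at hx
      omega
    obtain ⟨s, hs⟩ := FiniteField.isSquare_of_char_two hchar P.det⁻¹
    let c : Matrix.SpecialLinearGroup (Fin 2) F := ⟨s • P, by
      rw [Matrix.det_smul, Fintype.card_fin, sq, ← hs, inv_mul_cancel₀ hP]⟩
    refine ⟨c, ?_⟩
    have : x * c = c * u := Subtype.ext (by
      show (x : Matrix (Fin 2) (Fin 2) F) * (s • P) = (s • P) * !![(1 : F), 1; 0, 1]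
      rw [Matrix.mul_smul, hPx, Matrix.smul_mul])
    rw [← this, mul_inv_cancel_right]
  obtain ⟨c, hc⟩ := key g hg
  obtain ⟨d, hd⟩ := key h hh
  refine ⟨isConj_iff.2 ⟨d * c⁻¹, by rw [hc, hd]; group⟩, ?_⟩
  have hmk : ConjClasses.mk g = ConjClasses.mk u :=
    ConjClasses.mk_eq_mk_iff_isConj.2 (isConj_iff.2 ⟨c⁻¹, by rw [hc]; group⟩)
  have hcent : Nat.card (Subgroup.centralizer ({u} : Set (Matrix.SpecialLinearGroup (Fin 2) F))) = Fintype.card F := by
    rw [← Nat.card_eq_fintype_card]
    refine Nat.card_congr ⟨fun x => (x.1 : Matrix (Fin 2) (Fin 2) F) 0 1,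
      fun b => ⟨⟨!![(1 : F), b; 0, 1], by simp [Matrix.det_fin_two_of]⟩, ?_⟩, ?_, ?_⟩
    · refine Subgroup.mem_centralizer_iff.2 fun y hy => ?_
      rw [Set.mem_singleton_iff] at hy
      subst hy
      refine Subtype.ext ?_
      show !![(1 : F), 1; 0, 1] * !![(1 : F), b; 0, 1] = !![(1 : F), b; 0, 1] * !![(1 : F), 1; 0, 1]
      simp [Matrix.mul_fin_two, add_comm]
    · rintro ⟨x, hx⟩
      rw [Subgroup.mem_centralizer_singleton_iff] at hx
      have hx' : (x : Matrix (Fin 2) (Fin 2) F) * !![(1 : F), 1; 0, 1] = !![(1 : F), 1; 0, 1] * (x : Matrix (Fin 2) (Fin 2) F) := congrArg Subtype.val hx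
      have h00 := congrFun (congrFun hx' 0) 0
      have h01 := congrFun (congrFun hx' 0) 1
      simp [Matrix.mul_apply, Fin.sum_univ_two] at h00 h01
      have hdet := x.2
      rw [Matrix.det_fin_two, h00] at hdet
      have ha : (x : Matrix (Fin 2) (Fin 2) F) 0 0 = (x : Matrix (Fin 2) (Fin 2) F) 1 1 := by linear_combination h01
      rw [← ha, mul_zero, sub_zero] at hdet
      have h1 : (x : Matrix (Fin 2) (Fin 2) F) 0 0 = 1 := by
        have h3 : ((x : Matrix (Fin 2) (Fin 2) F) 0 0 + 1) ^ 2 = 0 := by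
          linear_combination hdet + ((x : Matrix (Fin 2) (Fin 2) F) 0 0 + 1) * h2
        exact CharTwo.add_eq_zero.1 (eq_zero_of_pow_eq_zero h3)
      refine Subtype.ext (Subtype.ext ?_)
      ext i j
      fin_cases i <;> fin_cases j <;> simp [h00, ← ha, h1]
    · intro b; simp
  have := card_conjClass_mul u
  rw [hcent] at this
  rw [hmk]
  have hcard := Lib.Linear.card_SL_mul (F := F) 2 (by norm_num)
  rw [← this, Fin.prod_univ_two] at hcard
  simp only [Fin.val_zero, Fin.val_one, pow_zero, pow_one] at hcard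
  have hq : 2 ≤ Fintype.card F := Fintype.one_lt_card
  have e : Fintype.card F ^ 2 - Fintype.card F = (Fintype.card F - 1) * Fintype.card F := by
    rw [Nat.sub_mul, one_mul, sq]
  rw [e] at hcard
  have hpos : 0 < (Fintype.card F - 1) * Fintype.card F := Nat.mul_pos (by omega) (by omega)
  refine Nat.eq_of_mul_eq_mul_right hpos ?_
  linear_combination hcard

end Cfsg.Agent.S2302
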