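import Cfsg.Statements.S2306
import Cfsg.Agent.Lib.TwoDim.SLFamilies
-- import your own Cfsg.Agent.* helpers here

set_option autoImplicit false
open Cfsg

namespace Cfsg.Agent.S2306


/-- Over a finite field F, for a multiplicative character α of F, the function induced to SL₂ from the linear character b ↦ α(b₁₁) of the upper triangular subgroup is an irreducible character if and only if α² ≠ 1. -/
theorem result {F : Type*} [Field F] [Fintype F] [DecidableEq F] (α : MulChar F ℂ) :
    Cfsg.IsIrrCharacter (Matrix.SpecialLinearGroup (Fin 2) F) (Cfsg.indFun ((Cfsg.upperTriangularGL 2 F).comap Matrix.SpecialLinearGroup.toGL) (fun b => α (((b : Matrix.SpecialLinearGroup (Fin 2) F) : Matrix (Fin 2) (Fin 2) F) 0 0))) ↔ α ^ 2 ≠ 1 := by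
  classical
  rw [Cfsg.Lib.TwoDim.indFun_psR, Cfsg.Lib.Char.isIrrCharacter_iff_norm, Cfsg.Lib.TwoDim.inner_psR_psR, if_pos rfl,
    ne_eq, sq, mul_eq_one_iff_eq_inv]
  constructor
  · rintro ⟨-, h⟩ e
    rw [if_pos e] at h
    norm_num at h
  · intro h
    exact ⟨Cfsg.Lib.TwoDim.isCharacter_psR α, by rw [if_neg h, add_zero]⟩

end Cfsg.Agent.S2306
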