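import Cfsg.Statements.S2307
import Cfsg.Agent.Lib.TwoDim.SLClass
-- import your own Cfsg.Agent.* helpers here

set_option autoImplicit false
open Cfsg

namespace Cfsg.Agent.S2307


/-- Over a finite field F with q elements, q odd, let α be the multiplicative character of F of order 2. The character of SL₂ induced from the linear character b ↦ α(b₁₁) of the upper triangular subgroup is the sum of two distinct irreducible characters, each of degree (q + 1)/2, which are conjugate under GL₂: some fixed element of GL₂ conjugates the one into the other. -/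
theorem result {F : Type*} [Field F] [Fintype F] [DecidableEq F] (hodd : Odd (Fintype.card F)) (α : MulChar F ℂ)
    (hα : α ^ 2 = 1) (hα1 : α ≠ 1) :
    ∃ χ₁ χ₂ : Matrix.SpecialLinearGroup (Fin 2) F → ℂ, Cfsg.IsIrrCharacter (Matrix.SpecialLinearGroup (Fin 2) F) χ₁ ∧ Cfsg.IsIrrCharacter (Matrix.SpecialLinearGroup (Fin 2) F) χ₂ ∧ χ₁ ≠ χ₂ ∧
      Cfsg.indFun ((Cfsg.upperTriangularGL 2 F).comap Matrix.SpecialLinearGroup.toGL) (fun b => α (((b : Matrix.SpecialLinearGroup (Fin 2) F) : Matrix (Fin 2) (Fin 2) F) 0 0)) = χ₁ + χ₂ ∧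
      χ₁ 1 = (((Fintype.card F + 1) / 2 : ℕ) : ℂ) ∧ χ₂ 1 = (((Fintype.card F + 1) / 2 : ℕ) : ℂ) ∧
      ∃ x : Matrix.GeneralLinearGroup (Fin 2) F, ∀ g h : Matrix.SpecialLinearGroup (Fin 2) F,
        Matrix.SpecialLinearGroup.toGL h = x * Matrix.SpecialLinearGroup.toGL g * x⁻¹ → χ₂ h = χ₁ g := by
  classical
  obtain ⟨ν, hν⟩ := FiniteField.exists_nonsquare (Cfsg.Lib.TwoDim.ringChar_ne_two hodd)
  have hν0 : ν ≠ 0 := fun e => hν (e ▸ IsSquare.zero)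
  have hinv : α⁻¹ = α := inv_eq_of_mul_eq_one_right (by rw [← sq]; exact hα)
  obtain ⟨p1, p2, h⟩ := Cfsg.Lib.TwoDim.exists_split (Cfsg.Lib.TwoDim.isCharacter_psR α)
    (by rw [Cfsg.Lib.TwoDim.inner_psR_psR, hinv, if_pos rfl]; norm_num)
    (fun x g => Cfsg.Lib.TwoDim.sF_cj _ _ x g) (Units.mk0 ν hν0) hν (Cfsg.Lib.TwoDim.sl_horth_ps hα1 hα)
  rw [Cfsg.Lib.TwoDim.indFun_psR]
  refine ⟨p1, p2, h.irr, h.irr', h.ne, h.eq, Cfsg.Lib.TwoDim.IsHalf.degree_ps ⟨_, _, hν, h⟩ hodd,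
    Cfsg.Lib.TwoDim.IsHalf.degree_ps ⟨_, _, hν, h.symm⟩ hodd, Cfsg.Lib.TwoDim.x0 (Units.mk0 ν hν0), fun g k hgk => ?_⟩
  rw [← Cfsg.Lib.TwoDim.toGL_cj] at hgk
  have : k = Cfsg.Lib.TwoDim.cj (Cfsg.Lib.TwoDim.x0 (Units.mk0 ν hν0)) g :=
    Subtype.ext (congrArg Units.val hgk)
  rw [this, h.swap']

end Cfsg.Agent.S2307
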