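import Cfsg.Statements.S2308
import Cfsg.Agent.Lib.Concrete.GL2Basic

set_option autoImplicit false
open Cfsg Cfsg.Lib.Concrete

namespace Cfsg.Agent.S2308

/-- Values of the permutation character of GL₂ over a finite field F with q elements on the cosets of its upper triangular subgroup (equivalently, the number of lines of F² that an element maps to themselves): q + 1 at a scalar matrix, 2 at a diagonal matrix with two different diagonal entries, 0 at an element with no eigenvector in F², and 1 at an upper triangular matrix with equal diagonal entries and non-zero upper right entry. -/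
theorem result {F : Type*} [Field F] [Fintype F] (g : Matrix.GeneralLinearGroup (Fin 2) F) :
    ((∃ a : F, (g : Matrix (Fin 2) (Fin 2) F) = a • (1 : Matrix (Fin 2) (Fin 2) F)) → Cfsg.fixedPointCharacter (Cfsg.upperTriangularGL 2 F) g = Fintype.card F + 1) ∧
    ((g : Matrix (Fin 2) (Fin 2) F) 0 1 = 0 → (g : Matrix (Fin 2) (Fin 2) F) 1 0 = 0 → (g : Matrix (Fin 2) (Fin 2) F) 0 0 ≠ (g : Matrix (Fin 2) (Fin 2) F) 1 1 →
      Cfsg.fixedPointCharacter (Cfsg.upperTriangularGL 2 F) g = 2) ∧
    ((∀ (c : F) (v : Fin 2 → F), v ≠ 0 → (g : Matrix (Fin 2) (Fin 2) F).mulVec v ≠ c • v) → Cfsg.fixedPointCharacter (Cfsg.upperTriangularGL 2 F) g = 0) ∧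
    ((g : Matrix (Fin 2) (Fin 2) F) 1 0 = 0 → (g : Matrix (Fin 2) (Fin 2) F) 0 0 = (g : Matrix (Fin 2) (Fin 2) F) 1 1 → (g : Matrix (Fin 2) (Fin 2) F) 0 1 ≠ 0 →
      Cfsg.fixedPointCharacter (Cfsg.upperTriangularGL 2 F) g = 1) := by
  classical
  refine ⟨?_, ?_, ?_, ?_⟩
  · rintro ⟨a, ha⟩
    rw [Cfsg.fixedPointCharacter, card_fixedBy_borel, Nat.card_congr (Equiv.subtypeUnivEquiv ?_),
      Nat.card_eq_fintype_card, Fintype.card_option]
    · push_cast; rfl
    · intro o
      cases o <;> simp [ha] <;> ring
  · intro h01 h10 hne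
    rw [Cfsg.fixedPointCharacter, card_fixedBy_borel, Nat.card_congr (Equiv.subtypeEquivRight (q := fun o : Option F => o = none ∨ o = some 0) ?_)]
    · rw [Nat.card_eq_fintype_card, Fintype.card_subtype]
      rw [show (Finset.univ.filter fun o : Option F => o = none ∨ o = some 0) = {none, some 0} by ext; simp,
        Finset.card_pair (by simp)]
      norm_num
    · intro o
      cases o with
      | none => simp [h01]
      | some a =>
        have hd : (g : Matrix (Fin 2) (Fin 2) F) 1 1 - (g : Matrix (Fin 2) (Fin 2) F) 0 0 ≠ 0 := sub_ne_zero.2 (Ne.symm hne)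
        simp only [h01, h10, zero_mul, add_zero, zero_add, reduceCtorEq, false_or, Option.some.injEq]
        constructor
        · intro h
          exact (mul_eq_zero.1 (show a * ((g : Matrix (Fin 2) (Fin 2) F) 1 1 - (g : Matrix (Fin 2) (Fin 2) F) 0 0) = 0 by linear_combination h)).resolve_right hd
        · rintro rfl; ring
  · intro hno
    rw [Cfsg.fixedPointCharacter, card_fixedBy_borel]
    rw [Nat.card_eq_zero.2 (Or.inl ⟨fun o => ?_⟩)]
    · simp
    · obtain ⟨o, ho⟩ := o
      cases o with
      | none => exact eigen_of_none hno ho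
      | some a => exact eigen_of_col hno a ho
  · intro h10 heq h01
    rw [Cfsg.fixedPointCharacter, card_fixedBy_borel, Nat.card_congr (Equiv.subtypeEquivRight (q := fun o : Option F => o = some 0) ?_),
      Nat.card_unique, Nat.cast_one]
    intro o
    cases o with
    | none => simp [h01]
    | some a =>
      simp only [h10, Option.some.injEq]
      constructor
      · intro h
        have : (g : Matrix (Fin 2) (Fin 2) F) 0 1 * (a * a) = 0 := by rw [heq] at h; linear_combination -h
        exact mul_self_eq_zero.1 ((mul_eq_zero.1 this).resolve_left h01)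
      · rintro rfl; ring

end Cfsg.Agent.S2308
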