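import Cfsg.Statements.S2309
import Cfsg.Agent.Lib.TwoDim.Recognise
-- import your own Cfsg.Agent.* helpers here

set_option autoImplicit false
open Cfsg

namespace Cfsg.Agent.S2309


/-- Over a finite field F with q elements: every irreducible complex character of GL₂ of degree q − 1 vanishes at every diagonal matrix with two distinct entries, and every irreducible complex character of degree q + 1 vanishes at every element with no eigenvector in F². -/
theorem result {F : Type*} [Field F] [Fintype F] (χ : Matrix.GeneralLinearGroup (Fin 2) F → ℂ) (hχ : Cfsg.IsIrrCharacter (Matrix.GeneralLinearGroup (Fin 2) F) χ) (g : Matrix.GeneralLinearGroup (Fin 2) F) :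
    (χ 1 = (Fintype.card F : ℂ) - 1 → (g : Matrix (Fin 2) (Fin 2) F) 0 1 = 0 → (g : Matrix (Fin 2) (Fin 2) F) 1 0 = 0 → (g : Matrix (Fin 2) (Fin 2) F) 0 0 ≠ (g : Matrix (Fin 2) (Fin 2) F) 1 1 → χ g = 0) ∧
    (χ 1 = (Fintype.card F : ℂ) + 1 → (∀ (c : F) (v : Fin 2 → F), v ≠ 0 → (g : Matrix (Fin 2) (Fin 2) F).mulVec v ≠ c • v) → χ g = 0) := by
  classical

  refine ⟨fun hdeg h01 h10 hne => ?_, fun hdeg hell => ?_⟩
  · obtain ⟨ht, hd⟩ := Cfsg.Lib.TwoDim.trace_det_diag h01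
    have h0 : (g : Matrix (Fin 2) (Fin 2) F) 0 0 ≠ 0 ∧ (g : Matrix (Fin 2) (Fin 2) F) 1 1 ≠ 0 :=
      mul_ne_zero_iff.1 (hd ▸ g.det_ne_zero)
    have hq3 : 3 ≤ Fintype.card F := by
      have hs : ({0, (g : Matrix (Fin 2) (Fin 2) F) 0 0, (g : Matrix (Fin 2) (Fin 2) F) 1 1} : Finset F).card = 3 :=
        Finset.card_eq_three.2 ⟨_, _, _, h0.1.symm, h0.2.symm, hne, rfl⟩
      exact hs ▸ Finset.card_le_univ _
    rcases Cfsg.Lib.TwoDim.gl_cases hχ with ⟨l, rfl⟩ | ⟨l, rfl⟩ | ⟨a, b, h, rfl⟩ | ⟨θ, h, rfl⟩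
    · rw [Cfsg.Lib.TwoDim.linF_one] at hdeg
      exfalso
      have : ((2 : ℕ) : ℂ) = (Fintype.card F : ℂ) := by push_cast at hdeg ⊢; linear_combination hdeg
      have := Nat.cast_injective this
      omega
    · rw [Cfsg.Lib.TwoDim.stF_one] at hdeg
      exact absurd (show (1 : ℂ) = 0 by first | linear_combination hdeg | linear_combination -hdeg) one_ne_zero
    · rw [Cfsg.Lib.TwoDim.psF_one] at hdeg
      push_cast at hdeg
      exfalso
      have : (2 : ℂ) = 0 := by linear_combination hdeg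
      norm_num at this
    · rw [Cfsg.Lib.TwoDim.cuF, Cfsg.Lib.TwoDim.gF_apply,
        Cfsg.Lib.TwoDim.ofData_of_not (Cfsg.Lib.TwoDim.not_isSc_of_diag hne), ht, hd,
        Cfsg.Lib.TwoDim.cuV_split hne]
  · have hr := Cfsg.Lib.TwoDim.roots_of_no_eigen hell
    rcases Cfsg.Lib.TwoDim.gl_cases hχ with ⟨l, rfl⟩ | ⟨l, rfl⟩ | ⟨a, b, h, rfl⟩ | ⟨θ, h, rfl⟩
    · rw [Cfsg.Lib.TwoDim.linF_one] at hdeg
      push_cast at hdeg
      have h0 : (Fintype.card F : ℂ) = 0 := by linear_combination -hdeg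
      exact absurd h0 (Nat.cast_ne_zero.2 Fintype.card_ne_zero)
    · rw [Cfsg.Lib.TwoDim.stF_one] at hdeg
      exact absurd (show (1 : ℂ) = 0 by first | linear_combination hdeg | linear_combination -hdeg) one_ne_zero
    · rw [Cfsg.Lib.TwoDim.psF, Cfsg.Lib.TwoDim.gF_apply,
        Cfsg.Lib.TwoDim.ofData_of_not (Cfsg.Lib.TwoDim.not_isSc_of_no_eigen hell), Cfsg.Lib.TwoDim.psV, hr,
        Finset.sum_empty]
    · rw [Cfsg.Lib.TwoDim.cuF_one, Nat.cast_sub Fintype.card_pos] at hdeg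
      exfalso
      have : (2 : ℂ) = 0 := by push_cast at hdeg; linear_combination -hdeg
      norm_num at this

end Cfsg.Agent.S2309
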