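import Cfsg.Statements.S2310
import Cfsg.Agent.Lib.TwoDim.Recognise
-- import your own Cfsg.Agent.* helpers here

set_option autoImplicit false
open Cfsg

namespace Cfsg.Agent.S2310

theorem vals {F : Type*} [Field F] [Fintype F] [DecidableEq F] {u : GL (Fin 2) F}
    (hu : (u : Matrix (Fin 2) (Fin 2) F) = !![1, 1; 0, 1]) (s : F → ℂ) (v : F → F → ℂ) :
    Cfsg.Lib.TwoDim.gF s v u = v (2 * 1) (1 ^ 2) := by
  rw [Cfsg.Lib.TwoDim.gF_apply, Cfsg.Lib.TwoDim.ofData_of_not (Cfsg.Lib.TwoDim.not_isSc_of_upper (by simp [hu])),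
    hu, Matrix.trace_fin_two, Matrix.det_fin_two]
  simp [one_add_one_eq_two]

/-- Over a finite field F with q ≥ 3 elements, let u be the upper unitriangular matrix of GL₂ with off-diagonal entry 1. An irreducible complex character χ of GL₂ takes at u the value 1 if χ has degree 1 or q + 1, the value −1 if χ has degree q − 1, and the value 0 if χ has degree q. -/
theorem result {F : Type*} [Field F] [Fintype F] (hq : 3 ≤ Fintype.card F) (χ : Matrix.GeneralLinearGroup (Fin 2) F → ℂ) (hχ : Cfsg.IsIrrCharacter (Matrix.GeneralLinearGroup (Fin 2) F) χ)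
    (u : Matrix.GeneralLinearGroup (Fin 2) F) (hu : (u : Matrix (Fin 2) (Fin 2) F) = !![1, 1; 0, 1]) :
    (χ 1 = 1 → χ u = 1) ∧ (χ 1 = (Fintype.card F : ℂ) + 1 → χ u = 1) ∧
    (χ 1 = (Fintype.card F : ℂ) - 1 → χ u = -1) ∧ (χ 1 = (Fintype.card F : ℂ) → χ u = 0) := by
  classical
  have hq1 : 1 ≤ Fintype.card F := Fintype.card_pos
  have e1 : ((1 : ℕ) : ℂ) = 1 := Nat.cast_one
  have e2 : ((Fintype.card F + 1 : ℕ) : ℂ) = (Fintype.card F : ℂ) + 1 := by push_cast; rfl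
  have e3 : ((Fintype.card F - 1 : ℕ) : ℂ) = (Fintype.card F : ℂ) - 1 := by rw [Nat.cast_sub hq1, Nat.cast_one]
  rw [← e2, ← e3]
  rcases Cfsg.Lib.TwoDim.gl_cases hχ with ⟨l, rfl⟩ | ⟨l, rfl⟩ | ⟨a, b, h, rfl⟩ | ⟨θ, h, rfl⟩
  · rw [Cfsg.Lib.TwoDim.linF_one, Nat.cast_inj, Nat.cast_inj, Nat.cast_inj, Nat.cast_eq_one]
    refine ⟨fun _ => ?_, fun h => ?_, fun h => ?_, fun h => ?_⟩
    · rw [Cfsg.Lib.TwoDim.linF, vals hu, Cfsg.Lib.TwoDim.linV, one_pow, map_one]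
    all_goals (exfalso; omega)
  · rw [Cfsg.Lib.TwoDim.stF_one, Nat.cast_inj, Nat.cast_inj, Nat.cast_inj, Nat.cast_eq_one]
    refine ⟨fun h => ?_, fun h => ?_, fun h => ?_, fun _ => ?_⟩
    · exfalso; omega
    · exfalso; omega
    · exfalso; omega
    · rw [Cfsg.Lib.TwoDim.stF, vals hu, Cfsg.Lib.TwoDim.stV_double]
  · rw [Cfsg.Lib.TwoDim.psF_one, Nat.cast_inj, Nat.cast_inj, Nat.cast_inj, Nat.cast_eq_one]
    refine ⟨fun h => ?_, fun _ => ?_, fun h => ?_, fun h => ?_⟩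
    · exfalso; omega
    · rw [Cfsg.Lib.TwoDim.psF, vals hu, Cfsg.Lib.TwoDim.psV_double (one_ne_zero (α := F)), map_one, map_one, mul_one]
    · exfalso; omega
    · exfalso; omega
  · rw [Cfsg.Lib.TwoDim.cuF_one, Nat.cast_inj, Nat.cast_inj, Nat.cast_inj, Nat.cast_eq_one]
    refine ⟨fun h => ?_, fun h => ?_, fun _ => ?_, fun h => ?_⟩
    · exfalso; omega
    · exfalso; omega
    · rw [Cfsg.Lib.TwoDim.cuF, vals hu, Cfsg.Lib.TwoDim.cuV_double, map_one, map_one]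
    · exfalso; omega

end Cfsg.Agent.S2310
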