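import Cfsg.Statements.S2315
import Mathlib

set_option autoImplicit false
open Cfsg

namespace Cfsg.Agent.S2315

section

open Finset

variable {F : Type*} [Field F]

/-- the number of nilpotent endomorphisms of `F^n` -/
noncomputable def nilp (F : Type*) [Field F] (n : ℕ) : ℕ :=
  Nat.card {f : Module.End F (Fin n → F) // IsNilpotent f}

/-- the shift matrix -/
def shiftMat (F : Type*) [Field F] (k : ℕ) : Matrix (Fin k) (Fin k) F :=
  Matrix.of fun i j => if (i : ℕ) = j + 1 then 1 else 0

theorem shiftMat_pow (k : ℕ) : ∀ (m : ℕ) (i j : Fin k),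
    (shiftMat F k ^ m) i j = if (i : ℕ) = j + m then 1 else 0 := by
  intro m
  induction m with
  | zero => intro i j; simp [Matrix.one_apply, Fin.ext_iff]
  | succ m ih =>
    intro i j
    rw [pow_succ, Matrix.mul_apply]
    simp only [ih]
    by_cases hj : (j : ℕ) + 1 < k
    · rw [Finset.sum_eq_single (⟨j + 1, hj⟩ : Fin k)]
      · simp [shiftMat, add_comm, add_left_comm]
      · intro l _ hl
        have : (l : ℕ) ≠ j + 1 := fun e => hl (Fin.ext e)
        simp [shiftMat, this]
      · simp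
    · rw [Finset.sum_eq_zero fun l _ => ?_, if_neg (by omega)]
      have : (l : ℕ) ≠ j + 1 := by omega
      simp [shiftMat, this]

theorem nilpotent_fromBlocks {a b : Type*} [Fintype a] [DecidableEq a] [Fintype b] [DecidableEq b]
    (A : Matrix a a F) (B : Matrix a b F) (D : Matrix b b F) :
    IsNilpotent (Matrix.fromBlocks A B 0 D) ↔ IsNilpotent A ∧ IsNilpotent D := by
  have hp : ∀ m : ℕ, ∃ B' : Matrix a b F,
      Matrix.fromBlocks A B 0 D ^ m = Matrix.fromBlocks (A ^ m) B' 0 (D ^ m) := by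
    intro m
    induction m with
    | zero => exact ⟨0, by simp [Matrix.fromBlocks_one]⟩
    | succ m ih =>
      obtain ⟨B', hB'⟩ := ih
      exact ⟨A ^ m * B + B' * D, by rw [pow_succ, hB', Matrix.fromBlocks_multiply]; simp [pow_succ]⟩
  constructor
  · rintro ⟨m, hm⟩
    obtain ⟨B', hB'⟩ := hp m
    rw [hm, ← Matrix.fromBlocks_zero, Matrix.fromBlocks_inj] at hB'
    exact ⟨⟨m, hB'.1.symm⟩, ⟨m, hB'.2.2.2.symm⟩⟩
  · rintro ⟨⟨u, hu⟩, ⟨v, hv⟩⟩
    obtain ⟨B', hB'⟩ := hp (u + v)
    rw [pow_eq_zero_of_le (Nat.le_add_right u v) hu, pow_eq_zero_of_le (Nat.le_add_left v u) hv] at hB'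
    refine ⟨(u + v) * 2, ?_⟩
    rw [pow_mul, hB', pow_two, Matrix.fromBlocks_multiply]
    simp [Matrix.fromBlocks_zero]

variable [Fintype F]

theorem nilp_eq_matrix {ι : Type*} [Fintype ι] [DecidableEq ι] :
    Nat.card {X : Matrix ι ι F // IsNilpotent X} = nilp F (Fintype.card ι) := by
  refine Nat.card_congr
    (((Matrix.reindexAlgEquiv F F (Fintype.equivFin ι)).trans Matrix.toLinAlgEquiv').toEquiv.subtypeEquiv fun X => ?_)
  exact (IsNilpotent.map_iff ((Matrix.reindexAlgEquiv F F (Fintype.equivFin ι)).trans Matrix.toLinAlgEquiv').injective).symm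

/-- the successor in a chain -/
def nx {n k : ℕ} (s : Fin k → Fin n → F) (i : Fin k) : Fin n → F :=
  if h : (i : ℕ) + 1 < k then s ⟨i + 1, h⟩ else 0

theorem card_fiber (n k : ℕ) (s : Fin k → Fin n → F) (hs : LinearIndependent F s) :
    Nat.card {f : Module.End F (Fin n → F) // IsNilpotent f ∧ ∀ i, f (s i) = nx s i} =
      Fintype.card F ^ (k * (n - k)) * nilp F (n - k) := by
  classical
  obtain ⟨ι, hι, b, hb⟩ : ∃ (ι : Set (Fin n → F)) (_ : Fintype ι) (b : Module.Basis (Fin k ⊕ ι) F (Fin n → F)),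
      ∀ i, b (Sum.inl i) = s i := by
    haveI : Finite (Module.Basis.sumExtendIndex hs) := by
      haveI : Finite (Fin k ⊕ Module.Basis.sumExtendIndex hs) :=
        Module.Finite.finite_basis (Module.Basis.sumExtend hs)
      exact Finite.of_injective (Sum.inr : _ → Fin k ⊕ Module.Basis.sumExtendIndex hs) Sum.inr_injective
    refine ⟨Module.Basis.sumExtendIndex hs, Fintype.ofFinite _, Module.Basis.sumExtend hs, fun i => ?_⟩
    simp [Module.Basis.sumExtend]
    rfl
  have hcard : Fintype.card ι = n - k := by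
    have h := Module.finrank_eq_card_basis b
    rw [Module.finrank_fin_fun, Fintype.card_sum, Fintype.card_fin] at h
    omega
  have e : {f : Module.End F (Fin n → F) // IsNilpotent f ∧ ∀ i, f (s i) = nx s i} ≃
      {X : Matrix (Fin k ⊕ ι) (Fin k ⊕ ι) F // IsNilpotent X ∧
        (∀ i j, X (Sum.inl i) (Sum.inl j) = shiftMat F k i j) ∧ ∀ i j, X (Sum.inr i) (Sum.inl j) = 0} := by
    refine (LinearMap.toMatrixAlgEquiv b).toEquiv.subtypeEquiv fun f => ?_
    refine and_congr (IsNilpotent.map_iff (LinearMap.toMatrixAlgEquiv b).injective).symm ?_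
    have hrepr : ∀ (l : Fin k ⊕ ι) (j : Fin k), b.repr (nx s j) l =
        Sum.elim (fun i => shiftMat F k i j) (fun _ => 0) l := by
      intro l j
      unfold nx
      split_ifs with h
      · rw [← hb, b.repr_self]
        rcases l with i | i
        · simp [shiftMat, Finsupp.single_apply, Fin.ext_iff, eq_comm]
        · simp
      · rcases l with i | i
        · have : (i : ℕ) ≠ j + 1 := by omega
          simp [shiftMat, this]
        · simp
    show _ ↔ (∀ i j, LinearMap.toMatrixAlgEquiv b f (Sum.inl i) (Sum.inl j) = _) ∧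
      ∀ i j, LinearMap.toMatrixAlgEquiv b f (Sum.inr i) (Sum.inl j) = 0
    simp only [LinearMap.toMatrixAlgEquiv_apply, hb]
    constructor
    · intro h
      exact ⟨fun i j => by rw [h, hrepr]; rfl, fun i j => by rw [h, hrepr]; rfl⟩
    · rintro ⟨h1, h2⟩ j
      apply b.repr.injective
      ext l
      rw [hrepr]
      rcases l with i | i
      · exact h1 i j
      · exact h2 i j
  rw [Nat.card_congr e]
  have e2 : {X : Matrix (Fin k ⊕ ι) (Fin k ⊕ ι) F // IsNilpotent X ∧
        (∀ i j, X (Sum.inl i) (Sum.inl j) = shiftMat F k i j) ∧ ∀ i j, X (Sum.inr i) (Sum.inl j) = 0} ≃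
      Matrix (Fin k) ι F × {D : Matrix ι ι F // IsNilpotent D} :=
    { toFun := fun X => (X.1.toBlocks₁₂, ⟨X.1.toBlocks₂₂, by
        have h : Matrix.fromBlocks (shiftMat F k) X.1.toBlocks₁₂ 0 X.1.toBlocks₂₂ = X.1 := by
          ext (i | i) (j | j)
          · exact (X.2.2.1 i j).symm
          · rfl
          · exact (X.2.2.2 i j).symm
          · rfl
        exact ((nilpotent_fromBlocks _ _ _).mp (h.symm ▸ X.2.1)).2⟩)
      invFun := fun P => ⟨Matrix.fromBlocks (shiftMat F k) P.1 0 P.2.1,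
        (nilpotent_fromBlocks _ _ _).mpr ⟨⟨k, by
          ext i j
          rw [shiftMat_pow, Matrix.zero_apply, if_neg (by omega)]⟩, P.2.2⟩,
        fun i j => rfl, fun i j => rfl⟩
      left_inv := fun X => by
        apply Subtype.ext
        ext (i | i) (j | j)
        · exact (X.2.2.1 i j).symm
        · rfl
        · exact (X.2.2.2 i j).symm
        · rfl
      right_inv := fun P => by simp }
  rw [Nat.card_congr e2, Nat.card_prod, nilp_eq_matrix, hcard,
    show Nat.card (Matrix (Fin k) ι F) = Nat.card (Fin k → ι → F) from rfl, Nat.card_fun, Nat.card_fun,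
    Nat.card_eq_fintype_card, Nat.card_eq_fintype_card, Nat.card_eq_fintype_card, Fintype.card_fin, hcard,
    ← pow_mul, mul_comm (n - k) k]

theorem sum_identity (q n : ℕ) (hq : 1 ≤ q) :
    ∀ k ≤ n, (∑ i ∈ range k, (∏ j ∈ range i, (q ^ n - q ^ j)) * q ^ ((n - i) * (n - 1))) +
      (∏ j ∈ range k, (q ^ n - q ^ j)) * q ^ ((n - k) * n) = q ^ (n * n) := by
  intro k
  induction k with
  | zero => simp
  | succ k ih =>
    intro hk
    rw [← ih (by omega), sum_range_succ, prod_range_succ, add_assoc]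
    congr 1
    have h1 : q ^ k ≤ q ^ n := Nat.pow_le_pow_right hq (by omega)
    have e1 : (n - k) * n = (n - (k + 1)) * n + n := by
      rw [show n - k = (n - (k + 1)) + 1 by omega]; ring
    have e2 : (n - k) * (n - 1) = (n - (k + 1)) * n + k := by
      obtain ⟨d, rfl⟩ : ∃ d, n = k + 1 + d := ⟨n - (k + 1), by omega⟩
      rw [show k + 1 + d - k = d + 1 by omega, show k + 1 + d - 1 = k + d by omega,
        show k + 1 + d - (k + 1) = d by omega]
      ring
    rw [e1, e2, pow_add, pow_add]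
    generalize (∏ j ∈ range k, (q ^ n - q ^ j)) = L
    obtain ⟨w, hw⟩ := Nat.le.dest h1
    rw [← hw, Nat.add_sub_cancel_left]
    ring

theorem nilp_eq : ∀ n, nilp F n = Fintype.card F ^ (n * (n - 1)) := by
  classical
  intro n
  induction n using Nat.strong_induction_on with
  | _ n ih =>
  rcases Nat.eq_zero_or_pos n with rfl | hn
  · rw [nilp, Nat.card_eq_one_iff_unique.mpr ⟨⟨fun a b => Subsingleton.elim a b⟩, ⟨⟨0, IsNilpotent.zero⟩⟩⟩]
    simp
  set q := Fintype.card F
  haveI : Finite (Module.End F (Fin n → F)) := Module.finite_of_finite F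
  haveI : Fintype (Module.End F (Fin n → F)) := Fintype.ofFinite _
  let P := {f : Module.End F (Fin n → F) // IsNilpotent f} × (Fin n → F)
  have hex : ∀ p : P, ∃ k, (p.1.1 ^ k) p.2 = 0 := fun p => by
    obtain ⟨k, hk⟩ := p.1.2; exact ⟨k, by rw [hk]; rfl⟩
  let K : P → ℕ := fun p => Nat.find (hex p)
  have hKs : ∀ p : P, (p.1.1 ^ K p) p.2 = 0 := fun p => Nat.find_spec (hex p)
  have hKm : ∀ p : P, ∀ j < K p, (p.1.1 ^ j) p.2 ≠ 0 := fun p j hj => Nat.find_min (hex p) hj
  have hpow0 : ∀ p : P, ∀ j, K p ≤ j → (p.1.1 ^ j) p.2 = 0 := fun p j hj => by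
    obtain ⟨d, rfl⟩ := Nat.le.dest hj
    rw [add_comm, pow_add, Module.End.mul_apply, hKs, map_zero]
  have hli : ∀ p : P, LinearIndependent F fun i : Fin (K p) => (p.1.1 ^ (i : ℕ)) p.2 := by
    intro p
    rw [Fintype.linearIndependent_iff]
    intro g hg
    by_contra! hne
    obtain ⟨i, hi, hmin⟩ := Finset.exists_min_image (univ.filter fun i => g i ≠ 0) (fun i => (i : ℕ))
      (by obtain ⟨i, hi⟩ := hne; exact ⟨i, mem_filter.mpr ⟨mem_univ i, hi⟩⟩)
    have h := congrArg (p.1.1 ^ (K p - 1 - i)) hg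
    rw [map_sum, map_zero, Finset.sum_eq_single i] at h
    · rw [map_smul, ← Module.End.mul_apply, ← pow_add, smul_eq_zero] at h
      rcases h with h | h
      · exact (mem_filter.mp hi).2 h
      · exact hKm p _ (by omega) h
    · intro j _ hj
      by_cases hgj : g j = 0
      · rw [hgj, zero_smul, map_zero]
      have hij := hmin j (mem_filter.mpr ⟨mem_univ j, hgj⟩)
      have hne' : (i : ℕ) ≠ j := fun e => hj (Fin.ext e.symm)
      rw [map_smul, ← Module.End.mul_apply, ← pow_add, hpow0 p _ (by omega), smul_zero]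
    · simp
  have hKn : ∀ p : P, K p < n + 1 := fun p => by
    have h := (hli p).fintype_card_le_finrank
    rw [Fintype.card_fin, Module.finrank_fin_fun] at h
    omega
  let f : ℕ → ℕ := fun k => Nat.card {p : P // K p = k}
  have htot : nilp F n * q ^ n = ∑ k ∈ range (n + 1), f k := by
    have e := Nat.card_congr (Equiv.sigmaFiberEquiv fun p : P => (⟨K p, hKn p⟩ : Fin (n + 1))).symm
    rw [Nat.card_sigma, Nat.card_prod] at e
    simp only [Nat.card_eq_fintype_card (α := Fin n → F), Fintype.card_fun, Fintype.card_fin] at e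
    rw [nilp, e, ← Fin.sum_univ_eq_sum_range f]
    exact Finset.sum_congr rfl fun k _ => Nat.card_congr (Equiv.subtypeEquivRight fun p => by simp [Fin.ext_iff])
  have hf0 : f 0 = nilp F n := by
    refine Nat.card_congr
      { toFun := fun p => p.1.1
        invFun := fun g => ⟨(g, 0), (Nat.find_eq_zero _).mpr (by simp)⟩
        left_inv := fun p => ?_
        right_inv := fun g => rfl }
    apply Subtype.ext
    refine Prod.ext rfl ?_
    have h := hKs p.1
    rw [p.2, pow_zero] at h
    exact h.symm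
  have hfk : ∀ k, 1 ≤ k → k ≤ n → f k = (∏ j ∈ range k, (q ^ n - q ^ j)) * q ^ ((n - k) * (n - 1)) := by
    intro k hk hkn
    have hnx : ∀ p : P, K p = k → ∀ i : Fin k,
        p.1.1 ((p.1.1 ^ (i : ℕ)) p.2) = nx (fun i : Fin k => (p.1.1 ^ (i : ℕ)) p.2) i := by
      intro p hp i
      rw [← Module.End.mul_apply, ← pow_succ', nx]
      split_ifs with h
      · rfl
      · exact hpow0 p _ (by omega)
    have hchain : ∀ (s : Fin k → Fin n → F) (g : Module.End F (Fin n → F)), (∀ i, g (s i) = nx s i) →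
        (∀ (i : ℕ) (hi : i < k), (g ^ i) (s ⟨0, hk⟩) = s ⟨i, hi⟩) ∧ (g ^ k) (s ⟨0, hk⟩) = 0 := by
      intro s g hg
      have h1 : ∀ (i : ℕ) (hi : i < k), (g ^ i) (s ⟨0, hk⟩) = s ⟨i, hi⟩ := by
        intro i
        induction i with
        | zero => intro hi; rfl
        | succ i ih => intro hi; rw [pow_succ', Module.End.mul_apply, ih (by omega), hg, nx, dif_pos hi]
      refine ⟨h1, ?_⟩
      obtain ⟨j, rfl⟩ : ∃ j, k = j + 1 := ⟨k - 1, by omega⟩
      rw [pow_succ', Module.End.mul_apply, h1 j (by omega), hg, nx, dif_neg (by simp)]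
    have hKeq : ∀ (s : Fin k → Fin n → F) (hs : LinearIndependent F s) (g : {f : Module.End F (Fin n → F) // IsNilpotent f}),
        (∀ i, g.1 (s i) = nx s i) → K (g, s ⟨0, hk⟩) = k := by
      intro s hs g hg
      obtain ⟨h1, h2⟩ := hchain s g.1 hg
      exact (Nat.find_eq_iff _).mpr ⟨h2, fun j hj h0 => hs.ne_zero ⟨j, hj⟩ ((h1 j hj).symm.trans h0)⟩
    let e : {p : P // K p = k} ≃ Σ s : {s : Fin k → Fin n → F // LinearIndependent F s},
        {g : Module.End F (Fin n → F) // IsNilpotent g ∧ ∀ i, g (s.1 i) = nx s.1 i} :=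
      { toFun := fun p => ⟨⟨fun i : Fin k => (p.1.1.1 ^ (i : ℕ)) p.1.2, by
            have h := hli p.1
            exact (linearIndependent_equiv (finCongr p.2.symm)).mpr h⟩,
          ⟨p.1.1.1, p.1.1.2, hnx p.1 p.2⟩⟩
        invFun := fun x => ⟨(⟨x.2.1, x.2.2.1⟩, x.1.1 ⟨0, hk⟩), hKeq x.1.1 x.1.2 _ x.2.2.2⟩
        left_inv := fun p => Subtype.ext (Prod.ext rfl (by simp))
        right_inv := fun x => by
          obtain ⟨⟨s, hs⟩, ⟨g, hg1, hg2⟩⟩ := x
          have hfun : (fun i : Fin k => (g ^ (i : ℕ)) (s ⟨0, hk⟩)) = s :=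
            funext fun i => (hchain s g hg2).1 i i.2
          simp only
          congr 1
          · exact Subtype.ext hfun
          · congr 1
            · simp only [fun i : Fin k => (hchain s g hg2).1 i i.2]
            · exact proof_irrel_heq _ _ }
    show Nat.card {p : P // K p = k} = _
    rw [Nat.card_congr e, Nat.card_sigma, Finset.sum_congr rfl fun s _ => card_fiber n k s.1 s.2,
      Finset.sum_const, smul_eq_mul, Finset.card_univ, ← Nat.card_eq_fintype_card,
      card_linearIndependent (by rw [Module.finrank_fin_fun]; exact hkn), Module.finrank_fin_fun,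
      Fin.prod_univ_eq_prod_range (fun j => q ^ n - q ^ j) k, ih (n - k) (by omega), ← pow_add]
    congr 2
    obtain ⟨d, rfl⟩ := Nat.le.dest hkn
    rw [Nat.add_sub_cancel_left]
    rcases d with _ | d
    · simp
    · rw [show d + 1 - 1 = d by omega, show k + (d + 1) - 1 = k + d by omega]; ring
  have hq : 1 < q := Fintype.one_lt_card
  have hid := sum_identity q n (by omega) n le_rfl
  have hlast : (∏ j ∈ range n, (q ^ n - q ^ j)) * q ^ ((n - n) * n) =
      (∏ j ∈ range n, (q ^ n - q ^ j)) * q ^ ((n - n) * (n - 1)) := by simp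
  rw [hlast, ← sum_range_succ (fun i => (∏ j ∈ range i, (q ^ n - q ^ j)) * q ^ ((n - i) * (n - 1))) n,
    sum_range_succ'] at hid
  rw [sum_range_succ', hf0, Finset.sum_congr rfl fun k hk => hfk (k + 1) (by omega) (by have := mem_range.mp hk; omega)] at htot
  simp only [prod_range_zero, one_mul, Nat.sub_zero] at hid
  have hq1 : 1 < q ^ n := Nat.one_lt_pow hn.ne' hq
  have hsq : q ^ (n * n) = q ^ (n * (n - 1)) * q ^ n := by
    rw [← pow_add]; congr 1
    obtain ⟨m, rfl⟩ : ∃ m, n = m + 1 := ⟨n - 1, by omega⟩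
    rw [Nat.add_sub_cancel]; ring
  rw [hsq] at hid
  obtain ⟨r, hr⟩ : ∃ r, q ^ n = r + 1 + 1 := ⟨q ^ n - 2, by omega⟩
  rw [hr] at htot hid
  generalize (∑ k ∈ range n, (∏ j ∈ range (k + 1), (r + 1 + 1 - q ^ j)) * q ^ ((n - (k + 1)) * (n - 1))) = S at htot hid
  nlinarith

end

/-- Steinberg's count of unipotent elements for the general linear group: over a finite field with q elements of characteristic p, the number of elements of GL_n of p-power order (the unipotent matrices) is q^(n(n−1)). -/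
theorem result {F : Type*} [Field F] [Fintype F] (p : ℕ) [Fact p.Prime] [CharP F p] (n : ℕ) :
    Nat.card {g : Matrix.GeneralLinearGroup (Fin n) F // ∃ k : ℕ, orderOf g = p ^ k} = Fintype.card F ^ (n * (n - 1)) := by
  classical
  have hp : p.Prime := Fact.out
  rcases Nat.eq_zero_or_pos n with rfl | hn
  · rw [Nat.card_eq_one_iff_unique.mpr ⟨⟨fun a b => Subsingleton.elim a b⟩, ⟨⟨1, 0, by simp⟩⟩⟩]
    simp
  haveI : Nonempty (Fin n) := ⟨⟨0, hn⟩⟩
  haveI : CharP (Matrix (Fin n) (Fin n) F) p :=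
    charP_of_injective_algebraMap (algebraMap F (Matrix (Fin n) (Fin n) F)).injective p
  rw [← nilp_eq n, ← show Nat.card {X : Matrix (Fin n) (Fin n) F // IsNilpotent X} = nilp F n from by
    simpa using nilp_eq_matrix (F := F) (ι := Fin n)]
  refine Nat.card_congr (Equiv.ofBijective (fun g => ⟨(g.1 : Matrix (Fin n) (Fin n) F) - 1, ?_⟩) ⟨?_, ?_⟩)
  · obtain ⟨k, hk⟩ := g.2
    refine ⟨p ^ k, ?_⟩
    rw [sub_pow_char_pow_of_commute (p := p) k (Commute.one_right _), one_pow, ← hk, ← Units.val_pow_eq_pow_val,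
      pow_orderOf_eq_one, Units.val_one, sub_self]
  · intro g g' h
    exact Subtype.ext (Units.ext (sub_left_injective (Subtype.ext_iff.mp h)))
  · rintro ⟨X, m, hm⟩
    obtain ⟨k, hk⟩ : ∃ k, m ≤ p ^ k := ⟨m, (Nat.lt_pow_self hp.one_lt).le⟩
    have h1 : (X + 1) ^ p ^ k = 1 := by
      rw [add_pow_char_pow_of_commute (p := p) k (Commute.one_right _), one_pow, pow_eq_zero_of_le hk hm, zero_add]
    have hu : IsUnit (X + 1) := (isUnit_pow_iff (pow_pos hp.pos k).ne').mp (by rw [h1]; exact isUnit_one)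
    have h2 : hu.unit ^ p ^ k = 1 := Units.ext (by simpa using h1)
    obtain ⟨j, -, hj⟩ := (Nat.dvd_prime_pow hp).mp (orderOf_dvd_of_pow_eq_one h2)
    exact ⟨⟨hu.unit, j, hj⟩, Subtype.ext (by simp)⟩

end Cfsg.Agent.S2315
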