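import Cfsg.Statements.S2317
import Cfsg.Agent.Lib.Linear.UnipotentClasses

set_option autoImplicit false
open Cfsg

namespace Cfsg.Agent.S2317

open Cfsg.Agent.Lib.Linear

/-- Over a finite field of characteristic p, the conjugacy classes of GL_n consisting of elements of p-power order (the unipotent classes) are as many as the partitions of n. -/
theorem result {F : Type*} [Field F] [Fintype F] (p : ℕ) [Fact p.Prime] [CharP F p] (n : ℕ) :
    Nat.card {C : ConjClasses (Matrix.GeneralLinearGroup (Fin n) F) //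
      ∃ g : Matrix.GeneralLinearGroup (Fin n) F, (∃ k : ℕ, orderOf g = p ^ k) ∧ ConjClasses.mk g = C} =
      Fintype.card (Nat.Partition n) := by
  classical
  have key : ∀ g : GL (Fin n) F,
      (∃ k : ℕ, orderOf g = p ^ k) ↔ ((g : Matrix (Fin n) (Fin n) F) - 1) ^ n = 0 := by
    intro g
    constructor
    · rintro ⟨k, hk⟩
      refine UnipotentClasses.pow_card_eq_zero (p ^ k) ((UnipotentClasses.pow_eq_one_iff _ k).mp ?_)
      rw [← Units.val_pow_eq_pow_val, ← hk, pow_orderOf_eq_one, Units.val_one]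
    · intro h
      have h1 : g ^ p ^ n = 1 := Units.ext (by
        rw [Units.val_pow_eq_pow_val, Units.val_one, UnipotentClasses.pow_eq_one_iff]
        exact pow_eq_zero_of_le (Nat.lt_pow_self (Fact.out : p.Prime).one_lt).le h)
      obtain ⟨k, -, hk⟩ := (Nat.dvd_prime_pow Fact.out).mp (orderOf_dvd_of_pow_eq_one h1)
      exact ⟨k, hk⟩
  have hfil : (Finset.univ.filter fun μ : Nat.Partition n => ∀ a ∈ μ.parts, a ≤ n) = Finset.univ :=
    Finset.filter_true_of_mem fun μ _ a ha => μ.parts_sum ▸ Multiset.single_le_sum (fun _ _ => Nat.zero_le _) a ha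
  rw [← Finset.card_univ, ← hfil, ← UnipotentClasses.card_classes (F := F) n]
  refine Nat.card_congr (Equiv.subtypeEquivRight fun C => ?_)
  constructor
  · rintro ⟨g, h1, h2⟩
    exact ⟨g, h2, (key g).mp h1⟩
  · rintro ⟨g, h1, h2⟩
    exact ⟨g, (key g).mpr h2, h1⟩

end Cfsg.Agent.S2317
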