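import Cfsg.Statements.S2318
import Cfsg.Agent.Lib.Chev.FullAll
import Cfsg.Agent.Lib.Chev.DefectZero

set_option autoImplicit false
open Cfsg

namespace Cfsg.Agent.S2318

/-- In a Chevalley group of type G₂, B₂, D₄, F₄, E₆, E₇ or E₈ over a finite field of characteristic p (for types G₂ and B₂ the field is assumed to have at least 3 elements, so that the group is perfect), the Steinberg character is the only irreducible complex character whose degree is divisible by the full power of p dividing the group order (the only irreducible character of p-defect zero). -/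
theorem result {F : Type*} [Field F] [Fintype F] (p : ℕ) [Fact p.Prime] [CharP F p] (D : Cfsg.Lie.ChevalleyDatum) (hD : D ∈ [Cfsg.Lie.chevG2, Cfsg.Lie.chevB2, Cfsg.Lie.chevD4, Cfsg.Lie.chevF4, Cfsg.Lie.chevE6, Cfsg.Lie.chevE7, Cfsg.Lie.chevE8]) (hq : (D = Cfsg.Lie.chevG2 ∨ D = Cfsg.Lie.chevB2) → 3 ≤ Fintype.card F)
    (χ : ↥(D.group F) → ℂ) (hχ : Cfsg.IsIrrCharacter ↥(D.group F) χ)
    (hdeg : ∃ d : ℕ, χ 1 = (d : ℂ) ∧ p ^ (Nat.card ↥(D.group F)).factorization p ∣ d) :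
    χ = D.steinbergCharacter F := by
  classical
  let := Fintype.ofFinite ↥(D.group F)
  obtain ⟨T, K⟩ := Cfsg.Lib.Chev.exists_fullCert hD
  obtain ⟨M, hM⟩ := Cfsg.Lib.Block.exists_isPModular (Fact.out : p.Prime)
  let ψ : Cfsg.IrrCharacter ↥(D.group F) := ⟨χ, hχ⟩
  refine Cfsg.Lib.Chev.eq_steinberg_of_vanish K.comm.cert K hχ fun u hu hne => ?_
  obtain ⟨d, hd, hdvd⟩ := hdeg
  have hdd : Cfsg.charDegree χ = d := by
    have := Cfsg.Lib.Block.apply_one_eq_charDegree ψ
    exact_mod_cast this.symm.trans hd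
  have hle : (Cfsg.charDegree χ).factorization p ≥ (Nat.card ↥(D.group F)).factorization p := by
    have h0 := Cfsg.Lib.Block.charDegree_pos ψ
    exact ((Fact.out : p.Prime).pow_dvd_iff_le_factorization h0.ne').1 (hdd.symm ▸ hdvd)
  have hblk := Cfsg.Lib.Block.blockOf_eq_singleton_of_full hM ψ hle
  have hdef : Cfsg.blockDefect p (Cfsg.blockOf M (ψ : ↥(D.group F) → ℂ)) = 0 :=
    (Cfsg.Lib.Block.blockDefect_eq_zero_iff hM (Cfsg.Lib.Block.isPBlock_blockOf ψ)).2 ⟨ψ, hblk,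
      le_antisymm (((Nat.factorization_le_iff_dvd (Cfsg.Lib.Block.charDegree_pos ψ).ne' Nat.card_pos.ne').2
        (Cfsg.Lib.Block.charDegree_dvd_card ψ)) p) hle⟩
  refine Cfsg.Lib.Block.char_eq_zero_of_pPt_notMem hM ψ fun E hE hmem => ?_
  have hcard := Cfsg.Lib.Block.card_defectGroup hM (Cfsg.Lib.Block.isPBlock_blockOf ψ) hE
  rw [hdef, pow_zero] at hcard
  rw [Subgroup.eq_bot_of_card_eq E hcard, Subgroup.mem_bot] at hmem
  obtain ⟨P, hP⟩ := Cfsg.Lib.Chev.exists_sylow K.comm.cert (F := F) K p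
  obtain ⟨k, hk⟩ := IsPGroup.iff_orderOf.1 P.2 ⟨u, by rw [hP]; exact hu⟩
  rw [← Subgroup.orderOf_coe] at hk
  refine (Cfsg.Lib.Block.pPt_eq_one_iff u).1 hmem ?_
  rcases k with _ | k
  · exact absurd (orderOf_eq_one_iff.1 (hk.trans (pow_zero p))) hne
  · rw [hk]; exact dvd_pow_self p (Nat.succ_ne_zero k)

end Cfsg.Agent.S2318
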