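import Cfsg.Statements.S2320
import Cfsg.Agent.Lib.TwoDim.Recognise
-- import your own Cfsg.Agent.* helpers here

set_option autoImplicit false
open Cfsg

namespace Cfsg.Agent.S2320


/-- Over a finite field F with q elements, every irreducible complex character of GL₂ of degree q takes a value of absolute value 1 at every diagonal matrix with two different diagonal entries and at every element with no eigenvector in F². -/
theorem result {F : Type*} [Field F] [Fintype F] (χ : Matrix.GeneralLinearGroup (Fin 2) F → ℂ) (hχ : Cfsg.IsIrrCharacter (Matrix.GeneralLinearGroup (Fin 2) F) χ) (hdeg : χ 1 = (Fintype.card F : ℂ)) (g : Matrix.GeneralLinearGroup (Fin 2) F) :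
    ((g : Matrix (Fin 2) (Fin 2) F) 0 1 = 0 → (g : Matrix (Fin 2) (Fin 2) F) 1 0 = 0 → (g : Matrix (Fin 2) (Fin 2) F) 0 0 ≠ (g : Matrix (Fin 2) (Fin 2) F) 1 1 → ‖χ g‖ = 1) ∧
    ((∀ (c : F) (v : Fin 2 → F), v ≠ 0 → (g : Matrix (Fin 2) (Fin 2) F).mulVec v ≠ c • v) → ‖χ g‖ = 1) := by
  classical
  rcases Cfsg.Lib.TwoDim.gl_cases hχ with ⟨l, rfl⟩ | ⟨l, rfl⟩ | ⟨a, b, h, rfl⟩ | ⟨θ, h, rfl⟩
  · exfalso
    rw [Cfsg.Lib.TwoDim.linF_one, Nat.cast_inj] at hdeg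
    exact absurd hdeg (ne_of_lt Fintype.one_lt_card)
  · refine ⟨fun h01 h10 hne => ?_, fun hell => ?_⟩
    · obtain ⟨ht, hd⟩ := Cfsg.Lib.TwoDim.trace_det_diag h01
      rw [Cfsg.Lib.TwoDim.stF, Cfsg.Lib.TwoDim.gF_apply,
        Cfsg.Lib.TwoDim.ofData_of_not (Cfsg.Lib.TwoDim.not_isSc_of_diag hne), ht, hd,
        Cfsg.Lib.TwoDim.stV_split hne, Cfsg.Lib.TwoDim.norm_mulChar l (hd ▸ g.det_ne_zero)]
    · rw [Cfsg.Lib.TwoDim.stF, Cfsg.Lib.TwoDim.gF_apply,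
        Cfsg.Lib.TwoDim.ofData_of_not (Cfsg.Lib.TwoDim.not_isSc_of_no_eigen hell), Cfsg.Lib.TwoDim.stV,
        Cfsg.Lib.TwoDim.roots_of_no_eigen hell, Finset.card_empty, Nat.cast_zero, zero_sub, neg_one_mul, norm_neg,
        Cfsg.Lib.TwoDim.norm_mulChar l g.det_ne_zero]
  · exfalso
    rw [Cfsg.Lib.TwoDim.psF_one, Nat.cast_inj] at hdeg
    omega
  · exfalso
    rw [Cfsg.Lib.TwoDim.cuF_one, Nat.cast_inj] at hdeg
    have := Fintype.card_pos (α := F)
    omega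

end Cfsg.Agent.S2320
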