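import Cfsg.Statements.S2321
import Cfsg.Agent.Lib.TwoDim.SLValues
-- import your own Cfsg.Agent.* helpers here

set_option autoImplicit false
open Cfsg

namespace Cfsg.Agent.S2321

theorem eq_stR {F : Type*} [Field F] [Fintype F] [DecidableEq F] {χ : Matrix.SpecialLinearGroup (Fin 2) F → ℂ}
    (hχ : Cfsg.IsIrrCharacter (Matrix.SpecialLinearGroup (Fin 2) F) χ) (hdeg : χ 1 = (Fintype.card F : ℂ)) :
    χ = Cfsg.Lib.TwoDim.stR F := by
  have h2 : 2 ≤ Fintype.card F := Cfsg.Lib.TwoDim.two_le_q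
  rcases Cfsg.Lib.TwoDim.sl_cases hχ with h | h | ⟨a, -, h⟩ | ⟨a, -, h⟩ | ⟨ho, a, -, -, h⟩ | ⟨ho, a, -, -, h⟩
  · rw [h, Cfsg.Lib.TwoDim.oneR_one, Nat.cast_inj] at hdeg; omega
  · exact h
  · rw [h, Cfsg.Lib.TwoDim.psR_one, Nat.cast_inj] at hdeg; omega
  · rw [h, Cfsg.Lib.TwoDim.cuQ, Cfsg.Lib.TwoDim.cuR_one, Nat.cast_inj] at hdeg; omega
  · rw [h.degree_ps ho, Nat.cast_inj] at hdeg; omega
  · rw [h.degree_cu ho, Nat.cast_inj] at hdeg; omega

/-- Over a finite field F with q elements, an irreducible complex character of SL₂ of degree q (the Steinberg character) takes the value 1 at every diagonal matrix whose diagonal entry a has a² ≠ 1, the value −1 at every element with no eigenvector in F², and the value 0 at every upper triangular matrix with equal diagonal entries and non-zero upper right entry. -/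
theorem result {F : Type*} [Field F] [Fintype F] (χ : Matrix.SpecialLinearGroup (Fin 2) F → ℂ) (hχ : Cfsg.IsIrrCharacter (Matrix.SpecialLinearGroup (Fin 2) F) χ) (hdeg : χ 1 = (Fintype.card F : ℂ)) (g : Matrix.SpecialLinearGroup (Fin 2) F) :
    ((g : Matrix (Fin 2) (Fin 2) F) 0 1 = 0 → (g : Matrix (Fin 2) (Fin 2) F) 1 0 = 0 → (g : Matrix (Fin 2) (Fin 2) F) 0 0 ^ 2 ≠ 1 → χ g = 1) ∧
    ((∀ (c : F) (v : Fin 2 → F), v ≠ 0 → (g : Matrix (Fin 2) (Fin 2) F).mulVec v ≠ c • v) → χ g = -1) ∧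
    ((g : Matrix (Fin 2) (Fin 2) F) 1 0 = 0 → (g : Matrix (Fin 2) (Fin 2) F) 0 0 = (g : Matrix (Fin 2) (Fin 2) F) 1 1 → (g : Matrix (Fin 2) (Fin 2) F) 0 1 ≠ 0 → χ g = 0) := by
  classical
  obtain rfl := eq_stR hχ hdeg
  refine ⟨fun h01 h10 hne => ?_, fun hell => ?_, fun h10 he h01 => Cfsg.Lib.TwoDim.stR_unip h10 he h01⟩
  · obtain ⟨h0, h⟩ := Cfsg.Lib.TwoDim.sF_diag (Cfsg.Lib.TwoDim.stS (1 : MulChar F ℂ))
      (Cfsg.Lib.TwoDim.stV (1 : MulChar F ℂ)) h01 hne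
    rw [Cfsg.Lib.TwoDim.stR, h]
    have := Cfsg.Lib.TwoDim.stV_split (Cfsg.Lib.TwoDim.ne_inv_of_sq h0 hne) (1 : MulChar F ℂ)
    rwa [mul_inv_cancel₀ h0, map_one] at this
  · rw [Cfsg.Lib.TwoDim.stR, Cfsg.Lib.TwoDim.sF_no_eigen _ _ hell, Cfsg.Lib.TwoDim.stV,
      (Cfsg.Lib.TwoDim.no_eigen_data hell).2.1, Finset.card_empty, map_one, Nat.cast_zero, zero_sub, mul_one]

end Cfsg.Agent.S2321
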