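import Cfsg.Statements.S2322
import Cfsg.Agent.Lib.TwoDim.SLValues
-- import your own Cfsg.Agent.* helpers here

set_option autoImplicit false
open Cfsg

namespace Cfsg.Agent.S2322


/-- Over a finite field F with q elements, q odd: every irreducible complex character of SL₂ of degree q − 1 or (q − 1)/2 vanishes at every diagonal matrix whose diagonal entry a has a² ≠ 1, and every irreducible complex character of degree q + 1 or (q + 1)/2 vanishes at every element with no eigenvector in F². -/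
theorem result {F : Type*} [Field F] [Fintype F] (hodd : Odd (Fintype.card F)) (χ : Matrix.SpecialLinearGroup (Fin 2) F → ℂ) (hχ : Cfsg.IsIrrCharacter (Matrix.SpecialLinearGroup (Fin 2) F) χ) (g : Matrix.SpecialLinearGroup (Fin 2) F) :
    ((χ 1 = (Fintype.card F : ℂ) - 1 ∨ χ 1 = (((Fintype.card F - 1) / 2 : ℕ) : ℂ)) →
      (g : Matrix (Fin 2) (Fin 2) F) 0 1 = 0 → (g : Matrix (Fin 2) (Fin 2) F) 1 0 = 0 → (g : Matrix (Fin 2) (Fin 2) F) 0 0 ^ 2 ≠ 1 → χ g = 0) ∧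
    ((χ 1 = (Fintype.card F : ℂ) + 1 ∨ χ 1 = (((Fintype.card F + 1) / 2 : ℕ) : ℂ)) →
      (∀ (c : F) (v : Fin 2 → F), v ≠ 0 → (g : Matrix (Fin 2) (Fin 2) F).mulVec v ≠ c • v) → χ g = 0) := by
  classical
  set q := Fintype.card F with hq
  have h2 : 2 ≤ q := Cfsg.Lib.TwoDim.two_le_q
  have hq2 : q % 2 = 1 := Nat.odd_iff.1 hodd
  obtain ⟨D⟩ := Cfsg.Lib.TwoDim.exists_halfData (F := F) hodd
  have e2 : ((q + 1 : ℕ) : ℂ) = (q : ℂ) + 1 := by push_cast; rfl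
  have e3 : ((q - 1 : ℕ) : ℂ) = (q : ℂ) - 1 := by rw [Nat.cast_sub (by omega), Nat.cast_one]
  rw [← e2, ← e3]
  refine ⟨fun hdeg h01 h10 hne => ?_, fun hdeg hell => ?_⟩
  · obtain ⟨h0, -⟩ := Cfsg.Lib.TwoDim.sF_diag (fun _ => 0) (fun _ _ => 0) h01 hne
    have h5 : 5 ≤ q := by
      by_contra h
      have h3 : Fintype.card F = 3 := by omega
      refine hne ?_
      have := FiniteField.pow_card_sub_one_eq_one _ h0
      rwa [h3] at this
    rcases Cfsg.Lib.TwoDim.odd_cases D hχ with ⟨a, b⟩ | ⟨a, b⟩ | ⟨a, b⟩ | ⟨a, b⟩ | ⟨a, b⟩ | ⟨a, b⟩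
    · exfalso; rw [b, Nat.cast_inj, Nat.cast_inj] at hdeg; omega
    · exfalso; rw [b, Nat.cast_inj, Nat.cast_inj] at hdeg; omega
    · exfalso; rw [b, Nat.cast_inj, Nat.cast_inj] at hdeg; omega
    · obtain ⟨φ, -, rfl⟩ := Cfsg.Lib.TwoDim.mem_cuSet1.1 a
      exact Cfsg.Lib.TwoDim.cuQ_diag φ h01 hne
    · exfalso; rw [b, Nat.cast_inj, Nat.cast_inj] at hdeg; omega
    · exact (D.c_half a).diag_cu D.hchar h01 hne
  · rcases Cfsg.Lib.TwoDim.odd_cases D hχ with ⟨a, b⟩ | ⟨a, b⟩ | ⟨a, b⟩ | ⟨a, b⟩ | ⟨a, b⟩ | ⟨a, b⟩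
    · exfalso; rw [b, Nat.cast_inj, Nat.cast_inj] at hdeg; omega
    · exfalso; rw [b, Nat.cast_inj, Nat.cast_inj] at hdeg; omega
    · obtain ⟨α, -, rfl⟩ := Cfsg.Lib.TwoDim.mem_psSet1.1 a
      exact Cfsg.Lib.TwoDim.psR_no_eigen α hell
    · obtain ⟨φ, hφ, rfl⟩ := Cfsg.Lib.TwoDim.mem_cuSet1.1 a
      rw [b, Nat.cast_inj, Nat.cast_inj] at hdeg
      exact Cfsg.Lib.TwoDim.cuQ_three_elliptic (by omega) hφ hell
    · exact (D.p_half a).elliptic_ps D.hchar hell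
    · exfalso; rw [b, Nat.cast_inj, Nat.cast_inj] at hdeg; omega

end Cfsg.Agent.S2322
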