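import Cfsg.Statements.S2323
import Cfsg.Agent.Lib.TwoDim.SLValues
-- import your own Cfsg.Agent.* helpers here

set_option autoImplicit false
open Cfsg

namespace Cfsg.Agent.S2323


/-- Over a finite field F with q ≥ 4 elements, let u be the upper unitriangular matrix of SL₂ with off-diagonal entry 1. An irreducible complex character of SL₂ takes at u the value 1 if its degree is q + 1 and the value −1 if its degree is q − 1. -/
theorem result {F : Type*} [Field F] [Fintype F] (hq : 4 ≤ Fintype.card F) (χ : Matrix.SpecialLinearGroup (Fin 2) F → ℂ) (hχ : Cfsg.IsIrrCharacter (Matrix.SpecialLinearGroup (Fin 2) F) χ)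
    (u : Matrix.SpecialLinearGroup (Fin 2) F) (hu : (u : Matrix (Fin 2) (Fin 2) F) = !![1, 1; 0, 1]) :
    (χ 1 = (Fintype.card F : ℂ) + 1 → χ u = 1) ∧ (χ 1 = (Fintype.card F : ℂ) - 1 → χ u = -1) := by
  classical
  set q := Fintype.card F with hqd
  have e2 : ((q + 1 : ℕ) : ℂ) = (q : ℂ) + 1 := by push_cast; rfl
  have e3 : ((q - 1 : ℕ) : ℂ) = (q : ℂ) - 1 := by rw [Nat.cast_sub (by omega), Nat.cast_one]
  rw [← e2, ← e3]
  have u00 : (u : Matrix (Fin 2) (Fin 2) F) 0 0 = 1 := by simp [hu]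
  have u11 : (u : Matrix (Fin 2) (Fin 2) F) 1 1 = 1 := by simp [hu]
  have u10 : (u : Matrix (Fin 2) (Fin 2) F) 1 0 = 0 := by simp [hu]
  have u01 : (u : Matrix (Fin 2) (Fin 2) F) 0 1 ≠ 0 := by simp [hu]
  rcases Cfsg.Lib.TwoDim.sl_cases hχ with h | h | ⟨a, -, h⟩ | ⟨a, -, h⟩ | ⟨ho, a, -, -, h⟩ | ⟨ho, a, -, -, h⟩
  · rw [h, Cfsg.Lib.TwoDim.oneR_one, Nat.cast_inj, Nat.cast_inj]
    refine ⟨fun e => ?_, fun e => ?_⟩ <;> (exfalso; omega)
  · rw [h, Cfsg.Lib.TwoDim.stR_one, Nat.cast_inj, Nat.cast_inj]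
    refine ⟨fun e => ?_, fun e => ?_⟩ <;> (exfalso; omega)
  · rw [h]
    refine ⟨fun _ => Cfsg.Lib.TwoDim.psR_unip a u10 u00 u11 u01, fun e => ?_⟩
    rw [Cfsg.Lib.TwoDim.psR_one, Nat.cast_inj] at e
    exfalso; omega
  · rw [h]
    refine ⟨fun e => ?_, fun _ => Cfsg.Lib.TwoDim.cuQ_unip a u10 u00 u11 u01⟩
    rw [Cfsg.Lib.TwoDim.cuQ, Cfsg.Lib.TwoDim.cuR_one, Nat.cast_inj] at e
    exfalso; omega
  · rw [h.degree_ps ho, Nat.cast_inj, Nat.cast_inj]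
    refine ⟨fun e => ?_, fun e => ?_⟩ <;> (exfalso; omega)
  · rw [h.degree_cu ho, Nat.cast_inj, Nat.cast_inj]
    refine ⟨fun e => ?_, fun e => ?_⟩ <;> (exfalso; omega)

end Cfsg.Agent.S2323
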