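import Cfsg.Statements.S2324
import Cfsg.Agent.Lib.TwoDim.SLValues
-- import your own Cfsg.Agent.* helpers here

set_option autoImplicit false
open Cfsg

namespace Cfsg.Agent.S2324


/-- Over a finite field F with q elements, q odd and q ≥ 5, let u be the upper unitriangular matrix of SL₂ with off-diagonal entry 1 and let δ = (−1)^((q−1)/2). Every irreducible complex character χ of SL₂ of degree (q + 1)/2 satisfies (2χ(u) − 1)² = δq, and every irreducible complex character χ of degree (q − 1)/2 satisfies (2χ(u) + 1)² = δq; that is, χ(u) = (1 ± √(δq))/2 in the first case and χ(u) = (−1 ± √(δq))/2 in the second. Moreover two different irreducible characters of degree (q + 1)/2 take the two different values (their values at u add up to 1), and likewise for degree (q − 1)/2 (values adding up to −1). -/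
theorem result {F : Type*} [Field F] [Fintype F] (hodd : Odd (Fintype.card F)) (hq : 5 ≤ Fintype.card F)
    (u : Matrix.SpecialLinearGroup (Fin 2) F) (hu : (u : Matrix (Fin 2) (Fin 2) F) = !![1, 1; 0, 1]) :
    (∀ χ : Matrix.SpecialLinearGroup (Fin 2) F → ℂ, Cfsg.IsIrrCharacter (Matrix.SpecialLinearGroup (Fin 2) F) χ → χ 1 = (((Fintype.card F + 1) / 2 : ℕ) : ℂ) → (2 * χ u - 1) ^ 2 = (-1 : ℂ) ^ ((Fintype.card F - 1) / 2) * (Fintype.card F : ℂ)) ∧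
    (∀ χ : Matrix.SpecialLinearGroup (Fin 2) F → ℂ, Cfsg.IsIrrCharacter (Matrix.SpecialLinearGroup (Fin 2) F) χ → χ 1 = (((Fintype.card F - 1) / 2 : ℕ) : ℂ) → (2 * χ u + 1) ^ 2 = (-1 : ℂ) ^ ((Fintype.card F - 1) / 2) * (Fintype.card F : ℂ)) ∧
    (∀ χ₁ χ₂ : Matrix.SpecialLinearGroup (Fin 2) F → ℂ, Cfsg.IsIrrCharacter (Matrix.SpecialLinearGroup (Fin 2) F) χ₁ → Cfsg.IsIrrCharacter (Matrix.SpecialLinearGroup (Fin 2) F) χ₂ → χ₁ ≠ χ₂ →
      χ₁ 1 = (((Fintype.card F + 1) / 2 : ℕ) : ℂ) → χ₂ 1 = (((Fintype.card F + 1) / 2 : ℕ) : ℂ) → χ₁ u + χ₂ u = 1) ∧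
    (∀ χ₁ χ₂ : Matrix.SpecialLinearGroup (Fin 2) F → ℂ, Cfsg.IsIrrCharacter (Matrix.SpecialLinearGroup (Fin 2) F) χ₁ → Cfsg.IsIrrCharacter (Matrix.SpecialLinearGroup (Fin 2) F) χ₂ → χ₁ ≠ χ₂ →
      χ₁ 1 = (((Fintype.card F - 1) / 2 : ℕ) : ℂ) → χ₂ 1 = (((Fintype.card F - 1) / 2 : ℕ) : ℂ) → χ₁ u + χ₂ u = -1) := by
  classical
  set q := Fintype.card F with hqd
  obtain ⟨D⟩ := Cfsg.Lib.TwoDim.exists_halfData (F := F) hodd
  have huu : u = Cfsg.Lib.TwoDim.uu F := Subtype.ext hu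
  rw [huu]
  have hq2 : q % 2 = 1 := Nat.odd_iff.1 hodd
  have sp : ∀ χ : Matrix.SpecialLinearGroup (Fin 2) F → ℂ, Cfsg.IsIrrCharacter (Matrix.SpecialLinearGroup (Fin 2) F) χ →
      χ 1 = (((q + 1) / 2 : ℕ) : ℂ) → χ = D.p1 ∨ χ = D.p2 := by
    intro χ hχ hd
    rcases Cfsg.Lib.TwoDim.odd_cases D hχ with ⟨a, b⟩ | ⟨a, b⟩ | ⟨a, b⟩ | ⟨a, b⟩ | ⟨a, b⟩ | ⟨a, b⟩ <;>
      first | exact a | (rw [hd, Nat.cast_inj] at b; omega)
  have sc : ∀ χ : Matrix.SpecialLinearGroup (Fin 2) F → ℂ, Cfsg.IsIrrCharacter (Matrix.SpecialLinearGroup (Fin 2) F) χ →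
      χ 1 = (((q - 1) / 2 : ℕ) : ℂ) → χ = D.c1 ∨ χ = D.c2 := by
    intro χ hχ hd
    rcases Cfsg.Lib.TwoDim.odd_cases D hχ with ⟨a, b⟩ | ⟨a, b⟩ | ⟨a, b⟩ | ⟨a, b⟩ | ⟨a, b⟩ | ⟨a, b⟩ <;>
      first | exact a | (rw [hd, Nat.cast_inj] at b; omega)
  refine ⟨fun χ hχ hd => ?_, fun χ hχ hd => ?_, fun a b ha hb hne hda hdb => ?_, fun a b ha hb hne hda hdb => ?_⟩
  · rcases sp χ hχ hd with rfl | rfl
    exacts [(D.psplit.at_uu_ps hodd D.hν).2, (D.psplit.symm.at_uu_ps hodd D.hν).2]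
  · rcases sc χ hχ hd with rfl | rfl
    exacts [(D.csplit.at_uu_cu hodd D.hν).2, (D.csplit.symm.at_uu_cu hodd D.hν).2]
  · rcases sp a ha hda with rfl | rfl <;> rcases sp b hb hdb with rfl | rfl
    exacts [absurd rfl hne, (D.psplit.at_uu_ps hodd D.hν).1, (D.psplit.symm.at_uu_ps hodd D.hν).1, absurd rfl hne]
  · rcases sc a ha hda with rfl | rfl <;> rcases sc b hb hdb with rfl | rfl
    exacts [absurd rfl hne, (D.csplit.at_uu_cu hodd D.hν).1, (D.csplit.symm.at_uu_cu hodd D.hν).1, absurd rfl hne]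

end Cfsg.Agent.S2324
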