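import Cfsg.Statements.S2325
import Cfsg.Agent.Lib.Linear.TwoClasses

set_option autoImplicit false
open Cfsg

namespace Cfsg.Agent.S2325

open Cfsg.Agent.Lib.Linear.TwoClasses
open scoped MatrixGroups

/-- Over a finite field with q elements, q odd, the special linear group SL₂ has exactly q + 4 conjugacy classes. -/
theorem result {F : Type*} [Field F] [Fintype F] (hodd : Odd (Fintype.card F)) :
    Nat.card (ConjClasses (Matrix.SpecialLinearGroup (Fin 2) F)) = Fintype.card F + 4 := by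
  classical
  have h2 : ringChar F ≠ 2 := fun h => by
    have := FiniteField.even_card_of_char_two h
    rw [Nat.odd_iff] at hodd
    omega
  have h20 : (2 : F) ≠ 0 := Ring.two_ne_zero h2
  obtain ⟨a, ha⟩ := FiniteField.exists_nonsquare h2
  obtain ⟨ν, rfl⟩ : ∃ ν : Fˣ, (ν : F) = a := ⟨Units.mk0 a (fun h => ha (h ▸ IsSquare.zero)), rfl⟩
  choose S hS using fun c : {c : F // c ^ 2 = 1} => exists_scalar c.1 c.2
  let Φ : {c : F // c ^ 2 = 1} ⊕ ({t : F // t ^ 2 ≠ 4} ⊕ {t : F // t ^ 2 = 4} × Bool) → ConjClasses SL(2, F) :=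
    fun z => match z with
    | Sum.inl c => ConjClasses.mk (S c)
    | Sum.inr (Sum.inl t) => ConjClasses.mk (R t.1 1)
    | Sum.inr (Sum.inr x) => ConjClasses.mk (R x.1.1 (cond x.2 ν 1))
  have hbij : Function.Bijective Φ := by
    constructor
    · rintro (c | t | ⟨t, b⟩) (c' | t' | ⟨t', b'⟩) h <;>
        have h' := ConjClasses.mk_eq_mk_iff_isConj.mp h
      · exact congrArg Sum.inl (Subtype.ext (scalar_unique ((eq_of_isConj_smul (hS c) h').symm.trans (hS c'))))
      · exact absurd (eq_of_isConj_smul (hS c) h') (R_ne_smul _ _ _)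
      · exact absurd (eq_of_isConj_smul (hS c) h') (R_ne_smul _ _ _)
      · exact absurd (eq_of_isConj_smul (hS c') h'.symm) (R_ne_smul _ _ _)
      · exact congrArg (Sum.inr ∘ Sum.inl) (Subtype.ext (of_isConj_R h').1)
      · exact absurd ((of_isConj_R h').1 ▸ t'.2) t.2
      · exact absurd (eq_of_isConj_smul (hS c') h'.symm) (R_ne_smul _ _ _)
      · exact absurd ((of_isConj_R h').1.symm ▸ t.2) t'.2
      · obtain rfl : t = t' := Subtype.ext (of_isConj_R h').1
        cases b <;> cases b'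
        · rfl
        · exact absurd h'.symm (not_isConj_R h2 ν ha _ t.2)
        · exact absurd h' (not_isConj_R h2 ν ha _ t.2)
        · rfl
    · intro C
      obtain ⟨A, rfl⟩ := ConjClasses.exists_rep C
      by_cases hA : ∃ c : F, (A : Matrix (Fin 2) (Fin 2) F) = c • 1
      · obtain ⟨c, hc⟩ := hA
        refine ⟨Sum.inl ⟨c, R_one_spec A c hc⟩, congrArg ConjClasses.mk (Subtype.ext ?_)⟩
        rw [hc]
        exact hS _
      · rcases exists_normal_form h2 ν ha A (fun c hc => hA ⟨c, hc⟩) with h | ⟨ht, h⟩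
        · by_cases ht : (A : Matrix (Fin 2) (Fin 2) F).trace ^ 2 = 4
          · exact ⟨Sum.inr (Sum.inr (⟨_, ht⟩, false)), ConjClasses.mk_eq_mk_iff_isConj.mpr h.symm⟩
          · exact ⟨Sum.inr (Sum.inl ⟨_, ht⟩), ConjClasses.mk_eq_mk_iff_isConj.mpr h.symm⟩
        · exact ⟨Sum.inr (Sum.inr (⟨_, ht⟩, true)), ConjClasses.mk_eq_mk_iff_isConj.mpr h.symm⟩
  have hpair : ∀ b d : F, b ≠ 0 → b ^ 2 = d → Nat.card {c : F // c ^ 2 = d} = 2 := by
    intro b d hb hd
    have : {c : F | c ^ 2 = d} = {b, -b} := by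
      ext c
      simp [← hd, sq_eq_sq_iff_eq_or_eq_neg]
    show Nat.card ↥{c : F | c ^ 2 = d} = 2
    rw [this, Nat.card_coe_set_eq, Set.ncard_pair]
    intro h
    have : 2 * b = 0 := by linear_combination h
    exact (mul_ne_zero h20 hb) this
  have h4 := hpair 2 4 h20 (by norm_num)
  have hsum := Nat.card_congr (Equiv.sumCompl (fun t : F => t ^ 2 = 4))
  rw [Nat.card_sum, h4, Nat.card_eq_fintype_card (α := F)] at hsum
  rw [← Nat.card_eq_of_bijective Φ hbij, Nat.card_sum, Nat.card_sum, Nat.card_prod, h4,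
    hpair 1 1 one_ne_zero (one_pow 2), Nat.card_eq_fintype_card (α := Bool), Fintype.card_bool]
  simp only [ne_eq] at *
  omega

end Cfsg.Agent.S2325
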