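import Cfsg.Statements.S2329
import Cfsg.Agent.Lib.Concrete.SL2Unipotent

set_option autoImplicit false
open Cfsg Cfsg.Lib.Concrete

namespace Cfsg.Agent.S2329

/-- Over a finite field of characteristic p, any two elements of order p of GL₂ are conjugate: there is a single conjugacy class of non-identity unipotent elements. -/
theorem result {F : Type*} [Field F] [Fintype F] (p : ℕ) [Fact p.Prime] [CharP F p] (g h : Matrix.GeneralLinearGroup (Fin 2) F)
    (hg : orderOf g = p) (hh : orderOf h = p) : IsConj g h := by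
  have key : ∀ x : Matrix.GeneralLinearGroup (Fin 2) F, orderOf x = p →
      ∃ P : Matrix (Fin 2) (Fin 2) F, P.det ≠ 0 ∧ (x : Matrix (Fin 2) (Fin 2) F) * P = P * !![1, 1; 0, 1] := by
    intro x hx
    have hp : (x : Matrix (Fin 2) (Fin 2) F) ^ p = 1 := by
      rw [← Units.val_pow_eq_pow_val, ← hx, pow_orderOf_eq_one, Units.val_one]
    refine exists_conj_std (sub_one_sq_eq_zero_of_pow p hp) fun h1 => ?_
    have : x = 1 := Units.ext h1
    rw [this, orderOf_one] at hx
    exact (Fact.out : p.Prime).ne_one hx.symm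
  obtain ⟨P, hP, hPg⟩ := key g hg
  obtain ⟨R, hR, hRh⟩ := key h hh
  let Pu := Matrix.GeneralLinearGroup.mkOfDetNeZero P hP
  let Ru := Matrix.GeneralLinearGroup.mkOfDetNeZero R hR
  let u : Matrix.GeneralLinearGroup (Fin 2) F := Matrix.GeneralLinearGroup.mkOfDetNeZero !![(1 : F), 1; 0, 1] (by simp [Matrix.det_fin_two_of])
  have eP : g * Pu = Pu * u := Units.ext hPg
  have eR : h * Ru = Ru * u := Units.ext hRh
  have hg' : g = Pu * u * Pu⁻¹ := by rw [← eP, mul_inv_cancel_right]
  have hh' : h = Ru * u * Ru⁻¹ := by rw [← eR, mul_inv_cancel_right]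
  rw [isConj_iff]
  refine ⟨Ru * Pu⁻¹, ?_⟩
  rw [hg', hh']
  group

end Cfsg.Agent.S2329
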