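import Cfsg.Statements.S2330
import Cfsg.Agent.Lib.Linear.TwoClasses

set_option autoImplicit false
open Cfsg

namespace Cfsg.Agent.S2330

open Cfsg.Agent.Lib.Linear.TwoClasses
open scoped MatrixGroups

/-- Over a finite field with q elements, the general linear group GL₂ has exactly q² − 1 conjugacy classes. -/
theorem result {F : Type*} [Field F] [Fintype F] :
    Nat.card (ConjClasses (Matrix.GeneralLinearGroup (Fin 2) F)) = Fintype.card F ^ 2 - 1 := by
  classical
  let Φ : Fˣ ⊕ (F × Fˣ) → ConjClasses (GL (Fin 2) F) := fun z => match z with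
    | Sum.inl c => ConjClasses.mk (Matrix.GeneralLinearGroup.mkOfDetNeZero ((c : F) • 1)
        (by rw [Matrix.det_smul, Matrix.det_one, mul_one]; exact pow_ne_zero _ c.ne_zero))
    | Sum.inr x => ConjClasses.mk (Matrix.GeneralLinearGroup.mkOfDetNeZero (cmp x.1 (x.2 : F))
        (by rw [det_cmp]; exact x.2.ne_zero))
  have conj : ∀ {g h : GL (Fin 2) F}, IsConj g h → ∃ P : Matrix (Fin 2) (Fin 2) F, P.det ≠ 0 ∧
      P * (g : Matrix (Fin 2) (Fin 2) F) = (h : Matrix (Fin 2) (Fin 2) F) * P := by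
    intro g h hgh
    obtain ⟨c, hc⟩ := isConj_iff.mp hgh
    exact ⟨c, ((Matrix.isUnit_iff_isUnit_det _).mp c.isUnit).ne_zero,
      congrArg Units.val (mul_inv_eq_iff_eq_mul.mp hc)⟩
  have hbij : Function.Bijective Φ := by
    constructor
    · rintro (c | ⟨t, d⟩) (c' | ⟨t', d'⟩) h <;>
        obtain ⟨P, hP, hPc⟩ := conj (ConjClasses.mk_eq_mk_iff_isConj.mp h)
      · exact congrArg Sum.inl (Units.ext (scalar_unique (eq_smul_of_semiconj hP hPc)).symm)
      · exact absurd (eq_smul_of_semiconj hP hPc) (cmp_ne_smul _ _ _)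
      · obtain ⟨P, hP, hPc⟩ := conj (ConjClasses.mk_eq_mk_iff_isConj.mp h).symm
        exact absurd (eq_smul_of_semiconj hP hPc) (cmp_ne_smul _ _ _)
      · obtain ⟨h1, h2⟩ := trace_of_semiconj hP hPc
        change (cmp t (d : F)).trace = (cmp t' (d' : F)).trace at h1
        change (cmp t (d : F)).det = (cmp t' (d' : F)).det at h2
        rw [trace_cmp, trace_cmp] at h1
        rw [det_cmp, det_cmp] at h2
        rw [h1, Units.ext h2]
    · intro C
      obtain ⟨A, rfl⟩ := ConjClasses.exists_rep C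
      have hd := ((Matrix.isUnit_iff_isUnit_det _).mp A.isUnit).ne_zero
      by_cases hA : ∃ c : F, (A : Matrix (Fin 2) (Fin 2) F) = c • 1
      · obtain ⟨c, hc⟩ := hA
        have hc0 : c ≠ 0 := fun h => hd (by rw [hc, h]; simp)
        exact ⟨Sum.inl (Units.mk0 c hc0), congrArg ConjClasses.mk (Units.ext hc.symm)⟩
      · obtain ⟨v, hv⟩ := exists_cyc (A : Matrix (Fin 2) (Fin 2) F) fun c hc => hA ⟨c, hc⟩
        refine ⟨Sum.inr ((A : Matrix (Fin 2) (Fin 2) F).trace, Units.mk0 _ hd),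
          ConjClasses.mk_eq_mk_iff_isConj.mpr (isConj_iff.mpr
            ⟨Matrix.GeneralLinearGroup.mkOfDetNeZero _ hv, mul_inv_eq_iff_eq_mul.mpr (Units.ext ?_)⟩)⟩
        exact (mul_cyc _ v).symm
  rw [← Nat.card_eq_of_bijective Φ hbij, Nat.card_sum, Nat.card_prod, Nat.card_units,
    Nat.card_eq_fintype_card]
  obtain ⟨k, hk⟩ : ∃ k, Fintype.card F = k + 1 := ⟨Fintype.card F - 1, by have := Fintype.card_pos (α := F); omega⟩
  rw [hk, Nat.add_sub_cancel]
  exact (Nat.sub_eq_of_eq_add (by ring)).symm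

end Cfsg.Agent.S2330
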