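import Cfsg.Statements.S2331
import Cfsg.Agent.Lib.Linear.TwoClasses

set_option autoImplicit false
open Cfsg

namespace Cfsg.Agent.S2331

open Cfsg.Agent.Lib.Linear.TwoClasses
open scoped MatrixGroups

/-- Over a finite field with q elements, q even, the special linear group SL₂ has exactly q + 1 conjugacy classes. -/
theorem result {F : Type*} [Field F] [Fintype F] [CharP F 2] :
    Nat.card (ConjClasses (Matrix.SpecialLinearGroup (Fin 2) F)) = Fintype.card F + 1 := by
  classical
  have h20 : (2 : F) = 0 := by exact_mod_cast CharP.cast_eq_zero F 2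
  have hsq : ∀ c : F, c ^ 2 = 1 → c = 1 := fun c hc => by
    rcases sq_eq_one_iff.mp hc with h | h
    · exact h
    · rw [h, CharTwo.neg_eq]
  have key : ∀ A : SL(2, F), (∀ c : F, (A : Matrix (Fin 2) (Fin 2) F) ≠ c • 1) →
      IsConj A (R (A : Matrix (Fin 2) (Fin 2) F).trace 1) := by
    intro A hA
    obtain ⟨δ, hδ⟩ := exists_isConj_R A hA
    obtain ⟨s, hs⟩ := FiniteField.isSquare_of_char_two (ringChar.eq F 2) (↑δ⁻¹ : F)
    have hs' : s ^ 2 = (↑δ⁻¹ : F) := by rw [hs, pow_two]
    refine hδ s 0 ?_ 1 ?_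
    · simp [hs']
    · simp [hs']
  let Φ : Option F → ConjClasses SL(2, F) := fun z => match z with
    | none => ConjClasses.mk 1
    | some t => ConjClasses.mk (R t 1)
  have h1 : ((1 : SL(2, F)) : Matrix (Fin 2) (Fin 2) F) = (1 : F) • 1 := by simp
  have hbij : Function.Bijective Φ := by
    constructor
    · rintro (_ | t) (_ | t') h <;> have h' := ConjClasses.mk_eq_mk_iff_isConj.mp h
      · rfl
      · exact absurd (eq_of_isConj_smul h1 h') (R_ne_smul _ _ _)
      · exact absurd (eq_of_isConj_smul h1 h'.symm) (R_ne_smul _ _ _)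
      · exact congrArg some (of_isConj_R h').1
    · intro C
      obtain ⟨A, rfl⟩ := ConjClasses.exists_rep C
      by_cases hA : ∃ c : F, (A : Matrix (Fin 2) (Fin 2) F) = c • 1
      · obtain ⟨c, hc⟩ := hA
        refine ⟨none, congrArg ConjClasses.mk (Subtype.ext ?_)⟩
        rw [hc, hsq c (R_one_spec A c hc), h1]
      · exact ⟨some _, ConjClasses.mk_eq_mk_iff_isConj.mpr (key A fun c hc => hA ⟨c, hc⟩).symm⟩
  rw [← Nat.card_eq_of_bijective Φ hbij, Finite.card_option, Nat.card_eq_fintype_card]

end Cfsg.Agent.S2331
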