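import Cfsg.Statements.S2333
import Cfsg.Agent.Lib.Linear.SpEven.MinDegree

set_option autoImplicit false
open Cfsg

namespace Cfsg.Agent.S2333

/-- For a finite field F of even order q and n ≥ 2 with (n, q) ≠ (2, 2), every irreducible complex representation of the symplectic group Sp_{2n}(F) of degree at least 2 has degree at least (q^n − 1)(q^n − q)/(2(q + 1)). -/
theorem result {F : Type*} [Field F] [Fintype F] [DecidableEq F] (n : ℕ) (hn : 2 ≤ n) (heven : Even (Fintype.card F)) (hex : (n, Fintype.card F) ≠ (2, 2)) :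
    (∀ (k : ℕ) (ρ : Representation ℂ (Matrix.symplecticGroup (Fin n) F) (Fin k → ℂ)), ρ.IsIrreducible → 2 ≤ k → (Fintype.card F ^ n - 1) * (Fintype.card F ^ n - Fintype.card F) / (2 * (Fintype.card F + 1)) ≤ k) := by
  intro k ρ hρ hk
  haveI : CharP F 2 := by
    obtain ⟨p, hp⟩ := CharP.exists F
    haveI : Fact p.Prime := ⟨CharP.char_is_prime F p⟩
    obtain ⟨j, hp', hj⟩ := FiniteField.card F p
    have h2 : 2 ∣ p := Nat.prime_two.dvd_of_dvd_pow (hj ▸ heven.two_dvd)
    obtain rfl : p = 2 := ((Nat.prime_dvd_prime_iff_eq Nat.prime_two hp').1 h2).symm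
    exact hp
  have hsimp : 3 ≤ n ∨ (2 ≤ n ∧ 2 < Fintype.card F) := by
    rcases eq_or_lt_of_le hn with h | h
    · refine Or.inr ⟨hn, ?_⟩
      have h1 := Fintype.one_lt_card (α := F)
      by_contra h2
      exact hex (by rw [← h, show Fintype.card F = 2 by omega])
    · exact Or.inl h
  have hne : ∃ g, ρ g ≠ 1 := by
    by_contra hno
    push Not at hno
    haveI := hρ
    obtain ⟨U, hU⟩ : ∃ U : Submodule ℂ (Fin k → ℂ), U = Submodule.span ℂ {Pi.single ⟨0, by omega⟩ 1} := ⟨_, rfl⟩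
    obtain ⟨W, hW⟩ : ∃ W : Subrepresentation ρ, W.toSubmodule = U :=
      ⟨⟨U, fun g v hv => by rw [hno g]; exact hv⟩, rfl⟩
    rcases IsSimpleOrder.eq_bot_or_eq_top W with h | h
    · have h0 : U = ⊥ := by rw [← hW, h]; rfl
      have : (Pi.single (⟨0, by omega⟩ : Fin k) (1 : ℂ) : Fin k → ℂ) ∈ U :=
        hU ▸ Submodule.subset_span rfl
      rw [h0, Submodule.mem_bot, Pi.single_eq_zero_iff] at this
      exact one_ne_zero this
    · have h0 : U = ⊤ := by rw [← hW, h]; rfl
      have h1 := finrank_span_singleton (K := ℂ)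
        (show (Pi.single (⟨0, by omega⟩ : Fin k) (1 : ℂ) : Fin k → ℂ) ≠ 0 by simp)
      rw [← hU, h0, finrank_top, Module.finrank_fin_fun] at h1
      omega
  have h := Cfsg.Lib.Linear.SpEven.degree_ge hn hsimp ρ hne
  refine Nat.div_le_of_le_mul (le_trans (le_of_eq ?_) h)
  have : Fintype.card F ^ n - Fintype.card F = Fintype.card F * (Fintype.card F ^ (n - 1) - 1) := by
    rw [Nat.mul_sub, mul_one, ← pow_succ', Nat.sub_add_cancel (by omega : 1 ≤ n)]
  rw [this]
  ring

end Cfsg.Agent.S2333
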