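import Cfsg.Statements.S2334
import Cfsg.Agent.Lib.Linear.SUDegree.Main

set_option autoImplicit false
open Cfsg

namespace Cfsg.Agent.S2334

/-- For odd n ≥ 3 and a finite field F with q² elements, (n, q) ≠ (3, 2), every irreducible complex representation of the special unitary group SU_n(q) (the determinant-one isometries of the standard Hermitian form over F) of degree at least 2 has degree at least (q^n − q)/(q + 1). -/
theorem result {F : Type*} [Field F] [Fintype F] [DecidableEq F] (n q : ℕ) (hn : 3 ≤ n) (hodd : Odd n) (hF : Fintype.card F = q ^ 2) (hex : (n, q) ≠ (3, 2)) :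
    (∀ (k : ℕ) (ρ : Representation ℂ (Cfsg.SU n F q) (Fin k → ℂ)), ρ.IsIrreducible → 2 ≤ k → (q ^ n - q) / (q + 1) ≤ k) := by
  intro d ρ hρ hk
  haveI := hρ
  obtain ⟨j, hj⟩ := hodd
  obtain ⟨k, rfl⟩ : ∃ k, j = k + 1 := ⟨j - 1, by omega⟩
  have hq := Cfsg.Lib.Linear.Herm.two_le_q hF
  have hnormal : 4 ≤ n ∨ (n = 3 ∧ 3 ≤ q) := by
    rcases eq_or_lt_of_le hn with h | h
    · refine Or.inr ⟨h.symm, ?_⟩
      by_contra h2
      exact hex (by rw [← h, show q = 2 by omega])
    · exact Or.inl h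
  have h := Cfsg.Lib.Linear.SUDegree.degree_ge (k := k) (ε := 1) hF (show n = k + 1 + (k + 1) + 1 by omega) hnormal
    (Or.inl rfl) ρ (Cfsg.Lib.Linear.SUDegree.exists_apply_ne_one ρ hk)
  refine Nat.div_le_of_le_mul (le_trans (le_of_eq ?_) h)
  rw [Nat.mul_sub, pow_one, mul_one, ← pow_succ', show 2 * (k + 1) + 1 = n by omega]

end Cfsg.Agent.S2334
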