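import Cfsg.Statements.S2336
import Cfsg.Agent.Lib.TwoDim.VectorChar
-- import your own Cfsg.Agent.* helpers here

set_option autoImplicit false
open Cfsg

namespace Cfsg.Agent.S2336


/-- Let F be a finite field with q elements and n ≥ 3. The permutation character of SL_n(F) on the non-zero vectors of F^n (the function sending a matrix to the number of non-zero vectors it fixes) is the sum of the principal character and q − 1 pairwise distinct irreducible complex characters. -/
theorem result {F : Type*} [Field F] [Fintype F] [DecidableEq F] (n : ℕ) (hn : 3 ≤ n) :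
    ∃ χ : Fin (Fintype.card F - 1) → (Matrix.SpecialLinearGroup (Fin n) F → ℂ),
      (∀ i, Cfsg.IsIrrCharacter (Matrix.SpecialLinearGroup (Fin n) F) (χ i)) ∧ Function.Injective χ ∧
      ∀ g : Matrix.SpecialLinearGroup (Fin n) F,
        (Nat.card {v : Fin n → F // v ≠ 0 ∧ (g : Matrix (Fin n) (Fin n) F).mulVec v = v} : ℂ) = 1 + ∑ i, χ i g := by
  have : Fact (3 ≤ n) := ⟨hn⟩
  classical
  obtain ⟨χ, hirr, hinj, hsum⟩ := Cfsg.Lib.TwoDim.VectorChar.decomposition (F := F) (n := n)
  have hcard : Fintype.card (Fin (Fintype.card F - 1)) = Fintype.card (Fˣ →* ℂˣ) := by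
    rw [Fintype.card_fin, ← Nat.card_eq_fintype_card (α := Fˣ →* ℂˣ),
      CommGroup.card_monoidHom_of_hasEnoughRootsOfUnity, Nat.card_eq_fintype_card, Fintype.card_units]
  let e := Fintype.equivOfCardEq hcard
  refine ⟨fun i => χ (e i), fun i => hirr _, hinj.comp e.injective, fun g => ?_⟩
  rw [e.sum_comp fun θ => χ θ g, ← hsum g]
  congr 1
  refine (Nat.card_congr (Equiv.subtypeSubtypeEquivSubtypeInter _
    (fun v : Fin n → F => (g : Matrix (Fin n) (Fin n) F).mulVec v = v)).symm).trans ?_
  exact Nat.subtype_card _ fun v =>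
    ⟨fun h => (Finset.mem_filter.1 h).2.trans (one_smul F v.1),
      fun h => Finset.mem_filter.2 ⟨Finset.mem_univ _, h.trans (one_smul F v.1).symm⟩⟩

end Cfsg.Agent.S2336
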