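import Mathlib
import Cfsg.Prelude.Def_Sz
import Cfsg.Agent.Lib.Linear.Suzuki.LieForm
import Cfsg.Agent.Lib.Linear.Suzuki.Struct

/-!
# The least degree of a representation of a Suzuki group

On an eigenspace of the central unipotent elements for a non-trivial character the unipotent
elements act through a nearly non-degenerate commutator pairing, so the eigenspace has dimension at
least `2 ^ m`; the diagonal elements permute the `q - 1` non-trivial characters transitively.
-/

set_option autoImplicit false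

namespace Cfsg.Agent.S2337

open Cfsg.Lib.Linear.Suz

section Core

variable {F : Type*} [Field F] [Fintype F] {m : ℕ} (h : Params F m)

theorem exists_character (h : Params F m) : ∃ ψ : F → ℂ, (∀ x y, ψ (x + y) = ψ x * ψ y) ∧ (∀ x, ψ x * ψ x = 1) ∧
    (∀ a, a ≠ 0 → ∃ b, ψ (a * b) ≠ 1) ∧ (∀ x, ψ (th m x) = ψ x) ∧
    ∃ A : Finset F, A.card = 2 ^ (2 * m) ∧ ∀ a ∈ A, ∀ b ∈ A, a + b ≠ 1 := by
  classical
  haveI := charP_two h
  letI : Algebra (ZMod 2) F := ZMod.algebra F 2
  obtain ⟨T, hT⟩ : ∃ T : F →ₗ[ZMod 2] ZMod 2, T = Algebra.trace (ZMod 2) F := ⟨_, rfl⟩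
  obtain ⟨s, hs⟩ : ∃ s : ZMod 2 → ℂ, s = fun z => if z = 0 then 1 else -1 := ⟨_, rfl⟩
  have hs1 : ∀ z w, s (z + w) = s z * s w := fun z w => by
    rcases (show ∀ z : ZMod 2, z = 0 ∨ z = 1 by decide) z with rfl | rfl <;>
      rcases (show ∀ z : ZMod 2, z = 0 ∨ z = 1 by decide) w with rfl | rfl <;>
      simp [hs, show (1 : ZMod 2) + 1 = 0 from rfl]
  have hsq : ∀ x : F, T (x ^ 2) = T x := fun x => by
    have := Algebra.trace_eq_of_algEquiv (FiniteField.frobeniusAlgEquiv (ZMod 2) F 2) x
    rw [hT]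
    simpa [ZMod.card] using this
  have hpow : ∀ (n : ℕ) (x : F), T (x ^ 2 ^ n) = T x := fun n => by
    induction n with
    | zero => intro x; rw [pow_zero, pow_one]
    | succ n ih => intro x; rw [pow_succ, pow_mul, hsq, ih]
  have hnd : ∀ a : F, a ≠ 0 → ∃ b, T (a * b) ≠ 0 := fun a ha => by
    have htr := (traceForm_nondegenerate (ZMod 2) F).1 a
    simp_rw [Algebra.traceForm_apply] at htr
    by_contra! hf
    exact ha (htr fun b => hT ▸ hf b)
  have hsne : ∀ z, z ≠ 0 → s z ≠ 1 := fun z hz => by simp [hs, hz]; norm_num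
  refine ⟨fun x => s (T x), fun x y => by simp only [map_add, hs1], fun x => ?_,
    fun a ha => (hnd a ha).imp fun b hb => hsne _ hb, fun x => congrArg s (hpow (m + 1) x),
    Finset.univ.filter fun x => T x = 0, ?_, fun a ha b hb e => ?_⟩
  · rw [← hs1, show T x + T x = 0 from (by decide : ∀ z : ZMod 2, z + z = 0) _]
    simp [hs]
  · obtain ⟨u, hu⟩ := hnd 1 one_ne_zero
    have hsurj : Function.Surjective T.toAddMonoidHom := fun z => by
      rcases (show ∀ z : ZMod 2, z = 0 ∨ z = 1 by decide) z with rfl | rfl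
      · exact ⟨0, map_zero T⟩
      · refine ⟨u, ?_⟩
        rw [one_mul] at hu
        exact ((show ∀ z : ZMod 2, z = 0 ∨ z = 1 by decide) (T u)).resolve_left hu
    have hc := T.toAddMonoidHom.ker.index_mul_card
    rw [AddSubgroup.index_ker, AddMonoidHom.range_eq_top.mpr hsurj, AddSubgroup.card_top, Nat.card_zmod,
      Nat.card_eq_fintype_card (α := F), h.card, pow_succ'] at hc
    rw [← Nat.eq_of_mul_eq_mul_left two_pos hc, Nat.card_eq_fintype_card,
      ← Fintype.card_coe]
    exact Fintype.card_congr (Equiv.subtypeEquivRight fun x => by simp [AddMonoidHom.mem_ker])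
  · simp only [Finset.mem_filter, Finset.mem_univ, true_and] at ha hb
    obtain ⟨u, hu⟩ := hnd 1 one_ne_zero
    rw [one_mul] at hu
    -- the trace of one is the degree, which is odd
    have h1 : T 1 = 1 := by
      have hd : Module.finrank (ZMod 2) F = 2 * m + 1 := by
        have := Module.card_eq_pow_finrank (K := ZMod 2) (V := F)
        rw [h.card, ZMod.card] at this
        exact (Nat.pow_right_injective le_rfl this).symm
      rw [hT, ← map_one (algebraMap (ZMod 2) F), Algebra.trace_algebraMap, hd, nsmul_one]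
      push_cast
      rw [show (2 : ZMod 2) = 0 from rfl, zero_mul, zero_add]
    have := congrArg T e
    rw [map_add, ha, hb, h1] at this
    exact absurd this (by decide)

variable {V : Type*} [AddCommGroup V] [Module ℂ V] [FiniteDimensional ℂ V]

include h in
theorem degree_bound (σ : ↥(Cfsg.Sz F m) →* Module.End ℂ V) (hσ : Function.Injective σ) :
    2 ^ m * (2 ^ (2 * m + 1) - 1) ≤ Module.finrank ℂ V := by
  classical
  obtain ⟨ψ, hadd, hsq, hnd, hth, A, hA, hA1⟩ := exists_character h
  have hψ0 : ψ 0 = 1 := by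
    have := hadd 0 0
    rw [add_zero, hsq] at this
    exact this
  have hψne : ∀ x, ψ x ≠ 0 := fun x e => by simpa [e] using hsq x
  obtain ⟨z, hz⟩ : ∃ z : F → Module.End ℂ V, z = fun c => σ (uS h 0 c) := ⟨_, rfl⟩
  have hzadd : ∀ b c, z b * z c = z (b + c) := fun b c => by
    rw [hz]; simp only
    rw [← map_mul, uS_mul h, add_zero, mul_zero, add_zero]
  have hz0 : z 0 = 1 := by rw [hz]; simp only; rw [uS_zero h, map_one]
  obtain ⟨q, hq⟩ : ∃ q : ℂ, q = (Fintype.card F : ℂ) := ⟨_, rfl⟩
  have hq0 : q ≠ 0 := by rw [hq]; exact_mod_cast Fintype.card_ne_zero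
  have hsum : ∀ d : F, ∑ c, ψ (d * c) = if d = 0 then q else 0 := fun d => by
    split_ifs with hd
    · subst hd
      simp [hψ0, hq]
    · obtain ⟨b, hb⟩ := hnd d hd
      have e : ψ (d * b) * ∑ c, ψ (d * c) = ∑ c, ψ (d * c) := by
        rw [Finset.mul_sum]
        exact Fintype.sum_equiv (Equiv.addLeft b) _ _ fun c => by
          rw [Equiv.coe_addLeft, mul_add, hadd]
      by_contra hne
      exact hb ((mul_eq_right₀ hne).mp e)
  obtain ⟨e, he⟩ : ∃ e : F → Module.End ℂ V, e = fun d => q⁻¹ • ∑ c, ψ (d * c) • z c := ⟨_, rfl⟩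
  have hze : ∀ b d, z b * e d = ψ (d * b) • e d := fun b d => by
    rw [he]; simp only
    rw [mul_smul_comm, Finset.mul_sum, smul_comm (ψ (d * b))]
    congr 1
    rw [Finset.smul_sum]
    refine Fintype.sum_equiv (Equiv.addLeft b) _ _ fun c => ?_
    rw [Equiv.coe_addLeft, mul_smul_comm, hzadd, smul_smul, mul_add, hadd, ← mul_assoc, hsq, one_mul]
  have hee : ∀ d d', e d' * e d = if d' = d then e d else 0 := fun d d' => by
    conv_lhs => arg 1; rw [he]
    simp only [smul_mul_assoc, Finset.sum_mul, hze, smul_smul]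
    rw [← Finset.sum_smul, smul_smul]
    have : ∀ c, ψ (d' * c) * ψ (d * c) = ψ ((d' + d) * c) := fun c => by rw [← hadd, add_mul]
    simp only [this, hsum]
    by_cases hd : d' = d
    · rw [if_pos hd, if_pos (by rw [hd]; exact add_self h d), inv_mul_cancel₀ hq0, one_smul]
    · rw [if_neg hd, if_neg (fun e' => hd (by linear_combination e' - d * two_eq h)), mul_zero, zero_smul]
  have hone : ∑ d, e d = 1 := by
    rw [he]; simp only
    rw [← Finset.smul_sum, Finset.sum_comm]
    have hs' : ∀ c, ∑ d, ψ (d * c) = if c = 0 then q else 0 := fun c => by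
      simp only [mul_comm _ c, hsum]
    simp only [← Finset.sum_smul, hs', ite_smul, zero_smul, Finset.sum_ite_eq', Finset.mem_univ, if_true]
    rw [hz0, smul_smul, inv_mul_cancel₀ hq0, one_smul]
  have hproj : ∀ d, LinearMap.IsProj (LinearMap.range (e d)) (e d) := fun d =>
    ⟨fun v => ⟨v, rfl⟩, by
      rintro _ ⟨v, rfl⟩
      rw [← Module.End.mul_apply, hee, if_pos rfl]⟩
  have htr : ∀ d, LinearMap.trace ℂ V (e d) = (Module.finrank ℂ ↥(LinearMap.range (e d)) : ℂ) := fun d =>
    (hproj d).trace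
  -- all non-trivial eigenspaces have the same dimension
  have hconj : ∀ d, d ≠ 0 → LinearMap.trace ℂ V (e d) = LinearMap.trace ℂ V (e 1) := fun d hd => by
    obtain ⟨l₀, hl⟩ := mul_th_surjective h d⁻¹
    have hl0 : l₀ ≠ 0 := fun e0 => inv_ne_zero hd (by rw [← hl, e0, zero_mul])
    obtain ⟨l, rfl⟩ : ∃ l : Fˣ, (l : F) = l₀ := ⟨Units.mk0 l₀ hl0, rfl⟩
    have key : σ (dS h l) * e 1 = e d * σ (dS h l) := by
      rw [he]; simp only
      rw [mul_smul_comm, smul_mul_assoc, Finset.mul_sum, Finset.sum_mul]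
      congr 1
      refine Fintype.sum_equiv (Equiv.mulLeft₀ d⁻¹ (inv_ne_zero hd)) _ _ fun c => ?_
      rw [Equiv.mulLeft₀_apply, mul_inv_cancel_left₀ hd, one_mul, mul_smul_comm, smul_mul_assoc, hz]
      simp only
      rw [← map_mul, ← map_mul, dS_mul_uS h, mul_zero, hl]
    calc LinearMap.trace ℂ V (e d) = LinearMap.trace ℂ V (σ (dS h l)⁻¹ * (e d * σ (dS h l))) := by
          rw [LinearMap.trace_mul_comm, mul_assoc, ← map_mul, mul_inv_cancel, map_one, mul_one]
      _ = _ := by rw [← key, ← mul_assoc, ← map_mul, inv_mul_cancel, map_one, one_mul]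
  obtain ⟨r, hr⟩ : ∃ r, r = Module.finrank ℂ ↥(LinearMap.range (e 1)) := ⟨_, rfl⟩
  have hk : (2 ^ (2 * m + 1) - 1) * r ≤ Module.finrank ℂ V := by
    have h1 : ∀ d, Module.finrank ℂ ↥(LinearMap.range (e d)) =
        if d = 0 then Module.finrank ℂ ↥(LinearMap.range (e 0)) else r := fun d => by
      split_ifs with hd
      · rw [hd]
      · have := hconj d hd
        rw [htr, htr, Nat.cast_inj] at this
        rw [hr, this]
    have h2 : Module.finrank ℂ V = ∑ d, Module.finrank ℂ ↥(LinearMap.range (e d)) := by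
      have h3 := congrArg (LinearMap.trace ℂ V) hone
      rw [map_sum, LinearMap.trace_one] at h3
      simp only [htr] at h3
      exact_mod_cast h3.symm
    rw [h2, ← Finset.add_sum_erase _ _ (Finset.mem_univ (0 : F)),
      Finset.sum_congr rfl fun d hd => (h1 d).trans (if_neg (Finset.ne_of_mem_erase hd)), Finset.sum_const,
      Finset.card_erase_of_mem (Finset.mem_univ _), Finset.card_univ, h.card, smul_eq_mul]
    exact Nat.le_add_left _ _
  have hrpos : r ≠ 0 := fun hr0 => by
    have hez : ∀ d, d ≠ 0 → e d = 0 := fun d hd => by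
      rw [← LinearMap.range_eq_bot, ← Submodule.finrank_eq_zero (R := ℂ)]
      have := hconj d hd
      rw [htr, htr, Nat.cast_inj, ← hr, hr0] at this
      exact this
    have h0 : e 0 = 1 := by
      rw [← hone, Finset.sum_eq_single (0 : F) (fun d _ hd => hez d hd) (by simp)]
    have := hze 1 0
    rw [h0, mul_one, zero_mul, hψ0, one_smul, hz] at this
    simp only at this
    have h1 : uS h (0 : F) 1 = 1 := hσ (by rw [this, map_one])
    rw [← uS_zero h] at h1
    exact one_ne_zero (uS_inj h h1).2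
  obtain ⟨W, hW⟩ : ∃ W, W = LinearMap.range (e 1) := ⟨_, rfl⟩
  rw [← hW] at hr
  -- the unipotent elements act on the eigenspace
  have hcomm : ∀ g : ↥(Cfsg.Sz F m), (∀ c, g * uS h 0 c = uS h 0 c * g) → ∀ v ∈ W, σ g v ∈ W := by
    rintro g hg _ hv
    rw [hW] at hv ⊢
    obtain ⟨v, rfl⟩ := hv
    refine ⟨σ g v, ?_⟩
    rw [← Module.End.mul_apply, ← Module.End.mul_apply]
    congr 1
    rw [he]; simp only
    rw [mul_smul_comm, smul_mul_assoc, Finset.mul_sum, Finset.sum_mul]
    congr 1
    refine Finset.sum_congr rfl fun c _ => ?_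
    rw [smul_mul_assoc, mul_smul_comm, hz]
    simp only
    rw [← map_mul, ← map_mul, hg]
  have hcent : ∀ a b c : F, uS h a b * uS h 0 c = uS h 0 c * uS h a b := by
    intro a b c
    rw [uS_mul h, uS_mul h, add_zero, zero_add, mul_zero, add_zero, th_zero h, zero_mul, add_zero, add_comm b c]
  obtain ⟨M, hM⟩ : ∃ M : F → Module.End ℂ ↥W, ∀ a (w : ↥W), (M a w : V) = σ (uS h a 0) w :=
    ⟨fun a => (σ (uS h a 0)).restrict (hcomm _ (hcent a 0)), fun a w => rfl⟩
  have hunit : ∀ a, ∃ N : Module.End ℂ ↥W, M a * N = 1 ∧ N * M a = 1 := fun a => by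
    have hc : ∀ c, (uS h a 0)⁻¹ * uS h 0 c = uS h 0 c * (uS h a 0)⁻¹ := fun c => by
      rw [inv_mul_eq_iff_eq_mul, ← mul_assoc, hcent, mul_inv_cancel_right]
    refine ⟨(σ (uS h a 0)⁻¹).restrict (hcomm _ hc), LinearMap.ext fun w => Subtype.ext ?_,
      LinearMap.ext fun w => Subtype.ext ?_⟩
    · rw [Module.End.mul_apply, hM]
      show σ (uS h a 0) (σ (uS h a 0)⁻¹ w) = w
      rw [← Module.End.mul_apply, ← map_mul, mul_inv_cancel, map_one, Module.End.one_apply]
    · show σ (uS h a 0)⁻¹ (M a w : V) = w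
      rw [hM, ← Module.End.mul_apply, ← map_mul, inv_mul_cancel, map_one, Module.End.one_apply]
  have hpair : ∀ y a, M y * M a = ψ (th m y * a + th m a * y) • (M a * M y) := fun y a => by
    refine LinearMap.ext fun w => Subtype.ext ?_
    obtain ⟨v, hv⟩ : ∃ v, e 1 v = σ (uS h a 0) (σ (uS h y 0) w) := by
      refine LinearMap.mem_range.mp ?_
      rw [← hW]
      exact hcomm _ (hcent a 0) _ (hcomm _ (hcent y 0) _ w.2)
    rw [Module.End.mul_apply, LinearMap.smul_apply, Module.End.mul_apply, SetLike.val_smul, hM, hM, hM, hM,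
      ← hv, ← Module.End.mul_apply, ← map_mul]
    have heq : uS h y 0 * uS h a 0 = uS h 0 (th m y * a + th m a * y) * (uS h a 0 * uS h y 0) := by
      rw [uS_mul h, uS_mul h, uS_mul h, zero_add, th_zero h, zero_mul, add_zero, add_comm a y]
      congr 1
      · ring
      · linear_combination (-(th m a * y)) * two_eq h
    rw [heq, map_mul, map_mul, Module.End.mul_apply, Module.End.mul_apply, ← hv, ← Module.End.mul_apply]
    rw [show σ (uS h 0 (th m y * a + th m a * y)) = z (th m y * a + th m a * y) from (congrFun hz _).symm, hze, one_mul, LinearMap.smul_apply]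
  obtain ⟨χ, hχ⟩ : ∃ χ : F → (Multiplicative F →* ℂ), ∀ a y,
      χ a (Multiplicative.ofAdd y) = ψ (th m y * a + th m a * y) :=
    ⟨fun a => { toFun := fun y => ψ (th m y.toAdd * a + th m a * y.toAdd)
                map_one' := by rw [toAdd_one, th_zero h, zero_mul, mul_zero, add_zero, hψ0]
                map_mul' := fun y y' => by
                  rw [toAdd_mul, th_add h, ← hadd]
                  congr 1
                  ring }, fun a y => rfl⟩
  have hinj : Function.Injective fun a : ↥A => χ a.1 := fun a b eab => by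
    refine Subtype.ext ?_
    by_contra hne
    obtain ⟨d, hd⟩ : ∃ d, d = a.1 + b.1 := ⟨_, rfl⟩
    have hd0 : d ≠ 0 := fun e0 => hne (by linear_combination (hd.symm.trans e0) - b.1 * two_eq h)
    have hd1 : d ≠ 1 := hd ▸ hA1 _ a.2 _ b.2
    have hrad : ∀ y, ψ (th m y * d + th m d * y) = 1 := fun y => by
      have hab := DFunLike.congr_fun eab (Multiplicative.ofAdd y)
      simp only [hχ] at hab
      rw [hd, th_add h, show th m y * (a.1 + b.1) + (th m a.1 + th m b.1) * y =
        (th m y * a.1 + th m a.1 * y) + (th m y * b.1 + th m b.1 * y) by ring, hadd, hab, hsq]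
    obtain ⟨e', he'⟩ : ∃ e', th m e' = d :=
      (Finite.injective_iff_surjective.mp (th_injective h)) d
    have hall : ∀ y, ψ ((e' + th m d) * y) = 1 := fun y => by
      rw [add_mul, hadd, ← hth (e' * y), th_mul h, he', mul_comm d, ← hadd]
      exact hrad y
    have h0 : e' + th m d = 0 := by
      by_contra hne0
      obtain ⟨y, hy⟩ := hnd _ hne0
      exact hy (hall y)
    have h1 : e' = th m d := by linear_combination h0 - th m d * two_eq h
    rw [h1, th_th h] at he'
    exact hd1 (mul_right_cancel₀ hd0 (by rw [one_mul, ← sq, he']))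
  have hW0 : Nontrivial ↥W := Module.nontrivial_of_finrank_pos (R := ℂ) (by omega)
  have hli : LinearIndependent ℂ (fun a : ↥A => M a.1) := by
    rw [Fintype.linearIndependent_iff]
    intro g hg
    have key : ∀ y, ∑ a : ↥A, (g a * χ a.1 (Multiplicative.ofAdd y)) • M a.1 = 0 := fun y => by
      obtain ⟨N, hN, -⟩ := hunit y
      have hmul : M y * ∑ a : ↥A, g a • M a.1 = (∑ a : ↥A, (g a * χ a.1 (Multiplicative.ofAdd y)) • M a.1) * M y := by
        rw [Finset.mul_sum, Finset.sum_mul]
        refine Finset.sum_congr rfl fun a _ => ?_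
        rw [mul_smul_comm, smul_mul_assoc, hpair, smul_smul, hχ]
      rw [hg, mul_zero] at hmul
      have := congrArg (fun X => X * N) hmul.symm
      simpa [mul_assoc, hN] using this
    intro a
    have hz' : g a • M a.1 = 0 := by
      rw [← Module.forall_dual_apply_eq_zero_iff ℂ]
      intro φ
      have hsum0 : ∑ b : ↥A, (g b * φ (M b.1)) • (χ b.1 : Multiplicative F → ℂ) = 0 := by
        funext y
        have := congrArg φ (key y.toAdd)
        rw [map_sum, map_zero] at this
        rw [Finset.sum_apply, Pi.zero_apply, ← this]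
        refine Finset.sum_congr rfl fun b _ => ?_
        rw [map_smul, Pi.smul_apply, smul_eq_mul, smul_eq_mul, ofAdd_toAdd]
        ring
      rw [map_smul, smul_eq_mul]
      exact Fintype.linearIndependent_iff.mp
        ((linearIndependent_monoidHom (Multiplicative F) ℂ).comp _ hinj) _ hsum0 a
    refine (smul_eq_zero.mp hz').resolve_right fun hMa => ?_
    obtain ⟨N, hN, -⟩ := hunit a.1
    rw [hMa, zero_mul] at hN
    exact zero_ne_one hN
  have hle := hli.fintype_card_le_finrank
  rw [Fintype.card_coe, hA, Module.finrank_linearMap, ← hr] at hle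
  have hmr : 2 ^ m ≤ r := Nat.mul_self_le_mul_self_iff.mp (by rw [← pow_add, ← two_mul]; exact hle)
  calc 2 ^ m * (2 ^ (2 * m + 1) - 1) ≤ r * (2 ^ (2 * m + 1) - 1) := Nat.mul_le_mul_right _ hmr
    _ ≤ _ := by rw [mul_comm]; exact hk

end Core

/-- For the Suzuki group Sz(q), q = 2^(2m+1) with m ≥ 1 (realised inside Sp₄ over the field with q elements), every irreducible complex representation of degree at least 2 has degree at least 2^m·(q − 1). -/
theorem result {F : Type*} [Field F] [Fintype F] (m : ℕ) (hm : 1 ≤ m) (hF : Fintype.card F = 2 ^ (2 * m + 1)) :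
    (∀ (k : ℕ) (ρ : Representation ℂ (Cfsg.Lie.Sz F (2 ^ (m + 1))) (Fin k → ℂ)), ρ.IsIrreducible → 2 ≤ k → 2 ^ m * (2 ^ (2 * m + 1) - 1) ≤ k) := by
  intro k ρ hρ hk
  have h : Params F m := ⟨hm, hF⟩
  obtain ⟨e, -⟩ := exists_lie_equiv h
  obtain ⟨σ, hσ⟩ : ∃ σ : ↥(Cfsg.Sz F m) →* Module.End ℂ (Fin k → ℂ), σ = ρ.comp e.toMonoidHom := ⟨_, rfl⟩
  have hinj : Function.Injective σ := by
    refine (MonoidHom.ker_eq_bot_iff σ).mp ?_
    haveI := Cfsg.Lib.Linear.Suz.isSimple h
    refine (Subgroup.Normal.eq_bot_or_eq_top (H := σ.ker) inferInstance).resolve_right fun htop => ?_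
    have htriv : ∀ g, ρ g = 1 := fun g => by
      have : e.symm g ∈ σ.ker := by rw [htop]; trivial
      rw [MonoidHom.mem_ker, hσ] at this
      simpa using this
    -- a trivial irreducible representation has dimension one
    obtain ⟨v, hv⟩ : ∃ v : Fin k → ℂ, v ≠ 0 := by
      haveI : Nonempty (Fin k) := ⟨⟨0, by omega⟩⟩
      exact exists_ne 0
    haveI := hρ
    let W : Subrepresentation ρ := ⟨ℂ ∙ v, fun g w hw => by rw [htriv]; exact hw⟩
    rcases IsSimpleOrder.eq_bot_or_eq_top W with h0 | h0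
    · exact hv (by
        have := congrArg Subrepresentation.toSubmodule h0
        exact Submodule.span_singleton_eq_bot.mp this)
    · have h1 : (ℂ ∙ v) = ⊤ := congrArg Subrepresentation.toSubmodule h0
      have h2 := finrank_span_singleton (K := ℂ) hv
      rw [h1, finrank_top, Module.finrank_fin_fun] at h2
      omega
  have := degree_bound h σ hinj
  rwa [Module.finrank_fin_fun] at this

end Cfsg.Agent.S2337
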