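import Cfsg.Statements.S2338
import Cfsg.Agent.Lib.Chev.G2Degree.NonThree
import Cfsg.Agent.Lib.Chev.G2Degree.Three
import Cfsg.Agent.Lib.Chev.Simple

set_option autoImplicit false
open Cfsg

namespace Cfsg.Agent.S2338

open Cfsg.Lie Cfsg.Lib.Chev

/-- An irreducible representation of degree at least two of a simple group is faithful. -/
theorem faithful {F : Type*} [Field F] [Fintype F] (h3 : 3 ≤ Fintype.card F) {k : ℕ}
    (ρ : Representation ℂ (chevG2.group F) (Fin k → ℂ)) (hρ : ρ.IsIrreducible) (hk : 2 ≤ k) :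
    Function.Injective ρ := by
  classical
  have hF : ∃ a : F, a ≠ 0 ∧ a ≠ 1 := by
    by_contra! h
    have h2 := (Finset.card_le_card (fun a _ => by
      rcases eq_or_ne a 0 with rfl | ha
      · simp
      · simp [h a ha] : (Finset.univ : Finset F) ⊆ {0, 1})).trans Finset.card_le_two
    rw [Finset.card_univ] at h2
    omega
  haveI : IsSimpleGroup ↥(chevG2.group F) :=
    (simple_of_perfect fullCertG2 linkedG2 (by decide) (perfectG2 hF)).1
  refine (MonoidHom.ker_eq_bot_iff ρ).mp ?_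
  refine (Subgroup.Normal.eq_bot_or_eq_top (H := MonoidHom.ker ρ) inferInstance).resolve_right fun htop => ?_
  have htriv : ∀ g, ρ g = 1 := fun g => by
    have : g ∈ MonoidHom.ker ρ := by rw [htop]; trivial
    rwa [MonoidHom.mem_ker] at this
  obtain ⟨v, hv⟩ : ∃ v : Fin k → ℂ, v ≠ 0 := by
    haveI : Nonempty (Fin k) := ⟨⟨0, by omega⟩⟩
    exact exists_ne 0
  haveI := hρ
  let W : Subrepresentation ρ := ⟨ℂ ∙ v, fun g w hw => by rw [htriv]; exact hw⟩
  rcases IsSimpleOrder.eq_bot_or_eq_top W with h0 | h0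
  · exact hv (Submodule.span_singleton_eq_bot.mp (congrArg Subrepresentation.toSubmodule h0))
  · have h1 : (ℂ ∙ v) = ⊤ := congrArg Subrepresentation.toSubmodule h0
    have h2 := finrank_span_singleton (K := ℂ) hv
    rw [h1, finrank_top, Module.finrank_fin_fun] at h2
    omega

/-- Lower bounds for the degrees of non-linear irreducible complex representations of the Chevalley group of type G₂ over a finite field with q elements: the degree is at least q³ + 1 when q ≡ 1 (mod 3) and q > 4, at least q³ − 1 when q ≡ 2 (mod 3) and q > 2, and at least q⁴ + q² + 1 when q ≡ 0 (mod 3) and q > 3. -/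
theorem result {F : Type*} [Field F] [Fintype F] (k : ℕ) (ρ : Representation ℂ (Cfsg.Lie.chevG2.group F) (Fin k → ℂ)) (hρ : ρ.IsIrreducible) (hk : 2 ≤ k) :
    (Fintype.card F % 3 = 1 → 4 < Fintype.card F → Fintype.card F ^ 3 + 1 ≤ k) ∧
    (Fintype.card F % 3 = 2 → 2 < Fintype.card F → Fintype.card F ^ 3 - 1 ≤ k) ∧
    (Fintype.card F % 3 = 0 → 3 < Fintype.card F → Fintype.card F ^ 4 + Fintype.card F ^ 2 + 1 ≤ k) := by
  refine ⟨fun h h4 => G2Deg.one_bound ρ hρ (faithful (by omega) ρ hρ hk) h h4,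
    fun h h2 => G2Deg.low_bound ρ hρ (faithful (by omega) ρ hρ hk) (by omega) (by omega), fun h h3 => ?_⟩
  classical
  obtain ⟨p, hp⟩ := CharP.exists F
  obtain ⟨n, hpp, hn⟩ := FiniteField.card F p
  have hp3 : 3 ∣ p := Nat.prime_three.dvd_of_dvd_pow (hn ▸ Nat.dvd_of_mod_eq_zero h)
  obtain rfl : 3 = p := (Nat.prime_dvd_prime_iff_eq Nat.prime_three hpp).1 hp3
  have hb := G2Deg.three_bound (σ := ρ) (faithful (by omega) ρ hρ hk) h3
  rw [Module.finrank_fin_fun] at hb
  by_contra hlt
  letI : Fintype ↥(chevG2.group F) := Fintype.ofFinite _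
  haveI := hρ
  have hd : k ∣ Nat.card ↥(chevG2.group F) :=
    Cfsg.Lib.Char.degree_dvd_card (Cfsg.Lib.Char.isIrrCharacter_character ρ)
      (by rw [Representation.char_one, Module.finrank_fin_fun])
  have hG := order_formula (F := F) certG2 fullCertG2 chkWeylG2 torusCertG2 (polyG2 Nat.card_pos)
  rw [show chevG2.nroots / 2 = 6 from rfl, Nat.card_eq_fintype_card (α := F)] at hG
  have hG' : (∏ j, (Fintype.card F - 1).gcd ((![1, 1] : Fin 2 → ℕ) j)) * Nat.card ↥(chevG2.group F) = _ := hG
  simp [Fin.prod_univ_succ] at hG'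
  rw [Nat.card_eq_fintype_card, hG'] at hd
  exact G2Deg.near_not_dvd (G2Deg.nine_le h3) hd (by omega)

end Cfsg.Agent.S2338
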