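import Cfsg.Statements.S2342
import Cfsg.Agent.Lib.Chev.TriDegree
import Cfsg.Agent.Lib.Chev.TrialityLang
import Cfsg.Agent.Lib.Char.Basic
import Cfsg.Agent.Lib.Char.Central

set_option autoImplicit false
open Cfsg

namespace Cfsg.Agent.S2342

open Cfsg.Lie Cfsg.Lib.Chev

theorem not_dvd_order {q : ℕ} (hq : 2 ≤ q) :
    ¬ (q ^ 4 + q ^ 3 + 1) ∣ q ^ 12 * (q ^ 2 - 1) * (q ^ 6 - 1) * (q ^ 8 + q ^ 4 + 1) := by
  intro h
  have h2 : 1 ≤ q ^ 2 := Nat.one_le_pow _ _ (by omega)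
  have h6 : 1 ≤ q ^ 6 := Nat.one_le_pow _ _ (by omega)
  obtain ⟨x, hx⟩ : ∃ x : ℤ, x = q := ⟨_, rfl⟩
  have hz : (x ^ 4 + x ^ 3 + 1) ∣ x ^ 12 * ((x ^ 2 - 1) * (x ^ 6 - 1) * (x ^ 8 + x ^ 4 + 1)) := by
    have := Int.natCast_dvd_natCast.2 h
    push_cast [Nat.cast_sub h2, Nat.cast_sub h6] at this
    rw [hx]
    convert this using 1
    ring
  have hco : IsCoprime (x ^ 4 + x ^ 3 + 1) (x ^ 12) := IsCoprime.pow_right ⟨1, -(x ^ 3 + x ^ 2), by ring⟩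
  have h1 : (x ^ 4 + x ^ 3 + 1) ∣ (x ^ 6 - 1) * (x ^ 12 - 1) := by
    rw [show (x ^ 6 - 1) * (x ^ 12 - 1) = (x ^ 2 - 1) * (x ^ 6 - 1) * (x ^ 8 + x ^ 4 + 1) * (x ^ 2 + 1) by ring]
    exact (hco.dvd_of_dvd_mul_left hz).mul_right _
  have h45 : (x ^ 4 + x ^ 3 + 1) ∣ 45 * (x ^ 6 - 1) := by
    rw [show 45 * (x ^ 6 - 1) =
      (x ^ 6 - 1) * (23 - 16 * x + 17 * x ^ 2 - 4 * x ^ 3 - 7 * x ^ 4 - x ^ 5 - 13 * x ^ 6 + 11 * x ^ 7 + 8 * x ^ 8 +
        14 * x ^ 9 + 2 * x ^ 10 - 19 * x ^ 11) * (x ^ 4 + x ^ 3 + 1) +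
      (-22 - 16 * x + 17 * x ^ 2 + 19 * x ^ 3) * ((x ^ 6 - 1) * (x ^ 12 - 1)) by ring]
    exact dvd_add (dvd_mul_left _ _) (h1.mul_left _)
  have h405 : (x ^ 4 + x ^ 3 + 1) ∣ (405 : ℤ) := by
    rw [show (405 : ℤ) = 45 * (2 - x + 5 * x ^ 2 + 2 * x ^ 3 - x ^ 4 - 4 * x ^ 5) * (x ^ 4 + x ^ 3 + 1) +
      (-7 - x + 5 * x ^ 2 + 4 * x ^ 3) * (45 * (x ^ 6 - 1)) by ring]
    exact dvd_add (dvd_mul_left _ _) (h45.mul_left _)
  rw [hx] at h405
  have h405' : q ^ 4 + q ^ 3 + 1 ∣ 405 := Int.natCast_dvd_natCast.1 (by push_cast; exact h405)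
  have h5 : q < 5 := by
    by_contra! hge
    have := Nat.le_of_dvd (by norm_num) h405'
    have : 5 ^ 4 ≤ q ^ 4 := Nat.pow_le_pow_left hge 4
    omega
  interval_cases q <;> norm_num at h405'

/-- For the twisted group ³D₄(q), realised over the field with q³ elements (q a prime power), every irreducible complex representation of degree at least 2 has degree at least q(q⁴ − q² + 1). -/
theorem result {K : Type*} [Field K] [Fintype K] (q : ℕ) (hq : IsPrimePow q) (hK : Fintype.card K = q ^ 3) :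
    (∀ (k : ℕ) (ρ : Representation ℂ (Cfsg.Lie.twistedD4 K q) (Fin k → ℂ)), ρ.IsIrreducible → 2 ≤ k → q * (q ^ 4 - q ^ 2 + 1) ≤ k) := by
  obtain ⟨f, hf, hit, hk⟩ := exists_frobQ hq (by norm_num : (3 : ℕ) ≠ 0)
    (show Nat.card K = q ^ 3 by rw [Nat.card_eq_fintype_card, hK])
  obtain ⟨F0, hFt, hcard, ⟨D⟩⟩ := TriDeg.exists_data f hq hK hf hk
  obtain ⟨f', h', e', -, -, hperf, hwit⟩ := twistedD4_facts hq hK
  have hsimple : IsSimpleGroup ↥(Cfsg.Lie.twistedD4 K q) := by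
    rw [e']
    exact (h'.simple_of_perfect certD4C fullCertD4 twCombD4 twLinkedD4 (by decide) (by decide) hwit hperf).1
  have hG := twistedD4_eq_fixed hK hq hf hit hk
  have horder := twistedD4_order hq hK
  revert hsimple horder
  rw [hG]
  intro hsimple horder k ρ hρ hk2
  obtain ⟨σ, hσ⟩ : ∃ σ : ↥((twSimplyD4.twOK certD4C symOKD4_tri f fullCertD4 twCombD4).fixed certD4C) →*
      Module.End ℂ (Fin k → ℂ), ∀ g, σ g = ρ g := ⟨ρ, fun _ => rfl⟩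
  have hinj : Function.Injective σ := by
    refine (MonoidHom.ker_eq_bot_iff σ).mp ?_
    refine (Subgroup.Normal.eq_bot_or_eq_top (H := σ.ker) inferInstance).resolve_right fun htop => ?_
    have htriv : ∀ g, ρ g = 1 := fun g => by
      have : g ∈ σ.ker := by rw [htop]; trivial
      rw [MonoidHom.mem_ker, hσ] at this
      exact this
    obtain ⟨v, hv⟩ : ∃ v : Fin k → ℂ, v ≠ 0 := by
      haveI : Nonempty (Fin k) := ⟨⟨0, by omega⟩⟩
      exact exists_ne 0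
    haveI := hρ
    let W : Subrepresentation ρ := ⟨ℂ ∙ v, fun g w hw => by rw [htriv]; exact hw⟩
    rcases IsSimpleOrder.eq_bot_or_eq_top W with h0 | h0
    · exact hv (Submodule.span_singleton_eq_bot.mp (congrArg Subrepresentation.toSubmodule h0))
    · have h1 : (ℂ ∙ v) = ⊤ := congrArg Subrepresentation.toSubmodule h0
      have h2 := finrank_span_singleton (K := ℂ) hv
      rw [h1, finrank_top, Module.finrank_fin_fun] at h2
      omega
  have hb := TriDeg.degree_bound D σ hinj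
  rw [Module.finrank_fin_fun, hcard] at hb
  have hq2 := hq.two_le
  have hsub : q ^ 2 ≤ q ^ 4 := Nat.pow_le_pow_right (by omega) (by omega)
  have hgoal : q * (q ^ 4 - q ^ 2 + 1) + q ^ 3 = q ^ 5 + q := by
    obtain ⟨j, hj⟩ : ∃ j, q ^ 4 = q ^ 2 + j := ⟨q ^ 4 - q ^ 2, by omega⟩
    rw [hj, Nat.add_sub_cancel_left, show q ^ 5 = q * q ^ 4 by ring, hj]
    ring
  by_contra hlt
  have hk' : k + 1 + q ^ 3 = q ^ 5 + q := by omega
  haveI := hρ
  letI : Fintype ↥((twSimplyD4.twOK certD4C symOKD4_tri f fullCertD4 twCombD4).fixed certD4C) := Fintype.ofFinite _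
  have hd : k ∣ Nat.card ↥((twSimplyD4.twOK certD4C symOKD4_tri f fullCertD4 twCombD4).fixed certD4C) :=
    Cfsg.Lib.Char.degree_dvd_card (Cfsg.Lib.Char.isIrrCharacter_character ρ)
      (by rw [Representation.char_one, Module.finrank_fin_fun])
  rw [horder] at hd
  refine not_dvd_order hq2 (dvd_trans ⟨q - 1, ?_⟩ hd)
  obtain ⟨j, rfl⟩ : ∃ j, q = j + 1 := ⟨q - 1, by omega⟩
  rw [Nat.add_sub_cancel]
  ring_nf at hk' ⊢
  omega

end Cfsg.Agent.S2342
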