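import Cfsg.Statements.S2343
import Cfsg.Agent.Lib.Chev.ReeSylowTwo
import Cfsg.Agent.Lib.Linear.MinDegree.Proj

/-!
# The least degree of a representation of a small Ree group

The characters of the abelian normal subgroup of order `q ^ 2` of a Sylow 3-subgroup that are
non-trivial on its centre form one orbit of the Borel subgroup, of length `q * (q - 1)`. If there
were nothing else, the degree would be `q * (q - 1)` and the trace of the torus involution would
vanish; as all involutions are conjugate the fixed space of a four-group would have dimension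
`q * (q - 1) / 4`, which is not a whole number.
-/

set_option autoImplicit false
set_option linter.unusedSectionVars false
open Cfsg

namespace Cfsg.Agent.S2343

open Cfsg.Lie Cfsg.Lib.Chev Cfsg.Lib.Chev.G2Aut Cfsg.Lib.Chev.Ree Cfsg.Lib.Linear.MinDegree

section Four

variable {V : Type*} [AddCommGroup V] [Module ℂ V] [FiniteDimensional ℂ V] {G : Type*} [Group G]

/-- Two commuting involutions acting with trace zero, together with their product, force the
dimension to be a multiple of four. -/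
theorem four_dvd_finrank (σ : G →* Module.End ℂ V) {a b : G} (ha : a * a = 1) (hb : b * b = 1) (hab : Commute a b)
    (h1 : LinearMap.trace ℂ V (σ a) = 0) (h2 : LinearMap.trace ℂ V (σ b) = 0)
    (h3 : LinearMap.trace ℂ V (σ (a * b)) = 0) : 4 ∣ Module.finrank ℂ V := by
  obtain ⟨T, hT⟩ : ∃ T, T = 1 + σ a + σ b + σ (a * b) := ⟨_, rfl⟩
  have hTT : T * T = (4 : ℂ) • T := by
    have e1 : b * a = a * b := hab.eq.symm
    have e2 : a * b * a = b := by rw [hab.eq, mul_assoc, ha, mul_one]
    have e3 : b * (a * b) = a := by rw [← mul_assoc, e1, mul_assoc, hb, mul_one]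
    have e4 : a * (a * b) = b := by rw [← mul_assoc, ha, one_mul]
    have e5 : a * b * b = a := by rw [mul_assoc, hb, mul_one]
    have e6 : a * b * (a * b) = 1 := by rw [← mul_assoc, e2, hb]
    subst hT
    simp only [mul_add, add_mul, one_mul, mul_one, ← map_mul, ha, hb, e1, e2, e3, e4, e5, e6, map_one]
    module
  have hidem : IsIdempotentElem ((4 : ℂ)⁻¹ • T) := by
    show ((4 : ℂ)⁻¹ • T) * ((4 : ℂ)⁻¹ • T) = _
    rw [smul_mul_smul_comm, hTT, smul_smul]
    congr 1
    norm_num
  obtain ⟨d, hd⟩ := exists_nat_trace hidem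
  refine ⟨d, ?_⟩
  rw [map_smul, hT, map_add, map_add, map_add, LinearMap.trace_one, h1, h2, h3, smul_eq_mul] at hd
  exact_mod_cast (show (Module.finrank ℂ V : ℂ) = 4 * d by linear_combination 4 * hd)

end Four

section Char

variable {K : Type*} [Field K] [Fintype K]

/-- A character on the two parameters. -/
noncomputable def mk (α β : AddChar K ℂ) : AddChar (K × K) ℂ where
  toFun x := α x.1 * β x.2
  map_zero_eq_one' := by simp
  map_add_eq_mul' x y := by simp only [Prod.fst_add, Prod.snd_add, AddChar.map_add_eq_mul]; ring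

theorem mk_apply (α β : AddChar K ℂ) (u v : K) : mk α β (u, v) = α u * β v := rfl

theorem mk_bijective : Function.Bijective fun p : AddChar K ℂ × AddChar K ℂ => mk p.1 p.2 := by
  refine (Fintype.bijective_iff_injective_and_card _).2 ⟨?_, by simp [AddChar.card_eq]⟩
  rintro ⟨α, β⟩ ⟨α', β'⟩ e
  refine Prod.ext (DFunLike.ext _ _ fun u => ?_) (DFunLike.ext _ _ fun v => ?_)
  · have := DFunLike.congr_fun e (u, 0)
    simpa [mk_apply] using this
  · have := DFunLike.congr_fun e ((0 : K), v)
    simpa [mk_apply] using this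

theorem mulShift_bijective {β : AddChar K ℂ} (hβ : β ≠ 1) : Function.Bijective fun a : K => β.mulShift a := by
  refine (Fintype.bijective_iff_injective_and_card _).2 ⟨fun a b e => ?_, by simp [AddChar.card_eq]⟩
  by_contra hne
  refine hβ (DFunLike.ext _ _ fun x => ?_)
  have h := DFunLike.congr_fun e (x / (a - b))
  simp only [AddChar.mulShift_apply] at h
  have hab : a - b ≠ 0 := sub_ne_zero.2 hne
  have h2 : β (a * (x / (a - b))) = β x * β (b * (x / (a - b))) := by
    rw [← AddChar.map_add_eq_mul]; congr 1; field_simp; ring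
  rw [h] at h2
  rw [AddChar.one_apply]
  exact (mul_eq_right₀ (AddChar.val_isUnit β (b * (x / (a - b)))).ne_zero).1 h2.symm

end Char

section Degree

variable {K : Type*} [Field K] [Fintype K] [CharP K esymG2.p] {m : ℕ} (hK : Fintype.card K = 3 ^ (2 * m + 1))
include hK

/-- The commutator of a first and a second parameter. -/
theorem eU_comm_gen (a u : K) : eU hK 0 u 0 * eU hK a 0 0 = eU hK a 0 0 * eU hK 0 u (-(a * u)) := by
  rcases eq_or_ne a 0 with rfl | ha
  · rw [eU_zero, one_mul, mul_one, zero_mul, neg_zero]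
  obtain ⟨z, hz⟩ := (c6_bijective (m := m) hK).2 (Units.mk0 a ha)
  have h6 : chr tblG2 chevG2 (extend' (g2Par m z)) 6 = a := by rw [← c6_val hK, hz]; rfl
  obtain ⟨c, hc⟩ : ∃ c, c = chr tblG2 chevG2 (extend' (g2Par m z)) 10 := ⟨_, rfl⟩
  have h11 : chr tblG2 chevG2 (extend' (g2Par m z)) 11 = a * c := by
    rw [← h6, hc, chr6 hK, chr10 hK, chr11 hK, ← Units.val_mul, ← zpow_add,
      show (-3 : ℤ) * 3 ^ m + 2 + (3 * 3 ^ m + -1) = 1 by ring, zpow_one]
  have hc0 : c ≠ 0 := by rw [hc, chr10 hK]; exact Units.ne_zero _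
  have key : ∀ s t r : K, eT hK z * eU hK s t r * (eT hK z)⁻¹ = eU hK (a * s) (c * t) (a * c * r) := fun s t r => by
    rw [eT_conj, h6, h11, hc]
  have e := congrArg (fun g => eT hK z * g * (eT hK z)⁻¹) (eU_comm hK (u / c))
  simp only [← conj_mul] at e
  rw [key, key, key, mul_zero, mul_zero, mul_zero, mul_one, mul_div_cancel₀ u hc0] at e
  rw [e, mul_assoc, mul_neg c, mul_div_cancel₀ u hc0, mul_neg]

variable {V : Type*} [AddCommGroup V] [Module ℂ V] [FiniteDimensional ℂ V]

theorem degree_bound (σ : ↥(gG K m) →* Module.End ℂ V) (hσ : Function.Injective σ) :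
    (3 ^ (2 * m + 1)) ^ 2 - 3 ^ (2 * m + 1) + 1 ≤ Module.finrank ℂ V := by
  classical
  obtain ⟨R, hR⟩ : ∃ R : Multiplicative (K × K) →* Module.End ℂ V,
      ∀ u v, R (Multiplicative.ofAdd (u, v)) = σ (eU hK 0 u v) := by
    refine ⟨σ.comp
      { toFun := fun x => eU hK 0 x.toAdd.1 x.toAdd.2
        map_one' := eU_zero hK
        map_mul' := fun x y => by rw [eU_mul_zero]; rfl }, fun u v => rfl⟩
  obtain ⟨n, hn⟩ : ∃ n : AddChar (K × K) ℂ → ℕ, ∀ χ, LinearMap.trace ℂ V (proj R χ) = n χ :=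
    ⟨fun χ => (exists_nat_trace (show IsIdempotentElem (proj R χ) from proj_mul_self R χ)).choose,
      fun χ => (exists_nat_trace (show IsIdempotentElem (proj R χ) from proj_mul_self R χ)).choose_spec⟩
  have hzero : ∀ χ, n χ = 0 → proj R χ = 0 := fun χ h0 => by
    have hp := (LinearMap.isProj_range_iff_isIdempotentElem _).2
      (show IsIdempotentElem (proj R χ) from proj_mul_self R χ)
    have ht := hp.trace
    rw [hn, h0, Nat.cast_inj] at ht
    exact LinearMap.range_eq_bot.1 (Submodule.finrank_eq_zero.1 ht.symm)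
  have hdim : Module.finrank ℂ V = ∑ β : AddChar K ℂ, ∑ α : AddChar K ℂ, n (mk α β) := by
    have h := congrArg (LinearMap.trace ℂ V) (sum_proj R)
    rw [map_sum, LinearMap.trace_one] at h
    simp only [hn] at h
    rw [Finset.sum_comm, ← Fintype.sum_prod_type',
      mk_bijective.sum_comp fun χ => n χ]
    exact_mod_cast h.symm
  -- conjugation by an element of the Borel subgroup permutes the projections
  have hmove : ∀ (g : ↥(gG K m)) (τ : K × K ≃ K × K),
      (∀ u v, g * eU hK 0 u v * g⁻¹ = eU hK 0 (τ (u, v)).1 (τ (u, v)).2) →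
      ∀ θ θ' : AddChar (K × K) ℂ, (∀ x, θ' (-τ x) = θ (-x)) →
        σ g * proj R θ = proj R θ' * σ g ∧ n θ = n θ' := by
    intro g τ hg θ θ' hθ
    have hi : σ g⁻¹ * σ g = 1 := by rw [← map_mul, inv_mul_cancel, map_one]
    have e : σ g * proj R θ * σ g⁻¹ = proj R θ' := conj_proj R τ (fun ⟨u, v⟩ => by
      rw [show R (Multiplicative.ofAdd (τ (u, v))) = σ (eU hK 0 (τ (u, v)).1 (τ (u, v)).2) from hR _ _, hR,
        ← map_mul, ← map_mul, hg]) θ θ' hθ
    refine ⟨by rw [← e, mul_assoc, hi, mul_one], ?_⟩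
    have := congrArg (LinearMap.trace ℂ V) e
    rw [LinearMap.trace_mul_comm, ← mul_assoc, hi, one_mul, hn, hn, Nat.cast_inj] at this
    exact this
  -- the first parameter moves the characters on the middle one
  have hfib : ∀ β : AddChar K ℂ, β ≠ 1 → ∀ α, n (mk α β) = n (mk 1 β) := by
    intro β hβ α
    obtain ⟨a, ha⟩ := (mulShift_bijective hβ).2 α
    let τ : K × K ≃ K × K :=
      { toFun := fun x => (x.1, x.2 - a * x.1)
        invFun := fun x => (x.1, x.2 + a * x.1)
        left_inv := fun x => by simp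
        right_inv := fun x => by simp }
    have hg : ∀ u v, (eU hK a 0 0)⁻¹ * eU hK 0 u v * ((eU hK a 0 0)⁻¹)⁻¹ = eU hK 0 u (v - a * u) := by
      intro u v
      rw [inv_inv, eU_zero_split hK u v, mul_assoc, mul_assoc, ← (eU_central hK a 0 0 v).eq, ← mul_assoc _ (eU hK a 0 0),
        eU_comm_gen hK, ← mul_assoc, ← mul_assoc, inv_mul_cancel, one_mul, eU_mul_zero, add_zero,
        neg_add_eq_sub]
    refine ((hmove _ τ hg (mk 1 β) (mk α β) fun ⟨u, v⟩ => ?_).2).symm
    show mk α β (-u, -(v - a * u)) = mk 1 β (-u, -v)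
    rw [mk_apply, mk_apply, AddChar.one_apply, one_mul, ← ha]
    simp only [AddChar.mulShift_apply]
    rw [← AddChar.map_add_eq_mul]
    congr 1
    ring
  -- the torus moves the characters on the centre
  obtain ⟨β₁, hβ₁⟩ : ∃ β : AddChar K ℂ, β ≠ 1 :=
    haveI : Nontrivial (AddChar K ℂ) := Fintype.one_lt_card_iff_nontrivial.1 (by
      rw [AddChar.card_eq]; exact Fintype.one_lt_card)
    exists_ne 1
  obtain ⟨r, hr⟩ : ∃ r, r = n (mk 1 β₁) := ⟨_, rfl⟩
  have htor : ∀ β : AddChar K ℂ, β ≠ 1 → ∀ α, n (mk α β) = r := by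
    intro β hβ α
    rw [hfib β hβ, hr]
    obtain ⟨w, hw⟩ := (mulShift_bijective hβ₁).2 β
    have hw0 : w ≠ 0 := fun e => hβ (by
      rw [← hw, e]
      exact DFunLike.ext _ _ fun x => by simp [AddChar.mulShift_apply])
    obtain ⟨z, rfl⟩ : ∃ z : Kˣ, (z : K) = w := ⟨Units.mk0 w hw0, rfl⟩
    obtain ⟨c, hc⟩ : ∃ c, c = chr tblG2 chevG2 (extend' (g2Par m z)) 10 := ⟨_, rfl⟩
    have hc0 : c ≠ 0 := by rw [hc, chr10 hK]; exact Units.ne_zero _
    refine (hmove (eT hK z) ((Equiv.mulLeft₀ c hc0).prodCongr (Equiv.mulLeft₀ (z : K) z.ne_zero))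
      (fun u v => ?_) _ (mk 1 β₁) fun ⟨u, v⟩ => ?_).2
    · rw [eT_conj, chr11 hK, mul_zero, ← hc]; rfl
    · show mk 1 β₁ (-(c * u), -((z : K) * v)) = mk 1 β (-u, -v)
      rw [mk_apply, mk_apply, AddChar.one_apply, AddChar.one_apply, one_mul, one_mul, ← hw]
      simp [AddChar.mulShift_apply]
  have hq : Fintype.card (AddChar K ℂ) = 3 ^ (2 * m + 1) := by rw [AddChar.card_eq, hK]
  obtain ⟨q, hq'⟩ : ∃ q, q = 3 ^ (2 * m + 1) := ⟨_, rfl⟩
  rw [← hq'] at hq ⊢
  have hsum : Module.finrank ℂ V = (∑ α, n (mk α 1)) + (q - 1) * (q * r) := by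
    rw [hdim, ← Finset.add_sum_erase _ _ (Finset.mem_univ (1 : AddChar K ℂ))]
    congr 1
    rw [Finset.sum_congr rfl fun β hβ => Finset.sum_congr rfl fun α _ => htor β (Finset.ne_of_mem_erase hβ) α]
    simp [Finset.card_erase_of_mem, hq]
  -- faithfulness
  have hrpos : r ≠ 0 := fun hr0 => by
    have h1 : R (Multiplicative.ofAdd ((0 : K), (1 : K))) = 1 := by
      rw [← mul_one (R _), ← sum_proj R, Finset.mul_sum]
      refine Finset.sum_congr rfl fun χ _ => ?_
      rw [R_mul_proj]
      obtain ⟨⟨α, β⟩, rfl⟩ := mk_bijective.2 χ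
      rcases eq_or_ne β 1 with rfl | hβ
      · simp [mk_apply]
      · rw [hzero _ ((htor β hβ α).trans hr0), smul_zero]
    rw [hR, ← map_one σ, ← eU_zero hK] at h1
    exact one_ne_zero (eU_inj hK (hσ h1)).2.2
  have hq3 : q % 4 = 3 ∧ 1 ≤ q := by
    refine ⟨?_, ?_⟩
    · rw [hq', pow_succ, pow_mul, Nat.mul_mod, Nat.pow_mod]; norm_num
    · rw [hq']; exact Nat.one_le_pow _ _ (by norm_num)
  have hprod : q ^ 2 - q = (q - 1) * q := by rw [Nat.sub_mul, one_mul, sq]
  by_contra hlt
  rw [hprod] at hlt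
  have hge : (q - 1) * q ≤ (q - 1) * (q * r) :=
    Nat.mul_le_mul_left _ (Nat.le_mul_of_pos_right _ (Nat.pos_of_ne_zero hrpos))
  have htriv : ∀ α, n (mk α 1) = 0 := fun α => by
    have h0 : ∑ α, n (mk α 1) = 0 := by omega
    exact (Finset.sum_eq_zero_iff.1 h0) α (Finset.mem_univ _)
  have hk : Module.finrank ℂ V = (q - 1) * q := by omega
  -- the torus involution has trace zero
  have htrA : LinearMap.trace ℂ V (σ (invA hK)) = 0 := by
    rw [← mul_one (σ (invA hK)), ← sum_proj R, Finset.mul_sum, map_sum]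
    refine Finset.sum_eq_zero fun χ _ => ?_
    obtain ⟨⟨α, β⟩, rfl⟩ := mk_bijective.2 χ
    rcases eq_or_ne β 1 with rfl | hβ
    · rw [hzero _ (htriv α), mul_zero, map_zero]
    let τ : K × K ≃ K × K := (Equiv.refl K).prodCongr (Equiv.neg K)
    have hne : mk α (β.mulShift (-1)) ≠ mk α β := fun e => hβ (DFunLike.ext _ _ fun x => by
      have h1 := DFunLike.congr_fun e ((0 : K), x)
      simp only [mk_apply, AddChar.mulShift_apply, AddChar.map_zero_eq_one, one_mul, neg_one_mul] at h1
      have h2 : β x * β x = 1 := by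
        nth_rewrite 1 [← h1]
        rw [← AddChar.map_add_eq_mul, neg_add_cancel, AddChar.map_zero_eq_one]
      have h3 : β x * β x * β x = 1 := by
        rw [← AddChar.map_add_eq_mul, ← AddChar.map_add_eq_mul]
        haveI : CharP K 3 := inferInstanceAs (CharP K esymG2.p)
        rw [show x + x + x = (3 : ℕ) * x by push_cast; ring, CharP.cast_eq_zero, zero_mul, AddChar.map_zero_eq_one]
      rw [h2, one_mul] at h3
      rw [h3, AddChar.one_apply])
    have he := (hmove (invA hK) τ (fun u v => by rw [invA_conj, neg_zero]; rfl) (mk α β)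
      (mk α (β.mulShift (-1))) fun ⟨u, v⟩ => by
        show mk α (β.mulShift (-1)) (-u, -(-v)) = mk α β (-u, -v)
        simp [mk_apply, AddChar.mulShift_apply]).1
    obtain ⟨P, hP⟩ : ∃ P, P = proj R (mk α β) := ⟨_, rfl⟩
    obtain ⟨Q, hQ⟩ : ∃ Q, Q = proj R (mk α (β.mulShift (-1))) := ⟨_, rfl⟩
    rw [← hP, ← hQ] at he
    have hort : P * Q = 0 := by
      obtain ⟨x, hx⟩ := DFunLike.exists_ne hne.symm
      have h1 : proj R (mk α β) * (R (Multiplicative.ofAdd x) * proj R (mk α (β.mulShift (-1)))) =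
          proj R (mk α β) * R (Multiplicative.ofAdd x) * proj R (mk α (β.mulShift (-1))) := (mul_assoc _ _ _).symm
      rw [R_mul_proj, proj_mul_R, mul_smul_comm, smul_mul_assoc, ← sub_eq_zero, ← sub_smul, ← hP, ← hQ] at h1
      exact (smul_eq_zero.1 h1).resolve_left (sub_ne_zero.2 (Ne.symm hx))
    rw [← hP]
    have hPP : P * P = P := by rw [hP]; exact proj_mul_self R _
    calc LinearMap.trace ℂ V (σ (invA hK) * P) = LinearMap.trace ℂ V ((σ (invA hK) * P) * P) := by
          rw [mul_assoc, hPP]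
      _ = LinearMap.trace ℂ V (P * (σ (invA hK) * P)) := LinearMap.trace_mul_comm _ _ _
      _ = 0 := by rw [he, ← mul_assoc, hort, zero_mul, map_zero]
  -- all involutions have trace zero
  have htr : ∀ x : ↥(gG K m), x * x = 1 → x ≠ 1 → LinearMap.trace ℂ V (σ x) = 0 := fun x hx hx1 => by
    obtain ⟨g, rfl⟩ := invol_conj hK hx hx1
    rw [map_mul σ, map_mul σ, LinearMap.trace_mul_comm, ← mul_assoc, ← map_mul σ, inv_mul_cancel, map_one, one_mul, htrA]
  obtain ⟨S, hA, -, -, -⟩ := exists_std hK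
  obtain ⟨b, hbS, hb1, hbA⟩ : ∃ b ∈ S, b ≠ 1 ∧ b ≠ invA hK := by
    by_contra! hno
    have hsub : (S : Set ↥(gG K m)) ⊆ ↑({1, invA hK} : Finset ↥(gG K m)) := fun b hb => by
      simp only [Finset.coe_insert, Finset.coe_singleton, Set.mem_insert_iff, Set.mem_singleton_iff]
      exact (em (b = 1)).imp_right fun h => hno b hb h
    have hle := Set.ncard_le_ncard hsub (Finset.finite_toSet _)
    rw [Set.ncard_coe_finset] at hle
    have h8 : (S : Set ↥(gG K m)).ncard = 8 := by
      rw [← Nat.card_coe_set_eq]; exact MultW.ree_two_card hK S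
    have h2 : ({1, invA hK} : Finset ↥(gG K m)).card ≤ 2 := Finset.card_le_two
    omega
  have hb2 : b * b = 1 := sylow_two_elementary hK S hbS
  have hab2 : invA hK * b * (invA hK * b) = 1 := sylow_two_elementary hK S (mul_mem hA hbS)
  have hcomm : Commute (invA hK) b := by
    have h := eq_inv_of_mul_eq_one_left hab2
    rw [mul_inv_rev, invA_inv, inv_eq_of_mul_eq_one_left hb2] at h
    exact h
  have hab1 : invA hK * b ≠ 1 := fun e => hbA (by
    rw [eq_inv_of_mul_eq_one_right e, invA_inv])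
  have h4 := four_dvd_finrank σ (invA_sq hK) hb2 hcomm htrA (htr b hb2 hb1) (htr _ hab2 hab1)
  rw [hk] at h4
  obtain ⟨j, rfl⟩ : ∃ j, q = 4 * j + 3 := ⟨q / 4, by omega⟩
  obtain ⟨d, hd⟩ := h4
  rw [show 4 * j + 3 - 1 = 4 * j + 2 by omega] at hd
  have : (4 * j + 2) * (4 * j + 3) = 4 * (4 * j * j + 5 * j + 1) + 2 := by ring
  omega

end Degree

/-- For the Ree group ²G₂(q), q = 3^(2m+1) with m ≥ 1 (realised over the field with q elements), every irreducible complex representation of degree at least 2 has degree at least q² − q + 1. -/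
theorem result {K : Type*} [Field K] [Fintype K] (m : ℕ) (hm : 1 ≤ m) (hK : Fintype.card K = 3 ^ (2 * m + 1)) :
    (∀ (k : ℕ) (ρ : Representation ℂ (Cfsg.Lie.twistedG2 K (3 ^ m)) (Fin k → ℂ)), ρ.IsIrreducible → 2 ≤ k → (3 ^ (2 * m + 1)) ^ 2 - 3 ^ (2 * m + 1) + 1 ≤ k) := by
  haveI := g2_charP hK
  rw [twistedG2_eq hK]
  intro k ρ hρ hk
  obtain ⟨σ, hσ⟩ : ∃ σ : ↥(gG K m) →* Module.End ℂ (Fin k → ℂ), ∀ g, σ g = ρ g := ⟨ρ, fun _ => rfl⟩
  have hinj : Function.Injective σ := by
    refine (MonoidHom.ker_eq_bot_iff σ).mp ?_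
    haveI : IsSimpleGroup ↥(gG K m) := ((twOKG2 (K := K) m).simple_of_perfect certG2C fullCertG2 twCombG2 twLinkedG2
      Nat.one_pos (by decide) (g2_witness hK) (twistedG2_perfect hK hm)).1
    refine (Subgroup.Normal.eq_bot_or_eq_top (H := σ.ker) inferInstance).resolve_right fun htop => ?_
    have htriv : ∀ g, ρ g = 1 := fun g => by
      have : g ∈ σ.ker := by rw [htop]; trivial
      rw [MonoidHom.mem_ker, hσ] at this
      exact this
    obtain ⟨v, hv⟩ : ∃ v : Fin k → ℂ, v ≠ 0 := by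
      haveI : Nonempty (Fin k) := ⟨⟨0, by omega⟩⟩
      exact exists_ne 0
    haveI := hρ
    let W : Subrepresentation ρ := ⟨ℂ ∙ v, fun g w hw => by rw [htriv]; exact hw⟩
    rcases IsSimpleOrder.eq_bot_or_eq_top W with h0 | h0
    · exact hv (Submodule.span_singleton_eq_bot.mp (congrArg Subrepresentation.toSubmodule h0))
    · have h1 : (ℂ ∙ v) = ⊤ := congrArg Subrepresentation.toSubmodule h0
      have h2 := finrank_span_singleton (K := ℂ) hv
      rw [h1, finrank_top, Module.finrank_fin_fun] at h2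
      omega
  have := degree_bound hK σ hinj
  rwa [Module.finrank_fin_fun] at this

end Cfsg.Agent.S2343
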