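import Cfsg.Statements.S2347
import Cfsg.Agent.Lib.Linear.Weil.MinDegree

set_option autoImplicit false
open Cfsg

namespace Cfsg.Agent.S2347

/-- Smallest degree of a non-linear irreducible complex representation of the symplectic group Sp_{2n} over a finite field of odd order q, n ≥ 2: every irreducible complex representation of degree at least 2 has degree at least (q^n − 1)/2, and there is an irreducible complex representation of exactly that degree (a Weil representation). -/
theorem result {F : Type*} [Field F] [Fintype F] [DecidableEq F] (n : ℕ) (hn : 2 ≤ n) (hodd : Odd (Fintype.card F)) :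
    (∀ (k : ℕ) (ρ : Representation ℂ (Matrix.symplecticGroup (Fin n) F) (Fin k → ℂ)), ρ.IsIrreducible → 2 ≤ k → (Fintype.card F ^ n - 1) / 2 ≤ k) ∧
    (∃ ρ : Representation ℂ (Matrix.symplecticGroup (Fin n) F) (Fin ((Fintype.card F ^ n - 1) / 2) → ℂ), ρ.IsIrreducible) := by
  have h2 : (2 : F) ≠ 0 := by
    refine Ring.two_ne_zero fun h => ?_
    have := FiniteField.even_card_of_char_two h
    have := Nat.odd_iff.mp hodd
    omega
  refine ⟨fun k ρ hρ hk => ?_, Cfsg.Lib.Linear.Weil.exists_irreducible h2 hn⟩
  have h := Cfsg.Lib.Linear.Weil.degree_ge h2 hn (V := Fin k → ℂ) ρ ?_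
  · rwa [Module.finrank_fin_fun] at h
  -- a trivial irreducible representation has dimension one
  by_contra htriv
  push Not at htriv
  haveI : Nonempty (Fin k) := ⟨⟨0, by omega⟩⟩
  obtain ⟨v, hv⟩ : ∃ v : Fin k → ℂ, v ≠ 0 := exists_ne 0
  haveI := hρ
  let W : Subrepresentation ρ := ⟨ℂ ∙ v, fun g w hw => by rw [htriv]; exact hw⟩
  rcases IsSimpleOrder.eq_bot_or_eq_top W with h0 | h0
  · exact hv (by
      have := congrArg Subrepresentation.toSubmodule h0
      exact Submodule.span_singleton_eq_bot.mp this)
  · have h1 : (ℂ ∙ v) = ⊤ := congrArg Subrepresentation.toSubmodule h0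
    have h2' := finrank_span_singleton (K := ℂ) hv
    rw [h1, finrank_top, Module.finrank_fin_fun] at h2'
    omega

end Cfsg.Agent.S2347
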