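import Cfsg.Statements.S2354
import Cfsg.Agent.Lib.Laws.Generic

set_option autoImplicit false
open Cfsg

namespace Cfsg.Agent.S2354

theorem star4_diagonal {F : Type*} [CommRing F] (x : Fin 4 → F) :
    Cfsg.Lie.star4 (Matrix.diagonal x) = Matrix.diagonal ![x 0 * x 1, x 0 * x 2, x 1 * x 3, x 2 * x 3] := by
  ext i j
  fin_cases i <;> fin_cases j <;> simp [Cfsg.Lie.star4, Cfsg.Lie.pairOf, Matrix.diagonal]

set_option maxHeartbeats 1000000

/-- A non-trivial law holds in only finitely many Suzuki groups: for every non-trivial element w of the free group on countably many generators there is N such that for q = 2^(2m+1) with m ≥ N some substitution of elements of the Suzuki group over the field with q elements into w is not the identity. -/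
theorem result (w : FreeGroup ℕ) (hw : w ≠ 1) :
    ∃ N : ℕ, ∀ (F : Type*) [Field F] [Fintype F] (m : ℕ), 1 ≤ m → N ≤ m →
      Fintype.card F = 2 ^ (2 * m + 1) →
      ∃ f : ℕ → ↥(Cfsg.Lie.Sz F (2 ^ (m + 1))), FreeGroup.lift f w ≠ 1 := by
  set L := w.toWord.length with hL
  refine ⟨32 * (L + 1) + 2, fun F _ _ m hm hN hF => ?_⟩
  classical
  haveI : CharP F 2 := charP_of_card_eq_prime_pow hF
  set E := 2 ^ (m + 1) with hE
  have hE4 : 4 ≤ E := by rw [hE]; exact Nat.pow_le_pow_right (n := 2) (by norm_num) (by omega : 2 ≤ m + 1)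
  have hEE : E * E = 2 * Fintype.card F := by rw [hF, hE, ← pow_add, ← pow_succ']; congr 1; omega
  have hpowE : ∀ t : F, (t ^ E) ^ E = t * t := by
    intro t
    rw [← pow_mul, hEE, mul_comm, pow_mul, FiniteField.pow_card, sq]
  let M : Matrix (Fin 4) (Fin 4) F := !![1, 0, 1, 1; 1, 1, 1, 0; 0, 1, 1, 1; 1, 1, 0, 1]
  let N : Matrix (Fin 4) (Fin 4) F := !![1, 1, 0, 1; 0, 1, 1, 1; 1, 1, 1, 0; 1, 0, 1, 1]
  have hMN : M * N = 1 := by
    ext i j
    fin_cases i <;> fin_cases j <;> simp [M, N, CharTwo.add_self_eq_zero]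
  have hNM : N * M = 1 := by
    ext i j
    fin_cases i <;> fin_cases j <;> simp [M, N, CharTwo.add_self_eq_zero]
  let A₀ : GL (Fin 4) F := ⟨M, N, hMN, hNM⟩
  have h2 : (2 : F) = 0 := CharTwo.two_eq_zero
  have hA₀ : A₀ ∈ Cfsg.Lie.Sz F E := by
    refine Subgroup.subset_closure ⟨?_, ?_⟩
    · intro u v
      simp only [A₀, Units.coeHom_apply, Cfsg.Lie.altForm4, M, Matrix.mulVec, dotProduct, Fin.sum_univ_four,
        Matrix.of_apply, Matrix.cons_val', Matrix.cons_val_fin_one, Matrix.cons_val, one_mul, zero_mul,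
        add_zero, zero_add]
      ring_nf
      simp [h2, show (3 : F) = 1 by linear_combination h2]
    · ext i j
      fin_cases i <;> fin_cases j <;>
        simp [A₀, M, Cfsg.Lie.star4, Cfsg.Lie.pairOf, CharTwo.add_self_eq_zero, CharTwo.neg_eq, zero_pow (by omega : E ≠ 0)]
  let d : Fˣ → Fin 4 → Fˣ := fun t => ![t, t ^ (E - 1), (t ^ (E - 1))⁻¹, t⁻¹]
  let D₀ : Fˣ → GL (Fin 4) F := fun t => ⟨Matrix.diagonal fun l => (d t l : F),
    Matrix.diagonal fun l => ((d t l)⁻¹ : Fˣ), by rw [Matrix.diagonal_mul_diagonal]; simp,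
    by rw [Matrix.diagonal_mul_diagonal]; simp⟩
  have hD₀ : ∀ t, D₀ t ∈ Cfsg.Lie.Sz F E := by
    intro t
    refine Subgroup.subset_closure ⟨?_, ?_⟩
    · intro u v
      have ht := t.ne_zero
      have ht' : (t : F) ^ (E - 1) ≠ 0 := pow_ne_zero _ ht
      simp only [D₀, Units.coeHom_apply, Cfsg.Lie.altForm4, Matrix.mulVec_diagonal, d, Units.val_inv_eq_inv_val,
        Units.val_pow_eq_pow_val, Matrix.cons_val]
      field_simp
    · have ht := t.ne_zero
      have ht' : (t : F) ^ (E - 1) ≠ 0 := pow_ne_zero _ ht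
      have e1 : (t : F) ^ E = (t : F) ^ (E - 1) * t := by rw [← pow_succ]; congr 1; omega
      have e2 : ((t : F) ^ (E - 1)) ^ E = (t : F) / (t : F) ^ (E - 1) := by
        apply mul_right_cancel₀ (pow_ne_zero E ht)
        rw [← mul_pow, ← pow_succ, show E - 1 + 1 = E by omega, hpowE, e1]
        field_simp
      simp only [D₀]
      rw [Cfsg.Agent.S2354.star4_diagonal, Matrix.diagonal_map (f := fun x : F => x ^ E) (zero_pow (M₀ := F) (by omega : E ≠ 0))]
      refine congrArg Matrix.diagonal (funext fun l => ?_)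
      fin_cases l <;>
        simp only [d, Units.val_inv_eq_inv_val, Units.val_pow_eq_pow_val, Matrix.cons_val, Fin.zero_eta, Fin.mk_one,
          Fin.reduceFinMk, inv_pow, e2, Function.comp_apply] <;>
        (try rw [e1]) <;> field_simp
  let A : ↥(Cfsg.Lie.Sz F E) := ⟨A₀, hA₀⟩
  let D : Fˣ → ↥(Cfsg.Lie.Sz F E) := fun t => ⟨D₀ t, hD₀ t⟩
  obtain ⟨f, hf⟩ := Cfsg.Lib.Laws.exists_nonscalar (Cfsg.Lie.Sz F E).subtype ![E, 2 * (E - 1), 0, E - 2] (E - 1) 1 2
    (by simp) (by simp)
    (by intro l hl; fin_cases l <;> first | exact absurd rfl hl | (simp; omega))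
    (by intro l hl; fin_cases l <;> first | exact absurd rfl hl | (simp; omega))
    D (fun t => by
      have ht := t.ne_zero
      have ht' : (t : F) ^ (E - 1) ≠ 0 := pow_ne_zero _ ht
      have e1 : (t : F) ^ E = (t : F) ^ (E - 1) * t := by rw [← pow_succ]; congr 1; omega
      have e3 : (t : F) ^ (E - 1) = (t : F) ^ (E - 2) * t := by rw [← pow_succ]; congr 1; omega
      ext i j
      fin_cases i <;> fin_cases j <;>
        simp [D, D₀, d, two_mul, pow_add, e1] <;> (try rw [e3]) <;> field_simp)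
    A (by
      intro a ha b hb
      have h1 : ((Cfsg.Lie.Sz F E).subtype A : Matrix (Fin 4) (Fin 4) F) = M := rfl
      have h2 : ((Cfsg.Lie.Sz F E).subtype A⁻¹ : Matrix (Fin 4) (Fin 4) F) = N := rfl
      rw [h1, h2]
      fin_cases ha <;> fin_cases hb <;> simp [M, N])
    w hw (by
      have h1 : 2 ^ (2 * m + 1) = 2 ^ (m + 1) * 2 ^ m := by rw [← pow_add]; congr 1; omega
      have h2 : m < 2 ^ m := Nat.lt_two_pow_self
      rw [hF, h1, ← hE, ← hL]
      have h3 : E * (32 * (L + 1) + 2) ≤ E * 2 ^ m := Nat.mul_le_mul_left _ (by omega)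
      have h4 : 16 * (E - 1) * (L + 1) ≤ 16 * E * (L + 1) := by gcongr; omega
      nlinarith)
  refine ⟨f, fun h => hf 1 ?_⟩
  rw [h, map_one, Units.val_one, one_smul]

end Cfsg.Agent.S2354
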