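import Cfsg.Statements.S2355
import Cfsg.Agent.Lib.Laws.Classical

set_option autoImplicit false
open Cfsg

namespace Cfsg.Agent.S2355

open Cfsg.Lib.Laws
open scoped MatrixGroups

theorem lift_equiv {G H : Type*} [Group G] [Group H] (e : G ≃* H) (w : FreeGroup ℕ)
    (h : ∀ f : ℕ → G, FreeGroup.lift f w = 1) (f : ℕ → H) : FreeGroup.lift f w = 1 := by
  have e' : FreeGroup.lift f = e.toMonoidHom.comp (FreeGroup.lift fun i => e.symm (f i)) :=
    FreeGroup.ext_hom _ _ fun i => by simp
  rw [e', MonoidHom.comp_apply, h, map_one]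

theorem not_law {G H K : Type*} [Group G] [Group H] [Group K] (e : G ≃* H ⧸ Subgroup.center H) (φ : K →* H)
    (hφ : Function.Injective φ) (w : FreeGroup ℕ) (h : ∀ f : ℕ → G, FreeGroup.lift f w = 1)
    (f : ℕ → K) (hf : FreeGroup.lift f w ∉ Subgroup.center K) : False := by
  obtain ⟨g, hg⟩ := exists_ne_one_quotient_center φ hφ w f hf
  exact hg (lift_equiv e w h g)

theorem card_le {G H F : Type*} [Group G] [Group H] [Fintype F] {ι : Type*} [Fintype ι]
    (e : G ≃* H ⧸ Subgroup.center H) (toM : H → Matrix ι ι F) (hinj : Function.Injective toM)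
    (Q D : ℕ) (hQ : Fintype.card F ≤ Q) (hQ1 : 1 ≤ Q) (hD : Fintype.card ι ≤ D) : Nat.card G ≤ Q ^ (D * D) := by
  have : Finite H := Finite.of_injective _ hinj
  rw [Nat.card_congr e.toEquiv]
  calc Nat.card (H ⧸ Subgroup.center H) ≤ Nat.card H := Nat.card_le_card_of_surjective _ QuotientGroup.mk_surjective
    _ ≤ Nat.card (Matrix ι ι F) := Nat.card_le_card_of_injective _ hinj
    _ = Fintype.card F ^ (Fintype.card ι * Fintype.card ι) := by
      rw [show Nat.card (Matrix ι ι F) = Nat.card (ι → ι → F) from rfl, Nat.card_fun, Nat.card_fun, ← pow_mul,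
        Nat.card_eq_fintype_card, Nat.card_eq_fintype_card]
    _ ≤ Q ^ (Fintype.card ι * Fintype.card ι) := Nat.pow_le_pow_left hQ _
    _ ≤ Q ^ (D * D) := Nat.pow_le_pow_right hQ1 (Nat.mul_le_mul hD hD)


/-- A non-trivial law is satisfied by only finitely many finite simple groups that are alternating or classical, up to isomorphism: for every non-trivial element w of the free group on countably many generators there is a bound N such that every alternating group of degree ≥ 5 and every simple classical group (linear, symplectic, unitary or orthogonal, in this problem's sense) in which w is a law has order at most N. -/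
theorem result (w : FreeGroup ℕ) (hw : w ≠ 1) :
    ∃ N : ℕ, ∀ (G : Type*) [Group G] [Finite G],
      (Cfsg.IsAlternating G ∨ Cfsg.IsPSL G ∨ Cfsg.IsPSp G ∨ Cfsg.IsPSU G ∨ Cfsg.IsPOmegaOdd G ∨
          Cfsg.IsPOmegaPlus G ∨ Cfsg.IsPOmegaMinus G) →
      (∀ f : ℕ → G, FreeGroup.lift f w = 1) → Nat.card G ≤ N := by
  obtain ⟨N₀, hN₀⟩ := exists_noncentral_alternating w hw
  set B : ℕ := 16 * (w.toWord.length + 1) + 3 with hB
  set D : ℕ := 2 * (N₀ + 6) + 3 with hDdef
  refine ⟨(B ^ 2) ^ (D * D) + (N₀ + 6).factorial, fun G _ _ hG hlaw => ?_⟩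
  suffices hs : Nat.card G ≤ (B ^ 2) ^ (D * D) ∨ Nat.card G ≤ (N₀ + 6).factorial by omega
  have hB1 : 1 ≤ B ^ 2 := Nat.one_le_pow _ _ (by omega)
  have hBB : B ≤ B ^ 2 := Nat.le_self_pow (by omega) _
  rcases hG with h | h | h | h | h | h | h
  · obtain ⟨n, -, ⟨e⟩⟩ := h
    right
    by_contra hcon
    have hn : N₀ ≤ n := by
      by_contra hn
      apply hcon
      rw [Nat.card_congr e.toEquiv]
      refine (Subgroup.card_le_card_group _).trans ?_
      rw [Nat.card_perm, Nat.card_fin]
      exact Nat.factorial_le (by omega)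
    obtain ⟨f, hf⟩ := hN₀ n hn
    exact hf (by rw [lift_equiv e w hlaw f]; exact one_mem _)
  · obtain ⟨F, _, _, n, hn2, -, ⟨e⟩⟩ := h
    left
    have hn : n < N₀ := by
      by_contra hn
      obtain ⟨f, hf⟩ := hN₀ n (by omega)
      exact not_law e (altHom F n) (altHom_injective n) w hlaw f hf
    have hq : Fintype.card F < B := by
      by_contra hq
      obtain ⟨f, hf⟩ := exists_noncentral_SL_two (F := F) w hw (by omega)
      exact not_law e (cornerHom n hn2) (cornerHom_injective n hn2) w hlaw f hf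
    exact card_le e (fun g => (g : Matrix (Fin n) (Fin n) F)) Subtype.val_injective _ _ (by omega) hB1
      (by simp; omega)
  · obtain ⟨F, _, _, n, hn2, -, ⟨e⟩⟩ := h
    left
    have hn : n < N₀ := by
      by_contra hn
      obtain ⟨f, hf⟩ := hN₀ n (by omega)
      exact not_law e ((sympHom (F := F) n).comp (altHom F n)) ((sympHom_injective n).comp (altHom_injective n))
        w hlaw f hf
    have hq : Fintype.card F < B := by
      by_contra hq
      obtain ⟨f, hf⟩ := exists_noncentral_SL_two (F := F) w hw (by omega)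
      exact not_law e ((sympHom (F := F) n).comp (cornerHom n hn2))
        ((sympHom_injective n).comp (cornerHom_injective n hn2)) w hlaw f hf
    exact card_le e (fun g => (g : Matrix (Fin n ⊕ Fin n) (Fin n ⊕ Fin n) F)) Subtype.val_injective _ _ (by omega) hB1
      (by simp; omega)
  · obtain ⟨F, _, _, n, q, hF, hn3, -, ⟨e⟩⟩ := h
    left
    have hn : n < N₀ := by
      by_contra hn
      obtain ⟨f, hf⟩ := hN₀ n (by omega)
      obtain ⟨φ, hφ⟩ := exists_hom_SU_alt hF n
      exact not_law e φ hφ w hlaw f hf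
    have hq : q < B := by
      by_contra hq
      obtain ⟨F₀, φ, hcard, hφ⟩ := exists_hom_SU hF n (by omega)
      have : Fintype ↥F₀ := Fintype.ofFinite _
      rw [Nat.card_eq_fintype_card] at hcard
      obtain ⟨f, hf⟩ := exists_noncentral_SL_two (F := ↥F₀) w hw (by omega)
      exact not_law e φ hφ w hlaw f hf
    exact card_le e (fun g => ((g : Matrix.SpecialLinearGroup (Fin n) F) : Matrix (Fin n) (Fin n) F))
      (Subtype.val_injective.comp Subtype.val_injective) _ _
      (by rw [hF]; exact Nat.pow_le_pow_left hq.le 2) hB1 (by simp; omega)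
  · obtain ⟨F, _, _, m, hm, -, ⟨e⟩⟩ := h
    left
    obtain ⟨ψ, hψ⟩ := exists_hom_omega (quadFormOdd m F) hm
      (extHom m Unit (Equiv.sumComm (Fin m ⊕ Fin m) Unit)) (extHom_injective _ _ _) (fun A u => by
        simp only [quadFormOdd]
        rw [show (Sum.inl () : Unit ⊕ (Fin m ⊕ Fin m)) = Equiv.sumComm (Fin m ⊕ Fin m) Unit (Sum.inr ()) from rfl,
          extHom_mulVec, Sum.elim_inr]
        refine congrArg₂ (· + ·) rfl ?_
        have := dblHom_quad m A (u ∘ Sum.inr)
        simp only [quadFormPlus, Function.comp_apply] at this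
        rw [← this]
        refine Finset.sum_congr rfl fun i _ => ?_
        rw [show (Sum.inr (Sum.inl i) : Unit ⊕ (Fin m ⊕ Fin m)) =
            Equiv.sumComm (Fin m ⊕ Fin m) Unit (Sum.inl (Sum.inl i)) from rfl, extHom_mulVec,
          show (Sum.inr (Sum.inr i) : Unit ⊕ (Fin m ⊕ Fin m)) =
            Equiv.sumComm (Fin m ⊕ Fin m) Unit (Sum.inl (Sum.inr i)) from rfl, extHom_mulVec]
        rfl)
    have hn : m < N₀ := by
      by_contra hn
      obtain ⟨f, hf⟩ := hN₀ m (by omega)
      exact not_law e (ψ.comp (altHom F m)) (hψ.comp (altHom_injective m)) w hlaw f hf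
    have hq : Fintype.card F < B := by
      by_contra hq
      obtain ⟨f, hf⟩ := exists_noncentral_SL_two (F := F) w hw (by omega)
      exact not_law e (ψ.comp (cornerHom m (by omega))) (hψ.comp (cornerHom_injective m _)) w hlaw f hf
    exact card_le e (fun g : Omega F (quadFormOdd m F) => ((g.1.1 : GL (Unit ⊕ (Fin m ⊕ Fin m)) F) : Matrix (Unit ⊕ (Fin m ⊕ Fin m)) (Unit ⊕ (Fin m ⊕ Fin m)) F))
      (Units.val_injective.comp (Subtype.val_injective.comp Subtype.val_injective)) _ _ (by omega) hB1
      (by simp; omega)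
  · obtain ⟨F, _, _, m, hm, ⟨e⟩⟩ := h
    left
    obtain ⟨ψ, hψ⟩ := exists_hom_omega (quadFormPlus m F) (by omega : 3 ≤ m) (dblHom m) (dblHom_injective m)
      (dblHom_quad m)
    have hn : m < N₀ := by
      by_contra hn
      obtain ⟨f, hf⟩ := hN₀ m (by omega)
      exact not_law e (ψ.comp (altHom F m)) (hψ.comp (altHom_injective m)) w hlaw f hf
    have hq : Fintype.card F < B := by
      by_contra hq
      obtain ⟨f, hf⟩ := exists_noncentral_SL_two (F := F) w hw (by omega)
      exact not_law e (ψ.comp (cornerHom m (by omega))) (hψ.comp (cornerHom_injective m _)) w hlaw f hf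
    exact card_le e (fun g : Omega F (quadFormPlus m F) => ((g.1.1 : GL (Fin m ⊕ Fin m) F) : Matrix (Fin m ⊕ Fin m) (Fin m ⊕ Fin m) F))
      (Units.val_injective.comp (Subtype.val_injective.comp Subtype.val_injective)) _ _ (by omega) hB1
      (by simp; omega)
  · obtain ⟨F, _, _, m, a, b, hm, -, ⟨e⟩⟩ := h
    left
    obtain ⟨ψ, hψ⟩ := exists_hom_omega (quadFormMinus (m - 1) F a b) (by omega : 3 ≤ m - 1)
      (extHom (m - 1) (Fin 2) (Equiv.refl _)) (extHom_injective _ _ _) (fun A u => by
        have hx : ∀ x, ((extHom (m - 1) (Fin 2) (Equiv.refl _) A : Matrix _ _ F).mulVec u) x = _ := fun x =>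
          extHom_mulVec (m - 1) (Fin 2) (Equiv.refl _) A u x
        have := dblHom_quad (m - 1) A (u ∘ Sum.inl)
        simp only [quadFormPlus, Function.comp_apply] at this
        simp only [quadFormMinus, hx, Sum.elim_inl, Sum.elim_inr, Equiv.coe_refl, Function.id_comp,
          Function.comp_apply, this])
    have hn : m - 1 < N₀ := by
      by_contra hn
      obtain ⟨f, hf⟩ := hN₀ (m - 1) (by omega)
      exact not_law e (ψ.comp (altHom F (m - 1))) (hψ.comp (altHom_injective _)) w hlaw f hf
    have hq : Fintype.card F < B := by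
      by_contra hq
      obtain ⟨f, hf⟩ := exists_noncentral_SL_two (F := F) w hw (by omega)
      exact not_law e (ψ.comp (cornerHom (m - 1) (by omega))) (hψ.comp (cornerHom_injective _ _)) w hlaw f hf
    exact card_le e (fun g : Omega F (quadFormMinus (m - 1) F a b) => ((g.1.1 : GL ((Fin (m - 1) ⊕ Fin (m - 1)) ⊕ Fin 2) F) : Matrix ((Fin (m - 1) ⊕ Fin (m - 1)) ⊕ Fin 2) ((Fin (m - 1) ⊕ Fin (m - 1)) ⊕ Fin 2) F))
      (Units.val_injective.comp (Subtype.val_injective.comp Subtype.val_injective)) _ _ (by omega) hB1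
      (by simp; omega)

end Cfsg.Agent.S2355
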