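import Cfsg.Statements.S2577
import Cfsg.Agent.Lib.Linear.SemisimpleClasses

/-! Involution classes of projective general linear groups in odd characteristic. -/

set_option autoImplicit false
open Cfsg Polynomial
open scoped Matrix

namespace Cfsg.Agent.S2577

universe u

variable {F : Type u} [Field F] {n : ℕ}

/-- The diagonal matrix with `k` entries `-1`. -/
noncomputable def dg (F : Type u) [Field F] (n k : ℕ) : Matrix (Fin n) (Fin n) F :=
  Matrix.diagonal fun j => if (j : ℕ) < k then (-1) else 1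

theorem card_lt {k : ℕ} (hk : k ≤ n) : (Finset.univ.filter fun j : Fin n => (j : ℕ) < k).card = k := by
  rw [show (Finset.univ.filter fun j : Fin n => (j : ℕ) < k) = (Finset.univ : Finset (Fin k)).map (Fin.castLEEmb hk) from ?_,
    Finset.card_map, Finset.card_univ, Fintype.card_fin]
  ext j
  simp only [Finset.mem_filter, Finset.mem_univ, true_and, Finset.mem_map, Fin.castLEEmb_apply]
  exact ⟨fun h => ⟨⟨j, h⟩, rfl⟩, fun ⟨i, hi⟩ => hi ▸ i.2⟩

theorem charpoly_dg {k : ℕ} (hk : k ≤ n) : (dg F n k).charpoly = (X + 1) ^ k * (X - 1) ^ (n - k) := by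
  have h2 : (Finset.univ.filter fun j : Fin n => ¬ (j : ℕ) < k).card = n - k := by
    have := Finset.card_filter_add_card_filter_not (s := (Finset.univ : Finset (Fin n))) (fun j : Fin n => (j : ℕ) < k)
    rw [card_lt hk, Finset.card_univ, Fintype.card_fin] at this
    omega
  rw [dg, Matrix.charpoly_diagonal]
  rw [Finset.prod_congr rfl fun (j : Fin n) _ => show X - C (if (j : ℕ) < k then (-1 : F) else 1) =
      if (j : ℕ) < k then X + 1 else X - 1 by split_ifs <;> simp]
  rw [Finset.prod_ite, Finset.prod_const, Finset.prod_const, card_lt hk, h2]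

theorem neg_dg_charpoly {k : ℕ} (hk : k ≤ n) :
    (-dg F n k).charpoly = (X + 1) ^ (n - k) * (X - 1) ^ k := by
  have h2 : (Finset.univ.filter fun j : Fin n => ¬ (j : ℕ) < k).card = n - k := by
    have := Finset.card_filter_add_card_filter_not (s := (Finset.univ : Finset (Fin n))) (fun j : Fin n => (j : ℕ) < k)
    rw [card_lt hk, Finset.card_univ, Fintype.card_fin] at this
    omega
  rw [dg, Matrix.diagonal_neg, Matrix.charpoly_diagonal]
  rw [Finset.prod_congr rfl fun (j : Fin n) _ => show X - C (-(if (j : ℕ) < k then (-1 : F) else 1)) =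
      if (j : ℕ) < k then X - 1 else X + 1 by split_ifs <;> simp]
  rw [Finset.prod_ite, Finset.prod_const, Finset.prod_const, card_lt hk, h2, mul_comm]

theorem dg_sq (k : ℕ) : dg F n k * dg F n k = 1 := by
  rw [dg, Matrix.diagonal_mul_diagonal, ← Matrix.diagonal_one]
  congr 1
  funext j
  split_ifs <;> simp

/-- The unit of a diagonal representative. -/
noncomputable def dgU (F : Type u) [Field F] (n k : ℕ) : GL (Fin n) F := ⟨dg F n k, dg F n k, dg_sq k, dg_sq k⟩

theorem dg_inj (h2 : (2 : F) ≠ 0) {k l : ℕ} (hk : k ≤ n) (hl : l ≤ n)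
    (h : ((X : F[X]) + 1) ^ k * (X - 1) ^ (n - k) = (X + 1) ^ l * (X - 1) ^ (n - l)) : k = l := by
  classical
  have hne : (-1 : F) ≠ 1 := fun h => h2 (by linear_combination -h)
  have key : ∀ j, (((X : F[X]) + 1) ^ j * (X - 1) ^ (n - j)).roots.count (-1) = j := by
    intro j
    have : ((X : F[X]) + 1) ^ j * (X - 1) ^ (n - j) =
        ((Multiset.replicate j (-1 : F) + Multiset.replicate (n - j) 1).map fun a => X - C a).prod := by
      simp [Multiset.map_add, Multiset.map_replicate, Multiset.prod_add, Multiset.prod_replicate]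
    rw [this, roots_multiset_prod_X_sub_C, Multiset.count_add, Multiset.count_replicate_self,
      Multiset.count_replicate, if_neg hne.symm, add_zero]
  rw [← key k, h, key l]

/-- A matrix with square `1` is conjugate to a diagonal representative. -/
theorem exists_dg [Fintype F] (h2 : (2 : F) ≠ 0) (M : Matrix (Fin n) (Fin n) F) (hM : M * M = 1) :
    ∃ k, k ≤ n ∧ IsConj M (dg F n k) ∧ (k = 0 → M = 1) ∧ (k = n → M = -1) := by
  classical
  obtain ⟨ι, hι, f, hf1, hf2, hf⟩ := Cfsg.Lib.CanonicalForm.exists_form_of_pow_eq_one M 2 (by exact_mod_cast h2)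
    (by rw [pow_two, hM])
  have hdiv := (hf.aeval_eq_zero_iff ((X + 1) * (X - 1))).1 (by
    rw [map_mul, map_add, map_sub, aeval_X, map_one, add_mul, mul_sub, mul_sub, hM, mul_one, one_mul, one_mul]
    abel)
  have hcase : ∀ i, f i = X + 1 ∨ f i = X - 1 := fun i => by
    rcases (hf2 i).prime.dvd_or_dvd (hdiv i) with h | h
    · left
      refine eq_of_monic_of_associated (hf1 i) (monic_X_add_C 1) ((hf2 i).associated_of_dvd ?_ h)
      simpa using irreducible_X_sub_C (-1 : F)
    · right
      refine eq_of_monic_of_associated (hf1 i) (monic_X_sub_C 1) ((hf2 i).associated_of_dvd ?_ h)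
      simpa using irreducible_X_sub_C (1 : F)
  have hdeg : ∀ i, (f i).natDegree = 1 := fun i => by
    rcases hcase i with h | h <;> rw [h]
    · simpa using natDegree_X_add_C (1 : F)
    · simpa using natDegree_X_sub_C (1 : F)
  have hn := hf.sum_natDegree hf1
  simp only [hdeg, Finset.sum_const, smul_eq_mul, mul_one, Finset.card_univ] at hn
  set k := (Finset.univ.filter fun i => f i = X + 1).card with hk
  have hk2 : (Finset.univ.filter fun i => ¬ f i = X + 1).card = n - k := by
    have := Finset.card_filter_add_card_filter_not (s := (Finset.univ : Finset ι)) (fun i => f i = X + 1)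
    rw [Finset.card_univ, hn] at this
    omega
  have hkn : k ≤ n := hn ▸ Finset.card_filter_le _ _
  refine ⟨k, hkn, ?_, fun h0 => ?_, fun h0 => ?_⟩
  · refine Cfsg.Lib.CanonicalForm.isConj_of_charpoly_eq 2 2 (by exact_mod_cast h2) (by exact_mod_cast h2)
      (by rw [pow_two, hM]) (by rw [pow_two, dg_sq]) ?_
    rw [hf.charpoly hf1, charpoly_dg hkn]
    rw [Finset.prod_congr rfl fun i _ => show f i = if f i = X + 1 then X + 1 else X - 1 by
      rcases hcase i with h | h
      · rw [if_pos h, h]
      · split_ifs with h' <;> assumption]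
    rw [Finset.prod_ite, Finset.prod_const, Finset.prod_const, hk2]
  · refine sub_eq_zero.1 ?_
    have := (hf.aeval_eq_zero_iff (X - 1)).2 fun i => by
      rcases hcase i with h | h
      · exact absurd h0 (Finset.card_ne_zero_of_mem (a := i) (by simp [h]))
      · rw [h]
    simpa using this
  · refine eq_neg_of_add_eq_zero_left ?_
    have := (hf.aeval_eq_zero_iff (X + 1)).2 fun i => by
      rcases hcase i with h | h
      · rw [h]
      · have : 0 < n - k := hk2 ▸ Finset.card_pos.2 ⟨i, by
          simp only [Finset.mem_filter, Finset.mem_univ, true_and, h]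
          intro h'
          have := congrArg (fun g : F[X] => g.coeff 0) h'
          simp at this
          exact h2 (by linear_combination -this)⟩
        omega
    simpa using this

theorem irreducible_sq_sub {ν : F} (hν : ¬ IsSquare ν) : Irreducible (X ^ 2 - C ν : F[X]) :=
  X_pow_sub_C_irreducible_of_prime Nat.prime_two fun b hb => hν ⟨b, by rw [← hb, pow_two]⟩

theorem main [Fintype F] {q : ℕ} (hF : Fintype.card F = q) (hq : Odd q) (hn : 2 ≤ n) :
    Nat.card {C : ConjClasses (GL (Fin n) F ⧸ Subgroup.center (GL (Fin n) F)) //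
      ∃ g : GL (Fin n) F ⧸ Subgroup.center (GL (Fin n) F), ConjClasses.mk g = C ∧ orderOf g = 2} =
      n / 2 + (if Even n then 1 else 0) := by
  classical
  have hchar : ringChar F ≠ 2 := by
    intro h
    have h1 := FiniteField.even_card_of_char_two h
    rw [hF] at h1
    obtain ⟨l, hl⟩ := hq
    omega
  have h2 : (2 : F) ≠ 0 := Ring.two_ne_zero hchar
  obtain ⟨ν, hν⟩ := FiniteField.exists_nonsquare hchar
  have hν0 : ν ≠ 0 := fun h => hν (h ▸ IsSquare.zero)
  set Z := Subgroup.center (GL (Fin n) F) with hZ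
  haveI : Nonempty (Fin n) := ⟨⟨0, by omega⟩⟩
  have hscal : ∀ A : GL (Fin n) F, A ∈ Z ↔ ∃ c : F, (A : Matrix (Fin n) (Fin n) F) = c • 1 := fun A => by
    rw [hZ, Matrix.GeneralLinearGroup.mem_center_iff_val_eq_scalar]
    simp [Set.mem_range, Matrix.smul_one_eq_diagonal, eq_comm]
  have hmk : ∀ A B : GL (Fin n) F, (A : GL (Fin n) F ⧸ Z) = B ↔
      ∃ c : F, c ≠ 0 ∧ (B : Matrix (Fin n) (Fin n) F) = c • (A : Matrix (Fin n) (Fin n) F) := by
    intro A B
    rw [QuotientGroup.eq, hscal]
    constructor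
    · rintro ⟨c, hc⟩
      have hB : (B : Matrix (Fin n) (Fin n) F) = c • (A : Matrix (Fin n) (Fin n) F) := by
        rw [← mul_inv_cancel_left A B, Units.val_mul, hc, mul_smul_comm, mul_one]
      refine ⟨c, fun h0 => ?_, hB⟩
      have := B.det_ne_zero
      simp [hB, h0] at this
    · rintro ⟨c, -, hc⟩
      exact ⟨c, by rw [Units.val_mul, hc, mul_smul_comm, Units.inv_mul]⟩
  have hord : ∀ A : GL (Fin n) F, orderOf (A : GL (Fin n) F ⧸ Z) = 2 ↔
      (∃ c : F, (A : Matrix (Fin n) (Fin n) F) * A = c • 1) ∧ ∀ c : F, (A : Matrix (Fin n) (Fin n) F) ≠ c • 1 := by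
    intro A
    rw [orderOf_eq_prime_iff, ← QuotientGroup.mk_pow, QuotientGroup.eq_one_iff, Ne, QuotientGroup.eq_one_iff, hscal,
      hscal, pow_two, Units.val_mul]
    push Not
    rfl
  -- the representative for a non-square
  have hE : Even n → ∃ E : GL (Fin n) F, (E : Matrix (Fin n) (Fin n) F) * E = ν • 1 ∧
      ∀ M : Matrix (Fin n) (Fin n) F, M * M = ν • 1 → IsConj M (E : Matrix (Fin n) (Fin n) F) := by
    intro he
    obtain ⟨l, hl⟩ := he
    have hmon : (X ^ 2 - C ν : F[X]).Monic := monic_X_pow_sub_C ν two_ne_zero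
    obtain ⟨E, hEf⟩ := Cfsg.Lib.CanonicalForm.exists_matrix (n := n)
      (fun _ : ULift.{u} (Fin l) => (X ^ 2 - C ν : F[X])) (fun _ => hmon) (by
        simp [natDegree_X_pow_sub_C]; omega)
    have hEE : E * E = ν • 1 := by
      have := (hEf.aeval_eq_zero_iff (X ^ 2 - C ν)).2 fun _ => dvd_rfl
      rw [map_sub, map_pow, aeval_X, aeval_C, Algebra.algebraMap_eq_smul_one, sub_eq_zero, pow_two] at this
      exact this
    have hEu : E * (ν⁻¹ • E) = 1 := by rw [mul_smul_comm, hEE, smul_smul, inv_mul_cancel₀ hν0, one_smul]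
    refine ⟨⟨E, ν⁻¹ • E, hEu, mul_eq_one_comm.1 hEu⟩, hEE, fun M hM => ?_⟩
    have hord' : M ^ (2 * (q - 1)) = 1 := by
      rw [pow_mul, pow_two, hM, _root_.smul_pow, one_pow, ← hF, FiniteField.pow_card_sub_one_eq_one ν hν0, one_smul]
    have hm : ((2 * (q - 1) : ℕ) : F) ≠ 0 := by
      rw [Nat.cast_mul, Nat.cast_sub (by obtain ⟨l, hl⟩ := hq; omega), ← hF, Nat.cast_card_eq_zero]
      simpa using h2
    obtain ⟨ι, hι, f, hf1, hf2, hf⟩ := Cfsg.Lib.CanonicalForm.exists_form_of_pow_eq_one M _ hm hord'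
    have hdiv := (hf.aeval_eq_zero_iff (X ^ 2 - C ν)).1 (by
      rw [map_sub, map_pow, aeval_X, aeval_C, Algebra.algebraMap_eq_smul_one, sub_eq_zero, pow_two, hM])
    have hfi : f = fun _ => X ^ 2 - C ν := funext fun i =>
      eq_of_monic_of_associated (hf1 i) hmon ((hf2 i).associated_of_dvd (irreducible_sq_sub hν) (hdiv i))
    have hc := hf.sum_natDegree hf1
    simp only [hfi, natDegree_X_pow_sub_C, Finset.sum_const, smul_eq_mul, Finset.card_univ] at hc
    refine Cfsg.Lib.CanonicalForm.isConj_of_map_eq hf hEf ?_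
    simp only [hfi, Multiset.map_const']
    congr 1
    rw [← Finset.card_def, ← Finset.card_def, Finset.card_univ, Finset.card_univ, Fintype.card_ulift, Fintype.card_fin]
    omega
  choose E hEE hEc using hE
  let R : Fin (n / 2) ⊕ PLift (Even n) → GL (Fin n) F :=
    Sum.elim (fun i => dgU F n (i + 1)) (fun h => E h.down)
  have hR : ∀ i, orderOf (R i : GL (Fin n) F ⧸ Z) = 2 := by
    intro i
    rw [hord]
    rcases i with i | h
    · refine ⟨⟨1, by rw [one_smul]; exact dg_sq _⟩, fun c hc => ?_⟩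
      have hi := i.2
      have a0 := congrFun (congrFun hc ⟨0, by omega⟩) ⟨0, by omega⟩
      have a1 := congrFun (congrFun hc ⟨n - 1, by omega⟩) ⟨n - 1, by omega⟩
      simp [R, dgU, dg, show ¬ (n ≤ (i : ℕ) + 1) by omega, show ¬ (n - 1 < (i : ℕ) + 1) by omega] at a0 a1
      exact h2 (by linear_combination a1 - a0)
    · refine ⟨⟨ν, hEE h.down⟩, fun c hc => hν ⟨c, ?_⟩⟩
      have := hEE h.down
      simp only [R, Sum.elim_inr] at hc
      rw [hc, smul_mul_smul_comm, mul_one] at this
      exact (congrFun (congrFun this ⟨0, by omega⟩) ⟨0, by omega⟩ |> fun h => by simpa using h.symm)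
  have hcard : Nat.card (Fin (n / 2) ⊕ PLift (Even n)) = n / 2 + (if Even n then 1 else 0) := by
    rw [Nat.card_sum, Nat.card_fin]
    congr 1
    split_ifs with h
    · haveI : Nonempty (PLift (Even n)) := ⟨⟨h⟩⟩
      exact Nat.card_unique
    · haveI : IsEmpty (PLift (Even n)) := ⟨fun x => h x.down⟩
      exact Nat.card_of_isEmpty
  rw [← hcard]
  refine (Nat.card_eq_of_bijective (fun i => ⟨ConjClasses.mk (R i : GL (Fin n) F ⧸ Z), _, rfl, hR i⟩) ⟨?_, ?_⟩).symm
  · intro i j hij
    obtain ⟨c, hc⟩ := isConj_iff.1 (ConjClasses.mk_eq_mk_iff_isConj.1 (congrArg Subtype.val hij))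
    obtain ⟨T, rfl⟩ := QuotientGroup.mk_surjective c
    rw [← QuotientGroup.mk_inv, ← QuotientGroup.mk_mul, ← QuotientGroup.mk_mul, hmk] at hc
    obtain ⟨z, hz, hzc⟩ := hc
    set A := (R i : Matrix (Fin n) (Fin n) F) with hA
    have hconj : IsConj (z • A) (R j : Matrix (Fin n) (Fin n) F) := by
      refine ⟨T, ?_⟩
      show (T : Matrix (Fin n) (Fin n) F) * (z • A) = (R j : Matrix (Fin n) (Fin n) F) * T
      rw [hzc, mul_smul_comm, smul_mul_assoc, ← Units.val_mul (T * R i * T⁻¹), inv_mul_cancel_right, Units.val_mul]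
    have hsq : ∀ c d : F, A * A = c • 1 → (R j : Matrix (Fin n) (Fin n) F) * R j = d • 1 → z * z * c = d := by
      intro c d hc hd
      obtain ⟨S, hS⟩ := hconj
      have hS2 : (S : Matrix (Fin n) (Fin n) F) * ((z • A) * (z • A)) = ((R j : Matrix (Fin n) (Fin n) F) * R j) * S := by
        rw [← mul_assoc, hS.eq, mul_assoc, hS.eq, ← mul_assoc]
      rw [smul_mul_smul_comm, hc, hd, smul_smul, mul_smul_comm, mul_one, smul_mul_assoc, one_mul] at hS2
      obtain ⟨a, b, hab⟩ : ∃ a b, (S : Matrix (Fin n) (Fin n) F) a b ≠ 0 := by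
        by_contra hcon
        push Not at hcon
        have := Matrix.GeneralLinearGroup.det_ne_zero S
        rw [show (S : Matrix (Fin n) (Fin n) F) = 0 from Matrix.ext hcon] at this
        exact this Matrix.det_zero
      exact mul_right_cancel₀ hab (congrFun (congrFun hS2 a) b)
    rcases i with i | hi <;> rcases j with j | hj
    · have h1 := hsq 1 1 (by rw [one_smul]; exact dg_sq _) (by rw [one_smul]; exact dg_sq _)
      rw [mul_one] at h1
      have hcp := Cfsg.Agent.Lib.Linear.SemisimpleClasses.charpoly_eq_of_isConj hconj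
      have hi2 := i.2
      have hj2 := j.2
      rcases mul_self_eq_one_iff.1 h1 with rfl | rfl
      · simp only [hA, R, Sum.elim_inl, dgU, one_smul] at hcp
        rw [charpoly_dg (by omega), charpoly_dg (by omega)] at hcp
        exact congrArg Sum.inl (Fin.ext (by have := dg_inj h2 (by omega) (by omega) hcp; omega))
      · simp only [hA, R, Sum.elim_inl, dgU, neg_smul, one_smul] at hcp
        rw [neg_dg_charpoly (by omega), charpoly_dg (by omega)] at hcp
        have := dg_inj h2 (k := n - ((i : ℕ) + 1)) (l := (j : ℕ) + 1) (n := n) (by omega) (by omega)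
          (by rw [show n - (n - ((i : ℕ) + 1)) = (i : ℕ) + 1 by omega]; exact hcp)
        exact congrArg Sum.inl (Fin.ext (by omega))
    · exact absurd ⟨z, ((mul_one (z * z)).symm.trans (hsq 1 ν (by rw [one_smul]; exact dg_sq _) (hEE hj.down))).symm⟩ hν
    · have h1 := hsq ν 1 (hEE hi.down) (by rw [one_smul]; exact dg_sq _)
      exact absurd ⟨z⁻¹, by field_simp; linear_combination h1⟩ hν
    · obtain ⟨a⟩ := hi; obtain ⟨b⟩ := hj; rfl
  · rintro ⟨C, g, rfl, hg⟩
    obtain ⟨A, rfl⟩ := QuotientGroup.mk_surjective g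
    obtain ⟨⟨c, hc⟩, hns⟩ := (hord A).1 hg
    have hc0 : c ≠ 0 := fun h0 => by
      have := congrArg Matrix.det hc
      rw [Matrix.det_mul, h0, zero_smul, Matrix.det_zero] at this
      exact A.det_ne_zero (mul_self_eq_zero.1 this)
    suffices ∃ i, ∃ z : F, z ≠ 0 ∧ IsConj (z • (A : Matrix (Fin n) (Fin n) F)) (R i : Matrix (Fin n) (Fin n) F) by
      obtain ⟨i, z, hz, hi⟩ := this
      refine ⟨i, Subtype.ext (ConjClasses.mk_eq_mk_iff_isConj.2 ?_)⟩
      let U : GL (Fin n) F := Matrix.GeneralLinearGroup.mkOfDetNeZero (z • (A : Matrix (Fin n) (Fin n) F))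
        (by rw [Matrix.det_smul]; exact mul_ne_zero (pow_ne_zero _ hz) A.det_ne_zero)
      have hUA : (U : GL (Fin n) F ⧸ Z) = A := ((hmk A U).2 ⟨z, hz, rfl⟩).symm
      rw [← hUA]
      exact ((QuotientGroup.mk' Z).map_isConj
        (Cfsg.Agent.Lib.Linear.SemisimpleClasses.isConj_units_of_isConj U (R i) hi)).symm
    by_cases hsq : IsSquare c
    · obtain ⟨d, rfl⟩ := hsq
      have hd : d ≠ 0 := left_ne_zero_of_mul hc0
      obtain ⟨k, hk, hkc, hk0, hkn⟩ := exists_dg h2 (d⁻¹ • (A : Matrix (Fin n) (Fin n) F)) (by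
        rw [smul_mul_smul_comm, hc, smul_smul]
        field_simp
        simp [hd])
      have hk0' : k ≠ 0 := fun h => hns d (by
        have := congrArg (d • ·) (hk0 h); simpa [smul_smul, hd] using this)
      have hkn' : k ≠ n := fun h => hns (-d) (by
        have := congrArg (d • ·) (hkn h); simpa [smul_smul, hd] using this)
      by_cases hkh : k ≤ n / 2
      · refine ⟨Sum.inl ⟨k - 1, by omega⟩, d⁻¹, inv_ne_zero hd, ?_⟩
        simpa [R, dgU, Nat.sub_add_cancel (Nat.one_le_iff_ne_zero.2 hk0')] using hkc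
      · refine ⟨Sum.inl ⟨n - k - 1, by omega⟩, -d⁻¹, neg_ne_zero.2 (inv_ne_zero hd), ?_⟩
        obtain ⟨S, hS⟩ := hkc
        have h1 : IsConj ((-d⁻¹) • (A : Matrix (Fin n) (Fin n) F)) (-dg F n k) := by
          refine ⟨S, ?_⟩
          show (S : Matrix (Fin n) (Fin n) F) * _ = _ * (S : Matrix (Fin n) (Fin n) F)
          rw [neg_smul, mul_neg, neg_mul, hS.eq]
        have h22 : ((2 : ℕ) : F) ≠ 0 := by exact_mod_cast h2
        refine h1.trans (Cfsg.Lib.CanonicalForm.isConj_of_charpoly_eq 2 2 h22 h22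
          (by rw [pow_two, neg_mul_neg, dg_sq]) (by rw [pow_two]; exact dg_sq _) ?_)
        show _ = (dg F n (n - k - 1 + 1)).charpoly
        rw [neg_dg_charpoly hk, charpoly_dg (by omega), show n - k - 1 + 1 = n - k by omega,
          show n - (n - k) = k by omega]
    · have hνc : IsSquare (ν * c) := by
        have e1 := (FiniteField.isSquare_iff hchar hν0).not.1 hν
        have e2 := (FiniteField.isSquare_iff hchar hc0).not.1 hsq
        have o1 := FiniteField.pow_dichotomy hchar hν0
        have o2 := FiniteField.pow_dichotomy hchar hc0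
        rw [FiniteField.isSquare_iff hchar (mul_ne_zero hν0 hc0), mul_pow, o1.resolve_left e1, o2.resolve_left e2]
        ring
      obtain ⟨d, hd⟩ := hνc
      have he : Even n := by
        have := congrArg Matrix.det hc
        rw [Matrix.det_mul, Matrix.det_smul, Matrix.det_one, mul_one, Fintype.card_fin] at this
        by_contra he
        obtain ⟨l, rfl⟩ := Nat.not_even_iff_odd.1 he
        refine hsq ⟨(A : Matrix (Fin (2 * l + 1)) (Fin (2 * l + 1)) F).det * (c ^ l)⁻¹, ?_⟩
        field_simp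
        linear_combination -this
      refine ⟨Sum.inr ⟨he⟩, d / c, div_ne_zero (fun h0 => mul_ne_zero hν0 hc0 (by rw [hd, h0, mul_zero])) hc0,
        hEc he _ ?_⟩
      rw [smul_mul_smul_comm, hc, smul_smul]
      congr 1
      field_simp
      linear_combination -hd

/-- Number of conjugacy classes of involutions in PGL_n(q) for q odd and n ≥ 2: there are ⌊n/2⌋ classes represented by diagonal matrices with i entries −1 (1 ≤ i ≤ n/2) and, when n is even, one more class represented by a block-diagonal matrix of 2 × 2 blocks [[0, 1], [μ, 0]] with μ a non-square (a matrix squaring to a scalar but having no eigenvalue in the field); in all ⌊n/2⌋ + 1 classes if n is even and ⌊n/2⌋ if n is odd. -/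
theorem result {F : Type*} [Field F] [Fintype F] {q : ℕ} (hF : Fintype.card F = q) (hq : Odd q) {n : ℕ} (hn : 2 ≤ n) : Nat.card {C : ConjClasses (GL (Fin n) F ⧸ Subgroup.center (GL (Fin n) F)) // ∃ g : GL (Fin n) F ⧸ Subgroup.center (GL (Fin n) F), ConjClasses.mk g = C ∧ orderOf g = 2} = n / 2 + (if Even n then 1 else 0) := by
  exact main hF hq hn

end Cfsg.Agent.S2577
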