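import Cfsg.Statements.S2360
import Cfsg.Agent.S2577
import Cfsg.Agent.Lib.Linear.HermParabolic

/-! Involutions of three-dimensional special unitary groups in odd characteristic. -/

set_option autoImplicit false
open Cfsg
open scoped Matrix

namespace Cfsg.Agent.S2360

open Cfsg.Lib.Linear.Herm Module

universe u

variable {F : Type u} [Field F] [Fintype F] {q : ℕ}

theorem two_ne (hF : Fintype.card F = q ^ 2) (hq : Odd q) : (2 : F) ≠ 0 := by
  refine Ring.two_ne_zero fun h => ?_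
  have h1 := FiniteField.even_card_of_char_two h
  rw [hF] at h1
  have h2 := Nat.odd_iff.1 (hq.pow (n := 2))
  omega

/-- The involution attached to a unit vector. -/
noncomputable def refl (hF : Fintype.card F = q ^ 2) (v : Fin 3 → F) : Matrix (Fin 3) (Fin 3) F :=
  (2 : F) • Matrix.vecMulVec v (fun i => frob hF (v i)) - 1

theorem refl_mulVec (hF : Fintype.card F = q ^ 2) (v u : Fin 3 → F) :
    refl hF v *ᵥ u = (2 * hB hF 3 v u) • v - u := by
  rw [refl, Matrix.sub_mulVec, Matrix.one_mulVec, Matrix.smul_mulVec, Matrix.vecMulVec_mulVec, op_smul_eq_smul,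
    smul_smul]
  congr 3
  simp only [hB_apply, Cfsg.hermForm, dotProduct, frob_apply]
  exact Finset.sum_congr rfl fun i _ => mul_comm _ _

theorem det_refl (hF : Fintype.card F = q ^ 2) {v : Fin 3 → F} (hv : hB hF 3 v v = 1) : (refl hF v).det = 1 := by
  have h : refl hF v = (-1 : F) • (1 + Matrix.replicateCol Unit ((-2 : F) • v) *
      Matrix.replicateRow Unit (fun i => frob hF (v i))) := by
    rw [← Matrix.vecMulVec_eq Unit, Matrix.smul_vecMulVec, refl]
    module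
  rw [h, Matrix.det_smul, Matrix.det_one_add_replicateCol_mul_replicateRow, Fintype.card_fin, dotProduct_smul,
    show (fun i => frob hF (v i)) ⬝ᵥ v = hB hF 3 v v from by
      simp only [hB_apply, Cfsg.hermForm, dotProduct, frob_apply]
      exact Finset.sum_congr rfl fun i _ => mul_comm _ _, hv, smul_eq_mul]
  ring

theorem mem_refl (hF : Fintype.card F = q ^ 2) {v : Fin 3 → F} (hv : hB hF 3 v v = 1) :
    (⟨refl hF v, det_refl hF hv⟩ : Matrix.SpecialLinearGroup (Fin 3) F) ∈ Cfsg.SU 3 F q := by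
  intro a b
  show hB hF 3 (refl hF v *ᵥ b) (refl hF v *ᵥ a) = hB hF 3 b a
  rw [refl_mulVec, refl_mulVec]
  simp only [map_sub, LinearMap.sub_apply, map_smul, LinearMap.map_smulₛₗ, LinearMap.smul_apply, smul_eq_mul, hv,
    map_mul, map_ofNat]
  rw [(hB_isSymm hF 3).eq v b]
  ring

/-- The involution of `SU_3` attached to a unit vector. -/
noncomputable def inv3 (hF : Fintype.card F = q ^ 2) (v : {v : Fin 3 → F // hB hF 3 v v = 1}) : ↥(Cfsg.SU 3 F q) :=
  ⟨_, mem_refl hF v.2⟩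

/-- The linear action of an element. -/
noncomputable def act (g : ↥(Cfsg.SU 3 F q)) (u : Fin 3 → F) : Fin 3 → F :=
  ((g : Matrix.SpecialLinearGroup (Fin 3) F) : Matrix (Fin 3) (Fin 3) F) *ᵥ u

theorem act_mul (g h : ↥(Cfsg.SU 3 F q)) (u : Fin 3 → F) : act (g * h) u = act g (act h u) :=
  (Matrix.mulVec_mulVec _ _ _).symm

theorem act_one (u : Fin 3 → F) : act (1 : ↥(Cfsg.SU 3 F q)) u = u := Matrix.one_mulVec u

theorem act_ext {g h : ↥(Cfsg.SU 3 F q)} (H : ∀ u, act g u = act h u) : g = h :=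
  Subtype.ext (Subtype.ext (Matrix.toLin'.injective (LinearMap.ext H)))

theorem act_iso (hF : Fintype.card F = q ^ 2) (g : ↥(Cfsg.SU 3 F q)) (a b : Fin 3 → F) :
    hB hF 3 (act g a) (act g b) = hB hF 3 a b := g.2 b a

theorem act_inv3 (hF : Fintype.card F = q ^ 2) (v : {v : Fin 3 → F // hB hF 3 v v = 1}) (u : Fin 3 → F) :
    act (inv3 hF v) u = (2 * hB hF 3 v.1 u) • v.1 - u := refl_mulVec hF v.1 u

theorem inv3_mul_self (hF : Fintype.card F = q ^ 2) (v : {v : Fin 3 → F // hB hF 3 v v = 1}) :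
    inv3 hF v * inv3 hF v = 1 := by
  refine act_ext fun u => ?_
  rw [act_mul, act_inv3, act_inv3, act_one, map_sub, map_smul, v.2, smul_eq_mul]
  module

theorem exists_perp_ne (hF : Fintype.card F = q ^ 2) {n : ℕ} (v : Fin n → F) (hn : 2 ≤ n) :
    ∃ u, u ≠ 0 ∧ hB hF n v u = 0 := by
  have h1 := finrank_perp hF (Submodule.span F {v})
  have h2 : finrank F (Submodule.span F ({v} : Set (Fin n → F))) ≤ 1 :=
    (finrank_span_le_card ({v} : Set (Fin n → F))).trans (by simp)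
  obtain ⟨u, hu, hu0⟩ := Submodule.exists_mem_ne_zero_of_ne_bot (p := perp hF (Submodule.span F {v})) fun h => by
    rw [h, finrank_bot] at h1
    omega
  exact ⟨u, hu0, hu v (Submodule.mem_span_singleton_self v)⟩

theorem inv3_ne_one (hF : Fintype.card F = q ^ 2) (hq : Odd q) (v : {v : Fin 3 → F // hB hF 3 v v = 1}) :
    inv3 hF v ≠ 1 := by
  intro h
  obtain ⟨u, hu0, hu⟩ := exists_perp_ne hF v.1 (by norm_num)
  have h1 := act_inv3 hF v u
  rw [h, act_one, hu, mul_zero, zero_smul, zero_sub, eq_neg_iff_add_eq_zero, ← two_smul F] at h1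
  exact hu0 ((smul_eq_zero.1 h1).resolve_left (two_ne hF hq))

theorem inv3_eq_iff (hF : Fintype.card F = q ^ 2) (hq : Odd q) (v w : {v : Fin 3 → F // hB hF 3 v v = 1}) :
    inv3 hF v = inv3 hF w ↔ ∃ z : F, z ^ (q + 1) = 1 ∧ w.1 = z • v.1 := by
  constructor
  · intro h
    have h1 : (2 * hB hF 3 v.1 w.1) • v.1 - w.1 = (2 * hB hF 3 w.1 w.1) • w.1 - w.1 := by
      rw [← act_inv3, ← act_inv3, h]
    have h2 : w.1 = hB hF 3 v.1 w.1 • v.1 := by
      rw [w.2, mul_one, sub_left_inj, mul_smul] at h1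
      exact (smul_right_injective _ (two_ne hF hq) h1).symm
    refine ⟨_, ?_, h2⟩
    have h3 := w.2
    rw [h2, map_smul, LinearMap.map_smulₛₗ, LinearMap.smul_apply, v.2, smul_eq_mul, smul_eq_mul, mul_one,
      frob_apply, ← pow_succ'] at h3
    exact h3
  · rintro ⟨z, hz, h⟩
    refine act_ext fun u => ?_
    rw [act_inv3, act_inv3, h, LinearMap.map_smulₛₗ, LinearMap.smul_apply, smul_eq_mul, smul_smul]
    congr 2
    rw [frob_apply]
    linear_combination (-2 * hB hF 3 v.1 u) * hz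

theorem exists_inv3 (hF : Fintype.card F = q ^ 2) (hq : Odd q) (x : ↥(Cfsg.SU 3 F q)) (hx : x ≠ 1)
    (hx2 : x * x = 1) : ∃ v, inv3 hF v = x := by
  classical
  have h2 := two_ne hF hq
  set M := ((x : Matrix.SpecialLinearGroup (Fin 3) F) : Matrix (Fin 3) (Fin 3) F) with hM
  have hMM : M * M = 1 :=
    congrArg (fun g : ↥(Cfsg.SU 3 F q) => ((g : Matrix.SpecialLinearGroup (Fin 3) F) : Matrix (Fin 3) (Fin 3) F)) hx2
  obtain ⟨k, hk, ⟨S, hS⟩, hk0, -⟩ := Cfsg.Agent.S2577.exists_dg h2 M hMM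
  have hdet : (Cfsg.Agent.S2577.dg F 3 k).det = 1 := by
    have h := congrArg Matrix.det hS.eq
    rw [Matrix.det_mul, Matrix.det_mul, (x : Matrix.SpecialLinearGroup (Fin 3) F).2, mul_one] at h
    have hS0 : (S : Matrix (Fin 3) (Fin 3) F).det ≠ 0 := ((Matrix.isUnit_iff_isUnit_det _).1 S.isUnit).ne_zero
    exact (mul_eq_right₀ hS0).1 h.symm
  rw [Cfsg.Agent.S2577.dg, Matrix.det_diagonal, Fin.prod_univ_three] at hdet
  have hk2 : k = 2 := by
    have : (-1 : F) ≠ 1 := fun h => h2 (by linear_combination -h)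
    interval_cases k <;> first | rfl | exact absurd (hk0 rfl) (fun h => hx (Subtype.ext (Subtype.ext h))) | (exfalso; simp at hdet; exact this hdet)
  subst hk2
  have hfix : ∀ u, M *ᵥ u = u → ∃ a : F, (S : Matrix (Fin 3) (Fin 3) F) *ᵥ u = a • (Pi.single 2 1 : Fin 3 → F) := by
    intro u hu
    have h3 : Cfsg.Agent.S2577.dg F 3 2 *ᵥ ((S : Matrix (Fin 3) (Fin 3) F) *ᵥ u) =
        (S : Matrix (Fin 3) (Fin 3) F) *ᵥ u := by
      rw [Matrix.mulVec_mulVec, ← hS.eq, ← Matrix.mulVec_mulVec, hu]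
    refine ⟨((S : Matrix (Fin 3) (Fin 3) F) *ᵥ u) 2, funext fun i => ?_⟩
    have h4 := congrFun h3 i
    rw [Cfsg.Agent.S2577.dg, Matrix.mulVec_diagonal] at h4
    generalize (S : Matrix (Fin 3) (Fin 3) F) *ᵥ u = y at h4 ⊢
    fin_cases i <;> simp at h4 ⊢
    · exact (mul_eq_zero.1 (show (2 : F) * y 0 = 0 by linear_combination -h4)).resolve_left h2
    · exact (mul_eq_zero.1 (show (2 : F) * y 1 = 0 by linear_combination -h4)).resolve_left h2
  have hact2 : ∀ u, act x (act x u) = u := fun u => by rw [← act_mul, hx2, act_one]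
  have hfixed : ∀ u, M *ᵥ (u + act x u) = u + act x u := fun u => by
    rw [Matrix.mulVec_add]
    show act x u + act x (act x u) = _
    rw [hact2, add_comm]
  set e : Fin 3 → F := ((S⁻¹ : (Matrix (Fin 3) (Fin 3) F)ˣ) : Matrix (Fin 3) (Fin 3) F) *ᵥ Pi.single 2 1 with he
  have hline : ∀ u, ∃ a : F, u + act x u = a • e := fun u => by
    obtain ⟨a, ha⟩ := hfix _ (hfixed u)
    refine ⟨a, ?_⟩
    rw [he, ← Matrix.mulVec_smul, ← ha, Matrix.mulVec_mulVec, Units.inv_mul, Matrix.one_mulVec]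
  have hMe : act x e = e := by
    show M *ᵥ e = e
    rw [he, Matrix.mulVec_mulVec]
    have h5 : M * ((S⁻¹ : (Matrix (Fin 3) (Fin 3) F)ˣ) : Matrix (Fin 3) (Fin 3) F) =
        ((S⁻¹ : (Matrix (Fin 3) (Fin 3) F)ˣ) : Matrix (Fin 3) (Fin 3) F) * Cfsg.Agent.S2577.dg F 3 2 := by
      calc M * _ = ((S⁻¹ : (Matrix (Fin 3) (Fin 3) F)ˣ) : Matrix (Fin 3) (Fin 3) F) *
            ((S : Matrix (Fin 3) (Fin 3) F) * M) * ((S⁻¹ : (Matrix (Fin 3) (Fin 3) F)ˣ) : Matrix (Fin 3) (Fin 3) F) := by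
              rw [← mul_assoc, Units.inv_mul, one_mul]
        _ = _ := by rw [hS.eq, mul_assoc, mul_assoc, Units.mul_inv, mul_one]
    rw [h5, ← Matrix.mulVec_mulVec]
    congr 1
    funext i
    rw [Cfsg.Agent.S2577.dg, Matrix.mulVec_diagonal]
    fin_cases i <;> simp
  have hee : hB hF 3 e e ≠ 0 := by
    intro h0
    have hperp : ∀ u, hB hF 3 e u = 0 := fun u => by
      obtain ⟨a, ha⟩ := hline u
      have h6 := congrArg (hB hF 3 e) ha
      have h7 : hB hF 3 e (act x u) = hB hF 3 e u := by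
        conv_lhs => rw [← hMe]
        exact act_iso hF x e u
      rw [map_add, h7, map_smul, h0, smul_zero, ← two_mul] at h6
      exact (mul_eq_zero.1 h6).resolve_left h2
    have := (hB_nondegenerate hF 3).1 e hperp
    rw [he] at this
    have h8 := congrArg ((S : Matrix (Fin 3) (Fin 3) F) *ᵥ ·) this
    simp only [Matrix.mulVec_mulVec, Units.mul_inv, Matrix.one_mulVec, Matrix.mulVec_zero] at h8
    simpa using congrFun h8 2
  obtain ⟨c, hc⟩ := exists_norm_eq hF (inv_ne_zero hee)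
    (by rw [inv_pow, ← frob_apply hF, (hB_isSymm hF 3).eq])
  refine ⟨⟨(c : F) • e, by
    rw [map_smul, LinearMap.map_smulₛₗ, LinearMap.smul_apply, smul_eq_mul, smul_eq_mul, frob_apply, ← mul_assoc,
      ← pow_succ', hc, inv_mul_cancel₀ hee]⟩, act_ext fun u => ?_⟩
  rw [act_inv3]
  obtain ⟨a, ha⟩ := hline u
  have h6 := congrArg (hB hF 3 e) ha
  have h7 : hB hF 3 e (act x u) = hB hF 3 e u := by
    conv_lhs => rw [← hMe]
    exact act_iso hF x e u
  rw [map_add, h7, map_smul, smul_eq_mul] at h6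
  simp only [LinearMap.map_smulₛₗ, LinearMap.smul_apply, smul_eq_mul, smul_smul]
  rw [eq_sub_of_add_eq' ha]
  congr 2
  rw [frob_apply]
  have hcc : (c : F) ^ q * (c : F) = (hB hF 3 e e)⁻¹ := by rw [← pow_succ, hc]
  field_simp at hcc
  linear_combination a * hcc + (c : F) ^ q * (c : F) * h6

theorem commute_iff (hF : Fintype.card F = q ^ 2) (hq : Odd q) (v w : {v : Fin 3 → F // hB hF 3 v v = 1}) :
    Commute (inv3 hF v) (inv3 hF w) ↔ inv3 hF v = inv3 hF w ∨ hB hF 3 v.1 w.1 = 0 := by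
  have h2 := two_ne hF hq
  constructor
  · intro h
    by_cases hvw : hB hF 3 v.1 w.1 = 0
    · exact Or.inr hvw
    left
    have h1 := congrArg (fun g => act g w.1) h.eq
    simp only [act_mul, act_inv3, w.2, map_sub, map_smul, smul_eq_mul, mul_one] at h1
    have hwv : hB hF 3 w.1 v.1 = frob hF (hB hF 3 v.1 w.1) := ((hB_isSymm hF 3).eq _ _).symm
    rw [hwv] at h1
    have h3 : hB hF 3 v.1 w.1 • v.1 = (hB hF 3 v.1 w.1 * frob hF (hB hF 3 v.1 w.1)) • w.1 := by
      refine smul_right_injective _ (show (4 : F) ≠ 0 by rw [show (4 : F) = 2 * 2 by norm_num]; exact mul_ne_zero h2 h2) ?_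
      linear_combination (norm := module) h1
    rw [mul_smul] at h3
    have h4 := smul_right_injective _ hvw h3
    have h4' : v.1 = frob hF (hB hF 3 v.1 w.1) • w.1 := h4
    refine ((inv3_eq_iff hF hq w v).2 ⟨_, ?_, h4'⟩).symm
    have h5 := v.2
    rw [h4', map_smul, LinearMap.map_smulₛₗ, LinearMap.smul_apply, w.2, smul_eq_mul, smul_eq_mul, mul_one,
      frob_frob, frob_apply] at h5
    rw [frob_apply, ← pow_mul, mul_add, mul_one, pow_add, ← sq, ← hF, FiniteField.pow_card]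
    linear_combination h5
  · rintro (h | h)
    · rw [h]
    · refine act_ext fun u => ?_
      simp only [act_mul, act_inv3, map_sub, map_smul, smul_eq_mul, h, hB_symm_zero hF h]
      module

theorem card_kernel (hF : Fintype.card F = q ^ 2) (X : Submodule F (Fin 3 → F)) {k : ℕ} (hk : finrank F (perp hF X) = k)
    (hnd : ∀ u ∈ perp hF X, (∀ v ∈ perp hF X, hB hF 3 u v = 0) → u = 0) :
    Nat.card {v : {v : Fin 3 → F // hB hF 3 v v = 1} // v.1 ∈ perp hF X} = N F q k 1 := by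
  obtain ⟨L, hL, hLi⟩ := Cfsg.Agent.S0837.exists_orth hF k _ hk hnd
  have hinj : Function.Injective L := by
    rw [← LinearMap.ker_eq_bot, LinearMap.ker_eq_bot']
    intro a ha
    refine (hB_nondegenerate hF k).1 a fun b => ?_
    rw [← hLi, ha, map_zero, LinearMap.zero_apply]
  refine (Nat.card_eq_of_bijective (fun a : {a : Fin k → F // ∑ i, a i ^ (q + 1) = 1} =>
    (⟨⟨L a.1, by rw [hLi, hB_apply, hermForm_self]; exact a.2⟩, hL ▸ LinearMap.mem_range_self L a.1⟩ :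
      {v : {v : Fin 3 → F // hB hF 3 v v = 1} // v.1 ∈ perp hF X})) ⟨?_, ?_⟩).symm
  · intro a b h
    exact Subtype.ext (hinj (congrArg (fun v : {v : {v : Fin 3 → F // hB hF 3 v v = 1} // v.1 ∈ perp hF X} => v.1.1) h))
  · rintro ⟨⟨v, hv⟩, hvX⟩
    obtain ⟨a, rfl⟩ := hL.symm ▸ hvX
    refine ⟨⟨a, ?_⟩, rfl⟩
    rw [hLi, hB_apply, hermForm_self] at hv
    exact hv

/-- Counting involutions through unit vectors. -/
theorem card_fibre (hF : Fintype.card F = q ^ 2) (hq : Odd q) (P : ↥(Cfsg.SU 3 F q) → Prop) :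
    Nat.card {v : {v : Fin 3 → F // hB hF 3 v v = 1} // P (inv3 hF v)} =
      (q + 1) * Nat.card {x : ↥(Cfsg.SU 3 F q) // x ≠ 1 ∧ x * x = 1 ∧ P x} := by
  classical
  choose r hr using fun x : {x : ↥(Cfsg.SU 3 F q) // x ≠ 1 ∧ x * x = 1 ∧ P x} => exists_inv3 hF hq x.1 x.2.1 x.2.2.1
  rw [← card_norm_eq hF one_ne_zero (one_pow q), ← Nat.card_prod]
  refine (Nat.card_eq_of_bijective (fun p : {z : F // z ^ (q + 1) = 1} × {x : ↥(Cfsg.SU 3 F q) // x ≠ 1 ∧ x * x = 1 ∧ P x} =>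
    (⟨⟨p.1.1 • (r p.2).1, by
      rw [map_smul, LinearMap.map_smulₛₗ, LinearMap.smul_apply, (r p.2).2, smul_eq_mul, smul_eq_mul, mul_one,
        frob_apply, ← pow_succ', p.1.2]⟩, by
      rw [show inv3 hF ⟨p.1.1 • (r p.2).1, _⟩ = p.2.1 from
        ((inv3_eq_iff hF hq (r p.2) _).2 ⟨p.1.1, p.1.2, rfl⟩).symm.trans (hr p.2)]
      exact p.2.2.2.2⟩ : {v : {v : Fin 3 → F // hB hF 3 v v = 1} // P (inv3 hF v)})) ⟨?_, ?_⟩).symm
  · rintro ⟨z, x⟩ ⟨w, y⟩ h
    have h1 : z.1 • (r x).1 = w.1 • (r y).1 := congrArg (fun v => v.1.1) h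
    have hxy : x = y := by
      refine Subtype.ext ?_
      rw [← hr x, ← hr y, inv3_eq_iff hF hq]
      have hw0 : w.1 ≠ 0 := fun h0 => zero_ne_one (α := F) (by rw [← w.2, h0, zero_pow (Nat.succ_ne_zero q)])
      refine ⟨w.1⁻¹ * z.1, by rw [mul_pow, inv_pow, w.2, z.2, inv_one, one_mul], ?_⟩
      rw [mul_smul, h1, inv_smul_smul₀ hw0]
    subst hxy
    refine Prod.ext (Subtype.ext ?_) rfl
    have h2 := congrArg (hB hF 3 (r x).1) h1
    rw [map_smul, map_smul, (r x).2, smul_eq_mul, smul_eq_mul, mul_one, mul_one] at h2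
    exact h2
  · rintro ⟨v, hv⟩
    let x : {x : ↥(Cfsg.SU 3 F q) // x ≠ 1 ∧ x * x = 1 ∧ P x} :=
      ⟨inv3 hF v, inv3_ne_one hF hq v, inv3_mul_self hF v, hv⟩
    obtain ⟨z, hz, h⟩ := (inv3_eq_iff hF hq (r x) v).1 (hr x)
    exact ⟨(⟨z, hz⟩, x), Subtype.ext (Subtype.ext h.symm)⟩

theorem card_inv (hF : Fintype.card F = q ^ 2) (hq : Odd q) :
    Nat.card {x : ↥(Cfsg.SU 3 F q) // x ≠ 1 ∧ x * x = 1} = q ^ 2 * (q ^ 2 - q + 1) := by
  have hbot : perp hF (⊥ : Submodule F (Fin 3 → F)) = ⊤ := by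
    rw [eq_top_iff]
    intro v _ x hx
    rw [(Submodule.mem_bot F).1 hx, map_zero, LinearMap.zero_apply]
  have h := card_fibre hF hq fun _ => True
  rw [Nat.card_congr (Equiv.subtypeEquivRight fun v => (iff_of_true trivial (show v.1 ∈ perp hF (⊥ : Submodule F (Fin 3 → F)) by
      rw [hbot]; exact Submodule.mem_top))), card_kernel hF ⊥ (k := 3) (by rw [hbot, finrank_top, finrank_fin_fun])
      (fun u _ hu => (hB_nondegenerate hF 3).1 u fun v => hu v (by rw [hbot]; exact Submodule.mem_top)),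
    N_one_succ hF 2] at h
  simp only [and_true, if_pos (show Even 2 by decide)] at h
  refine Nat.eq_of_mul_eq_mul_left (show 0 < q + 1 by omega) (h.symm.trans ?_)
  have h1 : q ≤ q ^ 2 := Nat.le_self_pow two_ne_zero q
  zify [h1]
  ring

theorem card_perp_point (hF : Fintype.card F = q ^ 2) (a : {v : Fin 3 → F // hB hF 3 v v = 1}) :
    finrank F (perp hF (Submodule.span F {a.1})) = 2 ∧
      ∀ u ∈ perp hF (Submodule.span F {a.1}), (∀ v ∈ perp hF (Submodule.span F {a.1}), hB hF 3 u v = 0) → u = 0 := by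
  refine ⟨?_, fun u hu h => (hB_nondegenerate hF 3).1 u fun v => ?_⟩
  · have := finrank_perp hF (Submodule.span F {a.1})
    rw [finrank_span_singleton (fun h0 => by have := a.2; rw [h0, map_zero] at this; exact zero_ne_one this)] at this
    omega
  · have h1 := h (v - hB hF 3 a.1 v • a.1) fun x hx => by
      obtain ⟨c, rfl⟩ := Submodule.mem_span_singleton.1 hx
      simp [map_smul, LinearMap.map_smulₛₗ, a.2]
    rw [map_sub, map_smul, hB_symm_zero hF (hu a.1 (Submodule.mem_span_singleton_self _)), smul_zero, sub_zero] at h1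
    exact h1

theorem mem_perp_span (hF : Fintype.card F = q ^ 2) {n : ℕ} (a v : Fin n → F) :
    v ∈ perp hF (Submodule.span F {a}) ↔ hB hF n a v = 0 := by
  refine ⟨fun h => h a (Submodule.mem_span_singleton_self a), fun h x hx => ?_⟩
  obtain ⟨c, rfl⟩ := Submodule.mem_span_singleton.1 hx
  rw [LinearMap.map_smulₛₗ, LinearMap.smul_apply, h, smul_zero]

theorem card_commute (hF : Fintype.card F = q ^ 2) (hq : Odd q) (t : ↥(Cfsg.SU 3 F q)) (ht : t ≠ 1) (ht2 : t * t = 1) :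
    Nat.card {x : ↥(Cfsg.SU 3 F q) // x ≠ 1 ∧ x * x = 1 ∧ x ≠ t ∧ Commute t x} = q * (q - 1) := by
  obtain ⟨a, rfl⟩ := exists_inv3 hF hq t ht ht2
  have h := card_fibre hF hq fun x => x ≠ inv3 hF a ∧ Commute (inv3 hF a) x
  rw [Nat.card_congr (Equiv.subtypeEquivRight fun v => (show (inv3 hF v ≠ inv3 hF a ∧ Commute (inv3 hF a) (inv3 hF v)) ↔
      v.1 ∈ perp hF (Submodule.span F {a.1}) from ?_)), card_kernel hF _ (card_perp_point hF a).1 (card_perp_point hF a).2,
    N_one_succ hF 1] at h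
  · simp only [if_neg (show ¬ Even 1 by decide), pow_one] at h
    refine Nat.eq_of_mul_eq_mul_left (show 0 < q + 1 by omega) (h.symm.trans ?_)
    rw [show q ^ (1 + 1) - 1 = (q + 1) * (q - 1) by rw [← Nat.sq_sub_sq, one_pow]]
    ring
  · rw [mem_perp_span, commute_iff hF hq]
    constructor
    · rintro ⟨hne, h | h⟩
      · exact absurd h.symm hne
      · exact h
    · intro h
      refine ⟨fun he => ?_, Or.inr h⟩
      obtain ⟨z, hz, hv⟩ := (inv3_eq_iff hF hq a v).1 he.symm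
      rw [hv, map_smul, a.2, smul_eq_mul, mul_one] at h
      rw [h, zero_pow (Nat.succ_ne_zero q)] at hz
      exact zero_ne_one hz

theorem finrank_pair (hF : Fintype.card F = q ^ 2) (hq : Odd q) (a b : {v : Fin 3 → F // hB hF 3 v v = 1})
    (hab : inv3 hF a ≠ inv3 hF b) : finrank F (perp hF (Submodule.span F {a.1, b.1})) = 1 := by
  have ha : a.1 ≠ 0 := fun h0 => by have := a.2; rw [h0, map_zero] at this; exact zero_ne_one this
  have hli : LinearIndependent F ![a.1, b.1] := by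
    rw [linearIndependent_fin2]
    refine ⟨fun h0 => ?_, fun c hc => hab ((inv3_eq_iff hF hq b a).2 ⟨c, ?_, hc.symm⟩).symm⟩
    · have := b.2
      simp at h0
      rw [h0, map_zero] at this
      exact zero_ne_one this
    · simp at hc
      have h3 := a.2
      rw [← hc, map_smul, LinearMap.map_smulₛₗ, LinearMap.smul_apply, b.2, smul_eq_mul, smul_eq_mul, mul_one,
        frob_apply, ← pow_succ'] at h3
      exact h3
  have h1 := finrank_span_eq_card hli
  rw [Matrix.range_cons_cons_empty, Fintype.card_fin] at h1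
  have h2 := finrank_perp hF (Submodule.span F {a.1, b.1})
  omega

theorem mem_perp_pair (hF : Fintype.card F = q ^ 2) {n : ℕ} (a b v : Fin n → F) :
    v ∈ perp hF (Submodule.span F {a, b}) ↔ hB hF n a v = 0 ∧ hB hF n b v = 0 := by
  refine ⟨fun h => ⟨h a (Submodule.subset_span (by simp)), h b (Submodule.subset_span (by simp))⟩, fun h x hx => ?_⟩
  induction hx using Submodule.span_induction with
  | mem x hx => rcases hx with rfl | rfl; exacts [h.1, h.2]
  | zero => rw [map_zero, LinearMap.zero_apply]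
  | add x y _ _ hx hy => rw [map_add, LinearMap.add_apply, hx, hy, add_zero]
  | smul c x _ hx => rw [LinearMap.map_smulₛₗ, LinearMap.smul_apply, hx, smul_zero]

theorem perp_unique (hF : Fintype.card F = q ^ 2) (hq : Odd q) (a b m m' : {v : Fin 3 → F // hB hF 3 v v = 1})
    (hab : inv3 hF a ≠ inv3 hF b) (h1 : hB hF 3 a.1 m.1 = 0) (h2 : hB hF 3 b.1 m.1 = 0)
    (h3 : hB hF 3 a.1 m'.1 = 0) (h4 : hB hF 3 b.1 m'.1 = 0) : inv3 hF m = inv3 hF m' := by
  have hne : (⟨m.1, (mem_perp_pair hF _ _ _).2 ⟨h1, h2⟩⟩ : perp hF (Submodule.span F {a.1, b.1})) ≠ 0 := fun h0 => by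
    have := m.2
    rw [congrArg Subtype.val h0] at this
    simp at this
  obtain ⟨c, hc⟩ := exists_smul_eq_of_finrank_eq_one (finrank_pair hF hq a b hab) hne
    ⟨m'.1, (mem_perp_pair hF _ _ _).2 ⟨h3, h4⟩⟩
  have hc' : c • m.1 = m'.1 := congrArg Subtype.val hc
  refine (inv3_eq_iff hF hq m m').2 ⟨c, ?_, hc'.symm⟩
  have h5 := m'.2
  rw [← hc', map_smul, LinearMap.map_smulₛₗ, LinearMap.smul_apply, m.2, smul_eq_mul, smul_eq_mul, mul_one,
    frob_apply, ← pow_succ'] at h5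
  exact h5

theorem exists_perp_pair (hF : Fintype.card F = q ^ 2) {m w : Fin 3 → F} (hm : hB hF 3 m m ≠ 0) (hw : hB hF 3 w w ≠ 0)
    (hmw : hB hF 3 m w = 0) : ∃ z : {v : Fin 3 → F // hB hF 3 v v = 1}, hB hF 3 m z.1 = 0 ∧ hB hF 3 w z.1 = 0 := by
  have h2 := finrank_perp hF (Submodule.span F {m, w})
  have h1 : finrank F (Submodule.span F ({m, w} : Set (Fin 3 → F))) ≤ 2 := by
    classical
    refine (finrank_span_le_card ({m, w} : Set (Fin 3 → F))).trans ?_
    rw [Set.toFinset_insert, Set.toFinset_singleton]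
    exact (Finset.card_insert_le _ _).trans (by simp)
  obtain ⟨z, hz, hz0⟩ := Submodule.exists_mem_ne_zero_of_ne_bot (p := perp hF (Submodule.span F {m, w})) fun h => by
    rw [h, finrank_bot] at h2
    omega
  rw [mem_perp_pair] at hz
  have hwm := hB_symm_zero hF hmw
  have hzz : hB hF 3 z z ≠ 0 := by
    intro h0
    refine hz0 ((hB_nondegenerate hF 3).1 z fun u => ?_)
    have hli : finrank F (Submodule.span F ({m, w} : Set (Fin 3 → F))) = 2 := by
      have hli' : LinearIndependent F ![m, w] := by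
        rw [linearIndependent_fin2]
        refine ⟨fun h => hw (by simp at h; rw [h, map_zero]), fun c hc => hm ?_⟩
        simp at hc
        rw [← hc] at hmw ⊢
        simp only [LinearMap.map_smulₛₗ, LinearMap.smul_apply, smul_eq_mul, map_smul] at hmw ⊢
        rw [(mul_eq_zero.1 hmw).resolve_right hw]
        ring
      rw [← Matrix.range_cons_cons_empty, finrank_span_eq_card hli', Fintype.card_fin]
    rw [hli] at h2
    set u' := u - (hB hF 3 m u / hB hF 3 m m) • m - (hB hF 3 w u / hB hF 3 w w) • w with hu'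
    have hu'm : u' ∈ perp hF (Submodule.span F {m, w}) := by
      rw [mem_perp_pair]
      constructor <;> simp only [hu', map_sub, map_smul, smul_eq_mul, hmw, hwm, mul_zero, sub_zero] <;>
        rw [div_mul_cancel₀ _ (by assumption), sub_self]
    obtain ⟨c, hc⟩ := exists_smul_eq_of_finrank_eq_one (show finrank F (perp hF (Submodule.span F {m, w})) = 1 by omega)
      (show (⟨z, (mem_perp_pair hF _ _ _).2 hz⟩ : perp hF (Submodule.span F {m, w})) ≠ 0 from
        fun h => hz0 (congrArg Subtype.val h)) ⟨u', hu'm⟩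
    have hc' : c • z = u' := congrArg Subtype.val hc
    have hu : u = c • z + (hB hF 3 m u / hB hF 3 m m) • m + (hB hF 3 w u / hB hF 3 w w) • w := by
      rw [hc', hu']; abel
    rw [hu]
    simp only [map_add, map_smul, h0, hB_symm_zero hF hz.1, hB_symm_zero hF hz.2, smul_zero, add_zero]
  obtain ⟨c, hc⟩ := exists_norm_eq hF (inv_ne_zero hzz) (by rw [inv_pow, ← frob_apply hF, (hB_isSymm hF 3).eq])
  refine ⟨⟨(c : F) • z, ?_⟩, by simp [map_smul, hz.1], by simp [map_smul, hz.2]⟩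
  rw [map_smul, LinearMap.map_smulₛₗ, LinearMap.smul_apply, smul_eq_mul, smul_eq_mul, frob_apply, ← mul_assoc,
    ← pow_succ', hc, inv_mul_cancel₀ hzz]

theorem card_third (hF : Fintype.card F = q ^ 2) (hq : Odd q) (t x : ↥(Cfsg.SU 3 F q)) (ht : t ≠ 1) (ht2 : t * t = 1)
    (hx : x ≠ 1) (hx2 : x * x = 1) (hxt : x ≠ t) (hc : Commute t x) :
    Nat.card {y : ↥(Cfsg.SU 3 F q) // y ≠ 1 ∧ y * y = 1 ∧ y ≠ t ∧ y ≠ x ∧ Commute t y ∧ Commute x y} = 1 := by
  obtain ⟨a, rfl⟩ := exists_inv3 hF hq t ht ht2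
  obtain ⟨b, rfl⟩ := exists_inv3 hF hq x hx hx2
  have hab := ((commute_iff hF hq a b).1 hc).resolve_left (Ne.symm hxt)
  obtain ⟨z, hza, hzb⟩ := exists_perp_pair hF (by rw [a.2]; exact one_ne_zero) (by rw [b.2]; exact one_ne_zero) hab
  have hne : ∀ (c d : {v : Fin 3 → F // hB hF 3 v v = 1}), hB hF 3 c.1 d.1 = 0 → inv3 hF d ≠ inv3 hF c := by
    intro c d h he
    obtain ⟨e, he1, he2⟩ := (inv3_eq_iff hF hq c d).1 he.symm
    rw [he2, map_smul, c.2, smul_eq_mul, mul_one] at h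
    rw [h, zero_pow (Nat.succ_ne_zero q)] at he1
    exact zero_ne_one he1
  refine Nat.card_eq_one_iff_exists.2 ⟨⟨inv3 hF z, inv3_ne_one hF hq z, inv3_mul_self hF z, hne a z hza, hne b z hzb,
    (commute_iff hF hq a z).2 (Or.inr hza), (commute_iff hF hq b z).2 (Or.inr hzb)⟩, ?_⟩
  rintro ⟨y, hy1, hy2, hyt, hyx, hty, hxy⟩
  obtain ⟨m, rfl⟩ := exists_inv3 hF hq y hy1 hy2
  refine Subtype.ext (perp_unique hF hq a b m z (Ne.symm hxt) ?_ ?_ hza hzb)
  · exact ((commute_iff hF hq a m).1 hty).resolve_left (Ne.symm hyt)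
  · exact ((commute_iff hF hq b m).1 hxy).resolve_left (Ne.symm hyx)

theorem exists_conj (hF : Fintype.card F = q ^ 2) (hq : Odd q) (t x : ↥(Cfsg.SU 3 F q)) (ht : t ≠ 1) (ht2 : t * t = 1)
    (hx : x ≠ 1) (hx2 : x * x = 1) : ∃ g : ↥(Cfsg.SU 3 F q), g * t * g⁻¹ = x := by
  classical
  obtain ⟨a, rfl⟩ := exists_inv3 hF hq t ht ht2
  obtain ⟨b, rfl⟩ := exists_inv3 hF hq x hx hx2
  obtain ⟨g, hg, hga⟩ := exists_map (frob_ne_id hF) (frob_frob hF) (hB_isSymm hF 3) (hB_nondegenerate hF 3) ⊥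
    (a := a.1) (b := b.1) (fun h => by have := a.2; rw [(Submodule.mem_bot F).1 h, map_zero] at this; exact zero_ne_one this)
    (fun h => by have := b.2; rw [(Submodule.mem_bot F).1 h, map_zero] at this; exact zero_ne_one this)
    (fun x hx => by rw [(Submodule.mem_bot F).1 hx, map_zero, LinearMap.zero_apply, LinearMap.zero_apply])
    (by rw [a.2, b.2])
  set G : Matrix (Fin 3) (Fin 3) F := LinearMap.toMatrix' (g : (Fin 3 → F) →ₗ[F] (Fin 3 → F)) with hG
  have hGu : ∀ u, G *ᵥ u = g u := fun u => by rw [hG, LinearMap.toMatrix'_mulVec]; rfl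
  have hG0 : G.det ≠ 0 := by rw [hG, LinearMap.det_toMatrix']; exact g.isUnit_det'.ne_zero
  let GG : Cfsg.GU 3 F q := ⟨Matrix.GeneralLinearGroup.mkOfDetNeZero G hG0, fun u v => by
    show hB hF 3 (G *ᵥ v) (G *ᵥ u) = hB hF 3 v u
    rw [hGu, hGu]; exact hg.1 v u⟩
  have hdq : G.det ^ (q + 1) = 1 := det_GU_pow hF GG
  set ρ : Matrix (Fin 3) (Fin 3) F :=
    1 + Matrix.replicateCol Unit ((G.det⁻¹ - 1) • a.1) * Matrix.replicateRow Unit (fun i => frob hF (a.1 i)) with hρ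
  have haa : (fun i => frob hF (a.1 i)) ⬝ᵥ a.1 = 1 := by
    refine Eq.trans ?_ a.2
    simp only [hB_apply, Cfsg.hermForm, dotProduct, frob_apply]
    exact Finset.sum_congr rfl fun i _ => mul_comm _ _
  have hdρ : ρ.det = G.det⁻¹ := by
    rw [hρ, Matrix.det_one_add_replicateCol_mul_replicateRow, dotProduct_smul, haa, smul_eq_mul, mul_one]
    ring
  have hρu : ∀ u, ρ *ᵥ u = u + ((G.det⁻¹ - 1) * hB hF 3 a.1 u) • a.1 := fun u => by
    rw [hρ, ← Matrix.vecMulVec_eq Unit, Matrix.add_mulVec, Matrix.one_mulVec, Matrix.smul_vecMulVec, Matrix.smul_mulVec,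
      Matrix.vecMulVec_mulVec, op_smul_eq_smul, smul_smul]
    congr 3
    simp only [hB_apply, Cfsg.hermForm, dotProduct, frob_apply]
    exact Finset.sum_congr rfl fun i _ => mul_comm _ _
  have hz : frob hF G.det⁻¹ * G.det⁻¹ = 1 := by rw [frob_apply, ← pow_succ, inv_pow, hdq, inv_one]
  let k : ↥(Cfsg.SU 3 F q) := ⟨⟨G * ρ, by rw [Matrix.det_mul, hdρ, mul_inv_cancel₀ hG0]⟩, fun u v => by
    show hB hF 3 ((G * ρ) *ᵥ v) ((G * ρ) *ᵥ u) = hB hF 3 v u
    rw [← Matrix.mulVec_mulVec, ← Matrix.mulVec_mulVec, hGu, hGu, hg.1, hρu, hρu]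
    simp only [map_add, LinearMap.add_apply, LinearMap.map_smulₛₗ, LinearMap.smul_apply, map_smul, smul_eq_mul, a.2,
      map_mul, map_sub, map_one]
    rw [(hB_isSymm hF 3).eq a.1 v]
    linear_combination (hB hF 3 a.1 u * hB hF 3 v a.1) * hz⟩
  have hka : act k a.1 = G.det⁻¹ • b.1 := by
    show (G * ρ) *ᵥ a.1 = _
    rw [← Matrix.mulVec_mulVec, hρu, a.2, mul_one, sub_smul, one_smul, add_sub_cancel, Matrix.mulVec_smul, hGu, hga]
  refine ⟨k, mul_inv_eq_iff_eq_mul.2 (act_ext fun u => ?_)⟩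
  rw [act_mul, act_mul, act_inv3, act_inv3]
  show ((k : Matrix.SpecialLinearGroup (Fin 3) F) : Matrix (Fin 3) (Fin 3) F) *ᵥ _ = _
  rw [Matrix.mulVec_sub, Matrix.mulVec_smul]
  show (2 * hB hF 3 a.1 u) • act k a.1 - act k u = _
  rw [hka, smul_smul]
  congr 2
  have h1 := act_iso hF k a.1 u
  rw [hka, LinearMap.map_smulₛₗ, LinearMap.smul_apply, smul_eq_mul] at h1
  rw [← h1]
  linear_combination 2 * hB hF 3 b.1 (act k u) * hz

theorem card_centralizer (hF : Fintype.card F = q ^ 2) (hq : Odd q) (t : ↥(Cfsg.SU 3 F q)) (ht : t ≠ 1) (ht2 : t * t = 1) :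
    Nat.card ↥(Subgroup.centralizer ({t} : Set ↥(Cfsg.SU 3 F q))) = q * (q + 1) * (q ^ 2 - 1) := by
  classical
  set C := Subgroup.centralizer ({t} : Set ↥(Cfsg.SU 3 F q))
  have hC : ∀ g, g ∈ C ↔ g * t = t * g := fun g => by
    show g ∈ Subgroup.centralizer ({t} : Set ↥(Cfsg.SU 3 F q)) ↔ _
    simp [Subgroup.mem_centralizer_iff, eq_comm]
  have hidx : C.index = q ^ 2 * (q ^ 2 - q + 1) := by
    rw [← card_inv hF hq, Subgroup.index]
    let Ψ : ↥(Cfsg.SU 3 F q) ⧸ C → {x : ↥(Cfsg.SU 3 F q) // x ≠ 1 ∧ x * x = 1} := fun c =>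
      ⟨c.out * t * c.out⁻¹, fun h => ht (by simpa using h), by
        calc c.out * t * c.out⁻¹ * (c.out * t * c.out⁻¹) = c.out * (t * t) * c.out⁻¹ := by group
          _ = 1 := by rw [ht2, mul_one, mul_inv_cancel]⟩
    refine Nat.card_eq_of_bijective Ψ ⟨fun c d h => ?_, fun x => ?_⟩
    · rw [← c.out_eq', ← d.out_eq', QuotientGroup.eq, hC]
      have h1 : c.out * t * c.out⁻¹ = d.out * t * d.out⁻¹ := congrArg Subtype.val h
      calc c.out⁻¹ * d.out * t = c.out⁻¹ * (d.out * t * d.out⁻¹) * d.out := by group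
        _ = t * (c.out⁻¹ * d.out) := by rw [← h1]; group
    · obtain ⟨g, hg⟩ := exists_conj hF hq t x.1 ht ht2 x.2.1 x.2.2
      obtain ⟨⟨c, hc⟩, hc'⟩ := QuotientGroup.mk_out_eq_mul C g
      refine ⟨QuotientGroup.mk g, Subtype.ext ?_⟩
      show (QuotientGroup.mk g : ↥(Cfsg.SU 3 F q) ⧸ C).out * t * (QuotientGroup.mk g : ↥(Cfsg.SU 3 F q) ⧸ C).out⁻¹ = x.1
      rw [hc', ← hg]
      show g * c * t * (g * c)⁻¹ = _
      rw [mul_assoc g c t, (hC c).1 hc]
      group
  have h := card_SU hF (n := 3) (by norm_num)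
  rw [card_GU hF, ← Subgroup.card_mul_index C, hidx, show 3 * (3 - 1) / 2 = 3 from rfl, Finset.prod_range_succ,
    Finset.prod_range_succ, Finset.prod_range_one, if_pos (show Even 0 by decide), if_neg (show ¬ Even 1 by decide),
    if_pos (show Even 2 by decide)] at h
  have hq2 := two_le_q hF
  have h1 : q ≤ q ^ 2 := Nat.le_self_pow two_ne_zero q
  have hpos : 0 < (q + 1) * (q ^ 2 * (q ^ 2 - q + 1)) := by positivity
  refine Nat.eq_of_mul_eq_mul_left hpos ?_
  have h11 : 1 ≤ q ^ 2 := by omega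
  calc (q + 1) * (q ^ 2 * (q ^ 2 - q + 1)) * Nat.card C = (q + 1) * (Nat.card C * (q ^ 2 * (q ^ 2 - q + 1))) := by ring
    _ = _ := by
      rw [h]
      simp only [Nat.zero_add, pow_one]
      zify [h1, h11]
      ring

theorem main {q : ℕ} (hq : Odd q)
    (hF : Fintype.card F = q ^ 2) (t : ↥(Cfsg.SU 3 F q)) (ht : t ≠ 1) (ht2 : t * t = 1) :
    (∀ x : ↥(Cfsg.SU 3 F q), x ≠ 1 → x * x = 1 → ∃ g : ↥(Cfsg.SU 3 F q), g * t * g⁻¹ = x) ∧
    Nat.card {x : ↥(Cfsg.SU 3 F q) // x ≠ 1 ∧ x * x = 1} = q ^ 2 * (q ^ 2 - q + 1) ∧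
    Nat.card ↥(Subgroup.centralizer ({t} : Set ↥(Cfsg.SU 3 F q))) = q * (q + 1) * (q ^ 2 - 1) ∧
    ∀ x : ↥(Cfsg.SU 3 F q), x ≠ 1 → x * x = 1 → x ≠ t → Commute t x →
      Nat.card {y : ↥(Cfsg.SU 3 F q) // y ≠ 1 ∧ y * y = 1 ∧ y ≠ t ∧ y ≠ x ∧ Commute t y ∧ Commute x y} = 1 :=
  ⟨fun x hx hx2 => exists_conj hF hq t x ht ht2 hx hx2, card_inv hF hq, card_centralizer hF hq t ht ht2,
    fun x hx hx2 hxt hc => card_third hF hq t x ht ht2 hx hx2 hxt hc⟩

/-- Let q be odd, F the field with q² elements and S = SU_3(F) (determinant-one isometries of the standard Hermitian form). Then all involutions of S are conjugate; there are exactly q²(q²−q+1) of them; the centralizer of an involution has order q(q+1)(q²−1), the order of the full unitary group of degree 2; and for two distinct commuting involutions t and x there is exactly one further involution commuting with both. -/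
theorem result {F : Type*} [Field F] [Fintype F] {q : ℕ} (hq : Odd q)
    (hF : Fintype.card F = q ^ 2) (t : ↥(Cfsg.SU 3 F q)) (ht : t ≠ 1) (ht2 : t * t = 1) :
    (∀ x : ↥(Cfsg.SU 3 F q), x ≠ 1 → x * x = 1 → ∃ g : ↥(Cfsg.SU 3 F q), g * t * g⁻¹ = x) ∧
    Nat.card {x : ↥(Cfsg.SU 3 F q) // x ≠ 1 ∧ x * x = 1} = q ^ 2 * (q ^ 2 - q + 1) ∧
    Nat.card ↥(Subgroup.centralizer ({t} : Set ↥(Cfsg.SU 3 F q))) = q * (q + 1) * (q ^ 2 - 1) ∧
    ∀ x : ↥(Cfsg.SU 3 F q), x ≠ 1 → x * x = 1 → x ≠ t → Commute t x →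
      Nat.card {y : ↥(Cfsg.SU 3 F q) // y ≠ 1 ∧ y * y = 1 ∧ y ≠ t ∧ y ≠ x ∧ Commute t y ∧ Commute x y} = 1 := by
  exact main hq hF t ht ht2

end Cfsg.Agent.S2360
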