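import Cfsg.Statements.S2356
import Cfsg.Agent.S2360

/-! The commuting graph on involutions of three-dimensional special unitary groups. -/

set_option autoImplicit false
open Cfsg
open scoped Matrix

namespace Cfsg.Agent.S2356

open Cfsg.Lib.Linear.Herm Module Cfsg.Agent.S2360

universe u

variable {F : Type u} [Field F] [Fintype F] {q : ℕ}

theorem exists_chain (hF : Fintype.card F = q ^ 2) (hq : Odd q) (a w : {v : Fin 3 → F // hB hF 3 v v = 1}) :
    ∃ m z : {v : Fin 3 → F // hB hF 3 v v = 1},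
      hB hF 3 a.1 m.1 = 0 ∧ hB hF 3 m.1 z.1 = 0 ∧ hB hF 3 z.1 w.1 = 0 := by
  classical
  have h2 := two_ne hF hq
  obtain ⟨hd, hnd⟩ := card_perp_point hF a
  obtain ⟨L, hL, hLi⟩ := Cfsg.Agent.S0837.exists_orth hF 2 _ hd hnd
  have hmem : ∀ c, hB hF 3 a.1 (L c) = 0 := fun c =>
    (mem_perp_span hF _ _).1 (hL ▸ LinearMap.mem_range_self L c)
  have key : ∀ m : Fin 3 → F, hB hF 3 a.1 m = 0 → hB hF 3 m m ≠ 0 →
      hB hF 3 m m ≠ frob hF (hB hF 3 m w.1) * hB hF 3 m w.1 →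
      ∃ m z : {v : Fin 3 → F // hB hF 3 v v = 1},
        hB hF 3 a.1 m.1 = 0 ∧ hB hF 3 m.1 z.1 = 0 ∧ hB hF 3 z.1 w.1 = 0 := by
    intro m ham hmm hne
    set μ := hB hF 3 m m with hμ
    set b := hB hF 3 m w.1 with hb
    have hμσ : frob hF μ = μ := (hB_isSymm hF 3).eq m m
    have hwm : hB hF 3 w.1 m = frob hF b := ((hB_isSymm hF 3).eq m w.1).symm
    have h1 : hB hF 3 m (μ • w.1 - b • m) = 0 := by
      rw [map_sub, map_smul, map_smul, ← hb, ← hμ, smul_eq_mul, smul_eq_mul]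
      ring
    have h3 : hB hF 3 (μ • w.1 - b • m) (μ • w.1 - b • m) = μ * (μ - frob hF b * b) := by
      simp only [map_sub, LinearMap.sub_apply, map_smul, LinearMap.map_smulₛₗ, LinearMap.smul_apply, smul_eq_mul,
        w.2, hwm, hμσ, ← hb, ← hμ]
      ring
    obtain ⟨z, hz1, hz2⟩ := exists_perp_pair hF hmm
      (show hB hF 3 (μ • w.1 - b • m) (μ • w.1 - b • m) ≠ 0 by rw [h3]; exact mul_ne_zero hmm (sub_ne_zero.2 hne)) h1
    obtain ⟨c, hc⟩ := exists_norm_eq hF (inv_ne_zero hmm) (by rw [inv_pow, ← frob_apply hF, hμσ])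
    refine ⟨⟨(c : F) • m, ?_⟩, z, by simp [map_smul, ham], by simp [LinearMap.map_smulₛₗ, hz1], ?_⟩
    · rw [map_smul, LinearMap.map_smulₛₗ, LinearMap.smul_apply, smul_eq_mul, smul_eq_mul, frob_apply, ← hμ, ← mul_assoc,
        ← pow_succ', hc, inv_mul_cancel₀ hmm]
    · refine hB_symm_zero hF ?_
      simp only [map_sub, LinearMap.sub_apply, LinearMap.map_smulₛₗ, LinearMap.smul_apply, smul_eq_mul, hμσ, hz1,
        mul_zero, sub_zero] at hz2
      exact (mul_eq_zero.1 hz2).resolve_left hmm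
  set e₀ : Fin 2 → F := Pi.single 0 1 with he₀
  set e₁ : Fin 2 → F := Pi.single 1 1 with he₁
  have hsum : ∀ x y : Fin 2 → F, hB hF 2 x y = y 0 * frob hF (x 0) + y 1 * frob hF (x 1) := fun x y => by
    simp [hB_apply, Cfsg.hermForm, Fin.sum_univ_two, frob_apply]
  have g00 : hB hF 3 (L e₀) (L e₀) = 1 := by rw [hLi, hsum]; simp [he₀]
  have g11 : hB hF 3 (L e₁) (L e₁) = 1 := by rw [hLi, hsum]; simp [he₁]
  have g01 : hB hF 3 (L e₀) (L e₁) = 0 := by rw [hLi, hsum]; simp [he₀, he₁]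
  set b₀ := hB hF 3 (L e₀) w.1 with hb0
  set b₁ := hB hF 3 (L e₁) w.1 with hb1
  by_cases h0 : frob hF b₀ * b₀ = 1
  · by_cases h1 : frob hF b₁ * b₁ = 1
    · set c := frob hF (b₀ * frob hF b₁) with hcd
      have hc : frob hF c = b₀ * frob hF b₁ := by rw [hcd, frob_frob]
      have hcc : frob hF c * c = 1 := by
        rw [hc, hcd, map_mul, frob_frob]
        linear_combination (frob hF b₁ * b₁) * h0 + h1
      have hm1 : hB hF 3 (L e₀ + c • L e₁) (L e₀ + c • L e₁) = 2 := by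
        simp only [map_add, LinearMap.add_apply, map_smul, LinearMap.map_smulₛₗ, LinearMap.smul_apply, smul_eq_mul,
          g00, g11, g01, hB_symm_zero hF g01]
        linear_combination hcc
      have hm2 : hB hF 3 (L e₀ + c • L e₁) w.1 = 2 * b₀ := by
        simp only [map_add, LinearMap.add_apply, LinearMap.map_smulₛₗ, LinearMap.smul_apply, smul_eq_mul, hc, ← hb0,
          ← hb1]
        linear_combination b₀ * h1
      refine key (L e₀ + c • L e₁) (by simp [map_add, map_smul, hmem]) (by rw [hm1]; exact h2) ?_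
      rw [hm1, hm2, map_mul, map_ofNat]
      intro h
      exact h2 (by linear_combination (-1 : F) * h - 4 * h0)
    · exact key _ (hmem e₁) (by rw [g11]; exact one_ne_zero) (by rw [g11]; exact Ne.symm h1)
  · exact key _ (hmem e₀) (by rw [g00]; exact one_ne_zero) (by rw [g00]; exact Ne.symm h0)

set_option maxHeartbeats 1000000 in
theorem card_second (hq : Odd q) (hF : Fintype.card F = q ^ 2) (t : ↥(Cfsg.SU 3 F q)) (ht : t ≠ 1) (ht2 : t * t = 1) :
    Nat.card {x : ↥(Cfsg.SU 3 F q) // x ≠ 1 ∧ x * x = 1 ∧ ¬ Commute t x ∧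
        ∃ y : ↥(Cfsg.SU 3 F q), y ≠ 1 ∧ y * y = 1 ∧ Commute t y ∧ Commute y x} = q * (q - 2) * (q ^ 2 - 1) := by
  classical
  have hq3 : 3 ≤ q := by
    have := two_le_q hF
    obtain ⟨l, hl⟩ := hq
    omega
  have hfirst := card_commute hF hq t ht ht2
  let First := {x : ↥(Cfsg.SU 3 F q) // x ≠ 1 ∧ x * x = 1 ∧ x ≠ t ∧ Commute t x}
  let Fib : First → Type _ := fun y => {x : ↥(Cfsg.SU 3 F q) // x ≠ 1 ∧ x * x = 1 ∧ ¬ Commute t x ∧ Commute y.1 x}
  have hfib : ∀ y : First, Nat.card (Fib y) = q * (q - 1) - 2 := by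
    rintro ⟨y, hy1, hy2, hyt, hty⟩
    let S := Finset.univ.filter fun x : ↥(Cfsg.SU 3 F q) => x ≠ 1 ∧ x * x = 1 ∧ x ≠ y ∧ Commute y x
    have hS : S.card = q * (q - 1) := by
      rw [← card_commute hF hq y hy1 hy2, Nat.card_eq_fintype_card, Fintype.card_subtype]
    have hA : (S.filter fun x => Commute t x).card = 2 := by
      have h3 := card_third hF hq y t hy1 hy2 ht ht2 (Ne.symm hyt) hty.symm
      rw [Nat.card_eq_fintype_card, Fintype.card_subtype] at h3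
      rw [show (S.filter fun x => Commute t x) = insert t (Finset.univ.filter fun z : ↥(Cfsg.SU 3 F q) =>
          z ≠ 1 ∧ z * z = 1 ∧ z ≠ y ∧ z ≠ t ∧ Commute y z ∧ Commute t z) from ?_,
        Finset.card_insert_of_notMem (by simp), h3]
      ext x
      simp only [S, Finset.mem_filter, Finset.mem_univ, true_and, Finset.mem_insert]
      constructor
      · rintro ⟨⟨h1, h2, h4, h5⟩, h6⟩
        by_cases hxt : x = t
        · exact Or.inl hxt
        · exact Or.inr ⟨h1, h2, h4, hxt, h5, h6⟩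
      · rintro (rfl | ⟨h1, h2, h4, -, h5, h6⟩)
        · exact ⟨⟨ht, ht2, Ne.symm hyt, hty.symm⟩, Commute.refl _⟩
        · exact ⟨⟨h1, h2, h4, h5⟩, h6⟩
    have hsplit := Finset.card_filter_add_card_filter_not (s := S) (fun x => Commute t x)
    show Nat.card {x : ↥(Cfsg.SU 3 F q) // x ≠ 1 ∧ x * x = 1 ∧ ¬ Commute t x ∧ Commute y x} = _
    rw [Nat.card_eq_fintype_card, Fintype.card_subtype]
    rw [show (Finset.univ.filter fun x : ↥(Cfsg.SU 3 F q) => x ≠ 1 ∧ x * x = 1 ∧ ¬ Commute t x ∧ Commute y x) =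
      S.filter (fun x => ¬ Commute t x) from ?_]
    · omega
    ext x
    simp only [S, Finset.mem_filter, Finset.mem_univ, true_and]
    exact ⟨fun ⟨h1, h2, h3, h4⟩ => ⟨⟨h1, h2, fun h => h3 (h ▸ hty), h4⟩, h3⟩,
      fun ⟨⟨h1, h2, _, h4⟩, h3⟩ => ⟨h1, h2, h3, h4⟩⟩
  have hsecond : Nat.card {x : ↥(Cfsg.SU 3 F q) // x ≠ 1 ∧ x * x = 1 ∧ ¬ Commute t x ∧
      ∃ y : ↥(Cfsg.SU 3 F q), y ≠ 1 ∧ y * y = 1 ∧ Commute t y ∧ Commute y x} = q * (q - 2) * (q ^ 2 - 1) := by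
    rw [← Nat.card_eq_of_bijective (fun p : (Σ y : First, Fib y) =>
      (⟨p.2.1, p.2.2.1, p.2.2.2.1, p.2.2.2.2.1, p.1.1, p.1.2.1, p.1.2.2.1, p.1.2.2.2.2, p.2.2.2.2.2⟩ :
        {x : ↥(Cfsg.SU 3 F q) // x ≠ 1 ∧ x * x = 1 ∧ ¬ Commute t x ∧
          ∃ y : ↥(Cfsg.SU 3 F q), y ≠ 1 ∧ y * y = 1 ∧ Commute t y ∧ Commute y x})) ⟨?_, ?_⟩,
      Nat.card_sigma, Finset.sum_congr rfl fun y _ => hfib y, Finset.sum_const, Finset.card_univ,
      ← Nat.card_eq_fintype_card, hfirst, smul_eq_mul]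
    · obtain ⟨r, rfl⟩ : ∃ r, q = r + 3 := ⟨q - 3, by omega⟩
      rw [show r + 3 - 1 = r + 2 from rfl, show r + 3 - 2 = r + 1 from rfl]
      have e1 : (r + 3) * (r + 2) - 2 = (r + 1) * (r + 4) := by
        rw [show (r + 3) * (r + 2) = (r + 1) * (r + 4) + 2 by ring, Nat.add_sub_cancel]
      have e2 : (r + 3) ^ 2 - 1 = (r + 2) * (r + 4) := by
        rw [show (r + 3) ^ 2 = (r + 2) * (r + 4) + 1 by ring, Nat.add_sub_cancel]
      rw [e1, e2]
      ring
    · rintro ⟨⟨y, hy⟩, ⟨x, hx⟩⟩ ⟨⟨y', hy'⟩, ⟨x', hx'⟩⟩ h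
      obtain rfl : x = x' := congrArg (fun p : {x : ↥(Cfsg.SU 3 F q) // x ≠ 1 ∧ x * x = 1 ∧ ¬ Commute t x ∧
          ∃ y : ↥(Cfsg.SU 3 F q), y ≠ 1 ∧ y * y = 1 ∧ Commute t y ∧ Commute y x} => p.1) h
      suffices hyy : y = y' by
        subst hyy
        rfl
      obtain ⟨a, rfl⟩ := exists_inv3 hF hq t ht ht2
      obtain ⟨b, rfl⟩ := exists_inv3 hF hq x hx.1 hx.2.1
      obtain ⟨m, rfl⟩ := exists_inv3 hF hq y hy.1 hy.2.1
      obtain ⟨m', rfl⟩ := exists_inv3 hF hq y' hy'.1 hy'.2.1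
      have hab : inv3 hF a ≠ inv3 hF b := fun e => hx.2.2.1 (e ▸ Commute.refl _)
      refine perp_unique hF hq a b m m' hab ?_ ?_ ?_ ?_
      · exact ((commute_iff hF hq a m).1 hy.2.2.2).resolve_left (Ne.symm hy.2.2.1)
      · exact ((commute_iff hF hq b m).1 hx.2.2.2.symm).resolve_left fun e => hx.2.2.1 (e ▸ hy.2.2.2)
      · exact ((commute_iff hF hq a m').1 hy'.2.2.2).resolve_left (Ne.symm hy'.2.2.1)
      · exact ((commute_iff hF hq b m').1 hx'.2.2.2.symm).resolve_left fun e => hx.2.2.1 (e ▸ hy'.2.2.2)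
    · rintro ⟨x, hx1, hx2, hx3, y, hy1, hy2, hy3, hy4⟩
      exact ⟨⟨⟨y, hy1, hy2, fun e => hx3 (e ▸ hy4), hy3⟩, ⟨x, hx1, hx2, hx3, hy4⟩⟩, rfl⟩
  exact hsecond

set_option maxHeartbeats 1000000 in
theorem main (hq : Odd q) (hF : Fintype.card F = q ^ 2) (t : ↥(Cfsg.SU 3 F q)) (ht : t ≠ 1) (ht2 : t * t = 1) :
    Nat.card {x : ↥(Cfsg.SU 3 F q) // x ≠ 1 ∧ x * x = 1 ∧ x ≠ t ∧ Commute t x} = q * (q - 1) ∧
    Nat.card {x : ↥(Cfsg.SU 3 F q) // x ≠ 1 ∧ x * x = 1 ∧ ¬ Commute t x ∧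
        ∃ y : ↥(Cfsg.SU 3 F q), y ≠ 1 ∧ y * y = 1 ∧ Commute t y ∧ Commute y x} = q * (q - 2) * (q ^ 2 - 1) ∧
    Nat.card {x : ↥(Cfsg.SU 3 F q) // x ≠ 1 ∧ x * x = 1 ∧ ¬ Commute t x ∧
        ∀ y : ↥(Cfsg.SU 3 F q), y ≠ 1 → y * y = 1 → ¬ (Commute t y ∧ Commute y x)} = (q + 1) * (q ^ 2 - 1) ∧
    ∀ x : ↥(Cfsg.SU 3 F q), x ≠ 1 → x * x = 1 →
      ∃ y z : ↥(Cfsg.SU 3 F q), y ≠ 1 ∧ y * y = 1 ∧ z ≠ 1 ∧ z * z = 1 ∧
        Commute t y ∧ Commute y z ∧ Commute z x := by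
  classical
  have hq3 : 3 ≤ q := by
    have := two_le_q hF
    obtain ⟨l, hl⟩ := hq
    omega
  have hfirst := card_commute hF hq t ht ht2
  have hsecond := card_second hq hF t ht ht2
  refine ⟨hfirst, hsecond, ?_, fun x hx hx2 => ?_⟩
  · have hall := card_inv (q := q) hF hq
    rw [Nat.card_eq_fintype_card, Fintype.card_subtype] at hall hfirst hsecond ⊢
    set I := Finset.univ.filter fun x : ↥(Cfsg.SU 3 F q) => x ≠ 1 ∧ x * x = 1 with hI
    have s1 := Finset.card_filter_add_card_filter_not (s := I) (fun x => Commute t x)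
    have s2 := Finset.card_filter_add_card_filter_not (s := I.filter fun x => ¬ Commute t x)
      (fun x => ∃ y : ↥(Cfsg.SU 3 F q), y ≠ 1 ∧ y * y = 1 ∧ Commute t y ∧ Commute y x)
    have c1 : (I.filter fun x => Commute t x).card = q * (q - 1) + 1 := by
      rw [show (I.filter fun x => Commute t x) = insert t (Finset.univ.filter fun x : ↥(Cfsg.SU 3 F q) =>
          x ≠ 1 ∧ x * x = 1 ∧ x ≠ t ∧ Commute t x) from ?_, Finset.card_insert_of_notMem (by simp), hfirst]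
      ext x
      simp only [hI, Finset.mem_filter, Finset.mem_univ, true_and, Finset.mem_insert]
      constructor
      · rintro ⟨⟨h1, h2⟩, h3⟩
        by_cases hxt : x = t
        · exact Or.inl hxt
        · exact Or.inr ⟨h1, h2, hxt, h3⟩
      · rintro (rfl | ⟨h1, h2, -, h3⟩)
        · exact ⟨⟨ht, ht2⟩, Commute.refl _⟩
        · exact ⟨⟨h1, h2⟩, h3⟩
    have c2 : ((I.filter fun x => ¬ Commute t x).filter fun x =>
        ∃ y : ↥(Cfsg.SU 3 F q), y ≠ 1 ∧ y * y = 1 ∧ Commute t y ∧ Commute y x).card = q * (q - 2) * (q ^ 2 - 1) := by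
      refine Eq.trans (congrArg Finset.card (Finset.ext fun x => ?_)) hsecond
      simp only [hI, Finset.mem_filter, Finset.mem_univ, true_and, and_assoc]
    have c3 : (Finset.univ.filter fun x : ↥(Cfsg.SU 3 F q) => x ≠ 1 ∧ x * x = 1 ∧ ¬ Commute t x ∧
        ∀ y : ↥(Cfsg.SU 3 F q), y ≠ 1 → y * y = 1 → ¬ (Commute t y ∧ Commute y x)) =
        ((I.filter fun x => ¬ Commute t x).filter fun x =>
          ¬ ∃ y : ↥(Cfsg.SU 3 F q), y ≠ 1 ∧ y * y = 1 ∧ Commute t y ∧ Commute y x) := by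
      refine Finset.ext fun x => ?_
      simp only [hI, Finset.mem_filter, Finset.mem_univ, true_and, and_assoc, not_exists, not_and]
    rw [c3]
    obtain ⟨r, rfl⟩ : ∃ r, q = r + 3 := ⟨q - 3, by omega⟩
    rw [show r + 3 - 1 = r + 2 from rfl] at c1
    rw [show r + 3 - 2 = r + 1 from rfl] at c2
    have e2 : (r + 3) ^ 2 - 1 = (r + 2) * (r + 4) := by
      rw [show (r + 3) ^ 2 = (r + 2) * (r + 4) + 1 by ring, Nat.add_sub_cancel]
    have e3 : (r + 3) ^ 2 - (r + 3) + 1 = r ^ 2 + 5 * r + 7 := by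
      rw [show (r + 3) ^ 2 = r ^ 2 + 5 * r + 6 + (r + 3) by ring, Nat.add_sub_cancel]
    rw [e2] at c2 ⊢
    rw [e3] at hall
    linarith
  · obtain ⟨a, rfl⟩ := exists_inv3 hF hq t ht ht2
    obtain ⟨w, rfl⟩ := exists_inv3 hF hq x hx hx2
    obtain ⟨m, z, h1, h2, h3⟩ := exists_chain hF hq a w
    exact ⟨inv3 hF m, inv3 hF z, inv3_ne_one hF hq m, inv3_mul_self hF m, inv3_ne_one hF hq z, inv3_mul_self hF z,
      (commute_iff hF hq a m).2 (Or.inr h1), (commute_iff hF hq m z).2 (Or.inr h2),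
      (commute_iff hF hq z w).2 (Or.inr h3)⟩

/-- Let q be odd, F the field with q² elements, S = SU_3(F) (determinant-one isometries of the standard Hermitian form) and t an involution of S. Then: exactly q(q−1) involutions other than t commute with t; exactly q(q−2)(q²−1) involutions do not commute with t but commute with some involution commuting with t; exactly (q+1)(q²−1) involutions x do not commute with t and admit no involution commuting with both t and x; and every involution can be reached from t in at most three steps, each step going to an involution that commutes with the previous one (the commuting involution graph is connected of diameter 3). -/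
theorem result {F : Type*} [Field F] [Fintype F] {q : ℕ} (hq : Odd q)
    (hF : Fintype.card F = q ^ 2) (t : ↥(Cfsg.SU 3 F q)) (ht : t ≠ 1) (ht2 : t * t = 1) :
    Nat.card {x : ↥(Cfsg.SU 3 F q) // x ≠ 1 ∧ x * x = 1 ∧ x ≠ t ∧ Commute t x} = q * (q - 1) ∧
    Nat.card {x : ↥(Cfsg.SU 3 F q) // x ≠ 1 ∧ x * x = 1 ∧ ¬ Commute t x ∧
        ∃ y : ↥(Cfsg.SU 3 F q), y ≠ 1 ∧ y * y = 1 ∧ Commute t y ∧ Commute y x} = q * (q - 2) * (q ^ 2 - 1) ∧
    Nat.card {x : ↥(Cfsg.SU 3 F q) // x ≠ 1 ∧ x * x = 1 ∧ ¬ Commute t x ∧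
        ∀ y : ↥(Cfsg.SU 3 F q), y ≠ 1 → y * y = 1 → ¬ (Commute t y ∧ Commute y x)} = (q + 1) * (q ^ 2 - 1) ∧
    ∀ x : ↥(Cfsg.SU 3 F q), x ≠ 1 → x * x = 1 →
      ∃ y z : ↥(Cfsg.SU 3 F q), y ≠ 1 ∧ y * y = 1 ∧ z ≠ 1 ∧ z * z = 1 ∧
        Commute t y ∧ Commute y z ∧ Commute z x := by
  exact main hq hF t ht ht2

end Cfsg.Agent.S2356
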