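import Cfsg.Statements.S2357
import Cfsg.Agent.Lib.Chev.ReeCount

set_option autoImplicit false
open Cfsg

namespace Cfsg.Agent.S2357

/-- Let R be the small Ree group over the field with q = 3^(2m+1) ≥ 27 elements and write φ for Euler's totient function. Then R has exactly q²(q²−q+1) involutions, (q²−1)(q³+1) elements of order 3, and q²(q−1)(q³+1) elements of order 6 and as many of order 9; for i > 2 dividing q−1 it has φ(i)q³(q³+1)/2 elements of order i; for i > 1 dividing (q+1)/4 it has φ(i)q³(q−1)(q²−q+1)/6 elements of order i and φ(i)q³(q−1)(q²−q+1)/2 elements of order 2i; and for i > 1 dividing q − 3^(m+1) + 1 (respectively q + 3^(m+1) + 1) it has φ(i)q³(q²−1)(q + 3^(m+1) + 1)/6 (respectively φ(i)q³(q²−1)(q − 3^(m+1) + 1)/6) elements of order i. -/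
theorem result {K : Type*} [Field K] [Fintype K] {m : ℕ} (hm : 1 ≤ m)
    (hK : Fintype.card K = 3 ^ (2 * m + 1)) :
    Nat.card {g : ↥(Cfsg.Lie.twistedG2 K (3 ^ m)) // orderOf g = 2} = (3 ^ (2 * m + 1)) ^ 2 * ((3 ^ (2 * m + 1)) ^ 2 - 3 ^ (2 * m + 1) + 1) ∧
    Nat.card {g : ↥(Cfsg.Lie.twistedG2 K (3 ^ m)) // orderOf g = 3} = ((3 ^ (2 * m + 1)) ^ 2 - 1) * ((3 ^ (2 * m + 1)) ^ 3 + 1) ∧
    Nat.card {g : ↥(Cfsg.Lie.twistedG2 K (3 ^ m)) // orderOf g = 6} = (3 ^ (2 * m + 1)) ^ 2 * (3 ^ (2 * m + 1) - 1) * ((3 ^ (2 * m + 1)) ^ 3 + 1) ∧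
    Nat.card {g : ↥(Cfsg.Lie.twistedG2 K (3 ^ m)) // orderOf g = 9} = (3 ^ (2 * m + 1)) ^ 2 * (3 ^ (2 * m + 1) - 1) * ((3 ^ (2 * m + 1)) ^ 3 + 1) ∧
    (∀ i : ℕ, 2 < i → i ∣ 3 ^ (2 * m + 1) - 1 →
      2 * Nat.card {g : ↥(Cfsg.Lie.twistedG2 K (3 ^ m)) // orderOf g = i} = Nat.totient i * (3 ^ (2 * m + 1)) ^ 3 * ((3 ^ (2 * m + 1)) ^ 3 + 1)) ∧
    (∀ i : ℕ, 1 < i → i ∣ (3 ^ (2 * m + 1) + 1) / 4 →
      6 * Nat.card {g : ↥(Cfsg.Lie.twistedG2 K (3 ^ m)) // orderOf g = i} =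
          Nat.totient i * (3 ^ (2 * m + 1)) ^ 3 * (3 ^ (2 * m + 1) - 1) * ((3 ^ (2 * m + 1)) ^ 2 - 3 ^ (2 * m + 1) + 1) ∧
        2 * Nat.card {g : ↥(Cfsg.Lie.twistedG2 K (3 ^ m)) // orderOf g = 2 * i} =
          Nat.totient i * (3 ^ (2 * m + 1)) ^ 3 * (3 ^ (2 * m + 1) - 1) * ((3 ^ (2 * m + 1)) ^ 2 - 3 ^ (2 * m + 1) + 1)) ∧
    (∀ i : ℕ, 1 < i → i ∣ 3 ^ (2 * m + 1) - 3 ^ (m + 1) + 1 →
      6 * Nat.card {g : ↥(Cfsg.Lie.twistedG2 K (3 ^ m)) // orderOf g = i} =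
        Nat.totient i * (3 ^ (2 * m + 1)) ^ 3 * ((3 ^ (2 * m + 1)) ^ 2 - 1) * (3 ^ (2 * m + 1) + 3 ^ (m + 1) + 1)) ∧
    (∀ i : ℕ, 1 < i → i ∣ 3 ^ (2 * m + 1) + 3 ^ (m + 1) + 1 →
      6 * Nat.card {g : ↥(Cfsg.Lie.twistedG2 K (3 ^ m)) // orderOf g = i} =
        Nat.totient i * (3 ^ (2 * m + 1)) ^ 3 * ((3 ^ (2 * m + 1)) ^ 2 - 1) * (3 ^ (2 * m + 1) - 3 ^ (m + 1) + 1)) := by
  haveI := Cfsg.Lib.Chev.g2_charP hK
  rw [Cfsg.Lib.Chev.twistedG2_eq hK]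
  obtain ⟨A, C, h, -, -, -⟩ := Cfsg.Lib.Chev.Ree.exists_pack hK hm
  obtain ⟨h27, h8, -, -, -, hr2⟩ := Cfsg.Lib.Chev.Ree.tor_arith hm
  have hG := Cfsg.Lib.Chev.Ree.card_gG hK
  have c2 := Cfsg.Lib.Chev.Ree.count_two hK
  obtain ⟨c3, c9⟩ := Cfsg.Lib.Chev.Ree.count_three_nine hK
  have c6 := Cfsg.Lib.Chev.Ree.count_six hK
  have csplit := fun {i : ℕ} => Cfsg.Lib.Chev.Ree.count_split hK hm (i := i)
  have cdouble := fun {i : ℕ} => Cfsg.Lib.Chev.Ree.count_double hK hm (i := i)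
  have chall := fun (j : Fin 4) {i : ℕ} => Cfsg.Lib.Chev.Ree.count_hall hK hm h j (i := i)
  obtain ⟨q, hq⟩ : ∃ q : ℕ, q = 3 ^ (2 * m + 1) := ⟨_, rfl⟩
  obtain ⟨r, hr⟩ : ∃ r : ℕ, r = 3 ^ (m + 1) := ⟨_, rfl⟩
  have hrr : r * r = 3 * q := by rw [hr, hq, ← pow_add, ← pow_succ']; congr 1; omega
  rw [hK] at c2 c3 c9 c6
  rw [hG] at c2 c3 c9 c6
  simp only [← hq, ← hr] at h27 h8 hr2 hG c2 c3 c9 c6 csplit cdouble ⊢
  have h1 : 1 ≤ q := by omega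
  have hq2 : q ≤ q ^ 2 := Nat.le_self_pow two_ne_zero q
  have hq21 : 1 ≤ q ^ 2 := Nat.one_le_pow _ _ h1
  have hqr : r ≤ q := by omega
  obtain ⟨d, hd⟩ : ∃ d, q = d + 1 := ⟨q - 1, by omega⟩
  have hsq : q ^ 2 - 1 = (q - 1) * (q + 1) := by zify [h1, hq21]; ring
  have hcube : q ^ 3 + 1 = (q + 1) * (q ^ 2 - q + 1) := by zify [hq2]; ring
  have hN : q ^ 2 - q + 1 = (q - r + 1) * (q + r + 1) := by
    have := congrArg (fun n : ℕ => (n : ℤ)) hrr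
    zify [hqr, hq2]
    push_cast at this
    linear_combination this
  have pq : 0 < q := by omega
  have pq1 : 0 < q - 1 := by omega
  have hpos : 0 < q ^ 3 * (q - 1) := Nat.mul_pos (pow_pos pq 3) pq1
  refine ⟨?_, ?_, ?_, ?_, fun i hi2 hi => ?_, fun i hi1 hi => ⟨?_, ?_⟩, fun i hi1 hi => ?_, fun i hi1 hi => ?_⟩
  · refine Nat.eq_of_mul_eq_mul_left (Nat.mul_pos pq (show 0 < q ^ 2 - 1 by rw [hsq]; exact Nat.mul_pos pq1 (by omega))) (c2.trans ?_)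
    rw [hsq, hcube]; ring
  · refine Nat.eq_of_mul_eq_mul_left hpos (c3.trans ?_); ring
  · refine Nat.eq_of_mul_eq_mul_left hpos (c6.trans ?_); ring
  · refine Nat.eq_of_mul_eq_mul_left hpos (c9.trans ?_); ring
  · refine Nat.eq_of_mul_eq_mul_left pq1 ?_
    have e := csplit hi2 hi
    rw [hG] at e
    calc _ = 2 * (q - 1) * _ := by ring
      _ = _ := e
      _ = _ := by ring
  · refine Nat.eq_of_mul_eq_mul_left (show 0 < q + 1 by omega) ?_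
    have e := chall 1 hi1 (by simpa [Cfsg.Lib.Chev.Ree.torK, ← hq] using hi)
    simp [Cfsg.Lib.Chev.Ree.torN, ← hq] at e
    rw [hG] at e
    calc _ = 6 * (q + 1) * _ := by ring
      _ = _ := e
      _ = _ := by rw [hcube]; ring
  · refine Nat.eq_of_mul_eq_mul_left (show 0 < q + 1 by omega) ?_
    have e := cdouble hi1 hi
    rw [hG] at e
    calc _ = 2 * (q + 1) * _ := by ring
      _ = _ := e
      _ = _ := by rw [hcube]; ring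
  · refine Nat.eq_of_mul_eq_mul_left (show 0 < q - r + 1 by omega) ?_
    have e := chall 2 hi1 (by simpa [Cfsg.Lib.Chev.Ree.torK, ← hq, ← hr] using hi)
    simp [Cfsg.Lib.Chev.Ree.torN, ← hq, ← hr] at e
    rw [hG] at e
    calc _ = 6 * (q - r + 1) * _ := by ring
      _ = _ := e
      _ = _ := by rw [hcube, hN, hsq]; ring
  · refine Nat.eq_of_mul_eq_mul_left (show 0 < q + r + 1 by omega) ?_
    have e := chall 3 hi1 (by simpa [Cfsg.Lib.Chev.Ree.torK, ← hq, ← hr] using hi)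
    simp [Cfsg.Lib.Chev.Ree.torN, ← hq, ← hr] at e
    rw [hG] at e
    calc _ = 6 * (q + r + 1) * _ := by ring
      _ = _ := e
      _ = _ := by rw [hcube, hN, hsq]; ring

end Cfsg.Agent.S2357
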