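import Cfsg.Statements.S2359
import Cfsg.Agent.Lib.Chev.ReeHall

set_option autoImplicit false
open Cfsg

namespace Cfsg.Agent.S2359

/-- Let R be the small Ree group over the field with q = 3^(2m+1) ≥ 27 elements. If H is a cyclic subgroup of R of order (q−1)/2, then the centralizer of H in R is cyclic of order q−1, and every non-trivial subgroup of H has the same centralizer as H. If H is a cyclic subgroup of order (q+1)/4, then the centralizer of H is abelian of order q+1 with no element of order 4 (so it is the direct product of H and a group of order 4 whose non-identity elements all have order 2), and every non-trivial subgroup of H has the same centralizer as H. -/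
theorem result {K : Type*} [Field K] [Fintype K] {m : ℕ} (hm : 1 ≤ m)
    (hK : Fintype.card K = 3 ^ (2 * m + 1)) (H : Subgroup ↥(Cfsg.Lie.twistedG2 K (3 ^ m))) (hH : IsCyclic H) :
    (Nat.card H = (3 ^ (2 * m + 1) - 1) / 2 →
      IsCyclic ↥(Subgroup.centralizer (H : Set ↥(Cfsg.Lie.twistedG2 K (3 ^ m)))) ∧
        Nat.card ↥(Subgroup.centralizer (H : Set ↥(Cfsg.Lie.twistedG2 K (3 ^ m)))) = 3 ^ (2 * m + 1) - 1 ∧
        ∀ A : Subgroup ↥(Cfsg.Lie.twistedG2 K (3 ^ m)), A ≤ H → A ≠ ⊥ →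
          Subgroup.centralizer (A : Set ↥(Cfsg.Lie.twistedG2 K (3 ^ m))) = Subgroup.centralizer (H : Set ↥(Cfsg.Lie.twistedG2 K (3 ^ m)))) ∧
    (Nat.card H = (3 ^ (2 * m + 1) + 1) / 4 →
      IsMulCommutative ↥(Subgroup.centralizer (H : Set ↥(Cfsg.Lie.twistedG2 K (3 ^ m)))) ∧
        Nat.card ↥(Subgroup.centralizer (H : Set ↥(Cfsg.Lie.twistedG2 K (3 ^ m)))) = 3 ^ (2 * m + 1) + 1 ∧
        (∀ x ∈ Subgroup.centralizer (H : Set ↥(Cfsg.Lie.twistedG2 K (3 ^ m))), orderOf x ≠ 4) ∧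
        ∀ A : Subgroup ↥(Cfsg.Lie.twistedG2 K (3 ^ m)), A ≤ H → A ≠ ⊥ →
          Subgroup.centralizer (A : Set ↥(Cfsg.Lie.twistedG2 K (3 ^ m))) = Subgroup.centralizer (H : Set ↥(Cfsg.Lie.twistedG2 K (3 ^ m)))) := by
  haveI := Cfsg.Lib.Chev.g2_charP hK
  revert H
  rw [Cfsg.Lib.Chev.twistedG2_eq hK]
  intro H hH
  obtain ⟨T, C, h, hC0, hC1, -⟩ := Cfsg.Lib.Chev.Ree.exists_pack hK hm
  haveI := hH
  refine ⟨fun hd => ?_, fun hd => ?_⟩
  · obtain ⟨g, hg, hsub⟩ := Cfsg.Lib.Chev.Ree.cent_hall hK hm h H (i := 0) hd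
    refine ⟨?_, ?_, hsub⟩
    · rw [hg, hC0]
      haveI := Cfsg.Lib.Chev.Ree.cyclic_torT (m := m) hK
      exact isCyclic_of_surjective ((MulAut.conj g).toMonoidHom.subgroupMap _) (MonoidHom.subgroupMap_surjective _ _)
    · rw [hg, Subgroup.card_map_of_injective (MulAut.conj g).injective, h.card_cent]; rfl
  · obtain ⟨g, hg, hsub⟩ := Cfsg.Lib.Chev.Ree.cent_hall hK hm h H (i := 1) hd
    refine ⟨?_, ?_, ?_, hsub⟩
    · refine ⟨⟨fun x y => Subtype.ext ?_⟩⟩
      obtain ⟨x, hx⟩ := x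
      obtain ⟨y, hy⟩ := y
      rw [hg] at hx hy
      obtain ⟨a, ha, rfl⟩ := hx
      obtain ⟨b, hb, rfl⟩ := hy
      exact ((h.comm 1 a ha b hb).map _).eq
    · rw [hg, Subgroup.card_map_of_injective (MulAut.conj g).injective, h.card_cent]; rfl
    · intro x hx h4
      rw [hg] at hx
      obtain ⟨a, ha, rfl⟩ := hx
      rw [MulEquiv.coe_toMonoidHom, MulEquiv.orderOf_eq] at h4
      have h2 := orderOf_dvd_of_pow_eq_one (h.exponent 1 a ha)
      rw [h4] at h2
      obtain ⟨-, h8, -⟩ := Cfsg.Lib.Chev.Ree.tor_arith hm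
      have h3 : 4 ∣ (3 ^ (2 * m + 1) + 1) / 2 := h2
      omega

end Cfsg.Agent.S2359
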