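import Cfsg.Statements.S2362
import Cfsg.Agent.Lib.Linear.OrthTorusSign
import Cfsg.Agent.Lib.Linear.AbsorbPSpElems
import Cfsg.Agent.Lib.Linear.OrthCenter
import Cfsg.Agent.Lib.Linear.OrthSpinorApp
import Cfsg.Agent.Lib.Linear.OrthOrderStd
import Cfsg.Agent.S2904

set_option autoImplicit false
open Cfsg

namespace Cfsg.Agent.S2362

open Module
open Cfsg.Lib.Linear Cfsg.Lib.Linear.Orth
open scoped Matrix

variable {F : Type*} [Field F] [Fintype F]

theorem omega_bot {ι : Type} [Fintype ι] [DecidableEq ι] {Q : (ι → F) → F} {B : LinearMap.BilinForm F (ι → F)}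
    (C : Space Q B) (h2 : (2 : F) ≠ 0) (h7 : 7 ≤ Fintype.card ι) (hodd : Odd (Fintype.card ι)) :
    Subgroup.center ↥(Cfsg.Omega F Q) = ⊥ := by
  rw [eq_bot_iff]
  intro z hz
  rw [Subgroup.mem_bot]
  rcases omega_center_pm C h7 hz with h | h
  · exact Subtype.ext (Subtype.ext (Units.ext h))
  · exfalso
    have := Abelianization.commutator_subset_ker (detSpin Q) z.2
    have hdet : ((z : ↥(isometryGroup F Q)) : GL ι F).val.det = 1 :=
      congrArg Units.val (congrArg Prod.fst this)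
    rw [h, Matrix.det_neg, Matrix.det_one, mul_one, hodd.neg_one_pow] at hdet
    exact h2 (by linear_combination -hdet)

theorem no_fix {V : Type*} [AddCommGroup V] [Module F V] [Finite V] {q m r : ℕ} [Fact r.Prime]
    (hq : Fintype.card F = q) (hk : orderOf ((q : ℕ) : ZMod r) = 2 * m) (y : Module.End F V) (hyr : y ^ r = 1)
    (hfix : ∀ v, y v = v → v = 0) (U : Submodule F V) (hU : ∀ a ∈ U, y a ∈ U) :
    2 * m ∣ finrank F U := by
  classical
  haveI := Fintype.ofFinite U
  let f : Function.End U := fun a => ⟨y a.1, hU a.1 a.2⟩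
  have hf : ∀ j, ∀ a : U, ((f ^ j) a : U).1 = (y ^ j) a.1 := by
    intro j
    induction j with
    | zero => intro a; rfl
    | succ j ih =>
      intro a
      rw [pow_succ', pow_succ']
      show y ((f ^ j) a).1 = y ((y ^ j) a.1)
      rw [ih]
  have hfr : f ^ r ^ 1 = 1 := by
    funext a
    refine Subtype.ext ?_
    rw [pow_one, hf, hyr]
    rfl
  have h := Equiv.Perm.card_fixedPoints_modEq (p := r) (n := 1) hfr
  have h1 : Fintype.card (Function.fixedPoints f) = 1 := by
    refine Fintype.card_eq_one_iff.2 ⟨⟨0, Subtype.ext (map_zero y)⟩, fun x => Subtype.ext (Subtype.ext ?_)⟩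
    exact hfix _ (congrArg Subtype.val x.2)
  rw [h1, Module.card_eq_pow_finrank (K := F), hq, ← ZMod.natCast_eq_natCast_iff, Nat.cast_pow, Nat.cast_one] at h
  exact hk ▸ orderOf_dvd_of_pow_eq_one h

theorem no_element {ι : Type} [Fintype ι] [DecidableEq ι] {Q : (ι → F) → F} {B : LinearMap.BilinForm F (ι → F)}
    (C : Space Q B) (p : ℕ) [Fact p.Prime] [CharP F p] (h2 : (2 : F) ≠ 0) {m : ℕ} (hm : 2 ≤ m)
    (hι : Fintype.card ι = 2 * m + 3) (g : ↥(Cfsg.Omega F Q)) :
    orderOf g ≠ p * (Fintype.card F ^ m + 1) := by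
  classical
  intro hg
  set q := Fintype.card F with hq
  set Q0 := q ^ m with hQ0
  set N := Q0 + 1 with hN
  have hp := (Fact.out : p.Prime)
  have hq1 : 1 < q := Fintype.one_lt_card
  have hpo : p ≠ 2 := fun h => h2 (by
    have := CharP.cast_eq_zero F p
    rwa [h, Nat.cast_ofNat] at this)
  obtain ⟨k, hk⟩ := FiniteField.card F p
  have hqodd : Odd q := by rw [hq, hk.2]; exact (hp.odd_of_ne_two hpo).pow
  have hpN : Nat.Coprime p N := by
    refine (hp.coprime_iff_not_dvd).2 fun h => hp.not_dvd_one ((Nat.dvd_add_right ?_).1 h)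
    rw [hQ0, hq, hk.2, ← pow_mul]
    exact dvd_pow_self p (Nat.mul_ne_zero k.pos.ne' (by omega))
  have hN0 : 0 < N := Nat.succ_pos _
  have hNe : Even N := by
    rw [hN, Nat.even_add_one, Nat.not_even_iff_odd]; exact hqodd.pow
  -- a primitive prime
  obtain ⟨r, hr, hrd, hrn⟩ := Cfsg.Agent.S2904.result q (2 * m) hq1 (by omega)
    (fun h => by obtain ⟨h1, -⟩ := h; rw [h1] at hqodd; exact absurd hqodd (by decide)) (fun h => by omega)
  haveI : Fact r.Prime := ⟨hr⟩
  have hpow : ∀ j, r ∣ q ^ j - 1 ↔ ((q : ℕ) : ZMod r) ^ j = 1 := fun j => by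
    rw [← ZMod.natCast_eq_zero_iff, Nat.cast_sub (Nat.one_le_pow _ _ (by omega)), Nat.cast_pow, Nat.cast_one,
      sub_eq_zero]
  have hord : orderOf ((q : ℕ) : ZMod r) = 2 * m :=
    (orderOf_eq_iff (by omega)).2 ⟨(hpow _).1 hrd, fun j hj hj0 h => hrn j hj0 hj ((hpow j).2 h)⟩
  have hrN : r ∣ N := by
    rw [hN, hQ0, ← ZMod.natCast_eq_zero_iff, Nat.cast_add, Nat.cast_pow, Nat.cast_one]
    have hsq : (((q : ℕ) : ZMod r) ^ m) * (((q : ℕ) : ZMod r) ^ m) = 1 := by
      rw [← pow_add, ← two_mul]; exact (hpow _).1 hrd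
    rcases mul_self_eq_one_iff.1 hsq with h | h
    · exact absurd h (fun h => hrn m (by omega) (by omega) ((hpow m).2 h))
    · rw [h, neg_add_cancel]
  -- the parts
  let ρ : ↥(Cfsg.Omega F Q) →* Module.End F (ι → F) :=
    { toFun := fun x => Matrix.toLin' ((x : ↥(isometryGroup F Q)) : GL ι F).val
      map_one' := by simp [Module.End.one_eq_id]
      map_mul' := fun x z => by simp [Matrix.toLin'_mul, Module.End.mul_eq_comp] }
  have hρinj : Function.Injective ρ := fun x z h =>
    Subtype.ext (Subtype.ext (Units.ext (Matrix.toLin'.injective h)))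
  have hρQ : ∀ x v, Q (ρ x v) = Q v := fun x v => by
    show Q (Matrix.toLin' _ v) = Q v
    rw [Matrix.toLin'_apply]
    exact mem_iso.1 (x : ↥(isometryGroup F Q)).2 v
  have hρB : ∀ x a b, B (ρ x a) (ρ x b) = B a b := fun x a b => by
    rw [← C.polar, ← C.polar, QuadraticMap.polar, QuadraticMap.polar, ← map_add, hρQ, hρQ, hρQ]
  set u := g ^ N with hu
  set s := g ^ p with hs
  have hso : orderOf s = N := by
    rw [hs, orderOf_pow_of_dvd hp.ne_zero (hg ▸ dvd_mul_right p N), hg, Nat.mul_div_cancel_left _ hp.pos]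
  have huo : orderOf u = p := by
    rw [hu, orderOf_pow_of_dvd hN0.ne' (hg ▸ dvd_mul_left N p), hg, Nat.mul_div_cancel _ hN0]
  set z := s ^ (N / r) with hz
  have hzo : orderOf z = r := by
    have h := orderOf_pow_orderOf_div (x := s) (n := r) (hso ▸ hN0.ne') (hso ▸ hrN)
    rwa [hso] at h
  set Y := ρ z with hY
  set S := ρ s with hS
  set U1 := ρ u with hU1
  have hYr : Y ^ r = 1 := by rw [hY, ← map_pow, ← hzo, pow_orderOf_eq_one, map_one]
  have hsu : Commute S U1 := ((Commute.refl g).pow_pow p N).map ρ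
  have hYS : Commute S Y := (Commute.self_pow s (N / r)).map ρ
  have hYU : Commute U1 Y := (((Commute.refl g).pow_pow N p).pow_right (N / r)).map ρ
  have hrF : (r : F) ≠ 0 := fun h => by
    have hrp := (Nat.prime_dvd_prime_iff_eq hp hr).1 ((CharP.cast_eq_zero_iff F p r).1 h)
    have h1 := (Nat.prime_dvd_prime_iff_eq hp hr).2 hrp
    exact hp.coprime_iff_not_dvd.1 hpN (h1.trans hrN)
  -- the decomposition
  set U := LinearMap.range (Y - 1) with hUdef
  set W := LinearMap.ker (Y - 1) with hWdef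
  have hWfix : ∀ w ∈ W, Y w = w := fun w hw => by
    rw [hWdef, LinearMap.mem_ker, LinearMap.sub_apply, Module.End.one_apply, sub_eq_zero] at hw; exact hw
  have horth : ∀ a ∈ U, ∀ w ∈ W, B a w = 0 := by
    rintro _ ⟨a, rfl⟩ w hw
    rw [LinearMap.sub_apply, map_sub, LinearMap.sub_apply, Module.End.one_apply]
    conv_lhs => arg 1; rw [← hWfix w hw]
    rw [hρB, sub_self]
  have hsum : ∀ v, (∑ i ∈ Finset.range r, (Y ^ i) v) ∈ W ∧ ((r : F) • v - ∑ i ∈ Finset.range r, (Y ^ i) v) ∈ U := by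
    intro v
    constructor
    · rw [hWdef, LinearMap.mem_ker, ← LinearMap.sum_apply, ← Module.End.mul_apply, mul_geom_sum, hYr, sub_self,
        LinearMap.zero_apply]
    · rw [show (r : F) • v = ∑ i ∈ Finset.range r, v by
          rw [Finset.sum_const, Finset.card_range, Nat.cast_smul_eq_nsmul], ← Finset.sum_sub_distrib]
      refine Submodule.sum_mem _ fun i _ => ?_
      refine ⟨-(∑ j ∈ Finset.range i, Y ^ j) v, ?_⟩
      rw [map_neg, ← Module.End.mul_apply, mul_geom_sum, LinearMap.sub_apply, Module.End.one_apply, neg_sub]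
  have hdisj : ∀ v, v ∈ U → v ∈ W → v = 0 := by
    rintro _ ⟨a, rfl⟩ hw
    have h1 : ∀ i : ℕ, (Y ^ i) ((Y - 1) a) = (Y - 1) a := fun i => by
      induction i with
      | zero => rfl
      | succ i ih => rw [pow_succ', Module.End.mul_apply, ih, hWfix _ hw]
    have h3 : (∑ i ∈ Finset.range r, Y ^ i) ((Y - 1) a) = 0 := by
      rw [← Module.End.mul_apply, geom_sum_mul, hYr, sub_self, LinearMap.zero_apply]
    rw [LinearMap.sum_apply, Finset.sum_congr rfl (fun i _ => h1 i), Finset.sum_const, Finset.card_range,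
      ← Nat.cast_smul_eq_nsmul F] at h3
    exact (smul_eq_zero.1 h3).resolve_left hrF
  have hUW : IsCompl U W := by
    refine IsCompl.of_eq ((Submodule.eq_bot_iff _).2 fun v hv => hdisj v hv.1 hv.2) (eq_top_iff.2 fun v _ => ?_)
    have e : v = (r : F)⁻¹ • ((r : F) • v - ∑ i ∈ Finset.range r, (Y ^ i) v) +
        (r : F)⁻¹ • ∑ i ∈ Finset.range r, (Y ^ i) v := by
      rw [smul_sub, sub_add_cancel, inv_smul_smul₀ hrF]
    exact e ▸ Submodule.add_mem_sup (U.smul_mem _ (hsum v).2) (W.smul_mem _ (hsum v).1)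
  have hinvU : ∀ T : Module.End F (ι → F), Commute T Y → ∀ a ∈ U, T a ∈ U := by
    rintro T hT _ ⟨a, rfl⟩
    exact ⟨T a, by rw [← Module.End.mul_apply, ← Module.End.mul_apply, (hT.sub_right (Commute.one_right T)).eq]⟩
  have hinvW : ∀ T : Module.End F (ι → F), Commute T Y → ∀ a ∈ W, T a ∈ W := fun T hT a ha => by
    rw [hWdef, LinearMap.mem_ker] at ha ⊢
    rw [← Module.End.mul_apply, ← (hT.sub_right (Commute.one_right T)).eq, Module.End.mul_apply, ha, map_zero]
  have hUfix : ∀ a ∈ U, Y a = a → a = 0 := fun a ha h => hdisj a ha (by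
    rw [hWdef, LinearMap.mem_ker, LinearMap.sub_apply, Module.End.one_apply, h, sub_self])
  let YU : Module.End F U := Y.restrict (hinvU Y (Commute.refl Y))
  let SU : Module.End F U := S.restrict (hinvU S hYS)
  let SW : Module.End F W := S.restrict (hinvW S hYS)
  let UU : Module.End F U := U1.restrict (hinvU U1 hYU)
  let UW : Module.End F W := U1.restrict (hinvW U1 hYU)
  have hpowU : ∀ (T : Module.End F (ι → F)) (hT : ∀ a ∈ U, T a ∈ U) (j : ℕ) (a : U),
      (((T.restrict hT) ^ j) a : ι → F) = (T ^ j) a := fun T hT j a => by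
    rw [Module.End.pow_restrict, LinearMap.restrict_coe_apply]
  have hpowW : ∀ (T : Module.End F (ι → F)) (hT : ∀ a ∈ W, T a ∈ W) (j : ℕ) (a : W),
      (((T.restrict hT) ^ j) a : ι → F) = (T ^ j) a := fun T hT j a => by
    rw [Module.End.pow_restrict, LinearMap.restrict_coe_apply]
  have hYUr : YU ^ r = 1 := LinearMap.ext fun a => Subtype.ext (by rw [hpowU, hYr]; rfl)
  -- dimensions
  have hmdvd := fun (U' : Submodule F U) (hU' : ∀ a ∈ U', YU a ∈ U') =>
    no_fix hq.symm hord YU hYUr (fun a h => Subtype.ext (hUfix a.1 a.2 (congrArg Subtype.val h))) U' hU'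
  have hdimU : finrank F U = 2 * m := by
    have h1 : 2 * m ∣ finrank F U := by
      have := hmdvd ⊤ (fun _ _ => Submodule.mem_top)
      rwa [finrank_top] at this
    have hne : finrank F U ≠ 0 := fun h0 => by
      rw [Submodule.finrank_eq_zero, hUdef, LinearMap.range_eq_bot, sub_eq_zero, hY, ← map_one ρ] at h0
      rw [hρinj h0, orderOf_one] at hzo
      exact hr.one_lt.ne hzo
    have hle : finrank F U ≤ 2 * m + 3 := by
      refine le_trans (Submodule.finrank_le U) ?_
      rw [finrank_fintype_fun_eq_card, hι]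
    obtain ⟨c, hc⟩ := h1
    rcases c with _ | _ | c
    · omega
    · omega
    · have : 2 * m * 2 ≤ 2 * m * (c + 1 + 1) := Nat.mul_le_mul_left _ (by omega)
      omega
  have hdimW : finrank F W = 3 := by
    have := Submodule.finrank_add_eq_of_isCompl hUW
    rw [hdimU, finrank_fintype_fun_eq_card, hι] at this
    omega
  have hsimple : ∀ U' : Submodule F U, (∀ a ∈ U', YU a ∈ U') → U' = ⊥ ∨ U' = ⊤ := fun U' hU' => by
    obtain ⟨c, hc⟩ := hmdvd U' hU'
    have hle := Submodule.finrank_le U'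
    rw [hdimU] at hle
    rcases c with _ | c
    · exact Or.inl (Submodule.finrank_eq_zero.1 (by omega))
    · refine Or.inr (Submodule.eq_top_of_finrank_eq ?_)
      have : 2 * m * 1 ≤ 2 * m * (c + 1) := Nat.mul_le_mul_left _ (by omega)
      omega
  -- forms on the parts
  let BU : LinearMap.BilinForm F U := LinearMap.compl₁₂ B U.subtype U.subtype
  let BW : LinearMap.BilinForm F W := LinearMap.compl₁₂ B W.subtype W.subtype
  have hndU : ∀ a : U, (∀ b, BU a b = 0) → a = 0 := fun a ha => Subtype.ext (C.nondeg' fun v => by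
    obtain ⟨v1, hv1, v2, hv2, rfl⟩ := Submodule.mem_sup.1 (hUW.sup_eq_top ▸ Submodule.mem_top : v ∈ U ⊔ W)
    rw [map_add, show B a.1 v1 = 0 from ha ⟨v1, hv1⟩, horth a.1 a.2 v2 hv2, add_zero])
  have hndW : ∀ a : W, (∀ b, BW a b = 0) → a = 0 := fun a ha => Subtype.ext (C.nondeg' fun v => by
    obtain ⟨v1, hv1, v2, hv2, rfl⟩ := Submodule.mem_sup.1 (hUW.sup_eq_top ▸ Submodule.mem_top : v ∈ U ⊔ W)
    rw [map_add, show B a.1 v2 = 0 from ha ⟨v2, hv2⟩, C.symm a.1 v1, horth v1 hv1 a.1 a.2, add_zero])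
  have hYN : YU ^ N = 1 := by
    obtain ⟨c, hc⟩ := hrN
    rw [hc, pow_mul, hYUr, one_pow]
  obtain ⟨hcomm, hcount⟩ := TorusSign.torus BU YU p h2 (m := m) (Q := Q0) (by omega) hQ0 hdimU
    (fun a b => C.symm a.1 b.1) hndU hYN (fun a b => hρB z a.1 b.1) hsimple
  have hcSU : Commute SU YU := LinearMap.ext fun a => Subtype.ext (LinearMap.congr_fun hYS.eq a.1)
  have hcUU : Commute UU YU := LinearMap.ext fun a => Subtype.ext (LinearMap.congr_fun hYU.eq a.1)
  obtain ⟨hSUN, hSUdet⟩ := hcomm SU hcSU (fun a b => hρB s a.1 b.1)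
  obtain ⟨hUUN, -⟩ := hcomm UU hcUU (fun a b => hρB u a.1 b.1)
  have hU1p : U1 ^ p = 1 := by rw [hU1, ← map_pow, ← huo, pow_orderOf_eq_one, map_one]
  have hUU1 : UU = 1 := by
    have h : UU ^ p = 1 := LinearMap.ext fun a => Subtype.ext (by rw [hpowU, hU1p]; rfl)
    exact orderOf_eq_one_iff.1 (Nat.eq_one_of_dvd_coprimes hpN (orderOf_dvd_of_pow_eq_one h)
      (orderOf_dvd_of_pow_eq_one hUUN))
  have hsplit : ∀ v, ∃ a : U, ∃ b : W, v = (a : ι → F) + (b : ι → F) := fun v => by
    obtain ⟨v1, hv1, v2, hv2, rfl⟩ := Submodule.mem_sup.1 (hUW.sup_eq_top ▸ Submodule.mem_top : v ∈ U ⊔ W)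
    exact ⟨⟨v1, hv1⟩, ⟨v2, hv2⟩, rfl⟩
  have hUW1 : UW ≠ 1 := fun h => by
    have : U1 = 1 := LinearMap.ext fun v => by
      obtain ⟨a, b, rfl⟩ := hsplit v
      rw [map_add]
      exact congrArg₂ (· + ·) (congrArg Subtype.val (LinearMap.congr_fun hUU1 a))
        (congrArg Subtype.val (LinearMap.congr_fun h b))
    rw [hU1, ← map_one ρ] at this
    rw [hρinj this, orderOf_one] at huo
    exact hp.one_lt.ne huo
  have hSN : S ^ N = 1 := by rw [hS, ← map_pow, ← hso, pow_orderOf_eq_one, map_one]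
  have hW := TorusSign.eq_pm_one p N hpo hpN hdimW BW (fun a b => C.symm a.1 b.1) hndW
    (u := UW) (t := SW) (LinearMap.ext fun a => Subtype.ext (by rw [hpowW, hU1p]; rfl)) hUW1
    (fun a b => hρB u a.1 b.1) (LinearMap.ext fun a => Subtype.ext (by rw [hpowW, hSN]; rfl))
    (fun a b => hρB s a.1 b.1) (LinearMap.ext fun a => Subtype.ext (LinearMap.congr_fun hsu.eq a.1))
  have hker : detSpin Q (s : ↥(isometryGroup F Q)) = 1 := Abelianization.commutator_subset_ker (detSpin Q) s.2
  have hdetS : LinearMap.det S = 1 := by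
    show LinearMap.det (Matrix.toLin' ((s : ↥(isometryGroup F Q)) : GL ι F).val) = 1
    rw [LinearMap.det_toLin']
    exact congrArg Units.val (congrArg Prod.fst hker)
  let e := Submodule.prodEquivOfIsCompl U W hUW
  have he : ∀ x : U × W, e x = (x.1 : ι → F) + x.2 := fun x => rfl
  have hSW : SW = 1 := by
    refine hW.resolve_right fun h => h2 ?_
    have hconj : S = (e : (U × W) →ₗ[F] (ι → F)) ∘ₗ (LinearMap.prodMap SU SW) ∘ₗ (e.symm : (ι → F) →ₗ[F] (U × W)) := by
      refine LinearMap.ext fun v => ?_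
      obtain ⟨x, rfl⟩ := e.surjective v
      simp only [LinearMap.comp_apply, LinearEquiv.coe_coe, LinearEquiv.symm_apply_apply]
      rw [he, he, map_add]
      rfl
    have hd := congrArg LinearMap.det hconj
    rw [hdetS, LinearMap.det_conj, LinearMap.det_prodMap, hSUdet, one_mul, h,
      ← neg_one_smul F (1 : Module.End F W), LinearMap.det_smul, map_one, mul_one, hdimW] at hd
    linear_combination hd
  have hSpow : ∀ (j : ℕ) (a : U) (b : W), (S ^ j) ((a : ι → F) + b) = ((SU ^ j) a : ι → F) + b := fun j a b => by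
    rw [map_add, hpowU, ← hpowW S (hinvW S hYS) j b]
    show _ + ((SW ^ j) b : ι → F) = _
    rw [hSW, one_pow]
    rfl
  have hfree : ∀ (j : ℕ) (a : U), a ≠ 0 → (SU ^ j) a = a → N ∣ j := fun j a ha h => by
    have h1 : SU ^ j = 1 := by
      rcases hsimple (LinearMap.ker (SU ^ j - 1)) (fun c hc => by
        rw [LinearMap.mem_ker] at hc ⊢
        rw [LinearMap.sub_apply, Module.End.one_apply, sub_eq_zero] at hc ⊢
        exact (LinearMap.congr_fun (hcSU.pow_left j).eq c).trans (congrArg YU hc)) with h0 | h0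
      · refine absurd ((Submodule.mem_bot F).1 (h0 ▸ LinearMap.mem_ker.2 ?_)) ha
        rw [LinearMap.sub_apply, h, Module.End.one_apply, sub_self]
      · exact sub_eq_zero.1 (LinearMap.ker_eq_top.1 h0)
    have h3 : ρ (s ^ j) = ρ 1 := by
      rw [map_pow, map_one]
      refine LinearMap.ext fun v => ?_
      obtain ⟨a, b, rfl⟩ := hsplit v
      rw [← hS, hSpow, h1]
      rfl
    exact hso ▸ orderOf_dvd_of_pow_eq_one (hρinj h3)
  -- the count
  have hQadd : ∀ (a : U) (b : W), Q ((a : ι → F) + b) = (2 : F)⁻¹ * BU a a + Q b := fun a b => by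
    rw [C.add, horth a.1 a.2 b.1 b.2, add_zero, show BU a a = B a.1 a.1 from rfl, C.self, inv_mul_cancel_left₀ h2]
  obtain ⟨P, hP, hPc⟩ := hcount W (fun b => Q b.1) C.zero (fun b => C.neg b.1) (fun b hb => by
    rw [← two_smul F] at hb
    exact (smul_eq_zero.1 hb).resolve_left h2)
  have hspin : spin Q (s : ↥(isometryGroup F Q)) = 1 := congrArg Prod.snd hker
  set σ := levelPerm Q 1 (s : ↥(isometryGroup F Q)) with hσ
  have hσS : ∀ (j : ℕ) (x : {x // Q x = 1}), ((σ ^ j) x).1 = (S ^ j) x.1 := by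
    intro j
    induction j with
    | zero => intro x; rfl
    | succ j ih =>
      intro x
      rw [pow_succ', pow_succ', Equiv.Perm.mul_apply, Module.End.mul_apply, ← ih x]
      rfl
  have hmove : ∀ (a : U) (b : W) (h : Q ((a : ι → F) + b) = 1),
      σ ⟨_, h⟩ ≠ ⟨_, h⟩ ↔ a ≠ 0 := fun a b h => by
    rw [ne_eq, ne_eq, not_iff_not, Subtype.ext_iff, ← pow_one σ, hσS, pow_one]
    show S ((a : ι → F) + b) = (a : ι → F) + b ↔ a = 0
    rw [← pow_one S, hSpow, add_left_inj, pow_one, ← Subtype.ext_iff]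
    refine ⟨fun h => ?_, fun h => by rw [h, map_zero]⟩
    by_contra ha
    exact absurd (Nat.le_of_dvd one_pos (hfree 1 a ha (by rw [pow_one, h]))) (by
      have := Nat.one_le_pow m q (by omega); omega)
  have hsign : Equiv.Perm.sign σ = -1 := by
    refine TorusSign.sign_eq_neg_one hNe hN0 (Equiv.ext fun x => Subtype.ext ?_) (fun x hx j hj => ?_) hP ?_
    · rw [hσS, hSN]; rfl
    · obtain ⟨a, b, hab⟩ := hsplit x.1
      obtain ⟨x, hxQ⟩ := x
      simp only at hab
      subst hab
      refine hfree j a ((hmove a b hxQ).1 hx) (Subtype.ext ?_)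
      have h := congrArg Subtype.val hj
      rw [hσS, hSpow] at h
      exact add_right_cancel h
    · rw [← hPc]
      refine Nat.card_congr
        { toFun := fun x => ⟨e.symm x.1.1, ?_⟩
          invFun := fun x => ⟨⟨(x.1.1 : ι → F) + x.1.2, (hQadd _ _).trans x.2.2⟩, (hmove _ _ _).2 x.2.1⟩
          left_inv := fun x => Subtype.ext (Subtype.ext (e.apply_symm_apply x.1.1))
          right_inv := fun x => Subtype.ext (e.symm_apply_apply x.1) }
      obtain ⟨⟨v, hv⟩, hx⟩ := x
      obtain ⟨⟨a, b⟩, rfl⟩ := e.surjective v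
      rw [LinearEquiv.symm_apply_apply]
      exact ⟨(hmove a b hv).1 hx, (hQadd a b).symm.trans hv⟩
  have hdef : spin Q (s : ↥(isometryGroup F Q)) = Equiv.Perm.sign σ := by
    show Equiv.Perm.sign _ = _
    congr 1
  rw [hdef, hsign] at hspin
  exact absurd hspin (by decide)


/-- Let F be a finite field of odd order and n ≥ 3. The simple orthogonal group PΩ(2n+1, F) (type B_n) and the projective symplectic group PSp(2n, F) (type C_n), which have the same order, do not have the same set of element orders. -/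
theorem result {F : Type*} [Field F] [Fintype F] (hodd : Odd (Fintype.card F)) (n : ℕ) (hn : 3 ≤ n) :
    Set.range (orderOf : Cfsg.POmega F (Cfsg.quadFormOdd n F) → ℕ) ≠ Set.range (orderOf : Cfsg.PSp n F → ℕ) := by
  classical
  haveI : Fact (Nat.Prime (ringChar F)) := ⟨CharP.char_is_prime F (ringChar F)⟩
  set p := ringChar F with hp
  have h2 : (2 : F) ≠ 0 := two_ne_of_odd hodd
  have hp2 : p ≠ 2 := fun h => h2 (by
    have := CharP.cast_eq_zero F p
    rwa [h, Nat.cast_ofNat] at this)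
  obtain ⟨m, rfl⟩ : ∃ m, n = 1 + m := ⟨n - 1, by omega⟩
  set N := Fintype.card F ^ m + 1
  intro heq
  haveI : NeZero m := ⟨by omega⟩
  have hmem : p * N ∈ Set.range (orderOf : Cfsg.PSp (1 + m) F → ℕ) := by
    obtain ⟨⟨t, ht⟩, -⟩ := AbsorbPSp.exists_tori (F := F) p hp2 m
    let T : Matrix (Fin 1 ⊕ Fin 1) (Fin 1 ⊕ Fin 1) F := Matrix.fromBlocks 1 1 0 1
    have hT : T ∈ Matrix.symplecticGroup (Fin 1) F := by
      rw [SymplecticGroup.mem_iff', Matrix.J, Matrix.fromBlocks_transpose, Matrix.fromBlocks_multiply,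
        Matrix.fromBlocks_multiply]
      simp
    have hTpow : ∀ k : ℕ, T ^ k = Matrix.fromBlocks 1 (k : Matrix (Fin 1) (Fin 1) F) 0 1 := by
      intro k
      induction k with
      | zero => simp [Matrix.fromBlocks_one]
      | succ k ih =>
        rw [pow_succ, ih, Matrix.fromBlocks_multiply]
        simp [add_comm]
    have hmem : AbsorbPSp.bsum finSumFinEquiv T (t : Matrix (Fin m ⊕ Fin m) (Fin m ⊕ Fin m) F) ∈
        Matrix.symplecticGroup (Fin (1 + m)) F := by
      rw [AbsorbPSp.mem_iff_st, AbsorbPSp.bsum_st, AbsorbPSp.bsum_mul, AbsorbPSp.mem_iff_st.1 hT,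
        AbsorbPSp.st_mul_self, AbsorbPSp.bsum_one]
    set x : Cfsg.PSp (1 + m) F := AbsorbPSp.cls ⟨_, hmem⟩
    have hdvd : p * N ∣ orderOf x := by
      have h1 := pow_orderOf_eq_one x
      rcases (AbsorbPSp.cls_pow_eq_one_iff _ _).1 h1 with h | h
      · change AbsorbPSp.bsum _ T _ ^ orderOf x = 1 at h
        rw [AbsorbPSp.bsum_pow, ← AbsorbPSp.bsum_one finSumFinEquiv] at h
        obtain ⟨hA, hB⟩ := AbsorbPSp.bsum_inj _ h
        refine Nat.Coprime.mul_dvd_of_dvd_of_dvd ?_ ?_ ((ht _).1 hB)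
        · refine ((Fact.out : p.Prime).coprime_iff_not_dvd).2 fun hd =>
            (Fact.out : p.Prime).not_dvd_one ((Nat.dvd_add_right ?_).1 hd)
          obtain ⟨k, hk⟩ := FiniteField.card F p
          rw [hk.2, ← pow_mul]
          exact dvd_pow_self p (Nat.mul_ne_zero k.pos.ne' (by omega))
        · rw [hTpow, ← Matrix.fromBlocks_one, Matrix.fromBlocks_inj] at hA
          have := congrFun (congrFun hA.2.1 0) 0
          rw [Matrix.natCast_apply, if_pos rfl, Matrix.zero_apply] at this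
          exact (CharP.cast_eq_zero_iff F p _).1 this
      · exfalso
        change AbsorbPSp.bsum _ T _ ^ orderOf x = -1 at h
        rw [AbsorbPSp.bsum_pow, ← AbsorbPSp.bsum_one finSumFinEquiv, ← AbsorbPSp.bsum_neg] at h
        have hA := (AbsorbPSp.bsum_inj _ h).1
        rw [hTpow, ← Matrix.fromBlocks_one, Matrix.fromBlocks_neg, Matrix.fromBlocks_inj] at hA
        have := congrFun (congrFun hA.1 0) 0
        rw [Matrix.neg_apply, Matrix.one_apply_eq] at this
        exact h2 (by linear_combination this)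
    obtain ⟨d, hd⟩ := hdvd
    have hd0 : d ≠ 0 := fun h => (orderOf_pos x).ne' (by rw [hd, h, mul_zero])
    refine ⟨x ^ d, ?_⟩
    rw [orderOf_pow_of_dvd hd0 (hd ▸ dvd_mul_left d _), hd, Nat.mul_div_cancel _ (Nat.pos_of_ne_zero hd0)]
  rw [← heq] at hmem
  obtain ⟨y, hy⟩ := hmem
  obtain ⟨B, C⟩ := Cfsg.Lib.Linear.Orth.exists_space (Cfsg.Lib.Linear.Orth.isQuad_odd (F := F) (1 + m) h2)
  have hcard : Fintype.card (Unit ⊕ (Fin (1 + m) ⊕ Fin (1 + m))) = 2 * m + 3 := by
    simp only [Fintype.card_sum, Fintype.card_unit, Fintype.card_fin]; omega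
  obtain ⟨g, rfl⟩ := QuotientGroup.mk_surjective y
  refine no_element C p h2 (m := m) (by omega) hcard g ?_
  have hinj : Function.Injective (QuotientGroup.mk' (Subgroup.center ↥(Cfsg.Omega F (Cfsg.quadFormOdd (1 + m) F)))) := by
    rw [← MonoidHom.ker_eq_bot_iff, QuotientGroup.ker_mk']
    exact omega_bot C h2 (by omega) (hcard ▸ ⟨m + 1, by ring⟩)
  rw [← orderOf_injective _ hinj g]
  exact hy

end Cfsg.Agent.S2362
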