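import Cfsg.Statements.S2363
import Cfsg.Agent.Lib.Linear.LieOrderBound
import Cfsg.Agent.S0243
import Cfsg.Agent.S0245
import Cfsg.Agent.S0246
import Cfsg.Agent.S0280
import Cfsg.Agent.S0292
import Cfsg.Agent.S0293
import Cfsg.Agent.S0294
import Cfsg.Agent.S1059
import Cfsg.Agent.S1062
import Cfsg.Agent.S1063
import Cfsg.Agent.S1064
import Cfsg.Agent.S1065
import Cfsg.Agent.S1066
import Cfsg.Agent.S1067
import Cfsg.Agent.S1068
import Cfsg.Agent.S1069
import Cfsg.Agent.S1163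

set_option autoImplicit false
open Cfsg

namespace Cfsg.Agent.S2363

open Cfsg.Lib.OrderBound

/-- What is needed from each family. -/
def Good (p : ℕ) (c : ℕ) : Prop :=
  c < p ^ (3 * c.factorization p) ∧ c ^ 3 < p ^ (8 * c.factorization p)

theorem cop_gcd {q k N : ℕ} (r : ℕ) (h : Nat.Coprime (q ^ N) k) : Nat.Coprime (q ^ N) (Nat.gcd r k) :=
  h.coprime_dvd_right (Nat.gcd_dvd_right _ _)

theorem gcd_strip {g c R : ℕ} (hg : 0 < g) (h : g * c = R) : c ≤ R := h ▸ Nat.le_mul_of_pos_left c hg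



/-- Let G be a finite simple group of Lie type in characteristic p and let p^k be the exact power of p dividing the order of G. Then the order of G is less than p^(3k); and unless G is isomorphic to PSL(2, F) for the field F with p^k elements, the cube of the order of G is less than p^(8k) (that is, the order is below p^(8k/3)). -/
theorem result {G : Type*} [Group G] [Finite G] (p : ℕ) (hp : p.Prime) (hG : Cfsg.IsLieTypeChar p G) :
    Nat.card G < p ^ (3 * (Nat.card G).factorization p) ∧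
      ((¬ ∃ (F : Type) (_ : Field F) (_ : Fintype F), Fintype.card F = p ^ (Nat.card G).factorization p ∧
          Nonempty (G ≃* Matrix.ProjectiveSpecialLinearGroup (Fin 2) F)) →
        Nat.card G ^ 3 < p ^ (8 * (Nat.card G).factorization p)) := by
  classical
  have hGpos : 0 < Nat.card G := Nat.card_pos
  have hlt2 : ∀ {a b c d : ℕ}, a < b → c < d → a * c < b * d := fun h1 h2 => Nat.mul_lt_mul'' h1 h2
  suffices h : (Nat.card G < p ^ (3 * (Nat.card G).factorization p)) ∧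
      (Good p (Nat.card G) ∨ ∃ (F : Type) (_ : Field F) (_ : Fintype F),
        Fintype.card F = p ^ (Nat.card G).factorization p ∧
          Nonempty (G ≃* Matrix.ProjectiveSpecialLinearGroup (Fin 2) F)) from
    ⟨h.1, fun hn => (h.2.resolve_right hn).2⟩
  suffices h : Good p (Nat.card G) ∨ (Nat.card G < p ^ (3 * (Nat.card G).factorization p) ∧
      ∃ (F : Type) (_ : Field F) (_ : Fintype F),
        Fintype.card F = p ^ (Nat.card G).factorization p ∧
          Nonempty (G ≃* Matrix.ProjectiveSpecialLinearGroup (Fin 2) F)) from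
    h.elim (fun h => ⟨h.1, Or.inl h⟩) fun h => ⟨h.1, Or.inr h.2⟩
  have : Fact p.Prime := ⟨hp⟩
  have hfield : ∀ (F : Type) [Field F] [Fintype F] [CharP F p], ∃ f, 1 ≤ f ∧ Fintype.card F = p ^ f ∧
      2 ≤ Fintype.card F := by
    intro F _ _ _
    obtain ⟨a, -, ha⟩ := FiniteField.card F p
    exact ⟨a, a.pos, ha, Fintype.one_lt_card⟩
  rcases hG with h | h | h | h | h | h | h | h | h | h | h
  · obtain ⟨F, _, _, _, n, hn, -, ⟨e⟩⟩ := h
    obtain ⟨f, hf, hq, hq2⟩ := hfield F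
    have hc := Cfsg.Agent.S0243.result rfl n hn (F := F)
    rw [← Nat.card_congr e.toEquiv] at hc
    obtain ⟨hd, hlt⟩ := psl_data hp hq hf hn hc
    by_cases hn3 : 3 ≤ n
    · refine Or.inl (bound hp hq hGpos hd hlt ?_ ?_)
      all_goals
        obtain ⟨k, rfl⟩ : ∃ k, n = k + 3 := ⟨n - 3, by omega⟩
        have h2 := Nat.div_mul_cancel ((Nat.even_mul_pred_self (k + 3)).two_dvd)
        have e1 : (k + 3) * (k + 3) = k * k + 6 * k + 9 := by ring
        have e2 : (k + 3) * (k + 3 - 1) = k * k + 5 * k + 6 := by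
          rw [show k + 3 - 1 = k + 2 from rfl]; ring
        omega
    · obtain rfl : n = 2 := by omega
      have hv : (Nat.card G).factorization p = f := by
        refine le_antisymm ?_ ((hp.pow_dvd_iff_le_factorization hGpos.ne').1 (by
          have h' := hd
          rw [hq, ← pow_mul] at h'
          simpa using h'))
        by_contra hlt'
        have h1 : p ^ (f + 1) ∣ Nat.card G := (hp.pow_dvd_iff_le_factorization hGpos.ne').2 (by omega)
        have h2 : p ^ (f + 1) ∣ ∏ i : Fin 2, (Fintype.card F ^ 2 - Fintype.card F ^ (i : ℕ)) :=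
          hc ▸ Dvd.dvd.mul_left (Dvd.dvd.mul_left h1 _) _
        simp only [Fin.prod_univ_two, Fin.val_zero, Fin.val_one, pow_zero, pow_one] at h2
        rw [show Fintype.card F ^ 2 - Fintype.card F = Fintype.card F * (Fintype.card F - 1) by
          rw [Nat.mul_sub, mul_one, sq], mul_left_comm, hq, pow_succ] at h2
        have h3 := Nat.dvd_of_mul_dvd_mul_left (pow_pos hp.pos f) h2
        have hp1 : p ∣ p ^ f := dvd_pow_self p (by omega)
        have hpf : 1 ≤ p ^ f := Nat.one_le_pow _ _ hp.pos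
        rcases hp.dvd_mul.1 h3 with h4 | h4
        · have h5 : p ∣ (p ^ f) ^ 2 := dvd_pow hp1 two_ne_zero
          exact hp.ne_one (Nat.dvd_one.1 ((Nat.dvd_add_right h4).1
            (by rwa [Nat.sub_add_cancel (Nat.one_le_pow _ _ (by omega))])))
        · exact hp.ne_one (Nat.dvd_one.1 ((Nat.dvd_add_right h4).1 (by rwa [Nat.sub_add_cancel hpf])))
      refine Or.inr ⟨?_, F, inferInstance, inferInstance, hv ▸ hq, ⟨e⟩⟩
      rw [hv, mul_comm 3 f, pow_mul, ← hq]
      exact hlt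
  · obtain ⟨F, _, _, _, m, hm, -, ⟨e⟩⟩ := h
    obtain ⟨f, hf, hq, hq2⟩ := hfield F
    set q := Fintype.card F with hqdef
    have h1 := Cfsg.Agent.S0245.result (F := F) rfl m
    rw [Subgroup.card_eq_card_quotient_mul_card_subgroup (Subgroup.center (Matrix.symplecticGroup (Fin m) F)),
      Cfsg.Agent.S0246.result rfl m (by omega), ← hqdef] at h1
    change Nat.card (Cfsg.PSp m F) * _ = _ at h1
    rw [← Nat.card_congr e.toEquiv, mul_comm] at h1
    refine Or.inl (bound hp hq hGpos (N := m ^ 2) (d := m ^ 2 + m * (m + 1))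
      ((cop_gcd 2 (coprime_sub_one hp hq hf _)).dvd_of_dvd_mul_left (by rw [h1]; exact dvd_mul_right _ _))
      (lt_of_le_of_lt (gcd_strip (Nat.gcd_pos_of_pos_left _ two_pos) h1) ?_) ?_ ?_)
    · rw [pow_add q (m ^ 2), ← sum_even]
      refine Nat.mul_lt_mul_of_pos_left ?_ (pow_pos (by omega) _)
      rw [← Finset.prod_pow_eq_pow_sum]
      exact Finset.prod_lt_prod_of_nonempty (fun i _ => Nat.sub_pos_of_lt (Nat.one_lt_pow (by omega) (by omega)))
        (fun i _ => sub_one_lt q _ (by omega)) ⟨0, Finset.mem_range.2 (by omega)⟩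
    · nlinarith
    · nlinarith
  · obtain ⟨F, _, _, _, n, q, hFq, hn, -, ⟨e⟩⟩ := h
    obtain ⟨f, hf, hq, hq2⟩ := hfield F
    obtain ⟨g, hg⟩ : ∃ g, q = p ^ g := by
      have : q ∣ p ^ f := hq ▸ hFq ▸ dvd_pow_self q two_ne_zero
      obtain ⟨g, -, hg⟩ := (Nat.dvd_prime_pow hp).1 this
      exact ⟨g, hg⟩
    have hq2' : 2 ≤ q := by
      rcases Nat.lt_or_ge q 2 with h | h
      · interval_cases q <;> omega
      · exact h
    have hc := Cfsg.Agent.S0280.result hFq n (by omega) (F := F)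
    rw [← Nat.card_congr e.toEquiv] at hc
    obtain ⟨hd, hlt⟩ := psu_data hq2' hn hc
    refine Or.inl (bound hp hg hGpos hd hlt ?_ ?_)
    all_goals
      obtain ⟨k, rfl⟩ : ∃ k, n = k + 3 := ⟨n - 3, by omega⟩
      have h2 := Nat.div_mul_cancel ((Nat.even_mul_pred_self (k + 3)).two_dvd)
      have e1 : (k + 3) * (k + 3) = k * k + 6 * k + 9 := by ring
      have e2 : (k + 3) * (k + 3 - 1) = k * k + 5 * k + 6 := by
        rw [show k + 3 - 1 = k + 2 from rfl]; ring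
      omega
  · obtain ⟨F, _, _, _, m, hm, hodd, ⟨e⟩⟩ := h
    obtain ⟨f, hf, hq, hq2⟩ := hfield F
    set q := Fintype.card F with hqdef
    have h1 := Cfsg.Agent.S0292.result (F := F) rfl hodd m hm
    rw [← Nat.card_congr e.toEquiv, ← hqdef] at h1
    refine Or.inl (bound hp hq hGpos (N := m ^ 2) (d := m ^ 2 + m * (m + 1))
      ((Nat.Coprime.pow_left _ (Nat.coprime_two_right.2 hodd)).dvd_of_dvd_mul_left (by rw [h1]; exact dvd_mul_right _ _))
      (lt_of_le_of_lt (gcd_strip two_pos h1) ?_) ?_ ?_)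
    · rw [pow_add q (m ^ 2), ← sum_even]
      refine Nat.mul_lt_mul_of_pos_left ?_ (pow_pos (by omega) _)
      rw [← Finset.prod_pow_eq_pow_sum]
      exact Finset.prod_lt_prod_of_nonempty (fun i _ => Nat.sub_pos_of_lt (Nat.one_lt_pow (by omega) (by omega)))
        (fun i _ => sub_one_lt q _ (by omega)) ⟨0, Finset.mem_range.2 (by omega)⟩
    · nlinarith
    · nlinarith
  · obtain ⟨F, _, _, _, m, hm, ⟨e⟩⟩ := h
    obtain ⟨f, hf, hq, hq2⟩ := hfield F
    set q := Fintype.card F with hqdef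
    have h1 := Cfsg.Agent.S0293.result (F := F) rfl m hm
    rw [← Nat.card_congr e.toEquiv, ← hqdef] at h1
    obtain ⟨k, rfl⟩ : ∃ k, m = k + 1 := ⟨m - 1, by omega⟩
    have hkm : k + 1 - 1 = k := rfl
    have hgle : 0 < Nat.gcd 4 (q ^ (k + 1) - 1) := Nat.gcd_pos_of_pos_left _ (by norm_num)
    have hcop : Nat.Coprime (q ^ ((k + 1) * (k + 1 - 1))) (q ^ (k + 1) - 1) :=
      Nat.Coprime.pow_left _ (Nat.Coprime.coprime_dvd_left (dvd_pow_self q (Nat.succ_ne_zero k))
        ((Nat.coprime_self_sub_right (Nat.one_le_pow _ _ (by omega))).2 (Nat.coprime_one_right _)))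
    refine Or.inl (bound hp hq hGpos (N := (k + 1) * (k + 1 - 1)) (d := (k + 1) * (k + 1 - 1) + (k + 1) + k * (k + 1)) ((cop_gcd 4 hcop).dvd_of_dvd_mul_left (by rw [h1]; exact ((dvd_mul_right _ _).mul_right _)))
      (lt_of_le_of_lt (gcd_strip hgle h1) ?_) ?_ ?_)
    · rw [pow_add q ((k + 1) * (k + 1 - 1) + (k + 1)), pow_add q ((k + 1) * (k + 1 - 1)), ← sum_even, hkm]
      exact Nat.mul_lt_mul_of_lt_of_le (Nat.mul_lt_mul_of_pos_left (sub_one_lt q _ (by omega)) (pow_pos (by omega) _))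
        (prod_sub_one_le q _ k) (pow_pos (by omega) _)
    · rw [hkm]; nlinarith
    · rw [hkm]; nlinarith
  · obtain ⟨F, _, _, _, m, a, b, hm, hab, ⟨e⟩⟩ := h
    obtain ⟨f, hf, hq, hq2⟩ := hfield F
    set q := Fintype.card F with hqdef
    have h1 := Cfsg.Agent.S0294.result (F := F) rfl m hm a b hab
    rw [← Nat.card_congr e.toEquiv, ← hqdef] at h1
    obtain ⟨k, rfl⟩ : ∃ k, m = k + 2 := ⟨m - 2, by omega⟩
    have hkm : k + 2 - 1 = k + 1 := rfl
    have hgle : 0 < Nat.gcd 4 (q ^ (k + 2) + 1) := Nat.gcd_pos_of_pos_left _ (by norm_num)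
    have hcop : Nat.Coprime (q ^ ((k + 2) * (k + 2 - 1))) (q ^ (k + 2) + 1) :=
      Nat.Coprime.pow_left _ (Nat.Coprime.coprime_dvd_left (dvd_pow_self q (Nat.succ_ne_zero (k + 1))) (by simp))
    refine Or.inl (bound hp hq hGpos (N := (k + 2) * (k + 2 - 1)) (d := (k + 2) * (k + 2 - 1) + (k + 2) + (k + 1) * (k + 2)) ((cop_gcd 4 hcop).dvd_of_dvd_mul_left (by rw [h1]; exact ((dvd_mul_right _ _).mul_right _)))
      (lt_of_le_of_lt (gcd_strip hgle h1) ?_) ?_ ?_)
    · have hs := sum_even (k + 1)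
      rw [Finset.sum_range_succ'] at hs
      rw [hkm, Finset.prod_range_succ', show q ^ ((k + 2) * (k + 1)) * (q ^ (k + 2) + 1) *
          ((∏ x ∈ Finset.range k, (q ^ (2 * (x + 1 + 1)) - 1)) * (q ^ (2 * (0 + 1)) - 1)) =
          q ^ ((k + 2) * (k + 1)) * ((q ^ (k + 2) + 1) * (q ^ (2 * (0 + 1)) - 1)) *
            ∏ x ∈ Finset.range k, (q ^ (2 * (x + 1 + 1)) - 1) by ring,
        show (k + 2) * (k + 1) + (k + 2) + (k + 1) * (k + 2) = (k + 2) * (k + 1) + ((k + 2) + 2 * (0 + 1)) +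
          ∑ x ∈ Finset.range k, 2 * (x + 1 + 1) by
          rw [show (k + 1) * (k + 2) = (k + 1) * (k + 1 + 1) from rfl, ← hs]; ring,
        pow_add q ((k + 2) * (k + 1) + ((k + 2) + 2 * (0 + 1))), pow_add q ((k + 2) * (k + 1))]
      exact Nat.mul_lt_mul_of_lt_of_le (Nat.mul_lt_mul_of_pos_left (pm_lt hq2 (by omega)) (pow_pos (by omega) _))
        (prod_sub_one_le q _ k) (pow_pos (by omega) _)
    · rw [hkm]; nlinarith
    · rw [hkm]; nlinarith
  · obtain ⟨F, _, _, _, h⟩ := h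
    obtain ⟨f, hf, hq, hq2⟩ := hfield F
    set q := Fintype.card F with hqdef
    have hs : ∀ a : ℕ, q ^ a - 1 < q ^ a := fun a => sub_one_lt q a (by omega)
    refine Or.inl ?_
    rcases h with ⟨-, ⟨e⟩⟩ | ⟨⟨e⟩⟩ | ⟨⟨e⟩⟩ | ⟨⟨e⟩⟩ | ⟨⟨e⟩⟩
    · have h1 := Cfsg.Agent.S1059.result (F := F) rfl
      rw [← Nat.card_congr e.toEquiv, ← hqdef] at h1
      refine bound hp hq hGpos (N := 6) (d := 14) (by rw [h1]; exact (dvd_mul_right _ _).mul_right _) ?_ (by norm_num) (by norm_num)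
      rw [h1, show q ^ 14 = q ^ 6 * q ^ 2 * q ^ 6 by ring]
      exact hlt2 (Nat.mul_lt_mul_of_pos_left (hs 2) (pow_pos (by omega) _)) (hs 6)
    · have h1 := Cfsg.Agent.S1062.result (F := F) rfl
      rw [← Nat.card_congr e.toEquiv, ← hqdef] at h1
      refine bound hp hq hGpos (N := 24) (d := 52) (by rw [h1]; exact (((dvd_mul_right _ _).mul_right _).mul_right _).mul_right _) ?_
        (by norm_num) (by norm_num)
      rw [h1, show q ^ 52 = q ^ 24 * q ^ 2 * q ^ 6 * q ^ 8 * q ^ 12 by ring]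
      exact hlt2 (hlt2 (hlt2 (Nat.mul_lt_mul_of_pos_left (hs 2) (pow_pos (by omega) _)) (hs 6)) (hs 8)) (hs 12)
    · have h1 := Cfsg.Agent.S1063.result (F := F) rfl
      rw [← Nat.card_congr e.toEquiv, ← hqdef] at h1
      refine bound hp hq hGpos (N := 36) (d := 78) ((cop_gcd 3 (coprime_sub_one hp hq hf 36)).dvd_of_dvd_mul_left
        (by rw [h1]; exact (((((dvd_mul_right _ _).mul_right _).mul_right _).mul_right _).mul_right _).mul_right _)) ?_
        (by norm_num) (by norm_num)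
      refine lt_of_le_of_lt (gcd_strip (Nat.gcd_pos_of_pos_left _ (by norm_num)) h1) ?_
      rw [show q ^ 78 = q ^ 36 * q ^ 2 * q ^ 5 * q ^ 6 * q ^ 8 * q ^ 9 * q ^ 12 by ring]
      exact hlt2 (hlt2 (hlt2 (hlt2 (hlt2 (Nat.mul_lt_mul_of_pos_left (hs 2) (pow_pos (by omega) _)) (hs 5)) (hs 6))
        (hs 8)) (hs 9)) (hs 12)
    · have h1 := Cfsg.Agent.S1064.result (F := F) rfl
      rw [← Nat.card_congr e.toEquiv, ← hqdef] at h1
      refine bound hp hq hGpos (N := 63) (d := 133) ((cop_gcd 2 (coprime_sub_one hp hq hf 63)).dvd_of_dvd_mul_left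
        (by rw [h1]; exact ((((((dvd_mul_right _ _).mul_right _).mul_right _).mul_right _).mul_right _).mul_right _).mul_right _)) ?_
        (by norm_num) (by norm_num)
      refine lt_of_le_of_lt (gcd_strip (Nat.gcd_pos_of_pos_left _ (by norm_num)) h1) ?_
      rw [show q ^ 133 = q ^ 63 * q ^ 2 * q ^ 6 * q ^ 8 * q ^ 10 * q ^ 12 * q ^ 14 * q ^ 18 by ring]
      exact hlt2 (hlt2 (hlt2 (hlt2 (hlt2 (hlt2 (Nat.mul_lt_mul_of_pos_left (hs 2) (pow_pos (by omega) _)) (hs 6))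
        (hs 8)) (hs 10)) (hs 12)) (hs 14)) (hs 18)
    · have h1 := Cfsg.Agent.S1065.result (F := F) rfl
      rw [← Nat.card_congr e.toEquiv, ← hqdef] at h1
      refine bound hp hq hGpos (N := 120) (d := 248) (by rw [h1]; exact (((((((dvd_mul_right _ _).mul_right _).mul_right _).mul_right
        _).mul_right _).mul_right _).mul_right _).mul_right _) ?_ (by norm_num) (by norm_num)
      rw [h1, show q ^ 248 = q ^ 120 * q ^ 2 * q ^ 8 * q ^ 12 * q ^ 14 * q ^ 18 * q ^ 20 * q ^ 24 * q ^ 30 by ring]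
      exact hlt2 (hlt2 (hlt2 (hlt2 (hlt2 (hlt2 (hlt2 (Nat.mul_lt_mul_of_pos_left (hs 2) (pow_pos (by omega) _))
        (hs 8)) (hs 12)) (hs 14)) (hs 18)) (hs 20)) (hs 24)) (hs 30)
  · obtain ⟨K, _, _, _, q, hqp, h⟩ := h
    obtain ⟨f, hf, hK, -⟩ := hfield K
    have hq2 : 2 ≤ q := hqp.two_le
    have hs : ∀ a : ℕ, q ^ a - 1 < q ^ a := fun a => sub_one_lt q a (by omega)
    have hqg : ∀ k : ℕ, k ≠ 0 → Fintype.card K = q ^ k → ∃ g, q = p ^ g := fun k hk he => by
      have : q ∣ p ^ f := hK ▸ he ▸ dvd_pow_self q hk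
      obtain ⟨g, -, hg⟩ := (Nat.dvd_prime_pow hp).1 this
      exact ⟨g, hg⟩
    refine Or.inl ?_
    rcases h with ⟨hc, ⟨e⟩⟩ | ⟨hc, ⟨e⟩⟩
    · obtain ⟨g, hg⟩ := hqg 2 two_ne_zero hc
      have h1 := Cfsg.Agent.S1066.result hqp hc
      rw [← Nat.card_congr e.toEquiv] at h1
      refine bound hp hg hGpos (N := 36) (d := 78) ((cop_gcd 3 (coprime_add_one q 36)).dvd_of_dvd_mul_left
        (by rw [h1]; exact (((((dvd_mul_right _ _).mul_right _).mul_right _).mul_right _).mul_right _).mul_right _)) ?_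
        (by norm_num) (by norm_num)
      refine lt_of_le_of_lt (gcd_strip (Nat.gcd_pos_of_pos_left _ (by norm_num)) h1) ?_
      rw [show q ^ 36 * (q ^ 2 - 1) * (q ^ 5 + 1) * (q ^ 6 - 1) * (q ^ 8 - 1) * (q ^ 9 + 1) * (q ^ 12 - 1) =
          q ^ 36 * ((q ^ 5 + 1) * (q ^ 2 - 1)) * ((q ^ 9 + 1) * (q ^ 6 - 1)) * (q ^ 8 - 1) * (q ^ 12 - 1) by ring,
        show q ^ 78 = q ^ 36 * q ^ (5 + 2) * q ^ (9 + 6) * q ^ 8 * q ^ 12 by ring]
      exact hlt2 (hlt2 (hlt2 (Nat.mul_lt_mul_of_pos_left (pm_lt hq2 (by norm_num)) (pow_pos (by omega) _))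
        (pm_lt hq2 (by norm_num))) (hs 8)) (hs 12)
    · obtain ⟨g, hg⟩ := hqg 3 three_ne_zero hc
      have h1 := Cfsg.Agent.S1067.result hqp hc
      rw [← Nat.card_congr e.toEquiv] at h1
      refine bound hp hg hGpos (N := 12) (d := 28) (by rw [h1]; exact ((dvd_mul_right _ _).mul_right _).mul_right _) ?_
        (by norm_num) (by norm_num)
      have h2 : (q ^ 8 + q ^ 4 + 1) * (q ^ 2 - 1) < q ^ 10 := by
        obtain ⟨B, hB⟩ : ∃ B, q ^ 2 = B + 1 := ⟨q ^ 2 - 1, by have := Nat.one_le_pow 2 q (by omega); omega⟩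
        rw [show q ^ 8 = (q ^ 2) ^ 4 by ring, show q ^ 4 = (q ^ 2) ^ 2 by ring, show q ^ 10 = (q ^ 2) ^ 5 by ring, hB,
          Nat.add_sub_cancel]
        have hB3 : 3 ≤ B := by nlinarith
        nlinarith [pow_pos (show 0 < B by omega) 2, pow_pos (show 0 < B by omega) 3, pow_pos (show 0 < B by omega) 4]
      rw [h1, show q ^ 12 * (q ^ 2 - 1) * (q ^ 6 - 1) * (q ^ 8 + q ^ 4 + 1) =
        q ^ 12 * (q ^ 6 - 1) * ((q ^ 8 + q ^ 4 + 1) * (q ^ 2 - 1)) by ring,
        show q ^ 28 = q ^ 12 * q ^ 6 * q ^ 10 by ring]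
      exact hlt2 (Nat.mul_lt_mul_of_pos_left (hs 6) (pow_pos (by omega) _)) h2
  · obtain ⟨rfl, F, _, _, m, hm, hF, ⟨e⟩⟩ := h
    have h1 := (Cfsg.Agent.S1163.result hm hF).1
    rw [← Nat.card_congr e.toEquiv] at h1
    refine Or.inl (bound hp (q := 2 ^ (2 * m + 1)) rfl hGpos (N := 2) (d := 5)
      (by rw [h1]; exact (dvd_mul_right _ _).mul_right _) ?_ (by norm_num) (by norm_num))
    generalize hqe : 2 ^ (2 * m + 1) = q at h1 ⊢
    have hq2 : 2 ≤ q := hqe ▸ Nat.le_self_pow (by omega) 2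
    rw [h1, show q ^ 5 = q ^ 2 * q ^ (2 + 1) by ring, mul_assoc, mul_comm (q - 1)]
    refine Nat.mul_lt_mul_of_pos_left ?_ (pow_pos (by omega) _)
    have := pm_lt (a := 2) (b := 1) hq2 (by norm_num)
    simpa using this
  · obtain ⟨rfl, K, _, _, m, hm, hK, ⟨e⟩⟩ := h
    have h1 := Cfsg.Agent.S1068.result hK
    rw [← Nat.card_congr e.toEquiv] at h1
    refine Or.inl (bound hp (q := 2 ^ (2 * m + 1)) rfl hGpos (N := 12) (d := 26)
      (by rw [h1]; exact (((dvd_mul_right _ _).mul_right _).mul_right _).mul_right _) ?_ (by norm_num) (by norm_num))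
    generalize hqe : 2 ^ (2 * m + 1) = q at h1 ⊢
    have hq2 : 2 ≤ q := hqe ▸ Nat.le_self_pow (by omega) 2
    rw [h1, show q ^ 12 * (q - 1) * (q ^ 3 + 1) * (q ^ 4 - 1) * (q ^ 6 + 1) =
        q ^ 12 * ((q ^ 3 + 1) * (q ^ 1 - 1)) * ((q ^ 6 + 1) * (q ^ 4 - 1)) by ring,
      show q ^ 26 = q ^ 12 * q ^ (3 + 1) * q ^ (6 + 4) by ring]
    exact hlt2 (Nat.mul_lt_mul_of_pos_left (pm_lt hq2 (by norm_num)) (pow_pos (by omega) _)) (pm_lt hq2 (by norm_num))
  · obtain ⟨rfl, K, _, _, m, hm, hK, ⟨e⟩⟩ := h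
    have h1 := Cfsg.Agent.S1069.result hK
    rw [← Nat.card_congr e.toEquiv] at h1
    refine Or.inl (bound hp (q := 3 ^ (2 * m + 1)) rfl hGpos (N := 3) (d := 7)
      (by rw [h1]; exact (dvd_mul_right _ _).mul_right _) ?_ (by norm_num) (by norm_num))
    generalize hqe : 3 ^ (2 * m + 1) = q at h1 ⊢
    have hq2 : 2 ≤ q := hqe ▸ le_trans (by norm_num) (Nat.le_self_pow (by omega) 3)
    rw [h1, show q ^ 3 * (q - 1) * (q ^ 3 + 1) = q ^ 3 * ((q ^ 3 + 1) * (q ^ 1 - 1)) by ring,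
      show q ^ 7 = q ^ 3 * q ^ (3 + 1) by ring]
    exact Nat.mul_lt_mul_of_pos_left (pm_lt hq2 (by norm_num)) (pow_pos (by omega) _)

end Cfsg.Agent.S2363
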