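import Cfsg.Statements.S2366
import Cfsg.Agent.Lib.Spec.UnitaryThreeSinger

set_option autoImplicit false
open Cfsg

namespace Cfsg.Agent.S2366

open Cfsg.Lib.Spec.UThree Cfsg.Lib.Linear.Herm

theorem exists_orderOf_dvd {G : Type*} [Group G] [Finite G] {s m : ℕ} (g : G) (hg : m ∣ orderOf g)
    (hs : s ∣ m) : ∃ h : G, orderOf h = s := by
  have hd := hs.trans hg
  have h0 := (orderOf_pos g).ne'
  exact ⟨g ^ (orderOf g / s), by
    rw [orderOf_pow_of_dvd (Nat.div_ne_zero_iff_of_dvd hd |>.mpr ⟨h0, ne_zero_of_dvd_ne_zero h0 hd⟩)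
      (Nat.div_dvd_of_dvd hd), Nat.div_div_self hd h0]⟩

/-- The set of element orders of PSU(3, q) for an odd prime power q = p^n: writing d = gcd(3, q + 1), a positive integer is the order of some element exactly when it divides one of q + 1, p(q + 1)/d, (q² − 1)/d, (q² − q + 1)/d. -/
theorem result {F : Type*} [Field F] [Fintype F] (p : ℕ) [Fact p.Prime] [CharP F p] (hp : p ≠ 2) (q : ℕ) (hF : Fintype.card F = q ^ 2) :
    Set.range (orderOf : Cfsg.PSU 3 F q → ℕ) =
      {s : ℕ | s ∣ q + 1} ∪ {s : ℕ | s ∣ p * (q + 1) / Nat.gcd 3 (q + 1)} ∪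
        {s : ℕ | s ∣ (q ^ 2 - 1) / Nat.gcd 3 (q + 1)} ∪ {s : ℕ | s ∣ (q ^ 2 - q + 1) / Nat.gcd 3 (q + 1)} := by
  classical
  have hq := two_le_q hF
  have key : ∀ (g : Cfsg.SU 3 F q) (k : ℕ),
      (QuotientGroup.mk g : Cfsg.PSU 3 F q) ^ k = 1 ↔ ∃ c : F, smat g ^ k = Matrix.scalar (Fin 3) c := by
    intro g k
    rw [← QuotientGroup.mk_pow, QuotientGroup.eq_one_iff, Subgroup.mem_center_iff, ← smat_pow]
    constructor
    · intro h
      exact exists_scalar hF (by norm_num) _ fun B hB =>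
        congrArg smat (h ⟨B, hB⟩)
    · rintro ⟨c, hc⟩ h
      apply Subtype.ext
      apply Subtype.ext
      show smat h * smat (g ^ k) = smat (g ^ k) * smat h
      rw [hc]
      exact ((Matrix.scalar_commute c (Commute.all c) _).eq).symm
  ext s
  simp only [Set.mem_range, Set.mem_union, Set.mem_setOf_eq]
  constructor
  · rintro ⟨x, rfl⟩
    obtain ⟨g, rfl⟩ := QuotientGroup.mk_surjective x
    obtain ⟨k, hk, hc⟩ := exists_scalar_pow p hp hF g
    have hd := orderOf_dvd_of_pow_eq_one ((key g k).mpr hc)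
    simp only [expo, List.mem_cons, List.not_mem_nil, or_false] at hk
    rcases hk with rfl | rfl | rfl | rfl <;> tauto
  · intro hs
    have low : ∀ m, (∃ g : Cfsg.SU 3 F q, ScalarOnly (smat g) m) → s ∣ m →
        ∃ x : Cfsg.PSU 3 F q, orderOf x = s := by
      rintro m ⟨g, hg⟩ hsm
      exact exists_orderOf_dvd _ (hg _ ((key g _).mp (pow_orderOf_eq_one _))) hsm
    have h2 : (2 : F) ≠ 0 := Ring.two_ne_zero (ringChar.eq F p ▸ hp)
    rcases hs with ((h | h) | h) | h
    · exact low _ (exists_norm_torus hF) h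
    · exact low _ (exists_mixed p hp hF) h
    · exact low _ (exists_split_torus hF h2) h
    · exact low _ (exists_singer p hF) h

end Cfsg.Agent.S2366
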