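import Cfsg.Statements.S2367


set_option autoImplicit false
open Cfsg

namespace Cfsg.Agent.S2367

def sporData : List (ℕ × ℕ × List (ℕ × ℕ)) :=
  [(7920, 4, [(2, 4), (3, 2), (5, 1), (11, 1)]),
  (95040, 6, [(2, 6), (3, 3), (5, 1), (11, 1)]),
  (443520, 7, [(2, 7), (3, 2), (5, 1), (7, 1), (11, 1)]),
  (10200960, 7, [(2, 7), (3, 2), (5, 1), (7, 1), (11, 1), (23, 1)]),
  (244823040, 10, [(2, 10), (3, 3), (5, 1), (7, 1), (11, 1), (23, 1)]),
  (175560, 3, [(2, 3), (3, 1), (5, 1), (7, 1), (11, 1), (19, 1)]),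
  (604800, 7, [(2, 7), (3, 3), (5, 2), (7, 1)]),
  (50232960, 7, [(2, 7), (3, 5), (5, 1), (17, 1), (19, 1)]),
  (86775571046077562880, 21, [(2, 21), (3, 3), (5, 1), (7, 1), (11, 3), (23, 1), (29, 1), (31, 1), (37, 1), (43, 1)]),
  (4157776806543360000, 21, [(2, 21), (3, 9), (5, 4), (7, 2), (11, 1), (13, 1), (23, 1)]),
  (42305421312000, 18, [(2, 18), (3, 6), (5, 3), (7, 1), (11, 1), (23, 1)]),
  (495766656000, 10, [(2, 10), (3, 7), (5, 3), (7, 1), (11, 1), (23, 1)]),
  (64561751654400, 17, [(2, 17), (3, 9), (5, 2), (7, 1), (11, 1), (13, 1)]),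
  (4089470473293004800, 18, [(2, 18), (3, 13), (5, 2), (7, 1), (11, 1), (13, 1), (17, 1), (23, 1)]),
  (1255205709190661721292800, 21, [(2, 21), (3, 16), (5, 2), (7, 3), (11, 1), (13, 1), (17, 1), (23, 1), (29, 1)]),
  (44352000, 9, [(2, 9), (3, 2), (5, 3), (7, 1), (11, 1)]),
  (898128000, 7, [(2, 7), (3, 6), (5, 3), (7, 1), (11, 1)]),
  (4030387200, 10, [(2, 10), (3, 3), (5, 2), (7, 3), (17, 1)]),
  (145926144000, 14, [(2, 14), (3, 3), (5, 3), (7, 1), (13, 1), (29, 1)]),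
  (448345497600, 13, [(2, 13), (3, 7), (5, 2), (7, 1), (11, 1), (13, 1)]),
  (460815505920, 9, [(2, 9), (3, 4), (5, 1), (7, 3), (11, 1), (19, 1), (31, 1)]),
  (273030912000000, 14, [(2, 14), (3, 6), (5, 6), (7, 1), (11, 1), (19, 1)]),
  (51765179004000000, 8, [(2, 8), (3, 7), (5, 6), (7, 1), (11, 1), (31, 1), (37, 1), (67, 1)]),
  (90745943887872000, 15, [(2, 15), (3, 10), (5, 3), (7, 2), (13, 1), (19, 1), (31, 1)]),
  (4154781481226426191177580544000000, 41, [(2, 41), (3, 13), (5, 6), (7, 2), (11, 1), (13, 1), (17, 1), (19, 1), (23, 1), (31, 1), (47, 1)]),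
  (808017424794512875886459904961710757005754368000000000, 46, [(2, 46), (3, 20), (5, 9), (7, 6), (11, 2), (13, 3), (17, 1), (19, 1), (23, 1), (29, 1), (31, 1), (41, 1), (47, 1), (59, 1), (71, 1)])]

def sporCheck (t : ℕ × ℕ × List (ℕ × ℕ)) : Bool :=
  Nat.beq (t.1 % 2 ^ t.2.1) 0 && Nat.beq ((t.2.2.map fun x => x.1 ^ x.2).prod) t.1 &&
    t.2.2.all fun x => decide (x.1.Prime) &&
      (Nat.beq x.1 2 || Nat.beq (t.1 % x.1 ^ 4) 0 || !(Nat.beq (t.1 % x.1 ^ 3) 0) || decide (x.1 ^ 3 < 2 ^ t.2.1))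

theorem sporData_check : sporData.all sporCheck = true := by decide +kernel

theorem spor_bound {N p : ℕ} (hp : p.Prime) (hodd : p ≠ 2) (hN : N ∈ sporData.map Prod.fst)
    (h3 : N.factorization p = 3) : p ^ 3 < 2 ^ N.factorization 2 := by
  obtain ⟨⟨_, a, L⟩, hmem, rfl⟩ := List.mem_map.1 hN
  simp only at h3 ⊢
  have hc := List.all_eq_true.1 sporData_check _ hmem
  simp only [sporCheck, Bool.and_eq_true, Nat.beq_eq] at hc
  obtain ⟨⟨h2, hprod⟩, hall⟩ := hc
  have hN0 : (L.map fun x => x.1 ^ x.2).prod ≠ 0 := by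
    intro h
    rw [hprod] at h
    rw [h, Nat.factorization_zero] at h3
    simp at h3
  rw [hprod] at hN0
  have hp3 := (hp.pow_dvd_iff_le_factorization hN0).2 (le_of_eq h3.symm)
  have hp4 : ¬ p ^ 4 ∣ _ := fun h => by
    have := (hp.pow_dvd_iff_le_factorization hN0).1 h
    omega
  obtain ⟨x, hx, hpx⟩ : ∃ x ∈ L, p ∣ x.1 ^ x.2 := by
    have : p ∣ (L.map fun x => x.1 ^ x.2).prod := hprod ▸ (dvd_pow_self p (by norm_num : (3 : ℕ) ≠ 0)).trans hp3
    obtain ⟨y, hy, hpy⟩ := (Nat.Prime.prime hp).dvd_prod_iff.1 this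
    obtain ⟨x, hx, rfl⟩ := List.mem_map.1 hy
    exact ⟨x, hx, hpy⟩
  have hcx := List.all_eq_true.1 hall x hx
  simp only [Bool.and_eq_true, Bool.or_eq_true, decide_eq_true_eq, Nat.beq_eq, Bool.not_eq_true',
    Bool.eq_false_iff, ne_eq] at hcx
  obtain rfl : p = x.1 := (Nat.prime_dvd_prime_iff_eq hp hcx.1).1 (hp.dvd_of_dvd_pow hpx)
  rcases hcx.2 with ((h | h) | h) | h
  · exact absurd h hodd
  · exact absurd (Nat.dvd_of_mod_eq_zero h) hp4
  · exact absurd (Nat.mod_eq_zero_of_dvd hp3) h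
  · exact h.trans_le (Nat.pow_le_pow_right (by norm_num)
      ((Nat.prime_two.pow_dvd_iff_le_factorization hN0).1 (Nat.dvd_of_mod_eq_zero h2)))

theorem pow_three_lt : ∀ p : ℕ, 5 ≤ p → p ^ 3 < 2 ^ (2 * p - 2) := by
  intro p hp
  induction p, hp using Nat.le_induction with
  | base => norm_num
  | succ k hk ih =>
    have : (k + 1) ^ 3 ≤ 4 * k ^ 3 := by nlinarith [Nat.mul_le_mul (Nat.mul_le_mul hk hk) (le_refl k)]
    calc (k + 1) ^ 3 ≤ 4 * k ^ 3 := this
      _ < 4 * 2 ^ (2 * k - 2) := Nat.mul_lt_mul_of_pos_left ih (by norm_num)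
      _ = 2 ^ (2 * (k + 1) - 2) := by
        rw [show 2 * (k + 1) - 2 = (2 * k - 2) + 2 by omega, pow_add]; ring

theorem alt_bound {n p : ℕ} (hn : 5 ≤ n) (hp : p.Prime) (hodd : p ≠ 2)
    (h3 : (n.factorial / 2).factorization p = 3) : p ^ 3 < 2 ^ (n.factorial / 2).factorization 2 := by
  have hd : 2 ∣ n.factorial := Nat.dvd_factorial (by norm_num) (by omega)
  have e : ∀ q : ℕ, (n.factorial / 2).factorization q = n.factorial.factorization q - (2 : ℕ).factorization q := fun q => by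
    rw [Nat.factorization_div hd]; rfl
  rw [e, Nat.prime_two.factorization, Finsupp.single_eq_of_ne hodd, Nat.sub_zero,
    Nat.factorization_factorial hp (b := Nat.log p n + 1) (Nat.lt_succ_self _)] at h3
  rw [e, Nat.prime_two.factorization, Finsupp.single_eq_same]
  have hp3 : 3 ≤ p := by have := hp.two_le; omega
  have hb : 3 * p ≤ n := by
    by_contra hlt
    have hlog : Nat.log p n < 2 := Nat.log_lt_of_lt_pow (by omega) (by nlinarith)
    have hdiv : n / p < 3 := Nat.div_lt_of_lt_mul (by linarith)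
    have hle : (∑ i ∈ Finset.Ico 1 (Nat.log p n + 1), n / p ^ i) ≤ ∑ i ∈ Finset.Ico 1 2, n / p ^ i :=
      Finset.sum_le_sum_of_subset (Finset.Ico_subset_Ico le_rfl (by omega))
    simp at hle
    omega
  have hp5 : 5 ≤ p := by
    by_contra h
    obtain rfl : p = 3 := by
      interval_cases p
      · rfl
      · exact absurd hp (by norm_num)
    have hlog : 2 ≤ Nat.log 3 n := Nat.le_log_of_pow_le (by norm_num) (by omega)
    have hle : (∑ i ∈ Finset.Ico 1 3, n / 3 ^ i) ≤ ∑ i ∈ Finset.Ico 1 (Nat.log 3 n + 1), n / 3 ^ i :=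
      Finset.sum_le_sum_of_subset (Finset.Ico_subset_Ico le_rfl (by omega))
    simp [Finset.sum_Ico_succ_top] at hle
    omega
  refine (pow_three_lt p hp5).trans_le (Nat.pow_le_pow_right (by norm_num) ?_)
  rw [Nat.factorization_factorial Nat.prime_two (b := Nat.log 2 n + 1) (Nat.lt_succ_self _)]
  have hlog : 2 ≤ Nat.log 2 n := Nat.le_log_of_pow_le (by norm_num) (by omega)
  have hle : (∑ i ∈ Finset.Ico 1 3, n / 2 ^ i) ≤ ∑ i ∈ Finset.Ico 1 (Nat.log 2 n + 1), n / 2 ^ i :=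
    Finset.sum_le_sum_of_subset (Finset.Ico_subset_Ico le_rfl (by omega))
  simp [Finset.sum_Ico_succ_top] at hle
  omega

/-- Let G be an alternating group of degree at least 5 or a simple group with the order of one of the 26 sporadic groups, and let p be an odd prime such that p³ is the exact power of p dividing the order of G. Then p³ is less than the 2-part of the order of G. -/
theorem result {G : Type*} [Group G] [Finite G] (hG : Cfsg.IsAlternating G ∨ Cfsg.IsSporadic G)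
    (p : ℕ) (hp : p.Prime) (hodd : p ≠ 2) (h3 : (Nat.card G).factorization p = 3) :
    p ^ 3 < 2 ^ (Nat.card G).factorization 2 := by
  rcases hG with ⟨n, hn, ⟨e⟩⟩ | hG
  · have : Nontrivial (Fin n) := Fin.nontrivial_iff_two_le.2 (by omega)
    have hc : Nat.card G = n.factorial / 2 := by
      rw [Nat.card_congr e.toEquiv, nat_card_alternatingGroup, Nat.card_fin]
    rw [hc] at h3 ⊢
    exact alt_bound hn hp hodd h3
  · refine spor_bound hp hodd ?_ h3
    rcases hG with h | h | h | h | h | h | h | h | h | h | h | h | h | h | h | h | h | h | h | h | h | h | h | h | h | h <;> rw [h.2] <;> decide +kernel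

end Cfsg.Agent.S2367
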