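import Cfsg.Statements.S2368
import Cfsg.Agent.Lib.Concrete.UnipotentOrder

set_option autoImplicit false
open Cfsg Cfsg.Lib.Concrete

namespace Cfsg.Agent.S2368

/-- Let F be a finite field of characteristic p and m ≥ 1. Every element of GL(m, F) of p-power order has order less than p·m, and GL(m, F) has an element of p-power order at least m; so the largest order of a p-element of GL(m, F) is the least power of p that is at least m. -/
theorem result {F : Type*} [Field F] [Fintype F] (p : ℕ) [Fact p.Prime] [CharP F p] (m : ℕ) (hm : 1 ≤ m) :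
    (∀ g : Matrix.GeneralLinearGroup (Fin m) F, (∃ j : ℕ, orderOf g = p ^ j) → orderOf g < p * m) ∧
      ∃ g : Matrix.GeneralLinearGroup (Fin m) F, (∃ j : ℕ, orderOf g = p ^ j) ∧ m ≤ orderOf g := by
  refine ⟨fun g ⟨j, hj⟩ => pow_order_lt p hm hj, ?_⟩
  obtain ⟨u, hnil, hne⟩ := exists_regular_unipotent (F := F) (d := m)
  have h := unipotent_order_eq p hnil (hne hm)
  exact ⟨u, ⟨_, h⟩, h ▸ Nat.le_pow_clog (Fact.out : p.Prime).one_lt m⟩

end Cfsg.Agent.S2368
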