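import Mathlib.Data.Nat.Factorization.Basic
import Cfsg.Prelude.Def_LieTwisted
import Cfsg.Agent.Lib.Chev.TwF4InvCent
-- import your own Cfsg.Agent.* helpers here

set_option autoImplicit false
open Cfsg

namespace Cfsg.Agent.S2369

/-- Let q = 2^(2m+1) with m ≥ 1 and let a, b be commuting elements of the large Ree group ²F₄(q) with a an involution. Then every prime divisor of the order of b divides q(q⁴ − 1). -/
theorem result {K : Type*} [Field K] [Fintype K] (m : ℕ) (hm : 1 ≤ m) (hK : Fintype.card K = 2 ^ (2 * m + 1))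
    (a b : ↥(Cfsg.Lie.twistedF4 K (2 ^ m))) (ha : orderOf a = 2) (hab : Commute a b) :
    (orderOf b).primeFactors ⊆ (2 ^ (2 * m + 1) * ((2 ^ (2 * m + 1)) ^ 4 - 1)).primeFactors := by
  open Cfsg.Lib.Chev Cfsg.Lie in
  haveI : CharP K esymF4.p := f4_charP hK
  haveI : CharP K 2 := inferInstanceAs (CharP K Cfsg.Lib.Chev.esymF4.p)
  revert a b
  rw [Cfsg.Lib.Chev.twistedF4_eq hK]
  intro a b ha hab r hr
  rw [Nat.mem_primeFactors] at hr ⊢
  refine ⟨hr.1, Cfsg.Lib.Chev.f4_commuting_primes hK a b ha hab r hr.1 hr.2.1, ?_⟩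
  have h1 : 2 ≤ 2 ^ (2 * m + 1) := Nat.le_self_pow (by omega) 2
  have h4 : 2 ≤ (2 ^ (2 * m + 1)) ^ 4 := le_trans h1 (Nat.le_self_pow (by norm_num) _)
  exact Nat.mul_ne_zero (by omega) (by omega)

end Cfsg.Agent.S2369
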