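import Cfsg.Statements.S2372
import Cfsg.Agent.Lib.Chev.TorusF4

set_option autoImplicit false
open Cfsg

namespace Cfsg.Agent.S2372

open Cfsg.Lib.Chev Cfsg.Lie in
theorem ord_eq (q : ℤ) : TorData.ord torF4 tblF4 q = q ^ 4 + 1 := by
  rw [TorData.ord, sumBelow_eq, show tblF4.rank = 4 from rfl]
  simp [Finset.sum_range_succ, torF4, nth_eq]
  all_goals ring

/-- The group F₄(q) contains a cyclic subgroup of order q⁴ + 1 which is its own centralizer. -/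
theorem result {F : Type*} [Field F] [Fintype F] (q : ℕ) (hF : Fintype.card F = q) :
    ∃ H : Subgroup ↥(Cfsg.Lie.chevF4.group F), IsCyclic ↥H ∧ Nat.card ↥H = q ^ 4 + 1 ∧
      Subgroup.centralizer (H : Set ↥(Cfsg.Lie.chevF4.group F)) = H := by
  have hq2 : 2 ≤ q := hF ▸ Fintype.one_lt_card
  have hsep : Cfsg.Lib.Chev.TorSep Cfsg.Lie.chevF4 Cfsg.Lib.Chev.tblF4 Cfsg.Lib.Chev.torF4 q := by
    by_cases h5 : 5 ≤ q
    · refine Cfsg.Lib.Chev.torSep_of_large Cfsg.Lib.Chev.certF4 h5 Cfsg.Lib.Chev.chkLarge_F4 ?_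
      rw [ord_eq, show Cfsg.Lie.chevF4.rank = 4 from rfl]
      simp only [Finset.sum_range_succ, Finset.sum_range_zero]
      have h : (5 : ℤ) ≤ q := by exact_mod_cast h5
      nlinarith [pow_pos (show (0 : ℤ) < q by omega) 2, pow_pos (show (0 : ℤ) < q by omega) 3,
        pow_pos (show (0 : ℤ) < q by omega) 4, pow_pos (show (0 : ℤ) < q by omega) 5,
        pow_pos (show (0 : ℤ) < q by omega) 6, pow_pos (show (0 : ℤ) < q by omega) 7]
    interval_cases q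
    · exact Cfsg.Lib.Chev.torSep_of_pair Cfsg.Lib.Chev.certF4 Cfsg.Lib.Chev.chkPair_F4_2
    · exact Cfsg.Lib.Chev.torSep_of_small Cfsg.Lib.Chev.certF4 Cfsg.Lib.Chev.chkSmall_F4_3
    · exact Cfsg.Lib.Chev.torSep_of_small Cfsg.Lib.Chev.certF4 Cfsg.Lib.Chev.chkSmall_F4_4
  obtain ⟨H, h1, h2, h3⟩ := Cfsg.Lib.Chev.exists_cyclic_self_centralizing Cfsg.Lib.Chev.certF4
    hF (K := Cfsg.Lib.Chev.fullCertF4) Cfsg.Lib.Chev.inv_F4 (Cfsg.Lib.Chev.torOK_of_chk Cfsg.Lib.Chev.certF4 _ Cfsg.Lib.Chev.chkTor_F4) rfl hsep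
  refine ⟨H, h1, ?_, h3⟩
  rw [ord_eq] at h2
  exact_mod_cast h2

end Cfsg.Agent.S2372
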