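import Cfsg.Agent.Lib.Chev.TorusE7
-- import your own Cfsg.Agent.* helpers here

set_option autoImplicit false
open Cfsg

namespace Cfsg.Agent.S2374

/-- The group E₇(q) (the simple Chevalley group of type E₇) contains a cyclic subgroup of order (q⁴ − q² + 1)(q³ + 1)/gcd(2, q − 1) which is its own centralizer. -/
theorem result {F : Type*} [Field F] [Fintype F] (q : ℕ) (hF : Fintype.card F = q) :
    ∃ H : Subgroup ↥(Cfsg.Lie.chevE7.group F), IsCyclic ↥H ∧ Nat.card ↥H = (q ^ 4 - q ^ 2 + 1) * (q ^ 3 + 1) / Nat.gcd 2 (q - 1) ∧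
      Subgroup.centralizer (H : Set ↥(Cfsg.Lie.chevE7.group F)) = H := by
  subst hF
  have hq2 : 2 ≤ Fintype.card F := Fintype.one_lt_card
  set q := Fintype.card F with hqdef
  open Cfsg.Lib.Chev Cfsg.Lie in
  exact (by
    have hT := torOKDen_of_chk fullCertE7.comm.cert fullCertE8.comm.cert chkTorDen_E7
    set N := (q ^ 4 - q ^ 2 + 1) * (q ^ 3 + 1) with hNdef
    have hle : q ^ 2 ≤ q ^ 4 := Nat.pow_le_pow_right (by omega) (by omega)
    have hN : (N : ℤ) = TorData.ord torE7 tblE7 q := by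
      rw [TorData.ord, sumBelow_eq, show tblE7.rank = 7 from rfl, hNdef]
      simp only [Finset.sum_range_succ, Finset.sum_range_zero, torE7, nth_eq]
      push_cast [hle]
      simp
      ring
    have hmod : 2 ∣ N ↔ 2 ∣ q - 1 := by
      have e : N + q ^ 2 * (q ^ 3 + 1) = (q ^ 4 + 1) * (q ^ 3 + 1) := by
        rw [hNdef, ← add_mul]; congr 1; omega
      have e3 : N % 2 = ((q % 2) ^ 4 + (q % 2) ^ 2 + 1) * ((q % 2) ^ 3 + 1) % 2 := by
        have e' : N % 2 = (N + q ^ 2 * (q ^ 3 + 1) + q ^ 2 * (q ^ 3 + 1)) % 2 := by omega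
        rw [e', e, show (q ^ 4 + 1) * (q ^ 3 + 1) + q ^ 2 * (q ^ 3 + 1) =
          (q ^ 4 + q ^ 2 + 1) * (q ^ 3 + 1) by ring]
        simp [Nat.mul_mod, Nat.add_mod, Nat.pow_mod]
      rcases (show q % 2 = 0 ∨ q % 2 = 1 by omega) with h | h <;> rw [h] at e3 <;>
        norm_num at e3 <;> omega
    have hj : Nat.gcd 2 N = Nat.gcd 2 (q - 1) := by
      by_cases h : 2 ∣ q - 1
      · rw [Nat.gcd_eq_left (hmod.2 h), Nat.gcd_eq_left h]
      · rw [(Nat.prime_two.coprime_iff_not_dvd.2 fun h' => h (hmod.1 h')).gcd_eq_one,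
          (Nat.prime_two.coprime_iff_not_dvd.2 h).gcd_eq_one]
    have hM : N / Nat.gcd 2 (q - 1) * Nat.gcd 2 N = N := by
      rw [← hj]; exact Nat.div_mul_cancel (Nat.gcd_dvd_right _ _)
    have hN0 : N ≠ 0 := by rw [hNdef]; positivity
    have hsum : (N : ℤ) = (q : ℤ) ^ 7 - q ^ 5 + q ^ 4 + q ^ 3 - q ^ 2 + 1 := by
      rw [hNdef]; push_cast [hle]; ring
    have hsep : TorSepDen chevE7 tblE7 torE7 ((2 : ℕ) : ℤ) ((N / Nat.gcd 2 (q - 1) : ℕ) : ℤ) q := by
      by_cases h1 : (q - 1) % 2 = 0
      · have hg : Nat.gcd 2 (q - 1) = 2 := Nat.gcd_eq_left (Nat.dvd_of_mod_eq_zero h1)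
        rw [hg]
        by_cases hb : 9 < q
        · refine torSepDen_of_large fullCertE7.comm.cert (by omega) chkLargeDen_E7 ?_
          have h3 : ((N / 2 : ℕ) : ℤ) * 2 = N := by
            have := hM
            rw [hj, hg] at this
            exact_mod_cast this
          have h : (10 : ℤ) ≤ q := by exact_mod_cast hb
          rw [show chevE7.rank = 7 from rfl]
          simp only [Finset.sum_range_succ, Finset.sum_range_zero]
          nlinarith [pow_pos (show (0 : ℤ) < q by omega) 2, pow_pos (show (0 : ℤ) < q by omega) 3,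
            pow_pos (show (0 : ℤ) < q by omega) 4, pow_pos (show (0 : ℤ) < q by omega) 5,
            pow_pos (show (0 : ℤ) < q by omega) 6]
        rcases (show q = 3 ∨ q = 5 ∨ q = 7 ∨ q = 9 by omega) with e | e | e | e
        · rw [hNdef, e]; exact torSepDen_of_small fullCertE7.comm.cert chkSmallDen_E7_3
        · rw [hNdef, e]; exact torSepDen_of_small fullCertE7.comm.cert chkSmallDen_E7_5
        · rw [hNdef, e]; exact torSepDen_of_small fullCertE7.comm.cert chkSmallDen_E7_7
        · rw [hNdef, e]; exact torSepDen_of_small fullCertE7.comm.cert chkSmallDen_E7_9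
      · have hg : Nat.gcd 2 (q - 1) = 1 := (Nat.prime_two.coprime_iff_not_dvd.2 (by omega)).gcd_eq_one
        rw [hg, Nat.div_one]
        by_cases hb : 6 ≤ q
        · refine torSepDen_of_large fullCertE7.comm.cert (by omega) chkLargeDen_E7 ?_
          rw [hsum]
          have h : (6 : ℤ) ≤ q := by exact_mod_cast hb
          rw [show chevE7.rank = 7 from rfl]
          simp only [Finset.sum_range_succ, Finset.sum_range_zero]
          nlinarith [pow_pos (show (0 : ℤ) < q by omega) 2, pow_pos (show (0 : ℤ) < q by omega) 3,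
            pow_pos (show (0 : ℤ) < q by omega) 4, pow_pos (show (0 : ℤ) < q by omega) 5,
            pow_pos (show (0 : ℤ) < q by omega) 6]
        rcases (show q = 2 ∨ q = 4 by omega) with e | e
        · rw [hNdef, e]; exact torSepDen_of_pair fullCertE7.comm.cert chkPairDen_E7_2
        · rw [hNdef, e]; exact torSepDen_of_small fullCertE7.comm.cert chkSmallDen_E7_4
    exact exists_cyclic_self_centralizing_den fullCertE7.comm.cert fullCertE7 fullCertE8.comm.cert fullCertE8.comm
      subData_E7 hqdef.symm Nat.prime_two invCartDen_E7 hT rfl hN hN0 hmod.1 hM hsep)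

end Cfsg.Agent.S2374
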