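import Cfsg.Statements.S2375
import Cfsg.Agent.Lib.Chev.TorusE8

set_option autoImplicit false
open Cfsg

namespace Cfsg.Agent.S2375

open Cfsg.Lib.Chev Cfsg.Lie in
theorem ord_eq (q : ℤ) : TorData.ord torE8 tblE8 q = q ^ 8 + q ^ 7 - q ^ 5 - q ^ 4 - q ^ 3 + q + 1 := by
  rw [TorData.ord, sumBelow_eq, show tblE8.rank = 8 from rfl]
  simp [Finset.sum_range_succ, torE8, nth_eq]
  all_goals ring

/-- The group E₈(q) contains a cyclic subgroup of order q⁸ + q⁷ − q⁵ − q⁴ − q³ + q + 1 which is its own centralizer. -/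
theorem result {F : Type*} [Field F] [Fintype F] (q : ℕ) (hF : Fintype.card F = q) :
    ∃ H : Subgroup ↥(Cfsg.Lie.chevE8.group F), IsCyclic ↥H ∧ Nat.card ↥H = q ^ 8 + q ^ 7 - q ^ 5 - q ^ 4 - q ^ 3 + q + 1 ∧
      Subgroup.centralizer (H : Set ↥(Cfsg.Lie.chevE8.group F)) = H := by
  have hq2 : 2 ≤ q := hF ▸ Fintype.one_lt_card
  have hsep : Cfsg.Lib.Chev.TorSep Cfsg.Lie.chevE8 Cfsg.Lib.Chev.tblE8 Cfsg.Lib.Chev.torE8 q := by
    by_cases h5 : 5 ≤ q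
    · refine Cfsg.Lib.Chev.torSep_of_large Cfsg.Lib.Chev.certE8 h5 Cfsg.Lib.Chev.chkLarge_E8 ?_
      rw [ord_eq, show Cfsg.Lie.chevE8.rank = 8 from rfl]
      simp only [Finset.sum_range_succ, Finset.sum_range_zero]
      have h : (5 : ℤ) ≤ q := by exact_mod_cast h5
      nlinarith [pow_pos (show (0 : ℤ) < q by omega) 2, pow_pos (show (0 : ℤ) < q by omega) 3,
        pow_pos (show (0 : ℤ) < q by omega) 4, pow_pos (show (0 : ℤ) < q by omega) 5,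
        pow_pos (show (0 : ℤ) < q by omega) 6, pow_pos (show (0 : ℤ) < q by omega) 7]
    interval_cases q
    · exact Cfsg.Lib.Chev.torSep_of_pair Cfsg.Lib.Chev.certE8 Cfsg.Lib.Chev.chkPair_E8_2
    · exact Cfsg.Lib.Chev.torSep_of_small Cfsg.Lib.Chev.certE8 Cfsg.Lib.Chev.chkSmall_E8_3
    · exact Cfsg.Lib.Chev.torSep_of_small Cfsg.Lib.Chev.certE8 Cfsg.Lib.Chev.chkSmall_E8_4
  obtain ⟨H, h1, h2, h3⟩ := Cfsg.Lib.Chev.exists_cyclic_self_centralizing Cfsg.Lib.Chev.certE8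
    hF (K := Cfsg.Lib.Chev.fullCertE8) Cfsg.Lib.Chev.inv_E8 (Cfsg.Lib.Chev.torOK_of_chk Cfsg.Lib.Chev.certE8 _ Cfsg.Lib.Chev.chkTor_E8) rfl hsep
  refine ⟨H, h1, ?_, h3⟩
  rw [ord_eq] at h2
  have hm : ∀ {a b : ℕ}, a ≤ b → q ^ a ≤ q ^ b := fun h => Nat.pow_le_pow_right (by omega) h
  have h7 : 2 * q ^ 7 ≤ q ^ 8 := by rw [pow_succ' q 7]; exact Nat.mul_le_mul_right _ hq2
  have h5 := hm (show 5 ≤ 7 by omega)
  have h4 := hm (show 4 ≤ 7 by omega)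
  have h3' := hm (show 3 ≤ 7 by omega)
  have : ((q ^ 8 + q ^ 7 - q ^ 5 - q ^ 4 - q ^ 3 + q + 1 : ℕ) : ℤ) =
      (q : ℤ) ^ 8 + q ^ 7 - q ^ 5 - q ^ 4 - q ^ 3 + q + 1 := by
    push_cast [show q ^ 5 ≤ q ^ 8 + q ^ 7 by omega, show q ^ 4 ≤ q ^ 8 + q ^ 7 - q ^ 5 by omega,
      show q ^ 3 ≤ q ^ 8 + q ^ 7 - q ^ 5 - q ^ 4 by omega]
    rfl
  exact_mod_cast h2.trans this.symm

end Cfsg.Agent.S2375
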