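import Cfsg.Statements.S2376
import Cfsg.Agent.Lib.Chev.TrialityLang

set_option autoImplicit false
open Cfsg

namespace Cfsg.Agent.S2376

open Cfsg.Lib.Chev in
theorem ord_eq (q : ℤ) : torD4.ord 4 q = q ^ 4 + q ^ 3 - q - 1 := by
  rw [TwTor.ord, sumBelow_eq]
  simp [Finset.sum_range_succ, torD4, nth_eq]
  ring

/-- The group ³D₄(q) contains a cyclic subgroup of order (q³ − 1)(q + 1) which is its own centralizer. -/
theorem result {K : Type*} [Field K] [Fintype K] (q : ℕ) (hq : IsPrimePow q) (hK : Fintype.card K = q ^ 3) :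
    ∃ H : Subgroup ↥(Cfsg.Lie.twistedD4 K q), IsCyclic ↥H ∧ Nat.card ↥H = (q ^ 3 - 1) * (q + 1) ∧
      Subgroup.centralizer (H : Set ↥(Cfsg.Lie.twistedD4 K q)) = H := by
  have hq2 : 2 ≤ q := hq.two_le
  have hsep : Cfsg.Lib.Chev.TwTorSep Cfsg.Lie.chevD4 Cfsg.Lib.Chev.tblD4 Cfsg.Lib.Chev.torD4 q := by
    by_cases h5 : 5 ≤ q
    · refine Cfsg.Lib.Chev.twTorSep_of_large Cfsg.Lib.Chev.certD4C h5 Cfsg.Lib.Chev.chkLarge_D4 ?_
      rw [show Cfsg.Lie.chevD4.rank = 4 from rfl, ord_eq]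
      simp only [Finset.sum_range_succ, Finset.sum_range_zero]
      have h : (5 : ℤ) ≤ q := by exact_mod_cast h5
      nlinarith [pow_pos (show (0 : ℤ) < q by omega) 2, pow_pos (show (0 : ℤ) < q by omega) 3]
    interval_cases q
    · exact Cfsg.Lib.Chev.twTorSep_of_pair Cfsg.Lib.Chev.certD4C Cfsg.Lib.Chev.chkTwPair_D4_2
    · exact Cfsg.Lib.Chev.twTorSep_of_small Cfsg.Lib.Chev.certD4C Cfsg.Lib.Chev.chkTwSmall_D4_3
    · exact Cfsg.Lib.Chev.twTorSep_of_small Cfsg.Lib.Chev.certD4C Cfsg.Lib.Chev.chkTwSmall_D4_4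
  obtain ⟨H, h1, h2, h3⟩ := Cfsg.Lib.Chev.twistedD4_cyclic_self_centralizing hq hK
    (Cfsg.Lib.Chev.twTorOK_of_chk Cfsg.Lib.Chev.certD4C Cfsg.Lib.Chev.chkTor_D4) hsep
  refine ⟨H, h1, ?_, h3⟩
  replace h2 : (Nat.card ↥H : ℤ) = Cfsg.Lib.Chev.torD4.ord 4 q := h2
  rw [ord_eq] at h2
  have h3' : 1 ≤ q ^ 3 := Nat.one_le_pow _ _ (by omega)
  have : ((Nat.card ↥H : ℕ) : ℤ) = (((q ^ 3 - 1) * (q + 1) : ℕ) : ℤ) := by
    rw [h2]
    push_cast [h3']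
    ring
  exact_mod_cast this

end Cfsg.Agent.S2376
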