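import Cfsg.Statements.S2378
import Cfsg.Agent.S1059
import Cfsg.Agent.S1060
import Cfsg.Agent.S1061
import Cfsg.Agent.S1062
import Cfsg.Agent.S1063
import Cfsg.Agent.S1064
import Cfsg.Agent.S1065
import Cfsg.Agent.Lib.Chev.DescentAut
import Cfsg.Agent.Lib.Chev.SylowPoly
import Cfsg.Agent.Lib.Chev.SylG2
import Cfsg.Agent.Lib.Chev.SylB2
import Cfsg.Agent.Lib.Chev.SylD4
import Cfsg.Agent.Lib.Chev.SylF4
import Cfsg.Agent.Lib.Chev.SylE6
import Cfsg.Agent.Lib.Chev.SylE7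
import Cfsg.Agent.Lib.Chev.SylE8

set_option autoImplicit false
open Cfsg

namespace Cfsg.Agent.S2378

open Cfsg.Lie Cfsg.Lib.Chev

theorem invE6 : phiMat chevE6 phiE6 * cartanMat chevE6 tblE6 = Matrix.diagonal fun _ => ((3 : ℕ) : ℤ) := by
  decide +kernel

theorem dataG2 : ∀ d ∈ [1, 2, 3, 6], ∃ S, chkSyl tblG2 (([2, 6] : List ℕ).filter (fun x => d ∣ x)).length S = true ∧ CycGood d S.phi := by
  intro d hd
  simp only [List.mem_cons, List.not_mem_nil, or_false] at hd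
  rcases hd with rfl | rfl | rfl | rfl
  · exact ⟨sylG2_1, chkSyl_G2_1, cycGood_1⟩
  · exact ⟨sylG2_2, chkSyl_G2_2, cycGood_2⟩
  · exact ⟨sylG2_3, chkSyl_G2_3, cycGood_3⟩
  · exact ⟨sylG2_6, chkSyl_G2_6, cycGood_6⟩

theorem dataB2 : ∀ d ∈ [1, 2, 4], ∃ S, chkSyl tblB2 (([2, 4] : List ℕ).filter (fun x => d ∣ x)).length S = true ∧ CycGood d S.phi := by
  intro d hd
  simp only [List.mem_cons, List.not_mem_nil, or_false] at hd
  rcases hd with rfl | rfl | rfl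
  · exact ⟨sylB2_1, chkSyl_B2_1, cycGood_1⟩
  · exact ⟨sylB2_2, chkSyl_B2_2, cycGood_2⟩
  · exact ⟨sylB2_4, chkSyl_B2_4, cycGood_4⟩

theorem dataD4 : ∀ d ∈ [1, 2, 3, 4, 6], ∃ S, chkSyl tblD4 (([2, 4, 4, 6] : List ℕ).filter (fun x => d ∣ x)).length S = true ∧ CycGood d S.phi := by
  intro d hd
  simp only [List.mem_cons, List.not_mem_nil, or_false] at hd
  rcases hd with rfl | rfl | rfl | rfl | rfl
  · exact ⟨sylD4_1, chkSyl_D4_1, cycGood_1⟩
  · exact ⟨sylD4_2, chkSyl_D4_2, cycGood_2⟩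
  · exact ⟨sylD4_3, chkSyl_D4_3, cycGood_3⟩
  · exact ⟨sylD4_4, chkSyl_D4_4, cycGood_4⟩
  · exact ⟨sylD4_6, chkSyl_D4_6, cycGood_6⟩

theorem dataF4 : ∀ d ∈ [1, 2, 3, 4, 6, 8, 12], ∃ S, chkSyl tblF4 (([2, 6, 8, 12] : List ℕ).filter (fun x => d ∣ x)).length S = true ∧ CycGood d S.phi := by
  intro d hd
  simp only [List.mem_cons, List.not_mem_nil, or_false] at hd
  rcases hd with rfl | rfl | rfl | rfl | rfl | rfl | rfl
  · exact ⟨sylF4_1, chkSyl_F4_1, cycGood_1⟩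
  · exact ⟨sylF4_2, chkSyl_F4_2, cycGood_2⟩
  · exact ⟨sylF4_3, chkSyl_F4_3, cycGood_3⟩
  · exact ⟨sylF4_4, chkSyl_F4_4, cycGood_4⟩
  · exact ⟨sylF4_6, chkSyl_F4_6, cycGood_6⟩
  · exact ⟨sylF4_8, chkSyl_F4_8, cycGood_8⟩
  · exact ⟨sylF4_12, chkSyl_F4_12, cycGood_12⟩

theorem dataE6 : ∀ d ∈ [1, 2, 3, 4, 5, 6, 8, 9, 12], ∃ S, chkSyl tblE6 (([2, 5, 6, 8, 9, 12] : List ℕ).filter (fun x => d ∣ x)).length S = true ∧ CycGood d S.phi := by
  intro d hd
  simp only [List.mem_cons, List.not_mem_nil, or_false] at hd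
  rcases hd with rfl | rfl | rfl | rfl | rfl | rfl | rfl | rfl | rfl
  · exact ⟨sylE6_1, chkSyl_E6_1, cycGood_1⟩
  · exact ⟨sylE6_2, chkSyl_E6_2, cycGood_2⟩
  · exact ⟨sylE6_3, chkSyl_E6_3, cycGood_3⟩
  · exact ⟨sylE6_4, chkSyl_E6_4, cycGood_4⟩
  · exact ⟨sylE6_5, chkSyl_E6_5, cycGood_5⟩
  · exact ⟨sylE6_6, chkSyl_E6_6, cycGood_6⟩
  · exact ⟨sylE6_8, chkSyl_E6_8, cycGood_8⟩
  · exact ⟨sylE6_9, chkSyl_E6_9, cycGood_9⟩
  · exact ⟨sylE6_12, chkSyl_E6_12, cycGood_12⟩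

theorem dataE7 : ∀ d ∈ [1, 2, 3, 4, 5, 6, 7, 8, 9, 10, 12, 14, 18], ∃ S, chkSyl tblE7 (([2, 6, 8, 10, 12, 14, 18] : List ℕ).filter (fun x => d ∣ x)).length S = true ∧ CycGood d S.phi := by
  intro d hd
  simp only [List.mem_cons, List.not_mem_nil, or_false] at hd
  rcases hd with rfl | rfl | rfl | rfl | rfl | rfl | rfl | rfl | rfl | rfl | rfl | rfl | rfl
  · exact ⟨sylE7_1, chkSyl_E7_1, cycGood_1⟩
  · exact ⟨sylE7_2, chkSyl_E7_2, cycGood_2⟩
  · exact ⟨sylE7_3, chkSyl_E7_3, cycGood_3⟩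
  · exact ⟨sylE7_4, chkSyl_E7_4, cycGood_4⟩
  · exact ⟨sylE7_5, chkSyl_E7_5, cycGood_5⟩
  · exact ⟨sylE7_6, chkSyl_E7_6, cycGood_6⟩
  · exact ⟨sylE7_7, chkSyl_E7_7, cycGood_7⟩
  · exact ⟨sylE7_8, chkSyl_E7_8, cycGood_8⟩
  · exact ⟨sylE7_9, chkSyl_E7_9, cycGood_9⟩
  · exact ⟨sylE7_10, chkSyl_E7_10, cycGood_10⟩
  · exact ⟨sylE7_12, chkSyl_E7_12, cycGood_12⟩
  · exact ⟨sylE7_14, chkSyl_E7_14, cycGood_14⟩
  · exact ⟨sylE7_18, chkSyl_E7_18, cycGood_18⟩

theorem dataE8 : ∀ d ∈ [1, 2, 3, 4, 5, 6, 7, 8, 9, 10, 12, 14, 15, 18, 20, 24, 30], ∃ S, chkSyl tblE8 (([2, 8, 12, 14, 18, 20, 24, 30] : List ℕ).filter (fun x => d ∣ x)).length S = true ∧ CycGood d S.phi := by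
  intro d hd
  simp only [List.mem_cons, List.not_mem_nil, or_false] at hd
  rcases hd with rfl | rfl | rfl | rfl | rfl | rfl | rfl | rfl | rfl | rfl | rfl | rfl | rfl | rfl | rfl | rfl | rfl
  · exact ⟨sylE8_1, chkSyl_E8_1, cycGood_1⟩
  · exact ⟨sylE8_2, chkSyl_E8_2, cycGood_2⟩
  · exact ⟨sylE8_3, chkSyl_E8_3, cycGood_3⟩
  · exact ⟨sylE8_4, chkSyl_E8_4, cycGood_4⟩
  · exact ⟨sylE8_5, chkSyl_E8_5, cycGood_5⟩
  · exact ⟨sylE8_6, chkSyl_E8_6, cycGood_6⟩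
  · exact ⟨sylE8_7, chkSyl_E8_7, cycGood_7⟩
  · exact ⟨sylE8_8, chkSyl_E8_8, cycGood_8⟩
  · exact ⟨sylE8_9, chkSyl_E8_9, cycGood_9⟩
  · exact ⟨sylE8_10, chkSyl_E8_10, cycGood_10⟩
  · exact ⟨sylE8_12, chkSyl_E8_12, cycGood_12⟩
  · exact ⟨sylE8_14, chkSyl_E8_14, cycGood_14⟩
  · exact ⟨sylE8_15, chkSyl_E8_15, cycGood_15⟩
  · exact ⟨sylE8_18, chkSyl_E8_18, cycGood_18⟩
  · exact ⟨sylE8_20, chkSyl_E8_20, cycGood_20⟩
  · exact ⟨sylE8_24, chkSyl_E8_24, cycGood_24⟩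
  · exact ⟨sylE8_30, chkSyl_E8_30, cycGood_30⟩

end Cfsg.Agent.S2378


namespace Cfsg.Agent.S2378

open Cfsg.Lie Cfsg.Lib.Chev in
/-- Sylow subgroups for primes away from the characteristic and the Weyl group. Let `G` be the Chevalley group of type G₂, B₂, D₄, F₄, E₆, E₇ or E₈ over a field with `q` elements, with the degrees of its Weyl group listed beside the type (their product is the order of the Weyl group), and let `r` be a prime dividing the order of `G`, not dividing `q` and not dividing the order of the Weyl group. Let `d` be the multiplicative order of `q` modulo `r`, `a` the number of degrees divisible by `d`, and `m` the `r`-part of the value at `q` of the `d`-th cyclotomic polynomial. Then every Sylow `r`-subgroup of `G` is homocyclic: a direct product of `a` cyclic groups of order `m` (in particular abelian). -/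
theorem result {F : Type*} [Field F] [Fintype F] {q : ℕ} (hq : Fintype.card F = q)
    (c : Cfsg.Lie.ChevalleyDatum × List ℕ)
    (hc : c ∈ [(Cfsg.Lie.chevG2, [2, 6]), (Cfsg.Lie.chevB2, [2, 4]), (Cfsg.Lie.chevD4, [2, 4, 4, 6]), (Cfsg.Lie.chevF4, [2, 6, 8, 12]),
      (Cfsg.Lie.chevE6, [2, 5, 6, 8, 9, 12]), (Cfsg.Lie.chevE7, [2, 6, 8, 10, 12, 14, 18]), (Cfsg.Lie.chevE8, [2, 8, 12, 14, 18, 20, 24, 30])])
    (r : ℕ) [Fact r.Prime] (hrq : ¬ r ∣ q) (hrW : ¬ r ∣ c.2.prod) (hrG : r ∣ Nat.card ↥(c.1.group F)) (P : Sylow r ↥(c.1.group F)) :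
    Nonempty (↥(P : Subgroup ↥(c.1.group F)) ≃*
      (Fin (c.2.filter (fun e => orderOf (q : ZMod r) ∣ e)).length →
        Multiplicative (ZMod (r ^ padicValNat r ((Polynomial.cyclotomic (orderOf (q : ZMod r)) ℤ).eval (q : ℤ)).natAbs)))) := by
  simp only [List.mem_cons, List.not_mem_nil, or_false] at hc
  rcases hc with rfl | rfl | rfl | rfl | rfl | rfl | rfl
  · refine sylow_homocyclic_deg certG2 fullCertG2 hq hrq inv_G2 hrW (one_dvd _) (g := 1) (N := 6) (one_dvd _) ?_ hrG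
      (by decide) dataG2 P
    rw [one_mul, Cfsg.Agent.S1059.result hq]
    simp only [List.map_cons, List.map_nil, List.prod_cons, List.prod_nil]
    ring
  · refine sylow_homocyclic_deg certB2 fullCertB2 hq hrq inv_B2 hrW (by decide) (g := Nat.gcd 2 (q - 1)) (N := 4) ((Nat.gcd_dvd_left _ _).trans (by decide)) ?_ hrG
      (by decide) dataB2 P
    rw [Cfsg.Agent.S1060.result hq]
    simp only [List.map_cons, List.map_nil, List.prod_cons, List.prod_nil]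
    ring
  · refine sylow_homocyclic_deg certD4 fullCertD4 hq hrq inv_D4 hrW (by decide) (g := Nat.gcd 2 (q - 1) ^ 2) (N := 12) ((pow_dvd_pow_of_dvd (Nat.gcd_dvd_left 2 (q - 1)) 2).trans (by decide)) ?_ hrG
      (by decide) dataD4 P
    rw [Cfsg.Agent.S1061.result hq]
    simp only [List.map_cons, List.map_nil, List.prod_cons, List.prod_nil]
    ring
  · refine sylow_homocyclic_deg certF4 fullCertF4 hq hrq inv_F4 hrW (one_dvd _) (g := 1) (N := 24) (one_dvd _) ?_ hrG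
      (by decide) dataF4 P
    rw [one_mul, Cfsg.Agent.S1062.result hq]
    simp only [List.map_cons, List.map_nil, List.prod_cons, List.prod_nil]
    ring
  · refine sylow_homocyclic_deg certE6 fullCertE6 hq hrq invE6 hrW (by decide) (g := Nat.gcd 3 (q - 1)) (N := 36) ((Nat.gcd_dvd_left _ _).trans (by decide)) ?_ hrG
      (by decide) dataE6 P
    rw [Cfsg.Agent.S1063.result hq]
    simp only [List.map_cons, List.map_nil, List.prod_cons, List.prod_nil]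
    ring
  · refine sylow_homocyclic_deg certE7 fullCertE7 hq hrq inv_E7 hrW (by decide) (g := Nat.gcd 2 (q - 1)) (N := 63) ((Nat.gcd_dvd_left _ _).trans (by decide)) ?_ hrG
      (by decide) dataE7 P
    rw [Cfsg.Agent.S1064.result hq]
    simp only [List.map_cons, List.map_nil, List.prod_cons, List.prod_nil]
    ring
  · refine sylow_homocyclic_deg certE8 fullCertE8 hq hrq inv_E8 hrW (one_dvd _) (g := 1) (N := 120) (one_dvd _) ?_ hrG
      (by decide) dataE8 P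
    rw [one_mul, Cfsg.Agent.S1065.result hq]
    simp only [List.map_cons, List.map_nil, List.prod_cons, List.prod_nil]
    ring

end Cfsg.Agent.S2378
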