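import Cfsg.Statements.S2382
import Cfsg.Agent.Lib.Chev.Weights.Chev
import Cfsg.Agent.Lib.Chev.FullAll
import Cfsg.Agent.Lib.Chev.OrderG2
import Cfsg.Agent.Lib.Chev.OrderF4
import Cfsg.Agent.Lib.Chev.OrderE8
-- import your own Cfsg.Agent.* helpers here

set_option autoImplicit false
open Cfsg

namespace Cfsg.Agent.S2382

/-- Steinberg's count of semisimple classes for the three types whose simply connected and adjoint groups coincide: in the Chevalley group of type G₂, F₄ or E₈ over a field with `q` elements of characteristic `p`, the conjugacy classes of elements of order prime to `p` number exactly `q^l`, `l = 2, 4, 8` the rank. -/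
theorem result {F : Type*} [Field F] [Fintype F] {q : ℕ} (hq : Fintype.card F = q) (p : ℕ) [Fact p.Prime] [CharP F p]
    (D : Cfsg.Lie.ChevalleyDatum) (hD : D ∈ [Cfsg.Lie.chevG2, Cfsg.Lie.chevF4, Cfsg.Lie.chevE8]) :
    Nat.card {c : ConjClasses ↥(D.group F) // ∃ g : ↥(D.group F), ConjClasses.mk g = c ∧ (orderOf g).Coprime p} = q ^ D.rank := by
  classical
  subst hq
  simp only [List.mem_cons, List.not_mem_nil, or_false] at hD
  rcases hD with rfl | rfl | rfl <;> rw [← Nat.card_eq_fintype_card]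
  · exact Cfsg.Lib.Chev.Weights.card_semisimple Cfsg.Lib.Chev.fullCertG2.comm.cert Cfsg.Lib.Chev.fullCertG2 p
      Cfsg.Lib.Chev.torusCertG2 fun k => by
        have : (![1, 1] : Fin 2 → ℕ) k = 1 := by fin_cases k <;> rfl
        rw [this, Nat.gcd_one_right]
  · exact Cfsg.Lib.Chev.Weights.card_semisimple Cfsg.Lib.Chev.fullCertF4.comm.cert Cfsg.Lib.Chev.fullCertF4 p
      Cfsg.Lib.Chev.torusCertF4 fun k => by
        have : (![1, 1, 1, 1] : Fin 4 → ℕ) k = 1 := by fin_cases k <;> rfl
        rw [this, Nat.gcd_one_right]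
  · exact Cfsg.Lib.Chev.Weights.card_semisimple Cfsg.Lib.Chev.fullCertE8.comm.cert Cfsg.Lib.Chev.fullCertE8 p
      Cfsg.Lib.Chev.torusCertE8 fun k => by
        have : (![1, 1, 1, 1, 1, 1, 1, 1] : Fin 8 → ℕ) k = 1 := by fin_cases k <;> rfl
        rw [this, Nat.gcd_one_right]

end Cfsg.Agent.S2382
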