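import Cfsg.Statements.S2383
import Cfsg.Agent.Lib.Chev.Weights.Chev
import Cfsg.Agent.Lib.Chev.FullAll
import Cfsg.Agent.Lib.Chev.OrderB2
import Cfsg.Agent.Lib.Chev.OrderD4
import Cfsg.Agent.Lib.Chev.OrderE7
-- import your own Cfsg.Agent.* helpers here

set_option autoImplicit false
open Cfsg

namespace Cfsg.Agent.S2383

/-- Steinberg's count of semisimple classes in characteristic 2 for the types B₂, D₄, E₇, where the finite simply connected group has trivial centre and so coincides with the Chevalley group: for the Chevalley group of type B₂, D₄ or E₇ over a field with `q` elements of characteristic 2, the conjugacy classes of elements of odd order number exactly `q^l`, `l` the rank. -/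
theorem result {F : Type*} [Field F] [Fintype F] {q : ℕ} (hq : Fintype.card F = q) [CharP F 2]
    (D : Cfsg.Lie.ChevalleyDatum) (hD : D ∈ [Cfsg.Lie.chevB2, Cfsg.Lie.chevD4, Cfsg.Lie.chevE7]) :
    Nat.card {c : ConjClasses ↥(D.group F) // ∃ g : ↥(D.group F), ConjClasses.mk g = c ∧ Odd (orderOf g)} = q ^ D.rank := by
  classical
  subst hq
  haveI : Fact (Nat.Prime 2) := ⟨Nat.prime_two⟩
  obtain ⟨m, -, hm⟩ := FiniteField.card F 2
  have hg : (Nat.card F - 1).gcd 2 = 1 := by
    rw [Nat.card_eq_fintype_card, hm]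
    have h : 2 ∣ 2 ^ (m : ℕ) := dvd_pow_self 2 m.ne_zero
    have h1 : 0 < 2 ^ (m : ℕ) := Nat.two_pow_pos _
    rw [← Nat.coprime_iff_gcd_eq_one, Nat.coprime_two_right, Nat.odd_iff]
    omega
  have hgcd : ∀ x : ℕ, x = 1 ∨ x = 2 → (Nat.card F - 1).gcd x = 1 := by
    rintro x (rfl | rfl)
    exacts [Nat.gcd_one_right _, hg]
  rw [Nat.card_congr (Equiv.subtypeEquivRight fun c => exists_congr fun g =>
    and_congr_right fun _ => (Nat.coprime_two_right (n := orderOf g)).symm)]
  simp only [List.mem_cons, List.not_mem_nil, or_false] at hD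
  rcases hD with rfl | rfl | rfl <;> rw [← Nat.card_eq_fintype_card (α := F)]
  · exact Cfsg.Lib.Chev.Weights.card_semisimple Cfsg.Lib.Chev.fullCertB2.comm.cert Cfsg.Lib.Chev.fullCertB2 2
      Cfsg.Lib.Chev.torusCertB2 fun k => hgcd _ (by fin_cases k <;> first | exact Or.inl rfl | exact Or.inr rfl)
  · exact Cfsg.Lib.Chev.Weights.card_semisimple Cfsg.Lib.Chev.fullCertD4.comm.cert Cfsg.Lib.Chev.fullCertD4 2
      Cfsg.Lib.Chev.torusCertD4 fun k => hgcd _ (by fin_cases k <;> first | exact Or.inl rfl | exact Or.inr rfl)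
  · exact Cfsg.Lib.Chev.Weights.card_semisimple Cfsg.Lib.Chev.fullCertE7.comm.cert Cfsg.Lib.Chev.fullCertE7 2
      Cfsg.Lib.Chev.torusCertE7 fun k => hgcd _ (by fin_cases k <;> first | exact Or.inl rfl | exact Or.inr rfl)

end Cfsg.Agent.S2383
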