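import Cfsg.Statements.S2569
-- import your own Cfsg.Agent.* helpers here

set_option autoImplicit false
open Cfsg

namespace Cfsg.Agent.S2569

open Polynomial
open scoped DirectSum

section

variable {F : Type*} [Field F]

theorem exists_summand (n : ℕ) (a : Module.End F (Fin n → F)) (hn : 0 < n) (m : ℕ) (hm : (m : F) ≠ 0)
    (ha : a ^ m = 1) :
    ∃ q : F[X], Irreducible q ∧ ∃ L : AdjoinRoot q →ₗ[F] (Fin n → F), ∃ P : (Fin n → F) →ₗ[F] AdjoinRoot q,
      (∀ z, P (L z) = z) ∧ (∀ z, a (L z) = L (AdjoinRoot.root q * z)) ∧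
      ∀ v, P (a v) = AdjoinRoot.root q * P v := by
  classical
  let M := Module.AEval F (Fin n → F) a
  obtain ⟨ι, hfι, p, hp, e, ⟨φ⟩⟩ := Module.equiv_directSum_of_isTorsion (R := F[X]) (M := M)
    (Module.AEval.isTorsion_of_finiteDimensional F (Fin n → F) a)
  have he : ∃ i, e i ≠ 0 := by
    by_contra! h
    have hz : ∀ v : Fin n → F, v = 0 := fun v => by
      have hv : φ (Module.AEval.of F (Fin n → F) a v) = 0 := by
        refine DFunLike.ext _ _ fun i => ?_
        induction' (φ (Module.AEval.of F (Fin n → F) a v)) i using Submodule.Quotient.induction_on with g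
        exact (Submodule.Quotient.mk_eq_zero _).mpr
          (Submodule.mem_span_singleton.mpr ⟨g, by rw [h i, pow_zero, smul_eq_mul, mul_one]⟩)
      simpa using hv
    exact one_ne_zero (congrFun (hz (fun _ => (1 : F))) ⟨0, hn⟩)
  obtain ⟨i, hi⟩ := he
  have hdvd : p i ^ e i ∣ X ^ m - 1 := by
    let w : M := φ.symm (DirectSum.lof F[X] ι _ i (Submodule.Quotient.mk 1))
    have hw : (X ^ m - 1 : F[X]) • w = 0 := by
      obtain ⟨v, hv⟩ := (Module.AEval.of F (Fin n → F) a).surjective w
      rw [← hv, ← Module.AEval.of_aeval_smul]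
      simp [ha]
    have h := congrArg (fun y => DirectSum.component F[X] ι _ i (φ y)) hw
    simp only [map_smul, map_zero, w, LinearEquiv.apply_symm_apply, DirectSum.component.lof_self] at h
    rw [← Submodule.Quotient.mk_smul, Submodule.Quotient.mk_eq_zero, Submodule.mem_span_singleton] at h
    obtain ⟨c, hc⟩ := h
    exact ⟨c, by simpa [mul_comm] using hc.symm⟩
  have he1 : e i = 1 := by
    have hsq : Squarefree (X ^ m - 1 : F[X]) := (X_pow_sub_one_separable_iff.mpr hm).squarefree
    have h := (Squarefree.squarefree_of_dvd hdvd hsq)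
    by_contra hne
    exact (hp i).not_isUnit (h (p i) ((pow_two (p i)) ▸ pow_dvd_pow _ (by omega)))
  refine ⟨p i ^ e i, by rw [he1, pow_one]; exact hp i, ?_⟩
  let q := p i ^ e i
  let N := fun j => F[X] ⧸ Submodule.span F[X] {p j ^ e j}
  let L₀ : N i →ₗ[F[X]] M := φ.symm.toLinearMap ∘ₗ DirectSum.lof F[X] ι N i
  let P₀ : M →ₗ[F[X]] N i := DirectSum.component F[X] ι N i ∘ₗ φ.toLinearMap
  let of' := Module.AEval.of F (Fin n → F) a
  let ε : AdjoinRoot q ≃+ N i :=
    { toFun := fun z => z, invFun := fun z => z, left_inv := fun _ => rfl, right_inv := fun _ => rfl,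
      map_add' := fun _ _ => rfl }
  have hsm : ∀ (g : F[X]) (z : AdjoinRoot q), ε (AdjoinRoot.mk q g * z) = g • ε z := by
    intro g z
    obtain ⟨y, rfl⟩ := AdjoinRoot.mk_surjective z
    rw [← map_mul]
    rfl
  have hC : ∀ (c : F) (z : AdjoinRoot q), ε (c • z) = (C c : F[X]) • ε z := by
    intro c z
    rw [← hsm, Algebra.smul_def, AdjoinRoot.algebraMap_eq, AdjoinRoot.mk_C]
  have hCM : ∀ (c : F) (v : Fin n → F), of' (c • v) = (C c : F[X]) • of' v := by
    intro c v
    rw [map_smul, Module.AEval.C_smul]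
  refine ⟨{ toFun := fun z => of'.symm (L₀ (ε z)), map_add' := fun y z => ?_, map_smul' := fun c z => ?_ },
    { toFun := fun v => ε.symm (P₀ (of' v)), map_add' := fun y z => ?_, map_smul' := fun c z => ?_ }, ?_, ?_, ?_⟩
  · simp only [map_add]
  · apply of'.injective
    simp only [RingHom.id_apply]
    rw [hC, hCM, LinearEquiv.apply_symm_apply, LinearEquiv.apply_symm_apply, map_smul]
  · simp only [map_add]
  · apply ε.injective
    simp only [RingHom.id_apply]
    rw [hC, hCM, AddEquiv.apply_symm_apply, AddEquiv.apply_symm_apply, map_smul]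
  · intro z
    show ε.symm (P₀ (of' (of'.symm (L₀ (ε z))))) = z
    rw [LinearEquiv.apply_symm_apply]
    show ε.symm (DirectSum.component F[X] ι N i (φ (φ.symm (DirectSum.lof F[X] ι N i (ε z))))) = z
    rw [LinearEquiv.apply_symm_apply, DirectSum.component.lof_self, AddEquiv.symm_apply_apply]
  · intro z
    apply of'.injective
    show of' (a (of'.symm (L₀ (ε z)))) = of' (of'.symm (L₀ (ε (AdjoinRoot.root q * z))))
    rw [← AdjoinRoot.mk_X, hsm, LinearEquiv.apply_symm_apply, map_smul]
    conv_rhs => rw [← of'.apply_symm_apply (L₀ (ε z))]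
    exact (Module.AEval.X_smul_of a _).symm
  · intro v
    apply ε.injective
    show ε (ε.symm (P₀ (of' (a v)))) = ε (AdjoinRoot.root q * ε.symm (P₀ (of' v)))
    rw [← AdjoinRoot.mk_X, hsm, AddEquiv.apply_symm_apply, AddEquiv.apply_symm_apply, ← map_smul]
    congr 1
    exact (Module.AEval.X_smul_of a _).symm

theorem exists_commute_det [Finite F] (n : ℕ) (A : Matrix (Fin n) (Fin n) F) (hn : 0 < n) (m : ℕ)
    (hm : (m : F) ≠ 0) (hA : A ^ m = 1) (d : F) :
    ∃ T : Matrix (Fin n) (Fin n) F, T.det = d ∧ T * A = A * T := by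
  classical
  obtain ⟨q, hq, L, P, hPL, hL, hP⟩ := exists_summand n (Matrix.toLin' A) hn m hm
    (by rw [← Matrix.toLin'_pow, hA, Matrix.toLin'_one]; rfl)
  haveI := Fact.mk hq
  haveI : Module.Finite F (AdjoinRoot q) :=
    (AdjoinRoot.powerBasis hq.ne_zero).finite
  haveI : Finite (AdjoinRoot q) := Module.finite_of_finite F
  obtain ⟨k, hk⟩ := FiniteField.norm_surjective F (AdjoinRoot q) d
  let μ : AdjoinRoot q →ₗ[F] AdjoinRoot q := Algebra.lmul F (AdjoinRoot q) (k - 1)
  let T : Module.End F (Fin n → F) := LinearMap.id + (L ∘ₗ μ) ∘ₗ P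
  refine ⟨LinearMap.toMatrix' T, ?_, ?_⟩
  · let bK := Module.finBasis F (AdjoinRoot q)
    let bV := Pi.basisFun F (Fin n)
    rw [LinearMap.det_toMatrix', ← hk, Algebra.norm_apply, ← LinearMap.det_toMatrix bV]
    have h2 : Algebra.lmul F (AdjoinRoot q) k = LinearMap.id + P ∘ₗ (L ∘ₗ μ) := by
      refine LinearMap.ext fun z => ?_
      simp [μ, hPL]
    rw [h2, ← LinearMap.det_toMatrix bK]
    simp only [T, map_add, LinearMap.toMatrix_id]
    rw [LinearMap.toMatrix_comp bV bK bV (L ∘ₗ μ) P, LinearMap.toMatrix_comp bK bV bK P (L ∘ₗ μ),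
      Matrix.det_one_add_mul_comm]
  · apply Matrix.toLin'.injective
    rw [Matrix.toLin'_mul, Matrix.toLin'_mul, Matrix.toLin'_toMatrix']
    refine LinearMap.ext fun v => ?_
    simp only [T, μ, LinearMap.comp_apply, LinearMap.add_apply, LinearMap.id_apply, map_add, hP, hL,
      Algebra.coe_lmul_eq_mul, LinearMap.mul_apply']
    congr 2
    ring

end

/-- In GL_n over a finite field of characteristic p, the conjugacy class of a semisimple element (an element of order prime to p) under the special linear group is its whole GL-conjugacy class: for every such x and every invertible g there is h of determinant one with h x h⁻¹ = g x g⁻¹. -/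
theorem result {F : Type*} [Field F] [Fintype F] {p : ℕ} [Fact p.Prime] [CharP F p] {n : ℕ} (x g : GL (Fin n) F) (hx : (orderOf x).Coprime p) : ∃ h : GL (Fin n) F, (h : Matrix (Fin n) (Fin n) F).det = 1 ∧ h * x * h⁻¹ = g * x * g⁻¹ := by
  classical
  rcases Nat.eq_zero_or_pos n with rfl | hn
  · exact ⟨g, Matrix.det_isEmpty, rfl⟩
  have hm : ((orderOf x : ℕ) : F) ≠ 0 := fun h => by
    have h1 := (CharP.cast_eq_zero_iff F p _).mp h
    exact (Fact.out : p.Prime).not_dvd_one (hx ▸ Nat.dvd_gcd h1 dvd_rfl)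
  have hA : (x : Matrix (Fin n) (Fin n) F) ^ orderOf x = 1 := by
    rw [← Units.val_pow_eq_pow_val, pow_orderOf_eq_one, Units.val_one]
  have hg : (g : Matrix (Fin n) (Fin n) F).det ≠ 0 :=
    ((Matrix.isUnit_iff_isUnit_det _).mp g.isUnit).ne_zero
  obtain ⟨T, hT, hc⟩ := exists_commute_det n (x : Matrix (Fin n) (Fin n) F) hn _ hm hA
    ((g : Matrix (Fin n) (Fin n) F).det)⁻¹
  let c : GL (Fin n) F := Matrix.GeneralLinearGroup.mkOfDetNeZero T (by rw [hT]; exact inv_ne_zero hg)
  refine ⟨g * c, ?_, ?_⟩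
  · show ((g : Matrix (Fin n) (Fin n) F) * T).det = 1
    rw [Matrix.det_mul, hT, mul_inv_cancel₀ hg]
  · have hcx : c * x = x * c := Units.ext hc
    rw [mul_inv_rev, mul_assoc g c x, hcx]
    group

end Cfsg.Agent.S2569
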