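import Cfsg.Statements.S2388
import Cfsg.Agent.Lib.Linear.SemisimpleClasses
import Cfsg.Agent.S2569

set_option autoImplicit false
open Cfsg

namespace Cfsg.Agent.S2388

open Cfsg.Agent.Lib.Linear

/-- In `SL_n(q)`, `q` a power of the prime `p`, two elements of order prime to `p` with the same characteristic polynomial are conjugate in `SL_n(q)` (not merely in `GL_n`). -/
theorem result {F : Type*} [Field F] [Fintype F] (p : ℕ) [Fact p.Prime] [CharP F p] (n : ℕ)
    (g h : Matrix.SpecialLinearGroup (Fin n) F) (hg : (orderOf g).Coprime p) (hh : (orderOf h).Coprime p)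
    (hc : (g : Matrix (Fin n) (Fin n) F).charpoly = (h : Matrix (Fin n) (Fin n) F).charpoly) : IsConj g h := by
  classical
  let φ : Matrix.SpecialLinearGroup (Fin n) F →* GL (Fin n) F := Matrix.SpecialLinearGroup.toGL
  have hφ : Function.Injective φ := fun a b hab =>
    Subtype.ext (congrArg (fun x : GL (Fin n) F => (x : Matrix (Fin n) (Fin n) F)) hab)
  have hg' : (orderOf (φ g)).Coprime p := by rwa [orderOf_injective φ hφ]
  have hh' : (orderOf (φ h)).Coprime p := by rwa [orderOf_injective φ hφ]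
  obtain ⟨c, hc'⟩ := isConj_iff.mp (SemisimpleClasses.isConj_GL (φ g) (φ h) hg' hh' hc)
  obtain ⟨d, hd1, hd2⟩ := Cfsg.Agent.S2569.result (φ g) c hg'
  obtain ⟨e, this⟩ : ∃ e : Matrix.SpecialLinearGroup (Fin n) F, φ e = d :=
    ⟨⟨(d : Matrix (Fin n) (Fin n) F), hd1⟩, Units.ext rfl⟩
  refine isConj_iff.mpr ⟨e, hφ ?_⟩
  rw [map_mul, map_mul, map_inv, this, hd2, hc']

end Cfsg.Agent.S2388
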