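import Cfsg.Statements.S2384
import Cfsg.Agent.Lib.Linear.SemisimpleClasses
import Cfsg.Agent.S2388

set_option autoImplicit false
open Cfsg

namespace Cfsg.Agent.S2384

open Polynomial
open Cfsg.Agent.Lib.Linear

/-- In `SL_n(q)`, `q` a power of the prime `p`, the number of conjugacy classes of elements of order prime to `p` (the semisimple classes) is `q^(n-1)`. -/
theorem result {F : Type*} [Field F] [Fintype F] {q : ℕ} (hq : Fintype.card F = q) (p : ℕ) [Fact p.Prime] [CharP F p] (n : ℕ) (hn : 1 ≤ n) :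
    Nat.card {c : ConjClasses (Matrix.SpecialLinearGroup (Fin n) F) //
      ∃ g : Matrix.SpecialLinearGroup (Fin n) F, ConjClasses.mk g = c ∧ (orderOf g).Coprime p} = q ^ (n - 1) := by
  classical
  obtain ⟨m, rfl⟩ : ∃ m, n = m + 1 := ⟨n - 1, by omega⟩
  subst hq
  let S : Set F := {(-1) ^ (m + 1)}
  let φ : Matrix.SpecialLinearGroup (Fin (m + 1)) F →* GL (Fin (m + 1)) F := Matrix.SpecialLinearGroup.toGL
  have hφ : Function.Injective φ := fun a b hab =>
    Subtype.ext (congrArg (fun x : GL (Fin (m + 1)) F => (x : Matrix (Fin (m + 1)) (Fin (m + 1)) F)) hab)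
  have key : ∀ P : { g : F[X] // g.Monic ∧ g.natDegree = m + 1 ∧ g.coeff 0 ∈ S },
      ∃ g : Matrix.SpecialLinearGroup (Fin (m + 1)) F,
        (g : Matrix (Fin (m + 1)) (Fin (m + 1)) F).charpoly = P.1 ∧ (orderOf g).Coprime p := by
    intro P
    have h0 : P.1.coeff 0 = (-1) ^ (m + 1) := P.2.2.2
    obtain ⟨x, hx1, hx2⟩ := SemisimpleClasses.exists_GL (p := p) P.1 P.2.1 P.2.2.1
      (by rw [h0]; exact pow_ne_zero _ (neg_ne_zero.mpr one_ne_zero))
    have hd : (x : Matrix (Fin (m + 1)) (Fin (m + 1)) F).det = 1 := by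
      rw [Matrix.det_eq_sign_charpoly_coeff, hx1, h0, Fintype.card_fin, ← mul_pow, neg_one_mul, neg_neg, one_pow]
    obtain ⟨e, he⟩ : ∃ e : Matrix.SpecialLinearGroup (Fin (m + 1)) F, φ e = x := ⟨⟨_, hd⟩, Units.ext rfl⟩
    refine ⟨e, ?_, ?_⟩
    · rw [← hx1, ← he]
      rfl
    · rw [← orderOf_injective φ hφ, he]
      exact hx2
  choose g hg using key
  have hbij : Function.Bijective (fun P => (⟨ConjClasses.mk (g P), g P, rfl, (hg P).2⟩ :
      {c : ConjClasses (Matrix.SpecialLinearGroup (Fin (m + 1)) F) //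
        ∃ g, ConjClasses.mk g = c ∧ (orderOf g).Coprime p})) := by
    constructor
    · intro P Q h
      have h1 : IsConj (g P) (g Q) := ConjClasses.mk_eq_mk_iff_isConj.mp (congrArg Subtype.val h)
      have h2 := SemisimpleClasses.charpoly_eq_of_isConj ((Units.coeHom _).map_isConj (φ.map_isConj h1))
      have h3 : ((g P : Matrix.SpecialLinearGroup (Fin (m + 1)) F) : Matrix (Fin (m + 1)) (Fin (m + 1)) F).charpoly =
          ((g Q : Matrix.SpecialLinearGroup (Fin (m + 1)) F) : Matrix (Fin (m + 1)) (Fin (m + 1)) F).charpoly := h2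
      rw [(hg P).1, (hg Q).1] at h3
      exact Subtype.ext h3
    · rintro ⟨c, x, rfl, hx⟩
      have h0 : (x : Matrix (Fin (m + 1)) (Fin (m + 1)) F).charpoly.coeff 0 = (-1) ^ (m + 1) := by
        have := x.2
        rw [Matrix.det_eq_sign_charpoly_coeff, Fintype.card_fin] at this
        calc _ = (-1 : F) ^ (m + 1) * ((-1) ^ (m + 1) * (x.1.charpoly.coeff 0)) := by
              rw [← mul_assoc, ← mul_pow, neg_one_mul, neg_neg, one_pow, one_mul]
          _ = _ := by rw [this, mul_one]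
      refine ⟨⟨_, Matrix.charpoly_monic _, ?_, h0⟩, Subtype.ext ?_⟩
      · rw [Matrix.charpoly_natDegree_eq_dim, Fintype.card_fin]
      · exact ConjClasses.mk_eq_mk_iff_isConj.mpr (Cfsg.Agent.S2388.result p _ _ x (hg _).2 hx (hg _).1)
  rw [← Nat.card_eq_of_bijective _ hbij, SemisimpleClasses.card_monic_coeff_zero, Nat.add_sub_cancel,
    Nat.card_unique, one_mul]

end Cfsg.Agent.S2384
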