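import Cfsg.Statements.S2390
import Cfsg.Agent.S2587
import Cfsg.Agent.Lib.Linear.SemisimpleClasses
import Cfsg.Agent.Lib.Linear.HermCentralizerDet

/-! Semisimple classes of special unitary groups. -/

set_option autoImplicit false
open Cfsg

namespace Cfsg.Agent.S2390

open Cfsg.Lib.Linear.Herm
open scoped Matrix

variable {F : Type*} [Field F] [Fintype F] {q : ℕ}

theorem exists_GU_centralizer_det (hF : Fintype.card F = q ^ 2) {n : ℕ} (hn : 1 ≤ n) (G : Cfsg.GU n F q)
    {N : ℕ} (hN : (N : F) ≠ 0) (hG : G ^ N = 1) {z : F} (hz : z ^ (q + 1) = 1) :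
    ∃ X : Cfsg.GU n F q, X * G = G * X ∧ ((X : GL (Fin n) F) : Matrix (Fin n) (Fin n) F).det = z := by
  classical
  set A := ((G : GL (Fin n) F) : Matrix (Fin n) (Fin n) F) with hA
  obtain ⟨x, hx1, hx2, hx3⟩ := CentDet.exists_centralizer_det hF hn (Matrix.toLin' A)
    (fun u v => G.2 v u) hN (by
      show (Matrix.toLinAlgEquiv' A) ^ N = 1
      rw [← map_pow, hA, ← Units.val_pow_eq_pow_val, ← SubgroupClass.coe_pow, hG, OneMemClass.coe_one,
        Units.val_one, map_one]) (z := z) (by rw [frob_apply, ← pow_succ, hz])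
  have hdet : (LinearMap.toMatrix' x).det = z := by rw [LinearMap.det_toMatrix', hx3]
  have hz0 : z ≠ 0 := fun h => zero_ne_one (α := F) (by rw [← hz, h, zero_pow (Nat.succ_ne_zero q)])
  refine ⟨⟨Matrix.GeneralLinearGroup.mkOfDetNeZero (LinearMap.toMatrix' x) (by rw [hdet]; exact hz0), ?_⟩, ?_, hdet⟩
  · intro u v
    show Cfsg.hermForm n F q (LinearMap.toMatrix' x *ᵥ u) (LinearMap.toMatrix' x *ᵥ v) = _
    rw [LinearMap.toMatrix'_mulVec, LinearMap.toMatrix'_mulVec]
    exact hx1 v u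
  · refine Subtype.ext (Units.ext ?_)
    show LinearMap.toMatrix' x * A = A * LinearMap.toMatrix' x
    conv_lhs => rw [← LinearMap.toMatrix'_toLin' A, ← LinearMap.toMatrix'_comp]
    conv_rhs => rw [← LinearMap.toMatrix'_toLin' A, ← LinearMap.toMatrix'_comp]
    exact congrArg _ hx2

theorem main (hF : Fintype.card F = q ^ 2) (p : ℕ) [Fact p.Prime] [CharP F p] (n : ℕ)
    (g h : ↥(Cfsg.SU n F q)) (hg : (orderOf g).Coprime p) (hh : (orderOf h).Coprime p)
    (hc : ((g : Matrix.SpecialLinearGroup (Fin n) F) : Matrix (Fin n) (Fin n) F).charpoly =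
      ((h : Matrix.SpecialLinearGroup (Fin n) F) : Matrix (Fin n) (Fin n) F).charpoly) : IsConj g h := by
  classical
  rcases Nat.eq_zero_or_pos n with rfl | hn
  · rw [Subsingleton.elim g h]
  let φ : ↥(Cfsg.SU n F q) →* ↥(Cfsg.GU n F q) :=
    (Matrix.SpecialLinearGroup.toGL.comp (Cfsg.SU n F q).subtype).codRestrict _ fun a => a.2
  have hφ : Function.Injective φ := fun a b hab =>
    Subtype.ext (Matrix.SpecialLinearGroup.toGL_injective (congrArg Subtype.val hab))
  have hφ' : Function.Injective ((Cfsg.GU n F q).subtype.comp φ) := Subtype.val_injective.comp hφ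
  have hGL : IsConj ((φ g : GL (Fin n) F)) (φ h : GL (Fin n) F) := by
    refine Cfsg.Agent.Lib.Linear.SemisimpleClasses.isConj_GL (p := p) _ _ ?_ ?_ hc
    · rwa [show ((φ g : GL (Fin n) F)) = (Cfsg.GU n F q).subtype.comp φ g from rfl, orderOf_injective _ hφ']
    · rwa [show ((φ h : GL (Fin n) F)) = (Cfsg.GU n F q).subtype.comp φ h from rfl, orderOf_injective _ hφ']
  obtain ⟨T, hT⟩ := isConj_iff.1 ((Cfsg.Agent.S2587.result hF (φ g) (φ h)).2 hGL)
  obtain ⟨X, hX, hXd⟩ := exists_GU_centralizer_det hF hn (φ g) (N := orderOf g)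
    (Cfsg.Agent.Lib.Linear.SemisimpleClasses.cast_ne_zero_of_coprime hg)
    (by rw [← map_pow, pow_orderOf_eq_one, map_one]) (det_GU_pow hF T⁻¹)
  have hd : (((T * X : Cfsg.GU n F q) : GL (Fin n) F) : Matrix (Fin n) (Fin n) F).det = 1 := by
    rw [Subgroup.coe_mul, Units.val_mul, Matrix.det_mul, hXd, ← Matrix.det_mul, ← Units.val_mul, ← Subgroup.coe_mul,
      mul_inv_cancel, Subgroup.coe_one, Units.val_one, Matrix.det_one]
  let c : ↥(Cfsg.SU n F q) := ⟨⟨_, hd⟩, (T * X).2⟩
  have hcφ : φ c = T * X := Subtype.ext (Units.ext rfl)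
  refine isConj_iff.2 ⟨c, hφ ?_⟩
  rw [map_mul, map_mul, map_inv, hcφ, ← hT, mul_assoc T X, hX, mul_inv_rev, mul_assoc, mul_assoc, mul_assoc,
    mul_inv_cancel_left]

/-- In the special unitary group `SU_n(q)` (inside `SL_n` over the field with `q²` elements), `q` a power of the prime `p`, two elements of order prime to `p` with the same characteristic polynomial are conjugate in `SU_n(q)`. -/
theorem result {F : Type*} [Field F] [Fintype F] {q : ℕ} (hF : Fintype.card F = q ^ 2) (p : ℕ) [Fact p.Prime] [CharP F p] (n : ℕ)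
    (g h : ↥(Cfsg.SU n F q)) (hg : (orderOf g).Coprime p) (hh : (orderOf h).Coprime p)
    (hc : ((g : Matrix.SpecialLinearGroup (Fin n) F) : Matrix (Fin n) (Fin n) F).charpoly =
      ((h : Matrix.SpecialLinearGroup (Fin n) F) : Matrix (Fin n) (Fin n) F).charpoly) : IsConj g h := by
  exact main hF p n g h hg hh hc

end Cfsg.Agent.S2390
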