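import Cfsg.Statements.S2386
import Cfsg.Agent.S2390
import Cfsg.Agent.Lib.Spec.UnitaryThreeSinger

/-! Semisimple classes of special unitary groups: counting. -/

set_option autoImplicit false
open Cfsg Polynomial
open scoped Matrix

namespace Cfsg.Agent.S2386

open Cfsg.Lib.Linear.Herm

/-- Conjugate self-reciprocal polynomials. -/
def SR {F : Type*} [Field F] (σ : F →+* F) (P : F[X]) : Prop :=
  P.map σ * Polynomial.C (P.coeff 0) = P.reverse

section Alg

variable {F : Type*} [Field F] {σ : F →+* F} {P : F[X]}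

theorem SR.coeff_zero (h : SR σ P) (hP : P.Monic) : P.coeff 0 ≠ 0 := by
  intro h0
  have := congrArg (fun f => f.coeff 0) h
  simp [h0, hP.leadingCoeff] at this

theorem SR.div (h : SR σ P) {lam : F} (hl : σ lam * lam = 1) {Q : F[X]}
    (hQ : P = (Polynomial.X - Polynomial.C lam) * Q) : SR σ Q := by
  have h1 : ((Polynomial.X - Polynomial.C lam : F[X]).map σ) * Polynomial.C (-lam) =
      (Polynomial.X - Polynomial.C lam).reverse := by
    have hrev : (Polynomial.X - Polynomial.C lam : F[X]).reverse = Polynomial.C (-lam) * Polynomial.X + 1 := by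
      rw [sub_eq_add_neg, ← map_neg, reverse_add_C, natDegree_X, pow_one, add_comm,
        show reverse (Polynomial.X : F[X]) = 1 by simp [reverse, reflect]]
    rw [hrev, Polynomial.map_sub, Polynomial.map_X, Polynomial.map_C, sub_mul, ← map_mul,
      show σ lam * -lam = -1 by rw [mul_neg, hl], map_neg Polynomial.C (1 : F), map_one]
    ring
  have hc : P.coeff 0 = -lam * Q.coeff 0 := by rw [hQ, mul_coeff_zero]; simp
  have h' : (Polynomial.X - Polynomial.C lam).reverse * (Q.map σ * Polynomial.C (Q.coeff 0)) =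
      (Polynomial.X - Polynomial.C lam).reverse * Q.reverse := by
    rw [← reverse_mul_of_domain, ← hQ, ← h, hc, hQ, Polynomial.map_mul, map_mul, ← h1]
    ring
  refine mul_left_cancel₀ ?_ h'
  rw [Ne, reverse_eq_zero]
  exact X_sub_C_ne_zero lam

end Alg

theorem isUnit_root {F : Type*} [Field F] (P : F[X]) (h0 : P.coeff 0 ≠ 0) : IsUnit (AdjoinRoot.root P) := by
  have hev := congrArg (aeval (AdjoinRoot.root P)) (divX_mul_X_add P)
  rw [map_add, map_mul, aeval_X, aeval_C, AdjoinRoot.aeval_eq P, AdjoinRoot.mk_self, add_eq_zero_iff_eq_neg] at hev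
  refine isUnit_of_mul_isUnit_right (x := aeval (AdjoinRoot.root P) P.divX) ?_
  rw [hev]
  exact ((Ne.isUnit h0).map (algebraMap F (AdjoinRoot P))).neg

/-- The matrix of an isometry in an orthonormal basis. -/
theorem exists_matrix {F : Type*} [Field F] [Fintype F] {q : ℕ} (hF : Fintype.card F = q ^ 2) {V : Type*}
    [AddCommGroup V] [Module F V] [FiniteDimensional F V] {n : ℕ} (hn : Module.finrank F V = n)
    (B : V →ₛₗ[frob hF] V →ₗ[F] F) (hS : B.IsSymm) (hB : B.Nondegenerate) (f : V →ₗ[F] V)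
    (hf : ∀ a b, B (f a) (f b) = B a b) :
    ∃ A : Matrix (Fin n) (Fin n) F, Aᵀ * A.map (frob hF) = 1 ∧ A.charpoly = f.charpoly ∧
      ∀ g : F[X], aeval A g = 0 → aeval f g = 0 := by
  classical
  obtain ⟨b, hb⟩ := Cfsg.Lib.Spec.UThree.exists_orthonormal_basis_herm hF hn B hS hB
  refine ⟨LinearMap.toMatrix b b f, ?_, LinearMap.charpoly_toMatrix f b, fun g hg => ?_⟩
  swap
  · change aeval (LinearMap.toMatrixAlgEquiv b f) g = 0 at hg
    exact (LinearMap.toMatrixAlgEquiv b).injective (by rw [← aeval_algHom_apply, map_zero]; exact hg)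
  ext i j
  have hiso := hf (b j) (b i)
  have hcol : ∀ i, f (b i) = ∑ k, LinearMap.toMatrix b b f k i • b k := fun i => by
    conv_lhs => rw [← b.sum_repr (f (b i))]
    exact Finset.sum_congr rfl fun k _ => by rw [LinearMap.toMatrix_apply]
  rw [hcol, hcol, hb] at hiso
  simp only [map_sum, LinearMap.sum_apply, LinearMap.map_smulₛₗ, LinearMap.smul_apply, map_smul, smul_eq_mul,
    hb, RingHom.id_apply, mul_ite, mul_one, mul_zero, Finset.sum_ite_eq, Finset.sum_ite_eq', Finset.mem_univ,
    if_true] at hiso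
  rw [Matrix.mul_apply, Matrix.one_apply]
  simp only [Matrix.transpose_apply, Matrix.map_apply]
  rw [show (if i = j then (1 : F) else 0) = if j = i then 1 else 0 by rcases eq_or_ne i j with h | h <;> simp [h, Ne.symm, eq_comm], ← hiso]

variable {F : Type*} [Field F] [Fintype F] {q : ℕ}

/-- An algebra with an anti-involution and a symmetric functional gives a unitary matrix. -/
theorem exists_unitary_cyclic (hF : Fintype.card F = q ^ 2) {n : ℕ} (P : F[X]) (hP : P.Monic)
    (hd : P.natDegree = n) (h0 : P.coeff 0 ≠ 0) (hSR : SR (frob hF) P)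
    (φ2 : AdjoinRoot P →ₗ[F] F) (m : ℕ)
    (hsym : ∀ k, k < n → ∀ r : AdjoinRoot P, r * (AdjoinRoot.root P) ^ k = (AdjoinRoot.root P) ^ (2 * m) →
      φ2 r = frob hF (φ2 ((AdjoinRoot.root P) ^ k)))
    (hnd : ∀ r, (∀ u, φ2 (u * r) = 0) → r = 0) :
    ∃ A : Matrix (Fin n) (Fin n) F, Aᵀ * A.map (frob hF) = 1 ∧ A.charpoly = P ∧
      ∀ g : F[X], aeval A g = 0 → P ∣ g := by
  classical
  set σ := frob hF with hσ
  set x := AdjoinRoot.root P with hx
  have hxu : IsUnit x := isUnit_root P h0
  haveI := hxu.invertible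
  have hev : (P.eval₂ ((AdjoinRoot.of P).comp σ) (⅟x)) = 0 := by
    have h1 : P.reverse.eval₂ (AdjoinRoot.of P) (⅟x) = 0 := by
      have := eval₂_reverse_mul_pow (AdjoinRoot.of P) x P
      rw [AdjoinRoot.eval₂_root] at this
      exact (hxu.pow _).mul_left_eq_zero.1 this
    rw [← hSR, eval₂_mul, eval₂_C, eval₂_map] at h1
    exact ((Ne.isUnit h0).map (AdjoinRoot.of P)).mul_left_eq_zero.1 h1
  let st : AdjoinRoot P →+* AdjoinRoot P := AdjoinRoot.lift ((AdjoinRoot.of P).comp σ) (⅟x) hev
  have hstx : st x = ⅟x := AdjoinRoot.lift_root _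
  have hstc : ∀ c, st (AdjoinRoot.of P c) = AdjoinRoot.of P (σ c) := fun c => AdjoinRoot.lift_of _
  have hstsmul : ∀ (c : F) r, st (c • r) = σ c • st r := fun c r => by
    rw [Algebra.smul_def, Algebra.smul_def, RingHom.map_mul, AdjoinRoot.algebraMap_eq, hstc]
  have hstix : st (⅟x) = x := by
    have h1 : st (⅟x) * st x = 1 := by rw [← RingHom.map_mul, invOf_mul_self, RingHom.map_one]
    rw [hstx] at h1
    calc st (⅟x) = st (⅟x) * ⅟x * x := by rw [mul_assoc, invOf_mul_self, mul_one]
      _ = x := by rw [h1, one_mul]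
  have hst2 : ∀ r, st (st r) = r := by
    intro r
    obtain ⟨f, rfl⟩ := AdjoinRoot.mk_surjective r
    induction f using Polynomial.induction_on' with
    | add f g hf hg => rw [map_add (AdjoinRoot.mk P), map_add st, map_add st, hf, hg]
    | monomial k c =>
      rw [← C_mul_X_pow_eq_monomial, map_mul (AdjoinRoot.mk P), map_pow, AdjoinRoot.mk_C, AdjoinRoot.mk_X,
        RingHom.map_mul, RingHom.map_pow, hstc, hstx, RingHom.map_mul, RingHom.map_pow, hstc, hstix, frob_frob hF]
  let φ : AdjoinRoot P →ₗ[F] F := φ2.comp (LinearMap.mulLeft F (x ^ m))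
  have hφ : ∀ r, φ (st r) = σ (φ r) := by
    intro r
    obtain ⟨f, hf⟩ := AdjoinRoot.mk_surjective (x ^ m * r)
    have hr : r = (⅟x) ^ m * AdjoinRoot.mk P f := by
      rw [hf, ← mul_assoc, ← mul_pow, invOf_mul_self, one_pow, one_mul]
    rw [← AdjoinRoot.mk_leftInverse hP (AdjoinRoot.mk P f), AdjoinRoot.modByMonicHom_mk] at hr
    have hlt : (f %ₘ P).degree < (n : WithBot ℕ) := by
      rw [← hd, ← degree_eq_natDegree hP.ne_zero]; exact degree_modByMonic_lt f hP
    generalize f %ₘ P = g at hr hlt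
    rw [hr, as_sum_range_C_mul_X_pow g, map_sum, Finset.mul_sum, map_sum, map_sum, map_sum, map_sum]
    refine Finset.sum_congr rfl fun k hk => ?_
    rcases eq_or_ne (g.coeff k) 0 with hz | hz
    · simp [hz]
    have hkn : k < n := by exact_mod_cast lt_of_le_of_lt (le_degree_of_ne_zero hz) hlt
    rw [map_mul (AdjoinRoot.mk P), map_pow, AdjoinRoot.mk_C, AdjoinRoot.mk_X, ← AdjoinRoot.algebraMap_eq,
      ← Algebra.smul_def, mul_smul_comm, hstsmul, map_smul φ, map_smul φ, smul_eq_mul, smul_eq_mul, map_mul σ]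
    congr 1
    show φ2 (x ^ m * st ((⅟x) ^ m * x ^ k)) = σ (φ2 (x ^ m * ((⅟x) ^ m * x ^ k)))
    rw [← mul_assoc _ _ (x ^ k), ← mul_pow, mul_invOf_self, one_pow, one_mul]
    refine hsym k hkn _ ?_
    rw [RingHom.map_mul, RingHom.map_pow, RingHom.map_pow, hstix, hstx, two_mul, pow_add, mul_assoc, mul_assoc,
      ← mul_pow, invOf_mul_self, one_pow, mul_one]
  let B : AdjoinRoot P →ₛₗ[σ] AdjoinRoot P →ₗ[F] F :=
    LinearMap.mk₂'ₛₗ σ (RingHom.id F) (fun a b => φ (st a * b))
      (fun a a' b => by rw [map_add st, add_mul, map_add])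
      (fun c a b => by rw [hstsmul, smul_mul_assoc, map_smul])
      (fun a b b' => by rw [mul_add, map_add])
      (fun c a b => by rw [RingHom.id_apply, mul_smul_comm, map_smul])
  have hBapp : ∀ a b, B a b = φ (st a * b) := fun a b => rfl
  have hS : B.IsSymm := ⟨fun a b => by
    rw [hBapp, hBapp, ← hφ, RingHom.map_mul, hst2, mul_comm]⟩
  have hleft : ∀ a, (∀ b, B a b = 0) → a = 0 := fun a h => by
    refine (map_eq_zero_iff st (Function.LeftInverse.injective hst2)).1 (hnd _ fun u => ?_)
    have := h ((⅟x) ^ m * u)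
    rw [hBapp] at this
    rw [← this]
    show φ2 _ = φ2 (x ^ m * _)
    rw [mul_left_comm (st a), ← mul_assoc (x ^ m), ← mul_pow, mul_invOf_self, one_pow, one_mul, mul_comm]
  haveI : Module.Finite F (AdjoinRoot P) := hP.finite_adjoinRoot
  obtain ⟨A, hA, hAc, hAg⟩ := exists_matrix hF (V := AdjoinRoot P) (n := n)
    (by rw [(AdjoinRoot.powerBasis hP.ne_zero).finrank, AdjoinRoot.powerBasis_dim, hd])
    B hS ⟨hleft, fun y h => hleft y fun a => hS.isRefl _ _ (h a)⟩ (Algebra.lmul F (AdjoinRoot P) x) (fun a b => by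
      show B (x * a) (x * b) = B a b
      rw [hBapp, hBapp, RingHom.map_mul, hstx, mul_mul_mul_comm, invOf_mul_self, one_mul])
  refine ⟨A, hA, hAc.trans ?_, fun g hg => ?_⟩
  swap
  · have h1 := LinearMap.congr_fun (hAg g hg) 1
    rw [aeval_algHom_apply, LinearMap.zero_apply] at h1
    rw [← AdjoinRoot.mk_eq_zero, ← AdjoinRoot.aeval_eq]
    exact (mul_one _).symm.trans h1
  rw [← LinearMap.charpoly_toMatrix _ (AdjoinRoot.powerBasis hP.ne_zero).basis, ← Algebra.leftMulMatrix_apply,
    show x = (AdjoinRoot.powerBasis hP.ne_zero).gen from rfl, charpoly_leftMulMatrix,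
    show (AdjoinRoot.powerBasis hP.ne_zero).gen = x from rfl,
    AdjoinRoot.minpoly_root hP.ne_zero, hP.leadingCoeff, inv_one, map_one, mul_one]

theorem nondeg (P : F[X]) (hP : P.Monic) (φ2 : AdjoinRoot P →ₗ[F] F)
    (h : ∀ Q : F[X], Q.Monic → Q ∣ P → Q.natDegree < P.natDegree →
      (∀ g : F[X], φ2 (AdjoinRoot.mk P (g * Q)) = 0) → False) :
    ∀ r, (∀ u, φ2 (u * r) = 0) → r = 0 := by
  classical
  intro r hr
  let J : Ideal F[X] :=
    { carrier := {f | ∀ u, φ2 (u * AdjoinRoot.mk P f) = 0}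
      zero_mem' := fun u => by rw [map_zero, mul_zero, map_zero]
      add_mem' := fun {a b} ha hb u => by rw [map_add, mul_add, map_add, ha u, hb u, add_zero]
      smul_mem' := fun c a ha u => by rw [smul_eq_mul, map_mul (AdjoinRoot.mk P), ← mul_assoc]; exact ha _ }
  obtain ⟨Q, hQ⟩ := (IsPrincipalIdealRing.principal J).principal
  have hPJ : P ∈ J := fun u => by rw [AdjoinRoot.mk_self, mul_zero, map_zero]
  obtain ⟨f, rfl⟩ := AdjoinRoot.mk_surjective r
  have hfJ : f ∈ J := hr
  rw [hQ, Ideal.submodule_span_eq, Ideal.mem_span_singleton] at hfJ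
  have hQP : Q ∣ P := by rwa [hQ, Ideal.submodule_span_eq, Ideal.mem_span_singleton] at hPJ
  have hQ0 : Q ≠ 0 := ne_zero_of_dvd_ne_zero hP.ne_zero hQP
  rcases (natDegree_le_of_dvd hQP hP.ne_zero).lt_or_eq with hlt | heq
  · exfalso
    refine h (normalize Q) (monic_normalize hQ0) (normalize_dvd_iff.2 hQP) (by rwa [natDegree_eq_of_degree_eq degree_normalize]) fun g => ?_
    have : g * normalize Q ∈ J := by
      rw [hQ, Ideal.submodule_span_eq, Ideal.mem_span_singleton]
      exact (dvd_normalize_iff.2 dvd_rfl).mul_left g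
    simpa using this 1
  · obtain ⟨c, hc⟩ := hfJ
    obtain ⟨d, hd⟩ := hQP
    have hd0 : d.natDegree = 0 := by
      have := natDegree_mul hQ0 (right_ne_zero_of_mul (hd ▸ hP.ne_zero))
      rw [← hd] at this
      omega
    obtain ⟨e, he⟩ := natDegree_eq_zero.1 hd0
    have he0 : e ≠ 0 := fun hz => right_ne_zero_of_mul (hd ▸ hP.ne_zero) (by rw [← he, hz, map_zero])
    rw [AdjoinRoot.mk_eq_zero, hc, hd, ← he]
    exact Dvd.dvd.mul_right ((associated_mul_unit_left Q _ (isUnit_C.2 he0.isUnit)).dvd) c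

/-- The functional reading off coefficients. -/
noncomputable def func (P : F[X]) (hP : P.Monic) (c : F) (k : ℕ) (d : F) : AdjoinRoot P →ₗ[F] F :=
  c • (lcoeff F k).comp (AdjoinRoot.modByMonicHom hP) + d • (lcoeff F 0).comp (AdjoinRoot.modByMonicHom hP)

theorem func_mk (P : F[X]) (hP : P.Monic) (c : F) (k : ℕ) (d : F) (f : F[X]) :
    func P hP c k d (AdjoinRoot.mk P f) = c * (f %ₘ P).coeff k + d * (f %ₘ P).coeff 0 := by
  simp [func, AdjoinRoot.modByMonicHom_mk]

theorem func_small (P : F[X]) (hP : P.Monic) (c : F) (k : ℕ) (d : F) (f : F[X]) (hf : f.natDegree < P.natDegree) :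
    func P hP c k d (AdjoinRoot.mk P f) = c * f.coeff k + d * f.coeff 0 := by
  rw [func_mk, (modByMonic_eq_self_iff hP).2]
  rcases eq_or_ne f 0 with rfl | hf0
  · rw [degree_zero, degree_eq_natDegree hP.ne_zero]; exact WithBot.bot_lt_coe _
  · rw [degree_eq_natDegree hf0, degree_eq_natDegree hP.ne_zero]; exact_mod_cast hf

theorem func_root_pow (P : F[X]) (hP : P.Monic) (c : F) (k : ℕ) (d : F) {j : ℕ} (hj : j < P.natDegree) :
    func P hP c k d (AdjoinRoot.root P ^ j) = (if k = j then c else 0) + (if j = 0 then d else 0) := by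
  rw [← AdjoinRoot.mk_X, ← map_pow, func_small P hP c k d _ (by rwa [natDegree_X_pow]), coeff_X_pow, coeff_X_pow]
  simp [eq_comm]

theorem exists_unitary_even (hF : Fintype.card F = q ^ 2) {m : ℕ} (P : F[X]) (hP : P.Monic)
    (hd : P.natDegree = 2 * m) (hSR : SR (frob hF) P) :
    ∃ A : Matrix (Fin (2 * m)) (Fin (2 * m)) F, Aᵀ * A.map (frob hF) = 1 ∧ A.charpoly = P := by
  classical
  rcases Nat.eq_zero_or_pos m with rfl | hm
  · haveI : IsEmpty (Fin (2 * 0)) := inferInstanceAs (IsEmpty (Fin 0))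
    exact ⟨1, Subsingleton.elim _ _, by rw [hP.natDegree_eq_zero.1 hd, Matrix.charpoly, Matrix.det_isEmpty]⟩
  have h0 := hSR.coeff_zero hP
  have hnorm : frob hF (P.coeff 0) * P.coeff 0 = 1 := by
    have := congrArg (fun f : F[X] => f.coeff 0) hSR
    simpa [hP.leadingCoeff] using this
  obtain ⟨c, hc0, hc⟩ : ∃ c : F, c ≠ 0 ∧ frob hF c = -P.coeff 0 * c := by
    by_cases h : P.coeff 0 = 1
    · obtain ⟨y, hy0, hy⟩ := exists_trace_zero (frob_ne_id hF) (frob_frob hF)
      exact ⟨y, hy0, by rw [h]; linear_combination hy⟩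
    · refine ⟨1 - frob hF (P.coeff 0), fun h' => h ?_, ?_⟩
      · rw [← frob_frob hF (P.coeff 0), ← sub_eq_zero.1 h', map_one]
      · rw [map_sub, map_one, frob_frob]
        linear_combination -hnorm
  refine Exists.imp (fun A h => ⟨h.1, h.2.1⟩) (exists_unitary_cyclic hF P hP hd h0 hSR (func P hP 0 0 c) m ?_ ?_)
  · intro k hk r hr
    rcases Nat.eq_zero_or_pos k with rfl | hk0
    · rw [pow_zero, mul_one] at hr
      rw [hr, func_root_pow P hP 0 0 c (j := 0) (by omega), if_pos rfl, if_pos rfl]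
      rw [← AdjoinRoot.mk_X, ← map_pow, func_mk]
      have hmod : (X ^ (2 * m) : F[X]) %ₘ P = X ^ (2 * m) - P := by
        refine (div_modByMonic_unique 1 _ hP ⟨by ring, ?_⟩).2
        refine (degree_sub_lt ?_ (by simp) ?_).trans_le ?_
        · rw [degree_X_pow, degree_eq_natDegree hP.ne_zero, hd]
        · rw [leadingCoeff_X_pow, hP.leadingCoeff]
        · rw [degree_X_pow, degree_eq_natDegree hP.ne_zero, hd]
      rw [hmod, coeff_sub, coeff_X_pow, if_neg (by omega), zero_mul, zero_add, zero_add, hc]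
      ring
    · have hr' : r = AdjoinRoot.root P ^ (2 * m - k) := by
        have hxu : IsUnit (AdjoinRoot.root P ^ k) := (isUnit_root P h0).pow _
        refine hxu.mul_right_cancel ?_
        rw [hr, ← pow_add]
        congr 1
        omega
      rw [hr', func_root_pow P hP _ _ _ (by omega), func_root_pow P hP _ _ _ (by omega)]
      simp [show k ≠ 0 by omega, show ¬ (2 * m - k = 0) by omega, show ¬ (0 = k) by omega]
  · refine nondeg P hP _ fun Q hQ hQP hlt hall => ?_
    have := hall 1
    rw [one_mul, func_small P hP _ _ _ Q hlt, zero_mul, zero_add] at this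
    refine (mul_ne_zero hc0 fun hz => h0 ?_) this
    obtain ⟨R, hR⟩ := hQP
    rw [hR, mul_coeff_zero, hz, zero_mul]

theorem exists_unitary_odd (hF : Fintype.card F = q ^ 2) {m : ℕ} (P : F[X]) (hP : P.Monic)
    (hd : P.natDegree = 2 * m + 1) (hSR : SR (frob hF) P)
    (hroot : ∀ lam : F, frob hF lam * lam = 1 → ¬ P.IsRoot lam) :
    ∃ A : Matrix (Fin (2 * m + 1)) (Fin (2 * m + 1)) F, Aᵀ * A.map (frob hF) = 1 ∧ A.charpoly = P := by
  classical
  have h0 := hSR.coeff_zero hP
  obtain ⟨c, hc0, hc2⟩ : ∃ c : F, c ≠ 0 ∧ c + frob hF c ≠ 0 := by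
    by_contra hcon
    push Not at hcon
    have h1 := hcon 1 one_ne_zero
    rw [map_one] at h1
    refine frob_ne_id hF (RingHom.ext fun y => ?_)
    rcases eq_or_ne y 0 with rfl | hy
    · rw [map_zero, RingHom.id_apply]
    · rw [RingHom.id_apply]
      linear_combination hcon y hy - y * h1
  refine Exists.imp (fun A h => ⟨h.1, h.2.1⟩) (exists_unitary_cyclic hF P hP hd h0 hSR (func P hP c (2 * m) (frob hF c)) m ?_ ?_)
  · intro k hk r hr
    have hr' : r = AdjoinRoot.root P ^ (2 * m - k) := by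
      have hxu : IsUnit (AdjoinRoot.root P ^ k) := (isUnit_root P h0).pow _
      refine hxu.mul_right_cancel ?_
      rw [hr, ← pow_add]
      congr 1
      omega
    rw [hr', func_root_pow P hP _ _ _ (by omega), func_root_pow P hP _ _ _ (by omega), map_add, apply_ite (frob hF),
      apply_ite (frob hF), frob_frob, map_zero]
    split_ifs <;> first | omega | ring
  · refine nondeg P hP _ fun Q hQ hQP hlt hall => ?_
    obtain ⟨R, hR⟩ := hQP
    have hQ0 : Q.coeff 0 ≠ 0 := fun hz => h0 (by rw [hR, mul_coeff_zero, hz, zero_mul])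
    rcases Nat.lt_or_ge Q.natDegree (2 * m) with hlow | hhigh
    · have := hall (X ^ (2 * m - Q.natDegree))
      rw [func_small P hP _ _ _ _ (by rw [natDegree_mul (pow_ne_zero _ X_ne_zero) hQ.ne_zero, natDegree_X_pow]; omega),
        mul_comm (X ^ _) Q, coeff_mul_X_pow', coeff_mul_X_pow', if_pos (by omega), if_neg (by omega),
        Nat.sub_sub_self hlow.le, ← leadingCoeff, hQ.leadingCoeff, mul_one, mul_zero, add_zero] at this
      exact hc0 this
    · have hQd : Q.natDegree = 2 * m := by omega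
      have := hall 1
      rw [one_mul, func_small P hP _ _ _ Q hlt, ← hQd, ← leadingCoeff, hQ.leadingCoeff, mul_one] at this
      have hRm : R.Monic := hQ.of_mul_monic_left (hR ▸ hP)
      have hRd : R.natDegree = 1 := by
        have := natDegree_mul hQ.ne_zero hRm.ne_zero
        rw [← hR] at this
        omega
      have hlin := hRm.eq_X_add_C hRd
      have hnorm : frob hF (P.coeff 0) * P.coeff 0 = 1 := by
        have := congrArg (fun f : F[X] => f.coeff 0) hSR
        simpa [hP.leadingCoeff] using this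
      rw [hR, mul_coeff_zero, map_mul] at hnorm
      have hc' : frob hF c + c * frob hF (Q.coeff 0) = 0 := by
        have := congrArg (frob hF) this
        rwa [map_add, map_mul, frob_frob, map_zero] at this
      have hQn : frob hF (Q.coeff 0) * Q.coeff 0 = 1 := by
        have h3 : c * (frob hF (Q.coeff 0) * Q.coeff 0 - 1) = 0 := by
          linear_combination Q.coeff 0 * hc' - this
        exact sub_eq_zero.1 ((mul_eq_zero.1 h3).resolve_left hc0)
      refine hroot (-R.coeff 0) ?_ ?_
      · rw [map_neg, neg_mul_neg]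
        linear_combination hnorm - frob hF (R.coeff 0) * R.coeff 0 * hQn
      · rw [hR, IsRoot.def, eval_mul, hlin]
        simp

theorem exists_unitary (hF : Fintype.card F = q ^ 2) {n : ℕ} (P : F[X]) (hP : P.Monic)
    (hd : P.natDegree = n) (hSR : SR (frob hF) P) :
    ∃ A : Matrix (Fin n) (Fin n) F, Aᵀ * A.map (frob hF) = 1 ∧ A.charpoly = P := by
  classical
  obtain ⟨m, rfl | rfl⟩ := n.even_or_odd'
  · exact exists_unitary_even hF P hP hd hSR
  by_cases hroot : ∀ lam : F, frob hF lam * lam = 1 → ¬ P.IsRoot lam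
  · exact exists_unitary_odd hF P hP hd hSR hroot
  push Not at hroot
  obtain ⟨lam, hl, hPl⟩ := hroot
  obtain ⟨Q, hQ⟩ := dvd_iff_isRoot.2 hPl
  have hQm : Q.Monic := (monic_X_sub_C lam).of_mul_monic_left (hQ ▸ hP)
  have hQd : Q.natDegree = 2 * m := by
    have := natDegree_mul (X_sub_C_ne_zero lam) hQm.ne_zero
    rw [← hQ, natDegree_X_sub_C] at this
    omega
  obtain ⟨A, hA, hAc⟩ := exists_unitary_even hF Q hQm hQd (hSR.div hl hQ)
  let e : Fin 1 ⊕ Fin (2 * m) ≃ Fin (2 * m + 1) := finSumFinEquiv.trans (finCongr (add_comm _ _))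
  let D : Matrix (Fin 1 ⊕ Fin (2 * m)) (Fin 1 ⊕ Fin (2 * m)) F := Matrix.fromBlocks (Matrix.diagonal fun _ => lam) 0 0 A
  have hD : Dᵀ * D.map (frob hF) = 1 := by
    simp only [D, Matrix.fromBlocks_transpose, Matrix.fromBlocks_map, Matrix.fromBlocks_multiply,
      Matrix.transpose_zero, Matrix.map_zero _ (map_zero (frob hF)), Matrix.zero_mul, Matrix.mul_zero, add_zero,
      zero_add, hA]
    rw [← Matrix.fromBlocks_one]
    congr 1
    rw [Matrix.diagonal_transpose, Matrix.diagonal_map (map_zero _), Matrix.diagonal_mul_diagonal]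
    simp [mul_comm lam, hl]
  refine ⟨Matrix.reindex e e D, ?_, ?_⟩
  · rw [Matrix.reindex_apply, Matrix.transpose_submatrix, ← Matrix.submatrix_map, Matrix.submatrix_mul_equiv, hD,
      Matrix.submatrix_one_equiv]
  · rw [Matrix.charpoly_reindex, Matrix.charpoly_fromBlocks_zero₁₂, Matrix.charpoly_diagonal, hAc, hQ]
    simp

theorem transpose_mul_map (hF : Fintype.card F = q ^ 2) {n : ℕ} (g : Cfsg.GU n F q) :
    ((g : GL (Fin n) F) : Matrix (Fin n) (Fin n) F)ᵀ *
      ((g : GL (Fin n) F) : Matrix (Fin n) (Fin n) F).map (frob hF) = 1 := by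
  set A := ((g : GL (Fin n) F) : Matrix (Fin n) (Fin n) F)
  ext i j
  have h := g.2 (Pi.single i 1) (Pi.single j 1)
  simp only [Units.coeHom_apply, Cfsg.hermForm, Matrix.mulVec_single_one, Matrix.col_apply] at h
  rw [Matrix.mul_apply]
  simp only [Matrix.transpose_apply, Matrix.map_apply, frob_apply]
  rw [show ∑ x, A x i * A x j ^ q = _ from h]
  rw [Finset.sum_eq_single i (fun l _ hl => by simp [hl]) (by simp)]
  rcases eq_or_ne i j with rfl | hij
  · simp
  · simp [hij, Matrix.one_apply_ne hij, zero_pow (show q ≠ 0 by have := two_le_q hF; omega)]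

theorem mem_GU_of_eq (hF : Fintype.card F = q ^ 2) {n : ℕ} (A : GL (Fin n) F)
    (h : (A : Matrix (Fin n) (Fin n) F)ᵀ * (A : Matrix (Fin n) (Fin n) F).map (frob hF) = 1) :
    A ∈ Cfsg.GU n F q := by
  intro u v
  show Cfsg.hermForm n F q ((A : Matrix (Fin n) (Fin n) F) *ᵥ u) ((A : Matrix (Fin n) (Fin n) F) *ᵥ v) = _
  have hf : ∀ a b : Fin n → F, Cfsg.hermForm n F q a b = a ⬝ᵥ fun i => frob hF (b i) := fun a b => by
    simp [Cfsg.hermForm, dotProduct, frob_apply]
  rw [hf, hf]
  rw [show (fun i => frob hF (((A : Matrix (Fin n) (Fin n) F) *ᵥ v) i)) =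
      (A : Matrix (Fin n) (Fin n) F).map (frob hF) *ᵥ fun i => frob hF (v i) from
    funext fun i => RingHom.map_mulVec (frob hF) _ v i]
  rw [Matrix.dotProduct_mulVec, Matrix.vecMul_mulVec, h, Matrix.vecMul_one]

theorem sr_charpoly (hF : Fintype.card F = q ^ 2) {n : ℕ} (g : Cfsg.SU n F q) :
    SR (frob hF) ((g : Matrix.SpecialLinearGroup (Fin n) F) : Matrix (Fin n) (Fin n) F).charpoly ∧
      ((g : Matrix.SpecialLinearGroup (Fin n) F) : Matrix (Fin n) (Fin n) F).charpoly.coeff 0 = (-1) ^ n := by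
  classical
  set A := ((g : Matrix.SpecialLinearGroup (Fin n) F) : Matrix (Fin n) (Fin n) F) with hA
  have hdet : A.det = 1 := (g : Matrix.SpecialLinearGroup (Fin n) F).2
  have h0 : A.charpoly.coeff 0 = (-1) ^ n := by
    have := A.det_eq_sign_charpoly_coeff
    rw [hdet, Fintype.card_fin] at this
    calc A.charpoly.coeff 0 = (-1) ^ n * ((-1) ^ n * A.charpoly.coeff 0) := by
          rw [← mul_assoc, ← mul_pow, neg_one_mul, neg_neg, one_pow, one_mul]
      _ = _ := by rw [← this, mul_one]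
  refine ⟨?_, h0⟩
  have hu : Aᵀ * A.map (frob hF) = 1 :=
    transpose_mul_map hF ⟨Matrix.SpecialLinearGroup.toGL g.1, g.2⟩
  have hcp : A.charpoly.map (frob hF) = (-1) ^ n * A.charpoly.reverse := by
    rw [← Matrix.charpoly_map, ← Matrix.inv_eq_right_inv hu, ← Matrix.transpose_nonsing_inv, Matrix.charpoly_transpose,
      Matrix.charpoly_inv A ((Matrix.isUnit_iff_isUnit_det A).2 (by rw [hdet]; exact isUnit_one)), hdet,
      Ring.inverse_one, map_one, mul_one, Fintype.card_fin, Matrix.reverse_charpoly]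
  rw [SR, hcp, h0, map_pow, map_neg, map_one, mul_comm, ← mul_assoc, ← mul_pow, neg_one_mul, neg_neg, one_pow,
    one_mul]

/-- A counting lemma for fixed points of a semilinear involution. -/
theorem card_fixed_sq (hF : Fintype.card F = q ^ 2) {ι : Type*} [Fintype ι] (r : ι → ι) (hr : ∀ i, r (r i) = i)
    (e : F) (he : frob hF e * e = 1) :
    Nat.card {v : ι → F // ∀ i, v i = e * frob hF (v (r i))} ^ 2 = Fintype.card F ^ Fintype.card ι := by
  classical
  obtain ⟨w, hw⟩ : ∃ w : F, frob hF w ≠ w := by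
    by_contra hc
    push Not at hc
    exact frob_ne_id hF (RingHom.ext hc)
  have hw' : w - frob hF w ≠ 0 := sub_ne_zero.2 (Ne.symm hw)
  set T := {v : ι → F // ∀ i, v i = e * frob hF (v (r i))}
  have hb : Function.Bijective fun p : T × T => fun i => p.1.1 i + w * p.2.1 i := by
    constructor
    · intro a b h
      have h1 : ∀ i, a.2.1 i = b.2.1 i := fun i => by
        have e1 := congrFun h i
        have e2 := congrArg (fun x => e * frob hF x) (congrFun h (r i))
        simp only [map_add, map_mul] at e2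
        have : (w - frob hF w) * (a.2.1 i - b.2.1 i) = 0 := by
          linear_combination e1 - e2 + (-1 : F) * a.1.2 i + b.1.2 i - frob hF w * a.2.2 i + frob hF w * b.2.2 i
        exact sub_eq_zero.1 ((mul_eq_zero.1 this).resolve_left hw')
      refine Prod.ext (Subtype.ext (funext fun i => ?_)) (Subtype.ext (funext h1))
      have := congrFun h i
      simp only [h1 i] at this
      exact add_right_cancel this
    · intro v
      let b : ι → F := fun i => (v i - e * frob hF (v (r i))) / (w - frob hF w)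
      have hinv : ∀ i, e * frob hF (e * frob hF (v (r (r i)))) = v i := fun i => by
        rw [hr, map_mul, frob_frob, ← mul_assoc, mul_comm e, he, one_mul]
      have hb : ∀ i, b i = e * frob hF (b (r i)) := fun i => by
        simp only [b, map_div₀, map_sub, frob_frob]
        rw [mul_div_assoc', div_eq_div_iff hw' (sub_ne_zero.2 hw), mul_sub]
        linear_combination (w - frob hF w) * hinv i
      refine ⟨(⟨fun i => v i - w * b i, fun i => ?_⟩, ⟨b, hb⟩), funext fun i => by simp⟩
      simp only [map_sub, map_mul, mul_sub]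
      have hdb : (w - frob hF w) * b i = v i - e * frob hF (v (r i)) := mul_div_cancel₀ _ hw'
      linear_combination -hdb - frob hF w * hb i
  rw [sq, ← Nat.card_prod, Nat.card_eq_of_bijective _ hb, Nat.card_fun, Nat.card_eq_fintype_card,
    Nat.card_eq_fintype_card]

theorem card_polys (hF : Fintype.card F = q ^ 2) {n : ℕ} (hn : 1 ≤ n) :
    Nat.card {P : F[X] // P.Monic ∧ P.natDegree = n ∧ SR (frob hF) P ∧ P.coeff 0 = (-1) ^ n} = q ^ (n - 1) := by
  classical
  set e : F := (-1) ^ n with he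
  have he1 : frob hF e = e := by rw [he, map_pow, map_neg, map_one]
  have hee : e * e = 1 := by rw [he, ← mul_pow, neg_one_mul, neg_neg, one_pow]
  set T := {v : Fin (n - 1) → F // ∀ i, v i = e * frob hF (v (Fin.rev i))}
  have hT : Nat.card T = q ^ (n - 1) := by
    have h := card_fixed_sq hF (Fin.rev (n := n - 1)) Fin.rev_rev e (by rw [he1, hee])
    rw [hF, Fintype.card_fin, ← pow_mul, mul_comm, pow_mul] at h
    exact Nat.pow_left_injective two_ne_zero h
  rw [← hT]
  have hrel : ∀ P : F[X], P.natDegree = n → P.coeff 0 = e →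
      (SR (frob hF) P ↔ ∀ i ≤ n, frob hF (P.coeff i) * e = P.coeff (n - i)) := by
    intro P hd h0
    rw [SR, h0, Polynomial.ext_iff]
    constructor
    · intro h i hi
      have := h i
      rwa [coeff_mul_C, coeff_map, coeff_reverse, hd, revAt_le hi] at this
    · intro h i
      rw [coeff_mul_C, coeff_map, coeff_reverse, hd]
      rcases le_or_gt i n with hi | hi
      · rw [revAt_le hi]; exact h i hi
      · rw [revAt_eq_self_of_lt hi, coeff_eq_zero_of_natDegree_lt (by omega), map_zero, zero_mul]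
  refine Nat.card_eq_of_bijective (fun P => ⟨fun i => P.1.coeff ((i : ℕ) + 1), fun i => ?_⟩) ⟨?_, ?_⟩
  · obtain ⟨-, hd, hs, h0⟩ := P.2
    have := (hrel _ hd h0).1 hs (((Fin.rev i : Fin (n - 1)) : ℕ) + 1) (by omega)
    rw [mul_comm] at this
    show P.1.coeff ((i : ℕ) + 1) = _
    rw [this, show n - (((Fin.rev i : Fin (n - 1)) : ℕ) + 1) = (i : ℕ) + 1 by rw [Fin.val_rev]; omega]
  · intro P R h
    obtain ⟨hPm, hPd, -, hP0⟩ := P.2
    obtain ⟨hRm, hRd, -, hR0⟩ := R.2
    refine Subtype.ext (Polynomial.ext fun i => ?_)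
    rcases Nat.eq_zero_or_pos i with rfl | hi
    · rw [hP0, hR0]
    rcases lt_trichotomy i n with hin | rfl | hin
    · have := congrFun (congrArg Subtype.val h) ⟨i - 1, by omega⟩
      simpa only [Nat.sub_add_cancel hi] using this
    · exact ((congrArg P.1.coeff hPd).symm.trans hPm.coeff_natDegree).trans
        ((congrArg R.1.coeff hRd).symm.trans hRm.coeff_natDegree).symm
    · rw [coeff_eq_zero_of_natDegree_lt (by omega), coeff_eq_zero_of_natDegree_lt (by omega)]
  · rintro ⟨v, hv⟩
    let a : ℕ → F := fun i => if i = 0 then e else if h : i - 1 < n - 1 then v ⟨i - 1, h⟩ else 0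
    set f : F[X] := ∑ i ∈ Finset.range n, C (a i) * X ^ i with hf
    have hfc : ∀ i, f.coeff i = if i < n then a i else 0 := fun i => by
      simp [hf, coeff_X_pow]
    have hfd : f.degree < (n : WithBot ℕ) := by
      rw [degree_lt_iff_coeff_zero]
      intro i hi
      rw [hfc, if_neg (by omega)]
    have hm : (X ^ n + f).Monic := monic_X_pow_add hfd
    have hd : (X ^ n + f).natDegree = n :=
      natDegree_eq_of_degree_eq_some (by rw [degree_add_eq_left_of_degree_lt (by rwa [degree_X_pow]), degree_X_pow])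
    have hc : ∀ i, (X ^ n + f).coeff i = if i = n then 1 else if i < n then a i else 0 := fun i => by
      rw [coeff_add, hfc, coeff_X_pow]
      split_ifs <;> first | omega | simp
    have h0 : (X ^ n + f).coeff 0 = e := by rw [hc, if_neg (by omega), if_pos (by omega)]; simp [a]
    refine ⟨⟨X ^ n + f, hm, hd, (hrel _ hd h0).2 fun i hi => ?_, h0⟩, Subtype.ext (funext fun i => ?_)⟩
    · rcases Nat.eq_zero_or_pos i with rfl | hi0
      · rw [h0, Nat.sub_zero, hc n, if_pos rfl, he1, hee]
      rcases hi.lt_or_eq with hin | rfl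
      · rw [hc, hc, if_neg (by omega), if_pos hin, if_neg (by omega), if_pos (by omega)]
        simp only [a, if_neg (show ¬ i = 0 by omega), if_neg (show ¬ n - i = 0 by omega),
          dif_pos (show i - 1 < n - 1 by omega), dif_pos (show n - i - 1 < n - 1 by omega)]
        rw [hv ⟨n - i - 1, _⟩, mul_comm]
        congr 3
        refine Fin.ext ?_
        simp [Fin.val_rev]
        omega
      · rw [Nat.sub_self, h0, hc i, if_pos rfl, map_one, one_mul]
    · show (X ^ n + f).coeff ((i : ℕ) + 1) = v i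
      rw [hc, if_neg (by omega), if_pos (by omega)]
      simp [a]

theorem main (hF : Fintype.card F = q ^ 2) (p : ℕ) [Fact p.Prime] [CharP F p] (n : ℕ) (hn : 1 ≤ n) :
    Nat.card {c : ConjClasses ↥(Cfsg.SU n F q) //
      ∃ g : ↥(Cfsg.SU n F q), ConjClasses.mk g = c ∧ (orderOf g).Coprime p} = q ^ (n - 1) := by
  classical
  rw [← card_polys hF hn]
  let M : ↥(Cfsg.SU n F q) →* Matrix (Fin n) (Fin n) F := (Cfsg.slToMat n F).comp (Cfsg.SU n F q).subtype
  have hM : ∀ g : ↥(Cfsg.SU n F q),
      M g = ((g : Matrix.SpecialLinearGroup (Fin n) F) : Matrix (Fin n) (Fin n) F) := fun g => rfl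
  refine Nat.card_eq_of_bijective (fun c => ⟨(M c.2.choose).charpoly, Matrix.charpoly_monic _,
    by rw [Matrix.charpoly_natDegree_eq_dim, Fintype.card_fin],
    (sr_charpoly hF c.2.choose).1, (sr_charpoly hF c.2.choose).2⟩) ⟨?_, ?_⟩
  · intro c d h
    obtain ⟨hc1, hc2⟩ := c.2.choose_spec
    obtain ⟨hd1, hd2⟩ := d.2.choose_spec
    apply Subtype.ext
    rw [← hc1, ← hd1, ConjClasses.mk_eq_mk_iff_isConj]
    exact Cfsg.Agent.S2390.result hF p n _ _ hc2 hd2 (congrArg Subtype.val h)
  · rintro ⟨P, hP, hd, hSR, h0⟩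
    obtain ⟨A, hA, hAc⟩ := exists_unitary hF P hP hd hSR
    have hdet : A.det = 1 := by
      rw [Matrix.det_eq_sign_charpoly_coeff, hAc, h0, Fintype.card_fin, ← mul_pow, neg_one_mul, neg_neg, one_pow]
    let g : ↥(Cfsg.SU n F q) := ⟨⟨A, hdet⟩, mem_GU_of_eq hF (Matrix.SpecialLinearGroup.toGL ⟨A, hdet⟩) hA⟩
    obtain ⟨f, hp, hf⟩ := FiniteField.card F p
    obtain ⟨a, k, hk, ho⟩ := Nat.exists_eq_pow_mul_and_not_dvd (orderOf_pos g).ne' p (Fact.out : p.Prime).ne_one
    set s := g ^ (Fintype.card F ^ a) with hs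
    have hsc : (orderOf s).Coprime p := by
      have hdvd : orderOf s ∣ k := by
        apply orderOf_dvd_of_pow_eq_one
        rw [hs, ← pow_mul, ← orderOf_dvd_iff_pow_eq_one, ho, hf, ← pow_mul]
        refine mul_dvd_mul_right (pow_dvd_pow p ?_) k
        exact Nat.le_mul_of_pos_left a f.pos
      exact (((Fact.out : p.Prime).coprime_iff_not_dvd.2 hk).symm).coprime_dvd_left hdvd
    have hsP : (M s).charpoly = P := by
      rw [hs, map_pow, ← hAc, hM, show ((g : Matrix.SpecialLinearGroup (Fin n) F) : Matrix (Fin n) (Fin n) F) = A from rfl]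
      haveI : Nonempty (Fin n) := ⟨⟨0, hn⟩⟩
      clear ho hs hsc hA hAc hdet g s
      induction a generalizing A with
      | zero => simp
      | succ a ih => rw [pow_succ, pow_mul, FiniteField.Matrix.charpoly_pow_card, ih]
    refine ⟨⟨ConjClasses.mk s, s, rfl, hsc⟩, Subtype.ext ?_⟩
    set c : {c : ConjClasses ↥(Cfsg.SU n F q) //
        ∃ g : ↥(Cfsg.SU n F q), ConjClasses.mk g = c ∧ (orderOf g).Coprime p} := ⟨ConjClasses.mk s, s, rfl, hsc⟩
    show (M c.2.choose).charpoly = P
    rw [← hsP]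
    exact Cfsg.Agent.Lib.Linear.SemisimpleClasses.charpoly_eq_of_isConj
      (M.map_isConj (ConjClasses.mk_eq_mk_iff_isConj.1 c.2.choose_spec.1))

/-- In the special unitary group `SU_n(q)` (matrices of determinant one over the field with `q²` elements preserving the standard Hermitian form), `q` a power of the prime `p`, the number of conjugacy classes of elements of order prime to `p` is `q^(n-1)`. -/
theorem result {F : Type*} [Field F] [Fintype F] {q : ℕ} (hF : Fintype.card F = q ^ 2) (p : ℕ) [Fact p.Prime] [CharP F p] (n : ℕ) (hn : 1 ≤ n) :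
    Nat.card {c : ConjClasses ↥(Cfsg.SU n F q) // ∃ g : ↥(Cfsg.SU n F q), ConjClasses.mk g = c ∧ (orderOf g).Coprime p} = q ^ (n - 1) := by
  exact main hF p n hn

end Cfsg.Agent.S2386
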