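import Cfsg.Statements.S2387
import Cfsg.Agent.Lib.Linear.SemisimpleClasses

set_option autoImplicit false
open scoped MatrixGroups
open Cfsg

namespace Cfsg.Agent.S2387

open Polynomial
open Cfsg.Agent.Lib.Linear

/-- In `GL_n(q)` with `n ≥ 1`, `q` a power of the prime `p`, the number of conjugacy classes of elements of order prime to `p` (diagonalisable over the algebraic closure; determined by the characteristic polynomial) is `(q - 1) q^(n-1)`. -/
theorem result {F : Type*} [Field F] [Fintype F] {q : ℕ} (hq : Fintype.card F = q) (p : ℕ) [Fact p.Prime] [CharP F p] (n : ℕ) (hn : 1 ≤ n) :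
    Nat.card {c : ConjClasses (GL (Fin n) F) // ∃ g : GL (Fin n) F, ConjClasses.mk g = c ∧ (orderOf g).Coprime p} = (q - 1) * q ^ (n - 1) := by
  classical
  obtain ⟨m, rfl⟩ : ∃ m, n = m + 1 := ⟨n - 1, by omega⟩
  subst hq
  let S : Set F := {x | x ≠ 0}
  have key : ∀ P : { g : F[X] // g.Monic ∧ g.natDegree = m + 1 ∧ g.coeff 0 ∈ S },
      ∃ g : GL (Fin (m + 1)) F, (g : Matrix (Fin (m + 1)) (Fin (m + 1)) F).charpoly = P.1 ∧ (orderOf g).Coprime p :=
    fun P => SemisimpleClasses.exists_GL P.1 P.2.1 P.2.2.1 P.2.2.2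
  choose g hg using key
  have hbij : Function.Bijective (fun P => (⟨ConjClasses.mk (g P), g P, rfl, (hg P).2⟩ :
      {c : ConjClasses (GL (Fin (m + 1)) F) // ∃ g, ConjClasses.mk g = c ∧ (orderOf g).Coprime p})) := by
    constructor
    · intro P Q h
      have h1 : IsConj (g P) (g Q) := ConjClasses.mk_eq_mk_iff_isConj.mp (congrArg Subtype.val h)
      have h2 := SemisimpleClasses.charpoly_eq_of_isConj ((Units.coeHom _).map_isConj h1)
      rw [Units.coeHom_apply, Units.coeHom_apply, (hg P).1, (hg Q).1] at h2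
      exact Subtype.ext h2
    · rintro ⟨c, x, rfl, hx⟩
      have h0 : (x : Matrix (Fin (m + 1)) (Fin (m + 1)) F).charpoly.coeff 0 ≠ 0 := fun h0 => by
        have := ((Matrix.isUnit_iff_isUnit_det _).mp x.isUnit).ne_zero
        rw [Matrix.det_eq_sign_charpoly_coeff, h0, mul_zero] at this
        exact this rfl
      refine ⟨⟨_, Matrix.charpoly_monic _, ?_, h0⟩, Subtype.ext ?_⟩
      · rw [Matrix.charpoly_natDegree_eq_dim, Fintype.card_fin]
      · exact ConjClasses.mk_eq_mk_iff_isConj.mpr (SemisimpleClasses.isConj_GL _ x (hg _).2 hx (hg _).1)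
  rw [← Nat.card_eq_of_bijective _ hbij, SemisimpleClasses.card_monic_coeff_zero, Nat.add_sub_cancel]
  congr 1
  rw [← Nat.card_eq_fintype_card (α := F), ← Nat.card_units]
  exact (Nat.card_congr unitsEquivNeZero).symm

end Cfsg.Agent.S2387
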