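import Cfsg.Statements.S2391


set_option autoImplicit false
open Cfsg

namespace Cfsg.Agent.S2391

open scoped Matrix Classical

variable {F : Type*} [Field F] {n : ℕ}

/-- The vectors fixed by `U` modulo `P`. -/
def next (U : Subgroup (Matrix.SpecialLinearGroup (Fin n) F)) (P : Submodule F (Fin n → F)) :
    Submodule F (Fin n → F) where
  carrier := {v | ∀ u ∈ U, (u : Matrix (Fin n) (Fin n) F) *ᵥ v - v ∈ P}
  zero_mem' := fun u _ => by simp
  add_mem' := fun {v w} hv hw u hu => by
    rw [Matrix.mulVec_add, add_sub_add_comm]; exact P.add_mem (hv u hu) (hw u hu)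
  smul_mem' := fun c v hv u hu => by
    rw [Matrix.mulVec_smul, ← smul_sub]; exact P.smul_mem c (hv u hu)

theorem exists_fixed_mod [Fintype F] (p : ℕ) [Fact p.Prime] [CharP F p]
    (U : Subgroup (Matrix.SpecialLinearGroup (Fin n) F)) (hU : IsPGroup p ↥U) (P : Submodule F (Fin n → F))
    (hP : ∀ u ∈ U, ∀ v ∈ P, (u : Matrix (Fin n) (Fin n) F) *ᵥ v ∈ P) (hne : P ≠ ⊤) :
    ∃ v, v ∉ P ∧ v ∈ next U P := by
  let Q := (Fin n → F) ⧸ P
  let act : ↥U → Q →ₗ[F] Q := fun u =>
    P.mapQ P (Matrix.mulVecLin (u.1 : Matrix (Fin n) (Fin n) F)) fun v hv => hP u.1 u.2 v hv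
  letI : MulAction ↥U Q :=
    { smul := fun u x => act u x
      one_smul := fun x => by
        induction x using Submodule.Quotient.induction_on with | _ v =>
        show act 1 (Submodule.Quotient.mk v) = _
        simp [act, Submodule.mapQ_apply]
      mul_smul := fun a b x => by
        induction x using Submodule.Quotient.induction_on with | _ v =>
        show act (a * b) (Submodule.Quotient.mk v) = act a (act b (Submodule.Quotient.mk v))
        show (Submodule.Quotient.mk (((a * b : ↥U).1 : Matrix (Fin n) (Fin n) F) *ᵥ v) : Q) =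
          Submodule.Quotient.mk ((a.1 : Matrix (Fin n) (Fin n) F) *ᵥ ((b.1 : Matrix (Fin n) (Fin n) F) *ᵥ v))
        rw [Matrix.mulVec_mulVec, Subgroup.coe_mul, Matrix.SpecialLinearGroup.coe_mul] }
  haveI : Nontrivial Q := Submodule.Quotient.nontrivial_iff.mpr hne
  have hdvd : p ∣ Nat.card Q := by
    obtain ⟨d, -, hd⟩ := FiniteField.card F p
    rw [Module.natCard_eq_pow_finrank (K := F), Nat.card_eq_fintype_card, hd, ← pow_mul]
    exact dvd_pow_self p (Nat.mul_ne_zero d.pos.ne' (Module.finrank_pos (R := F) (M := Q)).ne')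
  have h0 : (0 : Q) ∈ MulAction.fixedPoints ↥U Q := fun g => map_zero (act g)
  obtain ⟨b, hb, hb0⟩ := hU.exists_fixed_point_of_prime_dvd_card_of_fixed_point _ hdvd h0
  induction b using Submodule.Quotient.induction_on with | _ v =>
  refine ⟨v, fun h => hb0 ((Submodule.Quotient.mk_eq_zero P).mpr h).symm, fun u hu => ?_⟩
  rw [← Submodule.Quotient.eq]
  exact hb ⟨u, hu⟩

/-- The Borel–Tits property of `SL_n(q)` in flag form: for a field `F` of characteristic `p` with finitely many elements and a non-trivial `p`-subgroup `U` of `SL_n(F)`, there is a flag `0 = V₀ < V₁ < ⋯ < V_{k+1} = F^n` with at least one proper non-zero member such that every element of the normaliser of `U` maps each `V_i` onto itself and every element of `U` acts trivially on each quotient `V_{i+1}/V_i` (so the normaliser lies in the parabolic subgroup of the flag and `U` in its unipotent radical). -/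
theorem result {F : Type*} [Field F] [Fintype F] (p : ℕ) [Fact p.Prime] [CharP F p] (n : ℕ)
    (U : Subgroup (Matrix.SpecialLinearGroup (Fin n) F)) (hU : IsPGroup p ↥U) (hne : U ≠ ⊥) :
    ∃ (k : ℕ) (V : Fin (k + 2) → Submodule F (Fin n → F)), 1 ≤ k ∧ StrictMono V ∧ V 0 = ⊥ ∧ V (Fin.last (k + 1)) = ⊤ ∧
      (∀ g ∈ Subgroup.normalizer (U : Set (Matrix.SpecialLinearGroup (Fin n) F)), ∀ i, (V i).map (Matrix.mulVecLin (g : Matrix (Fin n) (Fin n) F)) = V i) ∧
      (∀ u ∈ U, ∀ i : Fin (k + 1), ∀ v ∈ V i.succ, (u : Matrix (Fin n) (Fin n) F).mulVec v - v ∈ V (Fin.castSucc i)) := by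
  classical
  let W : ℕ → Submodule F (Fin n → F) := fun i => Nat.rec ⊥ (fun _ P => next U P) i
  have hWs : ∀ i, W (i + 1) = next U (W i) := fun i => rfl
  have hinv : ∀ i, ∀ u ∈ U, ∀ v ∈ W i, (u : Matrix (Fin n) (Fin n) F).mulVec v ∈ W i := by
    intro i
    induction i with
    | zero => intro u _ v hv; rw [(Submodule.mem_bot F).mp hv, Matrix.mulVec_zero]; exact zero_mem _
    | succ i ih =>
      intro u hu v hv u' hu'
      have h1 := hv (u' * u) (mul_mem hu' hu)
      have h2 := hv u hu
      rw [Matrix.SpecialLinearGroup.coe_mul, ← Matrix.mulVec_mulVec] at h1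
      simpa using sub_mem h1 h2
  have hmono : ∀ i, W i ≤ W (i + 1) := fun i v hv u hu => sub_mem (hinv i u hu v hv) hv
  have hlt : ∀ i, W i ≠ ⊤ → W i < W (i + 1) := by
    intro i hi
    refine lt_of_le_of_ne (hmono i) fun he => ?_
    obtain ⟨v, hv, hv'⟩ := exists_fixed_mod p U hU (W i) (hinv i) hi
    exact hv (he ▸ hv')
  have htop : ∃ N, W N = ⊤ := by
    by_contra! h
    have hs : StrictMono W := strictMono_nat_of_lt_succ fun i => hlt i (h i)
    exact not_injective_infinite_finite W hs.injective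
  obtain ⟨M, hM, hmin⟩ := wellFounded_lt.has_min {N : ℕ | W N = ⊤} htop
  have hmin' : ∀ m < M, W m ≠ ⊤ := fun m hm h => hmin m h hm
  have hn : 2 ≤ M := by
    by_contra! hM2
    change W M = ⊤ at hM
    revert hM
    interval_cases M
    · intro h0
      change (⊥ : Submodule F (Fin n → F)) = ⊤ at h0
      refine hne (Subgroup.eq_bot_iff_forall U |>.mpr fun u _ => ?_)
      have hz : ∀ v : Fin n → F, v = 0 := fun v => (Submodule.mem_bot F).mp (h0 ▸ Submodule.mem_top (x := v))
      exact Subtype.ext (Matrix.ext_of_mulVec_single fun i => (hz _).trans (hz _).symm)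
    · intro h1
      refine hne (Subgroup.eq_bot_iff_forall U |>.mpr fun u hu => ?_)
      refine Subtype.ext (Matrix.ext_of_mulVec_single fun i => ?_)
      have h2 : Pi.single i 1 ∈ W 1 := h1 ▸ Submodule.mem_top
      have h3 := (Submodule.mem_bot F).mp (h2 u hu)
      rw [sub_eq_zero] at h3
      rw [h3, Matrix.SpecialLinearGroup.coe_one, Matrix.one_mulVec]
  obtain ⟨k, hk⟩ : ∃ k, M = k + 1 := ⟨M - 1, by omega⟩
  refine ⟨k, fun i => W i.val, by omega, Fin.strictMono_iff_lt_succ.mpr fun i => hlt _ (hmin' i.castSucc.val (by have := i.isLt; simp; omega)),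
    rfl, ?_, ?_, ?_⟩
  · show W (k + 1) = ⊤
    rw [← hk]
    exact hM
  · intro g hg i
    have hle : ∀ g ∈ Subgroup.normalizer (U : Set (Matrix.SpecialLinearGroup (Fin n) F)), ∀ j, ∀ v ∈ W j,
        (g : Matrix (Fin n) (Fin n) F).mulVec v ∈ W j := by
      intro g hg j
      induction j with
      | zero => intro v hv; rw [(Submodule.mem_bot F).mp hv, Matrix.mulVec_zero]; exact zero_mem _
      | succ j ih =>
        intro v hv u hu
        have hmem : g⁻¹ * u * g ∈ U := by
          have := (Subgroup.mem_normalizer_iff.mp hg (g⁻¹ * u * g)).mpr (by simpa [mul_assoc] using hu)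
          exact this
        have h1 := ih _ (hv _ hmem)
        rw [Matrix.mulVec_sub, Matrix.mulVec_mulVec, ← Matrix.SpecialLinearGroup.coe_mul, ← mul_assoc, mul_inv_cancel_left,
          Matrix.SpecialLinearGroup.coe_mul, ← Matrix.mulVec_mulVec] at h1
        exact h1
    refine le_antisymm (Submodule.map_le_iff_le_comap.mpr fun v hv => hle g hg _ v hv) fun v hv => ?_
    refine Submodule.mem_map.mpr ⟨((g⁻¹ : Matrix.SpecialLinearGroup (Fin n) F) : Matrix (Fin n) (Fin n) F).mulVec v,
      hle _ (inv_mem hg) _ v hv, ?_⟩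
    rw [Matrix.mulVecLin_apply, Matrix.mulVec_mulVec, ← Matrix.SpecialLinearGroup.coe_mul, mul_inv_cancel,
      Matrix.SpecialLinearGroup.coe_one, Matrix.one_mulVec]
  · intro u hu i v hv
    exact hv u hu

end Cfsg.Agent.S2391
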