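import Cfsg.Statements.S2393
import Cfsg.Agent.Lib.Linear.CrossCharSymp

set_option autoImplicit false
open scoped MatrixGroups
open Cfsg

namespace Cfsg.Agent.S2393

/-- A lower bound for representations in cross characteristic: for `n ≥ 2` and a field `F` with `q` elements, `q` odd, every homomorphism from the symplectic group `Sp_{2n}(F)` to `GL_d(K)`, `K` a field of characteristic different from that of `F`, whose kernel is central has `d ≥ q^(n-1)(q-1)/2`. -/
theorem result {F : Type*} [Field F] [Fintype F] {q : ℕ} (hq : Fintype.card F = q) (hodd : Odd q) (n : ℕ) (hn : 2 ≤ n)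
    {K : Type*} [Field K] (hK : ringChar K ≠ ringChar F) {d : ℕ}
    (ρ : ↥(Matrix.symplecticGroup (Fin n) F) →* GL (Fin d) K) (hker : ρ.ker ≤ Subgroup.center ↥(Matrix.symplecticGroup (Fin n) F)) :
    q ^ (n - 1) * (q - 1) / 2 ≤ d := by
  obtain ⟨p, hc⟩ := CharP.exists F
  have : Fact p.Prime := ⟨CharP.char_is_prime F p⟩
  let K' := AlgebraicClosure K
  have hp : (p : K') ≠ 0 := fun h => by
    have h1 : (p : K) = 0 := (algebraMap K K').injective (by rw [map_natCast, map_zero, h])
    have h2 := ringChar.dvd h1
    rw [Nat.dvd_prime (Fact.out : p.Prime)] at h2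
    rcases h2 with h2 | h2
    · exact CharP.ringChar_ne_one h2
    · exact hK (h2.trans (ringChar.eq F p).symm)
  have hp2 : p ≠ 2 := by
    rintro rfl
    obtain ⟨k, -, hk⟩ := FiniteField.card F 2
    rw [← hq, hk] at hodd
    exact Nat.not_even_iff_odd.mpr hodd (Nat.even_pow.mpr ⟨even_two, k.ne_zero⟩)
  have hinj : Function.Injective (Matrix.GeneralLinearGroup.map (n := Fin d) (algebraMap K K')) := fun a b h =>
    Units.ext (Matrix.map_injective (algebraMap K K').injective (congrArg Units.val h))
  have h := Cfsg.Lib.Linear.CrossCharSymp.degree_bound p hp2 (show 1 ≤ n by omega) hp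
    ((Matrix.GeneralLinearGroup.map (algebraMap K K')).comp ρ) (fun g hg => hker (by
      rw [MonoidHom.mem_ker] at hg ⊢
      exact hinj (hg.trans (map_one _).symm)))
  rw [hq] at h
  exact h

end Cfsg.Agent.S2393
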