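import Cfsg.Statements.S2402
import Cfsg.Agent.Lib.Linear.CyclicGen

set_option autoImplicit false
open Cfsg Cfsg.Lib.Linear.CyclicGen Matrix

namespace Cfsg.Agent.S2402

theorem exists_sum_sq {K : Type*} [Field K] [Fintype K] (c : K) : ∃ a b : K, a ^ 2 + b ^ 2 = c := by
  classical
  by_cases h2 : ringChar K = 2
  · obtain ⟨a, ha⟩ := FiniteField.isSquare_of_char_two h2 c
    exact ⟨a, 0, by rw [ha]; ring⟩
  · haveI : CharP K (ringChar K) := ringChar.charP K
    have hodd : Fintype.card K % 2 = 1 := FiniteField.odd_card_of_char_ne_two h2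
    obtain ⟨a, b, hab⟩ := FiniteField.exists_root_sum_quadratic
      (f := (Polynomial.X ^ 2 : Polynomial K)) (g := Polynomial.X ^ 2 - Polynomial.C c)
      (by simp) (Polynomial.degree_X_pow_sub_C (by norm_num) c) hodd
    refine ⟨a, b, ?_⟩
    simp at hab
    linear_combination hab

theorem main {K : Type*} [Field K] [Fintype K] (hK : 3 < Fintype.card K) (n : ℕ) (hn : 1 ≤ n)
    (k : Kˣ) (hk : ∀ u : Kˣ, u ∈ Subgroup.zpowers k)
    (h x w : Matrix.SpecialLinearGroup (Fin (n + 1)) K)
    (hh : (h : Matrix (Fin (n + 1)) (Fin (n + 1)) K) =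
      Matrix.diagonal (fun i => if i.val = 0 then (k : K) else if i.val = 1 then ((k⁻¹ : Kˣ) : K) else 1))
    (hx : (x : Matrix (Fin (n + 1)) (Fin (n + 1)) K) = Matrix.transvection (0 : Fin (n + 1)) (1 : Fin (n + 1)) 1)
    (hw : (w : Matrix (Fin (n + 1)) (Fin (n + 1)) K) =
      Matrix.of (fun i j => if j.val = i.val + 1 then 1 else if i.val = n ∧ j.val = 0 then (-1) ^ n else 0)) :
    Subgroup.closure ({h, x * w} : Set (Matrix.SpecialLinearGroup (Fin (n + 1)) K)) = ⊤ := by
  classical
  set S := Subgroup.closure ({h, x * w} : Set (Matrix.SpecialLinearGroup (Fin (n + 1)) K))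
  set e : Fin (n + 1) → K := fun i => if i.val = 0 then (k : K) else if i.val = 1 then ((k⁻¹ : Kˣ) : K) else 1
  have hwe := cyclic_entries w hn hw
  have hhS : h ∈ S := Subgroup.subset_closure (Set.mem_insert _ _)
  have hyS : x * w ∈ S := Subgroup.subset_closure (Set.mem_insert_of_mem _ rfl)
  have hne : (0 : Fin (n + 1)) ≠ 1 := by
    intro e
    have := congrArg Fin.val e
    rw [Fin.val_zero, Fin.val_one', Nat.mod_eq_of_lt (by omega)] at this
    omega
  have hx1 : SpecialLinearGroup.transvection hne (1 : K) = x := by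
    apply Subtype.ext
    rw [transvection_val, hx]; rfl
  have hv0 : (0 : Fin (n + 1)).val = 0 := rfl
  have hv1 : (1 : Fin (n + 1)).val = 1 := by rw [Fin.val_one', Nat.mod_eq_of_lt (by omega)]
  have he0 : e 0 = k := by simp [e]
  have he1 : e 1 = (k : K)⁻¹ := by simp [e, show n ≠ 0 by omega, show 0 < n by omega]
  have hk2 : (k : K) ^ 2 ≠ 1 := by
    intro hk2
    have h1 : k ^ 2 = 1 := Units.ext (by simpa using hk2)
    have h2 : Nat.card Kˣ ≤ 2 := by
      rw [← orderOf_eq_card_of_forall_mem_zpowers hk]
      exact orderOf_le_of_pow_eq_one (by norm_num) h1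
    rw [Nat.card_eq_fintype_card, Fintype.card_units] at h2
    omega
  have hk1 : (k : K) ≠ 1 := fun e => hk2 (by rw [e]; ring)
  set D := w * h * w⁻¹ with hDd
  set f : Fin (n + 1) → K := fun a => e (a + 1) with hf
  have hD : D.1 = Matrix.diagonal f := w_diag hwe hh hDd
  have hf1 : f 1 ≠ 0 := by
    simp only [hf, e]; split_ifs <;> simp
  set a : K := 1 - f 0 / f 1 with ha
  have hane : a ≠ 0 := by
    intro h0
    have h1 : f 0 = f 1 := by
      rw [ha, sub_eq_zero, eq_comm, div_eq_iff hf1, one_mul] at h0
      exact h0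
    simp only [hf, zero_add, he1] at h1
    by_cases hn1 : n = 1
    · have hv : ((1 : Fin (n + 1)) + 1).val = 0 := by
        rw [Fin.val_add_one]; simp [Fin.ext_iff, hn1]
      simp only [e, hv, if_true] at h1
      exact hk2 (by rw [sq]; nth_rewrite 2 [← h1]; simp)
    · have hv : ((1 : Fin (n + 1)) + 1).val = 2 := by
        rw [Fin.val_add_one, if_neg (fun e => hn1 (by
          have := congrArg Fin.val e
          rw [hv1, Fin.val_last] at this
          exact this.symm)), hv1]
      simp only [e, hv] at h1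
      simp at h1
      exact hk1 (by simpa using h1)
  -- the conjugate of `h` by `x * w`
  have hxD : x * D * x⁻¹ = SpecialLinearGroup.transvection hne a * D := by
    have h1 := diag_conj hD hne hf1 (-1)
    rw [← hx1, Matrix.SpecialLinearGroup.transvection_inv, mul_assoc,
      show D * SpecialLinearGroup.transvection hne (-1) =
        SpecialLinearGroup.transvection hne (f 0 * -1 / f 1) * D from mul_inv_eq_iff_eq_mul.1 h1,
      ← mul_assoc, transvection_mul]
    congr 2
    rw [ha]; ring
  have hh'S : SpecialLinearGroup.transvection hne a * D ∈ S := by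
    rw [← hxD, hDd]
    have h1 := S.mul_mem (S.mul_mem hyS hhS) (S.inv_mem hyS)
    convert h1 using 1
    group
  set c₀ : K := ((k : K) ^ 2 - 1) * a with hc₀
  have hc₀S : SpecialLinearGroup.transvection hne c₀ ∈ S := by
    have h1 := S.mul_mem (S.mul_mem (S.mul_mem hhS hh'S) (S.inv_mem hhS)) (S.inv_mem hh'S)
    have hj : e 1 ≠ 0 := by rw [he1]; simp
    have h2 := diag_conj hh hne hj a
    have hcomm : h * D = D * h := diag_comm hh hD
    have h4 : h * (SpecialLinearGroup.transvection hne a * D) * h⁻¹ *
        (SpecialLinearGroup.transvection hne a * D)⁻¹ =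
        (h * SpecialLinearGroup.transvection hne a * h⁻¹) * (SpecialLinearGroup.transvection hne a)⁻¹ := by
      rw [show h * (SpecialLinearGroup.transvection hne a * D) * h⁻¹ =
        (h * SpecialLinearGroup.transvection hne a * h⁻¹) * (h * D * h⁻¹) by group, hcomm,
        mul_inv_cancel_right]
      group
    rw [h4, h2, Matrix.SpecialLinearGroup.transvection_inv, transvection_mul] at h1
    convert h1 using 2
    rw [hc₀, he0, he1]
    field_simp
    ring
  have hc₀ne : c₀ ≠ 0 := mul_ne_zero (sub_ne_zero.2 hk2) hane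
  have hsq : ∀ s : K, SpecialLinearGroup.transvection hne (c₀ * s ^ 2) ∈ S := by
    intro s
    by_cases hs : s = 0
    · subst hs
      convert S.one_mem
      apply Subtype.ext
      rw [transvection_val]; simp
    obtain ⟨m, hm⟩ := (IsOfFinOrder.mem_zpowers_iff_mem_range_orderOf (isOfFinOrder_of_finite k)).1 (hk (Units.mk0 s hs)) |> Finset.mem_image.1
    have hm' : s = (k : K) ^ m := by
      have := congrArg Units.val hm.2
      simpa using this.symm
    subst hm'
    clear hm hs
    induction m with
    | zero => simpa using hc₀S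
    | succ m ih =>
      have h1 := S.mul_mem (S.mul_mem hhS ih) (S.inv_mem hhS)
      have hj : e 1 ≠ 0 := by rw [he1]; simp
      rw [diag_conj hh hne hj] at h1
      convert h1 using 2
      rw [he0, he1]
      field_simp
      ring
  have h01 : ∀ c : K, SpecialLinearGroup.transvection hne c ∈ S := by
    intro c
    obtain ⟨s, t, hst⟩ := exists_sum_sq (c / c₀)
    have h1 := S.mul_mem (hsq s) (hsq t)
    rw [transvection_mul] at h1
    convert h1 using 2
    rw [← mul_add, hst, mul_div_cancel₀ _ hc₀ne]
  have hwS : w ∈ S := by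
    have h1 := S.mul_mem (S.inv_mem (hx1 ▸ h01 1)) hyS
    rwa [inv_mul_cancel_left] at h1
  exact eq_top_of_good S w _ hwe d_ne_zero hwS fun _ c => h01 c

/-- Explicit two-element generation of `PSL_{n+1}(K)` for a finite field `K` with more than three elements: let `k` generate the multiplicative group of `K`, `h = diag(k, k⁻¹, 1, …, 1)`, `x = 1 + E₁₂` (the elementary transvection) and `w` the monomial matrix with entries `1` in positions `(i, i+1)` and `(−1)^n` in position `(n+1, 1)`. Then `h` and `x·w` generate `SL_{n+1}(K)` modulo its centre: the subgroup they generate together with the centre is everything. -/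
theorem result {K : Type*} [Field K] [Fintype K] (hK : 3 < Fintype.card K) (n : ℕ) (hn : 1 ≤ n)
    (k : Kˣ) (hk : ∀ u : Kˣ, u ∈ Subgroup.zpowers k)
    (h x w : Matrix.SpecialLinearGroup (Fin (n + 1)) K)
    (hh : (h : Matrix (Fin (n + 1)) (Fin (n + 1)) K) =
      Matrix.diagonal (fun i => if i.val = 0 then (k : K) else if i.val = 1 then ((k⁻¹ : Kˣ) : K) else 1))
    (hx : (x : Matrix (Fin (n + 1)) (Fin (n + 1)) K) = Matrix.transvection (0 : Fin (n + 1)) (1 : Fin (n + 1)) 1)
    (hw : (w : Matrix (Fin (n + 1)) (Fin (n + 1)) K) =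
      Matrix.of (fun i j => if j.val = i.val + 1 then 1 else if i.val = n ∧ j.val = 0 then (-1) ^ n else 0)) :
    Subgroup.closure ({h, x * w} : Set (Matrix.SpecialLinearGroup (Fin (n + 1)) K)) ⊔
      Subgroup.center (Matrix.SpecialLinearGroup (Fin (n + 1)) K) = ⊤ := by
  rw [main hK n hn k hk h x w hh hx hw, top_sup_eq]

end Cfsg.Agent.S2402
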