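import Cfsg.Statements.S2403
import Cfsg.Agent.Lib.Linear.CyclicGen

set_option autoImplicit false
open Cfsg Cfsg.Lib.Linear.CyclicGen Matrix

namespace Cfsg.Agent.S2403

theorem main {K : Type*} [Field K] [Fintype K] (hK : Fintype.card K ≤ 3) (n : ℕ) (hn : 1 ≤ n)
    (x w : Matrix.SpecialLinearGroup (Fin (n + 1)) K)
    (hx : (x : Matrix (Fin (n + 1)) (Fin (n + 1)) K) = Matrix.transvection (0 : Fin (n + 1)) (1 : Fin (n + 1)) 1)
    (hw : (w : Matrix (Fin (n + 1)) (Fin (n + 1)) K) =
      Matrix.of (fun i j => if j.val = i.val + 1 then 1 else if i.val = n ∧ j.val = 0 then (-1) ^ n else 0)) :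
    Subgroup.closure ({x, w} : Set (Matrix.SpecialLinearGroup (Fin (n + 1)) K)) = ⊤ := by
  set S := Subgroup.closure ({x, w} : Set (Matrix.SpecialLinearGroup (Fin (n + 1)) K))
  have hxS : x ∈ S := Subgroup.subset_closure (Set.mem_insert _ _)
  refine eq_top_of_good S w _ (cyclic_entries w hn hw) d_ne_zero
    (Subgroup.subset_closure (Set.mem_insert_of_mem _ rfl)) ?_
  intro h c
  have hx1 : SpecialLinearGroup.transvection h (1 : K) = x := by
    apply Subtype.ext
    rw [transvection_val, hx]; rfl
  by_cases hc : c = 0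
  · subst hc
    convert S.one_mem
    apply Subtype.ext
    rw [transvection_val]; simp
  have h2 : 1 < Fintype.card K := Fintype.one_lt_card
  have hp := FiniteField.pow_card_sub_one_eq_one c hc
  have hc' : c = 1 ∨ c = -1 := by
    rcases (show Fintype.card K = 2 ∨ Fintype.card K = 3 by omega) with e | e <;> rw [e] at hp
    · left; simpa using hp
    · exact sq_eq_one_iff.1 hp
  rcases hc' with rfl | rfl
  · rw [hx1]; exact hxS
  · convert S.inv_mem hxS
    rw [← hx1, Matrix.SpecialLinearGroup.transvection_inv]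

/-- Explicit two-element generation of `PSL_{n+1}(K)` over the fields with two or three elements: with `x = 1 + E₁₂` and `w` the monomial matrix with entries `1` in positions `(i, i+1)` and `(−1)^n` in position `(n+1, 1)`, the elements `x` and `w` generate `SL_{n+1}(K)` modulo its centre. -/
theorem result {K : Type*} [Field K] [Fintype K] (hK : Fintype.card K ≤ 3) (n : ℕ) (hn : 1 ≤ n)
    (x w : Matrix.SpecialLinearGroup (Fin (n + 1)) K)
    (hx : (x : Matrix (Fin (n + 1)) (Fin (n + 1)) K) = Matrix.transvection (0 : Fin (n + 1)) (1 : Fin (n + 1)) 1)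
    (hw : (w : Matrix (Fin (n + 1)) (Fin (n + 1)) K) =
      Matrix.of (fun i j => if j.val = i.val + 1 then 1 else if i.val = n ∧ j.val = 0 then (-1) ^ n else 0)) :
    Subgroup.closure ({x, w} : Set (Matrix.SpecialLinearGroup (Fin (n + 1)) K)) ⊔
      Subgroup.center (Matrix.SpecialLinearGroup (Fin (n + 1)) K) = ⊤ := by
  rw [main hK n hn x w hx hw, top_sup_eq]

end Cfsg.Agent.S2403
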