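import Cfsg.Statements.S2404
import Cfsg.Agent.Lib.Chev.Weights.Chev
import Cfsg.Agent.Lib.Chev.FullAll
import Cfsg.Agent.Lib.Chev.OrderE6
-- import your own Cfsg.Agent.* helpers here

set_option autoImplicit false
open Cfsg

namespace Cfsg.Agent.S2404

/-- Steinberg's count of semisimple classes for type E₆ when the finite simply connected group has trivial centre: over a field with `q` elements of characteristic `p` with `q ≢ 1 (mod 3)`, the simply connected group E₆(q) coincides with the Chevalley group, and the conjugacy classes of elements of order prime to `p` in the Chevalley group of type E₆ number exactly `q^6`. -/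
theorem result {F : Type*} [Field F] [Fintype F] {q : ℕ} (hq : Fintype.card F = q) (hq3 : q % 3 ≠ 1) (p : ℕ) [Fact p.Prime] [CharP F p] :
    Nat.card {c : ConjClasses ↥(Cfsg.Lie.chevE6.group F) // ∃ g : ↥(Cfsg.Lie.chevE6.group F), ConjClasses.mk g = c ∧ (orderOf g).Coprime p} = q ^ 6 := by
  classical
  subst hq
  have hg : (Nat.card F - 1).gcd 3 = 1 := by
    have h1 := Fintype.card_pos (α := F)
    rw [Nat.card_eq_fintype_card, ← Nat.coprime_iff_gcd_eq_one, Nat.coprime_comm,
      Nat.prime_three.coprime_iff_not_dvd]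
    omega
  rw [← Nat.card_eq_fintype_card (α := F)]
  refine Cfsg.Lib.Chev.Weights.card_semisimple Cfsg.Lib.Chev.fullCertE6.comm.cert Cfsg.Lib.Chev.fullCertE6 p
    Cfsg.Lib.Chev.torusCertE6 fun k => ?_
  have : (![1, 1, 1, 1, 1, 3] : Fin 6 → ℕ) k = 1 ∨ (![1, 1, 1, 1, 1, 3] : Fin 6 → ℕ) k = 3 := by
    fin_cases k <;> first | exact Or.inl rfl | exact Or.inr rfl
  rcases this with h | h <;> rw [h]
  exacts [Nat.gcd_one_right _, hg]

end Cfsg.Agent.S2404
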