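import Cfsg.Statements.S2413
import Cfsg.Agent.Lib.Linear.TwoGen.Orth.Main
import Cfsg.Agent.Lib.Linear.OrthOdd
import Cfsg.Agent.Lib.Chev.B2OrthEquiv
import Cfsg.Agent.Lib.Chev.TwoGenAll


set_option autoImplicit false
open Cfsg

namespace Cfsg.Agent.S2413



/-- The simple orthogonal group `PΩ_{2m+1}(q)` (commutator subgroup of the orthogonal group of `x₀² + Σ x_i y_i` modulo its centre) with `m ≥ 2` and `q` odd is generated by two of its elements. -/
theorem result {F : Type*} [Field F] [Fintype F] (hodd : Odd (Fintype.card F)) (m : ℕ) (hm : 2 ≤ m) :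
    ∃ a b : Cfsg.POmega F (Cfsg.quadFormOdd m F), Subgroup.closure ({a, b} : Set (Cfsg.POmega F (Cfsg.quadFormOdd m F))) = ⊤ := by
  classical
  have h2 : (2 : F) ≠ 0 := Cfsg.Lib.Linear.Orth.two_ne_zero_of_odd_card hodd
  rcases hm.eq_or_lt with rfl | hlt
  · obtain ⟨e⟩ := Cfsg.Lib.Chev.B2Orth.nonempty_equiv (F := F) ⟨-1, by simp, fun h => h2 (by linear_combination -h)⟩
    obtain ⟨a, b, hab⟩ := Cfsg.Lib.Chev.TwoGen.two_all (F := F) (D := Cfsg.Lie.chevB2) (by simp)
      (fun _ => ⟨-1, by simp, fun h => h2 (by linear_combination -h)⟩)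
    refine ⟨e a, e b, ?_⟩
    have := congrArg (Subgroup.map e.toMonoidHom) hab
    rw [MonoidHom.map_closure, Subgroup.map_top_of_surjective e.toMonoidHom e.surjective] at this
    simpa [Set.image_pair] using this
  · obtain ⟨k, rfl⟩ : ∃ k, m = k + 3 := ⟨m - 3, by omega⟩
    let R : (Unit → F) → F := fun v => v () ^ 2
    let D : LinearMap.BilinForm F (Unit → F) := LinearMap.mk₂ F (fun u v => 2 * u () * v ())
      (fun a b c => by simp; ring) (fun r a b => by simp; ring) (fun a b c => by simp; ring) (fun r a b => by simp; ring)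
    have C : Cfsg.Lib.Linear.Orth.Space R D :=
      ⟨fun c v => by simp [R]; ring, fun u v => by simp [R, D, QuadraticMap.polar]; ring, fun v hv => by
        have h := hv (fun _ => 1)
        simp [D, h2] at h
        funext i; exact h⟩
    refine Cfsg.Lib.Linear.TwoGen.two_gen_pomega (Equiv.sumComm _ _) (fun v => ?_)
      (Cfsg.Lib.Linear.TwoGen.two_gen_qP C k (fun _ => 1) 0 fun z => ⟨z (), 0, funext fun i => by simp⟩)
    simp [Cfsg.Lib.Linear.TwoGen.qP, Cfsg.Lib.Linear.Orth.sumQ, R, Cfsg.quadFormOdd, Cfsg.quadFormPlus,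
      Function.comp_def, add_comm]

end Cfsg.Agent.S2413
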