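import Cfsg.Statements.S2414
import Cfsg.Agent.Lib.Linear.TwoGen.Orth.Main


set_option autoImplicit false
open Cfsg

namespace Cfsg.Agent.S2414



/-- The simple orthogonal group `PΩ⁺_{2m}(q)` (commutator subgroup of the orthogonal group of `Σ x_i y_i` modulo its centre) with `m ≥ 4` is generated by two of its elements. -/
theorem result {F : Type*} [Field F] [Fintype F] (m : ℕ) (hm : 4 ≤ m) :
    ∃ a b : Cfsg.POmega F (Cfsg.quadFormPlus m F), Subgroup.closure ({a, b} : Set (Cfsg.POmega F (Cfsg.quadFormPlus m F))) = ⊤ := by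
  classical
  obtain ⟨k, rfl⟩ : ∃ k, m = k + 4 := ⟨m - 4, by omega⟩
  let R : (Empty → F) → F := fun _ => 0
  have C : Cfsg.Lib.Linear.Orth.Space R (0 : LinearMap.BilinForm F (Empty → F)) :=
    ⟨fun c v => by simp [R], fun u v => by simp [R, QuadraticMap.polar], fun v _ => funext fun i => i.elim⟩
  refine Cfsg.Lib.Linear.TwoGen.two_gen_pomega (Equiv.sumEmpty _ Empty) (fun v => ?_)
    (Cfsg.Lib.Linear.TwoGen.two_gen_qP C (k + 1) 0 0 fun z => ⟨0, 0, funext fun i => i.elim⟩)
  simp [Cfsg.Lib.Linear.TwoGen.qP, Cfsg.Lib.Linear.Orth.sumQ, R, Function.comp_def]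

end Cfsg.Agent.S2414
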