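import Cfsg.Statements.S2415
import Cfsg.Agent.Lib.Linear.TwoGen.Orth.Main


set_option autoImplicit false
open Cfsg

namespace Cfsg.Agent.S2415



/-- The simple orthogonal group `PΩ⁻_{2m}(q)` with `m ≥ 4` (commutator subgroup, modulo its centre, of the orthogonal group of `Σ_{i<m−1} x_i y_i + z₁² + a z₁z₂ + b z₂²` with the binary part anisotropic) is generated by two of its elements. -/
theorem result {F : Type*} [Field F] [Fintype F] (m : ℕ) (hm : 4 ≤ m) (a b : F)
    (hab : ∀ z₁ z₂ : F, z₁ ^ 2 + a * z₁ * z₂ + b * z₂ ^ 2 = 0 → z₁ = 0 ∧ z₂ = 0) :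
    ∃ g h : Cfsg.POmega F (Cfsg.quadFormMinus (m - 1) F a b),
      Subgroup.closure ({g, h} : Set (Cfsg.POmega F (Cfsg.quadFormMinus (m - 1) F a b))) = ⊤ := by
  classical
  obtain ⟨k, rfl⟩ : ∃ k, m = k + 4 := ⟨m - 4, by omega⟩
  rw [show k + 4 - 1 = k + 3 by omega]
  let R : (Fin 2 → F) → F := fun v => v 0 ^ 2 + a * v 0 * v 1 + b * v 1 ^ 2
  obtain ⟨B0, C0⟩ := Cfsg.Lib.Linear.Orth.exists_space_minus (F := F) 0 a b hab
  obtain ⟨D, C⟩ : ∃ D, Cfsg.Lib.Linear.Orth.Space R D := by
    let ext : (Fin 2 → F) →ₗ[F] ((Fin 0 ⊕ Fin 0) ⊕ Fin 2 → F) :=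
      { toFun := fun v => Sum.elim 0 v
        map_add' := fun u v => by funext j; rcases j with (j | j) | j <;> simp
        map_smul' := fun r v => by funext j; rcases j with (j | j) | j <;> simp }
    have hR : ∀ v, R v = Cfsg.quadFormMinus 0 F a b (ext v) := fun v => by simp [R, ext, Cfsg.quadFormMinus]
    refine ⟨B0.compl₁₂ ext ext, fun c v => by rw [hR, hR, map_smul, C0.smul], fun u v => ?_, fun v hv => ?_⟩
    · simp only [QuadraticMap.polar, hR, map_add]
      exact C0.polar (ext u) (ext v)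
    · have : ext v = 0 := C0.nondeg _ fun u => by
        have e : u = ext (u ∘ Sum.inr) := funext fun j => by
          rcases j with (j | j) | j
          · exact j.elim0
          · exact j.elim0
          · rfl
        rw [e]; exact hv (u ∘ Sum.inr)
      funext i
      exact congrFun this (.inr i)
  refine Cfsg.Lib.Linear.TwoGen.two_gen_pomega (Equiv.refl _) (fun v => ?_)
    (Cfsg.Lib.Linear.TwoGen.two_gen_qP C k (Pi.single 0 1) (Pi.single 1 1) fun z => ⟨z 0, z 1, ?_⟩)
  · rfl
  · funext i; fin_cases i <;> simp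

end Cfsg.Agent.S2415
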