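import Cfsg.Statements.S2416
import Cfsg.Agent.Lib.Chev.NSupRoot
import Cfsg.Agent.Lib.Chev.FullAll

set_option autoImplicit false
open scoped MatrixGroups
open Cfsg

namespace Cfsg.Agent.S2416

open Cfsg.Lib.Chev Cfsg.Lie

theorem reachG2 : ∀ i < chevG2.rank, chevG2.isLong (tblG2.simp' i) = false →
    reachChk tblG2 3 [i] = true := by decide +kernel

theorem reachB2 : ∀ i < chevB2.rank, chevB2.isLong (tblB2.simp' i) = false →
    reachChk tblB2 2 [i] = true := by decide +kernel

theorem reachD4 : ∀ i < chevD4.rank, chevD4.isLong (tblD4.simp' i) = false →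
    reachChk tblD4 1 [i] = true := by decide +kernel

theorem reachF4 : ∀ i < chevF4.rank, chevF4.isLong (tblF4.simp' i) = false →
    reachChk tblF4 2 [i] = true := by decide +kernel

theorem reachE6 : ∀ i < chevE6.rank, chevE6.isLong (tblE6.simp' i) = false →
    reachChk tblE6 1 [i] = true := by decide +kernel

theorem reachE7 : ∀ i < chevE7.rank, chevE7.isLong (tblE7.simp' i) = false →
    reachChk tblE7 1 [i] = true := by decide +kernel

theorem reachE8 : ∀ i < chevE8.rank, chevE8.isLong (tblE8.simp' i) = false →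
    reachChk tblE8 1 [i] = true := by decide +kernel


/-- A Chevalley group of type G₂, B₂, D₄, F₄, E₆, E₇ or E₈ over a finite field lies in (indeed equals) the subgroup generated by its monomial subgroup `N` and a single fundamental root subgroup `X_p`, where `p` is a short fundamental root if there are two root lengths (any fundamental root otherwise), provided the characteristic is not 2 for types B₂, F₄ and not 3 for type G₂ (and the field has more than two elements for B₂, G₂). -/
theorem result {K : Type*} [Field K] [Finite K] (D : Cfsg.Lie.ChevalleyDatum) (hD : D ∈ [Cfsg.Lie.chevG2, Cfsg.Lie.chevB2, Cfsg.Lie.chevD4, Cfsg.Lie.chevF4, Cfsg.Lie.chevE6, Cfsg.Lie.chevE7, Cfsg.Lie.chevE8])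
    (hK : D ∈ [Cfsg.Lie.chevB2, Cfsg.Lie.chevG2] → ∃ x : K, x ≠ 0 ∧ x ≠ 1)
    (h2 : D ∈ [Cfsg.Lie.chevB2, Cfsg.Lie.chevF4] → ringChar K ≠ 2) (h3 : D = Cfsg.Lie.chevG2 → ringChar K ≠ 3)
    (i : ℕ) (hi : i < D.rank) (hshort : D.isLong (D.simple i) = false) :
    D.group K ≤ D.monomialSubgroup K ⊔ D.rootSubgroup K (D.simple i) := by
  obtain ⟨T, q, hK', hchk, hq⟩ : ∃ T q, FullCert D T ∧
      (∀ i < D.rank, D.isLong (T.simp' i) = false → reachChk T q [i] = true) ∧ (q : K) ≠ 0 := by
    have hq : ∀ q : ℕ, q.Prime → ringChar K ≠ q → (q : K) ≠ 0 := by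
      intro q hq hne h
      rcases (Nat.dvd_prime hq).1 (ringChar.dvd h) with h' | h'
      · exact CharP.char_ne_one K (ringChar K) h'
      · exact hne h'
    simp only [List.mem_cons, List.not_mem_nil, or_false] at hD
    rcases hD with rfl | rfl | rfl | rfl | rfl | rfl | rfl
    · exact ⟨_, 3, fullCertG2, reachG2, hq 3 Nat.prime_three (h3 rfl)⟩
    · exact ⟨_, 2, fullCertB2, reachB2, hq 2 Nat.prime_two (h2 (by simp))⟩
    · exact ⟨_, 1, fullCertD4, reachD4, by simp⟩
    · exact ⟨_, 2, fullCertF4, reachF4, hq 2 Nat.prime_two (h2 (by simp))⟩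
    · exact ⟨_, 1, fullCertE6, reachE6, by simp⟩
    · exact ⟨_, 1, fullCertE7, reachE7, by simp⟩
    · exact ⟨_, 1, fullCertE8, reachE8, by simp⟩
  have C : Cert D T := hK'.comm.cert
  have hs : D.simple i = T.simp' i := C.spec.shape.simple_eq i hi
  rw [hs] at hshort ⊢
  refine group_le_of_reach C hK'.comm le_sup_left (Or.inr hq) ?_ (hchk i hi hshort)
  intro a ha
  rw [List.mem_singleton] at ha
  subst ha
  exact ⟨hi, fun t => Subgroup.mem_sup_right ((mem_rootSubgroup C).2 ⟨t, rfl⟩)⟩

end Cfsg.Agent.S2416
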