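import Cfsg.Statements.S2417
import Cfsg.Agent.Lib.Chev.NSupRoot
import Cfsg.Agent.Lib.Chev.FullAll

set_option autoImplicit false
open scoped MatrixGroups
open Cfsg

namespace Cfsg.Agent.S2417

open Cfsg.Lib.Chev Cfsg.Lie

theorem reachB2 : ∀ i < chevB2.rank, ∀ j < chevB2.rank, chevB2.isLong (tblB2.simp' i) = false →
    chevB2.isLong (tblB2.simp' j) = true → reachChk tblB2 0 [i, j] = true := by decide +kernel

theorem reachF4 : ∀ i < chevF4.rank, ∀ j < chevF4.rank, chevF4.isLong (tblF4.simp' i) = false →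
    chevF4.isLong (tblF4.simp' j) = true → reachChk tblF4 0 [i, j] = true := by decide +kernel

theorem reachG2 : ∀ i < chevG2.rank, ∀ j < chevG2.rank, chevG2.isLong (tblG2.simp' i) = false →
    chevG2.isLong (tblG2.simp' j) = true → reachChk tblG2 0 [i, j] = true := by decide +kernel


/-- In the characteristics with an exceptional graph symmetry — type B₂ or F₄ in characteristic 2 (field of more than two elements for B₂) and type G₂ in characteristic 3 — the Chevalley group lies in the subgroup generated by its monomial subgroup `N` and the two fundamental root subgroups `X_a`, `X_b` of a short root `a` and a long root `b` joined in the Dynkin diagram. -/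
theorem result {K : Type*} [Field K] [Finite K] (e : Cfsg.Lie.ChevalleyDatum × ℕ)
    (he : e ∈ [(Cfsg.Lie.chevB2, 2), (Cfsg.Lie.chevF4, 2), (Cfsg.Lie.chevG2, 3)]) [CharP K e.2]
    (hK : e.1 = Cfsg.Lie.chevB2 → ∃ x : K, x ≠ 0 ∧ x ≠ 1)
    (i j : ℕ) (hi : i < e.1.rank) (hj : j < e.1.rank) (hshort : e.1.isLong (e.1.simple i) = false)
    (hlong : e.1.isLong (e.1.simple j) = true) (hbond : e.1.bonds i j ≠ 0) :
    e.1.group K ≤ e.1.monomialSubgroup K ⊔ e.1.rootSubgroup K (e.1.simple i) ⊔ e.1.rootSubgroup K (e.1.simple j) := by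
  obtain ⟨T, hK', hchk⟩ : ∃ T, FullCert e.1 T ∧
      (∀ i < e.1.rank, ∀ j < e.1.rank, e.1.isLong (T.simp' i) = false → e.1.isLong (T.simp' j) = true →
        reachChk T 0 [i, j] = true) := by
    simp only [List.mem_cons, List.not_mem_nil, or_false] at he
    rcases he with rfl | rfl | rfl
    · exact ⟨_, fullCertB2, reachB2⟩
    · exact ⟨_, fullCertF4, reachF4⟩
    · exact ⟨_, fullCertG2, reachG2⟩
  have C : Cert e.1 T := hK'.comm.cert
  rw [C.spec.shape.simple_eq i hi] at hshort ⊢
  rw [C.spec.shape.simple_eq j hj] at hlong ⊢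
  refine group_le_of_reach C hK'.comm (le_sup_of_le_left le_sup_left) (Or.inl rfl) ?_ (hchk i hi j hj hshort hlong)
  intro a ha
  simp only [List.mem_cons, List.not_mem_nil, or_false] at ha
  rcases ha with rfl | rfl
  · exact ⟨hi, fun t => Subgroup.mem_sup_left (Subgroup.mem_sup_right ((mem_rootSubgroup C).2 ⟨t, rfl⟩))⟩
  · exact ⟨hj, fun t => Subgroup.mem_sup_right ((mem_rootSubgroup C).2 ⟨t, rfl⟩)⟩

end Cfsg.Agent.S2417
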