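import Cfsg.Statements.S2419
import Cfsg.Agent.Lib.Chev.CoxeterCenter

set_option autoImplicit false
open Cfsg

namespace Cfsg.Agent.S2419

/-- The Coxeter groups of types B₂, G₂, E₆, E₇, E₈ are generated by the Coxeter element `s₁ s₂ ⋯ s_l` together with one suitable reflection (a conjugate of a simple reflection); for types D₄ and F₄ the Coxeter element together with two suitable reflections suffices. -/
theorem result (c : (Σ n : ℕ, CoxeterMatrix (Fin n)) × ℕ)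
    (hc : c ∈ [(⟨2, CoxeterMatrix.B 2⟩, 1), (⟨2, CoxeterMatrix.G₂⟩, 1), (⟨4, Cfsg.Lie.coxeterD4⟩, 2), (⟨4, CoxeterMatrix.F₄⟩, 2),
      (⟨6, CoxeterMatrix.E₆⟩, 1), (⟨7, CoxeterMatrix.E₇⟩, 1), (⟨8, CoxeterMatrix.E₈⟩, 1)]) :
    ∃ T : Finset c.1.2.Group, T.card = c.2 ∧ (∀ t ∈ T, ∃ (g : c.1.2.Group) (i : Fin c.1.1), t = g * c.1.2.simple i * g⁻¹) ∧
      Subgroup.closure (({((List.finRange c.1.1).map c.1.2.simple).prod} : Set c.1.2.Group) ∪ ↑T) = ⊤ := by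
    simp only [List.mem_cons, List.mem_nil_iff, or_false] at hc
    open Cfsg.Lib.Chev in
    rcases hc with rfl | rfl | rfl | rfl | rfl | rfl | rfl
    · exact exists_generators fullCertB2.comm.cert fullCertB2 chkCox_B2 [0]
        [[2],[2,0]] rfl
        (by decide +kernel)
    · exact exists_generators fullCertG2.comm.cert fullCertG2 chkCox_G2 [0]
        [[2],[2,0]] rfl
        (by decide +kernel)
    · exact exists_generators fullCertD4.comm.cert fullCertD4 chkCox_D4 [0, 2]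
        [[2],[0,2,1],[3],[0,3,0,2,1,3,1]] rfl
        (by decide +kernel)
    · exact exists_generators fullCertF4.comm.cert fullCertF4 chkCox_F4 [0, 2]
        [[2],[0,2,1],[3],[0,3,1]] rfl
        (by decide +kernel)
    · exact exists_generators fullCertE6.comm.cert fullCertE6 chkCox_E6 [0]
        [[2],[0,0,2,0,0,0,2,1,1,1,2,1,1],[0,2,1],[0,0,0,0,0,2,1,1,1,1,1],[0,0,0,0,0,0,2,1,1,1,1,1,1],[0,0,0,0,0,0,0,2,1,1,1,1,1,1,1]] rfl
        (by decide +kernel)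
    · exact exists_generators fullCertE7.comm.cert fullCertE7 chkCox_E7 [1]
        [[0,0,0,2,0,0,2,1,1,2,1,1,1],[2],[0,0,0,0,2,0,0,2,1,1,2,1,1,1,1],[2,0,0,0,0,0,2,0,0,2,1,1,2,1,1,1,1,1,2],[0,2,0,0,0,0,0,2,0,0,2,1,1,2,1,1,1,1,1,2,1],[0,0,2,0,0,0,0,0,2,0,0,2,1,1,2,1,1,1,1,1,2,1,1],[0,0,0,2,0,0,0,0,0,2,0,0,2,1,1,2,1,1,1,1,1,2,1,1,1]] rfl
        (by decide +kernel)
    · exact exists_generators fullCertE8.comm.cert fullCertE8 chkCox_E8 [0]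
        [[2],[0,0,2,0,0,2,0,0,0,2,1,1,1,2,1,1,2,1,1],[0,2,1],[0,0,0,0,2,0,0,0,2,1,1,1,2,1,1,1,1],[0,0,0,0,0,2,0,0,0,2,1,1,1,2,1,1,1,1,1],[0,0,0,0,0,0,2,0,0,0,2,1,1,1,2,1,1,1,1,1,1],[0,0,0,0,0,0,0,2,0,0,0,2,1,1,1,2,1,1,1,1,1,1,1],[0,0,0,0,0,0,0,0,2,0,0,0,2,1,1,1,2,1,1,1,1,1,1,1,1]] rfl
        (by decide +kernel)

end Cfsg.Agent.S2419
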