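import Cfsg.Statements.S2420
import Cfsg.Agent.Lib.Linear.ParabolicBlocks
-- import your own Cfsg.Agent.* helpers here

set_option autoImplicit false
open scoped MatrixGroups
open Cfsg

namespace Cfsg.Agent.S2420

open Matrix Finset
open Cfsg.Lib.Linear.ParBlocks

variable {F : Type*} [Field F] [Fintype F]

/-- Product of q-integers. -/
def qfac (q m : ℕ) : ℕ := ∏ j ∈ range m, ∑ l ∈ range (j + 1), q ^ l

/-- Exponent of the power of `q` in the order of the general linear group. -/
def tri (m : ℕ) : ℕ := ∑ i ∈ range m, i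

theorem card_GL (m : ℕ) : Nat.card (GL (Fin m) F) =
    Fintype.card F ^ tri m * (Fintype.card F - 1) ^ m * qfac (Fintype.card F) m := by
  set q := Fintype.card F with hq
  have h1 : 1 ≤ q := Fintype.card_pos
  rw [Matrix.card_GL_field, ← hq, Fin.prod_univ_eq_prod_range (fun i => q ^ m - q ^ i)]
  have h : ∀ i ∈ range m, q ^ m - q ^ i = q ^ i * ((q - 1) * ∑ l ∈ range (m - i), q ^ l) := by
    intro i hi
    have := geom_sum_mul_add (q - 1) (m - i)
    rw [Nat.sub_add_cancel h1] at this
    have e : q ^ m = q ^ i * q ^ (m - i) := by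
      rw [← pow_add, Nat.add_sub_cancel' (le_of_lt (mem_range.1 hi))]
    rw [e, ← this, mul_add, mul_one, Nat.add_sub_cancel, mul_comm (∑ l ∈ range (m - i), q ^ l)]
  rw [prod_congr rfl h, prod_mul_distrib, prod_mul_distrib, prod_pow_eq_pow_sum, prod_const, card_range, mul_assoc, tri]
  congr 2
  rw [qfac, ← prod_range_reflect (fun j => ∑ l ∈ range (j + 1), q ^ l)]
  refine prod_congr rfl fun i hi => ?_
  have := mem_range.1 hi
  rw [show m - 1 - i + 1 = m - i by omega]

theorem card_ker {n : ℕ} (c : Fin n → ℕ) (hc : ∑ i, c i = n) :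
    Nat.card (leviHom c hc F).ker =
      Fintype.card F ^ Fintype.card {p : Fin n × Fin n // blk c hc p.1 < blk c hc p.2} := by
  classical
  let S := {p : Fin n × Fin n // blk c hc p.1 < blk c hc p.2}
  let b := blk c hc
  let m : (S → F) → Matrix (Fin n) (Fin n) F := fun φ i j =>
    if h : b i < b j then φ ⟨(i, j), h⟩ else if i = j then 1 else 0
  have htri : ∀ φ, (m φ).BlockTriangular b := fun φ i j h => by
    simp only [m]
    rw [dif_neg (lt_asymm h), if_neg fun e => by simp [e] at h]
  have hdet : ∀ φ, IsUnit (m φ).det := fun φ => by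
    rw [(htri φ).det, prod_eq_one fun k _ => ?_]
    · exact isUnit_one
    · rw [show (m φ).toSquareBlock b k = 1 from ?_, det_one]
      ext ⟨i, hi⟩ ⟨j, hj⟩
      change m φ i j = _
      simp [m, Matrix.one_apply, hi, hj]
  have hentry : ∀ (g : parabolicGL n F c), g ∈ (leviHom c hc F).ker → ∀ i j, b i = b j →
      ((g : GL (Fin n) F) : Matrix (Fin n) (Fin n) F) i j = if i = j then 1 else 0 := by
    intro g hg i j hij
    obtain ⟨a, ha⟩ := (blockEquiv c hc (b i)).surjective ⟨i, rfl⟩
    obtain ⟨a', ha'⟩ := (blockEquiv c hc (b i)).surjective ⟨j, hij.symm⟩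
    have h := congrArg (fun A : ∀ k, GL (Fin (c k)) F => (A (b i) : Matrix _ _ F) a a') (MonoidHom.mem_ker.1 hg)
    change ((g : GL (Fin n) F) : Matrix (Fin n) (Fin n) F) (blockEquiv c hc (b i) a).1 (blockEquiv c hc (b i) a').1 = _ at h
    rw [ha, ha'] at h
    rw [h, Pi.one_apply, Units.val_one, Matrix.one_apply]
    have : a = a' ↔ i = j := by
      rw [← (blockEquiv c hc (b i)).apply_eq_iff_eq, ha, ha', Subtype.ext_iff]
    simp [this]
  have hP : ∀ φ, GeneralLinearGroup.mk'' (m φ) (hdet φ) ∈ parabolicGL n F c := fun φ i j h => htri φ (Fin.lt_def.2 h)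
  have hker : ∀ φ, (⟨_, hP φ⟩ : parabolicGL n F c) ∈ (leviHom c hc F).ker := fun φ => by
    rw [MonoidHom.mem_ker]
    funext k
    refine Units.ext (Matrix.ext fun a a' => ?_)
    have e1 : b (blockEquiv c hc k a).1 = k := (blockEquiv c hc k a).2
    have e2 : b (blockEquiv c hc k a').1 = k := (blockEquiv c hc k a').2
    change m φ (blockEquiv c hc k a).1 (blockEquiv c hc k a').1 = _
    simp only [m, e1, e2, lt_irrefl, dif_neg, not_false_eq_true]
    simp [Matrix.one_apply, ← Subtype.ext_iff]
  rw [← Fintype.card_fun, ← Nat.card_eq_fintype_card]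
  refine Nat.card_congr
    { toFun := fun g p => ((g.1 : GL (Fin n) F) : Matrix (Fin n) (Fin n) F) p.1.1 p.1.2
      invFun := fun φ => ⟨⟨_, hP φ⟩, hker φ⟩
      left_inv := fun g => Subtype.ext (Subtype.ext (Units.ext (Matrix.ext fun i j => ?_)))
      right_inv := fun φ => funext fun p => ?_ }
  · change m (fun p => ((g.1 : GL (Fin n) F) : Matrix (Fin n) (Fin n) F) p.1.1 p.1.2) i j = _
    simp only [m]
    rcases lt_trichotomy (b i) (b j) with h | h | h
    · rw [dif_pos h]
    · rw [dif_neg (not_lt.2 h.ge), hentry g.1 g.2 i j h]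
    · rw [dif_neg (lt_asymm h), blockTriangular_blk c hc F g.1 h, if_neg fun e => by simp [e] at h]
  · change m φ p.1.1 p.1.2 = _
    simp only [m]
    rw [dif_pos p.2]

theorem exponent {n : ℕ} (c : Fin n → ℕ) (hc : ∑ i, c i = n) :
    Fintype.card {p : Fin n × Fin n // blk c hc p.1 < blk c hc p.2} + ∑ k, tri (c k) = tri n := by
  classical
  let b := blk c hc
  have hsplit : (Fintype.card (Fin n × Fin n)) =
      2 * Fintype.card {p : Fin n × Fin n // b p.1 < b p.2} + ∑ k, c k * c k := by
    have h1 := Fintype.card_subtype_compl (fun p : Fin n × Fin n => b p.1 = b p.2)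
    have h2 : Fintype.card {p : Fin n × Fin n // b p.1 = b p.2} = ∑ k, c k * c k := by
      rw [Fintype.card_congr (show {p : Fin n × Fin n // b p.1 = b p.2} ≃ Σ k, {i // b i = k} × {i // b i = k} from
        { toFun := fun p => ⟨b p.1.1, ⟨p.1.1, rfl⟩, ⟨p.1.2, p.2.symm⟩⟩
          invFun := fun x => ⟨(x.2.1.1, x.2.2.1), x.2.1.2.trans x.2.2.2.symm⟩
          left_inv := fun p => rfl
          right_inv := fun ⟨k, ⟨i, hi⟩, ⟨j, hj⟩⟩ => by subst hi; rfl }),
        Fintype.card_sigma]
      refine sum_congr rfl fun k _ => ?_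
      rw [Fintype.card_prod, ← Fintype.card_congr (blockEquiv c hc k), Fintype.card_fin]
    have h3 : Fintype.card {p : Fin n × Fin n // ¬ b p.1 = b p.2} =
        2 * Fintype.card {p : Fin n × Fin n // b p.1 < b p.2} := by
      have e : Fintype.card {p : Fin n × Fin n // b p.2 < b p.1} = Fintype.card {p : Fin n × Fin n // b p.1 < b p.2} :=
        Fintype.card_congr ((Equiv.prodComm _ _).subtypeEquiv fun p => Iff.rfl)
      rw [Fintype.card_congr (Equiv.subtypeEquivRight fun p : Fin n × Fin n => (lt_or_lt_iff_ne (a := b p.1) (b := b p.2)).symm)]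
      rw [Fintype.card_subtype_or_disjoint _ _ (Pi.disjoint_iff.2 fun p => by
        rw [Prop.disjoint_iff]; by_cases h : b p.1 < b p.2 <;> simp [h, lt_asymm]), e, two_mul]
    have h4 := Fintype.card_subtype_le (fun p : Fin n × Fin n => b p.1 = b p.2)
    omega
  have ht : ∀ m, 2 * tri m + m = m * m := fun m => by
    have := sum_range_id_mul_two m
    rcases m with _ | m
    · simp [tri]
    · simp only [tri, Nat.add_sub_cancel] at this ⊢; nlinarith
  have h5 : 2 * (∑ k, tri (c k)) + n = ∑ k, c k * c k := by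
    conv_lhs => arg 2; rw [← hc]
    rw [mul_sum, ← sum_add_distrib]
    exact sum_congr rfl fun k _ => ht _
  have := ht n
  rw [Fintype.card_prod, Fintype.card_fin] at hsplit
  simp only [b] at hsplit
  omega

/-- The number of partial flags of a given type: for a composition `μ` of `n` (with `n` parts, zeros allowed) and a field with `q` elements, the index of the standard parabolic subgroup `P_μ` in `GL_n(q)` times `∏_i {μ_i}` equals `{n}`, where `{r}` denotes the product over `k = 1, …, r` of the q-integers `1 + q + ⋯ + q^(k−1)`. -/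
theorem result {F : Type*} [Field F] [Fintype F] {q : ℕ} (hq : Fintype.card F = q) {n : ℕ} (μ : Fin n → ℕ) (hμ : ∑ i, μ i = n) :
    Nat.card (GL (Fin n) F ⧸ Cfsg.parabolicGL n F μ) * ∏ i : Fin n, ∏ j ∈ Finset.range (μ i), ∑ l ∈ Finset.range (j + 1), q ^ l =
      ∏ j ∈ Finset.range n, ∑ l ∈ Finset.range (j + 1), q ^ l := by
  subst hq
  have hP : Nat.card (Cfsg.parabolicGL n F μ) =
      Nat.card (leviHom μ hμ F).ker * Nat.card (∀ k : Fin n, GL (Fin (μ k)) F) := by
    rw [← Subgroup.card_mul_index (leviHom μ hμ F).ker, Subgroup.index_ker,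
      MonoidHom.range_eq_top.2 (leviHom_surjective μ hμ F), Subgroup.card_top]
  have h := Subgroup.card_mul_index (Cfsg.parabolicGL n F μ)
  rw [hP, card_ker, Nat.card_pi, card_GL n, Subgroup.index_eq_card] at h
  simp only [card_GL, prod_mul_distrib, prod_pow_eq_pow_sum, hμ] at h
  rw [show tri n = _ from (exponent μ hμ).symm, pow_add] at h
  have hq1 : 1 < Fintype.card F := Fintype.one_lt_card
  refine Nat.eq_of_mul_eq_mul_left (Nat.mul_pos (Nat.mul_pos (pow_pos (by omega : 0 < Fintype.card F) _)
    (pow_pos (by omega : 0 < Fintype.card F) _)) (pow_pos (by omega : 0 < Fintype.card F - 1) n)) (Eq.trans ?_ h)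
  simp only [qfac]
  ring

end Cfsg.Agent.S2420
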