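import Cfsg.Statements.S2422
import Cfsg.Agent.Lib.Linear.ParabolicBlocks

set_option autoImplicit false
open scoped MatrixGroups
open Cfsg

namespace Cfsg.Agent.S2422

open Matrix Polynomial UniqueFactorizationMonoid
open Cfsg.Lib.Linear.ParBlocks

variable {F : Type*} [Field F] [Fintype F]

/-- Tuples of invertible blocks with a prescribed product of characteristic polynomials. -/
def Blocks (F : Type*) [Field F] {n : ℕ} (c : Fin n → ℕ) (f : F[X]) : Type _ :=
  {A : ∀ k : Fin n, GL (Fin (c k)) F // ∏ k, (A k : Matrix (Fin (c k)) (Fin (c k)) F).charpoly = f}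

instance {n : ℕ} (c : Fin n → ℕ) (f : F[X]) : Finite (Blocks F c f) := Subtype.finite

/-- Proportion of such tuples. -/
noncomputable def weight {n : ℕ} (c : Fin n → ℕ) (f : F[X]) : ℂ :=
  (Nat.card (Blocks F c f) : ℂ) / (Nat.card (∀ k : Fin n, GL (Fin (c k)) F) : ℂ)

theorem card_fiber_mul {A B : Type*} [Group A] [Group B] [Finite A] (φ : A →* B) (hφ : Function.Surjective φ)
    (S : B → Prop) : Nat.card {a : A // S (φ a)} = Nat.card φ.ker * Nat.card {b : B // S b} := by
  rw [← Nat.card_prod]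
  refine Nat.card_congr
    { toFun := fun a => (⟨(Function.surjInv hφ (φ a.1))⁻¹ * a.1, by
        rw [MonoidHom.mem_ker, map_mul, map_inv, Function.surjInv_eq hφ, inv_mul_cancel]⟩, ⟨φ a.1, a.2⟩)
      invFun := fun z => ⟨Function.surjInv hφ z.2.1 * z.1.1, by
        rw [map_mul, MonoidHom.mem_ker.1 z.1.2, mul_one, Function.surjInv_eq hφ]; exact z.2.2⟩
      left_inv := fun a => Subtype.ext (by simp)
      right_inv := fun z => by
        obtain ⟨⟨k, hk⟩, ⟨b, hb⟩⟩ := z
        have : φ (Function.surjInv hφ b * k) = b := by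
          rw [map_mul, MonoidHom.mem_ker.1 hk, mul_one, Function.surjInv_eq hφ]
        simp [this] }

theorem sum_fixedPoint {n : ℕ} (c : Fin n → ℕ) (hc : ∑ i, c i = n) (f : F[X]) [Fintype (GL (Fin n) F)]
    [DecidablePred fun g : GL (Fin n) F => (g : Matrix (Fin n) (Fin n) F).charpoly = f] :
    ∑ g ∈ Finset.univ.filter (fun g : GL (Fin n) F => (g : Matrix (Fin n) (Fin n) F).charpoly = f),
        fixedPointCharacter (parabolicGL n F c) g = (Nat.card (GL (Fin n) F) : ℂ) * weight c f := by
  classical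
  set P := parabolicGL n F c with hP
  let Q : GL (Fin n) F → Prop := fun g => (g : Matrix (Fin n) (Fin n) F).charpoly = f
  have hQconj : ∀ x g : GL (Fin n) F, Q (x * g * x⁻¹) ↔ Q g := fun x g => by
    exact iff_of_eq (congrArg (· = f) (by rw [Units.val_mul, Units.val_mul, Matrix.coe_units_inv]; exact Matrix.charpoly_units_conj x g.val))
  have hL : ∑ g ∈ Finset.univ.filter (fun g : GL (Fin n) F => (g : Matrix (Fin n) (Fin n) F).charpoly = f),
      fixedPointCharacter P g = (Nat.card (GL (Fin n) F ⧸ P) : ℂ) * (Nat.card {p : P // Q p} : ℂ) := by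
    have : Fintype (GL (Fin n) F ⧸ P) := Fintype.ofFinite _
    rw [Nat.card_eq_fintype_card (α := GL (Fin n) F ⧸ P), ← Nat.cast_mul, ← Finset.card_univ, ← smul_eq_mul,
      ← Finset.sum_const]
    have hfix : ∀ g : GL (Fin n) F, fixedPointCharacter P g =
        ((∑ x : GL (Fin n) F ⧸ P, if g • x = x then 1 else 0 : ℕ) : ℂ) := fun g => by
      simp only [fixedPointCharacter, MulAction.fixedBy, Set.coe_setOf, Nat.card_eq_fintype_card, Fintype.card_subtype,
        Finset.card_filter]
    simp only [hfix, ← Nat.cast_sum]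
    rw [Finset.sum_comm]
    refine congrArg _ (Finset.sum_congr rfl fun x _ => ?_)
    obtain ⟨y, rfl⟩ := QuotientGroup.mk_surjective x
    rw [← Finset.card_filter, Finset.filter_filter, ← Fintype.card_subtype, ← Nat.card_eq_fintype_card]
    have hiff : ∀ g : GL (Fin n) F, g • (y : GL (Fin n) F ⧸ P) = (y : GL (Fin n) F ⧸ P) ↔ y⁻¹ * g * y ∈ P := fun g => by
      rw [MulAction.Quotient.smul_mk, eq_comm, QuotientGroup.eq, smul_eq_mul, ← mul_assoc]
    refine Nat.card_congr
      { toFun := fun g => ⟨⟨y⁻¹ * g.1 * y, (hiff g.1).1 g.2.2⟩, by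
          have := (hQconj y⁻¹ g.1).2 g.2.1
          rwa [inv_inv] at this⟩
        invFun := fun p => ⟨y * p.1.1 * y⁻¹, (hQconj y p.1.1).2 p.2, (hiff _).2 (by
          rw [show y⁻¹ * (y * p.1.1 * y⁻¹) * y = p.1.1 by group]; exact p.1.2)⟩
        left_inv := fun g => Subtype.ext (by simp [mul_assoc])
        right_inv := fun p => Subtype.ext (Subtype.ext (by simp [mul_assoc])) }
  rw [hL, weight]
  have h1 : Nat.card {p : P // Q p} = Nat.card (leviHom c hc F).ker * Nat.card (Blocks F c f) := by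
    unfold Blocks
    rw [← card_fiber_mul _ (leviHom_surjective c hc F)
      (fun A : ∀ k, GL (Fin (c k)) F => ∏ k, (A k : Matrix (Fin (c k)) (Fin (c k)) F).charpoly = f)]
    refine Nat.card_congr (Equiv.subtypeEquivRight fun p => ?_)
    simp only [Q]
    rw [charpoly_eq_prod c hc F p]
  have h2 : Nat.card P = Nat.card (leviHom c hc F).ker * Nat.card (∀ k : Fin n, GL (Fin (c k)) F) := by
    have := card_fiber_mul _ (leviHom_surjective c hc F) (fun _ => True)
    rwa [Nat.card_congr (Equiv.subtypeUnivEquiv fun _ => trivial),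
      Nat.card_congr (Equiv.subtypeUnivEquiv fun _ => trivial)] at this
  rw [h1, ← Subgroup.card_mul_index P, Subgroup.index_eq_card, h2]
  have hne : (Nat.card (∀ k : Fin n, GL (Fin (c k)) F) : ℂ) ≠ 0 := by exact_mod_cast Nat.card_pos.ne'
  push_cast
  field_simp

theorem exists_block (d : ℕ) : ∃ A : GL (Fin d) F,
    0 < d → Irreducible (A : Matrix (Fin d) (Fin d) F).charpoly := by
  rcases Nat.lt_or_ge d 2 with hd | hd
  · refine ⟨1, fun h => ?_⟩
    obtain rfl : d = 1 := by omega
    rw [Units.val_one, Matrix.charpoly_one, Fintype.card_fin, pow_one, ← Polynomial.C_1]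
    exact irreducible_X_sub_C 1
  · obtain ⟨p, hp⟩ := CharP.exists F
    haveI : Fact p.Prime := ⟨(CharP.char_is_prime_or_zero F p).resolve_right (CharP.char_ne_zero_of_finite F p)⟩
    haveI : NeZero d := ⟨by omega⟩
    let E := FiniteField.Extension F p d
    let pb : PowerBasis F E := Field.powerBasisOfFiniteOfSeparable F E
    have hdim : pb.dim = d := by rw [← pb.finrank, FiniteField.finrank_extension]
    have hgen : pb.gen ≠ 0 := by
      intro h0
      have h := pb.natDegree_minpoly
      rw [h0, minpoly.zero, natDegree_X, hdim] at h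
      omega
    let M : Matrix (Fin d) (Fin d) F := Matrix.reindex (finCongr hdim) (finCongr hdim) (Algebra.leftMulMatrix pb.basis pb.gen)
    have hcp : M.charpoly = minpoly F pb.gen := by
      rw [Matrix.charpoly_reindex, charpoly_leftMulMatrix]
    have hM : IsUnit M.det := by
      rw [Matrix.det_reindex_self]
      exact (Matrix.isUnit_iff_isUnit_det _).1 ((isUnit_iff_ne_zero.2 hgen).map (Algebra.leftMulMatrix pb.basis))
    exact ⟨Matrix.GeneralLinearGroup.mk'' M hM, fun _ => hcp ▸ minpoly.irreducible (Algebra.IsIntegral.isIntegral _)⟩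

/-- Degrees of the irreducible factors. -/
noncomputable def degs (h : F[X]) : Multiset ℕ := by
  classical exact (normalizedFactors h).map natDegree

theorem degs_mul {g h : F[X]} (hg : g ≠ 0) (hh : h ≠ 0) : degs (g * h) = degs g + degs h := by
  classical simp [degs, normalizedFactors_mul hg hh]

theorem degs_prod {ι : Type*} (s : Finset ι) (g : ι → F[X]) (hg : ∀ k ∈ s, g k ≠ 0) :
    degs (∏ k ∈ s, g k) = ∑ k ∈ s, degs (g k) := by
  classical
  induction s using Finset.induction_on with
  | empty => simp [degs]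
  | insert a s ha ih =>
    rw [Finset.prod_insert ha, Finset.sum_insert ha, degs_mul (hg a (Finset.mem_insert_self a s))
      (Finset.prod_ne_zero_iff.2 fun k hk => hg k (Finset.mem_insert_of_mem hk)),
      ih fun k hk => hg k (Finset.mem_insert_of_mem hk)]

theorem degs_sum {h : F[X]} (hh : h.Monic) : (degs h).sum = h.natDegree := by
  classical
  have h0 : (0 : F[X]) ∉ normalizedFactors h := fun hm => (irreducible_of_normalized_factor 0 hm).ne_zero rfl
  rw [degs, ← natDegree_multiset_prod _ h0]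
  exact natDegree_eq_of_degree_eq (degree_eq_degree_of_associated (prod_normalizedFactors hh.ne_zero))

theorem degs_pos {h : F[X]} {a : ℕ} (ha : a ∈ degs h) : 0 < a := by
  classical
  obtain ⟨p, hp, rfl⟩ := Multiset.mem_map.1 ha
  exact (irreducible_of_normalized_factor p hp).natDegree_pos

theorem sq_sum (M : Multiset ℕ) : (M.map (· ^ 2)).sum ≤ M.sum ^ 2 ∧
    ((M.map (· ^ 2)).sum = M.sum ^ 2 → (∀ a ∈ M, 0 < a) → M = if M.sum = 0 then 0 else {M.sum}) := by
  induction M using Multiset.induction with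
  | empty => simp
  | cons a M ih =>
    obtain ⟨h1, -⟩ := ih
    refine ⟨?_, fun heq hpos => ?_⟩
    · simp only [Multiset.map_cons, Multiset.sum_cons]; nlinarith [Nat.zero_le (a * M.sum)]
    · simp only [Multiset.map_cons, Multiset.sum_cons] at heq
      have ha : 0 < a := hpos a (Multiset.mem_cons_self _ _)
      have hM : M.sum = 0 := (Nat.mul_eq_zero.1 (show a * M.sum = 0 by nlinarith [Nat.zero_le (a * M.sum)])).resolve_left ha.ne'
      have hM0 : M = 0 := Multiset.eq_zero_of_forall_notMem fun b hb => by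
        have := hpos b (Multiset.mem_cons_of_mem hb)
        have := Multiset.single_le_sum (fun _ _ => Nat.zero_le _) b hb
        omega
      subst hM0
      simp [ha.ne']

/-- Multiset of a tuple. -/
def tuple {n : ℕ} (c : Fin n → ℕ) : Multiset ℕ := Finset.univ.val.map c

theorem degs_of_blocks {n : ℕ} (c : Fin n → ℕ) (A : ∀ k, GL (Fin (c k)) F)
    (hA : ∀ k, 0 < c k → Irreducible (A k : Matrix (Fin (c k)) (Fin (c k)) F).charpoly) :
    degs (∏ k, (A k : Matrix (Fin (c k)) (Fin (c k)) F).charpoly) = (tuple c).filter (· ≠ 0) := by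
  classical
  rw [degs_prod _ _ fun k _ => (Matrix.charpoly_monic _).ne_zero, tuple, Multiset.filter_map]
  have : ∀ k, degs (A k : Matrix (Fin (c k)) (Fin (c k)) F).charpoly = if c k ≠ 0 then {c k} else 0 := by
    intro k
    split
    next h =>
      simp only [degs, normalizedFactors_irreducible (hA k (Nat.pos_of_ne_zero h)), Multiset.map_singleton,
        (Matrix.charpoly_monic _).normalize_eq_self, Matrix.charpoly_natDegree_eq_dim, Fintype.card_fin]
    next h =>
      have : IsEmpty (Fin (c k)) := by rw [not_not.1 h]; exact Fin.isEmpty'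
      simp [degs, Matrix.charpoly_isEmpty]
  simp only [this]
  rw [← Finset.sum_filter, ← Multiset.bind_singleton (f := c)]
  rfl

/-- Sum of squares. -/
def Φ {n : ℕ} (c : Fin n → ℕ) : ℕ := ∑ k, c k ^ 2

theorem Φ_congr {n : ℕ} {c c' : Fin n → ℕ} (h : tuple c = tuple c') : Φ c = Φ c' := by
  have := congrArg (fun M : Multiset ℕ => (M.map (· ^ 2)).sum) h
  simpa [tuple, Φ, Finset.sum, Function.comp_def] using this

theorem filter_Φ {n : ℕ} (c : Fin n → ℕ) : (((tuple c).filter (· ≠ 0)).map (· ^ 2)).sum = Φ c := by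
  have h := congrArg (fun M : Multiset ℕ => (M.map (· ^ 2)).sum) (Multiset.filter_add_not (fun a : ℕ => a ≠ 0) (tuple c))
  simp only [Multiset.map_add, Multiset.sum_add] at h
  have h0 : (((tuple c).filter fun a : ℕ => ¬ a ≠ 0).map (· ^ 2)).sum = 0 := by
    refine Multiset.sum_eq_zero fun x hx => ?_
    obtain ⟨a, ha, rfl⟩ := Multiset.mem_map.1 hx
    rw [not_not.1 (Multiset.mem_filter.1 ha).2]; rfl
  rw [h0, add_zero] at h
  simpa [tuple, Φ, Finset.sum, Function.comp_def] using h

theorem support_of_blocks {n : ℕ} (c₀ c : Fin n → ℕ) (A₀ : ∀ k, GL (Fin (c₀ k)) F)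
    (hA₀ : ∀ k, 0 < c₀ k → Irreducible (A₀ k : Matrix (Fin (c₀ k)) (Fin (c₀ k)) F).charpoly)
    (A : Blocks F c (∏ k, (A₀ k : Matrix (Fin (c₀ k)) (Fin (c₀ k)) F).charpoly)) :
    Φ c₀ ≤ Φ c ∧ (Φ c₀ = Φ c → tuple c₀ = tuple c) := by
  classical
  let h : Fin n → F[X] := fun k => (A.1 k : Matrix (Fin (c k)) (Fin (c k)) F).charpoly
  have hsum : ∀ k, (degs (h k)).sum = c k := fun k => by
    rw [degs_sum (Matrix.charpoly_monic _)]; simp [h]
  have hdeg : (tuple c₀).filter (· ≠ 0) = ∑ k, degs (h k) := by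
    rw [← degs_of_blocks c₀ A₀ hA₀, ← A.2, degs_prod _ _ fun k _ => (Matrix.charpoly_monic _).ne_zero]
  have hΦ0 : Φ c₀ = ∑ k, ((degs (h k)).map (· ^ 2)).sum := by
    rw [← filter_Φ, hdeg, ← Multiset.coe_mapAddMonoidHom, map_sum, ← Multiset.coe_sumAddMonoidHom, map_sum]
  have hle : ∀ k ∈ Finset.univ, ((degs (h k)).map (· ^ 2)).sum ≤ c k ^ 2 := fun k _ => by
    rw [← hsum k]; exact (sq_sum _).1
  refine ⟨hΦ0 ▸ Finset.sum_le_sum hle, fun heq => ?_⟩
  have hk := (Finset.sum_eq_sum_iff_of_le hle).1 (hΦ0.symm.trans heq)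
  have hone : ∀ k, degs (h k) = if c k ≠ 0 then {c k} else 0 := fun k => by
    have := (sq_sum (degs (h k))).2 (by rw [hsum k]; exact hk k (Finset.mem_univ _)) (fun a ha => degs_pos ha)
    rw [hsum k] at this
    rw [this]; split_ifs <;> simp_all
  have hnz : (tuple c₀).filter (· ≠ 0) = (tuple c).filter (· ≠ 0) := by
    rw [hdeg]
    simp only [hone]
    rw [tuple, Multiset.filter_map, ← Finset.sum_filter, ← Multiset.bind_singleton (f := c)]
    rfl
  refine Multiset.ext.2 fun a => ?_
  rcases eq_or_ne a 0 with rfl | ha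
  · have e : ∀ d : Fin n → ℕ, (tuple d).count 0 + Multiset.card ((tuple d).filter (· ≠ 0)) = n := fun d => by
      have := congrArg Multiset.card (Multiset.filter_add_not (fun a : ℕ => a = 0) (tuple d))
      rw [Multiset.card_add, Multiset.filter_eq', Multiset.card_replicate] at this
      exact this.trans (by simp [tuple])
    have := e c₀; have := e c; rw [hnz] at *; omega
  · have := congrArg (Multiset.count a) hnz
    rwa [Multiset.count_filter_of_pos (p := fun b : ℕ => b ≠ 0) ha,
      Multiset.count_filter_of_pos (p := fun b : ℕ => b ≠ 0) ha] at this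

theorem weight_comp {n : ℕ} (c' : Fin n → ℕ) (σ : Fin n ≃ Fin n) (f : F[X]) :
    weight (fun k => c' (σ k)) f = weight c' f := by
  classical
  let e : (∀ k, GL (Fin (c' (σ k))) F) ≃ (∀ k, GL (Fin (c' k)) F) := Equiv.piCongrLeft (fun k => GL (Fin (c' k)) F) σ
  rw [weight, weight, Nat.card_congr e]
  congr 2
  refine Nat.card_congr (e.subtypeEquiv fun A => ?_)
  have : ∀ k, e A (σ k) = A k := fun k => Equiv.piCongrLeft_apply_apply _ _ _ _
  rw [← σ.prod_comp (fun k => (e A k : Matrix (Fin (c' k)) (Fin (c' k)) F).charpoly)]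
  simp only [this]

theorem card_prop_congr {n : ℕ} {c c' : Fin n → ℕ} (h : tuple c = tuple c') (f : F[X]) :
    weight c f = weight c' f := by
  classical
  have hfib : ∀ a, Fintype.card {k // c k = a} = Fintype.card {k // c' k = a} := fun a => by
    have := congrArg (Multiset.count a) h
    simp only [tuple, Multiset.count_map] at this
    simpa [Fintype.card_subtype, Finset.card, Finset.filter, eq_comm] using this
  let σ : Fin n ≃ Fin n := Equiv.ofFiberEquiv (f := c) (g := c') fun a => Fintype.equivOfCardEq (hfib a)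
  have hσ : ∀ k, c' (σ k) = c k := fun k => Equiv.ofFiberEquiv_map _ k
  rw [show c = fun k => c' (σ k) from funext fun k => (hσ k).symm]
  exact weight_comp c' σ f

/-- Signed compositions in the definition of the unipotent character. -/
def part {n : ℕ} (ν : Fin n → ℕ) (κ : Equiv.Perm (Fin n)) : Fin n → ℕ := fun i => ν i + i.val - (κ i).val

theorem part_sum {n : ℕ} (ν : Fin n → ℕ) (hs : ∑ i, ν i = n) (κ : Equiv.Perm (Fin n))
    (hv : ∀ i : Fin n, (κ i).val ≤ ν i + i.val) : ∑ i, part ν κ i = n := by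
  have h1 : ∑ i, (part ν κ i + (κ i).val) = ∑ i : Fin n, (ν i + i.val) :=
    Finset.sum_congr rfl fun i _ => Nat.sub_add_cancel (hv i)
  rw [Finset.sum_add_distrib, Finset.sum_add_distrib, Equiv.sum_comp κ (fun i : Fin n => i.val), hs] at h1
  omega

theorem Φ_lt {n : ℕ} (ν : Fin n → ℕ) (hm : Monotone ν) (κ : Equiv.Perm (Fin n))
    (hv : ∀ i : Fin n, (κ i).val ≤ ν i + i.val) : Φ ν ≤ Φ (part ν κ) ∧ (Φ ν = Φ (part ν κ) → κ = 1) := by
  let l : Fin n → ℤ := fun i => (ν i : ℤ) + i.val
  let g : Fin n → ℤ := fun i => i.val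
  have hlt : ∀ {i j}, i < j → l i < l j := fun {i j} h => by
    have := hm h.le; have : i.val < j.val := h; simp only [l]; omega
  have hmv : Monovary l g := fun i j h => by
    simp only [g, Nat.cast_lt, Fin.val_fin_lt] at h
    exact (hlt h).le
  have h1 : ((Φ (part ν κ) : ℕ) : ℤ) = ∑ i, (l i ^ 2 + g (κ i) ^ 2 - 2 * (l i * g (κ i))) := by
    simp only [Φ, Nat.cast_sum, Nat.cast_pow]
    refine Finset.sum_congr rfl fun i _ => ?_
    rw [part, Nat.cast_sub (hv i)]; simp only [l, g]; push_cast; ring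
  have h2 : ((Φ ν : ℕ) : ℤ) = ∑ i, (l i ^ 2 + g i ^ 2 - 2 * (l i * g i)) := by
    simp only [Φ, Nat.cast_sum, Nat.cast_pow]
    refine Finset.sum_congr rfl fun i _ => ?_
    simp only [l, g]; ring
  simp only [Finset.sum_sub_distrib, Finset.sum_add_distrib, ← Finset.mul_sum] at h1 h2
  rw [Equiv.sum_comp κ (fun i => g i ^ 2)] at h1
  refine ⟨?_, fun h => ?_⟩
  · have := hmv.sum_mul_comp_perm_le_sum_mul (σ := κ)
    omega
  · have he : ∑ i, l i * g (κ i) = ∑ i, l i * g i := by omega
    have hmk := hmv.sum_mul_comp_perm_eq_sum_mul_iff.1 he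
    have hk : StrictMono κ := fun i j h => by
      by_contra hcon
      have hne : κ j < κ i := lt_of_le_of_ne (not_lt.1 hcon) (fun e => h.ne' (κ.injective e))
      have := hmk (i := j) (j := i) (by simp only [g, Function.comp_apply, Nat.cast_lt]; exact hne)
      exact absurd (hlt h) (not_lt.2 this)
    have hid : ⇑κ = id := (StrictMono.range_inj hk strictMono_id).1 (by simp [κ.surjective.range_eq])
    exact Equiv.ext (congrFun hid)


/-- The irreducible characters of `GL_n(q)` attached to different partitions of `n` (each written with `n` non-decreasing parts, zeros allowed) by the alternating sum of flag permutation characters are different. -/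
theorem result {F : Type*} [Field F] [Fintype F] {n : ℕ} (ν ν' : Fin n → ℕ) (hmono : Monotone ν) (hsum : ∑ i, ν i = n)
    (hmono' : Monotone ν') (hsum' : ∑ i, ν' i = n) (h : Cfsg.unipotentCharacterGL n F ν = Cfsg.unipotentCharacterGL n F ν') : ν = ν' := by
  classical
  have : Fintype (GL (Fin n) F) := Fintype.ofFinite _
  let V : (Fin n → ℕ) → Finset (Equiv.Perm (Fin n)) := fun ρ =>
    Finset.univ.filter fun κ => ∀ i : Fin n, (κ i).val ≤ ρ i + i.val
  let T := ((V ν).disjSum (V ν'))
  let co : Equiv.Perm (Fin n) ⊕ Equiv.Perm (Fin n) → Fin n → ℕ := Sum.elim (part ν) (part ν')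
  let a : Equiv.Perm (Fin n) ⊕ Equiv.Perm (Fin n) → ℂ :=
    Sum.elim (fun κ => ((Equiv.Perm.sign κ : ℤ) : ℂ)) (fun κ => -((Equiv.Perm.sign κ : ℤ) : ℂ))
  have hG : (Nat.card (GL (Fin n) F) : ℂ) ≠ 0 := by exact_mod_cast Nat.card_pos.ne'
  have hW : ∀ f : Polynomial F, ∑ t ∈ T, a t * weight (co t) f = 0 := by
    intro f
    have hD : ∀ (ρ : Fin n → ℕ), ∑ i, ρ i = n →
        ∑ g ∈ Finset.univ.filter (fun g : GL (Fin n) F => (g : Matrix (Fin n) (Fin n) F).charpoly = f),
          Cfsg.unipotentCharacterGL n F ρ g =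
        (Nat.card (GL (Fin n) F) : ℂ) * ∑ κ ∈ V ρ, ((Equiv.Perm.sign κ : ℤ) : ℂ) * weight (part ρ κ) f := by
      intro ρ hρ
      simp only [Cfsg.unipotentCharacterGL, ← Finset.sum_filter, V]
      rw [Finset.sum_comm, Finset.mul_sum]
      refine Finset.sum_congr rfl fun κ hκ => ?_
      rw [← Finset.mul_sum]
      have := sum_fixedPoint (F := F) (part ρ κ) (part_sum ρ hρ κ (Finset.mem_filter.1 hκ).2) f
      rw [mul_comm (Nat.card (GL (Fin n) F) : ℂ), mul_assoc, mul_comm (weight _ f), ← this]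
      rfl
    have h0 := hD ν hsum
    rw [h, hD ν' hsum'] at h0
    have := mul_left_cancel₀ hG h0
    simp only [T, Finset.sum_disjSum, co, a, Sum.elim_inl, Sum.elim_inr, neg_mul, Finset.sum_neg_distrib]
    rw [this]; ring
  have claim : ∀ K : Multiset ℕ, ∑ t ∈ T.filter (fun t => tuple (co t) = K), a t = 0 := by
    by_contra hcon
    push Not at hcon
    let S : Finset (Multiset ℕ) := (T.image fun t => tuple (co t)).filter
      fun K => ∑ t ∈ T.filter (fun t => tuple (co t) = K), a t ≠ 0
    obtain ⟨K, hK⟩ := hcon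
    have hKS : K ∈ S := by
      refine Finset.mem_filter.2 ⟨?_, hK⟩
      obtain ⟨t, ht, -⟩ := Finset.exists_ne_zero_of_sum_ne_zero hK
      rw [Finset.mem_filter] at ht
      exact ht.2 ▸ Finset.mem_image_of_mem _ ht.1
    obtain ⟨K₀, hK₀, hmax⟩ := S.exists_max_image (fun K => (K.map (· ^ 2)).sum) ⟨K, hKS⟩
    obtain ⟨hK₀i, hK₀ne⟩ := Finset.mem_filter.1 hK₀
    obtain ⟨t₀, -, rfl⟩ := Finset.mem_image.1 hK₀i
    have hΦ : ∀ c : Fin n → ℕ, ((tuple c).map (· ^ 2)).sum = Φ c := fun c => by simp [tuple, Φ, Finset.sum, Function.comp_def]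
    choose A₀ hA₀ using fun k => exists_block (F := F) (co t₀ k)
    let f : Polynomial F := ∏ k, (A₀ k : Matrix (Fin (co t₀ k)) (Fin (co t₀ k)) F).charpoly
    have hpos : weight (co t₀) f ≠ 0 := by
      have : Nonempty (Blocks F (co t₀) f) := ⟨⟨A₀, rfl⟩⟩
      exact div_ne_zero (by exact_mod_cast Nat.card_pos.ne') (by exact_mod_cast Nat.card_pos.ne')
    have h0 := hW f
    rw [← Finset.sum_fiberwise_of_maps_to (g := fun t => tuple (co t))
      (t := T.image fun t => tuple (co t)) (fun t ht => Finset.mem_image_of_mem _ ht),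
      Finset.sum_eq_single (tuple (co t₀))] at h0
    · rw [Finset.sum_congr rfl (g := fun t => a t * weight (co t₀) f)
        (fun t ht => by rw [card_prop_congr (Finset.mem_filter.1 ht).2]), ← Finset.sum_mul] at h0
      exact mul_ne_zero hK₀ne hpos h0
    · intro K hK hKne
      obtain ⟨t₁, -, rfl⟩ := Finset.mem_image.1 hK
      rw [Finset.sum_congr rfl (g := fun t => a t * weight (co t₁) f)
        (fun t ht => by rw [card_prop_congr (Finset.mem_filter.1 ht).2]), ← Finset.sum_mul]
      by_cases hw : Nat.card (Blocks F (co t₁) f) = 0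
      · rw [weight, hw]; simp
      · obtain ⟨hb⟩ := (Nat.card_pos_iff.1 (Nat.pos_of_ne_zero hw)).1
        obtain ⟨hle, heq⟩ := support_of_blocks (co t₀) (co t₁) A₀ hA₀ hb
        by_contra hne
        have hmem : tuple (co t₁) ∈ S := Finset.mem_filter.2 ⟨hK, fun h0 => hne (by rw [h0, zero_mul])⟩
        have := hmax _ hmem
        rw [hΦ, hΦ] at this
        exact hKne (heq (le_antisymm hle this)).symm
    · exact fun h => absurd hK₀i h
  have key : ∀ (ρ ρ' : Fin n → ℕ), Monotone ρ → Monotone ρ' →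
      (∑ κ ∈ (V ρ).filter (fun κ => tuple (part ρ κ) = tuple ρ), ((Equiv.Perm.sign κ : ℤ) : ℂ)) =
        ∑ κ ∈ (V ρ').filter (fun κ => tuple (part ρ' κ) = tuple ρ), ((Equiv.Perm.sign κ : ℤ) : ℂ) →
      Φ ρ' ≤ Φ ρ ∧ (Φ ρ' = Φ ρ → tuple ρ' = tuple ρ) := by
    intro ρ ρ' hρ hρ' he
    have hone : part ρ 1 = ρ := funext fun i => by simp [part]
    have hl : (V ρ).filter (fun κ => tuple (part ρ κ) = tuple ρ) = {1} := by
      refine Finset.eq_singleton_iff_unique_mem.2 ⟨?_, fun κ hκ => ?_⟩
      · simp only [V, Finset.mem_filter, Finset.mem_univ, true_and]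
        exact ⟨fun i => by simp, by rw [hone]⟩
      · simp only [V, Finset.mem_filter, Finset.mem_univ, true_and] at hκ
        exact (Φ_lt ρ hρ κ hκ.1).2 (Φ_congr hκ.2).symm
    rw [hl, Finset.sum_singleton, Equiv.Perm.sign_one] at he
    have hne : (∑ κ ∈ (V ρ').filter (fun κ => tuple (part ρ' κ) = tuple ρ), ((Equiv.Perm.sign κ : ℤ) : ℂ)) ≠ 0 := by
      rw [← he]; simp
    obtain ⟨κ, hκ, -⟩ := Finset.exists_ne_zero_of_sum_ne_zero hne
    simp only [V, Finset.mem_filter, Finset.mem_univ, true_and] at hκ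
    obtain ⟨h1, h2⟩ := Φ_lt ρ' hρ' κ hκ.1
    rw [Φ_congr hκ.2] at h1 h2
    refine ⟨h1, fun e => ?_⟩
    rw [← hκ.2, h2 e]
    exact congrArg tuple (funext fun i => by simp [part])
  have hK : ∀ K, (∑ κ ∈ (V ν).filter (fun κ => tuple (part ν κ) = K), ((Equiv.Perm.sign κ : ℤ) : ℂ)) =
      ∑ κ ∈ (V ν').filter (fun κ => tuple (part ν' κ) = K), ((Equiv.Perm.sign κ : ℤ) : ℂ) := fun K => by
    have := claim K
    simp only [T] at this
    rw [Finset.sum_filter, Finset.sum_disjSum] at this
    simp only [co, a, Sum.elim_inl, Sum.elim_inr] at this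
    rw [Finset.sum_filter (s := V ν), Finset.sum_filter (s := V ν')]
    refine eq_of_sub_eq_zero (Eq.trans ?_ this)
    simp only [sub_eq_add_neg, ← Finset.sum_neg_distrib]
    refine congrArg₂ (· + ·) rfl (Finset.sum_congr rfl fun x _ => ?_)
    by_cases hx : tuple (part ν' x) = K
    · exact (congrArg Neg.neg (if_pos hx)).trans (if_pos hx).symm
    · exact ((congrArg Neg.neg (if_neg hx)).trans neg_zero).trans (if_neg hx).symm
  obtain ⟨h1, h2⟩ := key ν ν' hmono hmono' (hK _)
  obtain ⟨h3, -⟩ := key ν' ν hmono' hmono (hK _).symm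
  have hperm := h2 (le_antisymm h1 h3)
  simp only [tuple, Fin.univ_val_map, Multiset.coe_eq_coe] at hperm
  exact List.ofFn_injective (hperm.eq_of_pairwise' (List.sortedLE_ofFn_iff.2 hmono').pairwise (List.sortedLE_ofFn_iff.2 hmono).pairwise).symm

end Cfsg.Agent.S2422
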