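import Cfsg.Statements.S2425
import Cfsg.Agent.Lib.Linear.SteinbergValue.Lattice
import Cfsg.Agent.Lib.Linear.SteinbergValue.Flags

set_option autoImplicit false
open scoped MatrixGroups
open Cfsg

namespace Cfsg.Agent.S2425

open Cfsg.Lib.Linear.StValue Polynomial

section Aux

variable {F : Type*} [Field F] [Fintype F] {M : Type*} [AddCommGroup M] [Module F M] [Module F[X] M]
  [IsScalarTower F F[X] M] [FiniteDimensional F M] [IsSemisimpleModule F[X] M]

omit [Fintype F] in
theorem finrank_add (A : Submodule F[X] M) :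
    Module.finrank F M = Module.finrank F A + Module.finrank F (M ⧸ A) := by
  rw [← chi_natDegree (F := F) (M := M), chi_eq_quotient_mul (F := F) A,
    natDegree_mul (chi_ne_zero _) (chi_ne_zero _), chi_natDegree, chi_natDegree]

omit [Fintype F] [IsSemisimpleModule F[X] M] in
theorem finrank_strictMono : StrictMono fun A : Submodule F[X] M => Module.finrank F A := by
  intro A B h
  exact Submodule.finrank_lt_finrank_of_lt (s := A.restrictScalars F) (t := B.restrictScalars F)
    ((Submodule.restrictScalars_lt F).2 h)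

open scoped Classical in
theorem recursion [Fintype (Submodule F[X] M)] (U : Submodule F[X] M) (hU : U ≠ ⊤) :
    ∑ W ∈ Finset.univ.filter (fun W => U ≤ W),
      (-1 : ℂ) ^ Module.finrank F W * val (chi (F := F) (M ⧸ W)) = 0 := by
  haveI : Finite M := finite_module F
  haveI : Finite (M ⧸ U) := finite_module F
  letI : Fintype (Submodule F[X] (M ⧸ U)) := Fintype.ofFinite _
  haveI : Nontrivial (M ⧸ U) := Submodule.Quotient.nontrivial_iff.2 hU
  have hz := sum_val _ (M ⧸ U) (F := F) rfl Module.finrank_pos
  have hmem : ∀ W : Submodule F[X] (M ⧸ U), U ≤ W.comap U.mkQ := fun W x hx => by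
    simp [Submodule.mem_comap, (Submodule.Quotient.mk_eq_zero U).2 hx]
  refine Eq.trans ?_ (mul_eq_zero_of_right ((-1 : ℂ) ^ Module.finrank F U) hz)
  rw [Finset.mul_sum]
  refine (Finset.sum_bij' (fun W _ => W.comap U.mkQ) (fun T _ => T.map U.mkQ)
    (fun W _ => Finset.mem_filter.2 ⟨Finset.mem_univ _, hmem W⟩)
    (fun _ _ => Finset.mem_univ _)
    (fun W _ => Submodule.map_comap_eq_of_surjective (Submodule.mkQ_surjective U) W)
    (fun T hT => by rw [Submodule.comap_map_mkQ, sup_eq_right.2 (Finset.mem_filter.1 hT).2])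
    (fun W _ => ?_)).symm
  let B := W.comap U.mkQ
  have hWB : W = B.map U.mkQ := (Submodule.map_comap_eq_of_surjective (Submodule.mkQ_surjective U) W).symm
  let e : ((M ⧸ U) ⧸ W) ≃ₗ[F[X]] M ⧸ B :=
    (Submodule.quotEquivOfEq _ _ hWB).trans (Submodule.quotientQuotientEquivQuotient U B (hmem W))
  have hq : chi (F := F) ((M ⧸ U) ⧸ W) = chi (F := F) (M ⧸ B) := chi_congr e
  have h1 := finrank_add (F := F) B
  have h2 := finrank_add (F := F) U
  have h3 := finrank_add (F := F) W
  have h4 : Module.finrank F ((M ⧸ U) ⧸ W) = Module.finrank F (M ⧸ B) := (e.restrictScalars F).finrank_eq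
  rw [hq, show Module.finrank F B = Module.finrank F U + Module.finrank F W by omega, pow_add, mul_assoc]

end Aux


/-- Values of the Steinberg character of `GL_n(q)` (the partition-indexed character for `ν = (1,…,1)`, of degree `q^(n(n−1)/2)`) at elements of order prime to the characteristic: if the characteristic polynomial of such an element is `∏ f^(m_f)` over distinct monic irreducible `f`, the value is `∏_f (−1)^((deg f − 1) m_f) q^(deg f · m_f (m_f − 1)/2)`. (At elements of order divisible by the characteristic the value is 0; that is not part of this statement.) -/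
theorem result {F : Type*} [Field F] [Fintype F] [DecidableEq F] {q : ℕ} (hq : Fintype.card F = q) (p : ℕ) [Fact p.Prime] [CharP F p]
    {n : ℕ} (x : GL (Fin n) F) (hx : (orderOf x).Coprime p) :
    Cfsg.unipotentCharacterGL n F (fun _ => 1) x =
      ∏ f ∈ (UniqueFactorizationMonoid.normalizedFactors (x : Matrix (Fin n) (Fin n) F).charpoly).toFinset,
        (-1 : ℂ) ^ ((f.natDegree - 1) * (UniqueFactorizationMonoid.normalizedFactors (x : Matrix (Fin n) (Fin n) F).charpoly).count f) *
          (q : ℂ) ^ (f.natDegree * (UniqueFactorizationMonoid.normalizedFactors (x : Matrix (Fin n) (Fin n) F).charpoly).count f *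
            ((UniqueFactorizationMonoid.normalizedFactors (x : Matrix (Fin n) (Fin n) F).charpoly).count f - 1) / 2) := by
  classical
  subst hq
  set A : Matrix (Fin n) (Fin n) F := (x : Matrix (Fin n) (Fin n) F) with hA
  let φ : Module.End F (Fin n → F) := Matrix.toLin' A
  let T := Module.AEval' φ
  let of : (Fin n → F) ≃ₗ[F] T := Module.AEval.of F (Fin n → F) φ
  haveI : IsSemisimpleModule F[X] T := by
    have hN : (orderOf x : F) ≠ 0 := by
      rw [Ne, CharP.cast_eq_zero_iff F p]
      exact fun h => (Fact.out : p.Prime).not_dvd_one ((Nat.coprime_iff_gcd_eq_one.1 hx) ▸ Nat.dvd_gcd h dvd_rfl)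
    refine Module.End.isSemisimple_of_squarefree_aeval_eq_zero
      (p := (X : F[X]) ^ orderOf x - 1) (X_pow_sub_one_separable_iff.2 hN).squarefree ?_
    have hpow : A ^ orderOf x = 1 := by
      rw [hA, ← Units.val_pow_eq_pow_val, pow_orderOf_eq_one, Units.val_one]
    rw [map_sub, map_pow, aeval_X, map_one, sub_eq_zero]
    show (Matrix.toLinAlgEquiv' A : Module.End F (Fin n → F)) ^ orderOf x = 1
    rw [← map_pow, hpow, map_one]
  haveI : Finite T := finite_module F
  letI : Fintype (Submodule F[X] T) := Fintype.ofFinite _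
  let dm : Submodule F[X] T → ℕ := fun W => Module.finrank F W
  have hdm : StrictMono dm := finrank_strictMono (F := F)
  have hT : Module.finrank F T = n := of.finrank_eq.symm.trans (by simp)
  have hdtop : dm ⊤ = n := ((Submodule.topEquiv (R := F[X]) (M := T)).restrictScalars F).finrank_eq.trans hT
  have hdbot : dm ⊥ = 0 := by
    show Module.finrank F (⊥ : Submodule F[X] T) = 0
    exact Module.finrank_zero_of_subsingleton
  let g : Submodule F[X] T → ℂ := fun W => val (chi (F := F) (T ⧸ W))
  have hg1 : g ⊤ = 1 := by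
    simp only [g]
    rw [chi_subsingleton, val_one]
  have hrec := altSum_eq dm hdm g hg1 (fun U hU => recursion U hU) n ⊥ (by rw [hdbot, hdtop, zero_add])
  have hbot : g ⊥ = val A.charpoly := by
    simp only [g]
    rw [chi_congr (Submodule.quotEquivOfEqBot (⊥ : Submodule F[X] T) rfl), chi]
    congr 1
    have hmul : mulX (F := F) T = of.conj φ := by
      refine LinearMap.ext fun m => ?_
      obtain ⟨v, rfl⟩ := of.surjective m
      rw [LinearEquiv.conj_apply_apply, LinearEquiv.symm_apply_apply, mulX_apply]
      exact Module.AEval.X_smul_of φ v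
    rw [hmul, LinearEquiv.charpoly_conj, ← LinearMap.charpoly_toMatrix φ (Pi.basisFun F (Fin n))]
    congr 1
    show LinearMap.toMatrix _ _ (Matrix.toLin' A) = A
    rw [LinearMap.toMatrix_eq_toMatrix', LinearMap.toMatrix'_toLin']
  refine Eq.trans ?_ (Eq.trans (hrec.trans hbot) ?_)
  swap
  · rw [val]
    simp only [part]
    congr!
  rw [altSum, Cfsg.unipotentCharacterGL]
  refine Finset.sum_congr rfl fun κ _ => ?_
  have hcond : (∀ i : Fin n, (κ i).val ≤ (fun _ => 1) i + i.val) ↔ Adm κ :=
    ⟨fun h i => by have := h i; simp only at this; omega, fun h i => by have := h i; show (κ i).val ≤ 1 + i.val; omega⟩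
  by_cases hκ : Adm κ
  swap
  · rw [if_neg (hcond.not.2 hκ), if_neg hκ]
  rw [if_pos (hcond.2 hκ), if_pos hκ]
  congr 1
  have hpart : (fun i : Fin n => 1 + i.val - (κ i).val) = steps 0 κ := funext fun i => by
    simp [steps, add_comm]
  have hsum : ∑ i, steps 0 κ i = n := by
    have h2 : ∑ i : Fin n, (steps 0 κ i + (κ i).val) = ∑ i : Fin n, (i.val + 1) :=
      Finset.sum_congr rfl fun i _ => by
        have := hκ i
        simp only [steps]
        split_ifs <;> omega
    rw [Finset.sum_add_distrib, Finset.sum_add_distrib, Equiv.sum_comp κ (fun i : Fin n => i.val)] at h2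
    simp only [Finset.sum_const, Finset.card_univ, Fintype.card_fin, smul_eq_mul, mul_one] at h2
    omega
  rw [hpart, fixedPointCharacter_eq _ hsum, chains_eq_card]
  congr 1
  -- invariant subspaces are the submodules
  let ι : Submodule F[X] T → Submodule F (Fin n → F) := fun W => (W.restrictScalars F).comap of.toLinearMap
  have hι : ∀ W, Module.finrank F (ι W) = dm W := fun W =>
    (LinearEquiv.ofSubmodule' of (W.restrictScalars F)).finrank_eq
  have hιle : ∀ W W', ι W ≤ ι W' ↔ W ≤ W' := fun W W' =>
    ⟨fun h m hm => by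
      obtain ⟨v, rfl⟩ := of.surjective m
      exact h hm, fun h v hv => h hv⟩
  have hιinv : ∀ W, (ι W).map φ ≤ ι W := by
    rintro W _ ⟨v, hv, rfl⟩
    show of (φ v) ∈ W
    rw [show of (φ v) = (X : F[X]) • of v from (Module.AEval.X_smul_of φ v).symm]
    exact W.smul_mem _ hv
  refine (Nat.card_eq_of_bijective (fun W => ⟨fun k => ι (W.1 k), fun i j h => (hιle _ _).2 (W.2.1 h),
    fun k => by rw [hι, W.2.2.2 k, hdbot, zero_add], fun k => hιinv _⟩) ⟨fun a b h => ?_, fun W => ?_⟩).symm
  · refine Subtype.ext (funext fun k => ?_)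
    have := congrFun (congrArg Subtype.val h) k
    exact le_antisymm ((hιle _ _).1 this.le) ((hιle _ _).1 this.ge)
  · obtain ⟨W, hm, hd, hinv⟩ := W
    have hW : ∀ k, ∃ U, ι U = W k := by
      intro k
      have hmem : W k ∈ (Algebra.lsmul F F (Fin n → F) φ).invtSubmodule := by
        intro v hv
        exact hinv k ⟨v, hv, rfl⟩
      refine ⟨Module.AEval.mapSubmodule F (Fin n → F) φ ⟨W k, hmem⟩, ?_⟩
      ext v
      show of v ∈ Module.AEval.mapSubmodule F (Fin n → F) φ ⟨W k, hmem⟩ ↔ v ∈ W k
      rw [Module.AEval.mem_mapSubmodule_apply]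
      show of.symm (of v) ∈ W k ↔ v ∈ W k
      rw [LinearEquiv.symm_apply_apply]
    choose U hU using hW
    refine ⟨⟨U, fun i j h => (hιle _ _).1 (by rw [hU, hU]; exact hm h), fun k => bot_le, fun k => ?_⟩,
      Subtype.ext (funext hU)⟩
    rw [← hι, hU, hd, hdbot, zero_add]

end Cfsg.Agent.S2425
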