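import Cfsg.Statements.S2427
import Cfsg.Agent.Lib.Linear.GLTwo
-- import your own Cfsg.Agent.* helpers here

set_option autoImplicit false
open Cfsg

namespace Cfsg.Agent.S2427

open Matrix MatrixGroups

/-- The group. -/
abbrev G := Matrix.SpecialLinearGroup (Fin 2) (ZMod 3)

/-- First generator of the quaternion subgroup. -/
def gi : G := ⟨!![0, 2; 1, 0], by decide⟩

/-- Second generator of the quaternion subgroup. -/
def gj : G := ⟨!![1, 1; 1, 2], by decide⟩

theorem card_G : Nat.card G = 24 := by
  rw [Cfsg.Lib.Linear.Two.card_SL_two, ZMod.card]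
  norm_num

theorem rel : gi ^ 4 = 1 ∧ gj ^ 2 = gi ^ 2 ∧ gi * gj = gj * gi⁻¹ ∧ gi ^ 2 ≠ 1 := by decide +kernel

theorem four_closed : ∀ a b : G, a ^ 4 = 1 → b ^ 4 = 1 → (a * b) ^ 4 = 1 := by decide +kernel

theorem comm_four : ∀ a b : G, (a * b * a⁻¹ * b⁻¹) ^ 4 = 1 := by decide +kernel

theorem four_comm : ∀ a : G, a ^ 4 = 1 → ∃ g h : G, g * h * g⁻¹ * h⁻¹ = a := by decide +kernel

theorem center_two : ∀ a : G, (∀ g : G, g * a = a * g) ↔ a = 1 ∨ a = -1 := by decide +kernel

set_option synthInstance.maxHeartbeats 400000 in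
set_option synthInstance.maxSize 512 in
theorem order_four_conj : ∀ a b : G, a ^ 4 = 1 → a ^ 2 ≠ 1 → b ^ 4 = 1 → b ^ 2 ≠ 1 →
    ∃ g : G, g * a * g⁻¹ = b := by decide +kernel

theorem sq_one : ∀ a : G, a ^ 2 = 1 → a = 1 ∨ a = -1 := by decide +kernel

set_option synthInstance.maxHeartbeats 400000 in
set_option synthInstance.maxSize 512 in
theorem order_three_conj : ∀ a b : G, a ^ 3 = 1 → a ≠ 1 → b ^ 3 = 1 → b ≠ 1 →
    ∃ g : G, g * a * g⁻¹ = b ∨ g * a⁻¹ * g⁻¹ = b := by decide +kernel

theorem three_gen : ∀ g : G, ∃ a : G, a ^ 3 = 1 ∧ ∃ b : G, b ^ 3 = 1 ∧ ∃ c : G, c ^ 3 = 1 ∧ a * b * c = g := by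
  decide +kernel

theorem orders : ∀ a : G, a ^ 4 = 1 ∨ a ^ 3 = 1 ∨ (a ^ 2) ^ 3 = 1 ∧ a ^ 2 ≠ 1 := by decide +kernel

theorem no_three_four : ∀ a : G, a ^ 4 = 1 → a ^ 3 = 1 → a = 1 := by decide +kernel

theorem count_four : (Finset.univ.filter fun a : G => a ^ 4 = 1).card = 8 := by decide +kernel

/-- The elements with fourth power one. -/
def Q : Subgroup G where
  carrier := {a | a ^ 4 = 1}
  mul_mem' := fun {a b} ha hb => four_closed a b ha hb
  one_mem' := one_pow 4
  inv_mem' := fun {a} ha => by
    show a⁻¹ ^ 4 = 1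
    rw [inv_pow, show a ^ 4 = 1 from ha, inv_one]

theorem mem_Q {a : G} : a ∈ Q ↔ a ^ 4 = 1 := Iff.rfl

theorem card_Q : Nat.card Q = 8 := by
  classical
  rw [← count_four, Nat.card_eq_fintype_card, Fintype.card_of_subtype]
  intro a
  rw [Finset.mem_filter]
  exact ⟨fun h => h.2, fun h => ⟨Finset.mem_univ a, h⟩⟩

theorem commutator_eq : commutator G = Q := by
  refine le_antisymm ?_ fun a ha => ?_
  · rw [commutator_eq_closure, Subgroup.closure_le]
    rintro _ ⟨g, h, rfl⟩
    exact comm_four g h
  · obtain ⟨g, h, rfl⟩ := four_comm a ha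
    rw [commutator_eq_closure]
    exact Subgroup.subset_closure ⟨g, h, rfl⟩

/-- The map from the quaternion group. -/
def quatFun : QuaternionGroup 2 → G
  | QuaternionGroup.a i => gi ^ i.val
  | QuaternionGroup.xa i => gj * gi ^ i.val

theorem quatFun_mul : ∀ x y : QuaternionGroup 2, quatFun (x * y) = quatFun x * quatFun y := by decide +kernel

theorem quatFun_inj : ∀ x y : QuaternionGroup 2, quatFun x = quatFun y → x = y := by decide +kernel

theorem quatFun_mem : ∀ x : QuaternionGroup 2, quatFun x ^ 4 = 1 := by decide +kernel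

/-- The group SL₂ over the field with 3 elements has order 24 and centre of order 2; its commutator subgroup has order 8, is isomorphic to the quaternion group of order 8 and is complemented by every Sylow 3-subgroup (so the group is a semidirect product of a quaternion group of order 8 by a cyclic group of order 3); and its only normal subgroups besides the trivial subgroup and the whole group are the centre and the commutator subgroup. -/
theorem result :
    Nat.card (Matrix.SpecialLinearGroup (Fin 2) (ZMod 3)) = 24 ∧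
    Nat.card (Subgroup.center (Matrix.SpecialLinearGroup (Fin 2) (ZMod 3))) = 2 ∧
    Nat.card (commutator (Matrix.SpecialLinearGroup (Fin 2) (ZMod 3))) = 8 ∧
    Nonempty (commutator (Matrix.SpecialLinearGroup (Fin 2) (ZMod 3)) ≃* QuaternionGroup 2) ∧
    (∀ P : Sylow 3 (Matrix.SpecialLinearGroup (Fin 2) (ZMod 3)),
      Subgroup.IsComplement' (commutator (Matrix.SpecialLinearGroup (Fin 2) (ZMod 3)))
        (P : Subgroup (Matrix.SpecialLinearGroup (Fin 2) (ZMod 3)))) ∧
    ∀ N : Subgroup (Matrix.SpecialLinearGroup (Fin 2) (ZMod 3)), N.Normal →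
      N = ⊥ ∨ N = ⊤ ∨ N = Subgroup.center (Matrix.SpecialLinearGroup (Fin 2) (ZMod 3)) ∨
        N = commutator (Matrix.SpecialLinearGroup (Fin 2) (ZMod 3)) := by
  classical
  refine ⟨card_G, ?_, by rw [commutator_eq, card_Q], ?_, fun P => ?_, fun N hN => ?_⟩
  · rw [Nat.card_eq_fintype_card, Fintype.card_of_subtype ({1, -1} : Finset G)]
    · rfl
    · intro a
      rw [Subgroup.mem_center_iff, center_two]
      simp
  · rw [commutator_eq]
    let f : QuaternionGroup 2 →* Q := MonoidHom.mk' (fun x => ⟨quatFun x, quatFun_mem x⟩)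
      (fun x y => Subtype.ext (quatFun_mul x y))
    have hf : Function.Bijective f := by
      rw [Nat.bijective_iff_injective_and_card, card_Q, Nat.card_eq_fintype_card, QuaternionGroup.card]
      exact ⟨fun x y h => quatFun_inj x y (congrArg Subtype.val h), rfl⟩
    exact ⟨(MulEquiv.ofBijective f hf).symm⟩
  · rw [commutator_eq]
    have hP : Nat.card (P : Subgroup G) = 3 := by
      rw [P.card_eq_multiplicity, card_G]
      have h24 : (24 : ℕ) = 3 ^ 1 * 8 := by norm_num
      rw [h24, Nat.factorization_mul (by norm_num) (by norm_num), Finsupp.add_apply,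
        Nat.Prime.factorization_pow Nat.prime_three, Nat.factorization_eq_zero_of_not_dvd (by norm_num : ¬ 3 ∣ 8)]
      simp
    exact Subgroup.isComplement'_of_coprime (by rw [card_Q, hP, card_G]) (by rw [card_Q, hP]; norm_num)
  · rw [commutator_eq]
    by_cases hle : N ≤ Q
    · by_cases h4 : ∃ a ∈ N, a ^ 2 ≠ 1
      · obtain ⟨a, ha, ha2⟩ := h4
        right; right; right
        refine le_antisymm hle fun b hb => ?_
        by_cases hb2 : b ^ 2 = 1
        · rcases sq_one b hb2 with rfl | rfl
          · exact one_mem N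
          · have e : a ^ 2 = -1 := (sq_one _ (by rw [← pow_mul]; exact hle ha)).resolve_left ha2
            exact e ▸ pow_mem ha 2
        · obtain ⟨g, hg⟩ := order_four_conj a b (hle ha) ha2 hb hb2
          exact hg ▸ hN.conj_mem a ha g
      · push_neg at h4
        by_cases h1 : (-1 : G) ∈ N
        · right; right; left
          refine le_antisymm (fun a ha => ?_) (fun a ha => ?_)
          · exact Subgroup.mem_center_iff.2 ((center_two a).2 (sq_one a (h4 a ha)))
          · rcases (center_two a).1 (Subgroup.mem_center_iff.1 ha) with rfl | rfl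
            exacts [one_mem N, h1]
        · left
          rw [Subgroup.eq_bot_iff_forall]
          intro a ha
          rcases sq_one a (h4 a ha) with rfl | rfl
          exacts [rfl, absurd ha h1]
    · right; left
      obtain ⟨a, ha, ha4⟩ := SetLike.not_le_iff_exists.1 hle
      obtain ⟨z, hz, hz3, hz1⟩ : ∃ z, z ∈ N ∧ z ^ 3 = 1 ∧ z ≠ 1 := by
        rcases orders a with h | h | ⟨h, h'⟩
        · exact absurd h ha4
        · exact ⟨a, ha, h, fun e => ha4 (by rw [e]; exact one_mem Q)⟩
        · exact ⟨a ^ 2, pow_mem ha 2, h, h'⟩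
      have hall : ∀ b : G, b ^ 3 = 1 → b ∈ N := by
        intro b hb
        by_cases hb1 : b = 1
        · rw [hb1]; exact one_mem N
        · obtain ⟨g, hg | hg⟩ := order_three_conj z b hz3 hz1 hb hb1
          · exact hg ▸ hN.conj_mem z hz g
          · exact hg ▸ hN.conj_mem _ (N.inv_mem hz) g
      rw [Subgroup.eq_top_iff']
      intro g
      obtain ⟨x, hx, y, hy, w, hw, rfl⟩ := three_gen g
      exact N.mul_mem (N.mul_mem (hall x hx) (hall y hy)) (hall w hw)

end Cfsg.Agent.S2427
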