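import Cfsg.Statements.S2428
import Cfsg.Agent.Lib.TwoDim.Normalizers
-- import your own Cfsg.Agent.* helpers here

set_option autoImplicit false
open Cfsg

namespace Cfsg.Agent.S2428


/-- Let F be a finite field with q elements, q odd, and let d be a diagonal element of SL₂ over F whose diagonal entry a has a² ≠ 1 (such d exist exactly when q > 3). Then the centraliser of d is precisely the diagonal subgroup T; the normaliser of T has order 2(q − 1) and exactly (q + 5)/2 conjugacy classes; and every element of that normaliser outside T has square equal to −1. -/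
theorem result {F : Type*} [Field F] [Fintype F] (hodd : Odd (Fintype.card F))
    (d : Matrix.SpecialLinearGroup (Fin 2) F) (hd01 : (d : Matrix (Fin 2) (Fin 2) F) 0 1 = 0) (hd10 : (d : Matrix (Fin 2) (Fin 2) F) 1 0 = 0) (hda : (d : Matrix (Fin 2) (Fin 2) F) 0 0 ^ 2 ≠ 1) :
    (∀ g : Matrix.SpecialLinearGroup (Fin 2) F, g ∈ Subgroup.centralizer ({d} : Set (Matrix.SpecialLinearGroup (Fin 2) F)) ↔ ((g : Matrix (Fin 2) (Fin 2) F) 0 1 = 0 ∧ (g : Matrix (Fin 2) (Fin 2) F) 1 0 = 0)) ∧
    Nat.card (Subgroup.normalizer ((Subgroup.centralizer ({d} : Set (Matrix.SpecialLinearGroup (Fin 2) F))) : Set (Matrix.SpecialLinearGroup (Fin 2) F))) = 2 * (Fintype.card F - 1) ∧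
    Nat.card (ConjClasses (Subgroup.normalizer ((Subgroup.centralizer ({d} : Set (Matrix.SpecialLinearGroup (Fin 2) F))) : Set (Matrix.SpecialLinearGroup (Fin 2) F)))) = (Fintype.card F + 5) / 2 ∧
    ∀ g : Matrix.SpecialLinearGroup (Fin 2) F, g ∈ Subgroup.normalizer ((Subgroup.centralizer ({d} : Set (Matrix.SpecialLinearGroup (Fin 2) F))) : Set (Matrix.SpecialLinearGroup (Fin 2) F)) →
      g ∉ Subgroup.centralizer ({d} : Set (Matrix.SpecialLinearGroup (Fin 2) F)) → ((g * g) : Matrix (Fin 2) (Fin 2) F) = -1 := by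
  classical
  have hdd : (d : Matrix (Fin 2) (Fin 2) F) 0 0 * (d : Matrix (Fin 2) (Fin 2) F) 1 1 = 1 := by
    have := Matrix.det_fin_two (d : Matrix (Fin 2) (Fin 2) F)
    rw [d.2, hd01, zero_mul, sub_zero] at this
    exact this.symm
  obtain ⟨a, ha⟩ := (Cfsg.Lib.TwoDim.mem_split_range (g := d)).2 ⟨hd01, hd10⟩
  have ha2 : a ^ 2 ≠ 1 := fun e => hda (by
    rw [← ha, Cfsg.Lib.TwoDim.splitSL_coe]
    simpa using congrArg Units.val e)
  have h := Cfsg.Lib.TwoDim.isTorus_split (F := F) ⟨a, ha2⟩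
  have hc : Subgroup.centralizer ({d} : Set (Matrix.SpecialLinearGroup (Fin 2) F)) = (Cfsg.Lib.TwoDim.splitSL F).range := by
    rw [← ha]; exact h.centralizer_singleton ha2
  rw [hc]
  have hn : Nat.card Fˣ = Fintype.card F - 1 := Cfsg.Lib.TwoDim.card_split
  have heven : 2 ∣ Nat.card Fˣ := by
    obtain ⟨m, hm⟩ := hodd
    exact ⟨m, by rw [hn]; omega⟩
  refine ⟨fun g => Cfsg.Lib.TwoDim.mem_split_range, by rw [h.card_normalizer, hn], ?_, fun g hg hg' => ?_⟩
  · have h2 := Cfsg.Lib.TwoDim.two_le_q (F := F)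
    have := h.card_conjClasses heven
    omega
  · have e := congrArg (fun z : Matrix.SpecialLinearGroup (Fin 2) F => (z : Matrix (Fin 2) (Fin 2) F))
      (h.sq_of_not_mem hg hg')
    rwa [Matrix.SpecialLinearGroup.coe_mul, Matrix.SpecialLinearGroup.coe_neg, Matrix.SpecialLinearGroup.coe_one] at e

end Cfsg.Agent.S2428
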