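import Cfsg.Statements.S2429
import Cfsg.Agent.Lib.TwoDim.Normalizers
-- import your own Cfsg.Agent.* helpers here

set_option autoImplicit false
open Cfsg

namespace Cfsg.Agent.S2429


/-- Let F be a finite field with q elements, q odd. Then SL₂ over F contains a cyclic subgroup T′ of order q + 1 (a non-split torus) with the following properties: T′ is its own centraliser, and indeed the centraliser of each element of T′ other than 1 and −1 is exactly T′; every element of SL₂ having no eigenvector in F² is conjugate to an element of T′; the normaliser of T′ has order 2(q + 1) and exactly (q + 7)/2 conjugacy classes; and every element of that normaliser outside T′ has square −1. -/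
theorem result {F : Type*} [Field F] [Fintype F] (hodd : Odd (Fintype.card F)) :
    ∃ T' : Subgroup (Matrix.SpecialLinearGroup (Fin 2) F), IsCyclic T' ∧ Nat.card T' = Fintype.card F + 1 ∧
      Subgroup.centralizer ((T' : Set (Matrix.SpecialLinearGroup (Fin 2) F))) = T' ∧
      (∀ g : Matrix.SpecialLinearGroup (Fin 2) F, g ∈ T' → (g : Matrix (Fin 2) (Fin 2) F) ≠ 1 → (g : Matrix (Fin 2) (Fin 2) F) ≠ -1 → Subgroup.centralizer ({g} : Set (Matrix.SpecialLinearGroup (Fin 2) F)) = T') ∧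
      (∀ g : Matrix.SpecialLinearGroup (Fin 2) F, (∀ (c : F) (v : Fin 2 → F), v ≠ 0 → (g : Matrix (Fin 2) (Fin 2) F).mulVec v ≠ c • v) → ∃ h : Matrix.SpecialLinearGroup (Fin 2) F, h * g * h⁻¹ ∈ T') ∧
      Nat.card (Subgroup.normalizer (T' : Set (Matrix.SpecialLinearGroup (Fin 2) F))) = 2 * (Fintype.card F + 1) ∧
      Nat.card (ConjClasses (Subgroup.normalizer (T' : Set (Matrix.SpecialLinearGroup (Fin 2) F)))) = (Fintype.card F + 7) / 2 ∧
      ∀ g : Matrix.SpecialLinearGroup (Fin 2) F, g ∈ Subgroup.normalizer (T' : Set (Matrix.SpecialLinearGroup (Fin 2) F)) → g ∉ T' → ((g * g) : Matrix (Fin 2) (Fin 2) F) = -1 := by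
  classical
  obtain ⟨w, h⟩ := Cfsg.Lib.TwoDim.exists_isTorus_nonsplit (F := F) hodd
  have hn := Cfsg.Lib.TwoDim.card_normOne (F := F)
  refine ⟨(Cfsg.Lib.TwoDim.torusSL (F := F)).range, ?_, by rw [h.card_range, hn], h.centralizer_range,
    fun g hg h1 h2 => ?_, fun g hg => ?_, by rw [h.card_normalizer, hn], ?_, fun g hg hg' => ?_⟩
  · exact isCyclic_of_surjective (Cfsg.Lib.TwoDim.torusSL (F := F)).rangeRestrict
      (Cfsg.Lib.TwoDim.torusSL (F := F)).rangeRestrict_surjective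
  · obtain ⟨k, rfl⟩ := hg
    refine h.centralizer_singleton fun e => ?_
    have e' : Cfsg.Lib.TwoDim.torusSL k ^ 2 = 1 := by rw [← map_pow, e, map_one]
    rcases Cfsg.Agent.S0261.sq_one (Cfsg.Agent.S0261.two_ne hodd) _ e' with e'' | e''
    exacts [h1 e'', h2 e'']
  · obtain ⟨k, x, hk, hx, -⟩ := Cfsg.Lib.TwoDim.exists_torus hg
    obtain ⟨z, hz⟩ := FiniteField.unitsMap_norm_surjective F (Cfsg.Lib.TwoDim.Quad F) ((Units.mk0 _ x.det_ne_zero)⁻¹)
    have hzn : Cfsg.Lib.TwoDim.nm (z : Cfsg.Lib.TwoDim.Quad F) = ((x : Matrix (Fin 2) (Fin 2) F).det)⁻¹ := by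
      have := congrArg Units.val hz
      rwa [Units.coe_map, Units.val_inv_eq_inv_val, Units.val_mk0] at this
    have hdet : ((x * Cfsg.Lib.TwoDim.torusHom z : GL (Fin 2) F) : Matrix (Fin 2) (Fin 2) F).det = 1 := by
      rw [Units.val_mul, Matrix.det_mul, Cfsg.Lib.TwoDim.det_torus, hzn, mul_inv_cancel₀ x.det_ne_zero]
    set s : Matrix.SpecialLinearGroup (Fin 2) F :=
      ⟨((x * Cfsg.Lib.TwoDim.torusHom z : GL (Fin 2) F) : Matrix (Fin 2) (Fin 2) F), hdet⟩ with hs
    refine ⟨s⁻¹, k, ?_⟩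
    rw [inv_inv]
    apply Matrix.SpecialLinearGroup.toGL_injective
    rw [← hx, map_mul, map_mul, map_inv, Cfsg.Lib.TwoDim.toGL_cj,
      show Matrix.SpecialLinearGroup.toGL s = x * Cfsg.Lib.TwoDim.torusHom z from Units.ext rfl,
      Cfsg.Lib.TwoDim.torusHom_coe_pow (k : (Cfsg.Lib.TwoDim.Quad F)ˣ) _ rfl, _root_.mul_inv_rev]
    have hc : (Cfsg.Lib.TwoDim.torusHom z)⁻¹ * Cfsg.Lib.TwoDim.torusHom (k : (Cfsg.Lib.TwoDim.Quad F)ˣ) * Cfsg.Lib.TwoDim.torusHom z =
        Cfsg.Lib.TwoDim.torusHom (k : (Cfsg.Lib.TwoDim.Quad F)ˣ) := by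
      rw [← map_inv, ← map_mul, ← map_mul, mul_right_comm, inv_mul_cancel, one_mul]
    conv_lhs => rw [← hc]
    group
  · have heven : 2 ∣ Nat.card ↥(Cfsg.Lib.TwoDim.normOne F) := by
      obtain ⟨m, hm⟩ := hodd
      exact ⟨m + 1, by rw [hn]; omega⟩
    have := h.card_conjClasses heven
    omega
  · have e := congrArg (fun z : Matrix.SpecialLinearGroup (Fin 2) F => (z : Matrix (Fin 2) (Fin 2) F))
      (h.sq_of_not_mem hg hg')
    rwa [Matrix.SpecialLinearGroup.coe_mul, Matrix.SpecialLinearGroup.coe_neg, Matrix.SpecialLinearGroup.coe_one] at e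

end Cfsg.Agent.S2429
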