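import Cfsg.Statements.S2430
import Cfsg.Agent.Lib.TwoDim.Sylows
-- import your own Cfsg.Agent.* helpers here

set_option autoImplicit false
open Cfsg

namespace Cfsg.Agent.S2430

theorem of_torus {F : Type*} [Field F] [Fintype F] {A : Type*} [CommGroup A] [Finite A] [IsCyclic A]
    {ι : A →* Matrix.SpecialLinearGroup (Fin 2) F} {w : Matrix.SpecialLinearGroup (Fin 2) F}
    (h : Cfsg.Lib.TwoDim.IsTorus ι w) {ℓ : ℕ} [Fact ℓ.Prime] (hℓ : ℓ ≠ 2) (hdvd : ℓ ∣ Nat.card A)
    (hcop : (Nat.card (Matrix.SpecialLinearGroup (Fin 2) F)).factorization ℓ = (Nat.card A).factorization ℓ)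
    (P : Sylow ℓ (Matrix.SpecialLinearGroup (Fin 2) F)) :
    Nat.card (Subgroup.centralizer ((P : Subgroup (Matrix.SpecialLinearGroup (Fin 2) F)) : Set (Matrix.SpecialLinearGroup (Fin 2) F))) = Nat.card A ∧
    IsCyclic (Subgroup.centralizer ((P : Subgroup (Matrix.SpecialLinearGroup (Fin 2) F)) : Set (Matrix.SpecialLinearGroup (Fin 2) F))) ∧
    Nat.card (Subgroup.normalizer ((P : Subgroup (Matrix.SpecialLinearGroup (Fin 2) F)) : Set (Matrix.SpecialLinearGroup (Fin 2) F))) = 2 * Nat.card A := by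
  obtain ⟨e, he⟩ := h.sylow_data hℓ hdvd hcop P
  rw [he]
  refine ⟨by rw [Cfsg.Lib.TwoDim.card_centralizer_map, h.centralizer_torusSylow hℓ hdvd, h.card_range], ?_,
    by rw [Cfsg.Lib.TwoDim.card_normalizer_map, h.normalizer_torusSylow hℓ hdvd, h.card_normalizer]⟩
  rw [Cfsg.Lib.TwoDim.centralizer_map_equiv, h.centralizer_torusSylow hℓ hdvd, MonoidHom.map_range]
  exact isCyclic_of_surjective _ (MonoidHom.rangeRestrict_surjective _)

/-- Let F be a finite field with q elements, q odd, ℓ an odd prime, and P a Sylow ℓ-subgroup of SL₂ over F. If ℓ divides q − 1, the centraliser of P is cyclic of order q − 1 (a split torus) and the normaliser of P has order 2(q − 1); if ℓ divides q + 1, the centraliser of P is cyclic of order q + 1 (a non-split torus) and the normaliser of P has order 2(q + 1). -/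
theorem result {F : Type*} [Field F] [Fintype F] (hodd : Odd (Fintype.card F)) (ℓ : ℕ) [Fact ℓ.Prime] (hℓ : ℓ ≠ 2)
    (P : Sylow ℓ (Matrix.SpecialLinearGroup (Fin 2) F)) :
    (ℓ ∣ Fintype.card F - 1 →
      Nat.card (Subgroup.centralizer ((P : Subgroup (Matrix.SpecialLinearGroup (Fin 2) F)) : Set (Matrix.SpecialLinearGroup (Fin 2) F))) = Fintype.card F - 1 ∧
      IsCyclic (Subgroup.centralizer ((P : Subgroup (Matrix.SpecialLinearGroup (Fin 2) F)) : Set (Matrix.SpecialLinearGroup (Fin 2) F))) ∧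
      Nat.card (Subgroup.normalizer ((P : Subgroup (Matrix.SpecialLinearGroup (Fin 2) F)) : Set (Matrix.SpecialLinearGroup (Fin 2) F))) = 2 * (Fintype.card F - 1)) ∧
    (ℓ ∣ Fintype.card F + 1 →
      Nat.card (Subgroup.centralizer ((P : Subgroup (Matrix.SpecialLinearGroup (Fin 2) F)) : Set (Matrix.SpecialLinearGroup (Fin 2) F))) = Fintype.card F + 1 ∧
      IsCyclic (Subgroup.centralizer ((P : Subgroup (Matrix.SpecialLinearGroup (Fin 2) F)) : Set (Matrix.SpecialLinearGroup (Fin 2) F))) ∧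
      Nat.card (Subgroup.normalizer ((P : Subgroup (Matrix.SpecialLinearGroup (Fin 2) F)) : Set (Matrix.SpecialLinearGroup (Fin 2) F))) = 2 * (Fintype.card F + 1)) := by
  classical
  have h2 := Cfsg.Lib.TwoDim.two_le_q (F := F)
  have hℓp : ℓ.Prime := Fact.out
  refine ⟨fun hd => ?_, fun hd => ?_⟩
  · have h5 : 5 ≤ Fintype.card F := by
      have hle := Nat.le_of_dvd (by omega) hd
      have := hℓp.two_le
      obtain ⟨m, hm⟩ := hodd
      omega
    have h := Cfsg.Lib.TwoDim.isTorus_split (Cfsg.Lib.TwoDim.exists_reg_units h5)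
    have hn : Nat.card Fˣ = Fintype.card F - 1 := Cfsg.Lib.TwoDim.card_split
    have := of_torus h hℓ (hn ▸ hd) (by
      rw [hn]
      exact Cfsg.Lib.TwoDim.sl_factorization_pm hℓp hℓ (n := Fintype.card F - 1) (m := Fintype.card F + 1) rfl
        (Or.inl (by omega)) hd) P
    rw [hn] at this
    exact this
  · obtain ⟨w, h⟩ := Cfsg.Lib.TwoDim.exists_isTorus_nonsplit (F := F) hodd
    have hn := Cfsg.Lib.TwoDim.card_normOne (F := F)
    have := of_torus h hℓ (hn ▸ hd) (by
      rw [hn]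
      exact Cfsg.Lib.TwoDim.sl_factorization_pm hℓp hℓ (n := Fintype.card F + 1) (m := Fintype.card F - 1)
        (mul_comm _ _) (Or.inr (by omega)) hd) P
    rw [hn] at this
    exact this

end Cfsg.Agent.S2430
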