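import Cfsg.Statements.S2433
import Cfsg.Agent.Lib.TwoDim.SLFamilies
import Cfsg.Agent.Lib.TwoDim.Recognise
-- import your own Cfsg.Agent.* helpers here

set_option autoImplicit false
open Cfsg

namespace Cfsg.Agent.S2433


/-- Let F be a finite field with q elements, q odd, α a multiplicative character of F, and R(α) the function on SL₂ induced from the linear character b ↦ α(b₁₁) of the upper triangular subgroup. Then R(α) takes the value α(a) + α(a⁻¹) at a diagonal element with entries a, a⁻¹, a² ≠ 1; the value 0 at every element with no eigenvector in F²; the value α(ε) at an upper triangular element with both diagonal entries ε and non-zero upper right entry; and the value (q + 1)α(ε) at the scalar element ε (ε = ±1). -/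
theorem result {F : Type*} [Field F] [Fintype F] [DecidableEq F] (hodd : Odd (Fintype.card F)) (α : MulChar F ℂ) (g : Matrix.SpecialLinearGroup (Fin 2) F) :
    ((g : Matrix (Fin 2) (Fin 2) F) 0 1 = 0 → (g : Matrix (Fin 2) (Fin 2) F) 1 0 = 0 → (g : Matrix (Fin 2) (Fin 2) F) 0 0 ^ 2 ≠ 1 →
      (Cfsg.indFun ((Cfsg.upperTriangularGL 2 F).comap Matrix.SpecialLinearGroup.toGL) (fun b => α (((b : Matrix.SpecialLinearGroup (Fin 2) F) : Matrix (Fin 2) (Fin 2) F) 0 0))) g = α ((g : Matrix (Fin 2) (Fin 2) F) 0 0) + α ((g : Matrix (Fin 2) (Fin 2) F) 1 1)) ∧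
    ((∀ (c : F) (v : Fin 2 → F), v ≠ 0 → (g : Matrix (Fin 2) (Fin 2) F).mulVec v ≠ c • v) → (Cfsg.indFun ((Cfsg.upperTriangularGL 2 F).comap Matrix.SpecialLinearGroup.toGL) (fun b => α (((b : Matrix.SpecialLinearGroup (Fin 2) F) : Matrix (Fin 2) (Fin 2) F) 0 0))) g = 0) ∧
    ((g : Matrix (Fin 2) (Fin 2) F) 1 0 = 0 → (g : Matrix (Fin 2) (Fin 2) F) 0 0 = (g : Matrix (Fin 2) (Fin 2) F) 1 1 → (g : Matrix (Fin 2) (Fin 2) F) 0 1 ≠ 0 →
      (Cfsg.indFun ((Cfsg.upperTriangularGL 2 F).comap Matrix.SpecialLinearGroup.toGL) (fun b => α (((b : Matrix.SpecialLinearGroup (Fin 2) F) : Matrix (Fin 2) (Fin 2) F) 0 0))) g = α ((g : Matrix (Fin 2) (Fin 2) F) 0 0)) ∧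
    ((g : Matrix (Fin 2) (Fin 2) F) 0 1 = 0 → (g : Matrix (Fin 2) (Fin 2) F) 1 0 = 0 → (g : Matrix (Fin 2) (Fin 2) F) 0 0 = (g : Matrix (Fin 2) (Fin 2) F) 1 1 →
      (Cfsg.indFun ((Cfsg.upperTriangularGL 2 F).comap Matrix.SpecialLinearGroup.toGL) (fun b => α (((b : Matrix.SpecialLinearGroup (Fin 2) F) : Matrix (Fin 2) (Fin 2) F) 0 0))) g = ((Fintype.card F : ℂ) + 1) * α ((g : Matrix (Fin 2) (Fin 2) F) 0 0)) := by
  rw [Cfsg.Lib.TwoDim.indFun_psR]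
  simp only [Cfsg.Lib.TwoDim.psR, Cfsg.Lib.TwoDim.sF_apply]
  refine ⟨fun h01 h10 hne => ?_, fun hell => ?_, fun h10 he h01 => ?_, fun h01 h10 he => ?_⟩
  · obtain ⟨ht, hd⟩ := Cfsg.Lib.TwoDim.trace_det_diag h01
    rw [g.2] at hd
    have ha0 : (g : Matrix (Fin 2) (Fin 2) F) 0 0 ≠ 0 := left_ne_zero_of_mul (hd ▸ one_ne_zero)
    have hinv : (g : Matrix (Fin 2) (Fin 2) F) 1 1 = ((g : Matrix (Fin 2) (Fin 2) F) 0 0)⁻¹ :=
      eq_inv_of_mul_eq_one_right hd.symm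
    rw [Cfsg.Lib.TwoDim.ofData_of_not (Cfsg.Lib.TwoDim.not_isSc_of_diag
        (hinv ▸ Cfsg.Lib.TwoDim.ne_inv_of_sq ha0 hne)), ht, g.2, hinv, Cfsg.Lib.TwoDim.psV_one_split ha0 hne]
  · rw [Cfsg.Lib.TwoDim.ofData_of_not (Cfsg.Lib.TwoDim.not_isSc_of_no_eigen hell), Cfsg.Lib.TwoDim.psV,
      Cfsg.Lib.TwoDim.roots_of_no_eigen hell, Finset.sum_empty]
  · obtain ⟨ht, hd⟩ := Cfsg.Lib.TwoDim.trace_det_upper h10 he
    rw [g.2] at hd
    rw [Cfsg.Lib.TwoDim.ofData_of_not (Cfsg.Lib.TwoDim.not_isSc_of_upper h01), ht, g.2,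
      Cfsg.Lib.TwoDim.psV_one_double hd.symm]
  · obtain ⟨-, hd⟩ := Cfsg.Lib.TwoDim.trace_det_upper h10 he
    rw [g.2] at hd
    rw [Cfsg.Lib.TwoDim.ofData, if_pos ⟨h01, h10, he⟩, Cfsg.Lib.TwoDim.psS_one hd.symm]

end Cfsg.Agent.S2433
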