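import Cfsg.Statements.S2434
import Cfsg.Agent.Lib.TwoDim.Torus
-- import your own Cfsg.Agent.* helpers here

set_option autoImplicit false
open Cfsg

namespace Cfsg.Agent.S2434


/-- Let F be a finite field with q elements, q odd, and C a cyclic subgroup of order q + 1 of SL₂ over F (a non-split torus; it contains the centre). For every homomorphism θ from C to the non-zero complex numbers with θ² ≠ 1 there is an irreducible complex character χ of degree q − 1 such that χ(c) = −θ(c) − θ(c)⁻¹ for every non-central c in C, χ(zg) = θ(z)χ(g) for central z in C, χ vanishes at diagonal elements with entry a, a² ≠ 1, and χ takes the value −1 at every upper unitriangular element other than 1. Conversely every irreducible character of degree q − 1 has, for some such θ, the values −θ(c) − θ(c)⁻¹ at the non-central elements c of C (for q ≥ 5 these are exactly the cuspidal characters of degree q − 1). -/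
theorem result {F : Type*} [Field F] [Fintype F] (hodd : Odd (Fintype.card F))
    (C : Subgroup (Matrix.SpecialLinearGroup (Fin 2) F)) (hC : IsCyclic C) (hcard : Nat.card C = Fintype.card F + 1) :
    (∀ θ : C →* ℂˣ, (∃ c : C, θ c ^ 2 ≠ 1) →
      ∃ χ : Matrix.SpecialLinearGroup (Fin 2) F → ℂ, Cfsg.IsIrrCharacter (Matrix.SpecialLinearGroup (Fin 2) F) χ ∧ χ 1 = (Fintype.card F : ℂ) - 1 ∧
        (∀ c : C, (c : Matrix.SpecialLinearGroup (Fin 2) F) ∉ Subgroup.center (Matrix.SpecialLinearGroup (Fin 2) F) → χ c = -((θ c).val + (θ c)⁻¹.val)) ∧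
        (∀ c : C, (c : Matrix.SpecialLinearGroup (Fin 2) F) ∈ Subgroup.center (Matrix.SpecialLinearGroup (Fin 2) F) → ∀ g : Matrix.SpecialLinearGroup (Fin 2) F, χ ((c : Matrix.SpecialLinearGroup (Fin 2) F) * g) = (θ c).val * χ g) ∧
        (∀ g : Matrix.SpecialLinearGroup (Fin 2) F, (g : Matrix (Fin 2) (Fin 2) F) 0 1 = 0 → (g : Matrix (Fin 2) (Fin 2) F) 1 0 = 0 → (g : Matrix (Fin 2) (Fin 2) F) 0 0 ^ 2 ≠ 1 → χ g = 0) ∧
        (∀ g : Matrix.SpecialLinearGroup (Fin 2) F, (g : Matrix (Fin 2) (Fin 2) F) 1 0 = 0 → (g : Matrix (Fin 2) (Fin 2) F) 0 0 = 1 → (g : Matrix (Fin 2) (Fin 2) F) 1 1 = 1 → (g : Matrix (Fin 2) (Fin 2) F) 0 1 ≠ 0 → χ g = -1)) ∧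
    (∀ χ : Matrix.SpecialLinearGroup (Fin 2) F → ℂ, Cfsg.IsIrrCharacter (Matrix.SpecialLinearGroup (Fin 2) F) χ → χ 1 = (Fintype.card F : ℂ) - 1 →
      ∃ θ : C →* ℂˣ, (∃ c : C, θ c ^ 2 ≠ 1) ∧
        ∀ c : C, (c : Matrix.SpecialLinearGroup (Fin 2) F) ∉ Subgroup.center (Matrix.SpecialLinearGroup (Fin 2) F) → χ c = -((θ c).val + (θ c)⁻¹.val)) := by
  classical
  obtain ⟨D⟩ := Cfsg.Lib.TwoDim.exists_halfData (F := F) hodd
  obtain ⟨x, hx⟩ := Cfsg.Lib.TwoDim.exists_torus_of_cyclic hodd hC hcard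
  set ι := (Cfsg.Lib.TwoDim.cj x).comp (Cfsg.Lib.TwoDim.torusSL (F := F)) with hι
  have hinj : Function.Injective ι := (Cfsg.Lib.TwoDim.cj_injective x).comp Cfsg.Lib.TwoDim.torusSL_injective
  let e : ↥(Cfsg.Lib.TwoDim.normOne F) ≃* C := (MonoidHom.ofInjective hinj).trans (MulEquiv.subgroupCongr hx)
  have he : ∀ k, ((e k : C) : Matrix.SpecialLinearGroup (Fin 2) F) = ι k := fun k => rfl
  have hchar := D.hchar
  have hcen : ∀ k, (k : ↥(Cfsg.Lib.TwoDim.normOne F)) ^ 2 = 1 → ι k = 1 ∨ ι k = -1 := by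
    intro k hk
    have hk' := congrArg (fun z : ↥(Cfsg.Lib.TwoDim.normOne F) => ((z : (Cfsg.Lib.TwoDim.Quad F)ˣ) : Cfsg.Lib.TwoDim.Quad F)) hk
    simp only [Subgroup.coe_pow, Units.val_pow_eq_pow_val, Subgroup.coe_one, Units.val_one] at hk'
    have hcoe : (Cfsg.Lib.TwoDim.torusSL k : Matrix (Fin 2) (Fin 2) F) = (Algebra.leftMulMatrix (Cfsg.Lib.TwoDim.quadBasis (F := F)))
        ((k : (Cfsg.Lib.TwoDim.Quad F)ˣ) : Cfsg.Lib.TwoDim.Quad F) := rfl
    rcases sq_eq_one_iff.1 hk' with e1 | e1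
    · left
      have : Cfsg.Lib.TwoDim.torusSL k = 1 := Subtype.ext (hcoe.trans (by rw [e1, map_one]; rfl))
      rw [hι, MonoidHom.comp_apply, this, map_one]
    · right
      have : (Cfsg.Lib.TwoDim.torusSL k : Matrix (Fin 2) (Fin 2) F) = -1 := hcoe.trans (by rw [e1, map_neg, map_one])
      refine Subtype.ext ?_
      rw [hι, MonoidHom.comp_apply, Cfsg.Lib.TwoDim.cj_coe, this, Matrix.SpecialLinearGroup.coe_neg,
        Matrix.SpecialLinearGroup.coe_one, mul_neg, mul_one, neg_mul, ← Units.val_mul, mul_inv_cancel, Units.val_one]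
  have hout : ∀ c : C, (c : Matrix.SpecialLinearGroup (Fin 2) F) ∉ Subgroup.center (Matrix.SpecialLinearGroup (Fin 2) F) →
      ((e.symm c : (Cfsg.Lib.TwoDim.Quad F)ˣ) : Cfsg.Lib.TwoDim.Quad F) ∈ Cfsg.Lib.TwoDim.outside := by
    intro c hc
    refine Cfsg.Lib.TwoDim.mem_outside_of_normOne fun h2 => hc ?_
    rw [← e.apply_symm_apply c, he]
    rcases hcen _ h2 with h | h <;> rw [h]
    · exact one_mem _
    · exact Subgroup.mem_center_iff.2 fun g => by rw [mul_neg, neg_mul, mul_one, one_mul]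
  refine ⟨fun θ hθ => ?_, fun χ hχ hdeg => ?_⟩
  · set φ : ↥(Cfsg.Lib.TwoDim.normOne F) →* ℂˣ := θ.comp e.toMonoidHom with hφ
    have hφ2 : φ ^ 2 ≠ 1 := by
      obtain ⟨c, hc⟩ := hθ
      intro h
      have := DFunLike.congr_fun h (e.symm c)
      rw [MonoidHom.pow_apply, hφ, MonoidHom.comp_apply, MulEquiv.coe_toMonoidHom, e.apply_symm_apply,
        MonoidHom.one_apply] at this
      exact hc this
    refine ⟨Cfsg.Lib.TwoDim.cuQ φ, Cfsg.Lib.TwoDim.irr_cuQ hφ2, ?_, fun c hc => ?_, fun c hc g => ?_,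
      fun g h01 h10 hne => Cfsg.Lib.TwoDim.cuQ_diag φ h01 hne,
      fun g h10 h00 h11 h01 => Cfsg.Lib.TwoDim.cuQ_unip φ h10 h00 h11 h01⟩
    · rw [Cfsg.Lib.TwoDim.cuQ, Cfsg.Lib.TwoDim.cuR_one, Nat.cast_sub Fintype.card_pos, Nat.cast_one]
    · conv_lhs => rw [← e.apply_symm_apply c, he, hι, MonoidHom.comp_apply, Cfsg.Lib.TwoDim.cuQ_torus φ (hout c hc)]
      rw [hφ, MonoidHom.comp_apply, MulEquiv.coe_toMonoidHom, e.apply_symm_apply, Units.val_inv_eq_inv_val]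
    · have hk : ((e.symm c : (Cfsg.Lib.TwoDim.Quad F)ˣ) : Cfsg.Lib.TwoDim.Quad F) ∉ Cfsg.Lib.TwoDim.outside := by
        intro hk
        have hsc : Cfsg.Lib.TwoDim.IsSc ((ι (e.symm c)) : Matrix (Fin 2) (Fin 2) F) := by
          rw [← he, e.apply_symm_apply]
          obtain ⟨r, -, hr⟩ := Matrix.SpecialLinearGroup.mem_center_iff.1 hc
          exact Cfsg.Lib.TwoDim.isSc_iff.2 ⟨r, by rw [← hr, Matrix.scalar_apply, Matrix.smul_one_eq_diagonal]⟩
        have hsc' : Cfsg.Lib.TwoDim.IsSc ((Cfsg.Lib.TwoDim.torusSL (e.symm c)) : Matrix (Fin 2) (Fin 2) F) := by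
          refine (Cfsg.Lib.TwoDim.isSc_conj x.det_ne_zero ?_).2 hsc
          rw [hι, MonoidHom.comp_apply, Cfsg.Lib.TwoDim.cj_coe, mul_assoc (_ * _), Units.inv_mul, mul_one]
        exact (Cfsg.Lib.TwoDim.isSc_torus _).1 hsc' hk
      have hθc : (θ c).val = Cfsg.Lib.TwoDim.lift1 φ ((e.symm c : (Cfsg.Lib.TwoDim.Quad F)ˣ) : Cfsg.Lib.TwoDim.Quad F) := by
        rw [Cfsg.Lib.TwoDim.lift1_apply, hφ, MonoidHom.comp_apply, MulEquiv.coe_toMonoidHom, e.apply_symm_apply]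
      have hk2 : (e.symm c) ^ 2 = 1 := by
        by_contra h
        exact hk (Cfsg.Lib.TwoDim.mem_outside_of_normOne h)
      rcases hcen _ hk2 with h | h <;> rw [← he, e.apply_symm_apply] at h
      · have hc1 : c = 1 := Subtype.ext h
        rw [h, one_mul, hc1, map_one, Units.val_one, one_mul]
      · have hk' := congrArg (fun z : ↥(Cfsg.Lib.TwoDim.normOne F) => ((z : (Cfsg.Lib.TwoDim.Quad F)ˣ) : Cfsg.Lib.TwoDim.Quad F)) hk2
        simp only [Subgroup.coe_pow, Units.val_pow_eq_pow_val, Subgroup.coe_one, Units.val_one] at hk'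
        rcases sq_eq_one_iff.1 hk' with e1 | e1
        · exfalso
          have hsym : e.symm c = 1 := Subtype.ext (Units.ext e1)
          have hc1 : c = 1 := by rw [← e.apply_symm_apply c, hsym, map_one]
          rw [hc1, Subgroup.coe_one] at h
          have := congrArg (fun z : Matrix.SpecialLinearGroup (Fin 2) F => (z : Matrix (Fin 2) (Fin 2) F) 0 0) h
          simp at this
          exact Ring.two_ne_zero hchar (by linear_combination this)
        · have hεdef : Cfsg.Lib.TwoDim.cuQ φ (-1) = (θ c).val * Cfsg.Lib.TwoDim.cuQ φ 1 := by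
            rw [Cfsg.Lib.TwoDim.neg_one_val_cuQ, hθc, e1, map_neg, map_one]
          rw [h, neg_mul, one_mul, Cfsg.Lib.TwoDim.apply_neg_mul (Cfsg.Lib.TwoDim.irr_cuQ hφ2) hεdef g]
  · have h2 : 2 ≤ Fintype.card F := Cfsg.Lib.TwoDim.two_le_q
    have hq2 : Fintype.card F % 2 = 1 := Nat.odd_iff.1 hodd
    have e3 : ((Fintype.card F - 1 : ℕ) : ℂ) = (Fintype.card F : ℂ) - 1 := by
      rw [Nat.cast_sub (by omega), Nat.cast_one]
    rw [← e3] at hdeg
    have mk : ∀ φ : ↥(Cfsg.Lib.TwoDim.normOne F) →* ℂˣ, φ ^ 2 ≠ 1 →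
        ∃ c : C, (φ.comp e.symm.toMonoidHom) c ^ 2 ≠ 1 := by
      intro φ hφ
      by_contra! h
      refine hφ (MonoidHom.ext fun k => ?_)
      have := h (e k)
      rwa [MonoidHom.comp_apply, MulEquiv.coe_toMonoidHom, e.symm_apply_apply] at this
    rcases Cfsg.Lib.TwoDim.odd_cases D hχ with ⟨a, b⟩ | ⟨a, b⟩ | ⟨a, b⟩ | ⟨a, b⟩ | ⟨a, b⟩ | ⟨a, b⟩ <;>
      rw [hdeg, Nat.cast_inj] at b
    · exfalso; omega
    · exfalso; omega
    · exfalso; omega
    · obtain ⟨φ, hφ, rfl⟩ := Cfsg.Lib.TwoDim.mem_cuSet1.1 a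
      refine ⟨φ.comp e.symm.toMonoidHom, mk φ hφ, fun c hc => ?_⟩
      conv_lhs => rw [← e.apply_symm_apply c, he, hι, MonoidHom.comp_apply, Cfsg.Lib.TwoDim.cuQ_torus φ (hout c hc)]
      rw [MonoidHom.comp_apply, MulEquiv.coe_toMonoidHom, Units.val_inv_eq_inv_val]
    · have h3 : Fintype.card F = 3 := by omega
      have hne : (Cfsg.Lib.TwoDim.cuSet1 F).Nonempty := by
        rw [← Finset.card_pos]
        have := Cfsg.Lib.TwoDim.two_mul_card_cuSet1 (F := F)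
        rw [h3, show Nat.gcd (3 + 1) 2 = 2 by decide] at this
        omega
      obtain ⟨f, hf⟩ := hne
      obtain ⟨φ, hφ, -⟩ := Cfsg.Lib.TwoDim.mem_cuSet1.1 hf
      refine ⟨φ.comp e.symm.toMonoidHom, mk φ hφ, fun c hc => ?_⟩
      have hk := hout c hc
      rw [MonoidHom.comp_apply, MulEquiv.coe_toMonoidHom, Units.val_inv_eq_inv_val,
        Cfsg.Lib.TwoDim.cuQ_three h3 hφ hk, neg_zero]
      obtain ⟨ν, ψ, -, hs⟩ := D.p_half a
      rw [← e.apply_symm_apply c, he, hι, MonoidHom.comp_apply]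
      set k := e.symm c
      have hsc : ¬ Cfsg.Lib.TwoDim.IsSc ((Cfsg.Lib.TwoDim.cj x (Cfsg.Lib.TwoDim.torusSL k)) : Matrix (Fin 2) (Fin 2) F) := by
        intro hh
        refine (Cfsg.Lib.TwoDim.isSc_torus _).1 ((Cfsg.Lib.TwoDim.isSc_conj x.det_ne_zero ?_).2 hh) hk
        rw [Cfsg.Lib.TwoDim.cj_coe, mul_assoc (_ * _), Units.inv_mul, mul_one,
          Cfsg.Lib.TwoDim.torusSL_coe]
      have htr : ((Cfsg.Lib.TwoDim.cj x (Cfsg.Lib.TwoDim.torusSL k)) : Matrix (Fin 2) (Fin 2) F).trace =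
          Cfsg.Lib.TwoDim.tr ((k : (Cfsg.Lib.TwoDim.Quad F)ˣ) : Cfsg.Lib.TwoDim.Quad F) := by
        rw [Cfsg.Lib.TwoDim.cj_coe, Matrix.trace_mul_cycle, ← Units.val_mul, inv_mul_cancel, Units.val_one, one_mul,
          Cfsg.Lib.TwoDim.torusSL_coe, Cfsg.Lib.TwoDim.trace_torus]
      have hr := Cfsg.Lib.TwoDim.roots_tr_nm hk
      rw [Cfsg.Lib.TwoDim.mem_normOne.1 k.2] at hr
      have := hs.regular hchar hsc (by
        rw [htr]
        intro h4
        rcases eq_or_eq_neg_of_sq_eq_sq _ (2 : F) (h4.trans (by norm_num)) with e1 | e1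
        · refine Finset.notMem_empty (1 : F) (hr ▸ ?_)
          rw [Cfsg.Lib.TwoDim.mem_roots, e1]; ring
        · refine Finset.notMem_empty (-1 : F) (hr ▸ ?_)
          rw [Cfsg.Lib.TwoDim.mem_roots, e1]; ring)
      rw [Cfsg.Lib.TwoDim.psR, Cfsg.Lib.TwoDim.sF_cj, ← Cfsg.Lib.TwoDim.psR] at this
      rw [Cfsg.Lib.TwoDim.psR, Cfsg.Lib.TwoDim.sF_apply, Cfsg.Lib.TwoDim.torusSL_coe,
        Cfsg.Lib.TwoDim.ofData_of_not (fun hh => (Cfsg.Lib.TwoDim.isSc_torus _).1 hh hk),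
        Cfsg.Lib.TwoDim.trace_torus, Cfsg.Lib.TwoDim.det_torus, Cfsg.Lib.TwoDim.psV_elliptic hk] at this
      linear_combination (1 / 2 : ℂ) * this
    · exfalso; omega

end Cfsg.Agent.S2434
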