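import Cfsg.Statements.S2435
import Cfsg.Agent.Lib.TwoDim.SLValues
-- import your own Cfsg.Agent.* helpers here

set_option autoImplicit false
open Cfsg

namespace Cfsg.Agent.S2435


/-- Let F be a finite field with q elements, q odd and q ≥ 5, and χ an irreducible complex character of SL₂ over F. If χ has degree (q + 1)/2, then at a diagonal element with entry a, a² ≠ 1, χ takes the value 1 when a is a square in F and −1 otherwise. If χ has degree (q − 1)/2, then at an element g with no eigenvector in F² (so g has order dividing q + 1), χ takes the value −1 when g raised to the power (q + 1)/2 is the identity and the value 1 otherwise. -/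
theorem result {F : Type*} [Field F] [Fintype F] (hodd : Odd (Fintype.card F)) (hq : 5 ≤ Fintype.card F)
    (χ : Matrix.SpecialLinearGroup (Fin 2) F → ℂ) (hχ : Cfsg.IsIrrCharacter (Matrix.SpecialLinearGroup (Fin 2) F) χ) (g : Matrix.SpecialLinearGroup (Fin 2) F) :
    (χ 1 = (((Fintype.card F + 1) / 2 : ℕ) : ℂ) → (g : Matrix (Fin 2) (Fin 2) F) 0 1 = 0 → (g : Matrix (Fin 2) (Fin 2) F) 1 0 = 0 → (g : Matrix (Fin 2) (Fin 2) F) 0 0 ^ 2 ≠ 1 →
      (IsSquare ((g : Matrix (Fin 2) (Fin 2) F) 0 0) → χ g = 1) ∧ (¬ IsSquare ((g : Matrix (Fin 2) (Fin 2) F) 0 0) → χ g = -1)) ∧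
    (χ 1 = (((Fintype.card F - 1) / 2 : ℕ) : ℂ) → (∀ (c : F) (v : Fin 2 → F), v ≠ 0 → (g : Matrix (Fin 2) (Fin 2) F).mulVec v ≠ c • v) →
      (((g ^ ((Fintype.card F + 1) / 2)) : Matrix (Fin 2) (Fin 2) F) = 1 → χ g = -1) ∧ (((g ^ ((Fintype.card F + 1) / 2)) : Matrix (Fin 2) (Fin 2) F) ≠ 1 → χ g = 1)) := by
  classical
  obtain ⟨D⟩ := Cfsg.Lib.TwoDim.exists_halfData (F := F) hodd
  have hq2 : Fintype.card F % 2 = 1 := Nat.odd_iff.1 hodd
  refine ⟨fun hd h01 h10 hne => ?_, fun hd hell => ?_⟩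
  · obtain ⟨h0, -⟩ := Cfsg.Lib.TwoDim.sF_diag (fun _ => 0) (fun _ _ => 0) h01 hne
    rcases Cfsg.Lib.TwoDim.odd_cases D hχ with ⟨a, b⟩ | ⟨a, b⟩ | ⟨a, b⟩ | ⟨a, b⟩ | ⟨a, b⟩ | ⟨a, b⟩
    case inr.inr.inr.inr.inl =>
      rw [(D.p_half a).diag_ps D.hchar D.α0_sq h01 hne]
      exact Cfsg.Lib.TwoDim.quadratic_cases D.α0_sq D.α0_ne h0
    all_goals (exfalso; rw [hd, Nat.cast_inj] at b; omega)
  · obtain ⟨k, x, hk, hx, -⟩ := Cfsg.Lib.TwoDim.exists_torus hell
    rcases Cfsg.Lib.TwoDim.odd_cases D hχ with ⟨a, b⟩ | ⟨a, b⟩ | ⟨a, b⟩ | ⟨a, b⟩ | ⟨a, b⟩ | ⟨a, b⟩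
    case inr.inr.inr.inr.inr =>
      rw [(D.c_half a).elliptic_cu D.hchar D.φ0_sq hell hk hx]
      have hcases := Cfsg.Lib.TwoDim.invol_hom_cases (C := ↥(Cfsg.Lib.TwoDim.normOne F))
        (m := (Fintype.card F + 1) / 2) (by rw [Cfsg.Lib.TwoDim.card_normOne]; omega) D.φ0_sq D.φ0_ne k
      have hiff : (((g ^ ((Fintype.card F + 1) / 2)) : Matrix (Fin 2) (Fin 2) F) = 1) ↔
          k ^ ((Fintype.card F + 1) / 2) = 1 := by
        rw [← hx, ← Matrix.SpecialLinearGroup.coe_pow, ← map_pow, ← map_pow]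
        constructor
        · intro e
          apply Cfsg.Lib.TwoDim.torusSL_injective
          have e1 : Cfsg.Lib.TwoDim.cj x (Cfsg.Lib.TwoDim.torusSL (k ^ ((Fintype.card F + 1) / 2))) = 1 :=
            Subtype.ext e
          have e2 := congrArg (Cfsg.Lib.TwoDim.cj x⁻¹) e1
          rwa [← Cfsg.Lib.TwoDim.cj_mul, inv_mul_cancel, Cfsg.Lib.TwoDim.cj_one, map_one, ← map_one Cfsg.Lib.TwoDim.torusSL] at e2
        · intro e
          rw [e, map_one, map_one]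
          rfl
      exact ⟨fun e => by rw [hcases.1 (hiff.1 e)], fun e => by rw [hcases.2 fun e' => e (hiff.2 e'), neg_neg]⟩
    all_goals (exfalso; rw [hd, Nat.cast_inj] at b; omega)

end Cfsg.Agent.S2435
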