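import Cfsg.Statements.S2437
import Cfsg.Agent.Lib.TwoDim.Norm
import Cfsg.Agent.Lib.Concrete.GL2Basic
-- import your own Cfsg.Agent.* helpers here

set_option autoImplicit false
open Cfsg

namespace Cfsg.Agent.S2437

open Matrix MatrixGroups

variable {F : Type*} [Field F]

/-- The Borel subgroup. -/
abbrev B (F : Type*) [Field F] : Subgroup SL(2, F) :=
  (Cfsg.upperTriangularGL 2 F).comap Matrix.SpecialLinearGroup.toGL

theorem mem_B {g : SL(2, F)} : g ∈ B F ↔ (g : Matrix (Fin 2) (Fin 2) F) 1 0 = 0 := by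
  rw [Subgroup.mem_comap, Cfsg.Lib.Concrete.mem_upperTriangularGL_two]
  rfl

/-- The element with given parameters. -/
def mk (x : Fˣ × F) : B F :=
  ⟨⟨!![(x.1 : F), x.2; 0, (↑x.1⁻¹ : F)], by simp [Matrix.det_fin_two]⟩, mem_B.2 (by simp)⟩

theorem mk_coe (x : Fˣ × F) : (((mk x : B F) : SL(2, F)) : Matrix (Fin 2) (Fin 2) F) =
    !![(x.1 : F), x.2; 0, (↑x.1⁻¹ : F)] := rfl

theorem mk_bijective : Function.Bijective (mk (F := F)) := by
  refine ⟨fun x y h => ?_, fun g => ?_⟩
  · have h' := congrArg (fun z : B F => ((z : SL(2, F)) : Matrix (Fin 2) (Fin 2) F)) h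
    simp only [mk_coe] at h'
    refine Prod.ext (Units.ext ?_) ?_
    · simpa using congrFun (congrFun h' 0) 0
    · simpa using congrFun (congrFun h' 0) 1
  · have h10 := mem_B.1 g.2
    have hd : ((g : SL(2, F)) : Matrix (Fin 2) (Fin 2) F) 0 0 * ((g : SL(2, F)) : Matrix (Fin 2) (Fin 2) F) 1 1 = 1 := by
      have := Matrix.det_fin_two ((g : SL(2, F)) : Matrix (Fin 2) (Fin 2) F)
      rw [(g : SL(2, F)).2, h10, mul_zero, sub_zero] at this
      exact this.symm
    refine ⟨(Units.mk0 _ (left_ne_zero_of_mul_eq_one hd), ((g : SL(2, F)) : Matrix (Fin 2) (Fin 2) F) 0 1), ?_⟩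
    refine Subtype.ext (Subtype.ext ?_)
    rw [mk_coe]
    ext i j
    fin_cases i <;> fin_cases j <;> simp [h10, ← eq_inv_of_mul_eq_one_right hd]

theorem commute_mk (a c : Fˣ) (b d : F) : Commute (mk (a, b)) (mk (c, d)) ↔
    d * ((a : F) - (↑a⁻¹ : F)) = b * ((c : F) - (↑c⁻¹ : F)) := by
  rw [commute_iff_eq]
  constructor
  · intro h
    have := congrArg (fun z : B F => ((z : SL(2, F)) : Matrix (Fin 2) (Fin 2) F) 0 1) h
    simp only [Subgroup.coe_mul, Matrix.SpecialLinearGroup.coe_mul, mk_coe] at this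
    simp [Matrix.mul_apply, Fin.sum_univ_two] at this
    rw [Units.val_inv_eq_inv_val, Units.val_inv_eq_inv_val]
    linear_combination this
  · intro h
    rw [Units.val_inv_eq_inv_val, Units.val_inv_eq_inv_val] at h
    refine Subtype.ext (Subtype.ext ?_)
    show (((mk (a, b) : B F) : SL(2, F)) : Matrix (Fin 2) (Fin 2) F) * (((mk (c, d) : B F) : SL(2, F)) : Matrix (Fin 2) (Fin 2) F) =
      (((mk (c, d) : B F) : SL(2, F)) : Matrix (Fin 2) (Fin 2) F) * (((mk (a, b) : B F) : SL(2, F)) : Matrix (Fin 2) (Fin 2) F)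
    rw [mk_coe, mk_coe]
    ext i j
    fin_cases i <;> fin_cases j <;> simp [Matrix.mul_apply, Fin.sum_univ_two, mul_comm]
    linear_combination h

variable [Fintype F] [DecidableEq F]

theorem card_line (α β : F) :
    (Finset.univ.filter fun p : F × F => p.2 * α = p.1 * β).card =
      if α = 0 ∧ β = 0 then Fintype.card F ^ 2 else Fintype.card F := by
  split_ifs with h
  · rw [Finset.filter_true_of_mem fun p _ => by rw [h.1, h.2, mul_zero, mul_zero], Finset.card_univ,
      Fintype.card_prod, sq]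
  · rw [← Finset.card_univ (α := F)]
    by_cases hα : α = 0
    · have hβ : β ≠ 0 := fun e => h ⟨hα, e⟩
      refine Finset.card_bij' (fun p _ => p.2) (fun d _ => (0, d)) ?_ ?_ ?_ ?_
      · intro p _; exact Finset.mem_univ _
      · intro d _; simp [hα]
      · intro p hp
        simp only [Finset.mem_filter, Finset.mem_univ, true_and, hα, mul_zero] at hp
        exact Prod.ext ((mul_eq_zero.1 hp.symm).resolve_right hβ).symm rfl
      · intro d _; rfl
    · refine Finset.card_bij' (fun p _ => p.1) (fun b _ => (b, b * β / α)) ?_ ?_ ?_ ?_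
      · intro p _; exact Finset.mem_univ _
      · intro b _; simp [hα]
      · intro p hp
        simp only [Finset.mem_filter, Finset.mem_univ, true_and] at hp
        refine Prod.ext rfl ?_
        show p.1 * β / α = p.2
        rw [← hp, mul_div_assoc, div_self hα, mul_one]
      · intro b _; rfl

/-- Over a finite field F with q elements, q odd, the upper triangular subgroup of SL₂ (a Borel subgroup, of order q(q − 1)) has exactly q + 3 conjugacy classes. -/
theorem result {F : Type*} [Field F] [Fintype F] (hodd : Odd (Fintype.card F)) :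
    Nat.card (ConjClasses ((Cfsg.upperTriangularGL 2 F).comap Matrix.SpecialLinearGroup.toGL)) = Fintype.card F + 3 := by
  classical
  have hchar : (2 : F) ≠ 0 := fun h => by
    haveI : CharP F 2 := CharTwo.of_one_ne_zero_of_two_eq_zero one_ne_zero h
    have h1 := FiniteField.even_card_of_char_two (ringChar.eq F 2)
    rw [Nat.odd_iff] at hodd
    omega
  set q := Fintype.card F with hq
  have h2 : 2 ≤ q := Fintype.one_lt_card
  set e := Equiv.ofBijective (mk (F := F)) mk_bijective with he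
  have hcard : Nat.card (B F) = (q - 1) * q := by
    rw [← Nat.card_congr e, Nat.card_prod, Nat.card_eq_fintype_card, Nat.card_eq_fintype_card, Fintype.card_units]
  have h0 := card_comm_eq_card_conjClasses_mul_card (B F)
  have e1 : Nat.card {p : B F × B F // Commute p.1 p.2} =
      Nat.card {p : (Fˣ × F) × (Fˣ × F) // p.2.2 * ((p.1.1 : F) - (↑p.1.1⁻¹ : F)) = p.1.2 * ((p.2.1 : F) - (↑p.2.1⁻¹ : F))} := by
    refine (Nat.card_congr (Equiv.subtypeEquiv (e.prodCongr e) fun p => ?_)).symm
    exact (commute_mk p.1.1 p.2.1 p.1.2 p.2.2).symm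
  have e2 : Nat.card {p : (Fˣ × F) × (Fˣ × F) // p.2.2 * ((p.1.1 : F) - (↑p.1.1⁻¹ : F)) = p.1.2 * ((p.2.1 : F) - (↑p.2.1⁻¹ : F))} =
      ∑ ac : Fˣ × Fˣ, (Finset.univ.filter fun p : F × F =>
        p.2 * ((ac.1 : F) - (↑ac.1⁻¹ : F)) = p.1 * ((ac.2 : F) - (↑ac.2⁻¹ : F))).card := by
    rw [← Finset.card_sigma, ← Fintype.card_coe, ← Nat.card_eq_fintype_card]
    refine Nat.card_congr
      { toFun := fun p => ⟨⟨(p.1.1.1, p.1.2.1), (p.1.1.2, p.1.2.2)⟩, Finset.mem_sigma.2 ⟨Finset.mem_univ _,
          Finset.mem_filter.2 ⟨Finset.mem_univ _, p.2⟩⟩⟩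
        invFun := fun x => ⟨((x.1.1.1, x.1.2.1), (x.1.1.2, x.1.2.2)),
          (Finset.mem_filter.1 (Finset.mem_sigma.1 x.2).2).2⟩
        left_inv := fun _ => rfl
        right_inv := fun _ => rfl }
  have hpm : (Finset.univ.filter fun a : Fˣ => (a : F) - (↑a⁻¹ : F) = 0).card = 2 := by
    rw [show (Finset.univ.filter fun a : Fˣ => (a : F) - (↑a⁻¹ : F) = 0) = {1, -1} from ?_, Finset.card_pair]
    · intro h
      have := congrArg Units.val h
      simp at this
      exact hchar (by linear_combination this)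
    · ext a
      rw [Finset.mem_filter, Finset.mem_insert, Finset.mem_singleton, sub_eq_zero, Units.val_inv_eq_inv_val,
        eq_comm, inv_eq_self₀]
      constructor
      · rintro ⟨-, h | h | h⟩
        · exact Or.inr (Units.ext (h.trans (by rw [Units.val_neg, Units.val_one])))
        · exact absurd h a.ne_zero
        · exact Or.inl (Units.ext (h.trans Units.val_one.symm))
      · rintro (rfl | rfl)
        · exact ⟨Finset.mem_univ _, Or.inr (Or.inr Units.val_one)⟩
        · exact ⟨Finset.mem_univ _, Or.inl (by rw [Units.val_neg, Units.val_one])⟩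
  have hs : ∑ ac : Fˣ × Fˣ, (Finset.univ.filter fun p : F × F =>
        p.2 * ((ac.1 : F) - (↑ac.1⁻¹ : F)) = p.1 * ((ac.2 : F) - (↑ac.2⁻¹ : F))).card = q * (q - 1) * (q + 3) := by
    rw [Finset.sum_congr rfl (g := fun ac : Fˣ × Fˣ => if (ac.1 : F) - (↑ac.1⁻¹ : F) = 0 ∧ (ac.2 : F) - (↑ac.2⁻¹ : F) = 0
      then q ^ 2 else q) fun ac _ => Eq.trans (congrArg Finset.card (Finset.ext fun p =>
        ⟨fun e => Finset.mem_filter.2 ⟨Finset.mem_univ _, (Finset.mem_filter.1 e).2⟩,
          fun e => Finset.mem_filter.2 ⟨Finset.mem_univ _, (Finset.mem_filter.1 e).2⟩⟩))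
        ((card_line ((ac.1 : F) - (↑ac.1⁻¹ : F)) ((ac.2 : F) - (↑ac.2⁻¹ : F))).trans (if_congr Iff.rfl rfl rfl))]
    set S := (Finset.univ.filter fun a : Fˣ => (a : F) - (↑a⁻¹ : F) = 0) with hS
    rw [← Finset.sum_filter_add_sum_filter_not Finset.univ (fun ac : Fˣ × Fˣ => ac ∈ S ×ˢ S)]
    have c1 : (Finset.univ.filter fun ac : Fˣ × Fˣ => ac ∈ S ×ˢ S).card = 4 := by
      rw [Finset.filter_mem_eq_inter, Finset.univ_inter, Finset.card_product, hpm]
    have c2 : (Finset.univ.filter fun ac : Fˣ × Fˣ => ac ∉ S ×ˢ S).card + 4 = (q - 1) * (q - 1) := by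
      rw [← c1, add_comm, Finset.card_filter_add_card_filter_not, Finset.card_univ, Fintype.card_prod,
        Fintype.card_units]
    rw [Finset.sum_congr rfl (g := fun _ => q ^ 2) fun ac hac => ?_,
      Finset.sum_congr (s₁ := Finset.univ.filter fun ac : Fˣ × Fˣ => ac ∉ S ×ˢ S) rfl (g := fun _ => q) fun ac hac => ?_,
      Finset.sum_const, Finset.sum_const, c1, smul_eq_mul, smul_eq_mul]
    · zify [show 1 ≤ q by omega] at c2 ⊢
      linear_combination (q : ℤ) * c2
    · rw [if_neg]
      rw [Finset.mem_filter, Finset.mem_product, hS, Finset.mem_filter, Finset.mem_filter] at hac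
      simpa using hac.2
    · rw [if_pos]
      rw [Finset.mem_filter, Finset.mem_product, hS, Finset.mem_filter, Finset.mem_filter] at hac
      exact ⟨hac.2.1.2, hac.2.2.2⟩
  rw [e1, e2, hs, hcard] at h0
  have hpos : 0 < (q - 1) * q := Nat.mul_pos (by omega) (by omega)
  exact Nat.eq_of_mul_eq_mul_right hpos (by rw [← h0]; ring)

end Cfsg.Agent.S2437
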