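import Cfsg.Statements.S2436
import Cfsg.Agent.Lib.TwoDim.McKay
import Cfsg.Agent.Lib.Linear.GLTwo
import Cfsg.Agent.S2437
-- import your own Cfsg.Agent.* helpers here

set_option autoImplicit false
open Cfsg

namespace Cfsg.Agent.S2436

open Cfsg.Lib.TwoDim
open scoped MatrixGroups

variable {F : Type*} [Field F] [Fintype F]

theorem torus_case [DecidableEq F] {A : Type*} [CommGroup A] [Finite A] [IsCyclic A] {ι : A →* SL(2, F)}
    {w : SL(2, F)} (h : IsTorus ι w) {m : ℕ} (hnm : Nat.card A * m = (Fintype.card F - 1) * (Fintype.card F + 1))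
    (hm : Nat.card A + 2 = m ∨ m + 2 = Nat.card A) {ℓ : ℕ} [Fact ℓ.Prime] (hℓ : ℓ ≠ 2) (hdvd : ℓ ∣ Nat.card A)
    (heven : 2 ∣ Nat.card A) (S : Sylow ℓ SL(2, F)) :
    2 * primeCount ℓ ↥(Subgroup.normalizer ((S : Subgroup SL(2, F)) : Set SL(2, F))) = Nat.card A + 6 := by
  obtain ⟨e, he⟩ := h.sylow_data hℓ hdvd (sl_factorization_pm Fact.out hℓ hnm hm hdvd) S
  set N := Subgroup.normalizer (ι.range : Set SL(2, F))
  let E : ↥N ≃* ↥(Subgroup.normalizer ((S : Subgroup SL(2, F)) : Set SL(2, F))) :=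
    (e.subgroupMap N).trans (MulEquiv.subgroupCongr (by
      rw [he, ← Subgroup.map_equiv_normalizer_eq, h.normalizer_torusSylow hℓ hdvd]; rfl))
  have : Finite ↥N := inferInstance
  have hn : (ι.range.subgroupOf N).Normal := Subgroup.normal_in_normalizer
  have hidx : (ι.range.subgroupOf N).index = 2 := by
    have e1 := (ι.range.subgroupOf N).index_mul_card
    rw [Nat.card_congr (Subgroup.subgroupOfEquivOfLe (Subgroup.le_normalizer : ι.range ≤ N)).toEquiv, h.card_range,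
      h.card_normalizer] at e1
    exact Nat.eq_of_mul_eq_mul_right Nat.card_pos e1
  rw [primeCount_of_abelian E (ι.range.subgroupOf N) (by
    rintro a ⟨x, hx⟩ b ⟨y, hy⟩
    refine Subtype.ext ?_
    show (a : SL(2, F)) * b = b * a
    have hx' : ι x = a := hx
    have hy' : ι y = b := hy
    rw [← hx', ← hy', ← map_mul, ← map_mul, mul_comm]) hidx
    (fun hd => hℓ ((Nat.prime_dvd_prime_iff_eq Fact.out Nat.prime_two).1 hd)),
    h.card_conjClasses heven]

theorem def_case {ℓ : ℕ} [Fact ℓ.Prime] [CharP F ℓ] (hodd : Odd (Fintype.card F)) (S : Sylow ℓ SL(2, F)) :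
    primeCount ℓ ↥(Subgroup.normalizer ((S : Subgroup SL(2, F)) : Set SL(2, F))) = Fintype.card F + 3 := by
  classical
  obtain ⟨g, hg⟩ := Cfsg.Lib.Linear.Two.exists_conj_UT ℓ S
  have hN : Subgroup.normalizer (Cfsg.Lib.Linear.Two.UT F : Set SL(2, F)) = S2437.B F := by
    ext x
    rw [S2437.mem_B]
    show x ∈ _ ↔ (Matrix.SpecialLinearGroup.toGL x).val 1 0 = 0
    rw [← Cfsg.Lib.Linear.Two.normalizer_UG, Subgroup.mem_normalizer_iff, Subgroup.mem_normalizer_iff]
    have hi := Cfsg.Lib.Linear.toGL_injective' (ι := Fin 2) (F := F)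
    constructor
    · intro h y
      constructor
      · rintro ⟨u, hu, rfl⟩
        exact ⟨x * u * x⁻¹, (h u).1 hu, by rw [map_mul, map_mul, map_inv]⟩
      · rintro ⟨u, hu, e⟩
        refine ⟨x⁻¹ * u * x, (h _).2 (by rwa [show x * (x⁻¹ * u * x) * x⁻¹ = u by group]), ?_⟩
        rw [map_mul, map_mul, map_inv, e]
        group
    · intro h u
      rw [← Subgroup.mem_map_iff_mem hi (K := Cfsg.Lib.Linear.Two.UT F),
        ← Subgroup.mem_map_iff_mem hi (K := Cfsg.Lib.Linear.Two.UT F), map_mul, map_mul, map_inv]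
      exact h _
  have hS : (S : Subgroup SL(2, F)) = (Cfsg.Lib.Linear.Two.UT F).map (MulAut.conj g).toMonoidHom := by
    rw [hg, Subgroup.pointwise_smul_def]; rfl
  let E : ↥(S2437.B F) ≃* ↥(Subgroup.normalizer ((S : Subgroup SL(2, F)) : Set SL(2, F))) :=
    ((MulAut.conj g).subgroupMap _).trans (MulEquiv.subgroupCongr (by
      rw [hS, ← Subgroup.map_equiv_normalizer_eq, hN]; rfl))
  have hle : Cfsg.Lib.Linear.Two.UT F ≤ S2437.B F := fun x hx => by
    rw [S2437.mem_B]; exact (Cfsg.Lib.Linear.Two.mem_UT.1 hx).2.2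
  have hn : ((Cfsg.Lib.Linear.Two.UT F).subgroupOf (S2437.B F)).Normal :=
    Subgroup.normal_subgroupOf_of_le_normalizer hN.ge
  have hidx : ((Cfsg.Lib.Linear.Two.UT F).subgroupOf (S2437.B F)).index = Fintype.card F - 1 := by
    have e1 := ((Cfsg.Lib.Linear.Two.UT F).subgroupOf (S2437.B F)).index_mul_card
    rw [Nat.card_congr (Subgroup.subgroupOfEquivOfLe hle).toEquiv, Cfsg.Lib.Linear.Two.card_UT,
      ← Nat.card_congr (Equiv.ofBijective _ (S2437.mk_bijective (F := F))), Nat.card_prod, card_split,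
      Nat.card_eq_fintype_card] at e1
    exact Nat.eq_of_mul_eq_mul_right Fintype.card_pos e1
  rw [primeCount_of_abelian E ((Cfsg.Lib.Linear.Two.UT F).subgroupOf (S2437.B F)) (by
    rintro a ⟨x, hx⟩ b ⟨y, hy⟩
    refine Subtype.ext ?_
    show (a : SL(2, F)) * b = b * a
    have hx' : Cfsg.Lib.Linear.Two.ut x = a := hx
    have hy' : Cfsg.Lib.Linear.Two.ut y = b := hy
    rw [← hx', ← hy', ← map_mul, ← map_mul, mul_comm]) hidx]
  · exact S2437.result hodd
  · intro hd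
    have h1 := Nat.dvd_sub (Cfsg.Lib.Linear.Two.dvd_card (F := F) ℓ) hd
    have := Fintype.one_lt_card (α := F)
    rw [show Fintype.card F - (Fintype.card F - 1) = 1 by omega] at h1
    exact (Fact.out : ℓ.Prime).not_dvd_one h1

theorem two_case [DecidableEq F] (hodd : Odd (Fintype.card F)) {A : Type*} [CommGroup A] [Finite A] [IsCyclic A]
    {ι : A →* SL(2, F)} {w : SL(2, F)} (h : IsTorus ι w) (h4 : 4 ∣ Nat.card A) {m : ℕ}
    (hm : m % 4 = 2) (hnm : Nat.card A * m = (Fintype.card F - 1) * (Fintype.card F + 1)) (S : Sylow 2 SL(2, F)) :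
    primeCount 2 ↥(Subgroup.normalizer ((S : Subgroup SL(2, F)) : Set SL(2, F))) = 4 := by
  have h2 : (2 : F) ≠ 0 := Ring.two_ne_zero (ringChar_ne_two hodd)
  obtain ⟨S₀, e, j, hj, hS, hidx, h3⟩ := h.quat_data h2 h4 hm hnm hodd S
  by_cases h8 : 8 ∣ Nat.card A
  · have hN : Subgroup.normalizer ((S : Subgroup SL(2, F)) : Set SL(2, F)) = S₀.map e.toMonoidHom :=
      ((h.sylow_two h2 h4 hm hnm hodd S).2.1 h8).trans hS
    let E : ↥S₀ ≃* ↥(Subgroup.normalizer ((S : Subgroup SL(2, F)) : Set SL(2, F))) :=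
      (e.subgroupMap S₀).trans (MulEquiv.subgroupCongr hN.symm)
    rw [primeCount_two_group (j := j) (by rw [← Nat.card_congr E.toEquiv, hj]), ← index_commutator_congr E, hidx]
  · obtain ⟨h3c, h24⟩ := h3 h8
    let E : ↥(Subgroup.normalizer (S₀ : Set SL(2, F))) ≃* ↥(Subgroup.normalizer ((S : Subgroup SL(2, F)) : Set SL(2, F))) :=
      (e.subgroupMap _).trans (MulEquiv.subgroupCongr (by rw [hS, ← Subgroup.map_equiv_normalizer_eq]; rfl))
    exact primeCount_twentyfour (by rw [← Nat.card_congr E.toEquiv, h24]) (by rw [← index_commutator_congr E, h3c])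

/-- Let F be a finite field with q elements, q odd, ℓ any prime and S a Sylow ℓ-subgroup of SL₂ over F with normaliser N. Then SL₂ and N have the same number of irreducible complex characters of degree not divisible by ℓ (the McKay equality holds for SL₂ over F at every prime). -/
theorem result {F : Type*} [Field F] [Fintype F] (hodd : Odd (Fintype.card F)) (ℓ : ℕ) [Fact ℓ.Prime] (S : Sylow ℓ (Matrix.SpecialLinearGroup (Fin 2) F)) :
    Nat.card {χ : Cfsg.IrrCharacter (Matrix.SpecialLinearGroup (Fin 2) F) // ¬ ℓ ∣ Cfsg.charDegree (χ : Matrix.SpecialLinearGroup (Fin 2) F → ℂ)} =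
      Nat.card {ψ : Cfsg.IrrCharacter (Subgroup.normalizer ((S : Subgroup (Matrix.SpecialLinearGroup (Fin 2) F)) : Set (Matrix.SpecialLinearGroup (Fin 2) F))) //
        ¬ ℓ ∣ Cfsg.charDegree (ψ : Subgroup.normalizer ((S : Subgroup (Matrix.SpecialLinearGroup (Fin 2) F)) : Set (Matrix.SpecialLinearGroup (Fin 2) F)) → ℂ)} := by
  classical
  show Cfsg.Lib.TwoDim.primeCount ℓ SL(2, F) =
    Cfsg.Lib.TwoDim.primeCount ℓ ↥(Subgroup.normalizer ((S : Subgroup SL(2, F)) : Set SL(2, F)))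
  have hℓ : ℓ.Prime := Fact.out
  have ho := Nat.odd_iff.1 hodd
  have hq2 : 2 ≤ Fintype.card F := Fintype.one_lt_card
  have hchar := Cfsg.Lib.TwoDim.ringChar_ne_two hodd
  have hsl := Cfsg.Lib.TwoDim.primeCount_sl hodd ℓ
  have w1 : ∀ d, ¬ ℓ ∣ d → Cfsg.Lib.TwoDim.wt ℓ d = 1 := fun d hd => if_neg hd
  have w0 : ∀ d, ℓ ∣ d → Cfsg.Lib.TwoDim.wt ℓ d = 0 := fun d hd => if_pos hd
  have hone : ¬ ℓ ∣ 1 := hℓ.not_dvd_one
  have hhalf : ∀ x, 2 ∣ x → ℓ ≠ 2 → (ℓ ∣ x / 2 ↔ ℓ ∣ x) := fun x hx hne => by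
    constructor
    · exact fun h => h.trans (Nat.div_dvd_of_dvd hx)
    · intro h
      rw [← Nat.div_mul_cancel hx] at h
      exact (hℓ.dvd_mul.1 h).resolve_right fun h' => hne ((Nat.prime_dvd_prime_iff_eq hℓ Nat.prime_two).1 h')
  have hcl : ∀ a b : ℕ, ℓ ∣ a → ℓ ∣ b → b ≤ a → ℓ ∣ a - b := fun a b ha hb _ => Nat.dvd_sub ha hb
  by_cases hq : ℓ ∣ Fintype.card F
  · have hne : ℓ ≠ 2 := fun e => by rw [e] at hq; omega
    have : CharP F ℓ := by
      obtain ⟨p, hp⟩ := CharP.exists F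
      obtain ⟨n, hp', hn⟩ := FiniteField.card F p
      rw [hn] at hq
      rwa [(Nat.prime_dvd_prime_iff_eq hℓ hp').1 (hℓ.dvd_of_dvd_pow hq)]
    have h1 : ¬ ℓ ∣ Fintype.card F + 1 := fun h => hone ((Nat.dvd_add_right hq).1 h)
    have h2 : ¬ ℓ ∣ Fintype.card F - 1 := fun h => hone (by
      have := Nat.dvd_sub hq h
      rwa [show Fintype.card F - (Fintype.card F - 1) = 1 by omega] at this)
    rw [def_case hodd S, hsl, w1 1 hone, w0 _ hq, w1 _ h1, w1 _ h2,
      w1 _ (fun h => h1 ((hhalf _ (by omega) hne).1 h)), w1 _ (fun h => h2 ((hhalf _ (by omega) hne).1 h))]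
    omega
  by_cases hne : ℓ = 2
  · subst hne
    have hN : Cfsg.Lib.TwoDim.primeCount 2 ↥(Subgroup.normalizer ((S : Subgroup SL(2, F)) : Set SL(2, F))) = 4 := by
      rcases (show Fintype.card F % 4 = 1 ∨ Fintype.card F % 4 = 3 by omega) with h4 | h4
      · have hA : Nat.card Fˣ = Fintype.card F - 1 := Cfsg.Lib.TwoDim.card_split
        exact two_case hodd (Cfsg.Lib.TwoDim.isTorus_split (Cfsg.Lib.TwoDim.exists_reg_units (by omega)))
          (by omega) (m := Fintype.card F + 1) (by omega) (by rw [hA]) S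
      · obtain ⟨w, hw⟩ := Cfsg.Lib.TwoDim.exists_isTorus_nonsplit hodd
        have hA := Cfsg.Lib.TwoDim.card_normOne (F := F)
        exact two_case hodd hw (by omega) (m := Fintype.card F - 1) (by omega) (by rw [hA, mul_comm]) S
    rw [hN, hsl, w1 1 hone, w1 _ hq, w0 (Fintype.card F + 1) (by omega), w0 (Fintype.card F - 1) (by omega)]
    rcases (show Fintype.card F % 4 = 1 ∨ Fintype.card F % 4 = 3 by omega) with h4 | h4
    · rw [w1 _ (by omega), w0 _ (by omega)]; omega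
    · rw [w0 _ (by omega), w1 _ (by omega)]; omega
  by_cases hm : ℓ ∣ Fintype.card F - 1
  · have h1 : ¬ ℓ ∣ Fintype.card F + 1 := fun h => hne ((Nat.prime_dvd_prime_iff_eq hℓ Nat.prime_two).1 (by
      have := Nat.dvd_sub h hm
      rwa [show Fintype.card F + 1 - (Fintype.card F - 1) = 2 by omega] at this))
    have hA : Nat.card Fˣ = Fintype.card F - 1 := Cfsg.Lib.TwoDim.card_split
    have hge : 5 ≤ Fintype.card F := by
      have := Nat.le_of_dvd (by omega) hm
      have := hℓ.two_le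
      omega
    have hN := torus_case (Cfsg.Lib.TwoDim.isTorus_split (Cfsg.Lib.TwoDim.exists_reg_units hge))
      (m := Fintype.card F + 1) (by rw [hA]) (Or.inl (by omega)) hne (hA ▸ hm) (by omega) S
    rw [hsl, w1 1 hone, w1 _ hq, w1 _ h1, w0 _ hm,
      w1 _ (fun h => h1 ((hhalf _ (by omega) hne).1 h)), w0 _ ((hhalf _ (by omega) hne).2 hm)]
    omega
  by_cases hp : ℓ ∣ Fintype.card F + 1
  · obtain ⟨w, hw⟩ := Cfsg.Lib.TwoDim.exists_isTorus_nonsplit hodd
    have hA := Cfsg.Lib.TwoDim.card_normOne (F := F)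
    have hN := torus_case hw (m := Fintype.card F - 1) (by rw [hA, mul_comm]) (Or.inr (by omega)) hne (hA ▸ hp)
      (by omega) S
    rw [hsl, w1 1 hone, w1 _ hq, w0 _ hp, w1 _ hm,
      w0 _ ((hhalf _ (by omega) hne).2 hp), w1 _ (fun h => hm ((hhalf _ (by omega) hne).1 h))]
    omega
  have hG : ¬ ℓ ∣ Nat.card SL(2, F) := by
    rw [Cfsg.Lib.TwoDim.card_sl_factor]
    exact fun h => (hℓ.dvd_mul.1 h).elim (fun h => (hℓ.dvd_mul.1 h).elim hq hm) hp
  have hS : (S : Subgroup SL(2, F)) = ⊥ := by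
    refine Subgroup.eq_bot_of_card_eq _ ?_
    rw [Sylow.card_eq_multiplicity, Nat.factorization_eq_zero_of_not_dvd hG, pow_zero]
  have hN : Subgroup.normalizer ((S : Subgroup SL(2, F)) : Set SL(2, F)) = ⊤ := by
    rw [hS]
    exact Subgroup.normalizer_eq_top_iff.2 inferInstance
  rw [Cfsg.Lib.TwoDim.primeCount_all (H := SL(2, F)) (fun χ h => hG (h.trans (Cfsg.Lib.Char.charDegree_dvd_card χ.2))),
    Cfsg.Lib.TwoDim.primeCount_all (fun χ h => hG ((h.trans (Cfsg.Lib.Char.charDegree_dvd_card χ.2)).trans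
      (Subgroup.card_subgroup_dvd_card _)))]
  exact (Cfsg.Lib.TwoDim.card_conjClasses_congr ((MulEquiv.subgroupCongr hN).trans Subgroup.topEquiv)).symm

end Cfsg.Agent.S2436
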