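import Cfsg.Statements.S2438
import Cfsg.Agent.Lib.TwoDim.SLValues
-- import your own Cfsg.Agent.* helpers here

set_option autoImplicit false
open Cfsg

namespace Cfsg.Agent.S2438

open Matrix MatrixGroups

variable {F : Type*} [Field F] [Fintype F] [DecidableEq F]

/-- Membership in the unitriangular subgroup. -/
def InU (g : SL(2, F)) : Prop :=
  (g : Matrix (Fin 2) (Fin 2) F) 1 0 = 0 ∧ (g : Matrix (Fin 2) (Fin 2) F) 0 0 = 1 ∧
    (g : Matrix (Fin 2) (Fin 2) F) 1 1 = 1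

instance : DecidablePred (InU (F := F)) := fun g => inferInstanceAs (Decidable (_ ∧ _ ∧ _))

/-- The sum over the unitriangular subgroup. -/
noncomputable def sumU (f : SL(2, F) → ℂ) : ℂ := ∑ g ∈ Finset.univ.filter InU, f g

/-- The unitriangular elements. -/
def uel (b : F) : SL(2, F) := ⟨!![1, b; 0, 1], by simp [Matrix.det_fin_two]⟩

theorem sumU_eq (f : SL(2, F) → ℂ) : sumU f = ∑ b : F, f (uel b) := by
  refine Finset.sum_bij' (fun g _ => (g : Matrix (Fin 2) (Fin 2) F) 0 1) (fun b _ => uel b) ?_ ?_ ?_ ?_ ?_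
  · intro g _; exact Finset.mem_univ _
  · intro b _
    exact Finset.mem_filter.2 ⟨Finset.mem_univ _, by simp [uel], by simp [uel], by simp [uel]⟩
  · intro g hg
    obtain ⟨-, h1, h2, h3⟩ := Finset.mem_filter.1 hg
    refine Subtype.ext ?_
    ext i j
    fin_cases i <;> fin_cases j <;> simp [uel, h1, h2, h3]
  · intro b _; simp [uel]
  · intro g hg
    obtain ⟨-, h1, h2, h3⟩ := Finset.mem_filter.1 hg
    congr 1
    refine Subtype.ext ?_
    ext i j
    fin_cases i <;> fin_cases j <;> simp [uel, h1, h2, h3]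

theorem sumU_const {f : SL(2, F) → ℂ} {c d : ℂ} (h1 : f 1 = c) (h : ∀ b : F, b ≠ 0 → f (uel b) = d) :
    sumU f = c + ((Fintype.card F : ℂ) - 1) * d := by
  have h0 : uel (0 : F) = 1 := Subtype.ext (by simp [uel, Matrix.one_fin_two])
  rw [sumU_eq, ← Finset.sum_add_sum_compl {(0 : F)}, Finset.sum_singleton, h0, h1,
    Finset.sum_congr rfl (g := fun _ => d) fun b hb => h b (by simpa using hb), Finset.sum_const,
    Finset.card_compl, Finset.card_singleton, nsmul_eq_mul, Nat.cast_sub Fintype.card_pos, Nat.cast_one]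

theorem sumU_half {π χ ψ : SL(2, F) → ℂ} {ν : Fˣ} (h : Cfsg.Lib.TwoDim.IsSplit π ν χ ψ) :
    2 * sumU χ = sumU π := by
  have e : ∀ b : F, Cfsg.Lib.TwoDim.cj (Cfsg.Lib.TwoDim.x0 ν) (uel b) = uel ((ν : F) * b) := by
    intro b
    have hx : ((Cfsg.Lib.TwoDim.x0 ν)⁻¹ : GL (Fin 2) F) = Cfsg.Lib.TwoDim.x0 ν⁻¹ :=
      inv_eq_of_mul_eq_one_right (Units.ext (by
        rw [Units.val_mul]
        ext i j
        fin_cases i <;> fin_cases j <;> simp [Cfsg.Lib.TwoDim.x0_coe, Matrix.mul_apply, Fin.sum_univ_two]))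
    refine Subtype.ext ?_
    rw [Cfsg.Lib.TwoDim.cj_coe, hx]
    ext i j
    fin_cases i <;> fin_cases j <;> simp [uel, Cfsg.Lib.TwoDim.x0_coe, Matrix.mul_apply, Fin.sum_univ_two]
  have hs : sumU ψ = sumU χ := by
    rw [sumU_eq, sumU_eq, ← Equiv.sum_comp (Equiv.mulLeft₀ (ν : F) ν.ne_zero) fun b => χ (uel b)]
    exact Finset.sum_congr rfl fun b _ => by rw [Equiv.mulLeft₀_apply, ← e, h.swap]
  rw [h.eq, two_mul]
  nth_rw 2 [← hs]
  rw [sumU, sumU, sumU, ← Finset.sum_add_distrib]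
  rfl

theorem sumU_ps (α : MulChar F ℂ) : sumU (Cfsg.Lib.TwoDim.psR α) = 2 * (Fintype.card F : ℂ) := by
  rw [sumU_const (c := (Fintype.card F : ℂ) + 1) (d := 1) (by rw [Cfsg.Lib.TwoDim.psR_one]; push_cast; rfl)
    (fun b hb => Cfsg.Lib.TwoDim.psR_unip α (by simp [uel]) (by simp [uel]) (by simp [uel]) (by simp [uel, hb]))]
  ring

theorem sumU_cu (φ : ↥(Cfsg.Lib.TwoDim.normOne F) →* ℂˣ) : sumU (Cfsg.Lib.TwoDim.cuQ φ) = 0 := by
  rw [sumU_const (c := (Fintype.card F : ℂ) - 1) (d := -1)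
    (by rw [Cfsg.Lib.TwoDim.cuQ, Cfsg.Lib.TwoDim.cuR_one, Nat.cast_sub Fintype.card_pos, Nat.cast_one])
    (fun b hb => Cfsg.Lib.TwoDim.cuQ_unip φ (by simp [uel]) (by simp [uel]) (by simp [uel]) (by simp [uel, hb]))]
  ring

theorem sumU_st : sumU (Cfsg.Lib.TwoDim.stR F) = (Fintype.card F : ℂ) := by
  rw [sumU_const (c := (Fintype.card F : ℂ)) (d := 0) Cfsg.Lib.TwoDim.stR_one
    (fun b hb => Cfsg.Lib.TwoDim.stR_unip (by simp [uel]) (by simp [uel]) (by simp [uel, hb]))]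
  ring

/-- Let F be a finite field with q elements, q odd, q ≥ 5, U the upper unitriangular subgroup of SL₂ over F, and χ an irreducible complex character. The sum of the values of χ over U equals 2q, q, 0, q, 0 according as the degree of χ is q + 1, q, q − 1, (q + 1)/2, (q − 1)/2; so among these five degrees the sum vanishes exactly for the degrees q − 1 and (q − 1)/2, i.e. the irreducible characters of those two degrees are the ones whose restriction to U does not contain the trivial character (the cuspidal characters), while those of degree q + 1, q and (q + 1)/2 are not cuspidal. -/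
theorem result {F : Type*} [Field F] [Fintype F] [DecidableEq F] (hodd : Odd (Fintype.card F)) (hq : 5 ≤ Fintype.card F)
    (χ : Matrix.SpecialLinearGroup (Fin 2) F → ℂ) (hχ : Cfsg.IsIrrCharacter (Matrix.SpecialLinearGroup (Fin 2) F) χ) :
    (χ 1 = (Fintype.card F : ℂ) + 1 →
      (∑ g : Matrix.SpecialLinearGroup (Fin 2) F, if (g : Matrix (Fin 2) (Fin 2) F) 1 0 = 0 ∧ (g : Matrix (Fin 2) (Fin 2) F) 0 0 = 1 ∧ (g : Matrix (Fin 2) (Fin 2) F) 1 1 = 1 then χ g else 0) = 2 * (Fintype.card F : ℂ)) ∧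
    (χ 1 = (Fintype.card F : ℂ) →
      (∑ g : Matrix.SpecialLinearGroup (Fin 2) F, if (g : Matrix (Fin 2) (Fin 2) F) 1 0 = 0 ∧ (g : Matrix (Fin 2) (Fin 2) F) 0 0 = 1 ∧ (g : Matrix (Fin 2) (Fin 2) F) 1 1 = 1 then χ g else 0) = (Fintype.card F : ℂ)) ∧
    (χ 1 = (Fintype.card F : ℂ) - 1 →
      (∑ g : Matrix.SpecialLinearGroup (Fin 2) F, if (g : Matrix (Fin 2) (Fin 2) F) 1 0 = 0 ∧ (g : Matrix (Fin 2) (Fin 2) F) 0 0 = 1 ∧ (g : Matrix (Fin 2) (Fin 2) F) 1 1 = 1 then χ g else 0) = 0) ∧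
    (χ 1 = (((Fintype.card F + 1) / 2 : ℕ) : ℂ) →
      (∑ g : Matrix.SpecialLinearGroup (Fin 2) F, if (g : Matrix (Fin 2) (Fin 2) F) 1 0 = 0 ∧ (g : Matrix (Fin 2) (Fin 2) F) 0 0 = 1 ∧ (g : Matrix (Fin 2) (Fin 2) F) 1 1 = 1 then χ g else 0) = (Fintype.card F : ℂ)) ∧
    (χ 1 = (((Fintype.card F - 1) / 2 : ℕ) : ℂ) →
      (∑ g : Matrix.SpecialLinearGroup (Fin 2) F, if (g : Matrix (Fin 2) (Fin 2) F) 1 0 = 0 ∧ (g : Matrix (Fin 2) (Fin 2) F) 0 0 = 1 ∧ (g : Matrix (Fin 2) (Fin 2) F) 1 1 = 1 then χ g else 0) = 0) := by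
  have key : (∑ g : Matrix.SpecialLinearGroup (Fin 2) F, if (g : Matrix (Fin 2) (Fin 2) F) 1 0 = 0 ∧ (g : Matrix (Fin 2) (Fin 2) F) 0 0 = 1 ∧ (g : Matrix (Fin 2) (Fin 2) F) 1 1 = 1 then χ g else 0) = sumU χ := by
    rw [sumU, Finset.sum_filter]
    exact Finset.sum_congr rfl fun g _ => if_congr Iff.rfl rfl rfl
  rw [key]
  have hq2 : Fintype.card F % 2 = 1 := Nat.odd_iff.1 hodd
  have e2 : ((Fintype.card F + 1 : ℕ) : ℂ) = (Fintype.card F : ℂ) + 1 := by push_cast; rfl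
  have e3 : ((Fintype.card F - 1 : ℕ) : ℂ) = (Fintype.card F : ℂ) - 1 := by rw [Nat.cast_sub (by omega), Nat.cast_one]
  obtain ⟨D⟩ := Cfsg.Lib.TwoDim.exists_halfData (F := F) hodd
  rw [← e2, ← e3]
  rcases Cfsg.Lib.TwoDim.odd_cases D hχ with ⟨a, b⟩ | ⟨a, b⟩ | ⟨a, b⟩ | ⟨a, b⟩ | ⟨a, b⟩ | ⟨a, b⟩ <;>
    rw [b] <;> simp only [Nat.cast_inj]
  · refine ⟨fun h => ?_, fun h => ?_, fun h => ?_, fun h => ?_, fun h => ?_⟩
    all_goals (exfalso; omega)
  · refine ⟨fun h => ?_, fun _ => a ▸ sumU_st, fun h => ?_, fun h => ?_, fun h => ?_⟩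
    all_goals (exfalso; omega)
  · obtain ⟨α, -, rfl⟩ := Cfsg.Lib.TwoDim.mem_psSet1.1 a
    refine ⟨fun _ => sumU_ps α, fun h => ?_, fun h => ?_, fun h => ?_, fun h => ?_⟩
    all_goals (exfalso; omega)
  · obtain ⟨α, -, rfl⟩ := Cfsg.Lib.TwoDim.mem_cuSet1.1 a
    refine ⟨fun h => ?_, fun h => ?_, fun _ => sumU_cu α, fun h => ?_, fun h => ?_⟩
    all_goals (exfalso; omega)
  · refine ⟨fun h => ?_, fun h => ?_, fun h => ?_, fun _ => ?_, fun h => ?_⟩
    case refine_4 =>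
      obtain ⟨ν, ψ, -, hs⟩ := D.p_half a
      exact mul_left_cancel₀ two_ne_zero ((sumU_half hs).trans (sumU_ps _))
    all_goals (exfalso; omega)
  · refine ⟨fun h => ?_, fun h => ?_, fun h => ?_, fun h => ?_, fun _ => ?_⟩
    case refine_5 =>
      obtain ⟨ν, ψ, -, hs⟩ := D.c_half a
      exact mul_left_cancel₀ two_ne_zero ((sumU_half hs).trans ((sumU_cu _).trans (mul_zero 2).symm))
    all_goals (exfalso; omega)

end Cfsg.Agent.S2438
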