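import Cfsg.Statements.S2439
import Cfsg.Agent.Lib.TwoDim.DefiningBlocks

set_option autoImplicit false
open Cfsg

namespace Cfsg.Agent.S2439

/-- Let F be a finite field with q elements of odd characteristic p, and M a maximal ideal of the algebraic integers containing p. Then SL₂ over F has exactly three p-blocks relative to M: the irreducible character of degree q (the Steinberg character) alone; the other irreducible characters taking the same value at −1 as at 1 (the principal block); and the irreducible characters χ with χ(−1) = −χ(1). Every Sylow p-subgroup is a defect group of each of the last two blocks. -/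
theorem result {F : Type*} [Field F] [Fintype F] (p : ℕ) [Fact p.Prime] [CharP F p] (hp : p ≠ 2)
    (M : Ideal Cfsg.AlgInt) (hM : Cfsg.IsPModular p M) :
    (∀ B : Set (Cfsg.IrrCharacter (Matrix.SpecialLinearGroup (Fin 2) F)), Cfsg.IsPBlock M B ↔
      (B = {χ : Cfsg.IrrCharacter (Matrix.SpecialLinearGroup (Fin 2) F) | (χ : Matrix.SpecialLinearGroup (Fin 2) F → ℂ) 1 = (Fintype.card F : ℂ)} ∨
       B = {χ : Cfsg.IrrCharacter (Matrix.SpecialLinearGroup (Fin 2) F) | (χ : Matrix.SpecialLinearGroup (Fin 2) F → ℂ) (-1) = (χ : Matrix.SpecialLinearGroup (Fin 2) F → ℂ) 1 ∧ (χ : Matrix.SpecialLinearGroup (Fin 2) F → ℂ) 1 ≠ (Fintype.card F : ℂ)} ∨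
       B = {χ : Cfsg.IrrCharacter (Matrix.SpecialLinearGroup (Fin 2) F) | (χ : Matrix.SpecialLinearGroup (Fin 2) F → ℂ) (-1) = -(χ : Matrix.SpecialLinearGroup (Fin 2) F → ℂ) 1})) ∧
    Nat.card {B : Set (Cfsg.IrrCharacter (Matrix.SpecialLinearGroup (Fin 2) F)) // Cfsg.IsPBlock M B} = 3 ∧
    ∀ P : Sylow p (Matrix.SpecialLinearGroup (Fin 2) F),
      Cfsg.IsDefectGroup p M {χ : Cfsg.IrrCharacter (Matrix.SpecialLinearGroup (Fin 2) F) | (χ : Matrix.SpecialLinearGroup (Fin 2) F → ℂ) (-1) = (χ : Matrix.SpecialLinearGroup (Fin 2) F → ℂ) 1 ∧ (χ : Matrix.SpecialLinearGroup (Fin 2) F → ℂ) 1 ≠ (Fintype.card F : ℂ)} (P : Subgroup (Matrix.SpecialLinearGroup (Fin 2) F)) ∧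
      Cfsg.IsDefectGroup p M {χ : Cfsg.IrrCharacter (Matrix.SpecialLinearGroup (Fin 2) F) | (χ : Matrix.SpecialLinearGroup (Fin 2) F → ℂ) (-1) = -(χ : Matrix.SpecialLinearGroup (Fin 2) F → ℂ) 1} (P : Subgroup (Matrix.SpecialLinearGroup (Fin 2) F)) := by
  classical
  haveI : Fintype (Matrix.SpecialLinearGroup (Fin 2) F) := Fintype.ofFinite _
  have hp1 : p.Prime := Fact.out
  obtain ⟨A, hA⟩ : ∃ A : Set (IrrCharacter (Matrix.SpecialLinearGroup (Fin 2) F)), A =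
      {χ : IrrCharacter (Matrix.SpecialLinearGroup (Fin 2) F) | (χ : Matrix.SpecialLinearGroup (Fin 2) F → ℂ) 1 = (Fintype.card F : ℂ)} := ⟨_, rfl⟩
  obtain ⟨P₁, hP₁⟩ : ∃ P₁ : Set (IrrCharacter (Matrix.SpecialLinearGroup (Fin 2) F)), P₁ =
      {χ : IrrCharacter (Matrix.SpecialLinearGroup (Fin 2) F) | (χ : Matrix.SpecialLinearGroup (Fin 2) F → ℂ) (-1) = (χ : Matrix.SpecialLinearGroup (Fin 2) F → ℂ) 1 ∧
        (χ : Matrix.SpecialLinearGroup (Fin 2) F → ℂ) 1 ≠ (Fintype.card F : ℂ)} := ⟨_, rfl⟩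
  obtain ⟨P₂, hP₂⟩ : ∃ P₂ : Set (IrrCharacter (Matrix.SpecialLinearGroup (Fin 2) F)), P₂ =
      {χ : IrrCharacter (Matrix.SpecialLinearGroup (Fin 2) F) | (χ : Matrix.SpecialLinearGroup (Fin 2) F → ℂ) (-1) = -(χ : Matrix.SpecialLinearGroup (Fin 2) F → ℂ) 1} :=
    ⟨_, rfl⟩
  rw [← hA, ← hP₁, ← hP₂]
  -- the Steinberg character
  obtain ⟨st, hst⟩ : ∃ st : IrrCharacter (Matrix.SpecialLinearGroup (Fin 2) F),
      (st : Matrix.SpecialLinearGroup (Fin 2) F → ℂ) = Cfsg.Lib.TwoDim.stR F := ⟨⟨_, Cfsg.Lib.TwoDim.irr_stR⟩, rfl⟩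
  have hst1 : (st : Matrix.SpecialLinearGroup (Fin 2) F → ℂ) 1 = (Fintype.card F : ℂ) := by
    rw [hst, Cfsg.Lib.TwoDim.stR_one]
  have hq := Cfsg.Lib.TwoDim.q_dvd (F := F) hp1
  have hqodd : p ≤ Fintype.card F := Nat.le_of_dvd Fintype.card_pos hq
  have hq2 := hp1.two_le
  have huniq : ∀ χ : IrrCharacter (Matrix.SpecialLinearGroup (Fin 2) F),
      (χ : Matrix.SpecialLinearGroup (Fin 2) F → ℂ) 1 = (Fintype.card F : ℂ) → χ = st := by
    intro χ h1
    refine Subtype.ext ?_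
    rw [hst]
    rcases Cfsg.Lib.TwoDim.sl_degree_cases χ.2 with h | h | h | h | ⟨ho, h⟩ | ⟨ho, h⟩
    · rw [h, Cfsg.Lib.TwoDim.oneR_one] at h1
      exact absurd h1 (by norm_cast; omega)
    · exact h
    all_goals
      rw [h] at h1
      have := Nat.cast_injective (R := ℂ) h1
      omega
  have hAst : A = {st} := by
    rw [hA]
    ext χ
    exact ⟨huniq χ, fun h => by rw [Set.mem_singleton_iff.1 h]; exact hst1⟩
  have hsign : ∀ χ : IrrCharacter (Matrix.SpecialLinearGroup (Fin 2) F),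
      (χ : Matrix.SpecialLinearGroup (Fin 2) F → ℂ) (-1) = (χ : Matrix.SpecialLinearGroup (Fin 2) F → ℂ) 1 ∨
      (χ : Matrix.SpecialLinearGroup (Fin 2) F → ℂ) (-1) = -(χ : Matrix.SpecialLinearGroup (Fin 2) F → ℂ) 1 := by
    intro χ
    obtain ⟨s, hs, hsg⟩ := Cfsg.Lib.TwoDim.exists_sign χ
    have := hsg 1
    rw [mul_one] at this
    rcases hs with rfl | rfl <;> simp [this]
  have hP₂ne : ∀ χ ∈ P₂, (χ : Matrix.SpecialLinearGroup (Fin 2) F → ℂ) 1 ≠ (Fintype.card F : ℂ) := by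
    intro χ hχ h1
    rw [hP₂] at hχ
    have e := huniq χ h1
    subst e
    rw [Set.mem_setOf_eq, hst, Cfsg.Lib.TwoDim.stR_neg_one, ← hst] at hχ
    exact χ.2.apply_one_ne_zero (CharZero.eq_neg_self_iff.1 hχ)
  obtain ⟨q, hAq⟩ : ∃ q, q = Fintype.card F := ⟨_, rfl⟩
  have hblkA : blockOf M (st : Matrix.SpecialLinearGroup (Fin 2) F → ℂ) = A := by
    rw [hAst]
    refine Cfsg.Lib.Block.blockOf_eq_singleton_of_full hM st (le_of_eq ?_)
    rw [Cfsg.Lib.TwoDim.charDegree_nat hst1, Cfsg.Lib.TwoDim.card_sl_factor, ← hAq]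
    obtain ⟨k, -, hk⟩ := FiniteField.card F p
    rw [← hAq] at hk
    have h1 : ¬ p ∣ (q - 1) * (q + 1) := fun h => by
      rcases hp1.dvd_mul.1 h with h | h
      · have := Nat.dvd_sub (hAq ▸ hq) h
        rw [Nat.sub_sub_self (by omega)] at this
        exact hp1.not_dvd_one this
      · exact hp1.not_dvd_one ((Nat.dvd_add_right (hAq ▸ hq)).1 h)
    rw [mul_assoc, Nat.factorization_mul (by rw [hAq]; exact Fintype.card_ne_zero) (fun h0 => h1 (by rw [h0]; exact dvd_zero p)), Finsupp.add_apply,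
      Nat.factorization_eq_zero_of_not_dvd h1, add_zero]
  have hsame : ∀ χ ψ : IrrCharacter (Matrix.SpecialLinearGroup (Fin 2) F),
      (χ : Matrix.SpecialLinearGroup (Fin 2) F → ℂ) 1 ≠ (Fintype.card F : ℂ) →
      (ψ : Matrix.SpecialLinearGroup (Fin 2) F → ℂ) 1 ≠ (Fintype.card F : ℂ) →
      (χ : Matrix.SpecialLinearGroup (Fin 2) F → ℂ) (-1) / (χ : Matrix.SpecialLinearGroup (Fin 2) F → ℂ) 1 =
        (ψ : Matrix.SpecialLinearGroup (Fin 2) F → ℂ) (-1) / (ψ : Matrix.SpecialLinearGroup (Fin 2) F → ℂ) 1 →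
      SameBlock M (χ : Matrix.SpecialLinearGroup (Fin 2) F → ℂ) (ψ : Matrix.SpecialLinearGroup (Fin 2) F → ℂ) :=
    fun χ ψ hχ hψ h => Cfsg.Lib.TwoDim.sameBlock_of_sign hM hp χ ψ (Cfsg.Lib.TwoDim.degree_not_dvd hp χ hχ)
      (Cfsg.Lib.TwoDim.degree_not_dvd hp ψ hψ) h
  have hnotA : ∀ χ : IrrCharacter (Matrix.SpecialLinearGroup (Fin 2) F),
      (χ : Matrix.SpecialLinearGroup (Fin 2) F → ℂ) 1 ≠ (Fintype.card F : ℂ) →
      ¬ SameBlock M (χ : Matrix.SpecialLinearGroup (Fin 2) F → ℂ) (st : Matrix.SpecialLinearGroup (Fin 2) F → ℂ) :=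
    fun χ hχ hsb => hχ (by
      have : χ ∈ blockOf M (st : Matrix.SpecialLinearGroup (Fin 2) F → ℂ) := Cfsg.Lib.Block.sameBlock_symm hM hsb
      rwa [hblkA, hA] at this)
  -- the two signs are separated at the central involution
  have hsep : ∀ χ ψ : IrrCharacter (Matrix.SpecialLinearGroup (Fin 2) F),
      (χ : Matrix.SpecialLinearGroup (Fin 2) F → ℂ) (-1) = (χ : Matrix.SpecialLinearGroup (Fin 2) F → ℂ) 1 →
      (ψ : Matrix.SpecialLinearGroup (Fin 2) F → ℂ) (-1) = -(ψ : Matrix.SpecialLinearGroup (Fin 2) F → ℂ) 1 →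
      ¬ SameBlock M (χ : Matrix.SpecialLinearGroup (Fin 2) F → ℂ) (ψ : Matrix.SpecialLinearGroup (Fin 2) F → ℂ) := by
    intro χ ψ h1 h2 hsb
    have h := hsb (-1)
    rw [Cfsg.Lib.TwoDim.centralChar_central χ Cfsg.Lib.TwoDim.neg_one_mem_center,
      Cfsg.Lib.TwoDim.centralChar_central ψ Cfsg.Lib.TwoDim.neg_one_mem_center, h1, h2,
      div_self χ.2.apply_one_ne_zero, neg_div, div_self ψ.2.apply_one_ne_zero, sub_neg_eq_add,
      show (1 : ℂ) + 1 = ((2 : ℕ) : ℂ) by norm_num] at h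
    exact Cfsg.Lib.Block.natCast_not_ideal hM (Cfsg.Lib.TwoDim.not_dvd_two p hp) h
  have hblk₁ : ∀ χ ∈ P₁, blockOf M (χ : Matrix.SpecialLinearGroup (Fin 2) F → ℂ) = P₁ := by
    intro χ hχ
    rw [hP₁] at hχ
    ext ψ
    rw [Cfsg.Lib.Block.mem_blockOf, hP₁]
    constructor
    · intro hsb
      have hne : (ψ : Matrix.SpecialLinearGroup (Fin 2) F → ℂ) 1 ≠ (Fintype.card F : ℂ) := fun h =>
        hnotA χ hχ.2 (huniq ψ h ▸ hsb)
      exact ⟨(hsign ψ).resolve_right fun h => hsep χ ψ hχ.1 h hsb, hne⟩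
    · intro hψ
      refine hsame χ ψ hχ.2 hψ.2 ?_
      rw [hχ.1, hψ.1, div_self χ.2.apply_one_ne_zero, div_self ψ.2.apply_one_ne_zero]
  have hblk₂ : ∀ χ ∈ P₂, blockOf M (χ : Matrix.SpecialLinearGroup (Fin 2) F → ℂ) = P₂ := by
    intro χ hχ
    have hχ1 := hP₂ne χ hχ
    rw [hP₂] at hχ
    ext ψ
    rw [Cfsg.Lib.Block.mem_blockOf]
    constructor
    · intro hsb
      rw [hP₂]
      exact (hsign ψ).resolve_left fun h => hsep ψ χ h hχ (Cfsg.Lib.Block.sameBlock_symm hM hsb)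
    · intro hψ
      refine hsame χ ψ hχ1 (hP₂ne ψ hψ) ?_
      rw [hP₂] at hψ
      rw [hχ, hψ, neg_div, neg_div, div_self χ.2.apply_one_ne_zero, div_self ψ.2.apply_one_ne_zero]
  obtain ⟨tr, htr⟩ : ∃ tr, tr ∈ P₁ := ⟨Cfsg.Lib.Block.trivChar _, by
    rw [hP₁]
    refine ⟨rfl, ?_⟩
    rw [Cfsg.Lib.Block.trivChar_coe]
    show (1 : ℂ) ≠ (Fintype.card F : ℂ)
    norm_cast
    exact (Fintype.one_lt_card (α := F)).ne⟩
  obtain ⟨fa, hfa⟩ : ∃ fa, fa ∈ P₂ := by
    obtain ⟨χ, hχ⟩ := Cfsg.Lib.PGaloisDeg.exists_irr_ne (Cfsg.Lib.TwoDim.neg_one_ne_one (F := F) p hp)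
    exact ⟨χ, by rw [hP₂]; exact (hsign χ).resolve_left hχ⟩
  have hall : ∀ B, IsPBlock M B ↔ (B = A ∨ B = P₁ ∨ B = P₂) := by
    intro B
    constructor
    · rintro ⟨χ, rfl⟩
      by_cases h : (χ : Matrix.SpecialLinearGroup (Fin 2) F → ℂ) 1 = (Fintype.card F : ℂ)
      · exact Or.inl (huniq χ h ▸ hblkA)
      rcases hsign χ with h' | h'
      · exact Or.inr (Or.inl (hblk₁ χ (by rw [hP₁]; exact ⟨h', h⟩)))
      · exact Or.inr (Or.inr (hblk₂ χ (by rw [hP₂]; exact h')))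
    · rintro (rfl | rfl | rfl)
      · exact ⟨st, hblkA.symm⟩
      · exact ⟨tr, (hblk₁ tr htr).symm⟩
      · exact ⟨fa, (hblk₂ fa hfa).symm⟩
  have hA1 : A ≠ P₁ := fun e => by
    rw [← e, hA] at htr
    have := huniq tr htr
    have h2 : tr ∈ P₁ := by rw [← e, hA]; exact htr
    rw [hP₁] at h2
    exact h2.2 htr
  have hA2 : A ≠ P₂ := fun e => hP₂ne fa hfa (by rw [← e, hA] at hfa; exact hfa)
  have h12 : P₁ ≠ P₂ := fun e => hsep tr tr (by rw [hP₁] at htr; exact htr.1)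
    (by rw [e, hP₂] at htr; exact htr) (Cfsg.Lib.Block.sameBlock_refl hM _)
  refine ⟨hall, ?_, fun P => ?_⟩
  · have hset : {B : Set (IrrCharacter (Matrix.SpecialLinearGroup (Fin 2) F)) | IsPBlock M B} = {A, P₁, P₂} := by
      ext B
      simp [hall B]
    show Nat.card ↥{B : Set (IrrCharacter (Matrix.SpecialLinearGroup (Fin 2) F)) | IsPBlock M B} = 3
    rw [hset, Nat.card_coe_set_eq, Set.ncard_eq_toFinset_card']
    simp [hA1, hA2, h12]
  -- a defect class of a block with a character of degree prime to `p` is central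
  have hdef : ∀ B, IsPBlock M B → ∀ χ ∈ B,
      (χ : Matrix.SpecialLinearGroup (Fin 2) F → ℂ) 1 ≠ (Fintype.card F : ℂ) →
      IsDefectGroup p M B (P : Subgroup (Matrix.SpecialLinearGroup (Fin 2) F)) := by
    intro B hB χ hχ hne
    obtain ⟨g, hg⟩ := Cfsg.Lib.Block.exists_isDefectClass hM hB
    have hfac := Cfsg.Lib.Block.factorization_cenCard_defectClass hM hB hg
    have hdegree := Cfsg.Lib.Block.le_deg_factorization hM hB hχ
    rw [Nat.factorization_eq_zero_of_not_dvd (Cfsg.Lib.TwoDim.degree_not_dvd hp χ hne), add_zero] at hdegree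
    have hpos : 0 < (Nat.card (Matrix.SpecialLinearGroup (Fin 2) F)).factorization p := by
      refine hp1.factorization_pos_of_dvd Nat.card_pos.ne' ?_
      rw [Cfsg.Lib.TwoDim.card_sl_factor]
      exact Dvd.dvd.mul_right (Dvd.dvd.mul_right hq _) _
    have hz : g ∈ Subgroup.center (Matrix.SpecialLinearGroup (Fin 2) F) := by
      rcases Cfsg.Lib.TwoDim.central_of_dvd_cenCard p hp (Cfsg.Lib.Block.not_dvd_orderOf_defectClass hM hB hg)
        (Nat.dvd_of_factorization_pos (by omega)) with rfl | rfl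
      · exact one_mem _
      · exact Cfsg.Lib.TwoDim.neg_one_mem_center
    have hle : ∀ x, x ∈ Subgroup.centralizer ({g} : Set (Matrix.SpecialLinearGroup (Fin 2) F)) := fun x =>
      Subgroup.mem_centralizer_iff.2 (by rintro h rfl; exact (Subgroup.mem_center_iff.1 hz x).symm)
    obtain ⟨Q, hQ⟩ : ∃ Q : Sylow p (Subgroup.centralizer ({g} : Set (Matrix.SpecialLinearGroup (Fin 2) F))),
        Q = P.subtype (fun x _ => hle x) := ⟨_, rfl⟩
    refine ⟨g, hg, Q, ?_⟩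
    rw [hQ, Sylow.coe_subtype, Subgroup.map_subgroupOf_eq_of_le (fun x _ => hle x)]
  exact ⟨hdef _ ((hall P₁).2 (Or.inr (Or.inl rfl))) tr htr (by rw [hP₁] at htr; exact htr.2),
    hdef _ ((hall P₂).2 (Or.inr (Or.inr rfl))) fa hfa (hP₂ne fa hfa)⟩

end Cfsg.Agent.S2439
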