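import Cfsg.Statements.S2444
import Cfsg.Agent.Lib.Linear.SLCommutator.TwoThree

set_option autoImplicit false
open Cfsg

namespace Cfsg.Agent.S2444

open Polynomial Cfsg.Lib.Linear.SLComm in
/-- Commutators from primary families. -/
theorem commutator_of_families {K : Type*} [Field K] [Fintype K] {n : ℕ} (g : Matrix.SpecialLinearGroup (Fin n) K)
    (h : ∀ S : Multiset K[X], (∀ f ∈ S, IsPrimary f) → (S.map dv).prod = 1 → (S.map natDegree).sum = n → GM S) :
    ∃ a b : Matrix.SpecialLinearGroup (Fin n) K, g = a * b * a⁻¹ * b⁻¹ := by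
  classical
  obtain ⟨ι, _, p, e, hm, hi, he, hf⟩ := Cfsg.Lib.CanonicalForm.exists_form g.1
  refine exists_commutator g (good_of_hasForm g.1 hf
    ((h ((Finset.univ : Finset ι).val.map fun i => p i ^ e i) ?_ ?_ ?_).good _ rfl))
  · intro x hx
    obtain ⟨i, -, rfl⟩ := Multiset.mem_map.1 hx
    exact ⟨p i, e i, hm i, hi i, he i, rfl⟩
  · rw [Multiset.map_map]
    exact (dv_prod_of_hasForm g.1 (fun i => (hm i).pow (e i)) hf).trans g.2
  · rw [Multiset.map_map]
    exact hf.sum_natDegree fun i => (hm i).pow (e i)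

/-- Transport along an isomorphism of fields. -/
theorem commutator_transfer {K F : Type*} [Field K] [Field F] (e : K ≃+* F) {n : ℕ}
    (g : Matrix.SpecialLinearGroup (Fin n) F)
    (h : ∀ g : Matrix.SpecialLinearGroup (Fin n) K, ∃ a b, g = a * b * a⁻¹ * b⁻¹) :
    ∃ a b : Matrix.SpecialLinearGroup (Fin n) F, g = a * b * a⁻¹ * b⁻¹ := by
  obtain ⟨a, b, hab⟩ := h (Matrix.SpecialLinearGroup.map e.symm.toRingHom g)
  refine ⟨Matrix.SpecialLinearGroup.map e.toRingHom a, Matrix.SpecialLinearGroup.map e.toRingHom b, ?_⟩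
  simp only [← map_inv, ← map_mul]
  rw [← hab]
  ext i j
  simp

/-- In the special linear group SL(n,F) over a finite field F, with n ≥ 2 and (n, |F|) not (2,2) or (2,3), every element is a commutator a·b·a⁻¹·b⁻¹ of two elements of SL(n,F). -/
theorem result {F : Type*} [Field F] [Fintype F] (n : ℕ) (hn : 2 ≤ n) (hex : n = 2 → 4 ≤ Fintype.card F) :
    ∀ g : Matrix.SpecialLinearGroup (Fin n) F, ∃ a b : Matrix.SpecialLinearGroup (Fin n) F, g = a * b * a⁻¹ * b⁻¹ := by
  intro g
  rcases (show Fintype.card F = 2 ∨ Fintype.card F = 3 ∨ 4 ≤ Fintype.card F by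
    have := Fintype.one_lt_card (α := F); omega) with h | h | h
  · refine commutator_transfer (ZMod.ringEquivOfPrime F Nat.prime_two h) g fun g => ?_
    exact commutator_of_families g fun S hP hd hn' => Cfsg.Lib.Linear.SLComm.gm_two S hP hd fun f hf hS => by
      rw [hS] at hn'
      simp [hf] at hn'
      have := hex hn'.symm
      omega
  · refine commutator_transfer (ZMod.ringEquivOfPrime F Nat.prime_three h) g fun g => ?_
    exact commutator_of_families g fun S hP hd hn' => Cfsg.Lib.Linear.SLComm.gm_three S hP hd fun f hf hS => by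
      rw [hS] at hn'
      simp [hf] at hn'
      have := hex hn'.symm
      omega
  · exact commutator_of_families g fun S hP hd _ => Cfsg.Lib.Linear.SLComm.gm_four h S hP hd

end Cfsg.Agent.S2444
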