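import Cfsg.Statements.S2450
import Cfsg.Agent.Lib.Dickson.Involutions
-- import your own Cfsg.Agent.* helpers here

set_option autoImplicit false
open Cfsg

namespace Cfsg.Agent.S2450

open Matrix Cfsg.Lib.Dickson

variable {F : Type*} [Field F] [Fintype F]

local notation "SL2" => Matrix.SpecialLinearGroup (Fin 2) F
local notation "PSL2" => Matrix.ProjectiveSpecialLinearGroup (Fin 2) F

theorem trace_conj (P g : SL2) : (P * g * P⁻¹).1 0 0 + (P * g * P⁻¹).1 1 1 = g.1 0 0 + g.1 1 1 := by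
  have h : (P * g * P⁻¹).1.trace = g.1.trace := by
    rw [show (P * g * P⁻¹).1 = P.1 * g.1 * (P⁻¹).1 from rfl, Matrix.trace_mul_cycle,
      show (P⁻¹).1 * P.1 = (P⁻¹ * P).1 from rfl, inv_mul_cancel]
    simp
  simpa [Matrix.trace_fin_two] using h

/-- The trace of a projective class is determined up to sign. -/
theorem trace_cases {c g : SL2} (h : IsConj (QuotientGroup.mk c : PSL2) (QuotientGroup.mk g)) :
    g.1 0 0 + g.1 1 1 = c.1 0 0 + c.1 1 1 ∨ g.1 0 0 + g.1 1 1 = -(c.1 0 0 + c.1 1 1) := by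
  obtain ⟨u, hu⟩ := isConj_iff.mp h
  obtain ⟨u, rfl⟩ := QuotientGroup.mk_surjective u
  rw [← QuotientGroup.mk_inv, ← QuotientGroup.mk_mul, ← QuotientGroup.mk_mul] at hu
  obtain ⟨z, hz, rfl⟩ : ∃ z ∈ Subgroup.center SL2, g = u * c * u⁻¹ * z :=
    ⟨(u * c * u⁻¹)⁻¹ * g, QuotientGroup.eq.mp hu, by group⟩
  obtain ⟨z01, z10, z11⟩ := mem_center_sl hz
  have hd := z.2
  rw [Matrix.det_fin_two, z01, z10, z11, mul_zero, sub_zero] at hd
  have e : (u * c * u⁻¹ * z).1 0 0 + (u * c * u⁻¹ * z).1 1 1 = z.1 0 0 * (c.1 0 0 + c.1 1 1) := by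
    rw [← trace_conj u c]
    show ((u * c * u⁻¹).1 * z.1) 0 0 + ((u * c * u⁻¹).1 * z.1) 1 1 = _
    simp only [Matrix.mul_apply, Fin.sum_univ_two, z01, z10, z11]
    ring
  rcases mul_self_eq_one_iff.mp hd with h1 | h1 <;> rw [h1] at e
  · exact Or.inl (by rw [e, one_mul])
  · exact Or.inr (by rw [e, neg_one_mul])

/-- A non-scalar element is conjugate to an element with vanishing corner. -/
theorem exists_corner (g : SL2) (h : (QuotientGroup.mk g : PSL2) ≠ 1) :
    ∃ (P : SL2) (s e e' : F), e * e' = 1 ∧ (P * g * P⁻¹).1 = !![s, -e'; e, 0] := by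
  obtain ⟨v0, v1, hv⟩ : ∃ v0 v1 : F, g.1 1 0 * v0 ^ 2 + (g.1 1 1 - g.1 0 0) * v0 * v1 - g.1 0 1 * v1 ^ 2 ≠ 0 := by
    by_cases h10 : g.1 1 0 = 0
    · by_cases h01 : g.1 0 1 = 0
      · refine ⟨1, 1, ?_⟩
        rcases not_scalar_of_ne_one h with h' | h' | h'
        · exact absurd h01 h'
        · exact absurd h10 h'
        · simpa [h10, h01, sub_eq_zero] using (Ne.symm h')
      · exact ⟨0, 1, by simpa using h01⟩
    · exact ⟨1, 0, by simpa using h10⟩
  set e := g.1 1 0 * v0 ^ 2 + (g.1 1 1 - g.1 0 0) * v0 * v1 - g.1 0 1 * v1 ^ 2 with he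
  have hd := g.2
  rw [Matrix.det_fin_two] at hd
  set w0 := g.1 0 0 * v0 + g.1 0 1 * v1 with hw0
  set w1 := g.1 1 0 * v0 + g.1 1 1 * v1 with hw1
  have hvw : v0 * w1 - v1 * w0 = e := by rw [hw0, hw1, he]; ring
  let Q : SL2 := ⟨!![v0, w0 * e⁻¹; v1, w1 * e⁻¹], by
    rw [Matrix.det_fin_two_of]
    linear_combination e⁻¹ * hvw + mul_inv_cancel₀ hv⟩
  let T : SL2 := ⟨!![0, -e⁻¹; e, g.1 0 0 + g.1 1 1], by
    rw [Matrix.det_fin_two_of]; linear_combination mul_inv_cancel₀ hv⟩
  have key : g * Q = Q * T := by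
    apply Subtype.ext
    show g.1 * Q.1 = Q.1 * !![0, -e⁻¹; e, g.1 0 0 + g.1 1 1]
    ext i j
    fin_cases i <;> fin_cases j <;> simp [Q, Matrix.mul_apply, Fin.sum_univ_two]
    · linear_combination -hw0 - w0 * mul_inv_cancel₀ hv
    · linear_combination g.1 0 0 * e⁻¹ * hw0 + g.1 0 1 * e⁻¹ * hw1 - v0 * e⁻¹ * hd -
        (g.1 0 0 + g.1 1 1) * e⁻¹ * hw0
    · linear_combination -hw1 - w1 * mul_inv_cancel₀ hv
    · linear_combination g.1 1 0 * e⁻¹ * hw0 + g.1 1 1 * e⁻¹ * hw1 - v1 * e⁻¹ * hd -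
        (g.1 0 0 + g.1 1 1) * e⁻¹ * hw1
  let W : SL2 := ⟨!![0, 1; -1, 0], by simp [Matrix.det_fin_two_of]⟩
  refine ⟨W * Q⁻¹, g.1 0 0 + g.1 1 1, e⁻¹, e, inv_mul_cancel₀ hv, ?_⟩
  have h1 : W * Q⁻¹ * g * (W * Q⁻¹)⁻¹ = W * (Q⁻¹ * (g * Q)) * W⁻¹ := by group
  rw [h1, key, inv_mul_cancel_left]
  show W.1 * !![0, -e⁻¹; e, g.1 0 0 + g.1 1 1] * Matrix.adjugate W.1 = _
  ext i j
  fin_cases i <;> fin_cases j <;> simp [W, Matrix.mul_apply, Fin.sum_univ_two, Matrix.adjugate_fin_two]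

/-- The Arad–Herzog conjecture for PSL(2,q): let F be a finite field with q ≥ 4 elements. For any two non-identity elements a, b of PSL(2,F), the set of products of a conjugate of a with a conjugate of b is not a single conjugacy class. -/
theorem result {F : Type*} [Field F] [Fintype F] (h4 : 4 ≤ Fintype.card F)
    (a b : Matrix.ProjectiveSpecialLinearGroup (Fin 2) F) (ha : a ≠ 1) (hb : b ≠ 1) (c : Matrix.ProjectiveSpecialLinearGroup (Fin 2) F) :
    {g : Matrix.ProjectiveSpecialLinearGroup (Fin 2) F | ∃ u v : Matrix.ProjectiveSpecialLinearGroup (Fin 2) F, g = (u * a * u⁻¹) * (v * b * v⁻¹)} ≠ {g | IsConj c g} := by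
  classical
  intro hset
  obtain ⟨A, rfl⟩ := QuotientGroup.mk_surjective a
  obtain ⟨B, rfl⟩ := QuotientGroup.mk_surjective b
  obtain ⟨C, rfl⟩ := QuotientGroup.mk_surjective c
  obtain ⟨P, s, e, e', he, hA⟩ := exists_corner A ha
  obtain ⟨R, r, f, f', hf, hB⟩ := exists_corner B hb
  let W : Matrix.SpecialLinearGroup (Fin 2) F := ⟨!![0, 1; -1, 0], by simp [Matrix.det_fin_two_of]⟩
  set τ := C.1 0 0 + C.1 1 1 with hτ
  let P2 : Polynomial F := Polynomial.C (-(e * f')) * Polynomial.X ^ 2 + Polynomial.C (s * f' + e * r) * Polynomial.X +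
    Polynomial.C (-(e' * f') - e * f)
  have hef : e * f' ≠ 0 := mul_ne_zero (left_ne_zero_of_mul_eq_one he) (right_ne_zero_of_mul_eq_one hf)
  have hval : ∀ x : F, P2.eval x = τ ∨ P2.eval x = -τ := by
    intro x
    let U : Matrix.SpecialLinearGroup (Fin 2) F := ⟨!![1, x; 0, 1], by simp [Matrix.det_fin_two_of]⟩
    set M := P * A * P⁻¹ * (U * W * R * B * (U * W * R)⁻¹) with hM
    have hmem : (QuotientGroup.mk M : Matrix.ProjectiveSpecialLinearGroup (Fin 2) F) ∈
        {g : Matrix.ProjectiveSpecialLinearGroup (Fin 2) F | ∃ u v, g = (u * QuotientGroup.mk A * u⁻¹) * (v * QuotientGroup.mk B * v⁻¹)} :=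
      ⟨QuotientGroup.mk P, QuotientGroup.mk (U * W * R), rfl⟩
    rw [hset] at hmem
    have htr : M.1 0 0 + M.1 1 1 = P2.eval x := by
      have e1 : M = P * A * P⁻¹ * (U * (W * (R * B * R⁻¹) * W⁻¹) * U⁻¹) := by rw [hM]; group
      rw [e1]
      show ((P * A * P⁻¹).1 * (U.1 * (W.1 * (R * B * R⁻¹).1 * Matrix.adjugate W.1) * Matrix.adjugate U.1)) 0 0 +
        ((P * A * P⁻¹).1 * (U.1 * (W.1 * (R * B * R⁻¹).1 * Matrix.adjugate W.1) * Matrix.adjugate U.1)) 1 1 = _
      rw [hA, hB]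
      simp [P2, U, W, Matrix.mul_apply, Fin.sum_univ_two, Matrix.adjugate_fin_two]
      ring
    rcases trace_cases hmem with h | h
    · exact Or.inl (htr ▸ h)
    · exact Or.inr (htr ▸ h)
  have hcard : ∀ v : F, (Finset.univ.filter fun x => P2.eval x = v).card ≤ 2 := by
    intro v
    have hdeg : (P2 - Polynomial.C v).natDegree ≤ 2 := by
      simp only [P2]; compute_degree
    have hne : P2 - Polynomial.C v ≠ 0 := by
      intro h
      have := congrArg (fun Q : Polynomial F => Q.coeff 2) h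
      simp [P2, -map_mul, -map_neg, Polynomial.coeff_X, Polynomial.coeff_C] at this
      exact hef (by rcases this with h | h <;> simp [h])
    refine le_trans (Finset.card_le_card ?_) ((Multiset.toFinset_card_le _).trans
      ((Polynomial.card_roots' (P2 - Polynomial.C v)).trans hdeg))
    intro x hx
    simp only [Finset.mem_filter, Finset.mem_univ, true_and] at hx
    rw [Multiset.mem_toFinset, Polynomial.mem_roots hne]
    simp [hx]
  have hsub : (Finset.univ : Finset F) ⊆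
      (Finset.univ.filter fun x => P2.eval x = τ) ∪ (Finset.univ.filter fun x => P2.eval x = -τ) := by
    intro x _
    simp only [Finset.mem_union, Finset.mem_filter, Finset.mem_univ, true_and]
    exact hval x
  by_cases h2 : (2 : F) = 0
  · have hneg : -τ = τ := by linear_combination (-τ) * h2
    rw [hneg, Finset.union_self] at hsub
    have := (Finset.card_le_card hsub).trans (hcard τ)
    rw [Finset.card_univ] at this
    omega
  · have hodd : Fintype.card F % 2 = 1 := FiniteField.odd_card_of_char_ne_two fun h => h2 (by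
      haveI : CharP F 2 := h ▸ ringChar.charP F
      exact_mod_cast CharP.cast_eq_zero F 2)
    have := ((Finset.card_le_card hsub).trans (Finset.card_union_le _ _)).trans (Nat.add_le_add (hcard τ) (hcard (-τ)))
    rw [Finset.card_univ] at this
    omega

end Cfsg.Agent.S2450
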