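import Cfsg.Statements.S2455
import Cfsg.Agent.Lib.Dickson.TraceClass
-- import your own Cfsg.Agent.* helpers here

set_option autoImplicit false
open Cfsg

namespace Cfsg.Agent.S2455

/-- A strong covering result in the direction of Thompson's conjecture (non-identity elements) for PSL(2,q), q odd: let F be a finite field of odd characteristic p with at least 5 elements and let x ∈ PSL(2,F) have order greater than 2 and not divisible by p (so x is not unipotent). Then every non-identity element of PSL(2,F) is a product of two conjugates of x. -/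
theorem result {F : Type*} [Field F] [Fintype F] (p : ℕ) [Fact p.Prime] [CharP F p] (hp : p ≠ 2) (h5 : 5 ≤ Fintype.card F)
    (x : Matrix.ProjectiveSpecialLinearGroup (Fin 2) F) (hx2 : 2 < orderOf x) (hxp : ¬ p ∣ orderOf x) : ∀ g : Matrix.ProjectiveSpecialLinearGroup (Fin 2) F, g ≠ 1 → ∃ u v : Matrix.ProjectiveSpecialLinearGroup (Fin 2) F, g = (u * x * u⁻¹) * (v * x * v⁻¹) := by
  classical
  intro g hg
  obtain ⟨X, rfl⟩ := QuotientGroup.mk_surjective x
  have hodd : Fintype.card F % 2 = 1 := FiniteField.odd_card_of_char_ne_two (by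
    rwa [ringChar.eq F p])
  have h20 : (2 : F) ≠ 0 := Cfsg.Lib.Dickson.two_ne_zero_of_odd hodd
  have hsq : (QuotientGroup.mk X : Matrix.ProjectiveSpecialLinearGroup (Fin 2) F) ^ 2 ≠ 1 := fun h => by
    have := Nat.le_of_dvd (by norm_num) (orderOf_dvd_of_pow_eq_one h); omega
  have hs0 := Cfsg.Lib.Dickson.trace_ne_zero_of_sq_ne_one hsq
  have hs4 : (X.1 0 0 + X.1 1 1) ^ 2 ≠ 4 := by
    intro h4
    refine hxp ?_
    have h := Cfsg.Lib.Linear.Dickson.sq_pow_eq_one (p := p) (y := X) (by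
      show (X.1 0 0 + X.1 1 1) * (X.1 0 0 + X.1 1 1) = 4
      rw [← sq]; exact h4)
    have h' : (QuotientGroup.mk X : Matrix.ProjectiveSpecialLinearGroup (Fin 2) F) ^ p = 1 := by
      rw [← QuotientGroup.mk_pow, QuotientGroup.eq_one_iff]
      refine Cfsg.Lib.Linear.Dickson.mem_center_of_sq_eq_one (Cfsg.Lib.Linear.Dickson.two_ne_zero' hp) ?_
      rw [← h, ← pow_two, ← pow_two, ← pow_mul, ← pow_mul, mul_comm]
    rcases (Nat.dvd_prime (Fact.out : p.Prime)).mp (orderOf_dvd_of_pow_eq_one h') with h'' | h''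
    · omega
    · exact h''.symm ▸ dvd_rfl
  -- choose the lift whose trace is not two
  obtain ⟨G, rfl, hτ⟩ : ∃ G : Matrix.SpecialLinearGroup (Fin 2) F, (QuotientGroup.mk G : Matrix.ProjectiveSpecialLinearGroup (Fin 2) F) = g ∧ G.1 0 0 + G.1 1 1 ≠ 2 := by
    obtain ⟨G, rfl⟩ := QuotientGroup.mk_surjective g
    by_cases h : G.1 0 0 + G.1 1 1 = 2
    · let Z : Matrix.SpecialLinearGroup (Fin 2) F := ⟨!![-1, 0; 0, -1], by simp [Matrix.det_fin_two_of]⟩
      refine ⟨G * Z, QuotientGroup.eq.mpr ?_, ?_⟩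
      · rw [show (G * Z)⁻¹ * G = Z⁻¹ by group]
        refine inv_mem (Cfsg.Lib.Dickson.mem_center_of_eq_scalar (c := -1) (by norm_num) ?_)
        ext i j; fin_cases i <;> fin_cases j <;> simp [Z]
      · show (G.1 * Z.1) 0 0 + (G.1 * Z.1) 1 1 ≠ 2
        simp [Z, Matrix.mul_apply, Fin.sum_univ_two]
        intro h'
        refine mul_ne_zero h20 h20 ?_
        linear_combination -h - h'
    · exact ⟨G, rfl, h⟩
  obtain ⟨P, e, he, hP⟩ := Cfsg.Lib.Dickson.exists_conj_corner_of_ne_one hg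
  set s := X.1 0 0 + X.1 1 1 with hsdef
  set τ := G.1 0 0 + G.1 1 1 with hτdef
  obtain ⟨a, y, hay⟩ : ∃ a y : F, y ^ 2 = (τ ^ 2 - 4) * a ^ 2 + 2 * s * (2 - τ) * a + (s ^ 2 - 4) := by
    by_cases h4 : τ ^ 2 = 4
    · have hl : 2 * s * (2 - τ) ≠ 0 := mul_ne_zero (mul_ne_zero h20 hs0) (sub_ne_zero.mpr (Ne.symm hτ))
      refine ⟨-(s ^ 2 - 4) / (2 * s * (2 - τ)), 0, ?_⟩
      rw [h4, sub_self, zero_mul, zero_add, mul_div_cancel₀ _ hl]
      ring
    · obtain ⟨y, a, h⟩ := FiniteField.exists_root_sum_quadratic (R := F) (f := Polynomial.X ^ 2)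
        (g := Polynomial.C (-(τ ^ 2 - 4)) * Polynomial.X ^ 2 + Polynomial.C (-(2 * s * (2 - τ))) * Polynomial.X +
          Polynomial.C (-(s ^ 2 - 4))) (Polynomial.degree_X_pow 2)
        (Polynomial.degree_quadratic (neg_ne_zero.mpr (sub_ne_zero.mpr h4))) hodd
      simp only [Polynomial.eval_pow, Polynomial.eval_X, Polynomial.eval_add, Polynomial.eval_mul, Polynomial.eval_C] at h
      exact ⟨a, y, by linear_combination h⟩
  obtain ⟨u, v, huv⟩ := Cfsg.Lib.Dickson.exists_two_conjugates (a := a) (w := (y - (s - τ * a)) / 2) he hP hs4 (by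
    rw [← hsdef, ← hτdef]
    field_simp
    linear_combination hay)
  exact ⟨QuotientGroup.mk u, QuotientGroup.mk v, by rw [huv]; rfl⟩

end Cfsg.Agent.S2455
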