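import Cfsg.Statements.S2456
import Cfsg.Agent.Lib.Dickson.TraceClass
-- import your own Cfsg.Agent.* helpers here

set_option autoImplicit false
open Cfsg

namespace Cfsg.Agent.S2456

/-- A strong covering result in the direction of Thompson's conjecture (non-identity elements) for PSL(2,q), q even: let F be a finite field of characteristic 2 with q ≥ 4 elements and let x ∈ PSL(2,F) have order greater than 2 and not dividing q + 1. Then every non-identity element of PSL(2,F) is a product of two conjugates of x. -/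
theorem result {F : Type*} [Field F] [Fintype F] [CharP F 2] (h4 : 4 ≤ Fintype.card F)
    (x : Matrix.ProjectiveSpecialLinearGroup (Fin 2) F) (hx2 : 2 < orderOf x) (hxq : ¬ orderOf x ∣ Fintype.card F + 1) : ∀ g : Matrix.ProjectiveSpecialLinearGroup (Fin 2) F, g ≠ 1 → ∃ u v : Matrix.ProjectiveSpecialLinearGroup (Fin 2) F, g = (u * x * u⁻¹) * (v * x * v⁻¹) := by
  classical
  intro g hg
  haveI : Fact (Nat.Prime 2) := ⟨Nat.prime_two⟩
  obtain ⟨X, rfl⟩ := QuotientGroup.mk_surjective x
  obtain ⟨G, rfl⟩ := QuotientGroup.mk_surjective g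
  have h20 : (2 : F) = 0 := CharTwo.two_eq_zero
  have hsq : (QuotientGroup.mk X : Matrix.ProjectiveSpecialLinearGroup (Fin 2) F) ^ 2 ≠ 1 := fun h => by
    have := Nat.le_of_dvd (by norm_num) (orderOf_dvd_of_pow_eq_one h); omega
  have hs0 := Cfsg.Lib.Dickson.trace_ne_zero_of_sq_ne_one hsq
  have hs4 : (X.1 0 0 + X.1 1 1) ^ 2 ≠ 4 := by
    intro h
    rw [show (4 : F) = 2 * 2 by norm_num, h20, mul_zero] at h
    exact hs0 (pow_eq_zero_iff two_ne_zero |>.mp h)
  set s := X.1 0 0 + X.1 1 1 with hsdef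
  -- an eigenvalue in the field
  obtain ⟨r, hr⟩ : ∃ r : F, r ^ 2 - s * r + 1 = 0 := by
    set K := AlgebraicClosure F
    set t := algebraMap F K s with ht
    obtain ⟨r, hr⟩ := IsAlgClosed.exists_root
      (Polynomial.X ^ 2 - Polynomial.C t * Polynomial.X + Polynomial.C 1 : Polynomial K) (by
        have : (Polynomial.X ^ 2 - Polynomial.C t * Polynomial.X + Polynomial.C 1 :
            Polynomial K).degree = 2 := by compute_degree!
        rw [this]; norm_num)
    simp only [Polynomial.IsRoot, Polynomial.eval_add, Polynomial.eval_sub, Polynomial.eval_pow,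
      Polynomial.eval_X, Polynomial.eval_mul, Polynomial.eval_C] at hr
    have hr' : r ^ 2 = t * r - 1 := by linear_combination hr
    have hr0 : r ≠ 0 := by rintro rfl; simp at hr'
    haveI : CharP K 2 := charP_of_injective_algebraMap (algebraMap F K).injective 2
    have hne : r * r ≠ 1 := by
      intro h
      have h1 : t * r = 0 := by linear_combination -hr' + h + CharTwo.two_eq_zero (R := K)
      exact hs0 ((algebraMap F K).injective (by rw [map_zero]; exact (mul_eq_zero.mp h1).resolve_right hr0))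
    have hfrob : (r ^ Fintype.card F) ^ 2 = t * r ^ Fintype.card F - 1 := by
      obtain ⟨n, hpn, hn⟩ := FiniteField.card F 2
      have htq : t ^ Fintype.card F = t := by rw [ht, ← map_pow, FiniteField.pow_card]
      rw [← pow_mul, mul_comm, pow_mul, hr', hn, sub_pow_char_pow, mul_pow, one_pow, ← hn, htq]
    have hsplit : (r ^ Fintype.card F - r) * (r ^ Fintype.card F - r⁻¹) = 0 := by
      apply mul_left_cancel₀ hr0
      rw [mul_zero]
      linear_combination r * hfrob - r ^ Fintype.card F * hr' + (r - r ^ Fintype.card F) * mul_inv_cancel₀ hr0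
    rcases mul_eq_zero.mp hsplit with h | h
    · obtain ⟨a, ha⟩ := Cfsg.Lib.Spec.mem_range_algebraMap_of_pow_card (F := F) (sub_eq_zero.mp h)
      refine ⟨a, (algebraMap F K).injective ?_⟩
      rw [map_add, map_sub, map_mul, map_pow, map_one, map_zero, ha]
      exact hr
    · exfalso
      refine hxq (orderOf_dvd_of_pow_eq_one ?_)
      rw [Cfsg.Lib.Spec.mk_pow_eq_one_iff]
      refine Cfsg.Lib.Spec.pow_scalar_of_root X hr' hne ?_
      rw [pow_succ r, sub_eq_zero.mp h, inv_mul_cancel₀ hr0, one_pow]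
  obtain ⟨P, e, he, hP⟩ := Cfsg.Lib.Dickson.exists_conj_corner_of_ne_one hg
  set τ := G.1 0 0 + G.1 1 1 with hτdef
  obtain ⟨a, w, haw⟩ : ∃ a w : F, a ^ 2 - s * a + w ^ 2 + s * w - τ * a * w + 1 = 0 := by
    by_cases hτ : τ = 0
    · exact ⟨r, 0, by rw [hτ]; linear_combination hr⟩
    · obtain ⟨a, ha⟩ := (frobeniusEquiv F 2).surjective ((s / τ) ^ 2 + s * (s / τ) + 1)
      refine ⟨a, s / τ, ?_⟩
      have ha' : a ^ 2 = (s / τ) ^ 2 + s * (s / τ) + 1 := ha
      linear_combination ha' + a * mul_div_cancel₀ s hτ * (-1) + ((s / τ) ^ 2 + s * (s / τ) + 1 - s * a) * h20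
  obtain ⟨u, v, huv⟩ := Cfsg.Lib.Dickson.exists_two_conjugates (a := a) (w := w) he hP hs4 (by
    rw [← hsdef, ← hτdef]; exact haw)
  exact ⟨QuotientGroup.mk u, QuotientGroup.mk v, by rw [huv]; rfl⟩

end Cfsg.Agent.S2456
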