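import Cfsg.Statements.S2457
import Cfsg.Agent.Lib.Spec.SuzukiChar.Covering
import Cfsg.Agent.Lib.Linear.Suzuki.LieForm

set_option autoImplicit false
open Cfsg

namespace Cfsg.Agent.S2457

/-- A strong covering result in the direction of Thompson's conjecture (non-identity elements) for the Suzuki groups: let q = 2^(2m+1) ≥ 8, F the field with q elements and Sz(q) the Suzuki group over F. For every element x of Sz(q) of order greater than 2, every non-identity element of Sz(q) is a product of two conjugates of x. -/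
theorem result {F : Type*} [Field F] [Fintype F] (m : ℕ) (hm : 1 ≤ m) (hF : Fintype.card F = 2 ^ (2 * m + 1))
    (x : Cfsg.Lie.Sz F (2 ^ (m + 1))) (hx2 : 2 < orderOf x) : ∀ g : Cfsg.Lie.Sz F (2 ^ (m + 1)), g ≠ 1 → ∃ u v : Cfsg.Lie.Sz F (2 ^ (m + 1)), g = (u * x * u⁻¹) * (v * x * v⁻¹) := by
  classical
  intro g hg
  have hP : Cfsg.Lib.Linear.Suz.Params F m := ⟨hm, hF⟩
  obtain ⟨e, -⟩ := Cfsg.Lib.Linear.Suz.exists_lie_equiv hP
  haveI : Finite ↥(Cfsg.Sz F m) := Finite.of_equiv _ e.symm.toEquiv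
  haveI := Fintype.ofFinite ↥(Cfsg.Sz F m)
  obtain ⟨u, v, huv⟩ := Cfsg.Lib.SuzChar.exists_product hP (x := e.symm x) (g := e.symm g)
    (by rw [MulEquiv.orderOf_eq]; exact hx2) (fun e1 => hg (e.symm.injective (e1.trans (map_one _).symm)))
  refine ⟨e u, e v, e.symm.injective ?_⟩
  simp [huv]

end Cfsg.Agent.S2457
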