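import Cfsg.Statements.S2459
-- import your own Cfsg.Agent.* helpers here

set_option autoImplicit false
open Cfsg

namespace Cfsg.Agent.S2459

open Matrix

variable {F : Type*} [Field F]

/-- Similarity of square matrices of size three, without units. -/
def Sim (A B : Matrix (Fin 3) (Fin 3) F) : Prop :=
  ∃ R : Matrix (Fin 3) (Fin 3) F, R.det ≠ 0 ∧ A * R = R * B

/-- A product of two matrices similar to a given one. -/
def GoodProd (x g : Matrix (Fin 3) (Fin 3) F) : Prop :=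
  ∃ A B, Sim A x ∧ Sim B x ∧ g = A * B

theorem Sim.trans {A B C : Matrix (Fin 3) (Fin 3) F} (h : Sim A B) (h' : Sim B C) : Sim A C := by
  obtain ⟨R, hR, e⟩ := h
  obtain ⟨S, hS, e'⟩ := h'
  exact ⟨R * S, by rw [det_mul]; exact mul_ne_zero hR hS,
    by rw [← mul_assoc, e, mul_assoc, e', ← mul_assoc]⟩

theorem GoodProd.of_sim {x g g' : Matrix (Fin 3) (Fin 3) F} (h : Sim g g') (h' : GoodProd x g') :
    GoodProd x g := by
  obtain ⟨R, hR, e⟩ := h
  obtain ⟨A, B, hA, hB, rfl⟩ := h'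
  have hu : IsUnit R.det := isUnit_iff_ne_zero.mpr hR
  refine ⟨R * A * R⁻¹, R * B * R⁻¹, Sim.trans ⟨R, hR, ?_⟩ hA, Sim.trans ⟨R, hR, ?_⟩ hB, ?_⟩
  · rw [Matrix.nonsing_inv_mul_cancel_right _ _ hu]
  · rw [Matrix.nonsing_inv_mul_cancel_right _ _ hu]
  · calc g = g * R * R⁻¹ := (Matrix.mul_nonsing_inv_cancel_right _ _ hu).symm
      _ = R * A * (R⁻¹ * R) * B * R⁻¹ := by
          rw [e, Matrix.nonsing_inv_mul _ hu, mul_one]; simp only [mul_assoc]
      _ = R * A * R⁻¹ * (R * B * R⁻¹) := by simp only [mul_assoc]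

theorem sim_det {A B : Matrix (Fin 3) (Fin 3) F} (h : Sim A B) : A.det = B.det := by
  obtain ⟨R, hR, e⟩ := h
  have := congrArg Matrix.det e
  rw [det_mul, det_mul, mul_comm R.det] at this
  exact mul_right_cancel₀ hR this

theorem sim_companion (g : Matrix (Fin 3) (Fin 3) F) (hg : g.det = 1) (v : Fin 3 → F)
    (hv : Matrix.det (Matrix.of fun i j : Fin 3 => ![v, g *ᵥ v, g *ᵥ (g *ᵥ v)] j i) ≠ 0) :
    ∃ r s : F, Sim g !![0, 0, 1; 1, 0, r; 0, 1, s] := by
  set P : Matrix (Fin 3) (Fin 3) F := Matrix.of fun i j : Fin 3 => ![v, g *ᵥ v, g *ᵥ (g *ᵥ v)] j i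
    with hP
  have hu : IsUnit P.det := isUnit_iff_ne_zero.mpr hv
  set w := P⁻¹ *ᵥ (g *ᵥ (g *ᵥ (g *ᵥ v))) with hw
  have hPw : P *ᵥ w = g *ᵥ (g *ᵥ (g *ᵥ v)) := by
    rw [hw, mulVec_mulVec, Matrix.mul_nonsing_inv _ hu, one_mulVec]
  have key : Sim g !![0, 0, w 0; 1, 0, w 1; 0, 1, w 2] := by
    refine ⟨P, hv, ?_⟩
    ext i j
    have h3 := congrFun hPw i
    fin_cases j <;>
      simp [Matrix.mul_apply, Fin.sum_univ_three, hP, mulVec, dotProduct] at h3 ⊢
    all_goals first | ring1 | linear_combination -h3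
  have h1 : w 0 = 1 := by
    have := sim_det key
    rw [hg, det_fin_three] at this
    simpa using this.symm
  exact ⟨w 1, w 2, by rwa [h1] at key⟩

theorem offdiag_to_one_zero (g : Matrix (Fin 3) (Fin 3) F) (i j : Fin 3) (hij : i ≠ j)
    (h : g j i ≠ 0) : ∃ g', Sim g g' ∧ g' 1 0 ≠ 0 := by
  have key : ∀ i j : Fin 3, i ≠ j → ∃ σ : Equiv.Perm (Fin 3), σ 0 = i ∧ σ 1 = j := by decide
  obtain ⟨σ, h0, h1⟩ := key i j hij
  refine ⟨g.submatrix σ σ, ⟨(1 : Matrix (Fin 3) (Fin 3) F).submatrix id σ, ?_, ?_⟩, ?_⟩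
  · rw [Matrix.det_permute', det_one, mul_one]
    rcases Int.units_eq_one_or (Equiv.Perm.sign σ) with hs | hs <;> simp [hs]
  · ext a b
    simp only [Matrix.mul_apply, Matrix.submatrix_apply, id, Matrix.one_apply, mul_ite, mul_one,
      mul_zero, ite_mul, one_mul, zero_mul, Finset.sum_ite_eq', Finset.mem_univ, if_true]
    rw [Fintype.sum_eq_single (σ.symm a) (fun k hk => if_neg fun e => hk (by simp [e])),
      if_pos (by simp)]
    simp
  · simpa [h0, h1] using h

theorem exists_offdiag (g : Matrix (Fin 3) (Fin 3) F) (h : ∀ c : F, g ≠ c • 1) :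
    ∃ g', Sim g g' ∧ g' 1 0 ≠ 0 := by
  classical
  by_cases h' : ∃ i j : Fin 3, i ≠ j ∧ g j i ≠ 0
  · obtain ⟨i, j, hij, hne⟩ := h'
    exact offdiag_to_one_zero g i j hij hne
  push Not at h'
  obtain ⟨i, j, hij, hne⟩ : ∃ i j : Fin 3, i ≠ j ∧ g i i ≠ g j j := by
    by_contra hc
    push Not at hc
    refine h (g 0 0) ?_
    ext a b
    rcases eq_or_ne a b with rfl | hab
    · rcases eq_or_ne a 0 with rfl | ha
      · simp
      · simp [hc a 0 ha]
    · simp [h' b a hab.symm, one_apply_ne hab]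
  have hd : g = Matrix.diagonal (fun k => g k k) := by
    ext a b
    rcases eq_or_ne a b with rfl | hab
    · simp
    · simp [h' b a hab.symm, hab]
  set R := Matrix.transvection i j (1 : F) with hR
  have hRd : R.det = 1 := det_transvection_of_ne i j hij 1
  set g' := Matrix.transvection i j (-1 : F) * g * R with hg'
  have hs : Sim g g' := by
    refine ⟨R, by rw [hRd]; exact one_ne_zero, ?_⟩
    have e : R * Matrix.transvection i j (-1 : F) = 1 := by
      rw [hR, Matrix.transvection_mul_transvection_same _ _ hij]; simp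
    rw [hg', ← mul_assoc, ← mul_assoc, e, one_mul]
  have hne' : g' i j ≠ 0 := by
    have e : g' i j = g i i - g j j := by
      rw [hg', hR, Matrix.mul_transvection_apply_same, Matrix.transvection_mul_apply_same,
        Matrix.transvection_mul_apply_same]
      rw [h' j i hij.symm, h' i j hij]
      ring
    rw [e]; exact sub_ne_zero.mpr hne
  obtain ⟨g'', h2, h3⟩ := offdiag_to_one_zero g' j i hij.symm hne'
  exact ⟨g'', hs.trans h2, h3⟩

/-- A non-scalar matrix of determinant one is cyclic or a scalar plus a map of rank one. -/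
theorem normal_forms (g : Matrix (Fin 3) (Fin 3) F) (hdet : g.det = 1) (h : ∀ c : F, g ≠ c • 1) :
    (∃ r s : F, Sim g !![0, 0, 1; 1, 0, r; 0, 1, s]) ∨
      ∃ z a : F, a * z ^ 2 = 1 ∧ Sim g !![z, 1, 0; 0, a, 0; 0, 0, z] := by
  obtain ⟨g₁, hs₁, hne⟩ := exists_offdiag g h
  obtain ⟨c, d, x, y, k, z, hs⟩ : ∃ c d x y k z : F, Sim g !![0, c, x; 1, d, y; 0, k, z] := by
    set P : Matrix (Fin 3) (Fin 3) F := !![1, g₁ 0 0, 0; 0, g₁ 1 0, 0; 0, g₁ 2 0, 1] with hP
    have hPd : P.det = g₁ 1 0 := by rw [hP, det_fin_three]; simp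
    have hu : IsUnit P.det := isUnit_iff_ne_zero.mpr (hPd ▸ hne)
    obtain ⟨M, e⟩ : ∃ M, g₁ * P = P * M := ⟨P⁻¹ * g₁ * P, by
      rw [← mul_assoc, ← mul_assoc, Matrix.mul_nonsing_inv _ hu, one_mul]⟩
    have hcol : ∀ i, M i 0 = (![0, 1, 0] : Fin 3 → F) i := by
      have e0 : P *ᵥ (fun i => M i 0) = P *ᵥ ![0, 1, 0] := by
        ext i
        have := congrFun (congrFun e i) 0
        fin_cases i <;>
          simp [Matrix.mul_apply, Fin.sum_univ_three, hP, mulVec, dotProduct] at this ⊢ <;>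
          linear_combination -this
      have := congrArg (fun u => P⁻¹ *ᵥ u) e0
      simp only [mulVec_mulVec, Matrix.nonsing_inv_mul _ hu, one_mulVec] at this
      exact congrFun this
    refine ⟨M 0 1, M 1 1, M 0 2, M 1 2, M 2 1, M 2 2, hs₁.trans ⟨P, hPd ▸ hne, e.trans ?_⟩⟩
    congr 1
    ext i j
    fin_cases i <;> fin_cases j <;> simp [hcol]
  set M : Matrix (Fin 3) (Fin 3) F := !![0, c, x; 1, d, y; 0, k, z] with hM
  have hMd : M.det = 1 := (sim_det hs).symm.trans hdet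
  have hMd' : x * k - c * z = 1 := by
    rw [hM, det_fin_three] at hMd
    simp at hMd
    linear_combination hMd
  have viaVec : ∀ v : Fin 3 → F,
      Matrix.det (Matrix.of fun i j : Fin 3 => ![v, M *ᵥ v, M *ᵥ (M *ᵥ v)] j i) ≠ 0 →
      ∃ r s : F, Sim g !![0, 0, 1; 1, 0, r; 0, 1, s] := fun v hv => by
    obtain ⟨r, s, h'⟩ := sim_companion M hMd v hv
    exact ⟨r, s, hs.trans h'⟩
  rcases ne_or_eq k 0 with hk | hk
  · refine Or.inl (viaVec ![1, 0, 0] ?_)
    rw [det_fin_three]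
    simp [hM, mulVec, dotProduct, Fin.sum_univ_three]
    exact hk
  subst hk
  -- the vectors `(s, t, 1)` for which the second coordinate of `M v - z v` vanishes
  have hdetv : ∀ t : F,
      Matrix.det (Matrix.of fun i j : Fin 3 => ![![(z - d) * t - y, t, 1],
        M *ᵥ ![(z - d) * t - y, t, 1], M *ᵥ (M *ᵥ ![(z - d) * t - y, t, 1])] j i)
      = (x + z * y - (z ^ 2 - d * z - c) * t) ^ 2 := by
    intro t
    rw [det_fin_three]
    simp [hM, mulVec, dotProduct, Fin.sum_univ_three]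
    ring
  by_cases h1 : x + z * y = 0
  swap
  · refine Or.inl (viaVec _ (by rw [hdetv 0]; simpa using h1))
  by_cases h2 : z ^ 2 - d * z - c = 0
  swap
  · refine Or.inl (viaVec _ (by rw [hdetv 1, h1, mul_one, zero_sub]; exact pow_ne_zero 2 (neg_ne_zero.mpr h2)))
  refine Or.inr ⟨z, d - z, by linear_combination hMd' - z * h2, hs.trans ?_⟩
  refine ⟨!![-(d - z), 1, -y; 1, 0, 0; 0, 0, 1], ?_, ?_⟩
  · rw [det_fin_three]; simp
  · ext i j
    fin_cases i <;> fin_cases j <;>
      simp [hM, Matrix.mul_apply, Fin.sum_univ_three]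
    all_goals first
      | (linear_combination h1) | (linear_combination -h1) | (linear_combination h2)
      | (linear_combination -h2) | ring1

theorem goodProd_of_minors (b : F) (hb0 : b ≠ 0) (hb : b ^ 2 ≠ 1) (M : Matrix (Fin 3) (Fin 3) F)
    (h11 : M 0 0 = 1) (h22 : M 1 1 - M 0 1 * M 1 0 = b ^ 2) (hdet : M.det = 1) :
    GoodProd !![1, 0, 0; 0, b, 0; 0, 0, b⁻¹] M := by
  have hb1 : b ≠ 1 := fun e => hb (by rw [e, one_pow])
  have hb2 : b ^ 2 - 1 ≠ 0 := sub_ne_zero.mpr hb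
  have hb3 : b - 1 ≠ 0 := sub_ne_zero.mpr hb1
  have hb4 : (1 : F) - b ≠ 0 := sub_ne_zero.mpr hb1.symm
  have hb5 : b⁻¹ - b ≠ 0 := by
    intro e
    apply hb
    field_simp at e
    linear_combination -e
  have hb6 : b - b⁻¹ ≠ 0 := by
    intro e; exact hb5 (by linear_combination -e)
  have hb7 : b⁻¹ - 1 ≠ 0 := sub_ne_zero.mpr (by simpa using hb1)
  have hb8 : (1 : F) - b⁻¹ ≠ 0 := by
    intro e; exact hb7 (by linear_combination -e)
  set l := (M 2 1 - M 2 0 * M 0 1) / b with hl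
  set w := (M 1 2 - M 1 0 * M 0 2) / b with hw
  refine ⟨!![1, 0, 0; M 1 0, b, 0; M 2 0, l, b⁻¹], !![1, M 0 1, M 0 2; 0, b, w; 0, 0, b⁻¹],
    ⟨!![1, 0, 0; M 1 0 / (1 - b), 1, 0;
      (M 2 0 + l * (M 1 0 / (1 - b))) / (1 - b⁻¹), l / (b - b⁻¹), 1], ?_, ?_⟩,
    ⟨!![1, M 0 1 / (b - 1), (M 0 2 + M 0 1 * (w / (b⁻¹ - b))) / (b⁻¹ - 1);
      0, 1, w / (b⁻¹ - b); 0, 0, 1], ?_, ?_⟩, ?_⟩
  · rw [det_fin_three]; simp
  · ext i j
    fin_cases i <;> fin_cases j <;> simp [Matrix.mul_apply, Fin.sum_univ_three] <;>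
      field_simp <;> ring
  · rw [det_fin_three]; simp
  · ext i j
    fin_cases i <;> fin_cases j <;> simp [Matrix.mul_apply, Fin.sum_univ_three] <;>
      field_simp <;> ring
  · rw [det_fin_three, h11] at hdet
    ext i j
    fin_cases i <;> fin_cases j <;> simp [Matrix.mul_apply, Fin.sum_univ_three, hl, hw, h11]
    · linear_combination h22
    · field_simp; ring
    · field_simp; ring
    · field_simp
      linear_combination hdet - (M 2 2) * h22 + (M 2 0 * M 0 2) * h22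

theorem good_large (b : F) (hb0 : b ≠ 0) (hb : b ^ 2 ≠ 1) (g : Matrix (Fin 3) (Fin 3) F)
    (hdet : g.det = 1) (h : ∀ c : F, g ≠ c • 1) : GoodProd !![1, 0, 0; 0, b, 0; 0, 0, b⁻¹] g := by
  rcases normal_forms g hdet h with ⟨r, s, hs⟩ | ⟨z, a, haz, hs⟩
  · have h' : Sim !![0, 0, 1; 1, 0, r; 0, 1, s]
        !![1, -1 - b ^ 2, 1 + (r + b ^ 2) - b ^ 2 * s; 1, -1, r + b ^ 2; 0, 1, s] := by
      refine ⟨!![1, -1, b ^ 2; 0, 1, 0; 0, 0, 1], by rw [det_fin_three]; simp, ?_⟩
      ext i j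
      fin_cases i <;> fin_cases j <;> simp [Matrix.mul_apply, Fin.sum_univ_three] <;> ring
    refine GoodProd.of_sim (hs.trans h') (goodProd_of_minors b hb0 hb _ (by simp) ?_ ?_)
    · simp
    · rw [← sim_det h', det_fin_three]; simp
  · have hz : z ≠ 0 := by
      intro e; simp [e] at haz
    obtain ⟨k₂, hk₂⟩ : ∃ k : F, z * k = b ^ 2 - z := ⟨(b ^ 2 - z) / z, by field_simp⟩
    have hd : (!![1, k₂, a - 1 - k₂; 1 - z, z + k₂, a - 1 - k₂; 1 - z, k₂, a + z - 1 - k₂] :
        Matrix (Fin 3) (Fin 3) F).det = 1 := by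
      rw [det_fin_three]; simp; linear_combination haz
    have h' : Sim !![z, 1, 0; 0, a, 0; 0, 0, z]
        !![1, k₂, a - 1 - k₂; 1 - z, z + k₂, a - 1 - k₂; 1 - z, k₂, a + z - 1 - k₂] := by
      rcases ne_or_eq k₂ 0 with hk | hk
      · refine ⟨!![1, 0, 0; 1 - z, k₂, a - 1 - k₂; 1, 0, -1], by rw [det_fin_three]; simp [hk], ?_⟩
        ext i j
        fin_cases i <;> fin_cases j <;> simp [Matrix.mul_apply, Fin.sum_univ_three] <;> ring
      · subst hk
        have hz1 : 1 - z ≠ 0 := by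
          intro e; apply hb; linear_combination -e - hk₂
        refine ⟨!![0, 1, 0; 1 - z, 0, a - 1; 0, 1, -1], by rw [det_fin_three]; simp [hz1], ?_⟩
        ext i j
        fin_cases i <;> fin_cases j <;> simp [Matrix.mul_apply, Fin.sum_univ_three] <;> ring
    refine GoodProd.of_sim (hs.trans h') (goodProd_of_minors b hb0 hb _ (by simp) ?_ hd)
    simp; linear_combination hk₂

theorem good_three (three : (3 : F) = 0) (hc : ∀ z : F, z ≠ 0 → z = 1 ∨ z = -1)
    (g : Matrix (Fin 3) (Fin 3) F) (hdet : g.det = 1) (h : ∀ c : F, g ≠ c • 1) :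
    GoodProd !![1, 1, 0; -1, 1, 0; 0, 0, -1] g := by
  have two : (2 : F) = -1 := by linear_combination three
  rcases normal_forms g hdet h with ⟨r, s, hs⟩ | ⟨z, a, haz, hs⟩
  · refine GoodProd.of_sim hs ?_
    refine GoodProd.of_sim (g' := !![0, -1, 1 - s; 1, 0, 1 + r; 0, 1, s]) ?_ ?_
    · refine ⟨!![1, 0, 1; 0, 1, 0; 0, 0, 1], by rw [det_fin_three]; simp, ?_⟩
      ext i j
      fin_cases i <;> fin_cases j <;> simp [Matrix.mul_apply, Fin.sum_univ_three] <;> ring
    refine ⟨!![1, 1, 0; -1, 1, 0; -1, -1, -1], !![1, 1, r + s; -1, 1, 1 - r + s; 0, 0, -1],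
      ⟨!![1, 0, 0; 0, 1, 0; 0, 1, 1], by rw [det_fin_three]; simp, ?_⟩,
      ⟨!![1, 0, s - 1; 0, 1, -1 - r; 0, 0, 1], by rw [det_fin_three]; simp, ?_⟩, ?_⟩
    all_goals
      ext i j
      fin_cases i <;> fin_cases j <;> simp [Matrix.mul_apply, Fin.sum_univ_three]
    all_goals grind
  · have hz : z ≠ 0 := by
      intro e; simp [e] at haz
    have ha : a = 1 := by
      rcases hc z hz with rfl | rfl <;> simpa using haz
    subst ha
    refine GoodProd.of_sim hs ?_
    rcases hc z hz with rfl | rfl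
    · refine ⟨!![0, 1, 0; 1, -1, 0; 0, 0, -1], !![1, -1, 0; 1, 1, 0; 0, 0, -1],
        ⟨!![1, 1, 0; 0, -1, 0; 0, 0, 1], by rw [det_fin_three]; simp, ?_⟩,
        ⟨!![1, 0, 0; 0, -1, 0; 0, 0, 1], by rw [det_fin_three]; simp, ?_⟩, ?_⟩
      all_goals
        ext i j
        fin_cases i <;> fin_cases j <;> simp [Matrix.mul_apply, Fin.sum_univ_three]
      all_goals grind
    · refine GoodProd.of_sim (g' := !![-1, 0, 0; 0, -1, 0; 0, 0, 1]) ?_ ?_
      · refine ⟨!![1, 0, -1; 0, 0, 1; 0, 1, 0], by rw [det_fin_three]; simp, ?_⟩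
        ext i j
        fin_cases i <;> fin_cases j <;> simp [Matrix.mul_apply, Fin.sum_univ_three]
        all_goals grind
      refine ⟨!![1, 1, 0; -1, 1, 0; 0, 0, -1], !![1, -1, 0; 1, 1, 0; 0, 0, -1],
        ⟨1, by simp, by simp⟩,
        ⟨!![1, 0, 0; 0, -1, 0; 0, 0, 1], by rw [det_fin_three]; simp, ?_⟩, ?_⟩
      all_goals
        ext i j
        fin_cases i <;> fin_cases j <;> simp [Matrix.mul_apply, Fin.sum_univ_three]
      all_goals grind

theorem pow_eq_one_of (T : Matrix.SpecialLinearGroup (Fin 3) F) (m : ℕ)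
    (h : (T : Matrix (Fin 3) (Fin 3) F) ^ m = 1) : T ^ m = 1 :=
  Subtype.ext ((Matrix.SpecialLinearGroup.coe_pow T m).trans
    (h.trans Matrix.SpecialLinearGroup.coe_one.symm))

theorem lift_result (x : Matrix.SpecialLinearGroup (Fin 3) F)
    (hx : ∀ d : F, Commute (Matrix.diagonal ![1, 1, d]) (x : Matrix (Fin 3) (Fin 3) F))
    (hgood : ∀ g : Matrix (Fin 3) (Fin 3) F, g.det = 1 → (∀ c : F, g ≠ c • 1) →
      GoodProd (x : Matrix (Fin 3) (Fin 3) F) g)
    (g : Matrix.ProjectiveSpecialLinearGroup (Fin 3) F) (hg : g ≠ 1) :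
    ∃ u v : Matrix.ProjectiveSpecialLinearGroup (Fin 3) F,
      g = (u * QuotientGroup.mk x * u⁻¹) * (v * QuotientGroup.mk x * v⁻¹) := by
  obtain ⟨G, rfl⟩ := QuotientGroup.mk_surjective g
  have hns : ∀ c : F, (G : Matrix (Fin 3) (Fin 3) F) ≠ c • 1 := by
    intro c hc
    apply hg
    rw [QuotientGroup.eq_one_iff, Subgroup.mem_center_iff]
    intro T
    ext1
    simp [hc]
  obtain ⟨A, B, hA, hB, e⟩ := hgood G G.det_coe hns
  have conv : ∀ A, Sim A (x : Matrix (Fin 3) (Fin 3) F) → ∃ u : Matrix.SpecialLinearGroup (Fin 3) F,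
      A = ((u * x * u⁻¹ : Matrix.SpecialLinearGroup (Fin 3) F) : Matrix (Fin 3) (Fin 3) F) := by
    rintro A ⟨R, hR, hAR⟩
    set D : Matrix (Fin 3) (Fin 3) F := Matrix.diagonal ![1, 1, R.det⁻¹] with hD
    let u : Matrix.SpecialLinearGroup (Fin 3) F := ⟨R * D, by
      rw [det_mul, hD, det_diagonal, Fin.prod_univ_three]; simp [hR]⟩
    refine ⟨u, ?_⟩
    have h1 : A * (u : Matrix (Fin 3) (Fin 3) F) = ((u * x : _) : Matrix.SpecialLinearGroup (Fin 3) F) := by
      rw [Matrix.SpecialLinearGroup.coe_mul]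
      show A * (R * D) = R * D * _
      rw [← mul_assoc, hAR, mul_assoc, mul_assoc]
      exact congrArg (R * ·) (hx _).eq.symm
    rw [Matrix.SpecialLinearGroup.coe_mul, ← h1, mul_assoc, ← Matrix.SpecialLinearGroup.coe_mul,
      mul_inv_cancel, Matrix.SpecialLinearGroup.coe_one, mul_one]
  obtain ⟨u, hu⟩ := conv A hA
  obtain ⟨v, hv⟩ := conv B hB
  refine ⟨QuotientGroup.mk u, QuotientGroup.mk v, ?_⟩
  have : G = (u * x * u⁻¹) * (v * x * v⁻¹) := by
    ext1
    rw [e, hu, hv, ← Matrix.SpecialLinearGroup.coe_mul]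
  rw [this]
  rfl


/-- A form of Thompson's conjecture for PSL(3,q), q > 2 (covering the non-identity elements), with a semisimple class: for F a finite field of characteristic p with more than 2 elements there is an element x of PSL(3,F) of order prime to p such that every non-identity element of PSL(3,F) is a product of two conjugates of x. -/
theorem result {F : Type*} [Field F] [Fintype F] (p : ℕ) [Fact p.Prime] [CharP F p] (h3 : 3 ≤ Fintype.card F) :
    ∃ x : Matrix.ProjectiveSpecialLinearGroup (Fin 3) F, ¬ p ∣ orderOf x ∧ ∀ g : Matrix.ProjectiveSpecialLinearGroup (Fin 3) F, g ≠ 1 → ∃ u v : Matrix.ProjectiveSpecialLinearGroup (Fin 3) F, g = (u * x * u⁻¹) * (v * x * v⁻¹) := by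
  classical
  obtain ⟨x, hx, hgood, m, hpm, hxm⟩ : ∃ x : Matrix.SpecialLinearGroup (Fin 3) F,
      (∀ d : F, Commute (Matrix.diagonal ![1, 1, d]) (x : Matrix (Fin 3) (Fin 3) F)) ∧
      (∀ g : Matrix (Fin 3) (Fin 3) F, g.det = 1 → (∀ c : F, g ≠ c • 1) →
        GoodProd (x : Matrix (Fin 3) (Fin 3) F) g) ∧
      ∃ m : ℕ, ¬ p ∣ m ∧ x ^ m = 1 := by
    rcases h3.eq_or_lt with h | h
    · have three : (3 : F) = 0 := by
        have := Nat.cast_card_eq_zero F
        rw [← h] at this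
        exact_mod_cast this
      have hp : p = 3 := by
        have : ((3 : ℕ) : F) = 0 := by exact_mod_cast three
        exact (Nat.prime_dvd_prime_iff_eq Fact.out Nat.prime_three).mp
          ((CharP.cast_eq_zero_iff F p 3).mp this)
      have hc : ∀ z : F, z ≠ 0 → z = 1 ∨ z = -1 := by
        intro z hz
        have := FiniteField.pow_card_sub_one_eq_one z hz
        rw [← h] at this
        exact sq_eq_one_iff.mp this
      refine ⟨⟨!![1, 1, 0; -1, 1, 0; 0, 0, -1], ?_⟩, ?_, good_three three hc, 8, ?_, ?_⟩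
      · rw [Matrix.det_fin_three]; simp; linear_combination -three
      · intro d
        show _ = _
        ext i j
        fin_cases i <;> fin_cases j <;> simp [Matrix.mul_apply, Fin.sum_univ_three]
      · subst hp; decide
      · refine pow_eq_one_of _ _ ?_
        show (!![1, 1, 0; -1, 1, 0; 0, 0, -1] : Matrix (Fin 3) (Fin 3) F) ^ (2 * 2 * 2) = 1
        simp only [pow_mul, pow_two]
        ext i j
        fin_cases i <;> fin_cases j <;> simp [Matrix.mul_apply, Fin.sum_univ_three]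
        all_goals grind
    · obtain ⟨b, hb⟩ : ∃ b : F, b ∉ ({0, 1, -1} : Finset F) := by
        by_contra hc
        push Not at hc
        have := Finset.card_le_card (s := Finset.univ) (t := ({0, 1, -1} : Finset F))
          (fun b _ => hc b)
        have := Finset.card_le_three (a := (0 : F)) (b := 1) (c := -1)
        simp only [Finset.card_univ] at *
        omega
      simp only [Finset.mem_insert, Finset.mem_singleton, not_or] at hb
      obtain ⟨hb0, hb1, hb2⟩ := hb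
      have hb' : b ^ 2 ≠ 1 := fun e => (sq_eq_one_iff.mp e).elim hb1 hb2
      have hD : (!![1, 0, 0; 0, b, 0; 0, 0, b⁻¹] : Matrix (Fin 3) (Fin 3) F) =
          Matrix.diagonal ![1, b, b⁻¹] := by
        ext i j
        fin_cases i <;> fin_cases j <;> simp
      refine ⟨⟨!![1, 0, 0; 0, b, 0; 0, 0, b⁻¹], ?_⟩, ?_, good_large b hb0 hb', Fintype.card F - 1,
        ?_, ?_⟩
      · rw [Matrix.det_fin_three]; simp [hb0]
      · intro d
        show Matrix.diagonal _ * _ = _ * Matrix.diagonal _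
        simp only [hD, Matrix.diagonal_mul_diagonal, mul_comm]
      · intro hdvd
        have hd : ((Fintype.card F - 1 : ℕ) : F) = 0 := (CharP.cast_eq_zero_iff F p _).mpr hdvd
        rw [Nat.cast_sub (by omega), Nat.cast_card_eq_zero, zero_sub, Nat.cast_one] at hd
        exact one_ne_zero (neg_eq_zero.mp hd)
      · refine pow_eq_one_of _ _ ?_
        show (!![1, 0, 0; 0, b, 0; 0, 0, b⁻¹] : Matrix (Fin 3) (Fin 3) F) ^ _ = 1
        rw [hD, Matrix.diagonal_pow, ← Matrix.diagonal_one]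
        congr 1
        funext i
        fin_cases i <;>
          simp [FiniteField.pow_card_sub_one_eq_one b hb0]
  refine ⟨QuotientGroup.mk x, fun hd => hpm (hd.trans ?_), lift_result x hx hgood⟩
  exact (orderOf_map_dvd (QuotientGroup.mk' _) x).trans (orderOf_dvd_of_pow_eq_one hxm)

end Cfsg.Agent.S2459
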