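import Cfsg.Statements.S2461
import Cfsg.Agent.Lib.ClassSquare.G2Four

set_option autoImplicit false
open Cfsg

namespace Cfsg.Agent.S2461

/-- A form of Thompson's conjecture for the simple Chevalley groups G₂(q), q ≥ 3 (covering the non-identity elements), with a semisimple class: for F a finite field of characteristic p with at least 3 elements there is an element x of the Chevalley group of type G₂ over F of order prime to p such that every non-identity element of that group is a product of two conjugates of x. -/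
theorem result {F : Type*} [Field F] [Fintype F] (p : ℕ) [Fact p.Prime] [CharP F p] (h3 : 3 ≤ Fintype.card F) :
    ∃ x : Cfsg.Lie.chevG2.group F, ¬ p ∣ orderOf x ∧ ∀ g : Cfsg.Lie.chevG2.group F, g ≠ 1 → ∃ u v : Cfsg.Lie.chevG2.group F, g = (u * x * u⁻¹) * (v * x * v⁻¹) := by
  by_cases h2 : (2 : F) = 0
  swap
  · exact Cfsg.Lib.ClassSquare.GTwo.covers_odd p h2
  by_cases h7 : 7 ≤ Fintype.card F
  · exact Cfsg.Lib.ClassSquare.GTwo.covers_split p h7
  obtain rfl : p = 2 := by
    have h : ((2 : ℕ) : F) = 0 := by simpa using h2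
    exact (Nat.prime_dvd_prime_iff_eq Fact.out Nat.prime_two).1 ((CharP.cast_eq_zero_iff F p 2).1 h)
  refine Cfsg.Lib.ClassSquare.GTwo.covers_four 2 ?_
  obtain ⟨n, -, hn⟩ := FiniteField.card F 2
  rw [hn] at h3 h7 ⊢
  have hn2 : (n : ℕ) = 2 := by
    rcases lt_trichotomy (n : ℕ) 2 with h | h | h
    · have := Nat.pow_le_pow_right (show 0 < 2 by norm_num) (show (n : ℕ) ≤ 1 by omega)
      omega
    · exact h
    · have := Nat.pow_le_pow_right (show 0 < 2 by norm_num) (show 3 ≤ (n : ℕ) by omega)
      omega
  rw [hn2]; rfl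

end Cfsg.Agent.S2461
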