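import Cfsg.Statements.S2466
import Cfsg.Agent.Lib.Concrete.AltOrders

set_option autoImplicit false
open Cfsg Cfsg.Lib.Concrete

namespace Cfsg.Agent.S2466

/-- Adjacency of odd primes in the prime graph of the alternating groups: let r ≠ s be odd primes at most n. The alternating group of degree n has an element of order r·s if and only if r + s ≤ n. -/
theorem result (n r s : ℕ) (hr : r.Prime) (hs : s.Prime) (hr2 : r ≠ 2) (hs2 : s ≠ 2) (hrs : r ≠ s) (hrn : r ≤ n) (hsn : s ≤ n) :
    (r * s ∈ Set.range (orderOf : alternatingGroup (Fin n) → ℕ)) ↔ r + s ≤ n := by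
  constructor
  · intro h
    obtain ⟨m, hsum, h2, hev, hl⟩ := alt_cycleType_data h
    obtain ⟨a, ha, hra⟩ := exists_mem_of_prime_dvd_lcm hr (hl ▸ dvd_mul_right r s)
    obtain ⟨b, hb, hsb⟩ := exists_mem_of_prime_dvd_lcm hs (hl ▸ dvd_mul_left s r)
    have hle : ∀ x ∈ m, x ≤ m.sum := fun x hx => Multiset.le_sum_of_mem hx
    rcases eq_or_ne a b with rfl | hab
    · have : r * s ∣ a := ((Nat.coprime_primes hr hs).2 hrs).mul_dvd_of_dvd_of_dvd hra hsb
      have := Nat.le_of_dvd (by have := h2 a ha; omega) this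
      have := hle a ha
      have : r + s ≤ r * s := Nat.add_le_mul hr.two_le hs.two_le
      omega
    · obtain ⟨t, rfl⟩ := Multiset.exists_cons_of_mem ha
      obtain ⟨t', rfl⟩ := Multiset.exists_cons_of_mem (((Multiset.mem_cons.1 hb).resolve_left (Ne.symm hab)) : b ∈ t)
      simp only [Multiset.sum_cons] at hsum
      have := Nat.le_of_dvd (by have := h2 a (by simp); omega) hra
      have := Nat.le_of_dvd (by have := h2 b (by simp); omega) hsb
      omega
  · intro h
    have he : (({r, s} : Multiset ℕ)).lcm = r * s := by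
      simpa [lcm_eq_nat_lcm] using Nat.Coprime.lcm_eq_mul ((Nat.coprime_primes hr hs).2 hrs)
    rw [← he]
    refine exists_alt_orderOf _ (by simpa using h) (by simp [hr.two_le, hs.two_le]) ?_
    have := hr.odd_of_ne_two hr2
    have := hs.odd_of_ne_two hs2
    rw [Nat.odd_iff] at *
    rw [Nat.even_iff]
    simp
    omega

end Cfsg.Agent.S2466
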