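import Cfsg.Statements.S2467
import Cfsg.Agent.Lib.Concrete.AltOrders

set_option autoImplicit false
open Cfsg Cfsg.Lib.Concrete

namespace Cfsg.Agent.S2467

/-- Adjacency of 2 and an odd prime in the prime graph of the alternating groups: let r be an odd prime at most n, with n ≥ 4. The alternating group of degree n has an element of order 2r if and only if r + 4 ≤ n. -/
theorem result (n r : ℕ) (hn : 4 ≤ n) (hr : r.Prime) (hr2 : r ≠ 2) (hrn : r ≤ n) :
    (2 * r ∈ Set.range (orderOf : alternatingGroup (Fin n) → ℕ)) ↔ r + 4 ≤ n := by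
  constructor
  · intro h
    obtain ⟨m, hsum, h2, hev, hl⟩ := alt_cycleType_data h
    obtain ⟨a, ha, hae⟩ := exists_mem_of_prime_dvd_lcm Nat.prime_two (hl ▸ dvd_mul_right 2 r)
    obtain ⟨t, rfl⟩ := Multiset.exists_cons_of_mem ha
    obtain ⟨b, hb, hbe⟩ : ∃ b ∈ t, Even b := by
      by_contra hne
      push Not at hne
      have h1 := even_sum_add_card_of_odd t fun x hx => Nat.not_even_iff_odd.1 (hne x hx)
      rw [Multiset.sum_cons, Multiset.card_cons, Nat.even_iff] at hev
      rw [Nat.even_iff] at h1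
      omega
    obtain ⟨t', rfl⟩ := Multiset.exists_cons_of_mem hb
    obtain ⟨c, hc, hrc⟩ := exists_mem_of_prime_dvd_lcm hr (hl ▸ dvd_mul_left r 2)
    have ha2 := h2 a (by simp)
    have hb2 := h2 b (by simp)
    simp only [Multiset.sum_cons] at hsum
    have hcpos := h2 c hc
    have hr3 : 3 ≤ r := by have := hr.two_le; omega
    rw [Nat.even_iff] at hbe
    have hcop : Nat.Coprime 2 r := (Nat.coprime_primes Nat.prime_two hr).2 (Ne.symm hr2)
    simp only [Multiset.mem_cons] at hc
    rcases hc with rfl | rfl | hc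
    · have := Nat.le_of_dvd (by omega) (hcop.mul_dvd_of_dvd_of_dvd hae hrc)
      omega
    · have := Nat.le_of_dvd (by omega) (hcop.mul_dvd_of_dvd_of_dvd (Nat.dvd_of_mod_eq_zero hbe) hrc)
      omega
    · have := Multiset.le_sum_of_mem hc
      have := Nat.le_of_dvd (by omega) hrc
      omega
  · intro h
    have he : (({r, 2, 2} : Multiset ℕ)).lcm = 2 * r := by
      simpa [lcm_eq_nat_lcm, mul_comm] using Nat.Coprime.lcm_eq_mul ((Nat.coprime_primes hr Nat.prime_two).2 hr2)
    rw [← he]
    refine exists_alt_orderOf _ (by simp; omega) (by simp [hr.two_le]) ?_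
    have := hr.odd_of_ne_two hr2
    rw [Nat.odd_iff] at *
    rw [Nat.even_iff]
    simp
    omega

end Cfsg.Agent.S2467
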