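import Cfsg.Statements.S2468
import Cfsg.Agent.Lib.Linear.TwoPrimeTori
import Cfsg.Agent.Lib.Linear.CommutingPElt

set_option autoImplicit false
open Cfsg

namespace Cfsg.Agent.S2468

open Module Cfsg.Lib.Linear.TwoPrime

/-- Passing to a quotient by a centre of exponent prime to `N` keeps the element orders `N`. -/
theorem order_quot {E : Type*} [Group E] {e N : ℕ} (hcop : Nat.Coprime N e)
    (hZ : ∀ z ∈ Subgroup.center E, z ^ e = 1) :
    (∃ g : E ⧸ Subgroup.center E, orderOf g = N) ↔ ∃ X : E, orderOf X = N := by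
  constructor
  · rintro ⟨g, hg⟩
    obtain ⟨Y, rfl⟩ := QuotientGroup.mk_surjective g
    refine ⟨Y ^ e, Nat.dvd_antisymm (orderOf_dvd_of_pow_eq_one ?_) ?_⟩
    · rw [← pow_mul, mul_comm, pow_mul]
      refine hZ _ ((QuotientGroup.eq_one_iff (N := Subgroup.center E) _).1 ?_)
      rw [QuotientGroup.mk_pow, ← hg, pow_orderOf_eq_one]
    · refine hcop.dvd_of_dvd_mul_left ?_
      rw [← hg]
      refine orderOf_dvd_of_pow_eq_one ?_
      rw [← QuotientGroup.mk_pow, pow_mul, pow_orderOf_eq_one, QuotientGroup.mk_one]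
  · rintro ⟨X, hX⟩
    refine ⟨QuotientGroup.mk X, Nat.dvd_antisymm (hX ▸ orderOf_map_dvd (QuotientGroup.mk' _) X) ?_⟩
    have hm : X ^ orderOf (QuotientGroup.mk X : E ⧸ Subgroup.center E) ∈ Subgroup.center E := by
      rw [← QuotientGroup.eq_one_iff, QuotientGroup.mk_pow, pow_orderOf_eq_one]
    have h1 := orderOf_dvd_of_pow_eq_one ((pow_mul X _ e).trans (hZ _ hm))
    rw [hX] at h1
    exact hcop.dvd_of_dvd_mul_right h1

variable {F : Type*} [Field F] [Fintype F]

/-- The order of a block diagonal element of a special linear group. -/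
theorem exists_block {a b n N : ℕ} (hab : a + b = n) (A : Matrix (Fin a) (Fin a) F) (B : Matrix (Fin b) (Fin b) F)
    (hdet : A.det * B.det = 1) (hN : ∀ m, (A ^ m = 1 ∧ B ^ m = 1) ↔ N ∣ m) :
    ∃ X : Matrix.SpecialLinearGroup (Fin n) F, orderOf X = N := by
  set φ := Matrix.reindexAlgEquiv F F (finSumFinEquiv.trans (finCongr hab))
  have hd : (φ (Matrix.fromBlocks A 0 0 B)).det = 1 := by
    show (Matrix.reindex _ _ _).det = 1
    rw [Matrix.det_reindex_self, Matrix.det_fromBlocks_zero₁₂, hdet]
  let X : Matrix.SpecialLinearGroup (Fin n) F := ⟨_, hd⟩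
  refine ⟨X, ?_⟩
  have key : ∀ m : ℕ, X ^ m = 1 ↔ N ∣ m := fun m => by
    rw [← hN]
    refine Iff.trans ⟨fun h => (Matrix.SpecialLinearGroup.coe_pow X m).symm.trans ((congrArg Subtype.val h).trans Matrix.SpecialLinearGroup.coe_one),
      fun h => Subtype.ext ((Matrix.SpecialLinearGroup.coe_pow X m).trans (h.trans Matrix.SpecialLinearGroup.coe_one.symm))⟩ ?_
    show φ _ ^ m = 1 ↔ _
    rw [← map_pow, EmbeddingLike.map_eq_one_iff, Matrix.fromBlocks_diagonal_pow, ← Matrix.fromBlocks_one,
      Matrix.fromBlocks_inj]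
    tauto
  exact Nat.dvd_antisymm (orderOf_dvd_of_pow_eq_one ((key N).2 dvd_rfl)) ((key _).1 (pow_orderOf_eq_one _))


/-- Adjacency of two odd primes in the prime graph of PSL(n,q): let F be a finite field of characteristic p with q elements, n ≥ 2 with PSL(n,F) simple, and let r ≠ s be odd primes different from p dividing the order of PSL(n,F). Let k and l be the multiplicative orders of q modulo r and modulo s, and suppose 2 ≤ k ≤ l. Then PSL(n,F) has NO element of order r·s if and only if k + l > n and k does not divide l. -/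
theorem result {F : Type*} [Field F] [Fintype F] (p : ℕ) [Fact p.Prime] [CharP F p] (n : ℕ) (hn : 2 ≤ n) (hsmall : n = 2 → 4 ≤ Fintype.card F)
    (r s : ℕ) (hr : r.Prime) (hs : s.Prime) (hr2 : r ≠ 2) (hs2 : s ≠ 2) (hrp : r ≠ p) (hsp : s ≠ p) (hrs : r ≠ s)
    (hrG : r ∣ Nat.card (Matrix.ProjectiveSpecialLinearGroup (Fin n) F)) (hsG : s ∣ Nat.card (Matrix.ProjectiveSpecialLinearGroup (Fin n) F))
    (k l : ℕ) (hk : k = orderOf ((Fintype.card F : ℕ) : ZMod r)) (hl : l = orderOf ((Fintype.card F : ℕ) : ZMod s))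
    (h2k : 2 ≤ k) (hkl : k ≤ l) :
    (r * s ∉ Set.range (orderOf : Matrix.ProjectiveSpecialLinearGroup (Fin n) F → ℕ)) ↔ (n < k + l ∧ ¬ k ∣ l) := by
  classical
  haveI : Fact r.Prime := ⟨hr⟩
  haveI : Fact s.Prime := ⟨hs⟩
  set q := Fintype.card F with hq
  have hpp := (Fact.out : p.Prime)
  have hcast : ∀ t : ℕ, t.Prime → t ≠ p → (t : F) ≠ 0 := fun t ht htp h =>
    htp ((Nat.prime_dvd_prime_iff_eq hpp ht).1 ((CharP.cast_eq_zero_iff F p t).1 h)).symm
  have hnd : ∀ t : ℕ, t.Prime → 2 ≤ orderOf ((q : ℕ) : ZMod t) → Nat.Coprime t (q - 1) := fun t ht h2 => by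
    refine (ht.coprime_iff_not_dvd).2 fun hd => ?_
    have h1 : ((q : ℕ) : ZMod t) = 1 := by
      have h := (ZMod.natCast_eq_zero_iff (q - 1) t).2 hd
      rwa [Nat.cast_sub Fintype.card_pos, Nat.cast_one, sub_eq_zero] at h
    rw [h1, orderOf_one] at h2
    omega
  have hcop : Nat.Coprime (r * s) (q - 1) := Nat.Coprime.mul_left (hnd r hr (hk ▸ h2k)) (hnd s hs (hl ▸ h2k.trans hkl))
  have hZ : ∀ z ∈ Subgroup.center (Matrix.SpecialLinearGroup (Fin n) F), z ^ (q - 1) = 1 := fun z hz => by
    obtain ⟨c, hc1, hc⟩ := Matrix.SpecialLinearGroup.mem_center_iff.1 hz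
    have hc0 : c ≠ 0 := fun h => by
      rw [h, Fintype.card_fin, zero_pow (by omega)] at hc1
      exact zero_ne_one hc1
    refine Subtype.ext ?_
    rw [Matrix.SpecialLinearGroup.coe_pow, ← hc, Matrix.SpecialLinearGroup.coe_one, ← map_pow,
      FiniteField.pow_card_sub_one_eq_one c hc0, map_one]
  have hrs : Nat.Coprime r s := (Nat.coprime_primes hr hs).2 hrs
  show ¬ (∃ g : Matrix.SpecialLinearGroup (Fin n) F ⧸ Subgroup.center (Matrix.SpecialLinearGroup (Fin n) F),
    orderOf g = r * s) ↔ _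
  rw [order_quot hcop hZ]
  let T : Matrix.SpecialLinearGroup (Fin n) F →* Module.End F (Fin n → F) :=
    { toFun := fun X => Matrix.toLinAlgEquiv' (X : Matrix (Fin n) (Fin n) F)
      map_one' := by simp
      map_mul' := fun X Y => by simp }
  have hT : Function.Injective T := fun X Y h => Subtype.ext (Matrix.toLinAlgEquiv'.injective h)
  have hbound : ∀ (t : ℕ) [Fact t.Prime], t ≠ p → ∀ a : Module.End F (Fin n → F), a ^ t = 1 → a ≠ 1 →
      orderOf ((q : ℕ) : ZMod t) ≤ Module.finrank F (LinearMap.range (a - 1)) := fun t ht htp a hat ha => by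
    refine Nat.le_of_dvd (Nat.pos_of_ne_zero fun h => range_ne_bot ha (Submodule.finrank_eq_zero.1 h)) ?_
    exact dvd_finrank_sub hat (range_stable (Commute.refl a)) fun v hv => fpf_range (hcast t ht.out htp) hat hv
  have hdim : Module.finrank F (Fin n → F) = n := Module.finrank_fin_fun F
  have hln : l ≤ n := by
    obtain ⟨Y, hY⟩ := exists_prime_orderOf_dvd_card' s
      (hsG.trans (Subgroup.card_quotient_dvd_card (Subgroup.center (Matrix.SpecialLinearGroup (Fin n) F))))
    have h1 : T Y ≠ 1 := fun h => hs.ne_one (by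
      rw [← hY, hT (h.trans (map_one T).symm), orderOf_one])
    have := hbound s hsp (T Y) (by rw [← map_pow, ← hY, pow_orderOf_eq_one, map_one]) h1
    have := Submodule.finrank_le (LinearMap.range (T Y - 1))
    rw [hl]
    omega
  constructor
  · intro hno
    by_contra hcon
    apply hno
    by_cases hsum : k + l ≤ n
    · obtain ⟨A, hA⟩ := exists_prime_orderOf_dvd_card' (G := Matrix.SpecialLinearGroup (Fin k) F) r
        (Cfsg.Lib.Linear.CommutingPElt.dvd_card_SL (j := k) h2k (by omega) le_rfl ((ZMod.natCast_eq_zero_iff _ r).1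
          (by rw [Nat.cast_sub (Nat.one_le_pow _ _ Fintype.card_pos), Nat.cast_pow, Nat.cast_one, hk, pow_orderOf_eq_one, sub_self])))
      obtain ⟨B, hB⟩ := exists_prime_orderOf_dvd_card' (G := Matrix.SpecialLinearGroup (Fin (n - k)) F) s
        (Cfsg.Lib.Linear.CommutingPElt.dvd_card_SL (j := l) (by omega) (by omega) (by omega) ((ZMod.natCast_eq_zero_iff _ s).1
          (by rw [Nat.cast_sub (Nat.one_le_pow _ _ Fintype.card_pos), Nat.cast_pow, Nat.cast_one, hl, pow_orderOf_eq_one, sub_self])))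
      refine exists_block (show k + (n - k) = n by omega) (A : Matrix (Fin k) (Fin k) F)
        (B : Matrix (Fin (n - k)) (Fin (n - k)) F) (by rw [A.2, B.2, one_mul]) fun m => ?_
      have e1 : ∀ {d : ℕ} (X : Matrix.SpecialLinearGroup (Fin d) F), (X : Matrix (Fin d) (Fin d) F) ^ m = 1 ↔ orderOf X ∣ m :=
        fun X => by
          refine Iff.trans ?_ (orderOf_dvd_iff_pow_eq_one (x := X) (n := m)).symm
          constructor
          · intro h
            exact Subtype.ext ((Matrix.SpecialLinearGroup.coe_pow X m).trans (h.trans Matrix.SpecialLinearGroup.coe_one.symm))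
          · intro h
            rw [← Matrix.SpecialLinearGroup.coe_pow, h, Matrix.SpecialLinearGroup.coe_one]
      rw [e1, e1, hA, hB]
      exact ⟨fun h => hrs.mul_dvd_of_dvd_of_dvd h.1 h.2,
        fun h => ⟨(dvd_mul_right r s).trans h, (dvd_mul_left s r).trans h⟩⟩
    · have hkdl : k ∣ l := not_not.1 fun h => hcon ⟨by omega, h⟩
      have hl0 : l ≠ 0 := by omega
      haveI : NeZero l := ⟨hl0⟩
      let K := FiniteField.Extension F p l
      let β : Module.Basis (Fin l) F K :=
        (Module.finBasis F K).reindex (finCongr (FiniteField.finrank_extension F p l))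
      have hdvd : r * s ∣ q ^ l - 1 := by
        refine hrs.mul_dvd_of_dvd_of_dvd ?_ ?_ <;> rw [← ZMod.natCast_eq_zero_iff, Nat.cast_sub (Nat.one_le_pow _ _ Fintype.card_pos),
          Nat.cast_pow, Nat.cast_one, sub_eq_zero, ← orderOf_dvd_iff_pow_eq_one]
        · rw [← hk]; exact hkdl
        · rw [← hl]
      obtain ⟨ω, hω⟩ := IsCyclic.exists_ofOrder_eq_natCard (α := Kˣ)
      rw [Nat.card_units, FiniteField.natCard_extension, Nat.card_eq_fintype_card] at hω
      obtain ⟨c, hc⟩ := hdvd
      have hc0 : c ≠ 0 := fun h => by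
        subst h
        rw [mul_zero] at hc
        change Fintype.card F ^ l - 1 = 0 at hc
        have := Nat.one_lt_pow hl0 (Fintype.one_lt_card (α := F))
        omega
      set u : Kˣ := ω ^ c
      have hu : orderOf u = r * s := by
        rw [orderOf_pow_of_dvd hc0 (by rw [hω, hc]; exact dvd_mul_left _ _), hω, hc,
          Nat.mul_div_cancel _ (Nat.pos_of_ne_zero hc0)]
      set A := Algebra.leftMulMatrix β (u : K)
      have hApow : ∀ m, A ^ m = 1 ↔ r * s ∣ m := fun m => by
        rw [← hu, orderOf_dvd_iff_pow_eq_one, ← map_pow,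
          map_eq_one_iff _ (Algebra.leftMulMatrix_injective β), ← Units.val_pow_eq_pow_val, Units.val_eq_one]
      have hAdet : A.det = 1 := by
        have h1 : A.det ^ (r * s) = 1 := by rw [← Matrix.det_pow, (hApow _).2 dvd_rfl, Matrix.det_one]
        have h0 : A.det ≠ 0 := fun h => by
          rw [h, zero_pow (mul_ne_zero hr.ne_zero hs.ne_zero)] at h1
          exact zero_ne_one h1
        have := pow_gcd_eq_one.2 ⟨h1, FiniteField.pow_card_sub_one_eq_one _ h0⟩
        rwa [hcop.gcd_eq_one, pow_one] at this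
      exact exists_block (show l + (n - l) = n by omega) A 1 (by rw [hAdet, Matrix.det_one, one_mul]) fun m => by
        rw [one_pow, hApow]; simp
  · rintro ⟨hlt, hndvd⟩ ⟨X, hX⟩
    set g := T X with hgdef
    have hg : orderOf g = r * s := by rw [hgdef, orderOf_injective T hT, hX]
    have ha : (g ^ s) ^ r = 1 := by rw [← pow_mul, mul_comm, ← hg, pow_orderOf_eq_one]
    have hb : (g ^ r) ^ s = 1 := by rw [← pow_mul, ← hg, pow_orderOf_eq_one]
    have ha1 : g ^ s ≠ 1 := fun h => by
      have := Nat.le_of_dvd hs.pos (hg ▸ orderOf_dvd_of_pow_eq_one h)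
      have := Nat.mul_le_mul_right s hr.two_le
      have := hs.pos
      omega
    have hb1 : g ^ r ≠ 1 := fun h => by
      have := Nat.le_of_dvd hr.pos (hg ▸ orderOf_dvd_of_pow_eq_one h)
      have := Nat.mul_le_mul_left r hs.two_le
      have := hr.pos
      omega
    rcases dichotomy (hcast r hr hrp) (hcast s hs hsp) ha hb (Commute.pow_pow_self g s r) with h | ⟨W, hW0, haW, hbW, hfa, hfb⟩
    · have h1 := hbound r hrp _ ha ha1
      have h2 := hbound s hsp _ hb hb1
      omega
    · have hkW := dvd_finrank_sub ha haW hfa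
      have hlW := dvd_finrank_sub hb hbW hfb
      rw [← hk] at hkW
      rw [← hl] at hlW
      have hW1 : 0 < Module.finrank F W := Nat.pos_of_ne_zero fun h => hW0 (Submodule.finrank_eq_zero.1 h)
      have hWn := Submodule.finrank_le W
      obtain ⟨c, hc⟩ := hlW
      rcases Nat.lt_or_ge c 2 with hc2 | hc2
      · interval_cases c
        · omega
        · exact hndvd (by rwa [hc, mul_one] at hkW)
      · have := Nat.mul_le_mul_left l hc2
        omega

end Cfsg.Agent.S2468
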