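import Cfsg.Statements.S2469
import Cfsg.Agent.Lib.Linear.TwoPrimeTori
import Cfsg.Agent.Lib.Linear.AbsorbPSpTori
import Cfsg.Agent.S2468
import Cfsg.Agent.S0245

set_option autoImplicit false
open Cfsg

namespace Cfsg.Agent.S2469

open Module Cfsg.Lib.Linear.TwoPrime Matrix Cfsg.Lib.Linear

theorem two_eta_dvd {k η d : ℕ} (hη : (Odd k ∧ η = k) ∨ (Even k ∧ 2 * η = k)) (hd : k ∣ d) (he : 2 ∣ d) :
    2 * η ∣ d := by
  rcases hη with ⟨ho, rfl⟩ | ⟨-, h⟩
  · exact (Nat.coprime_two_left.2 ho).mul_dvd_of_dvd_of_dvd he hd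
  · exact h ▸ hd

theorem dvd_two_eta {k η : ℕ} (hη : (Odd k ∧ η = k) ∨ (Even k ∧ 2 * η = k)) : k ∣ 2 * η := by
  rcases hη with ⟨-, rfl⟩ | ⟨-, h⟩
  · exact dvd_mul_left η 2
  · exact h ▸ dvd_rfl

variable {F : Type*} [Field F] [Fintype F]

theorem card_sp_dvd {n t η : ℕ} (hη1 : 1 ≤ η) (hηn : η ≤ n)
    (hk : orderOf ((Fintype.card F : ℕ) : ZMod t) ∣ 2 * η) :
    t ∣ Nat.card (symplecticGroup (Fin n) F) := by
  rw [Cfsg.Agent.S0245.result rfl]
  refine Dvd.dvd.mul_left (Dvd.dvd.trans ?_ (Finset.dvd_prod_of_mem _ (Finset.mem_range.2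
    (show η - 1 < n by omega)))) _
  rw [Nat.sub_add_cancel hη1, ← ZMod.natCast_eq_zero_iff, Nat.cast_sub (Nat.one_le_pow _ _ Fintype.card_pos),
    Nat.cast_pow, Nat.cast_one, sub_eq_zero, ← orderOf_dvd_iff_pow_eq_one]
  exact hk

/-- Orthogonal sums of symplectic elements of coprime orders. -/
theorem exists_sum_order {a b n : ℕ} (hab : a + b = n) (A : symplecticGroup (Fin a) F) (B : symplecticGroup (Fin b) F)
    (hcop : Nat.Coprime (orderOf A) (orderOf B)) :
    ∃ X : symplecticGroup (Fin n) F, orderOf X = orderOf A * orderOf B := by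
  set e : Fin a ⊕ Fin b ≃ Fin n := finSumFinEquiv.trans (finCongr hab)
  have hmem : AbsorbPSp.bsum e (A : Matrix (Fin a ⊕ Fin a) (Fin a ⊕ Fin a) F)
      (B : Matrix (Fin b ⊕ Fin b) (Fin b ⊕ Fin b) F) ∈ symplecticGroup (Fin n) F := by
    rw [AbsorbPSp.mem_iff_st, AbsorbPSp.bsum_st, AbsorbPSp.bsum_mul, AbsorbPSp.st_mul_self,
      AbsorbPSp.st_mul_self, AbsorbPSp.bsum_one]
  refine ⟨⟨_, hmem⟩, ?_⟩
  have key : ∀ m : ℕ, (⟨_, hmem⟩ : symplecticGroup (Fin n) F) ^ m = 1 ↔ orderOf A * orderOf B ∣ m := by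
    intro m
    rw [Subtype.ext_iff, SubmonoidClass.coe_pow, OneMemClass.coe_one, AbsorbPSp.bsum_pow,
      ← AbsorbPSp.bsum_one e]
    have ea : ∀ {d : ℕ} (X : symplecticGroup (Fin d) F),
        (X : Matrix (Fin d ⊕ Fin d) (Fin d ⊕ Fin d) F) ^ m = 1 ↔ orderOf X ∣ m := fun X => by
      rw [orderOf_dvd_iff_pow_eq_one, Subtype.ext_iff, SubmonoidClass.coe_pow, OneMemClass.coe_one]
    constructor
    · intro h
      obtain ⟨h1, h2⟩ := AbsorbPSp.bsum_inj e h
      exact hcop.mul_dvd_of_dvd_of_dvd ((ea A).1 h1) ((ea B).1 h2)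
    · intro h
      rw [(ea A).2 ((dvd_mul_right _ _).trans h), (ea B).2 ((dvd_mul_left _ _).trans h)]
  exact Nat.dvd_antisymm (orderOf_dvd_of_pow_eq_one ((key _).2 dvd_rfl)) ((key _).1 (pow_orderOf_eq_one _))

/-- The endomorphism of a symplectic matrix. -/
def endo (n : ℕ) : symplecticGroup (Fin n) F →* Module.End F (Fin n ⊕ Fin n → F) where
  toFun X := Matrix.toLinAlgEquiv' (X : Matrix (Fin n ⊕ Fin n) (Fin n ⊕ Fin n) F)
  map_one' := by simp
  map_mul' X Y := by simp

theorem endo_injective (n : ℕ) : Function.Injective (endo (F := F) n) :=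
  fun _ _ h => Subtype.ext (Matrix.toLinAlgEquiv'.injective h)

theorem endo_iso {n : ℕ} (X : symplecticGroup (Fin n) F) (v w : Fin n ⊕ Fin n → F) :
    Symp.spB n F (endo n X v) (endo n X w) = Symp.spB n F v w :=
  (Symp.mem_symplecticGroup_iff _).1 X.2 v w

/-- The support of an isometry of odd prime order has dimension at least `2 η`. -/
theorem support_bound {n t η : ℕ} [Fact t.Prime] (ht : (t : F) ≠ 0) (X : symplecticGroup (Fin n) F)
    (hX : (endo n X) ^ t = 1) (h1 : endo n X ≠ 1)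
    (hη : (Odd (orderOf ((Fintype.card F : ℕ) : ZMod t)) ∧ η = orderOf ((Fintype.card F : ℕ) : ZMod t)) ∨
      (Even (orderOf ((Fintype.card F : ℕ) : ZMod t)) ∧ 2 * η = orderOf ((Fintype.card F : ℕ) : ZMod t))) :
    2 * η ≤ finrank F (LinearMap.range (endo n X - 1)) := by
  set g := endo n X
  have hd := dvd_finrank_sub hX (range_stable (Commute.refl g)) fun v hv => fpf_range ht hX hv
  obtain ⟨hc, horth⟩ := OrthSympTransfer.split_of_pow (Symp.spB n F) ht hX (endo_iso X)
  set U := LinearMap.range (g - 1)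
  obtain ⟨m, -, hm, -⟩ := OrthSympTransfer.even_finrank ((Symp.spB n F).restrict U)
    (fun v => Symp.spB_isAlt n F v.1) (fun v hv => Subtype.ext ((Symp.spB_nondegenerate n F).1 v.1 fun w => by
      obtain ⟨a, ha, b, hb, rfl⟩ := Submodule.mem_sup.1 (hc.sup_eq_top ▸ Submodule.mem_top : w ∈ U ⊔ LinearMap.ker (g - 1))
      rw [map_add, show Symp.spB n F v.1 a = 0 from hv ⟨a, ha⟩, (horth v.1 v.2 b hb).1, add_zero]))
  exact Nat.le_of_dvd (Nat.pos_of_ne_zero fun h => range_ne_bot h1 (Submodule.finrank_eq_zero.1 h))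
    (two_eta_dvd hη hd ⟨m, hm⟩)


/-- Adjacency of two odd primes in the prime graph of PSp(2n,q): let F be a finite field of characteristic p with q elements, n ≥ 2 with PSp(2n,F) simple, and let r ≠ s be odd primes different from p dividing the order of PSp(2n,F). Let k, l be the multiplicative orders of q modulo r and s, put η(m) = m for odd m and η(m) = m/2 for even m, and suppose η(k) ≤ η(l). Then PSp(2n,F) has NO element of order r·s if and only if η(k) + η(l) > n and l/k is not an odd integer. -/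
theorem result {F : Type*} [Field F] [Fintype F] (p : ℕ) [Fact p.Prime] [CharP F p] (n : ℕ) (hn : 2 ≤ n) (hsmall : n = 2 → 3 ≤ Fintype.card F)
    (r s : ℕ) (hr : r.Prime) (hs : s.Prime) (hr2 : r ≠ 2) (hs2 : s ≠ 2) (hrp : r ≠ p) (hsp : s ≠ p) (hrs : r ≠ s)
    (hrG : r ∣ Nat.card (Cfsg.PSp n F)) (hsG : s ∣ Nat.card (Cfsg.PSp n F))
    (k l ηk ηl : ℕ) (hk : k = orderOf ((Fintype.card F : ℕ) : ZMod r)) (hl : l = orderOf ((Fintype.card F : ℕ) : ZMod s))
    (hηk : (Odd k ∧ ηk = k) ∨ (Even k ∧ 2 * ηk = k)) (hηl : (Odd l ∧ ηl = l) ∨ (Even l ∧ 2 * ηl = l)) (hkl : ηk ≤ ηl) :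
    (r * s ∉ Set.range (orderOf : Cfsg.PSp n F → ℕ)) ↔ (n < ηk + ηl ∧ ¬ ∃ t : ℕ, Odd t ∧ l = k * t) := by
  classical
  haveI : Fact r.Prime := ⟨hr⟩
  haveI : Fact s.Prime := ⟨hs⟩
  set q := Fintype.card F with hq
  have hpp := (Fact.out : p.Prime)
  have hcast : ∀ t : ℕ, t.Prime → t ≠ p → (t : F) ≠ 0 := fun t ht htp h =>
    htp ((Nat.prime_dvd_prime_iff_eq hpp ht).1 ((CharP.cast_eq_zero_iff F p t).1 h)).symm
  have hq0 : ∀ t : ℕ, t.Prime → t ≠ p → ((q : ℕ) : ZMod t) ≠ 0 := fun t ht htp h => by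
    rw [ZMod.natCast_eq_zero_iff] at h
    obtain ⟨j, hj⟩ := FiniteField.card F p
    rw [hq, hj.2] at h
    exact htp ((Nat.prime_dvd_prime_iff_eq ht hpp).1 (ht.dvd_of_dvd_pow h))
  have hk1 : 1 ≤ k := hk ▸ orderOf_pos_iff.2 (isOfFinOrder_iff_pow_eq_one.2
    ⟨r - 1, Nat.sub_pos_of_lt hr.one_lt, ZMod.pow_card_sub_one_eq_one (hq0 r hr hrp)⟩)
  have hl1 : 1 ≤ l := hl ▸ orderOf_pos_iff.2 (isOfFinOrder_iff_pow_eq_one.2
    ⟨s - 1, Nat.sub_pos_of_lt hs.one_lt, ZMod.pow_card_sub_one_eq_one (hq0 s hs hsp)⟩)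
  have hηk1 : 1 ≤ ηk := by rcases hηk with ⟨-, h⟩ | ⟨-, h⟩ <;> omega
  have hηl1 : 1 ≤ ηl := by rcases hηl with ⟨-, h⟩ | ⟨-, h⟩ <;> omega
  have hZ : ∀ z ∈ Subgroup.center (symplecticGroup (Fin n) F), z ^ 2 = 1 := fun z hz => by
    refine Subtype.ext ?_
    rw [SubmonoidClass.coe_pow, OneMemClass.coe_one]
    rcases (AbsorbPSp.mem_center_iff z).1 hz with h | h <;> rw [h]
    · exact one_pow 2
    · exact neg_one_sq
  have hcop : Nat.Coprime (r * s) 2 := Nat.coprime_two_right.2 ((hr.odd_of_ne_two hr2).mul (hs.odd_of_ne_two hs2))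
  have hrs : Nat.Coprime r s := (Nat.coprime_primes hr hs).2 hrs
  show ¬ (∃ g : symplecticGroup (Fin n) F ⧸ Subgroup.center (symplecticGroup (Fin n) F), orderOf g = r * s) ↔ _
  rw [Cfsg.Agent.S2468.order_quot hcop hZ]
  have hdim : Module.finrank F (Fin n ⊕ Fin n → F) = 2 * n := Symp.finrank_space
  have hln : ηl ≤ n := by
    obtain ⟨Y, hY⟩ := exists_prime_orderOf_dvd_card' s
      (hsG.trans (Subgroup.card_quotient_dvd_card (Subgroup.center (symplecticGroup (Fin n) F))))
    have h1 : endo n Y ≠ 1 := fun h => hs.ne_one (by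
      rw [← hY, endo_injective n (h.trans (map_one (endo n)).symm), orderOf_one])
    have := support_bound (hcast s hs hsp) Y (by rw [← map_pow, ← hY, pow_orderOf_eq_one, map_one]) h1 (η := ηl)
      (by rw [← hl]; exact hηl)
    have := Submodule.finrank_le (LinearMap.range (endo n Y - 1))
    omega
  constructor
  · intro hno
    by_contra hcon
    apply hno
    by_cases hsum : ηk + ηl ≤ n
    · obtain ⟨A, hA⟩ := exists_prime_orderOf_dvd_card' (G := symplecticGroup (Fin ηk) F) r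
        (card_sp_dvd hηk1 le_rfl (hk ▸ dvd_two_eta hηk))
      obtain ⟨B, hB⟩ := exists_prime_orderOf_dvd_card' (G := symplecticGroup (Fin (n - ηk)) F) s
        (card_sp_dvd hηl1 (by omega) (hl ▸ dvd_two_eta hηl))
      obtain ⟨X, hX⟩ := exists_sum_order (show ηk + (n - ηk) = n by omega) A B (by rw [hA, hB]; exact hrs)
      exact ⟨X, by rw [hX, hA, hB]⟩
    · obtain ⟨t, ht, hlk⟩ : ∃ t, Odd t ∧ l = k * t := by
        by_contra h
        exact hcon ⟨by omega, h⟩
      haveI : NeZero ηl := ⟨by omega⟩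
      have hkey : ∃ g : symplecticGroup (Fin ηl) F, r * s ∣ orderOf g := by
        obtain ⟨⟨g1, hg1⟩, g2, hg2⟩ := AbsorbPSp.exists_tori_any (F := F) p ηl
        rcases hηl with ⟨-, he⟩ | ⟨hle, he⟩
        · refine ⟨g2, Dvd.dvd.trans ?_ ((hg2 _).1 (by
            rw [← SubmonoidClass.coe_pow, pow_orderOf_eq_one, OneMemClass.coe_one]))⟩
          refine hrs.mul_dvd_of_dvd_of_dvd ?_ ?_ <;> rw [← ZMod.natCast_eq_zero_iff, Nat.cast_sub (Nat.one_le_pow _ _ Fintype.card_pos),
            Nat.cast_pow, Nat.cast_one, sub_eq_zero, ← orderOf_dvd_iff_pow_eq_one]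
          · rw [← hk, he, hlk]; exact dvd_mul_right k t
          · rw [← hl, he]
        · refine ⟨g1, Dvd.dvd.trans ?_ ((hg1 _).1 (by
            rw [← SubmonoidClass.coe_pow, pow_orderOf_eq_one, OneMemClass.coe_one]))⟩
          have hneg : ∀ (u : ℕ) [Fact u.Prime], ((q : ℕ) : ZMod u) ^ (2 * ηl) = 1 →
              ¬ orderOf ((q : ℕ) : ZMod u) ∣ ηl → u ∣ q ^ ηl + 1 := fun u _ h1 h2 => by
            rw [← ZMod.natCast_eq_zero_iff, Nat.cast_add, Nat.cast_pow, Nat.cast_one]
            rcases mul_self_eq_one_iff.1 (show ((q : ℕ) : ZMod u) ^ ηl * ((q : ℕ) : ZMod u) ^ ηl = 1 by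
              rw [← pow_add, ← two_mul, h1]) with h | h
            · exact absurd (orderOf_dvd_of_pow_eq_one h) h2
            · rw [h, neg_add_cancel]
          refine hrs.mul_dvd_of_dvd_of_dvd (hneg r ?_ ?_) (hneg s ?_ ?_)
          · rw [← orderOf_dvd_iff_pow_eq_one, ← hk, he, hlk]; exact dvd_mul_right k t
          · rw [← hk]
            rintro ⟨c, hc⟩
            rw [hc, hlk, show 2 * (k * c) = k * (2 * c) by ring] at he
            have := Nat.eq_of_mul_eq_mul_left (by omega) he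
            exact (Nat.not_even_iff_odd.2 ht) ⟨c, by omega⟩
          · rw [he, hl, pow_orderOf_eq_one]
          · rw [← hl]
            intro h
            have := Nat.le_of_dvd (by omega) h
            omega
      obtain ⟨g, hg⟩ := hkey
      obtain ⟨X, hX⟩ := exists_sum_order (show ηl + (n - ηl) = n by omega) (g ^ (orderOf g / (r * s))) 1
        (by simp)
      exact ⟨X, by rw [hX, orderOf_one, mul_one, orderOf_pow_orderOf_div (orderOf_pos g).ne' hg]⟩
  · rintro ⟨hlt, hno⟩ ⟨X, hX⟩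
    set g := endo n X with hgdef
    have hg : orderOf g = r * s := by rw [hgdef, orderOf_injective _ (endo_injective n), hX]
    have ha : (g ^ s) ^ r = 1 := by rw [← pow_mul, mul_comm, ← hg, pow_orderOf_eq_one]
    have hb : (g ^ r) ^ s = 1 := by rw [← pow_mul, ← hg, pow_orderOf_eq_one]
    have ha1 : g ^ s ≠ 1 := fun h => by
      have := Nat.le_of_dvd hs.pos (hg ▸ orderOf_dvd_of_pow_eq_one h)
      have := Nat.mul_le_mul_right s hr.two_le
      have := hs.pos
      omega
    have hb1 : g ^ r ≠ 1 := fun h => by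
      have := Nat.le_of_dvd hr.pos (hg ▸ orderOf_dvd_of_pow_eq_one h)
      have := Nat.mul_le_mul_left r hs.two_le
      have := hr.pos
      omega
    rcases dichotomy (hcast r hr hrp) (hcast s hs hsp) ha hb (Commute.pow_pow_self g s r) with h | ⟨W, hW0, haW, hbW, hfa, hfb⟩
    · have h1 := support_bound (hcast r hr hrp) (X ^ s) (η := ηk) (by rw [map_pow]; exact ha)
        (by rw [map_pow]; exact ha1) (by rw [← hk]; exact hηk)
      have h2 := support_bound (hcast s hs hsp) (X ^ r) (η := ηl) (by rw [map_pow]; exact hb)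
        (by rw [map_pow]; exact hb1) (by rw [← hl]; exact hηl)
      rw [map_pow, ← hgdef] at h1 h2
      omega
    · have hgW : ∀ v ∈ W, g v ∈ W := by
        obtain ⟨x, y, hxy⟩ : ∃ x y : ℕ, s * x + r * y ≡ 1 [MOD r * s] := by
          obtain ⟨x, hx⟩ := Nat.chineseRemainder hrs 1 0
          obtain ⟨x', hx'⟩ := (Nat.modEq_zero_iff_dvd.1 hx.2)
          obtain ⟨y, hy⟩ := Nat.chineseRemainder hrs 0 1
          obtain ⟨y', hy'⟩ := (Nat.modEq_zero_iff_dvd.1 hy.1)
          refine ⟨x', y', (Nat.modEq_and_modEq_iff_modEq_mul hrs).1 ⟨?_, ?_⟩⟩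
          · rw [← hx', ← hy']; simpa using hx.1.add hy.1
          · rw [← hx', ← hy']; simpa using hx.2.add hy.2
        have h : g ^ (s * x + r * y) = g := by
          rw [← pow_mod_orderOf g (s * x + r * y), hg, hxy, ← hg, pow_mod_orderOf, pow_one]
        have hst : ∀ (f : Module.End F (Fin n ⊕ Fin n → F)) (i : ℕ), (∀ v ∈ W, f v ∈ W) →
            ∀ v ∈ W, (f ^ i) v ∈ W := fun f i hf => by
          induction i with
          | zero => exact fun v hv => hv
          | succ i ih => exact fun v hv => by rw [pow_succ', Module.End.mul_apply]; exact hf _ (ih v hv)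
        intro v hv
        rw [← h, pow_add, pow_mul, pow_mul, Module.End.mul_apply]
        exact hst _ x haW _ (hst _ y hbW v hv)
      obtain ⟨d, hd0, hkd, hld, hcase⟩ := symp_bound (Symp.spB n F) (Symp.spB_nondegenerate n F) (Symp.spB_isAlt n F)
        (r := r) (s := s) hr2 hs2 (g := g) (endo_iso X) (by rw [← hg, pow_orderOf_eq_one]) hW0 hgW hfa hfb
      rw [← hk] at hkd
      rw [← hl] at hld
      have hηl' : ηl ≤ l := by rcases hηl with ⟨-, h⟩ | ⟨-, h⟩ <;> omega
      have hd2 : d ≤ 2 * n := by rcases hcase with h | ⟨h, -⟩ <;> omega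
      by_cases hkl' : k ∣ l
      · obtain ⟨c, hc⟩ := hkl'
        have hce : Even c := Nat.not_odd_iff_even.1 fun ho => hno ⟨c, ho, hc⟩
        have hle : Even l := hc ▸ hce.mul_left k
        have hl2 : 2 * ηl = l := by
          rcases hηl with ⟨h, -⟩ | ⟨-, h⟩
          · exact absurd hle (Nat.not_even_iff_odd.2 h)
          · exact h
        rcases hcase with h | ⟨-, i, hir, his⟩
        · have := Nat.le_of_dvd hd0 hld
          omega
        · obtain ⟨c', rfl⟩ := hce
          have h2i : l ∣ 2 * i := by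
            rw [hl]; exact orderOf_dvd_of_pow_eq_one (by rw [mul_comm, pow_mul, his, neg_one_sq])
          have hki : k ∣ i := by
            obtain ⟨j, hj⟩ := h2i
            exact ⟨c' * j, by rw [hc] at hj; linarith [hj, show k * (c' + c') * j = 2 * (k * (c' * j)) by ring]⟩
          obtain ⟨j, hj⟩ := hki
          rw [hj, pow_mul, hk, pow_orderOf_eq_one, one_pow] at hir
          haveI : Fact (2 < r) := ⟨by have := hr.two_le; omega⟩
          exact ZMod.neg_one_ne_one hir.symm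
      · obtain ⟨c, hc⟩ := hld
        have hc2 : 2 ≤ c := by
          by_contra hc2
          interval_cases c
          · omega
          · exact hkl' (by rwa [hc, mul_one] at hkd)
        have := Nat.mul_le_mul_left l hc2
        rcases hηl with ⟨hlo, he⟩ | ⟨-, he⟩
        · rcases hcase with h | ⟨-, i, -, his⟩
          · omega
          · have h1 : (((q : ℕ) : ZMod s) ^ i) ^ l = 1 := by
              rw [← pow_mul, mul_comm, pow_mul, hl, pow_orderOf_eq_one, one_pow]
            rw [his, hlo.neg_one_pow] at h1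
            haveI : Fact (2 < s) := ⟨by have := hs.two_le; omega⟩
            exact ZMod.neg_one_ne_one h1
        · omega

end Cfsg.Agent.S2469
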