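import Cfsg.Statements.S2470
import Cfsg.Agent.Lib.Linear.CommutingPElt

set_option autoImplicit false
open Cfsg

namespace Cfsg.Agent.S2470

open Cfsg.Lib.Linear.CommutingPElt
open scoped Matrix

variable {F : Type*} [Field F] [Fintype F] (p : ℕ) [Fact p.Prime] [CharP F p]

theorem center_pow_eq_one {n : ℕ} [Nonempty (Fin n)] :
    ∀ z ∈ Subgroup.center (Matrix.SpecialLinearGroup (Fin n) F), z ^ p = 1 → z = 1 := by
  intro z hz hzp
  obtain ⟨c, -, hc⟩ := Matrix.SpecialLinearGroup.mem_center_iff.1 hz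
  have h1 : ((z ^ p : Matrix.SpecialLinearGroup (Fin n) F) : Matrix (Fin n) (Fin n) F) = 1 := by rw [hzp]; rfl
  rw [Matrix.SpecialLinearGroup.coe_pow, ← hc, ← map_pow, ← map_one (Matrix.scalar (Fin n))] at h1
  have h2 : c = 1 := frobenius_inj F p (by simpa [frobenius_def] using Matrix.scalar_inj.1 h1)
  exact Subtype.ext (by rw [← hc, h2, map_one]; rfl)

/-- A block `(a·t) ⊕ Y`, with `t` a transvection, has order `r * p` modulo scalars. -/
theorem mk_block {n d r : ℕ} (e : Fin 2 ⊕ Fin d ≃ Fin n) (hrp : r ≠ p) (hr : r.Prime) (a : F)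
    (Y : Matrix (Fin d) (Fin d) F) (hdet : a ^ 2 * Y.det = 1) (hY : Y ^ r = a ^ r • 1)
    (hm : ∀ m, Y ^ m = a ^ m • 1 → r ∣ m) :
    ∃ g : Matrix.ProjectiveSpecialLinearGroup (Fin n) F, orderOf g = r * p := by
  have ha : a ≠ 0 := fun h => by simp [h] at hdet
  have : Nonempty (Fin n) := ⟨e (Sum.inl 0)⟩
  set T : Matrix (Fin 2) (Fin 2) F := a • !![1, 1; 0, 1] with hT
  have hTp : ∀ k : ℕ, T ^ k = a ^ k • !![1, (k : F); 0, 1] := by
    intro k
    induction k with
    | zero => simp [Matrix.one_fin_two]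
    | succ k ih =>
      rw [pow_succ, ih, hT, smul_mul_smul_comm, ← pow_succ]
      congr 1
      ext i j
      fin_cases i <;> fin_cases j <;> simp [Matrix.mul_apply, Fin.sum_univ_two, add_comm]
  let M := Matrix.reindexAlgEquiv F F e (Matrix.fromBlocks T 0 0 Y)
  have hMdet : M.det = 1 := by
    show (Matrix.reindex e e _).det = 1
    rw [Matrix.det_reindex_self, Matrix.det_fromBlocks_zero₁₂, hT, Matrix.det_smul, Matrix.det_fin_two_of]
    simpa using hdet
  let X : Matrix.SpecialLinearGroup (Fin n) F := ⟨M, hMdet⟩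
  have hXp : ∀ k : ℕ, ((X ^ k : Matrix.SpecialLinearGroup (Fin n) F) : Matrix (Fin n) (Fin n) F) =
      Matrix.reindexAlgEquiv F F e (Matrix.fromBlocks (T ^ k) 0 0 (Y ^ k)) := fun k => by
    rw [Matrix.SpecialLinearGroup.coe_pow]
    show M ^ k = _
    rw [← map_pow, Matrix.fromBlocks_diagonal_pow]
  have hsc : ∀ c : F, Matrix.scalar (Fin n) c =
      Matrix.reindexAlgEquiv F F e (Matrix.fromBlocks (c • 1) 0 0 (c • 1)) := fun c => by
    rw [show Matrix.fromBlocks (c • (1 : Matrix (Fin 2) (Fin 2) F)) 0 0 (c • (1 : Matrix (Fin d) (Fin d) F)) =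
      c • Matrix.fromBlocks 1 0 0 1 by rw [Matrix.fromBlocks_smul, smul_zero, smul_zero],
      Matrix.fromBlocks_one, map_smul, map_one, Matrix.scalar_apply, Matrix.smul_one_eq_diagonal]
  have hcen : ∀ k : ℕ, (X : Matrix.SpecialLinearGroup (Fin n) F) ^ k ∈ Subgroup.center _ ↔ r * p ∣ k := by
    intro k
    constructor
    · intro h
      obtain ⟨c, -, hc⟩ := Matrix.SpecialLinearGroup.mem_center_iff.1 h
      rw [hXp, hsc] at hc
      have h' := (Matrix.reindexAlgEquiv F F e).injective hc
      rw [Matrix.fromBlocks_inj] at h'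
      obtain ⟨h1, -, -, h4⟩ := h'
      rw [hTp] at h1
      have hc0 : c = a ^ k := by simpa using congrFun (congrFun h1 0) 0
      have hk0 : (k : F) = 0 := by simpa [ha] using (congrFun (congrFun h1 0) 1).symm
      exact (((Nat.coprime_primes hr Fact.out).2 hrp).mul_dvd_of_dvd_of_dvd (hm k (by rw [← h4, hc0]))
        ((CharP.cast_eq_zero_iff F p k).1 hk0))
    · rintro ⟨j, rfl⟩
      have hz : X ^ (r * p) ∈ Subgroup.center _ := by
        refine Matrix.SpecialLinearGroup.mem_center_iff.2 ⟨a ^ (r * p), ?_, ?_⟩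
        · have h1 := (X ^ (r * p)).2
          have h2 : ((X ^ (r * p) : Matrix.SpecialLinearGroup (Fin n) F) : Matrix (Fin n) (Fin n) F) =
              Matrix.scalar (Fin n) (a ^ (r * p)) := by
            rw [hXp, hsc, hTp, pow_mul Y, hY, smul_pow, one_pow, ← pow_mul, show ((r * p : ℕ) : F) = 0 by rw [Nat.cast_mul, CharP.cast_eq_zero F p, mul_zero],
              ← Matrix.one_fin_two]
          rw [h2] at h1
          simpa using h1
        · rw [hXp, hsc, hTp, pow_mul Y, hY, smul_pow, one_pow, ← pow_mul, show ((r * p : ℕ) : F) = 0 by rw [Nat.cast_mul, CharP.cast_eq_zero F p, mul_zero],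
            ← Matrix.one_fin_two]
      rw [pow_mul]
      exact pow_mem hz j
  refine ⟨QuotientGroup.mk' _ X, Nat.dvd_antisymm (orderOf_dvd_of_pow_eq_one ?_) ?_⟩
  · rw [← map_pow, QuotientGroup.mk'_apply, QuotientGroup.eq_one_iff]
    exact (hcen _).2 dvd_rfl
  · refine (hcen _).1 ?_
    rw [← QuotientGroup.eq_one_iff, QuotientGroup.mk_pow]
    exact pow_orderOf_eq_one (QuotientGroup.mk' _ X)

theorem exists_unit_order {d : ℕ} (hd : d ∣ Fintype.card F - 1) : ∃ a : F, orderOf a = d := by
  classical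
  obtain ⟨g, hg⟩ := IsCyclic.exists_ofOrder_eq_natCard (α := Fˣ)
  rw [Nat.card_eq_fintype_card, Fintype.card_units] at hg
  obtain ⟨j, hj⟩ := hd
  have hj0 : j ≠ 0 := fun h => by
    rw [h, mul_zero] at hj
    have := Fintype.one_lt_card (α := F); omega
  refine ⟨((g ^ j : Fˣ) : F), ?_⟩
  rw [orderOf_units, orderOf_pow_of_dvd hj0 (by rw [hg, hj]; exact dvd_mul_left _ _), hg, hj,
    Nat.mul_div_cancel _ (Nat.pos_of_ne_zero hj0)]

/-- No element of order `r * p` when the multiplicative order of `q` mod `r` exceeds `n - 2`. -/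
theorem no_rp_of_large {n r : ℕ} (hr : r.Prime) (hrp : r ≠ p) (hn : 3 ≤ n)
    (hk : n - 2 < orderOf ((Fintype.card F : ℕ) : ZMod r))
    (g : Matrix.ProjectiveSpecialLinearGroup (Fin n) F) : orderOf g ≠ r * p := by
  intro hg
  have : Fact r.Prime := ⟨hr⟩
  have : Nonempty (Fin n) := ⟨⟨0, by omega⟩⟩
  have hp := (Fact.out : p.Prime)
  have ha : orderOf (g ^ r) = p := by
    rw [orderOf_pow_of_dvd hr.ne_zero (hg ▸ dvd_mul_right r p), hg, Nat.mul_div_cancel_left _ hr.pos]
  have hb : orderOf (g ^ p) = r := by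
    rw [orderOf_pow_of_dvd hp.ne_zero (hg ▸ dvd_mul_left p r), hg, Nat.mul_div_cancel _ hp.pos]
  obtain ⟨B, u, hB, hu, hc⟩ := lift_commuting (p := p) (r := r) (center_pow_eq_one p) ha
    (Commute.pow_pow_self g r p) (hb ▸ dvd_rfl)
  set q := Fintype.card F with hq
  have hq0 : ((q : ℤ) : ZMod r) ≠ 0 := by
    rw [Int.cast_natCast, ne_eq, ZMod.natCast_eq_zero_iff]
    obtain ⟨k, hk⟩ := FiniteField.card F p
    rw [hq, hk.2]
    exact fun h => hrp ((Nat.prime_dvd_prime_iff_eq hr hp).1 (hr.dvd_of_dvd_pow h))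
  have hnr : ∀ j, 1 ≤ j → j ≤ n - 2 → ((q : ℤ) : ZMod r) ^ j ≠ 1 := fun j h1 h2 h => by
    rw [Int.cast_natCast] at h
    have := Nat.le_of_dvd h1 (orderOf_dvd_of_pow_eq_one h)
    omega
  refine no_commuting (p := p) (r := r) hrp hn (B : Matrix (Fin n) (Fin n) F) (u : Matrix (Fin n) (Fin n) F)
    B.2 ?_ (fun h => ?_) ?_ (fun h => ?_) ?_ (q : ℤ) hq0 hnr fun x hx0 hx => ?_
  · rw [← Matrix.SpecialLinearGroup.coe_pow, ← hB, pow_orderOf_eq_one]; rfl
  · rw [Subtype.ext (show (B : Matrix (Fin n) (Fin n) F) = ((1 : Matrix.SpecialLinearGroup (Fin n) F) : Matrix (Fin n) (Fin n) F) from h), orderOf_one] at hB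
    exact hr.one_lt.ne hB
  · rw [← Matrix.SpecialLinearGroup.coe_pow, ← hu, pow_orderOf_eq_one]; rfl
  · rw [Subtype.ext (show (u : Matrix (Fin n) (Fin n) F) = ((1 : Matrix.SpecialLinearGroup (Fin n) F) : Matrix (Fin n) (Fin n) F) from h), orderOf_one] at hu
    exact hp.one_lt.ne hu
  · exact (congrArg Subtype.val hc.eq :)
  · let σ : AlgebraicClosure F →+* AlgebraicClosure F := (FiniteField.frobeniusAlgHom F (AlgebraicClosure F)).toRingHom
    have hσ : ∀ y, σ y = y ^ q := fun y => by simp [σ, hq]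
    have h := congrArg σ hx
    rw [map_zero, RingHom.map_det, map_sub, RingHom.mapMatrix_apply, RingHom.mapMatrix_apply] at h
    rw [zpow_natCast]
    convert h using 2
    · ext i j
      simp only [Matrix.sub_apply, Matrix.map_apply, Matrix.scalar_apply, Matrix.diagonal_apply]
      rw [hσ, ← map_pow, hq, FiniteField.pow_card]
      split_ifs with hij
      · rw [hσ]
      · rw [map_zero]

/-- A matrix of order prime to the characteristic with all eigenvalues `1` is the identity. -/
theorem eq_one_of_unipotent {L : Type*} [Field L] {n r : ℕ} (hrL : (r : L) ≠ 0)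
    (C : Matrix (Fin n) (Fin n) L) (hCr : C ^ r = 1) (hnil : (C - 1) ^ n = 0) : C = 1 := by
  have h2 : (C - 1) * (∑ i ∈ Finset.range r, C ^ i) = 0 := by rw [mul_geom_sum, hCr, sub_self]
  have hd : ∀ i : ℕ, IsNilpotent (C ^ i - 1) := fun i => by
    rw [← mul_geom_sum]
    exact (Commute.sum_right (Finset.range i) _ (C - 1) fun j _ =>
      ((Commute.refl C).sub_left (Commute.one_left _)).pow_right j).isNilpotent_mul_right ⟨n, hnil⟩
  have hsum : IsNilpotent ((∑ i ∈ Finset.range r, C ^ i) - (r : Matrix (Fin n) (Fin n) L)) := by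
    rw [show ((r : Matrix (Fin n) (Fin n) L)) = ∑ i ∈ Finset.range r, (1 : Matrix (Fin n) (Fin n) L) by simp,
      ← Finset.sum_sub_distrib]
    exact Commute.isNilpotent_sum (fun i _ => hd i) fun i j _ _ =>
      ((Commute.pow_pow_self C i j).sub_left (Commute.one_left _)).sub_right (Commute.one_right _)
  have hru : IsUnit ((r : Matrix (Fin n) (Fin n) L)) := by
    rw [show (r : Matrix (Fin n) (Fin n) L) = algebraMap L (Matrix (Fin n) (Fin n) L) (r : L) from (map_natCast _ r).symm]
    exact (IsUnit.mk0 _ hrL).map _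
  have hunit : IsUnit (∑ i ∈ Finset.range r, C ^ i) := by
    simpa using hsum.isUnit_add_left_of_commute hru ((Nat.commute_cast _ r))
  exact sub_eq_zero.1 (hunit.mul_left_eq_zero.1 h2)

/-- Small degrees: an element with scalar `r`th power commuting with a non-trivial unipotent is scalar,
unless some element of `F` has the `r`th power in question. -/
theorem small_case {n r : ℕ} (hr : r.Prime) (hrp : r ≠ p) (hn : n = 2 ∨ (n = 3 ∧ r = 3))
    (h9 : n = 3 → ¬ 9 ∣ Fintype.card F - 1)
    (g : Matrix.ProjectiveSpecialLinearGroup (Fin n) F) : orderOf g ≠ r * p := by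
  classical
  intro hg
  have : Nonempty (Fin n) := ⟨⟨0, by omega⟩⟩
  have hp := (Fact.out : p.Prime)
  obtain ⟨X, rfl⟩ := QuotientGroup.mk_surjective g
  have hmem : ∀ k : ℕ, X ^ k ∈ Subgroup.center (Matrix.SpecialLinearGroup (Fin n) F) ↔ r * p ∣ k := fun k => by
    rw [← hg]
    refine (QuotientGroup.eq_one_iff (N := Subgroup.center (Matrix.SpecialLinearGroup (Fin n) F)) (X ^ k)).symm.trans ?_
    rw [QuotientGroup.mk_pow]
    exact ⟨fun h => orderOf_dvd_of_pow_eq_one h, fun h => orderOf_dvd_iff_pow_eq_one.1 h⟩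
  obtain ⟨w, hw⟩ : ∃ w : Subgroup.center (Matrix.SpecialLinearGroup (Fin n) F), w ^ p = (⟨(X : (Matrix.SpecialLinearGroup (Fin n) F)) ^ (r * p), (hmem _).2 dvd_rfl⟩ : Subgroup.center (Matrix.SpecialLinearGroup (Fin n) F)) := by
    refine (Finite.injective_iff_surjective (f := fun z : Subgroup.center (Matrix.SpecialLinearGroup (Fin n) F) => z ^ p)).1 ?_ _
    intro z y h
    have e : ((z * y⁻¹ : Subgroup.center (Matrix.SpecialLinearGroup (Fin n) F)) : (Matrix.SpecialLinearGroup (Fin n) F)) ^ p = 1 := by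
      rw [← SubmonoidClass.coe_pow,
        (show Commute z y⁻¹ from Subtype.ext (Subgroup.mem_center_iff.1 (y⁻¹).2 (z : (Matrix.SpecialLinearGroup (Fin n) F)))).mul_pow, inv_pow,
        show z ^ p = y ^ p from h, mul_inv_cancel]; rfl
    exact mul_inv_eq_one.1 (Subtype.ext (center_pow_eq_one p _ (z * y⁻¹).2 e))
  set u : (Matrix.SpecialLinearGroup (Fin n) F) := X ^ r * (w : (Matrix.SpecialLinearGroup (Fin n) F))⁻¹ with hu
  have hwc : ∀ y : (Matrix.SpecialLinearGroup (Fin n) F), Commute y (w : (Matrix.SpecialLinearGroup (Fin n) F))⁻¹ := fun y => Subgroup.mem_center_iff.1 (inv_mem w.2) y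
  have hup : u ^ p = 1 := by
    rw [hu, (hwc _).mul_pow, inv_pow, show ((w : (Matrix.SpecialLinearGroup (Fin n) F))) ^ p = X ^ (r * p) from congrArg Subtype.val hw,
      ← pow_mul, mul_inv_cancel]
  have hu1 : u ≠ 1 := fun h => by
    rw [hu, mul_inv_eq_one] at h
    have := (hmem r).1 (h ▸ w.2)
    have := Nat.le_of_dvd hr.pos this
    nlinarith [hp.two_le, hr.pos]
  have hB : X ^ p ∉ Subgroup.center (Matrix.SpecialLinearGroup (Fin n) F) := fun h => by
    have := Nat.le_of_dvd hp.pos ((hmem p).1 h)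
    nlinarith [hr.two_le, hp.pos]
  have hBr : (X ^ p) ^ r ∈ Subgroup.center (Matrix.SpecialLinearGroup (Fin n) F) := by
    rw [← pow_mul, hmem, mul_comm]
  have hBu : Commute (X ^ p) u := (Commute.pow_pow_self X p r).mul_right (hwc _)
  obtain ⟨c, hcn, hc⟩ := Matrix.SpecialLinearGroup.mem_center_iff.1 hBr
  rw [Fintype.card_fin] at hcn
  set φ := algebraMap F (AlgebraicClosure F)
  have : CharP (AlgebraicClosure F) p := charP_of_injective_algebraMap φ.injective p
  set B : Matrix (Fin n) (Fin n) (AlgebraicClosure F) := ((X ^ p : (Matrix.SpecialLinearGroup (Fin n) F)) : Matrix (Fin n) (Fin n) F).map φ with hBdef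
  have hBpow : B ^ r = Matrix.scalar (Fin n) (φ c) := by
    rw [hBdef, ← RingHom.mapMatrix_apply, ← map_pow, ← Matrix.SpecialLinearGroup.coe_pow, ← hc]
    simp [Matrix.diagonal_map]
  have hroots : ∀ x ∈ B.charpoly.roots, x ^ r = φ c := by
    intro x hx
    have hd : (Polynomial.X ^ r - Polynomial.C (φ c) : Polynomial (AlgebraicClosure F)).aeval B = 0 := by
      simp [hBpow, Matrix.algebraMap_eq_diagonal, Matrix.scalar_apply, Pi.algebraMap_def]
    have hx' : x ∈ spectrum (AlgebraicClosure F) B := Matrix.mem_spectrum_of_isRoot_charpoly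
      ((Polynomial.mem_roots (Matrix.charpoly_monic B).ne_zero).1 hx)
    have := spectrum.subset_polynomial_aeval B (Polynomial.X ^ r - Polynomial.C (φ c)) ⟨x, hx', rfl⟩
    rw [hd, spectrum.zero_eq, Set.mem_singleton_iff] at this
    simpa [sub_eq_zero] using this
  have hprod : B.charpoly.roots.prod = 1 := by
    rw [← Matrix.det_eq_prod_roots_charpoly, hBdef, ← RingHom.mapMatrix_apply, ← RingHom.map_det, (X ^ p).2, map_one]
  have hcard : B.charpoly.roots.card = n := by
    rw [← (IsAlgClosed.splits B.charpoly).natDegree_eq_card_roots, Matrix.charpoly_natDegree_eq_dim, Fintype.card_fin]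
  have hnd : ¬ B.charpoly.roots.Nodup := fun hnd => by
    have hnil : IsNilpotent (((u : Matrix (Fin n) (Fin n) F).map φ) - 1) := ⟨p, by
      rw [sub_pow_char_of_commute p (Commute.one_right _), one_pow, ← RingHom.mapMatrix_apply, ← map_pow,
        ← Matrix.SpecialLinearGroup.coe_pow, hup, Matrix.SpecialLinearGroup.coe_one, map_one, sub_self]⟩
    have hcm : Commute ((X ^ p : (Matrix.SpecialLinearGroup (Fin n) F)) : Matrix (Fin n) (Fin n) F) (u : Matrix (Fin n) (Fin n) F) :=
      congrArg Subtype.val hBu.eq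
    have h0 := eq_zero_of_nodup_roots B _ hnd ((hcm.map φ.mapMatrix).sub_right (Commute.one_right _)) hnil
    apply hu1
    refine Subtype.ext (Matrix.map_injective φ.injective ?_)
    show (u : Matrix (Fin n) (Fin n) F).map φ = (1 : Matrix (Fin n) (Fin n) F).map φ
    rw [Matrix.map_one φ φ.map_zero φ.map_one]; exact sub_eq_zero.1 h0
  have hne : ∀ x, ¬ (∀ y ∈ B.charpoly.roots, y = x) := by
    intro x hall
    have hrep : B.charpoly.roots = Multiset.replicate n x := Multiset.eq_replicate.2 ⟨hcard, hall⟩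
    have hxr : x ^ r = φ c := hroots x (by rw [hrep]; exact Multiset.mem_replicate.2 ⟨by omega, rfl⟩)
    have hx0 : x ≠ 0 := fun h => by
      rw [hrep, h, Multiset.prod_replicate, zero_pow (by omega)] at hprod
      exact zero_ne_one hprod
    have hcp : B.charpoly = (Polynomial.X - Polynomial.C x) ^ n := by
      rw [(IsAlgClosed.splits B.charpoly).eq_prod_roots_of_monic (Matrix.charpoly_monic B), hrep,
        Multiset.map_replicate, Multiset.prod_replicate]
    have hnil : (B - x • 1) ^ n = 0 := by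
      have := Matrix.aeval_self_charpoly B
      rw [hcp] at this
      simpa [Algebra.algebraMap_eq_smul_one] using this
    have hC : x⁻¹ • B = 1 := by
      refine eq_one_of_unipotent (r := r) ?_ _ ?_ ?_
      · rw [ne_eq, CharP.cast_eq_zero_iff (AlgebraicClosure F) p r]
        exact fun h => hrp ((Nat.prime_dvd_prime_iff_eq hp hr).1 h).symm
      · rw [smul_pow, hBpow, Matrix.scalar_apply, ← Matrix.smul_one_eq_diagonal, smul_smul, inv_pow, hxr,
          inv_mul_cancel₀ (hxr ▸ pow_ne_zero _ hx0), one_smul]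
      · have : x⁻¹ • B - 1 = x⁻¹ • (B - x • 1) := by
          rw [smul_sub, smul_smul, inv_mul_cancel₀ hx0, one_smul]
        rw [this, smul_pow, hnil, smul_zero]
    have hBx : B = x • 1 := by rw [← hC, smul_smul, mul_inv_cancel₀ hx0, one_smul]
    apply hB
    set M := ((X ^ p : (Matrix.SpecialLinearGroup (Fin n) F)) : Matrix (Fin n) (Fin n) F)
    have i₀ : Fin n := Classical.arbitrary _
    have hx : φ (M i₀ i₀) = x := by
      simpa [hBdef] using congrFun (congrFun hBx i₀) i₀
    have hM : M = Matrix.scalar (Fin n) (M i₀ i₀) := by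
      apply Matrix.map_injective φ.injective
      show B = _
      rw [hBx, ← hx]
      simp [Matrix.diagonal_map, Matrix.smul_one_eq_diagonal]
    refine Matrix.SpecialLinearGroup.mem_center_iff.2 ⟨M i₀ i₀, ?_, hM.symm⟩
    have h1 : M.det = 1 := (X ^ p).2
    rw [hM] at h1
    simpa using h1
  rcases hn with rfl | ⟨rfl, rfl⟩
  · obtain ⟨x, y, hxy⟩ := Multiset.card_eq_two.1 hcard
    rw [hxy] at hnd hne
    have : x = y := by simpa using hnd
    exact hne x (by simp [this])
  · obtain ⟨x, y, z, hxyz⟩ := Multiset.card_eq_three.1 hcard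
    have htr : B.trace = B.charpoly.roots.sum := Matrix.trace_eq_sum_roots_charpoly B
    have key : ∀ a b : AlgebraicClosure F, B.charpoly.roots = {a, a, b} → False := by
      intro a b hab
      have hab' : a ≠ b := fun h => hne a (by rw [hab, h]; simp)
      rw [hab] at hprod htr hroots
      have ha3 : a ^ 3 = φ c := hroots a (by simp)
      have hb3 : b ^ 3 = φ c := hroots b (by simp)
      have hp2 : a * a * b = 1 := by simpa [mul_assoc] using hprod
      have hc3 : φ c ^ 3 = 1 := by rw [← map_pow, hcn, map_one]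
      have hb : b = a * φ c ^ 2 := by
        have h1 : φ c * b = a := by rw [← ha3]; linear_combination a * hp2
        linear_combination (φ c ^ 2) * h1 - b * hc3
      have hc1 : c ≠ 1 := fun h => hab' (by rw [hb, h, map_one, one_pow, mul_one])
      have h2 : (2 : F) + c ^ 2 ≠ 0 := by
        intro h
        have h6 : (-2 : F) ^ 3 = 1 := by
          rw [show (-2 : F) = c ^ 2 by linear_combination -h, ← pow_mul, mul_comm 2 3, pow_mul, hcn, one_pow]
        have h3 : ((9 : ℕ) : F) = 0 := by push_cast; linear_combination -h6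
        have h9p : p ∣ 9 := (CharP.cast_eq_zero_iff F p 9).1 h3
        have := (Nat.prime_dvd_prime_iff_eq hp Nat.prime_three).1 (hp.dvd_of_dvd_pow (show p ∣ 3 ^ 2 by simpa using h9p))
        exact hrp this.symm
      set M := ((X ^ p : Matrix.SpecialLinearGroup (Fin 3) F) : Matrix (Fin 3) (Fin 3) F)
      have haF : φ (M.trace / (2 + c ^ 2)) = a := by
        have e : φ M.trace = B.trace := by
          rw [hBdef]; simp [Matrix.trace, map_sum]
        have h2' : φ (2 + c ^ 2) ≠ 0 := by rwa [ne_eq, map_eq_zero]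
        rw [map_div₀, div_eq_iff h2', e, htr]
        simp [map_ofNat, hb]
        ring
      set a₀ := M.trace / (2 + c ^ 2)
      have h3 : a₀ ^ 3 = c := φ.injective (by rw [map_pow, haF, ha3])
      have ha9 : a₀ ^ 9 = 1 := by rw [show (9 : ℕ) = 3 * 3 by rfl, pow_mul, h3, hcn]
      have ha0 : a₀ ≠ 0 := fun h => by simp [h] at ha9
      have hord : orderOf a₀ = 3 ^ (1 + 1) := by
        haveI : Fact (Nat.Prime 3) := ⟨Nat.prime_three⟩
        exact orderOf_eq_prime_pow (by simpa [h3] using hc1) (by simpa using ha9)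
      refine h9 rfl ?_
      rw [show (9 : ℕ) = orderOf a₀ by rw [hord]; rfl]
      exact orderOf_dvd_of_pow_eq_one (FiniteField.pow_card_sub_one_eq_one a₀ ha0)
    rw [hxyz] at hnd
    simp at hnd
    by_cases h1 : x = y
    · exact key x z (by rw [hxyz, h1])
    by_cases h2 : x = z
    · exact key x y (by
        rw [hxyz, ← h2]; simp only [Multiset.insert_eq_cons]
        congr 1
        exact Multiset.pair_comm y x)
    · have h3 : y = z := by tauto
      exact key y x (by
        rw [hxyz, ← h3]; simp only [Multiset.insert_eq_cons]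
        rw [Multiset.cons_swap x y]
        congr 1
        exact Multiset.pair_comm x y)

theorem order_pos {r : ℕ} [Fact r.Prime] (h : ¬ r ∣ Fintype.card F) : 0 < orderOf (Fintype.card F : ZMod r) := by
  have h0 : (Fintype.card F : ZMod r) ≠ 0 := fun h' => h ((ZMod.natCast_eq_zero_iff _ _).1 h')
  exact orderOf_pos_iff.2 (isOfFinOrder_iff_pow_eq_one.2 ⟨r - 1, Nat.sub_pos_of_lt (Fact.out : r.Prime).one_lt,
    ZMod.pow_card_sub_one_eq_one h0⟩)


/-- Adjacency of an odd prime and the characteristic in the prime graph of PSL(n,q): let F be a finite field of characteristic p with q elements, n ≥ 2 with PSL(n,F) simple, and let r ≠ p be an odd prime dividing the order of PSL(n,F), with k the multiplicative order of q modulo r. Then PSL(n,F) has NO element of order r·p if and only if either k > n − 2, or n = 3, r = 3 and 3 divides q − 1 exactly once. -/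
theorem result {F : Type*} [Field F] [Fintype F] (p : ℕ) [Fact p.Prime] [CharP F p] (n : ℕ) (hn : 2 ≤ n) (hsmall : n = 2 → 4 ≤ Fintype.card F)
    (r : ℕ) (hr : r.Prime) (hr2 : r ≠ 2) (hrp : r ≠ p) (hrG : r ∣ Nat.card (Matrix.ProjectiveSpecialLinearGroup (Fin n) F))
    (k : ℕ) (hk : k = orderOf ((Fintype.card F : ℕ) : ZMod r)) :
    (r * p ∉ Set.range (orderOf : Matrix.ProjectiveSpecialLinearGroup (Fin n) F → ℕ)) ↔
      (n - 2 < k ∨ (n = 3 ∧ r = 3 ∧ 3 ∣ Fintype.card F - 1 ∧ ¬ 9 ∣ Fintype.card F - 1)) := by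
  classical
  have hp := (Fact.out : p.Prime)
  haveI : Fact r.Prime := ⟨hr⟩
  have hqr : ¬ r ∣ Fintype.card F := by
    obtain ⟨j, hj⟩ := FiniteField.card F p
    rw [hj.2]
    exact fun h => hrp ((Nat.prime_dvd_prime_iff_eq hr hp).1 (hr.dvd_of_dvd_pow h))
  have hk1 : 1 ≤ k := hk ▸ Cfsg.Agent.S2470.order_pos hqr
  have hdvd : r ∣ Fintype.card F ^ k - 1 := by
    rw [← ZMod.natCast_eq_zero_iff, Nat.cast_sub (Nat.one_le_pow _ _ Fintype.card_pos), Nat.cast_pow,
      Nat.cast_one, hk, pow_orderOf_eq_one, sub_self]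
  constructor
  · intro hno
    by_contra hcon
    push Not at hcon
    obtain ⟨hkn, hex⟩ := hcon
    apply hno
    show ∃ g, orderOf g = r * p
    by_cases h4 : 4 ≤ n
    · obtain ⟨Y, hY⟩ := exists_prime_orderOf_dvd_card' (G := Matrix.SpecialLinearGroup (Fin (n - 2)) F) r
        (dvd_card_SL (n := n - 2) (by omega) hk1 hkn hdvd)
      refine mk_block p (finSumFinEquiv.trans (finCongr (show 2 + (n - 2) = n by omega))) hrp hr 1 (Y : Matrix (Fin (n - 2)) (Fin (n - 2)) F)
        (by simp [Y.2]) ?_ fun m hm => ?_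
      · rw [← Matrix.SpecialLinearGroup.coe_pow, ← hY, pow_orderOf_eq_one]; simp
      · rw [← hY]
        refine orderOf_dvd_of_pow_eq_one (Subtype.ext ?_)
        rw [Matrix.SpecialLinearGroup.coe_pow, hm]; simp
    · have hn3 : n = 3 := by omega
      subst hn3
      have hk' : k = 1 := by omega
      rw [hk', pow_one] at hdvd
      obtain ⟨a, ha, hdv⟩ : ∃ a : F, orderOf a = (if r = 3 then 9 else r) ∧ a ≠ 0 := by
        have hd : (if r = 3 then 9 else r) ∣ Fintype.card F - 1 := by
          split_ifs with h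
          · exact hex rfl h (h ▸ hdvd)
          · exact hdvd
        obtain ⟨a, ha⟩ := exists_unit_order hd
        refine ⟨a, ha, fun h => ?_⟩
        rw [h, orderOf_zero] at ha
        split_ifs at ha
        exact hr.ne_zero ha.symm
      have key : ∀ m, a ^ (3 * m) = 1 → r ∣ m := by
        intro m hm
        have h1 := orderOf_dvd_of_pow_eq_one hm
        rw [ha] at h1
        split_ifs at h1 with h
        · subst h; omega
        · exact ((Nat.coprime_primes hr Nat.prime_three).2 h).dvd_of_dvd_mul_left h1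
      have key2 : a ^ (3 * r) = 1 := by
        apply orderOf_dvd_iff_pow_eq_one.1
        rw [ha]
        split_ifs with h
        · subst h; exact dvd_rfl
        · exact dvd_mul_left _ _
      refine mk_block p (finSumFinEquiv (m := 2) (n := 1)) hrp hr a ((a ^ 2)⁻¹ • 1) ?_ ?_ fun m hm => key m ?_
      · rw [Matrix.det_smul, Matrix.det_one, mul_one, Fintype.card_fin, pow_one, mul_inv_cancel₀ (pow_ne_zero _ hdv)]
      · rw [smul_pow, one_pow]
        congr 1
        rw [inv_pow]
        refine (eq_inv_of_mul_eq_one_left ?_).symm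
        rw [← pow_mul, ← pow_add, show r + 2 * r = 3 * r by ring]; exact key2
      · have h1 := congrFun (congrFun hm 0) 0
        simp [smul_pow] at h1
        rw [show 3 * m = 2 * m + m by ring, pow_add, pow_mul, ← h1,
          mul_inv_cancel₀ (pow_ne_zero _ (pow_ne_zero _ hdv))]
  · intro h hmem
    obtain ⟨g, hg⟩ := hmem
    rcases h with h | ⟨h3, hr3, -, h9⟩
    · rcases Nat.lt_or_ge n 3 with h2 | h2
      · exact small_case p hr hrp (Or.inl (by omega)) (by omega) g hg
      · exact no_rp_of_large p hr hrp h2 (hk ▸ h) g hg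
    · exact small_case p hr hrp (Or.inr ⟨h3, hr3⟩) (fun _ => h9) g hg

end Cfsg.Agent.S2470
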