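import Cfsg.Statements.S2471
import Cfsg.Agent.Lib.Concrete.SL2Unipotent

set_option autoImplicit false
open Cfsg Cfsg.Lib.Concrete

namespace Cfsg.Agent.S2471

/-- In PSL(2,q) with q odd, the characteristic p is isolated from 2 in the prime graph: for F a finite field of odd characteristic p with at least 5 elements, PSL(2,F) has no element of order 2p. -/
theorem result {F : Type*} [Field F] [Fintype F] (p : ℕ) [Fact p.Prime] [CharP F p] (hp : p ≠ 2) (h5 : 5 ≤ Fintype.card F) (g : Matrix.ProjectiveSpecialLinearGroup (Fin 2) F) :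
    orderOf g ≠ 2 * p := by
  intro hg
  obtain ⟨A, rfl⟩ := QuotientGroup.mk'_surjective (Subgroup.center (Matrix.SpecialLinearGroup (Fin 2) F)) g
  have hcen : ∀ k : ℕ, (∃ c : F, ((A ^ k : Matrix.SpecialLinearGroup (Fin 2) F) : Matrix (Fin 2) (Fin 2) F) = c • 1) →
      orderOf (QuotientGroup.mk' (Subgroup.center (Matrix.SpecialLinearGroup (Fin 2) F)) A) ∣ k := by
    rintro k ⟨c, hc⟩
    refine orderOf_dvd_of_pow_eq_one ?_
    rw [← map_pow, QuotientGroup.mk'_apply, QuotientGroup.eq_one_iff]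
    refine Matrix.SpecialLinearGroup.mem_center_iff.2 ⟨c, ?_, ?_⟩
    · have h1 := (A ^ k).2
      rw [hc, Matrix.det_smul, Matrix.det_one, mul_one] at h1
      exact h1
    · rw [hc, Matrix.scalar_apply, Matrix.smul_one_eq_diagonal]
  have hp2 := (Fact.out : p.Prime).two_le
  obtain ⟨c, hc2, hc⟩ : ∃ c : F, c ^ 2 = 1 ∧ ((A : Matrix (Fin 2) (Fin 2) F) ^ (2 * p)) = c • 1 := by
    have h1 : (QuotientGroup.mk' (Subgroup.center (Matrix.SpecialLinearGroup (Fin 2) F)) A) ^ (2 * p) = 1 :=
      orderOf_dvd_iff_pow_eq_one.1 hg.dvd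
    rw [← map_pow, QuotientGroup.mk'_apply, QuotientGroup.eq_one_iff] at h1
    obtain ⟨c, hc2, hc⟩ := Matrix.SpecialLinearGroup.mem_center_iff.1 h1
    refine ⟨c, by simpa using hc2, ?_⟩
    rw [← Matrix.SpecialLinearGroup.coe_pow, ← hc, Matrix.scalar_apply, Matrix.smul_one_eq_diagonal]
  have hcp : c ^ p = c := by
    obtain ⟨k, hk⟩ := (Fact.out : p.Prime).odd_of_ne_two hp
    rw [hk, pow_succ, pow_mul, hc2, one_pow, one_mul]
  set M : Matrix (Fin 2) (Fin 2) F := (A : Matrix (Fin 2) (Fin 2) F) with hM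
  set t := M 0 0 + M 1 1 with ht
  have hdet : M 0 0 * M 1 1 - M 0 1 * M 1 0 = 1 := by rw [← Matrix.det_fin_two]; exact A.2
  have hCH : M * M = t • M - 1 := by
    ext i j
    fin_cases i <;> fin_cases j <;> simp [Matrix.mul_apply, Fin.sum_univ_two, ht] <;>
      first | ring1 | linear_combination -hdet | linear_combination hdet
  have hnil : (M ^ 2 - c • 1) * (M ^ 2 - c • 1) = 0 := by
    refine sq_eq_zero_of_pow_eq_zero (k := p) ?_
    rw [sub_pow_char_of_commute (p := p) ((Commute.one_right _).smul_right c), ← pow_mul, hc, smul_pow, one_pow, hcp, sub_self]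
  have hdet0 : (M ^ 2 - c • 1).det = 0 := by
    have h1 := congrArg Matrix.det hnil
    rw [Matrix.det_mul, Matrix.det_zero] at h1
    exact mul_self_eq_zero.1 h1
  have ht2 : t ^ 2 = 2 + 2 * c := by
    have hM2 : M ^ 2 - c • 1 = !![t * M 0 0 - 1 - c, t * M 0 1; t * M 1 0, t * M 1 1 - 1 - c] := by
      rw [sq, hCH]; ext i j; fin_cases i <;> fin_cases j <;> simp <;> ring
    rw [hM2, Matrix.det_fin_two_of] at hdet0
    have hc0 : c ≠ 0 := fun h => by rw [h] at hc2; simp at hc2
    apply mul_left_cancel₀ hc0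
    linear_combination (t ^ 2) * hdet - hdet0 + (-1 : F) * hc2 + (-t) * (1 + c) * ht
  have hcase : (c - 1) * (c + 1) = 0 := by linear_combination hc2
  rcases mul_eq_zero.1 hcase with h | h
  · have hc1 : c = 1 := sub_eq_zero.1 h
    subst hc1
    have h2 : (2 : F) ≠ 0 := Ring.two_ne_zero (by rw [ringChar.eq F p]; exact hp)
    set s := t / 2 with hs
    have hts : t = 2 * s := by rw [hs]; field_simp
    have hs2 : s * s = 1 := by
      apply mul_left_cancel₀ (mul_ne_zero h2 h2)
      linear_combination ht2 - (t + 2 * s) * hts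
    have hsq : (M - s • 1) * (M - s • 1) = 0 := by
      rw [sub_mul, mul_sub, mul_sub, hCH, Matrix.mul_smul, mul_one, Matrix.smul_mul, one_mul, Matrix.smul_mul, one_mul, smul_smul, hs2, one_smul, hts, two_mul, add_smul]
      abel
    have hp0 : (M - s • 1) ^ p = 0 := pow_eq_zero_of_le hp2 (by rw [sq]; exact hsq)
    rw [sub_pow_char_of_commute (p := p) ((Commute.one_right _).smul_right s), smul_pow, one_pow, sub_eq_zero] at hp0
    have := Nat.le_of_dvd (by omega) (hg ▸ hcen p ⟨s ^ p, by rw [Matrix.SpecialLinearGroup.coe_pow]; exact hp0⟩)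
    omega
  · have hc1 : c = -1 := eq_neg_of_add_eq_zero_left h
    have ht0 : t = 0 := eq_zero_of_pow_eq_zero (n := 2) (by rw [ht2, hc1]; ring)
    have := Nat.le_of_dvd (by omega) (hg ▸ hcen 2 ⟨-1, by rw [Matrix.SpecialLinearGroup.coe_pow, sq, hCH, ht0, zero_smul, zero_sub, neg_smul, one_smul]⟩)
    omega

end Cfsg.Agent.S2471
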