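import Cfsg.Statements.S2472
import Cfsg.Agent.Lib.Linear.CommutingPElt
import Cfsg.Agent.Lib.Linear.AbsorbPSpElems
import Cfsg.Agent.S0245

set_option autoImplicit false
open Cfsg

namespace Cfsg.Agent.S2472

open Cfsg.Lib.Linear Matrix
open scoped Matrix

variable {F : Type*} [Field F] [Fintype F] (p : ℕ) [Fact p.Prime] [CharP F p]

theorem center_pow_eq_one {n : ℕ} :
    ∀ z ∈ Subgroup.center ↥(Matrix.symplecticGroup (Fin n) F), z ^ p = 1 → z = 1 := by
  intro z hz hzp
  rcases (AbsorbPSp.mem_center_iff z).1 hz with h | h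
  · exact Subtype.ext h
  · have h1 : ((z ^ p : ↥(Matrix.symplecticGroup (Fin n) F)) : Matrix (Fin n ⊕ Fin n) (Fin n ⊕ Fin n) F) = 1 := by
      rw [hzp]; rfl
    rw [SubmonoidClass.coe_pow, h] at h1
    refine Subtype.ext ?_
    rw [h]
    rcases (Fact.out : p.Prime).eq_two_or_odd' with h2 | ho
    · subst h2
      have : (-1 : F) = 1 := CharTwo.neg_eq 1
      rw [← neg_one_smul F (1 : Matrix (Fin n ⊕ Fin n) (Fin n ⊕ Fin n) F), this, one_smul]; rfl
    · rw [ho.neg_one_pow] at h1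
      exact h1

/-- Eigenvalues of a symplectic matrix come in inverse pairs. -/
theorem det_sub_inv {K : Type*} [Field K] {n : ℕ} {M : Matrix (Fin n ⊕ Fin n) (Fin n ⊕ Fin n) K}
    (hM : Mᵀ * J (Fin n) K * M = J (Fin n) K) {x : K} (hx : x ≠ 0)
    (h : (M - Matrix.scalar (Fin n ⊕ Fin n) x).det = 0) :
    (M - Matrix.scalar (Fin n ⊕ Fin n) x⁻¹).det = 0 := by
  rw [Matrix.scalar_apply, ← Matrix.smul_one_eq_diagonal] at h ⊢
  have hJ : (J (Fin n) K).det ≠ 0 := (isUnit_det_J _ _).ne_zero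
  have hM0 : M.det ≠ 0 := fun h0 => by
    have := congrArg Matrix.det hM
    rw [det_mul, h0, mul_zero] at this
    exact hJ this.symm
  have key : Mᵀ * J (Fin n) K * (M - x⁻¹ • 1) = (-x⁻¹) • ((M - x • 1)ᵀ * J (Fin n) K) := by
    rw [Matrix.mul_sub, hM, Matrix.mul_smul, Matrix.mul_one, transpose_sub, transpose_smul, transpose_one,
      Matrix.sub_mul, Matrix.smul_mul, Matrix.one_mul, smul_sub, smul_smul, neg_mul, inv_mul_cancel₀ hx, neg_smul,
      neg_one_smul]
    abel
  have := congrArg Matrix.det key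
  rw [det_smul, det_mul, det_mul, det_mul, det_transpose, det_transpose, h, zero_mul, mul_zero] at this
  rcases mul_eq_zero.1 this with h1 | h1
  · rcases mul_eq_zero.1 h1 with h2 | h2
    · exact absurd h2 hM0
    · exact absurd h2 hJ
  · exact h1

theorem no_rp {n r k ηk : ℕ} (hn : 2 ≤ n) (hr : r.Prime) (hr2 : r ≠ 2) (hrp : r ≠ p)
    (hk : k = orderOf ((Fintype.card F : ℕ) : ZMod r)) (hηk : (Odd k ∧ ηk = k) ∨ (Even k ∧ 2 * ηk = k))
    (hlt : n - 1 < ηk) (g : Cfsg.PSp n F) : orderOf g ≠ r * p := by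
  intro hg
  have : Fact r.Prime := ⟨hr⟩
  have hp := (Fact.out : p.Prime)
  have ha : orderOf (g ^ r) = p := by
    rw [orderOf_pow_of_dvd hr.ne_zero (hg ▸ dvd_mul_right r p), hg, Nat.mul_div_cancel_left _ hr.pos]
  have hb : orderOf (g ^ p) = r := by
    rw [orderOf_pow_of_dvd hp.ne_zero (hg ▸ dvd_mul_left p r), hg, Nat.mul_div_cancel _ hp.pos]
  obtain ⟨B, u, hB, hu, hc⟩ := CommutingPElt.lift_commuting (p := p) (r := r) (center_pow_eq_one p) ha
    (Commute.pow_pow_self g r p) (hb ▸ dvd_rfl)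
  set q := Fintype.card F with hq
  have hrq : (q : ZMod r) ≠ 0 := by
    rw [ne_eq, ZMod.natCast_eq_zero_iff]
    obtain ⟨j, hj⟩ := FiniteField.card F p
    rw [hq, hj.2]
    exact fun h => hrp ((Nat.prime_dvd_prime_iff_eq hr hp).1 (hr.dvd_of_dvd_pow h))
  have hneg : (-1 : ZMod r) ≠ 1 := fun h => by
    have h2 : ((2 : ℕ) : ZMod r) = 0 := by push_cast; linear_combination -h
    exact hr2 ((Nat.prime_dvd_prime_iff_eq hr Nat.prime_two).1 ((ZMod.natCast_eq_zero_iff 2 r).1 h2))
  obtain ⟨e, he, he0, hej⟩ : ∃ e : ℤ, (e = q ∨ e = -(q : ℤ)) ∧ (e : ZMod r) ≠ 0 ∧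
      ∀ j : ℕ, 1 ≤ j → j ≤ n + n - 2 → (e : ZMod r) ^ j ≠ 1 := by
    rcases hηk with ⟨hodd, he⟩ | ⟨heven, he⟩
    · refine ⟨-(q : ℤ), Or.inr rfl, by push_cast; simpa using hrq, fun j h1 h2 h => ?_⟩
      push_cast at h
      have hsq : (q : ZMod r) ^ (j * 2) = 1 := by
        rw [pow_mul, show ((q : ZMod r) ^ j) ^ 2 = ((-(q : ZMod r)) ^ j) ^ 2 by rw [← pow_mul, ← pow_mul, mul_comm j 2,
          pow_mul, pow_mul, neg_sq], h, one_pow]
      have hd : k ∣ j := (hodd.coprime_two_right).dvd_of_dvd_mul_right (hk ▸ orderOf_dvd_of_pow_eq_one hsq)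
      have hqj : (q : ZMod r) ^ j = 1 := by
        obtain ⟨c, rfl⟩ := hd
        rw [pow_mul, hk, pow_orderOf_eq_one, one_pow]
      rw [neg_pow, hqj, mul_one] at h
      have hje : Even j := by
        rcases Nat.even_or_odd j with h' | h'
        · exact h'
        · rw [h'.neg_one_pow] at h; exact absurd h hneg
      have := Nat.le_of_dvd h1 ((hodd.coprime_two_left).mul_dvd_of_dvd_of_dvd hje.two_dvd hd)
      omega
    · refine ⟨q, Or.inl rfl, by simpa using hrq, fun j h1 h2 h => ?_⟩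
      rw [Int.cast_natCast] at h
      have := Nat.le_of_dvd h1 (hk ▸ orderOf_dvd_of_pow_eq_one h)
      omega
  set E := Matrix.reindexAlgEquiv F F (finSumFinEquiv (m := n) (n := n)) with hE
  set Bm := (B : Matrix (Fin n ⊕ Fin n) (Fin n ⊕ Fin n) F) with hBm
  have hBr : Bm ^ r = 1 := by
    rw [hBm, ← SubmonoidClass.coe_pow, ← hB, pow_orderOf_eq_one]; rfl
  have hBJ : Bmᵀ * J (Fin n) F * Bm = J (Fin n) F := SymplecticGroup.mem_iff'.1 B.2
  have hdet : Bm.det = 1 := by
    have h1 : Bm.det * Bm.det = 1 := by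
      have := congrArg Matrix.det hBJ
      rw [det_mul, det_mul, det_transpose] at this
      have hJ : (J (Fin n) F).det ≠ 0 := (isUnit_det_J _ _).ne_zero
      exact mul_right_cancel₀ hJ (by linear_combination this)
    obtain ⟨j, hj⟩ := hr.odd_of_ne_two hr2
    have h2 : Bm.det ^ r = 1 := by rw [← det_pow, hBr, det_one]
    rwa [hj, pow_succ, pow_mul, sq, h1, one_pow, one_mul] at h2
  refine CommutingPElt.no_commuting (p := p) (r := r) hrp (by omega) (E Bm)
    (E (u : Matrix (Fin n ⊕ Fin n) (Fin n ⊕ Fin n) F)) ?_ ?_ (fun h => ?_) ?_ (fun h => ?_) ?_ e he0 hej ?_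
  · show (Matrix.reindex _ _ Bm).det = 1
    rw [Matrix.det_reindex_self, hdet]
  · rw [← map_pow, hBr, map_one]
  · have : B = 1 := Subtype.ext (E.injective (h.trans (map_one E).symm))
    rw [this, orderOf_one] at hB
    exact hr.one_lt.ne hB
  · rw [← map_pow, ← SubmonoidClass.coe_pow, ← hu, pow_orderOf_eq_one]; exact map_one E
  · have : u = 1 := Subtype.ext (E.injective (h.trans (map_one E).symm))
    rw [this, orderOf_one] at hu
    exact hp.one_lt.ne hu
  · exact ((show Commute Bm (u : Matrix (Fin n ⊕ Fin n) (Fin n ⊕ Fin n) F) from congrArg Subtype.val hc.eq).map E)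
  · intro x hx0 hx
    set φ := algebraMap F (AlgebraicClosure F)
    have hdetE : ∀ y, (((E Bm).map φ) - Matrix.scalar (Fin (n + n)) y).det =
        ((Bm.map φ) - Matrix.scalar (Fin n ⊕ Fin n) y).det := fun y => by
      rw [← Matrix.det_reindex_self (finSumFinEquiv (m := n) (n := n)) ((Bm.map φ) - _)]
      congr 1
      ext i j
      simp [E, Matrix.diagonal_apply]
    rw [hdetE] at hx ⊢
    let σ : AlgebraicClosure F →+* AlgebraicClosure F := (FiniteField.frobeniusAlgHom F (AlgebraicClosure F)).toRingHom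
    have hσ : ∀ y, σ y = y ^ q := fun y => by simp [σ, hq]
    have hpow : ((Bm.map φ) - Matrix.scalar (Fin n ⊕ Fin n) (x ^ q)).det = 0 := by
      have h := congrArg σ hx
      rw [map_zero, RingHom.map_det, map_sub, RingHom.mapMatrix_apply, RingHom.mapMatrix_apply] at h
      convert h using 2
      · ext i j
        simp only [Matrix.sub_apply, Matrix.map_apply, Matrix.scalar_apply, Matrix.diagonal_apply]
        rw [hσ, ← map_pow, hq, FiniteField.pow_card]
        split_ifs with hij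
        · rw [hσ]
        · rw [map_zero]
    rcases he with rfl | rfl
    · rwa [zpow_natCast]
    · rw [_root_.zpow_neg, zpow_natCast]
      refine det_sub_inv ?_ (pow_ne_zero _ hx0) hpow
      have h := congrArg φ.mapMatrix hBJ
      have hJ : φ.mapMatrix (J (Fin n) F) = J (Fin n) (AlgebraicClosure F) := by
        rw [RingHom.mapMatrix_apply, Matrix.J, Matrix.J, Matrix.fromBlocks_map]
        ext i j
        rcases i with i | i <;> rcases j with j | j <;>
          simp [Matrix.one_apply, apply_ite φ]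
      rw [map_mul, map_mul, hJ] at h
      simpa [Matrix.transpose_map] using h


/-- Adjacency of a prime and the characteristic in the prime graph of PSp(2n,q): let F be a finite field of characteristic p with q elements, n ≥ 2 with PSp(2n,F) simple, and let r ≠ p be an odd prime dividing the order of PSp(2n,F), with k the multiplicative order of q modulo r and η(k) = k for odd k, k/2 for even k. Then PSp(2n,F) has NO element of order r·p if and only if η(k) > n − 1. -/
theorem result {F : Type*} [Field F] [Fintype F] (p : ℕ) [Fact p.Prime] [CharP F p] (n : ℕ) (hn : 2 ≤ n) (hsmall : n = 2 → 3 ≤ Fintype.card F)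
    (r : ℕ) (hr : r.Prime) (hr2 : r ≠ 2) (hrp : r ≠ p) (hrG : r ∣ Nat.card (Cfsg.PSp n F))
    (k ηk : ℕ) (hk : k = orderOf ((Fintype.card F : ℕ) : ZMod r)) (hηk : (Odd k ∧ ηk = k) ∨ (Even k ∧ 2 * ηk = k)) :
    (r * p ∉ Set.range (orderOf : Cfsg.PSp n F → ℕ)) ↔ n - 1 < ηk := by
  classical
  have hp := (Fact.out : p.Prime)
  haveI : Fact r.Prime := ⟨hr⟩
  have hqr : (Fintype.card F : ZMod r) ≠ 0 := by
    rw [ne_eq, ZMod.natCast_eq_zero_iff]
    obtain ⟨j, hj⟩ := FiniteField.card F p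
    rw [hj.2]
    exact fun h => hrp ((Nat.prime_dvd_prime_iff_eq hr hp).1 (hr.dvd_of_dvd_pow h))
  have hk1 : 1 ≤ k := hk ▸ orderOf_pos_iff.2 (isOfFinOrder_iff_pow_eq_one.2
    ⟨r - 1, Nat.sub_pos_of_lt hr.one_lt, ZMod.pow_card_sub_one_eq_one hqr⟩)
  constructor
  · intro hno
    by_contra hcon
    push Not at hcon
    apply hno
    have hη : 1 ≤ ηk ∧ k ∣ 2 * ηk := by
      rcases hηk with ⟨-, rfl⟩ | ⟨-, h⟩
      · exact ⟨hk1, dvd_mul_left _ _⟩
      · exact ⟨by omega, h ▸ dvd_rfl⟩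
    have hdvd : r ∣ Nat.card ↥(Matrix.symplecticGroup (Fin (n - 1)) F) := by
      rw [Cfsg.Agent.S0245.result rfl]
      refine Dvd.dvd.mul_left (Dvd.dvd.trans ?_ (Finset.dvd_prod_of_mem _ (Finset.mem_range.2
        (show ηk - 1 < n - 1 by omega)))) _
      rw [Nat.sub_add_cancel hη.1, ← ZMod.natCast_eq_zero_iff, Nat.cast_sub (Nat.one_le_pow _ _ Fintype.card_pos),
        Nat.cast_pow, Nat.cast_one, sub_eq_zero, ← orderOf_dvd_iff_pow_eq_one, ← hk]
      exact hη.2
    obtain ⟨Y, hY⟩ := exists_prime_orderOf_dvd_card' r hdvd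
    set e : Fin 1 ⊕ Fin (n - 1) ≃ Fin n := finSumFinEquiv.trans (finCongr (show 1 + (n - 1) = n by omega))
    set T : Matrix (Fin 1 ⊕ Fin 1) (Fin 1 ⊕ Fin 1) F := Matrix.fromBlocks 1 1 0 1 with hT
    have hTs : T ∈ Matrix.symplecticGroup (Fin 1) F := by
      rw [SymplecticGroup.mem_iff, hT, J, fromBlocks_transpose, fromBlocks_multiply, fromBlocks_multiply]
      simp
    have hTp : ∀ j : ℕ, T ^ j = Matrix.fromBlocks 1 (j : Matrix (Fin 1) (Fin 1) F) 0 1 := by
      intro j
      induction j with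
      | zero => simp [fromBlocks_one]
      | succ j ih => rw [pow_succ, ih, hT, fromBlocks_multiply]; simp [add_comm]
    have hmem : AbsorbPSp.bsum e T (Y : Matrix (Fin (n - 1) ⊕ Fin (n - 1)) (Fin (n - 1) ⊕ Fin (n - 1)) F) ∈
        Matrix.symplecticGroup (Fin n) F := by
      rw [AbsorbPSp.mem_iff_st, AbsorbPSp.bsum_st, AbsorbPSp.bsum_mul, AbsorbPSp.mem_iff_st.1 hTs,
        AbsorbPSp.st_mul_self, AbsorbPSp.bsum_one]
    set x : ↥(Matrix.symplecticGroup (Fin n) F) := ⟨_, hmem⟩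
    have hx : ∀ j : ℕ, AbsorbPSp.cls x ^ j = 1 ↔ r * p ∣ j := by
      intro j
      rw [AbsorbPSp.cls_pow_eq_one_iff, AbsorbPSp.bsum_pow]
      constructor
      · intro h
        have key : ((T ^ j) = 1 ∧ (Y : Matrix (Fin (n - 1) ⊕ Fin (n - 1)) (Fin (n - 1) ⊕ Fin (n - 1)) F) ^ j = 1) := by
          rcases h with h | h
          · exact AbsorbPSp.bsum_inj e (h.trans (AbsorbPSp.bsum_one e).symm)
          · have h' := AbsorbPSp.bsum_inj e (h.trans (by rw [AbsorbPSp.bsum_neg, AbsorbPSp.bsum_one] :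
              (-1 : Matrix (Fin n ⊕ Fin n) (Fin n ⊕ Fin n) F) = AbsorbPSp.bsum e (-1) (-1)))
            have h00 := congrFun (congrFun h'.1 (Sum.inl 0)) (Sum.inl 0)
            rw [hTp] at h00
            simp at h00
            have hm1 : ∀ {ι : Type} [Fintype ι] [DecidableEq ι], (-1 : Matrix ι ι F) = 1 := by
              intro ι _ _
              rw [← neg_one_smul F (1 : Matrix ι ι F), ← h00, one_smul]
            exact ⟨h'.1.trans hm1, h'.2.trans hm1⟩
        refine ((Nat.coprime_primes hr hp).2 hrp).mul_dvd_of_dvd_of_dvd ?_ ?_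
        · rw [← hY]
          exact orderOf_dvd_of_pow_eq_one (Subtype.ext (by rw [SubmonoidClass.coe_pow]; exact key.2))
        · have h01 := congrFun (congrFun key.1 (Sum.inl 0)) (Sum.inr 0)
          rw [hTp] at h01
          simp [Matrix.natCast_apply] at h01
          exact (CharP.cast_eq_zero_iff F p j).1 h01
      · rintro ⟨i, rfl⟩
        refine Or.inl ?_
        rw [hTp, show ((r * p * i : ℕ) : Matrix (Fin 1) (Fin 1) F) = 0 by
            rw [← map_natCast (algebraMap F (Matrix (Fin 1) (Fin 1) F)), Nat.cast_mul, Nat.cast_mul,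
              CharP.cast_eq_zero F p, mul_zero, zero_mul, map_zero],
          fromBlocks_one, mul_assoc, pow_mul, ← SubmonoidClass.coe_pow Y r, ← hY, pow_orderOf_eq_one,
          OneMemClass.coe_one, one_pow, AbsorbPSp.bsum_one]
    exact ⟨AbsorbPSp.cls x, Nat.dvd_antisymm (orderOf_dvd_of_pow_eq_one ((hx _).2 dvd_rfl))
      ((hx _).1 (pow_orderOf_eq_one _))⟩
  · rintro h ⟨g, hg⟩
    exact no_rp p hn hr hr2 hrp hk hηk h g hg

end Cfsg.Agent.S2472
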