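import Cfsg.Statements.S2474
import Cfsg.Agent.Lib.Linear.OrthSympGraph

set_option autoImplicit false
open Cfsg

namespace Cfsg.Agent.S2474

open Module
open Cfsg.Lib.Linear Cfsg.Lib.Linear.Orth
open scoped Matrix

variable {F : Type*} [Field F] [Fintype F]

theorem psp_extract (h2 : (2 : F) ≠ 0) {n x s : ℕ} (hx : x.Prime) (hs : s.Prime) (hso : Odd s)
    (h : x * s ∈ Set.range (orderOf : Cfsg.PSp n F → ℕ)) :
    ∃ A T : Module.End F (Fin n ⊕ Fin n → F), (∀ a b, Symp.spB n F (A a) (A b) = Symp.spB n F a b) ∧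
      (∀ a b, Symp.spB n F (T a) (T b) = Symp.spB n F a b) ∧ Commute T A ∧ orderOf A = s ∧ T ≠ 1 ∧ T ≠ -1 ∧
      (T ^ x = 1 ∨ T ^ x = -1) := by
  classical
  obtain ⟨y, hy⟩ := h
  obtain ⟨g, rfl⟩ := QuotientGroup.mk_surjective y
  let ρ : Matrix (Fin n ⊕ Fin n) (Fin n ⊕ Fin n) F ≃ₐ[F] Module.End F (Fin n ⊕ Fin n → F) := Matrix.toLinAlgEquiv'
  have hiso : ∀ g : ↥(Matrix.symplecticGroup (Fin n) F), ∀ a b,
      Symp.spB n F (ρ g.1 a) (ρ g.1 b) = Symp.spB n F a b := fun g a b => by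
    show Symp.spB n F (g.1 *ᵥ a) (g.1 *ᵥ b) = _
    exact (Symp.mem_symplecticGroup_iff _).1 g.2 a b
  have hpow := (AbsorbPSp.cls_pow_eq_one_iff g (x * s)).1 (hy ▸ pow_orderOf_eq_one _)
  have hne : ∀ j, 0 < j → j < x * s → ((g : Matrix (Fin n ⊕ Fin n) (Fin n ⊕ Fin n) F) ^ j ≠ 1 ∧ (g : Matrix (Fin n ⊕ Fin n) (Fin n ⊕ Fin n) F) ^ j ≠ -1) := fun j h0 h1 =>
    ⟨fun h => absurd (Nat.le_of_dvd h0 (hy ▸ orderOf_dvd_of_pow_eq_one
        ((AbsorbPSp.cls_pow_eq_one_iff g j).2 (Or.inl h)))) (by omega),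
      fun h => absurd (Nat.le_of_dvd h0 (hy ▸ orderOf_dvd_of_pow_eq_one
        ((AbsorbPSp.cls_pow_eq_one_iff g j).2 (Or.inr h)))) (by omega)⟩
  have hT := hne s hs.pos (lt_mul_of_one_lt_left hs.pos hx.one_lt)
  refine ⟨ρ ((g ^ (x * (s + 1))).1), ρ ((g ^ s).1), hiso _, hiso _, ?_, ?_, ?_, ?_, ?_⟩
  · exact ((Commute.pow_pow_self g s (x * (s + 1))).map
      ((ρ : Matrix _ _ F →* Module.End F (Fin n ⊕ Fin n → F)).comp (Submonoid.subtype _)))
  · haveI : Fact s.Prime := ⟨hs⟩
    refine orderOf_eq_prime ?_ fun h => ?_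
    · rw [← map_pow, ← SubmonoidClass.coe_pow, ← pow_mul, show x * (s + 1) * s = x * s * (s + 1) by ring, pow_mul,
        SubmonoidClass.coe_pow, SubmonoidClass.coe_pow]
      rcases hpow with h | h <;> rw [h]
      · rw [one_pow, map_one]
      · rw [show (-1 : Matrix (Fin n ⊕ Fin n) (Fin n ⊕ Fin n) F) ^ (s + 1) = 1 from
          (Odd.add_odd hso odd_one).neg_one_pow, map_one]
    · have h1 : ((g : Matrix (Fin n ⊕ Fin n) (Fin n ⊕ Fin n) F)) ^ (x * (s + 1)) = 1 := by
        rw [← SubmonoidClass.coe_pow]; exact ρ.injective (h.trans (map_one ρ).symm)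
      have hcls := orderOf_dvd_of_pow_eq_one ((AbsorbPSp.cls_pow_eq_one_iff g _).2 (Or.inl h1))
      rw [hy] at hcls
      have := (Nat.mul_dvd_mul_iff_left hx.pos).1 hcls
      exact hs.not_dvd_one ((Nat.dvd_add_right dvd_rfl).1 this)
  · intro h
    exact hT.1 (by rw [← SubmonoidClass.coe_pow]; exact ρ.injective (h.trans (map_one ρ).symm))
  · intro h
    exact hT.2 (by rw [← SubmonoidClass.coe_pow]; exact ρ.injective (h.trans (by rw [map_neg, map_one])))
  · rw [← map_pow, ← SubmonoidClass.coe_pow, ← pow_mul, mul_comm s x, SubmonoidClass.coe_pow]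
    rcases hpow with h | h <;> rw [h]
    · exact Or.inl (map_one ρ)
    · exact Or.inr (by rw [map_neg, map_one])

theorem omega_extract (h2 : (2 : F) ≠ 0) {n x s : ℕ} (hn : 3 ≤ n) (hx : x.Prime) (hs : s.Prime)
    (h : x * s ∈ Set.range (orderOf : Cfsg.POmega F (Cfsg.quadFormOdd n F) → ℕ)) :
    ∃ A T : ↥(Cfsg.Omega F (Cfsg.quadFormOdd n F)), Commute T A ∧ orderOf A = s ∧ orderOf T = x := by
  obtain ⟨B, C⟩ := SympGraph.space_odd (F := F) h2 n
  obtain ⟨y, hy⟩ := h
  obtain ⟨g, rfl⟩ := QuotientGroup.mk_surjective y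
  have hinj : Function.Injective
      (QuotientGroup.mk' (Subgroup.center ↥(Cfsg.Omega F (Cfsg.quadFormOdd n F)))) := by
    rw [← MonoidHom.ker_eq_bot_iff, QuotientGroup.ker_mk']
    exact SympGraph.center_bot C h2 (by rw [card_odd_index]; omega) (by rw [card_odd_index]; exact ⟨n, rfl⟩)
  have hg : orderOf g = x * s := (orderOf_injective _ hinj g).symm.trans hy
  refine ⟨g ^ x, g ^ s, Commute.pow_pow_self g s x, ?_, ?_⟩
  · rw [orderOf_pow_of_dvd hx.ne_zero (hg ▸ dvd_mul_right x s), hg, Nat.mul_div_cancel_left _ hx.pos]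
  · rw [orderOf_pow_of_dvd hs.ne_zero (hg ▸ dvd_mul_left s x), hg, Nat.mul_div_cancel _ hs.pos]

theorem both_two_p (p : ℕ) [Fact p.Prime] [CharP F p] (h2 : (2 : F) ≠ 0) {n : ℕ} (hn : 3 ≤ n) :
    2 * p ∈ Set.range (orderOf : Cfsg.POmega F (Cfsg.quadFormOdd n F) → ℕ) ∧
      2 * p ∈ Set.range (orderOf : Cfsg.PSp n F → ℕ) := by
  classical
  have hp := (Fact.out : p.Prime)
  have hpo : Odd p := hp.odd_of_ne_two fun h => h2 (by
    have := CharP.cast_eq_zero F p
    rwa [h, Nat.cast_ofNat] at this)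
  constructor
  · obtain ⟨B₀, C₀⟩ := SympGraph.space_odd (F := F) h2 1
    let B₁ : LinearMap.BilinForm F (Fin (2 * n - 2) → F) := Matrix.toBilin' 1
    have hB₁ : ∀ x y, B₁ x y = x ⬝ᵥ y := fun x y => by simp [B₁, Matrix.toBilin'_apply']
    obtain ⟨S, hSB, hSp, hS1⟩ := SympGraph.exists_unipotent p h2 C₀ le_rfl
    obtain ⟨a, c, hab, hcb, had, hcd, hac, ha1, hc1, hca, ha2, hc2⟩ :=
      SympGraph.exists_signs h2 B₁ hB₁ (show 3 ≤ 2 * n - 2 by omega)
    have hoS : orderOf S = p := orderOf_eq_prime hSp hS1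
    have h := (SympGraph.omega_order h2 (SympGraph.sumForm B₀ B₁)
      (fun x y => by rw [SympGraph.sumForm_apply, SympGraph.sumForm_apply, C₀.symm, hB₁, hB₁, dotProduct_comm])
      (SympGraph.sumForm_nondeg (fun a h => C₀.nondeg' h)
        (fun a h => funext fun i => by simpa [hB₁] using h (Pi.single i 1))) hn
      (by rw [Module.finrank_prod, finrank_fintype_fun_eq_card, finrank_fintype_fun_eq_card, card_odd_index,
            Fintype.card_fin]; omega)
      (A := SympGraph.pair (S, 1)) (SympGraph.sumForm_iso hSB fun _ _ => rfl)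
      (by rw [SympGraph.orderOf_pair_one, hoS]; exact hpo)).2 (SympGraph.pair (1, a)) (SympGraph.pair (1, c))
      (SympGraph.sumForm_iso (fun _ _ => rfl) hab) (SympGraph.sumForm_iso (fun _ _ => rfl) hcb)
      (by rw [SympGraph.pair_apply, LinearMap.det_prodMap, map_one, one_mul, had])
      (by rw [SympGraph.pair_apply, LinearMap.det_prodMap, map_one, one_mul, hcd])
      (SympGraph.pair_commute (Commute.one_right _) (Commute.one_left _))
      (SympGraph.pair_commute (Commute.one_right _) (Commute.one_left _))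
      (SympGraph.pair_commute (Commute.refl _) hac)
      (fun h => ha1 (congrArg Prod.snd (SympGraph.pair_injective (h.trans (map_one SympGraph.pair).symm))))
      (fun h => hc1 (congrArg Prod.snd (SympGraph.pair_injective (h.trans (map_one SympGraph.pair).symm))))
      (fun h => hca (congrArg Prod.snd (SympGraph.pair_injective h)))
      (by rw [← map_pow, Prod.pow_mk, one_pow, ha2]; exact map_one SympGraph.pair)
      (Or.inl (by rw [← map_pow, Prod.pow_mk, one_pow, hc2]; exact map_one SympGraph.pair))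
    rwa [SympGraph.orderOf_pair_one, hoS] at h
  · set e₀ : Fin 1 ⊕ Fin 1 → F := Pi.single (Sum.inl 0) 1
    let R : Module.End F (Fin 1 ⊕ Fin 1 → F) := 1 + (Symp.spB 1 F e₀).smulRight e₀
    have hRa : ∀ v, R v = v + Symp.spB 1 F e₀ v • e₀ := fun v => rfl
    have hee : Symp.spB 1 F e₀ e₀ = 0 := Symp.spB_isAlt 1 F e₀
    have hRpow : ∀ j : ℕ, ∀ v, (R ^ j) v = v + ((j : F) * Symp.spB 1 F e₀ v) • e₀ := by
      intro j
      induction j with
      | zero => intro v; simp
      | succ j ih =>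
        intro v
        rw [pow_succ', Module.End.mul_apply, ih, hRa, map_add, map_smul, hee, smul_zero, add_zero,
          Nat.cast_succ, add_mul, add_smul, one_mul, add_assoc]
    have hR1 : R ≠ 1 := fun h => by
      have h' := congrFun (LinearMap.congr_fun h (Pi.single (Sum.inr 0) 1)) (Sum.inl 0)
      rw [hRa, Symp.spB_apply, Cfsg.sympForm, Symp.J_mulVec] at h'
      simp [e₀, dotProduct, Pi.single_apply] at h'
    have hoR : orderOf R = p := orderOf_eq_prime (LinearMap.ext fun v => by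
      rw [hRpow, CharP.cast_eq_zero, zero_mul, zero_smul, add_zero]; rfl) hR1
    have hne : (-1 : Module.End F (Fin (n - 1) ⊕ Fin (n - 1) → F)) ≠ 1 := fun h => h2 (by
      have h' := congrFun (LinearMap.congr_fun h (Pi.single (Sum.inl ⟨0, by omega⟩) 1)) (Sum.inl ⟨0, by omega⟩)
      simp at h'
      linear_combination -h')
    have hne' : (1 : Module.End F (Fin 1 ⊕ Fin 1 → F)) ≠ -1 := fun h => h2 (by
      have h' := congrFun (LinearMap.congr_fun h (Pi.single (Sum.inl 0) 1)) (Sum.inl 0)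
      simp at h'
      linear_combination h')
    refine OrthSympTransfer.psp_mem h2 (SympGraph.sumForm (Symp.spB 1 F) (Symp.spB (n - 1) F))
      (SympGraph.sumForm_alt (Symp.spB_isAlt 1 F) (Symp.spB_isAlt (n - 1) F))
      (SympGraph.sumForm_nondeg (Symp.spB_nondegenerate 1 F).1 (Symp.spB_nondegenerate (n - 1) F).1)
      (by rw [Module.finrank_prod, Symp.finrank_space, Symp.finrank_space]; omega)
      (A := SympGraph.pair (R, 1)) (SympGraph.sumForm_iso (fun a c => ?_) fun _ _ => rfl) hpo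
      (by rw [SympGraph.orderOf_pair_one, hoR]) (T := SympGraph.pair (1, -1))
      (SympGraph.sumForm_iso (fun _ _ => rfl) fun a c => by simp)
      (SympGraph.pair_commute (Commute.one_right _) (Commute.one_left _)) Nat.prime_two (Or.inl ?_) (fun h => ?_)
      (fun h => ?_) (Nat.coprime_two_left.2 hpo)
    · simp only [hRa, map_add, map_smul, LinearMap.add_apply, LinearMap.smul_apply, smul_eq_mul, hee,
        ← LinearMap.IsAlt.neg (Symp.spB_isAlt 1 F) a e₀]
      ring
    · rw [← map_pow, Prod.pow_mk, one_pow,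
        show (-1 : Module.End F (Fin (n - 1) ⊕ Fin (n - 1) → F)) ^ 2 = 1 from LinearMap.ext fun a => by simp [sq]]
      exact map_one SympGraph.pair
    · exact hne (congrArg Prod.snd (SympGraph.pair_injective (h.trans (map_one SympGraph.pair).symm)))
    · exact hne' (LinearMap.ext fun a => congrArg Prod.fst (LinearMap.congr_fun h (a, 0)))

theorem adjacent (p : ℕ) [Fact p.Prime] [CharP F p] (h2 : (2 : F) ≠ 0) {n : ℕ} (hn : 3 ≤ n) {x s : ℕ}
    (hx : x.Prime) (hs : s.Prime) (hxs : x ≠ s) (hso : Odd s) (hsp : s = p → x = 2) :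
    x * s ∈ Set.range (orderOf : Cfsg.POmega F (Cfsg.quadFormOdd n F) → ℕ) ↔
      x * s ∈ Set.range (orderOf : Cfsg.PSp n F → ℕ) := by
  classical
  by_cases hsp' : s = p
  · subst hsp'
    rw [hsp rfl]
    exact iff_of_true (both_two_p s h2 hn).1 (both_two_p s h2 hn).2
  have hp := (Fact.out : p.Prime)
  have hcast : ∀ {r : ℕ}, r.Prime → r ≠ p → (r : F) ≠ 0 := fun {r} hr hrp h =>
    hrp ((Nat.prime_dvd_prime_iff_eq hp hr).1 ((CharP.cast_eq_zero_iff F p r).1 h)).symm
  have hsF := hcast hs hsp'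
  have hcop : Nat.Coprime x s := (Nat.coprime_primes hx hs).2 hxs
  obtain ⟨B, C⟩ := SympGraph.space_odd (F := F) h2 n
  constructor
  · intro h
    obtain ⟨A, T, hc, hA, hT⟩ := omega_extract h2 hn hx hs h
    have hTx : T ^ x = 1 := hT ▸ pow_orderOf_eq_one T
    have hT1 : T ≠ 1 := fun h => hx.one_lt.ne' (by rw [← hT, h, orderOf_one])
    have hmain := SympGraph.omega_to_sp p C h2 hn (card_odd_index n)
    by_cases hxp : x = p
    · subst hxp
      have := ((hmain A (hA ▸ hso) (hA ▸ hsF)).2 T hc hT1 (hA ▸ hs.one_lt)).1 hTx (hA ▸ hcop)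
      rwa [hA] at this
    rcases hx.eq_two_or_odd' with hx2 | hxo
    · subst hx2
      have := ((hmain A (hA ▸ hso) (hA ▸ hsF)).2 T hc hT1 (hA ▸ hs.one_lt)).2 hTx (hA ▸ hs)
      rwa [hA] at this
    · have hord : orderOf (T * A) = x * s := by
        rw [hc.orderOf_mul_eq_mul_orderOf_of_coprime (by rwa [hT, hA]), hT, hA]
      have := (hmain (T * A) (hord ▸ hxo.mul hso)
        (by rw [hord, Nat.cast_mul]; exact mul_ne_zero (hcast hx hxp) hsF)).1
      rwa [hord] at this
  · intro h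
    obtain ⟨A, T, hAB, hTB, hc, hA, hT1, hT2, hTx⟩ := psp_extract h2 hx hs hso h
    have hmain := fun (A : Module.End F (Fin n ⊕ Fin n → F))
        (hAB : ∀ a b, Symp.spB n F (A a) (A b) = Symp.spB n F a b) =>
      SympGraph.sp_to_omega p h2 hn (Symp.spB n F) (Symp.spB_isAlt n F) (Symp.spB_nondegenerate n F).1
        Symp.finrank_space (A := A) hAB
    -- the sign of `T` may be changed when `x` is odd
    have hneg : ∀ S : Module.End F (Fin n ⊕ Fin n → F), ∀ j : ℕ, Odd j → (-S) ^ j = -S ^ j := fun S j hj => hj.neg_pow S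
    obtain ⟨T', hT'B, hT'c, hT'1, hT'2, hT'x⟩ : ∃ T' : Module.End F (Fin n ⊕ Fin n → F),
        (∀ a b, Symp.spB n F (T' a) (T' b) = Symp.spB n F a b) ∧ Commute T' A ∧ T' ≠ 1 ∧ T' ≠ -1 ∧
        (Odd x → T' ^ x = 1) ∧ (T' ^ x = 1 ∨ T' ^ x = -1) := by
      rcases hTx with h | h
      · exact ⟨T, hTB, hc, hT1, hT2, fun _ => h, Or.inl h⟩
      · rcases hx.eq_two_or_odd' with hx2 | hxo
        · exact ⟨T, hTB, hc, hT1, hT2, fun hodd => absurd (hx2 ▸ hodd) (by decide), Or.inr h⟩
        · have h' : (-T) ^ x = 1 := by rw [hneg T x hxo, h, neg_neg]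
          exact ⟨-T, fun a b => by simp [hTB], hc.neg_left, fun e => hT2 (by rw [← e, neg_neg]),
            fun e => hT1 (neg_injective e), fun _ => h', Or.inl h'⟩
    by_cases hxp : x = p
    · subst hxp
      have := (((hmain A hAB) (hA ▸ hso) (hA ▸ hsF)).2 T' hT'B hT'c hT'1 hT'2).1
        (hT'x.1 (hp.odd_of_ne_two fun h => h2 (by
          have := CharP.cast_eq_zero F x
          rwa [h, Nat.cast_ofNat] at this))) (hA ▸ hcop)
      rwa [hA] at this
    rcases hx.eq_two_or_odd' with hx2 | hxo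
    · subst hx2
      have hA1 : A ≠ 1 := fun h => hs.one_lt.ne' (by rw [← hA, h, orderOf_one])
      rcases hT'x.2 with h | h
      · have := (((hmain A hAB) (hA ▸ hso) (hA ▸ hsF)).2 T' hT'B hT'c hT'1 hT'2).2 (Or.inl h) hA1
        rwa [hA] at this
      · have := (((hmain A hAB) (hA ▸ hso) (hA ▸ hsF)).2 T' hT'B hT'c hT'1 hT'2).2 (Or.inr h) hA1
        rwa [hA] at this
    · haveI : Fact x.Prime := ⟨hx⟩
      have hoT : orderOf T' = x := orderOf_eq_prime (hT'x.1 hxo) hT'1
      have hord : orderOf (T' * A) = x * s := by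
        rw [hT'c.orderOf_mul_eq_mul_orderOf_of_coprime (by rwa [hoT, hA]), hoT, hA]
      have := (hmain (T' * A) (fun a b => by rw [Module.End.mul_apply, Module.End.mul_apply, hT'B, hAB])
        (hord ▸ hxo.mul hso) (by rw [hord, Nat.cast_mul]; exact mul_ne_zero (hcast hx hxp) hsF)).1
      rwa [hord] at this


/-- For q odd and n ≥ 3 the simple groups PΩ(2n+1,q) and PSp(2n,q) (which have the same order but different sets of element orders) have the same prime graph: for all distinct primes r, s, one of them has an element of order r·s if and only if the other does. -/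
theorem result {F : Type*} [Field F] [Fintype F] (hodd : Odd (Fintype.card F)) (n : ℕ) (hn : 3 ≤ n) (r s : ℕ) (hr : r.Prime) (hs : s.Prime) (hrs : r ≠ s) :
    (r * s ∈ Set.range (orderOf : Cfsg.POmega F (Cfsg.quadFormOdd n F) → ℕ)) ↔ (r * s ∈ Set.range (orderOf : Cfsg.PSp n F → ℕ)) := by
  classical
  haveI : Fact (Nat.Prime (ringChar F)) := ⟨CharP.char_is_prime F (ringChar F)⟩
  set p := ringChar F with hp
  have h2 : (2 : F) ≠ 0 := two_ne_zero_of_odd_card hodd
  rcases hs.eq_two_or_odd' with hs2 | hso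
  · have hro : Odd r := hr.odd_of_ne_two (fun h => hrs (h.trans hs2.symm))
    rw [mul_comm r s]
    exact adjacent p h2 hn hs hr hrs.symm hro fun _ => hs2
  rcases hr.eq_two_or_odd' with hr2 | hro
  · exact adjacent p h2 hn hr hs hrs hso fun _ => hr2
  by_cases hsp : s = p
  · rw [mul_comm r s]
    exact adjacent p h2 hn hs hr hrs.symm hro fun h => absurd (h.trans hsp.symm) hrs
  · exact adjacent p h2 hn hr hs hrs hso fun h => absurd h hsp

end Cfsg.Agent.S2474
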