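import Cfsg.Statements.S2477
import Cfsg.Agent.Lib.Concrete.AltOrders

set_option autoImplicit false
open Cfsg Cfsg.Lib.Concrete

namespace Cfsg.Agent.S2477

def step (T : List (ℕ × ℕ × ℕ)) : List (ℕ × ℕ × ℕ) :=
  ((T.flatMap fun (t : ℕ × ℕ × ℕ) => (List.range 9).filterMap fun i =>
    if t.1 + (i + 2) ≤ 10 then some (t.1 + (i + 2), Nat.lcm (i + 2) t.2.1, (t.2.2 + i + 3) % 2) else none) ++ T).dedup

def states : List (ℕ × ℕ × ℕ) := step (step (step (step (step [(0, 1, 0)]))))

theorem states_closed : states.all (fun t => (List.range 9).all fun i =>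
    decide (t.1 + (i + 2) ≤ 10 → (t.1 + (i + 2), Nat.lcm (i + 2) t.2.1, (t.2.2 + i + 3) % 2) ∈ states)) = true := by
  decide +kernel

theorem mem_states : ∀ m : Multiset ℕ, m.sum ≤ 10 → (∀ a ∈ m, 2 ≤ a) →
    (m.sum, m.lcm, (m.sum + m.card) % 2) ∈ states := by
  intro m
  induction m using Multiset.induction_on with
  | empty => intro _ _; simp; decide +kernel
  | cons a m ih =>
    intro hs h2
    rw [Multiset.sum_cons] at hs
    have h1 := ih (by omega) fun b hb => h2 b (Multiset.mem_cons_of_mem hb)
    have ha := h2 a (Multiset.mem_cons_self _ _)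
    have h3 := List.all_eq_true.1 (List.all_eq_true.1 states_closed _ h1) (a - 2) (List.mem_range.2 (by omega))
    rw [decide_eq_true_eq, show a - 2 + 2 = a by omega] at h3
    have h4 := h3 (by simp only; omega)
    rw [Multiset.sum_cons, Multiset.lcm_cons, Multiset.card_cons, lcm_eq_nat_lcm]
    convert h4 using 2
    · simp only; omega
    · congr 1; simp only; omega

theorem states_orders : states.all (fun t => t.2.2 == 1 || decide (t.2.1 ∈ [1, 2, 3, 4, 5, 6, 7, 8, 9, 10, 12, 15, 21])) = true := by
  decide +kernel

/-- The set of element orders of the alternating group of degree 10 is {1, 2, 3, 4, 5, 6, 7, 8, 9, 10, 12, 15, 21}. -/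
theorem result : Set.range (orderOf : alternatingGroup (Fin 10) → ℕ) = {1, 2, 3, 4, 5, 6, 7, 8, 9, 10, 12, 15, 21} := by
  ext k
  constructor
  · intro h
    obtain ⟨m, hsum, h2, hev, rfl⟩ := alt_cycleType_data h
    have h1 := List.all_eq_true.1 states_orders _ (mem_states m hsum h2)
    rw [Nat.even_iff.1 hev] at h1
    simpa using h1
  · intro h
    simp only [Set.mem_insert_iff, Set.mem_singleton_iff] at h
    rcases h with rfl | rfl | rfl | rfl | rfl | rfl | rfl | rfl | rfl | rfl | rfl | rfl | rfl
    · exact ⟨1, orderOf_one⟩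
    · exact exists_alt_orderOf (n := 10) {2, 2} (by decide) (by decide) (by decide)
    · exact exists_alt_orderOf (n := 10) {3} (by decide) (by decide) (by decide)
    · exact exists_alt_orderOf (n := 10) {4, 2} (by decide) (by decide) (by decide)
    · exact exists_alt_orderOf (n := 10) {5} (by decide) (by decide) (by decide)
    · exact exists_alt_orderOf (n := 10) {3, 2, 2} (by decide) (by decide) (by decide)
    · exact exists_alt_orderOf (n := 10) {7} (by decide) (by decide) (by decide)
    · exact exists_alt_orderOf (n := 10) {8, 2} (by decide) (by decide) (by decide)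
    · exact exists_alt_orderOf (n := 10) {9} (by decide) (by decide) (by decide)
    · exact exists_alt_orderOf (n := 10) {5, 2, 2} (by decide) (by decide) (by decide)
    · exact exists_alt_orderOf (n := 10) {4, 6} (by decide) (by decide) (by decide)
    · exact exists_alt_orderOf (n := 10) {3, 5} (by decide) (by decide) (by decide)
    · exact exists_alt_orderOf (n := 10) {3, 7} (by decide) (by decide) (by decide)

end Cfsg.Agent.S2477
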