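import Cfsg.Statements.S2478
import Cfsg.Agent.Lib.Linear.ClassNumberGL
import Cfsg.Agent.S2387
-- import your own Cfsg.Agent.* helpers here

set_option autoImplicit false
open Cfsg

namespace Cfsg.Agent.S2478

/-- The number of conjugacy classes of GL(n,q): for F a finite field with q elements and n ≥ 1, the number k of conjugacy classes of GL(n,F) satisfies q^n − q^(n−1) ≤ k ≤ q^n. -/
theorem result {F : Type*} [Field F] [Fintype F] (n : ℕ) (hn : 1 ≤ n) :
    Fintype.card F ^ n - Fintype.card F ^ (n - 1) ≤ Nat.card (ConjClasses (Matrix.GeneralLinearGroup (Fin n) F)) ∧ Nat.card (ConjClasses (Matrix.GeneralLinearGroup (Fin n) F)) ≤ Fintype.card F ^ n := by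
  obtain ⟨p, hc⟩ := CharP.exists F
  haveI : Fact p.Prime := ⟨CharP.char_is_prime F p⟩
  refine ⟨?_, Cfsg.Lib.Linear.ClassNumberGL.card_classes_le hn⟩
  obtain ⟨m, rfl⟩ : ∃ m, n = m + 1 := ⟨n - 1, by omega⟩
  have h := Nat.card_le_card_of_injective (α := {c : ConjClasses (GL (Fin (m + 1)) F) //
    ∃ g : GL (Fin (m + 1)) F, ConjClasses.mk g = c ∧ (orderOf g).Coprime p}) _ Subtype.val_injective
  rw [Cfsg.Agent.S2387.result rfl p (m + 1) hn, Nat.add_sub_cancel, Nat.sub_one_mul, ← pow_succ'] at h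
  rwa [Nat.add_sub_cancel]

end Cfsg.Agent.S2478
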