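import Cfsg.Statements.S2479
import Cfsg.Agent.Lib.Linear.ClassNumberSL
-- import your own Cfsg.Agent.* helpers here

set_option autoImplicit false
open Cfsg

namespace Cfsg.Agent.S2479

open Polynomial Cfsg.Lib

universe u

theorem lower {F : Type u} [Field F] [Fintype F] (n : ℕ) (hn : 2 ≤ n) :
    Fintype.card F ^ (n - 1) < Nat.card (ConjClasses (Matrix.SpecialLinearGroup (Fin n) F)) := by
  classical
  obtain ⟨m, rfl⟩ : ∃ m, n = m + 1 := ⟨n - 1, by omega⟩
  let P := {g : F[X] // g.Monic ∧ g.natDegree = m + 1 ∧ g.coeff 0 ∈ ({(-1) ^ (m + 1)} : Set F)}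
  have hP : Nat.card P = Fintype.card F ^ m := by
    show Nat.card {g : F[X] // g.Monic ∧ g.natDegree = m + 1 ∧ g.coeff 0 ∈ ({(-1) ^ (m + 1)} : Set F)} = _
    rw [Cfsg.Agent.Lib.Linear.SemisimpleClasses.card_monic_coeff_zero, Nat.card_unique, one_mul]
  rw [Nat.add_sub_cancel, ← hP]
  have hc : ∀ g : Matrix.SpecialLinearGroup (Fin (m + 1)) F,
      g.1.charpoly.Monic ∧ g.1.charpoly.natDegree = m + 1 ∧ g.1.charpoly.coeff 0 ∈ ({(-1) ^ (m + 1)} : Set F) := by
    intro g
    refine ⟨Matrix.charpoly_monic _, by rw [Matrix.charpoly_natDegree_eq_dim, Fintype.card_fin], ?_⟩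
    have h := g.2
    rw [Matrix.det_eq_sign_charpoly_coeff, Fintype.card_fin] at h
    rw [Set.mem_singleton_iff]
    have h2 := congrArg (fun x => (-1 : F) ^ (m + 1) * x) h
    simp only [← mul_assoc, ← mul_pow, neg_one_mul, neg_neg, one_pow, one_mul, mul_one] at h2
    exact h2
  let ψ : ConjClasses (Matrix.SpecialLinearGroup (Fin (m + 1)) F) → P := fun C => ⟨C.out.1.charpoly, hc C.out⟩
  have hψ : ∀ g, (ψ (ConjClasses.mk g)).1 = g.1.charpoly := fun g => by
    refine Cfsg.Agent.Lib.Linear.SemisimpleClasses.charpoly_eq_of_isConj ?_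
    have h : IsConj (ConjClasses.mk g).out g := ConjClasses.mk_eq_mk_iff_isConj.1 (Quotient.out_eq _)
    exact (Units.coeHom _).map_isConj (Matrix.SpecialLinearGroup.toGL.map_isConj h)
  have hsurj : Function.Surjective ψ := by
    intro f
    obtain ⟨A, hA⟩ := CanonicalForm.exists_matrix (n := m + 1) (fun _ : PUnit.{u + 1} => f.1) (fun _ => f.2.1)
      (by simp [f.2.2.1])
    have hch : A.charpoly = f.1 := by rw [hA.charpoly (fun _ => f.2.1)]; simp
    have hdet : A.det = 1 := by
      rw [Matrix.det_eq_sign_charpoly_coeff, hch, Fintype.card_fin, Set.mem_singleton_iff.1 f.2.2.2, ← mul_pow,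
        neg_one_mul, neg_neg, one_pow]
    exact ⟨ConjClasses.mk ⟨A, hdet⟩, Subtype.ext ((hψ _).trans hch)⟩
  haveI : Finite P := Finite.of_surjective ψ hsurj
  refine lt_of_le_of_ne (Nat.card_le_card_of_surjective ψ hsurj) fun heq => ?_
  have hinj : Function.Injective ψ := (hsurj.bijective_of_nat_card_le heq.ge).1
  have h01 : (0 : Fin (m + 1)) ≠ 1 := by
    intro h
    have h2 : 1 % (m + 1) = 1 := Nat.mod_eq_of_lt (by omega)
    have := congrArg Fin.val h
    simp [h2] at this
  let T : Matrix.SpecialLinearGroup (Fin (m + 1)) F := Matrix.SpecialLinearGroup.transvection h01 (1 : F)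
  have hT : T.1.charpoly = (1 : Matrix.SpecialLinearGroup (Fin (m + 1)) F).1.charpoly := by
    have : Matrix.BlockTriangular T.1 id := fun i j (h : j < i) => by
      show (Matrix.transvection (0 : Fin (m + 1)) 1 (1 : F)) i j = 0
      rw [Matrix.transvection, Matrix.add_apply, Matrix.one_apply_ne (ne_of_gt h), Matrix.single_apply, if_neg,
        add_zero]
      rintro ⟨rfl, rfl⟩
      exact absurd h (not_lt.2 (Fin.zero_le _))
    rw [Matrix.charpoly_of_upperTriangular _ this, Matrix.SpecialLinearGroup.coe_one, Matrix.charpoly_one,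
      Fintype.card_fin]
    have hdiag : ∀ i, T.1 i i = 1 := fun i => by
      show (Matrix.transvection (0 : Fin (m + 1)) 1 (1 : F)) i i = 1
      rw [Matrix.transvection, Matrix.add_apply, Matrix.one_apply_eq, Matrix.single_apply, if_neg, add_zero]
      rintro ⟨rfl, h⟩
      exact h01 h.symm
    simp [hdiag]
  have := hinj (a₁ := ConjClasses.mk T) (a₂ := ConjClasses.mk 1) (Subtype.ext ((hψ T).trans (hT.trans (hψ 1).symm)))
  rw [ConjClasses.mk_eq_mk_iff_isConj, isConj_one_left] at this
  have h2 := congrFun (congrFun (congrArg Subtype.val this) 0) 1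
  rw [show T.1 = Matrix.transvection (0 : Fin (m + 1)) 1 (1 : F) from rfl] at h2
  simp [Matrix.transvection, Matrix.one_apply_ne h01] at h2


/-- The number of conjugacy classes of SL(n,q): for F a finite field with q elements, the number k of conjugacy classes of SL(n,F) satisfies q^(n−1) < k and k ≤ (5/2)·q^(n−1) for n ≥ 2, and k ≤ q^(n−1) + 3q^(n−2) for n ≥ 3. -/
theorem result {F : Type*} [Field F] [Fintype F] (n : ℕ) (hn : 2 ≤ n) :
    Fintype.card F ^ (n - 1) < Nat.card (ConjClasses (Matrix.SpecialLinearGroup (Fin n) F)) ∧ 2 * Nat.card (ConjClasses (Matrix.SpecialLinearGroup (Fin n) F)) ≤ 5 * Fintype.card F ^ (n - 1) ∧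
      (3 ≤ n → Nat.card (ConjClasses (Matrix.SpecialLinearGroup (Fin n) F)) ≤ Fintype.card F ^ (n - 1) + 3 * Fintype.card F ^ (n - 2)) := by
  refine ⟨lower n hn, ?_, fun h3 => ?_⟩
  · exact (Nat.mul_le_mul_left 2 Cfsg.Lib.Linear.ClassNumberSL.card_classes_le_weight).trans
      (Cfsg.Lib.Linear.ClassWeight.two_mul_weight_le n (by omega) _)
  · exact Cfsg.Lib.Linear.ClassNumberSL.card_classes_le_weight.trans (Cfsg.Lib.Linear.ClassWeight.weight_le n h3 _)

end Cfsg.Agent.S2479
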