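import Cfsg.Statements.S2480
import Cfsg.Agent.Lib.Linear.ClassNumberPSL
import Cfsg.Agent.S2479
-- import your own Cfsg.Agent.* helpers here

set_option autoImplicit false
open Cfsg

namespace Cfsg.Agent.S2480

open Cfsg.Lib.Linear Cfsg.Lib.Linear.ClassWeight

universe u

theorem fixed_total {F : Type u} [Field F] [Fintype F] (n : ℕ) (hn : 2 ≤ n)
    [Fintype (Subgroup.center (Matrix.SpecialLinearGroup (Fin n) F))]
    (z : Subgroup.center (Matrix.SpecialLinearGroup (Fin n) F)) (hz : z ≠ 1) :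
    ∃ m, 1 ≤ m ∧ m ∣ n ∧ 2 * m ≤ n ∧ ∃ s : Fˣ,
      Nat.card {C : ConjClasses (Matrix.SpecialLinearGroup (Fin n) F) // ConjClasses.mk (z.1 * C.out) = C} ≤
        weight (F := F) m s := by
  obtain ⟨r, hr, hrz⟩ := Matrix.SpecialLinearGroup.mem_center_iff.1 z.2
  rw [Fintype.card_fin] at hr
  have hr0 : r ≠ 0 := fun h => by rw [h, zero_pow (by omega)] at hr; exact zero_ne_one hr
  set c := Units.mk0 r hr0
  have hdvd : orderOf c ∣ n := orderOf_dvd_of_pow_eq_one (Units.ext hr)
  have he : 2 ≤ orderOf c := by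
    by_contra hlt
    have h1 : orderOf c = 1 := by
      have := orderOf_pos c
      omega
    refine hz (Subtype.ext (Subtype.ext ?_))
    rw [← hrz, show r = 1 from congrArg Units.val (orderOf_eq_one_iff.1 h1), map_one]
    rfl
  obtain ⟨m, hm⟩ := hdvd
  refine ⟨m, Nat.pos_of_ne_zero (by rintro rfl; omega), ⟨_, hm.trans (mul_comm _ _)⟩,
    (Nat.mul_le_mul_right m he).trans_eq hm.symm, (-1) ^ n, ?_⟩
  exact ClassNumberSL.card_fixed_le (c := c) hrz.symm hm

theorem bounds {F : Type u} [Field F] [Fintype F] (n : ℕ) (hn : 2 ≤ n) :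
    Fintype.card F ^ (n - 1) ≤ Nat.gcd n (Fintype.card F - 1) *
        Nat.card (ConjClasses (Matrix.ProjectiveSpecialLinearGroup (Fin n) F)) ∧
      Nat.gcd n (Fintype.card F - 1) * Nat.card (ConjClasses (Matrix.ProjectiveSpecialLinearGroup (Fin n) F)) ≤
        Fintype.card F ^ (n - 1) + 5 * Fintype.card F ^ (n - 2) := by
  classical
  haveI : Nonempty (Fin n) := ⟨⟨0, by omega⟩⟩
  haveI : Finite (Matrix.SpecialLinearGroup (Fin n) F) :=
    Finite.of_injective (fun g : Matrix.SpecialLinearGroup (Fin n) F => g.1) Subtype.val_injective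
  let : Fintype (Subgroup.center (Matrix.SpecialLinearGroup (Fin n) F)) := Fintype.ofFinite _
  set d := Nat.gcd n (Fintype.card F - 1) with hd
  have hZ : Nat.card (Subgroup.center (Matrix.SpecialLinearGroup (Fin n) F)) = d := by
    rw [Cfsg.Lib.Linear.card_center_SL, Fintype.card_fin]
  have hB := ClassNumberPSL.card_center_mul_classes (Matrix.SpecialLinearGroup (Fin n) F)
  rw [hZ] at hB
  have hone : Nat.card {C : ConjClasses (Matrix.SpecialLinearGroup (Fin n) F) //
      ConjClasses.mk ((1 : Subgroup.center (Matrix.SpecialLinearGroup (Fin n) F)).1 * C.out) = C} =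
      Nat.card (ConjClasses (Matrix.SpecialLinearGroup (Fin n) F)) :=
    Nat.card_congr (Equiv.subtypeUnivEquiv fun C => by rw [Subgroup.coe_one, one_mul]; exact Quotient.out_eq C)
  show _ ≤ d * Nat.card (ConjClasses (Matrix.SpecialLinearGroup (Fin n) F ⧸ Subgroup.center _)) ∧
    d * Nat.card (ConjClasses (Matrix.SpecialLinearGroup (Fin n) F ⧸ Subgroup.center _)) ≤ _
  rw [hB, ← Finset.add_sum_erase _ _ (Finset.mem_univ (1 : Subgroup.center (Matrix.SpecialLinearGroup (Fin n) F))),
    hone]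
  refine ⟨((S2479.lower n hn).le).trans (Nat.le_add_right _ _), ?_⟩
  have hk : Nat.card (ConjClasses (Matrix.SpecialLinearGroup (Fin n) F)) ≤ weight n ((-1 : Fˣ) ^ n) :=
    ClassNumberSL.card_classes_le_weight
  set Z' := (Finset.univ : Finset (Subgroup.center (Matrix.SpecialLinearGroup (Fin n) F))).erase 1
  have hcard : Z'.card = d - 1 := by
    rw [Finset.card_erase_of_mem (Finset.mem_univ _), Finset.card_univ, ← Nat.card_eq_fintype_card, hZ]
  set q := Fintype.card F with hq
  have hq2 : 2 ≤ q := two_le_card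
  have hdn : d ∣ n := Nat.gcd_dvd_left _ _
  have hdq : d ≤ q - 1 := Nat.le_of_dvd (by omega) (Nat.gcd_dvd_right _ _)
  have hdle : d ≤ n := Nat.le_of_dvd (by omega) hdn
  have hsum : ∀ b : ℕ, (∀ (m : ℕ) (s : Fˣ), 1 ≤ m → m ∣ n → 2 * m ≤ n → weight (F := F) m s ≤ b) →
      ∑ z ∈ Z', Nat.card {C : ConjClasses (Matrix.SpecialLinearGroup (Fin n) F) //
        ConjClasses.mk (z.1 * C.out) = C} ≤ (d - 1) * b := fun b hb => by
    rw [← hcard, ← smul_eq_mul]
    refine Finset.sum_le_card_nsmul _ _ _ fun z hz => ?_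
    obtain ⟨m, h1, h2, h3, s, h⟩ := fixed_total n hn z (Finset.mem_erase.1 hz).1
    exact h.trans (hb m s h1 h2 h3)
  rcases Nat.lt_or_ge n 5 with hlt | hge
  · interval_cases n
    · have h := hsum 1 (fun m s h1 _ h3 => by
        obtain rfl : m = 1 := by omega
        exact weight_one s)
      have := (weight_two (F := F) ((-1 : Fˣ) ^ 2)).1
      simp only [show 2 - 1 = 1 from rfl, show 2 - 2 = 0 from rfl, pow_one, pow_zero]
      omega
    · have h := hsum 1 (fun m s h1 _ h3 => by
        obtain rfl : m = 1 := by omega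
        exact weight_one s)
      have := weight_three (F := F) ((-1 : Fˣ) ^ 3)
      rw [← hq] at this
      simp only [show 3 - 1 = 2 from rfl, show 3 - 2 = 1 from rfl, pow_one] at this ⊢
      omega
    · have h := hsum (q + 4) (fun m s h1 _ h3 => by
        rcases (by omega : m = 1 ∨ m = 2) with rfl | rfl
        · exact (weight_one s).trans (by omega)
        · exact (weight_two s).1)
      have := weight_four (F := F) ((-1 : Fˣ) ^ 4)
      rw [← hq] at this
      have h4 : (d - 1) * (q + 4) ≤ 2 * q ^ 2 :=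
        calc (d - 1) * (q + 4) ≤ (q - 2) * (q + 4) := Nat.mul_le_mul_right _ (by omega)
          _ ≤ _ := by
            obtain ⟨b, hb⟩ : ∃ b, q = b + 2 := ⟨q - 2, by omega⟩
            rw [hb, Nat.add_sub_cancel]
            nlinarith
      simp only [show 4 - 1 = 3 from rfl, show 4 - 2 = 2 from rfl] at this ⊢
      omega
  · have h := hsum (5 * q ^ (n - 4) / 2) (fun m s h1 h2 h3 => by
      rw [Nat.le_div_iff_mul_le two_pos, mul_comm]
      exact (two_mul_weight_le m h1 s).trans (Nat.mul_le_mul_left 5 (Nat.pow_le_pow_right (by omega) (by omega))))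
    have := weight_le (F := F) n (by omega) ((-1 : Fˣ) ^ n)
    rw [← hq] at this
    have h5 : (d - 1) * (5 * q ^ (n - 4) / 2) ≤ 2 * q ^ (n - 2) := by
      obtain ⟨k, rfl⟩ : ∃ k, n = k + 4 := ⟨n - 4, by omega⟩
      rw [show k + 4 - 2 = k + 2 from rfl, Nat.add_sub_cancel, pow_add]
      have : 2 * (5 * q ^ k / 2) ≤ 5 * q ^ k := Nat.mul_div_le _ 2
      calc (d - 1) * (5 * q ^ k / 2) ≤ q * (5 * q ^ k / 2) := Nat.mul_le_mul_right _ (by omega)
        _ ≤ _ := by
          generalize 5 * q ^ k / 2 = X at this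
          have h7 := Nat.mul_le_mul_left q this
          have h8 := Nat.mul_le_mul_left (q * q ^ k) hq2
          nlinarith
    omega

/-- The number of conjugacy classes of PSL(n,q): for F a finite field with q elements, n ≥ 2 and d = gcd(n, q − 1), the number k of conjugacy classes of PSL(n,F) satisfies q^(n−1) ≤ d·k ≤ q^(n−1) + 5q^(n−2). -/
theorem result {F : Type*} [Field F] [Fintype F] (n : ℕ) (hn : 2 ≤ n) :
    Fintype.card F ^ (n - 1) ≤ Nat.gcd n (Fintype.card F - 1) * Nat.card (ConjClasses (Matrix.ProjectiveSpecialLinearGroup (Fin n) F)) ∧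
      Nat.gcd n (Fintype.card F - 1) * Nat.card (ConjClasses (Matrix.ProjectiveSpecialLinearGroup (Fin n) F)) ≤ Fintype.card F ^ (n - 1) + 5 * Fintype.card F ^ (n - 2) := by
  exact bounds n hn

end Cfsg.Agent.S2480
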