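import Cfsg.Statements.S2481
import Cfsg.Agent.Lib.Linear.ClassU.Bound
import Cfsg.Agent.Lib.Linear.ClassU.Fibre
import Cfsg.Agent.S2386

set_option autoImplicit false
open Cfsg

namespace Cfsg.Agent.S2481

/-- The number of conjugacy classes of SU(n,q): for n ≥ 2, q a prime power and F the field with q² elements, the number k of conjugacy classes of SU(n,q) (the determinant-one isometries of the standard Hermitian form on F^n) satisfies q^(n−1) ≤ k ≤ 8.26·q^(n−1). -/
theorem result {F : Type*} [Field F] [Fintype F] (n q : ℕ) (hn : 2 ≤ n) (hF : Fintype.card F = q ^ 2) :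
    q ^ (n - 1) ≤ Nat.card (ConjClasses (Cfsg.SU n F q)) ∧ 100 * Nat.card (ConjClasses (Cfsg.SU n F q)) ≤ 826 * q ^ (n - 1) := by
  classical
  obtain ⟨σ, hσ, hσσ, -⟩ := Cfsg.Lib.Linear.HermitianFactor.exists_involution hF
  have D : Cfsg.Lib.Linear.ClassU.UD σ q := ⟨hσσ, hσ, hF⟩
  refine ⟨?_, ?_⟩
  · obtain ⟨p, hp⟩ := CharP.exists F
    obtain ⟨N, hprime, -⟩ := FiniteField.card F p
    haveI := Fact.mk hprime
    rw [← Cfsg.Agent.S2386.result hF p n (by omega)]
    exact Nat.card_le_card_of_injective Subtype.val Subtype.val_injective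
  · exact (Nat.mul_le_mul_left _ (Cfsg.Lib.Linear.ClassU.card_classes_le_weightU D)).trans
      (Cfsg.Lib.Linear.ClassU.weightU_le D n hn _)

end Cfsg.Agent.S2481
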