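import Cfsg.Statements.S2482
import Cfsg.Agent.Lib.Linear.ClassSp.Fibre
import Cfsg.Agent.S2385

set_option autoImplicit false
open Cfsg

namespace Cfsg.Agent.S2482

/-- The number of conjugacy classes of Sp(2n,q), q odd: for F a finite field of odd order q and n ≥ 1, the number k of conjugacy classes of Sp(2n,F) satisfies q^n ≤ k ≤ 10.8·q^n. -/
theorem result {F : Type*} [Field F] [Fintype F] (hodd : Odd (Fintype.card F)) (n : ℕ) (hn : 1 ≤ n) :
    Fintype.card F ^ n ≤ Nat.card (ConjClasses (Matrix.symplecticGroup (Fin n) F)) ∧ 5 * Nat.card (ConjClasses (Matrix.symplecticGroup (Fin n) F)) ≤ 54 * Fintype.card F ^ n := by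
  classical
  obtain ⟨p, hchar⟩ := CharP.exists F
  obtain ⟨k, hp, hk⟩ := FiniteField.card F p
  haveI : Fact p.Prime := ⟨hp⟩
  have hne : ringChar F ≠ 2 := fun h => by
    have h0 := FiniteField.even_card_iff_char_two.1 h
    exact (Nat.not_even_iff_odd.2 hodd) (Nat.even_iff.2 h0)
  have h2 : (2 : F) ≠ 0 := Ring.two_ne_zero hne
  haveI : Finite ↥(Matrix.symplecticGroup (Fin n) F) := inferInstance
  refine ⟨?_, ?_⟩
  · rw [← Cfsg.Agent.S2385.result rfl p n]
    exact Nat.card_le_card_of_injective _ Subtype.val_injective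
  · have h3 : 3 ≤ Fintype.card F := by
      have := Fintype.one_lt_card (α := F)
      have := Nat.odd_iff.1 hodd
      omega
    exact (Nat.mul_le_mul_left 5 (Cfsg.Lib.Linear.ClassSp.card_classes_le rfl h2)).trans
      (Cfsg.Lib.Linear.ClassSp.NS_le h3 _ _)

end Cfsg.Agent.S2482
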