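import Cfsg.Statements.S2483
import Cfsg.Agent.Lib.Linear.PSLCover.Scalar
import Cfsg.Agent.Lib.Linear.PSLCover.Lower

set_option autoImplicit false
open Cfsg

namespace Cfsg.Agent.S2483

open Cfsg.Lib.Linear.PSLCover

theorem exists_lift {F : Type*} [Field F] {n : ℕ} {X G : Matrix.SpecialLinearGroup (Fin n) F}
    (h : SProd n X.1 G.1) :
    ∃ f : Fin n → Matrix.SpecialLinearGroup (Fin n) F, G = (List.ofFn fun i => f i * X * (f i)⁻¹).prod := by
  obtain ⟨l, hl, hx, hp⟩ := h
  choose P Q hPQ hdet he using fun i : Fin n => hx (l[(i : ℕ)]'(by omega)) (List.getElem_mem _)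
  let R : Fin n → Matrix.SpecialLinearGroup (Fin n) F := fun i => ⟨P i, hdet i⟩
  refine ⟨R, ?_⟩
  apply Subtype.ext
  let π : Matrix.SpecialLinearGroup (Fin n) F →* Matrix (Fin n) (Fin n) F := ⟨⟨Subtype.val, rfl⟩, fun _ _ => rfl⟩
  refine hp.symm.trans (Eq.trans ?_ (map_list_prod π _).symm)
  rw [List.map_ofFn]
  congr 1
  refine List.ext_getElem (by simp [hl]) fun i hi hi' => ?_
  rw [List.getElem_ofFn]
  have hin : i < n := hl ▸ hi
  have hQ : ((R ⟨i, hin⟩)⁻¹).1 = Q ⟨i, hin⟩ :=
    left_inv_eq_right_inv (congrArg Subtype.val (inv_mul_cancel (R ⟨i, hin⟩))) (hPQ ⟨i, hin⟩)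
  refine (he ⟨i, hin⟩).trans ?_
  rw [← hQ]
  rfl

/-- The covering number of PSL(n,q) is n: let F be a finite field with q ≥ 4 elements and n ≥ 3. For every non-identity element x of PSL(n,F), every element of PSL(n,F) is a product of n conjugates of x; and for some non-identity x, some element is not a product of n − 1 conjugates of x. -/
theorem result {F : Type*} [Field F] [Fintype F] (h4 : 4 ≤ Fintype.card F) (n : ℕ) (hn : 3 ≤ n) :
    (∀ x : Matrix.ProjectiveSpecialLinearGroup (Fin n) F, x ≠ 1 → ∀ g : Matrix.ProjectiveSpecialLinearGroup (Fin n) F, ∃ f : Fin n → Matrix.ProjectiveSpecialLinearGroup (Fin n) F, g = (List.ofFn fun i => f i * x * (f i)⁻¹).prod) ∧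
    (∃ x : Matrix.ProjectiveSpecialLinearGroup (Fin n) F, x ≠ 1 ∧ ∃ g : Matrix.ProjectiveSpecialLinearGroup (Fin n) F, ∀ f : Fin (n - 1) → Matrix.ProjectiveSpecialLinearGroup (Fin n) F, g ≠ (List.ofFn fun i => f i * x * (f i)⁻¹).prod) := by
  refine ⟨fun x hx g => ?_, ?_⟩
  · obtain ⟨X, rfl⟩ := QuotientGroup.mk_surjective x
    obtain ⟨G, rfl⟩ := QuotientGroup.mk_surjective g
    have hXn : NS X.1 := fun c hc => hx ((QuotientGroup.eq_one_iff X).2
      (Matrix.SpecialLinearGroup.mem_center_iff.2 ⟨c, by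
        have := X.2; rw [hc, Matrix.det_smul, Matrix.det_one, mul_one] at this; exact this, by
        rw [hc, Matrix.scalar_apply, Matrix.smul_one_eq_diagonal]⟩))
    have key : ∃ G' : Matrix.SpecialLinearGroup (Fin n) F,
        ((QuotientGroup.mk G') : Matrix.ProjectiveSpecialLinearGroup (Fin n) F) = QuotientGroup.mk G ∧ SProd n X.1 G'.1 := by
      by_cases hG : NS G.1
      · exact ⟨G, rfl, sprod_ns h4 hn hXn X.2 hG G.2⟩
      · simp only [NS, not_forall, not_not] at hG
        obtain ⟨c, hc⟩ := hG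
        refine ⟨1, ?_, ?_⟩
        · refine Eq.symm ((QuotientGroup.eq_one_iff G).2 (Matrix.SpecialLinearGroup.mem_center_iff.2 ⟨c, ?_, ?_⟩))
          · have := G.2; rwa [hc, Matrix.det_smul, Matrix.det_one, mul_one] at this
          · rw [hc, Matrix.scalar_apply, Matrix.smul_one_eq_diagonal]
        · have := sprod_scalar_target h4 hn hXn X.2
          rwa [one_smul] at this
    obtain ⟨G', hG', hs⟩ := key
    obtain ⟨f, hf⟩ := exists_lift hs
    refine ⟨fun i => QuotientGroup.mk (f i), ?_⟩
    rw [← hG', hf]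
    exact (map_list_prod (QuotientGroup.mk' (Subgroup.center (Matrix.SpecialLinearGroup (Fin n) F))) _).trans
      (by rw [List.map_ofFn]; rfl)
  · obtain ⟨g, hg, hne⟩ := exists_no_eigen (F := F) (n := n) (by omega)
    let i : Fin n := ⟨0, by omega⟩
    let j : Fin n := ⟨1, by omega⟩
    have hij : i ≠ j := by simp [i, j]
    let X : Matrix.SpecialLinearGroup (Fin n) F := ⟨Matrix.transvection i j 1, Matrix.det_transvection_of_ne i j hij 1⟩
    let G : Matrix.SpecialLinearGroup (Fin n) F := ⟨g, hg⟩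
    refine ⟨QuotientGroup.mk X, fun h => ?_, QuotientGroup.mk G, fun f hf => ?_⟩
    · obtain ⟨c, -, hc⟩ := Matrix.SpecialLinearGroup.mem_center_iff.1 ((QuotientGroup.eq_one_iff X).1 h)
      have h' : (Matrix.scalar (Fin n) c) i j = Matrix.transvection i j (1 : F) i j := by rw [hc]
      simp [Matrix.scalar_apply, Matrix.transvection, Matrix.diagonal, hij] at h'
    · choose P hP using fun k => QuotientGroup.mk_surjective (f k)
      have hp : (List.ofFn fun k => f k * (QuotientGroup.mk X) * (f k)⁻¹).prod =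
          (QuotientGroup.mk (List.ofFn fun k => P k * X * (P k)⁻¹).prod :
            Matrix.ProjectiveSpecialLinearGroup (Fin n) F) := by
        refine Eq.trans ?_ (map_list_prod (QuotientGroup.mk' (Subgroup.center (Matrix.SpecialLinearGroup (Fin n) F))) _).symm
        rw [List.map_ofFn]
        congr 2
        funext k
        simp [← hP]
      have hf' := QuotientGroup.eq.1 (hf.trans hp)
      obtain ⟨c, -, hc⟩ := Matrix.SpecialLinearGroup.mem_center_iff.1 hf'
      obtain ⟨w, hw, hfix⟩ := exists_fixed (i := i) (j := j) (t := (1 : F)) (show n - 1 < n by omega)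
        (fun k => (P k).1) (fun k => ((P k)⁻¹).1) fun k => congrArg Subtype.val (mul_inv_cancel (P k))
      let π : Matrix.SpecialLinearGroup (Fin n) F →* Matrix (Fin n) (Fin n) F :=
        ⟨⟨Subtype.val, rfl⟩, fun _ _ => rfl⟩
      have hv : g * Matrix.scalar (Fin n) c =
          (List.ofFn fun k => (P k).1 * Matrix.transvection i j (1 : F) * ((P k)⁻¹).1).prod := by
        rw [hc]
        refine (congrArg π (mul_inv_cancel_left G _)).trans ?_
        rw [map_list_prod, List.map_ofFn]
        rfl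
      rw [← hv, Matrix.scalar_apply, ← Matrix.smul_one_eq_diagonal, Matrix.mul_smul, Matrix.mul_one, Matrix.smul_mulVec] at hfix
      rcases eq_or_ne c 0 with rfl | hc0
      · rw [zero_smul] at hfix; exact hw hfix.symm
      · exact hne c⁻¹ w hw ((eq_inv_smul_iff₀ hc0).2 hfix)

end Cfsg.Agent.S2483
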