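import Cfsg.Statements.S2485
import Cfsg.Agent.Lib.Dickson.Orders
-- import your own Cfsg.Agent.* helpers here

set_option autoImplicit false
set_option maxHeartbeats 800000
open scoped Pointwise
open Cfsg

namespace Cfsg.Agent.S2485

open Matrix

variable {F : Type*} [Field F]

local notation "GL2" => GL (Fin 2) F

theorem eq_smul_of_commute {Z A : Matrix (Fin 2) (Fin 2) F} (hZ : Z 0 1 ≠ 0 ∨ Z 1 0 ≠ 0 ∨ Z 0 0 ≠ Z 1 1)
    (h : A * Z = Z * A) : ∃ a b : F, A = a • (1 : Matrix (Fin 2) (Fin 2) F) + b • Z := by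
  have h0 := congrFun (congrFun h 0) 0
  have h1 := congrFun (congrFun h 0) 1
  have h2 := congrFun (congrFun h 1) 0
  simp only [Matrix.mul_apply, Fin.sum_univ_two] at h0 h1 h2
  rcases hZ with hz | hz | hz
  · refine ⟨A 0 0 - A 0 1 / Z 0 1 * Z 0 0, A 0 1 / Z 0 1, ?_⟩
    ext i j
    fin_cases i <;> fin_cases j <;> simp <;> field_simp <;>
      first | ring1 | linear_combination h0 | linear_combination -h0 | linear_combination h1 | linear_combination -h1 | linear_combination h2 | linear_combination -h2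
  · refine ⟨A 0 0 - A 1 0 / Z 1 0 * Z 0 0, A 1 0 / Z 1 0, ?_⟩
    ext i j
    fin_cases i <;> fin_cases j <;> simp <;> field_simp <;>
      first | ring1 | linear_combination h0 | linear_combination -h0 | linear_combination h1 | linear_combination -h1 | linear_combination h2 | linear_combination -h2
  · have hz' : Z 0 0 - Z 1 1 ≠ 0 := sub_ne_zero.mpr hz
    refine ⟨A 0 0 - (A 0 0 - A 1 1) / (Z 0 0 - Z 1 1) * Z 0 0, (A 0 0 - A 1 1) / (Z 0 0 - Z 1 1), ?_⟩
    ext i j
    fin_cases i <;> fin_cases j <;> simp <;> field_simp <;>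
      first | ring1 | linear_combination h0 | linear_combination -h0 | linear_combination h1 | linear_combination -h1 | linear_combination h2 | linear_combination -h2

variable [Fintype F]

theorem card_commuting_le (h2 : (2 : F) ≠ 0) {Z : Matrix (Fin 2) (Fin 2) F}
    (hZ : Z 0 1 ≠ 0 ∨ Z 1 0 ≠ 0 ∨ Z 0 0 ≠ Z 1 1) (ht : Z 0 0 + Z 1 1 = 0) :
    Nat.card {A : GL2 // A.1 * Z = Z * A.1} ≤ Fintype.card F ^ 2 - 1 ∧
    (∀ r : F, r * r = -Z.det → r ≠ 0 →
      Nat.card {A : GL2 // A.1 * Z = Z * A.1} ≤ (Fintype.card F - 1) ^ 2) := by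
  classical
  haveI : Finite GL2 := inferInstance
  choose a b hab using fun A : {A : GL2 // A.1 * Z = Z * A.1} => eq_smul_of_commute hZ A.2
  have hinj : Function.Injective fun A => (a A, b A) := fun A B h => by
    simp only [Prod.mk.injEq] at h
    exact Subtype.ext (Units.ext (by rw [hab A, hab B, h.1, h.2]))
  have hdet : ∀ A, (a A) ^ 2 + Z.det * (b A) ^ 2 ≠ 0 := fun A h0 => by
    have hu := (Matrix.isUnit_iff_isUnit_det _).mp A.1.isUnit
    refine hu.ne_zero ?_
    rw [hab A, Matrix.det_fin_two]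
    rw [Matrix.det_fin_two] at h0
    simp
    linear_combination h0 + a A * b A * ht
  constructor
  · let f : {A : GL2 // A.1 * Z = Z * A.1} → {z : F × F // z ≠ (0, 0)} := fun A =>
      ⟨(a A, b A), fun h => hdet A (by
        simp only [Prod.mk.injEq] at h
        rw [h.1, h.2]; ring)⟩
    refine le_trans (Nat.card_le_card_of_injective f fun A B h => hinj (congrArg Subtype.val h)) (le_of_eq ?_)
    rw [Nat.card_eq_fintype_card, Fintype.card_subtype_compl, Fintype.card_prod, Fintype.card_subtype_eq, sq]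
  · intro r hr hr0
    let f : {A : GL2 // A.1 * Z = Z * A.1} → {u : F // u ≠ 0} × {u : F // u ≠ 0} := fun A =>
      (⟨a A + r * b A, fun h => hdet A (by linear_combination (a A - r * b A) * h + (b A) ^ 2 * hr)⟩,
       ⟨a A - r * b A, fun h => hdet A (by linear_combination (a A + r * b A) * h + (b A) ^ 2 * hr)⟩)
    refine le_trans (Nat.card_le_card_of_injective f fun A B h => hinj ?_) (le_of_eq ?_)
    · simp only [f, Prod.mk.injEq, Subtype.mk.injEq] at h
      have h1 : (2 : F) * a A = 2 * a B := by linear_combination h.1 + h.2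
      have h3 : 2 * r * b A = 2 * r * b B := by linear_combination h.1 - h.2
      simp only [Prod.mk.injEq]
      exact ⟨mul_left_cancel₀ h2 h1, mul_left_cancel₀ (mul_ne_zero h2 hr0) h3⟩
    · rw [Nat.card_prod, Nat.card_eq_fintype_card, Fintype.card_subtype_compl, Fintype.card_subtype_eq, sq]

theorem centralizer_bound {z : GL2 ⧸ Subgroup.center GL2} (h2 : (2 : F) ≠ 0) (Z : GL2) (hz : QuotientGroup.mk Z = z)
    (hns : Z.1 0 1 ≠ 0 ∨ Z.1 1 0 ≠ 0 ∨ Z.1 0 0 ≠ Z.1 1 1) :
    Nat.card (Subgroup.centralizer ({z} : Set (GL2 ⧸ Subgroup.center GL2))) * (Fintype.card F - 1) ≤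
      2 * Nat.card {A : GL2 // A.1 * Z.1 = Z.1 * A.1} := by
  classical
  haveI : Finite GL2 := inferInstance
  set C := Subgroup.centralizer ({z} : Set (GL2 ⧸ Subgroup.center GL2))
  set K := C.comap (QuotientGroup.mk' (Subgroup.center GL2))
  have hK : Nat.card K = Nat.card C * (Fintype.card F - 1) := by
    have h1 := K.card_mul_index
    rw [Subgroup.index_comap_of_surjective _ (QuotientGroup.mk'_surjective _),
      Subgroup.card_eq_card_quotient_mul_card_subgroup (Subgroup.center GL2),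
      Cfsg.Lib.Linear.card_center_GL, ← C.card_mul_index] at h1
    refine Nat.eq_of_mul_eq_mul_right (Nat.pos_of_ne_zero C.index_ne_zero_of_finite) ?_
    rw [h1]; ring
  rw [← hK]
  -- sign of commutation
  have hsign : ∀ A : K, (A : GL2).1 * Z.1 = Z.1 * (A : GL2).1 ∨ (A : GL2).1 * Z.1 = -(Z.1 * (A : GL2).1) := by
    intro A
    have h : QuotientGroup.mk ((A : GL2) * Z) = (QuotientGroup.mk (Z * A) : GL2 ⧸ Subgroup.center GL2) := by
      have hA := Subgroup.mem_centralizer_singleton_iff.mp (A.2 : QuotientGroup.mk (A : GL2) ∈ C)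
      rw [← hz] at hA
      exact hA
    obtain ⟨w, hw⟩ : ∃ w, ((A : GL2) * Z)⁻¹ * (Z * (A : GL2)) = GeneralLinearGroup.scalar (Fin 2) w := by
      have := QuotientGroup.eq.mp h
      rw [GeneralLinearGroup.center_eq_range_scalar] at this
      obtain ⟨w, hw⟩ := this
      exact ⟨w, hw.symm⟩
    have heq : Z.1 * (A : GL2).1 = (A : GL2).1 * Z.1 * Matrix.scalar (Fin 2) (w : F) := by
      have h' : Z * A = (A : GL2) * Z * GeneralLinearGroup.scalar (Fin 2) w := by rw [← hw]; group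
      exact congrArg Units.val h'
    have hd := congrArg Matrix.det heq
    simp [Matrix.det_mul] at hd
    have hu1 := ((Matrix.isUnit_iff_isUnit_det _).mp Z.isUnit).ne_zero
    have hu2 := ((Matrix.isUnit_iff_isUnit_det _).mp (A : GL2).isUnit).ne_zero
    have hw2 : (w : F) ^ 2 = 1 := mul_left_cancel₀ (mul_ne_zero hu1 hu2) (by linear_combination -hd)
    rcases sq_eq_one_iff.mp hw2 with hw1 | hw1 <;> rw [hw1] at heq
    · left; simpa using heq.symm
    · right; rw [heq]; simp [← Matrix.smul_one_eq_diagonal]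
  by_cases hall : ∀ A : K, (A : GL2).1 * Z.1 = Z.1 * (A : GL2).1
  · refine le_trans (Nat.card_le_card_of_injective (fun A : K => (⟨(A : GL2), hall A⟩ : {A : GL2 // A.1 * Z.1 = Z.1 * A.1}))
      fun A B h => Subtype.ext (congrArg (fun x : {A : GL2 // A.1 * Z.1 = Z.1 * A.1} => x.1) h)) (by omega)
  push Not at hall
  obtain ⟨A0, hA0⟩ := hall
  have hA0' := (hsign A0).resolve_left hA0
  let f : K → Bool × {A : GL2 // A.1 * Z.1 = Z.1 * A.1} := fun A =>
    if h : (A : GL2).1 * Z.1 = Z.1 * (A : GL2).1 then (true, ⟨A, h⟩)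
    else (false, ⟨(A0 : GL2) * A, by
      rw [Units.val_mul, mul_assoc, (hsign A).resolve_left h, mul_neg, ← mul_assoc, hA0', neg_mul, neg_neg, mul_assoc]⟩)
  have hf : Function.Injective f := by
    intro A B h
    simp only [f] at h
    split_ifs at h with h1 h2 h2 <;> simp at h
    · exact h
    · exact h
  refine le_trans (Nat.card_le_card_of_injective f hf) (le_of_eq ?_)
  rw [Nat.card_prod, Nat.card_eq_fintype_card, Fintype.card_bool]

/-- Let q = 2^k − 1 ≥ 7 be a prime and let G = PGL(2,q), the general linear group of degree 2 over the field with q elements modulo its centre. Then any two Sylow 2-subgroups of G have a non-trivial intersection: for a Sylow 2-subgroup H and every x ∈ G, H ∩ H^x ≠ 1. -/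
theorem result {q k : ℕ} [Fact q.Prime] (hk : q + 1 = 2 ^ k) (hq : 7 ≤ q)
    (H : Sylow 2 (GL (Fin 2) (ZMod q) ⧸ Subgroup.center (GL (Fin 2) (ZMod q))))
    (x : GL (Fin 2) (ZMod q) ⧸ Subgroup.center (GL (Fin 2) (ZMod q))) :
    (H : Subgroup (GL (Fin 2) (ZMod q) ⧸ Subgroup.center (GL (Fin 2) (ZMod q)))) ⊓ MulAut.conj x • (H : Subgroup _) ≠ ⊥ := by
  classical
  haveI : Finite (GL (Fin 2) (ZMod q)) := inferInstance
  haveI : Finite (GL (Fin 2) (ZMod q) ⧸ Subgroup.center (GL (Fin 2) (ZMod q))) := inferInstance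
  haveI := Fact.mk Nat.prime_two
  have hq2 : (2 : ZMod q) ≠ 0 := by
    intro h
    have h' : ((2 : ℕ) : ZMod q) = 0 := by exact_mod_cast h
    rw [ZMod.natCast_eq_zero_iff] at h'
    have := Nat.le_of_dvd (by norm_num) h'
    omega
  have hk3 : 3 ≤ k := by
    by_contra hc
    have : 2 ^ k ≤ 2 ^ 2 := Nat.pow_le_pow_right (by norm_num) (by omega)
    omega
  have h8 : 2 ^ k % 8 = 0 := Nat.mod_eq_zero_of_dvd (Nat.pow_dvd_pow 2 hk3)
  have hcardH : Nat.card (H : Subgroup (GL (Fin 2) (ZMod q) ⧸ Subgroup.center (GL (Fin 2) (ZMod q)))) = 2 * (q + 1) := by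
    have hG : Nat.card (GL (Fin 2) (ZMod q) ⧸ Subgroup.center (GL (Fin 2) (ZMod q))) = q * (q ^ 2 - 1) := by
      have := Cfsg.Lib.Dickson.card_PGL_two_eq (K := ZMod q)
      rwa [ZMod.card] at this
    obtain ⟨m, hm, hmo⟩ : ∃ m, q - 1 = 2 * m ∧ m % 2 = 1 := ⟨(q - 1) / 2, by omega, by omega⟩
    have hG' : Nat.card (GL (Fin 2) (ZMod q) ⧸ Subgroup.center (GL (Fin 2) (ZMod q))) = 2 ^ (k + 1) * (q * m) := by
      rw [hG, show q ^ 2 - 1 = (q + 1) * (q - 1) by
        have e := Nat.mul_self_sub_mul_self_eq q 1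
        rw [mul_one] at e; rwa [sq], hk, hm, pow_succ]
      ring
    have hodd : ¬ 2 ∣ q * m := by
      intro h
      rcases Nat.prime_two.dvd_mul.mp h with h | h <;> omega
    rw [hk, ← pow_succ', H.card_eq_multiplicity, hG', Nat.factorization_mul (pow_ne_zero _ two_ne_zero) (fun h => hodd (by rw [h]; exact dvd_zero 2)),
      Finsupp.add_apply, Nat.Prime.factorization_pow Nat.prime_two, Finsupp.single_eq_same,
      Nat.factorization_eq_zero_of_not_dvd hodd, add_zero]
  haveI : Nontrivial (H : Subgroup (GL (Fin 2) (ZMod q) ⧸ Subgroup.center (GL (Fin 2) (ZMod q)))) := Finite.one_lt_card_iff_nontrivial.mp (by omega)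
  obtain ⟨z0, hz0⟩ : ∃ z0 : Subgroup.center (H : Subgroup (GL (Fin 2) (ZMod q) ⧸ Subgroup.center (GL (Fin 2) (ZMod q)))), orderOf z0 = 2 := by
    refine exists_prime_orderOf_dvd_card' 2 ?_
    obtain ⟨n, hn⟩ := IsPGroup.iff_card.mp (H.isPGroup'.to_subgroup (Subgroup.center (H : Subgroup (GL (Fin 2) (ZMod q) ⧸ Subgroup.center (GL (Fin 2) (ZMod q))))))
    have : 1 < Nat.card (Subgroup.center (H : Subgroup (GL (Fin 2) (ZMod q) ⧸ Subgroup.center (GL (Fin 2) (ZMod q))))) := by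
      haveI := (Subgroup.nontrivial_iff_ne_bot _).mpr (H.isPGroup'.bot_lt_center).ne'
      exact Finite.one_lt_card
    rw [hn] at this ⊢
    exact dvd_pow_self 2 (fun h => by rw [h] at this; simp at this)
  rw [← Subgroup.orderOf_coe, ← Subgroup.orderOf_coe] at hz0
  set z : (GL (Fin 2) (ZMod q) ⧸ Subgroup.center (GL (Fin 2) (ZMod q))) := ((z0 : (H : Subgroup (GL (Fin 2) (ZMod q) ⧸ Subgroup.center (GL (Fin 2) (ZMod q))))) : (GL (Fin 2) (ZMod q) ⧸ Subgroup.center (GL (Fin 2) (ZMod q)))) with hzdef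
  have hzH : z ∈ (H : Subgroup (GL (Fin 2) (ZMod q) ⧸ Subgroup.center (GL (Fin 2) (ZMod q)))) := (z0 : (H : Subgroup (GL (Fin 2) (ZMod q) ⧸ Subgroup.center (GL (Fin 2) (ZMod q))))).2
  have hz1 : z ≠ 1 := fun h => by rw [h, orderOf_one] at hz0; omega
  have hz2 : z * z = 1 := by
    have := pow_orderOf_eq_one z
    rwa [hz0, sq] at this
  have hHC : (H : Subgroup (GL (Fin 2) (ZMod q) ⧸ Subgroup.center (GL (Fin 2) (ZMod q)))) ≤ Subgroup.centralizer ({z} : Set (GL (Fin 2) (ZMod q) ⧸ Subgroup.center (GL (Fin 2) (ZMod q)))) := fun a ha =>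
    Subgroup.mem_centralizer_singleton_iff.mpr (congrArg Subtype.val ((Subgroup.mem_center_iff.mp z0.2) ⟨a, ha⟩))
  obtain ⟨Z, hZ⟩ := QuotientGroup.mk_surjective z
  have hns : Z.1 0 1 ≠ 0 ∨ Z.1 1 0 ≠ 0 ∨ Z.1 0 0 ≠ Z.1 1 1 := by
    by_contra hc
    push Not at hc
    refine hz1 (hZ ▸ (QuotientGroup.eq_one_iff _).mpr ?_)
    rw [GeneralLinearGroup.center_eq_range_scalar]
    have hne : Z.1 0 0 ≠ 0 := by
      intro h
      have hu := ((Matrix.isUnit_iff_isUnit_det _).mp Z.isUnit).ne_zero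
      rw [Matrix.det_fin_two, h, hc.1] at hu
      simp at hu
    refine ⟨Units.mk0 _ hne, Units.ext ?_⟩
    ext i j
    fin_cases i <;> fin_cases j <;> simp [hc.1, hc.2.1, ← hc.2.2]
  have ht : Z.1 0 0 + Z.1 1 1 = 0 := by
    have h : QuotientGroup.mk (Z * Z) = (1 : (GL (Fin 2) (ZMod q) ⧸ Subgroup.center (GL (Fin 2) (ZMod q)))) := by rw [QuotientGroup.mk_mul, hZ, hz2]
    rw [QuotientGroup.eq_one_iff, GeneralLinearGroup.center_eq_range_scalar] at h
    obtain ⟨w, hw⟩ := h
    have e01 := congrArg (fun A : GL (Fin 2) (ZMod q) => A.1 0 1) hw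
    have e10 := congrArg (fun A : GL (Fin 2) (ZMod q) => A.1 1 0) hw
    have e00 := congrArg (fun A : GL (Fin 2) (ZMod q) => A.1 0 0 - A.1 1 1) hw
    simp [Matrix.mul_apply, Fin.sum_univ_two] at e01 e10 e00
    rcases hns with h' | h' | h'
    · exact (mul_eq_zero.mp (by linear_combination -e01 : Z.1 0 1 * (Z.1 0 0 + Z.1 1 1) = 0)).resolve_left h'
    · exact (mul_eq_zero.mp (by linear_combination -e10 : Z.1 1 0 * (Z.1 0 0 + Z.1 1 1) = 0)).resolve_left h'
    · exact (mul_eq_zero.mp (by linear_combination -e00 :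
        (Z.1 0 0 - Z.1 1 1) * (Z.1 0 0 + Z.1 1 1) = 0)).resolve_left (sub_ne_zero.mpr h')
  have hb := centralizer_bound hq2 Z hZ hns
  obtain ⟨hle, hsplit⟩ := card_commuting_le hq2 hns ht
  rw [ZMod.card] at hb hle hsplit
  have hCH : (H : Subgroup (GL (Fin 2) (ZMod q) ⧸ Subgroup.center (GL (Fin 2) (ZMod q)))) = Subgroup.centralizer ({z} : Set (GL (Fin 2) (ZMod q) ⧸ Subgroup.center (GL (Fin 2) (ZMod q)))) := by
    refine Subgroup.eq_of_le_of_card_ge hHC ?_
    rw [hcardH]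
    refine Nat.le_of_mul_le_mul_right (le_trans hb (le_trans (Nat.mul_le_mul_left 2 hle) (le_of_eq ?_)))
      (show 0 < q - 1 by omega)
    rw [show q ^ 2 - 1 = (q + 1) * (q - 1) by
      have e := Nat.mul_self_sub_mul_self_eq q 1
      rw [mul_one] at e; rwa [sq]]
    ring
  have hnsq : ∀ r : ZMod q, r * r ≠ -Z.1.det := by
    intro r hr
    have hr0 : r ≠ 0 := by
      rintro rfl
      exact ((Matrix.isUnit_iff_isUnit_det _).mp Z.isUnit).ne_zero (by linear_combination hr)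
    have h1 := (Nat.mul_le_mul_right (q - 1) (Subgroup.card_le_of_le hHC)).trans
      (hb.trans (Nat.mul_le_mul_left 2 (hsplit r hr hr0)))
    rw [hcardH, sq, mul_assoc] at h1
    have := Nat.le_of_mul_le_mul_right (Nat.le_of_mul_le_mul_left h1 two_pos) (show 0 < q - 1 by omega)
    omega
  -- the conjugate involution
  intro hbot
  have hmem : ∀ w : (GL (Fin 2) (ZMod q) ⧸ Subgroup.center (GL (Fin 2) (ZMod q))), w * z = z * w → w * (x * z * x⁻¹) = (x * z * x⁻¹) * w → w ≠ 1 → False := by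
    intro w hw1 hw2 hw
    have h1 : w ∈ (H : Subgroup (GL (Fin 2) (ZMod q) ⧸ Subgroup.center (GL (Fin 2) (ZMod q)))) := hCH ▸ Subgroup.mem_centralizer_singleton_iff.mpr hw1
    have h2 : w ∈ MulAut.conj x • (H : Subgroup (GL (Fin 2) (ZMod q) ⧸ Subgroup.center (GL (Fin 2) (ZMod q)))) := by
      refine ⟨x⁻¹ * w * x, ?_, by simp [mul_assoc]⟩
      rw [SetLike.mem_coe, hCH, Subgroup.mem_centralizer_singleton_iff]
      calc x⁻¹ * w * x * z = x⁻¹ * (w * (x * z * x⁻¹)) * x := by group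
        _ = z * (x⁻¹ * w * x) := by rw [hw2]; group
    exact hw ((Subgroup.eq_bot_iff_forall _).mp hbot w ⟨h1, h2⟩)
  obtain ⟨X, rfl⟩ := QuotientGroup.mk_surjective x
  obtain ⟨Y, hY⟩ : ∃ Y, Y = X * Z * X⁻¹ := ⟨_, rfl⟩
  have hYz : (QuotientGroup.mk X : (GL (Fin 2) (ZMod q) ⧸ Subgroup.center (GL (Fin 2) (ZMod q)))) * z * (QuotientGroup.mk X : (GL (Fin 2) (ZMod q) ⧸ Subgroup.center (GL (Fin 2) (ZMod q))))⁻¹ = QuotientGroup.mk Y := by
    rw [hY, QuotientGroup.mk_mul, QuotientGroup.mk_mul, QuotientGroup.mk_inv, hZ]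
  rw [hYz] at hmem
  have htY : Y.1 0 0 + Y.1 1 1 = 0 := by
    have h : Y.1.trace = Z.1.trace := by
      rw [hY, Units.val_mul, Units.val_mul, Matrix.trace_mul_cycle, ← Units.val_mul, inv_mul_cancel, Units.val_one, one_mul]
    rw [Matrix.trace_fin_two, Matrix.trace_fin_two, ht] at h
    exact h
  by_cases hcomm : Z * Y = Y * Z
  · refine hmem z rfl ?_ hz1
    rw [← hZ, ← QuotientGroup.mk_mul, hcomm, QuotientGroup.mk_mul]
  set W := Z.1 * Y.1 - Y.1 * Z.1 with hW
  have hWZ : W * Z.1 = -(Z.1 * W) := by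
    rw [hW]
    ext i j
    fin_cases i <;> fin_cases j <;> simp [Matrix.mul_apply, Fin.sum_univ_two] <;>
      grind
  have hWY : W * Y.1 = -(Y.1 * W) := by
    rw [hW]
    ext i j
    fin_cases i <;> fin_cases j <;> simp [Matrix.mul_apply, Fin.sum_univ_two] <;>
      grind
  have hWu : W.det ≠ 0 := by
    intro hd
    obtain ⟨v, hv, hv0⟩ := Matrix.exists_mulVec_eq_zero_iff.mpr hd
    have hZv : W *ᵥ (Z.1 *ᵥ v) = 0 := by
      rw [Matrix.mulVec_mulVec, hWZ, Matrix.neg_mulVec, ← Matrix.mulVec_mulVec, hv0, Matrix.mulVec_zero, neg_zero]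
    obtain ⟨l, hl⟩ : ∃ l : ZMod q, Z.1 *ᵥ v = l • v := by
      have hW0 : W 0 1 ≠ 0 ∨ W 1 0 ≠ 0 ∨ W 0 0 ≠ 0 ∨ W 1 1 ≠ 0 := by
        by_contra hc
        push Not at hc
        obtain ⟨c1, c2, c3, c4⟩ := hc
        refine hcomm (Units.ext (sub_eq_zero.mp ?_))
        simp only [Units.val_mul]
        rw [← hW]
        ext i j
        fin_cases i <;> fin_cases j <;> simp [c1, c2, c3, c4]
      have e0 := congrFun hv0 0
      have e1 := congrFun hv0 1
      have f0 := congrFun hZv 0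
      have f1 := congrFun hZv 1
      simp [Matrix.mulVec, dotProduct, Fin.sum_univ_two] at e0 e1 f0 f1
      have key : v 0 * (Z.1 1 0 * v 0 + Z.1 1 1 * v 1) = v 1 * (Z.1 0 0 * v 0 + Z.1 0 1 * v 1) := by
        rcases hW0 with h | h | h | h <;> refine mul_left_cancel₀ h ?_
        · linear_combination v 0 * f0 - (Z.1 0 0 * v 0 + Z.1 0 1 * v 1) * e0
        · linear_combination -(v 1) * f1 + (Z.1 1 0 * v 0 + Z.1 1 1 * v 1) * e1
        · linear_combination -(v 1) * f0 + (Z.1 1 0 * v 0 + Z.1 1 1 * v 1) * e0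
        · linear_combination v 0 * f1 - (Z.1 0 0 * v 0 + Z.1 0 1 * v 1) * e1
      by_cases h0 : v 0 = 0
      · have h1 : v 1 ≠ 0 := fun h1 => hv (by ext i; fin_cases i <;> simp [h0, h1])
        refine ⟨Z.1 1 1, ?_⟩
        rw [h0] at key
        ext i
        fin_cases i <;> simp [Matrix.mulVec, dotProduct, Fin.sum_univ_two, h0]
        simpa [h1] using key.symm
      · refine ⟨(Z.1 0 0 * v 0 + Z.1 0 1 * v 1) / v 0, ?_⟩
        ext i
        fin_cases i <;> simp [Matrix.mulVec, dotProduct, Fin.sum_univ_two] <;> field_simp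
        linear_combination key
    refine hnsq l ?_
    have e0 := congrFun hl 0
    have e1 := congrFun hl 1
    simp [Matrix.mulVec, dotProduct, Fin.sum_univ_two] at e0 e1
    rw [Matrix.det_fin_two]
    by_cases h0 : v 0 = 0
    · have h1 : v 1 ≠ 0 := fun h1 => hv (by ext i; fin_cases i <;> simp [h0, h1])
      refine mul_right_cancel₀ h1 ?_
      linear_combination -(l + Z.1 1 1) * e1 - Z.1 1 0 * e0 + (Z.1 1 1 * v 1 + Z.1 1 0 * v 0) * ht
    · refine mul_right_cancel₀ h0 ?_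
      linear_combination -(l + Z.1 0 0) * e0 - Z.1 0 1 * e1 + (Z.1 0 0 * v 0 + Z.1 0 1 * v 1) * ht
  let U : GL (Fin 2) (ZMod q) := Matrix.GeneralLinearGroup.mkOfDetNeZero W hWu
  let N : GL (Fin 2) (ZMod q) := GeneralLinearGroup.scalar (Fin 2) (-1)
  have hN : (QuotientGroup.mk N : (GL (Fin 2) (ZMod q) ⧸ Subgroup.center (GL (Fin 2) (ZMod q)))) = 1 := by
    rw [QuotientGroup.eq_one_iff, GeneralLinearGroup.center_eq_range_scalar]
    exact ⟨_, rfl⟩
  have hanti : ∀ A : GL (Fin 2) (ZMod q), W * A.1 = -(A.1 * W) →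
      (QuotientGroup.mk U : (GL (Fin 2) (ZMod q) ⧸ Subgroup.center (GL (Fin 2) (ZMod q)))) * QuotientGroup.mk A = QuotientGroup.mk A * QuotientGroup.mk U := by
    intro A hA
    rw [← QuotientGroup.mk_mul, show U * A = N * (A * U) from Units.ext (by
      show W * A.1 = N.1 * (A.1 * W)
      rw [hA]
      simp [N, ← Matrix.smul_one_eq_diagonal]), QuotientGroup.mk_mul, hN, one_mul, QuotientGroup.mk_mul]
  refine hmem (QuotientGroup.mk U) (hZ ▸ hanti Z hWZ) (hanti Y hWY) fun h => ?_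
  rw [QuotientGroup.eq_one_iff] at h
  have hc : W * Z.1 = Z.1 * W := congrArg Units.val (Subgroup.mem_center_iff.mp h Z).symm
  rw [hWZ] at hc
  have h0 : (2 : ZMod q) • (Z.1 * W) = 0 := by rw [two_smul]; linear_combination (norm := module) -hc
  have h1 : (Z.1 * W).det = 0 := by
    rw [(smul_eq_zero.mp h0).resolve_left hq2, Matrix.det_zero]
  rw [Matrix.det_mul] at h1
  exact (mul_eq_zero.mp h1).elim ((Matrix.isUnit_iff_isUnit_det _).mp Z.isUnit).ne_zero hWu

end Cfsg.Agent.S2485
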