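import Cfsg.Statements.S2486
import Cfsg.Agent.Lib.Linear.Unipotent.Bruhat
import Cfsg.Agent.Lib.Linear.Unitriangular
-- import your own Cfsg.Agent.* helpers here

set_option autoImplicit false
open scoped Pointwise
open Cfsg

namespace Cfsg.Agent.S2486

open Matrix Cfsg.Lib.Linear.Bruhat
open scoped Pointwise

variable {n : ℕ} {F : Type*} [Field F]

theorem eq_one_of_ne_zero (hF : Nat.card F = 2) {c : F} (hc : c ≠ 0) : c = 1 := by
  haveI : Finite F := Nat.finite_of_card_ne_zero (by omega)
  have h1 : Nat.card Fˣ = 1 := by rw [Nat.card_units, hF]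
  haveI := (Nat.card_eq_one_iff_unique.mp h1).1
  exact congrArg Units.val (Subsingleton.elim (Units.mk0 c hc) 1)

theorem upper_isPGroup (hF : Nat.card F = 2) : IsPGroup 2 (upperTriangularGL n F) := by
  haveI : Finite F := Nat.finite_of_card_ne_zero (by omega)
  have := Fintype.ofFinite F
  have h2 : (2 : F) = 0 := by
    have := FiniteField.cast_card_eq_zero F
    rw [← Nat.card_eq_fintype_card, hF] at this
    exact_mod_cast this
  rcases Nat.eq_zero_or_pos n with rfl | hn
  · exact fun g => ⟨0, Subtype.ext (Units.ext (Matrix.ext fun i => i.elim0))⟩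
  haveI : Nonempty (Fin n) := ⟨⟨0, hn⟩⟩
  haveI : CharP F 2 := CharTwo.of_one_ne_zero_of_two_eq_zero one_ne_zero h2
  intro g
  have hg : g.1 ∈ Cfsg.Lib.Linear.UTri.level (R := F) (fun i : Fin n => n - 1 - i.1) 0 := by
    rw [Cfsg.Lib.Linear.UTri.mem_level]
    intro i j hij
    rcases lt_trichotomy i j with h | h | h
    · have := Fin.lt_def.mp h
      have := j.2
      show n - 1 - j.1 + (0 + 1) ≤ n - 1 - i.1
      omega
    · subst h
      exfalso
      refine hij ?_
      have hne : g.1.val i i ≠ 0 := by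
        have hd := Matrix.GeneralLinearGroup.det_ne_zero g.1
        rw [Matrix.det_of_upperTriangular g.2] at hd
        exact Finset.prod_ne_zero_iff.mp hd i (Finset.mem_univ i)
      rw [Matrix.sub_apply, Matrix.one_apply_eq, eq_one_of_ne_zero hF hne, sub_self]
    · exfalso
      refine hij ?_
      rw [Matrix.sub_apply, Matrix.one_apply_ne (ne_of_gt h), sub_zero]
      exact g.2 h
  have hz : (g.1.val - 1) ^ n = 0 :=
    Cfsg.Lib.Linear.UTri.pow_sub_one_eq_zero _ hg (fun i => by omega)
  haveI : CharP (Matrix (Fin n) (Fin n) F) 2 := inferInstance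
  refine ⟨n, Subtype.ext (Units.ext ?_)⟩
  show ((g.1 ^ 2 ^ n : GL (Fin n) F) : Matrix (Fin n) (Fin n) F) = 1
  rw [Units.val_pow_eq_pow_val, ← sub_eq_zero]
  have h1 := sub_pow_char_pow_of_commute 2 n (Commute.one_right g.1.val)
  rw [one_pow] at h1
  rw [← h1]
  exact pow_eq_zero_of_le Nat.lt_two_pow_self.le hz

/-- A root transvection. -/
def tv (a b : Fin n) (h : a ≠ b) : GL (Fin n) F where
  val := transvection a b 1
  inv := transvection a b (-1)
  val_inv := by rw [transvection_mul_transvection_same a b h, add_neg_cancel, transvection_zero]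
  inv_val := by rw [transvection_mul_transvection_same a b h, neg_add_cancel, transvection_zero]

theorem tv_mem {a b : Fin n} (h : a < b) : tv (F := F) a b h.ne ∈ upperTriangularGL n F := by
  intro i j hij
  simp only [id] at hij
  change Matrix.transvection a b (1 : F) i j = 0
  rw [Matrix.transvection, Matrix.add_apply, Matrix.one_apply_ne (ne_of_gt hij), zero_add,
    Matrix.single_apply, if_neg]
  rintro ⟨rfl, rfl⟩
  exact lt_asymm h hij

theorem tv_not_mem {a b : Fin n} (h : b < a) : tv (F := F) a b h.ne' ∉ upperTriangularGL n F := by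
  intro hm
  have h1 := hm (show (id b : Fin n) < id a from h)
  change Matrix.transvection a b (1 : F) a b = 0 at h1
  rw [Matrix.transvection, Matrix.add_apply, Matrix.one_apply_ne h.ne', zero_add,
    Matrix.single_apply_same] at h1
  exact one_ne_zero h1

theorem tv_perm (σ : Equiv.Perm (Fin n)) {a b : Fin n} (h : a ≠ b) :
    tv (F := F) (σ a) (σ b) (fun e => h (σ.injective e)) * permGL n F σ =
      permGL n F σ * tv a b h := by
  refine Units.ext (Matrix.ext fun i j => ?_)
  obtain ⟨i, rfl⟩ := σ.surjective i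
  rw [mul_permGL_apply, permGL_mul_apply]
  change Matrix.transvection (σ a) (σ b) (1 : F) (σ i) (σ j) = Matrix.transvection a b (1 : F) i j
  simp [Matrix.transvection, Matrix.one_apply, Matrix.single_apply, σ.injective.eq_iff]

theorem mem_conjSMul {G : Type*} [Group G] {H : Subgroup G} {g x : G} :
    x ∈ MulAut.conj g • H ↔ g⁻¹ * x * g ∈ H := by
  rw [Subgroup.mem_pointwise_smul_iff_inv_smul_mem, MulAut.smul_def, MulAut.inv_apply,
    MulAut.conj_symm_apply]

/-- The order-reversing permutation matrix. -/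
noncomputable def w0 (n : ℕ) (F : Type*) [Field F] : GL (Fin n) F := permGL n F Fin.revPerm

theorem exists_of_meet {g : GL (Fin n) F}
    (h : upperTriangularGL n F ⊓ MulAut.conj g • upperTriangularGL n F = ⊥) :
    ∃ u ∈ upperTriangularGL n F, ∃ v ∈ upperTriangularGL n F, g = u * w0 n F * v := by
  obtain ⟨σ, u, hu, v, hv, rfl⟩ := exists_bruhat g
  have hanti : ∀ a b : Fin n, a < b → σ b < σ a := by
    intro a b hab
    by_contra hcon
    have hlt : σ a < σ b := lt_of_le_of_ne (not_lt.mp hcon) (fun e => hab.ne (σ.injective e))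
    have hm : u * tv (σ a) (σ b) hlt.ne * u⁻¹ ∈
        upperTriangularGL n F ⊓ MulAut.conj (u * permGL n F σ * v) • upperTriangularGL n F := by
      refine Subgroup.mem_inf.mpr ⟨mul_mem (mul_mem hu (tv_mem hlt)) (inv_mem hu), mem_conjSMul.mpr ?_⟩
      have : (u * permGL n F σ * v)⁻¹ * (u * tv (σ a) (σ b) hlt.ne * u⁻¹) * (u * permGL n F σ * v) =
          v⁻¹ * ((permGL n F σ)⁻¹ * (tv (σ a) (σ b) hlt.ne * permGL n F σ)) * v := by group
      rw [this, tv_perm σ hab.ne, inv_mul_cancel_left]
      exact mul_mem (mul_mem (inv_mem hv) (tv_mem hab)) hv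
    rw [h, Subgroup.mem_bot, mul_inv_eq_one] at hm
    have h1 : tv (F := F) (σ a) (σ b) hlt.ne = 1 := mul_left_cancel (hm.trans (mul_one u).symm)
    have h3 := congrArg (fun g : GL (Fin n) F => g.val (σ a) (σ b)) h1
    change Matrix.transvection (σ a) (σ b) (1 : F) (σ a) (σ b) = (1 : Matrix (Fin n) (Fin n) F) (σ a) (σ b) at h3
    rw [Matrix.transvection, Matrix.add_apply, Matrix.one_apply_ne hlt.ne, Matrix.single_apply_same,
      zero_add] at h3
    exact one_ne_zero h3
  refine ⟨u, hu, v, hv, ?_⟩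
  have hid : (fun i => σ i.rev) = id := by
    refine (StrictMono.range_inj (fun i j hij => hanti _ _ (Fin.rev_lt_rev.mpr hij)) strictMono_id).mp ?_
    rw [Set.range_id]
    exact Set.range_eq_univ.mpr (σ.surjective.comp Fin.rev_surjective)
  have : σ = Fin.revPerm := Equiv.ext fun i => by
    have := congrFun hid i.rev
    simpa [Fin.rev_rev] using this
  rw [this]; rfl

theorem mem_of_normalize {g : GL (Fin n) F}
    (h : MulAut.conj g • upperTriangularGL n F = upperTriangularGL n F) :
    g ∈ upperTriangularGL n F := by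
  obtain ⟨σ, u, hu, v, hv, rfl⟩ := exists_bruhat g
  have hmono : ∀ a b : Fin n, a < b → σ a < σ b := by
    intro a b hab
    by_contra hcon
    have hlt : σ b < σ a := lt_of_le_of_ne (not_lt.mp hcon) (fun e => hab.ne' (σ.injective e))
    refine tv_not_mem (F := F) hlt ?_
    have hm : u * permGL n F σ * v * (v⁻¹ * tv a b hab.ne * v) * (u * permGL n F σ * v)⁻¹ ∈
        upperTriangularGL n F := by
      rw [← h, mem_conjSMul]
      have : (u * permGL n F σ * v)⁻¹ * (u * permGL n F σ * v * (v⁻¹ * tv a b hab.ne * v) *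
          (u * permGL n F σ * v)⁻¹) * (u * permGL n F σ * v) = v⁻¹ * tv a b hab.ne * v := by group
      rw [this]
      exact mul_mem (mul_mem (inv_mem hv) (tv_mem hab)) hv
    have : u * permGL n F σ * v * (v⁻¹ * tv a b hab.ne * v) * (u * permGL n F σ * v)⁻¹ =
        u * (permGL n F σ * tv a b hab.ne) * (permGL n F σ)⁻¹ * u⁻¹ := by group
    rw [this, ← tv_perm σ hab.ne, ← mul_assoc, mul_inv_cancel_right] at hm
    have h4 := mul_mem (mul_mem (inv_mem hu) hm) hu
    simpa [mul_assoc] using h4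
  have hid : (σ : Fin n → Fin n) = id := by
    refine (StrictMono.range_inj (fun i j hij => hmono _ _ hij) strictMono_id).mp ?_
    rw [Set.range_id]
    exact Set.range_eq_univ.mpr σ.surjective
  have : σ = 1 := Equiv.ext fun i => congrFun hid i
  rw [this, map_one, mul_one]
  exact mul_mem hu hv

theorem lower_meet (hF : Nat.card F = 2) :
    upperTriangularGL n F ⊓ MulAut.conj (w0 n F) • upperTriangularGL n F = ⊥ := by
  rw [eq_bot_iff]
  intro g hgm
  obtain ⟨hg, hg'⟩ := Subgroup.mem_inf.mp hgm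
  rw [mem_conjSMul] at hg'
  rw [Subgroup.mem_bot]
  refine Units.ext (Matrix.ext fun i j => ?_)
  rcases lt_trichotomy i j with h | h | h
  · have h1 := hg' (show (id j.rev : Fin n) < id i.rev from Fin.rev_lt_rev.mpr h)
    have e : (((w0 n F)⁻¹ * g * w0 n F : GL (Fin n) F) : Matrix (Fin n) (Fin n) F) i.rev j.rev =
        g.val i j := by
      rw [w0, mul_permGL_apply, ← map_inv]
      have : i.rev = (Fin.revPerm⁻¹ : Equiv.Perm (Fin n)) i := rfl
      rw [this, permGL_mul_apply]
      simp
    rw [Units.val_one, Matrix.one_apply_ne h.ne, ← e]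
    exact h1
  · subst h
    have hne : g.val i i ≠ 0 := by
      have hd := Matrix.GeneralLinearGroup.det_ne_zero g
      rw [Matrix.det_of_upperTriangular hg] at hd
      exact Finset.prod_ne_zero_iff.mp hd i (Finset.mem_univ i)
    rw [eq_one_of_ne_zero hF hne, Units.val_one, Matrix.one_apply_eq]
  · rw [Units.val_one, Matrix.one_apply_ne (ne_of_gt h)]
    exact hg h

theorem toGL_bijective (hF : Nat.card F = 2) :
    Function.Bijective (Matrix.SpecialLinearGroup.toGL : Matrix.SpecialLinearGroup (Fin n) F →* GL (Fin n) F) := by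
  refine ⟨fun a b h => Subtype.ext (congrArg Units.val h), fun g => ⟨⟨g.val, ?_⟩, Units.ext rfl⟩⟩
  exact eq_one_of_ne_zero hF (Matrix.GeneralLinearGroup.det_ne_zero g)

theorem conj_smul_smul {G : Type*} [Group G] (a b : G) (H : Subgroup G) :
    MulAut.conj a • MulAut.conj b • H = MulAut.conj (a * b) • H := by
  rw [smul_smul, map_mul]

theorem normalizer_conj_le {G : Type*} [Group G] {U H : Subgroup G} {c : G}
    (h : ∀ g, MulAut.conj g • U = U → g ∈ H) {g : G}
    (hg : MulAut.conj g • MulAut.conj c • U = MulAut.conj c • U) : g ∈ MulAut.conj c • H := by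
  refine mem_conjSMul.mpr (h _ ?_)
  rw [conj_smul_smul] at hg
  rw [mul_assoc, ← conj_smul_smul, hg, conj_smul_smul, inv_mul_cancel, map_one, one_smul]

/-- Let n ≥ 4 and let G be a finite group with a normal subgroup N of index 2 isomorphic to SL(n,2) and with trivial centralizer in G (so G is the extension of the simple group L_n(2) by its inverse-transpose automorphism, its full automorphism group). Then any two Sylow 2-subgroups of G have a non-trivial intersection: for a Sylow 2-subgroup H and every x ∈ G, H ∩ H^x ≠ 1. -/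
theorem result {G : Type*} [Group G] [Finite G] {n : ℕ} (hn : 4 ≤ n) (N : Subgroup G) [N.Normal]
    (e : N ≃* Matrix.SpecialLinearGroup (Fin n) (ZMod 2)) (hidx : N.index = 2)
    (hC : Subgroup.centralizer (N : Set G) = ⊥)
    (H : Sylow 2 G) (x : G) :
    (H : Subgroup G) ⊓ MulAut.conj x • (H : Subgroup G) ≠ ⊥ := by
  classical
  have hF : Nat.card (ZMod 2) = 2 := Nat.card_zmod 2
  let φ : N ≃* GL (Fin n) (ZMod 2) := e.trans (MulEquiv.ofBijective _ (toGL_bijective hF))
  let U : Subgroup G := (upperTriangularGL n (ZMod 2)).map (N.subtype.comp φ.symm.toMonoidHom)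
  have hinj : Function.Injective (N.subtype.comp φ.symm.toMonoidHom) :=
    N.subtype_injective.comp φ.symm.injective
  have hUN : U ≤ N := by rintro _ ⟨u, -, rfl⟩; exact (φ.symm u).2
  have htr : ∀ {A : Subgroup (GL (Fin n) (ZMod 2))} {a : N},
      MulAut.conj (a : G) • A.map (N.subtype.comp φ.symm.toMonoidHom) =
        (MulAut.conj (φ a) • A).map (N.subtype.comp φ.symm.toMonoidHom) := by
    intro A a
    ext x
    rw [mem_conjSMul]
    constructor
    · rintro ⟨u, hu, hx⟩
      refine ⟨φ a * u * (φ a)⁻¹, mem_conjSMul.mpr (by simpa [mul_assoc] using hu), ?_⟩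
      show ((φ.symm (φ a * u * (φ a)⁻¹) : N) : G) = x
      have hx' : ((φ.symm u : N) : G) = (a : G)⁻¹ * x * a := hx
      simp [hx', mul_assoc]
    · rintro ⟨u, hu, hx⟩
      refine ⟨(φ a)⁻¹ * u * φ a, mem_conjSMul.mp hu, ?_⟩
      show ((φ.symm ((φ a)⁻¹ * u * φ a) : N) : G) = _
      have hx' : ((φ.symm u : N) : G) = x := hx
      simp [hx']
  have hUp : IsPGroup 2 U := (upper_isPGroup hF).map _
  have hself : ∀ g ∈ N, MulAut.conj g • U = U → g ∈ U := by
    intro g hg hgU
    have h1 := (htr (A := upperTriangularGL n (ZMod 2)) (a := ⟨g, hg⟩)).symm.trans hgU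
    exact ⟨_, mem_of_normalize (Subgroup.map_injective hinj h1), by simp⟩
  -- `U` is a Sylow subgroup of `N`
  have hUS : ∃ S : Sylow 2 N, (S : Subgroup N) = U.subgroupOf N := by
    have hp : IsPGroup 2 (U.subgroupOf N) :=
      hUp.of_equiv (Subgroup.subgroupOfEquivOfLe hUN).symm
    obtain ⟨S, hS⟩ := hp.exists_le_sylow
    refine ⟨S, le_antisymm (fun s hs => ?_) hS⟩
    by_contra hns
    have hlt : (U.subgroupOf N).subgroupOf (S : Subgroup N) < ⊤ :=
      lt_top_iff_ne_top.mpr fun h => hns (Subgroup.mem_subgroupOf.mp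
        (h ▸ (Subgroup.mem_top (⟨s, hs⟩ : (S : Subgroup N)))))
    haveI : Group.IsNilpotent (S : Subgroup N) := S.2.isNilpotent
    obtain ⟨t, ht, htn⟩ := SetLike.exists_of_lt (Group.normalizerCondition_of_isNilpotent _ hlt)
    refine htn (Subgroup.mem_subgroupOf.mpr (Subgroup.mem_subgroupOf.mpr (hself _ (t : N).2 ?_)))
    ext x
    rw [mem_conjSMul]
    constructor
    · intro hx
      have hxN : x ∈ N := by
        have := N.mul_mem (N.mul_mem (t : N).2 (hUN hx)) (N.inv_mem (t : N).2)
        simpa [mul_assoc] using this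
      have hy := hUN hx
      have key := (Subgroup.mem_normalizer_iff.mp ht ⟨⟨_, hy⟩, hS hx⟩).mp hx
      change ((t : N) : G) * (((t : N) : G)⁻¹ * x * (t : N)) * ((t : N) : G)⁻¹ ∈ U at key
      simpa [mul_assoc] using key
    · intro hx
      have key := (Subgroup.mem_normalizer_iff'.mp ht
        (t⁻¹ * ⟨⟨x, hUN hx⟩, hS hx⟩)).mpr (by
          show ((t : N) : G) * (((t : N) : G)⁻¹ * x) ∈ U
          rw [mul_inv_cancel_left]; exact hx)
      exact key
  obtain ⟨S0, hS0⟩ := hUS
  have hfrat : ∀ g : G, ∃ a : N, MulAut.conj g • U = MulAut.conj (a : G) • U := by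
    intro g
    have hle : MulAut.conj g • U ≤ N := by
      intro x hx
      have := ‹N.Normal›.conj_mem _ (hUN (mem_conjSMul.mp hx)) g
      simpa [mul_assoc] using this
    have hp : IsPGroup 2 ((MulAut.conj g • U).subgroupOf N) :=
      (hUp.of_equiv (Subgroup.equivSMul (MulAut.conj g) U)).of_equiv (Subgroup.subgroupOfEquivOfLe hle).symm
    obtain ⟨S, hS⟩ := hp.exists_le_sylow
    obtain ⟨a, ha⟩ := MulAction.exists_smul_eq N S0 S
    refine ⟨a, SetLike.ext' (Set.eq_of_subset_of_ncard_le ?_ ?_)⟩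
    · intro x hx
      have h1 := hS (show (⟨x, hle hx⟩ : N) ∈ (MulAut.conj g • U).subgroupOf N from hx)
      rw [← ha] at h1
      change (⟨x, hle hx⟩ : N) ∈ MulAut.conj a • (S0 : Subgroup N) at h1
      rw [mem_conjSMul, hS0] at h1
      exact mem_conjSMul.mpr h1
    · rw [← Nat.card_coe_set_eq, ← Nat.card_coe_set_eq]
      exact le_of_eq ((Nat.card_congr (Subgroup.equivSMul (MulAut.conj (a : G)) U).toEquiv).symm.trans
        (Nat.card_congr (Subgroup.equivSMul (MulAut.conj g) U).toEquiv))
  obtain ⟨τ, hτU, hτN⟩ : ∃ τ : G, MulAut.conj τ • U = U ∧ τ ∉ N := by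
    obtain ⟨g, hg⟩ : ∃ g : G, g ∉ N := by
      by_contra hc
      push Not at hc
      rw [(Subgroup.eq_top_iff' N).mpr hc, Subgroup.index_top] at hidx
      omega
    obtain ⟨a, ha⟩ := hfrat g
    refine ⟨(a : G)⁻¹ * g, ?_, fun h => hg (by simpa using N.mul_mem a.2 h)⟩
    rw [← conj_smul_smul, ha, conj_smul_smul, inv_mul_cancel, map_one, one_smul]
  -- the normaliser of `U`
  let K : Subgroup G :=
    { carrier := {g | MulAut.conj g • U = U}
      mul_mem' := fun {a b} ha hb => by
        show MulAut.conj (a * b) • U = U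
        rw [← conj_smul_smul, (hb : MulAut.conj b • U = U), (ha : MulAut.conj a • U = U)]
      one_mem' := by show MulAut.conj (1 : G) • U = U; rw [map_one, one_smul]
      inv_mem' := fun {a} ha => by
        show MulAut.conj a⁻¹ • U = U
        conv_lhs => rw [← (ha : MulAut.conj a • U = U)]
        rw [conj_smul_smul, inv_mul_cancel, map_one, one_smul] }
  have hK : IsPGroup 2 K := by
    intro k
    obtain ⟨m, hm⟩ := hUp ⟨(k : G) ^ 2, hself _
      (by simpa [sq] using Subgroup.mul_self_mem_of_index_two hidx (k : G)) (K.pow_mem k.2 2)⟩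
    refine ⟨m + 1, Subtype.ext ?_⟩
    have := congrArg Subtype.val hm
    simp only [SubmonoidClass.coe_pow, OneMemClass.coe_one, ← pow_mul, ← pow_succ'] at this
    simpa using this
  obtain ⟨P, hP⟩ := hK.exists_le_sylow
  obtain ⟨c, hc⟩ := MulAction.exists_smul_eq G P H
  have hH : (H : Subgroup G) = MulAut.conj c • (P : Subgroup G) := by rw [← hc]; rfl
  have hUP : U ≤ (P : Subgroup G) := fun u hu => hP (by
    show MulAut.conj u • U = U
    ext x
    rw [mem_conjSMul]
    exact ⟨fun h => by simpa [mul_assoc] using U.mul_mem (U.mul_mem hu h) (U.inv_mem hu),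
      fun h => U.mul_mem (U.mul_mem (U.inv_mem hu) h) hu⟩)
  rw [hH, conj_smul_smul]
  by_contra hbot
  have hAB : MulAut.conj c • U ⊓ MulAut.conj (x * c) • U = ⊥ := eq_bot_iff.mpr (hbot ▸
    inf_le_inf (Subgroup.pointwise_smul_le_pointwise_smul_iff.mpr hUP)
      (Subgroup.pointwise_smul_le_pointwise_smul_iff.mpr hUP))
  obtain ⟨a, ha⟩ := hfrat c
  obtain ⟨b, hb⟩ := hfrat (x * c)
  -- pairs of opposite conjugates
  have hopp : ∀ d : N, U ⊓ MulAut.conj (d : G) • U = ⊥ → ∃ u : N, (u : G) ∈ U ∧
      MulAut.conj (d : G) • U = MulAut.conj (u : G) •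
        ((MulAut.conj (w0 n (ZMod 2)) • upperTriangularGL n (ZMod 2)).map (N.subtype.comp φ.symm.toMonoidHom)) := by
    intro d hd
    rw [htr, ← Subgroup.map_inf _ _ _ hinj, Subgroup.map_eq_bot_iff_of_injective _ hinj] at hd
    obtain ⟨u, hu, v, hv, huv⟩ := exists_of_meet hd
    refine ⟨φ.symm u, ⟨u, hu, rfl⟩, ?_⟩
    have hv' : MulAut.conj v • upperTriangularGL n (ZMod 2) = upperTriangularGL n (ZMod 2) := by
      ext y
      rw [mem_conjSMul]
      exact ⟨fun h => by simpa [mul_assoc] using mul_mem (mul_mem hv h) (inv_mem hv),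
        fun h => mul_mem (mul_mem (inv_mem hv) h) hv⟩
    rw [htr, htr, MulEquiv.apply_symm_apply, huv, ← conj_smul_smul, hv', conj_smul_smul]
  set L : Subgroup G :=
    (MulAut.conj (w0 n (ZMod 2)) • upperTriangularGL n (ZMod 2)).map (N.subtype.comp φ.symm.toMonoidHom)
    with hL
  have hUL : U ⊓ L = ⊥ := by
    rw [hL, ← Subgroup.map_inf _ _ _ hinj, lower_meet hF, Subgroup.map_bot]
  -- an element outside `N` fixing both
  obtain ⟨z, hzN, hzU, hzL⟩ : ∃ z : G, z ∉ N ∧ MulAut.conj z • U = U ∧ MulAut.conj z • L = L := by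
    have hL' : L = MulAut.conj ((φ.symm (w0 n (ZMod 2)) : N) : G) • U := by
      rw [htr, MulEquiv.apply_symm_apply]
    obtain ⟨d, hd⟩ := hfrat (τ * (φ.symm (w0 n (ZMod 2)) : N))
    have hmeet : U ⊓ MulAut.conj (d : G) • U = ⊥ := by
      rw [← hd, ← conj_smul_smul, ← hL']
      nth_rewrite 1 [← hτU]
      rw [← Subgroup.smul_inf, hUL, Subgroup.smul_bot]
    obtain ⟨u, huU, hu⟩ := hopp d hmeet
    rw [← hd, ← conj_smul_smul, ← hL'] at hu
    refine ⟨(u : G)⁻¹ * τ, fun h => hτN (by simpa using N.mul_mem u.2 h), ?_, ?_⟩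
    · rw [← conj_smul_smul, hτU]
      ext y
      rw [mem_conjSMul, inv_inv]
      exact ⟨fun h => by simpa [mul_assoc] using U.mul_mem (U.mul_mem (U.inv_mem huU) h) huU,
        fun h => U.mul_mem (U.mul_mem huU h) (U.inv_mem huU)⟩
    · rw [← conj_smul_smul, hu, conj_smul_smul, inv_mul_cancel, map_one, one_smul]
  have hd : U ⊓ MulAut.conj ((a⁻¹ * b : N) : G) • U = ⊥ := by
    rw [ha, hb] at hAB
    have h := congrArg (fun A => MulAut.conj (a : G)⁻¹ • A) hAB
    simpa only [Subgroup.smul_inf, conj_smul_smul, inv_mul_cancel, map_one, one_smul, Subgroup.smul_bot,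
      Subgroup.coe_mul, Subgroup.coe_inv] using h
  obtain ⟨u, huU, hu⟩ := hopp _ hd
  set g : G := (a : G) * u with hg
  have hA : MulAut.conj g • U = MulAut.conj c • U := by
    rw [ha, hg, ← conj_smul_smul]
    congr 1
    ext y
    rw [mem_conjSMul]
    exact ⟨fun h => by simpa [mul_assoc] using U.mul_mem (U.mul_mem huU h) (U.inv_mem huU),
      fun h => U.mul_mem (U.mul_mem (U.inv_mem huU) h) huU⟩
  have hB : MulAut.conj g • L = MulAut.conj (x * c) • U := by
    rw [hb, hg, ← conj_smul_smul, ← hu, conj_smul_smul, Subgroup.coe_mul, Subgroup.coe_inv, mul_inv_cancel_left]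
  set y : G := g * z * g⁻¹ with hy
  have hy1 : y ∉ N := fun h => hzN (by
    simpa [hy, mul_assoc] using ‹N.Normal›.conj_mem _ h g⁻¹)
  have hkey : ∀ {A : Subgroup G}, MulAut.conj z • A = A → MulAut.conj y • MulAut.conj g • A = MulAut.conj g • A := by
    intro A hA'
    rw [conj_smul_smul, hy, inv_mul_cancel_right, ← conj_smul_smul, hA']
  have hyA := hA ▸ hkey hzU
  have hyB := hB ▸ hkey hzL
  have hy2 : y ≠ 1 := fun h => hy1 (h ▸ N.one_mem)
  refine hy2 (Subgroup.mem_bot.mp (hbot ▸ ⟨?_, ?_⟩))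
  · exact normalizer_conj_le (fun g hg => hP hg) hyA
  · exact normalizer_conj_le (fun g hg => hP hg) hyB

end Cfsg.Agent.S2486
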